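import Groth.Agent.Lib.RootChN_helper8
import Groth.Agent.Lib.ConvMin_helper8
import Mathlib.LinearAlgebra.FiniteDimensional.Basic

set_option autoImplicit false

/-!
# Chambers of a root system, XV: the solid of a complementary convex solid as an intersection of
half spaces, semi-stability, existence and uniqueness of the special facet (helper8)
-/

namespace Groth.Agent.Lib.RootChO_helper8

open RootCh Set RootPairing Groth.Agent.Lib.RootChA_helper8 Groth.Agent.Lib.RootChB_helper8
  Groth.Agent.Lib.RootChC_helper8 Groth.Agent.Lib.RootChD_helper8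
  Groth.Agent.Lib.RootChE_helper8 Groth.Agent.Lib.RootChF_helper8
  Groth.Agent.Lib.RootChG_helper8
  Groth.Agent.Lib.RootChH_helper8 Groth.Agent.Lib.RootChI_helper8
  Groth.Agent.Lib.RootChJ_helper8 Groth.Agent.Lib.RootChK_helper8
  Groth.Agent.Lib.RootChL_helper8 Groth.Agent.Lib.RootChM_helper8
  Groth.Agent.Lib.RootChN_helper8 Groth.Agent.Lib.ConvMin_helper8
open scoped Classical

variable {ι R M N : Type*} [Field R] [LinearOrder R] [IsStrictOrderedRing R]
  [AddCommGroup M] [Module R M] [AddCommGroup N] [Module R N] [Finite ι]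
  {P : RootPairing ι R M N} [P.IsRootSystem] [P.IsCrystallographic] [P.IsReduced]

/-! ### Finiteness -/

omit [Field R] [LinearOrder R] [IsStrictOrderedRing R] [P.IsRootSystem] [P.IsCrystallographic]
  [P.IsReduced] in
lemma finite_base {R : Type*} [CommRing R] [Module R M] [Module R N]
    (P : RootPairing ι R M N) : Finite P.Base := by
  apply Finite.of_injective (fun b : P.Base => b.support)
  intro b b' h
  cases b
  cases b'
  simp only [RootPairing.Base.mk.injEq]
  exact h

omit [LinearOrder R] [IsStrictOrderedRing R] [P.IsCrystallographic] [P.IsReduced] in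
lemma finiteDimensional_N (P : RootPairing ι R M N) [P.IsRootSystem] : Module.Finite R N := by
  have h : (⊤ : Submodule R N).FG := by
    rw [← IsRootSystem.span_coroot_eq_top (P := P)]
    exact Submodule.fg_span (Set.finite_range _)
  exact Module.finite_def.mpr h

/-! ### The canonical invariant scalar product on the coweight space -/

section Form

variable [Fintype ι]

omit [Finite ι] [P.IsRootSystem] [P.IsCrystallographic] [P.IsReduced] in
lemma corootForm_symm (y z : N) : P.flip.RootForm y z = P.flip.RootForm z y :=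
  rootForm_symm (P := P.flip) y z

omit [Finite ι] [P.IsCrystallographic] [P.IsReduced] in
lemma corootForm_pos (y : N) (hy : y ≠ 0) : 0 < P.flip.RootForm y y := by
  have h : P.flip.rootSpan R = ⊤ := IsRootSystem.span_root_eq_top
  exact P.flip.rootForm_pos_of_ne_zero (by rw [h]; exact Submodule.mem_top) hy

omit [LinearOrder R] [IsStrictOrderedRing R] [Finite ι] [P.IsRootSystem] [P.IsCrystallographic]
  [P.IsReduced] in
lemma corootForm_inv (i : ι) (y z : N) :
    P.flip.RootForm (P.coreflection i y) (P.coreflection i z) = P.flip.RootForm y z :=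
  P.flip.rootForm_reflection_reflection_apply i y z

end Form

/-- The vector of `M` representing `B y₀` has the sign vector of `y₀`. -/
lemma sgnVec_repr_eq (B : LinearMap.BilinForm R N) (hBs : ∀ y z : N, B y z = B z y)
    (hBp : ∀ y : N, y ≠ 0 → 0 < B y y)
    (hBi : ∀ (i : ι) (y z : N), B (P.coreflection i y) (P.coreflection i z) = B y z)
    {y₀ : N} {ξ₀ : M} (hξ : P.toLinearMap ξ₀ = B y₀) : sgnVec P ξ₀ = cosgnVec P y₀ := by
  funext i
  change SignType.sign (P.coroot' i ξ₀) = SignType.sign (P.root' i y₀)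
  have hne : P.coroot i ≠ 0 := fun h => by
    have h2 := P.root_coroot_two i
    rw [h, map_zero] at h2
    exact two_ne_zero h2.symm
  have hcc : 0 < B (P.coroot i) (P.coroot i) := hBp _ hne
  have e : P.coroot' i ξ₀ = (B (P.coroot i) (P.coroot i) / 2) * P.root' i y₀ := by
    have e1 : P.coroot' i ξ₀ = B y₀ (P.coroot i) := by
      change P.toLinearMap ξ₀ (P.coroot i) = _
      rw [hξ]
    rw [e1, hBs]
    have e2 := bilin_coroot_left B hBi i y₀
    field_simp
    linarith
  rw [e, sign_mul, sign_pos (half_pos hcc), one_mul]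

/-! ### Separation -/

/-- A point outside the convex hull of values of `d` can be separated from them by a vector of
`M`. -/
theorem exists_separating (d : P.Base → N) (T : Set P.Base) {y : N}
    (hy : y ∉ convexHull R (d '' T)) :
    ∃ ξ : M, ∀ b ∈ T, P.toLinearMap ξ y < P.toLinearMap ξ (d b) := by
  have : Fintype ι := Fintype.ofFinite ι
  have hfin : Module.Finite R N := finiteDimensional_N P
  have hfb : Finite P.Base := finite_base P
  have hTfin : T.Finite := Set.toFinite T
  have hcoe : (hTfin.toFinset : Set P.Base) = T := hTfin.coe_toFinset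
  obtain ⟨p, hp⟩ := exists_separation P.flip.RootForm corootForm_symm corootForm_pos d
    hTfin.toFinset y (by
      intro w hw0 hw1 hpt
      apply hy
      rw [← hcoe, mem_convexHull_image_iff]
      exact ⟨w, hw0, hw1, hpt⟩)
  refine ⟨P.toPerfPair.symm (P.flip.RootForm p), fun b hb => ?_⟩
  rw [P.toLinearMap.apply_symm_toPerfPair_self]
  exact hp b (hTfin.mem_toFinset.mpr hb)

/-- The solid contains a vector of minimal norm. -/
theorem exists_min_solid [Fintype ι] (d : P.Base → N) :
    ∃ y₀ ∈ solid d, ∀ y ∈ solid d, P.flip.RootForm y₀ y₀ ≤ P.flip.RootForm y y := by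
  have hfin : Module.Finite R N := finiteDimensional_N P
  have hfb : Finite P.Base := finite_base P
  have : Fintype P.Base := Fintype.ofFinite _
  obtain ⟨b₀⟩ := P.nonempty_base
  have hne : (Finset.univ : Finset P.Base).Nonempty := ⟨b₀, Finset.mem_univ _⟩
  obtain ⟨w, hw0, hw1, hwolfe⟩ := exists_wolfe P.flip.RootForm corootForm_symm corootForm_pos d
    _ Finset.univ rfl hne
  have hsolid : solid d = convexHull R (d '' ((Finset.univ : Finset P.Base) : Set P.Base)) := by
    unfold solid
    rw [Finset.coe_univ, Set.image_univ]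
  refine ⟨pt d Finset.univ w, ?_, ?_⟩
  · rw [hsolid, mem_convexHull_image_iff]
    exact ⟨w, hw0, hw1, rfl⟩
  · intro y hy
    rw [hsolid, mem_convexHull_image_iff] at hy
    obtain ⟨l, hl0, hl1, rfl⟩ := hy
    exact le_of_wolfe _ corootForm_symm (fun y => P.flip.zero_le_rootForm y)
      (fun k hk _ => hwolfe k hk) hl0 hl1

/-! ### Adjacent chambers in which a given vector is dominant for the Levi part -/

theorem exists_cham_dominant (F : Facet P) (ξ : M) :
    ∃ b ∈ F.cham, ∀ j ∈ b.support, F.sgn j = 0 → 0 ≤ P.coroot' j ξ := by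
  obtain ⟨ξF, hξF⟩ := F.exists_sgnVec_eq
  have hex : ∃ b : P.Base, ∀ i, b.IsPos i →
      i ∈ {i | 0 < P.coroot' i ξF ∨ (P.coroot' i ξF = 0 ∧ 0 ≤ P.coroot' i ξ)} := by
    apply exists_base_subset_of_coclosed (P := P)
    · intro i
      simp only [Set.mem_ofPred_eq]
      rw [coroot'_neg_idx, coroot'_neg_idx]
      rcases lt_trichotomy 0 (P.coroot' i ξF) with h | h | h
      · exact Or.inl (Or.inl h)
      · rcases le_total 0 (P.coroot' i ξ) with h' | h'
        · exact Or.inl (Or.inr ⟨h.symm, h'⟩)
        · exact Or.inr (Or.inr ⟨by rw [← h, neg_zero], neg_nonneg.mpr h'⟩)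
      · exact Or.inr (Or.inl (neg_pos.mpr h))
    · intro i j k hi hj hk
      simp only [Set.mem_ofPred_eq] at hi hj ⊢
      have e1 : P.coroot' k ξF = P.coroot' i ξF + P.coroot' j ξF := by
        change P.toLinearMap ξF (P.coroot k) =
          P.toLinearMap ξF (P.coroot i) + P.toLinearMap ξF (P.coroot j)
        rw [hk, map_add]
      have e2 : P.coroot' k ξ = P.coroot' i ξ + P.coroot' j ξ := by
        change P.toLinearMap ξ (P.coroot k) =
          P.toLinearMap ξ (P.coroot i) + P.toLinearMap ξ (P.coroot j)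
        rw [hk, map_add]
      rcases hi with hi | ⟨hi0, hi1⟩ <;> rcases hj with hj | ⟨hj0, hj1⟩
      · left; rw [e1]; linarith
      · left; rw [e1]; linarith
      · left; rw [e1]; linarith
      · right
        exact ⟨by rw [e1, hi0, hj0, add_zero], by rw [e2]; linarith⟩
  obtain ⟨b, hb⟩ := hex
  have hsimple : ∀ j ∈ b.support,
      0 < P.coroot' j ξF ∨ (P.coroot' j ξF = 0 ∧ 0 ≤ P.coroot' j ξ) :=
    fun j hj => hb j (b.isPos_of_mem_support hj)
  refine ⟨b, ?_, ?_⟩
  · rw [mem_cham_iff]
    intro j hj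
    rw [← hξF, sgnVec_ne_neg_one_iff]
    rcases hsimple j hj with h | ⟨h, -⟩
    · exact h.le
    · exact h.ge
  · intro j hj h0
    rw [← hξF, sgnVec_eq_zero_iff] at h0
    rcases hsimple j hj with h | ⟨-, h⟩
    · rw [h0] at h
      exact absurd h (lt_irrefl _)
    · exact h

/-! ### S14238 -/

theorem dualSolid_eq (d : P.Base → N) (hd : IsCCS d) (F : Facet P) :
    dualSolid d F =
      (⋂ m ∈ F.corners, hyper d m) ∩ ⋂ m ∈ F.corners', halfClosed d m := by
  apply Set.Subset.antisymm
  · intro y hy
    refine ⟨?_, ?_⟩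
    · simp only [Set.mem_iInter]
      intro m hm
      exact mem_hyper_of_mem_dualSolid d hd F hm hy
    · simp only [Set.mem_iInter]
      intro m _ b' hb'
      exact pairing_le_of_mem_solid d hd hb' (dualSolid_subset_solid d F hy)
  · rintro y ⟨hy1, hy2⟩
    simp only [Set.mem_iInter] at hy1 hy2
    by_contra hnot
    obtain ⟨ξ, hξ⟩ := exists_separating d F.cham hnot
    obtain ⟨b, hb, hdom⟩ := exists_cham_dominant F ξ
    have h1 := hξ b hb
    have h2 : P.toLinearMap ξ (d b) ≤ P.toLinearMap ξ y := by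
      rw [pairing_expand b ξ (d b), pairing_expand b ξ y]
      apply Finset.sum_le_sum
      intro j _
      have hjb : fundWeight b j ∈ baseCorners b := by
        rw [baseCorners_eq_range]; exact ⟨j, rfl⟩
      rcases signType_cases (F.sgn j) with h | h | h
      · apply mul_le_mul_of_nonneg_left _ (hdom j j.2 h)
        have hm : fundWeight b j ∈ F.corners' := by
          simp only [Facet.corners', Set.mem_iUnion]
          exact ⟨b, hb, hjb⟩
        exact hy2 _ hm b hjb
      · have hm : fundWeight b j ∈ F.corners := by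
          rw [corners_eq F hb]; exact ⟨j, h, rfl⟩
        rw [hy1 _ hm b hjb]
      · exact absurd h ((mem_cham_iff F b).mp hb j j.2)
    linarith

/-! ### Semi-stability: S14239, S14240, S14241 -/

theorem forall_corner_nonpos_iff (d : P.Base → N) (hd : IsCCS d) :
    (∀ (b : P.Base), ∀ m ∈ baseCorners b, P.toLinearMap m (d b) ≤ 0) ↔ IsSemistable d := by
  constructor
  · intro h
    by_contra hnot
    have hnot' : (0 : N) ∉ convexHull R (d '' Set.univ) := by
      rw [Set.image_univ]; exact hnot
    obtain ⟨ξ, hξ⟩ := exists_separating d Set.univ hnot'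
    obtain ⟨b, hb⟩ := exists_base_mem_closedChamber (P := P) ξ
    have h1 := hξ b (Set.mem_univ _)
    rw [map_zero] at h1
    have h2 : P.toLinearMap ξ (d b) ≤ 0 := by
      rw [pairing_expand b ξ (d b)]
      apply Finset.sum_nonpos
      intro j _
      exact mul_nonpos_of_nonneg_of_nonpos (hb j j.2)
        (h b _ (by rw [baseCorners_eq_range]; exact ⟨j, rfl⟩))
    linarith
  · intro h b m hm
    have h1 := pairing_le_of_mem_solid d hd hm h
    rwa [map_zero] at h1

lemma deg_nonpos_of_isSemistable (d : P.Base → N) (hd : IsCCS d) (h : IsSemistable d)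
    (F : Facet P) (b : P.Base) (hb : b ∈ F.cham) : F.deg d b ≤ 0 := by
  rw [deg_eq_pairing]
  have h1 := pairing_le_of_mem_closedChamber d hd (hb (sum_parab_mem_carrier F)) h
  rwa [map_zero] at h1

lemma corner_nonpos_of_deg (d : P.Base → N)
    (h : ∀ (F : Facet P) (b : P.Base), F.dim = 1 → b ∈ F.cham → F.deg d b ≤ 0)
    (b : P.Base) (m : M) (hm : m ∈ baseCorners b) : P.toLinearMap m (d b) ≤ 0 := by
  rw [baseCorners_eq_range] at hm
  obtain ⟨j, rfl⟩ := hm
  have hbF : b ∈ (facetOfSubset b {j}).cham := mem_cham_facetOfSubset b {j}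
  have hsgn : ∀ k : b.support, (facetOfSubset b {j}).sgn k = 1 ↔ k = j := fun k => by
    rw [sgn_facetOfSubset, Finset.mem_singleton]
  have hdim : (facetOfSubset b {j}).dim = 1 := by
    unfold Facet.dim
    rw [span_carrier_eq_span_corners, corners_facetOfSubset]
    have himg : fundWeight b '' ((({j} : Finset b.support)) : Set b.support) =
        {fundWeight b j} := by
      ext x
      constructor
      · rintro ⟨k, hk, rfl⟩
        rw [Finset.mem_coe, Finset.mem_singleton] at hk
        rw [hk]
        exact rfl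
      · intro hx
        rw [Set.mem_singleton_iff] at hx
        exact ⟨j, by rw [Finset.mem_coe]; exact Finset.mem_singleton_self j, hx.symm⟩
    rw [himg]
    exact finrank_span_singleton (fundWeight_ne_zero b j)
  have hdeg := h _ b hdim hbF
  rw [deg_eq_pairing] at hdeg
  have hη := sum_parab_mem_carrier (facetOfSubset b {j})
  have hfilter : Finset.univ.filter (fun k : b.support => (facetOfSubset b {j}).sgn k = 1) =
      {j} := by
    ext k
    simp only [Finset.mem_filter, Finset.mem_univ, true_and, Finset.mem_singleton]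
    exact hsgn k
  have hexp := eq_sum_of_mem_carrier (facetOfSubset b {j}) hbF hη
  rw [hfilter, Finset.sum_singleton] at hexp
  have hpos : 0 < P.coroot' (j : ι)
      (∑ i ∈ (Set.toFinite (facetOfSubset b {j}).parab).toFinset, P.root i) :=
    (((mem_carrier_iff _ hbF _).mp hη).2 j).mpr ((hsgn j).mpr rfl)
  have hdeg' : P.coroot' (j : ι)
      (∑ i ∈ (Set.toFinite (facetOfSubset b {j}).parab).toFinset, P.root i) *
      P.toLinearMap (fundWeight b j) (d b) ≤ 0 := by
    have h1 : P.toLinearMap
        (∑ i ∈ (Set.toFinite (facetOfSubset b {j}).parab).toFinset, P.root i) (d b) =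
        P.toLinearMap (P.coroot' (j : ι)
          (∑ i ∈ (Set.toFinite (facetOfSubset b {j}).parab).toFinset, P.root i) •
            fundWeight b j) (d b) := by
      rw [← hexp]
    rw [h1, map_smul, LinearMap.smul_apply, smul_eq_mul] at hdeg
    exact hdeg
  by_contra hcon
  have h2 := mul_pos hpos (not_le.mp hcon)
  linarith

theorem forall_deg_nonpos_of_dim_one_iff (d : P.Base → N) (hd : IsCCS d) :
    (∀ (F : Facet P) (b : P.Base), F.dim = 1 → b ∈ F.cham → F.deg d b ≤ 0) ↔
      IsSemistable d :=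
  ⟨fun h => (forall_corner_nonpos_iff d hd).mp (corner_nonpos_of_deg d h),
    fun h F b _ hb => deg_nonpos_of_isSemistable d hd h F b hb⟩

theorem forall_deg_nonpos_iff (d : P.Base → N) (hd : IsCCS d) :
    (∀ (F : Facet P) (b : P.Base), b ∈ F.cham → F.deg d b ≤ 0) ↔ IsSemistable d :=
  ⟨fun h => (forall_deg_nonpos_of_dim_one_iff d hd).mp (fun F b _ hb => h F b hb),
    fun h F b hb => deg_nonpos_of_isSemistable d hd h F b hb⟩

/-! ### The vector of minimal norm and the special facet: S14245, S14246, S14247 -/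

omit [Finite ι] [P.IsRootSystem] [P.IsCrystallographic] [P.IsReduced] in
/-- The variational inequality at a vector of minimal norm of a convex set. -/
lemma variational (B : LinearMap.BilinForm R N) (hBs : ∀ y z : N, B y z = B z y)
    (hBp : ∀ y : N, y ≠ 0 → 0 < B y y) {S : Set N} (hS : Convex R S) {y₀ : N} (hy₀ : y₀ ∈ S)
    (hmin : ∀ y ∈ S, B y₀ y₀ ≤ B y y) {y : N} (hy : y ∈ S) : B y₀ y₀ ≤ B y₀ y := by
  by_contra hlt
  have hpt : pt (fun c : Bool => if c = true then y else y₀) Finset.univ
      (fun c => if c = false then (1 : R) else 0) = y₀ := by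
    rw [pt_single _ _ (Finset.mem_univ false), one_smul]
    simp
  have hlt' : B (pt (fun c : Bool => if c = true then y else y₀) Finset.univ
      (fun c => if c = false then (1 : R) else 0)) ((fun c : Bool => if c = true then y else y₀) true) <
      B (pt (fun c : Bool => if c = true then y else y₀) Finset.univ
        (fun c => if c = false then (1 : R) else 0))
        (pt (fun c : Bool => if c = true then y else y₀) Finset.univ
        (fun c => if c = false then (1 : R) else 0)) := by
    rw [hpt]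
    simpa using not_le.mp hlt
  obtain ⟨l, hl0, hl1, hll⟩ := exists_improve B hBs hBp
    (fun c : Bool => if c = true then y else y₀) Finset.univ
    (w := fun c => if c = false then (1 : R) else 0)
    (fun c _ => by split_ifs <;> simp)
    (sum_single Finset.univ (Finset.mem_univ false) 1) (Finset.mem_univ true) hlt'
  rw [hpt] at hll
  have hmem : pt (fun c : Bool => if c = true then y else y₀) Finset.univ l ∈ S := by
    unfold pt
    rw [Fintype.sum_bool]
    simp only [if_true, Bool.false_eq_true, if_false]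
    rw [Fintype.sum_bool] at hl1
    exact hS hy hy₀ (hl0 true (Finset.mem_univ _)) (hl0 false (Finset.mem_univ _)) hl1
  exact absurd (hmin _ hmem) (not_le.mpr hll)

/-- **S14245**. -/
theorem isSpecial_of_isMin (d : P.Base → N) (hd : IsCCS d)
    (B : LinearMap.BilinForm R N) (hBs : ∀ y z : N, B y z = B z y)
    (hBp : ∀ y : N, y ≠ 0 → 0 < B y y)
    (hBi : ∀ (i : ι) (y z : N), B (P.coreflection i y) (P.coreflection i z) = B y z)
    (y₀ : N) (hy₀ : y₀ ∈ solid d) (hmin : ∀ y ∈ solid d, B y₀ y₀ ≤ B y y)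
    (F : Facet P) (hF : y₀ ∈ F.dualCarrier) :
    IsSpecial d F ∧ yLocus d F = {y₀} := by
  obtain ⟨b, hb⟩ := exists_mem_cham F
  obtain ⟨ξ₀, hξ⟩ : ∃ ξ₀ : M, P.toLinearMap ξ₀ = B y₀ :=
    ⟨P.toPerfPair.symm (B y₀), P.toLinearMap.apply_symm_toPerfPair_self _⟩
  have hξF : ξ₀ ∈ F.carrier := mem_carrier_of_repr B hBs hBp hBi F hF hξ
  have hvar : ∀ y ∈ solid d, B y₀ y₀ ≤ B y₀ y := fun y hy =>
    variational B hBs hBp (convex_convexHull R _) hy₀ hmin hy
  have hdb : d b ∈ solid d := subset_convexHull R _ ⟨b, rfl⟩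
  have hhyp : ∀ m ∈ F.corners, y₀ ∈ hyper d m := by
    intro m hm b' hb'
    rw [← hd.corner_eq b b' m (corners_subset_baseCorners F hb hm) hb']
    rw [corners_eq F hb] at hm
    obtain ⟨j, hj, rfl⟩ := hm
    have hexp := eq_sum_of_mem_carrier F hb hξF
    have hpos : ∀ k : b.support, F.sgn k = 1 → 0 < P.coroot' (k : ι) ξ₀ := fun k hk =>
      (((mem_carrier_iff F hb ξ₀).mp hξF).2 k).mpr hk
    have e1 : ∀ x : N, P.toLinearMap ξ₀ x =
        ∑ k ∈ Finset.univ.filter (fun k : b.support => F.sgn k = 1),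
          P.coroot' (k : ι) ξ₀ * P.toLinearMap (fundWeight b k) x := by
      intro x
      have h0 : P.toLinearMap ξ₀ x = P.toLinearMap
          (∑ k ∈ Finset.univ.filter (fun k : b.support => F.sgn k = 1),
            P.coroot' (k : ι) ξ₀ • fundWeight b k) x := by
        rw [← hexp]
      rw [h0, map_sum, LinearMap.sum_apply]
      refine Finset.sum_congr rfl fun k _ => ?_
      rw [map_smul, LinearMap.smul_apply, smul_eq_mul]
    have hterm : ∀ k ∈ Finset.univ.filter (fun k : b.support => F.sgn k = 1),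
        P.coroot' (k : ι) ξ₀ * P.toLinearMap (fundWeight b k) (d b) ≤
          P.coroot' (k : ι) ξ₀ * P.toLinearMap (fundWeight b k) y₀ := by
      intro k hk
      apply mul_le_mul_of_nonneg_left _ (hpos k (Finset.mem_filter.mp hk).2).le
      exact pairing_le_of_mem_solid d hd (by rw [baseCorners_eq_range]; exact ⟨k, rfl⟩) hy₀
    have hsum : P.toLinearMap ξ₀ y₀ ≤ P.toLinearMap ξ₀ (d b) := by
      rw [hξ]
      exact hvar _ hdb
    rw [e1 y₀, e1 (d b)] at hsum
    have hall := (Finset.sum_eq_sum_iff_of_le hterm).mp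
      (le_antisymm (Finset.sum_le_sum hterm) hsum)
    have hj' := hall j (Finset.mem_filter.mpr ⟨Finset.mem_univ _, hj⟩)
    exact (mul_left_cancel₀ (hpos j hj).ne' hj').symm
  have hmem : y₀ ∈ dualSolid d F := by
    rw [dualSolid_eq d hd F]
    refine ⟨?_, ?_⟩
    · simp only [Set.mem_iInter]
      exact hhyp
    · simp only [Set.mem_iInter]
      intro m _ b' hb'
      exact pairing_le_of_mem_solid d hd hb' hy₀
  have hsp : IsSpecial d F := ⟨y₀, hF, hmem⟩
  refine ⟨hsp, ?_⟩
  obtain ⟨y₁, hL, hI⟩ := exists_yLocus_eq d hd F hsp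
  have h1 : y₀ ∈ F.dualCarrier ∩ dualSolid d F := ⟨hF, hmem⟩
  rw [hI] at h1
  rw [hL, Set.mem_singleton_iff.mp h1]

/-- **S14246**. -/
theorem existsUnique_isSpecial (d : P.Base → N) (hd : IsCCS d) :
    ∃! F : Facet P, IsSpecial d F := by
  have : Fintype ι := Fintype.ofFinite ι
  obtain ⟨y₀, hy₀, hmin⟩ := exists_min_solid d
  obtain ⟨ξ₀, hξ⟩ : ∃ ξ₀ : M, P.toLinearMap ξ₀ = P.flip.RootForm y₀ :=
    ⟨P.toPerfPair.symm (P.flip.RootForm y₀), P.toLinearMap.apply_symm_toPerfPair_self _⟩
  have hsgn : sgnVec P ξ₀ = cosgnVec P y₀ :=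
    sgnVec_repr_eq P.flip.RootForm corootForm_symm corootForm_pos corootForm_inv hξ
  have hF : y₀ ∈ (Facet.ofVec P ξ₀).dualCarrier := hsgn.symm
  have hsp := (isSpecial_of_isMin d hd P.flip.RootForm corootForm_symm corootForm_pos
    corootForm_inv y₀ hy₀ hmin _ hF).1
  refine ⟨Facet.ofVec P ξ₀, hsp, fun G hG => ?_⟩
  obtain ⟨b, hb⟩ := exists_mem_cham (Facet.ofVec P ξ₀)
  obtain ⟨c, hc⟩ := exists_mem_cham G
  have h1 := isGreatest_of_isSpecial d hd _ b hb hsp
  have h2 := isGreatest_of_isSpecial d hd G c hc hG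
  have hdeg : G.deg d c = (Facet.ofVec P ξ₀).deg d b :=
    le_antisymm (h1.1 G c hc) (h2.1 _ b hb)
  exact le_antisymm (h1.2 G c hc hdeg) (h2.2 _ b hb hdeg.symm)

/-- **S14247**. -/
theorem isSpecial_of_maximal (d : P.Base → N) (hd : IsCCS d)
    (F : Facet P) (b : P.Base) (hb : b ∈ F.cham)
    (hmax : ∀ (G : Facet P) (c : P.Base), c ∈ G.cham → G.deg d c ≤ F.deg d b)
    (hmaxl : ∀ (G : Facet P) (c : P.Base), c ∈ G.cham → G.deg d c = F.deg d b → F ≤ G → G = F) :
    IsSpecial d F := by
  obtain ⟨F₀, hF₀, -⟩ := existsUnique_isSpecial d hd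
  obtain ⟨b₀, hb₀⟩ := exists_mem_cham F₀
  have h0 := isGreatest_of_isSpecial d hd F₀ b₀ hb₀ hF₀
  have hdeg : F₀.deg d b₀ = F.deg d b := le_antisymm (hmax F₀ b₀ hb₀) (h0.1 F b hb)
  have hle : F ≤ F₀ := h0.2 F b hb hdeg.symm
  rw [← hmaxl F₀ b₀ hb₀ hdeg hle]
  exact hF₀

end Groth.Agent.Lib.RootChO_helper8
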