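import Mathlib

set_option autoImplicit false
set_option linter.unusedSimpArgs false
set_option linter.unusedVariables false
set_option linter.unusedSectionVars false
set_option linter.style.longLine false
set_option linter.unnecessarySimpa false
set_option maxHeartbeats 1600000

universe u v w

namespace Groth.Agent.Lib.RootComb19565

lemma exists_functional {ι' : Type*} {k : Type*} {M : Type*} [Field k] [AddCommGroup M]
    [Module k M] (v : ι' → M) (hv : LinearIndependent k v) (c : ι' → k) :
    ∃ φ : M →ₗ[k] k, ∀ i, φ (v i) = c i := by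
  let f : Submodule.span k (Set.range v) →ₗ[k] k := (Finsupp.linearCombination k c).comp hv.repr
  obtain ⟨g, hg⟩ := LinearMap.exists_extend f
  refine ⟨g, fun i => ?_⟩
  have hmem : v i ∈ Submodule.span k (Set.range v) := Submodule.subset_span ⟨i, rfl⟩
  have h1 := LinearMap.congr_fun hg ⟨v i, hmem⟩
  have h2 : g (v i) = f ⟨v i, hmem⟩ := h1
  rw [h2]
  show Finsupp.linearCombination k c (hv.repr ⟨v i, hmem⟩) = c i
  rw [hv.repr_eq_single i ⟨v i, hmem⟩ rfl, Finsupp.linearCombination_single, one_smul]

variable {ι : Type u} [Finite ι] [DecidableEq ι] {k : Type v} [Field k] [CharZero k]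
  {M : Type w} [AddCommGroup M] [Module k M] {N : Type w} [AddCommGroup N] [Module k N]
  (P : RootPairing ι k M N) [P.IsCrystallographic] [P.IsReduced] (b : P.Base)

lemma nonpos_of_mem_closure (S : Finset ι) (hS : S ⊆ b.support) (l : ι) (hl : l ∈ b.support)
    (hlS : l ∉ S) (w : M) (hw : w ∈ AddSubmonoid.closure (P.root '' (S : Set ι))) :
    ∃ z : ℤ, z ≤ 0 ∧ P.coroot' l w = (z : k) := by
  induction hw using AddSubmonoid.closure_induction with
  | mem x hx =>
    obtain ⟨i, hi, rfl⟩ := hx
    have hi' : i ∈ S := Finset.mem_coe.1 hi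
    refine ⟨P.pairingIn ℤ i l, b.pairingIn_le_zero_of_ne ?_ (hS hi') hl, ?_⟩
    · rintro rfl; exact hlS hi'
    · rw [P.root_coroot'_eq_pairing, ← P.algebraMap_pairingIn ℤ, eq_intCast]
  | zero => exact ⟨0, le_rfl, by simp⟩
  | add x y hx hy ihx ihy =>
    obtain ⟨z1, h1, e1⟩ := ihx
    obtain ⟨z2, h2, e2⟩ := ihy
    refine ⟨z1 + z2, by omega, ?_⟩
    rw [map_add, e1, e2]
    push_cast
    ring

omit [Finite ι] [DecidableEq ι] [P.IsReduced] in
lemma pairingIn_eq_of_coroot' (j l : ι) (z : ℤ) (h : P.coroot' l (P.root j) = (z : k)) :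
    P.pairingIn ℤ j l = z := by
  rw [P.root_coroot'_eq_pairing, ← P.algebraMap_pairingIn ℤ, eq_intCast] at h
  exact_mod_cast h

omit [Finite ι] [CharZero k] [P.IsCrystallographic] [P.IsReduced] in
lemma dichotomy (T : Finset ι) (i : ι) (w : M)
    (hw : w ∈ AddSubmonoid.closure (P.root '' (T : Set ι))) :
    w ∈ AddSubmonoid.closure (P.root '' ((T.erase i : Finset ι) : Set ι)) ∨
      w - P.root i ∈ AddSubmonoid.closure (P.root '' (T : Set ι)) := by
  induction hw using AddSubmonoid.closure_induction with
  | mem x hx =>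
    obtain ⟨t, ht, rfl⟩ := hx
    by_cases hti : t = i
    · right
      subst hti
      rw [sub_self]
      exact zero_mem _
    · left
      refine AddSubmonoid.subset_closure ⟨t, ?_, rfl⟩
      rw [Finset.mem_coe, Finset.mem_erase]
      exact ⟨hti, Finset.mem_coe.1 ht⟩
  | zero => left; exact zero_mem _
  | add x y hx hy ihx ihy =>
    rcases ihx with hx1 | hx2
    · rcases ihy with hy1 | hy2
      · left; exact add_mem hx1 hy1
      · right
        have e : x + y - P.root i = x + (y - P.root i) := by abel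
        rw [e]
        exact add_mem hx hy2
    · right
      have e : x + y - P.root i = (x - P.root i) + y := by abel
      rw [e]
      exact add_mem hx2 hy

omit [Finite ι] [DecidableEq ι] [CharZero k] [P.IsCrystallographic] [P.IsReduced] in
lemma phi_span (φ : M →ₗ[k] k) (I : Finset ι) (hφ : ∀ i ∈ I, φ (P.root i) = 0) (w : M)
    (hw : w ∈ Submodule.span k (P.root '' (I : Set ι))) : φ w = 0 := by
  induction hw using Submodule.span_induction with
  | mem x hx =>
    obtain ⟨i, hi, rfl⟩ := hx
    exact hφ i (Finset.mem_coe.1 hi)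
  | zero => simp
  | add x y _ _ hx hy => rw [map_add, hx, hy, add_zero]
  | smul a x _ hx => rw [map_smul, hx, smul_zero]

theorem main19565 [P.IsIrreducible]
    (I A B : Finset ι) (hcover : I ∪ A ∪ B = b.support) (hIA : Disjoint I A) (hIB : Disjoint I B)
    (hAB : Disjoint A B) (hA : A.Nonempty) (hB : B.Nonempty) :
    ∃ l ∈ A, ∃ j : ι, P.root j ∈ AddSubmonoid.closure (P.root '' ↑(I ∪ B)) ∧
      P.root j ∉ Submodule.span k (P.root '' ↑I) ∧ P.pairingIn ℤ j l < 0 := by
  by_contra hcon
  have hcon' : ∀ l ∈ A, ∀ j : ι, P.root j ∈ AddSubmonoid.closure (P.root '' ↑(I ∪ B)) →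
      P.root j ∉ Submodule.span k (P.root '' ↑I) → 0 ≤ P.pairingIn ℤ j l := by
    intro l hl j h1 h2
    by_contra h3
    exact hcon ⟨l, hl, j, h1, h2, not_le.1 h3⟩
  have hIs : I ⊆ b.support := by
    rw [← hcover]; intro x hx; simp [hx]
  have hAs : A ⊆ b.support := by
    rw [← hcover]; intro x hx; simp [hx]
  have hBs : B ⊆ b.support := by
    rw [← hcover]; intro x hx; simp [hx]
  have hTs : I ∪ B ⊆ b.support := Finset.union_subset hIs hBs
  obtain ⟨φ, hφ⟩ := exists_functional (fun x : ((b.support : Set ι)) => P.root x)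
    b.linearIndepOn_root (fun x => if (x : ι) ∈ I then (0 : k) else 1)
  have hφ' : ∀ i ∈ b.support, φ (P.root i) = if i ∈ I then (0 : k) else 1 :=
    fun i hi => hφ ⟨i, hi⟩
  have hns : ∀ (w : M) (n : ℕ), 1 ≤ n → φ w = (n : k) →
      w ∉ Submodule.span k (P.root '' (I : Set ι)) := by
    intro w n hn hw hmem
    have h0 := phi_span P φ I (fun i hi => by rw [hφ' i (hIs hi), if_pos hi]) w hmem
    rw [hw] at h0
    have : n = 0 := by exact_mod_cast h0
    omega
  set T := I ∪ B with hT
  let p : b.support → Prop := fun i => (i : ι) ∈ T ∧ ∃ j : ι,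
    P.root j ∈ AddSubmonoid.closure (P.root '' (T : Set ι)) ∧
    (∃ n : ℕ, 1 ≤ n ∧ φ (P.root j) = (n : k)) ∧
    P.root j - P.root i ∈ AddSubmonoid.closure (P.root '' (T : Set ι))
  obtain ⟨γ, hγ⟩ := hB
  obtain ⟨l, hl⟩ := hA
  have hγT : γ ∈ T := Finset.mem_union_right _ hγ
  have hpγ : p ⟨γ, hBs hγ⟩ := by
    refine ⟨hγT, γ, AddSubmonoid.subset_closure ⟨γ, Finset.mem_coe.2 hγT, rfl⟩,
      ⟨1, le_rfl, ?_⟩, ?_⟩
    · rw [hφ' γ (hBs hγ), if_neg (fun h => Finset.disjoint_left.1 hIB h hγ)]
      simp
    · show P.root γ - P.root γ ∈ _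
      rw [sub_self]
      exact zero_mem _
  have hpl : p ⟨l, hAs hl⟩ := by
    refine b.induction_on_cartanMatrix p hpγ ?_
    rintro ⟨i, hi⟩ ⟨j', hj'⟩ ⟨hiT, j, hjcl, ⟨n, hn, hφj⟩, hsub⟩ hcm
    have hiT' : i ∈ T := hiT
    have hsub' : P.root j - P.root i ∈ AddSubmonoid.closure (P.root '' (T : Set ι)) := hsub
    have hcm' : P.pairingIn ℤ j' i ≠ 0 := hcm
    have hij0 : P.pairingIn ℤ i j' ≠ 0 := fun h => hcm' (P.pairingIn_eq_zero_iff.1 h)
    by_cases hij : j' = i
    · subst hij
      exact ⟨hiT, j, hjcl, ⟨n, hn, hφj⟩, hsub⟩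
    have hineg : P.pairingIn ℤ i j' < 0 :=
      lt_of_le_of_ne (b.pairingIn_le_zero_of_ne (Ne.symm hij) hi hj') hij0
    have hdec : ∀ z1 : ℤ, P.coroot' j' (P.root j - P.root i) = (z1 : k) →
        P.pairingIn ℤ j j' = z1 + P.pairingIn ℤ i j' := by
      intro z1 ez1
      apply pairingIn_eq_of_coroot'
      have e : P.root j = (P.root j - P.root i) + P.root i := by abel
      rw [e, map_add, ez1, P.root_coroot'_eq_pairing, ← P.algebraMap_pairingIn ℤ, eq_intCast]
      push_cast
      rfl
    by_cases hj'T : j' ∈ T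
    · by_cases hsub2 : P.root j - P.root j' ∈ AddSubmonoid.closure (P.root '' (T : Set ι))
      · exact ⟨hj'T, j, hjcl, ⟨n, hn, hφj⟩, hsub2⟩
      · have hu : P.root j - P.root i ∈
            AddSubmonoid.closure (P.root '' ((T.erase j' : Finset ι) : Set ι)) := by
          rcases dichotomy P T j' _ hsub' with h | h
          · exact h
          · exfalso
            apply hsub2
            have e : P.root j - P.root j' = (P.root j - P.root i - P.root j') + P.root i := by
              abel
            rw [e]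
            exact add_mem h (AddSubmonoid.subset_closure ⟨i, Finset.mem_coe.2 hiT', rfl⟩)
        obtain ⟨z1, hz1, ez1⟩ := nonpos_of_mem_closure P b (T.erase j')
          ((Finset.erase_subset _ _).trans hTs) j' hj' (Finset.notMem_erase _ _) _ hu
        have hpair := hdec z1 ez1
        have hneg : P.pairingIn ℤ j j' < 0 := by omega
        have hne' : P.root j ≠ -P.root j' := by
          intro h
          have h2 := congrArg φ h
          rw [hφj, map_neg, hφ' j' hj'] at h2
          by_cases hjI : j' ∈ I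
          · rw [if_pos hjI, neg_zero] at h2
            have : n = 0 := by exact_mod_cast h2
            omega
          · rw [if_neg hjI] at h2
            have h3 : ((n + 1 : ℕ) : k) = 0 := by
              push_cast
              rw [h2]
              ring
            have : n + 1 = 0 := by exact_mod_cast h3
            omega
        obtain ⟨j₂, hj₂⟩ := P.root_add_root_mem_of_pairingIn_neg hneg hne'
        refine ⟨hj'T, j₂, ?_, ?_, ?_⟩
        · rw [hj₂]
          exact add_mem hjcl (AddSubmonoid.subset_closure ⟨j', Finset.mem_coe.2 hj'T, rfl⟩)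
        · rw [hj₂, map_add, hφj, hφ' j' hj']
          by_cases hjI : j' ∈ I
          · exact ⟨n, hn, by rw [if_pos hjI, add_zero]⟩
          · exact ⟨n + 1, by omega, by rw [if_neg hjI]; push_cast; ring⟩
        · show P.root j₂ - P.root j' ∈ _
          rw [hj₂, add_sub_cancel_right]
          exact hjcl
    · exfalso
      have hj'A : j' ∈ A := by
        have h := hj'
        rw [← hcover] at h
        simp only [Finset.mem_union] at h
        rcases h with (h | h) | h
        · exact absurd (Finset.mem_union_left _ h) hj'T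
        · exact h
        · exact absurd (Finset.mem_union_right _ h) hj'T
      obtain ⟨z1, hz1, ez1⟩ := nonpos_of_mem_closure P b T hTs j' hj' hj'T _ hsub'
      have hpair := hdec z1 ez1
      have h0 := hcon' j' hj'A j hjcl (hns _ n hn hφj)
      omega
  have hlT : l ∈ T := hpl.1
  rcases Finset.mem_union.1 hlT with h | h
  · exact Finset.disjoint_left.1 hIA h hl
  · exact Finset.disjoint_left.1 hAB hl h

end Groth.Agent.Lib.RootComb19565
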