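import Groth.Agent.Lib.RootDRank_helper8
import Mathlib.LinearAlgebra.PerfectPairing.Basic

set_option autoImplicit false

/-!
# The adjoint root datum attached to a root datum (helper8)
-/

namespace Groth.Agent.Lib.RootDAdj_helper8

open RootD Set RootPairing Groth.Agent.Lib.RootD_helper8
  Groth.Agent.Lib.RootDProp_helper8
  Groth.Agent.Lib.RootDForm_helper8 Groth.Agent.Lib.RootDRank_helper8

variable {ι M N : Type*} [AddCommGroup M] [AddCommGroup N]

lemma rootSpan_isReflexive (P : RootPairing ι ℤ M N) [Module.Finite ℤ M] :
    Module.IsReflexive ℤ (Submodule.span ℤ (Set.range P.root)) := by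
  have := isTorsionFree P
  have : Module.Free ℤ (Submodule.span ℤ (Set.range P.root)) :=
    Module.free_of_finite_type_torsion_free'
  infer_instance

lemma coroot'_comp_subtype_injective (P : RootPairing ι ℤ M N) [Finite ι] :
    Function.Injective fun i : ι =>
      (P.coroot' i).comp (Submodule.span ℤ (Set.range P.root)).subtype := by
  intro i j hij
  apply P.coroot.injective
  have h0 : P.coroot i - P.coroot j = 0 := by
    apply eq_zero_of_mem_span_of_coroot'_eq_zero (P := P.flip)
    · exact Submodule.sub_mem _ (Submodule.subset_span ⟨i, rfl⟩) (Submodule.subset_span ⟨j, rfl⟩)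
    · intro k
      have h1 := LinearMap.congr_fun hij ⟨P.root k, Submodule.subset_span ⟨k, rfl⟩⟩
      simp only [LinearMap.coe_comp, Submodule.coe_subtype, Function.comp_apply] at h1
      change P.toLinearMap (P.root k) (P.coroot i - P.coroot j) = 0
      rw [map_sub, sub_eq_zero]
      exact h1
  exact sub_eq_zero.mp h0

/-- The adjoint root datum: weights are the root lattice. -/
noncomputable def adj (P : RootPairing ι ℤ M N) [Finite ι] [Module.Finite ℤ M] :
    RootPairing ι ℤ (Submodule.span ℤ (Set.range P.root))
      (Module.Dual ℤ (Submodule.span ℤ (Set.range P.root))) :=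
  letI := rootSpan_isReflexive P
  { toLinearMap := Module.Dual.eval ℤ (Submodule.span ℤ (Set.range P.root))
    isPerfPair_toLinearMap := LinearMap.IsPerfPair.dualEval
    root := ⟨fun i => ⟨P.root i, Submodule.subset_span ⟨i, rfl⟩⟩, fun i j hij =>
      P.root.injective (congrArg Subtype.val hij)⟩
    coroot := ⟨fun i => (P.coroot' i).comp (Submodule.span ℤ (Set.range P.root)).subtype,
      coroot'_comp_subtype_injective P⟩
    root_coroot_two := fun i => by
      simp
    reflectionPerm := P.reflectionPerm
    reflectionPerm_root := fun i j => by
      apply Subtype.ext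
      simp [P.reflection_apply]
    reflectionPerm_coroot := fun i j => by
      ext x
      have h := P.reflectionPerm_coroot i j
      have h2 := congrArg (P.toLinearMap (x : M)) h
      simp only [map_sub, map_smul, smul_eq_mul] at h2
      simpa using h2 }

/-- The canonical morphism from the adjoint root datum. -/
noncomputable def adjHom (P : RootPairing ι ℤ M N) [Finite ι] [Module.Finite ℤ M] :
    RootPairing.Hom (adj P) P where
  weightMap := (Submodule.span ℤ (Set.range P.root)).subtype
  coweightMap := (Submodule.span ℤ (Set.range P.root)).subtype.dualMap.comp P.toLinearMap.flip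
  indexEquiv := Equiv.refl ι
  weight_coweight_transpose := by
    ext n x
    rfl
  root_weightMap := by
    ext i
    rfl
  coroot_coweightMap := by
    ext i
    rfl

end Groth.Agent.Lib.RootDAdj_helper8
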