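import Groth.Agent.Lib.RootD_helper8
import Mathlib.LinearAlgebra.RootSystem.Base
import Mathlib.LinearAlgebra.RootSystem.Reduced

set_option autoImplicit false

/-!
# Bases of root pairings over `ℤ` as systems of simple roots (helper8)
-/

namespace Groth.Agent.Lib.RootDBaseZ_helper8

open RootD Set RootPairing Groth.Agent.Lib.RootD_helper8

variable {ι M N : Type*} [AddCommGroup M] [AddCommGroup N] {P : RootPairing ι ℤ M N}

/-- A base of a root pairing over `ℤ` is a system of simple roots. -/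
lemma isSimpleSys_of_base (b : P.Base) : IsSimpleSys P (b.support : Set ι) where
  linInd := b.linearIndepOn_root
  mem_or_neg_mem := b.root_mem_or_neg_mem

lemma root_ne_two_smul [P.IsReduced] (i j : ι) : P.root i ≠ (2 : ℤ) • P.root j := by
  intro h
  have htf := isTorsionFree P
  have : IsAddTorsionFree M := .of_isTorsionFree ℤ M
  have h2 : (2 : ℕ) • P.root j = P.root i := by
    rw [h, two_smul, two_smul]
  exact P.nsmul_notMem_range_root (n := 2) (i := j) ⟨i, h2.symm⟩

/-- A root is negative for `Δ` iff its opposite is positive. -/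
lemma neg_root_mem_iff (Δ : Set ι) (k : ι) :
    -P.root k ∈ natSpan P Δ ↔ P.reflectionPerm k k ∈ posOf P Δ := by
  change _ ↔ P.root (P.reflectionPerm k k) ∈ natSpan P Δ
  rw [root_neg]

lemma not_mem_posOf_of_neg_mem {Δ : Set ι} (hΔ : IsSimpleSys P Δ) {k : ι}
    (h : -P.root k ∈ natSpan P Δ) : k ∉ posOf P Δ := fun hk =>
  not_mem_posOf_and_neg_mem hΔ k ⟨hk, (neg_root_mem_iff Δ k).mp h⟩

lemma neg_mem_of_not_mem_posOf {Δ : Set ι} (hΔ : IsSimpleSys P Δ) {k : ι}
    (h : k ∉ posOf P Δ) : -P.root k ∈ natSpan P Δ :=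
  (neg_root_mem_iff Δ k).mpr ((mem_posOf_or_neg_mem hΔ k).resolve_left h)

end Groth.Agent.Lib.RootDBaseZ_helper8
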