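import Groth.Agent.Lib.RootDWeyl_helper8
import Groth.Agent.Lib.RootDBaseZ_helper8

set_option autoImplicit false

/-!
# Transport of a base along an automorphism (helper8)
-/

namespace Groth.Agent.Lib.RootDBaseSmul_helper8

open RootD Set RootPairing Groth.Agent.Lib.RootD_helper8 Groth.Agent.Lib.RootDPos_helper8
  Groth.Agent.Lib.RootDWeyl_helper8 Groth.Agent.Lib.RootDBaseZ_helper8

variable {ι M N : Type*} [AddCommGroup M] [AddCommGroup N] {P : RootPairing ι ℤ M N}

/-- The linear automorphism of the coweight space moving `coroot j` to `coroot (g • j)`. -/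
noncomputable def coT (g : P.Aut) : N ≃ₗ[ℤ] N := (Equiv.coweightEquiv P P g).symm

lemma coroot_smul (g : P.Aut) (j : ι) : P.coroot (g • j) = coT g (P.coroot j) := by
  unfold coT
  rw [LinearEquiv.eq_symm_apply, Equiv.coweightEquiv_apply, Hom.coroot_coweightMap_apply]
  congr 1
  exact g.toHom.indexEquiv.symm_apply_apply j

lemma coT_mem_closure (g : P.Aut) {S : Set ι} {x : N}
    (hx : x ∈ AddSubmonoid.closure (P.coroot '' S)) :
    coT g x ∈ AddSubmonoid.closure (P.coroot '' ((fun i : ι => g • i) '' S)) := by
  induction hx using AddSubmonoid.closure_induction with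
  | mem x hx =>
    obtain ⟨i, hi, rfl⟩ := hx
    rw [← coroot_smul]
    exact AddSubmonoid.subset_closure ⟨g • i, ⟨i, hi, rfl⟩, rfl⟩
  | zero => rw [map_zero]; exact zero_mem _
  | add x y _ _ hx hy => rw [map_add]; exact add_mem hx hy

/-- The image of a base under an automorphism. -/
noncomputable def baseSmul (g : P.Aut) (b : P.Base) : P.Base where
  support := b.support.map ⟨fun i => g • i, MulAction.injective g⟩
  linearIndepOn_root := by
    rw [Finset.coe_map]
    exact (isSimpleSys_smul (isSimpleSys_of_base b) g).linInd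
  linearIndepOn_coroot := by
    rw [Finset.coe_map]
    apply LinearIndepOn.image_of_comp
    have h1 := b.linearIndepOn_coroot.map_injOn ((coT g : N ≃ₗ[ℤ] N) : N →ₗ[ℤ] N)
      ((coT g).injective.injOn)
    refine h1.congr fun i _ => ?_
    exact (coroot_smul g i).symm
  root_mem_or_neg_mem := by
    rw [Finset.coe_map]
    exact (isSimpleSys_smul (isSimpleSys_of_base b) g).mem_or_neg_mem
  coroot_mem_or_neg_mem := by
    rw [Finset.coe_map]
    intro i
    have h1 : P.coroot i = coT g (P.coroot (g⁻¹ • i)) := by rw [← coroot_smul, smul_inv_smul]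
    rcases b.coroot_mem_or_neg_mem (g⁻¹ • i) with h | h
    · left
      rw [h1]
      exact coT_mem_closure g h
    · right
      rw [h1, ← map_neg]
      exact coT_mem_closure g h

lemma coe_support_baseSmul (g : P.Aut) (b : P.Base) :
    ((baseSmul g b).support : Set ι) = (fun i : ι => g • i) '' (b.support : Set ι) := by
  unfold baseSmul
  rw [Finset.coe_map]
  rfl

lemma posOf_baseSmul (g : P.Aut) (b : P.Base) :
    posOf P ((baseSmul g b).support : Set ι) =
      (fun i : ι => g • i) '' posOf P (b.support : Set ι) := by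
  rw [coe_support_baseSmul, posOf_smul]

end Groth.Agent.Lib.RootDBaseSmul_helper8
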