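import Groth.Agent.Lib.RootDDual_helper8
import Mathlib.LinearAlgebra.Matrix.PosDef
import Mathlib.Analysis.Matrix.PosDef
import Mathlib.Algebra.Order.Star.Real

set_option autoImplicit false

/-!
# The Cartan matrix of a simple system (helper8)
-/

namespace Groth.Agent.Lib.RootDCartan_helper8

open RootD Set RootPairing Groth.Agent.Lib.RootD_helper8 Groth.Agent.Lib.RootDPos_helper8
  Groth.Agent.Lib.RootDProp_helper8
  Groth.Agent.Lib.RootDForm_helper8 Groth.Agent.Lib.RootDLen_helper8
  Groth.Agent.Lib.RootDDual_helper8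

variable {ι M N : Type*} [AddCommGroup M] [AddCommGroup N] {P : RootPairing ι ℤ M N}

/-- The canonical form is positive definite on the root lattice. -/
lemma rootForm_pos_of_mem_span [Fintype ι] {x : M}
    (hx : x ∈ Submodule.span ℤ (Set.range P.root)) (h0 : x ≠ 0) : 0 < P.RootForm x x := by
  have h1 : 0 ≤ P.RootForm x x := by
    rw [rootForm_apply_apply]
    exact Finset.sum_nonneg fun i _ => mul_self_nonneg _
  refine lt_of_le_of_ne h1 fun h2 => h0 ?_
  apply eq_zero_of_mem_span_of_coroot'_eq_zero hx
  rw [rootForm_apply_apply] at h2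
  intro i
  have h3 := (Finset.sum_eq_zero_iff_of_nonneg
    (fun i _ => mul_self_nonneg (P.coroot' i x))).mp h2.symm i (Finset.mem_univ i)
  exact mul_self_eq_zero.mp h3

lemma rootForm_comm [Fintype ι] (x y : M) : P.RootForm x y = P.RootForm y x := by
  simpa using (rootForm_symmetric P).eq x y

lemma two_mul_rootForm_root_root [Fintype ι] (a b : ι) :
    2 * P.RootForm (P.root a) (P.root b) = P.RootForm (P.root a) (P.root a) * P.pairing b a := by
  have h1 := P.toInvariantForm.two_mul_apply_root_root b a
  simp only [RootPairing.toInvariantForm_form] at h1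
  rw [rootForm_comm, h1, mul_comm]

/-- The symmetrized Cartan matrix of a linearly independent set of roots. -/
def symCartan (P : RootPairing ι ℤ M N) [Fintype ι] (Δ : Finset ι) : Matrix ↥Δ ↥Δ ℤ :=
  Matrix.of fun (a b : ↥Δ) => P.RootForm (P.root a) (P.root a) * P.pairing (b : ι) (a : ι)

lemma symCartan_isSymm [Fintype ι] (Δ : Finset ι) : (symCartan P Δ).IsSymm := by
  ext a b
  simp only [symCartan, Matrix.transpose_apply, Matrix.of_apply]
  rw [← two_mul_rootForm_root_root, ← two_mul_rootForm_root_root, rootForm_comm]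

lemma dotProduct_symCartan_mulVec [Fintype ι] (Δ : Finset ι) (x : ↥Δ → ℤ) :
    x ⬝ᵥ (symCartan P Δ).mulVec x =
      2 * P.RootForm (∑ a : ↥Δ, x a • P.root (a : ι)) (∑ a : ↥Δ, x a • P.root (a : ι)) := by
  simp only [dotProduct, Matrix.mulVec, symCartan, Matrix.of_apply, map_sum, LinearMap.sum_apply,
    map_smul, LinearMap.smul_apply, smul_eq_mul, Finset.mul_sum]
  refine Finset.sum_congr rfl fun a _ => ?_
  refine Finset.sum_congr rfl fun b _ => ?_
  have := two_mul_rootForm_root_root (P := P) a b
  rw [rootForm_comm (P.root b) (P.root a)]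
  linear_combination (-(x a * x b)) * this

lemma symCartan_posDef [Fintype ι] (Δ : Finset ι) (hli : LinearIndepOn ℤ P.root (↑Δ : Set ι)) :
    (symCartan P Δ).PosDef := by
  rw [Matrix.posDef_iff_dotProduct_mulVec]
  refine ⟨?_, ?_⟩
  · rw [Matrix.IsHermitian, Matrix.conjTranspose_eq_transpose_of_trivial]
    exact symCartan_isSymm Δ
  · intro x hx
    rw [star_trivial, dotProduct_symCartan_mulVec]
    have hli' : LinearIndependent ℤ (fun a : ↥Δ => P.root (a : ι)) := hli
    have hne : ∑ a : ↥Δ, x a • P.root (a : ι) ≠ 0 := by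
      intro h0
      rw [Fintype.linearIndependent_iff] at hli'
      exact hx (funext fun a => hli' x h0 a)
    have hmem : ∑ a : ↥Δ, x a • P.root (a : ι) ∈ Submodule.span ℤ (Set.range P.root) :=
      Submodule.sum_mem _ fun a _ => Submodule.smul_mem _ _ (Submodule.subset_span ⟨_, rfl⟩)
    have := rootForm_pos_of_mem_span hmem hne
    linarith


/-- The matrix of pairings of a set of roots against all coroots. -/
def pairingMatrix (P : RootPairing ι ℤ M N) (Δ : Finset ι) : Matrix ↥Δ ι ℤ :=
  Matrix.of fun (a : ↥Δ) (i : ι) => P.pairing (a : ι) i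

lemma symCartan_eq [Fintype ι] (Δ : Finset ι) :
    symCartan P Δ = (2 : ℤ) • (pairingMatrix P Δ * (pairingMatrix P Δ).transpose) := by
  ext a b
  simp only [symCartan, Matrix.of_apply, Matrix.smul_apply, Matrix.mul_apply,
    Matrix.transpose_apply, pairingMatrix, smul_eq_mul]
  rw [← two_mul_rootForm_root_root, rootForm_apply_apply]
  simp only [root_coroot'_eq_pairing]

/-- An integer matrix of the form `X Xᵀ` has non-negative determinant. -/
lemma det_mul_transpose_nonneg {m n : Type*} [Fintype m] [Fintype n] [DecidableEq m]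
    (X : Matrix m n ℤ) : 0 ≤ (X * X.transpose).det := by
  have h1 : ((X * X.transpose).det : ℝ) =
      ((X.map fun x => (x : ℝ)) * (X.map fun x => (x : ℝ)).conjTranspose).det := by
    rw [Int.cast_det, Matrix.conjTranspose_eq_transpose_of_trivial]
    congr 1
    ext i j
    simp [Matrix.mul_apply]
  have h2 := (Matrix.posSemidef_self_mul_conjTranspose (X.map fun x => (x : ℝ))).det_nonneg
  rw [← h1] at h2
  exact_mod_cast h2

lemma det_symCartan_pos [Fintype ι] (Δ : Finset ι) [DecidableEq ↥Δ]
    (hli : LinearIndepOn ℤ P.root (↑Δ : Set ι)) : 0 < (symCartan P Δ).det := by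
  have hpd := symCartan_posDef Δ hli
  have hne : (symCartan P Δ).det ≠ 0 := by
    intro h0
    obtain ⟨v, hv, hv0⟩ := Matrix.exists_mulVec_eq_zero_iff.mpr h0
    have := hpd.dotProduct_mulVec_pos hv
    rw [hv0, dotProduct_zero] at this
    exact lt_irrefl _ this
  have hnn : 0 ≤ (symCartan P Δ).det := by
    rw [symCartan_eq, Matrix.det_smul]
    exact mul_nonneg (pow_nonneg (by norm_num) _) (det_mul_transpose_nonneg _)
  exact lt_of_le_of_ne hnn hne.symm

/-- SGA3 XXI: the Cartan matrix of a linearly independent set of roots has positive determinant. -/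
theorem det_cartan_pos [Finite ι] (Δ : Finset ι) [DecidableEq ↥Δ]
    (hli : LinearIndepOn ℤ P.root (↑Δ : Set ι)) :
    0 < Matrix.det (Matrix.of fun (a b : ↥Δ) => P.pairing (b : ι) (a : ι)) := by
  cases nonempty_fintype ι
  have h1 : symCartan P Δ =
      Matrix.diagonal (fun a : ↥Δ => P.RootForm (P.root a) (P.root a)) *
        (Matrix.of fun (a b : ↥Δ) => P.pairing (b : ι) (a : ι)) := by
    ext a b
    rw [Matrix.diagonal_mul]
    rfl
  have h2 := det_symCartan_pos Δ hli
  rw [h1, Matrix.det_mul, Matrix.det_diagonal] at h2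
  have h3 : 0 < ∏ a : ↥Δ, P.RootForm (P.root a) (P.root a) :=
    Finset.prod_pos fun a _ => rootForm_root_self_pos P a
  exact (mul_pos_iff_of_pos_left h3).mp h2

end Groth.Agent.Lib.RootDCartan_helper8
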