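import Groth.Agent.Lib.RootD_helper8

set_option autoImplicit false

/-!
# Proportional roots (helper8)
-/

namespace Groth.Agent.Lib.RootDProp_helper8

open RootD Set RootPairing Groth.Agent.Lib.RootD_helper8

variable {ι M N : Type*} [AddCommGroup M] [AddCommGroup N] {P : RootPairing ι ℤ M N}

lemma isAddTorsionFree (P : RootPairing ι ℤ M N) : IsAddTorsionFree M := by
  have := isTorsionFree P
  exact .of_isTorsionFree ℤ M

lemma isAddTorsionFree' (P : RootPairing ι ℤ M N) : IsAddTorsionFree N := by
  have := isTorsionFree' P
  exact .of_isTorsionFree ℤ N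

/-- Proportional roots have the same reflection. -/
lemma reflection_eq_of_root_eq_smul [Finite ι] {i j : ι} {t : ℤ} (h : P.root j = t • P.root i) :
    P.reflection j = P.reflection i := by
  have := isAddTorsionFree' P
  have h1 : t • P.coroot j = P.coroot i := smul_coroot_eq_of_root_eq_smul i j t h
  ext x
  have h2 : P.coroot' i x = t * P.coroot' j x := by
    simp only [RootPairing.coroot', LinearMap.flip_apply, ← h1, map_smul, smul_eq_mul,
      LinearMap.smul_apply]
  rw [P.reflection_apply, P.reflection_apply, h, h2, smul_smul, mul_comm]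

/-- Proportional roots have the same reflection automorphism. -/
lemma equivReflection_eq_of_root_eq_smul [Finite ι] {i j : ι} {t : ℤ}
    (h : P.root j = t • P.root i) : Equiv.reflection P j = Equiv.reflection P i := by
  apply Equiv.weightHom_injective P
  ext x
  change P.reflection j x = P.reflection i x
  rw [reflection_eq_of_root_eq_smul h]

lemma smul_right_cancel (P : RootPairing ι ℤ M N) {a : ℤ} (ha : a ≠ 0) {x y : M}
    (h : a • x = a • y) : x = y := by
  have := isTorsionFree P
  exact smul_right_injective M ha h

/-- A root which is a multiple of an indivisible root is an integral multiple of it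
(SGA3 XXI). -/
lemma dvd_of_smul_eq_smul_of_isIndiv [Finite ι] {i j : ι} (hind : IsIndiv P i) {a b : ℤ}
    (hb : b ≠ 0) (h : b • P.root j = a • P.root i) : b ∣ a := by
  have h1 := congrArg (P.coroot' i) h
  have h2 := congrArg (P.coroot' j) h
  simp only [map_smul, RootPairing.root_coroot'_eq_pairing, RootPairing.pairing_same,
    smul_eq_mul] at h1 h2
  have ha : a ≠ 0 := by
    rintro rfl
    simp at h2
    exact hb h2
  have h4 : P.pairing i j * P.pairing j i = 4 := by
    have : (a * b) * (P.pairing i j * P.pairing j i) = (a * b) * 4 := by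
      calc (a * b) * (P.pairing i j * P.pairing j i)
          = (a * P.pairing i j) * (b * P.pairing j i) := by ring
        _ = (b * 2) * (a * 2) := by rw [h1, h2]
        _ = _ := by ring
    exact mul_left_cancel₀ (mul_ne_zero ha hb) this
  have hdvd : P.pairing i j ∣ 4 := ⟨_, h4.symm⟩
  have hle := Int.le_of_dvd (by norm_num) hdvd
  have hge : -4 ≤ P.pairing i j := by
    have := Int.le_of_dvd (by norm_num) ((Int.neg_dvd).mpr hdvd)
    omega
  set p := P.pairing i j with hp
  set q := P.pairing j i with hq
  interval_cases p
  · -- p = -4 : b = -2a, so root i = 2 • root (-j)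
    exfalso
    have hb' : b = -2 * a := by omega
    rw [hb'] at h
    apply hind (P.reflectionPerm j j)
    rw [root_neg]
    apply smul_right_cancel P ha
    rw [← h]
    simp only [smul_smul, smul_neg]
    rw [← neg_smul]
    congr 1
    ring
  · omega
  · exact ⟨-1, by omega⟩
  · exact ⟨-2, by omega⟩
  · omega
  · exact ⟨2, by omega⟩
  · exact ⟨1, by omega⟩
  · omega
  · -- p = 4 : b = 2a, so root i = 2 • root j
    exfalso
    have hb' : b = 2 * a := by omega
    rw [hb'] at h
    apply hind j
    apply smul_right_cancel P ha
    rw [← h, smul_smul]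
    congr 1
    ring

lemma pairing_mul_pairing_mem [Finite ι] (P : RootPairing ι ℤ M N) (i j : ι) :
    P.pairing i j * P.pairing j i ∈ ({0, 1, 2, 3, 4} : Set ℤ) := by
  have := P.coxeterWeightIn_mem_set_of_isCrystallographic i j
  rwa [RootPairing.coxeterWeightIn, pairingIn_eq, pairingIn_eq] at this

lemma pairing_two_two_iff [Finite ι] (P : RootPairing ι ℤ M N) (i j : ι) :
    P.pairing i j = 2 ∧ P.pairing j i = 2 ↔ i = j := by
  have := isTorsionFree P
  exact P.pairing_two_two_iff i j

lemma pairing_neg_two_neg_two_iff [Finite ι] (P : RootPairing ι ℤ M N) (i j : ι) :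
    P.pairing i j = -2 ∧ P.pairing j i = -2 ↔ P.root i = -P.root j := by
  have := isTorsionFree P
  exact P.pairing_neg_two_neg_two_iff i j

end Groth.Agent.Lib.RootDProp_helper8
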