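import Groth.Agent.Lib.RootDLen_helper8
import Groth.Agent.Lib.RootDProp_helper8

set_option autoImplicit false

/-!
# Simple systems from rational cones (helper8)
-/

namespace Groth.Agent.Lib.RootDCone_helper8

open RootD Set RootPairing Groth.Agent.Lib.RootD_helper8 Groth.Agent.Lib.RootDPos_helper8
  Groth.Agent.Lib.RootDWeyl_helper8 Groth.Agent.Lib.RootDPar_helper8
  Groth.Agent.Lib.RootDIrr_helper8 Groth.Agent.Lib.RootDProp_helper8

variable {ι M N : Type*} [AddCommGroup M] [AddCommGroup N] {P : RootPairing ι ℤ M N}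

/-- If `x` and `-x` are both non-negative combinations of linearly independent roots then `x = 0`. -/
lemma eq_zero_of_mem_natSpan_of_neg_mem {Δ : Set ι} (hli : LinearIndepOn ℤ P.root Δ) {x : M}
    (h1 : x ∈ natSpan P Δ) (h2 : -x ∈ natSpan P Δ) : x = 0 := by
  obtain ⟨c, hc, hc0, rfl⟩ := (mem_natSpan_iff P Δ _).mp h1
  obtain ⟨d, hd, hd0, hdx⟩ := (mem_natSpan_iff P Δ _).mp h2
  classical
  have hcd : c + d = 0 := by
    apply eq_of_linearCombination_eq hli (c := c + d) (d := 0)
    · intro j hj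
      have := Finsupp.support_add hj
      rcases Finset.mem_union.mp this with h | h
      · exact hc h
      · exact hd h
    · simp
    · rw [map_add, hdx, add_neg_cancel, map_zero]
  have : c = 0 := by
    ext j
    have h3 := DFunLike.congr_fun hcd j
    simp only [Finsupp.coe_add, Pi.add_apply, Finsupp.coe_zero, Pi.zero_apply] at h3
    have := hc0 j
    have := hd0 j
    simp only [Finsupp.coe_zero, Pi.zero_apply]
    omega
  rw [this, map_zero]

/-- A simple root is indivisible. -/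
lemma isIndiv_of_mem {Δ : Set ι} (hΔ : IsSimpleSys P Δ) {i : ι} (hi : i ∈ Δ) : IsIndiv P i := by
  intro j hj
  have h1 : coeff hΔ i = (2 : ℤ) • coeff hΔ j := by
    apply coeff_eq hΔ
    · intro l hl
      apply support_coeff hΔ j
      simp only [Finset.mem_coe, Finsupp.mem_support_iff, Finsupp.coe_smul, Pi.smul_apply,
        smul_eq_mul, ne_eq, mul_eq_zero, OfNat.ofNat_ne_zero, false_or] at hl ⊢
      exact hl
    · rw [map_smul, linearCombination_coeff, hj]
  have h2 := DFunLike.congr_fun h1 i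
  rw [coeff_self hΔ hi] at h2
  simp only [Finsupp.single_eq_same, Finsupp.coe_smul, Pi.smul_apply, smul_eq_mul] at h2
  omega

/-- SGA3 XXI 3.1.5: linearly independent indivisible roots whose rational cone contains every root
up to sign form a system of simple roots. -/
theorem isSimpleSys_of_cone [Finite ι] (Δ : Set ι)
    (hind : ∀ i ∈ Δ, IsIndiv P i) (hli : LinearIndepOn ℤ P.root Δ)
    (hcone : ∀ k : ι, ∃ n : ℕ, 0 < n ∧
      (n • P.root k ∈ natSpan P Δ ∨ n • (-P.root k) ∈ natSpan P Δ)) :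
    IsSimpleSys P Δ := by
  classical
  cases nonempty_fintype ι
  have htf := isTorsionFree P
  have : IsAddTorsionFree M := isAddTorsionFree P
  set S : Set ι := {k | ∃ n : ℕ, 0 < n ∧ n • P.root k ∈ natSpan P Δ} with hS
  -- a uniform multiplier
  obtain ⟨L, hL0, hL⟩ : ∃ L : ℕ, 0 < L ∧ ∀ k ∈ S, L • P.root k ∈ natSpan P Δ := by
    have hch : ∀ k : ι, ∃ n : ℕ, 0 < n ∧ (k ∈ S → n • P.root k ∈ natSpan P Δ) := by
      intro k
      by_cases hk : k ∈ S
      · obtain ⟨n, hn, hnk⟩ := hk
        exact ⟨n, hn, fun _ => hnk⟩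
      · exact ⟨1, one_pos, fun h => absurd h hk⟩
    choose n hn hnk using hch
    refine ⟨∏ k, n k, Finset.prod_pos fun k _ => hn k, fun k hk => ?_⟩
    obtain ⟨m, hm⟩ := Finset.dvd_prod_of_mem n (Finset.mem_univ k)
    rw [hm, mul_comm, mul_nsmul']
    exact nsmul_mem (hnk k hk) m
  have hLS : ∀ x ∈ natSpan P S, L • x ∈ natSpan P Δ := by
    intro x hx
    induction hx using AddSubmonoid.closure_induction with
    | mem x hx =>
      obtain ⟨k, hk, rfl⟩ := hx
      exact hL k hk
    | zero => rw [smul_zero]; exact zero_mem _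
    | add x y _ _ hx hy => rw [smul_add]; exact add_mem hx hy
  have hpos : IsPosSys P S := by
    refine ⟨?_, ?_, ?_⟩
    · rintro k ⟨n, hn, hnk⟩ ⟨m, hm, hmk⟩
      rw [root_neg] at hmk
      have h1 : (m * n) • P.root k ∈ natSpan P Δ := by
        rw [mul_nsmul']; exact nsmul_mem hnk m
      have h2 : -((m * n) • P.root k) ∈ natSpan P Δ := by
        rw [← smul_neg, mul_comm, mul_nsmul']; exact nsmul_mem hmk n
      have h3 := eq_zero_of_mem_natSpan_of_neg_mem hli h1 h2
      rw [nsmul_eq_zero_iff_right (Nat.mul_pos hm hn).ne'] at h3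
      exact P.ne_zero k h3
    · intro k
      obtain ⟨n, hn, h | h⟩ := hcone k
      · exact Or.inl ⟨n, hn, h⟩
      · exact Or.inr ⟨n, hn, by rwa [root_neg]⟩
    · intro k n hn hnk
      refine ⟨L * n, Nat.mul_pos hL0 hn, ?_⟩
      rw [mul_nsmul']
      exact hLS _ hnk
  obtain ⟨Δ₁, hΔ₁, hΔ₁S, hSΔ₁⟩ := exists_isSimpleSys_of_isPosSys hpos
  have hΔS : Δ ⊆ S := fun i hi =>
    ⟨1, one_pos, by rw [one_smul]; exact AddSubmonoid.subset_closure (Set.mem_image_of_mem _ hi)⟩
  have hsub : Δ₁ ⊆ Δ := by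
    intro γ hγ
    obtain ⟨n, hn, hnγ⟩ := hΔ₁S hγ
    obtain ⟨c, hc, hc0, hcγ⟩ := (mem_natSpan_iff P Δ _).mp hnγ
    have hcne : c ≠ 0 := by
      rintro rfl
      rw [map_zero] at hcγ
      rw [eq_comm, nsmul_eq_zero_iff_right hn.ne'] at hcγ
      exact P.ne_zero γ hcγ
    obtain ⟨δ, hδ⟩ : ∃ δ, c δ ≠ 0 := by
      by_contra h
      push Not at h
      exact hcne (Finsupp.ext h)
    have hδΔ : δ ∈ Δ := hc (by simpa using hδ)
    have hδpos : 0 < c δ := lt_of_le_of_ne (hc0 δ) hδ.symm
    -- the composite coefficient vector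
    set e : ι →₀ ℤ := c.sum fun δ' a => a • coeff hΔ₁ δ' with he
    have he1 : Finsupp.linearCombination ℤ P.root e = (n : ℤ) • P.root γ := by
      rw [he, Finsupp.sum, map_sum]
      simp only [map_smul, linearCombination_coeff]
      rw [natCast_zsmul, ← hcγ, Finsupp.linearCombination_apply, Finsupp.sum]
    have he2 : (e.support : Set ι) ⊆ Δ₁ := by
      intro l hl
      by_contra hlΔ
      have : e l = 0 := by
        rw [he, Finsupp.sum, Finsupp.finsetSum_apply]
        apply Finset.sum_eq_zero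
        intro δ' _
        rw [Finsupp.smul_apply, coeff_eq_zero_of_notMem hΔ₁ δ' hlΔ, smul_zero]
      simp only [Finset.mem_coe, Finsupp.mem_support_iff, ne_eq] at hl
      exact hl this
    have he3 : e = Finsupp.single γ (n : ℤ) := by
      apply eq_of_linearCombination_eq hΔ₁.linInd he2
      · intro l hl
        have : l = γ := by
          by_contra hne
          simp [Ne.symm hne] at hl
        exact this ▸ hγ
      · rw [he1, Finsupp.linearCombination_single]
    have hzero : ∀ γ', γ' ≠ γ → coeff hΔ₁ δ γ' = 0 := by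
      intro γ' hne
      have h1 := DFunLike.congr_fun he3 γ'
      rw [Finsupp.single_eq_of_ne hne, he, Finsupp.sum, Finsupp.finsetSum_apply] at h1
      have h2 : ∀ δ' ∈ c.support, 0 ≤ (c δ' • coeff hΔ₁ δ') γ' := by
        intro δ' hδ'
        rw [Finsupp.smul_apply, smul_eq_mul]
        have hδ'S : δ' ∈ posOf P Δ₁ := hSΔ₁ ▸ hΔS (hc hδ')
        exact mul_nonneg (hc0 δ') ((mem_posOf_iff hΔ₁ δ').mp hδ'S γ')
      have h3 := (Finset.sum_eq_zero_iff_of_nonneg h2).mp h1 δ (by simpa using hδ)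
      rw [Finsupp.smul_apply, smul_eq_mul] at h3
      rcases mul_eq_zero.mp h3 with h | h
      · exact absurd h hδ
      · exact h
    have hroot := root_eq_smul_of_coeff_eq_zero hΔ₁ hzero
    have hδS : δ ∈ posOf P Δ₁ := hSΔ₁ ▸ hΔS hδΔ
    have hnn := (mem_posOf_iff hΔ₁ δ).mp hδS γ
    rcases eq_of_root_eq_smul hroot with h | h | h | h
    · rw [h, one_smul] at hroot
      exact P.root.injective hroot ▸ hδΔ
    · omega
    · rw [h] at hroot
      exact absurd hroot.symm (hind δ hδΔ γ)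
    · omega
  refine ⟨hli, fun i => ?_⟩
  rcases hΔ₁.mem_or_neg_mem i with h | h
  · exact Or.inl (natSpan_mono hsub h)
  · exact Or.inr (natSpan_mono hsub h)

/-- Variant of `isSimpleSys_of_cone` without linear independence: indivisible roots generating a
strict cone containing every root up to sign contain a system of simple roots. -/
theorem exists_isSimpleSys_subset_of_cone [Finite ι] (Δ : Set ι)
    (hind : ∀ i ∈ Δ, IsIndiv P i)
    (hzero : ∀ x : M, x ∈ natSpan P Δ → -x ∈ natSpan P Δ → x = 0)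
    (hcone : ∀ k : ι, ∃ n : ℕ, 0 < n ∧
      (n • P.root k ∈ natSpan P Δ ∨ n • (-P.root k) ∈ natSpan P Δ)) :
    ∃ Δ₁ : Set ι, IsSimpleSys P Δ₁ ∧ Δ₁ ⊆ Δ := by
  classical
  cases nonempty_fintype ι
  have htf := isTorsionFree P
  have : IsAddTorsionFree M := isAddTorsionFree P
  set S : Set ι := {k | ∃ n : ℕ, 0 < n ∧ n • P.root k ∈ natSpan P Δ} with hS
  -- a uniform multiplier
  obtain ⟨L, hL0, hL⟩ : ∃ L : ℕ, 0 < L ∧ ∀ k ∈ S, L • P.root k ∈ natSpan P Δ := by
    have hch : ∀ k : ι, ∃ n : ℕ, 0 < n ∧ (k ∈ S → n • P.root k ∈ natSpan P Δ) := by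
      intro k
      by_cases hk : k ∈ S
      · obtain ⟨n, hn, hnk⟩ := hk
        exact ⟨n, hn, fun _ => hnk⟩
      · exact ⟨1, one_pos, fun h => absurd h hk⟩
    choose n hn hnk using hch
    refine ⟨∏ k, n k, Finset.prod_pos fun k _ => hn k, fun k hk => ?_⟩
    obtain ⟨m, hm⟩ := Finset.dvd_prod_of_mem n (Finset.mem_univ k)
    rw [hm, mul_comm, mul_nsmul']
    exact nsmul_mem (hnk k hk) m
  have hLS : ∀ x ∈ natSpan P S, L • x ∈ natSpan P Δ := by
    intro x hx
    induction hx using AddSubmonoid.closure_induction with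
    | mem x hx =>
      obtain ⟨k, hk, rfl⟩ := hx
      exact hL k hk
    | zero => rw [smul_zero]; exact zero_mem _
    | add x y _ _ hx hy => rw [smul_add]; exact add_mem hx hy
  have hpos : IsPosSys P S := by
    refine ⟨?_, ?_, ?_⟩
    · rintro k ⟨n, hn, hnk⟩ ⟨m, hm, hmk⟩
      rw [root_neg] at hmk
      have h1 : (m * n) • P.root k ∈ natSpan P Δ := by
        rw [mul_nsmul']; exact nsmul_mem hnk m
      have h2 : -((m * n) • P.root k) ∈ natSpan P Δ := by
        rw [← smul_neg, mul_comm, mul_nsmul']; exact nsmul_mem hmk n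
      have h3 := hzero _ h1 h2
      rw [nsmul_eq_zero_iff_right (Nat.mul_pos hm hn).ne'] at h3
      exact P.ne_zero k h3
    · intro k
      obtain ⟨n, hn, h | h⟩ := hcone k
      · exact Or.inl ⟨n, hn, h⟩
      · exact Or.inr ⟨n, hn, by rwa [root_neg]⟩
    · intro k n hn hnk
      refine ⟨L * n, Nat.mul_pos hL0 hn, ?_⟩
      rw [mul_nsmul']
      exact hLS _ hnk
  obtain ⟨Δ₁, hΔ₁, hΔ₁S, hSΔ₁⟩ := exists_isSimpleSys_of_isPosSys hpos
  have hΔS : Δ ⊆ S := fun i hi =>
    ⟨1, one_pos, by rw [one_smul]; exact AddSubmonoid.subset_closure (Set.mem_image_of_mem _ hi)⟩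
  have hsub : Δ₁ ⊆ Δ := by
    intro γ hγ
    obtain ⟨n, hn, hnγ⟩ := hΔ₁S hγ
    obtain ⟨c, hc, hc0, hcγ⟩ := (mem_natSpan_iff P Δ _).mp hnγ
    have hcne : c ≠ 0 := by
      rintro rfl
      rw [map_zero] at hcγ
      rw [eq_comm, nsmul_eq_zero_iff_right hn.ne'] at hcγ
      exact P.ne_zero γ hcγ
    obtain ⟨δ, hδ⟩ : ∃ δ, c δ ≠ 0 := by
      by_contra h
      push Not at h
      exact hcne (Finsupp.ext h)
    have hδΔ : δ ∈ Δ := hc (by simpa using hδ)
    have hδpos : 0 < c δ := lt_of_le_of_ne (hc0 δ) hδ.symm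
    -- the composite coefficient vector
    set e : ι →₀ ℤ := c.sum fun δ' a => a • coeff hΔ₁ δ' with he
    have he1 : Finsupp.linearCombination ℤ P.root e = (n : ℤ) • P.root γ := by
      rw [he, Finsupp.sum, map_sum]
      simp only [map_smul, linearCombination_coeff]
      rw [natCast_zsmul, ← hcγ, Finsupp.linearCombination_apply, Finsupp.sum]
    have he2 : (e.support : Set ι) ⊆ Δ₁ := by
      intro l hl
      by_contra hlΔ
      have : e l = 0 := by
        rw [he, Finsupp.sum, Finsupp.finsetSum_apply]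
        apply Finset.sum_eq_zero
        intro δ' _
        rw [Finsupp.smul_apply, coeff_eq_zero_of_notMem hΔ₁ δ' hlΔ, smul_zero]
      simp only [Finset.mem_coe, Finsupp.mem_support_iff, ne_eq] at hl
      exact hl this
    have he3 : e = Finsupp.single γ (n : ℤ) := by
      apply eq_of_linearCombination_eq hΔ₁.linInd he2
      · intro l hl
        have : l = γ := by
          by_contra hne
          simp [Ne.symm hne] at hl
        exact this ▸ hγ
      · rw [he1, Finsupp.linearCombination_single]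
    have hzero : ∀ γ', γ' ≠ γ → coeff hΔ₁ δ γ' = 0 := by
      intro γ' hne
      have h1 := DFunLike.congr_fun he3 γ'
      rw [Finsupp.single_eq_of_ne hne, he, Finsupp.sum, Finsupp.finsetSum_apply] at h1
      have h2 : ∀ δ' ∈ c.support, 0 ≤ (c δ' • coeff hΔ₁ δ') γ' := by
        intro δ' hδ'
        rw [Finsupp.smul_apply, smul_eq_mul]
        have hδ'S : δ' ∈ posOf P Δ₁ := hSΔ₁ ▸ hΔS (hc hδ')
        exact mul_nonneg (hc0 δ') ((mem_posOf_iff hΔ₁ δ').mp hδ'S γ')
      have h3 := (Finset.sum_eq_zero_iff_of_nonneg h2).mp h1 δ (by simpa using hδ)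
      rw [Finsupp.smul_apply, smul_eq_mul] at h3
      rcases mul_eq_zero.mp h3 with h | h
      · exact absurd h hδ
      · exact h
    have hroot := root_eq_smul_of_coeff_eq_zero hΔ₁ hzero
    have hδS : δ ∈ posOf P Δ₁ := hSΔ₁ ▸ hΔS hδΔ
    have hnn := (mem_posOf_iff hΔ₁ δ).mp hδS γ
    rcases eq_of_root_eq_smul hroot with h | h | h | h
    · rw [h, one_smul] at hroot
      exact P.root.injective hroot ▸ hδΔ
    · omega
    · rw [h] at hroot
      exact absurd hroot.symm (hind δ hδΔ γ)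
    · omega
  exact ⟨Δ₁, hΔ₁, hsub⟩


end Groth.Agent.Lib.RootDCone_helper8
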