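import Groth.Agent.Lib.RootD_helper8
import Mathlib.LinearAlgebra.RootSystem.Finite.Nondegenerate

set_option autoImplicit false

/-!
# Consequences of the non-degeneracy of the canonical form on the root span (helper8)
-/

namespace Groth.Agent.Lib.RootDForm_helper8

open RootD Set RootPairing Groth.Agent.Lib.RootD_helper8

variable {ι M N : Type*} [AddCommGroup M] [AddCommGroup N] {P : RootPairing ι ℤ M N}

/-- An element of the root lattice killed by all coroots vanishes. -/
lemma eq_zero_of_mem_span_of_coroot'_eq_zero [Finite ι] {x : M}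
    (hx : x ∈ Submodule.span ℤ (Set.range P.root)) (h : ∀ i, P.coroot' i x = 0) : x = 0 := by
  have : Fintype ι := Fintype.ofFinite ι
  by_contra hne
  have hne' : (⟨x, hx⟩ : P.rootSpan ℤ) ≠ 0 := by
    intro h0
    exact hne (congrArg Subtype.val h0)
  obtain ⟨i, hi⟩ := P.exists_coroot_ne ℤ hne'
  apply hi
  have := P.algebraMap_coroot'In_apply ℤ i ⟨x, hx⟩
  simp only [Algebra.algebraMap_self, RingHom.id_apply] at this
  rw [this]
  exact h i

/-- An element of the weight lattice with a non-zero multiple in the root lattice, killed by all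
coroots, vanishes. -/
lemma eq_zero_of_smul_mem_span_of_coroot'_eq_zero [Finite ι] {x : M} {n : ℕ} (hn : 0 < n)
    (hx : n • x ∈ Submodule.span ℤ (Set.range P.root)) (h : ∀ i, P.coroot' i x = 0) : x = 0 := by
  have h1 : n • x = 0 := by
    apply eq_zero_of_mem_span_of_coroot'_eq_zero hx
    intro i
    rw [map_nsmul, h i, smul_zero]
  have := isTorsionFree P
  have : IsAddTorsionFree M := .of_isTorsionFree ℤ M
  exact (nsmul_eq_zero_iff_right hn.ne').mp h1

/-- Automorphisms preserve the pairing. -/
lemma toLinearMap_smul_coroot (u : P.Aut) (m : M) (i : ι) :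
    P.toLinearMap (u • m) (P.coroot (u • i)) = P.toLinearMap m (P.coroot i) := by
  have h1 := Hom.weight_coweight_transpose_apply P P (P.coroot (u • i)) u.toHom
  have h2 := LinearMap.congr_fun h1 m
  simp only [LinearMap.dualMap_apply, LinearMap.toPerfPair_apply] at h2
  have h3 : u.toHom.coweightMap (P.coroot (u • i)) = P.coroot i := by
    rw [Hom.coroot_coweightMap_apply]
    congr 1
    exact u.toHom.indexEquiv.symm_apply_apply i
  rw [h3] at h2
  exact h2

/-- SGA3 XXI: an automorphism acting trivially on the radical and fixing every root is trivial. -/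
lemma aut_eq_one_of_fix [Finite ι] (u : P.Aut)
    (hs : ∀ m : M, ∃ n : ℕ, 0 < n ∧ n • (u • m - m) ∈ Submodule.span ℤ (Set.range P.root))
    (hfix : ∀ i : ι, u • i = i) : u = 1 := by
  apply Equiv.weightHom_injective P
  ext m
  rw [map_one]
  change u • m = m
  obtain ⟨n, hn, hnm⟩ := hs m
  have : u • m - m = 0 := by
    apply eq_zero_of_smul_mem_span_of_coroot'_eq_zero hn hnm
    intro i
    have h1 := toLinearMap_smul_coroot u m i
    rw [hfix i] at h1
    simp only [map_sub, LinearMap.flip_apply, h1, sub_self]
  exact sub_eq_zero.mp this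

lemma root_smul' (g : P.Aut) (i : ι) : P.root (g • i) = g • P.root i :=
  Equiv.root_indexEquiv_eq_smul (P := P) i g

/-- Automorphisms preserve the root lattice. -/
lemma smul_mem_span_root (g : P.Aut) {x : M} (hx : x ∈ Submodule.span ℤ (Set.range P.root)) :
    g • x ∈ Submodule.span ℤ (Set.range P.root) := by
  induction hx using Submodule.span_induction with
  | mem x hx =>
    obtain ⟨i, rfl⟩ := hx
    rw [← root_smul']
    exact Submodule.subset_span ⟨_, rfl⟩
  | zero => rw [smul_zero]; exact zero_mem _
  | add x y _ _ hx hy => rw [smul_add]; exact add_mem hx hy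
  | smul a x _ hx => rw [smul_comm]; exact Submodule.smul_mem _ _ hx

/-- Elements of the Weyl group move weights by elements of the root lattice. -/
lemma weyl_smul_sub_mem_span {g : P.Aut} (hg : g ∈ P.weylGroup) (m : M) :
    g • m - m ∈ Submodule.span ℤ (Set.range P.root) := by
  induction hg using weylGroup.induction generalizing m with
  | mem i =>
    rw [Equiv.reflection_smul, P.reflection_apply, sub_sub_cancel_left]
    exact Submodule.neg_mem _ (Submodule.smul_mem _ _ (Submodule.subset_span ⟨i, rfl⟩))
  | one => simp
  | mul x y _ _ hx hy =>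
    have : (x * y) • m - m = x • (y • m - m) + (x • m - m) := by
      rw [mul_smul, smul_sub]; abel
    rw [this]
    exact add_mem (smul_mem_span_root x (hy m)) (hx m)

/-- The Weyl group acts faithfully on the set of roots. -/
lemma weylGroupToPerm_injective [Finite ι] (P : RootPairing ι ℤ M N) :
    Function.Injective P.weylGroupToPerm := by
  rw [injective_iff_map_eq_one]
  rintro ⟨g, hg⟩ h
  have hfix : ∀ i : ι, g • i = i := fun i => by
    have := DFunLike.congr_fun h i
    exact this
  have := aut_eq_one_of_fix g (fun m => ⟨1, one_pos, by simpa using weyl_smul_sub_mem_span hg m⟩) hfix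
  exact Subtype.ext this

end Groth.Agent.Lib.RootDForm_helper8
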