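import Groth.Agent.Lib.RootDCone_helper8
import Groth.Agent.Lib.RootDForm_helper8

set_option autoImplicit false

/-!
# The dual simple system `ind(Δ^v)` (helper8)
-/

namespace Groth.Agent.Lib.RootDDual_helper8

open RootD Set RootPairing Groth.Agent.Lib.RootD_helper8 Groth.Agent.Lib.RootDPos_helper8
  Groth.Agent.Lib.RootDWeyl_helper8 Groth.Agent.Lib.RootDPar_helper8
  Groth.Agent.Lib.RootDIrr_helper8 Groth.Agent.Lib.RootDProp_helper8
  Groth.Agent.Lib.RootDForm_helper8 Groth.Agent.Lib.RootDLen_helper8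
  Groth.Agent.Lib.RootDCone_helper8

variable {ι M N : Type*} [AddCommGroup M] [AddCommGroup N] {P : RootPairing ι ℤ M N}

/-- The polarization is injective on the root lattice. -/
lemma eq_zero_of_polarization_eq_zero [Fintype ι] {x : M}
    (hx : x ∈ Submodule.span ℤ (Set.range P.root)) (h : P.Polarization x = 0) : x = 0 := by
  apply eq_zero_of_mem_span_of_coroot'_eq_zero hx
  have h1 : P.RootForm x x = 0 := by
    rw [← toLinearMap_apply_apply_Polarization, h, map_zero]
  rw [rootForm_apply_apply] at h1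
  intro i
  have h2 := (Finset.sum_eq_zero_iff_of_nonneg
    (fun i _ => mul_self_nonneg (P.coroot' i x))).mp h1 i (Finset.mem_univ i)
  exact mul_self_eq_zero.mp h2

/-- Rescaling a linearly independent family by non-zero integers. -/
lemma linearIndependent_of_smul_eq_smul {κ G : Type*} [AddCommGroup G] [Module.IsTorsionFree ℤ G]
    [Finite κ] {v w : κ → G}
    (a b : κ → ℤ) (ha : ∀ k, a k ≠ 0) (hb : ∀ k, b k ≠ 0) (h : ∀ k, a k • v k = b k • w k)
    (hv : LinearIndependent ℤ v) : LinearIndependent ℤ w := by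
  classical
  cases nonempty_fintype κ
  rw [Fintype.linearIndependent_iff] at hv ⊢
  intro g hg k
  have h1 : ∑ k, (g k * (∏ l ∈ Finset.univ.erase k, b l) * a k) • v k = 0 := by
    have h2 : ∀ k, (g k * (∏ l ∈ Finset.univ.erase k, b l) * a k) • v k =
        (∏ l, b l) • (g k • w k) := by
      intro k
      rw [mul_smul, h k, ← mul_smul, ← mul_smul]
      congr 1
      rw [← Finset.mul_prod_erase Finset.univ b (Finset.mem_univ k)]
      ring
    simp only [h2]
    rw [← Finset.smul_sum, hg, smul_zero]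
  have h3 := hv _ h1 k
  have hprod : (∏ l ∈ Finset.univ.erase k, b l) ≠ 0 :=
    Finset.prod_ne_zero_iff.mpr fun l _ => hb l
  rcases mul_eq_zero.mp h3 with h4 | h4
  · rcases mul_eq_zero.mp h4 with h5 | h5
    · exact h5
    · exact absurd h5 hprod
  · exact absurd h4 (ha k)

/-- SGA3 XXI 1.2.1 (10), linearly extended: the coroot of a combination of roots. -/
lemma rootForm_smul_coroot_eq_sum [Fintype ι] {k : ι} {c : ι →₀ ℤ}
    (hc : Finsupp.linearCombination ℤ P.root c = P.root k) :
    P.RootForm (P.root k) (P.root k) • P.coroot k =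
      c.sum fun i a => (a * P.RootForm (P.root i) (P.root i)) • P.coroot i := by
  rw [rootForm_self_smul_coroot, ← hc, Finsupp.linearCombination_apply, Finsupp.sum, map_sum,
    Finset.smul_sum, Finsupp.sum]
  refine Finset.sum_congr rfl fun i _ => ?_
  rw [map_smul, smul_comm, ← rootForm_self_smul_coroot, mul_smul]

/-- The index of the indivisible coroot on the ray of the coroot of `i`. -/
noncomputable def indCo (P : RootPairing ι ℤ M N) (i : ι) : ι :=
  open Classical in
  if h : ∃ j : ι, (2 : ℤ) • P.coroot j = P.coroot i then h.choose else i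

lemma indCo_spec (P : RootPairing ι ℤ M N) (i : ι) :
    (indCo P i = i ∧ IsIndiv P.flip i) ∨ (2 : ℤ) • P.coroot (indCo P i) = P.coroot i := by
  unfold indCo
  split_ifs with h
  · exact Or.inr h.choose_spec
  · refine Or.inl ⟨rfl, fun j hj => h ⟨j, hj⟩⟩

lemma isIndiv_flip_indCo [Finite ι] (P : RootPairing ι ℤ M N) (i : ι) :
    IsIndiv P.flip (indCo P i) := by
  rcases indCo_spec P i with ⟨h1, h2⟩ | h
  · rw [h1]; exact h2
  · intro l hl
    change (2 : ℤ) • P.coroot l = P.coroot (indCo P i) at hl
    rw [← hl, ← mul_smul] at h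
    have h4 : P.flip.root i = ((2 : ℤ) * 2) • P.flip.root l := h.symm
    have := eq_of_root_eq_smul h4
    omega

lemma root_indCo [Finite ι] (P : RootPairing ι ℤ M N) (i : ι) :
    P.root (indCo P i) = P.root i ∨ P.root (indCo P i) = (2 : ℤ) • P.root i := by
  have := isAddTorsionFree P
  have := isAddTorsionFree' P
  rcases indCo_spec P i with ⟨h1, -⟩ | h
  · rw [h1]; exact Or.inl rfl
  · exact Or.inr (coroot_eq_smul_coroot_iff.mp h.symm)

lemma setOf_eq_image_indCo [Finite ι] (P : RootPairing ι ℤ M N) (Δ : Set ι) :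
    {j : ι | ∃ i ∈ Δ, (j = i ∧ IsIndiv P.flip i) ∨ (2 : ℤ) • P.coroot j = P.coroot i} =
      indCo P '' Δ := by
  have := isTorsionFree' P
  ext j
  simp only [mem_ofPred_eq, mem_image]
  constructor
  · rintro ⟨i, hi, ⟨rfl, hind⟩ | h⟩
    · refine ⟨j, hi, ?_⟩
      rcases indCo_spec P j with ⟨h1, -⟩ | h
      · exact h1
      · exact absurd h (hind _)
    · refine ⟨i, hi, ?_⟩
      rcases indCo_spec P i with ⟨-, h2⟩ | h'
      · exact absurd h (h2 _)
      · rw [← h] at h'
        exact P.coroot.injective (smul_right_injective N two_ne_zero h')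
  · rintro ⟨i, hi, rfl⟩
    refine ⟨i, hi, ?_⟩
    rcases indCo_spec P i with h | h
    · exact Or.inl h
    · exact Or.inr h

/-- The coroots of `ind(Δ^v)` are linearly independent. -/
lemma linearIndepOn_coroot_indCo [Finite ι] {Δ : Set ι} (hΔ : IsSimpleSys P Δ) :
    LinearIndepOn ℤ P.coroot (indCo P '' Δ) := by
  cases nonempty_fintype ι
  have := isTorsionFree' P
  apply LinearIndepOn.image_of_comp
  have hli : LinearIndependent ℤ (fun i : Δ => P.root (i : ι)) := hΔ.linInd
  have h1 : LinearIndependent ℤ (fun i : Δ => P.Polarization (P.root (i : ι))) := by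
    apply hli.map (f := P.Polarization)
    rw [Submodule.disjoint_def]
    intro x hx hx'
    refine eq_zero_of_polarization_eq_zero (Submodule.span_mono ?_ hx) hx'
    rintro - ⟨i, rfl⟩
    exact ⟨i, rfl⟩
  -- the scalars
  have hm : ∀ i : ι, ∃ m : ℤ, m ≠ 0 ∧ P.root (indCo P i) = m • P.root i := by
    intro i
    rcases root_indCo P i with h | h
    · exact ⟨1, one_ne_zero, by rw [one_smul, h]⟩
    · exact ⟨2, two_ne_zero, h⟩
  choose m hm0 hm using hm
  refine linearIndependent_of_smul_eq_smul (fun i : Δ => 2 * m i)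
    (fun i : Δ => P.RootForm (P.root (indCo P i)) (P.root (indCo P i)))
    (fun i => mul_ne_zero two_ne_zero (hm0 i))
    (fun i => (rootForm_root_self_pos P _).ne') ?_ h1
  intro i
  simp only [Function.comp_apply]
  rw [rootForm_self_smul_coroot, hm, map_smul, mul_smul, two_smul, two_smul]

/-- The coroot of a root of `Δ` is a non-negative combination of `ind(Δ^v)`. -/
lemma coroot_mem_natSpan_indCo (P : RootPairing ι ℤ M N) {Δ : Set ι} {i : ι} (hi : i ∈ Δ) :
    P.coroot i ∈ natSpan P.flip (indCo P '' Δ) := by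
  have hmem : P.coroot (indCo P i) ∈ natSpan P.flip (indCo P '' Δ) :=
    AddSubmonoid.subset_closure ⟨indCo P i, mem_image_of_mem _ hi, rfl⟩
  rcases indCo_spec P i with ⟨h1, -⟩ | h
  · rwa [h1] at hmem
  · rw [← h, two_smul]
    exact add_mem hmem hmem

/-- SGA3 XXI 3.1.?: `ind(Δ^v)` is a system of simple roots of the dual root datum. -/
theorem isSimpleSys_flip_indCo [Finite ι] {Δ : Set ι} (hΔ : IsSimpleSys P Δ) :
    IsSimpleSys P.flip (indCo P '' Δ) := by
  classical
  cases nonempty_fintype ι
  apply isSimpleSys_of_cone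
  · rintro - ⟨i, -, rfl⟩
    exact isIndiv_flip_indCo P i
  · exact linearIndepOn_coroot_indCo hΔ
  · -- positive roots
    have hpos : ∀ k ∈ posOf P Δ, ∃ n : ℕ, 0 < n ∧ n • P.coroot k ∈ natSpan P.flip (indCo P '' Δ) := by
      intro k hk
      have h0 := rootForm_root_self_pos P k
      refine ⟨(P.RootForm (P.root k) (P.root k)).toNat, by omega, ?_⟩
      rw [← natCast_zsmul, Int.toNat_of_nonneg h0.le,
        rootForm_smul_coroot_eq_sum (linearCombination_coeff hΔ k), Finsupp.sum]
      apply sum_mem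
      intro i hi
      have hiΔ : i ∈ Δ := support_coeff hΔ k hi
      have hnn : 0 ≤ coeff hΔ k i * P.RootForm (P.root i) (P.root i) :=
        mul_nonneg ((mem_posOf_iff hΔ k).mp hk i) (rootForm_root_self_pos P i).le
      rw [← Int.toNat_of_nonneg hnn, natCast_zsmul]
      exact nsmul_mem (coroot_mem_natSpan_indCo P hiΔ) _
    intro k
    rcases mem_posOf_or_neg_mem hΔ k with h | h
    · obtain ⟨n, hn, hnk⟩ := hpos k h
      exact ⟨n, hn, Or.inl hnk⟩
    · obtain ⟨n, hn, hnk⟩ := hpos _ h
      refine ⟨n, hn, Or.inr ?_⟩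
      have : P.coroot (P.reflectionPerm k k) = -P.coroot k := by simp
      rwa [this] at hnk


/-- The coroots of a simple system are linearly independent. -/
lemma linearIndepOn_coroot [Finite ι] {Δ : Set ι} (hΔ : IsSimpleSys P Δ) :
    LinearIndepOn ℤ P.coroot Δ := by
  cases nonempty_fintype ι
  have := isTorsionFree' P
  have hli : LinearIndependent ℤ (fun i : Δ => P.root (i : ι)) := hΔ.linInd
  have h1 : LinearIndependent ℤ (fun i : Δ => P.Polarization (P.root (i : ι))) := by
    apply hli.map (f := P.Polarization)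
    rw [Submodule.disjoint_def]
    intro x hx hx'
    refine eq_zero_of_polarization_eq_zero (Submodule.span_mono ?_ hx) hx'
    rintro - ⟨i, rfl⟩
    exact ⟨i, rfl⟩
  refine linearIndependent_of_smul_eq_smul (fun _ : Δ => (2 : ℤ))
    (fun i : Δ => P.RootForm (P.root i) (P.root i))
    (fun _ => two_ne_zero) (fun i => (rootForm_root_self_pos P _).ne') ?_ h1
  intro i
  rw [rootForm_self_smul_coroot, two_smul, two_smul]

/-- Twice any coroot is an integer combination of the coroots of a simple system, with even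
coefficients along the indivisible simple coroots. -/
lemma exists_two_smul_coroot_eq [Finite ι] {Δ : Set ι} (hΔ : IsSimpleSys P Δ) (k : ι) :
    ∃ e : ι →₀ ℤ, (e.support : Set ι) ⊆ Δ ∧ (∀ i ∈ Δ, IsIndiv P.flip i → 2 ∣ e i) ∧
      Finsupp.linearCombination ℤ P.coroot e = (2 : ℤ) • P.coroot k := by
  classical
  have hT := isSimpleSys_flip_indCo hΔ
  have hk : P.coroot k ∈ Submodule.span ℤ (P.coroot '' (indCo P '' Δ)) := mem_inSpan_self hT k
  suffices h : ∀ x ∈ Submodule.span ℤ (P.coroot '' (indCo P '' Δ)),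
      ∃ e : ι →₀ ℤ, (e.support : Set ι) ⊆ Δ ∧ (∀ i ∈ Δ, IsIndiv P.flip i → 2 ∣ e i) ∧
      Finsupp.linearCombination ℤ P.coroot e = (2 : ℤ) • x from h _ hk
  intro x hx
  induction hx using Submodule.span_induction with
  | mem x hx =>
    obtain ⟨-, ⟨i', hi', rfl⟩, rfl⟩ := hx
    rcases indCo_spec P i' with ⟨h1, h2⟩ | h
    · refine ⟨Finsupp.single i' 2, ?_, ?_, ?_⟩
      · intro j hj
        have : j = i' := by
          have := Finsupp.support_single_subset hj
          simpa using this
        exact this ▸ hi'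
      · intro i _ _
        by_cases hii : i = i'
        · subst hii; simp
        · rw [Finsupp.single_eq_of_ne hii]; exact dvd_zero _
      · rw [Finsupp.linearCombination_single, h1]
    · refine ⟨Finsupp.single i' 1, ?_, ?_, ?_⟩
      · intro j hj
        have : j = i' := by
          have := Finsupp.support_single_subset hj
          simpa using this
        exact this ▸ hi'
      · intro i _ hind
        have hii : i ≠ i' := by
          rintro rfl
          exact hind _ h
        rw [Finsupp.single_eq_of_ne hii]; exact dvd_zero _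
      · rw [Finsupp.linearCombination_single, one_smul, h]
  | zero => exact ⟨0, by simp, fun _ _ _ => by simp, by simp⟩
  | add x y _ _ hx hy =>
    obtain ⟨e₁, h1, h2, h3⟩ := hx
    obtain ⟨e₂, h1', h2', h3'⟩ := hy
    refine ⟨e₁ + e₂, ?_, ?_, ?_⟩
    · intro j hj
      rcases Finset.mem_union.mp (Finsupp.support_add hj) with h | h
      · exact h1 h
      · exact h1' h
    · intro i hi hind
      rw [Finsupp.add_apply]
      exact dvd_add (h2 i hi hind) (h2' i hi hind)
    · rw [map_add, h3, h3', smul_add]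
  | smul a x _ hx =>
    obtain ⟨e₁, h1, h2, h3⟩ := hx
    refine ⟨a • e₁, ?_, ?_, ?_⟩
    · intro j hj
      apply h1
      simp only [Finset.mem_coe, Finsupp.mem_support_iff, Finsupp.coe_smul, Pi.smul_apply,
        smul_eq_mul, ne_eq, mul_eq_zero, not_or] at hj ⊢
      exact hj.2
    · intro i hi hind
      rw [Finsupp.smul_apply, smul_eq_mul]
      exact Dvd.dvd.mul_left (h2 i hi hind) a
    · rw [map_smul, h3, smul_comm]

/-- SGA3 XXI 3.?: divisibility of the coefficients of a root by lengths. -/
theorem rootForm_dvd_coeff [Fintype ι] {Δ : Set ι} (hΔ : IsSimpleSys P Δ)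
    (k : ι) (c : ι →₀ ℤ) (hc : ↑c.support ⊆ Δ)
    (hck : Finsupp.linearCombination ℤ P.root c = P.root k) (i : ι) (hi : i ∈ Δ) :
    P.RootForm (P.root k) (P.root k) ∣ 2 * c i * P.RootForm (P.root i) (P.root i) ∧
      (IsIndiv P.flip i →
        2 * P.RootForm (P.root k) (P.root k) ∣ 2 * c i * P.RootForm (P.root i) (P.root i)) := by
  classical
  obtain ⟨e, he1, he2, he3⟩ := exists_two_smul_coroot_eq hΔ k
  have hli := linearIndepOn_coroot hΔ
  set ℓ : ι → ℤ := fun j => P.RootForm (P.root j) (P.root j) with hℓ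
  set c' : ι →₀ ℤ := Finsupp.equivFunOnFinite.symm (fun j => 2 * c j * ℓ j) with hc'
  have hc'app : ∀ j, c' j = 2 * c j * ℓ j := fun j => rfl
  have hc'supp : (c'.support : Set ι) ⊆ Δ := by
    intro j hj
    apply hc
    simp only [Finset.mem_coe, Finsupp.mem_support_iff, ne_eq, hc'app] at hj ⊢
    intro h0
    exact hj (by rw [h0]; ring)
  have hesupp : ((ℓ k • e).support : Set ι) ⊆ Δ := by
    intro j hj
    apply he1
    simp only [Finset.mem_coe, Finsupp.mem_support_iff, Finsupp.coe_smul, Pi.smul_apply,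
      smul_eq_mul, ne_eq, mul_eq_zero, not_or] at hj ⊢
    exact hj.2
  have h1 : Finsupp.linearCombination ℤ P.coroot c' = (2 : ℤ) • (ℓ k • P.coroot k) := by
    rw [rootForm_smul_coroot_eq_sum hck, Finsupp.linearCombination_apply,
      Finsupp.sum_fintype c' (fun i a => a • P.coroot i) (fun j => zero_smul _ _),
      Finsupp.sum_fintype c (fun i a => (a * P.RootForm (P.root i) (P.root i)) • P.coroot i)
        (fun j => by rw [zero_mul, zero_smul]), Finset.smul_sum]
    refine Finset.sum_congr rfl fun j _ => ?_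
    rw [hc'app, ← mul_smul, mul_assoc]
  have h2 : Finsupp.linearCombination ℤ P.coroot (ℓ k • e) = (2 : ℤ) • (ℓ k • P.coroot k) := by
    rw [map_smul, he3, smul_comm]
  have h3 : ℓ k • e = c' :=
    eq_of_linearCombination_eq (P := P.flip) hli hesupp hc'supp (h2.trans h1.symm)
  have h4 := DFunLike.congr_fun h3 i
  rw [Finsupp.smul_apply, smul_eq_mul, hc'app] at h4
  refine ⟨⟨e i, h4.symm⟩, fun hind => ?_⟩
  obtain ⟨t, ht⟩ := he2 i hi hind
  refine ⟨t, ?_⟩
  rw [← h4, ht]
  ring

end Groth.Agent.Lib.RootDDual_helper8
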