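import Groth.Agent.Lib.RootDHom_helper8

set_option autoImplicit false

/-!
# The canonical quadratic form on roots (helper8)
-/

namespace Groth.Agent.Lib.RootDLen_helper8

open RootD Set RootPairing Groth.Agent.Lib.RootD_helper8 Groth.Agent.Lib.RootDPos_helper8
  Groth.Agent.Lib.RootDWeyl_helper8 Groth.Agent.Lib.RootDPar_helper8
  Groth.Agent.Lib.RootDIrr_helper8

variable {ι M N : Type*} [AddCommGroup M] [AddCommGroup N] (P : RootPairing ι ℤ M N)

lemma rootForm_root_self_pos [Fintype ι] (i : ι) : 0 < P.RootForm (P.root i) (P.root i) := by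
  rw [rootForm_root_self]
  have h1 : P.pairing i i * P.pairing i i ≤ ∑ j, P.pairing i j * P.pairing i j :=
    Finset.single_le_sum (f := fun j => P.pairing i j * P.pairing i j)
      (fun j _ => mul_self_nonneg _) (Finset.mem_univ i)
  rw [pairing_same] at h1
  linarith

end Groth.Agent.Lib.RootDLen_helper8
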