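import Groth.Agent.Lib.RootDWord_helper8
import Groth.Agent.Lib.RootDDual_helper8
import Groth.Agent.Lib.RootDLen_helper8

set_option autoImplicit false

/-!
# Dominant homomorphisms and the Weyl group (helper8)
-/

namespace Groth.Agent.Lib.RootDDom_helper8

open RootD Set RootPairing Groth.Agent.Lib.RootD_helper8 Groth.Agent.Lib.RootDPos_helper8
  Groth.Agent.Lib.RootDWeyl_helper8 Groth.Agent.Lib.RootDPar_helper8
  Groth.Agent.Lib.RootDForm_helper8 Groth.Agent.Lib.RootDProp_helper8
  Groth.Agent.Lib.RootDGen_helper8 Groth.Agent.Lib.RootDWord_helper8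
  Groth.Agent.Lib.RootDDual_helper8 Groth.Agent.Lib.RootDLen_helper8

variable {ι M N : Type*} [AddCommGroup M] [AddCommGroup N] {P : RootPairing ι ℤ M N}
variable {Γ : Type*} [AddCommGroup Γ] [LinearOrder Γ] [IsOrderedAddMonoid Γ]

/-- Every additive map is Weyl-conjugate to a dominant one. -/
lemma exists_weyl_dominant [Finite ι] {S : Set ι} (hS : IsPosSys P S) (f : M →+ Γ) :
    ∃ g ∈ P.weylGroup, ∀ i ∈ S, 0 ≤ f (g • P.root i) := by
  obtain ⟨g, hg, hsub⟩ := exists_weyl_smul_subset hS (P' := {i | 0 ≤ f (P.root i)}) (by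
    intro i
    simp only [Set.mem_ofPred_eq, root_neg, map_neg, Left.nonneg_neg_iff]
    exact le_total _ _) (by
    intro i j k hi hj hk
    simp only [Set.mem_ofPred_eq] at *
    rw [hk, map_add]; exact add_nonneg hi hj)
  refine ⟨g, hg, fun i hi => ?_⟩
  have := hsub ⟨i, hi, rfl⟩
  simpa [Groth.Agent.Lib.RootDWeyl_helper8.root_smul] using this

lemma dominant_fix_aux [Finite ι] {Δ : Set ι} (hΔ : IsSimpleSys P Δ) (f : M →+ Γ)
    (hf : ∀ i ∈ posOf P Δ, 0 ≤ f (P.root i)) :
    ∀ (n : ℕ) (l : List ι), l.length = n → (∀ x ∈ l, x ∈ Δ) →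
      (∀ l' : List ι, (∀ x ∈ l', x ∈ Δ) → wprod P l' = wprod P l → l.length ≤ l'.length) →
      (∀ i ∈ Δ, 0 ≤ f (wprod P l • P.root i)) → ∀ m : M, f (wprod P l • m) = f m := by
  intro n
  induction n with
  | zero =>
    intro l hl _ _ _ m
    have : l = [] := List.length_eq_zero_iff.mp hl
    subst this
    simp
  | succ n ih =>
    intro l hlen hl hmin hdom m
    rcases List.eq_nil_or_concat l with h | ⟨l₀, d, h⟩
    · rw [h] at hlen; simp at hlen
    rw [List.concat_eq_append] at h
    subst h
    have hl₀ : ∀ x ∈ l₀, x ∈ Δ := fun x hx => hl x (List.mem_append_left _ hx)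
    have hd : d ∈ Δ := hl d (by simp)
    have hl₀len : l₀.length = n := by
      simp only [List.length_append, List.length_cons, List.length_nil] at hlen
      omega
    have hmin₀ : ∀ l' : List ι, (∀ x ∈ l', x ∈ Δ) → wprod P l' = wprod P l₀ →
        l₀.length ≤ l'.length := by
      intro l' hl' hl'w
      have h1 := hmin (l' ++ [d]) (by
        intro x hx
        rcases List.mem_append.mp hx with h | h
        · exact hl' x h
        · have : x = d := by simpa using h
          rw [this]; exact hd) (by rw [wprod_append, wprod_append, hl'w])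
      simp only [List.length_append, List.length_cons, List.length_nil] at h1
      omega
    have hpos : wprod P l₀ • d ∈ posOf P Δ := wprod_smul_mem_posOf_of_minimal hΔ hl₀ hd hmin
    have h1 : 0 ≤ f (wprod P l₀ • P.root d) := by
      rw [← Groth.Agent.Lib.RootDWeyl_helper8.root_smul]; exact hf _ hpos
    have hform : ∀ x : M, wprod P (l₀ ++ [d]) • x =
        wprod P l₀ • x - P.coroot' d x • (wprod P l₀ • P.root d) := by
      intro x
      rw [wprod_append, wprod_singleton, mul_smul, Equiv.reflection_smul, P.reflection_apply,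
        smul_sub, smul_comm]
    have h2 : 0 ≤ f (wprod P (l₀ ++ [d]) • P.root d) := hdom d hd
    rw [hform] at h2
    simp only [root_coroot'_eq_pairing, pairing_same, map_sub, map_zsmul] at h2
    have h0 : f (wprod P l₀ • P.root d) = 0 := by
      apply le_antisymm _ h1
      have : f (wprod P l₀ • P.root d) - (2 : ℤ) • f (wprod P l₀ • P.root d) =
          - f (wprod P l₀ • P.root d) := by
        rw [two_smul]; abel
      rw [this] at h2
      exact neg_nonneg.mp h2
    have heq : ∀ x : M, f (wprod P (l₀ ++ [d]) • x) = f (wprod P l₀ • x) := by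
      intro x
      rw [hform, map_sub, map_zsmul, h0, smul_zero, sub_zero]
    rw [heq]
    apply ih l₀ hl₀len hl₀ hmin₀
    intro i hi
    rw [← heq]
    exact hdom i hi

/-- A dominant additive map with a dominant Weyl conjugate equals that conjugate. -/
lemma dominant_fix [Finite ι] {S : Set ι} (hS : IsPosSys P S) (f : M →+ Γ) {g : P.Aut}
    (hg : g ∈ P.weylGroup) (hf : ∀ i ∈ S, 0 ≤ f (P.root i))
    (hfg : ∀ i ∈ S, 0 ≤ f (g • P.root i)) (m : M) : f (g • m) = f m := by
  classical
  obtain ⟨Δ, hΔ, hΔS, rfl⟩ := exists_isSimpleSys_of_isPosSys hS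
  rw [← reflGroup_simple_eq_weylGroup hΔ] at hg
  have hex : ∃ n : ℕ, ∃ l : List ι, (∀ a ∈ l, a ∈ Δ) ∧ wprod P l = g ∧ l.length = n := by
    obtain ⟨l, hl, hlg⟩ := exists_wprod_eq hg
    exact ⟨l.length, l, hl, hlg, rfl⟩
  obtain ⟨l, hl, hlg, hlen⟩ := Nat.find_spec hex
  have hmin : ∀ l' : List ι, (∀ x ∈ l', x ∈ Δ) → wprod P l' = wprod P l →
      l.length ≤ l'.length := by
    intro l' hl' hl'g
    rw [hlen]
    exact Nat.find_min' hex ⟨l', hl', hl'g.trans hlg, rfl⟩
  have := dominant_fix_aux hΔ f hf _ l rfl hl hmin (by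
    intro i hi
    rw [hlg]
    exact hfg i (hΔS hi)) m
  rw [hlg] at this
  exact this

/-- Positivity against the simple coroots propagates to all positive coroots. -/
lemma coroot'_nonneg_of_simple [Fintype ι] {Δ : Set ι} (hΔ : IsSimpleSys P Δ) {m : M}
    (hm : ∀ j ∈ Δ, 0 ≤ P.coroot' j m) {k : ι} (hk : k ∈ posOf P Δ) : 0 ≤ P.coroot' k m := by
  have h1 := rootForm_smul_coroot_eq_sum (P := P) (linearCombination_coeff hΔ k)
  have h2 := congrArg (fun n => P.toLinearMap m n) h1
  simp only [map_smul, Finsupp.sum, map_sum, smul_eq_mul] at h2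
  have hpos := rootForm_root_self_pos (P := P) k
  have h3 : 0 ≤ P.RootForm (P.root k) (P.root k) * P.toLinearMap m (P.coroot k) := by
    rw [h2]
    apply Finset.sum_nonneg
    intro i hi
    have hiΔ : i ∈ Δ := support_coeff hΔ k hi
    have hc : 0 ≤ coeff hΔ k i := (mem_posOf_iff hΔ k).mp hk i
    have := hm i hiΔ
    have hpi := rootForm_root_self_pos (P := P) i
    exact mul_nonneg (mul_nonneg hc hpi.le) this
  exact nonneg_of_mul_nonneg_right h3 hpos

lemma coroot'_pos_of_simple [Fintype ι] {Δ : Set ι} (hΔ : IsSimpleSys P Δ) {m : M}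
    (hm : ∀ j ∈ Δ, 0 < P.coroot' j m) {k : ι} (hk : k ∈ posOf P Δ) : 0 < P.coroot' k m := by
  have h1 := rootForm_smul_coroot_eq_sum (P := P) (linearCombination_coeff hΔ k)
  have h2 := congrArg (fun n => P.toLinearMap m n) h1
  simp only [map_smul, Finsupp.sum, map_sum, smul_eq_mul] at h2
  have hpos := rootForm_root_self_pos (P := P) k
  obtain ⟨j, hjΔ, hj1⟩ := exists_one_le_coeff hΔ hk
  have h3 : 0 < P.RootForm (P.root k) (P.root k) * P.toLinearMap m (P.coroot k) := by
    rw [h2]
    apply Finset.sum_pos'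
    · intro i hi
      have hiΔ : i ∈ Δ := support_coeff hΔ k hi
      have hc : 0 ≤ coeff hΔ k i := (mem_posOf_iff hΔ k).mp hk i
      have := (hm i hiΔ).le
      have hpi := rootForm_root_self_pos (P := P) i
      exact mul_nonneg (mul_nonneg hc hpi.le) this
    · refine ⟨j, ?_, ?_⟩
      · rw [Finsupp.mem_support_iff]; omega
      · have hpj := rootForm_root_self_pos (P := P) j
        exact mul_pos (mul_pos (by omega) hpj) (hm j hjΔ)
  rcases lt_or_ge 0 (P.coroot' k m) with h' | h'
  · exact h'
  · exfalso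
    have : P.RootForm (P.root k) (P.root k) * P.toLinearMap m (P.coroot k) ≤ 0 :=
      mul_nonpos_of_nonneg_of_nonpos hpos.le h'
    omega

open Classical in
/-- The sum of the positive roots pairs positively with every simple coroot. -/
lemma coroot'_sum_posOf_pos [Fintype ι] {Δ : Set ι}
    (hΔ : IsSimpleSys P Δ) {j : ι} (hj : j ∈ Δ) :
    0 < P.coroot' j (∑ k ∈ Finset.univ.filter (· ∈ posOf P Δ), P.root k) := by
  rw [map_sum]
  simp only [root_coroot'_eq_pairing]
  set T := Finset.univ.filter (· ∈ posOf P Δ) with hT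
  set A := T.filter (fun k => P.root k = P.root j ∨ P.root k = (2 : ℤ) • P.root j) with hA
  have memT : ∀ k, k ∈ T ↔ k ∈ posOf P Δ := by intro k; simp [hT]
  have memA : ∀ k, k ∈ A ↔ k ∈ posOf P Δ ∧
      (P.root k = P.root j ∨ P.root k = (2 : ℤ) • P.root j) := by intro k; simp [hA, hT]
  have hsplit : ∑ k ∈ T, P.pairing k j = ∑ k ∈ A, P.pairing k j + ∑ k ∈ T \ A, P.pairing k j := by
    rw [add_comm]
    exact (Finset.sum_sdiff (Finset.filter_subset _ _)).symm
  have hzero : ∑ k ∈ T \ A, P.pairing k j = 0 := by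
    apply Finset.sum_involution (fun k _ => P.reflectionPerm j k)
    · intro k _
      rw [← root_coroot'_eq_pairing, ← root_coroot'_eq_pairing, P.root_reflectionPerm,
        P.reflection_apply, map_sub, map_smul]
      simp only [root_coroot'_eq_pairing, pairing_same, smul_eq_mul]
      ring
    · intro k _ hk0 hfix
      have h1 := congrArg P.root hfix
      rw [P.root_reflectionPerm, P.reflection_apply] at h1
      have h2 : P.coroot' j (P.root k) • P.root j = 0 := by
        have : P.root k - P.coroot' j (P.root k) • P.root j = P.root k - 0 := by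
          rw [sub_zero]; exact h1
        exact sub_right_injective this
      have := isTorsionFree P
      rcases smul_eq_zero.mp h2 with h3 | h3
      · exact hk0 (by rwa [root_coroot'_eq_pairing] at h3)
      · exact P.ne_zero j h3
    · intro k hk
      rw [Finset.mem_sdiff, memT, memA] at hk ⊢
      obtain ⟨hkpos, hkA⟩ := hk
      have hkA' : ¬ (P.root k = P.root j ∨ P.root k = (2 : ℤ) • P.root j) := fun h =>
        hkA ⟨hkpos, h⟩
      push Not at hkA'
      have hkj : k ≠ j := fun h => hkA'.1 (by rw [h])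
      have hpos' := reflectionPerm_mem_posOf' hΔ hj hkpos hkj hkA'.2
      refine ⟨hpos', ?_⟩
      rintro ⟨-, h | h⟩
      · -- `s_j k = j` means `k = -j`
        have : k = P.reflectionPerm j j := by
          have h5 : P.reflectionPerm j k = j := P.root.injective h
          have h6 := P.reflectionPerm_self j k
          rw [h5] at h6
          exact h6.symm
        exact not_mem_posOf_and_neg_mem hΔ j ⟨subset_posOf hj, this ▸ hkpos⟩
      · have h5 : P.root k = -((2 : ℤ) • P.root j) := by
          have h6 := congrArg (P.reflection j) h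
          rw [← P.root_reflectionPerm, P.reflectionPerm_self, map_smul, P.reflection_apply_self] at h6
          rw [h6]; simp
        have h7 : P.root (P.reflectionPerm k k) = (2 : ℤ) • P.root j := by
          rw [root_neg, h5, neg_neg]
        have h8 : P.reflectionPerm k k ∈ posOf P Δ := by
          change P.root _ ∈ natSpan P Δ
          rw [h7, two_smul]
          exact add_mem (subset_posOf hj) (subset_posOf hj)
        exact not_mem_posOf_and_neg_mem hΔ k ⟨hkpos, h8⟩
    · intro k _
      exact P.reflectionPerm_self j k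
  rw [hsplit, hzero, add_zero]
  apply Finset.sum_pos'
  · intro k hk
    rw [memA] at hk
    rcases hk.2 with h | h
    · rw [← root_coroot'_eq_pairing, h, root_coroot'_eq_pairing, pairing_same]; norm_num
    · rw [← root_coroot'_eq_pairing, h, map_smul, root_coroot'_eq_pairing, pairing_same]; norm_num
  · refine ⟨j, ?_, ?_⟩
    · rw [memA]
      exact ⟨subset_posOf hj, Or.inl rfl⟩
    · rw [pairing_same]; norm_num

/-- There is a strictly dominant weight. -/
lemma exists_strictly_dominant [Fintype ι] {S : Set ι} (hS : IsPosSys P S) :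
    ∃ m : M, ∀ i ∈ S, 0 < P.coroot' i m := by
  classical
  obtain ⟨Δ, hΔ, hΔS, rfl⟩ := exists_isSimpleSys_of_isPosSys hS
  exact ⟨_, fun i hi => coroot'_pos_of_simple hΔ (fun j hj => coroot'_sum_posOf_pos hΔ hj) hi⟩

lemma sub_eq_sum_aux [Fintype ι] {Δ : Set ι} (hΔ : IsSimpleSys P Δ) (f : M →+ Γ)
    (hf : ∀ i ∈ posOf P Δ, 0 ≤ f (P.root i)) :
    ∀ (n : ℕ) (l : List ι), l.length = n → (∀ x ∈ l, x ∈ Δ) →
      (∀ l' : List ι, (∀ x ∈ l', x ∈ Δ) → wprod P l' = wprod P l → l.length ≤ l'.length) →
      ∃ c : ι → Γ, (∀ i, 0 ≤ c i) ∧ (∀ i, i ∉ posOf P Δ → c i = 0) ∧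
        ∀ m : M, f m - f (wprod P l • m) = ∑ i, P.coroot' i m • c i := by
  classical
  intro n
  induction n with
  | zero =>
    intro l hl _ _
    have : l = [] := List.length_eq_zero_iff.mp hl
    subst this
    exact ⟨fun _ => 0, fun _ => le_refl _, fun _ _ => rfl, fun m => by simp⟩
  | succ n ih =>
    intro l hlen hl hmin
    rcases List.eq_nil_or_concat l with h | ⟨l₀, d, h⟩
    · rw [h] at hlen; simp at hlen
    rw [List.concat_eq_append] at h
    subst h
    have hl₀ : ∀ x ∈ l₀, x ∈ Δ := fun x hx => hl x (List.mem_append_left _ hx)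
    have hd : d ∈ Δ := hl d (by simp)
    have hl₀len : l₀.length = n := by
      simp only [List.length_append, List.length_cons, List.length_nil] at hlen
      omega
    have hmin₀ : ∀ l' : List ι, (∀ x ∈ l', x ∈ Δ) → wprod P l' = wprod P l₀ →
        l₀.length ≤ l'.length := by
      intro l' hl' hl'w
      have h1 := hmin (l' ++ [d]) (by
        intro x hx
        rcases List.mem_append.mp hx with h | h
        · exact hl' x h
        · have : x = d := by simpa using h
          rw [this]; exact hd) (by rw [wprod_append, wprod_append, hl'w])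
      simp only [List.length_append, List.length_cons, List.length_nil] at h1
      omega
    have hpos : wprod P l₀ • d ∈ posOf P Δ := wprod_smul_mem_posOf_of_minimal hΔ hl₀ hd hmin
    have h1 : 0 ≤ f (wprod P l₀ • P.root d) := by
      rw [← Groth.Agent.Lib.RootDWeyl_helper8.root_smul]; exact hf _ hpos
    have hform : ∀ x : M, wprod P (l₀ ++ [d]) • x =
        wprod P l₀ • x - P.coroot' d x • (wprod P l₀ • P.root d) := by
      intro x
      rw [wprod_append, wprod_singleton, mul_smul, Equiv.reflection_smul, P.reflection_apply,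
        smul_sub, smul_comm]
    obtain ⟨c₀, hc₀, hc₀S, hc₀f⟩ := ih l₀ hl₀len hl₀ hmin₀
    refine ⟨fun i => c₀ i + if i = d then f (wprod P l₀ • P.root d) else 0, ?_, ?_, ?_⟩
    · intro i
      by_cases hi : i = d
      · simp only [hi, if_true]; exact add_nonneg (hc₀ d) h1
      · simp only [hi, if_false, add_zero]; exact hc₀ i
    · intro i hi
      have hid : i ≠ d := fun h => hi (h ▸ subset_posOf hd)
      simp only [hid, if_false, add_zero]
      exact hc₀S i hi
    · intro m
      rw [hform, map_sub, map_zsmul]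
      simp only [smul_add, Finset.sum_add_distrib, smul_ite, smul_zero, Finset.sum_ite_eq',
        Finset.mem_univ, if_true]
      rw [← hc₀f m]
      abel

/-- Strong dominance of the Weyl conjugates by a dominant map. -/
lemma exists_coeff_of_dominant [Fintype ι] {S : Set ι} (hS : IsPosSys P S) (f : M →+ Γ)
    (hf : ∀ i ∈ S, 0 ≤ f (P.root i)) {g : P.Aut} (hg : g ∈ P.weylGroup) :
    ∃ c : ι → Γ, (∀ i, 0 ≤ c i) ∧ (∀ i, i ∉ S → c i = 0) ∧
      ∀ m : M, f m - f (g • m) = ∑ i, P.coroot' i m • c i := by
  classical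
  obtain ⟨Δ, hΔ, hΔS, rfl⟩ := exists_isSimpleSys_of_isPosSys hS
  rw [← reflGroup_simple_eq_weylGroup hΔ] at hg
  have hex : ∃ n : ℕ, ∃ l : List ι, (∀ a ∈ l, a ∈ Δ) ∧ wprod P l = g ∧ l.length = n := by
    obtain ⟨l, hl, hlg⟩ := exists_wprod_eq hg
    exact ⟨l.length, l, hl, hlg, rfl⟩
  obtain ⟨l, hl, hlg, hlen⟩ := Nat.find_spec hex
  have hmin : ∀ l' : List ι, (∀ x ∈ l', x ∈ Δ) → wprod P l' = wprod P l →
      l.length ≤ l'.length := by
    intro l' hl' hl'g
    rw [hlen]
    exact Nat.find_min' hex ⟨l', hl', hl'g.trans hlg, rfl⟩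
  have := sub_eq_sum_aux hΔ f hf _ l rfl hl hmin
  rw [hlg] at this
  exact this

/-- Weak dominance of the Weyl conjugates characterises dominant maps. -/
lemma dominant_of_le [Fintype ι] {S : Set ι} (hS : IsPosSys P S) (f : M →+ Γ)
    (h : ∀ g : P.Aut, g ∈ P.weylGroup → ∀ m : M, (∀ i ∈ S, 0 ≤ P.coroot' i m) →
      f (g • m) ≤ f m) : ∀ i ∈ S, 0 ≤ f (P.root i) := by
  obtain ⟨m₀, hm₀⟩ := exists_strictly_dominant hS
  intro i hi
  have h1 := h (Equiv.reflection P i) (P.reflection_mem_weylGroup i) m₀
    (fun k hk => (hm₀ k hk).le)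
  rw [Equiv.reflection_smul, P.reflection_apply, map_sub, map_zsmul] at h1
  by_contra hneg
  push Not at hneg
  have h2 : 0 < P.coroot' i m₀ • (- f (P.root i)) := zsmul_pos (neg_pos.mpr hneg) (hm₀ i hi)
  rw [smul_neg] at h2
  have h3 : f m₀ < f m₀ - P.coroot' i m₀ • f (P.root i) := by
    rw [sub_eq_add_neg]
    exact lt_add_of_pos_right _ h2
  exact absurd h1 (not_le.mpr h3)

/-- Weak dominance: a dominant map takes its largest value on a Weyl orbit at the dominant weight. -/
lemma le_of_dominant [Fintype ι] {S : Set ι} (hS : IsPosSys P S) (f : M →+ Γ)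
    (hf : ∀ i ∈ S, 0 ≤ f (P.root i)) {g : P.Aut} (hg : g ∈ P.weylGroup) {m : M}
    (hm : ∀ i ∈ S, 0 ≤ P.coroot' i m) : f (g • m) ≤ f m := by
  obtain ⟨c, hc, hcS, hcf⟩ := exists_coeff_of_dominant hS f hf hg
  have h1 : 0 ≤ ∑ i, (P.coroot' i m) • c i := by
    apply Finset.sum_nonneg
    intro i _
    by_cases hi : i ∈ S
    · exact zsmul_nonneg (hc i) (hm i hi)
    · rw [hcS i hi, smul_zero]
  rw [← hcf m] at h1
  exact sub_nonneg.mp h1

/-- Every weight is Weyl-conjugate to a dominant weight. -/
lemma exists_weyl_smul_dominant_weight [Fintype ι] {S : Set ι} (hS : IsPosSys P S) (m : M) :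
    ∃ g ∈ P.weylGroup, ∀ i ∈ S, 0 ≤ P.coroot' i (g • m) := by
  classical
  obtain ⟨g, hg, hsub⟩ := exists_weyl_smul_subset hS (P' := {i | 0 ≤ P.coroot' i m}) (by
    intro i
    simp only [Set.mem_ofPred_eq]
    have : P.coroot' (P.reflectionPerm i i) m = - P.coroot' i m := by
      change P.toLinearMap m (P.coroot (P.reflectionPerm i i)) = - P.toLinearMap m (P.coroot i)
      rw [P.coroot_reflectionPerm, P.coreflection_apply_self, map_neg]
    rw [this]
    omega) (by
    intro i j k hi hj hk
    simp only [Set.mem_ofPred_eq] at *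
    have hc : Finsupp.linearCombination ℤ P.root (Finsupp.single i 1 + Finsupp.single j 1) =
        P.root k := by
      rw [map_add, Finsupp.linearCombination_single, Finsupp.linearCombination_single, one_smul,
        one_smul, hk]
    have h1 := rootForm_smul_coroot_eq_sum (P := P) hc
    have hpk := rootForm_root_self_pos (P := P) k
    have hpi := rootForm_root_self_pos (P := P) i
    have hpj := rootForm_root_self_pos (P := P) j
    have h2 : P.RootForm (P.root k) (P.root k) • P.coroot k =
        P.RootForm (P.root i) (P.root i) • P.coroot i +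
          P.RootForm (P.root j) (P.root j) • P.coroot j := by
      rw [h1, Finsupp.sum_add_index' (by intro a; simp) (by intro a b c; simp [add_mul, add_smul]),
        Finsupp.sum_single_index (by simp), Finsupp.sum_single_index (by simp), one_mul, one_mul]
    have h3 := congrArg (fun n => P.toLinearMap m n) h2
    simp only [map_smul, map_add, smul_eq_mul] at h3
    have h4 : 0 ≤ P.RootForm (P.root k) (P.root k) * P.toLinearMap m (P.coroot k) := by
      rw [h3]
      exact add_nonneg (mul_nonneg hpi.le hi) (mul_nonneg hpj.le hj)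
    exact nonneg_of_mul_nonneg_right h4 hpk)
  refine ⟨g⁻¹, inv_mem hg, fun i hi => ?_⟩
  have h1 : 0 ≤ P.coroot' (g • i) m := hsub ⟨i, hi, rfl⟩
  have h2 := toLinearMap_smul_coroot g⁻¹ m (g • i)
  rw [inv_smul_smul] at h2
  change 0 ≤ P.toLinearMap (g⁻¹ • m) (P.coroot i)
  rw [h2]
  exact h1

end Groth.Agent.Lib.RootDDom_helper8
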