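import Groth.Agent.Lib.RootD_helper8

set_option autoImplicit false

/-!
# Words in reflections as permutations of the roots; the strong exchange property (helper8)
-/

namespace Groth.Agent.Lib.RootDExch_helper8

open RootD Set RootPairing Groth.Agent.Lib.RootD_helper8

section general

variable {ι R M N : Type*} [CommRing R] [AddCommGroup M] [Module R M]
  [AddCommGroup N] [Module R N] (P : RootPairing ι R M N)

lemma reflectionPerm_reflectionPerm_eq (i j : ι) :
    P.reflectionPerm (P.reflectionPerm j i) =
      P.reflectionPerm j * P.reflectionPerm i * P.reflectionPerm j := by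
  ext k
  apply P.root.injective
  simp only [Equiv.Perm.mul_apply, P.root_reflectionPerm, P.reflection_reflectionPerm,
    LinearEquiv.mul_apply]

/-- The permutation of the roots defined by a word in the reflections. -/
def wperm (l : List ι) : Equiv.Perm ι := (l.map P.reflectionPerm).prod

@[simp] lemma wperm_nil : wperm P [] = 1 := rfl

@[simp] lemma wperm_cons (a : ι) (l : List ι) :
    wperm P (a :: l) = P.reflectionPerm a * wperm P l := by
  simp [wperm]

@[simp] lemma wperm_append (l l' : List ι) : wperm P (l ++ l') = wperm P l * wperm P l' := by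
  simp [wperm]

lemma reflectionPerm_wperm (l : List ι) (j : ι) :
    P.reflectionPerm (wperm P l j) = wperm P l * P.reflectionPerm j * (wperm P l)⁻¹ := by
  induction l with
  | nil => simp
  | cons a l ih =>
    rw [wperm_cons, Equiv.Perm.mul_apply, reflectionPerm_reflectionPerm_eq, ih, mul_inv_rev,
      P.reflectionPerm_inv]
    simp only [mul_assoc]

end general

section int

variable {ι M N : Type*} [AddCommGroup M] [AddCommGroup N] {P : RootPairing ι ℤ M N}
  {Δ : Set ι}

/-- A simple reflection sending a positive root to a non-positive one: the root is the simple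
root (in a reduced pairing). -/
lemma eq_of_reflectionPerm_not_mem_posOf (hΔ : IsSimpleSys P Δ)
    (hred : ∀ i j : ι, P.root i ≠ (2 : ℤ) • P.root j) {j k : ι} (hj : j ∈ Δ)
    (hk : k ∈ posOf P Δ) (hn : P.reflectionPerm j k ∉ posOf P Δ) : k = j := by
  by_contra hkj
  exact hn (reflectionPerm_mem_posOf' hΔ hj hk hkj (hred k j))

/-- The strong exchange property. -/
theorem exists_exchange (hΔ : IsSimpleSys P Δ)
    (hred : ∀ i j : ι, P.root i ≠ (2 : ℤ) • P.root j) (l : List ι) (hl : ∀ a ∈ l, a ∈ Δ)
    (c : ι) (hc : c ∈ posOf P Δ) (hneg : (wperm P l).symm c ∉ posOf P Δ) :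
    ∃ i : ℕ, i < l.length ∧
      P.reflectionPerm c * wperm P (l.take (i + 1)) = wperm P (l.take i) := by
  classical
  have hex : ∃ k, (wperm P (l.take k)).symm c ∉ posOf P Δ :=
    ⟨l.length, by rwa [List.take_length]⟩
  set k₀ := Nat.find hex with hk₀
  have hk₀spec := Nat.find_spec hex
  have hk₀le : k₀ ≤ l.length := Nat.find_min' hex (by rwa [List.take_length])
  have hk₀ne : k₀ ≠ 0 := by
    intro h0
    rw [← hk₀, h0] at hk₀spec
    simp only [List.take_zero, wperm_nil] at hk₀spec
    exact hk₀spec hc
  obtain ⟨i, hi⟩ := Nat.exists_eq_succ_of_ne_zero hk₀ne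
  have hilt : i < l.length := by omega
  have hipos : (wperm P (l.take i)).symm c ∈ posOf P Δ := by
    have := Nat.find_min hex (m := i) (by omega)
    exact not_not.mp this
  refine ⟨i, hilt, ?_⟩
  have htake : l.take (i + 1) = l.take i ++ [l[i]] := List.take_succ_eq_append_getElem hilt
  have hjΔ : l[i] ∈ Δ := hl _ (List.getElem_mem hilt)
  set g := wperm P (l.take i) with hg
  have hstep : (wperm P (l.take (i + 1))).symm c = P.reflectionPerm l[i] (g.symm c) := by
    rw [htake, wperm_append]
    simp only [wperm_cons, wperm_nil, mul_one]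
    change (g * P.reflectionPerm l[i])⁻¹ c = _
    rw [mul_inv_rev, P.reflectionPerm_inv]
    rfl
  have hnn : P.reflectionPerm l[i] (g.symm c) ∉ posOf P Δ := by
    rw [← hstep]
    rw [← hk₀, hi] at hk₀spec
    exact hk₀spec
  have heq : g.symm c = l[i] := eq_of_reflectionPerm_not_mem_posOf hΔ hred hjΔ hipos hnn
  have hc' : c = g l[i] := by
    rw [← heq]; simp
  rw [htake, wperm_append, hc', reflectionPerm_wperm]
  simp only [wperm_cons, wperm_nil, mul_one]
  rw [mul_assoc, mul_assoc, ← mul_assoc g⁻¹, inv_mul_cancel, one_mul]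
  have := P.reflectionPerm_sq l[i]
  rw [sq] at this
  rw [this, mul_one]

end int

end Groth.Agent.Lib.RootDExch_helper8
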