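import Groth.Agent.Lib.RootDPar_helper8
import Groth.Agent.Lib.RootDForm_helper8
import Groth.Agent.Lib.RootDProp_helper8

set_option autoImplicit false

/-!
# Generation of the Weyl group by simple reflections (helper8)
-/

namespace Groth.Agent.Lib.RootDGen_helper8

open RootD Set RootPairing Groth.Agent.Lib.RootD_helper8 Groth.Agent.Lib.RootDPos_helper8
  Groth.Agent.Lib.RootDWeyl_helper8 Groth.Agent.Lib.RootDPar_helper8
  Groth.Agent.Lib.RootDForm_helper8 Groth.Agent.Lib.RootDProp_helper8

variable {ι M N : Type*} [AddCommGroup M] [AddCommGroup N] {P : RootPairing ι ℤ M N}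

/-- Conjugating a reflection by an automorphism. -/
lemma conj_reflection (u : P.Aut) (i : ι) :
    u * Equiv.reflection P i * u⁻¹ = Equiv.reflection P (u • i) := by
  apply Equiv.weightHom_injective P
  ext m
  change (u * Equiv.reflection P i * u⁻¹) • m = Equiv.reflection P (u • i) • m
  rw [mul_smul, mul_smul, Equiv.reflection_smul, Equiv.reflection_smul, P.reflection_apply,
    P.reflection_apply, smul_sub, smul_inv_smul, root_smul, smul_comm]
  congr 2
  have := toLinearMap_smul_coroot u (u⁻¹ • m) i
  rw [smul_inv_smul] at this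
  simp only [RootPairing.coroot', LinearMap.flip_apply]
  exact this.symm

/-- The subgroup generated by the reflections in a set of roots. -/
noncomputable def reflGroup (P : RootPairing ι ℤ M N) (S : Set ι) : Subgroup P.Aut :=
  Subgroup.closure ((fun i : ι => Equiv.reflection P i) '' S)

lemma reflection_mem_reflGroup {S : Set ι} {i : ι} (hi : i ∈ S) :
    Equiv.reflection P i ∈ reflGroup P S :=
  Subgroup.subset_closure ⟨i, hi, rfl⟩

lemma reflGroup_le_weylGroup (S : Set ι) : reflGroup P S ≤ P.weylGroup := by
  apply Subgroup.closure_mono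
  rintro - ⟨i, -, rfl⟩
  exact ⟨i, rfl⟩

lemma isIndiv_smul (u : P.Aut) {k : ι} (hk : IsIndiv P k) : IsIndiv P (u • k) := by
  intro j hj
  apply hk (u⁻¹ • j)
  have := congrArg (fun x => u⁻¹ • x) hj
  beta_reduce at this
  rw [smul_comm, ← root_smul, ← root_smul, inv_smul_smul] at this
  exact this

lemma isIndiv_neg {k : ι} (hk : IsIndiv P k) : IsIndiv P (P.reflectionPerm k k) := by
  intro j hj
  apply hk (P.reflectionPerm j j)
  rw [root_neg] at hj ⊢
  rw [smul_neg, hj, neg_neg]

/-- The height of the reflection of a root in a simple root. -/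
lemma height_reflectionPerm {Δ : Set ι} (hΔ : IsSimpleSys P Δ) {i : ι} (hi : i ∈ Δ) (k : ι) :
    height hΔ (P.reflectionPerm i k) = height hΔ k - P.pairing k i := by
  simp only [height, coeff_reflectionPerm hΔ hi, map_sub, tot_single]

/-- Every indivisible positive root is conjugate to a simple root under the group generated by the
simple reflections. -/
lemma exists_reflGroup_smul_eq_of_posOf [Finite ι] {Δ : Set ι} (hΔ : IsSimpleSys P Δ) :
    ∀ n : ℕ, ∀ k : ι, k ∈ posOf P Δ → IsIndiv P k → (height hΔ k).toNat = n →
      ∃ g ∈ reflGroup P Δ, ∃ i ∈ Δ, g • i = k := by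
  intro n
  induction n using Nat.strong_induction_on with
  | _ n ih =>
    intro k hk hind hn
    by_cases hkΔ : k ∈ Δ
    · exact ⟨1, one_mem _, k, hkΔ, one_smul _ _⟩
    · obtain ⟨j, hj, -, hjk⟩ := exists_mem_pairing_pos hΔ hk
      have hkj : 0 < P.pairing k j := (pairing_pos_iff j k).mp hjk
      have hpos : P.reflectionPerm j k ∈ posOf P Δ := by
        apply reflectionPerm_mem_posOf' hΔ hj hk
        · rintro rfl
          exact hkΔ hj
        · exact fun h => hind j h.symm
      have hh := height_reflectionPerm hΔ hj k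
      have h0 := height_nonneg hΔ hpos
      have hind' : IsIndiv P (P.reflectionPerm j k) := by
        rw [← reflection_smul_idx]
        exact isIndiv_smul _ hind
      obtain ⟨g, hg, i, hi, hgi⟩ := ih (height hΔ (P.reflectionPerm j k)).toNat (by omega) _ hpos
        hind' rfl
      refine ⟨Equiv.reflection P j * g, mul_mem (reflection_mem_reflGroup hj) hg, i, hi, ?_⟩
      rw [mul_smul, hgi, reflection_smul_idx, P.reflectionPerm_self]

/-- Every indivisible root is conjugate to a simple root under the group generated by the simple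
reflections. -/
lemma exists_reflGroup_smul_eq [Finite ι] {Δ : Set ι} (hΔ : IsSimpleSys P Δ) {k : ι}
    (hind : IsIndiv P k) : ∃ g ∈ reflGroup P Δ, ∃ i ∈ Δ, g • i = k := by
  rcases mem_posOf_or_neg_mem hΔ k with h | h
  · exact exists_reflGroup_smul_eq_of_posOf hΔ _ k h hind rfl
  · obtain ⟨g, hg, i, hi, hgi⟩ := exists_reflGroup_smul_eq_of_posOf hΔ _ _ h (isIndiv_neg hind) rfl
    refine ⟨g * Equiv.reflection P i, mul_mem hg (reflection_mem_reflGroup hi), i, hi, ?_⟩
    rw [mul_smul, reflection_smul_idx, smul_neg_idx, hgi]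
    apply P.root.injective
    rw [root_neg, root_neg, neg_neg]

/-- Every reflection lies in the group generated by the simple reflections. -/
lemma reflection_mem_reflGroup_simple [Finite ι] {Δ : Set ι} (hΔ : IsSimpleSys P Δ) (k : ι) :
    Equiv.reflection P k ∈ reflGroup P Δ := by
  have key : ∀ k, IsIndiv P k → Equiv.reflection P k ∈ reflGroup P Δ := by
    intro k hk
    obtain ⟨g, hg, i, hi, rfl⟩ := exists_reflGroup_smul_eq hΔ hk
    rw [← conj_reflection]
    exact mul_mem (mul_mem hg (reflection_mem_reflGroup hi)) (inv_mem hg)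
  by_cases hk : IsIndiv P k
  · exact key k hk
  · simp only [IsIndiv, not_forall, not_not] at hk
    obtain ⟨j, hj⟩ := hk
    have hj' : IsIndiv P j := by
      intro l hl
      have h4 : P.root k = (4 : ℤ) • P.root l := by
        rw [← hj, ← hl, smul_smul]; norm_num
      have := eq_of_root_eq_smul h4
      omega
    rw [equivReflection_eq_of_root_eq_smul hj.symm]
    exact key j hj'

/-- The simple reflections generate the Weyl group. -/
lemma reflGroup_simple_eq_weylGroup [Finite ι] {Δ : Set ι} (hΔ : IsSimpleSys P Δ) :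
    reflGroup P Δ = P.weylGroup := by
  apply le_antisymm (reflGroup_le_weylGroup Δ)
  rw [weylGroup, Subgroup.closure_le]
  rintro - ⟨k, rfl⟩
  exact reflection_mem_reflGroup_simple hΔ k

end Groth.Agent.Lib.RootDGen_helper8
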