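import Groth.Agent.Lib.RootDIrr_helper8

set_option autoImplicit false

/-!
# Homomorphisms out of the root lattice (helper8)
-/

namespace Groth.Agent.Lib.RootDHom_helper8

open RootD Set RootPairing Groth.Agent.Lib.RootD_helper8 Groth.Agent.Lib.RootDPos_helper8
  Groth.Agent.Lib.RootDWeyl_helper8 Groth.Agent.Lib.RootDPar_helper8
  Groth.Agent.Lib.RootDIrr_helper8

variable {ι M N : Type*} [AddCommGroup M] [AddCommGroup N] {P : RootPairing ι ℤ M N}

lemma span_range_root_le {Δ : Set ι} (hΔ : IsSimpleSys P Δ) :
    Submodule.span ℤ (Set.range P.root) ≤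
      Submodule.span ℤ (Set.range fun i : Δ => P.root (i : ι)) := by
  rw [Submodule.span_le]
  rintro - ⟨k, rfl⟩
  have := mem_inSpan_self hΔ k
  simp only [inSpan, mem_ofPred_eq] at this
  rwa [Set.image_eq_range] at this

/-- The additive map on the root lattice with prescribed values on a simple system. -/
noncomputable def lift {Δ : Set ι} (hΔ : IsSimpleSys P Δ) {G : Type*} [AddCommGroup G]
    (f : ι → G) : Submodule.span ℤ (Set.range P.root) →+ G :=
  ((Finsupp.linearCombination ℤ (fun i : Δ => f (i : ι))).comp
    ((LinearIndependent.repr (R := ℤ) (v := fun i : Δ => P.root (i : ι)) hΔ.linInd).comp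
      (Submodule.inclusion (span_range_root_le hΔ)))).toAddMonoidHom

lemma lift_root_of_mem {Δ : Set ι} (hΔ : IsSimpleSys P Δ) {G : Type*} [AddCommGroup G]
    (f : ι → G) {i : ι} (hi : i ∈ Δ) :
    lift hΔ f ⟨P.root i, Submodule.subset_span (Set.mem_range_self i)⟩ = f i := by
  simp only [lift, LinearMap.toAddMonoidHom_coe, LinearMap.coe_comp, Function.comp_apply]
  rw [LinearIndependent.repr_eq_single (R := ℤ) (v := fun i : Δ => P.root (i : ι)) hΔ.linInd
    ⟨i, hi⟩ _ rfl]
  simp

/-- SGA3 XXI 3.5.5: an odd map on the roots, additive on pairs of roots whose sum is a root, is the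
restriction of the additive map determined by its values on a simple system. -/
lemma lift_root [Finite ι] {Δ : Set ι} (hΔ : IsSimpleSys P Δ) {G : Type*} [AddCommGroup G]
    (f : ι → G) (hneg : ∀ i : ι, f (P.reflectionPerm i i) = -f i)
    (hadd : ∀ i j k : ι, P.root k = P.root i + P.root j → f k = f i + f j) (k : ι) :
    lift hΔ f ⟨P.root k, Submodule.subset_span (Set.mem_range_self k)⟩ = f k := by
  have hpos : ∀ n : ℕ, ∀ k : ι, k ∈ posOf P Δ → (height hΔ k).toNat = n →
      lift hΔ f ⟨P.root k, Submodule.subset_span (Set.mem_range_self k)⟩ = f k := by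
    intro n
    induction n using Nat.strong_induction_on with
    | _ n ih =>
      intro k hk hn
      by_cases hkΔ : k ∈ Δ
      · exact lift_root_of_mem hΔ f hkΔ
      · obtain ⟨j, hj, l, hl, hkl, -⟩ := exists_sub_simple hΔ hk hkΔ
        have hh : height hΔ k = height hΔ l + 1 := by
          rw [height_add hΔ hkl, height_simple hΔ hj]
        have hl0 := height_nonneg hΔ hl
        have h1 := ih (height hΔ l).toNat (by omega) l hl rfl
        have h2 := lift_root_of_mem hΔ f hj
        have h3 : (⟨P.root k, Submodule.subset_span (Set.mem_range_self k)⟩ :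
            Submodule.span ℤ (Set.range P.root)) =
            ⟨P.root l, Submodule.subset_span (Set.mem_range_self l)⟩ +
            ⟨P.root j, Submodule.subset_span (Set.mem_range_self j)⟩ := by
          apply Subtype.ext
          exact hkl
        rw [h3, map_add, h1, h2, hadd l j k hkl]
  rcases mem_posOf_or_neg_mem hΔ k with h | h
  · exact hpos _ k h rfl
  · have h1 := hpos _ _ h rfl
    have h3 : (⟨P.root (P.reflectionPerm k k), Submodule.subset_span (Set.mem_range_self _)⟩ :
        Submodule.span ℤ (Set.range P.root)) =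
        -⟨P.root k, Submodule.subset_span (Set.mem_range_self k)⟩ := by
      apply Subtype.ext
      exact root_neg P k
    rw [h3, map_neg, hneg] at h1
    exact neg_injective h1

/-- Additive maps on the root lattice agreeing on the roots are equal. -/
lemma addMonoidHom_ext {G : Type*} [AddCommGroup G]
    {φ ψ : Submodule.span ℤ (Set.range P.root) →+ G}
    (h : ∀ i : ι, φ ⟨P.root i, Submodule.subset_span (Set.mem_range_self i)⟩ =
      ψ ⟨P.root i, Submodule.subset_span (Set.mem_range_self i)⟩) : φ = ψ := by
  ext ⟨x, hx⟩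
  induction hx using Submodule.span_induction with
  | mem x hx =>
    obtain ⟨i, rfl⟩ := hx
    exact h i
  | zero =>
    have : (⟨0, Submodule.zero_mem _⟩ : Submodule.span ℤ (Set.range P.root)) = 0 := rfl
    rw [this, map_zero, map_zero]
  | add x y hx hy ihx ihy =>
    have : (⟨x + y, Submodule.add_mem _ hx hy⟩ : Submodule.span ℤ (Set.range P.root)) =
        ⟨x, hx⟩ + ⟨y, hy⟩ := rfl
    rw [this, map_add, map_add, ihx, ihy]
  | smul a x hx ihx =>
    have : (⟨a • x, Submodule.smul_mem _ a hx⟩ : Submodule.span ℤ (Set.range P.root)) =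
        a • ⟨x, hx⟩ := rfl
    rw [this, map_zsmul, map_zsmul, ihx]

end Groth.Agent.Lib.RootDHom_helper8
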