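import Groth.Agent.Lib.RootDExch_helper8
import Groth.Agent.Lib.RootDDom_helper8

set_option autoImplicit false

/-!
# Counting inversions: reflecting a weight across a wall (helper8)
-/

namespace Groth.Agent.Lib.RootDInv_helper8

open RootD Set RootPairing Groth.Agent.Lib.RootD_helper8 Groth.Agent.Lib.RootDExch_helper8

variable {ι M N : Type*} [AddCommGroup M] [AddCommGroup N] {P : RootPairing ι ℤ M N}
  {Δ : Set ι}

lemma coroot'_reflectionPerm_apply (i j : ι) (m : M) :
    P.coroot' (P.reflectionPerm i j) m = P.coroot' j (P.reflection i m) := by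
  rw [P.coroot'_reflectionPerm]; rfl

lemma coroot'_reflection_apply (a γ : ι) (m : M) :
    P.coroot' a (P.reflection γ m) = P.coroot' a m - P.coroot' γ m * P.pairing γ a := by
  rw [P.reflection_apply, map_sub, map_smul, P.root_coroot'_eq_pairing, smul_eq_mul]

/-- If the reflection in a positive root `γ` makes a positive root `a` non-positive, then `a`
pairs positively with `γ`. -/
lemma pairing_pos_of_reflectionPerm_not_mem {γ a : ι} (hγ : γ ∈ posOf P Δ)
    (ha : a ∈ posOf P Δ) (hn : P.reflectionPerm γ a ∉ posOf P Δ) : 0 < P.pairing a γ := by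
  by_contra hle
  push Not at hle
  apply hn
  change P.root (P.reflectionPerm γ a) ∈ natSpan P Δ
  rw [P.root_reflectionPerm, P.reflection_apply_root]
  obtain ⟨n, hn'⟩ : ∃ n : ℕ, (n : ℤ) = - P.pairing a γ := ⟨(- P.pairing a γ).toNat, by omega⟩
  have : P.root a - P.pairing a γ • P.root γ = P.root a + n • P.root γ := by
    rw [← natCast_zsmul, hn', neg_smul, sub_eq_add_neg]
  rw [this]
  exact add_mem ha (nsmul_mem hγ n)

/-- Reflecting a weight `μ` across the wall of a positive root `γ` with `⟨μ, γ^∨⟩ > 0` strictly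
increases the number of positive roots pairing negatively. -/
theorem ncard_lt_ncard_reflection [Finite ι] (hΔ : IsSimpleSys P Δ) {γ : ι}
    (hγ : γ ∈ posOf P Δ) (μ : M) (hμ : 0 < P.coroot' γ μ) :
    Set.ncard {a | a ∈ posOf P Δ ∧ P.coroot' a μ < 0} <
      Set.ncard {a | a ∈ posOf P Δ ∧ P.coroot' a (P.reflection γ μ) < 0} := by
  classical
  set A := {a | a ∈ posOf P Δ ∧ P.coroot' a μ < 0} with hA
  set A' := {a | a ∈ posOf P Δ ∧ P.coroot' a (P.reflection γ μ) < 0} with hA'
  let φ : ι → ι := fun a => if P.reflectionPerm γ a ∈ posOf P Δ then P.reflectionPerm γ a else a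
  have hγA' : γ ∈ A' := by
    refine ⟨hγ, ?_⟩
    rw [coroot'_reflection_apply, P.pairing_same]
    linarith
  have hγA : γ ∉ A := fun h => by
    have := h.2
    omega
  have hmaps : φ '' A ⊆ A' \ {γ} := by
    rintro _ ⟨a, ⟨hapos, haμ⟩, rfl⟩
    by_cases h : P.reflectionPerm γ a ∈ posOf P Δ
    · have hφ : φ a = P.reflectionPerm γ a := if_pos h
      rw [hφ]
      refine ⟨⟨h, ?_⟩, ?_⟩
      · rw [coroot'_reflectionPerm_apply, P.reflection_same]
        exact haμ
      · intro hmem
        have h1 : P.reflectionPerm γ a = γ := hmem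
        have h2 : a = P.reflectionPerm γ γ :=
          (P.reflectionPerm_self γ a).symm.trans (congrArg _ h1)
        rw [h2] at hapos
        exact not_mem_posOf_and_neg_mem hΔ γ ⟨hγ, hapos⟩
    · have hφ : φ a = a := if_neg h
      rw [hφ]
      refine ⟨⟨hapos, ?_⟩, ?_⟩
      · rw [coroot'_reflection_apply]
        have h1 := pairing_pos_of_reflectionPerm_not_mem hγ hapos h
        have h2 : 0 < P.pairing γ a := (pairing_pos_iff a γ).mp h1
        have := mul_pos hμ h2
        linarith
      · intro hmem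
        have h1 : a = γ := hmem
        rw [h1] at haμ
        omega
  have hinj : Set.InjOn φ A := by
    intro a₁ ha₁ a₂ ha₂ heq
    by_cases h1 : P.reflectionPerm γ a₁ ∈ posOf P Δ <;>
      by_cases h2 : P.reflectionPerm γ a₂ ∈ posOf P Δ
    · have e1 : φ a₁ = P.reflectionPerm γ a₁ := if_pos h1
      have e2 : φ a₂ = P.reflectionPerm γ a₂ := if_pos h2
      rw [e1, e2] at heq
      exact (P.reflectionPerm γ).injective heq
    · have e1 : φ a₁ = P.reflectionPerm γ a₁ := if_pos h1
      have e2 : φ a₂ = a₂ := if_neg h2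
      rw [e1, e2] at heq
      exfalso
      apply h2
      rw [← heq, P.reflectionPerm_self]
      exact ha₁.1
    · have e1 : φ a₁ = a₁ := if_neg h1
      have e2 : φ a₂ = P.reflectionPerm γ a₂ := if_pos h2
      rw [e1, e2] at heq
      exfalso
      apply h1
      rw [heq, P.reflectionPerm_self]
      exact ha₂.1
    · have e1 : φ a₁ = a₁ := if_neg h1
      have e2 : φ a₂ = a₂ := if_neg h2
      rw [e1, e2] at heq
      exact heq
  calc A.ncard = (φ '' A).ncard := (Set.InjOn.ncard_image hinj).symm
    _ ≤ (A' \ {γ}).ncard := Set.ncard_le_ncard hmaps (Set.toFinite _)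
    _ < A'.ncard := Set.ncard_sdiff_singleton_lt_of_mem hγA' (Set.toFinite _)

/-- Transport of a weight along a word. -/
lemma exists_weight_wperm (l : List ι) (lam : M) :
    ∃ μ : M, ∀ a, P.coroot' (wperm P l a) lam = P.coroot' a μ := by
  induction l generalizing lam with
  | nil => exact ⟨lam, fun a => rfl⟩
  | cons a₀ l ih =>
    obtain ⟨μ, hμ⟩ := ih (P.reflection a₀ lam)
    refine ⟨μ, fun a => ?_⟩
    rw [wperm_cons, Equiv.Perm.mul_apply, coroot'_reflectionPerm_apply, hμ]

lemma coroot'_neg_apply (k : ι) (m : M) :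
    P.coroot' (P.reflectionPerm k k) m = - P.coroot' k m := by
  rw [coroot'_reflectionPerm_apply, coroot'_reflection_apply, P.pairing_same]
  ring

/-- `ℓ(w) < ℓ(s_c w)` iff `w⁻¹ c` is positive, for a positive root `c`, the length being the
number of inversions. -/
theorem ncard_inv_lt_iff [Finite ι] (hΔ : IsSimpleSys P Δ) (l : List ι) {c : ι}
    (hc : c ∈ posOf P Δ) :
    Set.ncard {a | a ∈ posOf P Δ ∧ wperm P l a ∉ posOf P Δ} <
        Set.ncard {a | a ∈ posOf P Δ ∧ (P.reflectionPerm c * wperm P l) a ∉ posOf P Δ} ↔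
      (wperm P l)⁻¹ c ∈ posOf P Δ := by
  classical
  have := Fintype.ofFinite ι
  obtain ⟨lam, hlam⟩ := Groth.Agent.Lib.RootDDom_helper8.exists_strictly_dominant
    (isPosSys_posOf hΔ)
  have hsign : ∀ k, k ∉ posOf P Δ ↔ P.coroot' k lam < 0 := by
    intro k
    constructor
    · intro hk
      have h1 := (mem_posOf_or_neg_mem hΔ k).resolve_left hk
      have h2 := hlam _ h1
      rw [coroot'_neg_apply] at h2
      omega
    · intro hk hpos
      have := hlam _ hpos
      omega
  obtain ⟨μ, hμ⟩ := exists_weight_wperm (P := P) l lam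
  set w := wperm P l with hw
  set γ := w⁻¹ c with hγdef
  have hwγ : w γ = c := by rw [hγdef]; simp
  have hγμ : 0 < P.coroot' γ μ := by
    rw [← hμ γ, hwγ]
    exact hlam _ hc
  have htw : P.reflectionPerm c * w = w * P.reflectionPerm γ := by
    rw [← hwγ, hw, reflectionPerm_wperm, inv_mul_cancel_right]
  have hS1 : {a | a ∈ posOf P Δ ∧ w a ∉ posOf P Δ} =
      {a | a ∈ posOf P Δ ∧ P.coroot' a μ < 0} := by
    ext a
    simp only [Set.mem_ofPred_eq]
    rw [hsign, hμ]
  have hS2 : {a | a ∈ posOf P Δ ∧ (P.reflectionPerm c * w) a ∉ posOf P Δ} =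
      {a | a ∈ posOf P Δ ∧ P.coroot' a (P.reflection γ μ) < 0} := by
    ext a
    simp only [Set.mem_ofPred_eq]
    rw [htw, Equiv.Perm.mul_apply, hsign, hμ, coroot'_reflectionPerm_apply]
  rw [hS1, hS2]
  by_cases hγpos : γ ∈ posOf P Δ
  · exact ⟨fun _ => hγpos, fun _ => ncard_lt_ncard_reflection hΔ hγpos μ hγμ⟩
  · refine ⟨fun h => ?_, fun h => absurd h hγpos⟩
    exfalso
    have hγ' := (mem_posOf_or_neg_mem hΔ γ).resolve_left hγpos
    have hrefl : P.reflection (P.reflectionPerm γ γ) = P.reflection γ := by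
      rw [P.reflection_reflectionPerm]
      ext x
      simp only [LinearEquiv.mul_apply, P.reflection_same]
    have h1 : 0 < P.coroot' (P.reflectionPerm γ γ) (P.reflection γ μ) := by
      rw [coroot'_reflectionPerm_apply, P.reflection_same]
      exact hγμ
    have h2 := ncard_lt_ncard_reflection hΔ hγ' (P.reflection γ μ) h1
    rw [hrefl, P.reflection_same] at h2
    omega

end Groth.Agent.Lib.RootDInv_helper8
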