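import Groth.Agent.Lib.RootDIrr_helper8
import Groth.Agent.Lib.RootDForm_helper8
import Groth.Agent.Lib.RootDProp_helper8

set_option autoImplicit false

/-!
# Irreducible root data (helper8)
-/

namespace Groth.Agent.Lib.RootDIrr2_helper8

open RootD Set RootPairing Groth.Agent.Lib.RootD_helper8 Groth.Agent.Lib.RootDPos_helper8
  Groth.Agent.Lib.RootDWeyl_helper8 Groth.Agent.Lib.RootDPar_helper8
  Groth.Agent.Lib.RootDIrr_helper8 Groth.Agent.Lib.RootDForm_helper8
  Groth.Agent.Lib.RootDProp_helper8

variable {ι M N : Type*} [AddCommGroup M] [AddCommGroup N] {P : RootPairing ι ℤ M N}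

/-- Irreducibility: no non-trivial partition of the roots into closed symmetric subsets. -/
def IsIrr (P : RootPairing ι ℤ M N) : Prop :=
  ∀ R' : Set ι, IsClosedSub P R' → IsSymmSub P R' → IsClosedSub P R'ᶜ → IsSymmSub P R'ᶜ →
    R' = ∅ ∨ R' = Set.univ

lemma IsIrr.eq_univ (hirr : IsIrr P) {R' : Set ι} (hR : IsPart P R') {i : ι} (hi : i ∈ R') :
    R' = Set.univ := by
  rcases hirr R' hR.closed hR.symm hR.closed' hR.symm' with h | h
  · rw [h] at hi; exact absurd hi (Set.notMem_empty i)
  · exact h

/-- In an irreducible root datum any two roots are linked by a chain of non-orthogonal roots. -/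
lemma IsIrr.linked (hirr : IsIrr P) (i j : ι) : Linked P i j := by
  have h := hirr.eq_univ (isPart_linked P i) (Relation.ReflTransGen.refl)
  have : j ∈ {j | Linked P i j} := by rw [h]; exact Set.mem_univ j
  exact this

lemma isOrthogonal_flip_iff (i j : ι) : P.flip.IsOrthogonal i j ↔ P.IsOrthogonal i j := by
  simp only [RootPairing.IsOrthogonal, RootPairing.pairing_flip]
  exact and_comm

/-- If all roots are linked, the datum is irreducible. -/
lemma isIrr_of_linked [Finite ι] (h : ∀ i j, Linked P i j) : IsIrr P := by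
  intro R' hc hs hc' hs'
  have hR : IsPart P R' := ⟨hc, hs, hc', hs'⟩
  by_cases hne : R' = ∅
  · exact Or.inl hne
  right
  obtain ⟨i, hi⟩ := Set.nonempty_iff_ne_empty.mpr hne
  ext j
  simp only [Set.mem_univ, iff_true]
  have := h i j
  induction this with
  | refl => exact hi
  | tail _ hbc ih => exact hR.mem_of_not_isOrthogonal ih hbc

lemma linked_flip {i j : ι} (h : Linked P i j) : Linked P.flip i j := by
  refine Relation.ReflTransGen.mono (fun a b hab => ?_) i j h
  rwa [isOrthogonal_flip_iff]

/-- The dual of an irreducible root datum is irreducible. -/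
lemma IsIrr.flip [Finite ι] (hirr : IsIrr P) : IsIrr P.flip :=
  isIrr_of_linked fun i j => linked_flip (hirr.linked i j)

/-- SGA3 XXI: `ℓ(α) ℓ(α^v)` is the same for non-orthogonal roots. -/
lemma rootForm_mul_corootForm_eq [Fintype ι] {i j : ι} (h : ¬ P.IsOrthogonal i j) :
    P.RootForm (P.root i) (P.root i) * P.CorootForm (P.coroot i) (P.coroot i) =
      P.RootForm (P.root j) (P.root j) * P.CorootForm (P.coroot j) (P.coroot j) := by
  have h1 := P.toInvariantForm.pairing_mul_eq_pairing_mul_swap i j
  have h2 := P.flip.toInvariantForm.pairing_mul_eq_pairing_mul_swap i j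
  simp only [RootPairing.toInvariantForm_form, RootPairing.pairing_flip] at h1 h2
  change P.pairing i j * P.CorootForm (P.coroot i) (P.coroot i) =
    P.pairing j i * P.CorootForm (P.coroot j) (P.coroot j) at h2
  have ha : P.pairing i j ≠ 0 := by
    intro h0
    exact h ⟨h0, P.pairing_eq_zero_iff'.mp h0⟩
  have hb : P.pairing j i ≠ 0 := by
    intro h0
    exact h ⟨P.pairing_eq_zero_iff'.mp h0, h0⟩
  have hab : P.pairing i j * P.pairing j i ≠ 0 := mul_ne_zero ha hb
  apply mul_left_cancel₀ hab
  calc P.pairing i j * P.pairing j i * (P.RootForm (P.root i) (P.root i) * P.CorootForm (P.coroot i) (P.coroot i))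
      = (P.pairing j i * P.RootForm (P.root i) (P.root i)) * (P.pairing i j * P.CorootForm (P.coroot i) (P.coroot i)) := by ring
    _ = (P.pairing i j * P.RootForm (P.root j) (P.root j)) * (P.pairing j i * P.CorootForm (P.coroot j) (P.coroot j)) := by rw [h1, h2]
    _ = _ := by ring

lemma rootForm_mul_corootForm_eq_of_linked [Fintype ι] {i j : ι} (h : Linked P i j) :
    P.RootForm (P.root i) (P.root i) * P.CorootForm (P.coroot i) (P.coroot i) =
      P.RootForm (P.root j) (P.root j) * P.CorootForm (P.coroot j) (P.coroot j) := by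
  induction h with
  | refl => rfl
  | tail _ hbc ih => rw [ih, rootForm_mul_corootForm_eq hbc]

lemma isOrthogonal_iff [Finite ι] (i j : ι) : P.IsOrthogonal i j ↔ P.pairing i j = 0 :=
  ⟨fun h => h.1, fun h => ⟨h, P.pairing_eq_zero_iff'.mp h⟩⟩

lemma isOrthogonal_neg_left_iff [Finite ι] (i j : ι) :
    P.IsOrthogonal (P.reflectionPerm i i) j ↔ P.IsOrthogonal i j := by
  rw [isOrthogonal_iff, isOrthogonal_iff, P.pairing_reflectionPerm_self_left, neg_eq_zero]

/-- The set of roots not orthogonal to some Weyl conjugate of a given root is a part. -/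
lemma isPart_orbit [Finite ι] (i : ι) :
    IsPart P {k | ∃ g ∈ P.weylGroup, ¬ P.IsOrthogonal k (g • i)} := by
  have hsymm : IsSymmSub P {k | ∃ g ∈ P.weylGroup, ¬ P.IsOrthogonal k (g • i)} := by
    rintro k ⟨g, hg, hk⟩
    exact ⟨g, hg, by rwa [isOrthogonal_neg_left_iff]⟩
  have hsymm' : IsSymmSub P {k | ∃ g ∈ P.weylGroup, ¬ P.IsOrthogonal k (g • i)}ᶜ := by
    intro k hk hk'
    apply hk
    obtain ⟨g, hg, h⟩ := hk'
    exact ⟨g, hg, by rwa [isOrthogonal_neg_left_iff] at h⟩
  refine ⟨?_, hsymm, ?_, hsymm'⟩
  · rintro k l m ⟨g, hg, hk⟩ ⟨g', hg', hl⟩ hm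
    by_contra hcon
    simp only [mem_ofPred_eq, not_exists, not_and, not_not] at hcon
    -- `m` is orthogonal to the whole orbit
    have key : ∀ (a : ι) (g : P.Aut), g ∈ P.weylGroup → ¬ P.IsOrthogonal a (g • i) →
        P.pairing a m = 0 := by
      intro a g hg ha
      have h1 := hcon g hg
      have h2 := hcon (Equiv.reflection P a * g) (mul_mem (P.reflection_mem_weylGroup a) hg)
      rw [mul_smul, reflection_smul_idx] at h2
      have h3 : P.pairing (P.reflectionPerm a (g • i)) m =
          P.pairing (g • i) m - P.pairing (g • i) a * P.pairing a m := by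
        simp only [← RootPairing.root_coroot'_eq_pairing, P.root_reflectionPerm,
          P.reflection_apply_root, map_sub, map_smul, smul_eq_mul]
      rw [h2.symm.1, h1.symm.1] at h3
      have h4 : P.pairing (g • i) a ≠ 0 := fun h0 => ha ((isOrthogonal_iff _ _).mpr h0).symm
      have h5 : P.pairing (g • i) a * P.pairing a m = 0 := by omega
      exact (mul_eq_zero.mp h5).resolve_left h4
    have e1 := key k g hg hk
    have e2 := key l g' hg' hl
    have e3 := P.pairing_eq_add_of_root_eq_add (l := m) hm
    rw [P.pairing_same, e1, e2] at e3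
    omega
  · intro k l m hk hl hm hm'
    obtain ⟨g, hg, h⟩ := hm'
    apply h
    rw [isOrthogonal_iff, P.pairing_eq_add_of_root_eq_add hm]
    have h1 : P.IsOrthogonal k (g • i) := by
      by_contra h1
      exact hk ⟨g, hg, h1⟩
    have h2 : P.IsOrthogonal l (g • i) := by
      by_contra h2
      exact hl ⟨g, hg, h2⟩
    rw [h1.1, h2.1, add_zero]

/-- In an irreducible datum, every root is non-orthogonal to some Weyl conjugate of any given
root. -/
lemma IsIrr.exists_weyl_not_isOrthogonal [Finite ι] (hirr : IsIrr P) (i j : ι) :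
    ∃ g ∈ P.weylGroup, ¬ P.IsOrthogonal j (g • i) := by
  have h := hirr.eq_univ (isPart_orbit i) (i := i)
    ⟨1, one_mem _, by rw [one_smul]; exact not_isOrthogonal_self P i⟩
  have : j ∈ {k | ∃ g ∈ P.weylGroup, ¬ P.IsOrthogonal k (g • i)} := by
    rw [h]; exact Set.mem_univ j
  exact this

/-- The canonical form is invariant under the Weyl group. -/
lemma rootForm_weyl_smul [Fintype ι] {g : P.Aut} (hg : g ∈ P.weylGroup) (x y : M) :
    P.RootForm (g • x) (g • y) = P.RootForm x y :=
  RootPairing.InvariantForm.apply_weylGroup_smul P (B := P.toInvariantForm)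
    (⟨g, hg⟩ : P.weylGroup) x y

end Groth.Agent.Lib.RootDIrr2_helper8
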