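import Groth.Agent.Lib.RootDPar_helper8

set_option autoImplicit false

/-!
# Partitions of the roots into closed symmetric subsets, irreducibility (helper8)
-/

namespace Groth.Agent.Lib.RootDIrr_helper8

open RootD Set RootPairing Groth.Agent.Lib.RootD_helper8 Groth.Agent.Lib.RootDPos_helper8
  Groth.Agent.Lib.RootDWeyl_helper8 Groth.Agent.Lib.RootDPar_helper8

variable {ι M N : Type*} [AddCommGroup M] [AddCommGroup N] {P : RootPairing ι ℤ M N}

/-- `R'` and its complement are closed and symmetric. -/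
structure IsPart (P : RootPairing ι ℤ M N) (R' : Set ι) : Prop where
  closed : IsClosedSub P R'
  symm : IsSymmSub P R'
  closed' : IsClosedSub P R'ᶜ
  symm' : IsSymmSub P R'ᶜ

lemma IsPart.compl {R' : Set ι} (h : IsPart P R') : IsPart P R'ᶜ :=
  ⟨h.closed', h.symm', by rw [compl_compl]; exact h.closed, by rw [compl_compl]; exact h.symm⟩

/-- For a partition into closed symmetric subsets, if `α`, `β`, `α + β` are roots they lie in the
same part. -/
lemma IsPart.same_part {R' : Set ι} (hR : IsPart P R') {i j k : ι}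
    (h : P.root k = P.root i + P.root j) :
    (i ∈ R' ∧ j ∈ R' ∧ k ∈ R') ∨ (i ∉ R' ∧ j ∉ R' ∧ k ∉ R') := by
  have key : ∀ (T : Set ι), IsClosedSub P T → IsSymmSub P T →
      (i ∈ T → j ∈ T → k ∈ T) ∧ (i ∈ T → k ∈ T → j ∈ T) ∧ (j ∈ T → k ∈ T → i ∈ T) := by
    intro T hT hT'
    refine ⟨fun hi hj => hT hi hj h, fun hi hk => ?_, fun hj hk => ?_⟩
    · refine hT hk (hT' hi) ?_
      rw [root_neg, h]; abel
    · refine hT hk (hT' hj) ?_
      rw [root_neg, h]; abel
  obtain ⟨a1, a2, a3⟩ := key R' hR.closed hR.symm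
  obtain ⟨b1, b2, b3⟩ := key R'ᶜ hR.closed' hR.symm'
  simp only [Set.mem_compl_iff] at b1 b2 b3
  clear key h hR
  by_cases hi : i ∈ R'
  · by_cases hj : j ∈ R'
    · exact Or.inl ⟨hi, hj, a1 hi hj⟩
    · by_cases hk : k ∈ R'
      · exact absurd (a2 hi hk) hj
      · exact absurd hi (b3 hj hk)
  · by_cases hj : j ∈ R'
    · by_cases hk : k ∈ R'
      · exact absurd (a3 hj hk) hi
      · exact absurd hj (b2 hi hk)
    · exact Or.inr ⟨hi, hj, b1 hi hj⟩

/-- A part contains, with a root, every root not orthogonal to it. -/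
lemma IsPart.mem_of_not_isOrthogonal [Finite ι] {R' : Set ι} (hR : IsPart P R') {i j : ι}
    (hi : i ∈ R') (hij : ¬ P.IsOrthogonal i j) : j ∈ R' := by
  have hp : P.pairing i j ≠ 0 := fun h0 => hij ⟨h0, P.pairing_eq_zero_iff'.mp h0⟩
  by_cases h1 : i = j
  · exact h1 ▸ hi
  by_cases h2 : P.root i = -P.root j
  · have : i = P.reflectionPerm j j := P.root.injective (by rw [root_neg, h2])
    have h3 := hR.symm hi
    have h4 : P.reflectionPerm i i = j := by
      apply P.root.injective
      rw [root_neg, h2, neg_neg]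
    rwa [h4] at h3
  rcases lt_or_gt_of_ne hp with h | h
  · obtain ⟨k, hk⟩ := P.root_add_root_mem_of_pairingIn_neg (by rwa [pairingIn_eq]) h2
    rcases hR.same_part hk with h3 | h3
    · exact h3.2.1
    · exact absurd hi h3.1
  · obtain ⟨k, hk⟩ := P.root_sub_root_mem_of_pairingIn_pos (by rwa [pairingIn_eq]) h1
    have hk' : P.root i = P.root k + P.root j := by rw [hk]; abel
    rcases hR.same_part hk' with h3 | h3
    · exact h3.2.1
    · exact absurd hi h3.2.2

lemma not_isOrthogonal_neg (P : RootPairing ι ℤ M N) (i : ι) :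
    ¬ P.IsOrthogonal i (P.reflectionPerm i i) := by
  rintro ⟨h, -⟩
  rw [P.pairing_reflectionPerm_self_right, P.pairing_same] at h
  omega

lemma not_isOrthogonal_self (P : RootPairing ι ℤ M N) (i : ι) : ¬ P.IsOrthogonal i i := by
  rintro ⟨h, -⟩
  rw [P.pairing_same] at h
  omega

/-- If `α + β = γ` are roots, `γ` is not orthogonal to `α` or not orthogonal to `β`. -/
lemma not_isOrthogonal_of_add {i j k : ι} (h : P.root k = P.root i + P.root j) :
    ¬ P.IsOrthogonal i k ∨ ¬ P.IsOrthogonal j k := by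
  by_contra hcon
  push Not at hcon
  have h1 := P.pairing_eq_add_of_root_eq_add (l := k) h
  rw [P.pairing_same, hcon.1.1, hcon.2.1] at h1
  omega

/-- The relation "joined by a chain of non-orthogonal roots". -/
def Linked (P : RootPairing ι ℤ M N) : ι → ι → Prop :=
  Relation.ReflTransGen (fun a b : ι => ¬ P.IsOrthogonal a b)

lemma linked_symm {i j : ι} (h : Linked P i j) : Linked P j i := by
  have h1 := Relation.reflTransGen_swap.mpr h
  exact Relation.ReflTransGen.mono (fun a b hab hba => hab hba.symm) j i h1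

/-- The class of a root for the relation "joined by a chain of non-orthogonal roots" is a part. -/
lemma isPart_linked (P : RootPairing ι ℤ M N) (i : ι) : IsPart P {j | Linked P i j} := by
  have hsymm : IsSymmSub P {j | Linked P i j} := by
    intro j hj
    exact hj.tail (not_isOrthogonal_neg P j)
  have hneg : ∀ j, P.reflectionPerm (P.reflectionPerm j j) (P.reflectionPerm j j) = j := by
    intro j
    apply P.root.injective
    rw [root_neg, root_neg, neg_neg]
  refine ⟨?_, hsymm, ?_, ?_⟩
  · intro a b c ha hb hc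
    rcases not_isOrthogonal_of_add hc with h | h
    · exact Relation.ReflTransGen.tail ha h
    · exact Relation.ReflTransGen.tail hb h
  · intro a b c ha hb hc hc'
    rcases not_isOrthogonal_of_add hc with h | h
    · exact ha (Relation.ReflTransGen.tail hc' (fun h' => h h'.symm))
    · exact hb (Relation.ReflTransGen.tail hc' (fun h' => h h'.symm))
  · intro j hj hj'
    apply hj
    have := hsymm hj'
    rwa [hneg] at this

lemma neg_mem_inSpan {S : Set ι} {k : ι} (hk : P.reflectionPerm k k ∈ inSpan P S) :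
    k ∈ inSpan P S := by
  simp only [inSpan, mem_ofPred_eq, root_neg] at hk ⊢
  simpa using Submodule.neg_mem _ hk

/-- A positive root of a part lies in the span of the simple roots of this part. -/
lemma IsPart.mem_inSpan_of_mem_posOf [Finite ι] {Δ : Set ι} (hΔ : IsSimpleSys P Δ) {R' : Set ι}
    (hR : IsPart P R') :
    ∀ n : ℕ, ∀ k : ι, k ∈ posOf P Δ → k ∈ R' → (height hΔ k).toNat = n → k ∈ inSpan P (Δ ∩ R') := by
  intro n
  induction n using Nat.strong_induction_on with
  | _ n ih =>
    intro k hk hkR hn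
    by_cases hkΔ : k ∈ Δ
    · exact Submodule.subset_span ⟨k, ⟨hkΔ, hkR⟩, rfl⟩
    · obtain ⟨j, hj, l, hl, hkl, -⟩ := exists_sub_simple hΔ hk hkΔ
      have hh : height hΔ k = height hΔ l + 1 := by
        rw [height_add hΔ hkl, height_simple hΔ hj]
      have hl0 := height_nonneg hΔ hl
      rcases hR.same_part hkl with h3 | h3
      · have h4 := ih (height hΔ l).toNat (by omega) l hl h3.1 rfl
        simp only [inSpan, mem_ofPred_eq] at h4 ⊢
        rw [hkl]
        exact add_mem h4 (Submodule.subset_span ⟨j, ⟨hj, h3.2.1⟩, rfl⟩)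
      · exact absurd hkR h3.2.2

lemma IsPart.subset_inSpan [Finite ι] {Δ : Set ι} (hΔ : IsSimpleSys P Δ) {R' : Set ι}
    (hR : IsPart P R') : R' ⊆ inSpan P (Δ ∩ R') := by
  intro k hk
  rcases mem_posOf_or_neg_mem hΔ k with h | h
  · exact hR.mem_inSpan_of_mem_posOf hΔ _ k h hk rfl
  · exact neg_mem_inSpan (hR.mem_inSpan_of_mem_posOf hΔ _ _ h (hR.symm hk) rfl)

lemma not_mem_inSpan_inter_diff {Δ : Set ι} (hΔ : IsSimpleSys P Δ) (A : Set ι) (k : ι) :
    ¬ (k ∈ inSpan P (Δ ∩ A) ∧ k ∈ inSpan P (Δ \ A)) := by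
  rintro ⟨h1, h2⟩
  rw [mem_inSpan_iff hΔ inter_subset_left] at h1
  rw [mem_inSpan_iff hΔ sdiff_subset] at h2
  apply coeff_ne_zero hΔ k
  ext j
  by_cases hj : j ∈ Δ ∩ A
  · exact h2 j (fun h => h.2 hj.2)
  · exact h1 j hj

/-- SGA3 XXI 7.1.?: a part of the roots is the set of roots in the span of its simple roots, and the
two sets of simple roots are orthogonal. -/
lemma IsPart.eq_inSpan [Finite ι] {Δ : Set ι} (hΔ : IsSimpleSys P Δ) {R' : Set ι}
    (hR : IsPart P R') : R' = inSpan P (Δ ∩ R') := by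
  apply subset_antisymm (hR.subset_inSpan hΔ)
  intro k hk
  by_contra hkR
  have h1 := hR.compl.subset_inSpan hΔ hkR
  have h2 : Δ ∩ R'ᶜ = Δ \ R' := rfl
  rw [h2] at h1
  exact not_mem_inSpan_inter_diff hΔ R' k ⟨hk, h1⟩

lemma mem_inSpan_self {Δ : Set ι} (hΔ : IsSimpleSys P Δ) (k : ι) : k ∈ inSpan P Δ := by
  rw [mem_inSpan_iff hΔ subset_rfl]
  intro j hj
  exact coeff_eq_zero_of_notMem hΔ k hj

/-- If a simple system has no partition into two non-empty orthogonal subsets, any two roots are
linked by a chain of non-orthogonal roots. -/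
lemma linked_of_connected [Finite ι] {Δ : Set ι} (hΔ : IsSimpleSys P Δ)
    (hconn : ∀ Δ' : Set ι, Δ' ⊆ Δ → (∀ i ∈ Δ', ∀ j ∈ Δ \ Δ', P.IsOrthogonal i j) →
      Δ' = ∅ ∨ Δ' = Δ) (i j : ι) : Linked P i j := by
  have hR := isPart_linked P i
  set C : Set ι := {j | Linked P i j} with hC
  have h1 := hR.eq_inSpan hΔ
  have h2 : ∀ a ∈ Δ ∩ C, ∀ b ∈ Δ \ (Δ ∩ C), P.IsOrthogonal a b := by
    intro a ha b hb
    by_contra hab
    exact hb.2 ⟨hb.1, hR.mem_of_not_isOrthogonal ha.2 hab⟩
  have hiC : i ∈ C := Relation.ReflTransGen.refl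
  rcases hconn (Δ ∩ C) inter_subset_left h2 with h | h
  · exfalso
    rw [h] at h1
    rw [h1] at hiC
    simp only [inSpan, image_empty, Submodule.span_empty, Submodule.mem_bot, mem_ofPred_eq] at hiC
    exact P.ne_zero i hiC
  · rw [h] at h1
    have : j ∈ C := by rw [h1]; exact mem_inSpan_self hΔ j
    exact this

/-- For orthogonal roots, the sum is a root iff the difference is. -/
lemma add_mem_range_iff_sub_mem {i j : ι} (h : P.IsOrthogonal i j) :
    P.root i + P.root j ∈ Set.range P.root ↔ P.root i - P.root j ∈ Set.range P.root := by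
  have hij : P.pairing i j = 0 := h.1
  have key1 : P.reflection j (P.root i + P.root j) = P.root i - P.root j := by
    rw [map_add, P.reflection_apply_root, P.reflection_apply_self, hij, zero_smul]
    abel
  have key2 : P.reflection j (P.root i - P.root j) = P.root i + P.root j := by
    rw [map_sub, P.reflection_apply_root, P.reflection_apply_self, hij, zero_smul]
    abel
  constructor
  · rintro ⟨k, hk⟩
    exact ⟨P.reflectionPerm j k, by rw [P.root_reflectionPerm, hk, key1]⟩
  · rintro ⟨k, hk⟩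
    exact ⟨P.reflectionPerm j k, by rw [P.root_reflectionPerm, hk, key2]⟩

/-- The pairing of a root with a coroot in terms of the coefficients. -/
lemma pairing_eq_sum_coeff {Δ : Set ι} (hΔ : IsSimpleSys P Δ) (k j : ι) :
    P.pairing k j = (coeff hΔ k).sum fun x a => a * P.pairing x j := by
  have h1 := congrArg (P.coroot' j) (linearCombination_coeff hΔ k)
  rw [Finsupp.linearCombination_apply, map_finsuppSum] at h1
  simp only [map_smul, RootPairing.root_coroot'_eq_pairing, smul_eq_mul] at h1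
  exact h1.symm

/-- If `A`, `B` are orthogonal sets of simple roots, `l` is a positive root in the span of `A` and
`j ∈ B`, `j ∉ A`, then `l + j` is not a root. -/
lemma add_notMem_range_of_orthogonal [Finite ι] {Δ A B : Set ι} (hΔ : IsSimpleSys P Δ)
    (hA : A ⊆ Δ) (hB : B ⊆ Δ) (hAB : ∀ a ∈ A, ∀ b ∈ B, P.IsOrthogonal a b) (hdisj : Disjoint A B)
    {l j : ι} (hl : l ∈ posOf P Δ) (hlA : l ∈ inSpan P A) (hj : j ∈ B) :
    P.root l + P.root j ∉ Set.range P.root := by
  rw [mem_inSpan_iff hΔ hA] at hlA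
  have hjA : j ∉ A := fun h => (Set.disjoint_left.mp hdisj) h hj
  have hlj : P.pairing l j = 0 := by
    rw [pairing_eq_sum_coeff hΔ]
    apply Finset.sum_eq_zero
    intro x hx
    have hxA : x ∈ A := by
      by_contra hxA
      exact (by simpa using hx : coeff hΔ l x ≠ 0) (hlA x hxA)
    show coeff hΔ l x * P.pairing x j = 0
    rw [(hAB x hxA j hj).1, mul_zero]
  have horth : P.IsOrthogonal l j := ⟨hlj, P.pairing_eq_zero_iff'.mp hlj⟩
  rw [add_mem_range_iff_sub_mem horth]
  rintro ⟨m, hm⟩
  have h1 : coeff hΔ l = coeff hΔ m + coeff hΔ j := coeff_add hΔ (by rw [hm]; abel)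
  rw [coeff_self hΔ (hB hj)] at h1
  obtain ⟨x, -, hx⟩ := exists_one_le_coeff hΔ hl
  have hxj : x ≠ j := by
    rintro rfl
    rw [hlA x hjA] at hx
    omega
  have e1 := DFunLike.congr_fun h1 x
  have e2 := DFunLike.congr_fun h1 j
  simp only [Finsupp.coe_add, Pi.add_apply, Finsupp.single_eq_same,
    Finsupp.single_eq_of_ne hxj] at e1 e2
  rw [hlA j hjA] at e2
  rcases coeff_nonneg_or_nonpos hΔ m with h | h
  · have := h j; omega
  · have := h x; omega

/-- If a simple system is the disjoint union of two orthogonal subsets, every positive root lies in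
the span of one of them. -/
lemma mem_inSpan_or_of_orthogonal_posOf [Finite ι] {Δ Δ' : Set ι} (hΔ : IsSimpleSys P Δ)
    (hsub : Δ' ⊆ Δ) (horth : ∀ i ∈ Δ', ∀ j ∈ Δ \ Δ', P.IsOrthogonal i j) :
    ∀ n : ℕ, ∀ k : ι, k ∈ posOf P Δ → (height hΔ k).toNat = n →
      k ∈ inSpan P Δ' ∨ k ∈ inSpan P (Δ \ Δ') := by
  intro n
  induction n using Nat.strong_induction_on with
  | _ n ih =>
    intro k hk hn
    by_cases hkΔ : k ∈ Δ
    · by_cases hk' : k ∈ Δ'
      · exact Or.inl (Submodule.subset_span ⟨k, hk', rfl⟩)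
      · exact Or.inr (Submodule.subset_span ⟨k, ⟨hkΔ, hk'⟩, rfl⟩)
    · obtain ⟨j, hj, l, hl, hkl, -⟩ := exists_sub_simple hΔ hk hkΔ
      have hh : height hΔ k = height hΔ l + 1 := by
        rw [height_add hΔ hkl, height_simple hΔ hj]
      have hl0 := height_nonneg hΔ hl
      have hkr : P.root l + P.root j ∈ Set.range P.root := ⟨k, hkl⟩
      rcases ih (height hΔ l).toNat (by omega) l hl rfl with h | h
      · by_cases hj' : j ∈ Δ'
        · left
          simp only [inSpan, mem_ofPred_eq] at h ⊢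
          rw [hkl]
          exact add_mem h (Submodule.subset_span ⟨j, hj', rfl⟩)
        · exfalso
          exact add_notMem_range_of_orthogonal hΔ hsub sdiff_subset horth
            disjoint_sdiff_right hl h ⟨hj, hj'⟩ hkr
      · by_cases hj' : j ∈ Δ'
        · exfalso
          exact add_notMem_range_of_orthogonal hΔ sdiff_subset hsub
            (fun a ha b hb => (horth b hb a ha).symm) disjoint_sdiff_left hl h hj' hkr
        · right
          simp only [inSpan, mem_ofPred_eq] at h ⊢
          rw [hkl]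
          exact add_mem h (Submodule.subset_span ⟨j, ⟨hj, hj'⟩, rfl⟩)

lemma mem_inSpan_or_of_orthogonal [Finite ι] {Δ Δ' : Set ι} (hΔ : IsSimpleSys P Δ)
    (hsub : Δ' ⊆ Δ) (horth : ∀ i ∈ Δ', ∀ j ∈ Δ \ Δ', P.IsOrthogonal i j) (k : ι) :
    k ∈ inSpan P Δ' ∨ k ∈ inSpan P (Δ \ Δ') := by
  rcases mem_posOf_or_neg_mem hΔ k with h | h
  · exact mem_inSpan_or_of_orthogonal_posOf hΔ hsub horth _ k h rfl
  · rcases mem_inSpan_or_of_orthogonal_posOf hΔ hsub horth _ _ h rfl with h1 | h1
    · exact Or.inl (neg_mem_inSpan h1)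
    · exact Or.inr (neg_mem_inSpan h1)

end Groth.Agent.Lib.RootDIrr_helper8
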