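import Groth.Agent.Lib.RootD_helper8
import Mathlib.LinearAlgebra.RootSystem.CartanMatrix

set_option autoImplicit false

/-!
# The isomorphism theorem for adjoint reduced root data (helper8)
-/

namespace Groth.Agent.Lib.RootDIso_helper8

open RootD Set RootPairing Function Groth.Agent.Lib.RootD_helper8 Module

variable {ι M N ι' M' N' : Type*} [AddCommGroup M] [AddCommGroup N] [AddCommGroup M']
  [AddCommGroup N'] {P : RootPairing ι ℤ M N} {P' : RootPairing ι' ℤ M' N'}

/-- In an adjoint root datum, a base gives a basis of the weight lattice. -/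
noncomputable def weightBasis (b : P.Base) (had : Submodule.span ℤ (Set.range P.root) = ⊤) :
    Basis b.support ℤ M :=
  Basis.mk b.linearIndepOn_root <| by
    change ⊤ ≤ Submodule.span ℤ (Set.range <| P.root ∘ ((↑) : b.support → ι))
    rw [Set.range_comp, Subtype.range_coe_subtype, ← had, Submodule.span_le]
    rintro - ⟨i, rfl⟩
    exact b.root_mem_span_int i

@[simp] lemma weightBasis_apply (b : P.Base) (had : Submodule.span ℤ (Set.range P.root) = ⊤)
    (i : b.support) : weightBasis b had i = P.root i := by
  simp [weightBasis]

/-- A linear map respecting the Cartan matrices of two bases intertwines simple reflections. -/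
lemma map_reflection (b : P.Base) (had : Submodule.span ℤ (Set.range P.root) = ⊤) (b' : P'.Base)
    (u : b.support ≃ b'.support)
    (hu : ∀ i j : b.support, P.pairing (i : ι) (j : ι) = P'.pairing (u i : ι') (u j : ι'))
    (f : M →ₗ[ℤ] M') (hf : ∀ i : b.support, f (P.root i) = P'.root (u i)) (k : b.support)
    (x : M) : f (P.reflection k x) = P'.reflection (u k) (f x) := by
  have h : f ∘ₗ (P.reflection k).toLinearMap = (P'.reflection (u k)).toLinearMap ∘ₗ f := by
    apply (weightBasis b had).ext
    intro j
    simp only [weightBasis_apply, LinearMap.coe_comp, LinearEquiv.coe_coe, comp_apply]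
    rw [P.reflection_apply_root, map_sub, map_smul, hf, hf, P'.reflection_apply_root, hu]
  exact LinearMap.congr_fun h x

/-- A linear map respecting the Cartan matrices of two bases maps roots to roots. -/
lemma map_root_mem_range [Finite ι] [P.IsReduced] (b : P.Base)
    (had : Submodule.span ℤ (Set.range P.root) = ⊤) (b' : P'.Base)
    (u : b.support ≃ b'.support)
    (hu : ∀ i j : b.support, P.pairing (i : ι) (j : ι) = P'.pairing (u i : ι') (u j : ι'))
    (f : M →ₗ[ℤ] M') (hf : ∀ i : b.support, f (P.root i) = P'.root (u i)) (i : ι) :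
    f (P.root i) ∈ Set.range P'.root := by
  apply b.induction_reflect i
  · rintro j ⟨k, hk⟩
    refine ⟨P'.reflectionPerm k k, ?_⟩
    rw [root_neg, root_neg, map_neg, hk]
  · intro j hj
    exact ⟨u ⟨j, hj⟩, (hf ⟨j, hj⟩).symm⟩
  · rintro j k ⟨l, hl⟩ hk
    refine ⟨P'.reflectionPerm (u ⟨k, hk⟩) l, ?_⟩
    rw [P.root_reflectionPerm, map_reflection b had b' u hu f hf ⟨k, hk⟩, ← hl,
      P'.root_reflectionPerm]


/-- The bijection of roots induced by a linear equivalence mapping roots to roots. -/
noncomputable def indexEquivOfMaps (f : M ≃ₗ[ℤ] M')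
    (h : ∀ i, f (P.root i) ∈ Set.range P'.root)
    (h' : ∀ i', f.symm (P'.root i') ∈ Set.range P.root) : ι ≃ ι' where
  toFun i := (h i).choose
  invFun i' := (h' i').choose
  left_inv i := by
    apply P.root.injective
    rw [(h' _).choose_spec, (h i).choose_spec, LinearEquiv.symm_apply_apply]
  right_inv i' := by
    apply P'.root.injective
    rw [(h _).choose_spec, (h' i').choose_spec, LinearEquiv.apply_symm_apply]

lemma root_indexEquivOfMaps (f : M ≃ₗ[ℤ] M')
    (h : ∀ i, f (P.root i) ∈ Set.range P'.root)
    (h' : ∀ i', f.symm (P'.root i') ∈ Set.range P.root) (i : ι) :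
    P'.root (indexEquivOfMaps f h h' i) = f (P.root i) :=
  (h i).choose_spec

/-- A linear equivalence of weight lattices inducing a bijection of roots is an isomorphism of
root data, when the roots span the weight lattice of the source. -/
noncomputable def equivOfMaps [Finite ι] (had : Submodule.span ℤ (Set.range P.root) = ⊤)
    (f : M ≃ₗ[ℤ] M') (e' : ι ≃ ι') (he' : ∀ i, f (P.root i) = P'.root (e' i)) :
    RootPairing.Equiv P P' where
  weightMap := f
  coweightMap := (P'.flip.toPerfPair.trans (f.dualMap.trans P.flip.toPerfPair.symm) : N' ≃ₗ[ℤ] N)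
  indexEquiv := e'
  weight_coweight_transpose := by ext; simp
  root_weightMap := by ext i; simp [he']
  coroot_coweightMap := by
    have htf := isTorsionFree P
    ext i'
    obtain ⟨i, rfl⟩ := e'.surjective i'
    simp only [LinearEquiv.coe_coe, comp_apply, Equiv.symm_apply_apply, LinearEquiv.trans_apply]
    rw [LinearEquiv.symm_apply_eq]
    have hfsymm : ∀ j, f.symm (P'.root (e' j)) = P.root j := by
      intro j
      rw [← he', LinearEquiv.symm_apply_apply]
    apply Module.Dual.eq_of_preReflection_mapsTo (x := P.root i) (Φ := Set.range P.root)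
      (Set.finite_range _) had
    · change P'.toLinearMap (f (P.root i)) (P'.coroot (e' i)) = 2
      rw [he', P'.root_coroot_two]
    · rintro - ⟨j, rfl⟩
      rw [Module.preReflection_apply]
      refine ⟨e'.symm (P'.reflectionPerm (e' i) (e' j)), ?_⟩
      have h1 := hfsymm (e'.symm (P'.reflectionPerm (e' i) (e' j)))
      rw [Equiv.apply_symm_apply] at h1
      rw [← h1, P'.root_reflectionPerm, P'.reflection_apply, map_sub, map_smul, hfsymm, hfsymm]
      congr 2
      change _ = P'.coroot' (e' i) (f (P.root j))
      rw [he']
    · exact P.root_coroot_two i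
    · rintro - ⟨j, rfl⟩
      rw [Module.preReflection_apply]
      refine ⟨P.reflectionPerm i j, ?_⟩
      rw [P.root_reflectionPerm, P.reflection_apply]
      rfl
  bijective_weightMap := f.bijective
  bijective_coweightMap := LinearEquiv.bijective _

/-- SGA3 XXI 7.?: the isomorphism theorem for adjoint reduced root data. -/
theorem existsUnique_equiv [Finite ι] [Finite ι'] [P.IsReduced] [P'.IsReduced]
    (had : Submodule.span ℤ (Set.range P.root) = ⊤)
    (had' : Submodule.span ℤ (Set.range P'.root) = ⊤)
    (b : P.Base) (b' : P'.Base) (u : ↥b.support ≃ ↥b'.support)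
    (hu : ∀ i j : ↥b.support, P.pairing (i : ι) (j : ι) = P'.pairing (u i : ι') (u j : ι')) :
    ∃! e : RootPairing.Equiv P P', ∀ i : ↥b.support, e.indexEquiv (i : ι) = (u i : ι') := by
  set f : M ≃ₗ[ℤ] M' := (weightBasis b had).equiv (weightBasis b' had') u with hf
  have hfroot : ∀ i : b.support, f (P.root i) = P'.root (u i) := by
    intro i
    rw [← weightBasis_apply b had, hf, Basis.equiv_apply, weightBasis_apply]
  have hfsymm : ∀ i' : b'.support, f.symm (P'.root i') = P.root (u.symm i') := by
    intro i'
    rw [LinearEquiv.symm_apply_eq, hfroot, Equiv.apply_symm_apply]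
  have hu' : ∀ i' j' : b'.support,
      P'.pairing (i' : ι') (j' : ι') = P.pairing (u.symm i' : ι) (u.symm j' : ι) := by
    intro i' j'
    rw [hu, Equiv.apply_symm_apply, Equiv.apply_symm_apply]
  have h1 : ∀ i, f (P.root i) ∈ Set.range P'.root :=
    map_root_mem_range b had b' u hu f.toLinearMap hfroot
  have h2 : ∀ i', f.symm (P'.root i') ∈ Set.range P.root :=
    map_root_mem_range b' had' b u.symm hu' f.symm.toLinearMap hfsymm
  set e' := indexEquivOfMaps f h1 h2 with he'
  have hroot : ∀ i, f (P.root i) = P'.root (e' i) := fun i =>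
    (root_indexEquivOfMaps f h1 h2 i).symm
  refine ⟨equivOfMaps had f e' hroot, ?_, ?_⟩
  · intro i
    apply P'.root.injective
    change P'.root (e' i) = _
    rw [← hroot, hfroot]
  · intro e₂ he₂
    have hw : e₂.weightMap = (equivOfMaps had f e' hroot).weightMap := by
      apply (weightBasis b had).ext
      intro i
      rw [weightBasis_apply, RootPairing.Hom.root_weightMap_apply, he₂]
      change _ = f (P.root i)
      rw [hfroot]
    have hi : e₂.indexEquiv = (equivOfMaps had f e' hroot).indexEquiv := by
      ext i
      apply P'.root.injective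
      rw [← RootPairing.Hom.root_weightMap_apply, ← RootPairing.Hom.root_weightMap_apply, hw]
    have hc : e₂.coweightMap = (equivOfMaps had f e' hroot).coweightMap := by
      ext n
      apply P.flip.toPerfPair.injective
      rw [← RootPairing.Hom.weight_coweight_transpose_apply,
        ← RootPairing.Hom.weight_coweight_transpose_apply, hw]
    exact RootPairing.Equiv.ext hw hc hi

end Groth.Agent.Lib.RootDIso_helper8
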