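import Groth.Agent.Lib.RootDDual_helper8
import Groth.Agent.Lib.RootDIrr2_helper8

set_option autoImplicit false

/-!
# Lengths of roots in an irreducible root datum (helper8)
-/

namespace Groth.Agent.Lib.RootDLen2_helper8

open RootD Set RootPairing Groth.Agent.Lib.RootD_helper8 Groth.Agent.Lib.RootDPos_helper8
  Groth.Agent.Lib.RootDWeyl_helper8 Groth.Agent.Lib.RootDPar_helper8
  Groth.Agent.Lib.RootDIrr_helper8 Groth.Agent.Lib.RootDProp_helper8
  Groth.Agent.Lib.RootDForm_helper8 Groth.Agent.Lib.RootDLen_helper8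
  Groth.Agent.Lib.RootDIrr2_helper8 Groth.Agent.Lib.RootDHom_helper8

variable {ι M N : Type*} [AddCommGroup M] [AddCommGroup N] {P : RootPairing ι ℤ M N}

/-- For non-orthogonal roots the smaller length divides the larger. -/
lemma rootForm_dvd_of_not_isOrthogonal [Fintype ι] {i j : ι} (h : ¬ P.IsOrthogonal i j)
    (hle : P.RootForm (P.root j) (P.root j) ≤ P.RootForm (P.root i) (P.root i)) :
    P.RootForm (P.root j) (P.root j) ∣ P.RootForm (P.root i) (P.root i) := by
  have h1 := P.toInvariantForm.pairing_mul_eq_pairing_mul_swap i j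
  simp only [RootPairing.toInvariantForm_form] at h1
  have ha : P.pairing i j ≠ 0 := by
    intro h0
    exact h ⟨h0, P.pairing_eq_zero_iff'.mp h0⟩
  have hb : P.pairing j i ≠ 0 := by
    intro h0
    exact h ⟨P.pairing_eq_zero_iff'.mp h0, h0⟩
  have hmem := pairing_mul_pairing_mem P i j
  have hj0 := rootForm_root_self_pos P j
  have hi0 := rootForm_root_self_pos P i
  generalize P.RootForm (P.root i) (P.root i) = li at *
  generalize P.RootForm (P.root j) (P.root j) = lj at *
  generalize P.pairing i j = a at *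
  generalize P.pairing j i = b at *
  simp only [Set.mem_insert_iff, Set.mem_singleton_iff] at hmem
  have hab0 : a * b ≠ 0 := mul_ne_zero ha hb
  have hab4 : (a * b).natAbs ≤ 4 := by omega
  rw [Int.natAbs_mul] at hab4
  have ha1 : 1 ≤ a.natAbs := Int.natAbs_pos.mpr ha
  have hb1 : 1 ≤ b.natAbs := Int.natAbs_pos.mpr hb
  have ha4 : a.natAbs ≤ 4 := by nlinarith
  have hb4 : b.natAbs ≤ 4 := by nlinarith
  have ha' : -4 ≤ a ∧ a ≤ 4 := by omega
  have hb' : -4 ≤ b ∧ b ≤ 4 := by omega
  obtain ⟨ha1', ha2'⟩ := ha'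
  obtain ⟨hb1', hb2'⟩ := hb'
  have hdvd : b ∣ a := by
    interval_cases a <;> interval_cases b <;> first | decide | omega
  obtain ⟨t, rfl⟩ := hdvd
  refine ⟨t, ?_⟩
  have : b * li = b * (lj * t) := by rw [h1]; ring
  exact mul_left_cancel₀ hb this

/-- Lengths are invariant under the Weyl group. -/
lemma rootForm_smul_idx [Fintype ι] {g : P.Aut} (hg : g ∈ P.weylGroup) (i : ι) :
    P.RootForm (P.root (g • i)) (P.root (g • i)) = P.RootForm (P.root i) (P.root i) := by
  rw [root_smul', rootForm_weyl_smul hg]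

/-- In an irreducible root datum the minimal length divides all lengths. -/
lemma IsIrr.rootForm_dvd [Fintype ι] (hirr : IsIrr P) (i₀ : ι)
    (hmin : ∀ i : ι, P.RootForm (P.root i₀) (P.root i₀) ≤ P.RootForm (P.root i) (P.root i))
    (i : ι) : P.RootForm (P.root i₀) (P.root i₀) ∣ P.RootForm (P.root i) (P.root i) := by
  obtain ⟨g, hg, hgi⟩ := hirr.exists_weyl_not_isOrthogonal i₀ i
  have h1 := rootForm_smul_idx hg i₀
  rw [← h1]
  apply rootForm_dvd_of_not_isOrthogonal hgi
  rw [h1]
  exact hmin i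

/-- SGA3 XXI: the length homomorphism of an irreducible root datum. -/
theorem existsUnique_lengthHom [Fintype ι] (hirr : IsIrr P)
    (i₀ : ι) (hmin : ∀ i : ι, P.RootForm (P.root i₀) (P.root i₀) ≤ P.RootForm (P.root i) (P.root i)) :
    ∃! u : Submodule.span ℤ (Set.range P.root) →+ N, ∀ i : ι,
      u ⟨P.root i, Submodule.subset_span (Set.mem_range_self i)⟩ =
        (P.RootForm (P.root i) (P.root i) / P.RootForm (P.root i₀) (P.root i₀)) • P.coroot i := by
  have := isTorsionFree' P
  obtain ⟨Δ, hΔ⟩ := exists_isSimpleSys P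
  set ℓ₀ := P.RootForm (P.root i₀) (P.root i₀) with hℓ₀
  have hℓ₀pos : 0 < ℓ₀ := rootForm_root_self_pos P i₀
  set f : ι → N := fun i => (P.RootForm (P.root i) (P.root i) / ℓ₀) • P.coroot i with hf
  have hstar : ∀ i, ℓ₀ • f i = (2 : ℕ) • P.Polarization (P.root i) := by
    intro i
    rw [hf]
    simp only
    rw [← mul_smul, Int.mul_ediv_cancel' (IsIrr.rootForm_dvd hirr i₀ hmin i),
      rootForm_self_smul_coroot]
  have hneg : ∀ i : ι, f (P.reflectionPerm i i) = -f i := by
    intro i
    apply smul_right_injective N hℓ₀pos.ne'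
    simp only
    rw [hstar, root_neg, map_neg, smul_neg, smul_neg, hstar]
  have hadd : ∀ i j k : ι, P.root k = P.root i + P.root j → f k = f i + f j := by
    intro i j k hk
    apply smul_right_injective N hℓ₀pos.ne'
    simp only
    rw [hstar, hk, map_add, smul_add, smul_add, hstar, hstar]
  refine ⟨lift hΔ f, fun i => lift_root hΔ f hneg hadd i, ?_⟩
  intro ψ hψ
  apply addMonoidHom_ext
  intro i
  rw [hψ i, lift_root hΔ f hneg hadd i]

end Groth.Agent.Lib.RootDLen2_helper8
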