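import Groth.Agent.Lib.RootDPMor_helper8

set_option autoImplicit false

/-!
# p-morphisms of root data: simple systems and positive systems (helper8)
-/

namespace Groth.Agent.Lib.RootDPMor2_helper8

open RootD Set RootPairing Groth.Agent.Lib.RootD_helper8 Groth.Agent.Lib.RootDPos_helper8
  Groth.Agent.Lib.RootDWeyl_helper8 Groth.Agent.Lib.RootDPar_helper8
  Groth.Agent.Lib.RootDIrr_helper8 Groth.Agent.Lib.RootDProp_helper8
  Groth.Agent.Lib.RootDForm_helper8 Groth.Agent.Lib.RootDLen_helper8
  Groth.Agent.Lib.RootDIrr2_helper8 Groth.Agent.Lib.RootDHom_helper8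
  Groth.Agent.Lib.RootDDual_helper8 Groth.Agent.Lib.RootDCone_helper8
  Groth.Agent.Lib.RootDPMor_helper8

variable {ι M N ι' M' N' : Type*} [AddCommGroup M] [AddCommGroup N] [AddCommGroup M']
  [AddCommGroup N'] {P : RootPairing ι ℤ M N} {P' : RootPairing ι' ℤ M' N'}

/-- Linear independence of roots implies that of the corresponding coroots. -/
lemma linearIndepOn_coroot_of [Finite ι] {Δ : Set ι} (hli : LinearIndepOn ℤ P.root Δ) :
    LinearIndepOn ℤ P.coroot Δ := by
  cases nonempty_fintype ι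
  have := isTorsionFree' P
  have hli' : LinearIndependent ℤ (fun i : Δ => P.root (i : ι)) := hli
  have h1 : LinearIndependent ℤ (fun i : Δ => P.Polarization (P.root (i : ι))) := by
    apply hli'.map (f := P.Polarization)
    rw [Submodule.disjoint_def]
    intro x hx hx'
    refine eq_zero_of_polarization_eq_zero (Submodule.span_mono ?_ hx) hx'
    rintro - ⟨i, rfl⟩
    exact ⟨i, rfl⟩
  refine linearIndependent_of_smul_eq_smul (fun _ : Δ => (2 : ℤ))
    (fun i : Δ => P.RootForm (P.root i) (P.root i))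
    (fun _ => two_ne_zero) (fun i => (rootForm_root_self_pos P _).ne') ?_ h1
  intro i
  rw [rootForm_self_smul_coroot, two_smul, two_smul]

lemma linearIndepOn_root_of [Finite ι] {Δ : Set ι} (hli : LinearIndepOn ℤ P.coroot Δ) :
    LinearIndepOn ℤ P.root Δ :=
  linearIndepOn_coroot_of (P := P.flip) hli

/-- If a positive multiple of a root lies in the cone of `Δ`, a positive multiple of its coroot
lies in the cone of the coroots of `Δ`. -/
lemma exists_smul_coroot_mem_natSpan [Finite ι] {Δ : Set ι} {k : ι} {n : ℕ} (hn : 0 < n)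
    (h : n • P.root k ∈ natSpan P Δ) : ∃ m : ℕ, 0 < m ∧ m • P.coroot k ∈ natSpan P.flip Δ := by
  classical
  cases nonempty_fintype ι
  obtain ⟨c, hc, hc0, hck⟩ := (mem_natSpan_iff P Δ _).mp h
  have h0 := rootForm_root_self_pos P k
  refine ⟨n * (P.RootForm (P.root k) (P.root k)).toNat, Nat.mul_pos hn (by omega), ?_⟩
  have h1 : (n * (P.RootForm (P.root k) (P.root k)).toNat) • P.coroot k =
      c.sum fun i a => (a * P.RootForm (P.root i) (P.root i)) • P.coroot i := by
    have e1 : (n * (P.RootForm (P.root k) (P.root k)).toNat) • P.coroot k =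
        (2 : ℕ) • P.Polarization (n • P.root k) := by
      rw [mul_nsmul', ← natCast_zsmul (P.coroot k) (P.RootForm (P.root k) (P.root k)).toNat,
        Int.toNat_of_nonneg h0.le, rootForm_self_smul_coroot, map_nsmul, smul_comm]
    rw [e1, ← hck, Finsupp.linearCombination_apply, Finsupp.sum, map_sum, Finset.smul_sum,
      Finsupp.sum]
    refine Finset.sum_congr rfl fun i _ => ?_
    rw [map_smul, smul_comm, ← rootForm_self_smul_coroot, mul_smul]
  rw [h1, Finsupp.sum]
  apply sum_mem
  intro i hi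
  have hiΔ : i ∈ Δ := hc hi
  have hnn : 0 ≤ c i * P.RootForm (P.root i) (P.root i) :=
    mul_nonneg (hc0 i) (rootForm_root_self_pos P i).le
  rw [← Int.toNat_of_nonneg hnn, natCast_zsmul]
  exact nsmul_mem (AddSubmonoid.subset_closure (Set.mem_image_of_mem _ hiΔ)) _

lemma exists_smul_root_mem_natSpan [Finite ι] {Δ : Set ι} {k : ι} {n : ℕ} (hn : 0 < n)
    (h : n • P.coroot k ∈ natSpan P.flip Δ) : ∃ m : ℕ, 0 < m ∧ m • P.root k ∈ natSpan P Δ :=
  exists_smul_coroot_mem_natSpan (P := P.flip) hn h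

/-- In a reduced root datum every root is indivisible. -/
lemma isIndiv_of_isReduced [Finite ι] [P.IsReduced] (i : ι) : IsIndiv P i := by
  intro j hj
  have := eq_of_smul_root_eq_smul_root (P := P) (k := j) (l := i) (a := 2) (b := 1)
    (by norm_num) (by norm_num) (by rw [hj, one_smul])
  omega

end Groth.Agent.Lib.RootDPMor2_helper8

namespace Groth.Agent.Lib.RootDPMor_helper8.IsPMor

open RootD Set RootPairing Groth.Agent.Lib.RootD_helper8 Groth.Agent.Lib.RootDPos_helper8
  Groth.Agent.Lib.RootDWeyl_helper8 Groth.Agent.Lib.RootDPar_helper8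
  Groth.Agent.Lib.RootDIrr_helper8 Groth.Agent.Lib.RootDProp_helper8
  Groth.Agent.Lib.RootDForm_helper8 Groth.Agent.Lib.RootDLen_helper8
  Groth.Agent.Lib.RootDIrr2_helper8 Groth.Agent.Lib.RootDHom_helper8
  Groth.Agent.Lib.RootDDual_helper8 Groth.Agent.Lib.RootDCone_helper8
  Groth.Agent.Lib.RootDPMor_helper8 Groth.Agent.Lib.RootDPMor2_helper8

variable {ι M N ι' M' N' : Type*} [AddCommGroup M] [AddCommGroup N] [AddCommGroup M']
  [AddCommGroup N'] {P : RootPairing ι ℤ M N} {P' : RootPairing ι' ℤ M' N'}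

variable {f : M' →ₗ[ℤ] M} {g : N →ₗ[ℤ] N'} {u : ι ≃ ι'} {q : ι → ℕ}

lemma u_neg [Finite ι] [P.IsReduced] (h : IsPMor P P' f g u q) (k : ι) :
    u (P.reflectionPerm k k) = P'.reflectionPerm (u k) (u k) :=
  (h.reflectionPerm_eq k k).2

lemma map_mem_natSpan (h : IsPMor P P' f g u q) {Δ : Set ι} {x : M'}
    (hx : x ∈ natSpan P' (u '' Δ)) : f x ∈ natSpan P Δ := by
  induction hx using AddSubmonoid.closure_induction with
  | mem x hx =>
    obtain ⟨-, ⟨i, hi, rfl⟩, rfl⟩ := hx
    rw [h.hroot, natCast_zsmul]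
    exact nsmul_mem (AddSubmonoid.subset_closure (Set.mem_image_of_mem _ hi)) _
  | zero => rw [map_zero]; exact zero_mem _
  | add x y _ _ hx hy => rw [map_add]; exact add_mem hx hy

lemma map_coroot_mem_natSpan (h : IsPMor P P' f g u q) {Δ : Set ι} {x : N}
    (hx : x ∈ natSpan P.flip Δ) : g x ∈ natSpan P'.flip (u '' Δ) := by
  induction hx using AddSubmonoid.closure_induction with
  | mem x hx =>
    obtain ⟨i, hi, rfl⟩ := hx
    change g (P.coroot i) ∈ _
    rw [h.hcoroot, natCast_zsmul]
    exact nsmul_mem (AddSubmonoid.subset_closure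
      (Set.mem_image_of_mem _ (Set.mem_image_of_mem _ hi))) _
  | zero => rw [map_zero]; exact zero_mem _
  | add x y _ _ hx hy => rw [map_add]; exact add_mem hx hy

/-- Transfer of the cone condition along a `p`-morphism. -/
lemma exists_smul_mem_natSpan_image [Finite ι] [Finite ι'] (h : IsPMor P P' f g u q)
    {Δ : Set ι} {k : ι} {n : ℕ} (hn : 0 < n) (hk : n • P.root k ∈ natSpan P Δ) :
    ∃ m : ℕ, 0 < m ∧ m • P'.root (u k) ∈ natSpan P' (u '' Δ) := by
  obtain ⟨m, hm, hmk⟩ := exists_smul_coroot_mem_natSpan hn hk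
  have h1 := h.map_coroot_mem_natSpan hmk
  rw [map_nsmul, h.hcoroot, natCast_zsmul, ← mul_nsmul'] at h1
  exact exists_smul_root_mem_natSpan (P := P') (Nat.mul_pos hm (h.hq k)) h1

/-- SGA3 XXI 6.8.5: a `p`-morphism carries simple systems to simple systems. -/
theorem isSimpleSys_image [Finite ι] [Finite ι'] [P.IsReduced] [P'.IsReduced]
    (h : IsPMor P P' f g u q) {Δ : Set ι} (hΔ : IsSimpleSys P Δ) :
    IsSimpleSys P' (u '' Δ) := by
  have := isTorsionFree P
  apply isSimpleSys_of_cone
  · intro i' _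
    exact isIndiv_of_isReduced i'
  · apply LinearIndepOn.image_of_comp
    apply LinearIndepOn.of_comp f
    have hli : LinearIndependent ℤ (fun i : Δ => P.root (i : ι)) := hΔ.linInd
    refine linearIndependent_of_smul_eq_smul (fun i : Δ => (q i : ℤ)) (fun _ : Δ => (1 : ℤ))
      (fun i => by exact_mod_cast (h.hq i).ne') (fun _ => one_ne_zero) ?_ hli
    intro i
    simp only [Function.comp_apply, one_smul]
    rw [h.hroot]
  · intro k'
    obtain ⟨k, rfl⟩ := u.surjective k'
    rcases hΔ.mem_or_neg_mem k with hk | hk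
    · obtain ⟨m, hm, hmk⟩ := h.exists_smul_mem_natSpan_image (n := 1) one_pos
        (by rwa [one_smul])
      exact ⟨m, hm, Or.inl hmk⟩
    · rw [← root_neg] at hk
      obtain ⟨m, hm, hmk⟩ := h.exists_smul_mem_natSpan_image (n := 1) one_pos
        (by rwa [one_smul])
      rw [h.u_neg, root_neg] at hmk
      exact ⟨m, hm, Or.inr hmk⟩

/-- SGA3 XXI 6.8.5: conversely. -/
theorem isSimpleSys_of_image [Finite ι] [Finite ι'] [P.IsReduced] [P'.IsReduced]
    (h : IsPMor P P' f g u q) {Δ : Set ι} (hΔ : IsSimpleSys P' (u '' Δ)) :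
    IsSimpleSys P Δ := by
  have := isTorsionFree' P'
  apply isSimpleSys_of_cone
  · intro i _
    exact isIndiv_of_isReduced i
  · apply linearIndepOn_root_of
    apply LinearIndepOn.of_comp g
    have h1 : LinearIndepOn ℤ (P'.coroot ∘ u) Δ :=
      (linearIndepOn_coroot hΔ).comp_of_image u.injective.injOn
    have hli : LinearIndependent ℤ (fun i : Δ => P'.coroot (u (i : ι))) := h1
    refine linearIndependent_of_smul_eq_smul (fun i : Δ => (q i : ℤ)) (fun _ : Δ => (1 : ℤ))
      (fun i => by exact_mod_cast (h.hq i).ne') (fun _ => one_ne_zero) ?_ hli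
    intro i
    simp only [Function.comp_apply, one_smul]
    rw [h.hcoroot]
  · intro k
    refine ⟨q k, h.hq k, ?_⟩
    rcases hΔ.mem_or_neg_mem (u k) with hk | hk
    · left
      have := h.map_mem_natSpan hk
      rwa [h.hroot, natCast_zsmul] at this
    · right
      have := h.map_mem_natSpan hk
      rwa [map_neg, h.hroot, natCast_zsmul, ← smul_neg] at this

lemma image_posOf [Finite ι] [Finite ι'] [P.IsReduced] [P'.IsReduced]
    (h : IsPMor P P' f g u q) {Δ : Set ι} (hΔ : IsSimpleSys P Δ) :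
    u '' posOf P Δ = posOf P' (u '' Δ) := by
  have hΔ' := h.isSimpleSys_image hΔ
  have hpos' := isPosSys_posOf hΔ'
  have hsub : u '' posOf P Δ ⊆ posOf P' (u '' Δ) := by
    rintro - ⟨k, hk, rfl⟩
    obtain ⟨m, hm, hmk⟩ := h.exists_smul_mem_natSpan_image (n := 1) one_pos
      (by rw [one_smul]; exact hk)
    apply hpos'.sat m hm
    exact natSpan_mono subset_posOf hmk
  refine subset_antisymm hsub ?_
  intro k' hk'
  obtain ⟨k, rfl⟩ := u.surjective k'
  refine ⟨k, ?_, rfl⟩
  rcases mem_posOf_or_neg_mem hΔ k with hk | hk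
  · exact hk
  · exfalso
    have h1 := hsub ⟨_, hk, rfl⟩
    rw [h.u_neg] at h1
    exact hpos'.disjoint hk' h1

/-- SGA3 XXI 6.8.5: a `p`-morphism carries positive systems to positive systems. -/
theorem isPosSys_image_iff [Finite ι] [Finite ι'] [P.IsReduced] [P'.IsReduced]
    (h : IsPMor P P' f g u q) (S : Set ι) : IsPosSys P S ↔ IsPosSys P' (u '' S) := by
  constructor
  · intro hS
    obtain ⟨Δ, hΔ, -, rfl⟩ := exists_isSimpleSys_of_isPosSys hS
    rw [h.image_posOf hΔ]
    exact isPosSys_posOf (h.isSimpleSys_image hΔ)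
  · intro hS
    obtain ⟨Δ', hΔ', -, hS'⟩ := exists_isSimpleSys_of_isPosSys hS
    have hΔ'eq : u '' (u.symm '' Δ') = Δ' := by
      rw [← Set.image_comp]
      simp
    have hΔ : IsSimpleSys P (u.symm '' Δ') := h.isSimpleSys_of_image (by rwa [hΔ'eq])
    have h1 := h.image_posOf hΔ
    rw [hΔ'eq, ← hS'] at h1
    have h2 : posOf P (u.symm '' Δ') = S := u.injective.image_injective h1
    rw [← h2]
    exact isPosSys_posOf hΔ

end Groth.Agent.Lib.RootDPMor_helper8.IsPMor
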