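import Groth.Agent.Lib.RootDLen2_helper8
import Groth.Agent.Lib.RootDCartan_helper8

set_option autoImplicit false

/-!
# p-morphisms of root data (helper8)
-/

namespace Groth.Agent.Lib.RootDPMor_helper8

open RootD Set RootPairing Groth.Agent.Lib.RootD_helper8 Groth.Agent.Lib.RootDPos_helper8
  Groth.Agent.Lib.RootDWeyl_helper8 Groth.Agent.Lib.RootDPar_helper8
  Groth.Agent.Lib.RootDIrr_helper8 Groth.Agent.Lib.RootDProp_helper8
  Groth.Agent.Lib.RootDForm_helper8 Groth.Agent.Lib.RootDLen_helper8
  Groth.Agent.Lib.RootDIrr2_helper8 Groth.Agent.Lib.RootDHom_helper8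

variable {ι M N ι' M' N' : Type*} [AddCommGroup M] [AddCommGroup N] [AddCommGroup M']
  [AddCommGroup N'] {P : RootPairing ι ℤ M N} {P' : RootPairing ι' ℤ M' N'}

/-- The data of a "`p`-morphism" (without the condition on the exponents being powers of `p`). -/
structure IsPMor (P : RootPairing ι ℤ M N) (P' : RootPairing ι' ℤ M' N')
    (f : M' →ₗ[ℤ] M) (g : N →ₗ[ℤ] N') (u : ι ≃ ι') (q : ι → ℕ) : Prop where
  hfg : ∀ (m' : M') (n : N), P.toLinearMap (f m') n = P'.toLinearMap m' (g n)
  hq : ∀ i, 0 < q i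
  hroot : ∀ i : ι, f (P'.root (u i)) = (q i : ℤ) • P.root i
  hcoroot : ∀ i : ι, g (P.coroot i) = (q i : ℤ) • P'.coroot (u i)

namespace IsPMor

variable {f : M' →ₗ[ℤ] M} {g : N →ₗ[ℤ] N'} {u : ι ≃ ι'} {q : ι → ℕ}

lemma pairing_eq (h : IsPMor P P' f g u q) (i j : ι) :
    (q i : ℤ) * P'.pairing (u j) (u i) = (q j : ℤ) * P.pairing j i := by
  have h1 := h.hfg (P'.root (u j)) (P.coroot i)
  rw [h.hroot, h.hcoroot] at h1
  simp only [map_smul, LinearMap.smul_apply, smul_eq_mul] at h1
  exact h1.symm

/-- SGA3 XXI 6.8: lengths under a `p`-morphism, for non-orthogonal roots. -/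
lemma length_of_not_isOrthogonal [Fintype ι] [Fintype ι'] (h : IsPMor P P' f g u q) {i j : ι}
    (hij : ¬ P.IsOrthogonal i j) :
    ((q i : ℤ) ^ 2 * P.RootForm (P.root i) (P.root i)) *
        P'.RootForm (P'.root (u j)) (P'.root (u j)) =
      ((q j : ℤ) ^ 2 * P.RootForm (P.root j) (P.root j)) *
        P'.RootForm (P'.root (u i)) (P'.root (u i)) := by
  have h1 := P.toInvariantForm.pairing_mul_eq_pairing_mul_swap i j
  have h2 := P'.toInvariantForm.pairing_mul_eq_pairing_mul_swap (u i) (u j)
  simp only [RootPairing.toInvariantForm_form] at h1 h2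
  have h3 := h.pairing_eq i j
  have h4 := h.pairing_eq j i
  have ha : P.pairing i j ≠ 0 := by
    intro h0
    exact hij ⟨h0, P.pairing_eq_zero_iff'.mp h0⟩
  have hb : P.pairing j i ≠ 0 := by
    intro h0
    exact hij ⟨P.pairing_eq_zero_iff'.mp h0, h0⟩
  have hqi : (q i : ℤ) ≠ 0 := by exact_mod_cast (h.hq i).ne'
  have hqj : (q j : ℤ) ≠ 0 := by exact_mod_cast (h.hq j).ne'
  generalize P.RootForm (P.root i) (P.root i) = li at *
  generalize P.RootForm (P.root j) (P.root j) = lj at *
  generalize P'.RootForm (P'.root (u i)) (P'.root (u i)) = li' at *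
  generalize P'.RootForm (P'.root (u j)) (P'.root (u j)) = lj' at *
  generalize P.pairing i j = a at *
  generalize P.pairing j i = b at *
  generalize P'.pairing (u i) (u j) = a' at *
  generalize P'.pairing (u j) (u i) = b' at *
  generalize (q i : ℤ) = qi at *
  generalize (q j : ℤ) = qj at *
  -- h1 : b * li = a * lj, h2 : b' * li' = a' * lj', h3 : qi * b' = qj * b, h4 : qj * a' = qi * a
  have hne : qi * qj * a * b ≠ 0 := mul_ne_zero (mul_ne_zero (mul_ne_zero hqi hqj) ha) hb
  apply mul_left_cancel₀ hne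
  have e1 : qi * qj * a * b * (qi ^ 2 * li * lj') = (qi * a) * (b * li) * (qi ^ 2 * qj * lj') := by
    ring
  have e2 : qi * qj * a * b * (qj ^ 2 * lj * li') = (qj * b) * (a * lj) * (qj ^ 2 * qi * li') := by
    ring
  rw [e1, e2, h1, ← h4, ← h3]
  have e3 : qj * a' * (a * lj) * (qi ^ 2 * qj * lj') = (a' * lj') * (qi ^ 2 * qj ^ 2 * a * lj) := by
    ring
  have e4 : qi * b' * (a * lj) * (qj ^ 2 * qi * li') = (b' * li') * (qi ^ 2 * qj ^ 2 * a * lj) := by
    ring
  rw [e3, e4, h2]

lemma length_of_linked [Fintype ι] [Fintype ι'] (h : IsPMor P P' f g u q) {i j : ι}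
    (hij : Linked P i j) :
    ((q i : ℤ) ^ 2 * P.RootForm (P.root i) (P.root i)) *
        P'.RootForm (P'.root (u j)) (P'.root (u j)) =
      ((q j : ℤ) ^ 2 * P.RootForm (P.root j) (P.root j)) *
        P'.RootForm (P'.root (u i)) (P'.root (u i)) := by
  induction hij with
  | refl => rfl
  | @tail j k _ hjk ih =>
    have h1 := h.length_of_not_isOrthogonal hjk
    have hpos : (q j : ℤ) ^ 2 * P.RootForm (P.root j) (P.root j) *
        P'.RootForm (P'.root (u j)) (P'.root (u j)) ≠ 0 := by
      have hqj : (0 : ℤ) < q j := by exact_mod_cast h.hq j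
      have := rootForm_root_self_pos P j
      have := rootForm_root_self_pos P' (u j)
      positivity
    apply mul_left_cancel₀ hpos
    linear_combination ((q j : ℤ) ^ 2 * P.RootForm (P.root j) (P.root j) *
        P'.RootForm (P'.root (u k)) (P'.root (u k))) * ih +
      ((q j : ℤ) ^ 2 * P.RootForm (P.root j) (P.root j) *
        P'.RootForm (P'.root (u i)) (P'.root (u i))) * h1

end IsPMor


/-- In a reduced root datum, positively proportional roots are equal. -/
lemma eq_of_smul_root_eq_smul_root [Finite ι] [P.IsReduced] {k l : ι} {a b : ℤ} (ha : 0 < a)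
    (hb : 0 < b) (h : a • P.root k = b • P.root l) : k = l ∧ a = b := by
  have htf := isTorsionFree P
  have hnli : ¬ LinearIndependent ℤ ![P.root k, P.root l] := by
    intro hli
    rw [LinearIndependent.pair_iff] at hli
    have := hli a (-b) (by rw [neg_smul, h, add_neg_cancel])
    exact ha.ne' this.1
  have hkl : k = l := by
    rcases IsReduced.eq_or_eq_neg k l hnli with h1 | h1
    · exact P.root.injective h1
    · exfalso
      rw [h1, smul_neg, neg_eq_iff_add_eq_zero, ← add_smul] at h
      rcases smul_eq_zero.mp h with h2 | h2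
      · omega
      · exact P.ne_zero l h2
  subst hkl
  refine ⟨rfl, ?_⟩
  have h3 : (a - b) • P.root k = 0 := by rw [sub_smul, h, sub_self]
  rcases smul_eq_zero.mp h3 with h2 | h2
  · omega
  · exact absurd h2 (P.ne_zero k)

namespace IsPMor

variable {f : M' →ₗ[ℤ] M} {g : N →ₗ[ℤ] N'} {u : ι ≃ ι'} {q : ι → ℕ}

/-- SGA3 XXI 6.8.4 (a). -/
lemma reflectionPerm_eq [Finite ι] [P.IsReduced] (h : IsPMor P P' f g u q) (i j : ι) :
    q (P.reflectionPerm i j) = q j ∧
      u (P.reflectionPerm i j) = P'.reflectionPerm (u i) (u j) := by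
  set k := u.symm (P'.reflectionPerm (u i) (u j)) with hk
  have huk : u k = P'.reflectionPerm (u i) (u j) := by rw [hk, Equiv.apply_symm_apply]
  have h1 : f (P'.root (u k)) = (q k : ℤ) • P.root k := h.hroot k
  have h2 : f (P'.root (u k)) = (q j : ℤ) • P.root (P.reflectionPerm i j) := by
    rw [huk, P'.root_reflectionPerm, P'.reflection_apply, map_sub, map_smul, h.hroot, h.hroot,
      P.root_reflectionPerm, P.reflection_apply, smul_sub]
    congr 1
    have h3 := h.pairing_eq i j
    simp only [root_coroot'_eq_pairing]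
    rw [← mul_smul, ← mul_smul, mul_comm, h3]
  have hqk : (0 : ℤ) < q k := by exact_mod_cast h.hq k
  have hqj : (0 : ℤ) < q j := by exact_mod_cast h.hq j
  obtain ⟨h4, h5⟩ := eq_of_smul_root_eq_smul_root hqk hqj (h1.symm.trans h2)
  rw [← h4]
  exact ⟨by exact_mod_cast h5, huk⟩

/-- SGA3 XXI 6.8.4 (b). -/
lemma q_smul [Finite ι] [P.IsReduced] (h : IsPMor P P' f g u q) {w : P.Aut}
    (hw : w ∈ P.weylGroup) (i : ι) : q (w • i) = q i := by
  induction hw using weylGroup.induction generalizing i with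
  | mem j => exact (h.reflectionPerm_eq j i).1
  | one => rw [one_smul]
  | mul x y _ _ hx hy => rw [mul_smul, hx, hy]

lemma permCongrHom_reflectionPerm [Finite ι] [P.IsReduced] (h : IsPMor P P' f g u q) (i : ι) :
    u.permCongrHom (P.reflectionPerm i) = P'.reflectionPerm (u i) := by
  ext j'
  have := (h.reflectionPerm_eq i (u.symm j')).2
  rw [Equiv.apply_symm_apply] at this
  exact this

lemma map_range_weylGroupToPerm [Finite ι] [P.IsReduced] (h : IsPMor P P' f g u q) :
    P.weylGroupToPerm.range.map (u.permCongrHom : Equiv.Perm ι →* Equiv.Perm ι') =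
      P'.weylGroupToPerm.range := by
  rw [range_weylGroupToPerm, range_weylGroupToPerm, MonoidHom.map_closure]
  congr 1
  ext σ
  simp only [Set.mem_image, Set.mem_range, exists_exists_eq_and]
  constructor
  · rintro ⟨i, rfl⟩
    exact ⟨u i, (h.permCongrHom_reflectionPerm i).symm⟩
  · rintro ⟨i', rfl⟩
    refine ⟨u.symm i', ?_⟩
    have := h.permCongrHom_reflectionPerm (u.symm i')
    rw [Equiv.apply_symm_apply] at this
    exact this

/-- The isomorphism of Weyl groups induced by a `p`-morphism. -/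
noncomputable def weylEquiv [Finite ι] [Finite ι'] [P.IsReduced] (h : IsPMor P P' f g u q) :
    P.weylGroup ≃* P'.weylGroup :=
  (MonoidHom.ofInjective (weylGroupToPerm_injective P)).trans
    ((u.permCongrHom.subgroupMap P.weylGroupToPerm.range).trans
      ((MulEquiv.subgroupCongr h.map_range_weylGroupToPerm).trans
        (MonoidHom.ofInjective (weylGroupToPerm_injective P')).symm))

lemma weylGroupToPerm_weylEquiv [Finite ι] [Finite ι'] [P.IsReduced]
    (h : IsPMor P P' f g u q) (w : P.weylGroup) :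
    P'.weylGroupToPerm (h.weylEquiv w) = u.permCongrHom (P.weylGroupToPerm w) := by
  unfold weylEquiv
  simp only [MulEquiv.trans_apply]
  rw [MonoidHom.apply_ofInjective_symm]
  rfl

/-- SGA3 XXI 6.8.4 (c). -/
lemma weylEquiv_ofIdx [Finite ι] [Finite ι'] [P.IsReduced]
    (h : IsPMor P P' f g u q) (i : ι) :
    h.weylEquiv (weylGroup.ofIdx P i) = weylGroup.ofIdx P' (u i) := by
  apply weylGroupToPerm_injective P'
  rw [weylGroupToPerm_weylEquiv]
  exact h.permCongrHom_reflectionPerm i

lemma weylEquiv_smul [Finite ι] [Finite ι'] [P.IsReduced]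
    (h : IsPMor P P' f g u q) (w : P.weylGroup) (i : ι) :
    u ((w : P.Aut) • i) = ((h.weylEquiv w : P'.weylGroup) : P'.Aut) • u i := by
  have h1 := h.weylGroupToPerm_weylEquiv w
  have h2 := DFunLike.congr_fun h1 (u i)
  change ((h.weylEquiv w : P'.weylGroup) : P'.Aut) • u i = _ at h2
  rw [h2]
  change _ = u (P.weylGroupToPerm w (u.symm (u i)))
  rw [Equiv.symm_apply_apply]
  rfl

end IsPMor

end Groth.Agent.Lib.RootDPMor_helper8
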