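import Groth.Agent.Lib.RootDWeyl_helper8

set_option autoImplicit false

/-!
# Closed sets of roots containing a system of positive roots (helper8)
-/

namespace Groth.Agent.Lib.RootDPar_helper8

open RootD Set RootPairing Groth.Agent.Lib.RootD_helper8 Groth.Agent.Lib.RootDPos_helper8
  Groth.Agent.Lib.RootDWeyl_helper8

variable {ι M N : Type*} [AddCommGroup M] [AddCommGroup N] {P : RootPairing ι ℤ M N}

/-- The height of a root along a simple system. -/
noncomputable def height {Δ : Set ι} (hΔ : IsSimpleSys P Δ) (k : ι) : ℤ := tot (coeff hΔ k)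

lemma height_add {Δ : Set ι} (hΔ : IsSimpleSys P Δ) {i j k : ι}
    (h : P.root k = P.root i + P.root j) : height hΔ k = height hΔ i + height hΔ j := by
  simp only [height, coeff_add hΔ h, map_add]

lemma height_simple {Δ : Set ι} (hΔ : IsSimpleSys P Δ) {i : ι} (hi : i ∈ Δ) : height hΔ i = 1 := by
  simp only [height, coeff_self hΔ hi, tot_single]

lemma height_nonneg {Δ : Set ι} (hΔ : IsSimpleSys P Δ) {k : ι} (hk : k ∈ posOf P Δ) :
    0 ≤ height hΔ k :=
  tot_nonneg ((mem_posOf_iff hΔ k).mp hk)

lemma neg_mem_natSpan_of_neg_mem {S T : Set ι} (h : ∀ i ∈ S, P.reflectionPerm i i ∈ T) {x : M}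
    (hx : x ∈ natSpan P S) : -x ∈ natSpan P T := by
  induction hx using AddSubmonoid.closure_induction with
  | mem x hx =>
    obtain ⟨i, hi, rfl⟩ := hx
    rw [← root_neg]
    exact AddSubmonoid.subset_closure ⟨_, h i hi, rfl⟩
  | zero => rw [neg_zero]; exact zero_mem _
  | add x y _ _ hx hy => rw [neg_add]; exact add_mem hx hy

/-- SGA3 XXI 3.3.?: a closed set of roots containing the positive roots of a simple system `Δ` is
the union of the positive roots and of the negative roots generated by the simple roots whose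
opposite it contains. -/
lemma closed_superset_eq [Finite ι] {Δ : Set ι} (hΔ : IsSimpleSys P Δ) {P' : Set ι}
    (hcl : IsClosedSub P P') (hSP : posOf P Δ ⊆ P') :
    P' = posOf P Δ ∪
      {k : ι | -P.root k ∈ natSpan P {i : ι | i ∈ Δ ∧ P.reflectionPerm i i ∈ P'}} := by
  set Δ' : Set ι := {i : ι | i ∈ Δ ∧ P.reflectionPerm i i ∈ P'} with hΔ'
  apply subset_antisymm
  · -- a root of `P'` which is not positive
    have key : ∀ n : ℕ, ∀ β : ι, β ∈ posOf P Δ → P.reflectionPerm β β ∈ P' →
        (height hΔ β).toNat = n → P.root β ∈ natSpan P Δ' := by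
      intro n
      induction n using Nat.strong_induction_on with
      | _ n ih =>
        intro β hβ hβ' hn
        by_cases hβΔ : β ∈ Δ
        · exact AddSubmonoid.subset_closure ⟨β, ⟨hβΔ, hβ'⟩, rfl⟩
        · obtain ⟨j, hj, l, hl, hβl, -⟩ := exists_sub_simple hΔ hβ hβΔ
          have hjΔ' : j ∈ Δ' := by
            refine ⟨hj, hcl hβ' (hSP hl) ?_⟩
            rw [root_neg, root_neg, hβl]
            abel
          have hl' : P.reflectionPerm l l ∈ P' := by
            refine hcl hβ' (hSP (subset_posOf hj)) ?_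
            rw [root_neg, root_neg, hβl]
            abel
          have hh : height hΔ β = height hΔ l + 1 := by
            rw [height_add hΔ hβl, height_simple hΔ hj]
          have hl0 := height_nonneg hΔ hl
          have := ih (height hΔ l).toNat (by omega) l hl hl' rfl
          rw [hβl]
          exact add_mem this (AddSubmonoid.subset_closure ⟨j, hjΔ', rfl⟩)
    intro k hk
    by_cases hkpos : k ∈ posOf P Δ
    · exact Or.inl hkpos
    · right
      have hk' : P.reflectionPerm k k ∈ posOf P Δ :=
        (mem_posOf_or_neg_mem hΔ k).resolve_left hkpos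
      have hkk : P.reflectionPerm (P.reflectionPerm k k) (P.reflectionPerm k k) = k := by
        apply P.root.injective
        rw [root_neg, root_neg, neg_neg]
      have := key _ (P.reflectionPerm k k) hk' (by rw [hkk]; exact hk) rfl
      rw [root_neg] at this
      exact this
  · rintro k (hk | hk)
    · exact hSP hk
    · apply mem_of_mem_natSpan_of_closed hcl
      have := neg_mem_natSpan_of_neg_mem (T := P') (fun i hi => hi.2) hk
      rwa [neg_neg] at this

/-- A root lies in the span of a subset `Δ'` of a simple system iff its coefficients vanish outside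
`Δ'`. -/
lemma mem_inSpan_iff {Δ Δ' : Set ι} (hΔ : IsSimpleSys P Δ) (hsub : Δ' ⊆ Δ) (k : ι) :
    k ∈ inSpan P Δ' ↔ ∀ j, j ∉ Δ' → coeff hΔ k j = 0 := by
  simp only [inSpan, mem_ofPred_eq]
  constructor
  · intro h j hj
    obtain ⟨c, hc, hck⟩ := (Finsupp.mem_span_image_iff_linearCombination ℤ).mp h
    rw [Finsupp.mem_supported] at hc
    rw [coeff_eq hΔ (hc.trans hsub) hck]
    by_contra h0
    exact hj (hc (by simpa using h0))
  · intro h
    rw [← linearCombination_coeff hΔ k]
    refine (Finsupp.mem_span_image_iff_linearCombination ℤ).mpr ⟨coeff hΔ k, ?_, rfl⟩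
    rw [Finsupp.mem_supported]
    intro j hj
    by_contra hj'
    exact (by simpa using hj : coeff hΔ k j ≠ 0) (h j hj')

/-- The group generated by the reflections in `Δ' ⊆ Δ` preserves the set of positive roots not in
the span of `Δ'`. -/
lemma smul_mem_posOf_of_mem_closure {Δ Δ' : Set ι} (hΔ : IsSimpleSys P Δ) (hsub : Δ' ⊆ Δ)
    {g : P.Aut} (hg : g ∈ Subgroup.closure ((fun i : ι => Equiv.reflection P i) '' Δ')) :
    ∀ k : ι, k ∈ posOf P Δ → k ∉ inSpan P Δ' → g • k ∈ posOf P Δ ∧ g • k ∉ inSpan P Δ' := by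
  have hmem : ∀ i ∈ Δ', ∀ k : ι, k ∈ posOf P Δ → k ∉ inSpan P Δ' →
      Equiv.reflection P i • k ∈ posOf P Δ ∧ Equiv.reflection P i • k ∉ inSpan P Δ' := by
    intro i hi k hk hk'
    rw [mem_inSpan_iff hΔ hsub] at hk'
    push Not at hk'
    obtain ⟨j, hj, hkj⟩ := hk'
    have hji : j ≠ i := fun h => hj (h ▸ hi)
    rw [reflection_smul_idx]
    refine ⟨reflectionPerm_mem_posOf hΔ (hsub hi) hk hji hkj, ?_⟩
    rw [mem_inSpan_iff hΔ hsub]
    push Not
    exact ⟨j, hj, by rwa [coeff_reflectionPerm_of_ne hΔ (hsub hi) k hji]⟩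
  induction hg using Subgroup.closure_induction'' with
  | mem x hx =>
    obtain ⟨i, hi, rfl⟩ := hx
    exact hmem i hi
  | inv_mem x hx =>
    obtain ⟨i, hi, rfl⟩ := hx
    rw [Equiv.reflection_inv]
    exact hmem i hi
  | one => intro k hk hk'; simpa using ⟨hk, hk'⟩
  | mul x y _ _ hx hy =>
    intro k hk hk'
    rw [mul_smul]
    obtain ⟨h1, h2⟩ := hy k hk hk'
    exact hx _ h1 h2

end Groth.Agent.Lib.RootDPar_helper8
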