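import Groth.Agent.Lib.RootD_helper8

set_option autoImplicit false

/-!
# Closed sets of roots and systems of positive roots (helper8)
-/

namespace Groth.Agent.Lib.RootDPos_helper8

open RootD Set Groth.Agent.Lib.RootD_helper8

variable {ι M N : Type*} [AddCommGroup M] [AddCommGroup N] {P : RootPairing ι ℤ M N}

/-- The sum of the coefficients. -/
noncomputable def tot : (ι →₀ ℤ) →ₗ[ℤ] ℤ := Finsupp.linearCombination ℤ (fun _ : ι => (1 : ℤ))

lemma tot_single (i : ι) (a : ℤ) : tot (Finsupp.single i a) = a := by
  simp [tot]

lemma tot_apply (c : ι →₀ ℤ) : tot c = c.sum (fun _ a => a) := by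
  simp [tot, Finsupp.linearCombination_apply]

lemma tot_nonneg {c : ι →₀ ℤ} (hc : ∀ j, 0 ≤ c j) : 0 ≤ tot c := by
  rw [tot_apply]
  exact Finset.sum_nonneg fun j _ => hc j

lemma le_tot {c : ι →₀ ℤ} (hc : ∀ j, 0 ≤ c j) (i : ι) : c i ≤ tot c := by
  classical
  rw [tot_apply, Finsupp.sum]
  by_cases hi : i ∈ c.support
  · exact Finset.single_le_sum (f := fun j => c j) (fun j _ => hc j) hi
  · have : c i = 0 := by simpa using hi
    rw [this]
    exact Finset.sum_nonneg fun j _ => hc j

/-- Bourbaki, Lie VI §1.7 Prop. 19: a non-empty sum of elements of a closed set of roots containing no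
pair of opposite roots is non-zero. -/
lemma linearCombination_ne_zero_of_closed [Finite ι] {S : Set ι} (hcl : IsClosedSub P S)
    (hP1 : ∀ i ∈ S, P.reflectionPerm i i ∉ S) :
    ∀ (n : ℕ) (c : ι →₀ ℤ), (∀ j, 0 ≤ c j) → (c.support : Set ι) ⊆ S → tot c = n → n ≠ 0 →
      Finsupp.linearCombination ℤ P.root c ≠ 0 := by
  classical
  intro n
  induction n with
  | zero => intro c _ _ _ h; exact absurd rfl h
  | succ n ih =>
    intro c hc hcS htot _ hzero
    have hc0 : c ≠ 0 := by
      rintro rfl
      simp at htot
      omega
    obtain ⟨i0, hi0⟩ : ∃ i0, c i0 ≠ 0 := by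
      by_contra h
      push Not at h
      exact hc0 (Finsupp.ext h)
    have hi0S : i0 ∈ S := hcS (by simpa using hi0)
    have hi0pos : 0 < c i0 := lt_of_le_of_ne (hc i0) hi0.symm
    -- pair with the coroot of `i0`
    have h1 := congrArg (P.coroot' i0) hzero
    rw [Finsupp.linearCombination_apply, map_finsuppSum, map_zero] at h1
    simp only [map_smul, RootPairing.root_coroot'_eq_pairing, smul_eq_mul] at h1
    obtain ⟨j, hj, hji0, hjneg⟩ : ∃ j ∈ c.support, j ≠ i0 ∧ P.pairing j i0 < 0 := by
      by_contra hcon
      push Not at hcon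
      rw [Finsupp.sum, ← Finset.add_sum_erase _ _ (by simpa using hi0 : i0 ∈ c.support)] at h1
      have h2 : 0 ≤ ∑ x ∈ c.support.erase i0, c x * P.pairing x i0 := by
        apply Finset.sum_nonneg
        intro x hx
        exact mul_nonneg (hc x) (hcon x (Finset.mem_of_mem_erase hx) (Finset.ne_of_mem_erase hx))
      rw [P.pairing_same] at h1
      omega
    have hjS : j ∈ S := hcS hj
    have hjpos : 0 < c j := lt_of_le_of_ne (hc j) (by simpa using hj : c j ≠ 0).symm
    have hne : P.root j ≠ -P.root i0 := by
      intro h
      rw [← root_neg] at h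
      exact hP1 i0 hi0S (P.root.injective h ▸ hjS)
    obtain ⟨r, hr⟩ := P.root_add_root_mem_of_pairingIn_neg (by rwa [pairingIn_eq]) hne
    have hrS : r ∈ S := hcl hjS hi0S hr
    let c' : ι →₀ ℤ := c - Finsupp.single i0 1 - Finsupp.single j 1 + Finsupp.single r 1
    have hc'nonneg : ∀ x, 0 ≤ c' x := by
      intro x
      simp only [c', Finsupp.coe_add, Finsupp.coe_sub, Pi.add_apply, Pi.sub_apply,
        Finsupp.single_apply]
      have := hc x
      by_cases h1 : i0 = x
      · have h2 : j ≠ x := fun h => hji0 (h.trans h1.symm)
        subst h1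
        simp only [if_true, if_neg h2]
        split_ifs <;> omega
      · by_cases h2 : j = x
        · subst h2
          simp only [if_neg h1, if_true]
          split_ifs <;> omega
        · simp only [if_neg h1, if_neg h2]
          split_ifs <;> omega
    have hc'S : (c'.support : Set ι) ⊆ S := by
      intro x hx
      by_cases hxr : x = r
      · exact hxr ▸ hrS
      · apply hcS
        simp only [c', Finset.mem_coe, Finsupp.mem_support_iff, Finsupp.coe_add, Finsupp.coe_sub,
          Pi.add_apply, Pi.sub_apply, Finsupp.single_apply, ne_eq] at hx ⊢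
        intro h0
        apply hx
        rw [h0, if_neg (Ne.symm hxr)]
        have h3 := hc'nonneg x
        simp only [c', Finsupp.coe_add, Finsupp.coe_sub, Pi.add_apply, Pi.sub_apply,
          Finsupp.single_apply, h0, if_neg (Ne.symm hxr)] at h3
        split_ifs at h3 ⊢ <;> omega
    have hc'tot : tot c' = n := by
      simp only [c', map_add, map_sub, tot_single]
      rw [htot]
      push_cast
      ring
    have hc'zero : Finsupp.linearCombination ℤ P.root c' = 0 := by
      simp only [c', map_add, map_sub, Finsupp.linearCombination_single, one_smul, hzero, hr]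
      abel
    have hn : n ≠ 0 := by
      rintro rfl
      have h3 := le_tot hc'nonneg r
      have h4 : c' r = c r + 1 - (if i0 = r then 1 else 0) - (if j = r then 1 else 0) := by
        simp only [c', Finsupp.coe_add, Finsupp.coe_sub, Pi.add_apply, Pi.sub_apply,
          Finsupp.single_apply, if_true]
        ring
      have h5 : tot c = 1 := by rw [htot]; simp
      have h6 := le_tot hc i0
      have h7 := le_tot hc j
      -- `c i0 + c j ≤ tot c` as `i0 ≠ j`
      have h8 : c i0 + c j ≤ tot c := by
        rw [tot_apply, Finsupp.sum, ← Finset.add_sum_erase _ _ (by simpa using hi0 : i0 ∈ c.support)]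
        have : c j ≤ ∑ x ∈ c.support.erase i0, c x :=
          Finset.single_le_sum (f := fun x => c x) (fun x _ => hc x)
            (Finset.mem_erase.mpr ⟨hji0, hj⟩)
        omega
      omega
    exact ih c' hc'nonneg hc'S hc'tot hn hc'zero

/-- A system of positive roots is closed. -/
lemma isClosedSub_of_isPosSys {S : Set ι} (hS : IsPosSys P S) : IsClosedSub P S := by
  intro i j k hi hj hk
  apply hS.sat 1 one_pos
  rw [one_smul, hk]
  exact add_mem (AddSubmonoid.subset_closure (Set.mem_image_of_mem _ hi))
    (AddSubmonoid.subset_closure (Set.mem_image_of_mem _ hj))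

/-- A closed set of roots satisfying (P 1) and (P 2) is a system of positive roots. -/
lemma isPosSys_of_closed [Finite ι] {S : Set ι} (hP1 : ∀ i ∈ S, P.reflectionPerm i i ∉ S)
    (hP2 : ∀ i : ι, i ∈ S ∨ P.reflectionPerm i i ∈ S) (hcl : IsClosedSub P S) : IsPosSys P S where
  disjoint := fun i hi => hP1 i hi
  cover := hP2
  sat := by
    intro k n hn hk
    by_contra hkS
    have hk' : P.reflectionPerm k k ∈ S := (hP2 k).resolve_left hkS
    obtain ⟨c, hcS, hc, hck⟩ := (mem_natSpan_iff P S _).mp hk
    let m : ι →₀ ℤ := c + Finsupp.single (P.reflectionPerm k k) (n : ℤ)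
    have hm : ∀ j, 0 ≤ m j := by
      intro j
      simp only [m, Finsupp.coe_add, Pi.add_apply]
      classical
      rw [Finsupp.single_apply]
      have := hc j
      split_ifs <;> omega
    have hmS : (m.support : Set ι) ⊆ S := by
      intro x hx
      classical
      have hx' := Finsupp.support_add hx
      simp only [Finset.mem_union] at hx'
      rcases hx' with h | h
      · exact hcS h
      · have := Finsupp.support_single_subset h
        rw [Finset.mem_singleton] at this
        exact this ▸ hk'
    have hmtot : tot m = ((tot m).toNat : ℤ) := (Int.toNat_of_nonneg (tot_nonneg hm)).symm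
    have hmpos : (tot m).toNat ≠ 0 := by
      have h1 : tot m = tot c + n := by simp [m, tot_single]
      have h2 := tot_nonneg hc
      omega
    apply linearCombination_ne_zero_of_closed hcl hP1 _ m hm hmS hmtot hmpos
    simp only [m, map_add, Finsupp.linearCombination_single, hck, root_neg, natCast_zsmul]
    simp

end Groth.Agent.Lib.RootDPos_helper8
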