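import Mathlib.LinearAlgebra.RootSystem.Defs
import Mathlib.LinearAlgebra.QuadraticForm.Basic
import Mathlib.Tactic.LinearCombination

set_option autoImplicit false

/-!
# Reflection-invariant quadratic forms on the coweight module of a root pairing (helper8)
-/

namespace Groth.Agent.Lib.RootDQuad_helper8

open RootPairing

variable {ι R M N : Type*} [CommRing R] [AddCommGroup M] [Module R M]
  [AddCommGroup N] [Module R N] (P : RootPairing ι R M N) (Q : QuadraticMap R N R)

/-- The defect of invariance of a quadratic form under a coreflection. -/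
lemma coreflection_sub (j : ι) (y : N) : Q (P.coreflection j y) - Q y =
    P.root' j y * (P.root' j y * Q (P.coroot j) - QuadraticMap.polar Q y (P.coroot j)) := by
  have h1 : P.coreflection j y = y + (-(P.root' j y)) • P.coroot j := by
    rw [P.coreflection_apply, neg_smul, sub_eq_add_neg]
  have h2 : Q (y + (-(P.root' j y)) • P.coroot j) =
      Q y + Q ((-(P.root' j y)) • P.coroot j) +
        QuadraticMap.polar Q y ((-(P.root' j y)) • P.coroot j) := by
    unfold QuadraticMap.polar; ring
  rw [h1, h2, QuadraticMap.map_smul, QuadraticMap.polar_smul_right]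
  simp only [smul_eq_mul]
  ring

lemma invariant_of_polar_coroot (j : ι) (y : N)
    (h : QuadraticMap.polar Q y (P.coroot j) = P.root' j y * Q (P.coroot j)) :
    Q (P.coreflection j y) = Q y := by
  have := coreflection_sub P Q j y
  rw [h, sub_self, mul_zero] at this
  exact sub_eq_zero.mp this

lemma polar_coroot_of_invariant_on [IsDomain R] [CharZero R] (D : Submodule R N) (j : ι)
    (hD : P.coroot j ∈ D) (h : ∀ y ∈ D, Q (P.coreflection j y) = Q y) :
    ∀ y ∈ D, QuadraticMap.polar Q y (P.coroot j) = P.root' j y * Q (P.coroot j) := by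
  intro y hyD
  have h2R : (2 : R) ≠ 0 := two_ne_zero
  have hy := coreflection_sub P Q j y
  rw [h _ hyD, sub_self] at hy
  by_cases hc : P.root' j y = 0
  · have hy' := coreflection_sub P Q j (y + P.coroot j)
    rw [h _ (D.add_mem hyD hD), sub_self] at hy'
    have hc' : P.root' j (y + P.coroot j) = 2 := by
      rw [map_add, hc, zero_add]
      exact P.root_coroot_two j
    rw [hc', QuadraticMap.polar_add_left, QuadraticMap.polar_self] at hy'
    rcases mul_eq_zero.mp hy'.symm with h3 | h3
    · exact absurd h3 h2R
    · rw [hc, zero_mul]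
      simp only [nsmul_eq_mul, Nat.cast_ofNat] at h3
      have : QuadraticMap.polar Q y (P.coroot j) =
          2 * Q (P.coroot j) - 2 * Q (P.coroot j) := by
        linear_combination -h3
      rw [this, sub_self]
  · rcases mul_eq_zero.mp hy.symm with h3 | h3
    · exact absurd h3 hc
    · exact (sub_eq_zero.mp h3).symm

lemma polar_coroot_of_invariant [IsDomain R] [CharZero R] (j : ι)
    (h : ∀ y, Q (P.coreflection j y) = Q y) (y : N) :
    QuadraticMap.polar Q y (P.coroot j) = P.root' j y * Q (P.coroot j) :=
  polar_coroot_of_invariant_on P Q ⊤ j trivial (fun y _ => h y) y trivial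

end Groth.Agent.Lib.RootDQuad_helper8
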