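import Groth.Agent.Lib.RootDSub_helper8
import Groth.Agent.Lib.Dihedral_helper8

set_option autoImplicit false

/-!
# Subgroups of the Weyl group generated by two reflections (helper8)
-/

namespace Groth.Agent.Lib.RootDRank2_helper8

open RootD Set RootPairing Groth.Agent.Lib.RootD_helper8 Groth.Agent.Lib.RootDPos_helper8
  Groth.Agent.Lib.RootDWeyl_helper8 Groth.Agent.Lib.RootDPar_helper8
  Groth.Agent.Lib.RootDProp_helper8 Groth.Agent.Lib.RootDForm_helper8
  Groth.Agent.Lib.RootDGen_helper8 Groth.Agent.Lib.RootDWord_helper8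
  Groth.Agent.Lib.RootDSub_helper8 Groth.Agent.Lib.Dihedral_helper8

variable {ι M N : Type*} [AddCommGroup M] [AddCommGroup N] {P : RootPairing ι ℤ M N}

lemma finite_weylGroup [Finite ι] (P : RootPairing ι ℤ M N) : Finite P.weylGroup :=
  Finite.of_injective _ (weylGroupToPerm_injective P)

/-- An element of the group generated by the reflections in a set `S` of roots fixing the roots of
`S` is trivial. -/
lemma eq_one_of_mem_reflGroup_of_fix [Finite ι] {S : Set ι} {g : P.Aut}
    (hg : g ∈ reflGroup P S) (hfix : ∀ i ∈ S, g • i = i) : g = 1 := by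
  have htf := isTorsionFree P
  have hfixspan : ∀ v ∈ Submodule.span ℤ (P.root '' S), g • v = v := by
    intro v hv
    induction hv using Submodule.span_induction with
    | mem v hv =>
      obtain ⟨i, hi, rfl⟩ := hv
      rw [← root_smul', hfix i hi]
    | zero => rw [smul_zero]
    | add x y _ _ hx hy => rw [smul_add, hx, hy]
    | smul a x _ hx => rw [smul_comm, hx]
  have hmove : ∀ x : M, g • x - x ∈ Submodule.span ℤ (P.root '' S) :=
    reflGroup_smul_sub_mem_span hg
  have hpow : ∀ (t : ℕ) (x : M), (g ^ t) • x = x + (t : ℤ) • (g • x - x) := by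
    intro t
    induction t with
    | zero => intro x; simp
    | succ t ih =>
      intro x
      rw [pow_succ', mul_smul, ih, smul_add, smul_comm, hfixspan _ (hmove x)]
      push_cast
      rw [add_smul, one_smul]
      abel
  have hgW : g ∈ P.weylGroup := reflGroup_le_weylGroup S hg
  have := finite_weylGroup P
  have hfin : IsOfFinOrder (⟨g, hgW⟩ : P.weylGroup) := isOfFinOrder_of_finite _
  obtain ⟨t, ht, htg⟩ := hfin.exists_pow_eq_one
  have htg' : g ^ t = 1 := by
    have := congrArg Subtype.val htg
    simpa using this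
  have hall : ∀ x : M, g • x = x := by
    intro x
    have h1 := hpow t x
    rw [htg', one_smul] at h1
    have h2 : (t : ℤ) • (g • x - x) = 0 := by
      have : x + (t : ℤ) • (g • x - x) = x + 0 := by rw [add_zero]; exact h1.symm
      exact add_left_cancel this
    rcases smul_eq_zero.mp h2 with h3 | h3
    · have : (t : ℤ) ≠ 0 := by exact_mod_cast ht.ne'
      exact absurd h3 this
    · exact sub_eq_zero.mp h3
  apply Equiv.weightHom_injective P
  ext x
  rw [map_one]
  exact hall x

lemma reflGroup_pair (P : RootPairing ι ℤ M N) (i j : ι) :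
    reflGroup P {i, j} =
      Subgroup.closure ({Equiv.reflection P i, Equiv.reflection P j} : Set P.Aut) := by
  unfold reflGroup
  rw [Set.image_pair]

lemma reflection_ne_one (P : RootPairing ι ℤ M N) (i : ι) : Equiv.reflection P i ≠ 1 := by
  have htf := isTorsionFree P
  intro h
  have h1 : Equiv.reflection P i • i = i := by rw [h, one_smul]
  rw [reflection_smul_idx] at h1
  have h2 := congrArg P.root h1
  rw [root_neg] at h2
  have h3 : (2 : ℤ) • P.root i = 0 := by
    rw [two_smul]
    nth_rw 1 [← h2]
    exact neg_add_cancel _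
  rcases smul_eq_zero.mp h3 with h4 | h4
  · norm_num at h4
  · exact P.ne_zero i h4

/-- SGA3 XXI 2.?: the group generated by two reflections is dihedral of order `2n`. -/
theorem card_closure_pair_reflection [Finite ι] (i j : ι) (n : ℕ)
    (hn : IsLeast {m : ℕ | 0 < m ∧
      ((Equiv.reflection P i * Equiv.reflection P j) ^ m) • i = i ∧
      ((Equiv.reflection P i * Equiv.reflection P j) ^ m) • j = j} n) :
    Nat.card (Subgroup.closure ({Equiv.reflection P i, Equiv.reflection P j} : Set P.Aut)) =
      2 * n := by
  set r := Equiv.reflection P i * Equiv.reflection P j with hr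
  have hrmem : r ∈ reflGroup P {i, j} :=
    mul_mem (reflection_mem_reflGroup (by simp)) (reflection_mem_reflGroup (by simp))
  have hiff : ∀ m : ℕ, (r ^ m) • i = i ∧ (r ^ m) • j = j → r ^ m = 1 := by
    rintro m ⟨h1, h2⟩
    apply eq_one_of_mem_reflGroup_of_fix (pow_mem hrmem m)
    rintro k (rfl | rfl)
    · exact h1
    · exact h2
  obtain ⟨⟨hn0, hn1, hn2⟩, hmin⟩ := hn
  have hord : orderOf r = n := by
    rw [orderOf_eq_iff hn0]
    refine ⟨hiff n ⟨hn1, hn2⟩, fun m hm hm0 hrm => ?_⟩
    have : n ≤ m := hmin ⟨hm0, by rw [hrm, one_smul], by rw [hrm, one_smul]⟩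
    omega
  exact card_closure_pair (reflection_mul_self i) (reflection_mul_self j)
    (reflection_ne_one P i) (reflection_ne_one P j) hn0 hord


/-- Elements of the cone generated by two roots. -/
lemma exists_of_mem_natSpan_pair {i j : ι} {x : M} (hx : x ∈ natSpan P {i, j}) :
    ∃ p q : ℤ, 0 ≤ p ∧ 0 ≤ q ∧ x = p • P.root i + q • P.root j := by
  induction hx using AddSubmonoid.closure_induction with
  | mem x hx =>
    obtain ⟨l, hl, rfl⟩ := hx
    rcases hl with rfl | rfl
    · exact ⟨1, 0, by norm_num, le_refl _, by simp⟩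
    · exact ⟨0, 1, le_refl _, by norm_num, by simp⟩
  | zero => exact ⟨0, 0, le_refl _, le_refl _, by simp⟩
  | add x y _ _ hx hy =>
    obtain ⟨p, q, hp, hq, rfl⟩ := hx
    obtain ⟨p', q', hp', hq', rfl⟩ := hy
    exact ⟨p + p', q + q', add_nonneg hp hp', add_nonneg hq hq', by module⟩

/-- SGA3 XXI 3.?: a root dominant for two simple roots is lowered by the group they generate. -/
lemma rank2_height [Finite ι] {Δ : Set ι} (hΔ : IsSimpleSys P Δ) {k i j : ι}
    (hi : i ∈ Δ) (hj : j ∈ Δ) (hα : 0 < P.pairing k i) (hβ : 0 ≤ P.pairing k j) :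
    ∀ (n : ℕ) (l : List ι), l.length = n → (∀ x ∈ l, x = i ∨ x = j) →
      (∀ l' : List ι, (∀ x ∈ l', x = i ∨ x = j) → wprod P l' = wprod P l →
        l.length ≤ l'.length) →
      ∃ a b : ℤ, 0 ≤ a ∧ 0 ≤ b ∧
        P.root k - P.root (wprod P l • k) = a • P.root i + b • P.root j ∧
        (a + b = 0 → wprod P l = 1 ∨ wprod P l = Equiv.reflection P j) := by
  have htf := isTorsionFree P
  have hsub : ({i, j} : Set ι) ⊆ Δ := by
    rintro x (rfl | rfl)
    · exact hi
    · exact hj
  intro n
  induction n with
  | zero =>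
    intro l hl _ _
    have : l = [] := List.length_eq_zero_iff.mp hl
    subst this
    exact ⟨0, 0, le_refl _, le_refl _, by simp, fun _ => Or.inl rfl⟩
  | succ n ih =>
    intro l hlen hl hmin
    rcases List.eq_nil_or_concat l with h | ⟨l₀, d, h⟩
    · rw [h] at hlen; simp at hlen
    rw [List.concat_eq_append] at h
    subst h
    have hl₀ : ∀ x ∈ l₀, x = i ∨ x = j := fun x hx => hl x (List.mem_append_left _ hx)
    have hd : d = i ∨ d = j := hl d (by simp)
    have hl₀len : l₀.length = n := by
      simp only [List.length_append, List.length_cons, List.length_nil] at hlen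
      omega
    have hl₀S : ∀ x ∈ l₀, x ∈ ({i, j} : Set ι) := hl₀
    have hl₀Δ : ∀ x ∈ l₀, x ∈ Δ := fun x hx => hsub (hl₀S x hx)
    have hdS : d ∈ ({i, j} : Set ι) := hd
    have hdΔ : d ∈ Δ := hsub hdS
    -- minimality of `l₀`
    have hmin₀ : ∀ l' : List ι, (∀ x ∈ l', x = i ∨ x = j) → wprod P l' = wprod P l₀ →
        l₀.length ≤ l'.length := by
      intro l' hl' hl'w
      have h1 := hmin (l' ++ [d]) (by
        intro x hx
        rcases List.mem_append.mp hx with h | h
        · exact hl' x h
        · have : x = d := by simpa using h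
          rw [this]; exact hd) (by rw [wprod_append, wprod_append, hl'w])
      simp only [List.length_append, List.length_cons, List.length_nil] at h1
      omega
    obtain ⟨a', b', ha', hb', hsum', hzero'⟩ := ih l₀ hl₀len hl₀ hmin₀
    -- positivity of `w'(d)`
    have hpos : wprod P l₀ • d ∈ posOf P Δ := by
      by_contra hneg
      obtain ⟨l'', hl'', h1, h2⟩ := exists_shorter_sub hΔ hl₀Δ hdΔ hneg
      have := hmin l'' (fun x hx => hl₀ x (hl'' x hx)) h1
      omega
    have hspan : wprod P l₀ • d ∈ inSpan P {i, j} := by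
      have h0 : wprod P l₀ ∈ reflGroup P ({i, j} : Set ι) := wprod_mem_reflGroup hl₀S
      have h1 : wprod P l₀ • P.root d - P.root d ∈ Submodule.span ℤ (P.root '' {i, j}) :=
        reflGroup_smul_sub_mem_span h0 (P.root d)
      have h2 : P.root d ∈ Submodule.span ℤ (P.root '' {i, j}) :=
        Submodule.subset_span (Set.mem_image_of_mem _ hdS)
      have h3 := add_mem h1 h2
      rw [sub_add_cancel, ← root_smul'] at h3
      exact h3
    obtain ⟨p, q, hp, hq, hpq⟩ :=
      exists_of_mem_natSpan_pair (mem_natSpan_of_mem_inSpan hΔ hsub hpos hspan)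
    have hpq0 : 0 < p + q := by
      by_contra hneg
      have hp0 : p = 0 := by omega
      have hq0 : q = 0 := by omega
      rw [hp0, hq0, zero_smul, zero_smul, add_zero] at hpq
      exact P.ne_zero _ hpq
    have he : 0 ≤ P.pairing k d := by
      rcases hd with rfl | rfl
      · exact hα.le
      · exact hβ
    -- the formula
    have hformula : P.root k - P.root (wprod P (l₀ ++ [d]) • k) =
        (P.root k - P.root (wprod P l₀ • k)) + P.pairing k d • P.root (wprod P l₀ • d) := by
      rw [wprod_append, wprod_singleton, mul_smul, reflection_smul_idx, root_smul',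
        P.root_reflectionPerm, P.reflection_apply, smul_sub, smul_comm, ← root_smul', ← root_smul']
      simp only [root_coroot'_eq_pairing]
      abel
    refine ⟨a' + P.pairing k d * p, b' + P.pairing k d * q, ?_, ?_, ?_, ?_⟩
    · exact add_nonneg ha' (mul_nonneg he hp)
    · exact add_nonneg hb' (mul_nonneg he hq)
    · rw [hformula, hsum', hpq]
      module
    · intro h0
      have h1 : 0 ≤ P.pairing k d * p := mul_nonneg he hp
      have h2 : 0 ≤ P.pairing k d * q := mul_nonneg he hq
      have h3 : P.pairing k d * (p + q) = 0 := by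
        rw [mul_add]; omega
      have he0 : P.pairing k d = 0 := by
        rcases mul_eq_zero.mp h3 with h | h
        · exact h
        · omega
      have hdj : d = j := by
        rcases hd with rfl | rfl
        · omega
        · rfl
      subst hdj
      rw [wprod_append, wprod_singleton]
      rcases hzero' (by omega) with h | h
      · right; rw [h, one_mul]
      · left; rw [h, reflection_mul_self]

/-- SGA3 XXI 3.?: the statement on coefficient sums. -/
theorem coeffSum_nonneg_of_rankTwo [Finite ι] {Δ : Set ι} (hΔ : IsSimpleSys P Δ)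
    (k i j : ι) (hi : i ∈ Δ) (hj : j ∈ Δ)
    (hα : 0 < P.pairing k i) (hβ : 0 ≤ P.pairing k j)
    (g : P.Aut) (hg : g ∈ Subgroup.closure {Equiv.reflection P i, Equiv.reflection P j})
    (c : ι →₀ ℤ) (hc : ↑c.support ⊆ Δ)
    (hck : Finsupp.linearCombination ℤ P.root c = P.root k - P.root (g • k)) :
    0 ≤ c.sum (fun _ a => a) ∧ (g ≠ 1 → g ≠ Equiv.reflection P j → 0 < c.sum (fun _ a => a)) := by
  classical
  rw [← reflGroup_pair] at hg
  -- a minimal word
  have hex : ∃ n : ℕ, ∃ l : List ι, (∀ a ∈ l, a ∈ ({i, j} : Set ι)) ∧ wprod P l = g ∧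
      l.length = n := by
    obtain ⟨l, hl, hlg⟩ := exists_wprod_eq hg
    exact ⟨l.length, l, hl, hlg, rfl⟩
  obtain ⟨l, hl, hlg, hlen⟩ := Nat.find_spec hex
  have hmin : ∀ l' : List ι, (∀ x ∈ l', x = i ∨ x = j) → wprod P l' = wprod P l →
      l.length ≤ l'.length := by
    intro l' hl' hl'g
    rw [hlen]
    exact Nat.find_min' hex ⟨l', hl', hl'g.trans hlg, rfl⟩
  obtain ⟨a, b, ha, hb, hsum, hzero⟩ := rank2_height hΔ hi hj hα hβ _ l rfl hl hmin
  rw [hlg] at hsum hzero
  have hceq : c = Finsupp.single i a + Finsupp.single j b := by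
    apply eq_of_linearCombination_eq hΔ.linInd hc
    · intro x hx
      rcases Finset.mem_union.mp (Finsupp.support_add hx) with h | h
      · have := Finsupp.support_single_subset h
        have : x = i := by simpa using this
        exact this ▸ hi
      · have := Finsupp.support_single_subset h
        have : x = j := by simpa using this
        exact this ▸ hj
    · rw [hck, hsum, map_add, Finsupp.linearCombination_single, Finsupp.linearCombination_single]
  have htot : c.sum (fun _ a => a) = a + b := by
    rw [← tot_apply, hceq, map_add, tot_single, tot_single]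
  rw [htot]
  refine ⟨add_nonneg ha hb, fun h1 hj' => ?_⟩
  by_contra hneg
  rcases hzero (by omega) with h | h
  · exact h1 h
  · exact hj' h

end Groth.Agent.Lib.RootDRank2_helper8
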