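import Groth.Agent.Lib.RootDDual_helper8
import Mathlib.LinearAlgebra.Dimension.RankNullity
import Mathlib.LinearAlgebra.FreeModule.PID
import Mathlib.LinearAlgebra.FreeModule.Finite.Quotient
import Mathlib.LinearAlgebra.Dual.Basis

set_option autoImplicit false

/-!
# Ranks of the radical and coradical (helper8)
-/

namespace Groth.Agent.Lib.RootDRank_helper8

open RootD Set RootPairing Groth.Agent.Lib.RootD_helper8
  Groth.Agent.Lib.RootDProp_helper8
  Groth.Agent.Lib.RootDForm_helper8 Groth.Agent.Lib.RootDLen_helper8
  Groth.Agent.Lib.RootDDual_helper8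

variable {ι M N : Type*} [AddCommGroup M] [AddCommGroup N] {P : RootPairing ι ℤ M N}

lemma iInf_ker_coroot'_eq_ker_polarization [Fintype ι] :
    (⨅ i : ι, LinearMap.ker (P.coroot' i) : Submodule ℤ M) = LinearMap.ker P.Polarization := by
  ext x
  simp only [Submodule.mem_iInf, LinearMap.mem_ker]
  constructor
  · intro h
    rw [Polarization_apply]
    exact Finset.sum_eq_zero fun i _ => by rw [h i, zero_smul]
  · intro h i
    have h1 : P.RootForm x x = 0 := by
      rw [← toLinearMap_apply_apply_Polarization, h, map_zero]
    rw [rootForm_apply_apply] at h1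
    have h2 := (Finset.sum_eq_zero_iff_of_nonneg
      (fun i _ => mul_self_nonneg (P.coroot' i x))).mp h1 i (Finset.mem_univ i)
    exact mul_self_eq_zero.mp h2

lemma range_polarization_le [Fintype ι] :
    LinearMap.range P.Polarization ≤ Submodule.span ℤ (Set.range P.coroot) := by
  rintro - ⟨x, rfl⟩
  rw [Polarization_apply]
  exact Submodule.sum_mem _ fun i _ => Submodule.smul_mem _ _ (Submodule.subset_span ⟨i, rfl⟩)

lemma finrank_span_root_le_finrank_range [Fintype ι] [Module.Finite ℤ N] :
    Module.finrank ℤ (Submodule.span ℤ (Set.range P.root)) ≤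
      Module.finrank ℤ (LinearMap.range P.Polarization) := by
  let f : Submodule.span ℤ (Set.range P.root) →ₗ[ℤ] LinearMap.range P.Polarization :=
    (P.Polarization.rangeRestrict).comp (Submodule.subtype _)
  have hf : Function.Injective f := by
    rw [← LinearMap.ker_eq_bot, LinearMap.ker_eq_bot']
    intro x hx
    have h1 : P.Polarization (x : M) = 0 := congrArg Subtype.val hx
    exact Subtype.ext (eq_zero_of_polarization_eq_zero x.2 h1)
  exact LinearMap.finrank_le_finrank_of_injective hf

lemma finrank_span_root_le [Fintype ι] [Module.Finite ℤ N] :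
    Module.finrank ℤ (Submodule.span ℤ (Set.range P.root)) ≤
      Module.finrank ℤ (Submodule.span ℤ (Set.range P.coroot)) :=
  finrank_span_root_le_finrank_range.trans (Submodule.finrank_mono range_polarization_le)

lemma finrank_span_coroot_eq [Fintype ι] [Module.Finite ℤ M] [Module.Finite ℤ N] :
    Module.finrank ℤ (Submodule.span ℤ (Set.range P.coroot)) =
      Module.finrank ℤ (Submodule.span ℤ (Set.range P.root)) :=
  le_antisymm (finrank_span_root_le (P := P.flip)) finrank_span_root_le

lemma finrank_range_polarization [Fintype ι] [Module.Finite ℤ M] [Module.Finite ℤ N] :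
    Module.finrank ℤ (LinearMap.range P.Polarization) =
      Module.finrank ℤ (Submodule.span ℤ (Set.range P.root)) :=
  le_antisymm ((Submodule.finrank_mono range_polarization_le).trans finrank_span_coroot_eq.le)
    finrank_span_root_le_finrank_range

/-- The rank of the coradical lattice plus the semisimple rank is the rank. -/
theorem finrank_iInf_ker_coroot'_add [Finite ι] [Module.Finite ℤ M] [Module.Finite ℤ N] :
    Module.finrank ℤ (⨅ i : ι, LinearMap.ker (P.coroot' i) : Submodule ℤ M) +
      Module.finrank ℤ (Submodule.span ℤ (Set.range P.root)) = Module.finrank ℤ M := by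
  cases nonempty_fintype ι
  rw [iInf_ker_coroot'_eq_ker_polarization, ← finrank_range_polarization,
    ← (LinearMap.quotKerEquivRange P.Polarization).finrank_eq, add_comm]
  exact Submodule.finrank_quotient_add_finrank _

lemma finrank_eq [Finite ι] [Module.Finite ℤ M] [Module.Finite ℤ N] (P : RootPairing ι ℤ M N) :
    Module.finrank ℤ N = Module.finrank ℤ M := by
  have := isTorsionFree P
  have hfree : Module.Free ℤ M := Module.free_of_finite_type_torsion_free'
  let b := Module.Free.chooseBasis ℤ M
  rw [(P.flip.toPerfPair).finrank_eq, ← b.toDualEquiv.finrank_eq]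

/-- The rank of the radical lattice plus the semisimple rank is the rank. -/
theorem finrank_iInf_ker_root'_add [Finite ι] [Module.Finite ℤ M] [Module.Finite ℤ N] :
    Module.finrank ℤ (⨅ i : ι, LinearMap.ker (P.root' i) : Submodule ℤ N) +
      Module.finrank ℤ (Submodule.span ℤ (Set.range P.root)) = Module.finrank ℤ M := by
  cases nonempty_fintype ι
  have h := finrank_iInf_ker_coroot'_add (P := P.flip)
  rw [finrank_eq P] at h
  rw [← finrank_span_coroot_eq]
  exact h

lemma finrank_eq_zero_iff {G : Type*} [AddCommGroup G] [Module.Finite ℤ G]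
    [Module.IsTorsionFree ℤ G] (S : Submodule ℤ G) : Module.finrank ℤ S = 0 ↔ S = ⊥ :=
  Submodule.finrank_eq_zero

end Groth.Agent.Lib.RootDRank_helper8
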