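import Groth.Agent.Lib.RootDSat_helper8

set_option autoImplicit false

/-!
# Simple systems containing a given indivisible root and adapted to a second root (helper8)
-/

namespace Groth.Agent.Lib.RootDSat2_helper8

open RootD Set RootPairing Groth.Agent.Lib.RootD_helper8 Groth.Agent.Lib.RootDPos_helper8
  Groth.Agent.Lib.RootDProp_helper8
  Groth.Agent.Lib.RootDForm_helper8 Groth.Agent.Lib.RootDLen_helper8
  Groth.Agent.Lib.RootDDual_helper8 Groth.Agent.Lib.RootDCartan_helper8
  Groth.Agent.Lib.RootDWeyl_helper8 Groth.Agent.Lib.RootDPar_helper8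
  Groth.Agent.Lib.RootDIrr_helper8 Groth.Agent.Lib.RootDCone_helper8
  Groth.Agent.Lib.RootDSat_helper8

variable {ι M N : Type*} [AddCommGroup M] [AddCommGroup N] {P : RootPairing ι ℤ M N}

/-- Lexicographic combination of two coweights. -/
lemma exists_lex [Finite ι] (P : RootPairing ι ℤ M N) (n n' : N) :
    ∃ B : ℤ, 0 < B ∧ ∀ k : ι,
      (0 < P.toLinearMap (P.root k) n → 0 < P.toLinearMap (P.root k) (B • n + n')) ∧
      (P.toLinearMap (P.root k) n < 0 → P.toLinearMap (P.root k) (B • n + n') < 0) ∧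
      (P.toLinearMap (P.root k) n = 0 →
        P.toLinearMap (P.root k) (B • n + n') = P.toLinearMap (P.root k) n') := by
  classical
  cases nonempty_fintype ι
  set b : ι → ℤ := fun k => P.toLinearMap (P.root k) n' with hb
  set B : ℤ := 1 + ∑ k, |b k| with hB
  have hBk : ∀ k, |b k| < B := by
    intro k
    have : |b k| ≤ ∑ k, |b k| :=
      Finset.single_le_sum (f := fun k => |b k|) (fun _ _ => abs_nonneg _) (Finset.mem_univ k)
    omega
  have hB0 : 0 < B := by
    have : 0 ≤ ∑ k, |b k| := Finset.sum_nonneg fun _ _ => abs_nonneg _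
    omega
  refine ⟨B, hB0, fun k => ?_⟩
  have hval : P.toLinearMap (P.root k) (B • n + n') = B * P.toLinearMap (P.root k) n + b k := by
    simp [b]
  have h1 := abs_lt.mp (hBk k)
  refine ⟨fun h => ?_, fun h => ?_, fun h => ?_⟩
  · rw [hval]
    have : B ≤ B * P.toLinearMap (P.root k) n := by nlinarith
    omega
  · rw [hval]
    have : B * P.toLinearMap (P.root k) n ≤ -B := by nlinarith
    omega
  · rw [hval, h, mul_zero, zero_add]

/-- A root proportional to an indivisible root is `±1` or `±2` times it. -/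
lemma eq_smul_of_smul_eq_smul [Finite ι] {i j : ι} (hind : IsIndiv P i) {t x : ℤ} (ht : t ≠ 0)
    (h : t • P.root j = x • P.root i) :
    ∃ s : ℤ, (s = 1 ∨ s = -1 ∨ s = 2 ∨ s = -2) ∧ P.root j = s • P.root i := by
  obtain ⟨s, rfl⟩ := dvd_of_smul_eq_smul_of_isIndiv hind ht h
  rw [mul_smul] at h
  have h1 := smul_right_cancel P ht h
  exact ⟨s, eq_of_root_eq_smul h1, h1⟩

/-- SGA3 XXI 3.4.?: a simple system containing an indivisible root and adapted to a second root. -/
theorem exists_isSimpleSys_pair [Finite ι] (i k : ι) (hα : IsIndiv P i)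
    (hli : LinearIndependent ℤ ![P.root i, P.root k]) :
    ∃ Δ : Set ι, IsSimpleSys P Δ ∧ i ∈ Δ ∧
      ∃ j ∈ Δ, ∃ a b : ℕ, P.root k = a • P.root i + b • P.root j := by
  classical
  have htf := isTorsionFree P
  rw [LinearIndependent.pair_iff] at hli
  set L : Submodule ℤ M := Submodule.span ℤ {P.root i, P.root k} with hL
  have hLi : P.root i ∈ L := Submodule.subset_span (by simp)
  have hLk : P.root k ∈ L := Submodule.subset_span (by simp)
  set R' : Set ι := {j | P.root j ∈ sat L} with hR'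
  have hiR : i ∈ R' := le_sat _ hLi
  have hkR : k ∈ R' := le_sat _ hLk
  have hsat : ∀ j : ι, P.root j ∈ sat (Submodule.span ℤ (P.root '' R')) → j ∈ R' := by
    intro j hj
    have : Submodule.span ℤ (P.root '' R') ≤ sat L := by
      rw [Submodule.span_le]
      rintro - ⟨r, hr, rfl⟩
      exact hr
    exact sat_le_sat_of_le_sat this hj
  obtain ⟨n₀, hn01, hn02⟩ := exists_coweight_of_sat R' hsat
  have hR'mem : ∀ j, P.toLinearMap (P.root j) n₀ = 0 → j ∈ R' := by
    intro j hj
    by_contra hjR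
    exact hn02 j hjR hj
  -- a coweight vanishing on `α` but not on `γ`
  obtain ⟨n₁, hn1i, hn1k⟩ : ∃ n₁ : N, P.toLinearMap (P.root i) n₁ = 0 ∧
      0 < P.toLinearMap (P.root k) n₁ := by
    have hk : P.root k ∉ sat (Submodule.span ℤ (P.root '' {i})) := by
      rintro ⟨n, hn, hnk⟩
      rw [Set.image_singleton, Submodule.mem_span_singleton] at hnk
      obtain ⟨x, hx⟩ := hnk
      have := hli x (-(n : ℤ)) (by rw [hx, neg_smul, natCast_zsmul, add_neg_cancel])
      omega
    obtain ⟨m, hm1, hm2⟩ := exists_coweight_separating {i} hk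
    rcases lt_or_gt_of_ne hm2 with h | h
    · refine ⟨-m, ?_, ?_⟩
      · rw [map_neg, hm1 i rfl, neg_zero]
      · rw [map_neg]; omega
    · exact ⟨m, hm1 i rfl, h⟩
  -- roots of `R'` killed by `n₁` are proportional to `α`
  have hF : ∀ j ∈ R', P.toLinearMap (P.root j) n₁ = 0 →
      ∃ s : ℤ, (s = 1 ∨ s = -1 ∨ s = 2 ∨ s = -2) ∧ P.root j = s • P.root i := by
    rintro j ⟨t, ht, htj⟩ hj
    rw [hL, Submodule.mem_span_pair] at htj
    obtain ⟨x, y, hxy⟩ := htj
    have h1 := congrArg (fun z => P.toLinearMap z n₁) hxy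
    simp only [map_add, map_smul, LinearMap.add_apply, LinearMap.smul_apply, smul_eq_mul,
      hn1i, hj, mul_zero, zero_add, map_nsmul, smul_zero] at h1
    have hy : y = 0 := by
      rcases mul_eq_zero.mp h1 with h | h
      · exact h
      · omega
    rw [hy, zero_smul, add_zero] at hxy
    have h2 : (t : ℤ) • P.root j = x • P.root i := by rw [natCast_zsmul, hxy]
    exact eq_smul_of_smul_eq_smul hα (by exact_mod_cast ht.ne') h2
  obtain ⟨B₂, -, hB₂⟩ := exists_lex P n₁ (P.coroot i)
  set m₁ : N := B₂ • n₁ + P.coroot i with hm₁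
  obtain ⟨B₁, -, hB₁⟩ := exists_lex P n₀ m₁
  set m : N := B₁ • n₀ + m₁ with hm
  have hpair : ∀ j, P.toLinearMap (P.root j) (P.coroot i) = P.pairing j i := fun j => rfl
  -- regularity
  have hreg : ∀ j, P.toLinearMap (P.root j) m ≠ 0 := by
    intro j
    obtain ⟨h1, h2, h3⟩ := hB₁ j
    obtain ⟨h1', h2', h3'⟩ := hB₂ j
    rcases lt_trichotomy (P.toLinearMap (P.root j) n₀) 0 with h | h | h
    · exact (h2 h).ne
    · rw [h3 h]
      rcases lt_trichotomy (P.toLinearMap (P.root j) n₁) 0 with h' | h' | h'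
      · exact (h2' h').ne
      · rw [h3' h', hpair]
        obtain ⟨s, hs, hsj⟩ := hF j (hR'mem j h) h'
        have h4 : P.pairing j i = 2 * s := by
          rw [← hpair, hsj, map_smul, LinearMap.smul_apply, hpair, P.pairing_same, smul_eq_mul,
            mul_comm]
        rw [h4]
        omega
      · exact (h1' h').ne'
    · exact (h1 h).ne'
  have hpos := isPosSys_of_coweight P m hreg
  obtain ⟨Δ, hΔ, hΔS, hSΔ⟩ := exists_isSimpleSys_of_isPosSys hpos
  -- lexicographic consequences of positivity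
  have hlex : ∀ j, 0 < P.toLinearMap (P.root j) m →
      0 ≤ P.toLinearMap (P.root j) n₀ ∧ (P.toLinearMap (P.root j) n₀ = 0 →
        0 ≤ P.toLinearMap (P.root j) n₁ ∧ (P.toLinearMap (P.root j) n₁ = 0 →
          0 < P.pairing j i)) := by
    intro j hj
    obtain ⟨h1, h2, h3⟩ := hB₁ j
    obtain ⟨h1', h2', h3'⟩ := hB₂ j
    refine ⟨?_, fun h0 => ⟨?_, fun h0' => ?_⟩⟩
    · by_contra h
      have := h2 (by omega)
      omega
    · rw [h3 h0] at hj
      by_contra h
      have := h2' (by omega)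
      omega
    · rw [h3 h0, h3' h0', hpair] at hj
      exact hj
  have hposS : ∀ j ∈ posOf P Δ, 0 < P.toLinearMap (P.root j) m := fun j hj => by
    have : j ∈ {i : ι | 0 < P.toLinearMap (P.root i) m} := hSΔ ▸ hj
    exact this
  -- `α` is positive and simple
  have hiS : 0 < P.toLinearMap (P.root i) m := by
    obtain ⟨-, -, h3⟩ := hB₁ i
    obtain ⟨-, -, h3'⟩ := hB₂ i
    rw [h3 (hn01 i hiR), h3' hn1i, hpair, P.pairing_same]
    norm_num
  have hiΔ : i ∈ Δ := by
    by_contra hiΔ
    have hipos : i ∈ posOf P Δ := by rw [← hSΔ]; exact hiS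
    obtain ⟨j, hj, l, hl, hsum, -⟩ := exists_sub_simple hΔ hipos hiΔ
    have hjm := hposS j (subset_posOf hj)
    have hlm := hposS l hl
    obtain ⟨hj0, hj1⟩ := hlex j hjm
    obtain ⟨hl0, hl1⟩ := hlex l hlm
    have e0 : P.toLinearMap (P.root i) n₀ = P.toLinearMap (P.root l) n₀ +
        P.toLinearMap (P.root j) n₀ := by rw [hsum, map_add, LinearMap.add_apply]
    rw [hn01 i hiR] at e0
    obtain ⟨hj2, hj3⟩ := hj1 (by omega)
    obtain ⟨hl2, hl3⟩ := hl1 (by omega)
    have e1 : P.toLinearMap (P.root i) n₁ = P.toLinearMap (P.root l) n₁ +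
        P.toLinearMap (P.root j) n₁ := by rw [hsum, map_add, LinearMap.add_apply]
    rw [hn1i] at e1
    have hj4 := hj3 (by omega)
    have hl4 := hl3 (by omega)
    obtain ⟨s, hs, hsj⟩ := hF j (hR'mem j (by omega)) (by omega)
    obtain ⟨s', hs', hsl⟩ := hF l (hR'mem l (by omega)) (by omega)
    have h4 : P.pairing j i = 2 * s := by
      rw [← hpair, hsj, map_smul, LinearMap.smul_apply, hpair, P.pairing_same, smul_eq_mul,
        mul_comm]
    have h5 : P.pairing l i = 2 * s' := by
      rw [← hpair, hsl, map_smul, LinearMap.smul_apply, hpair, P.pairing_same, smul_eq_mul,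
        mul_comm]
    have h6 : (s' + s - 1) • P.root i = 0 := by
      rw [sub_smul, add_smul, one_smul, ← hsl, ← hsj, ← hsum, sub_self]
    rcases smul_eq_zero.mp h6 with h | h
    · omega
    · exact P.ne_zero i h
  -- `γ` is positive
  have hkS : 0 < P.toLinearMap (P.root k) m := by
    obtain ⟨-, -, h3⟩ := hB₁ k
    obtain ⟨h1', -, -⟩ := hB₂ k
    rw [h3 (hn01 k hkR)]
    exact h1' hn1k
  have hkpos : k ∈ posOf P Δ := by rw [← hSΔ]; exact hkS
  have hc0 := (mem_posOf_iff hΔ k).mp hkpos
  -- the support of `γ` lies in `R'`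
  have hsupp : ∀ δ, coeff hΔ k δ ≠ 0 → δ ∈ Δ ∧ δ ∈ R' := by
    intro δ hδ
    have hδs : δ ∈ (coeff hΔ k).support := by simpa using hδ
    have hδΔ : δ ∈ Δ := support_coeff hΔ k hδs
    refine ⟨hδΔ, ?_⟩
    have h1 : P.toLinearMap (P.root k) n₀ =
        (coeff hΔ k).sum fun δ c => c * P.toLinearMap (P.root δ) n₀ := by
      conv_lhs => rw [← linearCombination_coeff hΔ k]
      rw [Finsupp.linearCombination_apply, Finsupp.sum, map_sum, LinearMap.sum_apply,
        Finsupp.sum]
      refine Finset.sum_congr rfl fun δ _ => ?_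
      rw [map_smul, LinearMap.smul_apply, smul_eq_mul]
    rw [hn01 k hkR, Finsupp.sum] at h1
    have h2 : ∀ δ ∈ (coeff hΔ k).support, 0 ≤ coeff hΔ k δ * P.toLinearMap (P.root δ) n₀ := by
      intro δ hδ
      exact mul_nonneg (hc0 δ)
        (hlex δ (hposS δ (subset_posOf (support_coeff hΔ k hδ)))).1
    have h3 := (Finset.sum_eq_zero_iff_of_nonneg h2).mp h1.symm δ hδs
    rcases mul_eq_zero.mp h3 with h | h
    · exact absurd h hδ
    · exact hR'mem δ h
  -- at most two simple roots lie in `R'`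
  have hcard : ∀ j₁ j₂, j₁ ∈ Δ → j₁ ∈ R' → j₂ ∈ Δ → j₂ ∈ R' → j₁ ≠ i → j₂ ≠ i → j₁ = j₂ := by
    intro j₁ j₂ hj₁Δ hj₁R hj₂Δ hj₂R hj₁i hj₂i
    by_contra hne
    obtain ⟨t₀, ht₀, hti⟩ := hiR
    obtain ⟨t₁, ht₁, htj₁⟩ := hj₁R
    obtain ⟨t₂, ht₂, htj₂⟩ := hj₂R
    let g : Fin 3 → Δ := ![⟨i, hiΔ⟩, ⟨j₁, hj₁Δ⟩, ⟨j₂, hj₂Δ⟩]
    have hg : Function.Injective g := by
      intro a b hab
      fin_cases a <;> fin_cases b <;> simp [g, Subtype.ext_iff] at hab ⊢ <;>
        first | exact absurd hab hj₁i | exact absurd hab.symm hj₁i | exact absurd hab hj₂i |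
          exact absurd hab.symm hj₂i | exact absurd hab hne | exact absurd hab.symm hne
    have hlin : LinearIndependent ℤ (fun a : Fin 3 => P.root (g a : ι)) :=
      (hΔ.linInd : LinearIndependent ℤ (fun x : Δ => P.root (x : ι))).comp g hg
    let t : Fin 3 → ℕ := ![t₀, t₁, t₂]
    have htpos : ∀ a, 0 < t a := by
      intro a; fin_cases a <;> simp [t] <;> assumption
    have htL : ∀ a, t a • P.root (g a : ι) ∈ L := by
      intro a; fin_cases a <;> simp [t, g] <;> assumption
    let w : Fin 3 → L := fun a => ⟨t a • P.root (g a : ι), htL a⟩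
    have hw : LinearIndependent ℤ w := by
      apply LinearIndependent.of_comp L.subtype
      refine linearIndependent_of_smul_eq_smul (fun a => (t a : ℤ)) (fun _ => (1 : ℤ))
        (fun a => by exact_mod_cast (htpos a).ne') (fun _ => one_ne_zero) ?_ hlin
      intro a
      simp [w]
    have hfin : Module.Finite ℤ L := by
      rw [hL]
      exact Module.Finite.span_of_finite ℤ (by simp)
    have h1 := hw.fintype_card_le_finrank
    have h2 : Module.finrank ℤ L ≤ 2 := by
      have := finrank_span_finset_le_card (R := ℤ) ({P.root i, P.root k} : Finset M)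
      have hcoe : ((({P.root i, P.root k} : Finset M)) : Set M) = {P.root i, P.root k} := by
        simp
      rw [Set.finrank, hcoe] at this
      exact this.trans Finset.card_le_two
    simp only [Fintype.card_fin] at h1
    omega
  -- conclusion
  by_cases hex : ∃ j, j ≠ i ∧ coeff hΔ k j ≠ 0
  · obtain ⟨j, hji, hcj⟩ := hex
    obtain ⟨hjΔ, hjR⟩ := hsupp j hcj
    refine ⟨Δ, hΔ, hiΔ, j, hjΔ, (coeff hΔ k i).toNat, (coeff hΔ k j).toNat, ?_⟩
    have hc : coeff hΔ k = Finsupp.single i (coeff hΔ k i) + Finsupp.single j (coeff hΔ k j) := by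
      ext δ
      simp only [Finsupp.coe_add, Pi.add_apply, Finsupp.single_apply]
      by_cases h1 : i = δ
      · subst h1
        rw [if_pos rfl, if_neg hji, add_zero]
      · by_cases h2 : j = δ
        · subst h2
          rw [if_neg h1, if_pos rfl, zero_add]
        · rw [if_neg h1, if_neg h2, add_zero]
          by_contra hne
          obtain ⟨hδΔ, hδR⟩ := hsupp δ hne
          exact h2 (hcard δ j hδΔ hδR hjΔ hjR (Ne.symm h1) hji).symm
    conv_lhs => rw [← linearCombination_coeff hΔ k, hc]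
    rw [map_add, Finsupp.linearCombination_single, Finsupp.linearCombination_single,
      ← natCast_zsmul, ← natCast_zsmul, Int.toNat_of_nonneg (hc0 i), Int.toNat_of_nonneg (hc0 j)]
  · exfalso
    push Not at hex
    have h1 := root_eq_smul_of_coeff_eq_zero hΔ hex
    have := hli (coeff hΔ k i) (-1) (by rw [neg_smul, one_smul, ← h1, add_neg_cancel])
    omega

end Groth.Agent.Lib.RootDSat2_helper8
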