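import Groth.Agent.Lib.RootDCartan_helper8
import Groth.Agent.Lib.RootDIrr_helper8

set_option autoImplicit false

/-!
# Saturated sets of roots and coweights adapted to them (helper8)
-/

namespace Groth.Agent.Lib.RootDSat_helper8

open RootD Set RootPairing Groth.Agent.Lib.RootD_helper8 Groth.Agent.Lib.RootDPos_helper8
  Groth.Agent.Lib.RootDProp_helper8
  Groth.Agent.Lib.RootDForm_helper8 Groth.Agent.Lib.RootDLen_helper8
  Groth.Agent.Lib.RootDDual_helper8 Groth.Agent.Lib.RootDCartan_helper8
  Groth.Agent.Lib.RootDWeyl_helper8 Groth.Agent.Lib.RootDPar_helper8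
  Groth.Agent.Lib.RootDIrr_helper8 Groth.Agent.Lib.RootDCone_helper8

variable {ι M N : Type*} [AddCommGroup M] [AddCommGroup N] {P : RootPairing ι ℤ M N}

/-- The saturation of a subgroup: the elements with a positive multiple in it. -/
def sat (L : Submodule ℤ M) : Submodule ℤ M where
  carrier := {x | ∃ n : ℕ, 0 < n ∧ n • x ∈ L}
  add_mem' := by
    rintro x y ⟨n, hn, hx⟩ ⟨m, hm, hy⟩
    refine ⟨n * m, Nat.mul_pos hn hm, ?_⟩
    rw [smul_add]
    refine add_mem ?_ ?_
    · rw [mul_comm, mul_nsmul']; exact L.smul_of_tower_mem m hx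
    · rw [mul_nsmul']; exact L.smul_of_tower_mem n hy
  zero_mem' := ⟨1, one_pos, by simp⟩
  smul_mem' := by
    rintro a x ⟨n, hn, hx⟩
    refine ⟨n, hn, ?_⟩
    rw [smul_comm]
    exact L.smul_mem a hx

lemma mem_sat {L : Submodule ℤ M} {x : M} : x ∈ sat L ↔ ∃ n : ℕ, 0 < n ∧ n • x ∈ L := Iff.rfl

lemma le_sat (L : Submodule ℤ M) : L ≤ sat L := fun x hx => ⟨1, one_pos, by rwa [one_smul]⟩

lemma sat_mono {L L' : Submodule ℤ M} (h : L ≤ L') : sat L ≤ sat L' :=
  fun _ ⟨n, hn, hx⟩ => ⟨n, hn, h hx⟩

lemma sat_sat (L : Submodule ℤ M) : sat (sat L) = sat L := by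
  apply le_antisymm
  · rintro x ⟨n, hn, m, hm, hx⟩
    exact ⟨m * n, Nat.mul_pos hm hn, by rwa [mul_nsmul']⟩
  · exact le_sat _

lemma sat_le_sat_of_le_sat {L L' : Submodule ℤ M} (h : L ≤ sat L') : sat L ≤ sat L' := by
  rw [← sat_sat L']
  exact sat_mono h

/-- Orthogonal projection onto the span of finitely many vectors, up to a positive integer. -/
lemma exists_orthogonal [Fintype ι] (s : Finset M)
    (hs : ∀ v ∈ s, v ∈ Submodule.span ℤ (Set.range P.root)) :
    ∀ x₀ ∈ Submodule.span ℤ (Set.range P.root), ∃ c : ℤ, 0 < c ∧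
      ∃ y ∈ Submodule.span ℤ (s : Set M), ∀ v ∈ s, P.RootForm (c • x₀ - y) v = 0 := by
  classical
  induction s using Finset.induction_on with
  | empty =>
    intro x₀ _
    exact ⟨1, one_pos, 0, zero_mem _, by simp⟩
  | insert v s hv ih =>
    have hs' : ∀ w ∈ s, w ∈ Submodule.span ℤ (Set.range P.root) :=
      fun w hw => hs w (Finset.mem_insert_of_mem hw)
    have hvL : v ∈ Submodule.span ℤ (Set.range P.root) := hs v (Finset.mem_insert_self v s)
    have hsL : Submodule.span ℤ (s : Set M) ≤ Submodule.span ℤ (Set.range P.root) :=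
      Submodule.span_le.mpr fun w hw => hs' w hw
    have hsub : Submodule.span ℤ (s : Set M) ≤ Submodule.span ℤ ((insert v s : Finset M) : Set M) :=
      Submodule.span_mono (by simp)
    have hvmem : v ∈ Submodule.span ℤ ((insert v s : Finset M) : Set M) :=
      Submodule.subset_span (by simp)
    -- orthogonality to `s` extends to its span
    have hspan : ∀ z : M, (∀ w ∈ s, P.RootForm z w = 0) →
        ∀ y ∈ Submodule.span ℤ (s : Set M), P.RootForm z y = 0 := by
      intro z hz y hy
      have : Submodule.span ℤ (s : Set M) ≤ LinearMap.ker (P.RootForm z) :=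
        Submodule.span_le.mpr fun w hw => hz w hw
      exact this hy
    intro x₀ hx₀
    obtain ⟨c₁, hc₁, y₁, hy₁, h₁⟩ := ih hs' x₀ hx₀
    obtain ⟨c₂, hc₂, y₂, hy₂, h₂⟩ := ih hs' v hvL
    set z := c₁ • x₀ - y₁ with hz
    set v' := c₂ • v - y₂ with hv'
    have hv'L : v' ∈ Submodule.span ℤ (Set.range P.root) :=
      sub_mem (Submodule.smul_mem _ _ hvL) (hsL hy₂)
    by_cases h0 : v' = 0
    · refine ⟨c₁, hc₁, y₁, hsub hy₁, ?_⟩
      intro w hw
      rcases Finset.mem_insert.mp hw with rfl | hw
      · have h3 : c₂ • w = y₂ := sub_eq_zero.mp h0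
        have h4 : c₂ * P.RootForm z w = 0 := by
          rw [← smul_eq_mul, ← map_smul, h3]
          exact hspan z h₁ y₂ hy₂
        rcases mul_eq_zero.mp h4 with h5 | h5
        · omega
        · exact h5
      · exact h₁ w hw
    · have hb : 0 < P.RootForm v' v' := rootForm_pos_of_mem_span hv'L h0
      set b := P.RootForm v' v' with hbdef
      set t := P.RootForm z v' with ht
      refine ⟨b * c₁, mul_pos hb hc₁, b • y₁ + t • v', ?_, ?_⟩
      · refine add_mem (Submodule.smul_mem _ _ (hsub hy₁)) (Submodule.smul_mem _ _ ?_)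
        exact sub_mem (Submodule.smul_mem _ _ hvmem) (hsub hy₂)
      · have hz' : (b * c₁) • x₀ - (b • y₁ + t • v') = b • z - t • v' := by
          rw [hz, hv']; module
        rw [hz']
        have hperp : ∀ w ∈ s, P.RootForm (b • z - t • v') w = 0 := by
          intro w hw
          simp only [map_sub, map_smul, LinearMap.sub_apply, LinearMap.smul_apply, smul_eq_mul]
          rw [h₁ w hw, h₂ w hw]
          ring
        intro w hw
        rcases Finset.mem_insert.mp hw with rfl | hw
        · have h3 : c₂ • w = v' + y₂ := by rw [hv']; abel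
          have h4 : c₂ * P.RootForm (b • z - t • v') w = 0 := by
            rw [← smul_eq_mul, ← map_smul, h3, map_add, hspan _ hperp y₂ hy₂, add_zero]
            simp only [map_sub, map_smul, LinearMap.sub_apply, LinearMap.smul_apply, smul_eq_mul]
            rw [← ht, ← hbdef]
            ring
          rcases mul_eq_zero.mp h4 with h5 | h5
          · omega
          · exact h5
        · exact hperp w hw

/-- A coweight killing a set of roots but not a given root outside its saturation. -/
lemma exists_coweight_separating [Finite ι] (R' : Set ι) {j : ι}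
    (hj : P.root j ∉ sat (Submodule.span ℤ (P.root '' R'))) :
    ∃ m : N, (∀ k ∈ R', P.toLinearMap (P.root k) m = 0) ∧ P.toLinearMap (P.root j) m ≠ 0 := by
  classical
  cases nonempty_fintype ι
  set s : Finset M := (Finset.univ.filter (· ∈ R')).image P.root with hs
  have hs_coe : (s : Set M) = P.root '' R' := by
    ext x
    simp [hs]
  have hsL : ∀ v ∈ s, v ∈ Submodule.span ℤ (Set.range P.root) := by
    intro v hv
    rw [hs, Finset.mem_image] at hv
    obtain ⟨k, -, rfl⟩ := hv
    exact Submodule.subset_span ⟨k, rfl⟩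
  obtain ⟨c, hc, y, hy, hperp⟩ := exists_orthogonal s hsL (P.root j)
    (Submodule.subset_span ⟨j, rfl⟩)
  rw [hs_coe] at hy
  set x := c • P.root j - y with hx
  have hxL : x ∈ Submodule.span ℤ (Set.range P.root) := by
    refine sub_mem (Submodule.smul_mem _ _ (Submodule.subset_span ⟨j, rfl⟩)) ?_
    exact Submodule.span_mono (Set.image_subset_range _ _) hy
  have hx0 : x ≠ 0 := by
    intro h0
    apply hj
    refine ⟨c.toNat, by omega, ?_⟩
    rw [← natCast_zsmul, Int.toNat_of_nonneg hc.le, sub_eq_zero.mp h0]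
    exact hy
  refine ⟨P.Polarization x, ?_, ?_⟩
  · intro k hk
    rw [toLinearMap_apply_apply_Polarization]
    apply hperp
    rw [hs, Finset.mem_image]
    exact ⟨k, by simpa using hk, rfl⟩
  · rw [toLinearMap_apply_apply_Polarization]
    intro h0
    have hxy : P.RootForm x y = 0 := by
      have : Submodule.span ℤ (P.root '' R') ≤ LinearMap.ker (P.RootForm x) := by
        rw [Submodule.span_le]
        rintro - ⟨k, hk, rfl⟩
        apply hperp
        rw [hs, Finset.mem_image]
        exact ⟨k, by simpa using hk, rfl⟩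
      exact this hy
    have h1 : P.RootForm x x = 0 := by
      have : x = c • P.root j - y := hx
      conv_lhs => rw [this]
      rw [map_sub, map_smul, h0, hxy]
      simp
    have := rootForm_pos_of_mem_span hxL hx0
    omega

/-- SGA3 XXI 3.4: for a saturated set of roots `R'` there is a coweight whose kernel on the roots is
exactly `R'`. -/
lemma exists_coweight_of_sat [Finite ι] (R' : Set ι)
    (hsat : ∀ k : ι, P.root k ∈ sat (Submodule.span ℤ (P.root '' R')) → k ∈ R') :
    ∃ n : N, (∀ k ∈ R', P.toLinearMap (P.root k) n = 0) ∧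
      ∀ k, k ∉ R' → P.toLinearMap (P.root k) n ≠ 0 := by
  classical
  cases nonempty_fintype ι
  suffices h : ∀ s : Finset ι, (∀ i ∈ s, i ∉ R') →
      ∃ n : N, (∀ k ∈ R', P.toLinearMap (P.root k) n = 0) ∧
        ∀ i ∈ s, P.toLinearMap (P.root i) n ≠ 0 by
    obtain ⟨n, hn1, hn2⟩ := h (Finset.univ.filter (· ∉ R')) (by simp)
    exact ⟨n, hn1, fun k hk => hn2 k (by simpa using hk)⟩
  intro s
  induction s using Finset.induction_on with
  | empty => exact fun _ => ⟨0, by simp, by simp⟩
  | insert j s _ ih =>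
    intro hjs
    obtain ⟨n, hn1, hn2⟩ := ih fun i hi => hjs i (Finset.mem_insert_of_mem hi)
    have hjR : j ∉ R' := hjs j (Finset.mem_insert_self j s)
    obtain ⟨m, hm1, hm2⟩ := exists_coweight_separating R' (fun h => hjR (hsat j h))
    let a : ι → ℤ := fun i => P.toLinearMap (P.root i) n
    let b : ι → ℤ := fun i => P.toLinearMap (P.root i) m
    let bad : Finset ℤ := (insert j s).image fun i => -b i / a i
    obtain ⟨t, ht⟩ := Infinite.exists_notMem_finset bad
    refine ⟨t • n + m, fun k hk => ?_, fun i hi => ?_⟩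
    · rw [map_add, map_smul, hn1 k hk, hm1 k hk]; simp
    · have hval : P.toLinearMap (P.root i) (t • n + m) = t * a i + b i := by
        simp [a, b]
      rw [hval]
      intro h0
      have hb : b i = -(t * a i) := by omega
      by_cases ha : a i = 0
      · rw [ha, mul_zero, neg_zero] at hb
        rcases Finset.mem_insert.mp hi with rfl | hi'
        · exact hm2 hb
        · exact hn2 i hi' ha
      · apply ht
        refine Finset.mem_image.mpr ⟨i, hi, ?_⟩
        rw [hb, neg_neg, Int.mul_ediv_cancel _ ha]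

/-- The positive system attached to a regular coweight. -/
lemma isPosSys_of_coweight (P : RootPairing ι ℤ M N) (n : N)
    (hn : ∀ i, P.toLinearMap (P.root i) n ≠ 0) :
    IsPosSys P {i : ι | 0 < P.toLinearMap (P.root i) n} := by
  refine ⟨?_, ?_, ?_⟩
  · intro i hi hi'
    simp only [Set.mem_ofPred_eq, root_neg, map_neg, LinearMap.neg_apply] at hi hi'
    omega
  · intro i
    simp only [Set.mem_ofPred_eq, root_neg, map_neg, LinearMap.neg_apply]
    have := hn i
    omega
  · intro k m hm hk
    have key : ∀ x ∈ natSpan P {i : ι | 0 < P.toLinearMap (P.root i) n},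
        0 ≤ P.toLinearMap x n := by
      intro x hx
      induction hx using AddSubmonoid.closure_induction with
      | mem x hx =>
        obtain ⟨i, hi, rfl⟩ := hx
        exact le_of_lt hi
      | zero => simp
      | add x y _ _ hx hy =>
        rw [map_add, LinearMap.add_apply]
        exact add_nonneg hx hy
    have h1 := key _ hk
    rw [map_nsmul, LinearMap.smul_apply] at h1
    have h2 := hn k
    simp only [Set.mem_ofPred_eq]
    by_contra hneg
    have h3 : P.toLinearMap (P.root k) n < 0 := by omega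
    have : (m : ℤ) • P.toLinearMap (P.root k) n < 0 := by
      rw [smul_eq_mul]
      exact mul_neg_of_pos_of_neg (by exact_mod_cast hm) h3
    rw [natCast_zsmul] at this
    omega


/-- SGA3 XXI 3.4.?: a simple system of a saturated set of roots extends to a simple system. -/
theorem exists_isSimpleSys_extending [Finite ι] (R' : Set ι)
    (hsat : ∀ k : ι, P.root k ∈ sat (Submodule.span ℤ (P.root '' R')) → k ∈ R')
    (Δ' : Set ι) (hΔ'R : Δ' ⊆ R') (hli : LinearIndepOn ℤ P.root Δ')
    (hgen : ∀ k ∈ R', P.root k ∈ natSpan P Δ' ∨ -P.root k ∈ natSpan P Δ') :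
    ∃ Δ : Set ι, IsSimpleSys P Δ ∧ Δ' ⊆ Δ ∧ R' = inSpan P Δ' ∧
      ∃ n : N, (∀ k ∈ R', P.toLinearMap (P.root k) n = 0) ∧
        (∀ k, k ∉ R' → P.toLinearMap (P.root k) n ≠ 0) ∧
        ∀ k ∈ posOf P Δ, 0 ≤ P.toLinearMap (P.root k) n := by
  classical
  obtain ⟨n₀, hn1, hn2⟩ := exists_coweight_of_sat R' hsat
  have hR'mem : ∀ k, P.toLinearMap (P.root k) n₀ = 0 → k ∈ R' := by
    intro k hk
    by_contra hkR
    exact hn2 k hkR hk
  have hsymm : ∀ k ∈ R', P.reflectionPerm k k ∈ R' := by
    intro k hk
    apply hR'mem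
    rw [root_neg, map_neg, LinearMap.neg_apply, hn1 k hk, neg_zero]
  have hspanle : Submodule.span ℤ (P.root '' Δ') ≤ Submodule.span ℤ (P.root '' R') :=
    Submodule.span_mono (Set.image_mono hΔ'R)
  have hnat_span : ∀ x ∈ natSpan P Δ', x ∈ Submodule.span ℤ (P.root '' Δ') := by
    intro x hx
    induction hx using AddSubmonoid.closure_induction with
    | mem x hx => exact Submodule.subset_span hx
    | zero => exact zero_mem _
    | add x y _ _ hx hy => exact add_mem hx hy
  have hnat_zero : ∀ x ∈ natSpan P Δ', P.toLinearMap x n₀ = 0 := by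
    intro x hx
    induction hx using AddSubmonoid.closure_induction with
    | mem x hx =>
      obtain ⟨k, hk, rfl⟩ := hx
      exact hn1 k (hΔ'R hk)
    | zero => simp
    | add x y _ _ hx hy => rw [map_add, LinearMap.add_apply, hx, hy, add_zero]
  set S : Set ι := {k | 0 < P.toLinearMap (P.root k) n₀} ∪
    {k | k ∈ R' ∧ P.root k ∈ natSpan P Δ'} with hS
  have hSnn : ∀ k ∈ S, 0 ≤ P.toLinearMap (P.root k) n₀ := by
    rintro k (hk | ⟨hk, -⟩)
    · exact le_of_lt hk
    · rw [hn1 k hk]
  have hSzero : ∀ k ∈ S, P.toLinearMap (P.root k) n₀ = 0 →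
      k ∈ R' ∧ P.root k ∈ natSpan P Δ' := by
    rintro k (hk | hk) h0
    · simp only [Set.mem_ofPred_eq] at hk; omega
    · exact hk
  have hpos : IsPosSys P S := by
    apply isPosSys_of_closed
    · rintro k (hk | ⟨hk, hk'⟩) hneg
      · have := hSnn _ hneg
        simp only [Set.mem_ofPred_eq] at hk
        rw [root_neg, map_neg, LinearMap.neg_apply] at this
        omega
      · have h0 : P.toLinearMap (P.root (P.reflectionPerm k k)) n₀ = 0 := by
          rw [root_neg, map_neg, LinearMap.neg_apply, hn1 k hk, neg_zero]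
        obtain ⟨-, h1⟩ := hSzero _ hneg h0
        rw [root_neg] at h1
        exact P.ne_zero k (eq_zero_of_mem_natSpan_of_neg_mem hli hk' h1)
    · intro k
      rcases lt_trichotomy (P.toLinearMap (P.root k) n₀) 0 with h | h | h
      · right; left
        simp only [Set.mem_ofPred_eq, root_neg, map_neg, LinearMap.neg_apply]
        omega
      · have hk := hR'mem k h
        rcases hgen k hk with h1 | h1
        · exact Or.inl (Or.inr ⟨hk, h1⟩)
        · exact Or.inr (Or.inr ⟨hsymm k hk, by rwa [root_neg]⟩)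
      · exact Or.inl (Or.inl h)
    · intro i j k hi hj hk
      have hi0 := hSnn i hi
      have hj0 := hSnn j hj
      have hsum : P.toLinearMap (P.root k) n₀ =
          P.toLinearMap (P.root i) n₀ + P.toLinearMap (P.root j) n₀ := by
        rw [hk, map_add, LinearMap.add_apply]
      by_cases hk0 : 0 < P.toLinearMap (P.root k) n₀
      · exact Or.inl hk0
      · have hi00 : P.toLinearMap (P.root i) n₀ = 0 := by omega
        have hj00 : P.toLinearMap (P.root j) n₀ = 0 := by omega
        obtain ⟨-, hi1⟩ := hSzero i hi hi00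
        obtain ⟨-, hj1⟩ := hSzero j hj hj00
        refine Or.inr ⟨hR'mem k (by omega), ?_⟩
        rw [hk]
        exact add_mem hi1 hj1
  obtain ⟨Δ, hΔ, hΔS, hSΔ⟩ := exists_isSimpleSys_of_isPosSys hpos
  have hΔ'Δ : Δ' ⊆ Δ := by
    intro δ hδ
    have hδS : δ ∈ S :=
      Or.inr ⟨hΔ'R hδ, AddSubmonoid.subset_closure (Set.mem_image_of_mem _ hδ)⟩
    by_contra hδΔ
    obtain ⟨j, hj, l, hl, hsum, -⟩ := exists_sub_simple hΔ (hSΔ ▸ hδS) hδΔ
    have hjS : j ∈ S := hSΔ ▸ subset_posOf hj
    have hlS : l ∈ S := hSΔ ▸ hl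
    have h0 : P.toLinearMap (P.root δ) n₀ = 0 := hn1 δ (hΔ'R hδ)
    rw [hsum, map_add, LinearMap.add_apply] at h0
    have hj0 := hSnn j hjS
    have hl0 := hSnn l hlS
    obtain ⟨-, hj1⟩ := hSzero j hjS (by omega)
    obtain ⟨-, hl1⟩ := hSzero l hlS (by omega)
    obtain ⟨c₁, hc₁, hc₁0, hc₁l⟩ := (mem_natSpan_iff P Δ' _).mp hl1
    obtain ⟨c₂, hc₂, hc₂0, hc₂j⟩ := (mem_natSpan_iff P Δ' _).mp hj1
    have heq : c₁ + c₂ = Finsupp.single δ 1 := by
      apply eq_of_linearCombination_eq hli
      · intro a ha
        rcases Finset.mem_union.mp (Finsupp.support_add ha) with h | h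
        · exact hc₁ h
        · exact hc₂ h
      · intro a ha
        have := Finsupp.support_single_subset ha
        have : a = δ := by simpa using this
        exact this ▸ hδ
      · rw [map_add, hc₁l, hc₂j, Finsupp.linearCombination_single, one_smul, hsum]
    -- one of the two vanishes
    have hc₁ne : c₁ ≠ 0 := by
      rintro rfl
      rw [map_zero] at hc₁l
      exact P.ne_zero l hc₁l.symm
    have hc₂ne : c₂ ≠ 0 := by
      rintro rfl
      rw [map_zero] at hc₂j
      exact P.ne_zero j hc₂j.symm
    obtain ⟨a, ha⟩ : ∃ a, c₁ a ≠ 0 := by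
      by_contra h; push Not at h; exact hc₁ne (Finsupp.ext h)
    obtain ⟨b, hb⟩ : ∃ b, c₂ b ≠ 0 := by
      by_contra h; push Not at h; exact hc₂ne (Finsupp.ext h)
    have h1 := DFunLike.congr_fun heq a
    have h2 := DFunLike.congr_fun heq b
    simp only [Finsupp.coe_add, Pi.add_apply, Finsupp.single_apply] at h1 h2
    have := hc₁0 a
    have := hc₁0 b
    have := hc₂0 a
    have := hc₂0 b
    by_cases hab : a = b
    · subst hab
      split_ifs at h1 <;> omega
    · split_ifs at h1 h2 <;> first | omega | (subst_vars; exact hab rfl)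
  have hR' : R' = inSpan P Δ' := by
    ext k
    constructor
    · intro hk
      rcases hgen k hk with h | h
      · exact hnat_span _ h
      · have := Submodule.neg_mem _ (hnat_span _ h)
        rw [neg_neg] at this
        exact this
    · intro hk
      apply hsat
      exact le_sat _ (hspanle hk)
  refine ⟨Δ, hΔ, hΔ'Δ, hR', n₀, hn1, hn2, fun k hk => hSnn k (hSΔ ▸ hk)⟩

end Groth.Agent.Lib.RootDSat_helper8
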