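import Groth.Agent.Lib.RootDWord_helper8

set_option autoImplicit false

/-!
# The subgroup generated by a subset of the simple reflections (helper8)
-/

namespace Groth.Agent.Lib.RootDSub_helper8

open RootD Set RootPairing Groth.Agent.Lib.RootD_helper8 Groth.Agent.Lib.RootDPos_helper8
  Groth.Agent.Lib.RootDWeyl_helper8 Groth.Agent.Lib.RootDPar_helper8
  Groth.Agent.Lib.RootDForm_helper8 Groth.Agent.Lib.RootDProp_helper8
  Groth.Agent.Lib.RootDGen_helper8 Groth.Agent.Lib.RootDWord_helper8

variable {ι M N : Type*} [AddCommGroup M] [AddCommGroup N] {P : RootPairing ι ℤ M N}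

/-- A positive root in the span of `Δ' ⊆ Δ` is a non-negative combination of `Δ'`. -/
lemma mem_natSpan_of_mem_inSpan {Δ Δ' : Set ι} (hΔ : IsSimpleSys P Δ) (hsub : Δ' ⊆ Δ) {k : ι}
    (hk : k ∈ posOf P Δ) (hk' : k ∈ inSpan P Δ') : P.root k ∈ natSpan P Δ' := by
  rw [mem_inSpan_iff hΔ hsub] at hk'
  rw [mem_natSpan_iff]
  refine ⟨coeff hΔ k, ?_, (mem_posOf_iff hΔ k).mp hk, linearCombination_coeff hΔ k⟩
  intro j hj
  by_contra hj'
  exact (by simpa using hj : coeff hΔ k j ≠ 0) (hk' j hj')

/-- Relative version of SGA3 XXI 3.3.6: if a closed set `P'` of roots containing each root or its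
opposite contains the positive roots outside the span of `Δ' ⊆ Δ`, then it contains the image of
the positive roots under an element of the group generated by the reflections in `Δ'`. -/
lemma exists_reflGroup_smul_posOf_subset [Finite ι] {Δ Δ' : Set ι} (hΔ : IsSimpleSys P Δ)
    (hsub : Δ' ⊆ Δ) {P' : Set ι}
    (hP2 : ∀ i : ι, i ∈ P' ∨ P.reflectionPerm i i ∈ P') (hcl : IsClosedSub P P')
    (hout : ∀ k ∈ posOf P Δ, k ∉ inSpan P Δ' → k ∈ P') :
    ∃ g ∈ reflGroup P Δ', (fun i : ι => g • i) '' posOf P Δ ⊆ P' := by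
  let D : P.Aut → Set ι := fun g => {k | k ∈ posOf P Δ ∧ g • k ∉ P'}
  suffices h : ∀ n : ℕ, ∀ g ∈ reflGroup P Δ', (D g).ncard = n → ∃ g' ∈ reflGroup P Δ', D g' = ∅ by
    obtain ⟨g, hg, hD⟩ := h _ 1 (one_mem _) rfl
    refine ⟨g, hg, ?_⟩
    rintro - ⟨k, hk, rfl⟩
    by_contra hk'
    have : k ∈ D g := ⟨hk, hk'⟩
    rw [hD] at this
    exact this
  intro n
  induction n using Nat.strong_induction_on with
  | _ n ih =>
    intro g hg hn
    by_cases hD : D g = ∅
    · exact ⟨g, hg, hD⟩
    obtain ⟨k, hk, hk'⟩ := Set.nonempty_iff_ne_empty.mpr hD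
    -- some simple root of `Δ'` is not sent into `P'`
    obtain ⟨i, hi, hgi⟩ : ∃ i ∈ Δ', g • i ∉ P' := by
      by_contra hcon
      push Not at hcon
      apply hk'
      by_cases hkin : k ∈ inSpan P Δ'
      · apply mem_of_mem_natSpan_of_closed hcl
        rw [root_smul]
        refine natSpan_mono ?_ (smul_mem_natSpan g (mem_natSpan_of_mem_inSpan hΔ hsub hk hkin))
        rintro - ⟨i, hi, rfl⟩
        exact hcon i hi
      · obtain ⟨h1, h2⟩ := smul_mem_posOf_of_mem_closure hΔ hsub hg k hk hkin
        exact hout _ h1 h2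
    have hiΔ : i ∈ Δ := hsub hi
    have hneg_gi : P.reflectionPerm (g • i) (g • i) ∈ P' := neg_mem_of_notMem hP2 hgi
    let g' : P.Aut := g * Equiv.reflection P i
    have hg' : g' ∈ reflGroup P Δ' := mul_mem hg (reflection_mem_reflGroup hi)
    have hg'k : ∀ k : ι, g' • k = g • (P.reflectionPerm i k) := fun k => by
      rw [mul_smul, reflection_smul_idx]
    have hiD : i ∈ D g := ⟨subset_posOf hiΔ, hgi⟩
    have hfin : (D g).Finite := Set.toFinite _
    have hmaps : ∀ k ∈ D g', P.reflectionPerm i k ∈ D g \ {i} := by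
      rintro k ⟨hkpos, hkP'⟩
      rw [hg'k] at hkP'
      have h1 : k ≠ i := by
        rintro rfl
        apply hkP'
        rw [smul_neg_idx]
        exact hneg_gi
      have h2 : P.root k ≠ (2 : ℤ) • P.root i := by
        intro h2
        have e1 : P.reflectionPerm i k = P.reflectionPerm k k := by
          apply P.root.injective
          rw [root_neg, P.root_reflectionPerm, h2, map_smul, P.reflection_apply_self]
          simp
        rw [e1, smul_neg_idx] at hkP'
        have hgk : g • k ∈ P' := by
          by_contra hgk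
          exact hkP' (neg_mem_of_notMem hP2 hgk)
        apply hgi
        refine hcl hgk hneg_gi ?_
        rw [root_neg, root_smul, root_smul, h2, smul_comm, two_smul]
        abel
      refine ⟨⟨reflectionPerm_mem_posOf' hΔ hiΔ hkpos h1 h2, hkP'⟩, ?_⟩
      intro h3
      have h4 : k = P.reflectionPerm i i := by
        rw [Set.mem_singleton_iff] at h3
        have h5 := P.reflectionPerm_self i k
        rw [h3] at h5
        exact h5.symm
      exact not_mem_posOf_and_neg_mem hΔ i ⟨subset_posOf hiΔ, h4 ▸ hkpos⟩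
    have hle : (D g').ncard ≤ (D g \ {i}).ncard :=
      Set.ncard_le_ncard_of_injOn (P.reflectionPerm i) hmaps
        ((P.reflectionPerm i).injective.injOn) (hfin.subset Set.sdiff_subset)
    have hlt : (D g \ {i}).ncard < (D g).ncard := Set.ncard_sdiff_singleton_lt_of_mem hiD hfin
    exact ih (D g').ncard (by omega) g' hg' rfl

/-- Elements of the group generated by reflections in `S` move weights by elements of the span of
`S`. -/
lemma reflGroup_smul_sub_mem_span {S : Set ι} {g : P.Aut} (hg : g ∈ reflGroup P S) (m : M) :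
    g • m - m ∈ Submodule.span ℤ (P.root '' S) := by
  obtain ⟨l, hl, rfl⟩ := exists_wprod_eq hg
  clear hg
  induction l generalizing m with
  | nil => simp
  | cons a l ih =>
    have ha : a ∈ S := hl a List.mem_cons_self
    have hl' : ∀ b ∈ l, b ∈ S := fun b hb => hl b (List.mem_cons_of_mem _ hb)
    rw [wprod_cons, mul_smul]
    have h1 := ih m hl'
    have h2 : Equiv.reflection P a • (wprod P l • m) - m =
        (wprod P l • m - m) - P.coroot' a (wprod P l • m) • P.root a := by
      rw [Equiv.reflection_smul, P.reflection_apply]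
      abel
    rw [h2]
    exact sub_mem h1 (Submodule.smul_mem _ _ (Submodule.subset_span ⟨a, ha, rfl⟩))

end Groth.Agent.Lib.RootDSub_helper8
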