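import Groth.Agent.Lib.RootDPos_helper8

set_option autoImplicit false

/-!
# Action of automorphisms and of the Weyl group on sets of roots (helper8)
-/

namespace Groth.Agent.Lib.RootDWeyl_helper8

open RootD Set RootPairing Groth.Agent.Lib.RootD_helper8 Groth.Agent.Lib.RootDPos_helper8

variable {ι M N : Type*} [AddCommGroup M] [AddCommGroup N] {P : RootPairing ι ℤ M N}

lemma root_smul (g : P.Aut) (i : ι) : P.root (g • i) = g • P.root i :=
  Equiv.root_indexEquiv_eq_smul (P := P) i g

lemma reflection_smul_idx (i k : ι) : Equiv.reflection P i • k = P.reflectionPerm i k := rfl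

lemma smul_neg_idx (g : P.Aut) (i : ι) :
    g • (P.reflectionPerm i i) = P.reflectionPerm (g • i) (g • i) := by
  apply P.root.injective
  rw [root_smul, root_neg, root_neg, root_smul, smul_neg]

lemma smul_mem_natSpan (g : P.Aut) {S : Set ι} {x : M} (hx : x ∈ natSpan P S) :
    g • x ∈ natSpan P ((fun i : ι => g • i) '' S) := by
  induction hx using AddSubmonoid.closure_induction with
  | mem x hx =>
    obtain ⟨i, hi, rfl⟩ := hx
    rw [← root_smul]
    exact AddSubmonoid.subset_closure ⟨g • i, ⟨i, hi, rfl⟩, rfl⟩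
  | zero => rw [smul_zero]; exact zero_mem _
  | add x y _ _ hx hy => rw [smul_add]; exact add_mem hx hy

lemma image_inv_smul_image (g : P.Aut) (S : Set ι) :
    (fun i : ι => g⁻¹ • i) '' ((fun i : ι => g • i) '' S) = S := by
  ext x
  simp only [mem_image, exists_exists_and_eq_and, inv_smul_smul, exists_eq_right]

lemma smul_mem_natSpan_iff (g : P.Aut) {S : Set ι} {x : M} :
    g • x ∈ natSpan P ((fun i : ι => g • i) '' S) ↔ x ∈ natSpan P S := by
  refine ⟨fun h => ?_, smul_mem_natSpan g⟩
  have := smul_mem_natSpan g⁻¹ h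
  rwa [inv_smul_smul, image_inv_smul_image] at this

lemma smul_eq_weightEquiv (g : P.Aut) (x : M) : g • x = (Equiv.weightHom P g : M →ₗ[ℤ] M) x := rfl

/-- The image of a simple system under an automorphism is a simple system. -/
lemma isSimpleSys_smul {Δ : Set ι} (hΔ : IsSimpleSys P Δ) (g : P.Aut) :
    IsSimpleSys P ((fun i : ι => g • i) '' Δ) where
  linInd := by
    apply LinearIndepOn.image_of_comp
    have h1 := hΔ.linInd.map_injOn (Equiv.weightHom P g : M →ₗ[ℤ] M)
      ((Equiv.weightHom P g).injective.injOn)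
    refine h1.congr fun i _ => ?_
    simp only [Function.comp_apply]
    rw [root_smul]
    rfl
  mem_or_neg_mem := by
    intro i
    have h1 : P.root i = g • P.root (g⁻¹ • i) := by rw [← root_smul, smul_inv_smul]
    rcases hΔ.mem_or_neg_mem (g⁻¹ • i) with h | h
    · left
      rw [h1]
      exact smul_mem_natSpan g h
    · right
      rw [h1, ← smul_neg]
      exact smul_mem_natSpan g h

lemma posOf_smul (Δ : Set ι) (g : P.Aut) :
    posOf P ((fun i : ι => g • i) '' Δ) = (fun i : ι => g • i) '' posOf P Δ := by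
  ext k
  simp only [posOf, mem_ofPred_eq, mem_image]
  constructor
  · intro h
    refine ⟨g⁻¹ • k, ?_, smul_inv_smul g k⟩
    rw [← smul_mem_natSpan_iff g, ← root_smul, smul_inv_smul]
    exact h
  · rintro ⟨l, hl, rfl⟩
    rw [root_smul]
    exact smul_mem_natSpan g hl

/-- There is a coweight not orthogonal to any root. -/
lemma exists_coweight_ne_zero [Finite ι] (P : RootPairing ι ℤ M N) :
    ∃ n : N, ∀ i, P.toLinearMap (P.root i) n ≠ 0 := by
  classical
  have : Fintype ι := Fintype.ofFinite ι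
  suffices h : ∀ s : Finset ι, ∃ n : N, ∀ i ∈ s, P.toLinearMap (P.root i) n ≠ 0 by
    obtain ⟨n, hn⟩ := h Finset.univ
    exact ⟨n, fun i => hn i (Finset.mem_univ i)⟩
  intro s
  induction s using Finset.induction_on with
  | empty => exact ⟨0, by simp⟩
  | insert j s _ ih =>
    obtain ⟨n, hn⟩ := ih
    let a : ι → ℤ := fun i => P.toLinearMap (P.root i) n
    let b : ι → ℤ := fun i => P.pairing i j
    let bad : Finset ℤ := (insert j s).image fun i => -b i / a i
    obtain ⟨t, ht⟩ := Infinite.exists_notMem_finset bad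
    refine ⟨t • n + P.coroot j, fun i hi => ?_⟩
    have hval : P.toLinearMap (P.root i) (t • n + P.coroot j) = t * a i + b i := by
      simp [a, b]
    rw [hval]
    intro h0
    have hb : b i = -(t * a i) := by omega
    by_cases ha : a i = 0
    · rw [ha, mul_zero, neg_zero] at hb
      rcases Finset.mem_insert.mp hi with rfl | hi'
      · simp only [b, P.pairing_same] at hb
        norm_num at hb
      · exact hn i hi' ha
    · apply ht
      refine Finset.mem_image.mpr ⟨i, hi, ?_⟩
      rw [hb, neg_neg, Int.mul_ediv_cancel _ ha]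

/-- There is a system of simple roots. -/
lemma exists_isSimpleSys [Finite ι] (P : RootPairing ι ℤ M N) : ∃ Δ : Set ι, IsSimpleSys P Δ := by
  obtain ⟨n, hn⟩ := exists_coweight_ne_zero P
  let f : Module.Dual ℤ M := P.toLinearMap.flip n
  have hf : ∀ i, f (P.root i) ≠ 0 := hn
  let _i := P.indexNeg
  refine ⟨IsAddIndecomposable.baseOf P.root (f : M →+ ℤ), ⟨?_, fun i => ?_⟩⟩
  · exact P.linearIndepOn_root_baseOf' f hf
  · exact IsAddIndecomposable.mem_or_neg_mem_closure_baseOf P.root (f : M →+ ℤ) i (hf i) (by simp)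

lemma neg_mem_of_notMem {P' : Set ι} (hP2 : ∀ i : ι, i ∈ P' ∨ P.reflectionPerm i i ∈ P') {i : ι}
    (hi : i ∉ P') : P.reflectionPerm i i ∈ P' := (hP2 i).resolve_left hi

/-- SGA3 XXI 3.3.6: a closed set of roots containing each root or its opposite contains a Weyl
conjugate of any given system of positive roots `posOf Δ`. -/
lemma exists_weyl_smul_posOf_subset [Finite ι] {Δ : Set ι} (hΔ : IsSimpleSys P Δ) {P' : Set ι}
    (hP2 : ∀ i : ι, i ∈ P' ∨ P.reflectionPerm i i ∈ P') (hcl : IsClosedSub P P') :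
    ∃ g ∈ P.weylGroup, (fun i : ι => g • i) '' posOf P Δ ⊆ P' := by
  let D : P.Aut → Set ι := fun g => {k | k ∈ posOf P Δ ∧ g • k ∉ P'}
  suffices h : ∀ n : ℕ, ∀ g ∈ P.weylGroup, (D g).ncard = n → ∃ g' ∈ P.weylGroup, D g' = ∅ by
    obtain ⟨g, hg, hD⟩ := h _ 1 (one_mem _) rfl
    refine ⟨g, hg, ?_⟩
    rintro - ⟨k, hk, rfl⟩
    by_contra hk'
    have : k ∈ D g := ⟨hk, hk'⟩
    rw [hD] at this
    exact this
  intro n
  induction n using Nat.strong_induction_on with
  | _ n ih =>
    intro g hg hn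
    by_cases hD : D g = ∅
    · exact ⟨g, hg, hD⟩
    obtain ⟨k, hk, hk'⟩ := Set.nonempty_iff_ne_empty.mpr hD
    -- some simple root is not sent into `P'`
    obtain ⟨i, hi, hgi⟩ : ∃ i ∈ Δ, g • i ∉ P' := by
      by_contra hcon
      push Not at hcon
      apply hk'
      apply mem_of_mem_natSpan_of_closed hcl
      rw [root_smul]
      refine natSpan_mono ?_ (smul_mem_natSpan g hk)
      rintro - ⟨i, hi, rfl⟩
      exact hcon i hi
    have hneg_gi : P.reflectionPerm (g • i) (g • i) ∈ P' := neg_mem_of_notMem hP2 hgi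
    let g' : P.Aut := g * Equiv.reflection P i
    have hg' : g' ∈ P.weylGroup := mul_mem hg (P.reflection_mem_weylGroup i)
    have hg'k : ∀ k : ι, g' • k = g • (P.reflectionPerm i k) := fun k => by
      rw [mul_smul, reflection_smul_idx]
    have hiD : i ∈ D g := ⟨subset_posOf hi, hgi⟩
    have hfin : (D g).Finite := Set.toFinite _
    have hmaps : ∀ k ∈ D g', P.reflectionPerm i k ∈ D g \ {i} := by
      rintro k ⟨hkpos, hkP'⟩
      rw [hg'k] at hkP'
      have h1 : k ≠ i := by
        rintro rfl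
        apply hkP'
        rw [smul_neg_idx]
        exact hneg_gi
      have h2 : P.root k ≠ (2 : ℤ) • P.root i := by
        intro h2
        have e1 : P.reflectionPerm i k = P.reflectionPerm k k := by
          apply P.root.injective
          rw [root_neg, P.root_reflectionPerm, h2, map_smul, P.reflection_apply_self]
          simp
        rw [e1, smul_neg_idx] at hkP'
        have hgk : g • k ∈ P' := by
          by_contra hgk
          exact hkP' (neg_mem_of_notMem hP2 hgk)
        apply hgi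
        refine hcl hgk hneg_gi ?_
        rw [root_neg, root_smul, root_smul, h2, smul_comm, two_smul]
        abel
      refine ⟨⟨reflectionPerm_mem_posOf' hΔ hi hkpos h1 h2, hkP'⟩, ?_⟩
      intro h3
      have h4 : k = P.reflectionPerm i i := by
        rw [Set.mem_singleton_iff] at h3
        have h5 := P.reflectionPerm_self i k
        rw [h3] at h5
        exact h5.symm
      exact not_mem_posOf_and_neg_mem hΔ i ⟨subset_posOf hi, h4 ▸ hkpos⟩
    have hle : (D g').ncard ≤ (D g \ {i}).ncard :=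
      Set.ncard_le_ncard_of_injOn (P.reflectionPerm i) hmaps
        ((P.reflectionPerm i).injective.injOn) (hfin.subset Set.sdiff_subset)
    have hlt : (D g \ {i}).ncard < (D g).ncard := Set.ncard_sdiff_singleton_lt_of_mem hiD hfin
    exact ih (D g').ncard (by omega) g' hg' rfl

/-- A simple system is determined by its set of positive roots. -/
lemma eq_of_posOf_eq [Finite ι] {Δ Δ' : Set ι} (hΔ : IsSimpleSys P Δ) (hΔ' : IsSimpleSys P Δ')
    (h : posOf P Δ = posOf P Δ') : Δ = Δ' := by
  have key : ∀ {Δ₁ Δ₂ : Set ι}, IsSimpleSys P Δ₁ → IsSimpleSys P Δ₂ → posOf P Δ₁ = posOf P Δ₂ →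
      Δ₁ ⊆ Δ₂ := by
    intro Δ₁ Δ₂ h1 h2 h12 k hk
    by_contra hk2
    have hkpos : k ∈ posOf P Δ₂ := h12 ▸ subset_posOf hk
    obtain ⟨j, hj, l, hl, hkl, -⟩ := exists_sub_simple h2 hkpos hk2
    refine not_exists_add_of_mem h1 hk ⟨l, j, h12 ▸ hl, h12 ▸ subset_posOf hj, hkl⟩
  exact subset_antisymm (key hΔ hΔ' h) (key hΔ' hΔ h.symm)

/-- Every system of positive roots is the set of positive roots of a simple system. -/
lemma exists_isSimpleSys_of_isPosSys [Finite ι] {S : Set ι} (hS : IsPosSys P S) :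
    ∃ Δ : Set ι, IsSimpleSys P Δ ∧ Δ ⊆ S ∧ S = posOf P Δ := by
  obtain ⟨Δ₀, hΔ₀⟩ := exists_isSimpleSys P
  obtain ⟨g, -, hg⟩ := exists_weyl_smul_posOf_subset hΔ₀ hS.cover (isClosedSub_of_isPosSys hS)
  have hΔ := isSimpleSys_smul hΔ₀ g
  rw [← posOf_smul] at hg
  have hsub : (fun i : ι => g • i) '' Δ₀ ⊆ S := subset_posOf.trans hg
  exact ⟨_, hΔ, hsub, eq_posOf_of_subset hΔ hS hsub⟩

/-- SGA3 XXI 3.3.6 for an arbitrary system of positive roots. -/
lemma exists_weyl_smul_subset [Finite ι] {S : Set ι} (hS : IsPosSys P S) {P' : Set ι}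
    (hP2 : ∀ i : ι, i ∈ P' ∨ P.reflectionPerm i i ∈ P') (hcl : IsClosedSub P P') :
    ∃ g ∈ P.weylGroup, (fun i : ι => g • i) '' S ⊆ P' := by
  obtain ⟨Δ, hΔ, -, rfl⟩ := exists_isSimpleSys_of_isPosSys hS
  exact exists_weyl_smul_posOf_subset hΔ hP2 hcl

/-- The Weyl group acts transitively on the systems of positive roots. -/
lemma exists_weyl_smul_eq [Finite ι] {S S' : Set ι} (hS : IsPosSys P S) (hS' : IsPosSys P S') :
    ∃ g ∈ P.weylGroup, (fun i : ι => g • i) '' S = S' := by
  obtain ⟨g, hg, hsub⟩ := exists_weyl_smul_subset hS hS'.cover (isClosedSub_of_isPosSys hS')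
  refine ⟨g, hg, subset_antisymm hsub fun k hk => ?_⟩
  by_cases h : g⁻¹ • k ∈ S
  · exact ⟨g⁻¹ • k, h, smul_inv_smul g k⟩
  · exfalso
    have h1 : P.reflectionPerm (g⁻¹ • k) (g⁻¹ • k) ∈ S := (hS.cover _).resolve_left h
    have h2 : g • P.reflectionPerm (g⁻¹ • k) (g⁻¹ • k) ∈ S' := hsub ⟨_, h1, rfl⟩
    rw [smul_neg_idx, smul_inv_smul] at h2
    exact hS'.disjoint hk h2

/-- The Weyl group acts transitively on the systems of simple roots. -/
lemma exists_weyl_smul_simpleSys_eq [Finite ι] {Δ Δ' : Set ι} (hΔ : IsSimpleSys P Δ)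
    (hΔ' : IsSimpleSys P Δ') :
    ∃ g ∈ P.weylGroup, (fun i : ι => g • i) '' Δ = Δ' := by
  obtain ⟨g, hg, h⟩ := exists_weyl_smul_eq (isPosSys_posOf hΔ) (isPosSys_posOf hΔ')
  rw [← posOf_smul] at h
  exact ⟨g, hg, eq_of_posOf_eq (isSimpleSys_smul hΔ g) hΔ' h⟩

end Groth.Agent.Lib.RootDWeyl_helper8
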