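import Groth.Agent.Lib.RootDGen_helper8

set_option autoImplicit false

/-!
# Words in the simple reflections (helper8)
-/

namespace Groth.Agent.Lib.RootDWord_helper8

open RootD Set RootPairing Groth.Agent.Lib.RootD_helper8 Groth.Agent.Lib.RootDPos_helper8
  Groth.Agent.Lib.RootDWeyl_helper8 Groth.Agent.Lib.RootDPar_helper8
  Groth.Agent.Lib.RootDForm_helper8 Groth.Agent.Lib.RootDProp_helper8
  Groth.Agent.Lib.RootDGen_helper8

variable {ι M N : Type*} [AddCommGroup M] [AddCommGroup N] {P : RootPairing ι ℤ M N}

/-- The product of the reflections along a list of roots. -/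
noncomputable def wprod (P : RootPairing ι ℤ M N) (l : List ι) : P.Aut :=
  (l.map fun a => Equiv.reflection P a).prod

@[simp] lemma wprod_nil : wprod P [] = 1 := rfl

@[simp] lemma wprod_cons (a : ι) (l : List ι) :
    wprod P (a :: l) = Equiv.reflection P a * wprod P l := by
  simp [wprod]

@[simp] lemma wprod_append (l l' : List ι) : wprod P (l ++ l') = wprod P l * wprod P l' := by
  simp [wprod]

lemma wprod_singleton (a : ι) : wprod P [a] = Equiv.reflection P a := by simp

lemma reflection_mul_self (a : ι) : Equiv.reflection P a * Equiv.reflection P a = 1 := by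
  have := Equiv.reflection_inv P a
  nth_rw 1 [← this]
  exact inv_mul_cancel _

lemma wprod_mem_reflGroup {S : Set ι} {l : List ι} (hl : ∀ a ∈ l, a ∈ S) :
    wprod P l ∈ reflGroup P S := by
  induction l with
  | nil => exact one_mem _
  | cons a l ih =>
    rw [wprod_cons]
    exact mul_mem (reflection_mem_reflGroup (hl a (List.mem_cons_self)))
      (ih fun b hb => hl b (List.mem_cons_of_mem _ hb))

/-- Every element of the group generated by reflections in `S` is a product of such reflections. -/
lemma exists_wprod_eq {S : Set ι} {g : P.Aut} (hg : g ∈ reflGroup P S) :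
    ∃ l : List ι, (∀ a ∈ l, a ∈ S) ∧ wprod P l = g := by
  induction hg using Subgroup.closure_induction'' with
  | mem x hx =>
    obtain ⟨i, hi, rfl⟩ := hx
    exact ⟨[i], by simpa using hi, by simp⟩
  | inv_mem x hx =>
    obtain ⟨i, hi, rfl⟩ := hx
    exact ⟨[i], by simpa using hi, by simp⟩
  | one => exact ⟨[], by simp, rfl⟩
  | mul x y _ _ hx hy =>
    obtain ⟨l, hl, rfl⟩ := hx
    obtain ⟨l', hl', rfl⟩ := hy
    refine ⟨l ++ l', ?_, wprod_append l l'⟩
    intro a ha
    rcases List.mem_append.mp ha with h | h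
    · exact hl a h
    · exact hl' a h

/-- Find the place in a word where a positive root becomes negative. -/
lemma exists_split {Δ : Set ι} (a : ι) (ha : a ∈ posOf P Δ) :
    ∀ l₀ : List ι, wprod P l₀ • a ∉ posOf P Δ →
      ∃ (u : List ι) (c : ι) (v : List ι), l₀ = u ++ c :: v ∧ wprod P v • a ∈ posOf P Δ ∧
        wprod P (c :: v) • a ∉ posOf P Δ := by
  intro l₀
  induction l₀ with
  | nil => intro h; simp at h; exact absurd ha h
  | cons c t ih =>
    intro h
    by_cases ht : wprod P t • a ∈ posOf P Δ
    · exact ⟨[], c, t, rfl, ht, h⟩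
    · obtain ⟨u, c', v, hl, h1, h2⟩ := ih ht
      exact ⟨c :: u, c', v, by rw [hl]; rfl, h1, h2⟩

/-- The deletion step: if `w(a)` is negative for a word `w` in the simple reflections and a simple
root `a`, then the word `w s_a` can be shortened by two letters. -/
lemma exists_shorter [Finite ι] {Δ : Set ι} (hΔ : IsSimpleSys P Δ) {l₀ : List ι}
    (hl₀ : ∀ x ∈ l₀, x ∈ Δ) {a : ι} (ha : a ∈ Δ) (hneg : wprod P l₀ • a ∉ posOf P Δ) :
    ∃ l' : List ι, (∀ x ∈ l', x ∈ Δ) ∧ wprod P l' = wprod P (l₀ ++ [a]) ∧
      l'.length + 2 = (l₀ ++ [a]).length := by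
  obtain ⟨u, c, v, hl, h1, h2⟩ := exists_split a (subset_posOf ha) l₀ hneg
  have hc : c ∈ Δ := hl₀ c (by rw [hl]; simp)
  -- `wprod v • a` is a positive root made negative by `s_c`, hence equals `c`
  have h3 : wprod P v • a = c := by
    by_contra hne
    apply h2
    rw [wprod_cons, mul_smul, reflection_smul_idx]
    apply reflectionPerm_mem_posOf' hΔ hc h1 hne
    intro h4
    have hind : IsIndiv P (wprod P v • a) := isIndiv_smul _ (by
      intro j hj
      have h1 : coeff hΔ a = (2 : ℤ) • coeff hΔ j := by
        apply coeff_eq hΔ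
        · intro l hl
          apply support_coeff hΔ j
          simp only [Finset.mem_coe, Finsupp.mem_support_iff, Finsupp.coe_smul, Pi.smul_apply,
            smul_eq_mul, ne_eq, mul_eq_zero, OfNat.ofNat_ne_zero, false_or] at hl ⊢
          exact hl
        · rw [map_smul, linearCombination_coeff, hj]
      have h2 := congrArg (fun c => c a) h1
      simp only [coeff_self hΔ ha, Finsupp.single_eq_same, Finsupp.coe_smul, Pi.smul_apply,
        smul_eq_mul] at h2
      omega)
    exact hind c h4.symm
  have h4 : Equiv.reflection P c = wprod P v * Equiv.reflection P a * (wprod P v)⁻¹ := by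
    rw [conj_reflection, h3]
  refine ⟨u ++ v, ?_, ?_, ?_⟩
  · intro x hx
    apply hl₀ x
    rw [hl]
    rcases List.mem_append.mp hx with h | h
    · exact List.mem_append_left _ h
    · exact List.mem_append_right _ (List.mem_cons_of_mem _ h)
  · rw [hl]
    simp only [wprod_append, wprod_cons, wprod_nil, mul_one]
    rw [h4]
    have := reflection_mul_self (P := P) a
    calc wprod P u * wprod P v
        = wprod P u * (wprod P v * (Equiv.reflection P a * Equiv.reflection P a)) := by
          rw [this, mul_one]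
      _ = _ := by group
  · rw [hl]
    simp only [List.length_append, List.length_cons, List.length_nil]
    omega

/-- SGA3 XXI / Bourbaki: for a reduced word `s_1 ⋯ s_m` in the simple reflections, the root
`s_1 ⋯ s_{m-1} (α_m)` is positive. -/
lemma wprod_smul_mem_posOf_of_minimal [Finite ι] {Δ : Set ι} (hΔ : IsSimpleSys P Δ)
    {l₀ : List ι} (hl₀ : ∀ x ∈ l₀, x ∈ Δ) {a : ι} (ha : a ∈ Δ)
    (hmin : ∀ l' : List ι, (∀ x ∈ l', x ∈ Δ) → wprod P l' = wprod P (l₀ ++ [a]) →
      (l₀ ++ [a]).length ≤ l'.length) : wprod P l₀ • a ∈ posOf P Δ := by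
  by_contra hneg
  obtain ⟨l', hl', h1, h2⟩ := exists_shorter hΔ hl₀ ha hneg
  have := hmin l' hl' h1
  omega

/-- An element of the group generated by the simple reflections which maps the simple roots to
positive roots is trivial. -/
lemma eq_one_of_smul_mem_posOf [Finite ι] {Δ : Set ι} (hΔ : IsSimpleSys P Δ) {g : P.Aut}
    (hg : g ∈ reflGroup P Δ) (hpos : ∀ i ∈ Δ, g • i ∈ posOf P Δ) : g = 1 := by
  classical
  have hex : ∃ n : ℕ, ∃ l : List ι, (∀ a ∈ l, a ∈ Δ) ∧ wprod P l = g ∧ l.length = n := by
    obtain ⟨l, hl, hlg⟩ := exists_wprod_eq hg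
    exact ⟨l.length, l, hl, hlg, rfl⟩
  obtain ⟨l, hl, hlg, hlen⟩ := Nat.find_spec hex
  have hmin : ∀ l' : List ι, (∀ x ∈ l', x ∈ Δ) → wprod P l' = g → l.length ≤ l'.length := by
    intro l' hl' hl'g
    rw [hlen]
    exact Nat.find_min' hex ⟨l', hl', hl'g, rfl⟩
  rcases List.eq_nil_or_concat l with h | ⟨l₀, a, h⟩
  · rw [← hlg, h, wprod_nil]
  · exfalso
    rw [List.concat_eq_append] at h
    have ha : a ∈ Δ := hl a (by rw [h]; simp)
    have hl₀ : ∀ x ∈ l₀, x ∈ Δ := fun x hx => hl x (by rw [h]; exact List.mem_append_left _ hx)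
    have h1 : wprod P l₀ • a ∈ posOf P Δ := by
      apply wprod_smul_mem_posOf_of_minimal hΔ hl₀ ha
      intro l' hl' hl'g
      rw [← h]
      exact hmin l' hl' (by rw [hl'g, ← h, hlg])
    have h2 : g • a = P.reflectionPerm (wprod P l₀ • a) (wprod P l₀ • a) := by
      rw [← hlg, h, wprod_append, wprod_singleton, mul_smul, reflection_smul_idx, smul_neg_idx]
    have h3 := hpos a ha
    rw [h2] at h3
    exact not_mem_posOf_and_neg_mem hΔ _ ⟨h1, h3⟩

/-- The deletion step, keeping track of the letters used. -/
lemma exists_shorter_sub [Finite ι] {Δ : Set ι} (hΔ : IsSimpleSys P Δ) {l₀ : List ι}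
    (hl₀ : ∀ x ∈ l₀, x ∈ Δ) {a : ι} (ha : a ∈ Δ) (hneg : wprod P l₀ • a ∉ posOf P Δ) :
    ∃ l' : List ι, (∀ x ∈ l', x ∈ l₀) ∧ wprod P l' = wprod P (l₀ ++ [a]) ∧
      l'.length + 2 = (l₀ ++ [a]).length := by
  obtain ⟨u, c, v, hl, h1, h2⟩ := exists_split a (subset_posOf ha) l₀ hneg
  have hc : c ∈ Δ := hl₀ c (by rw [hl]; simp)
  -- `wprod v • a` is a positive root made negative by `s_c`, hence equals `c`
  have h3 : wprod P v • a = c := by
    by_contra hne
    apply h2
    rw [wprod_cons, mul_smul, reflection_smul_idx]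
    apply reflectionPerm_mem_posOf' hΔ hc h1 hne
    intro h4
    have hind : IsIndiv P (wprod P v • a) := isIndiv_smul _ (by
      intro j hj
      have h1 : coeff hΔ a = (2 : ℤ) • coeff hΔ j := by
        apply coeff_eq hΔ
        · intro l hl
          apply support_coeff hΔ j
          simp only [Finset.mem_coe, Finsupp.mem_support_iff, Finsupp.coe_smul, Pi.smul_apply,
            smul_eq_mul, ne_eq, mul_eq_zero, OfNat.ofNat_ne_zero, false_or] at hl ⊢
          exact hl
        · rw [map_smul, linearCombination_coeff, hj]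
      have h2 := congrArg (fun c => c a) h1
      simp only [coeff_self hΔ ha, Finsupp.single_eq_same, Finsupp.coe_smul, Pi.smul_apply,
        smul_eq_mul] at h2
      omega)
    exact hind c h4.symm
  have h4 : Equiv.reflection P c = wprod P v * Equiv.reflection P a * (wprod P v)⁻¹ := by
    rw [conj_reflection, h3]
  refine ⟨u ++ v, ?_, ?_, ?_⟩
  · intro x hx
    rw [hl]
    rcases List.mem_append.mp hx with h | h
    · exact List.mem_append_left _ h
    · exact List.mem_append_right _ (List.mem_cons_of_mem _ h)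
  · rw [hl]
    simp only [wprod_append, wprod_cons, wprod_nil, mul_one]
    rw [h4]
    have := reflection_mul_self (P := P) a
    calc wprod P u * wprod P v
        = wprod P u * (wprod P v * (Equiv.reflection P a * Equiv.reflection P a)) := by
          rw [this, mul_one]
      _ = _ := by group
  · rw [hl]
    simp only [List.length_append, List.length_cons, List.length_nil]
    omega


end Groth.Agent.Lib.RootDWord_helper8
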