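import Groth.Agent.Lib.RootDZ_helper8
import Groth.Agent.Lib.RootDWord_helper8

set_option autoImplicit false

/-!
# Transfer of results on root data over `ℤ` to crystallographic root pairings (helper8)
-/

namespace Groth.Agent.Lib.RootDZ2_helper8

open RootD Set RootPairing Groth.Agent.Lib.RootD_helper8 Groth.Agent.Lib.RootDPos_helper8
  Groth.Agent.Lib.RootDWeyl_helper8 Groth.Agent.Lib.RootDPar_helper8
  Groth.Agent.Lib.RootDForm_helper8 Groth.Agent.Lib.RootDProp_helper8
  Groth.Agent.Lib.RootDGen_helper8 Groth.Agent.Lib.RootDWord_helper8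
  Groth.Agent.Lib.RootDZ_helper8

variable {ι R M N : Type*} [CommRing R] [CharZero R] [IsDomain R] [AddCommGroup M] [Module R M]
  [AddCommGroup N] [Module R N] {P : RootPairing ι R M N} [Finite ι] [P.IsCrystallographic]

lemma wprod_zForm_smul_idx (l : List ι) (i : ι) :
    wprod (zForm P) l • i = (l.map P.reflectionPerm).prod i :=
  wprodR_smul_idx (zForm P) l i

/-- Words define the same Weyl group element in `P` and in its integral form. -/
lemma wprod_zForm_eq_iff (l l' : List ι) :
    wprod (zForm P) l = wprod (zForm P) l' ↔ wprodR P l = wprodR P l' := by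
  rw [wprodR_eq_iff]
  constructor
  · intro h
    ext i
    rw [← wprod_zForm_smul_idx, ← wprod_zForm_smul_idx, h]
  · intro h
    have h1 : (wprod (zForm P) l')⁻¹ * wprod (zForm P) l = 1 := by
      have hmem : (wprod (zForm P) l')⁻¹ * wprod (zForm P) l ∈ (zForm P).weylGroup :=
        mul_mem (inv_mem (wprodR_mem_weylGroup (zForm P) l')) (wprodR_mem_weylGroup (zForm P) l)
      have hinj := weylGroupToPerm_injective (zForm P)
      have : (⟨_, hmem⟩ : (zForm P).weylGroup) = 1 := by
        apply hinj
        ext i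
        change ((wprod (zForm P) l')⁻¹ * wprod (zForm P) l) • i = i
        rw [mul_smul, wprod_zForm_smul_idx, h, ← wprod_zForm_smul_idx, inv_smul_smul]
      exact congrArg Subtype.val this
    rw [← mul_one (wprod (zForm P) l'), ← h1, mul_inv_cancel_left]

/-- The integral form of a reduced pairing has only indivisible roots. -/
lemma isIndiv_zForm [P.IsReduced] (k : ι) : IsIndiv (zForm P) k := by
  intro j hj
  have htf := isTorsionFreeInt P
  have : IsAddTorsionFree M := .of_isTorsionFree ℤ M
  have h1 := congrArg Subtype.val hj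
  have h2 : (2 : ℕ) • P.root j = P.root k := by
    rw [Submodule.coe_smul, zForm_root, zForm_root] at h1
    rw [← h1, two_smul, two_smul]
  exact P.nsmul_notMem_range_root (n := 2) (i := j) ⟨k, h2.symm⟩

/-- The simple reflections generate the Weyl group. -/
theorem closure_simple_eq_weylGroup (b : P.Base) :
    Subgroup.closure ((fun i : ι => Equiv.reflection P i) '' (b.support : Set ι)) =
      P.weylGroup := by
  apply le_antisymm
  · rw [Subgroup.closure_le]
    rintro - ⟨i, -, rfl⟩
    exact P.reflection_mem_weylGroup i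
  · intro g hg
    obtain ⟨l, rfl⟩ := exists_wprodR_eq P hg
    have hΔ := isSimpleSys_zForm b
    have h1 : wprod (zForm P) l ∈ reflGroup (zForm P) (b.support : Set ι) := by
      rw [reflGroup_simple_eq_weylGroup hΔ]
      exact wprodR_mem_weylGroup (zForm P) l
    obtain ⟨l', hl', hl'g⟩ := exists_wprod_eq h1
    rw [← (wprod_zForm_eq_iff l' l).mp hl'g]
    exact wprodR_mem_closure P hl'

/-- Every root of a reduced pairing is conjugate to a simple root, by a word in the simple
reflections. -/
theorem exists_word_smul_eq [P.IsReduced] (b : P.Base) (i : ι) :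
    ∃ l : List ι, (∀ a ∈ l, a ∈ b.support) ∧ ∃ j ∈ b.support, wprodR P l • j = i := by
  have hΔ := isSimpleSys_zForm b
  obtain ⟨g, hg, j, hj, hgj⟩ := exists_reflGroup_smul_eq hΔ (isIndiv_zForm (P := P) i)
  obtain ⟨l, hl, rfl⟩ := exists_wprod_eq hg
  refine ⟨l, fun a ha => hl a ha, j, hj, ?_⟩
  rw [wprodR_smul_idx, ← wprod_zForm_smul_idx, hgj]

/-- An element of the Weyl group preserving the positive roots is trivial. -/
theorem eq_one_of_isPos_simple (b : P.Base) {g : P.Aut} (hg : g ∈ P.weylGroup)
    (hpos : ∀ i ∈ b.support, b.IsPos (g • i)) : g = 1 := by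
  have hΔ := isSimpleSys_zForm b
  rw [← closure_simple_eq_weylGroup b] at hg
  have hex : ∃ l : List ι, (∀ a ∈ l, a ∈ b.support) ∧ wprodR P l = g := by
    clear hpos
    induction hg using Subgroup.closure_induction'' with
    | mem x hx =>
      obtain ⟨i, hi, rfl⟩ := hx
      exact ⟨[i], by simpa using hi, by simp⟩
    | inv_mem x hx =>
      obtain ⟨i, hi, rfl⟩ := hx
      exact ⟨[i], by simpa using hi, by simp⟩
    | one => exact ⟨[], by simp, rfl⟩
    | mul x y _ _ hx hy =>
      obtain ⟨l, hl, rfl⟩ := hx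
      obtain ⟨l', hl', rfl⟩ := hy
      refine ⟨l ++ l', ?_, wprodR_append P l l'⟩
      intro a ha
      rcases List.mem_append.mp ha with h | h
      · exact hl a h
      · exact hl' a h
  obtain ⟨l, hl, rfl⟩ := hex
  have h1 : wprod (zForm P) l = 1 := by
    apply eq_one_of_smul_mem_posOf hΔ (wprod_mem_reflGroup (fun a ha => hl a ha))
    intro i hi
    rw [wprod_zForm_smul_idx, ← wprodR_smul_idx, ← isPos_iff_mem_posOf]
    exact hpos i hi
  have h2 : wprod (zForm P) l = wprod (zForm P) [] := h1
  exact (wprod_zForm_eq_iff l []).mp h2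

theorem eq_one_of_isPos (b : P.Base) {g : P.Aut} (hg : g ∈ P.weylGroup)
    (hpos : ∀ i, b.IsPos i → b.IsPos (g • i)) : g = 1 :=
  eq_one_of_isPos_simple b hg fun i hi => hpos i (b.isPos_of_mem_support hi)

/-- The Weyl group acts simply transitively on the bases. -/
theorem existsUnique_weyl_smul_base (b b' : P.Base) :
    ∃! g : P.weylGroup, (fun i : ι => (g : P.Aut) • i) '' (b.support : Set ι) =
      (b'.support : Set ι) := by
  have hΔ := isSimpleSys_zForm b
  have hΔ' := isSimpleSys_zForm b'
  obtain ⟨g₀, hg₀, hg₀Δ⟩ := exists_weyl_smul_simpleSys_eq hΔ hΔ'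
  obtain ⟨l, rfl⟩ := exists_wprodR_eq (zForm P) hg₀
  have himg : (fun i : ι => wprodR P l • i) '' (b.support : Set ι) = (b'.support : Set ι) := by
    rw [← hg₀Δ]
    apply Set.image_congr
    intro i _
    rw [wprodR_smul_idx, wprodR_smul_idx]
    rfl
  refine ⟨⟨wprodR P l, wprodR_mem_weylGroup P l⟩, himg, ?_⟩
  rintro ⟨g', hg'⟩ hg'Δ
  have h1 : (wprodR P l)⁻¹ * g' = 1 := by
    apply eq_one_of_isPos_simple b (mul_mem (inv_mem (wprodR_mem_weylGroup P l)) hg')
    intro i hi
    have h2 : g' • i ∈ (b'.support : Set ι) := by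
      rw [← hg'Δ]
      exact ⟨i, hi, rfl⟩
    rw [← himg] at h2
    obtain ⟨j, hj, hji⟩ := h2
    rw [mul_smul, ← hji, inv_smul_smul]
    exact b.isPos_of_mem_support hj
  apply Subtype.ext
  change g' = wprodR P l
  rw [← mul_one (wprodR P l), ← h1, mul_inv_cancel_left]

end Groth.Agent.Lib.RootDZ2_helper8
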