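import Mathlib.LinearAlgebra.RootSystem.Finite.Nondegenerate
import Mathlib.LinearAlgebra.RootSystem.Base
import Mathlib.LinearAlgebra.RootSystem.WeylGroup
import Mathlib.LinearAlgebra.FreeModule.PID
import Groth.Prelude.Def_W4sga3xxiRoot

set_option autoImplicit false

/-!
# The integral form of a crystallographic root pairing (helper8)

For a finite crystallographic root pairing `P` over a domain of characteristic zero we build a root
pairing `zForm P` over `ℤ` on the root lattice, with the same index type, the same permutation
action of reflections, and the same Cartan integers.  This allows transferring results proved for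
root data over `ℤ`.
-/

namespace Groth.Agent.Lib.RootDZ_helper8

open RootPairing Set Module

variable {ι R M N : Type*} [CommRing R] [CharZero R] [IsDomain R] [AddCommGroup M] [Module R M]
  [AddCommGroup N] [Module R N] (P : RootPairing ι R M N)

include P in
lemma isTorsionFreeInt : Module.IsTorsionFree ℤ M := by
  have : IsReflexive R M := .of_isPerfPair P.toLinearMap
  exact .trans_faithfulSMul ℤ R M

variable [Finite ι] [P.IsCrystallographic]

omit [P.IsCrystallographic] in
lemma isReflexive_rootSpan : IsReflexive ℤ (P.rootSpan ℤ) := by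
  have := isTorsionFreeInt P
  have : Module.IsTorsionFree ℤ (P.rootSpan ℤ) := inferInstance
  have : Module.Free ℤ (P.rootSpan ℤ) := Module.free_of_finite_type_torsion_free'
  infer_instance

lemma coroot'In_injective : Function.Injective (P.coroot'In ℤ) := by
  have htf := isTorsionFreeInt P
  have : IsAddTorsionFree M := .of_isTorsionFree ℤ M
  intro i j hij
  apply P.coroot.injective
  apply P.injOn_dualMap_subtype_span_root_coroot (mem_range_self i) (mem_range_self j)
  apply LinearMap.ext
  rintro ⟨x, hx⟩
  simp only [LinearMap.coe_comp, Function.comp_apply, LinearMap.dualMap_apply,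
    Submodule.subtype_apply, LinearMap.flip_apply]
  induction hx using Submodule.span_induction with
  | mem x hx =>
    obtain ⟨k, rfl⟩ := hx
    have h1 := congrArg (fun f => algebraMap ℤ R (f (P.rootSpanMem ℤ k))) hij
    simp only [algebraMap_coroot'In_apply] at h1
    exact h1
  | zero => simp
  | add x y _ _ hx hy => simp only [map_add, LinearMap.add_apply, hx, hy]
  | smul a x _ hx => simp only [map_smul, LinearMap.smul_apply, hx]

/-- The integral form of `P`. -/
noncomputable def zForm : RootPairing ι ℤ (P.rootSpan ℤ) (Dual ℤ (P.rootSpan ℤ)) :=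
  have := isReflexive_rootSpan P
  { toLinearMap := Dual.eval ℤ (P.rootSpan ℤ)
    isPerfPair_toLinearMap := inferInstance
    root := ⟨P.rootSpanMem ℤ, fun i j h => P.root.injective (congrArg Subtype.val h)⟩
    coroot := ⟨P.coroot'In ℤ, coroot'In_injective P⟩
    root_coroot_two := fun i => by
      change P.coroot'In ℤ i (P.rootSpanMem ℤ i) = 2
      rw [coroot'In_rootSpanMem_eq_pairingIn, pairingIn_same]
    reflectionPerm := P.reflectionPerm
    reflectionPerm_root := fun i j => by
      apply Subtype.ext
      change P.root j - (P.coroot'In ℤ i (P.rootSpanMem ℤ j)) • P.root i =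
        P.root (P.reflectionPerm i j)
      rw [coroot'In_rootSpanMem_eq_pairingIn, ← P.reflectionPerm_root i j,
        ← Int.cast_smul_eq_zsmul R]
      have h := P.algebraMap_pairingIn ℤ j i
      rw [algebraMap_int_eq, eq_intCast] at h
      rw [h]
      rfl
    reflectionPerm_coroot := fun i j => by
      apply LinearMap.ext
      intro x
      apply FaithfulSMul.algebraMap_injective ℤ R
      change algebraMap ℤ R (P.coroot'In ℤ j x -
        (P.coroot'In ℤ j (P.rootSpanMem ℤ i)) • P.coroot'In ℤ i x) =
        algebraMap ℤ R (P.coroot'In ℤ (P.reflectionPerm i j) x)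
      rw [coroot'In_rootSpanMem_eq_pairingIn, smul_eq_mul, map_sub, map_mul,
        algebraMap_coroot'In_apply, algebraMap_coroot'In_apply, algebraMap_coroot'In_apply,
        algebraMap_pairingIn]
      have := congrArg (fun n => P.toLinearMap (x : M) n) (P.reflectionPerm_coroot i j)
      simp only [map_sub, map_smul, smul_eq_mul] at this
      exact this }

@[simp] lemma zForm_root (i : ι) : ((zForm P).root i : M) = P.root i := rfl

@[simp] lemma zForm_reflectionPerm : (zForm P).reflectionPerm = P.reflectionPerm := rfl

lemma zForm_pairing (i j : ι) : (zForm P).pairing i j = P.pairingIn ℤ i j := rfl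

lemma mem_closure_zForm_iff (S : Set ι) (x : P.rootSpan ℤ) :
    x ∈ AddSubmonoid.closure ((zForm P).root '' S) ↔
      (x : M) ∈ AddSubmonoid.closure (P.root '' S) := by
  have h1 : P.root '' S = (P.rootSpan ℤ).subtype.toAddMonoidHom '' ((zForm P).root '' S) := by
    rw [Set.image_image]
    rfl
  rw [h1, ← AddMonoidHom.map_mclosure ((P.rootSpan ℤ).subtype.toAddMonoidHom) ((zForm P).root '' S)]
  constructor
  · intro hx
    exact ⟨x, hx, rfl⟩
  · rintro ⟨y, hy, hyx⟩
    have : y = x := Subtype.ext hyx
    rwa [← this]

lemma mem_natSpan_zForm_iff (S : Set ι) (x : P.rootSpan ℤ) :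
    x ∈ RootD.natSpan (zForm P) S ↔ (x : M) ∈ AddSubmonoid.closure (P.root '' S) :=
  mem_closure_zForm_iff P S x

lemma mem_posOf_zForm_iff (S : Set ι) (i : ι) :
    i ∈ RootD.posOf (zForm P) S ↔ P.root i ∈ AddSubmonoid.closure (P.root '' S) :=
  mem_closure_zForm_iff P S ((zForm P).root i)

variable {P}

/-- A base of `P` gives a system of simple roots of the integral form. -/
lemma isSimpleSys_zForm (b : P.Base) : RootD.IsSimpleSys (zForm P) (b.support : Set ι) where
  linInd := b.linearIndependentInt
  mem_or_neg_mem := fun i => by
    rcases b.root_mem_or_neg_mem i with h | h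
    · exact Or.inl ((mem_natSpan_zForm_iff P _ _).mpr h)
    · exact Or.inr ((mem_natSpan_zForm_iff P _ _).mpr (by simpa using h))

/-- Positive roots for a base, in terms of the cone of the simple roots. -/
lemma isPos_iff_mem_closure (b : P.Base) (i : ι) :
    b.IsPos i ↔ P.root i ∈ AddSubmonoid.closure (P.root '' (b.support : Set ι)) := by
  have key : ∀ k : ι, P.root k ∈ AddSubmonoid.closure (P.root '' (b.support : Set ι)) →
      b.IsPos k := by
    intro k hk
    have hex : ∀ m ∈ AddSubmonoid.closure (P.root '' (b.support : Set ι)),
        ∃ f : ι → ℕ, m = ∑ j ∈ b.support, f j • P.root j := by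
      classical
      intro m hm
      induction hm using AddSubmonoid.closure_induction with
      | mem x hx =>
        obtain ⟨j, hj, rfl⟩ := hx
        refine ⟨Pi.single j 1, ?_⟩
        rw [Finset.sum_eq_single j]
        · simp
        · intro l _ hlj; simp [Pi.single_apply, hlj]
        · intro hj'; exact absurd hj hj'
      | zero => exact ⟨0, by simp⟩
      | add x y _ _ hx hy =>
        obtain ⟨f, rfl⟩ := hx
        obtain ⟨g, rfl⟩ := hy
        exact ⟨f + g, by simp [add_smul, Finset.sum_add_distrib]⟩
    obtain ⟨f, hf⟩ := hex _ hk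
    have hf' : P.root k = ∑ j ∈ b.support, ((f j : ℕ) : ℤ) • P.root j := by
      rw [hf]
      exact Finset.sum_congr rfl fun j _ => (natCast_zsmul _ _).symm
    rw [RootPairing.Base.isPos_iff', RootPairing.Base.height_eq_sum hf']
    exact Finset.sum_nonneg fun j _ => by positivity
  refine ⟨fun h => ?_, key i⟩
  rcases b.root_mem_or_neg_mem i with h' | h'
  · exact h'
  · exfalso
    have h1 : b.IsPos (P.reflectionPerm i i) := key _ (by simpa using h')
    have h2 : b.height (P.reflectionPerm i i) = - b.height i := b.height_reflectionPerm_self i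
    rw [RootPairing.Base.isPos_iff, h2] at h1
    rw [RootPairing.Base.isPos_iff] at h
    omega

lemma isPos_iff_mem_posOf (b : P.Base) (i : ι) :
    b.IsPos i ↔ i ∈ RootD.posOf (zForm P) (b.support : Set ι) :=
  (isPos_iff_mem_closure b i).trans (mem_posOf_zForm_iff P _ i).symm

/-! ### The Weyl group -/

section Weyl

variable (P)

omit [CharZero R] [IsDomain R] [Finite ι] [P.IsCrystallographic] in
lemma root_smul' (g : P.Aut) (i : ι) : P.root (g • i) = g • P.root i :=
  Equiv.root_indexEquiv_eq_smul (P := P) i g

omit [CharZero R] [IsDomain R] [Finite ι] [P.IsCrystallographic] in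
/-- Automorphisms preserve the pairing. -/
lemma toLinearMap_smul_coroot (u : P.Aut) (m : M) (i : ι) :
    P.toLinearMap (u • m) (P.coroot (u • i)) = P.toLinearMap m (P.coroot i) := by
  have h1 := Hom.weight_coweight_transpose_apply P P (P.coroot (u • i)) u.toHom
  have h2 := LinearMap.congr_fun h1 m
  simp only [LinearMap.dualMap_apply, LinearMap.toPerfPair_apply] at h2
  have h3 : u.toHom.coweightMap (P.coroot (u • i)) = P.coroot i := by
    rw [Hom.coroot_coweightMap_apply]
    congr 1
    exact u.toHom.indexEquiv.symm_apply_apply i
  rw [h3] at h2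
  exact h2

omit [CharZero R] [IsDomain R] [Finite ι] [P.IsCrystallographic] in
/-- Automorphisms preserve the span of the roots. -/
lemma smul_mem_span_root (g : P.Aut) {x : M} (hx : x ∈ Submodule.span R (Set.range P.root)) :
    g • x ∈ Submodule.span R (Set.range P.root) := by
  induction hx using Submodule.span_induction with
  | mem x hx =>
    obtain ⟨i, rfl⟩ := hx
    rw [← root_smul']
    exact Submodule.subset_span ⟨_, rfl⟩
  | zero => rw [smul_zero]; exact zero_mem _
  | add x y _ _ hx hy => rw [smul_add]; exact add_mem hx hy
  | smul a x _ hx =>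
    have : g • (a • x) = a • (g • x) := map_smul (Equiv.weightHom P g) a x
    rw [this]; exact Submodule.smul_mem _ _ hx

omit [CharZero R] [IsDomain R] [Finite ι] [P.IsCrystallographic] in
/-- Elements of the Weyl group move weights by elements of the span of the roots. -/
lemma weyl_smul_sub_mem_span {g : P.Aut} (hg : g ∈ P.weylGroup) (m : M) :
    g • m - m ∈ Submodule.span R (Set.range P.root) := by
  induction hg using weylGroup.induction generalizing m with
  | mem i =>
    rw [Equiv.reflection_smul, P.reflection_apply, sub_sub_cancel_left]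
    exact Submodule.neg_mem _ (Submodule.smul_mem _ _ (Submodule.subset_span ⟨i, rfl⟩))
  | one => simp
  | mul x y _ _ hx hy =>
    have : (x * y) • m - m = x • (y • m - m) + (x • m - m) := by
      rw [mul_smul, smul_sub]; abel
    rw [this]
    exact add_mem (smul_mem_span_root P x (hy m)) (hx m)

/-- The Weyl group acts faithfully on the set of roots. -/
lemma eq_one_of_smul_idx_eq {g : P.Aut} (hg : g ∈ P.weylGroup) (hfix : ∀ i : ι, g • i = i) :
    g = 1 := by
  cases nonempty_fintype ι
  apply Equiv.weightHom_injective P
  ext m
  rw [map_one]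
  change g • m = m
  have hx := weyl_smul_sub_mem_span P hg m
  have h0 : ∀ i, P.coroot' i (g • m - m) = 0 := by
    intro i
    have h1 := toLinearMap_smul_coroot P g m i
    rw [hfix i] at h1
    change P.toLinearMap (g • m - m) (P.coroot i) = 0
    rw [map_sub, LinearMap.sub_apply, h1, sub_self]
  have hker : g • m - m ∈ LinearMap.ker P.RootForm := by
    rw [LinearMap.mem_ker]
    ext y
    rw [rootForm_apply_apply]
    simp [h0]
  have := (Submodule.disjoint_def.mp P.disjoint_rootSpan_ker_rootForm) _ hx hker
  exact sub_eq_zero.mp this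


/-- The product of the reflections along a word. -/
noncomputable def wprodR (l : List ι) : P.Aut := (l.map fun a => Equiv.reflection P a).prod

omit [CharZero R] [IsDomain R] [Finite ι] [P.IsCrystallographic] in
@[simp] lemma wprodR_nil : wprodR P [] = 1 := rfl

omit [CharZero R] [IsDomain R] [Finite ι] [P.IsCrystallographic] in
@[simp] lemma wprodR_cons (a : ι) (l : List ι) :
    wprodR P (a :: l) = Equiv.reflection P a * wprodR P l := by
  simp [wprodR]

omit [CharZero R] [IsDomain R] [Finite ι] [P.IsCrystallographic] in
@[simp] lemma wprodR_append (l l' : List ι) : wprodR P (l ++ l') = wprodR P l * wprodR P l' := by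
  simp [wprodR]

omit [CharZero R] [IsDomain R] [Finite ι] [P.IsCrystallographic] in
lemma wprodR_smul_idx (l : List ι) (i : ι) :
    wprodR P l • i = (l.map P.reflectionPerm).prod i := by
  induction l generalizing i with
  | nil => rfl
  | cons a l ih =>
    rw [wprodR_cons, mul_smul, ih, List.map_cons, List.prod_cons]
    rfl

omit [CharZero R] [IsDomain R] [Finite ι] [P.IsCrystallographic] in
lemma wprodR_mem_weylGroup (l : List ι) : wprodR P l ∈ P.weylGroup := by
  induction l with
  | nil => exact one_mem _
  | cons a l ih =>
    rw [wprodR_cons]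
    exact mul_mem (P.reflection_mem_weylGroup a) ih

omit [CharZero R] [IsDomain R] [Finite ι] [P.IsCrystallographic] in
lemma wprodR_mem_closure {S : Set ι} {l : List ι} (hl : ∀ a ∈ l, a ∈ S) :
    wprodR P l ∈ Subgroup.closure ((fun i : ι => Equiv.reflection P i) '' S) := by
  induction l with
  | nil => exact one_mem _
  | cons a l ih =>
    rw [wprodR_cons]
    exact mul_mem (Subgroup.subset_closure ⟨a, hl a List.mem_cons_self, rfl⟩)
      (ih fun b hb => hl b (List.mem_cons_of_mem _ hb))

omit [CharZero R] [IsDomain R] [Finite ι] [P.IsCrystallographic] in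
lemma exists_wprodR_eq {g : P.Aut} (hg : g ∈ P.weylGroup) : ∃ l : List ι, wprodR P l = g := by
  induction hg using weylGroup.induction with
  | mem i => exact ⟨[i], by simp⟩
  | one => exact ⟨[], rfl⟩
  | mul x y _ _ hx hy =>
    obtain ⟨l, rfl⟩ := hx
    obtain ⟨l', rfl⟩ := hy
    exact ⟨l ++ l', wprodR_append P l l'⟩

/-- Two words define the same element of the Weyl group iff they define the same permutation. -/
lemma wprodR_eq_iff (l l' : List ι) :
    wprodR P l = wprodR P l' ↔ (l.map P.reflectionPerm).prod = (l'.map P.reflectionPerm).prod := by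
  constructor
  · intro h
    ext i
    rw [← wprodR_smul_idx, ← wprodR_smul_idx, h]
  · intro h
    have h1 : (wprodR P l')⁻¹ * wprodR P l = 1 := by
      apply eq_one_of_smul_idx_eq P
        (mul_mem (inv_mem (wprodR_mem_weylGroup P l')) (wprodR_mem_weylGroup P l))
      intro i
      rw [mul_smul, wprodR_smul_idx, h, ← wprodR_smul_idx, inv_smul_smul]
    rw [← mul_one (wprodR P l'), ← h1, mul_inv_cancel_left]

end Weyl

end Groth.Agent.Lib.RootDZ_helper8
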