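import Mathlib.LinearAlgebra.RootSystem.Base
import Mathlib.LinearAlgebra.RootSystem.BaseExists
import Mathlib.LinearAlgebra.RootSystem.WeylGroup
import Groth.Prelude.Def_W4sga3xxiRoot

set_option autoImplicit false

/-!
# Helper library for root data in the sense of `RootD` (helper8)

Basic API around `RootD.natSpan`, `RootD.IsSimpleSys`, `RootD.posOf`, coefficients of roots with respect
to a simple system, for root pairings over `ℤ`.
-/

namespace Groth.Agent.Lib.RootD_helper8

open RootD Set

variable {ι M N : Type*} [AddCommGroup M] [AddCommGroup N] (P : RootPairing ι ℤ M N)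

include P in
lemma isReflexive : Module.IsReflexive ℤ M := .of_isPerfPair P.toLinearMap

include P in
lemma isTorsionFree : Module.IsTorsionFree ℤ M := by
  have := isReflexive P
  infer_instance

include P in
lemma isReflexive' : Module.IsReflexive ℤ N := .of_isPerfPair P.flip.toLinearMap

include P in
lemma isTorsionFree' : Module.IsTorsionFree ℤ N := by
  have := isReflexive' P
  infer_instance

lemma root_neg (i : ι) : P.root (P.reflectionPerm i i) = - P.root i := by simp

/-- Membership of the additive monoid generated by a set of roots, with natural coefficients. -/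
lemma mem_natSpan_iff_nat (S : Set ι) (x : M) :
    x ∈ natSpan P S ↔ ∃ c : ι →₀ ℕ, (c.support : Set ι) ⊆ S ∧
      Finsupp.linearCombination ℕ P.root c = x := by
  unfold natSpan
  rw [← Submodule.span_nat_eq_addSubmonoidClosure, Submodule.mem_toAddSubmonoid,
    Finsupp.mem_span_image_iff_linearCombination]
  simp only [Finsupp.mem_supported]

/-- Membership of the additive monoid generated by a set of roots, with non-negative integer
coefficients. -/
lemma mem_natSpan_iff (S : Set ι) (x : M) :
    x ∈ natSpan P S ↔ ∃ c : ι →₀ ℤ, (c.support : Set ι) ⊆ S ∧ (∀ j, 0 ≤ c j) ∧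
      Finsupp.linearCombination ℤ P.root c = x := by
  rw [mem_natSpan_iff_nat]
  constructor
  · rintro ⟨c, hc, rfl⟩
    refine ⟨c.mapRange (Nat.cast : ℕ → ℤ) (by simp), ?_, ?_, ?_⟩
    · intro j hj
      apply hc
      simp only [Finset.mem_coe, Finsupp.mem_support_iff, Finsupp.mapRange_apply, ne_eq,
        Nat.cast_eq_zero] at hj ⊢
      exact hj
    · intro j; simp
    · simp [Finsupp.linearCombination_apply, Finsupp.sum_mapRange_index]
  · rintro ⟨c, hc, hpos, rfl⟩
    refine ⟨c.mapRange Int.toNat (by simp), ?_, ?_⟩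
    · intro j hj
      apply hc
      simp only [Finset.mem_coe, Finsupp.mem_support_iff, Finsupp.mapRange_apply, ne_eq,
        Int.toNat_eq_zero, not_le] at hj ⊢
      exact hj.ne'
    · simp only [Finsupp.linearCombination_apply]
      rw [Finsupp.sum_mapRange_index (by simp)]
      refine Finsupp.sum_congr fun j _ => ?_
      rw [← natCast_zsmul, Int.toNat_of_nonneg (hpos j)]


section SimpleSys

variable {P} {Δ : Set ι}

/-- Uniqueness of the coefficients along a linearly independent set of roots. -/
lemma eq_of_linearCombination_eq (hli : LinearIndepOn ℤ P.root Δ) {c d : ι →₀ ℤ}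
    (hc : (c.support : Set ι) ⊆ Δ) (hd : (d.support : Set ι) ⊆ Δ)
    (h : Finsupp.linearCombination ℤ P.root c = Finsupp.linearCombination ℤ P.root d) : c = d := by
  classical
  rw [linearIndepOn_iff] at hli
  have hcd : c - d ∈ Finsupp.supported ℤ ℤ Δ := by
    rw [Finsupp.mem_supported]
    intro j hj
    have hj' : j ∈ c.support ∪ d.support := Finsupp.support_sub hj
    rcases Finset.mem_union.mp hj' with h1 | h1
    · exact hc h1
    · exact hd h1
  have := hli (c - d) hcd (by rw [map_sub, h, sub_self])
  exact sub_eq_zero.mp this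

/-- Every root has a coefficient vector along a simple system, with all coefficients of the same
sign. -/
lemma exists_coeff (hΔ : IsSimpleSys P Δ) (k : ι) :
    ∃ c : ι →₀ ℤ, (c.support : Set ι) ⊆ Δ ∧ Finsupp.linearCombination ℤ P.root c = P.root k ∧
      ((∀ j, 0 ≤ c j) ∨ (∀ j, c j ≤ 0)) := by
  rcases hΔ.mem_or_neg_mem k with h | h
  · obtain ⟨c, hc, hpos, hck⟩ := (mem_natSpan_iff P Δ _).mp h
    exact ⟨c, hc, hck, Or.inl hpos⟩
  · obtain ⟨c, hc, hpos, hck⟩ := (mem_natSpan_iff P Δ _).mp h
    refine ⟨-c, by simpa using hc, by rw [map_neg, hck, neg_neg], Or.inr fun j => ?_⟩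
    simpa using hpos j

/-- The coefficient vector of a root along a simple system. -/
noncomputable def coeff (hΔ : IsSimpleSys P Δ) (k : ι) : ι →₀ ℤ := (exists_coeff hΔ k).choose

lemma support_coeff (hΔ : IsSimpleSys P Δ) (k : ι) : ((coeff hΔ k).support : Set ι) ⊆ Δ :=
  (exists_coeff hΔ k).choose_spec.1

lemma linearCombination_coeff (hΔ : IsSimpleSys P Δ) (k : ι) :
    Finsupp.linearCombination ℤ P.root (coeff hΔ k) = P.root k :=
  (exists_coeff hΔ k).choose_spec.2.1

lemma coeff_nonneg_or_nonpos (hΔ : IsSimpleSys P Δ) (k : ι) :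
    (∀ j, 0 ≤ coeff hΔ k j) ∨ (∀ j, coeff hΔ k j ≤ 0) :=
  (exists_coeff hΔ k).choose_spec.2.2

lemma coeff_eq (hΔ : IsSimpleSys P Δ) {k : ι} {c : ι →₀ ℤ} (hc : (c.support : Set ι) ⊆ Δ)
    (hck : Finsupp.linearCombination ℤ P.root c = P.root k) : coeff hΔ k = c :=
  eq_of_linearCombination_eq hΔ.linInd (support_coeff hΔ k) hc
    ((linearCombination_coeff hΔ k).trans hck.symm)

lemma coeff_eq_zero_of_notMem (hΔ : IsSimpleSys P Δ) (k : ι) {j : ι} (hj : j ∉ Δ) :
    coeff hΔ k j = 0 := by
  by_contra h
  exact hj (support_coeff hΔ k (by simpa using h))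

lemma coeff_ne_zero (hΔ : IsSimpleSys P Δ) (k : ι) : coeff hΔ k ≠ 0 := by
  intro h
  have := linearCombination_coeff hΔ k
  rw [h, map_zero] at this
  exact P.ne_zero k this.symm

lemma coeff_self (hΔ : IsSimpleSys P Δ) {i : ι} (hi : i ∈ Δ) :
    coeff hΔ i = Finsupp.single i 1 := by
  apply coeff_eq hΔ
  · intro j hj
    have : j = i := by
      simpa using hj
    exact this ▸ hi
  · simp

lemma coeff_neg (hΔ : IsSimpleSys P Δ) (k : ι) :
    coeff hΔ (P.reflectionPerm k k) = - coeff hΔ k := by
  apply coeff_eq hΔ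
  · simpa using support_coeff hΔ k
  · rw [map_neg, linearCombination_coeff, root_neg]

lemma mem_posOf_iff (hΔ : IsSimpleSys P Δ) (k : ι) :
    k ∈ posOf P Δ ↔ ∀ j, 0 ≤ coeff hΔ k j := by
  constructor
  · intro h
    obtain ⟨c, hc, hpos, hck⟩ := (mem_natSpan_iff P Δ _).mp h
    rw [coeff_eq hΔ hc hck]
    exact hpos
  · intro h
    exact (mem_natSpan_iff P Δ _).mpr ⟨coeff hΔ k, support_coeff hΔ k, h,
      linearCombination_coeff hΔ k⟩

lemma mem_posOf_of_coeff_pos (hΔ : IsSimpleSys P Δ) {k j : ι} (hj : 0 < coeff hΔ k j) :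
    k ∈ posOf P Δ := by
  rw [mem_posOf_iff hΔ]
  rcases coeff_nonneg_or_nonpos hΔ k with h | h
  · exact h
  · exact absurd (h j) (not_le.mpr hj)

lemma neg_mem_posOf_of_coeff_neg (hΔ : IsSimpleSys P Δ) {k j : ι} (hj : coeff hΔ k j < 0) :
    P.reflectionPerm k k ∈ posOf P Δ := by
  apply mem_posOf_of_coeff_pos hΔ (j := j)
  rw [coeff_neg]
  simpa using hj

lemma exists_coeff_ne_zero (hΔ : IsSimpleSys P Δ) (k : ι) : ∃ j ∈ Δ, coeff hΔ k j ≠ 0 := by
  by_contra h
  push Not at h
  apply coeff_ne_zero hΔ k
  ext j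
  by_cases hj : j ∈ Δ
  · simpa using h j hj
  · simpa using coeff_eq_zero_of_notMem hΔ k hj

lemma mem_posOf_or_neg_mem (hΔ : IsSimpleSys P Δ) (k : ι) :
    k ∈ posOf P Δ ∨ P.reflectionPerm k k ∈ posOf P Δ := by
  obtain ⟨j, -, hj⟩ := exists_coeff_ne_zero hΔ k
  rcases lt_or_gt_of_ne hj with h | h
  · exact Or.inr (neg_mem_posOf_of_coeff_neg hΔ h)
  · exact Or.inl (mem_posOf_of_coeff_pos hΔ h)

lemma not_mem_posOf_and_neg_mem (hΔ : IsSimpleSys P Δ) (k : ι) :
    ¬ (k ∈ posOf P Δ ∧ P.reflectionPerm k k ∈ posOf P Δ) := by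
  rintro ⟨h1, h2⟩
  rw [mem_posOf_iff hΔ] at h1 h2
  obtain ⟨j, -, hj⟩ := exists_coeff_ne_zero hΔ k
  have h1j := h1 j
  have h2j := h2 j
  rw [coeff_neg] at h2j
  simp only [Finsupp.coe_neg, Pi.neg_apply, Left.nonneg_neg_iff] at h2j
  exact hj (le_antisymm h2j h1j)

lemma subset_posOf : Δ ⊆ posOf P Δ := fun _ hi =>
  AddSubmonoid.subset_closure (mem_image_of_mem _ hi)

lemma natSpan_mono {S T : Set ι} (h : S ⊆ T) : natSpan P S ≤ natSpan P T :=
  AddSubmonoid.closure_mono (image_mono h)

lemma natSpan_posOf : natSpan P (posOf P Δ) = natSpan P Δ := by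
  apply le_antisymm
  · refine AddSubmonoid.closure_le.mpr ?_
    rintro - ⟨k, hk, rfl⟩
    exact hk
  · exact natSpan_mono subset_posOf

lemma isPosSys_posOf (hΔ : IsSimpleSys P Δ) : IsPosSys P (posOf P Δ) where
  disjoint := fun i hi h => not_mem_posOf_and_neg_mem hΔ i ⟨hi, h⟩
  cover := mem_posOf_or_neg_mem hΔ
  sat := by
    intro k n hn h
    rw [natSpan_posOf] at h
    obtain ⟨c, hc, hpos, hck⟩ := (mem_natSpan_iff P Δ _).mp h
    have h1 : (n : ℤ) • coeff hΔ k = c := by
      apply eq_of_linearCombination_eq hΔ.linInd _ hc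
      · rw [map_smul, linearCombination_coeff, hck, natCast_zsmul]
      · intro l hl
        apply support_coeff hΔ k
        simp only [Finset.mem_coe, Finsupp.mem_support_iff, Finsupp.coe_smul, Pi.smul_apply,
          smul_eq_mul, ne_eq, mul_eq_zero, not_or] at hl ⊢
        exact hl.2
    rw [mem_posOf_iff hΔ]
    intro j
    have h2 := hpos j
    rw [← h1] at h2
    simp only [Finsupp.coe_smul, Pi.smul_apply, smul_eq_mul] at h2
    have hn' : (0 : ℤ) < n := by exact_mod_cast hn
    exact nonneg_of_mul_nonneg_right h2 hn'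

lemma posOf_subset_of_subset {S : Set ι} (hS : IsPosSys P S) (h : Δ ⊆ S) :
    posOf P Δ ⊆ S := by
  intro k hk
  apply hS.sat 1 one_pos
  rw [one_smul]
  exact natSpan_mono h hk

lemma eq_posOf_of_subset (hΔ : IsSimpleSys P Δ) {S : Set ι} (hS : IsPosSys P S) (h : Δ ⊆ S) :
    S = posOf P Δ := by
  apply subset_antisymm
  · intro k hk
    rcases mem_posOf_or_neg_mem hΔ k with h1 | h1
    · exact h1
    · exact absurd (posOf_subset_of_subset hS h h1) (hS.disjoint hk)
  · exact posOf_subset_of_subset hS h

lemma pairingIn_eq (i j : ι) : P.pairingIn ℤ i j = P.pairing i j := by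
  have := P.algebraMap_pairingIn ℤ i j
  simpa only [Algebra.algebraMap_self, RingHom.id_apply] using this

/-- A difference of two distinct simple roots is not a root. -/
lemma sub_notMem_range_root (hΔ : IsSimpleSys P Δ) {i j : ι} (hi : i ∈ Δ) (hj : j ∈ Δ)
    (hij : i ≠ j) : P.root i - P.root j ∉ range P.root := by
  rintro ⟨k, hk⟩
  have h1 : coeff hΔ k = Finsupp.single i 1 - Finsupp.single j 1 := by
    apply coeff_eq hΔ
    · intro l hl
      classical
      have hl' := Finsupp.support_sub hl
      simp only [Finset.mem_union, Finsupp.mem_support_iff, ne_eq] at hl'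
      rcases hl' with h | h
      · rw [Finsupp.single_apply] at h
        split_ifs at h with h'
        · exact h' ▸ hi
        · simp at h
      · rw [Finsupp.single_apply] at h
        split_ifs at h with h'
        · exact h' ▸ hj
        · simp at h
    · simp [hk]
  have hi' : coeff hΔ k i = 1 := by
    rw [h1]; simp [hij.symm]
  have hj' : coeff hΔ k j = -1 := by
    rw [h1]; simp [hij]
  rcases coeff_nonneg_or_nonpos hΔ k with h | h
  · have := h j; omega
  · have := h i; omega

/-- Distinct simple roots have non-positive pairing. -/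
lemma pairing_le_zero_of_mem_of_mem [Finite ι] (hΔ : IsSimpleSys P Δ) {i j : ι} (hi : i ∈ Δ)
    (hj : j ∈ Δ) (hij : i ≠ j) : P.pairing i j ≤ 0 := by
  by_contra h
  push Not at h
  rw [← pairingIn_eq] at h
  exact sub_notMem_range_root hΔ hi hj hij (P.root_sub_root_mem_of_pairingIn_pos h hij)

/-- The coefficients of the reflection of a root in a simple root. -/
lemma coeff_reflectionPerm (hΔ : IsSimpleSys P Δ) {i : ι} (hi : i ∈ Δ) (k : ι) :
    coeff hΔ (P.reflectionPerm i k) = coeff hΔ k - Finsupp.single i (P.pairing k i) := by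
  apply coeff_eq hΔ
  · intro l hl
    classical
    have hl' := Finsupp.support_sub hl
    simp only [Finset.mem_union, Finsupp.mem_support_iff, ne_eq] at hl'
    rcases hl' with h | h
    · exact support_coeff hΔ k (by simpa using h)
    · rw [Finsupp.single_apply] at h
      split_ifs at h with h'
      · exact h' ▸ hi
      · simp at h
  · rw [map_sub, linearCombination_coeff, Finsupp.linearCombination_single,
      P.root_reflectionPerm, P.reflection_apply_root]

lemma coeff_reflectionPerm_of_ne (hΔ : IsSimpleSys P Δ) {i : ι} (hi : i ∈ Δ) (k : ι) {j : ι}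
    (hj : j ≠ i) : coeff hΔ (P.reflectionPerm i k) j = coeff hΔ k j := by
  rw [coeff_reflectionPerm hΔ hi]
  simp [hj.symm]

/-- The reflection in a simple root sends a positive root with a non-zero coefficient at another
simple root to a positive root. -/
lemma reflectionPerm_mem_posOf (hΔ : IsSimpleSys P Δ) {i k j : ι} (hi : i ∈ Δ)
    (hk : k ∈ posOf P Δ) (hj : j ≠ i) (hkj : coeff hΔ k j ≠ 0) :
    P.reflectionPerm i k ∈ posOf P Δ := by
  apply mem_posOf_of_coeff_pos hΔ (j := j)
  rw [coeff_reflectionPerm_of_ne hΔ hi k hj]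
  exact lt_of_le_of_ne ((mem_posOf_iff hΔ k).mp hk j) hkj.symm

/-- If all the coefficients of a root away from `i` vanish, it is a multiple of the root `i`. -/
lemma root_eq_smul_of_coeff_eq_zero (hΔ : IsSimpleSys P Δ) {i k : ι}
    (h : ∀ j, j ≠ i → coeff hΔ k j = 0) : P.root k = coeff hΔ k i • P.root i := by
  have h1 : coeff hΔ k = Finsupp.single i (coeff hΔ k i) := by
    ext j
    by_cases hj : j = i
    · subst hj; simp
    · rw [h j hj, Finsupp.single_eq_of_ne hj]
  conv_lhs => rw [← linearCombination_coeff hΔ k, h1, Finsupp.linearCombination_single]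

lemma exists_ne_coeff_ne_zero_of_linearIndependent (hΔ : IsSimpleSys P Δ) {i k : ι}
    (hli : LinearIndependent ℤ ![P.root k, P.root i]) : ∃ j, j ≠ i ∧ coeff hΔ k j ≠ 0 := by
  by_contra h
  push Not at h
  have h1 := root_eq_smul_of_coeff_eq_zero hΔ h
  rw [LinearIndependent.pair_iff] at hli
  have := hli 1 (- coeff hΔ k i) (by rw [one_smul, neg_smul, ← h1, add_neg_cancel])
  exact one_ne_zero this.1

/-- A positive root pairs positively with a simple coroot at which it has a positive
coefficient. -/
lemma exists_mem_pairing_pos (hΔ : IsSimpleSys P Δ) {k : ι} (hk : k ∈ posOf P Δ) :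
    ∃ j ∈ Δ, 0 < coeff hΔ k j ∧ 0 < P.pairing j k := by
  have h1 := congrArg (P.coroot' k) (linearCombination_coeff hΔ k)
  rw [Finsupp.linearCombination_apply, map_finsuppSum] at h1
  simp only [map_smul, RootPairing.root_coroot'_eq_pairing, RootPairing.pairing_same,
    smul_eq_mul] at h1
  have hpos := (mem_posOf_iff hΔ k).mp hk
  by_contra hcon
  push Not at hcon
  have : (coeff hΔ k).sum (fun i a => a * P.pairing i k) ≤ 0 := by
    apply Finset.sum_nonpos
    intro j hj
    have hjΔ : j ∈ Δ := support_coeff hΔ k hj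
    have hj0 : coeff hΔ k j ≠ 0 := by simpa using hj
    have hj' : 0 < coeff hΔ k j := lt_of_le_of_ne (hpos j) hj0.symm
    exact mul_nonpos_of_nonneg_of_nonpos hj'.le (hcon j hjΔ hj')
  omega

lemma pairing_pos_iff [Finite ι] (i j : ι) : 0 < P.pairing i j ↔ 0 < P.pairing j i := by
  rw [← pairingIn_eq, ← pairingIn_eq]
  exact P.zero_lt_pairingIn_iff' ℤ

/-- If two roots are proportional (with integer ratio), the ratio is `±1` or `±2`. -/
lemma eq_of_root_eq_smul {i k : ι} {c : ℤ} (h : P.root k = c • P.root i) :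
    c = 1 ∨ c = -1 ∨ c = 2 ∨ c = -2 := by
  have h1 := congrArg (P.coroot' k) h
  simp only [map_smul, RootPairing.root_coroot'_eq_pairing, RootPairing.pairing_same,
    smul_eq_mul] at h1
  have hdvd : c ∣ 2 := ⟨_, h1⟩
  have hc : c.natAbs ∣ 2 := by
    have := Int.natAbs_dvd_natAbs.mpr hdvd
    simpa using this
  have hle : c.natAbs ≤ 2 := Nat.le_of_dvd (by norm_num) hc
  have hne : c.natAbs ≠ 0 := by
    intro h0
    rw [h0] at hc
    omega
  omega

/-- A positive root which is neither a simple root `i` nor twice it is sent to a positive root by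
the reflection in `i`. -/
lemma reflectionPerm_mem_posOf' (hΔ : IsSimpleSys P Δ) {i k : ι} (hi : i ∈ Δ)
    (hk : k ∈ posOf P Δ) (h1 : k ≠ i) (h2 : P.root k ≠ (2 : ℤ) • P.root i) :
    P.reflectionPerm i k ∈ posOf P Δ := by
  by_cases h : ∃ j, j ≠ i ∧ coeff hΔ k j ≠ 0
  · obtain ⟨j, hj, hkj⟩ := h
    exact reflectionPerm_mem_posOf hΔ hi hk hj hkj
  · push Not at h
    exfalso
    have h3 := root_eq_smul_of_coeff_eq_zero hΔ h
    have h4 := (mem_posOf_iff hΔ k).mp hk i
    rcases eq_of_root_eq_smul h3 with h5 | h5 | h5 | h5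
    · rw [h5, one_smul] at h3
      exact h1 (P.root.injective h3)
    · omega
    · rw [h5] at h3
      exact h2 h3
    · omega

/-- Coefficients are additive along sums of roots which are roots. -/
lemma coeff_add (hΔ : IsSimpleSys P Δ) {i j k : ι} (h : P.root k = P.root i + P.root j) :
    coeff hΔ k = coeff hΔ i + coeff hΔ j := by
  apply coeff_eq hΔ
  · intro l hl
    classical
    have hl' := Finsupp.support_add hl
    simp only [Finset.mem_union] at hl'
    rcases hl' with h | h
    · exact support_coeff hΔ i h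
    · exact support_coeff hΔ j h
  · rw [map_add, linearCombination_coeff, linearCombination_coeff, h]

/-- A positive root has a coefficient which is at least one. -/
lemma exists_one_le_coeff (hΔ : IsSimpleSys P Δ) {k : ι} (hk : k ∈ posOf P Δ) :
    ∃ j ∈ Δ, 1 ≤ coeff hΔ k j := by
  obtain ⟨j, hj, hkj⟩ := exists_coeff_ne_zero hΔ k
  have := (mem_posOf_iff hΔ k).mp hk j
  exact ⟨j, hj, by omega⟩

/-- A simple root is not the sum of two positive roots. -/
lemma not_exists_add_of_mem (hΔ : IsSimpleSys P Δ) {k : ι} (hk : k ∈ Δ) :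
    ¬ ∃ i j : ι, i ∈ posOf P Δ ∧ j ∈ posOf P Δ ∧ P.root k = P.root i + P.root j := by
  rintro ⟨i, j, hi, hj, h⟩
  have h1 := coeff_add hΔ h
  rw [coeff_self hΔ hk] at h1
  obtain ⟨l, -, hl⟩ := exists_one_le_coeff hΔ hi
  obtain ⟨l', -, hl'⟩ := exists_one_le_coeff hΔ hj
  have hi0 := (mem_posOf_iff hΔ i).mp hi
  have hj0 := (mem_posOf_iff hΔ j).mp hj
  have e1 := DFunLike.congr_fun h1 l
  have e2 := DFunLike.congr_fun h1 l'
  simp only [Finsupp.coe_add, Pi.add_apply] at e1 e2
  have hlk : l = k := by
    by_contra hne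
    rw [Finsupp.single_eq_of_ne hne] at e1
    have := hj0 l
    omega
  have hlk' : l' = k := by
    by_contra hne
    rw [Finsupp.single_eq_of_ne hne] at e2
    have := hi0 l'
    omega
  subst hlk
  subst hlk'
  rw [Finsupp.single_eq_same] at e1
  omega

/-- A positive non-simple root is the sum of a positive root and a simple root. -/
lemma exists_sub_simple [Finite ι] (hΔ : IsSimpleSys P Δ) {k : ι} (hk : k ∈ posOf P Δ)
    (hkΔ : k ∉ Δ) :
    ∃ j ∈ Δ, ∃ l ∈ posOf P Δ, P.root k = P.root l + P.root j ∧ 0 < P.pairing k j := by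
  obtain ⟨j, hj, hcj, hjk⟩ := exists_mem_pairing_pos hΔ hk
  have hkj : 0 < P.pairing k j := (pairing_pos_iff j k).mp hjk
  have hne : k ≠ j := by rintro rfl; exact hkΔ hj
  obtain ⟨l, hl⟩ := P.root_sub_root_mem_of_pairingIn_pos (by rwa [pairingIn_eq]) hne
  refine ⟨j, hj, l, ?_, by rw [hl]; abel, hkj⟩
  have h1 : coeff hΔ k = coeff hΔ l + coeff hΔ j := coeff_add hΔ (by rw [hl]; abel)
  rw [coeff_self hΔ hj] at h1
  rw [mem_posOf_iff hΔ]
  intro x
  have e1 := DFunLike.congr_fun h1 x
  simp only [Finsupp.coe_add, Pi.add_apply] at e1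
  have hx := (mem_posOf_iff hΔ k).mp hk x
  by_cases hxj : x = j
  · subst hxj
    rw [Finsupp.single_eq_same] at e1
    omega
  · rw [Finsupp.single_eq_of_ne hxj] at e1
    omega

end SimpleSys


section Chain

variable {P}

/-- If a root is a non-negative integer combination of roots `a x`, it can be reached by successively
adding roots among the `a x` (with non-zero coefficient) so that every partial sum is a root. -/
lemma exists_chain [Finite ι] {κ : Type*} (s : Finset κ) (a : κ → ι) :
    ∀ (n : ℕ) (m : κ → ℕ) (k : ι), ∑ x ∈ s, m x = n →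
      P.root k = ∑ x ∈ s, m x • P.root (a x) →
      ∃ (l : ℕ) (b : ℕ → κ), 0 < l ∧ (∀ q < l, b q ∈ s ∧ 0 < m (b q)) ∧
        (∀ p < l, ∃ j, P.root j = ∑ q ∈ Finset.range (p + 1), P.root (a (b q))) ∧
        P.root k = ∑ q ∈ Finset.range l, P.root (a (b q)) := by
  classical
  intro n
  induction n with
  | zero =>
    intro m k hm hk
    exfalso
    have h0 : ∀ x ∈ s, m x = 0 := by
      intro x hx
      exact (Finset.sum_eq_zero_iff.mp hm) x hx
    apply P.ne_zero k
    rw [hk]
    exact Finset.sum_eq_zero fun x hx => by rw [h0 x hx, zero_smul]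
  | succ n ih =>
    intro m k hm hk
    -- find `x` with `m x > 0` and positive pairing with `k`
    have h1 := congrArg (P.coroot' k) hk
    simp only [map_sum, map_nsmul, RootPairing.root_coroot'_eq_pairing, RootPairing.pairing_same,
      nsmul_eq_mul] at h1
    obtain ⟨x, hx, hxpos⟩ : ∃ x ∈ s, 0 < (m x : ℤ) * P.pairing (a x) k := by
      by_contra hcon
      push Not at hcon
      have := Finset.sum_nonpos hcon
      omega
    have hmx : 0 < m x := by
      rcases Nat.eq_zero_or_pos (m x) with h0 | h0
      · simp [h0] at hxpos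
      · exact h0
    have hpx : 0 < P.pairing (a x) k := by
      by_contra hcon
      push Not at hcon
      have : (0 : ℤ) ≤ m x := by positivity
      exact absurd (mul_nonpos_of_nonneg_of_nonpos this hcon) (not_le.mpr hxpos)
    by_cases hax : a x = k
    · -- the chain of length one
      refine ⟨1, fun _ => x, one_pos, fun q _ => ⟨hx, hmx⟩, fun p hp => ⟨k, ?_⟩, ?_⟩
      · have : p = 0 := by omega
        subst this
        simp [hax]
      · simp [hax]
    · -- subtract `a x`
      obtain ⟨k', hk'⟩ : P.root k - P.root (a x) ∈ Set.range P.root := by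
        have h3 := P.root_sub_root_mem_of_pairingIn_pos (by rwa [pairingIn_eq]) hax
        rw [← RootPairing.neg_mem_range_root_iff, neg_sub]
        exact h3
      let m' : κ → ℕ := Function.update m x (m x - 1)
      have hm'x : m' x = m x - 1 := Function.update_self ..
      have hm'ne : ∀ y, y ≠ x → m' y = m y := fun y hy => Function.update_of_ne hy ..
      have hsum : ∑ y ∈ s, m' y = n := by
        have e1 : ∑ y ∈ s, m y = m x + ∑ y ∈ s.erase x, m y := (Finset.add_sum_erase s m hx).symm
        have e2 : ∑ y ∈ s, m' y = m' x + ∑ y ∈ s.erase x, m' y :=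
          (Finset.add_sum_erase s m' hx).symm
        have e3 : ∑ y ∈ s.erase x, m' y = ∑ y ∈ s.erase x, m y :=
          Finset.sum_congr rfl fun y hy => hm'ne y (Finset.ne_of_mem_erase hy)
        omega
      have hroot : P.root k' = ∑ y ∈ s, m' y • P.root (a y) := by
        have e1 : ∑ y ∈ s, m y • P.root (a y) =
            m x • P.root (a x) + ∑ y ∈ s.erase x, m y • P.root (a y) :=
          (Finset.add_sum_erase s (fun y => m y • P.root (a y)) hx).symm
        have e2 : ∑ y ∈ s, m' y • P.root (a y) =
            m' x • P.root (a x) + ∑ y ∈ s.erase x, m' y • P.root (a y) :=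
          (Finset.add_sum_erase s (fun y => m' y • P.root (a y)) hx).symm
        have e3 : ∑ y ∈ s.erase x, m' y • P.root (a y) = ∑ y ∈ s.erase x, m y • P.root (a y) :=
          Finset.sum_congr rfl fun y hy => by rw [hm'ne y (Finset.ne_of_mem_erase hy)]
        have e4 : m x • P.root (a x) = m' x • P.root (a x) + P.root (a x) := by
          rw [hm'x, ← succ_nsmul, Nat.sub_add_cancel hmx]
        rw [hk', hk, e1, e2, e3, e4]
        abel
      obtain ⟨l, b, hl, hb, hpart, htot⟩ := ih m' k' hsum hroot
      refine ⟨l + 1, fun q => if q < l then b q else x, Nat.succ_pos _, ?_, ?_, ?_⟩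
      · intro q hq
        by_cases hql : q < l
        · simp only [hql, if_true]
          obtain ⟨h1, h2⟩ := hb q hql
          refine ⟨h1, ?_⟩
          by_cases hbx : b q = x
          · rw [hbx]; exact hmx
          · rw [← hm'ne _ hbx]; exact h2
        · simp only [hql, if_false]
          exact ⟨hx, hmx⟩
      · intro p hp
        by_cases hpl : p < l
        · obtain ⟨j, hj⟩ := hpart p hpl
          refine ⟨j, hj.trans (Finset.sum_congr rfl fun q hq => ?_)⟩
          have : q < l := by
            have := Finset.mem_range.mp hq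
            omega
          simp [this]
        · have hpl' : p = l := by omega
          subst hpl'
          refine ⟨k, ?_⟩
          rw [Finset.sum_range_succ]
          simp only [lt_self_iff_false, if_false]
          have : ∑ q ∈ Finset.range p, P.root (a (if q < p then b q else x)) =
              ∑ q ∈ Finset.range p, P.root (a (b q)) :=
            Finset.sum_congr rfl fun q hq => by simp [Finset.mem_range.mp hq]
          rw [this, ← htot, hk']
          abel
      · rw [Finset.sum_range_succ]
        simp only [lt_self_iff_false, if_false]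
        have : ∑ q ∈ Finset.range l, P.root (a (if q < l then b q else x)) =
            ∑ q ∈ Finset.range l, P.root (a (b q)) :=
          Finset.sum_congr rfl fun q hq => by simp [Finset.mem_range.mp hq]
        rw [this, ← htot, hk']
        abel

/-- A closed set of roots contains every root in the additive monoid it generates. -/
lemma mem_of_mem_natSpan_of_closed [Finite ι] {S : Set ι} (hcl : IsClosedSub P S) {k : ι}
    (hk : P.root k ∈ natSpan P S) : k ∈ S := by
  obtain ⟨c, hc, hck⟩ := (mem_natSpan_iff_nat P S _).mp hk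
  rw [Finsupp.linearCombination_apply, Finsupp.sum] at hck
  obtain ⟨l, b, hl, hb, hpart, htot⟩ := exists_chain (P := P) c.support id _ c k rfl hck.symm
  have key : ∀ p < l, ∀ j, P.root j = ∑ q ∈ Finset.range (p + 1), P.root (id (b q)) → j ∈ S := by
    intro p
    induction p with
    | zero =>
      intro _ j hj
      simp only [zero_add, Finset.range_one, Finset.sum_singleton, id] at hj
      rw [P.root.injective hj]
      exact hc (hb 0 hl).1
    | succ p ih =>
      intro hp j hj
      obtain ⟨j', hj'⟩ := hpart p (by omega)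
      have hj'S := ih (by omega) j' hj'
      rw [Finset.sum_range_succ, ← hj'] at hj
      exact hcl hj'S (hc (hb (p + 1) hp).1) hj
  obtain ⟨l', rfl⟩ : ∃ l', l = l' + 1 := ⟨l - 1, by omega⟩
  exact key l' (by omega) k htot

end Chain

end Groth.Agent.Lib.RootD_helper8
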