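import Mathlib
import Groth.Agent.Lib.RootOne_lead

namespace Groth.Agent.Lib.RootOne2

theorem stepB {E : Type*} [CommRing E] [NoZeroSMulDivisors ℤ E] (w : E) (M : ℕ) (hM : 0 < M)
    (hw : w ^ M = 1) (hnil : IsNilpotent (w - 1)) : w = 1 := by
  have hmem : w - 1 ∈ nilradical E := (mem_nilradical).mpr hnil
  obtain ⟨g, hg⟩ : ∃ g : E, g = ∑ i ∈ Finset.range M, w ^ i := ⟨_, rfl⟩
  have h1 : g * (w - 1) = 0 := by rw [hg, geom_sum_mul, hw, sub_self]
  have h2 : g - (M : E) ∈ nilradical E := by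
    have h2a : g - (M : E) = ∑ i ∈ Finset.range M, (w ^ i - 1) := by
      rw [Finset.sum_sub_distrib, hg]; simp
    rw [h2a]
    refine Ideal.sum_mem _ fun i _ => ?_
    have h2b : w ^ i - 1 = (∑ j ∈ Finset.range i, w ^ j) * (w - 1) := (geom_sum_mul w i).symm
    rw [h2b]; exact Ideal.mul_mem_left _ _ hmem
  obtain ⟨k, hk⟩ := (mem_nilradical).mp h2
  have h3 : (M : E) * (w - 1) = (-(g - (M : E))) * (w - 1) := by linear_combination h1
  have h4 : ∀ j : ℕ, (M : E) ^ j * (w - 1) = (-(g - (M : E))) ^ j * (w - 1) := by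
    intro j
    induction j with
    | zero => simp
    | succ j ih =>
      calc (M : E) ^ (j + 1) * (w - 1) = (M : E) ^ j * ((M : E) * (w - 1)) := by ring
        _ = (M : E) ^ j * ((-(g - (M : E))) * (w - 1)) := by rw [h3]
        _ = (-(g - (M : E))) * ((M : E) ^ j * (w - 1)) := by ring
        _ = (-(g - (M : E))) * ((-(g - (M : E))) ^ j * (w - 1)) := by rw [ih]
        _ = (-(g - (M : E))) ^ (j + 1) * (w - 1) := by ring
  have h5 : (M : E) ^ k * (w - 1) = 0 := by rw [h4 k, neg_pow, hk]; simp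
  have h6 : ((M ^ k : ℕ) : ℤ) • (w - 1) = 0 := by
    rw [zsmul_eq_mul]; push_cast; exact h5
  have h7 := (smul_eq_zero.mp h6).resolve_left (by exact_mod_cast (pow_pos hM k).ne')
  exact sub_eq_zero.mp h7

theorem aux {E K : Type*} [CommRing E] [Field K] [CharZero K] (φ : E →+* K)
    (hint : ∀ x : E, IsIntegral ℤ x) (w t : E) (M N : ℕ) (hM : 0 < M) (hw : w ^ M = 1)
    (hN : 3 ≤ N) (h : 1 - w = (N : E) * t) : φ w = 1 := by
  have hζ : φ w = 1 + (N : K) * φ (-t) := by
    have hw' : w = 1 - (N : E) * t := by linear_combination -h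
    conv_lhs => rw [hw']
    simp only [map_sub, map_one, map_mul, map_natCast, map_neg]
    ring
  have hγ : IsIntegral ℤ (φ (-t)) := map_isIntegral_int φ (hint (-t))
  have hζM : φ w ^ M = 1 := by rw [← map_pow, hw, map_one]
  exact Groth.Agent.Lib.RootOne.main (φ w) (φ (-t)) M N hM hζM hγ hN hζ

theorem stepA {E : Type*} [CommRing E] [NoZeroSMulDivisors ℤ E] [Module.Finite ℤ E]
    (w t : E) (M N : ℕ) (hM : 0 < M) (hw : w ^ M = 1) (hN : 3 ≤ N)
    (h : 1 - w = (N : E) * t) : w = 1 := by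
  apply stepB w M hM hw
  have hnil : w - 1 ∈ (⊥ : Ideal E).radical := by
    rw [← Ideal.sInf_minimalPrimes, Ideal.mem_sInf]
    intro P hP
    haveI : P.IsPrime := hP.1.1
    have hdisj := Ideal.disjoint_nonZeroDivisors_of_mem_minimalPrimes (R := E) (p := P) hP
    have hnz : ∀ z : ℕ, z ≠ 0 → (z : E) ∉ P := by
      intro z hz hzP
      have hzn : (z : E) ∈ nonZeroDivisors E := by
        rw [mem_nonZeroDivisors_iff_right]
        intro x hx
        have : ((z : ℕ) : ℤ) • x = 0 := by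
          rw [zsmul_eq_mul]; push_cast; rw [mul_comm]; exact hx
        exact (smul_eq_zero.mp this).resolve_left (by exact_mod_cast hz)
      exact Set.disjoint_left.mp hdisj hzP hzn
    haveI : CharZero (E ⧸ P) := charZero_of_inj_zero (by
      intro z hz
      by_contra hz0
      apply hnz z hz0
      rw [← Ideal.Quotient.eq_zero_iff_mem]
      simpa using hz)
    haveI : CharZero (FractionRing (E ⧸ P)) :=
      charZero_of_injective_algebraMap (IsFractionRing.injective (E ⧸ P) (FractionRing (E ⧸ P)))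
    let φ : E →+* FractionRing (E ⧸ P) :=
      (algebraMap (E ⧸ P) (FractionRing (E ⧸ P))).comp (Ideal.Quotient.mk P)
    have h1 := aux φ (fun x => IsIntegral.of_finite ℤ x) w t M N hM hw hN h
    have h2 : φ (w - 1) = 0 := by rw [map_sub, h1, map_one, sub_self]
    have h3 : (Ideal.Quotient.mk P) (w - 1) = 0 := by
      apply IsFractionRing.injective (E ⧸ P) (FractionRing (E ⧸ P))
      rw [map_zero]; exact h2
    exact Ideal.Quotient.eq_zero_iff_mem.mp h3
  obtain ⟨k, hk⟩ := hnil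
  exact ⟨k, by simpa using hk⟩

theorem main (E : Type) [CommRing E] [NoZeroSMulDivisors ℤ E] [Module.Finite ℤ E] (u : E) (m : ℕ)
    (hm : 0 < m) (hu : u ^ m = 1) (n : ℕ) (hn : 2 ≤ n)
    (hcong : ∃ v : E, 1 - u = (n : E) * v) :
    u ^ 2 = 1 ∧ (3 ≤ n → u = 1) := by
  obtain ⟨v, hv⟩ := hcong
  have h3 : 3 ≤ n → u = 1 := fun h3 => stepA u v m n hm hu h3 hv
  refine ⟨?_, h3⟩
  by_cases hn3 : 3 ≤ n
  · rw [h3 hn3, one_pow]
  · have hn2 : n = 2 := by omega
    subst hn2
    have hu2 : (u ^ 2) ^ m = 1 := by rw [← pow_mul, mul_comm, pow_mul, hu, one_pow]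
    refine stepA (u ^ 2) (v * (1 - v)) m 4 hm hu2 (by norm_num) ?_
    have hu' : u = 1 - (2 : E) * v := by
      have := hv; push_cast at this; linear_combination -this
    rw [hu']; push_cast; ring

end Groth.Agent.Lib.RootOne2
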