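import Mathlib
import Groth.Agent.Lib.CSACentralizer_helper6

/-!
# Irreducible factors of `X^m - c` over a field containing the `m`-th roots of unity (helper6)
-/

namespace Groth.Agent.Lib.RootPow

open Polynomial

/-- An irreducible monic factor of `X^m - c` (`c ≠ 0`) over a field in which `X^m - 1` splits is
of the form `X^r - a`. -/
theorem irreducible_factor_eq (K : Type*) [Field K] (m : ℕ) (hm : 0 < m)
    (hK : (X ^ m - 1 : K[X]).Splits) (c : K) (hc : c ≠ 0) (f : K[X]) (hirr : Irreducible f)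
    (hmonic : f.Monic) (hdvd : f ∣ X ^ m - C c) :
    ∃ a : K, f = X ^ f.natDegree - C a := by
  classical
  obtain ⟨r, hr⟩ : ∃ r, r = f.natDegree := ⟨_, rfl⟩
  rw [← hr]
  obtain ⟨ι, hι⟩ : ∃ ι : K →+* AlgebraicClosure K, ι = algebraMap K (AlgebraicClosure K) :=
    ⟨_, rfl⟩
  have hsplit : (f.map ι).Splits := IsAlgClosed.splits _
  have hmonicE : (f.map ι).Monic := hmonic.map ι
  have hdegE : (f.map ι).natDegree = r := by rw [hr, natDegree_map]
  have hr0 : r ≠ 0 := by
    rw [hr]
    intro h0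
    exact hirr.not_isUnit (by
      rw [eq_C_of_natDegree_eq_zero h0] at hmonic ⊢
      have h1 : f.coeff 0 = 1 := by
        have := hmonic.leadingCoeff
        rwa [leadingCoeff_C] at this
      rw [h1]
      exact isUnit_one)
  have hcard : (f.map ι).roots.card = r := by rw [← hsplit.natDegree_eq_card_roots, hdegE]
  have hfE0 : f.map ι ≠ 0 := hmonicE.ne_zero
  -- every root y satisfies y ^ m = ι c
  have hroot : ∀ y ∈ (f.map ι).roots, y ^ m = ι c := by
    intro y hy
    have h1 : (f.map ι).IsRoot y := (mem_roots hfE0).1 hy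
    obtain ⟨g, hg⟩ := hdvd
    have h2 : ((X ^ m - C c : K[X]).map ι).eval y = 0 := by
      rw [hg, Polynomial.map_mul, eval_mul, h1.eq_zero, zero_mul]
    simpa [sub_eq_zero] using h2
  have hιc : ι c ≠ 0 := by
    rw [Ne, map_eq_zero]; exact hc
  have hroot0 : ∀ y ∈ (f.map ι).roots, y ≠ 0 := by
    intro y hy h0
    have := hroot y hy
    rw [h0, zero_pow hm.ne'] at this
    exact hιc this.symm
  obtain ⟨y₀, hy₀⟩ : ∃ y₀, y₀ ∈ (f.map ι).roots := by
    apply Multiset.card_pos_iff_exists_mem.1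
    rw [hcard]; omega
  have hy₀0 : y₀ ≠ 0 := hroot0 y₀ hy₀
  have hX1 : (X ^ m - 1 : K[X]) ≠ 0 := by
    have : (X ^ m - 1 : K[X]) = X ^ m - C 1 := by simp
    rw [this]
    exact X_pow_sub_C_ne_zero hm 1
  have hquot : ∀ y ∈ (f.map ι).roots, y / y₀ ∈ ι.range := by
    intro y hy
    apply hK.mem_range_of_isRoot hX1
    rw [IsRoot.def]
    simp only [Polynomial.map_sub, Polynomial.map_pow, map_X, Polynomial.map_one, eval_sub,
      eval_pow, eval_X, eval_one]
    rw [div_pow, hroot y hy, hroot y₀ hy₀, div_self hιc, sub_self]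
  -- product of the roots
  have hprod : (f.map ι).roots.prod =
      ((f.map ι).roots.map fun y => y / y₀).prod * y₀ ^ r := by
    have h1 : (f.map ι).roots = (f.map ι).roots.map fun y => y / y₀ * y₀ := by
      conv_lhs => rw [← Multiset.map_id (f.map ι).roots]
      apply Multiset.map_congr rfl
      intro y _
      simp [div_mul_cancel₀ _ hy₀0]
    conv_lhs => rw [h1]
    rw [Multiset.prod_map_mul, Multiset.map_const', Multiset.prod_replicate, hcard]
  have hmem : ((f.map ι).roots.map fun y => y / y₀).prod ∈ ι.range := by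
    apply multiset_prod_mem
    intro a ha
    obtain ⟨y, hy, rfl⟩ := Multiset.mem_map.1 ha
    exact hquot y hy
  obtain ⟨b, hb⟩ := hmem
  have hb0 : ι b ≠ 0 := by
    rw [hb]
    apply Multiset.prod_ne_zero
    intro h0
    obtain ⟨y, hy, hy0⟩ := Multiset.mem_map.1 h0
    exact (div_ne_zero (hroot0 y hy) hy₀0) hy0
  have hcoeff : ι (f.coeff 0) = (-1) ^ r * (ι b * y₀ ^ r) := by
    have := hsplit.coeff_zero_eq_prod_roots_of_monic hmonicE
    rw [coeff_map, hdegE, hprod, ← hb] at this
    exact this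
  obtain ⟨a, ha⟩ : ∃ a : K, a = f.coeff 0 / ((-1) ^ r * b) := ⟨_, rfl⟩
  have hy₀r : y₀ ^ r = ι a := by
    rw [ha, map_div₀, hcoeff, map_mul, map_pow, map_neg, map_one]
    have h1 : ((-1 : AlgebraicClosure K) ^ r) ≠ 0 := pow_ne_zero _ (by simp)
    field_simp
  refine ⟨a, ?_⟩
  have hgmonic : (X ^ r - C a : K[X]).Monic := monic_X_pow_sub_C a hr0
  have hgdeg : (X ^ r - C a : K[X]).natDegree = r := natDegree_X_pow_sub_C
  have hfy₀ : aeval y₀ f = 0 := by
    have h1 : (f.map ι).IsRoot y₀ := (mem_roots hfE0).1 hy₀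
    rw [IsRoot.def, eval_map, hι] at h1
    exact h1
  have hfmin : f = minpoly K y₀ := minpoly.eq_of_irreducible_of_monic hirr hfy₀ hmonic
  have hgy₀ : aeval y₀ (X ^ r - C a : K[X]) = 0 := by
    simp only [map_sub, map_pow, aeval_X, aeval_C]
    rw [hy₀r, hι, sub_self]
  have hfg : f ∣ X ^ r - C a := by
    rw [hfmin]
    exact minpoly.dvd K y₀ hgy₀
  exact (eq_of_monic_of_dvd_of_natDegree_le hmonic hgmonic hfg (by rw [hgdeg, hr])).symm


/-- In a central division algebra of dimension `n ^ 2`, the degree of every element divides `n`. -/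
theorem natDegree_minpoly_dvd (K : Type*) [Field K] (A : Type*) [DivisionRing A] [Algebra K A]
    [Algebra.IsCentral K A] [FiniteDimensional K A] (n : ℕ) (hn : Module.finrank K A = n ^ 2)
    (x : A) : (minpoly K x).natDegree ∣ n := by
  classical
  have hint : IsIntegral K x := IsIntegral.of_finite K x
  obtain ⟨f, hf⟩ : ∃ f, f = minpoly K x := ⟨_, rfl⟩
  rw [← hf]
  have hirr : Irreducible f := hf ▸ minpoly.irreducible hint
  have hmonic : f.Monic := hf ▸ minpoly.monic hint
  have hfne : f ≠ 0 := hmonic.ne_zero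
  haveI : Fact (Irreducible f) := ⟨hirr⟩
  let φ : AdjoinRoot f →ₐ[K] A := Ideal.Quotient.liftₐ (Ideal.span {f}) (Polynomial.aeval x) (by
    intro g hg
    obtain ⟨q, rfl⟩ := Ideal.mem_span_singleton.1 hg
    rw [map_mul, hf, minpoly.aeval, zero_mul])
  have hfinL : Module.finrank K (AdjoinRoot f) = f.natDegree := by
    rw [(AdjoinRoot.powerBasis hfne).finrank, AdjoinRoot.powerBasis_dim hfne]
  obtain ⟨C', hC'⟩ : ∃ C' : Subalgebra K A, C' = Subalgebra.centralizer K (Set.range φ) :=
    ⟨_, rfl⟩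
  have hC : ∀ c, c ∈ C' ↔ ∀ b, φ b * c = c * φ b := by
    intro c
    rw [hC', Subalgebra.mem_centralizer_iff]
    constructor
    · intro h b
      exact h (φ b) ⟨b, rfl⟩
    · rintro h _ ⟨b, rfl⟩
      exact h b
  obtain ⟨-, hdim⟩ := Groth.Agent.Lib.CSACentralizer.centralizer_main φ C' hC
  have hφmem : ∀ b, φ b ∈ C' := by
    intro b
    rw [hC]
    intro b'
    rw [← map_mul, ← map_mul, mul_comm]
  let φ' : AdjoinRoot f →ₐ[K] C' := φ.codRestrict C' hφmem
  have hinj : Function.Injective φ' := (φ' : AdjoinRoot f →+* C').injective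
  have hfinL' : Module.finrank K φ'.range = f.natDegree := by
    rw [← hfinL]
    exact (AlgEquiv.ofInjective φ' hinj).toLinearEquiv.finrank_eq.symm
  have hdvd : Module.finrank K φ'.range ∣ Module.finrank K C' := by
    letI : DivisionRing C' := divisionRingOfFiniteDimensional K C'
    letI : DivisionRing φ'.range := divisionRingOfFiniteDimensional K φ'.range
    have := Module.finrank_mul_finrank K φ'.range C'
    exact Dvd.intro _ this
  rw [hfinL'] at hdvd
  obtain ⟨q, hq⟩ := hdvd
  rw [hn, hfinL, hq] at hdim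
  have h2 : f.natDegree ^ 2 ∣ n ^ 2 := ⟨q, by rw [hdim]; ring⟩
  exact (Nat.pow_dvd_pow_iff two_ne_zero).1 h2

end Groth.Agent.Lib.RootPow
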