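import Mathlib
import Groth.Agent.Lib.RootPow_helper6
import Groth.Agent.Lib.CSABaseChange_helper6
import Groth.Agent.Lib.CSAModule_helper6

/-!
# Degrees of irreducible factors of minimal polynomials in central simple algebras (helper6)
-/

namespace Groth.Agent.Lib.RootPow2

open Polynomial Module
open scoped TensorProduct
open Groth.Agent.Lib.CSAModule

universe u v w

section intertwine

variable {K : Type*} [Field K] {B : Type*} [Ring B] [Algebra K B]
  {M N : Type*} [AddCommGroup M] [Module K M] [Module B M] [IsScalarTower K B M]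
  [AddCommGroup N] [Module K N] [Module B N] [IsScalarTower K B N]

theorem pow_intertwine (T : Module.End B M) (T' : Module.End B N) (ι : N →ₗ[B] M)
    (h : ∀ y, ι (T' y) = T (ι y)) (k : ℕ) (y : N) : ι ((T' ^ k) y) = (T ^ k) (ι y) := by
  induction k generalizing y with
  | zero => simp
  | succ k ih => rw [pow_succ, pow_succ, Module.End.mul_apply, Module.End.mul_apply, ih, h]

theorem aeval_intertwine (T : Module.End B M) (T' : Module.End B N) (ι : N →ₗ[B] M)
    (h : ∀ y, ι (T' y) = T (ι y)) (P : K[X]) (y : N) :
    ι (aeval T' P y) = aeval T P (ι y) := by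
  induction P using Polynomial.induction_on' with
  | add p q hp hq => rw [map_add, map_add, LinearMap.add_apply, LinearMap.add_apply, map_add, hp, hq]
  | monomial k c =>
    rw [aeval_monomial, aeval_monomial, Module.End.mul_apply, Module.End.mul_apply,
      Module.algebraMap_end_apply, Module.algebraMap_end_apply, LinearMap.map_smul_of_tower,
      pow_intertwine T T' ι h]

end intertwine

section main

variable {K : Type u} [Field K] {B : Type v} [Ring B] [Algebra K B] [Algebra.IsCentral K B]
  [IsSimpleRing B] [FiniteDimensional K B]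

/-- A module over a central simple algebra `B` of dimension `n²`, with a `B`-linear endomorphism
killed by an irreducible polynomial `g`, has dimension divisible by `deg g * n`. -/
theorem dvd_finrank_of_irreducible (n : ℕ) (hn : Module.finrank K B = n ^ 2)
    (M : Type w) [AddCommGroup M] [Module K M] [Module B M] [IsScalarTower K B M]
    [FiniteDimensional K M] (T : Module.End B M) (g : K[X]) (hgi : Irreducible g)
    (hg : aeval T g = 0) : g.natDegree * n ∣ Module.finrank K M := by
  classical
  by_cases hM : Subsingleton M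
  · rw [Module.finrank_zero_of_subsingleton]
    exact dvd_zero _
  rw [not_subsingleton_iff_nontrivial] at hM
  have hgne : g ≠ 0 := hgi.ne_zero
  haveI : Fact (Irreducible g) := ⟨hgi⟩
  let φ : AdjoinRoot g →ₐ[K] Module.End B M :=
    Ideal.Quotient.liftₐ (Ideal.span {g}) (Polynomial.aeval T) (by
      intro p hp
      obtain ⟨q, rfl⟩ := Ideal.mem_span_singleton.1 hp
      rw [map_mul, hg, zero_mul])
  letI : Module (AdjoinRoot g) M := Module.compHom M (φ : AdjoinRoot g →+* Module.End B M)
  have hsmul : ∀ (l : AdjoinRoot g) (v : M), l • v = φ l v := fun _ _ => rfl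
  haveI : IsScalarTower K (AdjoinRoot g) M := ⟨fun k l v => by
    rw [hsmul, hsmul, map_smul]
    rfl⟩
  haveI : SMulCommClass (AdjoinRoot g) B M := ⟨fun l b v => by
    rw [hsmul, hsmul, map_smul]⟩
  haveI : SMulCommClass B (AdjoinRoot g) M := SMulCommClass.symm _ _ _
  haveI : FiniteDimensional (AdjoinRoot g) M :=
    Module.Finite.of_restrictScalars_finite K (AdjoinRoot g) M
  have htower : Module.finrank K (AdjoinRoot g) * Module.finrank (AdjoinRoot g) M =
      Module.finrank K M := Module.finrank_mul_finrank K (AdjoinRoot g) M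
  have hL : Module.finrank K (AdjoinRoot g) = g.natDegree := by
    rw [(AdjoinRoot.powerBasis hgne).finrank, AdjoinRoot.powerBasis_dim hgne]
  haveI : IsSimpleRing (AdjoinRoot g ⊗[K] B) :=
    Groth.Agent.Lib.CSABaseChange.isSimpleRing_baseChange
  have hE : Module.finrank (AdjoinRoot g) (AdjoinRoot g ⊗[K] B) = n ^ 2 := by
    rw [Module.finrank_baseChange, hn]
  let β : B →ₐ[K] Module.End (AdjoinRoot g) M :=
    { toFun := fun b =>
        { toFun := fun v => b • v
          map_add' := smul_add b
          map_smul' := fun l v => smul_comm b l v }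
      map_one' := by ext v; exact one_smul B v
      map_mul' := fun b b' => by ext v; exact mul_smul b b' v
      map_zero' := by ext v; exact zero_smul B v
      map_add' := fun b b' => by ext v; exact add_smul b b' v
      commutes' := fun k => by
        ext v
        show (algebraMap K B k) • v = (algebraMap K (Module.End (AdjoinRoot g) M) k) v
        rw [algebraMap_smul, Module.algebraMap_end_apply] }
  let ρ : AdjoinRoot g ⊗[K] B →ₐ[AdjoinRoot g] Module.End (AdjoinRoot g) M :=
    Algebra.TensorProduct.lift (Algebra.ofId (AdjoinRoot g) (Module.End (AdjoinRoot g) M)) β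
      (fun l b => by
        show Algebra.ofId (AdjoinRoot g) (Module.End (AdjoinRoot g) M) l * β b =
          β b * Algebra.ofId (AdjoinRoot g) (Module.End (AdjoinRoot g) M) l
        ext v
        show (algebraMap (AdjoinRoot g) (Module.End (AdjoinRoot g) M) l) (b • v) =
          b • (algebraMap (AdjoinRoot g) (Module.End (AdjoinRoot g) M) l) v
        rw [Module.algebraMap_end_apply, Module.algebraMap_end_apply, smul_comm])
  haveI : FiniteDimensional (AdjoinRoot g) (AdjoinRoot g ⊗[K] B) := inferInstance
  obtain ⟨-, hfin⟩ := end_isSimpleRing_and_finrank (k := AdjoinRoot g)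
    (E := AdjoinRoot g ⊗[K] B) (RepMod ρ)
  rw [hE, RepMod.finrank_eq] at hfin
  have hdvd : n ∣ Module.finrank (AdjoinRoot g) M :=
    (Nat.pow_dvd_pow_iff two_ne_zero).1 ⟨_, by rw [← hfin]; ring⟩
  obtain ⟨q, hq⟩ := hdvd
  rw [← htower, hL, hq]
  exact ⟨q, by ring⟩

theorem finiteDimensional_end (M : Type w) [AddCommGroup M] [Module K M] [Module B M]
    [IsScalarTower K B M] [FiniteDimensional K M] : FiniteDimensional K (Module.End B M) := by
  let j : Module.End B M →ₗ[K] Module.End K M :=
    { toFun := fun f => f.restrictScalars K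
      map_add' := fun _ _ => rfl
      map_smul' := fun _ _ => rfl }
  exact Module.Finite.of_injective j (fun f f' h => LinearMap.restrictScalars_injective K h)

/-- If every monic irreducible factor of an annihilating polynomial of a `B`-linear endomorphism
has degree `r`, then the dimension of the module is divisible by `r * n`. -/
theorem dvd_finrank_of_factors (n r : ℕ) (hn : Module.finrank K B = n ^ 2) :
    ∀ (d : ℕ) (M : Type w) [AddCommGroup M] [Module K M] [Module B M] [IsScalarTower K B M]
      [FiniteDimensional K M] (T : Module.End B M) (P : K[X]) (_ : aeval T P = 0)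
      (_ : ∀ g : K[X], g.Monic → Irreducible g → g ∣ P → g.natDegree = r),
      Module.finrank K M = d → r * n ∣ d := by
  classical
  intro d
  induction d using Nat.strong_induction_on with
  | _ d ih =>
  intro M _ _ _ _ _ T P hP hfac hd
  by_cases hM : Subsingleton M
  · rw [← hd, Module.finrank_zero_of_subsingleton]
    exact dvd_zero _
  rw [not_subsingleton_iff_nontrivial] at hM
  haveI : FiniteDimensional K (Module.End B M) := finiteDimensional_end M
  have hint : IsIntegral K T := IsIntegral.of_finite K T
  have hμ : minpoly K T ∣ P := minpoly.dvd K T hP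
  have hnu : ¬ IsUnit (minpoly K T) := minpoly.not_isUnit K T
  have hμ0 : minpoly K T ≠ 0 := minpoly.ne_zero hint
  obtain ⟨g, hgm, hgi, hgd⟩ := Polynomial.exists_monic_irreducible_factor (minpoly K T) hnu
  have hgr : g.natDegree = r := hfac g hgm hgi (hgd.trans hμ)
  obtain ⟨G, hG⟩ : ∃ G : Module.End B M, G = aeval T g := ⟨_, rfl⟩
  have hker : LinearMap.ker G ≠ ⊥ := by
    intro hbot
    obtain ⟨h, hh⟩ := hgd
    have h1 : G * aeval T h = 0 := by rw [hG, ← map_mul, ← hh, minpoly.aeval]
    have h2 : aeval T h = 0 := by
      apply LinearMap.ext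
      intro v
      have h3 := LinearMap.congr_fun h1 v
      rw [Module.End.mul_apply, LinearMap.zero_apply] at h3
      rw [LinearMap.zero_apply]
      exact (LinearMap.ker_eq_bot.1 hbot) (by rw [h3, map_zero])
    have h3 : minpoly K T ∣ h := minpoly.dvd K T h2
    have hh0 : h ≠ 0 := by
      rintro rfl
      rw [mul_zero] at hh
      exact hμ0 hh
    have h4 : (minpoly K T).natDegree ≤ h.natDegree := natDegree_le_of_dvd h3 hh0
    have h5 : (minpoly K T).natDegree = g.natDegree + h.natDegree := by
      rw [hh, natDegree_mul hgi.ne_zero hh0]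
    have h6 : 0 < g.natDegree := hgi.natDegree_pos
    omega
  have hGT : ∀ v, G (T v) = T (G v) := by
    have h1 : G * T = T * G := by
      calc G * T = aeval T g * aeval T (X : K[X]) := by rw [aeval_X, hG]
        _ = aeval T (g * X) := (map_mul _ _ _).symm
        _ = aeval T (X * g) := by rw [mul_comm]
        _ = T * G := by rw [map_mul, aeval_X, hG]
    intro v
    have := LinearMap.congr_fun h1 v
    rwa [Module.End.mul_apply, Module.End.mul_apply] at this
  obtain ⟨R', hR'⟩ : ∃ R' : Submodule B M, R' = LinearMap.range G := ⟨_, rfl⟩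
  obtain ⟨W, hW⟩ : ∃ W : Submodule B M, W = LinearMap.ker G := ⟨_, rfl⟩
  have hmemR : ∀ v : M, v ∈ R' ↔ ∃ u, G u = v := by
    intro v; rw [hR']; exact LinearMap.mem_range
  have hmemW : ∀ v : M, v ∈ W ↔ G v = 0 := by
    intro v; rw [hW]; exact LinearMap.mem_ker
  haveI : FiniteDimensional K W :=
    Module.Finite.of_injective (W.subtype.restrictScalars K) Subtype.val_injective
  haveI : FiniteDimensional K R' :=
    Module.Finite.of_injective (R'.subtype.restrictScalars K) Subtype.val_injective
  have hTR : ∀ v ∈ R', T v ∈ R' := by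
    intro v hv
    rw [hmemR] at hv ⊢
    obtain ⟨u, rfl⟩ := hv
    exact ⟨T u, hGT u⟩
  have hTW : ∀ v ∈ W, T v ∈ W := by
    intro v hv
    rw [hmemW] at hv ⊢
    rw [hGT, hv, map_zero]
  -- dimension count
  have hdim : Module.finrank K R' + Module.finrank K W = Module.finrank K M := by
    have h0 := LinearMap.finrank_range_add_finrank_ker (G.restrictScalars K)
    let e1 : ↥(LinearMap.range (G.restrictScalars K)) ≃ₗ[K] ↥R' :=
      { toFun := fun v => ⟨v.1, by
          rw [hmemR]
          obtain ⟨u, hu⟩ := v.2
          exact ⟨u, hu⟩⟩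
        invFun := fun v => ⟨v.1, by
          obtain ⟨u, hu⟩ := (hmemR v.1).1 v.2
          exact ⟨u, hu⟩⟩
        map_add' := fun _ _ => rfl
        map_smul' := fun _ _ => rfl
        left_inv := fun _ => rfl
        right_inv := fun _ => rfl }
    let e2 : ↥(LinearMap.ker (G.restrictScalars K)) ≃ₗ[K] ↥W :=
      { toFun := fun v => ⟨v.1, by
          rw [hmemW]
          exact v.2⟩
        invFun := fun v => ⟨v.1, by
          have := (hmemW v.1).1 v.2
          exact this⟩
        map_add' := fun _ _ => rfl
        map_smul' := fun _ _ => rfl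
        left_inv := fun _ => rfl
        right_inv := fun _ => rfl }
    rw [← e1.finrank_eq, ← e2.finrank_eq]
    exact h0
  -- the kernel part
  have hWpos : 0 < Module.finrank K W := by
    have hne : W ≠ ⊥ := hW ▸ hker
    obtain ⟨w, hw, hw0⟩ := Submodule.exists_mem_ne_zero_of_ne_bot hne
    haveI : Nontrivial W := ⟨⟨⟨w, hw⟩, 0, fun h => hw0 (congrArg Subtype.val h)⟩⟩
    exact Module.finrank_pos
  have hWdvd : r * n ∣ Module.finrank K W := by
    have hTW' : aeval (T.restrict hTW) g = 0 := by
      apply LinearMap.ext
      intro y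
      apply Subtype.ext
      have h1 := aeval_intertwine (K := K) T (T.restrict hTW) W.subtype (fun _ => rfl) g y
      rw [LinearMap.zero_apply]
      show W.subtype (aeval (T.restrict hTW) g y) = 0
      rw [h1, ← hG]
      exact (hmemW y.1).1 y.2
    have := dvd_finrank_of_irreducible n hn W (T.restrict hTW) g hgi hTW'
    rwa [hgr] at this
  -- the range part
  have hRdvd : r * n ∣ Module.finrank K R' := by
    have hlt : Module.finrank K R' < d := by omega
    have hTR' : aeval (T.restrict hTR) P = 0 := by
      apply LinearMap.ext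
      intro y
      apply Subtype.ext
      have h1 := aeval_intertwine (K := K) T (T.restrict hTR) R'.subtype (fun _ => rfl) P y
      rw [LinearMap.zero_apply]
      show R'.subtype (aeval (T.restrict hTR) P y) = 0
      rw [h1, hP, LinearMap.zero_apply]
    exact ih _ hlt R' (T.restrict hTR) P hTR' hfac rfl
  rw [← hd, ← hdim]
  exact dvd_add hRdvd hWdvd

end main

section degree

/-- Two irreducible monic factors of `X^m - c` over a field containing the `m`-th roots of unity
have the same degree. -/
theorem natDegree_eq_of_irreducible_factors (K : Type*) [Field K] (m : ℕ) (hm : 0 < m)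
    (hK : (X ^ m - 1 : K[X]).Splits) (c : K) (hc : c ≠ 0) (g g' : K[X])
    (hg : Irreducible g) (hgm : g.Monic) (hgd : g ∣ X ^ m - C c)
    (hg' : Irreducible g') (hgm' : g'.Monic) (hgd' : g' ∣ X ^ m - C c) :
    g.natDegree = g'.natDegree := by
  classical
  have hroot : ∀ p : K[X], Irreducible p → p ∣ X ^ m - C c →
      ∃ y : AlgebraicClosure K, aeval y p = 0 ∧ y ^ m = algebraMap K (AlgebraicClosure K) c := by
    intro p hp hpd
    obtain ⟨y, hy⟩ := IsAlgClosed.exists_aeval_eq_zero (AlgebraicClosure K) p
      (by
        intro h0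
        have := hp.natDegree_pos
        rw [natDegree_eq_of_degree_eq_some (n := 0) (by simpa using h0)] at this
        exact lt_irrefl _ this)
    refine ⟨y, hy, ?_⟩
    obtain ⟨q, hq⟩ := hpd
    have h2 : aeval y (X ^ m - C c : K[X]) = 0 := by rw [hq, map_mul, hy, zero_mul]
    simpa [sub_eq_zero] using h2
  obtain ⟨y, hy, hym⟩ := hroot g hg hgd
  obtain ⟨y', hy', hym'⟩ := hroot g' hg' hgd'
  have hιc : algebraMap K (AlgebraicClosure K) c ≠ 0 := by
    rw [Ne, map_eq_zero]; exact hc
  have hy0 : y ≠ 0 := by
    rintro rfl
    rw [zero_pow hm.ne'] at hym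
    exact hιc hym.symm
  have hy0' : y' ≠ 0 := by
    rintro rfl
    rw [zero_pow hm.ne'] at hym'
    exact hιc hym'.symm
  have hX1 : (X ^ m - 1 : K[X]) ≠ 0 := by
    have : (X ^ m - 1 : K[X]) = X ^ m - C 1 := by simp
    rw [this]
    exact X_pow_sub_C_ne_zero hm 1
  have hquot : y' / y ∈ (algebraMap K (AlgebraicClosure K)).range := by
    apply hK.mem_range_of_isRoot hX1
    rw [IsRoot.def]
    simp only [Polynomial.map_sub, Polynomial.map_pow, map_X, Polynomial.map_one, eval_sub,
      eval_pow, eval_X, eval_one]
    rw [div_pow, hym, hym', div_self hιc, sub_self]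
  obtain ⟨ζ, hζ⟩ := hquot
  have hζ0 : ζ ≠ 0 := by
    rintro rfl
    rw [map_zero] at hζ
    exact (div_ne_zero hy0' hy0) hζ.symm
  have hy'eq : y' = algebraMap K (AlgebraicClosure K) ζ * y := by
    rw [hζ, div_mul_cancel₀ _ hy0]
  have hyeq : y = algebraMap K (AlgebraicClosure K) ζ⁻¹ * y' := by
    rw [hy'eq, ← mul_assoc, ← map_mul, inv_mul_cancel₀ hζ0, map_one, one_mul]
  have hgmin : g = minpoly K y := minpoly.eq_of_irreducible_of_monic hg hy hgm
  have hgmin' : g' = minpoly K y' := minpoly.eq_of_irreducible_of_monic hg' hy' hgm'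
  have hinty : IsIntegral K y := Algebra.IsIntegral.isIntegral y
  have hinty' : IsIntegral K y' := Algebra.IsIntegral.isIntegral y'
  have hfield : IntermediateField.adjoin K {y} = IntermediateField.adjoin K {y'} := by
    apply le_antisymm
    · rw [IntermediateField.adjoin_simple_le_iff, hyeq]
      exact mul_mem (IntermediateField.algebraMap_mem _ _)
        (IntermediateField.mem_adjoin_simple_self K y')
    · rw [IntermediateField.adjoin_simple_le_iff, hy'eq]
      exact mul_mem (IntermediateField.algebraMap_mem _ _)
        (IntermediateField.mem_adjoin_simple_self K y)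
  rw [hgmin, hgmin', ← IntermediateField.adjoin.finrank hinty,
    ← IntermediateField.adjoin.finrank hinty', hfield]

end degree

end Groth.Agent.Lib.RootPow2
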