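import Mathlib

namespace Groth.Agent.Lib.RootUnitySq

open Polynomial

lemma nat_dvd_of_cast_dvd {O : Type*} [CommRing O] [IsDomain O] [CharZero O] (N M : ℕ)
    (hN : 0 < N) (hO : ∀ q : ℕ, q.Prime → q ∣ N → ¬ IsUnit (q : O))
    (h : (N : O) ∣ (M : O)) : N ∣ M := by
  have hb := Nat.gcd_eq_gcd_ab N M
  obtain ⟨t, ht⟩ := Nat.gcd_dvd_left N M
  have hgO : ((Nat.gcd N M : ℕ) : O) =
      (N : O) * ((Nat.gcdA N M : ℤ) : O) + (M : O) * ((Nat.gcdB N M : ℤ) : O) := by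
    have h1 := congrArg (Int.cast : ℤ → O) hb
    push_cast at h1
    exact h1
  have hNg : (N : O) ∣ ((Nat.gcd N M : ℕ) : O) := by
    rw [hgO]; exact dvd_add (dvd_mul_right _ _) (Dvd.dvd.mul_right h _)
  have hcast : (N : O) = ((Nat.gcd N M : ℕ) : O) * (t : O) := by exact_mod_cast ht
  have hg0 : ((Nat.gcd N M : ℕ) : O) ≠ 0 :=
    Nat.cast_ne_zero.mpr (Nat.gcd_pos_of_pos_left M hN).ne'
  have ht1 : (t : O) ∣ 1 := by
    have h2 : ((Nat.gcd N M : ℕ) : O) * (t : O) ∣ ((Nat.gcd N M : ℕ) : O) * 1 := by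
      rw [← hcast, mul_one]; exact hNg
    exact (mul_dvd_mul_iff_left hg0).mp h2
  have htt : t = 1 := by
    by_contra hne
    obtain ⟨q, hq, hqt⟩ := Nat.exists_prime_and_dvd hne
    have hqN : q ∣ N := hqt.trans ⟨Nat.gcd N M, by rw [mul_comm]; exact ht⟩
    exact hO q hq hqN (isUnit_of_dvd_one ((Nat.cast_dvd_cast hqt).trans ht1))
  have hNeq : N = Nat.gcd N M := by
    rw [htt, mul_one] at ht; exact ht
  calc N = Nat.gcd N M := hNeq
    _ ∣ M := Nat.gcd_dvd_right N M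

lemma three_bound (a b c : ℕ) (ha : 1 ≤ a) (hb : 1 ≤ b) (hc : 1 ≤ c) (h : a * (b * c) ≤ 2) :
    (a = 1 ∧ b = 1 ∧ c = 1) ∨ (a = 2 ∧ b = 1 ∧ c = 1) ∨ (a = 1 ∧ b = 2 ∧ c = 1) ∨
      (a = 1 ∧ b = 1 ∧ c = 2) := by
  have ha2 : a ≤ 2 := (Nat.le_mul_of_pos_right a (Nat.mul_pos hb hc)).trans h
  have hb2 : b ≤ 2 :=
    ((Nat.le_mul_of_pos_right b hc).trans (Nat.le_mul_of_pos_left (b * c) ha)).trans h
  have hc2 : c ≤ 2 :=
    ((Nat.le_mul_of_pos_left c hb).trans (Nat.le_mul_of_pos_left (b * c) ha)).trans h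
  interval_cases a <;> interval_cases b <;> interval_cases c <;> omega

lemma arith (p k e : ℕ) (hp : p.Prime) (he1 : 1 ≤ e) (hle : e * (p ^ k * (p - 1)) ≤ 2) :
    (p ^ e = 2 ∧ (p ^ (k + 1) = 2 ∨ p ^ (k + 1) = 4)) ∨ (p ^ e = 4 ∧ p ^ (k + 1) = 2) ∨
      (p ^ e = 3 ∧ p ^ (k + 1) = 3) := by
  have hp2 := hp.two_le
  have hP : 1 ≤ p ^ k := Nat.one_le_pow _ _ hp.pos
  have hr : 1 ≤ p - 1 := by omega
  rcases three_bound e (p ^ k) (p - 1) he1 hP hr hle with ⟨h1, h2, h3⟩ | ⟨h1, h2, h3⟩ |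
    ⟨h1, h2, h3⟩ | ⟨h1, h2, h3⟩
  · have hp' : p = 2 := by omega
    subst hp'
    subst h1
    left
    exact ⟨by norm_num, Or.inl (by (rw [pow_succ, h2]; norm_num))⟩
  · have hp' : p = 2 := by omega
    subst hp'
    subst h1
    right; left
    exact ⟨by norm_num, by (rw [pow_succ, h2]; norm_num)⟩
  · have hp' : p = 2 := by omega
    subst hp'
    subst h1
    left
    exact ⟨by norm_num, Or.inr (by (rw [pow_succ, h2]; norm_num))⟩
  · have hp' : p = 3 := by omega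
    subst hp'
    subst h1
    right; right
    exact ⟨by norm_num, by (rw [pow_succ, h2]; norm_num)⟩

theorem key {O : Type*} [CommRing O] [IsDomain O] [CharZero O]
    (n : ℕ) (hn : 2 ≤ n) (hO : ∀ p : ℕ, p.Prime → p ∣ n → ¬ IsUnit (p : O))
    (α : O) (m : ℕ) (hprim : IsPrimitiveRoot α m) (hm0 : 0 < m) (hm1 : m ≠ 1)
    (h : (n : O) ∣ (α - 1) ^ 2) :
    (n = 2 ∧ (m = 2 ∨ m = 4)) ∨ (n = 4 ∧ m = 2) ∨ (n = 3 ∧ m = 3) := by
  haveI : NeZero m := ⟨hm0.ne'⟩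
  have hdiv : (1 - α) ^ (Nat.totient m) ∣ (cyclotomic m O).eval 1 := by
    rw [cyclotomic_eq_prod_X_sub_primitiveRoots hprim, eval_prod]
    rw [← hprim.card_primitiveRoots, ← Finset.prod_const]
    apply Finset.prod_dvd_prod_of_dvd
    intro μ hμ
    simp only [eval_sub, eval_X, eval_C]
    have hμ' : IsPrimitiveRoot μ m := (mem_primitiveRoots hm0).mp hμ
    obtain ⟨j, -, hj⟩ := hprim.eq_pow_of_pow_eq_one hμ'.pow_eq_one
    rw [← hj]
    have h3 := sub_dvd_pow_sub_pow (1 : O) α j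
    rwa [one_pow] at h3
  have hpow : (n : O) ^ (Nat.totient m) ∣ ((cyclotomic m O).eval 1) ^ 2 := by
    have h1 : (n : O) ^ (Nat.totient m) ∣ ((α - 1) ^ 2) ^ (Nat.totient m) :=
      pow_dvd_pow_of_dvd h _
    have e1 : (α - 1) ^ 2 = (1 - α) ^ 2 := by ring
    have h2 : ((α - 1) ^ 2) ^ (Nat.totient m) = ((1 - α) ^ (Nat.totient m)) ^ 2 := by
      rw [e1, ← pow_mul, ← pow_mul, mul_comm]
    rw [h2] at h1
    exact h1.trans (pow_dvd_pow_of_dvd hdiv 2)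
  have hφ : 0 < Nat.totient m := Nat.totient_pos.mpr hm0
  by_cases hpp : ∀ p : ℕ, p.Prime → ∀ k : ℕ, p ^ k ≠ m
  · exfalso
    rw [eval_one_cyclotomic_not_prime_pow (fun {p} hp k => hpp p hp k), one_pow] at hpow
    obtain ⟨q, hq, hqn⟩ := Nat.exists_prime_and_dvd (show n ≠ 1 by omega)
    apply hO q hq hqn
    have h4 : (q : O) ∣ (n : O) ^ (Nat.totient m) :=
      (Nat.cast_dvd_cast hqn).trans (dvd_pow_self _ hφ.ne')
    exact isUnit_of_dvd_one (h4.trans hpow)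
  · push_neg at hpp
    obtain ⟨p, hp, k, hk⟩ := hpp
    rcases k with _ | k
    · exact absurd (by rw [← hk, pow_zero]) hm1
    subst hk
    haveI : Fact p.Prime := ⟨hp⟩
    rw [eval_one_cyclotomic_prime_pow] at hpow
    have hnat : n ^ (Nat.totient (p ^ (k + 1))) ∣ p ^ 2 := by
      apply nat_dvd_of_cast_dvd (O := O) _ _ (pow_pos (by omega) _)
        (fun q hq hqN => hO q hq (hq.dvd_of_dvd_pow hqN))
      rw [Nat.cast_pow, Nat.cast_pow]
      exact hpow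
    rw [Nat.totient_prime_pow_succ hp k] at hnat
    have hφne : p ^ k * (p - 1) ≠ 0 :=
      Nat.mul_ne_zero (pow_pos hp.pos k).ne' (Nat.sub_ne_zero_of_lt hp.one_lt)
    have hnp : n ∣ p ^ 2 := (dvd_pow_self n hφne).trans hnat
    obtain ⟨e, he2, hne⟩ := (Nat.dvd_prime_pow hp).mp hnp
    subst hne
    rw [← pow_mul] at hnat
    have hle : e * (p ^ k * (p - 1)) ≤ 2 := (Nat.pow_dvd_pow_iff_le_right hp.one_lt).mp hnat
    have he1 : 1 ≤ e := by
      rcases e with _ | e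
      · simp at hn
      · omega
    exact arith p k e hp he1 hle

theorem main (O : Type*) [CommRing O] [IsDomain O] [CharZero O]
    (n : ℕ) (hn : 0 < n) (hO : ∀ p : ℕ, p.Prime → p ∣ n → ¬ IsUnit (p : O))
    (α : O) (hα : IsOfFinOrder α) (h : (n : O) ∣ (α - 1) ^ 2) :
    (5 ≤ n → α = 1) ∧ (n = 4 → α ^ 2 = 1) ∧ (n = 3 → α ^ 3 = 1) ∧ (n = 2 → α ^ 4 = 1) := by
  by_cases hm1 : orderOf α = 1
  · have h1 : α = 1 := orderOf_eq_one_iff.mp hm1
    subst h1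
    simp
  · have hkey : 2 ≤ n → (n = 2 ∧ (orderOf α = 2 ∨ orderOf α = 4)) ∨ (n = 4 ∧ orderOf α = 2) ∨
        (n = 3 ∧ orderOf α = 3) := fun hn2 =>
      key n hn2 hO α (orderOf α) (IsPrimitiveRoot.orderOf α) hα.orderOf_pos hm1 h
    refine ⟨fun h5 => ?_, fun h4 => ?_, fun h3 => ?_, fun h2 => ?_⟩
    · exfalso
      rcases hkey (by omega) with ⟨h', _⟩ | ⟨h', _⟩ | ⟨h', _⟩ <;> omega
    · rcases hkey (by omega) with ⟨h', _⟩ | ⟨_, hm⟩ | ⟨h', _⟩
      · omega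
      · exact orderOf_dvd_iff_pow_eq_one.mp (by norm_num [hm])
      · omega
    · rcases hkey (by omega) with ⟨h', _⟩ | ⟨h', _⟩ | ⟨_, hm⟩
      · omega
      · omega
      · exact orderOf_dvd_iff_pow_eq_one.mp (by norm_num [hm])
    · rcases hkey (by omega) with ⟨_, hm | hm⟩ | ⟨h', _⟩ | ⟨h', _⟩
      · exact orderOf_dvd_iff_pow_eq_one.mp (by norm_num [hm])
      · exact orderOf_dvd_iff_pow_eq_one.mp (by norm_num [hm])
      · omega
      · omega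

end Groth.Agent.Lib.RootUnitySq
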