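import Mathlib
set_option maxSynthPendingDepth 3

namespace Groth.Agent.Lib.RootsUnityCRT

open Polynomial Function

variable {R : Type*} [CommRing R]

lemma isUnit_sub (n : ℕ) (ζ : R) (hζ : ζ ^ n = 1)
    (hprim : ∀ i : ℕ, 0 < i → i < n → IsUnit (1 - ζ ^ i)) (i j : Fin n) (hij : i ≠ j) :
    IsUnit (ζ ^ (i : ℕ) - ζ ^ (j : ℕ)) := by
  have hζu : IsUnit ζ := by
    have hn : 0 < n := Fin.pos i
    exact isUnit_iff_exists_inv.mpr ⟨ζ ^ (n - 1),
      by rw [← pow_succ', Nat.sub_add_cancel hn, hζ]⟩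
  have key : ∀ a b : ℕ, b < a → a < n → IsUnit (ζ ^ a - ζ ^ b) := by
    intro a b hba han
    have h1 : ζ ^ a - ζ ^ b = -(ζ ^ b * (1 - ζ ^ (a - b))) := by
      rw [mul_sub, mul_one, ← pow_add, Nat.add_sub_cancel' hba.le]; ring
    rw [h1]
    exact ((hζu.pow b).mul (hprim (a - b) (by omega) (by omega))).neg
  have hne : (i : ℕ) ≠ (j : ℕ) := fun h => hij (Fin.ext h)
  rcases lt_or_gt_of_ne hne with h | h
  · have h2 := (key j i h j.2).neg
    rwa [neg_sub] at h2
  · exact key i j h i.2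

theorem main (n : ℕ) (hn : IsUnit (n : R)) (ζ : R) (hζ : ζ ^ n = 1)
    (hprim : ∀ i : ℕ, 0 < i → i < n → IsUnit (1 - ζ ^ i)) :
    Function.Surjective
        (AlgHom.pi (fun i : Fin n => Polynomial.aeval (R := R) (ζ ^ (i : ℕ)))) ∧
      RingHom.ker (AlgHom.pi (fun i : Fin n => Polynomial.aeval (R := R) (ζ ^ (i : ℕ)))) =
        Ideal.span {(X ^ n - 1 : R[X])} := by
  classical
  rcases subsingleton_or_nontrivial R with hs | hnt
  · refine ⟨fun y => ⟨0, Subsingleton.elim _ _⟩, ?_⟩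
    ext x
    rw [Subsingleton.elim x 0]
    simp
  have hpos : 0 < n := by
    rcases Nat.eq_zero_or_pos n with rfl | hpos
    · rw [Nat.cast_zero] at hn
      exact absurd hn not_isUnit_zero
    · exact hpos
  have hcop : Pairwise (IsCoprime on fun i : Fin n => (X - C (ζ ^ (i : ℕ)) : R[X])) :=
    fun i j hij => isCoprime_X_sub_C_of_isUnit_sub (isUnit_sub n ζ hζ hprim i j hij)
  have happ : ∀ (f : R[X]) (i : Fin n),
      (AlgHom.pi (fun i : Fin n => Polynomial.aeval (R := R) (ζ ^ (i : ℕ)))) f i =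
        f.eval (ζ ^ (i : ℕ)) := by
    intro f i
    show Polynomial.aeval (ζ ^ (i : ℕ)) f = _
    rw [Polynomial.coe_aeval_eq_eval]
  have hprod : ∏ i : Fin n, (X - C (ζ ^ (i : ℕ)) : R[X]) = X ^ n - 1 := by
    have hmon : (∏ i : Fin n, (X - C (ζ ^ (i : ℕ)) : R[X])).Monic :=
      monic_prod_of_monic _ _ (fun i _ => monic_X_sub_C _)
    have hmon2 : (X ^ n - 1 : R[X]).Monic := by
      have h1 := monic_X_pow_sub_C (1 : R) hpos.ne'
      rwa [map_one] at h1
    have hdvd : (∏ i : Fin n, (X - C (ζ ^ (i : ℕ)) : R[X])) ∣ X ^ n - 1 :=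
      Fintype.prod_dvd_of_coprime hcop (fun i => by
        rw [dvd_iff_isRoot, IsRoot, eval_sub, eval_pow, eval_X, eval_one, ← pow_mul, mul_comm,
          pow_mul, hζ, one_pow, sub_self])
    have hdeg : (X ^ n - 1 : R[X]).natDegree ≤
        (∏ i : Fin n, (X - C (ζ ^ (i : ℕ)) : R[X])).natDegree := by
      rw [natDegree_prod_of_monic _ _ (fun i _ => monic_X_sub_C _)]
      simp only [natDegree_X_sub_C, Finset.sum_const, Finset.card_univ, Fintype.card_fin,
        smul_eq_mul, mul_one]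
      have h1 := natDegree_X_pow_sub_C (R := R) (n := n) (r := 1)
      rw [map_one] at h1
      exact h1.le
    exact (eq_of_monic_of_dvd_of_natDegree_le hmon hmon2 hdvd hdeg).symm
  constructor
  · intro y
    have hI : Pairwise (IsCoprime on fun i : Fin n =>
        Ideal.span {(X - C (ζ ^ (i : ℕ)) : R[X])}) :=
      fun i j hij => (Ideal.isCoprime_span_singleton_iff _ _).mpr (hcop hij)
    obtain ⟨f, hf⟩ := Ideal.exists_forall_sub_mem_ideal hI (fun i => C (y i))
    refine ⟨f, funext fun i => ?_⟩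
    rw [happ]
    have h1 := hf i
    rw [Ideal.mem_span_singleton, dvd_iff_isRoot, IsRoot, eval_sub, eval_C, sub_eq_zero] at h1
    exact h1
  · ext f
    rw [RingHom.mem_ker, Ideal.mem_span_singleton, ← hprod]
    constructor
    · intro h
      apply Fintype.prod_dvd_of_coprime hcop
      intro i
      rw [dvd_iff_isRoot, IsRoot, ← happ f i, h]
      rfl
    · rintro ⟨g, rfl⟩
      funext i
      rw [happ, eval_mul, eval_prod, Finset.prod_eq_zero (Finset.mem_univ i) (by simp), zero_mul]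
      rfl

end Groth.Agent.Lib.RootsUnityCRT
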