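import Mathlib
import Groth.Agent.Lib.RpushAffine2_helper9

/-!
# `R^q (g ∘ f)_* M ≅ g_* R^q f_* M` for `g` affine (helper9)
APPEND-ONLY once landed.
-/

set_option autoImplicit false

universe u

open CategoryTheory CategoryTheory.Limits AlgebraicGeometry Opposite TopologicalSpace

namespace RpushAffine

section basis

variable {Z : Scheme.{u}} {Q : (Opens Z)ᵒᵖ ⥤ AddCommGrpCat.{u}}
  {G : TopCat.Sheaf AddCommGrpCat.{u} Z.toTopCat} (ψ : Q ⟶ G.obj)
  (hψ : ∀ W : Z.Opens, IsAffineOpen W → Function.Bijective (ψ.app (op W)))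

include hψ in
lemma isLocallyInjective_of_affine :
    Presheaf.IsLocallyInjective (Opens.grothendieckTopology Z.toTopCat) ψ where
  equalizerSieve_mem {W} x y h := by
    intro p hp
    obtain ⟨_, ⟨W₀, hW₀, rfl⟩, hpW₀, hW₀W⟩ :=
      Z.isBasis_affineOpens.exists_subset_of_mem_open hp W.unop.2
    refine ⟨W₀, homOfLE hW₀W, ?_, hpW₀⟩
    change Q.map (homOfLE hW₀W).op x = Q.map (homOfLE hW₀W).op y
    apply (hψ W₀ hW₀).1
    rw [NatTrans.naturality_apply ψ (homOfLE hW₀W).op x,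
      NatTrans.naturality_apply ψ (homOfLE hW₀W).op y, h]

include hψ in
lemma isLocallySurjective_of_affine :
    Presheaf.IsLocallySurjective (Opens.grothendieckTopology Z.toTopCat) ψ where
  imageSieve_mem {W} s := by
    intro p hp
    obtain ⟨_, ⟨W₀, hW₀, rfl⟩, hpW₀, hW₀W⟩ :=
      Z.isBasis_affineOpens.exists_subset_of_mem_open hp W.2
    obtain ⟨t, ht⟩ := (hψ W₀ hW₀).2 (G.obj.map (homOfLE hW₀W).op s)
    exact ⟨W₀, homOfLE hW₀W, ⟨t, ht⟩, hpW₀⟩

include hψ in
/-- a map from a presheaf to a sheaf which is bijective on affine opens exhibits the sheaf as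
the sheafification -/
theorem nonempty_sheafify_iso : Nonempty (shP Q ≅ G) := by
  haveI := isLocallyInjective_of_affine ψ hψ
  haveI := isLocallySurjective_of_affine ψ hψ
  have hW : (Opens.grothendieckTopology Z.toTopCat).W ψ :=
    GrothendieckTopology.W_of_isLocallyBijective _ ψ
  have h1 : IsIso ((presheafToSheaf (Opens.grothendieckTopology Z.toTopCat) AddCommGrpCat.{u}).map ψ) :=
    (GrothendieckTopology.W_iff _ ψ).1 hW
  have h2 : IsIso ((sheafificationAdjunction (Opens.grothendieckTopology Z.toTopCat)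
      AddCommGrpCat.{u}).counit.app G) :=
    isIso_sheafificationAdjunction_counit (J := Opens.grothendieckTopology Z.toTopCat)
      (D := AddCommGrpCat.{u}) G
  exact ⟨@asIso _ _ _ _ _ h1 ≪≫ @asIso _ _ _ _ _ h2⟩

end basis

end RpushAffine

namespace RpushAffine

/-- **`R^q (g ∘ f)_* M ≅ g_* R^q f_* M` for `f` qcqs, `g` affine, `M` quasi-coherent.** -/
theorem main_comp {X Y Z : Scheme.{u}} (f : X ⟶ Y) (g : Y ⟶ Z) [QuasiCompact f]
    [QuasiSeparated f] [IsAffineHom g] (M : X.Modules) [M.IsQuasicoherent] (q : ℕ) :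
    Nonempty ((Coh.RpushAb (f ≫ g) q).obj (Coh.toAb M) ≅
      (Coh.pushAb g).obj ((Coh.RpushAb f q).obj (Coh.toAb M))) := by
  obtain ⟨e1⟩ := RpushSheafify.main (f ≫ g).base (Coh.toAb M) q
  obtain ⟨e2⟩ := RpushSheafify.main f.base (Coh.toAb M) q
  let G : TopCat.Sheaf AddCommGrpCat.{u} Z.toTopCat := (Coh.pushAb g).obj (shP (PP f M q))
  let ψ : PP (f ≫ g) M q ⟶ G.obj := Functor.whiskerLeft (Opens.map g.base).op (phi (PP f M q))
  have hψ : ∀ W : Z.Opens, IsAffineOpen W → Function.Bijective (ψ.app (op W)) := fun W hW =>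
    app_bijective_of_isAffineOpen f M q (g ⁻¹ᵁ W) (hW.preimage g)
  obtain ⟨e3⟩ := nonempty_sheafify_iso ψ hψ
  exact ⟨e1 ≪≫ e3 ≪≫ (Coh.pushAb g).mapIso e2.symm⟩

end RpushAffine
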