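import Mathlib
import Groth.Prelude
import Groth.Agent.Lib.RGamCoprod1_helper3
import Groth.Agent.Lib.CompQ1_lead
import Groth.Agent.Lib.HomVan2_lead

/-!
# `Rf_*` commutes with uniformly bounded below direct sums for `f` qcqs (helper3; S11116)
-/

set_option autoImplicit false
set_option linter.all false
set_option maxHeartbeats 1600000
set_option backward.isDefEq.respectTransparency false
set_option backward.isDefEq.respectTransparency.types false
set_option backward.defeqAttrib.useBackward true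

universe u
open CategoryTheory CategoryTheory.Limits AlgebraicGeometry Opposite TopologicalSpace

attribute [local instance] HasDerivedCategory.standard

namespace Groth.Agent.Lib.RpushCoprodH3

open Groth.Agent.Lib Groth.Agent.Lib.MVPushL Groth.Agent.Lib.GammaPushH3
open Groth.Agent.Lib.DCohLocLead Groth.Agent.Lib.RGamCoprodH3 Groth.Agent.Lib.CompQL

noncomputable section

/-- the derived global sections functor exists -/
theorem hasRΓ (X : Scheme.{u}) : DCoh.HasRΓ X := by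
  haveI := grothendieck_modules X
  exact (OrthDeriv.main (P := HomotopyCategory.subcategoryAcyclic X.Modules)
    (HomotopyCategory.quasiIso X.Modules (ComplexShape.up ℤ))
    (HomotopyCategory.quasiIso_eq_trW_subcategoryAcyclic _)
    Groth.Agent.Lib.KInjGen8.hP (DerivedCategory.Qh : _ ⥤ DCoh.D X) (DCoh.gammaKh X)).1

/-- restriction to an open subscheme is left t-exact -/
theorem isGE_DD {U X : Scheme.{u}} (j : U ⟶ X) [IsOpenImmersion j] (K : DCoh.D X) (n : ℤ)
    [K.IsGE n] : ((DD j).obj K).IsGE n := by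
  obtain ⟨L, hL, ⟨e⟩⟩ := DerivedCategory.exists_iso_Q_obj_of_isGE K n
  haveI : ((RC j).obj L).IsStrictlyGE n := by
    rw [CochainComplex.isStrictlyGE_iff]
    intro m hm
    exact (Scheme.Modules.restrictFunctor j).map_isZero (L.isZero_of_isStrictlyGE n m hm)
  haveI : (DerivedCategory.Q.obj ((RC j).obj L)).IsGE n :=
    (DerivedCategory.isGE_Q_obj_iff _ n).2 inferInstance
  exact DerivedCategory.TStructure.t.isGE_of_iso
    (((DD j).mapIso e) ≪≫ facIso j L).symm n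

/-- the derived direct image is left t-exact -/
theorem isGE_Rpush {X S : Scheme.{u}} (f : X ⟶ S) [DCoh.HasRpush f] (K : DCoh.D X) (n : ℤ)
    [K.IsGE n] : ((DCoh.Rpush f).obj K).IsGE n := by
  haveI := grothendieck_modules X
  exact RDerGE.isGE (Scheme.Modules.pushforward f) K n

theorem main11116 {X S : Scheme.{u}} (f : X ⟶ S) [QuasiCompact f] [QuasiSeparated f]
    [DCoh.HasRpush f] {ι : Type u} (K : ι → DCoh.D X) (n : ℤ) (hK : ∀ i, (K i).IsGE n)
    [HasCoproduct K] [HasCoproduct (fun i => (DCoh.Rpush f).obj (K i))] :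
    IsIso (Sigma.desc (fun i => (DCoh.Rpush f).map (Sigma.ι K i))) := by
  haveI : ∀ U : S.Opens, DCoh.HasRΓ (U : Scheme.{u}) := fun U => hasRΓ _
  rw [AffIsoL.main11114]
  intro V hV
  haveI : IsAffine (V : Scheme.{u}) := hV
  haveI : CompactSpace ((f ⁻¹ᵁ V : X.Opens) : Scheme.{u}) :=
    QuasiCompact.compactSpace_of_compactSpace (f ∣_ V)
  haveI : QuasiSeparatedSpace ((f ⁻¹ᵁ V : X.Opens) : Scheme.{u}) :=
    quasiSeparatedSpace_of_quasiSeparated (f ∣_ V)
  haveI := hasRΓ X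
  haveI := hasRΓ S
  haveI := hasRΓ ((f ⁻¹ᵁ V : X.Opens) : Scheme.{u})
  obtain ⟨-, ⟨e⟩⟩ := GammaPushH3.main6509 f V
  let RK : ι → DCoh.D S := fun i => (DCoh.Rpush f).obj (K i)
  obtain ⟨adjV⟩ := HomVanL.nonempty_adj_DD V.ι
  obtain ⟨adjU⟩ := HomVanL.nonempty_adj_DD (f ⁻¹ᵁ V).ι
  have hcRK : IsColimit (Cofan.mk (∐ RK) (Sigma.ι RK)) := coproductIsCoproduct RK
  have hcK : IsColimit (Cofan.mk (∐ K) (Sigma.ι K)) := coproductIsCoproduct K
  obtain ⟨hc1⟩ := nonempty_cofan_of_adj hcRK adjV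
  obtain ⟨hc2⟩ := nonempty_cofan_of_adj hcK adjU
  have hGE1 : ∀ i, ((DD V.ι).obj (RK i)).IsGE n := fun i => by
    haveI := hK i
    haveI := isGE_Rpush f (K i) n
    exact isGE_DD V.ι (RK i) n
  have hGE2 : ∀ i, ((DD (f ⁻¹ᵁ V).ι).obj (K i)).IsGE n := fun i => by
    haveI := hK i
    exact isGE_DD (f ⁻¹ᵁ V).ι (K i) n
  haveI := preservesColimit_RΓ (X := (V : Scheme.{u})) (fun i => (DD V.ι).obj (RK i)) n hGE1
  haveI := preservesColimit_RΓ (X := ((f ⁻¹ᵁ V : X.Opens) : Scheme.{u}))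
    (fun i => (DD (f ⁻¹ᵁ V).ι).obj (K i)) n hGE2
  have hH : IsColimit (Cofan.mk ((DCoh.RΓ (V : Scheme.{u})).obj ((DD V.ι).obj (∐ RK)))
      (fun i => (DCoh.RΓ (V : Scheme.{u})).map ((DD V.ι).map (Sigma.ι RK i)))) :=
    isColimitCofanMkObjOfIsColimit (DCoh.RΓ (V : Scheme.{u})) _ _ hc1
  have hG' : IsColimit (Cofan.mk
      ((DCoh.RΓ ((f ⁻¹ᵁ V : X.Opens) : Scheme.{u})).obj ((DD (f ⁻¹ᵁ V).ι).obj (∐ K)))
      (fun i => (DCoh.RΓ ((f ⁻¹ᵁ V : X.Opens) : Scheme.{u})).map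
        ((DD (f ⁻¹ᵁ V).ι).map (Sigma.ι K i)))) :=
    isColimitCofanMkObjOfIsColimit (DCoh.RΓ ((f ⁻¹ᵁ V : X.Opens) : Scheme.{u})) _ _ hc2
  have hG : IsColimit (Cofan.mk
      ((DCoh.RΓ (V : Scheme.{u})).obj ((DD V.ι).obj ((DCoh.Rpush f).obj (∐ K))))
      (fun i => (DCoh.RΓ (V : Scheme.{u})).map
        ((DD V.ι).map ((DCoh.Rpush f).map (Sigma.ι K i))))) :=
    HomCoprodH3.isColimit_cofan_of_iso
      (inj := fun i => (DCoh.RΓ ((f ⁻¹ᵁ V : X.Opens) : Scheme.{u})).map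
        ((DD (f ⁻¹ᵁ V).ι).map (Sigma.ι K i)))
      (inj' := fun i => (DCoh.RΓ (V : Scheme.{u})).map
        ((DD V.ι).map ((DCoh.Rpush f).map (Sigma.ι K i))))
      (fun i => (e.app (K i)).symm) (e.app (∐ K)).symm
      (fun i => (e.inv.naturality (Sigma.ι K i))) hG'
  exact isIso_of_cofans hH hG (fun l => Iso.refl _) _ (fun l => by
    rw [Iso.refl_hom, Category.id_comp, ← Functor.map_comp, ← Functor.map_comp, Sigma.ι_desc])

end

end Groth.Agent.Lib.RpushCoprodH3
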