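import Mathlib
import Groth.Prelude
import Groth.Agent.Lib.RpushQC_lead

/-!
# Extending objects of `D_QCoh` from a quasi-compact open (lead; S1015)
-/

set_option autoImplicit false
set_option linter.all false
set_option maxHeartbeats 1600000
set_option backward.isDefEq.respectTransparency false
set_option backward.isDefEq.respectTransparency.types false
set_option backward.defeqAttrib.useBackward true

universe u
open CategoryTheory CategoryTheory.Limits AlgebraicGeometry Opposite TopologicalSpace
open DerivedCategory CategoryTheory.Pretriangulated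
attribute [local instance] HasDerivedCategory.standard

namespace Groth.Agent.Lib.RpushQCL

open Groth.Agent.Lib

/-- **S1015** -/
theorem main1015 (X : Scheme.{u}) (U : X.Opens) [QuasiCompact U.ι]
    (F : DCoh.D (U : Scheme.{u})) (hF : DCoh.IsQCohD F) :
    ∃ G : CochainComplex X.Modules ℤ, DCoh.IsQCohD (DCoh.toD X G) ∧
      Nonempty (DerivedCategory.Q.obj ((DCoh.restrictCx U).obj G) ≅ F) := by
  haveI := MVPushL.grothendieck_modules (U : Scheme.{u})
  haveI := BCOpenL.hasRpush U.ι
  obtain ⟨I, hI, hinj, ⟨eF⟩⟩ := KInjGen8.exists_kInjective_rep F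
  haveI := hI
  let G : CochainComplex X.Modules ℤ :=
    ((Scheme.Modules.pushforward U.ι).mapHomologicalComplex (ComplexShape.up ℤ)).obj I
  have e1 : Q.obj G ≅ (DCoh.Rpush U.ι).obj (Q.obj I) :=
    RDerGE.unitIso (Scheme.Modules.pushforward U.ι) I
  refine ⟨G, ?_, ⟨?_⟩⟩
  · have h := main0998 U.ι (Q.obj I) (DSectX.isQCohD_of_iso eF.symm hF)
    exact DSectX.isQCohD_of_iso e1.symm h
  · let ε := Scheme.Modules.restrictFunctorAdjCounitIso U.ι
    let eC : (DCoh.restrictCx U).obj G ≅ I :=
      HomologicalComplex.Hom.isoOfComponents (fun n => ε.app (I.X n))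
        (fun i j _ => (ε.hom.naturality (I.d i j)).symm)
    exact Q.mapIso eC ≪≫ eF

end Groth.Agent.Lib.RpushQCL
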