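import Mathlib
import Groth.Agent.Lib.RpushSite_helper9

/-!
# `R^i u_* F` as a sheafified cohomology presheaf (statement form)
-/

universe u

open CategoryTheory CategoryTheory.Limits Opposite

namespace RpushSite

variable {C D : Type u} [SmallCategory C] [SmallCategory D]
  (J : GrothendieckTopology C) (K : GrothendieckTopology D)

/-- The presheaf `V ↦ Ext^i(ℤ_{u V}, F)` in the two forms. -/
noncomputable def Eiso (u : D ⥤ C) (F : Sheaf J AddCommGrpCat.{u}) (i : ℕ) :
    PreshExt.E (u ⋙ frF J) F i ≅ u.op ⋙ Sheaf.cohomologyPresheaf.{u} F i :=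
  NatIso.ofComponents (fun _ => Iso.refl _) (fun {_ _} _ =>
    (Category.comp_id _).trans (Category.id_comp _).symm)

theorem main (u : D ⥤ C) [u.IsContinuous K J] (F : Sheaf J AddCommGrpCat.{u}) (i : ℕ) :
    Nonempty ((CohSite.Rpush J K u i).obj F ≅
      (presheafToSheaf K AddCommGrpCat.{u}).obj (u.op ⋙ F.cohomologyPresheaf i)) :=
  ⟨rpushIso J K u F i ≪≫ (shf K).mapIso (Eiso J u F i)⟩

end RpushSite
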