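import Mathlib
import Groth.Prelude
import Groth.Agent.Lib.ApxGlue3_helper3
import Groth.Agent.Lib.RpushPCUnb_helper3
import Groth.Agent.Lib.TensPC1_helper3
import Groth.Agent.Lib.LpullPC_helper3
import Groth.Agent.Lib.PjShriek4_helper3
import Groth.Agent.Lib.RHomPC3_helper3
import Groth.Agent.Lib.LTensQC_lead

/-!
# `Rπ_*(E ⊗^L K)` for pseudo-coherent `E`: testing on perfect complexes (helper3; S1119)

* `isApprox_LTensorCx_map`: `- ⊗^L K` (with `K` cohomologically `≤ b`) sends an `m`-approximation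
  to an `(m + b)`-approximation;
* `main1119`.
-/

set_option autoImplicit false
set_option linter.all false
set_option maxHeartbeats 1600000
set_option backward.isDefEq.respectTransparency false
set_option backward.isDefEq.respectTransparency.types false
set_option backward.defeqAttrib.useBackward true

universe u

open CategoryTheory CategoryTheory.Limits AlgebraicGeometry TopologicalSpace Opposite
open DerivedCategory CategoryTheory.Pretriangulated

attribute [local instance] HasDerivedCategory.standard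

namespace Groth.Agent.Lib.RpushTensPCH3

open Groth.Agent.Lib Groth.Agent.Lib.DCohLocLead Groth.Agent.Lib.PerfLocL
open Groth.Agent.Lib.ApxGlueH3 Groth.Agent.Lib.TensPCH3 Groth.Agent.Lib.RHomPCH3
open Groth.Agent.Lib.RpushPCUnbH3

noncomputable section

theorem isApprox_LTensorCx_map {X : Scheme.{u}} (K : CochainComplex X.Modules ℤ)
    [DCoh.HasLTensorCx K] (b : ℤ) (hK : (Q.obj K).IsLE b) {P E : DCoh.D X} (α : P ⟶ E) (m : ℤ)
    (hα : IsApprox m α) : IsApprox (m + b) ((DCoh.LTensorCx K).map α) := by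
  obtain ⟨A₀, B₀, hA, hB, a, u, v, hfac⟩ := LpullPCH3.exists_arrow_rep α
  obtain ⟨K', π, hK', hπ⟩ := Groth.Agent.Lib.DTorCmp.exists_kflat_resolution' K
  haveI := hπ
  haveI : IsIso (Q.map π) := by rw [DerivedCategory.isIso_Q_map_iff_quasiIso]; infer_instance
  obtain ⟨e⟩ := PjShriekH3.nonempty_ltNatIso K K' π hK'
  have ea : Q.map a = u.hom ≫ α ≫ v.inv := by
    rw [← Category.assoc, hfac, Category.assoc, Iso.hom_inv_id, Category.comp_id]
  have ha : IsApprox m (Q.map a) := by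
    rw [ea]
    exact (IsApprox.of_isIso _).comp (hα.comp (IsApprox.of_isIso _))
  have h2 : Lt (b + 1) (Q.obj K') :=
    Lt_of_isLE'' _ b (TStructure.t.isLE_of_iso (asIso (Q.map π)).symm b)
  have h3 := isApprox_tensor_right hA hB a m ha K' hK' (b + 1) h2
  rw [show m + (b + 1) - 1 = m + b by ring] at h3
  have hnat : (DCoh.LTensorCx K).map (Q.map a) =
      e.hom.app A₀ ≫ Q.map (((DCoh.tensorCx (X := X)).flip.obj K').map a) ≫ e.inv.app B₀ := by
    have h4 := e.hom.naturality a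
    have h5 : (DCoh.LTensorCx K).map (Q.map a) ≫ e.hom.app B₀ =
        e.hom.app A₀ ≫ Q.map (((DCoh.tensorCx (X := X)).flip.obj K').map a) := h4
    calc (DCoh.LTensorCx K).map (Q.map a)
        = ((DCoh.LTensorCx K).map (Q.map a) ≫ e.hom.app B₀) ≫ e.inv.app B₀ := by
          rw [Category.assoc, Iso.hom_inv_id_app]
          exact (Category.comp_id _).symm
      _ = _ := by rw [h5, Category.assoc]
  have h6 : IsApprox (m + b) ((DCoh.LTensorCx K).map (Q.map a)) := by
    rw [hnat]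
    exact (IsApprox.of_isIso _).comp (h3.comp (IsApprox.of_isIso _))
  have h7 : (DCoh.LTensorCx K).map α =
      (DCoh.LTensorCx K).map u.inv ≫ (DCoh.LTensorCx K).map (Q.map a) ≫
        (DCoh.LTensorCx K).map v.hom := by
    rw [← Functor.map_comp, ← Functor.map_comp, ← hfac, Iso.inv_hom_id_assoc]
  rw [h7]
  exact (IsApprox.of_isIso _).comp (h6.comp (IsApprox.of_isIso _))

/-- **S1119** -/
theorem main1119 (A : Type u) [CommRing A] (X : Scheme.{u}) [CompactSpace X]
    [QuasiSeparatedSpace X] (π : X ⟶ Spec (CommRingCat.of A)) [DCoh.HasRpush π]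
    (K : CochainComplex X.Modules ℤ) (hK : DCoh.IsQCohD (DCoh.toD X K)) (b : ℤ)
    [(DCoh.toD X K).IsLE b] [DCoh.HasLTensorCx K]
    (h : ∀ E : DCoh.D X, DCoh.IsPerfect E → ∀ m : ℤ,
      DCoh.IsPseudoCoherentD m ((DCoh.Rpush π).obj ((DCoh.LTensorCx K).obj E)))
    (E : DCoh.D X) (hE : ∀ m : ℤ, DCoh.IsPseudoCoherentD m E) (m : ℤ) :
    DCoh.IsPseudoCoherentD m ((DCoh.Rpush π).obj ((DCoh.LTensorCx K).obj E)) := by
  haveI : QuasiCompact π := inferInstance
  haveI : QuasiSeparated π :=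
    (HasAffineProperty.iff_of_isAffine (P := @QuasiSeparated) (f := π)).mpr inferInstance
  obtain ⟨N, hN⟩ := Groth.Agent.Lib.RpushQCL.main0999 π
  obtain ⟨r, hr⟩ := main1103 X Set.univ isClosed_univ
    (by rw [Set.compl_univ]; exact isCompact_empty)
  have hEq : DCoh.IsQCohD E := isQCohD_of_forall_isPC E hE
  obtain ⟨m', hm'⟩ : ∃ m' : ℤ, m' = m - N - b + 1 := ⟨_, rfl⟩
  obtain ⟨P, α, hP, -, hiso, hepi⟩ := hr m' E hEq (hE _) (fun _ _ => Set.subset_univ _)
  have hα : IsApprox m' α := ⟨hiso, hepi⟩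
  have hKb : (Q.obj K).IsLE b := inferInstanceAs ((DCoh.toD X K).IsLE b)
  have hα' := isApprox_LTensorCx_map K b hKb α m' hα
  obtain ⟨D, q, δ, hTri⟩ := distinguished_cocone_triangle ((DCoh.LTensorCx K).map α)
  have hD : Lt (m' + b) D := Lt_of_isApprox (m' + b) _ hTri hα'
  have hPq : DCoh.IsQCohD ((DCoh.LTensorCx K).obj P) :=
    Groth.Agent.Lib.LTensQCL.main1062 X K hK P (isQCohD_of_isPerfect P hP)
  have hEq' : DCoh.IsQCohD ((DCoh.LTensorCx K).obj E) :=
    Groth.Agent.Lib.LTensQCL.main1062 X K hK E hEq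
  have hDq : DCoh.IsQCohD D := Groth.Agent.Lib.RpushQCL.isQCohD_obj₃ _ hTri hPq hEq'
  haveI hDle : D.IsLE (m' + b - 1) :=
    isLE_of_Lt'' D (m' + b - 1) (by rw [show m' + b - 1 + 1 = m' + b by ring]; exact hD)
  have h3 : DCoh.IsPseudoCoherentD m ((DCoh.Rpush π).obj D) :=
    isPC_of_Lt m _ (fun i hi =>
      isZero_HD_Rpush_of_isLE π N hN D hDq (m' + b - 1) i (by omega))
  have h1 : DCoh.IsPseudoCoherentD m ((DCoh.Rpush π).obj ((DCoh.LTensorCx K).obj P)) :=
    h P hP m
  obtain ⟨T', hT', e₁, e₂, e₃, -, -⟩ :=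
    Groth.Agent.Lib.RDerTriH3.exists_distTriang (Scheme.Modules.pushforward π) _ hTri
  have h2 := (main889 m T' hT').2.1 (isPC_of_iso e₁.symm h1) (isPC_of_iso e₃.symm h3)
  exact isPC_of_iso e₂ h2

end

end Groth.Agent.Lib.RpushTensPCH3
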