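import Mathlib
import Groth.Prelude.Def_Curves
set_option autoImplicit false
open Polynomial
universe u
namespace RqfhH8

/-- An integral extension domain of an absolutely integrally closed domain is trivial. -/
theorem surjective_of_aic {A D : Type*} [CommRing A] [CommRing D] [IsDomain D] [Algebra A D]
    (hA : Curves.IsAIC A) [Algebra.IsIntegral A D] : Function.Surjective (algebraMap A D) := by
  haveI : Nontrivial A := (algebraMap A D).domain_nontrivial
  have key : ∀ (n : ℕ) (β : D) (f : A[X]), f.Monic → f.natDegree = n → aeval β f = 0 →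
      ∃ r : A, algebraMap A D r = β := by
    intro n
    induction n with
    | zero =>
      intro β f hf hn h0
      rw [hf.natDegree_eq_zero.mp hn, map_one] at h0
      exact absurd h0 one_ne_zero
    | succ n ih =>
      intro β f hf hn h0
      obtain ⟨r, hr⟩ := hA f hf (by omega)
      have hroot : IsRoot f r := hr
      have hfac := mul_divByMonic_eq_iff_isRoot.mpr hroot
      obtain ⟨g, hg⟩ : ∃ g, g = f /ₘ (X - C r) := ⟨_, rfl⟩
      rw [← hg] at hfac
      have hgm : g.Monic := (monic_X_sub_C r).of_mul_monic_left (hfac ▸ hf)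
      have hdeg : g.natDegree = n := by
        have h1 := (monic_X_sub_C r).natDegree_mul hgm
        rw [hfac, hn, natDegree_X_sub_C] at h1
        omega
      rw [← hfac, map_mul, map_sub, aeval_X, aeval_C] at h0
      rcases mul_eq_zero.mp h0 with h1 | h1
      · exact ⟨r, (sub_eq_zero.mp h1).symm⟩
      · exact ih β g hgm hdeg h1
  intro β
  obtain ⟨f, hf, h0⟩ := Algebra.IsIntegral.isIntegral (R := A) β
  exact key _ β f hf rfl (by rwa [← aeval_def] at h0)

/-- A finite ring map out of an AIC domain with a prime over zero has a retraction. -/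
theorem exists_retraction {A B : Type*} [CommRing A] [IsDomain A] [CommRing B]
    (hA : Curves.IsAIC A) (φ : A →+* B) (hφ : φ.Finite) (q : Ideal B) [q.IsPrime]
    (hq : q.comap φ = ⊥) : ∃ ρ : B →+* A, ρ.comp φ = RingHom.id A := by
  let alg : Algebra A (B ⧸ q) := ((Ideal.Quotient.mk q).comp φ).toAlgebra
  have hinj : Function.Injective (algebraMap A (B ⧸ q)) := by
    rw [injective_iff_map_eq_zero]
    intro a ha
    have h1 : (Ideal.Quotient.mk q) (φ a) = 0 := ha
    rw [Ideal.Quotient.eq_zero_iff_mem] at h1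
    have h2 : a ∈ q.comap φ := h1
    rw [hq] at h2
    exact h2
  have hint : Algebra.IsIntegral A (B ⧸ q) := by
    have h1 : ((Ideal.Quotient.mk q).comp φ).IsIntegral :=
      RingHom.IsIntegral.trans _ _ hφ.to_isIntegral
        (RingHom.isIntegral_of_surjective _ Ideal.Quotient.mk_surjective)
    exact ⟨h1⟩
  have hsurj := surjective_of_aic (A := A) (D := B ⧸ q) hA
  obtain ⟨e, he⟩ : ∃ e : A ≃+* (B ⧸ q), ∀ a, e a = algebraMap A (B ⧸ q) a :=
    ⟨RingEquiv.ofBijective (algebraMap A (B ⧸ q)) ⟨hinj, hsurj⟩, fun a => rfl⟩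
  refine ⟨e.symm.toRingHom.comp (Ideal.Quotient.mk q), ?_⟩
  ext a
  change e.symm ((Ideal.Quotient.mk q) (φ a)) = a
  have h3 : (Ideal.Quotient.mk q) (φ a) = e a := (he a).symm
  rw [h3, RingEquiv.symm_apply_apply]

end RqfhH8
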