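import Mathlib
import Groth.Agent.Lib.Rqfh1_helper8
set_option autoImplicit false
open AlgebraicGeometry CategoryTheory CategoryTheory.Limits TopologicalSpace
universe u
namespace RqfhH8

variable (P : Scheme.{u})

/-- A section of `Spec B ⟶ P` (for affine `P`) gives a retraction of `Γ(P) ⟶ B`. -/
theorem exists_retraction_of_section [IsAffine P] {B : CommRingCat.{u}} (φ : Γ(P, ⊤) ⟶ B)
    (h : P ⟶ Spec B) (hh : h ≫ Spec.map φ ≫ P.isoSpec.inv = 𝟙 P) :
    ∃ ψ : B ⟶ Γ(P, ⊤), φ ≫ ψ = 𝟙 _ := by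
  have h1 : h ≫ Spec.map φ = P.isoSpec.hom := by
    rw [← Category.assoc, Iso.comp_inv_eq, Category.id_comp] at hh
    exact hh
  refine ⟨(Scheme.ΓSpecIso B).inv ≫ h.appTop, ?_⟩
  rw [← Category.assoc, Scheme.ΓSpecIso_inv_naturality, Category.assoc, ← Scheme.Hom.comp_appTop,
    h1]
  have h2 : P.isoSpec.hom.appTop = (Scheme.ΓSpecIso Γ(P, ⊤)).hom := by
    rw [Scheme.isoSpec_hom, Scheme.toSpecΓ_appTop]
  rw [h2, Iso.inv_hom_id]

/-- A retraction of `f.appTop` gives a section of `f` (for affine source and target). -/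
theorem exists_section_of_retraction [IsAffine P] {Q : Scheme.{u}} [IsAffine Q] (f : Q ⟶ P)
    (ρ : Γ(Q, ⊤) ⟶ Γ(P, ⊤)) (hρ : f.appTop ≫ ρ = 𝟙 _) : ∃ s : P ⟶ Q, s ≫ f = 𝟙 P := by
  refine ⟨P.isoSpec.hom ≫ Spec.map ρ ≫ Q.isoSpec.inv, ?_⟩
  rw [Category.assoc, Category.assoc, ← Scheme.isoSpec_inv_naturality, ← Spec.map_comp_assoc, hρ,
    Spec.map_id, Category.id_comp, Iso.hom_inv_id]

/-- Joint surjectivity on spectra gives joint surjectivity onto `P`. -/
theorem exists_mem_range [IsAffine P] {ι : Type*} (B : ι → CommRingCat.{u})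
    (φ : ∀ i, Γ(P, ⊤) ⟶ B i)
    (hcov : ∀ p : PrimeSpectrum Γ(P, ⊤), ∃ i, p ∈ Set.range (PrimeSpectrum.comap (φ i).hom))
    (x : P) : ∃ i, x ∈ Set.range (Spec.map (φ i) ≫ P.isoSpec.inv) := by
  obtain ⟨i, y, hy⟩ := hcov (P.isoSpec.hom x)
  refine ⟨i, y, ?_⟩
  rw [Scheme.Hom.comp_apply, Spec.map_apply, hy, ← Scheme.Hom.comp_apply, Iso.hom_inv_id]
  rfl

/-- Unpacking membership in `Scheme.precoverage`. -/
theorem mem_precoverage_iff (Q : MorphismProperty Scheme.{u}) (X : Scheme.{u}) (R : Presieve X) :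
    R ∈ Scheme.precoverage Q X ↔
      (∀ x : X, ∃ (Y : Scheme.{u}) (w : Y ⟶ X), R w ∧ x ∈ Set.range w) ∧
        ∀ ⦃Y : Scheme.{u}⦄ ⦃w : Y ⟶ X⦄, R w → Q w := by
  constructor
  · rintro ⟨h1, h2⟩
    exact ⟨(Presieve.mem_comap_jointlySurjectivePrecoverage_iff Scheme.forget).mp h1, h2⟩
  · rintro ⟨h1, h2⟩
    exact ⟨(Presieve.mem_comap_jointlySurjectivePrecoverage_iff Scheme.forget).mpr h1, h2⟩

/-- The spectrum of a local ring is local for Zariski coverings. -/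
theorem zariski_local [IsAffine P] [IsLocalRing Γ(P, ⊤)] (X : Scheme.{u}) (R : Presieve X)
    (hR : R ∈ Scheme.precoverage (@IsOpenImmersion ⊓ @QuasiCompact) X) (g : P ⟶ X) :
    ∃ (Y : Scheme.{u}) (w : Y ⟶ X) (h : P ⟶ Y), R w ∧ h ≫ w = g := by
  rw [mem_precoverage_iff] at hR
  obtain ⟨hsurj, hprop⟩ := hR
  obtain ⟨x₀, hx₀⟩ : ∃ x₀ : P, x₀ = P.isoSpec.inv (IsLocalRing.closedPoint Γ(P, ⊤)) := ⟨_, rfl⟩
  have hspec : ∀ x : P, x ⤳ x₀ := by
    intro x
    have h1 : P.isoSpec.hom x ⤳ IsLocalRing.closedPoint Γ(P, ⊤) :=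
      IsLocalRing.specializes_closedPoint _
    have h2 := h1.map P.isoSpec.inv.continuous
    rw [← hx₀] at h2
    have h3 : P.isoSpec.inv (P.isoSpec.hom x) = x := by
      rw [← Scheme.Hom.comp_apply, Iso.hom_inv_id]
      rfl
    rw [h3] at h2
    exact h2
  obtain ⟨Y, w, hw, hx⟩ := hsurj (g x₀)
  haveI : IsOpenImmersion w := (hprop hw).1
  have hrange : Set.range g ⊆ w.opensRange := by
    rintro _ ⟨x, rfl⟩
    have h4 : g x ⤳ g x₀ := (hspec x).map g.continuous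
    exact h4.mem_open w.opensRange.2 hx
  exact ⟨Y, w, IsOpenImmersion.lift w g hrange, hw, IsOpenImmersion.lift_fac _ _ _⟩

/-- The spectrum of an absolutely integrally closed domain is local for finite coverings. -/
theorem finite_local [IsAffine P] [IsDomain Γ(P, ⊤)] (hA : Curves.IsAIC Γ(P, ⊤))
    (X : Scheme.{u}) (R : Presieve X)
    (hR : R ∈ Scheme.precoverage @IsFinite X) (g : P ⟶ X) :
    ∃ (Y : Scheme.{u}) (w : Y ⟶ X) (h : P ⟶ Y), R w ∧ h ≫ w = g := by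
  rw [mem_precoverage_iff] at hR
  obtain ⟨hsurj, hprop⟩ := hR
  obtain ⟨η, hη⟩ : ∃ η : P, η = P.isoSpec.inv (⟨⊥, Ideal.isPrime_bot⟩ : PrimeSpectrum Γ(P, ⊤)) :=
    ⟨_, rfl⟩
  have hη' : P.isoSpec.hom η = (⟨⊥, Ideal.isPrime_bot⟩ : PrimeSpectrum Γ(P, ⊤)) := by
    rw [hη, ← Scheme.Hom.comp_apply, Iso.inv_hom_id]
    rfl
  obtain ⟨Y, w, hw, y, hy⟩ := hsurj (g η)
  haveI : IsFinite w := hprop hw
  haveI : IsAffine (pullback g w) := isAffine_of_isAffineHom (pullback.fst g w)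
  obtain ⟨z, hz, -⟩ := Scheme.Pullback.exists_preimage_pullback (f := g) (g := w) η y hy.symm
  have hfin : RingHom.Finite (pullback.fst g w).appTop.hom :=
    ((HasAffineProperty.iff_of_isAffine (P := @IsFinite)).mp
      (inferInstance : IsFinite (pullback.fst g w))).2
  have hq : ((pullback g w).isoSpec.hom z).asIdeal.comap (pullback.fst g w).appTop.hom = ⊥ := by
    have h1 : Spec.map (pullback.fst g w).appTop ((pullback g w).isoSpec.hom z) =
        P.isoSpec.hom (pullback.fst g w z) := by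
      rw [← Scheme.Hom.comp_apply, ← Scheme.Hom.comp_apply, Scheme.isoSpec_hom_naturality]
    rw [hz, hη', Spec.map_apply] at h1
    exact congrArg PrimeSpectrum.asIdeal h1
  obtain ⟨ρ, hρ⟩ := exists_retraction hA (pullback.fst g w).appTop.hom hfin
    ((pullback g w).isoSpec.hom z).asIdeal hq
  obtain ⟨s, hs⟩ := exists_section_of_retraction P (pullback.fst g w) (CommRingCat.ofHom ρ) (by
    ext a
    exact RingHom.congr_fun hρ a)
  refine ⟨Y, w, s ≫ pullback.snd g w, hw, ?_⟩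
  rw [Category.assoc, ← pullback.condition, ← Category.assoc, hs, Category.id_comp]

end RqfhH8
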