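import Mathlib
import Groth.Agent.Lib.Rqfh2_helper8
set_option autoImplicit false
open AlgebraicGeometry CategoryTheory CategoryTheory.Limits TopologicalSpace
universe u
namespace RqfhH8

variable (P : Scheme.{u})

/-- Locality against a covering of an affine `P` by spectra yields a retraction. -/
theorem exists_retraction_of_local [IsAffine P] (Q : MorphismProperty Scheme.{u})
    (hloc : ∀ (X : Scheme.{u}) (R : Presieve X), R ∈ Scheme.precoverage Q X →
        ∀ g : P ⟶ X, ∃ (Y : Scheme.{u}) (w : Y ⟶ X) (h : P ⟶ Y), R w ∧ h ≫ w = g)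
    {ι : Type} (B : ι → CommRingCat.{u}) (φ : ∀ i, Γ(P, ⊤) ⟶ B i)
    (hcov : ∀ p : PrimeSpectrum Γ(P, ⊤), ∃ i, p ∈ Set.range (PrimeSpectrum.comap (φ i).hom))
    (hQ : ∀ i, Q (Spec.map (φ i) ≫ P.isoSpec.inv)) :
    ∃ i, ∃ ψ : B i ⟶ Γ(P, ⊤), φ i ≫ ψ = 𝟙 _ := by
  have hR : Presieve.ofArrows (fun i => Spec (B i)) (fun i => Spec.map (φ i) ≫ P.isoSpec.inv) ∈
      Scheme.precoverage Q P := by
    rw [Scheme.ofArrows_mem_precoverage_iff]
    exact ⟨fun x => exists_mem_range P B φ hcov x, hQ⟩
  obtain ⟨Y, w, h, hw, hh⟩ := hloc P _ hR (𝟙 P)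
  cases hw with
  | mk i => exact ⟨i, exists_retraction_of_section P (φ i) h hh⟩

section zariski
variable [QuasiSeparatedSpace P]
  (hZ : ∀ (X : Scheme.{u}) (R : Presieve X),
    R ∈ Scheme.precoverage (@IsOpenImmersion ⊓ @QuasiCompact) X →
      ∀ g : P ⟶ X, ∃ (Y : Scheme.{u}) (w : Y ⟶ X) (h : P ⟶ Y), R w ∧ h ≫ w = g)

include hZ in
theorem nonempty_of_zariski_local : Nonempty P := by
  by_contra hne
  rw [not_nonempty_iff] at hne
  obtain ⟨Y, w, h, hw, -⟩ := hZ P ⊥ (Scheme.bot_mem_precoverage _ P) (𝟙 P)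
  exact hw

include hZ in
theorem isAffine_of_zariski_local : IsAffine P := by
  have hR : Presieve.ofArrows (fun U : P.affineOpens => (U.1 : Scheme.{u}))
      (fun U => U.1.ι) ∈ Scheme.precoverage (@IsOpenImmersion ⊓ @QuasiCompact) P := by
    rw [Scheme.ofArrows_mem_precoverage_iff]
    refine ⟨fun x => ?_, fun U => ?_⟩
    · obtain ⟨_, ⟨U, hU : IsAffineOpen U, rfl⟩, hxU, -⟩ :=
        (P.isBasis_affineOpens).exists_subset_of_mem_open (Set.mem_univ x) isOpen_univ
      exact ⟨⟨U, hU⟩, ⟨x, hxU⟩, rfl⟩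
    · haveI : IsAffine (U.1 : Scheme.{u}) := U.2
      exact ⟨inferInstance, inferInstance⟩
  obtain ⟨Y, w, h, hw, hh⟩ := hZ P _ hR (𝟙 P)
  cases hw with
  | mk U =>
    haveI : IsAffine (U.1 : Scheme.{u}) := U.2
    have h1 : U.1.ι ≫ h = 𝟙 _ := by
      rw [← cancel_mono U.1.ι, Category.assoc, hh, Category.comp_id, Category.id_comp]
    haveI : IsIso h := ⟨U.1.ι, hh, h1⟩
    exact IsAffine.of_isIso h

include hZ in
theorem isLocalRing_of_zariski_local [IsAffine P] : IsLocalRing Γ(P, ⊤) := by
  obtain ⟨x⟩ := nonempty_of_zariski_local P hZ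
  haveI : Nontrivial Γ(P, ⊤) := (P.isoSpec.hom x : PrimeSpectrum Γ(P, ⊤)).nontrivial
  apply IsLocalRing.of_isUnit_or_isUnit_one_sub_self
  intro a
  obtain ⟨c, hc⟩ : ∃ c : Bool → Γ(P, ⊤), c = fun b => if b then a else 1 - a := ⟨_, rfl⟩
  obtain ⟨i, ψ, hψ⟩ := exists_retraction_of_local P (@IsOpenImmersion ⊓ @QuasiCompact) hZ
    (fun i : Bool => CommRingCat.of (Localization.Away (c i)))
    (fun i => CommRingCat.ofHom (algebraMap Γ(P, ⊤) (Localization.Away (c i))))
    (by
      intro p
      have h1 : a ∉ p.asIdeal ∨ 1 - a ∉ p.asIdeal := by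
        by_contra hcon
        push Not at hcon
        have h2 : (1 : Γ(P, ⊤)) ∈ p.asIdeal := by
          have := p.asIdeal.add_mem hcon.1 hcon.2
          rwa [add_sub_cancel] at this
        exact p.isPrime.ne_top ((Ideal.eq_top_iff_one _).mpr h2)
      rcases h1 with h1 | h1
      · refine ⟨true, ?_⟩
        change p ∈ Set.range (PrimeSpectrum.comap (algebraMap Γ(P, ⊤) (Localization.Away (c true))))
        rw [PrimeSpectrum.localization_away_comap_range (Localization.Away (c true)) (c true), hc]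
        exact h1
      · refine ⟨false, ?_⟩
        change p ∈ Set.range (PrimeSpectrum.comap
          (algebraMap Γ(P, ⊤) (Localization.Away (c false))))
        rw [PrimeSpectrum.localization_away_comap_range (Localization.Away (c false)) (c false), hc]
        exact h1)
    (fun i => ⟨inferInstance, inferInstance⟩)
  have hu : IsUnit (c i) := by
    have h1 : IsUnit (algebraMap Γ(P, ⊤) (Localization.Away (c i)) (c i)) :=
      IsLocalization.Away.algebraMap_isUnit (c i)
    have h2 := h1.map ψ.hom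
    have h3 : ψ.hom (algebraMap Γ(P, ⊤) (Localization.Away (c i)) (c i)) = c i := by
      have := congrArg (fun m => m.hom (c i)) hψ
      exact this
    rwa [h3] at h2
  rw [hc] at hu
  cases i
  · exact Or.inr hu
  · exact Or.inl hu

end zariski

section finite
variable (hF : ∀ (X : Scheme.{u}) (R : Presieve X), R ∈ Scheme.precoverage @IsFinite X →
      ∀ g : P ⟶ X, ∃ (Y : Scheme.{u}) (w : Y ⟶ X) (h : P ⟶ Y), R w ∧ h ≫ w = g)

include hF in
theorem isDomain_of_finite_local [IsAffine P] [Nontrivial Γ(P, ⊤)] : IsDomain Γ(P, ⊤) := by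
  haveI : NoZeroDivisors Γ(P, ⊤) := by
    refine ⟨?_⟩
    intro a b hab
    obtain ⟨c, hc⟩ : ∃ c : Bool → Γ(P, ⊤), c = fun i => if i then a else b := ⟨_, rfl⟩
    obtain ⟨i, ψ, hψ⟩ := exists_retraction_of_local P @IsFinite hF
      (fun i : Bool => CommRingCat.of (Γ(P, ⊤) ⧸ Ideal.span {c i}))
      (fun i => CommRingCat.ofHom (Ideal.Quotient.mk (Ideal.span {c i})))
      (by
        intro p
        have h1 : a ∈ p.asIdeal ∨ b ∈ p.asIdeal :=
          p.isPrime.mem_or_mem (hab ▸ p.asIdeal.zero_mem)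
        have key : ∀ i : Bool, c i ∈ p.asIdeal → p ∈ Set.range (PrimeSpectrum.comap
            (Ideal.Quotient.mk (Ideal.span {c i}))) := by
          intro i hi
          rw [_root_.range_comap_of_surjective _ _ Ideal.Quotient.mk_surjective,
            Ideal.mk_ker, PrimeSpectrum.mem_zeroLocus, SetLike.coe_subset_coe,
            Ideal.span_le, Set.singleton_subset_iff]
          exact hi
        rcases h1 with h1 | h1
        · exact ⟨true, key true (by rw [hc]; exact h1)⟩
        · exact ⟨false, key false (by rw [hc]; exact h1)⟩)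
      (fun i => by
        haveI : IsFinite (Spec.map (CommRingCat.ofHom
            (Ideal.Quotient.mk (Ideal.span {c i})))) := by
          rw [IsFinite.SpecMap_iff]
          exact RingHom.Finite.of_surjective _ Ideal.Quotient.mk_surjective
        infer_instance)
    have hinj : Function.Injective (Ideal.Quotient.mk (Ideal.span {c i})) := by
      intro x y hxy
      have h1 := congrArg (fun m => m.hom x) hψ
      have h2 := congrArg (fun m => m.hom y) hψ
      change ψ.hom (Ideal.Quotient.mk (Ideal.span {c i}) x) = x at h1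
      change ψ.hom (Ideal.Quotient.mk (Ideal.span {c i}) y) = y at h2
      rw [← h1, ← h2, hxy]
    have h0 : c i = 0 := by
      apply hinj
      rw [map_zero, Ideal.Quotient.eq_zero_iff_mem]
      exact Ideal.mem_span_singleton_self _
    rw [hc] at h0
    cases i
    · exact Or.inr h0
    · exact Or.inl h0
  exact ⟨⟩

include hF in
theorem isAIC_of_finite_local [IsAffine P] [IsDomain Γ(P, ⊤)] : Curves.IsAIC Γ(P, ⊤) := by
  intro f hf hdeg
  have hinj : Function.Injective (AdjoinRoot.of f) := by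
    apply AdjoinRoot.of.injective_of_degree_ne_zero
    exact (Polynomial.natDegree_pos_iff_degree_pos.mp hdeg).ne'
  haveI : Module.Finite Γ(P, ⊤) (AdjoinRoot f) := hf.finite_adjoinRoot
  obtain ⟨i, ψ, hψ⟩ := exists_retraction_of_local P @IsFinite hF
    (fun _ : Unit => CommRingCat.of (AdjoinRoot f))
    (fun _ => CommRingCat.ofHom (AdjoinRoot.of f))
    (by
      intro p
      refine ⟨(), ?_⟩
      haveI := p.isPrime
      obtain ⟨Q, -, hQ, hQp⟩ := Ideal.exists_ideal_over_prime_of_isIntegral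
        (R := Γ(P, ⊤)) (S := AdjoinRoot f) p.asIdeal ⊥ (by
          intro x hx
          have h1 : algebraMap Γ(P, ⊤) (AdjoinRoot f) x = 0 := hx
          have h2 : x = 0 := hinj (by rw [map_zero]; exact h1)
          rw [h2]
          exact p.asIdeal.zero_mem)
      exact ⟨⟨Q, hQ⟩, PrimeSpectrum.ext hQp⟩)
    (fun _ => by
      haveI : IsFinite (Spec.map (CommRingCat.ofHom (AdjoinRoot.of f))) := by
        rw [IsFinite.SpecMap_iff]
        exact RingHom.finite_algebraMap.mpr inferInstance
      infer_instance)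
  refine ⟨ψ.hom (AdjoinRoot.root f), ?_⟩
  have h1 := congrArg ψ.hom (AdjoinRoot.eval₂_root f)
  rw [Polynomial.hom_eval₂, map_zero] at h1
  have h2 : ψ.hom.comp (AdjoinRoot.of f) = RingHom.id _ := by
    ext x
    exact congrArg (fun m => m.hom x) hψ
  rw [h2] at h1
  exact h1

end finite

end RqfhH8
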