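import Mathlib
import Groth.Agent.Lib.ClosedPt_helper8
import Groth.Agent.Lib.LocBase_helper8
import Groth.Agent.Lib.LocDim1_helper8
import Groth.Agent.S9684

universe u
open AlgebraicGeometry CategoryTheory

namespace S8538H8

theorem main (A : Type u) [CommRing A] [IsNoetherianRing A] [IsLocalRing A]
    (hA : CAlg.IsUniversallyCatenary A) {X : Scheme.{u}} (f : X ⟶ Spec (CommRingCat.of A))
    [LocallyOfFiniteType f] [QuasiCompact f] (x : X) (a b d : ℕ)
    (ha : ringKrullDim (A ⧸ (f.base x).asIdeal) = a)
    (hb : @Algebra.trdeg ((Spec (CommRingCat.of A)).residueField (f.base x)) (X.residueField x) _ _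
      (f.residueFieldMap x).hom.toAlgebra = b)
    (hd : topologicalKrullDim ↥(closure ({x} : Set X)) = d) :
    ((closure ({x} : Set X) ∩ f.base ⁻¹' {((IsLocalRing.closedPoint A : PrimeSpectrum A) :
        ↥(Spec (CommRingCat.of A)))}).Nonempty → d = a + b) ∧
    (closure ({x} : Set X) ∩ f.base ⁻¹' {((IsLocalRing.closedPoint A : PrimeSpectrum A) :
        ↥(Spec (CommRingCat.of A)))} = ∅ → d + 1 = a + b) := by
  classical
  let t : X → ℕ := fun z => Cardinal.toNat
    (@Algebra.trdeg ((Spec (CommRingCat.of A)).residueField (f z)) (X.residueField z) _ _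
      (f.residueFieldMap z).hom.toAlgebra)
  let δX : X → ℤ := fun z => LocBaseH8.δS A (f z) + (t z : ℤ)
  have hcompat : Cyc.DeltaCompat f δX (LocBaseH8.δS A) := by
    intro z
    obtain ⟨n, hn⟩ := Groth.Agent.ResQuot2H8.exists_trdeg_nat f z
    refine ⟨n, hn, ?_⟩
    show LocBaseH8.δS A (f z) + (t z : ℤ) = _ + n
    have : t z = n := by
      simp only [t]
      rw [hn]
      exact Cardinal.toNat_natCast n
    rw [this]
  have hδ : Cyc.IsDimFun X δX :=
    Groth.Agent.S9684.result f (LocBaseH8.δS A) (LocBaseH8.isSetup A hA) δX hcompat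
  -- values of δS
  have hδS_nonneg : ∀ s, 0 ≤ LocBaseH8.δS A s := fun s => by
    simp only [LocBaseH8.δS]; positivity
  have hδS_top : LocBaseH8.δS A (IsLocalRing.closedPoint A : PrimeSpectrum A) = 0 := by
    simp only [LocBaseH8.δS]
    have : @Order.coheight (PrimeSpectrum A) _ (IsLocalRing.closedPoint A) = 0 :=
      Order.coheight_eq_zero.mpr (isMax_top (α := PrimeSpectrum A))
    rw [this]
    rfl
  have hδS_pos : ∀ s : ↥(Spec (CommRingCat.of A)),
      s ≠ ((IsLocalRing.closedPoint A : PrimeSpectrum A) : ↥(Spec (CommRingCat.of A))) →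
      1 ≤ LocBaseH8.δS A s := by
    intro s hs
    simp only [LocBaseH8.δS]
    have h1 : @Order.coheight (PrimeSpectrum A) _ s ≠ 0 := by
      intro h0
      have hmax : IsMax (show PrimeSpectrum A from s) := Order.coheight_eq_zero.mp h0
      exact hs (isMax_iff_eq_top.mp hmax)
    have h2 : @Order.coheight (PrimeSpectrum A) _ s ≠ ⊤ :=
      (Groth.Agent.JUC1H8.coheight_lt_top _).ne
    have h3 : (@Order.coheight (PrimeSpectrum A) _ s).toNat ≠ 0 := by
      rw [Ne, ENat.toNat_eq_zero]
      push Not
      exact ⟨h1, h2⟩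
    omega
  have hnonneg : ∀ z, 0 ≤ δX z := fun z => by
    have := hδS_nonneg (f z)
    simp only [δX]; positivity
  -- δX x = a + b
  have hδx : δX x = (a : ℤ) + b := by
    have h1 : LocBaseH8.δS A (f x) = a := by
      simp only [LocBaseH8.δS]
      have h2 := Groth.Agent.DimFT3H8.ringKrullDim_quotient_eq_coheight (f.base x).asIdeal
      rw [ha] at h2
      have h3 : @Order.coheight (PrimeSpectrum A) _ (f x) = (a : ℕ∞) := by
        have : ((a : ℕ∞) : WithBot ℕ∞) = (@Order.coheight (PrimeSpectrum A) _ (f x) : ℕ∞) := by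
          exact_mod_cast h2
        exact (WithBot.coe_injective this).symm
      rw [h3]
      rfl
    have h2 : t x = b := by
      simp only [t]
      rw [hb]
      exact Cardinal.toNat_natCast b
    simp only [δX]
    rw [h1, h2]
  -- monotonicity
  have hmono : ∀ a' ∈ closure ({x} : Set X), δX a' ≤ δX x := by
    intro a' ha'
    have hsp : x ⤳ a' := specializes_iff_mem_closure.mpr ha'
    by_cases hne : x = a'
    · rw [hne]
    · exact (hδ x a' hsp hne).1.le
  -- dimension formula
  have hdim := Groth.Agent.LocDim1H8.topDim_inter_eq X δX hδ (closure ({x} : Set X)) Set.univ isClosed_closure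
    (fun _ _ _ _ => trivial)
  rw [Set.inter_univ, hd] at hdim
  haveI : CompactSpace X := QuasiCompact.compactSpace_of_compactSpace f
  have hxcl : x ∈ closure ({x} : Set X) := subset_closure rfl
  have ht0cl : IsClosed ({((IsLocalRing.closedPoint A : PrimeSpectrum A) :
      ↥(Spec (CommRingCat.of A)))} : Set ↥(Spec (CommRingCat.of A))) :=
    IsLocalRing.isClosed_singleton_closedPoint A
  -- bounds
  have hupper : ∀ N : ℕ, (∀ a' ∈ closure ({x} : Set X), ∀ b' ∈ closure ({x} : Set X),
      (δX a' - δX b').toNat ≤ N) → d ≤ N := by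
    intro N hN
    have : (d : WithBot ℕ∞) ≤ (N : WithBot ℕ∞) := by
      rw [hdim]
      refine iSup_le fun a' => iSup_le fun b' => iSup_le fun h => ?_
      have := hN a' h.1 b' h.2.1
      exact_mod_cast this
    exact_mod_cast this
  have hlower : ∀ b' ∈ closure ({x} : Set X), (δX x - δX b').toNat ≤ d := by
    intro b' hb'
    have h1 : (((δX x - δX b').toNat : ℕ) : WithBot ℕ∞) ≤ (d : WithBot ℕ∞) := by
      rw [hdim]
      refine le_trans ?_ (le_iSup _ x)
      refine le_trans ?_ (le_iSup _ b')
      exact le_trans le_rfl (le_iSup (fun _ : x ∈ closure ({x} : Set X) ∧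
        b' ∈ closure ({x} : Set X) ∧ x ⤳ b' => (((δX x - δX b').toNat : ℕ) : WithBot ℕ∞))
        ⟨hxcl, hb', specializes_iff_mem_closure.mpr hb'⟩)
    exact_mod_cast h1
  constructor
  · rintro ⟨w, hw1, hw2⟩
    have hcl : IsClosed (closure ({x} : Set X) ∩ f.base ⁻¹' {((IsLocalRing.closedPoint A :
        PrimeSpectrum A) : ↥(Spec (CommRingCat.of A)))}) :=
      isClosed_closure.inter (ht0cl.preimage f.continuous)
    obtain ⟨z, hzmem, hzcl⟩ := hcl.exists_closed_singleton ⟨w, hw1, hw2⟩
    have hfz : f z = ((IsLocalRing.closedPoint A : PrimeSpectrum A) :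
        ↥(Spec (CommRingCat.of A))) := hzmem.2
    have htz : t z = 0 := by
      simp only [t]
      rw [ClosedPtH8.trdeg_eq_zero_of_isClosed f z hzcl]
      simp
    have hδz : δX z = 0 := by
      simp only [δX]
      rw [htz, hfz, hδS_top]
      rfl
    have h1 := hlower z hzmem.1
    rw [hδz, hδx] at h1
    have h2 := hupper (a + b) (fun a' ha' b' hb' => by
      have := hmono a' ha'
      have := hnonneg b'
      rw [hδx] at *
      omega)
    omega
  · intro hempty
    have hall : ∀ b' ∈ closure ({x} : Set X), 1 ≤ δX b' := by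
      intro b' hb'
      have hne : f b' ≠ ((IsLocalRing.closedPoint A : PrimeSpectrum A) :
          ↥(Spec (CommRingCat.of A))) := by
        intro h
        have : b' ∈ closure ({x} : Set X) ∩ f.base ⁻¹' {((IsLocalRing.closedPoint A :
            PrimeSpectrum A) : ↥(Spec (CommRingCat.of A)))} := ⟨hb', h⟩
        rw [hempty] at this
        exact this
      have := hδS_pos (f b') hne
      simp only [δX]
      omega
    obtain ⟨z, hzmem, hzcl⟩ := (isClosed_closure (s := ({x} : Set X))).exists_closed_singleton
      ⟨x, hxcl⟩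
    have htz : t z = 0 := by
      simp only [t]
      rw [ClosedPtH8.trdeg_eq_zero_of_isClosed f z hzcl]
      simp
    have hδz : δX z = 1 := by
      have h1 := hall z hzmem
      have h2 := ClosedPtH8.coheight_le_one_of_isClosed f z hzcl
      have h3 : LocBaseH8.δS A (f z) ≤ 1 := by
        simp only [LocBaseH8.δS]
        have : (@Order.coheight (PrimeSpectrum A) _ (f z)).toNat ≤ 1 :=
          ENat.toNat_le_of_le_natCast h2
        exact_mod_cast this
      simp only [δX] at h1 ⊢
      rw [htz] at h1 ⊢
      omega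
    have h1 := hlower z hzmem
    rw [hδz, hδx] at h1
    have hx1 := hall x hxcl
    rw [hδx] at hx1
    have h2 := hupper (a + b - 1) (fun a' ha' b' hb' => by
      have := hmono a' ha'
      have := hall b' hb'
      rw [hδx] at *
      omega)
    omega

end S8538H8
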