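import Mathlib
import Groth.Prelude.Def_Hensel
import Groth.Agent.Lib.StrictHens8_helper3
import Groth.Agent.Lib.DvrCompl1_helper8

/-!
# Strict henselization of a discrete valuation ring (helper8), part 1: it is a DVR
-/

set_option autoImplicit false
universe u

namespace Groth.Agent.Lib.SHDvrH8

open IsLocalRing Groth.Agent.Lib.StrictHens

section

variable (R S : Type u) [CommRing R] [IsDomain R] [IsDiscreteValuationRing R]
  [CommRing S] [IsLocalRing S] [Algebra R S] [IsLocalHom (algebraMap R S)]
  [Hensel.IsStrictHenselization R S]

theorem algebraMap_injective : Function.Injective (algebraMap R S) := by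
  haveI := faithfullyFlat_of_isStrictHenselization (R := R) S
  exact FaithfulSMul.algebraMap_injective R S

/-- A uniformizer of `R` generates the maximal ideal of a strict henselization. -/
theorem maximalIdeal_eq_span (ϖ : R) (hϖ : maximalIdeal R = Ideal.span {ϖ}) :
    maximalIdeal S = Ideal.span {algebraMap R S ϖ} := by
  rw [← map_maximalIdeal_of_isStrictHenselization (R := R) S, hϖ, Ideal.map_span,
    Set.image_singleton]

include R in
/-- A strict henselization of a discrete valuation ring is a discrete valuation ring. -/
theorem isDVR : ∃ (_ : IsDomain S), IsDiscreteValuationRing S := by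
  obtain ⟨ϖ, hirr⟩ := IsDiscreteValuationRing.exists_irreducible R
  have hϖ : maximalIdeal R = Ideal.span {ϖ} := hirr.maximalIdeal_eq
  haveI : IsNoetherianRing S :=
    (isNoetherianRing_iff_of_isStrictHenselization (R := R) S).mp inferInstance
  haveI : IsHausdorff (maximalIdeal S) S :=
    IsHausdorff.of_le_jacobson _ _ (IsLocalRing.maximalIdeal_le_jacobson _)
  refine DvrComplH8.isDVR_of_principal_hausdorff S (algebraMap R S ϖ)
    (maximalIdeal_eq_span R S ϖ hϖ) ?_
  intro n hn
  rw [← map_pow] at hn
  have h0 : ϖ ^ n = 0 := algebraMap_injective R S (by rw [hn, map_zero])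
  exact hirr.ne_zero (pow_eq_zero_iff (by
    rintro rfl
    rw [pow_zero] at h0
    exact one_ne_zero h0) |>.mp h0)

end

end Groth.Agent.Lib.SHDvrH8
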