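import Mathlib
import Groth.Prelude.Def_Hensel

/-!
# Strict henselizations (helper8), part 3: maps out of a strict henselization
-/

set_option autoImplicit false
universe u

namespace Groth.Agent.Lib.SHDvrH8

open IsLocalRing

section

variable (R S : Type u) [CommRing R] [IsLocalRing R]
  [CommRing S] [IsLocalRing S] [Algebra R S] [IsLocalHom (algebraMap R S)]
  [hS : Hensel.IsStrictHenselization R S]

/-- A ring map out of a strict henselization commuting with residue maps is local. -/
theorem isLocalHom_of_residue {T : Type u} [CommRing T] [IsLocalRing T] (g : S →+* T)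
    (τ : ResidueField S →+* ResidueField T)
    (h : ∀ x : S, residue T (g x) = τ (residue S x)) : IsLocalHom g := by
  constructor
  intro x hx
  by_contra hnu
  have h1 : residue S x = 0 := (residue_eq_zero_iff x).mpr hnu
  have h2 : residue T (g x) = 0 := by rw [h, h1, map_zero]
  exact ((residue_eq_zero_iff (g x)).mp h2) hx

/-- Existence of a local map from a strict henselization to a henselian local ring with
separably closed residue field. -/
theorem exists_map (T : Type u) [CommRing T] [HenselianLocalRing T]
    [IsSepClosed (ResidueField T)] (f : R →+* T) [IsLocalHom f] :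
    ∃ g : S →+* T, g.comp (algebraMap R S) = f ∧ IsLocalHom g := by
  haveI : IsSepClosure (ResidueField R) (ResidueField S) := hS.isSepClosure
  haveI : Algebra.IsSeparable (ResidueField R) (ResidueField S) := IsSepClosure.separable
  letI : Algebra (ResidueField R) (ResidueField T) := (ResidueField.map f).toAlgebra
  let τ : ResidueField S →ₐ[ResidueField R] ResidueField T := IsSepClosed.lift
  have hτ : (τ : ResidueField S →+* ResidueField T).comp
      (ResidueField.map (algebraMap R S)) = ResidueField.map f :=
    RingHom.ext fun x => τ.commutes x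
  obtain ⟨g, ⟨hg1, hg2⟩, -⟩ := hS.universal T f (τ : ResidueField S →+* ResidueField T) hτ
  exact ⟨g, hg1, isLocalHom_of_residue S g _ hg2⟩

/-- Uniqueness of maps out of a strict henselization: agreement on `R` and on residue fields. -/
theorem map_ext (T : Type u) [CommRing T] [HenselianLocalRing T]
    (g₁ g₂ : S →+* T) [IsLocalHom g₁] [IsLocalHom g₂]
    (h : g₁.comp (algebraMap R S) = g₂.comp (algebraMap R S))
    (hres : ∀ x : S, residue T (g₁ x) = residue T (g₂ x)) : g₁ = g₂ := by
  haveI : IsLocalHom (g₁.comp (algebraMap R S)) := RingHom.isLocalHom_comp _ _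
  have hτ : (ResidueField.map g₁).comp (ResidueField.map (algebraMap R S)) =
      ResidueField.map (g₁.comp (algebraMap R S)) := by
    ext x
    obtain ⟨r, rfl⟩ := residue_surjective x
    simp [ResidueField.map_residue]
  obtain ⟨g, -, huniq⟩ := hS.universal T (g₁.comp (algebraMap R S)) (ResidueField.map g₁) hτ
  have e1 : g₁ = g := huniq g₁ ⟨rfl, fun x => (ResidueField.map_residue g₁ x).symm⟩
  have e2 : g₂ = g := huniq g₂ ⟨h.symm, fun x => by
    rw [← hres x]; exact (ResidueField.map_residue g₁ x).symm⟩
  rw [e1, e2]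

end


section factor

theorem exists_ringHom_of_range_le {k k' Ω : Type u} [Field k] [Field k'] [Field Ω]
    (ρ : k →+* Ω) (ρ' : k' →+* Ω) (h : ∀ x : k, ∃ y : k', ρ' y = ρ x) :
    ∃ ι : k →+* k', ∀ x, ρ' (ι x) = ρ x := by
  choose g hg using h
  refine ⟨{ toFun := g, map_one' := ?_, map_mul' := ?_, map_zero' := ?_, map_add' := ?_ }, hg⟩
  · apply ρ'.injective; rw [hg, map_one, map_one]
  · intro x y; apply ρ'.injective; rw [hg, map_mul, map_mul, hg, hg]
  · apply ρ'.injective; rw [hg, map_zero, map_zero]
  · intro x y; apply ρ'.injective; rw [hg, map_add, map_add, hg, hg]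

/-- An element of a field `Ω` which is separable over a subfield `k₀` lies in the image of any
separably closed field `k₁` between. -/
theorem mem_range_of_isSeparable {k₀ k₁ k₂ Ω : Type u} [Field k₀] [Field k₁] [Field k₂] [Field Ω]
    [IsSepClosed k₁] (i : k₀ →+* k₁) (σ : k₁ →+* Ω) (j : k₀ →+* k₂) (ρ : k₂ →+* Ω)
    (hcomm : σ.comp i = ρ.comp j)
    (y : k₂) (hy : letI := j.toAlgebra; IsSeparable k₀ y) : ∃ z : k₁, σ z = ρ y := by
  letI a0 : Algebra k₀ k₂ := j.toAlgebra
  letI a1 : Algebra k₀ k₁ := i.toAlgebra
  letI a2 : Algebra k₁ Ω := σ.toAlgebra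
  letI a3 : Algebra k₀ Ω := (σ.comp i).toAlgebra
  haveI : IsScalarTower k₀ k₁ Ω := IsScalarTower.of_algebraMap_eq' rfl
  let ρ' : k₂ →ₐ[k₀] Ω :=
    { toRingHom := ρ
      commutes' := fun x => by
        show ρ (j x) = σ (i x)
        exact (DFunLike.congr_fun hcomm x).symm }
  have h1 : IsSeparable k₀ (ρ' y) := by
    unfold IsSeparable at hy ⊢
    rwa [minpoly.algHom_eq ρ' ρ'.toRingHom.injective]
  have h2 : IsSeparable k₁ (ρ' y) := IsSeparable.tower_top k₁ h1
  haveI : Algebra.IsSeparable k₁ (IntermediateField.adjoin k₁ {ρ' y}) :=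
    (IntermediateField.isSeparable_adjoin_simple_iff_isSeparable k₁ Ω).mpr h2
  obtain ⟨z, hz⟩ := IsSepClosed.algebraMap_surjective k₁ (IntermediateField.adjoin k₁ {ρ' y})
    (IntermediateField.AdjoinSimple.gen k₁ (ρ' y))
  refine ⟨z, ?_⟩
  have h3 := congrArg Subtype.val hz
  exact h3

variable (R R₁ S S₁ : Type u) [CommRing R] [IsLocalRing R] [CommRing R₁] [IsLocalRing R₁]
  [CommRing S] [IsLocalRing S] [Algebra R S] [IsLocalHom (algebraMap R S)]
  [hS : Hensel.IsStrictHenselization R S]
  [CommRing S₁] [IsLocalRing S₁] [Algebra R₁ S₁] [IsLocalHom (algebraMap R₁ S₁)]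
  [hS₁ : Hensel.IsStrictHenselization R₁ S₁]

/-- Factorization of a map out of a strict henselization through another strict henselization. -/
theorem exists_factor (T : Type u) [CommRing T] [HenselianLocalRing T]
    (f₁ : R →+* R₁) [IsLocalHom f₁] (h : S →+* T) [IsLocalHom h] (h₁ : S₁ →+* T) [IsLocalHom h₁]
    (hcomm : h.comp (algebraMap R S) = (h₁.comp (algebraMap R₁ S₁)).comp f₁) :
    ∃ g : S →+* S₁, IsLocalHom g ∧ g.comp (algebraMap R S) = (algebraMap R₁ S₁).comp f₁ ∧
      h₁.comp g = h := by
  haveI : IsSepClosure (ResidueField R) (ResidueField S) := hS.isSepClosure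
  haveI : Algebra.IsSeparable (ResidueField R) (ResidueField S) := IsSepClosure.separable
  haveI : IsSepClosure (ResidueField R₁) (ResidueField S₁) := hS₁.isSepClosure
  haveI : IsSepClosed (ResidueField S₁) := IsSepClosure.sep_closed (ResidueField R₁)
  haveI : HenselianLocalRing S₁ := hS₁.henselian
  haveI : IsLocalHom ((algebraMap R₁ S₁).comp f₁) := RingHom.isLocalHom_comp _ _
  have hrel : (ResidueField.map h₁).comp (ResidueField.map ((algebraMap R₁ S₁).comp f₁)) =
      (ResidueField.map h).comp (ResidueField.map (algebraMap R S)) := by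
    ext x
    obtain ⟨r, rfl⟩ := residue_surjective x
    simp only [RingHom.coe_comp, Function.comp_apply, ResidueField.map_residue]
    exact congrArg _ (DFunLike.congr_fun hcomm r).symm
  have hA : ∀ y : ResidueField S, ∃ z : ResidueField S₁,
      ResidueField.map h₁ z = ResidueField.map h y := by
    intro y
    exact mem_range_of_isSeparable (ResidueField.map ((algebraMap R₁ S₁).comp f₁))
      (ResidueField.map h₁) (ResidueField.map (algebraMap R S)) (ResidueField.map h) hrel y
      (Algebra.IsSeparable.isSeparable (ResidueField R) y)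
  obtain ⟨τ', hτ'⟩ := exists_ringHom_of_range_le (ResidueField.map h) (ResidueField.map h₁) hA
  have hτc : τ'.comp (ResidueField.map (algebraMap R S)) =
      ResidueField.map ((algebraMap R₁ S₁).comp f₁) := by
    ext x
    apply (ResidueField.map h₁).injective
    rw [RingHom.comp_apply, hτ']
    exact (DFunLike.congr_fun hrel x).symm
  obtain ⟨g, ⟨hg1, hg2⟩, -⟩ := hS.universal S₁ ((algebraMap R₁ S₁).comp f₁) τ' hτc
  haveI hgl : IsLocalHom g := isLocalHom_of_residue S g τ' hg2
  refine ⟨g, hgl, hg1, ?_⟩
  haveI : IsLocalHom (h₁.comp g) := RingHom.isLocalHom_comp _ _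
  apply map_ext R S T
  · rw [RingHom.comp_assoc, hg1, hcomm, RingHom.comp_assoc]
  · intro x
    show residue T (h₁ (g x)) = residue T (h x)
    rw [← ResidueField.map_residue h₁, hg2, hτ', ResidueField.map_residue]

end factor

end Groth.Agent.Lib.SHDvrH8
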