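import Mathlib

/-!
# Descent of a finite extension along an algebraic extension, up to normal closure (helper8)
-/

set_option autoImplicit false
universe u

namespace Groth.Agent.Lib.SHDvrH8

open IntermediateField Polynomial

/-- Let `K'/K` be algebraic and `K₁'/K'` finite.  There is a finite normal extension `K₁/K` such
that any field `F` receiving `K'` and `K₁` compatibly over `K` contains a copy of `K₁'` over `K'`.
If `K'/K` and `K₁'/K'` are separable, so is `K₁/K`. -/
theorem exists_normal_descent (K K' K₁' : Type u) [Field K] [Field K'] [Field K₁']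
    [Algebra K K'] [Algebra K' K₁'] [Algebra.IsAlgebraic K K'] [FiniteDimensional K' K₁'] :
    ∃ (K₁ : Type u) (_ : Field K₁) (_ : Algebra K K₁), FiniteDimensional K K₁ ∧
      (Algebra.IsSeparable K K' → Algebra.IsSeparable K' K₁' → Algebra.IsSeparable K K₁) ∧
      ∀ (F : Type u) [Field F] [Algebra K F] [Algebra K' F] [Algebra K₁ F]
        [IsScalarTower K K' F] [IsScalarTower K K₁ F], Nonempty (K₁' →ₐ[K'] F) := by
  classical
  letI : Algebra K K₁' := ((algebraMap K' K₁').comp (algebraMap K K')).toAlgebra
  haveI : IsScalarTower K K' K₁' := IsScalarTower.of_algebraMap_eq' rfl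
  haveI : Algebra.IsAlgebraic K K₁' := Algebra.IsAlgebraic.trans K K' K₁'
  let b := Module.finBasis K' K₁'
  let S : Set K₁' := Set.range b
  have hSfin : S.Finite := Set.finite_range b
  have hStop : adjoin K' S = ⊤ := by
    apply adjoin_eq_top_of_algebra
    rw [eq_top_iff]
    intro x _
    have hx : x ∈ Submodule.span K' S := by rw [b.span_eq]; trivial
    exact Algebra.span_le_adjoin K' S hx
  let K₀ : IntermediateField K K₁' := adjoin K S
  haveI : FiniteDimensional K K₀ :=
    finiteDimensional_adjoin (fun x _ => (Algebra.IsAlgebraic.isAlgebraic x).isIntegral)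
  let Ω := AlgebraicClosure K₀
  refine ⟨normalClosure K K₀ Ω, inferInstance, inferInstance, inferInstance, ?_, ?_⟩
  · intro hs1 hs2
    have hsep : ∀ x ∈ S, IsSeparable K x := fun x _ =>
      IsSeparable.of_algebra_isSeparable_of_isSeparable K (E := K')
        (Algebra.IsSeparable.isSeparable K' x)
    haveI : Algebra.IsSeparable K K₀ := (isSeparable_adjoin_iff_isSeparable K K₁').mpr hsep
    have hle : normalClosure K K₀ Ω ≤ separableClosure K Ω :=
      normalClosure_le_iff.2 fun i =>
        have : Algebra.IsSeparable K i.fieldRange :=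
          (AlgEquiv.Algebra.isSeparable (AlgEquiv.ofInjectiveField i))
        le_separableClosure K Ω _
    exact (le_separableClosure_iff K Ω _).mp hle
  · intro F _ _ _ _ _ _
    apply nonempty_algHom_of_adjoin_splits (S := S) _ hStop
    intro s hs
    refine ⟨(Algebra.IsAlgebraic.isAlgebraic s).isIntegral, ?_⟩
    -- the minimal polynomial of `s` over `K` splits in the normal closure
    let s₀ : K₀ := ⟨s, subset_adjoin K S hs⟩
    have h1 : minpoly K (algebraMap K₀ (normalClosure K K₀ Ω) s₀) = minpoly K s := by
      rw [minpoly.algebraMap_eq (algebraMap K₀ (normalClosure K K₀ Ω)).injective]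
      exact minpoly_eq s₀
    have h2 : ((minpoly K s).map (algebraMap K (normalClosure K K₀ Ω))).Splits := by
      rw [← h1]
      exact Normal.splits inferInstance _
    have h3 : ((minpoly K s).map (algebraMap K F)).Splits := h2.of_isScalarTower F
    have h4 : (minpoly K' s).map (algebraMap K' F) ∣ (minpoly K s).map (algebraMap K F) := by
      have := minpoly.dvd_map_of_isScalarTower K K' s
      have h5 := Polynomial.map_dvd (algebraMap K' F) this
      rwa [Polynomial.map_map, ← IsScalarTower.algebraMap_eq] at h5
    refine Splits.of_dvd h3 ?_ h4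
    exact (Polynomial.map_ne_zero_iff (algebraMap K F).injective).mpr
      (minpoly.ne_zero (Algebra.IsAlgebraic.isAlgebraic s).isIntegral)

end Groth.Agent.Lib.SHDvrH8
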