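import Mathlib
import Groth.Agent.Lib.FSGeomRed_helper3

/-!
# Abstract sandwich lemmas for weak unramifiedness and separable residue extensions (helper8)
-/

set_option autoImplicit false
universe u

namespace Groth.Agent.Lib.SHDvrH8

open IsLocalRing

/-- A local homomorphism is weakly unramified if the maximal ideal of the source generates that of
the target. -/
def WU {R S : Type u} [CommRing R] [IsLocalRing R] [CommRing S] [IsLocalRing S] (φ : R →+* S) :
    Prop :=
  (maximalIdeal R).map φ = maximalIdeal S

section wu

variable {R S T : Type u} [CommRing R] [IsLocalRing R] [CommRing S] [IsLocalRing S]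
  [CommRing T] [IsLocalRing T]

theorem WU.comp {φ : R →+* S} {ψ : S →+* T} (h1 : WU φ) (h2 : WU ψ) : WU (ψ.comp φ) := by
  unfold WU at *
  rw [← Ideal.map_map, h1, h2]

/-- Descent of weak unramifiedness along an injective local homomorphism out of a valuation
ring. -/
theorem WU.of_comp [IsDomain S] [ValuationRing S] [IsDomain T] (φ : R →+* S) (ψ : S →+* T)
    [IsLocalHom φ] [IsLocalHom ψ] (hψ : Function.Injective ψ) (t : R)
    (ht : maximalIdeal R = Ideal.span {t}) (h : WU (ψ.comp φ)) : WU φ := by
  unfold WU at *
  apply le_antisymm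
  · exact ((local_hom_TFAE φ).out 0 2).mp (inferInstance : IsLocalHom φ)
  · intro x hx
    by_cases hx0 : x = 0
    · rw [hx0]; exact Ideal.zero_mem _
    have hψx : ψ x ∈ maximalIdeal T := by
      rw [mem_maximalIdeal, mem_nonunits_iff] at hx ⊢
      exact fun hu => hx (isUnit_of_map_unit ψ x hu)
    rw [← h, ht, Ideal.map_span, Set.image_singleton, Ideal.mem_span_singleton] at hψx
    obtain ⟨y, hy⟩ := hψx
    have htm : φ t ∈ (maximalIdeal R).map φ :=
      Ideal.mem_map_of_mem _ (ht ▸ Ideal.mem_span_singleton_self t)
    obtain ⟨c, hc | hc⟩ := ValuationRing.cond (φ t) x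
    · rw [← hc]; exact Ideal.mul_mem_right _ _ htm
    · by_cases hcu : IsUnit c
      · obtain ⟨u, rfl⟩ := hcu
        have : x = φ t * ((u⁻¹ : Sˣ) : S) := by rw [← hc, mul_assoc, Units.mul_inv, mul_one]
        rw [this]; exact Ideal.mul_mem_right _ _ htm
      · exfalso
        have h1 : ψ x * (1 - ψ c * y) = 0 := by
          have : ψ x = ψ x * ψ c * y := by
            rw [← map_mul, hc]; exact hy
          rw [mul_sub, mul_one, ← mul_assoc, ← this, sub_self]
        have hψx0 : ψ x ≠ 0 := fun h0 => hx0 (hψ (by rw [h0, map_zero]))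
        have h2 : ψ c * y = 1 := by
          rcases mul_eq_zero.mp h1 with h3 | h3
          · exact absurd h3 hψx0
          · exact (sub_eq_zero.mp h3).symm
        exact hcu (isUnit_of_map_unit ψ c (IsUnit.of_mul_eq_one _ h2))

end wu

section gr

/-- Field-level sandwich for geometric reducedness. -/
theorem gr_sandwich_field {k₁ kM kF kN : Type u} [Field k₁] [Field kM] [Field kF] [Field kN]
    (a : k₁ →+* kM) (c : k₁ →+* kF) (d : kM →+* kN) (b : kF →+* kN)
    (hcomm : d.comp a = b.comp c)
    (hsep : @Algebra.IsSeparable k₁ kF _ _ c.toAlgebra)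
    (hgr : @Algebra.IsGeometricallyReduced kF kN _ _ b.toAlgebra) :
    @Algebra.IsGeometricallyReduced k₁ kM _ _ a.toAlgebra := by
  letI a1 : Algebra k₁ kF := c.toAlgebra
  letI a2 : Algebra kF kN := b.toAlgebra
  letI a3 : Algebra k₁ kN := (b.comp c).toAlgebra
  haveI : IsScalarTower k₁ kF kN := IsScalarTower.of_algebraMap_eq' rfl
  haveI : Algebra.FormallyEtale k₁ kF := Algebra.FormallyEtale.of_isSeparable k₁ kF
  haveI : Algebra.FormallySmooth k₁ kF := inferInstance
  haveI : Algebra.FormallySmooth kF kN :=
    (Groth.Agent.Lib.FSGRH3.formallySmooth_iff_isGeometricallyReduced kF kN).mpr hgr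
  haveI : Algebra.FormallySmooth k₁ kN := Algebra.FormallySmooth.comp k₁ kF kN
  haveI : Algebra.IsGeometricallyReduced k₁ kN :=
    (Groth.Agent.Lib.FSGRH3.formallySmooth_iff_isGeometricallyReduced k₁ kN).mp inferInstance
  letI a4 : Algebra k₁ kM := a.toAlgebra
  let d' : kM →ₐ[k₁] kN :=
    { toRingHom := d
      commutes' := fun x => DFunLike.congr_fun hcomm x }
  exact Algebra.IsGeometricallyReduced.of_injective d' d.injective

variable {R₁ RM RF RN : Type u} [CommRing R₁] [IsLocalRing R₁] [CommRing RM] [IsLocalRing RM]
  [CommRing RF] [IsLocalRing RF] [CommRing RN] [IsLocalRing RN]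

/-- Sandwich for geometric reducedness of residue field extensions. -/
theorem gr_sandwich (a : R₁ →+* RM) (c : R₁ →+* RF) (d : RM →+* RN) (b : RF →+* RN)
    [IsLocalHom a] [IsLocalHom c] [IsLocalHom d] [IsLocalHom b]
    (hcomm : d.comp a = b.comp c)
    (hsep : @Algebra.IsSeparable (ResidueField R₁) (ResidueField RF) _ _
      (ResidueField.map c).toAlgebra)
    (hgr : @Algebra.IsGeometricallyReduced (ResidueField RF) (ResidueField RN) _ _
      (ResidueField.map b).toAlgebra) :
    @Algebra.IsGeometricallyReduced (ResidueField R₁) (ResidueField RM) _ _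
      (ResidueField.map a).toAlgebra := by
  refine gr_sandwich_field (ResidueField.map a) (ResidueField.map c) (ResidueField.map d)
    (ResidueField.map b) ?_ hsep hgr
  ext x
  obtain ⟨r, rfl⟩ := residue_surjective x
  simp only [RingHom.coe_comp, Function.comp_apply, ResidueField.map_residue]
  exact congrArg _ (DFunLike.congr_fun hcomm r)

/-- Separable algebraic residue extension of a sub-extension. -/
theorem sep_of_comp (c : R₁ →+* RF) (e : RF →+* RN) [IsLocalHom c] [IsLocalHom e]
    [IsLocalHom (e.comp c)]
    (hsep : @Algebra.IsSeparable (ResidueField R₁) (ResidueField RN) _ _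
      (ResidueField.map (e.comp c)).toAlgebra) :
    @Algebra.IsSeparable (ResidueField R₁) (ResidueField RF) _ _
      (ResidueField.map c).toAlgebra := by
  letI a1 : Algebra (ResidueField R₁) (ResidueField RF) := (ResidueField.map c).toAlgebra
  letI a2 : Algebra (ResidueField RF) (ResidueField RN) := (ResidueField.map e).toAlgebra
  letI a3 : Algebra (ResidueField R₁) (ResidueField RN) :=
    (ResidueField.map (e.comp c)).toAlgebra
  haveI : IsScalarTower (ResidueField R₁) (ResidueField RF) (ResidueField RN) := by
    apply IsScalarTower.of_algebraMap_eq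
    intro x
    obtain ⟨r, rfl⟩ := residue_surjective x
    show ResidueField.map (e.comp c) (residue R₁ r) =
      ResidueField.map e (ResidueField.map c (residue R₁ r))
    simp only [ResidueField.map_residue, RingHom.comp_apply]
  exact Algebra.isSeparable_tower_bot_of_isSeparable (ResidueField R₁) (ResidueField RF)
    (ResidueField RN)

end gr

end Groth.Agent.Lib.SHDvrH8
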