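import Mathlib

/-!
# Helper lemmas on valuation subrings and lifts of ring homomorphisms (helper8)
-/

set_option autoImplicit false
universe u

namespace Groth.Agent.Lib.SHDvrH8

open IsLocalRing

/-- The valuation subring of the fraction field attached to a valuation ring. -/
theorem exists_valuationSubring (R Λ : Type u) [CommRing R] [IsDomain R] [ValuationRing R]
    [Field Λ] [Algebra R Λ] [IsFractionRing R Λ] :
    ∃ V : ValuationSubring Λ, (∀ x, x ∈ V ↔ ∃ r, algebraMap R Λ r = x) ∧
      ∀ r : R, V.valuation (algebraMap R Λ r) < 1 ↔ r ∈ maximalIdeal R := by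
  let V : ValuationSubring Λ := (ValuationRing.valuation R Λ).valuationSubring
  have hmem : ∀ x, x ∈ V ↔ ∃ r, algebraMap R Λ r = x := fun x =>
    ValuationRing.mem_integer_iff R Λ x
  refine ⟨V, hmem, fun r => ?_⟩
  have hinj : Function.Injective (algebraMap R Λ) := IsFractionRing.injective R Λ
  rw [← ValuationSubring.mem_nonunits_iff, ValuationSubring.mem_nonunits_iff_or, mem_maximalIdeal,
    mem_nonunits_iff]
  constructor
  · rintro (h | h) hu
    · rw [map_eq_zero_iff _ hinj] at h
      rw [h] at hu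
      exact not_isUnit_zero hu
    · apply h
      obtain ⟨u, rfl⟩ := hu
      rw [hmem]
      refine ⟨((u⁻¹ : Rˣ) : R), ?_⟩
      apply eq_inv_of_mul_eq_one_left
      rw [← map_mul, Units.inv_mul, map_one]
  · intro hnu
    by_cases h0 : algebraMap R Λ r = 0
    · left; exact h0
    · right
      intro hin
      rw [hmem] at hin
      obtain ⟨s, hs⟩ := hin
      apply hnu
      have h1 : algebraMap R Λ (r * s) = algebraMap R Λ 1 := by
        rw [map_mul, hs, map_one, mul_inv_cancel₀ h0]
      exact IsUnit.of_mul_eq_one _ (hinj h1)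

/-- Restriction of a field map to valuation subrings. -/
theorem exists_restrict {E₁ E₂ : Type u} [Field E₁] [Field E₂] (φ : E₁ →+* E₂)
    (V₁ : ValuationSubring E₁) (V₂ : ValuationSubring E₂) (h : ∀ x, x ∈ V₁ ↔ φ x ∈ V₂) :
    ∃ ψ : V₁ →+* V₂, (∀ x, ((ψ x : V₂) : E₂) = φ x) ∧ IsLocalHom ψ ∧ Function.Injective ψ := by
  let ψ : V₁ →+* V₂ := (φ.comp V₁.subtype).codRestrict V₂.toSubring (fun x => (h x).mp x.2)
  refine ⟨ψ, fun x => rfl, ⟨fun x hx => ?_⟩, fun x y hxy => ?_⟩
  · obtain ⟨u, hu⟩ := hx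
    have h1 : φ (x : E₁) * (((u⁻¹ : V₂ˣ) : V₂) : E₂) = 1 := by
      have := congrArg Subtype.val u.mul_inv
      rw [hu] at this
      exact this
    have hx0 : (x : E₁) ≠ 0 := fun h0 => by
      rw [h0, map_zero, zero_mul] at h1
      exact zero_ne_one h1
    have hinv : (x : E₁)⁻¹ ∈ V₁ := by
      rw [h, map_inv₀]
      have : (((u⁻¹ : V₂ˣ) : V₂) : E₂) = (φ (x : E₁))⁻¹ := eq_inv_of_mul_eq_one_right h1
      rw [← this]
      exact (((u⁻¹ : V₂ˣ) : V₂)).2
    exact ⟨⟨x, ⟨_, hinv⟩, Subtype.ext (mul_inv_cancel₀ hx0), Subtype.ext (inv_mul_cancel₀ hx0)⟩,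
      rfl⟩
  · apply Subtype.ext
    apply φ.injective
    exact congrArg Subtype.val hxy

/-- Lifting a ring homomorphism through an injective one with larger range. -/
theorem exists_lift_of_range_le {R S Λ : Type u} [CommRing R] [CommRing S] [CommRing Λ]
    (φ : R →+* Λ) (ψ : S →+* Λ) (hψ : Function.Injective ψ) (h : ∀ x : R, ∃ y : S, ψ y = φ x) :
    ∃ e : R →+* S, ∀ x, ψ (e x) = φ x := by
  choose g hg using h
  refine ⟨{ toFun := g, map_one' := ?_, map_mul' := ?_, map_zero' := ?_, map_add' := ?_ }, hg⟩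
  · apply hψ; rw [hg, map_one, map_one]
  · intro x y; apply hψ; rw [hg, map_mul, map_mul, hg, hg]
  · apply hψ; rw [hg, map_zero, map_zero]
  · intro x y; apply hψ; rw [hg, map_add, map_add, hg, hg]

/-- A ring map from a DVR to a domain which is nonzero on a uniformizer and sends units to units
is injective. -/
theorem injective_of_dvr {S T : Type u} [CommRing S] [IsDomain S] [IsDiscreteValuationRing S]
    [CommRing T] [IsDomain T] (g : S →+* T) (ϖ : S) (hϖ : Irreducible ϖ) (hg : g ϖ ≠ 0) :
    Function.Injective g := by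
  rw [injective_iff_map_eq_zero]
  intro x hx
  by_contra hx0
  obtain ⟨n, u, hu⟩ := IsDiscreteValuationRing.eq_unit_mul_pow_irreducible hx0 hϖ
  rw [hu, map_mul, map_pow] at hx
  rcases mul_eq_zero.mp hx with h1 | h1
  · exact (u.isUnit.map g).ne_zero h1
  · exact hg (pow_eq_zero_iff (n := n) (by
      rintro rfl
      rw [pow_zero] at h1
      exact one_ne_zero h1) |>.mp h1)

end Groth.Agent.Lib.SHDvrH8
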