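import Mathlib
import Groth.Prelude.Def_EtRam
import Groth.Agent.Lib.SHDvr3_helper8
import Groth.Agent.Lib.SHDvr5_helper8
import Groth.Agent.Lib.SHDvr7_helper8
import Groth.Agent.Lib.DvrExt4_helper8

/-!
# The transfer core: descending weak unramifiedness and separability of residue extensions
through a sandwich inside a big valued field (helper8)
-/

set_option autoImplicit false
universe u

namespace Groth.Agent.Lib.SHDvrH8

open IsLocalRing

set_option maxHeartbeats 1600000 in
theorem transfer_core {K₁ M F N Λ S₁ : Type u} [Field K₁] [Field M] [Field F] [Field N] [Field Λ]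
    [CommRing S₁] [IsDomain S₁] [IsLocalRing S₁]
    (f : K₁ →+* M) (ι : M →+* Λ) (W : ValuationSubring M) (V : ValuationSubring Λ)
    (hW : ∀ x, x ∈ W ↔ ι x ∈ V)
    (f₂ : F →+* N) (m₂ : N →+* Λ) (j : K₁ →+* F) (hj : ∀ x, m₂ (f₂ (j x)) = ι (f x))
    (hMN : ∀ x : M, ∃ y : N, m₂ y = ι x)
    (hwu₂ : letI : Algebra ((V.comap m₂).comap f₂) (V.comap m₂) :=
        (EtRam.inclOfComap (V.comap m₂) f₂).toAlgebra
      EtRam.IsWeaklyUnramified ((V.comap m₂).comap f₂) (V.comap m₂))
    (hgr₂ : @Algebra.IsGeometricallyReduced (ResidueField ((V.comap m₂).comap f₂))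
        (ResidueField (V.comap m₂)) _ _
        (ResidueField.map (EtRam.inclOfComap (V.comap m₂) f₂)).toAlgebra)
    (g₁ : S₁ →+* Λ) (hg₁ : Function.Injective g₁)
    (hS₁m : ∀ s, V.valuation (g₁ s) < 1 → s ∈ maximalIdeal S₁)
    (hFS : ∀ y : F, m₂ (f₂ y) ∈ V → ∃ s : S₁, g₁ s = m₂ (f₂ y))
    (φ₁ : (W.comap f) →+* S₁) (hφ₁ : ∀ x, g₁ (φ₁ x) = ι (f x)) [hφ₁loc : IsLocalHom φ₁]
    (hwu₁ : WU φ₁)
    (hsep₁ : @Algebra.IsSeparable (ResidueField (W.comap f)) (ResidueField S₁) _ _
      (ResidueField.map φ₁).toAlgebra)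
    (t : W.comap f) (ht : maximalIdeal (W.comap f) = Ideal.span {t}) :
    (letI : Algebra (W.comap f) W := (EtRam.inclOfComap W f).toAlgebra;
      EtRam.IsWeaklyUnramified (W.comap f) W) ∧
      @Algebra.IsGeometricallyReduced (ResidueField (W.comap f)) (ResidueField W) _ _
        (ResidueField.map (EtRam.inclOfComap W f)).toAlgebra := by
  classical
  -- the restricted maps
  obtain ⟨c, hc, hcloc, hcinj⟩ := exists_restrict j (W.comap f) ((V.comap m₂).comap f₂)
    (fun x => by
      rw [ValuationSubring.mem_comap, ValuationSubring.mem_comap, ValuationSubring.mem_comap, hW,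
        hj])
  obtain ⟨n, hn⟩ := exists_ringHom_of_range_le ι m₂ hMN
  obtain ⟨d, hd, hdloc, hdinj⟩ := exists_restrict n W (V.comap m₂)
    (fun x => by rw [ValuationSubring.mem_comap, hn, hW])
  have hcomm : d.comp (EtRam.inclOfComap W f) = (EtRam.inclOfComap (V.comap m₂) f₂).comp c := by
    ext x
    apply m₂.injective
    show m₂ ((d (EtRam.inclOfComap W f x) : V.comap m₂) : N) =
      m₂ ((EtRam.inclOfComap (V.comap m₂) f₂ (c x) : V.comap m₂) : N)
    rw [hd, EtRam.inclOfComap_apply_coe, hn, EtRam.inclOfComap_apply_coe, hc, hj]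
  -- the map to `S₁`
  obtain ⟨e, he⟩ := exists_lift_of_range_le
    ((m₂.comp f₂).comp ((V.comap m₂).comap f₂).subtype) g₁ hg₁ (fun y => hFS y.1 y.2)
  have heinj : Function.Injective e := by
    intro x y hxy
    have h1 : g₁ (e x) = g₁ (e y) := by rw [hxy]
    rw [he, he] at h1
    apply Subtype.ext
    exact f₂.injective (m₂.injective h1)
  haveI heloc : IsLocalHom e := by
    constructor
    intro y hy
    by_contra hnu
    have hym : y ∈ maximalIdeal ((V.comap m₂).comap f₂) := hnu
    rw [ValuationSubring.valuation_lt_one_iff, DvrExtH8.comap_valuation_lt_one_iff,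
      DvrExtH8.comap_valuation_lt_one_iff] at hym
    have h1 : V.valuation (g₁ (e y)) < 1 := by
      rw [he]; exact hym
    exact hS₁m _ h1 hy
  have hec : e.comp c = φ₁ := by
    ext x
    apply hg₁
    rw [RingHom.comp_apply, he, hφ₁]
    show m₂ (f₂ ((c x : (V.comap m₂).comap f₂) : F)) = _
    rw [hc, hj]
  subst hec
  haveI := hcloc
  haveI := hdloc
  -- weak unramifiedness
  have hwuc : WU c := WU.of_comp c e heinj t ht hwu₁
  have hwub : WU (EtRam.inclOfComap (V.comap m₂) f₂) := hwu₂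
  have hwuda : WU (d.comp (EtRam.inclOfComap W f)) := by
    rw [hcomm]; exact hwuc.comp hwub
  have hwua : WU (EtRam.inclOfComap W f) := WU.of_comp _ d hdinj t ht hwuda
  refine ⟨hwua, ?_⟩
  exact gr_sandwich (EtRam.inclOfComap W f) c d (EtRam.inclOfComap (V.comap m₂) f₂) hcomm
    (sep_of_comp c e hsep₁) hgr₂

end Groth.Agent.Lib.SHDvrH8
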