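import Mathlib
import Groth.Prelude.Def_Hensel
import Groth.Agent.Lib.StrictHens8_helper3

/-!
# Strict henselization of a local domain (helper8), part 2: the fraction field extension is
separable algebraic
-/

set_option autoImplicit false
universe u

namespace Groth.Agent.Lib.SHDvrH8

open IsLocalRing Groth.Agent.Lib.StrictHens TensorProduct

section

variable (R K : Type u) [CommRing R] [IsLocalRing R] [Field K] [Algebra R K]

/-- The image of an element of an étale `R`-algebra `C` under an `R`-algebra map to a field `F`
over `K ⊇ R` is separable over `K`. -/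
theorem isSeparable_of_etale (C : Type u) [CommRing C] [Algebra R C] [Algebra.Etale R C]
    (F : Type u) [Field F] [Algebra K F] [Algebra R F] [IsScalarTower R K F]
    (φ : C →ₐ[R] F) (c : C) : IsSeparable K (φ c) := by
  let Φ : K ⊗[R] C →ₐ[K] F :=
    Algebra.TensorProduct.lift (Algebra.ofId K F) φ (fun _ _ => Commute.all _ _)
  haveI : (RingHom.ker Φ).IsPrime := RingHom.ker_isPrime Φ
  haveI : Algebra.IsSeparable K ((K ⊗[R] C) ⧸ RingHom.ker Φ) := inferInstance
  have hinj : Function.Injective (Ideal.kerLiftAlg Φ) := Ideal.kerLiftAlg_injective Φ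
  have hy : IsSeparable K (Ideal.Quotient.mk (RingHom.ker Φ) ((1 : K) ⊗ₜ[R] c)) :=
    Algebra.IsSeparable.isSeparable K _
  have h1 : Ideal.kerLiftAlg Φ (Ideal.Quotient.mk (RingHom.ker Φ) ((1 : K) ⊗ₜ[R] c)) = φ c := by
    rw [Ideal.kerLiftAlg_mk]
    simp [Φ]
  rw [← h1]
  unfold IsSeparable at hy ⊢
  rwa [minpoly.algHom_eq _ hinj]

end

section

variable (R S K F : Type u) [CommRing R] [IsLocalRing R]
  [CommRing S] [IsLocalRing S] [Algebra R S] [IsLocalHom (algebraMap R S)]
  [Hensel.IsStrictHenselization R S]
  [Field K] [Algebra R K] [Field F] [Algebra S F] [IsFractionRing S F]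
  [Algebra K F] [Algebra R F] [IsScalarTower R K F] [IsScalarTower R S F]

include R in
/-- Every element of a strict henselization `S` of `R` is separable algebraic over any field
`K ⊇ R`, inside a field `F ⊇ S, K`. -/
theorem isSeparable_algebraMap (s : S) : IsSeparable K (algebraMap S F s) := by
  obtain ⟨e, he⟩ := exists_ringEquiv_shens (R := R) S
  obtain ⟨j, c, hc⟩ := exists_ofC (e s)
  let ψ : j.C →ₐ[R] F :=
    { toRingHom := (algebraMap S F).comp ((e.symm : SHens R →+* S).comp (ofC j).toRingHom)
      commutes' := fun r => by
        show algebraMap S F (e.symm (ofC j (algebraMap R j.C r))) = algebraMap R F r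
        rw [AlgHom.commutes, ← he, RingEquiv.symm_apply_apply,
          ← IsScalarTower.algebraMap_apply] }
  have h1 : ψ c = algebraMap S F s := by
    show algebraMap S F (e.symm (ofC j c)) = _
    rw [hc, RingEquiv.symm_apply_apply]
  rw [← h1]
  exact isSeparable_of_etale R K j.C F ψ c

include R S in
/-- The fraction field of a strict henselization of a local domain `R` is separable algebraic
over the fraction field of `R`. -/
theorem isSeparable_fractionField : Algebra.IsSeparable K F := by
  rw [← separableClosure.eq_top_iff]
  rw [eq_top_iff]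
  intro x _
  obtain ⟨a, b, hb, rfl⟩ := IsFractionRing.div_surjective (A := S) x
  exact div_mem (mem_separableClosure_iff.mpr (isSeparable_algebraMap R S K F a))
    (mem_separableClosure_iff.mpr (isSeparable_algebraMap R S K F b))

end

end Groth.Agent.Lib.SHDvrH8
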