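import Mathlib
import Groth.Prelude.Def_EtRam
import Groth.Agent.Lib.SHDvr1_helper8
import Groth.Agent.Lib.SHDvr2_helper8
import Groth.Agent.Lib.SHDvr5_helper8
import Groth.Agent.Lib.SHDvr7_helper8

/-!
# Packages: the strict henselization of a DVR, and the big valued field of a DVR (helper8)
-/

set_option autoImplicit false
universe u

namespace Groth.Agent.Lib.SHDvrH8

open IsLocalRing Groth.Agent.Lib.StrictHens

theorem residue_toAlgebra_eq {R S : Type u} [CommRing R] [IsLocalRing R] [CommRing S]
    [IsLocalRing S] [Algebra R S] [IsLocalHom (algebraMap R S)] :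
    (ResidueField.map (algebraMap R S)).toAlgebra =
      (ResidueField.instAlgebra : Algebra (ResidueField R) (ResidueField S)) := by
  apply Algebra.algebra_ext
  intro x
  obtain ⟨r, rfl⟩ := residue_surjective x
  rfl

/-- The strict henselization package of a DVR. -/
theorem exists_sh_package (R : Type u) [CommRing R] [IsDomain R] [IsDiscreteValuationRing R] :
    ∃ (S₁ : Type u) (_ : CommRing S₁) (_ : IsLocalRing S₁) (_ : IsDomain S₁) (_ : Algebra R S₁)
      (_ : IsLocalHom (algebraMap R S₁)) (_ : Hensel.IsStrictHenselization R S₁),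
      IsDiscreteValuationRing S₁ ∧ WU (algebraMap R S₁) ∧
      Function.Injective (algebraMap R S₁) ∧
      @Algebra.IsSeparable (ResidueField R) (ResidueField S₁) _ _
        (ResidueField.map (algebraMap R S₁)).toAlgebra := by
  haveI hsh : Hensel.IsStrictHenselization R (SHens R) := isStrictHenselization_shens
  obtain ⟨hdom, hdvr⟩ := isDVR R (SHens R)
  refine ⟨SHens R, inferInstance, inferInstance, hdom, inferInstance, inferInstance, hsh, hdvr,
    map_maximalIdeal_of_isStrictHenselization (R := R) (SHens R),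
    algebraMap_injective R (SHens R), ?_⟩
  rw [residue_toAlgebra_eq]
  haveI := hsh.isSepClosure
  exact IsSepClosure.separable



section aux

variable {M : Type u} [Field M] (W : ValuationSubring M)
  (S : Type u) [CommRing S] [IsLocalRing S] [IsDomain S] [IsDiscreteValuationRing S]
  [Algebra W S] [IsLocalHom (algebraMap W S)] [Hensel.IsStrictHenselization W S]
  (Λ : Type u) [Field Λ] [Algebra S Λ] [IsFractionRing S Λ]

theorem exists_big_field_aux (hwinj : Function.Injective (algebraMap W S)) :
    ∃ (ι : M →+* Λ) (V : ValuationSubring Λ),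
      (∀ x : W, algebraMap S Λ (algebraMap W S x) = ι x) ∧
      (∀ x, x ∈ V ↔ ∃ s, algebraMap S Λ s = x) ∧
      (∀ s, V.valuation (algebraMap S Λ s) < 1 ↔ s ∈ maximalIdeal S) ∧
      (∀ x, x ∈ W ↔ ι x ∈ V) ∧
      (letI := ι.toAlgebra; Algebra.IsAlgebraic M Λ) := by
  have hγinj : Function.Injective (algebraMap S Λ) := IsFractionRing.injective _ _
  have hcinj : Function.Injective ((algebraMap S Λ).comp (algebraMap W S)) :=
    hγinj.comp hwinj
  obtain ⟨ι, hιdef⟩ : ∃ ι : M →+* Λ, ι = IsFractionRing.lift (A := W) hcinj := ⟨_, rfl⟩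
  have hι : ∀ x : W, algebraMap S Λ (algebraMap W S x) = ι x := fun x => by
    rw [hιdef]; exact (IsFractionRing.lift_algebraMap hcinj x).symm
  obtain ⟨V, hV1, hV2⟩ := exists_valuationSubring S Λ
  refine ⟨ι, V, hι, hV1, hV2, fun x => ⟨fun hx => ?_, fun hx => ?_⟩, ?_⟩
  · rw [hV1]
    exact ⟨algebraMap W S ⟨x, hx⟩, hι ⟨x, hx⟩⟩
  · by_contra hxW
    have hx0 : x ≠ 0 := fun h0 => hxW (h0 ▸ W.zero_mem)
    have hinvW : x⁻¹ ∈ W := (W.mem_or_inv_mem x).resolve_left hxW
    have hnu : ¬ IsUnit (⟨x⁻¹, hinvW⟩ : W) := by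
      intro hu
      obtain ⟨u, hu⟩ := hu
      apply hxW
      have h1 : (((u⁻¹ : Wˣ) : W) : M) = x := by
        have h2 := congrArg Subtype.val u.mul_inv
        rw [hu] at h2
        simp only [MulMemClass.coe_mul, OneMemClass.coe_one] at h2
        rw [← inv_inv x]
        exact eq_inv_of_mul_eq_one_right h2
      rw [← h1]
      exact (((u⁻¹ : Wˣ) : W)).2
    have hm : algebraMap W S ⟨x⁻¹, hinvW⟩ ∈ maximalIdeal S := by
      rw [mem_maximalIdeal, mem_nonunits_iff]
      exact fun hu => hnu (isUnit_of_map_unit (algebraMap W S) _ hu)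
    rw [← hV2, hι] at hm
    have h3 : V.valuation (ι x) ≤ 1 := (V.valuation_le_one_iff _).mpr hx
    have h4 : V.valuation (ι x⁻¹) * V.valuation (ι x) = 1 := by
      rw [← map_mul, ← map_mul, inv_mul_cancel₀ hx0, map_one, map_one]
    have h5 : V.valuation (ι x⁻¹) * V.valuation (ι x) < 1 :=
      mul_lt_one_of_lt_of_le hm h3
    exact absurd h4 (ne_of_lt h5)
  · letI : Algebra M Λ := ι.toAlgebra
    letI : Algebra W Λ := ((algebraMap S Λ).comp (algebraMap W S)).toAlgebra
    haveI : IsScalarTower W S Λ := IsScalarTower.of_algebraMap_eq (fun _ => rfl)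
    haveI : IsScalarTower W M Λ := IsScalarTower.of_algebraMap_eq (fun x => hι x)
    haveI : Algebra.IsSeparable M Λ := isSeparable_fractionField W S M Λ
    exact Algebra.IsSeparable.isAlgebraic M _

end aux

/-- The big valued field attached to a valuation subring `W` which is a DVR: the fraction field of
the strict henselization of `W`. -/
theorem exists_big_field {M : Type u} [Field M] (W : ValuationSubring M)
    [IsDiscreteValuationRing W] :
    ∃ (S : Type u) (_ : CommRing S) (_ : IsDomain S) (_ : HenselianLocalRing S)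
      (_ : IsSepClosed (ResidueField S)) (Λ : Type u) (_ : Field Λ) (γ : S →+* Λ) (ι : M →+* Λ)
      (V : ValuationSubring Λ) (w : W →+* S),
      IsDiscreteValuationRing S ∧ IsLocalHom w ∧ Function.Injective γ ∧
      (∀ x : W, γ (w x) = ι x) ∧ (∀ x, x ∈ V ↔ ∃ s, γ s = x) ∧
      (∀ s, V.valuation (γ s) < 1 ↔ s ∈ maximalIdeal S) ∧ (∀ x, x ∈ W ↔ ι x ∈ V) ∧
      (letI := ι.toAlgebra; Algebra.IsAlgebraic M Λ) := by
  obtain ⟨S, i1, i2, i3, i4, i5, i6, hdvr, -, hinj, -⟩ := exists_sh_package W
  haveI := hdvr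
  haveI hh : HenselianLocalRing S := i6.henselian
  haveI : IsSepClosure (ResidueField W) (ResidueField S) := i6.isSepClosure
  haveI hsc : IsSepClosed (ResidueField S) := IsSepClosure.sep_closed (ResidueField W)
  obtain ⟨ι, V, h1, h2, h3, h4, h5⟩ := exists_big_field_aux W S (FractionRing S) hinj
  exact ⟨S, i1, i3, hh, hsc, FractionRing S, inferInstance, algebraMap S (FractionRing S), ι, V,
    algebraMap W S, hdvr, i5, IsFractionRing.injective _ _, h1, h2, h3, h4, h5⟩

end Groth.Agent.Lib.SHDvrH8
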