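import Mathlib
import Groth.Prelude.Def_EtRam
import Groth.Prelude.Def_Hensel
import Groth.Agent.Lib.SHDvr1_helper8
import Groth.Agent.Lib.SHDvr3_helper8
import Groth.Agent.Lib.SHDvr4_helper8
import Groth.Agent.Lib.SHDvr6_helper8
import Groth.Agent.Lib.SHDvr8_helper8
import Groth.Agent.Lib.SHDvr9_helper8
import Groth.Agent.Lib.SHDvr10_helper8
import Groth.Agent.Lib.DvrExt3_helper8

/-!
# Descent of solutions from the strict henselizations (helper8)
-/

set_option autoImplicit false
universe u

namespace Groth.Agent.Lib.SHDvrH8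

open IsLocalRing

/-- The two maps `K → L'` agree. -/
theorem algebraMap_square (A B K L A' B' K' L' : Type u) [CommRing A] [CommRing B] [Algebra A B]
    [Field K] [Field L] [Algebra A K] [IsFractionRing A K] [Algebra B L]
    [Algebra K L] [Algebra A L] [IsScalarTower A K L] [IsScalarTower A B L]
    [CommRing A'] [CommRing B'] [Field K'] [Field L']
    [Algebra A A'] [Algebra B B'] [Algebra A' B'] [Algebra A B'] [IsScalarTower A B B']
    [IsScalarTower A A' B']
    [Algebra A' K'] [Algebra B' L']
    [Algebra K' L'] [Algebra A' L'] [IsScalarTower A' K' L'] [IsScalarTower A' B' L']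
    [Algebra K K'] [Algebra A K'] [IsScalarTower A K K'] [IsScalarTower A A' K']
    [Algebra L L'] [Algebra B L'] [IsScalarTower B L L'] [IsScalarTower B B' L'] (k : K) :
    algebraMap L L' (algebraMap K L k) = algebraMap K' L' (algebraMap K K' k) := by
  have h : (algebraMap L L').comp (algebraMap K L) = (algebraMap K' L').comp (algebraMap K K') := by
    apply IsLocalization.ringHom_ext (nonZeroDivisors A)
    ext a
    simp only [RingHom.comp_apply]
    rw [← IsScalarTower.algebraMap_apply A K L, IsScalarTower.algebraMap_apply A B L,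
      ← IsScalarTower.algebraMap_apply B L L', IsScalarTower.algebraMap_apply B B' L',
      ← IsScalarTower.algebraMap_apply A B B', IsScalarTower.algebraMap_apply A A' B',
      ← IsScalarTower.algebraMap_apply A' B' L', IsScalarTower.algebraMap_apply A' K' L',
      ← IsScalarTower.algebraMap_apply A A' K', IsScalarTower.algebraMap_apply A K K']
  exact DFunLike.congr_fun h k


set_option maxHeartbeats 3200000 in
/-- Descent of solutions from the strict henselizations. -/
theorem descend_solution (A B K L : Type u) [CommRing A] [IsDomain A] [IsDiscreteValuationRing A]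
    [CommRing B] [IsDomain B] [IsDiscreteValuationRing B] [Algebra A B]
    [IsLocalHom (algebraMap A B)]
    [Field K] [Field L] [Algebra A K] [IsFractionRing A K] [Algebra B L] [IsFractionRing B L]
    [Algebra K L] [Algebra A L] [IsScalarTower A K L] [IsScalarTower A B L]
    (A' B' K' L' : Type u) [CommRing A'] [IsDomain A'] [IsDiscreteValuationRing A']
    [CommRing B'] [IsDomain B'] [IsDiscreteValuationRing B'] [Field K'] [Field L']
    [Algebra A A'] [Algebra B B'] [Algebra A' B'] [Algebra A B'] [IsScalarTower A B B']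
    [IsScalarTower A A' B']
    [Algebra A' K'] [IsFractionRing A' K'] [Algebra B' L'] [IsFractionRing B' L']
    [Algebra K' L'] [Algebra A' L'] [IsScalarTower A' K' L'] [IsScalarTower A' B' L']
    [Algebra K K'] [Algebra A K'] [IsScalarTower A K K'] [IsScalarTower A A' K']
    [Algebra L L'] [Algebra B L'] [IsScalarTower B L L'] [IsScalarTower B B' L']
    [IsLocalHom (algebraMap A A')] [IsLocalHom (algebraMap B B')] [IsLocalHom (algebraMap A' B')]
    [hshA : Hensel.IsStrictHenselization A A'] [hshB : Hensel.IsStrictHenselization B B']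
    [Algebra.IsAlgebraic K K']
    (K₁' : Type u) [Field K₁'] [Algebra K' K₁'] [FiniteDimensional K' K₁']
    (hsol : EtRam.IsSolution B' K' L' K₁') :
    ∃ (K₁ : Type u) (_ : Field K₁) (_ : Algebra K K₁), FiniteDimensional K K₁ ∧
      (Algebra.IsSeparable K K' → Algebra.IsSeparable K' K₁' → Algebra.IsSeparable K K₁) ∧
      EtRam.IsSolution B K L K₁ := by
  classical
  obtain ⟨K₁, fK₁, aK₁, fdK₁, hsepK₁, hdesc⟩ := exists_normal_descent K K' K₁'
  refine ⟨K₁, fK₁, aK₁, fdK₁, hsepK₁, ?_⟩
  intro M _ _ _ _ _ _ hgen W hdW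
  haveI : FiniteDimensional L M := GRedH8.finiteDimensional_of_adjoin K L K₁ M hgen
  haveI dvrW : IsDiscreteValuationRing W := isDVR_of_dominates B L M W hdW
  obtain ⟨S, iS1, iS2, iS3, iS4, Λ, iΛ, γ, ι, V, w, dvrS, hwloc, hγinj, hγw, hV1, hV2, hWV, halg⟩ :=
    exists_big_field W
  have hwinj : Function.Injective w := by
    intro x y hxy
    apply Subtype.ext
    apply ι.injective
    rw [← hγw, ← hγw, hxy]
  -- the map `B → W`
  obtain ⟨βW, hβW⟩ : ∃ βW : B →+* W,
      βW = RingHom.codRestrict ((algebraMap L M).comp (algebraMap B L)) W hdW.1 := ⟨_, rfl⟩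
  haveI hβloc : IsLocalHom βW := by
    rw [hβW]; exact DvrExtH8.isLocalHom_of_dominates _ W hdW
  have hβv : ∀ b, ((βW b : W) : M) = algebraMap L M (algebraMap B L b) := fun b => by
    rw [hβW]; rfl
  haveI : IsLocalHom (w.comp βW) := RingHom.isLocalHom_comp _ _
  obtain ⟨gB, hgB, hgBloc⟩ := exists_map B B' S (w.comp βW)
  haveI := hgBloc
  -- the valuation subring `A₁ = W ∩ K₁`
  have hdomA : EtRam.Dominates A ((algebraMap K K₁).comp (algebraMap A K))
      (W.comap (algebraMap K₁ M)) := by
    have hle : (maximalIdeal A).map (algebraMap A B) ≤ maximalIdeal B :=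
      ((local_hom_TFAE (algebraMap A B)).out 0 2).mp
        (inferInstance : IsLocalHom (algebraMap A B))
    refine DvrExtH8.dominates_of_comap _ (algebraMap K₁ M) W
      (((algebraMap L M).comp (algebraMap B L)).comp (algebraMap A B)) (fun a => ?_)
      ⟨fun a => hdW.1 _, fun a ha => hdW.2 _ (hle (Ideal.mem_map_of_mem _ ha))⟩
    show algebraMap L M (algebraMap B L (algebraMap A B a)) =
      algebraMap K₁ M (algebraMap K K₁ (algebraMap A K a))
    rw [← IsScalarTower.algebraMap_apply A B L, IsScalarTower.algebraMap_apply A K L,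
      ← IsScalarTower.algebraMap_apply K L M, IsScalarTower.algebraMap_apply K K₁ M]
  haveI dvrA₁ : IsDiscreteValuationRing (W.comap (algebraMap K₁ M)) :=
    isDVR_of_dominates A K K₁ _ hdomA
  obtain ⟨S₁, j1, j2, j3, j4, j5, j6, dvrS₁, hwuS₁, hinjS₁, hsepS₁⟩ :=
    exists_sh_package (W.comap (algebraMap K₁ M))
  haveI : IsLocalHom (w.comp (EtRam.inclOfComap W (algebraMap K₁ M))) :=
    RingHom.isLocalHom_comp _ _
  obtain ⟨g₁, hg₁, hg₁loc⟩ := exists_map (W.comap (algebraMap K₁ M)) S₁ S
    (w.comp (EtRam.inclOfComap W (algebraMap K₁ M)))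
  haveI := hg₁loc
  -- the map `A → A₁`
  obtain ⟨αA, hαA⟩ : ∃ αA : A →+* (W.comap (algebraMap K₁ M)),
      αA = RingHom.codRestrict ((algebraMap K K₁).comp (algebraMap A K))
        (W.comap (algebraMap K₁ M)) hdomA.1 := ⟨_, rfl⟩
  haveI hαloc : IsLocalHom αA := by
    rw [hαA]; exact DvrExtH8.isLocalHom_of_dominates _ _ hdomA
  have hαv : ∀ a, ((αA a : W.comap (algebraMap K₁ M)) : K₁) =
      algebraMap K K₁ (algebraMap A K a) := fun a => by rw [hαA]; rfl
  haveI : IsLocalHom (gB.comp (algebraMap A' B')) := RingHom.isLocalHom_comp _ _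
  have hcommA : (gB.comp (algebraMap A' B')).comp (algebraMap A A') =
      (g₁.comp (algebraMap (W.comap (algebraMap K₁ M)) S₁)).comp αA := by
    ext a
    simp only [RingHom.comp_apply]
    rw [← IsScalarTower.algebraMap_apply A A' B', IsScalarTower.algebraMap_apply A B B']
    have h1 := DFunLike.congr_fun hgB (algebraMap A B a)
    have h2 := DFunLike.congr_fun hg₁ (αA a)
    simp only [RingHom.comp_apply] at h1 h2
    rw [h1, h2]
    congr 1
    apply Subtype.ext
    rw [hβv, EtRam.inclOfComap_apply_coe, hαv,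
      ← IsScalarTower.algebraMap_apply A B L, IsScalarTower.algebraMap_apply A K L,
      ← IsScalarTower.algebraMap_apply K L M, IsScalarTower.algebraMap_apply K K₁ M]
  obtain ⟨gA, hgAloc, hgA1, hgA2⟩ := exists_factor A (W.comap (algebraMap K₁ M)) A' S₁ S αA
    (gB.comp (algebraMap A' B')) g₁ hcommA
  -- injectivity of `gB` and `g₁`
  have hgBinj : Function.Injective gB := by
    obtain ⟨ϖB, hirrB⟩ := IsDiscreteValuationRing.exists_irreducible B
    have hϖ' : maximalIdeal B' = Ideal.span {algebraMap B B' ϖB} :=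
      maximalIdeal_eq_span B B' ϖB hirrB.maximalIdeal_eq
    have hirr' : Irreducible (algebraMap B B' ϖB) :=
      (IsDiscreteValuationRing.irreducible_iff_uniformizer _).mpr hϖ'
    apply injective_of_dvr gB _ hirr'
    have h1 := DFunLike.congr_fun hgB ϖB
    simp only [RingHom.comp_apply] at h1
    rw [h1]
    intro h0
    have h2 : βW ϖB = 0 := hwinj (by rw [h0, map_zero])
    have h3 := congrArg Subtype.val h2
    rw [hβv] at h3
    simp only [ZeroMemClass.coe_zero] at h3
    rw [map_eq_zero, map_eq_zero_iff _ (IsFractionRing.injective B L)] at h3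
    exact hirrB.ne_zero h3
  obtain ⟨t, hirrt⟩ := IsDiscreteValuationRing.exists_irreducible (W.comap (algebraMap K₁ M))
  have ht : maximalIdeal (W.comap (algebraMap K₁ M)) = Ideal.span {t} := hirrt.maximalIdeal_eq
  have hg₁inj : Function.Injective g₁ := by
    have hϖ' : maximalIdeal S₁ =
        Ideal.span {algebraMap (W.comap (algebraMap K₁ M)) S₁ t} :=
      maximalIdeal_eq_span (W.comap (algebraMap K₁ M)) S₁ t ht
    have hirr' : Irreducible (algebraMap (W.comap (algebraMap K₁ M)) S₁ t) :=
      (IsDiscreteValuationRing.irreducible_iff_uniformizer _).mpr hϖ'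
    apply injective_of_dvr g₁ _ hirr'
    have h1 := DFunLike.congr_fun hg₁ t
    simp only [RingHom.comp_apply] at h1
    rw [h1]
    intro h0
    have h2 : EtRam.inclOfComap W (algebraMap K₁ M) t = 0 := hwinj (by rw [h0, map_zero])
    have h3 := congrArg Subtype.val h2
    rw [EtRam.inclOfComap_apply_coe] at h3
    simp only [ZeroMemClass.coe_zero] at h3
    rw [map_eq_zero] at h3
    exact hirrt.ne_zero (Subtype.ext h3)
  -- field level maps
  have hγgBinj : Function.Injective (γ.comp gB) := hγinj.comp hgBinj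
  obtain ⟨lL', hlL'def⟩ : ∃ lL' : L' →+* Λ, lL' = IsFractionRing.lift (A := B') hγgBinj :=
    ⟨_, rfl⟩
  have hlL' : ∀ b' : B', lL' (algebraMap B' L' b') = γ (gB b') := fun b' => by
    rw [hlL'def]; exact IsFractionRing.lift_algebraMap hγgBinj b'
  have hc1 : ∀ l : L, lL' (algebraMap L L' l) = ι (algebraMap L M l) := by
    have h : (lL'.comp (algebraMap L L')) = ι.comp (algebraMap L M) := by
      apply IsLocalization.ringHom_ext (nonZeroDivisors B)
      ext b
      simp only [RingHom.comp_apply]
      rw [← IsScalarTower.algebraMap_apply B L L', IsScalarTower.algebraMap_apply B B' L', hlL']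
      have h1 := DFunLike.congr_fun hgB b
      simp only [RingHom.comp_apply] at h1
      rw [h1, hγw, hβv]
    exact fun l => DFunLike.congr_fun h l
  have hc2 : ∀ k : K, lL' (algebraMap K' L' (algebraMap K K' k)) =
      ι (algebraMap K₁ M (algebraMap K K₁ k)) := fun k => by
    rw [← algebraMap_square A B K L A' B' K' L' k, hc1, ← IsScalarTower.algebraMap_apply K L M,
      IsScalarTower.algebraMap_apply K K₁ M]
  -- algebra structures on `Λ`
  letI aL'Λ : Algebra L' Λ := lL'.toAlgebra
  letI aK'Λ : Algebra K' Λ := (lL'.comp (algebraMap K' L')).toAlgebra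
  haveI tK'L'Λ : IsScalarTower K' L' Λ := IsScalarTower.of_algebraMap_eq (fun _ => rfl)
  letI aKΛ : Algebra K Λ := ((lL'.comp (algebraMap K' L')).comp (algebraMap K K')).toAlgebra
  haveI tKK'Λ : IsScalarTower K K' Λ := IsScalarTower.of_algebraMap_eq (fun _ => rfl)
  letI aK₁Λ : Algebra K₁ Λ := (ι.comp (algebraMap K₁ M)).toAlgebra
  haveI tKK₁Λ : IsScalarTower K K₁ Λ := IsScalarTower.of_algebraMap_eq (fun k => hc2 k)
  haveI algL'Λ : Algebra.IsAlgebraic L' Λ := by
    letI aMΛ : Algebra M Λ := ι.toAlgebra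
    letI aLΛ : Algebra L Λ := (ι.comp (algebraMap L M)).toAlgebra
    haveI : IsScalarTower L M Λ := IsScalarTower.of_algebraMap_eq (fun _ => rfl)
    haveI : IsScalarTower L L' Λ := IsScalarTower.of_algebraMap_eq (fun l => (hc1 l).symm)
    haveI : Algebra.IsAlgebraic M Λ := halg
    haveI : Algebra.IsAlgebraic L Λ := Algebra.IsAlgebraic.trans L M Λ
    exact ⟨fun x => (Algebra.IsAlgebraic.isAlgebraic (R := L) x).tower_top L'⟩
  -- the compositum `F = K' K₁` in `Λ`
  letI aK₁F := compAlg K' K₁ Λ
  haveI tKK₁F := compAlg_isScalarTower K K' K₁ Λ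
  haveI fdF := compAlg_finiteDimensional K K' K₁ Λ
  obtain ⟨τ⟩ := hdesc (IntermediateField.adjoin K' (Set.range (algebraMap K₁ Λ)))
  have hsolF : EtRam.IsSolution B' K' L'
      (IntermediateField.adjoin K' (Set.range (algebraMap K₁ Λ))) :=
    isSolution_of_algHom A' B' K' L' K₁' _ τ hsol
  have hdomV : EtRam.Dominates B' ((algebraMap L' Λ).comp (algebraMap B' L')) V := by
    refine ⟨fun b' => ?_, fun b' hb' => ?_⟩
    · show lL' (algebraMap B' L' b') ∈ V
      rw [hlL', hV1]; exact ⟨_, rfl⟩
    · show V.valuation (lL' (algebraMap B' L' b')) < 1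
      rw [hlL', hV2]
      have hle : (maximalIdeal B').map gB ≤ maximalIdeal S :=
        ((local_hom_TFAE gB).out 0 2).mp hgBloc
      exact hle (Ideal.mem_map_of_mem _ hb')
  obtain ⟨N, fN, f₂, m₂, hm₂, hrange, hwu₂, hgr₂⟩ := InsepSolH8.solution_at_embedding B' K' L'
    (IntermediateField.adjoin K' (Set.range (algebraMap K₁ Λ))) hsolF
    (IntermediateField.adjoin K' (Set.range (algebraMap K₁ Λ))).val V hdomV
  -- the hypotheses of the transfer core
  have hj : ∀ x : K₁, m₂ (f₂ (algebraMap K₁
      (IntermediateField.adjoin K' (Set.range (algebraMap K₁ Λ))) x)) =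
      ι (algebraMap K₁ M x) := fun x => by rw [hm₂]; rfl
  have hMN : ∀ x : M, ∃ y : N, m₂ y = ι x := by
    intro x
    rw [← hrange]
    have hx : x ∈ Algebra.adjoin L (Set.range (algebraMap K₁ M)) := by rw [hgen]; trivial
    induction hx using Algebra.adjoin_induction with
    | mem y hy =>
      obtain ⟨k, rfl⟩ := hy
      apply IntermediateField.subset_adjoin
      exact ⟨algebraMap K₁ (IntermediateField.adjoin K' (Set.range (algebraMap K₁ Λ))) k, rfl⟩
    | algebraMap l =>
      rw [← hc1]
      exact (IntermediateField.adjoin L' _).algebraMap_mem (algebraMap L L' l)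
    | add y z _ _ hy hz => rw [map_add]; exact add_mem hy hz
    | mul y z _ _ hy hz => rw [map_mul]; exact mul_mem hy hz
  have hθinj : Function.Injective (γ.comp g₁) := hγinj.comp hg₁inj
  have hθm : ∀ s, V.valuation ((γ.comp g₁) s) < 1 ↔ s ∈ maximalIdeal S₁ := by
    intro s
    rw [RingHom.comp_apply, hV2]
    constructor
    · intro h hu
      exact h (hu.map g₁)
    · intro h
      have hle : (maximalIdeal S₁).map g₁ ≤ maximalIdeal S :=
        ((local_hom_TFAE g₁).out 0 2).mp hg₁loc
      exact hle (Ideal.mem_map_of_mem _ h)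
  have hA₁θ : ∀ x : W.comap (algebraMap K₁ M),
      (γ.comp g₁) (algebraMap (W.comap (algebraMap K₁ M)) S₁ x) =
        ι (algebraMap K₁ M x) := by
    intro x
    have h1 := DFunLike.congr_fun hg₁ x
    simp only [RingHom.comp_apply] at h1 ⊢
    rw [h1, hγw, EtRam.inclOfComap_apply_coe]
  have hA'θ : ∀ a' : A', (γ.comp g₁) (gA a') = algebraMap K' Λ (algebraMap A' K' a') := by
    intro a'
    have h1 := DFunLike.congr_fun hgA2 a'
    simp only [RingHom.comp_apply] at h1 ⊢
    rw [h1]
    show _ = lL' (algebraMap K' L' (algebraMap A' K' a'))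
    rw [← IsScalarTower.algebraMap_apply A' K' L', IsScalarTower.algebraMap_apply A' B' L', hlL']
  have hFcl : ∀ y : Λ, y ∈ IntermediateField.adjoin K' (Set.range (algebraMap K₁ Λ)) →
      y ∈ Subfield.closure (Set.range (γ.comp g₁)) := by
    intro y hy
    induction hy using IntermediateField.adjoin_induction with
    | mem z hz =>
      obtain ⟨k, rfl⟩ := hz
      obtain ⟨a, b, hb, rfl⟩ := IsFractionRing.div_surjective (A := W.comap (algebraMap K₁ M)) k
      rw [map_div₀]
      apply div_mem
      · apply Subfield.subset_closure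
        exact ⟨_, hA₁θ a⟩
      · apply Subfield.subset_closure
        exact ⟨_, hA₁θ b⟩
    | algebraMap k' =>
      obtain ⟨a, b, hb, rfl⟩ := IsFractionRing.div_surjective (A := A') k'
      rw [map_div₀]
      apply div_mem
      · apply Subfield.subset_closure
        exact ⟨_, hA'θ a⟩
      · apply Subfield.subset_closure
        exact ⟨_, hA'θ b⟩
    | add y z _ _ hy hz => exact add_mem hy hz
    | inv y _ hy => exact inv_mem hy
    | mul y z _ _ hy hz => exact mul_mem hy hz
  have hFS : ∀ y : IntermediateField.adjoin K' (Set.range (algebraMap K₁ Λ)),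
      m₂ (f₂ y) ∈ V → ∃ s : S₁, (γ.comp g₁) s = m₂ (f₂ y) := by
    intro y hy
    rw [hm₂] at hy ⊢
    exact exists_of_mem_closure (γ.comp g₁) hθinj V hθm _ hy (hFcl _ y.2)
  exact transfer_core (algebraMap K₁ M) ι W V hWV f₂ m₂
    (algebraMap K₁ (IntermediateField.adjoin K' (Set.range (algebraMap K₁ Λ)))) hj hMN hwu₂ hgr₂
    (γ.comp g₁) hθinj (fun s hs => (hθm s).mp hs) hFS
    (algebraMap (W.comap (algebraMap K₁ M)) S₁) hA₁θ hwuS₁ hsepS₁ t ht

end Groth.Agent.Lib.SHDvrH8
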