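import Mathlib
import Groth.Prelude.Def_EtRam
import Groth.Prelude.Def_Hensel
import Groth.Agent.Lib.SHDvr2_helper8
import Groth.Agent.Lib.SHDvr11_helper8

/-!
# The strictly henselian extension reflecting solutions: packaging (helper8)
-/

set_option autoImplicit false
universe u

namespace Groth.Agent.Lib.SHDvrH8

open IsLocalRing

set_option maxHeartbeats 3200000 in
theorem package (A B K L : Type u) [CommRing A] [IsDomain A]
    [IsDiscreteValuationRing A] [CommRing B] [IsDomain B] [IsDiscreteValuationRing B] [Algebra A B]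
    (hinj : Function.Injective (algebraMap A B)) [IsLocalHom (algebraMap A B)]
    [Field K] [Field L] [Algebra A K] [IsFractionRing A K] [Algebra B L] [IsFractionRing B L]
    [Algebra K L] [Algebra A L] [IsScalarTower A K L] [IsScalarTower A B L]
    (A' : Type u) [CommRing A'] [IsLocalRing A'] [IsDomain A'] [IsDiscreteValuationRing A']
    [Algebra A A'] [hlocA : IsLocalHom (algebraMap A A')] [hshA : Hensel.IsStrictHenselization A A']
    (B' : Type u) [CommRing B'] [IsLocalRing B'] [IsDomain B'] [IsDiscreteValuationRing B']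
    [Algebra B B'] [hlocB : IsLocalHom (algebraMap B B')] [hshB : Hensel.IsStrictHenselization B B'] :
    ∃ (K' L' : Type u) (_ : Field K') (_ : Field L')
      (_ : Algebra A' B') (_ : Algebra A B')
      (_ : IsScalarTower A B B') (_ : IsScalarTower A A' B')
      (_ : Algebra A' K') (_ : IsFractionRing A' K') (_ : Algebra B' L') (_ : IsFractionRing B' L')
      (_ : Algebra K' L') (_ : Algebra A' L') (_ : IsScalarTower A' K' L') (_ : IsScalarTower A' B' L')
      (_ : Algebra K K') (_ : Algebra A K') (_ : IsScalarTower A K K') (_ : IsScalarTower A A' K')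
      (_ : Algebra L L') (_ : Algebra B L') (_ : IsScalarTower B L L') (_ : IsScalarTower B B' L')
      (_ : IsLocalHom (algebraMap A' B')),
      Function.Injective (algebraMap A A') ∧ Function.Injective (algebraMap B B') ∧
      Function.Injective (algebraMap A' B') ∧
      Algebra.IsSeparable K K' ∧ Algebra.IsSeparable L L' ∧
      (letI := (IsLocalRing.ResidueField.map (algebraMap A A')).toAlgebra;
       IsSepClosure (IsLocalRing.ResidueField A) (IsLocalRing.ResidueField A')) ∧
      (letI := (IsLocalRing.ResidueField.map (algebraMap B B')).toAlgebra;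
       IsSepClosure (IsLocalRing.ResidueField B) (IsLocalRing.ResidueField B')) ∧
      ((∃ (K₁ : Type u) (_ : Field K₁) (_ : Algebra K' K₁), FiniteDimensional K' K₁ ∧ EtRam.IsSolution B' K' L' K₁) →
        ∃ (K₁ : Type u) (_ : Field K₁) (_ : Algebra K K₁), FiniteDimensional K K₁ ∧ EtRam.IsSolution B K L K₁) ∧
      ((∃ (K₁ : Type u) (_ : Field K₁) (_ : Algebra K' K₁), FiniteDimensional K' K₁ ∧ Algebra.IsSeparable K' K₁ ∧
          EtRam.IsSolution B' K' L' K₁) →
        ∃ (K₁ : Type u) (_ : Field K₁) (_ : Algebra K K₁), FiniteDimensional K K₁ ∧ Algebra.IsSeparable K K₁ ∧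
          EtRam.IsSolution B K L K₁) := by
  classical
  haveI hhB : HenselianLocalRing B' := hshB.henselian
  haveI : IsSepClosure (ResidueField B) (ResidueField B') := hshB.isSepClosure
  haveI hscB : IsSepClosed (ResidueField B') := IsSepClosure.sep_closed (ResidueField B)
  have hinjA' : Function.Injective (algebraMap A A') := algebraMap_injective A A'
  have hinjB' : Function.Injective (algebraMap B B') := algebraMap_injective B B'
  haveI : IsLocalHom ((algebraMap B B').comp (algebraMap A B)) := RingHom.isLocalHom_comp _ _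
  obtain ⟨gAB, hgAB, hgABloc⟩ := exists_map A A' B' ((algebraMap B B').comp (algebraMap A B))
  have hgABinj : Function.Injective gAB := by
    obtain ⟨ϖA, hirrA⟩ := IsDiscreteValuationRing.exists_irreducible A
    have hϖ' : maximalIdeal A' = Ideal.span {algebraMap A A' ϖA} :=
      maximalIdeal_eq_span A A' ϖA hirrA.maximalIdeal_eq
    have hirr' : Irreducible (algebraMap A A' ϖA) :=
      (IsDiscreteValuationRing.irreducible_iff_uniformizer _).mpr hϖ'
    apply injective_of_dvr gAB _ hirr'
    have h1 := DFunLike.congr_fun hgAB ϖA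
    simp only [RingHom.comp_apply] at h1
    rw [h1]
    intro h0
    exact hirrA.ne_zero (hinj (hinjB' (by rw [h0, map_zero, map_zero])))
  letI aA'B' : Algebra A' B' := gAB.toAlgebra
  letI aAB' : Algebra A B' := ((algebraMap B B').comp (algebraMap A B)).toAlgebra
  haveI tABB' : IsScalarTower A B B' := IsScalarTower.of_algebraMap_eq (fun _ => rfl)
  haveI tAA'B' : IsScalarTower A A' B' :=
    IsScalarTower.of_algebraMap_eq (fun a => (DFunLike.congr_fun hgAB a).symm)
  -- fraction fields
  obtain ⟨K', fK', aA'K', frA'K'⟩ : ∃ (K' : Type u) (_ : Field K') (_ : Algebra A' K'),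
      IsFractionRing A' K' := ⟨FractionRing A', inferInstance, inferInstance, inferInstance⟩
  obtain ⟨L', fL', aB'L', frB'L'⟩ : ∃ (L' : Type u) (_ : Field L') (_ : Algebra B' L'),
      IsFractionRing B' L' := ⟨FractionRing B', inferInstance, inferInstance, inferInstance⟩
  have hinj1 : Function.Injective ((algebraMap B' L').comp gAB) :=
    (IsFractionRing.injective B' L').comp hgABinj
  letI aK'L' : Algebra K' L' :=
    (IsFractionRing.lift (A := A') hinj1).toAlgebra
  letI aA'L' : Algebra A' L' :=
    ((algebraMap B' L').comp gAB).toAlgebra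
  haveI tA'K'L' : IsScalarTower A' K' L' :=
    IsScalarTower.of_algebraMap_eq (fun a => (IsFractionRing.lift_algebraMap hinj1 a).symm)
  haveI tA'B'L' : IsScalarTower A' B' L' :=
    IsScalarTower.of_algebraMap_eq (fun _ => rfl)
  have hinj2 : Function.Injective ((algebraMap A' K').comp (algebraMap A A')) :=
    (IsFractionRing.injective A' K').comp hinjA'
  letI aKK' : Algebra K K' := (IsFractionRing.lift (A := A) hinj2).toAlgebra
  letI aAK' : Algebra A K' :=
    ((algebraMap A' K').comp (algebraMap A A')).toAlgebra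
  haveI tAKK' : IsScalarTower A K K' :=
    IsScalarTower.of_algebraMap_eq (fun a => (IsFractionRing.lift_algebraMap hinj2 a).symm)
  haveI tAA'K' : IsScalarTower A A' K' :=
    IsScalarTower.of_algebraMap_eq (fun _ => rfl)
  have hinj3 : Function.Injective ((algebraMap B' L').comp (algebraMap B B')) :=
    (IsFractionRing.injective B' L').comp hinjB'
  letI aLL' : Algebra L L' := (IsFractionRing.lift (A := B) hinj3).toAlgebra
  letI aBL' : Algebra B L' :=
    ((algebraMap B' L').comp (algebraMap B B')).toAlgebra
  haveI tBLL' : IsScalarTower B L L' :=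
    IsScalarTower.of_algebraMap_eq (fun a => (IsFractionRing.lift_algebraMap hinj3 a).symm)
  haveI tBB'L' : IsScalarTower B B' L' :=
    IsScalarTower.of_algebraMap_eq (fun _ => rfl)
  haveI hlocA'B' : IsLocalHom (algebraMap A' B') := hgABloc
  haveI hsepK : Algebra.IsSeparable K K' :=
    isSeparable_fractionField A A' K K'
  haveI hsepL : Algebra.IsSeparable L L' :=
    isSeparable_fractionField B B' L L'
  haveI : Algebra.IsAlgebraic K K' := Algebra.IsSeparable.isAlgebraic K _
  refine ⟨K', L', fK', fL', aA'B', aAB', tABB',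
    tAA'B', aA'K', frA'K', aB'L', frB'L', aK'L', aA'L', tA'K'L',
    tA'B'L', aKK', aAK', tAKK', tAA'K', aLL', aBL', tBLL', tBB'L', hlocA'B', hinjA', hinjB',
    hgABinj, hsepK, hsepL, ?_, ?_, ?_, ?_⟩
  · rw [residue_toAlgebra_eq]
    exact hshA.isSepClosure
  · rw [residue_toAlgebra_eq]
    exact hshB.isSepClosure
  · rintro ⟨K₁', fK₁', aK₁', fd, hsol⟩
    obtain ⟨K₁, f, a, fd₁, -, hsol'⟩ :=
      descend_solution A B K L A' B' K' L' K₁' hsol
    exact ⟨K₁, f, a, fd₁, hsol'⟩
  · rintro ⟨K₁', fK₁', aK₁', fd, hsepK₁', hsol⟩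
    obtain ⟨K₁, f, a, fd₁, hsep, hsol'⟩ :=
      descend_solution A B K L A' B' K' L' K₁' hsol
    exact ⟨K₁, f, a, fd₁, hsep hsepK hsepK₁', hsol'⟩

end Groth.Agent.Lib.SHDvrH8
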