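import Mathlib
import Groth.Prelude.Def_GSzCSA
import Groth.Prelude.Def_Curves
import Groth.Agent.Lib.H90Alg_helper1
import Groth.Agent.Lib.Nrd1_helper6
import Groth.Agent.Lib.CSABaseChange_helper6

/-!
# H¹ of the norm-one group of a central simple algebra, finite level (helper1)
-/

set_option autoImplicit false
universe u v w

namespace Groth.Agent.Lib.SL1CohH1

open scoped TensorProduct
open Module

attribute [local instance] CSAGal.tensorAction GpH1.unitsAction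

section

variable (k : Type u) [Field k] (K : Type v) [Field K] [Algebra k K]
  (A : Type w) [Ring A] [Algebra k A]

theorem twist_aux {n : ℕ} (φ : K ⊗[k] A ≃ₐ[K] Matrix (Fin n) (Fin n) K) (σ : K ≃ₐ[k] K) (c : K) :
    ((σ.symm : K ≃ₐ[k] K) : K →+* K).mapMatrix
      (φ (σ • (algebraMap K (K ⊗[k] A) c))) = algebraMap K (Matrix (Fin n) (Fin n) K) c := by
  have h1 : σ • (algebraMap K (K ⊗[k] A) c) = algebraMap K (K ⊗[k] A) (σ c) := by
    rw [Algebra.TensorProduct.algebraMap_apply, Algebra.TensorProduct.algebraMap_apply]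
    show σ • ((algebraMap K K c) ⊗ₜ[k] (1 : A)) = (algebraMap K K (σ c)) ⊗ₜ[k] (1 : A)
    rw [TensorProduct.smul_tmul']
    rfl
  rw [h1, φ.commutes]
  ext i j
  by_cases h : i = j <;> simp [Matrix.algebraMap_matrix_apply, h]

/-- the matrix representation twisted by `σ`. -/
noncomputable def twist {n : ℕ} (φ : K ⊗[k] A ≃ₐ[K] Matrix (Fin n) (Fin n) K) (σ : K ≃ₐ[k] K) :
    K ⊗[k] A →ₐ[K] Matrix (Fin n) (Fin n) K :=
  { ((σ.symm : K ≃ₐ[k] K) : K →+* K).mapMatrix.comp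
      ((φ : K ⊗[k] A →+* Matrix (Fin n) (Fin n) K).comp
        (MulSemiringAction.toRingHom (K ≃ₐ[k] K) (K ⊗[k] A) σ)) with
    commutes' := fun c => twist_aux k K A φ σ c }

theorem twist_apply {n : ℕ} (φ : K ⊗[k] A ≃ₐ[K] Matrix (Fin n) (Fin n) K) (σ : K ≃ₐ[k] K)
    (x : K ⊗[k] A) :
    twist k K A φ σ x = ((σ.symm : K ≃ₐ[k] K) : K →+* K).mapMatrix (φ (σ • x)) := rfl

variable [FiniteDimensional k K] [IsGalois k K]
  [Algebra.IsCentral k A] [IsSimpleRing A] [FiniteDimensional k A]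

theorem finrank_eq {n : ℕ} (φ : K ⊗[k] A ≃ₐ[K] Matrix (Fin n) (Fin n) K) :
    finrank K (K ⊗[k] A) = Fintype.card (Fin n) ^ 2 := by
  rw [φ.toLinearEquiv.finrank_eq, Module.finrank_matrix, Module.finrank_self,
    Fintype.card_fin, mul_one, pow_two]

theorem finrank_eq' {n : ℕ} (φ : K ⊗[k] A ≃ₐ[K] Matrix (Fin n) (Fin n) K) :
    finrank k A = Fintype.card (Fin n) ^ 2 := by
  rw [← finrank_eq k K A φ, Module.finrank_baseChange]

variable (NK : (K ⊗[k] A) →* K) (hNK : CSAGal.IsRedNorm K (K ⊗[k] A) NK)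

include hNK

theorem NK_eq_det {n : ℕ} (φ : K ⊗[k] A ≃ₐ[K] Matrix (Fin n) (Fin n) K)
    (Ψ : K ⊗[k] A →ₐ[K] Matrix (Fin n) (Fin n) K) (x : K ⊗[k] A) :
    NK x = (Ψ x).det := by
  haveI : Algebra.IsCentral K (K ⊗[k] A) := Groth.Agent.Lib.CSABaseChange.isCentral_baseChange
  haveI : IsSimpleRing (K ⊗[k] A) := Groth.Agent.Lib.CSABaseChange.isSimpleRing_baseChange
  exact Groth.Agent.Lib.NrdH6.isRedNorm_det K (K ⊗[k] A) NK hNK (S := K) (ι := Fin n)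
    (finrank_eq k K A φ) Ψ x

theorem NK_smul (hA : Curves.Splits k A K) (σ : K ≃ₐ[k] K) (x : K ⊗[k] A) :
    NK (σ • x) = σ (NK x) := by
  obtain ⟨n, -, ⟨φ⟩⟩ := hA
  have e1 := NK_eq_det k K A NK hNK φ (twist k K A φ σ) x
  have e2 := NK_eq_det k K A NK hNK φ (φ : K ⊗[k] A →ₐ[K] Matrix (Fin n) (Fin n) K) (σ • x)
  rw [twist_apply, ← RingHom.map_det] at e1
  exact e2.trans ((AlgEquiv.apply_symm_apply σ _).symm.trans (congrArg σ e1.symm))

theorem NK_one_tmul (hA : Curves.Splits k A K) (N : A →* k) (hN : CSAGal.IsRedNorm k A N)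
    (a : A) : NK ((1 : K) ⊗ₜ[k] a) = algebraMap k K (N a) := by
  obtain ⟨n, -, ⟨φ⟩⟩ := hA
  have e3 := Groth.Agent.Lib.NrdH6.isRedNorm_det k A N hN (S := K) (ι := Fin n)
    (finrank_eq' k K A φ)
    (((φ : K ⊗[k] A →ₐ[K] Matrix (Fin n) (Fin n) K).restrictScalars k).comp
      (Algebra.TensorProduct.includeRight : A →ₐ[k] K ⊗[k] A)) a
  have e4 := NK_eq_det k K A NK hNK φ (φ : K ⊗[k] A →ₐ[K] Matrix (Fin n) (Fin n) K)
    ((1 : K) ⊗ₜ[k] a)
  rw [e4, e3]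
  rfl

theorem part1 (hA : Curves.Splits k A K)
    (a : GpH1.OneCocycle (K ≃ₐ[k] K) (K ⊗[k] A)ˣ) (ha : ∀ σ, NK (a σ : K ⊗[k] A) = 1) :
    ∃ (c : kˣ) (b : (K ⊗[k] A)ˣ), NK (b : K ⊗[k] A) = algebraMap k K (c : k) ∧
      ∀ σ : K ≃ₐ[k] K, a σ = b⁻¹ * σ • b := by
  have h90 := Groth.Agent.Lib.H90AlgH1.main13692 k K A (a.cl)
  rw [GpH1.H1.pt, GpH1.OneCocycle.cl_eq_cl_iff] at h90
  obtain ⟨u, hu⟩ := h90
  have hu' : ∀ σ : K ≃ₐ[k] K, a σ = u⁻¹ * σ • u := fun σ => by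
    rw [hu σ]
    show u⁻¹ * 1 * σ • u = _
    rw [mul_one]
  have h3 : NK ((u⁻¹ : (K ⊗[k] A)ˣ) : K ⊗[k] A) * NK (u : K ⊗[k] A) = 1 := by
    rw [← map_mul, Units.inv_mul, map_one]
  have hfix : ∀ σ : K ≃ₐ[k] K, σ (NK (u : K ⊗[k] A)) = NK (u : K ⊗[k] A) := by
    intro σ
    have h1 := ha σ
    rw [hu' σ, Units.val_mul, map_mul] at h1
    have h2 : ((σ • u : (K ⊗[k] A)ˣ) : K ⊗[k] A) = σ • (u : K ⊗[k] A) := rfl
    rw [h2, NK_smul k K A NK hNK hA σ] at h1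
    have hne : NK ((u⁻¹ : (K ⊗[k] A)ˣ) : K ⊗[k] A) ≠ 0 := left_ne_zero_of_mul_eq_one h3
    exact mul_left_cancel₀ hne (h1.trans h3.symm)
  obtain ⟨c, hc⟩ : ∃ c : k, algebraMap k K c = NK (u : K ⊗[k] A) := by
    have hmem := (IsGalois.mem_bot_iff_fixed (F := k) (E := K) (NK (u : K ⊗[k] A))).mpr hfix
    exact IntermediateField.mem_bot.mp hmem
  have hc0 : c ≠ 0 := fun h => by
    rw [h, map_zero] at hc
    rw [← hc, mul_zero] at h3
    exact zero_ne_one h3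
  exact ⟨Units.mk0 c hc0, u, hc.symm, hu'⟩

theorem part2 (hA : Curves.Splits k A K) (N : A →* k) (hN : CSAGal.IsRedNorm k A N)
    (c c' : kˣ) (b b' : (K ⊗[k] A)ˣ)
    (hb : NK (b : K ⊗[k] A) = algebraMap k K (c : k))
    (hb' : NK (b' : K ⊗[k] A) = algebraMap k K (c' : k)) :
    (∃ s : (K ⊗[k] A)ˣ, NK (s : K ⊗[k] A) = 1 ∧
        ∀ σ : K ≃ₐ[k] K, b'⁻¹ * σ • b' = s⁻¹ * (b⁻¹ * σ • b) * σ • s) ↔
      ∃ x : Aˣ, (c' : k) = N (x : A) * (c : k) := by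
  constructor
  · rintro ⟨s, hs1, hs⟩
    obtain ⟨y, hy⟩ : ∃ y : (K ⊗[k] A)ˣ, y = b' * s⁻¹ * b⁻¹ := ⟨_, rfl⟩
    have hyfix : ∀ σ : K ≃ₐ[k] K, σ • y = y := by
      intro σ
      have h := hs σ
      have h' : σ • b' = b' * (s⁻¹ * (b⁻¹ * σ • b) * σ • s) := by
        rw [← h, mul_inv_cancel_left]
      rw [hy, smul_mul', smul_mul', smul_inv', smul_inv', h']
      group
    have hyfixv : ∀ σ : K ≃ₐ[k] K, σ • (y : K ⊗[k] A) = (y : K ⊗[k] A) := fun σ =>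
      congrArg Units.val (hyfix σ)
    have hyifixv : ∀ σ : K ≃ₐ[k] K,
        σ • ((y⁻¹ : (K ⊗[k] A)ˣ) : K ⊗[k] A) = ((y⁻¹ : (K ⊗[k] A)ˣ) : K ⊗[k] A) := fun σ => by
      have h := congrArg Units.val (smul_inv' σ y)
      rw [hyfix σ] at h
      exact h
    obtain ⟨w, hw⟩ := Groth.Agent.Lib.GalDescentH1.fixed_eq_one_tmul (y : K ⊗[k] A) hyfixv
    obtain ⟨w', hw'⟩ := Groth.Agent.Lib.GalDescentH1.fixed_eq_one_tmul
      ((y⁻¹ : (K ⊗[k] A)ˣ) : K ⊗[k] A) hyifixv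
    have hinj := Groth.Agent.Lib.GalDescentH1.one_tmul_injective (k := k) (K := K) (W := A)
    have hww' : w * w' = 1 := by
      apply hinj
      show (1 : K) ⊗ₜ[k] (w * w') = (1 : K) ⊗ₜ[k] (1 : A)
      have : ((1 : K) ⊗ₜ[k] w) * ((1 : K) ⊗ₜ[k] w') = (1 : K ⊗[k] A) := by
        rw [← hw, ← hw', Units.mul_inv]
      rw [Algebra.TensorProduct.tmul_mul_tmul, mul_one] at this
      rw [this]; rfl
    have hw'w : w' * w = 1 := by
      apply hinj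
      show (1 : K) ⊗ₜ[k] (w' * w) = (1 : K) ⊗ₜ[k] (1 : A)
      have : ((1 : K) ⊗ₜ[k] w') * ((1 : K) ⊗ₜ[k] w) = (1 : K ⊗[k] A) := by
        rw [← hw, ← hw', Units.inv_mul]
      rw [Algebra.TensorProduct.tmul_mul_tmul, mul_one] at this
      rw [this]; rfl
    refine ⟨⟨w, w', hww', hw'w⟩, ?_⟩
    show (c' : k) = N w * (c : k)
    have hb's : b' = y * b * s := by rw [hy]; group
    have hnorm : NK (b' : K ⊗[k] A) = NK (y : K ⊗[k] A) * NK (b : K ⊗[k] A) * NK (s : K ⊗[k] A) := by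
      rw [hb's, Units.val_mul, Units.val_mul, map_mul, map_mul]
    rw [hb', hb, hs1, mul_one, hw, NK_one_tmul k K A NK hNK hA N hN, ← map_mul] at hnorm
    exact (algebraMap k K).injective hnorm
  · rintro ⟨x, hx⟩
    obtain ⟨yB, hyB⟩ : ∃ yB : (K ⊗[k] A)ˣ, (yB : K ⊗[k] A) = (1 : K) ⊗ₜ[k] (x : A) :=
      ⟨Units.map (Algebra.TensorProduct.includeRight : A →ₐ[k] K ⊗[k] A).toMonoidHom x, rfl⟩
    have hyfix : ∀ σ : K ≃ₐ[k] K, σ • yB = yB := by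
      intro σ
      apply Units.ext
      show σ • (yB : K ⊗[k] A) = (yB : K ⊗[k] A)
      rw [hyB, TensorProduct.smul_tmul', smul_one]
    obtain ⟨s, hsdef⟩ : ∃ s : (K ⊗[k] A)ˣ, s = b⁻¹ * yB⁻¹ * b' := ⟨_, rfl⟩
    have hb's : b' = yB * b * s := by rw [hsdef]; group
    refine ⟨s, ?_, fun σ => ?_⟩
    · have hnorm : NK (b' : K ⊗[k] A)
          = NK (yB : K ⊗[k] A) * NK (b : K ⊗[k] A) * NK (s : K ⊗[k] A) := by
        rw [hb's, Units.val_mul, Units.val_mul, map_mul, map_mul]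
      rw [hb', hb, hyB, NK_one_tmul k K A NK hNK hA N hN, hx, map_mul] at hnorm
      have hne : algebraMap k K (N (x : A)) * algebraMap k K (c : k) ≠ 0 := by
        rw [← map_mul, ← hx]
        exact (map_ne_zero (algebraMap k K)).mpr c'.ne_zero
      have h1 : algebraMap k K (N (x : A)) * algebraMap k K (c : k) * 1
          = algebraMap k K (N (x : A)) * algebraMap k K (c : k) * NK (s : K ⊗[k] A) := by
        rw [mul_one]; exact hnorm
      exact (mul_left_cancel₀ hne h1).symm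
    · rw [hb's, smul_mul', smul_mul', hyfix σ]
      group

end

end Groth.Agent.Lib.SL1CohH1
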