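import Mathlib

/-!
# `SL_n` is étale-locally contained in the commutator subgroup of `GL_n` (S5658)
-/

universe u

namespace Groth.Agent.Lib.SLCommutator

open Matrix

open scoped commutatorElement

section TP

variable {n : Type*} [DecidableEq n] [Fintype n] {R : Type*} [CommRing R]

/-- the set of transvections -/
def tvSet (n : Type*) [DecidableEq n] (R : Type*) [CommRing R] : Set (Matrix n n R) :=
  {M | ∃ i j, i ≠ j ∧ ∃ c : R, M = transvection i j c}

/-- products of transvections -/
def TP (n : Type*) [DecidableEq n] [Fintype n] (R : Type*) [CommRing R] :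
    Submonoid (Matrix n n R) :=
  Submonoid.closure (tvSet n R)

lemma transvection_mem {i j : n} (h : i ≠ j) (c : R) : transvection i j c ∈ TP n R :=
  Submonoid.subset_closure ⟨i, j, h, c, rfl⟩

lemma map_transvection {S : Type*} [CommRing S] (f : R →+* S) (i j : n) (c : R) :
    (transvection i j c).map f = transvection i j (f c) := by
  unfold transvection
  rw [Matrix.map_add f (map_add f), Matrix.map_one f (map_zero f) (map_one f),
    Matrix.map_single _ _ _ f]

lemma map_mem {S : Type*} [CommRing S] (f : R →+* S) {M : Matrix n n R} (h : M ∈ TP n R) :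
    M.map f ∈ TP n S := by
  unfold TP at h
  induction h using Submonoid.closure_induction with
  | mem x hx =>
    obtain ⟨i, j, hij, c, rfl⟩ := hx
    rw [map_transvection]
    exact transvection_mem hij _
  | one =>
    rw [Matrix.map_one f (map_zero f) (map_one f)]
    exact one_mem _
  | mul x y _ _ hx hy =>
    rw [Matrix.map_mul]
    exact mul_mem hx hy

lemma exists_inv {M : Matrix n n R} (h : M ∈ TP n R) :
    ∃ M' ∈ TP n R, M' * M = 1 ∧ M * M' = 1 := by
  unfold TP at h
  induction h using Submonoid.closure_induction with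
  | mem x hx =>
    obtain ⟨i, j, hij, c, rfl⟩ := hx
    refine ⟨transvection i j (-c), transvection_mem hij _, ?_, ?_⟩
    · rw [transvection_mul_transvection_same _ _ hij, neg_add_cancel, transvection_zero]
    · rw [transvection_mul_transvection_same _ _ hij, add_neg_cancel, transvection_zero]
  | one => exact ⟨1, one_mem _, by simp, by simp⟩
  | mul x y _ _ hx hy =>
    obtain ⟨x', hx', h1, h2⟩ := hx
    obtain ⟨y', hy', h3, h4⟩ := hy
    refine ⟨y' * x', mul_mem hy' hx', ?_, ?_⟩
    · calc y' * x' * (x * y) = y' * (x' * x) * y := by simp only [mul_assoc]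
        _ = 1 := by rw [h1, mul_one, h3]
    · calc x * y * (y' * x') = x * (y * y') * x' := by simp only [mul_assoc]
        _ = 1 := by rw [h4, mul_one, h2]

lemma cancel_left {P M : Matrix n n R} (hP : P ∈ TP n R) (h : P * M ∈ TP n R) : M ∈ TP n R := by
  obtain ⟨P', hP', h1, -⟩ := exists_inv hP
  have : M = P' * (P * M) := by rw [← mul_assoc, h1, one_mul]
  rw [this]
  exact mul_mem hP' h

lemma cancel_right {C M : Matrix n n R} (hC : C ∈ TP n R) (h : M * C ∈ TP n R) : M ∈ TP n R := by
  obtain ⟨C', hC', -, h2⟩ := exists_inv hC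
  have : M = (M * C) * C' := by rw [mul_assoc, h2, mul_one]
  rw [this]
  exact mul_mem h hC'

lemma det_eq_one {M : Matrix n n R} (h : M ∈ TP n R) : M.det = 1 := by
  unfold TP at h
  induction h using Submonoid.closure_induction with
  | mem x hx =>
    obtain ⟨i, j, hij, c, rfl⟩ := hx
    exact det_transvection_of_ne _ _ hij c
  | one => exact det_one
  | mul x y _ _ hx hy => rw [det_mul, hx, hy, one_mul]

end TP

section embed

variable {R : Type*} [CommRing R]

/-- block embedding `N ↦ [1 0; 0 N]` -/
def embed {n : ℕ} (N : Matrix (Fin n) (Fin n) R) : Matrix (Fin (n + 1)) (Fin (n + 1)) R :=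
  Matrix.of (fun r c => Fin.cases (Fin.cases (1 : R) (fun _ => 0) c)
    (fun r' => Fin.cases (0 : R) (fun c' => N r' c') c) r)

@[simp] lemma embed_zero_zero {n : ℕ} (N : Matrix (Fin n) (Fin n) R) : embed N 0 0 = 1 := rfl
@[simp] lemma embed_zero_succ {n : ℕ} (N : Matrix (Fin n) (Fin n) R) (c : Fin n) :
    embed N 0 c.succ = 0 := rfl
@[simp] lemma embed_succ_zero {n : ℕ} (N : Matrix (Fin n) (Fin n) R) (r : Fin n) :
    embed N r.succ 0 = 0 := rfl
@[simp] lemma embed_succ_succ {n : ℕ} (N : Matrix (Fin n) (Fin n) R) (r c : Fin n) :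
    embed N r.succ c.succ = N r c := rfl

lemma embed_one {n : ℕ} : embed (1 : Matrix (Fin n) (Fin n) R) = 1 := by
  ext r c
  refine Fin.cases ?_ (fun r' => ?_) r <;> refine Fin.cases ?_ (fun c' => ?_) c
  · simp
  · simp [Matrix.one_apply, (Fin.succ_ne_zero c').symm]
  · simp [Matrix.one_apply, Fin.succ_ne_zero r']
  · simp [Matrix.one_apply]

lemma embed_mul {n : ℕ} (A B : Matrix (Fin n) (Fin n) R) :
    embed (A * B) = embed A * embed B := by
  ext r c
  refine Fin.cases ?_ (fun r' => ?_) r <;> refine Fin.cases ?_ (fun c' => ?_) c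
  · simp [Matrix.mul_apply, Fin.sum_univ_succ]
  · simp [Matrix.mul_apply, Fin.sum_univ_succ]
  · simp [Matrix.mul_apply, Fin.sum_univ_succ]
  · simp [Matrix.mul_apply, Fin.sum_univ_succ]

lemma embed_transvection {n : ℕ} (i j : Fin n) (c : R) :
    embed (transvection i j c) = transvection i.succ j.succ c := by
  ext r s
  refine Fin.cases ?_ (fun r' => ?_) r <;> refine Fin.cases ?_ (fun s' => ?_) s
  · simp [transvection, Matrix.one_apply, Matrix.single_apply, (Fin.succ_ne_zero i)]
  · simp [transvection, Matrix.one_apply, Matrix.single_apply, (Fin.succ_ne_zero i),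
      (Fin.succ_ne_zero s').symm]
  · simp [transvection, Matrix.one_apply, Matrix.single_apply, (Fin.succ_ne_zero j),
      (Fin.succ_ne_zero r')]
  · simp [transvection, Matrix.one_apply, Matrix.single_apply]

lemma embed_mem {n : ℕ} {N : Matrix (Fin n) (Fin n) R} (h : N ∈ TP (Fin n) R) :
    embed N ∈ TP (Fin (n + 1)) R := by
  unfold TP at h
  induction h using Submonoid.closure_induction with
  | mem x hx =>
    obtain ⟨i, j, hij, c, rfl⟩ := hx
    rw [embed_transvection]
    exact transvection_mem (fun h => hij (Fin.succ_injective _ h)) _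
  | one =>
    rw [embed_one]
    exact one_mem _
  | mul x y _ _ hx hy =>
    rw [embed_mul]
    exact mul_mem hx hy

lemma embed_map {n : ℕ} {S : Type*} [CommRing S] (f : R →+* S) (N : Matrix (Fin n) (Fin n) R) :
    (embed N).map f = embed (N.map f) := by
  ext r c
  refine Fin.cases ?_ (fun r' => ?_) r <;> refine Fin.cases ?_ (fun c' => ?_) c <;> simp

lemma det_embed {n : ℕ} (N : Matrix (Fin n) (Fin n) R) : (embed N).det = N.det := by
  rw [det_succ_column_zero, Fin.sum_univ_succ]
  have h2 : ∑ i : Fin n, (-1 : R) ^ ((i.succ : Fin (n + 1)) : ℕ) * embed N i.succ 0 *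
      det ((embed N).submatrix i.succ.succAbove Fin.succ) = 0 := by
    apply Finset.sum_eq_zero
    intro i _
    simp
  rw [h2, add_zero]
  have h1 : (embed N).submatrix (0 : Fin (n + 1)).succAbove Fin.succ = N := by
    ext r c
    simp [Fin.succAbove_zero]
  rw [h1]
  simp

lemma eq_embed {n : ℕ} (M : Matrix (Fin (n + 1)) (Fin (n + 1)) R) (h00 : M 0 0 = 1)
    (hcol : ∀ r, r ≠ 0 → M r 0 = 0) (hrow : ∀ c, c ≠ 0 → M 0 c = 0) :
    M = embed (M.submatrix Fin.succ Fin.succ) := by
  ext r c
  refine Fin.cases ?_ (fun r' => ?_) r <;> refine Fin.cases ?_ (fun c' => ?_) c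
  · simp [h00]
  · simp [hrow _ (Fin.succ_ne_zero c')]
  · simp [hcol _ (Fin.succ_ne_zero r')]
  · simp

end embed

section elim

variable {R : Type*} [CommRing R]

lemma clear_col_aux {n : ℕ} (S : Finset (Fin (n + 1))) (hS : (0 : Fin (n + 1)) ∉ S)
    (M : Matrix (Fin (n + 1)) (Fin (n + 1)) R) (h00 : M 0 0 = 1) :
    ∃ P ∈ TP (Fin (n + 1)) R, (∀ c, (P * M) 0 c = M 0 c) ∧ (∀ r ∈ S, (P * M) r 0 = 0) ∧
      (∀ r, r ∉ S → ∀ c, (P * M) r c = M r c) := by
  induction S using Finset.induction_on with
  | empty =>
    exact ⟨1, one_mem _, by simp, by simp, by simp⟩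
  | insert a S ha ih =>
    have h0S : (0 : Fin (n + 1)) ∉ S := fun h => hS (Finset.mem_insert_of_mem h)
    have ha0 : a ≠ 0 := fun h => hS (h ▸ Finset.mem_insert_self a S)
    obtain ⟨P, hP, h1, h2, h3⟩ := ih h0S
    refine ⟨transvection a 0 (-(P * M) a 0) * P, mul_mem (transvection_mem ha0 _) hP, ?_, ?_, ?_⟩
    · intro c
      rw [mul_assoc, transvection_mul_apply_of_ne _ _ _ _ ha0.symm, h1]
    · intro r hr
      rw [mul_assoc]
      rcases Finset.mem_insert.mp hr with rfl | hr
      · rw [transvection_mul_apply_same, h1 0, h00]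
        ring
      · have hra : r ≠ a := fun h => ha (h ▸ hr)
        rw [transvection_mul_apply_of_ne _ _ _ _ hra, h2 r hr]
    · intro r hr c
      have hra : r ≠ a := fun h => hr (h ▸ Finset.mem_insert_self a S)
      have hrS : r ∉ S := fun h => hr (Finset.mem_insert_of_mem h)
      rw [mul_assoc, transvection_mul_apply_of_ne _ _ _ _ hra, h3 r hrS]

lemma clear_col {n : ℕ} (M : Matrix (Fin (n + 1)) (Fin (n + 1)) R) (h00 : M 0 0 = 1) :
    ∃ P ∈ TP (Fin (n + 1)) R, (∀ c, (P * M) 0 c = M 0 c) ∧ (∀ r, r ≠ 0 → (P * M) r 0 = 0) := by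
  obtain ⟨P, hP, h1, h2, -⟩ := clear_col_aux (Finset.univ.erase (0 : Fin (n + 1)))
    (Finset.notMem_erase _ _) M h00
  exact ⟨P, hP, h1, fun r hr => h2 r (Finset.mem_erase.mpr ⟨hr, Finset.mem_univ _⟩)⟩

lemma clear_row_aux {n : ℕ} (S : Finset (Fin (n + 1))) (hS : (0 : Fin (n + 1)) ∉ S)
    (M : Matrix (Fin (n + 1)) (Fin (n + 1)) R) (h00 : M 0 0 = 1) :
    ∃ C ∈ TP (Fin (n + 1)) R, (∀ r, (M * C) r 0 = M r 0) ∧ (∀ c ∈ S, (M * C) 0 c = 0) ∧
      (∀ c, c ∉ S → ∀ r, (M * C) r c = M r c) := by
  induction S using Finset.induction_on with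
  | empty =>
    exact ⟨1, one_mem _, by simp, by simp, by simp⟩
  | insert a S ha ih =>
    have h0S : (0 : Fin (n + 1)) ∉ S := fun h => hS (Finset.mem_insert_of_mem h)
    have ha0 : a ≠ 0 := fun h => hS (h ▸ Finset.mem_insert_self a S)
    obtain ⟨C, hC, h1, h2, h3⟩ := ih h0S
    refine ⟨C * transvection 0 a (-(M * C) 0 a), mul_mem hC (transvection_mem ha0.symm _),
      ?_, ?_, ?_⟩
    · intro r
      rw [← mul_assoc, mul_transvection_apply_of_ne _ _ _ _ ha0.symm, h1]
    · intro c hc
      rw [← mul_assoc]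
      rcases Finset.mem_insert.mp hc with rfl | hc
      · rw [mul_transvection_apply_same, h1 0, h00]
        ring
      · have hca : c ≠ a := fun h => ha (h ▸ hc)
        rw [mul_transvection_apply_of_ne _ _ _ _ hca, h2 c hc]
    · intro c hc r
      have hca : c ≠ a := fun h => hc (h ▸ Finset.mem_insert_self a S)
      have hcS : c ∉ S := fun h => hc (Finset.mem_insert_of_mem h)
      rw [← mul_assoc, mul_transvection_apply_of_ne _ _ _ _ hca, h3 c hcS]

lemma clear_row {n : ℕ} (M : Matrix (Fin (n + 1)) (Fin (n + 1)) R) (h00 : M 0 0 = 1) :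
    ∃ C ∈ TP (Fin (n + 1)) R, (∀ r, (M * C) r 0 = M r 0) ∧ (∀ c, c ≠ 0 → (M * C) 0 c = 0) := by
  obtain ⟨C, hC, h1, h2, -⟩ := clear_row_aux (Finset.univ.erase (0 : Fin (n + 1)))
    (Finset.notMem_erase _ _) M h00
  exact ⟨C, hC, h1, fun c hc => h2 c (Finset.mem_erase.mpr ⟨hc, Finset.mem_univ _⟩)⟩

lemma pivot_ne {n : ℕ} (M : Matrix (Fin (n + 1)) (Fin (n + 1)) R) (i : Fin (n + 1)) (hi0 : i ≠ 0)
    (hi : IsUnit (M i 0)) : ∃ P ∈ TP (Fin (n + 1)) R, (P * M) 0 0 = 1 := by
  obtain ⟨v, hv⟩ := hi
  refine ⟨transvection 0 i ((1 - M 0 0) * ↑v⁻¹), transvection_mem hi0.symm _, ?_⟩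
  rw [transvection_mul_apply_same, ← hv, mul_assoc, Units.inv_mul]
  ring

lemma pivot {n : ℕ} (M : Matrix (Fin (n + 2)) (Fin (n + 2)) R) (i : Fin (n + 2))
    (hi : IsUnit (M i 0)) : ∃ P ∈ TP (Fin (n + 2)) R, (P * M) 0 0 = 1 := by
  by_cases hi0 : i = 0
  · subst hi0
    obtain ⟨v, hv⟩ := hi
    have h10 : (1 : Fin (n + 2)) ≠ 0 := by
      intro h
      have := congrArg Fin.val h
      simp at this
    set P1 := transvection (1 : Fin (n + 2)) 0 ((1 - M 1 0) * ↑v⁻¹) with hP1
    have hP1mem : P1 ∈ TP (Fin (n + 2)) R := transvection_mem h10 _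
    have h1 : (P1 * M) 1 0 = 1 := by
      rw [hP1, transvection_mul_apply_same, ← hv, mul_assoc, Units.inv_mul]
      ring
    obtain ⟨P2, hP2, h2⟩ := pivot_ne (P1 * M) 1 h10 (by rw [h1]; exact isUnit_one)
    exact ⟨P2 * P1, mul_mem hP2 hP1mem, by rw [mul_assoc]; exact h2⟩
  · exact pivot_ne M i hi0 hi

end elim

section good

/-- `M` becomes a product of transvections on an étale neighbourhood of `q`. -/
def Good {n : ℕ} {R : Type u} [CommRing R] (q : Ideal R) (M : Matrix (Fin n) (Fin n) R) : Prop :=
  ∃ (S : Type u) (_ : CommRing S) (_ : Algebra R S), Algebra.Etale R S ∧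
    (∃ q' : Ideal S, q'.IsPrime ∧ q'.comap (algebraMap R S) = q) ∧
    M.map (algebraMap R S) ∈ TP (Fin n) S

variable {R : Type u} [CommRing R]

lemma good_of_mem {n : ℕ} (q : Ideal R) [hq : q.IsPrime] {M : Matrix (Fin n) (Fin n) R}
    (h : M ∈ TP (Fin n) R) : Good q M := by
  refine ⟨R, inferInstance, inferInstance, inferInstance, ⟨q, hq, ?_⟩, ?_⟩
  · simp
  · have : M.map (algebraMap R R) = M := by
      ext r c
      simp
    rw [this]
    exact h

lemma good_trans {n : ℕ} (q : Ideal R) (M : Matrix (Fin n) (Fin n) R)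
    (S : Type u) [CommRing S] [Algebra R S] [Algebra.Etale R S] (q' : Ideal S) [q'.IsPrime]
    (hq' : q'.comap (algebraMap R S) = q) (h : Good q' (M.map (algebraMap R S))) : Good q M := by
  obtain ⟨T, _, _, hET, ⟨q'', hq''p, hq''⟩, hmem⟩ := h
  letI : Algebra R T := ((algebraMap S T).comp (algebraMap R S)).toAlgebra
  haveI : IsScalarTower R S T := IsScalarTower.of_algebraMap_eq (fun _ => rfl)
  refine ⟨T, inferInstance, inferInstance, Algebra.Etale.comp R S T, ⟨q'', hq''p, ?_⟩, ?_⟩
  · rw [IsScalarTower.algebraMap_eq R S T, ← Ideal.comap_comap, hq'', hq']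
  · have : M.map (algebraMap R T) = (M.map (algebraMap R S)).map (algebraMap S T) := by
      ext r c
      simp [IsScalarTower.algebraMap_apply R S T]
    rw [this]
    exact hmem

lemma good_of_mul_left {n : ℕ} (q : Ideal R) {P M : Matrix (Fin n) (Fin n) R}
    (hP : P ∈ TP (Fin n) R) (h : Good q (P * M)) : Good q M := by
  obtain ⟨S, _, _, hET, hq, hmem⟩ := h
  refine ⟨S, inferInstance, inferInstance, hET, hq, ?_⟩
  rw [Matrix.map_mul] at hmem
  exact cancel_left (map_mem _ hP) hmem

lemma good_of_mul_right {n : ℕ} (q : Ideal R) {C M : Matrix (Fin n) (Fin n) R}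
    (hC : C ∈ TP (Fin n) R) (h : Good q (M * C)) : Good q M := by
  obtain ⟨S, _, _, hET, hq, hmem⟩ := h
  refine ⟨S, inferInstance, inferInstance, hET, hq, ?_⟩
  rw [Matrix.map_mul] at hmem
  exact cancel_right (map_mem _ hC) hmem

lemma good_embed {n : ℕ} (q : Ideal R) {N : Matrix (Fin n) (Fin n) R} (h : Good q N) :
    Good q (embed N) := by
  obtain ⟨S, _, _, hET, hq, hmem⟩ := h
  refine ⟨S, inferInstance, inferInstance, hET, hq, ?_⟩
  rw [embed_map]
  exact embed_mem hmem

/-- elimination step with a unit pivot -/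
lemma good_step {n : ℕ}
    (ih : ∀ (R : Type u) [CommRing R] (N : Matrix (Fin n) (Fin n) R), N.det = 1 →
      ∀ (q : Ideal R) [q.IsPrime], Good q N)
    (M : Matrix (Fin (n + 1)) (Fin (n + 1)) R) (hdet : M.det = 1) (i : Fin (n + 1))
    (hi : IsUnit (M i 0)) (q : Ideal R) [q.IsPrime] : Good q M := by
  -- first make the (0,0) entry equal to one
  have hpiv : ∃ P ∈ TP (Fin (n + 1)) R, (P * M) 0 0 = 1 := by
    cases n with
    | zero =>
      refine ⟨1, one_mem _, ?_⟩
      rw [one_mul]
      have : M.det = M 0 0 := Matrix.det_fin_one M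
      rw [← this, hdet]
    | succ m => exact pivot M i hi
  obtain ⟨P1, hP1, h1⟩ := hpiv
  apply good_of_mul_left q hP1
  obtain ⟨P2, hP2, h2row, h2col⟩ := clear_col (P1 * M) h1
  apply good_of_mul_left q hP2
  have h00 : (P2 * (P1 * M)) 0 0 = 1 := by rw [h2row, h1]
  obtain ⟨C, hC, h3col, h3row⟩ := clear_row (P2 * (P1 * M)) h00
  apply good_of_mul_right q hC
  set M3 := P2 * (P1 * M) * C with hM3
  have e00 : M3 0 0 = 1 := by rw [h3col, h00]
  have ecol : ∀ r, r ≠ 0 → M3 r 0 = 0 := fun r hr => by rw [h3col, h2col r hr]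
  have hemb := eq_embed M3 e00 ecol h3row
  have hdet3 : M3.det = 1 := by
    rw [hM3, det_mul, det_mul, det_mul, det_eq_one hP2, det_eq_one hP1, det_eq_one hC, hdet]
    ring
  rw [hemb]
  apply good_embed
  apply ih
  rw [← det_embed, ← hemb, hdet3]

theorem good_of_det_one : ∀ (n : ℕ) (R : Type u) [CommRing R] (M : Matrix (Fin n) (Fin n) R),
    M.det = 1 → ∀ (q : Ideal R) [q.IsPrime], Good q M := by
  intro n
  induction n with
  | zero =>
    intro R _ M _ q _
    apply good_of_mem
    have : M = 1 := Subsingleton.elim _ _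
    rw [this]
    exact one_mem _
  | succ n ih =>
    intro R _ M hdet q hq
    -- some entry in the first column is not in q
    have hex : ∃ i, M i 0 ∉ q := by
      by_contra hcon
      simp only [not_exists, not_not] at hcon
      have : M.det ∈ q := by
        rw [det_succ_column_zero]
        apply Ideal.sum_mem
        intro i _
        exact Ideal.mul_mem_right _ _ (Ideal.mul_mem_left _ _ (hcon i))
      rw [hdet] at this
      exact hq.ne_top ((Ideal.eq_top_iff_one q).mpr this)
    obtain ⟨i, hi⟩ := hex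
    set f := M i 0 with hf
    have hdisj : Disjoint (Submonoid.powers f : Set R) (q : Set R) :=
      (Ideal.disjoint_powers_iff_notMem_of_isPrime f).mpr hi
    haveI hq' : (q.map (algebraMap R (Localization.Away f))).IsPrime :=
      IsLocalization.isPrime_of_isPrime_disjoint (Submonoid.powers f) _ q hq hdisj
    have hover : (q.map (algebraMap R (Localization.Away f))).comap
        (algebraMap R (Localization.Away f)) = q :=
      IsLocalization.under_map_of_isPrime_disjoint (Submonoid.powers f) _ hq hdisj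
    haveI : Algebra.Etale R (Localization.Away f) := Algebra.Etale.of_isLocalizationAway f
    apply good_trans q M (Localization.Away f) (q.map (algebraMap R (Localization.Away f))) hover
    apply good_step ih _ _ i
    · rw [Matrix.map_apply]
      exact IsLocalization.Away.algebraMap_isUnit f
    · have := RingHom.map_det (algebraMap R (Localization.Away f)) M
      rw [RingHom.mapMatrix_apply] at this
      rw [← this, hdet, map_one]

end good

section comm

variable {n : Type*} [DecidableEq n] [Fintype n] {R : Type*} [CommRing R]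

/-- a transvection as an element of `GL` -/
def tvGL (i j : n) (hij : i ≠ j) (c : R) : Matrix.GeneralLinearGroup n R :=
  ⟨transvection i j c, transvection i j (-c),
    by rw [transvection_mul_transvection_same _ _ hij, add_neg_cancel, transvection_zero],
    by rw [transvection_mul_transvection_same _ _ hij, neg_add_cancel, transvection_zero]⟩

/-- the diagonal matrix with `u` at `i` as an element of `GL` -/
def diagGL (i : n) (u : Rˣ) : Matrix.GeneralLinearGroup n R :=
  ⟨diagonal (Function.update (1 : n → R) i ↑u), diagonal (Function.update (1 : n → R) i ↑u⁻¹),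
    by
      rw [diagonal_mul_diagonal, ← diagonal_one]
      congr 1
      funext k
      by_cases hk : k = i
      · subst hk; simp
      · simp [Function.update_of_ne hk],
    by
      rw [diagonal_mul_diagonal, ← diagonal_one]
      congr 1
      funext k
      by_cases hk : k = i
      · subst hk; simp
      · simp [Function.update_of_ne hk]⟩

lemma conj_transvection (i j : n) (hij : i ≠ j) (u : Rˣ) (b : R) :
    diagonal (Function.update (1 : n → R) i ↑u) * transvection i j b *
      diagonal (Function.update (1 : n → R) i ↑u⁻¹) = transvection i j (↑u * b) := by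
  ext r s
  rw [mul_diagonal, diagonal_mul]
  have hT : ∀ (c : R) (r s : n), transvection i j c r s =
      (if r = s then 1 else 0) + (if i = r ∧ j = s then c else 0) := by
    intro c r s
    simp [transvection, Matrix.one_apply, Matrix.single_apply]
  rw [hT, hT]
  by_cases hri : r = i
  · subst hri
    rw [Function.update_self]
    by_cases hsr : s = r
    · subst hsr
      rw [Function.update_self]
      have h1 : ¬ (s = s ∧ j = s) := fun h => hij h.2.symm
      rw [if_pos rfl, if_neg h1, if_neg h1, add_zero, mul_one, Units.mul_inv]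
    · rw [Function.update_of_ne hsr, if_neg (Ne.symm hsr)]
      by_cases hsj : j = s
      · subst hsj
        rw [if_pos ⟨rfl, rfl⟩, if_pos ⟨rfl, rfl⟩]
        simp
      · have h1 : ¬ (r = r ∧ j = s) := fun h => hsj h.2
        rw [if_neg h1, if_neg h1]
        simp
  · rw [Function.update_of_ne hri]
    have h1 : ¬ (i = r ∧ j = s) := fun h => hri h.1.symm
    rw [if_neg h1, if_neg h1, add_zero, Pi.one_apply, one_mul]
    by_cases hrs : r = s
    · subst hrs
      rw [Function.update_of_ne hri, if_pos rfl]
      simp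
    · rw [if_neg hrs, zero_mul]

lemma tv_mem_commutator (u : R) (hu : IsUnit u) (hu1 : IsUnit (u - 1)) (i j : n) (hij : i ≠ j)
    (c : R) : tvGL i j hij c ∈ commutator (Matrix.GeneralLinearGroup n R) := by
  obtain ⟨v, hv⟩ := hu
  obtain ⟨w, hw⟩ := hu1
  set b : R := c * ↑w⁻¹ with hb
  have hcomm : ⁅diagGL i v, tvGL i j hij b⁆ = tvGL i j hij c := by
    apply Units.ext
    rw [commutatorElement_def]
    change diagonal (Function.update (1 : n → R) i ↑v) * transvection i j b *
      diagonal (Function.update (1 : n → R) i ↑v⁻¹) * transvection i j (-b) = transvection i j c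
    rw [conj_transvection i j hij, transvection_mul_transvection_same _ _ hij]
    congr 1
    rw [hv, hb]
    have : (u - 1) * ↑w⁻¹ = 1 := by rw [← hw, Units.mul_inv]
    linear_combination c * this
  rw [← hcomm, commutator_def]
  exact Subgroup.commutator_mem_commutator (Subgroup.mem_top _) (Subgroup.mem_top _)

lemma exists_mem_commutator_of_mem_TP (u : R) (hu : IsUnit u) (hu1 : IsUnit (u - 1))
    {M : Matrix n n R} (hM : M ∈ TP n R) : ∃ g ∈ commutator (Matrix.GeneralLinearGroup n R), (g : Matrix n n R) = M := by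
  unfold TP at hM
  induction hM using Submonoid.closure_induction with
  | mem x hx =>
    obtain ⟨i, j, hij, c, rfl⟩ := hx
    exact ⟨tvGL i j hij c, tv_mem_commutator u hu hu1 i j hij c, rfl⟩
  | one => exact ⟨1, one_mem _, rfl⟩
  | mul x y _ _ hx hy =>
    obtain ⟨g, hg, rfl⟩ := hx
    obtain ⟨h, hh, rfl⟩ := hy
    exact ⟨g * h, mul_mem hg hh, rfl⟩

end comm

section nbhd

variable (A : Type u) [CommRing A]

open Polynomial in
/-- the standard étale pair `(X² + X + 1, 3)` -/
noncomputable def pair3 : StandardEtalePair A where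
  f := X ^ 2 + X + 1
  monic_f := by
    have : (X ^ 2 + X + 1 : A[X]) = X ^ 2 + (X + 1) := by ring
    rw [this]
    nontriviality A
    apply Polynomial.Monic.add_of_left (monic_X_pow 2)
    rw [degree_X_pow]
    have : (X + 1 : A[X]).degree ≤ 1 := by
      have := degree_X_add_C (1 : A)
      rw [C_1] at this
      rw [this]
    exact lt_of_le_of_lt this (by norm_num)
  g := C 3
  cond := by
    refine ⟨-(C 2 * X + 1), C 4, 1, ?_⟩
    simp only [derivative_add, derivative_X_pow, derivative_X, derivative_one, pow_one]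
    simp only [map_ofNat, Nat.cast_ofNat]
    ring

open Polynomial in
theorem exists_unit_nbhd (p : Ideal A) [hp : p.IsPrime] :
    ∃ (S : Type u) (_ : CommRing S) (_ : Algebra A S), Algebra.Etale A S ∧
      (∃ q' : Ideal S, q'.IsPrime ∧ q'.comap (algebraMap A S) = p) ∧
      ∃ u : S, IsUnit u ∧ IsUnit (u - 1) := by
  by_cases h2 : (2 : A) ∈ p
  · -- `3 ∉ p`
    have h3 : (3 : A) ∉ p := by
      intro h3
      have : (1 : A) ∈ p := by
        have : (1 : A) = 3 - 2 := by norm_num
        rw [this]
        exact p.sub_mem h3 h2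
      exact hp.ne_top ((Ideal.eq_top_iff_one p).mpr this)
    set P := pair3 A with hP
    -- a point in an algebraically closed field
    let K := AlgebraicClosure p.ResidueField
    have h3K : (3 : K) ≠ 0 := by
      have e : (3 : K) = algebraMap A K 3 := (map_ofNat (algebraMap A K) 3).symm
      rw [e, IsScalarTower.algebraMap_apply A p.ResidueField K]
      intro h0
      have h1 : algebraMap A p.ResidueField 3 = 0 :=
        (algebraMap p.ResidueField K).injective (by rw [h0, map_zero])
      have : (3 : A) ∈ RingHom.ker (algebraMap A p.ResidueField) := h1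
      rw [Ideal.ker_algebraMap_residueField] at this
      exact h3 this
    obtain ⟨x, hx⟩ := IsAlgClosed.exists_root (X ^ 2 + X + 1 : K[X]) (by
      have : (X ^ 2 + X + 1 : K[X]).degree = 2 := by
        have h1 : (X ^ 2 + X + 1 : K[X]) = X ^ 2 + (X + 1) := by ring
        rw [h1, degree_add_eq_left_of_degree_lt, degree_X_pow]
        · rfl
        · rw [degree_X_pow]
          have : (X + 1 : K[X]).degree ≤ 1 := by
            have := degree_X_add_C (1 : K)
            rw [C_1] at this
            rw [this]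
          exact lt_of_le_of_lt this (by norm_num)
      rw [this]
      norm_num)
    have hx' : x ^ 2 + x + 1 = 0 := by simpa using hx
    have hmap : P.HasMap x := by
      refine ⟨?_, ?_⟩
      · change aeval x (X ^ 2 + X + 1 : A[X]) = 0
        simp [hx']
      · change IsUnit (aeval x (C 3 : A[X]))
        rw [aeval_C]
        have e : algebraMap A K 3 = 3 := map_ofNat (algebraMap A K) 3
        rw [e]
        exact isUnit_iff_ne_zero.mpr h3K
    let φ : P.Ring →ₐ[A] K := P.lift x hmap
    refine ⟨P.Ring, inferInstance, inferInstance, inferInstance,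
      ⟨RingHom.ker φ.toRingHom, RingHom.ker_isPrime _, ?_⟩, P.X, ?_, ?_⟩
    · ext a
      rw [Ideal.mem_comap, RingHom.mem_ker]
      change φ (algebraMap A P.Ring a) = 0 ↔ a ∈ p
      rw [AlgHom.commutes, IsScalarTower.algebraMap_apply A p.ResidueField K]
      constructor
      · intro h0
        have h1 : algebraMap A p.ResidueField a = 0 :=
          (algebraMap p.ResidueField K).injective (by rw [h0, map_zero])
        have : a ∈ RingHom.ker (algebraMap A p.ResidueField) := h1
        rwa [Ideal.ker_algebraMap_residueField] at this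
      · intro ha
        have : a ∈ RingHom.ker (algebraMap A p.ResidueField) := by
          rwa [Ideal.ker_algebraMap_residueField]
        rw [RingHom.mem_ker] at this
        rw [this, map_zero]
    · -- `u` is a unit
      have hX := P.hasMap_X.1
      change aeval P.X (X ^ 2 + X + 1 : A[X]) = 0 at hX
      have hX' : P.X ^ 2 + P.X + 1 = 0 := by simpa using hX
      apply IsUnit.of_mul_eq_one (-(P.X + 1))
      linear_combination -hX'
    · have hX := P.hasMap_X.1
      change aeval P.X (X ^ 2 + X + 1 : A[X]) = 0 at hX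
      have hX' : P.X ^ 2 + P.X + 1 = 0 := by simpa using hX
      have h3u := P.hasMap_X.2
      change IsUnit (aeval P.X (C 3 : A[X])) at h3u
      rw [aeval_C] at h3u
      have e : algebraMap A P.Ring 3 = 3 := map_ofNat (algebraMap A P.Ring) 3
      rw [e] at h3u
      have hprod : (P.X - 1) * (-(P.X + 2)) = 3 := by linear_combination -hX'
      exact isUnit_of_mul_isUnit_left (hprod ▸ h3u)
  · -- localize at 2
    have hdisj : Disjoint (Submonoid.powers (2 : A) : Set A) (p : Set A) :=
      (Ideal.disjoint_powers_iff_notMem_of_isPrime (2 : A)).mpr h2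
    haveI : Algebra.Etale A (Localization.Away (2 : A)) := Algebra.Etale.of_isLocalizationAway 2
    refine ⟨Localization.Away (2 : A), inferInstance, inferInstance, inferInstance,
      ⟨p.map (algebraMap A _), IsLocalization.isPrime_of_isPrime_disjoint
        (Submonoid.powers (2 : A)) _ p hp hdisj,
        IsLocalization.under_map_of_isPrime_disjoint (Submonoid.powers (2 : A)) _ hp hdisj⟩,
      algebraMap A _ 2, IsLocalization.Away.algebraMap_isUnit 2, ?_⟩
    have : algebraMap A (Localization.Away (2 : A)) 2 - 1 = 1 := by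
      rw [← map_one (algebraMap A (Localization.Away (2 : A))), ← map_sub]
      norm_num
    rw [this]
    exact isUnit_one

end nbhd

theorem main (A : Type u) [CommRing A] (n : ℕ)
    (s : Matrix.SpecialLinearGroup (Fin n) A) (p : PrimeSpectrum A) :
    ∃ (A' : Type u) (_ : CommRing A') (_ : Algebra A A'), Algebra.Etale A A' ∧
      (∃ q : PrimeSpectrum A', q.asIdeal.comap (algebraMap A A') = p.asIdeal) ∧
      (Matrix.GeneralLinearGroup.map (algebraMap A A')) (Matrix.SpecialLinearGroup.toGL s) ∈
        commutator (Matrix.GeneralLinearGroup (Fin n) A') := by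
  haveI := p.isPrime
  obtain ⟨A1, _, _, hE1, ⟨q1, hq1, hq1over⟩, u, hu, hu1⟩ := exists_unit_nbhd A p.asIdeal
  haveI := hq1
  have hdet : ((s : Matrix (Fin n) (Fin n) A).map (algebraMap A A1)).det = 1 := by
    have := RingHom.map_det (algebraMap A A1) (s : Matrix (Fin n) (Fin n) A)
    rw [RingHom.mapMatrix_apply] at this
    rw [← this, s.det_coe, map_one]
  obtain ⟨A2, _, _, hE2, ⟨q2, hq2, hq2over⟩, hmem⟩ :=
    good_of_det_one n A1 _ hdet q1
  letI : Algebra A A2 := ((algebraMap A1 A2).comp (algebraMap A A1)).toAlgebra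
  haveI : IsScalarTower A A1 A2 := IsScalarTower.of_algebraMap_eq (fun _ => rfl)
  refine ⟨A2, inferInstance, inferInstance, Algebra.Etale.comp A A1 A2, ⟨⟨q2, hq2⟩, ?_⟩, ?_⟩
  · change q2.comap (algebraMap A A2) = p.asIdeal
    rw [IsScalarTower.algebraMap_eq A A1 A2, ← Ideal.comap_comap, hq2over, hq1over]
  · have hu' : IsUnit (algebraMap A1 A2 u) := hu.map _
    have hu1' : IsUnit (algebraMap A1 A2 u - 1) := by
      have := hu1.map (algebraMap A1 A2)
      rwa [map_sub, map_one] at this
    obtain ⟨g, hg, hgM⟩ := exists_mem_commutator_of_mem_TP _ hu' hu1' hmem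
    have : (Matrix.GeneralLinearGroup.map (algebraMap A A2)) (Matrix.SpecialLinearGroup.toGL s)
        = g := by
      apply Units.ext
      rw [hgM]
      ext r c
      simp [IsScalarTower.algebraMap_apply A A1 A2]
    rw [this]
    exact hg

end Groth.Agent.Lib.SLCommutator
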