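import Mathlib

set_option maxHeartbeats 400000

open Matrix Polynomial

namespace Groth.Agent.Lib.SLPath

universe u
variable {K : Type u} [Field K] {ι : Type*} [Fintype ι] [DecidableEq ι]

theorem map_transvection {R S : Type*} [CommRing R] [CommRing S] (f : R →+* S) {i j : ι}
    (hij : i ≠ j) (b : R) :
    SpecialLinearGroup.map f (SpecialLinearGroup.transvection hij b) =
      SpecialLinearGroup.transvection hij (f b) := by
  apply Subtype.ext
  rw [SpecialLinearGroup.map_apply_coe, RingHom.mapMatrix_apply]
  ext a c
  simp only [SpecialLinearGroup.transvection_coe, Matrix.map_apply, Matrix.add_apply,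
    Matrix.one_apply, Matrix.single_apply, map_add]
  split_ifs <;> simp

def Conn (A : SpecialLinearGroup ι K) : Prop :=
  ∃ M : SpecialLinearGroup ι K[X],
    SpecialLinearGroup.map (Polynomial.evalRingHom (0 : K)) M = 1 ∧
    SpecialLinearGroup.map (Polynomial.evalRingHom (1 : K)) M = A

theorem conn_mul {A B : SpecialLinearGroup ι K} (hA : Conn A) (hB : Conn B) : Conn (A * B) := by
  obtain ⟨M, h0, h1⟩ := hA
  obtain ⟨N, g0, g1⟩ := hB
  exact ⟨M * N, by rw [map_mul, h0, g0, one_mul], by rw [map_mul, h1, g1]⟩

theorem conn_transvection {i j : ι} (hij : i ≠ j) (a : K) :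
    Conn (SpecialLinearGroup.transvection hij a) := by
  refine ⟨SpecialLinearGroup.transvection hij (C a * X), ?_, ?_⟩
  · rw [map_transvection]
    simp
  · rw [map_transvection]
    simp

theorem diag_eq {i j : ι} (hij : i ≠ j) (c : K) (hc : c ≠ 0) :
    Matrix.transvection i j (c - 1) * (Matrix.transvection j i 1 *
      (Matrix.transvection i j (c⁻¹ - 1) * Matrix.transvection j i (-c))) =
    Matrix.diagonal (fun k => if k = i then c else if k = j then c⁻¹ else 1) := by
  have hji : j ≠ i := hij.symm
  set T4 : Matrix ι ι K := Matrix.transvection j i (-c) with hT4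
  have e4 : ∀ a b, T4 a b = (if a = b then 1 else 0) + (if j = a ∧ i = b then -c else 0) := by
    intro a b
    rw [hT4, Matrix.transvection, Matrix.add_apply, Matrix.one_apply, Matrix.single_apply]
  set M2 : Matrix ι ι K := Matrix.transvection i j (c⁻¹ - 1) * T4 with hM2
  have e2i : ∀ b, M2 i b = T4 i b + (c⁻¹ - 1) * T4 j b := fun b =>
    Matrix.transvection_mul_apply_same i j b _ T4
  have e2o : ∀ a b, a ≠ i → M2 a b = T4 a b := fun a b ha =>
    Matrix.transvection_mul_apply_of_ne i j a b ha _ T4
  set M1 : Matrix ι ι K := Matrix.transvection j i 1 * M2 with hM1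
  have e1j : ∀ b, M1 j b = M2 j b + 1 * M2 i b := fun b =>
    Matrix.transvection_mul_apply_same j i b _ M2
  have e1o : ∀ a b, a ≠ j → M1 a b = M2 a b := fun a b ha =>
    Matrix.transvection_mul_apply_of_ne j i a b ha _ M2
  have e0i : ∀ b, (Matrix.transvection i j (c - 1) * M1) i b = M1 i b + (c - 1) * M1 j b :=
    fun b => Matrix.transvection_mul_apply_same i j b _ M1
  have e0o : ∀ a b, a ≠ i → (Matrix.transvection i j (c - 1) * M1) a b = M1 a b :=
    fun a b ha => Matrix.transvection_mul_apply_of_ne i j a b ha _ M1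
  ext a b
  rw [Matrix.diagonal_apply]
  by_cases hai : a = i
  · rw [hai, e0i, e1o i b hij, e2i, e1j, e2o j b hji, e2i]
    simp only [e4]
    by_cases hbi : b = i
    · simp [hbi, hij, hji] <;> field_simp <;> ring
    · by_cases hbj : b = j
      · simp [hbj, hij, hji] <;> field_simp <;> ring
      · simp [hbi, hbj, hij, hji, Ne.symm hbi, Ne.symm hbj]
  · by_cases haj : a = j
    · rw [haj, e0o j b hji, e1j, e2o j b hji, e2i]
      simp only [e4]
      by_cases hbi : b = i
      · simp [hbi, hij, hji] <;> field_simp <;> ring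
      · by_cases hbj : b = j
        · simp [hbj, hij, hji] <;> field_simp <;> ring
        · simp [hbi, hbj, hij, hji, Ne.symm hbi, Ne.symm hbj]
    · rw [e0o a b hai, e1o a b haj, e2o a b hai, e4]
      simp [hai, haj, Ne.symm haj]

theorem conn_diag2n {i j : ι} (hij : i ≠ j) (c : K) (hc : c ≠ 0) :
    Conn (SpecialLinearGroup.diag2n hij c hc) := by
  refine ⟨SpecialLinearGroup.transvection hij (C (c - 1) * X) *
    (SpecialLinearGroup.transvection hij.symm X *
      (SpecialLinearGroup.transvection hij (C (c⁻¹ - 1) * X) *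
        SpecialLinearGroup.transvection hij.symm (C (-c) * X))), ?_, ?_⟩
  · rw [map_mul, map_mul, map_mul, map_transvection, map_transvection, map_transvection,
      map_transvection]
    simp
  · have e1 : (evalRingHom (1:K)) (C (c - 1) * X) = c - 1 := by simp
    have e2 : (evalRingHom (1:K)) X = 1 := by simp
    have e3 : (evalRingHom (1:K)) (C (c⁻¹ - 1) * X) = c⁻¹ - 1 := by simp
    have e4 : (evalRingHom (1:K)) (C (-c) * X) = -c := by simp
    rw [map_mul, map_mul, map_mul, map_transvection, map_transvection, map_transvection,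
      map_transvection, e1, e2, e3, e4]
    apply Subtype.ext
    exact diag_eq hij c hc

theorem main (K : Type u) [Field K] (r : ℕ) (hr : 1 ≤ r)
    (A : Matrix.SpecialLinearGroup (Fin (r + 1)) K) :
    ∃ M : Matrix.SpecialLinearGroup (Fin (r + 1)) (Polynomial K),
      Matrix.SpecialLinearGroup.map (Polynomial.evalRingHom (0 : K)) M = 1 ∧
      Matrix.SpecialLinearGroup.map (Polynomial.evalRingHom (1 : K)) M = A := by
  haveI : Nontrivial (Fin (r + 1)) := Fin.nontrivial_iff_two_le.mpr (by omega)
  exact SpecialLinearGroup.diagonal_transvection_induction' Conn A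
    (fun i j hij {c} hc => conn_diag2n hij c hc) (fun i j hij a => conn_transvection hij a)
    (fun A B => conn_mul)

end Groth.Agent.Lib.SLPath
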