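import Mathlib

/-!
# Connecting two systems of parameters by single-coordinate changes (helper9)
-/

open Ideal IsLocalRing

namespace SOP9

variable {A : Type*} [CommRing A] [IsNoetherianRing A] [IsLocalRing A]

lemma eq_max_of_lt {I P Q : Ideal A} [P.IsPrime] [Q.IsPrime] {y : A}
    (hm : maximalIdeal A ∈ (I ⊔ span {y}).minimalPrimes) (hIP : I ≤ P) (hPQ : P < Q) :
    maximalIdeal A ≤ Q := by
  by_contra hQ
  have hQm : Q < maximalIdeal A :=
    lt_of_le_of_ne (le_maximalIdeal IsPrime.ne_top') (fun h => hQ h.ge)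
  let f := Ideal.Quotient.mk I
  have hf : Function.Surjective f := Ideal.Quotient.mk_surjective
  have hIQ : I ≤ Q := hIP.trans hPQ.le
  have hIm : I ≤ maximalIdeal A := hIQ.trans hQm.le
  have key : ∀ {J J' : Ideal A}, I ≤ J → I ≤ J' → J < J' → J.map f < J'.map f := by
    intro J J' hJ hJ' hlt
    refine (map_mono hlt.le).lt_of_not_ge fun e => hlt.not_ge ?_
    have := comap_mono (f := f) e
    rwa [comap_map_of_surjective f hf, comap_map_of_surjective f hf, ← RingHom.ker_eq_comap_bot,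
      mk_ker, sup_eq_left.mpr hJ, sup_eq_left.mpr hJ'] at this
  haveI : (P.map f).IsPrime := map_isPrime_of_surjective hf (by rwa [mk_ker])
  haveI : (Q.map f).IsPrime := map_isPrime_of_surjective hf (by rwa [mk_ker])
  haveI : ((maximalIdeal A).map f).IsPrime := map_isPrime_of_surjective hf (by rwa [mk_ker])
  have h1 := Ideal.height_add_one_le_of_lt_of_isPrime (key hIP hIQ hPQ)
  have h2 := Ideal.height_add_one_le_of_lt_of_isPrime (key hIQ hIm hQm)
  have h3 := Ideal.map_height_le_one_of_mem_minimalPrimes hm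
  generalize (P.map f).height = a at h1
  generalize (Q.map f).height = b at h1 h2
  generalize ((maximalIdeal A).map f).height = c at h2 h3
  enat_to_nat
  omega

/-- being a "system of parameters" in the weak sense used here. -/
def IsSOP {d : ℕ} (w : Fin d → A) : Prop :=
  (∀ i, w i ∈ maximalIdeal A) ∧ maximalIdeal A ≤ (span (Set.range w)).radical

lemma replace {d : ℕ} (w : Fin d → A) (hw : IsSOP w) (k : Fin d) (x : A)
    (hx : x ∈ maximalIdeal A)
    (havoid : ∀ P ∈ (span (w '' {i | i ≠ k})).minimalPrimes, ¬ maximalIdeal A ≤ P → x ∉ P) :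
    IsSOP (Function.update w k x) := by
  obtain ⟨hw1, hw2⟩ := hw
  refine ⟨fun i => ?_, ?_⟩
  · by_cases hik : i = k
    · subst hik; simpa using hx
    · rw [Function.update_of_ne hik]; exact hw1 i
  set I := span (w '' {i | i ≠ k}) with hI
  have hspan1 : span (Set.range w) = I ⊔ span {w k} := by
    apply le_antisymm
    · rw [span_le]
      rintro _ ⟨i, rfl⟩
      by_cases hik : i = k
      · subst hik
        exact (le_sup_right : span {w i} ≤ I ⊔ span {w i}) (mem_span_singleton_self _)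
      · exact (le_sup_left : I ≤ I ⊔ span {w k}) (subset_span ⟨i, hik, rfl⟩)
    · refine sup_le (span_mono ?_) ?_
      · rintro _ ⟨i, _, rfl⟩; exact ⟨i, rfl⟩
      · rw [span_singleton_le_iff_mem]; exact subset_span ⟨k, rfl⟩
  have hspan2 : I ⊔ span {x} ≤ span (Set.range (Function.update w k x)) := by
    refine sup_le (span_mono ?_) ?_
    · rintro _ ⟨i, hik, rfl⟩
      exact ⟨i, Function.update_of_ne hik _ _⟩
    · rw [span_singleton_le_iff_mem]; exact subset_span ⟨k, by simp⟩
  have hm : maximalIdeal A ∈ (I ⊔ span {w k}).minimalPrimes := by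
    rw [← hspan1]
    refine ⟨⟨inferInstance, ?_⟩, ?_⟩
    · rw [span_le]; rintro _ ⟨i, rfl⟩; exact hw1 i
    · rintro q ⟨hq, hle⟩ _
      exact hw2.trans (hq.radical_le_iff.mpr hle)
  refine le_trans ?_ (radical_mono hspan2)
  rw [radical_eq_sInf]
  refine le_sInf ?_
  rintro Q ⟨hQ1, hQ2⟩
  haveI := hQ2
  obtain ⟨P, hP, hPQ⟩ := Ideal.exists_minimalPrimes_le (le_sup_left.trans hQ1 : I ≤ Q)
  haveI := hP.1.1
  by_cases hmP : maximalIdeal A ≤ P
  · exact hmP.trans hPQ
  · have hxP := havoid P hP hmP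
    have hxQ : x ∈ Q := hQ1 ((le_sup_right : span {x} ≤ I ⊔ span {x}) (mem_span_singleton_self x))
    have hlt : P < Q := lt_of_le_of_ne hPQ (fun h => hxP (h ▸ hxQ))
    exact eq_max_of_lt hm hP.1.2 hlt

omit [IsNoetherianRing A] in
lemma exists_avoid (s : Set (Ideal A)) (hs : s.Finite)
    (hp : ∀ P ∈ s, P.IsPrime ∧ ¬ maximalIdeal A ≤ P) :
    ∃ x ∈ maximalIdeal A, ∀ P ∈ s, x ∉ P := by
  by_contra hcon
  push Not at hcon
  have hsub := (Ideal.subset_union_prime (s := hs.toFinset) (f := fun P : Ideal A => P)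
    (⊤ : Ideal A) ⊤ (fun P hP _ _ => (hp P (by simpa using hP)).1)
    (I := maximalIdeal A)).mp (by
      intro x hx
      obtain ⟨P, hP, hxP⟩ := hcon x hx
      simp only [Set.mem_iUnion]
      exact ⟨P, by simpa using hP, hxP⟩)
  obtain ⟨P, hP, hle⟩ := hsub
  exact (hp P (by simpa using hP)).2 hle

/-- one step: both are s.o.p. and they differ in at most one coordinate. -/
def Step {d : ℕ} (a b : Fin d → A) : Prop :=
  IsSOP a ∧ IsSOP b ∧ ∃ i, ∀ i', i' ≠ i → a i' = b i'

omit [IsNoetherianRing A] in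
lemma step_symm {d : ℕ} {a b : Fin d → A} (h : Step a b) : Step b a := by
  obtain ⟨ha, hb, i, hi⟩ := h
  exact ⟨hb, ha, i, fun i' h => (hi i' h).symm⟩

omit [IsNoetherianRing A] in
lemma rtg_symm {d : ℕ} {a b : Fin d → A} (h : Relation.ReflTransGen Step a b) :
    Relation.ReflTransGen Step b a := by
  induction h with
  | refl => exact .refl
  | tail _ hbc ih => exact Relation.ReflTransGen.head (step_symm hbc) ih

lemma converge {d : ℕ} (j : ℕ) (hj : j ≤ d) (u v : Fin d → A) (hu : IsSOP u) (hv : IsSOP v) :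
    ∃ u' v' : Fin d → A, IsSOP u' ∧ IsSOP v' ∧ Relation.ReflTransGen Step u u' ∧
      Relation.ReflTransGen Step v v' ∧ ∀ i : Fin d, (i : ℕ) < j → u' i = v' i := by
  induction j with
  | zero => exact ⟨u, v, hu, hv, .refl, .refl, fun i hi => absurd hi (Nat.not_lt_zero _)⟩
  | succ j ih =>
    obtain ⟨u', v', hu', hv', hru, hrv, hagree⟩ := ih (Nat.le_of_succ_le hj)
    let k : Fin d := ⟨j, hj⟩
    let s : Set (Ideal A) :=
      {P | P ∈ (span (u' '' {i | i ≠ k})).minimalPrimes ∧ ¬ maximalIdeal A ≤ P} ∪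
      {P | P ∈ (span (v' '' {i | i ≠ k})).minimalPrimes ∧ ¬ maximalIdeal A ≤ P}
    have hs : s.Finite := by
      refine Set.Finite.union ?_ ?_
      · exact (Ideal.finite_minimalPrimes_of_isNoetherianRing A _).subset fun P hP => hP.1
      · exact (Ideal.finite_minimalPrimes_of_isNoetherianRing A _).subset fun P hP => hP.1
    obtain ⟨x, hx, hxs⟩ := exists_avoid s hs (by
      rintro P (hP | hP)
      · exact ⟨hP.1.1.1, hP.2⟩
      · exact ⟨hP.1.1.1, hP.2⟩)
    have hu'' := replace u' hu' k x hx (fun P hP hmP => hxs P (Or.inl ⟨hP, hmP⟩))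
    have hv'' := replace v' hv' k x hx (fun P hP hmP => hxs P (Or.inr ⟨hP, hmP⟩))
    refine ⟨Function.update u' k x, Function.update v' k x, hu'', hv'',
      hru.tail ⟨hu', hu'', k, fun i' h => (Function.update_of_ne h _ _).symm⟩,
      hrv.tail ⟨hv', hv'', k, fun i' h => (Function.update_of_ne h _ _).symm⟩, ?_⟩
    intro i hi
    by_cases hik : i = k
    · subst hik; simp
    · rw [Function.update_of_ne hik, Function.update_of_ne hik]
      apply hagree
      have : (i : ℕ) ≠ j := fun h => hik (Fin.ext h)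
      omega

omit [IsNoetherianRing A] in
lemma chain_of_rtg {d : ℕ} (u v : Fin d → A) (hu : IsSOP u)
    (h : Relation.ReflTransGen Step u v) :
    ∃ (m : ℕ) (w : Fin (m + 1) → Fin d → A), w 0 = u ∧ w (Fin.last m) = v ∧
      (∀ k : Fin (m + 1), IsSOP (w k)) ∧
      (∀ k : Fin m, ∃ i : Fin d, ∀ i' : Fin d, i' ≠ i → w k.castSucc i' = w k.succ i') := by
  induction h with
  | refl => exact ⟨0, fun _ => u, rfl, rfl, fun _ => hu, fun k => k.elim0⟩
  | tail hab hbc ih =>
    rename_i b c
    obtain ⟨n, w, h0, hl, hS, hst⟩ := ih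
    refine ⟨n + 1, Fin.snoc (α := fun _ => Fin d → A) w c, ?_, ?_, ?_, ?_⟩
    · rw [← Fin.castSucc_zero, Fin.snoc_castSucc]; exact h0
    · exact Fin.snoc_last _ _
    · intro k
      refine Fin.lastCases ?_ (fun k' => ?_) k
      · rw [Fin.snoc_last]; exact hbc.2.1
      · rw [Fin.snoc_castSucc]; exact hS k'
    · intro k
      refine Fin.lastCases ?_ (fun k' => ?_) k
      · rw [Fin.succ_last, Fin.snoc_last, Fin.snoc_castSucc, hl]
        exact hbc.2.2
      · rw [Fin.succ_castSucc, Fin.snoc_castSucc, Fin.snoc_castSucc]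
        exact hst k'

theorem main {d : ℕ} (u v : Fin d → A) (hu : IsSOP u) (hv : IsSOP v) :
    ∃ (m : ℕ) (w : Fin (m + 1) → Fin d → A), w 0 = u ∧ w (Fin.last m) = v ∧
      (∀ k : Fin (m + 1), IsSOP (w k)) ∧
      (∀ k : Fin m, ∃ i : Fin d, ∀ i' : Fin d, i' ≠ i → w k.castSucc i' = w k.succ i') := by
  obtain ⟨u', v', hu', hv', hru, hrv, hagree⟩ := converge d le_rfl u v hu hv
  have heq : u' = v' := funext fun i => hagree i i.2
  subst heq
  have hrv' : Relation.ReflTransGen Step u' v := rtg_symm hrv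
  exact chain_of_rtg u v hu (hru.trans hrv')

end SOP9
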