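import Mathlib

/-!
# Euler characteristic of the pages of a spectral sequence of modules (helper9)
-/

set_option autoImplicit false
universe u
open CategoryTheory Limits

namespace Groth.Agent.SSEuler9

variable (A : Type u) [Ring A]

/-- the length of a module as an integer (zero when infinite) -/
noncomputable def lenZ (M : Type*) [AddCommGroup M] [Module A M] : ℤ :=
  ((Module.length A M).toNat : ℤ)

variable {A}

section Lin

variable {N M P : Type*} [AddCommGroup N] [Module A N] [AddCommGroup M] [Module A M]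
  [AddCommGroup P] [Module A P]

lemma lenZ_exact (f : N →ₗ[A] M) (g : M →ₗ[A] P) (hf : Function.Injective f)
    (hg : Function.Surjective g) (H : Function.Exact f g) (hM : Module.length A M ≠ ⊤) :
    lenZ A M = lenZ A N + lenZ A P := by
  have h := Module.length_eq_add_of_exact f g hf hg H
  unfold lenZ
  rw [h] at hM ⊢
  have h2 := WithTop.add_ne_top.mp hM
  rw [ENat.toNat_add h2.1 h2.2]
  push_cast
  rfl

lemma lenZ_equiv (e : M ≃ₗ[A] N) : lenZ A M = lenZ A N := by
  unfold lenZ
  rw [e.length_eq]

lemma length_ker_ne_top (φ : M →ₗ[A] P) (hM : Module.length A M ≠ ⊤) :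
    Module.length A (LinearMap.ker φ) ≠ ⊤ :=
  ne_top_of_le_ne_top hM
    (Module.length_le_of_injective (LinearMap.ker φ).subtype (Submodule.subtype_injective _))

lemma lenZ_ker_add_range (φ : M →ₗ[A] P) (hM : Module.length A M ≠ ⊤) :
    lenZ A M = lenZ A (LinearMap.ker φ) + lenZ A (LinearMap.range φ) := by
  apply lenZ_exact (LinearMap.ker φ).subtype φ.rangeRestrict (Submodule.subtype_injective _)
    φ.surjective_rangeRestrict ?_ hM
  rw [LinearMap.exact_iff, LinearMap.ker_rangeRestrict, Submodule.range_subtype]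

lemma lenZ_range_codRestrict (p : Submodule A P) (f : M →ₗ[A] P) (h : ∀ x, f x ∈ p)
    (hM : Module.length A M ≠ ⊤) :
    lenZ A (LinearMap.range (f.codRestrict p h)) = lenZ A (LinearMap.range f) := by
  have h1 := lenZ_ker_add_range f hM
  have h2 := lenZ_ker_add_range (f.codRestrict p h) hM
  rw [LinearMap.ker_codRestrict] at h2
  linarith

lemma lenZ_eq_zero_of_subsingleton [Subsingleton M] : lenZ A M = 0 := by
  unfold lenZ
  rw [Module.length_eq_zero]
  rfl

lemma lenZ_range_eq_zero_of_subsingleton_left [Subsingleton M] (φ : M →ₗ[A] P) :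
    lenZ A (LinearMap.range φ) = 0 := by
  haveI : Subsingleton (LinearMap.range φ) := by
    constructor
    rintro ⟨_, x, rfl⟩ ⟨_, y, rfl⟩
    rw [Subsingleton.elim x y]
  exact lenZ_eq_zero_of_subsingleton

lemma lenZ_range_eq_zero_of_subsingleton_right [Subsingleton P] (φ : M →ₗ[A] P) :
    lenZ A (LinearMap.range φ) = 0 := by
  haveI : Subsingleton (LinearMap.range φ) :=
    ⟨fun a b => Subtype.ext (Subsingleton.elim _ _)⟩
  exact lenZ_eq_zero_of_subsingleton

end Lin

section SC

variable (S : ShortComplex (ModuleCat.{u} A))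

lemma length_homology_ne_top (h2 : Module.length A S.X₂ ≠ ⊤) :
    Module.length A S.homology ≠ ⊤ := by
  rw [S.moduleCatHomologyIso.toLinearEquiv.length_eq]
  have hk := length_ker_ne_top S.g.hom h2
  exact ne_top_of_le_ne_top hk
    (Module.length_le_of_surjective (LinearMap.range S.moduleCatToCycles).mkQ
      (Submodule.mkQ_surjective _))

lemma lenZ_homology (h1 : Module.length A S.X₁ ≠ ⊤) (h2 : Module.length A S.X₂ ≠ ⊤) :
    lenZ A S.homology = lenZ A (LinearMap.ker S.g.hom) - lenZ A (LinearMap.range S.f.hom) := by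
  rw [lenZ_equiv S.moduleCatHomologyIso.toLinearEquiv]
  have hk := length_ker_ne_top S.g.hom h2
  have h3 := lenZ_exact (LinearMap.range S.moduleCatToCycles).subtype
    (LinearMap.range S.moduleCatToCycles).mkQ (Submodule.subtype_injective _)
    (Submodule.mkQ_surjective _) (LinearMap.exact_subtype_mkQ _) hk
  have h4 : lenZ A (LinearMap.range S.moduleCatToCycles) = lenZ A (LinearMap.range S.f.hom) :=
    lenZ_range_codRestrict _ _ _ h1
  rw [h4] at h3
  show lenZ A (LinearMap.ker S.g.hom ⧸ LinearMap.range S.moduleCatToCycles) = _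
  linarith

end SC

section HC

variable {ι : Type*} {c : ComplexShape ι} (K : HomologicalComplex (ModuleCat.{u} A) c)

lemma lenZ_homology_cx (hfin : ∀ a, Module.length A (K.X a) ≠ ⊤) (i j k : ι)
    (hi : c.prev j = i) (hk : c.next j = k) :
    lenZ A (K.homology j) =
      lenZ A (LinearMap.ker (K.d j k).hom) - lenZ A (LinearMap.range (K.d i j).hom) := by
  subst hi hk
  exact lenZ_homology (K.sc j) (hfin _) (hfin _)

lemma length_homology_cx_ne_top (hfin : ∀ a, Module.length A (K.X a) ≠ ⊤) (j : ι) :
    Module.length A (K.homology j) ≠ ⊤ :=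
  length_homology_ne_top (K.sc j) (hfin j)

lemma lenZ_range_congr (a b b' : ι) (h : b = b') :
    lenZ A (LinearMap.range (K.d a b).hom) = lenZ A (LinearMap.range (K.d a b').hom) := by
  subst h
  rfl

end HC

section Page

variable (u : ℤ × ℤ) (K : HomologicalComplex (ModuleCat.{u} A) (ComplexShape.up' u))

/-- the sign `(-1)^(p+q)` -/
def sgn (a : ℤ × ℤ) : ℤ := (((a.1 + a.2).negOnePow : ℤˣ) : ℤ)

lemma sgn_add (hu : u.1 + u.2 = 1) (a : ℤ × ℤ) : sgn (a + u) = - sgn a := by
  unfold sgn
  have : (a + u).1 + (a + u).2 = (a.1 + a.2) + 1 := by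
    simp only [Prod.fst_add, Prod.snd_add]
    omega
  rw [this, Int.negOnePow_succ]
  simp

/-- the Euler characteristic of the homology equals that of the terms -/
theorem euler_homology (hu : u.1 + u.2 = 1) (s : Finset (ℤ × ℤ))
    (hs : ∀ a, a ∉ s → IsZero (K.X a)) (hfin : ∀ a, Module.length A (K.X a) ≠ ⊤) :
    (s.sum fun a => sgn a * lenZ A (K.homology a)) = s.sum fun a => sgn a * lenZ A (K.X a) := by
  -- the functions involved
  let z : ℤ × ℤ → ℤ := fun a => lenZ A (LinearMap.ker (K.d a (a + u)).hom)
  let ρ : ℤ × ℤ → ℤ := fun a => lenZ A (LinearMap.range (K.d a (a + u)).hom)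
  have hX : ∀ a, lenZ A (K.X a) = z a + ρ a := fun a => lenZ_ker_add_range _ (hfin a)
  have hH : ∀ a, lenZ A (K.homology a) = z a - ρ (a - u) := by
    intro a
    have hrel1 : (ComplexShape.up' u).Rel (a - u) a := sub_add_cancel a u
    have hrel2 : (ComplexShape.up' u).Rel a (a + u) := rfl
    rw [lenZ_homology_cx K hfin (a - u) a (a + u) ((ComplexShape.up' u).prev_eq' hrel1)
      ((ComplexShape.up' u).next_eq' hrel2)]
    show _ - _ = z a - lenZ A (LinearMap.range (K.d (a - u) (a - u + u)).hom)
    rw [lenZ_range_congr K (a - u) (a - u + u) a (sub_add_cancel a u)]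
  have hρ : ∀ a, ρ a ≠ 0 → a ∈ s ∧ a + u ∈ s := by
    intro a ha
    constructor
    · by_contra h
      haveI := ModuleCat.subsingleton_of_isZero (hs a h)
      exact ha (lenZ_range_eq_zero_of_subsingleton_left _)
    · by_contra h
      haveI := ModuleCat.subsingleton_of_isZero (hs (a + u) h)
      exact ha (lenZ_range_eq_zero_of_subsingleton_right _)
  let g : ℤ × ℤ → ℤ := fun a => sgn a * ρ a
  have hg : ∀ a, g a ≠ 0 → a ∈ s ∧ a + u ∈ s := by
    intro a ha
    apply hρ a
    intro h0
    apply ha
    show sgn a * ρ a = 0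
    rw [h0, mul_zero]
  have hshift : (s.sum fun a => g (a - u)) = s.sum g := by
    apply Finset.sum_bij_ne_zero (fun a _ _ => a - u)
    · intro a _ h
      exact (hg _ h).1
    · intro a _ _ b _ _ hab
      exact sub_left_injective hab
    · intro b _ hb
      refine ⟨b + u, (hg b hb).2, ?_, add_sub_cancel_right b u⟩
      rw [add_sub_cancel_right]
      exact hb
    · intro a _ _
      rfl
  have hsg : ∀ a, sgn a * ρ (a - u) = - g (a - u) := by
    intro a
    show sgn a * ρ (a - u) = - (sgn (a - u) * ρ (a - u))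
    have : sgn a = - sgn (a - u) := by
      have := sgn_add u hu (a - u)
      rw [sub_add_cancel] at this
      exact this
    rw [this]
    ring
  calc (s.sum fun a => sgn a * lenZ A (K.homology a))
      = s.sum fun a => (sgn a * z a + g (a - u)) := by
        apply Finset.sum_congr rfl
        intro a _
        rw [hH a, mul_sub, hsg a]
        ring
    _ = (s.sum fun a => sgn a * z a) + s.sum fun a => g (a - u) := Finset.sum_add_distrib
    _ = (s.sum fun a => sgn a * z a) + s.sum g := by rw [hshift]
    _ = s.sum fun a => (sgn a * z a + g a) := Finset.sum_add_distrib.symm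
    _ = s.sum fun a => sgn a * lenZ A (K.X a) := by
        apply Finset.sum_congr rfl
        intro a _
        rw [hX a]
        show sgn a * z a + sgn a * ρ a = _
        ring

end Page

section SS

variable (E : E₂CohomologicalSpectralSequence (ModuleCat.{u} A)) (s : Finset (ℤ × ℤ))

/-- the Euler characteristic of a page -/
noncomputable def chi (r : ℤ) (hr : 2 ≤ r) : ℤ :=
  s.sum fun a => sgn a * lenZ A ((E.page r hr).X a)

theorem main (hs : ∀ a, a ∉ s → IsZero ((E.page 2 le_rfl).X a))
    (hfl : ∀ a, IsFiniteLength A ((E.page 2 le_rfl).X a)) :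
    ∀ (r : ℤ) (hr : 2 ≤ r), (∀ a, a ∉ s → IsZero ((E.page r hr).X a)) ∧
      (∀ a, Module.length A ((E.page r hr).X a) ≠ ⊤) ∧ chi E s r hr = chi E s 2 le_rfl := by
  intro r hr
  induction r, hr using Int.le_induction with
  | base => exact ⟨hs, fun a => Module.length_ne_top_iff.mpr (hfl a), rfl⟩
  | succ r hr ih =>
    obtain ⟨h1, h2, h3⟩ := ih
    have hr' : 2 ≤ r + 1 := by omega
    have e : ∀ a, (E.page r hr).homology a ≅ (E.page (r + 1) hr').X a :=
      fun a => E.iso r (r + 1) a rfl hr
    refine ⟨fun a ha => ?_, fun a => ?_, ?_⟩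
    · exact IsZero.of_iso (ShortComplex.isZero_homology_of_isZero_X₂ _ (h1 a ha)) (e a).symm
    · rw [← (e a).toLinearEquiv.length_eq]
      exact length_homology_cx_ne_top _ h2 a
    · rw [← h3]
      unfold chi
      rw [← euler_homology (r, 1 - r) (E.page r hr) (by simp) s h1 h2]
      apply Finset.sum_congr rfl
      intro a _
      rw [lenZ_equiv (e a).toLinearEquiv]

end SS

end Groth.Agent.SSEuler9
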