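import Groth.Agent.Lib.SSRedTors_helper1

open Module

namespace Groth.Agent.Lib.SSRedH1

theorem case2 {ℓ : ℕ} [Fact ℓ.Prime] (hℓ2 : ℓ = 2) {M : Type*} [AddCommGroup M] [Module ℤ_[ℓ] M]
    [Module.Free ℤ_[ℓ] M] [Module.Finite ℤ_[ℓ] M]
    (A : M ≃ₗ[ℤ_[ℓ]] M) (h2 : ∀ x, A (A x) = x) (f B : Module.End ℤ_[ℓ] M)
    (hf : ∀ x, f x = A x - x) (hB : ∀ x, f x = (2 : ℤ_[ℓ]) • B x) :
    (∀ x ∈ Submodule.torsion ℤ_[ℓ] (M ⧸ LinearMap.range f), (ℓ : ℤ_[ℓ]) • x = 0) ∧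
      Nat.card (Submodule.torsion ℤ_[ℓ] (M ⧸ LinearMap.range f)) =
        ℓ ^ (finrank ℤ_[ℓ] M - finrank ℤ_[ℓ] (LinearMap.ker f)) := by
  subst hℓ2
  have h2ne : (2 : ℤ_[2]) ≠ 0 := two_ne_zero
  have tf : ∀ (a : ℤ_[2]) (x : M), a ≠ 0 → a • x = 0 → x = 0 :=
    fun a x ha h => (smul_eq_zero.1 h).resolve_left ha
  have e1 : ∀ x, f (f x) = -((2 : ℤ_[2]) • f x) := by
    intro x
    simp only [hf, map_sub, h2]
    module
  have hBB : ∀ x, B (B x) = - B x := by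
    intro x
    have e2 : (4 : ℤ_[2]) • (B (B x) + B x) = 0 := by
      have h3 : f (f x) = (4 : ℤ_[2]) • B (B x) := by
        rw [hB (f x), hB x, map_smul, smul_smul]; norm_num
      have h4 : f (f x) = -((4 : ℤ_[2]) • B x) := by
        rw [e1, hB x, smul_smul]; norm_num
      rw [smul_add, ← h3, h4]; exact neg_add_cancel _
    exact eq_neg_of_add_eq_zero_left (tf 4 _ (by norm_num) e2)
  have hkey := final (ℓ := 2) (LinearMap.range f) (LinearMap.range B)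
    (finrank ℤ_[2] M - finrank ℤ_[2] (LinearMap.ker f)) ?_ ?_ ?_
  · exact hkey
  · intro x
    constructor
    · rintro ⟨y, rfl⟩
      exact ⟨2, h2ne, ⟨y, hB y⟩⟩
    · rintro ⟨a, ha0, y, hy⟩
      have h5 : a • (x + B x) = 0 := by
        rw [smul_add, ← map_smul, ← hy, hB y, map_smul, hBB, smul_neg, add_neg_cancel]
      have h6 := tf a _ ha0 h5
      exact ⟨-x, by rw [map_neg]; exact (eq_neg_of_add_eq_zero_left h6).symm⟩
  · rintro m ⟨y, rfl⟩
    rw [Nat.cast_ofNat]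
    exact ⟨y, hB y⟩
  · have hK : ((LinearMap.range f).comap (LinearMap.range B).subtype).toAddSubgroup =
        (LinearMap.range (((2:ℕ) : ℤ_[2]) • (LinearMap.id :
          LinearMap.range B →ₗ[ℤ_[2]] LinearMap.range B))).toAddSubgroup := by
      ext s
      simp only [Submodule.mem_toAddSubgroup, Submodule.mem_comap, LinearMap.mem_range,
        Submodule.subtype_apply, LinearMap.smul_apply, LinearMap.id_apply, Nat.cast_ofNat]
      constructor
      · rintro ⟨y, hy⟩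
        exact ⟨⟨B y, ⟨y, rfl⟩⟩, Subtype.ext (by simp [← hy, hB y])⟩
      · rintro ⟨⟨s', y, rfl⟩, hs⟩
        exact ⟨y, by rw [hB y, ← hs]; rfl⟩
    rw [hK, index_smul]
    congr 1
    have hker : LinearMap.ker f = LinearMap.ker B := by
      ext x
      simp only [LinearMap.mem_ker, hB x]
      exact ⟨fun h => tf 2 _ h2ne h, fun h => by rw [h, smul_zero]⟩
    have := rank_nullity B
    rw [hker]; omega

theorem case3 {ℓ : ℕ} [Fact ℓ.Prime] (hℓ3 : ℓ = 3) {M : Type*} [AddCommGroup M] [Module ℤ_[ℓ] M]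
    [Module.Free ℤ_[ℓ] M] [Module.Finite ℤ_[ℓ] M]
    (A : M ≃ₗ[ℤ_[ℓ]] M) (h3 : ∀ x, A (A (A x)) = x) (f B : Module.End ℤ_[ℓ] M)
    (hf : ∀ x, f x = A x - x) (hB : ∀ x, f (f x) = (3 : ℤ_[ℓ]) • B x) :
    (∀ x ∈ Submodule.torsion ℤ_[ℓ] (M ⧸ LinearMap.range f), (ℓ : ℤ_[ℓ]) • x = 0) ∧
      ∃ r : ℕ, r * 2 = finrank ℤ_[ℓ] M - finrank ℤ_[ℓ] (LinearMap.ker f) ∧
      Nat.card (Submodule.torsion ℤ_[ℓ] (M ⧸ LinearMap.range f)) = ℓ ^ r := by
  subst hℓ3
  have h3ne : (3 : ℤ_[3]) ≠ 0 := by norm_num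
  have tf : ∀ (a : ℤ_[3]) (x : M), a ≠ 0 → a • x = 0 → x = 0 :=
    fun a x ha h => (smul_eq_zero.1 h).resolve_left ha
  let Φ : M →ₗ[ℤ_[3]] M := A.toLinearMap ∘ₗ A.toLinearMap + A.toLinearMap + LinearMap.id
  have hΦ : ∀ x, Φ x = A (A x) + A x + x := fun x => rfl
  have hSmem : ∀ x, x ∈ LinearMap.ker Φ ↔ A (A x) + A x + x = 0 := fun x => by
    rw [LinearMap.mem_ker, hΦ]
  have hS1 : ∀ x, f (-(A x) - (2 : ℤ_[3]) • x) = (3 : ℤ_[3]) • x - (A (A x) + A x + x) := by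
    intro x; simp only [hf, map_sub, map_neg, map_smul]; module
  have hS2 : ∀ y, f y ∈ LinearMap.ker Φ := by
    intro y; rw [hSmem]; simp only [hf, map_sub, h3]; abel
  have hS3 : ∀ x ∈ LinearMap.ker Φ, A x ∈ LinearMap.ker Φ := by
    intro x hx; rw [hSmem] at hx ⊢
    have := congrArg A hx
    simpa only [map_add, map_zero] using this
  have hS4 : ∀ y ∈ LinearMap.ker Φ, f y = 0 → y = 0 := by
    intro y hy hfy
    rw [hSmem] at hy
    have hAy : A y = y := by rw [hf] at hfy; exact sub_eq_zero.1 hfy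
    rw [hAy, hAy] at hy
    exact tf 3 y h3ne (by rw [← hy]; module)
  have hΦB : ∀ x, B x ∈ LinearMap.ker Φ := by
    intro x
    have h7 : (3 : ℤ_[3]) • B x ∈ LinearMap.ker Φ := by rw [← hB]; exact hS2 _
    have h8 : (3 : ℤ_[3]) • Φ (B x) = 0 := by rw [← map_smul]; exact LinearMap.mem_ker.1 h7
    exact LinearMap.mem_ker.2 (tf 3 _ h3ne h8)
  have hffS : ∀ t ∈ LinearMap.ker Φ, f (f t) = -((3 : ℤ_[3]) • A t) := by
    intro t ht
    rw [hSmem] at ht
    have h0 : f (f t) = (A (A t) + A t + t) - (3 : ℤ_[3]) • A t := by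
      simp only [hf, map_sub]; module
    rw [h0, ht, zero_sub]
  have hS5 : ∀ x, ∃ t ∈ LinearMap.ker Φ, f t = f x := by
    intro x
    have ht : -(A (A (B x))) ∈ LinearMap.ker Φ :=
      (LinearMap.ker Φ).neg_mem (hS3 _ (hS3 _ (hΦB x)))
    refine ⟨-(A (A (B x))), ht, ?_⟩
    have h9 : f (f (-(A (A (B x))))) = f (f x) := by
      rw [hffS _ ht, map_neg, h3, hB, smul_neg, neg_neg]
    have h10 : f x - f (-(A (A (B x)))) = 0 := by
      apply hS4
      · exact (LinearMap.ker Φ).sub_mem (hS2 _) (hS2 _)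
      · rw [map_sub, h9, sub_self]
    exact (sub_eq_zero.1 h10).symm
  let F : LinearMap.ker Φ →ₗ[ℤ_[3]] LinearMap.ker Φ := f.restrict (fun s _ => hS2 s)
  have hF : ∀ s : LinearMap.ker Φ, (F s : M) = f s := fun s => rfl
  have hFinj : Function.Injective F := by
    intro s s' h
    have h11 : f ((s : M) - s') = 0 := by rw [map_sub, ← hF, ← hF, h, sub_self]
    have := hS4 _ ((LinearMap.ker Φ).sub_mem s.2 s'.2) h11
    exact Subtype.ext (sub_eq_zero.1 this)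
  have hK : ((LinearMap.range f).comap (LinearMap.ker Φ).subtype).toAddSubgroup =
      F.toAddMonoidHom.range := by
    ext s
    simp only [Submodule.mem_toAddSubgroup, Submodule.mem_comap, Submodule.subtype_apply,
      LinearMap.mem_range, AddMonoidHom.mem_range, LinearMap.toAddMonoidHom_coe]
    constructor
    · rintro ⟨x, hx⟩
      obtain ⟨t, ht, htx⟩ := hS5 x
      exact ⟨⟨t, ht⟩, Subtype.ext (by rw [hF]; exact htx.trans hx)⟩
    · rintro ⟨t, rfl⟩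
      exact ⟨t, (hF t).symm⟩
  have hFF : (F.toAddMonoidHom.comp F.toAddMonoidHom).range =
      (LinearMap.range (((3:ℕ) : ℤ_[3]) • (LinearMap.id :
        LinearMap.ker Φ →ₗ[ℤ_[3]] LinearMap.ker Φ))).toAddSubgroup := by
    ext s
    simp only [AddMonoidHom.mem_range, AddMonoidHom.comp_apply, LinearMap.toAddMonoidHom_coe,
      Submodule.mem_toAddSubgroup, LinearMap.mem_range, LinearMap.smul_apply,
      LinearMap.id_apply, Nat.cast_ofNat]
    constructor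
    · rintro ⟨t, rfl⟩
      refine ⟨⟨-(A t), (LinearMap.ker Φ).neg_mem (hS3 _ t.2)⟩, Subtype.ext ?_⟩
      rw [hF, hF, hffS _ t.2]
      simp [smul_neg]
    · rintro ⟨t, rfl⟩
      have ht2 : -(A (A (t:M))) ∈ LinearMap.ker Φ :=
        (LinearMap.ker Φ).neg_mem (hS3 _ (hS3 _ t.2))
      refine ⟨⟨-(A (A t)), ht2⟩, Subtype.ext ?_⟩
      rw [hF, hF]
      show f (f (-(A (A (t:M))))) = _
      rw [hffS _ ht2, map_neg, h3]
      simp [smul_neg]
  have hidx2 : F.toAddMonoidHom.range.index * F.toAddMonoidHom.range.index =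
      3 ^ finrank ℤ_[3] (LinearMap.ker Φ) := by
    rw [← index_comp_self _ hFinj, hFF, index_smul]
  have hrank : finrank ℤ_[3] (LinearMap.ker Φ) = finrank ℤ_[3] (LinearMap.range f) := by
    let G : LinearMap.ker Φ →ₗ[ℤ_[3]] LinearMap.range f :=
      (f.domRestrict (LinearMap.ker Φ)).codRestrict (LinearMap.range f) (fun s => ⟨s, rfl⟩)
    have hG : Function.Bijective G := by
      constructor
      · intro s s' h
        have h12 : f (s:M) = f (s':M) := congrArg Subtype.val h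
        have h11 : f ((s : M) - s') = 0 := by rw [map_sub, h12, sub_self]
        have := hS4 _ ((LinearMap.ker Φ).sub_mem s.2 s'.2) h11
        exact Subtype.ext (sub_eq_zero.1 this)
      · rintro ⟨_, x, rfl⟩
        obtain ⟨t, ht, htx⟩ := hS5 x
        exact ⟨⟨t, ht⟩, Subtype.ext htx⟩
    exact (LinearEquiv.ofBijective G hG).finrank_eq
  have hrn := rank_nullity f
  obtain ⟨r, hr, hn⟩ : ∃ r, r * 2 = finrank ℤ_[3] (LinearMap.ker Φ) ∧
      F.toAddMonoidHom.range.index = 3 ^ r := by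
    have hdvd : F.toAddMonoidHom.range.index ∣ 3 ^ finrank ℤ_[3] (LinearMap.ker Φ) :=
      ⟨_, hidx2.symm⟩
    obtain ⟨r, hr, hnr⟩ := (Nat.dvd_prime_pow Nat.prime_three).1 hdvd
    refine ⟨r, ?_, hnr⟩
    rw [hnr, ← pow_add] at hidx2
    have := Nat.pow_right_injective (by norm_num : 2 ≤ 3) hidx2
    omega
  have hkey := final (ℓ := 3) (LinearMap.range f) (LinearMap.ker Φ) r ?_ ?_ ?_
  · exact ⟨hkey.1, r, by omega, hkey.2⟩
  · intro x
    constructor
    · intro hx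
      exact ⟨3, h3ne, ⟨-(A x) - (2 : ℤ_[3]) • x, by rw [hS1, (hSmem x).1 hx, sub_zero]⟩⟩
    · rintro ⟨a, ha0, y, hy⟩
      have h13 : a • Φ x = 0 := by
        rw [← map_smul, ← hy]; exact LinearMap.mem_ker.1 (hS2 y)
      exact LinearMap.mem_ker.2 (tf a _ ha0 h13)
  · intro m hm
    rw [Nat.cast_ofNat]
    exact ⟨-(A m) - (2 : ℤ_[3]) • m, by rw [hS1, (hSmem m).1 hm, sub_zero]⟩
  · rw [hK]; exact hn

theorem main18599 (ℓ : ℕ) [Fact ℓ.Prime]
    (M : Type*) [AddCommGroup M] [Module ℤ_[ℓ] M] [Module.Free ℤ_[ℓ] M] [Module.Finite ℤ_[ℓ] M]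
    (A : M ≃ₗ[ℤ_[ℓ]] M) (hA : A ^ ℓ = 1) (f : Module.End ℤ_[ℓ] M)
    (hf : f = (A : M →ₗ[ℤ_[ℓ]] M) - 1)
    (hcase : (ℓ = 2 ∧ ∃ B : Module.End ℤ_[ℓ] M, f = (2 : ℤ_[ℓ]) • B) ∨
      (ℓ = 2 ∧ ∃ B : Module.End ℤ_[ℓ] M, f ^ 2 = (4 : ℤ_[ℓ]) • B) ∨
      (ℓ = 3 ∧ ∃ B : Module.End ℤ_[ℓ] M, f ^ 2 = (3 : ℤ_[ℓ]) • B))
    (c : ℕ) (hc : c = Module.finrank ℤ_[ℓ] M - Module.finrank ℤ_[ℓ] (LinearMap.ker f)) :
    (∀ x ∈ Submodule.torsion ℤ_[ℓ] (M ⧸ LinearMap.range f), (ℓ : ℤ_[ℓ]) • x = 0) ∧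
      ∃ r : ℕ, r * (ℓ - 1) = c ∧
        Nat.card (Submodule.torsion ℤ_[ℓ] (M ⧸ LinearMap.range f)) = ℓ ^ r := by
  have hfx : ∀ x, f x = A x - x := by intro x; rw [hf]; rfl
  have hpow : ∀ n, n = ℓ → A ^ n = 1 := by rintro n rfl; exact hA
  have tf : ∀ (a : ℤ_[ℓ]) (x : M), a ≠ 0 → a • x = 0 → x = 0 :=
    fun a x ha h => (smul_eq_zero.1 h).resolve_left ha
  rcases hcase with ⟨h2, B, hB⟩ | ⟨h2, B, hB⟩ | ⟨h3, B, hB⟩
  · have hAA : ∀ x, A (A x) = x := by
      intro x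
      have := LinearEquiv.congr_fun (hpow 2 h2.symm) x
      simpa [pow_succ] using this
    obtain ⟨k1, k2⟩ := case2 h2 A hAA f B hfx (fun x => by rw [hB]; rfl)
    refine ⟨k1, c, ?_, ?_⟩
    · have : ℓ - 1 = 1 := by omega
      rw [this, mul_one]
    · rw [hc]; exact k2
  · have hAA : ∀ x, A (A x) = x := by
      intro x
      have := LinearEquiv.congr_fun (hpow 2 h2.symm) x
      simpa [pow_succ] using this
    have hff : ∀ x, f (f x) = (4 : ℤ_[ℓ]) • B x := by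
      intro x
      have := LinearMap.congr_fun hB x
      simpa [pow_two] using this
    have e1 : ∀ x, f (f x) = -((2 : ℤ_[ℓ]) • f x) := by
      intro x
      simp only [hfx, map_sub, hAA]
      module
    have hB' : ∀ x, f x = (2 : ℤ_[ℓ]) • (-B) x := by
      intro x
      have h5 : (2 : ℤ_[ℓ]) • (f x + (2 : ℤ_[ℓ]) • B x) = 0 := by
        have h6 := hff x
        rw [e1] at h6
        rw [smul_add, smul_smul]
        have h7 : (2 : ℤ_[ℓ]) * 2 = 4 := by norm_num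
        rw [h7, ← h6]; exact add_neg_cancel _
      have h8 := tf 2 _ two_ne_zero h5
      rw [LinearMap.neg_apply, smul_neg]
      exact eq_neg_of_add_eq_zero_left h8
    obtain ⟨k1, k2⟩ := case2 h2 A hAA f (-B) hfx hB'
    refine ⟨k1, c, ?_, ?_⟩
    · have : ℓ - 1 = 1 := by omega
      rw [this, mul_one]
    · rw [hc]; exact k2
  · have hAAA : ∀ x, A (A (A x)) = x := by
      intro x
      have := LinearEquiv.congr_fun (hpow 3 h3.symm) x
      simpa [pow_succ] using this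
    have hff : ∀ x, f (f x) = (3 : ℤ_[ℓ]) • B x := by
      intro x
      have := LinearMap.congr_fun hB x
      simpa [pow_two] using this
    obtain ⟨k1, r, hr, k2⟩ := case3 h3 A hAAA f B hfx hff
    refine ⟨k1, r, ?_, k2⟩
    have : ℓ - 1 = 2 := by omega
    rw [this, hr, hc]

end Groth.Agent.Lib.SSRedH1
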