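import Mathlib

open Module

namespace Groth.Agent.Lib.SSRedH1

section general
variable {R M : Type*} [CommRing R] [IsDomain R] [AddCommGroup M] [Module R M]

lemma rank_nullity [Module.Finite R M] (f : M →ₗ[R] M) :
    finrank R (LinearMap.range f) + finrank R (LinearMap.ker f) = finrank R M := by
  rw [← f.quotKerEquivRange.finrank_eq]
  exact Submodule.finrank_quotient_add_finrank _

lemma mkQ_mem_torsion_iff (N : Submodule R M) (x : M) :
    N.mkQ x ∈ Submodule.torsion R (M ⧸ N) ↔ ∃ a : R, a ≠ 0 ∧ a • x ∈ N := by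
  rw [Submodule.mem_torsion_iff]
  constructor
  · rintro ⟨a, ha⟩
    refine ⟨a, nonZeroDivisors.coe_ne_zero a, ?_⟩
    rw [Submonoid.smul_def, ← map_smul, Submodule.mkQ_apply, Submodule.Quotient.mk_eq_zero] at ha
    exact ha
  · rintro ⟨a, ha0, ha⟩
    refine ⟨⟨a, mem_nonZeroDivisors_of_ne_zero ha0⟩, ?_⟩
    rw [Submonoid.smul_def, ← map_smul, Submodule.mkQ_apply, Submodule.Quotient.mk_eq_zero]
    exact ha

lemma card_torsion (N S : Submodule R M)
    (hS : ∀ x : M, x ∈ S ↔ N.mkQ x ∈ Submodule.torsion R (M ⧸ N)) :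
    Nat.card (Submodule.torsion R (M ⧸ N)) = ((N.comap S.subtype).toAddSubgroup).index := by
  let g : S →+ Submodule.torsion R (M ⧸ N) :=
    { toFun := fun s => ⟨N.mkQ s, (hS s).1 s.2⟩
      map_zero' := by ext; simp
      map_add' := by intro x y; ext; simp }
  have hg : Function.Surjective g := by
    rintro ⟨t, ht⟩
    obtain ⟨x, rfl⟩ := N.mkQ_surjective t
    exact ⟨⟨x, (hS x).2 ht⟩, rfl⟩
  have h1 : g.ker = (N.comap S.subtype).toAddSubgroup := by
    ext s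
    rw [AddMonoidHom.mem_ker, Submodule.mem_toAddSubgroup, Submodule.mem_comap]
    show (⟨N.mkQ s, _⟩ : Submodule.torsion R (M ⧸ N)) = 0 ↔ _
    rw [Subtype.ext_iff]
    simp [Submodule.Quotient.mk_eq_zero]
  rw [← h1, AddSubgroup.index_ker, AddMonoidHom.range_eq_top.2 hg, AddSubgroup.card_top]

lemma index_comp_self {G : Type*} [AddCommGroup G] (F : G →+ G) (hF : Function.Injective F) :
    (F.comp F).range.index = F.range.index * F.range.index := by
  rw [← AddMonoidHom.map_range]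
  exact AddSubgroup.index_map_of_injective _ hF

end general

section padic
variable {ℓ : ℕ} [Fact ℓ.Prime]

lemma index_smul (S : Type*) [AddCommGroup S] [Module ℤ_[ℓ] S] [Module.Free ℤ_[ℓ] S]
    [Module.Finite ℤ_[ℓ] S] :
    (LinearMap.range ((ℓ : ℤ_[ℓ]) • (LinearMap.id : S →ₗ[ℤ_[ℓ]] S))).toAddSubgroup.index
      = ℓ ^ finrank ℤ_[ℓ] S := by
  classical
  let b := Module.finBasis ℤ_[ℓ] S
  let φ : S →+ (Fin (finrank ℤ_[ℓ] S) → ZMod ℓ) :=
    { toFun := fun x i => PadicInt.toZMod (b.repr x i)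
      map_zero' := by ext i; simp
      map_add' := by intro x y; ext i; simp }
  have hφ : Function.Surjective φ := by
    intro v
    refine ⟨∑ i, ((v i).val : ℤ_[ℓ]) • b i, ?_⟩
    ext i
    show PadicInt.toZMod (b.repr (∑ j, ((v j).val : ℤ_[ℓ]) • b j) i) = v i
    rw [b.repr_sum_self]
    simp
  have hker : φ.ker = (LinearMap.range ((ℓ : ℤ_[ℓ]) •
      (LinearMap.id : S →ₗ[ℤ_[ℓ]] S))).toAddSubgroup := by
    ext x
    rw [AddMonoidHom.mem_ker, Submodule.mem_toAddSubgroup, LinearMap.mem_range]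
    constructor
    · intro hx
      have h1 : ∀ i, ∃ y : ℤ_[ℓ], b.repr x i = (ℓ : ℤ_[ℓ]) * y := by
        intro i
        have h0 : PadicInt.toZMod (b.repr x i) = 0 := congrFun hx i
        rw [← RingHom.mem_ker, PadicInt.ker_toZMod, PadicInt.maximalIdeal_eq_span_p,
          Ideal.mem_span_singleton'] at h0
        obtain ⟨y, hy⟩ := h0
        exact ⟨y, by rw [← hy, mul_comm]⟩
      choose y hy using h1
      refine ⟨∑ i, y i • b i, ?_⟩
      rw [LinearMap.smul_apply, LinearMap.id_apply, Finset.smul_sum]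
      conv_rhs => rw [← b.sum_repr x]
      refine Finset.sum_congr rfl (fun i _ => ?_)
      rw [smul_smul, hy]
    · rintro ⟨y, rfl⟩
      ext i
      show PadicInt.toZMod (b.repr (((ℓ : ℤ_[ℓ]) • (LinearMap.id : S →ₗ[ℤ_[ℓ]] S)) y) i) = 0
      simp
  rw [← hker, AddSubgroup.index_ker, AddMonoidHom.range_eq_top.2 hφ, AddSubgroup.card_top]
  simp [Nat.card_fun]

lemma final {M : Type*} [AddCommGroup M] [Module ℤ_[ℓ] M] (N S : Submodule ℤ_[ℓ] M) (r : ℕ)
    (hS : ∀ x : M, x ∈ S ↔ ∃ a : ℤ_[ℓ], a ≠ 0 ∧ a • x ∈ N)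
    (hℓ : ∀ m ∈ S, (ℓ : ℤ_[ℓ]) • m ∈ N)
    (hidx : ((N.comap S.subtype).toAddSubgroup).index = ℓ ^ r) :
    (∀ x ∈ Submodule.torsion ℤ_[ℓ] (M ⧸ N), (ℓ : ℤ_[ℓ]) • x = 0) ∧
      Nat.card (Submodule.torsion ℤ_[ℓ] (M ⧸ N)) = ℓ ^ r := by
  have hS' : ∀ x : M, x ∈ S ↔ N.mkQ x ∈ Submodule.torsion ℤ_[ℓ] (M ⧸ N) := fun x => by
    rw [mkQ_mem_torsion_iff]; exact hS x
  refine ⟨?_, ?_⟩
  · intro x hx
    obtain ⟨m, rfl⟩ := N.mkQ_surjective x
    rw [← map_smul, Submodule.mkQ_apply, Submodule.Quotient.mk_eq_zero]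
    exact hℓ m ((hS' m).2 hx)
  · rw [card_torsion N S hS', hidx]

end padic

end Groth.Agent.Lib.SSRedH1
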