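import Mathlib

set_option autoImplicit false
set_option linter.style.haveILetI false

universe u

open CategoryTheory Opposite SSet

namespace SSetNonDegH4

theorem main6808 {U V : SSet.{u}} (f : U ⟶ V)
    (ha : ∀ (n : ℕ) (x : U.obj (op (SimplexCategory.mk n))), x ∈ U.nonDegenerate n →
      f.app (op (SimplexCategory.mk n)) x ∈ V.nonDegenerate n)
    (hb : ∀ n : ℕ, Set.InjOn (f.app (op (SimplexCategory.mk n))) (U.nonDegenerate n)) (n : ℕ) :
    Function.Injective (f.app (op (SimplexCategory.mk n))) := by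
  intro x x' hxx'
  obtain ⟨m, g, hg, y, rfl⟩ := U.exists_nonDegenerate x
  obtain ⟨m', g', hg', y', rfl⟩ := U.exists_nonDegenerate x'
  have e1 : f.app _ (U.map g.op y) = V.map g.op (f.app _ y) :=
    NatTrans.naturality_apply f g.op y.1
  have e2 : f.app _ (U.map g'.op y') = V.map g'.op (f.app _ y') :=
    NatTrans.naturality_apply f g'.op y'.1
  let z : V.nonDegenerate m := ⟨f.app _ y, ha m y y.2⟩
  let z' : V.nonDegenerate m' := ⟨f.app _ y', ha m' y' y'.2⟩
  have hm : m = m' :=
    V.unique_nonDegenerate_dim (f.app _ (U.map g.op y)) g z e1 g' z' (hxx'.trans e2)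
  subst hm
  have hz : z = z' :=
    V.unique_nonDegenerate_simplex _ g z e1 g' z' (hxx'.trans e2)
  have hg2 : g = g' := V.unique_nonDegenerate_map _ g z e1 g' z' (hxx'.trans e2)
  subst hg2
  have hy : y = y' := Subtype.ext (hb m y.2 y'.2 (congrArg Subtype.val hz))
  rw [hy]

theorem main6809 {U V : SSet.{u}} (f : U ⟶ V)
    (ha : ∀ (n : ℕ) (x : U.obj (op (SimplexCategory.mk n))), x ∈ U.nonDegenerate n →
      f.app (op (SimplexCategory.mk n)) x ∈ V.nonDegenerate n)
    (hb : ∀ n : ℕ, Set.SurjOn (f.app (op (SimplexCategory.mk n))) (U.nonDegenerate n)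
      (V.nonDegenerate n)) (n : ℕ) :
    Function.Surjective (f.app (op (SimplexCategory.mk n))) := by
  intro v
  obtain ⟨m, g, hg, z, rfl⟩ := V.exists_nonDegenerate v
  obtain ⟨y, hy, hyz⟩ := hb m z.2
  refine ⟨U.map g.op y, ?_⟩
  rw [← hyz]
  exact NatTrans.naturality_apply f g.op y

end SSetNonDegH4
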