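import Mathlib

set_option autoImplicit false

namespace Groth.Agent.Lib.STCIBound

theorem main (s t d g n : ℤ) (hs : 4 ≤ s) (hst : s ≤ t) (hd : 1 ≤ d) (hg : 0 ≤ g)
    (hn : s * t = d * n) (hn2 : 2 ≤ n)
    (hr : 3 * (d * (n * (s - 4) + t) + (2 - 2 * g) * n) ≤ s * (2 * s ^ 2 - 6 * s + 7) - 3) :
    d ≤ g + 3 := by
  by_contra hcon
  have hdg : g + 4 ≤ d := by omega
  have hd4 : 4 ≤ d := by linarith
  have hdn : d * n = s * t := hn.symm
  have hdns : d * n * s = s * t * s := by rw [hdn]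
  have h1 : (10 - 2*d) * n ≤ (2 - 2*g) * n :=
    mul_le_mul_of_nonneg_right (by linarith) (by linarith)
  have hstar : 3 * (s*t*(s-6) + d*t + 10*n) ≤ s * (2 * s ^ 2 - 6 * s + 7) - 3 := by
    nlinarith [h1, hr, hdn, hdns]
  have hc : 0 ≤ d*s*(s-6) + d^2 + 10*s := by
    nlinarith [sq_nonneg (2*d - 9), mul_nonneg (by linarith : (0:ℤ) ≤ d) (sq_nonneg (s-3))]
  have h3 : 3*s*(d*s*(s-6) + d^2 + 10*s) ≤ 3*t*(d*s*(s-6) + d^2 + 10*s) := by
    have := mul_le_mul_of_nonneg_right hst hc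
    nlinarith [this]
  have h4 : 3*t*(d*s*(s-6) + d^2 + 10*s) = d*(3*(s*t*(s-6) + d*t + 10*n)) := by
    linear_combination (-30 : ℤ) * hdn
  have h5 : d*(3*(s*t*(s-6) + d*t + 10*n)) ≤ d*(s * (2 * s ^ 2 - 6 * s + 7) - 3) :=
    mul_le_mul_of_nonneg_left hstar (by linarith)
  have hQ : 3*s*d^2 + d*(s^3 - 12*s^2 - 7*s + 3) + 30*s^2 ≤ 0 := by
    nlinarith [h3, h4, h5]
  by_cases h13 : 13 ≤ s
  · have hb : 0 ≤ s^3 - 12*s^2 - 7*s + 3 := by
      nlinarith [mul_nonneg (sq_nonneg s) (by linarith : (0:ℤ) ≤ s - 13),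
        mul_nonneg (by linarith : (0:ℤ) ≤ s) (by linarith : (0:ℤ) ≤ s - 7)]
    nlinarith [mul_nonneg (by linarith : (0:ℤ) ≤ d) hb,
      mul_nonneg (by linarith : (0:ℤ) ≤ s) (sq_nonneg d),
      mul_pos (by linarith : (0:ℤ) < s) (by linarith : (0:ℤ) < s)]
  · push_neg at h13
    by_cases h5' : 5 ≤ s
    · have hsq := sq_nonneg (6*s*d + (s^3 - 12*s^2 - 7*s + 3))
      interval_cases s <;> nlinarith [hsq, hQ]
    · obtain rfl : s = 4 := by omega
      have hQ' : 12*d^2 - 153*d + 480 ≤ 0 := by linarith [hQ]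
      have hstar' : 3 * (-8*t + d*t + 10*n) ≤ 57 := by linarith [hstar]
      have h6 : 6 ≤ d := by nlinarith [sq_nonneg (d-5)]
      have h7 : d ≤ 7 := by nlinarith [sq_nonneg (d-8)]
      obtain rfl | rfl : d = 6 ∨ d = 7 := by omega
      · omega
      · omega

end Groth.Agent.Lib.STCIBound
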