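import Mathlib

set_option autoImplicit false

namespace Groth.Agent.Lib.STCIPuzzle

theorem split20 {M : Type*} [AddCommMonoid M] (f : ℕ → M) :
    ∑ k ∈ Finset.range 20, f k = f 0 + f 1 + f 2 + ∑ k ∈ Finset.range 17, f (k + 3) := by
  have h3 : ∑ x ∈ Finset.range 3, f x = f 0 + f 1 + f 2 := by
    simp [Finset.sum_range_succ]
  rw [show (20 : ℕ) = 3 + 17 from rfl, Finset.sum_range_add, h3]
  congr 1 <;> exact Finset.sum_congr rfl fun x _ => by rw [add_comm]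

theorem arith (n a b c T : ℕ) (h10 : b ≤ a) (h21 : c ≤ b) (hTc : T ≤ 17 * c)
    (hS : a + b + c + T + n ≤ 19) (h1n : 5 * a + 2 * n ≤ 45)
    (h4n : 360 ≤ 15 * n + 30 * a + 10 * b + 5 * c + 3 * T) :
    n = 0 ∧ T = 0 ∧ (a = 9 ∧ b = 8 ∧ c = 2 ∨ a = 9 ∧ b = 9 ∧ c = 0 ∨ a = 9 ∧ b = 9 ∧ c = 1) := by
  have hn : n ≤ 19 := by omega
  have ha : a ≤ 9 := by omega
  interval_cases n <;> interval_cases a <;> omega

theorem main (p : ℕ → ℕ) (n : ℕ)
    (h1 : (p 0 : ℝ) ≤ 9 - (2 / 5 : ℝ) * n) (h2 : Antitone p)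
    (h3 : ∀ m : ℕ, ((∑ k ∈ Finset.range m, p k : ℕ) : ℝ) ≤ 19 - (n : ℝ))
    (h4 : (6 : ℝ) ≤ (n : ℝ) / 4 + ∑' k : ℕ, (p k : ℝ) / (((k : ℝ) + 1) * ((k : ℝ) + 2))) :
    n = 0 ∧ (p = (fun k => if k = 0 then 9 else if k = 1 then 8 else if k = 2 then 2 else 0)
      ∨ p = (fun k => if k = 0 then 9 else if k = 1 then 9 else 0)
      ∨ p = (fun k => if k = 0 then 9 else if k = 1 then 9 else if k = 2 then 1 else 0)) := by
  have hn0 : (0 : ℝ) ≤ n := Nat.cast_nonneg n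
  have hsupp : ∀ k, 20 ≤ k → p k = 0 := by
    intro k hk
    by_contra hne
    have h1k : 1 ≤ p k := Nat.one_le_iff_ne_zero.mpr hne
    have hge : ∀ j ∈ Finset.range 20, 1 ≤ p j := fun j hj =>
      le_trans h1k (h2 (by have := Finset.mem_range.mp hj; omega))
    have hsum : 20 ≤ ∑ j ∈ Finset.range 20, p j := by
      have := Finset.card_nsmul_le_sum (Finset.range 20) p 1 hge
      simpa using this
    have h3' := h3 20
    have : (20 : ℝ) ≤ ((∑ j ∈ Finset.range 20, p j : ℕ) : ℝ) := by exact_mod_cast hsum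
    linarith
  obtain ⟨T, hT⟩ : ∃ T : ℕ, T = ∑ k ∈ Finset.range 17, p (k + 3) := ⟨_, rfl⟩
  have hS : p 0 + p 1 + p 2 + T + n ≤ 19 := by
    have h := h3 20
    rw [split20 p, ← hT] at h
    have : ((p 0 + p 1 + p 2 + T + n : ℕ) : ℝ) ≤ 19 := by
      push_cast; push_cast at h; linarith
    exact_mod_cast this
  have hTc : T ≤ 17 * p 2 := by
    rw [hT]
    have := Finset.sum_le_card_nsmul (Finset.range 17) (fun k => p (k + 3)) (p 2)
      (fun k _ => h2 (by omega))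
    simpa using this
  have hts : ∑' k : ℕ, (p k : ℝ) / (((k : ℝ) + 1) * ((k : ℝ) + 2))
      = ∑ k ∈ Finset.range 20, (p k : ℝ) / (((k : ℝ) + 1) * ((k : ℝ) + 2)) := by
    apply tsum_eq_sum
    intro k hk
    rw [hsupp k (by simpa using hk)]
    simp
  rw [hts, split20] at h4
  have htail : ∑ k ∈ Finset.range 17,
      (p (k + 3) : ℝ) / ((((k + 3 : ℕ) : ℝ) + 1) * (((k + 3 : ℕ) : ℝ) + 2)) ≤ (T : ℝ) / 20 := by
    rw [hT, Nat.cast_sum, Finset.sum_div]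
    refine Finset.sum_le_sum fun k _ => ?_
    apply div_le_div_of_nonneg_left (Nat.cast_nonneg _) (by norm_num)
    push_cast
    have : (0 : ℝ) ≤ k := Nat.cast_nonneg k
    nlinarith
  have e0 : (p 0 : ℝ) / ((((0 : ℕ) : ℝ) + 1) * (((0 : ℕ) : ℝ) + 2)) = (p 0 : ℝ) / 2 := by norm_num
  have e1 : (p 1 : ℝ) / ((((1 : ℕ) : ℝ) + 1) * (((1 : ℕ) : ℝ) + 2)) = (p 1 : ℝ) / 6 := by norm_num
  have e2 : (p 2 : ℝ) / ((((2 : ℕ) : ℝ) + 1) * (((2 : ℕ) : ℝ) + 2)) = (p 2 : ℝ) / 12 := by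
    norm_num
  rw [e0, e1, e2] at h4
  have h4' : (360 : ℝ) ≤ 15 * n + 30 * p 0 + 10 * p 1 + 5 * p 2 + 3 * T := by
    linarith [htail]
  have h4n : 360 ≤ 15 * n + 30 * p 0 + 10 * p 1 + 5 * p 2 + 3 * T := by exact_mod_cast h4'
  have h1n : 5 * p 0 + 2 * n ≤ 45 := by
    have : ((5 * p 0 + 2 * n : ℕ) : ℝ) ≤ 45 := by push_cast; linarith
    exact_mod_cast this
  have h10 : p 1 ≤ p 0 := h2 (by norm_num)
  have h21 : p 2 ≤ p 1 := h2 (by norm_num)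
  have key : n = 0 ∧ T = 0 ∧ (p 0 = 9 ∧ p 1 = 8 ∧ p 2 = 2 ∨ p 0 = 9 ∧ p 1 = 9 ∧ p 2 = 0 ∨
      p 0 = 9 ∧ p 1 = 9 ∧ p 2 = 1) := arith n (p 0) (p 1) (p 2) T h10 h21 hTc hS h1n h4n
  obtain ⟨hn, hT0, hcases⟩ := key
  have hz : ∑ k ∈ Finset.range 17, p (k + 3) = 0 := by rw [← hT]; exact hT0
  have hfin : ∀ k, 3 ≤ k → p k = 0 := by
    intro k hk
    by_cases hk20 : 20 ≤ k
    · exact hsupp k hk20
    · have h := Finset.sum_eq_zero_iff.mp hz (k - 3) (Finset.mem_range.mpr (by omega))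
      have hk3 : k - 3 + 3 = k := by omega
      rwa [hk3] at h
  have fn3 : ∀ (a b c : ℕ), p 0 = a → p 1 = b → p 2 = c →
      p = fun k => if k = 0 then a else if k = 1 then b else if k = 2 then c else 0 := by
    intro a b c ha hb hc
    funext k
    show p k = if k = 0 then a else if k = 1 then b else if k = 2 then c else 0
    by_cases h0 : k = 0
    · subst h0; rw [if_pos rfl, ha]
    by_cases h1' : k = 1
    · subst h1'; rw [if_neg h0, if_pos rfl, hb]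
    by_cases h2' : k = 2
    · subst h2'; rw [if_neg h0, if_neg h1', if_pos rfl, hc]
    rw [if_neg h0, if_neg h1', if_neg h2']
    exact hfin k (by omega)
  refine ⟨hn, ?_⟩
  rcases hcases with ⟨a, b, c⟩ | ⟨a, b, c⟩ | ⟨a, b, c⟩
  · exact Or.inl (fn3 9 8 2 a b c)
  · refine Or.inr (Or.inl ?_)
    rw [fn3 9 9 0 a b c]
    funext k
    simp only [ite_self]
  · exact Or.inr (Or.inr (fn3 9 9 1 a b c))

end Groth.Agent.Lib.STCIPuzzle
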