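import Mathlib
import Groth.Agent.Lib.SV1_helper6

/-!
# Vanishing of local cohomology of stalks goes down along covers, II (helper6)
-/

set_option autoImplicit false
set_option linter.style.haveILetI false
set_option linter.unusedSectionVars false
set_option linter.unusedVariables false
universe u
open CategoryTheory CategoryTheory.Limits DerivedCategory Pretriangulated
open scoped TensorProduct

attribute [local instance] HasDerivedCategory.standard

namespace Groth.Agent.Lib.StalkVan

open Groth.Agent.Lib.DMod_helper6 DRing Groth.Agent.ExtendScalarsLib Groth.Agent.Lib.FlatHom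
  Groth.Agent.Lib.FaltT

section Local

variable {B : Type u} [CommRing B] [IsNoetherianRing B] [IsLocalRing B]

/-- over a local ring `B` with a dualizing complex: if `H^{j+1}_m(N) = 0` then for every prime
`P ⋖ m` every element of `H^j_P(N)` is killed by an element outside `P` -/
theorem killsAt_of_subsingleton_H (hB : ∃ ω : Dual.D B, Dual.IsDualizing B ω)
    (N : Type u) [AddCommGroup N] [Module B N] [Module.Finite B N] (j : ℕ)
    (h : Subsingleton (LocCoh.H (IsLocalRing.maximalIdeal B) (j + 1) N))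
    (P : PrimeSpectrum B) (hP : P ⋖ IsLocalRing.closedPoint B) :
    ∀ y : Dual2.HDI B P.asIdeal (Dual.inD B N) (j : ℤ), ∃ t : B, t ∉ P.asIdeal ∧ t • y = 0 := by
  obtain ⟨ω, hω⟩ := hB
  obtain ⟨ν, hν, hmono, hcov, -⟩ := exists_normalizing_function ω hω
  have hb : ∃ b : ℤ, ∀ i : ℤ, b < i → Subsingleton (Dual.HD B (Dual.inD B N) i) :=
    ⟨0, fun i hi => ModuleCat.subsingleton_of_isZero (isZero_HD_inD _ i (by omega))⟩
  have hfin := finite_HD_inD (A := B) N
  have hνPQ := hcov P (IsLocalRing.closedPoint B) hP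
  -- at the closed point
  obtain ⟨e0⟩ := hdi_inD_equiv_locCoh (IsLocalRing.maximalIdeal B) N (j + 1)
  haveI : Subsingleton (Dual2.HDI B (IsLocalRing.closedPoint B).asIdeal (Dual.inD B N)
      ((j + 1 : ℕ) : ℤ)) := e0.toEquiv.subsingleton
  have h1 := (killsAt_hom_iff_killsAt_hdi ω hω (IsLocalRing.closedPoint B)
    (ν (IsLocalRing.closedPoint B)) (hν _) (Dual.inD B N) hb hfin ((j + 1 : ℕ) : ℤ) 1).2
    (fun y => ⟨1, fun h1 => (IsLocalRing.closedPoint B).2.ne_top ((Ideal.eq_top_iff_one _).2 h1),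
      by rw [Subsingleton.elim y 0, smul_zero]⟩)
  have h2 : ∀ n : ℤ, n = ν (IsLocalRing.closedPoint B) - ((j + 1 : ℕ) : ℤ) →
      ∀ g : Dual.inD B N ⟶ ω⟦n⟧, ∃ t : B, t ∉ P.asIdeal ∧ (t * 1) • g = 0 := by
    rintro n rfl g
    obtain ⟨t, ht, htg⟩ := h1 g
    exact ⟨t, fun htP => ht (hP.1.le htP), htg⟩
  intro y
  obtain ⟨t, ht, hty⟩ := (killsAt_hom_iff_killsAt_hdi ω hω P (ν P) (hν P) (Dual.inD B N) hb hfin
    (j : ℤ) 1).1 (h2 _ (by push_cast; omega)) y
  exact ⟨t, ht, by rwa [mul_one] at hty⟩

end Local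

variable {A : Type u} [CommRing A] [IsNoetherianRing A]

/-- **Going down for vanishing.** -/
theorem subsingleton_H_of_covBy (p p₁ : PrimeSpectrum A) (hcov : p ⋖ p₁)
    (hdual : ∃ ω : Dual.D (Localization.AtPrime p₁.asIdeal),
      Dual.IsDualizing (Localization.AtPrime p₁.asIdeal) ω)
    (M : Type u) [AddCommGroup M] [Module A M] [Module.Finite A M] (j : ℕ)
    (h : Subsingleton (LocCoh.H (IsLocalRing.maximalIdeal (Localization.AtPrime p₁.asIdeal))
      (j + 1) (LocalizedModule p₁.asIdeal.primeCompl M))) :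
    Subsingleton (LocCoh.H (IsLocalRing.maximalIdeal (Localization.AtPrime p.asIdeal)) j
      (LocalizedModule p.asIdeal.primeCompl M)) := by
  haveI := isNoetherianRing_atPrime p₁.asIdeal
  have hpp₁ : p ≤ p₁ := hcov.1.le
  have hdisj : Disjoint (p₁.asIdeal.primeCompl : Set A) (p.asIdeal : Set A) := by
    rw [Set.disjoint_left]
    intro x hx hxp
    exact hx (hpp₁ hxp)
  let P : PrimeSpectrum (Localization.AtPrime p₁.asIdeal) :=
    ⟨p.asIdeal.map (algebraMap A (Localization.AtPrime p₁.asIdeal)),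
      IsLocalization.isPrime_of_isPrime_disjoint p₁.asIdeal.primeCompl _ _ p.2 hdisj⟩
  have hcomapP : P.asIdeal.comap (algebraMap A (Localization.AtPrime p₁.asIdeal)) = p.asIdeal :=
    IsLocalization.comap_map_of_isPrime_disjoint p₁.asIdeal.primeCompl _ p.2 hdisj
  have hcomapQ : (IsLocalRing.closedPoint (Localization.AtPrime p₁.asIdeal)).asIdeal.comap
      (algebraMap A (Localization.AtPrime p₁.asIdeal)) = p₁.asIdeal :=
    IsLocalization.AtPrime.comap_maximalIdeal (Localization.AtPrime p₁.asIdeal) p₁.asIdeal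
  have hcomap_inj : ∀ Q₁ Q₂ : PrimeSpectrum (Localization.AtPrime p₁.asIdeal),
      Q₁.asIdeal.comap (algebraMap A (Localization.AtPrime p₁.asIdeal)) =
        Q₂.asIdeal.comap (algebraMap A (Localization.AtPrime p₁.asIdeal)) → Q₁ = Q₂ := by
    intro Q₁ Q₂ h12
    apply PrimeSpectrum.ext
    rw [← IsLocalization.map_comap p₁.asIdeal.primeCompl (Localization.AtPrime p₁.asIdeal)
      Q₁.asIdeal, ← IsLocalization.map_comap p₁.asIdeal.primeCompl
      (Localization.AtPrime p₁.asIdeal) Q₂.asIdeal]
    show Ideal.map _ (Ideal.comap _ Q₁.asIdeal) = Ideal.map _ (Ideal.comap _ Q₂.asIdeal)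
    rw [h12]
  have hPQ : P ⋖ IsLocalRing.closedPoint (Localization.AtPrime p₁.asIdeal) := by
    constructor
    · refine lt_of_le_of_ne (IsLocalRing.le_maximalIdeal P.2.ne_top) (fun heq => ?_)
      have : p.asIdeal = p₁.asIdeal := hcomapP.symm.trans ((congrArg
        (fun Q : PrimeSpectrum (Localization.AtPrime p₁.asIdeal) =>
          Q.asIdeal.comap (algebraMap A (Localization.AtPrime p₁.asIdeal))) heq).trans hcomapQ)
      exact hcov.1.ne (PrimeSpectrum.ext this)
    · intro Q' h1 h2
      let q' : PrimeSpectrum A := ⟨Q'.asIdeal.comap (algebraMap A _), inferInstance⟩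
      have hpq' : p < q' := by
        refine lt_of_le_of_ne ?_ ?_
        · show p.asIdeal ≤ Q'.asIdeal.comap _
          exact le_of_eq_of_le hcomapP.symm (Ideal.comap_mono h1.le)
        · intro heq
          have : P = Q' := hcomap_inj P Q' (hcomapP.trans (congrArg (·.asIdeal) heq))
          exact h1.ne this
      have hq'p₁ : q' < p₁ := by
        refine lt_of_le_of_ne ?_ ?_
        · show Q'.asIdeal.comap _ ≤ p₁.asIdeal
          exact le_of_le_of_eq (Ideal.comap_mono h2.le) hcomapQ
        · intro heq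
          have : Q' = IsLocalRing.closedPoint (Localization.AtPrime p₁.asIdeal) :=
            hcomap_inj Q' _ ((congrArg (·.asIdeal) heq).trans hcomapQ.symm)
          exact h2.ne this
      exact hcov.2 hpq' hq'p₁
  have hY := killsAt_of_subsingleton_H hdual (LocalizedModule p₁.asIdeal.primeCompl M) j h P hPQ
  rw [subsingleton_H_atPrime_iff]
  exact killsAt_of_killsAt_localization p p₁ hpp₁ M (j : ℤ) P rfl hY

end Groth.Agent.Lib.StalkVan
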