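import Mathlib
import Groth.Agent.Lib.SV2_helper6
import Groth.Agent.Lib.RelCodim_helper6
import Groth.Agent.Lib.DualExist1_helper2

/-!
# The stalk vanishing criterion reduces to codimension one: S5164 (helper6)
-/

set_option autoImplicit false
set_option linter.style.haveILetI false
set_option linter.unusedSectionVars false
set_option linter.unusedVariables false
universe u
open CategoryTheory CategoryTheory.Limits DerivedCategory Pretriangulated
open scoped TensorProduct

attribute [local instance] HasDerivedCategory.standard

namespace Groth.Agent.Lib.StalkVan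

open Groth.Agent.Lib.RelCodim_helper6

variable {A : Type u} [CommRing A] [IsNoetherianRing A]

/-- localizations of quotients of regular rings have dualizing complexes -/
theorem exists_dualizing_atPrime (R : Type u) [CommRing R] [IsRegularRing R] (π : R →+* A)
    (hπ : Function.Surjective π) (q : PrimeSpectrum A) :
    ∃ ω : Dual.D (Localization.AtPrime q.asIdeal),
      Dual.IsDualizing (Localization.AtPrime q.asIdeal) ω := by
  haveI : IsNoetherianRing (Localization.AtPrime q.asIdeal) :=
    IsLocalization.isNoetherianRing q.asIdeal.primeCompl _ inferInstance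
  haveI : IsRegularLocalRing (Localization.AtPrime (q.asIdeal.comap π)) :=
    IsRegularRing.isRegularLocalRing_localization _
  have hφ : Function.Surjective (Localization.localRingHom (q.asIdeal.comap π) q.asIdeal π rfl) :=
    RingHom.surjective_localRingHom_of_surjective π hπ q.asIdeal
  letI : Algebra (Localization.AtPrime (q.asIdeal.comap π)) (Localization.AtPrime q.asIdeal) :=
    (Localization.localRingHom (q.asIdeal.comap π) q.asIdeal π rfl).toAlgebra
  haveI : Module.Finite (Localization.AtPrime (q.asIdeal.comap π))
      (Localization.AtPrime q.asIdeal) :=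
    Module.Finite.of_surjective (Algebra.linearMap _ _) hφ
  exact Groth.Agent.Lib.DualExist.exists_dualizing_of_finite
    (Localization.AtPrime (q.asIdeal.comap π)) (Localization.AtPrime q.asIdeal) _
    (Groth.Agent.Lib.DualExist.isDualizing_self_of_isRegularLocalRing
      (Localization.AtPrime (q.asIdeal.comap π)))

section Chain

variable (hdual : ∀ q : PrimeSpectrum A, ∃ ω : Dual.D (Localization.AtPrime q.asIdeal),
  Dual.IsDualizing (Localization.AtPrime q.asIdeal) ω)
  (M : Type u) [AddCommGroup M] [Module A M] [Module.Finite A M]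

include hdual in
/-- going down along a saturated chain of length `n` -/
theorem subsingleton_H_of_height (p : PrimeSpectrum A) :
    ∀ (n : ℕ) (x : Set.Ici p), Order.height x = n → ∀ j : ℕ,
      Subsingleton (LocCoh.H (IsLocalRing.maximalIdeal (Localization.AtPrime x.1.asIdeal))
        (j + n) (LocalizedModule x.1.asIdeal.primeCompl M)) →
      Subsingleton (LocCoh.H (IsLocalRing.maximalIdeal (Localization.AtPrime p.asIdeal)) j
        (LocalizedModule p.asIdeal.primeCompl M)) := by
  intro n
  induction n with
  | zero =>
    intro x hx j h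
    have hmin : IsMin x := Order.height_eq_zero.1 (by exact_mod_cast hx)
    have hxp : x = ⟨p, Set.mem_Ici.2 le_rfl⟩ :=
      le_antisymm (hmin (b := ⟨p, Set.mem_Ici.2 le_rfl⟩) x.2) x.2
    subst hxp
    exact h
  | succ n ih =>
    intro x hx j h
    have hfin : Order.height x < ⊤ := by rw [hx]; exact ENat.natCast_lt_top _
    obtain ⟨y, hyx, hy⟩ := (Order.coe_lt_height_iff (n := n) hfin).1 (by
      rw [hx]; exact_mod_cast Nat.lt_succ_self n)
    have hcov : y.1 ⋖ x.1 := by
      refine ⟨hyx, fun r hyr hrx => ?_⟩
      let r' : Set.Ici p := ⟨r, le_trans y.2 hyr.le⟩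
      have h1 : Order.height y < Order.height r' :=
        Order.height_strictMono (show y < r' from hyr) (by rw [hy]; exact ENat.natCast_lt_top _)
      have h2 : Order.height r' < Order.height x :=
        Order.height_strictMono (show r' < x from hrx) (lt_of_lt_of_le
          (Order.height_strictMono (show r' < x from hrx)
            (lt_of_le_of_lt (Order.height_mono (show r' ≤ x from hrx.le)) hfin)) le_top)
      rw [hy] at h1
      rw [hx] at h2
      have h3 : ((n : ℕ) : ℕ∞) + 1 ≤ Order.height r' := Order.add_one_le_of_lt h1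
      have h4 : Order.height r' < ((n + 1 : ℕ) : ℕ∞) := h2
      rw [Nat.cast_add, Nat.cast_one] at h4
      exact absurd (lt_of_le_of_lt h3 h4) (lt_irrefl _)
    have h' := subsingleton_H_of_covBy y.1 x.1 hcov (hdual x.1) M (j + n) (by
      rw [add_assoc]; exact h)
    exact ih y hy j h'

end Chain

/-- S5164 -/
theorem S5164_main (R : Type u) [CommRing R] [IsRegularRing R] (π : R →+* A)
    (hπ : Function.Surjective π) (I : Ideal A) (M : Type u) [AddCommGroup M] [Module A M]
    [Module.Finite A M] (i : ℕ) :
    (∀ p : PrimeSpectrum A, ¬ I ≤ p.asIdeal → ∀ (c j : ℕ), SGA2.relCodim I p = c → j + c = i →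
      Subsingleton (LocCoh.H (IsLocalRing.maximalIdeal (Localization.AtPrime p.asIdeal)) j
        (LocalizedModule p.asIdeal.primeCompl M))) ↔
    (∀ p : PrimeSpectrum A, ¬ I ≤ p.asIdeal → SGA2.relCodim I p = 1 → ∀ j : ℕ, j + 1 = i →
      Subsingleton (LocCoh.H (IsLocalRing.maximalIdeal (Localization.AtPrime p.asIdeal)) j
        (LocalizedModule p.asIdeal.primeCompl M))) := by
  have hdual := fun q : PrimeSpectrum A => exists_dualizing_atPrime R π hπ q
  constructor
  · intro h p hp hc j hj
    exact h p hp 1 j (by rw [hc]; rfl) hj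
  · intro h p hp c j hc hj
    -- `c ≥ 1`
    have hc1 : 1 ≤ c := by
      have := one_le_relCodim I p hp
      rw [hc] at this
      exact_mod_cast this
    obtain ⟨q, hpq, hIq, hq⟩ := exists_height_eq_relCodim I p (by rw [hc]; exact ENat.natCast_ne_top c)
    rw [hc] at hq
    have hfin : Order.height (⟨q, hpq⟩ : Set.Ici p) < ⊤ := by rw [hq]; exact ENat.natCast_lt_top _
    obtain ⟨y, hyq, hy⟩ := (Order.coe_lt_height_iff (n := c - 1) hfin).1 (by
      rw [hq]; exact_mod_cast Nat.sub_lt hc1 Nat.one_pos)
    -- `I ⊄ y`
    have hIy : ¬ I ≤ y.1.asIdeal := by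
      intro hIy
      have h1 := relCodim_le I p y.1 y.2 hIy
      rw [hc, hy] at h1
      have : c ≤ c - 1 := by exact_mod_cast h1
      omega
    -- `y ⋖ q`
    have hcov : ∀ r : PrimeSpectrum A, y.1 < r → r < q → False := by
      intro r hyr hrq
      let r' : Set.Ici p := ⟨r, le_trans y.2 hyr.le⟩
      have h1 : Order.height y < Order.height r' :=
        Order.height_strictMono (show y < r' from hyr) (by rw [hy]; exact ENat.natCast_lt_top _)
      have h2 : Order.height r' < Order.height (⟨q, hpq⟩ : Set.Ici p) :=
        Order.height_strictMono (show r' < ⟨q, hpq⟩ from hrq)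
          (lt_of_le_of_lt (Order.height_mono (show r' ≤ ⟨q, hpq⟩ from hrq.le)) hfin)
      rw [hy] at h1
      rw [hq] at h2
      have h3 : ((c - 1 : ℕ) : ℕ∞) + 1 ≤ Order.height r' := Order.add_one_le_of_lt h1
      have h5 : ((c - 1 : ℕ) : ℕ∞) + 1 = (c : ℕ∞) := by
        have : c - 1 + 1 = c := by omega
        exact_mod_cast this
      rw [h5] at h3
      exact absurd (lt_of_le_of_lt h3 h2) (lt_irrefl _)
    -- `c(y) = 1`
    have hyq' : y.1 ≤ q := (show y ≤ ⟨q, hpq⟩ from hyq.le)
    have hcy : SGA2.relCodim I y.1 = 1 := by
      apply le_antisymm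
      · refine le_trans (relCodim_le I y.1 q hyq' hIq) ?_
        have : Order.height (⟨q, hyq'⟩ : Set.Ici y.1) ≤ ((1 : ℕ) : ℕ∞) := by
          rw [Order.height_le_coe_iff]
          intro b hb
          have hb1 : y.1 ≤ b.1 := b.2
          have hb2 : b.1 < q := hb
          have hby : b.1 = y.1 := by
            by_contra hne
            exact hcov b.1 (lt_of_le_of_ne hb1 (fun h => hne h.symm)) hb2
          have hbmin : IsMin b := by
            intro b' hb'
            have : y.1 ≤ b'.1 := b'.2
            show b.1 ≤ b'.1
            rw [hby]; exact this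
          rw [Order.height_eq_zero.2 hbmin]
          exact_mod_cast Nat.one_pos
        exact_mod_cast this
      · exact one_le_relCodim I y.1 hIy
    have hj' : (j + (c - 1)) + 1 = i := by omega
    have h0 := h y.1 hIy hcy (j + (c - 1)) hj'
    exact subsingleton_H_of_height hdual M p (c - 1) y hy j h0

end Groth.Agent.Lib.StalkVan
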