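import Mathlib
import Groth.Prelude
import Groth.Agent.Lib.GrModSect_helper1

/-!
# Quotient of a graded module by a homogeneous submodule (helper2)

`quotGr 𝒢 N i` is the image of `𝒢 i` in `P ⧸ N`; for a homogeneous `N` this is a grading
(`quotDecomposition`).  APPEND-ONLY once landed.
-/

set_option autoImplicit false
universe u
open DirectSum

namespace Groth.Agent.Lib.SatQH2

section Quot
variable {R A : Type u} [CommRing R] [CommRing A] [Algebra R A] (𝒜 : ℕ → Submodule R A)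
  [GradedAlgebra 𝒜]
variable {P : Type u} [AddCommGroup P] [Module R P] [Module A P] [IsScalarTower R A P]
  (𝒢 : ℕ → Submodule R P)
variable (N : Submodule A P)

/-- The induced grading on the quotient. -/
def quotGr (i : ℕ) : Submodule R (P ⧸ N) := (𝒢 i).map (N.mkQ.restrictScalars R)

theorem mem_quotGr {i : ℕ} {q : P ⧸ N} : q ∈ quotGr 𝒢 N i ↔ ∃ p ∈ 𝒢 i, N.mkQ p = q := by
  unfold quotGr
  rw [Submodule.mem_map]
  rfl

theorem mkQ_mem_quotGr {i : ℕ} {p : P} (hp : p ∈ 𝒢 i) : N.mkQ p ∈ quotGr 𝒢 N i :=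
  (mem_quotGr 𝒢 N).mpr ⟨p, hp, rfl⟩

instance quotGr_gradedSMul [SetLike.GradedSMul 𝒜 𝒢] : SetLike.GradedSMul 𝒜 (quotGr 𝒢 N) where
  smul_mem := by
    intro i j a q ha hq
    obtain ⟨p, hp, rfl⟩ := (mem_quotGr 𝒢 N).mp hq
    refine (mem_quotGr 𝒢 N).mpr ⟨a • p, SetLike.GradedSMul.smul_mem ha hp, ?_⟩
    rw [map_smul]

/-- The componentwise quotient map. -/
def qmap (i : ℕ) : 𝒢 i →+ quotGr 𝒢 N i where
  toFun p := ⟨N.mkQ p.1, mkQ_mem_quotGr 𝒢 N p.2⟩
  map_zero' := by
    apply Subtype.ext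
    show N.mkQ ((0 : 𝒢 i) : P) = 0
    rw [ZeroMemClass.coe_zero, map_zero]
  map_add' a b := by
    apply Subtype.ext
    show N.mkQ ((a + b : 𝒢 i) : P) = N.mkQ a.1 + N.mkQ b.1
    rw [AddMemClass.coe_add, map_add]

variable [DirectSum.Decomposition 𝒢]

/-- Decomposition of a representative. -/
noncomputable def decQ₀ : P →+ ⨁ i, quotGr 𝒢 N i :=
  (DirectSum.map (fun i => qmap 𝒢 N i)).comp (DirectSum.decomposeAddEquiv 𝒢).toAddMonoidHom

theorem decQ₀_apply (p : P) (i : ℕ) :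
    ((decQ₀ 𝒢 N p) i : P ⧸ N) = N.mkQ (DirectSum.decompose 𝒢 p i : P) := by
  unfold decQ₀
  rw [AddMonoidHom.comp_apply, DirectSum.map_apply]
  rfl

theorem coe_map (x : ⨁ i, 𝒢 i) :
    DirectSum.coeAddMonoidHom (quotGr 𝒢 N) (DirectSum.map (fun i => qmap 𝒢 N i) x) =
      N.mkQ (DirectSum.coeAddMonoidHom 𝒢 x) := by
  induction x using DirectSum.induction_on with
  | zero => simp
  | of i x =>
    rw [DirectSum.map_of, DirectSum.coeAddMonoidHom_of, DirectSum.coeAddMonoidHom_of]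
    rfl
  | add x y hx hy => rw [map_add, map_add, map_add, map_add, hx, hy]

theorem coe_decQ₀ (p : P) :
    DirectSum.coeAddMonoidHom (quotGr 𝒢 N) (decQ₀ 𝒢 N p) = N.mkQ p := by
  unfold decQ₀
  rw [AddMonoidHom.comp_apply, coe_map]
  congr 1
  exact DirectSum.Decomposition.left_inv p

variable (hN : ∀ p ∈ N, ∀ i : ℕ, (DirectSum.decompose 𝒢 p i : P) ∈ N)
include hN

theorem decQ₀_eq_zero_of_mem {p : P} (hp : p ∈ N) : decQ₀ 𝒢 N p = 0 := by
  apply DFinsupp.ext
  intro i
  apply Subtype.ext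
  rw [decQ₀_apply]
  show N.mkQ _ = ((0 : quotGr 𝒢 N i) : P ⧸ N)
  rw [ZeroMemClass.coe_zero, Submodule.mkQ_apply, Submodule.Quotient.mk_eq_zero]
  exact hN p hp i

/-- The decomposition map of the quotient. -/
noncomputable def decQ (q : P ⧸ N) : ⨁ i, quotGr 𝒢 N i :=
  decQ₀ 𝒢 N (Classical.choose (N.mkQ_surjective q))

omit hN in
theorem decQ_def (q : P ⧸ N) :
    decQ 𝒢 N q = decQ₀ 𝒢 N (Classical.choose (N.mkQ_surjective q)) := rfl

theorem decQ_mk (p : P) : decQ 𝒢 N (N.mkQ p) = decQ₀ 𝒢 N p := by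
  rw [decQ_def]
  have h := Classical.choose_spec (N.mkQ_surjective (N.mkQ p))
  set p' := Classical.choose (N.mkQ_surjective (N.mkQ p)) with hp'
  have hmem : p' - p ∈ N := by
    rw [← Submodule.Quotient.mk_eq_zero, Submodule.Quotient.mk_sub]
    have h' : Submodule.Quotient.mk p' = (Submodule.Quotient.mk p : P ⧸ N) := h
    rw [h', sub_self]
  have h0 := decQ₀_eq_zero_of_mem 𝒢 N hN hmem
  rw [map_sub, sub_eq_zero] at h0
  exact h0

theorem decQ_add (a b : P ⧸ N) : decQ 𝒢 N (a + b) = decQ 𝒢 N a + decQ 𝒢 N b := by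
  obtain ⟨p, rfl⟩ := N.mkQ_surjective a
  obtain ⟨p', rfl⟩ := N.mkQ_surjective b
  rw [← map_add, decQ_mk 𝒢 N hN, decQ_mk 𝒢 N hN, decQ_mk 𝒢 N hN, map_add]

/-- **The quotient of a graded module by a homogeneous submodule is graded.** -/
@[reducible] noncomputable def quotDecomposition : DirectSum.Decomposition (quotGr 𝒢 N) where
  decompose' := decQ 𝒢 N
  left_inv := by
    intro q
    obtain ⟨p, rfl⟩ := N.mkQ_surjective q
    rw [decQ_mk 𝒢 N hN, coe_decQ₀]
  right_inv := by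
    intro y
    induction y using DirectSum.induction_on with
    | zero =>
      rw [map_zero]
      have := decQ_mk 𝒢 N hN 0
      rw [map_zero, map_zero] at this
      exact this
    | of i x =>
      obtain ⟨q, hq⟩ := x
      obtain ⟨p, hp, rfl⟩ := (mem_quotGr 𝒢 N).mp hq
      rw [DirectSum.coeAddMonoidHom_of]
      show decQ 𝒢 N (N.mkQ p) = _
      rw [decQ_mk 𝒢 N hN]
      unfold decQ₀
      rw [AddMonoidHom.comp_apply]
      have h1 : (DirectSum.decomposeAddEquiv 𝒢).toAddMonoidHom p =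
          DirectSum.of (fun i => 𝒢 i) i ⟨p, hp⟩ := DirectSum.decompose_of_mem 𝒢 hp
      rw [h1, DirectSum.map_of]
      rfl
    | add x y hx hy =>
      rw [map_add, decQ_add 𝒢 N hN, hx, hy]

omit hN in
/-- Homogeneous components of a homogeneous multiple. -/
theorem decompose_smul_homog [SetLike.GradedSMul 𝒜 𝒢] {j : ℕ} {a : A} (ha : a ∈ 𝒜 j) (z : P)
    (i : ℕ) :
    (DirectSum.decompose 𝒢 (a • z) i : P) =
      if j ≤ i then a • (DirectSum.decompose 𝒢 z (i - j) : P) else 0 := by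
  induction z using DirectSum.Decomposition.inductionOn 𝒢 with
  | zero => simp
  | @homogeneous l z' =>
    have hmem : a • (z' : P) ∈ 𝒢 (j + l) := by
      simpa [vadd_eq_add] using SetLike.GradedSMul.smul_mem (A := 𝒜) (B := 𝒢) ha z'.2
    by_cases hl : j + l = i
    · subst hl
      rw [DirectSum.decompose_of_mem_same 𝒢 hmem, if_pos (Nat.le_add_right _ _),
        Nat.add_sub_cancel_left, DirectSum.decompose_of_mem_same 𝒢 z'.2]
    · rw [DirectSum.decompose_of_mem_ne 𝒢 hmem hl]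
      split_ifs with hji
      · rw [DirectSum.decompose_of_mem_ne 𝒢 z'.2 (by omega), smul_zero]
      · rfl
  | add x y hx hy =>
    rw [smul_add, DirectSum.decompose_add, DirectSum.add_apply, AddMemClass.coe_add, hx, hy]
    split_ifs
    · rw [DirectSum.decompose_add, DirectSum.add_apply, AddMemClass.coe_add, smul_add]
    · rw [add_zero]

end Quot

end Groth.Agent.Lib.SatQH2
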