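import Mathlib
import Groth.Prelude
import Groth.Agent.Lib.SatQ1_helper2
import Groth.Agent.Lib.SatQ2_helper2
import Groth.Agent.Lib.GlobGen_helper9
import Groth.Agent.Lib.GlueHom_helper7
import Groth.Agent.Lib.GrTwUnit_helper5
import Groth.Agent.Lib.QCohExact_helper9
import Groth.Agent.Lib.QCohCrit2_helper9
import Groth.Agent.Lib.Tens30_helper8

/-!
# The saturated kernel of `π : P~ ⟶ F` on `Proj` and `(P/N)~ ≅ F` (helper2)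

For a graded module `P` over a graded ring `A` and an epimorphism `π : P~ ⟶ F` onto a
quasi-coherent module on `Proj A` (covered by finitely many `D_+(f)`, `f` of a fixed degree), the
graded submodule `N = satN` of the homogeneous `p` all of whose fractions `g p / h^k` are killed by
`π` satisfies `(P/N)~ ≅ F` (`exists_iso`).  APPEND-ONLY once landed.
-/

set_option autoImplicit false
universe u
open CategoryTheory CategoryTheory.Limits AlgebraicGeometry TopologicalSpace Opposite DirectSum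
open HomogeneousLocalization

namespace Groth.Agent.Lib.SatQH2

open Groth.Agent.GrTi Groth.Agent.GrTw QcqsLoc QCohExtn Groth.Agent.Lib.GrModSectH1

section Core
variable {R A : Type u} [CommRing R] [CommRing A] [Algebra R A] (𝒜 : ℕ → Submodule R A)
  [GradedAlgebra 𝒜]
variable {P : Type u} [AddCommGroup P] [Module R P] [Module A P] [IsScalarTower R A P]
  (𝒢 : ℕ → Submodule R P) [DirectSum.Decomposition 𝒢] [SetLike.GradedSMul 𝒜 𝒢]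
variable {F : (Proj 𝒜).Modules} (π : GrMod.tilde 𝒜 𝒢 0 ⟶ F)

/-- All fractions `g p / h^k` of the element `p` (homogeneous of degree `i`) are killed by `π`. -/
def Kil (i : ℕ) (p : P) : Prop :=
  ∀ (e : ℕ) (_ : 0 < e) (h : A) (hh : h ∈ 𝒜 e) (k l : ℕ) (g : A) (_ : g ∈ 𝒜 l)
    (hx : g • p ∈ 𝒢 (l + i)) (hj : ((l + i : ℕ) : ℤ) = ((k • e : ℕ) : ℤ) + 0),
    ap π (Proj.basicOpen 𝒜 h) (fracSecM 𝒜 𝒢 hh 0 k (l + i) (g • p) hx hj) = 0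

theorem kil_zero (i : ℕ) : Kil 𝒜 𝒢 π i 0 := by
  intro e he h hh k l g hg hx hj
  rw [fs_congr 𝒜 𝒢 hh 0 hx (zero_mem _) hj hj rfl rfl (smul_zero g), fs_zero, map_zero]

variable {𝒜 𝒢 π} in
theorem kil_add {i : ℕ} {p q : P} (hp : p ∈ 𝒢 i) (hq : q ∈ 𝒢 i) (h1 : Kil 𝒜 𝒢 π i p)
    (h2 : Kil 𝒜 𝒢 π i q) : Kil 𝒜 𝒢 π i (p + q) := by
  intro e he h hh k l g hg hx hj
  have hxp : g • p ∈ 𝒢 (l + i) := SetLike.GradedSMul.smul_mem hg hp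
  have hxq : g • q ∈ 𝒢 (l + i) := SetLike.GradedSMul.smul_mem hg hq
  rw [fs_congr 𝒜 𝒢 hh 0 hx (add_mem hxp hxq) hj hj rfl rfl (smul_add g p q),
    fs_add 𝒜 𝒢 hh 0 k (l + i) (g • p) (g • q) hxp hxq hj, map_add,
    h1 e he h hh k l g hg hxp hj, h2 e he h hh k l g hg hxq hj, add_zero]

variable {𝒜 𝒢 π} in
theorem kil_smul {i j : ℕ} {a : A} (ha : a ∈ 𝒜 j) {p : P} (h1 : Kil 𝒜 𝒢 π i p) :
    Kil 𝒜 𝒢 π (j + i) (a • p) := by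
  intro e he h hh k l g hg hx hj
  have hga : g * a ∈ 𝒜 (l + j) := SetLike.mul_mem_graded hg ha
  have hidx : l + (j + i) = (l + j) + i := (add_assoc l j i).symm
  have hx' : (g * a) • p ∈ 𝒢 ((l + j) + i) := by
    rw [mul_smul, ← hidx]
    exact hx
  have hj' : (((l + j) + i : ℕ) : ℤ) = ((k • e : ℕ) : ℤ) + 0 := by
    rw [← hidx]
    exact hj
  rw [fs_congr 𝒜 𝒢 hh 0 hx hx' hj hj' rfl hidx (smul_smul g a p)]
  exact h1 e he h hh k (l + j) (g * a) hga hx' hj'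

variable {𝒜 𝒢 π} in
theorem kil_self {i : ℕ} {p : P} (hp : p ∈ 𝒢 i) (h1 : Kil 𝒜 𝒢 π i p) {e : ℕ} (he : 0 < e) {h : A}
    (hh : h ∈ 𝒜 e) (k : ℕ) (hj : (i : ℤ) = ((k • e : ℕ) : ℤ) + 0) :
    ap π (Proj.basicOpen 𝒜 h) (fracSecM 𝒜 𝒢 hh 0 k i p hp hj) = 0 := by
  have hx : (1 : A) • p ∈ 𝒢 (0 + i) := by
    rw [one_smul, zero_add]
    exact hp
  have hj' : ((0 + i : ℕ) : ℤ) = ((k • e : ℕ) : ℤ) + 0 := by
    rw [zero_add]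
    exact hj
  have := h1 e he h hh k 0 1 SetLike.GradedOne.one_mem hx hj'
  rwa [fs_congr 𝒜 𝒢 hh 0 hx hp hj' hj rfl (zero_add i) (one_smul A p)] at this

/-- The carrier of the saturated kernel. -/
def satCarrier : Set P := {p | ∀ i, Kil 𝒜 𝒢 π i (DirectSum.decompose 𝒢 p i : P)}

theorem sat_zero : (0 : P) ∈ satCarrier 𝒜 𝒢 π := by
  intro i
  rw [DirectSum.decompose_zero, DirectSum.zero_apply, ZeroMemClass.coe_zero]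
  exact kil_zero 𝒜 𝒢 π i

variable {𝒜 𝒢 π} in
theorem sat_add {p q : P} (hp : p ∈ satCarrier 𝒜 𝒢 π) (hq : q ∈ satCarrier 𝒜 𝒢 π) :
    p + q ∈ satCarrier 𝒜 𝒢 π := by
  intro i
  rw [DirectSum.decompose_add, DirectSum.add_apply, AddMemClass.coe_add]
  exact kil_add (SetLike.coe_mem _) (SetLike.coe_mem _) (hp i) (hq i)

variable {𝒜 𝒢 π} in
theorem sat_smul_homog {j : ℕ} {a : A} (ha : a ∈ 𝒜 j) {p : P} (hp : p ∈ satCarrier 𝒜 𝒢 π) :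
    a • p ∈ satCarrier 𝒜 𝒢 π := by
  intro i
  rw [decompose_smul_homog 𝒜 𝒢 ha p i]
  split_ifs with hji
  · have := kil_smul ha (hp (i - j))
    rwa [Nat.add_sub_cancel' hji] at this
  · exact kil_zero 𝒜 𝒢 π i

variable {𝒜 𝒢 π} in
theorem sat_smul (a : A) {p : P} (hp : p ∈ satCarrier 𝒜 𝒢 π) : a • p ∈ satCarrier 𝒜 𝒢 π := by
  induction a using DirectSum.Decomposition.inductionOn 𝒜 with
  | zero =>
    rw [zero_smul]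
    exact sat_zero 𝒜 𝒢 π
  | @homogeneous j a' => exact sat_smul_homog a'.2 hp
  | add a b ha hb =>
    rw [add_smul]
    exact sat_add ha hb

/-- **The saturated kernel** of `π`. -/
def satN : Submodule A P where
  carrier := satCarrier 𝒜 𝒢 π
  zero_mem' := sat_zero 𝒜 𝒢 π
  add_mem' := sat_add
  smul_mem' := fun a _ hp => sat_smul a hp

theorem satN_homogeneous :
    ∀ p ∈ satN 𝒜 𝒢 π, ∀ i : ℕ, (DirectSum.decompose 𝒢 p i : P) ∈ satN 𝒜 𝒢 π := by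
  intro p hp i j
  by_cases hij : i = j
  · subst hij
    rw [DirectSum.decompose_of_mem_same 𝒢 (SetLike.coe_mem _)]
    exact hp i
  · rw [DirectSum.decompose_of_mem_ne 𝒢 (SetLike.coe_mem _) hij]
    exact kil_zero 𝒜 𝒢 π j

variable {𝒜 𝒢 π} in
theorem mem_satN_of_kil {i : ℕ} {p : P} (hp : p ∈ 𝒢 i) (h : Kil 𝒜 𝒢 π i p) :
    p ∈ satN 𝒜 𝒢 π := by
  intro j
  by_cases hij : i = j
  · subst hij
    rw [DirectSum.decompose_of_mem_same 𝒢 hp]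
    exact h
  · rw [DirectSum.decompose_of_mem_ne 𝒢 hp hij]
    exact kil_zero 𝒜 𝒢 π j

variable {𝒜 𝒢 π} in
theorem kil_of_mem_satN {i : ℕ} {p : P} (hp : p ∈ 𝒢 i) (h : p ∈ satN 𝒜 𝒢 π) :
    Kil 𝒜 𝒢 π i p := by
  have := h i
  rwa [DirectSum.decompose_of_mem_same 𝒢 hp] at this

/-- The quotient map on the attached modules. -/
noncomputable def qtil : GrMod.tilde 𝒜 𝒢 0 ⟶ GrMod.tilde 𝒜 (quotGr 𝒢 (satN 𝒜 𝒢 π)) 0 :=
  GrMod.map 𝒜 (satN 𝒜 𝒢 π).mkQ (fun _ _ hm => mkQ_mem_quotGr 𝒢 _ hm) 0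

/-- Index type of the basis of standard opens. -/
abbrev BI : Type u := {p : ℕ × A // 0 < p.1 ∧ p.2 ∈ 𝒜 p.1}

/-- The basis of standard opens. -/
abbrev BB (i : BI 𝒜) : (Proj 𝒜).Opens := Proj.basicOpen 𝒜 i.1.2

theorem isBasis_BB : Opens.IsBasis (Set.range (BB 𝒜)) := by
  rw [Opens.isBasis_iff_nbhd]
  intro W x hx
  obtain ⟨m, h, hm, hh, hxh, hle⟩ := exists_homog_basicOpen 𝒜 W x hx
  exact ⟨_, ⟨⟨(m, h), hm, hh⟩, rfl⟩, hxh, hle⟩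

theorem qtil_fs {e : ℕ} {h : A} (hh : h ∈ 𝒜 e) (k i : ℕ) (p : P) (hp : p ∈ 𝒢 i)
    (hi : (i : ℤ) = ((k • e : ℕ) : ℤ) + 0) :
    ap (qtil 𝒜 𝒢 π) (Proj.basicOpen 𝒜 h) (fracSecM 𝒜 𝒢 hh 0 k i p hp hi) =
      fracSecM 𝒜 (quotGr 𝒢 (satN 𝒜 𝒢 π)) hh 0 k i ((satN 𝒜 𝒢 π).mkQ p)
        (mkQ_mem_quotGr 𝒢 _ hp) hi := by
  apply Groth.Agent.GrTi.ext_val
  intro y
  rw [val_fracSecM]
  refine (GrMod.map_app_val _ _ 0 _ _ y).trans ?_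
  rw [val_fracSecM]
  exact GrMod.locMap_mk _ _ _ _

theorem epi_qtil : Epi (qtil 𝒜 𝒢 π) := by
  letI := quotDecomposition 𝒢 _ (satN_homogeneous 𝒜 𝒢 π)
  refine GlobGen.epi_of_surjective_on_basis _ (Set.range (BB 𝒜)) (isBasis_BB 𝒜) ?_
  rintro _ ⟨⟨⟨e, h⟩, he, hh⟩, rfl⟩ t
  exact map_app_surjective_of_surj_large 𝒜 𝒢 (quotGr 𝒢 (satN 𝒜 𝒢 π)) (satN 𝒜 𝒢 π).mkQ
    (fun _ _ hm => mkQ_mem_quotGr 𝒢 _ hm) 0
    (fun k _ m' hm' => (mem_quotGr 𝒢 _).mp hm') 0 he hh t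

theorem fs_quot_eq_zero {e : ℕ} {h : A} (hh : h ∈ 𝒜 e) (k i m : ℕ) (p : P) (hp : p ∈ 𝒢 i)
    (hi : (i : ℤ) = ((k • e : ℕ) : ℤ) + 0) (hmem : h ^ m • p ∈ satN 𝒜 𝒢 π) :
    fracSecM 𝒜 (quotGr 𝒢 (satN 𝒜 𝒢 π)) hh 0 k i ((satN 𝒜 𝒢 π).mkQ p)
      (mkQ_mem_quotGr 𝒢 _ hp) hi = 0 := by
  apply Groth.Agent.GrTi.ext_val
  intro y
  rw [val_fracSecM, Groth.Agent.GrTi.val_zero, mk_eq_zero_iff]
  refine ⟨h ^ m, pow_nin 𝒜 m y, ?_⟩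
  rw [← map_smul, Submodule.mkQ_apply, Submodule.Quotient.mk_eq_zero]
  exact hmem

theorem kernel_qtil_comp : kernel.ι (qtil 𝒜 𝒢 π) ≫ π = 0 := by
  letI := quotDecomposition 𝒢 _ (satN_homogeneous 𝒜 𝒢 π)
  refine Groth.Agent.Lib.GlueHomH7.hom_ext_basis (BB 𝒜) (isBasis_BB 𝒜) _ _ ?_
  rintro ⟨⟨e, h⟩, he, hh⟩ s
  show ap π (Proj.basicOpen 𝒜 h) (ap (kernel.ι (qtil 𝒜 𝒢 π)) (Proj.basicOpen 𝒜 h) s) = 0
  have hs' : ap (qtil 𝒜 𝒢 π) (Proj.basicOpen 𝒜 h)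
      (ap (kernel.ι (qtil 𝒜 𝒢 π)) (Proj.basicOpen 𝒜 h) s) = 0 :=
    TensH8.kernel_section_mem (qtil 𝒜 𝒢 π) s
  obtain ⟨k, i, p, hp, hi, hval⟩ := exists_val_eq_mk 𝒜 𝒢 0 he hh
    (ap (kernel.ι (qtil 𝒜 𝒢 π)) (Proj.basicOpen 𝒜 h) s)
  have e1 : ap (kernel.ι (qtil 𝒜 𝒢 π)) (Proj.basicOpen 𝒜 h) s =
      fracSecM 𝒜 𝒢 hh 0 k i p hp hi :=
    Groth.Agent.GrTi.ext_val 𝒜 𝒢 _ _ (fun y => (hval y).trans (val_fracSecM 𝒜 𝒢 hh 0 k i p hp hi y).symm)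
  rw [e1] at hs' ⊢
  rw [qtil_fs] at hs'
  have hpt : ∀ y : ProjectiveSpectrum 𝒜, h ∉ y.asHomogeneousIdeal →
      ∃ u : A, u ∉ y.asHomogeneousIdeal ∧ u • ((satN 𝒜 𝒢 π).mkQ p) = 0 := by
    intro y hy
    have h1 := congrArg (fun s => GrMod.val s (⟨y, hy⟩ : Proj.basicOpen 𝒜 h)) hs'
    simp only at h1
    rw [val_fracSecM, Groth.Agent.GrTi.val_zero] at h1
    exact (mk_eq_zero_iff 𝒜 y _ _).mp h1
  obtain ⟨m, hm⟩ := pow_smul_eq_zero' 𝒜 (quotGr 𝒢 (satN 𝒜 𝒢 π)) he hh i _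
    (mkQ_mem_quotGr 𝒢 _ hp) hpt
  have hmem : h ^ m • p ∈ satN 𝒜 𝒢 π := by
    rw [← Submodule.Quotient.mk_eq_zero, ← Submodule.mkQ_apply, map_smul]
    exact hm
  have hdeg : h ^ m • p ∈ 𝒢 (m • e + i) :=
    SetLike.GradedSMul.smul_mem (SetLike.pow_mem_graded m hh) hp
  have hk := kil_of_mem_satN hdeg hmem
  have hi2 : ((m • e + i : ℕ) : ℤ) = (((m + k) • e : ℕ) : ℤ) + 0 := by
    push_cast [smul_eq_mul] at hi ⊢
    rw [hi]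
    ring
  have h0 := kil_self hdeg hk he hh (m + k) hi2
  have e2 : fracSecM 𝒜 𝒢 hh 0 k i p hp hi =
      fracSecM 𝒜 𝒢 hh 0 (m + k) (m • e + i) (h ^ m • p) hdeg hi2 := by
    refine eq_of_val 𝒜 𝒢 _ _ p (h ^ m • p) (h ^ k) (h ^ (m + k)) (pow_nin 𝒜 k)
      (pow_nin 𝒜 (m + k)) (fun y => rfl) (fun y => rfl) ?_
    rw [smul_smul, ← pow_add, add_comm]
  rw [e2]
  exact h0

/-- **`(P/N)~ ≅ F`** for the saturated kernel `N` of an epimorphism `π : P~ ⟶ F`. -/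
theorem exists_iso [F.IsQuasicoherent] [Epi π] {D : ℕ} (hD : 0 < D) (T : Finset A)
    (hT : ∀ f ∈ T, f ∈ 𝒜 D) (hcov : ∀ x : Proj 𝒜, ∃ f ∈ T, x ∈ Proj.basicOpen 𝒜 f) :
    Nonempty (GrMod.tilde 𝒜 (quotGr 𝒢 (satN 𝒜 𝒢 π)) 0 ≅ F) := by
  letI := quotDecomposition 𝒢 _ (satN_homogeneous 𝒜 𝒢 π)
  haveI := epi_qtil 𝒜 𝒢 π
  haveI : (GrMod.tilde 𝒜 𝒢 0).IsQuasicoherent := isQuasicoherent_tilde 𝒜 𝒢 0
  haveI : (GrMod.tilde 𝒜 (quotGr 𝒢 (satN 𝒜 𝒢 π)) 0).IsQuasicoherent :=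
    isQuasicoherent_tilde 𝒜 _ 0
  let πb := Abelian.epiDesc (qtil 𝒜 𝒢 π) π (kernel_qtil_comp 𝒜 𝒢 π)
  have hfac : qtil 𝒜 𝒢 π ≫ πb = π := Abelian.comp_epiDesc _ _ _
  have hfac' : ∀ (W : (Proj 𝒜).Opens) (s : Γ(GrMod.tilde 𝒜 𝒢 0, W)),
      ap πb W (ap (qtil 𝒜 𝒢 π) W s) = ap π W s := by
    intro W s
    exact congrArg (fun φ : GrMod.tilde 𝒜 𝒢 0 ⟶ F => ap φ W s) hfac
  have hcov' : ∀ x : Proj 𝒜, ∃ f ∈ (T : Set A), x ∈ Proj.basicOpen 𝒜 f := by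
    intro x
    obtain ⟨f, hf, hx⟩ := hcov x
    exact ⟨f, Finset.mem_coe.mpr hf, hx⟩
  have : IsIso πb := by
    refine QCohCrit.isIso_of_bijective_on_cover πb
      (fun f : {f : A // f ∈ T} => Proj.basicOpen 𝒜 f.1)
      (fun f => Proj.isAffineOpen_basicOpen 𝒜 f.1 (hT f.1 f.2) hD) ?_ (fun f => ⟨?_, ?_⟩)
    · rw [eq_top_iff]
      intro x _
      obtain ⟨f, hf, hx⟩ := hcov x
      exact Opens.mem_iSup.mpr ⟨⟨f, hf⟩, hx⟩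
    · obtain ⟨f, hfT⟩ := f
      have hf := hT f hfT
      refine (injective_iff_map_eq_zero (ap πb (Proj.basicOpen 𝒜 f))).mpr ?_
      intro s hs
      obtain ⟨s₀, hs₀⟩ := map_app_surjective_of_surj_large 𝒜 𝒢 (quotGr 𝒢 (satN 𝒜 𝒢 π))
        (satN 𝒜 𝒢 π).mkQ (fun _ _ hm => mkQ_mem_quotGr 𝒢 _ hm) 0
        (fun k _ m' hm' => (mem_quotGr 𝒢 _).mp hm') 0 hD hf s
      have hs₀' : ap (qtil 𝒜 𝒢 π) (Proj.basicOpen 𝒜 f) s₀ = s := hs₀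
      obtain ⟨k, j, p, hp, hj, hval⟩ := exists_val_eq_mk 𝒜 𝒢 0 hD hf s₀
      have e1 : s₀ = fracSecM 𝒜 𝒢 hf 0 k j p hp hj :=
        Groth.Agent.GrTi.ext_val 𝒜 𝒢 _ _
          (fun y => (hval y).trans (val_fracSecM 𝒜 𝒢 hf 0 k j p hp hj y).symm)
      have h0 : ap π (Proj.basicOpen 𝒜 f) (fracSecM 𝒜 𝒢 hf 0 k j p hp hj) = 0 := by
        rw [← e1, ← hfac', hs₀', hs]
      have hex : ∀ f' : {f' : A // f' ∈ T}, ∃ m₀ : ℕ, ∀ m : ℕ, m₀ ≤ m →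
          ∀ (hfp : f ^ m • p ∈ 𝒢 (m • D + j))
            (hj2 : ((m • D + j : ℕ) : ℤ) = (((m + k) • D : ℕ) : ℤ) + 0),
            ap π (Proj.basicOpen 𝒜 f'.1)
              (fracSecM 𝒜 𝒢 (hT f'.1 f'.2) 0 (m + k) (m • D + j) (f ^ m • p) hfp hj2) = 0 :=
        fun f' => exists_pow_app_eq_zero 𝒜 𝒢 π hD hf (hT f'.1 f'.2) k j p hp hj h0
      choose m₀ hm₀ using hex
      set Mx := T.attach.sup m₀ with hMx
      have hfp : f ^ Mx • p ∈ 𝒢 (Mx • D + j) :=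
        SetLike.GradedSMul.smul_mem (SetLike.pow_mem_graded Mx hf) hp
      have hj2 : ((Mx • D + j : ℕ) : ℤ) = (((Mx + k) • D : ℕ) : ℤ) + 0 := by
        push_cast [smul_eq_mul] at hj ⊢
        rw [hj]
        ring
      have hkil : Kil 𝒜 𝒢 π (Mx • D + j) (f ^ Mx • p) := by
        intro e he h hh k2 l g hg hx hjx
        exact app_fs_eq_zero_of_cover 𝒜 𝒢 π (T : Set A) (fun f hf => hT f (Finset.mem_coe.mp hf))
          hcov' hh k2 (Mx + k) (l + (Mx • D + j)) (Mx • D + j) l g hg (f ^ Mx • p) hfp hx hjx hj2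
          rfl (fun f' hf' => hm₀ ⟨f', Finset.mem_coe.mp hf'⟩ Mx
            (Finset.le_sup (f := m₀) (Finset.mem_attach T ⟨f', Finset.mem_coe.mp hf'⟩)) hfp hj2)
      have hmem : f ^ Mx • p ∈ satN 𝒜 𝒢 π := mem_satN_of_kil hfp hkil
      rw [← hs₀', e1, qtil_fs]
      exact fs_quot_eq_zero 𝒜 𝒢 π hf k j Mx p hp hj hmem
    · intro t
      obtain ⟨s, hs⟩ := QCohExact.app_surjective_of_epi π
        (Proj.isAffineOpen_basicOpen 𝒜 f.1 (hT f.1 f.2) hD) t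
      refine ⟨ap (qtil 𝒜 𝒢 π) _ s, ?_⟩
      exact (hfac' _ s).trans hs
  exact ⟨asIso πb⟩

end Core

end Groth.Agent.Lib.SatQH2
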