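import Mathlib
import Groth.Prelude
import Groth.Agent.Lib.GrTiGlue_helper5

/-!
# Degree-shifting maps between the modules `M(n)~` on `Proj` (helper2)

`smap u n n' hu : M(n)~ ⟶ N(n')~` for an `A`-linear map `u : M → N` carrying a homogeneous `m` with
`deg m = j + n` to a homogeneous element of degree `j + n'` (for every `j`).  This generalizes the
prelude's `GrMod.map` (`n = n'`).  APPEND-ONLY once landed.
-/

set_option autoImplicit false
universe u
open CategoryTheory CategoryTheory.Limits AlgebraicGeometry TopologicalSpace Opposite TopCat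

namespace Groth.Agent.Lib.SatQH2

open GrMod

noncomputable section smap

variable {A σ : Type u} [CommRing A] [SetLike σ A] [AddSubgroupClass σ A] {𝒜 : ℕ → σ}
  [GradedRing 𝒜]
variable {M τ : Type u} [AddCommGroup M] [Module A M] [SetLike τ M] [AddSubgroupClass τ M]
  {ℳ : ℕ → τ} [SetLike.GradedSMul 𝒜 ℳ]
variable {N τ' : Type u} [AddCommGroup N] [Module A N] [SetLike τ' N] [AddSubgroupClass τ' N]
  {𝒩 : ℕ → τ'} [SetLike.GradedSMul 𝒜 𝒩]
variable (u : M →ₗ[A] N) (n n' : ℤ)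
  (hu : ∀ (i j : ℕ) (m : M), m ∈ ℳ i → (i : ℤ) = j + n →
    u m = 0 ∨ ∃ i' : ℕ, u m ∈ 𝒩 i' ∧ (i' : ℤ) = j + n')

omit [AddSubgroupClass τ M] [SetLike.GradedSMul 𝒜 ℳ] [AddSubgroupClass τ' N]
  [SetLike.GradedSMul 𝒜 𝒩] in
include hu in
theorem slocMap_mem (x : ProjectiveSpectrum 𝒜) {q : LocMod 𝒜 (M := M) x}
    (hq : q ∈ tildeAt 𝒜 ℳ n x) : locMap u x q ∈ tildeAt 𝒜 𝒩 n' x := by
  induction hq using Submodule.span_induction with
  | mem q h =>
    obtain ⟨i, j, m, s, hs, hij, rfl⟩ := h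
    rw [locMap_mk]
    rcases hu i j m m.2 hij with h0 | ⟨i', hi', hdeg⟩
    · rw [h0, LocalizedModule.zero_mk]
      exact zero_mem _
    · exact Submodule.subset_span ⟨i', j, ⟨u m, hi'⟩, s, hs, hdeg, rfl⟩
  | zero => rw [map_zero]; exact zero_mem _
  | add q q' _ _ h h' => rw [map_add]; exact add_mem h h'
  | smul c q _ h =>
    rw [a0_smul_def]
    change (LocalizedModule.map _ u) (c.val • q) ∈ _
    rw [LinearMap.map_smul, ← a0_smul_def]
    exact Submodule.smul_mem _ c h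

variable (U : (Opens (ProjectiveSpectrum.top 𝒜))ᵒᵖ)

/-- The map on dependent functions, pointwise. -/
def smapFn (f : ∀ x : U.unop, tildeAt 𝒜 ℳ n x.1) (x : U.unop) : tildeAt 𝒜 𝒩 n' x.1 :=
  ⟨locMap u x.1 (f x).1, slocMap_mem u n n' hu x.1 (f x).2⟩

omit [AddSubgroupClass τ M] [SetLike.GradedSMul 𝒜 ℳ] [AddSubgroupClass τ' N]
  [SetLike.GradedSMul 𝒜 𝒩] in
@[simp] theorem smapFn_coe (f : ∀ x : U.unop, tildeAt 𝒜 ℳ n x.1) (x : U.unop) :
    ((smapFn u n n' hu U f x : tildeAt 𝒜 𝒩 n' x.1) : LocMod 𝒜 (M := N) x.1) =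
      locMap u x.1 (f x).1 := rfl

omit [AddSubgroupClass τ M] [SetLike.GradedSMul 𝒜 ℳ] [SetLike.GradedSMul 𝒜 𝒩] in
theorem isLocFrac_smapFn (f : ∀ x : U.unop, tildeAt 𝒜 ℳ n x.1)
    (hf : (isLocFrac 𝒜 ℳ n).pred f) :
    (isLocFrac 𝒜 𝒩 n').pred (smapFn u n n' hu U f) := fun x => by
  rcases hf x with ⟨V, mV, iV, i, j, m, s, nin, c, w⟩
  have hzero : u (m : M) = 0 → ∃ (V : Opens (ProjectiveSpectrum.top 𝒜)) (_ : x.1 ∈ V)
      (iV : V ⟶ U.unop), (isFracPrelocal 𝒜 𝒩 n').pred fun y : V => smapFn u n n' hu U f (iV y) := by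
    intro hz
    refine ⟨V, mV, iV, 0, j, ⟨u m, by rw [hz]; exact zero_mem _⟩, s, nin, Or.inr hz, fun y => ?_⟩
    change locMap u y.1 (f (iV y)).1 = _
    rw [w y, locMap_mk]
  rcases c with c | c
  · rcases hu i j m m.2 c with h0 | ⟨i', hi', hdeg⟩
    · exact hzero h0
    · refine ⟨V, mV, iV, i', j, ⟨u m, hi'⟩, s, nin, Or.inl hdeg, fun y => ?_⟩
      change locMap u y.1 (f (iV y)).1 = _
      rw [w y, locMap_mk]
  · exact hzero (by rw [c, map_zero])

/-- The map on sections over `U`, as an additive map. -/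
def smapApp : sect 𝒜 ℳ n U →+ sect 𝒜 𝒩 n' U where
  toFun f := ⟨smapFn u n n' hu U f.1, isLocFrac_smapFn u n n' hu U f.1 f.2⟩
  map_zero' := by
    refine Subtype.ext (funext fun x => Subtype.ext ?_)
    rw [smapFn_coe]
    simp
  map_add' f g := by
    refine Subtype.ext (funext fun x => Subtype.ext ?_)
    rw [smapFn_coe]
    simp only [AddMemClass.coe_add, Pi.add_apply, map_add, smapFn_coe]

theorem smapApp_smul (r : GrTwist.O (𝒜 := 𝒜) U) (f : sect 𝒜 ℳ n U) :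
    smapApp u n n' hu U (r • f) = r • smapApp u n n' hu U f := by
  refine Subtype.ext (funext fun x => Subtype.ext ?_)
  change locMap u x.1 (((r • f : sect 𝒜 ℳ n U).1 x : tildeAt 𝒜 ℳ n x.1) : LocMod 𝒜 x.1) =
    (((r • smapApp u n n' hu U f : sect 𝒜 𝒩 n' U).1 x : tildeAt 𝒜 𝒩 n' x.1) : LocMod 𝒜 x.1)
  have h1 : (((r • f : sect 𝒜 ℳ n U).1 x : tildeAt 𝒜 ℳ n x.1) : LocMod 𝒜 x.1) =
      (r.1 x).val • ((f.1 x).1) :=
    coe_smul_val n x.1 (r.1 x) (f.1 x)
  have h2 : (((r • smapApp u n n' hu U f : sect 𝒜 𝒩 n' U).1 x : tildeAt 𝒜 𝒩 n' x.1) :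
      LocMod 𝒜 x.1) = (r.1 x).val • locMap u x.1 (f.1 x).1 :=
    coe_smul_val n' x.1 (r.1 x) _
  rw [h1, h2]
  exact LinearMap.map_smul (LocalizedModule.map _ u) (r.1 x).val (f.1 x).1

/-- The morphism `M(n)~ ⟶ N(n')~` attached to a degree-shifting linear map. -/
def smap : tilde 𝒜 ℳ n ⟶ tilde 𝒜 𝒩 n' :=
  ⟨PresheafOfModules.homMk
    { app := fun U => AddCommGrpCat.ofHom (smapApp u n n' hu U)
      naturality := fun _ _ _ => rfl }
    fun U r s => smapApp_smul u n n' hu U r s⟩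

theorem smap_app_val (V : (Proj 𝒜).Opens) (s : Γ(tilde 𝒜 ℳ n, V)) (y : V) :
    val ((smap u n n' hu).app V s) y = locMap u y.1 (val s y) := rfl

end smap

end Groth.Agent.Lib.SatQH2
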