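import Mathlib
import Groth.Prelude
import Groth.Agent.Lib.SatQ3_helper2
import Groth.Agent.Lib.SatQ4_helper2
import Groth.Agent.Lib.ProjTw_helper5
import Groth.Agent.Lib.ProjTwD2_helper6

/-!
# Coherent modules on `Proj` of a Noetherian graded ring are `M~` for finite graded `M` (helper2)

* `piGr 𝒜 r c`: the grading of the graded free module `A(-c)^r` on `Fin r → A`.
* `exists_epi_tilde`: every coherent `F` is a quotient of some `(A(-c)^r)~`.
* `main0850`: S0850.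
APPEND-ONLY once landed.
-/

set_option autoImplicit false
set_option linter.style.haveILetI false
universe u
open CategoryTheory CategoryTheory.Limits AlgebraicGeometry TopologicalSpace Opposite DirectSum

namespace Groth.Agent.Lib.SatQH2

section PiShift
variable {R A : Type u} [CommRing R] [CommRing A] [Algebra R A] (𝒜 : ℕ → Submodule R A)
  [GradedAlgebra 𝒜]
variable (r c : ℕ)

/-- The graded pieces of `A(-c)`. -/
def shA (i : ℕ) : Submodule R A := if c ≤ i then 𝒜 (i - c) else ⊥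

/-- The grading of `A(-c)^r`. -/
def piGr (i : ℕ) : Submodule R (Fin r → A) := Submodule.pi Set.univ (fun _ => shA 𝒜 c i)

theorem mem_piGr {i : ℕ} {v : Fin r → A} : v ∈ piGr 𝒜 r c i ↔ ∀ j, v j ∈ shA 𝒜 c i := by
  unfold piGr
  rw [Submodule.mem_pi]
  simp

theorem mem_shA_of_le {i : ℕ} (h : c ≤ i) {a : A} : a ∈ shA 𝒜 c i ↔ a ∈ 𝒜 (i - c) := by
  unfold shA
  rw [if_pos h]

theorem mem_shA_of_not_le {i : ℕ} (h : ¬ c ≤ i) {a : A} : a ∈ shA 𝒜 c i ↔ a = 0 := by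
  unfold shA
  rw [if_neg h]
  exact Submodule.mem_bot R

theorem mem_shA_add {i : ℕ} {a : A} : a ∈ shA 𝒜 c (i + c) ↔ a ∈ 𝒜 i := by
  rw [mem_shA_of_le 𝒜 c (Nat.le_add_left c i), Nat.add_sub_cancel]

instance piGr_gradedSMul : SetLike.GradedSMul 𝒜 (piGr 𝒜 r c) where
  smul_mem := by
    intro i j a v ha hv
    rw [mem_piGr] at hv
    show a • v ∈ piGr 𝒜 r c (i + j)
    rw [mem_piGr]
    intro k
    show a • v k ∈ shA 𝒜 c (i + j)
    by_cases hj : c ≤ j
    · have h1 := (mem_shA_of_le 𝒜 c hj).mp (hv k)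
      rw [mem_shA_of_le 𝒜 c (le_trans hj (Nat.le_add_left j i))]
      have h2 : i + j - c = i + (j - c) := by omega
      rw [h2, smul_eq_mul]
      exact SetLike.mul_mem_graded ha h1
    · have h1 := (mem_shA_of_not_le 𝒜 c hj).mp (hv k)
      rw [h1, smul_zero]
      exact zero_mem _

/-- `Pi.single j` on the degree `i` part. -/
def emb (j : Fin r) (i : ℕ) : 𝒜 i →+ piGr 𝒜 r c (i + c) where
  toFun a := ⟨Pi.single j a.1, by
    rw [mem_piGr]
    intro k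
    rw [mem_shA_add]
    by_cases hk : k = j
    · subst hk
      rw [Pi.single_eq_same]
      exact a.2
    · rw [Pi.single_eq_of_ne hk]
      exact zero_mem _⟩
  map_zero' := by
    apply Subtype.ext
    show (Pi.single j ((0 : 𝒜 i) : A) : Fin r → A) = 0
    rw [ZeroMemClass.coe_zero, Pi.single_zero]
  map_add' a b := by
    apply Subtype.ext
    show (Pi.single j ((a + b : 𝒜 i) : A) : Fin r → A) = Pi.single j a.1 + Pi.single j b.1
    rw [AddMemClass.coe_add, Pi.single_add]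

/-- Decomposition of the `j`-th coordinate. -/
noncomputable def decJ (j : Fin r) : A →+ ⨁ i, piGr 𝒜 r c i :=
  (DirectSum.toAddMonoid
    (fun i => (DirectSum.of (fun i => piGr 𝒜 r c i) (i + c)).comp (emb 𝒜 r c j i))).comp
    (DirectSum.decomposeAddEquiv 𝒜).toAddMonoidHom

/-- The decomposition map of `A(-c)^r`. -/
noncomputable def decPi : (Fin r → A) →+ ⨁ i, piGr 𝒜 r c i :=
  ∑ j : Fin r, (decJ 𝒜 r c j).comp (Pi.evalAddMonoidHom (fun _ => A) j)

theorem decPi_apply (v : Fin r → A) : decPi 𝒜 r c v = ∑ j : Fin r, decJ 𝒜 r c j (v j) := by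
  unfold decPi
  rw [AddMonoidHom.finsetSum_apply]
  rfl

theorem coe_toAddMonoid (j : Fin r) (x : ⨁ i, 𝒜 i) :
    DirectSum.coeAddMonoidHom (piGr 𝒜 r c) (DirectSum.toAddMonoid
      (fun i => (DirectSum.of (fun i => piGr 𝒜 r c i) (i + c)).comp (emb 𝒜 r c j i)) x) =
      Pi.single j (DirectSum.coeAddMonoidHom 𝒜 x) := by
  induction x using DirectSum.induction_on with
  | zero => simp
  | of i a =>
    rw [DirectSum.toAddMonoid_of, AddMonoidHom.comp_apply, DirectSum.coeAddMonoidHom_of,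
      DirectSum.coeAddMonoidHom_of]
    rfl
  | add x y hx hy => rw [map_add, map_add, map_add, hx, hy, Pi.single_add]

theorem coe_decJ (j : Fin r) (a : A) :
    DirectSum.coeAddMonoidHom (piGr 𝒜 r c) (decJ 𝒜 r c j a) = Pi.single j a := by
  unfold decJ
  rw [AddMonoidHom.comp_apply, coe_toAddMonoid]
  congr 1
  exact DirectSum.Decomposition.left_inv a

theorem decJ_of_mem (j : Fin r) {i : ℕ} {a : A} (ha : a ∈ 𝒜 i) :
    decJ 𝒜 r c j a = DirectSum.of (fun i => piGr 𝒜 r c i) (i + c) (emb 𝒜 r c j i ⟨a, ha⟩) := by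
  unfold decJ
  rw [AddMonoidHom.comp_apply]
  have h1 : (DirectSum.decomposeAddEquiv 𝒜).toAddMonoidHom a =
      DirectSum.of (fun i => 𝒜 i) i ⟨a, ha⟩ := DirectSum.decompose_of_mem 𝒜 ha
  rw [h1, DirectSum.toAddMonoid_of]
  rfl

noncomputable instance piGr_decomposition : DirectSum.Decomposition (piGr 𝒜 r c) where
  decompose' := decPi 𝒜 r c
  left_inv := by
    intro v
    rw [decPi_apply, map_sum]
    simp only [coe_decJ]
    exact Finset.univ_sum_single v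
  right_inv := by
    intro y
    induction y using DirectSum.induction_on with
    | zero => rw [map_zero, map_zero]
    | of i x =>
      obtain ⟨v, hv⟩ := x
      rw [DirectSum.coeAddMonoidHom_of]
      show decPi 𝒜 r c v = _
      by_cases hc : c ≤ i
      · obtain ⟨i0, rfl⟩ : ∃ i0, i = i0 + c := ⟨i - c, (Nat.sub_add_cancel hc).symm⟩
        have hv' : ∀ j, v j ∈ 𝒜 i0 := fun j => (mem_shA_add 𝒜 c).mp ((mem_piGr 𝒜 r c).mp hv j)
        rw [decPi_apply]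
        have h1 : ∀ j : Fin r, decJ 𝒜 r c j (v j) =
            DirectSum.of (fun i => piGr 𝒜 r c i) (i0 + c) (emb 𝒜 r c j i0 ⟨v j, hv' j⟩) :=
          fun j => decJ_of_mem 𝒜 r c j (hv' j)
        simp only [h1]
        rw [← map_sum]
        congr 1
        apply Subtype.ext
        rw [AddSubmonoidClass.coe_finsetSum]
        show ∑ j : Fin r, (Pi.single j (v j) : Fin r → A) = v
        exact Finset.univ_sum_single v
      · have hv0 : v = 0 := by
          funext j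
          exact (mem_shA_of_not_le 𝒜 c hc).mp ((mem_piGr 𝒜 r c).mp hv j)
        subst hv0
        rw [map_zero]
        have : (⟨0, hv⟩ : piGr 𝒜 r c i) = 0 := rfl
        rw [this, map_zero]
    | add x y hx hy => rw [map_add, map_add, hx, hy]

theorem proj_shift (k : Fin r) : ∀ (i j : ℕ) (m : Fin r → A), m ∈ piGr 𝒜 r c i →
    (i : ℤ) = j + 0 →
    (LinearMap.proj k : (Fin r → A) →ₗ[A] A) m = 0 ∨
      ∃ i' : ℕ, (LinearMap.proj k : (Fin r → A) →ₗ[A] A) m ∈ 𝒜 i' ∧ (i' : ℤ) = j + (-(c : ℤ)) := by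
  intro i j m hm hij
  have hmk := (mem_piGr 𝒜 r c).mp hm k
  by_cases hc : c ≤ i
  · right
    refine ⟨i - c, (mem_shA_of_le 𝒜 c hc).mp hmk, ?_⟩
    rw [Nat.cast_sub hc]
    linarith
  · left
    exact (mem_shA_of_not_le 𝒜 c hc).mp hmk

theorem single_shift (k : Fin r) : ∀ (i j : ℕ) (a : A), a ∈ 𝒜 i →
    (i : ℤ) = j + (-(c : ℤ)) →
    (LinearMap.single A (fun _ : Fin r => A) k) a = 0 ∨
      ∃ i' : ℕ, (LinearMap.single A (fun _ : Fin r => A) k) a ∈ piGr 𝒜 r c i' ∧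
        (i' : ℤ) = j + 0 := by
  intro i j a ha hij
  right
  refine ⟨i + c, (emb 𝒜 r c k i ⟨a, ha⟩).2, ?_⟩
  push_cast
  linarith

end PiShift

section Main
variable {R A : Type u} [CommRing R] [CommRing A] [Algebra R A] (𝒜 : ℕ → Submodule R A)
  [GradedAlgebra 𝒜]

open GrMod in
theorem locMap_comp {M N K : Type u} [AddCommGroup M] [Module A M] [AddCommGroup N] [Module A N]
    [AddCommGroup K] [Module A K] (u : M →ₗ[A] N) (v : N →ₗ[A] K) (x : ProjectiveSpectrum 𝒜)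
    (q : LocMod 𝒜 (M := M) x) :
    locMap v x (locMap u x q) = locMap (v ∘ₗ u) x q := by
  induction q using LocalizedModule.induction_on with
  | h m s =>
    rw [locMap_mk, locMap_mk, locMap_mk]
    rfl

open GrMod in
theorem locMap_id' {M : Type u} [AddCommGroup M] [Module A M] (x : ProjectiveSpectrum 𝒜)
    (q : LocMod 𝒜 (M := M) x) : locMap (LinearMap.id : M →ₗ[A] M) x q = q := by
  induction q using LocalizedModule.induction_on with
  | h m s =>
    rw [locMap_mk]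
    rfl

open GrMod in
theorem locMap_zero' {M N : Type u} [AddCommGroup M] [Module A M] [AddCommGroup N] [Module A N]
    (x : ProjectiveSpectrum 𝒜) (q : LocMod 𝒜 (M := M) x) :
    locMap (0 : M →ₗ[A] N) x q = 0 := by
  induction q using LocalizedModule.induction_on with
  | h m s =>
    rw [locMap_mk, LinearMap.zero_apply, LocalizedModule.zero_mk]

variable (r c : ℕ)

/-- `ι_j ≫ p_k = δ_jk`. -/
theorem smap_single_proj (j k : Fin r) :
    smap (𝒜 := 𝒜) (ℳ := 𝒜) (𝒩 := piGr 𝒜 r c) (LinearMap.single A (fun _ : Fin r => A) j)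
        (-(c : ℤ)) 0 (single_shift 𝒜 r c j) ≫
      smap (𝒜 := 𝒜) (ℳ := piGr 𝒜 r c) (𝒩 := 𝒜) (LinearMap.proj k : (Fin r → A) →ₗ[A] A) 0
        (-(c : ℤ)) (proj_shift 𝒜 r c k) =
      if j = k then 𝟙 _ else 0 := by
  apply Scheme.Modules.hom_ext
  intro U
  ext s
  apply Groth.Agent.GrTi.ext_val
  intro y
  have h1 : GrMod.val ((smap (𝒜 := 𝒜) (ℳ := 𝒜) (𝒩 := piGr 𝒜 r c)
      (LinearMap.single A (fun _ : Fin r => A) j) (-(c : ℤ)) 0 (single_shift 𝒜 r c j) ≫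
      smap (𝒜 := 𝒜) (ℳ := piGr 𝒜 r c) (𝒩 := 𝒜) (LinearMap.proj k : (Fin r → A) →ₗ[A] A) 0
        (-(c : ℤ)) (proj_shift 𝒜 r c k)).app U s) y =
      GrMod.locMap (LinearMap.proj k : (Fin r → A) →ₗ[A] A) y.1
        (GrMod.locMap (LinearMap.single A (fun _ : Fin r => A) j) y.1 (GrMod.val s y)) := rfl
  refine h1.trans ?_
  rw [locMap_comp]
  split_ifs with hjk
  · subst hjk
    rw [LinearMap.proj_comp_single_same, locMap_id']
    rfl
  · rw [LinearMap.proj_comp_single_ne _ _ _ _ (Ne.symm hjk), locMap_zero']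
    rfl

open Groth.Agent.Lib.ProjTwDH6 in
/-- **Every coherent module on `Proj A` (`A` Noetherian) is a quotient of some `(A(-c)^r)~`.** -/
theorem exists_epi_tilde [IsNoetherianRing A] (F : (Proj 𝒜).Modules) (hF : Coh.IsCoh F) :
    ∃ (r c : ℕ) (π : GrMod.tilde 𝒜 (piGr 𝒜 r c) 0 ⟶ F), Epi π := by
  obtain ⟨D, hD, hcov⟩ := exists_deg_cover 𝒜
  haveI : IsNoetherian (Proj 𝒜) := Groth.Agent.S2357.result 𝒜
  haveI : CompactSpace (Proj 𝒜) := inferInstance
  haveI : QuasiSeparatedSpace (Proj 𝒜) := inferInstance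
  have hamp := Groth.Agent.ProjTw.isAmple_twist_deg 𝒜 hD hcov
  obtain ⟨a, r, p, hp⟩ := Groth.Agent.Lib.LefAmpH6.exists_epi_sigma_tensorPow hamp
    (nonempty_inverse 𝒜 hD hcov) F hF
  haveI := hp
  obtain ⟨α⟩ := nonempty_tensorPow_iso 𝒜 hD hcov (-1) a
  let c : ℕ := a * D
  have hc : (a : ℤ) * -1 * (D : ℤ) = -(c : ℤ) := by
    show (a : ℤ) * -1 * (D : ℤ) = -((a * D : ℕ) : ℤ)
    push_cast
    ring
  -- `γ : A(-c)~ ≅ L^{-a}`
  let γ : GrMod.tilde 𝒜 𝒜 (-(c : ℤ)) ≅ CohB1.tensorPow (Twist.twist 𝒜 (-1 * (D : ℤ))) a :=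
    (Groth.Agent.ProjTw.twistIso 𝒜 (-(c : ℤ))).symm ≪≫ (twistCongr 𝒜 hc).symm ≪≫ α.symm
  let φ : Fin r → (GrMod.tilde 𝒜 𝒜 (-(c : ℤ)) ⟶ F) := fun j =>
    γ.hom ≫ Sigma.ι (fun _ : Fin r => CohB1.tensorPow (Twist.twist 𝒜 (-1 * (D : ℤ))) a) j ≫ p
  let pr : ∀ k : Fin r, GrMod.tilde 𝒜 (piGr 𝒜 r c) 0 ⟶ GrMod.tilde 𝒜 𝒜 (-(c : ℤ)) := fun k =>
    smap (𝒜 := 𝒜) (ℳ := piGr 𝒜 r c) (𝒩 := 𝒜) (LinearMap.proj k : (Fin r → A) →ₗ[A] A) 0
      (-(c : ℤ)) (proj_shift 𝒜 r c k)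
  let sg : ∀ j : Fin r, GrMod.tilde 𝒜 𝒜 (-(c : ℤ)) ⟶ GrMod.tilde 𝒜 (piGr 𝒜 r c) 0 := fun j =>
    smap (𝒜 := 𝒜) (ℳ := 𝒜) (𝒩 := piGr 𝒜 r c) (LinearMap.single A (fun _ : Fin r => A) j)
      (-(c : ℤ)) 0 (single_shift 𝒜 r c j)
  let π : GrMod.tilde 𝒜 (piGr 𝒜 r c) 0 ⟶ F := ∑ k : Fin r, pr k ≫ φ k
  refine ⟨r, c, π, ?_⟩
  have hfac : Sigma.desc (fun j : Fin r => γ.inv ≫ sg j) ≫ π = p := by
    apply Sigma.hom_ext
    intro j
    rw [Sigma.ι_desc_assoc]
    show (γ.inv ≫ sg j) ≫ ∑ k : Fin r, pr k ≫ φ k = _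
    rw [Preadditive.comp_sum]
    have h1 : ∀ k : Fin r, (γ.inv ≫ sg j) ≫ pr k ≫ φ k =
        if j = k then Sigma.ι (fun _ : Fin r => CohB1.tensorPow (Twist.twist 𝒜 (-1 * (D : ℤ))) a) j ≫ p
          else 0 := by
      intro k
      have h2 : sg j ≫ pr k = if j = k then 𝟙 _ else 0 := smap_single_proj 𝒜 r c j k
      rw [Category.assoc, ← Category.assoc (sg j), h2]
      split_ifs with hjk
      · subst hjk
        rw [Category.id_comp]
        show γ.inv ≫ γ.hom ≫ _ = _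
        rw [Iso.inv_hom_id_assoc]
      · rw [zero_comp, comp_zero]
    simp only [h1]
    rw [Finset.sum_ite_eq]
    simp
  exact epi_of_epi_fac hfac

open Groth.Agent.Lib.ProjTwDH6 in
/-- **S0850**: every coherent module on `Proj A`, `A` Noetherian, is `M~` for a finite graded
`A`-module `M`. -/
theorem main0850 [IsNoetherianRing A] (F : (Proj 𝒜).Modules) (hF : Coh.IsCoh F) :
    ∃ (M : Type u) (_ : AddCommGroup M) (_ : Module R M) (_ : Module A M) (_ : IsScalarTower R A M)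
      (ℳ : ℕ → Submodule R M) (_ : DirectSum.Decomposition ℳ) (_ : SetLike.GradedSMul 𝒜 ℳ),
      Module.Finite A M ∧ Nonempty (GrTilde.tilde 𝒜 ℳ 0 ≅ F) := by
  obtain ⟨r, c, π, hπ⟩ := exists_epi_tilde 𝒜 F hF
  haveI := hπ
  haveI : F.IsQuasicoherent := hF.1
  obtain ⟨D, hD, hcov⟩ := exists_deg_cover 𝒜
  haveI : IsNoetherian (Proj 𝒜) := Groth.Agent.S2357.result 𝒜
  haveI : CompactSpace (Proj 𝒜) := inferInstance
  obtain ⟨T, hT, hcovT⟩ : ∃ T : Finset A, (∀ f ∈ T, f ∈ 𝒜 D) ∧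
      ∀ x : Proj 𝒜, ∃ f ∈ T, x ∈ Proj.basicOpen 𝒜 f := by
    classical
    have hopen : ∀ f : 𝒜 D,
        IsOpen ((Proj.basicOpen 𝒜 f.1 : (Proj 𝒜).Opens) : Set (Proj 𝒜)) :=
      fun f => (Proj.basicOpen 𝒜 f.1).2
    have hcovU : (Set.univ : Set (Proj 𝒜)) ⊆
        ⋃ f : 𝒜 D, ((Proj.basicOpen 𝒜 f.1 : (Proj 𝒜).Opens) : Set (Proj 𝒜)) := by
      intro x _
      obtain ⟨f, hf, hx⟩ := hcov x
      exact Set.mem_iUnion.mpr ⟨⟨f, hf⟩, hx⟩
    obtain ⟨t, ht⟩ := isCompact_univ.elim_finite_subcover _ hopen hcovU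
    refine ⟨t.image Subtype.val, ?_, ?_⟩
    · intro f hf
      obtain ⟨g, _, rfl⟩ := Finset.mem_image.mp hf
      exact g.2
    · intro x
      obtain ⟨g, hg, hx⟩ := Set.mem_iUnion₂.mp (ht (Set.mem_univ x))
      exact ⟨g.1, Finset.mem_image_of_mem _ hg, hx⟩
  obtain ⟨e⟩ := exists_iso 𝒜 (piGr 𝒜 r c) π hD T hT hcovT
  exact ⟨(Fin r → A) ⧸ satN 𝒜 (piGr 𝒜 r c) π, inferInstance, inferInstance, inferInstance,
    inferInstance, quotGr (piGr 𝒜 r c) (satN 𝒜 (piGr 𝒜 r c) π),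
    quotDecomposition _ _ (satN_homogeneous 𝒜 (piGr 𝒜 r c) π), inferInstance, inferInstance, ⟨e⟩⟩

end Main

end Groth.Agent.Lib.SatQH2
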