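import Groth.Agent.Lib.AlgSpFormal3_helper7
import Groth.Agent.Lib.AlgSpFormal_helper7
import Groth.Agent.Lib.AlgSpCov_helper7
import Groth.Agent.Lib.AlgSpSep_helper7
import Groth.Agent.Lib.AlgSpProper_helper7
import Groth.Agent.Lib.AlgSpQC2_helper7

/-!
# Colimits of schemes which stay colimits among algebraic spaces (helper7)
-/

set_option autoImplicit false
set_option linter.style.haveILetI false

universe w v u

open CategoryTheory CategoryTheory.Limits AlgebraicGeometry Opposite
open AlgSp Groth.Agent.Lib.AlgSpPullback_helper7 Groth.Agent.Lib.AlgSpQC_helper7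
  Groth.Agent.Lib.AlgSpPoints_helper7 Groth.Agent.Lib.AlgSpCov_helper7
  Groth.Agent.Lib.AlgSpFormal_helper7 Groth.Agent.Lib.AlgSpFormal3_helper7
  Groth.Agent.Lib.AlgSpSep_helper7 Groth.Agent.Lib.AlgSpProper_helper7
  Groth.Agent.Lib.AlgSpQC2_helper7

namespace Groth.Agent.Lib.SchColimSpH7

variable {S : Scheme.{u}}

/-! ### Uniqueness -/

set_option backward.isDefEq.respectTransparency false in
theorem hom_ext_of_isColimit {I : Type v} [Category.{w} I] (D' : I ⥤ Over S) (c' : Cocone D')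
    (h : IsColimit ((Over.forget S).mapCocone c')) {X : Sp S} (hX : IsAlgSpace X)
    (m₁ m₂ : (yon S).obj c'.pt ⟶ X)
    (hm : ∀ i, (yon S).map (c'.ι.app i) ≫ m₁ = (yon S).map (c'.ι.app i) ≫ m₂) : m₁ = m₂ := by
  have hd : Representable (Limits.diag X) := hX.diag
  obtain ⟨E, e, fE, sq⟩ := hd (prod.lift m₁ m₂)
  have sqw : fE ≫ prod.lift (𝟙 X) (𝟙 X) = (yon S).map e ≫ prod.lift m₁ m₂ := sq.w
  have h1 : (yon S).map e ≫ m₁ = fE := by
    have h := congrArg (fun f => f ≫ prod.fst) sqw
    simp only [Category.assoc, prod.lift_fst, Category.comp_id] at h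
    exact h.symm
  have h2 : (yon S).map e ≫ m₂ = fE := by
    have h := congrArg (fun f => f ≫ prod.snd) sqw
    simp only [Category.assoc, prod.lift_snd, Category.comp_id] at h
    exact h.symm
  have he : (yon S).map e ≫ m₁ = (yon S).map e ≫ m₂ := h1.trans h2.symm
  have hemono : ∀ {T : Over S} (a b : T ⟶ E), a ≫ e = b ≫ e → a = b := by
    intro T a b hab
    apply (yon S).map_injective
    apply sq.hom_ext
    · rw [← h1, ← Category.assoc, ← Category.assoc, ← Functor.map_comp, ← Functor.map_comp, hab]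
    · rw [← Functor.map_comp, ← Functor.map_comp, hab]
  have hlift : ∀ i, ∃ d : D'.obj i ⟶ E, d ≫ e = c'.ι.app i := by
    intro i
    have comm : ((yon S).map (c'.ι.app i) ≫ m₁) ≫ Limits.diag X =
        (yon S).map (c'.ι.app i) ≫ prod.lift m₁ m₂ := by
      show ((yon S).map (c'.ι.app i) ≫ m₁) ≫ prod.lift (𝟙 X) (𝟙 X) = _
      apply Limits.prod.hom_ext
      · simp only [Category.assoc, prod.lift_fst, Category.comp_id]
      · simp only [Category.assoc, prod.lift_snd, Category.comp_id]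
        exact hm i
    obtain ⟨d, hd'⟩ := (yon S).map_surjective (sq.lift _ _ comm)
    exact ⟨d, (yon S).map_injective (by rw [Functor.map_comp, hd', sq.lift_snd])⟩
  choose d hd' using hlift
  have hnat : ∀ {i j : I} (φ : i ⟶ j), D'.map φ ≫ d j = d i := fun {i j} φ =>
    hemono _ _ (by rw [Category.assoc, hd' j, hd' i, c'.w φ])
  let s : Cocone (D' ⋙ Over.forget S) :=
    { pt := E.left
      ι :=
        { app := fun i => (d i).left
          naturality := fun i j φ => by
            show (D'.map φ).left ≫ (d j).left = (d i).left ≫ 𝟙 _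
            rw [Category.comp_id, ← Over.comp_left, hnat φ] } }
  have hfac : ∀ i, (c'.ι.app i).left ≫ h.desc s = (d i).left := fun i => h.fac s i
  have hσe : h.desc s ≫ e.left = 𝟙 c'.pt.left := by
    apply h.hom_ext
    intro i
    show (c'.ι.app i).left ≫ h.desc s ≫ e.left = (c'.ι.app i).left ≫ 𝟙 _
    rw [← Category.assoc, hfac i, ← Over.comp_left, hd' i, Category.comp_id]
  let σ' : c'.pt ⟶ E := Over.homMk (h.desc s) (by
    rw [← Over.w e, ← Category.assoc, hσe, Category.id_comp])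
  have hσ'e : σ' ≫ e = 𝟙 c'.pt := by
    ext
    exact hσe
  calc m₁ = (yon S).map (σ' ≫ e) ≫ m₁ := by
        rw [hσ'e, CategoryTheory.Functor.map_id, Category.id_comp]
    _ = (yon S).map (σ' ≫ e) ≫ m₂ := by
        rw [Functor.map_comp, Category.assoc, he, ← Category.assoc, ← Functor.map_comp]
    _ = m₂ := by rw [hσ'e, CategoryTheory.Functor.map_id, Category.id_comp]

/-! ### The system of base changes of a chart -/

section BC

variable {I : Type v} [Category.{w} I] {D : I ⥤ Over S} {X : Sp S}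
  (σ : ∀ i, (yon S).obj (D.obj i) ⟶ X)
  (hσ : ∀ (i j : I) (φ : i ⟶ j), (yon S).map (D.map φ) ≫ σ j = σ i)
  {U : Over S} {p : (yon S).obj U ⟶ X} (hp : Representable p)

noncomputable def bcObj (i : I) : Over S := hp.pullback (σ i)

noncomputable def bcA (i : I) : bcObj σ hp i ⟶ D.obj i := hp.snd (σ i)

noncomputable def bcB (i : I) : bcObj σ hp i ⟶ U := hp.fst' (σ i)

lemma bc_sq (i : I) :
    IsPullback ((yon S).map (bcB σ hp i)) ((yon S).map (bcA σ hp i)) p (σ i) :=
  hp.isPullback' (σ i)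

lemma bc_hom_ext {T : Over S} {i : I} {a b : T ⟶ bcObj σ hp i}
    (h₁ : a ≫ bcB σ hp i = b ≫ bcB σ hp i) (h₂ : a ≫ bcA σ hp i = b ≫ bcA σ hp i) : a = b :=
  hp.hom_ext' h₁ h₂

include hσ in
lemma bc_comm {i j : I} (φ : i ⟶ j) :
    (yon S).map (bcB σ hp i) ≫ p = (yon S).map (bcA σ hp i ≫ D.map φ) ≫ σ j := by
  rw [Functor.map_comp, Category.assoc, hσ i j φ]
  exact (bc_sq σ hp i).w

noncomputable def bcMap {i j : I} (φ : i ⟶ j) : bcObj σ hp i ⟶ bcObj σ hp j :=
  hp.lift' (bcB σ hp i) (bcA σ hp i ≫ D.map φ) (bc_comm σ hσ hp φ)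

lemma bcMap_b {i j : I} (φ : i ⟶ j) : bcMap σ hσ hp φ ≫ bcB σ hp j = bcB σ hp i :=
  hp.lift'_fst _ _ _

lemma bcMap_a {i j : I} (φ : i ⟶ j) :
    bcMap σ hσ hp φ ≫ bcA σ hp j = bcA σ hp i ≫ D.map φ :=
  hp.lift'_snd _ _ _

noncomputable def bcSys : I ⥤ Over S where
  obj i := bcObj σ hp i
  map φ := bcMap σ hσ hp φ
  map_id i := by
    apply bc_hom_ext σ hp
    · rw [bcMap_b, Category.id_comp]
    · rw [bcMap_a, D.map_id, Category.comp_id, Category.id_comp]
  map_comp φ ψ := by
    apply bc_hom_ext σ hp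
    · rw [bcMap_b, Category.assoc, bcMap_b, bcMap_b]
    · rw [bcMap_a, Category.assoc, bcMap_a, ← Category.assoc, bcMap_a, Category.assoc,
        D.map_comp]

noncomputable def bcα : bcSys σ hσ hp ⟶ D where
  app i := bcA σ hp i
  naturality _ _ φ := bcMap_a σ hσ hp φ

lemma bc_isPullback {i j : I} (φ : i ⟶ j) :
    IsPullback (bcMap σ hσ hp φ) (bcA σ hp i) (bcA σ hp j) (D.map φ) := by
  have hcomm : bcMap σ hσ hp φ ≫ bcA σ hp j = bcA σ hp i ≫ D.map φ := bcMap_a σ hσ hp φ
  refine IsPullback.of_map (yon S) hcomm ?_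
  have s : IsPullback ((yon S).map (bcMap σ hσ hp φ) ≫ (yon S).map (bcB σ hp j))
      ((yon S).map (bcA σ hp i)) p ((yon S).map (D.map φ) ≫ σ j) := by
    rw [← Functor.map_comp, bcMap_b, hσ i j φ]
    exact bc_sq σ hp i
  exact IsPullback.of_right s (by rw [← Functor.map_comp, ← Functor.map_comp, hcomm])
    (bc_sq σ hp j)

lemma bc_equifibered : NatTrans.Equifibered (bcα σ hσ hp) :=
  fun _ _ φ => bc_isPullback σ hσ hp φ

end BC

/-! ### The system of pullbacks of a cocone -/

section PB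

variable {I : Type v} [Category.{w} I] (D : I ⥤ Over S) (c : Cocone D) {P : Over S}
  (a : P ⟶ c.pt)

noncomputable def pbObj (i : I) : Over S := pullback a (c.ι.app i)

noncomputable def pbE (i : I) : pbObj D c a i ⟶ P := pullback.fst _ _

noncomputable def pbA (i : I) : pbObj D c a i ⟶ D.obj i := pullback.snd _ _

lemma pb_sq (i : I) : IsPullback (pbE D c a i) (pbA D c a i) a (c.ι.app i) :=
  IsPullback.of_hasPullback _ _

lemma pb_hom_ext {T : Over S} {i : I} {x y : T ⟶ pbObj D c a i}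
    (h₁ : x ≫ pbE D c a i = y ≫ pbE D c a i) (h₂ : x ≫ pbA D c a i = y ≫ pbA D c a i) : x = y :=
  pullback.hom_ext h₁ h₂

lemma pb_comm {i j : I} (φ : i ⟶ j) :
    pbE D c a i ≫ a = (pbA D c a i ≫ D.map φ) ≫ c.ι.app j := by
  rw [Category.assoc, c.w φ]
  exact (pb_sq D c a i).w

noncomputable def pbMap {i j : I} (φ : i ⟶ j) : pbObj D c a i ⟶ pbObj D c a j :=
  pullback.lift (pbE D c a i) (pbA D c a i ≫ D.map φ) (pb_comm D c a φ)

lemma pbMap_e {i j : I} (φ : i ⟶ j) : pbMap D c a φ ≫ pbE D c a j = pbE D c a i :=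
  pullback.lift_fst _ _ _

lemma pbMap_a {i j : I} (φ : i ⟶ j) :
    pbMap D c a φ ≫ pbA D c a j = pbA D c a i ≫ D.map φ :=
  pullback.lift_snd _ _ _

noncomputable def pbSys : I ⥤ Over S where
  obj i := pbObj D c a i
  map φ := pbMap D c a φ
  map_id i := by
    apply pb_hom_ext D c a
    · rw [pbMap_e, Category.id_comp]
    · rw [pbMap_a, D.map_id, Category.comp_id, Category.id_comp]
  map_comp φ ψ := by
    apply pb_hom_ext D c a
    · rw [pbMap_e, Category.assoc, pbMap_e, pbMap_e]
    · rw [pbMap_a, Category.assoc, pbMap_a, ← Category.assoc, pbMap_a, Category.assoc,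
        D.map_comp]

noncomputable def pbα : pbSys D c a ⟶ D where
  app i := pbA D c a i
  naturality _ _ φ := pbMap_a D c a φ

noncomputable def pbCocone : Cocone (pbSys D c a) where
  pt := P
  ι :=
    { app := fun i => pbE D c a i
      naturality := fun i j φ => (pbMap_e D c a φ).trans (Category.comp_id _).symm }

end PB

/-! ### Charts -/

noncomputable def chartO {U : Over S} (O : U.left.affineOpens) : Over S :=
  Over.mk (O.1.ι ≫ U.hom)

noncomputable def chartι {U : Over S} (O : U.left.affineOpens) : chartO O ⟶ U :=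
  Over.homMk O.1.ι rfl

noncomputable def chartP {X : Sp S} {U : Over S} (p : (yon S).obj U ⟶ X)
    (O : U.left.affineOpens) : (yon S).obj (chartO O) ⟶ X :=
  (yon S).map (chartι O) ≫ p

theorem repWith_isSeparated_of_isSeparated {X : Sp S} (hX : IsAlgSpace X) {U : Over S}
    (hU : IsSeparated U.hom) (p : (yon S).obj U ⟶ X) : RepWith @IsSeparated p := by
  have hrep : Representable p := Functor.relativelyRepresentable.of_diag hX.diag p
  have h1 : RepWith @IsSeparated (terminal.from ((yon S).obj U)) :=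
    (repWith_terminal_from_yon_iff _ U).2 hU
  have h2 : IsSeparatedMor (terminal.from ((yon S).obj U)) :=
    (isSeparatedMor_iff_of_representable _ h1.rep).2 h1
  have h3 : IsSeparatedMor p := isSeparatedMor_of_comp p (terminal.from X) (by
    rw [terminal.comp_from]
    exact h2)
  exact (isSeparatedMor_iff_of_representable p hrep).1 h3

set_option backward.isDefEq.respectTransparency false in
/-- Every point of a scheme mapping to an algebraic space lifts, after a residue field extension,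
to an affine open of an atlas. -/
theorem exists_point_affine_chart {X : Sp S} {U : Over S} (p : (yon S).obj U ⟶ X)
    (hpe : RepWith @Etale p) (hps : RepWith @Surjective p) {T : Over S}
    (g : (yon S).obj T ⟶ X) (y : T.left) :
    ∃ (O : U.left.affineOpens) (W : Over S) (w : W ⟶ T) (b : W ⟶ chartO O) (pt : W.left),
      (yon S).map b ≫ chartP p O = (yon S).map w ≫ g ∧ w.left pt = y := by
  have sqV := hpe.rep.isPullback' g
  have hs : Surjective (hpe.rep.snd g).left := hps.property _ _ _ sqV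
  obtain ⟨v, hv⟩ := hs.surj y
  have hex : ∃ O : U.left.affineOpens, (hpe.rep.fst' g).left v ∈ O.1 := by
    obtain ⟨_, ⟨O, hO, rfl⟩, huO, -⟩ := U.left.isBasis_affineOpens.exists_subset_of_mem_open
      (Set.mem_univ ((hpe.rep.fst' g).left v)) isOpen_univ
    exact ⟨⟨O, hO⟩, huO⟩
  obtain ⟨O, huO⟩ := hex
  let τ₀ : Spec ((hpe.rep.pullback g).left.residueField v) ⟶ (hpe.rep.pullback g).left :=
    (hpe.rep.pullback g).left.fromSpecResidueField v
  let W : Over S := Over.mk (τ₀ ≫ (hpe.rep.pullback g).hom)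
  let τ : W ⟶ hpe.rep.pullback g := Over.homMk τ₀ rfl
  have hrange : Set.range (τ₀ ≫ (hpe.rep.fst' g).left) ⊆ Set.range O.1.ι := by
    rintro _ ⟨z, rfl⟩
    rw [Scheme.Opens.range_ι]
    have h3 : (τ₀ ≫ (hpe.rep.fst' g).left) z = (hpe.rep.fst' g).left v :=
      (Scheme.Hom.comp_apply τ₀ (hpe.rep.fst' g).left z).trans
        (congrArg (fun z => (hpe.rep.fst' g).left z) (Scheme.fromSpecResidueField_apply v z))
    rw [h3]
    exact huO
  obtain ⟨l₀, hl₀⟩ : ∃ l₀ : W.left ⟶ (↑O.1 : Scheme),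
      l₀ ≫ O.1.ι = τ₀ ≫ (hpe.rep.fst' g).left :=
    ⟨IsOpenImmersion.lift O.1.ι (τ₀ ≫ (hpe.rep.fst' g).left) hrange,
      IsOpenImmersion.lift_fac _ _ _⟩
  let b : W ⟶ chartO O :=
    Over.homMk l₀ (by
      show l₀ ≫ O.1.ι ≫ U.hom = τ₀ ≫ (hpe.rep.pullback g).hom
      rw [← Category.assoc, hl₀, Category.assoc, Over.w])
  have hb : b ≫ chartι O = τ ≫ hpe.rep.fst' g := by
    ext
    exact hl₀
  refine ⟨O, W, τ ≫ hpe.rep.snd g, b,
    IsLocalRing.closedPoint ((hpe.rep.pullback g).left.residueField v), ?_, ?_⟩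
  · show (yon S).map b ≫ (yon S).map (chartι O) ≫ p = _
    rw [← Category.assoc, ← Functor.map_comp, hb, Functor.map_comp, Functor.map_comp,
      Category.assoc, Category.assoc, sqV.w]
  · show (τ₀ ≫ (hpe.rep.snd g).left) _ = y
    exact (Scheme.Hom.comp_apply τ₀ (hpe.rep.snd g).left _).trans
      ((congrArg (fun z => (hpe.rep.snd g).left z)
        (Scheme.fromSpecResidueField_apply v _)).trans hv)

/-! ### Existence -/

set_option backward.isDefEq.respectTransparency false in
theorem exists_desc {I : Type v} [Category.{w} I] (D : I ⥤ Over S) (c : Cocone D)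
    (h₂ : ∀ x : ↥c.pt.left, ∃ (i : I) (y : ↥(D.obj i).left), (c.ι.app i).left y = x)
    (h₃ : ∀ (D' : I ⥤ Over S) (α : D' ⟶ D) (c' : Cocone D') (a : c'.pt ⟶ c.pt), Etale a.left →
      (∀ i, IsPullback (c'.ι.app i) (α.app i) a (c.ι.app i)) →
        Nonempty (IsColimit ((Over.forget S).mapCocone c')))
    (h₄ : ∀ (D' : I ⥤ Over S) (α : D' ⟶ D), NatTrans.Equifibered α →
      (∀ i, Etale (α.app i).left) → (∀ i, IsSeparated (α.app i).left) →
      ∃ (c' : Cocone D') (a : c'.pt ⟶ c.pt), Etale a.left ∧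
        ∀ i, IsPullback (c'.ι.app i) (α.app i) a (c.ι.app i))
    {X : Sp S} (hX : IsAlgSpace X) (σ : ∀ i, (yon S).obj (D.obj i) ⟶ X)
    (hσ : ∀ (i j : I) (φ : i ⟶ j), (yon S).map (D.map φ) ≫ σ j = σ i) :
    ∃ m : (yon S).obj c.pt ⟶ X, ∀ i, (yon S).map (c.ι.app i) ≫ m = σ i := by
  obtain ⟨U, p, hpe, hps⟩ := hX.atlas
  have hpOe : ∀ O : U.left.affineOpens, RepWith @Etale (chartP p O) := fun O =>
    repWith_comp _ ((repWith_yon_map_iff @Etale _).2 (inferInstance : Etale O.1.ι)) hpe
  have hUOaff : ∀ O : U.left.affineOpens, IsAffine (chartO (U := U) O).left := fun O => O.2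
  have hpOsep : ∀ O : U.left.affineOpens, RepWith @IsSeparated (chartP p O) := fun O => by
    haveI := hUOaff O
    exact repWith_isSeparated_of_isSeparated hX inferInstance (chartP p O)
  have hrep : ∀ O : U.left.affineOpens, Representable (chartP p O) := fun O => (hpOe O).rep
  have hAe : ∀ (O : U.left.affineOpens) (i : I), Etale (bcA σ (hrep O) i).left := fun O i =>
    (hpOe O).property _ _ _ (bc_sq σ (hrep O) i)
  have hAs : ∀ (O : U.left.affineOpens) (i : I), IsSeparated (bcA σ (hrep O) i).left :=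
    fun O i => (hpOsep O).property _ _ _ (bc_sq σ (hrep O) i)
  -- the étale spaces over the colimit
  have key : ∀ O : U.left.affineOpens, ∃ (c' : Cocone (bcSys σ hσ (hrep O)))
      (a : c'.pt ⟶ c.pt), Etale a.left ∧
      (∀ i, IsPullback (c'.ι.app i) (bcA σ (hrep O) i) a (c.ι.app i)) ∧
      Nonempty (IsColimit ((Over.forget S).mapCocone c')) := by
    intro O
    obtain ⟨c', a, ha, hsq⟩ := h₄ (bcSys σ hσ (hrep O)) (bcα σ hσ (hrep O))
      (bc_equifibered σ hσ (hrep O)) (hAe O) (hAs O)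
    exact ⟨c', a, ha, hsq, h₃ _ (bcα σ hσ (hrep O)) c' a ha hsq⟩
  choose c' a ha hsq hcol using key
  -- the maps to the charts
  have hg : ∀ O : U.left.affineOpens, ∃ gO : (c' O).pt ⟶ chartO O,
      ∀ i, (c' O).ι.app i ≫ gO = bcB σ (hrep O) i := by
    intro O
    obtain ⟨hc⟩ := hcol O
    let s : Cocone (bcSys σ hσ (hrep O) ⋙ Over.forget S) :=
      { pt := (chartO O).left
        ι :=
          { app := fun i => (bcB σ (hrep O) i).left
            naturality := fun i j φ => by
              show (bcMap σ hσ (hrep O) φ).left ≫ (bcB σ (hrep O) j).left =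
                (bcB σ (hrep O) i).left ≫ 𝟙 _
              rw [Category.comp_id, ← Over.comp_left, bcMap_b] } }
    have hfac : ∀ i, ((c' O).ι.app i).left ≫ hc.desc s = (bcB σ (hrep O) i).left :=
      fun i => hc.fac s i
    have hw : hc.desc s ≫ (chartO O).hom = (c' O).pt.hom := by
      apply hc.hom_ext
      intro i
      show ((c' O).ι.app i).left ≫ hc.desc s ≫ (chartO O).hom =
        ((c' O).ι.app i).left ≫ (c' O).pt.hom
      rw [← Category.assoc, hfac i]
      exact (Over.w (bcB σ (hrep O) i)).trans (Over.w ((c' O).ι.app i)).symm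
    refine ⟨Over.homMk (hc.desc s) hw, fun i => ?_⟩
    ext
    exact hfac i
  choose gO hgO using hg
  obtain ⟨m, hm⟩ : ∃ m : ∀ O : U.left.affineOpens, (yon S).obj (c' O).pt ⟶ X,
      ∀ O i, (yon S).map ((c' O).ι.app i) ≫ m O = (yon S).map (bcA σ (hrep O) i) ≫ σ i := by
    refine ⟨fun O => (yon S).map (gO O) ≫ chartP p O, fun O i => ?_⟩
    rw [← Category.assoc, ← Functor.map_comp, hgO O i]
    exact (bc_sq σ (hrep O) i).w
  -- factorisation through the pullback squares
  have hcm : ∀ (O : U.left.affineOpens) (i : I) (Q : Over S) (e : Q ⟶ (c' O).pt)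
      (b : Q ⟶ D.obj i), e ≫ a O = b ≫ c.ι.app i →
      (yon S).map e ≫ m O = (yon S).map b ≫ σ i := by
    intro O i Q e b h
    have h1 : (hsq O i).lift e b h ≫ (c' O).ι.app i = e := (hsq O i).lift_fst _ _ _
    have h2 : (hsq O i).lift e b h ≫ bcA σ (hrep O) i = b := (hsq O i).lift_snd _ _ _
    calc (yon S).map e ≫ m O
        = (yon S).map ((hsq O i).lift e b h ≫ (c' O).ι.app i) ≫ m O := by rw [h1]
      _ = (yon S).map ((hsq O i).lift e b h) ≫ (yon S).map (bcA σ (hrep O) i) ≫ σ i := by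
          rw [Functor.map_comp, Category.assoc, hm O i]
      _ = (yon S).map b ≫ σ i := by rw [← Category.assoc, ← Functor.map_comp, h2]
  -- joint surjectivity of the charts
  have hsurjO : ∀ (i : I) (y : (D.obj i).left), ∃ (O : U.left.affineOpens)
      (w : (bcObj σ (hrep O) i).left), (bcA σ (hrep O) i).left w = y := by
    intro i y
    obtain ⟨O, W, w, b, pt, hcomm, hpt⟩ := exists_point_affine_chart p hpe hps (σ i) y
    have h1 : (hrep O).lift' b w hcomm ≫ bcA σ (hrep O) i = w := (hrep O).lift'_snd _ _ _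
    refine ⟨O, ((hrep O).lift' b w hcomm).left pt, ?_⟩
    exact (Scheme.Hom.comp_apply _ _ _).symm.trans
      ((congrArg (fun f : W ⟶ D.obj i => f.left pt) h1).trans hpt)
  have hcov : Sieve.ofArrows (fun O : U.left.affineOpens => (c' O).pt) a ∈ J S c.pt := by
    apply ofArrows_mem_J
    · intro O
      haveI := ha O
      infer_instance
    · intro O
      haveI := ha O
      infer_instance
    · intro x
      obtain ⟨i, y, rfl⟩ := h₂ x
      obtain ⟨O, w, rfl⟩ := hsurjO i y
      refine ⟨O, ((c' O).ι.app i).left w, ?_⟩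
      have hw := (hsq O i).w
      exact (Scheme.Hom.comp_apply _ _ _).symm.trans
        ((congrArg (fun f : bcObj σ (hrep O) i ⟶ c.pt => f.left w) hw).trans
          (Scheme.Hom.comp_apply _ _ _))
  -- compatibility on overlaps
  have hcompat : ∀ (O₁ O₂ : U.left.affineOpens) (Z : Over S) (g₁ : Z ⟶ (c' O₁).pt)
      (g₂ : Z ⟶ (c' O₂).pt), g₁ ≫ a O₁ = g₂ ≫ a O₂ →
      (yon S).map g₁ ≫ m O₁ = (yon S).map g₂ ≫ m O₂ := by
    intro O₁ O₂ Z g₁ g₂ hg
    have key2 : (yon S).map (pullback.fst (a O₁) (a O₂)) ≫ m O₁ =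
        (yon S).map (pullback.snd (a O₁) (a O₂)) ≫ m O₂ := by
      have sqL : IsPullback (pullback.fst (a O₁) (a O₂)).left (pullback.snd (a O₁) (a O₂)).left
          (a O₁).left (a O₂).left := (IsPullback.of_hasPullback (a O₁) (a O₂)).map (Over.forget S)
      haveI := ha O₁
      haveI := ha O₂
      haveI : Etale (pullback.fst (a O₁) (a O₂)).left :=
        MorphismProperty.of_isPullback (P := @Etale) sqL.flip (ha O₂)
      have hét : Etale (pullback.fst (a O₁) (a O₂) ≫ a O₁).left := by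
        show Etale ((pullback.fst (a O₁) (a O₂)).left ≫ (a O₁).left)
        infer_instance
      obtain ⟨hP⟩ := h₃ (pbSys D c (pullback.fst (a O₁) (a O₂) ≫ a O₁))
        (pbα D c (pullback.fst (a O₁) (a O₂) ≫ a O₁))
        (pbCocone D c (pullback.fst (a O₁) (a O₂) ≫ a O₁))
        (pullback.fst (a O₁) (a O₂) ≫ a O₁) hét
        (fun i => pb_sq D c (pullback.fst (a O₁) (a O₂) ≫ a O₁) i)
      apply hom_ext_of_isColimit (pbSys D c (pullback.fst (a O₁) (a O₂) ≫ a O₁))
        (pbCocone D c (pullback.fst (a O₁) (a O₂) ≫ a O₁)) hP hX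
      intro i
      show (yon S).map (pbE D c (pullback.fst (a O₁) (a O₂) ≫ a O₁) i) ≫
          (yon S).map (pullback.fst (a O₁) (a O₂)) ≫ m O₁ =
        (yon S).map (pbE D c (pullback.fst (a O₁) (a O₂) ≫ a O₁) i) ≫
          (yon S).map (pullback.snd (a O₁) (a O₂)) ≫ m O₂
      have e1 := hcm O₁ i _
        (pbE D c (pullback.fst (a O₁) (a O₂) ≫ a O₁) i ≫ pullback.fst (a O₁) (a O₂))
        (pbA D c (pullback.fst (a O₁) (a O₂) ≫ a O₁) i) (by
          rw [Category.assoc]
          exact (pb_sq D c (pullback.fst (a O₁) (a O₂) ≫ a O₁) i).w)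
      have e2 := hcm O₂ i _
        (pbE D c (pullback.fst (a O₁) (a O₂) ≫ a O₁) i ≫ pullback.snd (a O₁) (a O₂))
        (pbA D c (pullback.fst (a O₁) (a O₂) ≫ a O₁) i) (by
          rw [Category.assoc, ← pullback.condition]
          exact (pb_sq D c (pullback.fst (a O₁) (a O₂) ≫ a O₁) i).w)
      rw [Functor.map_comp, Category.assoc] at e1 e2
      exact e1.trans e2.symm
    calc (yon S).map g₁ ≫ m O₁
        = (yon S).map (pullback.lift g₁ g₂ hg ≫ pullback.fst (a O₁) (a O₂)) ≫ m O₁ := by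
          rw [pullback.lift_fst]
      _ = (yon S).map (pullback.lift g₁ g₂ hg) ≫
            (yon S).map (pullback.fst (a O₁) (a O₂)) ≫ m O₁ := by
          rw [Functor.map_comp, Category.assoc]
      _ = (yon S).map (pullback.lift g₁ g₂ hg) ≫
            (yon S).map (pullback.snd (a O₁) (a O₂)) ≫ m O₂ := by rw [key2]
      _ = (yon S).map g₂ ≫ m O₂ := by
          rw [← Category.assoc, ← Functor.map_comp, pullback.lift_snd]
  obtain ⟨l, hl⟩ := desc_of_cover (fun O : U.left.affineOpens => (c' O).pt) a hcov m hcompat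
  refine ⟨l, fun i => ?_⟩
  have hcovi : Sieve.ofArrows (fun O : U.left.affineOpens => bcObj σ (hrep O) i)
      (fun O => bcA σ (hrep O) i) ∈ J S (D.obj i) := by
    apply ofArrows_mem_J
    · intro O
      haveI := hAe O i
      infer_instance
    · intro O
      haveI := hAe O i
      infer_instance
    · intro y
      obtain ⟨O, w, hw⟩ := hsurjO i y
      exact ⟨O, w, hw⟩
  apply hom_ext_of_cover _ _ hcovi
  intro O
  rw [← Category.assoc, ← Functor.map_comp, ← (hsq O i).w, Functor.map_comp, Category.assoc,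
    hl O, hm O i]

/-! ### S10716 -/

theorem main10716 {I : Type v} [Category.{w} I] (D : I ⥤ Over S) (c : Cocone D)
    (h₁ : IsColimit ((Over.forget S).mapCocone c))
    (h₂ : ∀ x : ↥c.pt.left, ∃ (i : I) (y : ↥(D.obj i).left), (c.ι.app i).left y = x)
    (h₃ : ∀ (D' : I ⥤ Over S) (α : D' ⟶ D) (c' : Cocone D') (a : c'.pt ⟶ c.pt), Etale a.left →
      (∀ i, IsPullback (c'.ι.app i) (α.app i) a (c.ι.app i)) →
        Nonempty (IsColimit ((Over.forget S).mapCocone c')))
    (h₄ : ∀ (D' : I ⥤ Over S) (α : D' ⟶ D), NatTrans.Equifibered α →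
      (∀ i, Etale (α.app i).left) → (∀ i, IsSeparated (α.app i).left) →
      ∃ (c' : Cocone D') (a : c'.pt ⟶ c.pt), Etale a.left ∧
        ∀ i, IsPullback (c'.ι.app i) (α.app i) a (c.ι.app i)) :
    Nonempty (IsColimit ((AlgSp.ofScheme S).mapCocone c)) := by
  have ex : ∀ s : Cocone (D ⋙ AlgSp.ofScheme S), ∃ m : (yon S).obj c.pt ⟶ s.pt.obj,
      ∀ i, (yon S).map (c.ι.app i) ≫ m = (s.ι.app i).hom := by
    intro s
    refine exists_desc D c h₂ h₃ h₄ s.pt.property (fun i => (s.ι.app i).hom) (fun i j φ => ?_)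
    exact congrArg (fun f => f.hom) (s.w φ)
  choose m hm using ex
  refine ⟨{ desc := fun s => ObjectProperty.homMk (m s), fac := ?_, uniq := ?_ }⟩
  · intro s i
    apply ObjectProperty.hom_ext
    exact hm s i
  · intro s m' hm'
    apply ObjectProperty.hom_ext
    apply hom_ext_of_isColimit D c h₁ s.pt.property
    intro i
    exact (congrArg (fun f => f.hom) (hm' i)).trans (hm s i).symm

end Groth.Agent.Lib.SchColimSpH7
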