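import Groth.Agent.Lib.ShDesc7_helper7
import Groth.Prelude.Def_Desc

/-!
# Effective descent for separated locally quasi-finite schemes along fppf covers, part 1: the
equivalence relation attached to a descent datum (helper7)
-/

set_option autoImplicit false
set_option linter.style.haveILetI false
universe u
open CategoryTheory CategoryTheory.Limits AlgebraicGeometry Opposite

namespace Groth.Agent.Lib.SchDDEffH7

variable {X S : Scheme.{u}} {p : X ⟶ S} (D : Desc.SchDD p)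

/-- Transport of a point of the descent datum. -/
noncomputable def trL {T : Scheme.{u}} (b : T ⟶ D.obj.left) (x₀ x₁ : T ⟶ X)
    (hb : b ≫ D.obj.hom = x₀) (h : x₀ ≫ p = x₁ ≫ p) : T ⟶ D.obj.left :=
  (D.φ x₀ x₁ h ⟨b, hb⟩).1

lemma trL_congr {T : Scheme.{u}} {b b' : T ⟶ D.obj.left} {x₀ x₀' x₁ x₁' : T ⟶ X}
    (eb : b = b') (e₀ : x₀ = x₀') (e₁ : x₁ = x₁')
    (hb : b ≫ D.obj.hom = x₀) (h : x₀ ≫ p = x₁ ≫ p) (hb' : b' ≫ D.obj.hom = x₀')
    (h' : x₀' ≫ p = x₁' ≫ p) : trL D b x₀ x₁ hb h = trL D b' x₀' x₁' hb' h' := by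
  subst eb e₀ e₁
  rfl

lemma trL_hom {T : Scheme.{u}} (b : T ⟶ D.obj.left) (x₀ x₁ : T ⟶ X)
    (hb : b ≫ D.obj.hom = x₀) (h : x₀ ≫ p = x₁ ≫ p) :
    trL D b x₀ x₁ hb h ≫ D.obj.hom = x₁ :=
  (D.φ x₀ x₁ h ⟨b, hb⟩).2

lemma trL_natural {T T' : Scheme.{u}} (g : T' ⟶ T) (b : T ⟶ D.obj.left) (x₀ x₁ : T ⟶ X)
    (hb : b ≫ D.obj.hom = x₀) (h : x₀ ≫ p = x₁ ≫ p) :
    g ≫ trL D b x₀ x₁ hb h = trL D (g ≫ b) (g ≫ x₀) (g ≫ x₁)
      (by rw [Category.assoc, hb]) (by rw [Category.assoc, Category.assoc, h]) :=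
  (D.φ_natural g x₀ x₁ h (by rw [Category.assoc, Category.assoc, h]) ⟨b, hb⟩
    ⟨g ≫ b, by rw [Category.assoc, hb]⟩ rfl).symm

lemma trL_self {T : Scheme.{u}} (b : T ⟶ D.obj.left) (x : T ⟶ X)
    (hb : b ≫ D.obj.hom = x) (h : x ≫ p = x ≫ p) : trL D b x x hb h = b :=
  congrArg Subtype.val (D.φ_self x ⟨b, hb⟩)

lemma trL_comp {T : Scheme.{u}} (b : T ⟶ D.obj.left) (x₀ x₁ x₂ : T ⟶ X)
    (hb : b ≫ D.obj.hom = x₀) (h₀₁ : x₀ ≫ p = x₁ ≫ p) (h₁₂ : x₁ ≫ p = x₂ ≫ p) :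
    trL D (trL D b x₀ x₁ hb h₀₁) x₁ x₂ (trL_hom D b x₀ x₁ hb h₀₁) h₁₂ =
      trL D b x₀ x₂ hb (h₀₁.trans h₁₂) :=
  congrArg Subtype.val (D.φ_comp x₀ x₁ x₂ h₀₁ h₁₂ ⟨b, hb⟩)

variable (p) in
/-- `X` as a scheme over `S`. -/
abbrev Xs : Over S := Over.mk p

/-- The scheme of the descent datum, over `S`. -/
abbrev Vs : Over S := Over.mk (D.obj.hom ≫ p)

/-- The structure map of the descent datum, over `S`. -/
abbrev vs : Vs D ⟶ Xs p := Over.homMk D.obj.hom rfl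

/-- `V ×_S X`. -/
noncomputable abbrev Es : Over S := Vs D ⨯ Xs p

lemma hS {T : Over S} (a b : T ⟶ Vs D) :
    (a.left ≫ D.obj.hom) ≫ p = (b.left ≫ D.obj.hom) ≫ p := by
  rw [Category.assoc, Category.assoc]
  exact (Over.w a).trans (Over.w b).symm

lemma hSX {T : Over S} (b : T ⟶ Vs D) (x : T ⟶ Xs p) :
    (b.left ≫ D.obj.hom) ≫ p = x.left ≫ p := by
  rw [Category.assoc]
  exact (Over.w b).trans (Over.w x).symm

/-- The first projection. -/
noncomputable abbrev sE : Es D ⟶ Vs D := prod.fst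

/-- The second map: transport of the universal point. -/
noncomputable def tE : Es D ⟶ Vs D :=
  Over.homMk (trL D (prod.fst : Es D ⟶ Vs D).left
    ((prod.fst : Es D ⟶ Vs D).left ≫ D.obj.hom) (prod.snd : Es D ⟶ Xs p).left rfl
    (hSX D prod.fst prod.snd)) (by
    show trL D _ _ _ _ _ ≫ D.obj.hom ≫ p = (Es D).hom
    rw [← Category.assoc, trL_hom]
    exact Over.w (prod.snd : Es D ⟶ Xs p))

lemma tE_vs : tE D ≫ vs D = prod.snd := by
  apply Over.OverMorphism.ext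
  rw [Over.comp_left]
  exact trL_hom D _ _ _ _ _

lemma comp_tE_left {T : Over S} (r : T ⟶ Es D) :
    (r ≫ tE D).left = trL D (r ≫ prod.fst).left ((r ≫ prod.fst).left ≫ D.obj.hom)
      (r ≫ prod.snd).left rfl (hSX D _ _) := by
  rw [Over.comp_left]
  show r.left ≫ trL D _ _ _ _ _ = _
  rw [trL_natural]
  exact trL_congr D rfl (Category.assoc _ _ _).symm rfl _ _ _ _

lemma rel_iff {T : Over S} (a b : T ⟶ Vs D) :
    (∃ r : T ⟶ Es D, r ≫ tE D = a ∧ r ≫ sE D = b) ↔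
      trL D b.left (b.left ≫ D.obj.hom) (a.left ≫ D.obj.hom) rfl (hS D b a) = a.left := by
  constructor
  · rintro ⟨r, rfl, rfl⟩
    have h1 : (r ≫ tE D).left ≫ D.obj.hom = (r ≫ prod.snd).left := by
      have := congrArg (fun k => k.left) (tE_vs D)
      have h2 : (r ≫ tE D ≫ vs D).left = (r ≫ prod.snd).left := by rw [tE_vs]
      simpa using h2
    exact (trL_congr D rfl rfl h1 _ _ _ _).trans (comp_tE_left D r).symm
  · intro h
    refine ⟨prod.lift b (a ≫ vs D), ?_, prod.lift_fst _ _⟩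
    apply Over.OverMorphism.ext
    rw [comp_tE_left, ← h]
    refine trL_congr D ?_ ?_ ?_ _ _ _ _
    · rw [prod.lift_fst]
    · rw [prod.lift_fst]
    · rw [prod.lift_snd]
      rfl

theorem isEqvRel : AlgSp.IsEqvRel (sE D) (tE D) where
  injective T r r' h1 h2 := by
    apply prod.hom_ext
    · exact h2
    · rw [← tE_vs, ← Category.assoc, ← Category.assoc, h1]
  equivalence T := by
    refine ⟨fun a => (rel_iff D a a).2 (trL_self D _ _ _ _), fun {a b} hab => ?_,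
      fun {a b c} hab hbc => ?_⟩
    · have h := (rel_iff D a b).1 hab
      refine (rel_iff D b a).2 ?_
      have h2 := trL_comp D b.left (b.left ≫ D.obj.hom) (a.left ≫ D.obj.hom)
        (b.left ≫ D.obj.hom) rfl (hS D b a) (hS D a b)
      rw [trL_self] at h2
      exact (trL_congr D h.symm rfl rfl _ _ _ _).trans h2
    · have h1 := (rel_iff D a b).1 hab
      have h2 := (rel_iff D b c).1 hbc
      refine (rel_iff D a c).2 ?_
      have h3 := trL_comp D c.left (c.left ≫ D.obj.hom) (b.left ≫ D.obj.hom)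
        (a.left ≫ D.obj.hom) rfl (hS D c b) (hS D b a)
      exact h3.symm.trans ((trL_congr D h2 rfl rfl _ _ _ _).trans h1)

end Groth.Agent.Lib.SchDDEffH7
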