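import Groth.Agent.Lib.SchDDEff1_helper7
import Groth.Agent.Lib.AlgSpSep_helper7

/-!
# Effective descent for separated locally quasi-finite schemes along fppf covers, part 2
(helper7)
-/

set_option autoImplicit false
set_option linter.style.haveILetI false
universe u
open CategoryTheory CategoryTheory.Limits AlgebraicGeometry Opposite MorphismProperty
open AlgSp Groth.Agent.Lib.AlgSpPoints_helper7
  Groth.Agent.Lib.AlgSpQC_helper7 Groth.Agent.Lib.AlgSpPullback_helper7
  Groth.Agent.Lib.AlgSpQuotEffH7 Groth.Agent.Lib.ShDescH7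
  Groth.Agent.Lib.AlgSpQC2_helper7 Groth.Agent.Lib.AlgSpSep_helper7
  Groth.Agent.Lib.AlgSpLocP4_helper7 Groth.Agent.Lib.AlgSpLocP7_helper7
  Groth.Agent.Lib.AlgSpBasic_helper7

namespace Groth.Agent.Lib.SchDDEffH7

variable {S : Scheme.{u}}

set_option backward.isDefEq.respectTransparency false in
/-- A separated locally quasi-finite morphism of schemes gives a morphism of sheaves
representable by algebraic spaces, separated and locally quasi-finite. -/
theorem repBySpWith_sep_lqf_yon_map {V' Z' : Over S} (v : V' ⟶ Z') (hsep : IsSeparated v.left)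
    (hqf : LocallyQuasiFinite v.left) (hft : LocallyOfFiniteType v.left) :
    RepBySpWith (IsSeparatedMor ⊓ LocP (@LocallyQuasiFinite ⊓ @LocallyOfFiniteType))
      ((yon S).map v).hom := by
  have r2 := (repWith_yon_map_iff @LocallyOfFiniteType v).2 hft
  have hL : LocP (@LocallyQuasiFinite ⊓ @LocallyOfFiniteType) ((yon S).map v) :=
    locP_of_one_chart etLocal_locallyQuasiFinite ((yon S).map v) (𝟙 _) (𝟙 _) v
      (repWith_id _ _) (repWith_id _ _) (repWith_id _ _)
      (by rw [Category.id_comp, Category.comp_id]) ⟨hqf, hft⟩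
  rw [repBySpWith_hom_iff]
  intro T ξ F'' fst snd sq
  have hF'' : IsAlgSpace F'' :=
    (repBySp_hom_iff _).1 (Representable.repBySp r2.rep) ξ fst snd sq
  exact ⟨hF'', isSeparatedMor_of_isPullback sq ((isSeparatedMor_yon_map_iff v).2 hsep),
    locP_baseChange etLocal_locallyQuasiFinite (IsAlgSpace.yon_obj _) (IsAlgSpace.yon_obj _)
      (IsAlgSpace.yon_obj _) _ ξ fst snd sq hL⟩

variable {X : Scheme.{u}} {p : X ⟶ S} (D : Desc.SchDD p)

set_option backward.isDefEq.respectTransparency false in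
/-- Descent data for separated locally quasi-finite schemes relative to an fppf cover are
effective. -/
theorem main9726 [Flat p] [Surjective p] [LocallyOfFinitePresentation p]
    [IsSeparated D.obj.hom] [LocallyQuasiFinite D.obj.hom] [LocallyOfFiniteType D.obj.hom] :
    ∃ U : Over S, Nonempty ((Desc.toDD p).obj U ≅ D) := by
  have hR := isEqvRel D
  obtain ⟨P, qP, sqR, hepi⟩ : ∃ (P : Sp S) (qP : (yon S).obj (Vs D) ⟶ P),
      IsPullback ((yon S).map (tE D)) ((yon S).map (sE D)) qP qP ∧ Epi qP :=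
    ⟨_, quotP (sE D) (tE D), isPullback_quot _ _ hR,
      (Sheaf.isLocallySurjective_iff_epi _).1 (isLocallySurjective_quotP _ _)⟩
  haveI := hepi
  -- the graph square
  have sqG := isPullback_graph sqR ((yon S).map (vs D))
  have htop : prod.lift ((yon S).map (sE D)) ((yon S).map (tE D) ≫ (yon S).map (vs D)) =
      prodComparison (yon S) (Vs D) (Xs p) := by
    rw [← Functor.map_comp, tE_vs]
    rfl
  haveI : IsIso (prod.lift ((yon S).map (sE D)) ((yon S).map (tE D) ≫ (yon S).map (vs D))) := by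
    rw [htop]
    infer_instance
  haveI : Epi (prod.map qP (𝟙 ((yon S).obj (Xs p)))) :=
    epi_snd_of_isPullback
      (Groth.Agent.Lib.AlgSpRepBySp_helper7.isPullback_prod_fst_map qP _)
  haveI hm : IsIso (prod.lift qP ((yon S).map (vs D))) := isIso_of_isPullback_of_epi sqG.flip
  -- the pullback square over the terminal object
  obtain ⟨pX, hpX⟩ : ∃ pX : Xs p ⟶ Over.mk (𝟙 S), pX.left = p :=
    ⟨Over.homMk p (by simp), rfl⟩
  have h0 := IsPullback.of_is_product' (prodIsProd P ((yon S).obj (Xs p)))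
    (isTerminalYonId (S := S))
  have sq : IsPullback ((yon S).map (vs D)) qP ((yon S).map pX) (isTerminalYonId.from P) := by
    have h1 : IsPullback qP ((yon S).map (vs D)) (isTerminalYonId.from P)
        (isTerminalYonId.from ((yon S).obj (Xs p))) := by
      refine IsPullback.of_iso h0 (asIso (prod.lift qP ((yon S).map (vs D)))).symm (Iso.refl _)
        (Iso.refl _) (Iso.refl _) ?_ ?_ ?_ ?_
      · rw [Iso.refl_hom, Category.comp_id, Iso.symm_hom, asIso_inv, IsIso.eq_inv_comp,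
          prod.lift_fst]
      · rw [Iso.refl_hom, Category.comp_id, Iso.symm_hom, asIso_inv, IsIso.eq_inv_comp,
          prod.lift_snd]
      · simp
      · simp
    have h2 : (yon S).map pX = isTerminalYonId.from ((yon S).obj (Xs p)) :=
      isTerminalYonId.hom_ext _ _
    rw [h2]
    exact h1.flip
  have hg := repBySpWith_fppf_yon_map pX (by rw [hpX]; infer_instance)
    (by rw [hpX]; infer_instance) (by rw [hpX]; infer_instance)
  have ha := repBySpWith_sep_lqf_yon_map (vs D) (inferInstanceAs (IsSeparated D.obj.hom))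
    (inferInstanceAs (LocallyQuasiFinite D.obj.hom))
    (inferInstanceAs (LocallyOfFiniteType D.obj.hom))
  have hb := (main10098 _ _ _ _ sq hg ha).1
  obtain ⟨W, snd', fst', sqW⟩ := hb.rep (𝟙 ((yon S).obj (Over.mk (𝟙 S))))
  haveI : IsIso fst' := sqW.isIso_fst_of_isIso
  obtain ⟨w, hw⟩ := (yon S).map_surjective (qP ≫ inv fst')
  have sqW2 : IsPullback ((yon S).map (vs D)) ((yon S).map w) ((yon S).map pX)
      ((yon S).map snd') := by
    rw [hw]
    have hs : (yon S).map snd' = fst' ≫ isTerminalYonId.from P := isTerminalYonId.hom_ext _ _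
    rw [hs]
    exact IsPullback.of_iso sq (Iso.refl _) (Iso.refl _) (asIso fst').symm (Iso.refl _)
      (by simp) (by simp) (by simp) (by simp)
  have sqW3 : IsPullback (vs D) w pX snd' := IsPullback.of_map (yon S)
    ((yon S).map_injective (by rw [Functor.map_comp, Functor.map_comp, sqW2.w])) sqW2
  have sqL : IsPullback D.obj.hom w.left p W.hom := by
    have h3 : IsPullback D.obj.hom w.left pX.left snd'.left := sqW3.map (Over.forget S)
    have hs : snd'.left = W.hom := by
      have := Over.w snd'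
      simpa using this
    rw [hs, hpX] at h3
    exact h3
  have hwco : tE D ≫ w = sE D ≫ w := by
    apply (yon S).map_injective
    rw [Functor.map_comp, Functor.map_comp, hw, ← Category.assoc, ← Category.assoc, sqR.w]
  obtain ⟨κ, hκ1, hκ2⟩ : ∃ κ : D.obj.left ≅ pullback p W.hom,
      κ.hom ≫ pullback.fst p W.hom = D.obj.hom ∧ κ.hom ≫ pullback.snd p W.hom = w.left :=
    ⟨sqL.isoPullback, sqL.isoPullback_hom_fst, sqL.isoPullback_hom_snd⟩
  have hcompat : ∀ ⦃T : Scheme.{u}⦄ (x₀ x₁ : T ⟶ X) (h : x₀ ≫ p = x₁ ≫ p)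
      (v : Desc.Lifts D.obj x₀), (D.φ x₀ x₁ h v).1 ≫ w.left = v.1 ≫ w.left := by
    intro T x₀ x₁ h v
    let T' : Over S := Over.mk (x₀ ≫ p)
    let a : T' ⟶ Vs D := Over.homMk v.1 (by
      show v.1 ≫ D.obj.hom ≫ p = x₀ ≫ p
      rw [← Category.assoc, v.2])
    let a' : T' ⟶ Vs D := Over.homMk (D.φ x₀ x₁ h v).1 (by
      show (D.φ x₀ x₁ h v).1 ≫ D.obj.hom ≫ p = x₀ ≫ p
      rw [← Category.assoc, (D.φ x₀ x₁ h v).2, h])
    have hrel : ∃ r : T' ⟶ Es D, r ≫ tE D = a' ∧ r ≫ sE D = a := by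
      refine (rel_iff D a' a).2 ?_
      show trL D v.1 (v.1 ≫ D.obj.hom) ((D.φ x₀ x₁ h v).1 ≫ D.obj.hom) rfl _ =
        (D.φ x₀ x₁ h v).1
      exact (trL_congr D rfl v.2 (D.φ x₀ x₁ h v).2 rfl _ v.2 h :
        _ = trL D v.1 x₀ x₁ v.2 h)
    obtain ⟨r, hr1, hr2⟩ := hrel
    have h4 : a' ≫ w = a ≫ w := by
      rw [← hr1, ← hr2, Category.assoc, Category.assoc, hwco]
    exact congrArg (fun k => k.left) h4
  -- the morphisms of descent data
  have Φcomm : ∀ ⦃T : Scheme.{u}⦄ (x₀ x₁ : T ⟶ X) (h : x₀ ≫ p = x₁ ≫ p)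
      (v : Desc.Lifts D.obj x₀) (w' : Desc.Lifts ((Desc.toDD p).obj W).obj x₀),
      w'.1 = v.1 ≫ κ.hom →
      (((Desc.toDD p).obj W).φ x₀ x₁ h w').1 = (D.φ x₀ x₁ h v).1 ≫ κ.hom := by
    intro T x₀ x₁ h v w' hw'
    show (Desc.canMap p W x₀ x₁ h w').1 = _
    rw [Desc.canMap_val]
    apply pullback.hom_ext
    · rw [pullback.lift_fst, Category.assoc, hκ1]
      exact (D.φ x₀ x₁ h v).2.symm
    · rw [pullback.lift_snd, Category.assoc, hκ2, hcompat, hw', Category.assoc, hκ2]
  let Φ : D ⟶ (Desc.toDD p).obj W := ⟨Over.homMk κ.hom hκ1, Φcomm⟩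
  have hκ3 : κ.inv ≫ D.obj.hom = pullback.fst p W.hom := by
    rw [← hκ1, Iso.inv_hom_id_assoc]
  let Ψ : (Desc.toDD p).obj W ⟶ D := ⟨Over.homMk κ.inv hκ3, fun T x₀ x₁ h v w' hw' => by
    have hv : v.1 = w'.1 ≫ κ.hom := by
      rw [hw']
      show v.1 = (v.1 ≫ κ.inv) ≫ κ.hom
      rw [Category.assoc, Iso.inv_hom_id, Category.comp_id]
    have := Φcomm x₀ x₁ h w' v hv
    rw [this]
    show _ = ((D.φ x₀ x₁ h w').1 ≫ κ.hom) ≫ κ.inv
    rw [Category.assoc, Iso.hom_inv_id, Category.comp_id]⟩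
  refine ⟨W, ⟨⟨Ψ, Φ, ?_, ?_⟩⟩⟩
  · apply Desc.SchDD.hom_ext
    apply Over.OverMorphism.ext
    show κ.inv ≫ κ.hom = 𝟙 _
    exact κ.inv_hom_id
  · apply Desc.SchDD.hom_ext
    apply Over.OverMorphism.ext
    show κ.hom ≫ κ.inv = 𝟙 _
    exact κ.hom_inv_id

end Groth.Agent.Lib.SchDDEffH7
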