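import Mathlib
import Groth.Agent.Lib.SchDeg1_helper9

/-!
# Degenerations of Schubert cones: the map from the polynomial ring on `H(w)` to the special fibre
(helper9)  APPEND-ONLY once landed.
-/

set_option autoImplicit false

universe u

namespace Groth.Agent.SchDeg9

open W4bk4grassmannian MvPolynomial Function Finset
open Groth.Agent.Straight9 (IsChainSupp deg Phi deg_add Phi_add deg_single Phi_single Phi_le wt)
open Groth.Agent.SMT9
open Groth.Agent.Rees9

variable {d n : ℕ} (K : Type u) [Field K] [Infinite K] (hd : 0 < d) (w : Idx d n)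
  (ν : Idx d n → ℕ) (hQ : QuadHyp K (schubertVanishing K d n w) ν)

include hQ in
/-- the class of a monomial lies in the step of the filtration given by its weight -/
lemma mono_mem (u : Below w →₀ ℕ) :
    Ideal.Quotient.mk (schubertVanishing K d n w) (monomial (up u) 1) ∈
      Fil (stdBasis K hd w) (fun u => Om ν (up u.1)) (Om ν (up u)) :=
  mk_mem_Fil K hd w ν _ _ (straighten K _ ν hQ _)

/-- the element `[X^u] t^(Ω u)` of the Rees algebra -/
noncomputable def mm (u : Below w →₀ ℕ) : rees (hyp K hd w ν hQ) :=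
  mon (hyp K hd w ν hQ) (Om ν (up u)) ⟨_, mono_mem K hd w ν hQ u⟩

lemma mon_congr {k k' : ℕ} (hk : k = k')
    {x x' : PlRing K d n ⧸ schubertVanishing K d n w} (hx : x = x')
    (h1 : x ∈ Fil (stdBasis K hd w) (fun u => Om ν (up u.1)) k)
    (h2 : x' ∈ Fil (stdBasis K hd w) (fun u => Om ν (up u.1)) k') :
    mon (hyp K hd w ν hQ) k ⟨x, h1⟩ = mon (hyp K hd w ν hQ) k' ⟨x', h2⟩ := by
  subst hk
  subst hx
  rfl

lemma mm_zero : mm K hd w ν hQ 0 = 1 := by
  apply Subtype.ext
  unfold mm
  rw [coe_mon]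
  have h1 : up (0 : Below w →₀ ℕ) = 0 := Finsupp.mapDomain_zero
  show Polynomial.monomial (Om ν (up 0)) (Ideal.Quotient.mk _ (monomial (up 0) 1)) = 1
  rw [h1, Om_zero, show (monomial (0 : Idx d n →₀ ℕ) (1 : K)) = 1 from rfl, map_one]
  rfl

lemma mm_add (u v : Below w →₀ ℕ) :
    mm K hd w ν hQ (u + v) = mm K hd w ν hQ u * mm K hd w ν hQ v := by
  unfold mm
  rw [mon_mul]
  apply mon_congr K hd w ν hQ
  · rw [up_add, Om_add]
  · rw [up_add, ← map_mul, monomial_mul, one_mul]

/-- the map from the polynomial ring on `H(w)` to the special fibre -/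
noncomputable def phi0 : MvPolynomial (Below w) K →ₐ[K]
    (rees (hyp K hd w ν hQ) ⧸
      Ideal.span {algebraMap (Polynomial K) (rees (hyp K hd w ν hQ)) Polynomial.X}) :=
  MvPolynomial.aeval fun θ => Ideal.Quotient.mk _ (mm K hd w ν hQ (Finsupp.single θ 1))

lemma phi0_monomial (u : Below w →₀ ℕ) :
    phi0 K hd w ν hQ (monomial u 1) = Ideal.Quotient.mk _ (mm K hd w ν hQ u) := by
  have hadd : ∀ u v : Below w →₀ ℕ,
      phi0 K hd w ν hQ (monomial u 1) = Ideal.Quotient.mk _ (mm K hd w ν hQ u) →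
      phi0 K hd w ν hQ (monomial v 1) = Ideal.Quotient.mk _ (mm K hd w ν hQ v) →
      phi0 K hd w ν hQ (monomial (u + v) 1) = Ideal.Quotient.mk _ (mm K hd w ν hQ (u + v)) := by
    intro u v hu hv
    rw [mm_add, map_mul, ← hu, ← hv, ← map_mul, monomial_mul, one_mul]
  have hzero : phi0 K hd w ν hQ (monomial 0 1) = Ideal.Quotient.mk _ (mm K hd w ν hQ 0) := by
    rw [mm_zero, show (monomial (0 : Below w →₀ ℕ) (1 : K)) = 1 from rfl, map_one, map_one]
  induction u using Finsupp.induction_linear with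
  | zero => exact hzero
  | add u v hu hv => exact hadd u v hu hv
  | single θ k =>
    induction k with
    | zero =>
      rw [Finsupp.single_zero]
      exact hzero
    | succ k ih =>
      have h1 : (Finsupp.single θ (k + 1) : Below w →₀ ℕ) =
          Finsupp.single θ k + Finsupp.single θ 1 := by
        rw [← Finsupp.single_add]
      rw [h1]
      apply hadd _ _ ih
      unfold phi0
      show MvPolynomial.aeval _ (X θ) = _
      rw [aeval_X]

/-- the class of `x t^(k+1)` in the special fibre vanishes when `x` has weight `≤ k` -/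
lemma mk_mon_succ (k : ℕ) (x : PlRing K d n ⧸ schubertVanishing K d n w)
    (hx : x ∈ Fil (stdBasis K hd w) (fun u => Om ν (up u.1)) k)
    (hx' : x ∈ Fil (stdBasis K hd w) (fun u => Om ν (up u.1)) (k + 1)) :
    Ideal.Quotient.mk
      (Ideal.span {algebraMap (Polynomial K) (rees (hyp K hd w ν hQ)) Polynomial.X})
      (mon (hyp K hd w ν hQ) (k + 1) ⟨x, hx'⟩) = 0 := by
  rw [Ideal.Quotient.eq_zero_iff_mem, Ideal.mem_span_singleton']
  refine ⟨mon (hyp K hd w ν hQ) k ⟨x, hx⟩, ?_⟩
  have h1 := X_pow_smul_mon (hyp K hd w ν hQ) 1 k ⟨x, hx⟩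
  rw [pow_one, Algebra.smul_def] at h1
  rw [mul_comm, h1]

/-- the standard monomials of the polynomial ring on `H(w)` and their images -/
lemma phi0_std (u : StdB w) :
    phi0 K hd w ν hQ (monomial u.1 1) = Ideal.Quotient.mk _ (e (hyp K hd w ν hQ) u) := by
  rw [phi0_monomial]
  congr 1
  unfold mm e
  apply mon_congr K hd w ν hQ
  · rfl
  · rw [stdBasis_apply]

end Groth.Agent.SchDeg9
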