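import Mathlib
import Groth.Agent.Lib.SchDeg2_helper9

/-!
# Degeneration of a Schubert cone to the Stanley–Reisner ring of `H(w)` (helper9)
APPEND-ONLY once landed.
-/

set_option autoImplicit false

universe u

namespace Groth.Agent.SchDeg9

open W4bk4grassmannian MvPolynomial Function Finset
open Groth.Agent.Straight9 (IsChainSupp deg Phi deg_add Phi_add deg_single Phi_single Phi_le wt
  wt_le rel_eq term_cases sq_add_sq_lt S0)
open Groth.Agent.SMT9
open Groth.Agent.Rees9

variable {d n : ℕ}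

lemma exists_sub_pair {σ : Type*} [DecidableEq σ] (u : σ →₀ ℕ) (a b : σ) (hab : a ≠ b)
    (ha : a ∈ u.support) (hb : b ∈ u.support) :
    ∃ u0 : σ →₀ ℕ, u = u0 + (Finsupp.single a 1 + Finsupp.single b 1) := by
  have hle : Finsupp.single a 1 + Finsupp.single b 1 ≤ u := by
    rw [Finsupp.le_def]
    intro c
    have hi' : 1 ≤ u a := Nat.one_le_iff_ne_zero.2 (Finsupp.mem_support_iff.1 ha)
    have hj' : 1 ≤ u b := Nat.one_le_iff_ne_zero.2 (Finsupp.mem_support_iff.1 hb)
    simp only [Finsupp.add_apply, Finsupp.single_apply]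
    by_cases e1 : a = c
    · subst e1
      rw [if_pos rfl, if_neg (fun h => hab h.symm)]
      simpa using hi'
    · by_cases e2 : b = c
      · subst e2
        rw [if_neg e1, if_pos rfl]
        simpa using hj'
      · rw [if_neg e1, if_neg e2]
        simp
  exact ⟨_, (tsub_add_cancel_of_le hle).symm⟩

/-- the Stanley–Reisner weight of a Plücker coordinate -/
def nuSR (θ : Idx d n) : ℕ := (d * n) ^ 2 + 1 - wt θ.1 ^ 2

lemma nuSR_add (a b : Idx d n) :
    nuSR a + nuSR b + (wt a.1 ^ 2 + wt b.1 ^ 2) = 2 * ((d * n) ^ 2 + 1) := by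
  unfold nuSR
  have h1 := Nat.pow_le_pow_left (wt_le a.1) 2
  have h2 := Nat.pow_le_pow_left (wt_le b.1) 2
  omega

variable (K : Type u) [Field K]

lemma pair_monomial (a b : Idx d n) : (X a * X b : PlRing K d n) =
    monomial (Finsupp.single a 1 + Finsupp.single b 1) 1 := by
  show monomial (Finsupp.single a 1) (1 : K) * monomial (Finsupp.single b 1) 1 = _
  rw [monomial_mul, one_mul]

theorem quad_SR (J : Ideal (PlRing K d n)) (hJ : plIdealTop (d := d) (n := n) K ≤ J)
    (τ φ : Idx d n) (h1 : ¬ τ ≤ φ) (h2 : ¬ φ ≤ τ) :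
    (X τ * X φ : PlRing K d n) ∈ Submodule.span K {f | ∃ v : Idx d n →₀ ℕ, deg v = 2 ∧
      Om nuSR v < nuSR τ + nuSR φ ∧ f = monomial v 1} ⊔ J.restrictScalars K := by
  classical
  obtain ⟨i, j, hij, hji, hw, hX, hν⟩ : ∃ i j : Idx d n, ¬ i ≤ j ∧ ¬ j ≤ i ∧ wt j.1 ≤ wt i.1 ∧
      (X τ * X φ : PlRing K d n) = X i * X j ∧ nuSR τ + nuSR φ = nuSR i + nuSR j := by
    rcases le_total (wt φ.1) (wt τ.1) with h | h
    · exact ⟨τ, φ, h1, h2, h, rfl, rfl⟩
    · exact ⟨φ, τ, h2, h1, h, mul_comm _ _, add_comm _ _⟩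
  rw [hX, hν]
  have hex : (univ.filter fun t : Fin d => i.1 t < j.1 t).Nonempty := by
    by_contra hne
    rw [Finset.not_nonempty_iff_eq_empty, Finset.filter_eq_empty_iff] at hne
    apply hji
    intro t
    exact not_lt.1 (hne (mem_univ t))
  obtain ⟨r, hrdef⟩ : ∃ r, r = (univ.filter fun t : Fin d => i.1 t < j.1 t).min' hex := ⟨_, rfl⟩
  have hr : i.1 r < j.1 r := by
    rw [hrdef]
    exact (Finset.mem_filter.1 (Finset.min'_mem _ hex)).2
  have hp : IsPivot i j r := by
    refine ⟨fun t ht => ?_, hr⟩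
    by_contra hlt
    have hmem : t ∈ univ.filter fun t : Fin d => i.1 t < j.1 t :=
      Finset.mem_filter.2 ⟨mem_univ _, not_le.1 hlt⟩
    have := Finset.min'_le _ t hmem
    rw [← hrdef] at this
    exact absurd this (not_le.2 ht)
  obtain ⟨M, hM⟩ : ∃ M : Submodule K (PlRing K d n), M =
      Submodule.span K {f | ∃ v : Idx d n →₀ ℕ, deg v = 2 ∧
        Om nuSR v < nuSR i + nuSR j ∧ f = monomial v 1} ⊔ J.restrictScalars K := ⟨_, rfl⟩
  rw [← hM]
  have hneg : ∀ (k : ℕ) (f : PlRing K d n), f ∈ M → (-1 : PlRing K d n) ^ k * f ∈ M := by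
    intro k f hf
    rcases neg_one_pow_eq_or (PlRing K d n) k with h | h
    · rw [h, one_mul]
      exact hf
    · rw [h, neg_one_mul]
      exact M.neg_mem hf
  rw [rel_eq i j r K]
  apply hneg
  apply Submodule.sub_mem
  · rw [hM]
    apply Submodule.mem_sup_right
    exact hJ (Ideal.subset_span ⟨i, j, r, hp, rfl⟩)
  · apply Submodule.sum_mem
    intro S hS
    have hSne : S ≠ S0 r := (Finset.mem_erase.1 hS).1
    rcases term_cases i j r K hp S hSne with h0 | ⟨a, b, hab, hwa, hwab⟩
    · rw [h0]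
      exact Submodule.zero_mem _
    · have hmem : (X a * X b : PlRing K d n) ∈ M := by
        rw [hM]
        apply Submodule.mem_sup_left
        apply Submodule.subset_span
        refine ⟨Finsupp.single a 1 + Finsupp.single b 1, ?_, ?_, pair_monomial K a b⟩
        · rw [deg_add, deg_single, deg_single]
        · rw [Om_add, Om_single, Om_single]
          have hlt := sq_add_sq_lt hwa hwab hw
          have e1 := nuSR_add a b
          have e2 := nuSR_add i j
          omega
      rcases hab with h | h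
      · rw [h]
        exact hmem
      · rw [h]
        exact M.neg_mem hmem

theorem quadHyp_SR (J : Ideal (PlRing K d n)) (hJ : plIdealTop (d := d) (n := n) K ≤ J) :
    QuadHyp K J nuSR := by
  intro τ φ h1 h2
  have hle : Submodule.span K {f : PlRing K d n | ∃ v : Idx d n →₀ ℕ, deg v = 2 ∧
      Om nuSR v < nuSR τ + nuSR φ ∧ f = monomial v 1} ⊔ J.restrictScalars K ≤
      Submodule.span K {f | ∃ v : Idx d n →₀ ℕ, deg v = 2 ∧ Om nuSR v ≤ nuSR τ + nuSR φ ∧
        (Om nuSR v < nuSR τ + nuSR φ ∨ wt τ.1 ^ 2 + wt φ.1 ^ 2 < Phi v) ∧ f = monomial v 1} ⊔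
        J.restrictScalars K := by
    apply sup_le_sup_right
    apply Submodule.span_mono
    rintro f ⟨v, hv, hlt, rfl⟩
    exact ⟨v, hv, hlt.le, Or.inl hlt, rfl⟩
  exact hle (quad_SR K J hJ τ φ h1 h2)

/-- a combination of monomials of weight `< k + 1` is standard of weight `≤ k` modulo `J` -/
lemma span_lt_le (J : Ideal (PlRing K d n)) (ν : Idx d n → ℕ) (hQ : QuadHyp K J ν) (k : ℕ) :
    Submodule.span K {f : PlRing K d n | ∃ v : Idx d n →₀ ℕ, deg v = 2 ∧
      Om ν v < k + 1 ∧ f = monomial v 1} ⊔ J.restrictScalars K ≤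
      T K ν k ⊔ J.restrictScalars K := by
  apply sup_le
  · rw [Submodule.span_le]
    rintro f ⟨v, -, hlt, rfl⟩
    exact (sup_le_sup_right (T_mono K ν (Nat.lt_succ_iff.1 hlt)) _) (straighten K J ν hQ v)
  · exact le_sup_right

section Fibre

variable [Infinite K] (hd : 0 < d) (w : Idx d n)
  (ν : Idx d n → ℕ) (hQ : QuadHyp K (schubertVanishing K d n w) ν)

lemma up_pair (a b : Below w) : up (Finsupp.single a 1 + Finsupp.single b 1) =
    Finsupp.single a.1 1 + Finsupp.single b.1 1 := by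
  rw [up_add, up_single, up_single]

/-- the image of a product of two variables -/
lemma phi0_pair (a b : Below w) (k : ℕ) (hk : k = ν a.1 + ν b.1)
    (hmem : Ideal.Quotient.mk (schubertVanishing K d n w) (X a.1 * X b.1) ∈
      Fil (stdBasis K hd w) (fun u => Om ν (up u.1)) k) :
    phi0 K hd w ν hQ (X a * X b) = Ideal.Quotient.mk _
      (mon (hyp K hd w ν hQ) k ⟨_, hmem⟩) := by
  have h1 : (X a * X b : MvPolynomial (Below w) K) =
      monomial (Finsupp.single a 1 + Finsupp.single b 1) 1 := by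
    show monomial (Finsupp.single a 1) (1 : K) * monomial (Finsupp.single b 1) 1 = _
    rw [monomial_mul, one_mul]
  rw [h1, phi0_monomial]
  congr 1
  unfold mm
  apply mon_congr K hd w ν hQ
  · rw [up_pair, Om_add, Om_single, Om_single, hk]
  · rw [up_pair, pair_monomial]

lemma not_chain_exists (u : Below w →₀ ℕ) (hu : ¬ IsChainSupp (up u)) :
    ∃ (a b : Below w) (u0 : Below w →₀ ℕ), ¬ a ≤ b ∧ ¬ b ≤ a ∧
      u = u0 + (Finsupp.single a 1 + Finsupp.single b 1) := by
  classical
  unfold IsChainSupp at hu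
  push Not at hu
  obtain ⟨θ, hθ, φ, hφ, h1, h2⟩ := hu
  obtain ⟨a, ha, rfl⟩ := support_up u θ hθ
  obtain ⟨b, hb, rfl⟩ := support_up u φ hφ
  have hab : a ≠ b := by
    rintro rfl
    exact h1 (le_refl _)
  obtain ⟨u0, hu0⟩ := exists_sub_pair u a b hab ha hb
  exact ⟨a, b, u0, h1, h2, hu0⟩

end Fibre

/-- the cone over a Schubert variety degenerates to the Stanley–Reisner ring of `H(w)` -/
theorem sr_main [Infinite K] (hd : 0 < d) (w : Idx d n) :
    ∃ (R : Type u) (_ : CommRing R) (_ : Algebra K R) (_ : Algebra (Polynomial K) R)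
      (_ : IsScalarTower K (Polynomial K) R),
      Module.Free (Polynomial K) R ∧
      Nonempty ((R ⧸ Ideal.span {algebraMap (Polynomial K) R Polynomial.X}) ≃ₐ[K]
        (MvPolynomial (Below w) K ⧸ srIdeal K w)) ∧
      ∀ c : K, c ≠ 0 →
        Nonempty ((R ⧸ Ideal.span {algebraMap (Polynomial K) R
          (Polynomial.X - Polynomial.C c)}) ≃ₐ[K]
          (PlRing K d n ⧸ schubertVanishing K d n w)) := by
  classical
  have hQ : QuadHyp K (schubertVanishing K d n w) nuSR :=
    quadHyp_SR K _ (plIdealTop_le K w)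
  refine ⟨rees (hyp K hd w nuSR hQ), inferInstance, inferInstance, instAlg _, instTower _,
    free _, ⟨?_⟩, fun c hc => ⟨fibreEquiv _ c hc⟩⟩
  have hker : ∀ f ∈ srIdeal K w, phi0 K hd w nuSR hQ f = 0 := by
    intro f hf
    have hle : srIdeal K w ≤ RingHom.ker (phi0 K hd w nuSR hQ) := by
      unfold srIdeal
      rw [Ideal.span_le]
      rintro f ⟨a, b, hab, hba, rfl⟩
      rw [SetLike.mem_coe, RingHom.mem_ker]
      have hpos : 1 ≤ nuSR a.1 + nuSR b.1 := by
        have h1 := Nat.pow_le_pow_left (wt_le a.1.1) 2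
        unfold nuSR
        omega
      obtain ⟨k, hk⟩ : ∃ k, k + 1 = nuSR a.1 + nuSR b.1 := ⟨nuSR a.1 + nuSR b.1 - 1, by omega⟩
      have hq := quad_SR K (schubertVanishing K d n w) (plIdealTop_le K w) a.1 b.1 hab hba
      rw [← hk] at hq
      have hq2 := span_lt_le K _ nuSR hQ k hq
      have hmem := mk_mem_Fil K hd w nuSR k _ hq2
      rw [phi0_pair K hd w nuSR hQ a b (k + 1) hk
        (Fil_mono _ _ (Nat.le_succ k) hmem)]
      exact mk_mon_succ K hd w nuSR hQ k _ hmem _
    exact RingHom.mem_ker.1 (hle hf)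
  have hbij := fibre_zero_bijective (hyp K hd w nuSR hQ)
    (Ideal.Quotient.liftₐ (srIdeal K w) (phi0 K hd w nuSR hQ) hker)
    (fun u : StdB w => Ideal.Quotient.mk (srIdeal K w) (monomial u.1 1)) ?_ ?_
  · exact (AlgEquiv.ofBijective _ hbij).symm
  · rw [eq_top_iff]
    rintro x -
    obtain ⟨f, rfl⟩ := Ideal.Quotient.mk_surjective x
    rw [f.as_sum, map_sum]
    apply Submodule.sum_mem
    intro u _
    have h1 : monomial u (coeff u f) = coeff u f • monomial u (1 : K) := by
      rw [smul_monomial, smul_eq_mul, mul_one]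
    have h2 : Ideal.Quotient.mk (srIdeal K w) (coeff u f • monomial u (1 : K)) =
        coeff u f • Ideal.Quotient.mk (srIdeal K w) (monomial u (1 : K)) :=
      map_smul (Ideal.Quotient.mkₐ K (srIdeal K w)) _ _
    rw [h1, h2]
    apply Submodule.smul_mem
    by_cases hc : IsChainSupp (up u)
    · exact Submodule.subset_span ⟨⟨u, hc⟩, rfl⟩
    · obtain ⟨a, b, u0, hab, hba, rfl⟩ := not_chain_exists w u hc
      have h3 : monomial (u0 + (Finsupp.single a 1 + Finsupp.single b 1)) (1 : K) ∈
          srIdeal K w := by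
        have h4 : monomial (u0 + (Finsupp.single a 1 + Finsupp.single b 1)) (1 : K) =
            monomial u0 1 * (X a * X b) := by
          show _ = monomial u0 (1 : K) * (monomial (Finsupp.single a 1) (1 : K) *
            monomial (Finsupp.single b 1) 1)
          rw [monomial_mul, monomial_mul, one_mul, one_mul]
        rw [h4]
        apply Ideal.mul_mem_left
        exact Ideal.subset_span ⟨a, b, hab, hba, rfl⟩
      rw [Ideal.Quotient.eq_zero_iff_mem.2 h3]
      exact Submodule.zero_mem _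
  · intro u
    rw [Ideal.Quotient.liftₐ_apply, Ideal.Quotient.lift_mk]
    exact phi0_std K hd w nuSR hQ u

end Groth.Agent.SchDeg9
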