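import Mathlib
import Groth.Agent.Lib.StrShape2_helper9

/-!
# Shape of the straightening relation of a skew pair: lexicographic version (helper9)
APPEND-ONLY once landed.
-/

set_option autoImplicit false

universe u

namespace Groth.Agent.StrShape9

open W4bk4grassmannian MvPolynomial Function Finset
open scoped MonomialOrder
open Groth.Agent.Straight9 (IsChainSupp deg deg_add deg_single deg_eq_zero)
open Groth.Agent.SMTIndep9
open Groth.Agent.SMT9
open Groth.Agent.FFT9

variable {d n : ℕ} (K : Type u) [Field K]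

theorem lead_max (hd : 0 < d) (w : Idx d n) (s : PlRing K d n)
    (hs : ∀ u ∈ s.support, IsChainSupp u ∧ ∀ θ ∈ u.support, θ ≤ w) (hne : s ≠ 0) :
    ∃ u0 ∈ s.support, (ord d n).degree (rho K w s) = Eexp u0 ∧
      coeff (Eexp u0) (rho K w s) = coeff u0 s ∧
      ∀ u ∈ s.support, (ord d n).toSyn (Eexp u) ≤ (ord d n).toSyn (Eexp u0) := by
  have hsupp : s.support.Nonempty := by
    rwa [Finset.nonempty_iff_ne_empty, Ne, MvPolynomial.support_eq_empty]
  obtain ⟨u0, hu0, hmax⟩ :=
    Finset.exists_max_image s.support (fun u => (ord d n).toSyn (Eexp u)) hsupp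
  have hmon : ∀ u : Idx d n →₀ ℕ, rho K w (monomial u (coeff u s)) =
      coeff u s • rho K w (monomial u (1 : K)) := by
    intro u
    rw [← map_smul, smul_monomial, smul_eq_mul, mul_one]
  have hsum : rho K w s = ∑ u ∈ s.support, coeff u s • rho K w (monomial u (1 : K)) := by
    conv_lhs => rw [s.as_sum]
    rw [map_sum]
    exact Finset.sum_congr rfl (fun u _ => hmon u)
  have hcoeff : coeff (Eexp u0) (rho K w s) = coeff u0 s := by
    rw [hsum, coeff_sum, Finset.sum_eq_single u0]
    · obtain ⟨hm, hdg⟩ := rho_monomial_monic K w u0 (hs u0 hu0).2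
      have h1 := hm.coeff_degree
      rw [hdg] at h1
      rw [coeff_smul, h1, smul_eq_mul, mul_one]
    · intro u hu hne'
      obtain ⟨hm, hdg⟩ := rho_monomial_monic K w u (hs u hu).2
      rw [coeff_smul, MonomialOrder.coeff_eq_zero_of_lt (m := ord d n), smul_zero]
      rw [hdg]
      apply lt_of_le_of_ne (hmax u hu)
      intro heq
      apply hne'
      exact Eexp_injective hd _ u u0 rfl (hs u hu).1 (hs u0 hu0).1
        ((ord d n).toSyn.injective heq)
    · intro h
      exact absurd hu0 h
  have hne0 : coeff (Eexp u0) (rho K w s) ≠ 0 := by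
    rw [hcoeff]
    exact MvPolynomial.mem_support_iff.1 hu0
  refine ⟨u0, hu0, ?_, hcoeff, hmax⟩
  apply (ord d n).toSyn.injective
  apply le_antisymm
  · rw [hsum]
    refine le_trans MonomialOrder.degree_sum_le ?_
    apply Finset.sup_le
    intro u hu
    refine le_trans MonomialOrder.degree_smul_le ?_
    rw [(rho_monomial_monic K w u (hs u hu).2).2]
    exact hmax u hu
  · exact MonomialOrder.le_degree (MvPolynomial.mem_support_iff.2 hne0)

theorem main_lex [Infinite K] (hd : 0 < d) (hdn : d ≤ n) (τ φ : Idx d n) :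
    ∃ g ∈ Submodule.span K {f : PlRing K d n | ∃ α β : Idx d n,
        β ≤ α ∧ (ord d n).toSyn (Eexp (Finsupp.single α 1 + Finsupp.single β 1)) <
          (ord d n).toSyn (Eexp (Finsupp.single τ 1 + Finsupp.single φ 1)) ∧
          f = MvPolynomial.X α * MvPolynomial.X β},
      MvPolynomial.X τ * MvPolynomial.X φ -
          MvPolynomial.X (W4bk4grassmannian.sup τ φ) * MvPolynomial.X (W4bk4grassmannian.inf τ φ) - g ∈
        plIdealTop (d := d) (n := n) K := by
  obtain ⟨uτφ, huτφ⟩ : ∃ uτφ : Idx d n →₀ ℕ, uτφ = Finsupp.single τ 1 + Finsupp.single φ 1 :=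
    ⟨_, rfl⟩
  obtain ⟨ustar, hustar⟩ : ∃ ustar : Idx d n →₀ ℕ, ustar =
      Finsupp.single (W4bk4grassmannian.sup τ φ) 1 + Finsupp.single (W4bk4grassmannian.inf τ φ) 1 :=
    ⟨_, rfl⟩
  have hXX : (X τ * X φ : PlRing K d n) = monomial uτφ 1 := by
    rw [huτφ]
    show monomial (Finsupp.single τ 1) (1 : K) * monomial (Finsupp.single φ 1) 1 = _
    rw [monomial_mul, one_mul]
  have hXX' : (X (W4bk4grassmannian.sup τ φ) * X (W4bk4grassmannian.inf τ φ) : PlRing K d n) =
      monomial ustar 1 := by
    rw [hustar]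
    show monomial (Finsupp.single _ 1) (1 : K) * monomial (Finsupp.single _ 1) 1 = _
    rw [monomial_mul, one_mul]
  obtain ⟨s, h, hsum, hh, hs⟩ := exists_std (X τ * X φ : PlRing K d n)
  -- content
  have hcontent : ∀ u ∈ s.support, ∀ y : Fin n, cnt y u = cnt y uτφ := by
    intro u₁ hu₁ y
    by_contra hne
    obtain ⟨x, hx⟩ : ∃ x : K, x ^ cnt y u₁ ≠ x ^ cnt y uτφ := exists_pow_ne K hne
    obtain ⟨G, hG⟩ : ∃ G, G = T K y x s - C (x ^ cnt y uτφ) * s := ⟨_, rfl⟩
    have hGmem : G ∈ vanishing K d n := by
      have h1 : T K y x (X τ * X φ) = C (x ^ cnt y uτφ) * (X τ * X φ) := by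
        rw [hXX, T_monomial, C_mul_monomial]
      have h2 : G = C (x ^ cnt y uτφ) * h - T K y x h := by
        rw [hG]
        have h3 : T K y x (s + h) = C (x ^ cnt y uτφ) * (s + h) := by
          rw [← hsum]
          exact h1
        rw [map_add, mul_add] at h3
        linear_combination h3
      rw [h2]
      exact Ideal.sub_mem _ (Ideal.mul_mem_left _ _ (plIdealTop_le_vanishing K hh))
        (T_mem_vanishing K y x h (plIdealTop_le_vanishing K hh))
    have hGcoeff : ∀ v, coeff v G = (x ^ cnt y v - x ^ cnt y uτφ) * coeff v s := by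
      intro v
      rw [hG, coeff_sub, coeff_C_mul, coeff_T, sub_mul]
    have hG0 : G = 0 := by
      apply indep K hd (wtop hdn) G _ (vanishing_le K _ hGmem)
      intro v hv
      have hvs : v ∈ s.support := by
        rw [MvPolynomial.mem_support_iff] at hv ⊢
        intro h0
        apply hv
        rw [hGcoeff, h0, mul_zero]
      exact ⟨hs v hvs, fun θ _ => le_wtop hdn θ⟩
    have h4 := hGcoeff u₁
    rw [hG0, coeff_zero] at h4
    rcases mul_eq_zero.1 h4.symm with h0 | h0
    · exact hx (sub_eq_zero.1 h0)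
    · exact (MvPolynomial.mem_support_iff.1 hu₁) h0
  have hdeg : ∀ u ∈ s.support, deg u = 2 := by
    intro u hu
    have h1 := sum_cnt u
    have h2 := sum_cnt uτφ
    have h3 : ∑ y : Fin n, cnt y u = ∑ y : Fin n, cnt y uτφ :=
      Finset.sum_congr rfl (fun y _ => hcontent u hu y)
    have h4 : deg uτφ = 2 := by
      rw [huτφ, deg_add, deg_single, deg_single]
    rw [h1, h2, h4] at h3
    exact Nat.eq_of_mul_eq_mul_left hd h3
  have hge : ∀ u ∈ s.support, ∀ α β : Idx d n, β ≤ α →
      u = Finsupp.single α 1 + Finsupp.single β 1 → τ ≤ α ∧ φ ≤ α := by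
    intro u hu α β hβα hueq
    have key : (X τ * X φ : PlRing K d n) ∈ schubertVanishing K d n α → False := by
      intro hXψ
      have hsmem : s ∈ schubertVanishing K d n α := by
        have h1 : s = X τ * X φ - h := by
          rw [hsum]
          ring
        rw [h1]
        exact Ideal.sub_mem _ hXψ (plIdealTop_le K α hh)
      obtain ⟨θ, hθ, hθα⟩ := no_std_of_mem K hd α s hs hsmem u hu
      apply hθα
      rw [hueq, Finsupp.mem_support_iff, Finsupp.add_apply, Finsupp.single_apply,
        Finsupp.single_apply] at hθ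
      by_cases h1 : α = θ
      · rw [← h1]
      · rw [if_neg h1] at hθ
        by_cases h2 : β = θ
        · rw [← h2]
          exact hβα
        · rw [if_neg h2] at hθ
          exact absurd rfl hθ
    constructor
    · by_contra hnot
      exact key (Ideal.mul_mem_right _ _ (X_mem K α τ hnot))
    · by_contra hnot
      exact key (Ideal.mul_mem_left _ _ (X_mem K α φ hnot))
  -- leading coefficient
  have hρ : rho K (wtop hdn) s = rho K (wtop hdn) (monomial uτφ 1) := by
    rw [← hXX, hsum, map_add, rho_eq_zero_of_mem K (wtop hdn) h (plIdealTop_le K _ hh), add_zero]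
  have hEE : Eexp uτφ = Eexp ustar := by
    rw [huτφ, hustar, Eexp_add, Eexp_add, Eexp_single, Eexp_single, Eexp_single, Eexp_single,
      mexp_sup_inf]
  obtain ⟨hmonic, hdegρ⟩ := rho_monomial_monic K (wtop hdn) uτφ (fun θ _ => le_wtop hdn θ)
  have hsne : s ≠ 0 := by
    intro hs0
    rw [hs0, map_zero] at hρ
    exact hmonic.ne_zero hρ.symm
  obtain ⟨u0, hu0, hdeg0, hcoef0, hmax0⟩ := lead_max K hd (wtop hdn) s
    (fun u hu => ⟨hs u hu, fun θ _ => le_wtop hdn θ⟩) hsne
  have hinfsup : W4bk4grassmannian.inf τ φ ≤ W4bk4grassmannian.sup τ φ :=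
    fun t => le_trans (min_le_left _ _) (le_max_left _ _)
  have hu0eq : u0 = ustar := by
    apply Eexp_injective hd _ u0 ustar rfl (hs u0 hu0)
    · rw [hustar]
      exact chain_pair hinfsup
    · rw [← hdeg0, hρ, hdegρ, hEE]
  have hcoefstar : coeff ustar s = 1 := by
    rw [← hu0eq, ← hcoef0, ← hdeg0, hρ]
    exact hmonic.coeff_degree
  refine ⟨s - monomial ustar 1, ?_, ?_⟩
  · have hmem : ustar ∈ s.support := by
      rw [MvPolynomial.mem_support_iff, hcoefstar]
      exact one_ne_zero
    have hs_sum : s - monomial ustar 1 = ∑ u ∈ s.support.erase ustar, monomial u (coeff u s) := by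
      conv_lhs => rw [s.as_sum]
      rw [← Finset.add_sum_erase _ _ hmem, hcoefstar]
      exact add_sub_cancel_left _ _
    rw [hs_sum]
    apply Submodule.sum_mem
    intro u hu
    obtain ⟨hune, hus⟩ := Finset.mem_erase.1 hu
    obtain ⟨α, β, hβα, hueq⟩ := exists_pair (hs u hus) (hdeg u hus)
    have hlex : (ord d n).toSyn (Eexp u) < (ord d n).toSyn (Eexp ustar) := by
      apply lt_of_le_of_ne
      · rw [← hu0eq]
        exact hmax0 u hus
      · intro heq
        apply hune
        exact Eexp_injective hd _ u ustar rfl (hs u hus) (by rw [hustar]; exact chain_pair hinfsup)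
          ((ord d n).toSyn.injective heq)
    have hmono : monomial u (coeff u s) = coeff u s • (X α * X β : PlRing K d n) := by
      have h1 : (X α * X β : PlRing K d n) = monomial u 1 := by
        rw [hueq]
        show monomial (Finsupp.single α 1) (1 : K) * monomial (Finsupp.single β 1) 1 = _
        rw [monomial_mul, one_mul]
      rw [h1, smul_monomial, smul_eq_mul, mul_one]
    rw [hmono]
    refine Submodule.smul_mem _ _ (Submodule.subset_span ⟨α, β, hβα, ?_, rfl⟩)
    rw [← hueq, ← huτφ, hEE]
    exact hlex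
  · have h1 : X τ * X φ - X (W4bk4grassmannian.sup τ φ) * X (W4bk4grassmannian.inf τ φ) -
        (s - monomial ustar 1) = h := by
      rw [hXX', hsum]
      ring
    rw [h1]
    exact hh

end Groth.Agent.StrShape9
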