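import Mathlib
import Groth.Agent.Lib.SchDeg3_helper9
import Groth.Agent.Lib.StrShape3_helper9
import Groth.Agent.Lib.LexWt_helper9

/-!
# Degeneration of a Schubert cone to the Hibi ring of `H(w)` (helper9)
APPEND-ONLY once landed.
-/

set_option autoImplicit false

universe u

namespace Groth.Agent.SchDeg9

open W4bk4grassmannian MvPolynomial Function Finset
open Groth.Agent.Straight9 (IsChainSupp deg Phi deg_add Phi_add deg_single Phi_single Phi_le wt
  wt_le wt_lt_of_lt sq_add_sq_lt)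
open Groth.Agent.SMT9
open Groth.Agent.Rees9
open Groth.Agent.SMTIndep9 (Var ord mexp Eexp Eexp_add Eexp_single mexp_apply)
open Groth.Agent.StrShape9 (main_lex mexp_sup_inf)
open Groth.Agent.LexWt9

variable {d n : ℕ}

/-- the Hibi weight of a Plücker coordinate -/
noncomputable def nuH (θ : Idx d n) : ℕ := wgt (mexp θ) + 1

lemma Om_pair_H (a b : Idx d n) : Om nuH (Finsupp.single a 1 + Finsupp.single b 1) =
    wgt (Eexp (Finsupp.single a 1 + Finsupp.single b 1)) + 2 := by
  rw [Om_add, Om_single, Om_single, Eexp_add, Eexp_single, Eexp_single, wgt_add]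
  unfold nuH
  omega

lemma nuH_pair (a b : Idx d n) : nuH a + nuH b =
    wgt (Eexp (Finsupp.single a 1 + Finsupp.single b 1)) + 2 := by
  rw [← Om_pair_H, Om_add, Om_single, Om_single]

lemma Eexp_pair_le (a b : Idx d n) (x : Var d n) :
    Eexp (Finsupp.single a 1 + Finsupp.single b 1) x ≤ 2 := by
  obtain ⟨⟨i, t⟩, rfl⟩ := toLex.surjective x
  rw [Eexp_add, Eexp_single, Eexp_single, Finsupp.add_apply, mexp_apply, mexp_apply]
  split_ifs <;> omega

lemma nuH_sup_inf (τ φ : Idx d n) :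
    nuH (W4bk4grassmannian.sup τ φ) + nuH (W4bk4grassmannian.inf τ φ) = nuH τ + nuH φ := by
  unfold nuH
  have h1 := congrArg wgt (mexp_sup_inf τ φ)
  rw [wgt_add, wgt_add] at h1
  omega

lemma wt_sup_inf (τ φ : Idx d n) : wt (W4bk4grassmannian.sup τ φ).1 +
    wt (W4bk4grassmannian.inf τ φ).1 = wt τ.1 + wt φ.1 := by
  unfold wt
  rw [← Finset.sum_add_distrib, ← Finset.sum_add_distrib]
  apply Finset.sum_congr rfl
  intro t _
  show (max (τ.1 t) (φ.1 t)).val + (min (τ.1 t) (φ.1 t)).val = _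
  rcases le_total (τ.1 t) (φ.1 t) with h | h
  · rw [max_eq_right h, min_eq_left h, add_comm]
  · rw [max_eq_left h, min_eq_right h]

lemma lt_sup_left (τ φ : Idx d n) (h : ¬ φ ≤ τ) : τ < W4bk4grassmannian.sup τ φ := by
  apply lt_of_le_of_ne
  · intro t
    exact le_max_left _ _
  · intro heq
    apply h
    intro t
    have h1 : (W4bk4grassmannian.sup τ φ).1 t = τ.1 t := by rw [← heq]
    rw [← h1]
    exact le_max_right _ _

lemma lt_sup_right (τ φ : Idx d n) (h : ¬ τ ≤ φ) : φ < W4bk4grassmannian.sup τ φ := by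
  apply lt_of_le_of_ne
  · intro t
    exact le_max_right _ _
  · intro heq
    apply h
    intro t
    have h1 : (W4bk4grassmannian.sup τ φ).1 t = φ.1 t := by rw [← heq]
    rw [← h1]
    exact le_max_left _ _

lemma Phi_sup_inf (τ φ : Idx d n) (h1 : ¬ τ ≤ φ) (h2 : ¬ φ ≤ τ) :
    wt τ.1 ^ 2 + wt φ.1 ^ 2 < wt (W4bk4grassmannian.sup τ φ).1 ^ 2 +
      wt (W4bk4grassmannian.inf τ φ).1 ^ 2 := by
  have hs := wt_sup_inf τ φ
  have hl := wt_lt_of_lt (lt_sup_left τ φ h2)
  have hr := wt_lt_of_lt (lt_sup_right τ φ h1)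
  rcases le_total (wt φ.1) (wt τ.1) with h | h
  · exact sq_add_sq_lt hl hs h
  · have h3 := sq_add_sq_lt hr (by rw [hs, add_comm]) h
    rw [add_comm (wt τ.1 ^ 2)]
    exact h3

variable (K : Type u) [Field K]

theorem quad_H [Infinite K] (hd : 0 < d) (hdn : d ≤ n) (J : Ideal (PlRing K d n))
    (hJ : plIdealTop (d := d) (n := n) K ≤ J) (τ φ : Idx d n) :
    (X τ * X φ - X (W4bk4grassmannian.sup τ φ) * X (W4bk4grassmannian.inf τ φ) :
      PlRing K d n) ∈ Submodule.span K {f | ∃ v : Idx d n →₀ ℕ, deg v = 2 ∧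
      Om nuH v < nuH τ + nuH φ ∧ f = monomial v 1} ⊔ J.restrictScalars K := by
  obtain ⟨g, hg, hmem⟩ := main_lex K hd hdn τ φ
  have h1 : (X τ * X φ - X (W4bk4grassmannian.sup τ φ) * X (W4bk4grassmannian.inf τ φ) :
      PlRing K d n) = g + (X τ * X φ - X (W4bk4grassmannian.sup τ φ) *
        X (W4bk4grassmannian.inf τ φ) - g) := by ring
  rw [h1]
  apply Submodule.add_mem
  · apply Submodule.mem_sup_left
    refine Submodule.span_mono ?_ hg
    rintro f ⟨α, β, -, hlex, rfl⟩
    refine ⟨Finsupp.single α 1 + Finsupp.single β 1, ?_, ?_, pair_monomial K α β⟩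
    · rw [deg_add, deg_single, deg_single]
    · rw [Om_pair_H, nuH_pair]
      have h2 := wgt_lt_of_lex _ _ (Eexp_pair_le α β) hlex
      omega
  · apply Submodule.mem_sup_right
    exact hJ hmem

theorem quadHyp_H [Infinite K] (hd : 0 < d) (hdn : d ≤ n) (J : Ideal (PlRing K d n))
    (hJ : plIdealTop (d := d) (n := n) K ≤ J) : QuadHyp K J nuH := by
  intro τ φ h1 h2
  have h3 : (X τ * X φ : PlRing K d n) =
      X (W4bk4grassmannian.sup τ φ) * X (W4bk4grassmannian.inf τ φ) +
      (X τ * X φ - X (W4bk4grassmannian.sup τ φ) * X (W4bk4grassmannian.inf τ φ)) := by ring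
  rw [h3]
  apply Submodule.add_mem
  · apply Submodule.mem_sup_left
    apply Submodule.subset_span
    refine ⟨Finsupp.single (W4bk4grassmannian.sup τ φ) 1 +
      Finsupp.single (W4bk4grassmannian.inf τ φ) 1, ?_, ?_, Or.inr ?_, pair_monomial K _ _⟩
    · rw [deg_add, deg_single, deg_single]
    · rw [Om_add, Om_single, Om_single, nuH_sup_inf]
    · rw [Phi_add, Phi_single, Phi_single]
      exact Phi_sup_inf τ φ h1 h2
  · have hle : Submodule.span K {f : PlRing K d n | ∃ v : Idx d n →₀ ℕ, deg v = 2 ∧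
        Om nuH v < nuH τ + nuH φ ∧ f = monomial v 1} ⊔ J.restrictScalars K ≤
        Submodule.span K {f | ∃ v : Idx d n →₀ ℕ, deg v = 2 ∧ Om nuH v ≤ nuH τ + nuH φ ∧
          (Om nuH v < nuH τ + nuH φ ∨ wt τ.1 ^ 2 + wt φ.1 ^ 2 < Phi v) ∧ f = monomial v 1} ⊔
          J.restrictScalars K := by
      apply sup_le_sup_right
      apply Submodule.span_mono
      rintro f ⟨v, hv, hlt, rfl⟩
      exact ⟨v, hv, hlt.le, Or.inl hlt, rfl⟩
    exact hle (quad_H K hd hdn J hJ τ φ)

end Groth.Agent.SchDeg9
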