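import Mathlib
import Groth.Agent.Lib.SchDeg4_helper9

/-!
# Degeneration of a Schubert cone to the Hibi ring of `H(w)`: the theorem (helper9)
APPEND-ONLY once landed.
-/

set_option autoImplicit false

universe u

namespace Groth.Agent.SchDeg9

open W4bk4grassmannian MvPolynomial Function Finset
open Groth.Agent.Straight9 (IsChainSupp deg Phi deg_add Phi_add deg_single Phi_single Phi_le wt
  wt_le wt_lt_of_lt sq_add_sq_lt)
open Groth.Agent.SMT9
open Groth.Agent.Rees9

variable {d n : ℕ} (K : Type u) [Field K]

section Fibre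

variable [Infinite K] (hd : 0 < d) (w : Idx d n)
  (ν : Idx d n → ℕ) (hQ : QuadHyp K (schubertVanishing K d n w) ν)

include hQ in
lemma pair_mem (a b : Below w) :
    Ideal.Quotient.mk (schubertVanishing K d n w) (X a.1 * X b.1) ∈
      Fil (stdBasis K hd w) (fun u => Om ν (up u.1)) (ν a.1 + ν b.1) := by
  have h1 := mono_mem K hd w ν hQ (Finsupp.single a 1 + Finsupp.single b 1)
  rw [up_pair, Om_add, Om_single, Om_single, ← pair_monomial] at h1
  exact h1

lemma mk_mon_succ' (k : ℕ)
    (y : Fil (stdBasis K hd w) (fun u => Om ν (up u.1)) (k + 1))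
    (hy : y.1 ∈ Fil (stdBasis K hd w) (fun u => Om ν (up u.1)) k) :
    Ideal.Quotient.mk
      (Ideal.span {algebraMap (Polynomial K) (rees (hyp K hd w ν hQ)) Polynomial.X})
      (mon (hyp K hd w ν hQ) (k + 1) y) = 0 := by
  obtain ⟨x, hx'⟩ := y
  exact mk_mon_succ K hd w ν hQ k x hy hx'

end Fibre

lemma below_sup_of_le {w : Idx d n} {a b : Below w} (h : a ≤ b) :
    Below.sup a b = b ∧ Below.inf a b = a := by
  constructor
  · apply Subtype.ext
    apply Subtype.ext
    funext t
    exact max_eq_right (h t)
  · apply Subtype.ext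
    apply Subtype.ext
    funext t
    exact min_eq_left (h t)

lemma below_sup_of_ge {w : Idx d n} {a b : Below w} (h : b ≤ a) :
    Below.sup a b = a ∧ Below.inf a b = b := by
  constructor
  · apply Subtype.ext
    apply Subtype.ext
    funext t
    exact max_eq_left (h t)
  · apply Subtype.ext
    apply Subtype.ext
    funext t
    exact min_eq_right (h t)

/-- standard monomials span the Hibi ring -/
theorem hibi_span (w : Idx d n) : ∀ (N : ℕ) (u : Below w →₀ ℕ),
    deg (up u) * (d * n) ^ 2 - Phi (up u) < N →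
    Ideal.Quotient.mk (hibiIdeal K w) (monomial u (1 : K)) ∈ Submodule.span K (Set.range
      fun u : StdB w => Ideal.Quotient.mk (hibiIdeal K w) (monomial u.1 (1 : K))) := by
  intro N
  induction N with
  | zero => intro u hu; exact absurd hu (Nat.not_lt_zero _)
  | succ N ih =>
    intro u hu
    by_cases hc : IsChainSupp (up u)
    · exact Submodule.subset_span ⟨⟨u, hc⟩, rfl⟩
    · obtain ⟨a, b, u0, hab, hba, rfl⟩ := not_chain_exists w u hc
      have h1 : Ideal.Quotient.mk (hibiIdeal K w)
          (monomial (u0 + (Finsupp.single a 1 + Finsupp.single b 1)) (1 : K)) =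
          Ideal.Quotient.mk (hibiIdeal K w) (monomial (u0 + (Finsupp.single (Below.sup a b) 1 +
            Finsupp.single (Below.inf a b) 1)) (1 : K)) := by
        rw [Ideal.Quotient.eq]
        have h4 : ∀ x y : Below w, monomial (u0 + (Finsupp.single x 1 + Finsupp.single y 1))
            (1 : K) = monomial u0 1 * (X x * X y) := by
          intro x y
          show _ = monomial u0 (1 : K) * (monomial (Finsupp.single x 1) (1 : K) *
            monomial (Finsupp.single y 1) 1)
          rw [monomial_mul, monomial_mul, one_mul, one_mul]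
        rw [h4, h4, ← mul_sub]
        apply Ideal.mul_mem_left
        exact Ideal.subset_span ⟨a, b, rfl⟩
      rw [h1]
      apply ih
      have hd1 : deg (up (u0 + (Finsupp.single (Below.sup a b) 1 +
          Finsupp.single (Below.inf a b) 1))) =
          deg (up (u0 + (Finsupp.single a 1 + Finsupp.single b 1))) := by
        simp only [up_add, up_single, deg_add, deg_single]
      have hP1 : Phi (up (u0 + (Finsupp.single (Below.sup a b) 1 +
          Finsupp.single (Below.inf a b) 1))) = Phi (up u0) +
          (wt (W4bk4grassmannian.sup a.1 b.1).1 ^ 2 + wt (W4bk4grassmannian.inf a.1 b.1).1 ^ 2) := by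
        simp only [up_add, up_single, Phi_add, Phi_single]
        rfl
      have hP2 : Phi (up (u0 + (Finsupp.single a 1 + Finsupp.single b 1))) = Phi (up u0) +
          (wt a.1.1 ^ 2 + wt b.1.1 ^ 2) := by
        simp only [up_add, up_single, Phi_add, Phi_single]
      have hlt := Phi_sup_inf a.1 b.1 hab hba
      have hb := Phi_le (up (u0 + (Finsupp.single (Below.sup a b) 1 +
          Finsupp.single (Below.inf a b) 1)))
      rw [hd1] at hb ⊢
      omega

/-- the cone over a Schubert variety degenerates to the Hibi ring of `H(w)` -/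
theorem hibi_main [Infinite K] (hd : 0 < d) (hdn : d ≤ n) (w : Idx d n) :
    ∃ (R : Type u) (_ : CommRing R) (_ : Algebra K R) (_ : Algebra (Polynomial K) R)
      (_ : IsScalarTower K (Polynomial K) R),
      Module.Free (Polynomial K) R ∧
      Nonempty ((R ⧸ Ideal.span {algebraMap (Polynomial K) R Polynomial.X}) ≃ₐ[K]
        (MvPolynomial (Below w) K ⧸ hibiIdeal K w)) ∧
      ∀ c : K, c ≠ 0 →
        Nonempty ((R ⧸ Ideal.span {algebraMap (Polynomial K) R
          (Polynomial.X - Polynomial.C c)}) ≃ₐ[K]
          (PlRing K d n ⧸ schubertVanishing K d n w)) := by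
  classical
  have hQ : QuadHyp K (schubertVanishing K d n w) nuH :=
    quadHyp_H K hd hdn _ (plIdealTop_le K w)
  refine ⟨rees (hyp K hd w nuH hQ), inferInstance, inferInstance, instAlg _, instTower _,
    free _, ⟨?_⟩, fun c hc => ⟨fibreEquiv _ c hc⟩⟩
  have hker : ∀ f ∈ hibiIdeal K w, phi0 K hd w nuH hQ f = 0 := by
    intro f hf
    have hle : hibiIdeal K w ≤ RingHom.ker (phi0 K hd w nuH hQ) := by
      unfold hibiIdeal
      rw [Ideal.span_le]
      rintro f ⟨a, b, rfl⟩
      rw [SetLike.mem_coe, RingHom.mem_ker]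
      by_cases hab : a ≤ b
      · obtain ⟨e1, e2⟩ := below_sup_of_le hab
        rw [e1, e2, mul_comm (X b), sub_self, map_zero]
      by_cases hba : b ≤ a
      · obtain ⟨e1, e2⟩ := below_sup_of_ge hba
        rw [e1, e2, sub_self, map_zero]
      have hpos : 1 ≤ nuH a.1 + nuH b.1 := by
        unfold nuH
        omega
      obtain ⟨k, hk⟩ : ∃ k, k + 1 = nuH a.1 + nuH b.1 := ⟨nuH a.1 + nuH b.1 - 1, by omega⟩
      have hk' : k + 1 = nuH (Below.sup a b).1 + nuH (Below.inf a b).1 := by
        rw [hk]
        exact (nuH_sup_inf a.1 b.1).symm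
      have hm1 := pair_mem K hd w nuH hQ a b
      have hm2 := pair_mem K hd w nuH hQ (Below.sup a b) (Below.inf a b)
      rw [← hk] at hm1
      rw [← hk'] at hm2
      rw [map_sub, phi0_pair K hd w nuH hQ a b (k + 1) hk hm1,
        phi0_pair K hd w nuH hQ (Below.sup a b) (Below.inf a b) (k + 1) hk' hm2, ← map_sub,
        ← map_sub]
      apply mk_mon_succ' K hd w nuH hQ k
      show Ideal.Quotient.mk (schubertVanishing K d n w) (X a.1 * X b.1) -
        Ideal.Quotient.mk (schubertVanishing K d n w)
          (X (Below.sup a b).1 * X (Below.inf a b).1) ∈ _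
      rw [← map_sub]
      have hq := quad_H K hd hdn (schubertVanishing K d n w) (plIdealTop_le K w) a.1 b.1
      rw [← hk] at hq
      exact mk_mem_Fil K hd w nuH k _ (span_lt_le K _ nuH hQ k hq)
    exact RingHom.mem_ker.1 (hle hf)
  have hbij := fibre_zero_bijective (hyp K hd w nuH hQ)
    (Ideal.Quotient.liftₐ (hibiIdeal K w) (phi0 K hd w nuH hQ) hker)
    (fun u : StdB w => Ideal.Quotient.mk (hibiIdeal K w) (monomial u.1 1)) ?_ ?_
  · exact (AlgEquiv.ofBijective _ hbij).symm
  · rw [eq_top_iff]
    rintro x -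
    obtain ⟨f, rfl⟩ := Ideal.Quotient.mk_surjective x
    rw [f.as_sum, map_sum]
    apply Submodule.sum_mem
    intro u _
    have h1 : monomial u (coeff u f) = coeff u f • monomial u (1 : K) := by
      rw [smul_monomial, smul_eq_mul, mul_one]
    have h2 : Ideal.Quotient.mk (hibiIdeal K w) (coeff u f • monomial u (1 : K)) =
        coeff u f • Ideal.Quotient.mk (hibiIdeal K w) (monomial u (1 : K)) :=
      map_smul (Ideal.Quotient.mkₐ K (hibiIdeal K w)) _ _
    rw [h1, h2]
    apply Submodule.smul_mem
    exact hibi_span K w _ u (Nat.lt_succ_self _)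
  · intro u
    rw [Ideal.Quotient.liftₐ_apply, Ideal.Quotient.lift_mk]
    exact phi0_std K hd w nuH hQ u

end Groth.Agent.SchDeg9
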