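import Groth.Agent.Lib.SchImKT2_helper7
import Groth.Agent.Lib.SchDenseKer_helper7
import Groth.Agent.Lib.AlgSpCov_helper7
import Groth.Agent.Lib.AlgSpLocP4_helper7
import Groth.Agent.Lib.AlgSpOpenSub_helper7

/-!
# Factoring through an fppf cover when the factorization exists over a dense open (helper7)
-/

set_option autoImplicit false
universe u
open CategoryTheory CategoryTheory.Limits AlgebraicGeometry Opposite

namespace Groth.Agent.Lib.SchDenseFactorH7

open AlgSp Groth.Agent.Lib.AlgSpPullback_helper7 Groth.Agent.Lib.AlgSpQC_helper7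
  Groth.Agent.Lib.SchImageH7 Groth.Agent.Lib.AlgSpCov_helper7 Groth.Agent.Lib.AlgSpLocP4_helper7
  Groth.Agent.Lib.SchDenseKerH7 Groth.Agent.Lib.SchImKT2H7

variable {S : Scheme.{u}}

theorem exists_factor (B : Sp S) (X Y Z : Space S) (pX : X.obj ⟶ B) (pY : Y.obj ⟶ B)
    (pZ : Z.obj ⟶ B) (f : X.obj ⟶ Y.obj) (g : X.obj ⟶ Z.obj) (hf : f ≫ pY = pX)
    (hg : g ≫ pZ = pX) (hY : IsSeparatedMor pY) (hgs : IsSurjectiveMor g) (hgf : LocP @Flat g)
    (hgp : LocP @LocallyOfFinitePresentation g) (V : Sp S) (v : V ⟶ Z.obj) (hv : IsSchDense v)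
    (hvq : IsQuasiCompactMor v)
    (hfac : ∃ φ : V ⟶ Y.obj, pullback.fst g v ≫ f = pullback.snd g v ≫ φ) :
    ∃ h : Z.obj ⟶ Y.obj, g ≫ h = f := by
  haveI : Epi g := epi_of_fppf X.property Z.property g hgf hgp hgs
  haveI : EffectiveEpi g := by
    have := IsRegularEpiCategory.regularEpiOfEpi g
    infer_instance
  obtain ⟨P, p₁, p₂, sqP⟩ : ∃ (P : Sp S) (p₁ p₂ : P ⟶ X.obj), IsPullback p₁ p₂ g g :=
    ⟨_, _, _, IsPullback.of_hasPullback g g⟩
  suffices key : p₁ ≫ f = p₂ ≫ f by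
    refine ⟨EffectiveEpi.desc g f (fun a b hab => ?_), EffectiveEpi.fac g f _⟩
    calc a ≫ f = sqP.lift a b hab ≫ p₁ ≫ f := by rw [← Category.assoc, sqP.lift_fst]
      _ = sqP.lift a b hab ≫ p₂ ≫ f := by rw [key]
      _ = b ≫ f := by rw [← Category.assoc, sqP.lift_snd]
  have hP : IsAlgSpace P :=
    isAlgSpace_of_isPullback Z.property.diag X.property X.property sqP
  haveI : Mono v := Groth.Agent.Lib.AlgSpOpenSub_helper7.mono_of_openImmersion v hv.1
  have hVa : IsAlgSpace V := isAlgSpace_of_representable_mono v hv.1.rep Z.property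
  obtain ⟨PV, jP, w, sqPV⟩ : ∃ (PV : Sp S) (jP : PV ⟶ P) (w : PV ⟶ V),
      IsPullback jP w (p₁ ≫ g) v := ⟨_, _, _, IsPullback.of_hasPullback (p₁ ≫ g) v⟩
  have hPV : IsAlgSpace PV := isAlgSpace_of_isPullback Z.property.diag hP hVa sqPV
  have hp₁ : LocP @Flat p₁ :=
    locP_baseChange etLocal_flat X.property Z.property X.property g g p₂ p₁ sqP.flip hgf
  have hπ : LocP @Flat (p₁ ≫ g) :=
    locP_comp etLocal_flat hP X.property Z.property p₁ g hp₁ hgf
  have hdense : IsSchDense jP :=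
    isSchDense_of_flat (X := ⟨P, hP⟩) (Y := Z) (V := ⟨V, hVa⟩) (V' := ⟨PV, hPV⟩)
      (ObjectProperty.homMk (p₁ ≫ g)) hπ (ObjectProperty.homMk v) hv hvq
      (ObjectProperty.homMk w) (ObjectProperty.homMk jP) sqPV.flip
  -- the factorization over the dense open
  obtain ⟨φ, hφ⟩ := hfac
  have hc1 : (jP ≫ p₁) ≫ g = w ≫ v := by rw [Category.assoc]; exact sqPV.w
  have hc2 : (jP ≫ p₂) ≫ g = w ≫ v := by
    rw [Category.assoc, ← sqP.w, ← Category.assoc]; exact hc1
  have hV1 : jP ≫ p₁ ≫ f = w ≫ φ := by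
    calc jP ≫ p₁ ≫ f = pullback.lift (jP ≫ p₁) w hc1 ≫ pullback.fst g v ≫ f := by
          rw [← Category.assoc, ← Category.assoc, pullback.lift_fst]
      _ = w ≫ φ := by rw [hφ, ← Category.assoc, pullback.lift_snd]
  have hV2 : jP ≫ p₂ ≫ f = w ≫ φ := by
    calc jP ≫ p₂ ≫ f = pullback.lift (jP ≫ p₂) w hc2 ≫ pullback.fst g v ≫ f := by
          rw [← Category.assoc, ← Category.assoc, pullback.lift_fst]
      _ = w ≫ φ := by rw [hφ, ← Category.assoc, pullback.lift_snd]
  -- the equalizer as a closed subspace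
  have hm : (p₁ ≫ f) ≫ pY = (p₂ ≫ f) ≫ pY := by
    rw [Category.assoc, Category.assoc, hf, ← hg, ← Category.assoc, ← Category.assoc, sqP.w]
  obtain ⟨E, eY, e, sqE⟩ : ∃ (E : Sp S) (eY : E ⟶ Y.obj) (e : E ⟶ P),
      IsPullback eY e (pullback.diagonal pY) (pullback.lift (p₁ ≫ f) (p₂ ≫ f) hm) :=
    ⟨_, _, _, IsPullback.of_hasPullback _ _⟩
  have he : RepWith @IsClosedImmersion e := repWith_snd_of_isPullback _ sqE hY
  haveI : Mono e := mono_of_closedImmersion e he
  have hE : IsAlgSpace E := isAlgSpace_of_representable_mono e he.rep hP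
  have he1 : e ≫ p₁ ≫ f = eY := by
    have := congrArg (fun t => t ≫ pullback.fst pY pY) sqE.w
    simp only [Category.assoc, pullback.diagonal_fst, pullback.lift_fst, Category.comp_id] at this
    exact this.symm
  have he2 : e ≫ p₂ ≫ f = eY := by
    have := congrArg (fun t => t ≫ pullback.snd pY pY) sqE.w
    simp only [Category.assoc, pullback.diagonal_snd, pullback.lift_snd, Category.comp_id] at this
    exact this.symm
  have hj : (jP ≫ p₁ ≫ f) ≫ pullback.diagonal pY =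
      jP ≫ pullback.lift (p₁ ≫ f) (p₂ ≫ f) hm := by
    apply pullback.hom_ext
    · simp only [Category.assoc, pullback.diagonal_fst, pullback.lift_fst, Category.comp_id]
    · simp only [Category.assoc, pullback.diagonal_snd, pullback.lift_snd, Category.comp_id]
      rw [hV1, hV2]
  obtain ⟨k, hk⟩ := (isSchImage_id_of_isSchDense jP hdense).2.2 e hE he
    ⟨sqE.lift _ _ hj, sqE.lift_snd _ _ hj⟩
  calc p₁ ≫ f = (k ≫ e) ≫ p₁ ≫ f := by rw [hk, Category.id_comp]
    _ = (k ≫ e) ≫ p₂ ≫ f := by rw [Category.assoc, he1, Category.assoc, he2]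
    _ = p₂ ≫ f := by rw [hk, Category.id_comp]

end Groth.Agent.Lib.SchDenseFactorH7
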