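import Mathlib
import Groth.Prelude.Def_CAlgX
import Groth.Agent.S2107
import Groth.Agent.S0387
import Groth.Agent.Lib.H1Gen_helper2
import Groth.Agent.Lib.TransRegFib1_helper2
import Groth.Agent.Lib.SyntNoeth1_helper2

/-!
# Slicing a flat morphism by a fibrewise regular sequence: local algebra (helper2)

* `flat_quot_take`: `R → O` a flat local homomorphism essentially of finite presentation, `l` a
  sequence of `O` which is (elementwise) weakly regular modulo `𝔪_R O`; then all the quotients
  `O/(l₁, …, l_k)` are flat over `R` (EGA 0_IV 15.1.16 / IV 11.3.8, via S2107).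
* `isRegular_map_of_surjective`, `flat_localizedModule_of_flat`, `exists_powers_flat_fp`
  (openness of flatness in basic-open form, via S0387).
APPEND-ONLY once landed.
-/

set_option autoImplicit false
universe u

namespace Groth.Agent.Lib.SliceReg

open IsLocalRing RingTheory.Sequence TensorProduct

section Quot

variable {O : Type u} [CommRing O]

theorem ofList_fg (l : List O) : (Ideal.ofList l).FG := by
  classical
  exact ⟨l.toFinset, by unfold Ideal.ofList; congr 1; ext x; simp⟩

/-- membership in `J • ⊤` inside the quotient module `O ⧸ I` -/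
theorem mk_mem_smul_top_iff (I J : Ideal O) (a : O) :
    (Submodule.Quotient.mk a : O ⧸ I) ∈ J • (⊤ : Submodule O (O ⧸ I)) ↔ a ∈ J ⊔ I := by
  have h1 : J • (⊤ : Submodule O (O ⧸ I)) = Submodule.map (Submodule.mkQ I) J := by
    have h0 := Submodule.map_smul'' J (⊤ : Submodule O O) (Submodule.mkQ I)
    rw [Submodule.map_top, Submodule.range_mkQ] at h0
    rw [← h0, smul_eq_mul, Ideal.mul_top]
  rw [h1]
  constructor
  · rintro ⟨b, hb, hba⟩
    have h2 : b - a ∈ I := (Submodule.Quotient.eq I).mp hba
    have h3 : a = b + (-(b - a)) := by ring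
    rw [h3]
    exact Submodule.add_mem_sup hb (I.neg_mem h2)
  · intro ha
    obtain ⟨j, hj, i, hi, rfl⟩ := Submodule.mem_sup.mp ha
    refine ⟨j, hj, ?_⟩
    show (Submodule.Quotient.mk j : O ⧸ I) = Submodule.Quotient.mk (j + i)
    rw [Submodule.Quotient.eq]
    have h4 : j - (j + i) = -i := by ring
    rw [h4]
    exact I.neg_mem hi

end Quot

/-- **Flatness of the successive quotients** by a sequence regular on the closed fibre. -/
theorem flat_quot_take {R O : Type u} [CommRing R] [CommRing O] [IsLocalRing R] [IsLocalRing O]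
    [Algebra R O] [IsLocalHom (algebraMap R O)] (hess : CAlgX.IsEssFinitePresentation R O)
    [Module.Flat R O] (l : List O)
    (hwr : Groth.Agent.Lib.H1Gen.WRMod ((maximalIdeal R).map (algebraMap R O)) l) :
    ∀ k ≤ l.length, Module.Flat R (O ⧸ Ideal.ofList (l.take k)) := by
  classical
  intro k
  induction k with
  | zero =>
    intro _
    rw [List.take_zero, Ideal.ofList_nil]
    exact Module.Flat.of_linearEquiv
      ((Submodule.quotEquivOfEqBot (⊥ : Ideal O) rfl).restrictScalars R)
  | succ k ih =>
    intro hk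
    have hk' : k < l.length := hk
    haveI hflk : Module.Flat R (O ⧸ Ideal.ofList (l.take k)) := ih (le_of_lt hk')
    set Ik : Ideal O := Ideal.ofList (l.take k) with hIk
    have hfg : (Ik : Submodule O O).FG := ofList_fg _
    haveI : Module.FinitePresentation O (O ⧸ Ik) :=
      Module.finitePresentation_of_surjective (Submodule.mkQ Ik) (Submodule.mkQ_surjective _)
        (by rw [Submodule.ker_mkQ]; exact hfg)
    let u : (O ⧸ Ik) →ₗ[O] (O ⧸ Ik) := LinearMap.lsmul O (O ⧸ Ik) l[k]
    have hmk : ∀ c : O, u (Submodule.Quotient.mk c) = Submodule.Quotient.mk (c * l[k]) := by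
      intro c
      show l[k] • (Submodule.Quotient.mk c : O ⧸ Ik) = _
      rw [← Submodule.Quotient.mk_smul, smul_eq_mul, mul_comm]
    have hu : ∀ x : O ⧸ Ik,
        u x ∈ (maximalIdeal R).map (algebraMap R O) • (⊤ : Submodule O (O ⧸ Ik)) →
        x ∈ (maximalIdeal R).map (algebraMap R O) • (⊤ : Submodule O (O ⧸ Ik)) := by
      intro x hx
      obtain ⟨c, rfl⟩ := Submodule.Quotient.mk_surjective _ x
      rw [hmk, mk_mem_smul_top_iff] at hx
      rw [mk_mem_smul_top_iff]
      exact hwr k hk' c hx
    obtain ⟨-, hfl⟩ := Groth.Agent.S2107.result hess u hu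
    have hrange : LinearMap.range u =
        Submodule.map (Submodule.mkQ Ik) (Ideal.span {l[k]} : Ideal O) := by
      ext y
      constructor
      · rintro ⟨x, rfl⟩
        obtain ⟨c, rfl⟩ := Submodule.Quotient.mk_surjective _ x
        exact ⟨c * l[k], Ideal.mem_span_singleton'.mpr ⟨c, rfl⟩, (hmk c).symm⟩
      · rintro ⟨z, hz, rfl⟩
        obtain ⟨c, rfl⟩ := Ideal.mem_span_singleton'.mp hz
        exact ⟨Submodule.Quotient.mk c, hmk c⟩
    have key : ∀ T : Submodule O (O ⧸ Ik), LinearMap.range u = T →
        Module.Flat R ((O ⧸ Ik) ⧸ T) := by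
      rintro _ rfl
      exact hfl
    haveI := key _ hrange
    have h2 : Module.Flat R (O ⧸ (Ik ⊔ Ideal.span {l[k]})) :=
      Module.Flat.of_linearEquiv
        ((Submodule.quotientQuotientEquivQuotientSup Ik
          (Ideal.span {l[k]} : Ideal O)).symm.restrictScalars R)
    have h3 : Ideal.ofList (l.take (k + 1)) = Ik ⊔ Ideal.span {l[k]} := by
      rw [List.take_succ_eq_append_getElem hk', Ideal.ofList_append, Ideal.ofList_singleton]
    rw [h3]
    exact h2

/-- transport of a regular sequence of a quotient along the induced isomorphism -/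
theorem isRegular_map_of_surjective {A B : Type u} [CommRing A] [CommRing B] (φ : A →+* B)
    (hφ : Function.Surjective φ) (J : Ideal A) (hJ : RingHom.ker φ = J) (l : List A)
    (h : IsRegular (A ⧸ J) (l.map (Ideal.Quotient.mk J))) : IsRegular B (l.map φ) := by
  subst hJ
  have h1 := Groth.Agent.Lib.SyntNoeth.isRegular_map_ringEquiv
    (RingHom.quotientKerEquivOfSurjective hφ) _ h
  rw [List.map_map] at h1
  have h2 : (⇑(RingHom.quotientKerEquivOfSurjective hφ) ∘
      ⇑(Ideal.Quotient.mk (RingHom.ker φ))) = ⇑φ := by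
    funext a
    rfl
  rw [h2] at h1
  exact h1

section Loc

variable {A C : Type u} [CommRing A] [CommRing C] [Algebra A C]
  (N : Type u) [AddCommGroup N] [Module C N] [Module A N] [IsScalarTower A C N]

/-- a localization (over `C`) of an `A`-flat module is `A`-flat -/
theorem flat_localizedModule_of_flat (T : Submonoid C) [Module.Flat A N] :
    Module.Flat A (LocalizedModule T N) := by
  rw [Groth.Agent.Lib.FlatLocFP1H6.flat_localizedModule_iff]
  intro I ξ hξ
  have hinj := (Module.Flat.iff_lTensor_injective'.mp (inferInstance : Module.Flat A N)) I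
  have h0 : ξ = 0 := hinj (by rw [hξ, map_zero])
  exact ⟨1, T.one_mem, by rw [h0, smul_zero]⟩

/-- spreading flatness from a prime to a basic open, finitely presented case (S0387) -/
theorem exists_powers_flat_fp [Algebra.FinitePresentation A C] [Module.FinitePresentation C N]
    (q : Ideal C) [hq' : q.IsPrime]
    (hq : Module.Flat A (LocalizedModule q.primeCompl N)) :
    ∃ c : C, c ∉ q ∧ Module.Flat A (LocalizedModule (Submonoid.powers c) N) := by
  have hopen := Groth.Agent.S0387.result (R := A) (S := C) (M := N)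
  have hmem : (⟨q, hq'⟩ : PrimeSpectrum C) ∈ {q : PrimeSpectrum C |
      Module.Flat A (LocalizedModule q.asIdeal.primeCompl N)} := hq
  obtain ⟨_, ⟨c, rfl⟩, hqc, hsub⟩ :=
    PrimeSpectrum.isTopologicalBasis_basic_opens.exists_subset_of_mem_open hmem hopen
  refine ⟨c, hqc, Groth.Agent.Lib.TransRegFib.flat_powers_of_forall_prime N c
    (fun q' hq' hc => ?_)⟩
  exact hsub (show (⟨q', hq'⟩ : PrimeSpectrum C) ∈ (PrimeSpectrum.basicOpen c : Set _) from hc)

end Loc

end Groth.Agent.Lib.SliceReg
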