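import Mathlib
import Groth.Prelude.Def_Mor2
import Groth.Prelude.Def_RegImm
import Groth.Agent.Lib.RelH1Main_helper2
import Groth.Agent.Lib.SyntReg_helper2
import Groth.Agent.Lib.RegImmKinds_helper2
import Groth.Agent.Lib.SyntNoeth1_helper2

/-!
# Slicing a flat morphism by a fibrewise regular sequence: general scheme-level lemmas (helper2)

* `exists_list_germ`: a finite list of germs is the list of germs of sections over one open.
* `mor2_spec_quot_comp_iso`: `Spec (B/I) ⟶ Spec B ≅ Y` is a regular closed immersion when `I` is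
  generated by a regular sequence.
* `bc_mor2`: base change of a relative `H_1`-regular closed immersion, in `pullback.map` form.
APPEND-ONLY once landed.
-/

set_option autoImplicit false
set_option maxHeartbeats 800000
open AlgebraicGeometry CategoryTheory CategoryTheory.Limits TopologicalSpace
universe u

namespace Groth.Agent.Lib.SliceReg

open IsLocalRing RingTheory.Sequence

section Germ

variable {X : Scheme.{u}}

/-- a list of germs at `x` lifts to a list of sections over a small open -/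
theorem exists_list_germ (x : X) (W : X.Opens) (hxW : x ∈ W) (l : List (X.presheaf.stalk x)) :
    ∃ (U : X.Opens) (_ : U ≤ W) (hx : x ∈ U) (t : List Γ(X, U)),
      t.map (X.presheaf.germ U x hx) = l := by
  induction l with
  | nil => exact ⟨W, le_rfl, hxW, [], rfl⟩
  | cons a l ih =>
    obtain ⟨U', hU'W, hxU', t', ht'⟩ := ih
    obtain ⟨U'', hU''U', hxU'', a'', ha''⟩ :=
      TopCat.Presheaf.exists_le_germ_eq X.presheaf a hxU'
    refine ⟨U'', hU''U'.trans hU'W, hxU'',
      a'' :: t'.map (X.presheaf.map (homOfLE hU''U').op), ?_⟩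
    rw [List.map_cons, List.map_map]
    congr 1
    rw [← ht']
    apply List.map_congr_left
    intro b _
    exact TopCat.Presheaf.germ_res_apply X.presheaf (homOfLE hU''U') x hxU'' b

/-- germs of restricted sections -/
theorem map_germ_res {U U' : X.Opens} (h : U' ≤ U) (x : X) (hx' : x ∈ U') (t : List Γ(X, U)) :
    (t.map (X.presheaf.map (homOfLE h).op)).map (X.presheaf.germ U' x hx') =
      t.map (X.presheaf.germ U x (h hx')) := by
  rw [List.map_map]
  apply List.map_congr_left
  intro b _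
  exact TopCat.Presheaf.germ_res_apply X.presheaf (homOfLE h) x hx' b

theorem mem_primeIdealOf_of_germ_mem {U : X.Opens} (hU : IsAffineOpen U) {x : X} (hx : x ∈ U)
    (r : Γ(X, U)) (h : X.presheaf.germ U x hx r ∈ maximalIdeal (X.presheaf.stalk x)) :
    r ∈ (hU.primeIdealOf ⟨x, hx⟩).asIdeal := by
  rw [hU.primeIdealOf_eq_map_closedPoint]
  exact h

end Germ

section Alg

theorem not_isUnit_of_isRegular {A : Type u} [CommRing A] (l : List A) (h : IsRegular A l) :
    ∀ a ∈ l, ¬ IsUnit a := by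
  intro a ha hu
  apply h.top_ne_smul
  have h1 : Ideal.ofList l = ⊤ :=
    Ideal.eq_top_of_isUnit_mem _ (Ideal.subset_span ha) hu
  rw [h1, smul_eq_mul, Ideal.mul_top]

theorem mem_maximalIdeal_of_isRegular_quot {O : Type u} [CommRing O] [IsLocalRing O] (J : Ideal O)
    (l : List O) (h : IsRegular (O ⧸ J) (l.map (Ideal.Quotient.mk J))) :
    ∀ a ∈ l, a ∈ maximalIdeal O := by
  intro a ha
  rw [IsLocalRing.mem_maximalIdeal, mem_nonunits_iff]
  intro hu
  exact not_isUnit_of_isRegular _ h _ (List.mem_map.mpr ⟨a, ha, rfl⟩) (hu.map _)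

end Alg

section Mor2

/-- `Spec (B/I) ⟶ Spec B ≅ Y` is a regular closed immersion when `I` is generated by a regular
sequence -/
theorem mor2_spec_quot_comp_iso {B' : CommRingCat.{u}} {Y : Scheme.{u}} (j : Spec B' ⟶ Y) [IsIso j]
    (I : Ideal B') (rs : List B') (hreg : IsRegular B' rs) (hI : I = Ideal.ofList rs) :
    Mor2.IsRegularClosedImmersion (Spec.map (CommRingCat.ofHom (Ideal.Quotient.mk I)) ≫ j) := by
  set i₀ := Spec.map (CommRingCat.ofHom (Ideal.Quotient.mk I)) with hi₀
  haveI : IsClosedImmersion i₀ :=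
    IsClosedImmersion.spec_of_surjective _ Ideal.Quotient.mk_surjective
  refine ⟨inferInstance, fun z => ?_⟩
  haveI : IsAffine Y := IsAffine.of_isIso (inv j)
  refine ⟨⊤, isAffineOpen_top _, trivial, ?_⟩
  haveI : IsIso j.appTop := inferInstanceAs (IsIso (j.app ⊤))
  let ρ' : Γ(Y, ⊤) ≃+* B' :=
    (asIso j.appTop).commRingCatIsoToRingEquiv.trans
      (Scheme.ΓSpecIso B').commRingCatIsoToRingEquiv
  have hρ' : ∀ y, ρ' y = (Scheme.ΓSpecIso B').hom (j.appTop y) := fun y => rfl
  refine ⟨rs.map ρ'.symm, ?_, ?_⟩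
  · exact Groth.Agent.Lib.SyntNoeth.isRegular_map_ringEquiv ρ'.symm rs hreg
  · rw [Scheme.Hom.ker_apply]
    have h1 : Ideal.ofList (rs.map ρ'.symm) = I.comap (ρ' : Γ(Y, ⊤) →+* B') := by
      have h0 := Ideal.map_ofList (ρ'.symm : B' →+* Γ(Y, ⊤)) rs
      rw [show (rs.map ρ'.symm) = rs.map ((ρ'.symm : B' →+* Γ(Y, ⊤))) from rfl, ← h0, hI]
      exact Ideal.map_symm ρ'
    rw [h1]
    ext y
    rw [RingHom.mem_ker, Ideal.mem_comap]
    show ((i₀ ≫ j).appTop).hom y = 0 ↔ _
    rw [Scheme.Hom.comp_appTop]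
    have h2 := Scheme.ΓSpecIso_naturality (CommRingCat.ofHom (Ideal.Quotient.mk I))
    have h3 : (Scheme.ΓSpecIso (.of (B' ⧸ I))).hom (i₀.appTop (j.appTop y)) =
        Ideal.Quotient.mk I (ρ' y) := by
      have := congrArg (fun φ => φ.hom (j.appTop y)) h2
      exact this
    constructor
    · intro h
      have h4 : (i₀.appTop (j.appTop y)) = 0 := h
      rw [h4, map_zero] at h3
      exact Ideal.Quotient.eq_zero_iff_mem.mp h3.symm
    · intro h
      have h4 : Ideal.Quotient.mk I (ρ' y) = 0 := Ideal.Quotient.eq_zero_iff_mem.mpr h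
      rw [← h3] at h4
      have hinj : Function.Injective (Scheme.ΓSpecIso (.of (B' ⧸ I))).hom :=
        (ConcreteCategory.bijective_of_isIso _).1
      exact hinj (h4.trans (map_zero _).symm)

/-- regular closed immersions are stable under precomposition with isomorphisms -/
theorem mor2_iso_comp {Z' Z X : Scheme.{u}} (e : Z' ⟶ Z) [IsIso e] (j : Z ⟶ X)
    (h : Mor2.IsRegularClosedImmersion j) : Mor2.IsRegularClosedImmersion (e ≫ j) := by
  haveI := h.1
  refine ⟨inferInstance, fun z => ?_⟩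
  obtain ⟨U, hU, hzU, rs, hrs, hker⟩ := h.2 (e z)
  refine ⟨U, hU, hzU, rs, hrs, ?_⟩
  rw [← hker, Scheme.Hom.ker_comp_of_isIso]

/-- base change of a relative `H_1`-regular closed immersion, in `pullback.map` form -/
theorem bc_mor2 {X S Z S' : Scheme.{u}} (f' : X ⟶ S) [LocallyOfFinitePresentation f']
    (i : Z ⟶ X) [IsClosedImmersion i]
    (hi : RegImm.IsRelRegularImmersion RegImm.Kind.h1 f' i) (g : S' ⟶ S) (h : Z ⟶ S)
    (e1 : h ≫ 𝟙 S = i ≫ f') (e2 : g ≫ 𝟙 S = 𝟙 S' ≫ g) :
    Mor2.IsRegularClosedImmersion (pullback.map h g f' g i (𝟙 S') (𝟙 S) e1 e2) := by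
  obtain rfl : h = i ≫ f' := by rw [← e1, Category.comp_id]
  have hmain := (Groth.Agent.Lib.RelH1Main.main8895 f' i hi).2.2 S' g
  haveI : IsClosedImmersion (pullback.snd i (pullback.fst f' g)) :=
    MorphismProperty.pullback_snd _ _ inferInstance
  have h2 := Groth.Agent.Lib.SyntReg.mor2_of_regImm _ hmain
  have hfac : pullback.map (i ≫ f') g f' g i (𝟙 S') (𝟙 S) e1 e2 =
      (pullbackRightPullbackFstIso f' g i).inv ≫ pullback.snd i (pullback.fst f' g) := by
    apply pullback.hom_ext
    · rw [pullback.lift_fst, Category.assoc, pullbackRightPullbackFstIso_inv_snd_fst]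
    · rw [pullback.lift_snd, Category.assoc, pullbackRightPullbackFstIso_inv_snd_snd,
        Category.comp_id]
  rw [hfac]
  exact mor2_iso_comp _ _ h2

/-- the point `x` lies on the closed subscheme `V(I)` of the affine open `U` as soon as `I` is
contained in the prime of `x` -/
theorem mem_range_spec_quot {X : Scheme.{u}} {U : X.Opens} (hU : IsAffineOpen U) (x : X)
    (hx : x ∈ U) (I : Ideal Γ(X, U)) (hI : I ≤ (hU.primeIdealOf ⟨x, hx⟩).asIdeal) :
    x ∈ Set.range ⇑(Spec.map (CommRingCat.ofHom (Ideal.Quotient.mk I)) ≫ hU.fromSpec) := by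
  have h1 : hU.primeIdealOf ⟨x, hx⟩ ∈ Set.range (PrimeSpectrum.comap (Ideal.Quotient.mk I)) := by
    rw [_root_.range_comap_of_surjective _ _ Ideal.Quotient.mk_surjective, Ideal.mk_ker]
    exact hI
  obtain ⟨z, hz⟩ := h1
  refine ⟨z, ?_⟩
  show hU.fromSpec ((Spec.map (CommRingCat.ofHom (Ideal.Quotient.mk I))) z) = x
  have h2 : (Spec.map (CommRingCat.ofHom (Ideal.Quotient.mk I))) z = hU.primeIdealOf ⟨x, hx⟩ := hz
  rw [h2]
  exact hU.fromSpec_primeIdealOf ⟨x, hx⟩

end Mor2

end Groth.Agent.Lib.SliceReg
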