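import Mathlib
import Groth.Prelude.Def_Mor2
import Groth.Prelude.Def_RegImm
import Groth.Agent.Lib.SliceReg1_helper2
import Groth.Agent.Lib.SliceReg2_helper2
import Groth.Agent.Lib.FibInjF_helper6
import Groth.Agent.Lib.FLF1_helper8
import Groth.Agent.Lib.GenFlatSch_helper8
import Groth.Agent.Lib.FibStalkKer_helper5
import Groth.Agent.Lib.TransRegFib3_helper2
import Groth.Agent.Lib.RelRegFib_helper2
import Groth.Agent.Lib.RelFlatNbhd_helper2
import Groth.Agent.Lib.FibChartCart_helper2
import Groth.Agent.Lib.CIField1_helper2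
import Groth.Agent.Lib.RelQRegFib_helper2
import Groth.Agent.Lib.CartierFlat_helper9
import Groth.Agent.Lib.AffStalk3_helper3

/-!
# Slicing a flat morphism by a fibrewise regular sequence: charts (helper2)

`stalk_flat`, `stage1` (spreading out flatness of the slice), `krAt_fibre` (the fibre of the slice
is Koszul-regular at the point), `stage2` (spreading out a regular generating sequence).
APPEND-ONLY once landed.
-/

set_option autoImplicit false
set_option maxHeartbeats 1000000
open AlgebraicGeometry CategoryTheory CategoryTheory.Limits TopologicalSpace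
universe u

namespace Groth.Agent.Lib.SliceReg

open IsLocalRing RingTheory.Sequence Groth.Agent.Lib.FibChart Groth.Agent.Lib.FibKoszul

variable {X S : Scheme.{u}}

/-- stalk-level flatness of the slice -/
theorem stalk_flat (f : X ⟶ S) [LocallyOfFinitePresentation f] (x : X)
    (hflat : (f.stalkMap x).hom.Flat) (hs : List (X.presheaf.stalk x))
    (hreg : IsRegular (X.presheaf.stalk x ⧸ Ideal.map (f.stalkMap x).hom
        (maximalIdeal (S.presheaf.stalk (f x))))
      (hs.map (Ideal.Quotient.mk (Ideal.map (f.stalkMap x).hom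
        (maximalIdeal (S.presheaf.stalk (f x))))))) :
    letI : Algebra (S.presheaf.stalk (f x)) (X.presheaf.stalk x) := (f.stalkMap x).hom.toAlgebra
    Module.Flat (S.presheaf.stalk (f x)) (X.presheaf.stalk x ⧸ Ideal.ofList hs) := by
  letI algRS : Algebra (S.presheaf.stalk (f x)) (X.presheaf.stalk x) :=
    (f.stalkMap x).hom.toAlgebra
  haveI : IsLocalHom (algebraMap (S.presheaf.stalk (f x)) (X.presheaf.stalk x)) :=
    (inferInstance : IsLocalHom (f.stalkMap x).hom)
  have hess : CAlgX.IsEssFinitePresentation (S.presheaf.stalk (f x)) (X.presheaf.stalk x) :=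
    Groth.Agent.Lib.FibInjH6.isEssFinitePresentation_stalkMap f x
  haveI : Module.Flat (S.presheaf.stalk (f x)) (X.presheaf.stalk x) := hflat
  have hwr : Groth.Agent.Lib.H1Gen.WRMod
      ((maximalIdeal (S.presheaf.stalk (f x))).map
        (algebraMap (S.presheaf.stalk (f x)) (X.presheaf.stalk x))) hs := by
    have h0 := Groth.Agent.Lib.H1Gen.wrMod_of_surjective
      (Ideal.Quotient.mk (Ideal.map (f.stalkMap x).hom
        (maximalIdeal (S.presheaf.stalk (f x))))) Ideal.Quotient.mk_surjective hs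
      hreg.toIsWeaklyRegular
    rw [Ideal.mk_ker] at h0
    exact h0
  have h1 := flat_quot_take hess hs hwr hs.length le_rfl
  rw [List.take_length] at h1
  exact h1

/-- from flatness of the localized quotient to flatness of the quotient on the basic open -/
theorem flat_basicOpen_of_localized (f : X ⟶ S) {V : S.Opens} {U : X.Opens}
    (hU : IsAffineOpen U) (e : U ≤ f ⁻¹ᵁ V) (g : Γ(X, U)) (t : List Γ(X, U))
    (h : letI : Algebra Γ(S, V) Γ(X, U) := (f.appLE V U e).hom.toAlgebra
      Module.Flat Γ(S, V) (LocalizedModule (Submonoid.powers g) (Γ(X, U) ⧸ Ideal.ofList t))) :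
    ((Ideal.Quotient.mk (Ideal.ofList
        (t.map (X.presheaf.map (homOfLE (X.basicOpen_le g)).op).hom))).comp
      (f.appLE V (X.basicOpen g) ((X.basicOpen_le g).trans e)).hom).Flat := by
  letI algAB : Algebra Γ(S, V) Γ(X, U) := (f.appLE V U e).hom.toAlgebra
  haveI : IsLocalization.Away g Γ(X, X.basicOpen g) := hU.isLocalization_basicOpen g
  have e' : X.basicOpen g ≤ f ⁻¹ᵁ V := (X.basicOpen_le g).trans e
  letI algAC : Algebra Γ(S, V) Γ(X, X.basicOpen g) :=
    (f.appLE V (X.basicOpen g) e').hom.toAlgebra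
  haveI : IsScalarTower Γ(S, V) Γ(X, U) Γ(X, X.basicOpen g) := by
    refine IsScalarTower.of_algebraMap_eq' ?_
    show (f.appLE V (X.basicOpen g) e').hom =
      (X.presheaf.map (homOfLE (X.basicOpen_le g)).op).hom.comp (f.appLE V U e).hom
    rw [← CommRingCat.hom_comp, Scheme.Hom.appLE_map]
  have h1 : Module.Flat Γ(S, V) (Γ(X, X.basicOpen g) ⧸
      (Ideal.ofList t).map (algebraMap Γ(X, U) Γ(X, X.basicOpen g))) :=
    (Groth.Agent.Lib.TransRegFib.flat_quot_map_iff (A := Γ(S, V)) (Submonoid.powers g)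
      Γ(X, X.basicOpen g) (Ideal.ofList t)).mpr h
  have h2 : Ideal.ofList (t.map (X.presheaf.map (homOfLE (X.basicOpen_le g)).op).hom) =
      (Ideal.ofList t).map (algebraMap Γ(X, U) Γ(X, X.basicOpen g)) := by
    rw [Ideal.map_ofList]
    rfl
  rw [h2]
  exact (Groth.Agent.Lib.CartierFlat.flat_comp_mk_iff _ _).mpr h1

/-- flatness of the slice passes to basic opens -/
theorem flat_quot_basicOpen (f : X ⟶ S) {V : S.Opens} {U : X.Opens}
    (hU : IsAffineOpen U) (e : U ≤ f ⁻¹ᵁ V) (g : Γ(X, U)) (t : List Γ(X, U))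
    (hfl : ((Ideal.Quotient.mk (Ideal.ofList t)).comp (f.appLE V U e).hom).Flat) :
    ((Ideal.Quotient.mk (Ideal.ofList
        (t.map (X.presheaf.map (homOfLE (X.basicOpen_le g)).op).hom))).comp
      (f.appLE V (X.basicOpen g) ((X.basicOpen_le g).trans e)).hom).Flat := by
  apply flat_basicOpen_of_localized f hU e g t
  letI algAB : Algebra Γ(S, V) Γ(X, U) := (f.appLE V U e).hom.toAlgebra
  haveI : Module.Flat Γ(S, V) (Γ(X, U) ⧸ Ideal.ofList t) :=
    (Groth.Agent.Lib.CartierFlat.flat_comp_mk_iff _ _).mp hfl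
  exact flat_localizedModule_of_flat (Γ(X, U) ⧸ Ideal.ofList t) (Submonoid.powers g)

/-- **Stage 1**: spreading out flatness of the slice from the stalk to a basic open -/
theorem stage1 (f : X ⟶ S) [LocallyOfFinitePresentation f] (x : X)
    {V : S.Opens} (hV : IsAffineOpen V) {U : X.Opens} (hU : IsAffineOpen U) (e : U ≤ f ⁻¹ᵁ V)
    (hxU : x ∈ U) (t : List Γ(X, U))
    (hstk : letI : Algebra (S.presheaf.stalk (f x)) (X.presheaf.stalk x) :=
        (f.stalkMap x).hom.toAlgebra
      Module.Flat (S.presheaf.stalk (f x))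
        (X.presheaf.stalk x ⧸ Ideal.ofList (t.map (X.presheaf.germ U x hxU)))) :
    ∃ g : Γ(X, U), x ∈ X.basicOpen g ∧
      ((Ideal.Quotient.mk (Ideal.ofList
          (t.map (X.presheaf.map (homOfLE (X.basicOpen_le g)).op).hom))).comp
        (f.appLE V (X.basicOpen g) ((X.basicOpen_le g).trans e)).hom).Flat := by
  classical
  have hyV : f x ∈ V := e hxU
  letI algAB : Algebra Γ(S, V) Γ(X, U) := (f.appLE V U e).hom.toAlgebra
  haveI : Algebra.FinitePresentation Γ(S, V) Γ(X, U) :=
    HasRingHomProperty.appLE (P := @LocallyOfFinitePresentation) f inferInstance ⟨V, hV⟩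
      ⟨U, hU⟩ e
  letI algRS : Algebra (S.presheaf.stalk (f x)) (X.presheaf.stalk x) :=
    (f.stalkMap x).hom.toAlgebra
  letI algAR : Algebra Γ(S, V) (S.presheaf.stalk (f x)) :=
    TopCat.Presheaf.algebra_section_stalk S.presheaf (⟨f.base x, hyV⟩ : V)
  letI algBT : Algebra Γ(X, U) (X.presheaf.stalk x) :=
    TopCat.Presheaf.algebra_section_stalk X.presheaf (⟨x, hxU⟩ : U)
  letI algAT : Algebra Γ(S, V) (X.presheaf.stalk x) :=
    ((algebraMap Γ(X, U) (X.presheaf.stalk x)).comp (algebraMap Γ(S, V) Γ(X, U))).toAlgebra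
  haveI : IsScalarTower Γ(S, V) Γ(X, U) (X.presheaf.stalk x) :=
    IsScalarTower.of_algebraMap_eq' rfl
  haveI : IsScalarTower Γ(S, V) (S.presheaf.stalk (f x)) (X.presheaf.stalk x) := by
    refine IsScalarTower.of_algebraMap_eq fun a => ?_
    show (X.presheaf.germ U x hxU).hom ((f.appLE V U e).hom a) =
      (f.stalkMap x).hom ((S.presheaf.germ V _ hyV).hom a)
    rw [GenFlatSchH8.stalkMap_germ_appLE f e hxU a]
  haveI : IsLocalization.AtPrime (S.presheaf.stalk (f x))
      (hV.primeIdealOf ⟨f x, hyV⟩).asIdeal := hV.isLocalization_stalk ⟨_, hyV⟩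
  haveI : IsLocalization.AtPrime (X.presheaf.stalk x)
      (hU.primeIdealOf ⟨x, hxU⟩).asIdeal := hU.isLocalization_stalk ⟨_, hxU⟩
  haveI : Module.Flat Γ(S, V) (S.presheaf.stalk (f x)) :=
    IsLocalization.flat _ (hV.primeIdealOf ⟨f x, hyV⟩).asIdeal.primeCompl
  have hmapI : (Ideal.ofList t).map (algebraMap Γ(X, U) (X.presheaf.stalk x)) =
      Ideal.ofList (t.map (X.presheaf.germ U x hxU)) := by
    rw [Ideal.map_ofList]
    rfl
  haveI hstk' : Module.Flat (S.presheaf.stalk (f x)) (X.presheaf.stalk x ⧸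
      (Ideal.ofList t).map (algebraMap Γ(X, U) (X.presheaf.stalk x))) := by
    rw [hmapI]
    exact hstk
  have hflA : Module.Flat Γ(S, V) (X.presheaf.stalk x ⧸
      (Ideal.ofList t).map (algebraMap Γ(X, U) (X.presheaf.stalk x))) :=
    Module.Flat.trans Γ(S, V) (S.presheaf.stalk (f x)) _
  have hβ : Module.Flat Γ(S, V)
      (LocalizedModule (hU.primeIdealOf ⟨x, hxU⟩).asIdeal.primeCompl
        (Γ(X, U) ⧸ Ideal.ofList t)) :=
    (Groth.Agent.Lib.TransRegFib.flat_quot_map_iff (A := Γ(S, V))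
      (hU.primeIdealOf ⟨x, hxU⟩).asIdeal.primeCompl (X.presheaf.stalk x)
      (Ideal.ofList t)).mp hflA
  haveI : Module.FinitePresentation Γ(X, U) (Γ(X, U) ⧸ Ideal.ofList t) :=
    Module.finitePresentation_of_surjective (Submodule.mkQ (Ideal.ofList t))
      (Submodule.mkQ_surjective _) (by rw [Submodule.ker_mkQ]; exact ofList_fg t)
  obtain ⟨g, hgq, hgfl⟩ := exists_powers_flat_fp (A := Γ(S, V)) (C := Γ(X, U))
    (Γ(X, U) ⧸ Ideal.ofList t) (hU.primeIdealOf ⟨x, hxU⟩).asIdeal hβ
  have hxg : x ∈ X.basicOpen g := FLFH8.mem_basicOpen_of_notMem_prime hU hxU hgq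
  exact ⟨g, hxg, flat_basicOpen_of_localized f hU e g t hgfl⟩

/-- the fibre of the slice is cut out near the point by a Koszul-regular sequence -/
theorem krAt_fibre (f : X ⟶ S) [LocallyOfFinitePresentation f] (s : S) (y : ↥(f.fiber s))
    (x : X) (hyx : (f.fiberι s) y = x)
    {V : S.Opens} (hV : IsAffineOpen V) (hsV : s ∈ V) {U : X.Opens} (hU : IsAffineOpen U)
    (e : U ≤ f ⁻¹ᵁ V) (hxU : x ∈ U) (t : List Γ(X, U))
    (hreg : IsRegular (X.presheaf.stalk x ⧸ Ideal.map (f.stalkMap x).hom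
        (maximalIdeal (S.presheaf.stalk (f x))))
      ((t.map (X.presheaf.germ U x hxU)).map (Ideal.Quotient.mk (Ideal.map (f.stalkMap x).hom
        (maximalIdeal (S.presheaf.stalk (f x))))))) :
    ∃ hyW : y ∈ W f s U,
      KRAt ((Ideal.ofList t).map ((f.fiberι s).appLE U (W f s U) inf_le_left).hom)
        ((isAffineOpen_W f s hV hsV hU e).primeIdealOf ⟨y, hyW⟩).asIdeal ∧
      (Ideal.ofList t).map ((f.fiberι s).appLE U (W f s U) inf_le_left).hom ≤
        ((isAffineOpen_W f s hV hsV hU e).primeIdealOf ⟨y, hyW⟩).asIdeal ∧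
      ((isAffineOpen_W f s hV hsV hU e).primeIdealOf ⟨y, hyW⟩).asIdeal.comap
        ((f.fiberι s).appLE U (W f s U) inf_le_left).hom =
        (hU.primeIdealOf ⟨x, hxU⟩).asIdeal := by
  subst hyx
  have hyW : y ∈ W f s U := ⟨hxU, trivial⟩
  have hW := isAffineOpen_W f s hV hsV hU e
  obtain ⟨hsurj, hker⟩ := Groth.Agent.FibStalkKer.main9501 f s y
  -- the regular sequence in the local ring of the fibre
  have hregφ : IsRegular ((f.fiber s).presheaf.stalk y)
      ((t.map (X.presheaf.germ U ((f.fiberι s) y) hxU)).map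
        ((f.fiberι s).stalkMap y).hom) :=
    isRegular_map_of_surjective ((f.fiberι s).stalkMap y).hom hsurj _ hker _ hreg
  have hcompat : (t.map (X.presheaf.germ U ((f.fiberι s) y) hxU)).map
        ((f.fiberι s).stalkMap y).hom =
      (t.map ((f.fiberι s).appLE U (W f s U) inf_le_left).hom).map
        ((f.fiber s).presheaf.germ (W f s U) y hyW).hom := by
    rw [List.map_map, List.map_map]
    apply List.map_congr_left
    intro r _
    exact GenFlatSchH8.stalkMap_germ_appLE (f.fiberι s)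
      (inf_le_left : W f s U ≤ (f.fiberι s) ⁻¹ᵁ U) hyW r
  rw [hcompat] at hregφ
  -- the prime of the point
  haveI hqK : (hW.primeIdealOf ⟨y, hyW⟩).asIdeal.IsPrime := (hW.primeIdealOf ⟨y, hyW⟩).isPrime
  have hIq : (Ideal.ofList t).map ((f.fiberι s).appLE U (W f s U) inf_le_left).hom ≤
      (hW.primeIdealOf ⟨y, hyW⟩).asIdeal := by
    rw [Ideal.map_ofList]
    refine Ideal.span_le.mpr ?_
    intro b hb
    refine mem_primeIdealOf_of_germ_mem hW hyW b ?_
    have hnu := not_isUnit_of_isRegular _ hregφ _ (List.mem_map.mpr ⟨b, hb, rfl⟩)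
    exact (IsLocalRing.mem_maximalIdeal _).mpr hnu
  refine ⟨hyW, ?_, hIq, ?_⟩
  · -- KRAt
    haveI : LocallyOfFiniteType f := inferInstance
    haveI := Groth.Agent.Lib.RelQRegFib.isLocallyNoetherian_fiber f s
    haveI : IsNoetherianRing Γ(f.fiber s, W f s U) :=
      IsLocallyNoetherian.component_noetherian ⟨W f s U, hW⟩
    letI algBT : Algebra Γ(f.fiber s, W f s U) ((f.fiber s).presheaf.stalk y) :=
      TopCat.Presheaf.algebra_section_stalk (f.fiber s).presheaf (⟨y, hyW⟩ : W f s U)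
    haveI : IsLocalization.AtPrime ((f.fiber s).presheaf.stalk y)
        (hW.primeIdealOf ⟨y, hyW⟩).asIdeal := hW.isLocalization_stalk ⟨_, hyW⟩
    let eLoc : (f.fiber s).presheaf.stalk y ≃ₐ[Γ(f.fiber s, W f s U)]
        Localization.AtPrime (hW.primeIdealOf ⟨y, hyW⟩).asIdeal :=
      IsLocalization.algEquiv (hW.primeIdealOf ⟨y, hyW⟩).asIdeal.primeCompl _ _
    have hregLoc := Groth.Agent.Lib.SyntNoeth.isRegular_map_ringEquiv eLoc.toRingEquiv _ hregφ
    rw [List.map_map] at hregLoc
    have hfun : (⇑eLoc.toRingEquiv ∘ ⇑((f.fiber s).presheaf.germ (W f s U) y hyW).hom) =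
        ⇑(algebraMap Γ(f.fiber s, W f s U)
          (Localization.AtPrime (hW.primeIdealOf ⟨y, hyW⟩).asIdeal)) := by
      funext b
      exact eLoc.commutes b
    rw [hfun] at hregLoc
    refine (Groth.Agent.Lib.CIField.isRegularIdeal_map_atPrime_iff_krAt _ _ hIq).mp
      ⟨_, hregLoc, ?_⟩
    rw [Ideal.map_ofList, Ideal.map_ofList]
  · have h2 := IsAffineOpen.comap_primeIdealOf_appLE U hU (W f s U) hW inf_le_left hyW
    exact congrArg PrimeSpectrum.asIdeal h2

/-- **Stage 2**: spreading out a regular generating sequence of the slice -/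
theorem stage2 (f : X ⟶ S) [LocallyOfFinitePresentation f] (s : S) (y : ↥(f.fiber s))
    (x : X) (hyx : (f.fiberι s) y = x)
    {V : S.Opens} (hV : IsAffineOpen V) (hsV : s ∈ V) {U : X.Opens} (hU : IsAffineOpen U)
    (e : U ≤ f ⁻¹ᵁ V) (hxU : x ∈ U) (hflX : ∀ x' ∈ U, (f.stalkMap x').hom.Flat)
    (t : List Γ(X, U))
    (hflq : ((Ideal.Quotient.mk (Ideal.ofList t)).comp (f.appLE V U e).hom).Flat)
    (hreg : IsRegular (X.presheaf.stalk x ⧸ Ideal.map (f.stalkMap x).hom
        (maximalIdeal (S.presheaf.stalk (f x))))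
      ((t.map (X.presheaf.germ U x hxU)).map (Ideal.Quotient.mk (Ideal.map (f.stalkMap x).hom
        (maximalIdeal (S.presheaf.stalk (f x))))))) :
    ∃ g : Γ(X, U), x ∈ X.basicOpen g ∧ ∃ rs : List Γ(X, X.basicOpen g),
      IsRegular Γ(X, X.basicOpen g) rs ∧
      Ideal.ofList (t.map (X.presheaf.map (homOfLE (X.basicOpen_le g)).op).hom) =
        Ideal.ofList rs := by
  obtain ⟨hyW, hKR, hIq, hcomap⟩ := krAt_fibre f s y x hyx hV hsV hU e hxU t hreg
  have hαfl : (f.appLE V U e).hom.Flat :=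
    Groth.Agent.Lib.RelFlatNbhd.flat_appLE_of_forall_stalk f hV hU e hflX
  have hαfp : (f.appLE V U e).hom.FinitePresentation := f.finitePresentation_appLE hV hU e
  have hW := isAffineOpen_W f s hV hsV hU e
  haveI : (hW.primeIdealOf ⟨y, hyW⟩).asIdeal.IsPrime := (hW.primeIdealOf ⟨y, hyW⟩).isPrime
  obtain ⟨g, hg, l, hlI, hregl, hgen⟩ :=
    Groth.Agent.Lib.TransRegFib.regular_away_of_fibre (isField_K s)
      (f.appLE V U e).hom hαfl hαfp
      ((S.fromSpecResidueField s).appLE V ⊤ (top_le _ hsV)).hom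
      ((f.fiberι s).appLE U (W f s U) inf_le_left).hom
      ((f.fiberToSpecResidueField s).appLE ⊤ (W f s U) inf_le_right).hom
      (isPushout_W f s hV hsV hU e) (Ideal.ofList t) (ofList_fg t) hflq _ hIq hKR
  rw [hcomap] at hg
  have hxg : x ∈ X.basicOpen g :=
    (Groth.Agent.Lib.AffStalk_helper3.mem_basicOpen_iff hU g ⟨x, hxU⟩).mpr hg
  obtain ⟨hreg', hgen'⟩ := Groth.Agent.Lib.RelRegFib.transport_away hU g _ l hregl hgen
  refine ⟨g, hxg, _, hreg', ?_⟩
  rw [← hgen', Ideal.map_ofList]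

end Groth.Agent.Lib.SliceReg
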