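import Mathlib
import Groth.Prelude.Def_Mor2
import Groth.Prelude.Def_RegImm
import Groth.Agent.Lib.SliceReg3_helper2

/-!
# Slicing a flat morphism by a fibrewise regular sequence (S1459) (helper2)
APPEND-ONLY once landed.
-/

set_option autoImplicit false
set_option maxHeartbeats 1000000
open AlgebraicGeometry CategoryTheory CategoryTheory.Limits TopologicalSpace
universe u

namespace Groth.Agent.Lib.SliceReg

open IsLocalRing RingTheory.Sequence Groth.Agent.Lib.FibChart Groth.Agent.Lib.FibKoszul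

variable {X S : Scheme.{u}}

theorem fibre_pt (f : X ⟶ S) (s : S) (y : ↥(f.fiber s)) : f ((f.fiberι s) y) = s := by
  have h := (f.fiberHomeo s y).2
  rw [Set.mem_preimage, Set.mem_singleton_iff, Scheme.Hom.fiberHomeo_apply] at h
  exact h

/-- the ring-level content of S1459 -/
theorem core (f : X ⟶ S) [LocallyOfFinitePresentation f] (s : S) (y : ↥(f.fiber s)) (x : X)
    (hyx : (f.fiberι s) y = x) (hflat : (f.stalkMap x).hom.Flat)
    (hs : List (X.presheaf.stalk x))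
    (hreg : IsRegular (X.presheaf.stalk x ⧸ Ideal.map (f.stalkMap x).hom
        (maximalIdeal (S.presheaf.stalk (f x))))
      (hs.map (Ideal.Quotient.mk (Ideal.map (f.stalkMap x).hom
        (maximalIdeal (S.presheaf.stalk (f x))))))) :
    ∃ (U : X.Opens) (hU : IsAffineOpen U) (hx : x ∈ U) (hs' : List Γ(X, U)),
      hs'.map (X.presheaf.germ U x hx) = hs ∧
      (∃ rs : List Γ(X, U), IsRegular Γ(X, U) rs ∧ Ideal.ofList hs' = Ideal.ofList rs) ∧
      Ideal.ofList hs' ≤ (hU.primeIdealOf ⟨x, hx⟩).asIdeal ∧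
      ∃ (V : S.Opens) (hV : IsAffineOpen V) (e : U ≤ f ⁻¹ᵁ V),
        ((Ideal.Quotient.mk (Ideal.ofList hs')).comp (f.appLE V U e).hom).Flat := by
  have hfx : f x = s := by
    rw [← hyx]
    exact fibre_pt f s y
  obtain ⟨V, hV, hsV, -⟩ := Opens.isBasis_iff_nbhd.mp S.isBasis_affineOpens
    (show s ∈ (⊤ : S.Opens) from trivial)
  have hfxV : f x ∈ V := by
    rw [hfx]
    exact hsV
  have hxW₀ : x ∈ Groth.Agent.Lib.RelH1Main.flatLocus f ⊓ f ⁻¹ᵁ V := ⟨hflat, hfxV⟩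
  obtain ⟨U₀, hU₀W, hxU₀, t₀, ht₀⟩ := exists_list_germ x _ hxW₀ hs
  obtain ⟨U₁, hU₁, hxU₁, hU₁U₀⟩ := Opens.isBasis_iff_nbhd.mp X.isBasis_affineOpens hxU₀
  have hgerm₁ : (t₀.map (X.presheaf.map (homOfLE hU₁U₀).op)).map
      (X.presheaf.germ U₁ x hxU₁) = hs := by
    rw [map_germ_res hU₁U₀ x hxU₁ t₀]
    exact ht₀
  generalize t₀.map (X.presheaf.map (homOfLE hU₁U₀).op) = t₁ at hgerm₁
  subst hgerm₁
  have e₁ : U₁ ≤ f ⁻¹ᵁ V := (hU₁U₀.trans hU₀W).trans inf_le_right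
  have hflU₁ : ∀ x' ∈ U₁, (f.stalkMap x').hom.Flat :=
    fun x' hx' => ((hU₁U₀.trans hU₀W) hx').1
  -- stage 1
  have hstk := stalk_flat f x hflat _ hreg
  obtain ⟨g₁, hxg₁, hfl₂⟩ := stage1 f x hV hU₁ e₁ hxU₁ t₁ hstk
  have hU₂ : IsAffineOpen (X.basicOpen g₁) := hU₁.basicOpen g₁
  have e₂ : X.basicOpen g₁ ≤ f ⁻¹ᵁ V := (X.basicOpen_le g₁).trans e₁
  have hflU₂ : ∀ x' ∈ X.basicOpen g₁, (f.stalkMap x').hom.Flat :=
    fun x' hx' => hflU₁ x' (X.basicOpen_le g₁ hx')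
  have hgerm₂ : (t₁.map (X.presheaf.map (homOfLE (X.basicOpen_le g₁)).op).hom).map
      (X.presheaf.germ (X.basicOpen g₁) x hxg₁) = t₁.map (X.presheaf.germ U₁ x hxU₁) :=
    map_germ_res (X.basicOpen_le g₁) x hxg₁ t₁
  -- stage 2
  obtain ⟨g₂, hxg₂, rs, hrs, hgen⟩ := stage2 f s y x hyx hV hsV hU₂ e₂ hxg₁ hflU₂ _ hfl₂
    (by rw [hgerm₂]; exact hreg)
  have hfl₃ := flat_quot_basicOpen f hU₂ e₂ g₂ _ hfl₂
  have hgerm₃ : ((t₁.map (X.presheaf.map (homOfLE (X.basicOpen_le g₁)).op).hom).map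
      (X.presheaf.map (homOfLE (X.basicOpen_le g₂)).op).hom).map
      (X.presheaf.germ (X.basicOpen g₂) x hxg₂) = t₁.map (X.presheaf.germ U₁ x hxU₁) := by
    rw [← hgerm₂]
    exact map_germ_res (X.basicOpen_le g₂) x hxg₂ _
  refine ⟨X.basicOpen g₂, hU₂.basicOpen g₂, hxg₂, _, hgerm₃, ⟨rs, hrs, hgen⟩, ?_, V, hV, _, hfl₃⟩
  refine Ideal.span_le.mpr ?_
  intro b hb
  refine mem_primeIdealOf_of_germ_mem (hU₂.basicOpen g₂) hxg₂ b ?_
  have hb' : X.presheaf.germ (X.basicOpen g₂) x hxg₂ b ∈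
      t₁.map (X.presheaf.germ U₁ x hxU₁) := by
    rw [← hgerm₃]
    exact List.mem_map.mpr ⟨b, hb, rfl⟩
  exact mem_maximalIdeal_of_isRegular_quot _ _ hreg _ hb'

/-- **S1459** -/
theorem main1459 (f : X ⟶ S) [LocallyOfFinitePresentation f] (x : X)
    (hflat : (f.stalkMap x).hom.Flat) (hs : List ↑(X.presheaf.stalk x))
    (hreg : RingTheory.Sequence.IsRegular (↑(X.presheaf.stalk x) ⧸ Ideal.map (f.stalkMap x).hom (IsLocalRing.maximalIdeal ↑(S.presheaf.stalk (f x))))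
      (hs.map (Ideal.Quotient.mk (Ideal.map (f.stalkMap x).hom (IsLocalRing.maximalIdeal ↑(S.presheaf.stalk (f x))))))) :
    ∃ (U : X.Opens) (hU : IsAffineOpen U) (hx : x ∈ U) (hs' : List Γ(X, U)), hs'.map (X.presheaf.germ U x hx) = hs ∧
      Mor2.IsRegularClosedImmersion (Spec.map (CommRingCat.ofHom (Ideal.Quotient.mk (Ideal.ofList hs'))) ≫ hU.isoSpec.inv) ∧
      x ∈ Set.range ⇑(Spec.map (CommRingCat.ofHom (Ideal.Quotient.mk (Ideal.ofList hs'))) ≫ hU.fromSpec) ∧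
      Flat (Spec.map (CommRingCat.ofHom (Ideal.Quotient.mk (Ideal.ofList hs'))) ≫ hU.fromSpec ≫ f) ∧ LocallyOfFinitePresentation (Spec.map (CommRingCat.ofHom (Ideal.Quotient.mk (Ideal.ofList hs'))) ≫ hU.fromSpec ≫ f) ∧
      ∀ (S' : Scheme.{u}) (g : S' ⟶ S), Mor2.IsRegularClosedImmersion
        (pullback.map (Spec.map (CommRingCat.ofHom (Ideal.Quotient.mk (Ideal.ofList hs'))) ≫ hU.isoSpec.inv ≫ U.ι ≫ f) g (U.ι ≫ f) g (Spec.map (CommRingCat.ofHom (Ideal.Quotient.mk (Ideal.ofList hs'))) ≫ hU.isoSpec.inv) (𝟙 S') (𝟙 S)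
          (Category.comp_id _) ((Category.comp_id g).trans (Category.id_comp g).symm)) := by
  obtain ⟨U, hU, hx, hs', hgerm, ⟨rs, hrs, hgen⟩, hle, V, hV, e, hfl⟩ :=
    core f (f x) (f.asFiber x) x (f.fiberι_asFiber x) hflat hs hreg
  have hmor2 : Mor2.IsRegularClosedImmersion
      (Spec.map (CommRingCat.ofHom (Ideal.Quotient.mk (Ideal.ofList hs'))) ≫ hU.isoSpec.inv) :=
    mor2_spec_quot_comp_iso hU.isoSpec.inv (Ideal.ofList hs') rs hrs hgen
  have hcomp : Spec.map (CommRingCat.ofHom (Ideal.Quotient.mk (Ideal.ofList hs'))) ≫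
        hU.fromSpec ≫ f =
      Spec.map (f.appLE V U e ≫ CommRingCat.ofHom (Ideal.Quotient.mk (Ideal.ofList hs'))) ≫
        hV.fromSpec := by
    rw [Spec.map_comp, Category.assoc, IsAffineOpen.SpecMap_appLE_fromSpec]
  have hflat' : Flat (Spec.map (CommRingCat.ofHom (Ideal.Quotient.mk (Ideal.ofList hs'))) ≫
      hU.fromSpec ≫ f) := by
    rw [hcomp]
    haveI : Flat (Spec.map (f.appLE V U e ≫
        CommRingCat.ofHom (Ideal.Quotient.mk (Ideal.ofList hs')))) := by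
      rw [Flat.SpecMap_iff]
      exact hfl
    infer_instance
  refine ⟨U, hU, hx, hs', hgerm, hmor2, mem_range_spec_quot hU x hx _ hle, hflat', ?_, ?_⟩
  · rw [hcomp]
    haveI : LocallyOfFinitePresentation (Spec.map (f.appLE V U e ≫
        CommRingCat.ofHom (Ideal.Quotient.mk (Ideal.ofList hs')))) := by
      rw [HasRingHomProperty.Spec_iff (P := @LocallyOfFinitePresentation)]
      exact RingHom.FinitePresentation.comp
        (RingHom.FinitePresentation.of_surjective (Ideal.Quotient.mk (Ideal.ofList hs'))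
          Ideal.Quotient.mk_surjective (by rw [Ideal.mk_ker]; exact ofList_fg _))
        (f.finitePresentation_appLE hV hU e)
    infer_instance
  · intro S' g
    haveI : IsClosedImmersion (Spec.map (CommRingCat.ofHom
        (Ideal.Quotient.mk (Ideal.ofList hs'))) ≫ hU.isoSpec.inv) := hmor2.1
    have hrel : RegImm.IsRelRegularImmersion RegImm.Kind.h1 (U.ι ≫ f)
        (Spec.map (CommRingCat.ofHom (Ideal.Quotient.mk (Ideal.ofList hs'))) ≫
          hU.isoSpec.inv) := by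
      refine ⟨Groth.Agent.Lib.RegImmKinds.koszul_h1 _
        (Groth.Agent.Lib.RegImmKinds.regular_koszul _
          (Groth.Agent.Lib.SyntReg.regImm_of_mor2 _ hmor2)), ?_⟩
      have h1 : (Spec.map (CommRingCat.ofHom (Ideal.Quotient.mk (Ideal.ofList hs'))) ≫
          hU.isoSpec.inv) ≫ U.ι ≫ f =
          Spec.map (CommRingCat.ofHom (Ideal.Quotient.mk (Ideal.ofList hs'))) ≫
            hU.fromSpec ≫ f := by
        simp only [IsAffineOpen.fromSpec, Category.assoc]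
      rw [h1]
      exact hflat'
    exact bc_mor2 (U.ι ≫ f) _ hrel g _ _ _

end Groth.Agent.Lib.SliceReg
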