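import Mathlib
import Groth.Prelude.Def_CInt
import Groth.Agent.Lib.SliceReg4_helper2
import Groth.Agent.Lib.FibReg5_helper8
import Groth.Agent.Lib.LocalCrit9_helper9

/-!
# Schematic density from the fibres: algebra and the fibre step (helper2)

* `exists_nzd_mem`: in a Noetherian ring an ideal with zero "annihilator up to powers" contains a
  nonzerodivisor.
* `nzd_of_isPushout`: a nonzerodivisor with flat quotient stays a nonzerodivisor after base change.
* `exists_section_of_mem_span`: elements of the stalk ideal generated by the functions whose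
  nonvanishing locus lies in `U` are germs of such functions.
* `exists_fibre_nzd`: if the trace of `U` on the fibre is schematically dense, this stalk ideal
  contains an element which is a nonzerodivisor on the local ring of the fibre.
APPEND-ONLY once landed.
-/

set_option autoImplicit false
set_option maxHeartbeats 1000000
open AlgebraicGeometry CategoryTheory CategoryTheory.Limits TopologicalSpace TensorProduct
universe u

namespace Groth.Agent.Lib.SchDenseFib

open IsLocalRing Groth.Agent.Lib.FibChart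

section Alg

theorem exists_nzd_mem {R : Type u} [CommRing R] [IsNoetherianRing R] (I : Ideal R)
    (h : ∀ c : R, (∀ j ∈ I, j * c = 0) → c = 0) : ∃ a ∈ I, a ∈ nonZeroDivisors R := by
  by_contra hcon
  push_neg at hcon
  have hdis : Disjoint (I : Set R) (nonZeroDivisors R : Set R) :=
    Set.disjoint_left.mpr (fun a ha hnz => hcon a ha hnz)
  have hlt := Ideal.bot_lt_annihilator_of_disjoint_nonZeroDivisors hdis
  obtain ⟨c, hc, hc0⟩ := SetLike.exists_of_lt hlt
  apply hc0
  rw [Ideal.mem_bot]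
  apply h c
  intro j hj
  have h1 := Module.mem_annihilator.mp hc ⟨j, hj⟩
  have h2 : c * j = 0 := congrArg Subtype.val h1
  rw [mul_comm]
  exact h2

theorem mk_mem_nzd_of_surjective {A B : Type u} [CommRing A] [CommRing B] (φ : A →+* B)
    (hφ : Function.Surjective φ) (J : Ideal A) (hJ : RingHom.ker φ = J) (h : A)
    (hh : φ h ∈ nonZeroDivisors B) : Ideal.Quotient.mk J h ∈ nonZeroDivisors (A ⧸ J) := by
  subst hJ
  rw [mem_nonZeroDivisors_iff_right]
  intro z hz
  obtain ⟨c, rfl⟩ := Ideal.Quotient.mk_surjective z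
  rw [← map_mul, Ideal.Quotient.eq_zero_iff_mem, RingHom.mem_ker, map_mul] at hz
  have h1 := (mem_nonZeroDivisors_iff_right.mp hh) (φ c) hz
  rw [Ideal.Quotient.eq_zero_iff_mem, RingHom.mem_ker]
  exact h1

/-- a nonzerodivisor with flat quotient stays a nonzerodivisor after any base change -/
theorem nzd_of_isPushout {A B A' B' : Type u} [CommRing A] [CommRing B] [CommRing A']
    [CommRing B'] (α : A →+* B) (γ : A →+* A') (β : B →+* B') (δ : A' →+* B')
    (h : IsPushout (CommRingCat.ofHom α) (CommRingCat.ofHom γ) (CommRingCat.ofHom β)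
      (CommRingCat.ofHom δ)) (a : B) (ha : a ∈ nonZeroDivisors B)
    (hfl : ((Ideal.Quotient.mk (Ideal.span {a})).comp α).Flat) : β a ∈ nonZeroDivisors B' := by
  letI algAB : Algebra A B := α.toAlgebra
  letI algAA' : Algebra A A' := γ.toAlgebra
  haveI hflat : Module.Flat A (B ⧸ Ideal.span {a}) :=
    (Groth.Agent.Lib.CartierFlat.flat_comp_mk_iff α (Ideal.span {a})).mp hfl
  let u : B →ₗ[A] B := LinearMap.mulLeft A a
  have hu : Function.Injective u := by
    intro b c hbc
    have h1 : a * (b - c) = 0 := by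
      rw [mul_sub]
      exact sub_eq_zero.mpr hbc
    have h2 := (mem_nonZeroDivisors_iff.mp ha).1 (b - c) h1
    exact sub_eq_zero.mp h2
  have hrange : LinearMap.range u = (Ideal.span {a} : Ideal B).restrictScalars A := by
    ext y
    constructor
    · rintro ⟨b, rfl⟩
      show a * b ∈ Ideal.span {a}
      exact Ideal.mul_mem_right _ _ (Ideal.subset_span rfl)
    · intro hy
      obtain ⟨b, rfl⟩ := Ideal.mem_span_singleton'.mp hy
      exact ⟨b, mul_comm a b⟩
  haveI : Module.Flat A (B ⧸ LinearMap.range u) := by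
    have key : ∀ T : Submodule A B, T = (Ideal.span {a} : Ideal B).restrictScalars A →
        Module.Flat A (B ⧸ T) := by
      rintro _ rfl
      exact Module.Flat.of_linearEquiv
        (Submodule.Quotient.restrictScalarsEquiv A (Ideal.span {a} : Ideal B))
    exact key _ hrange
  have hinj := Groth.Agent.Lib.LocalCrit9.lTensor_injective_of_flat_coker u hu A'
  -- multiplication by `1 ⊗ a`
  have hmul : ∀ z : A' ⊗[A] B, u.lTensor A' z =
      (Algebra.TensorProduct.includeRight (R := A) (A := A') (B := B) a) * z := by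
    intro z
    induction z using TensorProduct.induction_on with
    | zero => simp
    | tmul x b =>
      rw [LinearMap.lTensor_tmul]
      show x ⊗ₜ[A] (a * b) = ((1 : A') ⊗ₜ[A] a) * (x ⊗ₜ[A] b)
      rw [Algebra.TensorProduct.tmul_mul_tmul, one_mul]
    | add z w hz hw => rw [map_add, hz, hw, mul_add]
  have hT := CommRingCat.isPushout_tensorProduct A A' B
  let e := hT.isoIsPushout _ _ h.flip
  have he : ∀ b : B, e.hom.hom ((1 : A') ⊗ₜ[A] b) = β b := by
    intro b
    have := congrArg (fun t => t.hom b) (hT.inr_isoIsPushout_hom _ _ h.flip)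
    exact this
  let eR : A' ⊗[A] B ≃+* B' := e.commRingCatIsoToRingEquiv
  have heR : ∀ z, eR z = e.hom.hom z := fun z => rfl
  rw [mem_nonZeroDivisors_iff_right]
  intro w hw
  obtain ⟨z, rfl⟩ := eR.surjective w
  have h1 : eR (z * (Algebra.TensorProduct.includeRight (R := A) (A := A') (B := B) a)) = 0 := by
    rw [map_mul]
    have h2 : eR (Algebra.TensorProduct.includeRight (R := A) (A := A') (B := B) a) = β a := by
      rw [heR]
      exact he a
    rw [h2]
    exact hw
  have h3 : z * (Algebra.TensorProduct.includeRight (R := A) (A := A') (B := B) a) = 0 :=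
    eR.injective (h1.trans (map_zero eR).symm)
  have h4 : u.lTensor A' z = 0 := by
    rw [hmul, mul_comm]
    exact h3
  have h5 : z = 0 := hinj (h4.trans (map_zero _).symm)
  rw [h5, map_zero]

end Alg

section Germ

variable {X : Scheme.{u}}

theorem basicOpen_add_le {W : X.Opens} (a b : Γ(X, W)) :
    X.basicOpen (a + b) ≤ X.basicOpen a ⊔ X.basicOpen b := by
  intro z hz
  have hzW : z ∈ W := X.basicOpen_le _ hz
  have hu : IsUnit (X.presheaf.germ W z hzW (a + b)) := (X.mem_basicOpen _ z hzW).mp hz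
  rw [map_add] at hu
  rcases IsLocalRing.isUnit_or_isUnit_of_isUnit_add hu with h1 | h1
  · exact Or.inl ((X.mem_basicOpen _ z hzW).mpr h1)
  · exact Or.inr ((X.mem_basicOpen _ z hzW).mpr h1)

/-- elements of the stalk ideal generated by functions invertible only inside `U` are germs of
such functions -/
theorem exists_section_of_mem_span (U : X.Opens) {W : X.Opens} (x : X) (hxW : x ∈ W)
    (h : X.presheaf.stalk x)
    (hh : h ∈ Ideal.span ((fun a : Γ(X, W) => (X.presheaf.germ W x hxW).hom a) ''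
      {a | X.basicOpen a ≤ U})) :
    ∃ (W' : X.Opens) (_ : W' ≤ W) (hx' : x ∈ W') (a : Γ(X, W')),
      (X.presheaf.germ W' x hx').hom a = h ∧ X.basicOpen a ≤ U := by
  induction hh using Submodule.span_induction with
  | mem y hy =>
    obtain ⟨a, ha, rfl⟩ := hy
    exact ⟨W, le_rfl, hxW, a, rfl, ha⟩
  | zero =>
    refine ⟨W, le_rfl, hxW, 0, map_zero _, ?_⟩
    rw [Scheme.basicOpen_zero]
    exact bot_le
  | add y z _ _ hy hz =>
    obtain ⟨W₁, hW₁, hx₁, a₁, ha₁, hU₁⟩ := hy
    obtain ⟨W₂, hW₂, hx₂, a₂, ha₂, hU₂⟩ := hz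
    refine ⟨W₁ ⊓ W₂, inf_le_left.trans hW₁, ⟨hx₁, hx₂⟩,
      X.presheaf.map (homOfLE (inf_le_left : W₁ ⊓ W₂ ≤ W₁)).op a₁ +
        X.presheaf.map (homOfLE (inf_le_right : W₁ ⊓ W₂ ≤ W₂)).op a₂, ?_, ?_⟩
    · rw [map_add]
      have e1 := TopCat.Presheaf.germ_res_apply X.presheaf
        (homOfLE (inf_le_left : W₁ ⊓ W₂ ≤ W₁)) x ⟨hx₁, hx₂⟩ a₁
      have e2 := TopCat.Presheaf.germ_res_apply X.presheaf
        (homOfLE (inf_le_right : W₁ ⊓ W₂ ≤ W₂)) x ⟨hx₁, hx₂⟩ a₂
      rw [← ha₁, ← ha₂]
      exact congrArg₂ (· + ·) e1 e2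
    · refine (basicOpen_add_le _ _).trans (sup_le ?_ ?_)
      · rw [Scheme.basicOpen_res]
        exact inf_le_right.trans hU₁
      · rw [Scheme.basicOpen_res]
        exact inf_le_right.trans hU₂
  | smul γ y _ hy =>
    obtain ⟨W₂, hW₂, hx₂, a₂, ha₂, hU₂⟩ := hy
    obtain ⟨W₁, hW₁, hx₁, γ', hγ'⟩ := TopCat.Presheaf.exists_le_germ_eq X.presheaf γ hx₂
    refine ⟨W₁, hW₁.trans hW₂, hx₁, γ' * X.presheaf.map (homOfLE hW₁).op a₂, ?_, ?_⟩
    · rw [map_mul, smul_eq_mul]
      have e2 := TopCat.Presheaf.germ_res_apply X.presheaf (homOfLE hW₁) x hx₁ a₂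
      rw [← ha₂]
      exact congrArg₂ (· * ·) hγ' e2
    · rw [Scheme.basicOpen_mul, Scheme.basicOpen_res]
      exact inf_le_right.trans (inf_le_right.trans hU₂)

end Germ

section Dense

variable {Y : Scheme.{u}}

/-- on a Noetherian affine chart of a scheme with schematically dense open `Us`, any family of
functions whose nonvanishing loci cover the trace of `Us` generates an ideal containing a
nonzerodivisor -/
theorem exists_nzd_of_dense (Us : Y.Opens) (hUs : CInt.IsSchematicallyDense Us) {Ws : Y.Opens}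
    [IsNoetherianRing Γ(Y, Ws)] (T : Set Γ(Y, Ws))
    (hcov : ∀ z ∈ Ws ⊓ Us, ∃ t ∈ T, z ∈ Y.basicOpen t) :
    ∃ a ∈ Ideal.span T, a ∈ nonZeroDivisors Γ(Y, Ws) := by
  apply exists_nzd_mem
  intro c hc
  apply hUs Ws
  rw [map_zero]
  refine TopCat.Presheaf.section_ext Y.sheaf (Ws ⊓ Us) _ _ (fun z hz => ?_)
  obtain ⟨t, ht, hzt⟩ := hcov z hz
  have e1 := TopCat.Presheaf.germ_res_apply Y.presheaf
    (homOfLE (inf_le_left : Ws ⊓ Us ≤ Ws)) z hz c
  have hu : IsUnit (Y.presheaf.germ Ws z hz.1 t) := (Y.mem_basicOpen _ z hz.1).mp hzt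
  have h0 : Y.presheaf.germ Ws z hz.1 t * Y.presheaf.germ Ws z hz.1 c = 0 := by
    rw [← map_mul, hc t (Ideal.subset_span ht), map_zero]
  have h1 : Y.presheaf.germ Ws z hz.1 c = 0 := (hu.mul_right_eq_zero).mp h0
  exact (e1.trans h1).trans (map_zero (Y.presheaf.germ (Ws ⊓ Us) z hz).hom).symm

end Dense

section Fibre

variable {X S : Scheme.{u}}

/-- **The fibre step**: if the trace of `U` on the fibre through `x` is schematically dense, then
the ideal of the local ring at `x` generated by the functions invertible only inside `U` contains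
an element which is a nonzerodivisor on the local ring of the fibre. -/
theorem exists_fibre_nzd (f : X ⟶ S) [LocallyOfFinitePresentation f] (U : X.Opens) (s : S)
    (y : ↥(f.fiber s)) (x : X) (hyx : (f.fiberι s) y = x)
    (hUs : CInt.IsSchematicallyDense ((f.fiberι s) ⁻¹ᵁ U)) {V : S.Opens} (hV : IsAffineOpen V)
    (hsV : s ∈ V) {W₀ : X.Opens} (hW : IsAffineOpen W₀) (e : W₀ ≤ f ⁻¹ᵁ V) (hxW : x ∈ W₀) :
    ∃ h ∈ Ideal.span ((fun a : Γ(X, W₀) => (X.presheaf.germ W₀ x hxW).hom a) ''
        {a | X.basicOpen a ≤ U}),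
      Ideal.Quotient.mk (Ideal.map (f.stalkMap x).hom
        (maximalIdeal (S.presheaf.stalk (f x)))) h ∈
        nonZeroDivisors (X.presheaf.stalk x ⧸ Ideal.map (f.stalkMap x).hom
          (maximalIdeal (S.presheaf.stalk (f x)))) := by
  subst hyx
  have hyW : y ∈ W f s W₀ := ⟨hxW, trivial⟩
  have hWs := isAffineOpen_W f s hV hsV hW e
  obtain ⟨hsurj, hker⟩ := Groth.Agent.FibStalkKer.main9501 f s y
  haveI : LocallyOfFiniteType f := inferInstance
  haveI := Groth.Agent.Lib.RelQRegFib.isLocallyNoetherian_fiber f s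
  haveI : IsNoetherianRing Γ(f.fiber s, W f s W₀) :=
    IsLocallyNoetherian.component_noetherian ⟨W f s W₀, hWs⟩
  -- the covering family
  have hcov : ∀ z ∈ W f s W₀ ⊓ (f.fiberι s) ⁻¹ᵁ U,
      ∃ t ∈ (fun a : Γ(X, W₀) => ((f.fiberι s).appLE W₀ (W f s W₀) inf_le_left).hom a) ''
        {a | X.basicOpen a ≤ U}, z ∈ (f.fiber s).basicOpen t := by
    intro z hz
    have hzW : (f.fiberι s) z ∈ W₀ := hz.1.1
    have hzU : (f.fiberι s) z ∈ U := hz.2
    obtain ⟨a, haU, hza⟩ := hW.exists_basicOpen_le (V := U) ⟨(f.fiberι s) z, hzU⟩ hzW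
    refine ⟨_, ⟨a, haU, rfl⟩, ?_⟩
    have h1 := Scheme.basicOpen_appLE (f.fiberι s) (W f s W₀) W₀ inf_le_left a
    have h2 : z ∈ W f s W₀ ⊓ (f.fiberι s) ⁻¹ᵁ (X.basicOpen a) := ⟨hz.1, hza⟩
    rw [← h1] at h2
    exact h2
  obtain ⟨a', ha'span, ha'nzd⟩ := exists_nzd_of_dense _ hUs _ hcov
  -- pass to the local ring of the fibre
  letI algBT : Algebra Γ(f.fiber s, W f s W₀) ((f.fiber s).presheaf.stalk y) :=
    TopCat.Presheaf.algebra_section_stalk (f.fiber s).presheaf (⟨y, hyW⟩ : W f s W₀)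
  haveI : IsLocalization.AtPrime ((f.fiber s).presheaf.stalk y)
      (hWs.primeIdealOf ⟨y, hyW⟩).asIdeal := hWs.isLocalization_stalk ⟨_, hyW⟩
  have hnzd' : ((f.fiber s).presheaf.germ (W f s W₀) y hyW).hom a' ∈
      nonZeroDivisors ((f.fiber s).presheaf.stalk y) :=
    IsLocalization.map_nonZeroDivisors_le (hWs.primeIdealOf ⟨y, hyW⟩).asIdeal.primeCompl
      ((f.fiber s).presheaf.stalk y) (Submonoid.mem_map_of_mem _ ha'nzd)
  have hmem : ((f.fiber s).presheaf.germ (W f s W₀) y hyW).hom a' ∈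
      Ideal.map ((f.fiberι s).stalkMap y).hom
        (Ideal.span ((fun a : Γ(X, W₀) => (X.presheaf.germ W₀ ((f.fiberι s) y) hxW).hom a) ''
          {a | X.basicOpen a ≤ U})) := by
    have h1 := Ideal.mem_map_of_mem ((f.fiber s).presheaf.germ (W f s W₀) y hyW).hom ha'span
    rw [Ideal.map_span, Set.image_image] at h1
    rw [Ideal.map_span, Set.image_image]
    have h2 : (fun a : Γ(X, W₀) => ((f.fiber s).presheaf.germ (W f s W₀) y hyW).hom
        (((f.fiberι s).appLE W₀ (W f s W₀) inf_le_left).hom a)) =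
        (fun a : Γ(X, W₀) => ((f.fiberι s).stalkMap y).hom
          ((X.presheaf.germ W₀ ((f.fiberι s) y) hxW).hom a)) := by
      funext a
      exact (GenFlatSchH8.stalkMap_germ_appLE (f.fiberι s)
        (inf_le_left : W f s W₀ ≤ (f.fiberι s) ⁻¹ᵁ W₀) hyW a).symm
    rw [h2] at h1
    exact h1
  obtain ⟨h, hhspan, hφh⟩ :=
    (Ideal.mem_map_iff_of_surjective ((f.fiberι s).stalkMap y).hom hsurj).mp hmem
  refine ⟨h, hhspan, ?_⟩
  refine mk_mem_nzd_of_surjective ((f.fiberι s).stalkMap y).hom hsurj _ hker h ?_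
  rw [hφh]
  exact hnzd'

end Fibre

end Groth.Agent.Lib.SchDenseFib
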