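import Mathlib
import Groth.Prelude.Def_CInt
import Groth.Agent.Lib.SchDenseFib1_helper2
import Groth.Agent.Lib.FibKoszulSch_helper2

/-!
# Schematic density from the fibres: spreading out and base change (helper2)

* `spread_nzd`: a function on an affine chart whose germ is a nonzerodivisor on the local ring of
  the fibre is, near the point, a nonzerodivisor with flat quotient (EGA IV 11.3.7/11.3.8).
* `germ_eq_zero_of_fibre`, `dense_of_isPullback`, `main4871`: for a flat, locally finitely presented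
  morphism, fibrewise schematic density of an open implies universal schematic density
  (EGA IV 11.10.10).
APPEND-ONLY once landed.
-/

set_option autoImplicit false
set_option maxHeartbeats 1000000
open AlgebraicGeometry CategoryTheory CategoryTheory.Limits TopologicalSpace TensorProduct
universe u

namespace Groth.Agent.Lib.SchDenseFib

open IsLocalRing

section Spread

theorem spread_nzd {X S : Scheme.{u}} (f : X ⟶ S) [LocallyOfFinitePresentation f] (x : X)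
    (hflat : (f.stalkMap x).hom.Flat) {V : S.Opens} (hV : IsAffineOpen V) {U : X.Opens}
    (hU : IsAffineOpen U) (e : U ≤ f ⁻¹ᵁ V) (hxU : x ∈ U) (h₀ : Γ(X, U))
    (hreg : Ideal.Quotient.mk (Ideal.map (f.stalkMap x).hom
        (IsLocalRing.maximalIdeal (S.presheaf.stalk (f x))))
          ((X.presheaf.germ U x hxU).hom h₀) ∈
      nonZeroDivisors (X.presheaf.stalk x ⧸ Ideal.map (f.stalkMap x).hom
        (IsLocalRing.maximalIdeal (S.presheaf.stalk (f x))))) :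
    ∃ (g : Γ(X, U)) (_ : x ∈ X.basicOpen g),
      (X.presheaf.map (homOfLE (X.basicOpen_le g)).op).hom h₀ ∈
        nonZeroDivisors Γ(X, X.basicOpen g) ∧
      ((Ideal.Quotient.mk (Ideal.span
          {(X.presheaf.map (homOfLE (X.basicOpen_le g)).op).hom h₀})).comp
        (f.appLE V (X.basicOpen g) ((X.basicOpen_le g).trans e)).hom).Flat := by
  classical
  have hyV : f.base x ∈ V := e hxU
  generalize hh₀ : (X.presheaf.germ U x hxU).hom h₀ = h at hreg
  obtain ⟨hstk1, hstk2⟩ := Groth.Agent.Lib.FibRegH8.stalk_regular f x hflat h hreg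
  -- algebra structures
  letI algAB : Algebra Γ(S, V) Γ(X, U) := (f.appLE V U e).hom.toAlgebra
  haveI : Algebra.FinitePresentation Γ(S, V) Γ(X, U) :=
    HasRingHomProperty.appLE (P := @LocallyOfFinitePresentation) f inferInstance ⟨V, hV⟩ ⟨U, hU⟩ e
  letI algRS : Algebra (S.presheaf.stalk (f x)) (X.presheaf.stalk x) :=
    (f.stalkMap x).hom.toAlgebra
  letI algAR : Algebra Γ(S, V) (S.presheaf.stalk (f x)) :=
    TopCat.Presheaf.algebra_section_stalk S.presheaf (⟨f.base x, hyV⟩ : V)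
  letI algBT : Algebra Γ(X, U) (X.presheaf.stalk x) :=
    TopCat.Presheaf.algebra_section_stalk X.presheaf (⟨x, hxU⟩ : U)
  letI algAT : Algebra Γ(S, V) (X.presheaf.stalk x) :=
    ((algebraMap Γ(X, U) (X.presheaf.stalk x)).comp (algebraMap Γ(S, V) Γ(X, U))).toAlgebra
  haveI : IsScalarTower Γ(S, V) Γ(X, U) (X.presheaf.stalk x) :=
    IsScalarTower.of_algebraMap_eq' rfl
  haveI : IsScalarTower Γ(S, V) (S.presheaf.stalk (f x)) (X.presheaf.stalk x) := by
    refine IsScalarTower.of_algebraMap_eq fun a => ?_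
    show (X.presheaf.germ U x hxU).hom ((f.appLE V U e).hom a) =
      (f.stalkMap x).hom ((S.presheaf.germ V _ hyV).hom a)
    rw [GenFlatSchH8.stalkMap_germ_appLE f e hxU a]
  haveI : IsLocalization.AtPrime (S.presheaf.stalk (f x))
      (hV.primeIdealOf ⟨f x, hyV⟩).asIdeal := hV.isLocalization_stalk ⟨_, hyV⟩
  haveI : IsLocalization.AtPrime (X.presheaf.stalk x)
      (hU.primeIdealOf ⟨x, hxU⟩).asIdeal := hU.isLocalization_stalk ⟨_, hxU⟩
  haveI : Module.Flat Γ(S, V) (S.presheaf.stalk (f x)) :=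
    IsLocalization.flat _ (hV.primeIdealOf ⟨f x, hyV⟩).asIdeal.primeCompl
  have hgerm : algebraMap Γ(X, U) (X.presheaf.stalk x) h₀ = h := hh₀
  -- (α) and (β)
  have hα : ∀ b : Γ(X, U), h₀ * b = 0 →
      ∃ t, t ∉ (hU.primeIdealOf ⟨x, hxU⟩).asIdeal ∧ t * b = 0 := by
    intro b hb
    have h1 : algebraMap Γ(X, U) (X.presheaf.stalk x) b * h = 0 := by
      rw [← hgerm, ← map_mul, mul_comm, hb, map_zero]
    have h2 := hstk1 _ h1
    obtain ⟨t, ht⟩ := (IsLocalization.map_eq_zero_iff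
      (hU.primeIdealOf ⟨x, hxU⟩).asIdeal.primeCompl (X.presheaf.stalk x) b).mp h2
    exact ⟨t.1, t.2, ht⟩
  have hβ : Module.Flat Γ(S, V) (LocalizedModule (hU.primeIdealOf ⟨x, hxU⟩).asIdeal.primeCompl
      (Γ(X, U) ⧸ Ideal.span {h₀})) := by
    refine (Groth.Agent.Lib.FibRegH8.flat_quotient_iff (A := Γ(S, V)) (C := X.presheaf.stalk x)
      (hU.primeIdealOf ⟨x, hxU⟩).asIdeal.primeCompl h₀).mp ?_
    rw [hgerm]
    haveI := hstk2
    exact Module.Flat.trans Γ(S, V) (S.presheaf.stalk (f x)) _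
  obtain ⟨g, hgq, hga, hgb⟩ := Groth.Agent.Lib.FibRegH8.exists_spread (A := Γ(S, V))
    (B := Γ(X, U)) (hU.primeIdealOf ⟨x, hxU⟩).asIdeal h₀ hα hβ
  -- the basic open
  have hxU' : x ∈ X.basicOpen g := FLFH8.mem_basicOpen_of_notMem_prime hU hxU hgq
  haveI : IsLocalization.Away g Γ(X, X.basicOpen g) := hU.isLocalization_basicOpen g
  have e' : X.basicOpen g ≤ f ⁻¹ᵁ V := (X.basicOpen_le g).trans e
  letI algAC : Algebra Γ(S, V) Γ(X, X.basicOpen g) :=
    (f.appLE V (X.basicOpen g) e').hom.toAlgebra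
  haveI : IsScalarTower Γ(S, V) Γ(X, U) Γ(X, X.basicOpen g) := by
    refine IsScalarTower.of_algebraMap_eq' ?_
    show (f.appLE V (X.basicOpen g) e').hom =
      (X.presheaf.map (homOfLE (X.basicOpen_le g)).op).hom.comp (f.appLE V U e).hom
    rw [← CommRingCat.hom_comp, Scheme.Hom.appLE_map]
  refine ⟨g, hxU', ?_, ?_⟩
  · show algebraMap Γ(X, U) Γ(X, X.basicOpen g) h₀ ∈ nonZeroDivisors Γ(X, X.basicOpen g)
    rw [mem_nonZeroDivisors_iff_right]
    intro z hz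
    obtain ⟨⟨b, m⟩, rfl⟩ := IsLocalization.mk'_surjective (Submonoid.powers g) z
    have h1 : IsLocalization.mk' Γ(X, X.basicOpen g) (h₀ * b) m = 0 := by
      rw [← IsLocalization.mul_mk'_eq_mk'_of_mul, mul_comm]
      exact hz
    obtain ⟨m', hm'⟩ := (IsLocalization.mk'_eq_zero_iff (h₀ * b) m).mp h1
    obtain ⟨k, hk⟩ := hga ((m' : Γ(X, U)) * b) (by rw [mul_left_comm]; exact hm')
    rw [IsLocalization.mk'_eq_zero_iff]
    exact ⟨⟨g ^ k, k, rfl⟩ * m', by rw [Submonoid.coe_mul, mul_assoc]; exact hk⟩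
  · have hfl : Module.Flat Γ(S, V) (Γ(X, X.basicOpen g) ⧸
        Ideal.span {algebraMap Γ(X, U) Γ(X, X.basicOpen g) h₀}) :=
      (Groth.Agent.Lib.FibRegH8.flat_quotient_iff (A := Γ(S, V)) (C := Γ(X, X.basicOpen g))
        (Submonoid.powers g) h₀).mpr
        (Groth.Agent.Lib.FlatStageH8.flat_localizedModule_powers_of_forall_prime (k := Γ(S, V))
          (C := Γ(X, U)) (Γ(X, U) ⧸ Ideal.span {h₀}) g (fun Q _ hQ => hgb Q hQ))
    exact (Groth.Agent.Lib.CartierFlat.flat_comp_mk_iff (f.appLE V (X.basicOpen g) e').hom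
      (Ideal.span {(X.presheaf.map (homOfLE (X.basicOpen_le g)).op).hom h₀})).mpr hfl

end Spread

section Main

variable {X S X' S' : Scheme.{u}}

theorem map_map_le {Y : Scheme.{u}} {A B C : Y.Opens} (h1 : A ≤ B) (h2 : B ≤ C) (t : Γ(Y, C)) :
    Y.presheaf.map (homOfLE h1).op (Y.presheaf.map (homOfLE h2).op t) =
      Y.presheaf.map (homOfLE (h1.trans h2)).op t := by
  rw [← CommRingCat.comp_apply, ← Functor.map_comp]
  rfl

theorem germ_eq_zero_of_fibre (f : X ⟶ S) [Flat f] [LocallyOfFinitePresentation f]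
    (U : X.Opens) (hfib : ∀ s : S, CInt.IsSchematicallyDense ((f.fiberι s) ⁻¹ᵁ U))
    (g' : S' ⟶ S) (p : X' ⟶ X) (q : X' ⟶ S') (H : IsPullback p q f g')
    (V' : X'.Opens) (t' : Γ(X', V'))
    (ht' : X'.presheaf.map (homOfLE (inf_le_left : V' ⊓ p ⁻¹ᵁ U ≤ V')).op t' = 0)
    (x' : X') (hx' : x' ∈ V') : (X'.presheaf.germ V' x' hx').hom t' = 0 := by
  classical
  obtain ⟨x, hxdef⟩ : ∃ x : X, x = p x' := ⟨_, rfl⟩
  have hflat : (f.stalkMap x).hom.Flat := Flat.stalkMap f x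
  -- charts
  obtain ⟨VS, hVS, hsVS, -⟩ := Opens.isBasis_iff_nbhd.mp S.isBasis_affineOpens
    (show f x ∈ (⊤ : S.Opens) from trivial)
  have hpt : g' (q x') = f x := by
    have := congrArg (fun t => t.base x') H.w
    rw [hxdef]
    exact this.symm
  obtain ⟨V'S, hV'S, hqV'S, hV'SVS⟩ := Opens.isBasis_iff_nbhd.mp S'.isBasis_affineOpens
    (show q x' ∈ g' ⁻¹ᵁ VS from by
      show g' (q x') ∈ VS
      rw [hpt]
      exact hsVS)
  obtain ⟨W, hW, hxW, hWVS⟩ := Opens.isBasis_iff_nbhd.mp X.isBasis_affineOpens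
    (show x ∈ f ⁻¹ᵁ VS from hsVS)
  -- fibre step
  obtain ⟨h, hspan, hnzd⟩ := exists_fibre_nzd f U (f x) (f.asFiber x) x (f.fiberι_asFiber x)
    (hfib (f x)) hVS hsVS hW hWVS hxW
  obtain ⟨W₁, hW₁W, hxW₁, a₁, ha₁, hU₁⟩ := exists_section_of_mem_span U x hxW h hspan
  obtain ⟨W₂, hW₂, hxW₂, hW₂W₁⟩ := Opens.isBasis_iff_nbhd.mp X.isBasis_affineOpens hxW₁
  have hW₂VS : W₂ ≤ f ⁻¹ᵁ VS := hW₂W₁.trans (hW₁W.trans hWVS)
  obtain ⟨a₂, ha₂def⟩ : ∃ a₂ : Γ(X, W₂), a₂ = X.presheaf.map (homOfLE hW₂W₁).op a₁ := ⟨_, rfl⟩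
  have ha₂ : (X.presheaf.germ W₂ x hxW₂).hom a₂ = h := by
    rw [ha₂def]
    exact (TopCat.Presheaf.germ_res_apply X.presheaf (homOfLE hW₂W₁) x hxW₂ a₁).trans ha₁
  have hU₂ : X.basicOpen a₂ ≤ U := by
    rw [ha₂def, Scheme.basicOpen_res]
    exact inf_le_right.trans hU₁
  -- spreading out
  rw [← ha₂] at hnzd
  obtain ⟨g, hxg, ha₃nzd, ha₃fl⟩ := spread_nzd f x hflat hVS hW₂ hW₂VS hxW₂ a₂ hnzd
  have hW₃ : IsAffineOpen (X.basicOpen g) := hW₂.basicOpen g
  have hW₃VS : X.basicOpen g ≤ f ⁻¹ᵁ VS := (X.basicOpen_le g).trans hW₂VS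
  obtain ⟨a₃, ha₃def⟩ : ∃ a₃ : Γ(X, X.basicOpen g),
      a₃ = (X.presheaf.map (homOfLE (X.basicOpen_le g)).op).hom a₂ := ⟨_, rfl⟩
  rw [← ha₃def] at ha₃nzd ha₃fl
  have hU₃ : X.basicOpen a₃ ≤ U := by
    have h1 : X.basicOpen a₃ = X.basicOpen g ⊓ X.basicOpen a₂ := by
      rw [ha₃def]
      exact Scheme.basicOpen_res X a₂ (homOfLE (X.basicOpen_le g)).op
    rw [h1]
    exact inf_le_right.trans hU₂
  -- the chart of X'
  have hC' : IsAffineOpen (p ⁻¹ᵁ (X.basicOpen g) ⊓ q ⁻¹ᵁ V'S) :=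
    Groth.Agent.Lib.FibKoszulSch.chart_affine H hVS hV'S hW₃ hV'SVS hW₃VS
  have hpush := Groth.Agent.Lib.FibKoszulSch.chart_pushout H hVS hV'S hW₃ hV'SVS hW₃VS
  have hx'C' : x' ∈ p ⁻¹ᵁ (X.basicOpen g) ⊓ q ⁻¹ᵁ V'S := by
    refine ⟨?_, hqV'S⟩
    show p x' ∈ X.basicOpen g
    rw [← hxdef]
    exact hxg
  obtain ⟨C', hC'def⟩ : ∃ C' : X'.Opens, C' = p ⁻¹ᵁ (X.basicOpen g) ⊓ q ⁻¹ᵁ V'S := ⟨_, rfl⟩
  have hC'p : C' ≤ p ⁻¹ᵁ (X.basicOpen g) := hC'def ▸ inf_le_left
  have hC'q : C' ≤ q ⁻¹ᵁ V'S := hC'def ▸ inf_le_right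
  have hpush' : IsPushout (f.appLE VS (X.basicOpen g) hW₃VS) (g'.appLE VS V'S hV'SVS)
      (p.appLE (X.basicOpen g) C' hC'p) (q.appLE V'S C' hC'q) := by
    subst hC'def
    exact hpush
  rw [← hC'def] at hC' hx'C'
  obtain ⟨a', ha'def⟩ : ∃ a' : Γ(X', C'), a' = (p.appLE (X.basicOpen g) C' hC'p).hom a₃ :=
    ⟨_, rfl⟩
  have ha'nzd : a' ∈ nonZeroDivisors Γ(X', C') := by
    rw [ha'def]
    exact nzd_of_isPushout (f.appLE VS (X.basicOpen g) hW₃VS).hom (g'.appLE VS V'S hV'SVS).hom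
      (p.appLE (X.basicOpen g) C' hC'p).hom (q.appLE V'S C' hC'q).hom hpush' a₃ ha₃nzd ha₃fl
  have ha'U : X'.basicOpen a' ≤ p ⁻¹ᵁ U := by
    have h1 : X'.basicOpen a' = C' ⊓ p ⁻¹ᵁ (X.basicOpen a₃) := by
      rw [ha'def]
      exact Scheme.basicOpen_appLE p C' (X.basicOpen g) hC'p a₃
    rw [h1]
    intro z hz
    exact hU₃ hz.2
  -- the germ of a' at x' is a nonzerodivisor
  letI algCT : Algebra Γ(X', C') (X'.presheaf.stalk x') :=
    TopCat.Presheaf.algebra_section_stalk X'.presheaf (⟨x', hx'C'⟩ : C')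
  haveI : IsLocalization.AtPrime (X'.presheaf.stalk x')
      (hC'.primeIdealOf ⟨x', hx'C'⟩).asIdeal := hC'.isLocalization_stalk ⟨_, hx'C'⟩
  have hgnzd : (X'.presheaf.germ C' x' hx'C').hom a' ∈ nonZeroDivisors (X'.presheaf.stalk x') :=
    IsLocalization.map_nonZeroDivisors_le (hC'.primeIdealOf ⟨x', hx'C'⟩).asIdeal.primeCompl
      (X'.presheaf.stalk x') (Submonoid.mem_map_of_mem _ ha'nzd)
  -- a small affine neighbourhood
  obtain ⟨W'', hW'', hx'W'', hW''le⟩ := Opens.isBasis_iff_nbhd.mp X'.isBasis_affineOpens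
    (show x' ∈ V' ⊓ C' from ⟨hx', hx'C'⟩)
  have hW''V' : W'' ≤ V' := hW''le.trans inf_le_left
  have hW''C' : W'' ≤ C' := hW''le.trans inf_le_right
  obtain ⟨t'', ht''def⟩ : ∃ t'' : Γ(X', W''), t'' = X'.presheaf.map (homOfLE hW''V').op t' :=
    ⟨_, rfl⟩
  obtain ⟨a'', ha''def⟩ : ∃ a'' : Γ(X', W''), a'' = X'.presheaf.map (homOfLE hW''C').op a' :=
    ⟨_, rfl⟩
  have hDa'' : X'.basicOpen a'' ≤ V' ⊓ p ⁻¹ᵁ U := by
    have h1 : X'.basicOpen a'' = W'' ⊓ X'.basicOpen a' := by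
      rw [ha''def]
      exact Scheme.basicOpen_res X' a' (homOfLE hW''C').op
    rw [h1]
    exact le_inf (inf_le_left.trans hW''V') (inf_le_right.trans ha'U)
  have hres0 : algebraMap Γ(X', W'') Γ(X', X'.basicOpen a'') t'' = 0 := by
    show X'.presheaf.map (homOfLE (X'.basicOpen_le a'')).op t'' = 0
    rw [ht''def, map_map_le, ← map_map_le hDa'' (inf_le_left : V' ⊓ p ⁻¹ᵁ U ≤ V') t', ht',
      map_zero]
  haveI : IsLocalization.Away a'' Γ(X', X'.basicOpen a'') := hW''.isLocalization_basicOpen a''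
  obtain ⟨n, hn⟩ := IsLocalization.Away.exists_of_eq (S := Γ(X', X'.basicOpen a'')) a''
    (a := t'') (b := 0) (hres0.trans (map_zero _).symm)
  rw [mul_zero] at hn
  -- germs
  have hg := congrArg (X'.presheaf.germ W'' x' hx'W'').hom hn
  rw [map_mul, map_pow, map_zero] at hg
  have e1 : (X'.presheaf.germ W'' x' hx'W'').hom a'' = (X'.presheaf.germ C' x' hx'C').hom a' := by
    rw [ha''def]
    exact TopCat.Presheaf.germ_res_apply X'.presheaf (homOfLE hW''C') x' hx'W'' a'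
  have e2 : (X'.presheaf.germ W'' x' hx'W'').hom t'' = (X'.presheaf.germ V' x' hx').hom t' := by
    rw [ht''def]
    exact TopCat.Presheaf.germ_res_apply X'.presheaf (homOfLE hW''V') x' hx'W'' t'
  rw [e1, e2] at hg
  exact (mem_nonZeroDivisors_iff.mp (pow_mem hgnzd n)).1 _ hg

theorem dense_of_isPullback (f : X ⟶ S) [Flat f] [LocallyOfFinitePresentation f]
    (U : X.Opens) (hfib : ∀ s : S, CInt.IsSchematicallyDense ((f.fiberι s) ⁻¹ᵁ U))
    (g' : S' ⟶ S) (p : X' ⟶ X) (q : X' ⟶ S') (H : IsPullback p q f g') :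
    CInt.IsSchematicallyDense (p ⁻¹ᵁ U) := by
  intro V'
  rw [injective_iff_map_eq_zero]
  intro t' ht'
  refine TopCat.Presheaf.section_ext X'.sheaf V' _ _ (fun x' hx' => ?_)
  have h1 := germ_eq_zero_of_fibre f U hfib g' p q H V' t' ht' x' hx'
  exact h1.trans (map_zero (X'.presheaf.germ V' x' hx').hom).symm

/-- EGA IV 11.10.10: universal schematic density is a fibrewise condition for flat, locally
finitely presented morphisms -/
theorem main4871 {X S : Scheme.{u}} (f : X ⟶ S) [Flat f]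
    [LocallyOfFinitePresentation f] (U : X.Opens) :
    (∀ (S' : Scheme.{u}) (g : S' ⟶ S), CInt.IsSchematicallyDense ((pullback.fst f g) ⁻¹ᵁ U)) ↔
      ∀ s : S, CInt.IsSchematicallyDense ((f.fiberι s) ⁻¹ᵁ U) := by
  constructor
  · intro h s
    exact h (Spec (S.residueField s)) (S.fromSpecResidueField s)
  · intro hfib S' g
    exact dense_of_isPullback f U hfib g _ _ (IsPullback.of_hasPullback f g)

end Main

end Groth.Agent.Lib.SchDenseFib
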