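import Mathlib
import Groth.Prelude.Def_CInt
import Groth.Prelude.Def_CohB1
import Groth.Prelude.Def_FlatMod2
import Groth.Agent.Lib.SchDenseFib1_helper2
import Groth.Agent.Lib.SchDenseFib3_helper2
import Groth.Agent.Lib.FreeLocBC_helper6

/-!
# Schematic density from the fibres, module version: the fibre step (helper2)

`exists_fibre_smulRegular`: if restriction of sections of the pullback of `F` to the fibre from `V`
to `V ∩ U_s` is injective for all opens `V` of the fibre, then the ideal of the local ring at `x`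
generated by the functions invertible only inside `U` contains an element which is regular on
`F_x / 𝔪_s F_x`.
APPEND-ONLY once landed.
-/

set_option autoImplicit false
set_option maxHeartbeats 1000000
open AlgebraicGeometry CategoryTheory CategoryTheory.Limits TopologicalSpace TensorProduct
universe u

namespace Groth.Agent.Lib.SchDenseFib

open IsLocalRing Groth.Agent.Lib.FibChart

section FibreMod

variable {X S : Scheme.{u}}

theorem exists_fibre_smulRegular (f : X ⟶ S) [LocallyOfFinitePresentation f] (F : X.Modules)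
    [F.IsQuasicoherent] (hF : CohB1.IsFP F) (U : X.Opens) (s : S)
    (y : ↥(f.fiber s)) (x : X) (hyx : (f.fiberι s) y = x)
    (hUs : ∀ V : (f.fiber s).Opens, Function.Injective
      (((Scheme.Modules.pullback (f.fiberι s)).obj F).presheaf.map
        (homOfLE (inf_le_left : V ⊓ (f.fiberι s) ⁻¹ᵁ U ≤ V)).op))
    {V : S.Opens} (hV : IsAffineOpen V) (hsV : s ∈ V) {W₀ : X.Opens} (hW : IsAffineOpen W₀)
    (e : W₀ ≤ f ⁻¹ᵁ V) (hxW : x ∈ W₀) :
    ∃ h ∈ Ideal.span ((fun a : Γ(X, W₀) => (X.presheaf.germ W₀ x hxW).hom a) ''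
        {a | X.basicOpen a ≤ U}),
      ∀ m : F.presheaf.stalk x,
        h • m ∈ (Ideal.map (f.stalkMap x).hom (maximalIdeal (S.presheaf.stalk (f x)))) •
          (⊤ : Submodule (X.presheaf.stalk x) (F.presheaf.stalk x)) →
        m ∈ (Ideal.map (f.stalkMap x).hom (maximalIdeal (S.presheaf.stalk (f x)))) •
          (⊤ : Submodule (X.presheaf.stalk x) (F.presheaf.stalk x)) := by
  subst hyx
  obtain ⟨G, hG⟩ : ∃ G : (f.fiber s).Modules, G = (Scheme.Modules.pullback (f.fiberι s)).obj F :=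
    ⟨_, rfl⟩
  have hyW : y ∈ W f s W₀ := ⟨hxW, trivial⟩
  have hWs := isAffineOpen_W f s hV hsV hW e
  obtain ⟨hsurj, hker⟩ := Groth.Agent.FibStalkKer.main9501 f s y
  haveI : LocallyOfFiniteType f := inferInstance
  haveI := Groth.Agent.Lib.RelQRegFib.isLocallyNoetherian_fiber f s
  haveI : IsNoetherianRing Γ(f.fiber s, W f s W₀) :=
    IsLocallyNoetherian.component_noetherian ⟨W f s W₀, hWs⟩
  haveI : SheafOfModules.IsFinitePresentation (R := X.ringCatSheaf) F := hF
  haveI : Module.FinitePresentation Γ(X, W₀) Γ(F, W₀) :=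
    QCohFP2.finitePresentation_of_isFinitePresentation F hW
  haveI hfin : Module.Finite Γ(f.fiber s, W f s W₀)
      Γ((Scheme.Modules.pullback (f.fiberι s)).obj F, W f s W₀) :=
    FpqcH8.finite_sections_pullback (f.fiberι s) F hWs hW inf_le_left
  haveI hqc : ((Scheme.Modules.pullback (f.fiberι s)).obj F).IsQuasicoherent := inferInstance
  rw [← hG] at hUs hfin hqc
  -- the covering family
  have hcov : ∀ z ∈ W f s W₀ ⊓ (f.fiberι s) ⁻¹ᵁ U,
      ∃ t ∈ (fun a : Γ(X, W₀) => ((f.fiberι s).appLE W₀ (W f s W₀) inf_le_left).hom a) ''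
        {a | X.basicOpen a ≤ U}, z ∈ (f.fiber s).basicOpen t := by
    intro z hz
    have hzW : (f.fiberι s) z ∈ W₀ := hz.1.1
    have hzU : (f.fiberι s) z ∈ U := hz.2
    obtain ⟨a, haU, hza⟩ := hW.exists_basicOpen_le (V := U) ⟨(f.fiberι s) z, hzU⟩ hzW
    refine ⟨_, ⟨a, haU, rfl⟩, ?_⟩
    have h1 := Scheme.basicOpen_appLE (f.fiberι s) (W f s W₀) W₀ inf_le_left a
    have h2 : z ∈ W f s W₀ ⊓ (f.fiberι s) ⁻¹ᵁ (X.basicOpen a) := ⟨hz.1, hza⟩
    rw [← h1] at h2
    exact h2
  -- zero annihilator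
  have hann : ∀ c : Γ(G, W f s W₀),
      (∀ j ∈ Ideal.span ((fun a : Γ(X, W₀) =>
        ((f.fiberι s).appLE W₀ (W f s W₀) inf_le_left).hom a) '' {a | X.basicOpen a ≤ U}),
        j • c = 0) → c = 0 := by
    intro c hc
    apply hUs (W f s W₀)
    rw [map_zero]
    refine TopCat.Presheaf.section_ext ⟨G.presheaf, G.isSheaf⟩ _ _ _ (fun z hz => ?_)
    obtain ⟨t, ht, hzt⟩ := hcov z hz
    have e1 := TopCat.Presheaf.germ_res_apply G.presheaf
      (homOfLE (inf_le_left : W f s W₀ ⊓ (f.fiberι s) ⁻¹ᵁ U ≤ W f s W₀)) z hz c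
    have hu : IsUnit ((f.fiber s).presheaf.germ (W f s W₀) z hz.1 t) :=
      ((f.fiber s).mem_basicOpen _ z hz.1).mp hzt
    have h0 : (f.fiber s).presheaf.germ (W f s W₀) z hz.1 t •
        G.presheaf.germ (W f s W₀) z hz.1 c = 0 := by
      rw [← Groth.Agent.Lib.QCohLoc_helper4.germ_smul, hc t (Ideal.subset_span ht), map_zero]
    have h1 : G.presheaf.germ (W f s W₀) z hz.1 c = 0 :=
      hu.smul_left_cancel.mp (h0.trans (smul_zero _).symm)
    exact (e1.trans h1).trans (map_zero _).symm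
  obtain ⟨a', ha'span, ha'reg⟩ := exists_smulRegular_mem _ hann
  -- pass to the local ring of the fibre
  letI algBT : Algebra Γ(f.fiber s, W f s W₀) ((f.fiber s).presheaf.stalk y) :=
    TopCat.Presheaf.algebra_section_stalk (f.fiber s).presheaf (⟨y, hyW⟩ : W f s W₀)
  haveI : IsLocalization.AtPrime ((f.fiber s).presheaf.stalk y)
      (hWs.primeIdealOf ⟨y, hyW⟩).asIdeal := hWs.isLocalization_stalk ⟨_, hyW⟩
  letI modBG := StalkLocH8.modSec G hyW
  haveI : IsScalarTower Γ(f.fiber s, W f s W₀) ((f.fiber s).presheaf.stalk y)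
      (G.presheaf.stalk y) := IsScalarTower.of_algebraMap_smul fun _ _ => rfl
  haveI := StalkLocH8.isLocalizedModule_germLin G hWs hyW
  have hbcG : IsBaseChange ((f.fiber s).presheaf.stalk y) (StalkLocH8.germLin G hyW) :=
    IsLocalizedModule.isBaseChange (hWs.primeIdealOf ⟨y, hyW⟩).asIdeal.primeCompl _ _
  haveI : Module.Flat Γ(f.fiber s, W f s W₀) ((f.fiber s).presheaf.stalk y) :=
    IsLocalization.flat _ (hWs.primeIdealOf ⟨y, hyW⟩).asIdeal.primeCompl
  have hreg' : IsSMulRegular (G.presheaf.stalk y)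
      (((f.fiber s).presheaf.germ (W f s W₀) y hyW).hom a') :=
    ha'reg.of_flat_of_isBaseChange hbcG
  have hmem : ((f.fiber s).presheaf.germ (W f s W₀) y hyW).hom a' ∈
      Ideal.map ((f.fiberι s).stalkMap y).hom
        (Ideal.span ((fun a : Γ(X, W₀) => (X.presheaf.germ W₀ ((f.fiberι s) y) hxW).hom a) ''
          {a | X.basicOpen a ≤ U})) := by
    have h1 := Ideal.mem_map_of_mem ((f.fiber s).presheaf.germ (W f s W₀) y hyW).hom ha'span
    rw [Ideal.map_span, Set.image_image] at h1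
    rw [Ideal.map_span, Set.image_image]
    have h2 : (fun a : Γ(X, W₀) => ((f.fiber s).presheaf.germ (W f s W₀) y hyW).hom
        (((f.fiberι s).appLE W₀ (W f s W₀) inf_le_left).hom a)) =
        (fun a : Γ(X, W₀) => ((f.fiberι s).stalkMap y).hom
          ((X.presheaf.germ W₀ ((f.fiberι s) y) hxW).hom a)) := by
      funext a
      exact (GenFlatSchH8.stalkMap_germ_appLE (f.fiberι s)
        (inf_le_left : W f s W₀ ≤ (f.fiberι s) ⁻¹ᵁ W₀) hyW a).symm
    rw [h2] at h1
    exact h1
  obtain ⟨h, hhspan, hφh⟩ :=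
    (Ideal.mem_map_iff_of_surjective ((f.fiberι s).stalkMap y).hom hsurj).mp hmem
  refine ⟨h, hhspan, ?_⟩
  intro m hm
  -- base change to the fibre at the stalks
  letI algOO : Algebra (X.presheaf.stalk ((f.fiberι s) y)) ((f.fiber s).presheaf.stalk y) :=
    ((f.fiberι s).stalkMap y).hom.toAlgebra
  letI modOG : Module (X.presheaf.stalk ((f.fiberι s) y))
      (((Scheme.Modules.pullback (f.fiberι s)).obj F).presheaf.stalk y) :=
    Module.compHom _ ((f.fiberι s).stalkMap y).hom
  haveI : IsScalarTower (X.presheaf.stalk ((f.fiberι s) y)) ((f.fiber s).presheaf.stalk y)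
      (((Scheme.Modules.pullback (f.fiberι s)).obj F).presheaf.stalk y) :=
    IsScalarTower.of_algebraMap_smul fun _ _ => rfl
  have hbc : IsBaseChange ((f.fiber s).presheaf.stalk y) (PBH8.cStalkLin (f.fiberι s) F y) :=
    PBH8.isBaseChange_cStalk (f.fiberι s) F y
  subst hG
  have hJ0 : ∀ z ∈ (Ideal.map (f.stalkMap ((f.fiberι s) y)).hom
      (maximalIdeal (S.presheaf.stalk (f ((f.fiberι s) y))))) •
      (⊤ : Submodule (X.presheaf.stalk ((f.fiberι s) y)) (F.presheaf.stalk ((f.fiberι s) y))),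
      PBH8.cStalkLin (f.fiberι s) F y z = 0 := by
    intro z hz
    refine Submodule.smul_induction_on hz ?_ ?_
    · intro j hj n _
      rw [map_smul]
      have hj0 : ((f.fiberι s).stalkMap y).hom j = 0 := by
        rw [← RingHom.mem_ker, hker]
        exact hj
      show ((f.fiberι s).stalkMap y).hom j • PBH8.cStalkLin (f.fiberι s) F y n = 0
      rw [hj0, zero_smul]
    · intro z w hz hw
      rw [map_add, hz, hw, add_zero]
  have h1 : PBH8.cStalkLin (f.fiberι s) F y (h • m) = 0 := hJ0 _ hm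
  rw [map_smul] at h1
  have h2 : ((f.fiberι s).stalkMap y).hom h • PBH8.cStalkLin (f.fiberι s) F y m = 0 := h1
  rw [hφh] at h2
  have h3 : PBH8.cStalkLin (f.fiberι s) F y m = 0 := hreg' (h2.trans (smul_zero _).symm)
  have h4 := mem_smul_top_of_isBaseChange_eq_zero (PBH8.cStalkLin (f.fiberι s) F y) hbc hsurj m h3
  have hkerJ : RingHom.ker (algebraMap (X.presheaf.stalk ((f.fiberι s) y))
      ((f.fiber s).presheaf.stalk y)) = Ideal.map (f.stalkMap ((f.fiberι s) y)).hom
      (maximalIdeal (S.presheaf.stalk (f ((f.fiberι s) y)))) := hker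
  rw [hkerJ] at h4
  exact h4

end FibreMod

end Groth.Agent.Lib.SchDenseFib
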