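import Mathlib
import Groth.Prelude.Def_CInt
import Groth.Prelude.Def_Coh
import Groth.Prelude.Def_CohB1
import Groth.Prelude.Def_FlatMod2
import Groth.Agent.Lib.SchDenseFib2_helper2
import Groth.Agent.Lib.SchDenseFib4_helper2
import Groth.Agent.S2107

/-!
# Schematic density from the fibres, module version: assembly (helper2)

EGA IV 11.10.10 for modules: for `f` locally of finite presentation and `F` quasi-coherent of finite
presentation, flat over the base, injectivity of `F → j_* j^* F` after every base change is a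
fibrewise condition.
APPEND-ONLY once landed.
-/

set_option autoImplicit false
set_option maxHeartbeats 1000000
open AlgebraicGeometry CategoryTheory CategoryTheory.Limits TopologicalSpace TensorProduct
universe u

namespace Groth.Agent.Lib.SchDenseFib

open IsLocalRing

section MainMod

variable {X S X' S' : Scheme.{u}}

/-- **the chart claim**: a section of the pullback of `F` over the chart `p⁻¹W₂ ∩ q⁻¹V'S` killed by
a function `a₂` which is regular on the fibre module at `x` is killed by a function invertible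
at `x`. -/
theorem exists_smul_eq_zero_chart (f : X ⟶ S) [LocallyOfFinitePresentation f] (F : X.Modules)
    [F.IsQuasicoherent] (hF : CohB1.IsFP F)
    (g' : S' ⟶ S) (p : X' ⟶ X) (q : X' ⟶ S') (H : IsPullback p q f g')
    {VS : S.Opens} (hVS : IsAffineOpen VS) {V'S : S'.Opens} (hV'S : IsAffineOpen V'S)
    (hV'SVS : V'S ≤ g' ⁻¹ᵁ VS) {W₂ : X.Opens} (hW₂ : IsAffineOpen W₂) (hW₂VS : W₂ ≤ f ⁻¹ᵁ VS)
    (x : X) (hxW₂ : x ∈ W₂) (hflat : FlatMod.IsFlatOverAt f F x) (a₂ : Γ(X, W₂))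
    (hreg : ∀ m : F.presheaf.stalk x,
        (X.presheaf.germ W₂ x hxW₂).hom a₂ • m ∈
          (Ideal.map (f.stalkMap x).hom (maximalIdeal (S.presheaf.stalk (f x)))) •
            (⊤ : Submodule (X.presheaf.stalk x) (F.presheaf.stalk x)) →
        m ∈ (Ideal.map (f.stalkMap x).hom (maximalIdeal (S.presheaf.stalk (f x)))) •
          (⊤ : Submodule (X.presheaf.stalk x) (F.presheaf.stalk x)))
    (n' : Γ((Scheme.Modules.pullback p).obj F, p ⁻¹ᵁ W₂ ⊓ q ⁻¹ᵁ V'S))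
    (hn' : (p.appLE W₂ (p ⁻¹ᵁ W₂ ⊓ q ⁻¹ᵁ V'S) inf_le_left).hom a₂ • n' = 0) :
    ∃ b : Γ(X, W₂), x ∈ X.basicOpen b ∧
      (p.appLE W₂ (p ⁻¹ᵁ W₂ ⊓ q ⁻¹ᵁ V'S) inf_le_left).hom b • n' = 0 := by
  classical
  have hC' := Groth.Agent.Lib.FibKoszulSch.chart_affine H hVS hV'S hW₂ hV'SVS hW₂VS
  have hpush := Groth.Agent.Lib.FibKoszulSch.chart_pushout H hVS hV'S hW₂ hV'SVS hW₂VS
  have hsVS : f.base x ∈ VS := hW₂VS hxW₂
  -- rings of the charts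
  letI algAB : Algebra Γ(S, VS) Γ(X, W₂) := (f.appLE VS W₂ hW₂VS).hom.toAlgebra
  letI algAA' : Algebra Γ(S, VS) Γ(S', V'S) := (g'.appLE VS V'S hV'SVS).hom.toAlgebra
  letI algBB' : Algebra Γ(X, W₂) Γ(X', p ⁻¹ᵁ W₂ ⊓ q ⁻¹ᵁ V'S) :=
    (p.appLE W₂ (p ⁻¹ᵁ W₂ ⊓ q ⁻¹ᵁ V'S) inf_le_left).hom.toAlgebra
  letI algA'B' : Algebra Γ(S', V'S) Γ(X', p ⁻¹ᵁ W₂ ⊓ q ⁻¹ᵁ V'S) :=
    (q.appLE V'S (p ⁻¹ᵁ W₂ ⊓ q ⁻¹ᵁ V'S) inf_le_right).hom.toAlgebra
  letI algAB' : Algebra Γ(S, VS) Γ(X', p ⁻¹ᵁ W₂ ⊓ q ⁻¹ᵁ V'S) :=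
    ((algebraMap Γ(X, W₂) Γ(X', p ⁻¹ᵁ W₂ ⊓ q ⁻¹ᵁ V'S)).comp
      (algebraMap Γ(S, VS) Γ(X, W₂))).toAlgebra
  haveI : IsScalarTower Γ(S, VS) Γ(X, W₂) Γ(X', p ⁻¹ᵁ W₂ ⊓ q ⁻¹ᵁ V'S) :=
    IsScalarTower.of_algebraMap_eq' rfl
  haveI : IsScalarTower Γ(S, VS) Γ(S', V'S) Γ(X', p ⁻¹ᵁ W₂ ⊓ q ⁻¹ᵁ V'S) := by
    refine IsScalarTower.of_algebraMap_eq' ?_
    show (p.appLE W₂ (p ⁻¹ᵁ W₂ ⊓ q ⁻¹ᵁ V'S) inf_le_left).hom.comp (f.appLE VS W₂ hW₂VS).hom =
      (q.appLE V'S (p ⁻¹ᵁ W₂ ⊓ q ⁻¹ᵁ V'S) inf_le_right).hom.comp (g'.appLE VS V'S hV'SVS).hom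
    rw [← CommRingCat.hom_comp, ← CommRingCat.hom_comp, hpush.w]
  haveI : Algebra.IsPushout Γ(S, VS) Γ(S', V'S) Γ(X, W₂) Γ(X', p ⁻¹ᵁ W₂ ⊓ q ⁻¹ᵁ V'S) :=
    CommRingCat.isPushout_iff_isPushout.mp hpush.flip
  -- stalk rings
  letI algBO : Algebra Γ(X, W₂) (X.presheaf.stalk x) :=
    TopCat.Presheaf.algebra_section_stalk X.presheaf (⟨x, hxW₂⟩ : W₂)
  letI algAR : Algebra Γ(S, VS) (S.presheaf.stalk (f x)) :=
    TopCat.Presheaf.algebra_section_stalk S.presheaf (⟨f.base x, hsVS⟩ : VS)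
  letI algRO : Algebra (S.presheaf.stalk (f x)) (X.presheaf.stalk x) :=
    (f.stalkMap x).hom.toAlgebra
  letI algAO : Algebra Γ(S, VS) (X.presheaf.stalk x) :=
    ((algebraMap Γ(X, W₂) (X.presheaf.stalk x)).comp (algebraMap Γ(S, VS) Γ(X, W₂))).toAlgebra
  haveI : IsScalarTower Γ(S, VS) Γ(X, W₂) (X.presheaf.stalk x) :=
    IsScalarTower.of_algebraMap_eq' rfl
  haveI : IsScalarTower Γ(S, VS) (S.presheaf.stalk (f x)) (X.presheaf.stalk x) := by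
    refine IsScalarTower.of_algebraMap_eq fun a => ?_
    show (X.presheaf.germ W₂ x hxW₂).hom ((f.appLE VS W₂ hW₂VS).hom a) =
      (f.stalkMap x).hom ((S.presheaf.germ VS _ hsVS).hom a)
    rw [GenFlatSchH8.stalkMap_germ_appLE f hW₂VS hxW₂ a]
  haveI : IsLocalization.AtPrime (S.presheaf.stalk (f x))
      (hVS.primeIdealOf ⟨f x, hsVS⟩).asIdeal := hVS.isLocalization_stalk ⟨_, hsVS⟩
  haveI : Module.Flat Γ(S, VS) (S.presheaf.stalk (f x)) :=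
    IsLocalization.flat _ (hVS.primeIdealOf ⟨f x, hsVS⟩).asIdeal.primeCompl
  -- modules
  letI modAM : Module Γ(S, VS) Γ(F, W₂) := Module.compHom _ (f.appLE VS W₂ hW₂VS).hom
  haveI : IsScalarTower Γ(S, VS) Γ(X, W₂) Γ(F, W₂) :=
    IsScalarTower.of_algebraMap_smul fun _ _ => rfl
  letI modBL : Module Γ(X, W₂) (F.presheaf.stalk x) := StalkLocH8.modSec F hxW₂
  haveI : IsScalarTower Γ(X, W₂) (X.presheaf.stalk x) (F.presheaf.stalk x) :=
    IsScalarTower.of_algebraMap_smul fun _ _ => rfl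
  letI modAL : Module Γ(S, VS) (F.presheaf.stalk x) :=
    Module.compHom _ (algebraMap Γ(S, VS) (X.presheaf.stalk x))
  haveI : IsScalarTower Γ(S, VS) Γ(X, W₂) (F.presheaf.stalk x) :=
    IsScalarTower.of_algebraMap_smul fun _ _ => rfl
  haveI : IsScalarTower Γ(S, VS) (X.presheaf.stalk x) (F.presheaf.stalk x) :=
    IsScalarTower.of_algebraMap_smul fun _ _ => rfl
  letI modRL : Module (S.presheaf.stalk (f x)) (F.presheaf.stalk x) :=
    FlatMod.moduleStalkOver f F x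
  haveI : IsScalarTower (S.presheaf.stalk (f x)) (X.presheaf.stalk x) (F.presheaf.stalk x) :=
    IsScalarTower.of_algebraMap_smul fun _ _ => rfl
  haveI : IsScalarTower Γ(S, VS) (S.presheaf.stalk (f x)) (F.presheaf.stalk x) := by
    refine IsScalarTower.of_algebraMap_smul fun r z => ?_
    show (f.stalkMap x).hom ((S.presheaf.germ VS (f x) hsVS).hom r) • z =
      ((X.presheaf.germ W₂ x hxW₂).hom ((f.appLE VS W₂ hW₂VS).hom r)) • z
    rw [GenFlatSchH8.stalkMap_germ_appLE f hW₂VS hxW₂ r]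
  letI modBM' : Module Γ(X, W₂)
      Γ((Scheme.Modules.pullback p).obj F, p ⁻¹ᵁ W₂ ⊓ q ⁻¹ᵁ V'S) :=
    Module.compHom _ (p.appLE W₂ (p ⁻¹ᵁ W₂ ⊓ q ⁻¹ᵁ V'S) inf_le_left).hom
  haveI : IsScalarTower Γ(X, W₂) Γ(X', p ⁻¹ᵁ W₂ ⊓ q ⁻¹ᵁ V'S)
      Γ((Scheme.Modules.pullback p).obj F, p ⁻¹ᵁ W₂ ⊓ q ⁻¹ᵁ V'S) :=
    IsScalarTower.of_algebraMap_smul fun _ _ => rfl
  have hc := PBH8.isBaseChange_cUV p F (inf_le_left : p ⁻¹ᵁ W₂ ⊓ q ⁻¹ᵁ V'S ≤ p ⁻¹ᵁ W₂) hC' hW₂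
  haveI := StalkLocH8.isLocalizedModule_germLin F hW₂ hxW₂
  -- the local flatness criterion at the stalk
  haveI : IsLocalHom (algebraMap (S.presheaf.stalk (f x)) (X.presheaf.stalk x)) :=
    (inferInstance : IsLocalHom (f.stalkMap x).hom)
  have hess : CAlgX.IsEssFinitePresentation (S.presheaf.stalk (f x)) (X.presheaf.stalk x) :=
    Groth.Agent.Lib.FibInjH6.isEssFinitePresentation_stalkMap f x
  haveI : Module.Flat (S.presheaf.stalk (f x)) (F.presheaf.stalk x) := hflat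
  haveI : Module.FinitePresentation (X.presheaf.stalk x) (F.presheaf.stalk x) :=
    Groth.Agent.Lib.FreeLocBCH6.finitePresentation_stalk F hF x
  obtain ⟨hreg1, hfl1⟩ := Groth.Agent.S2107.result hess
    (LinearMap.lsmul (X.presheaf.stalk x) (F.presheaf.stalk x)
      ((X.presheaf.germ W₂ x hxW₂).hom a₂)) hreg
  -- flatness over the chart of the base
  have hflA : Module.Flat Γ(S, VS) (F.presheaf.stalk x ⧸
      LinearMap.range (LinearMap.lsmul (X.presheaf.stalk x) (F.presheaf.stalk x)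
        ((X.presheaf.germ W₂ x hxW₂).hom a₂))) := by
    haveI := hfl1
    exact Module.Flat.trans Γ(S, VS) (S.presheaf.stalk (f x)) _
  have hflA' := flat_quot_range_restrictScalars (A := Γ(S, VS))
    ((X.presheaf.germ W₂ x hxW₂).hom a₂) hflA
  have hu : ((LinearMap.lsmul (X.presheaf.stalk x) (F.presheaf.stalk x)
      ((X.presheaf.germ W₂ x hxW₂).hom a₂)).restrictScalars Γ(S, VS)) =
      ((LinearMap.lsmul Γ(X, W₂) (F.presheaf.stalk x) a₂).restrictScalars Γ(S, VS)) :=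
    LinearMap.ext fun _ => rfl
  rw [hu] at hflA'
  haveI := hflA'
  have hinj := rTensor_injective_of_flat_coker
    ((LinearMap.lsmul Γ(X, W₂) (F.presheaf.stalk x) a₂).restrictScalars Γ(S, VS))
    (fun z w hzw => hreg1 hzw) Γ(S', V'S)
  obtain ⟨b, hb, hbn⟩ := exists_smul_eq_zero_of_isPushout
    (PBH8.cUVLin p F (inf_le_left : p ⁻¹ᵁ W₂ ⊓ q ⁻¹ᵁ V'S ≤ p ⁻¹ᵁ W₂)) hc
    (hW₂.primeIdealOf ⟨x, hxW₂⟩).asIdeal.primeCompl (StalkLocH8.germLin F hxW₂) a₂ hinj n' hn'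
  exact ⟨b, FLFH8.mem_basicOpen_of_notMem_prime hW₂ hxW₂ hb, hbn⟩

end MainMod

end Groth.Agent.Lib.SchDenseFib
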