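import Mathlib
import Groth.Prelude.Def_CInt
import Groth.Prelude.Def_Coh
import Groth.Prelude.Def_CohB1
import Groth.Prelude.Def_FlatMod2
import Groth.Agent.Lib.SchDenseFib5_helper2

/-!
# Schematic density from the fibres, module version: the theorem (helper2)

EGA IV 11.10.10 for modules (`main4879`).
APPEND-ONLY once landed.
-/

set_option autoImplicit false
set_option maxHeartbeats 1000000
open AlgebraicGeometry CategoryTheory CategoryTheory.Limits TopologicalSpace TensorProduct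
universe u

namespace Groth.Agent.Lib.SchDenseFib

open IsLocalRing Groth.Agent.Lib.QCohLoc_helper4

section FinalMod

variable {X S X' S' : Scheme.{u}}

/-- the final step, for an arbitrary quasi-coherent module `P` on `X'`: if every section of `P`
over the affine chart `C'` killed by (the pullback of) `a₂` is killed by a function invertible at
`x'`, then sections of `P` vanishing on the preimage of `U ⊇ D(a₂)` have zero germ at `x'`. -/
theorem germ_eq_zero_aux (p : X' ⟶ X) (P : X'.Modules) [P.IsQuasicoherent] (U : X.Opens)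
    {W₂ : X.Opens} (a₂ : Γ(X, W₂)) (hU₂ : X.basicOpen a₂ ≤ U) (C' : X'.Opens)
    (hC' : IsAffineOpen C') (hC'p : C' ≤ p ⁻¹ᵁ W₂) (x' : X') (hx'C' : x' ∈ C')
    (hclaim' : ∀ n' : Γ(P, C'), (p.appLE W₂ C' hC'p).hom a₂ • n' = 0 →
      ∃ b : Γ(X, W₂), p x' ∈ X.basicOpen b ∧ (p.appLE W₂ C' hC'p).hom b • n' = 0)
    (V' : X'.Opens) (t' : Γ(P, V'))
    (ht' : P.presheaf.map (homOfLE (inf_le_left : V' ⊓ p ⁻¹ᵁ U ≤ V')).op t' = 0)
    (hx' : x' ∈ V') : P.presheaf.germ V' x' hx' t' = 0 := by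
  classical
  obtain ⟨a', ha'def⟩ : ∃ a' : Γ(X', C'), a' = (p.appLE W₂ C' hC'p).hom a₂ := ⟨_, rfl⟩
  have ha'U : X'.basicOpen a' ≤ p ⁻¹ᵁ U := by
    have h1 : X'.basicOpen a' = C' ⊓ p ⁻¹ᵁ (X.basicOpen a₂) := by
      rw [ha'def]
      exact Scheme.basicOpen_appLE p C' W₂ hC'p a₂
    rw [h1]
    intro z hz
    exact hU₂ hz.2
  have hloc : LocOn P C' := locOn_of_isQuasicoherent P hC'
  -- the germ of a' at x' is regular on the stalk of P
  have hgreg : IsSMulRegular (P.presheaf.stalk x') ((X'.presheaf.germ C' x' hx'C').hom a') := by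
    intro z₁ z₂ hz
    have hz0 : (X'.presheaf.germ C' x' hx'C').hom a' • (z₁ - z₂) = 0 := by
      rw [smul_sub]
      exact sub_eq_zero.mpr hz
    obtain ⟨z, hzdef⟩ : ∃ z, z = z₁ - z₂ := ⟨_, rfl⟩
    rw [← hzdef] at hz0
    suffices hz : z = 0 by
      rw [hzdef] at hz
      exact sub_eq_zero.mp hz
    obtain ⟨g₀, n₀, hxg₀, hn₀⟩ := hloc.exists_germ_eq_smul hC' hx'C' z
    have h1 : P.presheaf.germ C' x' hx'C' (a' • n₀) = 0 := by
      rw [germ_smul, hn₀, smul_smul, mul_comm, ← smul_smul]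
      have : (X'.presheaf.germ C' x' hx'C') a' • z = 0 := hz0
      rw [this, smul_zero]
    obtain ⟨g₁, hxg₁, hg₁⟩ := hloc.exists_smul_eq_zero_of_germ_eq_zero hC' hx'C' _ h1
    have h2 : (p.appLE W₂ C' hC'p).hom a₂ • (g₁ • n₀) = 0 := by
      rw [← ha'def, smul_smul, mul_comm, ← smul_smul, hg₁]
    obtain ⟨b, hxb, hb⟩ := hclaim' _ h2
    -- units
    have hub : IsUnit ((X'.presheaf.germ C' x' hx'C') ((p.appLE W₂ C' hC'p).hom b)) := by
      rw [← Scheme.mem_basicOpen _ _ _ hx'C']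
      have h3 := Scheme.basicOpen_appLE p C' W₂ hC'p b
      have h4 : x' ∈ C' ⊓ p ⁻¹ᵁ (X.basicOpen b) := ⟨hx'C', hxb⟩
      rw [← h3] at h4
      exact h4
    have hu1 : IsUnit ((X'.presheaf.germ C' x' hx'C') g₁) :=
      (Scheme.mem_basicOpen _ _ _ hx'C').mp hxg₁
    have hu0 : IsUnit ((X'.presheaf.germ C' x' hx'C') g₀) :=
      (Scheme.mem_basicOpen _ _ _ hx'C').mp hxg₀
    have h5 := congrArg (P.presheaf.germ C' x' hx'C') hb
    rw [germ_smul, germ_smul, hn₀, map_zero] at h5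
    have h6 := hub.smul_left_cancel.mp (h5.trans (smul_zero _).symm)
    have h7 := hu1.smul_left_cancel.mp (h6.trans (smul_zero _).symm)
    exact hu0.smul_left_cancel.mp (h7.trans (smul_zero _).symm)
  -- a small affine neighbourhood
  obtain ⟨W'', hW'', hx'W'', hW''le⟩ := Opens.isBasis_iff_nbhd.mp X'.isBasis_affineOpens
    (show x' ∈ V' ⊓ C' from ⟨hx', hx'C'⟩)
  have hW''V' : W'' ≤ V' := hW''le.trans inf_le_left
  have hW''C' : W'' ≤ C' := hW''le.trans inf_le_right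
  obtain ⟨t'', ht''def⟩ : ∃ t'' : Γ(P, W''), t'' = P.presheaf.map (homOfLE hW''V').op t' :=
    ⟨_, rfl⟩
  obtain ⟨a'', ha''def⟩ : ∃ a'' : Γ(X', W''), a'' = X'.presheaf.map (homOfLE hW''C').op a' :=
    ⟨_, rfl⟩
  have hDa'' : X'.basicOpen a'' ≤ V' ⊓ p ⁻¹ᵁ U := by
    have h1 : X'.basicOpen a'' = W'' ⊓ X'.basicOpen a' := by
      rw [ha''def]
      exact Scheme.basicOpen_res X' a' (homOfLE hW''C').op
    rw [h1]
    exact le_inf (inf_le_left.trans hW''V') (inf_le_right.trans ha'U)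
  have hres0 : P.presheaf.map (homOfLE (X'.basicOpen_le a'')).op t'' = 0 := by
    rw [ht''def]
    refine (map_map_eq P (homOfLE hW''V').op (homOfLE (X'.basicOpen_le a'')).op
      ((homOfLE (inf_le_left : V' ⊓ p ⁻¹ᵁ U ≤ V')).op ≫ (homOfLE hDa'').op) t').trans ?_
    rw [Functor.map_comp, ConcreteCategory.comp_apply, ht', map_zero]
  obtain ⟨n, hn⟩ := exists_pow_smul_eq_zero P hW'' a'' t'' hres0
  -- germs
  have hg := congrArg (P.presheaf.germ W'' x' hx'W'') hn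
  rw [germ_smul, map_pow, map_zero] at hg
  have e1 : (X'.presheaf.germ W'' x' hx'W'') a'' = (X'.presheaf.germ C' x' hx'C') a' := by
    rw [ha''def]
    exact TopCat.Presheaf.germ_res_apply X'.presheaf (homOfLE hW''C') x' hx'W'' a'
  have e2 : P.presheaf.germ W'' x' hx'W'' t'' = P.presheaf.germ V' x' hx' t' := by
    rw [ht''def]
    exact TopCat.Presheaf.germ_res_apply P.presheaf (homOfLE hW''V') x' hx'W'' t'
  rw [e1, e2] at hg
  exact (hgreg.pow n) (hg.trans (smul_zero _).symm)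

theorem germ_eq_zero_of_fibre_mod (f : X ⟶ S) [LocallyOfFinitePresentation f] (F : X.Modules)
    [F.IsQuasicoherent] (hF : CohB1.IsFP F) (hflat : FlatMod.IsFlatOver f F) (U : X.Opens)
    (hfib : ∀ (s : S) (V : (f.fiber s).Opens), Function.Injective
      (((Scheme.Modules.pullback (f.fiberι s)).obj F).presheaf.map
        (homOfLE (inf_le_left : V ⊓ (f.fiberι s) ⁻¹ᵁ U ≤ V)).op))
    (g' : S' ⟶ S) (p : X' ⟶ X) (q : X' ⟶ S') (H : IsPullback p q f g')
    (V' : X'.Opens) (t' : Γ((Scheme.Modules.pullback p).obj F, V'))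
    (ht' : ((Scheme.Modules.pullback p).obj F).presheaf.map
      (homOfLE (inf_le_left : V' ⊓ p ⁻¹ᵁ U ≤ V')).op t' = 0)
    (x' : X') (hx' : x' ∈ V') :
    ((Scheme.Modules.pullback p).obj F).presheaf.germ V' x' hx' t' = 0 := by
  classical
  -- charts
  obtain ⟨VS, hVS, hsVS, -⟩ := Opens.isBasis_iff_nbhd.mp S.isBasis_affineOpens
    (show f (p x') ∈ (⊤ : S.Opens) from trivial)
  have hpt : g' (q x') = f (p x') := by
    have := congrArg (fun t => t.base x') H.w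
    exact this.symm
  obtain ⟨V'S, hV'S, hqV'S, hV'SVS⟩ := Opens.isBasis_iff_nbhd.mp S'.isBasis_affineOpens
    (show q x' ∈ g' ⁻¹ᵁ VS from by
      show g' (q x') ∈ VS
      rw [hpt]
      exact hsVS)
  obtain ⟨W, hW, hxW, hWVS⟩ := Opens.isBasis_iff_nbhd.mp X.isBasis_affineOpens
    (show p x' ∈ f ⁻¹ᵁ VS from hsVS)
  -- fibre step
  obtain ⟨h, hspan, hreg⟩ := exists_fibre_smulRegular f F hF U (f (p x')) (f.asFiber (p x'))
    (p x') (f.fiberι_asFiber (p x')) (hfib (f (p x'))) hVS hsVS hW hWVS hxW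
  obtain ⟨W₁, hW₁W, hxW₁, a₁, ha₁, hU₁⟩ := exists_section_of_mem_span U (p x') hxW h hspan
  obtain ⟨W₂, hW₂, hxW₂, hW₂W₁⟩ := Opens.isBasis_iff_nbhd.mp X.isBasis_affineOpens hxW₁
  have hW₂VS : W₂ ≤ f ⁻¹ᵁ VS := hW₂W₁.trans (hW₁W.trans hWVS)
  obtain ⟨a₂, ha₂def⟩ : ∃ a₂ : Γ(X, W₂), a₂ = X.presheaf.map (homOfLE hW₂W₁).op a₁ := ⟨_, rfl⟩
  have ha₂ : (X.presheaf.germ W₂ (p x') hxW₂).hom a₂ = h := by
    rw [ha₂def]
    exact (TopCat.Presheaf.germ_res_apply X.presheaf (homOfLE hW₂W₁) (p x') hxW₂ a₁).trans ha₁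
  have hU₂ : X.basicOpen a₂ ≤ U := by
    rw [ha₂def, Scheme.basicOpen_res]
    exact inf_le_right.trans hU₁
  subst ha₂
  -- the chart of X'
  have hC' : IsAffineOpen (p ⁻¹ᵁ W₂ ⊓ q ⁻¹ᵁ V'S) :=
    Groth.Agent.Lib.FibKoszulSch.chart_affine H hVS hV'S hW₂ hV'SVS hW₂VS
  have hx'C' : x' ∈ p ⁻¹ᵁ W₂ ⊓ q ⁻¹ᵁ V'S := ⟨hxW₂, hqV'S⟩
  have hclaim := exists_smul_eq_zero_chart f F hF g' p q H hVS hV'S hV'SVS hW₂ hW₂VS (p x') hxW₂
    (hflat (p x')) a₂ hreg
  exact germ_eq_zero_aux p ((Scheme.Modules.pullback p).obj F) U a₂ hU₂ (p ⁻¹ᵁ W₂ ⊓ q ⁻¹ᵁ V'S)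
    hC' inf_le_left x' hx'C' hclaim V' t' ht' hx'

theorem injective_of_isPullback_mod (f : X ⟶ S) [LocallyOfFinitePresentation f] (F : X.Modules)
    [F.IsQuasicoherent] (hF : CohB1.IsFP F) (hflat : FlatMod.IsFlatOver f F) (U : X.Opens)
    (hfib : ∀ (s : S) (V : (f.fiber s).Opens), Function.Injective
      (((Scheme.Modules.pullback (f.fiberι s)).obj F).presheaf.map
        (homOfLE (inf_le_left : V ⊓ (f.fiberι s) ⁻¹ᵁ U ≤ V)).op))
    (g' : S' ⟶ S) (p : X' ⟶ X) (q : X' ⟶ S') (H : IsPullback p q f g') (V' : X'.Opens) :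
    Function.Injective (((Scheme.Modules.pullback p).obj F).presheaf.map
      (homOfLE (inf_le_left : V' ⊓ p ⁻¹ᵁ U ≤ V')).op) := by
  rw [injective_iff_map_eq_zero]
  intro t' ht'
  refine TopCat.Presheaf.section_ext ⟨((Scheme.Modules.pullback p).obj F).presheaf,
    ((Scheme.Modules.pullback p).obj F).isSheaf⟩ V' _ _ (fun x' hx' => ?_)
  have h1 := germ_eq_zero_of_fibre_mod f F hF hflat U hfib g' p q H V' t' ht' x' hx'
  exact h1.trans (map_zero _).symm

/-- EGA IV 11.10.10 (modules) -/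
theorem main4879 {X S : Scheme.{u}} (f : X ⟶ S)
    [LocallyOfFinitePresentation f] (F : X.Modules) [Coh.IsQCoh F] (hF : CohB1.IsFP F)
    (hflat : FlatMod.IsFlatOver f F) (U : X.Opens) :
    (∀ (S' : Scheme.{u}) (g : S' ⟶ S) (V : (↑(pullback f g) : Scheme.{u}).Opens),
      Function.Injective (((Scheme.Modules.pullback (pullback.fst f g)).obj F).presheaf.map
        (homOfLE (inf_le_left : V ⊓ (pullback.fst f g) ⁻¹ᵁ U ≤ V)).op)) ↔
    ∀ (s : S) (V : (↑(f.fiber s) : Scheme.{u}).Opens),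
      Function.Injective (((Scheme.Modules.pullback (f.fiberι s)).obj F).presheaf.map
        (homOfLE (inf_le_left : V ⊓ (f.fiberι s) ⁻¹ᵁ U ≤ V)).op) := by
  constructor
  · intro h s V
    exact h (Spec (S.residueField s)) (S.fromSpecResidueField s) V
  · intro hfib S' g V'
    exact injective_of_isPullback_mod f F hF hflat U hfib g _ _ (IsPullback.of_hasPullback f g) V'

end FinalMod

end Groth.Agent.Lib.SchDenseFib
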