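import Mathlib

open AlgebraicGeometry CategoryTheory TopologicalSpace

namespace Groth.Agent.Lib.SchDenseRed

universe u

variable {X : Scheme.{u}} (U : X.Opens)

theorem vanishing_le_ker [IsReduced (↑U : Scheme.{u})] :
    Scheme.IdealSheafData.vanishingIdeal ⟨closure (U : Set X), isClosed_closure⟩ ≤ U.ι.ker := by
  refine Scheme.IdealSheafData.le_ofIdeals_iff.mpr fun V s hs => ?_
  rw [Scheme.IdealSheafData.vanishingIdeal_ideal, PrimeSpectrum.mem_vanishingIdeal] at hs
  rw [RingHom.mem_ker]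
  apply eq_zero_of_basicOpen_eq_bot
  have h1 : U.ι ⁻¹ᵁ X.basicOpen s = (↑U : Scheme.{u}).basicOpen ((U.ι.app V.1).hom s) :=
    Scheme.preimage_basicOpen U.ι s
  rw [← h1]
  refine le_bot_iff.mp (SetLike.le_def.mpr fun u hu => ?_)
  exfalso
  have hu' : U.ι u ∈ X.basicOpen s := hu
  have hxV : U.ι u ∈ V.1 := X.basicOpen_le s hu'
  have hxU : U.ι u ∈ (U : Set X) := (Scheme.Opens.range_ι U).subset (Set.mem_range_self u)
  have hp := V.2.fromSpec_primeIdealOf ⟨U.ι u, hxV⟩
  have hsp : s ∈ PrimeSpectrum.asIdeal (V.2.primeIdealOf ⟨U.ι u, hxV⟩) := by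
    refine hs _ ?_
    show V.2.fromSpec (V.2.primeIdealOf ⟨U.ι u, hxV⟩) ∈ closure (U : Set X)
    rw [hp]
    exact subset_closure hxU
  have hmem : V.2.primeIdealOf ⟨U.ι u, hxV⟩ ∈ V.2.fromSpec ⁻¹ᵁ X.basicOpen s := by
    show V.2.fromSpec (V.2.primeIdealOf ⟨U.ι u, hxV⟩) ∈ X.basicOpen s
    rw [hp]
    exact hu'
  rw [V.2.fromSpec_preimage_basicOpen s] at hmem
  exact (PrimeSpectrum.mem_basicOpen _ _).mp hmem hsp

theorem vanishing_eq_bot [IsReduced (↑U : Scheme.{u})] (h : IsSchemeTheoreticallyDominant U.ι) :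
    Scheme.IdealSheafData.vanishingIdeal ⟨closure (U : Set X), isClosed_closure⟩ = ⊥ := by
  have := vanishing_le_ker U
  rw [h.1] at this
  exact le_bot_iff.mp this

theorem dense_of_std [IsReduced (↑U : Scheme.{u})] (h : IsSchemeTheoreticallyDominant U.ι) :
    Dense (U : Set X) := by
  have h1 := vanishing_eq_bot U h
  have h2 := Scheme.IdealSheafData.coe_support_vanishingIdeal
    (⟨closure (U : Set X), isClosed_closure⟩ : Closeds X)
  rw [h1, Scheme.IdealSheafData.support_bot] at h2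
  rw [dense_iff_closure_eq]
  exact h2.symm.trans Closeds.coe_top

theorem isReduced_of_std [IsReduced (↑U : Scheme.{u})] (h : IsSchemeTheoreticallyDominant U.ι) :
    IsReduced X := by
  have h1 := vanishing_eq_bot U h
  have h3 : X.nilradical = ⊥ := by
    have := Scheme.IdealSheafData.vanishingIdeal_antimono
      (show (⟨closure (U : Set X), isClosed_closure⟩ : Closeds X) ≤ ⊤ from le_top)
    rw [Scheme.IdealSheafData.vanishingIdeal_top, h1] at this
    exact le_bot_iff.mp this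
  have hred : ∀ V : X.affineOpens, _root_.IsReduced Γ(X, V.1) := by
    intro V
    have h4 := congrArg (fun I => Scheme.IdealSheafData.ideal I V) h3
    have h5 : (⊥ : Ideal Γ(X, V.1)).radical = ⊥ := by
      first
        | exact h4
        | simpa [Scheme.nilradical] using h4
    rw [← nilradical_eq_bot_iff]
    show (0 : Ideal _).radical = ⊥
    rw [Ideal.zero_eq_bot]
    exact h5
  have hV : ∀ V : X.affineOpens, IsReduced (↑V.1 : Scheme.{u}) := by
    intro V
    haveI := hred V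
    exact isReduced_of_isOpenImmersion V.2.isoSpec.hom
  let 𝒰 : X.OpenCover := X.openCoverOfIsOpenCover (fun V : X.affineOpens => V.1)
    (iSup_affineOpens_eq_top X)
  exact @IsReduced.of_openCover X 𝒰 (fun i => hV i)

theorem std_inf [IsReduced (↑U : Scheme.{u})] (h : IsSchemeTheoreticallyDominant U.ι)
    (W : X.Opens) :
    IsSchemeTheoreticallyDominant (X.homOfLE (inf_le_right : U ⊓ W ≤ W)) := by
  haveI : IsReduced X := isReduced_of_std U h
  have hdense := dense_of_std U h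
  haveI : IsDominant (X.homOfLE (inf_le_right : U ⊓ W ≤ W)) := by
    refine ⟨fun y => ?_⟩
    rw [mem_closure_iff]
    intro O hO hyO
    have hOX : IsOpen (W.ι '' O) := W.ι.isOpenEmbedding.isOpenMap O hO
    obtain ⟨x, hxO, hxU⟩ := hdense.inter_open_nonempty _ hOX ⟨_, Set.mem_image_of_mem _ hyO⟩
    obtain ⟨y', hy'O, rfl⟩ := hxO
    refine ⟨y', hy'O, ?_⟩
    have hW : W.ι y' ∈ (W : Set X) := (Scheme.Opens.range_ι W).subset (Set.mem_range_self y')
    have hmem : W.ι y' ∈ ((U ⊓ W : X.Opens) : Set X) := ⟨hxU, hW⟩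
    obtain ⟨z, hz⟩ := (Scheme.Opens.range_ι (U ⊓ W)).symm.subset hmem
    refine ⟨z, W.ι.isOpenEmbedding.injective ?_⟩
    rw [← Scheme.Hom.comp_apply, Scheme.homOfLE_ι]
    exact hz
  exact IsSchemeTheoreticallyDominant.of_isDominant _

theorem std_of_all (hall : ∀ W : X.Opens,
    IsSchemeTheoreticallyDominant (X.homOfLE (inf_le_right : U ⊓ W ≤ W))) :
    IsSchemeTheoreticallyDominant U.ι := by
  have e : U = U ⊓ ⊤ := (inf_top_eq U).symm
  have hfac : U.ι = (X.isoOfEq e).hom ≫ X.homOfLE (inf_le_right : U ⊓ ⊤ ≤ ⊤) ≫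
      (⊤ : X.Opens).ι := by
    rw [Scheme.homOfLE_ι, Scheme.isoOfEq_hom_ι]
  haveI := hall ⊤
  haveI : IsIso (⊤ : X.Opens).ι := (inferInstance : IsIso X.topIso.hom)
  rw [hfac]
  infer_instance

theorem main (X : Scheme.{u}) (U : X.Opens) [IsReduced (↑U : Scheme.{u})] :
    (IsSchemeTheoreticallyDominant U.ι ↔
        ∀ W : X.Opens, IsSchemeTheoreticallyDominant (X.homOfLE (inf_le_right : U ⊓ W ≤ W))) ∧
      (IsSchemeTheoreticallyDominant U.ι → IsReduced X) :=
  ⟨⟨fun h W => std_inf U h W, fun hall => std_of_all U hall⟩, fun h => isReduced_of_std U h⟩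

end Groth.Agent.Lib.SchDenseRed
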