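import Groth.Statements.S4877
import Groth.Agent.Lib.SchDomBC_lead

/-! # Schematically dominant families and arbitrary base change over a field (lead) -/

set_option backward.isDefEq.respectTransparency false
set_option backward.isDefEq.respectTransparency.types false
set_option linter.unusedSimpArgs false
set_option linter.unusedVariables false
set_option linter.unusedSectionVars false
set_option linter.style.longLine false
set_option linter.style.haveILetI false
set_option linter.unnecessarySimpa false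
set_option maxHeartbeats 800000

universe u v

open CategoryTheory CategoryTheory.Limits AlgebraicGeometry Opposite TopologicalSpace TensorProduct

namespace Groth.Agent.Lib.SchDomField

section Alg

variable {K : Type u} [Field K] {A B : Type u} [CommRing A] [CommRing B] [Algebra K A]
  [Algebra K B]

lemma exists_fg (x y : A ⊗[K] B) : ∃ B₁ : Subalgebra K B, B₁.FG ∧
    (∃ x₁ : A ⊗[K] B₁, Algebra.TensorProduct.map (AlgHom.id A A) B₁.val x₁ = x) ∧
    (∃ y₁ : A ⊗[K] B₁, Algebra.TensorProduct.map (AlgHom.id A A) B₁.val y₁ = y) := by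
  classical
  obtain ⟨S, hS⟩ := TensorProduct.exists_finset x
  obtain ⟨S', hS'⟩ := TensorProduct.exists_finset y
  have hx : x ∈ (Algebra.adjoin K (((S ∪ S').image fun j ↦ j.2 : Finset B) : Set B)).baseChange A :=
    hS ▸ Subalgebra.sum_mem _ fun s hs ↦ (Subalgebra.tmul_mem_baseChange
      (Algebra.subset_adjoin (Finset.mem_coe.mpr
        (Finset.mem_image_of_mem _ (Finset.mem_union_left _ hs)))) s.1)
  have hy : y ∈ (Algebra.adjoin K (((S ∪ S').image fun j ↦ j.2 : Finset B) : Set B)).baseChange A :=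
    hS' ▸ Subalgebra.sum_mem _ fun s hs ↦ (Subalgebra.tmul_mem_baseChange
      (Algebra.subset_adjoin (Finset.mem_coe.mpr
        (Finset.mem_image_of_mem _ (Finset.mem_union_right _ hs)))) s.1)
  exact ⟨_, Subalgebra.fg_adjoin_finset _, hx, hy⟩

theorem alg_main0 {Λ : Type v} (C : Λ → Type u) [∀ l, CommRing (C l)] [∀ l, Algebra A (C l)]
    (H : ∀ a x : A, (∀ l, ∃ n : ℕ, algebraMap A (C l) (a ^ n * x) = 0) → ∃ n : ℕ, a ^ n * x = 0)
    (h τ : A ⊗[K] B)
    (hτ : ∀ l, ∃ n : ℕ, (1 : C l) ⊗ₜ[A] (h ^ n * τ) = 0) :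
    ∃ n : ℕ, h ^ n * τ = 0 := by
  classical
  obtain ⟨B₁, hfg, ⟨h₁, hh₁⟩, ⟨τ₁, hτ₁⟩⟩ := exists_fg h τ
  let j : A ⊗[K] B₁ →ₐ[A] A ⊗[K] B := Algebra.TensorProduct.map (AlgHom.id A A) B₁.val
  have hh₁' : j h₁ = h := hh₁
  have hτ₁' : j τ₁ = τ := hτ₁
  haveI : Algebra.FiniteType K B₁ := (Subalgebra.fg_iff_finiteType B₁).mp hfg
  haveI : Algebra.FinitePresentation K B₁ :=
    Algebra.FinitePresentation.of_finiteType.mp inferInstance
  haveI : Algebra.FinitePresentation A (A ⊗[K] B₁) := inferInstance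
  haveI : Module.Flat A (A ⊗[K] B₁) := inferInstance
  haveI : Algebra.FinitePresentation (A ⊗[K] B₁) (Localization.Away h₁) :=
    IsLocalization.Away.finitePresentation h₁
  haveI : Algebra.FinitePresentation A (Localization.Away h₁) :=
    Algebra.FinitePresentation.trans A (A ⊗[K] B₁) (Localization.Away h₁)
  haveI : Module.Flat (A ⊗[K] B₁) (Localization.Away h₁) :=
    IsLocalization.flat _ (Submonoid.powers h₁)
  haveI : Module.Flat A (Localization.Away h₁) :=
    Module.Flat.trans A (A ⊗[K] B₁) (Localization.Away h₁)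
  have key : algebraMap (A ⊗[K] B₁) (Localization.Away h₁) τ₁ = 0 := by
    apply SchDomAlg.core (A := A) (A' := Localization.Away h₁) C H
    intro l
    obtain ⟨n, hn⟩ := hτ l
    letI algKC : Algebra K (C l) := ((algebraMap A (C l)).comp (algebraMap K A)).toAlgebra
    haveI towerKC : IsScalarTower K A (C l) := IsScalarTower.of_algebraMap_eq (fun x => rfl)
    let EB := Algebra.TensorProduct.cancelBaseChange K A (C l) (C l) B
    let EB₁ := Algebra.TensorProduct.cancelBaseChange K A (C l) (C l) B₁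
    let jl : C l ⊗[K] B₁ →ₐ[C l] C l ⊗[K] B :=
      Algebra.TensorProduct.map (AlgHom.id (C l) (C l)) B₁.val
    have hjl : Function.Injective jl := by
      have hinj := Module.Flat.lTensor_preserves_injective_linearMap (M := C l) (R := K)
        B₁.val.toLinearMap (by intro a b hab; exact Subtype.ext hab)
      have heq : ∀ z, jl z = LinearMap.lTensor (C l) B₁.val.toLinearMap z := by
        intro z
        induction z using TensorProduct.induction_on with
        | zero => simp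
        | tmul a b => rfl
        | add x y hx hy => rw [map_add, map_add, hx, hy]
      intro z z' hzz
      apply hinj
      rw [← heq, ← heq, hzz]
    have nat : ∀ x : A ⊗[K] B₁,
        EB ((1 : C l) ⊗ₜ[A] j x) = jl (EB₁ ((1 : C l) ⊗ₜ[A] x)) := by
      intro x
      induction x using TensorProduct.induction_on with
      | zero => simp
      | tmul a b => simp [j, jl, EB, EB₁]
      | add x y hx hy => simp only [map_add, TensorProduct.tmul_add, hx, hy]
    have h1 : (1 : C l) ⊗ₜ[A] (h₁ ^ n * τ₁) = 0 := by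
      apply EB₁.injective
      apply hjl
      rw [← nat, map_mul, map_pow, hh₁', hτ₁', hn]
      simp only [map_zero]
    have h2 : (1 : C l) ⊗ₜ[A]
        (algebraMap (A ⊗[K] B₁) (Localization.Away h₁) (h₁ ^ n * τ₁)) = 0 := by
      have := congrArg (LinearMap.lTensor (C l)
        (IsScalarTower.toAlgHom A (A ⊗[K] B₁) (Localization.Away h₁)).toLinearMap) h1
      rw [map_zero] at this
      exact this
    let ir : Localization.Away h₁ →+* C l ⊗[A] Localization.Away h₁ :=
      (Algebra.TensorProduct.includeRight (R := A) (A := C l)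
        (B := Localization.Away h₁)).toRingHom
    have hu : IsUnit (ir (algebraMap (A ⊗[K] B₁) (Localization.Away h₁) h₁)) :=
      (IsLocalization.Away.algebraMap_isUnit h₁).map ir
    show ir (algebraMap _ _ τ₁) = 0
    have h3 : ir (algebraMap (A ⊗[K] B₁) (Localization.Away h₁) (h₁ ^ n * τ₁)) = 0 := h2
    rw [map_mul, map_pow, map_mul, map_pow] at h3
    have h4 : ir (algebraMap (A ⊗[K] B₁) (Localization.Away h₁) h₁) ^ n *
        ir (algebraMap (A ⊗[K] B₁) (Localization.Away h₁) τ₁) = 0 := h3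
    have hun : IsUnit (ir (algebraMap (A ⊗[K] B₁) (Localization.Away h₁) h₁) ^ n) := hu.pow n
    exact (IsUnit.mul_right_eq_zero (M₀ := C l ⊗[A] Localization.Away h₁) hun).mp h4
  obtain ⟨⟨_, n, rfl⟩, hn⟩ :=
    (IsLocalization.map_eq_zero_iff (Submonoid.powers h₁) (Localization.Away h₁) τ₁).mp key
  refine ⟨n, ?_⟩
  have := congrArg j hn
  rw [map_mul, map_pow, map_zero, hh₁', hτ₁'] at this
  exact this

theorem alg_main {Λ : Type v} (C : Λ → Type u) [∀ l, CommRing (C l)] [∀ l, Algebra A (C l)]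
    (H : ∀ a x : A, (∀ l, ∃ n : ℕ, algebraMap A (C l) (a ^ n * x) = 0) → ∃ n : ℕ, a ^ n * x = 0)
    {P : Type u} [CommRing P] [Algebra A P] (e : A ⊗[K] B ≃ₐ[A] P)
    (h τ : P)
    (hτ : ∀ l, ∃ n : ℕ, (1 : C l) ⊗ₜ[A] (h ^ n * τ) = 0) :
    ∃ n : ℕ, h ^ n * τ = 0 := by
  obtain ⟨n, hn⟩ := alg_main0 C H (e.symm h) (e.symm τ) (by
    intro l
    obtain ⟨n, hn⟩ := hτ l
    refine ⟨n, ?_⟩
    have := congrArg (LinearMap.lTensor (C l) e.symm.toLinearMap) hn
    rw [map_zero] at this
    rw [← map_pow, ← map_mul]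
    exact this)
  refine ⟨n, ?_⟩
  have := congrArg e hn
  rwa [map_mul, map_pow, map_zero, AlgEquiv.apply_symm_apply, AlgEquiv.apply_symm_apply] at this

end Alg

theorem main4877 {k : Type u} [Field k] {X S' : Scheme.{u}}
    (p : X ⟶ Spec (CommRingCat.of k)) (q : S' ⟶ Spec (CommRingCat.of k))
    {ι : Type u} (Z : ι → Scheme.{u}) (f : ∀ i, Z i ⟶ X)
    (h : ∀ (V : X.Opens) (t : Γ(X, V)), (∀ i, (f i).app V t = 0) → t = 0) :
    ∀ (V : (pullback p q).Opens) (t : Γ(pullback p q, V)),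
      (∀ i, (pullback.map (f i ≫ p) q p q (f i) (𝟙 S') (𝟙 _) (Category.comp_id _)
        ((Category.comp_id _).trans (Category.id_comp _).symm)).app V t = 0) → t = 0 := by
  intro V t ht
  refine (pullback p q).IsSheaf.section_ext (U := op V) ?_
  intro x hx
  obtain ⟨U, hU, hxU, -⟩ := Opens.isBasis_iff_nbhd.mp X.isBasis_affineOpens
    (Opens.mem_top ((pullback.fst p q).base x))
  obtain ⟨T, hT, hxT, -⟩ := Opens.isBasis_iff_nbhd.mp S'.isBasis_affineOpens
    (Opens.mem_top ((pullback.snd p q).base x))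
  have hUS : IsAffineOpen (⊤ : (Spec (CommRingCat.of k)).Opens) := isAffineOpen_top _
  have hUSX : U ≤ p ⁻¹ᵁ ⊤ := fun _ _ => trivial
  have hUST : T ≤ q ⁻¹ᵁ ⊤ := fun _ _ => trivial
  have H : IsPullback (pullback.fst p q) (pullback.snd p q) p q := IsPullback.of_hasPullback _ _
  let O : (pullback p q).Opens := pullback.fst p q ⁻¹ᵁ U ⊓ pullback.snd p q ⁻¹ᵁ T
  have hO : IsAffineOpen O := by
    haveI : IsAffine ((⊤ : (Spec (CommRingCat.of k)).Opens) : Scheme) := hUS
    haveI : IsAffine (T : Scheme) := hT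
    haveI : IsAffine (U : Scheme) := hU
    exact IsAffine.of_isIso (Scheme.Hom.isPullback_resLE H hUST hUSX rfl).isoPullback.hom
  have hxO : x ∈ O := ⟨hxU, hxT⟩
  obtain ⟨hh, hDle, hxD⟩ := hO.exists_basicOpen_le (V := O ⊓ V)
    ⟨x, (⟨hxO, hx⟩ : x ∈ O ⊓ V)⟩ hxO
  have hDO : (pullback p q).basicOpen hh ≤ O := hDle.trans inf_le_left
  have hDV : (pullback p q).basicOpen hh ≤ V := hDle.trans inf_le_right
  refine ⟨(pullback p q).basicOpen hh, hDV, hxD, ?_⟩
  rw [map_zero]
  obtain ⟨n, τ, hτ⟩ := exists_eq_pow_mul_of_isAffineOpen (pullback p q) O hO hh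
    ((pullback p q).presheaf.map (homOfLE hDV).op t)
  have hτ' : (pullback p q).presheaf.map (homOfLE hDO).op τ =
      ((pullback p q).presheaf.map (homOfLE hDO).op hh) ^ n *
        (pullback p q).presheaf.map (homOfLE hDV).op t := hτ
  have hunit : IsUnit ((pullback p q).presheaf.map (homOfLE hDO).op hh) :=
    (pullback p q).toRingedSpace.isUnit_res_basicOpen hh
  -- algebra structures
  let ρ : CommRingCat.of k ⟶ Γ(Spec (CommRingCat.of k), ⊤) :=
    (Scheme.ΓSpecIso (CommRingCat.of k)).inv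
  letI algA : Algebra k Γ(X, U) := RingHom.toAlgebra (ρ ≫ p.appLE ⊤ U hUSX).hom
  letI algB : Algebra k Γ(S', T) := RingHom.toAlgebra (ρ ≫ q.appLE ⊤ T hUST).hom
  letI algP : Algebra Γ(X, U) Γ(pullback p q, O) :=
    RingHom.toAlgebra ((pullback.fst p q).appLE U O inf_le_left).hom
  have hiso := isIso_pushoutSection_of_isAffineOpen H hUST hUSX rfl hUS hT hU
  have hPO := (isIso_pushoutSection_iff H hUST hUSX rfl).mp hiso
  have hPOk : IsPushout (ρ ≫ p.appLE ⊤ U hUSX) (ρ ≫ q.appLE ⊤ T hUST)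
      ((pullback.fst p q).appLE U O inf_le_left) ((pullback.snd p q).appLE T O inf_le_right) :=
    hPO.of_iso (Scheme.ΓSpecIso (CommRingCat.of k)) (Iso.refl _) (Iso.refl _) (Iso.refl _)
      (by rw [Iso.refl_hom, Category.comp_id]
          show _ = _ ≫ (Scheme.ΓSpecIso (CommRingCat.of k)).inv ≫ _
          rw [Iso.hom_inv_id_assoc])
      (by rw [Iso.refl_hom, Category.comp_id]
          show _ = _ ≫ (Scheme.ΓSpecIso (CommRingCat.of k)).inv ≫ _
          rw [Iso.hom_inv_id_assoc])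
      (by rw [Iso.refl_hom, Iso.refl_hom, Category.comp_id, Category.id_comp])
      (by rw [Iso.refl_hom, Iso.refl_hom, Category.comp_id, Category.id_comp])
  have hTens := CommRingCat.isPushout_tensorProduct k Γ(X, U) Γ(S', T)
  have hPO' : IsPushout (CommRingCat.ofHom (algebraMap k Γ(X, U)))
      (CommRingCat.ofHom (algebraMap k Γ(S', T)))
      ((pullback.fst p q).appLE U O inf_le_left) ((pullback.snd p q).appLE T O inf_le_right) :=
    hPOk
  let e₀ := hTens.isoIsPushout _ _ hPO'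
  let e : Γ(X, U) ⊗[k] Γ(S', T) ≃ₐ[Γ(X, U)] Γ(pullback p q, O) :=
    AlgEquiv.ofRingEquiv (f := e₀.commRingCatIsoToRingEquiv) (by
      intro a
      have e1 := hTens.inl_isoIsPushout_hom _ _ hPO'
      exact congrArg (fun φ => φ.hom a) e1)
  let Λ := Σ i : ι, {W : (Z i).Opens // IsAffineOpen W ∧ W ≤ (f i) ⁻¹ᵁ U}
  let C : Λ → Type u := fun l => Γ(Z l.1, l.2.1)
  letI instC : ∀ l : Λ, CommRing (C l) := fun l => inferInstance
  letI algC : ∀ l : Λ, Algebra Γ(X, U) (C l) :=
    fun l => ((f l.1).appLE U l.2.1 l.2.2.2).hom.toAlgebra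
  have HH : ∀ a x : Γ(X, U), (∀ l : Λ, ∃ n : ℕ, algebraMap Γ(X, U) (C l) (a ^ n * x) = 0) →
      ∃ n : ℕ, a ^ n * x = 0 := by
    intro a x hx
    apply SchDomBC.hyp_of_dominant Z f h U hU a x
    intro i W hW hle
    exact hx ⟨i, W, hW, hle⟩
  suffices hyp : ∀ l : Λ, ∃ n : ℕ, (1 : C l) ⊗ₜ[Γ(X, U)] (hh ^ n * τ) = 0 by
    obtain ⟨m, hm⟩ := alg_main (K := k) (A := Γ(X, U)) (B := Γ(S', T)) C HH e hh τ hyp
    have h1 : ((pullback p q).presheaf.map (homOfLE hDO).op) (hh ^ m * τ) = 0 := by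
      rw [hm, map_zero]
    rw [map_mul, map_pow, hτ'] at h1
    have h2 := ((hunit.pow m).mul_right_eq_zero).mp h1
    exact ((hunit.pow n).mul_right_eq_zero).mp h2
  rintro ⟨i, W, hW, hle⟩
  letI algCW : Algebra Γ(X, U) Γ(Z i, W) := ((f i).appLE U W hle).hom.toAlgebra
  show ∃ n : ℕ, (1 : Γ(Z i, W)) ⊗ₜ[Γ(X, U)] (hh ^ n * τ) = 0
  let g := pullback.map (f i ≫ p) q p q (f i) (𝟙 S') (𝟙 _) (Category.comp_id _)
    ((Category.comp_id _).trans (Category.id_comp _).symm)
  have hg1 : g ≫ pullback.fst p q = pullback.fst (f i ≫ p) q ≫ f i := pullback.lift_fst _ _ _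
  have hg2 : g ≫ pullback.snd p q = pullback.snd (f i ≫ p) q :=
    (pullback.lift_snd _ _ _).trans (Category.comp_id _)
  have Hi : IsPullback (pullback.fst (f i ≫ p) q) (g ≫ pullback.snd p q) (f i ≫ p) q := by
    rw [hg2]; exact IsPullback.of_hasPullback _ _
  have H' : IsPullback (pullback.fst (f i ≫ p) q) g (f i) (pullback.fst p q) :=
    IsPullback.of_bot Hi hg1.symm H
  let Ol : (pullback (f i ≫ p) q).Opens := pullback.fst (f i ≫ p) q ⁻¹ᵁ W ⊓ g ⁻¹ᵁ O
  have hUST' : O ≤ pullback.fst p q ⁻¹ᵁ U := inf_le_left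
  have hOl : IsAffineOpen Ol := by
    haveI : IsAffine (U : Scheme) := hU
    haveI : IsAffine (O : Scheme) := hO
    haveI : IsAffine (W : Scheme) := hW
    exact IsAffine.of_isIso (Scheme.Hom.isPullback_resLE H' hUST' hle rfl).isoPullback.hom
  have hisoL := isIso_pushoutSection_of_isAffineOpen H' hUST' hle rfl hU hO hW
  have hPOl := (isIso_pushoutSection_iff H' hUST' hle rfl).mp hisoL
  have hTl := CommRingCat.isPushout_tensorProduct Γ(X, U) Γ(Z i, W) Γ(pullback p q, O)
  have hPOl' : IsPushout (CommRingCat.ofHom (algebraMap Γ(X, U) Γ(Z i, W)))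
      (CommRingCat.ofHom (algebraMap Γ(X, U) Γ(pullback p q, O)))
      ((pullback.fst (f i ≫ p) q).appLE W Ol inf_le_left) (g.appLE O Ol inf_le_right) := hPOl
  let el := hTl.isoIsPushout _ _ hPOl'
  have hinj : Function.Injective el.hom := (ConcreteCategory.bijective_of_isIso el.hom).1
  let φ : Γ(pullback p q, O) →+* Γ(pullback (f i ≫ p) q, Ol) := (g.appLE O Ol inf_le_right).hom
  have hel : ∀ z : Γ(pullback p q, O),
      el.hom ((1 : Γ(Z i, W)) ⊗ₜ[Γ(X, U)] z) = φ z := by
    intro z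
    have e1 := hTl.inr_isoIsPushout_hom _ _ hPOl'
    exact congrArg (fun ψ => ψ.hom z) e1
  have hφ : φ hh = (pullback (f i ≫ p) q).presheaf.map
      (homOfLE (inf_le_right : Ol ≤ g ⁻¹ᵁ O)).op (g.app O hh) := rfl
  have hD'D : (pullback (f i ≫ p) q).basicOpen (φ hh) ≤
      g ⁻¹ᵁ ((pullback p q).basicOpen hh) := by
    rw [Scheme.preimage_basicOpen, hφ, Scheme.basicOpen_res]
    exact inf_le_right
  have hD'Ol : (pullback (f i ≫ p) q).basicOpen (φ hh) ≤ Ol :=
    (pullback (f i ≫ p) q).basicOpen_le _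
  obtain ⟨n', hn'⟩ : ∃ n' : ℕ, φ hh ^ n' * φ τ = 0 := by
    apply exists_pow_mul_eq_zero_of_res_basicOpen_eq_zero_of_isAffineOpen _ hOl (φ τ) (φ hh)
    show (pullback (f i ≫ p) q).presheaf.map (homOfLE hD'Ol).op (φ τ) = 0
    have e1 : g.appLE O Ol inf_le_right ≫
        (pullback (f i ≫ p) q).presheaf.map (homOfLE hD'Ol).op =
        g.appLE O ((pullback (f i ≫ p) q).basicOpen (φ hh)) (hD'Ol.trans inf_le_right) :=
      g.appLE_map _ _
    have e2 : (pullback p q).presheaf.map (homOfLE hDO).op ≫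
        g.appLE ((pullback p q).basicOpen hh) ((pullback (f i ≫ p) q).basicOpen (φ hh)) hD'D =
        g.appLE O ((pullback (f i ≫ p) q).basicOpen (φ hh)) (hD'Ol.trans inf_le_right) :=
      g.map_appLE hD'D (homOfLE hDO).op
    have e3 : (pullback p q).presheaf.map (homOfLE hDV).op ≫
        g.appLE ((pullback p q).basicOpen hh) ((pullback (f i ≫ p) q).basicOpen (φ hh)) hD'D =
        g.appLE V ((pullback (f i ≫ p) q).basicOpen (φ hh))
          (hD'D.trans ((Opens.map g.base).map (homOfLE hDV)).le) :=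
      g.map_appLE hD'D (homOfLE hDV).op
    have s1 : (pullback (f i ≫ p) q).presheaf.map (homOfLE hD'Ol).op (φ τ) =
        g.appLE ((pullback p q).basicOpen hh) ((pullback (f i ≫ p) q).basicOpen (φ hh)) hD'D
          ((pullback p q).presheaf.map (homOfLE hDO).op τ) := by
      have a1 := congrArg (fun ψ => ψ.hom τ) e1
      have a2 := congrArg (fun ψ => ψ.hom τ) e2
      exact a1.trans a2.symm
    have s2 : g.appLE ((pullback p q).basicOpen hh) ((pullback (f i ≫ p) q).basicOpen (φ hh)) hD'D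
        ((pullback p q).presheaf.map (homOfLE hDV).op t) = 0 := by
      have a3 := congrArg (fun ψ => ψ.hom t) e3
      refine a3.trans ?_
      show (g.app V ≫ (pullback (f i ≫ p) q).presheaf.map _).hom t = 0
      rw [CommRingCat.hom_comp, RingHom.comp_apply]
      rw [show (CommRingCat.Hom.hom (g.app V)) t = 0 from ht i, map_zero]
    rw [s1, hτ', map_mul, s2, mul_zero]
  refine ⟨n', hinj ?_⟩
  refine (hel (hh ^ n' * τ)).trans ?_
  rw [map_zero, map_mul, map_pow]
  exact hn'

end Groth.Agent.Lib.SchDomField
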