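import Groth.Statements.S6063
import Groth.Agent.Lib.SchDomBC_lead

/-! # Schematically dense families and nilpotent thickenings with free graded pieces (lead) -/

set_option backward.isDefEq.respectTransparency false
set_option backward.isDefEq.respectTransparency.types false
set_option linter.unusedSimpArgs false
set_option linter.unusedVariables false
set_option linter.unusedSectionVars false
set_option linter.style.longLine false
set_option linter.style.haveILetI false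
set_option linter.unnecessarySimpa false
set_option maxHeartbeats 800000

universe u v

open CategoryTheory CategoryTheory.Limits AlgebraicGeometry Opposite TopologicalSpace TensorProduct

namespace Groth.Agent.Lib.SchDomNilp

section Alg

variable {A : Type u} [CommRing A]

/-- multiplication map `M ⊗ I → M`. -/
noncomputable def mu (I : Ideal A) (M : Type u) [AddCommGroup M] [Module A M] :
    M ⊗[A] ↥I →ₗ[A] M :=
  (TensorProduct.rid A M).toLinearMap ∘ₗ LinearMap.lTensor M I.subtype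

lemma mu_tmul (I : Ideal A) (M : Type u) [AddCommGroup M] [Module A M] (m : M) (j : ↥I) :
    mu I M (m ⊗ₜ[A] j) = (j : A) • m := by
  simp [mu]

lemma mu_injective (I : Ideal A) (M : Type u) [AddCommGroup M] [Module A M] [Module.Flat A M] :
    Function.Injective (mu I M) := by
  have h1 := Module.Flat.lTensor_preserves_injective_linearMap (M := M) (R := A) I.subtype
    Subtype.val_injective
  intro x y hxy
  apply h1
  exact (TensorProduct.rid A M).injective hxy

lemma mu_nat (I : Ideal A) {M N : Type u} [AddCommGroup M] [Module A M] [AddCommGroup N]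
    [Module A N] (φ : M →ₗ[A] N) (ξ : M ⊗[A] ↥I) :
    mu I N (LinearMap.rTensor ↥I φ ξ) = φ (mu I M ξ) := by
  induction ξ using TensorProduct.induction_on with
  | zero => simp
  | tmul m j => simp [mu_tmul]
  | add x y hx hy => simp only [map_add, hx, hy]

lemma lr_comm {M M' N N' : Type u} [AddCommGroup M] [Module A M] [AddCommGroup M'] [Module A M']
    [AddCommGroup N] [Module A N] [AddCommGroup N'] [Module A N']
    (f : M →ₗ[A] M') (g : N →ₗ[A] N') (x : M ⊗[A] N) :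
    LinearMap.rTensor N' f (LinearMap.lTensor M g x) =
      LinearMap.lTensor M' g (LinearMap.rTensor N f x) := by
  induction x using TensorProduct.induction_on with
  | zero => simp
  | tmul m n => simp
  | add x y hx hy => simp only [map_add, hx, hy]

theorem alg_main {B : Type u} [CommRing B] [Algebra A B]
    (J : Ideal A) (hJ : IsNilpotent J)
    (hfree : ∀ k : ℕ, Module.Free (A ⧸ J) ((A ⧸ J) ⊗[A] ↥(J ^ k)))
    {Λ : Type v} (C : Λ → Type u) [∀ l, CommRing (C l)] [∀ l, Algebra B (C l)]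
    [∀ l, Algebra A (C l)] [∀ l, IsScalarTower A B (C l)] [∀ l, Module.Flat A (C l)]
    {P₀ : Type u} [CommRing P₀] [Algebra B P₀]
    (e : B ⊗[A] (A ⧸ J) ≃ₐ[B] P₀)
    (H0 : ∀ y : P₀, (∀ l, (1 : C l) ⊗ₜ[B] y = 0) → y = 0)
    (b : B) (hb : ∀ l, algebraMap B (C l) b = 0) : b = 0 := by
  classical
  let φ : ∀ l, B →ₗ[A] C l := fun l => (IsScalarTower.toAlgHom A B (C l)).toLinearMap
  have hφ : ∀ l x, φ l x = algebraMap B (C l) x := fun l x => rfl
  have hE : ∀ l (z : B ⊗[A] (A ⧸ J)),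
      Algebra.TensorProduct.cancelBaseChange A B (C l) (C l) (A ⧸ J) ((1 : C l) ⊗ₜ[B] z) =
        LinearMap.rTensor (A ⧸ J) (φ l) z := by
    intro l z
    induction z using TensorProduct.induction_on with
    | zero => simp
    | tmul x r => simp [φ, Algebra.smul_def]
    | add x y hx hy => simp only [map_add, TensorProduct.tmul_add, hx, hy]
  have H0' : ∀ z : B ⊗[A] (A ⧸ J), (∀ l, LinearMap.rTensor (A ⧸ J) (φ l) z = 0) → z = 0 := by
    intro z hz
    have h1 : e z = 0 := by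
      apply H0
      intro l
      apply (LinearEquiv.lTensor (C l) e.symm.toLinearEquiv).injective
      rw [map_zero]
      show (1 : C l) ⊗ₜ[B] (e.symm (e z)) = 0
      rw [AlgEquiv.symm_apply_apply]
      apply (Algebra.TensorProduct.cancelBaseChange A B (C l) (C l) (A ⧸ J)).injective
      rw [map_zero, hE l z, hz l]
    exact e.injective (h1.trans (map_zero e).symm)
  have Q0 : ∃ ξ : B ⊗[A] ↥(J ^ 0), mu (J ^ 0) B ξ = b :=
    ⟨b ⊗ₜ[A] ⟨1, by rw [pow_zero, Ideal.one_eq_top]; exact Submodule.mem_top⟩,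
      by rw [mu_tmul]; exact one_smul _ _⟩
  have step : ∀ k, (∃ ξ : B ⊗[A] ↥(J ^ k), mu (J ^ k) B ξ = b) →
      ∃ ξ : B ⊗[A] ↥(J ^ (k + 1)), mu (J ^ (k + 1)) B ξ = b := by
    intro k ⟨ξ, hξ⟩
    have h1 : ∀ l, LinearMap.rTensor ↥(J ^ k) (φ l) ξ = 0 := by
      intro l
      apply mu_injective (J ^ k) (C l)
      rw [mu_nat, hξ, hφ, hb l, map_zero]
    let π : ↥(J ^ k) →ₗ[A] (A ⧸ J) ⊗[A] ↥(J ^ k) := TensorProduct.mk A (A ⧸ J) ↥(J ^ k) 1
    have hπ : Function.Surjective π :=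
      TensorProduct.mk_surjective (R := A) (S := A ⧸ J) (M := ↥(J ^ k))
        Ideal.Quotient.mk_surjective
    haveI := hfree k
    let bs := Module.Free.chooseBasis (A ⧸ J) ((A ⧸ J) ⊗[A] ↥(J ^ k))
    let I := Module.Free.ChooseBasisIndex (A ⧸ J) ((A ⧸ J) ⊗[A] ↥(J ^ k))
    let rep : ((A ⧸ J) ⊗[A] ↥(J ^ k)) ≃ₗ[A] (I →₀ (A ⧸ J)) := bs.repr.restrictScalars A
    let Θ : B ⊗[A] ((A ⧸ J) ⊗[A] ↥(J ^ k)) ≃ₗ[A] (I →₀ B ⊗[A] (A ⧸ J)) :=
      (LinearEquiv.lTensor B rep) ≪≫ₗ (TensorProduct.finsuppRight A A B (A ⧸ J) I)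
    have h2 : LinearMap.lTensor B π ξ = 0 := by
      apply Θ.injective
      rw [map_zero]
      ext1 α
      show (TensorProduct.finsuppRight A A B (A ⧸ J) I
        (LinearMap.lTensor B rep.toLinearMap (LinearMap.lTensor B π ξ))) α = 0
      rw [TensorProduct.finsuppRight_apply]
      apply H0'
      intro l
      rw [lr_comm, lr_comm, lr_comm, h1 l, map_zero, map_zero, map_zero]
    have hex := lTensor_exact B (LinearMap.exact_subtype_ker_map π) hπ
    obtain ⟨ξ', hξ'⟩ := (hex ξ).mp h2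
    have hker : ∀ y : ↥(LinearMap.ker π), ((y : ↥(J ^ k)) : A) ∈ J ^ (k + 1) := by
      intro y
      have hy : (y : ↥(J ^ k)) ∈ J • (⊤ : Submodule A ↥(J ^ k)) := by
        rw [← LinearMap.ker_tensorProductMk (Q := ↥(J ^ k)) (I := J)]; exact y.2
      refine Submodule.smul_induction_on (p := fun y => ((y : ↥(J ^ k)) : A) ∈ J ^ (k + 1)) hy
        (fun r hr n _ => ?_) (fun x y hx hy => ?_)
      · show r * (n : A) ∈ J ^ (k + 1)
        rw [pow_succ']
        exact Ideal.mul_mem_mul hr n.2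
      · exact add_mem hx hy
    let σ : ↥(LinearMap.ker π) →ₗ[A] ↥(J ^ (k + 1)) :=
      LinearMap.codRestrict (J ^ (k + 1)) ((J ^ k).subtype ∘ₗ (LinearMap.ker π).subtype) hker
    refine ⟨LinearMap.lTensor B σ ξ', ?_⟩
    rw [← hξ, ← hξ']
    show (TensorProduct.rid A B) (LinearMap.lTensor B (J ^ (k + 1)).subtype
        (LinearMap.lTensor B σ ξ')) =
      (TensorProduct.rid A B) (LinearMap.lTensor B (J ^ k).subtype
        (LinearMap.lTensor B (LinearMap.ker π).subtype ξ'))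
    rw [← LinearMap.lTensor_comp_apply, ← LinearMap.lTensor_comp_apply]
    rw [show (J ^ (k + 1)).subtype ∘ₗ σ = (J ^ k).subtype ∘ₗ (LinearMap.ker π).subtype from
      LinearMap.subtype_comp_codRestrict _ _ _]
  have Qall : ∀ k, ∃ ξ : B ⊗[A] ↥(J ^ k), mu (J ^ k) B ξ = b := by
    intro k
    induction k with
    | zero => exact Q0
    | succ k ih => exact step k ih
  obtain ⟨N, hN⟩ := hJ
  obtain ⟨ξ, hξ⟩ := Qall N
  rw [← hξ]
  have hN' : J ^ N = ⊥ := hN
  clear hξ
  induction ξ using TensorProduct.induction_on with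
  | zero => simp
  | tmul m j =>
    rw [mu_tmul]
    have h' : ∀ a : A, a ∈ J ^ N → a = 0 := fun a ha => by
      rw [hN'] at ha
      exact (Submodule.mem_bot A).mp ha
    rw [h' _ j.2, zero_smul]
  | add x y hx hy => rw [map_add, hx, hy, add_zero]

end Alg

section Sch

variable {X : Scheme.{u}} (A : CommRingCat.{u}) (p : X ⟶ Spec A) (J : Ideal ↑A)

local notation "qJ" => Spec.map (CommRingCat.ofHom (Ideal.Quotient.mk J))

theorem main6063 (hJ : IsNilpotent J)
    (hfree : ∀ k : ℕ, Module.Free (↑A ⧸ J) ((↑A ⧸ J) ⊗[↑A] ↥(J ^ k)))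
    {ι : Type u} (Z : ι → Scheme.{u}) (v : ∀ i, Z i ⟶ X) [∀ i, Flat (v i ≫ p)]
    (h0 : ∀ (V : (pullback p qJ).Opens) (t : Γ(pullback p qJ, V)),
      (∀ i, (pullback.map (v i ≫ p) qJ p qJ (v i) (𝟙 _) (𝟙 _)
        (Category.comp_id _) ((Category.comp_id _).trans (Category.id_comp _).symm)).app V t = 0) →
          t = 0) :
    ∀ (V : X.Opens) (t : Γ(X, V)), (∀ i, (v i).app V t = 0) → t = 0 := by
  intro V t ht
  refine X.IsSheaf.section_ext (U := op V) ?_
  intro x hx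
  obtain ⟨U, hU, hxU, hUV⟩ := Opens.isBasis_iff_nbhd.mp X.isBasis_affineOpens hx
  refine ⟨U, hUV, hxU, ?_⟩
  rw [map_zero]
  have hUS : IsAffineOpen (⊤ : (Spec A).Opens) := isAffineOpen_top _
  have hTS : IsAffineOpen (⊤ : (Spec (CommRingCat.of (↑A ⧸ J))).Opens) := isAffineOpen_top _
  have hUSX : U ≤ p ⁻¹ᵁ ⊤ := fun _ _ => trivial
  have hUST : (⊤ : (Spec (CommRingCat.of (↑A ⧸ J))).Opens) ≤ qJ ⁻¹ᵁ ⊤ := fun _ _ => trivial
  have H : IsPullback (pullback.fst p qJ) (pullback.snd p qJ) p qJ := IsPullback.of_hasPullback _ _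
  let O : (pullback p qJ).Opens := pullback.fst p qJ ⁻¹ᵁ U ⊓ pullback.snd p qJ ⁻¹ᵁ ⊤
  have hO : IsAffineOpen O := by
    haveI : IsAffine ((⊤ : (Spec A).Opens) : Scheme) := hUS
    haveI : IsAffine ((⊤ : (Spec (CommRingCat.of (↑A ⧸ J))).Opens) : Scheme) := hTS
    haveI : IsAffine (U : Scheme) := hU
    exact IsAffine.of_isIso (Scheme.Hom.isPullback_resLE H hUST hUSX rfl).isoPullback.hom
  let ρ : A ⟶ Γ(Spec A, ⊤) := (Scheme.ΓSpecIso A).inv
  letI algB : Algebra ↑A Γ(X, U) := RingHom.toAlgebra (ρ ≫ p.appLE ⊤ U hUSX).hom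
  letI algP : Algebra Γ(X, U) Γ(pullback p qJ, O) :=
    RingHom.toAlgebra ((pullback.fst p qJ).appLE U O inf_le_left).hom
  have hiso := isIso_pushoutSection_of_isAffineOpen H hUST hUSX rfl hUS hTS hU
  have hPO := (isIso_pushoutSection_iff H hUST hUSX rfl).mp hiso
  have e1 : (qJ).appLE ⊤ ⊤ hUST = (qJ).appTop :=
    Scheme.Hom.appLE_eq_app (f := qJ) (U := ⊤)
  have hPOk : IsPushout (ρ ≫ p.appLE ⊤ U hUSX) (CommRingCat.ofHom (Ideal.Quotient.mk J))
      ((pullback.fst p qJ).appLE U O inf_le_left)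
      ((Scheme.ΓSpecIso (CommRingCat.of (↑A ⧸ J))).inv ≫
        (pullback.snd p qJ).appLE ⊤ O inf_le_right) :=
    hPO.of_iso (Scheme.ΓSpecIso A) (Iso.refl _) (Scheme.ΓSpecIso (CommRingCat.of (↑A ⧸ J)))
      (Iso.refl _)
      (by rw [Iso.refl_hom, Category.comp_id]
          show _ = _ ≫ (Scheme.ΓSpecIso A).inv ≫ _
          rw [Iso.hom_inv_id_assoc])
      (by rw [e1]; exact Scheme.ΓSpecIso_naturality _)
      (by rw [Iso.refl_hom, Iso.refl_hom, Category.comp_id, Category.id_comp])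
      (by rw [Iso.refl_hom, Category.comp_id, Iso.hom_inv_id_assoc])
  have hTens := CommRingCat.isPushout_tensorProduct ↑A Γ(X, U) (↑A ⧸ J)
  have hPO' : IsPushout (CommRingCat.ofHom (algebraMap ↑A Γ(X, U)))
      (CommRingCat.ofHom (algebraMap ↑A (↑A ⧸ J)))
      ((pullback.fst p qJ).appLE U O inf_le_left)
      ((Scheme.ΓSpecIso (CommRingCat.of (↑A ⧸ J))).inv ≫
        (pullback.snd p qJ).appLE ⊤ O inf_le_right) := hPOk
  let e₀ := hTens.isoIsPushout _ _ hPO'
  let e : Γ(X, U) ⊗[↑A] (↑A ⧸ J) ≃ₐ[Γ(X, U)] Γ(pullback p qJ, O) :=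
    AlgEquiv.ofRingEquiv (f := e₀.commRingCatIsoToRingEquiv) (by
      intro a
      have e1 := hTens.inl_isoIsPushout_hom _ _ hPO'
      exact congrArg (fun φ => φ.hom a) e1)
  let Λ := Σ i : ι, {W : (Z i).Opens // IsAffineOpen W ∧ W ≤ (v i) ⁻¹ᵁ U}
  let C : Λ → Type u := fun l => Γ(Z l.1, l.2.1)
  letI instC : ∀ l : Λ, CommRing (C l) := fun l => inferInstance
  letI algC : ∀ l : Λ, Algebra Γ(X, U) (C l) :=
    fun l => ((v l.1).appLE U l.2.1 l.2.2.2).hom.toAlgebra
  letI algCA : ∀ l : Λ, Algebra ↑A (C l) :=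
    fun l => RingHom.toAlgebra ((algebraMap Γ(X, U) (C l)).comp (algebraMap ↑A Γ(X, U)))
  haveI towerC : ∀ l : Λ, IsScalarTower ↑A Γ(X, U) (C l) :=
    fun l => IsScalarTower.of_algebraMap_eq (fun x => rfl)
  haveI flatC : ∀ l : Λ, Module.Flat ↑A (C l) := by
    rintro ⟨i, W, hW, hle⟩
    have h1 : ((v i ≫ p).appLE ⊤ W (fun _ _ => trivial)).hom.Flat :=
      HasRingHomProperty.appLE (P := @Flat) (v i ≫ p) inferInstance ⟨⊤, hUS⟩ ⟨W, hW⟩ _
    have h2 : ρ.hom.Flat := RingHom.Flat.of_bijective (ConcreteCategory.bijective_of_isIso ρ)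
    have h3 := RingHom.Flat.comp h2 h1
    have h4 : ((v i ≫ p).appLE ⊤ W (fun _ _ => trivial)).hom.comp ρ.hom =
        algebraMap ↑A (C ⟨i, W, hW, hle⟩) := by
      show _ = ((v i).appLE U W hle).hom.comp (ρ ≫ p.appLE ⊤ U hUSX).hom
      rw [← CommRingCat.hom_comp, ← CommRingCat.hom_comp, Category.assoc,
        Scheme.Hom.appLE_comp_appLE]
    rw [h4] at h3
    exact RingHom.flat_algebraMap_iff.mp h3
  have H0 : ∀ y : Γ(pullback p qJ, O), (∀ l : Λ, (1 : C l) ⊗ₜ[Γ(X, U)] y = 0) → y = 0 := by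
    intro y hy
    apply h0 O y
    intro i
    let g := pullback.map (v i ≫ p) qJ p qJ (v i) (𝟙 _) (𝟙 _) (Category.comp_id _)
      ((Category.comp_id _).trans (Category.id_comp _).symm)
    have hg1 : g ≫ pullback.fst p qJ = pullback.fst (v i ≫ p) qJ ≫ v i := pullback.lift_fst _ _ _
    have hg2 : g ≫ pullback.snd p qJ = pullback.snd (v i ≫ p) qJ :=
      (pullback.lift_snd _ _ _).trans (Category.comp_id _)
    have Hi : IsPullback (pullback.fst (v i ≫ p) qJ) (g ≫ pullback.snd p qJ) (v i ≫ p) qJ := by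
      rw [hg2]; exact IsPullback.of_hasPullback _ _
    have H' : IsPullback (pullback.fst (v i ≫ p) qJ) g (v i) (pullback.fst p qJ) :=
      IsPullback.of_bot Hi hg1.symm H
    show (g.app O) y = 0
    refine (pullback (v i ≫ p) qJ).IsSheaf.section_ext (U := op (g ⁻¹ᵁ O)) ?_
    intro z hz
    have hz1 : (pullback.fst (v i ≫ p) qJ) z ∈ (v i) ⁻¹ᵁ U := by
      have e : (v i) ((pullback.fst (v i ≫ p) qJ) z) = (pullback.fst p qJ) (g z) := by
        rw [← Scheme.Hom.comp_apply, ← Scheme.Hom.comp_apply, hg1]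
      show (v i) ((pullback.fst (v i ≫ p) qJ) z) ∈ U
      rw [e]; exact hz.1
    obtain ⟨W, hW, hzW, hle⟩ := Opens.isBasis_iff_nbhd.mp (Z i).isBasis_affineOpens hz1
    let Ol : (pullback (v i ≫ p) qJ).Opens := pullback.fst (v i ≫ p) qJ ⁻¹ᵁ W ⊓ g ⁻¹ᵁ O
    refine ⟨Ol, inf_le_right, ⟨hzW, hz⟩, ?_⟩
    rw [map_zero]
    letI algCW : Algebra Γ(X, U) Γ(Z i, W) := ((v i).appLE U W hle).hom.toAlgebra
    have hyl : (1 : Γ(Z i, W)) ⊗ₜ[Γ(X, U)] y = 0 := hy ⟨i, W, hW, hle⟩
    have hUST' : O ≤ pullback.fst p qJ ⁻¹ᵁ U := inf_le_left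
    have hisoL := isIso_pushoutSection_of_isAffineOpen H' hUST' hle rfl hU hO hW
    have hPOl := (isIso_pushoutSection_iff H' hUST' hle rfl).mp hisoL
    have hTl := CommRingCat.isPushout_tensorProduct Γ(X, U) Γ(Z i, W) Γ(pullback p qJ, O)
    have hPOl' : IsPushout (CommRingCat.ofHom (algebraMap Γ(X, U) Γ(Z i, W)))
        (CommRingCat.ofHom (algebraMap Γ(X, U) Γ(pullback p qJ, O)))
        ((pullback.fst (v i ≫ p) qJ).appLE W Ol inf_le_left) (g.appLE O Ol inf_le_right) := hPOl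
    let el := hTl.isoIsPushout _ _ hPOl'
    have hel : el.hom ((1 : Γ(Z i, W)) ⊗ₜ[Γ(X, U)] y) = (g.appLE O Ol inf_le_right) y := by
      have e1 := hTl.inr_isoIsPushout_hom _ _ hPOl'
      exact congrArg (fun ψ => ψ.hom y) e1
    have hfin : (g.appLE O Ol inf_le_right) y = 0 := by rw [← hel, hyl, map_zero]
    exact hfin
  have hfin := alg_main (A := ↑A) (B := Γ(X, U)) J hJ hfree C e H0
    (X.presheaf.map (homOfLE hUV).op t) ?_
  · exact hfin
  rintro ⟨i, W, hW, hle⟩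
  show ((v i).appLE U W hle).hom (X.presheaf.map (homOfLE hUV).op t) = 0
  have e3 : X.presheaf.map (homOfLE hUV).op ≫ (v i).appLE U W hle =
      (v i).appLE V W (hle.trans ((Opens.map (v i).base).map (homOfLE hUV)).le) :=
    (v i).map_appLE hle (homOfLE hUV).op
  have e4 := congrArg (fun φ => φ.hom t) e3
  refine Eq.trans e4 ?_
  show ((v i).app V ≫ (Z i).presheaf.map _).hom t = 0
  rw [CommRingCat.hom_comp, RingHom.comp_apply]
  rw [show (CommRingCat.Hom.hom ((v i).app V)) t = 0 from ht i, map_zero]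

end Sch

end Groth.Agent.Lib.SchDomNilp
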