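import Mathlib
import Groth.Prelude
import Groth.Agent.Lib.RelAssSpread_helper2
import Groth.Agent.Lib.SchDense_helper5
import Groth.Agent.Lib.SchDenseKer_helper7
import Groth.Agent.Lib.FibStalkKer_helper5
import Groth.Agent.Lib.CycLen2_helper8
import Groth.Agent.Lib.CohDev8_helper8

/-!
# Scheme theoretic density of an open in the fibres: spreading out from the generic fibre (helper2)

`f : X ⟶ Y` of finite type, `Y` irreducible, `U ⊆ X` open.  If `U ∩ X_η` is scheme theoretically
dense in the generic fibre, then `U ∩ X_y` is scheme theoretically dense in `X_y` for all `y` in a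
nonempty open of `Y` (S1300).  Reduction to S1368 for the structure sheaf: an open of a locally
Noetherian scheme is scheme theoretically dense iff it contains the associated points.
APPEND-ONLY once landed.
-/

set_option autoImplicit false
set_option maxHeartbeats 1000000
universe u

open CategoryTheory AlgebraicGeometry TopologicalSpace Opposite

namespace Groth.Agent.Lib.SchDomSpread

section Alg

/-- Associated-ness of the maximal ideal along a surjection of local rings. -/
theorem isAssociatedPrime_quotient_iff {R R' : Type*} [CommRing R] [CommRing R'] [IsLocalRing R]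
    [IsLocalRing R'] (π : R →+* R') (hπ : Function.Surjective π) (I : Ideal R)
    (hI : RingHom.ker π = I) :
    IsAssociatedPrime (IsLocalRing.maximalIdeal R') R' ↔
      IsAssociatedPrime (IsLocalRing.maximalIdeal R) (R ⧸ I • (⊤ : Submodule R R)) := by
  have hmax : (IsLocalRing.maximalIdeal R').comap π = IsLocalRing.maximalIdeal R := by
    haveI : ((IsLocalRing.maximalIdeal R').comap π).IsMaximal :=
      Ideal.comap_isMaximal_of_surjective π hπ
    exact IsLocalRing.eq_maximalIdeal inferInstance
  have hcolon : ∀ ξ : R, ((⊥ : Submodule R' R').colon {π ξ}).comap π =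
      (⊥ : Submodule R (R ⧸ I • (⊤ : Submodule R R))).colon {Submodule.Quotient.mk ξ} := by
    intro ξ
    ext r
    rw [Ideal.mem_comap, Submodule.mem_colon_singleton, Submodule.mem_colon_singleton,
      Submodule.mem_bot, Submodule.mem_bot, ← Submodule.Quotient.mk_smul,
      Submodule.Quotient.mk_eq_zero, smul_eq_mul, ← map_mul, ← RingHom.mem_ker, hI]
    have : I • (⊤ : Submodule R R) = I := by
      rw [smul_eq_mul, Ideal.mul_top]
    rw [this]
    rfl
  constructor
  · rintro ⟨_, ξ', h⟩
    obtain ⟨ξ, rfl⟩ := hπ ξ'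
    refine ⟨(IsLocalRing.maximalIdeal.isMaximal R).isPrime, Submodule.Quotient.mk ξ, ?_⟩
    rw [← hcolon, ← Ideal.comap_radical, ← h, hmax]
  · rintro ⟨_, ζ, h⟩
    obtain ⟨ξ, rfl⟩ := Submodule.Quotient.mk_surjective _ ζ
    refine ⟨(IsLocalRing.maximalIdeal.isMaximal R').isPrime, π ξ, ?_⟩
    apply Ideal.comap_injective_of_surjective π hπ
    rw [Ideal.comap_radical, hcolon, ← h, hmax]

end Alg

variable {X Y : Scheme.{u}} (f : X ⟶ Y)

/-- The relative assassin of the structure sheaf in terms of the local rings. -/
theorem mem_relAss_structureModule_iff (x : X) :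
    x ∈ MoreMor.relAss f (Coh.structureModule X) ↔
      IsAssociatedPrime (IsLocalRing.maximalIdeal (X.presheaf.stalk x))
        ((X.presheaf.stalk x) ⧸ (Ideal.map (f.stalkMap x).hom
          (IsLocalRing.maximalIdeal (Y.presheaf.stalk (f x))) •
            (⊤ : Submodule (X.presheaf.stalk x) (X.presheaf.stalk x)))) := by
  set I := Ideal.map (f.stalkMap x).hom (IsLocalRing.maximalIdeal (Y.presheaf.stalk (f x)))
    with hI
  let e := CycLenH8.stalkStructureEquiv (X := X) x
  have hmap : (I • (⊤ : Submodule (X.presheaf.stalk x) (X.presheaf.stalk x))).map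
      (e : X.presheaf.stalk x →ₗ[X.presheaf.stalk x] _) =
      I • (⊤ : Submodule (X.presheaf.stalk x) ((Coh.structureModule X).presheaf.stalk x)) := by
    rw [Submodule.map_smul'', Submodule.map_top, LinearEquiv.range]
  exact (LinearEquiv.isAssociatedPrime_iff (Submodule.Quotient.equiv _ _ e hmap)).symm

/-- The fibrewise meaning of the relative assassin of the structure sheaf. -/
theorem isAssociatedPrime_fiber_iff (y : Y) (x' : ↥(f.fiber y)) :
    IsAssociatedPrime (IsLocalRing.maximalIdeal ((f.fiber y).presheaf.stalk x'))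
        ((f.fiber y).presheaf.stalk x') ↔
      (f.fiberι y) x' ∈ MoreMor.relAss f (Coh.structureModule X) := by
  rw [mem_relAss_structureModule_iff]
  obtain ⟨hsurj, hker⟩ := Groth.Agent.FibStalkKer.main9501 f y x'
  exact isAssociatedPrime_quotient_iff _ hsurj _ hker

variable [LocallyOfFiniteType f]

/-- Scheme theoretic density in a fibre in terms of the relative assassin. -/
theorem isSchemeTheoreticallyDominant_fiber_iff (U : X.Opens) (y : Y) :
    IsSchemeTheoreticallyDominant ((f.fiberι y) ⁻¹ᵁ U).ι ↔
      ∀ x ∈ MoreMor.relAss f (Coh.structureModule X), f x = y → x ∈ U := by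
  haveI : LocallyOfFiniteType (f.fiberToSpecResidueField y) :=
    MorphismProperty.pullback_snd _ _ inferInstance
  haveI : IsLocallyNoetherian (f.fiber y) :=
    LocallyOfFiniteType.isLocallyNoetherian (f.fiberToSpecResidueField y)
  constructor
  · intro hdom x hx hfx
    haveI := hdom
    have hdense := Groth.Agent.Lib.SchDenseKerH7.dense_of_dominant ((f.fiberι y) ⁻¹ᵁ U)
    have hx' : x ∈ Set.range (f.fiberι y) := by
      rw [f.range_fiberι y]; exact hfx
    obtain ⟨x', rfl⟩ := hx'
    exact (Groth.Agent.SchDense.main (f.fiber y) _).mp hdense x'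
      ((isAssociatedPrime_fiber_iff f y x').mpr hx)
  · intro h
    apply Groth.Agent.Lib.SchDenseKerH7.dominant_of_dense
    rw [Groth.Agent.SchDense.main (f.fiber y)]
    intro x' hx'
    have hfx : f ((f.fiberι y) x') = y := by
      have : (f.fiberι y) x' ∈ Set.range (f.fiberι y) := ⟨x', rfl⟩
      rw [f.range_fiberι y] at this
      exact this
    exact h _ ((isAssociatedPrime_fiber_iff f y x').mp hx') hfx

/-- **S1300.** -/
theorem main1300 [IrreducibleSpace Y] [QuasiCompact f] (U : X.Opens)
    (h : IsSchemeTheoreticallyDominant ((f.fiberι (genericPoint Y)) ⁻¹ᵁ U).ι) :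
    ∃ V : Y.Opens, (V : Set Y).Nonempty ∧
      ∀ y ∈ V, IsSchemeTheoreticallyDominant ((f.fiberι y) ⁻¹ᵁ U).ι := by
  obtain ⟨V, hV, hVU⟩ := Groth.Agent.Lib.RelAssSpread.main1368 f (Coh.structureModule X)
    (CohDevH8.isCoh_structureModule X) U
    ((isSchemeTheoreticallyDominant_fiber_iff f U (genericPoint Y)).mp h)
  refine ⟨V, hV, fun y hy => ?_⟩
  rw [isSchemeTheoreticallyDominant_fiber_iff]
  intro x hx hfx
  exact hVU x hx (by rw [hfx]; exact hy)

end Groth.Agent.Lib.SchDomSpread
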