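import Mathlib

/-!
# Schematically dominant families: equivalent conditions (helper4)
-/

open AlgebraicGeometry CategoryTheory Limits MorphismProperty

universe u

set_option autoImplicit false
set_option linter.style.haveILetI false

namespace Groth.Agent.Lib.SchDomTFAEH4

variable {X S : Scheme.{u}} (p : X ⟶ S) {ι : Type u} (Z : ι → Scheme.{u}) (f : ∀ i, Z i ⟶ X)

theorem app_eq_zero_of_eq {X Z : Scheme.{u}} (f : Z ⟶ X) {V W : X.Opens} (e : W = V)
    (t : Γ(X, V)) (ht : f.app V t = 0) :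
    f.app W (X.presheaf.map (eqToHom e).op t) = 0 := by
  subst e
  simpa using ht

theorem app_comp_eq_zero {A B C : Scheme.{u}} (g : A ⟶ B) (j : B ⟶ C) (m : A ⟶ C)
    (hm : g ≫ j = m) (V : C.Opens) (t : Γ(C, V)) (ht : j.app V t = 0) : m.app V t = 0 := by
  subst hm
  show (g.app (j ⁻¹ᵁ V)) ((j.app V) t) = 0
  rw [ht, map_zero]

theorem morphismRestrict_app_eq_zero_iff {X Z : Scheme.{u}} (f : Z ⟶ X) (U : X.Opens)
    (V : (U : Scheme.{u}).Opens) (t : Γ(U, V)) :
    (f ∣_ U).app V t = 0 ↔ f.app (U.ι ''ᵁ V) t = 0 := by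
  have h := congrArg (fun φ => φ.hom t) (morphismRestrict_app f U V)
  constructor
  · intro h0
    have h1 : (Z.presheaf.map (eqToHom (image_morphismRestrict_preimage f U V)).op).hom
        ((f.app (U.ι ''ᵁ V)).hom t) = 0 := h.symm.trans h0
    exact (ConcreteCategory.bijective_of_isIso
      (Z.presheaf.map (eqToHom (image_morphismRestrict_preimage f U V)).op)).1
      (h1.trans (map_zero _).symm)
  · intro h0
    refine h.trans ?_
    show (Z.presheaf.map (eqToHom (image_morphismRestrict_preimage f U V)).op).hom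
        ((f.app (U.ι ''ᵁ V)).hom t) = 0
    have h0' : (f.app (U.ι ''ᵁ V)).hom t = 0 := h0
    rw [h0', map_zero]

theorem morphismRestrict_appTop_eq_zero {X Z : Scheme.{u}} (f : Z ⟶ X) (V : X.Opens)
    (t : Γ(X, V)) (ht : f.app V t = 0) : (f ∣_ V).appTop (V.topIso.inv t) = 0 :=
  (morphismRestrict_app_eq_zero_iff f V ⊤ (V.topIso.inv t)).mpr
    (app_eq_zero_of_eq f V.ι_image_top t ht)

set_option maxHeartbeats 800000 in
theorem c_of_b
    (hb : ∀ (V : (X).Opens) (t : Γ(X, V)), (∀ i, (f i).app V t = 0) → t = 0) :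
    ∀ (U : X.Opens) (Y : Scheme.{u}) (j : Y ⟶ (U : Scheme.{u})), IsClosedImmersion j →
      (∀ i, ∃ g : ((f i) ⁻¹ᵁ U : Scheme.{u}) ⟶ Y, g ≫ j = (f i) ∣_ U) → IsIso j := by
  intro U Y j hj hg
  haveI := hj
  rw [IsClosedImmersion.isIso_iff_ker_eq_bot]
  apply Scheme.IdealSheafData.ext
  funext V
  rw [Scheme.Hom.ker_apply, Scheme.IdealSheafData.ideal_bot, Pi.bot_apply,
    ← RingHom.injective_iff_ker_eq_bot, injective_iff_map_eq_zero]
  intro t ht
  apply hb (U.ι ''ᵁ V.1) t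
  intro i
  obtain ⟨g, hg⟩ := hg i
  have h1 : ((f i) ∣_ U).app V.1 t = 0 := app_comp_eq_zero g j _ hg V.1 t ht
  exact (morphismRestrict_app_eq_zero_iff (f i) U V.1 t).mp h1

set_option maxHeartbeats 800000 in
theorem d_of_c
    (hc : ∀ (U : X.Opens) (Y : Scheme.{u}) (j : Y ⟶ (U : Scheme.{u})), IsClosedImmersion j →
      (∀ i, ∃ g : ((f i) ⁻¹ᵁ U : Scheme.{u}) ⟶ Y, g ≫ j = (f i) ∣_ U) → IsIso j) :
    ∀ (X' : Scheme.{u}) (q : X' ⟶ S), IsSeparated q → ∀ (U : X.Opens)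
      (u v : (U : Scheme.{u}) ⟶ X'),
      u ≫ q = U.ι ≫ p → v ≫ q = U.ι ≫ p →
      (∀ i, ((f i) ∣_ U) ≫ u = ((f i) ∣_ U) ≫ v) → u = v := by
  intro X' q hq U u v hu hv huv
  haveI := hq
  let ℓ : (U : Scheme.{u}) ⟶ pullback q q := pullback.lift u v (hu.trans hv.symm)
  have hℓ1 : ℓ ≫ pullback.fst q q = u := pullback.lift_fst _ _ _
  have hℓ2 : ℓ ≫ pullback.snd q q = v := pullback.lift_snd _ _ _
  let j : pullback ℓ (pullback.diagonal q) ⟶ (U : Scheme.{u}) := pullback.fst ℓ (pullback.diagonal q)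
  haveI : IsClosedImmersion j := inferInstance
  have hjiso : IsIso j := by
    apply hc U _ j inferInstance
    intro i
    refine ⟨pullback.lift ((f i) ∣_ U) (((f i) ∣_ U) ≫ u) ?_, pullback.lift_fst _ _ _⟩
    apply pullback.hom_ext
    · rw [Category.assoc, hℓ1, Category.assoc, pullback.diagonal_fst, Category.comp_id]
    · rw [Category.assoc, hℓ2, Category.assoc, pullback.diagonal_snd, Category.comp_id, huv i]
  have hcond : j ≫ ℓ = pullback.snd ℓ (pullback.diagonal q) ≫ pullback.diagonal q :=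
    pullback.condition
  have h1 : j ≫ u = pullback.snd ℓ (pullback.diagonal q) := by
    rw [← hℓ1, ← Category.assoc, hcond, Category.assoc, pullback.diagonal_fst, Category.comp_id]
  have h2 : j ≫ v = pullback.snd ℓ (pullback.diagonal q) := by
    rw [← hℓ2, ← Category.assoc, hcond, Category.assoc, pullback.diagonal_snd, Category.comp_id]
  rw [← cancel_epi j, h1, h2]

set_option maxHeartbeats 800000 in
theorem b_of_d
    (hd : ∀ (X' : Scheme.{u}) (q : X' ⟶ S), IsSeparated q → ∀ (U : X.Opens)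
      (u v : (U : Scheme.{u}) ⟶ X'),
      u ≫ q = U.ι ≫ p → v ≫ q = U.ι ≫ p →
      (∀ i, ((f i) ∣_ U) ≫ u = ((f i) ∣_ U) ≫ v) → u = v) :
    ∀ (V : (X).Opens) (t : Γ(X, V)), (∀ i, (f i).app V t = 0) → t = 0 := by
  intro V t ht
  let t' : Γ(V, ⊤) := V.topIso.inv t
  let u : (V : Scheme.{u}) ⟶ 𝔸(PUnit.{u + 1}; S) :=
    AffineSpace.homOfVector (V.ι ≫ p) (fun _ => t')
  let v : (V : Scheme.{u}) ⟶ 𝔸(PUnit.{u + 1}; S) :=
    AffineSpace.homOfVector (V.ι ≫ p) (fun _ => 0)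
  have hu : u ≫ (𝔸(PUnit.{u + 1}; S) ↘ S) = V.ι ≫ p := AffineSpace.homOfVector_over _ _
  have hv : v ≫ (𝔸(PUnit.{u + 1}; S) ↘ S) = V.ι ≫ p := AffineSpace.homOfVector_over _ _
  have hut : u.appTop (AffineSpace.coord S PUnit.unit) = t' :=
    AffineSpace.homOfVector_appTop_coord _ _ _
  have hvt : v.appTop (AffineSpace.coord S PUnit.unit) = 0 :=
    AffineSpace.homOfVector_appTop_coord _ _ _
  have hzero : ∀ i, ((f i) ∣_ V).appTop t' = 0 := fun i =>
    morphismRestrict_appTop_eq_zero (f i) V t (ht i)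
  have huv : u = v := by
    apply hd _ (𝔸(PUnit.{u + 1}; S) ↘ S) inferInstance V u v hu hv
    intro i
    apply AffineSpace.hom_ext
    · rw [Category.assoc, Category.assoc, hu, hv]
    · rintro ⟨⟩
      have e1 : ((f i ∣_ V) ≫ u).appTop (AffineSpace.coord S PUnit.unit) =
          (f i ∣_ V).appTop t' := by
        show (f i ∣_ V).appTop (u.appTop (AffineSpace.coord S PUnit.unit)) = _
        rw [hut]
      have e2 : ((f i ∣_ V) ≫ v).appTop (AffineSpace.coord S PUnit.unit) =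
          (f i ∣_ V).appTop 0 := by
        show (f i ∣_ V).appTop (v.appTop (AffineSpace.coord S PUnit.unit)) = _
        rw [hvt]
      rw [e1, e2, hzero i, map_zero]
  have ht' : t' = 0 := by rw [← hut, huv, hvt]
  have : t = V.topIso.hom t' := by
    change t = V.topIso.hom (V.topIso.inv t)
    rw [← CommRingCat.comp_apply, Iso.inv_hom_id]
    rfl
  rw [this, ht', map_zero]

theorem main4872 :
    [(∀ (V : (X).Opens) (t : Γ(X, V)), (∀ i, (f i).app V t = 0) → t = 0),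
      ∀ (U : X.Opens) (Y : Scheme.{u}) (j : Y ⟶ (U : Scheme.{u})), IsClosedImmersion j →
        (∀ i, ∃ g : ((f i) ⁻¹ᵁ U : Scheme.{u}) ⟶ Y, g ≫ j = (f i) ∣_ U) → IsIso j,
      ∀ (X' : Scheme.{u}) (q : X' ⟶ S), IsSeparated q → ∀ (U : X.Opens) (u v : (U : Scheme.{u}) ⟶ X'),
        u ≫ q = U.ι ≫ p → v ≫ q = U.ι ≫ p → (∀ i, ((f i) ∣_ U) ≫ u = ((f i) ∣_ U) ≫ v) → u = v].TFAE := by
  tfae_have 1 → 2 := c_of_b Z f
  tfae_have 2 → 3 := d_of_c p Z f
  tfae_have 3 → 1 := b_of_d p Z f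
  tfae_finish

end Groth.Agent.Lib.SchDomTFAEH4
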