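import Mathlib
import Groth.Prelude.Def_DualSch
import Groth.Agent.Lib.SchDual2_helper6

/-!
# Scheme-level consequences of ring-level dualizing complex results, III (helper6)
-/

set_option autoImplicit false
universe u
open CategoryTheory CategoryTheory.Limits AlgebraicGeometry

attribute [local instance] HasDerivedCategory.standard

namespace Groth.Agent.Lib.SchDual_helper6

open Groth.Agent.Lib.DMod_helper6

lemma subsingleton_stalk_of_isZero {X : Scheme.{u}} (F : X.Modules) (hF : IsZero F) (x : X) :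
    Subsingleton (F.presheaf.stalk x) := by
  have h0 : ∀ (U : X.Opens) (s : Γ(F, U)), s = 0 := by
    intro U s
    have h := hF.eq_of_src (𝟙 F) 0
    have h2 := congrArg (fun φ => (Scheme.Modules.Hom.app φ U) s) h
    simpa using h2
  refine ⟨fun a b => ?_⟩
  obtain ⟨U, hxU, s, rfl⟩ := F.presheaf.exists_germ_eq a
  obtain ⟨V, hxV, t, rfl⟩ := F.presheaf.exists_germ_eq b
  rw [h0 U s, h0 V t, map_zero, map_zero]

lemma isZero_HD_inD_sch {X : Scheme.{u}} (M : X.Modules) (i : ℤ) (hi : i ≠ 0) :
    IsZero (DCoh.HD (DCoh.inD X M) i) := by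
  rcases lt_or_gt_of_ne hi with h | h
  · exact DerivedCategory.isZero_of_isGE _ 0 i h
  · exact DerivedCategory.isZero_of_isLE _ 0 i h

/-- the Cohen–Macaulay criterion at a point of a scheme with a dualizing complex, in the form
"at most one cohomology sheaf has a nonzero stalk". -/
theorem isCohenMacaulayLocalRing_stalk_of_forall_ne {X : Scheme.{u}} [IsLocallyNoetherian X]
    [∀ (U : Scheme.{u}) (j : U ⟶ X) [IsOpenImmersion j],
      PreservesFiniteLimits (Scheme.Modules.restrictFunctor j)]
    [∀ (R : CommRingCat.{u}), PreservesFiniteLimits (tilde.functor R)]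
    (K : DCoh.D X) (hK : Dual2.IsDualizingSch X K) (x : X) (n : ℤ)
    (hn : ∀ i : ℤ, i ≠ n → Subsingleton ((DCoh.HD K i).presheaf.stalk x)) :
    LocCoh.IsCohenMacaulayLocalRing (X.presheaf.stalk x) := by
  obtain ⟨A, _, j, _, p, rfl⟩ := exists_chart X x
  haveI := isNoetherianRing_of_chart j
  obtain ⟨ωA, hωA, ⟨e⟩⟩ := hK A j
  have h1 : LocCoh.IsCohenMacaulayLocalRing (Localization.AtPrime p.asIdeal) := by
    rw [isCohenMacaulayLocalRing_atPrime_iff ωA hωA p]
    refine ⟨n, fun i hi hmem => ?_⟩
    have h2 := (nontrivial_stalk_HD_iff j K ωA e p i).2 hmem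
    exact (not_subsingleton_iff_nontrivial.2 h2) (hn i hi)
  exact isCohenMacaulayLocalRing_of_ringEquiv (stalkEquiv j p)

end Groth.Agent.Lib.SchDual_helper6
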