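import Mathlib
import Groth.Prelude.Def_DualSch
import Groth.Agent.Lib.SchDual3_helper6
import Groth.Agent.Lib.SemiSk_helper6
import Groth.Agent.Lib.StalkSemi_helper6
import Groth.Agent.Lib.DualS2_helper6

/-!
# The dualizing sheaf of a scheme is `(S_2)` and torsion-free at integral points (helper6)
-/

set_option autoImplicit false
universe u
open CategoryTheory CategoryTheory.Limits AlgebraicGeometry

attribute [local instance] HasDerivedCategory.standard

namespace Groth.Agent.Lib.SchDual_helper6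

open Groth.Agent.Lib.DMod_helper6

lemma nonempty_restrict_iso_tilde {R : CommRingCat.{u}} {X : Scheme.{u}}
    (j : Spec R ⟶ X) [IsOpenImmersion j]
    [PreservesFiniteLimits (Scheme.Modules.restrictFunctor j)]
    [PreservesFiniteLimits (tilde.functor R)]
    (K : DCoh.D X) (ω : DerivedCategory (ModuleCat.{u} R))
    (e : (DCoh.restrictD j).obj K ≅ (DCoh.tildeD R).obj ω) (i : ℤ) :
    Nonempty ((DCoh.HD K i).restrict j ≅
      tilde ((DerivedCategory.homologyFunctor (ModuleCat.{u} R) i).obj ω)) := by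
  obtain ⟨e1⟩ := nonempty_homology_mapDerivedCategory_iso (Scheme.Modules.restrictFunctor j) K i
  obtain ⟨e2⟩ := nonempty_homology_mapDerivedCategory_iso (tilde.functor R) ω i
  exact ⟨e1.symm ≪≫ (DerivedCategory.homologyFunctor _ i).mapIso e ≪≫ e2⟩

theorem stalk_bottom_S2_torsionFree {X : Scheme.{u}} [IsLocallyNoetherian X]
    [∀ (U : Scheme.{u}) (j : U ⟶ X) [IsOpenImmersion j],
      PreservesFiniteLimits (Scheme.Modules.restrictFunctor j)]
    [∀ (R : CommRingCat.{u}), PreservesFiniteLimits (tilde.functor R)]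
    (K : DCoh.D X) (hK : Dual2.IsDualizingSch X K) (n : ℤ)
    (hlt : ∀ i : ℤ, i < n → IsZero (DCoh.HD K i)) (x : X) :
    LocCoh.HasSk 2 (X.presheaf.stalk x) ((DCoh.HD K n).presheaf.stalk x) ∧
      (IsDomain (X.presheaf.stalk x) →
        Module.IsTorsionFree (X.presheaf.stalk x) ((DCoh.HD K n).presheaf.stalk x)) := by
  obtain ⟨A, _, j, _, p, rfl⟩ := exists_chart X x
  haveI := isNoetherianRing_of_chart j
  obtain ⟨ωA, hωA, ⟨e⟩⟩ := hK A j
  obtain ⟨e3⟩ := nonempty_restrict_iso_tilde j K ωA e n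
  obtain ⟨σ, ε, hε⟩ := Groth.Agent.Lib.StalkSemi_helper6.exists_semilinear j (DCoh.HD K n) _ e3 p
  have hlow : ∀ i : ℤ, i < n → p ∉ Module.support A (Dual.HD A ωA i) := by
    intro i hi hmem
    have h2 := (nontrivial_stalk_HD_iff j K ωA e p i).2 hmem
    exact (not_subsingleton_iff_nontrivial.2 h2)
      (subsingleton_stalk_of_isZero _ (hlt i hi) _)
  obtain ⟨hS, hT⟩ := hasSk_two_localized ωA hωA p n hlow
  refine ⟨Groth.Agent.Lib.SemiSk_helper6.hasSk_of_semilinear σ ε hε 2 hS, fun hdom => ?_⟩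
  haveI : IsDomain (Localization.AtPrime p.asIdeal) := σ.toMulEquiv.isDomain _
  haveI := hT inferInstance
  exact Groth.Agent.Lib.SemiSk_helper6.isTorsionFree_of_semilinear σ ε hε

end Groth.Agent.Lib.SchDual_helper6
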