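import Mathlib
import Groth.Prelude.Def_DualSch
import Groth.Agent.Lib.SchDual4_helper6
import Groth.Agent.Lib.SemiSk2_helper6
import Groth.Agent.Lib.ReflS2_helper6

/-!
# The dualizing sheaf of a normal scheme is reflexive (helper6)
-/

set_option autoImplicit false
universe u
open CategoryTheory CategoryTheory.Limits AlgebraicGeometry

attribute [local instance] HasDerivedCategory.standard

namespace Groth.Agent.Lib.SchDual_helper6

open Groth.Agent.Lib.DMod_helper6

theorem finite_stalk_HD {X : Scheme.{u}} [IsLocallyNoetherian X]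
    [∀ (U : Scheme.{u}) (j : U ⟶ X) [IsOpenImmersion j],
      PreservesFiniteLimits (Scheme.Modules.restrictFunctor j)]
    [∀ (R : CommRingCat.{u}), PreservesFiniteLimits (tilde.functor R)]
    (K : DCoh.D X) (hK : Dual2.IsDualizingSch X K) (n : ℤ) (x : X) :
    Module.Finite (X.presheaf.stalk x) ((DCoh.HD K n).presheaf.stalk x) := by
  obtain ⟨A, _, j, _, p, rfl⟩ := exists_chart X x
  haveI := isNoetherianRing_of_chart j
  obtain ⟨ωA, hωA, ⟨e⟩⟩ := hK A j
  obtain ⟨e3⟩ := nonempty_restrict_iso_tilde j K ωA e n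
  obtain ⟨σ, ε, hε⟩ := Groth.Agent.Lib.StalkSemi_helper6.exists_semilinear j (DCoh.HD K n) _ e3 p
  haveI : Module.Finite A (Dual.HD A ωA n) := hωA.finite_cohomology n
  haveI : Module.Finite (Localization.AtPrime p.asIdeal)
      (LocalizedModule p.asIdeal.primeCompl (Dual.HD A ωA n)) :=
    Module.Finite.of_isLocalizedModule p.asIdeal.primeCompl
      (LocalizedModule.mkLinearMap p.asIdeal.primeCompl (Dual.HD A ωA n))
  exact Groth.Agent.Lib.SemiSk_helper6.finite_of_semilinear σ ε hε

theorem isReflexive_stalk_bottom {X : Scheme.{u}} [IsLocallyNoetherian X]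
    [∀ (U : Scheme.{u}) (j : U ⟶ X) [IsOpenImmersion j],
      PreservesFiniteLimits (Scheme.Modules.restrictFunctor j)]
    [∀ (R : CommRingCat.{u}), PreservesFiniteLimits (tilde.functor R)]
    (K : DCoh.D X) (hK : Dual2.IsDualizingSch X K) (n : ℤ)
    (hlt : ∀ i : ℤ, i < n → IsZero (DCoh.HD K i)) (x : X)
    [IsDomain (X.presheaf.stalk x)] [IsIntegrallyClosed (X.presheaf.stalk x)] :
    Module.IsReflexive (X.presheaf.stalk x) ((DCoh.HD K n).presheaf.stalk x) := by
  obtain ⟨hS, hT⟩ := stalk_bottom_S2_torsionFree K hK n hlt x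
  haveI := hT inferInstance
  haveI := finite_stalk_HD K hK n x
  exact Groth.Agent.Lib.ReflS2_helper6.isReflexive_of_torsionFree_of_hasSk _ hS

end Groth.Agent.Lib.SchDual_helper6
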