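import Mathlib
import Groth.Agent.Lib.SchFin2_helper3

/-!
# Finite ringed posets: criteria for `IsBCAlong`
-/

set_option autoImplicit false

open TensorProduct

namespace Groth.Agent.Lib.SchFin_helper3

open SchFin

universe u

/-- a semilinear map between trivial objects is a base change -/
lemma isBCAlong_of_subsingleton {R S : Type u} [CommRing R] [CommRing S] (g : R →+* S)
    {M N : Type u} [AddCommGroup M] [AddCommGroup N] [Module R M] [Module S N] (f : M →ₛₗ[g] N)
    (h1 : letI := g.toAlgebra; Subsingleton (S ⊗[R] M)) (h2 : Subsingleton N) :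
    IsBCAlong g f := by
  unfold IsBCAlong
  letI : Algebra R S := g.toAlgebra
  letI : Module R N := Module.compHom N g
  haveI : IsScalarTower R S N := IsScalarTower.of_algebraMap_smul fun _ _ => rfl
  haveI : Subsingleton (S ⊗[R] M) := h1
  exact IsBaseChange.of_equiv (LinearEquiv.ofSubsingleton (S ⊗[R] M) N)
    (fun x => Subsingleton.elim _ _)

/-- a bijective semilinear map over a ring epimorphism is a base change -/
lemma isBCAlong_of_isEpi {R S : Type u} [CommRing R] [CommRing S] (g : R →+* S)
    (hepi : @Algebra.IsEpi R S _ _ g.toAlgebra)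
    {M N : Type u} [AddCommGroup M] [AddCommGroup N] [Module R M] [Module S N] (f : M →ₛₗ[g] N)
    (hf : Function.Bijective f) : IsBCAlong g f := by
  unfold IsBCAlong
  letI : Algebra R S := g.toAlgebra
  letI : Module R N := Module.compHom N g
  haveI : IsScalarTower R S N := IsScalarTower.of_algebraMap_smul fun _ _ => rfl
  let f' : M →ₗ[R] N := { toFun := f, map_add' := f.map_add, map_smul' := f.map_smulₛₗ }
  let fe : M ≃ₗ[R] N := LinearEquiv.ofBijective f' hf
  refine IsBaseChange.of_equiv
    ((TensorProduct.AlgebraTensorModule.congr (LinearEquiv.refl S S) fe) ≪≫ₗ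
      TensorProduct.lid' R S N) (fun x => ?_)
  rw [LinearEquiv.trans_apply, TensorProduct.AlgebraTensorModule.congr_tmul,
    TensorProduct.lid'_apply_tmul, LinearEquiv.refl_apply, one_smul]
  rfl

section

variable {X : RSpace.{u}} {U U' : Set X.pt} {R R' : Type u} [CommRing R] [CommRing R']
  {φ : Coef X U R} {φ' : Coef X U' R'} (M : OMod X)

/-- restriction of sections is bijective when the smaller set is everything -/
lemma SectC.res_bijective (s : Coef.Sub φ φ') (h : U ⊆ U') :
    Function.Bijective (SectC.res M s) := by
  constructor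
  · rw [injective_iff_map_eq_zero]
    intro c hc
    ext q
    have := congrArg (fun t : SectC φ' M => t.val ⟨q.1, h q.2⟩) hc
    exact this
  · intro c'
    refine ⟨SectC.mk (fun q => c'.val ⟨q.1, h q.2⟩)
      (fun q q' hq => c'.compat ⟨q.1, h q.2⟩ ⟨q'.1, h q'.2⟩ hq), ?_⟩
    ext q
    rfl

end

/-- chains of length at least two in a subsingleton poset do not exist -/
lemma isEmpty_chain_succ {X : RSpace.{u}} [Subsingleton X.pt] (U : Set X.pt) (n : ℕ) :
    IsEmpty (Chain U (n + 1)) := by
  constructor
  intro σ
  have h : σ 0 = σ 1 := Subsingleton.elim _ _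
  have := σ.injective h
  simp at this

/-- higher cohomology over a subsingleton poset vanishes -/
lemma subsingleton_H_succ {X : RSpace.{u}} [Subsingleton X.pt] {U : Set X.pt} {R : Type u}
    [CommRing R] (φ : Coef X U R) (M : OMod X) (n : ℕ) : Subsingleton (H φ M (n + 1)) := by
  haveI := isEmpty_chain_succ U n
  haveI : Subsingleton (Cochain φ M (n + 1)) := by
    unfold Cochain
    infer_instance
  haveI : Subsingleton (cocycles φ M (n + 1)) := inferInstance
  unfold H
  infer_instance

end Groth.Agent.Lib.SchFin_helper3
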