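import Mathlib
import Groth.Prelude.Def_SchFin
set_option autoImplicit false
universe u

/-!
# Base change of sections over an affine subset: the algebra (helper6)
-/

open TensorProduct

namespace Groth.Agent.Lib.SchFinAffH6

section PiFamily

/-- a finite family of base changes along `A → O i` assembles to a base change along
`A → ∏ O i` -/
theorem isBaseChange_pi_family {A : Type u} [CommRing A] {ι : Type u} [Finite ι]
    (O : ι → Type u) [∀ i, CommRing (O i)] [∀ i, Algebra A (O i)]
    {Γ : Type u} [AddCommGroup Γ] [Module A Γ]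
    (M : ι → Type u) [∀ i, AddCommGroup (M i)] [∀ i, Module A (M i)] [∀ i, Module (O i) (M i)]
    [∀ i, IsScalarTower A (O i) (M i)]
    (e : ∀ i, Γ →ₗ[A] M i) (he : ∀ i, IsBaseChange (O i) (e i)) :
    IsBaseChange (∀ j, O j) (LinearMap.pi e : Γ →ₗ[A] (∀ i, M i)) := by
  classical
  cases nonempty_fintype ι
  have hL : ∀ (z : (∀ j, O j) ⊗[A] Γ) (i : ι),
      LinearMap.liftBaseChange (∀ j, O j) (LinearMap.pi e) z i =
        (he i).equiv (TensorProduct.piLeft A Γ O z i) := by
    intro z i
    induction z using TensorProduct.induction_on with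
    | zero => simp
    | tmul b γ =>
      rw [LinearMap.liftBaseChange_tmul]
      have h1 : TensorProduct.piLeft A Γ O (b ⊗ₜ[A] γ) i = b i ⊗ₜ[A] γ := by
        simp [TensorProduct.piLeft]
      rw [h1, IsBaseChange.equiv_tmul, Pi.smul_apply']
      rfl
    | add x y hx hy =>
      rw [map_add, Pi.add_apply, hx, hy, map_add, Pi.add_apply, map_add]
  have hbij : Function.Bijective (LinearMap.liftBaseChange (∀ j, O j) (LinearMap.pi e)) := by
    have h2 : (LinearMap.liftBaseChange (∀ j, O j) (LinearMap.pi e) : _ → _) =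
        (fun (w : ∀ i, O i ⊗[A] Γ) => fun i => (he i).equiv (w i)) ∘
          (TensorProduct.piLeft A Γ O) := by
      funext z
      funext i
      exact hL z i
    rw [h2]
    refine Function.Bijective.comp ?_ (TensorProduct.piLeft A Γ O).bijective
    constructor
    · intro w w' h
      funext i
      exact (he i).equiv.injective (congrFun h i)
    · intro w
      refine ⟨fun i => (he i).equiv.symm (w i), ?_⟩
      funext i
      exact (he i).equiv.apply_symm_apply (w i)
  exact IsBaseChange.of_equiv (LinearEquiv.ofBijective _ hbij) (fun γ => by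
    show LinearMap.liftBaseChange (∀ j, O j) (LinearMap.pi e) (1 ⊗ₜ[A] γ) = _
    rw [LinearMap.liftBaseChange_tmul, one_smul])

end PiFamily

section LTensor

/-- the canonical map `A ⊗ Mx → Γ` becomes bijective after `O ⊗_A -` as soon as `Γ → Mq` and
`Mx → Mq` are base changes to `O` -/
theorem lTensor_liftBaseChange_bijective {R A O : Type u} [CommRing R] [CommRing A] [CommRing O]
    [Algebra R A] [Algebra A O] [Algebra R O] [IsScalarTower R A O]
    {Mx Γ Mq : Type u} [AddCommGroup Mx] [Module R Mx]
    [AddCommGroup Γ] [Module A Γ] [Module R Γ] [IsScalarTower R A Γ]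
    [AddCommGroup Mq] [Module O Mq] [Module A Mq] [Module R Mq]
    [IsScalarTower A O Mq] [IsScalarTower R O Mq] [IsScalarTower R A Mq]
    (f : Mx →ₗ[R] Γ) (ev : Γ →ₗ[A] Mq) (hev : IsBaseChange O ev)
    (hres : IsBaseChange O ((ev.restrictScalars R).comp f)) :
    Function.Bijective ((LinearMap.liftBaseChange A f).lTensor O) := by
  have key : ∀ z : O ⊗[A] (A ⊗[R] Mx),
      hev.equiv ((LinearMap.liftBaseChange A f).lTensor O z) =
        hres.equiv (TensorProduct.AlgebraTensorModule.cancelBaseChange R A O O Mx z) := by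
    intro z
    induction z using TensorProduct.induction_on with
    | zero => simp
    | tmul s w =>
      induction w using TensorProduct.induction_on with
      | zero => simp
      | tmul a m =>
        rw [LinearMap.lTensor_tmul, LinearMap.liftBaseChange_tmul, IsBaseChange.equiv_tmul,
          TensorProduct.AlgebraTensorModule.cancelBaseChange_tmul, IsBaseChange.equiv_tmul,
          map_smul]
        show s • a • ev (f m) = (a • s) • ev (f m)
        rw [smul_assoc, smul_comm]
      | add x y hx hy =>
        simp only [TensorProduct.tmul_add, map_add, hx, hy]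
    | add x y hx hy => simp only [map_add, hx, hy]
  have h2 : ((LinearMap.liftBaseChange A f).lTensor O : _ → _) =
      hev.equiv.symm ∘ hres.equiv ∘
        (TensorProduct.AlgebraTensorModule.cancelBaseChange R A O O Mx) := by
    funext z
    show _ = hev.equiv.symm (hres.equiv _)
    rw [← key z, LinearEquiv.symm_apply_apply]
  rw [h2]
  exact hev.equiv.symm.bijective.comp (hres.equiv.bijective.comp
    (TensorProduct.AlgebraTensorModule.cancelBaseChange R A O O Mx).bijective)

end LTensor

section Wrapper

/-- the abstract form of base change of sections over an affine subset -/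
theorem isBCAlong_sections {R A : Type u} [CommRing R] [CommRing A] (g : R →+* A)
    {ι : Type u} [Finite ι] (O : ι → Type u) [∀ i, CommRing (O i)] (ev : ∀ i, A →+* O i)
    (k : ∀ i, R →+* O i) (hk : ∀ i r, k i r = ev i (g r))
    {B : Type u} [AddCommGroup B] [Module A B] [Module.FaithfullyFlat A B]
    (β : B ≃+ (∀ i, O i)) (hβ : ∀ (a : A) (b : B) (i : ι), β (a • b) i = ev i a * β b i)
    {Mx Γ : Type u} [AddCommGroup Mx] [Module R Mx] [AddCommGroup Γ] [Module A Γ]
    (M : ι → Type u) [∀ i, AddCommGroup (M i)] [∀ i, Module (O i) (M i)]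
    (f : Mx →ₛₗ[g] Γ) (e : ∀ i, Γ →ₛₗ[ev i] M i) (r : ∀ i, Mx →ₛₗ[k i] M i)
    (hr : ∀ i m, r i m = e i (f m))
    (he : ∀ i, SchFin.IsBCAlong (ev i) (e i))
    (hres : ∀ i, SchFin.IsBCAlong (k i) (r i)) : SchFin.IsBCAlong g f := by
  letI : Algebra R A := g.toAlgebra
  letI : Module R Γ := Module.compHom Γ g
  haveI : IsScalarTower R A Γ := IsScalarTower.of_algebraMap_smul fun _ _ => rfl
  show IsBaseChange A
    ({ toFun := f, map_add' := f.map_add, map_smul' := f.map_smulₛₗ } : Mx →ₗ[R] Γ)
  letI : ∀ i, Algebra A (O i) := fun i => (ev i).toAlgebra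
  letI : ∀ i, Module A (M i) := fun i => Module.compHom (M i) (ev i)
  haveI : ∀ i, IsScalarTower A (O i) (M i) :=
    fun i => IsScalarTower.of_algebraMap_smul fun _ _ => rfl
  letI : ∀ i, Algebra R (O i) := fun i => (k i).toAlgebra
  letI : ∀ i, Module R (M i) := fun i => Module.compHom (M i) (k i)
  haveI : ∀ i, IsScalarTower R (O i) (M i) :=
    fun i => IsScalarTower.of_algebraMap_smul fun _ _ => rfl
  haveI : ∀ i, IsScalarTower R A (O i) :=
    fun i => IsScalarTower.of_algebraMap_eq (fun r => hk i r)
  haveI : ∀ i, IsScalarTower R A (M i) := fun i => ⟨fun r a m => by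
    show ev i (g r * a) • m = k i r • ev i a • m
    rw [map_mul, mul_smul, hk]⟩
  let e' : ∀ i, Γ →ₗ[A] M i := fun i =>
    { toFun := e i, map_add' := (e i).map_add, map_smul' := (e i).map_smulₛₗ }
  have he' : ∀ i, IsBaseChange (O i) (e' i) := fun i => he i
  let r' : ∀ i, Mx →ₗ[R] M i := fun i =>
    { toFun := r i, map_add' := (r i).map_add, map_smul' := (r i).map_smulₛₗ }
  have hres' : ∀ i, IsBaseChange (O i) (r' i) := fun i => hres i
  let f' : Mx →ₗ[R] Γ :=
    { toFun := f, map_add' := f.map_add, map_smul' := f.map_smulₛₗ }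
  have h1 := isBaseChange_pi_family O M e' he'
  have h2 := isBaseChange_pi_family O M r' hres'
  have h3 : ((LinearMap.pi e').restrictScalars R).comp f' = LinearMap.pi r' := by
    apply LinearMap.ext
    intro m
    funext i
    exact (hr i m).symm
  have h2' : IsBaseChange (∀ j, O j) (((LinearMap.pi e').restrictScalars R).comp f') := by
    rw [h3]
    exact h2
  have hbij := lTensor_liftBaseChange_bijective f' (LinearMap.pi e') h1 h2'
  haveI : Module.FaithfullyFlat A (∀ i, O i) :=
    Module.FaithfullyFlat.of_linearEquiv A B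
      (β.toLinearEquiv (fun a b => by
        funext i
        rw [hβ]
        rfl)).symm
  have hT := (Module.FaithfullyFlat.lTensor_bijective_iff_bijective A (∀ i, O i)
    (LinearMap.liftBaseChange A f')).mp hbij
  exact IsBaseChange.of_equiv (LinearEquiv.ofBijective _ hT) (fun m => by
    show LinearMap.liftBaseChange A f' (1 ⊗ₜ[R] m) = f' m
    rw [LinearMap.liftBaseChange_tmul, one_smul])

/-- transport of a base change along an isomorphism of the source ring and module -/
theorem isBCAlong_of_equiv {A A' S : Type u} [CommRing A] [CommRing A'] [CommRing S]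
    (σ : A ≃+* A') (g : A →+* S) (g' : A' →+* S) (hg : ∀ a, g' (σ a) = g a)
    {P P' N : Type u} [AddCommGroup P] [Module A P] [AddCommGroup P'] [Module A' P']
    [AddCommGroup N] [Module S N]
    (τ : P ≃+ P') (hτ : ∀ (a : A) (p : P), τ (a • p) = σ a • τ p)
    (f : P →ₛₗ[g] N) (f' : P' →ₛₗ[g'] N) (hf : ∀ p, f' (τ p) = f p)
    (h : SchFin.IsBCAlong g' f') : SchFin.IsBCAlong g f := by
  letI : Algebra A S := g.toAlgebra
  letI : Module A N := Module.compHom N g
  haveI : IsScalarTower A S N := IsScalarTower.of_algebraMap_smul fun _ _ => rfl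
  show IsBaseChange S
    ({ toFun := f, map_add' := f.map_add, map_smul' := f.map_smulₛₗ } : P →ₗ[A] N)
  letI : Algebra A' S := g'.toAlgebra
  letI : Module A' N := Module.compHom N g'
  haveI : IsScalarTower A' S N := IsScalarTower.of_algebraMap_smul fun _ _ => rfl
  have h' : IsBaseChange S
    ({ toFun := f', map_add' := f'.map_add, map_smul' := f'.map_smulₛₗ } : P' →ₗ[A'] N) := h
  apply IsBaseChange.of_lift_unique
  intro Q _ _ _ _ g₀
  letI : Module A' Q := Module.compHom Q g'
  haveI : IsScalarTower A' S Q := IsScalarTower.of_algebraMap_smul fun _ _ => rfl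
  have hAQ : ∀ (a : A) (y : Q), a • y = g a • y := fun a y => (algebraMap_smul S a y).symm
  have hτs : ∀ (a : A) (p' : P'), τ.symm (σ a • p') = a • τ.symm p' := by
    intro a p'
    apply τ.injective
    rw [hτ, AddEquiv.apply_symm_apply, AddEquiv.apply_symm_apply]
  let g₀' : P' →ₗ[A'] Q :=
    { toFun := fun p' => g₀ (τ.symm p')
      map_add' := fun x y => by rw [map_add, map_add]
      map_smul' := fun a' p' => by
        obtain ⟨a, rfl⟩ := σ.surjective a'
        show g₀ (τ.symm (σ a • p')) = g' (σ a) • g₀ (τ.symm p')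
        rw [hτs, map_smul, hAQ, hg] }
  refine ⟨h'.lift g₀', ?_, ?_⟩
  · apply LinearMap.ext
    intro p
    have h1 := h'.lift_eq g₀' (τ p)
    have h2 : h'.lift g₀' (f' (τ p)) = g₀ (τ.symm (τ p)) := h1
    rw [hf, AddEquiv.symm_apply_apply] at h2
    exact h2
  · intro g'' hg''
    apply h'.algHom_ext
    intro p'
    rw [h'.lift_eq]
    have h1 := LinearMap.congr_fun hg'' (τ.symm p')
    have h2 : g'' (f (τ.symm p')) = g₀ (τ.symm p') := h1
    rw [← hf, AddEquiv.apply_symm_apply] at h2
    exact h2

end Wrapper

end Groth.Agent.Lib.SchFinAffH6
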