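import Mathlib
import Groth.Prelude.Def_SchFin
import Groth.Prelude.Def_SchFin2
import Groth.Agent.Lib.SchFinAff1_helper6
set_option autoImplicit false
universe u

/-!
# Base change of sections over an affine subset of a finite ringed poset (helper6)
-/

open TensorProduct SchFin

namespace Groth.Agent.Lib.SchFinAffH6

section Transport

variable (X : RSpace.{u}) (U : Set X.pt)

/-- sections of the rings over `U` are the global sections of the rings of the restriction -/
def sectRingEquiv : X.sectRing U ≃+* (X.restrict U).sectRing Set.univ where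
  toFun s := ⟨fun q' => s.1 q'.1, fun q q' h => s.2 q.1 q'.1 h⟩
  invFun t := ⟨fun q => t.1 ⟨q, trivial⟩, fun q q' h => t.2 ⟨q, trivial⟩ ⟨q', trivial⟩ h⟩
  left_inv s := Subtype.ext (funext fun q => rfl)
  right_inv t := Subtype.ext (funext fun q' => rfl)
  map_mul' a b := Subtype.ext (funext fun q' => rfl)
  map_add' a b := Subtype.ext (funext fun q' => rfl)

/-- sections of a module over `U` are the global sections of its restriction -/
def sectEquiv (M : OMod X) : M.sect U ≃+ (M.restrict U).sect Set.univ where
  toFun s := ⟨fun q' => s.1 q'.1, fun q q' h => s.2 q.1 q'.1 h⟩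
  invFun t := ⟨fun q => t.1 ⟨q, trivial⟩, fun q q' h => t.2 ⟨q, trivial⟩ ⟨q', trivial⟩ h⟩
  left_inv s := Subtype.ext (funext fun q => rfl)
  right_inv t := Subtype.ext (funext fun q' => rfl)
  map_add' a b := Subtype.ext (funext fun q' => rfl)

/-- over an affine subset, evaluation at a point exhibits the value of a quasi-coherent module as
the base change of its sections -/
theorem isBCAlong_evalMod (hUa : (X.restrict U).IsAffine) (M : OMod X) (hM : M.IsQcoh) (q : U) :
    IsBCAlong (X.evalRing U q) (M.evalMod U q) := by
  have h0 := hUa.2.2.1 (M.restrict U) (fun p p' h => hM p.1 p'.1 h) q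
  exact isBCAlong_of_equiv (sectRingEquiv X U) (X.evalRing U q)
    ((X.restrict U).evalRing Set.univ ⟨q, trivial⟩) (fun a => rfl)
    (sectEquiv X U M) (fun a p => Subtype.ext (funext fun q' => rfl))
    (M.evalMod U q) ((M.restrict U).evalMod Set.univ ⟨q, trivial⟩) (fun p => rfl) h0

end Transport

section Main17

theorem main15617 (X : RSpace.{u}) (x : X.pt) (U : Set X.pt) (hU : U ⊆ X.up x)
    (hUa : (X.restrict U).IsAffine)
    (hff : Module.FaithfullyFlat (X.sectRing U) ((q : ↥U) → X.ring q.1)) (M : OMod X)
    (hM : M.IsQcoh) : IsBCAlong (X.resSect x U hU) (M.resSect x U hU) := by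
  haveI := hff
  exact isBCAlong_sections (X.resSect x U hU) (fun q : ↥U => X.ring q.1)
    (fun q => X.evalRing U q) (fun q => X.res (hU q.2)) (fun q r => rfl)
    (AddEquiv.refl _) (fun a b i => rfl)
    (fun q : ↥U => M.carrier q.1) (M.resSect x U hU) (fun q => M.evalMod U q)
    (fun q => M.res (hU q.2)) (fun q m => rfl)
    (fun q => isBCAlong_evalMod X U hUa M hM q)
    (fun q => hM x q.1 (hU q.2))

end Main17

end Groth.Agent.Lib.SchFinAffH6
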