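import Mathlib
import Groth.Agent.Lib.SchFinAff1_helper6
set_option autoImplicit false
universe u

/-!
# Pointwise criteria for finite / flat / faithfully flat / étale over an affine subset: the algebra
(helper6)
-/

open TensorProduct

namespace Groth.Agent.Lib.SchFinAffH6

section PiPi

variable {ι : Type u} (O : ι → Type u) [∀ i, CommRing (O i)]

theorem isLocalization_away_single [DecidableEq ι] (i : ι) :
    letI : Algebra (∀ j, O j) (O i) := (Pi.evalRingHom O i).toAlgebra
    IsLocalization.Away (Pi.single i (1 : O i) : ∀ j, O j) (O i) := by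
  letI : Algebra (∀ j, O j) (O i) := (Pi.evalRingHom O i).toAlgebra
  refine IsLocalization.away_of_isIdempotentElem_of_mul ?_ ?_ ?_
  · show (Pi.single i (1 : O i) : ∀ j, O j) * Pi.single i 1 = Pi.single i 1
    rw [← Pi.single_mul, mul_one]
  · intro x y
    show x i = y i ↔ (Pi.single i (1 : O i) : ∀ j, O j) * x = Pi.single i 1 * y
    constructor
    · intro h
      funext j
      by_cases hj : j = i
      · subst hj
        simp [h]
      · simp [Pi.single_eq_of_ne hj]
    · intro h
      have h1 := congrFun h i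
      simpa using h1
  · intro x
    refine ⟨Pi.single i x, ?_⟩
    show (Pi.single i x : ∀ j, O j) i = x
    exact Pi.single_eq_same i x

variable [Finite ι]

theorem finite_pi_pi (M : ι → Type u) [∀ i, AddCommGroup (M i)] [∀ i, Module (O i) (M i)]
    [∀ i, Module.Finite (O i) (M i)] : Module.Finite (∀ i, O i) (∀ i, M i) := by
  classical
  letI : ∀ i, Algebra (∀ j, O j) (O i) := fun i => (Pi.evalRingHom O i).toAlgebra
  letI : ∀ i, Module (∀ j, O j) (M i) := fun i => Module.compHom (M i) (Pi.evalRingHom O i)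
  haveI : ∀ i, IsScalarTower (∀ j, O j) (O i) (M i) :=
    fun i => IsScalarTower.of_algebraMap_smul fun _ _ => rfl
  haveI : ∀ i, Module.Finite (∀ j, O j) (O i) := fun i =>
    Module.Finite.of_surjective (Algebra.linearMap (∀ j, O j) (O i))
      (fun x => ⟨Pi.single i x, by
        show (Pi.single i x : ∀ j, O j) i = x
        exact Pi.single_eq_same i x⟩)
  haveI : ∀ i, Module.Finite (∀ j, O j) (M i) := fun i => Module.Finite.trans (O i) (M i)
  have h : @Module.Finite (∀ j, O j) (∀ i, M i) _ _ (Pi.module ι M (∀ j, O j)) :=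
    Module.Finite.pi
  exact h

theorem flat_pi_pi (M : ι → Type u) [∀ i, AddCommGroup (M i)] [∀ i, Module (O i) (M i)]
    [∀ i, Module.Flat (O i) (M i)] : Module.Flat (∀ i, O i) (∀ i, M i) := by
  classical
  cases nonempty_fintype ι
  letI : ∀ i, Algebra (∀ j, O j) (O i) := fun i => (Pi.evalRingHom O i).toAlgebra
  letI : ∀ i, Module (∀ j, O j) (M i) := fun i => Module.compHom (M i) (Pi.evalRingHom O i)
  haveI : ∀ i, IsScalarTower (∀ j, O j) (O i) (M i) :=
    fun i => IsScalarTower.of_algebraMap_smul fun _ _ => rfl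
  haveI : ∀ i, Module.Flat (∀ j, O j) (O i) := fun i =>
    haveI := isLocalization_away_single O i
    IsLocalization.flat (O i) (Submonoid.powers (Pi.single i (1 : O i) : ∀ j, O j))
  haveI : ∀ i, Module.Flat (∀ j, O j) (M i) :=
    fun i => Module.Flat.trans (∀ j, O j) (O i) (M i)
  have h : @Module.Flat (∀ j, O j) (∀ i, M i) _ _ (Pi.module ι M (∀ j, O j)) :=
    Module.Flat.of_linearEquiv (DirectSum.linearEquivFunOnFintype (∀ j, O j) ι M).symm
  exact h

end PiPi

section Criteria

variable {A₀ : Type u} [CommRing A₀] {ι : Type u} [Finite ι]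
  (O : ι → Type u) [∀ i, CommRing (O i)] [∀ i, Algebra A₀ (O i)]
  (hff : Module.FaithfullyFlat A₀ (∀ i, O i))

include hff in
theorem finite_iff_of_family {A₁ : Type u} [AddCommGroup A₁] [Module A₀ A₁]
    (N : ι → Type u) [∀ i, AddCommGroup (N i)] [∀ i, Module A₀ (N i)] [∀ i, Module (O i) (N i)]
    [∀ i, IsScalarTower A₀ (O i) (N i)]
    (ev : ∀ i, A₁ →ₗ[A₀] N i) (hev : ∀ i, IsBaseChange (O i) (ev i)) :
    (∀ i, Module.Finite (O i) (N i)) ↔ Module.Finite A₀ A₁ := by
  haveI := hff
  constructor
  · intro h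
    haveI := h
    haveI : Module.Finite (∀ i, O i) (∀ i, N i) := finite_pi_pi O N
    have hpi := isBaseChange_pi_family O N ev hev
    haveI : Module.Finite (∀ i, O i) ((∀ i, O i) ⊗[A₀] A₁) := Module.Finite.equiv hpi.equiv.symm
    exact Module.Finite.of_finite_tensorProduct_of_faithfullyFlat (∀ i, O i)
  · intro h i
    haveI := h
    exact Module.Finite.equiv (hev i).equiv

include hff in
theorem flat_iff_of_family {A₁ : Type u} [AddCommGroup A₁] [Module A₀ A₁]
    (N : ι → Type u) [∀ i, AddCommGroup (N i)] [∀ i, Module A₀ (N i)] [∀ i, Module (O i) (N i)]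
    [∀ i, IsScalarTower A₀ (O i) (N i)]
    (ev : ∀ i, A₁ →ₗ[A₀] N i) (hev : ∀ i, IsBaseChange (O i) (ev i)) :
    (∀ i, Module.Flat (O i) (N i)) ↔ Module.Flat A₀ A₁ := by
  haveI := hff
  constructor
  · intro h
    haveI := h
    haveI : Module.Flat (∀ i, O i) (∀ i, N i) := flat_pi_pi O N
    have hpi := isBaseChange_pi_family O N ev hev
    haveI : Module.Flat (∀ i, O i) ((∀ i, O i) ⊗[A₀] A₁) := Module.Flat.of_linearEquiv hpi.equiv
    exact Module.Flat.of_flat_tensorProduct A₀ A₁ (∀ i, O i)
  · intro h i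
    haveI := h
    exact Module.Flat.of_linearEquiv (hev i).equiv.symm

include hff in
theorem faithfullyFlat_iff_of_family {A₁ : Type u} [CommRing A₁] [Algebra A₀ A₁]
    (N : ι → Type u) [∀ i, CommRing (N i)] [∀ i, Algebra A₀ (N i)] [∀ i, Algebra (O i) (N i)]
    [∀ i, IsScalarTower A₀ (O i) (N i)]
    (ev : ∀ i, A₁ →ₐ[A₀] N i) (hev : ∀ i, IsBaseChange (O i) (ev i).toLinearMap) :
    (∀ i, Module.FaithfullyFlat (O i) (N i)) ↔ Module.FaithfullyFlat A₀ A₁ := by
  constructor
  · intro h
    haveI := h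
    haveI : Module.Flat A₀ A₁ :=
      (flat_iff_of_family O hff N (fun i => (ev i).toLinearMap) hev).mp (fun i => inferInstance)
    haveI := hff
    apply Module.FaithfullyFlat.of_comap_surjective
    intro p
    obtain ⟨P, hP⟩ := PrimeSpectrum.comap_surjective_of_faithfullyFlat (A := A₀) (B := ∀ i, O i) p
    obtain ⟨⟨i, Pi_⟩, hPi⟩ := (PrimeSpectrum.sigmaToPi_bijective O).2 P
    obtain ⟨Q, hQ⟩ := PrimeSpectrum.comap_surjective_of_faithfullyFlat (A := O i) (B := N i) Pi_
    refine ⟨PrimeSpectrum.comap (ev i).toRingHom Q, ?_⟩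
    rw [← hP, ← hPi, PrimeSpectrum.sigmaToPi_apply, ← hQ]
    apply PrimeSpectrum.ext
    ext a
    simp only [PrimeSpectrum.comap_asIdeal, Ideal.mem_comap]
    have h1 : (ev i).toRingHom (algebraMap A₀ A₁ a) =
        algebraMap (O i) (N i) (Pi.evalRingHom O i (algebraMap A₀ (∀ j, O j) a)) := by
      show ev i (algebraMap A₀ A₁ a) = _
      rw [AlgHom.commutes]
      exact IsScalarTower.algebraMap_apply A₀ (O i) (N i) a
    rw [h1]
  · intro h i
    haveI := h
    exact Module.FaithfullyFlat.of_linearEquiv (O i) (O i ⊗[A₀] A₁) (hev i).equiv.symm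

include hff in
theorem etale_iff_of_family {A₁ : Type u} [CommRing A₁] [Algebra A₀ A₁]
    (N : ι → Type u) [∀ i, CommRing (N i)] [∀ i, Algebra A₀ (N i)] [∀ i, Algebra (O i) (N i)]
    [∀ i, IsScalarTower A₀ (O i) (N i)]
    (ev : ∀ i, A₁ →ₐ[A₀] N i) (hev : ∀ i, IsBaseChange (O i) (ev i).toLinearMap) :
    (∀ i, Algebra.Etale (O i) (N i)) ↔ Algebra.Etale A₀ A₁ := by
  constructor
  · intro h
    haveI := h
    haveI := hff
    classical
    cases nonempty_fintype ι
    have hpi := isBaseChange_pi_family O N (fun i => (ev i).toLinearMap) hev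
    letI : ∀ i, Algebra (∀ j, O j) (O i) := fun i => (Pi.evalRingHom O i).toAlgebra
    letI : ∀ i, Algebra (∀ j, O j) (N i) := fun i => Algebra.compHom (N i) (Pi.evalRingHom O i)
    haveI : ∀ i, IsScalarTower (∀ j, O j) (O i) (N i) :=
      fun i => IsScalarTower.of_algebraMap_eq (fun _ => rfl)
    haveI : ∀ i, Algebra.Etale (∀ j, O j) (O i) := fun i =>
      haveI := isLocalization_away_single O i
      Algebra.Etale.of_isLocalizationAway (Pi.single i (1 : O i) : ∀ j, O j)
    haveI : ∀ i, Algebra.Etale (∀ j, O j) (N i) :=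
      fun i => Algebra.Etale.comp (∀ j, O j) (O i) (N i)
    haveI : ∀ i, IsScalarTower A₀ (∀ j, O j) (N i) := fun i =>
      IsScalarTower.of_algebraMap_eq (fun a => by
        show algebraMap A₀ (N i) a = algebraMap (O i) (N i) (algebraMap A₀ (O i) a)
        exact IsScalarTower.algebraMap_apply A₀ (O i) (N i) a)
    let Ψ : (∀ j, O j) ⊗[A₀] A₁ →ₐ[∀ j, O j] (∀ i, N i) :=
      Algebra.TensorProduct.lift (Algebra.ofId (∀ j, O j) (∀ i, N i)) (Pi.algHom A₀ N ev)
        (fun _ _ => Commute.all _ _)
    have hΨ : ∀ z, Ψ z = hpi.equiv z := by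
      intro z
      induction z using TensorProduct.induction_on with
      | zero => rw [map_zero, map_zero]
      | tmul b a =>
        rw [IsBaseChange.equiv_tmul]
        show Algebra.TensorProduct.lift (Algebra.ofId (∀ j, O j) (∀ i, N i)) (Pi.algHom A₀ N ev)
          (fun _ _ => Commute.all _ _) (b ⊗ₜ[A₀] a) = _
        rw [Algebra.TensorProduct.lift_tmul]
        funext i
        show algebraMap (O i) (N i) (b i) * ev i a = b i • ev i a
        rw [Algebra.smul_def]
      | add x y hx hy => rw [map_add, map_add, hx, hy]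
    have hbij : Function.Bijective Ψ := by
      have h1 : (Ψ : _ → _) = hpi.equiv := funext hΨ
      rw [h1]
      exact hpi.equiv.bijective
    have hE : @Algebra.Etale (∀ j, O j) (∀ i, N i) _ _ (Pi.algebra ι N) := inferInstance
    haveI hE' : Algebra.Etale (∀ j, O j) (∀ i, N i) := hE
    haveI : Algebra.Etale (∀ j, O j) ((∀ j, O j) ⊗[A₀] A₁) :=
      Algebra.Etale.of_equiv (AlgEquiv.ofBijective Ψ hbij).symm
    exact Algebra.Etale.of_etale_tensorProduct_of_faithfullyFlat (∀ j, O j)
  · intro h i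
    haveI := h
    let Ψ : O i ⊗[A₀] A₁ →ₐ[O i] N i :=
      Algebra.TensorProduct.lift (Algebra.ofId (O i) (N i)) (ev i) (fun _ _ => Commute.all _ _)
    have hΨ : ∀ z, Ψ z = (hev i).equiv z := by
      intro z
      induction z using TensorProduct.induction_on with
      | zero => rw [map_zero, map_zero]
      | tmul b a =>
        rw [IsBaseChange.equiv_tmul]
        show Algebra.TensorProduct.lift (Algebra.ofId (O i) (N i)) (ev i)
          (fun _ _ => Commute.all _ _) (b ⊗ₜ[A₀] a) = _
        rw [Algebra.TensorProduct.lift_tmul]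
        show algebraMap (O i) (N i) b * ev i a = b • ev i a
        rw [Algebra.smul_def]
      | add x y hx hy => rw [map_add, map_add, hx, hy]
    have hbij : Function.Bijective Ψ := by
      have h1 : (Ψ : _ → _) = (hev i).equiv := funext hΨ
      rw [h1]
      exact (hev i).equiv.bijective
    exact Algebra.Etale.of_equiv (AlgEquiv.ofBijective Ψ hbij)

end Criteria

end Groth.Agent.Lib.SchFinAffH6
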