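import Mathlib
import Groth.Prelude.Def_SchFin
import Groth.Prelude.Def_SchFin2
import Groth.Agent.Lib.SchFinAff2_helper6
import Groth.Agent.Lib.SchFinAff3_helper6
set_option autoImplicit false
universe u

/-!
# Pointwise criteria for finite / flat / faithfully flat / étale quasi-coherent algebras over an
affine subset of a finite ringed poset (helper6)
-/

open TensorProduct SchFin

namespace Groth.Agent.Lib.SchFinAffH6

section Apply

variable (X : RSpace.{u}) (A : Alg X) (U : Set X.pt)

/-- sections of an algebra as a ring are its sections as a module -/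
def secAE : A.total.sectRing U ≃+ A.toMod.sect U where
  toFun s := ⟨s.1, fun q q' h => s.2 q q' h⟩
  invFun t := ⟨t.1, fun q q' h => t.2 q q' h⟩
  left_inv s := rfl
  right_inv t := rfl
  map_add' a b := rfl

theorem secAE_smul (a : X.sectRing U) (s : A.total.sectRing U) :
    secAE X A U (A.sectMap U a * s) = a • secAE X A U s := by
  apply Subtype.ext
  funext q
  have h := @Algebra.smul_def (X.ring q.1) (A.carrier q.1) _ _ _ (a.1 q) (s.1 q)
  exact h.symm

/-- evaluation of sections of the algebra at a point, as a ring map -/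
def evAlgRing (q : U) : A.total.sectRing U →+* A.carrier q.1 :=
  A.total.evalRing U q

theorem main15620 (hA : A.IsQcoh) (hUa : (X.restrict U).IsAffine)
    (hφ : Module.FaithfullyFlat (X.sectRing U) ((q : ↥U) → X.ring q.1)) :
    (∀ q : X.pt, q ∈ U → Module.Finite (X.ring q) (A.carrier q)) ↔ (A.sectMap U).Finite := by
  letI : ∀ q : U, Algebra (X.sectRing U) (X.ring q.1) := fun q => (X.evalRing U q).toAlgebra
  letI : ∀ q : U, Module (X.sectRing U) (A.carrier q.1) :=
    fun q => Module.compHom (A.carrier q.1) (X.evalRing U q)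
  haveI : ∀ q : U, IsScalarTower (X.sectRing U) (X.ring q.1) (A.carrier q.1) :=
    fun q => IsScalarTower.of_algebraMap_smul fun _ _ => rfl
  letI : Algebra (X.sectRing U) (A.total.sectRing U) := (A.sectMap U).toAlgebra
  let E : A.total.sectRing U ≃ₗ[X.sectRing U] A.toMod.sect U :=
    (secAE X A U).toLinearEquiv (fun a s => secAE_smul X A U a s)
  let em : ∀ q : U, A.toMod.sect U →ₗ[X.sectRing U] A.carrier q.1 := fun q =>
    { toFun := A.toMod.evalMod U q, map_add' := (A.toMod.evalMod U q).map_add,
      map_smul' := (A.toMod.evalMod U q).map_smulₛₗ }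
  have hem : ∀ q : U, IsBaseChange (X.ring q.1) (em q) :=
    fun q => isBCAlong_evalMod X U hUa A.toMod hA q
  have hev : ∀ q : U, IsBaseChange (X.ring q.1) ((em q).comp E.toLinearMap) :=
    fun q => IsBaseChange.comp_equiv E (em q) (hem q)
  have key := finite_iff_of_family (fun q : U => X.ring q.1) hφ (fun q : U => A.carrier q.1)
    (fun q => (em q).comp E.toLinearMap) hev
  show _ ↔ Module.Finite (X.sectRing U) (A.total.sectRing U)
  rw [← key]
  exact ⟨fun h q => h q.1 q.2, fun h q hq => h ⟨q, hq⟩⟩

theorem main15618 (hA : A.IsQcoh) (hUa : (X.restrict U).IsAffine)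
    (hφ : Module.FaithfullyFlat (X.sectRing U) ((q : ↥U) → X.ring q.1)) :
    (∀ q : X.pt, q ∈ U → Module.Flat (X.ring q) (A.carrier q)) ↔ (A.sectMap U).Flat := by
  letI : ∀ q : U, Algebra (X.sectRing U) (X.ring q.1) := fun q => (X.evalRing U q).toAlgebra
  letI : ∀ q : U, Module (X.sectRing U) (A.carrier q.1) :=
    fun q => Module.compHom (A.carrier q.1) (X.evalRing U q)
  haveI : ∀ q : U, IsScalarTower (X.sectRing U) (X.ring q.1) (A.carrier q.1) :=
    fun q => IsScalarTower.of_algebraMap_smul fun _ _ => rfl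
  letI : Algebra (X.sectRing U) (A.total.sectRing U) := (A.sectMap U).toAlgebra
  let E : A.total.sectRing U ≃ₗ[X.sectRing U] A.toMod.sect U :=
    (secAE X A U).toLinearEquiv (fun a s => secAE_smul X A U a s)
  let em : ∀ q : U, A.toMod.sect U →ₗ[X.sectRing U] A.carrier q.1 := fun q =>
    { toFun := A.toMod.evalMod U q, map_add' := (A.toMod.evalMod U q).map_add,
      map_smul' := (A.toMod.evalMod U q).map_smulₛₗ }
  have hem : ∀ q : U, IsBaseChange (X.ring q.1) (em q) :=
    fun q => isBCAlong_evalMod X U hUa A.toMod hA q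
  have hev : ∀ q : U, IsBaseChange (X.ring q.1) ((em q).comp E.toLinearMap) :=
    fun q => IsBaseChange.comp_equiv E (em q) (hem q)
  have key := flat_iff_of_family (fun q : U => X.ring q.1) hφ (fun q : U => A.carrier q.1)
    (fun q => (em q).comp E.toLinearMap) hev
  show _ ↔ Module.Flat (X.sectRing U) (A.total.sectRing U)
  rw [← key]
  exact ⟨fun h q => h q.1 q.2, fun h q hq => h ⟨q, hq⟩⟩

/-- the algebra-level data: evaluation of sections of the algebra as an algebra map which is a
base change -/
theorem exists_evAlg (hA : A.IsQcoh) (hUa : (X.restrict U).IsAffine) :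
    letI : ∀ q : U, Algebra (X.sectRing U) (X.ring q.1) := fun q => (X.evalRing U q).toAlgebra
    letI : ∀ q : U, Algebra (X.sectRing U) (A.carrier q.1) :=
      fun q => Algebra.compHom (A.carrier q.1) (X.evalRing U q)
    letI : Algebra (X.sectRing U) (A.total.sectRing U) := (A.sectMap U).toAlgebra
    haveI : ∀ q : U, IsScalarTower (X.sectRing U) (X.ring q.1) (A.carrier q.1) :=
      fun q => IsScalarTower.of_algebraMap_smul fun _ _ => rfl
    ∃ ev : ∀ q : U, A.total.sectRing U →ₐ[X.sectRing U] A.carrier q.1,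
      ∀ q : U, IsBaseChange (X.ring q.1) (ev q).toLinearMap := by
  letI : ∀ q : U, Algebra (X.sectRing U) (X.ring q.1) := fun q => (X.evalRing U q).toAlgebra
  letI : ∀ q : U, Algebra (X.sectRing U) (A.carrier q.1) :=
    fun q => Algebra.compHom (A.carrier q.1) (X.evalRing U q)
  haveI : ∀ q : U, IsScalarTower (X.sectRing U) (X.ring q.1) (A.carrier q.1) :=
    fun q => IsScalarTower.of_algebraMap_smul fun _ _ => rfl
  letI : Algebra (X.sectRing U) (A.total.sectRing U) := (A.sectMap U).toAlgebra
  let E : A.total.sectRing U ≃ₗ[X.sectRing U] A.toMod.sect U :=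
    (secAE X A U).toLinearEquiv (fun a s => secAE_smul X A U a s)
  let em : ∀ q : U, A.toMod.sect U →ₗ[X.sectRing U] A.carrier q.1 := fun q =>
    { toFun := A.toMod.evalMod U q, map_add' := (A.toMod.evalMod U q).map_add,
      map_smul' := (A.toMod.evalMod U q).map_smulₛₗ }
  have hem : ∀ q : U, IsBaseChange (X.ring q.1) (em q) :=
    fun q => isBCAlong_evalMod X U hUa A.toMod hA q
  have hev : ∀ q : U, IsBaseChange (X.ring q.1) ((em q).comp E.toLinearMap) :=
    fun q => IsBaseChange.comp_equiv E (em q) (hem q)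
  refine ⟨fun q =>
    { toFun := fun s => s.1 q
      map_one' := rfl
      map_mul' := fun _ _ => rfl
      map_zero' := rfl
      map_add' := fun _ _ => rfl
      commutes' := fun a => rfl }, fun q => ?_⟩
  exact hev q

theorem main15619 (hA : A.IsQcoh) (hUa : (X.restrict U).IsAffine)
    (hφ : Module.FaithfullyFlat (X.sectRing U) ((q : ↥U) → X.ring q.1)) :
    (∀ q : X.pt, q ∈ U → Module.FaithfullyFlat (X.ring q) (A.carrier q)) ↔
      (A.sectMap U).FaithfullyFlat := by
  letI : ∀ q : U, Algebra (X.sectRing U) (X.ring q.1) := fun q => (X.evalRing U q).toAlgebra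
  letI : ∀ q : U, Algebra (X.sectRing U) (A.carrier q.1) :=
    fun q => Algebra.compHom (A.carrier q.1) (X.evalRing U q)
  haveI : ∀ q : U, IsScalarTower (X.sectRing U) (X.ring q.1) (A.carrier q.1) :=
    fun q => IsScalarTower.of_algebraMap_smul fun _ _ => rfl
  letI : Algebra (X.sectRing U) (A.total.sectRing U) := (A.sectMap U).toAlgebra
  obtain ⟨ev, hev⟩ := exists_evAlg X A U hA hUa
  have key := faithfullyFlat_iff_of_family (fun q : U => X.ring q.1) hφ
    (fun q : U => A.carrier q.1) ev hev
  show _ ↔ Module.FaithfullyFlat (X.sectRing U) (A.total.sectRing U)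
  rw [← key]
  exact ⟨fun h q => h q.1 q.2, fun h q hq => h ⟨q, hq⟩⟩

theorem main19549 (hA : A.IsQcoh) (hUa : (X.restrict U).IsAffine)
    (hφ : Module.FaithfullyFlat (X.sectRing U) ((q : ↥U) → X.ring q.1)) :
    (∀ q : X.pt, q ∈ U → Algebra.Etale (X.ring q) (A.carrier q)) ↔ (A.sectMap U).Etale := by
  letI : ∀ q : U, Algebra (X.sectRing U) (X.ring q.1) := fun q => (X.evalRing U q).toAlgebra
  letI : ∀ q : U, Algebra (X.sectRing U) (A.carrier q.1) :=
    fun q => Algebra.compHom (A.carrier q.1) (X.evalRing U q)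
  haveI : ∀ q : U, IsScalarTower (X.sectRing U) (X.ring q.1) (A.carrier q.1) :=
    fun q => IsScalarTower.of_algebraMap_smul fun _ _ => rfl
  letI : Algebra (X.sectRing U) (A.total.sectRing U) := (A.sectMap U).toAlgebra
  obtain ⟨ev, hev⟩ := exists_evAlg X A U hA hUa
  have key := etale_iff_of_family (fun q : U => X.ring q.1) hφ
    (fun q : U => A.carrier q.1) ev hev
  show _ ↔ Algebra.Etale (X.sectRing U) (A.total.sectRing U)
  rw [← key]
  exact ⟨fun h q => h q.1 q.2, fun h q hq => h ⟨q, hq⟩⟩

end Apply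

end Groth.Agent.Lib.SchFinAffH6
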