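import Mathlib
import Groth.Prelude.Def_SchFin
import Groth.Prelude.Def_SchFin2
set_option autoImplicit false
universe u

/-!
# Étale covers of finite ringed posets: quotients by idempotents, direct factors (helper6)
-/

open TensorProduct CategoryTheory CategoryTheory.Limits SchFin

namespace Groth.Agent.Lib.SchFinFEtH6

section BC

variable {R S : Type u} [CommRing R] [CommRing S] [Algebra R S]
variable {M N D M' N' D' : Type u}

/-- right exactness: the kernel of a base-changed surjection is generated by the kernel -/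
theorem ker_le_span_of_isBaseChange
    [AddCommGroup M] [Module R M] [AddCommGroup N] [Module R N]
    [AddCommGroup M'] [Module R M'] [Module S M'] [IsScalarTower R S M']
    [AddCommGroup N'] [Module R N'] [Module S N'] [IsScalarTower R S N']
    (ρM : M →ₗ[R] M') (ρN : N →ₗ[R] N') (hM : IsBaseChange S ρM) (hN : IsBaseChange S ρN)
    (φ : M →ₗ[R] N) (φ' : M' →ₗ[S] N') (hcomm : ∀ m, φ' (ρM m) = ρN (φ m))
    (hφ : Function.Surjective φ) (x : M') (hx : φ' x = 0) :
    x ∈ Submodule.span S (ρM '' {m | φ m = 0}) := by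
  have hnat : ∀ t : S ⊗[R] M, hN.equiv (φ.lTensor S t) = φ' (hM.equiv t) := by
    intro t
    induction t using TensorProduct.induction_on with
    | zero => simp
    | tmul s m =>
      rw [LinearMap.lTensor_tmul, hN.equiv_tmul, hM.equiv_tmul, map_smul, hcomm]
    | add a b ha hb => simp only [map_add, ha, hb]
  obtain ⟨t, rfl⟩ := hM.equiv.surjective x
  have ht : φ.lTensor S t = 0 := hN.equiv.injective (by rw [hnat, hx, map_zero])
  have hex : Function.Exact ((LinearMap.ker φ).subtype.lTensor S) (φ.lTensor S) :=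
    lTensor_exact S (LinearMap.exact_subtype_ker_map φ) hφ
  obtain ⟨t₀, rfl⟩ := (hex t).mp ht
  clear ht hx
  induction t₀ using TensorProduct.induction_on with
  | zero => simp
  | tmul s k =>
    rw [LinearMap.lTensor_tmul, hM.equiv_tmul]
    exact Submodule.smul_mem _ _ (Submodule.subset_span ⟨k.1, LinearMap.mem_ker.mp k.2, rfl⟩)
  | add a b ha hb =>
    rw [map_add, map_add]
    exact Submodule.add_mem _ ha hb

/-- a quotient cut out by a compatible "idempotent-like" endomorphism is again a base change -/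
theorem isBaseChange_quot
    [AddCommGroup M] [Module R M] [AddCommGroup D] [Module R D]
    [AddCommGroup M'] [Module R M'] [Module S M'] [IsScalarTower R S M']
    [AddCommGroup D'] [Module R D'] [Module S D'] [IsScalarTower R S D']
    (ρ : M →ₗ[R] M') (hρ : IsBaseChange S ρ) (σ : D →ₗ[R] D')
    (π : M →ₗ[R] D) (π' : M' →ₗ[S] D') (hπ : Function.Surjective π)
    (hπ' : Function.Surjective π') (hσ : ∀ m, σ (π m) = π' (ρ m))
    (c : M →ₗ[R] M) (c' : M' →ₗ[S] M') (hc : ∀ m, ρ (c m) = c' (ρ m))
    (hπc : ∀ m, π (c m) = 0) (hker : ∀ x, π' x = 0 → ∃ y, c' y = x) : IsBaseChange S σ := by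
  let L : S ⊗[R] D →ₗ[S] D' := σ.liftBaseChange S
  have hnat : ∀ t : S ⊗[R] M, L (π.lTensor S t) = π' (hρ.equiv t) := by
    intro t
    induction t using TensorProduct.induction_on with
    | zero => simp
    | tmul s m =>
      rw [LinearMap.lTensor_tmul, LinearMap.liftBaseChange_tmul, hρ.equiv_tmul, map_smul, hσ]
    | add a b ha hb => simp only [map_add, ha, hb]
  have hnatc : ∀ t : S ⊗[R] M, hρ.equiv (c.lTensor S t) = c' (hρ.equiv t) := by
    intro t
    induction t using TensorProduct.induction_on with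
    | zero => simp
    | tmul s m =>
      rw [LinearMap.lTensor_tmul, hρ.equiv_tmul, hρ.equiv_tmul, map_smul, hc]
    | add a b ha hb => simp only [map_add, ha, hb]
  have hsurjT : Function.Surjective (π.lTensor S) := LinearMap.lTensor_surjective S hπ
  have hinj : Function.Injective L := by
    rw [injective_iff_map_eq_zero]
    intro t ht
    obtain ⟨t', rfl⟩ := hsurjT t
    rw [hnat] at ht
    obtain ⟨y, hy⟩ := hker _ ht
    obtain ⟨t₀, rfl⟩ := hρ.equiv.surjective y
    rw [← hnatc] at hy
    have h1 : t' = c.lTensor S t₀ := (hρ.equiv.injective hy).symm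
    rw [h1, ← LinearMap.comp_apply, ← LinearMap.lTensor_comp]
    have h0 : π ∘ₗ c = 0 := LinearMap.ext hπc
    rw [h0, LinearMap.lTensor_zero, LinearMap.zero_apply]
  have hsurj : Function.Surjective L := by
    intro d'
    obtain ⟨m', rfl⟩ := hπ' d'
    obtain ⟨t, rfl⟩ := hρ.equiv.surjective m'
    exact ⟨π.lTensor S t, hnat t⟩
  exact IsBaseChange.of_equiv (LinearEquiv.ofBijective L ⟨hinj, hsurj⟩) (fun x => by
    show L (1 ⊗ₜ x) = σ x
    rw [LinearMap.liftBaseChange_tmul, one_smul])

end BC

section Idem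

theorem exists_idem {R A B : Type u} [CommRing R] [IsNoetherianRing R] [CommRing A] [CommRing B]
    [Algebra R A] [Algebra R B] [Module.Finite R A] [Algebra.Etale R A] [Algebra.Etale R B]
    (φ : A →ₐ[R] B) (hφ : Function.Surjective φ) :
    ∃ e : A, IsIdempotentElem e ∧ RingHom.ker φ = Ideal.span {e} := by
  letI : Algebra A B := φ.toRingHom.toAlgebra
  haveI : IsScalarTower R A B := IsScalarTower.of_algebraMap_eq (fun r => (φ.commutes r).symm)
  haveI : Algebra.Etale A B := Algebra.Etale.of_restrictScalars R A B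
  have h1 : IsIdempotentElem (RingHom.ker (algebraMap A B)) :=
    (Algebra.FormallyEtale.iff_of_surjective hφ).mp inferInstance
  haveI : IsNoetherianRing A := Algebra.FiniteType.isNoetherianRing R A
  exact (Ideal.isIdempotentElem_iff_of_fg _ (IsNoetherian.noetherian _)).mp h1

theorem prod_bij {R A B : Type u} [CommRing R] [CommRing A] [CommRing B] [Algebra R A]
    [Algebra R B] (φ : A →ₐ[R] B) (hφ : Function.Surjective φ) (e : A) (he : IsIdempotentElem e)
    (hker : RingHom.ker φ = Ideal.span {e}) :
    Function.Bijective (φ.prod (Ideal.Quotient.mkₐ R (Ideal.span {1 - e}))) := by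
  have hφe : φ e = 0 := by
    have : e ∈ RingHom.ker φ := hker ▸ Ideal.subset_span rfl
    exact this
  constructor
  · rw [injective_iff_map_eq_zero]
    intro a ha
    have h1 : φ a = 0 := congrArg Prod.fst ha
    have h2 : Ideal.Quotient.mk (Ideal.span {1 - e}) a = 0 := congrArg Prod.snd ha
    have h3 : a ∈ Ideal.span {e} := hker ▸ (RingHom.mem_ker.mpr h1)
    rw [Ideal.Quotient.eq_zero_iff_mem] at h2
    obtain ⟨b, rfl⟩ := Ideal.mem_span_singleton'.mp h3
    obtain ⟨c, hc⟩ := Ideal.mem_span_singleton'.mp h2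
    calc b * e = (b * e) * e := by rw [mul_assoc, he.eq]
      _ = (c * (1 - e)) * e := by rw [hc]
      _ = 0 := by rw [mul_assoc, sub_mul, one_mul, he.eq, sub_self, mul_zero]
  · rintro ⟨b, d⟩
    obtain ⟨a₁, rfl⟩ := hφ b
    obtain ⟨a₂, rfl⟩ := Ideal.Quotient.mk_surjective d
    refine ⟨a₁ * (1 - e) + a₂ * e, Prod.ext ?_ ?_⟩
    · show φ (a₁ * (1 - e) + a₂ * e) = φ a₁
      simp [hφe]
    · show Ideal.Quotient.mk _ (a₁ * (1 - e) + a₂ * e) = Ideal.Quotient.mk _ a₂
      rw [Ideal.Quotient.eq]
      have : a₁ * (1 - e) + a₂ * e - a₂ = (a₁ - a₂) * (1 - e) := by ring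
      rw [this]
      exact Ideal.mul_mem_left _ _ (Ideal.subset_span rfl)

theorem etale_quot_idem {R A : Type u} [CommRing R] [CommRing A] [Algebra R A]
    [Algebra.Etale R A] (e : A) (he : IsIdempotentElem e) :
    Algebra.Etale R (A ⧸ Ideal.span {1 - e}) := by
  haveI : Algebra.Etale A (A ⧸ Ideal.span {1 - e}) :=
    { formallyEtale :=
        (Algebra.FormallyEtale.iff_of_surjective Ideal.Quotient.mk_surjective).mpr (by
          rw [show RingHom.ker (algebraMap A (A ⧸ Ideal.span {1 - e})) = Ideal.span {1 - e} from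
            Ideal.mk_ker]
          unfold IsIdempotentElem
          rw [Ideal.span_singleton_mul_span_singleton, he.one_sub.eq])
      finitePresentation := Algebra.FinitePresentation.quotient ⟨{1 - e}, by simp⟩ }
  exact Algebra.Etale.comp R A _

end Idem

section AlgQuot

variable {X : RSpace.{u}}

/-- quotient of an algebra by a compatible family of ideals -/
def quotAlg (A : Alg X) (J : ∀ p, Ideal (A.carrier p))
    (hJ : ∀ {p q : X.pt} (h : p ≤ q), J p ≤ (J q).comap (A.res h)) : Alg X where
  carrier p := A.carrier p ⧸ J p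
  res {p q} h := Ideal.quotientMap (J q) (A.res h) (hJ h)
  res_algebraMap {p q} h a := by
    show Ideal.quotientMap (J q) (A.res h) (hJ h)
      (Ideal.Quotient.mk (J p) (algebraMap _ _ a)) =
      Ideal.Quotient.mk (J q) (algebraMap _ _ (X.res h a))
    rw [Ideal.quotientMap_mk, A.res_algebraMap]
  res_self p b := by
    obtain ⟨a, rfl⟩ := Ideal.Quotient.mk_surjective b
    rw [Ideal.quotientMap_mk, A.res_self]
  res_comp h h' b := by
    obtain ⟨a, rfl⟩ := Ideal.Quotient.mk_surjective b
    rw [Ideal.quotientMap_mk, Ideal.quotientMap_mk, Ideal.quotientMap_mk, A.res_comp]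

/-- the projection to the quotient -/
def quotMk (A : Alg X) (J : ∀ p, Ideal (A.carrier p))
    (hJ : ∀ {p q : X.pt} (h : p ≤ q), J p ≤ (J q).comap (A.res h)) : A ⟶ quotAlg A J hJ :=
  ⟨fun p => Ideal.Quotient.mkₐ (X.ring p) (J p), fun {p q} h b => by
    show Ideal.quotientMap (J q) (A.res h) (hJ h) (Ideal.Quotient.mk (J p) b) =
      Ideal.Quotient.mk (J q) (A.res h b)
    exact Ideal.quotientMap_mk⟩

/-- kernels of pointwise surjective maps of quasi-coherent algebras are generated by restriction -/
theorem ker_le_span {A B : Alg X} (hA : A.IsQcoh) (hB : B.IsQcoh) (f : A ⟶ B)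
    (hf : ∀ p, Function.Surjective (f.app p)) {p q : X.pt} (h : p ≤ q) (x : A.carrier q)
    (hx : f.app q x = 0) :
    x ∈ Submodule.span (X.ring q) (A.res h '' {a | f.app p a = 0}) := by
  letI : Algebra (X.ring p) (X.ring q) := (X.res h).toAlgebra
  letI : Module (X.ring p) (A.carrier q) := Module.compHom (A.carrier q) (X.res h)
  haveI : IsScalarTower (X.ring p) (X.ring q) (A.carrier q) :=
    IsScalarTower.of_algebraMap_smul fun _ _ => rfl
  letI : Module (X.ring p) (B.carrier q) := Module.compHom (B.carrier q) (X.res h)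
  haveI : IsScalarTower (X.ring p) (X.ring q) (B.carrier q) :=
    IsScalarTower.of_algebraMap_smul fun _ _ => rfl
  have h1 : IsBaseChange (X.ring q) ({ toFun := A.toMod.res h, map_add' := (A.toMod.res h).map_add, map_smul' := (A.toMod.res h).map_smulₛₗ } : A.carrier p →ₗ[X.ring p] A.carrier q) :=
    hA p q h
  have h2 : IsBaseChange (X.ring q) ({ toFun := B.toMod.res h, map_add' := (B.toMod.res h).map_add, map_smul' := (B.toMod.res h).map_smulₛₗ } : B.carrier p →ₗ[X.ring p] B.carrier q) :=
    hB p q h
  exact ker_le_span_of_isBaseChange _ _ h1 h2 (f.app p).toLinearMap (f.app q).toLinearMap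
    (fun m => (f.compat h m).symm) (hf p) x hx

/-- quasi-coherence of the quotient by a compatible family of idempotents -/
theorem isQcoh_quotAlg_idem (A : Alg X) (hA : A.IsQcoh) (e : ∀ p, A.carrier p)
    (hres : ∀ {p q : X.pt} (h : p ≤ q), A.res h (e p) = e q)
    (hJ : ∀ {p q : X.pt} (h : p ≤ q),
      Ideal.span {1 - e p} ≤ (Ideal.span {1 - e q}).comap (A.res h)) :
    (quotAlg A (fun p => Ideal.span {1 - e p}) hJ).IsQcoh := by
  intro p q h
  letI : Algebra (X.ring p) (X.ring q) := (X.res h).toAlgebra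
  letI : Module (X.ring p) (A.carrier q) := Module.compHom (A.carrier q) (X.res h)
  haveI : IsScalarTower (X.ring p) (X.ring q) (A.carrier q) :=
    IsScalarTower.of_algebraMap_smul fun _ _ => rfl
  letI : Module (X.ring p) (A.carrier q ⧸ Ideal.span {1 - e q}) :=
    Module.compHom (A.carrier q ⧸ Ideal.span {1 - e q}) (X.res h)
  haveI : IsScalarTower (X.ring p) (X.ring q) (A.carrier q ⧸ Ideal.span {1 - e q}) :=
    IsScalarTower.of_algebraMap_smul fun _ _ => rfl
  have h1 : IsBaseChange (X.ring q) ({ toFun := A.toMod.res h, map_add' := (A.toMod.res h).map_add, map_smul' := (A.toMod.res h).map_smulₛₗ } : A.carrier p →ₗ[X.ring p] A.carrier q) :=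
    hA p q h
  show IsBaseChange (X.ring q) ({ toFun := (quotAlg A (fun p => Ideal.span {1 - e p}) hJ).toMod.res h, map_add' := ((quotAlg A (fun p => Ideal.span {1 - e p}) hJ).toMod.res h).map_add, map_smul' := ((quotAlg A (fun p => Ideal.span {1 - e p}) hJ).toMod.res h).map_smulₛₗ } : (A.carrier p ⧸ Ideal.span {1 - e p}) →ₗ[X.ring p] (A.carrier q ⧸ Ideal.span {1 - e q}))
  refine isBaseChange_quot _ h1 _
    (Ideal.Quotient.mkₐ (X.ring p) (Ideal.span {1 - e p})).toLinearMap
    (Ideal.Quotient.mkₐ (X.ring q) (Ideal.span {1 - e q})).toLinearMap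
    Ideal.Quotient.mk_surjective Ideal.Quotient.mk_surjective
    (fun m => by
      show Ideal.quotientMap _ (A.res h) (hJ h) (Ideal.Quotient.mk _ m) =
        Ideal.Quotient.mk _ (A.res h m)
      exact Ideal.quotientMap_mk)
    (LinearMap.mulLeft (X.ring p) (1 - e p)) (LinearMap.mulLeft (X.ring q) (1 - e q))
    (fun m => ?_) (fun m => ?_) (fun x hx => ?_)
  · show A.res h ((1 - e p) * m) = (1 - e q) * A.res h m
    rw [map_mul, map_sub, map_one, hres h]
  · show Ideal.Quotient.mk _ ((1 - e p) * m) = 0
    rw [Ideal.Quotient.eq_zero_iff_mem]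
    exact Ideal.mul_mem_right _ _ (Ideal.subset_span rfl)
  · have hx' : x ∈ Ideal.span {1 - e q} := Ideal.Quotient.eq_zero_iff_mem.mp hx
    obtain ⟨a, ha⟩ := Ideal.mem_span_singleton'.mp hx'
    exact ⟨a, by show (1 - e q) * a = x; rw [mul_comm]; exact ha⟩

end AlgQuot

section Main

variable {X : RSpace.{u}}

theorem main15628 (hX : X.IsSchematic)
    {A B : FEt X} (f : A ⟶ B) (hf : ∀ p : X.pt, Function.Surjective (f.hom.app p)) :
    ∃ (D : FEt X) (π : A ⟶ D), Nonempty (IsLimit (BinaryFan.mk f π)) := by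
  have hfin : X.IsFinSp := hX.1
  have hidem : ∀ p, ∃ e : A.obj.carrier p, IsIdempotentElem e ∧
      RingHom.ker (f.hom.app p) = Ideal.span {e} := by
    intro p
    haveI := hfin.1 p
    haveI := (A.property.2 p).1
    haveI := (A.property.2 p).2
    haveI := (B.property.2 p).2
    exact exists_idem (f.hom.app p) (hf p)
  choose e he hker using hidem
  have hfe : ∀ p, f.hom.app p (e p) = 0 := by
    intro p
    have : e p ∈ RingHom.ker (f.hom.app p) := hker p ▸ Ideal.subset_span rfl
    exact this
  have hmul : ∀ p (y : A.obj.carrier p), f.hom.app p y = 0 → y * e p = y := by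
    intro p y hy
    have : y ∈ Ideal.span {e p} := hker p ▸ (RingHom.mem_ker.mpr hy)
    obtain ⟨b, rfl⟩ := Ideal.mem_span_singleton'.mp this
    rw [mul_assoc, (he p).eq]
  have hres : ∀ {p q : X.pt} (h : p ≤ q), A.obj.res h (e p) = e q := by
    intro p q h
    have h1 : f.hom.app q (A.obj.res h (e p)) = 0 := by
      rw [← f.hom.compat h, hfe p, map_zero]
    have h2 : A.obj.res h (e p) * e q = A.obj.res h (e p) := hmul q _ h1
    have h3 : e q * A.obj.res h (e p) = e q := by
      have hmem := ker_le_span A.property.1 B.property.1 f.hom hf h (e q) (hfe q)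
      refine Submodule.span_induction (p := fun x _ => x * A.obj.res h (e p) = x)
        ?_ ?_ ?_ ?_ hmem
      · rintro x ⟨y, hy, rfl⟩
        rw [← map_mul, hmul p y hy]
      · rw [zero_mul]
      · intro x y _ _ hx hy
        rw [add_mul, hx, hy]
      · intro s x _ hx
        rw [smul_mul_assoc, hx]
    rw [← h2, mul_comm, h3]
  have hJ : ∀ {p q : X.pt} (h : p ≤ q),
      Ideal.span {1 - e p} ≤ (Ideal.span {1 - e q}).comap (A.obj.res h) := by
    intro p q h
    rw [Ideal.span_le]
    intro x hx
    rw [Set.mem_singleton_iff] at hx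
    subst hx
    show A.obj.res h (1 - e p) ∈ Ideal.span {1 - e q}
    rw [map_sub, map_one, hres h]
    exact Ideal.subset_span rfl
  have hD : (quotAlg A.obj (fun p => Ideal.span {1 - e p}) hJ).IsEtCover := by
    refine ⟨isQcoh_quotAlg_idem A.obj A.property.1 e hres hJ, fun p => ⟨?_, ?_⟩⟩
    · haveI := (A.property.2 p).1
      exact Module.Finite.of_surjective
        (Ideal.Quotient.mkₐ (X.ring p) (Ideal.span {1 - e p})).toLinearMap
        Ideal.Quotient.mk_surjective
    · haveI := (A.property.2 p).2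
      exact etale_quot_idem (e p) (he p)
  let D : FEt X := ⟨quotAlg A.obj (fun p => Ideal.span {1 - e p}) hJ, hD⟩
  let π : A ⟶ D := ObjectProperty.homMk (quotMk A.obj (fun p => Ideal.span {1 - e p}) hJ)
  have hbij : ∀ p, Function.Bijective ((f.hom.app p).prod (π.hom.app p)) :=
    fun p => prod_bij (f.hom.app p) (hf p) (e p) (he p) (hker p)
  refine ⟨D, π, ⟨BinaryFan.IsLimit.mk _
    (fun {T} u v => ObjectProperty.homMk
      ⟨fun p => (AlgEquiv.ofBijective _ (hbij p)).symm.toAlgHom.comp
          ((u.hom.app p).prod (v.hom.app p)), ?_⟩) ?_ ?_ ?_⟩⟩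
  · intro p q h t
    apply (hbij q).1
    have key : ∀ (r : X.pt) (z : B.obj.carrier r × D.obj.carrier r),
        ((f.hom.app r).prod (π.hom.app r)) ((AlgEquiv.ofBijective _ (hbij r)).symm z) = z :=
      fun r z => (AlgEquiv.ofBijective _ (hbij r)).apply_symm_apply z
    show ((f.hom.app q).prod (π.hom.app q)) (A.obj.res h
        ((AlgEquiv.ofBijective _ (hbij p)).symm (u.hom.app p t, v.hom.app p t))) =
      ((f.hom.app q).prod (π.hom.app q))
        ((AlgEquiv.ofBijective _ (hbij q)).symm (u.hom.app q (T.obj.res h t),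
          v.hom.app q (T.obj.res h t)))
    rw [key q]
    have h1 := key p (u.hom.app p t, v.hom.app p t)
    refine Prod.ext ?_ ?_
    · show f.hom.app q (A.obj.res h _) = _
      rw [← f.hom.compat h]
      have : f.hom.app p ((AlgEquiv.ofBijective _ (hbij p)).symm
          (u.hom.app p t, v.hom.app p t)) = u.hom.app p t := congrArg Prod.fst h1
      rw [this, u.hom.compat h]
    · show π.hom.app q (A.obj.res h _) = _
      rw [← π.hom.compat h]
      have : π.hom.app p ((AlgEquiv.ofBijective _ (hbij p)).symm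
          (u.hom.app p t, v.hom.app p t)) = v.hom.app p t := congrArg Prod.snd h1
      rw [this, v.hom.compat h]
  · intro T u v
    apply ObjectProperty.hom_ext
    apply Alg.hom_ext
    intro p
    apply AlgHom.ext
    intro t
    have h1 := (AlgEquiv.ofBijective _ (hbij p)).apply_symm_apply (u.hom.app p t, v.hom.app p t)
    exact congrArg Prod.fst h1
  · intro T u v
    apply ObjectProperty.hom_ext
    apply Alg.hom_ext
    intro p
    apply AlgHom.ext
    intro t
    have h1 := (AlgEquiv.ofBijective _ (hbij p)).apply_symm_apply (u.hom.app p t, v.hom.app p t)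
    exact congrArg Prod.snd h1
  · intro T u v m hm1 hm2
    apply ObjectProperty.hom_ext
    apply Alg.hom_ext
    intro p
    apply AlgHom.ext
    intro t
    apply (hbij p).1
    have h1 := (AlgEquiv.ofBijective _ (hbij p)).apply_symm_apply (u.hom.app p t, v.hom.app p t)
    refine Eq.trans ?_ h1.symm
    refine Prod.ext ?_ ?_
    · exact congrArg (fun k => k.hom.app p t) hm1
    · exact congrArg (fun k => k.hom.app p t) hm2

end Main

end Groth.Agent.Lib.SchFinFEtH6
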