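import Mathlib
import Groth.Prelude.Def_SchFin
import Groth.Prelude.Def_SchFin2
import Groth.Agent.Lib.SchFinFEt1_helper6
set_option autoImplicit false
universe u

/-!
# Étale covers of finite ringed posets: kernels, images, products (helper6)
-/

open TensorProduct CategoryTheory CategoryTheory.Limits SchFin

namespace Groth.Agent.Lib.SchFinFEtH6

section Ann

/-- the annihilator of a finite projective module is generated by an idempotent -/
theorem exists_idem_annihilator {A P : Type u} [CommRing A] [AddCommGroup P] [Module A P]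
    [Module.Finite A P] [Module.Projective A P] :
    ∃ e : A, IsIdempotentElem e ∧ ∀ a : A, (∀ x : P, a • x = 0) ↔ a ∈ Ideal.span {e} := by
  classical
  obtain ⟨n, f, g, -, -, hfg⟩ := Module.Finite.exists_comp_eq_id_of_projective A P
  have hfg' : ∀ x, f (g x) = x := fun x => LinearMap.congr_fun hfg x
  let xs : Fin n → P := fun i => f (Pi.single i 1)
  have hx : ∀ x : P, x = ∑ i, (g x i) • xs i := by
    intro x
    have h1 : g x = ∑ i, (g x i) • (Pi.single i (1 : A) : Fin n → A) := by
      funext j
      simp [Finset.sum_apply, Pi.single_apply]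
    conv_lhs => rw [← hfg' x, h1]
    rw [map_sum]
    exact Finset.sum_congr rfl fun i _ => by rw [map_smul]
  let τ : Ideal A := Ideal.span (Set.range fun ij : Fin n × Fin n => g (xs ij.2) ij.1)
  have hτfg : τ.FG := Submodule.fg_span (Set.finite_range _)
  have hgτ : ∀ (x : P) (i : Fin n), g x i ∈ τ := by
    intro x i
    have h1 : g x i = ∑ j, g x j * g (xs j) i := by
      conv_lhs => rw [hx x]
      rw [map_sum, Finset.sum_apply]
      exact Finset.sum_congr rfl fun j _ => by rw [map_smul]; rfl
    rw [h1]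
    exact Ideal.sum_mem _ fun j _ => Ideal.mul_mem_left _ _ (Ideal.subset_span ⟨(i, j), rfl⟩)
  have hτidem : IsIdempotentElem τ := by
    refine le_antisymm Ideal.mul_le_right ?_
    rw [Ideal.span_le]
    rintro _ ⟨⟨i, j⟩, rfl⟩
    show g (xs j) i ∈ τ * τ
    have h1 : g (xs j) i = ∑ k, g (xs j) k * g (xs k) i := by
      conv_lhs => rw [hx (xs j)]
      rw [map_sum, Finset.sum_apply]
      exact Finset.sum_congr rfl fun k _ => by rw [map_smul]; rfl
    rw [h1]
    exact Ideal.sum_mem _ fun k _ =>
      Ideal.mul_mem_mul (hgτ _ _) (Ideal.subset_span ⟨(i, k), rfl⟩)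
  obtain ⟨ε, hε, hτε⟩ := (Ideal.isIdempotentElem_iff_of_fg τ hτfg).mp hτidem
  refine ⟨1 - ε, hε.one_sub, fun a => ⟨fun ha => ?_, fun ha x => ?_⟩⟩
  · have h1 : a * ε = 0 := by
      have hmem : ε ∈ τ := hτε ▸ Ideal.subset_span rfl
      have hkill : ∀ t ∈ τ, a * t = 0 := by
        intro t ht
        refine Submodule.span_induction (p := fun t _ => a * t = 0) ?_ ?_ ?_ ?_ ht
        · rintro _ ⟨⟨i, j⟩, rfl⟩
          show a * g (xs j) i = 0
          have : a * g (xs j) i = g (a • xs j) i := by rw [map_smul]; rfl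
          rw [this, ha, map_zero]; rfl
        · rw [mul_zero]
        · intro x y _ _ hx hy; rw [mul_add, hx, hy, add_zero]
        · intro s x _ hx; rw [smul_eq_mul, mul_left_comm, hx, mul_zero]
      exact hkill ε hmem
    rw [Ideal.mem_span_singleton']
    exact ⟨a, by rw [mul_sub, mul_one, h1, sub_zero]⟩
  · obtain ⟨b, rfl⟩ := Ideal.mem_span_singleton'.mp ha
    rw [hx x, Finset.smul_sum]
    refine Finset.sum_eq_zero fun i _ => ?_
    have h1 : g x i ∈ Ideal.span {ε} := by
      have h0 := hgτ x i
      rw [hτε] at h0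
      exact h0
    obtain ⟨c, hc⟩ := Ideal.mem_span_singleton'.mp h1
    rw [smul_smul, ← hc]
    have : b * (1 - ε) * (c * ε) = 0 := by
      have h2 : (1 - ε) * ε = 0 := by rw [sub_mul, one_mul, hε.eq, sub_self]
      calc b * (1 - ε) * (c * ε) = b * c * ((1 - ε) * ε) := by ring
        _ = 0 := by rw [h2, mul_zero]
    rw [this, zero_smul]

/-- kernels of maps between finite étale algebras over a Noetherian ring are generated by
idempotents -/
theorem exists_idem' {R A B : Type u} [CommRing R] [IsNoetherianRing R] [CommRing A] [CommRing B]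
    [Algebra R A] [Algebra R B] [Module.Finite R A] [Module.Finite R B] [Algebra.Etale R A]
    [Algebra.Etale R B] (φ : A →ₐ[R] B) :
    ∃ e : A, IsIdempotentElem e ∧ RingHom.ker φ = Ideal.span {e} := by
  letI : Algebra A B := φ.toRingHom.toAlgebra
  haveI : IsScalarTower R A B := IsScalarTower.of_algebraMap_eq (fun r => (φ.commutes r).symm)
  haveI : Algebra.Etale A B := Algebra.Etale.of_restrictScalars R A B
  haveI : IsNoetherianRing A := Algebra.FiniteType.isNoetherianRing R A
  haveI : Module.Finite A B := Module.Finite.of_restrictScalars_finite R A B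
  haveI : Module.FinitePresentation A B := Module.finitePresentation_of_finite A B
  haveI : Module.Projective A B := Module.Flat.projective_of_finitePresentation
  obtain ⟨e, he, hann⟩ := exists_idem_annihilator (A := A) (P := B)
  refine ⟨e, he, Ideal.ext fun a => ?_⟩
  rw [← hann a, RingHom.mem_ker]
  constructor
  · intro h x
    show φ a * x = 0
    rw [h, zero_mul]
  · intro h
    have := h 1
    rwa [Algebra.smul_def, mul_one] at this

end Ann

section Flat

variable {R S : Type u} [CommRing R] [CommRing S] [Algebra R S]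
variable {M N M' N' : Type u}

/-- flat base change: the kernel of a base-changed map is generated by the kernel -/
theorem ker_le_span_of_isBaseChange_flat [Module.Flat R S]
    [AddCommGroup M] [Module R M] [AddCommGroup N] [Module R N]
    [AddCommGroup M'] [Module R M'] [Module S M'] [IsScalarTower R S M']
    [AddCommGroup N'] [Module R N'] [Module S N'] [IsScalarTower R S N']
    (ρM : M →ₗ[R] M') (ρN : N →ₗ[R] N') (hM : IsBaseChange S ρM) (hN : IsBaseChange S ρN)
    (φ : M →ₗ[R] N) (φ' : M' →ₗ[S] N') (hcomm : ∀ m, φ' (ρM m) = ρN (φ m))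
    (x : M') (hx : φ' x = 0) :
    x ∈ Submodule.span S (ρM '' {m | φ m = 0}) := by
  have hnat : ∀ t : S ⊗[R] M, hN.equiv (φ.lTensor S t) = φ' (hM.equiv t) := by
    intro t
    induction t using TensorProduct.induction_on with
    | zero => simp
    | tmul s m =>
      rw [LinearMap.lTensor_tmul, hN.equiv_tmul, hM.equiv_tmul, map_smul, hcomm]
    | add a b ha hb => simp only [map_add, ha, hb]
  obtain ⟨t, rfl⟩ := hM.equiv.surjective x
  have ht : φ.lTensor S t = 0 := hN.equiv.injective (by rw [hnat, hx, map_zero])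
  have hex : Function.Exact ((LinearMap.ker φ).subtype.lTensor S) (φ.lTensor S) :=
    Module.Flat.lTensor_exact S (LinearMap.exact_subtype_ker_map φ)
  obtain ⟨t₀, rfl⟩ := (hex t).mp ht
  clear ht hx
  induction t₀ using TensorProduct.induction_on with
  | zero => simp
  | tmul s k =>
    rw [LinearMap.lTensor_tmul, hM.equiv_tmul]
    exact Submodule.smul_mem _ _ (Submodule.subset_span ⟨k.1, LinearMap.mem_ker.mp k.2, rfl⟩)
  | add a b ha hb =>
    rw [map_add, map_add]
    exact Submodule.add_mem _ ha hb

theorem isBaseChange_prod {M₁ M₂ M₁' M₂' : Type u}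
    [AddCommGroup M₁] [Module R M₁] [AddCommGroup M₂] [Module R M₂]
    [AddCommGroup M₁'] [Module R M₁'] [Module S M₁'] [IsScalarTower R S M₁']
    [AddCommGroup M₂'] [Module R M₂'] [Module S M₂'] [IsScalarTower R S M₂']
    (ρ₁ : M₁ →ₗ[R] M₁') (ρ₂ : M₂ →ₗ[R] M₂') (h₁ : IsBaseChange S ρ₁) (h₂ : IsBaseChange S ρ₂) :
    IsBaseChange S (ρ₁.prodMap ρ₂) := by
  refine IsBaseChange.of_equiv
    ((TensorProduct.prodRight R S S M₁ M₂).trans (h₁.equiv.prodCongr h₂.equiv)) (fun x => ?_)
  show (h₁.equiv (1 ⊗ₜ x.1), h₂.equiv (1 ⊗ₜ x.2)) = (ρ₁ x.1, ρ₂ x.2)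
  rw [h₁.equiv_tmul, h₂.equiv_tmul, one_smul, one_smul]

end Flat

section AlgKer

variable {X : RSpace.{u}}

theorem ker_le_span' (hX : X.IsFinSp) {A B : Alg X} (hA : A.IsQcoh) (hB : B.IsQcoh) (f : A ⟶ B)
    {p q : X.pt} (h : p ≤ q) (x : A.carrier q) (hx : f.app q x = 0) :
    x ∈ Submodule.span (X.ring q) (A.res h '' {a | f.app p a = 0}) := by
  letI : Algebra (X.ring p) (X.ring q) := (X.res h).toAlgebra
  haveI : Module.Flat (X.ring p) (X.ring q) := hX.2 p q h
  letI : Module (X.ring p) (A.carrier q) := Module.compHom (A.carrier q) (X.res h)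
  haveI : IsScalarTower (X.ring p) (X.ring q) (A.carrier q) :=
    IsScalarTower.of_algebraMap_smul fun _ _ => rfl
  letI : Module (X.ring p) (B.carrier q) := Module.compHom (B.carrier q) (X.res h)
  haveI : IsScalarTower (X.ring p) (X.ring q) (B.carrier q) :=
    IsScalarTower.of_algebraMap_smul fun _ _ => rfl
  have h1 : IsBaseChange (X.ring q) ({ toFun := A.toMod.res h, map_add' := (A.toMod.res h).map_add, map_smul' := (A.toMod.res h).map_smulₛₗ } : A.carrier p →ₗ[X.ring p] A.carrier q) :=
    hA p q h
  have h2 : IsBaseChange (X.ring q) ({ toFun := B.toMod.res h, map_add' := (B.toMod.res h).map_add, map_smul' := (B.toMod.res h).map_smulₛₗ } : B.carrier p →ₗ[X.ring p] B.carrier q) :=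
    hB p q h
  exact ker_le_span_of_isBaseChange_flat _ _ h1 h2 (f.app p).toLinearMap (f.app q).toLinearMap
    (fun m => (f.compat h m).symm) x hx

/-- a compatible family of idempotent generators of the kernels of a map of étale covers -/
theorem exists_idem_family (hX : X.IsFinSp) {A B : FEt X} (f : A ⟶ B) :
    ∃ e : ∀ p, A.obj.carrier p, (∀ p, IsIdempotentElem (e p)) ∧
      (∀ p, RingHom.ker (f.hom.app p) = Ideal.span {e p}) ∧
      ∀ {p q : X.pt} (h : p ≤ q), A.obj.res h (e p) = e q := by
  have hidem : ∀ p, ∃ e : A.obj.carrier p, IsIdempotentElem e ∧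
      RingHom.ker (f.hom.app p) = Ideal.span {e} := by
    intro p
    haveI := hX.1 p
    haveI := (A.property.2 p).1
    haveI := (A.property.2 p).2
    haveI := (B.property.2 p).1
    haveI := (B.property.2 p).2
    exact exists_idem' (f.hom.app p)
  choose e he hker using hidem
  refine ⟨e, he, hker, ?_⟩
  have hfe : ∀ p, f.hom.app p (e p) = 0 := by
    intro p
    have : e p ∈ RingHom.ker (f.hom.app p) := hker p ▸ Ideal.subset_span rfl
    exact this
  have hmul : ∀ p (y : A.obj.carrier p), f.hom.app p y = 0 → y * e p = y := by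
    intro p y hy
    have : y ∈ Ideal.span {e p} := hker p ▸ (RingHom.mem_ker.mpr hy)
    obtain ⟨b, rfl⟩ := Ideal.mem_span_singleton'.mp this
    rw [mul_assoc, (he p).eq]
  intro p q h
  have h1 : f.hom.app q (A.obj.res h (e p)) = 0 := by
    rw [← f.hom.compat h, hfe p, map_zero]
  have h2 : A.obj.res h (e p) * e q = A.obj.res h (e p) := hmul q _ h1
  have h3 : e q * A.obj.res h (e p) = e q := by
    have hmem := ker_le_span' hX A.property.1 B.property.1 f.hom h (e q) (hfe q)
    refine Submodule.span_induction (p := fun x _ => x * A.obj.res h (e p) = x)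
      ?_ ?_ ?_ ?_ hmem
    · rintro x ⟨y, hy, rfl⟩
      rw [← map_mul, hmul p y hy]
    · rw [zero_mul]
    · intro x y _ _ hx hy
      rw [add_mul, hx, hy]
    · intro s x _ hx
      rw [smul_mul_assoc, hx]
  rw [← h2, mul_comm, h3]

end AlgKer

section Image

variable {X : RSpace.{u}}

theorem main15625 (hX : X.IsSchematic) {A B : FEt X} (f : A ⟶ B) :
    ∃ (Q : FEt X) (g : A ⟶ Q) (h : Q ⟶ B), g ≫ h = f ∧
      (∀ p : X.pt, Function.Surjective (g.hom.app p)) ∧
      ∀ p : X.pt, Function.Injective (h.hom.app p) := by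
  have hfin : X.IsFinSp := hX.1
  obtain ⟨e, he, hker, hres⟩ := exists_idem_family hfin f
  let e' : ∀ p, A.obj.carrier p := fun p => 1 - e p
  have he' : ∀ p, IsIdempotentElem (e' p) := fun p => (he p).one_sub
  have hres' : ∀ {p q : X.pt} (h : p ≤ q), A.obj.res h (e' p) = e' q := by
    intro p q h
    show A.obj.res h (1 - e p) = 1 - e q
    rw [map_sub, map_one, hres h]
  have hJeq : ∀ p, Ideal.span {1 - e' p} = RingHom.ker (f.hom.app p) := by
    intro p
    rw [hker p]
    show Ideal.span {1 - (1 - e p)} = Ideal.span {e p}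
    rw [sub_sub_cancel]
  have hJ : ∀ {p q : X.pt} (h : p ≤ q),
      Ideal.span {1 - e' p} ≤ (Ideal.span {1 - e' q}).comap (A.obj.res h) := by
    intro p q h
    rw [Ideal.span_le]
    intro x hx
    rw [Set.mem_singleton_iff] at hx
    subst hx
    show A.obj.res h (1 - e' p) ∈ Ideal.span {1 - e' q}
    rw [map_sub, map_one, hres' h]
    exact Ideal.subset_span rfl
  have hQ : (quotAlg A.obj (fun p => Ideal.span {1 - e' p}) hJ).IsEtCover := by
    refine ⟨isQcoh_quotAlg_idem A.obj A.property.1 e' hres' hJ, fun p => ⟨?_, ?_⟩⟩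
    · haveI := (A.property.2 p).1
      exact Module.Finite.of_surjective
        (Ideal.Quotient.mkₐ (X.ring p) (Ideal.span {1 - e' p})).toLinearMap
        Ideal.Quotient.mk_surjective
    · haveI := (A.property.2 p).2
      exact etale_quot_idem (e' p) (he' p)
  let Q : FEt X := ⟨quotAlg A.obj (fun p => Ideal.span {1 - e' p}) hJ, hQ⟩
  let g : A ⟶ Q := ObjectProperty.homMk (quotMk A.obj (fun p => Ideal.span {1 - e' p}) hJ)
  have hzero : ∀ p (a : A.obj.carrier p), a ∈ Ideal.span {1 - e' p} → f.hom.app p a = 0 := by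
    intro p a ha
    rw [hJeq p] at ha
    exact ha
  let hh : Q ⟶ B := ObjectProperty.homMk
    ⟨fun p => Ideal.Quotient.liftₐ (Ideal.span {1 - e' p}) (f.hom.app p) (hzero p), by
      intro p q h b
      obtain ⟨a, rfl⟩ := Ideal.Quotient.mk_surjective b
      show B.obj.res h (f.hom.app p a) = f.hom.app q (A.obj.res h a)
      exact f.hom.compat h a⟩
  refine ⟨Q, g, hh, ?_, fun p => Ideal.Quotient.mk_surjective, fun p => ?_⟩
  · apply ObjectProperty.hom_ext
    apply Alg.hom_ext
    intro p
    apply AlgHom.ext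
    intro a
    rfl
  · rw [injective_iff_map_eq_zero]
    intro b hb
    obtain ⟨a, rfl⟩ := Ideal.Quotient.mk_surjective b
    have h1 : f.hom.app p a = 0 := hb
    have h2 : a ∈ Ideal.span {1 - e' p} := by rw [hJeq p]; exact h1
    exact Ideal.Quotient.eq_zero_iff_mem.mpr h2

end Image

end Groth.Agent.Lib.SchFinFEtH6
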