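import Mathlib
import Groth.Prelude.Def_SchFin
import Groth.Prelude.Def_SchFin2
import Groth.Agent.Lib.SchFinFEt2_helper6
set_option autoImplicit false
universe u

/-!
# Étale covers of finite ringed posets: products, terminal object, monomorphisms (helper6)
-/

open TensorProduct CategoryTheory CategoryTheory.Limits SchFin

namespace Groth.Agent.Lib.SchFinFEtH6

section ProdEtale

/-- the family `true ↦ A`, `false ↦ B` -/
def bfam (A B : Type u) : Bool → Type u := fun b => cond b A B

instance bfamCommRing (A B : Type u) [CommRing A] [CommRing B] : ∀ b, CommRing (bfam A B b) :=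
  fun b => by
    cases b
    · exact (inferInstance : CommRing B)
    · exact (inferInstance : CommRing A)

instance bfamAlgebra (R A B : Type u) [CommRing R] [CommRing A] [CommRing B] [Algebra R A]
    [Algebra R B] : ∀ b, Algebra R (bfam A B b) :=
  fun b => by
    cases b
    · exact (inferInstance : Algebra R B)
    · exact (inferInstance : Algebra R A)

/-- `A × B` as a product over `Bool` -/
def prodEquivBfam (R A B : Type u) [CommRing R] [CommRing A] [CommRing B] [Algebra R A]
    [Algebra R B] : (A × B) ≃ₐ[R] (∀ b, bfam A B b) where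
  toFun x b := match b with
    | true => x.1
    | false => x.2
  invFun f := (f true, f false)
  left_inv x := rfl
  right_inv f := by funext b; cases b <;> rfl
  map_mul' x y := by funext b; cases b <;> rfl
  map_add' x y := by funext b; cases b <;> rfl
  commutes' r := by funext b; cases b <;> rfl

theorem etale_prod (R A B : Type u) [CommRing R] [CommRing A] [CommRing B] [Algebra R A]
    [Algebra R B] [Algebra.Etale R A] [Algebra.Etale R B] : Algebra.Etale R (A × B) := by
  haveI : ∀ b, Algebra.Etale R (bfam A B b) := fun b => by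
    cases b
    · exact (inferInstance : Algebra.Etale R B)
    · exact (inferInstance : Algebra.Etale R A)
  exact Algebra.Etale.of_equiv (prodEquivBfam R A B).symm

end ProdEtale

section Prod

variable {X : RSpace.{u}}

/-- the product of two algebras -/
def prodAlg (A B : Alg X) : Alg X where
  carrier p := A.carrier p × B.carrier p
  res {p q} h := RingHom.prodMap (A.res h) (B.res h)
  res_algebraMap {p q} h a := by
    show (A.res h (algebraMap _ _ a), B.res h (algebraMap _ _ a)) = _
    rw [A.res_algebraMap, B.res_algebraMap]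
    rfl
  res_self p b := Prod.ext (A.res_self p b.1) (B.res_self p b.2)
  res_comp h h' b := Prod.ext (A.res_comp h h' b.1) (B.res_comp h h' b.2)

def prodFst (A B : Alg X) : prodAlg A B ⟶ A :=
  ⟨fun p => AlgHom.fst (X.ring p) (A.carrier p) (B.carrier p), fun _ _ => rfl⟩

def prodSnd (A B : Alg X) : prodAlg A B ⟶ B :=
  ⟨fun p => AlgHom.snd (X.ring p) (A.carrier p) (B.carrier p), fun _ _ => rfl⟩

def prodLift {A B T : Alg X} (u : T ⟶ A) (v : T ⟶ B) : T ⟶ prodAlg A B :=
  ⟨fun p => (u.app p).prod (v.app p), fun h b => Prod.ext (u.compat h b) (v.compat h b)⟩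

theorem isQcoh_prodAlg {A B : Alg X} (hA : A.IsQcoh) (hB : B.IsQcoh) : (prodAlg A B).IsQcoh := by
  intro p q h
  letI : Algebra (X.ring p) (X.ring q) := (X.res h).toAlgebra
  letI : Module (X.ring p) (A.carrier q) := Module.compHom (A.carrier q) (X.res h)
  haveI : IsScalarTower (X.ring p) (X.ring q) (A.carrier q) :=
    IsScalarTower.of_algebraMap_smul fun _ _ => rfl
  letI : Module (X.ring p) (B.carrier q) := Module.compHom (B.carrier q) (X.res h)
  haveI : IsScalarTower (X.ring p) (X.ring q) (B.carrier q) :=
    IsScalarTower.of_algebraMap_smul fun _ _ => rfl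
  letI : Module (X.ring p) (A.carrier q × B.carrier q) :=
    Module.compHom (A.carrier q × B.carrier q) (X.res h)
  haveI : IsScalarTower (X.ring p) (X.ring q) (A.carrier q × B.carrier q) :=
    IsScalarTower.of_algebraMap_smul fun _ _ => rfl
  have h1 : IsBaseChange (X.ring q) ({ toFun := A.toMod.res h, map_add' := (A.toMod.res h).map_add, map_smul' := (A.toMod.res h).map_smulₛₗ } : A.carrier p →ₗ[X.ring p] A.carrier q) :=
    hA p q h
  have h2 : IsBaseChange (X.ring q) ({ toFun := B.toMod.res h, map_add' := (B.toMod.res h).map_add, map_smul' := (B.toMod.res h).map_smulₛₗ } : B.carrier p →ₗ[X.ring p] B.carrier q) :=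
    hB p q h
  have h3 := isBaseChange_prod _ _ h1 h2
  show IsBaseChange (X.ring q) ({ toFun := (prodAlg A B).toMod.res h, map_add' := ((prodAlg A B).toMod.res h).map_add, map_smul' := ((prodAlg A B).toMod.res h).map_smulₛₗ } : (A.carrier p × B.carrier p) →ₗ[X.ring p] (A.carrier q × B.carrier q))
  exact h3

theorem isEtCover_prodAlg {A B : Alg X} (hA : A.IsEtCover) (hB : B.IsEtCover) :
    (prodAlg A B).IsEtCover := by
  refine ⟨isQcoh_prodAlg hA.1 hB.1, fun p => ⟨?_, ?_⟩⟩
  · haveI := (hA.2 p).1
    haveI := (hB.2 p).1
    exact (inferInstance : Module.Finite (X.ring p) (A.carrier p × B.carrier p))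
  · haveI := (hA.2 p).2
    haveI := (hB.2 p).2
    exact etale_prod (X.ring p) (A.carrier p) (B.carrier p)

theorem isQcoh_str (X : RSpace.{u}) : (Alg.str X).IsQcoh := by
  intro p q h
  letI : Algebra (X.ring p) (X.ring q) := (X.res h).toAlgebra
  exact IsBaseChange.linearMap (X.ring p) (X.ring q)

theorem isEtCover_str (X : RSpace.{u}) : (Alg.str X).IsEtCover :=
  ⟨isQcoh_str X, fun p => ⟨(inferInstance : Module.Finite (X.ring p) (X.ring p)),
    (inferInstance : Algebra.Etale (X.ring p) (X.ring p))⟩⟩

/-- the zero algebra -/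
def zeroAlg (X : RSpace.{u}) : Alg X where
  carrier _ := PUnit.{u + 1}
  res _ := RingHom.id _
  res_algebraMap _ _ := rfl
  res_self _ _ := rfl
  res_comp _ _ _ := rfl

theorem etale_punit (R : Type u) [CommRing R] : Algebra.Etale R PUnit.{u + 1} := by
  haveI : Algebra.Etale R (R ⧸ Ideal.span {(1 : R) - 0}) :=
    etale_quot_idem (R := R) (A := R) (0 : R) (IsIdempotentElem.zero)
  haveI : Subsingleton (R ⧸ Ideal.span {(1 : R) - 0}) := by
    rw [sub_zero, Ideal.span_singleton_one]
    exact Ideal.Quotient.subsingleton_iff.mpr rfl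
  let e : (R ⧸ Ideal.span {(1 : R) - 0}) ≃ₐ[R] PUnit.{u + 1} :=
    { toFun := fun _ => PUnit.unit
      invFun := fun _ => 0
      left_inv := fun _ => Subsingleton.elim _ _
      right_inv := fun _ => rfl
      map_mul' := fun _ _ => rfl
      map_add' := fun _ _ => rfl
      commutes' := fun _ => rfl }
  exact Algebra.Etale.of_equiv e

theorem isEtCover_zeroAlg (X : RSpace.{u}) : (zeroAlg X).IsEtCover := by
  refine ⟨fun p q h => ?_, fun p => ⟨?_, etale_punit _⟩⟩
  · letI : Algebra (X.ring p) (X.ring q) := (X.res h).toAlgebra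
    letI : Module (X.ring p) PUnit.{u + 1} := Module.compHom PUnit.{u + 1} (X.res h)
    haveI : IsScalarTower (X.ring p) (X.ring q) PUnit.{u + 1} :=
      IsScalarTower.of_algebraMap_smul fun _ _ => rfl
    show IsBaseChange (X.ring q) ({ toFun := (zeroAlg X).toMod.res h, map_add' := ((zeroAlg X).toMod.res h).map_add, map_smul' := ((zeroAlg X).toMod.res h).map_smulₛₗ } : PUnit.{u + 1} →ₗ[X.ring p] PUnit.{u + 1})
    refine IsBaseChange.of_equiv
      { toFun := fun _ => PUnit.unit
        invFun := fun _ => 0
        left_inv := fun _ => Subsingleton.elim _ _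
        right_inv := fun _ => rfl
        map_add' := fun _ _ => rfl
        map_smul' := fun _ _ => rfl } (fun _ => rfl)
  · exact Module.Finite.of_surjective (0 : X.ring p →ₗ[X.ring p] PUnit.{u + 1})
      (fun _ => ⟨0, rfl⟩)

def toZero (T : Alg X) : T ⟶ zeroAlg X :=
  ⟨fun p =>
    { toFun := fun _ => PUnit.unit
      map_one' := rfl
      map_mul' := fun _ _ => rfl
      map_zero' := rfl
      map_add' := fun _ _ => rfl
      commutes' := fun _ => rfl }, fun _ _ => rfl⟩

theorem main15622 (X : RSpace.{u}) : HasTerminal (FEt X) ∧ HasBinaryProducts (FEt X) := by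
  constructor
  · let Z : FEt X := ⟨zeroAlg X, isEtCover_zeroAlg X⟩
    have hZ : IsTerminal Z := IsTerminal.ofUniqueHom (fun T => ObjectProperty.homMk (toZero T.obj))
      (fun T m => by
        apply ObjectProperty.hom_ext
        apply Alg.hom_ext
        intro p
        apply AlgHom.ext
        intro t
        rfl)
    exact hZ.hasTerminal
  · haveI : ∀ A B : FEt X, HasLimit (pair A B) := fun A B => by
      let P : FEt X := ⟨prodAlg A.obj B.obj, isEtCover_prodAlg A.property B.property⟩
      let fst : P ⟶ A := ObjectProperty.homMk (prodFst A.obj B.obj)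
      let snd : P ⟶ B := ObjectProperty.homMk (prodSnd A.obj B.obj)
      refine HasLimit.mk ⟨BinaryFan.mk fst snd, BinaryFan.IsLimit.mk _
        (fun {T} u v => ObjectProperty.homMk (prodLift u.hom v.hom)) ?_ ?_ ?_⟩
      · intro T u v
        apply ObjectProperty.hom_ext
        apply Alg.hom_ext
        intro p
        apply AlgHom.ext
        intro t
        rfl
      · intro T u v
        apply ObjectProperty.hom_ext
        apply Alg.hom_ext
        intro p
        apply AlgHom.ext
        intro t
        rfl
      · intro T u v m hm1 hm2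
        apply ObjectProperty.hom_ext
        apply Alg.hom_ext
        intro p
        apply AlgHom.ext
        intro t
        refine Prod.ext ?_ ?_
        · exact congrArg (fun k => k.hom.app p t) hm1
        · exact congrArg (fun k => k.hom.app p t) hm2
    exact hasBinaryProducts_of_hasLimit_pair _

end Prod

section Mono

variable {X : RSpace.{u}}

/-- the algebra map `R × R → A` attached to an idempotent -/
def idemAlgHom (R A : Type u) [CommRing R] [CommRing A] [Algebra R A] (ε : A)
    (hε : IsIdempotentElem ε) : (R × R) →ₐ[R] A where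
  toFun x := algebraMap R A x.1 * (1 - ε) + algebraMap R A x.2 * ε
  map_one' := by
    show algebraMap R A 1 * (1 - ε) + algebraMap R A 1 * ε = 1
    rw [map_one]; ring
  map_mul' x y := by
    show algebraMap R A (x.1 * y.1) * (1 - ε) + algebraMap R A (x.2 * y.2) * ε =
      (algebraMap R A x.1 * (1 - ε) + algebraMap R A x.2 * ε) *
        (algebraMap R A y.1 * (1 - ε) + algebraMap R A y.2 * ε)
    rw [map_mul, map_mul]
    have h := hε.eq
    linear_combination (-(algebraMap R A x.1 * algebraMap R A y.1 -
      algebraMap R A x.1 * algebraMap R A y.2 - algebraMap R A x.2 * algebraMap R A y.1 +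
      algebraMap R A x.2 * algebraMap R A y.2)) * h
  map_zero' := by
    show algebraMap R A 0 * (1 - ε) + algebraMap R A 0 * ε = 0
    rw [map_zero]; ring
  map_add' x y := by
    show algebraMap R A (x.1 + y.1) * (1 - ε) + algebraMap R A (x.2 + y.2) * ε =
      (algebraMap R A x.1 * (1 - ε) + algebraMap R A x.2 * ε) +
        (algebraMap R A y.1 * (1 - ε) + algebraMap R A y.2 * ε)
    rw [map_add, map_add]; ring
  commutes' r := by
    show algebraMap R A r * (1 - ε) + algebraMap R A r * ε = algebraMap R A r
    ring

theorem idemAlgHom_apply (R A : Type u) [CommRing R] [CommRing A] [Algebra R A] (ε : A)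
    (hε : IsIdempotentElem ε) (x : R × R) :
    idemAlgHom R A ε hε x = algebraMap R A x.1 * (1 - ε) + algebraMap R A x.2 * ε := rfl

/-- the map `O × O → A` attached to a compatible family of idempotents -/
def idemHom (A : Alg X) (ε : ∀ p, A.carrier p) (hε : ∀ p, IsIdempotentElem (ε p))
    (hres : ∀ {p q : X.pt} (h : p ≤ q), A.res h (ε p) = ε q) :
    prodAlg (Alg.str X) (Alg.str X) ⟶ A :=
  ⟨fun p => idemAlgHom (X.ring p) (A.carrier p) (ε p) (hε p),
   fun {p q} h b => by
    show A.res h (algebraMap (X.ring p) (A.carrier p) b.1 * (1 - ε p) +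
        algebraMap (X.ring p) (A.carrier p) b.2 * ε p) =
      algebraMap (X.ring q) (A.carrier q) (X.res h b.1) * (1 - ε q) +
        algebraMap (X.ring q) (A.carrier q) (X.res h b.2) * ε q
    rw [map_add, map_mul, map_mul, map_sub, map_one, hres h, A.res_algebraMap,
      A.res_algebraMap]⟩

theorem main15626 (hX : X.IsSchematic) {A B : FEt X} (f : A ⟶ B) [Mono f] (p : X.pt) :
    Function.Injective (f.hom.app p) := by
  have hfin : X.IsFinSp := hX.1
  obtain ⟨e, he, hker, hres⟩ := exists_idem_family hfin f
  let C : FEt X := ⟨prodAlg (Alg.str X) (Alg.str X),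
    isEtCover_prodAlg (isEtCover_str X) (isEtCover_str X)⟩
  let g₁ : C ⟶ A := ObjectProperty.homMk (idemHom A.obj e he hres)
  let g₂ : C ⟶ A := ObjectProperty.homMk (idemHom A.obj (fun _ => 0)
    (fun _ => IsIdempotentElem.zero) (fun _ => map_zero _))
  have hfe : ∀ p, f.hom.app p (e p) = 0 := by
    intro p
    have : e p ∈ RingHom.ker (f.hom.app p) := hker p ▸ Ideal.subset_span rfl
    exact this
  have hg : g₁ ≫ f = g₂ ≫ f := by
    apply ObjectProperty.hom_ext
    apply Alg.hom_ext
    intro r
    apply AlgHom.ext
    intro (x : X.ring r × X.ring r)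
    show f.hom.app r (algebraMap (X.ring r) (A.obj.carrier r) x.1 * (1 - e r) +
        algebraMap (X.ring r) (A.obj.carrier r) x.2 * e r) =
      f.hom.app r (algebraMap (X.ring r) (A.obj.carrier r) x.1 * (1 - 0) +
        algebraMap (X.ring r) (A.obj.carrier r) x.2 * 0)
    rw [map_add, map_mul, map_mul, map_sub, map_one, hfe r, map_add, map_mul, map_mul, map_sub,
      map_one, map_zero]
  have h12 : g₁ = g₂ := (cancel_mono f).mp hg
  have h0 : e p = 0 := by
    have h1 := congrArg (fun k => k.hom.app p ((0 : X.ring p), (1 : X.ring p))) h12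
    have h2 : algebraMap (X.ring p) (A.obj.carrier p) 0 * (1 - e p) +
        algebraMap (X.ring p) (A.obj.carrier p) 1 * e p =
        algebraMap (X.ring p) (A.obj.carrier p) 0 * (1 - 0) +
        algebraMap (X.ring p) (A.obj.carrier p) 1 * 0 := h1
    rw [map_zero, map_one] at h2
    simpa using h2
  rw [injective_iff_map_eq_zero]
  intro a ha
  have : a ∈ Ideal.span {e p} := hker p ▸ (RingHom.mem_ker.mpr ha)
  rw [h0, Ideal.span_singleton_eq_bot.mpr rfl] at this
  exact this

end Mono

end Groth.Agent.Lib.SchFinFEtH6
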