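import Mathlib
set_option autoImplicit false
universe u

/-!
# Points of finite algebras in an algebraically closed field (helper6)

For an `R`-algebra `E` and an algebraically closed field `Ω` over `R`, the primes of `Ω ⊗[R] E`
correspond to the `R`-algebra maps `E → Ω` when `E` is finite over `R`.
-/

open TensorProduct

namespace Groth.Agent.Lib.SchFinFEtH6

section FibHom

variable {R : Type u} [CommRing R] {Ω : Type u} [Field Ω] [Algebra R Ω]
variable {E E' : Type u} [CommRing E] [Algebra R E] [CommRing E'] [Algebra R E']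

/-- the `Ω`-point of `Ω ⊗ E` attached to an `R`-algebra map `E → Ω` -/
def liftΩ (ψ : E →ₐ[R] Ω) : Ω ⊗[R] E →ₐ[Ω] Ω :=
  Algebra.TensorProduct.lift (Algebra.ofId Ω Ω) ψ (fun _ _ => Commute.all _ _)

theorem liftΩ_tmul (ψ : E →ₐ[R] Ω) (c : Ω) (e : E) : liftΩ ψ (c ⊗ₜ e) = c * ψ e := by
  show Algebra.TensorProduct.lift (Algebra.ofId Ω Ω) ψ (fun _ _ => Commute.all _ _) (c ⊗ₜ e) = _
  rw [Algebra.TensorProduct.lift_tmul]
  rfl

/-- the prime of `Ω ⊗ E` attached to an `R`-algebra map `E → Ω` -/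
def homToFib (ψ : E →ₐ[R] Ω) : PrimeSpectrum (Ω ⊗[R] E) :=
  ⟨RingHom.ker (liftΩ ψ), RingHom.ker_isPrime _⟩

theorem algHom_eq_of_ker_le {T : Type u} [CommRing T] [Algebra Ω T] (χ χ' : T →ₐ[Ω] Ω)
    (h : RingHom.ker χ ≤ RingHom.ker χ') : χ = χ' := by
  apply AlgHom.ext
  intro t
  have h1 : t - algebraMap Ω T (χ t) ∈ RingHom.ker χ := by
    rw [RingHom.mem_ker, map_sub, AlgHom.commutes]
    exact sub_self _
  have h2 := h h1
  rw [RingHom.mem_ker, map_sub, AlgHom.commutes, sub_eq_zero] at h2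
  exact h2.symm

theorem homToFib_injective : Function.Injective (homToFib (R := R) (Ω := Ω) (E := E)) := by
  intro ψ ψ' h
  have h1 : RingHom.ker (liftΩ ψ) = RingHom.ker (liftΩ ψ') :=
    congrArg PrimeSpectrum.asIdeal h
  have h2 := algHom_eq_of_ker_le _ _ h1.le
  apply AlgHom.ext
  intro e
  have h3 := AlgHom.congr_fun h2 ((1 : Ω) ⊗ₜ[R] e)
  rwa [liftΩ_tmul, liftΩ_tmul, one_mul, one_mul] at h3

theorem exists_point_of_prime [IsAlgClosed Ω] [Module.Finite R E]
    (P : PrimeSpectrum (Ω ⊗[R] E)) :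
    ∃ χ : Ω ⊗[R] E →ₐ[Ω] Ω, RingHom.ker χ = P.asIdeal := by
  haveI := P.isPrime
  haveI : Module.Finite Ω ((Ω ⊗[R] E) ⧸ P.asIdeal) :=
    Module.Finite.of_surjective (Ideal.Quotient.mkₐ Ω P.asIdeal).toLinearMap
      Ideal.Quotient.mk_surjective
  have hbij : Function.Bijective (algebraMap Ω ((Ω ⊗[R] E) ⧸ P.asIdeal)) :=
    IsAlgClosed.algebraMap_bijective_of_isIntegral
  obtain ⟨e, he⟩ : ∃ e : Ω ≃ₐ[Ω] ((Ω ⊗[R] E) ⧸ P.asIdeal), ∀ c, e c = algebraMap Ω _ c :=
    ⟨AlgEquiv.ofBijective (Algebra.ofId Ω _) hbij, fun c => rfl⟩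
  refine ⟨e.symm.toAlgHom.comp (Ideal.Quotient.mkₐ Ω P.asIdeal), ?_⟩
  ext t
  rw [RingHom.mem_ker]
  show e.symm (Ideal.Quotient.mk _ t) = 0 ↔ _
  rw [map_eq_zero_iff _ e.symm.injective, Ideal.Quotient.eq_zero_iff_mem]

theorem homToFib_surjective [IsAlgClosed Ω] [Module.Finite R E] :
    Function.Surjective (homToFib (R := R) (Ω := Ω) (E := E)) := by
  intro P
  obtain ⟨χ, hχ⟩ := exists_point_of_prime P
  refine ⟨(χ.restrictScalars R).comp Algebra.TensorProduct.includeRight, ?_⟩
  have h1 : liftΩ ((χ.restrictScalars R).comp Algebra.TensorProduct.includeRight) = χ := by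
    apply Algebra.TensorProduct.ext'
    intro c e'
    rw [liftΩ_tmul]
    have h2 : (c ⊗ₜ[R] e' : Ω ⊗[R] E) = c • ((1 : Ω) ⊗ₜ[R] e') := by
      rw [TensorProduct.smul_tmul', smul_eq_mul, mul_one]
    rw [h2, map_smul, smul_eq_mul]
    rfl
  apply PrimeSpectrum.ext
  show RingHom.ker (liftΩ _) = P.asIdeal
  rw [h1, hχ]

theorem homToFib_bijective [IsAlgClosed Ω] [Module.Finite R E] :
    Function.Bijective (homToFib (R := R) (Ω := Ω) (E := E)) :=
  ⟨homToFib_injective, homToFib_surjective⟩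

theorem comap_homToFib (f : E →ₐ[R] E') (ψ' : E' →ₐ[R] Ω) :
    PrimeSpectrum.comap (Algebra.TensorProduct.map (AlgHom.id Ω Ω) f).toRingHom (homToFib ψ') =
      homToFib (ψ'.comp f) := by
  have h1 : ∀ t : Ω ⊗[R] E, liftΩ ψ' ((Algebra.TensorProduct.map (AlgHom.id Ω Ω) f) t) =
      liftΩ (ψ'.comp f) t := by
    intro t
    induction t using TensorProduct.induction_on with
    | zero => rw [map_zero, map_zero, map_zero]
    | tmul c e =>
      rw [Algebra.TensorProduct.map_tmul, liftΩ_tmul, liftΩ_tmul]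
      rfl
    | add x y hx hy => rw [map_add, map_add, map_add, hx, hy]
  apply PrimeSpectrum.ext
  ext t
  show liftΩ ψ' ((Algebra.TensorProduct.map (AlgHom.id Ω Ω) f) t) = 0 ↔ liftΩ (ψ'.comp f) t = 0
  rw [h1]

/-- the structure algebra has exactly one point -/
theorem hom_self_eq (φ φ' : R →ₐ[R] Ω) : φ = φ' := by
  apply AlgHom.ext
  intro r
  have h1 := φ.commutes r
  have h2 := φ'.commutes r
  exact h1.trans h2.symm

/-- the zero algebra has no point -/
theorem hom_punit_false (φ : PUnit.{u + 1} →ₐ[R] Ω) : False := by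
  have h1 : φ 1 = 1 := map_one φ
  have h2 : φ 0 = 0 := map_zero φ
  have h3 : (1 : PUnit.{u + 1}) = 0 := rfl
  rw [h3, h2] at h1
  exact zero_ne_one h1

section Prod

variable {A B : Type u} [CommRing A] [CommRing B] [Algebra R A] [Algebra R B]

theorem prod_hom_left (χ : A × B →ₐ[R] Ω) (h1 : χ (1, 0) = 1) :
    ∃ α : A →ₐ[R] Ω, χ = α.comp (AlgHom.fst R A B) := by
  have hx : ∀ x : A × B, χ x = χ (x.1, 0) := by
    intro x
    have h2 : ((x.1, 0) : A × B) = x * (1, 0) := by
      ext
      · simp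
      · simp
    rw [h2, map_mul, h1, mul_one]
  refine ⟨{ toFun := fun a => χ (a, 0)
            map_one' := h1
            map_mul' := fun a a' => by
              rw [← map_mul]
              congr 1
              ext
              · simp
              · simp
            map_zero' := map_zero χ
            map_add' := fun a a' => by
              rw [← map_add]
              congr 1
              ext
              · simp
              · simp
            commutes' := fun r => by
              have h3 := hx (algebraMap R (A × B) r)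
              rw [χ.commutes] at h3
              exact h3.symm }, ?_⟩
  apply AlgHom.ext
  intro x
  exact hx x

theorem prod_hom_right (χ : A × B →ₐ[R] Ω) (h1 : χ (0, 1) = 1) :
    ∃ β : B →ₐ[R] Ω, χ = β.comp (AlgHom.snd R A B) := by
  have hx : ∀ x : A × B, χ x = χ (0, x.2) := by
    intro x
    have h2 : ((0, x.2) : A × B) = x * (0, 1) := by
      ext
      · simp
      · simp
    rw [h2, map_mul, h1, mul_one]
  refine ⟨{ toFun := fun b => χ (0, b)
            map_one' := h1
            map_mul' := fun a a' => by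
              rw [← map_mul]
              congr 1
              ext
              · simp
              · simp
            map_zero' := map_zero χ
            map_add' := fun a a' => by
              rw [← map_add]
              congr 1
              ext
              · simp
              · simp
            commutes' := fun r => by
              have h3 := hx (algebraMap R (A × B) r)
              rw [χ.commutes] at h3
              exact h3.symm }, ?_⟩
  apply AlgHom.ext
  intro x
  exact hx x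

theorem prod_hom_cases (χ : A × B →ₐ[R] Ω) :
    (∃ α : A →ₐ[R] Ω, χ = α.comp (AlgHom.fst R A B)) ∨
      (∃ β : B →ₐ[R] Ω, χ = β.comp (AlgHom.snd R A B)) := by
  have h1 : χ (1, 0) * χ (1, 0) = χ (1, 0) := by
    rw [← map_mul]
    congr 1
    ext
    · simp
    · simp
  have h2 : χ (1, 0) + χ (0, 1) = 1 := by
    rw [← map_add, ← map_one χ]
    congr 1
    ext
    · simp
    · simp
  have h3 : χ (1, 0) = 0 ∨ χ (1, 0) = 1 := by
    have h4 : χ (1, 0) * (χ (1, 0) - 1) = 0 := by rw [mul_sub, h1, mul_one, sub_self]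
    rcases mul_eq_zero.mp h4 with h5 | h5
    · exact Or.inl h5
    · exact Or.inr (sub_eq_zero.mp h5)
  rcases h3 with h3 | h3
  · right
    rw [h3, zero_add] at h2
    exact prod_hom_right χ h2
  · left
    exact prod_hom_left χ h3

theorem prod_hom_disjoint (α : A →ₐ[R] Ω) (β : B →ₐ[R] Ω) :
    α.comp (AlgHom.fst R A B) ≠ β.comp (AlgHom.snd R A B) := by
  intro h
  have h1 := AlgHom.congr_fun h ((1, 0) : A × B)
  have h2 : α 1 = β 0 := h1
  rw [map_one, map_zero] at h2
  exact one_ne_zero h2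

end Prod

section Extend

variable {A B : Type u} [CommRing A] [CommRing B] [Algebra R A] [Algebra R B]

/-- extension of points along injective finite maps -/
theorem exists_extend_hom [IsAlgClosed Ω] (f : A →ₐ[R] B) (hf : Function.Injective f)
    [Module.Finite R B] (φ : A →ₐ[R] Ω) : ∃ ψ : B →ₐ[R] Ω, ψ.comp f = φ := by
  letI : Algebra A B := f.toRingHom.toAlgebra
  haveI : IsScalarTower R A B := IsScalarTower.of_algebraMap_eq (fun r => (f.commutes r).symm)
  haveI : FaithfulSMul A B := (faithfulSMul_iff_algebraMap_injective A B).mpr hf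
  haveI : Algebra.IsIntegral R B := Algebra.IsIntegral.of_finite R B
  haveI : Algebra.IsIntegral A B := Algebra.IsIntegral.tower_top R
  obtain ⟨𝔭, h𝔭⟩ : ∃ 𝔭 : Ideal A, 𝔭 = RingHom.ker φ := ⟨_, rfl⟩
  haveI : 𝔭.IsPrime := h𝔭 ▸ RingHom.ker_isPrime φ
  obtain ⟨⟨Q, hQ1, hQ2⟩⟩ := Ideal.nonempty_primesOver (S := B) 𝔭
  haveI := hQ1
  haveI := hQ2
  have hφ𝔭 : ∀ a ∈ 𝔭, φ.toRingHom a = 0 := fun a ha => by
    rw [h𝔭] at ha
    exact ha
  letI : Algebra (A ⧸ 𝔭) Ω := (Ideal.Quotient.lift 𝔭 φ.toRingHom hφ𝔭).toAlgebra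
  have hinj : Function.Injective (algebraMap (A ⧸ 𝔭) Ω) := by
    rw [injective_iff_map_eq_zero]
    intro x hx
    obtain ⟨a, rfl⟩ := Ideal.Quotient.mk_surjective x
    have h1 : φ a = 0 := hx
    rw [Ideal.Quotient.eq_zero_iff_mem, h𝔭]
    exact h1
  haveI : FaithfulSMul (A ⧸ 𝔭) Ω := (faithfulSMul_iff_algebraMap_injective _ _).mpr hinj
  obtain ⟨σ⟩ : Nonempty ((B ⧸ Q) →ₐ[A ⧸ 𝔭] Ω) := ⟨IsAlgClosed.lift⟩
  have hσ : ∀ a : A, σ (Ideal.Quotient.mk Q (f a)) = φ a := by
    intro a
    have h1 := σ.commutes (Ideal.Quotient.mk 𝔭 a)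
    exact h1
  refine ⟨{ toRingHom := σ.toRingHom.comp (Ideal.Quotient.mk Q)
            commutes' := fun r => by
              show σ (Ideal.Quotient.mk Q (algebraMap R B r)) = algebraMap R Ω r
              rw [← f.commutes, hσ, φ.commutes] }, ?_⟩
  apply AlgHom.ext
  intro a
  exact hσ a

end Extend

end FibHom

end Groth.Agent.Lib.SchFinFEtH6
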