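import Mathlib
import Groth.Prelude.Def_SchFin
import Groth.Prelude.Def_SchFin2
import Groth.Agent.Lib.SchFinFEt3_helper6
set_option autoImplicit false
universe u

/-!
# Étale covers of finite ringed posets: initial object and pushouts (helper6)
-/

open TensorProduct CategoryTheory CategoryTheory.Limits SchFin

namespace Groth.Agent.Lib.SchFinFEtH6

section PO

variable {R A B C : Type u} [CommRing R] [CommRing A] [CommRing B] [CommRing C]
  [Algebra R A] [Algebra R B] [Algebra R C] (f : A →ₐ[R] B) (g : A →ₐ[R] C)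

/-- the ideal of `B ⊗[R] C` whose quotient is the pushout `B ⊗[A] C` -/
def poIdeal : Ideal (B ⊗[R] C) :=
  Ideal.span (Set.range fun a : A => f a ⊗ₜ[R] (1 : C) - (1 : B) ⊗ₜ[R] g a)

def poInl : B →ₐ[R] (B ⊗[R] C) ⧸ poIdeal f g :=
  (Ideal.Quotient.mkₐ R (poIdeal f g)).comp Algebra.TensorProduct.includeLeft

def poInr : C →ₐ[R] (B ⊗[R] C) ⧸ poIdeal f g :=
  (Ideal.Quotient.mkₐ R (poIdeal f g)).comp Algebra.TensorProduct.includeRight

theorem poInl_apply (b : B) : poInl f g b = Ideal.Quotient.mk (poIdeal f g) (b ⊗ₜ 1) := rfl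

theorem poInr_apply (c : C) : poInr f g c = Ideal.Quotient.mk (poIdeal f g) (1 ⊗ₜ c) := rfl

theorem po_comm (a : A) : poInl f g (f a) = poInr f g (g a) := by
  rw [poInl_apply, poInr_apply, Ideal.Quotient.eq]
  exact Ideal.subset_span ⟨a, rfl⟩

theorem poIdeal_le_ker {D : Type u} [CommRing D] [Algebra R D] (u : B →ₐ[R] D) (v : C →ₐ[R] D)
    (h : ∀ a, u (f a) = v (g a)) (x : B ⊗[R] C) (hx : x ∈ poIdeal f g) :
    (Algebra.TensorProduct.lift u v (fun _ _ => Commute.all _ _)) x = 0 := by
  have h1 : poIdeal f g ≤ RingHom.ker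
      (Algebra.TensorProduct.lift u v (fun _ _ => Commute.all _ _)).toRingHom := by
    unfold poIdeal
    rw [Ideal.span_le]
    rintro _ ⟨a, rfl⟩
    show (Algebra.TensorProduct.lift u v (fun _ _ => Commute.all _ _))
      (f a ⊗ₜ[R] (1 : C) - (1 : B) ⊗ₜ[R] g a) = 0
    rw [map_sub, Algebra.TensorProduct.lift_tmul, Algebra.TensorProduct.lift_tmul, map_one,
      map_one, mul_one, one_mul, h, sub_self]
  exact h1 hx

def poDesc {D : Type u} [CommRing D] [Algebra R D] (u : B →ₐ[R] D) (v : C →ₐ[R] D)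
    (h : ∀ a, u (f a) = v (g a)) : ((B ⊗[R] C) ⧸ poIdeal f g) →ₐ[R] D :=
  Ideal.Quotient.liftₐ (poIdeal f g)
    (Algebra.TensorProduct.lift u v (fun _ _ => Commute.all _ _)) (poIdeal_le_ker f g u v h)

theorem poDesc_mk {D : Type u} [CommRing D] [Algebra R D] (u : B →ₐ[R] D) (v : C →ₐ[R] D)
    (h : ∀ a, u (f a) = v (g a)) (b : B) (c : C) :
    poDesc f g u v h (Ideal.Quotient.mk (poIdeal f g) (b ⊗ₜ c)) = u b * v c := by
  show (Algebra.TensorProduct.lift u v (fun _ _ => Commute.all _ _)) (b ⊗ₜ c) = u b * v c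
  rw [Algebra.TensorProduct.lift_tmul]

theorem poDesc_inl {D : Type u} [CommRing D] [Algebra R D] (u : B →ₐ[R] D) (v : C →ₐ[R] D)
    (h : ∀ a, u (f a) = v (g a)) (b : B) : poDesc f g u v h (poInl f g b) = u b := by
  rw [poInl_apply, poDesc_mk, map_one, mul_one]

theorem poDesc_inr {D : Type u} [CommRing D] [Algebra R D] (u : B →ₐ[R] D) (v : C →ₐ[R] D)
    (h : ∀ a, u (f a) = v (g a)) (c : C) : poDesc f g u v h (poInr f g c) = v c := by
  rw [poInr_apply, poDesc_mk, map_one, one_mul]

theorem po_ext {D : Type u} [CommRing D] [Algebra R D]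
    (φ ψ : ((B ⊗[R] C) ⧸ poIdeal f g) →ₐ[R] D)
    (h1 : ∀ b, φ (poInl f g b) = ψ (poInl f g b))
    (h2 : ∀ c, φ (poInr f g c) = ψ (poInr f g c)) : φ = ψ := by
  apply AlgHom.ext
  intro x
  obtain ⟨t, rfl⟩ := Ideal.Quotient.mk_surjective x
  induction t using TensorProduct.induction_on with
  | zero => rw [map_zero, map_zero, map_zero]
  | tmul b c =>
    have h3 : (b ⊗ₜ[R] c : B ⊗[R] C) = (b ⊗ₜ 1) * (1 ⊗ₜ c) := by
      rw [Algebra.TensorProduct.tmul_mul_tmul, mul_one, one_mul]
    rw [h3, map_mul, map_mul, map_mul]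
    exact congrArg₂ (· * ·) (h1 b) (h2 c)
  | add x y hx hy => rw [map_add, map_add, map_add, hx, hy]

theorem po_formallyEtale [Algebra.FormallyUnramified R A] [Algebra.FormallyEtale R B]
    [Algebra.FormallyEtale R C] : Algebra.FormallyEtale R ((B ⊗[R] C) ⧸ poIdeal f g) := by
  rw [Algebra.FormallyEtale.iff_comp_bijective]
  intro D _ _ I hI
  constructor
  · intro φ ψ hφψ
    apply po_ext
    · intro b
      have h1 : (Ideal.Quotient.mkₐ R I).comp (φ.comp (poInl f g)) =
          (Ideal.Quotient.mkₐ R I).comp (ψ.comp (poInl f g)) := by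
        rw [← AlgHom.comp_assoc, ← AlgHom.comp_assoc]
        exact congrArg (fun k => k.comp (poInl f g)) hφψ
      exact AlgHom.congr_fun (Algebra.FormallyUnramified.comp_injective I hI h1) b
    · intro c
      have h1 : (Ideal.Quotient.mkₐ R I).comp (φ.comp (poInr f g)) =
          (Ideal.Quotient.mkₐ R I).comp (ψ.comp (poInr f g)) := by
        rw [← AlgHom.comp_assoc, ← AlgHom.comp_assoc]
        exact congrArg (fun k => k.comp (poInr f g)) hφψ
      exact AlgHom.congr_fun (Algebra.FormallyUnramified.comp_injective I hI h1) c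
  · intro φ
    obtain ⟨u, hu⟩ := Algebra.FormallySmooth.comp_surjective R B I hI (φ.comp (poInl f g))
    obtain ⟨v, hv⟩ := Algebra.FormallySmooth.comp_surjective R C I hI (φ.comp (poInr f g))
    have huv : u.comp f = v.comp g := by
      apply Algebra.FormallyUnramified.comp_injective I hI
      rw [← AlgHom.comp_assoc, ← AlgHom.comp_assoc, hu, hv]
      apply AlgHom.ext
      intro a
      show φ (poInl f g (f a)) = φ (poInr f g (g a))
      rw [po_comm]
    have hh : ∀ a, u (f a) = v (g a) := fun a => AlgHom.congr_fun huv a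
    refine ⟨poDesc f g u v hh, ?_⟩
    apply po_ext
    · intro b
      show Ideal.Quotient.mk I (poDesc f g u v hh (poInl f g b)) = φ (poInl f g b)
      rw [poDesc_inl]
      exact AlgHom.congr_fun hu b
    · intro c
      show Ideal.Quotient.mk I (poDesc f g u v hh (poInr f g c)) = φ (poInr f g c)
      rw [poDesc_inr]
      exact AlgHom.congr_fun hv c

theorem po_etale [IsNoetherianRing R] [Module.Finite R B] [Module.Finite R C]
    [Algebra.FormallyUnramified R A] [Algebra.FormallyEtale R B]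
    [Algebra.FormallyEtale R C] :
    Module.Finite R ((B ⊗[R] C) ⧸ poIdeal f g) ∧ Algebra.Etale R ((B ⊗[R] C) ⧸ poIdeal f g) := by
  have hfin : Module.Finite R ((B ⊗[R] C) ⧸ poIdeal f g) :=
    Module.Finite.of_surjective (Ideal.Quotient.mkₐ R (poIdeal f g)).toLinearMap
      Ideal.Quotient.mk_surjective
  refine ⟨hfin, ?_⟩
  exact { formallyEtale := po_formallyEtale f g
          finitePresentation := Algebra.FinitePresentation.of_finiteType.mp inferInstance }

end PO

section TensRes

variable {R S B C B' C' : Type u} [CommRing R] [CommRing S] [CommRing B] [CommRing C]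
  [CommRing B'] [CommRing C'] [Algebra R B] [Algebra R C] [Algebra S B'] [Algebra S C']

/-- the ring map `B ⊗[R] C → B' ⊗[S] C'` induced by compatible ring maps -/
def tensRes (φ : R →+* S) (β : B →+* B') (γ : C →+* C')
    (hβ : ∀ r, β (algebraMap R B r) = algebraMap S B' (φ r))
    (hγ : ∀ r, γ (algebraMap R C r) = algebraMap S C' (φ r)) : B ⊗[R] C →+* B' ⊗[S] C' :=
  letI : Algebra R (B' ⊗[S] C') := ((algebraMap S (B' ⊗[S] C')).comp φ).toAlgebra
  (Algebra.TensorProduct.lift
    ({ toRingHom := (Algebra.TensorProduct.includeLeftRingHom).comp β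
       commutes' := fun r => by
         show (β (algebraMap R B r)) ⊗ₜ[S] (1 : C') = algebraMap S (B' ⊗[S] C') (φ r)
         rw [hβ, Algebra.TensorProduct.algebraMap_apply] } : B →ₐ[R] B' ⊗[S] C')
    ({ toRingHom := (Algebra.TensorProduct.includeRight (R := S) (A := B') (B := C')).toRingHom.comp γ
       commutes' := fun r => by
         show (1 : B') ⊗ₜ[S] (γ (algebraMap R C r)) = algebraMap S (B' ⊗[S] C') (φ r)
         rw [hγ]
         exact (Algebra.TensorProduct.includeRight (R := S) (A := B') (B := C')).commutes (φ r) } :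
      C →ₐ[R] B' ⊗[S] C')
    (fun _ _ => Commute.all _ _)).toRingHom

theorem tensRes_tmul (φ : R →+* S) (β : B →+* B') (γ : C →+* C')
    (hβ : ∀ r, β (algebraMap R B r) = algebraMap S B' (φ r))
    (hγ : ∀ r, γ (algebraMap R C r) = algebraMap S C' (φ r)) (b : B) (c : C) :
    tensRes φ β γ hβ hγ (b ⊗ₜ c) = β b ⊗ₜ γ c := by
  show (β b ⊗ₜ[S] (1 : C')) * ((1 : B') ⊗ₜ[S] γ c) = β b ⊗ₜ γ c
  rw [Algebra.TensorProduct.tmul_mul_tmul, mul_one, one_mul]

end TensRes

section BCTens

variable {R S : Type u} [CommRing R] [CommRing S] [Algebra R S]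

theorem isBaseChange_tens {B C B' C' T' : Type u}
    [AddCommGroup B] [Module R B] [AddCommGroup C] [Module R C]
    [AddCommGroup B'] [Module R B'] [Module S B'] [IsScalarTower R S B']
    [AddCommGroup C'] [Module R C'] [Module S C'] [IsScalarTower R S C']
    [AddCommGroup T'] [Module R T'] [Module S T'] [IsScalarTower R S T']
    (ρB : B →ₗ[R] B') (ρC : C →ₗ[R] C') (hB : IsBaseChange S ρB) (hC : IsBaseChange S ρC)
    (e : B' ⊗[S] C' ≃ₗ[S] T')
    (τ : B ⊗[R] C →ₗ[R] T') (hτ : ∀ b c, τ (b ⊗ₜ c) = e (ρB b ⊗ₜ ρC c)) :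
    IsBaseChange S τ := by
  refine IsBaseChange.of_equiv
    (((TensorProduct.AlgebraTensorModule.distribBaseChange R S B C).trans
      (TensorProduct.congr hB.equiv hC.equiv)).trans e) (fun x => ?_)
  induction x using TensorProduct.induction_on with
  | zero => rw [TensorProduct.tmul_zero, map_zero, map_zero]
  | tmul b c =>
    rw [LinearEquiv.trans_apply, LinearEquiv.trans_apply,
      TensorProduct.AlgebraTensorModule.distribBaseChange_tmul,
      TensorProduct.congr_tmul, hB.equiv_tmul, hC.equiv_tmul, one_smul, one_smul, hτ]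
  | add x y hx hy => rw [TensorProduct.tmul_add, map_add, hx, hy, map_add]

variable {M D M' D' : Type u}

/-- a quotient whose kernel is generated by the image of the kernel is again a base change -/
theorem isBaseChange_quot_gen
    [AddCommGroup M] [Module R M] [AddCommGroup D] [Module R D]
    [AddCommGroup M'] [Module R M'] [Module S M'] [IsScalarTower R S M']
    [AddCommGroup D'] [Module R D'] [Module S D'] [IsScalarTower R S D']
    (ρ : M →ₗ[R] M') (hρ : IsBaseChange S ρ) (σ : D →ₗ[R] D')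
    (π : M →ₗ[R] D) (π' : M' →ₗ[S] D') (hπ : Function.Surjective π)
    (hπ' : Function.Surjective π') (hσ : ∀ m, σ (π m) = π' (ρ m))
    (hker : ∀ x, π' x = 0 → x ∈ Submodule.span S (ρ '' {m | π m = 0})) : IsBaseChange S σ := by
  let L : S ⊗[R] D →ₗ[S] D' := σ.liftBaseChange S
  have hnat : ∀ t : S ⊗[R] M, L (π.baseChange S t) = π' (hρ.equiv t) := by
    intro t
    induction t using TensorProduct.induction_on with
    | zero => simp
    | tmul s m =>
      rw [LinearMap.baseChange_tmul, LinearMap.liftBaseChange_tmul, hρ.equiv_tmul, map_smul, hσ]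
    | add a b ha hb => simp only [map_add, ha, hb]
  have hsurjT : Function.Surjective (π.baseChange S) := LinearMap.lTensor_surjective S hπ
  have key : ∀ x ∈ Submodule.span S (ρ '' {m | π m = 0}),
      π.baseChange S (hρ.equiv.symm x) = 0 := by
    intro x hx
    induction hx using Submodule.span_induction with
    | mem x hx =>
      obtain ⟨m, hm, rfl⟩ := hx
      have h1 : hρ.equiv.symm (ρ m) = 1 ⊗ₜ m := by
        rw [LinearEquiv.symm_apply_eq, hρ.equiv_tmul, one_smul]
      rw [h1, LinearMap.baseChange_tmul, hm, TensorProduct.tmul_zero]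
    | zero => rw [map_zero, map_zero]
    | add x y _ _ hx hy => rw [map_add, map_add, hx, hy, add_zero]
    | smul s x _ hx => rw [map_smul, map_smul, hx, smul_zero]
  have hinj : Function.Injective L := by
    rw [injective_iff_map_eq_zero]
    intro t ht
    obtain ⟨t', rfl⟩ := hsurjT t
    rw [hnat] at ht
    have h2 := key _ (hker _ ht)
    rwa [LinearEquiv.symm_apply_apply] at h2
  have hsurj : Function.Surjective L := by
    intro d'
    obtain ⟨m', rfl⟩ := hπ' d'
    obtain ⟨t, rfl⟩ := hρ.equiv.surjective m'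
    exact ⟨π.baseChange S t, hnat t⟩
  exact IsBaseChange.of_equiv (LinearEquiv.ofBijective L ⟨hinj, hsurj⟩) (fun x => by
    show L (1 ⊗ₜ x) = σ x
    rw [LinearMap.liftBaseChange_tmul, one_smul])

/-- the pushout ideal upstairs is generated by the image of the pushout ideal downstairs -/
theorem poIdeal_le_span {A B C A' B' C' : Type u}
    [CommRing A] [CommRing B] [CommRing C] [CommRing A'] [CommRing B'] [CommRing C']
    [Algebra R A] [Algebra R B] [Algebra R C] [Algebra S A'] [Algebra S B'] [Algebra S C']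
    [Module R A'] [IsScalarTower R S A']
    [Module R (B' ⊗[S] C')] [IsScalarTower R S (B' ⊗[S] C')]
    (f : A →ₐ[R] B) (g : A →ₐ[R] C) (f' : A' →ₐ[S] B') (g' : A' →ₐ[S] C')
    (ρA : A →ₗ[R] A') (hA : IsBaseChange S ρA)
    (τ : B ⊗[R] C →ₗ[R] B' ⊗[S] C') (hτ : IsBaseChange S τ)
    (hτmul : ∀ x y, τ (x * y) = τ x * τ y)
    (hgen : ∀ a, τ (f a ⊗ₜ 1 - 1 ⊗ₜ g a) = f' (ρA a) ⊗ₜ 1 - 1 ⊗ₜ g' (ρA a))
    (x : B' ⊗[S] C') (hx : x ∈ poIdeal f' g') :
    x ∈ Submodule.span S (τ '' (poIdeal f g : Set (B ⊗[R] C))) := by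
  have hmul1 : ∀ (t : B ⊗[R] C) (y : B' ⊗[S] C'),
      y ∈ Submodule.span S (τ '' (poIdeal f g : Set (B ⊗[R] C))) →
      τ t * y ∈ Submodule.span S (τ '' (poIdeal f g : Set (B ⊗[R] C))) := by
    intro t y hy
    induction hy using Submodule.span_induction with
    | mem y hy =>
      obtain ⟨j, hj, rfl⟩ := hy
      rw [← hτmul]
      exact Submodule.subset_span ⟨t * j, Ideal.mul_mem_left _ _ hj, rfl⟩
    | zero => rw [mul_zero]; exact Submodule.zero_mem _
    | add y z _ _ hy hz => rw [mul_add]; exact Submodule.add_mem _ hy hz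
    | smul s y _ hy => rw [mul_smul_comm]; exact Submodule.smul_mem _ _ hy
  have hmul : ∀ (t' y : B' ⊗[S] C'),
      y ∈ Submodule.span S (τ '' (poIdeal f g : Set (B ⊗[R] C))) →
      t' * y ∈ Submodule.span S (τ '' (poIdeal f g : Set (B ⊗[R] C))) := by
    intro t' y hy
    induction t' using hτ.inductionOn with
    | zero => rw [zero_mul]; exact Submodule.zero_mem _
    | tmul t => exact hmul1 t y hy
    | smul s n hn => rw [smul_mul_assoc]; exact Submodule.smul_mem _ _ hn
    | add n₁ n₂ h₁ h₂ => rw [add_mul]; exact Submodule.add_mem _ h₁ h₂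
  have hgen' : ∀ a' : A', f' a' ⊗ₜ[S] (1 : C') - (1 : B') ⊗ₜ[S] g' a' ∈
      Submodule.span S (τ '' (poIdeal f g : Set (B ⊗[R] C))) := by
    intro a'
    induction a' using hA.inductionOn with
    | zero =>
      rw [map_zero, map_zero, TensorProduct.zero_tmul, TensorProduct.tmul_zero, sub_zero]
      exact Submodule.zero_mem _
    | tmul a =>
      rw [← hgen]
      exact Submodule.subset_span ⟨_, Ideal.subset_span ⟨a, rfl⟩, rfl⟩
    | smul s n hn =>
      have h1 : f' (s • n) ⊗ₜ[S] (1 : C') - (1 : B') ⊗ₜ[S] g' (s • n) =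
          s • (f' n ⊗ₜ[S] (1 : C') - (1 : B') ⊗ₜ[S] g' n) := by
        rw [map_smul, map_smul, smul_sub, TensorProduct.smul_tmul', TensorProduct.tmul_smul]
      rw [h1]
      exact Submodule.smul_mem _ _ hn
    | add n₁ n₂ h₁ h₂ =>
      have h1 : f' (n₁ + n₂) ⊗ₜ[S] (1 : C') - (1 : B') ⊗ₜ[S] g' (n₁ + n₂) =
          (f' n₁ ⊗ₜ[S] (1 : C') - (1 : B') ⊗ₜ[S] g' n₁) +
          (f' n₂ ⊗ₜ[S] (1 : C') - (1 : B') ⊗ₜ[S] g' n₂) := by
        rw [map_add, map_add, TensorProduct.add_tmul, TensorProduct.tmul_add]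
        abel
      rw [h1]
      exact Submodule.add_mem _ h₁ h₂
  unfold poIdeal at hx
  induction hx using Submodule.span_induction with
  | mem y hy =>
    obtain ⟨a', rfl⟩ := hy
    exact hgen' a'
  | zero => exact Submodule.zero_mem _
  | add y z _ _ hy hz => exact Submodule.add_mem _ hy hz
  | smul t' y _ hy => exact hmul t' y hy

end BCTens

end Groth.Agent.Lib.SchFinFEtH6
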