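import Mathlib
import Groth.Prelude.Def_SchFin
import Groth.Prelude.Def_SchFin2
import Groth.Agent.Lib.SchFinPO1_helper6
set_option autoImplicit false
universe u

/-!
# Étale covers of finite ringed posets: initial object and pushouts, sheaf level (helper6)
-/

open TensorProduct CategoryTheory CategoryTheory.Limits SchFin

namespace Groth.Agent.Lib.SchFinFEtH6

section TensAlg

variable {X : RSpace.{u}}

theorem tensRes_alg_tmul (B C : Alg X) {p q : X.pt} (h : p ≤ q) (b : B.carrier p)
    (c : C.carrier p) :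
    tensRes (X.res h) (B.res h) (C.res h) (B.res_algebraMap h) (C.res_algebraMap h)
      (b ⊗ₜ[X.ring p] c) = B.res h b ⊗ₜ[X.ring q] C.res h c :=
  tensRes_tmul _ _ _ _ _ b c

theorem tensRes_alg_gen {A B C : Alg X} (f : A ⟶ B) (g : A ⟶ C) {p q : X.pt} (h : p ≤ q)
    (a : A.carrier p) :
    tensRes (X.res h) (B.res h) (C.res h) (B.res_algebraMap h) (C.res_algebraMap h)
      (f.app p a ⊗ₜ[X.ring p] 1 - 1 ⊗ₜ[X.ring p] g.app p a) =
      f.app q (A.res h a) ⊗ₜ[X.ring q] 1 - 1 ⊗ₜ[X.ring q] g.app q (A.res h a) := by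
  rw [map_sub, tensRes_alg_tmul, tensRes_alg_tmul, map_one, map_one, f.compat, g.compat]

/-- the tensor product of two algebras -/
@[reducible] def tensAlg (B C : Alg X) : Alg X where
  carrier p := B.carrier p ⊗[X.ring p] C.carrier p
  res {p q} h := tensRes (X.res h) (B.res h) (C.res h) (B.res_algebraMap h) (C.res_algebraMap h)
  res_algebraMap {p q} h a := by
    show tensRes (X.res h) (B.res h) (C.res h) (B.res_algebraMap h) (C.res_algebraMap h)
      (algebraMap (X.ring p) (B.carrier p ⊗[X.ring p] C.carrier p) a) =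
      algebraMap (X.ring q) (B.carrier q ⊗[X.ring q] C.carrier q) (X.res h a)
    rw [Algebra.TensorProduct.algebraMap_apply, tensRes_alg_tmul, B.res_algebraMap, map_one,
      Algebra.TensorProduct.algebraMap_apply]
  res_self p t := by
    induction t using TensorProduct.induction_on with
    | zero => exact map_zero _
    | tmul b c => rw [tensRes_alg_tmul, B.res_self, C.res_self]
    | add x y hx hy => rw [map_add, hx, hy]
  res_comp {p q s} h h' t := by
    induction t using TensorProduct.induction_on with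
    | zero => rw [map_zero, map_zero, map_zero]
    | tmul b c =>
      rw [tensRes_alg_tmul B C h, tensRes_alg_tmul B C h', tensRes_alg_tmul B C (h.trans h'),
        B.res_comp, C.res_comp]
    | add x y hx hy => rw [map_add, map_add, map_add, hx, hy]

theorem tensAlg_res_tmul (B C : Alg X) {p q : X.pt} (h : p ≤ q) (b : B.carrier p)
    (c : C.carrier p) :
    (tensAlg B C).res h (b ⊗ₜ[X.ring p] c) = B.res h b ⊗ₜ[X.ring q] C.res h c :=
  tensRes_alg_tmul B C h b c

theorem tensAlg_res_gen {A B C : Alg X} (f : A ⟶ B) (g : A ⟶ C) {p q : X.pt} (h : p ≤ q)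
    (a : A.carrier p) :
    (tensAlg B C).res h (f.app p a ⊗ₜ[X.ring p] 1 - 1 ⊗ₜ[X.ring p] g.app p a) =
      f.app q (A.res h a) ⊗ₜ[X.ring q] 1 - 1 ⊗ₜ[X.ring q] g.app q (A.res h a) :=
  tensRes_alg_gen f g h a

theorem isQcoh_tensAlg {B C : Alg X} (hB : B.IsQcoh) (hC : C.IsQcoh) : (tensAlg B C).IsQcoh := by
  intro p q h
  letI : Algebra (X.ring p) (X.ring q) := (X.res h).toAlgebra
  letI : Module (X.ring p) (B.carrier q ⊗[X.ring q] C.carrier q) :=
    Module.compHom (B.carrier q ⊗[X.ring q] C.carrier q) (X.res h)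
  haveI : IsScalarTower (X.ring p) (X.ring q) (B.carrier q ⊗[X.ring q] C.carrier q) :=
    IsScalarTower.of_algebraMap_smul fun _ _ => rfl
  letI : Module (X.ring p) (B.carrier q) := Module.compHom (B.carrier q) (X.res h)
  haveI : IsScalarTower (X.ring p) (X.ring q) (B.carrier q) :=
    IsScalarTower.of_algebraMap_smul fun _ _ => rfl
  letI : Module (X.ring p) (C.carrier q) := Module.compHom (C.carrier q) (X.res h)
  haveI : IsScalarTower (X.ring p) (X.ring q) (C.carrier q) :=
    IsScalarTower.of_algebraMap_smul fun _ _ => rfl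
  have h1 : IsBaseChange (X.ring q) ({ toFun := B.toMod.res h, map_add' := (B.toMod.res h).map_add, map_smul' := (B.toMod.res h).map_smulₛₗ } : B.carrier p →ₗ[X.ring p] B.carrier q) :=
    hB p q h
  have h2 : IsBaseChange (X.ring q) ({ toFun := C.toMod.res h, map_add' := (C.toMod.res h).map_add, map_smul' := (C.toMod.res h).map_smulₛₗ } : C.carrier p →ₗ[X.ring p] C.carrier q) :=
    hC p q h
  show IsBaseChange (X.ring q) ({ toFun := (tensAlg B C).toMod.res h, map_add' := ((tensAlg B C).toMod.res h).map_add, map_smul' := ((tensAlg B C).toMod.res h).map_smulₛₗ } : (B.carrier p ⊗[X.ring p] C.carrier p) →ₗ[X.ring p] (B.carrier q ⊗[X.ring q] C.carrier q))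
  exact isBaseChange_tens _ _ h1 h2 (LinearEquiv.refl _ _) _
    (fun b c => tensAlg_res_tmul B C h b c)

theorem poIdeal_compat {A B C : Alg X} (f : A ⟶ B) (g : A ⟶ C) {p q : X.pt} (h : p ≤ q) :
    poIdeal (f.app p) (g.app p) ≤
      (poIdeal (f.app q) (g.app q)).comap ((tensAlg B C).res h) := by
  unfold poIdeal
  rw [Ideal.span_le]
  rintro _ ⟨a, rfl⟩
  show (tensAlg B C).res h (f.app p a ⊗ₜ[X.ring p] 1 - 1 ⊗ₜ[X.ring p] g.app p a) ∈ Ideal.span _
  rw [tensAlg_res_gen f g h a]
  exact Ideal.subset_span ⟨A.res h a, rfl⟩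

/-- the pushout of two algebra maps -/
@[reducible] def poAlg {A B C : Alg X} (f : A ⟶ B) (g : A ⟶ C) : Alg X :=
  quotAlg (tensAlg B C) (fun p => poIdeal (f.app p) (g.app p))
    (fun {_ _} h => poIdeal_compat f g h)

theorem isQcoh_poAlg {A B C : Alg X} (hA : A.IsQcoh) (hB : B.IsQcoh) (hC : C.IsQcoh)
    (f : A ⟶ B) (g : A ⟶ C) : (poAlg f g).IsQcoh := by
  intro p q h
  have hT := isQcoh_tensAlg hB hC p q h
  letI : Algebra (X.ring p) (X.ring q) := (X.res h).toAlgebra
  letI : Module (X.ring p)
      ((B.carrier q ⊗[X.ring q] C.carrier q) ⧸ poIdeal (f.app q) (g.app q)) :=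
    Module.compHom ((B.carrier q ⊗[X.ring q] C.carrier q) ⧸ poIdeal (f.app q) (g.app q))
      (X.res h)
  haveI : IsScalarTower (X.ring p) (X.ring q)
      ((B.carrier q ⊗[X.ring q] C.carrier q) ⧸ poIdeal (f.app q) (g.app q)) :=
    IsScalarTower.of_algebraMap_smul fun _ _ => rfl
  letI : Module (X.ring p) (B.carrier q ⊗[X.ring q] C.carrier q) :=
    Module.compHom (B.carrier q ⊗[X.ring q] C.carrier q) (X.res h)
  haveI : IsScalarTower (X.ring p) (X.ring q) (B.carrier q ⊗[X.ring q] C.carrier q) :=
    IsScalarTower.of_algebraMap_smul fun _ _ => rfl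
  letI : Module (X.ring p) (A.carrier q) := Module.compHom (A.carrier q) (X.res h)
  haveI : IsScalarTower (X.ring p) (X.ring q) (A.carrier q) :=
    IsScalarTower.of_algebraMap_smul fun _ _ => rfl
  have h1 : IsBaseChange (X.ring q) ({ toFun := (tensAlg B C).toMod.res h, map_add' := ((tensAlg B C).toMod.res h).map_add, map_smul' := ((tensAlg B C).toMod.res h).map_smulₛₗ } : (B.carrier p ⊗[X.ring p] C.carrier p) →ₗ[X.ring p] (B.carrier q ⊗[X.ring q] C.carrier q)) :=
    hT
  have h0 : IsBaseChange (X.ring q) ({ toFun := A.toMod.res h, map_add' := (A.toMod.res h).map_add, map_smul' := (A.toMod.res h).map_smulₛₗ } : A.carrier p →ₗ[X.ring p] A.carrier q) :=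
    hA p q h
  show IsBaseChange (X.ring q) ({ toFun := (poAlg f g).toMod.res h, map_add' := ((poAlg f g).toMod.res h).map_add, map_smul' := ((poAlg f g).toMod.res h).map_smulₛₗ } : ((B.carrier p ⊗[X.ring p] C.carrier p) ⧸ poIdeal (f.app p) (g.app p)) →ₗ[X.ring p] ((B.carrier q ⊗[X.ring q] C.carrier q) ⧸ poIdeal (f.app q) (g.app q)))
  refine isBaseChange_quot_gen _ h1 _
    (Ideal.Quotient.mkₐ (X.ring p) (poIdeal (f.app p) (g.app p))).toLinearMap
    (Ideal.Quotient.mkₐ (X.ring q) (poIdeal (f.app q) (g.app q))).toLinearMap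
    Ideal.Quotient.mk_surjective Ideal.Quotient.mk_surjective (fun m => ?_) (fun x hx => ?_)
  · show Ideal.quotientMap _ ((tensAlg B C).res h) (poIdeal_compat f g h)
        (Ideal.Quotient.mk _ m) = Ideal.Quotient.mk _ ((tensAlg B C).res h m)
    exact Ideal.quotientMap_mk
  · have hx' : x ∈ poIdeal (f.app q) (g.app q) := Ideal.Quotient.eq_zero_iff_mem.mp hx
    have h3 := poIdeal_le_span (f.app p) (g.app p) (f.app q) (g.app q) _ h0 _ h1
      (fun x y => map_mul ((tensAlg B C).res h) x y) (fun a => tensAlg_res_gen f g h a) x hx'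
    refine Submodule.span_mono ?_ h3
    rintro _ ⟨j, hj, rfl⟩
    exact ⟨j, Ideal.Quotient.eq_zero_iff_mem.mpr hj, rfl⟩

theorem isEtCover_poAlg (hX : X.IsFinSp) {A B C : Alg X} (hA : A.IsEtCover) (hB : B.IsEtCover)
    (hC : C.IsEtCover) (f : A ⟶ B) (g : A ⟶ C) : (poAlg f g).IsEtCover := by
  refine ⟨isQcoh_poAlg hA.1 hB.1 hC.1 f g, fun p => ?_⟩
  haveI := hX.1 p
  haveI := (hB.2 p).1
  haveI := (hC.2 p).1
  haveI := (hA.2 p).2
  haveI := (hB.2 p).2
  haveI := (hC.2 p).2
  exact po_etale (f.app p) (g.app p)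

def poInlHom {A B C : Alg X} (f : A ⟶ B) (g : A ⟶ C) : B ⟶ poAlg f g :=
  ⟨fun p => poInl (f.app p) (g.app p), fun {p q} h b => by
    show Ideal.quotientMap _ ((tensAlg B C).res h) (poIdeal_compat f g h)
      (Ideal.Quotient.mk _ (b ⊗ₜ[X.ring p] 1)) = Ideal.Quotient.mk _ (B.res h b ⊗ₜ[X.ring q] 1)
    rw [Ideal.quotientMap_mk, tensAlg_res_tmul, map_one]⟩

def poInrHom {A B C : Alg X} (f : A ⟶ B) (g : A ⟶ C) : C ⟶ poAlg f g :=
  ⟨fun p => poInr (f.app p) (g.app p), fun {p q} h c => by
    show Ideal.quotientMap _ ((tensAlg B C).res h) (poIdeal_compat f g h)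
      (Ideal.Quotient.mk _ (1 ⊗ₜ[X.ring p] c)) = Ideal.Quotient.mk _ (1 ⊗ₜ[X.ring q] C.res h c)
    rw [Ideal.quotientMap_mk, tensAlg_res_tmul, map_one]⟩

theorem poHom_comm {A B C : Alg X} (f : A ⟶ B) (g : A ⟶ C) :
    f ≫ poInlHom f g = g ≫ poInrHom f g := by
  apply Alg.hom_ext
  intro p
  apply AlgHom.ext
  intro a
  exact po_comm (f.app p) (g.app p) a

theorem poDesc_compat {A B C D : Alg X} (f : A ⟶ B) (g : A ⟶ C) (u : B ⟶ D) (v : C ⟶ D)
    {p q : X.pt} (h : p ≤ q) (hp : ∀ a, u.app p (f.app p a) = v.app p (g.app p a))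
    (hq : ∀ a, u.app q (f.app q a) = v.app q (g.app q a))
    (t : B.carrier p ⊗[X.ring p] C.carrier p) :
    D.res h (poDesc (f.app p) (g.app p) (u.app p) (v.app p) hp (Ideal.Quotient.mk _ t)) =
      poDesc (f.app q) (g.app q) (u.app q) (v.app q) hq
        (Ideal.Quotient.mk _ ((tensAlg B C).res h t)) := by
  induction t using TensorProduct.induction_on with
  | zero => simp only [map_zero]
  | tmul b c => rw [poDesc_mk, tensAlg_res_tmul, poDesc_mk, map_mul, u.compat, v.compat]
  | add x y hx hy => simp only [map_add, hx, hy]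

def poDescHom {A B C D : Alg X} (f : A ⟶ B) (g : A ⟶ C) (u : B ⟶ D) (v : C ⟶ D)
    (huv : f ≫ u = g ≫ v) : poAlg f g ⟶ D :=
  ⟨fun p => poDesc (f.app p) (g.app p) (u.app p) (v.app p)
      (fun a => congrArg (fun k => k.app p a) huv),
    fun {p q} h x => by
      obtain ⟨t, rfl⟩ := Ideal.Quotient.mk_surjective x
      exact poDesc_compat f g u v h (fun a => congrArg (fun k => k.app p a) huv)
        (fun a => congrArg (fun k => k.app q a) huv) t⟩

/-- the structure algebra maps uniquely to every algebra -/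
def strTo (T : Alg X) : Alg.str X ⟶ T :=
  ⟨fun p => Algebra.ofId (X.ring p) (T.carrier p), fun h a => T.res_algebraMap h a⟩

theorem main15621 (X : RSpace.{u}) (hX : X.IsSchematic) :
    HasInitial (FEt X) ∧ HasPushouts (FEt X) := by
  have hfin : X.IsFinSp := hX.1
  constructor
  · let I : FEt X := ⟨Alg.str X, isEtCover_str X⟩
    have hI : IsInitial I := IsInitial.ofUniqueHom
      (fun T => ObjectProperty.homMk (strTo T.obj))
      (fun T m => by
        apply ObjectProperty.hom_ext
        apply Alg.hom_ext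
        intro p
        apply AlgHom.ext
        intro a
        exact (m.hom.app p).commutes a)
    exact hI.hasInitial
  · haveI : ∀ {A B C : FEt X} {f : A ⟶ B} {g : A ⟶ C}, HasColimit (span f g) := by
      intro A B C f g
      let P : FEt X := ⟨poAlg f.hom g.hom,
        isEtCover_poAlg hfin A.property B.property C.property f.hom g.hom⟩
      let inl : B ⟶ P := ObjectProperty.homMk (poInlHom f.hom g.hom)
      let inr : C ⟶ P := ObjectProperty.homMk (poInrHom f.hom g.hom)
      have comm : f ≫ inl = g ≫ inr := by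
        apply ObjectProperty.hom_ext
        exact poHom_comm f.hom g.hom
      refine HasColimit.mk ⟨PushoutCocone.mk inl inr comm, PushoutCocone.IsColimit.mk comm
        (fun s => ObjectProperty.homMk (poDescHom f.hom g.hom s.inl.hom s.inr.hom
          (congrArg (fun k => k.hom) s.condition))) ?_ ?_ ?_⟩
      · intro s
        apply ObjectProperty.hom_ext
        apply Alg.hom_ext
        intro p
        apply AlgHom.ext
        intro b
        exact poDesc_inl (f.hom.app p) (g.hom.app p) (s.inl.hom.app p) (s.inr.hom.app p)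
          (fun a => congrArg (fun k => k.hom.app p a) s.condition) b
      · intro s
        apply ObjectProperty.hom_ext
        apply Alg.hom_ext
        intro p
        apply AlgHom.ext
        intro c
        exact poDesc_inr (f.hom.app p) (g.hom.app p) (s.inl.hom.app p) (s.inr.hom.app p)
          (fun a => congrArg (fun k => k.hom.app p a) s.condition) c
      · intro s m hm1 hm2
        apply ObjectProperty.hom_ext
        apply Alg.hom_ext
        intro p
        apply po_ext
        · intro b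
          refine Eq.trans ?_
            (poDesc_inl (f.hom.app p) (g.hom.app p) (s.inl.hom.app p) (s.inr.hom.app p)
              (fun a => congrArg (fun k => k.hom.app p a) s.condition) b).symm
          exact congrArg (fun k => k.hom.app p b) hm1
        · intro c
          refine Eq.trans ?_
            (poDesc_inr (f.hom.app p) (g.hom.app p) (s.inl.hom.app p) (s.inr.hom.app p)
              (fun a => congrArg (fun k => k.hom.app p a) s.condition) c).symm
          exact congrArg (fun k => k.hom.app p c) hm2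
    exact hasPushouts_of_hasColimit_span _

end TensAlg

end Groth.Agent.Lib.SchFinFEtH6
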