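import Mathlib
import Groth.Prelude.Def_SchFin
import Groth.Prelude.Def_SchFin2
import Groth.Agent.Lib.SchFinPO2_helper6
import Groth.Agent.Lib.SchFinFib1_helper6
set_option autoImplicit false
universe u

/-!
# The fibre functor of étale covers of a finite ringed poset: exactness properties (helper6)
-/

open TensorProduct CategoryTheory CategoryTheory.Limits SchFin Opposite

namespace Groth.Agent.Lib.SchFinFEtH6

section FEtAPI

variable {X : RSpace.{u}}

/-- the structure algebra as an étale cover -/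
def strFEt (X : RSpace.{u}) : FEt X := ⟨Alg.str X, isEtCover_str X⟩

def strFEtIsInitial (X : RSpace.{u}) : IsInitial (strFEt X) :=
  IsInitial.ofUniqueHom (fun T => ObjectProperty.homMk (strTo T.obj))
    (fun T m => by
      apply ObjectProperty.hom_ext
      apply Alg.hom_ext
      intro p
      apply AlgHom.ext
      intro a
      exact (m.hom.app p).commutes a)

/-- the zero algebra as an étale cover -/
def zeroFEt (X : RSpace.{u}) : FEt X := ⟨zeroAlg X, isEtCover_zeroAlg X⟩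

def zeroFEtIsTerminal (X : RSpace.{u}) : IsTerminal (zeroFEt X) :=
  IsTerminal.ofUniqueHom (fun T => ObjectProperty.homMk (toZero T.obj))
    (fun T m => by
      apply ObjectProperty.hom_ext
      apply Alg.hom_ext
      intro p
      apply AlgHom.ext
      intro t
      rfl)

/-- the product of two étale covers -/
def prodFEt (A B : FEt X) : FEt X :=
  ⟨prodAlg A.obj B.obj, isEtCover_prodAlg A.property B.property⟩

def prodFEtFst (A B : FEt X) : prodFEt A B ⟶ A := ObjectProperty.homMk (prodFst A.obj B.obj)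

def prodFEtSnd (A B : FEt X) : prodFEt A B ⟶ B := ObjectProperty.homMk (prodSnd A.obj B.obj)

def prodFEtLift {A B T : FEt X} (u : T ⟶ A) (v : T ⟶ B) : T ⟶ prodFEt A B :=
  ObjectProperty.homMk (prodLift u.hom v.hom)

theorem prodFEtLift_fst {A B T : FEt X} (u : T ⟶ A) (v : T ⟶ B) :
    prodFEtLift u v ≫ prodFEtFst A B = u := by
  apply ObjectProperty.hom_ext
  apply Alg.hom_ext
  intro p
  apply AlgHom.ext
  intro t
  rfl

theorem prodFEtLift_snd {A B T : FEt X} (u : T ⟶ A) (v : T ⟶ B) :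
    prodFEtLift u v ≫ prodFEtSnd A B = v := by
  apply ObjectProperty.hom_ext
  apply Alg.hom_ext
  intro p
  apply AlgHom.ext
  intro t
  rfl

theorem prodFEt_ext {A B T : FEt X} (m m' : T ⟶ prodFEt A B)
    (h1 : m ≫ prodFEtFst A B = m' ≫ prodFEtFst A B)
    (h2 : m ≫ prodFEtSnd A B = m' ≫ prodFEtSnd A B) : m = m' := by
  apply ObjectProperty.hom_ext
  apply Alg.hom_ext
  intro p
  apply AlgHom.ext
  intro t
  refine Prod.ext ?_ ?_
  · exact congrArg (fun k => k.hom.app p t) h1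
  · exact congrArg (fun k => k.hom.app p t) h2

/-- the pushout of two maps of étale covers -/
def poFEt (hfin : X.IsFinSp) {A B C : FEt X} (f : A ⟶ B) (g : A ⟶ C) : FEt X :=
  ⟨poAlg f.hom g.hom, isEtCover_poAlg hfin A.property B.property C.property f.hom g.hom⟩

def poFEtInl (hfin : X.IsFinSp) {A B C : FEt X} (f : A ⟶ B) (g : A ⟶ C) : B ⟶ poFEt hfin f g :=
  ObjectProperty.homMk (poInlHom f.hom g.hom)

def poFEtInr (hfin : X.IsFinSp) {A B C : FEt X} (f : A ⟶ B) (g : A ⟶ C) : C ⟶ poFEt hfin f g :=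
  ObjectProperty.homMk (poInrHom f.hom g.hom)

theorem poFEt_comm (hfin : X.IsFinSp) {A B C : FEt X} (f : A ⟶ B) (g : A ⟶ C) :
    f ≫ poFEtInl hfin f g = g ≫ poFEtInr hfin f g := by
  apply ObjectProperty.hom_ext
  exact poHom_comm f.hom g.hom

def poFEtDesc (hfin : X.IsFinSp) {A B C D : FEt X} (f : A ⟶ B) (g : A ⟶ C) (u : B ⟶ D)
    (v : C ⟶ D) (huv : f ≫ u = g ≫ v) : poFEt hfin f g ⟶ D :=
  ObjectProperty.homMk (poDescHom f.hom g.hom u.hom v.hom (congrArg (fun k => k.hom) huv))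

theorem poFEtInl_desc (hfin : X.IsFinSp) {A B C D : FEt X} (f : A ⟶ B) (g : A ⟶ C) (u : B ⟶ D)
    (v : C ⟶ D) (huv : f ≫ u = g ≫ v) : poFEtInl hfin f g ≫ poFEtDesc hfin f g u v huv = u := by
  apply ObjectProperty.hom_ext
  apply Alg.hom_ext
  intro p
  apply AlgHom.ext
  intro b
  exact poDesc_inl (f.hom.app p) (g.hom.app p) (u.hom.app p) (v.hom.app p)
    (fun a => congrArg (fun k => k.hom.app p a) huv) b

theorem poFEtInr_desc (hfin : X.IsFinSp) {A B C D : FEt X} (f : A ⟶ B) (g : A ⟶ C) (u : B ⟶ D)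
    (v : C ⟶ D) (huv : f ≫ u = g ≫ v) : poFEtInr hfin f g ≫ poFEtDesc hfin f g u v huv = v := by
  apply ObjectProperty.hom_ext
  apply Alg.hom_ext
  intro p
  apply AlgHom.ext
  intro c
  exact poDesc_inr (f.hom.app p) (g.hom.app p) (u.hom.app p) (v.hom.app p)
    (fun a => congrArg (fun k => k.hom.app p a) huv) c

theorem poFEt_ext (hfin : X.IsFinSp) {A B C D : FEt X} (f : A ⟶ B) (g : A ⟶ C)
    (m m' : poFEt hfin f g ⟶ D) (h1 : poFEtInl hfin f g ≫ m = poFEtInl hfin f g ≫ m')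
    (h2 : poFEtInr hfin f g ≫ m = poFEtInr hfin f g ≫ m') : m = m' := by
  apply ObjectProperty.hom_ext
  apply Alg.hom_ext
  intro p
  apply po_ext
  · intro b
    exact congrArg (fun k => k.hom.app p b) h1
  · intro c
    exact congrArg (fun k => k.hom.app p c) h2

end FEtAPI

section Fib

variable {X : RSpace.{u}} {Ω : Type u} [Field Ω] [IsAlgClosed Ω] (ξ : GeomPt X Ω)

/-- the field of a geometric point as an algebra over the ring of its base point -/
@[reducible] def fibAlgebra : Algebra (X.ring ξ.base) Ω := ξ.toField.toAlgebra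

attribute [local instance] fibAlgebra

/-- the point of the fibre attached to an algebra map to `Ω` -/
def fibOfHom (A : Alg X) (ψ : A.carrier ξ.base →ₐ[X.ring ξ.base] Ω) : ξ.Fib A := homToFib ψ

theorem fibOfHom_bijective (A : Alg X) [Module.Finite (X.ring ξ.base) (A.carrier ξ.base)] :
    Function.Bijective (fibOfHom ξ A) := homToFib_bijective

theorem fibMap_fibOfHom {A B : Alg X} (f : A ⟶ B)
    (ψ : B.carrier ξ.base →ₐ[X.ring ξ.base] Ω) :
    ξ.fibMap f (fibOfHom ξ B ψ) = fibOfHom ξ A (ψ.comp (f.app ξ.base)) :=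
  comap_homToFib (f.app ξ.base) ψ

theorem fib_str_unique : ∃ x₀ : ξ.Fib (Alg.str X), ∀ x : ξ.Fib (Alg.str X), x = x₀ := by
  haveI : Module.Finite (X.ring ξ.base) ((Alg.str X).carrier ξ.base) :=
    ((isEtCover_str X).2 ξ.base).1
  have hbij := fibOfHom_bijective ξ (Alg.str X)
  refine ⟨fibOfHom ξ (Alg.str X) (Algebra.ofId _ _), fun x => ?_⟩
  obtain ⟨φ, rfl⟩ := hbij.2 x
  exact congrArg (fibOfHom ξ (Alg.str X)) (hom_self_eq φ _)

theorem fib_zero_false (x : ξ.Fib (zeroAlg X)) : False := by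
  haveI : Module.Finite (X.ring ξ.base) ((zeroAlg X).carrier ξ.base) :=
    ((isEtCover_zeroAlg X).2 ξ.base).1
  obtain ⟨φ, -⟩ := (fibOfHom_bijective ξ (zeroAlg X)).2 x
  exact hom_punit_false φ

theorem fib_pushout (hfin : X.IsFinSp) {A B C : FEt X} (f : A ⟶ B) (g : A ⟶ C)
    (y : ξ.Fib B.obj) (z : ξ.Fib C.obj) (hyz : ξ.fibMap f.hom y = ξ.fibMap g.hom z) :
    ∃! x : ξ.Fib (poFEt hfin f g).obj,
      ξ.fibMap (poFEtInl hfin f g).hom x = y ∧ ξ.fibMap (poFEtInr hfin f g).hom x = z := by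
  haveI := (A.property.2 ξ.base).1
  haveI := (B.property.2 ξ.base).1
  haveI := (C.property.2 ξ.base).1
  haveI : Module.Finite (X.ring ξ.base) ((poFEt hfin f g).obj.carrier ξ.base) :=
    ((poFEt hfin f g).property.2 ξ.base).1
  obtain ⟨β, rfl⟩ := (fibOfHom_bijective ξ B.obj).2 y
  obtain ⟨γ, rfl⟩ := (fibOfHom_bijective ξ C.obj).2 z
  rw [fibMap_fibOfHom, fibMap_fibOfHom] at hyz
  have h1 : β.comp (f.hom.app ξ.base) = γ.comp (g.hom.app ξ.base) :=
    (fibOfHom_bijective ξ A.obj).1 hyz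
  have h2 : ∀ a, β (f.hom.app ξ.base a) = γ (g.hom.app ξ.base a) := fun a => AlgHom.congr_fun h1 a
  refine ⟨fibOfHom ξ (poFEt hfin f g).obj
    (poDesc (f.hom.app ξ.base) (g.hom.app ξ.base) β γ h2), ⟨?_, ?_⟩, ?_⟩
  · rw [fibMap_fibOfHom]
    congr 1
    apply AlgHom.ext
    intro b
    exact poDesc_inl _ _ _ _ h2 b
  · rw [fibMap_fibOfHom]
    congr 1
    apply AlgHom.ext
    intro c
    exact poDesc_inr _ _ _ _ h2 c
  · rintro x' ⟨hx1, hx2⟩
    obtain ⟨χ', rfl⟩ := (fibOfHom_bijective ξ (poFEt hfin f g).obj).2 x'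
    rw [fibMap_fibOfHom] at hx1 hx2
    have h3 := (fibOfHom_bijective ξ B.obj).1 hx1
    have h4 := (fibOfHom_bijective ξ C.obj).1 hx2
    congr 1
    apply po_ext
    · intro b
      rw [poDesc_inl]
      exact AlgHom.congr_fun h3 b
    · intro c
      rw [poDesc_inr]
      exact AlgHom.congr_fun h4 c

theorem fib_prod (A B : FEt X) :
    Function.Injective (ξ.fibMap (prodFEtFst A B).hom) ∧
    Function.Injective (ξ.fibMap (prodFEtSnd A B).hom) ∧
    (∀ x : ξ.Fib (prodFEt A B).obj, (∃ y, ξ.fibMap (prodFEtFst A B).hom y = x) ∨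
      (∃ z, ξ.fibMap (prodFEtSnd A B).hom z = x)) ∧
    (∀ y z, ξ.fibMap (prodFEtFst A B).hom y ≠ ξ.fibMap (prodFEtSnd A B).hom z) := by
  haveI := (A.property.2 ξ.base).1
  haveI := (B.property.2 ξ.base).1
  haveI : Module.Finite (X.ring ξ.base) ((prodFEt A B).obj.carrier ξ.base) :=
    ((prodFEt A B).property.2 ξ.base).1
  refine ⟨?_, ?_, ?_, ?_⟩
  · intro y y' h
    obtain ⟨α, rfl⟩ := (fibOfHom_bijective ξ A.obj).2 y
    obtain ⟨α', rfl⟩ := (fibOfHom_bijective ξ A.obj).2 y'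
    rw [fibMap_fibOfHom, fibMap_fibOfHom] at h
    have h1 := (fibOfHom_bijective ξ (prodFEt A B).obj).1 h
    congr 1
    apply AlgHom.ext
    intro a
    exact AlgHom.congr_fun h1 ((a, 0) : A.obj.carrier ξ.base × B.obj.carrier ξ.base)
  · intro y y' h
    obtain ⟨α, rfl⟩ := (fibOfHom_bijective ξ B.obj).2 y
    obtain ⟨α', rfl⟩ := (fibOfHom_bijective ξ B.obj).2 y'
    rw [fibMap_fibOfHom, fibMap_fibOfHom] at h
    have h1 := (fibOfHom_bijective ξ (prodFEt A B).obj).1 h
    congr 1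
    apply AlgHom.ext
    intro b
    exact AlgHom.congr_fun h1 ((0, b) : A.obj.carrier ξ.base × B.obj.carrier ξ.base)
  · intro x
    obtain ⟨χ, rfl⟩ := (fibOfHom_bijective ξ (prodFEt A B).obj).2 x
    rcases prod_hom_cases χ with ⟨α, hα⟩ | ⟨β, hβ⟩
    · left
      refine ⟨fibOfHom ξ A.obj α, ?_⟩
      rw [fibMap_fibOfHom, hα]
      rfl
    · right
      refine ⟨fibOfHom ξ B.obj β, ?_⟩
      rw [fibMap_fibOfHom, hβ]
      rfl
  · intro y z h
    obtain ⟨α, rfl⟩ := (fibOfHom_bijective ξ A.obj).2 y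
    obtain ⟨β, rfl⟩ := (fibOfHom_bijective ξ B.obj).2 z
    rw [fibMap_fibOfHom, fibMap_fibOfHom] at h
    have h1 := (fibOfHom_bijective ξ (prodFEt A B).obj).1 h
    exact prod_hom_disjoint α β h1

theorem fib_surjective_of_injective {A B : FEt X} (f : A ⟶ B)
    (hf : Function.Injective (f.hom.app ξ.base)) : Function.Surjective (ξ.fibMap f.hom) := by
  haveI := (A.property.2 ξ.base).1
  haveI := (B.property.2 ξ.base).1
  intro y
  obtain ⟨φ, rfl⟩ := (fibOfHom_bijective ξ A.obj).2 y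
  obtain ⟨ψ, hψ⟩ := exists_extend_hom (f.hom.app ξ.base) hf φ
  refine ⟨fibOfHom ξ B.obj ψ, ?_⟩
  rw [fibMap_fibOfHom, hψ]

end Fib

end Groth.Agent.Lib.SchFinFEtH6
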