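import Mathlib
import Groth.Prelude.Def_SchFin
import Groth.Prelude.Def_SchFin2
import Groth.Agent.Lib.SchFinFib2_helper6
set_option autoImplicit false
universe u

/-!
# The fibre functor of étale covers preserves finite limits, finite coproducts, epimorphisms
(helper6)
-/

open TensorProduct CategoryTheory CategoryTheory.Limits SchFin Opposite

namespace Groth.Agent.Lib.SchFinFEtH6

section Pres

variable {X : RSpace.{u}} {Ω : Type u} [Field Ω] [IsAlgClosed Ω] (ξ : GeomPt X Ω)

theorem fibFunctor_map_apply {A' B' : (FEt X)ᵒᵖ} (f' : A' ⟶ B') (x : ξ.Fib A'.unop.obj) :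
    (ξ.fibFunctor.map f') x = ξ.fibMap f'.unop.hom x := rfl

theorem preservesTerminal : PreservesLimitsOfShape (Discrete PEmpty.{1}) ξ.fibFunctor := by
  have hT : IsTerminal (op (strFEt X)) := terminalOpOfInitial (strFEtIsInitial X)
  obtain ⟨x₀, hx₀⟩ := fib_str_unique ξ
  have hT' : IsTerminal (ξ.fibFunctor.obj (op (strFEt X))) :=
    IsTerminal.ofUniqueHom (fun Y => FintypeCat.homMk (fun _ => x₀)) (fun Y m => by
      apply FintypeCat.hom_ext
      intro y
      exact hx₀ _)
  haveI : PreservesLimit (Functor.empty.{0} (FEt X)ᵒᵖ) ξ.fibFunctor :=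
    preservesLimit_of_preserves_limit_cone hT
      ((isLimitMapConeEmptyConeEquiv ξ.fibFunctor (op (strFEt X))).symm hT')
  exact preservesLimitsOfShape_pempty_of_preservesTerminal ξ.fibFunctor

theorem preservesInitial : PreservesColimitsOfShape (Discrete PEmpty.{1}) ξ.fibFunctor := by
  have hI : IsInitial (op (zeroFEt X)) := initialOpOfTerminal (zeroFEtIsTerminal X)
  have hI' : IsInitial (ξ.fibFunctor.obj (op (zeroFEt X))) :=
    IsInitial.ofUniqueHom
      (fun Y => FintypeCat.homMk (fun x => (fib_zero_false ξ x).elim)) (fun Y m => by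
      apply FintypeCat.hom_ext
      intro x
      exact (fib_zero_false ξ x).elim)
  haveI : PreservesColimit (Functor.empty.{0} (FEt X)ᵒᵖ) ξ.fibFunctor :=
    preservesColimit_of_preserves_colimit_cocone hI
      ((isColimitMapCoconeEmptyCoconeEquiv ξ.fibFunctor (op (zeroFEt X))).symm hI')
  exact preservesColimitsOfShape_pempty_of_preservesInitial ξ.fibFunctor

theorem preservesPullback_cospan (hfin : X.IsFinSp) {A' B' C' : (FEt X)ᵒᵖ} (f' : A' ⟶ C')
    (g' : B' ⟶ C') : PreservesLimit (cospan f' g') ξ.fibFunctor := by
  have comm : (poFEtInl hfin f'.unop g'.unop).op ≫ f' = (poFEtInr hfin f'.unop g'.unop).op ≫ g' :=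
    congrArg Quiver.Hom.op (poFEt_comm hfin f'.unop g'.unop)
  have hs : ∀ s : PullbackCone f' g', f'.unop ≫ s.fst.unop = g'.unop ≫ s.snd.unop :=
    fun s => congrArg Quiver.Hom.unop s.condition
  have hlim : IsLimit (PullbackCone.mk _ _ comm) :=
    PullbackCone.IsLimit.mk comm
      (fun s => (poFEtDesc hfin f'.unop g'.unop s.fst.unop s.snd.unop (hs s)).op)
      (fun s => by
        apply Quiver.Hom.unop_inj
        exact poFEtInl_desc hfin f'.unop g'.unop s.fst.unop s.snd.unop (hs s))
      (fun s => by
        apply Quiver.Hom.unop_inj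
        exact poFEtInr_desc hfin f'.unop g'.unop s.fst.unop s.snd.unop (hs s))
      (fun s m hm1 hm2 => by
        apply Quiver.Hom.unop_inj
        apply poFEt_ext hfin f'.unop g'.unop
        · refine Eq.trans ?_ (poFEtInl_desc hfin f'.unop g'.unop s.fst.unop s.snd.unop (hs s)).symm
          exact congrArg Quiver.Hom.unop hm1
        · refine Eq.trans ?_ (poFEtInr_desc hfin f'.unop g'.unop s.fst.unop s.snd.unop (hs s)).symm
          exact congrArg Quiver.Hom.unop hm2)
  have hcompat : ∀ (s : PullbackCone (ξ.fibFunctor.map f') (ξ.fibFunctor.map g')) (w : s.pt),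
      ξ.fibMap f'.unop.hom (s.fst w) = ξ.fibMap g'.unop.hom (s.snd w) := fun s w =>
    ConcreteCategory.congr_hom s.condition w
  have hlimF : IsLimit (PullbackCone.mk
      (ξ.fibFunctor.map (poFEtInl hfin f'.unop g'.unop).op)
      (ξ.fibFunctor.map (poFEtInr hfin f'.unop g'.unop).op)
      (by simp only [← Functor.map_comp, comm]) :
      PullbackCone (ξ.fibFunctor.map f') (ξ.fibFunctor.map g')) :=
    PullbackCone.IsLimit.mk _
      (fun s => FintypeCat.homMk (fun w => Classical.choose
        (fib_pushout ξ hfin f'.unop g'.unop (s.fst w) (s.snd w) (hcompat s w))))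
      (fun s => by
        apply FintypeCat.hom_ext
        intro w
        exact (Classical.choose_spec
          (fib_pushout ξ hfin f'.unop g'.unop (s.fst w) (s.snd w) (hcompat s w))).1.1)
      (fun s => by
        apply FintypeCat.hom_ext
        intro w
        exact (Classical.choose_spec
          (fib_pushout ξ hfin f'.unop g'.unop (s.fst w) (s.snd w) (hcompat s w))).1.2)
      (fun s m hm1 hm2 => by
        apply FintypeCat.hom_ext
        intro w
        exact (Classical.choose_spec
          (fib_pushout ξ hfin f'.unop g'.unop (s.fst w) (s.snd w) (hcompat s w))).2 (m w)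
            ⟨ConcreteCategory.congr_hom hm1 w, ConcreteCategory.congr_hom hm2 w⟩)
  exact preservesLimit_of_preserves_limit_cone hlim
    ((isLimitMapConePullbackConeEquiv ξ.fibFunctor comm).symm hlimF)

theorem preservesPullbacks (hfin : X.IsFinSp) :
    PreservesLimitsOfShape WalkingCospan ξ.fibFunctor := by
  constructor
  intro K
  haveI := preservesPullback_cospan ξ hfin (K.map WalkingCospan.Hom.inl)
    (K.map WalkingCospan.Hom.inr)
  exact preservesLimit_of_iso_diagram ξ.fibFunctor (diagramIsoCospan K).symm

theorem preservesCoprod_pair (A' B' : (FEt X)ᵒᵖ) :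
    PreservesColimit (pair A' B') ξ.fibFunctor := by
  have hcolim : IsColimit (BinaryCofan.mk (prodFEtFst A'.unop B'.unop).op
      (prodFEtSnd A'.unop B'.unop).op) :=
    BinaryCofan.isColimitMk
      (fun s => (prodFEtLift s.inl.unop s.inr.unop).op)
      (fun s => by
        apply Quiver.Hom.unop_inj
        exact prodFEtLift_fst s.inl.unop s.inr.unop)
      (fun s => by
        apply Quiver.Hom.unop_inj
        exact prodFEtLift_snd s.inl.unop s.inr.unop)
      (fun s m hm1 hm2 => by
        apply Quiver.Hom.unop_inj
        apply prodFEt_ext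
        · refine Eq.trans ?_ (prodFEtLift_fst s.inl.unop s.inr.unop).symm
          exact congrArg Quiver.Hom.unop hm1
        · refine Eq.trans ?_ (prodFEtLift_snd s.inl.unop s.inr.unop).symm
          exact congrArg Quiver.Hom.unop hm2)
  obtain ⟨hinj1, hinj2, hcases, hdisj⟩ := fib_prod ξ A'.unop B'.unop
  classical
  have hcolimF : IsColimit (BinaryCofan.mk
      (ξ.fibFunctor.map (prodFEtFst A'.unop B'.unop).op)
      (ξ.fibFunctor.map (prodFEtSnd A'.unop B'.unop).op)) :=
    BinaryCofan.isColimitMk
      (fun s => FintypeCat.homMk (fun x =>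
        if h : ∃ y, ξ.fibMap (prodFEtFst A'.unop B'.unop).hom y = x then
          s.inl (Classical.choose h)
        else s.inr (Classical.choose ((hcases x).resolve_left h))))
      (fun s => by
        apply FintypeCat.hom_ext
        intro y
        have h : ∃ y', ξ.fibMap (prodFEtFst A'.unop B'.unop).hom y' =
            ξ.fibMap (prodFEtFst A'.unop B'.unop).hom y := ⟨y, rfl⟩
        show (if h : ∃ y', ξ.fibMap (prodFEtFst A'.unop B'.unop).hom y' =
            ξ.fibMap (prodFEtFst A'.unop B'.unop).hom y then
          s.inl (Classical.choose h)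
          else s.inr (Classical.choose ((hcases _).resolve_left h))) = s.inl y
        rw [dif_pos h]
        exact congrArg s.inl (hinj1 (Classical.choose_spec h)))
      (fun s => by
        apply FintypeCat.hom_ext
        intro z
        have h : ¬ ∃ y', ξ.fibMap (prodFEtFst A'.unop B'.unop).hom y' =
            ξ.fibMap (prodFEtSnd A'.unop B'.unop).hom z := fun ⟨y', hy'⟩ => hdisj y' z hy'
        show (if h : ∃ y', ξ.fibMap (prodFEtFst A'.unop B'.unop).hom y' =
            ξ.fibMap (prodFEtSnd A'.unop B'.unop).hom z then
          s.inl (Classical.choose h)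
          else s.inr (Classical.choose ((hcases _).resolve_left h))) = s.inr z
        rw [dif_neg h]
        exact congrArg s.inr (hinj2 (Classical.choose_spec ((hcases _).resolve_left h))))
      (fun s m hm1 hm2 => by
        apply FintypeCat.hom_ext
        intro x
        show m x = (if h : ∃ y', ξ.fibMap (prodFEtFst A'.unop B'.unop).hom y' = x then
          s.inl (Classical.choose h)
          else s.inr (Classical.choose ((hcases x).resolve_left h)))
        by_cases h : ∃ y', ξ.fibMap (prodFEtFst A'.unop B'.unop).hom y' = x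
        · rw [dif_pos h]
          have h1 := ConcreteCategory.congr_hom hm1 (Classical.choose h)
          refine Eq.trans ?_ h1
          exact congrArg m (Classical.choose_spec h).symm
        · rw [dif_neg h]
          have h1 := ConcreteCategory.congr_hom hm2
            (Classical.choose ((hcases x).resolve_left h))
          refine Eq.trans ?_ h1
          exact congrArg m (Classical.choose_spec ((hcases x).resolve_left h)).symm)
  exact preservesColimit_of_preserves_colimit_cocone hcolim
    ((isColimitMapCoconeBinaryCofanEquiv ξ.fibFunctor _ _).symm hcolimF)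

theorem preservesBinaryCoproducts :
    PreservesColimitsOfShape (Discrete WalkingPair) ξ.fibFunctor := by
  constructor
  intro K
  haveI := preservesCoprod_pair ξ (K.obj ⟨WalkingPair.left⟩) (K.obj ⟨WalkingPair.right⟩)
  exact preservesColimit_of_iso_diagram ξ.fibFunctor (diagramIsoPair K).symm

theorem preservesFiniteCoproducts : PreservesFiniteCoproducts ξ.fibFunctor := by
  haveI := preservesBinaryCoproducts ξ
  haveI := preservesInitial ξ
  haveI : HasFiniteProducts (FEt X) := by
    haveI := (main15622 X).1
    haveI := (main15622 X).2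
    exact hasFiniteProducts_of_has_binary_and_terminal
  haveI : HasFiniteCoproducts (FEt X)ᵒᵖ := inferInstance
  exact ⟨fun n => preservesShape_fin_of_preserves_binary_and_initial ξ.fibFunctor n⟩

theorem preservesEpis (hX : X.IsSchematic) : ξ.fibFunctor.PreservesEpimorphisms := by
  constructor
  intro A' B' f' hf'
  haveI : Mono f'.unop := unop_mono_of_epi f'
  have hinj := main15626 hX f'.unop ξ.base
  have hsurj := fib_surjective_of_injective ξ f'.unop hinj
  apply ConcreteCategory.epi_of_surjective
  exact hsurj

theorem main15633 (hX : X.IsSchematic) :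
    PreservesLimitsOfShape (Discrete PEmpty.{1}) ξ.fibFunctor ∧
      PreservesLimitsOfShape WalkingCospan ξ.fibFunctor ∧
      PreservesFiniteCoproducts ξ.fibFunctor ∧ ξ.fibFunctor.PreservesEpimorphisms :=
  ⟨preservesTerminal ξ, preservesPullbacks ξ hX.1, preservesFiniteCoproducts ξ,
    preservesEpis ξ hX⟩

end Pres

end Groth.Agent.Lib.SchFinFEtH6
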