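import Mathlib
import Groth.Prelude.Def_SchFin
import Groth.Prelude.Def_SchFin2
import Groth.Agent.Lib.SchFinFib3_helper6
import Groth.Agent.S15630
set_option autoImplicit false
universe u

/-!
# The fibre functor of étale covers reflects isomorphisms (helper6)
-/

open TensorProduct CategoryTheory CategoryTheory.Limits SchFin Opposite

namespace Groth.Agent.Lib.SchFinFEtH6

section RankRing

/-- an algebra trivialised by a faithfully flat base change has constant rank -/
theorem rankAtStalk_of_trivial {R W A : Type u} [CommRing R] [CommRing W] [CommRing A]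
    [Algebra R W] [Algebra R A] [Module.FaithfullyFlat R W] [Module.Finite R A]
    [Module.Flat R A] (n : ℕ) (e : W ⊗[R] A ≃ₐ[W] (Fin n → W)) (P : PrimeSpectrum R) :
    Module.rankAtStalk A P = n := by
  obtain ⟨Q, rfl⟩ := PrimeSpectrum.comap_surjective_of_faithfullyFlat (B := W) P
  haveI : Nontrivial W := Q.nontrivial
  rw [← Module.rankAtStalk_baseChange (S := W) Q,
    Module.rankAtStalk_eq_of_equiv e.toLinearEquiv, Module.rankAtStalk_eq_finrank_of_free]
  simp

/-- the number of points of the geometric fibre of a finite étale algebra of constant rank -/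
theorem card_spec_tensor {R A Ω : Type u} [CommRing R] [CommRing A] [Field Ω] [IsAlgClosed Ω]
    [Algebra R Ω] [Algebra R A] [Module.Finite R A] [Algebra.Etale R A] (n : ℕ)
    (hn : ∀ P : PrimeSpectrum R, Module.rankAtStalk A P = n) :
    Nat.card (PrimeSpectrum (Ω ⊗[R] A)) = n := by
  haveI : Module.Flat R A := inferInstance
  haveI : Algebra.Etale Ω (Ω ⊗[R] A) := inferInstance
  haveI : IsArtinianRing (Ω ⊗[R] A) := IsArtinianRing.of_finite Ω _
  have e := Algebra.FormallyEtale.equivPiOfIsSepClosed Ω (Ω ⊗[R] A)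
  have h1 : Module.finrank Ω (Ω ⊗[R] A) = Nat.card (PrimeSpectrum (Ω ⊗[R] A)) := by
    rw [e.toLinearEquiv.finrank_eq]
    letI := Fintype.ofFinite (PrimeSpectrum (Ω ⊗[R] A))
    rw [Module.finrank_fintype_fun_eq_card, Nat.card_eq_fintype_card]
  obtain ⟨p⟩ : Nonempty (PrimeSpectrum Ω) := inferInstance
  have h2 := Module.rankAtStalk_baseChange (R := R) (M := A) (S := Ω) p
  rw [hn, Module.rankAtStalk_eq_finrank_of_free] at h2
  rw [← h1]
  exact h2

end RankRing

section Refl

variable {X : RSpace.{u}} {Ω : Type u} [Field Ω] [IsAlgClosed Ω] (ξ : GeomPt X Ω)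

attribute [local instance] fibAlgebra

theorem rank_const (A : FEt X) (W : Alg X) (n : ℕ) (hW : W.IsCovering)
    (htriv : ∀ p : X.pt, Nonempty (TensorProduct (X.ring p) (W.carrier p) (A.obj.carrier p)
      ≃ₐ[W.carrier p] (Fin n → W.carrier p)))
    (p : X.pt) (P : PrimeSpectrum (X.ring p)) :
    Module.rankAtStalk (A.obj.carrier p) P = n := by
  haveI := (hW.2 p).2
  haveI := (A.property.2 p).1
  haveI := (A.property.2 p).2
  haveI : Module.Flat (X.ring p) (A.obj.carrier p) := inferInstance
  obtain ⟨e⟩ := htriv p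
  exact rankAtStalk_of_trivial n e P

theorem card_fib (A : FEt X) (n : ℕ)
    (hn : ∀ P : PrimeSpectrum (X.ring ξ.base), Module.rankAtStalk (A.obj.carrier ξ.base) P = n) :
    Nat.card (ξ.Fib A.obj) = n := by
  haveI := (A.property.2 ξ.base).1
  haveI := (A.property.2 ξ.base).2
  exact card_spec_tensor n hn

theorem idem_hJ (A : Alg X) (e : ∀ p, A.carrier p)
    (hres : ∀ {p q : X.pt} (h : p ≤ q), A.res h (e p) = e q) {p q : X.pt} (h : p ≤ q) :
    Ideal.span {1 - e p} ≤ (Ideal.span {1 - e q}).comap (A.res h) := by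
  rw [Ideal.span_le]
  intro x hx
  rw [Set.mem_singleton_iff] at hx
  subst hx
  show A.res h (1 - e p) ∈ Ideal.span {1 - e q}
  rw [map_sub, map_one, hres h]
  exact Ideal.subset_span rfl

/-- the direct factor of an étale cover cut out by a compatible family of idempotents -/
def idemQuot (A : FEt X) (e : ∀ p, A.obj.carrier p) (he : ∀ p, IsIdempotentElem (e p))
    (hres : ∀ {p q : X.pt} (h : p ≤ q), A.obj.res h (e p) = e q) : FEt X :=
  ⟨quotAlg A.obj (fun p => Ideal.span {1 - e p}) (fun {_ _} h => idem_hJ A.obj e hres h), by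
    refine ⟨isQcoh_quotAlg_idem A.obj A.property.1 e hres
      (fun {_ _} h => idem_hJ A.obj e hres h), fun p => ⟨?_, ?_⟩⟩
    · haveI := (A.property.2 p).1
      exact Module.Finite.of_surjective
        (Ideal.Quotient.mkₐ (X.ring p) (Ideal.span {1 - e p})).toLinearMap
        Ideal.Quotient.mk_surjective
    · haveI := (A.property.2 p).2
      exact etale_quot_idem (e p) (he p)⟩

def idemQuotMk (A : FEt X) (e : ∀ p, A.obj.carrier p) (he : ∀ p, IsIdempotentElem (e p))
    (hres : ∀ {p q : X.pt} (h : p ≤ q), A.obj.res h (e p) = e q) : A ⟶ idemQuot A e he hres :=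
  ObjectProperty.homMk (quotMk A.obj (fun p => Ideal.span {1 - e p})
    (fun {_ _} h => idem_hJ A.obj e hres h))

theorem idemQuotMk_e (A : FEt X) (e : ∀ p, A.obj.carrier p) (he : ∀ p, IsIdempotentElem (e p))
    (hres : ∀ {p q : X.pt} (h : p ≤ q), A.obj.res h (e p) = e q) (p : X.pt) :
    (idemQuotMk A e he hres).hom.app p (e p) = 1 := by
  show Ideal.Quotient.mk (Ideal.span {1 - e p}) (e p) = 1
  rw [← map_one (Ideal.Quotient.mk (Ideal.span {1 - e p})), eq_comm, Ideal.Quotient.eq]
  exact Ideal.subset_span rfl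

theorem isIso_of_fib_bijective (hX : X.IsSchematic) (hwc : X.IsWellConnected)
    (hlt : ∀ A : FEt X, ∃ (B : Alg X) (n : ℕ), B.IsCovering ∧
      ∀ p : X.pt, Nonempty (TensorProduct (X.ring p) (B.carrier p) (A.obj.carrier p)
        ≃ₐ[B.carrier p] (Fin n → B.carrier p)))
    {B A : FEt X} (f : B ⟶ A) (hbij : Function.Bijective (ξ.fibMap f.hom)) : IsIso f := by
  have hfin : X.IsFinSp := hX.1
  obtain ⟨e, he, hker, hres⟩ := exists_idem_family hfin f
  have hfe : ∀ p, f.hom.app p (e p) = 0 := by
    intro p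
    have : e p ∈ RingHom.ker (f.hom.app p) := hker p ▸ Ideal.subset_span rfl
    exact this
  haveI := (A.property.2 ξ.base).1
  haveI := (B.property.2 ξ.base).1
  -- the complement has empty fibre
  have hempty : IsEmpty (ξ.Fib (idemQuot B e he hres).obj) := by
    constructor
    intro z
    haveI : Module.Finite (X.ring ξ.base) ((idemQuot B e he hres).obj.carrier ξ.base) :=
      ((idemQuot B e he hres).property.2 ξ.base).1
    obtain ⟨δ, rfl⟩ := (fibOfHom_bijective ξ (idemQuot B e he hres).obj).2 z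
    obtain ⟨y, hy⟩ := hbij.2 (fibOfHom ξ B.obj
      (δ.comp ((idemQuotMk B e he hres).hom.app ξ.base)))
    obtain ⟨α, rfl⟩ := (fibOfHom_bijective ξ A.obj).2 y
    rw [fibMap_fibOfHom] at hy
    have h1 := (fibOfHom_bijective ξ B.obj).1 hy
    have h2 := AlgHom.congr_fun h1 (e ξ.base)
    have h3 : α (f.hom.app ξ.base (e ξ.base)) =
        δ ((idemQuotMk B e he hres).hom.app ξ.base (e ξ.base)) := h2
    rw [hfe, idemQuotMk_e, map_zero, map_one] at h3
    exact zero_ne_one h3
  obtain ⟨W', n', hW', ht'⟩ := hlt (idemQuot B e he hres)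
  have hn' : n' = 0 := by
    rw [← card_fib ξ (idemQuot B e he hres) n'
      (rank_const (idemQuot B e he hres) W' n' hW' ht' ξ.base)]
    exact Nat.card_of_isEmpty
  have hzero : ∀ p, Subsingleton ((idemQuot B e he hres).obj.carrier p) := by
    intro p
    haveI := ((idemQuot B e he hres).property.2 p).1
    haveI := ((idemQuot B e he hres).property.2 p).2
    haveI : Module.Flat (X.ring p) ((idemQuot B e he hres).obj.carrier p) := inferInstance
    rw [← Module.rankAtStalk_eq_zero_iff_subsingleton (R := X.ring p)]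
    ext P
    rw [rank_const (idemQuot B e he hres) W' n' hW' ht' p P, hn']
    rfl
  have he0 : ∀ p, e p = 0 := by
    intro p
    haveI := hzero p
    have h1 : Ideal.Quotient.mk (Ideal.span {1 - e p}) (e p) = 0 :=
      Subsingleton.elim (α := (idemQuot B e he hres).obj.carrier p) _ _
    rw [Ideal.Quotient.eq_zero_iff_mem, Ideal.mem_span_singleton'] at h1
    obtain ⟨c, hc⟩ := h1
    calc e p = e p * e p := (he p).eq.symm
      _ = c * (1 - e p) * e p := by rw [hc]
      _ = 0 := by rw [mul_assoc, sub_mul, one_mul, (he p).eq, sub_self, mul_zero]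
  have hinj : ∀ p, Function.Injective (f.hom.app p) := by
    intro p
    rw [injective_iff_map_eq_zero]
    intro b hb
    have h1 : b ∈ RingHom.ker (f.hom.app p) := hb
    rw [hker p, he0 p] at h1
    obtain ⟨c, hc⟩ := Ideal.mem_span_singleton'.mp h1
    rw [← hc, mul_zero]
  obtain ⟨WA, nA, hWA, htA⟩ := hlt A
  obtain ⟨WB, nB, hWB, htB⟩ := hlt B
  have hcard : nB = nA := by
    rw [← card_fib ξ A nA (rank_const A WA nA hWA htA ξ.base),
      ← card_fib ξ B nB (rank_const B WB nB hWB htB ξ.base)]
    exact (Nat.card_congr (Equiv.ofBijective _ hbij)).symm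
  exact Groth.Agent.S15630.result X hX hwc hlt f hinj (fun p P => by
    rw [rank_const B WB nB hWB htB p P, rank_const A WA nA hWA htA p P, hcard])

theorem main15631 (hX : X.IsSchematic) (hwc : X.IsWellConnected)
    (hlt : ∀ A : FEt X, ∃ (B : Alg X) (n : ℕ), B.IsCovering ∧
      ∀ p : X.pt, Nonempty (TensorProduct (X.ring p) (B.carrier p) (A.obj.carrier p)
        ≃ₐ[B.carrier p] (Fin n → B.carrier p))) :
    ξ.fibFunctor.ReflectsIsomorphisms := by
  constructor
  intro A' B' f' hiso
  have hbij : Function.Bijective (ξ.fibMap f'.unop.hom) :=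
    ConcreteCategory.bijective_of_isIso (ξ.fibFunctor.map f')
  rw [← isIso_unop_iff]
  exact isIso_of_fib_bijective ξ hX hwc hlt f'.unop hbij

end Refl

end Groth.Agent.Lib.SchFinFEtH6
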