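import Mathlib
import Groth.Agent.Lib.SchFinFEt2_helper6
set_option autoImplicit false
universe u

/-!
# Invariants of finite étale algebras under finite families of endomorphisms (helper6)

Ring-level results: flat base change of invariants, invariants of a split algebra over a ring
with only trivial idempotents, a local criterion for formal étaleness, and the étaleness of the
invariants of a finite locally split algebra.
-/

open TensorProduct

namespace Groth.Agent.Lib.SchFinFEtH6

section BCInv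

variable {R S : Type u} [CommRing R] [CommRing S] [Algebra R S]

theorem isBaseChange_pi {M M' : Type u}
    [AddCommGroup M] [Module R M] [AddCommGroup M'] [Module R M'] [Module S M']
    [IsScalarTower R S M'] (ι : Type u) [Finite ι] (ρ : M →ₗ[R] M') (hρ : IsBaseChange S ρ) :
    IsBaseChange S (LinearMap.pi (fun i => ρ ∘ₗ LinearMap.proj i) : (ι → M) →ₗ[R] (ι → M')) := by
  classical
  cases nonempty_fintype ι
  refine IsBaseChange.of_equiv ((TensorProduct.piRight R S S (fun _ : ι => M)).trans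
    (LinearEquiv.piCongrRight (fun _ => hρ.equiv))) (fun x => ?_)
  ext i
  show hρ.equiv ((TensorProduct.piRight R S S (fun _ : ι => M)) (1 ⊗ₜ x) i) = ρ (x i)
  rw [TensorProduct.piRight_apply, TensorProduct.piRightHom_tmul, hρ.equiv_tmul, one_smul]

/-- flat base change of the invariants of a finite family of endomorphisms -/
theorem isBaseChange_inv [Module.Flat R S] {M M' N N' G : Type u}
    [AddCommGroup M] [Module R M] [AddCommGroup M'] [Module R M'] [Module S M']
    [IsScalarTower R S M']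
    [AddCommGroup N] [Module R N] [AddCommGroup N'] [Module R N'] [Module S N']
    [IsScalarTower R S N'] [Finite G]
    (ρ : M →ₗ[R] M') (hρ : IsBaseChange S ρ) (σ : G → M →ₗ[R] M) (σ' : G → M' →ₗ[S] M')
    (hσ : ∀ g m, σ' g (ρ m) = ρ (σ g m))
    (j : N →ₗ[R] M) (hj : Function.Injective j)
    (hjr : ∀ m, (∃ n, j n = m) ↔ ∀ g, σ g m = m)
    (j' : N' →ₗ[S] M') (hj' : Function.Injective j')
    (hjr' : ∀ m, (∃ n, j' n = m) ↔ ∀ g, σ' g m = m)
    (ρN : N →ₗ[R] N') (hρN : ∀ n, j' (ρN n) = ρ (j n)) : IsBaseChange S ρN := by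
  obtain ⟨φ, hφ⟩ : ∃ φ : M →ₗ[R] (G → M), ∀ m g, φ m g = σ g m - m :=
    ⟨LinearMap.pi (fun g => σ g - LinearMap.id), fun m g => rfl⟩
  obtain ⟨φ', hφ'⟩ : ∃ φ' : M' →ₗ[S] (G → M'), ∀ m g, φ' m g = σ' g m - m :=
    ⟨LinearMap.pi (fun g => σ' g - LinearMap.id), fun m g => rfl⟩
  have hρG := isBaseChange_pi G ρ hρ
  have hcomm : ∀ m, φ' (ρ m) = (LinearMap.pi (fun i => ρ ∘ₗ LinearMap.proj i)) (φ m) := by
    intro m
    ext g
    show φ' (ρ m) g = ρ (φ m g)
    rw [hφ', hφ, hσ, map_sub]
  have hkerφ : ∀ m, φ m = 0 ↔ ∀ g, σ g m = m := by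
    intro m
    constructor
    · intro h g
      have h1 := congrFun h g
      rw [hφ] at h1
      exact sub_eq_zero.mp h1
    · intro h
      ext g
      rw [hφ]
      exact sub_eq_zero.mpr (h g)
  have hkerφ' : ∀ m, φ' m = 0 ↔ ∀ g, σ' g m = m := by
    intro m
    constructor
    · intro h g
      have h1 := congrFun h g
      rw [hφ'] at h1
      exact sub_eq_zero.mp h1
    · intro h
      ext g
      rw [hφ']
      exact sub_eq_zero.mpr (h g)
  obtain ⟨L, hLdef⟩ : ∃ L : S ⊗[R] N →ₗ[S] N', ∀ s n, L (s ⊗ₜ n) = s • ρN n :=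
    ⟨ρN.liftBaseChange S, fun s n => LinearMap.liftBaseChange_tmul _ _ _ _⟩
  have hL : ∀ t, j' (L t) = hρ.equiv (j.lTensor S t) := by
    intro t
    induction t using TensorProduct.induction_on with
    | zero => simp
    | tmul s n =>
      rw [hLdef, map_smul, hρN, LinearMap.lTensor_tmul, hρ.equiv_tmul]
    | add a b ha hb => simp only [map_add, ha, hb]
  have hinj : Function.Injective L := by
    intro t t' h
    have h1 : hρ.equiv (j.lTensor S t) = hρ.equiv (j.lTensor S t') := by rw [← hL, ← hL, h]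
    exact Module.Flat.lTensor_preserves_injective_linearMap j hj (hρ.equiv.injective h1)
  have hsurj : Function.Surjective L := by
    intro n'
    have h1 : φ' (j' n') = 0 := (hkerφ' _).mpr ((hjr' _).mp ⟨n', rfl⟩)
    have h2 := ker_le_span_of_isBaseChange_flat ρ _ hρ hρG φ φ' hcomm (j' n') h1
    have h3 : ∀ x ∈ Submodule.span S (ρ '' {m | φ m = 0}), ∃ t, j' (L t) = x := by
      intro x hx
      induction hx using Submodule.span_induction with
      | mem x hx =>
        obtain ⟨m, hm, rfl⟩ := hx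
        obtain ⟨n, rfl⟩ := (hjr m).mpr ((hkerφ m).mp hm)
        exact ⟨1 ⊗ₜ n, by rw [hL, LinearMap.lTensor_tmul, hρ.equiv_tmul, one_smul]⟩
      | zero => exact ⟨0, by rw [map_zero, map_zero]⟩
      | add x y _ _ hx hy =>
        obtain ⟨a, ha⟩ := hx
        obtain ⟨b, hb⟩ := hy
        exact ⟨a + b, by rw [map_add, map_add, ha, hb]⟩
      | smul s x _ hx =>
        obtain ⟨a, ha⟩ := hx
        exact ⟨s • a, by rw [map_smul, map_smul, ha]⟩
    obtain ⟨t, ht⟩ := h3 _ h2
    exact ⟨t, hj' ht⟩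
  exact IsBaseChange.of_equiv (LinearEquiv.ofBijective L ⟨hinj, hsurj⟩) (fun n => by
    show L (1 ⊗ₜ n) = ρN n
    rw [hLdef, one_smul])

end BCInv

section InvSubalg

/-- invariants of a family of algebra endomorphisms -/
def invSubalg {R A G : Type u} [CommRing R] [CommRing A] [Algebra R A] (ρ : G → A →ₐ[R] A) :
    Subalgebra R A where
  carrier := {a | ∀ g, ρ g a = a}
  mul_mem' ha hb g := by rw [map_mul, ha g, hb g]
  one_mem' g := map_one _
  add_mem' ha hb g := by rw [map_add, ha g, hb g]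
  zero_mem' g := map_zero _
  algebraMap_mem' r g := (ρ g).commutes r

theorem mem_invSubalg {R A G : Type u} [CommRing R] [CommRing A] [Algebra R A]
    (ρ : G → A →ₐ[R] A) (a : A) : a ∈ invSubalg ρ ↔ ∀ g, ρ g a = a := Iff.rfl

end InvSubalg

section Split

variable {T : Type u} [CommRing T]

/-- over a ring with only trivial idempotents, algebra endomorphisms of a split algebra are
given by maps of the index set -/
theorem endo_pi_eq_comp [Nontrivial T] (hT : ∀ c : T, c * c = c → c = 0 ∨ c = 1) (n : ℕ)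
    (σ : (Fin n → T) →ₐ[T] (Fin n → T)) : ∃ π : Fin n → Fin n, ∀ x j, σ x j = x (π j) := by
  classical
  have hid : ∀ i j, σ (Pi.single i 1) j = 0 ∨ σ (Pi.single i 1) j = 1 := by
    intro i j
    apply hT
    have h1 : (Pi.single i (1 : T) : Fin n → T) * Pi.single i 1 = Pi.single i 1 := by
      ext k
      by_cases hk : k = i
      · subst hk
        simp
      · simp [Pi.single_apply, hk]
    have h2 := congrFun (congrArg σ h1) j
    rw [map_mul] at h2
    exact h2
  have hsum : ∀ j, ∑ i, σ (Pi.single i 1) j = 1 := by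
    intro j
    have h1 : (∑ i, (Pi.single i (1 : T) : Fin n → T)) = 1 :=
      Finset.univ_sum_single (1 : Fin n → T)
    have h2 := congrFun (congrArg σ h1) j
    rw [map_sum, map_one, Finset.sum_apply] at h2
    exact h2
  have hex : ∀ j, ∃ i, σ (Pi.single i 1) j = 1 := by
    intro j
    by_contra hne
    push_neg at hne
    have h0 : ∀ i, σ (Pi.single i 1) j = 0 := fun i => (hid i j).resolve_right (hne i)
    have h1 := hsum j
    rw [Finset.sum_eq_zero (fun i _ => h0 i)] at h1
    exact zero_ne_one h1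
  choose π hπ using hex
  have horth : ∀ j i, i ≠ π j → σ (Pi.single i 1) j = 0 := by
    intro j i hi
    have h1 : (Pi.single i (1 : T) : Fin n → T) * Pi.single (π j) 1 = 0 := by
      ext k
      by_cases hk : k = i
      · subst hk
        simp [Pi.single_apply, hi]
      · simp [Pi.single_apply, hk]
    have h2 := congrFun (congrArg σ h1) j
    rw [map_mul, map_zero] at h2
    have h3 : σ (Pi.single i 1) j * σ (Pi.single (π j) 1) j = 0 := h2
    rw [hπ j, mul_one] at h3
    exact h3
  refine ⟨π, fun x j => ?_⟩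
  have hx : x = ∑ i, x i • (Pi.single i (1 : T) : Fin n → T) := by
    ext k
    rw [Finset.sum_apply, Finset.sum_eq_single k]
    · simp
    · intro i _ hi
      simp [Pi.single_apply, hi.symm]
    · intro h
      exact (h (Finset.mem_univ _)).elim
  conv_lhs => rw [hx]
  rw [map_sum, Finset.sum_apply, Finset.sum_eq_single (π j)]
  · rw [map_smul, Pi.smul_apply, hπ j, smul_eq_mul, mul_one]
  · intro i _ hi
    rw [map_smul, Pi.smul_apply, horth j i hi, smul_zero]
  · intro h
    exact (h (Finset.mem_univ _)).elim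

/-- the invariants of a family of endomorphisms of a split algebra over a ring with only trivial
idempotents are again split, hence formally étale -/
theorem inv_pi_formallyEtale [Nontrivial T] (hT : ∀ c : T, c * c = c → c = 0 ∨ c = 1)
    {P G : Type u} [CommRing P] [Algebra T P] (n : ℕ) (ε : P ≃ₐ[T] (Fin n → T))
    (σ : G → P →ₐ[T] P) : Algebra.FormallyEtale T ↥(invSubalg σ) := by
  classical
  have hπ' : ∀ g, ∃ π : Fin n → Fin n,
      ∀ x j, (ε.toAlgHom.comp ((σ g).comp ε.symm.toAlgHom)) x j = x (π j) :=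
    fun g => endo_pi_eq_comp hT n _
  choose π hπ using hπ'
  have hπ2 : ∀ g (y : P) j, ε (σ g y) j = ε y (π g j) := by
    intro g y j
    have h1 := hπ g (ε y) j
    have h2 : ε (σ g (ε.symm (ε y))) j = ε y (π g j) := h1
    rwa [AlgEquiv.symm_apply_apply] at h2
  obtain ⟨r, hr⟩ : ∃ r : Fin n → Fin n → Prop, ∀ j j', r j j' ↔ ∃ g, j' = π g j :=
    ⟨fun j j' => ∃ g, j' = π g j, fun _ _ => Iff.rfl⟩
  obtain ⟨Ψ, hΨ⟩ : ∃ Ψ : (Quot r → T) →ₐ[T] (Fin n → T), ∀ f j, Ψ f j = f (Quot.mk r j) :=
    ⟨{ toFun := fun f => f ∘ Quot.mk r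
       map_one' := rfl
       map_mul' := fun _ _ => rfl
       map_zero' := rfl
       map_add' := fun _ _ => rfl
       commutes' := fun _ => rfl }, fun f j => rfl⟩
  have hinj : Function.Injective (ε.symm.toAlgHom.comp Ψ) := by
    intro f f' h
    have h1 : Ψ f = Ψ f' := ε.symm.injective h
    funext q
    obtain ⟨j, rfl⟩ := Quot.exists_rep q
    have h2 := congrFun h1 j
    rwa [hΨ, hΨ] at h2
  have hrange : (ε.symm.toAlgHom.comp Ψ).range = invSubalg σ := by
    ext x
    constructor
    · rintro ⟨f, rfl⟩ g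
      apply ε.injective
      funext j
      rw [hπ2]
      show ε (ε.symm (Ψ f)) (π g j) = ε (ε.symm (Ψ f)) j
      rw [AlgEquiv.apply_symm_apply, hΨ, hΨ]
      exact congrArg f (Quot.sound ((hr _ _).mpr ⟨g, rfl⟩)).symm
    · intro hx
      have hx' : ∀ g j, ε x (π g j) = ε x j := by
        intro g j
        rw [← hπ2, hx g]
      refine ⟨Quot.lift (ε x) (fun j j' hjj' => by
        obtain ⟨g, hg⟩ := (hr _ _).mp hjj'
        rw [hg, hx' g j]), ?_⟩
      apply ε.injective
      show ε (ε.symm (Ψ _)) = ε x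
      rw [AlgEquiv.apply_symm_apply]
      funext j
      rw [hΨ]
  have e1 : (Quot r → T) ≃ₐ[T] (ε.symm.toAlgHom.comp Ψ).range :=
    AlgEquiv.ofInjective _ hinj
  haveI : Algebra.FormallyEtale T (Quot r → T) := inferInstance
  have h2 : Algebra.FormallyEtale T ↥(ε.symm.toAlgHom.comp Ψ).range :=
    Algebra.FormallyEtale.of_equiv e1
  exact hrange ▸ h2

theorem idem_trivial_of_isLocalRing [IsLocalRing T] (c : T) (hc : c * c = c) : c = 0 ∨ c = 1 := by
  rcases IsLocalRing.isUnit_or_isUnit_one_sub_self c with h | h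
  · right
    have h1 : c * c = c * 1 := by rw [hc, mul_one]
    exact h.mul_left_cancel h1
  · left
    have h1 : (1 - c) * c = (1 - c) * 0 := by rw [sub_mul, one_mul, hc, sub_self, mul_zero]
    exact h.mul_left_cancel h1

end Split

section Local

variable {R : Type u} [CommRing R]

theorem subsingleton_of_flat_local {M : Type u} [AddCommGroup M] [Module R M]
    (H : ∀ 𝔪 : Ideal R, 𝔪.IsMaximal → ∃ (T : Type u) (_ : CommRing T) (_ : IsLocalRing T)
      (_ : Algebra R T) (_ : Module.Flat R T),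
      (IsLocalRing.maximalIdeal T).comap (algebraMap R T) = 𝔪 ∧ Subsingleton (T ⊗[R] M)) :
    Subsingleton M := by
  by_contra hns
  rw [not_subsingleton_iff_nontrivial] at hns
  obtain ⟨m, hm⟩ := exists_ne (0 : M)
  have hI : Ideal.torsionOf R M m ≠ ⊤ := by
    intro h
    have h1 : (1 : R) ∈ Ideal.torsionOf R M m := h ▸ Submodule.mem_top
    rw [Ideal.mem_torsionOf_iff, one_smul] at h1
    exact hm h1
  obtain ⟨𝔪, h𝔪, hle⟩ := Ideal.exists_le_maximal _ hI
  obtain ⟨T, _, _, _, _, hcomap, hsub⟩ := H 𝔪 h𝔪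
  obtain ⟨f, hf⟩ : ∃ f : (R ⧸ Ideal.torsionOf R M m) →ₗ[R] M, Function.Injective f :=
    ⟨(Submodule.span R {m}).subtype ∘ₗ
      (Ideal.quotTorsionOfEquivSpanSingleton R M m).toLinearMap,
      (Submodule.injective_subtype _).comp (LinearEquiv.injective _)⟩
  have hinj := Module.Flat.lTensor_preserves_injective_linearMap (M := T) f hf
  haveI : Subsingleton (T ⊗[R] (R ⧸ Ideal.torsionOf R M m)) := hinj.subsingleton
  have hIle : ∀ a ∈ Ideal.torsionOf R M m,
      (Algebra.ofId R (T ⧸ IsLocalRing.maximalIdeal T)) a = 0 := by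
    intro a ha
    have h1 : a ∈ (IsLocalRing.maximalIdeal T).comap (algebraMap R T) := hcomap ▸ hle ha
    exact Ideal.Quotient.eq_zero_iff_mem.mpr h1
  obtain ⟨θ⟩ : Nonempty (T ⊗[R] (R ⧸ Ideal.torsionOf R M m) →ₐ[R]
      (T ⧸ IsLocalRing.maximalIdeal T)) :=
    ⟨Algebra.TensorProduct.lift (IsScalarTower.toAlgHom R T _)
      (Ideal.Quotient.liftₐ _ (Algebra.ofId R _) hIle) (fun _ _ => Commute.all _ _)⟩
  have h1 : θ 1 = 1 := map_one θ
  have h0 : (1 : T ⊗[R] (R ⧸ Ideal.torsionOf R M m)) = 0 := Subsingleton.elim _ _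
  rw [h0, map_zero] at h1
  exact zero_ne_one h1

/-- formal étaleness can be checked after flat local base changes dominating all maximal ideals -/
theorem formallyEtale_of_flat_local {S : Type u} [CommRing S] [Algebra R S]
    (H : ∀ 𝔪 : Ideal R, 𝔪.IsMaximal → ∃ (T : Type u) (_ : CommRing T) (_ : IsLocalRing T)
      (_ : Algebra R T) (_ : Module.Flat R T),
      (IsLocalRing.maximalIdeal T).comap (algebraMap R T) = 𝔪 ∧
        Algebra.FormallyEtale T (T ⊗[R] S)) : Algebra.FormallyEtale R S := by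
  rw [Algebra.formallyEtale_iff]
  constructor
  · apply subsingleton_of_flat_local (R := R)
    intro 𝔪 h𝔪
    obtain ⟨T, _, _, _, _, hcomap, hfe⟩ := H 𝔪 h𝔪
    refine ⟨T, ‹_›, ‹_›, ‹_›, ‹_›, hcomap, ?_⟩
    let _ : Algebra S (T ⊗[R] S) := Algebra.TensorProduct.rightAlgebra
    exact (KaehlerDifferential.tensorKaehlerEquivBase R T S (T ⊗[R] S)).subsingleton
  · apply subsingleton_of_flat_local (R := R)
    intro 𝔪 h𝔪
    obtain ⟨T, _, _, _, _, hcomap, hfe⟩ := H 𝔪 h𝔪
    refine ⟨T, ‹_›, ‹_›, ‹_›, ‹_›, hcomap, ?_⟩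
    exact (Algebra.tensorH1CotangentOfFlat R S T).subsingleton

end Local

end Groth.Agent.Lib.SchFinFEtH6
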