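import Mathlib
import Groth.Agent.Lib.SchFinInv1_helper6
set_option autoImplicit false
universe u

/-!
# Invariants of a finite locally split algebra are étale (helper6)
-/

open TensorProduct

namespace Groth.Agent.Lib.SchFinFEtH6

section InvEtale

variable {R A W G : Type u} [CommRing R] [CommRing A] [Algebra R A] [CommRing W] [Algebra R W]

/-- the base change of a family of algebra endomorphisms -/
def bcFam (T : Type u) [CommRing T] [Algebra R T] (ρ : G → A →ₐ[R] A) :
    G → (T ⊗[R] A) →ₐ[T] (T ⊗[R] A) :=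
  fun g => Algebra.TensorProduct.map (AlgHom.id T T) (ρ g)

theorem bcFam_tmul (T : Type u) [CommRing T] [Algebra R T] (ρ : G → A →ₐ[R] A) (g : G) (t : T)
    (a : A) : bcFam T ρ g (t ⊗ₜ a) = t ⊗ₜ ρ g a := by
  show Algebra.TensorProduct.map (AlgHom.id T T) (ρ g) (t ⊗ₜ a) = t ⊗ₜ ρ g a
  rw [Algebra.TensorProduct.map_tmul]
  rfl

/-- flat base change of invariants, as an isomorphism of algebras (explicit form) -/
theorem tensor_inv_equiv_explicit (T : Type u) [CommRing T] [Algebra R T] [Module.Flat R T]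
    [Finite G] (ρ : G → A →ₐ[R] A) :
    ∃ θ : (T ⊗[R] ↥(invSubalg ρ)) ≃ₐ[T] ↥(invSubalg (bcFam T ρ)),
      ∀ t, ((θ t : ↥(invSubalg (bcFam T ρ))) : T ⊗[R] A) =
        Algebra.TensorProduct.map (AlgHom.id T T) (invSubalg ρ).val t := by
  have hmem : ∀ a : ↥(invSubalg ρ), (1 : T) ⊗ₜ[R] (a : A) ∈ invSubalg (bcFam T ρ) := by
    intro a g
    rw [bcFam_tmul, a.2 g]
  obtain ⟨ρN, hρN⟩ : ∃ ρN : ↥(invSubalg ρ) →ₗ[R] ↥(invSubalg (bcFam T ρ)),
      ∀ a, ((ρN a : ↥(invSubalg (bcFam T ρ))) : T ⊗[R] A) = (1 : T) ⊗ₜ[R] (a : A) :=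
    ⟨{ toFun := fun a => ⟨1 ⊗ₜ (a : A), hmem a⟩
       map_add' := fun a b => Subtype.ext (TensorProduct.tmul_add _ _ _)
       map_smul' := fun r a => Subtype.ext (TensorProduct.tmul_smul _ _ _) }, fun a => rfl⟩
  have hbc : IsBaseChange T ρN :=
    isBaseChange_inv (S := T) (TensorProduct.mk R T A 1) (TensorProduct.isBaseChange R A T)
      (fun g => (ρ g).toLinearMap) (fun g => (bcFam T ρ g).toLinearMap)
      (fun g m => bcFam_tmul T ρ g 1 m)
      (invSubalg ρ).val.toLinearMap Subtype.val_injective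
      (fun m => ⟨fun ⟨n, hn⟩ => hn ▸ n.2, fun h => ⟨⟨m, h⟩, rfl⟩⟩)
      (invSubalg (bcFam T ρ)).val.toLinearMap Subtype.val_injective
      (fun m => ⟨fun ⟨n, hn⟩ => hn ▸ n.2, fun h => ⟨⟨m, h⟩, rfl⟩⟩)
      ρN hρN
  have hcod : ∀ t : T ⊗[R] ↥(invSubalg ρ),
      Algebra.TensorProduct.map (AlgHom.id T T) (invSubalg ρ).val t ∈ invSubalg (bcFam T ρ) := by
    intro t
    induction t using TensorProduct.induction_on with
    | zero =>
      rw [map_zero]
      exact Subalgebra.zero_mem _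
    | tmul s a =>
      rw [Algebra.TensorProduct.map_tmul]
      intro g
      show bcFam T ρ g (s ⊗ₜ (a : A)) = s ⊗ₜ (a : A)
      rw [bcFam_tmul, a.2 g]
    | add x y hx hy =>
      rw [map_add]
      exact Subalgebra.add_mem _ hx hy
  obtain ⟨θ₀, hθ₀⟩ : ∃ θ₀ : T ⊗[R] ↥(invSubalg ρ) →ₐ[T] ↥(invSubalg (bcFam T ρ)),
      ∀ t, ((θ₀ t : ↥(invSubalg (bcFam T ρ))) : T ⊗[R] A) =
        Algebra.TensorProduct.map (AlgHom.id T T) (invSubalg ρ).val t :=
    ⟨AlgHom.codRestrict (Algebra.TensorProduct.map (AlgHom.id T T) (invSubalg ρ).val)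
      (invSubalg (bcFam T ρ)) hcod, fun t => rfl⟩
  have hθ : ∀ t, θ₀ t = hbc.equiv t := by
    intro t
    induction t using TensorProduct.induction_on with
    | zero => rw [map_zero, map_zero]
    | tmul s a =>
      apply Subtype.ext
      rw [hθ₀, Algebra.TensorProduct.map_tmul, hbc.equiv_tmul]
      show s ⊗ₜ[R] (a : A) = s • ((ρN a : ↥(invSubalg (bcFam T ρ))) : T ⊗[R] A)
      rw [hρN, TensorProduct.smul_tmul', smul_eq_mul, mul_one]
    | add x y hx hy => rw [map_add, map_add, hx, hy]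
  have hbij : Function.Bijective θ₀ := by
    have h1 : (θ₀ : T ⊗[R] ↥(invSubalg ρ) → ↥(invSubalg (bcFam T ρ))) = hbc.equiv :=
      funext hθ
    rw [h1]
    exact hbc.equiv.bijective
  exact ⟨AlgEquiv.ofBijective θ₀ hbij, fun t => hθ₀ t⟩

/-- flat base change of invariants, as an isomorphism of algebras -/
theorem tensor_inv_equiv (T : Type u) [CommRing T] [Algebra R T] [Module.Flat R T] [Finite G]
    (ρ : G → A →ₐ[R] A) :
    Nonempty ((T ⊗[R] ↥(invSubalg ρ)) ≃ₐ[T] ↥(invSubalg (bcFam T ρ))) := by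
  obtain ⟨θ, -⟩ := tensor_inv_equiv_explicit T ρ
  exact ⟨θ⟩

/-- the invariants of a finite family of endomorphisms of a finite algebra which is split by a
faithfully flat base change are finite étale -/
theorem inv_etale [IsNoetherianRing R] [Module.Finite R A] [Module.FaithfullyFlat R W] [Finite G]
    (n : ℕ) (e : W ⊗[R] A ≃ₐ[W] (Fin n → W)) (ρ : G → A →ₐ[R] A) :
    Module.Finite R ↥(invSubalg ρ) ∧ Algebra.Etale R ↥(invSubalg ρ) := by
  haveI : IsNoetherian R A := isNoetherian_of_isNoetherianRing_of_finite R A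
  have hfin : Module.Finite R ↥(invSubalg ρ) :=
    Module.Finite.of_injective (invSubalg ρ).val.toLinearMap Subtype.val_injective
  refine ⟨hfin, ?_⟩
  have hfe : Algebra.FormallyEtale R ↥(invSubalg ρ) := by
    apply formallyEtale_of_flat_local
    intro 𝔪 h𝔪
    haveI := h𝔪.isPrime
    obtain ⟨𝔔, h𝔔⟩ := PrimeSpectrum.comap_surjective_of_faithfullyFlat (B := W)
      (⟨𝔪, h𝔪.isPrime⟩ : PrimeSpectrum R)
    haveI := 𝔔.isPrime
    haveI : Module.Flat W (Localization.AtPrime 𝔔.asIdeal) :=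
      IsLocalization.flat _ 𝔔.asIdeal.primeCompl
    haveI : Module.Flat R (Localization.AtPrime 𝔔.asIdeal) := Module.Flat.trans R W _
    refine ⟨Localization.AtPrime 𝔔.asIdeal, inferInstance, inferInstance, inferInstance,
      inferInstance, ?_, ?_⟩
    · have h1 : Ideal.comap (algebraMap W (Localization.AtPrime 𝔔.asIdeal))
          (IsLocalRing.maximalIdeal (Localization.AtPrime 𝔔.asIdeal)) = 𝔔.asIdeal :=
        IsLocalization.AtPrime.comap_maximalIdeal (Localization.AtPrime 𝔔.asIdeal) 𝔔.asIdeal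
      rw [IsScalarTower.algebraMap_eq R W (Localization.AtPrime 𝔔.asIdeal), ← Ideal.comap_comap,
        h1]
      exact congrArg PrimeSpectrum.asIdeal h𝔔
    · obtain ⟨θ⟩ := tensor_inv_equiv (Localization.AtPrime 𝔔.asIdeal) ρ
      have ε : (Localization.AtPrime 𝔔.asIdeal) ⊗[R] A ≃ₐ[Localization.AtPrime 𝔔.asIdeal]
          (Fin n → Localization.AtPrime 𝔔.asIdeal) :=
        ((Algebra.TensorProduct.cancelBaseChange R W (Localization.AtPrime 𝔔.asIdeal)
          (Localization.AtPrime 𝔔.asIdeal) A).symm.trans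
          (Algebra.TensorProduct.congr AlgEquiv.refl e)).trans
          (Algebra.TensorProduct.piScalarRight W (Localization.AtPrime 𝔔.asIdeal)
            (Localization.AtPrime 𝔔.asIdeal) (Fin n))
      haveI := inv_pi_formallyEtale
        (idem_trivial_of_isLocalRing (T := Localization.AtPrime 𝔔.asIdeal)) n ε
        (bcFam (Localization.AtPrime 𝔔.asIdeal) ρ)
      exact Algebra.FormallyEtale.of_equiv θ.symm
  exact { formallyEtale := hfe
          finitePresentation := Algebra.FinitePresentation.of_finiteType.mp inferInstance }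

end InvEtale

end Groth.Agent.Lib.SchFinFEtH6
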