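import Mathlib
import Groth.Agent.Lib.SchFinInv2_helper6
import Groth.Agent.Lib.SchFinFib1_helper6
set_option autoImplicit false
universe u

/-!
# Points of the invariants: two points agreeing on the invariants are conjugate (helper6)
-/

open TensorProduct

namespace Groth.Agent.Lib.SchFinFEtH6

section HomsPi

/-- algebra maps from a split algebra to a domain are evaluations -/
theorem homs_pi_domain {W Ω : Type u} [CommRing W] [CommRing Ω] [IsDomain Ω] [Algebra W Ω]
    (n : ℕ) (χ : (Fin n → W) →ₐ[W] Ω) : ∃ j : Fin n, ∀ x, χ x = algebraMap W Ω (x j) := by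
  classical
  have hid : ∀ i, χ (Pi.single i 1) = 0 ∨ χ (Pi.single i 1) = 1 := by
    intro i
    have h1 : (Pi.single i (1 : W) : Fin n → W) * Pi.single i 1 = Pi.single i 1 := by
      ext k
      by_cases hk : k = i
      · subst hk
        simp
      · simp [Pi.single_apply, hk]
    have h2 := congrArg χ h1
    rw [map_mul] at h2
    have h3 : χ (Pi.single i 1) * (χ (Pi.single i 1) - 1) = 0 := by
      rw [mul_sub, h2, mul_one, sub_self]
    rcases mul_eq_zero.mp h3 with h | h
    · exact Or.inl h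
    · exact Or.inr (sub_eq_zero.mp h)
  have hsum : ∑ i, χ (Pi.single i 1) = 1 := by
    have h1 : (∑ i, (Pi.single i (1 : W) : Fin n → W)) = 1 :=
      Finset.univ_sum_single (1 : Fin n → W)
    rw [← map_sum, h1, map_one]
  have hex : ∃ j, χ (Pi.single j 1) = 1 := by
    by_contra hne
    push_neg at hne
    have h0 : ∀ i, χ (Pi.single i 1) = 0 := fun i => (hid i).resolve_right (hne i)
    rw [Finset.sum_eq_zero (fun i _ => h0 i)] at hsum
    exact zero_ne_one hsum
  obtain ⟨j, hj⟩ := hex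
  have horth : ∀ i, i ≠ j → χ (Pi.single i 1) = 0 := by
    intro i hi
    have h1 : (Pi.single i (1 : W) : Fin n → W) * Pi.single j 1 = 0 := by
      ext k
      by_cases hk : k = i
      · subst hk
        simp [Pi.single_apply, hi]
      · simp [Pi.single_apply, hk]
    have h2 := congrArg χ h1
    rw [map_mul, map_zero, hj, mul_one] at h2
    exact h2
  refine ⟨j, fun x => ?_⟩
  have hx : x = ∑ i, x i • (Pi.single i (1 : W) : Fin n → W) := by
    ext k
    rw [Finset.sum_apply, Finset.sum_eq_single k]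
    · simp
    · intro i _ hi
      simp [Pi.single_apply, hi.symm]
    · intro h
      exact (h (Finset.mem_univ _)).elim
  conv_lhs => rw [hx]
  rw [map_sum, Finset.sum_eq_single j]
  · rw [map_smul, hj, Algebra.smul_def, mul_one]
  · intro i _ hi
    rw [map_smul, horth i hi, smul_zero]
  · intro h
    exact (h (Finset.mem_univ _)).elim

end HomsPi

section Orbit

variable {R A W Ω G : Type u} [CommRing R] [CommRing A] [Algebra R A] [CommRing W]
  [Algebra R W] [Field Ω] [IsAlgClosed Ω] [Algebra R Ω]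

/-- two points of a finite locally split algebra which agree on the invariants of a finite group of
automorphisms are conjugate under the group -/
theorem orbit_of_agree [Module.Finite R W] [Module.FaithfullyFlat R W] [Group G] [Finite G]
    (n : ℕ) (e : W ⊗[R] A ≃ₐ[W] (Fin n → W))
    (ρ : G → A →ₐ[R] A) (hone : ρ 1 = AlgHom.id R A)
    (hmul : ∀ g h, ρ (h * g) = (ρ g).comp (ρ h))
    (ψ ψ' : A →ₐ[R] Ω) (hag : ∀ b ∈ invSubalg ρ, ψ b = ψ' b) : ∃ g, ψ = ψ'.comp (ρ g) := by
  classical
  cases nonempty_fintype G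
  haveI : Nontrivial (Ω ⊗[R] W) :=
    (Module.FaithfullyFlat.nontrivial_tensorProduct_iff_left R Ω).mpr inferInstance
  obtain ⟨P⟩ : Nonempty (PrimeSpectrum (Ω ⊗[R] W)) := inferInstance
  obtain ⟨ω₀, -⟩ := homToFib_surjective (R := R) (Ω := Ω) (E := W) P
  letI : Algebra W Ω := ω₀.toRingHom.toAlgebra
  haveI : IsScalarTower R W Ω := IsScalarTower.of_algebraMap_eq (fun r => (ω₀.commutes r).symm)
  have hlift : ∀ φ : A →ₐ[R] Ω, ∃ φW : W ⊗[R] A →ₐ[W] Ω,
      ∀ w a, φW (w ⊗ₜ a) = algebraMap W Ω w * φ a :=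
    fun φ => ⟨Algebra.TensorProduct.lift (Algebra.ofId W Ω) φ (fun _ _ => Commute.all _ _),
      fun w a => by
        rw [Algebra.TensorProduct.lift_tmul]
        rfl⟩
  choose LW hLW using hlift
  have hJ0 : ∀ φ : A →ₐ[R] Ω, ∃ j : Fin n,
      ∀ x, ((LW φ).comp e.symm.toAlgHom) x = algebraMap W Ω (x j) :=
    fun φ => homs_pi_domain n _
  choose J hJ using hJ0
  have hJ' : ∀ (φ : A →ₐ[R] Ω) (z : W ⊗[R] A), LW φ z = algebraMap W Ω (e z (J φ)) := by
    intro φ z
    have h1 := hJ φ (e z)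
    have h2 : LW φ (e.symm (e z)) = algebraMap W Ω (e z (J φ)) := h1
    rwa [AlgEquiv.symm_apply_apply] at h2
  have hJinj : ∀ φ φ' : A →ₐ[R] Ω, J φ = J φ' → φ = φ' := by
    intro φ φ' h
    apply AlgHom.ext
    intro a
    have h1 := hLW φ 1 a
    have h2 := hLW φ' 1 a
    rw [map_one, one_mul] at h1 h2
    rw [← h1, ← h2, hJ', hJ', h]
  have hact : ∀ (φ : A →ₐ[R] Ω) (g : G) (z : W ⊗[R] A),
      LW φ (bcFam W ρ g z) = LW (φ.comp (ρ g)) z := by
    intro φ g z
    induction z using TensorProduct.induction_on with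
    | zero => rw [map_zero, map_zero, map_zero]
    | tmul w a =>
      rw [bcFam_tmul, hLW, hLW]
      rfl
    | add x y hx hy => rw [map_add, map_add, map_add, hx, hy]
  have hcomp : ∀ (g h : G) (z : W ⊗[R] A),
      bcFam W ρ h (bcFam W ρ g z) = bcFam W ρ (g * h) z := by
    intro g h z
    induction z using TensorProduct.induction_on with
    | zero => rw [map_zero, map_zero, map_zero]
    | tmul w a =>
      rw [bcFam_tmul, bcFam_tmul, bcFam_tmul, hmul h g]
      rfl
    | add x y hx hy => rw [map_add, map_add, map_add, hx, hy]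
  obtain ⟨v, hv⟩ : ∃ v : W ⊗[R] A, v = e.symm (Pi.single (J ψ) 1) := ⟨_, rfl⟩
  obtain ⟨u, hu⟩ : ∃ u : W ⊗[R] A, u = 1 - ∏ g : G, (1 - bcFam W ρ g v) := ⟨_, rfl⟩
  have hinv : u ∈ invSubalg (bcFam W ρ) := by
    intro h
    rw [hu, map_sub, map_one, map_prod]
    congr 1
    refine Fintype.prod_equiv (Equiv.mulRight h) _ _ (fun g => ?_)
    rw [map_sub, map_one, hcomp]
    rfl
  obtain ⟨θ, hθ⟩ := tensor_inv_equiv_explicit W ρ
  obtain ⟨t, ht⟩ : ∃ t : W ⊗[R] ↥(invSubalg ρ),
      Algebra.TensorProduct.map (AlgHom.id W W) (invSubalg ρ).val t = u := by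
    refine ⟨θ.symm ⟨u, hinv⟩, ?_⟩
    rw [← hθ, AlgEquiv.apply_symm_apply]
  have hagree : ∀ t : W ⊗[R] ↥(invSubalg ρ),
      LW ψ (Algebra.TensorProduct.map (AlgHom.id W W) (invSubalg ρ).val t) =
      LW ψ' (Algebra.TensorProduct.map (AlgHom.id W W) (invSubalg ρ).val t) := by
    intro t
    induction t using TensorProduct.induction_on with
    | zero => rw [map_zero, map_zero, map_zero]
    | tmul w b =>
      rw [Algebra.TensorProduct.map_tmul, hLW, hLW]
      show algebraMap W Ω w * ψ (b : A) = algebraMap W Ω w * ψ' (b : A)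
      rw [hag b b.2]
    | add x y hx hy => rw [map_add, map_add, map_add, hx, hy]
  have hu_eq : LW ψ u = LW ψ' u := by
    rw [← ht]
    exact hagree t
  have hval : ∀ φ : A →ₐ[R] Ω, LW φ u =
      1 - ∏ g : G, (1 - (if J (φ.comp (ρ g)) = J ψ then (1 : Ω) else 0)) := by
    intro φ
    rw [hu, map_sub, map_one, map_prod]
    congr 1
    refine Finset.prod_congr rfl (fun g _ => ?_)
    rw [map_sub, map_one, hact, hJ', hv, AlgEquiv.apply_symm_apply, Pi.single_apply]
    split_ifs with hc
    · rw [map_one]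
    · rw [map_zero]
  have h1 : LW ψ u = 1 := by
    rw [hval, Finset.prod_eq_zero (Finset.mem_univ (1 : G))]
    · rw [sub_zero]
    · rw [hone, AlgHom.comp_id, if_pos rfl, sub_self]
  rw [h1, hval] at hu_eq
  have hprod : ∏ g : G, (1 - (if J (ψ'.comp (ρ g)) = J ψ then (1 : Ω) else 0)) = 0 := by
    have h2 := hu_eq
    rw [eq_comm, sub_eq_self] at h2
    exact h2
  obtain ⟨g, -, hg⟩ := Finset.prod_eq_zero_iff.mp hprod
  have hJg : J (ψ'.comp (ρ g)) = J ψ := by
    by_contra hne
    rw [if_neg hne, sub_zero] at hg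
    exact one_ne_zero hg
  exact ⟨g, (hJinj _ _ hJg).symm⟩

end Orbit

end Groth.Agent.Lib.SchFinFEtH6
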