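import Mathlib
import Groth.Prelude.Def_SchFin
import Groth.Prelude.Def_SchFin2
import Groth.Agent.Lib.SchFinInv2_helper6
import Groth.Agent.Lib.SchFinFib4_helper6
set_option autoImplicit false
universe u

/-!
# Invariants of étale covers of a finite ringed poset under finite families of endomorphisms
(helper6)
-/

open TensorProduct CategoryTheory CategoryTheory.Limits SchFin Opposite

namespace Groth.Agent.Lib.SchFinFEtH6

section InvAlg

variable {X : RSpace.{u}} {G : Type u}

theorem invAlg_res_mem (A : Alg X) (ρ : G → (A ⟶ A)) {p q : X.pt} (h : p ≤ q)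
    (a : ↥(invSubalg (fun g => (ρ g).app p))) :
    A.res h (a : A.carrier p) ∈ invSubalg (fun g => (ρ g).app q) := by
  intro g
  show (ρ g).app q (A.res h a) = A.res h a
  rw [← (ρ g).compat h, a.2 g]

/-- the invariants of a family of endomorphisms of an algebra -/
def invAlg (A : Alg X) (ρ : G → (A ⟶ A)) : Alg X where
  carrier p := ↥(invSubalg (fun g => (ρ g).app p))
  res {p q} h :=
    ((A.res h).comp (invSubalg (fun g => (ρ g).app p)).val.toRingHom).codRestrict
      (invSubalg (fun g => (ρ g).app q)) (fun a => invAlg_res_mem A ρ h a)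
  res_algebraMap {p q} h a := Subtype.ext (A.res_algebraMap h a)
  res_self p b := Subtype.ext (A.res_self p b)
  res_comp h h' b := Subtype.ext (A.res_comp h h' b)

/-- the inclusion of the invariants -/
def invIncl (A : Alg X) (ρ : G → (A ⟶ A)) : invAlg A ρ ⟶ A :=
  ⟨fun p => (invSubalg (fun g => (ρ g).app p)).val, fun _ _ => rfl⟩

theorem invIncl_comp (A : Alg X) (ρ : G → (A ⟶ A)) (g : G) :
    invIncl A ρ ≫ ρ g = invIncl A ρ := by
  apply Alg.hom_ext
  intro p
  apply AlgHom.ext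
  intro a
  exact a.2 g

/-- maps equalised by the family factor through the invariants -/
def invLift {T A : Alg X} (ρ : G → (A ⟶ A)) (u : T ⟶ A) (hu : ∀ g, u ≫ ρ g = u) :
    T ⟶ invAlg A ρ :=
  ⟨fun p => AlgHom.codRestrict (u.app p) (invSubalg (fun g => (ρ g).app p))
      (fun t g => congrArg (fun k => k.app p t) (hu g)),
    fun h b => Subtype.ext (u.compat h b)⟩

theorem invLift_incl {T A : Alg X} (ρ : G → (A ⟶ A)) (u : T ⟶ A) (hu : ∀ g, u ≫ ρ g = u) :
    invLift ρ u hu ≫ invIncl A ρ = u := by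
  apply Alg.hom_ext
  intro p
  apply AlgHom.ext
  intro t
  rfl

theorem inv_hom_ext {T A : Alg X} (ρ : G → (A ⟶ A)) (m m' : T ⟶ invAlg A ρ)
    (h : m ≫ invIncl A ρ = m' ≫ invIncl A ρ) : m = m' := by
  apply Alg.hom_ext
  intro p
  apply AlgHom.ext
  intro t
  apply Subtype.ext
  exact congrArg (fun k => k.app p t) h

theorem isQcoh_invAlg [Finite G] (hX : X.IsFinSp) (A : Alg X) (hA : A.IsQcoh)
    (ρ : G → (A ⟶ A)) : (invAlg A ρ).IsQcoh := by
  intro p q h
  letI : Algebra (X.ring p) (X.ring q) := (X.res h).toAlgebra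
  haveI : Module.Flat (X.ring p) (X.ring q) := hX.2 p q h
  letI : Module (X.ring p) ↥(invSubalg (fun g => (ρ g).app q)) :=
    Module.compHom ↥(invSubalg (fun g => (ρ g).app q)) (X.res h)
  haveI : IsScalarTower (X.ring p) (X.ring q) ↥(invSubalg (fun g => (ρ g).app q)) :=
    IsScalarTower.of_algebraMap_smul fun _ _ => rfl
  letI : Module (X.ring p) (A.carrier q) := Module.compHom (A.carrier q) (X.res h)
  haveI : IsScalarTower (X.ring p) (X.ring q) (A.carrier q) :=
    IsScalarTower.of_algebraMap_smul fun _ _ => rfl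
  have h1 : IsBaseChange (X.ring q) ({ toFun := A.toMod.res h, map_add' := (A.toMod.res h).map_add, map_smul' := (A.toMod.res h).map_smulₛₗ } : A.carrier p →ₗ[X.ring p] A.carrier q) :=
    hA p q h
  show IsBaseChange (X.ring q) ({ toFun := (invAlg A ρ).toMod.res h, map_add' := ((invAlg A ρ).toMod.res h).map_add, map_smul' := ((invAlg A ρ).toMod.res h).map_smulₛₗ } : ↥(invSubalg (fun g => (ρ g).app p)) →ₗ[X.ring p] ↥(invSubalg (fun g => (ρ g).app q)))
  exact isBaseChange_inv _ h1 (fun g => ((ρ g).app p).toLinearMap)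
    (fun g => ((ρ g).app q).toLinearMap) (fun g m => ((ρ g).compat h m).symm)
    (invSubalg (fun g => (ρ g).app p)).val.toLinearMap Subtype.val_injective
    (fun m => ⟨fun ⟨n, hn⟩ => hn ▸ n.2, fun hm => ⟨⟨m, hm⟩, rfl⟩⟩)
    (invSubalg (fun g => (ρ g).app q)).val.toLinearMap Subtype.val_injective
    (fun m => ⟨fun ⟨n, hn⟩ => hn ▸ n.2, fun hm => ⟨⟨m, hm⟩, rfl⟩⟩)
    _ (fun n => rfl)

theorem isEtCover_invAlg [Finite G] (hX : X.IsFinSp) (A : FEt X) (ρ : G → (A.obj ⟶ A.obj))
    (W : Alg X) (n : ℕ) (hW : W.IsCovering)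
    (htriv : ∀ p : X.pt, Nonempty (TensorProduct (X.ring p) (W.carrier p) (A.obj.carrier p)
      ≃ₐ[W.carrier p] (Fin n → W.carrier p))) : (invAlg A.obj ρ).IsEtCover := by
  refine ⟨isQcoh_invAlg hX A.obj A.property.1 ρ, fun p => ?_⟩
  haveI := hX.1 p
  haveI := (A.property.2 p).1
  haveI := (hW.2 p).2
  obtain ⟨e⟩ := htriv p
  exact inv_etale n e (fun g => (ρ g).app p)

end InvAlg

section InvFEt

variable {X : RSpace.{u}} {G : Type u} [Finite G]

/-- the invariants as an étale cover -/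
def invFEt (hX : X.IsFinSp)
    (hlt : ∀ A : FEt X, ∃ (B : Alg X) (n : ℕ), B.IsCovering ∧
      ∀ p : X.pt, Nonempty (TensorProduct (X.ring p) (B.carrier p) (A.obj.carrier p)
        ≃ₐ[B.carrier p] (Fin n → B.carrier p)))
    (A : FEt X) (ρ : G → (A ⟶ A)) : FEt X :=
  ⟨invAlg A.obj (fun g => (ρ g).hom), by
    obtain ⟨W, n, hW, htriv⟩ := hlt A
    exact isEtCover_invAlg hX A (fun g => (ρ g).hom) W n hW htriv⟩

variable (hX : X.IsFinSp)
  (hlt : ∀ A : FEt X, ∃ (B : Alg X) (n : ℕ), B.IsCovering ∧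
    ∀ p : X.pt, Nonempty (TensorProduct (X.ring p) (B.carrier p) (A.obj.carrier p)
      ≃ₐ[B.carrier p] (Fin n → B.carrier p)))

def invFEtIncl (A : FEt X) (ρ : G → (A ⟶ A)) : invFEt hX hlt A ρ ⟶ A :=
  ObjectProperty.homMk (invIncl A.obj (fun g => (ρ g).hom))

theorem invFEtIncl_comp (A : FEt X) (ρ : G → (A ⟶ A)) (g : G) :
    invFEtIncl hX hlt A ρ ≫ ρ g = invFEtIncl hX hlt A ρ := by
  apply ObjectProperty.hom_ext
  exact invIncl_comp A.obj (fun g => (ρ g).hom) g

def invFEtLift {T A : FEt X} (ρ : G → (A ⟶ A)) (u : T ⟶ A) (hu : ∀ g, u ≫ ρ g = u) :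
    T ⟶ invFEt hX hlt A ρ :=
  ObjectProperty.homMk (invLift (fun g => (ρ g).hom) u.hom
    (fun g => congrArg (fun k => k.hom) (hu g)))

theorem invFEtLift_incl {T A : FEt X} (ρ : G → (A ⟶ A)) (u : T ⟶ A) (hu : ∀ g, u ≫ ρ g = u) :
    invFEtLift hX hlt ρ u hu ≫ invFEtIncl hX hlt A ρ = u := by
  apply ObjectProperty.hom_ext
  exact invLift_incl (fun g => (ρ g).hom) u.hom (fun g => congrArg (fun k => k.hom) (hu g))

theorem invFEt_hom_ext {T A : FEt X} (ρ : G → (A ⟶ A)) (m m' : T ⟶ invFEt hX hlt A ρ)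
    (h : m ≫ invFEtIncl hX hlt A ρ = m' ≫ invFEtIncl hX hlt A ρ) : m = m' := by
  apply ObjectProperty.hom_ext
  exact inv_hom_ext (fun g => (ρ g).hom) m.hom m'.hom (congrArg (fun k => k.hom) h)

end InvFEt

section Main29

variable {X : RSpace.{u}}

theorem main15629 (hX : X.IsSchematic)
    (hlt : ∀ A : FEt X, ∃ (B : Alg X) (n : ℕ), B.IsCovering ∧
      ∀ p : X.pt, Nonempty (TensorProduct (X.ring p) (B.carrier p) (A.obj.carrier p)
        ≃ₐ[B.carrier p] (Fin n → B.carrier p)))
    (G : Type u) [Group G] [Finite G] : HasLimitsOfShape (SingleObj G) (FEt X) := by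
  have hfin : X.IsFinSp := hX.1
  constructor
  intro K
  obtain ⟨ρ, hρ⟩ : ∃ ρ : G → (K.obj (SingleObj.star G) ⟶ K.obj (SingleObj.star G)),
      ∀ g : G, ρ g = K.map (show SingleObj.star G ⟶ SingleObj.star G from g) :=
    ⟨fun g => K.map (show SingleObj.star G ⟶ SingleObj.star G from g), fun g => rfl⟩
  refine HasLimit.mk ⟨⟨invFEt hfin hlt (K.obj (SingleObj.star G)) ρ,
    { app := fun _ => invFEtIncl hfin hlt (K.obj (SingleObj.star G)) ρ
      naturality := fun _ _ g => by
        have h1 := invFEtIncl_comp hfin hlt (K.obj (SingleObj.star G)) ρ g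
        rw [hρ] at h1
        show 𝟙 _ ≫ invFEtIncl hfin hlt (K.obj (SingleObj.star G)) ρ =
          invFEtIncl hfin hlt (K.obj (SingleObj.star G)) ρ ≫ K.map g
        rw [Category.id_comp]
        exact h1.symm }⟩,
    { lift := fun s => invFEtLift hfin hlt ρ (s.π.app (SingleObj.star G)) (fun g => by
        have h1 := s.π.naturality (show SingleObj.star G ⟶ SingleObj.star G from g)
        rw [hρ]
        have h2 : 𝟙 s.pt ≫ s.π.app (SingleObj.star G) =
          s.π.app (SingleObj.star G) ≫ K.map (show SingleObj.star G ⟶ SingleObj.star G from g) := h1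
        rw [Category.id_comp] at h2
        exact h2.symm)
      fac := fun s j => invFEtLift_incl hfin hlt ρ (s.π.app (SingleObj.star G)) _
      uniq := fun s m hm => by
        apply invFEt_hom_ext hfin hlt ρ
        rw [invFEtLift_incl]
        exact hm (SingleObj.star G) }⟩

end Main29

end Groth.Agent.Lib.SchFinFEtH6
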