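import Mathlib
import Groth.Prelude.Def_SchFin
import Groth.Prelude.Def_SchFin2
import Groth.Agent.Lib.SchFinGal1_helper6
import Groth.Agent.Lib.SchFinInv3_helper6
import Groth.Agent.Lib.SchFinFib3_helper6
import Groth.Agent.Lib.SchFinPO2_helper6
import Groth.Agent.Lib.SchFinFEt1_helper6
set_option autoImplicit false
universe u

/-!
# The opposite of the category of étale covers of a well-connected schematic finite space is a
Galois category (helper6)
-/

open TensorProduct CategoryTheory CategoryTheory.Limits SchFin Opposite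

namespace Groth.Agent.Lib.SchFinFEtH6

section Orbit2

variable {X : RSpace.{u}} {Ω : Type u} [Field Ω] [IsAlgClosed Ω] (ξ : GeomPt X Ω)
variable {G : Type u} [Group G] [Finite G]
variable (hfin : X.IsFinSp)
  (hlt : ∀ A : FEt X, ∃ (B : Alg X) (n : ℕ), B.IsCovering ∧
    ∀ p : X.pt, Nonempty (TensorProduct (X.ring p) (B.carrier p) (A.obj.carrier p)
      ≃ₐ[B.carrier p] (Fin n → B.carrier p)))

attribute [local instance] fibAlgebra

/-- two points of the fibre of an étale cover with the same image in the fibre of the invariants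
of a finite group of automorphisms are conjugate -/
theorem fib_orbit (A : FEt X) (ρ : G → (A ⟶ A)) (hone : ρ 1 = 𝟙 A)
    (hmul : ∀ g h, ρ (h * g) = ρ h ≫ ρ g) (y y' : ξ.Fib A.obj)
    (hyy : ξ.fibMap (invFEtIncl hfin hlt A ρ).hom y = ξ.fibMap (invFEtIncl hfin hlt A ρ).hom y') :
    ∃ g, y = ξ.fibMap (ρ g).hom y' := by
  haveI := (A.property.2 ξ.base).1
  haveI : Module.Finite (X.ring ξ.base) ((invFEt hfin hlt A ρ).obj.carrier ξ.base) :=
    ((invFEt hfin hlt A ρ).property.2 ξ.base).1
  obtain ⟨ψ, rfl⟩ := (fibOfHom_bijective ξ A.obj).2 y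
  obtain ⟨ψ', rfl⟩ := (fibOfHom_bijective ξ A.obj).2 y'
  rw [fibMap_fibOfHom, fibMap_fibOfHom] at hyy
  have h1 := (fibOfHom_bijective ξ (invFEt hfin hlt A ρ).obj).1 hyy
  obtain ⟨W, n, hW, htriv⟩ := hlt A
  obtain ⟨e⟩ := htriv ξ.base
  haveI := (hW.2 ξ.base).1
  haveI := (hW.2 ξ.base).2
  have hone' : (fun g => (ρ g).hom.app ξ.base) 1 = AlgHom.id (X.ring ξ.base) (A.obj.carrier ξ.base) := by
    show (ρ 1).hom.app ξ.base = _
    rw [hone]
    rfl
  have hmul' : ∀ g h : G, (fun g => (ρ g).hom.app ξ.base) (h * g) =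
      ((fun g => (ρ g).hom.app ξ.base) g).comp ((fun g => (ρ g).hom.app ξ.base) h) := by
    intro g h
    show (ρ (h * g)).hom.app ξ.base = _
    rw [hmul]
    rfl
  have hag : ∀ b ∈ invSubalg (fun g => (ρ g).hom.app ξ.base), ψ b = ψ' b := by
    intro b hb
    exact AlgHom.congr_fun h1 ⟨b, hb⟩
  obtain ⟨g, hg⟩ := orbit_of_agree n e (fun g => (ρ g).hom.app ξ.base) hone' hmul' ψ ψ' hag
  refine ⟨g, ?_⟩
  rw [fibMap_fibOfHom, hg]

end Orbit2

section Quot

variable {X : RSpace.{u}} {Ω : Type u} [Field Ω] [IsAlgClosed Ω] (ξ : GeomPt X Ω)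
variable {G : Type u} [Group G] [Finite G]
variable (hfin : X.IsFinSp)
  (hlt : ∀ A : FEt X, ∃ (B : Alg X) (n : ℕ), B.IsCovering ∧
    ∀ p : X.pt, Nonempty (TensorProduct (X.ring p) (B.carrier p) (A.obj.carrier p)
      ≃ₐ[B.carrier p] (Fin n → B.carrier p)))
variable (K' : SingleObj G ⥤ (FEt X)ᵒᵖ)

/-- the action on the étale cover underlying a `G`-object of the opposite category -/
def actOf (g : G) : (K'.obj (SingleObj.star G)).unop ⟶ (K'.obj (SingleObj.star G)).unop :=
  (K'.map (show SingleObj.star G ⟶ SingleObj.star G from g)).unop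

theorem actOf_one : actOf K' 1 = 𝟙 _ := by
  have h : (show SingleObj.star G ⟶ SingleObj.star G from (1 : G)) = 𝟙 (SingleObj.star G) := rfl
  show (K'.map (show SingleObj.star G ⟶ SingleObj.star G from (1 : G))).unop = _
  rw [h, K'.map_id]
  rfl

theorem actOf_mul (g h : G) : actOf K' (h * g) = actOf K' h ≫ actOf K' g := by
  have h0 : (show SingleObj.star G ⟶ SingleObj.star G from (h * g)) =
      (show SingleObj.star G ⟶ SingleObj.star G from g) ≫
        (show SingleObj.star G ⟶ SingleObj.star G from h) := rfl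
  show (K'.map (show SingleObj.star G ⟶ SingleObj.star G from (h * g))).unop = _
  rw [h0, K'.map_comp]
  rfl

/-- the cocone of the quotient: the invariants -/
def quotCocone : Cocone K' where
  pt := op (invFEt hfin hlt (K'.obj (SingleObj.star G)).unop (actOf K'))
  ι :=
    { app := fun _ => (invFEtIncl hfin hlt (K'.obj (SingleObj.star G)).unop (actOf K')).op
      naturality := fun _ _ g => by
        apply Quiver.Hom.unop_inj
        show invFEtIncl hfin hlt (K'.obj (SingleObj.star G)).unop (actOf K') ≫ actOf K' g =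
          𝟙 _ ≫ invFEtIncl hfin hlt (K'.obj (SingleObj.star G)).unop (actOf K')
        rw [Category.id_comp]
        exact invFEtIncl_comp hfin hlt (K'.obj (SingleObj.star G)).unop (actOf K') g }

theorem cocone_inv (s : Cocone K') (g : G) :
    (s.ι.app (SingleObj.star G)).unop ≫ actOf K' g = (s.ι.app (SingleObj.star G)).unop := by
  have h1 := s.ι.naturality (show SingleObj.star G ⟶ SingleObj.star G from g)
  have h2 : K'.map (show SingleObj.star G ⟶ SingleObj.star G from g) ≫
      s.ι.app (SingleObj.star G) = s.ι.app (SingleObj.star G) := by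
    rw [h1]
    exact Category.comp_id _
  exact congrArg Quiver.Hom.unop h2

/-- the invariants are the quotient in the opposite category -/
def quotIsColimit : IsColimit (quotCocone hfin hlt K') where
  desc s := (invFEtLift hfin hlt (actOf K') (s.ι.app (SingleObj.star G)).unop
    (cocone_inv K' s)).op
  fac s j := by
    apply Quiver.Hom.unop_inj
    exact invFEtLift_incl hfin hlt (actOf K') (s.ι.app (SingleObj.star G)).unop (cocone_inv K' s)
  uniq s m hm := by
    apply Quiver.Hom.unop_inj
    apply invFEt_hom_ext hfin hlt (actOf K')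
    refine Eq.trans ?_ (invFEtLift_incl hfin hlt (actOf K') (s.ι.app (SingleObj.star G)).unop
      (cocone_inv K' s)).symm
    exact congrArg Quiver.Hom.unop (hm (SingleObj.star G))

include hfin hlt in
theorem hasQuot : HasColimit K' := HasColimit.mk ⟨_, quotIsColimit hfin hlt K'⟩

include hfin hlt in
theorem preservesQuot : PreservesColimit K' ξ.fibFunctor := by
  apply preservesColimit_of_preserves_colimit_cocone (quotIsColimit hfin hlt K')
  have hsurj : Function.Surjective
      (ξ.fibMap (invFEtIncl hfin hlt (K'.obj (SingleObj.star G)).unop (actOf K')).hom) :=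
    fib_surjective_of_injective ξ (invFEtIncl hfin hlt (K'.obj (SingleObj.star G)).unop (actOf K'))
      Subtype.val_injective
  have horb := fib_orbit ξ hfin hlt (K'.obj (SingleObj.star G)).unop (actOf K') (actOf_one K')
    (actOf_mul K')
  exact
    { desc := fun s => FintypeCat.homMk (fun z =>
        s.ι.app (SingleObj.star G) (Classical.choose (hsurj z)))
      fac := fun s j => by
        apply FintypeCat.hom_ext
        intro y
        show s.ι.app (SingleObj.star G) (Classical.choose (hsurj
          (ξ.fibMap (invFEtIncl hfin hlt (K'.obj (SingleObj.star G)).unop (actOf K')).hom y))) =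
          s.ι.app (SingleObj.star G) y
        obtain ⟨g, hg⟩ := horb _ _ (Classical.choose_spec (hsurj
          (ξ.fibMap (invFEtIncl hfin hlt (K'.obj (SingleObj.star G)).unop (actOf K')).hom y)))
        refine Eq.trans (congrArg (fun w => s.ι.app (SingleObj.star G) w) hg) ?_
        exact ConcreteCategory.congr_hom
          (s.ι.naturality (show SingleObj.star G ⟶ SingleObj.star G from g)) y
      uniq := fun s m hm => by
        apply FintypeCat.hom_ext
        intro z
        show m z = s.ι.app (SingleObj.star G) (Classical.choose (hsurj z))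
        have h1 := ConcreteCategory.congr_hom (hm (SingleObj.star G))
          (Classical.choose (hsurj z))
        refine Eq.trans ?_ h1
        exact congrArg (fun w => m w) (Classical.choose_spec (hsurj z)).symm }

end Quot

section Main32

variable {X : RSpace.{u}} {Ω : Type u} [Field Ω] [IsAlgClosed Ω] (ξ : GeomPt X Ω)

theorem mono_summand (hX : X.IsSchematic)
    (hepi : ∀ (A B : FEt X) (f : A ⟶ B), Epi f → ∀ p : X.pt, Function.Surjective (f.hom.app p))
    {X' Y' : (FEt X)ᵒᵖ} (i : X' ⟶ Y') [Mono i] :
    ∃ (Z : (FEt X)ᵒᵖ) (u : Z ⟶ Y'), Nonempty (IsColimit (BinaryCofan.mk i u)) := by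
  haveI : Epi i.unop := unop_epi_of_mono i
  obtain ⟨D, π, ⟨hlim⟩⟩ := main15628 hX i.unop (hepi _ _ i.unop inferInstance)
  exact ⟨op D, π.op, ⟨BinaryFan.IsLimit.op hlim⟩⟩

theorem main15632 (hX : X.IsSchematic) (hwc : X.IsWellConnected)
    (hlt : ∀ A : FEt X, ∃ (B : Alg X) (n : ℕ), B.IsCovering ∧
      ∀ p : X.pt, Nonempty (TensorProduct (X.ring p) (B.carrier p) (A.obj.carrier p)
        ≃ₐ[B.carrier p] (Fin n → B.carrier p)))
    (hepi : ∀ (A B : FEt X) (f : A ⟶ B), Epi f → ∀ p : X.pt, Function.Surjective (f.hom.app p)) :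
    ∃ h : PreGaloisCategory (FEt X)ᵒᵖ,
      @PreGaloisCategory.FiberFunctor (FEt X)ᵒᵖ _ h ξ.fibFunctor := by
  have hfin : X.IsFinSp := hX.1
  haveI : HasInitial (FEt X) := (main15621 X hX).1
  haveI : HasPushouts (FEt X) := (main15621 X hX).2
  haveI : HasFiniteProducts (FEt X) := by
    haveI := (main15622 X).1
    haveI := (main15622 X).2
    exact hasFiniteProducts_of_has_binary_and_terminal
  have h : PreGaloisCategory (FEt X)ᵒᵖ :=
    { hasTerminal := inferInstance
      hasPullbacks := inferInstance
      hasFiniteCoproducts := inferInstance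
      hasQuotientsByFiniteGroups := fun G _ _ => ⟨fun K' => hasQuot hfin hlt K'⟩
      monoInducesIsoOnDirectSummand := fun i _ => mono_summand hX hepi i }
  refine ⟨h, ?_⟩
  obtain ⟨h1, h2, h3, h4⟩ := main15633 ξ hX
  exact
    { preservesTerminalObjects := h1
      preservesPullbacks := h2
      preservesFiniteCoproducts := h3
      preservesEpis := h4
      preservesQuotientsByFiniteGroups := fun G _ _ => ⟨fun {K'} => preservesQuot ξ hfin hlt K'⟩
      reflectsIsos := main15631 ξ hX hwc hlt }

end Main32

end Groth.Agent.Lib.SchFinFEtH6
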