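import Mathlib
import Groth.Prelude.Def_SchFin
import Groth.Prelude.Def_SchFin2
import Groth.Agent.S15610
set_option autoImplicit false
universe u

/-!
# Morphisms between trivial étale covers of a well-connected schematic finite space (helper6)
-/

open SchFin

namespace Groth.Agent.Lib.SchFinTrivH6

/-- an algebra map `R^F → R` over a ring with only trivial idempotents is a coordinate projection -/
theorem exists_coord {R : Type u} [CommRing R] [Nontrivial R]
    (hid : ∀ e : R, IsIdempotentElem e → e = 0 ∨ e = 1) {F : Type} [Finite F]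
    (χ : (F → R) →ₐ[R] R) : ∃! i : F, ∀ g : F → R, χ g = g i := by
  classical
  haveI := Fintype.ofFinite F
  have hdec : ∀ g : F → R, g = ∑ i, g i • (Pi.single i (1 : R) : F → R) := by
    intro g
    funext j
    simp [Finset.sum_apply, Pi.single_apply]
  have hχ : ∀ g : F → R, χ g = ∑ i, g i * χ (Pi.single i (1 : R)) := by
    intro g
    conv_lhs => rw [hdec g]
    rw [map_sum]
    refine Finset.sum_congr rfl fun i _ => ?_
    rw [map_smul, smul_eq_mul]
  have hidem : ∀ i : F, IsIdempotentElem (χ (Pi.single i (1 : R))) := by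
    intro i
    unfold IsIdempotentElem
    rw [← map_mul, ← Pi.single_mul, mul_one]
  have horth : ∀ i j : F, i ≠ j → χ (Pi.single i (1 : R)) * χ (Pi.single j (1 : R)) = 0 := by
    intro i j hij
    rw [← map_mul]
    have : (Pi.single i (1 : R) : F → R) * Pi.single j (1 : R) = 0 := by
      funext k
      by_cases hk : k = i
      · subst hk; simp [Pi.single_apply, hij]
      · simp [Pi.single_apply, hk]
    rw [this, map_zero]
  have hsum : ∑ i, χ (Pi.single i (1 : R)) = 1 := by
    have h1 := hχ 1
    rw [map_one] at h1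
    simpa using h1.symm
  have hex : ∃ i : F, χ (Pi.single i (1 : R)) = 1 := by
    by_contra hcon
    push_neg at hcon
    have h0 : ∀ i : F, χ (Pi.single i (1 : R)) = 0 := fun i =>
      (hid _ (hidem i)).resolve_right (hcon i)
    rw [Finset.sum_congr rfl (fun i _ => h0 i), Finset.sum_const_zero] at hsum
    exact zero_ne_one hsum
  obtain ⟨i, hi⟩ := hex
  have hother : ∀ j : F, j ≠ i → χ (Pi.single j (1 : R)) = 0 := by
    intro j hj
    have := horth j i hj
    rwa [hi, mul_one] at this
  refine ⟨i, fun g => ?_, fun j hj => ?_⟩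
  · rw [hχ g, Finset.sum_eq_single i]
    · rw [hi, mul_one]
    · intro j _ hj; rw [hother j hj, mul_zero]
    · intro h; exact absurd (Finset.mem_univ i) h
  · by_contra hne
    have h1 := hj (Pi.single i (1 : R))
    rw [hi, Pi.single_apply, if_neg hne] at h1
    exact one_ne_zero h1

theorem main19550 (X : RSpace.{u})
    (hX : X.IsSchematic) (hW : X.IsWellConnected) (F E : Type) [Finite F] [Finite E]
    (f : ∀ p : X.pt, (F → X.ring p) →ₐ[X.ring p] (E → X.ring p))
    (hf : ∀ (p q : X.pt) (h : p ≤ q) (g : F → X.ring p) (e : E),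
      X.res h (f p g e) = f q (fun i => X.res h (g i)) e) :
    ∃ φ : E → F, ∀ (p : X.pt) (g : F → X.ring p) (e : E), f p g e = g (φ e) := by
  classical
  obtain ⟨htop, hpw⟩ := (Groth.Agent.S15610.result X hX).mp hW
  have hnt : ∀ p : X.pt, Nontrivial (X.ring p) := fun p =>
    ((Groth.Agent.Lib.SpecConn_helper3.connectedSpace_iff_idem _).1 (hpw p)).1
  have hid : ∀ (p : X.pt) (e : X.ring p), IsIdempotentElem e → e = 0 ∨ e = 1 := fun p =>
    ((Groth.Agent.Lib.SpecConn_helper3.connectedSpace_iff_idem _).1 (hpw p)).2
  have hco : ∀ (p : X.pt) (e : E), ∃! i : F, ∀ g : F → X.ring p, f p g e = g i := by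
    intro p e
    haveI := hnt p
    exact exists_coord (hid p) ((Pi.evalAlgHom (X.ring p) (fun _ : E => X.ring p) e).comp (f p))
  choose φ hφ hφu using hco
  have hmono : ∀ (p q : X.pt), p ≤ q → φ p = φ q := by
    intro p q h
    funext e
    by_contra hne
    have h1 := hf p q h (Pi.single (φ p e) (1 : X.ring p)) e
    rw [hφ p e, hφ q e] at h1
    simp only [Pi.single_apply, if_true] at h1
    rw [if_neg (fun h' => hne h'.symm), map_one, map_zero] at h1
    haveI := hnt q
    exact one_ne_zero h1
  have hconst : ∀ p q : X.pt, φ p = φ q := by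
    intro p q
    have := htop.2 p q
    induction this with
    | rel a b h => exact hmono a b h
    | refl a => rfl
    | symm a b _ ih => exact ih.symm
    | trans a b c _ _ ih1 ih2 => exact ih1.trans ih2
  obtain ⟨p₀⟩ := htop.1
  exact ⟨φ p₀, fun p g e => by rw [hφ p e, hconst p p₀]⟩

end Groth.Agent.Lib.SchFinTrivH6
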