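import Groth.Agent.Lib.SchImKT_helper7
import Groth.Agent.Lib.SchDenseKer_helper7

/-!
# Scheme theoretic density of a quasi-compact open vs. scheme theoretic closure (helper7)
-/

set_option autoImplicit false
universe u
open CategoryTheory CategoryTheory.Limits AlgebraicGeometry Opposite

namespace Groth.Agent.Lib.SchImKT2H7

open AlgSp Groth.Agent.Lib.AlgSpPoints_helper7 Groth.Agent.Lib.AlgSpPullback_helper7
  Groth.Agent.Lib.AlgSpQC_helper7 Groth.Agent.Lib.AlgSpFpqc_helper7 Groth.Agent.Lib.SchImageH7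
  Groth.Agent.Lib.RedFactorH7 Groth.Agent.Lib.AlgSpIso_helper7
  Groth.Agent.Lib.SpCoprod4H7 Groth.Agent.Lib.SchImKerH7 Groth.Agent.Lib.SchImKTH7
  Groth.Agent.Lib.EtChartsH7 Groth.Agent.Lib.SchDenseKerH7 Groth.Agent.Lib.AlgSpBasic_helper7
open Scheme (IdealSheafData)

variable {S : Scheme.{u}}

theorem isSchImage_id_of_isSchDense {U X : Sp S} (j : U ⟶ X) (hj : IsSchDense j) :
    IsSchImage j (𝟙 X) := by
  obtain ⟨-, U₀, φ, W, fstW, hφe, hφs, sqW, hW⟩ := hj
  refine ⟨repWith_of_isIso _ (𝟙 X), ⟨j, Category.comp_id _⟩, ?_⟩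
  rintro Z' i' hZ' hi' ⟨j'', hj''⟩
  haveI : Mono i' := mono_of_closedImmersion i' hi'
  haveI : Epi φ := epi_of_atlas φ hφe hφs
  have sq' := hi'.rep.isPullback φ
  haveI hcl : IsClosedImmersion (hi'.rep.snd φ).left := hi'.property_snd φ
  let ιW : Over.mk (W.ι ≫ U₀.hom) ⟶ U₀ := Over.homMk W.ι rfl
  have h1 : (hi'.rep.snd φ).left.ker ≤ ιW.left.ker :=
    idl_le_ker hi' φ ιW (fstW ≫ j'') (by rw [Category.assoc, hj'']; exact sqW.w)
  haveI := dominant_of_dense W hW
  have h2 : (hi'.rep.snd φ).left.ker = ⊥ :=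
    le_bot_iff.1 (h1.trans (le_of_eq (Scheme.Hom.ker_eq_bot W.ι)))
  haveI : IsIso (hi'.rep.snd φ).left := IsClosedImmersion.isIso_iff_ker_eq_bot.2 h2
  haveI : IsIso ((Over.forget S).map (hi'.rep.snd φ)) := ‹IsIso (hi'.rep.snd φ).left›
  haveI : IsIso (hi'.rep.snd φ) := isIso_of_reflects_iso _ (Over.forget S)
  refine exists_factor_of_epi_mono φ i' (𝟙 X)
    ((yon S).map (inv (hi'.rep.snd φ)) ≫ hi'.rep.fst φ) ?_
  rw [Category.assoc, sq'.w, ← Category.assoc, ← Functor.map_comp, IsIso.inv_hom_id,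
    (yon S).map_id, Category.id_comp, Category.comp_id]

theorem isSchDense_of_isSchImage_id {U X : Sp S} (hU : IsAlgSpace U) (hX : IsAlgSpace X)
    (j : U ⟶ X) (hj : RepWith @IsOpenImmersion j) (hq : IsQuasiCompactMor j)
    (hZ : IsSchImage j (𝟙 X)) : IsSchDense j := by
  obtain ⟨ι, Uk, hUk, p, hpe, hps⟩ := exists_sigma_affine_atlas hX
  have sqA := hj.rep.isPullback p
  haveI hoi : IsOpenImmersion (hj.rep.snd p).left := hj.property_snd p
  let W : (sigmaOver Uk).left.Opens := (hj.rep.snd p).left.opensRange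
  have he : (hj.rep.snd p).left.isoOpensRange.inv ≫ (hj.rep.snd p).left = W.ι :=
    Scheme.Hom.isoOpensRange_inv_comp _
  let eo : Over.mk (W.ι ≫ (sigmaOver Uk).hom) ≅ hj.rep.pullback p :=
    Over.isoMk (hj.rep.snd p).left.isoOpensRange.symm (by
      show (hj.rep.snd p).left.isoOpensRange.inv ≫ (hj.rep.pullback p).hom =
        W.ι ≫ (sigmaOver Uk).hom
      rw [← Over.w (hj.rep.snd p), ← Category.assoc, he])
  have heo : eo.hom ≫ hj.rep.snd p =
      (Over.homMk W.ι rfl : Over.mk (W.ι ≫ (sigmaOver Uk).hom) ⟶ sigmaOver Uk) := by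
    ext; exact he
  refine ⟨hj, sigmaOver Uk, p, W, (yon S).map eo.hom ≫ hj.rep.fst p, hpe, hps, ?_, ?_⟩
  · have hL : IsPullback ((yon S).map eo.hom)
        ((yon S).map (Over.homMk W.ι rfl :
          Over.mk (W.ι ≫ (sigmaOver Uk).hom) ⟶ sigmaOver Uk))
        ((yon S).map (hj.rep.snd p)) (𝟙 _) :=
      IsPullback.of_horiz_isIso ⟨by rw [Category.comp_id, ← Functor.map_comp, heo]⟩
    have := hL.paste_horiz sqA
    rwa [Category.id_comp] at this
  · let D : ChartData j p :=
      { P := (yon S).obj (hj.rep.pullback p)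
        fst := hj.rep.fst p
        snd := (yon S).map (hj.rep.snd p)
        sq := sqA
        T := hj.rep.pullback p
        q := 𝟙 ((yon S).obj (hj.rep.pullback p))
        hqe := repWith_id @Etale (hj.rep.pullback p)
        hqs := repWith_id @Surjective (hj.rep.pullback p)
        g := hj.rep.snd p
        hg := (Category.id_comp ((yon S).map (hj.rep.snd p))).symm }
    haveI hqcA : QuasiCompact D.g.left := by
      have h2 : IsQuasiCompactMor ((yon S).map (hj.rep.snd p)) :=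
        isQuasiCompactMor_of_isPullback sqA hq
      have h3 := repWith_quasiCompact_of_isQuasiCompactMor _
        ((repWith_yon_map_iff @IsOpenImmersion _).2 hoi).rep h2
      exact (repWith_yon_map_iff _ _).1 h3
    have e1 := ker_eq_of_isSchImage hU hX j hq (𝟙 X) hZ p (flat_lfp_of_repWith_etale p hpe).1 D
    have e0 : (hZ.1.rep.snd p).left.ker = ⊥ := by
      have sqI : IsPullback p ((yon S).map (𝟙 (sigmaOver Uk))) (𝟙 X) p := by
        rw [CategoryTheory.Functor.map_id]; exact IsPullback.of_id_snd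
      rw [← ker_eq_idl hZ.1 p (𝟙 (sigmaOver Uk)) p sqI]
      have : (𝟙 (sigmaOver Uk) : sigmaOver Uk ⟶ sigmaOver Uk).left = 𝟙 _ := rfl
      rw [this]
      exact Scheme.Hom.ker_eq_bot_of_isIso _
    haveI : IsSchemeTheoreticallyDominant W.ι :=
      ⟨by rw [← he, Scheme.Hom.ker_comp_of_isIso]; exact e1.symm.trans e0⟩
    haveI : QuasiCompact W.ι := by rw [← he]; infer_instance
    exact dense_of_dominant W

end Groth.Agent.Lib.SchImKT2H7
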