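import Groth.Agent.Lib.SchImKT_helper7
import Groth.Agent.Lib.AlgSpProper_helper7
import Groth.Agent.Lib.AlgSpQC2_helper7
import Groth.Agent.Lib.AlgSpLocP4_helper7
import Groth.Agent.Lib.AlgSpEmbed_helper6

/-!
# The scheme theoretic image of a proper space in a separated one is proper (helper7)
-/

set_option autoImplicit false
universe u
open CategoryTheory CategoryTheory.Limits AlgebraicGeometry Opposite

namespace Groth.Agent.Lib.SchImKT3H7

open AlgSp Groth.Agent.Lib.AlgSpPoints_helper7 Groth.Agent.Lib.AlgSpPullback_helper7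
  Groth.Agent.Lib.AlgSpQC_helper7 Groth.Agent.Lib.AlgSpQC2_helper7 Groth.Agent.Lib.SchImageH7
  Groth.Agent.Lib.SchImKTH7 Groth.Agent.Lib.AlgSpProper_helper7 Groth.Agent.Lib.AlgSpLocP4_helper7
  Groth.Agent.Lib.AlgSpLocP_helper7 Groth.Agent.Lib.AlgSpEmbed_helper6
  Groth.Agent.Lib.AlgSpTop_helper7

variable {S : Scheme.{u}}

theorem schImage_proper {X Y Z B : Sp S} (hX : IsAlgSpace X) (hY : IsAlgSpace Y)
    (hB : IsAlgSpace B) (h : X ⟶ Y) (g : Y ⟶ B) (hf : IsProperMor (h ≫ g))
    (hg : IsSeparatedMor g) (hg' : LocP @LocallyOfFiniteType g) (i : Z ⟶ Y)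
    (hZ : IsSchImage h i) (h' : X ⟶ Z) (fac : h' ≫ i = h) :
    IsProperMor (i ≫ g) ∧ IsSurjectiveMor h' := by
  obtain ⟨hfs, ⟨hflft, hfqc⟩, hfuc⟩ := hf
  have hgqs : IsQuasiSeparatedMor g :=
    repWith_mono (fun _ _ k (hk : IsClosedImmersion k) => (inferInstance : QuasiCompact k)) hg
  have hhqc : IsQuasiCompactMor h := isQuasiCompactMor_of_comp_of_isQuasiSeparatedMor h g hfqc hgqs
  have hhuc : IsUnivClosedMor h :=
    isUnivClosedMor_of_comp_of_isSeparatedMor hX hY hB.diag h g hg hfuc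
  have hhc : IsClosedMap (Points.map h) := hhuc hY (𝟙 Y) (𝟙 X) h IsPullback.of_id_fst
  haveI : Mono i := mono_of_closedImmersion i hZ.1
  have hZa : IsAlgSpace Z := isAlgSpace_of_representable_mono i hZ.1.rep hY
  have hemb := (isEmbedding_map_of_immersion hY i
    (repWith_mono (fun _ _ k (hk : IsClosedImmersion k) => (inferInstance : IsImmersion k))
      hZ.1)).1
  have hsurj : IsSurjectiveMor h' := by
    intro z
    have h1 := range_subset_closure hX hY h hhqc i hZ ⟨z, rfl⟩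
    rw [hhc.isClosed_range.closure_eq] at h1
    obtain ⟨x, hx⟩ := h1
    refine ⟨x, hemb.injective ?_⟩
    rw [← hx, ← Points.map_comp, fac]
  have hfqc' : IsQuasiCompactMor (h' ≫ i ≫ g) := by rw [← Category.assoc, fac]; exact hfqc
  have hfuc' : IsUnivClosedMor (h' ≫ i ≫ g) := by rw [← Category.assoc, fac]; exact hfuc
  refine ⟨⟨isSeparatedMor_comp i g (isSeparatedMor_of_mono i) hg, ⟨?_, ?_⟩, ?_⟩, hsurj⟩
  · exact locP_comp etLocal_locallyOfFiniteType hZa hY hB i g
      (locP_of_repWith @LocallyOfFiniteType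
        (fun _ _ k (hk : Etale k) => (inferInstance : LocallyOfFiniteType k)) i
        (repWith_mono (fun _ _ k (hk : IsClosedImmersion k) =>
          (inferInstance : LocallyOfFiniteType k)) hZ.1)) hg'
  · exact isQuasiCompactMor_of_comp_surjective hZa hB.diag h' (i ≫ g) hsurj hfqc'
  · exact isUnivClosedMor_of_comp_isSurjectiveMor h' (i ≫ g) hsurj hfuc'

end Groth.Agent.Lib.SchImKT3H7
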