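import Groth.Agent.Lib.SchImKT_helper7
import Groth.Agent.Lib.AlgSpProper_helper7
import Groth.Agent.Lib.AlgSpQC2_helper7
import Groth.Agent.Lib.AlgSpLocP4_helper7
import Groth.Agent.Lib.AlgSpSep_helper7

/-!
# The scheme theoretic image of a section over a quasi-compact open (helper7)
-/

set_option autoImplicit false
universe u
open CategoryTheory CategoryTheory.Limits AlgebraicGeometry Opposite

namespace Groth.Agent.Lib.SchImKT4H7

open AlgSp Groth.Agent.Lib.AlgSpPoints_helper7 Groth.Agent.Lib.AlgSpPullback_helper7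
  Groth.Agent.Lib.AlgSpQC_helper7 Groth.Agent.Lib.AlgSpQC2_helper7 Groth.Agent.Lib.SchImageH7
  Groth.Agent.Lib.SchImKTH7 Groth.Agent.Lib.AlgSpProper_helper7 Groth.Agent.Lib.AlgSpLocP4_helper7
  Groth.Agent.Lib.AlgSpLocP_helper7 Groth.Agent.Lib.AlgSpSep_helper7
  Groth.Agent.Lib.AlgSpBasic_helper7 Groth.Agent.Lib.AlgSpFpqc_helper7

variable {S : Scheme.{u}}

/-- A section of a separated morphism is a closed immersion. -/
theorem repWith_isClosedImmersion_of_section {V E : Sp S} (σ : V ⟶ E) (b : E ⟶ V)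
    (hσb : σ ≫ b = 𝟙 V) (hb : IsSeparatedMor b) : RepWith @IsClosedImmersion σ := by
  have sqΓ := pullback_lift_diagonal_isPullback σ b
  have h1 : RepWith @IsClosedImmersion (pullback.lift (𝟙 V) σ (by simp) :
      V ⟶ pullback (σ ≫ b) b) := repWith_snd_of_isPullback _ sqΓ hb
  haveI : IsIso (σ ≫ b) := by rw [hσb]; infer_instance
  have h2 : (pullback.lift (𝟙 V) σ (by simp) : V ⟶ pullback (σ ≫ b) b) ≫
      pullback.snd (σ ≫ b) b = σ := pullback.lift_snd _ _ _
  rw [← h2]
  exact repWith_comp @IsClosedImmersion h1 (AlgSpBasic_helper7.repWith_of_isIso _ _)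

theorem isPullback_id_of_mono {A B C : Sp S} (σ : A ⟶ B) (a : B ⟶ C) [Mono a] :
    IsPullback (𝟙 A) σ (σ ≫ a) a := by
  refine ⟨⟨by rw [Category.id_comp]⟩, ⟨PullbackCone.IsLimit.mk _ (fun c => c.fst)
    (fun c => Category.comp_id _) (fun c => ?_) (fun c m h1 _ => ?_)⟩⟩
  · rw [← cancel_mono a, Category.assoc]; exact c.condition
  · rw [← h1, Category.comp_id]

theorem isIso_snd_of_section {X Y V Y' P : Sp S} (hX : IsAlgSpace X) (hY : IsAlgSpace Y)
    (hV : IsAlgSpace V) (f : X ⟶ Y) (j : V ⟶ Y) (hj : RepWith @IsOpenImmersion j)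
    (hjq : IsQuasiCompactMor j) (hf : IsSeparatedMor f) (s : V ⟶ X) (hs : s ≫ f = j)
    (c : Y' ⟶ X) (hc : IsSchImage s c) (fst : P ⟶ Y') (snd : P ⟶ V)
    (sq : IsPullback fst snd (c ≫ f) j) : IsIso snd := by
  have sqXV : IsPullback (pullback.fst f j) (pullback.snd f j) f j := IsPullback.of_hasPullback f j
  have hXV : IsAlgSpace (pullback f j) := isAlgSpace_of_isPullback hY.diag hX hV sqXV
  have hσa : pullback.lift s (𝟙 V) (by rw [hs, Category.id_comp]) ≫ pullback.fst f j = s :=
    pullback.lift_fst _ _ _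
  have hσb : pullback.lift s (𝟙 V) (by rw [hs, Category.id_comp]) ≫ pullback.snd f j = 𝟙 V :=
    pullback.lift_snd _ _ _
  generalize pullback.lift s (𝟙 V) (by rw [hs, Category.id_comp]) = σ at hσa hσb
  have hb : IsSeparatedMor (pullback.snd f j) := isSeparatedMor_of_isPullback sqXV hf
  have hσ : RepWith @IsClosedImmersion σ := repWith_isClosedImmersion_of_section σ _ hσb hb
  have ha : RepWith @IsOpenImmersion (pullback.fst f j) := repWith_fst_of_isPullback _ sqXV hj
  have haq : IsQuasiCompactMor (pullback.fst f j) := isQuasiCompactMor_of_isPullback sqXV.flip hjq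
  have hσq : IsQuasiCompactMor σ := isQuasiCompactMor_of_repWith σ
    (repWith_mono (fun _ _ k (hk : IsClosedImmersion k) => (inferInstance : QuasiCompact k)) hσ)
  have hsq : IsQuasiCompactMor s := by
    rw [← hσa]; exact isQuasiCompactMor_comp hXV hX.diag σ _ hσq haq
  have haf : LocP @Flat (pullback.fst f j) :=
    locP_of_repWith @Flat (fun _ _ k (hk : Etale k) => (inferInstance : Flat k)) _
      (repWith_mono (fun _ _ k (hk : IsOpenImmersion k) => (inferInstance : Flat k)) ha)
  haveI : Mono (pullback.fst f j) := mono_of_repWith_le_mono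
    (fun _ _ k (hk : IsOpenImmersion k) => (inferInstance : Mono k)) _ ha
  have sqV : IsPullback (𝟙 V) σ s (pullback.fst f j) := by
    have := isPullback_id_of_mono σ (pullback.fst f j)
    rwa [hσa] at this
  have sqZ : IsPullback (pullback.fst c (pullback.fst f j)) (pullback.snd c (pullback.fst f j)) c
      (pullback.fst f j) := IsPullback.of_hasPullback c _
  have hIm : IsSchImage σ (pullback.snd c (pullback.fst f j)) :=
    isSchImage_flat_baseChange hXV hX hV _ haf s hsq c hc (𝟙 V) σ sqV _ _ sqZ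
  obtain ⟨hiX, ⟨k₂, hk₂⟩, hmin⟩ := hIm
  obtain ⟨k₁, hk₁⟩ := hmin σ hV hσ ⟨𝟙 V, Category.id_comp _⟩
  haveI : Mono (pullback.snd c (pullback.fst f j)) := mono_of_closedImmersion _ hiX
  have hk12 : k₁ ≫ k₂ = 𝟙 _ := by
    rw [← cancel_mono (pullback.snd c (pullback.fst f j)), Category.assoc, hk₂, hk₁,
      Category.id_comp]
  have hk1 : pullback.snd c (pullback.fst f j) ≫ pullback.snd f j = k₁ := by
    rw [← hk₁, Category.assoc, hσb, Category.comp_id]
  have hk21 : k₂ ≫ k₁ = 𝟙 V := by rw [← hk1, ← Category.assoc, hk₂, hσb]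
  haveI : IsIso k₁ := ⟨k₂, hk12, hk21⟩
  have big : IsPullback (pullback.fst c (pullback.fst f j))
      (pullback.snd c (pullback.fst f j) ≫ pullback.snd f j) (c ≫ f) j := sqZ.paste_vert sqXV
  have he : (sq.isoIsPullback _ _ big).hom ≫
      (pullback.snd c (pullback.fst f j) ≫ pullback.snd f j) = snd :=
    IsPullback.isoIsPullback_hom_snd _ _ sq big
  haveI : IsIso (pullback.snd c (pullback.fst f j) ≫ pullback.snd f j) := by rw [hk1]; infer_instance
  rw [← he]
  infer_instance

end Groth.Agent.Lib.SchImKT4H7
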