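import Groth.Agent.Lib.SchImKT_helper7

/-!
# Points of the scheme theoretic image are reached by valuation rings (helper7)
-/

set_option autoImplicit false
universe u
open CategoryTheory CategoryTheory.Limits AlgebraicGeometry Opposite

namespace Groth.Agent.Lib.SchImKT5H7

open AlgSp Groth.Agent.Lib.AlgSpPoints_helper7 Groth.Agent.Lib.AlgSpPullback_helper7
  Groth.Agent.Lib.AlgSpQC_helper7 Groth.Agent.Lib.SchImageH7
  Groth.Agent.Lib.SchImKTH7 Groth.Agent.Lib.SpCoprod4H7 Groth.Agent.Lib.EtChartsH7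
open Scheme (IdealSheafData)

/-- A point in the closure of the image of a quasi-compact morphism is a specialization of a point
of the image. -/
theorem exists_specializes_of_mem_closure {T U : Scheme.{u}} (g : T ⟶ U) [QuasiCompact g] (u : U)
    (hu : u ∈ closure (Set.range g)) : ∃ t, g t ⤳ u := by
  obtain ⟨_, ⟨O, hO : IsAffineOpen O, rfl⟩, huO, -⟩ :=
    U.isBasis_affineOpens.exists_subset_of_mem_open (Set.mem_univ u) isOpen_univ
  haveI : QuasiCompact (pullback.snd g hO.fromSpec) :=
    MorphismProperty.pullback_snd _ _ inferInstance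
  haveI : CompactSpace ↥(pullback g hO.fromSpec) :=
    QuasiCompact.compactSpace_of_compactSpace (pullback.snd g hO.fromSpec)
  obtain ⟨R, ψ, hψ⟩ := compactSpace_iff_exists.mp ‹CompactSpace ↥(pullback g hO.fromSpec)›
  obtain ⟨φ, hφ⟩ : ∃ φ : Γ(U, O) ⟶ R, Spec.map φ = ψ ≫ pullback.snd g hO.fromSpec :=
    ⟨Spec.preimage _, Spec.map_preimage _⟩
  obtain ⟨𝔭, h𝔭⟩ : ∃ 𝔭 : Spec Γ(U, O), hO.fromSpec 𝔭 = u := by
    have : u ∈ Set.range hO.fromSpec := by rw [hO.range_fromSpec]; exact huO
    exact this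
  have hrange : Set.range (Spec.map φ) = hO.fromSpec ⁻¹' Set.range g := by
    rw [hφ, ← Scheme.Pullback.range_snd]
    ext y
    constructor
    · rintro ⟨r, rfl⟩
      exact ⟨ψ r, (Scheme.Hom.comp_apply _ _ _).symm⟩
    · rintro ⟨w, rfl⟩
      obtain ⟨r, rfl⟩ := hψ w
      exact ⟨r, Scheme.Hom.comp_apply _ _ _⟩
  have h𝔭cl : 𝔭 ∈ closure (Set.range (Spec.map φ)) := by
    rw [hrange, ← hO.fromSpec.isOpenEmbedding.isOpenMap.preimage_closure_eq_closure_preimage
      hO.fromSpec.continuous]
    show hO.fromSpec 𝔭 ∈ closure (Set.range g)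
    rw [h𝔭]; exact hu
  have hcl : closure (Set.range (Spec.map φ)) = PrimeSpectrum.zeroLocus (RingHom.ker φ.hom) :=
    PrimeSpectrum.closure_range_comap φ.hom
  rw [hcl] at h𝔭cl
  have hle : RingHom.ker φ.hom ≤ 𝔭.asIdeal := fun a ha => h𝔭cl ha
  obtain ⟨𝔭', h𝔭'min, h𝔭'le⟩ := Ideal.exists_minimalPrimes_le hle
  rw [RingHom.ker_eq_comap_bot] at h𝔭'min
  obtain ⟨𝔮, h𝔮p, -, h𝔮c⟩ := Ideal.exists_comap_eq_of_mem_minimalPrimes φ.hom 𝔭' h𝔭'min
  let r : Spec R := ⟨𝔮, h𝔮p⟩
  have hsp : Spec.map φ r ⤳ 𝔭 := by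
    refine (PrimeSpectrum.le_iff_specializes (R := Γ(U, O)) (Spec.map φ r) 𝔭).1 ?_
    show (Spec.map φ r).asIdeal ≤ 𝔭.asIdeal
    have : (Spec.map φ r).asIdeal = 𝔭' := h𝔮c
    rw [this]; exact h𝔭'le
  refine ⟨(ψ ≫ pullback.fst g hO.fromSpec) r, ?_⟩
  have e1 : g ((ψ ≫ pullback.fst g hO.fromSpec) r) = hO.fromSpec (Spec.map φ r) := by
    rw [hφ, ← Scheme.Hom.comp_apply, ← Scheme.Hom.comp_apply, Category.assoc, Category.assoc,
      pullback.condition]
  rw [e1, ← h𝔭]
  exact hsp.map hO.fromSpec.continuous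

set_option backward.isDefEq.respectTransparency.types false in
/-- A specialization of the image of a point is reached by a valuation ring of its residue
field. -/
theorem exists_valuationSubring_of_specializes {T U : Scheme.{u}} (g : T ⟶ U) (t : T) (u : U)
    (h : g t ⤳ u) :
    ∃ (A : ValuationSubring (T.residueField t)) (α : Spec (CommRingCat.of A) ⟶ U),
      α (IsLocalRing.closedPoint A) = u ∧
      Spec.map (CommRingCat.ofHom (algebraMap A (T.residueField t))) ≫ α =
        T.fromSpecResidueField t ≫ g := by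
  let s2r : U.presheaf.stalk u ⟶ T.residueField t :=
    U.presheaf.stalkSpecializes h ≫ g.stalkMap t ≫ T.residue t
  obtain ⟨A, hA, hA_local⟩ := IsLocalRing.exists_factor_valuationRing s2r.hom
  let s2A : U.presheaf.stalk u ⟶ .of A := CommRingCat.ofHom (s2r.hom.codRestrict _ hA)
  have w : T.fromSpecResidueField t ≫ g =
      Spec.map (CommRingCat.ofHom (algebraMap A (T.residueField t))) ≫
        Spec.map s2A ≫ U.fromSpecStalk u := by
    rw [Scheme.fromSpecResidueField, Category.assoc, ← Scheme.SpecMap_stalkMap_fromSpecStalk,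
      ← Scheme.SpecMap_stalkSpecializes_fromSpecStalk h]
    simp_rw [← Spec.map_comp_assoc]
    rfl
  refine ⟨A, Spec.map s2A ≫ U.fromSpecStalk u, ?_, w.symm⟩
  rw [Scheme.Hom.comp_apply]
  have : Spec.map s2A (IsLocalRing.closedPoint A) = IsLocalRing.closedPoint (U.presheaf.stalk u) :=
    IsLocalRing.comap_closedPoint (S := A) (s2r.hom.codRestrict A.toSubring hA)
  rw [this, U.fromSpecStalk_closedPoint]

variable {S : Scheme.{u}}

theorem exists_valuationRing_to_schImage {X Y Z : Sp S} (hX : IsAlgSpace X) (hY : IsAlgSpace Y)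
    (f : X ⟶ Y) (hq : IsQuasiCompactMor f) (i : Z ⟶ Y) (hZ : IsSchImage f i) (z : Points Z) :
    ∃ (A : Type u) (_ : CommRing A) (_ : IsDomain A) (_ : ValuationRing A)
      (str : Spec (CommRingCat.of A) ⟶ S) (a : (yon S).obj (Over.mk str) ⟶ Z)
      (x : (yon S).obj (Over.mk (Spec.map (CommRingCat.ofHom (algebraMap A (FractionRing A))) ≫
        str)) ⟶ X),
      Points.ofPt a (IsLocalRing.closedPoint A) = z ∧
      x ≫ f = (yon S).map (Over.homMk
        (Spec.map (CommRingCat.ofHom (algebraMap A (FractionRing A)))) rfl) ≫ a ≫ i := by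
  obtain ⟨ι, Uk, hUk, p, hpe, hps⟩ := exists_sigma_affine_atlas hY
  obtain ⟨D, hD⟩ := exists_chartData_sigma hX hY f hq Uk p
  have e1 := ker_eq_of_isSchImage hX hY f hq i hZ p (flat_lfp_of_repWith_etale p hpe).1 D
  have sq := hZ.1.rep.isPullback p
  have hws : RepWith @Surjective (hZ.1.rep.fst p) := repWith_fst_of_isPullback _ sq hps
  obtain ⟨c₀, rfl⟩ := ofPt_surjective (hZ.1.rep.fst p) hws z
  haveI hcl : IsClosedImmersion (hZ.1.rep.snd p).left := hZ.1.property_snd p
  have hu : (hZ.1.rep.snd p).left c₀ ∈ closure (Set.range D.g.left) := by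
    rw [← Scheme.Hom.support_ker, ← e1]
    exact Scheme.Hom.range_subset_ker_support _ ⟨c₀, rfl⟩
  obtain ⟨t, ht⟩ := exists_specializes_of_mem_closure D.g.left _ hu
  obtain ⟨A, α, hα1, hα2⟩ := exists_valuationSubring_of_specializes D.g.left t _ ht
  -- `Spec K ⟶ Spec A` is scheme theoretically dominant
  haveI : IsDominant (Spec.map (CommRingCat.ofHom (algebraMap A (D.T.left.residueField t)))) := by
    rw [isDominant_iff]
    refine (PrimeSpectrum.denseRange_comap_iff_ker_le_nilRadical
      (algebraMap A (D.T.left.residueField t))).2 ?_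
    rw [(RingHom.injective_iff_ker_eq_bot (algebraMap A (D.T.left.residueField t))).1
      (FaithfulSMul.algebraMap_injective _ _)]
    exact bot_le
  haveI : IsSchemeTheoreticallyDominant
      (Spec.map (CommRingCat.ofHom (algebraMap A (D.T.left.residueField t)))) :=
    IsSchemeTheoreticallyDominant.of_isDominant _
  have hker : (hZ.1.rep.snd p).left.ker ≤ α.ker := by
    have h1 : α.ker =
        (Spec.map (CommRingCat.ofHom (algebraMap A (D.T.left.residueField t))) ≫ α).ker := by
      rw [Scheme.Hom.ker_comp, Scheme.Hom.ker_eq_bot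
        (Spec.map (CommRingCat.ofHom (algebraMap A (D.T.left.residueField t)))),
        IdealSheafData.map_bot]
    rw [h1, hα2, e1]
    exact Scheme.Hom.le_ker_comp _ _
  have hαC : IsClosedImmersion.lift (hZ.1.rep.snd p).left α hker ≫ (hZ.1.rep.snd p).left = α :=
    IsClosedImmersion.lift_fac _ _ _
  -- the fraction field
  let e : FractionRing A ≃ₐ[A] D.T.left.residueField t :=
    FractionRing.algEquiv A (D.T.left.residueField t)
  have hεc : CommRingCat.ofHom (algebraMap A (D.T.left.residueField t)) ≫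
      CommRingCat.ofHom (e.symm : D.T.left.residueField t →+* FractionRing A) =
      CommRingCat.ofHom (algebraMap A (FractionRing A)) := by
    ext a; exact e.symm.commutes a
  have key : (Spec.map (CommRingCat.ofHom (e.symm : D.T.left.residueField t →+* FractionRing A)) ≫
      D.T.left.fromSpecResidueField t) ≫ D.g.left =
      Spec.map (CommRingCat.ofHom (algebraMap A (FractionRing A))) ≫ α := by
    rw [Category.assoc, ← hα2, ← Category.assoc, ← Spec.map_comp, hεc]
  let a₀ : Over.mk (α ≫ (sigmaOver Uk).hom) ⟶ hZ.1.rep.pullback p :=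
    Over.homMk (IsClosedImmersion.lift (hZ.1.rep.snd p).left α hker) (by
      show _ ≫ (hZ.1.rep.pullback p).hom = α ≫ (sigmaOver Uk).hom
      rw [← Over.w (hZ.1.rep.snd p), ← Category.assoc, hαC])
  let x₀ : Over.mk (Spec.map (CommRingCat.ofHom (algebraMap A (FractionRing A))) ≫
      α ≫ (sigmaOver Uk).hom) ⟶ D.T :=
    Over.homMk (Spec.map (CommRingCat.ofHom
      (e.symm : D.T.left.residueField t →+* FractionRing A)) ≫
      D.T.left.fromSpecResidueField t) (by
      show _ ≫ D.T.hom = _ ≫ α ≫ (sigmaOver Uk).hom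
      rw [← Over.w D.g, ← Category.assoc, ← Category.assoc, key])
  refine ⟨A, inferInstance, inferInstance, inferInstance, α ≫ (sigmaOver Uk).hom,
    (yon S).map a₀ ≫ hZ.1.rep.fst p, (yon S).map x₀ ≫ D.q ≫ D.fst, ?_, ?_⟩
  · rw [ofPt_comp]
    congr 1
    apply (hZ.1.rep.snd p).left.isClosedEmbedding.injective
    show (hZ.1.rep.snd p).left ((IsClosedImmersion.lift (hZ.1.rep.snd p).left α hker)
      (IsLocalRing.closedPoint A)) = _
    rw [← Scheme.Hom.comp_apply, hαC, hα1]
  · have hov : x₀ ≫ D.g = (Over.homMk (Spec.map (CommRingCat.ofHom (algebraMap A (FractionRing A))))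
        rfl : Over.mk (Spec.map (CommRingCat.ofHom (algebraMap A (FractionRing A))) ≫
          α ≫ (sigmaOver Uk).hom) ⟶ Over.mk (α ≫ (sigmaOver Uk).hom)) ≫ a₀ ≫ hZ.1.rep.snd p := by
      ext
      exact key.trans (congrArg
        (Spec.map (CommRingCat.ofHom (algebraMap A (FractionRing A))) ≫ ·) hαC).symm
    calc ((yon S).map x₀ ≫ D.q ≫ D.fst) ≫ f
        = (yon S).map x₀ ≫ (D.q ≫ D.snd) ≫ p := by
          simp only [Category.assoc]; rw [D.sq.w]
      _ = (yon S).map (x₀ ≫ D.g) ≫ p := by rw [← D.hg, Functor.map_comp, Category.assoc]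
      _ = _ := by
          rw [hov, Functor.map_comp, Functor.map_comp]
          simp only [Category.assoc]
          rw [sq.w]
end Groth.Agent.Lib.SchImKT5H7
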