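import Groth.Agent.Lib.SchImKT2_helper7
import Groth.Agent.Lib.AlgSpReduced_helper7
import Groth.Agent.Lib.AlgSpEmbed_helper6
import Groth.Agent.S9966

/-!
# An immersion is a dense open immersion into its scheme theoretic image (helper7)
-/

set_option autoImplicit false
universe u
open CategoryTheory CategoryTheory.Limits AlgebraicGeometry Opposite

namespace Groth.Agent.Lib.SchImKT6H7

open AlgSp Groth.Agent.Lib.AlgSpPoints_helper7 Groth.Agent.Lib.AlgSpPullback_helper7
  Groth.Agent.Lib.AlgSpQC_helper7 Groth.Agent.Lib.AlgSpFpqc_helper7 Groth.Agent.Lib.SchImageH7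
  Groth.Agent.Lib.SpCoprod4H7 Groth.Agent.Lib.SchImKerH7 Groth.Agent.Lib.SchImKTH7
  Groth.Agent.Lib.EtChartsH7 Groth.Agent.Lib.SchDenseKerH7 Groth.Agent.Lib.AlgSpBasic_helper7
  Groth.Agent.Lib.AlgSpReduced_helper7 Groth.Agent.Lib.AlgSpEmbed_helper6
open Scheme (IdealSheafData)

theorem isOpenImmersion_of_ker_eq {A C U : Scheme.{u}} (ιA : A ⟶ U) [IsImmersion ιA]
    [QuasiCompact ιA] (ιC : C ⟶ U) [IsClosedImmersion ιC] (l : A ⟶ C) (hl : l ≫ ιC = ιA)
    (hk : ιC.ker = ιA.ker) :
    IsOpenImmersion l ∧ IsSchemeTheoreticallyDominant l ∧ QuasiCompact l := by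
  have hik : ιA.imageι.ker = ιA.ker := IdealSheafData.ker_subschemeι _
  have H' : ιC.ker ≤ ιA.imageι.ker := by rw [hk, hik]
  have hm : IsClosedImmersion.lift ιC ιA.imageι H' ≫ ιC = ιA.imageι :=
    IsClosedImmersion.lift_fac _ _ _
  haveI : IsIso (IsClosedImmersion.lift ιC ιA.imageι H') :=
    IsClosedImmersion.isIso_of_ker_eq ιA.imageι ιC _ hm (by rw [hk, hik])
  have hlm : l = ιA.toImage ≫ IsClosedImmersion.lift ιC ιA.imageι H' := by
    rw [← cancel_mono ιC, Category.assoc, hm, ιA.toImage_imageι, hl]
  rw [hlm]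
  exact ⟨inferInstance, inferInstance, inferInstance⟩

theorem isOpenImmersion_of_reduced {A C : Scheme.{u}} [IsReduced C] (l : A ⟶ C) [IsImmersion l]
    (hd : DenseRange l) : IsOpenImmersion l := by
  have hopen : IsOpen (Set.range l) := by
    obtain ⟨O, Zc, hO, hZc, hs⟩ := l.isLocallyClosed_range
    have hsub : Set.range l ⊆ Zc := by rw [hs]; exact Set.inter_subset_right
    have hZu : Zc = Set.univ := by
      apply Set.eq_univ_of_univ_subset
      rw [← hd.closure_range]
      exact closure_minimal hsub hZc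
    rw [hs, hZu, Set.inter_univ]; exact hO
  let O : C.Opens := ⟨Set.range l, hopen⟩
  have hr : Set.range l ⊆ Set.range O.ι := by rw [Scheme.Opens.range_ι]; exact subset_rfl
  have hl' : IsOpenImmersion.lift O.ι l hr ≫ O.ι = l := IsOpenImmersion.lift_fac _ _ _
  haveI : IsImmersion (IsOpenImmersion.lift O.ι l hr ≫ O.ι) := by rw [hl']; infer_instance
  haveI : IsImmersion (IsOpenImmersion.lift O.ι l hr) := IsImmersion.of_comp _ O.ι
  haveI : Surjective (IsOpenImmersion.lift O.ι l hr) := ⟨fun o => by
    obtain ⟨a, ha⟩ : O.ι o ∈ Set.range l := o.2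
    refine ⟨a, ?_⟩
    apply O.ι.isOpenEmbedding.injective
    rw [← Scheme.Hom.comp_apply, hl', ha]⟩
  haveI : IsClosedImmersion (IsOpenImmersion.lift O.ι l hr) :=
    IsClosedImmersion.of_isPreimmersion _ (by
      rw [Set.range_eq_univ.2 (IsOpenImmersion.lift O.ι l hr).surjective]; exact isClosed_univ)
  haveI : IsIso (IsOpenImmersion.lift O.ι l hr) := isIso_of_isClosedImmersion_of_surjective _
  rw [← hl']
  infer_instance

theorem isSchematicallyDense_of_dense {X : Scheme.{u}} [IsReduced X] (W : X.Opens)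
    (hW : Dense (W : Set X)) : CInt.IsSchematicallyDense W := by
  intro V
  rw [injective_iff_map_eq_zero]
  intro s hs
  rw [← basicOpen_eq_bot_iff]
  have h1 : X.basicOpen (X.presheaf.map (homOfLE (inf_le_left : V ⊓ W ≤ V)).op s) =
      (V ⊓ W) ⊓ X.basicOpen s := X.basicOpen_res s _
  rw [hs, Scheme.basicOpen_zero] at h1
  by_contra hne
  obtain ⟨x, hx⟩ : (X.basicOpen s : Set X).Nonempty := by
    by_contra hcon
    exact hne ((TopologicalSpace.Opens.not_nonempty_iff_eq_bot _).1 hcon)
  obtain ⟨y, hyD, hyW⟩ := hW.inter_open_nonempty _ (X.basicOpen s).isOpen ⟨x, hx⟩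
  have : y ∈ (V ⊓ W) ⊓ X.basicOpen s := ⟨⟨X.basicOpen_le s hyD, hyW⟩, hyD⟩
  rw [← h1] at this
  exact this

theorem isSchematicallyDense_opensRange {A C : Scheme.{u}} (l : A ⟶ C) [IsOpenImmersion l]
    [IsSchemeTheoreticallyDominant l] [QuasiCompact l] :
    CInt.IsSchematicallyDense l.opensRange := by
  have he := Scheme.Hom.isoOpensRange_inv_comp l
  haveI : IsSchemeTheoreticallyDominant l.opensRange.ι := by rw [← he]; infer_instance
  haveI : QuasiCompact l.opensRange.ι := by rw [← he]; infer_instance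
  exact dense_of_dominant _

variable {S : Scheme.{u}}

theorem exists_isPullback_opensRange {F G : Sp S} {j : G ⟶ F} {V A : Over S}
    {φ : (yon S).obj V ⟶ F} {fstA : (yon S).obj A ⟶ G} {l : A ⟶ V}
    (sq : IsPullback fstA ((yon S).map l) j φ) [IsOpenImmersion l.left] :
    ∃ fst : (yon S).obj (Over.mk (l.left.opensRange.ι ≫ V.hom)) ⟶ G,
      IsPullback fst ((yon S).map (Over.homMk l.left.opensRange.ι rfl :
        Over.mk (l.left.opensRange.ι ≫ V.hom) ⟶ V)) j φ := by
  have he : l.left.isoOpensRange.inv ≫ l.left = l.left.opensRange.ι :=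
    Scheme.Hom.isoOpensRange_inv_comp _
  let eo : Over.mk (l.left.opensRange.ι ≫ V.hom) ≅ A :=
    Over.isoMk l.left.isoOpensRange.symm (by
      show l.left.isoOpensRange.inv ≫ A.hom = l.left.opensRange.ι ≫ V.hom
      rw [← Over.w l, ← Category.assoc, he])
  have heo : eo.hom ≫ l =
      (Over.homMk l.left.opensRange.ι rfl : Over.mk (l.left.opensRange.ι ≫ V.hom) ⟶ V) := by
    ext; exact he
  refine ⟨(yon S).map eo.hom ≫ fstA, ?_⟩
  have hL : IsPullback ((yon S).map eo.hom)
      ((yon S).map (Over.homMk l.left.opensRange.ι rfl :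
        Over.mk (l.left.opensRange.ι ≫ V.hom) ⟶ V))
      ((yon S).map l) (𝟙 _) :=
    IsPullback.of_horiz_isIso ⟨by rw [Category.comp_id, ← Functor.map_comp, heo]⟩
  have := hL.paste_horiz sq
  rwa [Category.id_comp] at this

theorem immersion_into_schImage {Z X Zbar : Space S} (h : Z ⟶ X)
    (hh : RepWith @IsImmersion h.hom) (hq : IsQuasiCompactMor h.hom ∨ IsReducedSp Z.obj)
    (c : Zbar ⟶ X) (hc : IsSchImage h.hom c.hom) (h' : Z ⟶ Zbar) (fac : h' ≫ c = h) :
    RepWith @IsOpenImmersion h'.hom ∧ IsSchDense h'.hom ∧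
      Dense (Set.range (Points.map h'.hom)) := by
  have fac' : h'.hom ≫ c.hom = h.hom := congrArg (fun k => k.hom) fac
  obtain ⟨ι, Uk, hUk, p, hpe, hps⟩ := exists_sigma_affine_atlas X.property
  have sqA := hh.rep.isPullback p
  have sqC := hc.1.rep.isPullback p
  haveI hιA : IsImmersion (hh.rep.snd p).left := hh.property_snd p
  haveI hιC : IsClosedImmersion (hc.1.rep.snd p).left := hc.1.property_snd p
  have hcomm : (hh.rep.fst p ≫ h'.hom) ≫ c.hom = (yon S).map (hh.rep.snd p) ≫ p := by
    rw [Category.assoc, fac']; exact sqA.w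
  have hl1 : (yon S).map (hc.1.rep.lift _ _ hcomm) ≫ hc.1.rep.fst p = hh.rep.fst p ≫ h'.hom :=
    hc.1.rep.lift_fst _ _ hcomm
  have hl2 : hc.1.rep.lift _ _ hcomm ≫ hc.1.rep.snd p = hh.rep.snd p :=
    hc.1.rep.lift_snd _ _ hcomm
  generalize hc.1.rep.lift _ _ hcomm = l at hl1 hl2
  have hl2' : l.left ≫ (hc.1.rep.snd p).left = (hh.rep.snd p).left := by
    rw [← Over.comp_left, hl2]
  have sqAC : IsPullback (hh.rep.fst p) ((yon S).map l) h'.hom (hc.1.rep.fst p) := by
    refine IsPullback.of_bot ?_ hl1.symm sqC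
    rw [← Functor.map_comp, hl2, fac']; exact sqA
  have hφe : RepWith @Etale (hc.1.rep.fst p) := repWith_fst_of_isPullback _ sqC hpe
  have hφs : RepWith @Surjective (hc.1.rep.fst p) := repWith_fst_of_isPullback _ sqC hps
  have hcl : Set.range (Points.map c.hom) ⊆ closure (Set.range (Points.map h.hom)) := by
    rcases hq with hq | hq
    · exact range_subset_closure Z.property X.property h.hom hq c.hom hc
    · exact (Groth.Agent.S9966.result h c hq hc).2.1.le
  have hkey : ∃ _ : IsOpenImmersion l.left, CInt.IsSchematicallyDense l.left.opensRange := by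
    rcases hq with hq | hq
    · haveI hqA : QuasiCompact (hh.rep.snd p).left := by
        have h2 : IsQuasiCompactMor ((yon S).map (hh.rep.snd p)) :=
          isQuasiCompactMor_of_isPullback sqA hq
        have h3 := repWith_quasiCompact_of_isQuasiCompactMor _
          ((repWith_yon_map_iff @IsImmersion _).2 hιA).rep h2
        exact (repWith_yon_map_iff _ _).1 h3
      let D : ChartData h.hom p :=
        { P := (yon S).obj (hh.rep.pullback p)
          fst := hh.rep.fst p
          snd := (yon S).map (hh.rep.snd p)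
          sq := sqA
          T := hh.rep.pullback p
          q := 𝟙 ((yon S).obj (hh.rep.pullback p))
          hqe := repWith_id @Etale (hh.rep.pullback p)
          hqs := repWith_id @Surjective (hh.rep.pullback p)
          g := hh.rep.snd p
          hg := (Category.id_comp ((yon S).map (hh.rep.snd p))).symm }
      haveI : QuasiCompact D.g.left := hqA
      have e1 := ker_eq_of_isSchImage Z.property X.property h.hom hq c.hom hc p
        (flat_lfp_of_repWith_etale p hpe).1 D
      obtain ⟨ho, hd, hqc⟩ := isOpenImmersion_of_ker_eq (hh.rep.snd p).left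
        (hc.1.rep.snd p).left l.left hl2' e1
      haveI := ho; haveI := hd; haveI := hqc
      exact ⟨ho, isSchematicallyDense_opensRange l.left⟩
    · haveI : IsReduced (hc.1.rep.pullback p).left :=
        isReduced_chart_of_isReducedSp Zbar.property (Groth.Agent.S9966.result h c hq hc).2.2 _ hφe
      haveI : IsImmersion (l.left ≫ (hc.1.rep.snd p).left) := by rw [hl2']; infer_instance
      haveI : IsImmersion l.left := IsImmersion.of_comp l.left (hc.1.rep.snd p).left
      have hd : DenseRange l.left := by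
        intro c₁
        have hind := (hc.1.rep.snd p).left.isClosedEmbedding.isInducing
        rw [hind.closure_eq_preimage_closure_image]
        show (hc.1.rep.snd p).left c₁ ∈ closure ((hc.1.rep.snd p).left '' Set.range l.left)
        rw [← Set.range_comp]
        have hfun : (⇑(hc.1.rep.snd p).left ∘ ⇑l.left) = ⇑(hh.rep.snd p).left := by
          funext a
          rw [← hl2']
          exact (Scheme.Hom.comp_apply _ _ _).symm
        rw [hfun]
        have hpre : Points.ofPt p ⁻¹' Set.range (Points.map h.hom) ⊆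
            Set.range (hh.rep.snd p).left := by
          rintro u ⟨z, hz⟩
          obtain ⟨v, -, hv2⟩ := exists_of_isPullback sqA z (Points.ofScheme _ u)
            (by rw [hz, ← Points.ofPt_eq_map_ofScheme])
          obtain ⟨v', rfl⟩ := ofScheme_surjective _ v
          refine ⟨v', ?_⟩
          apply (Points.schemeEquiv _).injective
          show Points.ofScheme _ ((hh.rep.snd p).left v') = Points.ofScheme _ u
          rw [← ofPt_yon_map, Points.ofPt_eq_map_ofScheme]
          exact hv2
        refine closure_mono hpre ?_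
        rw [← (isOpenMap_ofPt_of_etale p hpe).preimage_closure_eq_closure_preimage
          (Points.continuous_ofPt p)]
        apply hcl
        exact ⟨Points.ofPt (hc.1.rep.fst p) c₁, by rw [Points.map_ofPt, sqC.w, ofPt_comp]⟩
      haveI ho := isOpenImmersion_of_reduced l.left hd
      exact ⟨ho, isSchematicallyDense_of_dense _ hd⟩
  obtain ⟨ho, hdense⟩ := hkey
  haveI := ho
  have hOI : RepWith @IsOpenImmersion h'.hom :=
    of_etale_chart (isLocalOnBase_fppf_of_fpqc (Groth.Agent.S10531.result S)) Z.property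
      Zbar.property h'.hom _ (hc.1.rep.fst p) hφe hφs _ _ sqAC ((repWith_yon_map_iff _ _).2 ho)
  obtain ⟨fstW, sqW⟩ := exists_isPullback_opensRange sqAC
  refine ⟨hOI, ⟨hOI, _, hc.1.rep.fst p, l.left.opensRange, fstW, hφe, hφs, sqW, hdense⟩, ?_⟩
  have hemb := (isEmbedding_map_of_immersion X.property c.hom
    (repWith_mono (fun _ _ k (hk : IsClosedImmersion k) => (inferInstance : IsImmersion k))
      hc.1)).1
  intro z
  rw [hemb.isInducing.closure_eq_preimage_closure_image]
  show Points.map c.hom z ∈ closure (Points.map c.hom '' Set.range (Points.map h'.hom))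
  rw [← Set.range_comp]
  have hfun : (Points.map c.hom ∘ Points.map h'.hom) = Points.map h.hom := by
    funext w
    rw [← fac']
    exact (Points.map_comp _ _ _).symm
  rw [hfun]
  exact hcl ⟨z, rfl⟩

end Groth.Agent.Lib.SchImKT6H7
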