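import Groth.Agent.Lib.SchImKer_helper7
import Groth.Agent.Lib.RedFactor_helper7
import Groth.Agent.Lib.ImmDescend_helper7
import Groth.Agent.Lib.SpCoprod6_helper7
import Groth.Agent.Lib.SpCoprod5_helper7
import Groth.Agent.Lib.AlgSpUnram_helper7
import Groth.Agent.Lib.AlgSpFpqc_helper7
import Groth.Agent.Lib.AlgSpEtale_helper7
import Groth.Agent.Lib.EtCharts_helper7
import Groth.Agent.Lib.AlgSpPresent_helper6

/-!
# Chart description of the scheme theoretic image of a quasi-compact morphism (helper7)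

For a quasi-compact morphism `f : X ⟶ Y` of algebraic spaces with scheme theoretic image `Z`,
and a flat chart `b : h_W ⟶ Y`, the closed subscheme `Z ×_Y W` of `W` is cut out by the kernel of
`T ⟶ W`, for any étale atlas `T` of `X ×_Y W` quasi-compact over `W`.
-/

set_option autoImplicit false
universe u
open CategoryTheory CategoryTheory.Limits AlgebraicGeometry Opposite

namespace Groth.Agent.Lib.SchImKTH7

open AlgSp Groth.Agent.Lib.AlgSpPoints_helper7 Groth.Agent.Lib.AlgSpPullback_helper7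
  Groth.Agent.Lib.AlgSpQC_helper7 Groth.Agent.Lib.AlgSpFpqc_helper7 Groth.Agent.Lib.SchImageH7
  Groth.Agent.Lib.ImmDescendH7 Groth.Agent.Lib.RedFactorH7 Groth.Agent.Lib.AlgSpIso_helper7
  Groth.Agent.Lib.AlgSpUnram_helper7 Groth.Agent.Lib.SpCoprod3H7 Groth.Agent.Lib.SpCoprod4H7
  Groth.Agent.Lib.SpCoprod5H7 Groth.Agent.Lib.SpCoprod6H7 Groth.Agent.Lib.SchImKerH7
  Groth.Agent.Lib.EtChartsH7 Groth.Agent.Lib.AlgSpEtale_helper7
  Groth.Agent.Lib.AlgSpPresent_helper6
open Scheme (IdealSheafData)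

variable {S : Scheme.{u}}

/-- A chart of a morphism `f` over a scheme `W` mapping to the target: the fibre product and an
étale atlas of it. -/
structure ChartData {X Y : Sp S} (f : X ⟶ Y) {W : Over S} (b : (yon S).obj W ⟶ Y) where
  P : Sp S
  fst : P ⟶ X
  snd : P ⟶ (yon S).obj W
  sq : IsPullback fst snd f b
  T : Over S
  q : (yon S).obj T ⟶ P
  hqe : RepWith @Etale q
  hqs : RepWith @Surjective q
  g : T ⟶ W
  hg : (yon S).map g = q ≫ snd

/-- The kernel of `T ⟶ W` does not depend on the étale atlas `T` of a sheaf over `W`. -/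
theorem ker_eq_of_atlases {F : Sp S} {W T₁ T₂ : Over S} (h : F ⟶ (yon S).obj W)
    (a₁ : (yon S).obj T₁ ⟶ F) (a₂ : (yon S).obj T₂ ⟶ F)
    (h₁e : RepWith @Etale a₁) (h₁s : RepWith @Surjective a₁)
    (h₂e : RepWith @Etale a₂) (h₂s : RepWith @Surjective a₂)
    (g₁ : T₁ ⟶ W) (g₂ : T₂ ⟶ W) (hg₁ : (yon S).map g₁ = a₁ ≫ h)
    (hg₂ : (yon S).map g₂ = a₂ ≫ h) : g₁.left.ker = g₂.left.ker := by
  have sq : IsPullback ((yon S).map (h₁e.rep.fst' a₂)) ((yon S).map (h₁e.rep.snd a₂)) a₁ a₂ :=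
    h₁e.rep.isPullback' a₂
  haveI h1 : Etale (h₁e.rep.snd a₂).left := h₁e.property _ _ _ sq
  haveI h2 : Surjective (h₁e.rep.snd a₂).left := h₁s.property _ _ _ sq
  haveI h3 : Etale (h₁e.rep.fst' a₂).left := h₂e.property _ _ _ sq.flip
  haveI h4 : Surjective (h₁e.rep.fst' a₂).left := h₂s.property _ _ _ sq.flip
  have hcomm : h₁e.rep.fst' a₂ ≫ g₁ = h₁e.rep.snd a₂ ≫ g₂ := by
    apply (yon S).map_injective
    rw [Functor.map_comp, Functor.map_comp, hg₁, hg₂, ← Category.assoc, sq.w, Category.assoc]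
  have hl : (h₁e.rep.fst' a₂).left ≫ g₁.left = (h₁e.rep.snd a₂).left ≫ g₂.left := by
    rw [← Over.comp_left, hcomm, Over.comp_left]
  rw [← ker_comp_of_flat_surjective (h₁e.rep.fst' a₂).left g₁.left, hl,
    ker_comp_of_flat_surjective]

/-- Base change of the atlas of a chart. -/
theorem exists_atlas_baseChange {X Y : Sp S} {f : X ⟶ Y} {W : Over S} {b : (yon S).obj W ⟶ Y}
    (D : ChartData f b) {W' : Over S} (c : W' ⟶ W) {P' : Sp S} (fst' : P' ⟶ X)
    (snd' : P' ⟶ (yon S).obj W') (sq' : IsPullback fst' snd' f ((yon S).map c ≫ b)) :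
    ∃ a : (yon S).obj (Over.mk (pullback.snd D.g.left c.left ≫ W'.hom)) ⟶ P',
      RepWith @Etale a ∧ RepWith @Surjective a ∧
      (yon S).map (Over.homMk (pullback.snd D.g.left c.left) rfl :
        Over.mk (pullback.snd D.g.left c.left ≫ W'.hom) ⟶ W') = a ≫ snd' := by
  let T' : Over S := Over.mk (pullback.snd D.g.left c.left ≫ W'.hom)
  let πW : T' ⟶ W' := Over.homMk (pullback.snd D.g.left c.left) rfl
  let πT : T' ⟶ D.T := Over.homMk (pullback.fst D.g.left c.left) (by
    show pullback.fst D.g.left c.left ≫ D.T.hom = pullback.snd D.g.left c.left ≫ W'.hom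
    rw [← Over.w D.g, ← Over.w c, ← Category.assoc, ← Category.assoc, pullback.condition])
  have h0 : IsPullback πT πW D.g c :=
    IsPullback.of_map (Over.forget S) (by ext; exact pullback.condition)
      (IsPullback.of_hasPullback D.g.left c.left)
  have h1 := h0.map (yon S)
  have hu0 : fst' ≫ f = (snd' ≫ (yon S).map c) ≫ b := by rw [Category.assoc]; exact sq'.w
  let u : P' ⟶ D.P := D.sq.lift fst' (snd' ≫ (yon S).map c) hu0
  have hu1 : u ≫ D.fst = fst' := D.sq.lift_fst _ _ _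
  have hu2 : u ≫ D.snd = snd' ≫ (yon S).map c := D.sq.lift_snd _ _ _
  have sqB : IsPullback u snd' D.snd ((yon S).map c) := by
    refine IsPullback.of_right ?_ hu2 D.sq
    rw [hu1]; exact sq'
  have ha0 : ((yon S).map πT ≫ D.q) ≫ D.snd = (yon S).map πW ≫ (yon S).map c := by
    rw [Category.assoc, ← D.hg]; exact h1.w
  let a : (yon S).obj T' ⟶ P' := sqB.lift ((yon S).map πT ≫ D.q) ((yon S).map πW) ha0
  have ha1 : a ≫ u = (yon S).map πT ≫ D.q := sqB.lift_fst _ _ _
  have ha2 : a ≫ snd' = (yon S).map πW := sqB.lift_snd _ _ _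
  have sqA : IsPullback ((yon S).map πT) a D.q u := by
    refine IsPullback.of_bot ?_ ha1.symm sqB
    rw [ha2, ← D.hg]; exact h1
  exact ⟨a, repWith_snd_of_isPullback _ sqA D.hqe, repWith_snd_of_isPullback _ sqA D.hqs,
    ha2.symm⟩

/-- Two charts of the same morphism have the same kernel after pullback to a common flat
refinement. -/
theorem comap_ker_eq {X Y : Sp S} {f : X ⟶ Y} {W₁ W₂ : Over S} {b₁ : (yon S).obj W₁ ⟶ Y}
    {b₂ : (yon S).obj W₂ ⟶ Y} (D₁ : ChartData f b₁) (D₂ : ChartData f b₂)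
    [QuasiCompact D₁.g.left] [QuasiCompact D₂.g.left] {W' : Over S} (c₁ : W' ⟶ W₁)
    (c₂ : W' ⟶ W₂) [Flat c₁.left] [Flat c₂.left]
    (hc : (yon S).map c₁ ≫ b₁ = (yon S).map c₂ ≫ b₂) :
    D₁.g.left.ker.comap c₁.left = D₂.g.left.ker.comap c₂.left := by
  have sq1 := IsPullback.of_hasPullback f ((yon S).map c₁ ≫ b₁)
  have sq2 : IsPullback (pullback.fst f ((yon S).map c₁ ≫ b₁))
      (pullback.snd f ((yon S).map c₁ ≫ b₁)) f ((yon S).map c₂ ≫ b₂) := by
    rw [← hc]; exact sq1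
  obtain ⟨a₁, h1e, h1s, h1⟩ := exists_atlas_baseChange D₁ c₁ _ _ sq1
  obtain ⟨a₂, h2e, h2s, h2⟩ := exists_atlas_baseChange D₂ c₂ _ _ sq2
  have key := ker_eq_of_atlases (pullback.snd f ((yon S).map c₁ ≫ b₁)) a₁ a₂ h1e h1s h2e h2s
    _ _ h1 h2
  rw [← Groth.Agent.Lib.SchImage.ker_pullback_snd_of_flat,
    ← Groth.Agent.Lib.SchImage.ker_pullback_snd_of_flat]
  exact key

/-- The ideal of the pullback of a closed subspace to a chart is contained in the kernel of any
scheme over the chart mapping into the subspace. -/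
theorem idl_le_ker {Z' Y : Sp S} {i' : Z' ⟶ Y} (hi' : RepWith @IsClosedImmersion i')
    {W V : Over S} (b : (yon S).obj W ⟶ Y) (ι : V ⟶ W) (fst : (yon S).obj V ⟶ Z')
    (h : fst ≫ i' = (yon S).map ι ≫ b) : (hi'.rep.snd b).left.ker ≤ ι.left.ker := by
  have h1 : hi'.rep.lift fst ι h ≫ hi'.rep.snd b = ι := hi'.rep.lift_snd fst ι h
  have h2 : (hi'.rep.lift fst ι h).left ≫ (hi'.rep.snd b).left = ι.left := by
    rw [← Over.comp_left, h1]
  rw [← h2]
  exact Scheme.Hom.le_ker_comp _ _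

theorem ker_eq_idl {Z Y : Sp S} {i : Z ⟶ Y} (hi : RepWith @IsClosedImmersion i) {W V : Over S}
    (b : (yon S).obj W ⟶ Y) (ι : V ⟶ W) (fst : (yon S).obj V ⟶ Z)
    (sq : IsPullback fst ((yon S).map ι) i b) : ι.left.ker = (hi.rep.snd b).left.ker := by
  apply le_antisymm
  · obtain ⟨l, hl⟩ := (yon S).map_surjective
      (sq.lift (hi.rep.fst b) ((yon S).map (hi.rep.snd b)) (hi.rep.isPullback b).w)
    have h1 : l ≫ ι = hi.rep.snd b :=
      (yon S).map_injective (by rw [Functor.map_comp, hl, sq.lift_snd])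
    have h2 : l.left ≫ ι.left = (hi.rep.snd b).left := by rw [← Over.comp_left, h1]
    rw [← h2]
    exact Scheme.Hom.le_ker_comp _ _
  · exact idl_le_ker hi b ι fst sq.w

theorem idl_comap {Z Y : Sp S} {i : Z ⟶ Y} (hi : RepWith @IsClosedImmersion i) {W W' : Over S}
    (b : (yon S).obj W ⟶ Y) (c : W' ⟶ W) :
    (hi.rep.snd ((yon S).map c ≫ b)).left.ker = (hi.rep.snd b).left.ker.comap c.left := by
  have sqA := hi.rep.isPullback b
  have sqA' := hi.rep.isPullback ((yon S).map c ≫ b)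
  have hcomm : hi.rep.fst ((yon S).map c ≫ b) ≫ i =
      (yon S).map (hi.rep.snd ((yon S).map c ≫ b) ≫ c) ≫ b := by
    rw [Functor.map_comp, Category.assoc]; exact sqA'.w
  have hl1 : (yon S).map (hi.rep.lift _ _ hcomm) ≫ hi.rep.fst b =
      hi.rep.fst ((yon S).map c ≫ b) := hi.rep.lift_fst _ _ hcomm
  have hl2 : hi.rep.lift _ _ hcomm ≫ hi.rep.snd b = hi.rep.snd ((yon S).map c ≫ b) ≫ c :=
    hi.rep.lift_snd _ _ hcomm
  have sqL : IsPullback ((yon S).map (hi.rep.lift _ _ hcomm))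
      ((yon S).map (hi.rep.snd ((yon S).map c ≫ b))) ((yon S).map (hi.rep.snd b))
      ((yon S).map c) := by
    refine IsPullback.of_right ?_ (by rw [← Functor.map_comp, ← Functor.map_comp, hl2]) sqA
    rw [hl1]; exact sqA'
  have sqS := isPullback_left_of_isPullback_yon sqL
  haveI : IsClosedImmersion (hi.rep.snd b).left := hi.property_snd b
  rw [← sqS.flip.isoPullback_hom_fst, Scheme.Hom.ker_comp_of_isIso,
    IdealSheafData.ker_fst_of_isClosedImmersion]

/-- Closed subspaces are compared by their ideals on one étale atlas. -/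
theorem exists_hom_of_ker_le {Z Z' X : Sp S} (i : Z ⟶ X) (i' : Z' ⟶ X)
    (hi : RepWith @IsClosedImmersion i) (hi' : RepWith @IsClosedImmersion i') {W : Over S}
    (p : (yon S).obj W ⟶ X) (hpe : RepWith @Etale p) (hps : RepWith @Surjective p)
    (H : (hi'.rep.snd p).left.ker ≤ (hi.rep.snd p).left.ker) : ∃ k : Z ⟶ Z', k ≫ i' = i := by
  haveI : Mono i' := mono_of_closedImmersion i' hi'
  have sq := hi.rep.isPullback p
  have sq' := hi'.rep.isPullback p
  haveI : IsClosedImmersion (hi'.rep.snd p).left := hi'.property_snd p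
  haveI : Epi (hi.rep.fst p) := epi_of_atlas _ (repWith_fst_of_isPullback _ sq hpe)
    (repWith_fst_of_isPullback _ sq hps)
  have hl₀ : IsClosedImmersion.lift (hi'.rep.snd p).left (hi.rep.snd p).left H ≫
      (hi'.rep.snd p).left = (hi.rep.snd p).left := IsClosedImmersion.lift_fac _ _ _
  let l : hi.rep.pullback p ⟶ hi'.rep.pullback p :=
    Over.homMk (IsClosedImmersion.lift (hi'.rep.snd p).left (hi.rep.snd p).left H) (by
      rw [← Over.w (hi'.rep.snd p), ← Category.assoc, hl₀, Over.w])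
  have hl : l ≫ hi'.rep.snd p = hi.rep.snd p := by ext; exact hl₀
  refine exists_factor_of_epi_mono (hi.rep.fst p) i' i ((yon S).map l ≫ hi'.rep.fst p) ?_
  rw [Category.assoc, sq'.w, ← Category.assoc, ← Functor.map_comp, hl, sq.w]

theorem locP_comp_etale_left {P : MorphismProperty Scheme.{u}} {W : Over S} {X Y : Sp S}
    (pX : (yon S).obj W ⟶ X) (hpe : RepWith @Etale pX) (f : X ⟶ Y) (hf : LocP P f) :
    LocP P (pX ≫ f) := by
  intro U V a b h hae hbe comm
  exact hf (a ≫ pX) b h (repWith_comp @Etale hae hpe) hbe (by rw [Category.assoc]; exact comm)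

/-- Every algebraic space has an étale atlas which is a disjoint union of affine schemes. -/
theorem exists_sigma_affine_atlas {Y : Sp S} (hY : IsAlgSpace Y) :
    ∃ (ι : Type u) (Wk : ι → Over S) (_ : ∀ k, IsAffine (Wk k).left)
      (p : (yon S).obj (sigmaOver Wk) ⟶ Y), RepWith @Etale p ∧ RepWith @Surjective p := by
  obtain ⟨U, p₀, hpe, hps⟩ := hY.atlas
  let 𝒰 := U.left.affineCover
  let Wk : 𝒰.I₀ → Over S := fun k => Over.mk (𝒰.f k ≫ U.hom)
  let jk : ∀ k, Wk k ⟶ U := fun k => Over.homMk (𝒰.f k) rfl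
  let π : sigmaOver Wk ⟶ U := sigmaOverDesc Wk jk
  have hπe : Etale π.left := by
    change Etale (Sigma.desc (fun k => 𝒰.f k))
    exact IsZariskiLocalAtSource.sigmaDesc (fun k => inferInstance)
  have hπs : Surjective π.left := by
    change Surjective (Sigma.desc (fun k => 𝒰.f k))
    infer_instance
  refine ⟨𝒰.I₀, Wk, fun k => ?_, (yon S).map π ≫ p₀,
    repWith_comp @Etale ((repWith_yon_map_iff _ _).2 hπe) hpe,
    repWith_comp @Surjective ((repWith_yon_map_iff _ _).2 hπs) hps⟩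
  dsimp [Wk]; infer_instance

/-- Over a disjoint union of affines, a quasi-compact morphism has a chart whose atlas is
quasi-compact over the base. -/
theorem exists_chartData_sigma {X Y : Sp S} (hX : IsAlgSpace X) (hY : IsAlgSpace Y) (f : X ⟶ Y)
    (hq : IsQuasiCompactMor f) {ι : Type u} (Wk : ι → Over S) [∀ k, IsAffine (Wk k).left]
    (b : (yon S).obj (sigmaOver Wk) ⟶ Y) : ∃ D : ChartData f b, QuasiCompact D.g.left := by
  let sndP : pullback f b ⟶ (yon S).obj (sigmaOver Wk) := pullback.snd f b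
  obtain ⟨hW⟩ := isColimit_yon_sigma Wk
  let c := Cofan.mk ((yon S).obj (sigmaOver Wk)) (fun i => (yon S).map (sigmaOverι Wk i))
  obtain ⟨hc'⟩ := isColimit_pullback_cofan c hW sndP
  let c' := Cofan.mk (pullback f b) (fun k => pullback.snd (c.inj k) sndP)
  have sqk : ∀ k, IsPullback (pullback.snd (c.inj k) sndP ≫ pullback.fst f b)
      (pullback.fst (c.inj k) sndP) f (c.inj k ≫ b) := fun k =>
    (IsPullback.of_hasPullback (c.inj k) sndP).flip.paste_horiz (IsPullback.of_hasPullback f b)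
  have hqk : ∀ k, IsQuasiCompactSp (pullback (c.inj k) sndP) := fun k =>
    hq (IsAlgSpace.yon_obj (Wk k)) (isQuasiCompactSp_yon (Wk k)) (c.inj k ≫ b) _ _ (sqk k)
  have hXk : ∀ k, IsAlgSpace (pullback (c.inj k) sndP) := fun k =>
    isAlgSpace_of_isPullback hY.diag hX (IsAlgSpace.yon_obj (Wk k)) (sqk k)
  choose Tk ak hake haks hTk using hqk
  haveI : ∀ k, CompactSpace ↥(Tk k).left := hTk
  obtain ⟨q, hq1, hqe, hqs⟩ := atlas_cofan c' hc' hXk Tk ak hake haks
  let g : sigmaOver Tk ⟶ sigmaOver Wk := (yon S).preimage (q ≫ sndP)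
  have hg : (yon S).map g = q ≫ sndP := (yon S).map_preimage _
  refine ⟨⟨pullback f b, pullback.fst f b, sndP, IsPullback.of_hasPullback f b, sigmaOver Tk, q,
    hqe, hqs, g, hg⟩, ?_⟩
  show QuasiCompact g.left
  let gk : ∀ k, Tk k ⟶ Wk k := fun k => (yon S).preimage (ak k ≫ pullback.fst (c.inj k) sndP)
  have hgk : g = sigmaOverDesc Tk (fun k => gk k ≫ sigmaOverι Wk k) := by
    refine Cofan.IsColimit.hom_ext (isColimitSigmaOver Tk) _ _ (fun k => ?_)
    show sigmaOverι Tk k ≫ g = sigmaOverι Tk k ≫ sigmaOverDesc Tk _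
    rw [sigmaOverι_desc]
    apply (yon S).map_injective
    rw [Functor.map_comp, Functor.map_comp, hg, ← Category.assoc, hq1 k, (yon S).map_preimage,
      Category.assoc, Category.assoc]
    congr 1
    exact pullback.condition.symm
  have hfin : QuasiCompact (Sigma.desc
      (fun k => (gk k).left ≫ Sigma.ι (fun k => (Wk k).left) k)) :=
    quasiCompact_sigma (fun k => (Tk k).left) (fun k => (Wk k).left) (fun k => (gk k).left)
  rw [hgk]
  exact hfin

theorem isPresentation_of_atlas {Y : Sp S} {U : Over S} (p : (yon S).obj U ⟶ Y)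
    (hpe : RepWith @Etale p) (hps : RepWith @Surjective p) :
    IsPresentation (hpe.rep.snd p) (hpe.rep.fst' p) p :=
  ⟨isEtaleEqvRel_of_isPullback _ _ p hpe (hpe.rep.isPullback' p), hpe, hps,
    hpe.rep.isPullback' p⟩

/-- **Chart description of the scheme theoretic image** (for the canonical model `img f`). -/
theorem ker_imgι_eq {X Y : Sp S} (hX : IsAlgSpace X) (hY : IsAlgSpace Y) (f : X ⟶ Y)
    (hq : IsQuasiCompactMor f) {W : Over S} (b : (yon S).obj W ⟶ Y) (hb : LocP @Flat b)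
    (D : ChartData f b) [QuasiCompact D.g.left] :
    ((repWith_isClosedImmersion_imgι f).rep.snd b).left.ker = D.g.left.ker := by
  obtain ⟨ι, Uk, hUk, p, hpe, hps⟩ := exists_sigma_affine_atlas hY
  obtain ⟨DU, hDU⟩ := exists_chartData_sigma hX hY f hq Uk p
  have hp := isPresentation_of_atlas p hpe hps
  haveI : Flat (hpe.rep.snd p).left := by haveI := hp.eqvRel.etale_left; infer_instance
  haveI : Flat (hpe.rep.fst' p).left := by haveI := hp.eqvRel.etale_right; infer_instance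
  have hinv : DU.g.left.ker.comap (hpe.rep.snd p).left = DU.g.left.ker.comap (hpe.rep.fst' p).left :=
    comap_ker_eq DU DU (hpe.rep.snd p) (hpe.rep.fst' p) hp.isPullback.w.symm
  obtain ⟨s', t', hs, ht⟩ :=
    exists_isPullback_of_comap_eq (hpe.rep.snd p).left (hpe.rep.fst' p).left DU.g.left.ker hinv
  obtain ⟨Z₀, i₀, q₀, -, sq₀, hcl, -⟩ := exists_subspace ⟨Y, hY⟩ (hpe.rep.snd p) (hpe.rep.fst' p)
    p hp DU.g.left.ker.subschemeι (DU.g.left.ker.comap (hpe.rep.snd p).left).subschemeι s' t' hs ht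
  have hi₀ : RepWith @IsClosedImmersion i₀.hom := hcl inferInstance
  haveI : Mono i₀.hom := mono_of_closedImmersion _ hi₀
  let incl : Over.mk (DU.g.left.ker.subschemeι ≫ (sigmaOver Uk).hom) ⟶ sigmaOver Uk :=
    Over.homMk DU.g.left.ker.subschemeι rfl
  let τ : DU.T ⟶ Over.mk (DU.g.left.ker.subschemeι ≫ (sigmaOver Uk).hom) :=
    Over.homMk DU.g.left.toImage (by
      have h := Scheme.Hom.toImage_imageι DU.g.left
      show DU.g.left.toImage ≫ DU.g.left.imageι ≫ (sigmaOver Uk).hom = DU.T.hom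
      rw [← Category.assoc, h]; exact Over.w DU.g)
  have hτ : τ ≫ incl = DU.g := by ext; exact Scheme.Hom.toImage_imageι _
  haveI : Epi (DU.q ≫ DU.fst) := epi_of_atlas _
    (repWith_comp @Etale DU.hqe (repWith_fst_of_isPullback _ DU.sq hpe))
    (repWith_comp @Surjective DU.hqs (repWith_fst_of_isPullback _ DU.sq hps))
  obtain ⟨f₀, hf₀⟩ := exists_factor_of_epi_mono (DU.q ≫ DU.fst) i₀.hom f ((yon S).map τ ≫ q₀) (by
    rw [Category.assoc, sq₀.w, ← Category.assoc, ← Functor.map_comp, hτ, DU.hg, Category.assoc,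
      Category.assoc, DU.sq.w])
  obtain ⟨k, hk⟩ := exists_min_img f ⟨Z₀.obj, i₀.hom, Z₀.property, hi₀, ⟨f₀, hf₀⟩⟩
  obtain ⟨fi, hfi⟩ := exists_fac_img f
  have e1 : ((repWith_isClosedImmersion_imgι f).rep.snd p).left.ker = DU.g.left.ker := by
    apply le_antisymm
    · exact idl_le_ker (repWith_isClosedImmersion_imgι f) p DU.g (DU.q ≫ DU.fst ≫ fi) (by
        rw [Category.assoc, Category.assoc, hfi, DU.hg, Category.assoc, DU.sq.w])
    · have h1 : DU.g.left.ker = (hi₀.rep.snd p).left.ker := by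
        have := ker_eq_idl hi₀ p incl q₀ sq₀
        rw [← this]
        exact (IdealSheafData.ker_subschemeι _).symm
      rw [h1]
      exact idl_le_ker hi₀ p ((repWith_isClosedImmersion_imgι f).rep.snd p)
        ((repWith_isClosedImmersion_imgι f).rep.fst p ≫ k) (by
          rw [Category.assoc]
          erw [hk]
          exact ((repWith_isClosedImmersion_imgι f).rep.isPullback p).w)
  have sqW' : IsPullback ((yon S).map (hpe.rep.fst' b)) ((yon S).map (hpe.rep.snd b)) p b :=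
    hpe.rep.isPullback' b
  haveI hc1e : Etale (hpe.rep.snd b).left := hpe.property _ _ _ sqW'
  haveI hc1s : Surjective (hpe.rep.snd b).left := hps.property _ _ _ sqW'
  have hcc : (yon S).map (hpe.rep.snd b) ≫ b = (yon S).map (hpe.rep.fst' b) ≫ p := sqW'.w.symm
  haveI : Flat (hpe.rep.fst' b).left :=
    hb ((yon S).map (hpe.rep.snd b)) p (hpe.rep.fst' b) ((repWith_yon_map_iff _ _).2 hc1e) hpe hcc
  have e2 := comap_ker_eq D DU (hpe.rep.snd b) (hpe.rep.fst' b) hcc
  apply comap_injective_of_flat_surjective (hpe.rep.snd b).left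
  rw [← idl_comap (repWith_isClosedImmersion_imgι f) b (hpe.rep.snd b), e2, ← e1,
    ← idl_comap (repWith_isClosedImmersion_imgι f) p (hpe.rep.fst' b), hcc]

/-- **Chart description of the scheme theoretic image.** -/
theorem ker_eq_of_isSchImage {X Y Z : Sp S} (hX : IsAlgSpace X) (hY : IsAlgSpace Y) (f : X ⟶ Y)
    (hq : IsQuasiCompactMor f) (i : Z ⟶ Y) (hZ : IsSchImage f i) {W : Over S}
    (b : (yon S).obj W ⟶ Y) (hb : LocP @Flat b) (D : ChartData f b) [QuasiCompact D.g.left] :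
    (hZ.1.rep.snd b).left.ker = D.g.left.ker := by
  rw [← ker_imgι_eq hX hY f hq b hb D]
  haveI : Mono i := mono_of_closedImmersion i hZ.1
  have hZa : IsAlgSpace Z := isAlgSpace_of_representable_mono i hZ.1.rep hY
  obtain ⟨k₁, hk₁⟩ := hZ.2.2 (imgι f) (isAlgSpace_img hY f) (repWith_isClosedImmersion_imgι f)
    (exists_fac_img f)
  obtain ⟨k₂, hk₂⟩ := exists_min_img f ⟨Z, i, hZa, hZ.1, hZ.2.1⟩
  apply le_antisymm
  · exact idl_le_ker hZ.1 b _ ((repWith_isClosedImmersion_imgι f).rep.fst b ≫ k₂) (by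
      rw [Category.assoc]
      erw [hk₂]
      exact ((repWith_isClosedImmersion_imgι f).rep.isPullback b).w)
  · exact idl_le_ker (repWith_isClosedImmersion_imgι f) b _ (hZ.1.rep.fst b ≫ k₁) (by
      rw [Category.assoc, hk₁]; exact (hZ.1.rep.isPullback b).w)

/-- Flat base change of the scheme theoretic image of a quasi-compact morphism. -/
theorem isSchImage_flat_baseChange {X Y V Z VX ZX : Sp S} (hX : IsAlgSpace X) (hY : IsAlgSpace Y)
    (hV : IsAlgSpace V) (f : X ⟶ Y) (hf : LocP @Flat f) (g : V ⟶ Y) (hg : IsQuasiCompactMor g)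
    (i : Z ⟶ Y) (hZ : IsSchImage g i) (g₁ : VX ⟶ V) (gX : VX ⟶ X) (sqV : IsPullback g₁ gX g f)
    (i₁ : ZX ⟶ Z) (iX : ZX ⟶ X) (sqZ : IsPullback i₁ iX i f) : IsSchImage gX iX := by
  have hiX : RepWith @IsClosedImmersion iX := repWith_snd_of_isPullback _ sqZ hZ.1
  obtain ⟨g', hg'⟩ := hZ.2.1
  refine ⟨hiX, ⟨sqZ.lift (g₁ ≫ g') gX (by rw [Category.assoc, hg', sqV.w]), sqZ.lift_snd _ _ _⟩,
    ?_⟩
  rintro Z' i' hZ' hi' ⟨gX'', hgX''⟩
  obtain ⟨ι, Wk, hWk, pX, hpe, hps⟩ := exists_sigma_affine_atlas hX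
  have hb : LocP @Flat (pX ≫ f) := locP_comp_etale_left pX hpe f hf
  obtain ⟨D, hD⟩ := exists_chartData_sigma hV hY g hg Wk (pX ≫ f)
  have e1 := ker_eq_of_isSchImage hV hY g hg i hZ (pX ≫ f) hb D
  have e2 : (hiX.rep.snd pX).left.ker = (hZ.1.rep.snd (pX ≫ f)).left.ker :=
    ker_eq_idl hZ.1 (pX ≫ f) (hiX.rep.snd pX) (hiX.rep.fst pX ≫ i₁)
      ((hiX.rep.isPullback pX).paste_horiz sqZ)
  have hD'fst : D.fst ≫ g = (D.snd ≫ pX) ≫ f := by rw [Category.assoc]; exact D.sq.w
  have hu2 : sqV.lift D.fst (D.snd ≫ pX) hD'fst ≫ gX = D.snd ≫ pX := sqV.lift_snd _ _ _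
  have e3 : (hi'.rep.snd pX).left.ker ≤ D.g.left.ker :=
    idl_le_ker hi' pX D.g (D.q ≫ sqV.lift D.fst (D.snd ≫ pX) hD'fst ≫ gX'') (by
      rw [Category.assoc, Category.assoc, hgX'', hu2, D.hg, Category.assoc])
  exact exists_hom_of_ker_le iX i' hiX hi' pX hpe hps (by rw [e2, e1]; exact e3)

/-- The scheme theoretic image of a quasi-compact morphism lies in the closure of the image. -/
theorem range_subset_closure {X Y Z : Sp S} (hX : IsAlgSpace X) (hY : IsAlgSpace Y) (f : X ⟶ Y)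
    (hq : IsQuasiCompactMor f) (i : Z ⟶ Y) (hZ : IsSchImage f i) :
    Set.range (Points.map i) ⊆ closure (Set.range (Points.map f)) := by
  obtain ⟨ι, Uk, hUk, p, hpe, hps⟩ := exists_sigma_affine_atlas hY
  obtain ⟨D, hD⟩ := exists_chartData_sigma hX hY f hq Uk p
  have e1 := ker_eq_of_isSchImage hX hY f hq i hZ p (flat_lfp_of_repWith_etale p hpe).1 D
  rintro _ ⟨z, rfl⟩
  have sq := hZ.1.rep.isPullback p
  have hws : RepWith @Surjective (hZ.1.rep.fst p) := repWith_fst_of_isPullback _ sq hps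
  obtain ⟨a₀, rfl⟩ := ofPt_surjective (hZ.1.rep.fst p) hws z
  rw [Points.map_ofPt, sq.w, ofPt_comp]
  have hu : (hZ.1.rep.snd p).left a₀ ∈ closure (Set.range D.g.left) := by
    rw [← Scheme.Hom.support_ker, ← e1]
    exact Scheme.Hom.range_subset_ker_support _ ⟨a₀, rfl⟩
  have h2 := image_closure_subset_closure_image (Points.continuous_ofPt p)
    (Set.mem_image_of_mem _ hu)
  refine closure_mono ?_ h2
  rintro _ ⟨_, ⟨t, rfl⟩, rfl⟩
  refine ⟨Points.ofPt (D.q ≫ D.fst) t, ?_⟩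
  rw [Points.map_ofPt, Category.assoc, D.sq.w, ← Category.assoc, ← D.hg, ofPt_comp]

end Groth.Agent.Lib.SchImKTH7
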