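import Mathlib
import Groth.Agent.Lib.SchImage_helper9

/-!
# Kernels of morphisms of schemes: faithfully flat invariance and descent (helper7)
-/

set_option autoImplicit false
universe u
open CategoryTheory CategoryTheory.Limits AlgebraicGeometry Opposite

namespace Groth.Agent.Lib.SchImKerH7

open Scheme (IdealSheafData)

set_option backward.isDefEq.respectTransparency.types false in
lemma stalkMap_injective_of_flat {A B : Scheme.{u}} (q : A ⟶ B) [Flat q] (a : A) :
    Function.Injective (q.stalkMap a) := by
  algebraize [(q.stalkMap a).hom]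
  have : Module.FaithfullyFlat (B.presheaf.stalk (q a)) (A.presheaf.stalk a) :=
    @Module.FaithfullyFlat.of_flat_of_isLocalHom _ _ _ _ _ _ _
      (Flat.stalkMap q a) (q.toLRSHom.prop a)
  exact ‹RingHom.FaithfullyFlat _›.injective

lemma app_injective_of_flat_surjective {A B : Scheme.{u}} (q : A ⟶ B) [Flat q] [Surjective q]
    (U : B.Opens) : Function.Injective (q.app U) := by
  rw [injective_iff_map_eq_zero]
  intro s hs
  refine TopCat.Presheaf.section_ext B.sheaf U s 0 fun x hx => ?_
  obtain ⟨a, rfl⟩ := q.surjective x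
  have h1 := Scheme.Hom.germ_stalkMap_apply q U a hx s
  rw [hs, map_zero] at h1
  rw [map_zero]
  exact stalkMap_injective_of_flat q a (h1.trans (map_zero _).symm)

theorem ker_eq_bot_of_flat_surjective {A B : Scheme.{u}} (q : A ⟶ B) [Flat q] [Surjective q] :
    q.ker = ⊥ := by
  refine le_bot_iff.1 ?_
  rw [IdealSheafData.le_def]
  intro U
  refine (q.ideal_ker_le U).trans ?_
  show RingHom.ker (q.app U.1).hom ≤ ⊥
  rw [le_bot_iff, ← RingHom.injective_iff_ker_eq_bot]
  exact app_injective_of_flat_surjective q U.1

theorem ker_comp_of_flat_surjective {A B C : Scheme.{u}} (q : A ⟶ B) [Flat q] [Surjective q]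
    (φ : B ⟶ C) : (q ≫ φ).ker = φ.ker := by
  rw [Scheme.Hom.ker_comp, ker_eq_bot_of_flat_surjective, IdealSheafData.map_bot]

theorem map_comap_of_flat_surjective {W' W : Scheme.{u}} (q : W' ⟶ W) [Flat q] [Surjective q]
    (I : W.IdealSheafData) : (I.comap q).map q = I := by
  have h1 : (I.comap q).subschemeι ≫ q =
      (I.comapIso q).hom ≫ pullback.snd q I.subschemeι ≫ I.subschemeι := by
    rw [← pullback.condition, IdealSheafData.comapIso_hom_fst_assoc]
  haveI : Flat (pullback.snd q I.subschemeι) :=
    MorphismProperty.pullback_snd (P := @Flat) _ _ inferInstance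
  haveI : Surjective (pullback.snd q I.subschemeι) :=
    MorphismProperty.pullback_snd (P := @Surjective) _ _ inferInstance
  rw [IdealSheafData.map, h1, Scheme.Hom.ker_comp_of_isIso, ker_comp_of_flat_surjective,
    IdealSheafData.ker_subschemeι]

theorem comap_injective_of_flat_surjective {W' W : Scheme.{u}} (q : W' ⟶ W) [Flat q]
    [Surjective q] {I J : W.IdealSheafData} (h : I.comap q = J.comap q) : I = J := by
  rw [← map_comap_of_flat_surjective q I, h, map_comap_of_flat_surjective q J]

/-- An ideal sheaf with the same pullback along two maps gives a closed subscheme with the same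
inverse image under both. -/
theorem exists_isPullback_of_comap_eq {R U : Scheme.{u}} (s t : R ⟶ U) (I : U.IdealSheafData)
    (h : I.comap s = I.comap t) :
    ∃ (s' t' : (I.comap s).subscheme ⟶ I.subscheme),
      IsPullback (I.comap s).subschemeι s' s I.subschemeι ∧
      IsPullback (I.comap s).subschemeι t' t I.subschemeι := by
  refine ⟨(I.comapIso s).hom ≫ pullback.snd _ _,
    IdealSheafData.inclusion h.ge ≫ (I.comapIso t).hom ≫ pullback.snd _ _, ?_, ?_⟩
  · refine isPullback_of_isClosedImmersion _ _ _ _ ?_ ?_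
    · rw [Category.assoc, ← pullback.condition, IdealSheafData.comapIso_hom_fst_assoc]
    · rw [IdealSheafData.ker_subschemeι, IdealSheafData.ker_subschemeι]
  · refine isPullback_of_isClosedImmersion _ _ _ _ ?_ ?_
    · simp only [Category.assoc]
      rw [← pullback.condition, IdealSheafData.comapIso_hom_fst_assoc,
        IdealSheafData.inclusion_subschemeι_assoc]
    · rw [IdealSheafData.ker_subschemeι, IdealSheafData.ker_subschemeι, h]

/-- A coproduct of maps from quasi-compact schemes to affine schemes is quasi-compact. -/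
theorem quasiCompact_sigma {ι : Type u} (T U : ι → Scheme.{u}) (g : ∀ k, T k ⟶ U k)
    [∀ k, CompactSpace (T k)] [∀ k, IsAffine (U k)] :
    QuasiCompact (Sigma.desc (fun k => g k ≫ Sigma.ι U k)) := by
  set G := Sigma.desc (fun k => g k ≫ Sigma.ι U k) with hGdef
  have hG : ∀ k, Sigma.ι T k ≫ G = g k ≫ Sigma.ι U k := fun k => Sigma.ι_desc _ _
  have hGa : ∀ k (x : T k), G (Sigma.ι T k x) = Sigma.ι U k (g k x) := fun k x => by
    rw [← Scheme.Hom.comp_apply, hG, Scheme.Hom.comp_apply]
  have hpre : ∀ k, G ⁻¹ᵁ (Sigma.ι U k).opensRange = (Sigma.ι T k).opensRange := by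
    intro k
    ext t
    constructor
    · intro ht
      obtain ⟨j, tj, rfl⟩ := (sigmaOpenCover T).exists_eq t
      change G (Sigma.ι T j tj) ∈ (Sigma.ι U k).opensRange at ht
      rw [hGa] at ht
      by_cases hjk : j = k
      · subst hjk; exact ⟨tj, rfl⟩
      · exfalso
        have hd := disjoint_opensRange_sigmaι U j k hjk
        have hmem : Sigma.ι U j (g j tj) ∈ (Sigma.ι U j).opensRange ⊓ (Sigma.ι U k).opensRange :=
          ⟨⟨_, rfl⟩, ht⟩
        rw [disjoint_iff.1 hd] at hmem
        exact hmem
    · rintro ⟨tk, rfl⟩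
      change G (Sigma.ι T k tk) ∈ (Sigma.ι U k).opensRange
      rw [hGa]
      exact ⟨_, rfl⟩
  refine IsZariskiLocalAtTarget.of_iSup_eq_top (P := @QuasiCompact)
    (fun k => (Sigma.ι U k).opensRange) (sigmaOpenCover U).iSup_opensRange fun k => ?_
  haveI : CompactSpace ((G ⁻¹ᵁ (Sigma.ι U k).opensRange : (∐ T).Opens) : Scheme.{u}) := by
    have h1 : CompactSpace ↥(G ⁻¹ᵁ (Sigma.ι U k).opensRange) := by
      rw [hpre k]
      exact isCompact_iff_compactSpace.1 (isCompact_range (Sigma.ι T k).continuous)
    exact h1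
  haveI : IsAffine ((Sigma.ι U k).opensRange : Scheme.{u}) :=
    isAffineOpen_opensRange (Sigma.ι U k)
  exact quasiCompact_of_compactSpace _

end Groth.Agent.Lib.SchImKerH7
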