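import Mathlib.AlgebraicGeometry.AffineTransitionLimit

/-!
# Pullback towers over a cofiltered limit of affine schemes (helper7)

For a cofiltered diagram `W : J ⥤ Scheme` with limit cone `c`, a compatible family of maps
`t : W ⟶ const T` and a morphism `h : V ⟶ T`, the pullbacks `V ×_T W_j` form a diagram with limit
`V ×_T c.pt`.  Morphisms (and isomorphisms) between two such limits over `c.pt`, for structure
morphisms locally of finite presentation, come from a finite stage.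
-/

set_option autoImplicit false
set_option linter.style.haveILetI false
set_option linter.unusedSectionVars false

universe u

open CategoryTheory CategoryTheory.Limits AlgebraicGeometry

namespace Groth.Agent.Lib.SchLimTowerH7

variable {J : Type u} [SmallCategory J] (W : J ⥤ Scheme.{u})

section Tower

variable {T V : Scheme.{u}} (t : W ⟶ (Functor.const J).obj T) (h : V ⟶ T)

theorem t_w {j k : J} (φ : j ⟶ k) : W.map φ ≫ t.app k = t.app j := by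
  have e := t.naturality φ
  simp only [Functor.const_obj_obj, Functor.const_obj_map, Category.comp_id] at e
  exact e

/-- transition maps of the tower of pullbacks -/
noncomputable def tMap {j k : J} (φ : j ⟶ k) : pullback h (t.app j) ⟶ pullback h (t.app k) :=
  pullback.lift (pullback.fst h (t.app j)) (pullback.snd h (t.app j) ≫ W.map φ)
    (by rw [pullback.condition, Category.assoc, t_w])

@[reassoc (attr := simp)]
theorem tMap_fst {j k : J} (φ : j ⟶ k) :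
    tMap W t h φ ≫ pullback.fst h (t.app k) = pullback.fst h (t.app j) :=
  pullback.lift_fst _ _ _

@[reassoc (attr := simp)]
theorem tMap_snd {j k : J} (φ : j ⟶ k) :
    tMap W t h φ ≫ pullback.snd h (t.app k) = pullback.snd h (t.app j) ≫ W.map φ :=
  pullback.lift_snd _ _ _

theorem tMap_comp {j k l : J} (φ : j ⟶ k) (ψ : k ⟶ l) :
    tMap W t h (φ ≫ ψ) = tMap W t h φ ≫ tMap W t h ψ := by
  apply pullback.hom_ext
  · rw [Category.assoc, tMap_fst, tMap_fst, tMap_fst]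
  · rw [Category.assoc, tMap_snd, tMap_snd, tMap_snd_assoc, W.map_comp]

theorem tMap_id (j : J) : tMap W t h (𝟙 j) = 𝟙 _ := by
  apply pullback.hom_ext
  · rw [tMap_fst, Category.id_comp]
  · rw [tMap_snd, W.map_id, Category.comp_id, Category.id_comp]

/-- the tower of pullbacks `V ×_T W_j` -/
noncomputable def tower : J ⥤ Scheme.{u} where
  obj j := pullback h (t.app j)
  map φ := tMap W t h φ
  map_id j := tMap_id W t h j
  map_comp φ ψ := tMap_comp W t h φ ψ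

theorem isPullback_tMap {j k : J} (φ : j ⟶ k) :
    IsPullback (tMap W t h φ) (pullback.snd h (t.app j)) (pullback.snd h (t.app k)) (W.map φ) := by
  refine IsPullback.of_right ?_ (tMap_snd W t h φ) (IsPullback.of_hasPullback h (t.app k))
  rw [tMap_fst, t_w]
  exact IsPullback.of_hasPullback h (t.app j)

theorem isAffineHom_tMap [∀ {j k : J} (φ : j ⟶ k), IsAffineHom (W.map φ)] {j k : J}
    (φ : j ⟶ k) : IsAffineHom ((tower W t h).map φ) :=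
  MorphismProperty.of_isPullback (P := @IsAffineHom) (isPullback_tMap W t h φ).flip inferInstance

variable (c : Cone W) (τ : c.pt ⟶ T) (hτ : ∀ j, c.π.app j ≫ t.app j = τ)

/-- projections from the pullback of the limit -/
noncomputable def tπ (j : J) : pullback h τ ⟶ pullback h (t.app j) :=
  pullback.lift (pullback.fst h τ) (pullback.snd h τ ≫ c.π.app j)
    (by rw [pullback.condition, Category.assoc, hτ])

@[reassoc (attr := simp)]
theorem tπ_fst (j : J) :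
    tπ W t h c τ hτ j ≫ pullback.fst h (t.app j) = pullback.fst h τ :=
  pullback.lift_fst _ _ _

@[reassoc (attr := simp)]
theorem tπ_snd (j : J) :
    tπ W t h c τ hτ j ≫ pullback.snd h (t.app j) = pullback.snd h τ ≫ c.π.app j :=
  pullback.lift_snd _ _ _

@[reassoc]
theorem tπ_tMap {j k : J} (φ : j ⟶ k) :
    tπ W t h c τ hτ j ≫ tMap W t h φ = tπ W t h c τ hτ k := by
  apply pullback.hom_ext
  · rw [Category.assoc, tMap_fst, tπ_fst, tπ_fst]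
  · rw [Category.assoc, tMap_snd, tπ_snd_assoc, tπ_snd, c.w]

/-- the cone of the tower -/
noncomputable def tCone : Cone (tower W t h) where
  pt := pullback h τ
  π :=
    { app := fun j => tπ W t h c τ hτ j
      naturality := fun j k φ => by
        simp only [Functor.const_obj_obj, Functor.const_obj_map]
        exact (Category.id_comp _).trans (tπ_tMap W t h c τ hτ φ).symm }

set_option backward.isDefEq.respectTransparency false in
theorem tIsLimit [IsCofiltered J] (hc : IsLimit c) : Nonempty (IsLimit (tCone W t h c τ hτ)) := by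
  have key : ∀ (s : Cone (tower W t h)) (j k : J),
      s.π.app j ≫ pullback.fst h (t.app j) = s.π.app k ≫ pullback.fst h (t.app k) := by
    intro s j k
    have e1 : s.π.app (IsCofiltered.min j k) ≫ tMap W t h (IsCofiltered.minToLeft j k) =
        s.π.app j := s.w (IsCofiltered.minToLeft j k)
    have e2 : s.π.app (IsCofiltered.min j k) ≫ tMap W t h (IsCofiltered.minToRight j k) =
        s.π.app k := s.w (IsCofiltered.minToRight j k)
    rw [← e1, ← e2, Category.assoc, Category.assoc, tMap_fst, tMap_fst]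
  obtain ⟨j₀⟩ : Nonempty J := IsCofiltered.nonempty
  let sW : Cone (tower W t h) → Cone W := fun s =>
    { pt := s.pt
      π :=
        { app := fun j => s.π.app j ≫ pullback.snd h (t.app j)
          naturality := fun j k φ => by
            have e : s.π.app j ≫ tMap W t h φ = s.π.app k := s.w φ
            simp only [Functor.const_obj_obj, Functor.const_obj_map, Category.id_comp,
              Category.assoc]
            rw [← e, Category.assoc, tMap_snd] } }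
  have hcomp : ∀ s : Cone (tower W t h),
      (s.π.app j₀ ≫ pullback.fst h (t.app j₀)) ≫ h = hc.lift (sW s) ≫ τ := by
    intro s
    rw [← hτ j₀, ← Category.assoc (hc.lift (sW s)), hc.fac]
    show (s.π.app j₀ ≫ pullback.fst h (t.app j₀)) ≫ h =
      (s.π.app j₀ ≫ pullback.snd h (t.app j₀)) ≫ t.app j₀
    rw [Category.assoc, Category.assoc, pullback.condition]
  refine ⟨{ lift := fun s => pullback.lift (s.π.app j₀ ≫ pullback.fst h (t.app j₀))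
              (hc.lift (sW s)) (hcomp s)
            fac := ?_
            uniq := ?_ }⟩
  · intro s j
    show pullback.lift _ _ _ ≫ tπ W t h c τ hτ j = s.π.app j
    apply pullback.hom_ext
    · rw [Category.assoc, tπ_fst, pullback.lift_fst]
      exact key s j₀ j
    · rw [Category.assoc, tπ_snd, pullback.lift_snd_assoc, hc.fac]
  · intro s m hm
    have hm' : ∀ j, m ≫ tπ W t h c τ hτ j = s.π.app j := hm
    apply pullback.hom_ext
    · rw [pullback.lift_fst, ← hm' j₀, Category.assoc, tπ_fst]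
    · rw [pullback.lift_snd]
      apply hc.hom_ext
      intro j
      rw [hc.fac]
      show (m ≫ pullback.snd h τ) ≫ c.π.app j = s.π.app j ≫ pullback.snd h (t.app j)
      rw [← hm' j, Category.assoc, Category.assoc, tπ_snd]

end Tower

section Spread

variable [IsCofiltered J] [∀ {j k : J} (φ : j ⟶ k), IsAffineHom (W.map φ)]
  [∀ j, IsAffine (W.obj j)] (c : Cone W) (hc : IsLimit c)
  {T₁ V₁ T₂ V₂ : Scheme.{u}} [IsAffine T₁] [IsAffine V₁] [IsAffine T₂] [IsAffine V₂]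
  (t₁ : W ⟶ (Functor.const J).obj T₁) (h₁ : V₁ ⟶ T₁) (τ₁ : c.pt ⟶ T₁)
  (hτ₁ : ∀ j, c.π.app j ≫ t₁.app j = τ₁)
  (t₂ : W ⟶ (Functor.const J).obj T₂) (h₂ : V₂ ⟶ T₂) (τ₂ : c.pt ⟶ T₂)
  (hτ₂ : ∀ j, c.π.app j ≫ t₂.app j = τ₂)

/-- the structure maps of the first tower to the second base -/
noncomputable def tTo : tower W t₁ h₁ ⟶ (Functor.const J).obj T₂ where
  app j := pullback.snd h₁ (t₁.app j) ≫ t₂.app j
  naturality j k φ := by
    have e : tMap W t₁ h₁ φ ≫ pullback.snd h₁ (t₁.app k) ≫ t₂.app k =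
        pullback.snd h₁ (t₁.app j) ≫ t₂.app j := by
      rw [tMap_snd_assoc, t_w]
    exact e.trans (Category.comp_id _).symm

set_option backward.isDefEq.respectTransparency false in
include hc hτ₂ in
/-- morphisms of the limits over `c.pt` come from a finite stage -/
theorem exists_spread [LocallyOfFinitePresentation h₂] (μ : pullback h₁ τ₁ ⟶ pullback h₂ τ₂)
    (hμ : μ ≫ pullback.snd h₂ τ₂ = pullback.snd h₁ τ₁) :
    ∃ (j : J) (ν : pullback h₁ (t₁.app j) ⟶ pullback h₂ (t₂.app j)),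
      ν ≫ pullback.snd h₂ (t₂.app j) = pullback.snd h₁ (t₁.app j) ∧
      tπ W t₁ h₁ c τ₁ hτ₁ j ≫ ν ≫ pullback.fst h₂ (t₂.app j) = μ ≫ pullback.fst h₂ τ₂ := by
  obtain ⟨hl⟩ := tIsLimit W t₁ h₁ c τ₁ hτ₁ hc
  haveI : ∀ {j k : J} (φ : j ⟶ k), IsAffineHom ((tower W t₁ h₁).map φ) :=
    fun φ => isAffineHom_tMap W t₁ h₁ φ
  haveI : ∀ j, IsAffine ((tower W t₁ h₁).obj j) :=
    fun j => inferInstanceAs (IsAffine (pullback h₁ (t₁.app j)))
  have ha : (tCone W t₁ h₁ c τ₁ hτ₁).π ≫ tTo W t₁ h₁ t₂ =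
      (Functor.const J).map ((μ ≫ pullback.fst h₂ τ₂) ≫ h₂) := by
    ext j
    show tπ W t₁ h₁ c τ₁ hτ₁ j ≫ pullback.snd h₁ (t₁.app j) ≫ t₂.app j =
      (μ ≫ pullback.fst h₂ τ₂) ≫ h₂
    rw [tπ_snd_assoc, hτ₂, Category.assoc, pullback.condition, ← Category.assoc, hμ]
  obtain ⟨j, g₀, hg1, hg2⟩ := Scheme.exists_π_app_comp_eq_of_locallyOfFinitePresentation
    (tower W t₁ h₁) (tTo W t₁ h₁ t₂) h₂ (tCone W t₁ h₁ c τ₁ hτ₁) hl
    (μ ≫ pullback.fst h₂ τ₂) ha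
  obtain ⟨g, hg⟩ : ∃ g : pullback h₁ (t₁.app j) ⟶ V₂, g = g₀ := ⟨g₀, rfl⟩
  have hg1' : tπ W t₁ h₁ c τ₁ hτ₁ j ≫ g = μ ≫ pullback.fst h₂ τ₂ := by
    rw [hg]
    exact hg1
  have hg2' : g ≫ h₂ = pullback.snd h₁ (t₁.app j) ≫ t₂.app j := by
    rw [hg]
    exact hg2
  refine ⟨j, pullback.lift g (pullback.snd h₁ (t₁.app j)) hg2', pullback.lift_snd _ _ _, ?_⟩
  rw [pullback.lift_fst]
  exact hg1'

/-- base change of a morphism of stages to a later stage -/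
noncomputable def bc {j : J} (ν : pullback h₁ (t₁.app j) ⟶ pullback h₂ (t₂.app j))
    (hν : ν ≫ pullback.snd h₂ (t₂.app j) = pullback.snd h₁ (t₁.app j)) {k : J} (φ : k ⟶ j) :
    pullback h₁ (t₁.app k) ⟶ pullback h₂ (t₂.app k) :=
  pullback.lift (tMap W t₁ h₁ φ ≫ ν ≫ pullback.fst h₂ (t₂.app j)) (pullback.snd h₁ (t₁.app k))
    (by
      rw [Category.assoc, Category.assoc, pullback.condition, ← Category.assoc ν, hν,
        tMap_snd_assoc, t_w])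

variable {j : J} (ν : pullback h₁ (t₁.app j) ⟶ pullback h₂ (t₂.app j))
  (hν : ν ≫ pullback.snd h₂ (t₂.app j) = pullback.snd h₁ (t₁.app j)) {k : J} (φ : k ⟶ j)

@[reassoc]
theorem bc_fst : bc W t₁ h₁ t₂ h₂ ν hν φ ≫ pullback.fst h₂ (t₂.app k) =
    tMap W t₁ h₁ φ ≫ ν ≫ pullback.fst h₂ (t₂.app j) :=
  pullback.lift_fst _ _ _

@[reassoc]
theorem bc_snd : bc W t₁ h₁ t₂ h₂ ν hν φ ≫ pullback.snd h₂ (t₂.app k) =
    pullback.snd h₁ (t₁.app k) :=
  pullback.lift_snd _ _ _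

@[reassoc]
theorem bc_tMap : bc W t₁ h₁ t₂ h₂ ν hν φ ≫ tMap W t₂ h₂ φ = tMap W t₁ h₁ φ ≫ ν := by
  apply pullback.hom_ext
  · rw [Category.assoc, tMap_fst, bc_fst, Category.assoc]
  · rw [Category.assoc, tMap_snd, bc_snd_assoc, Category.assoc, hν, tMap_snd]

theorem bc_compat (μ : pullback h₁ τ₁ ⟶ pullback h₂ τ₂)
    (h : tπ W t₁ h₁ c τ₁ hτ₁ j ≫ ν ≫ pullback.fst h₂ (t₂.app j) = μ ≫ pullback.fst h₂ τ₂) :
    tπ W t₁ h₁ c τ₁ hτ₁ k ≫ bc W t₁ h₁ t₂ h₂ ν hν φ ≫ pullback.fst h₂ (t₂.app k) =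
      μ ≫ pullback.fst h₂ τ₂ := by
  rw [bc_fst, tπ_tMap_assoc, h]

set_option backward.isDefEq.respectTransparency false in
include hc hν in
/-- two morphisms of stages inducing the same morphism of limits agree at a later stage -/
theorem exists_eq_of_spread [LocallyOfFiniteType h₂]
    (ν' : pullback h₁ (t₁.app j) ⟶ pullback h₂ (t₂.app j))
    (hν' : ν' ≫ pullback.snd h₂ (t₂.app j) = pullback.snd h₁ (t₁.app j))
    (h : tπ W t₁ h₁ c τ₁ hτ₁ j ≫ ν ≫ pullback.fst h₂ (t₂.app j) =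
      tπ W t₁ h₁ c τ₁ hτ₁ j ≫ ν' ≫ pullback.fst h₂ (t₂.app j)) :
    ∃ (k : J) (φ : k ⟶ j), tMap W t₁ h₁ φ ≫ ν ≫ pullback.fst h₂ (t₂.app j) =
      tMap W t₁ h₁ φ ≫ ν' ≫ pullback.fst h₂ (t₂.app j) := by
  obtain ⟨hl⟩ := tIsLimit W t₁ h₁ c τ₁ hτ₁ hc
  haveI : ∀ {j k : J} (φ : j ⟶ k), IsAffineHom ((tower W t₁ h₁).map φ) :=
    fun φ => isAffineHom_tMap W t₁ h₁ φ
  haveI : ∀ j, IsAffine ((tower W t₁ h₁).obj j) :=
    fun j => inferInstanceAs (IsAffine (pullback h₁ (t₁.app j)))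
  have ha : (tTo W t₁ h₁ t₂).app j = (ν ≫ pullback.fst h₂ (t₂.app j)) ≫ h₂ := by
    show pullback.snd h₁ (t₁.app j) ≫ t₂.app j = _
    rw [Category.assoc, pullback.condition, ← Category.assoc, hν]
  have hb : (tTo W t₁ h₁ t₂).app j = (ν' ≫ pullback.fst h₂ (t₂.app j)) ≫ h₂ := by
    show pullback.snd h₁ (t₁.app j) ≫ t₂.app j = _
    rw [Category.assoc, pullback.condition, ← Category.assoc, hν']
  exact Scheme.exists_hom_comp_eq_comp_of_locallyOfFiniteType (tower W t₁ h₁)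
    (tTo W t₁ h₁ t₂) h₂ (tCone W t₁ h₁ c τ₁ hτ₁) hl (ν ≫ pullback.fst h₂ (t₂.app j))
    (ν' ≫ pullback.fst h₂ (t₂.app j)) ha hb h

end Spread

section Iso

variable [IsCofiltered J] [∀ {j k : J} (φ : j ⟶ k), IsAffineHom (W.map φ)]
  [∀ j, IsAffine (W.obj j)] (c : Cone W) (hc : IsLimit c)
  {T₁ V₁ T₂ V₂ : Scheme.{u}} [IsAffine T₁] [IsAffine V₁] [IsAffine T₂] [IsAffine V₂]
  (t₁ : W ⟶ (Functor.const J).obj T₁) (h₁ : V₁ ⟶ T₁) (τ₁ : c.pt ⟶ T₁)
  (hτ₁ : ∀ j, c.π.app j ≫ t₁.app j = τ₁)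
  (t₂ : W ⟶ (Functor.const J).obj T₂) (h₂ : V₂ ⟶ T₂) (τ₂ : c.pt ⟶ T₂)
  (hτ₂ : ∀ j, c.π.app j ≫ t₂.app j = τ₂)

set_option backward.isDefEq.respectTransparency false in
include hc hτ₁ hτ₂ in
/-- An isomorphism over `c.pt` between the limits of two towers of finite presentation comes
from an isomorphism at a finite stage. -/
theorem exists_iso_stage [LocallyOfFinitePresentation h₁] [LocallyOfFinitePresentation h₂]
    (Θ : pullback h₁ τ₁ ≅ pullback h₂ τ₂)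
    (hΘ : Θ.hom ≫ pullback.snd h₂ τ₂ = pullback.snd h₁ τ₁) :
    ∃ (j : J) (θ : pullback h₁ (t₁.app j) ≅ pullback h₂ (t₂.app j)),
      θ.hom ≫ pullback.snd h₂ (t₂.app j) = pullback.snd h₁ (t₁.app j) := by
  have hΘ' : Θ.inv ≫ pullback.snd h₁ τ₁ = pullback.snd h₂ τ₂ := by
    rw [← hΘ, Iso.inv_hom_id_assoc]
  obtain ⟨j₁, θ₁, hθ₁s, hθ₁f⟩ := exists_spread W c hc t₁ h₁ τ₁ hτ₁ t₂ h₂ τ₂ hτ₂ Θ.hom hΘ
  obtain ⟨j₂, ψ₂, hψ₂s, hψ₂f⟩ := exists_spread W c hc t₂ h₂ τ₂ hτ₂ t₁ h₁ τ₁ hτ₁ Θ.inv hΘ'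
  obtain ⟨j₃, α₁, α₂, -⟩ : ∃ (j₃ : J) (_ : j₃ ⟶ j₁) (_ : j₃ ⟶ j₂), True :=
    ⟨IsCofiltered.min j₁ j₂, IsCofiltered.minToLeft _ _, IsCofiltered.minToRight _ _, trivial⟩
  obtain ⟨θ₃, hθ₃s, hθ₃f⟩ : ∃ θ₃ : pullback h₁ (t₁.app j₃) ⟶ pullback h₂ (t₂.app j₃),
      θ₃ ≫ pullback.snd h₂ (t₂.app j₃) = pullback.snd h₁ (t₁.app j₃) ∧
      tπ W t₁ h₁ c τ₁ hτ₁ j₃ ≫ θ₃ ≫ pullback.fst h₂ (t₂.app j₃) = Θ.hom ≫ pullback.fst h₂ τ₂ :=
    ⟨bc W t₁ h₁ t₂ h₂ θ₁ hθ₁s α₁, bc_snd W t₁ h₁ t₂ h₂ θ₁ hθ₁s α₁,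
      bc_compat W c t₁ h₁ τ₁ hτ₁ t₂ h₂ τ₂ θ₁ hθ₁s α₁ Θ.hom hθ₁f⟩
  obtain ⟨ψ₃, hψ₃s, hψ₃f⟩ : ∃ ψ₃ : pullback h₂ (t₂.app j₃) ⟶ pullback h₁ (t₁.app j₃),
      ψ₃ ≫ pullback.snd h₁ (t₁.app j₃) = pullback.snd h₂ (t₂.app j₃) ∧
      tπ W t₂ h₂ c τ₂ hτ₂ j₃ ≫ ψ₃ ≫ pullback.fst h₁ (t₁.app j₃) = Θ.inv ≫ pullback.fst h₁ τ₁ :=
    ⟨bc W t₂ h₂ t₁ h₁ ψ₂ hψ₂s α₂, bc_snd W t₂ h₂ t₁ h₁ ψ₂ hψ₂s α₂,
      bc_compat W c t₂ h₂ τ₂ hτ₂ t₁ h₁ τ₁ ψ₂ hψ₂s α₂ Θ.inv hψ₂f⟩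
  have hθ₃c : tπ W t₁ h₁ c τ₁ hτ₁ j₃ ≫ θ₃ = Θ.hom ≫ tπ W t₂ h₂ c τ₂ hτ₂ j₃ := by
    apply pullback.hom_ext
    · rw [Category.assoc, hθ₃f, Category.assoc, tπ_fst]
    · rw [Category.assoc, hθ₃s, tπ_snd, Category.assoc, tπ_snd, ← Category.assoc, hΘ]
  have hψ₃c : tπ W t₂ h₂ c τ₂ hτ₂ j₃ ≫ ψ₃ = Θ.inv ≫ tπ W t₁ h₁ c τ₁ hτ₁ j₃ := by
    apply pullback.hom_ext
    · rw [Category.assoc, hψ₃f, Category.assoc, tπ_fst]
    · rw [Category.assoc, hψ₃s, tπ_snd, Category.assoc, tπ_snd, ← Category.assoc, hΘ']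
  have h1 : tπ W t₁ h₁ c τ₁ hτ₁ j₃ ≫ (θ₃ ≫ ψ₃) ≫ pullback.fst h₁ (t₁.app j₃) =
      tπ W t₁ h₁ c τ₁ hτ₁ j₃ ≫ 𝟙 _ ≫ pullback.fst h₁ (t₁.app j₃) := by
    rw [Category.id_comp, Category.assoc, ← Category.assoc, hθ₃c, Category.assoc, hψ₃f,
      Iso.hom_inv_id_assoc, tπ_fst]
  have h2 : tπ W t₂ h₂ c τ₂ hτ₂ j₃ ≫ (ψ₃ ≫ θ₃) ≫ pullback.fst h₂ (t₂.app j₃) =
      tπ W t₂ h₂ c τ₂ hτ₂ j₃ ≫ 𝟙 _ ≫ pullback.fst h₂ (t₂.app j₃) := by
    rw [Category.id_comp, Category.assoc, ← Category.assoc, hψ₃c, Category.assoc, hθ₃f,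
      Iso.inv_hom_id_assoc, tπ_fst]
  obtain ⟨k₄, φ₄, hk₄⟩ := exists_eq_of_spread W c hc t₁ h₁ τ₁ hτ₁ t₁ h₁ (θ₃ ≫ ψ₃)
    (by rw [Category.assoc, hψ₃s, hθ₃s]) (𝟙 _) (Category.id_comp _) h1
  obtain ⟨k₅, φ₅, hk₅⟩ := exists_eq_of_spread W c hc t₂ h₂ τ₂ hτ₂ t₂ h₂ (ψ₃ ≫ θ₃)
    (by rw [Category.assoc, hθ₃s, hψ₃s]) (𝟙 _) (Category.id_comp _) h2
  obtain ⟨k₆, α, β, hαβ⟩ := IsCofiltered.cospan φ₄ φ₅
  have hk₄' : tMap W t₁ h₁ φ₄ ≫ θ₃ ≫ ψ₃ ≫ pullback.fst h₁ (t₁.app j₃) =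
      pullback.fst h₁ (t₁.app k₄) := by
    have := hk₄
    rw [Category.id_comp, tMap_fst, Category.assoc] at this
    exact this
  have hk₅' : tMap W t₂ h₂ φ₅ ≫ ψ₃ ≫ θ₃ ≫ pullback.fst h₂ (t₂.app j₃) =
      pullback.fst h₂ (t₂.app k₅) := by
    have := hk₅
    rw [Category.id_comp, tMap_fst, Category.assoc] at this
    exact this
  refine ⟨k₆, ⟨bc W t₁ h₁ t₂ h₂ θ₃ hθ₃s (α ≫ φ₄), bc W t₂ h₂ t₁ h₁ ψ₃ hψ₃s (α ≫ φ₄), ?_, ?_⟩,
    bc_snd W t₁ h₁ t₂ h₂ θ₃ hθ₃s (α ≫ φ₄)⟩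
  · apply pullback.hom_ext
    · rw [Category.assoc, bc_fst, bc_tMap_assoc, tMap_comp, Category.assoc, hk₄', tMap_fst,
        Category.id_comp]
    · rw [Category.assoc, bc_snd, bc_snd, Category.id_comp]
  · apply pullback.hom_ext
    · rw [Category.assoc, bc_fst, bc_tMap_assoc, hαβ, tMap_comp, Category.assoc, hk₅', tMap_fst,
        Category.id_comp]
    · rw [Category.assoc, bc_snd, bc_snd, Category.id_comp]

end Iso

end Groth.Agent.Lib.SchLimTowerH7
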