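import Mathlib.AlgebraicGeometry.Morphisms.QuasiFinite
import Mathlib.AlgebraicGeometry.Morphisms.FormallyUnramified
import Mathlib.AlgebraicGeometry.Morphisms.UniversallyInjective
import Mathlib.AlgebraicGeometry.PullbackCarrier

/-!
# A morphism whose second projection of the self fibre product is unramified / locally
quasi-finite is so itself (helper7)
-/

set_option autoImplicit false
universe u
open CategoryTheory CategoryTheory.Limits AlgebraicGeometry

namespace Groth.Agent.Lib.SchLqfDiagH7

/-- transport of the hypothesis along open immersions of the source -/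
theorem lqf_snd_of_openImmersion {U' U V' V : Scheme.{u}} (a : U' ⟶ U) [IsOpenImmersion a]
    (b : V' ⟶ V) (h' : U' ⟶ V') (h : U ⟶ V) (comm : h' ≫ b = a ≫ h) [LocallyOfFiniteType h']
    [LocallyQuasiFinite (pullback.snd h h)] : LocallyQuasiFinite (pullback.snd h' h') := by
  have hm : pullback.map h' h' h h a a b comm comm ≫ pullback.snd h h = pullback.snd h' h' ≫ a :=
    pullback.lift_snd _ _ _
  have hm1 : pullback.map h' h' h h a a b comm comm ≫ pullback.fst h h = pullback.fst h' h' ≫ a :=
    pullback.lift_fst _ _ _
  haveI : Mono (pullback.map h' h' h h a a b comm comm) := by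
    refine ⟨fun z₁ z₂ hz => ?_⟩
    apply pullback.hom_ext
    · have := congrArg (fun k => k ≫ pullback.fst h h) hz
      simp only [Category.assoc, hm1] at this
      rw [← Category.assoc, ← Category.assoc] at this
      exact (cancel_mono a).1 this
    · have := congrArg (fun k => k ≫ pullback.snd h h) hz
      simp only [Category.assoc, hm] at this
      rw [← Category.assoc, ← Category.assoc] at this
      exact (cancel_mono a).1 this
  haveI : LocallyOfFiniteType
      (pullback.map h' h' h h a a b comm comm ≫ pullback.snd h h) := by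
    rw [hm]
    infer_instance
  haveI : LocallyOfFiniteType (pullback.map h' h' h h a a b comm comm) :=
    locallyOfFiniteType_of_comp _ (pullback.snd h h)
  haveI : LocallyQuasiFinite (pullback.map h' h' h h a a b comm comm) := inferInstance
  haveI : LocallyQuasiFinite (pullback.snd h' h' ≫ a) := by
    rw [← hm]
    infer_instance
  exact LocallyQuasiFinite.of_comp (pullback.snd h' h') a

/-- the quasi-compact case, by counting points of fibres -/
theorem lqf_of_lqf_snd_of_quasiCompact {U V : Scheme.{u}} (h : U ⟶ V) [LocallyOfFiniteType h]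
    [QuasiCompact h] [LocallyQuasiFinite (pullback.snd h h)] : LocallyQuasiFinite h := by
  apply LocallyQuasiFinite.of_finite_preimage_singleton
  intro v
  by_cases hne : (h ⁻¹' {v}).Nonempty
  · obtain ⟨u₀, hu₀⟩ := hne
    have hfin := (pullback.snd h h).finite_preimage_singleton u₀
    refine (hfin.image (pullback.fst h h)).subset ?_
    intro u hu
    obtain ⟨z, hz1, hz2⟩ := Scheme.Pullback.exists_preimage_pullback (f := h) (g := h) u u₀
      (hu.trans hu₀.symm)
    exact ⟨z, hz2, hz1⟩
  · rw [Set.not_nonempty_iff_eq_empty] at hne
    rw [hne]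
    exact Set.finite_empty

theorem lqf_of_lqf_snd_affine_target {U V : Scheme.{u}} [IsAffine V] (h : U ⟶ V)
    [LocallyOfFiniteType h] [LocallyQuasiFinite (pullback.snd h h)] : LocallyQuasiFinite h := by
  refine (IsZariskiLocalAtSource.iff_of_openCover (P := @LocallyQuasiFinite) U.affineCover).mpr
    fun i => ?_
  haveI : LocallyQuasiFinite (pullback.snd (U.affineCover.f i ≫ h) (U.affineCover.f i ≫ h)) :=
    lqf_snd_of_openImmersion (U.affineCover.f i) (𝟙 V) (U.affineCover.f i ≫ h) h
      (Category.comp_id _)
  exact lqf_of_lqf_snd_of_quasiCompact (U.affineCover.f i ≫ h)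

theorem lqf_of_lqf_snd {U V : Scheme.{u}} (h : U ⟶ V)
    [LocallyOfFiniteType h] [LocallyQuasiFinite (pullback.snd h h)] : LocallyQuasiFinite h := by
  refine (IsZariskiLocalAtTarget.iff_of_openCover (P := @LocallyQuasiFinite) V.affineCover).mpr
    fun j => ?_
  haveI : LocallyQuasiFinite (pullback.snd (pullback.snd h (V.affineCover.f j))
      (pullback.snd h (V.affineCover.f j))) :=
    lqf_snd_of_openImmersion (pullback.fst h (V.affineCover.f j)) (V.affineCover.f j)
      (pullback.snd h (V.affineCover.f j)) h pullback.condition.symm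
  exact lqf_of_lqf_snd_affine_target (pullback.snd h (V.affineCover.f j))

theorem lqf_of_isPullback {U V W : Scheme.{u}} (h : U ⟶ V) [LocallyOfFiniteType h]
    {p₁ p₂ : W ⟶ U} (sq : IsPullback p₁ p₂ h h) (hp : LocallyQuasiFinite p₂) :
    LocallyQuasiFinite h := by
  haveI : LocallyQuasiFinite (pullback.snd h h) := by
    rw [← sq.isoPullback_inv_snd]
    infer_instance
  exact lqf_of_lqf_snd h

/-- the unramified analogue, through the diagonal -/
theorem formallyUnramified_of_snd {U V : Scheme.{u}} (h : U ⟶ V) [LocallyOfFiniteType h]
    [FormallyUnramified (pullback.snd h h)] : FormallyUnramified h := by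
  haveI hpost : MorphismProperty.HasOfPostcompProperty @IsOpenImmersion
      (@LocallyOfFiniteType ⊓ @FormallyUnramified) := by
    rw [MorphismProperty.hasOfPostcompProperty_iff_le_diagonal]
    intro X Y f ⟨hft, hfu⟩
    exact inferInstanceAs <| IsOpenImmersion (pullback.diagonal f)
  haveI : IsOpenImmersion (pullback.diagonal h ≫ pullback.snd h h) := by
    rw [pullback.diagonal_snd]
    infer_instance
  haveI : IsOpenImmersion (pullback.diagonal h) :=
    MorphismProperty.of_postcomp (W := @IsOpenImmersion)
      (W' := @LocallyOfFiniteType ⊓ @FormallyUnramified) (pullback.diagonal h) (pullback.snd h h)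
      ⟨inferInstance, inferInstance⟩ inferInstance
  infer_instance

theorem formallyUnramified_of_isPullback {U V W : Scheme.{u}} (h : U ⟶ V) [LocallyOfFiniteType h]
    {p₁ p₂ : W ⟶ U} (sq : IsPullback p₁ p₂ h h) (hp : FormallyUnramified p₂) :
    FormallyUnramified h := by
  haveI : FormallyUnramified (pullback.snd h h) := by
    rw [← sq.isoPullback_inv_snd]
    exact (MorphismProperty.cancel_left_of_respectsIso @FormallyUnramified
      sq.isoPullback.inv p₂).2 hp
  exact formallyUnramified_of_snd h

end Groth.Agent.Lib.SchLqfDiagH7
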