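import Mathlib
import Groth.Agent.Lib.SchPushout_helper5
import Groth.Agent.Lib.PinchBCFlat_helper5

/-!
# Pushouts of schemes along closed immersions: uniqueness and flat base change
-/

namespace Groth.Agent.ShPushout

open CategoryTheory Limits AlgebraicGeometry TopologicalSpace Opposite
open Groth.Agent.RSPushout Groth.Agent.RSPushoutCrit Groth.Agent.FibSqLib Groth.Agent.PushoutLocal

universe u

/-- any pushout of schemes along two closed immersions is a pushout of sheafed spaces -/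
theorem isPushout_G_of_isPushout {X Y Z Q : Scheme.{u}} (i : Z ⟶ X) (j : Z ⟶ Y)
    [IsClosedImmersion i] [IsClosedImmersion j] (a : X ⟶ Q) (b : Y ⟶ Q) (h : IsPushout i j a b) :
    IsPushout (G.map i) (G.map j) (G.map a) (G.map b) := by
  have hQ := isPushout_PS i j
  have hS := isPushout_of_G _ _ _ _ hQ
  have h1 : inlS i j ≫ (hS.isoIsPushout _ _ h).hom = a := hS.inl_isoIsPushout_hom _ _ h
  have h2 : inrS i j ≫ (hS.isoIsPushout _ _ h).hom = b := hS.inr_isoIsPushout_hom _ _ h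
  refine IsPushout.of_iso hQ (Iso.refl _) (Iso.refl _) (Iso.refl _)
    (G.mapIso (hS.isoIsPushout _ _ h)) (by simp) (by simp) ?_ ?_
  · rw [Iso.refl_hom, Category.id_comp, Functor.mapIso_hom, ← G.map_comp, h1]
  · rw [Iso.refl_hom, Category.id_comp, Functor.mapIso_hom, ← G.map_comp, h2]

/-- flat base change of a pushout of schemes along closed immersions -/
theorem isPushout_baseChange_sch {S X Z Z' X' T : Scheme.{u}}
    (fX : X ⟶ S) (fZ' : Z' ⟶ S) (fX' : X' ⟶ S) (fZ : Z ⟶ S)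
    (ι : Z ⟶ X) (q : Z ⟶ Z') (π : X ⟶ X') (ι' : Z' ⟶ X')
    [IsClosedImmersion ι] [IsClosedImmersion q]
    (hι : ι ≫ fX = fZ) (hq : q ≫ fZ' = fZ) (hπ : π ≫ fX' = fX) (hι' : ι' ≫ fX' = fZ')
    (hpo : IsPushout ι q π ι')
    (g : T ⟶ S) [Flat g]
    (ιT : pullback fZ g ⟶ pullback fX g) (qT : pullback fZ g ⟶ pullback fZ' g)
    (πT : pullback fX g ⟶ pullback fX' g) (ι'T : pullback fZ' g ⟶ pullback fX' g)
    (hιT1 : ιT ≫ pullback.fst fX g = pullback.fst fZ g ≫ ι)
    (hιT2 : ιT ≫ pullback.snd fX g = pullback.snd fZ g)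
    (hqT1 : qT ≫ pullback.fst fZ' g = pullback.fst fZ g ≫ q)
    (hqT2 : qT ≫ pullback.snd fZ' g = pullback.snd fZ g)
    (hπT1 : πT ≫ pullback.fst fX' g = pullback.fst fX g ≫ π)
    (hπT2 : πT ≫ pullback.snd fX' g = pullback.snd fX g)
    (hι'T1 : ι'T ≫ pullback.fst fX' g = pullback.fst fZ' g ≫ ι')
    (hι'T2 : ι'T ≫ pullback.snd fX' g = pullback.snd fZ' g) :
    IsPushout ιT qT πT ι'T := by
  have hG := isPushout_G_of_isPushout ι q π ι' hpo
  haveI : IsClosedImmersion π := isClosedImmersion_inl _ _ _ _ hG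
  haveI : IsClosedImmersion ι' := isClosedImmersion_inr _ _ _ _ hG
  have hT := Groth.Agent.PinchBC.isPushout_baseChange_flat fX fZ' fX' fZ ι q π ι' hι hq hπ hι' hG g
    ιT qT πT ι'T hιT1 hιT2 hqT1 hqT2 hπT1 hπT2 hι'T1 hι'T2
  exact isPushout_of_G _ _ _ _ hT

end Groth.Agent.ShPushout
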