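import Mathlib
import Groth.Agent.Lib.SchPushoutBC_helper5
import Groth.Agent.Lib.PrimeAvoidCoset_helper5

/-!
# Finite sets of points in a pushout along closed immersions lie in affine opens
-/

namespace Groth.Agent.ShPushout

open CategoryTheory Limits AlgebraicGeometry TopologicalSpace Opposite
open Groth.Agent.RSPushout Groth.Agent.PrimeAvoidCoset

universe u

theorem exists_affine_pair_finite {X Y Z : Scheme.{u}} (i : Z ⟶ X) (j : Z ⟶ Y)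
    [IsClosedImmersion i] [IsClosedImmersion j]
    (E₁ : Set X) (E₂ : Set Y) (hE₁ : E₁.Finite) (hE₂ : E₂.Finite)
    (hcompat : ∀ z : Z, i z ∈ E₁ ↔ j z ∈ E₂)
    (U₁ : X.Opens) (hU₁ : IsAffineOpen U₁) (hEU₁ : E₁ ⊆ U₁)
    (U₂ : Y.Opens) (hU₂ : IsAffineOpen U₂) (hEU₂ : E₂ ⊆ U₂) :
    ∃ (V₁ : X.Opens) (V₂ : Y.Opens), IsAffineOpen V₁ ∧ IsAffineOpen V₂ ∧ E₁ ⊆ V₁ ∧ E₂ ⊆ V₂ ∧
      i ⁻¹ᵁ V₁ = j ⁻¹ᵁ V₂ := by
  -- step 1-2
  obtain ⟨VXs, hVXo, hVX⟩ := i.isEmbedding.isInducing.isOpen_iff.mp (j ⁻¹ᵁ U₂).isOpen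
  have hO₁o : IsOpen (VXs ∪ (Set.range i)ᶜ) :=
    hVXo.union i.isClosedEmbedding.isClosed_range.isOpen_compl
  have hmemVX : ∀ z : Z, i z ∈ VXs ↔ j z ∈ U₂ := fun z => by
    have := congrArg (fun S : Set Z => z ∈ S) hVX
    exact iff_of_eq this
  obtain ⟨g₁, hg₁E, hg₁O⟩ := exists_basicOpen_finite hU₁ E₁ hE₁ hEU₁
    (⟨_, hO₁o⟩ ⊓ U₁) (by
      intro x hx
      refine ⟨?_, hEU₁ hx⟩
      by_cases hxr : x ∈ Set.range i
      · obtain ⟨z, rfl⟩ := hxr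
        exact Or.inl ((hmemVX z).mpr (hEU₂ ((hcompat z).mp hx)))
      · exact Or.inr hxr)
  have hW : IsAffineOpen (X.basicOpen g₁) := hU₁.basicOpen g₁
  have hWT : i ⁻¹ᵁ X.basicOpen g₁ ≤ j ⁻¹ᵁ U₂ := by
    intro z hz
    rcases (hg₁O hz).1 with h | h
    · exact (hmemVX z).mp h
    · exact (h ⟨z, rfl⟩).elim
  -- step 4
  obtain ⟨VYs, hVYo, hVY⟩ := j.isEmbedding.isInducing.isOpen_iff.mp
    (i ⁻¹ᵁ X.basicOpen g₁).isOpen
  have hO₂o : IsOpen (VYs ∪ (Set.range j)ᶜ) :=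
    hVYo.union j.isClosedEmbedding.isClosed_range.isOpen_compl
  have hmemVY : ∀ z : Z, j z ∈ VYs ↔ i z ∈ X.basicOpen g₁ := fun z => by
    have := congrArg (fun S : Set Z => z ∈ S) hVY
    exact iff_of_eq this
  obtain ⟨f₂, hf₂E, hf₂O⟩ := exists_basicOpen_finite hU₂ E₂ hE₂ hEU₂
    (⟨_, hO₂o⟩ ⊓ U₂) (by
      intro y hy
      refine ⟨?_, hEU₂ hy⟩
      by_cases hyr : y ∈ Set.range j
      · obtain ⟨z, rfl⟩ := hyr
        exact Or.inl ((hmemVY z).mpr (hg₁E ((hcompat z).mpr hy)))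
      · exact Or.inr hyr)
  have hV₂W : j ⁻¹ᵁ Y.basicOpen f₂ ≤ i ⁻¹ᵁ X.basicOpen g₁ := by
    intro z hz
    rcases (hf₂O hz).1 with h | h
    · exact (hmemVY z).mp h
    · exact (h ⟨z, rfl⟩).elim
  have e1 : j ⁻¹ᵁ Y.basicOpen f₂ = Z.basicOpen (j.app U₂ f₂) := Scheme.preimage_basicOpen j f₂
  -- step 5
  obtain ⟨g₀, hg₀⟩ := Scheme.Hom.app_surjective i _ hW
    (Z.presheaf.map (homOfLE hWT).op (j.app U₂ f₂))
  obtain ⟨g, hg, hgF⟩ := exists_lift_avoid hW i (E₁ \ Set.range i) (hE₁.subset Set.sdiff_subset)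
    (fun x hx => hg₁E hx.1) (fun x hx => hx.2) g₀
  have e2 : i ⁻¹ᵁ X.basicOpen g = Z.basicOpen (j.app U₂ f₂) := by
    rw [Scheme.preimage_basicOpen, hg, hg₀, Scheme.basicOpen_res]
    refine inf_eq_right.mpr ?_
    rw [← e1]
    exact hV₂W
  refine ⟨X.basicOpen g, Y.basicOpen f₂, hW.basicOpen g, hU₂.basicOpen f₂, ?_, hf₂E, ?_⟩
  · intro x hx
    by_cases hxr : x ∈ Set.range i
    · obtain ⟨z, rfl⟩ := hxr
      have hz : z ∈ j ⁻¹ᵁ Y.basicOpen f₂ := hf₂E ((hcompat z).mp hx)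
      rw [e1, ← e2] at hz
      exact hz
    · exact hgF ⟨hx, hxr⟩
  · rw [e1, e2]

/-- a finite set of points of a pushout along closed immersions whose preimages lie in affine
opens lies in an affine open -/
theorem exists_affine_finite {X Y Z Q : Scheme.{u}} (i : Z ⟶ X) (j : Z ⟶ Y)
    [IsClosedImmersion i] [IsClosedImmersion j] (a : X ⟶ Q) (b : Y ⟶ Q)
    (hQ : IsPushout (G.map i) (G.map j) (G.map a) (G.map b))
    (E : Set Q) (hE : E.Finite)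
    (h₁ : ∃ U₁ : X.Opens, IsAffineOpen U₁ ∧ a ⁻¹' E ⊆ (U₁ : Set X))
    (h₂ : ∃ U₂ : Y.Opens, IsAffineOpen U₂ ∧ b ⁻¹' E ⊆ (U₂ : Set Y)) :
    ∃ U : Q.Opens, IsAffineOpen U ∧ E ⊆ (U : Set Q) := by
  obtain ⟨U₁, hU₁, hEU₁⟩ := h₁
  obtain ⟨U₂, hU₂, hEU₂⟩ := h₂
  have hi : Function.Injective i := i.isEmbedding.injective
  have hj : Function.Injective j := j.isEmbedding.injective
  have ha : Function.Injective a := injective_a i j (G.map a) (G.map b) hQ hj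
  have hb : Function.Injective b := injective_b i j (G.map a) (G.map b) hQ hi
  obtain ⟨V₁, V₂, hV₁, hV₂, hEV₁, hEV₂, hV⟩ := exists_affine_pair_finite i j (a ⁻¹' E) (b ⁻¹' E)
    (hE.preimage ha.injOn) (hE.preimage hb.injOn)
    (fun z => by
      show a (i z) ∈ E ↔ b (j z) ∈ E
      rw [show a (i z) = b (j z) from comm_pt i j (G.map a) (G.map b) hQ z])
    U₁ hU₁ hEU₁ U₂ hU₂ hEU₂
  obtain ⟨U, hUa, hUb⟩ := exists_open i j (G.map a) (G.map b) hQ hi hj V₁ V₂ hV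
  have hUa' : a ⁻¹ᵁ U = V₁ := hUa
  have hUb' : b ⁻¹ᵁ U = V₂ := hUb
  refine ⟨U, isAffineOpen_of_good i j a b hQ U (hUa' ▸ hV₁) (hUb' ▸ hV₂), ?_⟩
  intro e he
  rcases exists_pt i j (G.map a) (G.map b) hQ e with ⟨x, rfl⟩ | ⟨y, rfl⟩
  · have hx : x ∈ a ⁻¹ᵁ U := by rw [hUa']; exact hEV₁ he
    exact hx
  · have hy : y ∈ b ⁻¹ᵁ U := by rw [hUb']; exact hEV₂ he
    exact hy

end Groth.Agent.ShPushout
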