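import Mathlib
import Groth.Prelude.Def_W4c6secantcecoversSchSt

namespace Groth.Agent.Lib.SchSt

open TensorProduct W4c6secantcecovers

universe u v

section

variable (R : Type u) [CommRing R] (r : ℕ)

/-- product of the `ι` of a list of vectors -/
noncomputable def P (l : List (Fin r → R)) : SSLam R r :=
  (l.map (ExteriorAlgebra.ι R)).prod

theorem P_nil : P R r [] = 1 := by simp [P]

theorem P_cons (a : Fin r → R) (l : List (Fin r → R)) :
    P R r (a :: l) = ExteriorAlgebra.ι R a * P R r l := by simp [P]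

theorem P_append (l1 l2 : List (Fin r → R)) : P R r (l1 ++ l2) = P R r l1 * P R r l2 := by
  simp [P]

theorem ιMulti_eq_P {n : ℕ} (v : Fin n → (Fin r → R)) :
    ExteriorAlgebra.ιMulti R n v = P R r (List.ofFn v) := by
  rw [ExteriorAlgebra.ιMulti_apply, P, List.map_ofFn]
  rfl

theorem ιMulti_eq_zero (n : ℕ) (hn : r < n) :
    (ExteriorAlgebra.ιMulti R n :
      (Fin r → R) [⋀^Fin n]→ₗ[R] ExteriorAlgebra R (Fin r → R)) = 0 := by
  apply Module.Basis.ext_alternating (Pi.basisFun R (Fin r))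
  intro v hv
  exfalso
  have := Fintype.card_le_of_injective v hv
  simp at this
  omega

theorem P_eq_zero (l : List (Fin r → R)) (hl : r < l.length) : P R r l = 0 := by
  have h1 : P R r l = ExteriorAlgebra.ιMulti R l.length l.get := by
    rw [ιMulti_eq_P, List.ofFn_get]
  rw [h1, ιMulti_eq_zero R r _ hl]
  rfl

theorem leibniz (j : Fin r) (l : List (Fin r → R)) (b : SSLam R r) :
    ssContr R r j (P R r l * b) = ssContr R r j (P R r l) * b +
      ((-1 : R) ^ l.length) • (P R r l * ssContr R r j b) := by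
  induction l generalizing b with
  | nil =>
    rw [P_nil, one_mul, one_mul, List.length_nil, pow_zero, one_smul]
    have : ssContr R r j (1 : SSLam R r) = 0 := CliffordAlgebra.contractLeft_one _ _
    rw [this, zero_mul, zero_add]
  | cons a l ih =>
    rw [P_cons, mul_assoc]
    have h1 : ∀ x : SSLam R r, ssContr R r j (ExteriorAlgebra.ι R a * x) =
        (a j) • x - ExteriorAlgebra.ι R a * ssContr R r j x := by
      intro x
      exact CliffordAlgebra.contractLeft_ι_mul _ a x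
    rw [h1, h1, ih, List.length_cons, pow_succ]
    simp only [mul_add, sub_mul, smul_mul_assoc, mul_smul_comm, mul_assoc]
    module

theorem key (j : Fin r) (l1 l2 : List (Fin r → R)) (k : ℕ) (h1 : l1.length = k + 1)
    (h2 : r < (l1 ++ l2).length) :
    ssContr R r j (P R r l1) * P R r l2 =
      ((-1 : R) ^ k) • (P R r l1 * ssContr R r j (P R r l2)) := by
  have h0 : P R r l1 * P R r l2 = 0 := by
    rw [← P_append]
    exact P_eq_zero R r _ h2
  have h := leibniz R r j l1 (P R r l2)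
  rw [h0, map_zero, h1, pow_succ] at h
  have h' := eq_neg_of_add_eq_zero_left h.symm
  rw [h']
  module

variable (N : Type v) [AddCommGroup N] [Module R N]

theorem pairAux_tmul (β : N →ₗ[R] N →ₗ[R] R) (b1 b2 : SSB R r) (n m : N) :
    ssPairAux R r N β ((b1 ⊗ₜ[R] n) ⊗ₜ[R] (b2 ⊗ₜ[R] m)) = β n m • (b1 * b2) := by
  simp [ssPairAux]

theorem pair_tmul (β : N →ₗ[R] N →ₗ[R] R) (k : ℕ) (b1 b2 : SSB R r) (n m : N) :
    ssPair R r N β k (b1 ⊗ₜ[R] n) (b2 ⊗ₜ[R] m) =
      ((-1 : R) ^ (k.choose 2)) • (β n m • (b1 * b2)) := by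
  simp only [ssPair, LinearMap.smul_apply, TensorProduct.curry_apply, pairAux_tmul]

theorem delta_tmul (φ : Fin r → (N →ₗ[R] N)) (ω : SSLam R r) (s : MvPolynomial (Fin r) R)
    (n : N) :
    ssDelta R r N φ ((ω ⊗ₜ[R] s) ⊗ₜ[R] n) =
      ∑ j : Fin r, (((ssContr R r j ω) ⊗ₜ[R] (MvPolynomial.X j * s)) ⊗ₜ[R] n +
        (-1 : R) • (((ssContr R r j ω) ⊗ₜ[R] s) ⊗ₜ[R] (φ j n))) := by
  simp only [ssDelta, ssDKoszul, ssDAct, LinearMap.sum_apply, LinearMap.add_apply,
    LinearMap.smul_apply, TensorProduct.map_tmul, LinearMap.mulLeft_apply, LinearMap.id_apply]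

end

theorem main (R : Type u) [CommRing R] (r : ℕ) (N : Type v) [AddCommGroup N] [Module R N]
    (φ : Fin r → (N →ₗ[R] N)) (β : N →ₗ[R] N →ₗ[R] R)
    (hβ : ∀ (j : Fin r) (n m : N), β (φ j n) m = β n (φ j m))
    (k : ℕ) (hk : k < r)
    (e : Fin (k + 1) → (Fin r → R)) (f : Fin (r - k) → (Fin r → R))
    (s t : MvPolynomial (Fin r) R) (n m : N) :
    W4c6secantcecovers.ssPair R r N β k
        (W4c6secantcecovers.ssDelta R r N φ
          ((ExteriorAlgebra.ιMulti R (k + 1) e ⊗ₜ[R] s) ⊗ₜ[R] n))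
        ((ExteriorAlgebra.ιMulti R (r - k) f ⊗ₜ[R] t) ⊗ₜ[R] m) =
      W4c6secantcecovers.ssPair R r N β (k + 1)
        ((ExteriorAlgebra.ιMulti R (k + 1) e ⊗ₜ[R] s) ⊗ₜ[R] n)
        (W4c6secantcecovers.ssDelta R r N φ
          ((ExteriorAlgebra.ιMulti R (r - k) f ⊗ₜ[R] t) ⊗ₜ[R] m)) := by
  rw [ιMulti_eq_P, ιMulti_eq_P]
  have hkey : ∀ j, ssContr R r j (P R r (List.ofFn e)) * P R r (List.ofFn f) =
      ((-1:R)^k) • (P R r (List.ofFn e) * ssContr R r j (P R r (List.ofFn f))) := fun j =>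
    key R r j _ _ k (by rw [List.length_ofFn])
      (by rw [List.length_append, List.length_ofFn, List.length_ofFn]; omega)
  have hch : (k + 1).choose 2 = k + k.choose 2 := by
    rw [Nat.choose_succ_succ, Nat.choose_one_right]
  rw [delta_tmul, delta_tmul]
  simp only [map_sum, LinearMap.sum_apply]
  refine Finset.sum_congr rfl fun j _ => ?_
  simp only [map_add, map_smul, LinearMap.add_apply, LinearMap.smul_apply, pair_tmul,
    Algebra.TensorProduct.tmul_mul_tmul]
  rw [hkey j, hβ j n m, hch, pow_add,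
    show MvPolynomial.X j * s * t = s * (MvPolynomial.X j * t) by ring]
  simp only [← TensorProduct.smul_tmul']
  module

end Groth.Agent.Lib.SchSt
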