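import Mathlib
import Groth.Prelude
import Groth.Agent.Lib.PicSq1_helper7
import Groth.Agent.Lib.SupportCoh_helper9
import Groth.Agent.Lib.Tens8_helper8

/-!
# The scheme-theoretic support of a quasi-coherent module of finite type (helper7)

APPEND-ONLY once landed.
-/

set_option autoImplicit false
set_option linter.style.haveILetI false

universe u

open CategoryTheory CategoryTheory.Limits AlgebraicGeometry Opposite TopologicalSpace
open QcqsLoc QCohExtn FLFH8 Groth.Agent.Lib.QCohLoc_helper4

namespace Groth.Agent.Lib.SchSuppH7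

open Groth.Agent.Lib.PicSqH7

variable {X : Scheme.{u}} (F : X.Modules) [F.IsQuasicoherent]
  [SheafOfModules.IsFiniteType (R := X.ringCatSheaf) F]

/-- If `a` kills a finite set of sections after restriction to `D(f)`, a power of `f` times `a`
kills them. -/
theorem exists_pow_kill {U : X.Opens} (hU : IsAffineOpen U) (f a : Γ(X, U))
    (T : Finset Γ(F, U))
    (h : ∀ m ∈ T, rF F (X.basicOpen_le f) (a • m) = 0) :
    ∃ N : ℕ, ∀ m ∈ T, (f ^ N * a) • m = 0 := by
  classical
  have hL := locOn_of_isQuasicoherent F hU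
  induction T using Finset.induction_on with
  | empty => exact ⟨0, fun m hm => absurd hm (Finset.notMem_empty m)⟩
  | insert x T hx ih =>
    obtain ⟨N, hN⟩ := ih (fun m hm => h m (Finset.mem_insert_of_mem hm))
    obtain ⟨n, hn⟩ := hL.ker f (a • x) (h x (Finset.mem_insert_self x T))
    refine ⟨n + N, fun m hm => ?_⟩
    rcases Finset.mem_insert.mp hm with rfl | hm
    · rw [pow_add, mul_comm (f ^ n) (f ^ N), mul_assoc, mul_smul, mul_smul, hn, smul_zero]
    · rw [pow_add, mul_assoc, mul_smul, hN m hm, smul_zero]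

theorem map_annihilator (U : X.affineOpens) (f : Γ(X, U)) :
    (Module.annihilator Γ(X, U) Γ(F, U)).map
        (X.presheaf.map (homOfLE (X.basicOpen_le f)).op).hom =
      Module.annihilator Γ(X, X.basicOpen f) Γ(F, X.basicOpen f) := by
  have hU : IsAffineOpen U.1 := U.2
  have hL := locOn_of_isQuasicoherent F hU
  have hu : IsUnit (rX (X.basicOpen_le f) f) := X.toRingedSpace.isUnit_res_basicOpen f
  apply le_antisymm
  · rw [Ideal.map_le_iff_le_comap]
    intro a ha
    rw [Ideal.mem_comap, Module.mem_annihilator]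
    intro m'
    obtain ⟨n, t, ht⟩ := hL.ex f m'
    have ht' : rF F (X.basicOpen_le f) t = rX (X.basicOpen_le f) f ^ n • m' := ht
    have h1 : rX (X.basicOpen_le f) f ^ n • (rX (X.basicOpen_le f) a • m') = 0 := by
      rw [smul_comm, ← ht', ← rF_smul, Module.mem_annihilator.mp ha t, map_zero]
    exact ((hu.pow n).smul_eq_zero).mp h1
  · intro b hb
    haveI : (Coh.structureModule X).IsQuasicoherent := TensH8.isQuasicoherent_structureModule
    have hO := locOn_of_isQuasicoherent (Coh.structureModule X) hU
    obtain ⟨n₀, t, ht⟩ := hO.ex f (toM b)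
    have ht' : rX (X.basicOpen_le f) (ofM t) = rX (X.basicOpen_le f) f ^ n₀ * b := ht
    haveI : Module.Finite Γ(X, U.1) Γ(F, U.1) := QCohFT.finite_of_isFiniteType F hU
    obtain ⟨S, hS⟩ := (Module.Finite.fg_top : (⊤ : Submodule Γ(X, U.1) Γ(F, U.1)).FG)
    have hkill : ∀ m ∈ S, rF F (X.basicOpen_le f) (ofM t • m) = 0 := by
      intro m _
      rw [rF_smul, ht', mul_smul, Module.mem_annihilator.mp hb, smul_zero]
    obtain ⟨N, hN⟩ := exists_pow_kill F hU f (ofM t) S hkill
    have hann : f ^ N * ofM t ∈ Module.annihilator Γ(X, U.1) Γ(F, U.1) := by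
      rw [Module.mem_annihilator]
      intro m
      have hm : m ∈ Submodule.span Γ(X, U.1) (S : Set Γ(F, U.1)) := by rw [hS]; trivial
      refine Submodule.span_induction (p := fun m _ => (f ^ N * ofM t) • m = 0) ?_ ?_ ?_ ?_ hm
      · intro m hm
        exact hN m hm
      · exact smul_zero _
      · intro x y _ _ hx hy
        rw [smul_add, hx, hy, add_zero]
      · intro c x _ hx
        rw [smul_comm, hx, smul_zero]
    have hmem := Ideal.mem_map_of_mem (X.presheaf.map (homOfLE (X.basicOpen_le f)).op).hom hann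
    have e1 : (X.presheaf.map (homOfLE (X.basicOpen_le f)).op).hom (f ^ N * ofM t) =
        rX (X.basicOpen_le f) f ^ (N + n₀) * b := by
      show rX (X.basicOpen_le f) (f ^ N * ofM t) = _
      rw [map_mul, map_pow, ht', pow_add, mul_assoc]
    rw [e1] at hmem
    obtain ⟨v, hv⟩ := hu.pow (N + n₀)
    have e2 : b = (↑v⁻¹ : Γ(X, X.basicOpen f)) * (rX (X.basicOpen_le f) f ^ (N + n₀) * b) := by
      rw [← hv, ← mul_assoc, Units.inv_mul, one_mul]
    rw [e2]
    exact Ideal.mul_mem_left _ _ hmem

/-- The ideal sheaf of annihilators. -/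
noncomputable def suppIdeal : X.IdealSheafData where
  ideal U := Module.annihilator Γ(X, U) Γ(F, U)
  map_ideal_basicOpen U f := map_annihilator F U f

theorem suppIdeal_ideal (U : X.affineOpens) :
    (suppIdeal F).ideal U = Module.annihilator Γ(X, U) Γ(F, U) := rfl

theorem isIso_unit_suppIdeal : IsIso (eta (suppIdeal F) F) := by
  have hB : Opens.IsBasis {U : X.Opens | IsAffineOpen U} := X.isBasis_affineOpens
  refine BasisHomH7.isIso_of_bijective_basis hB _ (fun U hU => ?_)
  have hUa : IsAffineOpen U := hU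
  constructor
  · refine (injective_iff_map_eq_zero (ap (eta (suppIdeal F) F) U)).mpr (fun a ha => ?_)
    have hmem := mem_of_ker (suppIdeal F) F hUa a ha
    refine Submodule.smul_induction_on (p := fun m => m = 0) hmem ?_ ?_
    · intro r hr n _
      exact Module.mem_annihilator.mp hr n
    · intro x y hx hy
      rw [hx, hy, add_zero]
  · exact NilAffH8.unit_app_surjective (suppIdeal F).subschemeι F hUa

omit [SheafOfModules.IsFiniteType (R := X.ringCatSheaf) F] in
theorem le_of_isIso_unit (J' : X.IdealSheafData) (h : IsIso (eta J' F)) (U : X.affineOpens) :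
    J'.ideal U ≤ Module.annihilator Γ(X, U) Γ(F, U) := by
  intro r hr
  rw [Module.mem_annihilator]
  intro m
  have hr0 : (J'.subschemeι.app U.1).hom r = 0 := by
    have h1 : r ∈ RingHom.ker (J'.subschemeι.app U.1).hom := by
      rw [J'.ker_subschemeι_app U]; exact hr
    exact h1
  have h2 : r • ap (eta J' F) U.1 m = 0 := by
    have h1 : r • ap (eta J' F) U.1 m = (show Γ(iM J' F, U.1) from
        ((J'.subschemeι.app U.1).hom r •
          (show Γ((Scheme.Modules.pullback J'.subschemeι).obj F, J'.subschemeι ⁻¹ᵁ U.1) from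
            ap (eta J' F) U.1 m))) := rfl
    rw [h1, hr0, zero_smul]
    rfl
  have h3 : ap (eta J' F) U.1 (r • m) = 0 := (ap_smul (eta J' F) r m).trans h2
  have h4 : ap (inv (eta J' F)) U.1 (ap (eta J' F) U.1 (r • m)) = r • m :=
    congrArg (fun k : F ⟶ F => ap k U.1 (r • m)) (IsIso.hom_inv_id (eta J' F))
  rw [h3, map_zero] at h4
  exact h4.symm

theorem support_suppIdeal : ((suppIdeal F).support : Set X) = CohB1.support F := by
  classical
  ext x
  obtain ⟨U, hU, hxU, -⟩ := Opens.isBasis_iff_nbhd.mp X.isBasis_affineOpens (Opens.mem_top x)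
  have hL := locOn_of_isQuasicoherent F hU
  have hiff : x ∈ ((suppIdeal F).support : Set X) ↔
      x ∈ X.zeroLocus (U := U) ((suppIdeal F).ideal ⟨U, hU⟩) :=
    Scheme.IdealSheafData.mem_support_iff_of_mem (I := suppIdeal F) (U := ⟨U, hU⟩) hxU
  rw [hiff, Scheme.mem_zeroLocus_iff]
  constructor
  · intro h hsub
    -- stalk zero: find g in the annihilator with x ∈ D(g)
    haveI : Module.Finite Γ(X, U) Γ(F, U) := QCohFT.finite_of_isFiniteType F hU
    obtain ⟨S, hS⟩ := (Module.Finite.fg_top : (⊤ : Submodule Γ(X, U) Γ(F, U)).FG)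
    have key : ∀ T : Finset Γ(F, U), ∃ g : Γ(X, U), x ∈ X.basicOpen g ∧ ∀ m ∈ T, g • m = 0 := by
      intro T
      induction T using Finset.induction_on with
      | empty =>
        refine ⟨1, ?_, by simp⟩
        rw [Scheme.basicOpen_of_isUnit _ isUnit_one]
        exact hxU
      | insert a T ha ih =>
        obtain ⟨g, hg, hgT⟩ := ih
        obtain ⟨g', hg', hg'a⟩ := hL.exists_smul_eq_zero_of_germ_eq_zero hU hxU a
          (Subsingleton.elim _ _)
        refine ⟨g' * g, ?_, ?_⟩
        · rw [Scheme.basicOpen_mul]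
          exact ⟨hg', hg⟩
        · intro m hm
          rcases Finset.mem_insert.mp hm with rfl | hm
          · rw [mul_comm, mul_smul, hg'a, smul_zero]
          · rw [mul_smul, hgT m hm, smul_zero]
    obtain ⟨g, hxg, hg⟩ := key S
    have hall : g ∈ Module.annihilator Γ(X, U) Γ(F, U) := by
      rw [Module.mem_annihilator]
      intro m
      have hm : m ∈ Submodule.span Γ(X, U) (S : Set Γ(F, U)) := by rw [hS]; trivial
      refine Submodule.span_induction (p := fun m _ => g • m = 0) ?_ ?_ ?_ ?_ hm
      · intro m hm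
        exact hg m hm
      · exact smul_zero g
      · intro a b _ _ ha hb
        rw [smul_add, ha, hb, add_zero]
      · intro c a _ ha
        rw [smul_comm, ha, smul_zero]
    exact h g hall hxg
  · intro hx g hg hxg
    apply hx
    have hall : ∀ m : Γ(F, U), g • m = 0 := fun m => Module.mem_annihilator.mp hg m
    refine subsingleton_of_forall_eq 0 (fun z => ?_)
    obtain ⟨g', t, hyg', ht⟩ := hL.exists_germ_eq_smul hU hxU z
    have hu : IsUnit (X.presheaf.germ U x hxU g) := (Scheme.mem_basicOpen _ _ _ hxU).mp hxg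
    have hu' : IsUnit (X.presheaf.germ U x hxU g') := (Scheme.mem_basicOpen _ _ _ hxU).mp hyg'
    have h0 : F.presheaf.germ U x hxU t = 0 := by
      have := germ_smul F U x hxU g t
      rw [hall t, map_zero] at this
      exact (hu.smul_eq_zero).mp this.symm
    rw [h0] at ht
    exact (hu'.smul_eq_zero).mp ht.symm

theorem main9377 (X : Scheme.{u}) (F : X.Modules) (hq : Coh.IsQCoh F) (hft : CohB1.IsFT F) :
    ∃ J : X.IdealSheafData,
      (∀ U : X.affineOpens, J.ideal U = Module.annihilator Γ(X, U.1) Γ(F, U.1)) ∧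
        IsIso ((Scheme.Modules.pullbackPushforwardAdjunction J.subschemeι).unit.app F) ∧
          (∀ J' : X.IdealSheafData,
            IsIso ((Scheme.Modules.pullbackPushforwardAdjunction J'.subschemeι).unit.app F) →
              J' ≤ J) ∧
            (J.support : Set ↑X) = CohB1.support F := by
  haveI : F.IsQuasicoherent := hq
  haveI : SheafOfModules.IsFiniteType (R := X.ringCatSheaf) F := hft
  refine ⟨suppIdeal F, fun U => rfl, isIso_unit_suppIdeal F, fun J' h => ?_, support_suppIdeal F⟩
  rw [Scheme.IdealSheafData.le_def]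
  intro U
  exact le_of_isIso_unit F J' h U

end Groth.Agent.Lib.SchSuppH7
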