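import Mathlib
import Groth.Agent.Lib.KDim1_helper9

/-!
# Schubert divisors: at most one divisor iff the index is a single run (after an initial segment)
-/

set_option autoImplicit false

namespace Groth.Agent.SchUFD9

open W4bk4grassmannian Function Finset
open Groth.Agent.Straight9 (wt wt_lt_of_lt le_strictMono_val)
open Groth.Agent.KDim9 (codeg_add_sum codeg_lt)

variable {d n : ℕ}

/-- The least possible value of the `t`-th entry given the previous one. -/
def low (τ : Idx d n) (t : Fin d) : ℕ :=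
  if h : t.val = 0 then 0 else (τ.1 ⟨t.val - 1, by have := t.isLt; omega⟩).val + 1

lemma low_le (τ : Idx d n) (t : Fin d) : low τ t ≤ (τ.1 t).val := by
  unfold low
  split_ifs with h
  · exact Nat.zero_le _
  · have hlt : (⟨t.val - 1, by have := t.isLt; omega⟩ : Fin d) < t :=
      Fin.lt_def.2 (by show t.val - 1 < t.val; omega)
    have h1 := τ.2 hlt
    rw [Fin.lt_def] at h1
    omega

lemma dec_strictMono (τ : Idx d n) (t₀ : Fin d) (h : low τ t₀ < (τ.1 t₀).val) :
    StrictMono (Function.update τ.1 t₀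
      ⟨(τ.1 t₀).val - 1, by have := (τ.1 t₀).isLt; omega⟩) := by
  intro a b hab
  rw [Function.update_apply, Function.update_apply]
  by_cases ha : a = t₀
  · have hb : b ≠ t₀ := by
      intro hb
      rw [ha, hb] at hab
      exact lt_irrefl _ hab
    rw [if_pos ha, if_neg hb, Fin.lt_def]
    have h1 := τ.2 hab
    rw [Fin.lt_def, ha] at h1
    show (τ.1 t₀).val - 1 < (τ.1 b).val
    omega
  · by_cases hb : b = t₀
    · rw [if_neg ha, if_pos hb, Fin.lt_def]
      show (τ.1 a).val < (τ.1 t₀).val - 1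
      have hat : a.val < t₀.val := by
        rw [← hb]
        exact Fin.lt_def.1 hab
      have h0 : t₀.val ≠ 0 := by omega
      unfold low at h
      rw [dif_neg h0] at h
      have hle : a ≤ (⟨t₀.val - 1, by have := t₀.isLt; omega⟩ : Fin d) :=
        Fin.le_def.2 (by show a.val ≤ t₀.val - 1; omega)
      have h1 := τ.2.monotone hle
      rw [Fin.le_def] at h1
      omega
    · rw [if_neg ha, if_neg hb]
      exact τ.2 hab

/-- Decreasing the entry at a run start gives a Schubert divisor. -/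
def dec (τ : Idx d n) (t₀ : Fin d) (h : low τ t₀ < (τ.1 t₀).val) : Idx d n :=
  ⟨Function.update τ.1 t₀ ⟨(τ.1 t₀).val - 1, by have := (τ.1 t₀).isLt; omega⟩,
    dec_strictMono τ t₀ h⟩

lemma dec_apply (τ : Idx d n) (t₀ : Fin d) (h : low τ t₀ < (τ.1 t₀).val) (t : Fin d) :
    ((dec τ t₀ h).1 t).val = if t = t₀ then (τ.1 t₀).val - 1 else (τ.1 t).val := by
  show ((Function.update τ.1 t₀ _) t).val = _
  rw [Function.update_apply]
  split_ifs <;> rfl

lemma dec_mem (τ : Idx d n) (t₀ : Fin d) (h : low τ t₀ < (τ.1 t₀).val) :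
    dec τ t₀ h ∈ divisors τ := by
  have hle : dec τ t₀ h ≤ τ := by
    intro t
    rw [Fin.le_def, dec_apply]
    split_ifs with ht
    · rw [ht]
      omega
    · exact le_rfl
  have hne : dec τ t₀ h ≠ τ := by
    intro heq
    have h1 : ((dec τ t₀ h).1 t₀).val = (τ.1 t₀).val := by rw [heq]
    rw [dec_apply, if_pos rfl] at h1
    omega
  refine ⟨lt_of_le_of_ne hle hne, ?_⟩
  have h1 := codeg_add_sum (dec τ t₀ h)
  have h2 := codeg_add_sum τ
  have h3 : wt (dec τ t₀ h).1 + 1 = wt τ.1 := by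
    unfold wt
    rw [← Finset.add_sum_erase Finset.univ _ (Finset.mem_univ t₀),
      ← Finset.add_sum_erase Finset.univ (fun t => (τ.1 t).val) (Finset.mem_univ t₀)]
    have hs : ∑ x ∈ Finset.univ.erase t₀, ((dec τ t₀ h).1 x).val =
        ∑ x ∈ Finset.univ.erase t₀, (τ.1 x).val := by
      apply Finset.sum_congr rfl
      intro x hx
      rw [dec_apply, if_neg (Finset.ne_of_mem_erase hx)]
    rw [hs, dec_apply, if_pos rfl]
    omega
  omega

theorem shape_of_subsingleton (τ : Idx d n) (hsub : (divisors τ).Subsingleton) :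
    ∃ s : ℕ, (∀ t : Fin d, t.val < s → (τ.1 t).val = t.val) ∧
      ∀ t t' : Fin d, s ≤ t.val → t.val + 1 = t'.val → (τ.1 t).val + 1 = (τ.1 t').val := by
  have huniq : ∀ t₀ t₁ : Fin d, low τ t₀ < (τ.1 t₀).val → low τ t₁ < (τ.1 t₁).val →
      t₀ = t₁ := by
    intro t₀ t₁ h₀ h₁
    by_contra hne
    have h1 := hsub (dec_mem τ t₀ h₀) (dec_mem τ t₁ h₁)
    have h2 : ((dec τ t₀ h₀).1 t₀).val = ((dec τ t₁ h₁).1 t₀).val := by rw [h1]
    rw [dec_apply, dec_apply, if_pos rfl, if_neg hne] at h2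
    omega
  have hnotRS : ∀ t : Fin d, ¬ low τ t < (τ.1 t).val → (τ.1 t).val = low τ t :=
    fun t h => le_antisymm (not_lt.1 h) (low_le τ t)
  have hid : ∀ (k : ℕ) (t : Fin d), t.val = k →
      (∀ t' : Fin d, t'.val ≤ t.val → ¬ low τ t' < (τ.1 t').val) → (τ.1 t).val = t.val := by
    intro k
    induction k with
    | zero =>
      intro t ht hall
      rw [hnotRS t (hall t le_rfl)]
      unfold low
      rw [dif_pos ht, ht]
    | succ k ih =>
      intro t ht hall
      rw [hnotRS t (hall t le_rfl)]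
      unfold low
      rw [dif_neg (by omega)]
      have h1 : (τ.1 ⟨t.val - 1, by have := t.isLt; omega⟩).val = t.val - 1 :=
        ih ⟨t.val - 1, by have := t.isLt; omega⟩ (by show t.val - 1 = k; omega)
          (fun t' ht' => hall t' (by
            have h2 : t'.val ≤ t.val - 1 := ht'
            omega))
      rw [h1]
      omega
  by_cases hex : ∃ t : Fin d, low τ t < (τ.1 t).val
  · obtain ⟨t₀, h₀⟩ := hex
    refine ⟨t₀.val, ?_, ?_⟩
    · intro t ht
      apply hid t.val t rfl
      intro t' ht' hRS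
      have h1 := huniq t' t₀ hRS h₀
      rw [h1] at ht'
      omega
    · intro t t' hst htt'
      have hnot : ¬ low τ t' < (τ.1 t').val := by
        intro hRS
        have h1 := huniq t' t₀ hRS h₀
        rw [h1] at htt'
        omega
      rw [hnotRS t' hnot]
      unfold low
      rw [dif_neg (by omega)]
      have h1 : (⟨t'.val - 1, by have := t'.isLt; omega⟩ : Fin d) = t :=
        Fin.ext (by show t'.val - 1 = t.val; omega)
      rw [h1]
  · push Not at hex
    refine ⟨d, ?_, ?_⟩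
    · intro t _
      exact hid t.val t rfl (fun t' _ h => absurd h (not_lt.2 (hex t')))
    · intro t t' hst _
      have h1 := t.isLt
      omega

lemma divisor_form (τ φ : Idx d n) (hφ : φ ∈ divisors τ) :
    ∃ t₀ : Fin d, low τ t₀ < (τ.1 t₀).val ∧
      ∀ t, (φ.1 t).val = if t = t₀ then (τ.1 t₀).val - 1 else (τ.1 t).val := by
  obtain ⟨hlt, hc⟩ := hφ
  have hle : ∀ t, (φ.1 t).val ≤ (τ.1 t).val := fun t => Fin.le_def.1 (hlt.le t)
  have hex : ∃ t₀, (φ.1 t₀).val < (τ.1 t₀).val := by
    by_contra hall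
    push Not at hall
    apply hlt.ne
    apply Subtype.ext
    funext t
    exact Fin.ext (le_antisymm (hle t) (hall t))
  obtain ⟨t₀, ht₀⟩ := hex
  have h1 := codeg_add_sum φ
  have h2 := codeg_add_sum τ
  have hwt : wt φ.1 + 1 = wt τ.1 := by omega
  unfold wt at hwt
  rw [← Finset.add_sum_erase Finset.univ _ (Finset.mem_univ t₀),
    ← Finset.add_sum_erase Finset.univ (fun t => (τ.1 t).val) (Finset.mem_univ t₀)] at hwt
  have hsle : ∑ x ∈ Finset.univ.erase t₀, (φ.1 x).val ≤
      ∑ x ∈ Finset.univ.erase t₀, (τ.1 x).val := Finset.sum_le_sum (fun x _ => hle x)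
  have hseq : ∑ x ∈ Finset.univ.erase t₀, (φ.1 x).val =
      ∑ x ∈ Finset.univ.erase t₀, (τ.1 x).val := by omega
  have ht₀eq : (φ.1 t₀).val + 1 = (τ.1 t₀).val := by omega
  have hothers : ∀ t, t ≠ t₀ → (φ.1 t).val = (τ.1 t).val := by
    intro t ht
    exact (Finset.sum_eq_sum_iff_of_le (fun x _ => hle x)).1 hseq t
      (Finset.mem_erase.2 ⟨ht, Finset.mem_univ _⟩)
  refine ⟨t₀, ?_, fun t => ?_⟩
  · unfold low
    split_ifs with h0
    · omega
    · have hlt' : (⟨t₀.val - 1, by have := t₀.isLt; omega⟩ : Fin d) < t₀ :=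
        Fin.lt_def.2 (by show t₀.val - 1 < t₀.val; omega)
      have h3 := φ.2 hlt'
      rw [Fin.lt_def] at h3
      have h4 := hothers ⟨t₀.val - 1, by have := t₀.isLt; omega⟩ (ne_of_lt hlt')
      omega
  · split_ifs with ht
    · rw [ht]
      omega
    · exact hothers t ht

theorem subsingleton_of_shape (τ : Idx d n) (s : ℕ)
    (h1 : ∀ t : Fin d, t.val < s → (τ.1 t).val = t.val)
    (h2 : ∀ t t' : Fin d, s ≤ t.val → t.val + 1 = t'.val → (τ.1 t).val + 1 = (τ.1 t').val) :
    (divisors τ).Subsingleton := by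
  have hRS : ∀ t : Fin d, low τ t < (τ.1 t).val → t.val = s := by
    intro t hRS
    by_contra hne
    rcases Nat.lt_or_gt_of_ne hne with hlt | hgt
    · unfold low at hRS
      split_ifs at hRS with h0
      · rw [h1 t hlt] at hRS
        omega
      · have h3 : (τ.1 ⟨t.val - 1, by have := t.isLt; omega⟩).val = t.val - 1 :=
          h1 ⟨t.val - 1, by have := t.isLt; omega⟩ (by show t.val - 1 < s; omega)
        rw [h1 t hlt, h3] at hRS
        omega
    · unfold low at hRS
      rw [dif_neg (by omega)] at hRS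
      have h3 := h2 ⟨t.val - 1, by have := t.isLt; omega⟩ t (by show s ≤ t.val - 1; omega)
        (by show t.val - 1 + 1 = t.val; omega)
      omega
  intro φ₁ hφ₁ φ₂ hφ₂
  obtain ⟨t₁, hRS₁, hf₁⟩ := divisor_form τ φ₁ hφ₁
  obtain ⟨t₂, hRS₂, hf₂⟩ := divisor_form τ φ₂ hφ₂
  have ht : t₁ = t₂ := Fin.ext (by rw [hRS t₁ hRS₁, hRS t₂ hRS₂])
  apply Subtype.ext
  funext t
  apply Fin.ext
  rw [hf₁ t, hf₂ t, ht]

theorem subsingleton_iff (τ : Idx d n) : (divisors τ).Subsingleton ↔
    ∃ s : ℕ, (∀ t : Fin d, t.val < s → (τ.1 t).val = t.val) ∧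
      ∀ t t' : Fin d, s ≤ t.val → t.val + 1 = t'.val → (τ.1 t).val + 1 = (τ.1 t').val :=
  ⟨shape_of_subsingleton τ, fun ⟨s, h1, h2⟩ => subsingleton_of_shape τ s h1 h2⟩

end Groth.Agent.SchUFD9
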