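import Groth.Agent.Lib.GrpdRestr3_helper7
import Groth.Agent.Lib.GrpdOfEqv_helper7
import Groth.Agent.Lib.AlgSpOpen_helper7
import Groth.Agent.Lib.AlgSpUniv_helper7
import Groth.Agent.Lib.AlgSpQuotOpen_helper7
import Groth.Agent.Lib.AlgSpCov_helper7
import Groth.Prelude.Def_AlgSpMor5

/-!
# The schematic locus of the target of a finite locally free surjection (helper7)

`main10411`: for `f : X ⟶ Y` a surjective finite locally free morphism of algebraic spaces and
`y ∈ |Y|`, some open subspace of `Y` containing `y` is a scheme iff the fibre of `y` is contained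
in an affine open subscheme of `X`.
-/

set_option backward.isDefEq.respectTransparency false
set_option backward.isDefEq.respectTransparency.types false
set_option linter.style.haveILetI false
set_option linter.unusedSectionVars false
set_option linter.unusedVariables false
set_option autoImplicit false
set_option maxHeartbeats 1600000

universe u

open CategoryTheory CategoryTheory.Limits AlgebraicGeometry Grpd Opposite

namespace Groth.Agent.Lib.SchemLocusH7

open AlgSp Groth.Agent.Lib.GrpdOfEqvH7 Groth.Agent.Lib.GrpdRestr2H7 Groth.Agent.Lib.GrpdRestr3H7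
  Groth.Agent.Lib.AlgSpQuotEffH7 Groth.Agent.Lib.AlgSpPullback_helper7
  Groth.Agent.Lib.AlgSpOpenSub_helper7 Groth.Agent.Lib.AlgSpGlueH7
  Groth.Agent.Lib.AlgSpPoints_helper7 Groth.Agent.Lib.AlgSpGlue4H7
  Groth.Agent.Lib.AlgSpOpen_helper7 Groth.Agent.Lib.AlgSpUniv_helper7
  Groth.Agent.Lib.AlgSpQC_helper7 Groth.Agent.Lib.AlgSpQuotOpenH7
  Groth.Agent.Lib.AlgSpCov_helper7 Groth.Agent.Lib.AlgSpBasic_helper7

variable {S : Scheme.{u}}

/-- A kernel pair represented by schemes is an equivalence relation. -/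
theorem isEqvRel_of_isPullback {R U : Over S} {s t : R ⟶ U} {F : Sp S} (p : (yon S).obj U ⟶ F)
    (sq : IsPullback ((yon S).map t) ((yon S).map s) p p) : IsEqvRel s t := by
  have key : ∀ (T : Over S) (a b : T ⟶ U), (∃ r : T ⟶ R, r ≫ t = a ∧ r ≫ s = b) ↔
      (yon S).map a ≫ p = (yon S).map b ≫ p := by
    intro T a b
    constructor
    · rintro ⟨r, rfl, rfl⟩
      rw [Functor.map_comp, Functor.map_comp, Category.assoc, Category.assoc, sq.w]
    · intro h
      refine ⟨(yon S).preimage (sq.lift _ _ h), ?_, ?_⟩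
      · apply (yon S).map_injective
        rw [Functor.map_comp, Functor.map_preimage, sq.lift_fst]
      · apply (yon S).map_injective
        rw [Functor.map_comp, Functor.map_preimage, sq.lift_snd]
  refine ⟨fun T r r' h1 h2 => ?_, fun T => ⟨fun a => ?_, fun {a b} h => ?_, fun {a b c} h1 h2 => ?_⟩⟩
  · apply (yon S).map_injective
    apply sq.hom_ext
    · rw [← Functor.map_comp, ← Functor.map_comp, h1]
    · rw [← Functor.map_comp, ← Functor.map_comp, h2]
  · exact (key T a a).2 rfl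
  · exact (key T b a).2 ((key T a b).1 h).symm
  · exact (key T a c).2 (((key T a b).1 h1).trans ((key T b c).1 h2))

/-- A representable fppf covering is an epimorphism of fppf sheaves. -/
theorem epi_of_representable_fppf {F G : Sp S} (p : F ⟶ G) (hp : Representable p)
    (h : ∀ (T : Over S) (g : (yon S).obj T ⟶ G), Surjective (hp.snd g).left ∧
      Flat (hp.snd g).left ∧ LocallyOfFinitePresentation (hp.snd g).left) : Epi p := by
  refine (Sheaf.isLocallySurjective_iff_epi p).1 ⟨fun {T} s => ?_⟩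
  obtain ⟨g, rfl⟩ : ∃ g : (yon S).obj T ⟶ G, yE g = s := ⟨yE.symm s, Equiv.apply_symm_apply _ _⟩
  obtain ⟨h1, h2, h3⟩ := h T g
  have hmem : Sieve.ofArrows (fun _ : PUnit.{u + 1} => hp.pullback g) (fun _ => hp.snd g) ∈
      J S T :=
    ofArrows_mem_J _ _ (fun _ => h2) (fun _ => h3) (fun τ => ⟨PUnit.unit, h1.surj τ⟩)
  refine (J S).superset_covering ?_ hmem
  rintro V f' ⟨W, g', _, ⟨k⟩, rfl⟩
  refine ⟨yE ((yon S).map g' ≫ hp.fst g), ?_⟩
  have e1 : (yon S).map g' ≫ hp.fst g ≫ p = (yon S).map (g' ≫ hp.snd g) ≫ g := by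
    rw [hp.w, ← Category.assoc, ← Functor.map_comp]
  have e2 := congrArg yE e1
  rw [← Category.assoc, yE_comp] at e2
  rw [yE_map]
  exact e2

/-- Finite sets of points of an open subscheme of an affine scheme lie in affine opens. -/
theorem exists_affine_of_finite {Y A : Scheme.{u}} [IsAffine A] (i : Y ⟶ A) [IsOpenImmersion i]
    (T : Set Y) (hT : T.Finite) : ∃ W : Y.Opens, IsAffineOpen W ∧ T ⊆ W := by
  obtain ⟨f, hf1, hf2⟩ := Groth.Agent.Lib.GrpdInvOpenH6.exists_basicOpen_le_of_finite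
    (isAffineOpen_top A) i.opensRange (⇑i '' T) (hT.image _)
    (by rintro _ ⟨y, -, rfl⟩; exact ⟨y, rfl⟩) (fun _ _ => trivial)
  exact ⟨i ⁻¹ᵁ (A.basicOpen f),
    ((isAffineOpen_top A).basicOpen f).preimage_of_isOpenImmersion i hf1,
    fun x hx => hf2 ⟨x, hx, rfl⟩⟩

/-- A finite locally free surjective representable map from an open subscheme of an affine
scheme to a sheaf has representable target. -/
theorem isRepresentable_of_finLocFree_cover {Y₁ : Sp S} {U₁ A : Over S} [IsAffine A.left]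
    (ι₁ : U₁ ⟶ A) [IsOpenImmersion ι₁.left] (f₁ : (yon S).obj U₁ ⟶ Y₁)
    (h1 : RepWith @IsFinite f₁) (h2 : RepWith @Flat f₁)
    (h3 : RepWith @LocallyOfFinitePresentation f₁) (h4 : RepWith @Surjective f₁) :
    Y₁.obj.IsRepresentable := by
  -- the kernel pair
  obtain ⟨R₁, s₁, t₁, sqR⟩ : ∃ (R₁ : Over S) (s₁ t₁ : R₁ ⟶ U₁),
      IsPullback ((yon S).map t₁) ((yon S).map s₁) f₁ f₁ :=
    ⟨h1.rep.pullback f₁, h1.rep.snd f₁, h1.rep.fst' f₁, h1.rep.isPullback' f₁⟩
  have heq : IsEqvRel s₁ t₁ := isEqvRel_of_isPullback f₁ sqR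
  have hs : Mor2.IsFinLocFree s₁.left :=
    ⟨h1.property f₁ _ _ sqR, h2.property f₁ _ _ sqR, h3.property f₁ _ _ sqR⟩
  have ht : Mor2.IsFinLocFree t₁.left :=
    ⟨h1.property f₁ _ _ sqR.flip, h2.property f₁ _ _ sqR.flip, h3.property f₁ _ _ sqR.flip⟩
  obtain ⟨Gd, hGd⟩ : ∃ Gd : GroupoidScheme S,
      Gd = ofEqvRel U₁.hom R₁.hom s₁.left t₁.left (Over.w s₁) (Over.w t₁) heq := ⟨_, rfl⟩
  have hs' : Mor2.IsFinLocFree Gd.s := by rw [hGd]; exact hs
  have ht' : Mor2.IsFinLocFree Gd.t := by rw [hGd]; exact ht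
  have heq' : IsEqvRel (sO Gd) (tO Gd) := by rw [hGd]; exact heq
  have h3' : ∀ Z : Set ↥Gd.U, IsClosed Z → Z.Nonempty →
      ∃ u ∈ Z, ∃ W : Gd.U.Opens, IsAffineOpen W ∧ ∀ r : ↥Gd.R, Gd.s r = u → Gd.t r ∈ W := by
    subst hGd
    rintro Z - ⟨u, hu⟩
    refine ⟨u, hu, ?_⟩
    haveI : IsFinite s₁.left := hs.1
    have hfin : (⇑t₁.left '' (⇑s₁.left ⁻¹' {u})).Finite :=
      (s₁.left.finite_preimage_singleton u).image _
    obtain ⟨W, hW, hTW⟩ := exists_affine_of_finite ι₁.left _ hfin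
    exact ⟨W, hW, fun r hr => hTW ⟨r, hr, rfl⟩⟩
  obtain ⟨M, m, -, -, hq⟩ := main10235 Gd hs' ht' heq' h3'
  subst hGd
  have hq' : QuotSh.IsQuotient Scheme.fppfPrecoverage s₁ t₁ m := hq
  obtain ⟨ε, hε⟩ := exists_iso_of_isQuotient s₁ t₁ m hq'
  -- the comparison with `Y₁`
  obtain ⟨d, hd⟩ := quotP_desc s₁ t₁ f₁ sqR.w.symm
  haveI : Mono d := by
    refine mono_of_local d (quotP s₁ t₁) (isLocallySurjective_quotP s₁ t₁) ?_
    intro Y u₁ u₂ h12
    rw [hd] at h12
    obtain ⟨r, hr1, hr2⟩ : ∃ r : Y ⟶ R₁, r ≫ t₁ = u₁ ∧ r ≫ s₁ = u₂ := by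
      refine ⟨(yon S).preimage (sqR.lift _ _ h12), ?_, ?_⟩
      · apply (yon S).map_injective
        rw [Functor.map_comp, Functor.map_preimage, sqR.lift_fst]
      · apply (yon S).map_injective
        rw [Functor.map_comp, Functor.map_preimage, sqR.lift_snd]
    rw [← hr1, ← hr2, Functor.map_comp, Functor.map_comp, Category.assoc, Category.assoc,
      quotP_condition]
  haveI : Epi f₁ := by
    refine epi_of_representable_fppf f₁ h1.rep (fun T g => ?_)
    exact ⟨h4.property g _ _ (h1.rep.isPullback g), h2.property g _ _ (h1.rep.isPullback g),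
      h3.property g _ _ (h1.rep.isPullback g)⟩
  haveI : Epi (quotP s₁ t₁ ≫ d) := by rw [hd]; infer_instance
  haveI : Epi d := epi_of_epi (quotP s₁ t₁) d
  haveI : IsIso d := isIso_of_mono_of_epi d
  exact (representableByOfIso (ε ≪≫ asIso d)).isRepresentable

/-- The forward direction. -/
theorem fwd {X Y : Space S} (f : X ⟶ Y) (hf : IsFinLocFreeMor f.hom) (y : Points Y.obj)
    (Y' : Space S) (j : Y' ⟶ Y) (hj : RepWith @IsOpenImmersion j.hom)
    (hrep : Y'.obj.obj.IsRepresentable) (hy : y ∈ Set.range (Points.map j.hom)) :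
    ∃ (U : Over S) (a : (yon S).obj U ⟶ X.obj), IsAffine U.left ∧ RepWith @IsOpenImmersion a ∧
      Points.map f.hom ⁻¹' {y} ⊆ Set.range (Points.ofPt a) := by
  obtain ⟨V₀, ⟨r⟩⟩ := hrep.has_representation
  obtain ⟨e, -⟩ : ∃ e : (yon S).obj V₀ ≅ Y'.obj, e = isoOfRepresentableBy r := ⟨_, rfl⟩
  obtain ⟨y', rfl⟩ := hy
  obtain ⟨v₀, hv₀⟩ := ofScheme_surjective V₀ (Points.map e.inv y')
  obtain ⟨V, hV, hvV⟩ : ∃ V : V₀.left.Opens, IsAffineOpen V ∧ v₀ ∈ V := by
    obtain ⟨_, ⟨V, hV, rfl⟩, hvV, -⟩ := V₀.left.isBasis_affineOpens.exists_subset_of_mem_open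
      (Set.mem_univ v₀) isOpen_univ
    exact ⟨V, hV, hvV⟩
  obtain ⟨g, hg⟩ : ∃ g : (yon S).obj (Over.mk (V.ι ≫ V₀.hom)) ⟶ Y.obj,
      g = (yon S).map (Over.homMk V.ι rfl : Over.mk (V.ι ≫ V₀.hom) ⟶ V₀) ≫ e.hom ≫ j.hom :=
    ⟨_, rfl⟩
  have hgo : RepWith @IsOpenImmersion g := by
    rw [hg]
    exact repWith_comp @IsOpenImmersion
      ((repWith_yon_map_iff @IsOpenImmersion _).2 (inferInstanceAs (IsOpenImmersion V.ι)))
      (repWith_comp @IsOpenImmersion (repWith_of_isIso @IsOpenImmersion e.hom) hj)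
  have hfin : RepWith @IsFinite f.hom := repWith_mono (fun _ _ k hk => hk.1) hf
  have sq := hfin.rep.isPullback g
  refine ⟨hfin.rep.pullback g, hfin.rep.fst g, ?_, repWith_fst_of_isPullback _ sq hgo, ?_⟩
  · haveI : IsFinite (hfin.rep.snd g).left := hfin.property_snd g
    haveI : IsAffine (Over.mk (V.ι ≫ V₀.hom)).left := hV
    exact isAffine_of_isAffineHom (hfin.rep.snd g).left
  · intro x hx
    have hx0 : Points.map f.hom x = Points.map j.hom y' := hx
    have hx' : Points.map f.hom x =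
        Points.map g (Points.ofScheme (Over.mk (V.ι ≫ V₀.hom)) ⟨v₀, hvV⟩) := by
      rw [hx0, ← Points.ofPt_eq_map_ofScheme, hg, ofPt_comp, Points.ofPt_eq_map_ofScheme]
      have e1 : (Over.homMk V.ι rfl : Over.mk (V.ι ≫ V₀.hom) ⟶ V₀).left ⟨v₀, hvV⟩ = v₀ := rfl
      rw [e1, hv₀, Points.map_comp, ← Points.map_comp e.inv e.hom, Iso.inv_hom_id, Points.map_id]
    obtain ⟨z, hz1, -⟩ := exists_of_isPullback sq x _ hx'
    rw [← range_map_yon]
    exact ⟨z, hz1⟩

/-- The backward direction. -/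
theorem bwd {X Y : Space S} (f : X ⟶ Y) (hf : IsFinLocFreeMor f.hom)
    (hs : RepWith @Surjective f.hom) (y : Points Y.obj) (U : Over S)
    (a : (yon S).obj U ⟶ X.obj) (hU : IsAffine U.left) (ha : RepWith @IsOpenImmersion a)
    (hfib : Points.map f.hom ⁻¹' {y} ⊆ Set.range (Points.ofPt a)) :
    ∃ (Y' : Space S) (j : Y' ⟶ Y), RepWith @IsOpenImmersion j.hom ∧
      Y'.obj.obj.IsRepresentable ∧ y ∈ Set.range (Points.map j.hom) := by
  have hfin : RepWith @IsFinite f.hom := repWith_mono (fun _ _ k hk => hk.1) hf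
  have hfl : RepWith @Flat f.hom := repWith_mono (fun _ _ k hk => hk.2.1) hf
  have hfp : RepWith @LocallyOfFinitePresentation f.hom := repWith_mono (fun _ _ k hk => hk.2.2) hf
  have hopen : IsOpen (Set.range (Points.ofPt a)) := by
    rw [← range_map_yon]
    exact isOpen_range_map_of_openImmersion a ha
  have hclosedmap : IsClosedMap (Points.map f.hom) :=
    isClosedMap_map_of_repWith f.hom (repWith_mono (fun _ _ k hk => by
      haveI : IsFinite k := hk
      exact (inferInstance : UniversallyClosed k)) hfin)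
  obtain ⟨W', hW'⟩ : ∃ W' : Set (Points Y.obj),
      W' = (Points.map f.hom '' (Set.range (Points.ofPt a))ᶜ)ᶜ := ⟨_, rfl⟩
  have hW'o : IsOpen W' := by
    rw [hW']
    exact (hclosedmap _ hopen.isClosed_compl).isOpen_compl
  have hyW' : y ∈ W' := by
    rw [hW']
    rintro ⟨z, hz, hzy⟩
    exact hz (hfib hzy)
  obtain ⟨Y₁, j₁, hj₁, hrange⟩ := exists_openSubspace Y W' hW'o
  refine ⟨Y₁, j₁, hj₁, ?_, by rw [hrange]; exact hyW'⟩
  -- the base change of `f` to `Y₁`
  obtain ⟨P, p₁, p₂, hP⟩ : ∃ (P : Sp S) (p₁ : P ⟶ X.obj) (p₂ : P ⟶ Y₁.obj),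
      IsPullback p₁ p₂ f.hom j₁.hom := ⟨_, _, _, IsPullback.of_hasPullback f.hom j₁.hom⟩
  have hp₁ : RepWith @IsOpenImmersion p₁ := repWith_fst_of_isPullback _ hP hj₁
  have hsub : Set.range (Points.map p₁) ⊆ Set.range (Points.map a) := by
    rintro _ ⟨z, rfl⟩
    rw [range_map_yon]
    by_contra hcon
    have h1 : Points.map f.hom (Points.map p₁ z) ∈ W' := by
      rw [← Points.map_comp, hP.w, Points.map_comp, ← hrange]
      exact ⟨_, rfl⟩
    rw [hW'] at h1
    exact h1 ⟨_, hcon, rfl⟩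
  obtain ⟨g, hg⟩ := (factors_iff_of_openImmersion a ha p₁).2 hsub
  haveI : Mono a := mono_of_openImmersion a ha
  have hgo : RepWith @IsOpenImmersion g :=
    repWith_of_comp_mono @IsOpenImmersion g a (by rw [hg]; exact hp₁)
  have sq1 := hgo.rep.isPullback (𝟙 ((yon S).obj U))
  haveI : IsIso (hgo.rep.fst (𝟙 ((yon S).obj U))) := sq1.isIso_fst_of_isIso
  obtain ⟨U₁, ι₁, e₁, hι₁⟩ : ∃ (U₁ : Over S) (ι₁ : U₁ ⟶ U) (e₁ : (yon S).obj U₁ ≅ P),
      IsOpenImmersion ι₁.left :=
    ⟨hgo.rep.pullback (𝟙 _), hgo.rep.snd (𝟙 _), asIso (hgo.rep.fst (𝟙 _)),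
      hgo.property_snd (𝟙 _)⟩
  haveI := hι₁
  haveI := hU
  have hP' : IsPullback (e₁.hom ≫ p₁) (e₁.hom ≫ p₂) f.hom j₁.hom :=
    IsPullback.of_iso hP e₁.symm (Iso.refl _) (Iso.refl _) (Iso.refl _)
      (by simp) (by simp) (by simp) (by simp)
  refine isRepresentable_of_finLocFree_cover ι₁ (e₁.hom ≫ p₂)
    (repWith_snd_of_isPullback _ hP' hfin) (repWith_snd_of_isPullback _ hP' hfl)
    (repWith_snd_of_isPullback _ hP' hfp) (repWith_snd_of_isPullback _ hP' hs)

/-- **Schematic locus of the target of a finite locally free surjection.** -/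
theorem main10411 {X Y : Space S} (f : X ⟶ Y) (hf : IsFinLocFreeMor f.hom)
    (hs : RepWith @Surjective f.hom) (y : Points Y.obj) :
    (∃ (Y' : Space S) (j : Y' ⟶ Y), RepWith @IsOpenImmersion j.hom ∧
        Y'.obj.obj.IsRepresentable ∧ y ∈ Set.range (Points.map j.hom)) ↔
      ∃ (U : Over S) (a : (yon S).obj U ⟶ X.obj), IsAffine U.left ∧
        RepWith @IsOpenImmersion a ∧
        Points.map f.hom ⁻¹' {y} ⊆ Set.range (Points.ofPt a) := by
  constructor
  · rintro ⟨Y', j, hj, hrep, hy⟩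
    exact fwd f hf y Y' j hj hrep hy
  · rintro ⟨U, a, hU, ha, hfib⟩
    exact bwd f hf hs y U a hU ha hfib

end Groth.Agent.Lib.SchemLocusH7
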