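import Mathlib

set_option autoImplicit false
set_option maxHeartbeats 1000000

/-! Schubert conditions on a subspace in terms of vanishing of Plücker minors (helper1). -/

namespace Groth.Agent.Lib.SchubertH1

open Matrix

universe u

variable {K : Type u} [Field K] {n d : ℕ}

theorem finrank_comap_subtype' {M : Type*} [AddCommGroup M] [Module K M] (H I : Submodule K M) :
    Module.finrank K (Submodule.comap H.subtype I) = Module.finrank K ↥(I ⊓ H) := by
  have h : Submodule.comap H.subtype I = Submodule.comap H.subtype (I ⊓ H) := by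
    ext x
    simp only [Submodule.mem_comap, Submodule.subtype_apply, Submodule.mem_inf]
    exact ⟨fun h => ⟨h, x.2⟩, fun h => h.1⟩
  rw [h]
  exact (Submodule.comapSubtypeEquivOfLe inf_le_right).finrank_eq

theorem vecMul_submatrix (A : Matrix (Fin d) (Fin n) K) (J : Fin d → Fin n) (c : Fin d → K)
    (i' : Fin d) : (c ᵥ* A.submatrix id J) i' = (c ᵥ* A) (J i') := rfl

theorem dir1 (V : ℕ → Submodule K (Fin n → K))
    (hV : ∀ (j : ℕ) (v : Fin n → K), v ∈ V j ↔ ∀ l : Fin n, j ≤ (l : ℕ) → v l = 0)
    (A : Matrix (Fin d) (Fin n) K) (hA : LinearIndependent K (fun i : Fin d => A i))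
    (i : Fin d) (j₀ : ℕ)
    (hL : (i : ℕ) + 1 ≤
      Module.finrank K ↥(Submodule.span K (Set.range fun i : Fin d => A i) ⊓ V j₀))
    (J : Fin d → Fin n) (hJ : StrictMono J) (hi : j₀ ≤ (J i : ℕ)) :
    (A.submatrix id J).det = 0 := by
  classical
  rw [← Matrix.exists_vecMul_eq_zero_iff]
  have hinj : Function.Injective A.vecMulLinear := by
    rw [Matrix.coe_vecMulLinear]
    exact Matrix.vecMul_injective_iff.mpr hA
  have hrange : LinearMap.range A.vecMulLinear =
      Submodule.span K (Set.range fun i : Fin d => A i) := _root_.range_vecMulLinear A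
  have hCdim : (i : ℕ) + 1 ≤
      Module.finrank K ↥(Submodule.comap A.vecMulLinear (V j₀)) := by
    have e := (Submodule.equivMapOfInjective A.vecMulLinear hinj
      (Submodule.comap A.vecMulLinear (V j₀))).finrank_eq
    rw [e, Submodule.map_comap_eq, hrange]
    exact hL
  have hker : LinearMap.ker ((LinearMap.funLeft K K
      (fun t : Fin (i : ℕ) => J ⟨t, lt_trans t.isLt i.isLt⟩)).comp
        (A.vecMulLinear.comp (Submodule.comap A.vecMulLinear (V j₀)).subtype)) ≠ ⊥ := by
    intro hbot
    have hinjΞ := LinearMap.ker_eq_bot.mp hbot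
    have := LinearMap.finrank_le_finrank_of_injective hinjΞ
    rw [Module.finrank_fin_fun] at this
    omega
  obtain ⟨c, hcker, hc0⟩ := Submodule.exists_mem_ne_zero_of_ne_bot hker
  refine ⟨(c : Fin d → K), fun h => hc0 (Subtype.ext h), ?_⟩
  funext i'
  rw [vecMul_submatrix]
  by_cases hlt : (i' : ℕ) < i
  · have h1 := congrFun (LinearMap.mem_ker.mp hcker) ⟨i', hlt⟩
    exact h1
  · have hmem : (c : Fin d → K) ᵥ* A ∈ V j₀ := c.2
    exact (hV j₀ _).mp hmem (J i')
      (le_trans hi (Fin.le_def.mp (hJ.monotone (Fin.le_def.mpr (not_lt.mp hlt)))))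

def colv (A : Matrix (Fin d) (Fin n) K) : Fin n → (Fin d → K) := fun l r => A r l

def Shi (n j₀ : ℕ) : Set (Fin n) := {l | j₀ ≤ (l : ℕ)}

theorem finrank_rows (A : Matrix (Fin d) (Fin n) K)
    (hA : LinearIndependent K (fun i : Fin d => A i)) :
    Module.finrank K ↥(Submodule.span K (Set.range fun i : Fin d => A i)) = d := by
  rw [finrank_span_eq_card hA, Fintype.card_fin]

theorem cols_span_top (A : Matrix (Fin d) (Fin n) K)
    (hA : LinearIndependent K (fun i : Fin d => A i)) :
    Submodule.span K (Set.range (colv A)) = ⊤ := by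
  apply Submodule.eq_top_of_finrank_eq
  have h1 : A.rank = d := by
    rw [Matrix.rank_eq_finrank_span_row]; exact finrank_rows A hA
  have h2 : A.rank = Module.finrank K ↥(Submodule.span K (Set.range (colv A))) :=
    Matrix.rank_eq_finrank_span_cols A
  rw [Module.finrank_fin_fun, ← h2, h1]

theorem high_cols_dim (V : ℕ → Submodule K (Fin n → K))
    (hV : ∀ (j : ℕ) (v : Fin n → K), v ∈ V j ↔ ∀ l : Fin n, j ≤ (l : ℕ) → v l = 0)
    (A : Matrix (Fin d) (Fin n) K) (hA : LinearIndependent K (fun i : Fin d => A i)) (j₀ : ℕ) :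
    Module.finrank K ↥(Submodule.span K (colv A '' Shi n j₀)) +
      Module.finrank K ↥(Submodule.span K (Set.range fun i : Fin d => A i) ⊓ V j₀) = d := by
  classical
  have : Fintype ↥(Shi n j₀) := Fintype.ofFinite _
  have hBcol : Submodule.span K
      (Set.range (A.submatrix id (Subtype.val : ↥(Shi n j₀) → Fin n)).col) =
      Submodule.span K (colv A '' Shi n j₀) := by
    congr 1
    ext v
    simp only [Set.mem_range, Set.mem_image, Subtype.exists]
    constructor
    · rintro ⟨l, hl, rfl⟩; exact ⟨l, hl, rfl⟩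
    · rintro ⟨l, hl, rfl⟩; exact ⟨l, hl, rfl⟩
  have hBrow : Submodule.span K
      (Set.range (A.submatrix id (Subtype.val : ↥(Shi n j₀) → Fin n)).row) =
      Submodule.map (LinearMap.funLeft K K (Subtype.val : ↥(Shi n j₀) → Fin n))
        (Submodule.span K (Set.range fun i : Fin d => A i)) := by
    rw [Submodule.map_span]
    congr 1
    ext v
    simp only [Set.mem_range, Set.mem_image]
    constructor
    · rintro ⟨y, rfl⟩; exact ⟨A y, ⟨y, rfl⟩, rfl⟩
    · rintro ⟨_, ⟨y, rfl⟩, rfl⟩; exact ⟨y, rfl⟩
  have h1 : Module.finrank K ↥(Submodule.span K (colv A '' Shi n j₀)) =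
      Module.finrank K ↥(Submodule.map
        (LinearMap.funLeft K K (Subtype.val : ↥(Shi n j₀) → Fin n))
        (Submodule.span K (Set.range fun i : Fin d => A i))) := by
    rw [← hBcol, ← Matrix.rank_eq_finrank_span_cols, Matrix.rank_eq_finrank_span_row, hBrow]
  have hker : LinearMap.ker (LinearMap.funLeft K K (Subtype.val : ↥(Shi n j₀) → Fin n)) =
      V j₀ := by
    ext v
    rw [LinearMap.mem_ker, hV]
    constructor
    · intro h l hl
      exact congrFun h ⟨l, hl⟩
    · intro h
      funext l
      exact h l.1 l.2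
  have h2 := LinearMap.finrank_range_add_finrank_ker
    ((LinearMap.funLeft K K (Subtype.val : ↥(Shi n j₀) → Fin n)).domRestrict
      (Submodule.span K (Set.range fun i : Fin d => A i)))
  rw [LinearMap.range_domRestrict, LinearMap.ker_domRestrict, finrank_comap_subtype', hker,
    finrank_rows A hA, inf_comm] at h2
  rw [h1]
  exact h2

theorem dir2 (V : ℕ → Submodule K (Fin n → K))
    (hV : ∀ (j : ℕ) (v : Fin n → K), v ∈ V j ↔ ∀ l : Fin n, j ≤ (l : ℕ) → v l = 0)
    (A : Matrix (Fin d) (Fin n) K) (hA : LinearIndependent K (fun i : Fin d => A i))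
    (i : Fin d) (j₀ : ℕ)
    (hR : ∀ J : Fin d → Fin n, StrictMono J → j₀ ≤ (J i : ℕ) → (A.submatrix id J).det = 0) :
    (i : ℕ) + 1 ≤
      Module.finrank K ↥(Submodule.span K (Set.range fun i : Fin d => A i) ⊓ V j₀) := by
  classical
  by_contra hlt
  have hdim := high_cols_dim V hV A hA j₀
  have h0 : LinearIndepOn K (colv A) (∅ : Set (Fin n)) := linearIndepOn_empty K (colv A)
  have hT₀sub := h0.extend_subset (Set.empty_subset (Shi n j₀))
  have hT₀li := h0.linearIndepOn_extend (Set.empty_subset (Shi n j₀))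
  have hT₀span := h0.span_image_extend_eq_span_image (Set.empty_subset (Shi n j₀))
  generalize h0.extend (Set.empty_subset (Shi n j₀)) = T₀ at hT₀sub hT₀li hT₀span
  have hT₀T := hT₀li.subset_extend (Set.subset_univ T₀)
  have hTli := hT₀li.linearIndepOn_extend (Set.subset_univ T₀)
  have hTspan := hT₀li.span_image_extend_eq_span_image (Set.subset_univ T₀)
  generalize hT₀li.extend (Set.subset_univ T₀) = T at hT₀T hTli hTspan
  rw [Set.image_univ, cols_span_top A hA] at hTspan
  haveI : Fintype ↥T := Fintype.ofFinite _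
  haveI : Fintype ↥T₀ := Fintype.ofFinite _
  have hrangeT : Set.range (fun x : ↥T => colv A x) = colv A '' T := by
    ext v; simp
  have hrangeT₀ : Set.range (fun x : ↥T₀ => colv A x) = colv A '' T₀ := by
    ext v; simp
  have hcT : Fintype.card ↥T = d := by
    have h := finrank_span_eq_card (show LinearIndependent K (fun x : ↥T => colv A x) from hTli)
    rw [hrangeT, hTspan, finrank_top, Module.finrank_fin_fun] at h
    exact h.symm
  have hcT₀ : Fintype.card ↥T₀ =
      Module.finrank K ↥(Submodule.span K (colv A '' Shi n j₀)) := by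
    have h := finrank_span_eq_card
      (show LinearIndependent K (fun x : ↥T₀ => colv A x) from hT₀li)
    rw [hrangeT₀, hT₀span] at h
    exact h.symm
  have hcardT : T.toFinset.card = d := by rw [Set.toFinset_card, hcT]
  have hJmem : ∀ r, (T.toFinset.orderEmbOfFin hcardT r : Fin n) ∈ T := fun r =>
    Set.mem_toFinset.mp (Finset.orderEmbOfFin_mem _ _ r)
  have hJi : j₀ ≤ ((T.toFinset.orderEmbOfFin hcardT i : Fin n) : ℕ) := by
    by_contra hcon
    have hmaps : Set.MapsTo (T.toFinset.orderEmbOfFin hcardT)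
        (Finset.Iic i : Finset (Fin d)) (T.toFinset \ T₀.toFinset : Finset (Fin n)) := by
      intro r hr
      simp only [Finset.coe_sdiff, Set.coe_toFinset, Set.mem_diff]
      refine ⟨hJmem r, fun h => hcon ?_⟩
      have h1 : j₀ ≤ ((T.toFinset.orderEmbOfFin hcardT r : Fin n) : ℕ) := hT₀sub h
      have h2 : T.toFinset.orderEmbOfFin hcardT r ≤ T.toFinset.orderEmbOfFin hcardT i :=
        (T.toFinset.orderEmbOfFin hcardT).monotone (Finset.mem_Iic.mp (Finset.mem_coe.mp hr))
      exact le_trans h1 (Fin.le_def.mp h2)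
    have hle := Finset.card_le_card_of_injOn _ hmaps
      ((T.toFinset.orderEmbOfFin hcardT).injective.injOn)
    rw [Fin.card_Iic, Finset.card_sdiff_of_subset (Set.toFinset_subset_toFinset.mpr hT₀T),
      Set.toFinset_card, Set.toFinset_card, hcT, hcT₀] at hle
    omega
  have hcols : LinearIndependent K
      (fun r : Fin d => colv A (T.toFinset.orderEmbOfFin hcardT r)) := by
    have hg : Function.Injective
        (fun r : Fin d => (⟨T.toFinset.orderEmbOfFin hcardT r, hJmem r⟩ : ↥T)) :=
      by
        intro r s h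
        have h' := congrArg Subtype.val h
        exact (T.toFinset.orderEmbOfFin hcardT).injective h'
    exact (show LinearIndependent K (fun x : ↥T => colv A x) from hTli).comp _ hg
  have hunit : IsUnit (A.submatrix id (T.toFinset.orderEmbOfFin hcardT)) :=
    Matrix.linearIndependent_cols_iff_isUnit.mp hcols
  have hdet := (Matrix.isUnit_iff_isUnit_det _).mp hunit
  exact hdet.ne_zero
    (hR (T.toFinset.orderEmbOfFin hcardT) (T.toFinset.orderEmbOfFin hcardT).strictMono hJi)

theorem main (K : Type u) [Field K] (n d : ℕ)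
    (hdn : d ≤ n) (V : ℕ → Submodule K (Fin n → K))
    (hV : ∀ (j : ℕ) (v : Fin n → K), v ∈ V j ↔ ∀ l : Fin n, j ≤ (l : ℕ) → v l = 0)
    (lam : Fin d → ℕ) (hlam : Antitone lam) (A : Matrix (Fin d) (Fin n) K)
    (hA : LinearIndependent K (fun i : Fin d => A i)) :
    (∀ i : Fin d, (i : ℕ) + 1 ≤
        Module.finrank K ↥(Submodule.span K (Set.range fun i : Fin d => A i) ⊓
          V (n - d + ((i : ℕ) + 1) - lam i))) ↔
      ∀ J : Fin d → Fin n, StrictMono J →
        (∃ i : Fin d, n - d + ((i : ℕ) + 1) - lam i < (J i : ℕ) + 1) →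
          (A.submatrix id J).det = 0 := by
  constructor
  · rintro hL J hJ ⟨i, hi⟩
    exact dir1 V hV A hA i _ (hL i) J hJ (by omega)
  · intro hR i
    exact dir2 V hV A hA i _ (fun J hJ hi => hR J hJ ⟨i, by omega⟩)

end Groth.Agent.Lib.SchubertH1
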