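import Mathlib
import Groth.Agent.Lib.AffSpEt_helper7

/-!
# Smoothness at a section via étale charts vanishing on the section (helper7, S3713)
-/

namespace Groth.Agent.Lib.AffSpEtH7

open AlgebraicGeometry CategoryTheory Limits MvPolynomial

universe u

section S3713

variable {X Y : Scheme.{u}} (f : X ⟶ Y) [LocallyOfFinitePresentation f]

theorem le_smoothLocus_of_chart (U : Y.Opens) (V : X.Opens) (hVU : V ≤ f ⁻¹ᵁ U) (m : ℕ)
    (v : ULift.{u} (Fin m) → Γ(V, ⊤))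
    (h : Etale (AffineSpace.homOfVector (f.resLE U V hVU) v)) : V ≤ f.smoothLocus := by
  have hsm : Smooth (f.resLE U V hVU) := by
    rw [← AffineSpace.homOfVector_over (f.resLE U V hVU) v]
    infer_instance
  have hsm2 : Smooth (V.ι ≫ f) := by
    rw [← Scheme.Hom.resLE_comp_ι f hVU]
    infer_instance
  have h1 : (V.ι ≫ f).smoothLocus = ⊤ := Scheme.Hom.smoothLocus_eq_top _
  rw [← Scheme.Hom.preimage_smoothLocus_eq V.ι f] at h1
  intro x hx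
  have : (⟨x, hx⟩ : V) ∈ V.ι ⁻¹ᵁ f.smoothLocus := by
    rw [h1]
    trivial
  exact this

theorem exists_chart (i : Y ⟶ X) (hi : i ≫ f = 𝟙 Y) (y : Y) (hy : i y ∈ f.smoothLocus) :
    ∃ (U : Y.Opens) (V : X.Opens) (_ : y ∈ U) (hUV : U ≤ i ⁻¹ᵁ V) (hVU : V ≤ f ⁻¹ᵁ U) (m : ℕ)
      (v : ULift.{u} (Fin m) → Γ(V, ⊤)),
      Etale (AffineSpace.homOfVector (f.resLE U V hVU) v) ∧
        ∀ j, (i.resLE V U hUV).appTop (v j) = 0 := by
  have hfi : ∀ u : Y, f (i u) = u := by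
    intro u
    rw [← Scheme.Hom.comp_apply, hi]
    rfl
  -- Step 1: the smooth locus
  have hOsm : Smooth (f.smoothLocus.ι ≫ f) := by
    rw [← Scheme.Hom.smoothLocus_eq_top_iff,
      ← Scheme.Hom.preimage_smoothLocus_eq f.smoothLocus.ι f]
    exact Scheme.Opens.ι_preimage_self _
  -- Step 2: a standard smooth chart
  obtain ⟨W, hW, V₀, hV₀, hxV₀, e, hstd⟩ :=
    Smooth.exists_isStandardSmooth (f.smoothLocus.ι ≫ f) ⟨i y, hy⟩
  obtain ⟨m, g, hgC, hg⟩ := RingHom.IsStandardSmooth.exists_etale_mvPolynomial hstd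
  -- Step 3: the étale chart on `V' = image of V₀`
  have hV' : IsAffineOpen (f.smoothLocus.ι ''ᵁ V₀) := hV₀.image_of_isOpenImmersion _
  have e' : f.smoothLocus.ι ''ᵁ V₀ ≤ f ⁻¹ᵁ W := by
    rintro _ ⟨z, hz, rfl⟩
    exact e hz
  have haff1 : IsAffine ↑(f.smoothLocus.ι ''ᵁ V₀) := hV'
  have haff2 : IsAffine ↑W := hW
  let θ : Γ(↑f.smoothLocus, V₀) ≅ Γ(↑(f.smoothLocus.ι ''ᵁ V₀), ⊤) :=
    (f.smoothLocus.ι.appIso V₀).symm ≪≫ (f.smoothLocus.ι ''ᵁ V₀).topIso.symm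
  let w' : ULift.{u} (Fin m) → Γ(↑(f.smoothLocus.ι ''ᵁ V₀), ⊤) := fun j => θ.hom (g (MvPolynomial.X j.down))
  let α : MvPolynomial (ULift.{u} (Fin m)) Γ(↑W, ⊤) ≃+* MvPolynomial (Fin m) Γ(Y, W) :=
    (MvPolynomial.mapEquiv (ULift.{u} (Fin m)) W.topIso.commRingCatIsoToRingEquiv).trans
      (MvPolynomial.renameEquiv Γ(Y, W) Equiv.ulift).toRingEquiv
  have happ : (f.smoothLocus.ι ≫ f).appLE W V₀ e =
      f.appLE W (f.smoothLocus.ι ''ᵁ V₀) e' ≫ (f.smoothLocus.ι.appIso V₀).hom := by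
    rw [Scheme.Hom.appIso_hom', Scheme.Hom.appLE_comp_appLE]
  have hmor : W.topIso.hom ≫ (f.smoothLocus.ι ≫ f).appLE W V₀ e ≫ θ.hom =
      (f.resLE W (f.smoothLocus.ι ''ᵁ V₀) e').appTop := by
    rw [Scheme.Hom.appTop, Scheme.Hom.resLE_app_top, happ]
    simp only [θ, Iso.trans_hom, Iso.symm_hom, Category.assoc, Iso.hom_inv_id_assoc]
  have hψ : (eval₂Hom (f.resLE W (f.smoothLocus.ι ''ᵁ V₀) e').appTop.hom w' :
      MvPolynomial (ULift.{u} (Fin m)) Γ(↑W, ⊤) →+* Γ(↑(f.smoothLocus.ι ''ᵁ V₀), ⊤)) =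
      θ.hom.hom.comp (g.comp α.toRingHom) := by
    apply MvPolynomial.ringHom_ext
    · intro a
      have h1 : g (C (W.topIso.hom a)) = ((f.smoothLocus.ι ≫ f).appLE W V₀ e) (W.topIso.hom a) :=
        RingHom.congr_fun hgC (W.topIso.hom a)
      simp only [coe_eval₂Hom, eval₂_C, RingHom.comp_apply]
      have h2 : α.toRingHom (C a) = C (W.topIso.hom a) := by
        simp [α, Iso.commRingCatIsoToRingEquiv]
      rw [h2, h1, ← hmor]
      rfl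
    · intro j
      simp only [coe_eval₂Hom, eval₂_X, RingHom.comp_apply]
      have h2 : α.toRingHom (MvPolynomial.X j) = MvPolynomial.X j.down := by
        simp [α]
      rw [h2]
  have hψet : (eval₂Hom (f.resLE W (f.smoothLocus.ι ''ᵁ V₀) e').appTop.hom w' :
      MvPolynomial (ULift.{u} (Fin m)) Γ(↑W, ⊤) →+* Γ(↑(f.smoothLocus.ι ''ᵁ V₀), ⊤)).Etale := by
    rw [hψ]
    refine RingHom.Etale.stableUnderComposition _ _ ?_ ?_
    · refine RingHom.Etale.stableUnderComposition _ _ ?_ hg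
      exact RingHom.Etale.of_bijective α.bijective
    · exact RingHom.Etale.of_bijective (ConcreteCategory.bijective_of_isIso θ.hom)
  have hπ₀ : Etale (AffineSpace.homOfVector (f.resLE W (f.smoothLocus.ι ''ᵁ V₀) e') w') :=
    etale_homOfVector _ _ hψet
  -- Step 4: shrink
  have hyV' : i y ∈ f.smoothLocus.ι ''ᵁ V₀ := ⟨⟨i y, hy⟩, hxV₀, rfl⟩
  have hyW : y ∈ W := by
    have := e' hyV'
    rwa [Scheme.Hom.mem_preimage, hfi] at this
  have hUV : W ⊓ i ⁻¹ᵁ (f.smoothLocus.ι ''ᵁ V₀) ≤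
      i ⁻¹ᵁ ((f.smoothLocus.ι ''ᵁ V₀) ⊓ f ⁻¹ᵁ (W ⊓ i ⁻¹ᵁ (f.smoothLocus.ι ''ᵁ V₀))) := by
    rintro u ⟨huW, huV'⟩
    refine ⟨huV', ?_⟩
    show f (i u) ∈ W ⊓ i ⁻¹ᵁ (f.smoothLocus.ι ''ᵁ V₀)
    rw [hfi]
    exact ⟨huW, huV'⟩
  have hVU : (f.smoothLocus.ι ''ᵁ V₀) ⊓ f ⁻¹ᵁ (W ⊓ i ⁻¹ᵁ (f.smoothLocus.ι ''ᵁ V₀)) ≤
      f ⁻¹ᵁ (W ⊓ i ⁻¹ᵁ (f.smoothLocus.ι ''ᵁ V₀)) := inf_le_right
  have jV : (f.smoothLocus.ι ''ᵁ V₀) ⊓ f ⁻¹ᵁ (W ⊓ i ⁻¹ᵁ (f.smoothLocus.ι ''ᵁ V₀)) ≤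
      f.smoothLocus.ι ''ᵁ V₀ := inf_le_left
  have jU : W ⊓ i ⁻¹ᵁ (f.smoothLocus.ι ''ᵁ V₀) ≤ W := inf_le_left
  obtain ⟨U, hU⟩ : ∃ U : Y.Opens, U = W ⊓ i ⁻¹ᵁ (f.smoothLocus.ι ''ᵁ V₀) := ⟨_, rfl⟩
  obtain ⟨V, hV⟩ : ∃ V : X.Opens, V = (f.smoothLocus.ι ''ᵁ V₀) ⊓ f ⁻¹ᵁ U := ⟨_, rfl⟩
  subst hU
  rw [← hV] at hUV hVU jV
  let wV : ULift.{u} (Fin m) → Γ(↑V, ⊤) := fun j => (X.homOfLE jV).appTop (w' j)
  have hcomp : AffineSpace.homOfVector (f.resLE _ V hVU) wV ≫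
      AffineSpace.map (ULift.{u} (Fin m)) (Y.homOfLE jU) =
      X.homOfLE jV ≫ AffineSpace.homOfVector (f.resLE W (f.smoothLocus.ι ''ᵁ V₀) e') w' := by
    apply AffineSpace.hom_ext
    · rw [Category.assoc, AffineSpace.map_over, AffineSpace.homOfVector_over_assoc, Category.assoc,
        AffineSpace.homOfVector_over, ← cancel_mono W.ι]
      simp
    · intro k
      rw [Scheme.Hom.comp_appTop, CommRingCat.comp_apply, AffineSpace.map_appTop_coord,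
        AffineSpace.homOfVector_appTop_coord, Scheme.Hom.comp_appTop, CommRingCat.comp_apply,
        AffineSpace.homOfVector_appTop_coord]
  have hopen : IsOpenImmersion (AffineSpace.map (ULift.{u} (Fin m)) (Y.homOfLE jU)) :=
    MorphismProperty.of_isPullback (P := @IsOpenImmersion)
      (AffineSpace.isPullback_map (Y.homOfLE jU)).flip inferInstance
  have hπU : Etale (AffineSpace.homOfVector (f.resLE _ V hVU) wV) := by
    refine MorphismProperty.of_postcomp (W := @Etale) (W' := @Etale) _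
      (AffineSpace.map (ULift.{u} (Fin m)) (Y.homOfLE jU)) inferInstance ?_
    rw [hcomp]
    infer_instance
  -- Step 5: translate
  have hs : i.resLE V _ hUV ≫ f.resLE _ V hVU = 𝟙 _ := by
    rw [← cancel_mono (Scheme.Opens.ι _)]
    simp only [Category.assoc, Scheme.Hom.resLE_comp_ι, Scheme.Hom.resLE_comp_ι_assoc, hi,
      Category.comp_id, Category.id_comp]
  obtain ⟨v, hv1, hv2⟩ := exists_translate (f.resLE _ V hVU) (i.resLE V _ hUV) hs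
    (AffineSpace.homOfVector (f.resLE _ V hVU) wV) (AffineSpace.homOfVector_over _ _)
  exact ⟨W ⊓ i ⁻¹ᵁ (f.smoothLocus.ι ''ᵁ V₀), V, ⟨hyW, hyV'⟩, hUV, hVU, m, v, hv1, hv2⟩

end S3713

end Groth.Agent.Lib.AffSpEtH7
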