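import Mathlib
import Groth.Prelude.Def_EGA43
import Groth.Agent.Lib.SecComp_helper8
import Groth.Agent.Lib.EquidimSub3_helper8
import Groth.Agent.Lib.EquidimIrr2_helper8
import Groth.Agent.Lib.EquiComp_helper8

/-! EGA IV 15.6.x: dimension of section components under generization. -/

universe u
open AlgebraicGeometry CategoryTheory TopologicalSpace IsLocalRing

namespace SecCompH8

variable {X Y : Scheme.{u}} (f : X ⟶ Y)

/-- structure of a maximal irreducible subset of a fibre. -/
theorem exists_generic_of_maximal (y' : Y) (Z : Set X) (hZS : Z ⊆ f.base ⁻¹' {y'})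
    (hZirr : IsIrreducible Z)
    (hZmax : ∀ Z' : Set X, IsIrreducible Z' → Z' ⊆ f.base ⁻¹' {y'} → Z ⊆ Z' → Z' = Z) :
    ∃ ζ : X, f.base ζ = y' ∧ Z = closure {ζ} ∩ f.base ⁻¹' {y'} := by
  obtain ⟨ζ, hζ⟩ := QuasiSober.sober hZirr.closure isClosed_closure
  have hζcl : closure {ζ} = closure Z := hζ.def
  obtain ⟨z, hz⟩ := hZirr.nonempty
  have hζz : ζ ⤳ z := by
    rw [specializes_iff_mem_closure, hζcl]; exact subset_closure hz
  have hfζ : f.base ζ = y' := by
    have h2 : f.base ζ ⤳ y' := by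
      have := hζz.map f.continuous
      rwa [show f.base z = y' from hZS hz] at this
    have h3 : y' ⤳ f.base ζ := by
      have h5 : ζ ∈ closure Z := hζcl ▸ subset_closure rfl
      have h4 : closure Z ⊆ f.base ⁻¹' closure {y'} :=
        closure_minimal (fun a ha => subset_closure (hZS ha))
          (isClosed_closure.preimage f.continuous)
      exact specializes_iff_mem_closure.mpr (h4 h5)
    exact (h2.antisymm h3).eq
  refine ⟨ζ, hfζ, ?_⟩
  have hZ'irr : IsIrreducible (closure {ζ} ∩ f.base ⁻¹' {y'}) := by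
    refine ⟨⟨ζ, subset_closure rfl, hfζ⟩, ?_⟩
    rw [← isPreirreducible_iff_closure]
    have : closure (closure {ζ} ∩ f.base ⁻¹' {y'}) = closure {ζ} := by
      apply subset_antisymm
      · exact closure_minimal Set.inter_subset_left isClosed_closure
      · exact closure_mono (Set.singleton_subset_iff.mpr ⟨subset_closure rfl, hfζ⟩)
    rw [this]
    exact isIrreducible_singleton.closure.isPreirreducible
  have hsub : Z ⊆ closure {ζ} ∩ f.base ⁻¹' {y'} :=
    fun a ha => ⟨hζcl ▸ subset_closure ha, hZS ha⟩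
  exact (hZmax _ hZ'irr Set.inter_subset_right hsub).symm

/-- `dim_x (X_y) ≤ dim` of the connected component of the fibre through `x`. -/
theorem fibreDimAt_le_topDim_component [LocallyOfFiniteType f] (y : Y) (p : X)
    (hp : f.base p = y) :
    FlatMor.fibreDimAt f p ≤
      topologicalKrullDim ↥(connectedComponentIn (f.base ⁻¹' {y}) p) := by
  obtain ⟨ζ, hζf, hζp, hζmax, hζdim⟩ := CompDimsH8.exists_fibre_max_eq f p
  have hζy : f.base ζ = y := hζf.trans hp
  have hζmax' : ∀ x'' : X, f.base x'' = f.base ζ → x'' ⤳ ζ → x'' = ζ :=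
    fun x'' h1 h2 => hζmax x'' (h1.trans hζf) h2
  have hT := isPreconnected_closure_inter f y ζ hζy
  have hpT : p ∈ closure {ζ} ∩ f.base ⁻¹' {y} := ⟨specializes_iff_mem_closure.mp hζp, hp⟩
  have hTC := hT.subset_connectedComponentIn hpT Set.inter_subset_right
  have h1 := SubLocDimH8.topDim_mono hTC
  rw [← hζy, FibClosH8.dim_closure_inter_fiber] at h1
  rw [← hζdim, FibCohH8.fibreDimAt_eq f ζ, OpenAtEqH8.fibCoh_eq_zero_of_isMax f ζ hζmax']
  simp only [WithBot.coe_zero, zero_add]
  rw [hζy] at h1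
  exact h1

theorem main52 [IsLocallyNoetherian Y] [LocallyOfFiniteType f] (g : Y ⟶ X) (hg : g ≫ f = 𝟙 Y)
    (y y' : Y) (hy : y' ⤳ y)
    (hZ : ∃ Z : Set X, Z ⊆ f.base ⁻¹' {y'} ∧ IsIrreducible Z ∧
      (∀ Z' : Set X, IsIrreducible Z' → Z' ⊆ f.base ⁻¹' {y'} → Z ⊆ Z' → Z' = Z) ∧
      g.base y' ∈ Z ∧
      topologicalKrullDim ↥Z =
        topologicalKrullDim ↥(connectedComponentIn (f.base ⁻¹' {y'}) (g.base y'))) :
    topologicalKrullDim ↥(connectedComponentIn (f.base ⁻¹' {y'}) (g.base y')) ≤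
        topologicalKrullDim ↥(connectedComponentIn (f.base ⁻¹' {y}) (g.base y)) ∧
      (IsIrreducible (connectedComponentIn (f.base ⁻¹' {y}) (g.base y)) →
        topologicalKrullDim ↥(connectedComponentIn (f.base ⁻¹' {y}) (g.base y)) =
          topologicalKrullDim ↥(connectedComponentIn (f.base ⁻¹' {y'}) (g.base y')) →
        connectedComponentIn (f.base ⁻¹' {y}) (g.base y) ⊆
          closure (connectedComponentIn (f.base ⁻¹' {y'}) (g.base y'))) := by
  have hfg : ∀ y : Y, f.base (g.base y) = y := fun y => by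
    have := congrArg (fun φ => φ.base y) hg
    exact this
  obtain ⟨Z, hZS, hZirr, hZmax, hgZ, hZdim⟩ := hZ
  obtain ⟨ζ, hfζ, hZeq⟩ := exists_generic_of_maximal f y' Z hZS hZirr hZmax
  have hζgy' : ζ ⤳ g.base y' := by
    rw [hZeq] at hgZ
    exact specializes_iff_mem_closure.mpr hgZ.1
  have hζgy : ζ ⤳ g.base y := hζgy'.trans (hy.map g.continuous)
  obtain ⟨d, hd⟩ := Groth.Agent.ResQuot2H8.exists_trdeg_nat f ζ
  have hd' : Dual3.resTrdeg f ζ = d := hd
  have hZd : topologicalKrullDim ↥Z = ((d : ℕ) : WithBot ℕ∞) := by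
    rw [topDim_congr hZeq, ← hfζ, FibClosH8.dim_closure_inter_fiber, hd', Cardinal.toENat_nat]
    rfl
  have hfζd : ((d : ℕ) : WithBot ℕ∞) ≤ FlatMor.fibreDimAt f ζ := by
    rw [FibCohH8.fibreDimAt_eq f ζ, hd', Cardinal.toENat_nat]
    have : ((d : ℕ) : ℕ∞) ≤ FibCohH8.fibCoh f ζ + ((d : ℕ) : ℕ∞) := le_add_self
    exact_mod_cast this
  have hsemi := FibGenH8.fibreDimAt_le_of_specializes f hζgy
  have hcomp := fibreDimAt_le_topDim_component f y (g.base y) (hfg y)
  refine ⟨?_, ?_⟩
  · rw [← hZdim, hZd]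
    exact hfζd.trans (hsemi.trans hcomp)
  · intro hirr hdimeq
    rw [← hZdim, hZd] at hdimeq
    obtain ⟨c₀, hfc₀, hc₀p, hCeq, hc₀max⟩ := exists_generic f y (g.base y) (hfg y) hirr
    have hdimC := dim_eq_fibreDimAt f y (g.base y) (hfg y) hirr
    rw [hdimeq] at hdimC
    -- the closed subscheme `closure {ζ}`
    obtain ⟨W, w, hW, hw⟩ := EquiCompH8.exists_sub ζ (g.base y) hζgy
    have hrange := EquidimSubH8.range_vanishingIdeal_subschemeι W
    obtain ⟨ζ'', hζ'', hgen⟩ := EquidimIrrH8.exists_generic_subscheme W ζ hW.symm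
    have hmax'' : ∀ b, b ⤳ ζ'' → b = ζ'' := fun b hb => (hb.antisymm (hgen b)).eq
    have hfζ'' : FlatMor.fibreDimAt ((Scheme.IdealSheafData.vanishingIdeal W).subschemeι ≫ f) ζ'' =
        ((d : ℕ) : WithBot ℕ∞) := by
      rw [FibGenH8.fibreDimAt_of_isMax _ ζ'' hmax'', OpenAtCompH8.resTrdeg_closedImmersion_comp,
        hζ'', hd', Cardinal.toENat_nat]
      rfl
    obtain ⟨t, htf, htw, htmax, htdim⟩ := CompDimsH8.exists_fibre_max_eq
      ((Scheme.IdealSheafData.vanishingIdeal W).subschemeι ≫ f) w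
    have htmax' : ∀ x'', ((Scheme.IdealSheafData.vanishingIdeal W).subschemeι ≫ f).base x'' =
        ((Scheme.IdealSheafData.vanishingIdeal W).subschemeι ≫ f).base t → x'' ⤳ t → x'' = t :=
      fun x'' h1 h2 => htmax x'' (h1.trans htf) h2
    have hsemiW := FibGenH8.fibreDimAt_le_of_specializes
      ((Scheme.IdealSheafData.vanishingIdeal W).subschemeι ≫ f) (hgen w)
    rw [hfζ'', ← htdim, FibCohH8.fibreDimAt_eq _ t,
      OpenAtEqH8.fibCoh_eq_zero_of_isMax _ t htmax',
      OpenAtCompH8.resTrdeg_closedImmersion_comp] at hsemiW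
    set t' := (Scheme.IdealSheafData.vanishingIdeal W).subschemeι.base t with ht'
    have ht'y : f.base t' = y := by
      have : ((Scheme.IdealSheafData.vanishingIdeal W).subschemeι ≫ f).base t =
          ((Scheme.IdealSheafData.vanishingIdeal W).subschemeι ≫ f).base w := htf
      have h2 : f.base t' = f.base ((Scheme.IdealSheafData.vanishingIdeal W).subschemeι.base w) :=
        this
      rw [h2, hw, hfg]
    have ht'gy : t' ⤳ g.base y := by
      rw [← hw]
      exact htw.map (Scheme.IdealSheafData.vanishingIdeal W).subschemeι.continuous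
    have ht'W : t' ∈ closure {ζ} := by
      rw [← hW, ← hrange]; exact ⟨t, rfl⟩
    -- `t' ∈ C_y`
    have hT := isPreconnected_closure_inter f y t' ht'y
    have hpT : g.base y ∈ closure {t'} ∩ f.base ⁻¹' {y} :=
      ⟨specializes_iff_mem_closure.mp ht'gy, hfg y⟩
    have hTC := hT.subset_connectedComponentIn hpT Set.inter_subset_right
    have h6 : t' ∈ connectedComponentIn (f.base ⁻¹' {y}) (g.base y) :=
      hTC ⟨subset_closure rfl, ht'y⟩
    rw [hCeq] at h6
    have hc₀t' : c₀ ⤳ t' := specializes_iff_mem_closure.mpr h6.1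
    -- `t' = c₀`
    have heq : c₀ = t' := by
      by_contra hne
      have h1 := EquidimSubH8.one_le_fibCoh f t' c₀ (hfc₀.trans ht'y.symm) hc₀t' hne
      have h2 := FibGenH8.fibreDimAt_le_of_specializes f ht'gy
      rw [← hdimC, FibCohH8.fibreDimAt_eq f t'] at h2
      obtain ⟨m, hm⟩ := Groth.Agent.ResQuot2H8.exists_trdeg_nat f t'
      have hm' : Dual3.resTrdeg f t' = m := hm
      rw [hm', Cardinal.toENat_nat] at h2 hsemiW
      have h3 : d ≤ m := by
        simp only [WithBot.coe_zero, zero_add] at hsemiW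
        exact_mod_cast hsemiW
      have h4 : FibCohH8.fibCoh f t' + (m : ℕ∞) ≤ ((d : ℕ) : ℕ∞) := by exact_mod_cast h2
      have h5 : (1 : ℕ∞) + (m : ℕ∞) ≤ ((d : ℕ) : ℕ∞) := (add_le_add_left h1 _).trans h4
      have h6 : 1 + m ≤ d := by exact_mod_cast h5
      omega
    -- conclusion
    have hζc₀ : ζ ⤳ c₀ := by
      rw [heq]; exact specializes_iff_mem_closure.mpr ht'W
    have hZC : Z ⊆ connectedComponentIn (f.base ⁻¹' {y'}) (g.base y') :=
      hZirr.isPreirreducible.isPreconnected.subset_connectedComponentIn hgZ hZS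
    intro a ha
    rw [hCeq] at ha
    have h7 : a ∈ closure ({ζ} : Set X) :=
      (closure_minimal (Set.singleton_subset_iff.mpr (specializes_iff_mem_closure.mp hζc₀))
        isClosed_closure) ha.1
    have h8 : closure ({ζ} : Set X) ⊆ closure Z :=
      closure_mono (Set.singleton_subset_iff.mpr (hZeq ▸ ⟨subset_closure rfl, hfζ⟩))
    exact closure_mono hZC (h8 h7)

theorem main19 [IsLocallyNoetherian Y] [LocallyOfFiniteType f] (g : Y ⟶ X) (hg : g ≫ f = 𝟙 Y)
    (hirr : ∀ y : Y, IsIrreducible (connectedComponentIn (f.base ⁻¹' {y}) (g.base y))) :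
    UpperSemicontinuous (fun y : Y =>
        topologicalKrullDim ↥(connectedComponentIn (f.base ⁻¹' {y}) (g.base y))) ∧
      ∀ y : Y, (∃ V ∈ nhds y, ∀ z ∈ V,
          topologicalKrullDim ↥(connectedComponentIn (f.base ⁻¹' {z}) (g.base z)) =
            topologicalKrullDim ↥(connectedComponentIn (f.base ⁻¹' {y}) (g.base y))) →
        ∀ y' : Y, y' ⤳ y → connectedComponentIn (f.base ⁻¹' {y}) (g.base y) ⊆
          closure (connectedComponentIn (f.base ⁻¹' {y'}) (g.base y')) := by
  have hfg : ∀ y : Y, f.base (g.base y) = y := fun y => by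
    have := congrArg (fun φ => φ.base y) hg
    exact this
  refine ⟨upperSemicontinuous_dim f g hg hirr, ?_⟩
  rintro y ⟨V, hV, hconst⟩ y' hy'
  have hy'V : y' ∈ V := mem_of_mem_nhds (hy' hV)
  have hdim := hconst y' hy'V
  have hgS : g.base y' ∈ f.base ⁻¹' {y'} := hfg y'
  refine (main52 f g hg y y' hy' ⟨connectedComponentIn (f.base ⁻¹' {y'}) (g.base y'),
    connectedComponentIn_subset _ _, hirr y', ?_, mem_connectedComponentIn hgS, rfl⟩).2
    (hirr y) hdim.symm
  intro Z' hZ'irr hZ'S hsub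
  apply subset_antisymm _ hsub
  exact hZ'irr.isPreirreducible.isPreconnected.subset_connectedComponentIn
    (hsub (mem_connectedComponentIn hgS)) hZ'S

end SecCompH8
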