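import Mathlib
import Groth.Prelude
import Groth.Agent.Lib.SecEtale_lead

/-!
# S17728: étale locus = flat locus = locus of local sections (lead)
-/

set_option autoImplicit false
set_option backward.isDefEq.respectTransparency false
set_option maxHeartbeats 1600000
universe u
open CategoryTheory CategoryTheory.Limits AlgebraicGeometry TensorProduct

namespace Groth.Agent.Lib.SecEtale

theorem main17728 {X S : Scheme.{u}} [IsNoetherian S] (f : X ⟶ S) [LocallyOfFiniteType f]
    (U : S.Opens) (hU : Dense (U : Set S))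
    (hiso : IsIso (morphismRestrict f U)) (hdense : CInt.IsSchematicallyDense (f ⁻¹ᵁ U))
    (x : X) :
    List.TFAE [
      ∃ W : X.Opens, x ∈ W ∧ Etale (W.ι ≫ f),
      (f.stalkMap x).hom.Flat,
      ∃ (V : S.Opens) (hV : f.base x ∈ V) (σ : (V : Scheme.{u}) ⟶ X),
        σ ≫ f = V.ι ∧ σ.base ⟨f.base x, hV⟩ = x] := by
  haveI := hiso
  haveI : IsLocallyNoetherian X := LocallyOfFiniteType.isLocallyNoetherian f
  tfae_have 1 → 2 := by
    rintro ⟨W, hxW, hW⟩
    haveI := hW
    haveI : Flat (W.ι ≫ f) := inferInstance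
    have h1 := Flat.stalkMap (W.ι ≫ f) ⟨x, hxW⟩
    rw [Scheme.Hom.stalkMap_comp] at h1
    have h2 : (f.stalkMap (W.ι.base ⟨x, hxW⟩)).hom.Flat := by
      have h3 : f.stalkMap (W.ι.base ⟨x, hxW⟩) =
          (f.stalkMap (W.ι.base ⟨x, hxW⟩) ≫ W.ι.stalkMap ⟨x, hxW⟩) ≫
            inv (W.ι.stalkMap ⟨x, hxW⟩) := by
        rw [Category.assoc, IsIso.hom_inv_id, Category.comp_id]
      rw [h3, CommRingCat.hom_comp]
      exact RingHom.Flat.comp h1
        (RingHom.Flat.of_bijective (ConcreteCategory.bijective_of_isIso _))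
    exact h2
  tfae_have 2 → 3 := by
    intro hfl
    haveI := isIso_stalkMap_of_flat f U hdense x hfl
    let φ' : Spec (S.presheaf.stalk (f.base x)) ⟶ X :=
      Spec.map (inv (f.stalkMap x)) ≫ X.fromSpecStalk x
    have hφ' : φ' ≫ f = S.fromSpecStalk (f.base x) ≫ 𝟙 S := by
      rw [Category.comp_id, Category.assoc, ← Scheme.SpecMap_stalkMap_fromSpecStalk f,
        ← Category.assoc, ← Spec.map_comp, IsIso.hom_inv_id, Spec.map_id, Category.id_comp]
    obtain ⟨V, hyV, σ, hσ1, hσ2⟩ := spread_out_of_isGermInjective' (𝟙 S) f φ' hφ'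
    refine ⟨V, hyV, σ, by rw [hσ2, Category.comp_id], ?_⟩
    have hc : φ'.base (IsLocalRing.closedPoint _) = x := by
      rw [Scheme.Hom.comp_apply, Spec_closedPoint, Scheme.fromSpecStalk_closedPoint]
    have hc2 : (V.fromSpecStalkOfMem (f.base x) hyV).base (IsLocalRing.closedPoint _) =
        ⟨f.base x, hyV⟩ := by
      apply Subtype.ext
      have h1 : (V.fromSpecStalkOfMem (f.base x) hyV ≫ V.ι).base (IsLocalRing.closedPoint _) =
          f.base x := by
        rw [Scheme.Opens.fromSpecStalkOfMem_ι, Scheme.fromSpecStalk_closedPoint]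
      rw [Scheme.Hom.comp_apply] at h1
      exact h1
    rw [← hc2, ← Scheme.Hom.comp_apply, ← hσ1, hc]
  tfae_have 3 → 1 := by
    rintro ⟨V, hV, σ, hσ, hx⟩
    obtain ⟨_, ⟨W', hW' : IsAffineOpen W', rfl⟩, hxW', -⟩ :=
      (X.isBasis_affineOpens).exists_subset_of_mem_open (Set.mem_univ x) isOpen_univ
    let V' : V.toScheme.Opens := σ ⁻¹ᵁ W'
    let V'' : S.Opens := V.ι ''ᵁ V'
    let σ' : V''.toScheme ⟶ X := (V.ι.isoImage V').inv ≫ V'.ι ≫ σ
    have hσ' : σ' ≫ f = V''.ι := by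
      simp only [σ', Category.assoc, hσ]
      exact Scheme.Hom.isoImage_inv_ι V.ι V'
    have hσW : ∀ v, σ'.base v ∈ W' := by
      intro v
      simp only [σ', Scheme.Hom.comp_apply]
      exact ((V.ι.isoImage V').inv.base v).2
    have hopen := isOpenImmersion_of_section f U hdense V'' σ' hσ' W' hW' hσW
    refine ⟨W' ⊓ f ⁻¹ᵁ V'', ⟨hxW', ?_⟩, ?_⟩
    · show f.base x ∈ V.ι ''ᵁ V'
      refine ⟨⟨f.base x, hV⟩, ?_, rfl⟩
      show σ.base ⟨f.base x, hV⟩ ∈ W'
      rw [hx]; exact hxW'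
    · haveI := hopen
      infer_instance
  tfae_finish

end Groth.Agent.Lib.SecEtale
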