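import Mathlib

set_option autoImplicit false
open CategoryTheory

namespace SecIdemH8

/-- idempotent lying in all primes is zero -/
theorem eq_zero_of_idem_of_forall_prime {R : Type*} [CommRing R] {e : R} (he : IsIdempotentElem e)
    (h : ∀ P : Ideal R, P.IsPrime → e ∈ P) : e = 0 :=
  he.eq_zero_of_isNilpotent (nilpotent_iff_mem_prime.mpr h)

theorem ker_eq_span_idempotent {A B : Type*} [CommRing A] [CommRing B] {G : Type*} [Group G]
    [Finite G] (ι : A →+* B) (σ : B →+* A) (hσι : ∀ a, σ (ι a) = a)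
    (act : G → B →+* B) (hinv : ∀ b : B, (∀ g, act g b = b) → b ∈ Set.range ι)
    (act_mul : ∀ g h b, act (g * h) b = act g (act h b)) (act_one : ∀ b, act 1 b = b)
    (hdisj : ∀ g : G, g ≠ 1 → ∀ P : Ideal B, P.IsPrime → RingHom.ker σ ≤ P →
      RingHom.ker σ ≤ P.comap (act g) → False)
    (hcov : ∀ P : Ideal B, P.IsPrime → ∃ g : G, RingHom.ker σ ≤ P.comap (act g)) :
    ∃ e : B, IsIdempotentElem e ∧ RingHom.ker σ = Ideal.span {e} := by
  classical
  haveI : Fintype G := Fintype.ofFinite G
  -- the closed set Z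
  have hZcl : IsClosed (PrimeSpectrum.zeroLocus (RingHom.ker σ : Set B)) :=
    PrimeSpectrum.isClosed_zeroLocus _
  have hcompl : (PrimeSpectrum.zeroLocus (RingHom.ker σ : Set B))ᶜ =
      ⋃ g ∈ {g : G | g ≠ 1}, (PrimeSpectrum.comap (act g)) ⁻¹'
        (PrimeSpectrum.zeroLocus (RingHom.ker σ : Set B)) := by
    ext P
    simp only [Set.mem_compl_iff, PrimeSpectrum.mem_zeroLocus, SetLike.coe_subset_coe,
      Set.mem_iUnion, Set.mem_preimage, Set.mem_setOf_eq, exists_prop]
    constructor
    · intro hP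
      obtain ⟨g, hg⟩ := hcov P.asIdeal P.isPrime
      refine ⟨g, ?_, hg⟩
      rintro rfl
      apply hP
      intro b hb
      have := hg hb
      simpa [Ideal.mem_comap, act_one] using this
    · rintro ⟨g, hg1, hg⟩ hP
      exact hdisj g hg1 P.asIdeal P.isPrime hP hg
  have hZop : IsOpen (PrimeSpectrum.zeroLocus (RingHom.ker σ : Set B)) := by
    rw [← isClosed_compl_iff, hcompl]
    refine Set.Finite.isClosed_biUnion (Set.toFinite _) fun g _ => ?_
    exact hZcl.preimage (PrimeSpectrum.continuous_comap (act g))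
  obtain ⟨e', he', hZ⟩ := PrimeSpectrum.isClopen_iff_zeroLocus.mp ⟨hZcl, hZop⟩
  have hmem : ∀ P : Ideal B, P.IsPrime → (RingHom.ker σ ≤ P ↔ e' ∈ P) := by
    intro P hP
    have := Set.ext_iff.mp hZ ⟨P, hP⟩
    simpa [PrimeSpectrum.mem_zeroLocus] using this
  -- σ e' = 0
  have hσe' : σ e' = 0 := by
    apply eq_zero_of_idem_of_forall_prime (he'.map σ)
    intro Q hQ
    have : e' ∈ Q.comap σ := (hmem _ (Ideal.comap_isPrime σ Q)).mp (by
      intro b hb
      rw [Ideal.mem_comap, (RingHom.mem_ker).mp hb]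
      exact Q.zero_mem)
    exact this
  have he : IsIdempotentElem (1 - e') := he'.one_sub
  have hnot : ∀ P : Ideal B, P.IsPrime → (1 - e') ∉ P → e' ∈ P := by
    intro P hP h1
    have : (1 - e') * e' ∈ P := by
      have : (1 - e') * e' = 0 := by
        rw [sub_mul, one_mul, he'.eq, sub_self]
      rw [this]; exact P.zero_mem
    exact (hP.mem_or_mem this).resolve_left h1
  have hσe : σ (1 - e') = 1 := by rw [map_sub, map_one, hσe', sub_zero]
  -- orthogonality
  have horth : ∀ g : G, g ≠ 1 → (1 - e') * act g (1 - e') = 0 := by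
    intro g hg
    apply eq_zero_of_idem_of_forall_prime (he.mul (he.map (act g)))
    intro P hP
    by_contra hcon
    have h1 : (1 - e') ∉ P := fun h => hcon (P.mul_mem_right _ h)
    have h2 : act g (1 - e') ∉ P := fun h => hcon (P.mul_mem_left _ h)
    have h3 : RingHom.ker σ ≤ P := (hmem P hP).mpr (hnot P hP h1)
    have h4 : RingHom.ker σ ≤ P.comap (act g) :=
      (hmem _ (Ideal.comap_isPrime (act g) P)).mpr
        (hnot _ (Ideal.comap_isPrime (act g) P) (fun h => h2 h))
    exact hdisj g hg P hP h3 h4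
  have hσg : ∀ g : G, g ≠ 1 → σ (act g (1 - e')) = 0 := by
    intro g hg
    apply eq_zero_of_idem_of_forall_prime ((he.map (act g)).map σ)
    intro Q hQ
    by_contra hcon
    have hP : (Q.comap σ).IsPrime := Ideal.comap_isPrime σ Q
    have h3 : RingHom.ker σ ≤ Q.comap σ := by
      intro b hb
      rw [Ideal.mem_comap, (RingHom.mem_ker).mp hb]
      exact Q.zero_mem
    have h4 : RingHom.ker σ ≤ (Q.comap σ).comap (act g) :=
      (hmem _ (Ideal.comap_isPrime (act g) _)).mpr
        (hnot _ (Ideal.comap_isPrime (act g) _) (fun h => hcon h))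
    exact hdisj g hg _ hP h3 h4
  refine ⟨e', he', le_antisymm ?_ ?_⟩
  · intro b hb
    have hσb : σ b = 0 := (RingHom.mem_ker).mp hb
    -- trace element
    have hTinv : ∀ h : G, act h (∑ g : G, act g (b * (1 - e'))) =
        ∑ g : G, act g (b * (1 - e')) := by
      intro h
      rw [map_sum]
      simp_rw [← act_mul]
      exact Fintype.sum_equiv (Equiv.mulLeft h) _ _ (fun g => rfl)
    obtain ⟨a, ha⟩ := hinv _ hTinv
    have ha0 : a = 0 := by
      have h1 : a = σ (∑ g : G, act g (b * (1 - e'))) := by rw [← ha, hσι]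
      rw [h1, map_sum]
      apply Finset.sum_eq_zero
      intro g _
      by_cases hg : g = 1
      · subst hg
        rw [act_one, map_mul, hσb, zero_mul]
      · rw [map_mul, map_mul, hσg g hg, mul_zero]
    have hT0 : ∑ g : G, act g (b * (1 - e')) = 0 := by rw [← ha, ha0, map_zero]
    have hbe : b * (1 - e') = 0 := by
      have h2 : (∑ g : G, act g (b * (1 - e'))) * (1 - e') = b * (1 - e') := by
        rw [Finset.sum_mul, Finset.sum_eq_single (1 : G)]
        · rw [act_one, mul_assoc, he.eq]
        · intro g _ hg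
          rw [map_mul, mul_assoc, mul_comm (act g (1 - e')), horth g hg, mul_zero]
        · intro h; exact absurd (Finset.mem_univ _) h
      rw [← h2, hT0, zero_mul]
    rw [Ideal.mem_span_singleton']
    refine ⟨b, ?_⟩
    have : b * (1 - e') = b - b * e' := by ring
    rw [this, sub_eq_zero] at hbe
    exact hbe.symm
  · rw [Ideal.span_singleton_le_iff_mem]
    exact (RingHom.mem_ker).mpr hσe'

end SecIdemH8
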