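import Mathlib
import Groth.Agent.Lib.SecIdem1_helper8
import Groth.Agent.Lib.QuotRes3_helper8
import Groth.Agent.Lib.IsQuot3_helper8
import Groth.Agent.S2908

set_option autoImplicit false
universe u
open CategoryTheory AlgebraicGeometry Limits TopologicalSpace

namespace SecIdemH8

theorem ker_eq_span_idempotent' {A B : Type*} [CommRing A] [CommRing B] {G : Type*} [Group G]
    [Finite G] (ι : A →+* B) (σ : B →+* A) (hσι : ∀ a, σ (ι a) = a)
    (act : G → B →+* B) (hinv : ∀ b : B, (∀ g, act g b = b) → b ∈ Set.range ι)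
    (act_mul : ∀ g h b, act (g * h) b = act h (act g b)) (act_one : ∀ b, act 1 b = b)
    (hdisj : ∀ g : G, g ≠ 1 → ∀ P : Ideal B, P.IsPrime → RingHom.ker σ ≤ P →
      RingHom.ker σ ≤ P.comap (act g) → False)
    (hcov : ∀ P : Ideal B, P.IsPrime → ∃ g : G, RingHom.ker σ ≤ P.comap (act g)) :
    ∃ e : B, IsIdempotentElem e ∧ RingHom.ker σ = Ideal.span {e} := by
  refine ker_eq_span_idempotent ι σ hσι (fun g => act g⁻¹) ?_ ?_
    (fun b => by show act (1 : G)⁻¹ b = b; rw [inv_one, act_one]) ?_ ?_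
  · intro b hb
    exact hinv b (fun g => by simpa using hb g⁻¹)
  · intro g h b
    show act (g * h)⁻¹ b = act g⁻¹ (act h⁻¹ b)
    rw [mul_inv_rev, act_mul]
  · intro g hg P hP h1 h2
    exact hdisj g⁻¹ (by simpa using hg) P hP h1 h2
  · intro P hP
    obtain ⟨g, hg⟩ := hcov P hP
    exact ⟨g⁻¹, by simpa using hg⟩

theorem eq_of_mem_range_section {X Y : Scheme.{u}} (p : X ⟶ Y) [IsSeparated p] (s : Y ⟶ X)
    (hs : s ≫ p = 𝟙 Y) (K : Type u) [Field K] (b : Spec (.of K) ⟶ X)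
    (hb : b.base (IsLocalRing.closedPoint K) ∈ Set.range s.base) : b = (b ≫ p) ≫ s := by
  have hcl : IsClosedImmersion s := by
    have : IsClosedImmersion (s ≫ p) := by rw [hs]; infer_instance
    exact MorphismProperty.of_postcomp (W := @IsClosedImmersion) (W' := @IsSeparated) s p
      inferInstance this
  have hsurj : Surjective (pullback.fst b s) := by
    refine ⟨fun t => ?_⟩
    obtain ⟨y, hy⟩ := hb
    obtain ⟨z, hz, -⟩ := Scheme.Pullback.exists_preimage_pullback (f := b) (g := s)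
      (IsLocalRing.closedPoint K) y hy.symm
    refine ⟨z, ?_⟩
    rw [hz]
    exact Subsingleton.elim _ _
  have hiso : IsIso (pullback.fst b s) := isIso_of_isClosedImmersion_of_surjective _
  have h1 : b = (inv (pullback.fst b s) ≫ pullback.snd b s) ≫ s := by
    rw [Category.assoc, ← pullback.condition, IsIso.inv_hom_id_assoc]
  have h2 : b ≫ p = inv (pullback.fst b s) ≫ pullback.snd b s := by
    conv_lhs => rw [h1]
    rw [Category.assoc, hs, Category.comp_id]
  rw [h2]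
  exact h1


variable {X Y : Scheme.{u}} {G : Type u} [Group G] [Finite G]

theorem free_on_section (ρ : G →* Aut X) (p : X ⟶ Y) (hp : SGA1.IsQuot ρ p)
    (hfree : ∀ (K : Type u) [Field K] [IsAlgClosed K] (ξ : Spec (CommRingCat.of K) ⟶ X) (g : G),
      ξ ≫ (ρ g).hom = ξ → g = 1)
    (s : Y ⟶ X) (hs : s ≫ p = 𝟙 Y) (g : G) (y y' : Y)
    (h : (ρ g).hom.base (s.base y) = s.base y') : g = 1 := by
  haveI : IsAffineHom p := hp.affine
  obtain ⟨ζ, hζ⟩ : ∃ ζ : Spec (CommRingCat.of (IsLocalRing.ResidueField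
      (Y.presheaf.stalk y))) ⟶ Y, ζ = Y.fromSpecResidueField y := ⟨_, rfl⟩
  have hζpt : ζ.base (IsLocalRing.closedPoint _) = y := by
    rw [hζ]; exact Scheme.fromSpecResidueField_apply _ _
  have hb : ((ζ ≫ s) ≫ (ρ g).hom).base (IsLocalRing.closedPoint _) ∈ Set.range s.base := by
    refine ⟨y', ?_⟩
    rw [← h]
    exact (congrArg (fun t => (ρ g).hom.base (s.base t)) hζpt).symm
  have h1 := eq_of_mem_range_section p s hs _ ((ζ ≫ s) ≫ (ρ g).hom) hb
  have h2 : ((ζ ≫ s) ≫ (ρ g).hom) ≫ p = ζ := by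
    rw [Category.assoc, hp.inv g, Category.assoc, hs, Category.comp_id]
  rw [h2] at h1
  refine hfree (AlgebraicClosure (IsLocalRing.ResidueField (Y.presheaf.stalk y)))
    (Spec.map (CommRingCat.ofHom (algebraMap _ _)) ≫ (ζ ≫ s)) g ?_
  rw [Category.assoc, h1]

theorem cover_by_section (ρ : G →* Aut X) (p : X ⟶ Y) (hp : SGA1.IsQuot ρ p)
    (s : Y ⟶ X) (hs : s ≫ p = 𝟙 Y) (x : X) :
    ∃ g : G, (ρ g).hom.base x = s.base (p.base x) := by
  have hX := Groth.Agent.S2908.result ρ p hp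
  refine (hX.2.1 _ _).mp ?_
  have := congrArg (fun m => m.base (p.base x)) hs
  exact this.symm


theorem isOpenImmersion_section (ρ : G →* Aut X) (p : X ⟶ Y) (hp : SGA1.IsQuot ρ p)
    (s : Y ⟶ X) (hs : s ≫ p = 𝟙 Y)
    (hfreept : ∀ (g : G) (y y' : Y), (ρ g).hom.base (s.base y) = s.base y' → g = 1) :
    IsOpenImmersion s := by
  have hps : ∀ y : Y, p.base (s.base y) = y := fun y =>
    congrArg (fun m => m.base y) hs
  have hinj : Function.Injective s.base := fun a b hab => by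
    rw [← hps a, ← hps b, hab]
  refine IsOpenImmersion.of_forall_source_exists s hinj (fun y => ?_)
  obtain ⟨_, ⟨V, hV : IsAffineOpen V, rfl⟩, hyV, -⟩ :=
    Y.isBasis_affineOpens.exists_subset_of_mem_open (Set.mem_univ y) isOpen_univ
  have hU : IsAffineOpen (p ⁻¹ᵁ V) := hp.affine.isAffine_preimage V hV
  have hVU : V ≤ s ⁻¹ᵁ (p ⁻¹ᵁ V) := by
    intro t ht
    show p.base (s.base t) ∈ V
    rw [hps t]; exact ht
  refine ⟨Spec Γ(Y, V), hV.fromSpec, inferInstance, ?_, ?_⟩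
  · rw [hV.opensRange_fromSpec]; exact hyV
  rw [← IsAffineOpen.SpecMap_appLE_fromSpec s hU hV hVU]
  -- ring-level data
  have hσι : ∀ a : Γ(Y, V), (s.appLE (p ⁻¹ᵁ V) V hVU).hom ((p.app V).hom a) = a := by
    intro a
    have e1 : p.app V ≫ s.appLE (p ⁻¹ᵁ V) V hVU = (s ≫ p).appLE V V (by
        rw [Scheme.Hom.comp_preimage]; exact hVU) := by
      rw [Scheme.Hom.app_eq_appLE, Scheme.Hom.appLE_comp_appLE]
    have e2 := IsQuotH8.appLE_congr hs V V (by
        rw [Scheme.Hom.comp_preimage]; exact hVU) le_rfl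
    have e3 : (p.app V ≫ s.appLE (p ⁻¹ᵁ V) V hVU).hom a = a := by
      rw [e1, e2]
      change (Y.presheaf.map (𝟙 (Opposite.op V))).hom a = a
      rw [Y.presheaf.map_id]
      rfl
    exact e3
  have hsurj : Function.Surjective (s.appLE (p ⁻¹ᵁ V) V hVU).hom := fun a =>
    ⟨(p.app V).hom a, hσι a⟩
  have hN1 : ∀ Q : PrimeSpectrum Γ(Y, V),
      hU.fromSpec.base (PrimeSpectrum.comap (s.appLE (p ⁻¹ᵁ V) V hVU).hom Q) =
        s.base (hV.fromSpec.base Q) := fun Q =>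
    congrArg (fun m => m.base Q) (IsAffineOpen.SpecMap_appLE_fromSpec s hU hV hVU)
  have hN2 : ∀ (g : G) (P : PrimeSpectrum Γ(X, p ⁻¹ᵁ V)),
      hU.fromSpec.base (PrimeSpectrum.comap (IsQuotH8.act ρ p hp.inv g V).hom P) =
        (ρ g).hom.base (hU.fromSpec.base P) := fun g P =>
    congrArg (fun m => m.base P) (IsAffineOpen.SpecMap_appLE_fromSpec (ρ g).hom hU hU
      (SGA1.preimage_le_of_inv ρ p hp.inv g V))
  have hΦinj : Function.Injective hU.fromSpec.base := hU.fromSpec.isOpenEmbedding.injective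
  have hker_le : ∀ Q : PrimeSpectrum Γ(Y, V), RingHom.ker (s.appLE (p ⁻¹ᵁ V) V hVU).hom ≤
      (PrimeSpectrum.comap (s.appLE (p ⁻¹ᵁ V) V hVU).hom Q).asIdeal := by
    intro Q b hb
    show (s.appLE (p ⁻¹ᵁ V) V hVU).hom b ∈ Q.asIdeal
    rw [(RingHom.mem_ker).mp hb]
    exact Q.asIdeal.zero_mem
  have hex : ∀ P : PrimeSpectrum Γ(X, p ⁻¹ᵁ V),
      RingHom.ker (s.appLE (p ⁻¹ᵁ V) V hVU).hom ≤ P.asIdeal →
      ∃ Q, PrimeSpectrum.comap (s.appLE (p ⁻¹ᵁ V) V hVU).hom Q = P := by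
    intro P hP
    have : P ∈ Set.range (PrimeSpectrum.comap (s.appLE (p ⁻¹ᵁ V) V hVU).hom) := by
      rw [range_comap_of_surjective _ _ hsurj]
      exact hP
    exact this
  have hkey := ker_eq_span_idempotent' (p.app V).hom (s.appLE (p ⁻¹ᵁ V) V hVU).hom hσι
    (fun g => (IsQuotH8.act ρ p hp.inv g V).hom)
    (fun b hb => (hp.range_iff V b).mpr hb)
    (fun g h b => IsQuotH8.act_mul ρ p hp.inv V g h b)
    (fun b => IsQuotH8.act_one ρ p hp.inv V b)
    (by
      intro g hg P hP h1 h2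
      obtain ⟨Q, hQ⟩ := hex ⟨P, hP⟩ h1
      obtain ⟨Q', hQ'⟩ := hex (PrimeSpectrum.comap (IsQuotH8.act ρ p hp.inv g V).hom ⟨P, hP⟩) h2
      apply hg
      refine hfreept g (hV.fromSpec.base Q) (hV.fromSpec.base Q') ?_
      rw [← hN1, ← hN1, hQ, hQ', hN2])
    (by
      intro P hP
      obtain ⟨g, hg⟩ := cover_by_section ρ p hp s hs (hU.fromSpec.base ⟨P, hP⟩)
      have hxU : hU.fromSpec.base ⟨P, hP⟩ ∈ p ⁻¹ᵁ V := by
        have : hU.fromSpec.base ⟨P, hP⟩ ∈ Set.range hU.fromSpec.base := ⟨_, rfl⟩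
        rw [hU.range_fromSpec] at this
        exact this
      have hyV' : p.base (hU.fromSpec.base ⟨P, hP⟩) ∈ Set.range hV.fromSpec.base := by
        rw [hV.range_fromSpec]
        exact hxU
      obtain ⟨Q, hQ⟩ := hyV'
      refine ⟨g, ?_⟩
      have : PrimeSpectrum.comap (IsQuotH8.act ρ p hp.inv g V).hom ⟨P, hP⟩ =
          PrimeSpectrum.comap (s.appLE (p ⁻¹ᵁ V) V hVU).hom Q := by
        apply hΦinj
        rw [hN2, hN1, hQ, hg]
      have h3 := hker_le Q
      rw [← this] at h3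
      exact h3)
  have : IsOpenImmersion (Spec.map (s.appLE (p ⁻¹ᵁ V) V hVU)) :=
    (isOpenImmersion_SpecMap_iff_of_surjective _ hsurj).mpr hkey
  infer_instance

end SecIdemH8
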