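import Mathlib

/-!
# Sections of étale-over-polynomial algebras are cut out by regular sequences (helper2)

Ring-level core for "a section of a smooth morphism is a regular immersion".
-/

set_option autoImplicit false
universe u
open MvPolynomial RingTheory.Sequence

namespace Groth.Agent.Lib.SecReg

section coord

variable {R : Type u} [CommRing R] {n : ℕ}

lemma smul_top_self (I : Ideal R) : (I • (⊤ : Submodule R R)) = I := by
  simp

lemma isSMulRegular_quot_iff (I : Ideal R) (r : R) :
    IsSMulRegular (R ⧸ (I • ⊤ : Submodule R R)) r ↔ ∀ x, r * x ∈ I → x ∈ I := by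
  rw [isSMulRegular_iff_right_eq_zero_of_smul]
  constructor
  · intro h x hx
    have := h (Submodule.Quotient.mk x) (by
      rw [← Submodule.Quotient.mk_smul, Submodule.Quotient.mk_eq_zero, smul_top_self]
      exact hx)
    rwa [Submodule.Quotient.mk_eq_zero, smul_top_self] at this
  · intro h m hm
    obtain ⟨x, rfl⟩ := Submodule.Quotient.mk_surjective _ m
    rw [← Submodule.Quotient.mk_smul, Submodule.Quotient.mk_eq_zero, smul_top_self] at hm
    rw [Submodule.Quotient.mk_eq_zero, smul_top_self]
    exact h x hm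

lemma isWeaklyRegular_self_iff (rs : List R) :
    IsWeaklyRegular R rs ↔ ∀ (k : ℕ) (h : k < rs.length) (x : R),
      rs[k] * x ∈ Ideal.ofList (rs.take k) → x ∈ Ideal.ofList (rs.take k) := by
  rw [isWeaklyRegular_iff]
  refine forall₂_congr fun k h => ?_
  exact isSMulRegular_quot_iff _ _

/-- the list of variables -/
noncomputable def xs (R : Type u) [CommRing R] (n : ℕ) : List (MvPolynomial (Fin n) R) :=
  List.ofFn (fun i : Fin n => X i)

lemma ofList_take_xs (k : ℕ) :
    Ideal.ofList ((xs R n).take k) = Ideal.span (X '' {i : Fin n | i.val < k}) := by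
  unfold Ideal.ofList
  congr 1
  ext p
  simp only [Set.mem_setOf_eq, Set.mem_image]
  rw [List.mem_take_iff_getElem]
  constructor
  · rintro ⟨i, hi, rfl⟩
    have hi' : i < n := by simpa [xs] using (lt_min_iff.mp hi).2
    refine ⟨⟨i, hi'⟩, (lt_min_iff.mp hi).1, ?_⟩
    simp [xs]
  · rintro ⟨i, hi, rfl⟩
    refine ⟨i.val, lt_min_iff.mpr ⟨hi, by simp [xs]⟩, ?_⟩
    simp [xs]

theorem xs_weaklyRegular : IsWeaklyRegular (MvPolynomial (Fin n) R) (xs R n) := by
  rw [isWeaklyRegular_self_iff]
  intro k hk x hx
  have hk' : k < n := by simpa [xs] using hk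
  have hget : (xs R n)[k] = X ⟨k, hk'⟩ := by simp [xs]
  rw [hget, ofList_take_xs, mem_ideal_span_X_image] at hx
  rw [ofList_take_xs, mem_ideal_span_X_image]
  intro d hd
  have hd' : Finsupp.single (⟨k, hk'⟩ : Fin n) 1 + d ∈
      (X (⟨k, hk'⟩ : Fin n) * x).support := by
    rw [mem_support_iff, coeff_X_mul]
    exact mem_support_iff.mp hd
  obtain ⟨i, hi, hne⟩ := hx _ hd'
  refine ⟨i, hi, ?_⟩
  have hik : (⟨k, hk'⟩ : Fin n) ≠ i := by
    intro e
    rw [← e] at hi
    exact lt_irrefl k (by simpa using hi)
  simpa [Finsupp.single_apply, hik] using hne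

/-- the shift automorphism `X i ↦ X i - b i` -/
noncomputable def shift (b : Fin n → R) : MvPolynomial (Fin n) R ≃ₐ[R] MvPolynomial (Fin n) R :=
  AlgEquiv.ofAlgHom (aeval fun i => X i - C (b i)) (aeval fun i => X i + C (b i))
    (by apply MvPolynomial.algHom_ext; intro i; simp)
    (by apply MvPolynomial.algHom_ext; intro i; simp)

lemma shift_X (b : Fin n → R) (i : Fin n) : shift b (X i) = X i - C (b i) := by
  simp [shift]

/-- the list `X i - b i` -/
noncomputable def xsb (b : Fin n → R) : List (MvPolynomial (Fin n) R) :=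
  List.ofFn (fun i : Fin n => X i - C (b i))

lemma xsb_eq (b : Fin n → R) : xsb b = (xs R n).map (shift b) := by
  simp only [xsb, xs, List.map_ofFn]
  congr 1
  funext i
  exact (shift_X b i).symm

theorem xsb_weaklyRegular (b : Fin n → R) :
    IsWeaklyRegular (MvPolynomial (Fin n) R) (xsb b) := by
  rw [xsb_eq]
  haveI := RingHomInvPair.of_ringEquiv (shift b).toRingEquiv
  haveI := RingHomInvPair.symm (↑(shift b).toRingEquiv : MvPolynomial (Fin n) R →+* _)
    ((shift b).toRingEquiv.symm : MvPolynomial (Fin n) R →+* _)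
  exact (LinearEquiv.isWeaklyRegular_congr' (shift b).toRingEquiv.toSemilinearEquiv
    (xs R n)).mp xs_weaklyRegular

lemma X_sub_C_mem (b : Fin n → R) (i : Fin n) : X i - C (b i) ∈ Ideal.ofList (xsb b) :=
  Ideal.subset_span (by simp [xsb, List.mem_ofFn])

lemma sub_C_eval_mem (b : Fin n → R) (p : MvPolynomial (Fin n) R) :
    p - C (eval b p) ∈ Ideal.ofList (xsb b) := by
  induction p using MvPolynomial.induction_on with
  | C a => simp
  | add p q hp hq =>
    have : p + q - C (eval b (p + q)) = (p - C (eval b p)) + (q - C (eval b q)) := by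
      rw [map_add, map_add]; ring
    rw [this]
    exact Ideal.add_mem _ hp hq
  | mul_X p i hp =>
    have : p * X i - C (eval b (p * X i)) =
        (p - C (eval b p)) * X i + C (eval b p) * (X i - C (b i)) := by
      rw [map_mul, eval_X, map_mul]; ring
    rw [this]
    exact Ideal.add_mem _ (Ideal.mul_mem_right _ _ hp) (Ideal.mul_mem_left _ _ (X_sub_C_mem b i))

lemma eval_eq_zero_of_mem (b : Fin n → R) (p : MvPolynomial (Fin n) R)
    (hp : p ∈ Ideal.ofList (xsb b)) : eval b p = 0 := by
  have : Ideal.ofList (xsb b) ≤ RingHom.ker (eval b) := by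
    unfold Ideal.ofList
    rw [Ideal.span_le]
    intro x hx
    simp only [xsb, List.mem_ofFn, Set.mem_setOf_eq] at hx
    obtain ⟨i, rfl⟩ := hx
    simp [RingHom.mem_ker]
  exact this hp

/-- the list `X i - b i` followed by the constants `gs` -/
noncomputable def fullList (b : Fin n → R) (gs : List R) : List (MvPolynomial (Fin n) R) :=
  xsb b ++ gs.map C

theorem fullList_weaklyRegular (b : Fin n → R) (gs : List R) (hgs : IsWeaklyRegular R gs) :
    IsWeaklyRegular (MvPolynomial (Fin n) R) (fullList b gs) := by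
  rw [fullList, isWeaklyRegular_append_iff]
  refine ⟨xsb_weaklyRegular b, ?_⟩
  rw [← MvPolynomial.algebraMap_eq, isWeaklyRegular_map_algebraMap_iff]
  let N : Submodule (MvPolynomial (Fin n) R) (MvPolynomial (Fin n) R) :=
    Ideal.ofList (xsb b) • ⊤
  let evl : MvPolynomial (Fin n) R →ₗ[R] R := (aeval b : MvPolynomial (Fin n) R →ₐ[R] R).toLinearMap
  have hsurj : Function.Surjective evl := fun r => ⟨C r, by simp [evl]⟩
  have hker : LinearMap.ker evl = N.restrictScalars R := by
    ext p
    simp only [LinearMap.mem_ker, Submodule.restrictScalars_mem, N, smul_top_self]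
    constructor
    · intro h
      have h0 : eval b p = 0 := by simpa [evl, coe_aeval_eq_eval] using h
      have := sub_C_eval_mem b p
      rwa [h0, map_zero, sub_zero] at this
    · intro h
      have := eval_eq_zero_of_mem b p h
      simpa [evl, coe_aeval_eq_eval] using this
  let e : (MvPolynomial (Fin n) R ⧸ N) ≃ₗ[R] R :=
    (Submodule.Quotient.restrictScalarsEquiv R N).symm ≪≫ₗ
      (Submodule.quotEquivOfEq _ _ hker.symm) ≪≫ₗ evl.quotKerEquivOfSurjective hsurj
  exact (LinearEquiv.isWeaklyRegular_congr e gs).mpr hgs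

theorem ker_eq_ofList_fullList {C' : Type u} [CommRing C'] (ψ : MvPolynomial (Fin n) R →+* C')
    (b : Fin n → R) (gs : List R) (hψX : ∀ i, ψ (X i) = ψ (C (b i)))
    (hJ : RingHom.ker (ψ.comp C) = Ideal.ofList gs) :
    RingHom.ker ψ = Ideal.ofList (fullList b gs) := by
  have hge : Ideal.ofList (fullList b gs) ≤ RingHom.ker ψ := by
    unfold Ideal.ofList
    rw [Ideal.span_le]
    intro x hx
    simp only [fullList, List.mem_append, Set.mem_setOf_eq, List.mem_map] at hx
    rcases hx with hx | ⟨g, hg, rfl⟩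
    · simp only [xsb, List.mem_ofFn] at hx
      obtain ⟨i, rfl⟩ := hx
      simp [RingHom.mem_ker, hψX i]
    · have : g ∈ RingHom.ker (ψ.comp C) := by
        rw [hJ]; exact Ideal.subset_span hg
      simpa [RingHom.mem_ker] using this
  refine le_antisymm ?_ hge
  intro p hp
  have h1 : p - C (eval b p) ∈ Ideal.ofList (fullList b gs) := by
    rw [fullList, Ideal.ofList_append]
    exact Ideal.mem_sup_left (sub_C_eval_mem b p)
  have h2 : ψ (C (eval b p)) = 0 := by
    have := hge h1
    rw [RingHom.mem_ker, map_sub, RingHom.mem_ker.mp hp, zero_sub, neg_eq_zero] at this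
    exact this
  have h3 : eval b p ∈ Ideal.ofList gs := by
    rw [← hJ]; exact h2
  have h4 : C (eval b p) ∈ Ideal.ofList (fullList b gs) := by
    rw [fullList, Ideal.ofList_append, ← Ideal.map_ofList]
    exact Ideal.mem_sup_right (Ideal.mem_map_of_mem _ h3)
  have := Ideal.add_mem _ h1 h4
  rwa [sub_add_cancel] at this

end coord

end Groth.Agent.Lib.SecReg
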