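import Mathlib
import Groth.Agent.Lib.SecReg1_helper2

/-!
# Sections of étale-over-polynomial algebras, part 2: the idempotent/Nakayama step (helper2)
-/

set_option autoImplicit false
universe u
open MvPolynomial RingTheory.Sequence

namespace Groth.Agent.Lib.SecReg

/-- the unramified "idempotent" step: `P → D` formally unramified, `π : D → C'` with `π ∘ ρ`
surjective; then `ker π ≤ (ker π)² ⊔ (ker (π ∘ ρ)) D`. -/
theorem ker_le_sq_sup {P D C' : Type u} [CommRing P] [CommRing D] [CommRing C']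
    (ρ : P →+* D) (hunr : ρ.FormallyUnramified) (π : D →+* C')
    (hsurj : Function.Surjective (π.comp ρ)) :
    RingHom.ker π ≤ RingHom.ker π * RingHom.ker π ⊔ (RingHom.ker (π.comp ρ)).map ρ := by
  algebraize [ρ]
  set K := RingHom.ker π with hKdef
  set ψ : P →+* C' := π.comp ρ with hψdef
  set T : Ideal D := K * K ⊔ (RingHom.ker ψ).map ρ with hT
  let E := D ⧸ T
  let q₁ : D →ₐ[P] E := Ideal.Quotient.mkₐ P T
  have hle : RingHom.ker ψ ≤ RingHom.ker (algebraMap P E) := by
    intro p hp
    rw [RingHom.mem_ker]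
    show Ideal.Quotient.mk T (ρ p) = 0
    rw [Ideal.Quotient.eq_zero_iff_mem]
    exact Ideal.mem_sup_right (Ideal.mem_map_of_mem _ hp)
  let s : C' →+* E := ψ.liftOfSurjective hsurj ⟨algebraMap P E, hle⟩
  have hs : ∀ p, s (ψ p) = algebraMap P E p := fun p =>
    RingHom.liftOfSurjective_comp_apply ψ hsurj ⟨algebraMap P E, hle⟩ p
  let q₂ : D →ₐ[P] E :=
    { toRingHom := s.comp π
      commutes' := fun p => hs p }
  let N : Ideal E := K.map (Ideal.Quotient.mk T)
  have hN : IsNilpotent N := by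
    refine ⟨2, ?_⟩
    rw [← Ideal.map_pow, Ideal.zero_eq_bot, eq_bot_iff, ← Ideal.map_quotient_self T]
    apply Ideal.map_mono
    rw [pow_two]
    exact le_sup_left
  have hq : q₁ = q₂ := by
    apply Algebra.FormallyUnramified.ext (I := N) hN
    intro d
    rw [Ideal.Quotient.eq]
    obtain ⟨p, hp⟩ := hsurj (π d)
    have h2 : q₂ d = q₁ (ρ p) := by
      show s (π d) = Ideal.Quotient.mk T (ρ p)
      rw [← hp]
      exact hs p
    rw [h2, ← map_sub]
    apply Ideal.mem_map_of_mem
    rw [hKdef, RingHom.mem_ker, map_sub, ← hp]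
    simp [hψdef]
  intro x hx
  have h1 : q₁ x = q₂ x := by rw [hq]
  have h2 : q₂ x = 0 := by
    show s (π x) = 0
    rw [RingHom.mem_ker.mp hx, map_zero]
  rw [h2] at h1
  exact Ideal.Quotient.eq_zero_iff_mem.mp h1

/-- **T1** -/
theorem T1 {R D C' : Type u} [CommRing R] [CommRing D] [CommRing C'] (n : ℕ)
    (ρ : MvPolynomial (Fin n) R →+* D) (hflat : ρ.Flat) (hunr : ρ.FormallyUnramified)
    (π : D →+* C') (hRC : Function.Surjective (π.comp (ρ.comp C)))
    (gs : List R) (hgs : IsWeaklyRegular R gs)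
    (hJ : RingHom.ker (π.comp (ρ.comp C)) = Ideal.ofList gs)
    (hK : (RingHom.ker π).FG) :
    ∃ (g : D) (rs : List D), g - 1 ∈ RingHom.ker π ∧ IsWeaklyRegular D rs ∧
      Ideal.ofList rs ≤ RingHom.ker π ∧ ∀ x ∈ RingHom.ker π, g * x ∈ Ideal.ofList rs := by
  classical
  set ψ : MvPolynomial (Fin n) R →+* C' := π.comp ρ with hψdef
  have hb : ∀ i : Fin n, ∃ r : R, π (ρ (C r)) = π (ρ (X i)) := fun i => hRC _
  choose b hb using hb
  have hψX : ∀ i, ψ (X i) = ψ (C (b i)) := fun i => (hb i).symm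
  have hkerψ : RingHom.ker ψ = Ideal.ofList (fullList b gs) :=
    ker_eq_ofList_fullList ψ b gs hψX (by rw [← hJ]; rfl)
  have hL := fullList_weaklyRegular b gs hgs
  have hψsurj : Function.Surjective ψ := by
    intro c
    obtain ⟨r, hr⟩ := hRC c
    exact ⟨C r, hr⟩
  have hidem := ker_le_sq_sup ρ hunr π hψsurj
  set K := RingHom.ker π with hKdef
  set K₀ : Ideal D := (RingHom.ker ψ).map ρ with hK₀
  have hK₀eq : K₀ = Ideal.ofList ((fullList b gs).map ρ) := by
    rw [hK₀, hkerψ, Ideal.map_ofList]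
  have hK₀le : K₀ ≤ K := by
    rw [hK₀, Ideal.map_le_iff_le_comap]
    intro p hp
    exact hp
  -- Nakayama
  let N' : Submodule D (D ⧸ K₀) := Submodule.map (Submodule.mkQ K₀) K
  have hfg : N'.FG := Submodule.FG.map (Submodule.mkQ K₀) hK
  have hle : N' ≤ K • N' := by
    rintro _ ⟨x, hx, rfl⟩
    obtain ⟨y, hy, z, hz, rfl⟩ := Submodule.mem_sup.mp (hidem hx)
    have hz0 : Submodule.mkQ K₀ z = 0 := by
      rw [Submodule.mkQ_apply, Submodule.Quotient.mk_eq_zero]
      exact hz
    rw [map_add, hz0, add_zero]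
    have : Submodule.mkQ K₀ y ∈ Submodule.map (Submodule.mkQ K₀) (K • (K : Submodule D D)) :=
      Submodule.mem_map_of_mem hy
    rwa [Submodule.map_smul''] at this
  obtain ⟨g, hg1, hg0⟩ :=
    Submodule.exists_sub_one_mem_and_smul_eq_zero_of_fg_of_le_smul K N' hfg hle
  refine ⟨g, (fullList b gs).map ρ, hg1, ?_, ?_, ?_⟩
  · algebraize [ρ]
    exact IsWeaklyRegular.of_flat hL
  · rw [← hK₀eq]; exact hK₀le
  · intro x hx
    have := hg0 (Submodule.mkQ K₀ x) (Submodule.mem_map_of_mem hx)
    rw [← map_smul, Submodule.mkQ_apply, Submodule.Quotient.mk_eq_zero, smul_eq_mul] at this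
    rw [← hK₀eq]
    exact this

/-- passing to the localisation away from `g` -/
theorem loc_regular {D : Type u} [CommRing D] (K : Ideal D) (g : D) (rs : List D)
    (hg : g - 1 ∈ K) (hrs : IsWeaklyRegular D rs) (hle : Ideal.ofList rs ≤ K)
    (hmul : ∀ x ∈ K, g * x ∈ Ideal.ofList rs) (q : Ideal D) [q.IsPrime] (hq : K ≤ q)
    (D' : Type u) [CommRing D'] [Algebra D D'] [IsLocalization.Away g D'] :
    g ∉ q ∧ IsRegular D' (rs.map (algebraMap D D')) ∧
      K.map (algebraMap D D') = Ideal.ofList (rs.map (algebraMap D D')) := by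
  have hgq : g ∉ q := by
    intro h
    have h1 : g - 1 ∈ q := hq hg
    have : (1 : D) ∈ q := by
      have := q.sub_mem h h1
      simpa using this
    exact (Ideal.IsPrime.ne_top ‹_›) ((Ideal.eq_top_iff_one q).mpr this)
  have hKmap : K.map (algebraMap D D') = Ideal.ofList (rs.map (algebraMap D D')) := by
    rw [← Ideal.map_ofList]
    refine le_antisymm ?_ (Ideal.map_mono hle)
    rw [Ideal.map_le_iff_le_comap]
    intro x hx
    rw [Ideal.mem_comap]
    have hu : IsUnit (algebraMap D D' g) := IsLocalization.Away.algebraMap_isUnit g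
    have h1 : algebraMap D D' g * algebraMap D D' x ∈ (Ideal.ofList rs).map (algebraMap D D') := by
      rw [← map_mul]
      exact Ideal.mem_map_of_mem _ (hmul x hx)
    obtain ⟨u, hu'⟩ := hu
    have := Ideal.mul_mem_left _ (↑u⁻¹ : D') h1
    rwa [← mul_assoc, ← hu', Units.inv_mul, one_mul] at this
  refine ⟨hgq, ⟨?_, ?_⟩, hKmap⟩
  · exact IsWeaklyRegular.of_isLocalization D' (Submonoid.powers g) hrs
  · rw [smul_top_self, ← hKmap]
    intro h
    have hdisj : Disjoint (Submonoid.powers g : Set D) (q : Set D) :=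
      (Ideal.disjoint_powers_iff_notMem_of_isPrime _).mpr hgq
    have hprime := IsLocalization.isPrime_of_isPrime_disjoint (Submonoid.powers g) D' q ‹_› hdisj
    have : (⊤ : Ideal D') ≤ q.map (algebraMap D D') := by
      have h' : (⊤ : Ideal D') = K.map (algebraMap D D') := by
        ext y
        constructor
        · intro _
          have : y ∈ (⊤ : Submodule D' D') := trivial
          rw [h] at this
          exact this
        · intro _; trivial
      rw [h']
      exact Ideal.map_mono hq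
    exact hprime.ne_top (top_le_iff.mp this)

end Groth.Agent.Lib.SecReg
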