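import Mathlib
import Groth.Agent.Lib.SecReg2_helper2

/-!
# Sections of smooth algebras, part 3: étale coordinates compatible with base localisation (helper2)
-/

set_option autoImplicit false
universe u
open MvPolynomial RingTheory.Sequence

namespace Groth.Agent.Lib.SecReg

/-- **T2**: étale coordinates near a prime of a smooth algebra, compatible with localising the
base. -/
theorem T2 {A₀ D₀ : Type u} [CommRing A₀] [CommRing D₀] (φ₀ : A₀ →+* D₀) (hφ₀ : φ₀.Smooth)
    (q₀ : Ideal D₀) [q₀.IsPrime] :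
    ∃ f : D₀, f ∉ q₀ ∧ ∃ n : ℕ, ∀ (a : A₀) (A D : Type u) [CommRing A] [CommRing D]
      (ιA : A₀ →+* A) (ιD : D₀ →+* D) (φ : A →+* D), φ.comp ιA = ιD.comp φ₀ →
      (letI := ιA.toAlgebra; IsLocalization.Away a A) →
      (letI := ιD.toAlgebra; IsLocalization.Away (f * φ₀ a) D) →
      ∃ ρ : MvPolynomial (Fin n) A →+* D, ρ.comp C = φ ∧ ρ.Flat ∧ ρ.FormallyUnramified := by
  algebraize [φ₀]
  obtain ⟨f, hf, n, alg, tower, hse⟩ :=
    Algebra.IsSmoothAt.exists_isStandardEtale_mvPolynomial (R := A₀) (S := D₀) (p := q₀)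
  refine ⟨f, hf, n, ?_⟩
  intro a A D _ _ ιA ιD φ hcomm hA hD
  letI algA : Algebra A₀ A := ιA.toAlgebra
  letI algD : Algebra D₀ D := ιD.toAlgebra
  haveI : IsLocalization.Away a A := hA
  haveI : IsLocalization.Away (f * φ₀ a) D := hD
  have hunit : IsUnit (ιD (f * φ₀ a)) := IsLocalization.Away.algebraMap_isUnit (S := D) (f * φ₀ a)
  have hunitf : IsUnit (ιD f) := by
    rw [map_mul] at hunit
    exact (IsUnit.mul_iff.mp hunit).1
  let L := Localization.Away f
  let lam : L →+* D := IsLocalization.Away.lift (S := L) f (g := ιD) hunitf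
  have hlam : lam.comp (algebraMap D₀ L) = ιD := IsLocalization.Away.lift_comp _ _
  let T := Localization.Away (algebraMap D₀ L (φ₀ a))
  haveI : IsLocalization.Away (f * φ₀ a) T := inferInstance
  let e : T ≃ₐ[D₀] D := IsLocalization.algEquiv (Submonoid.powers (f * φ₀ a)) T D
  have hlam' : lam = (e : T →+* D).comp (algebraMap L T) := by
    apply IsLocalization.ringHom_ext (Submonoid.powers f)
    rw [hlam]
    ext x
    show ιD x = e (algebraMap L T (algebraMap D₀ L x))
    rw [← IsScalarTower.algebraMap_apply D₀ L T, e.commutes]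
    rfl
  have hlamflat : lam.Flat := by
    rw [hlam']
    exact RingHom.Flat.comp (RingHom.flat_algebraMap_iff.mpr inferInstance)
      (RingHom.Flat.of_bijective e.bijective)
  have hlamunr : lam.FormallyUnramified := by
    rw [hlam']
    exact RingHom.FormallyUnramified.comp
      (RingHom.formallyUnramified_algebraMap.mpr inferInstance)
      (RingHom.FormallyUnramified.of_surjective e.surjective)
  let ρ₁ : MvPolynomial (Fin n) A₀ →+* L := algebraMap _ L
  have hρ₁flat : ρ₁.Flat := RingHom.flat_algebraMap_iff.mpr inferInstance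
  have hρ₁unr : ρ₁.FormallyUnramified := RingHom.formallyUnramified_algebraMap.mpr inferInstance
  let ρ₀ : MvPolynomial (Fin n) A₀ →+* D := lam.comp ρ₁
  have hρ₀flat : ρ₀.Flat := RingHom.Flat.comp hρ₁flat hlamflat
  have hρ₀unr : ρ₀.FormallyUnramified := RingHom.FormallyUnramified.comp hρ₁unr hlamunr
  have hρ₀C : ∀ c : A₀, ρ₀ (C c) = φ (ιA c) := by
    intro c
    show lam (algebraMap (MvPolynomial (Fin n) A₀) L (C c)) = _
    have h1 : algebraMap (MvPolynomial (Fin n) A₀) L (C c) = algebraMap D₀ L (φ₀ c) := by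
      rw [← MvPolynomial.algebraMap_eq, ← IsScalarTower.algebraMap_apply A₀ _ L,
        IsScalarTower.algebraMap_apply A₀ D₀ L]
      rfl
    rw [h1]
    have h2 := RingHom.congr_fun hlam (φ₀ c)
    have h3 := RingHom.congr_fun hcomm c
    simp only [RingHom.comp_apply] at h2 h3
    rw [h2, h3]
  let ρ : MvPolynomial (Fin n) A →+* D := eval₂Hom φ (fun i => ρ₀ (X i))
  have hρC : ρ.comp C = φ := by
    ext x
    simp [ρ]
  have hρmap : ρ.comp (MvPolynomial.map ιA) = ρ₀ := by
    apply MvPolynomial.ringHom_ext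
    · intro c
      simp only [RingHom.comp_apply, map_C]
      rw [hρ₀C c]
      simp [ρ]
    · intro i
      simp [ρ]
  refine ⟨ρ, hρC, ?_, ?_⟩
  · letI algP : Algebra (MvPolynomial (Fin n) A₀) (MvPolynomial (Fin n) A) :=
      MvPolynomial.algebraMvPolynomial
    haveI hloc : IsLocalization ((Submonoid.powers a).map (C (σ := Fin n)))
        (MvPolynomial (Fin n) A) := MvPolynomial.isLocalization (Submonoid.powers a) A
    letI algρ : Algebra (MvPolynomial (Fin n) A) D := ρ.toAlgebra
    letI algρ₀ : Algebra (MvPolynomial (Fin n) A₀) D := ρ₀.toAlgebra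
    haveI : IsScalarTower (MvPolynomial (Fin n) A₀) (MvPolynomial (Fin n) A) D :=
      IsScalarTower.of_algebraMap_eq' (by
        show ρ₀ = ρ.comp (MvPolynomial.map (algebraMap A₀ A))
        rw [← hρmap]
        rfl)
    have hflat₀ : Module.Flat (MvPolynomial (Fin n) A₀) D := hρ₀flat
    exact (Module.flat_iff_of_isLocalization (MvPolynomial (Fin n) A)
      ((Submonoid.powers a).map (C (σ := Fin n))) D).mpr hflat₀
  · apply RingHom.FormallyUnramified.of_comp (f := MvPolynomial.map ιA)
    rw [hρmap]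
    exact hρ₀unr

/-- **T3** -/
theorem T3 {A₀ D₀ : Type u} [CommRing A₀] [CommRing D₀] (φ₀ : A₀ →+* D₀) (hφ₀ : φ₀.Smooth)
    (q₀ : Ideal D₀) [q₀.IsPrime] :
    ∃ f : D₀, f ∉ q₀ ∧ ∀ (a : A₀) (A D C' : Type u) [CommRing A] [CommRing D] [CommRing C']
      (ιA : A₀ →+* A) (ιD : D₀ →+* D) (φ : A →+* D), φ.comp ιA = ιD.comp φ₀ →
      (letI := ιA.toAlgebra; IsLocalization.Away a A) →
      (letI := ιD.toAlgebra; IsLocalization.Away (f * φ₀ a) D) →
      ∀ (π : D →+* C'), Function.Surjective (π.comp φ) → ∀ (gs : List A),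
      IsWeaklyRegular A gs → RingHom.ker (π.comp φ) = Ideal.ofList gs →
      ∃ (g : D) (rs : List D), g - 1 ∈ RingHom.ker π ∧ IsWeaklyRegular D rs ∧
        Ideal.ofList rs ≤ RingHom.ker π ∧ ∀ x ∈ RingHom.ker π, g * x ∈ Ideal.ofList rs := by
  obtain ⟨f, hf, n, H⟩ := T2 φ₀ hφ₀ q₀
  refine ⟨f, hf, ?_⟩
  intro a A D C' _ _ _ ιA ιD φ hcomm hA hD π hsurj gs hgs hker
  obtain ⟨ρ, hρC, hρflat, hρunr⟩ := H a A D ιA ιD φ hcomm hA hD
  have hφfp : φ.FinitePresentation := by
    apply RingHom.FinitePresentation.of_comp_finiteType ιA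
    · rw [hcomm]
      refine RingHom.FinitePresentation.comp ?_ hφ₀.finitePresentation
      letI := ιD.toAlgebra
      haveI : IsLocalization.Away (f * φ₀ a) D := hD
      have : Algebra.FinitePresentation D₀ D := IsLocalization.Away.finitePresentation (f * φ₀ a)
      exact this
    · letI := ιA.toAlgebra
      haveI : IsLocalization.Away a A := hA
      have : Algebra.FinitePresentation A₀ A := IsLocalization.Away.finitePresentation a
      have h2 : Algebra.FiniteType A₀ A := inferInstance
      exact h2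
  have hπφfp : (π.comp φ).FinitePresentation := by
    apply RingHom.FinitePresentation.of_surjective _ hsurj
    rw [hker]
    exact Submodule.fg_span (List.finite_toSet gs)
  have hπsurj : Function.Surjective π := fun c => by
    obtain ⟨x, hx⟩ := hsurj c
    exact ⟨φ x, hx⟩
  have hK : (RingHom.ker π).FG := by
    letI := φ.toAlgebra
    letI := (π.comp φ).toAlgebra
    let πa : D →ₐ[A] C' := { toRingHom := π, commutes' := fun x => rfl }
    haveI : Algebra.FinitePresentation A D := hφfp
    haveI : Algebra.FinitePresentation A C' := hπφfp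
    exact Algebra.FinitePresentation.ker_fG_of_surjective πa hπsurj
  apply T1 n ρ hρflat hρunr π (by rw [hρC]; exact hsurj) gs hgs (by rw [hρC]; exact hker) hK

end Groth.Agent.Lib.SecReg
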