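import Mathlib
import Groth.Prelude.Def_Mor2
import Groth.Agent.Lib.SecReg3_helper2
import Groth.Agent.Lib.FpqcRegImm_helper2

/-!
# Regular closed immersions into smooth schemes (helper2): S1676, S1678
-/

set_option autoImplicit false
universe u
open CategoryTheory CategoryTheory.Limits AlgebraicGeometry TopologicalSpace RingTheory.Sequence

namespace Groth.Agent.Lib.SecRegSch

open Groth.Agent.Lib.SecReg Groth.Agent.Lib.RegImmComp Groth.Agent.Lib.FpqcReg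

variable {X Y S : Scheme.{u}}

/-- **S1678** -/
theorem main1678 (p : X ⟶ S) [Smooth p] (i : Y ⟶ X) (j : Y ⟶ S)
    [IsClosedImmersion i] [IsClosedImmersion j] (h : i ≫ p = j)
    (hj : Mor2.IsRegularClosedImmersion j) : Mor2.IsRegularClosedImmersion i := by
  subst h
  refine ⟨inferInstance, fun y => ?_⟩
  obtain ⟨V₀, hV₀, hyV₀, gs₀, hgs₀, hker₀⟩ := hj.2 y
  have hpy : (i ≫ p) y = p (i y) := rfl
  have hx0 : i y ∈ p ⁻¹ᵁ V₀ := hyV₀
  obtain ⟨U₀, hU₀, hxU₀, hU₀V₀⟩ := (Opens.isBasis_iff_nbhd.mp X.isBasis_affineOpens) hx0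
  set φ₀ := (p.appLE V₀ U₀ hU₀V₀).hom with hφ₀def
  have hφ₀ : φ₀.Smooth :=
    HasRingHomProperty.appLE (P := @Smooth) p inferInstance ⟨V₀, hV₀⟩ ⟨U₀, hU₀⟩ hU₀V₀
  obtain ⟨f, hfq, H⟩ := T3 φ₀ hφ₀ (hU₀.primeIdealOf ⟨i y, hxU₀⟩).asIdeal
  have hxf : i y ∈ X.basicOpen f :=
    (mem_basicOpen_iff_notMem_primeIdealOf hU₀ ⟨i y, hxU₀⟩ f).mpr hfq
  -- choose `a`
  have hemb : Topology.IsEmbedding (i ≫ p) := (i ≫ p).isEmbedding
  obtain ⟨W, hWo, hW⟩ := hemb.isInducing.isOpen_iff.mp (i ⁻¹ᵁ X.basicOpen f).2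
  have hyW : (i ≫ p) y ∈ W := by
    have : y ∈ (i ≫ p) ⁻¹' W := by rw [hW]; exact hxf
    exact this
  obtain ⟨a, haW, hya⟩ := hV₀.exists_basicOpen_le (V := ⟨W, hWo⟩) ⟨(i ≫ p) y, hyW⟩ hyV₀
  have hVV₀ : S.basicOpen a ≤ V₀ := S.basicOpen_le a
  have hVaff : IsAffineOpen (S.basicOpen a) := hV₀.basicOpen a
  have hφ₀a : X.basicOpen (φ₀ a) = U₀ ⊓ p ⁻¹ᵁ S.basicOpen a := by
    rw [hφ₀def, Scheme.Hom.appLE, CommRingCat.hom_comp, RingHom.comp_apply,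
      Scheme.basicOpen_res, Scheme.preimage_basicOpen]
  have hUU₀ : X.basicOpen (f * φ₀ a) ≤ U₀ := X.basicOpen_le _
  have hUaff : IsAffineOpen (X.basicOpen (f * φ₀ a)) := hU₀.basicOpen _
  have hUeq : X.basicOpen (f * φ₀ a) = X.basicOpen f ⊓ (U₀ ⊓ p ⁻¹ᵁ S.basicOpen a) := by
    rw [Scheme.basicOpen_mul, hφ₀a]
  have hUV : X.basicOpen (f * φ₀ a) ≤ p ⁻¹ᵁ S.basicOpen a := by
    rw [hUeq]; exact inf_le_right.trans inf_le_right
  have hxU : i y ∈ X.basicOpen (f * φ₀ a) := by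
    rw [hUeq]; exact ⟨hxf, hxU₀, hya⟩
  -- the opens of `Y`
  have hopen : i ⁻¹ᵁ X.basicOpen (f * φ₀ a) = (i ≫ p) ⁻¹ᵁ S.basicOpen a := by
    apply le_antisymm
    · intro y' hy'
      exact hUV hy'
    · intro y' hy'
      have h1 : (i ≫ p) y' ∈ W := haW hy'
      have h2 : y' ∈ (i ≫ p) ⁻¹' W := h1
      rw [hW] at h2
      have h3 : i y' ∈ X.basicOpen f := h2
      show i y' ∈ X.basicOpen (f * φ₀ a)
      rw [hUeq]
      exact ⟨h3, X.basicOpen_le f h3, hy'⟩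
  -- ring data
  set ιA := (S.presheaf.map (homOfLE hVV₀).op).hom with hιA
  set ιD := (X.presheaf.map (homOfLE hUU₀).op).hom with hιD
  set φ := (p.appLE (S.basicOpen a) (X.basicOpen (f * φ₀ a)) hUV).hom with hφ
  set π := (i.app (X.basicOpen (f * φ₀ a))).hom with hπ
  have hA : (letI := ιA.toAlgebra; IsLocalization.Away a Γ(S, S.basicOpen a)) :=
    hV₀.isLocalization_of_eq_basicOpen a (homOfLE hVV₀) rfl
  have hD : (letI := ιD.toAlgebra; IsLocalization.Away (f * φ₀ a) Γ(X, X.basicOpen (f * φ₀ a))) :=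
    hU₀.isLocalization_of_eq_basicOpen (f * φ₀ a) (homOfLE hUU₀) rfl
  have hcomm : φ.comp ιA = ιD.comp φ₀ := by
    have e1 : S.presheaf.map (homOfLE hVV₀).op ≫
        p.appLE (S.basicOpen a) (X.basicOpen (f * φ₀ a)) hUV =
        p.appLE V₀ (X.basicOpen (f * φ₀ a)) (hUU₀.trans hU₀V₀) := p.map_appLE _ _
    have e2 : p.appLE V₀ U₀ hU₀V₀ ≫ X.presheaf.map (homOfLE hUU₀).op =
        p.appLE V₀ (X.basicOpen (f * φ₀ a)) (hUU₀.trans hU₀V₀) := p.appLE_map _ _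
    show (p.appLE (S.basicOpen a) (X.basicOpen (f * φ₀ a)) hUV).hom.comp
        (S.presheaf.map (homOfLE hVV₀).op).hom =
      (X.presheaf.map (homOfLE hUU₀).op).hom.comp (p.appLE V₀ U₀ hU₀V₀).hom
    rw [← CommRingCat.hom_comp, ← CommRingCat.hom_comp, e1, e2]
  -- the closed immersion `i ≫ p` on `V`
  have hcV₀ : IsClosedImmersion ((i ≫ p) ∣_ V₀) := inferInstance
  have hcV : IsClosedImmersion ((i ≫ p) ∣_ S.basicOpen a) := inferInstance
  obtain ⟨hYV₀, -⟩ := affine_and_surjective (i ≫ p) hV₀ hcV₀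
  obtain ⟨hYV, hsurjV⟩ := affine_and_surjective (i ≫ p) hVaff hcV
  have hle' : i ⁻¹ᵁ X.basicOpen (f * φ₀ a) ≤ (i ≫ p) ⁻¹ᵁ S.basicOpen a := hopen.le
  have hπφ : π.comp φ = (Y.presheaf.map (homOfLE hle').op).hom.comp
      ((i ≫ p).app (S.basicOpen a)).hom := by
    have e3 : p.appLE (S.basicOpen a) (X.basicOpen (f * φ₀ a)) hUV ≫
        i.app (X.basicOpen (f * φ₀ a)) =
        (i ≫ p).app (S.basicOpen a) ≫ Y.presheaf.map (homOfLE hle').op := by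
      rw [i.app_eq_appLE, Scheme.Hom.appLE_comp_appLE]
      rfl
    show (i.app (X.basicOpen (f * φ₀ a))).hom.comp
        (p.appLE (S.basicOpen a) (X.basicOpen (f * φ₀ a)) hUV).hom =
      (Y.presheaf.map (homOfLE hle').op).hom.comp ((i ≫ p).app (S.basicOpen a)).hom
    rw [← CommRingCat.hom_comp, ← CommRingCat.hom_comp, e3]
  have hbij : Function.Bijective (Y.presheaf.map (homOfLE hle').op).hom := by
    have : homOfLE hle' = eqToHom hopen := Subsingleton.elim _ _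
    rw [this]
    exact ConcreteCategory.bijective_of_isIso (Y.presheaf.map (eqToHom hopen).op)
  have hsurj : Function.Surjective (π.comp φ) := by
    rw [hπφ, RingHom.coe_comp]
    exact hbij.2.comp hsurjV
  letI algA : Algebra Γ(S, V₀) Γ(S, S.basicOpen a) := ιA.toAlgebra
  haveI : IsLocalization.Away a Γ(S, S.basicOpen a) := hA
  have hgs : IsWeaklyRegular Γ(S, S.basicOpen a) (gs₀.map ιA) :=
    IsWeaklyRegular.of_isLocalization Γ(S, S.basicOpen a) (Submonoid.powers a)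
      hgs₀.toIsWeaklyRegular
  have hker : RingHom.ker (π.comp φ) = Ideal.ofList (gs₀.map ιA) := by
    rw [hπφ, RingHom.ker_comp_of_injective _ hbij.1,
      ker_app_basicOpen (i ≫ p) hV₀ hYV₀ a (S.basicOpen a) rfl hVV₀,
      ← Scheme.Hom.ker_apply (i ≫ p) ⟨V₀, hV₀⟩, hker₀, Ideal.map_ofList]
  obtain ⟨g, rs, hg1, hrs, hle, hmul⟩ :=
    H a Γ(S, S.basicOpen a) Γ(X, X.basicOpen (f * φ₀ a)) Γ(Y, i ⁻¹ᵁ X.basicOpen (f * φ₀ a))
      ιA ιD φ hcomm hA hD π hsurj (gs₀.map ιA) hgs hker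
  -- localise at `g`
  have hq : RingHom.ker π ≤ (hUaff.primeIdealOf ⟨i y, hxU⟩).asIdeal :=
    ker_le_primeIdealOf i hUaff y hxU
  have hU'U : X.basicOpen g ≤ X.basicOpen (f * φ₀ a) := X.basicOpen_le g
  have hU'aff : IsAffineOpen (X.basicOpen g) := hUaff.basicOpen g
  letI algD' : Algebra Γ(X, X.basicOpen (f * φ₀ a)) Γ(X, X.basicOpen g) :=
    (X.presheaf.map (homOfLE hU'U).op).hom.toAlgebra
  haveI : IsLocalization.Away g Γ(X, X.basicOpen g) :=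
    hUaff.isLocalization_of_eq_basicOpen g (homOfLE hU'U) rfl
  obtain ⟨hgq, hreg, hmap⟩ := loc_regular (RingHom.ker π) g rs hg1 hrs hle hmul
    (hUaff.primeIdealOf ⟨i y, hxU⟩).asIdeal hq Γ(X, X.basicOpen g)
  have hcU : IsClosedImmersion (i ∣_ X.basicOpen (f * φ₀ a)) := inferInstance
  obtain ⟨hYU, -⟩ := affine_and_surjective i hUaff hcU
  refine ⟨X.basicOpen g, hU'aff,
    (mem_basicOpen_iff_notMem_primeIdealOf hUaff ⟨i y, hxU⟩ g).mpr hgq,
    rs.map (algebraMap Γ(X, X.basicOpen (f * φ₀ a)) Γ(X, X.basicOpen g)), hreg, ?_⟩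
  rw [Scheme.Hom.ker_apply i ⟨X.basicOpen g, hU'aff⟩,
    ker_app_basicOpen i hUaff hYU g (X.basicOpen g) rfl hU'U]
  exact hmap

/-- **S1676** -/
theorem main1676 (f : X ⟶ S) [Smooth f] (σ : S ⟶ X) (hσ : σ ≫ f = 𝟙 S) [IsClosedImmersion σ] :
    Mor2.IsRegularClosedImmersion σ := by
  apply main1678 f σ (𝟙 S) hσ
  refine ⟨inferInstance, fun z => ?_⟩
  obtain ⟨U, hU, hzU, -⟩ := (Opens.isBasis_iff_nbhd.mp S.isBasis_affineOpens)
    (show z ∈ (⊤ : S.Opens) from trivial)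
  haveI : Nonempty U := ⟨⟨z, hzU⟩⟩
  haveI : Nontrivial Γ(S, U) := by
    haveI : Nonempty (U : Scheme.{u}) := ‹Nonempty U›
    exact (inferInstance : Nontrivial Γ(S, U))
  refine ⟨U, hU, hzU, [], IsRegular.nil _ _, ?_⟩
  rw [Scheme.Hom.ker_apply (𝟙 S) ⟨U, hU⟩, Ideal.ofList_nil]
  rw [← RingHom.injective_iff_ker_eq_bot]
  have : (Scheme.Hom.app (𝟙 S) U) = 𝟙 _ := by simp
  rw [this]
  exact fun _ _ h => h

end Groth.Agent.Lib.SecRegSch
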