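import Mathlib

/-! A dimension count on binary forms (lead). -/

open MvPolynomial

namespace Groth.Agent.Lib.SecantSpan_lead

variable {K : Type*} [Field K]

/-- The monomial `X₀^a X₁^b`. -/
noncomputable def mon (a b : ℕ) : MvPolynomial (Fin 2) K := X 0 ^ a * X 1 ^ b

theorem mon_mem (a b : ℕ) :
    (mon a b : MvPolynomial (Fin 2) K) ∈ homogeneousSubmodule (Fin 2) K (a + b) := by
  rw [mem_homogeneousSubmodule]
  exact (isHomogeneous_X_pow 0 a).mul (isHomogeneous_X_pow 1 b)

theorem mem_span_mon (N : ℕ) (h : MvPolynomial (Fin 2) K)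
    (hh : h ∈ homogeneousSubmodule (Fin 2) K N) :
    h ∈ Submodule.span K
      (Set.range fun a : Fin (N + 1) => (mon (a : ℕ) (N - a) : MvPolynomial (Fin 2) K)) := by
  rw [mem_homogeneousSubmodule] at hh
  rw [as_sum h]
  refine Submodule.sum_mem _ fun m hm => ?_
  have hc : coeff m h ≠ 0 := mem_support_iff.mp hm
  have h1 : Finsupp.weight (1 : Fin 2 → ℕ) m = N := hh hc
  have h2 : m.degree = N := by rw [Finsupp.degree_eq_weight_one]; exact h1
  rw [Finsupp.degree_eq_sum, Fin.sum_univ_two] at h2
  have hmon : monomial m (coeff m h) =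
      coeff m h • (mon (m 0) (N - m 0) : MvPolynomial (Fin 2) K) := by
    rw [monomial_eq, Finsupp.prod_fintype _ _ (fun i => pow_zero _), Fin.prod_univ_two, C_mul']
    unfold mon
    have h3 : m 1 = N - m 0 := by omega
    rw [h3]
  rw [hmon]
  exact Submodule.smul_mem _ _ (Submodule.subset_span ⟨⟨m 0, by omega⟩, rfl⟩)

theorem finite_span_mon (N : ℕ) : Module.Finite K ↥(Submodule.span K
    (Set.range fun a : Fin (N + 1) => (mon (a : ℕ) (N - a) : MvPolynomial (Fin 2) K))) :=
  FiniteDimensional.span_of_finite K (Set.finite_range _)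

theorem finite_homog (N : ℕ) : Module.Finite K ↥(homogeneousSubmodule (Fin 2) K N) := by
  haveI := finite_span_mon (K := K) N
  exact Submodule.finiteDimensional_of_le (fun h hh => mem_span_mon N h hh)

theorem finrank_homog_le (N : ℕ) :
    Module.finrank K ↥(homogeneousSubmodule (Fin 2) K N) ≤ N + 1 := by
  haveI := finite_span_mon (K := K) N
  calc Module.finrank K ↥(homogeneousSubmodule (Fin 2) K N)
      ≤ Module.finrank K ↥(Submodule.span K
          (Set.range fun a : Fin (N + 1) => (mon (a : ℕ) (N - a) : MvPolynomial (Fin 2) K))) :=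
        Submodule.finrank_mono (fun h hh => mem_span_mon N h hh)
    _ ≤ Fintype.card (Fin (N + 1)) := finrank_range_le_card _
    _ = N + 1 := Fintype.card_fin _

theorem hmonev (a b : ℕ) :
    aeval (![Polynomial.X, 1] : Fin 2 → Polynomial K) (mon a b : MvPolynomial (Fin 2) K) =
      Polynomial.X ^ a := by
  simp [mon]

theorem main (n r k : ℕ) (hkn : k ≤ n) (hineq : (r + 1) * (n + 1) ≤ (r + 2) * k)
    (U : Submodule K (MvPolynomial (Fin 2) K))
    (hU : U ≤ MvPolynomial.homogeneousSubmodule (Fin 2) K n)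
    (hcodim : Module.finrank K ↥U + (r + 1) = n + 1) :
    ∃ g ∈ MvPolynomial.homogeneousSubmodule (Fin 2) K k, g ≠ 0 ∧
      ∀ h ∈ MvPolynomial.homogeneousSubmodule (Fin 2) K (n - k), g * h ∈ U := by
  obtain ⟨m, rfl⟩ := Nat.exists_eq_add_of_le hkn
  have hm : k + m - k = m := by omega
  rw [hm]
  haveI hfinS : Module.Finite K ↥(homogeneousSubmodule (Fin 2) K (k + m)) := finite_homog (k + m)
  let U' : Submodule K ↥(homogeneousSubmodule (Fin 2) K (k + m)) :=
    U.comap (homogeneousSubmodule (Fin 2) K (k + m)).subtype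
  have hU'rank : Module.finrank K ↥U' = Module.finrank K ↥U :=
    (Submodule.comapSubtypeEquivOfLe hU).finrank_eq
  have hQ : Module.finrank K (↥(homogeneousSubmodule (Fin 2) K (k + m)) ⧸ U') ≤ r + 1 := by
    have h1 := U'.finrank_quotient_add_finrank
    have h2 := finrank_homog_le (K := K) (k + m)
    omega
  let G : (Fin (k + 1) → K) →ₗ[K] MvPolynomial (Fin 2) K :=
    ∑ b : Fin (k + 1),
      (LinearMap.proj b : (Fin (k + 1) → K) →ₗ[K] K).smulRight (mon (b : ℕ) (k - b))
  have hG : ∀ c, G c =
      ∑ b : Fin (k + 1), c b • (mon (b : ℕ) (k - b) : MvPolynomial (Fin 2) K) := by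
    intro c; simp [G, LinearMap.sum_apply]
  have hGmem : ∀ c, G c ∈ homogeneousSubmodule (Fin 2) K k := by
    intro c
    rw [hG]
    refine Submodule.sum_mem _ fun b _ => Submodule.smul_mem _ _ ?_
    have h1 := mon_mem (K := K) (b : ℕ) (k - b)
    have h2 : (b : ℕ) + (k - b) = k := by have := b.is_lt; omega
    rwa [h2] at h1
  have hmulmem : ∀ c (a : Fin (m + 1)),
      G c * mon (a : ℕ) (m - a) ∈ homogeneousSubmodule (Fin 2) K (k + m) := by
    intro c a
    have h1 := hGmem c
    have h2 := mon_mem (K := K) (a : ℕ) (m - a)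
    have h3 : (a : ℕ) + (m - a) = m := by have := a.is_lt; omega
    rw [h3] at h2
    rw [mem_homogeneousSubmodule] at h1 h2 ⊢
    exact h1.mul h2
  let Φ : (Fin (k + 1) → K) →ₗ[K]
      (Fin (m + 1) → (↥(homogeneousSubmodule (Fin 2) K (k + m)) ⧸ U')) :=
    LinearMap.pi fun a => U'.mkQ ∘ₗ LinearMap.codRestrict (homogeneousSubmodule (Fin 2) K (k + m))
      ((LinearMap.mulRight K (mon (a : ℕ) (m - a) : MvPolynomial (Fin 2) K)) ∘ₗ G)
      (fun c => hmulmem c a)
  have hninj : ¬ Function.Injective Φ := by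
    intro hinj
    haveI hfree : Module.Free K (↥(homogeneousSubmodule (Fin 2) K (k + m)) ⧸ U') :=
      Module.Free.of_divisionRing K _
    have h1 := LinearMap.finrank_le_finrank_of_injective hinj
    rw [Module.finrank_fin_fun, Module.finrank_pi_fintype] at h1
    simp only [Finset.sum_const, Finset.card_univ, Fintype.card_fin, smul_eq_mul] at h1
    have h2 : (m + 1) * Module.finrank K (↥(homogeneousSubmodule (Fin 2) K (k + m)) ⧸ U') ≤
        (m + 1) * (r + 1) := Nat.mul_le_mul_left _ hQ
    have h3 : (m + 1) * (r + 1) ≤ k := by nlinarith [hineq]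
    omega
  rw [injective_iff_map_eq_zero] at hninj
  push_neg at hninj
  obtain ⟨c, hc0, hcne⟩ := hninj
  have hcoeff : ∀ b₀ : Fin (k + 1),
      (aeval (![Polynomial.X, 1] : Fin 2 → Polynomial K) (G c)).coeff (b₀ : ℕ) = c b₀ := by
    intro b₀
    rw [hG, map_sum, Polynomial.finsetSum_coeff, Finset.sum_eq_single b₀]
    · rw [map_smul, hmonev, Polynomial.coeff_smul, Polynomial.coeff_X_pow, if_pos rfl, smul_eq_mul,
        mul_one]
    · intro b _ hb
      rw [map_smul, hmonev, Polynomial.coeff_smul, Polynomial.coeff_X_pow,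
        if_neg (fun h => hb (Fin.ext h.symm)), smul_zero]
    · intro h; exact absurd (Finset.mem_univ _) h
  refine ⟨G c, hGmem c, ?_, ?_⟩
  · intro hg
    apply hcne
    funext b₀
    have h1 := hcoeff b₀
    rw [hg, map_zero, Polynomial.coeff_zero] at h1
    exact h1.symm
  · intro h hh
    have hspan := mem_span_mon m h hh
    clear hh
    induction hspan using Submodule.span_induction with
    | mem x hx =>
      obtain ⟨a, rfl⟩ := hx
      have h1 : Φ c a = 0 := by rw [hc0]; rfl
      have h2 : (⟨G c * mon (a : ℕ) (m - a), hmulmem c a⟩ :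
          ↥(homogeneousSubmodule (Fin 2) K (k + m))) ∈ U' := by
        rw [← Submodule.Quotient.mk_eq_zero]
        exact h1
      exact h2
    | zero => rw [mul_zero]; exact U.zero_mem
    | add x y _ _ hx hy => rw [mul_add]; exact U.add_mem hx hy
    | smul t x _ hx => rw [mul_smul_comm]; exact U.smul_mem t hx

end Groth.Agent.Lib.SecantSpan_lead
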