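import Mathlib
import Groth.Prelude.Def_FibCat2
import Groth.Prelude.Def_AlgSt
import Groth.Prelude.Def_W4c2modmodulilectNerve
import Groth.Agent.Lib.FibCat3_helper6

set_option autoImplicit false
set_option linter.unusedSimpArgs false
set_option linter.unusedVariables false
set_option linter.unusedSectionVars false
set_option linter.style.longLine false
set_option linter.unnecessarySimpa false
set_option linter.style.haveILetI false
set_option maxHeartbeats 1600000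
set_option backward.isDefEq.respectTransparency false
set_option backward.isDefEq.respectTransparency.types false
set_option backward.defeqAttrib.useBackward true

universe w uJ vJ u₁ u₂ u₃ v₁ v₂ v₃

open CategoryTheory CategoryTheory.Functor

namespace Groth.Agent.Lib.Sect15552

noncomputable section

section generic

/-- every functor to a groupoid of the given size is isomorphic to a constant one -/
def EssConst (J : Type uJ) [Category.{vJ} J] : Prop :=
  Nonempty J ∧ ∀ (G : Type w) [Groupoid.{w} G] (T : J ⥤ G),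
    ∃ g : G, Nonempty ((Functor.const J).obj g ≅ T)

theorem essConst_of_hcn {J : Type uJ} [Category.{vJ} J]
    (h : W4c2modmodulilect.HasContractibleNerve.{w, w} J) : EssConst.{w} J := by
  refine ⟨h.1, ?_⟩
  intro G _ T
  haveI := h.2 G
  exact ⟨(Functor.const J).objPreimage T, ⟨(Functor.const J).objObjPreimageIso T⟩⟩

/-- the groupoid structure on `AsSmall` of a groupoid -/
def asSmallGroupoid (E : Type uJ) [Category.{vJ} E] [IsGroupoid E] : Groupoid (AsSmall.{w} E) :=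
  Groupoid.ofIsIso (fun {X Y} f => by
    haveI : (AsSmall.down : AsSmall.{w} E ⥤ E).IsEquivalence :=
      (AsSmall.equiv (C := E)).isEquivalence_inverse
    haveI : IsIso ((AsSmall.down : AsSmall.{w} E ⥤ E).map f) := inferInstance
    exact isIso_of_reflects_iso f (AsSmall.down : AsSmall.{w} E ⥤ E))

end generic

variable {C : Type u₁} [Category.{v₁} C] {D : Type u₂} [Category.{v₂} D] {F : Type u₃}
  [Category.{v₃} F]

theorem fiber_isGroupoid' (p : F ⥤ D) (hp : FibCat.IsFibGrpd p) (Y : D) :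
    IsGroupoid (p.Fiber Y) := by
  refine ⟨fun {a b} f => ?_⟩
  haveI hf : p.IsHomLift (𝟙 Y) f.1 := f.2
  haveI : IsIso f.1 := Groth.Agent.Lib.FibCat_helper6.isIso_of_isFibGrpd_id hp (R := Y) f.1
  have hinv : p.IsHomLift (𝟙 Y) (inv f.1) := inferInstance
  exact ⟨⟨⟨inv f.1, hinv⟩, Subtype.ext (IsIso.hom_inv_id f.1), Subtype.ext (IsIso.inv_hom_id f.1)⟩⟩

theorem isPreconnected_SA (φ : C ⥤ D) (p : F ⥤ D) (Y : D)
    (h : EssConst.{max u₁ u₂ u₃ v₁ v₂ v₃} (StructuredArrow Y φ)) :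
    IsPreconnected (StructuredArrow Y φ) := by
  apply IsPreconnected.of_constant_of_preserves_morphisms
  intro α c hc j j'
  let T : StructuredArrow Y φ ⥤ Discrete (ULift.{max u₁ u₂ u₃ v₁ v₂ v₃} α) :=
    { obj := fun A => ⟨⟨c A⟩⟩
      map := fun {A A'} m => eqToHom (by rw [hc m]) }
  obtain ⟨g, ⟨θ⟩⟩ := h.2 (Discrete (ULift.{max u₁ u₂ u₃ v₁ v₂ v₃} α)) T
  have e : ∀ A, c A = g.as.down := fun A => by
    have := Discrete.eq_of_hom (θ.hom.app A)
    exact (congrArg ULift.down this).symm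
  rw [e j, e j']

/-- cones over a diagram section -/
structure Cone (φ : C ⥤ D) (p : F ⥤ D) (σ : C ⥤ F) (Y : D) where
  /-- vertex -/
  s : F
  /-- legs -/
  r : ∀ (X : C) (a : Y ⟶ φ.obj X), s ⟶ σ.obj X
  /-- legs lie over the structure arrows -/
  hr : ∀ (X : C) (a : Y ⟶ φ.obj X), p.IsHomLift a (r X a)
  /-- compatibility -/
  nat : ∀ {X X' : C} (a : Y ⟶ φ.obj X) (h : X ⟶ X'), r X a ≫ σ.map h = r X' (a ≫ φ.map h)

section core

variable (φ : C ⥤ D) (p : F ⥤ D)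

theorem cone_lift (hp : FibCat.IsFibGrpd p) {σ : C ⥤ F} {Y : D}
    (hne : Nonempty (StructuredArrow Y φ)) [IsPreconnected (StructuredArrow Y φ)]
    (c : Cone φ p σ Y) {Y' : D} (b : Y' ⟶ Y) (z : F)
    (τ : ∀ (X : C) (a : Y ⟶ φ.obj X), z ⟶ σ.obj X)
    (hτ : ∀ (X : C) (a : Y ⟶ φ.obj X), p.IsHomLift (b ≫ a) (τ X a))
    (τnat : ∀ {X X' : C} (a : Y ⟶ φ.obj X) (h : X ⟶ X'),
      τ X a ≫ σ.map h = τ X' (a ≫ φ.map h)) :
    ∃ u : z ⟶ c.s, p.IsHomLift b u ∧ (∀ X a, u ≫ c.r X a = τ X a) ∧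
      ∀ u' : z ⟶ c.s, p.IsHomLift b u' → (∀ X a, u' ≫ c.r X a = τ X a) → u' = u := by
  have key : ∀ (X : C) (a : Y ⟶ φ.obj X), ∃ u : z ⟶ c.s, p.IsHomLift b u ∧
      u ≫ c.r X a = τ X a ∧
      ∀ u' : z ⟶ c.s, p.IsHomLift b u' → u' ≫ c.r X a = τ X a → u' = u := by
    intro X a
    haveI := c.hr X a
    haveI := hτ X a
    haveI : p.IsStronglyCartesian a (c.r X a) :=
      Groth.Agent.Lib.FibCat_helper6.isStronglyCartesian_of_isFibGrpd hp a (c.r X a)
    refine ⟨IsStronglyCartesian.map p a (c.r X a) (rfl : b ≫ a = b ≫ a) (τ X a), inferInstance,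
      IsStronglyCartesian.fac p a (c.r X a) (rfl : b ≫ a = b ≫ a) (τ X a), ?_⟩
    intro u' h1 h2
    haveI := h1
    exact IsStronglyCartesian.map_uniq p a (c.r X a) (rfl : b ≫ a = b ≫ a) (τ X a) u' h2
  choose u hu1 hu2 hu3 using key
  have hloc : ∀ {X X' : C} (a : Y ⟶ φ.obj X) (h : X ⟶ X'), u X a = u X' (a ≫ φ.map h) := by
    intro X X' a h
    apply hu3 X' (a ≫ φ.map h) (u X a) (hu1 X a)
    rw [← c.nat, ← τnat, ← Category.assoc, hu2]
  have hconst : ∀ A A' : StructuredArrow Y φ, u A.right A.hom = u A'.right A'.hom := by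
    intro A A'
    refine constant_of_preserves_morphisms
      (fun A : StructuredArrow Y φ => u A.right A.hom) ?_ A A'
    intro A₁ A₂ m
    show u A₁.right A₁.hom = u A₂.right A₂.hom
    rw [← StructuredArrow.w m]
    exact hloc A₁.hom m.right
  obtain ⟨A₀⟩ := hne
  refine ⟨u A₀.right A₀.hom, hu1 _ _, ?_, ?_⟩
  · intro X a
    rw [hconst A₀ (StructuredArrow.mk a)]
    exact hu2 X a
  · intro u' h1 h2
    exact hu3 _ _ u' h1 (h2 _ _)

theorem cone_s_obj {σ : C ⥤ F} {Y : D} (hne : Nonempty (StructuredArrow Y φ))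
    (c : Cone φ p σ Y) : p.obj c.s = Y := by
  obtain ⟨A⟩ := hne
  haveI := c.hr A.right A.hom
  exact IsHomLift.domain_eq p A.hom (c.r A.right A.hom)

theorem cone_exists (hp : FibCat.IsFibGrpd p) (σ : C ⥤ F)
    (hσo : ∀ X, p.obj (σ.obj X) = φ.obj X)
    (hσ : ∀ {X X' : C} (h : X ⟶ X'), p.IsHomLift (φ.map h) (σ.map h)) (Y : D)
    (hY : EssConst.{max u₁ u₂ u₃ v₁ v₂ v₃} (StructuredArrow Y φ)) :
    Nonempty (Cone φ p σ Y) := by
  have hl : ∀ A : StructuredArrow Y φ, ∃ (y : F) (ψ : y ⟶ σ.obj A.right),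
      p.IsHomLift A.hom ψ :=
    fun A => Groth.Agent.Lib.FibCat_helper6.exists_lift_of_isFibGrpd hp (hσo A.right) A.hom
  choose L lam hlam using hl
  have hsc : ∀ A, p.IsStronglyCartesian A.hom (lam A) := fun A =>
    haveI := hlam A
    Groth.Agent.Lib.FibCat_helper6.isStronglyCartesian_of_isFibGrpd hp A.hom (lam A)
  have hLo : ∀ A, p.obj (L A) = Y := fun A =>
    haveI := hlam A
    IsHomLift.domain_eq p A.hom (lam A)
  have hT : ∀ (A A' : StructuredArrow Y φ) (m : A ⟶ A'), ∃ t : L A ⟶ L A',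
      p.IsHomLift (𝟙 Y) t ∧ t ≫ lam A' = lam A ≫ σ.map m.right ∧
      ∀ t' : L A ⟶ L A', p.IsHomLift (𝟙 Y) t' → t' ≫ lam A' = lam A ≫ σ.map m.right →
        t' = t := by
    intro A A' m
    haveI := hsc A'
    haveI := hlam A
    haveI := hσ m.right
    haveI : p.IsHomLift (A.hom ≫ φ.map m.right) (lam A ≫ σ.map m.right) := inferInstance
    have hf' : A.hom ≫ φ.map m.right = 𝟙 Y ≫ A'.hom := by
      rw [Category.id_comp]; exact StructuredArrow.w m
    refine ⟨IsStronglyCartesian.map p A'.hom (lam A') hf' (lam A ≫ σ.map m.right),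
      inferInstance, IsStronglyCartesian.fac p A'.hom (lam A') hf' _, ?_⟩
    intro t' h1 h2
    haveI := h1
    exact IsStronglyCartesian.map_uniq p A'.hom (lam A') hf' _ t' h2
  choose Tm hTm1 hTm2 hTm3 using hT
  haveI : IsGroupoid (p.Fiber Y) := fiber_isGroupoid' p hp Y
  let T0 : StructuredArrow Y φ ⥤ p.Fiber Y :=
    { obj := fun A => ⟨L A, hLo A⟩
      map := fun {A A'} m => ⟨Tm A A' m, hTm1 A A' m⟩
      map_id := fun A => Subtype.ext
        (hTm3 A A (𝟙 A) (𝟙 (L A)) (IsHomLift.id (hLo A)) (by simp)).symm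
      map_comp := fun {A A' A''} m m' => by
        apply Subtype.ext
        symm
        haveI := hTm1 A A' m
        haveI := hTm1 A' A'' m'
        refine hTm3 A A'' (m ≫ m') (Tm A A' m ≫ Tm A' A'' m') inferInstance ?_
        calc (Tm A A' m ≫ Tm A' A'' m') ≫ lam A''
            = Tm A A' m ≫ (Tm A' A'' m' ≫ lam A'') := Category.assoc _ _ _
          _ = Tm A A' m ≫ (lam A' ≫ σ.map m'.right) := by rw [hTm2]
          _ = (Tm A A' m ≫ lam A') ≫ σ.map m'.right := (Category.assoc _ _ _).symm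
          _ = (lam A ≫ σ.map m.right) ≫ σ.map m'.right := by rw [hTm2]
          _ = lam A ≫ σ.map (m ≫ m').right := by simp }
  letI : Groupoid (AsSmall.{max u₁ u₂ u₃ v₁ v₂ v₃} (p.Fiber Y)) := asSmallGroupoid (p.Fiber Y)
  obtain ⟨g, ⟨θ⟩⟩ := hY.2 (AsSmall.{max u₁ u₂ u₃ v₁ v₂ v₃} (p.Fiber Y)) (T0 ⋙ AsSmall.up)
  let sY : p.Fiber Y := (AsSmall.down : AsSmall.{max u₁ u₂ u₃ v₁ v₂ v₃} (p.Fiber Y) ⥤ p.Fiber Y).obj g
  let ϑ : ∀ A : StructuredArrow Y φ, sY.1 ⟶ L A := fun A => (θ.hom.app A).down.1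
  have hϑ1 : ∀ A, p.IsHomLift (𝟙 Y) (ϑ A) := fun A => (θ.hom.app A).down.2
  have hϑ : ∀ (A A' : StructuredArrow Y φ) (m : A ⟶ A'), ϑ A ≫ Tm A A' m = ϑ A' := by
    intro A A' m
    have h1 := θ.hom.naturality m
    have h2 := congrArg (fun t => t.down.1) h1
    have h3 : 𝟙 sY.1 ≫ ϑ A' = ϑ A ≫ Tm A A' m := h2
    rw [Category.id_comp] at h3
    exact h3.symm
  exact ⟨{ s := sY.1
           r := fun X a => ϑ (StructuredArrow.mk a) ≫ lam (StructuredArrow.mk a)
           hr := fun X a => by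
             haveI : p.IsHomLift (𝟙 Y) (ϑ (StructuredArrow.mk a)) := hϑ1 _
             haveI : p.IsHomLift a (lam (StructuredArrow.mk a)) := hlam (StructuredArrow.mk a)
             infer_instance
           nat := fun {X X'} a h => by
             have e1 := hϑ _ _ (StructuredArrow.homMk h rfl :
               StructuredArrow.mk a ⟶ StructuredArrow.mk (a ≫ φ.map h))
             have e2 : Tm _ _ (StructuredArrow.homMk h rfl :
                 StructuredArrow.mk a ⟶ StructuredArrow.mk (a ≫ φ.map h)) ≫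
                 lam (StructuredArrow.mk (a ≫ φ.map h)) =
                 lam (StructuredArrow.mk a) ≫ σ.map h := hTm2 _ _ _
             rw [← e1, Category.assoc, Category.assoc, e2] }⟩

/-- bundled context -/
structure Ctx (σ : C ⥤ F) where
  /-- fibred in groupoids -/
  hp : FibCat.IsFibGrpd p
  /-- nonempty -/
  hne : ∀ Y : D, Nonempty (StructuredArrow Y φ)
  /-- connected -/
  hpc : ∀ Y : D, IsPreconnected (StructuredArrow Y φ)
  /-- cones -/
  cs : ∀ Y : D, Cone φ p σ Y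

variable {φ p} {σ : C ⥤ F} (𝒞 : Ctx φ p σ)

theorem smap_exists {Y' Y : D} (b : Y' ⟶ Y) :
    ∃ u : (𝒞.cs Y').s ⟶ (𝒞.cs Y).s, p.IsHomLift b u ∧
      (∀ X a, u ≫ (𝒞.cs Y).r X a = (𝒞.cs Y').r X (b ≫ a)) ∧
      ∀ u' : (𝒞.cs Y').s ⟶ (𝒞.cs Y).s, p.IsHomLift b u' →
        (∀ X a, u' ≫ (𝒞.cs Y).r X a = (𝒞.cs Y').r X (b ≫ a)) → u' = u := by
  haveI := 𝒞.hpc Y
  exact cone_lift φ p 𝒞.hp (𝒞.hne Y) (𝒞.cs Y) b (𝒞.cs Y').s
    (fun X a => (𝒞.cs Y').r X (b ≫ a))
    (fun X a => (𝒞.cs Y').hr X (b ≫ a))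
    (by intro X X' a h; rw [(𝒞.cs Y').nat, Category.assoc])

/-- the morphism part of the section -/
def smap {Y' Y : D} (b : Y' ⟶ Y) : (𝒞.cs Y').s ⟶ (𝒞.cs Y).s := (smap_exists 𝒞 b).choose

theorem smap_lift {Y' Y : D} (b : Y' ⟶ Y) : p.IsHomLift b (smap 𝒞 b) :=
  (smap_exists 𝒞 b).choose_spec.1

theorem smap_r {Y' Y : D} (b : Y' ⟶ Y) (X : C) (a : Y ⟶ φ.obj X) :
    smap 𝒞 b ≫ (𝒞.cs Y).r X a = (𝒞.cs Y').r X (b ≫ a) :=
  (smap_exists 𝒞 b).choose_spec.2.1 X a

theorem smap_uniq {Y' Y : D} (b : Y' ⟶ Y) (u' : (𝒞.cs Y').s ⟶ (𝒞.cs Y).s)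
    (h1 : p.IsHomLift b u') (h2 : ∀ X a, u' ≫ (𝒞.cs Y).r X a = (𝒞.cs Y').r X (b ≫ a)) :
    u' = smap 𝒞 b :=
  (smap_exists 𝒞 b).choose_spec.2.2 u' h1 h2

/-- the section -/
def sF : D ⥤ F where
  obj Y := (𝒞.cs Y).s
  map b := smap 𝒞 b
  map_id Y := by
    symm
    apply smap_uniq 𝒞 (𝟙 Y) (𝟙 _) (IsHomLift.id (cone_s_obj φ p (𝒞.hne Y) (𝒞.cs Y)))
    intro X a
    rw [Category.id_comp, Category.id_comp]
  map_comp {Y'' Y' Y} b' b := by
    symm
    haveI := smap_lift 𝒞 b'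
    haveI := smap_lift 𝒞 b
    apply smap_uniq 𝒞 (b' ≫ b) (smap 𝒞 b' ≫ smap 𝒞 b) inferInstance
    intro X a
    rw [Category.assoc, smap_r, smap_r, Category.assoc]

theorem sF_comp_p : sF 𝒞 ⋙ p = 𝟭 D := by
  refine CategoryTheory.Functor.ext (fun Y => cone_s_obj φ p (𝒞.hne Y) (𝒞.cs Y)) ?_
  intro Y' Y b
  haveI := smap_lift 𝒞 b
  exact IsHomLift.fac' p b (smap 𝒞 b)

theorem r_isIso (X : C) : IsIso ((𝒞.cs (φ.obj X)).r X (𝟙 _)) := by
  haveI := (𝒞.cs (φ.obj X)).hr X (𝟙 _)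
  exact Groth.Agent.Lib.FibCat_helper6.isIso_of_isFibGrpd_id 𝒞.hp (R := φ.obj X) _

/-- the comparison isomorphism -/
def eIso : φ ⋙ sF 𝒞 ≅ σ :=
  NatIso.ofComponents
    (fun X => @asIso _ _ _ _ ((𝒞.cs (φ.obj X)).r X (𝟙 _)) (r_isIso 𝒞 X))
    (by
      intro X X' h
      show smap 𝒞 (φ.map h) ≫ (𝒞.cs (φ.obj X')).r X' (𝟙 _) =
        (𝒞.cs (φ.obj X)).r X (𝟙 _) ≫ σ.map h
      rw [smap_r, (𝒞.cs (φ.obj X)).nat, Category.comp_id, Category.id_comp])

end core

section main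

variable (φ : C ⥤ D) (p : F ⥤ D)

/-- underlying functor of a section -/
abbrev tf (T : FibCat.selfOver D ⥤ᵇ BasedCategory.ofFunctor p) : D ⥤ F := T.toFunctor

theorem sec_lift (T : FibCat.selfOver D ⥤ᵇ BasedCategory.ofFunctor p) {Y' Y : D} (a : Y' ⟶ Y) :
    p.IsHomLift a ((tf p T).map a) := by
  haveI : (FibCat.selfOver D).p.IsHomLift a a := IsHomLift.map (𝟭 D) a
  exact BasedFunctor.preserves_isHomLift T a a

/-- the cone given by a section -/
def coneOfSection (T : FibCat.selfOver D ⥤ᵇ BasedCategory.ofFunctor p) (Y : D) :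
    Cone φ p (φ ⋙ tf p T) Y where
  s := (tf p T).obj Y
  r X a := (tf p T).map a
  hr X a := sec_lift p T a
  nat a h := ((tf p T).map_comp a (φ.map h)).symm

/-- the restriction functor -/
abbrev Rf : (FibCat.selfOver D ⥤ᵇ BasedCategory.ofFunctor p) ⥤
    (BasedCategory.ofFunctor φ ⥤ᵇ BasedCategory.ofFunctor p) :=
  Stk.restr (FibCat.toSelf (BasedCategory.ofFunctor φ)) (BasedCategory.ofFunctor p)

theorem faithful_aux (hp : FibCat.IsFibGrpd p)
    (hne : ∀ Y : D, Nonempty (StructuredArrow Y φ))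
    (S T : FibCat.selfOver D ⥤ᵇ BasedCategory.ofFunctor p) (A B : S ⟶ T)
    (h : (Rf φ p).map A = (Rf φ p).map B) : A = B := by
  apply BasedNatTrans.homCategory.ext
  apply NatTrans.ext
  funext Y
  obtain ⟨A₀⟩ := hne Y
  have hX : A.toNatTrans.app (φ.obj A₀.right) = B.toNatTrans.app (φ.obj A₀.right) :=
    congrArg (fun t => t.toNatTrans.app A₀.right) h
  haveI := sec_lift p T A₀.hom
  haveI : p.IsStronglyCartesian A₀.hom ((tf p T).map A₀.hom) :=
    Groth.Agent.Lib.FibCat_helper6.isStronglyCartesian_of_isFibGrpd hp _ _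
  haveI : p.IsHomLift (𝟙 Y) (A.toNatTrans.app Y) := A.isHomLift' Y
  haveI : p.IsHomLift (𝟙 Y) (B.toNatTrans.app Y) := B.isHomLift' Y
  apply IsStronglyCartesian.ext p A₀.hom ((tf p T).map A₀.hom) (𝟙 Y)
  have nA := A.toNatTrans.naturality A₀.hom
  have nB := B.toNatTrans.naturality A₀.hom
  exact nA.symm.trans ((congrArg (fun t => (tf p S).map A₀.hom ≫ t) hX).trans nB)

theorem full_aux (hp : FibCat.IsFibGrpd p)
    (hne : ∀ Y : D, Nonempty (StructuredArrow Y φ))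
    (hpc : ∀ Y : D, IsPreconnected (StructuredArrow Y φ))
    (S T : FibCat.selfOver D ⥤ᵇ BasedCategory.ofFunctor p)
    (γ : (Rf φ p).obj S ⟶ (Rf φ p).obj T) : ∃ A : S ⟶ T, (Rf φ p).map A = γ := by
  let g : ∀ X : C, (tf p S).obj (φ.obj X) ⟶ (tf p T).obj (φ.obj X) :=
    fun X => γ.toNatTrans.app X
  have hg : ∀ X, p.IsHomLift (𝟙 (φ.obj X)) (g X) := fun X => γ.isHomLift' X
  have gnat : ∀ {X X' : C} (h : X ⟶ X'),
      (tf p S).map (φ.map h) ≫ g X' = g X ≫ (tf p T).map (φ.map h) :=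
    fun h => γ.toNatTrans.naturality h
  have key : ∀ Y : D, ∃ u : (tf p S).obj Y ⟶ (tf p T).obj Y, p.IsHomLift (𝟙 Y) u ∧
      (∀ (X : C) (a : Y ⟶ φ.obj X), u ≫ (tf p T).map a = (tf p S).map a ≫ g X) ∧
      ∀ u' : (tf p S).obj Y ⟶ (tf p T).obj Y, p.IsHomLift (𝟙 Y) u' →
        (∀ (X : C) (a : Y ⟶ φ.obj X), u' ≫ (tf p T).map a = (tf p S).map a ≫ g X) →
        u' = u := by
    intro Y
    haveI := hpc Y
    exact cone_lift φ p hp (hne Y) (coneOfSection φ p T Y) (𝟙 Y) ((tf p S).obj Y)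
      (fun X a => (tf p S).map a ≫ g X)
      (fun X a => by
        haveI := sec_lift p S a
        haveI := hg X
        infer_instance)
      (by
        intro X X' a h
        show ((tf p S).map a ≫ g X) ≫ (tf p T).map (φ.map h) =
          (tf p S).map (a ≫ φ.map h) ≫ g X'
        rw [Category.assoc, ← gnat, ← Category.assoc, ← Functor.map_comp])
  choose α hα1 hα2 hα3 using key
  have αnat : ∀ {Y' Y : D} (b : Y' ⟶ Y),
      (tf p S).map b ≫ α Y = α Y' ≫ (tf p T).map b := by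
    intro Y' Y b
    obtain ⟨A₀⟩ := hne Y
    haveI := sec_lift p T A₀.hom
    haveI : p.IsStronglyCartesian A₀.hom ((tf p T).map A₀.hom) :=
      Groth.Agent.Lib.FibCat_helper6.isStronglyCartesian_of_isFibGrpd hp _ _
    haveI := sec_lift p S b
    haveI := sec_lift p T b
    haveI := hα1 Y
    haveI := hα1 Y'
    haveI : p.IsHomLift b ((tf p S).map b ≫ α Y) := inferInstance
    haveI : p.IsHomLift b (α Y' ≫ (tf p T).map b) := inferInstance
    apply IsStronglyCartesian.ext p A₀.hom ((tf p T).map A₀.hom) b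
    calc ((tf p S).map b ≫ α Y) ≫ (tf p T).map A₀.hom
        = (tf p S).map b ≫ (α Y ≫ (tf p T).map A₀.hom) := Category.assoc _ _ _
      _ = (tf p S).map b ≫ ((tf p S).map A₀.hom ≫ g A₀.right) := by rw [hα2]
      _ = (tf p S).map (b ≫ A₀.hom) ≫ g A₀.right := by
          rw [← Category.assoc, ← Functor.map_comp]
      _ = α Y' ≫ (tf p T).map (b ≫ A₀.hom) := (hα2 Y' _ _).symm
      _ = (α Y' ≫ (tf p T).map b) ≫ (tf p T).map A₀.hom := by
          rw [Functor.map_comp, Category.assoc]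
  let A : BasedNatTrans S T :=
    { toNatTrans := { app := α, naturality := fun {Y' Y} b => αnat b }
      isHomLift' := fun Y => hα1 Y }
  refine ⟨A, ?_⟩
  apply BasedNatTrans.homCategory.ext
  apply NatTrans.ext
  funext X
  show α (φ.obj X) = g X
  have := hα2 (φ.obj X) X (𝟙 _)
  simpa using this

theorem essSurj_aux (hp : FibCat.IsFibGrpd p)
    (hφ : ∀ Y : D, EssConst.{max u₁ u₂ u₃ v₁ v₂ v₃} (StructuredArrow Y φ))
    (Sg : BasedCategory.ofFunctor φ ⥤ᵇ BasedCategory.ofFunctor p) :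
    ∃ S : FibCat.selfOver D ⥤ᵇ BasedCategory.ofFunctor p,
      Nonempty ((Rf φ p).obj S ≅ Sg) := by
  let σ : C ⥤ F := Sg.toFunctor
  have hσo : ∀ X, p.obj (σ.obj X) = φ.obj X := fun X => Sg.w_obj X
  have hσ : ∀ {X X' : C} (h : X ⟶ X'), p.IsHomLift (φ.map h) (σ.map h) := by
    intro X X' h
    haveI : (BasedCategory.ofFunctor φ).p.IsHomLift (φ.map h) h := IsHomLift.map φ h
    exact BasedFunctor.preserves_isHomLift Sg (φ.map h) h
  let 𝒞 : Ctx φ p σ :=
    { hp := hp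
      hne := fun Y => (hφ Y).1
      hpc := fun Y => isPreconnected_SA φ p Y (hφ Y)
      cs := fun Y => (cone_exists φ p hp σ hσo hσ Y (hφ Y)).some }
  let S : FibCat.selfOver D ⥤ᵇ BasedCategory.ofFunctor p :=
    { toFunctor := sF 𝒞
      w := sF_comp_p 𝒞 }
  refine ⟨S, ⟨?_⟩⟩
  exact BasedNatIso.mkNatIso (F := (Rf φ p).obj S) (G := Sg) (eIso 𝒞)
    (fun X => (𝒞.cs (φ.obj X)).hr X (𝟙 _))

theorem main (hp : FibCat.IsFibGrpd p)
    (hφ : ∀ Y : D, EssConst.{max u₁ u₂ u₃ v₁ v₂ v₃} (StructuredArrow Y φ)) :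
    (Stk.restr (FibCat.toSelf (BasedCategory.ofFunctor φ))
      (BasedCategory.ofFunctor p)).IsEquivalence := by
  have hne := fun Y => (hφ Y).1
  have hpc := fun Y => isPreconnected_SA φ p Y (hφ Y)
  exact
    { faithful := ⟨fun {S T} A B h => faithful_aux φ p hp hne S T A B h⟩
      full := ⟨fun {S T} γ => full_aux φ p hp hne hpc S T γ⟩
      essSurj := ⟨fun Sg => essSurj_aux φ p hp hφ Sg⟩ }

theorem main15552 [FibCat.IsFibGrpd p]
    (hφ : ∀ Y : D, W4c2modmodulilect.HasContractibleNerve.{max u₁ u₂ u₃ v₁ v₂ v₃,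
      max u₁ u₂ u₃ v₁ v₂ v₃} (StructuredArrow Y φ)) :
    (Stk.restr (FibCat.toSelf (BasedCategory.ofFunctor φ))
      (BasedCategory.ofFunctor p)).IsEquivalence :=
  main φ p inferInstance (fun Y => essConst_of_hcn (hφ Y))

end main

section fibres

variable (f : C ⥤ D)

/-- the inclusion of the fibre in the comma category -/
def fibToSA (Y : D) : f.Fiber Y ⥤ StructuredArrow Y f where
  obj x := StructuredArrow.mk (eqToHom x.2.symm)
  map {x x'} κ := StructuredArrow.homMk κ.1 (by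
    haveI : f.IsHomLift (𝟙 Y) κ.1 := κ.2
    have := IsHomLift.fac' f (𝟙 Y) κ.1
    show eqToHom x.2.symm ≫ f.map κ.1 = eqToHom x'.2.symm
    rw [this]
    simp)
  map_id x := by apply StructuredArrow.hom_ext; rfl
  map_comp κ κ' := by apply StructuredArrow.hom_ext; rfl

theorem essConst_SA_of_fiber [f.IsFibered] (p : F ⥤ D) (Y : D)
    (h : EssConst.{max u₁ u₂ u₃ v₁ v₂ v₃} (f.Fiber Y)) :
    EssConst.{max u₁ u₂ u₃ v₁ v₂ v₃} (StructuredArrow Y f) := by
  obtain ⟨⟨x₀⟩, hG⟩ := h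
  refine ⟨⟨(fibToSA f Y).obj x₀⟩, ?_⟩
  intro G _ T
  obtain ⟨g, ⟨θ⟩⟩ := hG G (fibToSA f Y ⋙ T)
  let P : StructuredArrow Y f → f.Fiber Y := fun A =>
    ⟨IsPreFibered.pullbackObj (rfl : f.obj A.right = f.obj A.right) A.hom,
      IsPreFibered.pullbackObj_proj _ _⟩
  let ψ : ∀ A : StructuredArrow Y f, (fibToSA f Y).obj (P A) ⟶ A := fun A =>
    StructuredArrow.homMk
      (IsPreFibered.pullbackMap (rfl : f.obj A.right = f.obj A.right) A.hom) (by
        have := IsHomLift.fac f A.hom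
          (IsPreFibered.pullbackMap (rfl : f.obj A.right = f.obj A.right) A.hom)
        simpa [fibToSA] using this.symm)
  have hκ : ∀ (A A' : StructuredArrow Y f) (m : A ⟶ A'), ∃ κ : P A ⟶ P A',
      (fibToSA f Y).map κ ≫ ψ A' = ψ A ≫ m := by
    intro A A' m
    haveI : f.IsHomLift (A.hom ≫ f.map m.right)
        (IsPreFibered.pullbackMap (rfl : f.obj A.right = f.obj A.right) A.hom ≫ m.right) :=
      inferInstance
    haveI : f.IsHomLift A'.hom
        (IsPreFibered.pullbackMap (rfl : f.obj A.right = f.obj A.right) A.hom ≫ m.right) := by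
      have := StructuredArrow.w m
      rw [← this]
      infer_instance
    refine ⟨⟨IsCartesian.map f A'.hom
      (IsPreFibered.pullbackMap (rfl : f.obj A'.right = f.obj A'.right) A'.hom)
      (IsPreFibered.pullbackMap (rfl : f.obj A.right = f.obj A.right) A.hom ≫ m.right),
      inferInstance⟩, ?_⟩
    apply StructuredArrow.hom_ext
    exact IsCartesian.fac f A'.hom
      (IsPreFibered.pullbackMap (rfl : f.obj A'.right = f.obj A'.right) A'.hom) _
  choose κ hκ' using hκ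
  refine ⟨g, ⟨NatIso.ofComponents (fun A => θ.app (P A) ≪≫ asIso (T.map (ψ A))) ?_⟩⟩
  intro A A' m
  have hθ : θ.hom.app (P A') = θ.hom.app (P A) ≫ T.map ((fibToSA f Y).map (κ A A' m)) := by
    have := θ.hom.naturality (κ A A' m)
    simpa using this
  simp
  rw [hθ, Category.assoc, ← T.map_comp, ← T.map_comp, hκ']

theorem main15553 [f.IsFibered] (p : F ⥤ D) [FibCat.IsFibGrpd p]
    (hf : ∀ Y : D, W4c2modmodulilect.HasContractibleNerve.{max u₁ u₂ u₃ v₁ v₂ v₃,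
      max u₁ u₂ u₃ v₁ v₂ v₃} (f.Fiber Y)) :
    (Stk.restr (FibCat.toSelf (BasedCategory.ofFunctor f))
      (BasedCategory.ofFunctor p)).IsEquivalence :=
  main f p inferInstance (fun Y => essConst_SA_of_fiber f p Y (essConst_of_hcn (hf Y)))

end fibres

end

end Groth.Agent.Lib.Sect15552
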