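import Mathlib
import Groth.Prelude.Def_W4c6gradedringsgwSect
import Groth.Agent.Lib.FunFldExpand_helper2

/-! The section ring `⊕ L(nP) T^n` of a point divisor on a curve over an algebraically closed
field (helper1): leading coefficients at `P`, the algebra map to `k[X]`, its kernel `(t)` and its
range `k[H]`. -/

set_option autoImplicit false
set_option maxHeartbeats 1000000

open WithZero Polynomial

namespace Groth.Agent.Lib.SectRingH1

open FunFld W4c6gradedringsgw

variable {k K : Type*} [Field k] [Field K] [Algebra k K]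

/-! ### value group arithmetic -/

theorem mul_exp_le_iff (z : ℤᵐ⁰) (a b : ℤ) : z * exp a ≤ exp b ↔ z ≤ exp (b - a) := by
  constructor
  · intro h
    have h1 : z * exp a * exp (-a) ≤ exp b * exp (-a) := mul_le_mul' h le_rfl
    rwa [mul_assoc, ← exp_add, add_neg_cancel, exp_zero, mul_one, ← exp_add,
      ← sub_eq_add_neg] at h1
  · intro h
    have h1 : z * exp a ≤ exp (b - a) * exp a := mul_le_mul' h le_rfl
    rwa [← exp_add, sub_add_cancel] at h1

theorem mul_exp_le_one_iff (z : ℤᵐ⁰) (a : ℤ) : z * exp a ≤ 1 ↔ z ≤ exp (-a) := by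
  have h := mul_exp_le_iff z a 0
  rwa [exp_zero, zero_sub] at h

/-! ### membership in `L(nP)` -/

section Basic

variable (P : Place k K)

/-- the divisor `nP` -/
noncomputable abbrev nP (n : ℤ) : Divisor k K := n • (Finsupp.single P 1 : Divisor k K)

theorem nP_apply_self (n : ℤ) : (nP P n) P = n := by
  simp [nP]

theorem nP_apply_ne (n : ℤ) {Q : Place k K} (h : Q ≠ P) : (nP P n) Q = 0 := by
  classical
  simp [nP, Finsupp.single_apply, h.symm]

theorem mem_L_nP {n : ℤ} {x : K} :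
    x ∈ L (nP P n) ↔ P.1 x ≤ exp n ∧ ∀ Q : Place k K, Q ≠ P → Q.1 x ≤ 1 := by
  rw [mem_L]
  constructor
  · intro h
    refine ⟨?_, fun Q hQ => ?_⟩
    · have h1 := h P
      rwa [nP_apply_self] at h1
    · have h1 := h Q
      rwa [nP_apply_ne P n hQ, exp_zero] at h1
  · rintro ⟨h1, h2⟩ Q
    by_cases hQ : Q = P
    · rw [hQ, nP_apply_self]
      exact h1
    · rw [nP_apply_ne P n hQ, exp_zero]
      exact h2 Q hQ

theorem L_nP_mono {m n : ℤ} (h : m ≤ n) : L (nP P m) ≤ L (nP P n) := fun y hy =>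
  (mem_L_nP P).mpr ⟨((mem_L_nP P).mp hy).1.trans (exp_le_exp.mpr h), ((mem_L_nP P).mp hy).2⟩

theorem val_mul_le {i j n : ℕ} (hn : i + j = n) {x y : K} (hx : P.1 x ≤ exp (i : ℤ))
    (hy : P.1 y ≤ exp (j : ℤ)) : P.1 (x * y) ≤ exp (n : ℤ) := by
  subst hn
  rw [map_mul, Nat.cast_add, exp_add]
  exact mul_le_mul' hx hy

/-! ### the leading coefficient at `P` -/

variable [IsAlgClosed k] (hK : IsFunctionField k K) (π : K) (hπ : P.1 π = exp (-1 : ℤ))

/-- leading coefficient of `x` (pole order `≤ n`) with respect to the uniformizer `π` -/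
noncomputable def lc (n : ℕ) (x : K) : k := (reskEquiv hK P).symm (evalP P (x * π ^ n))

include hπ in
theorem val_pi_pow (n : ℕ) : P.1 (π ^ n) = exp (-(n : ℤ)) := by
  induction n with
  | zero => rw [pow_zero, map_one, Nat.cast_zero, neg_zero, exp_zero]
  | succ n ih =>
    rw [pow_succ, map_mul, ih, hπ, ← exp_add]
    congr 1
    push_cast
    ring

include hπ in
theorem val_mul_pi_pow_le_one {n : ℕ} {x : K} (hx : P.1 x ≤ exp (n : ℤ)) :
    P.1 (x * π ^ n) ≤ 1 := by
  rw [map_mul, val_pi_pow P π hπ, mul_exp_le_one_iff, neg_neg]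
  exact hx

theorem lc_zero (n : ℕ) : lc P hK π n 0 = 0 := by
  unfold lc
  rw [zero_mul, evalP_zero, map_zero]

include hπ in
theorem lc_add {n : ℕ} {x y : K} (hx : P.1 x ≤ exp (n : ℤ)) (hy : P.1 y ≤ exp (n : ℤ)) :
    lc P hK π n (x + y) = lc P hK π n x + lc P hK π n y := by
  unfold lc
  rw [add_mul, evalP_add P (val_mul_pi_pow_le_one P π hπ hx) (val_mul_pi_pow_le_one P π hπ hy),
    map_add]

include hπ in
theorem lc_smul {n : ℕ} (c : k) {x : K} (hx : P.1 x ≤ exp (n : ℤ)) :
    lc P hK π n (c • x) = c * lc P hK π n x := by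
  unfold lc
  rw [smul_mul_assoc, evalP_smul P c (val_mul_pi_pow_le_one P π hπ hx), map_mul]
  congr 1
  rw [RingEquiv.symm_apply_eq, reskEquiv_apply]

include hπ in
theorem lc_mul {i j n : ℕ} (hn : i + j = n) {x y : K} (hx : P.1 x ≤ exp (i : ℤ))
    (hy : P.1 y ≤ exp (j : ℤ)) :
    lc P hK π n (x * y) = lc P hK π i x * lc P hK π j y := by
  subst hn
  unfold lc
  have h : x * y * π ^ (i + j) = (x * π ^ i) * (y * π ^ j) := by
    rw [pow_add]
    ring
  rw [h, evalP_mul P (val_mul_pi_pow_le_one P π hπ hx) (val_mul_pi_pow_le_one P π hπ hy), map_mul]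

include hπ in
theorem lc_eq_zero_iff {n : ℕ} {x : K} (hx : P.1 x ≤ exp (n : ℤ)) :
    lc P hK π n x = 0 ↔ P.1 x ≤ exp ((n : ℤ) - 1) := by
  unfold lc
  rw [map_eq_zero_iff _ (reskEquiv hK P).symm.injective,
    evalP_eq_zero_iff P (val_mul_pi_pow_le_one P π hπ hx),
    lt_one_iff_le_exp_neg_one, map_mul, val_pi_pow P π hπ, mul_exp_le_iff]
  have h : (-1 : ℤ) - -(n : ℤ) = (n : ℤ) - 1 := by ring
  rw [h]

theorem lc_algebraMap (c : k) : lc P hK π 0 (algebraMap k K c) = c := by
  unfold lc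
  rw [pow_zero, mul_one, ← resk_apply, RingEquiv.symm_apply_eq, reskEquiv_apply]

include hπ in
theorem lc_sum {ι : Type*} (s : Finset ι) {n : ℕ} (f : ι → K)
    (hf : ∀ i ∈ s, P.1 (f i) ≤ exp (n : ℤ)) :
    lc P hK π n (∑ i ∈ s, f i) = ∑ i ∈ s, lc P hK π n (f i) := by
  unfold lc
  rw [Finset.sum_mul, (evalP_sum P s (fun i => f i * π ^ n)
    (fun i hi => val_mul_pi_pow_le_one P π hπ (hf i hi))).2, map_sum]

/-! ### the section ring and the algebra map to `k[X]` -/

/-- the section ring of the point divisor `P` -/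
noncomputable abbrev R : Subalgebra k K[X] := sectRing (Finsupp.single P 1 : Divisor k K)

theorem mem_R {p : K[X]} : p ∈ R P ↔ ∀ n : ℕ, p.coeff n ∈ L (nP P (n : ℤ)) := Iff.rfl

theorem val_coeff_le {p : K[X]} (hp : p ∈ R P) (n : ℕ) : P.1 (p.coeff n) ≤ exp (n : ℤ) :=
  ((mem_L_nP P).mp (hp n)).1

/-- the underlying function of `Phi` -/
noncomputable def phiFun (p : K[X]) : k[X] :=
  ∑ n ∈ p.support, monomial n (lc P hK π n (p.coeff n))

theorem coeff_phiFun (p : K[X]) (n : ℕ) :
    (phiFun P hK π p).coeff n = lc P hK π n (p.coeff n) := by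
  unfold phiFun
  rw [finset_sum_coeff]
  simp only [coeff_monomial]
  rw [Finset.sum_ite_eq']
  split_ifs with h
  · rfl
  · rw [notMem_support_iff.mp h, lc_zero]

/-- the leading-term algebra map `R_P → k[X]` -/
noncomputable def Phi : ↥(R P) →ₐ[k] k[X] where
  toFun p := phiFun P hK π p.1
  map_one' := by
    ext n
    rw [coeff_phiFun]
    show lc P hK π n ((1 : K[X]).coeff n) = (1 : k[X]).coeff n
    rw [coeff_one, coeff_one]
    split_ifs with h
    · subst h
      have h1 := lc_algebraMap P hK π (1 : k)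
      rwa [map_one] at h1
    · exact lc_zero P hK π n
  map_mul' p q := by
    ext n
    rw [coeff_phiFun, coeff_mul]
    show lc P hK π n ((p.1 * q.1).coeff n) = _
    rw [coeff_mul, lc_sum P hK π hπ]
    · refine Finset.sum_congr rfl fun x hx => ?_
      rw [coeff_phiFun, coeff_phiFun]
      exact lc_mul P hK π hπ (Finset.HasAntidiagonal.mem_antidiagonal.mp hx) (val_coeff_le P p.2 _)
        (val_coeff_le P q.2 _)
    · intro x hx
      exact val_mul_le P (Finset.HasAntidiagonal.mem_antidiagonal.mp hx) (val_coeff_le P p.2 _)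
        (val_coeff_le P q.2 _)
  map_zero' := by
    ext n
    rw [coeff_phiFun]
    exact lc_zero P hK π n
  map_add' p q := by
    ext n
    rw [coeff_add, coeff_phiFun, coeff_phiFun, coeff_phiFun]
    show lc P hK π n ((p.1 + q.1).coeff n) = _
    rw [coeff_add]
    exact lc_add P hK π hπ (val_coeff_le P p.2 n) (val_coeff_le P q.2 n)
  commutes' c := by
    ext n
    rw [coeff_phiFun]
    show lc P hK π n ((algebraMap k K[X] c).coeff n) = (algebraMap k k[X] c).coeff n
    rw [Polynomial.algebraMap_apply, ← Polynomial.C_eq_algebraMap, coeff_C, coeff_C]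
    split_ifs with h
    · subst h
      exact lc_algebraMap P hK π c
    · exact lc_zero P hK π n

theorem coeff_Phi (p : ↥(R P)) (n : ℕ) :
    (Phi P hK π hπ p).coeff n = lc P hK π n (p.1.coeff n) := coeff_phiFun P hK π p.1 n

/-! ### constants -/

include hK in
theorem L_single_eq_one (hg : 0 < genus k K) :
    L (Finsupp.single P 1 : Divisor k K) = 1 := by
  haveI := finiteDimensional_L hK (Finsupp.single P 1 : Divisor k K)
  have hle : L (0 : Divisor k K) ≤ L (Finsupp.single P 1 : Divisor k K) :=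
    L_mono (Finsupp.single_nonneg.mpr zero_le_one)
  have h := Submodule.eq_of_le_of_finrank_eq hle (by
    show ell (0 : Divisor k K) = ell (Finsupp.single P 1 : Divisor k K)
    rw [ell_zero hK, ell_single_one_of_genus_pos hK hg P (Place.deg_eq_one hK P)])
  rw [← h, L_zero_eq_one hK]

include hK in
theorem exists_const_of_mem_one (hg : 0 < genus k K) {a : K}
    (ha : a ∈ L (nP P ((1 : ℕ) : ℤ))) : ∃ c : k, algebraMap k K c = a := by
  have h1 : nP P ((1 : ℕ) : ℤ) = Finsupp.single P 1 := by simp [nP]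
  rw [h1, L_single_eq_one P hK hg] at ha
  exact Submodule.mem_one.mp ha

include hK in
theorem exists_const_of_mem_zero {a : K}
    (ha : a ∈ L (nP P ((0 : ℕ) : ℤ))) : ∃ c : k, algebraMap k K c = a := by
  have h1 : nP P ((0 : ℕ) : ℤ) = 0 := by simp [nP]
  rw [h1, L_zero_eq_one hK] at ha
  exact Submodule.mem_one.mp ha

include hK hπ in
theorem coeff_zero_eq_zero_of_lc {x : K} (hx : x ∈ L (nP P ((0 : ℕ) : ℤ)))
    (h : lc P hK π 0 x = 0) : x = 0 := by
  obtain ⟨d, rfl⟩ := exists_const_of_mem_zero P hK hx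
  rw [lc_algebraMap] at h
  rw [h, map_zero]

/-! ### the kernel of `Phi` -/

include hK in
theorem ker_Phi (hg : 0 < genus k K) (t : ↥(R P)) (a : K) (ha : a ≠ 0)
    (ht : (t : K[X]) = C a * X) :
    RingHom.ker (Phi P hK π hπ) = Ideal.span {t} := by
  have haL : a ∈ L (nP P ((1 : ℕ) : ℤ)) := by
    have h1 := t.2 1
    rwa [ht, coeff_C_mul_X, if_pos rfl] at h1
  obtain ⟨c, hc⟩ := exists_const_of_mem_one P hK hg haL
  have hc0 : c ≠ 0 := by
    rintro rfl
    exact ha (by rw [← hc, map_zero])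
  apply le_antisymm
  · intro p hp
    rw [RingHom.mem_ker] at hp
    have hlc : ∀ n : ℕ, lc P hK π n (p.1.coeff n) = 0 := fun n => by
      rw [← coeff_Phi P hK π hπ, hp, coeff_zero]
    have hcoef : ∀ n : ℕ, P.1 (p.1.coeff n) ≤ exp ((n : ℤ) - 1) := fun n =>
      (lc_eq_zero_iff P hK π hπ (val_coeff_le P p.2 n)).mp (hlc n)
    have h0 : p.1.coeff 0 = 0 := coeff_zero_eq_zero_of_lc P hK π hπ (p.2 0) (hlc 0)
    have hq : C a⁻¹ * divX p.1 ∈ R P := by
      intro n
      rw [coeff_C_mul, coeff_divX]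
      have h3 : a⁻¹ = algebraMap k K c⁻¹ := by rw [map_inv₀, hc]
      rw [h3, ← Algebra.smul_def]
      refine Submodule.smul_mem _ _ ?_
      rw [mem_L_nP]
      refine ⟨?_, ((mem_L_nP P).mp (p.2 (n + 1))).2⟩
      have h4 := hcoef (n + 1)
      have e : ((n + 1 : ℕ) : ℤ) - 1 = (n : ℤ) := by
        push_cast
        ring
      rwa [e] at h4
    rw [Ideal.mem_span_singleton]
    refine ⟨⟨_, hq⟩, Subtype.ext ?_⟩
    show p.1 = t.1 * (C a⁻¹ * divX p.1)
    rw [ht]
    have h4 := X_mul_divX_add p.1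
    rw [h0, map_zero, add_zero] at h4
    have h5 : C a * C a⁻¹ = (1 : K[X]) := by rw [← C_mul, mul_inv_cancel₀ ha, C_1]
    calc p.1 = (C a * C a⁻¹) * (X * divX p.1) := by rw [h5, one_mul, h4]
      _ = C a * X * (C a⁻¹ * divX p.1) := by ring
  · rw [Ideal.span_le, Set.singleton_subset_iff]
    show t ∈ RingHom.ker _
    rw [RingHom.mem_ker]
    ext n
    rw [coeff_Phi, ht, coeff_C_mul_X, coeff_zero]
    split_ifs with h
    · subst h
      rw [lc_eq_zero_iff P hK π hπ ((mem_L_nP P).mp haL).1, ← hc]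
      have e : ((1 : ℕ) : ℤ) - 1 = 0 := by norm_num
      rw [e, exp_zero]
      exact P.2.1 c
    · exact lc_zero P hK π n

/-! ### the range of `Phi` -/

/-- the leading coefficient as a linear form on `L(nP)` -/
noncomputable def lcLin (n : ℕ) : ↥(L (nP P (n : ℤ))) →ₗ[k] k where
  toFun y := lc P hK π n y.1
  map_add' y z := lc_add P hK π hπ ((mem_L_nP P).mp y.2).1 ((mem_L_nP P).mp z.2).1
  map_smul' c y := by
    simp only [RingHom.id_apply, smul_eq_mul]
    exact lc_smul P hK π hπ c ((mem_L_nP P).mp y.2).1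

theorem lcLin_apply (n : ℕ) (y : ↥(L (nP P (n : ℤ)))) :
    lcLin P hK π hπ n y = lc P hK π n y.1 := rfl

include hK hπ in
theorem mem_poleOrders_of_lc_ne_zero {n : ℕ} {x : K} (hx : x ∈ L (nP P (n : ℤ)))
    (h : lc P hK π n x ≠ 0) : n ∈ poleOrders P := by
  haveI := finiteDimensional_L hK (nP P (n : ℤ))
  have hle : L (nP P ((n : ℤ) - 1)) ≤ L (nP P (n : ℤ)) := L_nP_mono P (by omega)
  have hker : LinearMap.ker (lcLin P hK π hπ n) =
      Submodule.comap (L (nP P (n : ℤ))).subtype (L (nP P ((n : ℤ) - 1))) := by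
    ext y
    rw [LinearMap.mem_ker, Submodule.mem_comap, Submodule.subtype_apply, lcLin_apply]
    have hy := (mem_L_nP P).mp y.2
    rw [lc_eq_zero_iff P hK π hπ hy.1, mem_L_nP]
    exact ⟨fun h => ⟨h, hy.2⟩, fun h => h.1⟩
  have hrange : LinearMap.range (lcLin P hK π hπ n) = ⊤ := by
    rw [LinearMap.range_eq_top]
    intro d
    refine ⟨(d / lc P hK π n x) • ⟨x, hx⟩, ?_⟩
    rw [map_smul, lcLin_apply, smul_eq_mul, div_mul_cancel₀ _ h]
  have h1 := LinearMap.finrank_range_add_finrank_ker (lcLin P hK π hπ n)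
  rw [hrange, finrank_top, Module.finrank_self, hker,
    (Submodule.comapSubtypeEquivOfLe hle).finrank_eq] at h1
  have h2 : ell (nP P (n : ℤ)) = ell (nP P ((n : ℤ) - 1)) + 1 := by
    unfold ell
    omega
  exact h2

include hK hπ in
theorem exists_lc_eq_one {n : ℕ} (hn : n ∈ poleOrders P) :
    ∃ x ∈ L (nP P (n : ℤ)), lc P hK π n x = 1 := by
  have hlt : ell (nP P ((n : ℤ) - 1)) < ell (nP P (n : ℤ)) := by
    have h1 : ell (nP P (n : ℤ)) = ell (nP P ((n : ℤ) - 1)) + 1 := hn
    omega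
  obtain ⟨x, hx, hxn⟩ := exists_mem_L_not_mem hK hlt
  have hx' := (mem_L_nP P).mp hx
  have hc : lc P hK π n x ≠ 0 := by
    intro h0
    apply hxn
    rw [mem_L_nP]
    exact ⟨(lc_eq_zero_iff P hK π hπ hx'.1).mp h0, hx'.2⟩
  refine ⟨(lc P hK π n x)⁻¹ • x, Submodule.smul_mem _ _ hx, ?_⟩
  rw [lc_smul P hK π hπ _ hx'.1, inv_mul_cancel₀ hc]

omit [IsAlgClosed k] in
theorem monomial_mem_R {n : ℕ} {x : K} (hx : x ∈ L (nP P (n : ℤ))) : monomial n x ∈ R P := by
  intro m
  rw [coeff_monomial]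
  split_ifs with h
  · subst h
    exact hx
  · exact zero_mem _

theorem Phi_monomial {n : ℕ} {x : K} (hx : x ∈ L (nP P (n : ℤ))) :
    Phi P hK π hπ ⟨monomial n x, monomial_mem_R P hx⟩ = monomial n (lc P hK π n x) := by
  ext m
  rw [coeff_Phi]
  show lc P hK π m ((monomial n x).coeff m) = _
  rw [coeff_monomial, coeff_monomial]
  split_ifs with h
  · subst h
    rfl
  · exact lc_zero P hK π m

theorem exists_Phi_eq_X_pow {h : ℕ} (hh : h ∈ AddSubmonoid.closure (poleOrders P)) :
    ∃ p : ↥(R P), Phi P hK π hπ p = X ^ h := by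
  induction hh using AddSubmonoid.closure_induction with
  | mem n hn =>
    obtain ⟨x, hx, h1⟩ := exists_lc_eq_one P hK π hπ hn
    exact ⟨⟨monomial n x, monomial_mem_R P hx⟩, by rw [Phi_monomial P hK π hπ hx, h1, X_pow_eq_monomial]⟩
  | zero => exact ⟨1, by rw [map_one, pow_zero]⟩
  | add a b _ _ iha ihb =>
    obtain ⟨p, hp⟩ := iha
    obtain ⟨q, hq⟩ := ihb
    exact ⟨p * q, by rw [map_mul, hp, hq, pow_add]⟩

end Basic

/-! ### the semigroup algebra inside `k[X]` -/

section Iota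

variable (k)

/-- `k[H] → k[X]` for a submonoid `H` of `ℕ` -/
noncomputable def iota (H : AddSubmonoid ℕ) : AddMonoidAlgebra k ↥H →ₐ[k] k[X] :=
  ((toFinsuppIsoAlg k).symm : AddMonoidAlgebra k ℕ →ₐ[k] k[X]).comp
    (AddMonoidAlgebra.mapDomainAlgHom k k H.subtype)

theorem iota_single (H : AddSubmonoid ℕ) (h : ↥H) (c : k) :
    iota k H (AddMonoidAlgebra.single h c) = monomial (h : ℕ) c := by
  unfold iota
  rw [AlgHom.comp_apply, AddMonoidAlgebra.mapDomainAlgHom_apply, AddMonoidAlgebra.mapDomain_single]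
  rfl

theorem iota_injective (H : AddSubmonoid ℕ) : Function.Injective (iota k H) := by
  unfold iota
  rw [AlgHom.coe_comp]
  refine Function.Injective.comp (toFinsuppIsoAlg k).symm.injective ?_
  intro x y hxy
  rw [AddMonoidAlgebra.mapDomainAlgHom_apply, AddMonoidAlgebra.mapDomainAlgHom_apply] at hxy
  exact AddMonoidAlgebra.mapDomain_injective Subtype.val_injective hxy

end Iota

/-! ### S18668 -/

section Main

variable [IsAlgClosed k] (hK : IsFunctionField k K) (P : Place k K)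

include hK in
theorem range_Phi (π : K) (hπ : P.1 π = exp (-1 : ℤ)) :
    (Phi P hK π hπ).range = (iota k (AddSubmonoid.closure (poleOrders P))).range := by
  apply le_antisymm
  · rintro _ ⟨p, rfl⟩
    show Phi P hK π hπ p ∈ _
    rw [(Phi P hK π hπ p).as_sum_support]
    refine Subalgebra.sum_mem _ fun n hn => ?_
    have hne : (Phi P hK π hπ p).coeff n ≠ 0 := mem_support_iff.mp hn
    rw [coeff_Phi] at hne
    have hnH : n ∈ AddSubmonoid.closure (poleOrders P) :=
      AddSubmonoid.subset_closure (mem_poleOrders_of_lc_ne_zero P hK π hπ (p.2 n) hne)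
    exact (AlgHom.mem_range _).mpr ⟨AddMonoidAlgebra.single ⟨n, hnH⟩ _, iota_single k _ ⟨n, hnH⟩ _⟩
  · have key : ∀ c, iota k (AddSubmonoid.closure (poleOrders P)) c ∈ (Phi P hK π hπ).range := by
      intro c
      induction c using AddMonoidAlgebra.induction_on with
      | of h =>
        obtain ⟨p, hp⟩ := exists_Phi_eq_X_pow P hK π hπ h.2
        refine (AlgHom.mem_range _).mpr ⟨p, ?_⟩
        rw [hp, AddMonoidAlgebra.of_apply, iota_single, X_pow_eq_monomial]
        rfl
      | add x y hx hy =>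
        rw [map_add]
        exact add_mem hx hy
      | smul r x hx =>
        rw [map_smul]
        exact Subalgebra.smul_mem _ hx r
    rintro _ ⟨c, rfl⟩
    exact key c

include hK in
theorem s18668 (hg : 0 < genus k K) (t : ↥(R P)) (a : K) (ha : a ≠ 0)
    (ht : (t : K[X]) = C a * X) :
    Prime t ∧ Nonempty ((↥(R P) ⧸ Ideal.span {t}) ≃ₐ[k]
      AddMonoidAlgebra k ↥(AddSubmonoid.closure (poleOrders P))) := by
  obtain ⟨π, hπ⟩ := Place.exists_uniformizer P
  have hker := ker_Phi P hK π hπ hg t a ha ht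
  have ht0 : t ≠ 0 := by
    intro h0
    apply ha
    have h1 : (t : K[X]).coeff 1 = a := by rw [ht, coeff_C_mul_X, if_pos rfl]
    rw [← h1, h0]
    rfl
  refine ⟨(Ideal.span_singleton_prime ht0).mp (hker ▸ RingHom.ker_isPrime _), ?_⟩
  have hrange := range_Phi hK P π hπ
  let e1 : (↥(R P) ⧸ Ideal.span {t}) ≃ₐ[k]
      (↥(R P) ⧸ RingHom.ker (Phi P hK π hπ).rangeRestrict) :=
    Ideal.quotientEquivAlgOfEq k (by rw [← hker]; exact (AlgHom.ker_rangeRestrict _).symm)
  let e2 := Ideal.quotientKerAlgEquivOfSurjective (Phi P hK π hπ).rangeRestrict_surjective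
  let e3 := Subalgebra.equivOfEq _ _ hrange
  let e4 := (AlgEquiv.ofInjective (iota k (AddSubmonoid.closure (poleOrders P)))
    (iota_injective k _)).symm
  exact ⟨e1.trans (e2.trans (e3.trans e4))⟩

end Main

/-! ### S18670: the embedding dimension -/

section Emb

variable (P : Place k K) [IsAlgClosed k] (hK : IsFunctionField k K) (π : K)
  (hπ : P.1 π = exp (-1 : ℤ))

theorem one_le_exp' {n : ℤ} (h : 0 ≤ n) : (1 : ℤᵐ⁰) ≤ exp n := by
  have h1 : exp (0 : ℤ) ≤ exp n := exp_le_exp.mpr h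
  rwa [exp_zero] at h1

omit [IsAlgClosed k] in
theorem one_mem_L_nP (n : ℕ) : (1 : K) ∈ L (nP P (n : ℤ)) :=
  (mem_L_nP P).mpr ⟨by rw [map_one]; exact one_le_exp' (by positivity),
    fun Q _ => by rw [map_one]⟩

theorem lc_one_zero : lc P hK π 0 (1 : K) = 1 := by
  have h1 := lc_algebraMap P hK π (1 : k)
  rwa [map_one] at h1

include hK hπ in
theorem zero_mem_H : 0 ∈ poleOrders P :=
  mem_poleOrders_of_lc_ne_zero P hK π hπ (one_mem_L_nP P 0)
    (by rw [lc_one_zero]; exact one_ne_zero)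

include hK hπ in
theorem add_mem_H {a b : ℕ} (ha : a ∈ poleOrders P) (hb : b ∈ poleOrders P) :
    a + b ∈ poleOrders P := by
  obtain ⟨x, hx, hx1⟩ := exists_lc_eq_one P hK π hπ ha
  obtain ⟨y, hy, hy1⟩ := exists_lc_eq_one P hK π hπ hb
  have hx' := (mem_L_nP P).mp hx
  have hy' := (mem_L_nP P).mp hy
  have hxy : x * y ∈ L (nP P ((a + b : ℕ) : ℤ)) :=
    (mem_L_nP P).mpr ⟨val_mul_le P rfl hx'.1 hy'.1, fun Q hQ => by
      rw [map_mul]
      exact mul_le_one' (hx'.2 Q hQ) (hy'.2 Q hQ)⟩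
  refine mem_poleOrders_of_lc_ne_zero P hK π hπ hxy ?_
  rw [lc_mul P hK π hπ rfl hx'.1 hy'.1, hx1, hy1, mul_one]
  exact one_ne_zero

include hK in
theorem one_not_mem_H (hg : 0 < genus k K) : 1 ∉ poleOrders P := by
  intro hn
  change ell (nP P ((1 : ℕ) : ℤ)) = ell (nP P (((1 : ℕ) : ℤ) - 1)) + 1 at hn
  have h1 : nP P ((1 : ℕ) : ℤ) = Finsupp.single P 1 := by simp [nP]
  have h0 : nP P (((1 : ℕ) : ℤ) - 1) = 0 := by simp [nP]
  rw [h1, h0, ell_zero hK, ell_single_one_of_genus_pos hK hg P (Place.deg_eq_one hK P)] at hn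
  omega

include hK hπ in
theorem ell_nP_le (n : ℕ) : ell (nP P (n : ℤ)) ≤ ell (nP P ((n : ℤ) - 1)) + 1 := by
  haveI := finiteDimensional_L hK (nP P (n : ℤ))
  have hle : L (nP P ((n : ℤ) - 1)) ≤ L (nP P (n : ℤ)) := L_nP_mono P (by omega)
  have hker : LinearMap.ker (lcLin P hK π hπ n) =
      Submodule.comap (L (nP P (n : ℤ))).subtype (L (nP P ((n : ℤ) - 1))) := by
    ext y
    rw [LinearMap.mem_ker, Submodule.mem_comap, Submodule.subtype_apply, lcLin_apply]
    have hy := (mem_L_nP P).mp y.2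
    rw [lc_eq_zero_iff P hK π hπ hy.1, mem_L_nP]
    exact ⟨fun h => ⟨h, hy.2⟩, fun h => h.1⟩
  have h1 := LinearMap.finrank_range_add_finrank_ker (lcLin P hK π hπ n)
  have h2 : Module.finrank k ↥(LinearMap.range (lcLin P hK π hπ n)) ≤ 1 :=
    (Submodule.finrank_le _).trans (Module.finrank_self k).le
  rw [hker, (Submodule.comapSubtypeEquivOfLe hle).finrank_eq] at h1
  unfold ell
  omega

include hK hπ in
theorem exists_conductor (hg : 0 < genus k K) :
    ∃ c : ℕ, ∀ n : ℕ, c ≤ n → n ∈ poleOrders P := by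
  refine ⟨2 * genus k K, fun n hn => ?_⟩
  have hD : 2 * (genus k K : ℤ) ≤ Divisor.deg (nP P (n : ℤ)) := by
    have h1 : nP P (n : ℤ) = Finsupp.single P (n : ℤ) := by simp [nP]
    rw [h1, deg_single, Place.deg_eq_one hK P]
    push_cast
    omega
  have h2 := ell_sub_single_lt hK hg (nP P (n : ℤ)) (Or.inl hD) P
  have h3 : nP P (n : ℤ) - Finsupp.single P 1 = nP P ((n : ℤ) - 1) := by
    simp [nP, sub_smul]
  rw [h3] at h2
  have h4 := ell_nP_le P hK π hπ n
  show ell (nP P (n : ℤ)) = ell (nP P ((n : ℤ) - 1)) + 1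
  omega

include hK hπ in
theorem minGens_finite (hg : 0 < genus k K) : (minGens (poleOrders P)).Finite := by
  obtain ⟨c, hc⟩ := exists_conductor P hK π hπ hg
  refine Set.Finite.subset (Set.finite_Iio (2 * c + 2)) fun h hh => ?_
  rw [Set.mem_Iio]
  by_contra hlt
  push Not at hlt
  exact hh.2.2 (c + 1) (hc _ (by omega)) (h - (c + 1)) (hc _ (by omega)) (by omega) (by omega)
    (by omega)

/-- a monomial as an element of the section ring -/
noncomputable def monoR (n : ℕ) (x : K) (hx : x ∈ L (nP P (n : ℤ))) : ↥(R P) :=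
  ⟨monomial n x, monomial_mem_R P hx⟩

/-- the element `T` of degree one -/
noncomputable def Tel : ↥(R P) := monoR P 1 1 (one_mem_L_nP P 1)

/-- the irrelevant ideal -/
noncomputable def Iplus : Ideal ↥(R P) :=
  RingHom.ker (Polynomial.constantCoeff.comp (R P).val.toRingHom)

omit [IsAlgClosed k] in
theorem mem_Iplus {p : ↥(R P)} : p ∈ Iplus P ↔ p.1.coeff 0 = 0 := by
  rw [Iplus, RingHom.mem_ker]
  rfl

include hπ in
theorem mono_mem_of_lc_zero (J : Ideal ↥(R P)) (hT : Tel P ∈ J) {n : ℕ} (hn : 1 ≤ n) {x : K}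
    (hx : x ∈ L (nP P (n : ℤ))) (h0 : lc P hK π n x = 0) : monoR P n x hx ∈ J := by
  obtain ⟨m, rfl⟩ := Nat.exists_eq_succ_of_ne_zero (by omega : n ≠ 0)
  have hx' := (mem_L_nP P).mp hx
  have h1 := (lc_eq_zero_iff P hK π hπ hx'.1).mp h0
  have e : ((m + 1 : ℕ) : ℤ) - 1 = (m : ℤ) := by
    push_cast
    ring
  rw [e] at h1
  have hxm : x ∈ L (nP P (m : ℤ)) := (mem_L_nP P).mpr ⟨h1, hx'.2⟩
  have h2 : monoR P (m + 1) x hx = Tel P * monoR P m x hxm := by
    apply Subtype.ext
    show monomial (m + 1) x = monomial 1 (1 : K) * monomial m x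
    rw [monomial_mul_monomial, one_mul, add_comm]
  rw [h2]
  exact Ideal.mul_mem_right _ J hT

include hπ in
theorem mono_mem_of_exists (J : Ideal ↥(R P)) (hT : Tel P ∈ J) {n : ℕ} (hn : 1 ≤ n) {x : K}
    (hx : x ∈ L (nP P (n : ℤ))) {z : K} (hz : z ∈ L (nP P (n : ℤ)))
    (hz1 : lc P hK π n z = 1) (hzJ : monoR P n z hz ∈ J) : monoR P n x hx ∈ J := by
  have hx' := (mem_L_nP P).mp hx
  have hz' := (mem_L_nP P).mp hz
  obtain ⟨c, hc⟩ : ∃ c : k, c = lc P hK π n x := ⟨_, rfl⟩
  have hcz : (-c) • z ∈ L (nP P (n : ℤ)) := Submodule.smul_mem _ _ hz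
  have hy : x + (-c) • z ∈ L (nP P (n : ℤ)) := add_mem hx hcz
  have hy0 : lc P hK π n (x + (-c) • z) = 0 := by
    rw [lc_add P hK π hπ hx'.1 ((mem_L_nP P).mp hcz).1, lc_smul P hK π hπ _ hz'.1, hz1, ← hc]
    ring
  have h1 := mono_mem_of_lc_zero P hK π hπ J hT hn hy hy0
  have h2 : monoR P n x hx = monoR P n (x + (-c) • z) hy + algebraMap k ↥(R P) c * monoR P n z hz := by
    apply Subtype.ext
    show monomial n x = monomial n (x + (-c) • z) + algebraMap k K[X] c * monomial n z
    rw [← Algebra.smul_def, smul_monomial, ← map_add]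
    congr 1
    rw [neg_smul]
    ring
  rw [h2]
  exact add_mem h1 (Ideal.mul_mem_left J _ hzJ)

include hK hπ in
theorem mono_mem (J : Ideal ↥(R P)) (hT : Tel P ∈ J) (f : ℕ → K)
    (hfL : ∀ h, h ∈ poleOrders P → f h ∈ L (nP P (h : ℤ)))
    (hf1 : ∀ h, h ∈ poleOrders P → lc P hK π h (f h) = 1)
    (hG : ∀ h (hh : h ∈ minGens (poleOrders P)), monoR P h (f h) (hfL h hh.1) ∈ J) :
    ∀ n : ℕ, 1 ≤ n → ∀ (x : K) (hx : x ∈ L (nP P (n : ℤ))), monoR P n x hx ∈ J := by
  intro n
  induction n using Nat.strong_induction_on with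
  | _ n ih =>
    intro hn x hx
    by_cases h0 : lc P hK π n x = 0
    · exact mono_mem_of_lc_zero P hK π hπ J hT hn hx h0
    · have hnH : n ∈ poleOrders P := mem_poleOrders_of_lc_ne_zero P hK π hπ hx h0
      by_cases hmg : n ∈ minGens (poleOrders P)
      · exact mono_mem_of_exists P hK π hπ J hT hn hx (hfL n hnH) (hf1 n hnH) (hG n hmg)
      · have hex : ∃ a ∈ poleOrders P, ∃ b ∈ poleOrders P, a ≠ 0 ∧ b ≠ 0 ∧ a + b = n := by
          by_contra hne
          apply hmg
          refine ⟨hnH, by omega, fun a ha b hb ha0 hb0 hab => ?_⟩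
          exact hne ⟨a, ha, b, hb, ha0, hb0, hab⟩
        obtain ⟨a, ha, b, hb, ha0, hb0, rfl⟩ := hex
        have hfa := (mem_L_nP P).mp (hfL a ha)
        have hfb := (mem_L_nP P).mp (hfL b hb)
        have hz : f a * f b ∈ L (nP P ((a + b : ℕ) : ℤ)) :=
          (mem_L_nP P).mpr ⟨val_mul_le P rfl hfa.1 hfb.1, fun Q hQ => by
            rw [map_mul]
            exact mul_le_one' (hfa.2 Q hQ) (hfb.2 Q hQ)⟩
        have hz1 : lc P hK π (a + b) (f a * f b) = 1 := by
          rw [lc_mul P hK π hπ rfl hfa.1 hfb.1, hf1 a ha, hf1 b hb, mul_one]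
        have hzJ : monoR P (a + b) (f a * f b) hz ∈ J := by
          have h2 : monoR P (a + b) (f a * f b) hz =
              monoR P a (f a) (hfL a ha) * monoR P b (f b) (hfL b hb) := by
            apply Subtype.ext
            show monomial (a + b) (f a * f b) = monomial a (f a) * monomial b (f b)
            rw [monomial_mul_monomial]
          rw [h2]
          exact Ideal.mul_mem_right _ J (ih a (by omega) (by omega) _ _)
        exact mono_mem_of_exists P hK π hπ J hT hn hx hz hz1 hzJ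

omit [IsAlgClosed k] in
theorem mem_of_mono_mem (J : Ideal ↥(R P))
    (hmono : ∀ n : ℕ, 1 ≤ n → ∀ (x : K) (hx : x ∈ L (nP P (n : ℤ))), monoR P n x hx ∈ J)
    (p : ↥(R P)) (hp : p.1.coeff 0 = 0) : p ∈ J := by
  have key : p.1 ∈ Submodule.map (R P).val.toLinearMap (J.restrictScalars k) := by
    rw [p.1.as_sum_support]
    refine Submodule.sum_mem _ fun n hn => ?_
    have hn0 : n ≠ 0 := by
      rintro rfl
      exact (mem_support_iff.mp hn) hp
    exact Submodule.mem_map.mpr ⟨monoR P n (p.1.coeff n) (p.2 n),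
      hmono n (by omega) _ _, rfl⟩
  obtain ⟨q, hq, hqp⟩ := Submodule.mem_map.mp key
  have : q = p := Subtype.ext hqp
  rw [← this]
  exact hq

/-- the cotangent functionals: the coefficient of `T` and the leading coefficients in the
degrees of the minimal generators of the semigroup -/
noncomputable def Lam (h1 : ∀ p ∈ R P, P.1 ((p : K[X]).coeff 1) ≤ exp ((0 : ℕ) : ℤ)) :
    ↥(R P) →ₗ[k] (Option ↥(minGens (poleOrders P)) → k) where
  toFun p j := match j with
    | none => lc P hK π 0 (p.1.coeff 1)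
    | some h => lc P hK π h (p.1.coeff h)
  map_add' p q := by
    funext j
    cases j with
    | none =>
      show lc P hK π 0 ((p.1 + q.1).coeff 1) = lc P hK π 0 (p.1.coeff 1) + lc P hK π 0 (q.1.coeff 1)
      rw [coeff_add]
      exact lc_add P hK π hπ (h1 _ p.2) (h1 _ q.2)
    | some h =>
      show lc P hK π h ((p.1 + q.1).coeff h) = lc P hK π h (p.1.coeff h) + lc P hK π h (q.1.coeff h)
      rw [coeff_add]
      exact lc_add P hK π hπ (val_coeff_le P p.2 h) (val_coeff_le P q.2 h)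
  map_smul' c p := by
    funext j
    cases j with
    | none =>
      show lc P hK π 0 ((c • p.1).coeff 1) = c * lc P hK π 0 (p.1.coeff 1)
      rw [coeff_smul]
      exact lc_smul P hK π hπ c (h1 _ p.2)
    | some h =>
      show lc P hK π h ((c • p.1).coeff h) = c * lc P hK π h (p.1.coeff h)
      rw [coeff_smul]
      exact lc_smul P hK π hπ c (val_coeff_le P p.2 h)

theorem Lam_none (h1 : ∀ p ∈ R P, P.1 ((p : K[X]).coeff 1) ≤ exp ((0 : ℕ) : ℤ)) (p : ↥(R P)) :
    Lam P hK π hπ h1 p none = lc P hK π 0 (p.1.coeff 1) := rfl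

theorem Lam_some (h1 : ∀ p ∈ R P, P.1 ((p : K[X]).coeff 1) ≤ exp ((0 : ℕ) : ℤ)) (p : ↥(R P))
    (h : ↥(minGens (poleOrders P))) :
    Lam P hK π hπ h1 p (some h) = lc P hK π h (p.1.coeff h) := rfl

include hK in
theorem Lam_mul (h1 : ∀ p ∈ R P, P.1 ((p : K[X]).coeff 1) ≤ exp ((0 : ℕ) : ℤ)) (r s : ↥(R P))
    (hs : s.1.coeff 0 = 0) :
    Lam P hK π hπ h1 (r * s) = lc P hK π 0 (r.1.coeff 0) • Lam P hK π hπ h1 s := by
  funext j
  cases j with
  | none =>
    show lc P hK π 0 ((r.1 * s.1).coeff 1) =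
      lc P hK π 0 (r.1.coeff 0) * lc P hK π 0 (s.1.coeff 1)
    rw [mul_coeff_one, hs, mul_zero, add_zero]
    exact lc_mul P hK π hπ rfl (val_coeff_le P r.2 0) (h1 _ s.2)
  | some h =>
    show lc P hK π h ((r.1 * s.1).coeff h) =
      lc P hK π 0 (r.1.coeff 0) * lc P hK π h (s.1.coeff h)
    have e1 : lc P hK π h ((r.1 * s.1).coeff h) = (Phi P hK π hπ (r * s)).coeff h :=
      (coeff_Phi P hK π hπ (r * s) h).symm
    rw [e1, map_mul, coeff_mul, Finset.sum_eq_single (0, (h : ℕ))]
    · rw [coeff_Phi, coeff_Phi]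
    · rintro ⟨i, j⟩ hij hne
      have hsum : i + j = h := Finset.HasAntidiagonal.mem_antidiagonal.mp hij
      simp only
      rw [coeff_Phi, coeff_Phi]
      by_contra hprod
      obtain ⟨hi, hj⟩ := mul_ne_zero_iff.mp hprod
      have hiH := mem_poleOrders_of_lc_ne_zero P hK π hπ (r.2 i) hi
      have hjH := mem_poleOrders_of_lc_ne_zero P hK π hπ (s.2 j) hj
      have hj0 : j ≠ 0 := by
        rintro rfl
        exact hj (by rw [hs, lc_zero])
      have hi0 : i ≠ 0 := by
        rintro rfl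
        apply hne
        rw [zero_add] at hsum
        rw [hsum]
      exact h.2.2.2 i hiH j hjH hi0 hj0 hsum
    · intro hnot
      exact absurd (Finset.HasAntidiagonal.mem_antidiagonal.mpr (zero_add _)) hnot

include hK in
theorem Lam_mem_span (h1 : ∀ p ∈ R P, P.1 ((p : K[X]).coeff 1) ≤ exp ((0 : ℕ) : ℤ))
    [DecidableEq (Option ↥(minGens (poleOrders P)) → k)]
    (S' : Finset ↥(R P)) (hS : Ideal.span (S' : Set ↥(R P)) = Iplus P) (p : ↥(R P))
    (hp : p ∈ Iplus P) :
    Lam P hK π hπ h1 p ∈ Submodule.span k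
      ((S'.image (Lam P hK π hπ h1) : Finset _) : Set (Option ↥(minGens (poleOrders P)) → k)) := by
  rw [← hS] at hp
  refine Submodule.span_induction (p := fun x _ => Lam P hK π hπ h1 x ∈ Submodule.span k
      ((S'.image (Lam P hK π hπ h1) : Finset _) : Set (Option ↥(minGens (poleOrders P)) → k)))
    ?_ ?_ ?_ ?_ hp
  · intro x hx
    exact Submodule.subset_span (Finset.mem_coe.mpr (Finset.mem_image_of_mem _ hx))
  · rw [map_zero]
    exact zero_mem _
  · intro x y _ _ hx hy
    rw [map_add]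
    exact add_mem hx hy
  · intro r x hx ih
    have hxI : x.1.coeff 0 = 0 := (mem_Iplus P).mp (hS ▸ hx)
    rw [smul_eq_mul, Lam_mul P hK π hπ h1 r x hxI]
    exact Submodule.smul_mem _ _ ih

include hK in
theorem Lam_Tel (h1 : ∀ p ∈ R P, P.1 ((p : K[X]).coeff 1) ≤ exp ((0 : ℕ) : ℤ))
    (hg : 0 < genus k K) [DecidableEq (Option ↥(minGens (poleOrders P)))] :
    Lam P hK π hπ h1 (Tel P) = Pi.single none 1 := by
  funext j
  cases j with
  | none =>
    show lc P hK π 0 ((monomial 1 (1 : K)).coeff 1) = _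
    rw [coeff_monomial, if_pos rfl, lc_one_zero, Pi.single_eq_same]
  | some h =>
    show lc P hK π h ((monomial 1 (1 : K)).coeff h) = _
    have h1' : (1 : ℕ) ≠ h := by
      intro e
      exact one_not_mem_H P hK hg (by rw [e]; exact h.2.1)
    rw [coeff_monomial, if_neg h1', lc_zero, Pi.single_eq_of_ne (Option.some_ne_none h)]

include hK in
theorem Lam_mono (h1 : ∀ p ∈ R P, P.1 ((p : K[X]).coeff 1) ≤ exp ((0 : ℕ) : ℤ))
    (hg : 0 < genus k K) [DecidableEq (Option ↥(minGens (poleOrders P)))]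
    (h' : ↥(minGens (poleOrders P))) (x : K) (hx : x ∈ L (nP P ((h' : ℕ) : ℤ)))
    (hx1 : lc P hK π h' x = 1) :
    Lam P hK π hπ h1 (monoR P h' x hx) = Pi.single (some h') 1 := by
  funext j
  cases j with
  | none =>
    show lc P hK π 0 ((monomial (h' : ℕ) x).coeff 1) = _
    have hne : (h' : ℕ) ≠ 1 := fun e => one_not_mem_H P hK hg (by rw [← e]; exact h'.2.1)
    rw [coeff_monomial, if_neg hne, lc_zero, Pi.single_eq_of_ne (Option.some_ne_none h').symm]
  | some h =>
    show lc P hK π h ((monomial (h' : ℕ) x).coeff h) = _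
    rw [coeff_monomial]
    by_cases e : (h' : ℕ) = h
    · have e' : h' = h := Subtype.ext e
      subst e'
      rw [if_pos rfl, hx1, Pi.single_eq_same]
    · rw [if_neg e, lc_zero, Pi.single_eq_of_ne]
      intro e2
      exact e (congrArg Subtype.val (Option.some.inj e2)).symm

include hK hπ in
theorem card_le_of_span (h1 : ∀ p ∈ R P, P.1 ((p : K[X]).coeff 1) ≤ exp ((0 : ℕ) : ℤ))
    (hg : 0 < genus k K) (f : ℕ → K)
    (hfL : ∀ h, h ∈ poleOrders P → f h ∈ L (nP P (h : ℤ)))
    (hf1 : ∀ h, h ∈ poleOrders P → lc P hK π h (f h) = 1)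
    [Fintype ↥(minGens (poleOrders P))]
    (S' : Finset ↥(R P)) (hS : Ideal.span (S' : Set ↥(R P)) = Iplus P) :
    Fintype.card ↥(minGens (poleOrders P)) + 1 ≤ S'.card := by
  classical
  have htop : Submodule.span k ((S'.image (Lam P hK π hπ h1) : Finset _) :
      Set (Option ↥(minGens (poleOrders P)) → k)) = ⊤ := by
    rw [eq_top_iff, ← (Pi.basisFun k (Option ↥(minGens (poleOrders P)))).span_eq,
      Submodule.span_le]
    rintro _ ⟨j, rfl⟩
    rw [Pi.basisFun_apply]
    cases j with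
    | none =>
      rw [← Lam_Tel P hK π hπ h1 hg]
      refine Lam_mem_span P hK π hπ h1 S' hS (Tel P) ((mem_Iplus P).mpr ?_)
      show (monomial 1 (1 : K)).coeff 0 = 0
      rw [coeff_monomial, if_neg (by norm_num)]
    | some h =>
      rw [← Lam_mono P hK π hπ h1 hg h (f h) (hfL h h.2.1) (hf1 h h.2.1)]
      refine Lam_mem_span P hK π hπ h1 S' hS _ ((mem_Iplus P).mpr ?_)
      show (monomial (h : ℕ) (f h)).coeff 0 = 0
      rw [coeff_monomial, if_neg h.2.2.1]
  have hle := finrank_span_finset_le_card (R := k) (S'.image (Lam P hK π hπ h1))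
  rw [Set.finrank, htop, finrank_top, Module.finrank_fintype_fun_eq_card, Fintype.card_option] at hle
  exact hle.trans Finset.card_image_le

include hK in
theorem s18670 (hg : 0 < genus k K) :
    (Iplus P).spanFinrank = Set.ncard (minGens (poleOrders P)) + 1 := by
  classical
  obtain ⟨π, hπ⟩ := Place.exists_uniformizer P
  have hfin := minGens_finite P hK π hπ hg
  letI : Fintype ↥(minGens (poleOrders P)) := hfin.fintype
  have hcard : Set.ncard (minGens (poleOrders P)) = Fintype.card ↥(minGens (poleOrders P)) := by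
    rw [← Nat.card_eq_fintype_card, _root_.Nat.card_coe_set_eq]
  choose! f hfL hf1 using (fun h (hh : h ∈ poleOrders P) => exists_lc_eq_one P hK π hπ hh)
  have h1 : ∀ p ∈ R P, P.1 ((p : K[X]).coeff 1) ≤ exp ((0 : ℕ) : ℤ) := by
    intro p hp
    obtain ⟨c, hc⟩ := exists_const_of_mem_one P hK hg (hp 1)
    rw [← hc, Nat.cast_zero, exp_zero]
    exact P.2.1 c
  let G : ℕ → ↥(R P) := fun h =>
    if hh : h ∈ poleOrders P then monoR P h (f h) (hfL h hh) else 0
  have hGh : ∀ h (hh : h ∈ poleOrders P), G h = monoR P h (f h) (hfL h hh) := fun h hh =>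
    dif_pos hh
  have hSfin : (insert (Tel P) (G '' minGens (poleOrders P))).Finite := (hfin.image G).insert _
  have hspan : Ideal.span (insert (Tel P) (G '' minGens (poleOrders P))) = Iplus P := by
    apply le_antisymm
    · rw [Ideal.span_le]
      rintro x (rfl | ⟨h, hh, rfl⟩)
      · refine (mem_Iplus P).mpr ?_
        show (monomial 1 (1 : K)).coeff 0 = 0
        rw [coeff_monomial, if_neg (by norm_num)]
      · refine (mem_Iplus P).mpr ?_
        rw [hGh h hh.1]
        show (monomial h (f h)).coeff 0 = 0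
        rw [coeff_monomial, if_neg hh.2.1]
    · intro p hp
      refine mem_of_mono_mem P _ (mono_mem P hK π hπ _
        (Ideal.subset_span (Set.mem_insert _ _)) f hfL hf1 ?_) p ((mem_Iplus P).mp hp)
      intro h hh
      apply Ideal.subset_span
      exact Set.mem_insert_of_mem _ ⟨h, hh, hGh h hh.1⟩
  have hFG : (Iplus P).FG := ⟨hSfin.toFinset, by rw [Set.Finite.coe_toFinset]; exact hspan⟩
  apply le_antisymm
  · rw [← hspan]
    have h2 := Submodule.spanFinrank_span_le_ncard_of_finite (R := ↥(R P)) hSfin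
    have h3 := Set.ncard_insert_le (Tel P) (G '' minGens (poleOrders P))
    have h4 := Set.ncard_image_le (f := G) hfin
    exact h2.trans (h3.trans (by omega))
  · obtain ⟨S', hS'card, hS'span⟩ := Submodule.FG.exists_span_finset_card_eq_spanFinrank hFG
    rw [← hS'card, hcard]
    exact card_le_of_span P hK π hπ h1 hg f hfL hf1 S' hS'span

end Emb

end Groth.Agent.Lib.SectRingH1
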