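import Mathlib
import Groth.Prelude.Def_BlowUp2
import Groth.Agent.Lib.FibStalkIso_helper5
import Groth.Agent.Lib.KerStalk_helper5
import Groth.Agent.Lib.Regular_helper5

/-!
# The fibre of a morphism along a Cartier section is a DVR at the section (helper5): S8283
APPEND-ONLY once landed.
-/

set_option autoImplicit false
universe u

namespace Groth.Agent.SectionFibre

open AlgebraicGeometry CategoryTheory IsLocalRing
open Groth.Agent.FibStalkDimH8 FibRedH8 Groth.Agent.FibStalkIso

theorem dvr_of_principal (R : Type u) [CommRing R] [IsLocalRing R] [IsNoetherianRing R] (t : R)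
    (ht : t ∈ nonZeroDivisors R) (hmax : maximalIdeal R = Ideal.span {t}) :
    ∃ _ : IsDomain R, IsDiscreteValuationRing R := by
  have ht0 : t ≠ 0 := nonZeroDivisors.ne_zero ht
  haveI : IsRegularLocalRing R := by
    apply IsRegularLocalRing.of_spanFinrank_maximalIdeal_le
    have h1 : (maximalIdeal R).spanFinrank = 1 := by
      rw [hmax]
      exact Submodule.spanFinrank_singleton ht0
    rw [h1, ← IsLocalRing.maximalIdeal_height_eq_ringKrullDim]
    have h2 : (maximalIdeal R).height ≠ 0 := by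
      intro h
      have hmin := Ideal.height_eq_zero_iff.1 h
      have hdis := Ideal.disjoint_nonZeroDivisors_of_mem_minimalPrimes hmin
      have htm : t ∈ maximalIdeal R := by
        rw [hmax]
        exact Ideal.mem_span_singleton_self t
      exact Set.disjoint_left.1 hdis htm ht
    have h3 : 1 ≤ (maximalIdeal R).height := ENat.one_le_iff_ne_zero.2 h2
    exact_mod_cast h3
  haveI hdom : IsDomain R := Groth.Agent.RegularLib.isDomain R
  refine ⟨hdom, ?_⟩
  have hnf : ¬ IsField R := by
    intro hf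
    have := (IsLocalRing.isField_iff_maximalIdeal_eq).1 hf
    rw [hmax, Ideal.span_singleton_eq_bot] at this
    exact ht0 this
  have hp : (maximalIdeal R).IsPrincipal := ⟨⟨t, hmax⟩⟩
  exact ((IsDiscreteValuationRing.TFAE R hnf).out 0 4).2 hp

section Alg

variable {A' B A : Type u} [CommRing A'] [CommRing B] [CommRing A] [IsLocalRing A']
  [IsLocalRing B] [IsLocalRing A]
  (ρ : A' →+* B) (σ : B →+* A) [IsLocalHom ρ] [IsLocalHom σ]
  (hτ : Function.Bijective (σ.comp ρ))
  (t : B) (ht : t ∈ nonZeroDivisors B) (hker : RingHom.ker σ = Ideal.span {t})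

include hτ hker in
theorem exists_decomp (b : B) : ∃ c : A', ∃ b' : B, b = ρ c + t * b' ∧
    (b ∈ maximalIdeal B → c ∈ maximalIdeal A') := by
  obtain ⟨c, hc⟩ := hτ.2 (σ b)
  have hc' : σ (ρ c) = σ b := hc
  have h1 : b - ρ c ∈ RingHom.ker σ := by
    rw [RingHom.mem_ker, map_sub, sub_eq_zero]
    exact hc'.symm
  rw [hker, Ideal.mem_span_singleton'] at h1
  obtain ⟨b', hb'⟩ := h1
  refine ⟨c, b', ?_, ?_⟩
  · rw [mul_comm, hb']
    ring
  · intro hb
    rw [mem_maximalIdeal, mem_nonunits_iff] at hb ⊢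
    intro hcu
    apply hb
    have h2 : IsUnit (σ b) := by
      rw [← hc']
      exact (hcu.map ρ).map σ
    exact isUnit_of_map_unit σ b h2

include hτ hker in
theorem mem_I_decomp (x : B) (hx : x ∈ (maximalIdeal A').map ρ) :
    ∃ c ∈ maximalIdeal A', ∃ x' ∈ (maximalIdeal A').map ρ, x = ρ c + t * x' := by
  have hx' : x ∈ Ideal.span (⇑ρ '' (maximalIdeal A' : Set A')) := hx
  refine Submodule.span_induction (p := fun x _ => ∃ c ∈ maximalIdeal A',
    ∃ x' ∈ (maximalIdeal A').map ρ, x = ρ c + t * x') ?_ ?_ ?_ ?_ hx'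
  · rintro _ ⟨m, hm, rfl⟩
    exact ⟨m, hm, 0, zero_mem _, by simp⟩
  · exact ⟨0, zero_mem _, 0, zero_mem _, by simp⟩
  · rintro x y _ _ ⟨c, hc, x', hx', rfl⟩ ⟨d, hd, y', hy', rfl⟩
    exact ⟨c + d, add_mem hc hd, x' + y', add_mem hx' hy', by rw [map_add]; ring⟩
  · rintro b x _ ⟨c, hc, x', hx', rfl⟩
    obtain ⟨cb, b', hb, -⟩ := exists_decomp ρ σ hτ t hker b
    refine ⟨cb * c, Ideal.mul_mem_left _ _ hc, b' * ρ c + b * x',
      add_mem (Ideal.mul_mem_left _ _ (Ideal.mem_map_of_mem ρ hc))
        (Ideal.mul_mem_left _ _ hx'), ?_⟩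
    rw [smul_eq_mul, map_mul]
    calc b * (ρ c + t * x') = b * ρ c + t * (b * x') := by ring
      _ = (ρ cb + t * b') * ρ c + t * (b * x') := by rw [← hb]
      _ = ρ cb * ρ c + t * (b' * ρ c + b * x') := by ring

include hτ ht hker in
theorem mul_mem_I (b : B) (h : t * b ∈ (maximalIdeal A').map ρ) :
    b ∈ (maximalIdeal A').map ρ := by
  obtain ⟨c, hc, x', hx', hx⟩ := mem_I_decomp ρ σ hτ t hker _ h
  have h0 : σ t = 0 := by
    have : t ∈ RingHom.ker σ := by
      rw [hker]
      exact Ideal.mem_span_singleton_self t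
    exact this
  have h1 : (σ.comp ρ) c = 0 := by
    have := congrArg σ hx
    simp only [map_add, map_mul, h0, zero_mul, add_zero] at this
    exact this.symm
  have hc0 : c = 0 := hτ.1 (by rw [h1, map_zero])
  rw [hc0, map_zero, zero_add] at hx
  have hbx : b = x' := by
    have h2 : (b - x') * t = 0 := by
      rw [sub_mul, mul_comm b t, mul_comm x' t, hx, sub_self]
    exact sub_eq_zero.1 ((mem_nonZeroDivisors_iff_right.1 ht) _ h2)
  rw [hbx]
  exact hx'

include hτ hker in
theorem maximalIdeal_eq :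
    maximalIdeal B = (maximalIdeal A').map ρ ⊔ Ideal.span {t} := by
  apply le_antisymm
  · intro b hb
    obtain ⟨c, b', hb', hc⟩ := exists_decomp ρ σ hτ t hker b
    rw [hb']
    exact Ideal.add_mem _ (Ideal.mem_sup_left (Ideal.mem_map_of_mem ρ (hc hb)))
      (Ideal.mem_sup_right (Ideal.mul_mem_right _ _ (Ideal.mem_span_singleton_self t)))
  · refine sup_le (((IsLocalRing.local_hom_TFAE ρ).out 0 2).mp (inferInstance : IsLocalHom ρ)) ?_
    rw [Ideal.span_le, Set.singleton_subset_iff]
    show t ∈ maximalIdeal B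
    rw [mem_maximalIdeal, mem_nonunits_iff]
    intro hu
    have h0 : σ t = 0 := by
      have : t ∈ RingHom.ker σ := by
        rw [hker]
        exact Ideal.mem_span_singleton_self t
      exact this
    have := hu.map σ
    rw [h0] at this
    exact not_isUnit_zero this

include hτ ht hker in
theorem quot_props [IsNoetherianRing (B ⧸ (maximalIdeal A').map ρ)] :
    ∃ _ : IsDomain (B ⧸ (maximalIdeal A').map ρ),
      IsDiscreteValuationRing (B ⧸ (maximalIdeal A').map ρ) := by
  have hIle : (maximalIdeal A').map ρ ≤ maximalIdeal B :=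
    ((IsLocalRing.local_hom_TFAE ρ).out 0 2).mp (inferInstance : IsLocalHom ρ)
  haveI : IsLocalRing (B ⧸ (maximalIdeal A').map ρ) := Groth.Agent.FibDim.isLocalRing_quot hIle
  have hmax : maximalIdeal (B ⧸ (maximalIdeal A').map ρ) =
      Ideal.span {Ideal.Quotient.mk ((maximalIdeal A').map ρ) t} := by
    rw [← IsLocalRing.map_maximalIdeal_of_surjective (Ideal.Quotient.mk ((maximalIdeal A').map ρ))
      Ideal.Quotient.mk_surjective, maximalIdeal_eq ρ σ hτ t hker, Ideal.map_sup,
      Ideal.map_quotient_self, bot_sup_eq, Ideal.map_span, Set.image_singleton]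
  have hnzd : Ideal.Quotient.mk ((maximalIdeal A').map ρ) t ∈
      nonZeroDivisors (B ⧸ (maximalIdeal A').map ρ) := by
    rw [mem_nonZeroDivisors_iff_right]
    intro x hx
    obtain ⟨b, rfl⟩ := Ideal.Quotient.mk_surjective x
    rw [← map_mul, Ideal.Quotient.eq_zero_iff_mem, mul_comm] at hx
    exact Ideal.Quotient.eq_zero_iff_mem.2 (mul_mem_I ρ σ hτ t ht hker b hx)
  exact dvr_of_principal _ _ hnzd hmax

end Alg

theorem main8283 {X V : Scheme.{u}} (π : V ⟶ X) [LocallyOfFiniteType π]
    (j : X ⟶ V) [IsClosedImmersion j] (hj : j ≫ π = 𝟙 X)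
    (hJ : BlowUp.IsEffCartierIdeal j.ker) (x : X) :
    ∃ _ : IsDomain ((π.fiber (π.base (j.base x))).presheaf.stalk (π.asFiber (j.base x))),
      IsDiscreteValuationRing
        ((π.fiber (π.base (j.base x))).presheaf.stalk (π.asFiber (j.base x))) := by
  obtain ⟨U, hxU, f, hf, hgen⟩ := hJ (j x)
  have hU : IsAffineOpen U.1 := U.2
  haveI : IsClosedImmersion (j ∣_ U.1) := inferInstance
  have hker0 := Groth.Agent.KerStalk.ker_stalkMap j U.1 hU x hxU
  haveI : IsLocalHom (π.stalkMap (j x)).hom := inferInstance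
  haveI : IsLocalHom (j.stalkMap x).hom := inferInstance
  have hτ : Function.Bijective ((j.stalkMap x).hom.comp (π.stalkMap (j x)).hom) := by
    haveI : IsIso (j ≫ π) := by
      rw [hj]
      infer_instance
    have h1 : (j ≫ π).stalkMap x = π.stalkMap (j x) ≫ j.stalkMap x :=
      Scheme.Hom.stalkMap_comp j π x
    have h2 : Function.Bijective ((j ≫ π).stalkMap x).hom :=
      ConcreteCategory.bijective_of_isIso _
    rw [h1] at h2
    exact h2
  have hkerU : RingHom.ker (j.app U.1).hom = Ideal.span {f} := by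
    rw [← hgen]
    exact (Scheme.Hom.ker_apply j U).symm
  have hker : RingHom.ker (j.stalkMap x).hom =
      Ideal.span {(V.presheaf.germ U.1 (j x) hxU).hom f} := by
    rw [hker0, hkerU, Ideal.map_span, Set.image_singleton]
  have ht : (V.presheaf.germ U.1 (j x) hxU).hom f ∈ nonZeroDivisors (V.presheaf.stalk (j x)) := by
    letI := TopCat.Presheaf.algebra_section_stalk V.presheaf (⟨j x, hxU⟩ : U.1)
    haveI := hU.isLocalization_stalk ⟨j x, hxU⟩
    exact IsLocalization.map_nonZeroDivisors_le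
      (hU.primeIdealOf ⟨j x, hxU⟩).asIdeal.primeCompl _ (Submonoid.mem_map_of_mem _ hf)
  haveI : IsLocallyNoetherian (π.fiber (π (j x))) := by
    haveI : LocallyOfFiniteType (π.fiberToSpecResidueField (π (j x))) :=
      MorphismProperty.pullback_snd _ _ inferInstance
    exact LocallyOfFiniteType.isLocallyNoetherian (π.fiberToSpecResidueField (π (j x)))
  haveI : IsNoetherianRing (V.presheaf.stalk (j x) ⧸
      (maximalIdeal (X.presheaf.stalk (π (j x)))).map (π.stalkMap (j x)).hom) :=
    isNoetherianRing_of_ringEquiv _ (fibStalkEquiv π (j x)).symm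
  obtain ⟨hdom, hdvr⟩ := quot_props (π.stalkMap (j x)).hom (j.stalkMap x).hom hτ _ ht hker
  haveI := hdom
  haveI := hdvr
  haveI hdom' : IsDomain ((π.fiber (π.base (j.base x))).presheaf.stalk (π.asFiber (j.base x))) :=
    MulEquiv.isDomain _ (fibStalkEquiv π (j x)).symm.toMulEquiv
  exact ⟨hdom', IsDiscreteValuationRing.RingEquivClass.isDiscreteValuationRing (fibStalkEquiv π (j x))⟩

end Groth.Agent.SectionFibre
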