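import Mathlib
import Groth.Prelude
import Groth.Agent.Lib.Seesaw5_helper9
import Groth.Agent.Lib.SecGen_helper2
import Groth.Agent.Lib.Tens45_helper8

/-!
# The seesaw principle with the base change hypothesis in degree zero (helper2)

For `f : X ⟶ Y` proper flat with `Y` locally Noetherian, an invertible module `L` which is
trivial on the fibre at `y`, with `κ(y) = Γ(X_y, O)` and with the degree-zero base change map at
`y` an epimorphism, is generated by one section over `f⁻¹ V` for a neighbourhood `V` of `y`.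
APPEND-ONLY once landed.
-/

set_option autoImplicit false
set_option linter.style.haveILetI false
set_option linter.unusedSectionVars false
universe u
open CategoryTheory Limits AlgebraicGeometry TopologicalSpace Opposite TensorProduct MonoidalCategory

namespace Groth.Agent.Lib.SeesawH2

open Groth.Agent.Lib.BCLocH2 QcqsLoc QCohExtn GenLocH8 FLFH8 TensH8 Groth.Agent.Lib.H0LiftH2 PBH8
  Groth.Agent.TensInv Seesaw9 Groth.Agent.Lib.CBCH2

section Near

/-- if the pullback of a local section `t` of an invertible module along `g : Z ⟶ X` is a unit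
multiple of a global generator, then `t` generates near every point of the image of `g` -/
theorem isGen_near_of_pullback {Z X : Scheme.{u}} (g : Z ⟶ X) {N : X.Modules}
    (hN : PicF.IsInvertible N) {W : X.Opens} (t : Γ(N, W)) (hZW : (⊤ : Z.Opens) ≤ g ⁻¹ᵁ W)
    (σ : Γ((Scheme.Modules.pullback g).obj N, ⊤))
    (hσ : IsGen ((Scheme.Modules.pullback g).obj N) ⊤ σ)
    (u : Γ(Z, ⊤)) (hu : IsUnit u) (hs : cUV g N hZW t = u • σ) (z : Z) :
    ∃ (O : X.Opens) (hO : O ≤ W), g z ∈ O ∧ IsGen N O (rF N hO t) := by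
  obtain ⟨V, hV, hxV, e₀, he₀⟩ := exists_isGen hN (g z)
  have hzW : g z ∈ W := hZW (show z ∈ (⊤ : Z.Opens) from trivial)
  have hO₁V : V ⊓ W ≤ V := inf_le_left
  have hO₁W : V ⊓ W ≤ W := inf_le_right
  have he₁ : IsGen N (V ⊓ W) (rF N hO₁V e₀) := he₀.res hO₁V
  obtain ⟨a, ha⟩ := he₁.exists_coef (rF N hO₁W t)
  have hg₁ : IsGen ((Scheme.Modules.pullback g).obj N) (g ⁻¹ᵁ (V ⊓ W))
      (cUV g N (le_rfl : g ⁻¹ᵁ (V ⊓ W) ≤ g ⁻¹ᵁ (V ⊓ W)) (rF N hO₁V e₀)) :=
    isGen_cUV_res g hN hV he₀ hO₁V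
  have htop : g ⁻¹ᵁ (V ⊓ W) ≤ (⊤ : Z.Opens) := le_top
  have hg₂ : IsGen ((Scheme.Modules.pullback g).obj N) (g ⁻¹ᵁ (V ⊓ W))
      (rX htop u • rF ((Scheme.Modules.pullback g).obj N) htop σ) :=
    isGen_smul_of_isUnit (hσ.res htop) (hu.map (rX htop))
  have hL : rX htop u • rF ((Scheme.Modules.pullback g).obj N) htop σ =
      cUV g N (htop.trans hZW) t := by
    rw [← rF_smul, ← hs, rF_cUV]
  have hR : ((g.app (V ⊓ W)).hom a) •
      cUV g N (le_rfl : g ⁻¹ᵁ (V ⊓ W) ≤ g ⁻¹ᵁ (V ⊓ W)) (rF N hO₁V e₀) =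
      cUV g N (htop.trans hZW) t := by
    rw [← cUV_smul_app, ← ha, cUV_resV]
  rw [hL, ← hR] at hg₂
  have hunit : IsUnit ((g.app (V ⊓ W)).hom a) := isUnit_of_isGen_smul hg₁ hg₂
  have hz₁ : z ∈ g ⁻¹ᵁ (V ⊓ W) := ⟨hxV, hzW⟩
  have hpre : g ⁻¹ᵁ (X.basicOpen a) = Z.basicOpen ((g.app (V ⊓ W)).hom a) :=
    Scheme.preimage_basicOpen g a
  have hzb : g z ∈ X.basicOpen a := by
    have h1 : z ∈ g ⁻¹ᵁ (X.basicOpen a) := by
      rw [hpre, Scheme.basicOpen_of_isUnit Z hunit]
      exact hz₁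
    exact h1
  have hbO : X.basicOpen a ≤ V ⊓ W := X.basicOpen_le a
  refine ⟨X.basicOpen a, hbO.trans hO₁W, hzb, ?_⟩
  have h1 : rF N (hbO.trans hO₁W) t = rX hbO a • rF N (hbO.trans hO₁V) e₀ := by
    rw [← rF_rF N hbO hO₁W, ha, rF_smul, rF_rF]
  rw [h1]
  exact isGen_smul_of_isUnit (he₀.res (hbO.trans hO₁V))
    (X.toRingedSpace.isUnit_res_basicOpen a)

/-- a local section generating along the fibre of a closed map generates over the preimage of a
neighbourhood -/
theorem exists_isGen_near_fibre {X Y : Scheme.{u}} (f : X ⟶ Y) [UniversallyClosed f]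
    {N : X.Modules} {V : Y.Opens} (y : Y) (hyV : y ∈ V) (t : Γ(N, f ⁻¹ᵁ V))
    (hfib : ∀ x : X, f x = y →
      ∃ (O : X.Opens) (hO : O ≤ f ⁻¹ᵁ V), x ∈ O ∧ IsGen N O (rF N hO t)) :
    ∃ (U : Y.Opens) (hU : U ≤ V), y ∈ U ∧
      IsGen N (f ⁻¹ᵁ U) (rF N (f.preimage_mono hU) t) := by
  let G : X.Opens := sSup {O : X.Opens | ∃ hO : O ≤ f ⁻¹ᵁ V, IsGen N O (rF N hO t)}
  have hclosed : IsClosed (f '' ((SetLike.coe G)ᶜ)) :=
    f.isClosedMap _ G.isOpen.isClosed_compl
  let U₀ : Y.Opens := ⟨(f '' ((SetLike.coe G)ᶜ))ᶜ, hclosed.isOpen_compl⟩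
  have hyU₀ : y ∈ U₀ := by
    rintro ⟨x, hxG, hx⟩
    obtain ⟨O, hO, hxO, hg⟩ := hfib x hx
    exact hxG (Opens.mem_sSup.mpr ⟨O, ⟨hO, hg⟩, hxO⟩)
  refine ⟨V ⊓ U₀, inf_le_left, ⟨hyV, hyU₀⟩, ?_⟩
  apply isGen_of_cover
  intro x hx
  have hx' : f x ∈ V ⊓ U₀ := hx
  have hxG : x ∈ G := by
    by_contra hcon
    exact hx'.2 ⟨x, hcon, rfl⟩
  obtain ⟨O, ⟨hO, hg⟩, hxO⟩ := Opens.mem_sSup.mp hxG
  refine ⟨O ⊓ f ⁻¹ᵁ (V ⊓ U₀), inf_le_right, ⟨hxO, hx⟩, ?_⟩
  have h1 := hg.res (inf_le_left : O ⊓ f ⁻¹ᵁ (V ⊓ U₀) ≤ O)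
  rw [rF_rF] at h1 ⊢
  exact h1

end Near

section Lift

variable {X S : Scheme.{u}} (f : X ⟶ S) [QuasiCompact f] [QuasiSeparated f]
  (F : X.Modules) [F.IsQuasicoherent] (s : S)

/-- if the degree-zero base change map at `s` is an epimorphism, the global sections of the
restriction of `F` to the fibre are spanned by the restrictions of sections of `F` over
`f⁻¹ V`, for any affine open neighbourhood `V` of `s` -/
theorem span_cUV_fibre_of_epi_bc0
    (hepi : Epi (CohBC.bc0 f (S.fromSpecResidueField s) (f.fiberToSpecResidueField s)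
      (f.fiberι s) (f.fiber_fac s) F))
    {V : S.Opens} (hV : IsAffineOpen V) (hsV : s ∈ V)
    (h : (⊤ : (f.fiber s).Opens) ≤ (f.fiberι s) ⁻¹ᵁ (f ⁻¹ᵁ V)) :
    Submodule.span Γ(f.fiber s, ⊤) (Set.range (cUV (f.fiberι s) F h)) = ⊤ := by
  have hX : IsPullback (f.fiberι s) (f.fiberToSpecResidueField s) f
      (S.fromSpecResidueField s) := IsPullback.of_hasPullback f (S.fromSpecResidueField s)
  haveI : QuasiSeparated (f.fiberToSpecResidueField s) :=
    MorphismProperty.of_isPullback (P := @QuasiSeparated) hX inferInstance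
  haveI : QuasiCompact (f.fiberToSpecResidueField s) :=
    MorphismProperty.of_isPullback (P := @QuasiCompact) hX inferInstance
  haveI : ((Scheme.Modules.pullback (f.fiberι s)).obj F).IsQuasicoherent :=
    PBH8.isQuasicoherent_pullback _ F
  haveI : ((Scheme.Modules.pushforward (f.fiberToSpecResidueField s)).obj
      ((Scheme.Modules.pullback (f.fiberι s)).obj F)).IsQuasicoherent :=
    QcqsLoc.isQuasicoherent_pushforward_qcqs (f.fiberToSpecResidueField s) _
  haveI : ((Scheme.Modules.pushforward f).obj F).IsQuasicoherent :=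
    QcqsLoc.isQuasicoherent_pushforward_qcqs f _
  haveI : ((Scheme.Modules.pullback (S.fromSpecResidueField s)).obj
      ((Scheme.Modules.pushforward f).obj F)).IsQuasicoherent :=
    PBH8.isQuasicoherent_pullback _ _
  have hW : (⊤ : (Spec (S.residueField s)).Opens) ≤ (S.fromSpecResidueField s) ⁻¹ᵁ V := by
    intro z _
    show (S.fromSpecResidueField s) z ∈ V
    rw [Scheme.fromSpecResidueField_apply s z]
    exact hsV
  have hsurj := QCohExact.app_surjective_of_epi
    (CohBC.bc0 f (S.fromSpecResidueField s) (f.fiberToSpecResidueField s)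
      (f.fiberι s) (f.fiber_fac s) F) (isAffineOpen_top (Spec (S.residueField s)))
  have hspan := PBH8.span_cUV (S.fromSpecResidueField s) ((Scheme.Modules.pushforward f).obj F)
    (isAffineOpen_top (Spec (S.residueField s))) hV hW
  have key : ∀ z ∈ Submodule.span Γ(Spec (S.residueField s), ⊤)
      (Set.range (cUV (S.fromSpecResidueField s) ((Scheme.Modules.pushforward f).obj F) hW)),
      ((CohBC.bc0 f (S.fromSpecResidueField s) (f.fiberToSpecResidueField s)
        (f.fiberι s) (f.fiber_fac s) F).app ⊤ z :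
          Γ((Scheme.Modules.pullback (f.fiberι s)).obj F, ⊤)) ∈
        Submodule.span Γ(f.fiber s, ⊤) (Set.range (cUV (f.fiberι s) F h)) := by
    intro z hz
    induction hz using Submodule.span_induction with
    | mem x hx =>
      obtain ⟨t, rfl⟩ := hx
      rw [bc0_cUV]
      exact Submodule.subset_span ⟨t, rfl⟩
    | zero =>
      rw [map_zero]
      exact Submodule.zero_mem _
    | add x y _ _ hx hy =>
      rw [map_add]
      exact Submodule.add_mem _ hx hy
    | smul c x _ hx =>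
      rw [Scheme.Modules.Hom.app_smul]
      exact Submodule.smul_mem _ (((f.fiberToSpecResidueField s).app ⊤).hom c) hx
  rw [eq_top_iff]
  intro σ _
  obtain ⟨z, hz⟩ := hsurj σ
  have hzmem : z ∈ Submodule.span Γ(Spec (S.residueField s), ⊤)
      (Set.range (cUV (S.fromSpecResidueField s) ((Scheme.Modules.pushforward f).obj F) hW)) := by
    rw [hspan]
    exact Submodule.mem_top
  have := key z hzmem
  rw [hz] at this
  exact this

/-- if moreover the restriction of `F` to the fibre is freely generated by `σ₀` and the global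
functions of the fibre form a field, some section over `f⁻¹ V` restricts to a unit multiple of
`σ₀` -/
theorem exists_lift_generator_of_epi_bc0
    (hepi : Epi (CohBC.bc0 f (S.fromSpecResidueField s) (f.fiberToSpecResidueField s)
      (f.fiberι s) (f.fiber_fac s) F))
    {V : S.Opens} (hV : IsAffineOpen V) (hsV : s ∈ V)
    (h : (⊤ : (f.fiber s).Opens) ≤ (f.fiberι s) ⁻¹ᵁ (f ⁻¹ᵁ V))
    (hfield : ∀ u : Γ(f.fiber s, ⊤), u ≠ 0 → IsUnit u) [Nontrivial Γ(f.fiber s, ⊤)]
    (σ₀ : Γ((Scheme.Modules.pullback (f.fiberι s)).obj F, ⊤))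
    (hσ₀ : IsGen ((Scheme.Modules.pullback (f.fiberι s)).obj F) ⊤ σ₀) :
    ∃ (t : Γ(F, f ⁻¹ᵁ V)) (u : Γ(f.fiber s, ⊤)), IsUnit u ∧
      cUV (f.fiberι s) F h t = u • σ₀ := by
  by_contra hcon
  push_neg at hcon
  have hzero : ∀ t : Γ(F, f ⁻¹ᵁ V), cUV (f.fiberι s) F h t = 0 := by
    intro t
    obtain ⟨a, ha⟩ := hσ₀.exists_coef (cUV (f.fiberι s) F h t)
    by_cases ha0 : a = 0
    · rw [ha, ha0, zero_smul]
    · exact absurd ha (hcon t a (hfield a ha0))
  have hspan := span_cUV_fibre_of_epi_bc0 f F s hepi hV hsV h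
  have hbot : Submodule.span Γ(f.fiber s, ⊤) (Set.range (cUV (f.fiberι s) F h)) = ⊥ := by
    rw [Submodule.span_eq_bot]
    rintro _ ⟨t, rfl⟩
    exact hzero t
  rw [hbot] at hspan
  have hσ0 : σ₀ = 0 := by
    have h1 : σ₀ ∈ (⊤ : Submodule Γ(f.fiber s, ⊤)
        Γ((Scheme.Modules.pullback (f.fiberι s)).obj F, ⊤)) := Submodule.mem_top
    rw [← hspan] at h1
    exact (Submodule.mem_bot _).mp h1
  have h1 : (1 : Γ(f.fiber s, ⊤)) •
      rF ((Scheme.Modules.pullback (f.fiberι s)).obj F) (le_refl ⊤) σ₀ = 0 := by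
    rw [SubExt.rF_self, hσ0, smul_zero]
  exact one_ne_zero ((hσ₀ ⊤ le_rfl).2 1 h1)

/-- a local version of `epi_bc0_of_section` -/
theorem epi_bc0_of_local_section {V : S.Opens} (hsV : s ∈ V) (τ : Γ(F, f ⁻¹ᵁ V))
    (h : (⊤ : (f.fiber s).Opens) ≤ (f.fiberι s) ⁻¹ᵁ (f ⁻¹ᵁ V))
    (hsurj : ∀ σ : Γ((Scheme.Modules.pullback (f.fiberι s)).obj F, ⊤),
      ∃ c : Γ(Spec (S.residueField s), ⊤),
        σ = (f.fiberToSpecResidueField s).appTop.hom c • cUV (f.fiberι s) F h τ) :
    Epi (CohBC.bc0 f (S.fromSpecResidueField s) (f.fiberToSpecResidueField s) (f.fiberι s)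
      (f.fiber_fac s) F) := by
  have hX : IsPullback (f.fiberι s) (f.fiberToSpecResidueField s) f
      (S.fromSpecResidueField s) := IsPullback.of_hasPullback f (S.fromSpecResidueField s)
  haveI : QuasiSeparated (f.fiberToSpecResidueField s) :=
    MorphismProperty.of_isPullback (P := @QuasiSeparated) hX inferInstance
  haveI : QuasiCompact (f.fiberToSpecResidueField s) :=
    MorphismProperty.of_isPullback (P := @QuasiCompact) hX inferInstance
  haveI : ((Scheme.Modules.pullback (f.fiberι s)).obj F).IsQuasicoherent :=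
    PBH8.isQuasicoherent_pullback _ F
  haveI : ((Scheme.Modules.pushforward (f.fiberToSpecResidueField s)).obj
      ((Scheme.Modules.pullback (f.fiberι s)).obj F)).IsQuasicoherent :=
    QcqsLoc.isQuasicoherent_pushforward_qcqs (f.fiberToSpecResidueField s) _
  refine Groth.Agent.Lib.LimMod.epi_of_affine_cover _
    (fun x => ⟨⊤, isAffineOpen_top _, trivial, fun z => ?_⟩)
  have hW : (⊤ : (Spec (S.residueField s)).Opens) ≤ (S.fromSpecResidueField s) ⁻¹ᵁ V := by
    intro z _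
    show (S.fromSpecResidueField s) z ∈ V
    rw [Scheme.fromSpecResidueField_apply s z]
    exact hsV
  obtain ⟨b, hb⟩ := hsurj z
  refine ⟨b • PBH8.cUV (S.fromSpecResidueField s)
    ((Scheme.Modules.pushforward f).obj F) hW
      (show Γ((Scheme.Modules.pushforward f).obj F, V) from τ), ?_⟩
  rw [Scheme.Modules.Hom.app_smul, bc0_cUV]
  exact hb.symm

end Lift

section Key

variable {X Y : Scheme.{u}} (f : X ⟶ Y)

/-- A generator of `L` over `f⁻¹ V` is a generator of `f_* L` over `V` when `O_S ≅ f_* O_X`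
over `V` (no hypotheses on `f`). -/
theorem isGen_pushforward'' {L : X.Modules} {V : Y.Opens}
    (hf : ∀ O : Y.Opens, O ≤ V → Function.Bijective (f.app O))
    {e : Γ(L, f ⁻¹ᵁ V)} (he : IsGen L (f ⁻¹ᵁ V) e) :
    IsGen ((Scheme.Modules.pushforward f).obj L) V
      (show Γ((Scheme.Modules.pushforward f).obj L, V) from e) := by
  intro O hO
  have hOV : f ⁻¹ᵁ O ≤ f ⁻¹ᵁ V := fun _ hz => hO hz
  obtain ⟨h1, h2⟩ := he (f ⁻¹ᵁ O) hOV
  constructor
  · intro l
    obtain ⟨a, ha⟩ := h1 l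
    obtain ⟨d, hd⟩ := (hf O hO).2 a
    refine ⟨d, ?_⟩
    rw [← hd] at ha
    exact ha
  · intro c hc
    have := h2 ((f.app O).hom c) hc
    exact (hf O hO).1 (this.trans (map_zero _).symm)

/-- if `L` is, locally over the base, generated by one section and `O_Y ≅ f_* O_X` locally, then
`f_* L` is invertible and `f^* f_* L ⟶ L` is an isomorphism -/
theorem main_push_of_key (L : X.Modules)
    (hkey : ∀ y : Y, ∃ V : Y.Opens, IsAffineOpen V ∧ y ∈ V ∧
      (∀ O : Y.Opens, O ≤ V → Function.Bijective (f.app O)) ∧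
      ∃ e : Γ(L, f ⁻¹ᵁ V), IsGen L (f ⁻¹ᵁ V) e) :
    PicF.IsInvertible ((Scheme.Modules.pushforward f).obj L) ∧
      IsIso ((Scheme.Modules.pullbackPushforwardAdjunction f).counit.app L) := by
  have hM : PicF.IsInvertible ((Scheme.Modules.pushforward f).obj L) := by
    apply isInvertible_of_gens
    intro s
    obtain ⟨V, hV, hsV, hf, e, he⟩ := hkey s
    exact ⟨V, hV, hsV, _, isGen_pushforward'' f hf he⟩
  refine ⟨hM, ?_⟩
  apply isIso_of_isGen_cover
  intro z
  obtain ⟨V, hV, hsV, hf, e, he⟩ := hkey (f z)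
  refine ⟨f ⁻¹ᵁ V, hsV, cUV f ((Scheme.Modules.pushforward f).obj L) le_rfl
    (show Γ((Scheme.Modules.pushforward f).obj L, V) from e),
    isGen_cUV f hM hV (isGen_pushforward'' f hf he), ?_⟩
  rw [counit_cUV f L (le_rfl : f ⁻¹ᵁ V ≤ f ⁻¹ᵁ V) e, SubExt.rF_self]
  exact he

/-- `O_S ⟶ f_* O_X` is an isomorphism if it is so locally on the base -/
theorem isIso_app_of_local
    (h : ∀ y : Y, ∃ U : Y.Opens, y ∈ U ∧ ∀ V : Y.Opens, V ≤ U → IsIso (f.app V))
    (V : Y.Opens) : IsIso (f.app V) := by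
  let G : TopCat.Sheaf CommRingCat Y := (TopCat.Sheaf.pushforward CommRingCat f.base).obj X.sheaf
  let φ : Y.sheaf ⟶ G := ⟨f.c⟩
  let B : {T : Y.Opens // IsIso (f.app T)} → Y.Opens := Subtype.val
  have hB : Opens.IsBasis (Set.range B) := by
    rw [Opens.isBasis_iff_nbhd]
    intro U x hxU
    obtain ⟨U₂, hxU₂, hU₂⟩ := h x
    exact ⟨U₂ ⊓ U, ⟨⟨U₂ ⊓ U, hU₂ _ inf_le_left⟩, rfl⟩, ⟨hxU₂, hxU⟩, inf_le_right⟩
  have hφ : IsIso φ := TopCat.Sheaf.isIso_iff_isIso_basis (B := B) hB (fun T => T.2)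
  have h2 : IsIso ((TopCat.Sheaf.forget CommRingCat Y).map φ) := inferInstance
  exact (NatTrans.isIso_iff_isIso_app ((TopCat.Sheaf.forget CommRingCat Y).map φ)).mp h2 (op V)

variable [IsProper f] [Flat f] [IsLocallyNoetherian Y]

/-- the bijectivity hypothesis for geometrically integral fibres (no reducedness of the base) -/
theorem bijective_of_geomIntegral' [GeometricallyIntegral f] (y : Y) :
    Function.Bijective (algebraMap (Y.residueField y) Γ(f.fiber y, ⊤)) := by
  haveI : GeometricallyConnected f := geomConnected_of_geomIrreducible f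
  haveI : IsProper (f.fiberToSpecResidueField y) :=
    MorphismProperty.of_isPullback (P := @IsProper)
      (IsPullback.of_hasPullback f (Y.fromSpecResidueField y)) inferInstance
  haveI : GeometricallyReduced (f.fiberToSpecResidueField y) :=
    inferInstanceAs (GeometricallyReduced (pullback.snd f (Y.fromSpecResidueField y)))
  haveI : GeometricallyConnected (f.fiberToSpecResidueField y) :=
    inferInstanceAs (GeometricallyConnected (pullback.snd f (Y.fromSpecResidueField y)))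
  have h := Groth.Agent.Lib.H0ConstH4.toGlobal_bijective (Y.residueField y)
    (X := f.fiber y) (f.fiberToSpecResidueField y)
  exact h

/-- **the local generator**, from the epimorphism hypothesis on the base change map -/
theorem key_of_epi (L : X.Modules) (hL : PicF.IsInvertible L) (y : Y)
    (hbij : Function.Bijective (algebraMap (Y.residueField y) Γ(f.fiber y, ⊤)))
    (hfield : ∀ u : Γ(f.fiber y, ⊤), u ≠ 0 → IsUnit u)
    (htriv : Nonempty (CohIII.fiberMod f L y ≅ Coh.structureModule (f.fiber y)))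
    (hepi : Epi (CohBC.bc0 f (Y.fromSpecResidueField y) (f.fiberToSpecResidueField y)
      (f.fiberι y) (f.fiber_fac y) L)) :
    ∃ V : Y.Opens, IsAffineOpen V ∧ y ∈ V ∧
      (∀ O : Y.Opens, O ≤ V → Function.Bijective (f.app O)) ∧
      ∃ e : Γ(L, f ⁻¹ᵁ V), IsGen L (f ⁻¹ᵁ V) e := by
  haveI : L.IsQuasicoherent := isQuasicoherent_of_isInvertible hL
  obtain ⟨V₀, hV₀, hyV₀⟩ := exists_affine_nhd (Y := Y) y
  obtain ⟨θ⟩ := htriv
  let σ₀ : Γ((Scheme.Modules.pullback (f.fiberι y)).obj L, ⊤) :=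
    ap θ.symm.hom ⊤ (toM (1 : Γ(f.fiber y, ⊤)))
  have hσ₀ : IsGen ((Scheme.Modules.pullback (f.fiberι y)).obj L) ⊤ σ₀ :=
    isGen_of_iso θ.symm (isGen_one ⊤)
  haveI : Nontrivial Γ(f.fiber y, ⊤) := hbij.1.nontrivial
  have h : (⊤ : (f.fiber y).Opens) ≤ (f.fiberι y) ⁻¹ᵁ (f ⁻¹ᵁ V₀) := by
    intro z _
    show f (f.fiberι y z) ∈ V₀
    have h2 : f.fiberι y z ∈ Set.range (f.fiberι y) := ⟨z, rfl⟩
    rw [Scheme.Hom.range_fiberι] at h2
    have h3 : f (f.fiberι y z) = y := h2
    rw [h3]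
    exact hyV₀
  obtain ⟨t, u, hu, ht⟩ :=
    exists_lift_generator_of_epi_bc0 f L y hepi hV₀ hyV₀ h hfield σ₀ hσ₀
  have hfib : ∀ x : X, f x = y →
      ∃ (O : X.Opens) (hO : O ≤ f ⁻¹ᵁ V₀), x ∈ O ∧ IsGen L O (rF L hO t) := by
    intro x hx
    have hxr : x ∈ Set.range (f.fiberι y) := by
      rw [Scheme.Hom.range_fiberι]
      exact hx
    obtain ⟨z, hz⟩ := hxr
    rw [← hz]
    exact isGen_near_of_pullback (f.fiberι y) hL t h σ₀ hσ₀ u hu ht z
  obtain ⟨U₁, hU₁V, hyU₁, hg⟩ := exists_isGen_near_fibre f y hyV₀ t hfib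
  obtain ⟨U₂, hyU₂, hU₂⟩ := Groth.Agent.Lib.BCFunH2.main2393 f y hbij
  obtain ⟨_, ⟨V, hV : IsAffineOpen V, rfl⟩, hyV, hVU⟩ :=
    (Y.isBasis_affineOpens).exists_subset_of_mem_open
      (show y ∈ ((U₁ ⊓ U₂ : Y.Opens) : Set Y) from ⟨hyU₁, hyU₂⟩) (U₁ ⊓ U₂).isOpen
  have hVU' : V ≤ U₁ ⊓ U₂ := hVU
  have hle : f ⁻¹ᵁ V ≤ f ⁻¹ᵁ U₁ := fun _ hz => (hVU' hz).1
  refine ⟨V, hV, hyV, fun O hO => ?_, rF L hle (rF L (f.preimage_mono hU₁V) t), hg.res hle⟩
  haveI := hU₂ O (hO.trans (hVU'.trans inf_le_right))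
  exact ConcreteCategory.bijective_of_isIso (f.app O)

/-- the pullback of an invertible module on the base: the fibres have sections and the base
change map in degree zero is an epimorphism -/
theorem of_iso_pullback (L : X.Modules) (hL : PicF.IsInvertible L) (L₀ : Y.Modules)
    (hL₀ : PicF.IsInvertible L₀) (φ : L ≅ (Scheme.Modules.pullback f).obj L₀) (y : Y)
    (hbij : Function.Bijective (algebraMap (Y.residueField y) Γ(f.fiber y, ⊤))) :
    Nontrivial (CohIII.fiberH f L y 0) ∧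
      Epi (CohBC.bc0 f (Y.fromSpecResidueField y) (f.fiberToSpecResidueField y)
        (f.fiberι y) (f.fiber_fac y) L) := by
  haveI : L.IsQuasicoherent := isQuasicoherent_of_isInvertible hL
  constructor
  · obtain ⟨ψ⟩ := fibre_trivial_of_pullback f L₀ hL₀ y
    have htriv : Nonempty (CohIII.fiberMod f L y ≅ Coh.structureModule (f.fiber y)) :=
      ⟨(Scheme.Modules.pullback (f.fiberι y)).mapIso φ ≪≫ ψ⟩
    have h1 : Module.finrank (Y.residueField y) (CohIII.fiberH f L y 0) = 1 :=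
      fiberRank_zero_eq_one f L y hbij htriv
    exact Module.nontrivial_of_finrank_pos (R := Y.residueField y) (by rw [h1]; exact one_pos)
  · obtain ⟨V, hV, hyV, e₀, he₀⟩ := exists_isGen hL₀ y
    have h : (⊤ : (f.fiber y).Opens) ≤ (f.fiberι y) ⁻¹ᵁ (f ⁻¹ᵁ V) := by
      intro z _
      show f (f.fiberι y z) ∈ V
      have h2 : f.fiberι y z ∈ Set.range (f.fiberι y) := ⟨z, rfl⟩
      rw [Scheme.Hom.range_fiberι] at h2
      have h3 : f (f.fiberι y z) = y := h2
      rw [h3]
      exact hyV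
    have htop : (⊤ : (f.fiber y).Opens) ≤ (f.fiberι y ≫ f) ⁻¹ᵁ V := h
    let τ₀ : Γ((Scheme.Modules.pullback f).obj L₀, f ⁻¹ᵁ V) :=
      cUV f L₀ (le_rfl : f ⁻¹ᵁ V ≤ f ⁻¹ᵁ V) e₀
    let τ : Γ(L, f ⁻¹ᵁ V) := ap φ.inv (f ⁻¹ᵁ V) τ₀
    have h1 := isGen_cUV (f.fiberι y ≫ f) hL₀ hV he₀
    have h2 := h1.res htop
    rw [rF_cUV] at h2
    have h3 := isGen_of_iso ((Scheme.Modules.pullbackComp (f.fiberι y) f).app L₀).symm h2
    have h4 := isGen_of_iso ((Scheme.Modules.pullback (f.fiberι y)).mapIso φ.symm) h3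
    have hc := cUV_comp (f.fiberι y) f L₀ h (le_rfl : f ⁻¹ᵁ V ≤ f ⁻¹ᵁ V) htop e₀
    have h5 : ap ((Scheme.Modules.pullbackComp (f.fiberι y) f).app L₀).symm.hom ⊤
        (cUV (f.fiberι y ≫ f) L₀ htop e₀) =
        cUV (f.fiberι y) ((Scheme.Modules.pullback f).obj L₀) h τ₀ := by
      rw [← hc]
      exact iso_hom_inv_app ((Scheme.Modules.pullbackComp (f.fiberι y) f).app L₀) ⊤ _
    have h6 : ap ((Scheme.Modules.pullback (f.fiberι y)).mapIso φ.symm).hom ⊤
        (cUV (f.fiberι y) ((Scheme.Modules.pullback f).obj L₀) h τ₀) =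
        cUV (f.fiberι y) L h τ :=
      cUV_naturality (f.fiberι y) φ.inv h τ₀
    have hgen : IsGen ((Scheme.Modules.pullback (f.fiberι y)).obj L) ⊤
        (cUV (f.fiberι y) L h τ) := by
      rw [← h6, ← h5]
      exact h4
    refine epi_bc0_of_local_section f L y hyV τ h (fun σ => ?_)
    obtain ⟨a, ha⟩ := hgen.exists_coef σ
    obtain ⟨c, hc⟩ := hbij.2 a
    refine ⟨(Scheme.ΓSpecIso (Y.residueField y)).inv.hom c, ?_⟩
    rw [ha, ← hc]
    rfl

/-- an invertible module with an inverse, both having nonzero sections on an integral fibre, is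
trivial on that fibre -/
theorem trivial_fibre_of_nontrivial (L M : X.Modules) (hL : PicF.IsInvertible L)
    (hM : PicF.IsInvertible M) (e : CohB1.tensorMod L M ≅ Coh.structureModule X) (y : Y)
    [IsIntegral (f.fiber y)]
    (h1 : Nontrivial (CohIII.fiberH f L y 0)) (h2 : Nontrivial (CohIII.fiberH f M y 0)) :
    Nonempty (CohIII.fiberMod f L y ≅ Coh.structureModule (f.fiber y)) := by
  have hcL := isCoh_of_isInvertible hL
  have hcM := isCoh_of_isInvertible hM
  have hflL := isFlatOver_of_isInvertible f hL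
  have hflM := isFlatOver_of_isInvertible f hM
  have hpos1 : 0 < CohIII.fiberRank f L 0 y := by
    haveI := finite_fiberH f L hcL hflL 0 y
    exact Module.finrank_pos (R := Y.residueField y) (M := CohIII.fiberH f L y 0)
  have hpos2 : 0 < CohIII.fiberRank f M 0 y := by
    haveI := finite_fiberH f M hcM hflM 0 y
    exact Module.finrank_pos (R := Y.residueField y) (M := CohIII.fiberH f M y 0)
  letI := overFib f y
  have h1' : 0 < Module.finrank (Y.residueField y)
      (Coh.HH (f.fiber y) (CohIII.fiberMod f L y) 0) := hpos1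
  have h2' : 0 < Module.finrank (Y.residueField y)
      (Coh.HH (f.fiber y) (CohIII.fiberMod f M y) 0) := hpos2
  obtain ⟨s, hs⟩ := CurveRR.exists_section_of_finrank_pos (Y.residueField y) (f.fiber y) _ h1'
  obtain ⟨t, ht⟩ := CurveRR.exists_section_of_finrank_pos (Y.residueField y) (f.fiber y) _ h2'
  have e' : CohB1.tensorMod (CohIII.fiberMod f L y) (CohIII.fiberMod f M y) ≅
      Coh.structureModule (f.fiber y) :=
    Groth.Agent.InvTensP.pullbackTensorIso (f.fiberι y) hL hM ≪≫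
    (Scheme.Modules.pullback (f.fiberι y)).mapIso e ≪≫
    PBH8.pullbackUnitIso (f.fiberι y)
  exact trivial_of_sections (isUnit_of_ne_zero_fibre f y)
    (isInvertible_pullback (f.fiberι y) hL) (isInvertible_pullback (f.fiberι y) hM) e' s hs t ht

/-- **S16951**: the seesaw principle with the degree-zero base change hypothesis -/
theorem main16951 [GeometricallyIntegral f] (L M : X.Modules) (hL : PicF.IsInvertible L)
    (e : CohB1.tensorMod L M ≅ Coh.structureModule X) :
    ((∃ L₀ : Y.Modules, PicF.IsInvertible L₀ ∧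
        Nonempty (L ≅ (Scheme.Modules.pullback f).obj L₀)) ↔
      ((∀ s : Y, Nontrivial (CohIII.fiberH f L s 0)) ∧
        (∀ s : Y, Nontrivial (CohIII.fiberH f M s 0)) ∧
        (∀ s : Y, Epi (CohBC.bc0 f (Y.fromSpecResidueField s) (f.fiberToSpecResidueField s)
          (f.fiberι s) (f.fiber_fac s) L)) ∧
        (∀ s : Y, Epi (CohBC.bc0 f (Y.fromSpecResidueField s) (f.fiberToSpecResidueField s)
          (f.fiberι s) (f.fiber_fac s) M)))) ∧
    (((∀ s : Y, Nontrivial (CohIII.fiberH f L s 0)) ∧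
        (∀ s : Y, Nontrivial (CohIII.fiberH f M s 0)) ∧
        (∀ s : Y, Epi (CohBC.bc0 f (Y.fromSpecResidueField s) (f.fiberToSpecResidueField s)
          (f.fiberι s) (f.fiber_fac s) L)) ∧
        (∀ s : Y, Epi (CohBC.bc0 f (Y.fromSpecResidueField s) (f.fiberToSpecResidueField s)
          (f.fiberι s) (f.fiber_fac s) M))) →
      (∀ s : Y, CohIII.fiberRank f L 0 s = 1 ∧ CohIII.fiberRank f M 0 s = 1) ∧
      IsIso ((Scheme.Modules.pullbackPushforwardAdjunction f).counit.app L) ∧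
      ∀ L₀ : Y.Modules, PicF.IsInvertible L₀ →
        Nonempty (L ≅ (Scheme.Modules.pullback f).obj L₀) →
          Nonempty (L₀ ≅ (Scheme.Modules.pushforward f).obj L)) := by
  have hbij := fun y => bijective_of_geomIntegral' f y
  have hfield := fun y => isUnit_of_ne_zero_fibre f y
  have hMinv : PicF.IsInvertible M := InvTensH8.isInvertible_of_tensor_iso (comm M L ≪≫ e)
  have core : ((∀ s : Y, Nontrivial (CohIII.fiberH f L s 0)) ∧
        (∀ s : Y, Nontrivial (CohIII.fiberH f M s 0)) ∧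
        (∀ s : Y, Epi (CohBC.bc0 f (Y.fromSpecResidueField s) (f.fiberToSpecResidueField s)
          (f.fiberι s) (f.fiber_fac s) L)) ∧
        (∀ s : Y, Epi (CohBC.bc0 f (Y.fromSpecResidueField s) (f.fiberToSpecResidueField s)
          (f.fiberι s) (f.fiber_fac s) M))) →
      (∀ s : Y, CohIII.fiberRank f L 0 s = 1 ∧ CohIII.fiberRank f M 0 s = 1) ∧
      PicF.IsInvertible ((Scheme.Modules.pushforward f).obj L) ∧
      IsIso ((Scheme.Modules.pullbackPushforwardAdjunction f).counit.app L) := by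
    rintro ⟨hnL, hnM, heL, heM⟩
    have htrivL : ∀ y, Nonempty (CohIII.fiberMod f L y ≅ Coh.structureModule (f.fiber y)) :=
      fun y => trivial_fibre_of_nontrivial f L M hL hMinv e y (hnL y) (hnM y)
    have htrivM : ∀ y, Nonempty (CohIII.fiberMod f M y ≅ Coh.structureModule (f.fiber y)) :=
      fun y => trivial_fibre_of_nontrivial f M L hMinv hL (comm M L ≪≫ e) y (hnM y) (hnL y)
    have hkey := fun y => key_of_epi f L hL y (hbij y) (hfield y) (htrivL y) (heL y)
    obtain ⟨hinv, hiso⟩ := main_push_of_key f L hkey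
    exact ⟨fun s => ⟨fiberRank_zero_eq_one f L s (hbij s) (htrivL s),
      fiberRank_zero_eq_one f M s (hbij s) (htrivM s)⟩, hinv, hiso⟩
  have hfapp : ∀ U : Y.Opens, Function.Bijective (f.app U) := fun U => by
    haveI := isIso_app_of_local f
      (fun y => Groth.Agent.Lib.BCFunH2.main2393 f y (hbij y)) U
    exact ConcreteCategory.bijective_of_isIso (f.app U)
  refine ⟨⟨?_, ?_⟩, ?_⟩
  · rintro ⟨L₀, hL₀, ⟨φ⟩⟩
    obtain ⟨L₀', hL₀', ⟨e₀⟩⟩ := Groth.Agent.InvTensP.exists_inverse L₀ hL₀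
    let eO : CohB1.tensorMod ((Scheme.Modules.pullback f).obj L₀')
        ((Scheme.Modules.pullback f).obj L₀) ≅ Coh.structureModule X :=
      Groth.Agent.InvTensP.pullbackTensorIso f hL₀' hL₀ ≪≫
        (Scheme.Modules.pullback f).mapIso (comm L₀' L₀ ≪≫ e₀) ≪≫ PBH8.pullbackUnitIso f
    let φM : M ≅ (Scheme.Modules.pullback f).obj L₀' :=
      (rightUnit M).symm ≪≫ comm M (Coh.structureModule X) ≪≫ mapR eO.symm M ≪≫
        assoc ((Scheme.Modules.pullback f).obj L₀') ((Scheme.Modules.pullback f).obj L₀) M ≪≫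
        mapL ((Scheme.Modules.pullback f).obj L₀') (mapR φ.symm M ≪≫ e) ≪≫
        rightUnit ((Scheme.Modules.pullback f).obj L₀')
    exact ⟨fun s => (of_iso_pullback f L hL L₀ hL₀ φ s (hbij s)).1,
      fun s => (of_iso_pullback f M hMinv L₀' hL₀' φM s (hbij s)).1,
      fun s => (of_iso_pullback f L hL L₀ hL₀ φ s (hbij s)).2,
      fun s => (of_iso_pullback f M hMinv L₀' hL₀' φM s (hbij s)).2⟩
  · intro hB
    obtain ⟨-, hinv, hiso⟩ := core hB
    haveI := hiso
    exact ⟨_, hinv,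
      ⟨(asIso ((Scheme.Modules.pullbackPushforwardAdjunction f).counit.app L)).symm⟩⟩
  · intro hB
    obtain ⟨hrk, hinv, hiso⟩ := core hB
    refine ⟨hrk, hiso, fun L₀ hL₀ ⟨φ⟩ => ?_⟩
    haveI : IsIso ((Scheme.Modules.pullbackPushforwardAdjunction f).unit.app L₀) :=
      TensH8.isIso_unit_of_finLocFree f hfapp (TensH8.isFinLocFree_of_isInvertible hL₀)
    exact ⟨asIso ((Scheme.Modules.pullbackPushforwardAdjunction f).unit.app L₀) ≪≫
      (Scheme.Modules.pushforward f).mapIso φ.symm⟩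

end Key

end Groth.Agent.Lib.SeesawH2
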