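import Mathlib
import Groth.Prelude.Def_GrLC
import Groth.Prelude.Def_GrSeg
import Groth.Agent.Lib.SegAcyc_helper1
import Groth.Agent.Lib.BigRes_helper1

/-! Segre products of two modules with the divisibility property are acyclic for the irrelevant
ideal of the Segre ring; retracts of acyclic graded modules are acyclic (helper1).
APPEND-ONLY once landed. -/

set_option autoImplicit false

namespace Groth.Agent.Lib.SegAcyc2H1

open scoped TensorProduct
open DirectSum GrLC Groth.Agent.Lib.SegreH3 Groth.Agent.Lib.SegF1H1 Groth.Agent.Lib.SegF2H1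
  Groth.Agent.Lib.TCrdH1 Groth.Agent.Lib.DivH1 Groth.Agent.Lib.GrAcycH1
  Groth.Agent.Lib.SegTorsH1 Groth.Agent.Lib.GrXferH1 Groth.Agent.Lib.GrLES1H1
  Groth.Agent.Lib.GrLES2H1 Groth.Agent.Lib.SegAcycH1 Groth.Agent.Lib.DVecH1
  Groth.Agent.Lib.BigResH1

universe u

variable {k : Type u} [Field k]
  {R : Type u} [CommRing R] [Algebra k R] {𝒜 : ℤ → Submodule k R} [GradedAlgebra 𝒜]
  {S : Type u} [CommRing S] [Algebra k S] {ℬ : ℤ → Submodule k S} [GradedAlgebra ℬ]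
  {T : Type u} [CommRing T] [Algebra k T] {𝒯 : ℤ → Submodule k T} [GradedAlgebra 𝒯]
  {ψ : T →ₐ[k] R ⊗[k] S}

/-! ### spans of pure tensors -/
section T2

variable {V : Type u} [AddCommGroup V] [Module k V] {W : Type u} [AddCommGroup W] [Module k W]

theorem mem_T2_top (z : V ⊗[k] W) : z ∈ T2 (⊤ : Submodule k V) (⊤ : Submodule k W) := by
  induction z using TensorProduct.induction_on with
  | zero => exact zero_mem _
  | tmul x y => exact tmul_mem_T2 Submodule.mem_top Submodule.mem_top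
  | add a b ha hb => exact add_mem ha hb

theorem range_rTensor_subtype (A : Submodule k V) :
    LinearMap.range (LinearMap.rTensor W A.subtype) = T2 A (⊤ : Submodule k W) := by
  apply le_antisymm
  · rintro _ ⟨w, rfl⟩
    induction w using TensorProduct.induction_on with
    | zero => rw [map_zero]; exact zero_mem _
    | tmul a b =>
      rw [LinearMap.rTensor_tmul]
      exact tmul_mem_T2 a.2 Submodule.mem_top
    | add w₁ w₂ h₁ h₂ => rw [map_add]; exact add_mem h₁ h₂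
  · exact T2_le (fun a ha b _ => ⟨(⟨a, ha⟩ : A) ⊗ₜ[k] b, rfl⟩)

theorem range_lTensor_subtype (B : Submodule k W) :
    LinearMap.range (LinearMap.lTensor V B.subtype) = T2 (⊤ : Submodule k V) B := by
  apply le_antisymm
  · rintro _ ⟨w, rfl⟩
    induction w using TensorProduct.induction_on with
    | zero => rw [map_zero]; exact zero_mem _
    | tmul a b =>
      rw [LinearMap.lTensor_tmul]
      exact tmul_mem_T2 Submodule.mem_top b.2
    | add w₁ w₂ h₁ h₂ => rw [map_add]; exact add_mem h₁ h₂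
  · exact T2_le (fun a _ b hb => ⟨a ⊗ₜ[k] (⟨b, hb⟩ : B), rfl⟩)

/-- the kernel of the tensor product of two surjections -/
theorem ker_map_eq {V' : Type u} [AddCommGroup V'] [Module k V'] {W' : Type u} [AddCommGroup W']
    [Module k W'] (g : V →ₗ[k] V') (hg : Function.Surjective g) (g' : W →ₗ[k] W')
    (hg' : Function.Surjective g') :
    LinearMap.ker (TensorProduct.map g g') =
      T2 (LinearMap.ker g) ⊤ ⊔ T2 ⊤ (LinearMap.ker g') := by
  have h := TensorProduct.map_ker (LinearMap.exact_subtype_ker_map g) hg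
    (LinearMap.exact_subtype_ker_map g') hg'
  rw [h, sup_comm, range_rTensor_subtype, range_lTensor_subtype]

end T2

/-! ### torsion, mirrored -/
section tors

variable {X : Type u} [AddCommGroup X] [Module R X] [Module k X] [IsScalarTower k R X]
  {Y : Type u} [AddCommGroup Y] [Module S Y] [Module k Y] [IsScalarTower k S Y]

theorem tmul_mem_TorsT' {I : Ideal S} {J : Ideal T}
    (hIJ : Ideal.map ψ J ≤
      Ideal.map (Algebra.TensorProduct.includeRight : S →ₐ[k] R ⊗[k] S) I)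
    (x : X) {y : Y} (hy : y ∈ gam I Y) : x ⊗ₜ[k] y ∈ TorsT ψ X Y J := by
  obtain ⟨a, ha⟩ := hy
  refine ⟨a, fun t ht => ?_⟩
  have h1 : ψ t ∈ Ideal.map ψ (J ^ a) := Ideal.mem_map_of_mem ψ ht
  rw [Ideal.map_pow] at h1
  have h2 : ψ t ∈ (Ideal.map
      (Algebra.TensorProduct.includeRight : S →ₐ[k] R ⊗[k] S) I) ^ a :=
    Ideal.pow_right_mono hIJ a h1
  rw [← Ideal.map_pow] at h2
  have h3 : Ideal.map (Algebra.TensorProduct.includeRight : S →ₐ[k] R ⊗[k] S) (I ^ a) ≤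
      annT (x ⊗ₜ[k] y) := by
    rw [Ideal.map_le_iff_le_comap]
    intro s hs
    rw [Ideal.mem_comap, mem_annT, Algebra.TensorProduct.includeRight_apply, GrSeg.act_tmul,
      ha s hs, TensorProduct.tmul_zero]
  exact h3 h2

theorem map_psi_le' (hT : GrSeg.IsSegreRing 𝒜 ℬ 𝒯 ψ) {mS : Ideal S}
    (hmS : mS = Ideal.span (⋃ n ∈ Set.Ioi (0 : ℤ), (ℬ n : Set S))) {mT : Ideal T}
    (hmT : mT = Ideal.span (⋃ n ∈ Set.Ioi (0 : ℤ), (𝒯 n : Set T))) :
    Ideal.map ψ mT ≤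
      Ideal.map (Algebra.TensorProduct.includeRight : S →ₐ[k] R ⊗[k] S) mS := by
  rw [hmT, Ideal.map_span, Ideal.span_le]
  rintro _ ⟨t, ht, rfl⟩
  rw [Set.mem_iUnion₂] at ht
  obtain ⟨n, hn, htn⟩ := ht
  have h1 : ψ t ∈ GrSeg.segrePiece k 𝒜 ℬ n := psi_mem_piece hT htn
  have hle : GrSeg.segrePiece k 𝒜 ℬ n ≤ (Ideal.map
      (Algebra.TensorProduct.includeRight : S →ₐ[k] R ⊗[k] S) mS).restrictScalars k := by
    apply Submodule.span_le.2
    rintro _ ⟨a, ha, b, hb, rfl⟩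
    show a ⊗ₜ[k] b ∈ Ideal.map
      (Algebra.TensorProduct.includeRight : S →ₐ[k] R ⊗[k] S) mS
    have h2 : a ⊗ₜ[k] b = ((Algebra.TensorProduct.includeRight : S →ₐ[k] R ⊗[k] S) b) *
        (a ⊗ₜ[k] (1 : S)) := by
      rw [Algebra.TensorProduct.includeRight_apply, Algebra.TensorProduct.tmul_mul_tmul, one_mul,
        mul_one]
    rw [h2]
    apply Ideal.mul_mem_right
    apply Ideal.mem_map_of_mem
    rw [hmS]
    exact Ideal.subset_span (Set.mem_biUnion hn hb)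
  exact hle h1

theorem T2_le_TorsT {I : Ideal R} {I' : Ideal S} {J : Ideal T}
    (hIJ : Ideal.map ψ J ≤
      Ideal.map (Algebra.TensorProduct.includeLeftRingHom : R →+* R ⊗[k] S) I)
    (hIJ' : Ideal.map ψ J ≤
      Ideal.map (Algebra.TensorProduct.includeRight : S →ₐ[k] R ⊗[k] S) I') :
    T2 ((gam I X).restrictScalars k) (⊤ : Submodule k Y) ⊔
      T2 (⊤ : Submodule k X) ((gam I' Y).restrictScalars k) ≤ TorsT ψ X Y J :=
  sup_le (T2_le (fun _ ha b _ => tmul_mem_TorsT hIJ ha b))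
    (T2_le (fun a _ _ hb => tmul_mem_TorsT' hIJ' a hb))

end tors

/-! ### torsion in the Segre product -/
section seg

variable {X : Type u} [AddCommGroup X] [Module R X] [Module k X] [IsScalarTower k R X]
  (𝒳 : ℤ → AddSubgroup X) [Decomposition 𝒳] [SetLike.GradedSMul 𝒜 𝒳]
  {Y : Type u} [AddCommGroup Y] [Module S Y] [Module k Y] [IsScalarTower k S Y]
  (𝒴 : ℤ → AddSubgroup Y) [Decomposition 𝒴] [SetLike.GradedSMul ℬ 𝒴]
  (hT : GrSeg.IsSegreRing 𝒜 ℬ 𝒯 ψ)

theorem mem_gam_seg_iff {mT : Ideal T} (z : SegM 𝒳 𝒴 hT) :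
    z ∈ gam mT (SegM 𝒳 𝒴 hT) ↔ segι 𝒳 𝒴 hT z ∈ TorsT ψ X Y mT := by
  constructor
  · rintro ⟨c, hc⟩
    exact ⟨c, fun t ht => by rw [← segι_smul, hc t ht, map_zero]⟩
  · rintro ⟨c, hc⟩
    refine ⟨c, fun t ht => ?_⟩
    apply segι_injective 𝒳 𝒴 hT
    rw [segι_smul, hc t ht, map_zero]

theorem mem_gam_seg_of2 {mR : Ideal R} {mS : Ideal S} {mT : Ideal T}
    (hIJ : Ideal.map ψ mT ≤
      Ideal.map (Algebra.TensorProduct.includeLeftRingHom : R →+* R ⊗[k] S) mR)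
    (hIJ' : Ideal.map ψ mT ≤
      Ideal.map (Algebra.TensorProduct.includeRight : S →ₐ[k] R ⊗[k] S) mS)
    (z : SegM 𝒳 𝒴 hT)
    (hz : segι 𝒳 𝒴 hT z ∈ T2 ((gam mR X).restrictScalars k) (⊤ : Submodule k Y) ⊔
      T2 (⊤ : Submodule k X) ((gam mS Y).restrictScalars k)) :
    z ∈ gam mT (SegM 𝒳 𝒴 hT) :=
  (mem_gam_seg_iff 𝒳 𝒴 hT z).2 (T2_le_TorsT hIJ hIJ' hz)

end seg

/-! ### acyclicity of the Segre product of two modules with the divisibility property -/
section acyc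

attribute [local instance] kMod kTower gsmulX

variable (hT : GrSeg.IsSegreRing 𝒜 ℬ 𝒯 ψ)
variable [IsNoetherianRing T] (mR : HomogeneousIdeal 𝒜) (mS : HomogeneousIdeal ℬ)
  (mT : HomogeneousIdeal 𝒯)
  (hmR : mR.toIdeal = Ideal.span (⋃ n ∈ Set.Ioi (0 : ℤ), (𝒜 n : Set R)))
  (hmS : mS.toIdeal = Ideal.span (⋃ n ∈ Set.Ioi (0 : ℤ), (ℬ n : Set S)))
  (hmT : mT.toIdeal = Ideal.span (⋃ n ∈ Set.Ioi (0 : ℤ), (𝒯 n : Set T)))

include hmR hmS hmT in
theorem acyc2 (fs : List R) (hfs : ∀ f ∈ fs, ∃ d : ℕ, 0 < d ∧ f ∈ 𝒜 (d : ℤ))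
    (X : GMod.{u} (toAS 𝒜)) (hX : Div (toAS 𝒜) X)
    (hradX : ∀ x : X.carrier, (∀ f ∈ fs, ∃ n : ℕ, f ^ n • x = 0) →
      x ∈ gam mR.toIdeal X.carrier)
    (gs : List S) (hgs : ∀ g ∈ gs, ∃ e : ℕ, 0 < e ∧ g ∈ ℬ (e : ℤ)) :
    ∀ (Y : GMod.{u} (toAS ℬ)), Div (toAS ℬ) Y →
      (∀ y : Y.carrier, (∀ g ∈ gs, ∃ n : ℕ, g ^ n • y = 0) → y ∈ gam mS.toIdeal Y.carrier) →
      ∀ (G : StarInjRes (toAS 𝒯) (segA Y.gr hT X).gr) (p : ℕ), 1 ≤ p →
        Subsingleton (G.H (idealAS 𝒯 mT) p) := by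
  induction gs with
  | nil =>
    intro Y _ hrad G p hp
    have hIJ := map_psi_le hT hmR hmT
    have hIJ' := map_psi_le' hT hmS hmT
    refine H_subsingleton_of_torsion (idealAS 𝒯 mT) (fun z => ?_) G p hp
    refine mem_gam_seg_of2 X.gr Y.gr hT hIJ hIJ' z (Submodule.mem_sup_right ?_)
    have hle : (⊤ : Submodule k Y.carrier) ≤ (gam mS.toIdeal Y.carrier).restrictScalars k :=
      fun y _ => hrad y (fun g hg => by simp at hg)
    exact T2_mono le_rfl hle (mem_T2_top _)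
  | cons g gs ih =>
    intro Y hY hrad G p hp
    obtain ⟨e, he, hge⟩ := hgs g List.mem_cons_self
    have hge' : g ∈ toAS ℬ (e : ℤ) := hge
    let Sx : SES T (segA (gamG (toAS ℬ) Y (spanH (toAS ℬ) hge')).gr hT X).gr (segA Y.gr hT X).gr
        (segA (quotG (toAS ℬ) Y (spanH (toAS ℬ) hge')).gr hT X).gr :=
      { u := segMap X.gr X.gr (gamG (toAS ℬ) Y (spanH (toAS ℬ) hge')).gr Y.gr hT
          LinearMap.id (id_gr X.gr)
          (gamι (toAS ℬ) Y (spanH (toAS ℬ) hge')) (gamι_gr (toAS ℬ) Y (spanH (toAS ℬ) hge'))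
        p := segMap X.gr X.gr Y.gr (quotG (toAS ℬ) Y (spanH (toAS ℬ) hge')).gr hT
          LinearMap.id (id_gr X.gr)
          (quotπ (toAS ℬ) Y (spanH (toAS ℬ) hge')) (quotπ_gr (toAS ℬ) Y (spanH (toAS ℬ) hge'))
        hu := segMap_gr _ _ _ _ hT _ _ _ _
        hp := segMap_gr _ _ _ _ hT _ _ _ _
        inj := segMap_injective _ _ _ _ hT _ _ _ _ Function.injective_id
          (gamι_injective (toAS ℬ) Y (spanH (toAS ℬ) hge'))
        surj := segMap_surjective _ _ _ _ hT _ _ _ _ Function.surjective_id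
          (quotπ_surjective (toAS ℬ) Y (spanH (toAS ℬ) hge'))
        exact := seg_exact_right X.gr Y.gr (gamG (toAS ℬ) Y (spanH (toAS ℬ) hge')).gr
          (quotG (toAS ℬ) Y (spanH (toAS ℬ) hge')).gr hT
          (gamι_gr (toAS ℬ) Y (spanH (toAS ℬ) hge')) (quotπ_gr (toAS ℬ) Y (spanH (toAS ℬ) hge'))
          (gamSES (toAS ℬ) Y (spanH (toAS ℬ) hge')).exact }
    refine subsingleton_of_ses Sx (idealAS 𝒯 mT) p (fun E' => ?_) (fun E'' => ?_) G
    · refine ih (fun g' hg' => hgs g' (List.mem_cons_of_mem _ hg'))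
        (gamG (toAS ℬ) Y (spanH (toAS ℬ) hge')) (div_gamG (toAS ℬ) Y hY _) ?_ E' p hp
      intro y hy
      apply mem_gam_of_injective (gamι (toAS ℬ) Y (spanH (toAS ℬ) hge'))
        (gamι_injective (toAS ℬ) Y (spanH (toAS ℬ) hge'))
      apply hrad
      intro g' hg'
      rcases List.mem_cons.1 hg' with hgg | hg''
      · have h1 := gamι_mem (toAS ℬ) Y (spanH (toAS ℬ) hge') y
        rw [spanH_toIdeal, mem_gam_span_singleton] at h1
        rw [hgg]
        exact h1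
      · obtain ⟨n, hn⟩ := hy g' hg''
        exact ⟨n, by rw [← map_smul, hn, map_zero]⟩
    · exact acyc_seg (quotG (toAS ℬ) Y (spanH (toAS ℬ) hge')).gr hT mR mT hmR hmT he hge
        (smul_bijective_quot (toAS ℬ) Y hY hge') fs hfs X hX hradX E'' p hp

end acyc

/-! ### retracts -/
section retract

variable {ι : Type} [AddCommGroup ι] [DecidableEq ι]
variable {A : Type u} [CommRing A] {𝒜' : ι → AddSubgroup A} [GradedRing 𝒜']
variable {M : Type u} [AddCommGroup M] [Module A M] {ℳ : ι → AddSubgroup M} [Decomposition ℳ]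
  [SetLike.GradedSMul 𝒜' ℳ]
variable {N : Type u} [AddCommGroup N] [Module A N] {𝒩 : ι → AddSubgroup N} [Decomposition 𝒩]
  [SetLike.GradedSMul 𝒜' 𝒩]

/-- a graded retract of a module with vanishing graded local cohomology has vanishing graded local
cohomology -/
theorem subsingleton_of_retract (i : M →ₗ[A] N) (hi : IsGrHom ℳ 𝒩 i) (r : N →ₗ[A] M)
    (hr : IsGrHom 𝒩 ℳ r) (hri : ∀ m, r (i m) = m) (a : HomogeneousIdeal 𝒜') (p : ℕ)
    (hN : ∀ F : StarInjRes 𝒜' 𝒩, Subsingleton (F.H a p)) (E : StarInjRes 𝒜' ℳ) :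
    Subsingleton (E.H a p) := by
  obtain ⟨F⟩ := GrStar2H1.main13215 𝒜' 𝒩
  obtain ⟨φ, hφ⟩ := exists_lift E F i hi
  obtain ⟨χ, hχ⟩ := exists_lift F E r hr
  have h1 : χ.H a p ∘ₗ φ.H a p = LinearMap.id := by
    rw [← CMap.H_comp, ← CMap.H_id]
    apply H_unique
    intro m
    show χ.f 0 (φ.f 0 (E.ε m)) = E.ε m
    rw [hφ, hχ, hri]
  haveI := hN F
  have hx : ∀ x : E.H a p, x = 0 := fun x => by
    have h2 := LinearMap.congr_fun h1 x
    rw [LinearMap.comp_apply, LinearMap.id_apply, Subsingleton.elim (φ.H a p x) 0, map_zero] at h2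
    exact h2.symm
  exact ⟨fun x y => by rw [hx x, hx y]⟩

end retract

end Groth.Agent.Lib.SegAcyc2H1
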