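import Mathlib
import Groth.Prelude.Def_GrLC
import Groth.Prelude.Def_GrSeg
import Groth.Prelude.Def_CAlg
import Groth.Prelude.Def_Wider
import Groth.Agent.Lib.GrCrit_helper1
import Groth.Agent.Lib.AInv_helper1
import Groth.Agent.Lib.GorCan_helper1
import Groth.Agent.Lib.Socle_helper1
import Groth.Agent.Lib.LocP2_helper3
import Groth.Agent.Lib.LocCohCM_helper7
import Groth.Agent.Lib.DepthRefl_helper5
import Groth.Agent.Lib.FlatCM2_helper9
import Groth.Agent.Lib.GrStarLC_helper1

/-! The graded criterion for the Cohen–Macaulay property of a positively graded ring over a field: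
`T` is Cohen–Macaulay iff the graded local cohomology `H^i_{T_+}(T)` vanishes for `i < dim T`
(helper1).  APPEND-ONLY once landed. -/

set_option autoImplicit false

namespace Groth.Agent.Lib.SegCMH1

open DirectSum GrLC

universe u

section crit

variable {T : Type u} [CommRing T] [IsNoetherianRing T] (𝒯 : ℤ → AddSubgroup T) [GradedRing 𝒯]
  (hpos : ∀ n : ℤ, n < 0 → 𝒯 n = ⊥) (m : HomogeneousIdeal 𝒯) (hm : IsStarLocal 𝒯 m)

include hm in
/-- a *local ring which is Cohen–Macaulay at its *maximal ideal is Cohen–Macaulay. -/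
theorem cmRing_of_cm_at_m [hp : m.toIdeal.IsPrime]
    [hloc : LocCoh.IsCohenMacaulayLocalRing (Localization.AtPrime m.toIdeal)] :
    LocCoh.IsCohenMacaulayRing T := by
  refine ⟨fun p hp' => ?_⟩
  haveI hc : (p.homogeneousCore 𝒯).toIdeal.IsPrime := Ideal.IsPrime.homogeneousCore hp'
  have hne : p.homogeneousCore 𝒯 ≠ ⊤ := by
    intro h
    apply hc.ne_top
    rw [h]
    rfl
  have hle : (p.homogeneousCore 𝒯).toIdeal ≤ m.toIdeal :=
    Groth.Agent.Lib.GorTop2H1.le_of_starLocal 𝒯 hm _ hne
  haveI := Groth.Agent.Lib.LocPH3.isCM_localization_of_le T (p.homogeneousCore 𝒯).toIdeal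
    m.toIdeal hle
  exact (Groth.Agent.Lib.GrCritH1.cm_core_iff 𝒯 p).2 inferInstance

/-- vanishing of the local cohomology at a prime below the dimension forces the localization to be
Cohen–Macaulay. -/
theorem cm_at_of_vanishing (P : Ideal T) [hp : P.IsPrime] (d : ℕ)
    (hd : ringKrullDim T = d)
    (hv : ∀ i : ℕ, i < d → Subsingleton (LocCoh.H P i T)) :
    LocCoh.IsCohenMacaulayLocalRing (Localization.AtPrime P) := by
  haveI : IsNoetherianRing (Localization.AtPrime P) :=
    IsLocalization.isNoetherianRing P.primeCompl _ inferInstance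
  rw [Groth.Agent.FlatCM.isCMLocalRing_iff]
  have h1 : (d : ℕ∞) ≤ LocCoh.idealDepth P T :=
    (Groth.Agent.Lib.LocCohCMH7.vanishing_iff_le_depth P T d).1 hv
  have h2 := Groth.Agent.DepthLib.idealDepth_le_depth_localization P T P le_rfl
  rw [Groth.Agent.DepthLib.depth_locSelf] at h2
  have h3 : ringKrullDim (Localization.AtPrime P) ≤ (d : WithBot ℕ∞) := by
    rw [IsLocalization.AtPrime.ringKrullDim_eq_height P, ← hd]
    exact Ideal.height_le_ringKrullDim_of_ne_top hp.ne_top
  have h4 := Groth.Agent.DepthLib.depth_le_supportDim (Localization.AtPrime P)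
    (Localization.AtPrime P)
  rw [Module.supportDim_self_eq_ringKrullDim] at h4
  apply le_antisymm
  · refine h3.trans ?_
    have h5 : (d : ℕ∞) ≤ LocCoh.depth (Localization.AtPrime P) (Localization.AtPrime P) :=
      h1.trans h2
    exact_mod_cast h5
  · exact h4

/-- vanishing of all the pieces of a graded local cohomology module gives vanishing of the
ungraded one. -/
theorem subsingleton_locCoh_of_pieces (E : StarInjRes 𝒯 𝒯) (i : ℕ)
    (h : ∀ g : ℤ, E.Hcomp m i g = ⊥) : Subsingleton (LocCoh.H m.toIdeal i T) := by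
  haveI : Subsingleton (E.H m i) :=
    Groth.Agent.Lib.AInvH1.subsingleton_of_pieces 𝒯 E m i (fun k w hw => by
      have hw' : w ∈ E.Hcomp m i k := hw
      rw [h k] at hw'
      exact (Submodule.mem_bot _).1 hw')
  obtain ⟨γ⟩ := Groth.Agent.Lib.GrStarLCH1.main13224 T 𝒯 m T 𝒯 E i
  exact γ.symm.toEquiv.subsingleton

include hpos hm in
/-- **The graded Cohen–Macaulay criterion.** -/
theorem cmRing_iff_vanishing (h0 : IsField (deg0 𝒯)) (E : StarInjRes 𝒯 𝒯) (d : ℕ)
    (hd : ringKrullDim T = d) :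
    LocCoh.IsCohenMacaulayRing T ↔ ∀ i : ℕ, i < d → ∀ g : ℤ, E.Hcomp m i g = ⊥ := by
  haveI hmax : m.toIdeal.IsMaximal :=
    Groth.Agent.Lib.GrHDecH1.isMaximal_of_starLocal 𝒯 hpos m hm
  haveI hp : m.toIdeal.IsPrime := hmax.isPrime
  constructor
  · intro hCM i hi g
    haveI := hCM
    have hht : m.toIdeal.height = d := by
      have h1 := Groth.Agent.Lib.GorCanH1.ringKrullDim_eq_height 𝒯 hpos h0 m hm
      rw [hd] at h1
      exact (WithBot.coe_injective h1).symm
    haveI := Groth.Agent.Lib.AInvH1.H_subsingleton_of_lt 𝒯 m hm d hht E i hi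
    rw [Submodule.eq_bot_iff]
    intro x _
    exact Subsingleton.elim _ _
  · intro hv
    haveI := cm_at_of_vanishing m.toIdeal d hd
      (fun i hi => subsingleton_locCoh_of_pieces 𝒯 m E i (hv i hi))
    exact cmRing_of_cm_at_m 𝒯 m hm

end crit

end Groth.Agent.Lib.SegCMH1
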