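import Mathlib

/-!
# Graded rings over a field, `ℤ`-graded with vanishing negative part (helper6)

Homogeneous prime avoidance, and existence of a homogeneous system of parameters.
-/

set_option autoImplicit false

namespace Groth.Agent.Lib.SegDimH6

open DirectSum

universe u

section graded

variable {k : Type u} [Field k] {R : Type u} [CommRing R] [Algebra k R] (𝒜 : ℤ → Submodule k R)
  [GradedAlgebra 𝒜]

theorem isHomogeneous_of_mem_minimalPrimes {I Q : Ideal R} (hI : I.IsHomogeneous 𝒜)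
    (hQ : Q ∈ I.minimalPrimes) : Q.IsHomogeneous 𝒜 := by
  haveI : Q.IsPrime := hQ.1.1
  have h1 : I ≤ (Q.homogeneousCore 𝒜).toIdeal := by
    have := Ideal.homogeneousCore_mono 𝒜 hQ.1.2
    rw [← hI.toIdeal_homogeneousCore_eq_self]
    exact this
  have h2 : Q ≤ (Q.homogeneousCore 𝒜).toIdeal :=
    hQ.2 ⟨Ideal.IsPrime.homogeneousCore (𝒜 := 𝒜) hQ.1.1, h1⟩ (Ideal.toIdeal_homogeneousCore_le 𝒜 Q)
  have h3 : (Q.homogeneousCore 𝒜).toIdeal = Q :=
    le_antisymm (Ideal.toIdeal_homogeneousCore_le 𝒜 Q) h2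
  rw [← h3]
  exact (Q.homogeneousCore 𝒜).isHomogeneous

theorem exists_homogeneous_notMem {I Q : Ideal R} (hI : I.IsHomogeneous 𝒜) (h : ¬ I ≤ Q) :
    ∃ (d : ℤ) (a : R), a ∈ 𝒜 d ∧ a ∈ I ∧ a ∉ Q := by
  classical
  by_contra hcon
  push Not at hcon
  apply h
  intro x hx
  rw [← DirectSum.sum_support_decompose 𝒜 x]
  refine Ideal.sum_mem _ (fun i _ => ?_)
  exact hcon i _ (decompose 𝒜 x i).2 (hI i hx)

variable (hpos : ∀ n : ℤ, n < 0 → 𝒜 n = ⊥)

include hpos in
theorem eq_zero_of_neg {n : ℤ} (hn : n < 0) {a : R} (ha : a ∈ 𝒜 n) : a = 0 := by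
  rw [hpos n hn] at ha
  exact (Submodule.mem_bot k).1 ha

include hpos in
theorem exists_nat_of_ne_zero {d : ℤ} {a : R} (ha : a ∈ 𝒜 d) (h0 : a ≠ 0) :
    ∃ n : ℕ, (n : ℤ) = d := by
  by_contra hcon
  apply h0
  refine eq_zero_of_neg 𝒜 hpos ?_ ha
  by_contra hd
  push Not at hd
  exact hcon ⟨d.toNat, Int.toNat_of_nonneg hd⟩

include hpos in
/-- a maximal homogeneous ideal contains every homogeneous element of positive degree -/
theorem mem_of_isMaximal {Q : Ideal R} (hQ : Q.IsMaximal) (hQh : Q.IsHomogeneous 𝒜) {m : ℤ}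
    (hm : 0 < m) {a : R} (ha : a ∈ 𝒜 m) : a ∈ Q := by
  by_contra haQ
  obtain ⟨y, i, hi, hyi⟩ := hQ.exists_inv haQ
  have h1 : ((decompose 𝒜 (y * a) 0 : 𝒜 0) : R) = 0 := by
    have h2 := coe_decompose_mul_add_of_right_mem 𝒜 (i := -m) (j := m) (a := y) ha
    rw [neg_add_cancel] at h2
    rw [h2, eq_zero_of_neg 𝒜 hpos (by omega : -m < 0) (decompose 𝒜 y (-m)).2, zero_mul]
  have h3 : ((decompose 𝒜 (1 : R) 0 : 𝒜 0) : R) = 1 :=
    decompose_of_mem_same 𝒜 (SetLike.GradedOne.one_mem)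
  have h4 : ((decompose 𝒜 i 0 : 𝒜 0) : R) ∈ Q := hQh 0 hi
  have h5 : ((decompose 𝒜 (y * a + i) 0 : 𝒜 0) : R) = 1 := by rw [hyi, h3]
  rw [decompose_add, DirectSum.add_apply, Submodule.coe_add, h1, zero_add] at h5
  rw [h5] at h4
  exact hQ.ne_top ((Ideal.eq_top_iff_one _).2 h4)

variable (h0 : 𝒜 0 = Submodule.span k {(1 : R)})

include hpos h0 in
/-- a proper ideal containing all homogeneous elements of positive degree is maximal -/
theorem isMaximal_of_forall_pos_le {Q : Ideal R} (hQ : Q ≠ ⊤)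
    (h : ∀ m : ℤ, 0 < m → ∀ a ∈ 𝒜 m, a ∈ Q) : Q.IsMaximal := by
  classical
  rw [Ideal.isMaximal_iff]
  refine ⟨fun h1 => hQ ((Ideal.eq_top_iff_one _).2 h1), ?_⟩
  intro J x hQJ hxQ hxJ
  have hne : ∀ n : ℤ, n ≠ 0 → ((decompose 𝒜 x n : 𝒜 n) : R) ∈ Q := by
    intro n hn
    rcases lt_or_gt_of_ne hn with hn | hn
    · rw [eq_zero_of_neg 𝒜 hpos hn (decompose 𝒜 x n).2]
      exact Q.zero_mem
    · exact h n hn _ (decompose 𝒜 x n).2
  have hx0 : ((decompose 𝒜 x 0 : 𝒜 0) : R) ∉ Q := by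
    intro hx0
    apply hxQ
    rw [← DirectSum.sum_support_decompose 𝒜 x]
    refine Ideal.sum_mem _ (fun i _ => ?_)
    by_cases hi : i = 0
    · subst hi
      exact hx0
    · exact hne i hi
  have hx0J : ((decompose 𝒜 x 0 : 𝒜 0) : R) ∈ J := by
    have hsum : x = ∑ i ∈ (decompose 𝒜 x).support, ((decompose 𝒜 x i : 𝒜 i) : R) :=
      (DirectSum.sum_support_decompose 𝒜 x).symm
    by_cases hmem : (0 : ℤ) ∈ (decompose 𝒜 x).support
    · have h2 := Finset.add_sum_erase _ (fun i => ((decompose 𝒜 x i : 𝒜 i) : R)) hmem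
      have h3 : ((decompose 𝒜 x 0 : 𝒜 0) : R) =
          x - ∑ i ∈ (decompose 𝒜 x).support.erase 0, ((decompose 𝒜 x i : 𝒜 i) : R) := by
        rw [eq_sub_iff_add_eq, h2, ← hsum]
      rw [h3]
      refine J.sub_mem hxJ (Ideal.sum_mem _ (fun i hi => ?_))
      exact hQJ (hne i (Finset.ne_of_mem_erase hi))
    · rw [DFinsupp.notMem_support_iff] at hmem
      rw [hmem]
      exact J.zero_mem
  have hmem0 : ((decompose 𝒜 x 0 : 𝒜 0) : R) ∈ Submodule.span k {(1 : R)} := by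
    rw [← h0]
    exact (decompose 𝒜 x 0).2
  obtain ⟨c, hc⟩ := Submodule.mem_span_singleton.1 hmem0
  have hc0 : c ≠ 0 := by
    rintro rfl
    rw [zero_smul] at hc
    apply hx0
    rw [← hc]
    exact Q.zero_mem
  have h5 : (1 : R) = c⁻¹ • ((decompose 𝒜 x 0 : 𝒜 0) : R) := by
    rw [← hc, smul_smul, inv_mul_cancel₀ hc0, one_smul]
  rw [h5, Algebra.smul_def]
  exact J.mul_mem_left _ hx0J

include hpos in
/-- homogeneous prime avoidance -/
theorem graded_avoidance :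
    ∀ (c : ℕ) (T : Finset (Ideal R)), T.card = c →
      (∀ P ∈ T, P.IsPrime ∧ P.IsHomogeneous 𝒜) →
      (∀ P ∈ T, ∃ e : ℕ, 0 < e ∧ ∃ w ∈ 𝒜 (e : ℤ), w ∉ P) →
      ∃ (x : R) (d : ℕ), 0 < d ∧ x ∈ 𝒜 (d : ℤ) ∧ ∀ P ∈ T, x ∉ P := by
  classical
  intro c
  induction c with
  | zero =>
    intro T hT _ _
    rw [Finset.card_eq_zero] at hT
    subst hT
    exact ⟨0, 1, Nat.one_pos, zero_mem _, by simp⟩
  | succ c ih =>
    intro T hT hTp hTI
    have hne : T.Nonempty := Finset.card_pos.mp (by omega)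
    obtain ⟨P, hPT, hPmin⟩ := T.exists_minimal hne
    have hcard : (T.erase P).card = c := by
      rw [Finset.card_erase_of_mem hPT]
      omega
    obtain ⟨x, d, hd, hxd, hxT⟩ := ih (T.erase P) hcard
      (fun Q hQ => hTp Q (Finset.mem_of_mem_erase hQ))
      (fun Q hQ => hTI Q (Finset.mem_of_mem_erase hQ))
    haveI hPprime : P.IsPrime := (hTp P hPT).1
    by_cases hxP : x ∈ P
    · have hQP : ∀ Q ∈ T.erase P, ¬ Q ≤ P := by
        intro Q hQ hle
        have hQT := Finset.mem_of_mem_erase hQ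
        have hPQ : P ≤ Q := hPmin hQT hle
        exact (Finset.ne_of_mem_erase hQ) (le_antisymm hle hPQ)
      have hz : ∀ Q : Ideal R, ∃ (dz : ℕ) (z : R), Q ∈ T.erase P →
          (z ∈ 𝒜 (dz : ℤ) ∧ z ∈ Q ∧ z ∉ P) := by
        intro Q
        by_cases hQ : Q ∈ T.erase P
        · obtain ⟨dz, z, h1, h2, h3⟩ := exists_homogeneous_notMem 𝒜 (Q := P)
            (hTp Q (Finset.mem_of_mem_erase hQ)).2 (hQP Q hQ)
          have hz0 : z ≠ 0 := by
            rintro rfl
            exact h3 P.zero_mem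
          obtain ⟨n, hn⟩ := exists_nat_of_ne_zero 𝒜 hpos h1 hz0
          subst hn
          exact ⟨n, z, fun _ => ⟨h1, h2, h3⟩⟩
        · exact ⟨0, 0, fun h => absurd h hQ⟩
      choose dz z hzz using hz
      obtain ⟨e, he, w, hwe, hwP⟩ := hTI P hPT
      set y : R := w * ∏ Q ∈ T.erase P, z Q with hy
      set e' : ℕ := e + ∑ Q ∈ T.erase P, dz Q with he'
      have hye : y ∈ 𝒜 (e' : ℤ) := by
        rw [he']
        push_cast
        apply SetLike.mul_mem_graded hwe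
        exact SetLike.prod_mem_graded 𝒜 (fun Q => (dz Q : ℤ)) z (fun Q hQ => (hzz Q hQ).1)
      have hyP : y ∉ P := by
        intro hyP
        rcases hPprime.mem_or_mem hyP with h1 | h1
        · exact hwP h1
        · rw [Ideal.IsPrime.prod_mem_iff] at h1
          obtain ⟨Q, hQ, hzQ⟩ := h1
          exact (hzz Q hQ).2.2 hzQ
      have hyQ : ∀ Q ∈ T.erase P, y ∈ Q := by
        intro Q hQ
        apply Ideal.mul_mem_left
        exact Ideal.mem_of_dvd _ (Finset.dvd_prod_of_mem z hQ) (hzz Q hQ).2.1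
      have he'pos : 0 < e' := by omega
      refine ⟨x ^ e' + y ^ d, d * e', Nat.mul_pos hd he'pos, ?_, ?_⟩
      · apply Submodule.add_mem
        · have h1 := SetLike.pow_mem_graded e' hxd
          rw [nsmul_eq_mul] at h1
          have e1 : ((d * e' : ℕ) : ℤ) = (e' : ℤ) * (d : ℤ) := by push_cast; ring
          rw [e1]
          exact h1
        · have h1 := SetLike.pow_mem_graded d hye
          rw [nsmul_eq_mul] at h1
          have e1 : ((d * e' : ℕ) : ℤ) = (d : ℤ) * (e' : ℤ) := by push_cast; ring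
          rw [e1]
          exact h1
      · intro Q hQ hmem
        by_cases hQP' : Q = P
        · subst hQP'
          have h1 : x ^ e' ∈ Q := Ideal.pow_mem_of_mem _ hxP _ he'pos
          have h2 : y ^ d ∈ Q := (Ideal.add_mem_iff_right _ h1).mp hmem
          exact hyP (hPprime.mem_of_pow_mem _ h2)
        · have hQe : Q ∈ T.erase P := Finset.mem_erase.mpr ⟨hQP', hQ⟩
          haveI : Q.IsPrime := (hTp Q hQ).1
          have h1 : y ^ d ∈ Q := Ideal.pow_mem_of_mem _ (hyQ Q hQe) _ hd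
          have h2 : x ^ e' ∈ Q := (Ideal.add_mem_iff_left _ h1).mp hmem
          exact hxT Q hQe (Ideal.IsPrime.mem_of_pow_mem inferInstance _ h2)
    · refine ⟨x, d, hd, hxd, ?_⟩
      intro Q hQ
      by_cases hQP' : Q = P
      · rw [hQP']
        exact hxP
      · exact hxT Q (Finset.mem_erase.mpr ⟨hQP', hQ⟩)

end graded

end Groth.Agent.Lib.SegDimH6
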