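import Mathlib
import Groth.Agent.Lib.SegDim1_helper6

/-!
# Homogeneous systems of parameters (helper6)
-/

set_option autoImplicit false

namespace Groth.Agent.Lib.SegDimH6

open DirectSum

universe u

section hsop

variable {k : Type u} [Field k] {R : Type u} [CommRing R] [Algebra k R] (𝒜 : ℤ → Submodule k R)
  [GradedAlgebra 𝒜]

/-- `J` contains, up to radical, all homogeneous elements of positive degree -/
def PosLE (J : Ideal R) : Prop := ∀ m : ℤ, 0 < m → ∀ a ∈ 𝒜 m, a ∈ J.radical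

variable (hpos : ∀ n : ℤ, n < 0 → 𝒜 n = ⊥) (h0 : 𝒜 0 = Submodule.span k {(1 : R)})

include hpos h0 in
theorem hsop_aux [IsNoetherianRing R] : ∀ (n : ℕ) (I : Ideal R), I.IsHomogeneous 𝒜 →
    (∀ P : PrimeSpectrum R, I ≤ P.asIdeal → Order.coheight P ≤ (n : ℕ∞)) →
    ∃ (x : Fin n → R) (d : Fin n → ℕ), (∀ i, 0 < d i ∧ x i ∈ 𝒜 (d i : ℤ)) ∧
      PosLE 𝒜 (I ⊔ Ideal.span (Set.range x)) := by
  classical
  intro n
  induction n with
  | zero =>
    intro I hI hco
    refine ⟨Fin.elim0, Fin.elim0, fun i => i.elim0, ?_⟩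
    intro m hm a ha
    have hr : Set.range (Fin.elim0 : Fin 0 → R) = ∅ := Set.range_eq_empty _
    rw [hr, Ideal.span_empty, sup_bot_eq, Ideal.radical_eq_sInf, Ideal.mem_sInf]
    rintro J ⟨hIJ, hJ⟩
    have hmax : ∀ (J' : Ideal R) (hJ' : J'.IsPrime), I ≤ J' → J'.IsMaximal := by
      intro J' hJ' hIJ'
      have h1 := hco ⟨J', hJ'⟩ hIJ'
      have h2 : Order.coheight (⟨J', hJ'⟩ : PrimeSpectrum R) = 0 := by
        simpa using h1
      rw [Order.coheight_eq_zero, PrimeSpectrum.isMax_iff] at h2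
      exact h2
    obtain ⟨Q, hQmin, hQJ⟩ := Ideal.exists_minimalPrimes_le hIJ
    have hQmax : Q.IsMaximal := hmax Q hQmin.1.1 hQmin.1.2
    have hQeq : Q = J := hQmax.eq_of_le hJ.ne_top hQJ
    subst hQeq
    exact mem_of_isMaximal 𝒜 hpos hQmax (isHomogeneous_of_mem_minimalPrimes 𝒜 hI hQmin) hm ha
  | succ n ih =>
    intro I hI hco
    have hfin : (I.minimalPrimes).Finite := Ideal.finite_minimalPrimes_of_isNoetherianRing R I
    set T : Finset (Ideal R) := hfin.toFinset.filter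
      (fun Q => ∃ h : Q.IsPrime, Order.coheight (⟨Q, h⟩ : PrimeSpectrum R) = ((n + 1 : ℕ) : ℕ∞))
      with hT
    have hTmem : ∀ Q ∈ T, Q ∈ I.minimalPrimes ∧
        ∃ h : Q.IsPrime, Order.coheight (⟨Q, h⟩ : PrimeSpectrum R) = ((n + 1 : ℕ) : ℕ∞) := by
      intro Q hQ
      rw [hT, Finset.mem_filter, Set.Finite.mem_toFinset] at hQ
      exact hQ
    obtain ⟨x₀, d₀, hd₀, hx₀, hxT⟩ := graded_avoidance 𝒜 hpos T.card T rfl
      (fun Q hQ => ⟨(hTmem Q hQ).1.1.1, isHomogeneous_of_mem_minimalPrimes 𝒜 hI (hTmem Q hQ).1⟩)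
      (by
        intro Q hQ
        obtain ⟨hQmin, hQp, hQco⟩ := hTmem Q hQ
        by_contra hcon
        push Not at hcon
        have hmax : Q.IsMaximal := by
          refine isMaximal_of_forall_pos_le 𝒜 hpos h0 hQp.ne_top ?_
          intro m hm a ha
          obtain ⟨e, he⟩ : ∃ e : ℕ, (e : ℤ) = m := ⟨m.toNat, Int.toNat_of_nonneg hm.le⟩
          subst he
          exact hcon e (by exact_mod_cast hm) a ha
        have h2 : Order.coheight (⟨Q, hQp⟩ : PrimeSpectrum R) = 0 := by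
          rw [Order.coheight_eq_zero, PrimeSpectrum.isMax_iff]
          exact hmax
        rw [h2] at hQco
        have : ((n + 1 : ℕ) : ℕ∞) ≠ 0 := by
          exact_mod_cast Nat.succ_ne_zero n
        exact this hQco.symm)
    have hI' : (I ⊔ Ideal.span {x₀}).IsHomogeneous 𝒜 := by
      refine Ideal.IsHomogeneous.sup hI (Ideal.homogeneous_span 𝒜 _ ?_)
      intro y hy
      rw [Set.mem_singleton_iff] at hy
      subst hy
      exact ⟨_, hx₀⟩
    have hco' : ∀ P : PrimeSpectrum R, I ⊔ Ideal.span {x₀} ≤ P.asIdeal →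
        Order.coheight P ≤ (n : ℕ∞) := by
      intro P hP
      have hIP : I ≤ P.asIdeal := le_sup_left.trans hP
      have hxP : x₀ ∈ P.asIdeal := hP (Ideal.mem_sup_right (Ideal.subset_span rfl))
      obtain ⟨Q, hQmin, hQP⟩ := Ideal.exists_minimalPrimes_le hIP
      have hQp : Q.IsPrime := hQmin.1.1
      have hQco := hco ⟨Q, hQp⟩ hQmin.1.2
      by_cases hQn : Order.coheight (⟨Q, hQp⟩ : PrimeSpectrum R) = ((n + 1 : ℕ) : ℕ∞)
      · have hQT : Q ∈ T := by
          rw [hT, Finset.mem_filter, Set.Finite.mem_toFinset]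
          exact ⟨hQmin, hQp, hQn⟩
        have hne : (⟨Q, hQp⟩ : PrimeSpectrum R) < P := by
          refine lt_of_le_of_ne hQP ?_
          intro heq
          apply hxT Q hQT
          have : Q = P.asIdeal := congrArg PrimeSpectrum.asIdeal heq
          rw [this]
          exact hxP
        have h3 := Order.coheight_add_one_le hne
        rw [hQn] at h3
        have h4 : Order.coheight P + 1 ≤ (n : ℕ∞) + 1 := by
          simpa using h3
        exact (ENat.add_le_add_iff_right (by simp)).1 h4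
      · have h5 : Order.coheight (⟨Q, hQp⟩ : PrimeSpectrum R) ≤ (n : ℕ∞) := by
          have h6 : Order.coheight (⟨Q, hQp⟩ : PrimeSpectrum R) < ((n + 1 : ℕ) : ℕ∞) :=
            lt_of_le_of_ne hQco hQn
          have h7 : ((n + 1 : ℕ) : ℕ∞) = (n : ℕ∞) + 1 := by push_cast; rfl
          rw [h7] at h6
          exact Order.le_of_lt_add_one h6
        exact (Order.coheight_anti (show (⟨Q, hQp⟩ : PrimeSpectrum R) ≤ P from hQP)).trans h5
    obtain ⟨x', d', hxd', hP'⟩ := ih (I ⊔ Ideal.span {x₀}) hI' hco'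
    refine ⟨Fin.cons x₀ x', Fin.cons d₀ d', ?_, ?_⟩
    · intro i
      refine Fin.cases ?_ (fun j => ?_) i
      · simpa using ⟨hd₀, hx₀⟩
      · simpa using hxd' j
    · have : I ⊔ Ideal.span (Set.range (Fin.cons x₀ x' : Fin (n + 1) → R)) =
          I ⊔ Ideal.span {x₀} ⊔ Ideal.span (Set.range x') := by
        rw [Fin.range_cons, Ideal.span_insert, sup_assoc]
      rw [this]
      exact hP'

include hpos h0 in
theorem exists_hsop [IsNoetherianRing R] (r : ℕ) (hr : ringKrullDim R = r) :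
    ∃ (x : Fin r → R) (d : Fin r → ℕ), (∀ i, 0 < d i ∧ x i ∈ 𝒜 (d i : ℤ)) ∧
      PosLE 𝒜 (Ideal.span (Set.range x)) := by
  obtain ⟨x, d, hxd, hP⟩ := hsop_aux 𝒜 hpos h0 r ⊥ (Ideal.IsHomogeneous.bot 𝒜) (by
    intro P _
    have h1 := Order.coheight_le_krullDim P
    have h2 : Order.krullDim (PrimeSpectrum R) = ((r : ℕ∞) : WithBot ℕ∞) := by
      rw [← ringKrullDim, hr]
      rfl
    rw [h2] at h1
    exact_mod_cast h1)
  rw [bot_sup_eq] at hP
  exact ⟨x, d, hxd, hP⟩

include hpos h0 in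
theorem exists_hsop_same_degree [IsNoetherianRing R] (r : ℕ) (hr : ringKrullDim R = r) :
    ∃ (e : ℕ) (x : Fin r → R), 0 < e ∧ (∀ i, x i ∈ 𝒜 (e : ℤ)) ∧
      PosLE 𝒜 (Ideal.span (Set.range x)) := by
  obtain ⟨x, d, hxd, hP⟩ := exists_hsop 𝒜 hpos h0 r hr
  set D : ℕ := ∏ i, d i with hD
  have hDpos : 0 < D := Finset.prod_pos (fun i _ => (hxd i).1)
  have hdvd : ∀ i, d i ∣ D := fun i => Finset.dvd_prod_of_mem d (Finset.mem_univ i)
  refine ⟨D, fun i => x i ^ (D / d i), hDpos, ?_, ?_⟩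
  · intro i
    have h1 := SetLike.pow_mem_graded (D / d i) (hxd i).2
    rw [nsmul_eq_mul] at h1
    have e1 : ((D / d i : ℕ) : ℤ) * (d i : ℤ) = (D : ℤ) := by
      exact_mod_cast Nat.div_mul_cancel (hdvd i)
    rw [e1] at h1
    exact h1
  · intro m hm a ha
    have h1 := hP m hm a ha
    have h2 : Ideal.span (Set.range x) ≤
        (Ideal.span (Set.range fun i => x i ^ (D / d i))).radical := by
      rw [Ideal.span_le]
      rintro _ ⟨i, rfl⟩
      exact ⟨D / d i, Ideal.subset_span ⟨i, rfl⟩⟩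
    exact (Ideal.radical_le_radical_iff.2 h2) h1

end hsop

end Groth.Agent.Lib.SegDimH6
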