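import Mathlib
import Groth.Agent.Lib.SegDim2_helper6
import Groth.Agent.Lib.IntegralHeight_helper5

/-!
# Graded Noether normalisation (helper6)
-/

set_option autoImplicit false

namespace Groth.Agent.Lib.SegDimH6

open DirectSum

universe u

section general

/-- for an integral ring hom, `dim B = dim (A / ker f)` -/
theorem dim_eq_of_isIntegral {A B : Type u} [CommRing A] [CommRing B] (f : A →+* B)
    (hf : f.IsIntegral) : ringKrullDim B = ringKrullDim (A ⧸ RingHom.ker f) := by
  letI : Algebra (A ⧸ RingHom.ker f) B := (RingHom.kerLift f).toAlgebra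
  have hint : (RingHom.kerLift f).IsIntegral := by
    have hcomp : (RingHom.kerLift f).comp (Ideal.Quotient.mk (RingHom.ker f)) = f := by
      ext a
      rfl
    refine RingHom.IsIntegral.tower_top (Ideal.Quotient.mk (RingHom.ker f)) _ ?_
    rw [hcomp]
    exact hf
  haveI : Algebra.IsIntegral (A ⧸ RingHom.ker f) B := ⟨hint⟩
  exact Groth.Agent.IntegralHeight.ringKrullDim_eq_of_isIntegral_of_injective _ _
    (RingHom.kerLift_injective f)

end general

section fin

variable {k : Type u} [Field k] {R : Type u} [CommRing R] [Algebra k R] (𝒜 : ℤ → Submodule k R)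
  [GradedAlgebra 𝒜]
variable (hpos : ∀ n : ℤ, n < 0 → 𝒜 n = ⊥) (h0 : 𝒜 0 = Submodule.span k {(1 : R)})

include hpos h0 in
theorem isIntegral_quotient {𝔞 : Ideal R} (hP : PosLE 𝒜 𝔞) :
    Algebra.IsIntegral k (R ⧸ 𝔞) := by
  classical
  refine ⟨fun y => ?_⟩
  obtain ⟨u, rfl⟩ := Ideal.Quotient.mk_surjective y
  rw [← DirectSum.sum_support_decompose 𝒜 u, map_sum]
  refine IsIntegral.sum _ (fun n _ => ?_)
  rcases lt_trichotomy n 0 with hn | hn | hn
  · rw [eq_zero_of_neg 𝒜 hpos hn (decompose 𝒜 u n).2, map_zero]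
    exact isIntegral_zero
  · subst hn
    have hmem0 : ((decompose 𝒜 u 0 : 𝒜 0) : R) ∈ Submodule.span k {(1 : R)} := by
      rw [← h0]
      exact (decompose 𝒜 u 0).2
    obtain ⟨c, hc⟩ := Submodule.mem_span_singleton.1 hmem0
    rw [← hc, Algebra.smul_def, mul_one]
    have : Ideal.Quotient.mk 𝔞 (algebraMap k R c) = algebraMap k (R ⧸ 𝔞) c := rfl
    rw [this]
    exact isIntegral_algebraMap
  · obtain ⟨N, hN⟩ := hP n hn _ (decompose 𝒜 u n).2
    refine IsIntegral.of_pow (Nat.succ_pos N) ?_
    have : (Ideal.Quotient.mk 𝔞 ((decompose 𝒜 u n : 𝒜 n) : R)) ^ (N + 1) = 0 := by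
      rw [← map_pow, Ideal.Quotient.eq_zero_iff_mem, pow_succ]
      exact 𝔞.mul_mem_right _ hN
    rw [this]
    exact isIntegral_zero

include hpos h0 in
/-- graded Nakayama: `R` is integral over `k[x]` when the `x i` are homogeneous of the same positive
degree and generate the irrelevant ideal up to radical -/
theorem isIntegral_aeval [Algebra.FiniteType k R] {r : ℕ} {e : ℕ} (he : 0 < e) (x : Fin r → R)
    (hx : ∀ i, x i ∈ 𝒜 (e : ℤ)) (hP : PosLE 𝒜 (Ideal.span (Set.range x))) :
    (MvPolynomial.aeval x : MvPolynomial (Fin r) k →ₐ[k] R).toRingHom.IsIntegral := by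
  classical
  set 𝔞 : Ideal R := Ideal.span (Set.range x) with h𝔞
  haveI : Algebra.IsIntegral k (R ⧸ 𝔞) := isIntegral_quotient 𝒜 hpos h0 hP
  haveI : Algebra.FiniteType k (R ⧸ 𝔞) :=
    Algebra.FiniteType.of_surjective (Ideal.Quotient.mkₐ k 𝔞) (Ideal.Quotient.mkₐ_surjective k 𝔞)
  haveI hfin : Module.Finite k (R ⧸ 𝔞) := Algebra.IsIntegral.finite
  obtain ⟨n, s, hs⟩ := Module.Finite.exists_fin (R := k) (M := R ⧸ 𝔞)
  have hF : ∀ l : Fin n, ∃ y : R, Ideal.Quotient.mk 𝔞 y = s l :=
    fun l => Ideal.Quotient.mk_surjective (s l)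
  choose F hFs using hF
  have hdec : ∀ u : R, ∃ (c : Fin n → k) (v : Fin r → R),
      u = ∑ l, c l • F l + ∑ i, v i * x i := by
    intro u
    have h1 : Ideal.Quotient.mk 𝔞 u ∈ Submodule.span k (Set.range s) := by
      rw [hs]
      exact Submodule.mem_top
    obtain ⟨c, hc⟩ := (Submodule.mem_span_range_iff_exists_fun k).1 h1
    have h2 : u - ∑ l, c l • F l ∈ 𝔞 := by
      rw [← Ideal.Quotient.eq_zero_iff_mem, map_sub, map_sum, sub_eq_zero, ← hc]
      refine Finset.sum_congr rfl (fun l _ => ?_)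
      rw [← hFs l]
      rfl
    obtain ⟨v, hv⟩ := (Ideal.mem_span_range_iff_exists_fun).1 h2
    refine ⟨c, v, ?_⟩
    rw [hv]
    ring
  set P := MvPolynomial (Fin r) k with hPdef
  letI alg : Algebra P R := (MvPolynomial.aeval x : P →ₐ[k] R).toRingHom.toAlgebra
  have hsmul : ∀ (p : P) (y : R), p • y = MvPolynomial.aeval x p * y := fun p y => rfl
  set gen : Set R := {y | ∃ (l : Fin n) (m : ℤ), y = ((decompose 𝒜 (F l) m : 𝒜 m) : R)} with hgen
  have hgenfin : gen.Finite := by
    have : gen ⊆ insert 0 (⋃ l : Fin n, (fun m : ℤ => ((decompose 𝒜 (F l) m : 𝒜 m) : R)) ''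
        ((decompose 𝒜 (F l)).support : Set ℤ)) := by
      rintro y ⟨l, m, rfl⟩
      by_cases hm : m ∈ (decompose 𝒜 (F l)).support
      · refine Set.mem_insert_of_mem _ (Set.mem_iUnion.2 ⟨l, ⟨m, hm, rfl⟩⟩)
      · rw [DFinsupp.notMem_support_iff] at hm
        rw [hm]
        exact Set.mem_insert _ _
    refine Set.Finite.subset (Set.Finite.insert _ (Set.finite_iUnion (fun l => ?_))) this
    exact Set.Finite.image _ (Finset.finite_toSet _)
  set N : Submodule P R := Submodule.span P gen with hN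
  have hksmul : ∀ (c : k) (y : R), y ∈ N → c • y ∈ N := by
    intro c y hy
    have : c • y = (MvPolynomial.C c : P) • y := by
      rw [hsmul, MvPolynomial.aeval_C, Algebra.smul_def]
    rw [this]
    exact N.smul_mem _ hy
  have hxsmul : ∀ (i : Fin r) (y : R), y ∈ N → y * x i ∈ N := by
    intro i y hy
    have : y * x i = (MvPolynomial.X i : P) • y := by
      rw [hsmul, MvPolynomial.aeval_X, mul_comm]
    rw [this]
    exact N.smul_mem _ hy
  have key : ∀ (b : ℕ) (d : ℤ), d < b → ∀ u ∈ 𝒜 d, u ∈ N := by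
    intro b
    induction b with
    | zero =>
      intro d hd u hu
      rw [eq_zero_of_neg 𝒜 hpos (by exact_mod_cast hd) hu]
      exact N.zero_mem
    | succ b ih =>
      intro d hd u hu
      obtain ⟨c, v, huv⟩ := hdec u
      have h1 : u = ((decompose 𝒜 u d : 𝒜 d) : R) := (decompose_of_mem_same 𝒜 hu).symm
      rw [h1, huv, decompose_add, DirectSum.add_apply, Submodule.coe_add, decompose_sum,
        decompose_sum, DFinsupp.finset_sum_apply, DFinsupp.finset_sum_apply,
        AddSubmonoidClass.coe_finset_sum, AddSubmonoidClass.coe_finset_sum]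
      refine N.add_mem (N.sum_mem (fun l _ => ?_)) (N.sum_mem (fun i _ => ?_))
      · rw [decompose_smul, DirectSum.smul_apply, Submodule.coe_smul]
        refine hksmul _ _ (Submodule.subset_span ⟨l, d, rfl⟩)
      · have h2 := coe_decompose_mul_add_of_right_mem 𝒜 (i := d - e) (j := (e : ℤ)) (a := v i)
          (hx i)
        rw [sub_add_cancel] at h2
        rw [h2]
        refine hxsmul i _ (ih (d - e) ?_ _ (decompose 𝒜 (v i) (d - e)).2)
        have : (0 : ℤ) < (e : ℤ) := by exact_mod_cast he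
        push_cast at hd
        omega
  have htop : N = ⊤ := by
    rw [eq_top_iff]
    intro u _
    rw [← DirectSum.sum_support_decompose 𝒜 u]
    refine N.sum_mem (fun m _ => ?_)
    rcases lt_or_ge m 0 with hm | hm
    · rw [eq_zero_of_neg 𝒜 hpos hm (decompose 𝒜 u m).2]
      exact N.zero_mem
    · refine key (m.toNat + 1) m ?_ _ (decompose 𝒜 u m).2
      push_cast
      rw [Int.toNat_of_nonneg hm]
      omega
  haveI : Module.Finite P R := ⟨by
    rw [← htop, hN]
    exact Submodule.fg_span hgenfin⟩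
  have : Algebra.IsIntegral P R := inferInstance
  exact this.isIntegral

end fin

end Groth.Agent.Lib.SegDimH6
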