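import Mathlib

/-!
# The Segre product of two finitely generated graded algebras is Noetherian
-/

open scoped TensorProduct
open DirectSum

namespace Groth.Agent.Lib.SegreNoeth

universe u

section
variable {k : Type u} [Field k] {R : Type u} [CommRing R] [Algebra k R] (𝒜 : ℤ → Submodule k R)
  [GradedAlgebra 𝒜] {S : Type u} [CommRing S] [Algebra k S] (ℬ : ℤ → Submodule k S)
  [GradedAlgebra ℬ]

/-- the `n`-th diagonal projector -/
noncomputable def P (n : ℤ) : R ⊗[k] S →ₗ[k] R ⊗[k] S :=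
  TensorProduct.map (GradedAlgebra.proj 𝒜 n) (GradedAlgebra.proj ℬ n)

theorem P_tmul (n : ℤ) (r : R) (s : S) :
    P 𝒜 ℬ n (r ⊗ₜ[k] s) = ((decompose 𝒜 r n : R)) ⊗ₜ[k] ((decompose ℬ s n : S)) := by
  unfold P
  rw [TensorProduct.map_tmul]
  rfl

theorem P_finite (e : R ⊗[k] S) : (Function.support fun n => P 𝒜 ℬ n e).Finite := by
  classical
  induction e using TensorProduct.induction_on with
  | zero =>
    have : (Function.support fun n => P 𝒜 ℬ n (0 : R ⊗[k] S)) = ∅ := by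
      ext n; simp
    rw [this]; exact Set.finite_empty
  | tmul r s =>
    refine ((decompose 𝒜 r).support.finite_toSet).subset ?_
    intro n hn
    rw [Function.mem_support, P_tmul] at hn
    rw [Finset.mem_coe, DFinsupp.mem_support_iff]
    intro h0
    apply hn
    rw [h0, ZeroMemClass.coe_zero, TensorProduct.zero_tmul]
  | add x y hx hy =>
    refine (hx.union hy).subset ?_
    intro n hn
    rw [Function.mem_support] at hn
    by_contra hcon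
    rw [Set.mem_union, not_or, Function.mem_support, Function.mem_support, not_not, not_not]
      at hcon
    apply hn
    rw [map_add, hcon.1, hcon.2, add_zero]

/-- the Reynolds operator onto the diagonal -/
noncomputable def ρ : R ⊗[k] S →ₗ[k] R ⊗[k] S where
  toFun e := ∑ᶠ n, P 𝒜 ℬ n e
  map_add' x y := by
    simp only [map_add]
    exact finsum_add_distrib (P_finite 𝒜 ℬ x) (P_finite 𝒜 ℬ y)
  map_smul' c x := by
    simp only [map_smul, RingHom.id_apply]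
    exact (smul_finsum' c (P_finite 𝒜 ℬ x)).symm

theorem ρ_apply (e : R ⊗[k] S) : ρ 𝒜 ℬ e = ∑ᶠ n, P 𝒜 ℬ n e := rfl

theorem P_mul_tmul {m : ℤ} {a : R} {b : S} (ha : a ∈ 𝒜 m) (hb : b ∈ ℬ m) (n : ℤ)
    (e : R ⊗[k] S) :
    P 𝒜 ℬ n ((a ⊗ₜ[k] b) * e) = (a ⊗ₜ[k] b) * P 𝒜 ℬ (n - m) e := by
  induction e using TensorProduct.induction_on with
  | zero => simp
  | tmul r s =>
    rw [Algebra.TensorProduct.tmul_mul_tmul, P_tmul, P_tmul, Algebra.TensorProduct.tmul_mul_tmul]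
    have h1 : (decompose 𝒜 (a * r) n : R) = a * (decompose 𝒜 r (n - m) : R) := by
      have := coe_decompose_mul_add_of_left_mem 𝒜 (i := m) (j := n - m) (b := r) ha
      rwa [add_sub_cancel] at this
    have h2 : (decompose ℬ (b * s) n : S) = b * (decompose ℬ s (n - m) : S) := by
      have := coe_decompose_mul_add_of_left_mem ℬ (i := m) (j := n - m) (b := s) hb
      rwa [add_sub_cancel] at this
    rw [h1, h2]
  | add x y hx hy => rw [mul_add, map_add, map_add, mul_add, hx, hy]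

theorem ρ_mul_tmul {m : ℤ} {a : R} {b : S} (ha : a ∈ 𝒜 m) (hb : b ∈ ℬ m) (e : R ⊗[k] S) :
    ρ 𝒜 ℬ ((a ⊗ₜ[k] b) * e) = (a ⊗ₜ[k] b) * ρ 𝒜 ℬ e := by
  rw [ρ_apply, ρ_apply]
  simp only [P_mul_tmul 𝒜 ℬ ha hb]
  rw [mul_finsum' _ _ (P_finite 𝒜 ℬ e)]
  exact finsum_comp_equiv (Equiv.subRight m) (f := fun n => (a ⊗ₜ[k] b) * P 𝒜 ℬ n e)

theorem ρ_tmul_of_mem {m : ℤ} {a : R} {b : S} (ha : a ∈ 𝒜 m) (hb : b ∈ ℬ m) :
    ρ 𝒜 ℬ (a ⊗ₜ[k] b) = a ⊗ₜ[k] b := by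
  rw [ρ_apply, finsum_eq_single _ m]
  · rw [P_tmul, decompose_of_mem_same 𝒜 ha, decompose_of_mem_same ℬ hb]
  · intro n hn
    rw [P_tmul, decompose_of_mem_ne 𝒜 ha hn.symm, TensorProduct.zero_tmul]

theorem ρ_one : ρ 𝒜 ℬ (1 : R ⊗[k] S) = 1 := by
  rw [Algebra.TensorProduct.one_def]
  exact ρ_tmul_of_mem 𝒜 ℬ (SetLike.GradedOne.one_mem) (SetLike.GradedOne.one_mem)

variable {T : Type u} [CommRing T] [Algebra k T] (𝒯 : ℤ → Submodule k T) [GradedAlgebra 𝒯]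
  (ψ : T →ₐ[k] R ⊗[k] S)
  (hdegT : ∀ n : ℤ, (𝒯 n).map ψ.toLinearMap =
    Submodule.span k {x : R ⊗[k] S | ∃ a ∈ 𝒜 n, ∃ b ∈ ℬ n, x = a ⊗ₜ[k] b})

include hdegT in
theorem ρ_mul_ψ (t : T) (e : R ⊗[k] S) : ρ 𝒜 ℬ (ψ t * e) = ψ t * ρ 𝒜 ℬ e := by
  classical
  refine DirectSum.Decomposition.inductionOn 𝒯 ?_ ?_ ?_ t
  · rw [map_zero, zero_mul, map_zero, zero_mul]
  · intro m t'
    have hmem : ψ (t' : T) ∈
        Submodule.span k {x : R ⊗[k] S | ∃ a ∈ 𝒜 m, ∃ b ∈ ℬ m, x = a ⊗ₜ[k] b} := by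
      rw [← hdegT m]; exact Submodule.mem_map_of_mem t'.2
    refine Submodule.span_induction (p := fun x _ => ρ 𝒜 ℬ (x * e) = x * ρ 𝒜 ℬ e)
      ?_ ?_ ?_ ?_ hmem
    · rintro _ ⟨a, ha, b, hb, rfl⟩
      exact ρ_mul_tmul 𝒜 ℬ ha hb e
    · rw [zero_mul, map_zero, zero_mul]
    · intro x y _ _ hx hy
      rw [add_mul, map_add, hx, hy, add_mul]
    · intro c x _ hx
      rw [smul_mul_assoc, map_smul, hx, smul_mul_assoc]
  · intro x y hx hy
    rw [map_add, add_mul, map_add, hx, hy, add_mul]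

include hdegT in
theorem P_mem_range (n : ℤ) (e : R ⊗[k] S) : P 𝒜 ℬ n e ∈ (𝒯 n).map ψ.toLinearMap := by
  rw [hdegT n]
  induction e using TensorProduct.induction_on with
  | zero => rw [map_zero]; exact Submodule.zero_mem _
  | tmul r s =>
    rw [P_tmul]
    exact Submodule.subset_span ⟨_, SetLike.coe_mem _, _, SetLike.coe_mem _, rfl⟩
  | add x y hx hy => rw [map_add]; exact Submodule.add_mem _ hx hy

include hdegT in
theorem ρ_mem_range (e : R ⊗[k] S) : ∃ t : T, ψ t = ρ 𝒜 ℬ e := by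
  rw [ρ_apply]
  refine finsum_induction (fun y => ∃ t : T, ψ t = y) ⟨0, map_zero ψ⟩ ?_ ?_
  · rintro x y ⟨t, rfl⟩ ⟨t', rfl⟩; exact ⟨t + t', map_add ψ t t'⟩
  · intro n
    obtain ⟨t, -, ht⟩ := Submodule.mem_map.mp (P_mem_range 𝒜 ℬ 𝒯 ψ hdegT n e)
    exact ⟨t, ht⟩

include hdegT in
theorem comap_map_eq (hψ : Function.Injective ψ) (J : Ideal T) :
    (J.map (ψ : T →+* R ⊗[k] S)).comap (ψ : T →+* R ⊗[k] S) = J := by
  apply le_antisymm _ Ideal.le_comap_map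
  intro x hx
  rw [Ideal.mem_comap] at hx
  have key : ∀ y ∈ J.map (ψ : T →+* R ⊗[k] S), ∀ e : R ⊗[k] S,
      ∃ j ∈ J, ψ j = ρ 𝒜 ℬ (e * y) := by
    intro y hy
    have hy' : y ∈ Submodule.span (R ⊗[k] S) ((ψ : T →+* R ⊗[k] S) '' (J : Set T)) := hy
    refine Submodule.span_induction
      (p := fun y _ => ∀ e : R ⊗[k] S, ∃ j ∈ J, ψ j = ρ 𝒜 ℬ (e * y)) ?_ ?_ ?_ ?_ hy'
    · rintro _ ⟨j, hj, rfl⟩ e
      show ∃ j' ∈ J, ψ j' = ρ 𝒜 ℬ (e * ψ j)
      obtain ⟨t, ht⟩ := ρ_mem_range 𝒜 ℬ 𝒯 ψ hdegT e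
      refine ⟨j * t, J.mul_mem_right _ hj, ?_⟩
      rw [mul_comm e, ρ_mul_ψ 𝒜 ℬ 𝒯 ψ hdegT, ← ht, map_mul]
    · intro e; exact ⟨0, J.zero_mem, by rw [mul_zero, map_zero, map_zero]⟩
    · intro y y' _ _ hy hy' e
      obtain ⟨j, hj, hjy⟩ := hy e
      obtain ⟨j', hj', hjy'⟩ := hy' e
      exact ⟨j + j', J.add_mem hj hj', by rw [mul_add, map_add, map_add, hjy, hjy']⟩
    · intro c y _ hy e
      obtain ⟨j, hj, hjy⟩ := hy (e * c)
      exact ⟨j, hj, by rw [hjy, smul_eq_mul, mul_assoc]⟩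
  obtain ⟨j, hj, hjx⟩ := key _ hx 1
  rw [one_mul] at hjx
  have h1 : ρ 𝒜 ℬ (ψ x) = ψ x := by
    have := ρ_mul_ψ 𝒜 ℬ 𝒯 ψ hdegT x 1
    rw [mul_one, ρ_one, mul_one] at this
    exact this
  have hjx' : ψ j = ψ x := hjx.trans h1
  rw [← hψ hjx']; exact hj

include hdegT in
theorem main [Algebra.FiniteType k R] [Algebra.FiniteType k S] (hψ : Function.Injective ψ) :
    IsNoetherianRing T := by
  haveI h1 : Algebra.FiniteType R (R ⊗[k] S) := inferInstance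
  haveI h2 : Algebra.FiniteType k (R ⊗[k] S) :=
    Algebra.FiniteType.trans (inferInstance : Algebra.FiniteType k R) h1
  haveI hE : IsNoetherianRing (R ⊗[k] S) := Algebra.FiniteType.isNoetherianRing k _
  have hsm : StrictMono (fun J : Ideal T => J.map (ψ : T →+* R ⊗[k] S)) := by
    intro J J' hJ
    refine lt_of_le_of_ne (Ideal.map_mono hJ.le) ?_
    intro heq
    apply hJ.ne
    have h3 : (J.map (ψ : T →+* R ⊗[k] S)).comap (ψ : T →+* R ⊗[k] S) =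
        (J'.map (ψ : T →+* R ⊗[k] S)).comap (ψ : T →+* R ⊗[k] S) :=
      congrArg (Ideal.comap (ψ : T →+* R ⊗[k] S)) heq
    rw [comap_map_eq 𝒜 ℬ 𝒯 ψ hdegT hψ, comap_map_eq 𝒜 ℬ 𝒯 ψ hdegT hψ] at h3
    exact h3
  rw [isNoetherianRing_iff, isNoetherian_iff']
  haveI : WellFoundedGT (Ideal (R ⊗[k] S)) := isNoetherian_iff'.mp hE
  exact hsm.wellFoundedGT

end

end Groth.Agent.Lib.SegreNoeth
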