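import Mathlib
import Groth.Agent.Lib.SegDim3_helper6
import Groth.Agent.Lib.SegreNoeth_lead

/-!
# The Segre product is integral over `k[x_i ⊗ y_j]` (helper6)
-/

set_option autoImplicit false

namespace Groth.Agent.Lib.SegDimH6

open DirectSum MvPolynomial
open scoped TensorProduct
open Groth.Agent.Lib.SegreNoeth (ρ ρ_apply P_tmul ρ_tmul_of_mem ρ_mul_ψ ρ_one)

universe u

section alg

variable {k : Type u} [Field k]

/-- non-injective integral `k[x_1..x_r] → R` forces `dim R < r` -/
theorem aeval_injective_of_dim {R : Type u} [CommRing R] [Algebra k R] {r : ℕ} (x : Fin r → R)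
    (hint : (aeval x : MvPolynomial (Fin r) k →ₐ[k] R).toRingHom.IsIntegral)
    (hr : ringKrullDim R = r) :
    Function.Injective (aeval x : MvPolynomial (Fin r) k →ₐ[k] R) := by
  set f : MvPolynomial (Fin r) k →+* R := (aeval x : MvPolynomial (Fin r) k →ₐ[k] R).toRingHom
    with hf
  rw [show ((aeval x : MvPolynomial (Fin r) k →ₐ[k] R) : MvPolynomial (Fin r) k → R) = f from rfl,
    injective_iff_map_eq_zero]
  intro p hp
  by_contra hp0
  have h1 := dim_eq_of_isIntegral f hint
  have hpk : Ideal.span {p} ≤ RingHom.ker f := by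
    rw [Ideal.span_le, Set.singleton_subset_iff]
    exact hp
  have h2 : ringKrullDim (MvPolynomial (Fin r) k ⧸ RingHom.ker f) ≤
      ringKrullDim (MvPolynomial (Fin r) k ⧸ Ideal.span {p}) :=
    ringKrullDim_le_of_surjective (Ideal.Quotient.factor hpk) (Ideal.Quotient.factor_surjective hpk)
  have h3 := ringKrullDim_quotient_succ_le_of_nonZeroDivisor
    (mem_nonZeroDivisors_of_ne_zero hp0)
  have h4 : ringKrullDim (MvPolynomial (Fin r) k) = r := by
    rw [MvPolynomial.ringKrullDim_of_isNoetherianRing, ringKrullDim_eq_zero_of_field, zero_add,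
      Nat.card_eq_fintype_card, Fintype.card_fin]
  rw [h4] at h3
  rw [hr] at h1
  rw [← h1] at h2
  have h5 : ((r : ℕ) : WithBot ℕ∞) + 1 ≤ (r : ℕ) := (add_le_add_left h2 1).trans h3
  have h6 : ((r + 1 : ℕ) : WithBot ℕ∞) ≤ ((r : ℕ) : WithBot ℕ∞) := by
    push_cast
    exact h5
  have h7 : r + 1 ≤ r := by exact_mod_cast h6
  omega

/-- tensor product of integral algebra maps is integral -/
theorem map_isIntegral {A B A' B' : Type u} [CommRing A] [CommRing B] [CommRing A'] [CommRing B']
    [Algebra k A] [Algebra k B] [Algebra k A'] [Algebra k B'] (g : A →ₐ[k] A') (h : B →ₐ[k] B')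
    (hg : g.toRingHom.IsIntegral) (hh : h.toRingHom.IsIntegral) :
    (Algebra.TensorProduct.map g h).toRingHom.IsIntegral := by
  set G : A ⊗[k] B →+* A' ⊗[k] B' := (Algebra.TensorProduct.map g h).toRingHom with hG
  have hleft : ∀ a : A', G.IsIntegralElem (a ⊗ₜ[k] (1 : B')) := by
    intro a
    obtain ⟨p, hpm, hpe⟩ := hg a
    refine ⟨p.map (Algebra.TensorProduct.includeLeft : A →ₐ[k] A ⊗[k] B).toRingHom,
      hpm.map _, ?_⟩
    rw [Polynomial.eval₂_map]
    have hcomp : G.comp (Algebra.TensorProduct.includeLeft : A →ₐ[k] A ⊗[k] B).toRingHom =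
        ((Algebra.TensorProduct.includeLeft : A' →ₐ[k] A' ⊗[k] B').toRingHom).comp g.toRingHom := by
      ext a'
      simp [hG]
    rw [hcomp]
    have := Polynomial.hom_eval₂ p g.toRingHom
      (Algebra.TensorProduct.includeLeft : A' →ₐ[k] A' ⊗[k] B').toRingHom a
    rw [hpe, map_zero] at this
    exact this.symm
  have hright : ∀ b : B', G.IsIntegralElem ((1 : A') ⊗ₜ[k] b) := by
    intro b
    obtain ⟨p, hpm, hpe⟩ := hh b
    refine ⟨p.map (Algebra.TensorProduct.includeRight : B →ₐ[k] A ⊗[k] B).toRingHom,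
      hpm.map _, ?_⟩
    rw [Polynomial.eval₂_map]
    have hcomp : G.comp (Algebra.TensorProduct.includeRight : B →ₐ[k] A ⊗[k] B).toRingHom =
        ((Algebra.TensorProduct.includeRight : B' →ₐ[k] A' ⊗[k] B').toRingHom).comp h.toRingHom := by
      ext b'
      simp [hG]
    rw [hcomp]
    have := Polynomial.hom_eval₂ p h.toRingHom
      (Algebra.TensorProduct.includeRight : B' →ₐ[k] A' ⊗[k] B').toRingHom b
    rw [hpe, map_zero] at this
    exact this.symm
  intro u
  induction u using TensorProduct.induction_on with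
  | zero => exact RingHom.isIntegralElem_zero _
  | tmul a b =>
    have : a ⊗ₜ[k] b = (a ⊗ₜ[k] (1 : B')) * ((1 : A') ⊗ₜ[k] b) := by
      rw [Algebra.TensorProduct.tmul_mul_tmul, mul_one, one_mul]
    rw [this]
    exact RingHom.IsIntegralElem.mul _ (hleft a) (hright b)
  | add u v hu hv => exact RingHom.IsIntegralElem.add _ hu hv

theorem map_injective {A B A' B' : Type u} [CommRing A] [CommRing B] [CommRing A'] [CommRing B']
    [Algebra k A] [Algebra k B] [Algebra k A'] [Algebra k B'] (g : A →ₐ[k] A') (h : B →ₐ[k] B')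
    (hg : Function.Injective g) (hh : Function.Injective h) :
    Function.Injective (Algebra.TensorProduct.map g h) := by
  have := TensorProduct.map_injective_of_flat_flat g.toLinearMap h.toLinearMap hg hh
  exact this

end alg

end Groth.Agent.Lib.SegDimH6
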