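import Mathlib
import Groth.Agent.Lib.SegDim4_helper6

/-!
# The Segre product is integral over `k[x_i ⊗ y_j]`, part 2 (helper6)
-/

set_option autoImplicit false

namespace Groth.Agent.Lib.SegDimH6

open DirectSum MvPolynomial
open scoped TensorProduct
open Groth.Agent.Lib.SegreNoeth (ρ ρ_apply P_tmul ρ_tmul_of_mem ρ_mul_ψ ρ_one)

universe u

section segre

variable {k : Type u} [Field k] {R : Type u} [CommRing R] [Algebra k R] (𝒜 : ℤ → Submodule k R)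
  [GradedAlgebra 𝒜] {S : Type u} [CommRing S] [Algebra k S] (ℬ : ℤ → Submodule k S)
  [GradedAlgebra ℬ]

theorem ρ_tmul_of_ne {m n : ℤ} (hmn : m ≠ n) {a : R} {b : S} (ha : a ∈ 𝒜 m) (hb : b ∈ ℬ n) :
    ρ 𝒜 ℬ (a ⊗ₜ[k] b) = 0 := by
  rw [ρ_apply]
  refine finsum_eq_zero_of_forall_eq_zero (fun l => ?_)
  rw [P_tmul]
  by_cases hl : l = m
  · subst hl
    rw [decompose_of_mem_ne ℬ hb (Ne.symm hmn), TensorProduct.tmul_zero]
  · rw [decompose_of_mem_ne 𝒜 ha (Ne.symm hl), TensorProduct.zero_tmul]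

/-- total degree of an exponent vector -/
def dg {r : ℕ} (m : Fin r →₀ ℕ) : ℕ := ∑ i, m i

theorem dg_add {r : ℕ} (m m' : Fin r →₀ ℕ) : dg (m + m') = dg m + dg m' := by
  simp [dg, Finset.sum_add_distrib]

theorem dg_single {r : ℕ} (i : Fin r) : dg (Finsupp.single i 1) = 1 := by
  classical
  simp [dg, Finsupp.single_apply]

theorem eq_zero_of_dg {r : ℕ} (m : Fin r →₀ ℕ) (h : dg m = 0) : m = 0 := by
  ext i
  have := (Finset.sum_eq_zero_iff.1 h) i (Finset.mem_univ i)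
  simpa using this

theorem exists_of_dg_succ {r : ℕ} (m : Fin r →₀ ℕ) (n : ℕ) (h : dg m = n + 1) :
    ∃ (i : Fin r) (m' : Fin r →₀ ℕ), m = m' + Finsupp.single i 1 ∧ dg m' = n := by
  classical
  have hne : m ≠ 0 := by
    rintro rfl
    simp [dg] at h
  obtain ⟨i, hi⟩ : ∃ i, m i ≠ 0 := by
    by_contra hcon
    push Not at hcon
    exact hne (Finsupp.ext hcon)
  refine ⟨i, m - Finsupp.single i 1, ?_, ?_⟩
  · ext j
    by_cases hj : j = i
    · subst hj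
      simp only [Finsupp.coe_add, Finsupp.coe_tsub, Pi.add_apply, Pi.sub_apply,
        Finsupp.single_eq_same]
      omega
    · simp [Finsupp.single_apply, Ne.symm hj]
  · have h1 : m = (m - Finsupp.single i 1) + Finsupp.single i 1 := by
      ext j
      by_cases hj : j = i
      · subst hj
        simp only [Finsupp.coe_add, Finsupp.coe_tsub, Pi.add_apply, Pi.sub_apply,
          Finsupp.single_eq_same]
        omega
      · simp [Finsupp.single_apply, Ne.symm hj]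
    have h2 := congrArg dg h1
    rw [dg_add, dg_single, h] at h2
    omega

variable {r s : ℕ} {e : ℕ} (x : Fin r → R) (y : Fin s → S)

theorem aeval_monomial_mem (hx : ∀ i, x i ∈ 𝒜 (e : ℤ)) (m : Fin r →₀ ℕ) (c : k) :
    aeval x (monomial m c) ∈ 𝒜 ((e * dg m : ℕ) : ℤ) := by
  rw [aeval_monomial, ← Algebra.smul_def, Finsupp.prod_fintype _ _ (fun i => pow_zero _)]
  refine Submodule.smul_mem _ _ ?_
  have h1 := SetLike.prod_pow_mem_graded 𝒜 (fun _ : Fin r => (e : ℤ)) x (fun i => m i)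
    (F := Finset.univ) (fun i _ => hx i)
  have h2 : ∑ i : Fin r, m i • (e : ℤ) = ((e * dg m : ℕ) : ℤ) := by
    simp only [dg, nsmul_eq_mul]
    push_cast
    rw [Finset.mul_sum]
    refine Finset.sum_congr rfl (fun i _ => ?_)
    ring
  rw [h2] at h1
  exact h1

/-- the polynomial ring in the variables `z_{ij}` -/
abbrev ZZ (k : Type u) [Field k] (r s : ℕ) := MvPolynomial (Fin r × Fin s) k

/-- `z_{ij} ↦ X_i ⊗ Y_j` -/
noncomputable def σW (k : Type u) [Field k] (r s : ℕ) :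
    ZZ k r s →ₐ[k] MvPolynomial (Fin r) k ⊗[k] MvPolynomial (Fin s) k :=
  aeval (fun p : Fin r × Fin s => (X p.1 : MvPolynomial (Fin r) k) ⊗ₜ[k]
    (X p.2 : MvPolynomial (Fin s) k))

theorem balanced_mem_range : ∀ (n : ℕ) (m₁ : Fin r →₀ ℕ) (m₂ : Fin s →₀ ℕ), dg m₁ = n → dg m₂ = n →
    ∃ z : ZZ k r s, σW k r s z = (monomial m₁ (1 : k)) ⊗ₜ[k] (monomial m₂ (1 : k)) := by
  intro n
  induction n with
  | zero =>
    intro m₁ m₂ h1 h2
    rw [eq_zero_of_dg m₁ h1, eq_zero_of_dg m₂ h2]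
    refine ⟨1, ?_⟩
    rw [map_one]
    rfl
  | succ n ih =>
    intro m₁ m₂ h1 h2
    obtain ⟨i, m₁', rfl, h1'⟩ := exists_of_dg_succ m₁ n h1
    obtain ⟨j, m₂', rfl, h2'⟩ := exists_of_dg_succ m₂ n h2
    obtain ⟨z, hz⟩ := ih m₁' m₂' h1' h2'
    refine ⟨z * X (i, j), ?_⟩
    rw [map_mul, hz, σW, aeval_X, Algebra.TensorProduct.tmul_mul_tmul, monomial_add_single,
      monomial_add_single, pow_one, pow_one]

variable (k r s) in
/-- the map `k[X] ⊗ k[Y] → R ⊗ S` -/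
noncomputable def GW : MvPolynomial (Fin r) k ⊗[k] MvPolynomial (Fin s) k →ₐ[k] R ⊗[k] S :=
  Algebra.TensorProduct.map (aeval x) (aeval y)

theorem exists_ρ_monomial (he : e ≠ 0) (hx : ∀ i, x i ∈ 𝒜 (e : ℤ)) (hy : ∀ j, y j ∈ ℬ (e : ℤ))
    (m₁ : Fin r →₀ ℕ) (m₂ : Fin s →₀ ℕ) (c₁ c₂ : k) :
    ∃ z : ZZ k r s, ρ 𝒜 ℬ (GW k r s x y ((monomial m₁ c₁) ⊗ₜ[k] (monomial m₂ c₂))) =
      GW k r s x y (σW k r s z) := by
  have h1 : GW k r s x y ((monomial m₁ c₁) ⊗ₜ[k] (monomial m₂ c₂)) =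
      (aeval x (monomial m₁ c₁)) ⊗ₜ[k] (aeval y (monomial m₂ c₂)) := by
    rw [GW, Algebra.TensorProduct.map_tmul]
  rw [h1]
  by_cases hd : dg m₁ = dg m₂
  · have ha := aeval_monomial_mem 𝒜 x hx m₁ c₁
    have hb := aeval_monomial_mem ℬ y hy m₂ c₂
    rw [← hd] at hb
    rw [ρ_tmul_of_mem 𝒜 ℬ ha hb]
    obtain ⟨z, hz⟩ := balanced_mem_range (k := k) (dg m₁) m₁ m₂ rfl hd.symm
    refine ⟨(c₁ * c₂) • z, ?_⟩
    rw [map_smul, hz, map_smul, GW, Algebra.TensorProduct.map_tmul]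
    have e1 : (monomial m₁ c₁ : MvPolynomial (Fin r) k) = c₁ • monomial m₁ 1 := by
      rw [smul_monomial, smul_eq_mul, mul_one]
    have e2 : (monomial m₂ c₂ : MvPolynomial (Fin s) k) = c₂ • monomial m₂ 1 := by
      rw [smul_monomial, smul_eq_mul, mul_one]
    rw [e1, e2, map_smul, map_smul, TensorProduct.smul_tmul_smul]
  · have ha := aeval_monomial_mem 𝒜 x hx m₁ c₁
    have hb := aeval_monomial_mem ℬ y hy m₂ c₂
    have hne : ((e * dg m₁ : ℕ) : ℤ) ≠ ((e * dg m₂ : ℕ) : ℤ) := by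
      intro h
      apply hd
      have : e * dg m₁ = e * dg m₂ := by exact_mod_cast h
      exact Nat.eq_of_mul_eq_mul_left (Nat.pos_of_ne_zero he) this
    rw [ρ_tmul_of_ne 𝒜 ℬ hne ha hb]
    exact ⟨0, by rw [map_zero, map_zero]⟩

theorem exists_ρ (he : e ≠ 0) (hx : ∀ i, x i ∈ 𝒜 (e : ℤ)) (hy : ∀ j, y j ∈ ℬ (e : ℤ))
    (w : MvPolynomial (Fin r) k ⊗[k] MvPolynomial (Fin s) k) :
    ∃ z : ZZ k r s, ρ 𝒜 ℬ (GW k r s x y w) = GW k r s x y (σW k r s z) := by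
  induction w using TensorProduct.induction_on with
  | zero => exact ⟨0, by rw [map_zero, map_zero, map_zero, map_zero]⟩
  | tmul p q =>
    induction p using MvPolynomial.induction_on' with
    | monomial m₁ c₁ =>
      induction q using MvPolynomial.induction_on' with
      | monomial m₂ c₂ => exact exists_ρ_monomial 𝒜 ℬ x y he hx hy m₁ m₂ c₁ c₂
      | add q₁ q₂ h₁ h₂ =>
        obtain ⟨z₁, hz₁⟩ := h₁
        obtain ⟨z₂, hz₂⟩ := h₂
        exact ⟨z₁ + z₂, by rw [TensorProduct.tmul_add, map_add, map_add, hz₁, hz₂, map_add, map_add]⟩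
    | add p₁ p₂ h₁ h₂ =>
      obtain ⟨z₁, hz₁⟩ := h₁
      obtain ⟨z₂, hz₂⟩ := h₂
      exact ⟨z₁ + z₂, by rw [TensorProduct.add_tmul, map_add, map_add, hz₁, hz₂, map_add, map_add]⟩
  | add w₁ w₂ h₁ h₂ =>
    obtain ⟨z₁, hz₁⟩ := h₁
    obtain ⟨z₂, hz₂⟩ := h₂
    exact ⟨z₁ + z₂, by rw [map_add, map_add, hz₁, hz₂, map_add, map_add]⟩

end segre

end Groth.Agent.Lib.SegDimH6
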