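import Mathlib
import Groth.Agent.Lib.SegDim5_helper6

/-!
# The Segre product is integral over `k[x_i ⊗ y_j]`, part 3 (helper6)
-/

set_option autoImplicit false

namespace Groth.Agent.Lib.SegDimH6

open DirectSum MvPolynomial
open scoped TensorProduct
open Groth.Agent.Lib.SegreNoeth (ρ ρ_apply P_tmul ρ_tmul_of_mem ρ_mul_ψ ρ_one)

universe u

section segre

variable {k : Type u} [Field k] {R : Type u} [CommRing R] [Algebra k R] (𝒜 : ℤ → Submodule k R)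
  [GradedAlgebra 𝒜] {S : Type u} [CommRing S] [Algebra k S] (ℬ : ℤ → Submodule k S)
  [GradedAlgebra ℬ]
variable {r s : ℕ} {e : ℕ} (x : Fin r → R) (y : Fin s → S)
variable {T : Type u} [CommRing T] [Algebra k T] (𝒯 : ℤ → Submodule k T) [GradedAlgebra 𝒯]
  (ψ : T →ₐ[k] R ⊗[k] S)
  (hdegT : ∀ n : ℤ, (𝒯 n).map ψ.toLinearMap =
    Submodule.span k {x : R ⊗[k] S | ∃ a ∈ 𝒜 n, ∃ b ∈ ℬ n, x = a ⊗ₜ[k] b})

include hdegT in
theorem exists_tt (hx : ∀ i, x i ∈ 𝒜 (e : ℤ)) (hy : ∀ j, y j ∈ ℬ (e : ℤ)) :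
    ∃ tt : Fin r × Fin s → T, ∀ p, ψ (tt p) = x p.1 ⊗ₜ[k] y p.2 := by
  have h : ∀ p : Fin r × Fin s, ∃ t : T, ψ t = x p.1 ⊗ₜ[k] y p.2 := by
    intro p
    have hmem : x p.1 ⊗ₜ[k] y p.2 ∈ (𝒯 (e : ℤ)).map ψ.toLinearMap := by
      rw [hdegT]
      exact Submodule.subset_span ⟨_, hx p.1, _, hy p.2, rfl⟩
    obtain ⟨t, -, ht⟩ := Submodule.mem_map.1 hmem
    exact ⟨t, ht⟩
  choose tt htt using h
  exact ⟨tt, htt⟩

theorem ψ_comp (tt : Fin r × Fin s → T) (htt : ∀ p, ψ (tt p) = x p.1 ⊗ₜ[k] y p.2)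
    (z : ZZ k r s) : ψ (aeval tt z) = GW k r s x y (σW k r s z) := by
  have : ψ.comp (aeval tt : ZZ k r s →ₐ[k] T) = (GW k r s x y).comp (σW k r s) := by
    apply MvPolynomial.algHom_ext
    intro p
    rw [AlgHom.comp_apply, AlgHom.comp_apply, aeval_X, htt, σW, aeval_X, GW,
      Algebra.TensorProduct.map_tmul, aeval_X, aeval_X]
  exact DFunLike.congr_fun this z

include hdegT in
theorem f_isIntegral (hψ : Function.Injective ψ) (he : e ≠ 0) (hx : ∀ i, x i ∈ 𝒜 (e : ℤ))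
    (hy : ∀ j, y j ∈ ℬ (e : ℤ)) (hGW : (GW k r s x y).toRingHom.IsIntegral)
    (tt : Fin r × Fin s → T) (htt : ∀ p, ψ (tt p) = x p.1 ⊗ₜ[k] y p.2) :
    (aeval tt : ZZ k r s →ₐ[k] T).toRingHom.IsIntegral := by
  classical
  intro t
  obtain ⟨p, hpm, hpe⟩ := hGW (ψ t)
  rw [Polynomial.eval₂_eq_sum_range] at hpe
  choose z hz using exists_ρ 𝒜 ℬ x y he hx hy
  set N := p.natDegree with hN
  set f : ZZ k r s →ₐ[k] T := aeval tt with hf
  have hfz : ∀ w, ψ (f (z w)) = ρ 𝒜 ℬ (GW k r s x y w) := by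
    intro w
    rw [hf, ψ_comp x y ψ tt htt, ← hz]
  have key : ∑ i ∈ Finset.range (N + 1), f (z (p.coeff i)) * t ^ i = 0 := by
    apply hψ
    rw [map_zero, map_sum]
    have h1 : ∀ i ∈ Finset.range (N + 1), ψ (f (z (p.coeff i)) * t ^ i) =
        ρ 𝒜 ℬ ((GW k r s x y).toRingHom (p.coeff i) * ψ t ^ i) := by
      intro i _
      rw [map_mul, hfz, mul_comm, mul_comm _ (ψ t ^ i), ← map_pow, ρ_mul_ψ 𝒜 ℬ 𝒯 ψ hdegT]
      rfl
    rw [Finset.sum_congr rfl h1, ← map_sum, hpe, map_zero]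
  have hlead : f (z (p.coeff N)) = 1 := by
    apply hψ
    rw [hfz, hN, hpm.coeff_natDegree, map_one, ρ_one, map_one]
  rw [Finset.sum_range_succ, hlead, one_mul] at key
  refine ⟨Polynomial.X ^ N + ∑ i ∈ Finset.range N,
    Polynomial.C (z (p.coeff i)) * Polynomial.X ^ i, ?_, ?_⟩
  · apply Polynomial.monic_X_pow_add
    rw [Polynomial.degree_lt_iff_coeff_zero]
    intro m hm
    rw [Polynomial.finset_sum_coeff]
    refine Finset.sum_eq_zero (fun i hi => ?_)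
    rw [Polynomial.coeff_C_mul_X_pow, if_neg]
    have := Finset.mem_range.1 hi
    omega
  · rw [Polynomial.eval₂_add, Polynomial.eval₂_pow, Polynomial.eval₂_X, Polynomial.eval₂_finset_sum,
      add_comm]
    rw [← key]
    congr 1
    refine Finset.sum_congr rfl (fun i _ => ?_)
    rw [Polynomial.eval₂_mul, Polynomial.eval₂_C, Polynomial.eval₂_pow, Polynomial.eval₂_X]
    rfl

theorem ker_eq (hψ : Function.Injective ψ) (hGW : Function.Injective (GW k r s x y))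
    (tt : Fin r × Fin s → T) (htt : ∀ p, ψ (tt p) = x p.1 ⊗ₜ[k] y p.2) :
    RingHom.ker (aeval tt : ZZ k r s →ₐ[k] T).toRingHom = RingHom.ker (σW k r s).toRingHom := by
  ext z
  rw [RingHom.mem_ker, RingHom.mem_ker]
  change aeval tt z = 0 ↔ σW k r s z = 0
  constructor
  · intro h
    apply hGW
    rw [← ψ_comp x y ψ tt htt, h, map_zero, map_zero]
  · intro h
    apply hψ
    rw [ψ_comp x y ψ tt htt, h, map_zero, map_zero]

end segre

end Groth.Agent.Lib.SegDimH6
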