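import Mathlib
import Groth.Agent.Lib.SegDim5_helper6
import Groth.Agent.Lib.DimFT_helper8

/-!
# Dimension of the polynomial Segre ring `k[X_i Y_j]` (helper6)
-/

set_option autoImplicit false

namespace Groth.Agent.Lib.SegDimH6

open MvPolynomial
open scoped TensorProduct

universe u

section poly

variable (k : Type u) [Field k] (r s : ℕ)

/-- the polynomial ring `k[X, Y]` -/
abbrev VV := MvPolynomial (Fin r ⊕ Fin s) k

/-- `z_{ij} ↦ X_i Y_j` -/
noncomputable def σV : ZZ k r s →ₐ[k] VV k r s :=
  aeval (fun p : Fin r × Fin s => (X (Sum.inl p.1) * X (Sum.inr p.2) : VV k r s))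

theorem σV_eq : σV k r s =
    ((MvPolynomial.tensorEquivSum k (Fin r) (Fin s) k).toAlgHom).comp (σW k r s) := by
  apply MvPolynomial.algHom_ext
  intro p
  rw [σV, aeval_X, AlgHom.comp_apply, σW, aeval_X]
  exact (MvPolynomial.tensorEquivSum_X_tmul_X _ _).symm

theorem ker_σV : RingHom.ker (σV k r s).toRingHom = RingHom.ker (σW k r s).toRingHom := by
  ext z
  rw [RingHom.mem_ker, RingHom.mem_ker]
  change σV k r s z = 0 ↔ σW k r s z = 0
  rw [σV_eq, AlgHom.comp_apply]
  exact (MvPolynomial.tensorEquivSum k (Fin r) (Fin s) k).map_eq_zero_iff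

/-- the weights: `X_i ↦ 1`, `Y_j ↦ -1` -/
def wt : Fin r ⊕ Fin s → ℤ := Sum.elim (fun _ => 1) (fun _ => -1)

theorem σV_isWeightedHomogeneous (z : ZZ k r s) :
    IsWeightedHomogeneous (wt r s) (σV k r s z) 0 := by
  induction z using MvPolynomial.induction_on with
  | C a =>
    rw [algHom_C]
    exact isWeightedHomogeneous_C _ _
  | add p q hp hq =>
    rw [map_add]
    exact hp.add hq
  | mul_X p i hp =>
    rw [map_mul, σV, aeval_X]
    have h1 := (isWeightedHomogeneous_X k (wt r s) (Sum.inl i.1)).mul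
      (isWeightedHomogeneous_X k (wt r s) (Sum.inr i.2))
    have h2 : wt r s (Sum.inl i.1) + wt r s (Sum.inr i.2) = 0 := by simp [wt]
    rw [h2] at h1
    have h3 := hp.mul h1
    rwa [add_zero] at h3

/-- the subalgebra `k[X_i Y_j]` -/
noncomputable def BB : Subalgebra k (VV k r s) := (σV k r s).range

theorem mem_BB_isWeightedHomogeneous {b : VV k r s} (hb : b ∈ BB k r s) :
    IsWeightedHomogeneous (wt r s) b 0 := by
  obtain ⟨z, rfl⟩ := hb
  exact σV_isWeightedHomogeneous k r s z

theorem XY_mem_BB (i : Fin r) (j : Fin s) :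
    (X (Sum.inl i) * X (Sum.inr j) : VV k r s) ∈ BB k r s :=
  ⟨X (i, j), by
    change σV k r s (X (i, j)) = _
    rw [σV, aeval_X]⟩

theorem transcendental_X (i₀ : Fin r) :
    Transcendental (BB k r s) (X (Sum.inl i₀) : VV k r s) := by
  classical
  rintro ⟨p, hp0, hpe⟩
  apply hp0
  refine Polynomial.ext (fun j => ?_)
  rw [Polynomial.coeff_zero]
  rw [Polynomial.aeval_eq_sum_range] at hpe
  by_cases hj : j ∈ Finset.range (p.natDegree + 1)
  · have hterm : ∀ n : ℕ, IsWeightedHomogeneous (wt r s)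
        (p.coeff n • (X (Sum.inl i₀) : VV k r s) ^ n) (n : ℤ) := by
      intro n
      have h1 := (mem_BB_isWeightedHomogeneous k r s (p.coeff n).2).mul
        ((isWeightedHomogeneous_X k (wt r s) (Sum.inl i₀)).pow n)
      have h2 : (0 : ℤ) + n • wt r s (Sum.inl i₀) = (n : ℤ) := by simp [wt]
      rw [h2] at h1
      exact h1
    have h3 := congrArg (weightedHomogeneousComponent (wt r s) (j : ℤ)) hpe
    rw [map_sum, map_zero, Finset.sum_eq_single j] at h3
    · rw [(hterm j).weightedHomogeneousComponent_same] at h3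
      have h4 : ((p.coeff j : BB k r s) : VV k r s) * (X (Sum.inl i₀) : VV k r s) ^ j = 0 := h3
      rcases mul_eq_zero.1 h4 with h5 | h5
      · exact Subtype.ext h5
      · exact absurd h5 (pow_ne_zero _ (X_ne_zero _))
    · intro n _ hn
      refine (hterm n).weightedHomogeneousComponent_ne _ ?_
      exact_mod_cast (Ne.symm hn)
    · intro h
      exact absurd hj h
  · rw [Finset.mem_range, not_lt] at hj
    have hlt : p.natDegree < j := by omega
    exact Polynomial.coeff_eq_zero_of_natDegree_lt hlt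

theorem isAlgebraic_adjoin (i₀ : Fin r) (j₀ : Fin s) :
    Algebra.IsAlgebraic (Algebra.adjoin (BB k r s) ({X (Sum.inl i₀)} : Set (VV k r s)))
      (VV k r s) := by
  set A' := Algebra.adjoin (BB k r s) ({X (Sum.inl i₀)} : Set (VV k r s)) with hA'
  have hX : (X (Sum.inl i₀) : VV k r s) ∈ A' := Algebra.subset_adjoin rfl
  have hB : ∀ b : VV k r s, b ∈ BB k r s → b ∈ A' := by
    intro b hb
    exact A'.algebraMap_mem ⟨b, hb⟩
  have hsm : ∀ (a : A') (v : VV k r s), a • v = (a : VV k r s) * v := fun a v => rfl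
  have hgen : ∀ v : Fin r ⊕ Fin s, IsAlgebraic A' (X v : VV k r s) := by
    intro v
    rcases v with i | j
    · have hy : (X (Sum.inl i₀) * X (Sum.inr j₀) : VV k r s) ∈ A' :=
        hB _ (XY_mem_BB k r s i₀ j₀)
      have hb : (X (Sum.inl i) * X (Sum.inr j₀) * X (Sum.inl i₀) : VV k r s) ∈ A' :=
        A'.mul_mem (hB _ (XY_mem_BB k r s i j₀)) hX
      refine IsAlgebraic.of_smul (y := (⟨_, hy⟩ : A')) ?_ ?_
      · refine mem_nonZeroDivisors_of_ne_zero ?_
        intro h
        have h1 := congrArg (Subtype.val) h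
        exact mul_ne_zero (X_ne_zero _) (X_ne_zero _) h1
      · have : (⟨_, hy⟩ : A') • (X (Sum.inl i) : VV k r s) =
            algebraMap A' (VV k r s) ⟨_, hb⟩ := by
          rw [hsm]
          change _ = X (Sum.inl i) * X (Sum.inr j₀) * X (Sum.inl i₀)
          ring
        rw [this]
        exact isAlgebraic_algebraMap _
    · have hb : (X (Sum.inl i₀) * X (Sum.inr j) : VV k r s) ∈ A' :=
        hB _ (XY_mem_BB k r s i₀ j)
      refine IsAlgebraic.of_smul (y := (⟨_, hX⟩ : A')) ?_ ?_
      · refine mem_nonZeroDivisors_of_ne_zero ?_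
        intro h
        have h1 := congrArg (Subtype.val) h
        exact X_ne_zero _ h1
      · have : (⟨_, hX⟩ : A') • (X (Sum.inr j) : VV k r s) =
            algebraMap A' (VV k r s) ⟨_, hb⟩ := by
          rw [hsm]
          rfl
        rw [this]
        exact isAlgebraic_algebraMap _
  refine ⟨fun v => ?_⟩
  induction v using MvPolynomial.induction_on with
  | C a =>
    have hC : (C a : VV k r s) ∈ A' := hB _ ((BB k r s).algebraMap_mem a)
    have : (C a : VV k r s) = algebraMap A' (VV k r s) ⟨_, hC⟩ := rfl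
    rw [this]
    exact isAlgebraic_algebraMap _
  | add p q hp hq => exact hp.add hq
  | mul_X p i hp => exact hp.mul (hgen i)

end poly

end Groth.Agent.Lib.SegDimH6
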