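import Mathlib
import Groth.Agent.Lib.SegDim7_helper6

/-!
# Dimension of the polynomial Segre ring `k[X_i Y_j]`, part 2 (helper6)
-/

set_option autoImplicit false

namespace Groth.Agent.Lib.SegDimH6

open MvPolynomial Cardinal
open scoped TensorProduct

universe u

section poly

variable (k : Type u) [Field k] (r s : ℕ)

theorem trdeg_BB (hr : 1 ≤ r) (hs : 1 ≤ s) :
    Algebra.trdeg k (BB k r s) + 1 = ((r + s : ℕ) : Cardinal.{u}) := by
  set i₀ : Fin r := ⟨0, hr⟩
  set j₀ : Fin s := ⟨0, hs⟩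
  haveI := isAlgebraic_adjoin k r s i₀ j₀
  have h1 : Algebra.trdeg (BB k r s) (VV k r s) ≤ 1 := by
    have := Algebra.IsAlgebraic.trdeg_le_cardinalMk (BB k r s)
      ({X (Sum.inl i₀)} : Set (VV k r s))
    rwa [Cardinal.mk_singleton] at this
  have h2 : 1 ≤ Algebra.trdeg (BB k r s) (VV k r s) := by
    have hai : AlgebraicIndependent (BB k r s)
        (fun _ : PUnit.{u + 1} => (X (Sum.inl i₀) : VV k r s)) :=
      algebraicIndependent_unique_type_iff.2 (transcendental_X k r s i₀)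
    have := hai.cardinalMk_le_trdeg
    rwa [Cardinal.mk_punit] at this
  have h3 := trdeg_add_eq k (BB k r s) (A := VV k r s)
  rw [le_antisymm h1 h2, MvPolynomial.trdeg_of_isDomain] at h3
  rw [h3]
  simp

theorem dim_BB (hr : 1 ≤ r) (hs : 1 ≤ s) :
    ringKrullDim (BB k r s) = ((r + s - 1 : ℕ) : WithBot ℕ∞) := by
  haveI : Algebra.FiniteType k (BB k r s) :=
    Algebra.FiniteType.of_surjective (σV k r s).rangeRestrict (σV k r s).rangeRestrict_surjective
  obtain ⟨n, -, hn, hdim, -⟩ := Groth.Agent.DimFTH8.exists_dim_eq k (BB k r s)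
  have h1 := trdeg_BB k r s hr hs
  rw [hn] at h1
  have h2 : n + 1 = r + s := by exact_mod_cast h1
  have h3 : n = r + s - 1 := by omega
  rw [hdim, h3]

theorem dim_quot_ker_σW (hr : 1 ≤ r) (hs : 1 ≤ s) :
    ringKrullDim (ZZ k r s ⧸ RingHom.ker (σW k r s).toRingHom) =
      ((r + s - 1 : ℕ) : WithBot ℕ∞) := by
  rw [← ker_σV, ← dim_BB k r s hr hs]
  have hker : RingHom.ker (σV k r s).toRingHom = RingHom.ker (σV k r s).rangeRestrict := by
    ext z
    rw [RingHom.mem_ker, RingHom.mem_ker]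
    change σV k r s z = 0 ↔ (σV k r s).rangeRestrict z = 0
    rw [Subtype.ext_iff]
    rfl
  rw [hker]
  exact ringKrullDim_eq_of_ringEquiv
    (Ideal.quotientKerAlgEquivOfSurjective (σV k r s).rangeRestrict_surjective).toRingEquiv

end poly

end Groth.Agent.Lib.SegDimH6
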