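import Mathlib
import Groth.Agent.Lib.SegDim6_helper6
import Groth.Agent.Lib.SegDim8_helper6

/-!
# Krull dimension of a Segre product (helper6)
-/

set_option autoImplicit false

namespace Groth.Agent.Lib.SegDimH6

open DirectSum MvPolynomial
open scoped TensorProduct

universe u

theorem posLE_pow {k : Type u} [Field k] {R : Type u} [CommRing R] [Algebra k R]
    (𝒜 : ℤ → Submodule k R) {r : ℕ} (x : Fin r → R) (n : ℕ)
    (hP : PosLE 𝒜 (Ideal.span (Set.range x))) :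
    PosLE 𝒜 (Ideal.span (Set.range fun i => x i ^ n)) := by
  intro m hm a ha
  have h1 := hP m hm a ha
  have h2 : Ideal.span (Set.range x) ≤ (Ideal.span (Set.range fun i => x i ^ n)).radical := by
    rw [Ideal.span_le]
    rintro _ ⟨i, rfl⟩
    exact ⟨n, Ideal.subset_span ⟨i, rfl⟩⟩
  exact (Ideal.radical_le_radical_iff.2 h2) h1

theorem main18647 (k : Type u) [Field k] (R : Type u) [CommRing R] [Algebra k R]
    (𝒜 : ℤ → Submodule k R) [GradedAlgebra 𝒜] (hposR : ∀ n : ℤ, n < 0 → 𝒜 n = ⊥)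
    (h0R : 𝒜 0 = Submodule.span k {(1 : R)}) [Algebra.FiniteType k R]
    (S : Type u) [CommRing S] [Algebra k S] (ℬ : ℤ → Submodule k S) [GradedAlgebra ℬ]
    (hposS : ∀ n : ℤ, n < 0 → ℬ n = ⊥) (h0S : ℬ 0 = Submodule.span k {(1 : S)})
    [Algebra.FiniteType k S] (T : Type u) [CommRing T] [Algebra k T] (𝒯 : ℤ → Submodule k T)
    [GradedAlgebra 𝒯] (ψ : T →ₐ[k] TensorProduct k R S) (hψ : Function.Injective ψ)
    (hdegT : ∀ n : ℤ, (𝒯 n).map ψ.toLinearMap =
      Submodule.span k {x : TensorProduct k R S | ∃ a ∈ 𝒜 n, ∃ b ∈ ℬ n, x = a ⊗ₜ[k] b})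
    (r s : ℕ) (hr : ringKrullDim R = r) (hs : ringKrullDim S = s) (h1r : 1 ≤ r) (h1s : 1 ≤ s) :
    ringKrullDim T = ((r + s - 1 : ℕ) : WithBot ℕ∞) := by
  haveI : IsNoetherianRing R := Algebra.FiniteType.isNoetherianRing k R
  haveI : IsNoetherianRing S := Algebra.FiniteType.isNoetherianRing k S
  obtain ⟨eR, x₀, heR, hx₀, hPR⟩ := exists_hsop_same_degree 𝒜 hposR h0R r hr
  obtain ⟨eS, y₀, heS, hy₀, hPS⟩ := exists_hsop_same_degree ℬ hposS h0S s hs
  set e : ℕ := eR * eS with he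
  have hepos : 0 < e := Nat.mul_pos heR heS
  set x : Fin r → R := fun i => x₀ i ^ eS with hxdef
  set y : Fin s → S := fun j => y₀ j ^ eR with hydef
  have hx : ∀ i, x i ∈ 𝒜 (e : ℤ) := by
    intro i
    have h1 := SetLike.pow_mem_graded eS (hx₀ i)
    rw [nsmul_eq_mul] at h1
    have e1 : (eS : ℤ) * (eR : ℤ) = ((eR * eS : ℕ) : ℤ) := by push_cast; ring
    rw [e1] at h1
    exact h1
  have hy : ∀ j, y j ∈ ℬ (e : ℤ) := by
    intro j
    have h1 := SetLike.pow_mem_graded eR (hy₀ j)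
    rw [nsmul_eq_mul] at h1
    have e1 : (eR : ℤ) * (eS : ℤ) = ((eR * eS : ℕ) : ℤ) := by push_cast; ring
    rw [e1] at h1
    exact h1
  have hPx : PosLE 𝒜 (Ideal.span (Set.range x)) := posLE_pow 𝒜 x₀ eS hPR
  have hPy : PosLE ℬ (Ideal.span (Set.range y)) := posLE_pow ℬ y₀ eR hPS
  have hintR := isIntegral_aeval 𝒜 hposR h0R hepos x hx hPx
  have hintS := isIntegral_aeval ℬ hposS h0S hepos y hy hPy
  have hinjR := aeval_injective_of_dim x hintR hr
  have hinjS := aeval_injective_of_dim y hintS hs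
  have hGWint : (GW k r s x y).toRingHom.IsIntegral :=
    map_isIntegral (aeval x) (aeval y) hintR hintS
  have hGWinj : Function.Injective (GW k r s x y) :=
    map_injective (aeval x) (aeval y) hinjR hinjS
  obtain ⟨tt, htt⟩ := exists_tt 𝒜 ℬ x y 𝒯 ψ hdegT hx hy
  have hf := f_isIntegral 𝒜 ℬ x y 𝒯 ψ hdegT hψ hepos.ne' hx hy hGWint tt htt
  have hker := ker_eq x y ψ hψ hGWinj tt htt
  rw [dim_eq_of_isIntegral _ hf, hker]
  exact dim_quot_ker_σW k r s h1r h1s

end Groth.Agent.Lib.SegDimH6
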