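import Mathlib
import Groth.Prelude.Def_GrLC
import Groth.Prelude.Def_GrSeg
import Groth.Agent.Lib.SegAcyc2_helper1

/-! The torsion of a Segre product of two graded modules with respect to the irrelevant ideal of
the Segre ring (helper1).  APPEND-ONLY once landed. -/

set_option autoImplicit false

namespace Groth.Agent.Lib.SegGamH1

open scoped TensorProduct
open DirectSum GrLC Groth.Agent.Lib.SegreH3 Groth.Agent.Lib.SegF1H1 Groth.Agent.Lib.SegF2H1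
  Groth.Agent.Lib.TCrdH1 Groth.Agent.Lib.DivH1 Groth.Agent.Lib.GrAcycH1
  Groth.Agent.Lib.SegTorsH1 Groth.Agent.Lib.GrXferH1 Groth.Agent.Lib.GrLES1H1
  Groth.Agent.Lib.GrLES2H1 Groth.Agent.Lib.SegAcycH1 Groth.Agent.Lib.DVecH1
  Groth.Agent.Lib.BigResH1 Groth.Agent.Lib.SegAcyc2H1

universe u

variable {k : Type u} [Field k]
  {R : Type u} [CommRing R] [Algebra k R] {𝒜 : ℤ → Submodule k R} [GradedAlgebra 𝒜]
  {S : Type u} [CommRing S] [Algebra k S] {ℬ : ℤ → Submodule k S} [GradedAlgebra ℬ]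
  {T : Type u} [CommRing T] [Algebra k T] {𝒯 : ℤ → Submodule k T} [GradedAlgebra 𝒯]
  {ψ : T →ₐ[k] R ⊗[k] S}

/-! ### vanishing of the torsion of a tensor product of torsion-free modules -/
section tors

variable {X : Type u} [AddCommGroup X] [Module R X] [Module k X] [IsScalarTower k R X]
  {Y : Type u} [AddCommGroup Y] [Module S Y] [Module k Y] [IsScalarTower k S Y]

theorem imT_bot_eq (z : X ⊗[k] Y) (hz : z ∈ imT Y (⊥ : Submodule k X)) : z = 0 := by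
  have h : imT Y (⊥ : Submodule k X) ≤ ⊥ := Submodule.span_le.2 (by
    rintro _ ⟨x, hx, y, rfl⟩
    rw [(Submodule.mem_bot k).1 hx, TensorProduct.zero_tmul]
    exact Submodule.zero_mem _)
  exact (Submodule.mem_bot k).1 (h hz)

theorem exists_common_exp (w : X ⊗[k] Y) (g : S) (fs : List R)
    (h : ∀ f ∈ fs, ∃ a b : ℕ, (f ^ a) ⊗ₜ[k] (g ^ b) ∈ annT w) :
    ∃ B : ℕ, ∀ f ∈ fs, ∃ a : ℕ, (f ^ a) ⊗ₜ[k] (g ^ B) ∈ annT w := by
  induction fs with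
  | nil => exact ⟨0, fun f hf => by simp at hf⟩
  | cons f₀ fs ih =>
    obtain ⟨B', hB'⟩ := ih (fun f hf => h f (List.mem_cons_of_mem _ hf))
    obtain ⟨a₀, b₀, h₀⟩ := h f₀ List.mem_cons_self
    refine ⟨b₀ + B', fun f hf => ?_⟩
    rcases List.mem_cons.1 hf with hff | hf'
    · refine ⟨a₀, ?_⟩
      have e : (f ^ a₀) ⊗ₜ[k] (g ^ (b₀ + B')) =
          ((f ^ a₀) ⊗ₜ[k] (g ^ b₀)) * ((1 : R) ⊗ₜ[k] (g ^ B')) := by
        rw [Algebra.TensorProduct.tmul_mul_tmul, mul_one, pow_add]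
      rw [e, hff]
      exact Ideal.mul_mem_right _ _ h₀
    · obtain ⟨a, ha⟩ := hB' f hf'
      refine ⟨a, ?_⟩
      have e : (f ^ a) ⊗ₜ[k] (g ^ (b₀ + B')) =
          ((f ^ a) ⊗ₜ[k] (g ^ B')) * ((1 : R) ⊗ₜ[k] (g ^ b₀)) := by
        rw [Algebra.TensorProduct.tmul_mul_tmul, mul_one, pow_add, mul_comm]
      rw [e]
      exact Ideal.mul_mem_right _ _ ha

theorem pow_tmul_mem_annT (hT : GrSeg.IsSegreRing 𝒜 ℬ 𝒯 ψ) {mT : Ideal T}
    (hmT : mT = Ideal.span (⋃ n ∈ Set.Ioi (0 : ℤ), (𝒯 n : Set T))) {w : X ⊗[k] Y} {c : ℕ}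
    (hc : ∀ t ∈ mT ^ c, GrSeg.act k R S X Y (ψ t) w = 0) {d e : ℕ} (hd : 0 < d) (he : 0 < e)
    {f : R} (hf : f ∈ 𝒜 (d : ℤ)) {g : S} (hg : g ∈ ℬ (e : ℤ)) :
    ((f ^ e) ^ c) ⊗ₜ[k] ((g ^ d) ^ c) ∈ annT w := by
  obtain ⟨t, htm, ht⟩ := exists_t hT hmT hd he hf hg
  have h1 := hc (t ^ c) (Ideal.pow_mem_pow htm c)
  rw [map_pow, ht, Algebra.TensorProduct.tmul_pow] at h1
  exact h1

theorem kill_left (fs : List R)
    (hX : ∀ x : X, (∀ f ∈ fs, ∃ n : ℕ, f ^ n • x = 0) → x = 0)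
    {w : X ⊗[k] Y} {b : S} (h : ∀ f ∈ fs, ∃ a : ℕ, (f ^ a) ⊗ₜ[k] b ∈ annT w) :
    GrSeg.act k R S X Y ((1 : R) ⊗ₜ[k] b) w = 0 := by
  have hone : LinearMap.lsmul S Y (1 : S) = LinearMap.id := by
    ext y
    simp
  have h1 : ∀ f ∈ fs, GrSeg.act k R S X Y ((1 : R) ⊗ₜ[k] b) w ∈
      imT Y ((gam (Ideal.span {f}) X).restrictScalars k) := by
    intro f hf
    obtain ⟨a, ha⟩ := h f hf
    have e1 : ((f ^ a) ⊗ₜ[k] (1 : S)) * ((1 : R) ⊗ₜ[k] b) = (f ^ a) ⊗ₜ[k] b := by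
      rw [Algebra.TensorProduct.tmul_mul_tmul, mul_one, one_mul]
    have h2 : GrSeg.act k R S X Y ((f ^ a) ⊗ₜ[k] (1 : S))
        (GrSeg.act k R S X Y ((1 : R) ⊗ₜ[k] b) w) = 0 := by
      have h3 := ha
      rw [mem_annT, ← e1, act_mul, LinearMap.comp_apply] at h3
      exact h3
    rw [act_tmul_eq, hone, tmap_id_right, TCrdH1.map_eq_zero_iff] at h2
    refine imT_mono ?_ h2
    intro x hx
    have hx' : (f ^ a) • x = 0 := hx
    show x ∈ gam (Ideal.span {f}) X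
    rw [mem_gam_span_singleton]
    exact ⟨a, hx'⟩
  have h3 := mem_imT_gam_list fs h1
  have h4 : (gam (Ideal.span {f | f ∈ fs}) X).restrictScalars k ≤ ⊥ := by
    intro x hx
    have hx' : x ∈ gam (Ideal.span {f | f ∈ fs}) X := hx
    rw [mem_gam_span_list] at hx'
    exact (Submodule.mem_bot k).2 (hX x hx')
  exact imT_bot_eq _ (imT_mono h4 h3)

theorem eq_zero_of_kill_right (gs : List S)
    (hY : ∀ y : Y, (∀ g ∈ gs, ∃ n : ℕ, g ^ n • y = 0) → y = 0)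
    {w : X ⊗[k] Y}
    (h : ∀ g ∈ gs, ∃ B : ℕ, GrSeg.act k R S X Y ((1 : R) ⊗ₜ[k] (g ^ B)) w = 0) : w = 0 := by
  have hone : LinearMap.lsmul R X (1 : R) = LinearMap.id := by
    ext x
    simp
  have h1 : ∀ g ∈ gs, TensorProduct.comm k X Y w ∈
      imT X ((gam (Ideal.span {g}) Y).restrictScalars k) := by
    intro g hg
    obtain ⟨B, hB⟩ := h g hg
    rw [act_tmul_eq, hone] at hB
    have h2 : TensorProduct.map ((LinearMap.lsmul S Y (g ^ B)).restrictScalars k)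
        (LinearMap.id : X →ₗ[k] X) (TensorProduct.comm k X Y w) = 0 := by
      rw [TensorProduct.map_comm]
      have e : TensorProduct.map (LinearMap.id : X →ₗ[k] X)
          ((LinearMap.lsmul S Y (g ^ B)).restrictScalars k) w = 0 := hB
      rw [e, map_zero]
    rw [TCrdH1.map_eq_zero_iff] at h2
    refine imT_mono ?_ h2
    intro y hy
    have hy' : (g ^ B) • y = 0 := hy
    show y ∈ gam (Ideal.span {g}) Y
    rw [mem_gam_span_singleton]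
    exact ⟨B, hy'⟩
  have h3 := mem_imT_gam_list gs h1
  have h4 : (gam (Ideal.span {g | g ∈ gs}) Y).restrictScalars k ≤ ⊥ := by
    intro y hy
    have hy' : y ∈ gam (Ideal.span {g | g ∈ gs}) Y := hy
    rw [mem_gam_span_list] at hy'
    exact (Submodule.mem_bot k).2 (hY y hy')
  have h5 := imT_bot_eq _ (imT_mono h4 h3)
  exact (TensorProduct.comm k X Y).injective (by rw [h5, map_zero])

theorem eq_zero_of_mem_TorsT (hT : GrSeg.IsSegreRing 𝒜 ℬ 𝒯 ψ) {mT : Ideal T}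
    (hmT : mT = Ideal.span (⋃ n ∈ Set.Ioi (0 : ℤ), (𝒯 n : Set T)))
    (fs : List R) (hfs : ∀ f ∈ fs, ∃ d : ℕ, 0 < d ∧ f ∈ 𝒜 (d : ℤ))
    (gs : List S) (hgs : ∀ g ∈ gs, ∃ e : ℕ, 0 < e ∧ g ∈ ℬ (e : ℤ))
    (hX : ∀ x : X, (∀ f ∈ fs, ∃ n : ℕ, f ^ n • x = 0) → x = 0)
    (hY : ∀ y : Y, (∀ g ∈ gs, ∃ n : ℕ, g ^ n • y = 0) → y = 0)
    {w : X ⊗[k] Y} (hw : w ∈ TorsT ψ X Y mT) : w = 0 := by
  obtain ⟨c, hc⟩ := hw
  apply eq_zero_of_kill_right (R := R) gs hY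
  intro g hg
  obtain ⟨e, he, hge⟩ := hgs g hg
  have h1 : ∀ f ∈ fs, ∃ a b : ℕ, (f ^ a) ⊗ₜ[k] (g ^ b) ∈ annT w := by
    intro f hf
    obtain ⟨d, hd, hfd⟩ := hfs f hf
    refine ⟨e * c, d * c, ?_⟩
    rw [pow_mul, pow_mul]
    exact pow_tmul_mem_annT hT hmT hc hd he hfd hge
  obtain ⟨B, hB⟩ := exists_common_exp w g fs h1
  exact ⟨B, kill_left fs hX hB⟩

end tors

/-! ### the torsion of the Segre product -/
section seg

attribute [local instance] kMod kTower gsmulX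

variable (hT : GrSeg.IsSegreRing 𝒜 ℬ 𝒯 ψ)

theorem segrePiece_eq (X : GMod.{u} (toAS 𝒜)) (Y : GMod.{u} (toAS ℬ)) (d : ℤ) :
    GrSeg.segrePiece k X.gr Y.gr d = T2 (pieceK X d) (pieceK Y d) := rfl

theorem quot_no_tors {A : Type u} [CommRing A] {𝒜' : ℤ → AddSubgroup A} [GradedRing 𝒜']
    (a : HomogeneousIdeal 𝒜') (fs : List A)
    (ha' : a.toIdeal = Ideal.span {f | f ∈ fs}) (X : GMod.{u} 𝒜')
    (x' : (quotG 𝒜' X a).carrier) (h : ∀ f ∈ fs, ∃ n : ℕ, f ^ n • x' = 0) : x' = 0 := by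
  obtain ⟨x, rfl⟩ := quotπ_surjective 𝒜' X a x'
  rw [quotπ_eq_zero, ha', mem_gam_span_list]
  intro f hf
  obtain ⟨n, hn⟩ := h f hf
  rw [← map_smul, quotπ_eq_zero, ha', mem_gam_span_list] at hn
  obtain ⟨m, hm⟩ := hn f hf
  exact ⟨m + n, by rw [pow_add, mul_smul]; exact hm⟩

theorem seg_gam_iff (a : HomogeneousIdeal (toAS 𝒜)) (b : HomogeneousIdeal (toAS ℬ))
    {mT : Ideal T}
    (ha : a.toIdeal = Ideal.span (⋃ n ∈ Set.Ioi (0 : ℤ), (𝒜 n : Set R)))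
    (hb : b.toIdeal = Ideal.span (⋃ n ∈ Set.Ioi (0 : ℤ), (ℬ n : Set S)))
    (hmT : mT = Ideal.span (⋃ n ∈ Set.Ioi (0 : ℤ), (𝒯 n : Set T)))
    (fs : List R) (hfs : ∀ f ∈ fs, ∃ d : ℕ, 0 < d ∧ f ∈ 𝒜 (d : ℤ))
    (ha' : a.toIdeal = Ideal.span {f | f ∈ fs})
    (gs : List S) (hgs : ∀ g ∈ gs, ∃ e : ℕ, 0 < e ∧ g ∈ ℬ (e : ℤ))
    (hb' : b.toIdeal = Ideal.span {g | g ∈ gs})
    (X : GMod.{u} (toAS 𝒜)) (Y : GMod.{u} (toAS ℬ)) (d : ℤ) (z : SegM X.gr Y.gr hT)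
    (hz : segι X.gr Y.gr hT z ∈ GrSeg.segrePiece k X.gr Y.gr d) :
    z ∈ gam mT (SegM X.gr Y.gr hT) ↔
      segι X.gr Y.gr hT z ∈ T2 (pieceK X d ⊓ gamK a.toIdeal X) (pieceK Y d) ⊔
        T2 (pieceK X d) (pieceK Y d ⊓ gamK b.toIdeal Y) := by
  constructor
  · intro hzg
    have hw : tmap (quotπ (toAS 𝒜) X a) (quotπ (toAS ℬ) Y b) (segι X.gr Y.gr hT z) ∈
        TorsT ψ (quotG (toAS 𝒜) X a).carrier (quotG (toAS ℬ) Y b).carrier mT := by
      obtain ⟨c, hc⟩ := (mem_gam_seg_iff X.gr Y.gr hT z).1 hzg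
      exact ⟨c, fun t ht => by rw [← tmap_act, hc t ht, map_zero]⟩
    have h0 := eq_zero_of_mem_TorsT hT hmT fs hfs gs hgs (quot_no_tors a fs ha' X)
      (quot_no_tors b gs hb' Y) hw
    have hker : segι X.gr Y.gr hT z ∈
        T2 (gamK a.toIdeal X) (⊤ : Submodule k Y.carrier) ⊔
          T2 (⊤ : Submodule k X.carrier) (gamK b.toIdeal Y) := by
      have h1 := ker_map_eq ((quotπ (toAS 𝒜) X a).restrictScalars k)
        (quotπ_surjective (toAS 𝒜) X a) ((quotπ (toAS ℬ) Y b).restrictScalars k)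
        (quotπ_surjective (toAS ℬ) Y b)
      have h2 : segι X.gr Y.gr hT z ∈ LinearMap.ker (TensorProduct.map
          ((quotπ (toAS 𝒜) X a).restrictScalars k) ((quotπ (toAS ℬ) Y b).restrictScalars k)) :=
        LinearMap.mem_ker.2 h0
      rw [h1] at h2
      have e1 : LinearMap.ker ((quotπ (toAS 𝒜) X a).restrictScalars k) = gamK a.toIdeal X := by
        ext x
        rw [LinearMap.mem_ker]
        exact quotπ_eq_zero (toAS 𝒜) X a x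
      have e2 : LinearMap.ker ((quotπ (toAS ℬ) Y b).restrictScalars k) = gamK b.toIdeal Y := by
        ext y
        rw [LinearMap.mem_ker]
        exact quotπ_eq_zero (toAS ℬ) Y b y
      rw [e1, e2] at h2
      exact h2
    have hbi := biprojW_of_mem 𝒜 ℬ X.gr Y.gr hz
    rw [← hbi]
    obtain ⟨z1, hz1, z2, hz2, e⟩ := Submodule.mem_sup.1 hker
    rw [← e, map_add]
    refine add_mem (Submodule.mem_sup_left ?_) (Submodule.mem_sup_right ?_)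
    · exact map_mem_T2 (proj 𝒜 X.gr d) (proj ℬ Y.gr d)
        (fun x hx => Submodule.mem_inf.2 ⟨proj_mem 𝒜 X.gr d x,
          GrStar4H1.gam_isHomogeneous (toAS 𝒜) X.gr a d hx⟩)
        (fun y _ => proj_mem ℬ Y.gr d y) z1 hz1
    · exact map_mem_T2 (proj 𝒜 X.gr d) (proj ℬ Y.gr d)
        (fun x _ => proj_mem 𝒜 X.gr d x)
        (fun y hy => Submodule.mem_inf.2 ⟨proj_mem ℬ Y.gr d y,
          GrStar4H1.gam_isHomogeneous (toAS ℬ) Y.gr b d hy⟩) z2 hz2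
  · intro h
    rw [mem_gam_seg_iff]
    refine T2_le_TorsT (map_psi_le hT ha hmT) (map_psi_le' hT hb hmT) ?_
    have hle : T2 (pieceK X d ⊓ gamK a.toIdeal X) (pieceK Y d) ⊔
        T2 (pieceK X d) (pieceK Y d ⊓ gamK b.toIdeal Y) ≤
        T2 (gamK a.toIdeal X) (⊤ : Submodule k Y.carrier) ⊔
          T2 (⊤ : Submodule k X.carrier) (gamK b.toIdeal Y) :=
      sup_le_sup (T2_mono inf_le_right le_top) (T2_mono le_top inf_le_right)
    exact hle h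

end seg

end Groth.Agent.Lib.SegGamH1
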