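import Mathlib
import Groth.Prelude.Def_GrLC
import Groth.Prelude.Def_GrSeg
import Groth.Agent.Lib.SegAcyc_helper1
import Groth.Agent.Lib.ART_helper1

/-! The Künneth formula for the local cohomology of a Segre product `M # N`, when `N` carries a
bijective homogeneous element of positive degree: the comparison map (helper1).
APPEND-ONLY once landed. -/

set_option autoImplicit false

namespace Groth.Agent.Lib.SegKunH1

open scoped TensorProduct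
open DirectSum GrLC Groth.Agent.Lib.SegreH3 Groth.Agent.Lib.SegF1H1 Groth.Agent.Lib.SegF2H1
  Groth.Agent.Lib.TCrdH1 Groth.Agent.Lib.DivH1 Groth.Agent.Lib.GrAcycH1
  Groth.Agent.Lib.SegTorsH1 Groth.Agent.Lib.GrXferH1 Groth.Agent.Lib.GrLES1H1
  Groth.Agent.Lib.GrLES2H1 Groth.Agent.Lib.SegAcycH1 Groth.Agent.Lib.ARTH1
  Groth.Agent.Lib.Ver3H1

universe u

variable {k : Type u} [Field k]
  {R : Type u} [CommRing R] [Algebra k R] {𝒜 : ℤ → Submodule k R} [GradedAlgebra 𝒜]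
  {S : Type u} [CommRing S] [Algebra k S] {ℬ : ℤ → Submodule k S} [GradedAlgebra ℬ]
  {T : Type u} [CommRing T] [Algebra k T] {𝒯 : ℤ → Submodule k T} [GradedAlgebra 𝒯]
  {ψ : T →ₐ[k] R ⊗[k] S}

attribute [local instance] kMod kTower gsmulX

variable {N : Type u} [AddCommGroup N] [Module S N] [Module k N] [IsScalarTower k S N]
  (𝒩 : ℤ → AddSubgroup N) [Decomposition 𝒩] [SetLike.GradedSMul ℬ 𝒩]
  (hT : GrSeg.IsSegreRing 𝒜 ℬ 𝒯 ψ)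
  {M : Type u} [AddCommGroup M] [Module R M] [Module k M] [IsScalarTower k R M]
  {ℳ : ℤ → AddSubgroup M} [Decomposition ℳ] [SetLike.GradedSMul 𝒜 ℳ]
  (E : StarInjRes (toAS 𝒜) ℳ)

/-! ### the complex -/

/-- the terms of the complex `E^• # N` -/
noncomputable def cA (i : ℕ) : GMod.{u} (toAS 𝒯) := segA 𝒩 hT (E.X i)

/-- the differentials of the complex `E^• # N` -/
noncomputable def cD (i : ℕ) : (cA 𝒩 hT E i).carrier →ₗ[T] (cA 𝒩 hT E (i + 1)).carrier :=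
  segMap (E.X i).gr (E.X (i + 1)).gr 𝒩 𝒩 hT (E.d i) (E.d_grHom i) LinearMap.id (id_gr 𝒩)

theorem cD_gr (i : ℕ) : IsGrHom (cA 𝒩 hT E i).gr (cA 𝒩 hT E (i + 1)).gr (cD 𝒩 hT E i) :=
  segMap_gr (E.X i).gr (E.X (i + 1)).gr 𝒩 𝒩 hT (E.d i) (E.d_grHom i) LinearMap.id (id_gr 𝒩)

theorem cD_exact (i : ℕ) :
    LinearMap.ker (cD 𝒩 hT E (i + 1)) = LinearMap.range (cD 𝒩 hT E i) :=
  seg_exact_left (E.X (i + 1)).gr (E.X i).gr (E.X (i + 1 + 1)).gr 𝒩 hT (E.d_grHom i)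
    (E.d_grHom (i + 1)) (E.exact_succ i)

/-- the cocycles of the complex -/
noncomputable abbrev cZ (q : ℕ) : GMod.{u} (toAS 𝒯) :=
  ZG (cA 𝒩 hT E) (cD 𝒩 hT E) (cD_gr 𝒩 hT E) q

/-- the inclusion of the cocycles -/
noncomputable abbrev cz (q : ℕ) : (cZ 𝒩 hT E q).carrier →ₗ[T] (cA 𝒩 hT E q).carrier :=
  zinc (cA 𝒩 hT E) (cD 𝒩 hT E) (cD_gr 𝒩 hT E) q

/-- the underlying tensor of a cocycle -/
noncomputable def zeta (q : ℕ) (z : (cZ 𝒩 hT E q).carrier) : (E.X q).carrier ⊗[k] N :=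
  segι (E.X q).gr 𝒩 hT (cz 𝒩 hT E q z)

theorem zeta_zero (q : ℕ) : zeta 𝒩 hT E q 0 = 0 := by
  unfold zeta
  rw [map_zero]
  exact map_zero _

theorem zeta_add (q : ℕ) (z z' : (cZ 𝒩 hT E q).carrier) :
    zeta 𝒩 hT E q (z + z') = zeta 𝒩 hT E q z + zeta 𝒩 hT E q z' := by
  unfold zeta
  rw [map_add]
  exact map_add _ _ _

theorem zeta_smul (q : ℕ) (t : T) (z : (cZ 𝒩 hT E q).carrier) :
    zeta 𝒩 hT E q (t • z) =
      GrSeg.act k R S (E.X q).carrier N (ψ t) (zeta 𝒩 hT E q z) := by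
  unfold zeta
  rw [map_smul]
  exact segι_smul (E.X q).gr 𝒩 hT t _

theorem zeta_injective (q : ℕ) : Function.Injective (zeta 𝒩 hT E q) := by
  intro z z' h
  apply zinc_injective (cA 𝒩 hT E) (cD 𝒩 hT E) (cD_gr 𝒩 hT E) q
  exact segι_injective (E.X q).gr 𝒩 hT h

theorem segι_cD (i : ℕ) (y : (cA 𝒩 hT E i).carrier) :
    segι (E.X (i + 1)).gr 𝒩 hT (cD 𝒩 hT E i y) =
      tmap (E.d i) (LinearMap.id : N →ₗ[S] N) (segι (E.X i).gr 𝒩 hT y) := rfl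

theorem d_zeta (q : ℕ) (z : (cZ 𝒩 hT E q).carrier) :
    tmap (E.d q) (LinearMap.id : N →ₗ[S] N) (zeta 𝒩 hT E q z) = 0 := by
  have h1 := D_zinc (cA 𝒩 hT E) (cD 𝒩 hT E) (cD_gr 𝒩 hT E) q z
  have h2 := congrArg (segι (E.X (q + 1)).gr 𝒩 hT) h1
  rw [segι_cD] at h2
  exact h2.trans (map_zero _)

/-! ### torsion -/

variable (a' : HomogeneousIdeal (toAS 𝒜)) (a : HomogeneousIdeal (toAS 𝒯))
  (htors : ∀ (X : GMod.{u} (toAS 𝒜)) (z : SegM X.gr 𝒩 hT),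
    z ∈ gam a.toIdeal (SegM X.gr 𝒩 hT) ↔
      segι X.gr 𝒩 hT z ∈ imT N ((gam a'.toIdeal X.carrier).restrictScalars k))

include htors in
theorem zeta_mem (q : ℕ) (z : ↥(gam a.toIdeal (cZ 𝒩 hT E q).carrier)) :
    zeta 𝒩 hT E q z.1 ∈ imT N ((E.cocyc a' q).restrictScalars k) := by
  have h1 : cz 𝒩 hT E q z.1 ∈ gam a.toIdeal (cA 𝒩 hT E q).carrier :=
    map_mem_gam (cz 𝒩 hT E q) z.2
  have h2 : zeta 𝒩 hT E q z.1 ∈ imT N ((gam a'.toIdeal (E.X q).carrier).restrictScalars k) :=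
    (htors (E.X q) (cz 𝒩 hT E q z.1)).1 h1
  have h3 : zeta 𝒩 hT E q z.1 ∈ imT N ((LinearMap.ker (E.d q)).restrictScalars k) := by
    have h4 := d_zeta 𝒩 hT E q z.1
    rw [tmap_id_right, TCrdH1.map_eq_zero_iff] at h4
    exact imT_mono (fun x hx => hx) h4
  refine imT_mono ?_ (mem_imT_inf h2 h3)
  intro x hx
  show x ∈ gam a'.toIdeal (E.X q).carrier ⊓ LinearMap.ker (E.d q)
  exact Submodule.mem_inf.2 ⟨(Submodule.mem_inf.1 hx).1, (Submodule.mem_inf.1 hx).2⟩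

theorem sub_injective (q : ℕ) : Function.Injective
    (tmap (k := k) (E.cocyc a' q).subtype (LinearMap.id : N →ₗ[S] N)) :=
  tmap_injective (Submodule.injective_subtype _) Function.injective_id

include htors in
theorem exists_w (q : ℕ) (z : ↥(gam a.toIdeal (cZ 𝒩 hT E q).carrier)) :
    ∃ w : ↥(E.cocyc a' q) ⊗[k] N,
      tmap (E.cocyc a' q).subtype (LinearMap.id : N →ₗ[S] N) w = zeta 𝒩 hT E q z.1 :=
  exists_preimage_sub (E.cocyc a' q) (zeta_mem 𝒩 hT E a' a htors q z)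

/-- the lift of a torsion cocycle to `Z ⊗ N` -/
noncomputable def lw (q : ℕ) (z : ↥(gam a.toIdeal (cZ 𝒩 hT E q).carrier)) :
    ↥(E.cocyc a' q) ⊗[k] N := (exists_w 𝒩 hT E a' a htors q z).choose

theorem lw_spec (q : ℕ) (z : ↥(gam a.toIdeal (cZ 𝒩 hT E q).carrier)) :
    tmap (E.cocyc a' q).subtype (LinearMap.id : N →ₗ[S] N) (lw 𝒩 hT E a' a htors q z) =
      zeta 𝒩 hT E q z.1 := (exists_w 𝒩 hT E a' a htors q z).choose_spec

theorem lw_unique (q : ℕ) (z : ↥(gam a.toIdeal (cZ 𝒩 hT E q).carrier))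
    (w : ↥(E.cocyc a' q) ⊗[k] N)
    (h : tmap (E.cocyc a' q).subtype (LinearMap.id : N →ₗ[S] N) w = zeta 𝒩 hT E q z.1) :
    lw 𝒩 hT E a' a htors q z = w :=
  sub_injective E a' q ((lw_spec 𝒩 hT E a' a htors q z).trans h.symm)

/-! ### the comparison map on torsion cocycles -/

variable {H : Type u} [AddCommGroup H] [Module R H] [Module k H] [IsScalarTower k R H]
  (q : ℕ) (toH : ↥(E.cocyc a' q) →ₗ[R] H)

/-- the comparison map on torsion cocycles -/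
noncomputable def Xi : ↥(gam a.toIdeal (cZ 𝒩 hT E q).carrier) →+ H ⊗[k] N where
  toFun z := tmap toH (LinearMap.id : N →ₗ[S] N) (lw 𝒩 hT E a' a htors q z)
  map_zero' := by
    rw [lw_unique 𝒩 hT E a' a htors q 0 0 (by rw [map_zero]; exact (zeta_zero 𝒩 hT E q).symm),
      map_zero]
  map_add' z z' := by
    rw [lw_unique 𝒩 hT E a' a htors q (z + z')
      (lw 𝒩 hT E a' a htors q z + lw 𝒩 hT E a' a htors q z')
      (by rw [map_add, lw_spec, lw_spec]; exact (zeta_add 𝒩 hT E q z.1 z'.1).symm), map_add]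

theorem Xi_spec (z : ↥(gam a.toIdeal (cZ 𝒩 hT E q).carrier)) (w : ↥(E.cocyc a' q) ⊗[k] N)
    (h : tmap (E.cocyc a' q).subtype (LinearMap.id : N →ₗ[S] N) w = zeta 𝒩 hT E q z.1) :
    Xi 𝒩 hT E a' a htors q toH z = tmap toH (LinearMap.id : N →ₗ[S] N) w := by
  show tmap toH (LinearMap.id : N →ₗ[S] N) (lw 𝒩 hT E a' a htors q z) = _
  rw [lw_unique 𝒩 hT E a' a htors q z w h]

theorem Xi_smul (t : T) (z : ↥(gam a.toIdeal (cZ 𝒩 hT E q).carrier)) :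
    Xi 𝒩 hT E a' a htors q toH (t • z) =
      GrSeg.act k R S H N (ψ t) (Xi 𝒩 hT E a' a htors q toH z) := by
  have h1 : tmap (E.cocyc a' q).subtype (LinearMap.id : N →ₗ[S] N)
      (GrSeg.act k R S ↥(E.cocyc a' q) N (ψ t) (lw 𝒩 hT E a' a htors q z)) =
      zeta 𝒩 hT E q (t • z).1 := by
    rw [tmap_act, lw_spec]
    exact (zeta_smul 𝒩 hT E q t z.1).symm
  rw [Xi_spec 𝒩 hT E a' a htors q toH (t • z) _ h1, tmap_act]
  rfl

theorem act_algebraMap {V : Type u} [AddCommGroup V] [Module R V] [Module k V]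
    [IsScalarTower k R V] (c : k) (v : V ⊗[k] N) :
    GrSeg.act k R S V N (ψ (algebraMap k T c)) v = c • v := by
  rw [AlgHom.commutes, Algebra.algebraMap_eq_smul_one, map_smul, LinearMap.smul_apply, act_one]
  rfl

/-! ### the kernel -/

theorem bdry_lift (n : ℕ) (toH : ↥(E.cocyc a' (n + 1)) →ₗ[R] H)
    (hker : ∀ z : ↥(E.cocyc a' (n + 1)),
      toH z = 0 ↔ (z : (E.X (n + 1)).carrier) ∈ E.cobdy a' (n + 1))
    {v : (E.X n).carrier ⊗[k] N}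
    (hv : v ∈ imT N ((gam a'.toIdeal (E.X n).carrier).restrictScalars k)) :
    ∃ w' : ↥(E.cocyc a' (n + 1)) ⊗[k] N,
      tmap (E.cocyc a' (n + 1)).subtype (LinearMap.id : N →ₗ[S] N) w' =
        tmap (E.d n) (LinearMap.id : N →ₗ[S] N) v ∧
      tmap toH (LinearMap.id : N →ₗ[S] N) w' = 0 := by
  unfold imT at hv
  induction hv using Submodule.span_induction with
  | mem w hw =>
    obtain ⟨x, hx, y, rfl⟩ := hw
    have hdx : E.d n x ∈ E.cocyc a' (n + 1) :=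
      Submodule.mem_inf.2 ⟨map_mem_gam (E.d n) hx, LinearMap.mem_ker.2 (d_d E n x)⟩
    refine ⟨(⟨E.d n x, hdx⟩ : ↥(E.cocyc a' (n + 1))) ⊗ₜ[k] y, rfl, ?_⟩
    rw [tmap_tmul, (hker ⟨E.d n x, hdx⟩).2 ((mem_cobdy_succ a' E n _).2 ⟨x, hx, rfl⟩),
      TensorProduct.zero_tmul]
  | zero => exact ⟨0, by rw [map_zero, map_zero], map_zero _⟩
  | add z₁ z₂ _ _ h₁ h₂ =>
    obtain ⟨w₁, e₁, f₁⟩ := h₁
    obtain ⟨w₂, e₂, f₂⟩ := h₂
    exact ⟨w₁ + w₂, by rw [map_add, map_add, e₁, e₂], by rw [map_add, f₁, f₂, add_zero]⟩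
  | smul c z₁ _ h₁ =>
    obtain ⟨w₁, e₁, f₁⟩ := h₁
    exact ⟨c • w₁, by rw [map_smul, map_smul, e₁], by rw [map_smul, f₁, smul_zero]⟩

theorem bdry_desc (n : ℕ) (toH : ↥(E.cocyc a' (n + 1)) →ₗ[R] H)
    (hker : ∀ z : ↥(E.cocyc a' (n + 1)),
      toH z = 0 ↔ (z : (E.X (n + 1)).carrier) ∈ E.cobdy a' (n + 1))
    {w : ↥(E.cocyc a' (n + 1)) ⊗[k] N}
    (hw : w ∈ imT N ((LinearMap.ker toH).restrictScalars k)) :
    ∃ v : (E.X n).carrier ⊗[k] N,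
      v ∈ imT N ((gam a'.toIdeal (E.X n).carrier).restrictScalars k) ∧
      tmap (E.d n) (LinearMap.id : N →ₗ[S] N) v =
        tmap (E.cocyc a' (n + 1)).subtype (LinearMap.id : N →ₗ[S] N) w := by
  unfold imT at hw
  induction hw using Submodule.span_induction with
  | mem w hw =>
    obtain ⟨b, hb, y, rfl⟩ := hw
    have hb' : toH b = 0 := hb
    obtain ⟨x, hx, hxb⟩ := (mem_cobdy_succ a' E n _).1 ((hker b).1 hb')
    refine ⟨x ⊗ₜ[k] y,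
      tmul_mem_imT (W := (gam a'.toIdeal (E.X n).carrier).restrictScalars k) hx y, ?_⟩
    show E.d n x ⊗ₜ[k] y = (b : (E.X (n + 1)).carrier) ⊗ₜ[k] y
    rw [hxb]
  | zero => exact ⟨0, zero_mem _, by rw [map_zero, map_zero]⟩
  | add z₁ z₂ _ _ h₁ h₂ =>
    obtain ⟨v₁, m₁, e₁⟩ := h₁
    obtain ⟨v₂, m₂, e₂⟩ := h₂
    exact ⟨v₁ + v₂, add_mem m₁ m₂, by rw [map_add, map_add, e₁, e₂]⟩
  | smul c z₁ _ h₁ =>
    obtain ⟨v₁, m₁, e₁⟩ := h₁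
    exact ⟨c • v₁, Submodule.smul_mem _ c m₁, by rw [map_smul, map_smul, e₁]⟩

include htors in
theorem bdry_trunc (n : ℕ) (z : (cZ 𝒩 hT E (n + 1)).carrier) {v₀ : (E.X n).carrier ⊗[k] N}
    (hv₀ : v₀ ∈ imT N ((gam a'.toIdeal (E.X n).carrier).restrictScalars k))
    (hd : tmap (E.d n) (LinearMap.id : N →ₗ[S] N) v₀ = zeta 𝒩 hT E (n + 1) z) :
    ∃ y : (cA 𝒩 hT E n).carrier, y ∈ gam a.toIdeal (cA 𝒩 hT E n).carrier ∧
      cD 𝒩 hT E n y = cz 𝒩 hT E (n + 1) z := by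
  obtain ⟨F, hF⟩ := exists_finset_sum (E.X (n + 1)).gr 𝒩 hT (cz 𝒩 hT E (n + 1) z)
  have hK : ∑ m ∈ F, biprojW 𝒜 ℬ (E.X n).gr 𝒩 m m v₀ ∈ segK k (E.X n).gr 𝒩 :=
    sum_biproj_mem (E.X n).gr 𝒩 F v₀
  have hTm : ∑ m ∈ F, biprojW 𝒜 ℬ (E.X n).gr 𝒩 m m v₀ ∈
      imT N ((gam a'.toIdeal (E.X n).carrier).restrictScalars k) := by
    refine Submodule.sum_mem _ (fun m _ => ?_)
    exact map_mem_imT (proj 𝒜 (E.X n).gr m) (proj ℬ 𝒩 m)
      (fun x hx => GrStar4H1.gam_isHomogeneous (toAS 𝒜) (E.X n).gr a' m hx) hv₀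
  have hD : tmap (E.d n) (LinearMap.id : N →ₗ[S] N)
      (∑ m ∈ F, biprojW 𝒜 ℬ (E.X n).gr 𝒩 m m v₀) = zeta 𝒩 hT E (n + 1) z := by
    rw [map_sum, Finset.sum_congr rfl (fun m _ => (biproj_tmap (E.X n).gr (E.X (n + 1)).gr 𝒩 𝒩
      (E.d_grHom n) (id_gr 𝒩) m m v₀).symm), hd]
    exact hF.symm
  refine ⟨segMk (E.X n).gr 𝒩 hT _ hK, (htors (E.X n) _).2 hTm, ?_⟩
  apply segι_injective (E.X (n + 1)).gr 𝒩 hT
  exact hD

include htors in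
theorem Xi_ker
    (htoH : ∀ z : ↥(E.cocyc a' q), toH z = 0 ↔ (z : (E.X q).carrier) ∈ E.cobdy a' q)
    (z : ↥(gam a.toIdeal (cZ 𝒩 hT E q).carrier)) :
    Xi 𝒩 hT E a' a htors q toH z = 0 ↔
      Bdry (cA 𝒩 hT E) (cD 𝒩 hT E) (cD_gr 𝒩 hT E) a q z.1 := by
  cases q with
  | zero =>
    show _ ↔ z.1 = 0
    constructor
    · intro h
      have hinjH : Function.Injective toH := by
        rw [injective_iff_map_eq_zero]
        intro x hx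
        have h1 := (htoH x).1 hx
        exact Subtype.ext ((mem_cobdy_zero a' E _).1 h1)
      have h2 : lw 𝒩 hT E a' a htors 0 z = 0 := by
        have hti : Function.Injective (tmap (k := k) toH (LinearMap.id : N →ₗ[S] N)) :=
          tmap_injective hinjH Function.injective_id
        apply hti
        rw [map_zero]
        exact h
      have h3 := lw_spec 𝒩 hT E a' a htors 0 z
      rw [h2, map_zero] at h3
      apply zeta_injective 𝒩 hT E 0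
      rw [← h3, zeta_zero]
    · intro h
      have : z = 0 := Subtype.ext h
      rw [this, map_zero]
  | succ n =>
    show _ ↔ ∃ y : (cA 𝒩 hT E n).carrier, y ∈ gam a.toIdeal (cA 𝒩 hT E n).carrier ∧
      cD 𝒩 hT E n y = cz 𝒩 hT E (n + 1) z.1
    constructor
    · intro h
      have h1 : tmap toH (LinearMap.id : N →ₗ[S] N) (lw 𝒩 hT E a' a htors (n + 1) z) = 0 := h
      rw [tmap_id_right, TCrdH1.map_eq_zero_iff] at h1
      obtain ⟨v₀, hv₀, hd⟩ := bdry_desc (S := S) E a' n toH htoH (imT_mono (fun x hx => hx) h1)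
      rw [lw_spec] at hd
      exact bdry_trunc 𝒩 hT E a' a htors n z.1 hv₀ hd
    · rintro ⟨y, hy, hyz⟩
      have hv : segι (E.X n).gr 𝒩 hT y ∈
          imT N ((gam a'.toIdeal (E.X n).carrier).restrictScalars k) := (htors (E.X n) y).1 hy
      obtain ⟨w', e1, e2⟩ := bdry_lift (S := S) E a' n toH htoH hv
      have e3 : tmap (E.cocyc a' (n + 1)).subtype (LinearMap.id : N →ₗ[S] N) w' =
          zeta 𝒩 hT E (n + 1) z.1 := by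
        rw [e1, ← segι_cD, hyz]
        rfl
      rw [Xi_spec 𝒩 hT E a' a htors (n + 1) toH z w' e3, e2]

/-! ### the graded pieces -/

theorem cocyc_homog (x : (E.X q).carrier) (hx : x ∈ (E.cocyc a' q).restrictScalars k) (n : ℤ) :
    proj 𝒜 (E.X q).gr n x ∈ (E.cocyc a' q).restrictScalars k := by
  have h1 : x ∈ gam a'.toIdeal (E.X q).carrier ⊓ LinearMap.ker (E.d q) := hx
  obtain ⟨h2, h3⟩ := Submodule.mem_inf.1 h1
  show proj 𝒜 (E.X q).gr n x ∈ gam a'.toIdeal (E.X q).carrier ⊓ LinearMap.ker (E.d q)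
  exact Submodule.mem_inf.2 ⟨GrStar4H1.gam_isHomogeneous (toAS 𝒜) (E.X q).gr a' n h2,
    GrStarH1.ker_isHomogeneous (E.X q).gr (E.X (q + 1)).gr (E.d_grHom q) n h3⟩

theorem piece_lift (ℋ : ℤ → AddSubgroup H)
    (hℋ1 : ∀ (j : ℤ) (z : ↥(E.cocyc a' q)), (z : (E.X q).carrier) ∈ (E.X q).gr j → toH z ∈ ℋ j)
    (j : ℤ) {v : (E.X q).carrier ⊗[k] N}
    (hv : v ∈ Submodule.span k {w | ∃ x ∈ (E.cocyc a' q).restrictScalars k,
      x ∈ (E.X q).gr j ∧ ∃ y ∈ 𝒩 j, w = x ⊗ₜ[k] y}) :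
    ∃ w' : ↥(E.cocyc a' q) ⊗[k] N,
      tmap (E.cocyc a' q).subtype (LinearMap.id : N →ₗ[S] N) w' = v ∧
      tmap toH (LinearMap.id : N →ₗ[S] N) w' ∈ GrSeg.segrePiece k ℋ 𝒩 j := by
  induction hv using Submodule.span_induction with
  | mem w hw =>
    obtain ⟨x, hx, hxj, y, hy, rfl⟩ := hw
    refine ⟨(⟨x, hx⟩ : ↥(E.cocyc a' q)) ⊗ₜ[k] y, rfl, ?_⟩
    rw [tmap_tmul]
    exact tmul_mem_piece ℋ 𝒩 (hℋ1 j ⟨x, hx⟩ hxj) hy
  | zero => exact ⟨0, map_zero _, by rw [map_zero]; exact zero_mem _⟩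
  | add z₁ z₂ _ _ h₁ h₂ =>
    obtain ⟨w₁, e₁, f₁⟩ := h₁
    obtain ⟨w₂, e₂, f₂⟩ := h₂
    exact ⟨w₁ + w₂, by rw [map_add, e₁, e₂], by rw [map_add]; exact add_mem f₁ f₂⟩
  | smul c z₁ _ h₁ =>
    obtain ⟨w₁, e₁, f₁⟩ := h₁
    exact ⟨c • w₁, by rw [map_smul, e₁], by rw [map_smul]; exact Submodule.smul_mem _ c f₁⟩

include htors in
theorem Xi_mem_piece (ℋ : ℤ → AddSubgroup H)
    (hℋ1 : ∀ (j : ℤ) (z : ↥(E.cocyc a' q)), (z : (E.X q).carrier) ∈ (E.X q).gr j → toH z ∈ ℋ j)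
    (j : ℤ) (z : ↥(gam a.toIdeal (cZ 𝒩 hT E q).carrier)) (hzj : z.1 ∈ (cZ 𝒩 hT E q).gr j) :
    Xi 𝒩 hT E a' a htors q toH z ∈ GrSeg.segrePiece k ℋ 𝒩 j := by
  have h1 : zeta 𝒩 hT E q z.1 ∈ GrSeg.segrePiece k (E.X q).gr 𝒩 j := hzj
  have h3 : biprojW 𝒜 ℬ (E.X q).gr 𝒩 j j (zeta 𝒩 hT E q z.1) = zeta 𝒩 hT E q z.1 :=
    biprojW_of_mem 𝒜 ℬ (E.X q).gr 𝒩 h1
  have h2 := mem_span_homog (E.X q).gr 𝒩 ((E.cocyc a' q).restrictScalars k)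
    (cocyc_homog E a' q) (zeta_mem 𝒩 hT E a' a htors q z) h3
  obtain ⟨w', e1, e2⟩ := piece_lift (S := S) 𝒩 E a' q toH ℋ hℋ1 j h2
  rw [Xi_spec 𝒩 hT E a' a htors q toH z w' e1]
  exact e2

include htors in
theorem piece_surj' (ℋ : ℤ → AddSubgroup H)
    (hℋ2 : ∀ (j : ℤ) (h : H), h ∈ ℋ j →
      ∃ z : ↥(E.cocyc a' q), (z : (E.X q).carrier) ∈ (E.X q).gr j ∧ toH z = h)
    (j : ℤ) {v : H ⊗[k] N} (hv : v ∈ GrSeg.segrePiece k ℋ 𝒩 j) :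
    ∃ z : ↥(gam a.toIdeal (cZ 𝒩 hT E q).carrier), z.1 ∈ (cZ 𝒩 hT E q).gr j ∧
      Xi 𝒩 hT E a' a htors q toH z = v := by
  unfold GrSeg.segrePiece at hv
  induction hv using Submodule.span_induction with
  | mem w hw =>
    obtain ⟨h', hh', y, hy, rfl⟩ := hw
    obtain ⟨x', hx'j, rfl⟩ := hℋ2 j h' hh'
    have hx'2 : (x' : (E.X q).carrier) ∈
        gam a'.toIdeal (E.X q).carrier ⊓ LinearMap.ker (E.d q) := x'.2
    have hpc : (x' : (E.X q).carrier) ⊗ₜ[k] y ∈ GrSeg.segrePiece k (E.X q).gr 𝒩 j :=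
      tmul_mem_piece (E.X q).gr 𝒩 hx'j hy
    have hs : cD 𝒩 hT E q (segMk (E.X q).gr 𝒩 hT _ (piece_le_segK (E.X q).gr 𝒩 j hpc)) = 0 := by
      apply segι_injective (E.X (q + 1)).gr 𝒩 hT
      show tmap (E.d q) (LinearMap.id : N →ₗ[S] N) ((x' : (E.X q).carrier) ⊗ₜ[k] y) =
        segι (E.X (q + 1)).gr 𝒩 hT 0
      rw [tmap_tmul, LinearMap.mem_ker.1 (Submodule.mem_inf.1 hx'2).2, TensorProduct.zero_tmul,
        map_zero]
    have hzz : mkZs (cA 𝒩 hT E) (cD 𝒩 hT E) (cD_gr 𝒩 hT E) q _ hs ∈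
        gam a.toIdeal (cZ 𝒩 hT E q).carrier := by
      apply mem_gam_of_injective (cz 𝒩 hT E q)
        (zinc_injective (cA 𝒩 hT E) (cD 𝒩 hT E) (cD_gr 𝒩 hT E) q)
      exact (htors (E.X q) _).2
        (tmul_mem_imT (W := (gam a'.toIdeal (E.X q).carrier).restrictScalars k)
          (Submodule.mem_inf.1 hx'2).1 y)
    refine ⟨⟨_, hzz⟩, hpc, ?_⟩
    exact Xi_spec 𝒩 hT E a' a htors q toH _ (x' ⊗ₜ[k] y) rfl
  | zero => exact ⟨0, zero_mem _, map_zero _⟩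
  | add v₁ v₂ _ _ h₁ h₂ =>
    obtain ⟨z₁, m₁, e₁⟩ := h₁
    obtain ⟨z₂, m₂, e₂⟩ := h₂
    exact ⟨z₁ + z₂, add_mem m₁ m₂, by rw [map_add, e₁, e₂]⟩
  | smul c v₁ _ h₁ =>
    obtain ⟨z₁, m₁, e₁⟩ := h₁
    refine ⟨algebraMap k T c • z₁, ?_, ?_⟩
    · have := GrStarH1.smul_mem_gr (toAS 𝒯) (cZ 𝒩 hT E q).gr
        (SetLike.algebraMap_mem_graded 𝒯 c : algebraMap k T c ∈ toAS 𝒯 0) m₁
      rw [zero_add] at this
      exact this
    · rw [Xi_smul, act_algebraMap, e₁]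

/-! ### the comparison isomorphism -/

include htors in
theorem core (ℋ : ℤ → AddSubgroup H)
    (htoH : ∀ z : ↥(E.cocyc a' q), toH z = 0 ↔ (z : (E.X q).carrier) ∈ E.cobdy a' q)
    (hℋ1 : ∀ (j : ℤ) (z : ↥(E.cocyc a' q)), (z : (E.X q).carrier) ∈ (E.X q).gr j → toH z ∈ ℋ j)
    (hℋ2 : ∀ (j : ℤ) (h : H), h ∈ ℋ j →
      ∃ z : ↥(E.cocyc a' q), (z : (E.X q).carrier) ∈ (E.X q).gr j ∧ toH z = h)
    {HP : Type u} [AddCommGroup HP] [Module T HP] [Module k HP] [IsScalarTower k T HP]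
    (ℋP : ℤ → AddSubgroup HP) [Decomposition ℋP]
    (c : ↥(gam a.toIdeal (cZ 𝒩 hT E q).carrier) →ₗ[T] HP)
    (hc : IsART (cA 𝒩 hT E) (cD 𝒩 hT E) (cD_gr 𝒩 hT E) a q ℋP c) :
    ∃ φ' : HP →ₗ[k] H ⊗[k] N, GrSeg.IsSegreMod ψ ℋ 𝒩 ℋP φ' := by
  obtain ⟨Φ, hΦinj, hΦ⟩ := exists_induced c.toAddMonoidHom (Xi 𝒩 hT E a' a htors q toH) hc.surj
    (fun z => (hc.ker z).trans (Xi_ker 𝒩 hT E a' a htors q toH htoH z).symm)
  have hΦ' : ∀ z, Φ (c z) = Xi 𝒩 hT E a' a htors q toH z := hΦ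
  have hsm : ∀ (t : T) (h : HP), Φ (t • h) = GrSeg.act k R S H N (ψ t) (Φ h) := by
    intro t h
    obtain ⟨z, rfl⟩ := hc.surj h
    rw [← map_smul, hΦ', hΦ', Xi_smul]
  refine ⟨{ toFun := Φ, map_add' := map_add Φ, map_smul' := fun c' h => ?_ },
    ⟨hΦinj, fun j => ?_, hsm⟩⟩
  · rw [RingHom.id_apply, ← algebraMap_smul T c' h, hsm, act_algebraMap]
  · ext v
    constructor
    · rintro ⟨h, hh, rfl⟩
      obtain ⟨z, hzj, rfl⟩ := hc.lift j h hh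
      show Φ (c z) ∈ _
      rw [hΦ']
      exact Xi_mem_piece 𝒩 hT E a' a htors q toH ℋ hℋ1 j z hzj
    · intro hv
      obtain ⟨z, hzj, rfl⟩ := piece_surj' 𝒩 hT E a' a htors q toH ℋ hℋ2 j hv
      exact ⟨c z, hc.mem j z hzj, hΦ' z⟩

/-! ### the Segre module as the module of `0`-cocycles -/
section theta

variable {P : Type u} [AddCommGroup P] [Module T P] [Module k P] [IsScalarTower k T P]
  (𝒬 : ℤ → AddSubgroup P) [Decomposition 𝒬] [SetLike.GradedSMul 𝒯 𝒬]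
  (φ : P →ₗ[k] M ⊗[k] N) (hP : GrSeg.IsSegreMod ψ ℳ 𝒩 𝒬 φ)

include hP in
theorem phi_mem_segK (p : P) : φ p ∈ segK k ℳ 𝒩 := by
  induction p using DirectSum.Decomposition.inductionOn 𝒬 with
  | zero => rw [map_zero]; exact zero_mem _
  | @homogeneous n p =>
    apply piece_le_segK ℳ 𝒩 n
    have h1 : φ p ∈ φ '' (𝒬 n : Set P) := ⟨p, p.2, rfl⟩
    rw [hP.image_piece n] at h1
    exact h1
  | add p p' h h' => rw [map_add]; exact add_mem h h'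

/-- the comparison of a Segre module with the concrete model -/
noncomputable def Phi1 : P →ₗ[T] SegM ℳ 𝒩 hT where
  toFun p := segMk ℳ 𝒩 hT (φ p) (phi_mem_segK 𝒩 𝒬 φ hP p)
  map_add' p p' := by
    apply segι_injective ℳ 𝒩 hT
    show φ (p + p') = φ p + φ p'
    rw [map_add]
  map_smul' t p := by
    apply segι_injective ℳ 𝒩 hT
    rw [RingHom.id_apply, segι_smul]
    exact hP.map_smul t p

/-- the Segre product of the augmentation -/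
noncomputable def Phi2 : SegM ℳ 𝒩 hT →ₗ[T] (cA 𝒩 hT E 0).carrier :=
  segMap ℳ (E.X 0).gr 𝒩 𝒩 hT E.ε E.ε_grHom LinearMap.id (id_gr 𝒩)

theorem ker_cD_zero : LinearMap.ker (cD 𝒩 hT E 0) = LinearMap.range (Phi2 𝒩 hT E) :=
  seg_exact_left (E.X 0).gr ℳ (E.X (0 + 1)).gr 𝒩 hT E.ε_grHom (E.d_grHom 0) E.exact_zero

/-- the map from the Segre module to the `0`-cocycles -/
noncomputable def Phi : P →ₗ[T] (cZ 𝒩 hT E 0).carrier :=
  LinearMap.codRestrict (Zs (cA 𝒩 hT E) (cD 𝒩 hT E) 0)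
    (Phi2 𝒩 hT E ∘ₗ Phi1 𝒩 hT 𝒬 φ hP)
    (fun p => by
      show _ ∈ LinearMap.ker (cD 𝒩 hT E 0)
      rw [ker_cD_zero]
      exact ⟨_, rfl⟩)

theorem Phi_apply (p : P) :
    segι (E.X 0).gr 𝒩 hT (cz 𝒩 hT E 0 (Phi 𝒩 hT E 𝒬 φ hP p)) =
      tmap E.ε (LinearMap.id : N →ₗ[S] N) (φ p) := rfl

theorem Phi_injective : Function.Injective (Phi 𝒩 hT E 𝒬 φ hP) := by
  intro p p' h
  apply hP.injective
  have h1 : tmap E.ε (LinearMap.id : N →ₗ[S] N) (φ p) =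
      tmap E.ε (LinearMap.id : N →ₗ[S] N) (φ p') := by
    rw [← Phi_apply 𝒩 hT E 𝒬 φ hP p, ← Phi_apply 𝒩 hT E 𝒬 φ hP p', h]
  exact tmap_injective E.ε_injective Function.injective_id h1

theorem Phi_surjective : Function.Surjective (Phi 𝒩 hT E 𝒬 φ hP) := by
  intro z
  have hz : cz 𝒩 hT E 0 z ∈ LinearMap.ker (cD 𝒩 hT E 0) :=
    D_zinc (cA 𝒩 hT E) (cD 𝒩 hT E) (cD_gr 𝒩 hT E) 0 z
  rw [ker_cD_zero] at hz
  obtain ⟨s, hs⟩ := hz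
  have hrange : segK k ℳ 𝒩 ≤ LinearMap.range φ := by
    apply iSup_le
    intro n w hw
    have h1 : w ∈ φ '' (𝒬 n : Set P) := by
      rw [hP.image_piece n]
      exact hw
    obtain ⟨p, -, rfl⟩ := h1
    exact ⟨p, rfl⟩
  obtain ⟨p, hp⟩ := hrange (segι_mem ℳ 𝒩 hT s)
  refine ⟨p, ?_⟩
  apply zinc_injective (cA 𝒩 hT E) (cD 𝒩 hT E) (cD_gr 𝒩 hT E) 0
  apply segι_injective (E.X 0).gr 𝒩 hT
  rw [Phi_apply, hp]
  show _ = segι (E.X 0).gr 𝒩 hT (cz 𝒩 hT E 0 z)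
  rw [← hs]
  rfl

theorem Phi_gr : IsGrHom 𝒬 (cZ 𝒩 hT E 0).gr (Phi 𝒩 hT E 𝒬 φ hP) := by
  intro n p hp
  show tmap E.ε (LinearMap.id : N →ₗ[S] N) (φ p) ∈ GrSeg.segrePiece k (E.X 0).gr 𝒩 n
  have h1 : φ p ∈ φ '' (𝒬 n : Set P) := ⟨p, hp, rfl⟩
  rw [hP.image_piece n] at h1
  exact tmap_piece ℳ (E.X 0).gr 𝒩 𝒩 E.ε_grHom (id_gr 𝒩) h1

include hP in
theorem exists_theta : ∃ θ : (cZ 𝒩 hT E 0).carrier ≃ₗ[T] P,
    IsGrHom (cZ 𝒩 hT E 0).gr 𝒬 θ.toLinearMap := by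
  refine ⟨(LinearEquiv.ofBijective (Phi 𝒩 hT E 𝒬 φ hP)
    ⟨Phi_injective 𝒩 hT E 𝒬 φ hP, Phi_surjective 𝒩 hT E 𝒬 φ hP⟩).symm, ?_⟩
  intro n z hz
  obtain ⟨p, hp, rfl⟩ := Ver3H1.piece_surj 𝒬 (cZ 𝒩 hT E 0).gr (Phi 𝒩 hT E 𝒬 φ hP)
    (Phi_gr 𝒩 hT E 𝒬 φ hP) (Phi_surjective 𝒩 hT E 𝒬 φ hP) hz
  have h1 : (LinearEquiv.ofBijective (Phi 𝒩 hT E 𝒬 φ hP)
      ⟨Phi_injective 𝒩 hT E 𝒬 φ hP, Phi_surjective 𝒩 hT E 𝒬 φ hP⟩).symm
      (Phi 𝒩 hT E 𝒬 φ hP p) = p :=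
    LinearEquiv.symm_apply_apply (LinearEquiv.ofBijective (Phi 𝒩 hT E 𝒬 φ hP)
      ⟨Phi_injective 𝒩 hT E 𝒬 φ hP, Phi_surjective 𝒩 hT E 𝒬 φ hP⟩) p
  show (LinearEquiv.ofBijective (Phi 𝒩 hT E 𝒬 φ hP)
      ⟨Phi_injective 𝒩 hT E 𝒬 φ hP, Phi_surjective 𝒩 hT E 𝒬 φ hP⟩).symm
      (Phi 𝒩 hT E 𝒬 φ hP p) ∈ 𝒬 n
  rw [h1]
  exact hp

end theta

end Groth.Agent.Lib.SegKunH1
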