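import Mathlib
import Groth.Prelude.Def_GrLC
import Groth.Prelude.Def_GrSeg
import Groth.Agent.Lib.SegGam_helper1
import Groth.Agent.Lib.DVec3_helper1
import Groth.Agent.Lib.SegKun_helper1
import Groth.Agent.Lib.ART_helper1

/-! The total complex of the Segre product of two *injective resolutions, as an exact complex of
acyclic graded modules over the Segre ring resolving the Segre product of the two modules
(helper1).  APPEND-ONLY once landed. -/

set_option autoImplicit false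

namespace Groth.Agent.Lib.SegTotH1

open scoped TensorProduct
open DirectSum GrLC Groth.Agent.Lib.SegreH3 Groth.Agent.Lib.SegF1H1 Groth.Agent.Lib.SegF2H1
  Groth.Agent.Lib.TCrdH1 Groth.Agent.Lib.DivH1 Groth.Agent.Lib.GrAcycH1
  Groth.Agent.Lib.SegTorsH1 Groth.Agent.Lib.GrXferH1 Groth.Agent.Lib.GrLES1H1
  Groth.Agent.Lib.GrLES2H1 Groth.Agent.Lib.SegAcycH1 Groth.Agent.Lib.DVecH1
  Groth.Agent.Lib.BigResH1 Groth.Agent.Lib.SegAcyc2H1 Groth.Agent.Lib.SegGamH1
  Groth.Agent.Lib.ARTH1 Groth.Agent.Lib.SegKunH1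

universe u

variable {k : Type u} [Field k]
  {R : Type u} [CommRing R] [Algebra k R] {𝒜 : ℤ → Submodule k R} [GradedAlgebra 𝒜]
  {S : Type u} [CommRing S] [Algebra k S] {ℬ : ℤ → Submodule k S} [GradedAlgebra ℬ]
  {T : Type u} [CommRing T] [Algebra k T] {𝒯 : ℤ → Submodule k T} [GradedAlgebra 𝒯]
  {ψ : T →ₐ[k] R ⊗[k] S}

attribute [local instance] kMod kTower gsmulX

variable (hT : GrSeg.IsSegreRing 𝒜 ℬ 𝒯 ψ)
  {M : Type u} [AddCommGroup M] [Module R M] {ℳ : ℤ → AddSubgroup M} [Decomposition ℳ]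
  [SetLike.GradedSMul 𝒜 ℳ] (EM : StarInjRes (toAS 𝒜) ℳ)
  {N : Type u} [AddCommGroup N] [Module S N] {𝒩 : ℤ → AddSubgroup N} [Decomposition 𝒩]
  [SetLike.GradedSMul ℬ 𝒩] (EN : StarInjRes (toAS ℬ) 𝒩)

/-! ### the concrete layer -/

/-- the total differential on the Segre product of the total modules -/
noncomputable def TDs : SegM (bigX EM).gr (bigX EN).gr hT →ₗ[T] SegM (bigX EM).gr (bigX EN).gr hT :=
  segMap (bigX EM).gr (bigX EM).gr (bigX EN).gr (bigX EN).gr hT (xD EM) (xD_gr EM)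
      LinearMap.id (id_gr (bigX EN).gr) +
    segMap (bigX EM).gr (bigX EM).gr (bigX EN).gr (bigX EN).gr hT (xS EM) (xS_gr EM)
      (xD EN) (xD_gr EN)

/-- the projections to total degree -/
noncomputable def TPs (n : ℕ) :
    SegM (bigX EM).gr (bigX EN).gr hT →ₗ[T] SegM (bigX EM).gr (bigX EN).gr hT :=
  ∑ p ∈ Finset.HasAntidiagonal.antidiagonal n,
    segMap (bigX EM).gr (bigX EM).gr (bigX EN).gr (bigX EN).gr hT (xP EM p.1) (xP_gr EM p.1)
      (xP EN p.2) (xP_gr EN p.2)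

theorem segι_TDs (z : SegM (bigX EM).gr (bigX EN).gr hT) :
    segι (bigX EM).gr (bigX EN).gr hT (TDs hT EM EN z) =
      tD (gdE EM) (gdE EN) (segι (bigX EM).gr (bigX EN).gr hT z) := by
  unfold TDs DVecH1.tD
  rw [LinearMap.add_apply, map_add, LinearMap.add_apply]
  rfl

theorem segι_TPs (n : ℕ) (z : SegM (bigX EM).gr (bigX EN).gr hT) :
    segι (bigX EM).gr (bigX EN).gr hT (TPs hT EM EN n z) =
      tπ (gdE EM) (gdE EN) n (segι (bigX EM).gr (bigX EN).gr hT z) := by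
  unfold TPs DVecH1.tπ
  rw [LinearMap.sum_apply, map_sum, LinearMap.sum_apply]
  rfl

/-! ### the graded layer -/

/-- the Segre product of the two total modules -/
noncomputable def Tot : GMod.{u} (toAS 𝒯) := segA (bigX EN).gr hT (bigX EM)

/-- the underlying tensor -/
noncomputable def tU (z : (Tot hT EM EN).carrier) : (bigX EM).carrier ⊗[k] (bigX EN).carrier :=
  segι (bigX EM).gr (bigX EN).gr hT z

theorem tU_injective : Function.Injective (tU hT EM EN) := segι_injective _ _ hT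

theorem tU_zero : tU hT EM EN 0 = 0 := map_zero (segι (bigX EM).gr (bigX EN).gr hT)

theorem tU_add (z z' : (Tot hT EM EN).carrier) :
    tU hT EM EN (z + z') = tU hT EM EN z + tU hT EM EN z' :=
  map_add (segι (bigX EM).gr (bigX EN).gr hT) z z'

theorem tU_smul (t : T) (z : (Tot hT EM EN).carrier) :
    tU hT EM EN (t • z) = GrSeg.act k R S _ _ (ψ t) (tU hT EM EN z) :=
  segι_smul (bigX EM).gr (bigX EN).gr hT t z

theorem tU_mem_segK (z : (Tot hT EM EN).carrier) :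
    tU hT EM EN z ∈ segK k (bigX EM).gr (bigX EN).gr := segι_mem _ _ hT z

/-- build an element from its tensor -/
noncomputable def mkT (ζ : (bigX EM).carrier ⊗[k] (bigX EN).carrier)
    (hζ : ζ ∈ segK k (bigX EM).gr (bigX EN).gr) : (Tot hT EM EN).carrier :=
  segMk (bigX EM).gr (bigX EN).gr hT ζ hζ

theorem tU_mkT (ζ : (bigX EM).carrier ⊗[k] (bigX EN).carrier)
    (hζ : ζ ∈ segK k (bigX EM).gr (bigX EN).gr) : tU hT EM EN (mkT hT EM EN ζ hζ) = ζ := rfl

theorem mem_Tot_gr {d : ℤ} {z : (Tot hT EM EN).carrier} :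
    z ∈ (Tot hT EM EN).gr d ↔ tU hT EM EN z ∈ T2 (AA EM d) (AA EN d) := Iff.rfl

theorem piece_le (d : ℤ) : T2 (AA EM d) (AA EN d) ≤ segK k (bigX EM).gr (bigX EN).gr :=
  piece_le_segK (bigX EM).gr (bigX EN).gr d

/-- the total differential -/
noncomputable def TD : (Tot hT EM EN).carrier →ₗ[T] (Tot hT EM EN).carrier := TDs hT EM EN

/-- the projections to total degree -/
noncomputable def TP (n : ℕ) : (Tot hT EM EN).carrier →ₗ[T] (Tot hT EM EN).carrier :=
  TPs hT EM EN n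

theorem tU_TD (z : (Tot hT EM EN).carrier) :
    tU hT EM EN (TD hT EM EN z) = tD (gdE EM) (gdE EN) (tU hT EM EN z) :=
  segι_TDs hT EM EN z

theorem tU_TP (n : ℕ) (z : (Tot hT EM EN).carrier) :
    tU hT EM EN (TP hT EM EN n z) = tπ (gdE EM) (gdE EN) n (tU hT EM EN z) :=
  segι_TPs hT EM EN n z

theorem TD_gr : IsGrHom (Tot hT EM EN).gr (Tot hT EM EN).gr (TD hT EM EN) := fun d z hz =>
  (mem_Tot_gr hT EM EN).2 (by
    rw [tU_TD]
    exact tD_mem_T2 _ _ (stable_AA EM d) (stable_AA EN d) ((mem_Tot_gr hT EM EN).1 hz))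

theorem TP_gr (n : ℕ) : IsGrHom (Tot hT EM EN).gr (Tot hT EM EN).gr (TP hT EM EN n) :=
  fun d z hz => (mem_Tot_gr hT EM EN).2 (by
    rw [tU_TP]
    exact tπ_mem_T2 _ _ (stable_AA EM d) (stable_AA EN d) n ((mem_Tot_gr hT EM EN).1 hz))

/-- the elements of total degree `n` -/
noncomputable def totS (n : ℕ) : Submodule T (Tot hT EM EN).carrier :=
  LinearMap.ker (LinearMap.id - TP hT EM EN n)

theorem mem_totS {n : ℕ} {z : (Tot hT EM EN).carrier} :
    z ∈ totS hT EM EN n ↔ TP hT EM EN n z = z := by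
  unfold totS
  rw [LinearMap.mem_ker, LinearMap.sub_apply, LinearMap.id_apply, sub_eq_zero, eq_comm]

theorem mem_totS' {n : ℕ} {z : (Tot hT EM EN).carrier} :
    z ∈ totS hT EM EN n ↔ tπ (gdE EM) (gdE EN) n (tU hT EM EN z) = tU hT EM EN z := by
  rw [mem_totS, ← tU_TP]
  exact ⟨fun h => by rw [h], fun h => tU_injective hT EM EN h⟩

theorem totS_homog (n : ℕ) : (totS hT EM EN n).IsHomogeneous (Tot hT EM EN).gr :=
  GrStarH1.ker_isHomogeneous (Tot hT EM EN).gr (Tot hT EM EN).gr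
    (isGrHom_sub _ _ (fun _ _ h => h) (TP_gr hT EM EN n))

theorem TD_mem_totS (n : ℕ) (z : (Tot hT EM EN).carrier) (hz : z ∈ totS hT EM EN n) :
    TD hT EM EN z ∈ totS hT EM EN (n + 1) := by
  rw [mem_totS'] at hz ⊢
  rw [tU_TD, ← tD_tπ_apply, hz]

/-- the part of total degree `n`, as a graded module -/
noncomputable def totA (n : ℕ) : GMod.{u} (toAS 𝒯) :=
  GrStar4H1.subGMod (toAS 𝒯) (Tot hT EM EN).gr (totS hT EM EN n) (totS_homog hT EM EN n)

/-- the differential of the total complex -/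
noncomputable def totD (n : ℕ) :
    (totA hT EM EN n).carrier →ₗ[T] (totA hT EM EN (n + 1)).carrier :=
  (TD hT EM EN).restrict (p := totS hT EM EN n) (q := totS hT EM EN (n + 1))
    (TD_mem_totS hT EM EN n)

/-- the inclusion of the part of total degree `n` -/
noncomputable def tinc (n : ℕ) : (totA hT EM EN n).carrier →ₗ[T] (Tot hT EM EN).carrier :=
  (totS hT EM EN n).subtype

theorem tinc_injective (n : ℕ) : Function.Injective (tinc hT EM EN n) := Subtype.val_injective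

theorem tinc_totD (n : ℕ) (y : (totA hT EM EN n).carrier) :
    tinc hT EM EN (n + 1) (totD hT EM EN n y) = TD hT EM EN (tinc hT EM EN n y) := rfl

theorem tinc_mem (n : ℕ) (y : (totA hT EM EN n).carrier) :
    tinc hT EM EN n y ∈ totS hT EM EN n := y.2

theorem mem_totA_gr {n : ℕ} {d : ℤ} {y : (totA hT EM EN n).carrier} :
    y ∈ (totA hT EM EN n).gr d ↔ tinc hT EM EN n y ∈ (Tot hT EM EN).gr d := Iff.rfl

theorem tinc_gr (n : ℕ) : IsGrHom (totA hT EM EN n).gr (Tot hT EM EN).gr (tinc hT EM EN n) :=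
  fun _ _ h => h

/-- build an element of the part of total degree `n` -/
noncomputable def mkA (n : ℕ) (z : (Tot hT EM EN).carrier) (hz : z ∈ totS hT EM EN n) :
    (totA hT EM EN n).carrier := ⟨z, hz⟩

theorem tinc_mkA (n : ℕ) (z : (Tot hT EM EN).carrier) (hz : z ∈ totS hT EM EN n) :
    tinc hT EM EN n (mkA hT EM EN n z hz) = z := rfl

theorem totD_gr (n : ℕ) :
    IsGrHom (totA hT EM EN n).gr (totA hT EM EN (n + 1)).gr (totD hT EM EN n) :=
  fun d y hy => TD_gr hT EM EN d _ hy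

/-! ### exactness -/

theorem exact_homog (n : ℕ) (d : ℤ) (z : (totA hT EM EN (n + 1)).carrier)
    (hz : z ∈ (totA hT EM EN (n + 1)).gr d) (hdz : totD hT EM EN (n + 1) z = 0) :
    ∃ y, totD hT EM EN n y = z := by
  have h1 : tU hT EM EN (tinc hT EM EN (n + 1) z) ∈ T2 (AA EM d) (AA EN d) :=
    (mem_Tot_gr hT EM EN).1 hz
  have h2 : tπ (gdE EM) (gdE EN) (n + 1) (tU hT EM EN (tinc hT EM EN (n + 1) z)) =
      tU hT EM EN (tinc hT EM EN (n + 1) z) :=
    (mem_totS' hT EM EN).1 (tinc_mem hT EM EN (n + 1) z)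
  have h3 : tD (gdE EM) (gdE EN) (tU hT EM EN (tinc hT EM EN (n + 1) z)) = 0 := by
    rw [← tU_TD, ← tinc_totD, hdz, map_zero, tU_zero]
  have h4 : tU hT EM EN (tinc hT EM EN (n + 1) z) ∈
      (tens (gdE EM) (gdE EN)).Zn (T2 (AA EM d) (AA EN d)) (n + 1) :=
    (tens_mem_Zn (gdE EM) (gdE EN)).2 ⟨h1, h2, h3⟩
  have h5 := tot_exact (gdE EM) (gdE EN) (stable_AA EM d) (stable_AA EN d) (exact_AA EM d)
    (exact_AA EN d) n h4
  obtain ⟨⟨a, ha, hda⟩, -⟩ := (tens_mem_Bn (gdE EM) (gdE EN)).1 h5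
  have ha' : tπ (gdE EM) (gdE EN) n a ∈ T2 (AA EM d) (AA EN d) :=
    tπ_mem_T2 (gdE EM) (gdE EN) (stable_AA EM d) (stable_AA EN d) n ha
  have hs : tπ (gdE EM) (gdE EN) n a ∈ segK k (bigX EM).gr (bigX EN).gr := piece_le EM EN d ha'
  have hm : mkT hT EM EN _ hs ∈ totS hT EM EN n := by
    rw [mem_totS', tU_mkT]
    exact tπ_same_apply (gdE EM) (gdE EN) n a
  refine ⟨mkA hT EM EN n (mkT hT EM EN _ hs) hm, ?_⟩
  apply tinc_injective hT EM EN
  apply tU_injective hT EM EN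
  rw [tinc_totD, tinc_mkA, tU_TD, tU_mkT, tD_tπ_apply, hda, h2]

theorem totD_exact (n : ℕ) :
    LinearMap.ker (totD hT EM EN (n + 1)) = LinearMap.range (totD hT EM EN n) := by
  classical
  apply le_antisymm
  · intro z hz
    have hsum := DirectSum.sum_support_decompose (totA hT EM EN (n + 1)).gr z
    rw [← hsum]
    refine Submodule.sum_mem _ (fun d _ => ?_)
    have hk := GrStarH1.ker_isHomogeneous (totA hT EM EN (n + 1)).gr
      (totA hT EM EN (n + 1 + 1)).gr (totD_gr hT EM EN (n + 1)) d hz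
    obtain ⟨y, hy⟩ := exact_homog hT EM EN n d _ (SetLike.coe_mem _) (LinearMap.mem_ker.1 hk)
    exact ⟨y, hy⟩
  · rintro _ ⟨y, rfl⟩
    rw [LinearMap.mem_ker]
    apply tinc_injective hT EM EN
    apply tU_injective hT EM EN
    rw [tinc_totD, tinc_totD, tU_TD, tU_TD, tD_tD_apply, map_zero, tU_zero]

/-! ### acyclicity -/
section acyc

variable [IsNoetherianRing R] [IsNoetherianRing S] [IsNoetherianRing T]
  (mR : HomogeneousIdeal 𝒜) (mS : HomogeneousIdeal ℬ) (mT : HomogeneousIdeal 𝒯)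
  (hmR : mR.toIdeal = Ideal.span (⋃ n ∈ Set.Ioi (0 : ℤ), (𝒜 n : Set R)))
  (hmS : mS.toIdeal = Ideal.span (⋃ n ∈ Set.Ioi (0 : ℤ), (ℬ n : Set S)))
  (hmT : mT.toIdeal = Ideal.span (⋃ n ∈ Set.Ioi (0 : ℤ), (𝒯 n : Set T)))

include hmR hmS hmT in
theorem Tot_acyc (G : StarInjRes (toAS 𝒯) (Tot hT EM EN).gr) (p : ℕ) (hp : 1 ≤ p) :
    Subsingleton (G.H (idealAS 𝒯 mT) p) := by
  obtain ⟨fs, hfs, hmR'⟩ := exists_gens (toAS 𝒜) mR.toIdeal hmR
  obtain ⟨gs, hgs, hmS'⟩ := exists_gens (toAS ℬ) mS.toIdeal hmS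
  have hfs' : ∀ f ∈ fs, ∃ d : ℕ, 0 < d ∧ f ∈ 𝒜 (d : ℤ) := hfs
  have hgs' : ∀ g ∈ gs, ∃ e : ℕ, 0 < e ∧ g ∈ ℬ (e : ℤ) := hgs
  exact acyc2 hT mR mS mT hmR hmS hmT fs hfs' (bigX EM) (div_bigX EM)
    (fun x hx => by rw [hmR']; exact (mem_gam_span_list fs x).2 hx) gs hgs' (bigX EN)
    (div_bigX EN) (fun y hy => by rw [hmS']; exact (mem_gam_span_list gs y).2 hy) G p hp

/-- the retraction onto the part of total degree `n` -/
noncomputable def tret (n : ℕ) : (Tot hT EM EN).carrier →ₗ[T] (totA hT EM EN n).carrier :=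
  LinearMap.codRestrict (totS hT EM EN n) (TP hT EM EN n) (fun z => by
    rw [mem_totS', tU_TP]
    exact tπ_same_apply (gdE EM) (gdE EN) n _)

theorem tret_gr (n : ℕ) : IsGrHom (Tot hT EM EN).gr (totA hT EM EN n).gr (tret hT EM EN n) :=
  fun d z hz => TP_gr hT EM EN n d z hz

theorem tret_tinc (n : ℕ) (y : (totA hT EM EN n).carrier) :
    tret hT EM EN n (tinc hT EM EN n y) = y :=
  Subtype.ext ((mem_totS hT EM EN).1 y.2)

include hmR hmS hmT in
theorem totA_acyc (n : ℕ) (G : StarInjRes (toAS 𝒯) (totA hT EM EN n).gr) (p : ℕ) (hp : 1 ≤ p) :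
    Subsingleton (G.H (idealAS 𝒯 mT) p) :=
  subsingleton_of_retract (tinc hT EM EN n) (tinc_gr hT EM EN n) (tret hT EM EN n)
    (tret_gr hT EM EN n) (tret_tinc hT EM EN n) (idealAS 𝒯 mT) p
    (fun F => Tot_acyc hT EM EN mR mS mT hmR hmS hmT F p hp) G

end acyc

end Groth.Agent.Lib.SegTotH1
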