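import Mathlib
import Groth.Prelude.Def_GrLC
import Groth.Prelude.Def_GrSeg
import Groth.Agent.Lib.SegTot_helper1

/-! The total complex of the Segre product of two *injective resolutions: the module of
`0`-cocycles is the Segre product of the modules, and the graded local cohomology of the Segre
product is the cohomology of the torsion part of the total complex (helper1).
APPEND-ONLY once landed. -/

set_option autoImplicit false

namespace Groth.Agent.Lib.SegTotH1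

open scoped TensorProduct
open DirectSum GrLC Groth.Agent.Lib.SegreH3 Groth.Agent.Lib.SegF1H1 Groth.Agent.Lib.SegF2H1
  Groth.Agent.Lib.TCrdH1 Groth.Agent.Lib.DivH1 Groth.Agent.Lib.GrAcycH1
  Groth.Agent.Lib.SegTorsH1 Groth.Agent.Lib.GrXferH1 Groth.Agent.Lib.GrLES1H1
  Groth.Agent.Lib.GrLES2H1 Groth.Agent.Lib.SegAcycH1 Groth.Agent.Lib.DVecH1
  Groth.Agent.Lib.BigResH1 Groth.Agent.Lib.SegAcyc2H1 Groth.Agent.Lib.SegGamH1
  Groth.Agent.Lib.ARTH1 Groth.Agent.Lib.SegKunH1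

universe u

variable {k : Type u} [Field k]
  {R : Type u} [CommRing R] [Algebra k R] {𝒜 : ℤ → Submodule k R} [GradedAlgebra 𝒜]
  {S : Type u} [CommRing S] [Algebra k S] {ℬ : ℤ → Submodule k S} [GradedAlgebra ℬ]
  {T : Type u} [CommRing T] [Algebra k T] {𝒯 : ℤ → Submodule k T} [GradedAlgebra 𝒯]
  {ψ : T →ₐ[k] R ⊗[k] S}

attribute [local instance] kMod kTower gsmulX

variable (hT : GrSeg.IsSegreRing 𝒜 ℬ 𝒯 ψ)
  {M : Type u} [AddCommGroup M] [Module R M] {ℳ : ℤ → AddSubgroup M} [Decomposition ℳ]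
  [SetLike.GradedSMul 𝒜 ℳ] (EM : StarInjRes (toAS 𝒜) ℳ)
  {N : Type u} [AddCommGroup N] [Module S N] {𝒩 : ℤ → AddSubgroup N} [Decomposition 𝒩]
  [SetLike.GradedSMul ℬ 𝒩] (EN : StarInjRes (toAS ℬ) 𝒩)

/-! ### the augmentation -/
section aug

/-- the augmentation into the total module -/
noncomputable def uAug : M →ₗ[R] (bigX EM).carrier := xInc EM 0 ∘ₗ EM.ε

theorem uAug_apply (m : M) : uAug EM m = xInc EM 0 (EM.ε m) := rfl

theorem uAug_gr : IsGrHom ℳ (bigX EM).gr (uAug EM) :=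
  fun d m hm => xInc_gr EM 0 d _ (EM.ε_grHom d m hm)

theorem uAug_injective : Function.Injective (uAug EM) :=
  (xInc_injective EM 0).comp EM.ε_injective

theorem uAug_mem_Vn (m : M) : uAug EM m ∈ (gdE EM).Vn 0 := by
  rw [mem_Vn_gdE, uAug_apply, xPrj_xInc_same]

theorem d_uAug (m : M) : (gdE EM).d (uAug EM m) = 0 := by
  show xD EM (xInc EM 0 (EM.ε m)) = 0
  rw [xD_xInc, d_ε, map_zero]

theorem exists_uAug (v : (bigX EM).carrier) (hv : v ∈ (gdE EM).Zn ⊤ 0) :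
    ∃ m, uAug EM m = v := by
  obtain ⟨-, hv2, hv3⟩ := (gdE EM).mem_Zn.1 hv
  have hvi : xInc EM 0 (xPrj EM 0 v) = v := (mem_Vn_gdE EM).1 hv2
  have hdv : xD EM v = 0 := hv3
  have h1 : xPrj EM 0 v ∈ LinearMap.range EM.ε := by
    rw [← EM.exact_zero, LinearMap.mem_ker, ← xPrj_xD_succ, hdv, map_zero]
  obtain ⟨m, hm⟩ := h1
  exact ⟨m, by rw [uAug_apply, hm, hvi]⟩

end aug

/-! ### the Segre product of the modules as the module of `0`-cocycles -/
section theta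

variable [Module k M] [IsScalarTower k R M] [Module k N] [IsScalarTower k S N]

theorem tπ_zero_tmap (w : M ⊗[k] N) :
    tπ (gdE EM) (gdE EN) 0 (tmap (uAug EM) (uAug EN) w) = tmap (uAug EM) (uAug EN) w := by
  induction w using TensorProduct.induction_on with
  | zero => rw [map_zero, map_zero]
  | tmul m n =>
    rw [tmap_tmul, tπ_tmul_of_mem (gdE EM) (gdE EN) (uAug_mem_Vn EM m) (uAug_mem_Vn EN n) 0,
      if_pos rfl]
  | add w w' h h' => rw [map_add, map_add, h, h']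

theorem tD_tmap (w : M ⊗[k] N) :
    tD (gdE EM) (gdE EN) (tmap (uAug EM) (uAug EN) w) = 0 := by
  induction w using TensorProduct.induction_on with
  | zero => rw [map_zero, map_zero]
  | tmul m n =>
    rw [tmap_tmul, tD_tmul, d_uAug, d_uAug, TensorProduct.zero_tmul, TensorProduct.tmul_zero,
      add_zero]
  | add w w' h h' => rw [map_add, map_add, h, h', add_zero]

/-- the Segre product of the augmentations -/
noncomputable def Phi2 : SegM ℳ 𝒩 hT →ₗ[T] (Tot hT EM EN).carrier :=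
  segMap ℳ (bigX EM).gr 𝒩 (bigX EN).gr hT (uAug EM) (uAug_gr EM) (uAug EN) (uAug_gr EN)

theorem tU_Phi2 (s : SegM ℳ 𝒩 hT) :
    tU hT EM EN (Phi2 hT EM EN s) = tmap (uAug EM) (uAug EN) (segι ℳ 𝒩 hT s) := rfl

variable {P : Type u} [AddCommGroup P] [Module T P] [Module k P] [IsScalarTower k T P]
  (𝒬 : ℤ → AddSubgroup P) [Decomposition 𝒬] [SetLike.GradedSMul 𝒯 𝒬]
  (φ : P →ₗ[k] M ⊗[k] N) (hP : GrSeg.IsSegreMod ψ ℳ 𝒩 𝒬 φ)

/-- the map from the Segre module to the part of total degree `0` -/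
noncomputable def PhiA : P →ₗ[T] (totA hT EM EN 0).carrier :=
  LinearMap.codRestrict (totS hT EM EN 0) (Phi2 hT EM EN ∘ₗ Phi1 𝒩 hT 𝒬 φ hP) (fun p => by
    rw [mem_totS']
    exact tπ_zero_tmap EM EN (segι ℳ 𝒩 hT (Phi1 𝒩 hT 𝒬 φ hP p)))

/-- the map from the Segre module to the `0`-cocycles of the total complex -/
noncomputable def PhiZ :
    P →ₗ[T] (ZG (totA hT EM EN) (totD hT EM EN) (totD_gr hT EM EN) 0).carrier :=
  LinearMap.codRestrict (Zs (totA hT EM EN) (totD hT EM EN) 0) (PhiA hT EM EN 𝒬 φ hP)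
    (fun p => by
      show _ ∈ LinearMap.ker (totD hT EM EN 0)
      rw [LinearMap.mem_ker]
      apply tinc_injective hT EM EN
      apply tU_injective hT EM EN
      rw [tinc_totD, tU_TD, map_zero, tU_zero]
      exact tD_tmap EM EN (segι ℳ 𝒩 hT (Phi1 𝒩 hT 𝒬 φ hP p)))

theorem und_PhiZ (p : P) :
    tU hT EM EN (tinc hT EM EN 0 (zinc (totA hT EM EN) (totD hT EM EN) (totD_gr hT EM EN) 0
      (PhiZ hT EM EN 𝒬 φ hP p))) = tmap (uAug EM) (uAug EN) (φ p) := rfl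

theorem PhiZ_injective : Function.Injective (PhiZ hT EM EN 𝒬 φ hP) := by
  intro p p' h
  apply hP.injective
  have h1 : tmap (uAug EM) (uAug EN) (φ p) = tmap (uAug EM) (uAug EN) (φ p') := by
    rw [← und_PhiZ hT EM EN 𝒬 φ hP p, ← und_PhiZ hT EM EN 𝒬 φ hP p', h]
  exact tmap_injective (uAug_injective EM) (uAug_injective EN) h1

theorem PhiZ_surjective : Function.Surjective (PhiZ hT EM EN 𝒬 φ hP) := by
  intro z
  have hζZ : tU hT EM EN (tinc hT EM EN 0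
      (zinc (totA hT EM EN) (totD hT EM EN) (totD_gr hT EM EN) 0 z)) ∈
      (tens (gdE EM) (gdE EN)).Zn (T2 ⊤ ⊤) 0 :=
    (tens_mem_Zn (gdE EM) (gdE EN)).2 ⟨mem_T2_top _,
      (mem_totS' hT EM EN).1 (tinc_mem hT EM EN 0 _), by
        rw [← tU_TD, ← tinc_totD, D_zinc, map_zero, tU_zero]⟩
  rw [tot_Z0 (gdE EM) (gdE EN) (gdE EM).stable_top (gdE EN).stable_top] at hζZ
  have hle : T2 ((gdE EM).Zn ⊤ 0) ((gdE EN).Zn ⊤ 0) ≤
      LinearMap.range (tmap (k := k) (uAug EM) (uAug EN)) := T2_le (fun a ha b hb => by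
    obtain ⟨m, rfl⟩ := exists_uAug EM a ha
    obtain ⟨n, rfl⟩ := exists_uAug EN b hb
    exact ⟨m ⊗ₜ[k] n, rfl⟩)
  obtain ⟨w, hw⟩ := hle hζZ
  obtain ⟨F, hF⟩ := exists_finset_sum (bigX EM).gr (bigX EN).gr hT (tinc hT EM EN 0
      (zinc (totA hT EM EN) (totD hT EM EN) (totD_gr hT EM EN) 0 z))
  have hrange : segK k ℳ 𝒩 ≤ LinearMap.range φ := by
    apply iSup_le
    intro n w hw
    have h1 : w ∈ φ '' (𝒬 n : Set P) := by
      rw [hP.image_piece n]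
      exact hw
    obtain ⟨p, -, rfl⟩ := h1
    exact ⟨p, rfl⟩
  obtain ⟨p, hp⟩ := hrange (sum_biproj_mem (𝒜 := 𝒜) (ℬ := ℬ) ℳ 𝒩 F w)
  refine ⟨p, ?_⟩
  apply zinc_injective (totA hT EM EN) (totD hT EM EN) (totD_gr hT EM EN) 0
  apply tinc_injective hT EM EN
  apply tU_injective hT EM EN
  rw [und_PhiZ, hp, map_sum]
  show _ = segι (bigX EM).gr (bigX EN).gr hT (tinc hT EM EN 0
      (zinc (totA hT EM EN) (totD hT EM EN) (totD_gr hT EM EN) 0 z))
  rw [hF]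
  refine Finset.sum_congr rfl (fun n _ => ?_)
  rw [← biproj_tmap ℳ (bigX EM).gr 𝒩 (bigX EN).gr (uAug_gr EM) (uAug_gr EN), hw]
  rfl

theorem PhiZ_gr : IsGrHom 𝒬 (ZG (totA hT EM EN) (totD hT EM EN) (totD_gr hT EM EN) 0).gr
    (PhiZ hT EM EN 𝒬 φ hP) := by
  intro n p hp
  show tmap (uAug EM) (uAug EN) (φ p) ∈ GrSeg.segrePiece k (bigX EM).gr (bigX EN).gr n
  have h1 : φ p ∈ φ '' (𝒬 n : Set P) := ⟨p, hp, rfl⟩
  rw [hP.image_piece n] at h1
  exact tmap_piece ℳ (bigX EM).gr 𝒩 (bigX EN).gr (uAug_gr EM) (uAug_gr EN) h1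

include hP in
theorem exists_theta :
    ∃ θ : (ZG (totA hT EM EN) (totD hT EM EN) (totD_gr hT EM EN) 0).carrier ≃ₗ[T] P,
      IsGrHom (ZG (totA hT EM EN) (totD hT EM EN) (totD_gr hT EM EN) 0).gr 𝒬 θ.toLinearMap := by
  refine ⟨(LinearEquiv.ofBijective (PhiZ hT EM EN 𝒬 φ hP)
    ⟨PhiZ_injective hT EM EN 𝒬 φ hP, PhiZ_surjective hT EM EN 𝒬 φ hP⟩).symm, ?_⟩
  intro n z hz
  obtain ⟨p, hp, rfl⟩ := Ver3H1.piece_surj 𝒬
    (ZG (totA hT EM EN) (totD hT EM EN) (totD_gr hT EM EN) 0).gr (PhiZ hT EM EN 𝒬 φ hP)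
    (PhiZ_gr hT EM EN 𝒬 φ hP) (PhiZ_surjective hT EM EN 𝒬 φ hP) hz
  have h1 : (LinearEquiv.ofBijective (PhiZ hT EM EN 𝒬 φ hP)
      ⟨PhiZ_injective hT EM EN 𝒬 φ hP, PhiZ_surjective hT EM EN 𝒬 φ hP⟩).symm
      (PhiZ hT EM EN 𝒬 φ hP p) = p :=
    LinearEquiv.symm_apply_apply (LinearEquiv.ofBijective (PhiZ hT EM EN 𝒬 φ hP)
      ⟨PhiZ_injective hT EM EN 𝒬 φ hP, PhiZ_surjective hT EM EN 𝒬 φ hP⟩) p
  show (LinearEquiv.ofBijective (PhiZ hT EM EN 𝒬 φ hP)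
      ⟨PhiZ_injective hT EM EN 𝒬 φ hP, PhiZ_surjective hT EM EN 𝒬 φ hP⟩).symm
      (PhiZ hT EM EN 𝒬 φ hP p) ∈ 𝒬 n
  rw [h1]
  exact hp

end theta

/-! ### the torsion part -/
section bridge

variable [IsNoetherianRing R] [IsNoetherianRing S]
  (mR : HomogeneousIdeal 𝒜) (mS : HomogeneousIdeal ℬ) (mT : HomogeneousIdeal 𝒯)
  (hmR : mR.toIdeal = Ideal.span (⋃ n ∈ Set.Ioi (0 : ℤ), (𝒜 n : Set R)))
  (hmS : mS.toIdeal = Ideal.span (⋃ n ∈ Set.Ioi (0 : ℤ), (ℬ n : Set S)))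
  (hmT : mT.toIdeal = Ideal.span (⋃ n ∈ Set.Ioi (0 : ℤ), (𝒯 n : Set T)))

/-- the torsion part of the Segre product of the total modules in a degree -/
noncomputable def KK (d : ℤ) : Submodule k ((bigX EM).carrier ⊗[k] (bigX EN).carrier) :=
  T2 (AA' EM (idealAS 𝒜 mR).toIdeal d) (AA EN d) ⊔
    T2 (AA EM d) (AA' EN (idealAS ℬ mS).toIdeal d)

theorem KK_le (d : ℤ) : KK EM EN mR mS d ≤ T2 (AA EM d) (AA EN d) :=
  sup_le (T2_mono (AA'_le EM _ d) le_rfl) (T2_mono le_rfl (AA'_le EN _ d))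

theorem KK_stable (d : ℤ) : (tens (gdE EM) (gdE EN)).Stable (KK EM EN mR mS d) :=
  (stable_T2 _ _ (stable_AA' EM _ d) (stable_AA EN d)).sup
    (stable_T2 _ _ (stable_AA EM d) (stable_AA' EN _ d))

include hmR hmS hmT in
theorem mem_gam_Tot_iff (d : ℤ) (z : (Tot hT EM EN).carrier)
    (hz : tU hT EM EN z ∈ T2 (AA EM d) (AA EN d)) :
    z ∈ gam (idealAS 𝒯 mT).toIdeal (Tot hT EM EN).carrier ↔
      tU hT EM EN z ∈ KK EM EN mR mS d := by
  obtain ⟨fs, hfs, hmR'⟩ := exists_gens (toAS 𝒜) mR.toIdeal hmR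
  obtain ⟨gs, hgs, hmS'⟩ := exists_gens (toAS ℬ) mS.toIdeal hmS
  have hfs' : ∀ f ∈ fs, ∃ d : ℕ, 0 < d ∧ f ∈ 𝒜 (d : ℤ) := hfs
  have hgs' : ∀ g ∈ gs, ∃ e : ℕ, 0 < e ∧ g ∈ ℬ (e : ℤ) := hgs
  exact seg_gam_iff hT (idealAS 𝒜 mR) (idealAS ℬ mS) hmR hmS hmT fs hfs' hmR' gs hgs' hmS'
    (bigX EM) (bigX EN) d z hz

variable (q : ℕ)

/-- the cocycles of the total complex -/
noncomputable abbrev Zq : GMod.{u} (toAS 𝒯) :=
  ZG (totA hT EM EN) (totD hT EM EN) (totD_gr hT EM EN) q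

/-- the underlying tensor of a cocycle -/
noncomputable def undZ (y : (Zq hT EM EN q).carrier) :
    (bigX EM).carrier ⊗[k] (bigX EN).carrier :=
  tU hT EM EN (tinc hT EM EN q (zinc (totA hT EM EN) (totD hT EM EN) (totD_gr hT EM EN) q y))

theorem undZ_injective : Function.Injective (undZ hT EM EN q) := fun _ _ h =>
  zinc_injective (totA hT EM EN) (totD hT EM EN) (totD_gr hT EM EN) q
    (tinc_injective hT EM EN q (tU_injective hT EM EN h))

theorem undZ_zero : undZ hT EM EN q 0 = 0 := by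
  unfold undZ
  rw [map_zero, map_zero, tU_zero]

theorem undZ_add (y y' : (Zq hT EM EN q).carrier) :
    undZ hT EM EN q (y + y') = undZ hT EM EN q y + undZ hT EM EN q y' := by
  unfold undZ
  rw [map_add, map_add, tU_add]

theorem undZ_smul (t : T) (y : (Zq hT EM EN q).carrier) :
    undZ hT EM EN q (t • y) = GrSeg.act k R S _ _ (ψ t) (undZ hT EM EN q y) := by
  unfold undZ
  rw [map_smul, map_smul, tU_smul]

theorem undZ_tπ (y : (Zq hT EM EN q).carrier) :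
    tπ (gdE EM) (gdE EN) q (undZ hT EM EN q y) = undZ hT EM EN q y :=
  (mem_totS' hT EM EN).1 (tinc_mem hT EM EN q _)

theorem undZ_tD (y : (Zq hT EM EN q).carrier) :
    tD (gdE EM) (gdE EN) (undZ hT EM EN q y) = 0 := by
  unfold undZ
  rw [← tU_TD, ← tinc_totD, D_zinc, map_zero, tU_zero]

theorem mem_Zq_gr {d : ℤ} {y : (Zq hT EM EN q).carrier} :
    y ∈ (Zq hT EM EN q).gr d ↔ undZ hT EM EN q y ∈ T2 (AA EM d) (AA EN d) := Iff.rfl

include hmR hmS hmT in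
theorem mem_gam_Zq_iff (d : ℤ) (y : (Zq hT EM EN q).carrier)
    (hy : undZ hT EM EN q y ∈ T2 (AA EM d) (AA EN d)) :
    y ∈ gam (idealAS 𝒯 mT).toIdeal (Zq hT EM EN q).carrier ↔
      undZ hT EM EN q y ∈ KK EM EN mR mS d := by
  refine Iff.trans ?_ (mem_gam_Tot_iff hT EM EN mR mS mT hmR hmS hmT d
    (tinc hT EM EN q (zinc (totA hT EM EN) (totD hT EM EN) (totD_gr hT EM EN) q y)) hy)
  constructor
  · intro h
    exact map_mem_gam (tinc hT EM EN q)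
      (map_mem_gam (zinc (totA hT EM EN) (totD hT EM EN) (totD_gr hT EM EN) q) h)
  · intro h
    exact mem_gam_of_injective (zinc (totA hT EM EN) (totD hT EM EN) (totD_gr hT EM EN) q)
      (zinc_injective (totA hT EM EN) (totD hT EM EN) (totD_gr hT EM EN) q)
      (mem_gam_of_injective (tinc hT EM EN q) (tinc_injective hT EM EN q) h)

theorem exists_cocycle (d : ℤ) (ζ : (bigX EM).carrier ⊗[k] (bigX EN).carrier)
    (hζ : ζ ∈ (tens (gdE EM) (gdE EN)).Zn (KK EM EN mR mS d) q) :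
    ∃ y : (Zq hT EM EN q).carrier, undZ hT EM EN q y = ζ := by
  obtain ⟨h1, h2, h3⟩ := (tens_mem_Zn (gdE EM) (gdE EN)).1 hζ
  have hs : ζ ∈ segK k (bigX EM).gr (bigX EN).gr := piece_le EM EN d (KK_le EM EN mR mS d h1)
  have hm : mkT hT EM EN ζ hs ∈ totS hT EM EN q := by
    rw [mem_totS', tU_mkT]
    exact h2
  have hd : totD hT EM EN q (mkA hT EM EN q _ hm) = 0 := by
    apply tinc_injective hT EM EN
    apply tU_injective hT EM EN
    rw [tinc_totD, tinc_mkA, tU_TD, tU_mkT, h3, map_zero, tU_zero]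
  exact ⟨mkZs (totA hT EM EN) (totD hT EM EN) (totD_gr hT EM EN) q (mkA hT EM EN q _ hm) hd, rfl⟩

include hmR hmS hmT in
theorem bdry_iff (d : ℤ) : ∀ (q : ℕ) (y : (Zq hT EM EN q).carrier),
    undZ hT EM EN q y ∈ (tens (gdE EM) (gdE EN)).Zn (KK EM EN mR mS d) q →
    (Bdry (totA hT EM EN) (totD hT EM EN) (totD_gr hT EM EN) (idealAS 𝒯 mT) q y ↔
      undZ hT EM EN q y ∈ (tens (gdE EM) (gdE EN)).Bn (KK EM EN mR mS d) q)
  | 0, y, _ => by
    show y = 0 ↔ _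
    rw [(tens (gdE EM) (gdE EN)).Bn_zero, Submodule.mem_bot]
    constructor
    · intro h
      rw [h, undZ_zero]
    · intro h
      apply undZ_injective hT EM EN 0
      rw [h, undZ_zero]
  | n + 1, y, hy => by
    show (∃ y' : (totA hT EM EN n).carrier,
      y' ∈ gam (idealAS 𝒯 mT).toIdeal (totA hT EM EN n).carrier ∧
        totD hT EM EN n y' =
          zinc (totA hT EM EN) (totD hT EM EN) (totD_gr hT EM EN) (n + 1) y) ↔ _
    rw [tens_mem_Bn]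
    obtain ⟨h1, h2, -⟩ := (tens_mem_Zn (gdE EM) (gdE EN)).1 hy
    constructor
    · rintro ⟨y', hy'g, hy'd⟩
      classical
      have hyd_gam := GrStar4H1.gam_isHomogeneous (toAS 𝒯) (totA hT EM EN n).gr
        (idealAS 𝒯 mT) d hy'g
      have hzdeg : zinc (totA hT EM EN) (totD hT EM EN) (totD_gr hT EM EN) (n + 1) y ∈
          (totA hT EM EN (n + 1)).gr d :=
        (mem_Zq_gr hT EM EN (n + 1)).2 (KK_le EM EN mR mS d h1)
      have hD : totD hT EM EN n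
          ((decompose (totA hT EM EN n).gr y' d : (totA hT EM EN n).gr d) :
            (totA hT EM EN n).carrier) =
          zinc (totA hT EM EN) (totD hT EM EN) (totD_gr hT EM EN) (n + 1) y := by
        rw [← GrStarH1.decompose_map (totA hT EM EN n).gr (totA hT EM EN (n + 1)).gr
          (totD_gr hT EM EN n) y' d, hy'd, decompose_of_mem_same _ hzdeg]
      have hdeg : tU hT EM EN (tinc hT EM EN n
          ((decompose (totA hT EM EN n).gr y' d : (totA hT EM EN n).gr d) :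
            (totA hT EM EN n).carrier)) ∈ T2 (AA EM d) (AA EN d) :=
        (mem_Tot_gr hT EM EN).1 ((mem_totA_gr hT EM EN).1 (SetLike.coe_mem _))
      have hK := (mem_gam_Tot_iff hT EM EN mR mS mT hmR hmS hmT d _ hdeg).1
        (map_mem_gam (tinc hT EM EN n) hyd_gam)
      refine ⟨⟨_, hK, ?_⟩, h2⟩
      rw [← tU_TD, ← tinc_totD, hD]
      rfl
    · rintro ⟨⟨a', ha', hda'⟩, -⟩
      have haK : tπ (gdE EM) (gdE EN) n a' ∈ KK EM EN mR mS d :=
        (KK_stable EM EN mR mS d).π_mem n a' ha'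
      have hs : tπ (gdE EM) (gdE EN) n a' ∈ segK k (bigX EM).gr (bigX EN).gr :=
        piece_le EM EN d (KK_le EM EN mR mS d haK)
      have hm : mkT hT EM EN _ hs ∈ totS hT EM EN n := by
        rw [mem_totS', tU_mkT]
        exact tπ_same_apply (gdE EM) (gdE EN) n a'
      refine ⟨mkA hT EM EN n _ hm, ?_, ?_⟩
      · apply mem_gam_of_injective (tinc hT EM EN n) (tinc_injective hT EM EN n)
        rw [tinc_mkA]
        exact (mem_gam_Tot_iff hT EM EN mR mS mT hmR hmS hmT d _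
          (by rw [tU_mkT]; exact KK_le EM EN mR mS d haK)).2 (by rw [tU_mkT]; exact haK)
      · apply tinc_injective hT EM EN
        apply tU_injective hT EM EN
        rw [tinc_totD, tinc_mkA, tU_TD, tU_mkT, tD_tπ_apply, hda', h2]
        rfl

include hmR hmS hmT in
theorem bridge_of_art (d : ℤ) {H : Type u} [AddCommGroup H] [Module T H]
    (ℋ : ℤ → AddSubgroup H)
    (c : ↥(gam (idealAS 𝒯 mT).toIdeal (Zq hT EM EN q).carrier) →ₗ[T] H)
    (hc : IsART (totA hT EM EN) (totD hT EM EN) (totD_gr hT EM EN) (idealAS 𝒯 mT) q ℋ c) :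
    ∃ F : ↥((tens (gdE EM) (gdE EN)).Zn (KK EM EN mR mS d) q) →+ H,
      (∀ (c' : k) (z : ↥((tens (gdE EM) (gdE EN)).Zn (KK EM EN mR mS d) q)),
        F (c' • z) = algebraMap k T c' • F z) ∧
      (∀ z, F z ∈ ℋ d) ∧ (∀ h ∈ ℋ d, ∃ z, F z = h) ∧
      (∀ z : ↥((tens (gdE EM) (gdE EN)).Zn (KK EM EN mR mS d) q),
        F z = 0 ↔ (z : (bigX EM).carrier ⊗[k] (bigX EN).carrier) ∈
          (tens (gdE EM) (gdE EN)).Bn (KK EM EN mR mS d) q) := by
  have hex : ∀ ζ : ↥((tens (gdE EM) (gdE EN)).Zn (KK EM EN mR mS d) q),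
      ∃ y : ↥(gam (idealAS 𝒯 mT).toIdeal (Zq hT EM EN q).carrier),
        undZ hT EM EN q y.1 = ζ.1 := by
    intro ζ
    obtain ⟨y, hy⟩ := exists_cocycle hT EM EN mR mS q d ζ.1 ζ.2
    have h1 := ((tens_mem_Zn (gdE EM) (gdE EN)).1 ζ.2).1
    refine ⟨⟨y, (mem_gam_Zq_iff hT EM EN mR mS mT hmR hmS hmT q d y
      (by rw [hy]; exact KK_le EM EN mR mS d h1)).2 (by rw [hy]; exact h1)⟩, hy⟩
  choose kz hkz using hex
  have hinj : ∀ y y' : ↥(gam (idealAS 𝒯 mT).toIdeal (Zq hT EM EN q).carrier),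
      undZ hT EM EN q y.1 = undZ hT EM EN q y'.1 → y = y' :=
    fun y y' h => Subtype.ext (undZ_injective hT EM EN q h)
  have kz_add : ∀ ζ ζ', kz (ζ + ζ') = kz ζ + kz ζ' := by
    intro ζ ζ'
    apply hinj
    have e1 : ((ζ + ζ' : ↥((tens (gdE EM) (gdE EN)).Zn (KK EM EN mR mS d) q)) :
        (bigX EM).carrier ⊗[k] (bigX EN).carrier) = ζ.1 + ζ'.1 := rfl
    have e2 : ((kz ζ + kz ζ' : ↥(gam (idealAS 𝒯 mT).toIdeal (Zq hT EM EN q).carrier)) :
        (Zq hT EM EN q).carrier) = (kz ζ).1 + (kz ζ').1 := rfl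
    rw [hkz, e1, e2, undZ_add, hkz, hkz]
  have kz_smul : ∀ (c' : k) ζ, kz (c' • ζ) = algebraMap k T c' • kz ζ := by
    intro c' ζ
    apply hinj
    have e1 : ((c' • ζ : ↥((tens (gdE EM) (gdE EN)).Zn (KK EM EN mR mS d) q)) :
        (bigX EM).carrier ⊗[k] (bigX EN).carrier) = c' • ζ.1 := rfl
    have e2 : ((algebraMap k T c' • kz ζ :
        ↥(gam (idealAS 𝒯 mT).toIdeal (Zq hT EM EN q).carrier)) :
        (Zq hT EM EN q).carrier) = algebraMap k T c' • (kz ζ).1 := rfl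
    rw [hkz, e1, e2, undZ_smul, hkz, act_algebraMap]
  have kz_deg : ∀ ζ, (kz ζ).1 ∈ (Zq hT EM EN q).gr d := fun ζ =>
    (mem_Zq_gr hT EM EN q).2 (by
      rw [hkz]
      exact KK_le EM EN mR mS d ((tens_mem_Zn (gdE EM) (gdE EN)).1 ζ.2).1)
  refine ⟨AddMonoidHom.mk' (fun ζ => c (kz ζ)) (fun ζ ζ' => by rw [kz_add, map_add]),
    ?_, ?_, ?_, ?_⟩
  · intro c' ζ
    show c (kz (c' • ζ)) = algebraMap k T c' • c (kz ζ)
    rw [kz_smul, map_smul]
  · intro ζ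
    exact hc.mem d (kz ζ) (kz_deg ζ)
  · intro h hh
    obtain ⟨y, hyd, rfl⟩ := hc.lift d h hh
    have hyT : undZ hT EM EN q y.1 ∈ T2 (AA EM d) (AA EN d) := (mem_Zq_gr hT EM EN q).1 hyd
    have hyK : undZ hT EM EN q y.1 ∈ KK EM EN mR mS d :=
      (mem_gam_Zq_iff hT EM EN mR mS mT hmR hmS hmT q d y.1 hyT).1 y.2
    have hyZ : undZ hT EM EN q y.1 ∈ (tens (gdE EM) (gdE EN)).Zn (KK EM EN mR mS d) q :=
      (tens_mem_Zn (gdE EM) (gdE EN)).2 ⟨hyK, undZ_tπ hT EM EN q y.1, undZ_tD hT EM EN q y.1⟩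
    refine ⟨⟨_, hyZ⟩, ?_⟩
    show c (kz ⟨_, hyZ⟩) = c y
    rw [hinj _ _ (hkz ⟨_, hyZ⟩)]
  · intro ζ
    show c (kz ζ) = 0 ↔ _
    rw [hc.ker]
    refine (bdry_iff hT EM EN mR mS mT hmR hmS hmT d q (kz ζ).1
      (by rw [hkz]; exact ζ.2)).trans ?_
    rw [hkz]

variable [IsNoetherianRing T] [Module k M] [IsScalarTower k R M] [Module k N]
  [IsScalarTower k S N]
  {P : Type u} [AddCommGroup P] [Module T P] [Module k P] [IsScalarTower k T P]
  (𝒬 : ℤ → AddSubgroup P) [Decomposition 𝒬] [SetLike.GradedSMul 𝒯 𝒬]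
  (φ : P →ₗ[k] M ⊗[k] N) (hP : GrSeg.IsSegreMod ψ ℳ 𝒩 𝒬 φ)

include hT hmR hmS hmT hP in
/-- The graded local cohomology of a Segre product `M # N` in a degree, as the cohomology of the
torsion part of the Segre product of the total modules of two resolutions. -/
theorem exists_bridge (EP : StarInjRes (toAS 𝒯) 𝒬) (d : ℤ) :
    ∃ F : ↥((tens (gdE EM) (gdE EN)).Zn (KK EM EN mR mS d) q) →+ EP.H (idealAS 𝒯 mT) q,
      (∀ (c' : k) (z : ↥((tens (gdE EM) (gdE EN)).Zn (KK EM EN mR mS d) q)),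
        F (c' • z) = algebraMap k T c' • F z) ∧
      (∀ z, F z ∈ EP.Hgr (idealAS 𝒯 mT) q d) ∧
      (∀ h ∈ EP.Hgr (idealAS 𝒯 mT) q d, ∃ z, F z = h) ∧
      (∀ z : ↥((tens (gdE EM) (gdE EN)).Zn (KK EM EN mR mS d) q),
        F z = 0 ↔ (z : (bigX EM).carrier ⊗[k] (bigX EN).carrier) ∈
          (tens (gdE EM) (gdE EN)).Bn (KK EM EN mR mS d) q) := by
  obtain ⟨θ, hθ⟩ := exists_theta hT EM EN 𝒬 φ hP
  obtain ⟨c, hc⟩ := ARTH1.main (totA hT EM EN) (totD hT EM EN) (totD_gr hT EM EN)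
    (totD_exact hT EM EN) (idealAS 𝒯 mT) (totA_acyc hT EM EN mR mS mT hmR hmS hmT)
    (Ver3H1.reaug EP θ hθ) q
  exact bridge_of_art hT EM EN mR mS mT hmR hmS hmT q d (H := EP.H (idealAS 𝒯 mT) q)
    (EP.Hgr (idealAS 𝒯 mT) q) c hc

end bridge

end Groth.Agent.Lib.SegTotH1
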