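import Mathlib
import Groth.Prelude.Def_GrLC
import Groth.Prelude.Def_GrSeg
import Groth.Agent.Lib.SegTot2_helper1
import Groth.Agent.Lib.DVec4_helper1
import Groth.Agent.Lib.GrLES4_helper1
import Groth.Agent.Lib.GrTens3_helper1
import Groth.Agent.Lib.SegreNoeth_lead

/-! The Künneth formula for the graded local cohomology of a Segre product of two modules of
depth at least two, as an equality of dimensions (Goto–Watanabe) (helper1).
APPEND-ONLY once landed. -/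

set_option autoImplicit false

namespace Groth.Agent.Lib.SegKun3H1

open scoped TensorProduct
open DirectSum GrLC Groth.Agent.Lib.SegreH3 Groth.Agent.Lib.SegF1H1 Groth.Agent.Lib.SegF2H1
  Groth.Agent.Lib.TCrdH1 Groth.Agent.Lib.DivH1 Groth.Agent.Lib.GrAcycH1
  Groth.Agent.Lib.SegTorsH1 Groth.Agent.Lib.GrXferH1 Groth.Agent.Lib.GrLES1H1
  Groth.Agent.Lib.GrLES2H1 Groth.Agent.Lib.SegAcycH1 Groth.Agent.Lib.DVecH1
  Groth.Agent.Lib.BigResH1 Groth.Agent.Lib.SegAcyc2H1 Groth.Agent.Lib.SegGamH1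
  Groth.Agent.Lib.ARTH1 Groth.Agent.Lib.SegKunH1 Groth.Agent.Lib.SegTotH1
  Groth.Agent.Lib.GrTens3H1

universe u

attribute [local instance] kMod kTower gsmulX

/-! ### transfer of dimensions to the degree-zero subring -/

theorem rep_transfer_sub {k : Type u} [Field k] {A : Type u} [CommRing A] [Nontrivial A]
    [Algebra k A] (D₀ : Subring A) (hD : ∀ r : A, r ∈ D₀ ↔ ∃ c : k, algebraMap k A c = r)
    {V : Type u} [AddCommGroup V] [Module k V] (G : GD k V) {X : Submodule k V} {n : ℕ}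
    {ℋ : Submodule k V} (hℋ : G.Rep X n ℋ)
    {H : Type u} [AddCommGroup H] [Module A H] (Hc : Submodule D₀ H)
    (F : ↥(G.Zn X n) →+ H)
    (hsm : ∀ (c : k) (z : ↥(G.Zn X n)), F (c • z) = algebraMap k A c • F z)
    (hmem : ∀ z, F z ∈ Hc) (hsurj : ∀ h ∈ Hc, ∃ z, F z = h)
    (hker : ∀ z : ↥(G.Zn X n), F z = 0 ↔ (z : V) ∈ G.Bn X n) :
    Module.finrank k ↥ℋ = Module.finrank D₀ ↥Hc ∧
      (Module.Finite D₀ ↥Hc → Module.Finite k ↥ℋ) := by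
  let i : k → D₀ := fun c => ⟨algebraMap k A c, (hD _).2 ⟨c, rfl⟩⟩
  have hi : Function.Bijective i := by
    constructor
    · intro c c' h
      have h' : algebraMap k A c = algebraMap k A c' := congrArg Subtype.val h
      exact (algebraMap k A).injective h'
    · rintro ⟨r, hr⟩
      obtain ⟨c, rfl⟩ := (hD r).1 hr
      exact ⟨c, rfl⟩
  let F' : ↥(G.Zn X n) →+ ↥Hc := F.codRestrict Hc hmem
  have hsm' : ∀ (c : k) (z : ↥(G.Zn X n)), F' (c • z) = i c • F' z := by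
    intro c z
    apply Subtype.ext
    show F (c • z) = algebraMap k A c • F z
    exact hsm c z
  have hsurj' : Function.Surjective F' := by
    rintro ⟨h, hh⟩
    obtain ⟨z, rfl⟩ := hsurj h hh
    exact ⟨z, rfl⟩
  have hker' : ∀ z : ↥(G.Zn X n), F' z = 0 ↔ (z : V) ∈ G.Bn X n := by
    intro z
    rw [← hker z]
    constructor
    · intro h
      exact congrArg Subtype.val h
    · intro h
      exact Subtype.ext h
  exact rep_transfer G hℋ i hi F' hsm' hsurj' hker'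

theorem mem_zero_iff {k : Type u} [Field k] {A : Type u} [CommRing A] [Algebra k A]
    {𝒜 : ℤ → Submodule k A} (h0 : 𝒜 0 = Submodule.span k {(1 : A)}) (r : A) :
    r ∈ 𝒜 0 ↔ ∃ c : k, algebraMap k A c = r := by
  rw [h0, Submodule.mem_span_singleton]
  constructor
  · rintro ⟨c, rfl⟩
    exact ⟨c, Algebra.algebraMap_eq_smul_one c⟩
  · rintro ⟨c, rfl⟩
    exact ⟨c, (Algebra.algebraMap_eq_smul_one c).symm⟩

/-! ### the Segre ring -/
section ring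

variable {k : Type u} [Field k]
  {R : Type u} [CommRing R] [Algebra k R] {𝒜 : ℤ → Submodule k R} [GradedAlgebra 𝒜]
  {S : Type u} [CommRing S] [Algebra k S] {ℬ : ℤ → Submodule k S} [GradedAlgebra ℬ]
  {T : Type u} [CommRing T] [Algebra k T] {𝒯 : ℤ → Submodule k T} [GradedAlgebra 𝒯]
  {ψ : T →ₐ[k] R ⊗[k] S}

theorem nontrivial_T [Nontrivial R] [Nontrivial S] (hT : GrSeg.IsSegreRing 𝒜 ℬ 𝒯 ψ) :
    Nontrivial T := by
  haveI : Nontrivial (R ⊗[k] S) :=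
    (Algebra.TensorProduct.includeLeft_injective (R := k) (S := k) (A := R) (B := S)
      (algebraMap k S).injective).nontrivial
  refine ⟨⟨0, 1, fun h => ?_⟩⟩
  have h1 := congrArg ψ h
  rw [map_zero, map_one] at h1
  exact zero_ne_one h1

theorem deg_zero_T (hT : GrSeg.IsSegreRing 𝒜 ℬ 𝒯 ψ)
    (h0R : 𝒜 0 = Submodule.span k {(1 : R)}) (h0S : ℬ 0 = Submodule.span k {(1 : S)}) :
    𝒯 0 = Submodule.span k {(1 : T)} := by
  apply le_antisymm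
  · intro t ht
    have h1 : ψ t ∈ GrSeg.segrePiece k 𝒜 ℬ 0 := psi_mem_piece hT ht
    have h2 : GrSeg.segrePiece k 𝒜 ℬ 0 ≤ Submodule.span k {(1 : R ⊗[k] S)} := by
      apply Submodule.span_le.2
      rintro _ ⟨a, ha, b, hb, rfl⟩
      rw [h0R, Submodule.mem_span_singleton] at ha
      rw [h0S, Submodule.mem_span_singleton] at hb
      obtain ⟨c, rfl⟩ := ha
      obtain ⟨c', rfl⟩ := hb
      rw [SetLike.mem_coe, Submodule.mem_span_singleton]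
      exact ⟨c * c', by rw [TensorProduct.smul_tmul_smul, Algebra.TensorProduct.one_def]⟩
    obtain ⟨c, hc⟩ := Submodule.mem_span_singleton.1 (h2 h1)
    rw [Submodule.mem_span_singleton]
    refine ⟨c, hT.1 ?_⟩
    rw [map_smul, map_one, hc]
  · rw [Submodule.span_le, Set.singleton_subset_iff]
    exact SetLike.GradedOne.one_mem

end ring

/-! ### transfer for one resolution -/
section transfer

variable {k : Type u} [Field k] {R : Type u} [CommRing R] [Nontrivial R] [Algebra k R]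
  [IsNoetherianRing R] {𝒜 : ℤ → Submodule k R} [GradedAlgebra 𝒜]
  (hpos : ∀ n : ℤ, n < 0 → 𝒜 n = ⊥) (h0 : 𝒜 0 = Submodule.span k {(1 : R)})
  (a : HomogeneousIdeal (toAS 𝒜))
  (ha : a.toIdeal = Ideal.span (⋃ n ∈ Set.Ioi (0 : ℤ), (𝒜 n : Set R)))
  {M : Type u} [AddCommGroup M] [Module R M] [Module.Finite R M] {ℳ : ℤ → AddSubgroup M}
  [Decomposition ℳ] [SetLike.GradedSMul 𝒜 ℳ] (E : StarInjRes (toAS 𝒜) ℳ) (d : ℤ)

include hpos in
theorem hpos_AS : ∀ n : ℤ, n < 0 → toAS 𝒜 n = ⊥ := fun n hn => by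
  ext x
  rw [mem_toAS, hpos n hn, Submodule.mem_bot, AddSubgroup.mem_bot]

include hpos h0 ha in
theorem transfer_H (D₀ : Subring R) (hD : ∀ r : R, r ∈ D₀ ↔ r ∈ 𝒜 0) (i : ℕ)
    (Hc : Submodule D₀ (E.H a i)) (hHc : ∀ x, x ∈ Hc ↔ x ∈ E.Hgr a i d)
    (ℋ : Submodule k (bigX E).carrier) (hℋ : (gdE E).Rep (AA' E a.toIdeal d) i ℋ) :
    Module.finrank k ↥ℋ = Module.finrank D₀ ↥Hc ∧ Module.Finite k ↥ℋ := by
  have hD' : ∀ r : R, r ∈ D₀ ↔ ∃ c : k, algebraMap k R c = r :=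
    fun r => (hD r).trans (mem_zero_iff h0 r)
  have h1 := rep_transfer_sub D₀ hD' (gdE E) hℋ Hc (br E a i d) (br_smul E a i d)
    (fun z => (hHc _).2 (br_mem E a i d z))
    (fun h hh => br_surj E a i d h ((hHc h).1 hh)) (br_ker E a i d)
  have hDas : ∀ r : R, r ∈ deg0 (toAS 𝒜) ↔ ∃ c : k, algebraMap k R c = r :=
    fun r => mem_zero_iff h0 r
  have h2 := rep_transfer_sub (deg0 (toAS 𝒜)) hDas (gdE E) hℋ (E.Hcomp a i d) (br E a i d)
    (br_smul E a i d) (fun z => br_mem E a i d z) (fun h hh => br_surj E a i d h hh)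
    (br_ker E a i d)
  exact ⟨h1.1, h2.2 (GrLES4H1.main13226 (toAS 𝒜) (hpos_AS hpos) a ha M ℳ E i d)⟩

include hpos h0 in
theorem transfer_comp (D₀ : Subring R) (hD : ∀ r : R, r ∈ D₀ ↔ r ∈ 𝒜 0)
    (M0 : Submodule D₀ M) (hM0 : ∀ x, x ∈ M0 ↔ x ∈ ℳ d) :
    Module.finrank k ↥((gdE E).Zn (AA E d) 0) = Module.finrank D₀ ↥M0 ∧
      Module.Finite k ↥((gdE E).Zn (AA E d) 0) := by
  have hD' : ∀ r : R, r ∈ D₀ ↔ ∃ c : k, algebraMap k R c = r :=
    fun r => (hD r).trans (mem_zero_iff h0 r)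
  have h1 := rep_transfer_sub D₀ hD' (gdE E) ((gdE E).rep_zero (AA E d)) M0 (br0 E d)
    (br0_smul E d) (fun z => (hM0 _).2 (br0_mem E d z))
    (fun m hm => br0_surj E d m ((hM0 m).1 hm)) (br0_ker E d)
  have hDas : ∀ r : R, r ∈ deg0 (toAS 𝒜) ↔ ∃ c : k, algebraMap k R c = r :=
    fun r => mem_zero_iff h0 r
  have h2 := rep_transfer_sub (deg0 (toAS 𝒜)) hDas (gdE E) ((gdE E).rep_zero (AA E d))
    (comp (toAS 𝒜) ℳ d) (br0 E d) (br0_smul E d) (fun z => br0_mem E d z)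
    (fun m hm => br0_surj E d m hm) (br0_ker E d)
  haveI : IsNoetherian R M := isNoetherian_of_isNoetherianRing_of_finite R M
  have hfg := GrLES4H1.piece_fg (toAS 𝒜) (hpos_AS hpos) ℳ d (comp (toAS 𝒜) ℳ d)
    (fun x => Iff.rfl)
  exact ⟨h1.1, h2.2 (Module.Finite.iff_fg.2 hfg)⟩

theorem Zn_zero_eq_bot (h : ∀ x, x ∈ E.Hgr a 0 d → x = 0) :
    (gdE E).Zn (AA' E a.toIdeal d) 0 = ⊥ := by
  rw [eq_bot_iff]
  intro z hz
  have h1 := h _ (br_mem E a 0 d ⟨z, hz⟩)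
  have h2 := (br_ker E a 0 d ⟨z, hz⟩).1 h1
  rw [(gdE E).Bn_zero] at h2
  exact h2

end transfer

/-! ### the count -/
section count

variable {k : Type u} [Field k]
  {R : Type u} [CommRing R] [Algebra k R] {𝒜 : ℤ → Submodule k R} [GradedAlgebra 𝒜]
  {S : Type u} [CommRing S] [Algebra k S] {ℬ : ℤ → Submodule k S} [GradedAlgebra ℬ]
  {M : Type u} [AddCommGroup M] [Module R M] {ℳ : ℤ → AddSubgroup M} [Decomposition ℳ]
  [SetLike.GradedSMul 𝒜 ℳ] (EM : StarInjRes (toAS 𝒜) ℳ)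
  {N : Type u} [AddCommGroup N] [Module S N] {𝒩 : ℤ → AddSubgroup N} [Decomposition 𝒩]
  [SetLike.GradedSMul ℬ 𝒩] (EN : StarInjRes (toAS ℬ) 𝒩)

theorem count_of_transfers (a : Ideal R) (b : Ideal S) (d : ℤ) (q : ℕ)
    (zA' : (gdE EM).Zn (AA' EM a d) 0 = ⊥) (zB' : (gdE EN).Zn (AA' EN b d) 0 = ⊥)
    (nA : ℕ → ℕ)
    (hnA : ∀ (i : ℕ) (ℋ : Submodule k (bigX EM).carrier), (gdE EM).Rep (AA' EM a d) i ℋ →
      Module.finrank k ↥ℋ = nA i ∧ Module.Finite k ↥ℋ)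
    (nB : ℕ → ℕ)
    (hnB : ∀ (j : ℕ) (ℋ : Submodule k (bigX EN).carrier), (gdE EN).Rep (AA' EN b d) j ℋ →
      Module.finrank k ↥ℋ = nB j ∧ Module.Finite k ↥ℋ)
    (nM : ℕ)
    (hnM : Module.finrank k ↥((gdE EM).Zn (AA EM d) 0) = nM ∧
      Module.Finite k ↥((gdE EM).Zn (AA EM d) 0))
    (nN : ℕ)
    (hnN : Module.finrank k ↥((gdE EN).Zn (AA EN d) 0) = nN ∧
      Module.Finite k ↥((gdE EN).Zn (AA EN d) 0))
    (nK : ℕ)
    (hnK : ∀ ℋ : Submodule k ((bigX EM).carrier ⊗[k] (bigX EN).carrier),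
      (tens (gdE EM) (gdE EN)).Rep
        (T2 (AA' EM a d) (AA EN d) ⊔ T2 (AA EM d) (AA' EN b d)) q ℋ →
      Module.finrank k ↥ℋ = nK) :
    nK = nM * nB q + nA q * nN + (Finset.range (q + 2)).sum (fun i => nA i * nB (q + 1 - i)) := by
  obtain ⟨ℋA, ℋB, ℋK, hA, hB, hK, hcount⟩ := mv_count (gdE EM) (gdE EN) (stable_AA' EM a d)
    (stable_AA EM d) (AA'_le EM a d) (stable_AA' EN b d) (stable_AA EN d) (AA'_le EN b d)
    (exact_AA EM d) (exact_AA EN d) zA' zB' (fun i ℋ h => (hnA i ℋ h).2)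
    (fun j ℋ h => (hnB j ℋ h).2) hnM.2 hnN.2 q
  have hsum : ∑ p ∈ Finset.HasAntidiagonal.antidiagonal (q + 1),
      Module.finrank k ↥(ℋA p.1) * Module.finrank k ↥(ℋB p.2) =
      (Finset.range (q + 2)).sum (fun i => nA i * nB (q + 1 - i)) := by
    rw [Finset.Nat.sum_antidiagonal_eq_sum_range_succ_mk]
    refine Finset.sum_congr rfl (fun i _ => ?_)
    show Module.finrank k ↥(ℋA i) * Module.finrank k ↥(ℋB (q + 1 - i)) = _
    rw [(hnA i _ (hA i)).1, (hnB _ _ (hB _)).1]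
  rw [← hnK ℋK hK, hcount, hsum, (hnA q _ (hA q)).1, (hnB q _ (hB q)).1, hnM.1, hnN.1,
    add_comm (nA q * nN) (nM * nB q)]

end count

/-! ### S19765 -/

theorem main19765 (k : Type u) [Field k] (R : Type u) [CommRing R] [Nontrivial R] [Algebra k R]
    (𝒜 : ℤ → Submodule k R) [GradedAlgebra 𝒜] (hposR : ∀ n : ℤ, n < 0 → 𝒜 n = ⊥)
    (h0R : 𝒜 0 = Submodule.span k {(1 : R)}) [Algebra.FiniteType k R]
    (S : Type u) [CommRing S] [Nontrivial S] [Algebra k S] (ℬ : ℤ → Submodule k S)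
    [GradedAlgebra ℬ] (hposS : ∀ n : ℤ, n < 0 → ℬ n = ⊥)
    (h0S : ℬ 0 = Submodule.span k {(1 : S)}) [Algebra.FiniteType k S]
    (T : Type u) [CommRing T] [Algebra k T] (𝒯 : ℤ → Submodule k T) [GradedAlgebra 𝒯]
    (ψ : T →ₐ[k] TensorProduct k R S) (hT : GrSeg.IsSegreRing 𝒜 ℬ 𝒯 ψ)
    (mR : HomogeneousIdeal 𝒜)
    (hmR : mR.toIdeal = Ideal.span (⋃ n ∈ Set.Ioi (0 : ℤ), (𝒜 n : Set R)))
    (mS : HomogeneousIdeal ℬ)
    (hmS : mS.toIdeal = Ideal.span (⋃ n ∈ Set.Ioi (0 : ℤ), (ℬ n : Set S)))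
    (mT : HomogeneousIdeal 𝒯)
    (hmT : mT.toIdeal = Ideal.span (⋃ n ∈ Set.Ioi (0 : ℤ), (𝒯 n : Set T)))
    (M : Type u) [AddCommGroup M] [Module R M] [Module k M] [IsScalarTower k R M]
    (ℳ : ℤ → AddSubgroup M) [DirectSum.Decomposition ℳ] [SetLike.GradedSMul 𝒜 ℳ]
    [Module.Finite R M] (EM : GrLC.StarInjRes 𝒜 ℳ)
    (N : Type u) [AddCommGroup N] [Module S N] [Module k N] [IsScalarTower k S N]
    (𝒩 : ℤ → AddSubgroup N) [DirectSum.Decomposition 𝒩] [SetLike.GradedSMul ℬ 𝒩]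
    [Module.Finite S N] (EN : GrLC.StarInjRes ℬ 𝒩)
    (P : Type u) [AddCommGroup P] [Module T P] [Module k P] [IsScalarTower k T P]
    (𝒬 : ℤ → AddSubgroup P) [DirectSum.Decomposition 𝒬] [SetLike.GradedSMul 𝒯 𝒬]
    (φ : P →ₗ[k] TensorProduct k M N) (hP : GrSeg.IsSegreMod ψ ℳ 𝒩 𝒬 φ)
    (EP : GrLC.StarInjRes 𝒯 𝒬)
    (hM : ∀ (q : ℕ) (d : ℤ), q ≤ 1 → EM.Hcomp mR q d = ⊥)
    (hN : ∀ (q : ℕ) (d : ℤ), q ≤ 1 → EN.Hcomp mS q d = ⊥) (q : ℕ) (d : ℤ) :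
    Module.finrank (GrLC.deg0 𝒯) (EP.Hcomp mT q d) =
      Module.finrank (GrLC.deg0 𝒜) (GrLC.comp 𝒜 ℳ d) *
          Module.finrank (GrLC.deg0 ℬ) (EN.Hcomp mS q d) +
        Module.finrank (GrLC.deg0 𝒜) (EM.Hcomp mR q d) *
          Module.finrank (GrLC.deg0 ℬ) (GrLC.comp ℬ 𝒩 d) +
        (Finset.range (q + 2)).sum (fun i => Module.finrank (GrLC.deg0 𝒜) (EM.Hcomp mR i d) *
          Module.finrank (GrLC.deg0 ℬ) (EN.Hcomp mS (q + 1 - i) d)) := by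
  haveI : IsNoetherianRing R := Algebra.FiniteType.isNoetherianRing k R
  haveI : IsNoetherianRing S := Algebra.FiniteType.isNoetherianRing k S
  haveI : IsNoetherianRing T := Groth.Agent.Lib.SegreNoeth.main 𝒜 ℬ 𝒯 ψ hT.2 hT.1
  haveI : Nontrivial T := nontrivial_T hT
  have h0T := deg_zero_T hT h0R h0S
  have hDT : ∀ r : T, r ∈ deg0 𝒯 ↔ ∃ c : k, algebraMap k T c = r := fun r => mem_zero_iff h0T r
  refine count_of_transfers (resASM 𝒜 ℳ EM) (resASM ℬ 𝒩 EN) (idealAS 𝒜 mR).toIdeal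
    (idealAS ℬ mS).toIdeal d q
    (Zn_zero_eq_bot (idealAS 𝒜 mR) (resASM 𝒜 ℳ EM) d (fun x hx => by
      have h : x ∈ EM.Hcomp mR 0 d := hx
      rw [hM 0 d zero_le_one] at h
      exact (Submodule.mem_bot _).1 h))
    (Zn_zero_eq_bot (idealAS ℬ mS) (resASM ℬ 𝒩 EN) d (fun x hx => by
      have h : x ∈ EN.Hcomp mS 0 d := hx
      rw [hN 0 d zero_le_one] at h
      exact (Submodule.mem_bot _).1 h))
    (fun i => Module.finrank (deg0 𝒜) (EM.Hcomp mR i d))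
    (fun i ℋ h => transfer_H hposR h0R (idealAS 𝒜 mR) hmR (resASM 𝒜 ℳ EM) d (deg0 𝒜)
      (fun r => Iff.rfl) i (EM.Hcomp mR i d) (fun x => Iff.rfl) ℋ h)
    (fun j => Module.finrank (deg0 ℬ) (EN.Hcomp mS j d))
    (fun j ℋ h => transfer_H hposS h0S (idealAS ℬ mS) hmS (resASM ℬ 𝒩 EN) d (deg0 ℬ)
      (fun r => Iff.rfl) j (EN.Hcomp mS j d) (fun x => Iff.rfl) ℋ h)
    (Module.finrank (deg0 𝒜) (comp 𝒜 ℳ d))
    (transfer_comp hposR h0R (resASM 𝒜 ℳ EM) d (deg0 𝒜) (fun r => Iff.rfl) (comp 𝒜 ℳ d)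
      (fun x => Iff.rfl))
    (Module.finrank (deg0 ℬ) (comp ℬ 𝒩 d))
    (transfer_comp hposS h0S (resASM ℬ 𝒩 EN) d (deg0 ℬ) (fun r => Iff.rfl) (comp ℬ 𝒩 d)
      (fun x => Iff.rfl))
    (Module.finrank (deg0 𝒯) (EP.Hcomp mT q d)) ?_
  intro ℋ hℋ
  obtain ⟨F, hsm, hmem, hsurj, hker⟩ := exists_bridge hT (resASM 𝒜 ℳ EM) (resASM ℬ 𝒩 EN) mR mS
    mT hmR hmS hmT q 𝒬 φ hP (resASM 𝒯 𝒬 EP) d
  exact (rep_transfer_sub (deg0 𝒯) hDT (tens _ _) hℋ (EP.Hcomp mT q d) F hsm hmem hsurj hker).1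

end Groth.Agent.Lib.SegKun3H1
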