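import Mathlib
import Groth.Prelude.Def_GrSeg
import Groth.Agent.Lib.SegreFin_helper3

/-!
# Number of generators of `R(a) # S(b)` over `R # S` (helper3)

For standard graded `R`, `S` over a field and `a ≥ b`, `(R(a) # S(b)) / T_+ (R(a) # S(b))` is
isomorphic to `R_{a-b}`.
APPEND-ONLY once landed.
-/

set_option autoImplicit false

namespace Groth.Agent.Lib.SegreH3

universe u

open scoped TensorProduct
open DirectSum

section Std

variable {k : Type u} [Field k] {R : Type u} [CommRing R] [Algebra k R]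
  (𝒜 : ℤ → Submodule k R) [GradedAlgebra 𝒜]

theorem mem_span_mul_of_std
    (hstd : Ideal.span (⋃ n ∈ Set.Ioi (0 : ℤ), (𝒜 n : Set R)) =
      Ideal.span ((𝒜 1 : Submodule k R) : Set R)) (i : ℤ) (hi : 0 ≤ i) {r : R}
    (hr : r ∈ 𝒜 (i + 1)) :
    r ∈ Submodule.span k {z | ∃ x ∈ 𝒜 1, ∃ c ∈ 𝒜 i, z = x * c} := by
  have h1 : r ∈ Ideal.span (⋃ n ∈ Set.Ioi (0 : ℤ), (𝒜 n : Set R)) :=
    Ideal.subset_span (Set.mem_iUnion₂.2 ⟨i + 1, Set.mem_Ioi.2 (by omega), hr⟩)
  rw [hstd] at h1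
  obtain ⟨c, hc, hsum⟩ := Submodule.mem_span_set.1 h1
  have h2 : r = ∑ x ∈ c.support, ((decompose 𝒜 (c x) i : 𝒜 i) : R) * x := by
    have h3 := congrArg (GradedAlgebra.proj 𝒜 (i + 1)) hsum
    rw [GradedAlgebra.proj_apply 𝒜 (i + 1) r, decompose_of_mem_same 𝒜 hr] at h3
    rw [← h3, Finsupp.sum, map_sum]
    refine Finset.sum_congr rfl fun x hx => ?_
    rw [GradedAlgebra.proj_apply, smul_eq_mul]
    exact DirectSum.coe_decompose_mul_add_of_right_mem 𝒜 (hc (Finset.mem_coe.2 hx))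
  rw [h2]
  exact Submodule.sum_mem _ fun x hx => Submodule.subset_span
    ⟨x, hc (Finset.mem_coe.2 hx), _, SetLike.coe_mem _, mul_comm _ _⟩

end Std

section Self

variable (k : Type u) [Field k] (R : Type u) [CommRing R] [Algebra k R]
  (S : Type u) [CommRing S] [Algebra k S]

theorem act_self (a w : TensorProduct k R S) : GrSeg.act k R S R S a w = a * w := by
  induction a using TensorProduct.induction_on with
  | zero => simp
  | tmul r s =>
    induction w using TensorProduct.induction_on with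
    | zero => simp
    | tmul r' s' =>
      rw [GrSeg.act_tmul, Algebra.TensorProduct.tmul_mul_tmul, smul_eq_mul, smul_eq_mul]
    | add x y hx hy => rw [map_add, hx, hy, mul_add]
  | add x y hx hy => rw [map_add, LinearMap.add_apply, hx, hy, add_mul]

end Self

section Main

variable (k : Type u) [Field k] (R : Type u) [CommRing R] [Algebra k R]
  (𝒜 : ℤ → Submodule k R) [GradedAlgebra 𝒜]
  (S : Type u) [CommRing S] [Algebra k S] (ℬ : ℤ → Submodule k S) [GradedAlgebra ℬ]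
  (hposS : ∀ n : ℤ, n < 0 → ℬ n = ⊥) (h0S : ℬ 0 = Submodule.span k {(1 : S)})
  (T : Type u) [CommRing T] [Algebra k T] (𝒯 : ℤ → Submodule k T) [GradedAlgebra 𝒯]
  (ψ : T →ₐ[k] TensorProduct k R S) (hT : GrSeg.IsSegreRing 𝒜 ℬ 𝒯 ψ)
  (hstdR : Ideal.span (⋃ n ∈ Set.Ioi (0 : ℤ), (𝒜 n : Set R)) =
    Ideal.span ((𝒜 1 : Submodule k R) : Set R))
  (hstdS : Ideal.span (⋃ n ∈ Set.Ioi (0 : ℤ), (ℬ n : Set S)) =
    Ideal.span ((ℬ 1 : Submodule k S) : Set S))
  [Nontrivial S]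
  (a b : ℤ) (hab : b ≤ a)
  (P : Type u) [AddCommGroup P] [Module T P] [Module k P] [IsScalarTower k T P]
  (𝒬 : ℤ → AddSubgroup P) [DirectSum.Decomposition 𝒬]
  (φ : P →ₗ[k] TensorProduct k R S)
  (hP : GrSeg.IsSegreMod ψ (fun n : ℤ => 𝒜 (n + a)) (fun n : ℤ => ℬ (n + b)) 𝒬 φ)

/-- the projection onto bidegree `(a - b, 0)` kills `u * w` for `u` of bidegree `(l, l)`,
`l > 0` -/
theorem biprojA_mul_eq_zero (hposS : ∀ n : ℤ, n < 0 → ℬ n = ⊥) (c : ℤ) (l : ℤ) (hl : 0 < l)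
    {u : TensorProduct k R S}
    (hu : u ∈ GrSeg.segrePiece k 𝒜 ℬ l) (w : TensorProduct k R S) :
    biprojA 𝒜 ℬ c 0 (u * w) = 0 := by
  unfold GrSeg.segrePiece at hu
  refine Submodule.span_induction
    (p := fun u _ => biprojA 𝒜 ℬ c 0 (u * w) = 0) ?_ ?_ ?_ ?_ hu
  · rintro _ ⟨r, _, s, hs, rfl⟩
    induction w using TensorProduct.induction_on with
    | zero => simp
    | tmul r' s' =>
      rw [Algebra.TensorProduct.tmul_mul_tmul]
      unfold biprojA
      rw [TensorProduct.map_tmul]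
      have h1 : GradedAlgebra.proj ℬ 0 (s * s') = 0 := by
        rw [GradedAlgebra.proj_apply]
        have h2 : (0 : ℤ) = l + (-l) := by ring
        rw [h2, DirectSum.coe_decompose_mul_add_of_left_mem ℬ hs]
        have h5 : ∀ z ∈ ℬ (-l), z = 0 := by
          intro z hz
          rw [hposS (-l) (by omega)] at hz
          exact (Submodule.mem_bot k).1 hz
        have h3 : ((decompose ℬ s' (-l) : ℬ (-l)) : S) = 0 := h5 _ (SetLike.coe_mem _)
        rw [h3, mul_zero]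
      rw [h1, TensorProduct.tmul_zero]
    | add x y hx hy => rw [mul_add, map_add, hx, hy, add_zero]
  · rw [zero_mul, map_zero]
  · intro x y _ _ hx hy
    rw [add_mul, map_add, hx, hy, add_zero]
  · intro d x _ hx
    rw [smul_mul_assoc, map_smul, hx, smul_zero]

include hT hP hposS in
theorem biproj_phi_eq_zero (q : P)
    (hq : q ∈ (Ideal.span (⋃ n ∈ Set.Ioi (0 : ℤ), (𝒯 n : Set T)) • (⊤ : Submodule T P))) :
    biprojA 𝒜 ℬ (a - b) 0 (φ q) = 0 := by
  have key : ∀ t ∈ Ideal.span (⋃ n ∈ Set.Ioi (0 : ℤ), (𝒯 n : Set T)), ∀ p : P,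
      biprojA 𝒜 ℬ (a - b) 0 (φ (t • p)) = 0 := by
    intro t ht
    refine Submodule.span_induction
      (p := fun t _ => ∀ p : P, biprojA 𝒜 ℬ (a - b) 0 (φ (t • p)) = 0) ?_ ?_ ?_ ?_ ht
    · intro t ht p
      obtain ⟨l, hl, htl⟩ := Set.mem_iUnion₂.1 ht
      have h1 : ψ t ∈ GrSeg.segrePiece k 𝒜 ℬ l := by
        rw [← hT.2 l]
        exact ⟨t, htl, rfl⟩
      rw [hP.map_smul, act_self]
      exact biprojA_mul_eq_zero k R 𝒜 S ℬ hposS (a - b) l (Set.mem_Ioi.1 hl) h1 _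
    · intro p
      rw [zero_smul, map_zero, map_zero]
    · intro x y _ _ hx hy p
      rw [add_smul, map_add, map_add, hx, hy, add_zero]
    · intro c x _ hx p
      rw [smul_eq_mul, mul_comm, mul_smul]
      exact hx _
  refine Submodule.smul_induction_on hq ?_ ?_
  · intro t ht p _
    exact key t ht p
  · intro x y hx hy
    rw [map_add, map_add, hx, hy, add_zero]

include hT hP hstdR hstdS in
theorem mem_smul_top_of_pos (n : ℤ) (hn : 1 ≤ n + b) (hab : b ≤ a) (p : P) (hp : p ∈ 𝒬 n) :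
    p ∈ (Ideal.span (⋃ n ∈ Set.Ioi (0 : ℤ), (𝒯 n : Set T)) • (⊤ : Submodule T P)) := by
  set I := Ideal.span (⋃ n ∈ Set.Ioi (0 : ℤ), (𝒯 n : Set T)) with hI
  let G : Submodule k (TensorProduct k R S) :=
    ((I • (⊤ : Submodule T P)).restrictScalars k).map φ
  have hG : ∀ w, w ∈ G ↔ ∃ q ∈ (I • (⊤ : Submodule T P)), φ q = w := by
    intro w
    constructor
    · rintro ⟨q, hq, rfl⟩
      exact ⟨q, hq, rfl⟩
    · rintro ⟨q, hq, rfl⟩
      exact ⟨q, hq, rfl⟩
  -- generators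
  have hgen : ∀ x ∈ 𝒜 1, ∀ c ∈ 𝒜 (n + a - 1), ∀ y ∈ ℬ 1, ∀ c' ∈ ℬ (n + b - 1),
      (x * c) ⊗ₜ[k] (y * c') ∈ G := by
    intro x hx c hc y hy c' hc'
    have h1 : x ⊗ₜ[k] y ∈ GrSeg.segrePiece k 𝒜 ℬ 1 :=
      Submodule.subset_span ⟨x, hx, y, hy, rfl⟩
    rw [← hT.2 1] at h1
    obtain ⟨t, ht, htxy⟩ := h1
    have htxy' : ψ t = x ⊗ₜ[k] y := htxy
    have h2 : c ⊗ₜ[k] c' ∈ GrSeg.segrePiece k (fun n : ℤ => 𝒜 (n + a))
        (fun n : ℤ => ℬ (n + b)) (n - 1) := by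
      refine Submodule.subset_span ⟨c, ?_, c', ?_, rfl⟩
      · show c ∈ 𝒜 (n - 1 + a)
        have : n - 1 + a = n + a - 1 := by ring
        rw [this]; exact hc
      · show c' ∈ ℬ (n - 1 + b)
        have : n - 1 + b = n + b - 1 := by ring
        rw [this]; exact hc'
    rw [← SetLike.mem_coe, ← hP.image_piece (n - 1)] at h2
    obtain ⟨p', _, hp'⟩ := h2
    rw [hG]
    refine ⟨t • p', Submodule.smul_mem_smul (Ideal.subset_span
      (Set.mem_iUnion₂.2 ⟨1, Set.mem_Ioi.2 one_pos, ht⟩)) Submodule.mem_top, ?_⟩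
    rw [hP.map_smul, act_self, htxy', hp', Algebra.TensorProduct.tmul_mul_tmul]
  have hall : ∀ r ∈ 𝒜 (n + a), ∀ s ∈ ℬ (n + b), r ⊗ₜ[k] s ∈ G := by
    intro r hr s hs
    have hr' : r ∈ 𝒜 (n + a - 1 + 1) := by rw [sub_add_cancel]; exact hr
    have hs' : s ∈ ℬ (n + b - 1 + 1) := by rw [sub_add_cancel]; exact hs
    have hr2 := mem_span_mul_of_std 𝒜 hstdR (n + a - 1) (by omega) hr'
    have hs2 := mem_span_mul_of_std ℬ hstdS (n + b - 1) (by omega) hs'
    refine Submodule.span_induction (p := fun r _ => r ⊗ₜ[k] s ∈ G) ?_ ?_ ?_ ?_ hr2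
    · rintro _ ⟨x, hx, c, hc, rfl⟩
      refine Submodule.span_induction (p := fun s _ => (x * c) ⊗ₜ[k] s ∈ G) ?_ ?_ ?_ ?_ hs2
      · rintro _ ⟨y, hy, c', hc', rfl⟩
        exact hgen x hx c hc y hy c' hc'
      · rw [TensorProduct.tmul_zero]; exact zero_mem _
      · intro u v _ _ hu hv
        rw [TensorProduct.tmul_add]; exact add_mem hu hv
      · intro d u _ hu
        rw [TensorProduct.tmul_smul]; exact Submodule.smul_mem _ _ hu
    · rw [TensorProduct.zero_tmul]; exact zero_mem _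
    · intro u v _ _ hu hv
      rw [TensorProduct.add_tmul]; exact add_mem hu hv
    · intro d u _ hu
      rw [← TensorProduct.smul_tmul']; exact Submodule.smul_mem _ _ hu
  have hseg : GrSeg.segrePiece k (fun n : ℤ => 𝒜 (n + a)) (fun n : ℤ => ℬ (n + b)) n ≤ G := by
    unfold GrSeg.segrePiece
    rw [Submodule.span_le]
    rintro _ ⟨r, hr, s, hs, rfl⟩
    exact hall r hr s hs
  have h3 : φ p ∈ G := by
    apply hseg
    rw [← SetLike.mem_coe, ← hP.image_piece n]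
    exact ⟨p, hp, rfl⟩
  obtain ⟨q, hq, hqp⟩ := (hG _).1 h3
  rw [← hP.injective hqp]
  exact hq

include hP hposS in
theorem eq_zero_of_neg (n : ℤ) (hn : n + b < 0) (p : P) (hp : p ∈ 𝒬 n) : p = 0 := by
  have h1 : φ p ∈ GrSeg.segrePiece k (fun n : ℤ => 𝒜 (n + a)) (fun n : ℤ => ℬ (n + b)) n := by
    rw [← SetLike.mem_coe, ← hP.image_piece n]
    exact ⟨p, hp, rfl⟩
  have h2 : GrSeg.segrePiece k (fun n : ℤ => 𝒜 (n + a)) (fun n : ℤ => ℬ (n + b)) n ≤ ⊥ := by
    unfold GrSeg.segrePiece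
    rw [Submodule.span_le]
    rintro _ ⟨r, _, s, hs, rfl⟩
    have hs' : s ∈ ℬ (n + b) := hs
    rw [hposS _ hn, Submodule.mem_bot] at hs'
    rw [hs', TensorProduct.tmul_zero]
    exact Submodule.zero_mem _
  have h3 := h2 h1
  rw [Submodule.mem_bot] at h3
  apply hP.injective
  rw [h3, map_zero]

include hP h0S in
theorem exists_tmul_one (p : P) (hp : p ∈ 𝒬 (-b)) : ∃ r ∈ 𝒜 (a - b), φ p = r ⊗ₜ[k] (1 : S) := by
  have h1 : φ p ∈ GrSeg.segrePiece k (fun n : ℤ => 𝒜 (n + a)) (fun n : ℤ => ℬ (n + b))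
      (-b) := by
    rw [← SetLike.mem_coe, ← hP.image_piece (-b)]
    exact ⟨p, hp, rfl⟩
  unfold GrSeg.segrePiece at h1
  refine Submodule.span_induction
    (p := fun w _ => ∃ r ∈ 𝒜 (a - b), w = r ⊗ₜ[k] (1 : S)) ?_ ?_ ?_ ?_ h1
  · rintro _ ⟨r, hr, s, hs, rfl⟩
    have hr' : r ∈ 𝒜 (a - b) := by
      have h2 : r ∈ 𝒜 (-b + a) := hr
      have : -b + a = a - b := by ring
      rwa [this] at h2
    have hs' : s ∈ ℬ 0 := by
      have h2 : s ∈ ℬ (-b + b) := hs
      rwa [neg_add_cancel] at h2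
    rw [h0S, Submodule.mem_span_singleton] at hs'
    obtain ⟨c, rfl⟩ := hs'
    refine ⟨c • r, Submodule.smul_mem _ _ hr', ?_⟩
    rw [TensorProduct.tmul_smul, TensorProduct.smul_tmul']
  · exact ⟨0, zero_mem _, (TensorProduct.zero_tmul _ _).symm⟩
  · rintro x y _ _ ⟨r, hr, rfl⟩ ⟨r', hr', rfl⟩
    exact ⟨r + r', add_mem hr hr', (TensorProduct.add_tmul _ _ _).symm⟩
  · rintro c x _ ⟨r, hr, rfl⟩
    exact ⟨c • r, Submodule.smul_mem _ _ hr, TensorProduct.smul_tmul' _ _ _⟩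

include hT hP hposS h0S hstdR hstdS hab in
theorem finrank_quotient :
    Module.finrank k (P ⧸ (Ideal.span (⋃ n ∈ Set.Ioi (0 : ℤ), (𝒯 n : Set T)) •
      (⊤ : Submodule T P))) = Module.finrank k (𝒜 (a - b)) := by
  classical
  set I := Ideal.span (⋃ n ∈ Set.Ioi (0 : ℤ), (𝒯 n : Set T)) with hI
  let φe : P ≃ₗ[k] LinearMap.range φ := LinearEquiv.ofInjective φ hP.injective
  have hφe : ∀ y : LinearMap.range φ, φ (φe.symm y) = (y : TensorProduct k R S) := by
    intro y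
    exact congrArg Subtype.val (φe.apply_symm_apply y)
  have hrange : ∀ r ∈ 𝒜 (a - b), r ⊗ₜ[k] (1 : S) ∈ LinearMap.range φ := by
    intro r hr
    have h1 : r ⊗ₜ[k] (1 : S) ∈ GrSeg.segrePiece k (fun n : ℤ => 𝒜 (n + a))
        (fun n : ℤ => ℬ (n + b)) (-b) := by
      refine Submodule.subset_span ⟨r, ?_, 1, ?_, rfl⟩
      · show r ∈ 𝒜 (-b + a)
        have : -b + a = a - b := by ring
        rw [this]; exact hr
      · show (1 : S) ∈ ℬ (-b + b)
        rw [neg_add_cancel]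
        exact SetLike.one_mem_graded ℬ
    rw [← SetLike.mem_coe, ← hP.image_piece (-b)] at h1
    obtain ⟨p, _, hp⟩ := h1
    exact ⟨p, hp⟩
  let ι : 𝒜 (a - b) →ₗ[k] LinearMap.range φ :=
    LinearMap.codRestrict (LinearMap.range φ)
      (((TensorProduct.mk k R S).flip 1).comp (𝒜 (a - b)).subtype) (fun r => hrange r r.2)
  have hι : ∀ r : 𝒜 (a - b), ((ι r : LinearMap.range φ) : TensorProduct k R S) =
      (r : R) ⊗ₜ[k] (1 : S) := fun r => rfl
  let mk' : P →ₗ[k] (P ⧸ (I • (⊤ : Submodule T P))) :=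
    (Submodule.mkQ (I • (⊤ : Submodule T P))).restrictScalars k
  have hmk' : ∀ p, mk' p = Submodule.Quotient.mk p := fun p => rfl
  let Φ : 𝒜 (a - b) →ₗ[k] (P ⧸ (I • (⊤ : Submodule T P))) :=
    mk' ∘ₗ φe.symm.toLinearMap ∘ₗ ι
  have hΦ : ∀ r, Φ r = Submodule.Quotient.mk (φe.symm (ι r)) := fun r => rfl
  obtain ⟨lam, hlam⟩ := Module.Projective.exists_dual_eq_one k (one_ne_zero : (1 : S) ≠ 0)
  have hinj : Function.Injective Φ := by
    rw [← LinearMap.ker_eq_bot, LinearMap.ker_eq_bot']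
    intro r hr
    rw [hΦ, Submodule.Quotient.mk_eq_zero] at hr
    have h1 := biproj_phi_eq_zero k R 𝒜 S ℬ hposS T 𝒯 ψ hT a b P 𝒬 φ hP _ hr
    rw [hφe, hι] at h1
    unfold biprojA at h1
    rw [TensorProduct.map_tmul, GradedAlgebra.proj_apply, GradedAlgebra.proj_apply,
      decompose_of_mem_same 𝒜 r.2, decompose_of_mem_same ℬ (SetLike.one_mem_graded ℬ)] at h1
    have h2 := congrArg (fun w => TensorProduct.rid k R (TensorProduct.map LinearMap.id lam w)) h1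
    simp only [TensorProduct.map_tmul, LinearMap.id_apply, TensorProduct.rid_tmul, hlam,
      one_smul, map_zero] at h2
    exact Subtype.ext h2
  have hsurj : Function.Surjective Φ := by
    intro q
    obtain ⟨p, rfl⟩ := Submodule.Quotient.mk_surjective _ q
    suffices h : mk' p ∈ LinearMap.range Φ by
      obtain ⟨r, hr⟩ := h
      exact ⟨r, hr⟩
    refine DirectSum.Decomposition.inductionOn 𝒬
      (motive := fun p => mk' p ∈ LinearMap.range Φ) ?_ ?_ ?_ p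
    · rw [map_zero]; exact zero_mem _
    · intro n m
      rcases lt_trichotomy (n + b) 0 with hn | hn | hn
      · rw [eq_zero_of_neg k R 𝒜 S ℬ hposS T ψ a b P 𝒬 φ hP n hn m m.2, map_zero]
        exact zero_mem _
      · have hnb : n = -b := by omega
        have hm : (m : P) ∈ 𝒬 (-b) := by rw [← hnb]; exact m.2
        obtain ⟨r, hr, hrm⟩ := exists_tmul_one k R 𝒜 S ℬ h0S T ψ a b P 𝒬 φ hP m hm
        refine ⟨⟨r, hr⟩, ?_⟩
        rw [hΦ, hmk']
        congr 1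
        apply hP.injective
        rw [hφe, hι, hrm]
      · have hm := mem_smul_top_of_pos k R 𝒜 S ℬ T 𝒯 ψ hT hstdR hstdS a b P 𝒬 φ hP n
          (by omega) hab m m.2
        rw [hmk', (Submodule.Quotient.mk_eq_zero _).2 hm]
        exact zero_mem _
    · intro m m' hm hm'
      rw [map_add]; exact add_mem hm hm'
  exact (LinearEquiv.finrank_eq (LinearEquiv.ofBijective Φ ⟨hinj, hsurj⟩)).symm

end Main

end Groth.Agent.Lib.SegreH3
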