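import Mathlib
import Groth.Prelude.Def_GrLC
import Groth.Prelude.Def_GrSeg
import Groth.Agent.Lib.SegKun3_helper1
import Groth.Agent.Lib.SegreGen_helper3

/-! The Künneth formula for the graded local cohomology of a Segre product of two graded rings of
depth at least two, as an equality of dimensions (Goto–Watanabe) (helper1).
APPEND-ONLY once landed. -/

set_option autoImplicit false

namespace Groth.Agent.Lib.SegKun4H1

open scoped TensorProduct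
open DirectSum GrLC Groth.Agent.Lib.SegreH3 Groth.Agent.Lib.SegF1H1 Groth.Agent.Lib.SegF2H1
  Groth.Agent.Lib.TCrdH1 Groth.Agent.Lib.DivH1 Groth.Agent.Lib.GrAcycH1
  Groth.Agent.Lib.SegTorsH1 Groth.Agent.Lib.GrXferH1 Groth.Agent.Lib.GrLES1H1
  Groth.Agent.Lib.GrLES2H1 Groth.Agent.Lib.SegAcycH1 Groth.Agent.Lib.DVecH1
  Groth.Agent.Lib.BigResH1 Groth.Agent.Lib.SegAcyc2H1 Groth.Agent.Lib.SegGamH1
  Groth.Agent.Lib.ARTH1 Groth.Agent.Lib.SegKunH1 Groth.Agent.Lib.SegTotH1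
  Groth.Agent.Lib.GrTens3H1 Groth.Agent.Lib.SegKun3H1

universe u

attribute [local instance] kMod kTower gsmulX

section self

variable {k : Type u} [Field k] {R : Type u} [CommRing R] [Nontrivial R] [Algebra k R]
  [IsNoetherianRing R] {𝒜 : ℤ → Submodule k R} [GradedAlgebra 𝒜]
  (hpos : ∀ n : ℤ, n < 0 → 𝒜 n = ⊥) (h0 : 𝒜 0 = Submodule.span k {(1 : R)})
  [SetLike.GradedSMul 𝒜 (toAS 𝒜)] (E : StarInjRes (toAS 𝒜) (toAS 𝒜)) (d : ℤ)

include hpos h0 in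
theorem transfer_comp_self :
    Module.finrank k ↥((gdE E).Zn (AA E d) 0) = Module.finrank k ↥(𝒜 d) ∧
      Module.Finite k ↥((gdE E).Zn (AA E d) 0) := by
  have h1 := transfer_comp hpos h0 E d (deg0 𝒜) (fun r => Iff.rfl) (comp 𝒜 (toAS 𝒜) d)
    (fun x => Iff.rfl)
  refine ⟨?_, h1.2⟩
  let F' : ↥((gdE E).Zn (AA E d) 0) →+ ↥(𝒜 d) :=
    (br0 E d).codRestrict (𝒜 d) (fun z => br0_mem E d z)
  have hsm' : ∀ (c : k) (z : ↥((gdE E).Zn (AA E d) 0)), F' (c • z) = (id c : k) • F' z := by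
    intro c z
    apply Subtype.ext
    show br0 E d (c • z) = c • br0 E d z
    rw [br0_smul, algebraMap_smul]
  have hsurj' : Function.Surjective F' := by
    rintro ⟨r, hr⟩
    obtain ⟨z, hz⟩ := br0_surj E d r hr
    exact ⟨z, Subtype.ext hz⟩
  have hker' : ∀ z : ↥((gdE E).Zn (AA E d) 0), F' z = 0 ↔
      (z : (bigX E).carrier) ∈ (gdE E).Bn (AA E d) 0 := by
    intro z
    rw [← br0_ker E d z]
    constructor
    · intro h
      exact congrArg Subtype.val h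
    · intro h
      exact Subtype.ext h
  exact (rep_transfer (gdE E) ((gdE E).rep_zero (AA E d)) (id : k → k) Function.bijective_id F'
    hsm' hsurj' hker').1

end self

theorem main18673 (k : Type u) [Field k] (R : Type u) [CommRing R] [Nontrivial R] [Algebra k R]
    (𝒜 : ℤ → Submodule k R) [GradedAlgebra 𝒜] (hposR : ∀ n : ℤ, n < 0 → 𝒜 n = ⊥)
    (h0R : 𝒜 0 = Submodule.span k {(1 : R)}) [Algebra.FiniteType k R]
    (S : Type u) [CommRing S] [Nontrivial S] [Algebra k S] (ℬ : ℤ → Submodule k S)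
    [GradedAlgebra ℬ] (hposS : ∀ n : ℤ, n < 0 → ℬ n = ⊥)
    (h0S : ℬ 0 = Submodule.span k {(1 : S)}) [Algebra.FiniteType k S]
    (T : Type u) [CommRing T] [Algebra k T] (𝒯 : ℤ → Submodule k T) [GradedAlgebra 𝒯]
    (ψ : T →ₐ[k] TensorProduct k R S) (hψ : Function.Injective ψ)
    (hdegT : ∀ n : ℤ, (𝒯 n).map ψ.toLinearMap =
      Submodule.span k {x : TensorProduct k R S | ∃ a ∈ 𝒜 n, ∃ b ∈ ℬ n, x = a ⊗ₜ[k] b})
    (mR : HomogeneousIdeal 𝒜)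
    (hmR : mR.toIdeal = Ideal.span (⋃ n ∈ Set.Ioi (0 : ℤ), (𝒜 n : Set R)))
    (I : GrLC.StarInjRes 𝒜 𝒜) (mS : HomogeneousIdeal ℬ)
    (hmS : mS.toIdeal = Ideal.span (⋃ n ∈ Set.Ioi (0 : ℤ), (ℬ n : Set S)))
    (J : GrLC.StarInjRes ℬ ℬ) (mT : HomogeneousIdeal 𝒯)
    (hmT : mT.toIdeal = Ideal.span (⋃ n ∈ Set.Ioi (0 : ℤ), (𝒯 n : Set T)))
    (IT : GrLC.StarInjRes 𝒯 𝒯)
    (hR : ∀ (q : ℕ) (d : ℤ), q ≤ 1 → I.Hcomp mR q d = ⊥)
    (hS : ∀ (q : ℕ) (d : ℤ), q ≤ 1 → J.Hcomp mS q d = ⊥) (q : ℕ) (d : ℤ) :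
    Module.finrank (GrLC.deg0 𝒯) (IT.Hcomp mT q d) =
      Module.finrank k (𝒜 d) * Module.finrank (GrLC.deg0 ℬ) (J.Hcomp mS q d) +
        Module.finrank (GrLC.deg0 𝒜) (I.Hcomp mR q d) * Module.finrank k (ℬ d) +
        (Finset.range (q + 2)).sum (fun i => Module.finrank (GrLC.deg0 𝒜) (I.Hcomp mR i d) *
          Module.finrank (GrLC.deg0 ℬ) (J.Hcomp mS (q + 1 - i) d)) := by
  have hT : GrSeg.IsSegreRing 𝒜 ℬ 𝒯 ψ := ⟨hψ, hdegT⟩
  haveI : IsNoetherianRing R := Algebra.FiniteType.isNoetherianRing k R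
  haveI : IsNoetherianRing S := Algebra.FiniteType.isNoetherianRing k S
  haveI : IsNoetherianRing T := Groth.Agent.Lib.SegreNoeth.main 𝒜 ℬ 𝒯 ψ hT.2 hT.1
  haveI : Nontrivial T := nontrivial_T hT
  have h0T := deg_zero_T hT h0R h0S
  have hDT : ∀ r : T, r ∈ deg0 𝒯 ↔ ∃ c : k, algebraMap k T c = r := fun r => mem_zero_iff h0T r
  haveI : SetLike.GradedSMul 𝒜 (toAS 𝒜) := gsmul_of 𝒜 (toAS 𝒜)
  haveI : SetLike.GradedSMul ℬ (toAS ℬ) := gsmul_of ℬ (toAS ℬ)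
  haveI : SetLike.GradedSMul 𝒯 (toAS 𝒯) := gsmul_of 𝒯 (toAS 𝒯)
  have hP : GrSeg.IsSegreMod ψ (toAS 𝒜) (toAS ℬ) (toAS 𝒯) ψ.toLinearMap := by
    refine ⟨hψ, fun n => ?_, fun t p => ?_⟩
    · have h : (((𝒯 n).map ψ.toLinearMap : Submodule k (R ⊗[k] S)) : Set (R ⊗[k] S)) = _ :=
        congrArg SetLike.coe (hdegT n)
      exact h
    · show ψ (t * p) = GrSeg.act k R S R S (ψ t) (ψ p)
      rw [map_mul, act_self]
  refine count_of_transfers (resAS 𝒜 I) (resAS ℬ J) (idealAS 𝒜 mR).toIdeal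
    (idealAS ℬ mS).toIdeal d q
    (Zn_zero_eq_bot (idealAS 𝒜 mR) (resAS 𝒜 I) d (fun x hx => by
      have h : x ∈ I.Hcomp mR 0 d := hx
      rw [hR 0 d zero_le_one] at h
      exact (Submodule.mem_bot _).1 h))
    (Zn_zero_eq_bot (idealAS ℬ mS) (resAS ℬ J) d (fun x hx => by
      have h : x ∈ J.Hcomp mS 0 d := hx
      rw [hS 0 d zero_le_one] at h
      exact (Submodule.mem_bot _).1 h))
    (fun i => Module.finrank (deg0 𝒜) (I.Hcomp mR i d))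
    (fun i ℋ h => transfer_H hposR h0R (idealAS 𝒜 mR) hmR (resAS 𝒜 I) d (deg0 𝒜)
      (fun r => Iff.rfl) i (I.Hcomp mR i d) (fun x => Iff.rfl) ℋ h)
    (fun j => Module.finrank (deg0 ℬ) (J.Hcomp mS j d))
    (fun j ℋ h => transfer_H hposS h0S (idealAS ℬ mS) hmS (resAS ℬ J) d (deg0 ℬ)
      (fun r => Iff.rfl) j (J.Hcomp mS j d) (fun x => Iff.rfl) ℋ h)
    (Module.finrank k (𝒜 d)) (transfer_comp_self hposR h0R (resAS 𝒜 I) d)
    (Module.finrank k (ℬ d)) (transfer_comp_self hposS h0S (resAS ℬ J) d)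
    (Module.finrank (deg0 𝒯) (IT.Hcomp mT q d)) ?_
  intro ℋ hℋ
  obtain ⟨F, hsm, hmem, hsurj, hker⟩ := exists_bridge hT (resAS 𝒜 I) (resAS ℬ J) mR mS
    mT hmR hmS hmT q (toAS 𝒯) ψ.toLinearMap hP (resAS 𝒯 IT) d
  exact (rep_transfer_sub (deg0 𝒯) hDT (tens _ _) hℋ (IT.Hcomp mT q d) F hsm hmem hsurj hker).1

end Groth.Agent.Lib.SegKun4H1
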