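import Mathlib
import Groth.Prelude.Def_GrLC
import Groth.Prelude.Def_GrSeg
import Groth.Agent.Lib.SegKun4_helper1
import Groth.Agent.Lib.SegCM1_helper1
import Groth.Agent.Lib.SegDim9_helper6
import Groth.Agent.Lib.MinRes_helper1

/-! The Künneth formula for Segre products under the sole hypothesis `H^0 = 0`, its vanishing
form, and the Cohen–Macaulay criterion for Segre products of Cohen–Macaulay graded rings
(Goto–Watanabe) (helper1).  APPEND-ONLY once landed. -/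

set_option autoImplicit false

namespace Groth.Agent.Lib.SegCM2H1

open scoped TensorProduct
open DirectSum GrLC Groth.Agent.Lib.SegreH3 Groth.Agent.Lib.SegF1H1 Groth.Agent.Lib.SegF2H1
  Groth.Agent.Lib.TCrdH1 Groth.Agent.Lib.DivH1 Groth.Agent.Lib.GrAcycH1
  Groth.Agent.Lib.SegTorsH1 Groth.Agent.Lib.GrXferH1 Groth.Agent.Lib.GrLES1H1
  Groth.Agent.Lib.GrLES2H1 Groth.Agent.Lib.SegAcycH1 Groth.Agent.Lib.DVecH1
  Groth.Agent.Lib.BigResH1 Groth.Agent.Lib.SegAcyc2H1 Groth.Agent.Lib.SegGamH1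
  Groth.Agent.Lib.ARTH1 Groth.Agent.Lib.SegKunH1 Groth.Agent.Lib.SegTotH1
  Groth.Agent.Lib.GrTens3H1 Groth.Agent.Lib.SegKun3H1 Groth.Agent.Lib.SegCMH1

universe u

attribute [local instance] kMod kTower gsmulX

/-! ### generalities -/

theorem isField_sub {k : Type u} [Field k] {A : Type u} [CommRing A] [Nontrivial A]
    [Algebra k A] (D₀ : Subring A) (hD : ∀ r : A, r ∈ D₀ ↔ ∃ c : k, algebraMap k A c = r) :
    IsField D₀ := by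
  refine ⟨⟨0, 1, fun h => zero_ne_one (α := A) (congrArg Subtype.val h)⟩,
    fun x y => mul_comm x y, fun {a} ha => ?_⟩
  obtain ⟨c, hc⟩ := (hD a.1).1 a.2
  have hc0 : c ≠ 0 := by
    rintro rfl
    apply ha
    apply Subtype.ext
    rw [← hc, map_zero]
    rfl
  refine ⟨⟨algebraMap k A c⁻¹, (hD _).2 ⟨c⁻¹, rfl⟩⟩, Subtype.ext ?_⟩
  show a.1 * algebraMap k A c⁻¹ = 1
  rw [← hc, ← map_mul, mul_inv_cancel₀ hc0, map_one]

theorem eq_bot_iff_finrank {D : Type u} [CommRing D] (hf : IsField D) {H : Type u}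
    [AddCommGroup H] [Module D H] (Hc : Submodule D H) [Module.Finite D Hc] :
    Module.finrank D Hc = 0 ↔ Hc = ⊥ := by
  haveI : Nontrivial D := hf.nontrivial
  constructor
  · intro h
    rw [Submodule.eq_bot_iff]
    intro x hx
    obtain ⟨a, ha, hax⟩ := Module.finrank_eq_zero_iff.1 h ⟨x, hx⟩
    obtain ⟨b, hb⟩ := hf.mul_inv_cancel ha
    have h1 : (⟨x, hx⟩ : Hc) = 0 := by
      rw [← one_smul D (⟨x, hx⟩ : Hc), ← hb, mul_comm, mul_smul, hax, smul_zero]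
    exact congrArg Subtype.val h1
  · intro h
    rw [h]
    exact finrank_bot D H

theorem bot_iff_bot {D₁ D₂ : Type u} [Semiring D₁] [Semiring D₂] {H : Type u} [AddCommMonoid H]
    [Module D₁ H] [Module D₂ H] (H₁ : Submodule D₁ H) (H₂ : Submodule D₂ H)
    (h : ∀ x, x ∈ H₁ ↔ x ∈ H₂) : H₁ = ⊥ ↔ H₂ = ⊥ := by
  rw [Submodule.eq_bot_iff, Submodule.eq_bot_iff]
  exact ⟨fun h1 x hx => h1 x ((h x).2 hx), fun h2 x hx => h2 x ((h x).1 hx)⟩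

section ring

variable {k : Type u} [Field k]
  {R : Type u} [CommRing R] [Algebra k R] {𝒜 : ℤ → Submodule k R} [GradedAlgebra 𝒜]
  {S : Type u} [CommRing S] [Algebra k S] {ℬ : ℤ → Submodule k S} [GradedAlgebra ℬ]
  {T : Type u} [CommRing T] [Algebra k T] {𝒯 : ℤ → Submodule k T} [GradedAlgebra 𝒯]
  {ψ : T →ₐ[k] R ⊗[k] S}

theorem hpos_T (hT : GrSeg.IsSegreRing 𝒜 ℬ 𝒯 ψ) (hposR : ∀ n : ℤ, n < 0 → 𝒜 n = ⊥) :
    ∀ n : ℤ, n < 0 → 𝒯 n = ⊥ := by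
  intro n hn
  rw [Submodule.eq_bot_iff]
  intro t ht
  have h1 : ψ t ∈ GrSeg.segrePiece k 𝒜 ℬ n := psi_mem_piece hT ht
  have h2 : GrSeg.segrePiece k 𝒜 ℬ n ≤ ⊥ := by
    apply Submodule.span_le.2
    rintro _ ⟨a, ha, b, hb, rfl⟩
    rw [hposR n hn, Submodule.mem_bot] at ha
    rw [ha, TensorProduct.zero_tmul]
    exact Submodule.zero_mem _
  apply hT.1
  rw [map_zero]
  exact (Submodule.mem_bot _).1 (h2 h1)

variable (𝒜) in
/-- the irrelevant ideal -/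
def irr : HomogeneousIdeal 𝒜 :=
  ⟨Ideal.span (⋃ n ∈ Set.Ioi (0 : ℤ), (𝒜 n : Set R)), Ideal.homogeneous_span 𝒜 _ (by
    intro x hx
    obtain ⟨n, _, hxn⟩ := Set.mem_iUnion₂.1 hx
    exact ⟨n, hxn⟩)⟩

theorem irr_toIdeal :
    (irr 𝒜).toIdeal = Ideal.span (⋃ n ∈ Set.Ioi (0 : ℤ), (𝒜 n : Set R)) := rfl

theorem isField_deg0 [Nontrivial R] (h0 : 𝒜 0 = Submodule.span k {(1 : R)}) :
    IsField (deg0 (toAS 𝒜)) :=
  isField_sub _ (fun x => mem_zero_iff h0 x)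

omit [GradedAlgebra 𝒜] in
theorem hposAS (hpos : ∀ n : ℤ, n < 0 → 𝒜 n = ⊥) : ∀ n : ℤ, n < 0 → toAS 𝒜 n = ⊥ :=
  fun n hn => by
    ext x
    rw [mem_toAS, hpos n hn, Submodule.mem_bot, AddSubgroup.mem_bot]

theorem isStarLocal_irr [Nontrivial R] (hpos : ∀ n : ℤ, n < 0 → 𝒜 n = ⊥)
    (h0 : 𝒜 0 = Submodule.span k {(1 : R)}) (mR : HomogeneousIdeal 𝒜)
    (hmR : mR.toIdeal = Ideal.span (⋃ n ∈ Set.Ioi (0 : ℤ), (𝒜 n : Set R))) :
    IsStarLocal (toAS 𝒜) (idealAS 𝒜 mR) := by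
  have h1 := Groth.Agent.Lib.SocleH1.isStarLocal_Rp (toAS 𝒜) (hposAS hpos) (isField_deg0 h0)
  have h2 : (idealAS 𝒜 mR).toIdeal = (Groth.Agent.Lib.GrHS3H1.Rp (toAS 𝒜)).toIdeal := hmR
  rw [HomogeneousIdeal.toIdeal_injective h2]
  exact h1

/-- the graded local cohomology of a Cohen–Macaulay graded ring is concentrated in the degree
`dim R`. -/
theorem van_of_cm [Nontrivial R] (hpos : ∀ n : ℤ, n < 0 → 𝒜 n = ⊥)
    (h0 : 𝒜 0 = Submodule.span k {(1 : R)}) [hCM : LocCoh.IsCohenMacaulayRing R]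
    (mR : HomogeneousIdeal 𝒜)
    (hmR : mR.toIdeal = Ideal.span (⋃ n ∈ Set.Ioi (0 : ℤ), (𝒜 n : Set R)))
    (E : StarInjRes (toAS 𝒜) (toAS 𝒜)) (r : ℕ) (hr : ringKrullDim R = r) (i : ℕ) (hi : i ≠ r)
    (d : ℤ) : E.Hcomp (idealAS 𝒜 mR) i d = ⊥ := by
  haveI : IsNoetherianRing R := hCM.toIsNoetherian
  have hf : IsField (deg0 (toAS 𝒜)) := isField_deg0 h0
  have hstar : IsStarLocal (toAS 𝒜) (idealAS 𝒜 mR) := isStarLocal_irr hpos h0 mR hmR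
  have hht : (idealAS 𝒜 mR).toIdeal.height = r := by
    have h1 := Groth.Agent.Lib.GorCanH1.ringKrullDim_eq_height (toAS 𝒜) (hpos_AS hpos) hf _ hstar
    rw [hr] at h1
    exact (WithBot.coe_injective h1).symm
  haveI : Subsingleton (E.H (idealAS 𝒜 mR) i) := by
    rcases lt_or_gt_of_ne hi with h | h
    · exact Groth.Agent.Lib.AInvH1.H_subsingleton_of_lt (toAS 𝒜) _ hstar r hht E i h
    · exact Groth.Agent.Lib.GorTop2H1.H_subsingleton_of_gt (toAS 𝒜) _ hstar r hht E i h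
  rw [Submodule.eq_bot_iff]
  intro x _
  exact Subsingleton.elim _ _

end ring

/-! ### the Künneth formula with `H^0 = 0` only -/

theorem kunneth_AS (k : Type u) [Field k] (R : Type u) [CommRing R] [Nontrivial R] [Algebra k R]
    (𝒜 : ℤ → Submodule k R) [GradedAlgebra 𝒜] (hposR : ∀ n : ℤ, n < 0 → 𝒜 n = ⊥)
    (h0R : 𝒜 0 = Submodule.span k {(1 : R)}) [Algebra.FiniteType k R]
    (S : Type u) [CommRing S] [Nontrivial S] [Algebra k S] (ℬ : ℤ → Submodule k S)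
    [GradedAlgebra ℬ] (hposS : ∀ n : ℤ, n < 0 → ℬ n = ⊥)
    (h0S : ℬ 0 = Submodule.span k {(1 : S)}) [Algebra.FiniteType k S]
    (T : Type u) [CommRing T] [Algebra k T] (𝒯 : ℤ → Submodule k T) [GradedAlgebra 𝒯]
    (ψ : T →ₐ[k] TensorProduct k R S) (hT : GrSeg.IsSegreRing 𝒜 ℬ 𝒯 ψ)
    (mR : HomogeneousIdeal 𝒜)
    (hmR : mR.toIdeal = Ideal.span (⋃ n ∈ Set.Ioi (0 : ℤ), (𝒜 n : Set R)))
    (mS : HomogeneousIdeal ℬ)
    (hmS : mS.toIdeal = Ideal.span (⋃ n ∈ Set.Ioi (0 : ℤ), (ℬ n : Set S)))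
    (mT : HomogeneousIdeal 𝒯)
    (hmT : mT.toIdeal = Ideal.span (⋃ n ∈ Set.Ioi (0 : ℤ), (𝒯 n : Set T)))
    (M : Type u) [AddCommGroup M] [Module R M] [Module k M] [IsScalarTower k R M]
    (ℳ : ℤ → AddSubgroup M) [DirectSum.Decomposition ℳ] [SetLike.GradedSMul 𝒜 ℳ]
    [Module.Finite R M] (EM : GrLC.StarInjRes (toAS 𝒜) ℳ)
    (N : Type u) [AddCommGroup N] [Module S N] [Module k N] [IsScalarTower k S N]
    (𝒩 : ℤ → AddSubgroup N) [DirectSum.Decomposition 𝒩] [SetLike.GradedSMul ℬ 𝒩]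
    [Module.Finite S N] (EN : GrLC.StarInjRes (toAS ℬ) 𝒩)
    (P : Type u) [AddCommGroup P] [Module T P] [Module k P] [IsScalarTower k T P]
    (𝒬 : ℤ → AddSubgroup P) [DirectSum.Decomposition 𝒬] [SetLike.GradedSMul 𝒯 𝒬]
    (φ : P →ₗ[k] TensorProduct k M N) (hP : GrSeg.IsSegreMod ψ ℳ 𝒩 𝒬 φ)
    (EP : GrLC.StarInjRes (toAS 𝒯) 𝒬) (d : ℤ)
    (hM : EM.Hcomp (idealAS 𝒜 mR) 0 d = ⊥) (hN : EN.Hcomp (idealAS ℬ mS) 0 d = ⊥) (q : ℕ) :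
    Module.finrank (deg0 (toAS 𝒯)) (EP.Hcomp (idealAS 𝒯 mT) q d) =
      Module.finrank (deg0 (toAS 𝒜)) (comp (toAS 𝒜) ℳ d) *
          Module.finrank (deg0 (toAS ℬ)) (EN.Hcomp (idealAS ℬ mS) q d) +
        Module.finrank (deg0 (toAS 𝒜)) (EM.Hcomp (idealAS 𝒜 mR) q d) *
          Module.finrank (deg0 (toAS ℬ)) (comp (toAS ℬ) 𝒩 d) +
        (Finset.range (q + 2)).sum (fun i =>
          Module.finrank (deg0 (toAS 𝒜)) (EM.Hcomp (idealAS 𝒜 mR) i d) *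
          Module.finrank (deg0 (toAS ℬ)) (EN.Hcomp (idealAS ℬ mS) (q + 1 - i) d)) := by
  haveI : IsNoetherianRing R := Algebra.FiniteType.isNoetherianRing k R
  haveI : IsNoetherianRing S := Algebra.FiniteType.isNoetherianRing k S
  haveI : IsNoetherianRing T := Groth.Agent.Lib.SegreNoeth.main 𝒜 ℬ 𝒯 ψ hT.2 hT.1
  haveI : Nontrivial T := nontrivial_T hT
  have h0T := deg_zero_T hT h0R h0S
  have hDT : ∀ r : T, r ∈ deg0 (toAS 𝒯) ↔ ∃ c : k, algebraMap k T c = r :=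
    fun r => mem_zero_iff h0T r
  refine count_of_transfers EM EN (idealAS 𝒜 mR).toIdeal (idealAS ℬ mS).toIdeal d q
    (Zn_zero_eq_bot (idealAS 𝒜 mR) EM d (fun x hx => by
      have h : x ∈ EM.Hcomp (idealAS 𝒜 mR) 0 d := hx
      rw [hM] at h
      exact (Submodule.mem_bot _).1 h))
    (Zn_zero_eq_bot (idealAS ℬ mS) EN d (fun x hx => by
      have h : x ∈ EN.Hcomp (idealAS ℬ mS) 0 d := hx
      rw [hN] at h
      exact (Submodule.mem_bot _).1 h))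
    (fun i => Module.finrank (deg0 (toAS 𝒜)) (EM.Hcomp (idealAS 𝒜 mR) i d))
    (fun i ℋ h => transfer_H hposR h0R (idealAS 𝒜 mR) hmR EM d (deg0 (toAS 𝒜))
      (fun r => Iff.rfl) i (EM.Hcomp (idealAS 𝒜 mR) i d) (fun x => Iff.rfl) ℋ h)
    (fun j => Module.finrank (deg0 (toAS ℬ)) (EN.Hcomp (idealAS ℬ mS) j d))
    (fun j ℋ h => transfer_H hposS h0S (idealAS ℬ mS) hmS EN d (deg0 (toAS ℬ))
      (fun r => Iff.rfl) j (EN.Hcomp (idealAS ℬ mS) j d) (fun x => Iff.rfl) ℋ h)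
    (Module.finrank (deg0 (toAS 𝒜)) (comp (toAS 𝒜) ℳ d))
    (transfer_comp hposR h0R EM d (deg0 (toAS 𝒜)) (fun r => Iff.rfl) (comp (toAS 𝒜) ℳ d)
      (fun x => Iff.rfl))
    (Module.finrank (deg0 (toAS ℬ)) (comp (toAS ℬ) 𝒩 d))
    (transfer_comp hposS h0S EN d (deg0 (toAS ℬ)) (fun r => Iff.rfl) (comp (toAS ℬ) 𝒩 d)
      (fun x => Iff.rfl))
    (Module.finrank (deg0 (toAS 𝒯)) (EP.Hcomp (idealAS 𝒯 mT) q d)) ?_
  intro ℋ hℋ
  obtain ⟨F, hsm, hmem, hsurj, hker⟩ := exists_bridge hT EM EN mR mS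
    mT hmR hmS hmT q 𝒬 φ hP EP d
  exact (rep_transfer_sub (deg0 (toAS 𝒯)) hDT (tens _ _) hℋ (EP.Hcomp (idealAS 𝒯 mT) q d) F hsm
    hmem hsurj hker).1

/-- the vanishing form of the Künneth formula -/
theorem kunneth_vanish (k : Type u) [Field k] (R : Type u) [CommRing R] [Nontrivial R]
    [Algebra k R]
    (𝒜 : ℤ → Submodule k R) [GradedAlgebra 𝒜] (hposR : ∀ n : ℤ, n < 0 → 𝒜 n = ⊥)
    (h0R : 𝒜 0 = Submodule.span k {(1 : R)}) [Algebra.FiniteType k R]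
    (S : Type u) [CommRing S] [Nontrivial S] [Algebra k S] (ℬ : ℤ → Submodule k S)
    [GradedAlgebra ℬ] (hposS : ∀ n : ℤ, n < 0 → ℬ n = ⊥)
    (h0S : ℬ 0 = Submodule.span k {(1 : S)}) [Algebra.FiniteType k S]
    (T : Type u) [CommRing T] [Algebra k T] (𝒯 : ℤ → Submodule k T) [GradedAlgebra 𝒯]
    (ψ : T →ₐ[k] TensorProduct k R S) (hT : GrSeg.IsSegreRing 𝒜 ℬ 𝒯 ψ)
    (mR : HomogeneousIdeal 𝒜)
    (hmR : mR.toIdeal = Ideal.span (⋃ n ∈ Set.Ioi (0 : ℤ), (𝒜 n : Set R)))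
    (mS : HomogeneousIdeal ℬ)
    (hmS : mS.toIdeal = Ideal.span (⋃ n ∈ Set.Ioi (0 : ℤ), (ℬ n : Set S)))
    (mT : HomogeneousIdeal 𝒯)
    (hmT : mT.toIdeal = Ideal.span (⋃ n ∈ Set.Ioi (0 : ℤ), (𝒯 n : Set T)))
    (M : Type u) [AddCommGroup M] [Module R M] [Module k M] [IsScalarTower k R M]
    (ℳ : ℤ → AddSubgroup M) [DirectSum.Decomposition ℳ] [SetLike.GradedSMul 𝒜 ℳ]
    [Module.Finite R M] (EM : GrLC.StarInjRes (toAS 𝒜) ℳ)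
    (N : Type u) [AddCommGroup N] [Module S N] [Module k N] [IsScalarTower k S N]
    (𝒩 : ℤ → AddSubgroup N) [DirectSum.Decomposition 𝒩] [SetLike.GradedSMul ℬ 𝒩]
    [Module.Finite S N] (EN : GrLC.StarInjRes (toAS ℬ) 𝒩)
    (P : Type u) [AddCommGroup P] [Module T P] [Module k P] [IsScalarTower k T P]
    [Module.Finite T P]
    (𝒬 : ℤ → AddSubgroup P) [DirectSum.Decomposition 𝒬] [SetLike.GradedSMul 𝒯 𝒬]
    (φ : P →ₗ[k] TensorProduct k M N) (hP : GrSeg.IsSegreMod ψ ℳ 𝒩 𝒬 φ)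
    (EP : GrLC.StarInjRes (toAS 𝒯) 𝒬) (d : ℤ)
    (hM : EM.Hcomp (idealAS 𝒜 mR) 0 d = ⊥) (hN : EN.Hcomp (idealAS ℬ mS) 0 d = ⊥) (q : ℕ) :
    EP.Hcomp (idealAS 𝒯 mT) q d = ⊥ ↔
      (comp (toAS 𝒜) ℳ d = ⊥ ∨ EN.Hcomp (idealAS ℬ mS) q d = ⊥) ∧
      (EM.Hcomp (idealAS 𝒜 mR) q d = ⊥ ∨ comp (toAS ℬ) 𝒩 d = ⊥) ∧
      ∀ i ∈ Finset.range (q + 2), EM.Hcomp (idealAS 𝒜 mR) i d = ⊥ ∨
        EN.Hcomp (idealAS ℬ mS) (q + 1 - i) d = ⊥ := by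
  have hkey := kunneth_AS k R 𝒜 hposR h0R S ℬ hposS h0S T 𝒯 ψ hT mR hmR mS hmS mT hmT M ℳ EM
    N 𝒩 EN P 𝒬 φ hP EP d hM hN q
  haveI : IsNoetherianRing R := Algebra.FiniteType.isNoetherianRing k R
  haveI : IsNoetherianRing S := Algebra.FiniteType.isNoetherianRing k S
  haveI : IsNoetherianRing T := Groth.Agent.Lib.SegreNoeth.main 𝒜 ℬ 𝒯 ψ hT.2 hT.1
  haveI : Nontrivial T := nontrivial_T hT
  have h0T := deg_zero_T hT h0R h0S
  have hposT := hpos_T hT hposR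
  have hfR : IsField (deg0 (toAS 𝒜)) := isField_deg0 h0R
  have hfS : IsField (deg0 (toAS ℬ)) := isField_deg0 h0S
  have hfT : IsField (deg0 (toAS 𝒯)) := isField_deg0 h0T
  haveI : IsNoetherian R M := isNoetherian_of_isNoetherianRing_of_finite R M
  haveI : IsNoetherian S N := isNoetherian_of_isNoetherianRing_of_finite S N
  haveI finA : Module.Finite (deg0 (toAS 𝒜)) (comp (toAS 𝒜) ℳ d) :=
    Module.Finite.iff_fg.2 (GrLES4H1.piece_fg (toAS 𝒜) (hpos_AS hposR) ℳ d (comp (toAS 𝒜) ℳ d)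
      (fun x => Iff.rfl))
  haveI finB : Module.Finite (deg0 (toAS ℬ)) (comp (toAS ℬ) 𝒩 d) :=
    Module.Finite.iff_fg.2 (GrLES4H1.piece_fg (toAS ℬ) (hpos_AS hposS) 𝒩 d (comp (toAS ℬ) 𝒩 d)
      (fun x => Iff.rfl))
  haveI finM : ∀ i, Module.Finite (deg0 (toAS 𝒜)) (EM.Hcomp (idealAS 𝒜 mR) i d) := fun i =>
    GrLES4H1.main13226 (toAS 𝒜) (hpos_AS hposR) (idealAS 𝒜 mR) hmR M ℳ EM i d
  haveI finN : ∀ j, Module.Finite (deg0 (toAS ℬ)) (EN.Hcomp (idealAS ℬ mS) j d) := fun j =>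
    GrLES4H1.main13226 (toAS ℬ) (hpos_AS hposS) (idealAS ℬ mS) hmS N 𝒩 EN j d
  haveI finP : Module.Finite (deg0 (toAS 𝒯)) (EP.Hcomp (idealAS 𝒯 mT) q d) :=
    GrLES4H1.main13226 (toAS 𝒯) (hpos_AS hposT) (idealAS 𝒯 mT) hmT P 𝒬 EP q d
  have hP0 := eq_bot_iff_finrank hfT (EP.Hcomp (idealAS 𝒯 mT) q d)
  have hA := eq_bot_iff_finrank hfR (comp (toAS 𝒜) ℳ d)
  have hB := eq_bot_iff_finrank hfS (comp (toAS ℬ) 𝒩 d)
  have hHM := fun i => eq_bot_iff_finrank hfR (EM.Hcomp (idealAS 𝒜 mR) i d)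
  have hHN := fun j => eq_bot_iff_finrank hfS (EN.Hcomp (idealAS ℬ mS) j d)
  rw [← hP0, hkey]
  constructor
  · intro h
    obtain ⟨h12, h3⟩ := Nat.add_eq_zero_iff.1 h
    obtain ⟨h1, h2⟩ := Nat.add_eq_zero_iff.1 h12
    refine ⟨?_, ?_, ?_⟩
    · exact (Nat.mul_eq_zero.1 h1).imp hA.1 (hHN q).1
    · exact (Nat.mul_eq_zero.1 h2).imp (hHM q).1 hB.1
    · intro i hi
      exact (Nat.mul_eq_zero.1 (Finset.sum_eq_zero_iff.1 h3 i hi)).imp (hHM i).1 (hHN _).1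
  · rintro ⟨h1, h2, h3⟩
    have e1 := Nat.mul_eq_zero.2 (h1.imp hA.2 (hHN q).2)
    have e2 := Nat.mul_eq_zero.2 (h2.imp (hHM q).2 hB.2)
    have e3 := Finset.sum_eq_zero (fun i hi =>
      Nat.mul_eq_zero.2 ((h3 i hi).imp (hHM i).2 (hHN _).2))
    exact Nat.add_eq_zero_iff.2 ⟨Nat.add_eq_zero_iff.2 ⟨e1, e2⟩, e3⟩

end Groth.Agent.Lib.SegCM2H1
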