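import Mathlib
import Groth.Prelude.Def_GrLC
import Groth.Prelude.Def_GrSeg
import Groth.Agent.Lib.SegCM2_helper1

/-! The Cohen–Macaulay criterion for Segre products of Cohen–Macaulay graded rings
(Goto–Watanabe) (helper1).  APPEND-ONLY once landed. -/

set_option autoImplicit false

namespace Groth.Agent.Lib.SegCM3H1

open scoped TensorProduct
open DirectSum GrLC Groth.Agent.Lib.SegreH3 Groth.Agent.Lib.SegF1H1 Groth.Agent.Lib.SegF2H1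
  Groth.Agent.Lib.GrXferH1 Groth.Agent.Lib.SegKun3H1 Groth.Agent.Lib.SegCMH1
  Groth.Agent.Lib.SegCM2H1 Groth.Agent.Lib.MinResH1

universe u

theorem nontrivial_of_dim {R : Type u} [CommRing R] (r : ℕ) (hr : ringKrullDim R = r) :
    Nontrivial R := by
  by_contra h
  rw [not_nontrivial_iff_subsingleton] at h
  haveI := h
  rw [ringKrullDim_eq_bot_of_subsingleton] at hr
  exact (WithBot.natCast_ne_bot r) hr.symm

/-- **The Cohen–Macaulay criterion for Segre products of Cohen–Macaulay graded rings.** -/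
theorem segre_cm_iff (k : Type u) [Field k] (R : Type u) [CommRing R] [Algebra k R]
    (𝒜 : ℤ → Submodule k R) [GradedAlgebra 𝒜] (hposR : ∀ n : ℤ, n < 0 → 𝒜 n = ⊥)
    (h0R : 𝒜 0 = Submodule.span k {(1 : R)}) [Algebra.FiniteType k R]
    (S : Type u) [CommRing S] [Algebra k S] (ℬ : ℤ → Submodule k S)
    [GradedAlgebra ℬ] (hposS : ∀ n : ℤ, n < 0 → ℬ n = ⊥)
    (h0S : ℬ 0 = Submodule.span k {(1 : S)}) [Algebra.FiniteType k S]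
    (T : Type u) [CommRing T] [Algebra k T] (𝒯 : ℤ → Submodule k T) [GradedAlgebra 𝒯]
    (ψ : T →ₐ[k] TensorProduct k R S) (hT : GrSeg.IsSegreRing 𝒜 ℬ 𝒯 ψ)
    [LocCoh.IsCohenMacaulayRing R] [LocCoh.IsCohenMacaulayRing S]
    (mR : HomogeneousIdeal 𝒜)
    (hmR : mR.toIdeal = Ideal.span (⋃ n ∈ Set.Ioi (0 : ℤ), (𝒜 n : Set R)))
    (EM : StarInjRes (toAS 𝒜) (toAS 𝒜))
    (mS : HomogeneousIdeal ℬ)
    (hmS : mS.toIdeal = Ideal.span (⋃ n ∈ Set.Ioi (0 : ℤ), (ℬ n : Set S)))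
    (EN : StarInjRes (toAS ℬ) (toAS ℬ))
    (r s : ℕ) (hr : ringKrullDim R = r) (hs : ringKrullDim S = s) (h1r : 1 ≤ r) (h1s : 1 ≤ s) :
    LocCoh.IsCohenMacaulayRing T ↔
      (2 ≤ r → ∀ d : ℤ, 𝒜 d = ⊥ ∨ EN.Hcomp (idealAS ℬ mS) s d = ⊥) ∧
      (2 ≤ s → ∀ d : ℤ, EM.Hcomp (idealAS 𝒜 mR) r d = ⊥ ∨ ℬ d = ⊥) := by
  haveI : Nontrivial R := nontrivial_of_dim r hr
  haveI : Nontrivial S := nontrivial_of_dim s hs
  haveI : IsNoetherianRing R := Algebra.FiniteType.isNoetherianRing k R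
  haveI : IsNoetherianRing S := Algebra.FiniteType.isNoetherianRing k S
  haveI : IsNoetherianRing T := Groth.Agent.Lib.SegreNoeth.main 𝒜 ℬ 𝒯 ψ hT.2 hT.1
  haveI : Nontrivial T := nontrivial_T hT
  have h0T := deg_zero_T hT h0R h0S
  have hposT := hpos_T hT hposR
  have hfT : IsField (deg0 (toAS 𝒯)) := isField_deg0 h0T
  have hstarT : IsStarLocal (toAS 𝒯) (idealAS 𝒯 (irr 𝒯)) :=
    isStarLocal_irr hposT h0T (irr 𝒯) irr_toIdeal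
  have hdimT : ringKrullDim T = ((r + s - 1 : ℕ) : WithBot ℕ∞) :=
    Groth.Agent.Lib.SegDimH6.main18647 k R 𝒜 hposR h0R S ℬ hposS h0S T 𝒯 ψ hT.1 hT.2 r s hr hs
      h1r h1s
  have crit := cmRing_iff_vanishing (toAS 𝒯) (hposAS hposT) (idealAS 𝒯 (irr 𝒯)) hstarT hfT
    (minRes (toAS 𝒯) (toAS 𝒯)) (r + s - 1) hdimT
  have vanR : ∀ i : ℕ, i ≠ r → ∀ d : ℤ, EM.Hcomp (idealAS 𝒜 mR) i d = ⊥ :=
    fun i hi d => van_of_cm hposR h0R mR hmR EM r hr i hi d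
  have vanS : ∀ i : ℕ, i ≠ s → ∀ d : ℤ, EN.Hcomp (idealAS ℬ mS) i d = ⊥ :=
    fun i hi d => van_of_cm hposS h0S mS hmS EN s hs i hi d
  haveI : SetLike.GradedSMul 𝒜 (toAS 𝒜) := gsmul_of 𝒜 (toAS 𝒜)
  haveI : SetLike.GradedSMul ℬ (toAS ℬ) := gsmul_of ℬ (toAS ℬ)
  haveI : SetLike.GradedSMul 𝒯 (toAS 𝒯) := gsmul_of 𝒯 (toAS 𝒯)
  have hP : GrSeg.IsSegreMod ψ (toAS 𝒜) (toAS ℬ) (toAS 𝒯) ψ.toLinearMap := by
    refine ⟨hT.1, fun n => ?_, fun t p => ?_⟩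
    · have h : (((𝒯 n).map ψ.toLinearMap : Submodule k (R ⊗[k] S)) : Set (R ⊗[k] S)) = _ :=
        congrArg SetLike.coe (hT.2 n)
      exact h
    · show ψ (t * p) = GrSeg.act k R S R S (ψ t) (ψ p)
      rw [map_mul, act_self]
  have kv := fun (q : ℕ) (d : ℤ) => kunneth_vanish k R 𝒜 hposR h0R S ℬ hposS h0S T 𝒯 ψ hT mR hmR
    mS hmS (irr 𝒯) irr_toIdeal R (toAS 𝒜) EM S (toAS ℬ) EN T (toAS 𝒯) ψ.toLinearMap hP
    (minRes (toAS 𝒯) (toAS 𝒯)) d (vanR 0 (by omega) d) (vanS 0 (by omega) d) q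
  have cA : ∀ d : ℤ, comp (toAS 𝒜) (toAS 𝒜) d = ⊥ ↔ 𝒜 d = ⊥ :=
    fun d => bot_iff_bot _ _ (fun x => Iff.rfl)
  have cB : ∀ d : ℤ, comp (toAS ℬ) (toAS ℬ) d = ⊥ ↔ ℬ d = ⊥ :=
    fun d => bot_iff_bot _ _ (fun x => Iff.rfl)
  rw [crit]
  constructor
  · intro h
    refine ⟨fun h2r d => ?_, fun h2s d => ?_⟩
    · exact ((kv s d).1 (h s (by omega) d)).1.imp (cA d).1 id
    · exact ((kv r d).1 (h r (by omega) d)).2.1.imp id (cB d).1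
  · rintro ⟨hA, hB⟩ q hq d
    refine (kv q d).2 ⟨?_, ?_, ?_⟩
    · by_cases hqs : q = s
      · rw [hqs]
        exact (hA (by omega) d).imp (cA d).2 id
      · exact Or.inr (vanS q hqs d)
    · by_cases hqr : q = r
      · rw [hqr]
        exact (hB (by omega) d).imp id (cB d).2
      · exact Or.inl (vanR q hqr d)
    · intro i hi
      rw [Finset.mem_range] at hi
      by_cases hir : i = r
      · exact Or.inr (vanS _ (by omega) d)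
      · exact Or.inl (vanR i hir d)

theorem main18652 (k : Type u) [Field k] (R : Type u) [CommRing R] [Algebra k R]
    (𝒜 : ℤ → Submodule k R) [GradedAlgebra 𝒜] (hposR : ∀ n : ℤ, n < 0 → 𝒜 n = ⊥)
    (h0R : 𝒜 0 = Submodule.span k {(1 : R)}) [Algebra.FiniteType k R]
    (S : Type u) [CommRing S] [Algebra k S] (ℬ : ℤ → Submodule k S) [GradedAlgebra ℬ]
    (hposS : ∀ n : ℤ, n < 0 → ℬ n = ⊥) (h0S : ℬ 0 = Submodule.span k {(1 : S)})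
    [Algebra.FiniteType k S]
    (T : Type u) [CommRing T] [Algebra k T] (𝒯 : ℤ → Submodule k T) [GradedAlgebra 𝒯]
    (ψ : T →ₐ[k] TensorProduct k R S) (hψ : Function.Injective ψ)
    (hdegT : ∀ n : ℤ, (𝒯 n).map ψ.toLinearMap =
      Submodule.span k {x : TensorProduct k R S | ∃ a ∈ 𝒜 n, ∃ b ∈ ℬ n, x = a ⊗ₜ[k] b})
    [LocCoh.IsCohenMacaulayRing R] [LocCoh.IsCohenMacaulayRing S]
    (mR : HomogeneousIdeal 𝒜)
    (hmR : mR.toIdeal = Ideal.span (⋃ n ∈ Set.Ioi (0 : ℤ), (𝒜 n : Set R)))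
    (I : GrLC.StarInjRes 𝒜 𝒜) (mS : HomogeneousIdeal ℬ)
    (hmS : mS.toIdeal = Ideal.span (⋃ n ∈ Set.Ioi (0 : ℤ), (ℬ n : Set S)))
    (J : GrLC.StarInjRes ℬ ℬ) (r s : ℕ) (hr : ringKrullDim R = r) (hs : ringKrullDim S = s)
    (h2r : 2 ≤ r) (h2s : 2 ≤ s) :
    LocCoh.IsCohenMacaulayRing T ↔
      (∀ n : ℤ, 𝒜 n = ⊥ ∨ J.Hcomp mS s n = ⊥) ∧ (∀ n : ℤ, I.Hcomp mR r n = ⊥ ∨ ℬ n = ⊥) := by
  have hT : GrSeg.IsSegreRing 𝒜 ℬ 𝒯 ψ := ⟨hψ, hdegT⟩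
  have key := segre_cm_iff k R 𝒜 hposR h0R S ℬ hposS h0S T 𝒯 ψ hT mR hmR (resAS 𝒜 I) mS hmS
    (resAS ℬ J) r s hr hs (by omega) (by omega)
  have cI : ∀ n : ℤ, (resAS 𝒜 I).Hcomp (idealAS 𝒜 mR) r n = ⊥ ↔ I.Hcomp mR r n = ⊥ :=
    fun n => bot_iff_bot _ _ (fun x => Iff.rfl)
  have cJ : ∀ n : ℤ, (resAS ℬ J).Hcomp (idealAS ℬ mS) s n = ⊥ ↔ J.Hcomp mS s n = ⊥ :=
    fun n => bot_iff_bot _ _ (fun x => Iff.rfl)
  rw [key]
  constructor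
  · rintro ⟨h1, h2⟩
    exact ⟨fun n => (h1 h2r n).imp id (cJ n).1, fun n => (h2 h2s n).imp (cI n).1 id⟩
  · rintro ⟨h1, h2⟩
    exact ⟨fun _ n => (h1 n).imp id (cJ n).2, fun _ n => (h2 n).imp (cI n).2 id⟩

theorem main18663 (k : Type u) [Field k] (R : Type u) [CommRing R] [Algebra k R]
    (𝒜 : ℤ → Submodule k R) [GradedAlgebra 𝒜] (hposR : ∀ n : ℤ, n < 0 → 𝒜 n = ⊥)
    (h0R : 𝒜 0 = Submodule.span k {(1 : R)}) [Algebra.FiniteType k R]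
    (S : Type u) [CommRing S] [Algebra k S] (ℬ : ℤ → Submodule k S) [GradedAlgebra ℬ]
    (hposS : ∀ n : ℤ, n < 0 → ℬ n = ⊥) (h0S : ℬ 0 = Submodule.span k {(1 : S)})
    [Algebra.FiniteType k S]
    (T : Type u) [CommRing T] [Algebra k T] (𝒯 : ℤ → Submodule k T) [GradedAlgebra 𝒯]
    (ψ : T →ₐ[k] TensorProduct k R S) (hψ : Function.Injective ψ)
    (hdegT : ∀ n : ℤ, (𝒯 n).map ψ.toLinearMap =
      Submodule.span k {x : TensorProduct k R S | ∃ a ∈ 𝒜 n, ∃ b ∈ ℬ n, x = a ⊗ₜ[k] b})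
    [LocCoh.IsCohenMacaulayRing R] [LocCoh.IsCohenMacaulayRing S]
    (mR : HomogeneousIdeal 𝒜)
    (hmR : mR.toIdeal = Ideal.span (⋃ n ∈ Set.Ioi (0 : ℤ), (𝒜 n : Set R)))
    (I : GrLC.StarInjRes 𝒜 𝒜) (hr : ringKrullDim R = 1) (s : ℕ) (hs : ringKrullDim S = s)
    (h1s : 1 ≤ s) :
    (2 ≤ s → (LocCoh.IsCohenMacaulayRing T ↔ ∀ n : ℤ, I.Hcomp mR 1 n = ⊥ ∨ ℬ n = ⊥)) ∧
      (s = 1 → LocCoh.IsCohenMacaulayRing T) := by
  have hT : GrSeg.IsSegreRing 𝒜 ℬ 𝒯 ψ := ⟨hψ, hdegT⟩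
  have key := segre_cm_iff k R 𝒜 hposR h0R S ℬ hposS h0S T 𝒯 ψ hT mR hmR (resAS 𝒜 I) (irr ℬ)
    irr_toIdeal (minRes (toAS ℬ) (toAS ℬ)) 1 s (hr.trans Nat.cast_one.symm) hs le_rfl h1s
  have cI : ∀ n : ℤ, (resAS 𝒜 I).Hcomp (idealAS 𝒜 mR) 1 n = ⊥ ↔ I.Hcomp mR 1 n = ⊥ :=
    fun n => bot_iff_bot _ _ (fun x => Iff.rfl)
  refine ⟨fun h2s => ?_, fun hs1 => ?_⟩
  · rw [key]
    constructor
    · rintro ⟨-, h2⟩ n
      exact (h2 h2s n).imp (cI n).1 id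
    · intro h
      exact ⟨fun h' => absurd h' (by norm_num), fun _ n => (h n).imp (cI n).2 id⟩
  · rw [key]
    exact ⟨fun h' => absurd h' (by norm_num), fun h' => absurd h' (by omega)⟩

end Groth.Agent.Lib.SegCM3H1
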