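import Mathlib
import Groth.Prelude.Def_GrLC
import Groth.Prelude.Def_GrSeg
import Groth.Agent.Lib.SegCM3_helper1
import Groth.Agent.Lib.GrConv_helper1
import Groth.Agent.Lib.GrMono_helper9

/-! The Cohen–Macaulay criterion for Segre products of standard graded Cohen–Macaulay rings in
terms of `a`-invariants (Goto–Watanabe) (helper1).  APPEND-ONLY once landed. -/

set_option autoImplicit false

namespace Groth.Agent.Lib.SegCM4H1

open scoped TensorProduct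
open DirectSum GrLC Groth.Agent.Lib.GrXferH1 Groth.Agent.Lib.SegKun3H1 Groth.Agent.Lib.SegCMH1
  Groth.Agent.Lib.SegCM2H1 Groth.Agent.Lib.SegCM3H1

universe u

theorem lt_zero_iff (x : WithBot (WithTop ℤ)) :
    x < 0 ↔ x ≤ (((-1 : ℤ) : WithTop ℤ) : WithBot (WithTop ℤ)) := by
  induction x using WithBot.recBotCoe with
  | bot => simp
  | coe y =>
    induction y using WithTop.recTopCoe with
    | top =>
      rw [show (0 : WithBot (WithTop ℤ)) = (((0 : ℤ) : WithTop ℤ) : WithBot (WithTop ℤ)) from rfl,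
        WithBot.coe_lt_coe, WithBot.coe_le_coe]
      simp
    | coe m =>
      rw [show (0 : WithBot (WithTop ℤ)) = (((0 : ℤ) : WithTop ℤ) : WithBot (WithTop ℤ)) from rfl,
        WithBot.coe_lt_coe, WithTop.coe_lt_coe, WithBot.coe_le_coe, WithTop.coe_le_coe]
      omega

theorem endDeg_neg_iff {X : Type u} [AddCommGroup X] (𝒳 : ℤ → AddSubgroup X) :
    endDeg 𝒳 < 0 ↔ ∀ n : ℤ, 0 ≤ n → 𝒳 n = ⊥ := by
  rw [lt_zero_iff, Groth.Agent.Lib.GrConvH1.endDeg_le_iff]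
  constructor
  · intro h n hn
    exact h n (by omega)
  · intro h n hn
    exact h n (by omega)

theorem toAddSubgroup_eq_bot_iff {D : Type u} [Ring D] {H : Type u} [AddCommGroup H] [Module D H]
    (p : Submodule D H) : p.toAddSubgroup = ⊥ ↔ p = ⊥ := by
  rw [Submodule.eq_bot_iff, AddSubgroup.eq_bot_iff_forall]
  exact Iff.rfl

/-- a standard graded Cohen–Macaulay ring of positive dimension is nonzero in every
nonnegative degree. -/
theorem piece_ne_bot_of_std {k : Type u} [Field k] {R : Type u} [CommRing R] [Nontrivial R]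
    [Algebra k R] {𝒜 : ℤ → Submodule k R} [GradedAlgebra 𝒜]
    (hpos : ∀ n : ℤ, n < 0 → 𝒜 n = ⊥) (h0 : 𝒜 0 = Submodule.span k {(1 : R)})
    [LocCoh.IsCohenMacaulayRing R]
    (hstd : Ideal.span (⋃ n ∈ Set.Ioi (0 : ℤ), (𝒜 n : Set R)) =
      Ideal.span ((𝒜 1 : Submodule k R) : Set R))
    (h1 : 1 ≤ ringKrullDim R) (n : ℤ) (hn : 0 ≤ n) : 𝒜 n ≠ ⊥ := by
  have hf : IsField (deg0 (toAS 𝒜)) := isField_deg0 h0
  have key : ∀ n : ℤ, 0 ≤ n →
      1 ≤ Module.finrank (deg0 (toAS 𝒜)) (comp (toAS 𝒜) (toAS 𝒜) n) := by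
    intro n hn
    induction n, hn using Int.le_induction with
    | base => rw [Groth.Agent.Lib.SocleH1.finrank_ring_zero (toAS 𝒜) hf]
    | succ m hm ih =>
      exact ih.trans (Groth.Agent.GrMono9.finrank_mono (toAS 𝒜) (hposAS hpos) hf hstd h1 m)
  intro hbot
  have h2 : comp (toAS 𝒜) (toAS 𝒜) n = ⊥ := (bot_iff_bot (comp (toAS 𝒜) (toAS 𝒜) n) (𝒜 n) (fun x => Iff.rfl)).2 hbot
  have h3 := key n hn
  rw [h2, finrank_bot] at h3
  exact absurd h3 (by norm_num)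

theorem main18648 (k : Type u) [Field k] (R : Type u) [CommRing R] [Algebra k R]
    (𝒜 : ℤ → Submodule k R) [GradedAlgebra 𝒜] (hposR : ∀ n : ℤ, n < 0 → 𝒜 n = ⊥)
    (h0R : 𝒜 0 = Submodule.span k {(1 : R)}) [Algebra.FiniteType k R]
    (S : Type u) [CommRing S] [Algebra k S] (ℬ : ℤ → Submodule k S) [GradedAlgebra ℬ]
    (hposS : ∀ n : ℤ, n < 0 → ℬ n = ⊥) (h0S : ℬ 0 = Submodule.span k {(1 : S)})
    [Algebra.FiniteType k S]
    (T : Type u) [CommRing T] [Algebra k T] (𝒯 : ℤ → Submodule k T) [GradedAlgebra 𝒯]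
    (ψ : T →ₐ[k] TensorProduct k R S) (hψ : Function.Injective ψ)
    (hdegT : ∀ n : ℤ, (𝒯 n).map ψ.toLinearMap =
      Submodule.span k {x : TensorProduct k R S | ∃ a ∈ 𝒜 n, ∃ b ∈ ℬ n, x = a ⊗ₜ[k] b})
    [LocCoh.IsCohenMacaulayRing R] [LocCoh.IsCohenMacaulayRing S]
    (mR : HomogeneousIdeal 𝒜)
    (hmR : mR.toIdeal = Ideal.span (⋃ n ∈ Set.Ioi (0 : ℤ), (𝒜 n : Set R)))
    (hstdR : Ideal.span (⋃ n ∈ Set.Ioi (0 : ℤ), (𝒜 n : Set R)) =
      Ideal.span ((𝒜 1 : Submodule k R) : Set R))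
    (I : GrLC.StarInjRes 𝒜 𝒜) (mS : HomogeneousIdeal ℬ)
    (hmS : mS.toIdeal = Ideal.span (⋃ n ∈ Set.Ioi (0 : ℤ), (ℬ n : Set S)))
    (hstdS : Ideal.span (⋃ n ∈ Set.Ioi (0 : ℤ), (ℬ n : Set S)) =
      Ideal.span ((ℬ 1 : Submodule k S) : Set S))
    (J : GrLC.StarInjRes ℬ ℬ) (r s : ℕ) (hr : ringKrullDim R = r) (hs : ringKrullDim S = s)
    (h2r : 2 ≤ r) (h2s : 2 ≤ s) :
    LocCoh.IsCohenMacaulayRing T ↔
      GrLC.endDeg (I.Hgr mR r) < 0 ∧ GrLC.endDeg (J.Hgr mS s) < 0 := by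
  haveI : Nontrivial R := nontrivial_of_dim r hr
  haveI : Nontrivial S := nontrivial_of_dim s hs
  have h1R : 1 ≤ ringKrullDim R := by
    rw [hr]
    exact_mod_cast (by omega : 1 ≤ r)
  have h1S : 1 ≤ ringKrullDim S := by
    rw [hs]
    exact_mod_cast (by omega : 1 ≤ s)
  have neR : ∀ n : ℤ, 0 ≤ n → 𝒜 n ≠ ⊥ := fun n hn => piece_ne_bot_of_std hposR h0R hstdR h1R n hn
  have neS : ∀ n : ℤ, 0 ≤ n → ℬ n ≠ ⊥ := fun n hn => piece_ne_bot_of_std hposS h0S hstdS h1S n hn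
  have cI : ∀ n : ℤ, I.Hgr mR r n = ⊥ ↔ I.Hcomp mR r n = ⊥ :=
    fun n => toAddSubgroup_eq_bot_iff _
  have cJ : ∀ n : ℤ, J.Hgr mS s n = ⊥ ↔ J.Hcomp mS s n = ⊥ :=
    fun n => toAddSubgroup_eq_bot_iff _
  rw [main18652 k R 𝒜 hposR h0R S ℬ hposS h0S T 𝒯 ψ hψ hdegT mR hmR I mS hmS J r s hr hs h2r h2s,
    endDeg_neg_iff, endDeg_neg_iff]
  constructor
  · rintro ⟨h1, h2⟩
    refine ⟨fun n hn => ?_, fun n hn => ?_⟩
    · rcases h2 n with h | h
      · exact (cI n).2 h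
      · exact absurd h (neS n hn)
    · rcases h1 n with h | h
      · exact absurd h (neR n hn)
      · exact (cJ n).2 h
  · rintro ⟨h1, h2⟩
    refine ⟨fun n => ?_, fun n => ?_⟩
    · by_cases hn : 0 ≤ n
      · exact Or.inr ((cJ n).1 (h2 n hn))
      · exact Or.inl (hposR n (by omega))
    · by_cases hn : 0 ≤ n
      · exact Or.inl ((cI n).1 (h1 n hn))
      · exact Or.inr (hposS n (by omega))

end Groth.Agent.Lib.SegCM4H1
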