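import Mathlib
import Groth.Prelude.Def_GrLC
import Groth.Prelude.Def_GrSeg
import Groth.Agent.Lib.SegCM4_helper1
import Groth.Agent.Lib.PolyIff4_helper1
import Groth.Agent.Lib.NegDim_helper1

/-! The Segre product of a one-dimensional standard graded Cohen–Macaulay ring with a standard
graded Cohen–Macaulay ring of dimension at least two is Cohen–Macaulay iff the first factor is a
polynomial ring (Goto–Watanabe) (helper1).  APPEND-ONLY once landed. -/

set_option autoImplicit false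

namespace Groth.Agent.Lib.SegCM5H1

open scoped TensorProduct
open DirectSum GrLC Groth.Agent.Lib.GrXferH1 Groth.Agent.Lib.SegKun3H1 Groth.Agent.Lib.SegCMH1
  Groth.Agent.Lib.SegCM2H1 Groth.Agent.Lib.SegCM3H1 Groth.Agent.Lib.SegCM4H1
  Groth.Agent.Lib.MinResH1

universe u

section one

variable {k : Type u} [Field k] {R : Type u} [CommRing R] [Nontrivial R] [Algebra k R]
  {𝒜 : ℤ → Submodule k R} [GradedAlgebra 𝒜]

theorem exists_dim (hpos : ∀ n : ℤ, n < 0 → 𝒜 n = ⊥) (h0 : 𝒜 0 = Submodule.span k {(1 : R)})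
    [Algebra.FiniteType k R] : ∃ s : ℕ, ringKrullDim R = s := by
  haveI : IsNoetherianRing R := Algebra.FiniteType.isNoetherianRing k R
  have hstar := isStarLocal_irr hpos h0 (irr 𝒜) irr_toIdeal
  have h1 := Groth.Agent.Lib.GorCanH1.ringKrullDim_eq_height (toAS 𝒜) (hposAS hpos)
    (isField_deg0 h0) _ hstar
  haveI hmax : (idealAS 𝒜 (irr 𝒜)).toIdeal.IsMaximal :=
    Groth.Agent.Lib.GrHDecH1.isMaximal_of_starLocal (toAS 𝒜) (hposAS hpos) _ hstar
  have hne : (idealAS 𝒜 (irr 𝒜)).toIdeal.height ≠ ⊤ := Ideal.height_ne_top hmax.ne_top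
  obtain ⟨n, hn⟩ := ENat.ne_top_iff_exists.1 hne
  refine ⟨n, ?_⟩
  rw [h1, ← hn]
  rfl

/-- a graded algebra generated by one element of degree one, of dimension one, is a polynomial
ring. -/
theorem algEquiv_of_presentation (h0 : 𝒜 0 = Submodule.span k {(1 : R)}) [IsNoetherianRing R]
    (f : Fin 1 → R)
    (hsurj : Function.Surjective
      (MvPolynomial.aeval f : MvPolynomial (Fin 1) (deg0 (toAS 𝒜)) →ₐ[deg0 (toAS 𝒜)] R))
    (hr : ringKrullDim R = ((1 : ℕ) : WithBot ℕ∞)) : Nonempty (Polynomial k ≃ₐ[k] R) := by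
  have hsg : Function.Surjective (Polynomial.aeval (f 0) : Polynomial k →ₐ[k] R) := by
    intro y
    obtain ⟨P, rfl⟩ := hsurj y
    induction P using MvPolynomial.induction_on with
    | C a =>
      obtain ⟨c, hc⟩ := (mem_zero_iff h0 a.1).1 a.2
      refine ⟨Polynomial.C c, ?_⟩
      rw [Polynomial.aeval_C, MvPolynomial.aeval_C, hc]
      rfl
    | add p q hp hq =>
      obtain ⟨a, ha⟩ := hp
      obtain ⟨b, hb⟩ := hq
      exact ⟨a + b, by rw [map_add, map_add, ha, hb]⟩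
    | mul_X p i hp =>
      obtain ⟨a, ha⟩ := hp
      refine ⟨a * Polynomial.X, ?_⟩
      rw [map_mul, map_mul, ha, Polynomial.aeval_X, MvPolynomial.aeval_X, Subsingleton.elim i 0]
  have hig : Function.Injective (Polynomial.aeval (f 0) : Polynomial k →ₐ[k] R) := by
    rw [injective_iff_map_eq_zero]
    intro p hp
    by_contra hp0
    have h1 := ringKrullDim_succ_le_of_surjective
      ((Polynomial.aeval (f 0) : Polynomial k →ₐ[k] R) : Polynomial k →+* R) hsg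
      (mem_nonZeroDivisors_of_ne_zero hp0) hp
    rw [hr, Polynomial.ringKrullDim_of_isNoetherianRing, ringKrullDim_eq_zero_of_field,
      zero_add] at h1
    have h2 : ((1 + 1 : ℕ) : WithBot ℕ∞) ≤ ((1 : ℕ) : WithBot ℕ∞) := by
      push_cast
      exact h1
    have h3 : 1 + 1 ≤ 1 := by exact_mod_cast h2
    omega
  exact ⟨AlgEquiv.ofBijective _ ⟨hig, hsg⟩⟩

theorem nonempty_ringEquiv_of_algEquiv (h0 : 𝒜 0 = Submodule.span k {(1 : R)})
    (e : R ≃ₐ[k] Polynomial k) :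
    Nonempty (R ≃+* MvPolynomial (Fin 1) (deg0 (toAS 𝒜))) := by
  let ι₀ : k →+* deg0 (toAS 𝒜) := (algebraMap k R).codRestrict (deg0 (toAS 𝒜))
    (fun c => (mem_zero_iff h0 _).2 ⟨c, rfl⟩)
  have hι : Function.Bijective ι₀ := by
    constructor
    · intro a b h
      exact (algebraMap k R).injective (congrArg Subtype.val h)
    · rintro ⟨x, hx⟩
      obtain ⟨c, hc⟩ := (mem_zero_iff h0 x).1 hx
      exact ⟨c, Subtype.ext hc⟩
  exact ⟨e.toRingEquiv.trans ((MvPolynomial.uniqueAlgEquiv (R := k) (Fin 1)).symm.toRingEquiv.trans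
    (MvPolynomial.mapEquiv (Fin 1) (RingEquiv.ofBijective ι₀ hι)))⟩

theorem poly_iff (hpos : ∀ n : ℤ, n < 0 → 𝒜 n = ⊥) (h0 : 𝒜 0 = Submodule.span k {(1 : R)})
    [hCM : LocCoh.IsCohenMacaulayRing R]
    (hstd : Ideal.span (⋃ n ∈ Set.Ioi (0 : ℤ), (𝒜 n : Set R)) =
      Ideal.span ((𝒜 1 : Submodule k R) : Set R))
    (hr : ringKrullDim R = ((1 : ℕ) : WithBot ℕ∞))
    (E : StarInjRes (toAS 𝒜) (toAS 𝒜)) :
    endDeg (E.Hgr (idealAS 𝒜 (irr 𝒜)) 1) < 0 ↔ Nonempty (R ≃ₐ[k] Polynomial k) := by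
  haveI : IsNoetherianRing R := hCM.toIsNoetherian
  have hf : IsField (deg0 (toAS 𝒜)) := isField_deg0 h0
  have hstar := isStarLocal_irr hpos h0 (irr 𝒜) irr_toIdeal
  have hposA := hposAS hpos
  have hstd' : Ideal.span (⋃ n ∈ Set.Ioi (0 : ℤ), (toAS 𝒜 n : Set R)) =
      Ideal.span ((toAS 𝒜 1 : AddSubgroup R) : Set R) := hstd
  haveI : IsArtinianRing (deg0 (toAS 𝒜)) := by
    letI := hf.toField
    infer_instance
  have hlow := Groth.Agent.Lib.NegDimH1.main17771 R (toAS 𝒜) hposA hstd' _ hstar 1 hr E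
  have h44 := Groth.Agent.Lib.PolyIffH1.main18644 R (toAS 𝒜) hposA hf _ hstar irr_toIdeal hstd' 1
    hr E
  have e1 : (-((1 : ℕ) : ℤ)) = (-1 : ℤ) := by norm_num
  rw [e1] at hlow h44
  constructor
  · intro hneg
    have hend := le_antisymm ((lt_zero_iff _).1 hneg) hlow
    obtain ⟨N, f, hN, hf1, hsurj⟩ :=
      Groth.Agent.Lib.PolyIffH1.exists_presentation (toAS 𝒜) hposA hf hstd'
    have hN1 : N = 1 := Groth.Agent.Lib.PolyIffH1.numgens_eq_of_endDeg R (toAS 𝒜) hposA hf _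
      hstar 1 hr E (by rw [e1]; exact hend) f hN hf1 hsurj
    subst hN1
    obtain ⟨e⟩ := algEquiv_of_presentation h0 f hsurj hr
    exact ⟨e.symm⟩
  · rintro ⟨e⟩
    rw [h44.2 (nonempty_ringEquiv_of_algEquiv h0 e)]
    exact (lt_zero_iff _).2 le_rfl

end one

theorem main18664 (k : Type u) [Field k] (R : Type u) [CommRing R] [Algebra k R]
    (𝒜 : ℤ → Submodule k R) [GradedAlgebra 𝒜] (hposR : ∀ n : ℤ, n < 0 → 𝒜 n = ⊥)
    (h0R : 𝒜 0 = Submodule.span k {(1 : R)}) [Algebra.FiniteType k R]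
    (S : Type u) [CommRing S] [Algebra k S] (ℬ : ℤ → Submodule k S) [GradedAlgebra ℬ]
    (hposS : ∀ n : ℤ, n < 0 → ℬ n = ⊥) (h0S : ℬ 0 = Submodule.span k {(1 : S)})
    [Algebra.FiniteType k S]
    (T : Type u) [CommRing T] [Algebra k T] (𝒯 : ℤ → Submodule k T) [GradedAlgebra 𝒯]
    (ψ : T →ₐ[k] TensorProduct k R S) (hψ : Function.Injective ψ)
    (hdegT : ∀ n : ℤ, (𝒯 n).map ψ.toLinearMap =
      Submodule.span k {x : TensorProduct k R S | ∃ a ∈ 𝒜 n, ∃ b ∈ ℬ n, x = a ⊗ₜ[k] b})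
    [LocCoh.IsCohenMacaulayRing R] [LocCoh.IsCohenMacaulayRing S]
    (hstdR : Ideal.span (⋃ n ∈ Set.Ioi (0 : ℤ), (𝒜 n : Set R)) =
      Ideal.span ((𝒜 1 : Submodule k R) : Set R))
    (hstdS : Ideal.span (⋃ n ∈ Set.Ioi (0 : ℤ), (ℬ n : Set S)) =
      Ideal.span ((ℬ 1 : Submodule k S) : Set S))
    (hr : ringKrullDim R = 1) (hs : 2 ≤ ringKrullDim S) :
    LocCoh.IsCohenMacaulayRing T ↔ Nonempty (R ≃ₐ[k] Polynomial k) := by
  have hT : GrSeg.IsSegreRing 𝒜 ℬ 𝒯 ψ := ⟨hψ, hdegT⟩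
  have hr' : ringKrullDim R = ((1 : ℕ) : WithBot ℕ∞) := hr.trans Nat.cast_one.symm
  haveI : Nontrivial R := nontrivial_of_dim 1 hr'
  haveI : Nontrivial S := by
    by_contra h
    rw [not_nontrivial_iff_subsingleton] at h
    haveI := h
    rw [ringKrullDim_eq_bot_of_subsingleton] at hs
    exact absurd hs (by simp)
  obtain ⟨s, hs'⟩ := exists_dim hposS h0S
  have h2s : 2 ≤ s := by
    rw [hs'] at hs
    exact_mod_cast hs
  have key := segre_cm_iff k R 𝒜 hposR h0R S ℬ hposS h0S T 𝒯 ψ hT (irr 𝒜) irr_toIdeal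
    (minRes (toAS 𝒜) (toAS 𝒜)) (irr ℬ) irr_toIdeal (minRes (toAS ℬ) (toAS ℬ)) 1 s hr' hs' le_rfl
    (by omega)
  have h1S : 1 ≤ ringKrullDim S := le_trans (by norm_num) hs
  have neS : ∀ n : ℤ, 0 ≤ n → ℬ n ≠ ⊥ := fun n hn => piece_ne_bot_of_std hposS h0S hstdS h1S n hn
  have step1 : LocCoh.IsCohenMacaulayRing T ↔
      endDeg ((minRes (toAS 𝒜) (toAS 𝒜)).Hgr (idealAS 𝒜 (irr 𝒜)) 1) < 0 := by
    rw [key, endDeg_neg_iff]
    constructor
    · rintro ⟨-, h2⟩ n hn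
      rcases h2 h2s n with h | h
      · exact (toAddSubgroup_eq_bot_iff _).2 h
      · exact absurd h (neS n hn)
    · intro h
      refine ⟨fun h' => absurd h' (by norm_num), fun _ n => ?_⟩
      by_cases hn : 0 ≤ n
      · exact Or.inl ((toAddSubgroup_eq_bot_iff _).1 (h n hn))
      · exact Or.inr (hposS n (by omega))
  rw [step1]
  exact poly_iff hposR h0R hstdR hr' _

end Groth.Agent.Lib.SegCM5H1
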