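import Mathlib
import Groth.Prelude.Def_GrLC
import Groth.Prelude.Def_CAlg
import Groth.Prelude.Def_Wider
import Groth.Agent.Lib.SegCM1_helper1
import Groth.Agent.Lib.GrDim3_helper6
import Groth.Agent.Lib.GrBass15_helper6
import Groth.Agent.Lib.DoubleLoc_helper6
import Groth.Agent.Lib.SupportLoc_helper5
import Groth.Agent.Lib.CM_helper5
import Groth.Agent.Lib.LocCohGV_helper7

/-! The graded criterion for the Cohen–Macaulay property of a finitely generated graded module
over a positively graded ring over a field: `P` is (locally) Cohen–Macaulay iff the graded local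
cohomology `H^i_{T_+}(P)` vanishes for `i < dim P` (helper1).  APPEND-ONLY once landed. -/

set_option autoImplicit false

namespace Groth.Agent.Lib.SegCM6H1

open DirectSum GrLC PrimeSpectrum Groth.Agent.Lib.GrDimH6

universe u

/-! ### generization of Cohen–Macaulay points of a module -/
section gen

variable {A : Type u} [CommRing A] [IsNoetherianRing A] (M : Type u) [AddCommGroup M] [Module A M]
  [Module.Finite A M]

theorem cm_loc_of_le (q m' : Ideal A) [hq : q.IsPrime] [hm' : m'.IsPrime] (hle : q ≤ m')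
    (hM : LocCoh.IsCohenMacaulayModule (Localization.AtPrime m')
      (LocalizedModule m'.primeCompl M))
    (hqM : (⟨q, hq⟩ : PrimeSpectrum A) ∈ Module.support A M) :
    LocCoh.IsCohenMacaulayModule (Localization.AtPrime q) (LocalizedModule q.primeCompl M) := by
  have hdisj : Disjoint (m'.primeCompl : Set A) (q : Set A) := by
    rw [Set.disjoint_left]
    intro x hx hxq
    exact hx (hle hxq)
  obtain ⟨Q, hQdef⟩ : ∃ Q : Ideal (Localization.AtPrime m'),
      Q = q.map (algebraMap A (Localization.AtPrime m')) := ⟨_, rfl⟩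
  haveI hQ : Q.IsPrime := by
    rw [hQdef]
    exact IsLocalization.isPrime_of_isPrime_disjoint m'.primeCompl (Localization.AtPrime m') q hq
      hdisj
  have hc : Q.comap (algebraMap A (Localization.AtPrime m')) = q := by
    rw [hQdef]
    exact IsLocalization.comap_map_of_isPrime_disjoint m'.primeCompl (Localization.AtPrime m') hq
      hdisj
  have e1 := Groth.Agent.Lib.DoubleLoc_helper6.depth_eq M m'.primeCompl Q
  have e2 := Groth.Agent.Lib.DoubleLoc_helper6.supportDim_eq M m'.primeCompl Q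
  have key : ∀ (q' : Ideal A) [q'.IsPrime], q' = q →
      (Module.supportDim (Localization.AtPrime q') (LocalizedModule q'.primeCompl M) =
        ((LocCoh.depth (Localization.AtPrime q') (LocalizedModule q'.primeCompl M) : ℕ∞) :
          WithBot ℕ∞)) →
      LocCoh.IsCohenMacaulayModule (Localization.AtPrime q) (LocalizedModule q.primeCompl M) := by
    intro q' _ e h
    subst e
    exact h
  apply key _ hc
  rw [← e1, ← e2]
  have hQS : (⟨Q, hQ⟩ : PrimeSpectrum (Localization.AtPrime m')) ∈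
      Module.support (Localization.AtPrime m') (LocalizedModule m'.primeCompl M) := by
    rw [Groth.Agent.DepthLib.mem_support_localizedModule_iff]
    have h1 : PrimeSpectrum.comap (algebraMap A (Localization.AtPrime m')) ⟨Q, hQ⟩ =
        (⟨q, hq⟩ : PrimeSpectrum A) := PrimeSpectrum.ext hc
    rw [h1]
    exact hqM
  haveI : IsNoetherianRing (Localization.AtPrime m') :=
    IsLocalization.isNoetherianRing m'.primeCompl _ inferInstance
  obtain ⟨h1, h2⟩ := Groth.Agent.DepthLib.supportDim_localizedModule_of_isCM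
    (LocalizedModule m'.primeCompl M) hM Q hQS
  rw [h1, h2]

end gen

/-! ### the dimension of a graded module is attained at the irrelevant ideal -/
section dim

variable {T : Type u} [CommRing T] [IsNoetherianRing T] (𝒯 : ℤ → AddSubgroup T) [GradedRing 𝒯]
  (hpos : ∀ n : ℤ, n < 0 → 𝒯 n = ⊥) (h0 : IsField (deg0 𝒯)) (m : HomogeneousIdeal 𝒯)
  (hm : IsStarLocal 𝒯 m)

include hm in
theorem hom_le_m (Q : PrimeSpectrum T) (hQ : Q.asIdeal.IsHomogeneous 𝒯) :
    Q.asIdeal ≤ m.toIdeal := by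
  have hQtop : (⟨Q.asIdeal, hQ⟩ : HomogeneousIdeal 𝒯) ≠ ⊤ := by
    intro h
    apply Q.isPrime.ne_top
    have h1 := congrArg HomogeneousIdeal.toIdeal h
    exact h1
  exact Groth.Agent.Lib.GorTop2H1.le_of_starLocal 𝒯 hm ⟨Q.asIdeal, hQ⟩ hQtop

include hpos h0 hm in
theorem rh_le_rh_m [hp : m.toIdeal.IsPrime] (Q a : PrimeSpectrum T)
    (hQ : Q.asIdeal.IsHomogeneous 𝒯) (hQa : Q ≤ a) :
    rh Q.asIdeal a ≤ rh Q.asIdeal ⟨m.toIdeal, hp⟩ := by
  classical
  haveI hmax : m.toIdeal.IsMaximal :=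
    Groth.Agent.Lib.GrHDecH1.isMaximal_of_starLocal 𝒯 hpos m hm
  letI : Field ↥(deg0 𝒯) := h0.toField
  haveI : Algebra.FiniteType ↥(deg0 𝒯) T := Groth.Agent.Lib.GorCanH1.finiteType_of_pos 𝒯 hpos
  have hQm : Q.asIdeal ≤ m.toIdeal := hom_le_m 𝒯 m hm Q hQ
  rw [rh_eq_height_map Q.asIdeal a hQa, rh_eq_height_map Q.asIdeal ⟨m.toIdeal, hp⟩ hQm]
  haveI : Algebra.FiniteType ↥(deg0 𝒯) (T ⧸ Q.asIdeal) :=
    Algebra.FiniteType.of_surjective (Ideal.Quotient.mkₐ ↥(deg0 𝒯) Q.asIdeal)
      (Ideal.Quotient.mkₐ_surjective _ Q.asIdeal)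
  haveI : IsDomain (T ⧸ Q.asIdeal) := Ideal.Quotient.isDomain _
  obtain ⟨d, -, -, -, hd⟩ := Groth.Agent.DimFTH8.exists_dim_eq ↥(deg0 𝒯) (T ⧸ Q.asIdeal)
  haveI h2 : (m.toIdeal.map (Ideal.Quotient.mk Q.asIdeal)).IsMaximal :=
    Ideal.IsMaximal.map_of_surjective_of_ker_le Ideal.Quotient.mk_surjective
      (by rw [Ideal.mk_ker]; exact hQm)
  show (a.asIdeal.map (Ideal.Quotient.mk Q.asIdeal)).height ≤
    (m.toIdeal.map (Ideal.Quotient.mk Q.asIdeal)).height
  rw [hd (m.toIdeal.map (Ideal.Quotient.mk Q.asIdeal))]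
  have hane : a.asIdeal.map (Ideal.Quotient.mk Q.asIdeal) ≠ ⊤ :=
    (Ideal.isPrime_map_quotientMk_of_isPrime hQa).ne_top
  obtain ⟨M', hM', haM⟩ := Ideal.exists_le_maximal _ hane
  haveI := hM'
  rw [← hd M']
  exact Ideal.height_mono haM

variable {P : Type u} [AddCommGroup P] [Module T P] (𝒬 : ℤ → AddSubgroup P) [Decomposition 𝒬]
  [SetLike.GradedSMul 𝒯 𝒬]

include hm 𝒬 in
theorem m_mem_support [hp : m.toIdeal.IsPrime] [Nontrivial P] :
    (⟨m.toIdeal, hp⟩ : PrimeSpectrum T) ∈ Module.support T P := by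
  obtain ⟨a, ha⟩ := (Module.nonempty_support_iff (R := T) (M := P)).2 inferInstance
  have h1 : coreP 𝒯 a ∈ Module.support T P := coreP_mem_support 𝒯 𝒬 ha
  have h2 : coreP 𝒯 a ≤ (⟨m.toIdeal, hp⟩ : PrimeSpectrum T) :=
    hom_le_m 𝒯 m hm (coreP 𝒯 a) (coreP_isHomogeneous 𝒯 a)
  exact Module.mem_support_mono h2 h1

include hpos h0 hm 𝒬 in
theorem supportDim_loc_m [hp : m.toIdeal.IsPrime]
    (hmP : (⟨m.toIdeal, hp⟩ : PrimeSpectrum T) ∈ Module.support T P) :
    Module.supportDim (Localization.AtPrime m.toIdeal) (LocalizedModule m.toIdeal.primeCompl P) =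
      Module.supportDim T P := by
  rw [Groth.Agent.DepthLib.supportDim_localizedModule P m.toIdeal hmP]
  unfold Module.supportDim
  rw [Order.krullDim_eq_iSup_height]
  apply le_antisymm
  · exact le_iSup (fun a : Module.support T P => ((Order.height a : ℕ∞) : WithBot ℕ∞)) ⟨_, hmP⟩
  · refine iSup_le (fun a => ?_)
    rw [WithBot.coe_le_coe]
    have e1 : Order.height a = Order.height (⟨a.1, a.2⟩ : Module.support T P) := rfl
    rw [e1, height_support_eq_homog 𝒯 𝒬 a.1 a.2]
    refine iSup_le (fun Q => ?_)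
    have hQa : Q.1.1 ≤ a.1 := Q.2.1.trans (coreP_le 𝒯 a.1)
    refine (rh_le_rh_m 𝒯 hpos h0 m hm Q.1.1 a.1 Q.2.2 hQa).trans ?_
    rw [height_support_eq (⟨m.toIdeal, hp⟩ : PrimeSpectrum T) hmP]
    exact le_iSup₂ (f := fun (Q' : Module.support T P)
      (_ : Q'.1 ≤ (⟨m.toIdeal, hp⟩ : PrimeSpectrum T)) =>
        rh Q'.1.asIdeal (⟨m.toIdeal, hp⟩ : PrimeSpectrum T)) Q.1
      (hom_le_m 𝒯 m hm Q.1.1 Q.2.2)

/-! ### the criterion -/

theorem subsingleton_locCoh_of_pieces (E : StarInjRes 𝒯 𝒬) (i : ℕ)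
    (h : ∀ g : ℤ, E.Hcomp m i g = ⊥) : Subsingleton (LocCoh.H m.toIdeal i P) := by
  haveI : Subsingleton (E.H m i) :=
    Groth.Agent.Lib.AInvH1.subsingleton_of_pieces 𝒯 E m i (fun k w hw => by
      have hw' : w ∈ E.Hcomp m i k := hw
      rw [h k] at hw'
      exact (Submodule.mem_bot _).1 hw')
  obtain ⟨γ⟩ := Groth.Agent.Lib.GrStarLCH1.main13224 T 𝒯 m P 𝒬 E i
  exact γ.symm.toEquiv.subsingleton

theorem pieces_of_subsingleton_locCoh (E : StarInjRes 𝒯 𝒬) (i : ℕ)
    (h : Subsingleton (LocCoh.H m.toIdeal i P)) (g : ℤ) : E.Hcomp m i g = ⊥ := by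
  obtain ⟨γ⟩ := Groth.Agent.Lib.GrStarLCH1.main13224 T 𝒯 m P 𝒬 E i
  haveI := h
  haveI : Subsingleton (E.H m i) := γ.toEquiv.subsingleton
  rw [Submodule.eq_bot_iff]
  intro x _
  exact Subsingleton.elim _ _

include hpos h0 hm in
/-- **The graded Cohen–Macaulay criterion for modules.** -/
theorem cmMod_iff_vanishing [Module.Finite T P] [Nontrivial P] (E : StarInjRes 𝒯 𝒬) (d : ℕ)
    (hd : Module.supportDim T P = d) :
    (∀ (q : Ideal T) [q.IsPrime], Subsingleton (LocalizedModule q.primeCompl P) ∨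
      LocCoh.IsCohenMacaulayModule (Localization.AtPrime q) (LocalizedModule q.primeCompl P)) ↔
      ∀ i : ℕ, i < d → ∀ g : ℤ, E.Hcomp m i g = ⊥ := by
  haveI hmax : m.toIdeal.IsMaximal :=
    Groth.Agent.Lib.GrHDecH1.isMaximal_of_starLocal 𝒯 hpos m hm
  haveI hp : m.toIdeal.IsPrime := hmax.isPrime
  have hmS : (⟨m.toIdeal, hp⟩ : PrimeSpectrum T) ∈ Module.support T P := m_mem_support 𝒯 m hm 𝒬
  have hdimm := supportDim_loc_m 𝒯 hpos h0 m hm 𝒬 hmS
  constructor
  · intro hCM i hi g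
    have h1 := (Groth.Agent.Lib.LocCohCMH7.main T m.toIdeal P (fun p => hCM p.asIdeal) d).2 ?_ i hi
    · exact pieces_of_subsingleton_locCoh 𝒯 m 𝒬 E i h1 g
    · intro p hmp hpS
      have hpm : p = (⟨m.toIdeal, hp⟩ : PrimeSpectrum T) :=
        PrimeSpectrum.ext (hmax.eq_of_le p.isPrime.ne_top hmp).symm
      subst hpm
      rw [hdimm, hd]
  · intro hv
    have hvan : ∀ i : ℕ, i < d → Subsingleton (LocCoh.H m.toIdeal i P) :=
      fun i hi => subsingleton_locCoh_of_pieces 𝒯 m 𝒬 E i (hv i hi)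
    have h1 : (d : ℕ∞) ≤ LocCoh.idealDepth m.toIdeal P :=
      (Groth.Agent.Lib.LocCohCMH7.vanishing_iff_le_depth m.toIdeal P d).1 hvan
    have h2 := Groth.Agent.DepthLib.idealDepth_le_depth_localization m.toIdeal P m.toIdeal le_rfl
    haveI : Nontrivial (LocalizedModule m.toIdeal.primeCompl P) := Module.mem_support_iff.1 hmS
    haveI : IsNoetherianRing (Localization.AtPrime m.toIdeal) :=
      IsLocalization.isNoetherianRing m.toIdeal.primeCompl _ inferInstance
    have h4 := Groth.Agent.DepthLib.depth_le_supportDim (Localization.AtPrime m.toIdeal)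
      (LocalizedModule m.toIdeal.primeCompl P)
    have hCMm : LocCoh.IsCohenMacaulayModule (Localization.AtPrime m.toIdeal)
        (LocalizedModule m.toIdeal.primeCompl P) := by
      unfold LocCoh.IsCohenMacaulayModule
      apply le_antisymm
      · rw [hdimm, hd]
        have h5 : (d : ℕ∞) ≤ LocCoh.depth (Localization.AtPrime m.toIdeal)
            (LocalizedModule m.toIdeal.primeCompl P) := h1.trans h2
        exact_mod_cast h5
      · exact h4
    intro q hq
    by_cases hsub : Subsingleton (LocalizedModule q.primeCompl P)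
    · exact Or.inl hsub
    right
    rw [not_subsingleton_iff_nontrivial] at hsub
    have hqS : (⟨q, hq⟩ : PrimeSpectrum T) ∈ Module.support T P := Module.mem_support_iff.2 hsub
    have hcS : coreP 𝒯 ⟨q, hq⟩ ∈ Module.support T P := coreP_mem_support 𝒯 𝒬 hqS
    haveI hcp : (Ideal.homogeneousCore 𝒯 q).toIdeal.IsPrime := core_isPrime 𝒯 q
    have hcle : (Ideal.homogeneousCore 𝒯 q).toIdeal ≤ m.toIdeal :=
      hom_le_m 𝒯 m hm (coreP 𝒯 ⟨q, hq⟩) (coreP_isHomogeneous 𝒯 ⟨q, hq⟩)
    have hCMc := cm_loc_of_le P (Ideal.homogeneousCore 𝒯 q).toIdeal m.toIdeal hcle hCMm hcS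
    -- the height of `q` over its core is finite
    haveI hqc : (q.map (Ideal.Quotient.mk (Ideal.homogeneousCore 𝒯 q).toIdeal)).IsPrime :=
      Ideal.isPrime_map_quotientMk_of_isPrime (Ideal.toIdeal_homogeneousCore_le 𝒯 q)
    obtain ⟨e, he⟩ := ENat.ne_top_iff_exists.1
      (Ideal.height_ne_top (I := q.map (Ideal.Quotient.mk (Ideal.homogeneousCore 𝒯 q).toIdeal))
        hqc.ne_top)
    have e1 := main13232 𝒯 𝒬 q e he.symm hsub
    have e2 := Groth.Agent.Lib.GrBassH6.main13234 T 𝒯 P 𝒬 q e he.symm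
    unfold LocCoh.IsCohenMacaulayModule at hCMc ⊢
    rw [e1, e2, hCMc]
    push_cast
    rfl

end dim

end Groth.Agent.Lib.SegCM6H1
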