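import Mathlib
import Groth.Agent.Lib.SegDim9_helper6

/-!
# Graded Noether normalisation modulo a homogeneous ideal (helper6)
-/

set_option autoImplicit false

namespace Groth.Agent.Lib.SegDimH6

open DirectSum MvPolynomial

universe u

section

variable {k : Type u} [Field k] {R : Type u} [CommRing R] [Algebra k R] (𝒜 : ℤ → Submodule k R)
  [GradedAlgebra 𝒜]
variable (hpos : ∀ n : ℤ, n < 0 → 𝒜 n = ⊥) (h0 : 𝒜 0 = Submodule.span k {(1 : R)})

theorem coheight_le_of_dim_quotient (I : Ideal R) (a : ℕ) (ha : ringKrullDim (R ⧸ I) = a)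
    (P : PrimeSpectrum R) (hP : I ≤ P.asIdeal) : Order.coheight P ≤ (a : ℕ∞) := by
  rw [Order.coheight_le_iff']
  intro l hl
  let l' : LTSeries (PrimeSpectrum.zeroLocus (R := R) I) :=
    LTSeries.mk l.length (fun i => ⟨l i, by
      change (I : Set R) ⊆ (l i).asIdeal
      have h1 : l.head ≤ l i := l.head_le i
      rw [hl] at h1
      exact hP.trans h1⟩) (fun i j hij => l.strictMono hij)
  have h2 := Order.LTSeries.length_le_krullDim l'
  rw [← ringKrullDim_quotient, ha] at h2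
  have : l'.length = l.length := rfl
  rw [this] at h2
  exact_mod_cast h2

include hpos h0 in
theorem exists_hsop_ideal [IsNoetherianRing R] (I : Ideal R) (hI : I.IsHomogeneous 𝒜) (a : ℕ)
    (ha : ringKrullDim (R ⧸ I) = a) :
    ∃ (e : ℕ) (x : Fin a → R), 0 < e ∧ (∀ i, x i ∈ 𝒜 (e : ℤ)) ∧
      PosLE 𝒜 (I ⊔ Ideal.span (Set.range x)) := by
  obtain ⟨x, d, hxd, hP⟩ := hsop_aux 𝒜 hpos h0 a I hI
    (fun P hP => coheight_le_of_dim_quotient I a ha P hP)
  set D : ℕ := ∏ i, d i with hD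
  have hDpos : 0 < D := Finset.prod_pos (fun i _ => (hxd i).1)
  have hdvd : ∀ i, d i ∣ D := fun i => Finset.dvd_prod_of_mem d (Finset.mem_univ i)
  refine ⟨D, fun i => x i ^ (D / d i), hDpos, ?_, ?_⟩
  · intro i
    have h1 := SetLike.pow_mem_graded (D / d i) (hxd i).2
    rw [nsmul_eq_mul] at h1
    have e1 : ((D / d i : ℕ) : ℤ) * (d i : ℤ) = (D : ℤ) := by
      exact_mod_cast Nat.div_mul_cancel (hdvd i)
    rw [e1] at h1
    exact h1
  · intro m hm b hb
    have h1 := hP m hm b hb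
    have h2 : I ⊔ Ideal.span (Set.range x) ≤
        (I ⊔ Ideal.span (Set.range fun i => x i ^ (D / d i))).radical := by
      refine sup_le (le_sup_left.trans Ideal.le_radical) ?_
      rw [Ideal.span_le]
      rintro _ ⟨i, rfl⟩
      exact ⟨D / d i, Ideal.mem_sup_right (Ideal.subset_span ⟨i, rfl⟩)⟩
    exact (Ideal.radical_le_radical_iff.2 h2) h1

theorem posLE_pow_sup (I : Ideal R) {r : ℕ} (x : Fin r → R) (n : ℕ)
    (hP : PosLE 𝒜 (I ⊔ Ideal.span (Set.range x))) :
    PosLE 𝒜 (I ⊔ Ideal.span (Set.range fun i => x i ^ n)) := by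
  intro m hm a ha
  have h1 := hP m hm a ha
  have h2 : I ⊔ Ideal.span (Set.range x) ≤
      (I ⊔ Ideal.span (Set.range fun i => x i ^ n)).radical := by
    refine sup_le (le_sup_left.trans Ideal.le_radical) ?_
    rw [Ideal.span_le]
    rintro _ ⟨i, rfl⟩
    exact ⟨n, Ideal.mem_sup_right (Ideal.subset_span ⟨i, rfl⟩)⟩
  exact (Ideal.radical_le_radical_iff.2 h2) h1

include hpos h0 in
/-- graded Nakayama modulo a homogeneous ideal `I` -/
theorem isIntegral_aeval_quot [Algebra.FiniteType k R] (I : Ideal R) (hI : I.IsHomogeneous 𝒜)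
    {r : ℕ} {e : ℕ} (he : 0 < e) (x : Fin r → R)
    (hx : ∀ i, x i ∈ 𝒜 (e : ℤ)) (hP : PosLE 𝒜 (I ⊔ Ideal.span (Set.range x))) :
    ((Ideal.Quotient.mkₐ k I).comp
      (MvPolynomial.aeval x : MvPolynomial (Fin r) k →ₐ[k] R)).toRingHom.IsIntegral := by
  classical
  set 𝔞 : Ideal R := I ⊔ Ideal.span (Set.range x) with h𝔞
  haveI : Algebra.IsIntegral k (R ⧸ 𝔞) := isIntegral_quotient 𝒜 hpos h0 hP
  haveI : Algebra.FiniteType k (R ⧸ 𝔞) :=
    Algebra.FiniteType.of_surjective (Ideal.Quotient.mkₐ k 𝔞) (Ideal.Quotient.mkₐ_surjective k 𝔞)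
  haveI hfin : Module.Finite k (R ⧸ 𝔞) := Algebra.IsIntegral.finite
  obtain ⟨n, s, hs⟩ := Module.Finite.exists_fin (R := k) (M := R ⧸ 𝔞)
  have hF : ∀ l : Fin n, ∃ y : R, Ideal.Quotient.mk 𝔞 y = s l :=
    fun l => Ideal.Quotient.mk_surjective (s l)
  choose F hFs using hF
  have hdec : ∀ u : R, ∃ (c : Fin n → k) (v : Fin r → R) (w : R), w ∈ I ∧
      u = ∑ l, c l • F l + ∑ i, v i * x i + w := by
    intro u
    have h1 : Ideal.Quotient.mk 𝔞 u ∈ Submodule.span k (Set.range s) := by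
      rw [hs]
      exact Submodule.mem_top
    obtain ⟨c, hc⟩ := (Submodule.mem_span_range_iff_exists_fun k).1 h1
    have h2 : u - ∑ l, c l • F l ∈ 𝔞 := by
      rw [← Ideal.Quotient.eq_zero_iff_mem, map_sub, map_sum, sub_eq_zero, ← hc]
      refine Finset.sum_congr rfl (fun l _ => ?_)
      rw [← hFs l]
      rfl
    obtain ⟨w, hw, z, hz, hwz⟩ := Submodule.mem_sup.1 h2
    obtain ⟨v, hv⟩ := (Ideal.mem_span_range_iff_exists_fun).1 hz
    refine ⟨c, v, w, hw, ?_⟩
    rw [hv]
    have h3 : u = ∑ l, c l • F l + (w + z) := by rw [hwz]; ring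
    rw [h3]
    ring
  set P := MvPolynomial (Fin r) k with hPdef
  set g : P →ₐ[k] R ⧸ I := (Ideal.Quotient.mkₐ k I).comp (MvPolynomial.aeval x) with hg
  letI alg : Algebra P (R ⧸ I) := g.toRingHom.toAlgebra
  have hsmul : ∀ (p : P) (y : R ⧸ I), p • y = g p * y := fun p y => rfl
  set gen : Set (R ⧸ I) :=
    {y | ∃ (l : Fin n) (m : ℤ), y = Ideal.Quotient.mk I ((decompose 𝒜 (F l) m : 𝒜 m) : R)}
    with hgen
  have hgenfin : gen.Finite := by
    have : gen ⊆ insert 0 (⋃ l : Fin n,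
        (fun m : ℤ => Ideal.Quotient.mk I ((decompose 𝒜 (F l) m : 𝒜 m) : R)) ''
        ((decompose 𝒜 (F l)).support : Set ℤ)) := by
      rintro y ⟨l, m, rfl⟩
      by_cases hm : m ∈ (decompose 𝒜 (F l)).support
      · refine Set.mem_insert_of_mem _ (Set.mem_iUnion.2 ⟨l, ⟨m, hm, rfl⟩⟩)
      · rw [DFinsupp.notMem_support_iff] at hm
        rw [hm, ZeroMemClass.coe_zero, map_zero]
        exact Set.mem_insert _ _
    refine Set.Finite.subset (Set.Finite.insert _ (Set.finite_iUnion (fun l => ?_))) this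
    exact Set.Finite.image _ (Finset.finite_toSet _)
  set N : Submodule P (R ⧸ I) := Submodule.span P gen with hN
  have hksmul : ∀ (c : k) (y : R ⧸ I), y ∈ N → c • y ∈ N := by
    intro c y hy
    have : c • y = (MvPolynomial.C c : P) • y := by
      rw [hsmul, hg, AlgHom.comp_apply, MvPolynomial.aeval_C, Algebra.smul_def]
      rfl
    rw [this]
    exact N.smul_mem _ hy
  have hxsmul : ∀ (i : Fin r) (y : R ⧸ I), y ∈ N → y * Ideal.Quotient.mk I (x i) ∈ N := by
    intro i y hy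
    have : y * Ideal.Quotient.mk I (x i) = (MvPolynomial.X i : P) • y := by
      rw [hsmul, hg, AlgHom.comp_apply, MvPolynomial.aeval_X, mul_comm]
      rfl
    rw [this]
    exact N.smul_mem _ hy
  have key : ∀ (b : ℕ) (d : ℤ), d < b → ∀ u ∈ 𝒜 d, Ideal.Quotient.mk I u ∈ N := by
    intro b
    induction b with
    | zero =>
      intro d hd u hu
      rw [eq_zero_of_neg 𝒜 hpos (by exact_mod_cast hd) hu, map_zero]
      exact N.zero_mem
    | succ b ih =>
      intro d hd u hu
      obtain ⟨c, v, w, hw, huv⟩ := hdec u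
      have h1 : u = ((decompose 𝒜 u d : 𝒜 d) : R) := (decompose_of_mem_same 𝒜 hu).symm
      rw [h1, huv, decompose_add, decompose_add, DirectSum.add_apply, DirectSum.add_apply,
        Submodule.coe_add, Submodule.coe_add, decompose_sum,
        decompose_sum, DFinsupp.finset_sum_apply, DFinsupp.finset_sum_apply,
        AddSubmonoidClass.coe_finset_sum, AddSubmonoidClass.coe_finset_sum, map_add, map_add,
        map_sum, map_sum]
      have hw0 : Ideal.Quotient.mk I ((decompose 𝒜 w d : 𝒜 d) : R) = 0 :=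
        Ideal.Quotient.eq_zero_iff_mem.2 (hI d hw)
      rw [hw0, add_zero]
      refine N.add_mem (N.sum_mem (fun l _ => ?_)) (N.sum_mem (fun i _ => ?_))
      · rw [decompose_smul, DirectSum.smul_apply, Submodule.coe_smul]
        have : Ideal.Quotient.mk I (c l • ((decompose 𝒜 (F l) d : 𝒜 d) : R)) =
            c l • Ideal.Quotient.mk I ((decompose 𝒜 (F l) d : 𝒜 d) : R) := rfl
        rw [this]
        refine hksmul _ _ (Submodule.subset_span ⟨l, d, rfl⟩)
      · have h2 := coe_decompose_mul_add_of_right_mem 𝒜 (i := d - e) (j := (e : ℤ)) (a := v i)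
          (hx i)
        rw [sub_add_cancel] at h2
        rw [h2, map_mul]
        refine hxsmul i _ (ih (d - e) ?_ _ (decompose 𝒜 (v i) (d - e)).2)
        have : (0 : ℤ) < (e : ℤ) := by exact_mod_cast he
        push_cast at hd
        omega
  have htop : N = ⊤ := by
    rw [eq_top_iff]
    intro ū _
    obtain ⟨u, rfl⟩ := Ideal.Quotient.mk_surjective ū
    rw [← DirectSum.sum_support_decompose 𝒜 u, map_sum]
    refine N.sum_mem (fun m _ => ?_)
    rcases lt_or_ge m 0 with hm | hm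
    · rw [eq_zero_of_neg 𝒜 hpos hm (decompose 𝒜 u m).2, map_zero]
      exact N.zero_mem
    · refine key (m.toNat + 1) m ?_ _ (decompose 𝒜 u m).2
      push_cast
      rw [Int.toNat_of_nonneg hm]
      omega
  haveI : Module.Finite P (R ⧸ I) := ⟨by
    rw [← htop, hN]
    exact Submodule.fg_span hgenfin⟩
  have : Algebra.IsIntegral P (R ⧸ I) := inferInstance
  exact this.isIntegral

end

end Groth.Agent.Lib.SegDimH6
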