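import Mathlib
import Groth.Agent.Lib.SegMod1_helper6

/-!
# Segre products modulo homogeneous ideals (helper6)
-/

set_option autoImplicit false

namespace Groth.Agent.Lib.SegDimH6

open DirectSum MvPolynomial
open scoped TensorProduct
open Groth.Agent.Lib.SegreNoeth (ρ ρ_apply P P_tmul P_finite ρ_tmul_of_mem ρ_mul_ψ ρ_one)

universe u

section

variable {k : Type u} [Field k] {R : Type u} [CommRing R] [Algebra k R] (𝒜 : ℤ → Submodule k R)
  [GradedAlgebra 𝒜] {S : Type u} [CommRing S] [Algebra k S] (ℬ : ℤ → Submodule k S)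
  [GradedAlgebra ℬ]

/-- the quotient map `R ⊗ S → R/I ⊗ S/J` -/
noncomputable def Pq (I : Ideal R) (J : Ideal S) : R ⊗[k] S →ₐ[k] (R ⧸ I) ⊗[k] (S ⧸ J) :=
  Algebra.TensorProduct.map (Ideal.Quotient.mkₐ k I) (Ideal.Quotient.mkₐ k J)

theorem Pq_tmul (I : Ideal R) (J : Ideal S) (a : R) (b : S) :
    Pq (k := k) I J (a ⊗ₜ[k] b) = (Ideal.Quotient.mk I a) ⊗ₜ[k] (Ideal.Quotient.mk J b) := by
  rw [Pq, Algebra.TensorProduct.map_tmul]
  rfl

/-- the `k`-span of `a ⊗ s`, `a ∈ I` -/
def spanL (I : Ideal R) : Submodule k (R ⊗[k] S) :=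
  Submodule.span k {u | ∃ a ∈ I, ∃ s : S, u = a ⊗ₜ[k] s}

/-- the `k`-span of `r ⊗ b`, `b ∈ J` -/
def spanR (J : Ideal S) : Submodule k (R ⊗[k] S) :=
  Submodule.span k {u | ∃ r : R, ∃ b ∈ J, u = r ⊗ₜ[k] b}

theorem mul_mem_spanL (I : Ideal R) (u v : R ⊗[k] S) (hv : v ∈ spanL (S := S) I) :
    u * v ∈ spanL (S := S) I := by
  induction u using TensorProduct.induction_on with
  | zero => rw [zero_mul]; exact Submodule.zero_mem _
  | tmul r s =>
    refine Submodule.span_induction (p := fun v _ => (r ⊗ₜ[k] s) * v ∈ spanL (S := S) I)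
      ?_ ?_ ?_ ?_ hv
    · rintro _ ⟨a, ha, s', rfl⟩
      rw [Algebra.TensorProduct.tmul_mul_tmul]
      exact Submodule.subset_span ⟨r * a, I.mul_mem_left r ha, s * s', rfl⟩
    · rw [mul_zero]; exact Submodule.zero_mem _
    · intro x y _ _ hx hy
      rw [mul_add]; exact Submodule.add_mem _ hx hy
    · intro c x _ hx
      rw [mul_smul_comm]; exact Submodule.smul_mem _ c hx
  | add x y hx hy => rw [add_mul]; exact Submodule.add_mem _ hx hy

theorem mul_mem_spanR (J : Ideal S) (u v : R ⊗[k] S) (hv : v ∈ spanR (R := R) J) :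
    u * v ∈ spanR (R := R) J := by
  induction u using TensorProduct.induction_on with
  | zero => rw [zero_mul]; exact Submodule.zero_mem _
  | tmul r s =>
    refine Submodule.span_induction (p := fun v _ => (r ⊗ₜ[k] s) * v ∈ spanR (R := R) J)
      ?_ ?_ ?_ ?_ hv
    · rintro _ ⟨r', b, hb, rfl⟩
      rw [Algebra.TensorProduct.tmul_mul_tmul]
      exact Submodule.subset_span ⟨r * r', s * b, J.mul_mem_left s hb, rfl⟩
    · rw [mul_zero]; exact Submodule.zero_mem _
    · intro x y _ _ hx hy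
      rw [mul_add]; exact Submodule.add_mem _ hx hy
    · intro c x _ hx
      rw [mul_smul_comm]; exact Submodule.smul_mem _ c hx
  | add x y hx hy => rw [add_mul]; exact Submodule.add_mem _ hx hy

theorem ker_Pq_le (I : Ideal R) (J : Ideal S) (u : R ⊗[k] S) (hu : Pq (k := k) I J u = 0) :
    u ∈ spanL (S := S) I ⊔ spanR (R := R) J := by
  have h1 : u ∈ RingHom.ker (Algebra.TensorProduct.map (Ideal.Quotient.mkₐ k I)
      (Ideal.Quotient.mkₐ k J)) := hu
  rw [Algebra.TensorProduct.map_ker _ _ (Ideal.Quotient.mkₐ_surjective k I)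
    (Ideal.Quotient.mkₐ_surjective k J)] at h1
  obtain ⟨v, hv, w, hw, rfl⟩ := Submodule.mem_sup.1 h1
  refine Submodule.add_mem _ (Submodule.mem_sup_left ?_) (Submodule.mem_sup_right ?_)
  · have hv' : v ∈ Submodule.span (R ⊗[k] S)
        ((Algebra.TensorProduct.includeLeft : R →ₐ[k] R ⊗[k] S) ''
          (RingHom.ker (Ideal.Quotient.mkₐ k I) : Set R)) := hv
    refine Submodule.span_induction (p := fun v _ => v ∈ spanL (S := S) I) ?_ ?_ ?_ ?_ hv'
    · rintro _ ⟨a, ha, rfl⟩
      have haI : a ∈ I := by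
        have : Ideal.Quotient.mkₐ k I a = 0 := ha
        exact Ideal.Quotient.eq_zero_iff_mem.1 this
      exact Submodule.subset_span ⟨a, haI, 1, rfl⟩
    · exact Submodule.zero_mem _
    · intro x y _ _ hx hy; exact Submodule.add_mem _ hx hy
    · intro c x _ hx
      rw [smul_eq_mul]
      exact mul_mem_spanL I c x hx
  · have hw' : w ∈ Submodule.span (R ⊗[k] S)
        ((Algebra.TensorProduct.includeRight : S →ₐ[k] R ⊗[k] S) ''
          (RingHom.ker (Ideal.Quotient.mkₐ k J) : Set S)) := hw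
    refine Submodule.span_induction (p := fun v _ => v ∈ spanR (R := R) J) ?_ ?_ ?_ ?_ hw'
    · rintro _ ⟨b, hb, rfl⟩
      have hbJ : b ∈ J := by
        have : Ideal.Quotient.mkₐ k J b = 0 := hb
        exact Ideal.Quotient.eq_zero_iff_mem.1 this
      exact Submodule.subset_span ⟨1, b, hbJ, rfl⟩
    · exact Submodule.zero_mem _
    · intro x y _ _ hx hy; exact Submodule.add_mem _ hx hy
    · intro c x _ hx
      rw [smul_eq_mul]
      exact mul_mem_spanR J c x hx

theorem Pq_eq_zero_of_mem (I : Ideal R) (J : Ideal S) (u : R ⊗[k] S)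
    (hu : u ∈ spanL (S := S) I ⊔ spanR (R := R) J) : Pq (k := k) I J u = 0 := by
  obtain ⟨v, hv, w, hw, rfl⟩ := Submodule.mem_sup.1 hu
  have h1 : Pq (k := k) I J v = 0 := by
    refine Submodule.span_induction (p := fun v _ => Pq (k := k) I J v = 0) ?_ ?_ ?_ ?_ hv
    · rintro _ ⟨a, ha, s, rfl⟩
      rw [Pq_tmul, Ideal.Quotient.eq_zero_iff_mem.2 ha, TensorProduct.zero_tmul]
    · exact map_zero _
    · intro x y _ _ hx hy; rw [map_add, hx, hy, add_zero]
    · intro c x _ hx; rw [map_smul, hx, smul_zero]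
  have h2 : Pq (k := k) I J w = 0 := by
    refine Submodule.span_induction (p := fun v _ => Pq (k := k) I J v = 0) ?_ ?_ ?_ ?_ hw
    · rintro _ ⟨r, b, hb, rfl⟩
      rw [Pq_tmul, Ideal.Quotient.eq_zero_iff_mem.2 hb, TensorProduct.tmul_zero]
    · exact map_zero _
    · intro x y _ _ hx hy; rw [map_add, hx, hy, add_zero]
    · intro c x _ hx; rw [map_smul, hx, smul_zero]
  rw [map_add, h1, h2, add_zero]

/-- the kernel of `R ⊗ S → R/I ⊗ S/J` is stable under the Reynolds operator -/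
theorem Pq_ρ (I : Ideal R) (J : Ideal S) (hI : I.IsHomogeneous 𝒜) (hJ : J.IsHomogeneous ℬ)
    (u : R ⊗[k] S) (hu : Pq (k := k) I J u = 0) : Pq (k := k) I J (ρ 𝒜 ℬ u) = 0 := by
  have hmem := ker_Pq_le I J u hu
  have hP : ∀ n : ℤ, Pq (k := k) I J (P 𝒜 ℬ n u) = 0 := by
    intro n
    apply Pq_eq_zero_of_mem
    obtain ⟨v, hv, w, hw, rfl⟩ := Submodule.mem_sup.1 hmem
    rw [map_add]
    refine Submodule.add_mem _ (Submodule.mem_sup_left ?_) (Submodule.mem_sup_right ?_)
    · refine Submodule.span_induction (p := fun v _ => P 𝒜 ℬ n v ∈ spanL (S := S) I)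
        ?_ ?_ ?_ ?_ hv
      · rintro _ ⟨a, ha, s, rfl⟩
        rw [P_tmul]
        exact Submodule.subset_span ⟨_, hI n ha, _, rfl⟩
      · rw [map_zero]; exact Submodule.zero_mem _
      · intro x y _ _ hx hy; rw [map_add]; exact Submodule.add_mem _ hx hy
      · intro c x _ hx; rw [map_smul]; exact Submodule.smul_mem _ c hx
    · refine Submodule.span_induction (p := fun v _ => P 𝒜 ℬ n v ∈ spanR (R := R) J)
        ?_ ?_ ?_ ?_ hw
      · rintro _ ⟨r, b, hb, rfl⟩
        rw [P_tmul]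
        exact Submodule.subset_span ⟨_, _, hJ n hb, rfl⟩
      · rw [map_zero]; exact Submodule.zero_mem _
      · intro x y _ _ hx hy; rw [map_add]; exact Submodule.add_mem _ hx hy
      · intro c x _ hx; rw [map_smul]; exact Submodule.smul_mem _ c hx
  rw [ρ_apply]
  refine finsum_induction (fun y => Pq (k := k) I J y = 0) (map_zero _) ?_ hP
  intro x y hx hy
  rw [map_add, hx, hy, add_zero]

end

end Groth.Agent.Lib.SegDimH6
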