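import Mathlib
import Groth.Agent.Lib.SegMod2_helper6

/-!
# Segre products modulo homogeneous ideals, part 2 (helper6)
-/

set_option autoImplicit false

namespace Groth.Agent.Lib.SegDimH6

open DirectSum MvPolynomial
open scoped TensorProduct
open Groth.Agent.Lib.SegreNoeth (ρ ρ_apply P P_tmul P_finite ρ_tmul_of_mem ρ_mul_ψ ρ_one)

universe u

section

variable {k : Type u} [Field k] {R : Type u} [CommRing R] [Algebra k R] (𝒜 : ℤ → Submodule k R)
  [GradedAlgebra 𝒜] {S : Type u} [CommRing S] [Algebra k S] (ℬ : ℤ → Submodule k S)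
  [GradedAlgebra ℬ]
variable {r s : ℕ} {e : ℕ} (x : Fin r → R) (y : Fin s → S)
variable {T : Type u} [CommRing T] [Algebra k T] (𝒯 : ℤ → Submodule k T) [GradedAlgebra 𝒯]
  (ψ : T →ₐ[k] R ⊗[k] S)
  (hdegT : ∀ n : ℤ, (𝒯 n).map ψ.toLinearMap =
    Submodule.span k {x : R ⊗[k] S | ∃ a ∈ 𝒜 n, ∃ b ∈ ℬ n, x = a ⊗ₜ[k] b})
variable (I : Ideal R) (J : Ideal S)

/-- the ideal of `T = R # S` of elements vanishing in `R/I ⊗ S/J` -/
noncomputable def aa : Ideal T := Ideal.comap (ψ : T →+* R ⊗[k] S) (RingHom.ker (Pq (k := k) I J).toRingHom)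

theorem mem_aa (t : T) : t ∈ aa ψ I J ↔ Pq (k := k) I J (ψ t) = 0 := Iff.rfl

/-- `k[X] ⊗ k[Y] → R/I ⊗ S/J` -/
noncomputable def GWq : MvPolynomial (Fin r) k ⊗[k] MvPolynomial (Fin s) k →ₐ[k]
    (R ⧸ I) ⊗[k] (S ⧸ J) :=
  Algebra.TensorProduct.map ((Ideal.Quotient.mkₐ k I).comp (aeval x))
    ((Ideal.Quotient.mkₐ k J).comp (aeval y))

theorem GWq_eq (w : MvPolynomial (Fin r) k ⊗[k] MvPolynomial (Fin s) k) :
    GWq (k := k) x y I J w = Pq (k := k) I J (GW k r s x y w) := by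
  induction w using TensorProduct.induction_on with
  | zero => rw [map_zero, map_zero, map_zero]
  | tmul p q =>
    rw [GWq, GW, Algebra.TensorProduct.map_tmul, Algebra.TensorProduct.map_tmul, Pq_tmul]
    rfl
  | add a b ha hb => rw [map_add, map_add, map_add, ha, hb]

include hdegT in
theorem fq_isIntegral (hψ : Function.Injective ψ) (he : e ≠ 0) (hx : ∀ i, x i ∈ 𝒜 (e : ℤ))
    (hy : ∀ j, y j ∈ ℬ (e : ℤ)) (hI : I.IsHomogeneous 𝒜) (hJ : J.IsHomogeneous ℬ)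
    (hGW : (GWq (k := k) x y I J).toRingHom.IsIntegral)
    (tt : Fin r × Fin s → T) (htt : ∀ p, ψ (tt p) = x p.1 ⊗ₜ[k] y p.2) :
    ((Ideal.Quotient.mk (aa ψ I J)).comp
      (aeval tt : ZZ k r s →ₐ[k] T).toRingHom).IsIntegral := by
  classical
  intro tbar
  obtain ⟨t, rfl⟩ := Ideal.Quotient.mk_surjective tbar
  obtain ⟨p, hpm, hpe⟩ := hGW (Pq (k := k) I J (ψ t))
  rw [Polynomial.eval₂_eq_sum_range] at hpe
  choose z hz using exists_ρ 𝒜 ℬ x y he hx hy
  set N := p.natDegree with hN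
  set f : ZZ k r s →ₐ[k] T := aeval tt with hf
  have hfz : ∀ w, ψ (f (z w)) = ρ 𝒜 ℬ (GW k r s x y w) := by
    intro w
    rw [hf, ψ_comp x y ψ tt htt, ← hz]
  have hu : Pq (k := k) I J (∑ i ∈ Finset.range (N + 1),
      GW k r s x y (p.coeff i) * ψ t ^ i) = 0 := by
    rw [map_sum, ← hpe]
    refine Finset.sum_congr rfl (fun i _ => ?_)
    rw [map_mul, map_pow]
    congr 1
    exact (GWq_eq x y I J (p.coeff i)).symm
  have hρ := Pq_ρ 𝒜 ℬ I J hI hJ _ hu
  have key : ∑ i ∈ Finset.range (N + 1), f (z (p.coeff i)) * t ^ i ∈ aa ψ I J := by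
    rw [mem_aa, map_sum]
    have h1 : ∀ i ∈ Finset.range (N + 1), ψ (f (z (p.coeff i)) * t ^ i) =
        ρ 𝒜 ℬ (GW k r s x y (p.coeff i) * ψ t ^ i) := by
      intro i _
      rw [map_mul, hfz, mul_comm, mul_comm _ (ψ t ^ i), ← map_pow, ρ_mul_ψ 𝒜 ℬ 𝒯 ψ hdegT]
    rw [Finset.sum_congr rfl h1, ← map_sum]
    exact hρ
  have hlead : f (z (p.coeff N)) = 1 := by
    apply hψ
    rw [hfz, hN, hpm.coeff_natDegree, map_one, ρ_one, map_one]
  rw [Finset.sum_range_succ, hlead, one_mul] at key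
  refine ⟨Polynomial.X ^ N + ∑ i ∈ Finset.range N,
    Polynomial.C (z (p.coeff i)) * Polynomial.X ^ i, ?_, ?_⟩
  · apply Polynomial.monic_X_pow_add
    rw [Polynomial.degree_lt_iff_coeff_zero]
    intro m hm
    rw [Polynomial.finset_sum_coeff]
    refine Finset.sum_eq_zero (fun i hi => ?_)
    rw [Polynomial.coeff_C_mul_X_pow, if_neg]
    have := Finset.mem_range.1 hi
    omega
  · rw [Polynomial.eval₂_add, Polynomial.eval₂_pow, Polynomial.eval₂_X, Polynomial.eval₂_finset_sum,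
      add_comm]
    have h2 := Ideal.Quotient.eq_zero_iff_mem.2 key
    rw [map_add, map_sum, map_pow] at h2
    rw [← h2]
    congr 1
    refine Finset.sum_congr rfl (fun i _ => ?_)
    rw [Polynomial.eval₂_mul, Polynomial.eval₂_C, Polynomial.eval₂_pow, Polynomial.eval₂_X, map_mul,
      map_pow]
    rfl

theorem ker_fq (hGW : Function.Injective (GWq (k := k) x y I J))
    (tt : Fin r × Fin s → T) (htt : ∀ p, ψ (tt p) = x p.1 ⊗ₜ[k] y p.2) (z : ZZ k r s) :
    aeval tt z ∈ aa ψ I J ↔ σW k r s z = 0 := by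
  rw [mem_aa, ψ_comp x y ψ tt htt, ← GWq_eq]
  constructor
  · intro h
    apply hGW
    rw [h, map_zero]
  · intro h
    rw [h, map_zero]

end

end Groth.Agent.Lib.SegDimH6
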