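import Mathlib
import Groth.Agent.Lib.SegMod3_helper6

/-!
# Segre products modulo homogeneous ideals: the core statement (helper6)
-/

set_option autoImplicit false

namespace Groth.Agent.Lib.SegDimH6

open DirectSum MvPolynomial
open scoped TensorProduct

universe u

theorem core (k : Type u) [Field k] (R : Type u) [CommRing R] [Algebra k R]
    (𝒜 : ℤ → Submodule k R) [GradedAlgebra 𝒜] (hposR : ∀ n : ℤ, n < 0 → 𝒜 n = ⊥)
    (h0R : 𝒜 0 = Submodule.span k {(1 : R)}) [Algebra.FiniteType k R]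
    (S : Type u) [CommRing S] [Algebra k S] (ℬ : ℤ → Submodule k S) [GradedAlgebra ℬ]
    (hposS : ∀ n : ℤ, n < 0 → ℬ n = ⊥) (h0S : ℬ 0 = Submodule.span k {(1 : S)})
    [Algebra.FiniteType k S] (T : Type u) [CommRing T] [Algebra k T] (𝒯 : ℤ → Submodule k T)
    [GradedAlgebra 𝒯] (ψ : T →ₐ[k] TensorProduct k R S) (hψ : Function.Injective ψ)
    (hdegT : ∀ n : ℤ, (𝒯 n).map ψ.toLinearMap =
      Submodule.span k {x : TensorProduct k R S | ∃ a ∈ 𝒜 n, ∃ b ∈ ℬ n, x = a ⊗ₜ[k] b})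
    (I : Ideal R) (J : Ideal S) (hI : I.IsHomogeneous 𝒜) (hJ : J.IsHomogeneous ℬ)
    (a b : ℕ) (ha : ringKrullDim (R ⧸ I) = a) (hb : ringKrullDim (S ⧸ J) = b) :
    ∃ (e : ℕ) (x : Fin a → R) (y : Fin b → S) (tt : Fin a × Fin b → T),
      0 < e ∧ (∀ i, x i ∈ 𝒜 (e : ℤ)) ∧ (∀ j, y j ∈ ℬ (e : ℤ)) ∧
      (∀ p, ψ (tt p) = x p.1 ⊗ₜ[k] y p.2) ∧
      Function.Injective ((Ideal.Quotient.mkₐ k I).comp
        (aeval x : MvPolynomial (Fin a) k →ₐ[k] R)) ∧
      Function.Injective ((Ideal.Quotient.mkₐ k J).comp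
        (aeval y : MvPolynomial (Fin b) k →ₐ[k] S)) ∧
      ((Ideal.Quotient.mk (aa ψ I J)).comp
        (aeval tt : ZZ k a b →ₐ[k] T).toRingHom).IsIntegral ∧
      (∀ z : ZZ k a b, aeval tt z ∈ aa ψ I J ↔ σW k a b z = 0) := by
  haveI : IsNoetherianRing R := Algebra.FiniteType.isNoetherianRing k R
  haveI : IsNoetherianRing S := Algebra.FiniteType.isNoetherianRing k S
  obtain ⟨eR, x₀, heR, hx₀, hPR⟩ := exists_hsop_ideal 𝒜 hposR h0R I hI a ha
  obtain ⟨eS, y₀, heS, hy₀, hPS⟩ := exists_hsop_ideal ℬ hposS h0S J hJ b hb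
  set e : ℕ := eR * eS with he
  have hepos : 0 < e := Nat.mul_pos heR heS
  set x : Fin a → R := fun i => x₀ i ^ eS with hxdef
  set y : Fin b → S := fun j => y₀ j ^ eR with hydef
  have hx : ∀ i, x i ∈ 𝒜 (e : ℤ) := by
    intro i
    have h1 := SetLike.pow_mem_graded eS (hx₀ i)
    rw [nsmul_eq_mul] at h1
    have e1 : (eS : ℤ) * (eR : ℤ) = ((eR * eS : ℕ) : ℤ) := by push_cast; ring
    rw [e1] at h1
    exact h1
  have hy : ∀ j, y j ∈ ℬ (e : ℤ) := by
    intro j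
    have h1 := SetLike.pow_mem_graded eR (hy₀ j)
    rw [nsmul_eq_mul] at h1
    have e1 : (eR : ℤ) * (eS : ℤ) = ((eR * eS : ℕ) : ℤ) := by push_cast; ring
    rw [e1] at h1
    exact h1
  have hPx : PosLE 𝒜 (I ⊔ Ideal.span (Set.range x)) := posLE_pow_sup 𝒜 I x₀ eS hPR
  have hPy : PosLE ℬ (J ⊔ Ideal.span (Set.range y)) := posLE_pow_sup ℬ J y₀ eR hPS
  have hintR := isIntegral_aeval_quot 𝒜 hposR h0R I hI hepos x hx hPx
  have hintS := isIntegral_aeval_quot ℬ hposS h0S J hJ hepos y hy hPy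
  have hcompR : (Ideal.Quotient.mkₐ k I).comp (aeval x : MvPolynomial (Fin a) k →ₐ[k] R) =
      aeval (fun i => Ideal.Quotient.mkₐ k I (x i)) := MvPolynomial.comp_aeval _ _
  have hcompS : (Ideal.Quotient.mkₐ k J).comp (aeval y : MvPolynomial (Fin b) k →ₐ[k] S) =
      aeval (fun i => Ideal.Quotient.mkₐ k J (y i)) := MvPolynomial.comp_aeval _ _
  have hinjR : Function.Injective ((Ideal.Quotient.mkₐ k I).comp
      (aeval x : MvPolynomial (Fin a) k →ₐ[k] R)) := by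
    rw [hcompR]
    refine aeval_injective_of_dim _ ?_ ha
    rw [← hcompR]
    exact hintR
  have hinjS : Function.Injective ((Ideal.Quotient.mkₐ k J).comp
      (aeval y : MvPolynomial (Fin b) k →ₐ[k] S)) := by
    rw [hcompS]
    refine aeval_injective_of_dim _ ?_ hb
    rw [← hcompS]
    exact hintS
  have hGWint : (GWq (k := k) x y I J).toRingHom.IsIntegral :=
    map_isIntegral _ _ hintR hintS
  have hGWinj : Function.Injective (GWq (k := k) x y I J) :=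
    map_injective _ _ hinjR hinjS
  obtain ⟨tt, htt⟩ := exists_tt 𝒜 ℬ x y 𝒯 ψ hdegT hx hy
  refine ⟨e, x, y, tt, hepos, hx, hy, htt, hinjR, hinjS, ?_, ?_⟩
  · exact fq_isIntegral 𝒜 ℬ x y 𝒯 ψ hdegT I J hψ hepos.ne' hx hy hI hJ hGWint tt htt
  · exact ker_fq x y ψ I J hGWinj tt htt

end Groth.Agent.Lib.SegDimH6
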