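import Mathlib
import Groth.Agent.Lib.SegMod4_helper6
import Groth.Agent.Lib.SegreFin_helper3
import Groth.Agent.Lib.DimTheory_helper5

/-!
# Graded modules over graded `k`-algebras: annihilators and torsion-free elements (helper6)
-/

set_option autoImplicit false

namespace Groth.Agent.Lib.SegDimH6

open DirectSum MvPolynomial
open scoped TensorProduct
open Groth.Agent.Lib.SegreH3 (proj proj_smul_of_mem)

universe u

section mod

variable {k : Type u} [Field k] {R : Type u} [CommRing R] [Algebra k R] (𝒜 : ℤ → Submodule k R)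
  [GradedAlgebra 𝒜]
  {M : Type u} [AddCommGroup M] [Module R M] [Module k M] [IsScalarTower k R M]
  (ℳ : ℤ → AddSubgroup M) [DirectSum.Decomposition ℳ] [SetLike.GradedSMul 𝒜 ℳ]

include ℳ in
theorem annihilator_isHomogeneous : (Module.annihilator R M).IsHomogeneous 𝒜 := by
  intro n r hr
  rw [Module.mem_annihilator] at hr ⊢
  intro m
  refine DirectSum.Decomposition.inductionOn ℳ ?_ ?_ ?_ m
  · exact smul_zero _
  · intro j m
    have h1 := proj_smul_of_mem 𝒜 ℳ m.2 r (n + j) n rfl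
    rw [hr, GradedAlgebra.proj_apply] at h1
    rw [← h1]
    exact map_zero _
  · intro m m' h h'
    rw [smul_add, h, h', add_zero]

/-- `m` has trivial annihilator in `k[x]` -/
def NT {a : ℕ} (x : Fin a → R) (m : M) : Prop :=
  ∀ p : MvPolynomial (Fin a) k, (aeval x p : R) • m = 0 → p = 0

omit [IsScalarTower k R M] in
theorem exists_NT [Module.Finite R M] {a : ℕ} (x : Fin a → R)
    (hinj : Function.Injective ((Ideal.Quotient.mkₐ k (Module.annihilator R M)).comp
      (aeval x : MvPolynomial (Fin a) k →ₐ[k] R))) :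
    ∃ (d : ℤ) (m : M), m ∈ ℳ d ∧ NT (k := k) x m := by
  classical
  by_contra hcon
  push Not at hcon
  have hT : ∀ (d : ℤ) (m : M), m ∈ ℳ d → ∃ p : MvPolynomial (Fin a) k, p ≠ 0 ∧
      (aeval x p : R) • m = 0 := by
    intro d m hm
    have := hcon d m hm
    unfold NT at this
    push Not at this
    obtain ⟨p, hp, hp0⟩ := this
    exact ⟨p, hp0, hp⟩
  obtain ⟨F, hF⟩ := (Module.finite_def.1 (inferInstance : Module.Finite R M))
  have hT' : ∀ (m : M) (d : ℤ), ∃ p : MvPolynomial (Fin a) k, p ≠ 0 ∧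
      (aeval x p : R) • ((decompose ℳ m d : ℳ d) : M) = 0 :=
    fun m d => hT d _ (decompose ℳ m d).2
  choose q hq0 hq using hT'
  set p : MvPolynomial (Fin a) k := ∏ m ∈ F, ∏ d ∈ (decompose ℳ m).support, q m d with hp
  have hp0 : p ≠ 0 := by
    rw [hp]
    exact Finset.prod_ne_zero_iff.2 (fun m _ => Finset.prod_ne_zero_iff.2 (fun d _ => hq0 m d))
  have hkill : ∀ m ∈ F, (aeval x p : R) • m = 0 := by
    intro m hm
    conv_lhs => rw [← DirectSum.sum_support_decompose ℳ m]
    rw [Finset.smul_sum]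
    refine Finset.sum_eq_zero (fun d hd => ?_)
    have h1 : q m d ∣ p := by
      rw [hp]
      exact (Finset.dvd_prod_of_mem _ hd).trans (Finset.dvd_prod_of_mem
        (fun m => ∏ d ∈ (decompose ℳ m).support, q m d) hm)
    obtain ⟨c, hc⟩ := h1
    rw [hc, map_mul, mul_comm, mul_smul, hq, smul_zero]
  have hann : (aeval x p : R) ∈ Module.annihilator R M := by
    rw [Module.mem_annihilator]
    intro m
    have hm : m ∈ Submodule.span R (F : Set M) := by rw [hF]; trivial
    refine Submodule.span_induction (p := fun m _ => (aeval x p : R) • m = 0) ?_ ?_ ?_ ?_ hm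
    · intro m hm; exact hkill m hm
    · exact smul_zero _
    · intro y z _ _ hy hz; rw [smul_add, hy, hz, add_zero]
    · intro c y _ hy; rw [smul_comm, hy, smul_zero]
  apply hp0
  apply hinj
  rw [map_zero, AlgHom.comp_apply]
  exact Ideal.Quotient.eq_zero_iff_mem.2 hann

omit [IsScalarTower k R M] [GradedAlgebra 𝒜] in
/-- torsion elements are stable under sums and the action of `R` -/
theorem not_NT_span {a : ℕ} (x : Fin a → R) (m : M) (s : Set R)
    (h : ∀ c ∈ s, ¬ NT (k := k) x (c • m)) (v : R) (hv : v ∈ Ideal.span s) :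
    ¬ NT (k := k) x (v • m) := by
  have key : ∀ v ∈ Ideal.span s, ∃ p : MvPolynomial (Fin a) k, p ≠ 0 ∧
      (aeval x p : R) • (v • m) = 0 := by
    intro v hv
    refine Submodule.span_induction (p := fun v _ => ∃ p : MvPolynomial (Fin a) k, p ≠ 0 ∧
      (aeval x p : R) • (v • m) = 0) ?_ ?_ ?_ ?_ hv
    · intro c hc
      have := h c hc
      unfold NT at this
      push Not at this
      obtain ⟨p, hp, hp0⟩ := this
      exact ⟨p, hp0, hp⟩
    · exact ⟨1, one_ne_zero, by rw [zero_smul, smul_zero]⟩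
    · rintro y z _ _ ⟨p, hp0, hp⟩ ⟨q, hq0, hq⟩
      refine ⟨p * q, mul_ne_zero hp0 hq0, ?_⟩
      have e1 : (aeval x (p * q) : R) • (y • m) = 0 := by
        rw [map_mul, mul_comm, mul_smul, hp, smul_zero]
      have e2 : (aeval x (p * q) : R) • (z • m) = 0 := by
        rw [map_mul, mul_smul, hq, smul_zero]
      rw [add_smul, smul_add, e1, e2, add_zero]
    · rintro c y _ ⟨p, hp0, hp⟩
      refine ⟨p, hp0, ?_⟩
      rw [smul_eq_mul, mul_smul, smul_comm, hp, smul_zero]
  obtain ⟨p, hp0, hp⟩ := key v hv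
  intro hNT
  exact hp0 (hNT p hp)

omit [IsScalarTower k R M] in
theorem NT_shift {a e : ℕ} (he : 0 < e) (x : Fin a → R) (hx : ∀ i, x i ∈ 𝒜 (e : ℤ)) (i₀ : Fin a)
    (hstd : Ideal.span (⋃ n ∈ Set.Ioi (0 : ℤ), (𝒜 n : Set R)) =
      Ideal.span ((𝒜 1 : Submodule k R) : Set R))
    {d : ℤ} {m : M} (hm : m ∈ ℳ d) (hNT : NT (k := k) x m) :
    ∃ m' : M, m' ∈ ℳ (d + 1) ∧ NT (k := k) x m' := by
  have h1 : NT (k := k) x (x i₀ • m) := by
    intro p hp
    have h2 : (aeval x (p * X i₀) : R) • m = 0 := by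
      rw [map_mul, aeval_X, mul_smul]
      exact hp
    have h3 := hNT _ h2
    rcases mul_eq_zero.1 h3 with h4 | h4
    · exact h4
    · exact absurd h4 (X_ne_zero _)
  have h5 : x i₀ ∈ Ideal.span ((𝒜 1 : Submodule k R) : Set R) := by
    rw [← hstd]
    refine Ideal.subset_span (Set.mem_iUnion₂.2 ⟨(e : ℤ), ?_, hx i₀⟩)
    exact Set.mem_Ioi.2 (by exact_mod_cast he)
  by_contra hcon
  push Not at hcon
  refine not_NT_span (k := k) x m _ ?_ (x i₀) h5 h1
  intro c hc
  have hcm : c • m ∈ ℳ (d + 1) := by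
    have : c • m ∈ ℳ ((1 : ℤ) +ᵥ d) := SetLike.GradedSMul.smul_mem hc hm
    rwa [vadd_eq_add, add_comm] at this
  exact hcon _ hcm

omit [IsScalarTower k R M] in
theorem NT_ge {a e : ℕ} (he : 0 < e) (x : Fin a → R) (hx : ∀ i, x i ∈ 𝒜 (e : ℤ)) (i₀ : Fin a)
    (hstd : Ideal.span (⋃ n ∈ Set.Ioi (0 : ℤ), (𝒜 n : Set R)) =
      Ideal.span ((𝒜 1 : Submodule k R) : Set R))
    {d : ℤ} {m : M} (hm : m ∈ ℳ d) (hNT : NT (k := k) x m) (d' : ℤ) (hd' : d ≤ d') :
    ∃ m' : M, m' ∈ ℳ d' ∧ NT (k := k) x m' := by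
  induction d', hd' using Int.le_induction with
  | base => exact ⟨m, hm, hNT⟩
  | succ n _ ih =>
    obtain ⟨m', hm', hNT'⟩ := ih
    exact NT_shift 𝒜 ℳ he x hx i₀ hstd hm' hNT'

end mod

end Groth.Agent.Lib.SegDimH6
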