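import Mathlib
import Groth.Agent.Lib.SegMod5_helper6

/-!
# Dimension of a Segre product of graded modules (helper6)
-/

set_option autoImplicit false

namespace Groth.Agent.Lib.SegDimH6

open DirectSum MvPolynomial
open scoped TensorProduct
open Groth.Agent.Lib.SegreH3 (act_mul act_one)

universe u

section segmod

variable {k : Type u} [Field k] {R : Type u} [CommRing R] [Algebra k R]
  {S : Type u} [CommRing S] [Algebra k S]
  {M : Type u} [AddCommGroup M] [Module R M] [Module k M] [IsScalarTower k R M]
  {N : Type u} [AddCommGroup N] [Module S N] [Module k N] [IsScalarTower k S N]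

/-- elements of `R ⊗ S` vanishing in `R/ann M ⊗ S/ann N` act by zero on `M ⊗ N` -/
theorem act_eq_zero (u : R ⊗[k] S)
    (hu : Pq (k := k) (Module.annihilator R M) (Module.annihilator S N) u = 0) :
    GrSeg.act k R S M N u = 0 := by
  have hmem := ker_Pq_le _ _ u hu
  obtain ⟨v, hv, w, hw, rfl⟩ := Submodule.mem_sup.1 hmem
  have h1 : GrSeg.act k R S M N v = 0 := by
    refine Submodule.span_induction (p := fun v _ => GrSeg.act k R S M N v = 0) ?_ ?_ ?_ ?_ hv
    · rintro _ ⟨a, ha, s, rfl⟩
      apply TensorProduct.ext'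
      intro m n
      rw [GrSeg.act_tmul, Module.mem_annihilator.1 ha m, TensorProduct.zero_tmul]
      rfl
    · exact map_zero _
    · intro x y _ _ hx hy; rw [map_add, hx, hy, add_zero]
    · intro c x _ hx; rw [map_smul, hx, smul_zero]
  have h2 : GrSeg.act k R S M N w = 0 := by
    refine Submodule.span_induction (p := fun v _ => GrSeg.act k R S M N v = 0) ?_ ?_ ?_ ?_ hw
    · rintro _ ⟨r, b, hb, rfl⟩
      apply TensorProduct.ext'
      intro m n
      rw [GrSeg.act_tmul, Module.mem_annihilator.1 hb n, TensorProduct.tmul_zero]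
      rfl
    · exact map_zero _
    · intro x y _ _ hx hy; rw [map_add, hx, hy, add_zero]
    · intro c x _ hx; rw [map_smul, hx, smul_zero]
  rw [map_add, h1, h2, add_zero]

/-- the `k`-linear map `k[x] → M`, `p ↦ p(x) • m` -/
noncomputable def lam {a : ℕ} (x : Fin a → R) (m : M) : MvPolynomial (Fin a) k →ₗ[k] M :=
  ((LinearMap.toSpanSingleton R M m).restrictScalars k).comp
    (aeval x : MvPolynomial (Fin a) k →ₐ[k] R).toLinearMap

theorem lam_apply {a : ℕ} (x : Fin a → R) (m : M) (p : MvPolynomial (Fin a) k) :
    lam (k := k) x m p = (aeval x p : R) • m := rfl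

theorem lam_injective {a : ℕ} (x : Fin a → R) (m : M) (h : NT (k := k) x m) :
    Function.Injective (lam (k := k) x m) := by
  rw [injective_iff_map_eq_zero]
  intro p hp
  exact h p hp

theorem act_GW {a b : ℕ} (x : Fin a → R) (y : Fin b → S) (m : M) (n : N)
    (w : MvPolynomial (Fin a) k ⊗[k] MvPolynomial (Fin b) k) :
    GrSeg.act k R S M N (GW k a b x y w) (m ⊗ₜ[k] n) =
      TensorProduct.map (lam (k := k) x m) (lam (k := k) y n) w := by
  induction w using TensorProduct.induction_on with
  | zero => simp
  | tmul p q =>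
    rw [GW, Algebra.TensorProduct.map_tmul, GrSeg.act_tmul, TensorProduct.map_tmul, lam_apply,
      lam_apply]
  | add u v hu hv =>
    rw [map_add, map_add, LinearMap.add_apply, hu, hv, map_add]

end segmod

end Groth.Agent.Lib.SegDimH6
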