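import Mathlib
import Groth.Agent.Lib.SegMod6_helper6

/-!
# Dimension of a Segre product of graded modules: the main theorem (helper6)
-/

set_option autoImplicit false

namespace Groth.Agent.Lib.SegDimH6

open DirectSum MvPolynomial
open scoped TensorProduct

universe u

/-- a finite non-Artinian module over a Noetherian ring has positive dimension -/
theorem one_le_of_not_isArtinian {R : Type u} [CommRing R] [IsNoetherianRing R] {M : Type u}
    [AddCommGroup M] [Module R M] [Module.Finite R M] (d : ℕ)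
    (hd : Module.supportDim R M = d) (hA : ¬ IsArtinian R M) : 1 ≤ d := by
  by_contra hcon
  have hd0 : d = 0 := by omega
  subst hd0
  apply hA
  have hmax : ∀ p ∈ Module.support R M, p.asIdeal.IsMaximal := by
    intro p hp
    by_contra hpm
    obtain ⟨m, hm, hpm'⟩ := Ideal.exists_le_maximal p.asIdeal p.2.ne_top
    have hlt : p < ⟨m, hm.isPrime⟩ := by
      refine lt_of_le_of_ne hpm' ?_
      intro heq
      apply hpm
      rw [heq]
      exact hm
    have hmem : (⟨m, hm.isPrime⟩ : PrimeSpectrum R) ∈ Module.support R M :=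
      Module.mem_support_mono hlt.le hp
    have h1 : (1 : WithBot ℕ∞) ≤ Order.krullDim (Module.support R M) := by
      rw [Order.one_le_krullDim_iff]
      exact ⟨⟨p, hp⟩, ⟨_, hmem⟩, hlt⟩
    rw [Module.supportDim] at hd
    rw [hd] at h1
    have : ((1 : ℕ) : WithBot ℕ∞) ≤ ((0 : ℕ) : WithBot ℕ∞) := by exact_mod_cast h1
    have h2 : (1 : ℕ) ≤ 0 := by exact_mod_cast this
    omega
  have hfl := Groth.Agent.DimLib.isFiniteLength_of_support_isMaximal hmax
  exact (isFiniteLength_iff_isNoetherian_isArtinian.1 hfl).2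

theorem main19753 (k : Type u) [Field k] (R : Type u) [CommRing R] [Algebra k R]
    (𝒜 : ℤ → Submodule k R) [GradedAlgebra 𝒜] (hposR : ∀ n : ℤ, n < 0 → 𝒜 n = ⊥)
    (h0R : 𝒜 0 = Submodule.span k {(1 : R)}) [Algebra.FiniteType k R]
    (S : Type u) [CommRing S] [Algebra k S] (ℬ : ℤ → Submodule k S) [GradedAlgebra ℬ]
    (hposS : ∀ n : ℤ, n < 0 → ℬ n = ⊥) (h0S : ℬ 0 = Submodule.span k {(1 : S)})
    [Algebra.FiniteType k S] (T : Type u) [CommRing T] [Algebra k T] (𝒯 : ℤ → Submodule k T)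
    [GradedAlgebra 𝒯] (ψ : T →ₐ[k] TensorProduct k R S) (hT : GrSeg.IsSegreRing 𝒜 ℬ 𝒯 ψ)
    (hstdR : Ideal.span (⋃ n ∈ Set.Ioi (0 : ℤ), (𝒜 n : Set R)) =
      Ideal.span ((𝒜 1 : Submodule k R) : Set R))
    (hstdS : Ideal.span (⋃ n ∈ Set.Ioi (0 : ℤ), (ℬ n : Set S)) =
      Ideal.span ((ℬ 1 : Submodule k S) : Set S))
    (M : Type u) [AddCommGroup M] [Module R M] [Module k M] [IsScalarTower k R M]
    (ℳ : ℤ → AddSubgroup M) [DirectSum.Decomposition ℳ] [SetLike.GradedSMul 𝒜 ℳ]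
    [Module.Finite R M] (N : Type u) [AddCommGroup N] [Module S N] [Module k N]
    [IsScalarTower k S N] (𝒩 : ℤ → AddSubgroup N) [DirectSum.Decomposition 𝒩]
    [SetLike.GradedSMul ℬ 𝒩] [Module.Finite S N] (P : Type u) [AddCommGroup P] [Module T P]
    [Module k P] [IsScalarTower k T P] (𝒬 : ℤ → AddSubgroup P) [DirectSum.Decomposition 𝒬]
    (φ : P →ₗ[k] TensorProduct k M N) (hP : GrSeg.IsSegreMod ψ ℳ 𝒩 𝒬 φ) (dM dN : ℕ)
    (hdM : Module.supportDim R M = dM) (hdN : Module.supportDim S N = dN)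
    (hMA : ¬ IsArtinian R M) (hNA : ¬ IsArtinian S N) :
    Module.supportDim T P = ((dM + dN - 1 : ℕ) : WithBot ℕ∞) := by
  classical
  haveI : IsNoetherianRing R := Algebra.FiniteType.isNoetherianRing k R
  haveI : IsNoetherianRing S := Algebra.FiniteType.isNoetherianRing k S
  have hψ : Function.Injective ψ := hT.1
  have hdegT : ∀ n : ℤ, (𝒯 n).map ψ.toLinearMap =
      Submodule.span k {x : TensorProduct k R S | ∃ a ∈ 𝒜 n, ∃ b ∈ ℬ n, x = a ⊗ₜ[k] b} := hT.2
  have h1M : 1 ≤ dM := one_le_of_not_isArtinian dM hdM hMA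
  have h1N : 1 ≤ dN := one_le_of_not_isArtinian dN hdN hNA
  set I := Module.annihilator R M with hIdef
  set J := Module.annihilator S N with hJdef
  have hI : I.IsHomogeneous 𝒜 := annihilator_isHomogeneous 𝒜 ℳ
  have hJ : J.IsHomogeneous ℬ := annihilator_isHomogeneous ℬ 𝒩
  have ha : ringKrullDim (R ⧸ I) = dM := by
    rw [← Module.supportDim_eq_ringKrullDim_quotient_annihilator, hdM]
  have hb : ringKrullDim (S ⧸ J) = dN := by
    rw [← Module.supportDim_eq_ringKrullDim_quotient_annihilator, hdN]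
  obtain ⟨e, x, y, tt, he, hx, hy, htt, hinjR, hinjS, hfq, hker⟩ :=
    core k R 𝒜 hposR h0R S ℬ hposS h0S T 𝒯 ψ hψ hdegT I J hI hJ dM dN ha hb
  haveI : Module.Finite T P :=
    Groth.Agent.Lib.SegreH3.finite_segre k R 𝒜 S ℬ T 𝒯 ψ hT M ℳ N 𝒩 P 𝒬 φ hP
  rw [Module.supportDim_eq_ringKrullDim_quotient_annihilator]
  -- `𝔞 ≤ ann P`
  have hle : aa ψ I J ≤ Module.annihilator T P := by
    intro t ht
    rw [Module.mem_annihilator]
    intro p
    apply hP.injective
    rw [hP.map_smul, map_zero, act_eq_zero (ψ t) ((mem_aa ψ I J t).1 ht)]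
    rfl
  set f : ZZ k dM dN →ₐ[k] T := aeval tt with hf
  set g : ZZ k dM dN →+* T ⧸ Module.annihilator T P :=
    (Ideal.Quotient.mk (Module.annihilator T P)).comp f.toRingHom with hg
  have hgint : g.IsIntegral := by
    have h1 : g = (Ideal.Quotient.factor hle).comp
        ((Ideal.Quotient.mk (aa ψ I J)).comp f.toRingHom) := RingHom.ext (fun z => rfl)
    rw [h1]
    exact RingHom.IsIntegral.trans _ _ hfq
      (RingHom.isIntegral_of_surjective _ (Ideal.Quotient.factor_surjective hle))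
  -- torsion-free elements in a common degree
  obtain ⟨d₁, m₁, hm₁, hNT₁⟩ := exists_NT (k := k) ℳ x hinjR
  obtain ⟨d₂, n₂, hn₂, hNT₂⟩ := exists_NT (k := k) 𝒩 y hinjS
  set d : ℤ := max d₁ d₂ with hd
  obtain ⟨m, hm, hNTm⟩ := NT_ge 𝒜 ℳ he x hx ⟨0, h1M⟩ hstdR hm₁ hNT₁ d (le_max_left _ _)
  obtain ⟨n, hn, hNTn⟩ := NT_ge ℬ 𝒩 he y hy ⟨0, h1N⟩ hstdS hn₂ hNT₂ d (le_max_right _ _)
  have hmn : m ⊗ₜ[k] n ∈ (GrSeg.segrePiece k ℳ 𝒩 d : Set (TensorProduct k M N)) :=
    Submodule.subset_span ⟨m, hm, n, hn, rfl⟩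
  rw [← hP.image_piece d] at hmn
  obtain ⟨p₀, -, hp₀⟩ := hmn
  have hkerg : RingHom.ker g = RingHom.ker (σW k dM dN).toRingHom := by
    ext z
    rw [RingHom.mem_ker, RingHom.mem_ker]
    change Ideal.Quotient.mk (Module.annihilator T P) (f z) = 0 ↔ σW k dM dN z = 0
    rw [Ideal.Quotient.eq_zero_iff_mem]
    constructor
    · intro hz
      have h1 : f z • p₀ = 0 := Module.mem_annihilator.1 hz p₀
      have h2 := congrArg φ h1
      rw [hP.map_smul, map_zero, hp₀, hf, ψ_comp x y ψ tt htt, act_GW] at h2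
      have hinj := TensorProduct.map_injective_of_flat_flat (lam (k := k) x m) (lam (k := k) y n)
        (lam_injective x m hNTm) (lam_injective y n hNTn)
      apply hinj
      rw [h2, map_zero]
    · intro hz
      exact hle ((hker z).2 hz)
  rw [dim_eq_of_isIntegral g hgint, hkerg]
  exact dim_quot_ker_σW k dM dN h1M h1N

end Groth.Agent.Lib.SegDimH6
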