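import Mathlib
import Groth.Agent.Lib.SegMod7_helper6
import Groth.Agent.Lib.DimFT_helper8
import Groth.Agent.Lib.SupportLoc_helper5
import Groth.Agent.Lib.DepthAss_helper5

/-!
# Cohen–Macaulay graded modules are torsion-free over a Noether normalisation (helper6)
-/

set_option autoImplicit false

namespace Groth.Agent.Lib.SegDimH6

open DirectSum MvPolynomial
open scoped TensorProduct
open Groth.Agent.Lib.SegreH3 (proj proj_smul_of_mem)

universe u

section general

/-- an integral map from a polynomial ring in `a` variables with non-zero kernel has target of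
dimension `< a` -/
theorem dim_add_one_le_of_ker {k : Type u} [Field k] {B : Type u} [CommRing B] {a : ℕ}
    (h : MvPolynomial (Fin a) k →+* B) (hint : h.IsIntegral) (p : MvPolynomial (Fin a) k)
    (hp0 : p ≠ 0) (hp : h p = 0) : ringKrullDim B + 1 ≤ (a : WithBot ℕ∞) := by
  have h1 := dim_eq_of_isIntegral h hint
  have hpk : Ideal.span {p} ≤ RingHom.ker h := by
    rw [Ideal.span_le, Set.singleton_subset_iff]
    exact hp
  have h2 : ringKrullDim (MvPolynomial (Fin a) k ⧸ RingHom.ker h) ≤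
      ringKrullDim (MvPolynomial (Fin a) k ⧸ Ideal.span {p}) :=
    ringKrullDim_le_of_surjective (Ideal.Quotient.factor hpk) (Ideal.Quotient.factor_surjective hpk)
  have h3 := ringKrullDim_quotient_succ_le_of_nonZeroDivisor
    (mem_nonZeroDivisors_of_ne_zero hp0)
  have h4 : ringKrullDim (MvPolynomial (Fin a) k) = a := by
    rw [MvPolynomial.ringKrullDim_of_isNoetherianRing, ringKrullDim_eq_zero_of_field, zero_add,
      Nat.card_eq_fintype_card, Fintype.card_fin]
  rw [h4] at h3
  rw [h1]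
  exact (add_le_add_left h2 1).trans h3

/-- dimension of a quotient of a localization is at most that of the quotient -/
theorem dim_loc_quot_le {R : Type u} [CommRing R] (𝔪 : Ideal R) [𝔪.IsPrime] (𝔭 : Ideal R) :
    ringKrullDim (Localization.AtPrime 𝔪 ⧸ 𝔭.map (algebraMap R (Localization.AtPrime 𝔪))) ≤
      ringKrullDim (R ⧸ 𝔭) := by
  rw [ringKrullDim_quotient, ringKrullDim_quotient]
  refine Order.krullDim_le_of_strictMono
    (fun Q => (⟨PrimeSpectrum.comap (algebraMap R (Localization.AtPrime 𝔪)) Q.1, ?_⟩ :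
      PrimeSpectrum.zeroLocus (R := R) 𝔭)) ?_
  · have h1 : 𝔭.map (algebraMap R (Localization.AtPrime 𝔪)) ≤ Q.1.asIdeal := Q.2
    change (𝔭 : Set R) ⊆ _
    exact (Ideal.le_comap_map.trans (Ideal.comap_mono h1))
  · intro Q Q' hlt
    have h2 : Q.1.asIdeal < Q'.1.asIdeal := hlt
    exact (IsLocalization.orderEmbedding 𝔪.primeCompl (Localization.AtPrime 𝔪)).strictMono h2

end general

section graded

variable {k : Type u} [Field k] {R : Type u} [CommRing R] [Algebra k R] (𝒜 : ℤ → Submodule k R)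
  [GradedAlgebra 𝒜]
variable (hpos : ∀ n : ℤ, n < 0 → 𝒜 n = ⊥) (h0 : 𝒜 0 = Submodule.span k {(1 : R)})

include hpos h0 in
/-- a proper homogeneous ideal lies in every prime containing all elements of positive degree -/
theorem le_of_isHomogeneous {𝔭 𝔪 : Ideal R} (h𝔭 : 𝔭.IsHomogeneous 𝒜) (hne : 𝔭 ≠ ⊤)
    (h𝔪 : ∀ n : ℤ, 0 < n → ∀ b ∈ 𝒜 n, b ∈ 𝔪) : 𝔭 ≤ 𝔪 := by
  classical
  intro b hb
  rw [← DirectSum.sum_support_decompose 𝒜 b]
  refine Ideal.sum_mem _ (fun n _ => ?_)
  rcases lt_trichotomy n 0 with hn | hn | hn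
  · rw [eq_zero_of_neg 𝒜 hpos hn (decompose 𝒜 b n).2]
    exact 𝔪.zero_mem
  · subst hn
    have hmem : ((decompose 𝒜 b 0 : 𝒜 0) : R) ∈ 𝔭 := h𝔭 0 hb
    have hmem0 : ((decompose 𝒜 b 0 : 𝒜 0) : R) ∈ Submodule.span k {(1 : R)} := by
      rw [← h0]
      exact (decompose 𝒜 b 0).2
    obtain ⟨c, hc⟩ := Submodule.mem_span_singleton.1 hmem0
    by_cases hc0 : c = 0
    · rw [← hc, hc0, zero_smul]
      exact 𝔪.zero_mem
    · exfalso
      apply hne
      rw [Ideal.eq_top_iff_one]
      have h5 : (1 : R) = c⁻¹ • ((decompose 𝒜 b 0 : 𝒜 0) : R) := by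
        rw [← hc, smul_smul, inv_mul_cancel₀ hc0, one_smul]
      rw [h5, Algebra.smul_def]
      exact 𝔭.mul_mem_left _ hmem
  · exact h𝔪 n hn _ (decompose 𝒜 b n).2

include hpos h0 in
/-- a saturated chain of primes above `I` ending at the irrelevant maximal ideal -/
theorem exists_chain [Algebra.FiniteType k R] (I : Ideal R) {a : ℕ} (x : Fin a → R)
    (hint : ((Ideal.Quotient.mkₐ k I).comp
      (aeval x : MvPolynomial (Fin a) k →ₐ[k] R)).toRingHom.IsIntegral)
    (hinj : Function.Injective ((Ideal.Quotient.mkₐ k I).comp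
      (aeval x : MvPolynomial (Fin a) k →ₐ[k] R)))
    (hP : PosLE 𝒜 (I ⊔ Ideal.span (Set.range x))) :
    ∃ l : LTSeries (PrimeSpectrum R), l.length = a ∧ (∀ i, I ≤ (l i).asIdeal) ∧
      ∀ n : ℤ, 0 < n → ∀ b ∈ 𝒜 n, b ∈ l.last.asIdeal := by
  classical
  set PX := MvPolynomial (Fin a) k with hPX
  set g : PX →ₐ[k] R ⧸ I := (Ideal.Quotient.mkₐ k I).comp (aeval x) with hg
  -- the maximal ideal at the origin
  set ev : PX →ₐ[k] k := aeval (fun _ : Fin a => (0 : k)) with hev
  have hevs : Function.Surjective ev := fun c => ⟨C c, by rw [hev, aeval_C]; rfl⟩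
  set 𝔫 : Ideal PX := RingHom.ker ev.toRingHom with h𝔫
  haveI h𝔫max : 𝔫.IsMaximal := RingHom.ker_isMaximal_of_surjective ev.toRingHom hevs
  have hX : ∀ i, (X i : PX) ∈ 𝔫 := by
    intro i
    rw [h𝔫, RingHom.mem_ker]
    change ev (X i) = 0
    rw [hev, aeval_X]
  have hht : 𝔫.height = a := Groth.Agent.DimFTH8.height_of_isMaximal_mvPolynomial k a 𝔫
  haveI : 𝔫.FiniteHeight := ⟨Or.inr (by rw [hht]; exact ENat.coe_ne_top a)⟩
  obtain ⟨l, hl_last, hl_len⟩ := 𝔫.exists_ltSeries_length_eq_height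
  rw [hht] at hl_len
  have hl_len' : l.length = a := by exact_mod_cast hl_len
  -- going up
  letI : Algebra PX (R ⧸ I) := g.toRingHom.toAlgebra
  haveI : Algebra.IsIntegral PX (R ⧸ I) := ⟨hint⟩
  haveI : FaithfulSMul PX (R ⧸ I) := (faithfulSMul_iff_algebraMap_injective PX (R ⧸ I)).2 hinj
  obtain ⟨⟨P₀, hP₀1, hP₀2⟩⟩ := Ideal.nonempty_primesOver (S := R ⧸ I) l.head.asIdeal
  obtain ⟨L, hLlen, -, hLspec⟩ := Ideal.exists_ltSeries_of_hasGoingUp l P₀
  have hLlast : PrimeSpectrum.comap (algebraMap PX (R ⧸ I)) L.last = l.last := by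
    have e1 : (L.toList.map (PrimeSpectrum.comap (algebraMap PX (R ⧸ I)))).getLast? =
        l.toList.getLast? := by rw [hLspec]
    rw [List.getLast?_map, List.getLast?_eq_getLast L.toList_ne_nil,
      List.getLast?_eq_getLast l.toList_ne_nil, Option.map_some, Option.some.injEq,
      RelSeries.getLast_toList, RelSeries.getLast_toList] at e1
    exact e1
  -- pull back to `R`
  let l' : LTSeries (PrimeSpectrum R) := L.map (PrimeSpectrum.comap (Ideal.Quotient.mk I))
    (RingHom.strictMono_comap_of_surjective Ideal.Quotient.mk_surjective)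
  refine ⟨l', by rw [LTSeries.map_length, hLlen, hl_len'], ?_, ?_⟩
  · intro i b hb
    change Ideal.Quotient.mk I b ∈ (L i).asIdeal
    rw [Ideal.Quotient.eq_zero_iff_mem.2 hb]
    exact (L i).asIdeal.zero_mem
  · have hlast : l'.last = PrimeSpectrum.comap (Ideal.Quotient.mk I) L.last := LTSeries.last_map _ _ _
    have hxmem : ∀ i, x i ∈ l'.last.asIdeal := by
      intro i
      rw [hlast]
      change Ideal.Quotient.mk I (x i) ∈ L.last.asIdeal
      have h1 : (X i : PX) ∈ (PrimeSpectrum.comap (algebraMap PX (R ⧸ I)) L.last).asIdeal := by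
        rw [hLlast, hl_last]
        exact hX i
      have h2 : algebraMap PX (R ⧸ I) (X i) ∈ L.last.asIdeal := h1
      have h3 : algebraMap PX (R ⧸ I) (X i) = Ideal.Quotient.mk I (x i) := by
        change g (X i) = _
        rw [hg, AlgHom.comp_apply, aeval_X]
        rfl
      rwa [h3] at h2
    have hIle : I ≤ l'.last.asIdeal := by
      intro b hb
      rw [hlast]
      change Ideal.Quotient.mk I b ∈ L.last.asIdeal
      rw [Ideal.Quotient.eq_zero_iff_mem.2 hb]
      exact L.last.asIdeal.zero_mem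
    have hle : I ⊔ Ideal.span (Set.range x) ≤ l'.last.asIdeal := by
      refine sup_le hIle ?_
      rw [Ideal.span_le]
      rintro _ ⟨i, rfl⟩
      exact hxmem i
    intro n hn b hb
    have h4 := hP n hn b hb
    exact (l'.last.isPrime.radical_le_iff.2 hle) h4

end graded

end Groth.Agent.Lib.SegDimH6
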