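import Mathlib
import Groth.Agent.Lib.SegMod8_helper6

/-!
# Cohen–Macaulay graded modules are torsion-free over a Noether normalisation, part 2 (helper6)
-/

set_option autoImplicit false

namespace Groth.Agent.Lib.SegDimH6

open DirectSum MvPolynomial
open scoped TensorProduct
open Groth.Agent.Lib.SegreH3 (proj proj_smul_of_mem)

universe u

section

variable {k : Type u} [Field k] {R : Type u} [CommRing R] [Algebra k R] (𝒜 : ℤ → Submodule k R)
  [GradedAlgebra 𝒜]
  {M : Type u} [AddCommGroup M] [Module R M] [Module k M] [IsScalarTower k R M]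
  (ℳ : ℤ → AddSubgroup M) [DirectSum.Decomposition ℳ] [SetLike.GradedSMul 𝒜 ℳ]

theorem ann_span_isHomogeneous {d : ℤ} {m : M} (hm : m ∈ ℳ d) :
    (Submodule.span R {m}).annihilator.IsHomogeneous 𝒜 := by
  intro n r hr
  rw [Submodule.mem_annihilator_span_singleton] at hr ⊢
  have h1 := proj_smul_of_mem 𝒜 ℳ hm r (n + d) n rfl
  rw [hr, GradedAlgebra.proj_apply] at h1
  rw [← h1]
  exact map_zero _

variable (hpos : ∀ n : ℤ, n < 0 → 𝒜 n = ⊥) (h0 : 𝒜 0 = Submodule.span k {(1 : R)})

include hpos h0 in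
/-- a non-zero homogeneous element of a (locally) Cohen–Macaulay graded module is torsion-free
over the Noether normalisation `k[x]` of `R / ann M` -/
theorem NT_of_isCM [Algebra.FiniteType k R] [Module.Finite R M] {a : ℕ}
    (hdim : Module.supportDim R M = a) (x : Fin a → R)
    (hint : ((Ideal.Quotient.mkₐ k (Module.annihilator R M)).comp
      (aeval x : MvPolynomial (Fin a) k →ₐ[k] R)).toRingHom.IsIntegral)
    (hinj : Function.Injective ((Ideal.Quotient.mkₐ k (Module.annihilator R M)).comp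
      (aeval x : MvPolynomial (Fin a) k →ₐ[k] R)))
    (hP : PosLE 𝒜 (Module.annihilator R M ⊔ Ideal.span (Set.range x)))
    (hcm : ∀ (q : Ideal R) [q.IsPrime], Subsingleton (LocalizedModule q.primeCompl M) ∨
      LocCoh.IsCohenMacaulayModule (Localization.AtPrime q) (LocalizedModule q.primeCompl M))
    {d : ℤ} {m : M} (hm : m ∈ ℳ d) (hm0 : m ≠ 0) : NT (k := k) x m := by
  classical
  haveI : IsNoetherianRing R := Algebra.FiniteType.isNoetherianRing k R
  intro p hp
  by_contra hp0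
  set I := Module.annihilator R M with hI
  set M' : Submodule R M := Submodule.span R {m} with hM'
  have hannH : M'.annihilator.IsHomogeneous 𝒜 := ann_span_isHomogeneous 𝒜 ℳ hm
  have hann_ne : M'.annihilator ≠ ⊤ := by
    intro h
    have h1 : (1 : R) ∈ M'.annihilator := by rw [h]; trivial
    rw [hM', Submodule.mem_annihilator_span_singleton, one_smul] at h1
    exact hm0 h1
  obtain ⟨⟨𝔭, h𝔭min⟩⟩ := Ideal.nonempty_minimalPrimes hann_ne
  haveI h𝔭prime : 𝔭.IsPrime := h𝔭min.1.1
  have h𝔭ann : M'.annihilator ≤ 𝔭 := h𝔭min.1.2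
  have h𝔭H : 𝔭.IsHomogeneous 𝒜 := isHomogeneous_of_mem_minimalPrimes 𝒜 hannH h𝔭min
  -- `𝔭` is an associated prime of `M`
  have hass' : 𝔭 ∈ associatedPrimes R M' :=
    Module.associatedPrimes.minimalPrimes_annihilator_subset_associatedPrimes R M' h𝔭min
  have hass : 𝔭 ∈ associatedPrimes R M :=
    associatedPrimes.subset_of_injective (f := M'.subtype) M'.injective_subtype hass'
  have hI𝔭 : I ≤ 𝔭 := by
    refine le_trans ?_ h𝔭ann
    intro r hr
    rw [Submodule.mem_annihilator]
    intro y _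
    exact Module.mem_annihilator.1 hr y
  have hp𝔭 : (aeval x p : R) ∈ 𝔭 := by
    apply h𝔭ann
    rw [hM', Submodule.mem_annihilator_span_singleton]
    exact hp
  -- the chain
  obtain ⟨l, hl_len, hl_I, hl_last⟩ := exists_chain 𝒜 hpos h0 I x hint hinj hP
  set 𝔪 : Ideal R := l.last.asIdeal with h𝔪
  haveI h𝔪prime : 𝔪.IsPrime := l.last.isPrime
  have h𝔭𝔪 : 𝔭 ≤ 𝔪 := le_of_isHomogeneous 𝒜 hpos h0 h𝔭H h𝔭prime.ne_top hl_last
  have hsupp : ∀ i, l i ∈ Module.support R M := by
    intro i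
    rw [Module.mem_support_iff_of_finite]
    exact hl_I i
  have h𝔪supp : (⟨𝔪, h𝔪prime⟩ : PrimeSpectrum R) ∈ Module.support R M := hsupp (Fin.last _)
  -- height of `𝔪` in the support
  have hheight : (a : ℕ∞) ≤ Order.height (⟨⟨𝔪, h𝔪prime⟩, h𝔪supp⟩ : Module.support R M) := by
    let l' : LTSeries (Module.support R M) :=
      LTSeries.mk l.length (fun i => ⟨l i, hsupp i⟩) (fun i j hij => l.strictMono hij)
    have h1 := Order.length_le_height_last (p := l')
    have h2 : l'.last = ⟨⟨𝔪, h𝔪prime⟩, h𝔪supp⟩ := rfl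
    have h3 : l'.length = a := hl_len
    rw [h2, h3] at h1
    exact h1
  have hsd := Groth.Agent.DepthLib.supportDim_localizedModule M 𝔪 h𝔪supp
  -- Cohen–Macaulay at `𝔪`
  have hnontriv : Nontrivial (LocalizedModule 𝔪.primeCompl M) := Module.mem_support_iff.1 h𝔪supp
  have hCM : LocCoh.IsCohenMacaulayModule (Localization.AtPrime 𝔪)
      (LocalizedModule 𝔪.primeCompl M) := by
    rcases hcm 𝔪 with h | h
    · exact absurd h (not_subsingleton _)
    · exact h
  unfold LocCoh.IsCohenMacaulayModule at hCM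
  -- the associated prime in the localization
  set p' : Ideal (Localization.AtPrime 𝔪) := 𝔭.map (algebraMap R (Localization.AtPrime 𝔪))
    with hp'
  have hdisj : Disjoint (𝔪.primeCompl : Set R) 𝔭 := by
    rw [Set.disjoint_left]
    intro r hr hr𝔭
    exact hr (h𝔭𝔪 hr𝔭)
  have hcomap : p'.comap (algebraMap R (Localization.AtPrime 𝔪)) = 𝔭 :=
    IsLocalization.under_map_of_isPrime_disjoint 𝔪.primeCompl (Localization.AtPrime 𝔪) h𝔭prime hdisj
  have hass_loc : p' ∈ associatedPrimes (Localization.AtPrime 𝔪)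
      (LocalizedModule 𝔪.primeCompl M) := by
    apply Module.associatedPrimes.mem_associatedPrimes_of_comap_mem_associatedPrimes_of_isLocalizedModule
      𝔪.primeCompl (LocalizedModule.mkLinearMap 𝔪.primeCompl M)
    rw [hcomap]
    exact hass
  have hdepth := Groth.Agent.DepthLib.depth_le_ringKrullDim_quotient (Localization.AtPrime 𝔪)
    (LocalizedModule 𝔪.primeCompl M) p' hass_loc
  rw [← hCM, hsd] at hdepth
  have h6 := dim_loc_quot_le 𝔪 𝔭
  -- `dim R/𝔭 < a`
  set hq : MvPolynomial (Fin a) k →+* R ⧸ 𝔭 :=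
    (Ideal.Quotient.factor hI𝔭).comp
      ((Ideal.Quotient.mkₐ k I).comp (aeval x : MvPolynomial (Fin a) k →ₐ[k] R)).toRingHom
    with hhq
  have hqint : hq.IsIntegral :=
    RingHom.IsIntegral.trans _ _ hint
      (RingHom.isIntegral_of_surjective _ (Ideal.Quotient.factor_surjective hI𝔭))
  have hqp : hq p = 0 := by
    change Ideal.Quotient.mk 𝔭 (aeval x p) = 0
    exact Ideal.Quotient.eq_zero_iff_mem.2 hp𝔭
  have h7 := dim_add_one_le_of_ker hq hqint p hp0 hqp
  have h8 : ((a : ℕ∞) : WithBot ℕ∞) ≤ ringKrullDim (R ⧸ 𝔭) :=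
    le_trans (WithBot.coe_le_coe.2 hheight) (hdepth.trans h6)
  have h9 : ((a : ℕ∞) : WithBot ℕ∞) + 1 ≤ (a : WithBot ℕ∞) := (add_le_add_left h8 1).trans h7
  have h10 : ((a + 1 : ℕ) : WithBot ℕ∞) ≤ ((a : ℕ) : WithBot ℕ∞) := by
    push_cast
    exact h9
  have h11 : a + 1 ≤ a := by exact_mod_cast h10
  omega

end

end Groth.Agent.Lib.SegDimH6
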