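import Mathlib
import Groth.Agent.Lib.SegMod9_helper6

/-!
# Dimension of a Segre product of Cohen–Macaulay graded modules (helper6)
-/

set_option autoImplicit false

namespace Groth.Agent.Lib.SegDimH6

open DirectSum MvPolynomial
open scoped TensorProduct

universe u

/-- `core` with the integrality and parameter-system information exported -/
theorem core' (k : Type u) [Field k] (R : Type u) [CommRing R] [Algebra k R]
    (𝒜 : ℤ → Submodule k R) [GradedAlgebra 𝒜] (hposR : ∀ n : ℤ, n < 0 → 𝒜 n = ⊥)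
    (h0R : 𝒜 0 = Submodule.span k {(1 : R)}) [Algebra.FiniteType k R]
    (S : Type u) [CommRing S] [Algebra k S] (ℬ : ℤ → Submodule k S) [GradedAlgebra ℬ]
    (hposS : ∀ n : ℤ, n < 0 → ℬ n = ⊥) (h0S : ℬ 0 = Submodule.span k {(1 : S)})
    [Algebra.FiniteType k S] (T : Type u) [CommRing T] [Algebra k T] (𝒯 : ℤ → Submodule k T)
    [GradedAlgebra 𝒯] (ψ : T →ₐ[k] TensorProduct k R S) (hψ : Function.Injective ψ)
    (hdegT : ∀ n : ℤ, (𝒯 n).map ψ.toLinearMap =
      Submodule.span k {x : TensorProduct k R S | ∃ a ∈ 𝒜 n, ∃ b ∈ ℬ n, x = a ⊗ₜ[k] b})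
    (I : Ideal R) (J : Ideal S) (hI : I.IsHomogeneous 𝒜) (hJ : J.IsHomogeneous ℬ)
    (a b : ℕ) (ha : ringKrullDim (R ⧸ I) = a) (hb : ringKrullDim (S ⧸ J) = b) :
    ∃ (e : ℕ) (x : Fin a → R) (y : Fin b → S) (tt : Fin a × Fin b → T),
      0 < e ∧ (∀ i, x i ∈ 𝒜 (e : ℤ)) ∧ (∀ j, y j ∈ ℬ (e : ℤ)) ∧
      (∀ p, ψ (tt p) = x p.1 ⊗ₜ[k] y p.2) ∧
      Function.Injective ((Ideal.Quotient.mkₐ k I).comp
        (aeval x : MvPolynomial (Fin a) k →ₐ[k] R)) ∧
      Function.Injective ((Ideal.Quotient.mkₐ k J).comp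
        (aeval y : MvPolynomial (Fin b) k →ₐ[k] S)) ∧
      ((Ideal.Quotient.mk (aa ψ I J)).comp
        (aeval tt : ZZ k a b →ₐ[k] T).toRingHom).IsIntegral ∧
      (∀ z : ZZ k a b, aeval tt z ∈ aa ψ I J ↔ σW k a b z = 0) ∧
      ((Ideal.Quotient.mkₐ k I).comp
        (aeval x : MvPolynomial (Fin a) k →ₐ[k] R)).toRingHom.IsIntegral ∧
      ((Ideal.Quotient.mkₐ k J).comp
        (aeval y : MvPolynomial (Fin b) k →ₐ[k] S)).toRingHom.IsIntegral ∧
      PosLE 𝒜 (I ⊔ Ideal.span (Set.range x)) ∧ PosLE ℬ (J ⊔ Ideal.span (Set.range y)) := by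
  haveI : IsNoetherianRing R := Algebra.FiniteType.isNoetherianRing k R
  haveI : IsNoetherianRing S := Algebra.FiniteType.isNoetherianRing k S
  obtain ⟨eR, x₀, heR, hx₀, hPR⟩ := exists_hsop_ideal 𝒜 hposR h0R I hI a ha
  obtain ⟨eS, y₀, heS, hy₀, hPS⟩ := exists_hsop_ideal ℬ hposS h0S J hJ b hb
  set e : ℕ := eR * eS with he
  have hepos : 0 < e := Nat.mul_pos heR heS
  set x : Fin a → R := fun i => x₀ i ^ eS with hxdef
  set y : Fin b → S := fun j => y₀ j ^ eR with hydef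
  have hx : ∀ i, x i ∈ 𝒜 (e : ℤ) := by
    intro i
    have h1 := SetLike.pow_mem_graded eS (hx₀ i)
    rw [nsmul_eq_mul] at h1
    have e1 : (eS : ℤ) * (eR : ℤ) = ((eR * eS : ℕ) : ℤ) := by push_cast; ring
    rw [e1] at h1
    exact h1
  have hy : ∀ j, y j ∈ ℬ (e : ℤ) := by
    intro j
    have h1 := SetLike.pow_mem_graded eR (hy₀ j)
    rw [nsmul_eq_mul] at h1
    have e1 : (eR : ℤ) * (eS : ℤ) = ((eR * eS : ℕ) : ℤ) := by push_cast; ring
    rw [e1] at h1
    exact h1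
  have hPx : PosLE 𝒜 (I ⊔ Ideal.span (Set.range x)) := posLE_pow_sup 𝒜 I x₀ eS hPR
  have hPy : PosLE ℬ (J ⊔ Ideal.span (Set.range y)) := posLE_pow_sup ℬ J y₀ eR hPS
  have hintR := isIntegral_aeval_quot 𝒜 hposR h0R I hI hepos x hx hPx
  have hintS := isIntegral_aeval_quot ℬ hposS h0S J hJ hepos y hy hPy
  have hcompR : (Ideal.Quotient.mkₐ k I).comp (aeval x : MvPolynomial (Fin a) k →ₐ[k] R) =
      aeval (fun i => Ideal.Quotient.mkₐ k I (x i)) := MvPolynomial.comp_aeval _ _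
  have hcompS : (Ideal.Quotient.mkₐ k J).comp (aeval y : MvPolynomial (Fin b) k →ₐ[k] S) =
      aeval (fun i => Ideal.Quotient.mkₐ k J (y i)) := MvPolynomial.comp_aeval _ _
  have hinjR : Function.Injective ((Ideal.Quotient.mkₐ k I).comp
      (aeval x : MvPolynomial (Fin a) k →ₐ[k] R)) := by
    rw [hcompR]
    refine aeval_injective_of_dim _ ?_ ha
    rw [← hcompR]
    exact hintR
  have hinjS : Function.Injective ((Ideal.Quotient.mkₐ k J).comp
      (aeval y : MvPolynomial (Fin b) k →ₐ[k] S)) := by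
    rw [hcompS]
    refine aeval_injective_of_dim _ ?_ hb
    rw [← hcompS]
    exact hintS
  have hGWint : (GWq (k := k) x y I J).toRingHom.IsIntegral :=
    map_isIntegral _ _ hintR hintS
  have hGWinj : Function.Injective (GWq (k := k) x y I J) :=
    map_injective _ _ hinjR hinjS
  obtain ⟨tt, htt⟩ := exists_tt 𝒜 ℬ x y 𝒯 ψ hdegT hx hy
  refine ⟨e, x, y, tt, hepos, hx, hy, htt, hinjR, hinjS, ?_, ?_, hintR, hintS, hPx, hPy⟩
  · exact fq_isIntegral 𝒜 ℬ x y 𝒯 ψ hdegT I J hψ hepos.ne' hx hy hI hJ hGWint tt htt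
  · exact ker_fq x y ψ I J hGWinj tt htt

theorem main19754 (k : Type u) [Field k] (R : Type u) [CommRing R] [Algebra k R]
    (𝒜 : ℤ → Submodule k R) [GradedAlgebra 𝒜] (hposR : ∀ n : ℤ, n < 0 → 𝒜 n = ⊥)
    (h0R : 𝒜 0 = Submodule.span k {(1 : R)}) [Algebra.FiniteType k R]
    (S : Type u) [CommRing S] [Algebra k S] (ℬ : ℤ → Submodule k S) [GradedAlgebra ℬ]
    (hposS : ∀ n : ℤ, n < 0 → ℬ n = ⊥) (h0S : ℬ 0 = Submodule.span k {(1 : S)})
    [Algebra.FiniteType k S] (T : Type u) [CommRing T] [Algebra k T] (𝒯 : ℤ → Submodule k T)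
    [GradedAlgebra 𝒯] (ψ : T →ₐ[k] TensorProduct k R S) (hT : GrSeg.IsSegreRing 𝒜 ℬ 𝒯 ψ)
    (M : Type u) [AddCommGroup M] [Module R M] [Module k M] [IsScalarTower k R M]
    (ℳ : ℤ → AddSubgroup M) [DirectSum.Decomposition ℳ] [SetLike.GradedSMul 𝒜 ℳ]
    [Module.Finite R M] (N : Type u) [AddCommGroup N] [Module S N] [Module k N]
    [IsScalarTower k S N] (𝒩 : ℤ → AddSubgroup N) [DirectSum.Decomposition 𝒩]
    [SetLike.GradedSMul ℬ 𝒩] [Module.Finite S N] (P : Type u) [AddCommGroup P] [Module T P]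
    [Module k P] [IsScalarTower k T P] (𝒬 : ℤ → AddSubgroup P) [DirectSum.Decomposition 𝒬]
    (φ : P →ₗ[k] TensorProduct k M N) (hP : GrSeg.IsSegreMod ψ ℳ 𝒩 𝒬 φ) (r s : ℕ)
    (h1r : 1 ≤ r) (h1s : 1 ≤ s)
    (hdM : Module.supportDim R M = r) (hdN : Module.supportDim S N = s)
    (hMcm : (∀ (q : Ideal R) [q.IsPrime], Subsingleton (LocalizedModule q.primeCompl M) ∨
      LocCoh.IsCohenMacaulayModule (Localization.AtPrime q) (LocalizedModule q.primeCompl M)))
    (hNcm : (∀ (q : Ideal S) [q.IsPrime], Subsingleton (LocalizedModule q.primeCompl N) ∨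
      LocCoh.IsCohenMacaulayModule (Localization.AtPrime q) (LocalizedModule q.primeCompl N))) :
    Module.supportDim T P = ((r + s - 1 : ℕ) : WithBot ℕ∞) ∨ Subsingleton P := by
  classical
  by_cases hsub : Subsingleton P
  · exact Or.inr hsub
  left
  rw [not_subsingleton_iff_nontrivial] at hsub
  haveI : IsNoetherianRing R := Algebra.FiniteType.isNoetherianRing k R
  haveI : IsNoetherianRing S := Algebra.FiniteType.isNoetherianRing k S
  have hψ : Function.Injective ψ := hT.1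
  have hdegT : ∀ n : ℤ, (𝒯 n).map ψ.toLinearMap =
      Submodule.span k {x : TensorProduct k R S | ∃ a ∈ 𝒜 n, ∃ b ∈ ℬ n, x = a ⊗ₜ[k] b} := hT.2
  set I := Module.annihilator R M with hIdef
  set J := Module.annihilator S N with hJdef
  have hI : I.IsHomogeneous 𝒜 := annihilator_isHomogeneous 𝒜 ℳ
  have hJ : J.IsHomogeneous ℬ := annihilator_isHomogeneous ℬ 𝒩
  have ha : ringKrullDim (R ⧸ I) = r := by
    rw [← Module.supportDim_eq_ringKrullDim_quotient_annihilator, hdM]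
  have hb : ringKrullDim (S ⧸ J) = s := by
    rw [← Module.supportDim_eq_ringKrullDim_quotient_annihilator, hdN]
  obtain ⟨e, x, y, tt, he, hx, hy, htt, hinjR, hinjS, hfq, hker, hintR, hintS, hPx, hPy⟩ :=
    core' k R 𝒜 hposR h0R S ℬ hposS h0S T 𝒯 ψ hψ hdegT I J hI hJ r s ha hb
  haveI : Module.Finite T P :=
    Groth.Agent.Lib.SegreH3.finite_segre k R 𝒜 S ℬ T 𝒯 ψ hT M ℳ N 𝒩 P 𝒬 φ hP
  rw [Module.supportDim_eq_ringKrullDim_quotient_annihilator]
  have hle : aa ψ I J ≤ Module.annihilator T P := by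
    intro t ht
    rw [Module.mem_annihilator]
    intro p
    apply hP.injective
    rw [hP.map_smul, map_zero, act_eq_zero (ψ t) ((mem_aa ψ I J t).1 ht)]
    rfl
  set f : ZZ k r s →ₐ[k] T := aeval tt with hf
  set g : ZZ k r s →+* T ⧸ Module.annihilator T P :=
    (Ideal.Quotient.mk (Module.annihilator T P)).comp f.toRingHom with hg
  have hgint : g.IsIntegral := by
    have h1 : g = (Ideal.Quotient.factor hle).comp
        ((Ideal.Quotient.mk (aa ψ I J)).comp f.toRingHom) := RingHom.ext (fun z => rfl)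
    rw [h1]
    exact RingHom.IsIntegral.trans _ _ hfq
      (RingHom.isIntegral_of_surjective _ (Ideal.Quotient.factor_surjective hle))
  -- a non-zero homogeneous element of `P`
  obtain ⟨p₁, hp₁⟩ := exists_ne (0 : P)
  have hex : ∃ d : ℤ, ((decompose 𝒬 p₁ d : 𝒬 d) : P) ≠ 0 := by
    by_contra hcon
    push Not at hcon
    apply hp₁
    rw [← DirectSum.sum_support_decompose 𝒬 p₁]
    exact Finset.sum_eq_zero (fun d _ => hcon d)
  obtain ⟨d, hd⟩ := hex
  have hφne : φ ((decompose 𝒬 p₁ d : 𝒬 d) : P) ≠ 0 := by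
    intro h
    apply hd
    apply hP.injective
    rw [h, map_zero]
  have hφmem : φ ((decompose 𝒬 p₁ d : 𝒬 d) : P) ∈
      (GrSeg.segrePiece k ℳ 𝒩 d : Set (TensorProduct k M N)) := by
    rw [← hP.image_piece d]
    exact ⟨_, (decompose 𝒬 p₁ d).2, rfl⟩
  have hexmn : ∃ m ∈ ℳ d, ∃ n ∈ 𝒩 d, m ⊗ₜ[k] n ≠ (0 : TensorProduct k M N) := by
    by_contra hcon
    push Not at hcon
    apply hφne
    have h1 : GrSeg.segrePiece k ℳ 𝒩 d = ⊥ := by
      unfold GrSeg.segrePiece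
      rw [Submodule.span_eq_bot]
      rintro _ ⟨m, hm, n, hn, rfl⟩
      exact hcon m hm n hn
    have h2 : φ ((decompose 𝒬 p₁ d : 𝒬 d) : P) ∈ GrSeg.segrePiece k ℳ 𝒩 d := hφmem
    rw [h1] at h2
    exact (Submodule.mem_bot k).1 h2
  obtain ⟨m, hm, n, hn, hmn⟩ := hexmn
  have hm0 : m ≠ 0 := by
    rintro rfl
    exact hmn (TensorProduct.zero_tmul _ _)
  have hn0 : n ≠ 0 := by
    rintro rfl
    exact hmn (TensorProduct.tmul_zero _ _)
  have hNTm : NT (k := k) x m :=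
    NT_of_isCM 𝒜 ℳ hposR h0R hdM x hintR hinjR hPx hMcm hm hm0
  have hNTn : NT (k := k) y n :=
    NT_of_isCM ℬ 𝒩 hposS h0S hdN y hintS hinjS hPy hNcm hn hn0
  have hmn' : m ⊗ₜ[k] n ∈ (GrSeg.segrePiece k ℳ 𝒩 d : Set (TensorProduct k M N)) :=
    Submodule.subset_span ⟨m, hm, n, hn, rfl⟩
  rw [← hP.image_piece d] at hmn'
  obtain ⟨p₀, -, hp₀⟩ := hmn'
  have hkerg : RingHom.ker g = RingHom.ker (σW k r s).toRingHom := by
    ext z
    rw [RingHom.mem_ker, RingHom.mem_ker]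
    change Ideal.Quotient.mk (Module.annihilator T P) (f z) = 0 ↔ σW k r s z = 0
    rw [Ideal.Quotient.eq_zero_iff_mem]
    constructor
    · intro hz
      have h1 : f z • p₀ = 0 := Module.mem_annihilator.1 hz p₀
      have h2 := congrArg φ h1
      rw [hP.map_smul, map_zero, hp₀, hf, ψ_comp x y ψ tt htt, act_GW] at h2
      have hinj := TensorProduct.map_injective_of_flat_flat (lam (k := k) x m) (lam (k := k) y n)
        (lam_injective x m hNTm) (lam_injective y n hNTn)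
      apply hinj
      rw [h2, map_zero]
    · intro hz
      exact hle ((hker z).2 hz)
  rw [dim_eq_of_isIntegral g hgint, hkerg]
  exact dim_quot_ker_σW k r s h1r h1s

end Groth.Agent.Lib.SegDimH6
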