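import Mathlib
import Groth.Prelude.Def_GrLC
import Groth.Prelude.Def_GrSeg
import Groth.Agent.Lib.SegCM3_helper1
import Groth.Agent.Lib.SegCM6_helper1
import Groth.Agent.Lib.SegMod10_helper6
import Groth.Agent.Lib.SegreFin_helper3
import Groth.Agent.Lib.GrTens3_helper1

/-! The Cohen–Macaulay criterion for Segre products of Cohen–Macaulay graded modules
(Goto–Watanabe) (helper1).  APPEND-ONLY once landed. -/

set_option autoImplicit false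

namespace Groth.Agent.Lib.SegCM7H1

open scoped TensorProduct
open DirectSum GrLC Groth.Agent.Lib.SegreH3 Groth.Agent.Lib.SegF1H1 Groth.Agent.Lib.SegF2H1
  Groth.Agent.Lib.GrXferH1 Groth.Agent.Lib.SegKun3H1 Groth.Agent.Lib.SegCMH1
  Groth.Agent.Lib.SegCM2H1 Groth.Agent.Lib.SegCM3H1 Groth.Agent.Lib.SegCM6H1
  Groth.Agent.Lib.MinResH1 Groth.Agent.Lib.GrTens3H1

universe u

theorem nontrivial_of_supportDim {R : Type u} [CommRing R] {M : Type u} [AddCommGroup M]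
    [Module R M] (r : ℕ) (h : Module.supportDim R M = r) : Nontrivial M := by
  by_contra hn
  rw [not_nontrivial_iff_subsingleton] at hn
  rw [(Module.supportDim_eq_bot_iff_subsingleton (R := R) (M := M)).2 hn] at h
  exact (WithBot.natCast_ne_bot r) h.symm

theorem comp_bot_iff {R : Type u} [CommRing R] (𝒜 : ℤ → AddSubgroup R) [GradedRing 𝒜]
    {M : Type u} [AddCommGroup M] [Module R M] (ℳ : ℤ → AddSubgroup M)
    [SetLike.GradedSMul 𝒜 ℳ] (d : ℤ) : comp 𝒜 ℳ d = ⊥ ↔ ℳ d = ⊥ := by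
  rw [Submodule.eq_bot_iff, AddSubgroup.eq_bot_iff_forall]
  exact Iff.rfl

section segmod

variable {k : Type u} [Field k]
  {R : Type u} [CommRing R] [Algebra k R] {𝒜 : ℤ → Submodule k R} [GradedAlgebra 𝒜]
  {S : Type u} [CommRing S] [Algebra k S] {ℬ : ℤ → Submodule k S} [GradedAlgebra ℬ]
  {T : Type u} [CommRing T] [Algebra k T] {𝒯 : ℤ → Submodule k T} [GradedAlgebra 𝒯]
  {ψ : T →ₐ[k] R ⊗[k] S}
  {M : Type u} [AddCommGroup M] [Module R M] [Module k M] [IsScalarTower k R M]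
  {ℳ : ℤ → AddSubgroup M} [Decomposition ℳ] [SetLike.GradedSMul 𝒜 ℳ]
  {N : Type u} [AddCommGroup N] [Module S N] [Module k N] [IsScalarTower k S N]
  {𝒩 : ℤ → AddSubgroup N} [Decomposition 𝒩] [SetLike.GradedSMul ℬ 𝒩]
  {P : Type u} [AddCommGroup P] [Module T P] [Module k P] [IsScalarTower k T P]
  {𝒬 : ℤ → AddSubgroup P} [Decomposition 𝒬] {φ : P →ₗ[k] M ⊗[k] N}

theorem gsmul_of_segreMod (hT : GrSeg.IsSegreRing 𝒜 ℬ 𝒯 ψ)
    (hP : GrSeg.IsSegreMod ψ ℳ 𝒩 𝒬 φ) : SetLike.GradedSMul 𝒯 𝒬 where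
  smul_mem := by
    intro a b t p ht hp
    have h1 : ψ t ∈ GrSeg.segrePiece k 𝒜 ℬ a := psi_mem_piece hT ht
    have h2 : φ p ∈ GrSeg.segrePiece k ℳ 𝒩 b := by
      have h : φ p ∈ (φ '' (𝒬 b : Set P)) := ⟨p, hp, rfl⟩
      rw [hP.image_piece b] at h
      exact h
    have h3 := act_piece ℳ 𝒩 h1 h2
    rw [← hP.map_smul] at h3
    have h4 : φ (t • p) ∈ (GrSeg.segrePiece k ℳ 𝒩 (a + b) : Set (M ⊗[k] N)) := h3
    rw [← hP.image_piece (a + b)] at h4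
    obtain ⟨p', hp', he⟩ := h4
    rw [vadd_eq_add, ← hP.injective he]
    exact hp'

end segmod

/-- the graded local cohomology of a Cohen–Macaulay graded module is concentrated in the degree
`dim M`. -/
theorem van_of_cmMod {k : Type u} [Field k] {R : Type u} [CommRing R] [Nontrivial R]
    [Algebra k R] {𝒜 : ℤ → Submodule k R} [GradedAlgebra 𝒜] [IsNoetherianRing R]
    (hpos : ∀ n : ℤ, n < 0 → 𝒜 n = ⊥) (h0 : 𝒜 0 = Submodule.span k {(1 : R)})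
    (mR : HomogeneousIdeal 𝒜)
    (hmR : mR.toIdeal = Ideal.span (⋃ n ∈ Set.Ioi (0 : ℤ), (𝒜 n : Set R)))
    {M : Type u} [AddCommGroup M] [Module R M] {ℳ : ℤ → AddSubgroup M} [Decomposition ℳ]
    [SetLike.GradedSMul 𝒜 ℳ] [Module.Finite R M]
    (hMcm : ∀ (q : Ideal R) [q.IsPrime], Subsingleton (LocalizedModule q.primeCompl M) ∨
      LocCoh.IsCohenMacaulayModule (Localization.AtPrime q) (LocalizedModule q.primeCompl M))
    (r : ℕ) (hdM : Module.supportDim R M = r) (E : StarInjRes (toAS 𝒜) ℳ) (i : ℕ) (hi : i ≠ r)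
    (d : ℤ) : E.Hcomp (idealAS 𝒜 mR) i d = ⊥ := by
  haveI : Nontrivial M := nontrivial_of_supportDim r hdM
  have hf : IsField (deg0 (toAS 𝒜)) := isField_deg0 h0
  have hstar : IsStarLocal (toAS 𝒜) (idealAS 𝒜 mR) := isStarLocal_irr hpos h0 mR hmR
  rcases lt_or_gt_of_ne hi with h | h
  · exact (cmMod_iff_vanishing (toAS 𝒜) (hposAS hpos) hf (idealAS 𝒜 mR) hstar ℳ E r hdM).1 hMcm i
      h d
  · apply pieces_of_subsingleton_locCoh (toAS 𝒜) (idealAS 𝒜 mR) ℳ E i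
    apply Groth.Agent.Lib.LocCohGVH7.GV
    rw [hdM]
    exact_mod_cast h

/-- **The Cohen–Macaulay criterion for Segre products of Cohen–Macaulay graded modules.** -/
theorem segre_cmMod_iff (k : Type u) [Field k] (R : Type u) [CommRing R] [Algebra k R]
    (𝒜 : ℤ → Submodule k R) [GradedAlgebra 𝒜] (hposR : ∀ n : ℤ, n < 0 → 𝒜 n = ⊥)
    (h0R : 𝒜 0 = Submodule.span k {(1 : R)}) [Algebra.FiniteType k R]
    (S : Type u) [CommRing S] [Algebra k S] (ℬ : ℤ → Submodule k S)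
    [GradedAlgebra ℬ] (hposS : ∀ n : ℤ, n < 0 → ℬ n = ⊥)
    (h0S : ℬ 0 = Submodule.span k {(1 : S)}) [Algebra.FiniteType k S]
    (T : Type u) [CommRing T] [Algebra k T] (𝒯 : ℤ → Submodule k T) [GradedAlgebra 𝒯]
    (ψ : T →ₐ[k] TensorProduct k R S) (hT : GrSeg.IsSegreRing 𝒜 ℬ 𝒯 ψ)
    (mR : HomogeneousIdeal 𝒜)
    (hmR : mR.toIdeal = Ideal.span (⋃ n ∈ Set.Ioi (0 : ℤ), (𝒜 n : Set R)))
    (mS : HomogeneousIdeal ℬ)
    (hmS : mS.toIdeal = Ideal.span (⋃ n ∈ Set.Ioi (0 : ℤ), (ℬ n : Set S)))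
    (M : Type u) [AddCommGroup M] [Module R M] [Module k M] [IsScalarTower k R M]
    (ℳ : ℤ → AddSubgroup M) [DirectSum.Decomposition ℳ] [SetLike.GradedSMul 𝒜 ℳ]
    [Module.Finite R M] (EM : GrLC.StarInjRes (toAS 𝒜) ℳ)
    (N : Type u) [AddCommGroup N] [Module S N] [Module k N] [IsScalarTower k S N]
    (𝒩 : ℤ → AddSubgroup N) [DirectSum.Decomposition 𝒩] [SetLike.GradedSMul ℬ 𝒩]
    [Module.Finite S N] (EN : GrLC.StarInjRes (toAS ℬ) 𝒩)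
    (P : Type u) [AddCommGroup P] [Module T P] [Module k P] [IsScalarTower k T P]
    (𝒬 : ℤ → AddSubgroup P) [DirectSum.Decomposition 𝒬]
    (φ : P →ₗ[k] TensorProduct k M N) (hP : GrSeg.IsSegreMod ψ ℳ 𝒩 𝒬 φ) [Nontrivial P]
    (r s : ℕ) (h1r : 1 ≤ r) (h1s : 1 ≤ s)
    (hdM : Module.supportDim R M = r) (hdN : Module.supportDim S N = s)
    (hMcm : ∀ (q : Ideal R) [q.IsPrime], Subsingleton (LocalizedModule q.primeCompl M) ∨
      LocCoh.IsCohenMacaulayModule (Localization.AtPrime q) (LocalizedModule q.primeCompl M))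
    (hNcm : ∀ (q : Ideal S) [q.IsPrime], Subsingleton (LocalizedModule q.primeCompl N) ∨
      LocCoh.IsCohenMacaulayModule (Localization.AtPrime q) (LocalizedModule q.primeCompl N)) :
    (∀ (q : Ideal T) [q.IsPrime], Subsingleton (LocalizedModule q.primeCompl P) ∨
      LocCoh.IsCohenMacaulayModule (Localization.AtPrime q) (LocalizedModule q.primeCompl P)) ↔
      (2 ≤ r → ∀ d : ℤ, ℳ d = ⊥ ∨ EN.Hcomp (idealAS ℬ mS) s d = ⊥) ∧
      (2 ≤ s → ∀ d : ℤ, EM.Hcomp (idealAS 𝒜 mR) r d = ⊥ ∨ 𝒩 d = ⊥) := by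
  haveI : IsNoetherianRing R := Algebra.FiniteType.isNoetherianRing k R
  haveI : IsNoetherianRing S := Algebra.FiniteType.isNoetherianRing k S
  haveI : IsNoetherianRing T := Groth.Agent.Lib.SegreNoeth.main 𝒜 ℬ 𝒯 ψ hT.2 hT.1
  haveI : Nontrivial M := nontrivial_of_supportDim r hdM
  haveI : Nontrivial N := nontrivial_of_supportDim s hdN
  haveI : Nontrivial R := Module.nontrivial R M
  haveI : Nontrivial S := Module.nontrivial S N
  haveI : Nontrivial T := nontrivial_T hT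
  have h0T := deg_zero_T hT h0R h0S
  have hposT := hpos_T hT hposR
  have hfT : IsField (deg0 (toAS 𝒯)) := isField_deg0 h0T
  have hstarT : IsStarLocal (toAS 𝒯) (idealAS 𝒯 (irr 𝒯)) :=
    isStarLocal_irr hposT h0T (irr 𝒯) irr_toIdeal
  haveI : SetLike.GradedSMul 𝒯 𝒬 := gsmul_of_segreMod hT hP
  haveI : Module.Finite T P :=
    Groth.Agent.Lib.SegreH3.finite_segre k R 𝒜 S ℬ T 𝒯 ψ hT M ℳ N 𝒩 P 𝒬 φ hP
  have hdimP : Module.supportDim T P = ((r + s - 1 : ℕ) : WithBot ℕ∞) :=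
    (Groth.Agent.Lib.SegDimH6.main19754 k R 𝒜 hposR h0R S ℬ hposS h0S T 𝒯 ψ hT M ℳ N 𝒩 P 𝒬 φ hP
      r s h1r h1s hdM hdN hMcm hNcm).resolve_right (not_subsingleton P)
  have crit := cmMod_iff_vanishing (toAS 𝒯) (hposAS hposT) hfT (idealAS 𝒯 (irr 𝒯)) hstarT 𝒬
    (minRes (toAS 𝒯) 𝒬) (r + s - 1) hdimP
  have vanM : ∀ i : ℕ, i ≠ r → ∀ d : ℤ, EM.Hcomp (idealAS 𝒜 mR) i d = ⊥ :=
    fun i hi d => van_of_cmMod hposR h0R mR hmR hMcm r hdM EM i hi d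
  have vanN : ∀ i : ℕ, i ≠ s → ∀ d : ℤ, EN.Hcomp (idealAS ℬ mS) i d = ⊥ :=
    fun i hi d => van_of_cmMod hposS h0S mS hmS hNcm s hdN EN i hi d
  have kv := fun (q : ℕ) (d : ℤ) => kunneth_vanish k R 𝒜 hposR h0R S ℬ hposS h0S T 𝒯 ψ hT mR hmR
    mS hmS (irr 𝒯) irr_toIdeal M ℳ EM N 𝒩 EN P 𝒬 φ hP
    (minRes (toAS 𝒯) 𝒬) d (vanM 0 (by omega) d) (vanN 0 (by omega) d) q
  have cA : ∀ d : ℤ, comp (toAS 𝒜) ℳ d = ⊥ ↔ ℳ d = ⊥ := fun d => comp_bot_iff (toAS 𝒜) ℳ d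
  have cB : ∀ d : ℤ, comp (toAS ℬ) 𝒩 d = ⊥ ↔ 𝒩 d = ⊥ := fun d => comp_bot_iff (toAS ℬ) 𝒩 d
  rw [crit]
  constructor
  · intro h
    refine ⟨fun h2r d => ?_, fun h2s d => ?_⟩
    · exact ((kv s d).1 (h s (by omega) d)).1.imp (cA d).1 id
    · exact ((kv r d).1 (h r (by omega) d)).2.1.imp id (cB d).1
  · rintro ⟨hA, hB⟩ q hq d
    refine (kv q d).2 ⟨?_, ?_, ?_⟩
    · by_cases hqs : q = s
      · rw [hqs]
        exact (hA (by omega) d).imp (cA d).2 id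
      · exact Or.inr (vanN q hqs d)
    · by_cases hqr : q = r
      · rw [hqr]
        exact (hB (by omega) d).imp id (cB d).2
      · exact Or.inl (vanM q hqr d)
    · intro i hi
      rw [Finset.mem_range] at hi
      by_cases hir : i = r
      · exact Or.inr (vanN _ (by omega) d)
      · exact Or.inl (vanM i hir d)

theorem main19755 (k : Type u) [Field k] (R : Type u) [CommRing R] [Algebra k R]
    (𝒜 : ℤ → Submodule k R) [GradedAlgebra 𝒜] (hposR : ∀ n : ℤ, n < 0 → 𝒜 n = ⊥)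
    (h0R : 𝒜 0 = Submodule.span k {(1 : R)}) [Algebra.FiniteType k R]
    (S : Type u) [CommRing S] [Algebra k S] (ℬ : ℤ → Submodule k S)
    [GradedAlgebra ℬ] (hposS : ∀ n : ℤ, n < 0 → ℬ n = ⊥)
    (h0S : ℬ 0 = Submodule.span k {(1 : S)}) [Algebra.FiniteType k S]
    (T : Type u) [CommRing T] [Algebra k T] (𝒯 : ℤ → Submodule k T) [GradedAlgebra 𝒯]
    (ψ : T →ₐ[k] TensorProduct k R S) (hT : GrSeg.IsSegreRing 𝒜 ℬ 𝒯 ψ)
    (mR : HomogeneousIdeal 𝒜)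
    (hmR : mR.toIdeal = Ideal.span (⋃ n ∈ Set.Ioi (0 : ℤ), (𝒜 n : Set R)))
    (mS : HomogeneousIdeal ℬ)
    (hmS : mS.toIdeal = Ideal.span (⋃ n ∈ Set.Ioi (0 : ℤ), (ℬ n : Set S)))
    (M : Type u) [AddCommGroup M] [Module R M] [Module k M] [IsScalarTower k R M]
    (ℳ : ℤ → AddSubgroup M) [DirectSum.Decomposition ℳ] [SetLike.GradedSMul 𝒜 ℳ]
    [Module.Finite R M] (EM : GrLC.StarInjRes 𝒜 ℳ)
    (N : Type u) [AddCommGroup N] [Module S N] [Module k N] [IsScalarTower k S N]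
    (𝒩 : ℤ → AddSubgroup N) [DirectSum.Decomposition 𝒩] [SetLike.GradedSMul ℬ 𝒩]
    [Module.Finite S N] (EN : GrLC.StarInjRes ℬ 𝒩)
    (P : Type u) [AddCommGroup P] [Module T P] [Module k P] [IsScalarTower k T P]
    (𝒬 : ℤ → AddSubgroup P) [DirectSum.Decomposition 𝒬]
    (φ : P →ₗ[k] TensorProduct k M N) (hP : GrSeg.IsSegreMod ψ ℳ 𝒩 𝒬 φ) [Nontrivial P]
    (r s : ℕ) (h2r : 2 ≤ r) (h2s : 2 ≤ s)
    (hdM : Module.supportDim R M = r) (hdN : Module.supportDim S N = s)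
    (hMcm : (∀ (q : Ideal R) [q.IsPrime], Subsingleton (LocalizedModule q.primeCompl M) ∨
      LocCoh.IsCohenMacaulayModule (Localization.AtPrime q) (LocalizedModule q.primeCompl M)))
    (hNcm : (∀ (q : Ideal S) [q.IsPrime], Subsingleton (LocalizedModule q.primeCompl N) ∨
      LocCoh.IsCohenMacaulayModule (Localization.AtPrime q) (LocalizedModule q.primeCompl N))) :
    (∀ (q : Ideal T) [q.IsPrime], Subsingleton (LocalizedModule q.primeCompl P) ∨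
      LocCoh.IsCohenMacaulayModule (Localization.AtPrime q) (LocalizedModule q.primeCompl P)) ↔
      (∀ d : ℤ, ℳ d = ⊥ ∨ EN.Hcomp mS s d = ⊥) ∧ (∀ d : ℤ, EM.Hcomp mR r d = ⊥ ∨ 𝒩 d = ⊥) := by
  have key := segre_cmMod_iff k R 𝒜 hposR h0R S ℬ hposS h0S T 𝒯 ψ hT mR hmR mS hmS M ℳ
    (resASM 𝒜 ℳ EM) N 𝒩 (resASM ℬ 𝒩 EN) P 𝒬 φ hP r s (by omega) (by omega) hdM hdN hMcm hNcm
  have cM : ∀ d : ℤ, (resASM 𝒜 ℳ EM).Hcomp (idealAS 𝒜 mR) r d = ⊥ ↔ EM.Hcomp mR r d = ⊥ :=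
    fun d => bot_iff_bot _ _ (fun x => Iff.rfl)
  have cN : ∀ d : ℤ, (resASM ℬ 𝒩 EN).Hcomp (idealAS ℬ mS) s d = ⊥ ↔ EN.Hcomp mS s d = ⊥ :=
    fun d => bot_iff_bot _ _ (fun x => Iff.rfl)
  refine key.trans ⟨?_, ?_⟩
  · rintro ⟨h1, h2⟩
    exact ⟨fun d => (h1 h2r d).imp id (cN d).1, fun d => (h2 h2s d).imp (cM d).1 id⟩
  · rintro ⟨h1, h2⟩
    exact ⟨fun _ d => (h1 d).imp id (cN d).2, fun _ d => (h2 d).imp (cM d).2 id⟩

theorem main19756 (k : Type u) [Field k] (R : Type u) [CommRing R] [Algebra k R]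
    (𝒜 : ℤ → Submodule k R) [GradedAlgebra 𝒜] (hposR : ∀ n : ℤ, n < 0 → 𝒜 n = ⊥)
    (h0R : 𝒜 0 = Submodule.span k {(1 : R)}) [Algebra.FiniteType k R]
    (S : Type u) [CommRing S] [Algebra k S] (ℬ : ℤ → Submodule k S)
    [GradedAlgebra ℬ] (hposS : ∀ n : ℤ, n < 0 → ℬ n = ⊥)
    (h0S : ℬ 0 = Submodule.span k {(1 : S)}) [Algebra.FiniteType k S]
    (T : Type u) [CommRing T] [Algebra k T] (𝒯 : ℤ → Submodule k T) [GradedAlgebra 𝒯]
    (ψ : T →ₐ[k] TensorProduct k R S) (hT : GrSeg.IsSegreRing 𝒜 ℬ 𝒯 ψ)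
    (mR : HomogeneousIdeal 𝒜)
    (hmR : mR.toIdeal = Ideal.span (⋃ n ∈ Set.Ioi (0 : ℤ), (𝒜 n : Set R)))
    (M : Type u) [AddCommGroup M] [Module R M] [Module k M] [IsScalarTower k R M]
    (ℳ : ℤ → AddSubgroup M) [DirectSum.Decomposition ℳ] [SetLike.GradedSMul 𝒜 ℳ]
    [Module.Finite R M] (EM : GrLC.StarInjRes 𝒜 ℳ)
    (N : Type u) [AddCommGroup N] [Module S N] [Module k N] [IsScalarTower k S N]
    (𝒩 : ℤ → AddSubgroup N) [DirectSum.Decomposition 𝒩] [SetLike.GradedSMul ℬ 𝒩]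
    [Module.Finite S N]
    (P : Type u) [AddCommGroup P] [Module T P] [Module k P] [IsScalarTower k T P]
    (𝒬 : ℤ → AddSubgroup P) [DirectSum.Decomposition 𝒬]
    (φ : P →ₗ[k] TensorProduct k M N) (hP : GrSeg.IsSegreMod ψ ℳ 𝒩 𝒬 φ) [Nontrivial P]
    (s : ℕ) (h1s : 1 ≤ s)
    (hdM : Module.supportDim R M = 1) (hdN : Module.supportDim S N = s)
    (hMcm : (∀ (q : Ideal R) [q.IsPrime], Subsingleton (LocalizedModule q.primeCompl M) ∨
      LocCoh.IsCohenMacaulayModule (Localization.AtPrime q) (LocalizedModule q.primeCompl M)))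
    (hNcm : (∀ (q : Ideal S) [q.IsPrime], Subsingleton (LocalizedModule q.primeCompl N) ∨
      LocCoh.IsCohenMacaulayModule (Localization.AtPrime q) (LocalizedModule q.primeCompl N))) :
    (2 ≤ s → ((∀ (q : Ideal T) [q.IsPrime], Subsingleton (LocalizedModule q.primeCompl P) ∨
      LocCoh.IsCohenMacaulayModule (Localization.AtPrime q) (LocalizedModule q.primeCompl P)) ↔
        ∀ d : ℤ, EM.Hcomp mR 1 d = ⊥ ∨ 𝒩 d = ⊥)) ∧
      (s = 1 → (∀ (q : Ideal T) [q.IsPrime], Subsingleton (LocalizedModule q.primeCompl P) ∨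
        LocCoh.IsCohenMacaulayModule (Localization.AtPrime q)
          (LocalizedModule q.primeCompl P))) := by
  have key := segre_cmMod_iff k R 𝒜 hposR h0R S ℬ hposS h0S T 𝒯 ψ hT mR hmR (irr ℬ) irr_toIdeal
    M ℳ (resASM 𝒜 ℳ EM) N 𝒩 (minRes (toAS ℬ) 𝒩) P 𝒬 φ hP 1 s le_rfl h1s
    (hdM.trans Nat.cast_one.symm) hdN hMcm hNcm
  have cM : ∀ d : ℤ, (resASM 𝒜 ℳ EM).Hcomp (idealAS 𝒜 mR) 1 d = ⊥ ↔ EM.Hcomp mR 1 d = ⊥ :=
    fun d => bot_iff_bot _ _ (fun x => Iff.rfl)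
  refine ⟨fun h2s => ?_, fun hs1 => ?_⟩
  · refine key.trans ⟨?_, ?_⟩
    · rintro ⟨-, h2⟩ d
      exact (h2 h2s d).imp (cM d).1 id
    · intro h
      exact ⟨fun h' => absurd h' (by norm_num), fun _ d => (h d).imp (cM d).2 id⟩
  · exact key.2 ⟨fun h' => absurd h' (by norm_num), fun h' => absurd h' (by omega)⟩

end Groth.Agent.Lib.SegCM7H1
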