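import Mathlib
import Groth.Prelude.Def_GrLC
import Groth.Prelude.Def_GrSeg
import Groth.Agent.Lib.SegTot2_helper1
import Groth.Agent.Lib.DVec5_helper1

/-! The top graded local cohomology of a Segre product `M # N` as a module over the Segre ring:
the bridge to the total complex is compatible with the action of the Segre ring, and a nonzero
class of the top local cohomology of `M # N` is detected by multiplication by homogeneous elements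
of the Segre ring when the classes of the top local cohomology of `M` and `N` are (helper1).
APPEND-ONLY once landed. -/

set_option autoImplicit false

namespace Groth.Agent.Lib.SegTopH1

open scoped TensorProduct
open DirectSum GrLC Groth.Agent.Lib.SegreH3 Groth.Agent.Lib.SegF1H1 Groth.Agent.Lib.SegF2H1
  Groth.Agent.Lib.TCrdH1 Groth.Agent.Lib.DivH1 Groth.Agent.Lib.GrAcycH1
  Groth.Agent.Lib.SegTorsH1 Groth.Agent.Lib.GrXferH1 Groth.Agent.Lib.GrLES1H1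
  Groth.Agent.Lib.GrLES2H1 Groth.Agent.Lib.SegAcycH1 Groth.Agent.Lib.DVecH1
  Groth.Agent.Lib.BigResH1 Groth.Agent.Lib.SegAcyc2H1 Groth.Agent.Lib.SegGamH1
  Groth.Agent.Lib.ARTH1 Groth.Agent.Lib.SegKunH1 Groth.Agent.Lib.SegTotH1

universe u

attribute [local instance] kMod kTower gsmulX

/-! ### multiplication operators on the total module of a resolution -/
section ops

variable {k : Type u} [Field k] {R : Type u} [CommRing R] [Algebra k R]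
  {𝒜 : ℤ → Submodule k R} [GradedAlgebra 𝒜]
  {M : Type u} [AddCommGroup M] [Module R M] {ℳ : ℤ → AddSubgroup M} [Decomposition ℳ]
  [SetLike.GradedSMul 𝒜 ℳ] (E : StarInjRes (toAS 𝒜) ℳ)

/-- multiplication by a ring element on the total module, as a `k`-linear map -/
noncomputable def sm (ρ : R) : (bigX E).carrier →ₗ[k] (bigX E).carrier :=
  (LinearMap.lsmul R (bigX E).carrier ρ).restrictScalars k

theorem sm_apply (ρ : R) (v : (bigX E).carrier) : sm E ρ v = ρ • v := rfl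

theorem sm_d (ρ : R) (v : (bigX E).carrier) : (gdE E).d (sm E ρ v) = sm E ρ ((gdE E).d v) :=
  map_smul (xD E) ρ v

theorem sm_σ (ρ : R) (v : (bigX E).carrier) : (gdE E).σ (sm E ρ v) = sm E ρ ((gdE E).σ v) :=
  map_smul (xS E) ρ v

theorem sm_π (ρ : R) (i : ℕ) (v : (bigX E).carrier) :
    (gdE E).π i (sm E ρ v) = sm E ρ ((gdE E).π i v) :=
  map_smul (xP E i) ρ v

theorem sm_mem_AA {d e : ℤ} {ρ : R} (hρ : ρ ∈ 𝒜 e) {v : (bigX E).carrier} (hv : v ∈ AA E d) :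
    sm E ρ v ∈ AA E (e + d) := by
  have h := SetLike.GradedSMul.smul_mem (A := 𝒜) (B := (bigX E).gr) hρ hv
  rw [vadd_eq_add] at h
  exact h

theorem sm_mem_AA' (a : Ideal R) {d e : ℤ} {ρ : R} (hρ : ρ ∈ 𝒜 e) {v : (bigX E).carrier}
    (hv : v ∈ AA' E a d) : sm E ρ v ∈ AA' E a (e + d) :=
  ⟨sm_mem_AA E hρ hv.1, (gam a (bigX E).carrier).smul_mem ρ hv.2⟩

theorem sm_mem_Zn (a : HomogeneousIdeal (toAS 𝒜)) (i : ℕ) {d e : ℤ} {ρ : R} (hρ : ρ ∈ 𝒜 e)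
    {z : (bigX E).carrier} (hz : z ∈ (gdE E).Zn (AA' E a.toIdeal d) i) :
    sm E ρ z ∈ (gdE E).Zn (AA' E a.toIdeal (e + d)) i :=
  map_Zn (gdE E) (sm E ρ) (sm_d E ρ) (fun j v => sm_π E ρ j v)
    (fun _ hv => sm_mem_AA' E a.toIdeal hρ hv) hz

theorem br_sm (a : HomogeneousIdeal (toAS 𝒜)) (i : ℕ) {d e : ℤ} {ρ : R} (hρ : ρ ∈ 𝒜 e)
    (z : ↥((gdE E).Zn (AA' E a.toIdeal d) i)) :
    br E a i (e + d) ⟨sm E ρ z.1, sm_mem_Zn E a i hρ z.2⟩ = ρ • br E a i d z := by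
  rw [br_apply, br_apply, ← map_smul]
  congr 1

/-- the family of multiplications by the elements of a degree -/
def smFam (e : ℤ) : Set ((bigX E).carrier →ₗ[k] (bigX E).carrier) :=
  {f | ∃ ρ ∈ 𝒜 e, f = sm E ρ}

theorem ess_of (a : HomogeneousIdeal (toAS 𝒜)) (i : ℕ) (d e : ℤ)
    (hess : ∀ h ∈ E.Hgr a i d, h ≠ 0 → ∃ ρ ∈ 𝒜 e, ρ • h ≠ 0) :
    ∀ x ∈ (gdE E).Zn (AA' E a.toIdeal d) i, x ∉ (gdE E).Bn (AA' E a.toIdeal d) i →
      ∃ f ∈ smFam E e, f x ∉ (gdE E).Bn (AA' E a.toIdeal (e + d)) i := by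
  intro x hx hxb
  have h1 : br E a i d ⟨x, hx⟩ ≠ 0 := fun h => hxb ((br_ker E a i d ⟨x, hx⟩).1 h)
  obtain ⟨ρ, hρ, hne⟩ := hess _ (br_mem E a i d ⟨x, hx⟩) h1
  refine ⟨sm E ρ, ⟨ρ, hρ, rfl⟩, fun hb => hne ?_⟩
  rw [← br_sm E a i hρ ⟨x, hx⟩]
  exact (br_ker E a i (e + d) _).2 hb

theorem van_of (a : HomogeneousIdeal (toAS 𝒜)) (i : ℕ) (d : ℤ)
    (h : ∀ x ∈ E.Hgr a i d, x = 0) :
    (gdE E).Zn (AA' E a.toIdeal d) i ≤ (gdE E).Bn (AA' E a.toIdeal d) i :=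
  fun z hz => (br_ker E a i d ⟨z, hz⟩).1 (h _ (br_mem E a i d ⟨z, hz⟩))

end ops

variable {k : Type u} [Field k]
  {R : Type u} [CommRing R] [Algebra k R] {𝒜 : ℤ → Submodule k R} [GradedAlgebra 𝒜]
  {S : Type u} [CommRing S] [Algebra k S] {ℬ : ℤ → Submodule k S} [GradedAlgebra ℬ]
  {T : Type u} [CommRing T] [Algebra k T] {𝒯 : ℤ → Submodule k T} [GradedAlgebra 𝒯]
  {ψ : T →ₐ[k] R ⊗[k] S}

variable (hT : GrSeg.IsSegreRing 𝒜 ℬ 𝒯 ψ)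
  {M : Type u} [AddCommGroup M] [Module R M] {ℳ : ℤ → AddSubgroup M} [Decomposition ℳ]
  [SetLike.GradedSMul 𝒜 ℳ] (EM : StarInjRes (toAS 𝒜) ℳ)
  {N : Type u} [AddCommGroup N] [Module S N] {𝒩 : ℤ → AddSubgroup N} [Decomposition 𝒩]
  [SetLike.GradedSMul ℬ 𝒩] (EN : StarInjRes (toAS ℬ) 𝒩)

theorem kdE (a : Ideal R) (b : Ideal S) (d : ℤ) :
    KD (gdE EM) (gdE EN) (AA' EM a d) (AA EM d) (AA' EN b d) (AA EN d) :=
  ⟨stable_AA' EM a d, stable_AA EM d, AA'_le EM a d, stable_AA' EN b d, stable_AA EN d,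
    AA'_le EN b d, exact_AA EM d, exact_AA EN d⟩

theorem act_pure (ρ : R) (τ : S) (z : (bigX EM).carrier ⊗[k] (bigX EN).carrier) :
    GrSeg.act k R S _ _ (ρ ⊗ₜ[k] τ) z = TensorProduct.map (sm EM ρ) (sm EN τ) z := by
  induction z using TensorProduct.induction_on with
  | zero => simp only [map_zero]
  | tmul x y =>
    rw [GrSeg.act_tmul, TensorProduct.map_tmul]
    rfl
  | add a b ha hb => simp only [map_add, ha, hb]

section bridge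

variable [IsNoetherianRing R] [IsNoetherianRing S]
  (mR : HomogeneousIdeal 𝒜) (mS : HomogeneousIdeal ℬ) (mT : HomogeneousIdeal 𝒯)
  (hmR : mR.toIdeal = Ideal.span (⋃ n ∈ Set.Ioi (0 : ℤ), (𝒜 n : Set R)))
  (hmS : mS.toIdeal = Ideal.span (⋃ n ∈ Set.Ioi (0 : ℤ), (ℬ n : Set S)))
  (hmT : mT.toIdeal = Ideal.span (⋃ n ∈ Set.Ioi (0 : ℤ), (𝒯 n : Set T)))
  (q : ℕ)

include hmR hmS hmT in
theorem bridge_of_art' (d : ℤ) {H : Type u} [AddCommGroup H] [Module T H]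
    (ℋ : ℤ → AddSubgroup H)
    (c : ↥(gam (idealAS 𝒯 mT).toIdeal (Zq hT EM EN q).carrier) →ₗ[T] H)
    (hc : IsART (totA hT EM EN) (totD hT EM EN) (totD_gr hT EM EN) (idealAS 𝒯 mT) q ℋ c) :
    ∃ F : ↥((tens (gdE EM) (gdE EN)).Zn (KK EM EN mR mS d) q) →+ H,
      (∀ z, F z ∈ ℋ d) ∧ (∀ h ∈ ℋ d, ∃ z, F z = h) ∧
      (∀ z : ↥((tens (gdE EM) (gdE EN)).Zn (KK EM EN mR mS d) q),
        F z = 0 ↔ (z : (bigX EM).carrier ⊗[k] (bigX EN).carrier) ∈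
          (tens (gdE EM) (gdE EN)).Bn (KK EM EN mR mS d) q) ∧
      (∀ z : ↥((tens (gdE EM) (gdE EN)).Zn (KK EM EN mR mS d) q),
        ∃ y : ↥(gam (idealAS 𝒯 mT).toIdeal (Zq hT EM EN q).carrier),
          undZ hT EM EN q y.1 = z.1 ∧ F z = c y) ∧
      (∀ (z : ↥((tens (gdE EM) (gdE EN)).Zn (KK EM EN mR mS d) q))
        (y : ↥(gam (idealAS 𝒯 mT).toIdeal (Zq hT EM EN q).carrier)),
          undZ hT EM EN q y.1 = z.1 → F z = c y) := by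
  have hex : ∀ ζ : ↥((tens (gdE EM) (gdE EN)).Zn (KK EM EN mR mS d) q),
      ∃ y : ↥(gam (idealAS 𝒯 mT).toIdeal (Zq hT EM EN q).carrier),
        undZ hT EM EN q y.1 = ζ.1 := by
    intro ζ
    obtain ⟨y, hy⟩ := exists_cocycle hT EM EN mR mS q d ζ.1 ζ.2
    have h1 := ((tens_mem_Zn (gdE EM) (gdE EN)).1 ζ.2).1
    refine ⟨⟨y, (mem_gam_Zq_iff hT EM EN mR mS mT hmR hmS hmT q d y
      (by rw [hy]; exact KK_le EM EN mR mS d h1)).2 (by rw [hy]; exact h1)⟩, hy⟩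
  choose kz hkz using hex
  have hinj : ∀ y y' : ↥(gam (idealAS 𝒯 mT).toIdeal (Zq hT EM EN q).carrier),
      undZ hT EM EN q y.1 = undZ hT EM EN q y'.1 → y = y' :=
    fun y y' h => Subtype.ext (undZ_injective hT EM EN q h)
  have kz_add : ∀ ζ ζ', kz (ζ + ζ') = kz ζ + kz ζ' := by
    intro ζ ζ'
    apply hinj
    have e1 : ((ζ + ζ' : ↥((tens (gdE EM) (gdE EN)).Zn (KK EM EN mR mS d) q)) :
        (bigX EM).carrier ⊗[k] (bigX EN).carrier) = ζ.1 + ζ'.1 := rfl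
    have e2 : ((kz ζ + kz ζ' : ↥(gam (idealAS 𝒯 mT).toIdeal (Zq hT EM EN q).carrier)) :
        (Zq hT EM EN q).carrier) = (kz ζ).1 + (kz ζ').1 := rfl
    rw [hkz, e1, e2, undZ_add, hkz, hkz]
  have kz_deg : ∀ ζ, (kz ζ).1 ∈ (Zq hT EM EN q).gr d := fun ζ =>
    (mem_Zq_gr hT EM EN q).2 (by
      rw [hkz]
      exact KK_le EM EN mR mS d ((tens_mem_Zn (gdE EM) (gdE EN)).1 ζ.2).1)
  refine ⟨AddMonoidHom.mk' (fun ζ => c (kz ζ)) (fun ζ ζ' => by rw [kz_add, map_add]),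
    ?_, ?_, ?_, ?_, ?_⟩
  · intro ζ
    exact hc.mem d (kz ζ) (kz_deg ζ)
  · intro h hh
    obtain ⟨y, hyd, rfl⟩ := hc.lift d h hh
    have hyT : undZ hT EM EN q y.1 ∈ T2 (AA EM d) (AA EN d) := (mem_Zq_gr hT EM EN q).1 hyd
    have hyK : undZ hT EM EN q y.1 ∈ KK EM EN mR mS d :=
      (mem_gam_Zq_iff hT EM EN mR mS mT hmR hmS hmT q d y.1 hyT).1 y.2
    have hyZ : undZ hT EM EN q y.1 ∈ (tens (gdE EM) (gdE EN)).Zn (KK EM EN mR mS d) q :=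
      (tens_mem_Zn (gdE EM) (gdE EN)).2 ⟨hyK, undZ_tπ hT EM EN q y.1, undZ_tD hT EM EN q y.1⟩
    refine ⟨⟨_, hyZ⟩, ?_⟩
    show c (kz ⟨_, hyZ⟩) = c y
    rw [hinj _ _ (hkz ⟨_, hyZ⟩)]
  · intro ζ
    show c (kz ζ) = 0 ↔ _
    rw [hc.ker]
    refine (bdry_iff hT EM EN mR mS mT hmR hmS hmT d q (kz ζ).1
      (by rw [hkz]; exact ζ.2)).trans ?_
    rw [hkz]
  · intro ζ
    exact ⟨kz ζ, hkz ζ, rfl⟩
  · intro ζ y hy
    show c (kz ζ) = c y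
    rw [hinj (kz ζ) y ((hkz ζ).trans hy.symm)]

variable [IsNoetherianRing T] [Module k M] [IsScalarTower k R M] [Module k N]
  [IsScalarTower k S N]
  {P : Type u} [AddCommGroup P] [Module T P] [Module k P] [IsScalarTower k T P]
  (𝒬 : ℤ → AddSubgroup P) [Decomposition 𝒬] [SetLike.GradedSMul 𝒯 𝒬]
  (φ : P →ₗ[k] M ⊗[k] N) (hP : GrSeg.IsSegreMod ψ ℳ 𝒩 𝒬 φ)

include hT hmR hmS hmT hP in
/-- The bridge between the graded local cohomology of a Segre product `M # N` and the cohomology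
of the torsion part of the Segre product of the total modules, in all degrees at once and
compatible with the action of the Segre ring. -/
theorem exists_bridgeT (EP : StarInjRes (toAS 𝒯) 𝒬) :
    ∃ F : ∀ d : ℤ, ↥((tens (gdE EM) (gdE EN)).Zn (KK EM EN mR mS d) q) →+
        EP.H (idealAS 𝒯 mT) q,
      (∀ d z, F d z ∈ EP.Hgr (idealAS 𝒯 mT) q d) ∧
      (∀ d, ∀ h ∈ EP.Hgr (idealAS 𝒯 mT) q d, ∃ z, F d z = h) ∧
      (∀ d (z : ↥((tens (gdE EM) (gdE EN)).Zn (KK EM EN mR mS d) q)),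
        F d z = 0 ↔ (z : (bigX EM).carrier ⊗[k] (bigX EN).carrier) ∈
          (tens (gdE EM) (gdE EN)).Bn (KK EM EN mR mS d) q) ∧
      (∀ (d d' : ℤ) (t : T) (z : ↥((tens (gdE EM) (gdE EN)).Zn (KK EM EN mR mS d) q))
        (z' : ↥((tens (gdE EM) (gdE EN)).Zn (KK EM EN mR mS d') q)),
        (z' : (bigX EM).carrier ⊗[k] (bigX EN).carrier) = GrSeg.act k R S _ _ (ψ t) z.1 →
          F d' z' = t • F d z) := by
  obtain ⟨θ, hθ⟩ := exists_theta hT EM EN 𝒬 φ hP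
  obtain ⟨c, hc⟩ := ARTH1.main (totA hT EM EN) (totD hT EM EN) (totD_gr hT EM EN)
    (totD_exact hT EM EN) (idealAS 𝒯 mT) (totA_acyc hT EM EN mR mS mT hmR hmS hmT)
    (Ver3H1.reaug EP θ hθ) q
  have hF := fun d : ℤ => bridge_of_art' hT EM EN mR mS mT hmR hmS hmT q d
    (H := EP.H (idealAS 𝒯 mT) q) (EP.Hgr (idealAS 𝒯 mT) q) c hc
  choose F h1 h2 h3 h4 h5 using hF
  refine ⟨F, h1, h2, h3, ?_⟩
  intro d d' t z z' hz'
  obtain ⟨y, hy, hFy⟩ := h4 d z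
  have hy' : undZ hT EM EN q (t • y).1 = z'.1 := by
    have e : ((t • y : ↥(gam (idealAS 𝒯 mT).toIdeal (Zq hT EM EN q).carrier)) :
        (Zq hT EM EN q).carrier) = t • y.1 := rfl
    rw [e, undZ_smul, hy, hz']
  rw [h5 d' z' (t • y) hy', hFy, map_smul]

include hT hmR hmS hmT hP in
/-- A nonzero class of the top graded local cohomology of `M # N` is detected by multiplication
by a homogeneous element of the Segre ring, when this holds for `M` and for `N`. -/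
theorem top_h2 (EP : StarInjRes (toAS 𝒯) 𝒬) {r s : ℕ} (hr : 1 ≤ r) (hs : 1 ≤ s) (d e : ℤ)
    (vM : ∀ i, r + 1 < i → ∀ x ∈ EM.Hgr (idealAS 𝒜 mR) i d, x = 0)
    (vN : ∀ j, s + 1 < j → ∀ x ∈ EN.Hgr (idealAS ℬ mS) j d, x = 0)
    (essM : ∀ h ∈ EM.Hgr (idealAS 𝒜 mR) (r + 1) d, h ≠ 0 → ∃ ρ ∈ 𝒜 e, ρ • h ≠ 0)
    (essN : ∀ h ∈ EN.Hgr (idealAS ℬ mS) (s + 1) d, h ≠ 0 → ∃ τ ∈ ℬ e, τ • h ≠ 0) :
    ∀ ξ ∈ EP.Hgr (idealAS 𝒯 mT) (r + s + 1) d, ξ ≠ 0 → ∃ t ∈ 𝒯 e, t • ξ ≠ 0 := by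
  intro ξ hξ hξ0
  obtain ⟨F, -, hFsurj, hFker, hFeq⟩ := exists_bridgeT hT EM EN mR mS mT hmR hmS hmT
    (r + s + 1) 𝒬 φ hP EP
  obtain ⟨z, rfl⟩ := hFsurj d ξ hξ
  have hzb : (z : (bigX EM).carrier ⊗[k] (bigX EN).carrier) ∉
      (tens (gdE EM) (gdE EN)).Bn (KK EM EN mR mS d) (r + s + 1) :=
    fun h => hξ0 ((hFker d z).2 h)
  obtain ⟨f, ⟨ρ, hρ, rfl⟩, g, ⟨τ, hτ, rfl⟩, hne⟩ := top_ess
    (kdE EM EN (idealAS 𝒜 mR).toIdeal (idealAS ℬ mS).toIdeal d)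
    (kdE EM EN (idealAS 𝒜 mR).toIdeal (idealAS ℬ mS).toIdeal (e + d)) hr hs
    (fun i hi => van_of EM (idealAS 𝒜 mR) i d (vM i hi))
    (fun j hj => van_of EN (idealAS ℬ mS) j d (vN j hj))
    (smFam EM e) (smFam EN e)
    (by rintro _ ⟨ρ, -, rfl⟩ v; exact sm_d EM ρ v)
    (by rintro _ ⟨ρ, -, rfl⟩ v; exact sm_σ EM ρ v)
    (by rintro _ ⟨ρ, -, rfl⟩ i v; exact sm_π EM ρ i v)
    (by rintro _ ⟨ρ, hρ, rfl⟩ a ha; exact sm_mem_AA EM hρ ha)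
    (by rintro _ ⟨ρ, hρ, rfl⟩ a ha; exact sm_mem_AA' EM _ hρ ha)
    (by rintro _ ⟨τ, -, rfl⟩ v; exact sm_d EN τ v)
    (by rintro _ ⟨τ, -, rfl⟩ i v; exact sm_π EN τ i v)
    (by rintro _ ⟨τ, hτ, rfl⟩ a ha; exact sm_mem_AA EN hτ ha)
    (by rintro _ ⟨τ, hτ, rfl⟩ a ha; exact sm_mem_AA' EN _ hτ ha)
    (ess_of EM (idealAS 𝒜 mR) (r + 1) d e essM) (ess_of EN (idealAS ℬ mS) (s + 1) d e essN)
    z.1 z.2 hzb
  have hpt : ρ ⊗ₜ[k] τ ∈ GrSeg.segrePiece k 𝒜 ℬ e :=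
    Submodule.subset_span ⟨ρ, hρ, τ, hτ, rfl⟩
  rw [← hT.2 e] at hpt
  obtain ⟨t, ht, hψt⟩ := hpt
  have hψt' : ψ t = ρ ⊗ₜ[k] τ := hψt
  refine ⟨t, ht, fun h0 => hne ?_⟩
  have hz' : TensorProduct.map (sm EM ρ) (sm EN τ) z.1 ∈
      (tens (gdE EM) (gdE EN)).Zn (KK EM EN mR mS (e + d)) (r + s + 1) :=
    map_Zn (tens (gdE EM) (gdE EN)) (TensorProduct.map (sm EM ρ) (sm EN τ))
      (tD_map (gdE EM) (gdE EN) (sm EM ρ) (sm EN τ) (sm_d EM ρ) (sm_σ EM ρ) (sm_d EN τ))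
      (fun i v => tπ_map (gdE EM) (gdE EN) (sm EM ρ) (sm EN τ) (fun j v => sm_π EM ρ j v)
        (fun j v => sm_π EN τ j v) i v)
      (map_sum_mem (sm EM ρ) (sm EN τ) (fun a ha => sm_mem_AA EM hρ ha)
        (fun a ha => sm_mem_AA' EM _ hρ ha) (fun a ha => sm_mem_AA EN hτ ha)
        (fun a ha => sm_mem_AA' EN _ hτ ha)) z.2
  have h1 := hFeq d (e + d) t z ⟨_, hz'⟩ (by
    show TensorProduct.map (sm EM ρ) (sm EN τ) z.1 = GrSeg.act k R S _ _ (ψ t) z.1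
    rw [hψt', act_pure])
  exact (hFker (e + d) ⟨_, hz'⟩).1 (by rw [h1, h0])

end bridge

end Groth.Agent.Lib.SegTopH1
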