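import Mathlib
import Groth.Prelude.Def_GrLC
import Groth.Prelude.Def_GrSeg
import Groth.Prelude.Def_CAlg
import Groth.Agent.Lib.SegTop1_helper1
import Groth.Agent.Lib.SegCM3_helper1
import Groth.Agent.Lib.VerGor4_helper1
import Groth.Agent.Lib.Link2_helper9

/-! The Segre product of two Gorenstein graded rings of dimension at least two with the same
`a`-invariant is Gorenstein as soon as it is Cohen–Macaulay (Goto–Watanabe) (helper1, S18659).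
APPEND-ONLY once landed. -/

set_option autoImplicit false
set_option maxHeartbeats 400000

namespace Groth.Agent.Lib.SegGorH1

open scoped TensorProduct
open DirectSum GrLC Groth.Agent.Lib.GrXferH1 Groth.Agent.Lib.SegKun3H1 Groth.Agent.Lib.SegCMH1
  Groth.Agent.Lib.SegCM2H1 Groth.Agent.Lib.SegCM3H1 Groth.Agent.Lib.SocleH1
  Groth.Agent.Lib.GorTopH1 Groth.Agent.Lib.GorTop2H1 Groth.Agent.Lib.VerGor4H1
  Groth.Agent.Lib.VerGor2H1 Groth.Agent.Lib.GrHDecH1 Groth.Agent.Lib.GrStar3H1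
  Groth.Agent.Lib.GrLES3H1 Groth.Agent.Lib.MinResH1 Groth.Agent.Lib.DVecH1
  Groth.Agent.Lib.SegTopH1 Groth.Agent.Lib.SegreH3

universe u

attribute [local instance] shiftDecomp shift_gsmul

theorem cm_of_gor (R : Type u) [CommRing R] [hG : LocCoh.IsGorensteinRing R] :
    LocCoh.IsCohenMacaulayRing R := by
  haveI : IsNoetherianRing R := inferInstance
  exact
    { isCohenMacaulayLocalRing_localization := fun p hp => by
        haveI := hp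
        haveI : LocCoh.IsGorensteinLocalRing (Localization.AtPrime p) :=
          LocCoh.IsGorensteinRing.isGorensteinLocalRing_localization p
        exact Groth.Agent.Link9.isCMLocalRing_of_gorenstein (Localization.AtPrime p) }

/-! ### the top local cohomology of a Gorenstein graded ring -/

theorem gor_top {R : Type u} [CommRing R] [hG : LocCoh.IsGorensteinRing R]
    (𝒜 : ℤ → AddSubgroup R) [GradedRing 𝒜] (hpos : ∀ n : ℤ, n < 0 → 𝒜 n = ⊥)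
    (h0 : IsField (deg0 𝒜)) (m : HomogeneousIdeal 𝒜) (hm : IsStarLocal 𝒜 m)
    (hmsp : m.toIdeal = Ideal.span (⋃ n ∈ Set.Ioi (0 : ℤ), (𝒜 n : Set R)))
    (n : ℕ) (hn : m.toIdeal.height = n) (I : StarInjRes 𝒜 𝒜) :
    ∃ g : ℤ,
      (∀ (j : ℤ) (x : I.H m n), x ∈ I.Hgr m n j → x ≠ 0 → ∃ ρ ∈ 𝒜 (-(g + j)), ρ • x ≠ 0) ∧
      (∀ j : ℤ, Module.finrank (deg0 𝒜) (I.Hcomp m n j) =
        Module.finrank (deg0 𝒜) (comp 𝒜 𝒜 (-(g + j)))) ∧
      endDeg (I.Hgr m n) = (((-g : ℤ) : WithTop ℤ) : WithBot (WithTop ℤ)) := by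
  haveI : IsNoetherianRing R := inferInstance
  obtain ⟨E', e, he⟩ := exists_hull_quot 𝒜 m
  obtain ⟨g, φ, hφ⟩ := main13244 R 𝒜 m hm n hn I E'.carrier E'.gr e he
  letI := HDecomp 𝒜 𝒜 m I n
  haveI := HGSMul 𝒜 𝒜 m I n
  have hess : ∀ (j : ℤ) (x : I.H m n), x ∈ I.Hgr m n j → x ≠ 0 →
      ∃ ρ ∈ 𝒜 (-(g + j)), ρ • x ≠ 0 := fun j x hx hx0 =>
    ess_H' 𝒜 hpos h0 m hmsp E'.gr e he (I.Hgr m n) g φ hφ j x hx hx0
  have hfin' : ∀ j : ℤ, Module.finrank (deg0 𝒜) (comp 𝒜 (I.Hgr m n) j) =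
      Module.finrank (deg0 𝒜) (comp 𝒜 𝒜 (-(g + j))) := fun j =>
    finrank_H' 𝒜 hpos h0 m hmsp E'.gr e he (I.Hgr m n) g φ hφ j
  have hcomp : ∀ j : ℤ, comp 𝒜 (I.Hgr m n) j = I.Hcomp m n j :=
    fun j => Submodule.ext (fun x => Iff.rfl)
  refine ⟨g, hess, fun j => by rw [← hcomp j]; exact hfin' j, ?_⟩
  have hgt : ∀ j : ℤ, -g < j → I.Hgr m n j = ⊥ := by
    intro j hj
    rw [eq_bot_iff]
    intro z hz
    rw [AddSubgroup.mem_bot]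
    by_contra hz0
    obtain ⟨ρ, hρ, hρz⟩ := hess j z hz hz0
    apply hρz
    rw [coe_eq_zero_of_bot 𝒜 (hpos (-(g + j)) (by omega)) ρ hρ, zero_smul]
  have hne : I.Hgr m n (-g) ≠ ⊥ := by
    intro hbot
    have h1 : comp 𝒜 (I.Hgr m n) (-g) = ⊥ := by
      rw [Submodule.eq_bot_iff]
      intro x hx
      have hx' : x ∈ I.Hgr m n (-g) := hx
      rw [hbot] at hx'
      exact AddSubgroup.mem_bot.1 hx'
    have h2 := hfin' (-g)
    haveI : Nontrivial (deg0 𝒜) := h0.nontrivial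
    rw [h1, finrank_bot, finrank_comp_congr 𝒜 𝒜 (show -(g + -g) = 0 by ring),
      finrank_ring_zero 𝒜 h0] at h2
    exact absurd h2 (by norm_num)
  exact le_antisymm ((Groth.Agent.Lib.GrConvH1.endDeg_le_iff (I.Hgr m n) (-g)).2 hgt)
    (le_iSup₂ (f := fun (k : ℤ) (_ : I.Hgr m n k ≠ ⊥) =>
      ((k : WithTop ℤ) : WithBot (WithTop ℤ))) (-g) hne)

/-! ### the Hilbert function of a Segre product -/
section hilb

variable {k : Type u} [Field k]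
  {R : Type u} [CommRing R] [Algebra k R] {𝒜 : ℤ → Submodule k R} [GradedAlgebra 𝒜]
  {S : Type u} [CommRing S] [Algebra k S] {ℬ : ℤ → Submodule k S} [GradedAlgebra ℬ]
  {T : Type u} [CommRing T] [Algebra k T] {𝒯 : ℤ → Submodule k T} [GradedAlgebra 𝒯]
  {ψ : T →ₐ[k] R ⊗[k] S}

theorem finrank_deg0_eq [Nontrivial R] (h0 : 𝒜 0 = Submodule.span k {(1 : R)}) (n : ℤ) :
    Module.finrank (deg0 (toAS 𝒜)) (comp (toAS 𝒜) (toAS 𝒜) n) = Module.finrank k (𝒜 n) := by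
  have hD : ∀ r : R, r ∈ deg0 (toAS 𝒜) ↔ ∃ c : k, algebraMap k R c = r :=
    fun r => mem_zero_iff h0 r
  let i : k → deg0 (toAS 𝒜) := fun c => ⟨algebraMap k R c, (hD _).2 ⟨c, rfl⟩⟩
  have hi : Function.Bijective i := by
    constructor
    · intro c c' h
      exact (algebraMap k R).injective (congrArg Subtype.val h)
    · rintro ⟨r, hr⟩
      obtain ⟨c, rfl⟩ := (hD r).1 hr
      exact ⟨c, rfl⟩
  let j : ↥(𝒜 n) ≃+ ↥(comp (toAS 𝒜) (toAS 𝒜) n) :=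
    { toFun := fun x => ⟨x.1, x.2⟩
      invFun := fun y => ⟨y.1, y.2⟩
      left_inv := fun _ => rfl
      right_inv := fun _ => rfl
      map_add' := fun _ _ => rfl }
  exact (finrank_semilin i hi j
    (fun c x => Subtype.ext (Algebra.smul_def c (x : R)))).symm

theorem finrank_segre (hT : GrSeg.IsSegreRing 𝒜 ℬ 𝒯 ψ) (n : ℤ) :
    Module.finrank k (𝒯 n) = Module.finrank k (𝒜 n) * Module.finrank k (ℬ n) := by
  have e1 : ↥(𝒯 n) ≃ₗ[k] ↥((𝒯 n).map ψ.toLinearMap) :=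
    Submodule.equivMapOfInjective ψ.toLinearMap hT.1 (𝒯 n)
  have h2 : (𝒯 n).map ψ.toLinearMap = T2 (𝒜 n) (ℬ n) := hT.2 n
  rw [e1.finrank_eq, h2, T2_eq_range, LinearMap.finrank_range_of_inj (mapIncl_injective _ _),
    Module.finrank_tensorProduct]

theorem finrank_T_piece [Nontrivial R] [Nontrivial S] (hT : GrSeg.IsSegreRing 𝒜 ℬ 𝒯 ψ)
    (h0R : 𝒜 0 = Submodule.span k {(1 : R)}) (h0S : ℬ 0 = Submodule.span k {(1 : S)}) (n : ℤ) :
    Module.finrank (deg0 (toAS 𝒯)) (comp (toAS 𝒯) (toAS 𝒯) n) =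
      Module.finrank (deg0 (toAS 𝒜)) (comp (toAS 𝒜) (toAS 𝒜) n) *
        Module.finrank (deg0 (toAS ℬ)) (comp (toAS ℬ) (toAS ℬ) n) := by
  haveI : Nontrivial T := nontrivial_T hT
  rw [finrank_deg0_eq (deg_zero_T hT h0R h0S), finrank_deg0_eq h0R, finrank_deg0_eq h0S,
    finrank_segre hT]

end hilb

/-! ### S18659 -/

theorem main18659 (k : Type u) [Field k] (R : Type u) [CommRing R] [Algebra k R]
    (𝒜 : ℤ → Submodule k R) [GradedAlgebra 𝒜] (hposR : ∀ n : ℤ, n < 0 → 𝒜 n = ⊥)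
    (h0R : 𝒜 0 = Submodule.span k {(1 : R)}) [Algebra.FiniteType k R]
    (S : Type u) [CommRing S] [Algebra k S] (ℬ : ℤ → Submodule k S) [GradedAlgebra ℬ]
    (hposS : ∀ n : ℤ, n < 0 → ℬ n = ⊥) (h0S : ℬ 0 = Submodule.span k {(1 : S)})
    [Algebra.FiniteType k S]
    (T : Type u) [CommRing T] [Algebra k T] (𝒯 : ℤ → Submodule k T) [GradedAlgebra 𝒯]
    (ψ : T →ₐ[k] TensorProduct k R S) (hψ : Function.Injective ψ)
    (hdegT : ∀ n : ℤ, (𝒯 n).map ψ.toLinearMap =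
      Submodule.span k {x : TensorProduct k R S | ∃ a ∈ 𝒜 n, ∃ b ∈ ℬ n, x = a ⊗ₜ[k] b})
    [LocCoh.IsGorensteinRing R] [LocCoh.IsGorensteinRing S]
    (mR : HomogeneousIdeal 𝒜)
    (hmR : mR.toIdeal = Ideal.span (⋃ n ∈ Set.Ioi (0 : ℤ), (𝒜 n : Set R)))
    (I : GrLC.StarInjRes 𝒜 𝒜) (mS : HomogeneousIdeal ℬ)
    (hmS : mS.toIdeal = Ideal.span (⋃ n ∈ Set.Ioi (0 : ℤ), (ℬ n : Set S)))
    (J : GrLC.StarInjRes ℬ ℬ) (r s : ℕ) (hr : ringKrullDim R = r) (hs : ringKrullDim S = s)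
    (h2r : 2 ≤ r) (h2s : 2 ≤ s)
    (haeq : GrLC.endDeg (I.Hgr mR r) = GrLC.endDeg (J.Hgr mS s))
    [LocCoh.IsCohenMacaulayRing T] : LocCoh.IsGorensteinRing T := by
  have hT : GrSeg.IsSegreRing 𝒜 ℬ 𝒯 ψ := ⟨hψ, hdegT⟩
  haveI : Nontrivial R := nontrivial_of_dim r hr
  haveI : Nontrivial S := nontrivial_of_dim s hs
  haveI : IsNoetherianRing R := Algebra.FiniteType.isNoetherianRing k R
  haveI : IsNoetherianRing S := Algebra.FiniteType.isNoetherianRing k S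
  haveI : IsNoetherianRing T := Groth.Agent.Lib.SegreNoeth.main 𝒜 ℬ 𝒯 ψ hT.2 hT.1
  haveI : Nontrivial T := nontrivial_T hT
  haveI hCMR : LocCoh.IsCohenMacaulayRing R := cm_of_gor R
  haveI hCMS : LocCoh.IsCohenMacaulayRing S := cm_of_gor S
  have h0T := deg_zero_T hT h0R h0S
  have hposT := hpos_T hT hposR
  have hfR : IsField (deg0 (toAS 𝒜)) := isField_deg0 h0R
  have hfS : IsField (deg0 (toAS ℬ)) := isField_deg0 h0S
  have hfT : IsField (deg0 (toAS 𝒯)) := isField_deg0 h0T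
  have hstarR : IsStarLocal (toAS 𝒜) (idealAS 𝒜 mR) := isStarLocal_irr hposR h0R mR hmR
  have hstarS : IsStarLocal (toAS ℬ) (idealAS ℬ mS) := isStarLocal_irr hposS h0S mS hmS
  have hstarT : IsStarLocal (toAS 𝒯) (idealAS 𝒯 (irr 𝒯)) :=
    isStarLocal_irr hposT h0T (irr 𝒯) irr_toIdeal
  obtain ⟨r', rfl⟩ : ∃ r', r = r' + 1 + 1 := ⟨r - 2, by omega⟩
  obtain ⟨s', rfl⟩ : ∃ s', s = s' + 1 + 1 := ⟨s - 2, by omega⟩
  have hhtR : (idealAS 𝒜 mR).toIdeal.height = ((r' + 1 + 1 : ℕ) : ℕ∞) := by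
    have h1 := Groth.Agent.Lib.GorCanH1.ringKrullDim_eq_height (toAS 𝒜) (hposAS hposR) hfR _ hstarR
    rw [hr] at h1
    exact (WithBot.coe_injective h1).symm
  have hhtS : (idealAS ℬ mS).toIdeal.height = ((s' + 1 + 1 : ℕ) : ℕ∞) := by
    have h1 := Groth.Agent.Lib.GorCanH1.ringKrullDim_eq_height (toAS ℬ) (hposAS hposS) hfS _ hstarS
    rw [hs] at h1
    exact (WithBot.coe_injective h1).symm
  have hdimT : ringKrullDim T = ((r' + 1 + 1 + (s' + 1 + 1) - 1 : ℕ) : WithBot ℕ∞) :=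
    Groth.Agent.Lib.SegDimH6.main18647 k R 𝒜 hposR h0R S ℬ hposS h0S T 𝒯 ψ hT.1 hT.2 _ _ hr hs
      (by omega) (by omega)
  have hq : r' + 1 + 1 + (s' + 1 + 1) - 1 = r' + 1 + (s' + 1) + 1 := by omega
  rw [hq] at hdimT
  have hhtT : (idealAS 𝒯 (irr 𝒯)).toIdeal.height = ((r' + 1 + (s' + 1) + 1 : ℕ) : ℕ∞) := by
    have h1 := Groth.Agent.Lib.GorCanH1.ringKrullDim_eq_height (toAS 𝒯) (hposAS hposT) hfT _ hstarT
    rw [hdimT] at h1
    exact (WithBot.coe_injective h1).symm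
  obtain ⟨gR, essR, finR, endR⟩ := gor_top (toAS 𝒜) (hposAS hposR) hfR (idealAS 𝒜 mR) hstarR hmR
    (r' + 1 + 1) hhtR (resAS 𝒜 I)
  obtain ⟨gS, essS, finS, endS⟩ := gor_top (toAS ℬ) (hposAS hposS) hfS (idealAS ℬ mS) hstarS hmS
    (s' + 1 + 1) hhtS (resAS ℬ J)
  have hg : gS = gR := by
    have e1 : endDeg ((resAS 𝒜 I).Hgr (idealAS 𝒜 mR) (r' + 1 + 1)) =
        endDeg (I.Hgr mR (r' + 1 + 1)) := rfl
    have e2 : endDeg ((resAS ℬ J).Hgr (idealAS ℬ mS) (s' + 1 + 1)) =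
        endDeg (J.Hgr mS (s' + 1 + 1)) := rfl
    rw [e1, haeq, ← e2, endS] at endR
    have h3 : (-gS : ℤ) = -gR := WithTop.coe_injective (WithBot.coe_injective endR)
    omega
  rw [hg] at essS finS
  haveI : SetLike.GradedSMul 𝒜 (toAS 𝒜) := gsmul_of 𝒜 (toAS 𝒜)
  haveI : SetLike.GradedSMul ℬ (toAS ℬ) := gsmul_of ℬ (toAS ℬ)
  haveI : SetLike.GradedSMul 𝒯 (toAS 𝒯) := gsmul_of 𝒯 (toAS 𝒯)
  have hP : GrSeg.IsSegreMod ψ (toAS 𝒜) (toAS ℬ) (toAS 𝒯) ψ.toLinearMap := by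
    refine ⟨hT.1, fun n => ?_, fun t p => ?_⟩
    · have h : (((𝒯 n).map ψ.toLinearMap : Submodule k (R ⊗[k] S)) : Set (R ⊗[k] S)) = _ :=
        congrArg SetLike.coe (hT.2 n)
      exact h
    · show ψ (t * p) = GrSeg.act k R S R S (ψ t) (ψ p)
      rw [map_mul, act_self]
  obtain ⟨EP, hEP⟩ : ∃ EP : StarInjRes (toAS 𝒯) (toAS 𝒯), EP = minRes (toAS 𝒯) (toAS 𝒯) :=
    ⟨_, rfl⟩
  have vanR : ∀ i : ℕ, i ≠ r' + 1 + 1 → ∀ d : ℤ,
      (resAS 𝒜 I).Hcomp (idealAS 𝒜 mR) i d = ⊥ :=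
    fun i hi d => van_of_cm hposR h0R mR hmR (resAS 𝒜 I) (r' + 1 + 1) hr i hi d
  have vanS : ∀ i : ℕ, i ≠ s' + 1 + 1 → ∀ d : ℤ,
      (resAS ℬ J).Hcomp (idealAS ℬ mS) i d = ⊥ :=
    fun i hi d => van_of_cm hposS h0S mS hmS (resAS ℬ J) (s' + 1 + 1) hs i hi d
  obtain ⟨b, hb⟩ : ∃ b : ℤ, b = -gR := ⟨_, rfl⟩
  letI := HDecomp (toAS 𝒯) (toAS 𝒯) (idealAS 𝒯 (irr 𝒯)) EP (r' + 1 + (s' + 1) + 1)
  haveI := HGSMul (toAS 𝒯) (toAS 𝒯) (idealAS 𝒯 (irr 𝒯)) EP (r' + 1 + (s' + 1) + 1)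
  have h2 : ∀ (j : ℤ) (x : EP.H (idealAS 𝒯 (irr 𝒯)) (r' + 1 + (s' + 1) + 1)),
      x ∈ EP.Hgr (idealAS 𝒯 (irr 𝒯)) (r' + 1 + (s' + 1) + 1) j → x ≠ 0 →
      ∃ t ∈ toAS 𝒯 (b - j), t • x ≠ 0 := by
    intro j x hx hx0
    obtain ⟨t, ht, htx⟩ := top_h2 hT (resAS 𝒜 I) (resAS ℬ J) mR mS (irr 𝒯) hmR hmS irr_toIdeal
      (toAS 𝒯) ψ.toLinearMap hP EP (r := r' + 1) (s := s' + 1) (by omega) (by omega) j
      (-(gR + j))
      (fun i hi x hx => by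
        have h : x ∈ (resAS 𝒜 I).Hcomp (idealAS 𝒜 mR) i j := hx
        rw [vanR i (by omega) j] at h
        exact (Submodule.mem_bot _).1 h)
      (fun i hi x hx => by
        have h : x ∈ (resAS ℬ J).Hcomp (idealAS ℬ mS) i j := hx
        rw [vanS i (by omega) j] at h
        exact (Submodule.mem_bot _).1 h)
      (fun h hh h0 => essR j h hh h0) (fun h hh h0 => essS j h hh h0) x hx hx0
    exact ⟨t, mem_of_eq (toAS 𝒯) (by rw [hb]; ring) ht, htx⟩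
  have h1 : ∀ j : ℤ, Module.finrank (deg0 (toAS 𝒯))
      ↥(comp (toAS 𝒯) (EP.Hgr (idealAS 𝒯 (irr 𝒯)) (r' + 1 + (s' + 1) + 1)) j) =
      Module.finrank (deg0 (toAS 𝒯)) ↥(comp (toAS 𝒯) (toAS 𝒯) (b - j)) := by
    intro j
    have hc : comp (toAS 𝒯) (EP.Hgr (idealAS 𝒯 (irr 𝒯)) (r' + 1 + (s' + 1) + 1)) j =
        EP.Hcomp (idealAS 𝒯 (irr 𝒯)) (r' + 1 + (s' + 1) + 1) j :=
      Submodule.ext (fun x => Iff.rfl)
    have hbj : -(gR + j) = b - j := by rw [hb]; ring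
    have hk := kunneth_AS k R 𝒜 hposR h0R S ℬ hposS h0S T 𝒯 ψ hT mR hmR mS hmS (irr 𝒯)
      irr_toIdeal R (toAS 𝒜) (resAS 𝒜 I) S (toAS ℬ) (resAS ℬ J) T (toAS 𝒯) ψ.toLinearMap hP EP j
      (vanR 0 (by omega) j) (vanS 0 (by omega) j) (r' + 1 + (s' + 1) + 1)
    haveI : Nontrivial (deg0 (toAS 𝒜)) := hfR.nontrivial
    haveI : Nontrivial (deg0 (toAS ℬ)) := hfS.nontrivial
    have hsum : (Finset.range (r' + 1 + (s' + 1) + 1 + 2)).sum (fun i =>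
        Module.finrank (deg0 (toAS 𝒜)) ((resAS 𝒜 I).Hcomp (idealAS 𝒜 mR) i j) *
        Module.finrank (deg0 (toAS ℬ))
          ((resAS ℬ J).Hcomp (idealAS ℬ mS) (r' + 1 + (s' + 1) + 1 + 1 - i) j)) =
        Module.finrank (deg0 (toAS 𝒜)) ((resAS 𝒜 I).Hcomp (idealAS 𝒜 mR) (r' + 1 + 1) j) *
        Module.finrank (deg0 (toAS ℬ)) ((resAS ℬ J).Hcomp (idealAS ℬ mS) (s' + 1 + 1) j) := by
      rw [Finset.sum_eq_single (r' + 1 + 1)]
      · have e : r' + 1 + (s' + 1) + 1 + 1 - (r' + 1 + 1) = s' + 1 + 1 := by omega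
        rw [e]
      · intro i _ hi
        rw [vanR i hi j, finrank_bot, zero_mul]
      · intro h
        exact absurd (Finset.mem_range.2 (by omega)) h
    have zS : Module.finrank (deg0 (toAS ℬ))
        ((resAS ℬ J).Hcomp (idealAS ℬ mS) (r' + 1 + (s' + 1) + 1) j) = 0 := by
      rw [vanS (r' + 1 + (s' + 1) + 1) (by omega) j]
      exact finrank_bot _ _
    have zR : Module.finrank (deg0 (toAS 𝒜))
        ((resAS 𝒜 I).Hcomp (idealAS 𝒜 mR) (r' + 1 + (s' + 1) + 1) j) = 0 := by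
      rw [vanR (r' + 1 + (s' + 1) + 1) (by omega) j]
      exact finrank_bot _ _
    rw [hc, hk, zS, zR, hsum, finR j, finS j, hbj, finrank_T_piece hT h0R h0S]
    simp only [mul_zero, zero_mul, zero_add]
  obtain ⟨ET, eT, heT⟩ := exists_hull_quot (toAS 𝒯) (idealAS 𝒯 (irr 𝒯))
  obtain ⟨θ, hθ⟩ := recognize (toAS 𝒯) (hposAS hposT) hfT (idealAS 𝒯 (irr 𝒯)) irr_toIdeal ET.gr eT
    heT (EP.Hgr (idealAS 𝒯 (irr 𝒯)) (r' + 1 + (s' + 1) + 1)) b h1 h2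
  exact (main18650 T (toAS 𝒯) (idealAS 𝒯 (irr 𝒯)) hstarT (r' + 1 + (s' + 1) + 1) hhtT EP).2
    ⟨GMod.of (toAS 𝒯) ET.carrier (shiftGr ET.gr (-b)), θ,
      shift_starInj (toAS 𝒯) ET.gr heT.starInj (-b), hθ⟩

end Groth.Agent.Lib.SegGorH1
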