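import Mathlib
import Groth.Prelude.Def_GrLC
import Groth.Prelude.Def_GrSeg
import Groth.Agent.Lib.SegTop1_helper1
import Groth.Agent.Lib.DVec6_helper1

/-! The top graded local cohomology of a Segre product `M # N` as a module over the Segre ring:
when the classes of the top local cohomology of `M # N` in a degree are detected by multiplication
by the elements of a degree of the Segre ring, so are the classes of the top local cohomology of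
`M` and `N` (as soon as both are nonzero in that degree) (helper1).
APPEND-ONLY once landed. -/

set_option autoImplicit false

namespace Groth.Agent.Lib.SegTopH1

open scoped TensorProduct
open DirectSum GrLC Groth.Agent.Lib.SegreH3 Groth.Agent.Lib.SegF1H1 Groth.Agent.Lib.SegF2H1
  Groth.Agent.Lib.TCrdH1 Groth.Agent.Lib.DivH1 Groth.Agent.Lib.GrAcycH1
  Groth.Agent.Lib.SegTorsH1 Groth.Agent.Lib.GrXferH1 Groth.Agent.Lib.GrLES1H1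
  Groth.Agent.Lib.GrLES2H1 Groth.Agent.Lib.SegAcycH1 Groth.Agent.Lib.DVecH1
  Groth.Agent.Lib.BigResH1 Groth.Agent.Lib.SegAcyc2H1 Groth.Agent.Lib.SegGamH1
  Groth.Agent.Lib.ARTH1 Groth.Agent.Lib.SegKunH1 Groth.Agent.Lib.SegTotH1

universe u

attribute [local instance] kMod kTower gsmulX

variable {k : Type u} [Field k]
  {R : Type u} [CommRing R] [Algebra k R] {𝒜 : ℤ → Submodule k R} [GradedAlgebra 𝒜]
  {S : Type u} [CommRing S] [Algebra k S] {ℬ : ℤ → Submodule k S} [GradedAlgebra ℬ]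
  {T : Type u} [CommRing T] [Algebra k T] {𝒯 : ℤ → Submodule k T} [GradedAlgebra 𝒯]
  {ψ : T →ₐ[k] R ⊗[k] S}

variable (hT : GrSeg.IsSegreRing 𝒜 ℬ 𝒯 ψ)
  {M : Type u} [AddCommGroup M] [Module R M] {ℳ : ℤ → AddSubgroup M} [Decomposition ℳ]
  [SetLike.GradedSMul 𝒜 ℳ] (EM : StarInjRes (toAS 𝒜) ℳ)
  {N : Type u} [AddCommGroup N] [Module S N] {𝒩 : ℤ → AddSubgroup N} [Decomposition 𝒩]
  [SetLike.GradedSMul ℬ 𝒩] (EN : StarInjRes (toAS ℬ) 𝒩)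

section bridge2

variable [IsNoetherianRing R] [IsNoetherianRing S]
  (mR : HomogeneousIdeal 𝒜) (mS : HomogeneousIdeal ℬ) (mT : HomogeneousIdeal 𝒯)
  (hmR : mR.toIdeal = Ideal.span (⋃ n ∈ Set.Ioi (0 : ℤ), (𝒜 n : Set R)))
  (hmS : mS.toIdeal = Ideal.span (⋃ n ∈ Set.Ioi (0 : ℤ), (ℬ n : Set S)))
  (hmT : mT.toIdeal = Ideal.span (⋃ n ∈ Set.Ioi (0 : ℤ), (𝒯 n : Set T)))

variable [IsNoetherianRing T] [Module k M] [IsScalarTower k R M] [Module k N]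
  [IsScalarTower k S N]
  {P : Type u} [AddCommGroup P] [Module T P] [Module k P] [IsScalarTower k T P]
  (𝒬 : ℤ → AddSubgroup P) [Decomposition 𝒬] [SetLike.GradedSMul 𝒯 𝒬]
  (φ : P →ₗ[k] M ⊗[k] N) (hP : GrSeg.IsSegreMod ψ ℳ 𝒩 𝒬 φ)

include hT hmR hmS hmT hP in
/-- If the nonzero classes of degree `d` of the top graded local cohomology of `M # N` are
detected by multiplication by the elements of degree `e` of the Segre ring, then a nonzero class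
of degree `d` of the top local cohomology of `M` and a nonzero class of degree `d` of the top
local cohomology of `N` are simultaneously detected by multiplication by elements of degree
`e`. -/
theorem top_h2_conv (EP : StarInjRes (toAS 𝒯) 𝒬) {r s : ℕ} (hr : 1 ≤ r) (hs : 1 ≤ s) (d e : ℤ)
    (essT : ∀ ξ ∈ EP.Hgr (idealAS 𝒯 mT) (r + s + 1) d, ξ ≠ 0 → ∃ t ∈ 𝒯 e, t • ξ ≠ 0)
    (x : EM.H (idealAS 𝒜 mR) (r + 1)) (hx : x ∈ EM.Hgr (idealAS 𝒜 mR) (r + 1) d) (hx0 : x ≠ 0)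
    (y : EN.H (idealAS ℬ mS) (s + 1)) (hy : y ∈ EN.Hgr (idealAS ℬ mS) (s + 1) d)
    (hy0 : y ≠ 0) :
    ∃ ρ ∈ 𝒜 e, ∃ τ ∈ ℬ e, ρ • x ≠ 0 ∧ τ • y ≠ 0 := by
  obtain ⟨F, hFmem, -, hFker, hFeq⟩ := exists_bridgeT hT EM EN mR mS mT hmR hmS hmT
    (r + s + 1) 𝒬 φ hP EP
  obtain ⟨z, rfl⟩ := br_surj EM (idealAS 𝒜 mR) (r + 1) d x hx
  obtain ⟨z', rfl⟩ := br_surj EN (idealAS ℬ mS) (s + 1) d y hy
  have hzb : (z : (bigX EM).carrier) ∉
      (gdE EM).Bn (AA' EM (idealAS 𝒜 mR).toIdeal d) (r + 1) :=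
    fun hb => hx0 ((br_ker EM (idealAS 𝒜 mR) (r + 1) d z).2 hb)
  have hz'b : (z' : (bigX EN).carrier) ∉
      (gdE EN).Bn (AA' EN (idealAS ℬ mS).toIdeal d) (s + 1) :=
    fun hb => hy0 ((br_ker EN (idealAS ℬ mS) (s + 1) d z').2 hb)
  have D₁ := kdE EM EN (idealAS 𝒜 mR).toIdeal (idealAS ℬ mS).toIdeal d
  have D₂ := kdE EM EN (idealAS 𝒜 mR).toIdeal (idealAS ℬ mS).toIdeal (e + d)
  obtain ⟨cA⟩ := (gdE EM).exists_contr D₁.hA
  obtain ⟨cB⟩ := (gdE EN).exists_contr D₁.hB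
  have lA := isLift_h D₁.hAA cA r (D₁.exA r)
  have lB := isLift_h D₁.hBB cB s (D₁.exB s)
  have hζZ : Xi (gdE EM) cA.h cB.h (z.1 ⊗ₜ[k] z'.1) ∈
      (tens (gdE EM) (gdE EN)).Zn (KK EM EN mR mS d) (r + s + 1) :=
    D₁.Xi_mem lA lB _ (tmul_mem_T2 z.2 z'.2)
  have hζb : Xi (gdE EM) cA.h cB.h (z.1 ⊗ₜ[k] z'.1) ∉
      (tens (gdE EM) (gdE EN)).Bn (KK EM EN mR mS d) (r + s + 1) :=
    D₁.Xi_pure_notMem hr hs lA lB z.2 hzb z'.2 hz'b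
  have hξ0 : F d ⟨_, hζZ⟩ ≠ 0 := fun h0 => hζb ((hFker d ⟨_, hζZ⟩).1 h0)
  obtain ⟨t, ht, htξ⟩ := essT _ (hFmem d ⟨_, hζZ⟩) hξ0
  by_contra hcon
  have hcon' : ∀ ρ ∈ 𝒜 e, ∀ τ ∈ ℬ e,
      ρ • br EM (idealAS 𝒜 mR) (r + 1) d z = 0 ∨ τ • br EN (idealAS ℬ mS) (s + 1) d z' = 0 := by
    intro ρ hρ τ hτ
    by_contra hn
    rw [not_or] at hn
    exact hcon ⟨ρ, hρ, τ, hτ, hn.1, hn.2⟩
  have hgen : ∀ ρ ∈ 𝒜 e, ∀ τ ∈ ℬ e,
      TensorProduct.map (sm EM ρ) (sm EN τ) (Xi (gdE EM) cA.h cB.h (z.1 ⊗ₜ[k] z'.1)) ∈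
        (tens (gdE EM) (gdE EN)).Bn (KK EM EN mR mS (e + d)) (r + s + 1) := by
    intro ρ hρ τ hτ
    refine Xi_map_bdry D₂ hr hs (sm EM ρ) (sm EN τ) (sm_d EM ρ) (sm_σ EM ρ)
      (fun i v => sm_π EM ρ i v) (fun a ha => sm_mem_AA EM hρ ha)
      (fun a ha => sm_mem_AA' EM _ hρ ha) (sm_d EN τ) (fun i v => sm_π EN τ i v)
      (fun a ha => sm_mem_AA EN hτ ha) (fun a ha => sm_mem_AA' EN _ hτ ha) lA lB z.2 z'.2 ?_
    rcases hcon' ρ hρ τ hτ with h0 | h0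
    · left
      rw [← br_sm EM (idealAS 𝒜 mR) (r + 1) hρ z] at h0
      exact (br_ker EM (idealAS 𝒜 mR) (r + 1) (e + d) _).1 h0
    · right
      rw [← br_sm EN (idealAS ℬ mS) (s + 1) hτ z'] at h0
      exact (br_ker EN (idealAS ℬ mS) (s + 1) (e + d) _).1 h0
  have hle : GrSeg.segrePiece k 𝒜 ℬ e ≤
      ((tens (gdE EM) (gdE EN)).Bn (KK EM EN mR mS (e + d)) (r + s + 1)).comap
        ((GrSeg.act k R S (bigX EM).carrier (bigX EN).carrier).flip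
          (Xi (gdE EM) cA.h cB.h (z.1 ⊗ₜ[k] z'.1))) := by
    refine Submodule.span_le.2 ?_
    rintro _ ⟨ρ, hρ, τ, hτ, rfl⟩
    show (GrSeg.act k R S (bigX EM).carrier (bigX EN).carrier).flip
      (Xi (gdE EM) cA.h cB.h (z.1 ⊗ₜ[k] z'.1)) (ρ ⊗ₜ[k] τ) ∈
        (tens (gdE EM) (gdE EN)).Bn (KK EM EN mR mS (e + d)) (r + s + 1)
    rw [LinearMap.flip_apply, act_pure]
    exact hgen ρ hρ τ hτ
  have hψt : ψ t ∈ GrSeg.segrePiece k 𝒜 ℬ e := by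
    rw [← hT.2 e]
    exact ⟨t, ht, rfl⟩
  have hB : GrSeg.act k R S (bigX EM).carrier (bigX EN).carrier (ψ t)
      (Xi (gdE EM) cA.h cB.h (z.1 ⊗ₜ[k] z'.1)) ∈
      (tens (gdE EM) (gdE EN)).Bn (KK EM EN mR mS (e + d)) (r + s + 1) := hle hψt
  have hZ' : GrSeg.act k R S (bigX EM).carrier (bigX EN).carrier (ψ t)
      (Xi (gdE EM) cA.h cB.h (z.1 ⊗ₜ[k] z'.1)) ∈
      (tens (gdE EM) (gdE EN)).Zn (KK EM EN mR mS (e + d)) (r + s + 1) :=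
    Bn_le_Zn (tens (gdE EM) (gdE EN)) (KK_stable EM EN mR mS (e + d)) (r + s + 1) hB
  have h1 := hFeq d (e + d) t ⟨_, hζZ⟩ ⟨_, hZ'⟩ rfl
  have h2 := (hFker (e + d) ⟨_, hZ'⟩).2 hB
  exact htξ (by rw [← h1]; exact h2)

end bridge2

end Groth.Agent.Lib.SegTopH1
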