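import Mathlib
import Groth.Prelude.Def_GrLC
import Groth.Prelude.Def_GrSeg
import Groth.Prelude.Def_CAlg
import Groth.Agent.Lib.SegGor1_helper1
import Groth.Agent.Lib.SegTop2_helper1
import Groth.Agent.Lib.GrPair_helper1
import Groth.Agent.Lib.SegCM4_helper1

/-! If the Segre product of two standard graded Cohen–Macaulay rings of dimension at least two is
Gorenstein, then both factors are Gorenstein with the same (negative) `a`-invariant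
(Goto–Watanabe) (helper1, S18649). APPEND-ONLY once landed. -/

set_option autoImplicit false
set_option maxHeartbeats 400000

namespace Groth.Agent.Lib.SegGorH1

open scoped TensorProduct
open DirectSum GrLC Groth.Agent.Lib.GrXferH1 Groth.Agent.Lib.SegKun3H1 Groth.Agent.Lib.SegCMH1
  Groth.Agent.Lib.SegCM2H1 Groth.Agent.Lib.SegCM3H1 Groth.Agent.Lib.SocleH1
  Groth.Agent.Lib.GorTopH1 Groth.Agent.Lib.GorTop2H1 Groth.Agent.Lib.VerGor4H1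
  Groth.Agent.Lib.VerGor2H1 Groth.Agent.Lib.GrHDecH1 Groth.Agent.Lib.GrStar3H1
  Groth.Agent.Lib.GrLES3H1 Groth.Agent.Lib.MinResH1 Groth.Agent.Lib.DVecH1
  Groth.Agent.Lib.SegTopH1 Groth.Agent.Lib.SegreH3 Groth.Agent.Lib.GrPairH1
  Groth.Agent.Lib.SegCM4H1

universe u

attribute [local instance] shiftDecomp shift_gsmul

theorem exists_ne_zero_of_finrank_pos {K : Type u} [Ring K] [Nontrivial K] {V : Type u}
    [AddCommGroup V] [Module K V] (P : Submodule K V) (h : 1 ≤ Module.finrank K P) :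
    ∃ x ∈ P, x ≠ 0 := by
  by_contra hcon
  push_neg at hcon
  have e : P = ⊥ := (Submodule.eq_bot_iff P).2 hcon
  have z : Module.finrank K P = 0 := by
    rw [e]
    exact finrank_bot _ _
  omega

/-! ### recognizing a Gorenstein graded ring from the pairings on its top local cohomology -/

theorem gor_of_pairing {R : Type u} [CommRing R] [hCM : LocCoh.IsCohenMacaulayRing R]
    (𝒜 : ℤ → AddSubgroup R) [GradedRing 𝒜] (hpos : ∀ n : ℤ, n < 0 → 𝒜 n = ⊥)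
    (h0 : IsField (deg0 𝒜)) (m : HomogeneousIdeal 𝒜) (hm : IsStarLocal 𝒜 m)
    (hmsp : m.toIdeal = Ideal.span (⋃ n ∈ Set.Ioi (0 : ℤ), (𝒜 n : Set R)))
    (hstd : Ideal.span (⋃ n ∈ Set.Ioi (0 : ℤ), (𝒜 n : Set R)) =
      Ideal.span ((𝒜 1 : AddSubgroup R) : Set R))
    (n : ℕ) (hdim : ringKrullDim R = n) (h2n : 2 ≤ n) (hn : m.toIdeal.height = n)
    (I : StarInjRes 𝒜 𝒜) (c : ℤ)
    (ha : Module.finrank (deg0 𝒜) (I.Hcomp m n c) = 1)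
    (hb : ∀ j : ℤ, j ≤ c → Module.finrank (deg0 𝒜) (I.Hcomp m n j) =
      Module.finrank (deg0 𝒜) (comp 𝒜 𝒜 (c - j)))
    (hc : ∀ j : ℤ, j ≤ c → ∀ x : I.H m n, x ∈ I.Hgr m n j → x ≠ 0 →
      ∃ ρ ∈ 𝒜 (c - j), ρ • x ≠ 0) :
    LocCoh.IsGorensteinRing R ∧
      endDeg (I.Hgr m n) = ((c : WithTop ℤ) : WithBot (WithTop ℤ)) := by
  haveI : IsNoetherianRing R := hCM.toIsNoetherian
  letI := HDecomp 𝒜 𝒜 m I n
  haveI := HGSMul 𝒜 𝒜 m I n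
  haveI : Nontrivial (deg0 𝒜) := h0.nontrivial
  have hcomp : ∀ j : ℤ, comp 𝒜 (I.Hgr m n) j = I.Hcomp m n j :=
    fun j => Submodule.ext (fun x => Iff.rfl)
  have hprime : m.toIdeal.IsPrime := isPrime_of_coatom 𝒜 m hm.1
  have hIeq : m.toIdeal = Ideal.span ((𝒜 1 : AddSubgroup R) : Set R) := hmsp.trans hstd
  have hfinA : ∀ i : ℤ, Module.Finite (deg0 𝒜) ↥(comp 𝒜 𝒜 i) :=
    fun i => Groth.Agent.GrMono9.finite_comp 𝒜 hpos h0 hstd i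
  have hfinX : ∀ j : ℤ, Module.Finite (deg0 𝒜) ↥(I.Hcomp m n j) :=
    fun j => Groth.Agent.Lib.GrLES4H1.main13226 𝒜 hpos m hmsp R 𝒜 I n j
  have h2 : 2 ≤ Module.finrank (deg0 𝒜) ↥(comp 𝒜 𝒜 1) :=
    two_le_finrank_one 𝒜 h0 m.toIdeal hIeq hprime.ne_top (by
      rw [hn]
      exact_mod_cast h2n) (hfinA 1)
  have hkill : ∀ ρ ∈ 𝒜 1, ∀ x ∈ I.Hgr m n c, ρ • x = 0 := by
    refine kill_top 𝒜 (I.Hgr m n) h0 c ?_ ?_ ?_ ?_
    · rw [hcomp]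
      exact ha
    · rw [hcomp]
      exact hfinX (c - 1)
    · rw [hcomp, hb (c - 1) (by omega), finrank_comp_congr 𝒜 𝒜 (show c - (c - 1) = 1 by ring)]
      exact h2
    · intro x hx hx0
      obtain ⟨ρ, hρ, h⟩ := hc (c - 1) (by omega) x hx hx0
      exact ⟨ρ, mem_of_eq 𝒜 (by ring) hρ, h⟩
  have htop := smul_top_H R 𝒜 m n hdim (by omega) I
  have hgt' : ∀ j : ℤ, c + 1 ≤ j → I.Hgr m n j = ⊥ := by
    intro j hj
    induction j, hj using Int.le_induction with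
    | base => exact next_piece_bot' 𝒜 (I.Hgr m n) m.toIdeal hIeq htop c hkill
    | succ j _ ih => exact next_piece_bot 𝒜 (I.Hgr m n) m.toIdeal hIeq htop j ih
  have hgt : ∀ j : ℤ, c < j → I.Hgr m n j = ⊥ := fun j hj => hgt' j (by omega)
  have h1' : ∀ j : ℤ, Module.finrank (deg0 𝒜) ↥(comp 𝒜 (I.Hgr m n) j) =
      Module.finrank (deg0 𝒜) ↥(comp 𝒜 𝒜 (c - j)) := by
    intro j
    rw [hcomp]
    by_cases hj : j ≤ c
    · exact hb j hj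
    · have e1 : I.Hcomp m n j = ⊥ := by
        rw [Submodule.eq_bot_iff]
        intro x hx
        exact coe_eq_zero_of_bot (I.Hgr m n) (hgt j (by omega)) x hx
      have e2 : comp 𝒜 𝒜 (c - j) = ⊥ := by
        rw [Submodule.eq_bot_iff]
        intro x hx
        exact coe_eq_zero_of_bot 𝒜 (hpos (c - j) (by omega)) x hx
      have z1 : Module.finrank (deg0 𝒜) ↥(I.Hcomp m n j) = 0 := by
        rw [e1]
        exact finrank_bot _ _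
      have z2 : Module.finrank (deg0 𝒜) ↥(comp 𝒜 𝒜 (c - j)) = 0 := by
        rw [e2]
        exact finrank_bot _ _
      rw [z1, z2]
  have h2' : ∀ (j : ℤ) (x : I.H m n), x ∈ I.Hgr m n j → x ≠ 0 →
      ∃ ρ ∈ 𝒜 (c - j), ρ • x ≠ 0 := by
    intro j x hx hx0
    by_cases hj : j ≤ c
    · exact hc j hj x hx hx0
    · exact absurd (coe_eq_zero_of_bot (I.Hgr m n) (hgt j (by omega)) x hx) hx0
  obtain ⟨E', e, he⟩ := exists_hull_quot 𝒜 m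
  obtain ⟨θ, hθ⟩ := recognize 𝒜 hpos h0 m hmsp E'.gr e he (I.Hgr m n) c h1' h2'
  refine ⟨(main18650 R 𝒜 m hm n hn I).2 ⟨GMod.of 𝒜 E'.carrier (shiftGr E'.gr (-c)), θ,
    shift_starInj 𝒜 E'.gr he.starInj (-c), hθ⟩, ?_⟩
  have hne : I.Hgr m n c ≠ ⊥ := by
    intro hbot
    have e1 : I.Hcomp m n c = ⊥ := by
      rw [Submodule.eq_bot_iff]
      intro x hx
      exact coe_eq_zero_of_bot (I.Hgr m n) hbot x hx
    have z1 : Module.finrank (deg0 𝒜) ↥(I.Hcomp m n c) = 0 := by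
      rw [e1]
      exact finrank_bot _ _
    rw [ha] at z1
    exact absurd z1 one_ne_zero
  exact le_antisymm ((Groth.Agent.Lib.GrConvH1.endDeg_le_iff (I.Hgr m n) c).2 hgt)
    (le_iSup₂ (f := fun (k : ℤ) (_ : I.Hgr m n k ≠ ⊥) =>
      ((k : WithTop ℤ) : WithBot (WithTop ℤ))) c hne)

/-! ### Segre products -/
section segre

variable {k : Type u} [Field k]
  {R : Type u} [CommRing R] [Algebra k R] {𝒜 : ℤ → Submodule k R} [GradedAlgebra 𝒜]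
  {S : Type u} [CommRing S] [Algebra k S] {ℬ : ℤ → Submodule k S} [GradedAlgebra ℬ]
  {T : Type u} [CommRing T] [Algebra k T] {𝒯 : ℤ → Submodule k T} [GradedAlgebra 𝒯]
  {ψ : T →ₐ[k] R ⊗[k] S}

theorem segreMod_self (hT : GrSeg.IsSegreRing 𝒜 ℬ 𝒯 ψ) :
    GrSeg.IsSegreMod ψ (toAS 𝒜) (toAS ℬ) (toAS 𝒯) ψ.toLinearMap := by
  refine ⟨hT.1, fun n => ?_, fun t p => ?_⟩
  · have h : (((𝒯 n).map ψ.toLinearMap : Submodule k (R ⊗[k] S)) : Set (R ⊗[k] S)) = _ :=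
      congrArg SetLike.coe (hT.2 n)
    exact h
  · show ψ (t * p) = GrSeg.act k R S R S (ψ t) (ψ p)
    rw [map_mul, act_self]

theorem one_le_finrank_piece [Nontrivial R]
    (hpos : ∀ n : ℤ, n < 0 → 𝒜 n = ⊥) (h0 : 𝒜 0 = Submodule.span k {(1 : R)})
    [LocCoh.IsCohenMacaulayRing R]
    (hstd : Ideal.span (⋃ n ∈ Set.Ioi (0 : ℤ), (𝒜 n : Set R)) =
      Ideal.span ((𝒜 1 : Submodule k R) : Set R))
    (h1 : 1 ≤ ringKrullDim R) (n : ℤ) (hn : 0 ≤ n) :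
    1 ≤ Module.finrank (deg0 (toAS 𝒜)) (comp (toAS 𝒜) (toAS 𝒜) n) := by
  have hf : IsField (deg0 (toAS 𝒜)) := isField_deg0 h0
  induction n, hn using Int.le_induction with
  | base => rw [finrank_ring_zero (toAS 𝒜) hf]
  | succ m hm ih =>
    exact ih.trans (Groth.Agent.GrMono9.finrank_mono (toAS 𝒜) (hposAS hpos) hf hstd h1 m)

end segre

/-- the Künneth formula for the top local cohomology of the Segre product of two
Cohen–Macaulay graded rings of dimension at least two -/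
theorem top_count (k : Type u) [Field k] (R : Type u) [CommRing R] [Algebra k R]
    (𝒜 : ℤ → Submodule k R) [GradedAlgebra 𝒜] (hposR : ∀ n : ℤ, n < 0 → 𝒜 n = ⊥)
    (h0R : 𝒜 0 = Submodule.span k {(1 : R)}) [Algebra.FiniteType k R]
    (S : Type u) [CommRing S] [Algebra k S] (ℬ : ℤ → Submodule k S) [GradedAlgebra ℬ]
    (hposS : ∀ n : ℤ, n < 0 → ℬ n = ⊥) (h0S : ℬ 0 = Submodule.span k {(1 : S)})
    [Algebra.FiniteType k S]
    (T : Type u) [CommRing T] [Algebra k T] (𝒯 : ℤ → Submodule k T) [GradedAlgebra 𝒯]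
    (ψ : T →ₐ[k] TensorProduct k R S) (hT : GrSeg.IsSegreRing 𝒜 ℬ 𝒯 ψ)
    [LocCoh.IsCohenMacaulayRing R] [LocCoh.IsCohenMacaulayRing S]
    (mR : HomogeneousIdeal 𝒜)
    (hmR : mR.toIdeal = Ideal.span (⋃ n ∈ Set.Ioi (0 : ℤ), (𝒜 n : Set R)))
    (I : GrLC.StarInjRes 𝒜 𝒜) (mS : HomogeneousIdeal ℬ)
    (hmS : mS.toIdeal = Ideal.span (⋃ n ∈ Set.Ioi (0 : ℤ), (ℬ n : Set S)))
    (J : GrLC.StarInjRes ℬ ℬ) (r' s' : ℕ) (hr : ringKrullDim R = (r' + 1 + 1 : ℕ))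
    (hs : ringKrullDim S = (s' + 1 + 1 : ℕ))
    (EP : StarInjRes (toAS 𝒯) (toAS 𝒯)) (j : ℤ) :
    Module.finrank (deg0 (toAS 𝒯)) (EP.Hcomp (idealAS 𝒯 (irr 𝒯)) (r' + 1 + (s' + 1) + 1) j) =
      Module.finrank (deg0 (toAS 𝒜)) ((resAS 𝒜 I).Hcomp (idealAS 𝒜 mR) (r' + 1 + 1) j) *
      Module.finrank (deg0 (toAS ℬ)) ((resAS ℬ J).Hcomp (idealAS ℬ mS) (s' + 1 + 1) j) := by
  haveI : Nontrivial R := nontrivial_of_dim _ hr
  haveI : Nontrivial S := nontrivial_of_dim _ hs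
  have hfR : IsField (deg0 (toAS 𝒜)) := isField_deg0 h0R
  have hfS : IsField (deg0 (toAS ℬ)) := isField_deg0 h0S
  haveI : SetLike.GradedSMul 𝒜 (toAS 𝒜) := gsmul_of 𝒜 (toAS 𝒜)
  haveI : SetLike.GradedSMul ℬ (toAS ℬ) := gsmul_of ℬ (toAS ℬ)
  haveI : SetLike.GradedSMul 𝒯 (toAS 𝒯) := gsmul_of 𝒯 (toAS 𝒯)
  have hP := segreMod_self hT
  have vanR : ∀ i : ℕ, i ≠ r' + 1 + 1 → ∀ d : ℤ,
      (resAS 𝒜 I).Hcomp (idealAS 𝒜 mR) i d = ⊥ :=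
    fun i hi d => van_of_cm hposR h0R mR hmR (resAS 𝒜 I) (r' + 1 + 1) hr i hi d
  have vanS : ∀ i : ℕ, i ≠ s' + 1 + 1 → ∀ d : ℤ,
      (resAS ℬ J).Hcomp (idealAS ℬ mS) i d = ⊥ :=
    fun i hi d => van_of_cm hposS h0S mS hmS (resAS ℬ J) (s' + 1 + 1) hs i hi d
  have hk := kunneth_AS k R 𝒜 hposR h0R S ℬ hposS h0S T 𝒯 ψ hT mR hmR mS hmS (irr 𝒯)
    irr_toIdeal R (toAS 𝒜) (resAS 𝒜 I) S (toAS ℬ) (resAS ℬ J) T (toAS 𝒯) ψ.toLinearMap hP EP j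
    (vanR 0 (by omega) j) (vanS 0 (by omega) j) (r' + 1 + (s' + 1) + 1)
  haveI : Nontrivial (deg0 (toAS 𝒜)) := hfR.nontrivial
  haveI : Nontrivial (deg0 (toAS ℬ)) := hfS.nontrivial
  have hsum : (Finset.range (r' + 1 + (s' + 1) + 1 + 2)).sum (fun i =>
      Module.finrank (deg0 (toAS 𝒜)) ((resAS 𝒜 I).Hcomp (idealAS 𝒜 mR) i j) *
      Module.finrank (deg0 (toAS ℬ))
        ((resAS ℬ J).Hcomp (idealAS ℬ mS) (r' + 1 + (s' + 1) + 1 + 1 - i) j)) =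
      Module.finrank (deg0 (toAS 𝒜)) ((resAS 𝒜 I).Hcomp (idealAS 𝒜 mR) (r' + 1 + 1) j) *
      Module.finrank (deg0 (toAS ℬ)) ((resAS ℬ J).Hcomp (idealAS ℬ mS) (s' + 1 + 1) j) := by
    rw [Finset.sum_eq_single (r' + 1 + 1)]
    · have e : r' + 1 + (s' + 1) + 1 + 1 - (r' + 1 + 1) = s' + 1 + 1 := by omega
      rw [e]
    · intro i _ hi
      rw [vanR i hi j, finrank_bot, zero_mul]
    · intro h
      exact absurd (Finset.mem_range.2 (by omega)) h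
  have zS : Module.finrank (deg0 (toAS ℬ))
      ((resAS ℬ J).Hcomp (idealAS ℬ mS) (r' + 1 + (s' + 1) + 1) j) = 0 := by
    rw [vanS (r' + 1 + (s' + 1) + 1) (by omega) j]
    exact finrank_bot _ _
  have zR : Module.finrank (deg0 (toAS 𝒜))
      ((resAS 𝒜 I).Hcomp (idealAS 𝒜 mR) (r' + 1 + (s' + 1) + 1) j) = 0 := by
    rw [vanR (r' + 1 + (s' + 1) + 1) (by omega) j]
    exact finrank_bot _ _
  rw [hk, zS, zR, hsum]
  simp only [mul_zero, zero_mul, zero_add]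

/-! ### S18649 -/

theorem main18649 (k : Type u) [Field k] (R : Type u) [CommRing R] [Algebra k R]
    (𝒜 : ℤ → Submodule k R) [GradedAlgebra 𝒜] (hposR : ∀ n : ℤ, n < 0 → 𝒜 n = ⊥)
    (h0R : 𝒜 0 = Submodule.span k {(1 : R)}) [Algebra.FiniteType k R]
    (S : Type u) [CommRing S] [Algebra k S] (ℬ : ℤ → Submodule k S) [GradedAlgebra ℬ]
    (hposS : ∀ n : ℤ, n < 0 → ℬ n = ⊥) (h0S : ℬ 0 = Submodule.span k {(1 : S)})
    [Algebra.FiniteType k S]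
    (T : Type u) [CommRing T] [Algebra k T] (𝒯 : ℤ → Submodule k T) [GradedAlgebra 𝒯]
    (ψ : T →ₐ[k] TensorProduct k R S) (hψ : Function.Injective ψ)
    (hdegT : ∀ n : ℤ, (𝒯 n).map ψ.toLinearMap =
      Submodule.span k {x : TensorProduct k R S | ∃ a ∈ 𝒜 n, ∃ b ∈ ℬ n, x = a ⊗ₜ[k] b})
    [LocCoh.IsCohenMacaulayRing R] [LocCoh.IsCohenMacaulayRing S]
    (mR : HomogeneousIdeal 𝒜)
    (hmR : mR.toIdeal = Ideal.span (⋃ n ∈ Set.Ioi (0 : ℤ), (𝒜 n : Set R)))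
    (hstdR : Ideal.span (⋃ n ∈ Set.Ioi (0 : ℤ), (𝒜 n : Set R)) =
      Ideal.span ((𝒜 1 : Submodule k R) : Set R))
    (I : GrLC.StarInjRes 𝒜 𝒜) (mS : HomogeneousIdeal ℬ)
    (hmS : mS.toIdeal = Ideal.span (⋃ n ∈ Set.Ioi (0 : ℤ), (ℬ n : Set S)))
    (hstdS : Ideal.span (⋃ n ∈ Set.Ioi (0 : ℤ), (ℬ n : Set S)) =
      Ideal.span ((ℬ 1 : Submodule k S) : Set S))
    (J : GrLC.StarInjRes ℬ ℬ) (r s : ℕ) (hr : ringKrullDim R = r) (hs : ringKrullDim S = s)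
    (h2r : 2 ≤ r) (h2s : 2 ≤ s) [LocCoh.IsGorensteinRing T] :
    LocCoh.IsGorensteinRing R ∧ LocCoh.IsGorensteinRing S ∧
      GrLC.endDeg (I.Hgr mR r) = GrLC.endDeg (J.Hgr mS s) ∧ GrLC.endDeg (I.Hgr mR r) < 0 := by
  have hT : GrSeg.IsSegreRing 𝒜 ℬ 𝒯 ψ := ⟨hψ, hdegT⟩
  haveI : Nontrivial R := nontrivial_of_dim r hr
  haveI : Nontrivial S := nontrivial_of_dim s hs
  haveI : IsNoetherianRing R := Algebra.FiniteType.isNoetherianRing k R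
  haveI : IsNoetherianRing S := Algebra.FiniteType.isNoetherianRing k S
  haveI : IsNoetherianRing T := Groth.Agent.Lib.SegreNoeth.main 𝒜 ℬ 𝒯 ψ hT.2 hT.1
  haveI : Nontrivial T := nontrivial_T hT
  have hCMT : LocCoh.IsCohenMacaulayRing T := cm_of_gor T
  have hneg := (main18648 k R 𝒜 hposR h0R S ℬ hposS h0S T 𝒯 ψ hψ hdegT mR hmR hstdR I mS hmS
    hstdS J r s hr hs h2r h2s).1 hCMT
  have h0T := deg_zero_T hT h0R h0S
  have hposT := hpos_T hT hposR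
  have hfR : IsField (deg0 (toAS 𝒜)) := isField_deg0 h0R
  have hfS : IsField (deg0 (toAS ℬ)) := isField_deg0 h0S
  have hfT : IsField (deg0 (toAS 𝒯)) := isField_deg0 h0T
  have hstarR : IsStarLocal (toAS 𝒜) (idealAS 𝒜 mR) := isStarLocal_irr hposR h0R mR hmR
  have hstarS : IsStarLocal (toAS ℬ) (idealAS ℬ mS) := isStarLocal_irr hposS h0S mS hmS
  have hstarT : IsStarLocal (toAS 𝒯) (idealAS 𝒯 (irr 𝒯)) :=
    isStarLocal_irr hposT h0T (irr 𝒯) irr_toIdeal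
  obtain ⟨r', rfl⟩ : ∃ r', r = r' + 1 + 1 := ⟨r - 2, by omega⟩
  obtain ⟨s', rfl⟩ : ∃ s', s = s' + 1 + 1 := ⟨s - 2, by omega⟩
  have hhtR : (idealAS 𝒜 mR).toIdeal.height = ((r' + 1 + 1 : ℕ) : ℕ∞) := by
    have h1 := Groth.Agent.Lib.GorCanH1.ringKrullDim_eq_height (toAS 𝒜) (hposAS hposR) hfR _ hstarR
    rw [hr] at h1
    exact (WithBot.coe_injective h1).symm
  have hhtS : (idealAS ℬ mS).toIdeal.height = ((s' + 1 + 1 : ℕ) : ℕ∞) := by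
    have h1 := Groth.Agent.Lib.GorCanH1.ringKrullDim_eq_height (toAS ℬ) (hposAS hposS) hfS _ hstarS
    rw [hs] at h1
    exact (WithBot.coe_injective h1).symm
  have hdimT : ringKrullDim T = ((r' + 1 + 1 + (s' + 1 + 1) - 1 : ℕ) : WithBot ℕ∞) :=
    Groth.Agent.Lib.SegDimH6.main18647 k R 𝒜 hposR h0R S ℬ hposS h0S T 𝒯 ψ hT.1 hT.2 _ _ hr hs
      (by omega) (by omega)
  have hq : r' + 1 + 1 + (s' + 1 + 1) - 1 = r' + 1 + (s' + 1) + 1 := by omega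
  rw [hq] at hdimT
  have hhtT : (idealAS 𝒯 (irr 𝒯)).toIdeal.height = ((r' + 1 + (s' + 1) + 1 : ℕ) : ℕ∞) := by
    have h1 := Groth.Agent.Lib.GorCanH1.ringKrullDim_eq_height (toAS 𝒯) (hposAS hposT) hfT _ hstarT
    rw [hdimT] at h1
    exact (WithBot.coe_injective h1).symm
  obtain ⟨EP, hEP⟩ : ∃ EP : StarInjRes (toAS 𝒯) (toAS 𝒯), EP = minRes (toAS 𝒯) (toAS 𝒯) :=
    ⟨_, rfl⟩
  obtain ⟨gT, essT, finT, -⟩ := gor_top (toAS 𝒯) (hposAS hposT) hfT (idealAS 𝒯 (irr 𝒯)) hstarT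
    irr_toIdeal (r' + 1 + (s' + 1) + 1) hhtT EP
  haveI : SetLike.GradedSMul 𝒜 (toAS 𝒜) := gsmul_of 𝒜 (toAS 𝒜)
  haveI : SetLike.GradedSMul ℬ (toAS ℬ) := gsmul_of ℬ (toAS ℬ)
  haveI : SetLike.GradedSMul 𝒯 (toAS 𝒯) := gsmul_of 𝒯 (toAS 𝒯)
  have hP := segreMod_self hT
  haveI : Nontrivial (deg0 (toAS 𝒜)) := hfR.nontrivial
  haveI : Nontrivial (deg0 (toAS ℬ)) := hfS.nontrivial
  obtain ⟨c, hc⟩ : ∃ c : ℤ, c = -gT := ⟨_, rfl⟩
  have hcj : ∀ j : ℤ, -(gT + j) = c - j := fun j => by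
    rw [hc]
    ring
  obtain ⟨a, ha⟩ : ∃ a : ℤ → ℕ, ∀ j, a j = Module.finrank (deg0 (toAS 𝒜))
      ((resAS 𝒜 I).Hcomp (idealAS 𝒜 mR) (r' + 1 + 1) j) := ⟨_, fun _ => rfl⟩
  obtain ⟨b, hb⟩ : ∃ b : ℤ → ℕ, ∀ j, b j = Module.finrank (deg0 (toAS ℬ))
      ((resAS ℬ J).Hcomp (idealAS ℬ mS) (s' + 1 + 1) j) := ⟨_, fun _ => rfl⟩
  obtain ⟨A, hA⟩ : ∃ A : ℤ → ℕ, ∀ n, A n = Module.finrank (deg0 (toAS 𝒜))
      (comp (toAS 𝒜) (toAS 𝒜) n) := ⟨_, fun _ => rfl⟩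
  obtain ⟨B, hB⟩ : ∃ B : ℤ → ℕ, ∀ n, B n = Module.finrank (deg0 (toAS ℬ))
      (comp (toAS ℬ) (toAS ℬ) n) := ⟨_, fun _ => rfl⟩
  have hprod : ∀ j : ℤ, a j * b j = A (c - j) * B (c - j) := by
    intro j
    rw [ha, hb, hA, hB, ← top_count k R 𝒜 hposR h0R S ℬ hposS h0S T 𝒯 ψ hT mR hmR I mS hmS J
      r' s' hr hs EP j, finT j, hcj j, finrank_T_piece hT h0R h0S]
  have hA0 : A 0 = 1 := by
    rw [hA]
    exact finrank_ring_zero (toAS 𝒜) hfR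
  have hB0 : B 0 = 1 := by
    rw [hB]
    exact finrank_ring_zero (toAS ℬ) hfS
  have h1R : 1 ≤ ringKrullDim R := by
    rw [hr]
    exact_mod_cast (by omega : 1 ≤ r' + 1 + 1)
  have h1S : 1 ≤ ringKrullDim S := by
    rw [hs]
    exact_mod_cast (by omega : 1 ≤ s' + 1 + 1)
  have hApos : ∀ n : ℤ, 0 ≤ n → 0 < A n := fun n hn => by
    rw [hA]
    exact one_le_finrank_piece hposR h0R hstdR h1R n hn
  have hBpos : ∀ n : ℤ, 0 ≤ n → 0 < B n := fun n hn => by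
    rw [hB]
    exact one_le_finrank_piece hposS h0S hstdS h1S n hn
  have hac : a c = 1 ∧ b c = 1 := by
    have h := hprod c
    rw [sub_self, hA0, hB0, mul_one] at h
    exact mul_eq_one.mp h
  have hapos : ∀ j : ℤ, j ≤ c → 1 ≤ a j ∧ 1 ≤ b j := by
    intro j hj
    have h := hprod j
    have h3 : 0 < a j * b j := by
      rw [h]
      exact Nat.mul_pos (hApos (c - j) (by omega)) (hBpos (c - j) (by omega))
    constructor
    · by_contra hh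
      have h4 : a j = 0 := by omega
      rw [h4, zero_mul] at h3
      exact absurd h3 (lt_irrefl 0)
    · by_contra hh
      have h4 : b j = 0 := by omega
      rw [h4, mul_zero] at h3
      exact absurd h3 (lt_irrefl 0)
  have essRS : ∀ j : ℤ, j ≤ c →
      ∀ x : (resAS 𝒜 I).H (idealAS 𝒜 mR) (r' + 1 + 1),
      x ∈ (resAS 𝒜 I).Hgr (idealAS 𝒜 mR) (r' + 1 + 1) j → x ≠ 0 →
      ∀ y : (resAS ℬ J).H (idealAS ℬ mS) (s' + 1 + 1),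
      y ∈ (resAS ℬ J).Hgr (idealAS ℬ mS) (s' + 1 + 1) j → y ≠ 0 →
      ∃ ρ ∈ toAS 𝒜 (c - j), ∃ τ ∈ toAS ℬ (c - j), ρ • x ≠ 0 ∧ τ • y ≠ 0 := by
    intro j _ x hx hx0 y hy hy0
    obtain ⟨ρ, hρ, τ, hτ, h1, h2⟩ := top_h2_conv hT (resAS 𝒜 I) (resAS ℬ J) mR mS (irr 𝒯) hmR
      hmS irr_toIdeal (toAS 𝒯) ψ.toLinearMap hP EP (r := r' + 1) (s := s' + 1) (by omega)
      (by omega) j (-(gT + j)) (fun ξ hξ hξ0 => essT j ξ hξ hξ0) x hx hx0 y hy hy0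
    exact ⟨ρ, mem_of_eq (toAS 𝒜) (hcj j) hρ, τ, mem_of_eq (toAS ℬ) (hcj j) hτ, h1, h2⟩
  have essR : ∀ j : ℤ, j ≤ c → ∀ x : (resAS 𝒜 I).H (idealAS 𝒜 mR) (r' + 1 + 1),
      x ∈ (resAS 𝒜 I).Hgr (idealAS 𝒜 mR) (r' + 1 + 1) j → x ≠ 0 →
      ∃ ρ ∈ toAS 𝒜 (c - j), ρ • x ≠ 0 := by
    intro j hj x hx hx0
    obtain ⟨y, hy, hy0⟩ := exists_ne_zero_of_finrank_pos
      ((resAS ℬ J).Hcomp (idealAS ℬ mS) (s' + 1 + 1) j) (by
        rw [← hb]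
        exact (hapos j hj).2)
    obtain ⟨ρ, hρ, -, -, h1, -⟩ := essRS j hj x hx hx0 y hy hy0
    exact ⟨ρ, hρ, h1⟩
  have essS : ∀ j : ℤ, j ≤ c → ∀ y : (resAS ℬ J).H (idealAS ℬ mS) (s' + 1 + 1),
      y ∈ (resAS ℬ J).Hgr (idealAS ℬ mS) (s' + 1 + 1) j → y ≠ 0 →
      ∃ τ ∈ toAS ℬ (c - j), τ • y ≠ 0 := by
    intro j hj y hy hy0
    obtain ⟨x, hx, hx0⟩ := exists_ne_zero_of_finrank_pos
      ((resAS 𝒜 I).Hcomp (idealAS 𝒜 mR) (r' + 1 + 1) j) (by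
        rw [← ha]
        exact (hapos j hj).1)
    obtain ⟨-, -, τ, hτ, -, h2⟩ := essRS j hj x hx hx0 y hy hy0
    exact ⟨τ, hτ, h2⟩
  have finXR : ∀ j : ℤ, Module.Finite (deg0 (toAS 𝒜))
      ↥((resAS 𝒜 I).Hcomp (idealAS 𝒜 mR) (r' + 1 + 1) j) := fun j =>
    Groth.Agent.Lib.GrLES4H1.main13226 (toAS 𝒜) (hposAS hposR) (idealAS 𝒜 mR) hmR R (toAS 𝒜)
      (resAS 𝒜 I) (r' + 1 + 1) j
  have finXS : ∀ j : ℤ, Module.Finite (deg0 (toAS ℬ))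
      ↥((resAS ℬ J).Hcomp (idealAS ℬ mS) (s' + 1 + 1) j) := fun j =>
    Groth.Agent.Lib.GrLES4H1.main13226 (toAS ℬ) (hposAS hposS) (idealAS ℬ mS) hmS S (toAS ℬ)
      (resAS ℬ J) (s' + 1 + 1) j
  have finAR : ∀ i : ℤ, Module.Finite (deg0 (toAS 𝒜)) ↥(comp (toAS 𝒜) (toAS 𝒜) i) :=
    fun i => Groth.Agent.GrMono9.finite_comp (toAS 𝒜) (hposAS hposR) hfR hstdR i
  have finAS : ∀ i : ℤ, Module.Finite (deg0 (toAS ℬ)) ↥(comp (toAS ℬ) (toAS ℬ) i) :=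
    fun i => Groth.Agent.GrMono9.finite_comp (toAS ℬ) (hposAS hposS) hfS hstdS i
  haveI := HGSMul (toAS 𝒜) (toAS 𝒜) (idealAS 𝒜 mR) (resAS 𝒜 I) (r' + 1 + 1)
  haveI := HGSMul (toAS ℬ) (toAS ℬ) (idealAS ℬ mS) (resAS ℬ J) (s' + 1 + 1)
  have hcompR : ∀ j : ℤ, comp (toAS 𝒜) ((resAS 𝒜 I).Hgr (idealAS 𝒜 mR) (r' + 1 + 1)) j =
      (resAS 𝒜 I).Hcomp (idealAS 𝒜 mR) (r' + 1 + 1) j :=
    fun j => Submodule.ext (fun x => Iff.rfl)
  have hcompS : ∀ j : ℤ, comp (toAS ℬ) ((resAS ℬ J).Hgr (idealAS ℬ mS) (s' + 1 + 1)) j =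
      (resAS ℬ J).Hcomp (idealAS ℬ mS) (s' + 1 + 1) j :=
    fun j => Submodule.ext (fun x => Iff.rfl)
  have hleR : ∀ j : ℤ, j ≤ c → a j ≤ A (c - j) := by
    intro j hj
    have h := finrank_le_of_ess (toAS 𝒜) ((resAS 𝒜 I).Hgr (idealAS 𝒜 mR) (r' + 1 + 1)) hfR
      (show (c - j) + j = c by ring) (finAR (c - j)) (by
        rw [hcompR c]
        exact finXR c) (fun x hx hx0 => essR j hj x hx hx0)
    rw [hcompR j, hcompR c, ← ha j, ← ha c, ← hA, hac.1, mul_one] at h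
    exact h
  have hleS : ∀ j : ℤ, j ≤ c → b j ≤ B (c - j) := by
    intro j hj
    have h := finrank_le_of_ess (toAS ℬ) ((resAS ℬ J).Hgr (idealAS ℬ mS) (s' + 1 + 1)) hfS
      (show (c - j) + j = c by ring) (finAS (c - j)) (by
        rw [hcompS c]
        exact finXS c) (fun y hy hy0 => essS j hj y hy hy0)
    rw [hcompS j, hcompS c, ← hb j, ← hb c, ← hB, hac.2, mul_one] at h
    exact h
  have heq : ∀ j : ℤ, j ≤ c → a j = A (c - j) ∧ b j = B (c - j) := fun j hj =>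
    nat_prod (hleR j hj) (hleS j hj) (hprod j) (hApos (c - j) (by omega))
      (hBpos (c - j) (by omega))
  obtain ⟨gorR, endR⟩ := gor_of_pairing (toAS 𝒜) (hposAS hposR) hfR (idealAS 𝒜 mR) hstarR hmR
    hstdR (r' + 1 + 1) hr (by omega) hhtR (resAS 𝒜 I) c (by
      rw [← ha]
      exact hac.1) (fun j hj => by
      rw [← ha, ← hA]
      exact (heq j hj).1) essR
  obtain ⟨gorS, endS⟩ := gor_of_pairing (toAS ℬ) (hposAS hposS) hfS (idealAS ℬ mS) hstarS hmS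
    hstdS (s' + 1 + 1) hs (by omega) hhtS (resAS ℬ J) c (by
      rw [← hb]
      exact hac.2) (fun j hj => by
      rw [← hb, ← hB]
      exact (heq j hj).2) essS
  have e1 : endDeg ((resAS 𝒜 I).Hgr (idealAS 𝒜 mR) (r' + 1 + 1)) =
      endDeg (I.Hgr mR (r' + 1 + 1)) := rfl
  have e2 : endDeg ((resAS ℬ J).Hgr (idealAS ℬ mS) (s' + 1 + 1)) =
      endDeg (J.Hgr mS (s' + 1 + 1)) := rfl
  refine ⟨gorR, gorS, ?_, hneg.1⟩
  rw [← e1, endR, ← e2, endS]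

end Groth.Agent.Lib.SegGorH1
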