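import Mathlib
import Groth.Prelude.Def_GrLC
import Groth.Prelude.Def_GrSeg
import Groth.Agent.Lib.SegTop1_helper1
import Groth.Agent.Lib.DVec7_helper1
import Groth.Agent.Lib.SegCM2_helper1

/-! The Künneth formula for the top graded local cohomology of a Segre product `M # N`, without
any depth hypothesis: `H^{r+s-1}(M # N)_d = H^r(M)_d ⊗ H^s(N)_d` as soon as the local cohomology
of `M` vanishes above `r ≥ 2` and the one of `N` above `s ≥ 2` (helper1).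
APPEND-ONLY once landed. -/

set_option autoImplicit false

namespace Groth.Agent.Lib.SegTopH1

open scoped TensorProduct
open DirectSum GrLC Groth.Agent.Lib.SegreH3 Groth.Agent.Lib.SegF1H1 Groth.Agent.Lib.SegF2H1
  Groth.Agent.Lib.TCrdH1 Groth.Agent.Lib.DivH1 Groth.Agent.Lib.GrAcycH1
  Groth.Agent.Lib.SegTorsH1 Groth.Agent.Lib.GrXferH1 Groth.Agent.Lib.GrLES1H1
  Groth.Agent.Lib.GrLES2H1 Groth.Agent.Lib.SegAcycH1 Groth.Agent.Lib.DVecH1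
  Groth.Agent.Lib.BigResH1 Groth.Agent.Lib.SegAcyc2H1 Groth.Agent.Lib.SegGamH1
  Groth.Agent.Lib.ARTH1 Groth.Agent.Lib.SegKunH1 Groth.Agent.Lib.SegTotH1
  Groth.Agent.Lib.GrTens3H1 Groth.Agent.Lib.SegKun3H1 Groth.Agent.Lib.SegCMH1

universe u

attribute [local instance] kMod kTower gsmulX

section count

variable {k : Type u} [Field k]
  {R : Type u} [CommRing R] [Algebra k R] {𝒜 : ℤ → Submodule k R} [GradedAlgebra 𝒜]
  {S : Type u} [CommRing S] [Algebra k S] {ℬ : ℤ → Submodule k S} [GradedAlgebra ℬ]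
  {M : Type u} [AddCommGroup M] [Module R M] {ℳ : ℤ → AddSubgroup M} [Decomposition ℳ]
  [SetLike.GradedSMul 𝒜 ℳ] (EM : StarInjRes (toAS 𝒜) ℳ)
  {N : Type u} [AddCommGroup N] [Module S N] {𝒩 : ℤ → AddSubgroup N} [Decomposition 𝒩]
  [SetLike.GradedSMul ℬ 𝒩] (EN : StarInjRes (toAS ℬ) 𝒩)

theorem top_count_of_transfers (a : Ideal R) (b : Ideal S) (d : ℤ) {r s : ℕ} (hr : 1 ≤ r)
    (hs : 1 ≤ s)
    (vA : ∀ i, r + 1 < i → (gdE EM).Zn (AA' EM a d) i ≤ (gdE EM).Bn (AA' EM a d) i)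
    (vB : ∀ j, s + 1 < j → (gdE EN).Zn (AA' EN b d) j ≤ (gdE EN).Bn (AA' EN b d) j)
    (nA : ℕ)
    (hnA : ∀ ℋ : Submodule k (bigX EM).carrier, (gdE EM).Rep (AA' EM a d) (r + 1) ℋ →
      Module.finrank k ↥ℋ = nA)
    (nB : ℕ)
    (hnB : ∀ ℋ : Submodule k (bigX EN).carrier, (gdE EN).Rep (AA' EN b d) (s + 1) ℋ →
      Module.finrank k ↥ℋ = nB)
    (nK : ℕ)
    (hnK : ∀ ℋ : Submodule k ((bigX EM).carrier ⊗[k] (bigX EN).carrier),
      (tens (gdE EM) (gdE EN)).Rep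
        (T2 (AA' EM a d) (AA EN d) ⊔ T2 (AA EM d) (AA' EN b d)) (r + s + 1) ℋ →
      Module.finrank k ↥ℋ = nK) :
    nK = nA * nB := by
  have D := kdE EM EN a b d
  obtain ⟨cA⟩ := (gdE EM).exists_contr D.hA
  obtain ⟨cB⟩ := (gdE EN).exists_contr D.hB
  obtain ⟨cA'⟩ := (gdE EM).exists_contr D.hA'
  obtain ⟨cB'⟩ := (gdE EN).exists_contr D.hB'
  have lA := isLift_h D.hAA cA r (D.exA r)
  have lB := isLift_h D.hBB cB s (D.exB s)
  obtain ⟨hrep, hfr⟩ := D.top_rep hr hs vA vB lA lB (cA'.rep (r + 1)) (cB'.rep (s + 1))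
  rw [← hnK _ hrep, hfr, hnA _ (cA'.rep (r + 1)), hnB _ (cB'.rep (s + 1))]

end count

/-- the Künneth formula in the top degree, without depth hypotheses -/
theorem top_count_gen (k : Type u) [Field k] (R : Type u) [CommRing R] [Nontrivial R]
    [Algebra k R]
    (𝒜 : ℤ → Submodule k R) [GradedAlgebra 𝒜] (hposR : ∀ n : ℤ, n < 0 → 𝒜 n = ⊥)
    (h0R : 𝒜 0 = Submodule.span k {(1 : R)}) [Algebra.FiniteType k R]
    (S : Type u) [CommRing S] [Nontrivial S] [Algebra k S] (ℬ : ℤ → Submodule k S)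
    [GradedAlgebra ℬ] (hposS : ∀ n : ℤ, n < 0 → ℬ n = ⊥)
    (h0S : ℬ 0 = Submodule.span k {(1 : S)}) [Algebra.FiniteType k S]
    (T : Type u) [CommRing T] [Algebra k T] (𝒯 : ℤ → Submodule k T) [GradedAlgebra 𝒯]
    (ψ : T →ₐ[k] TensorProduct k R S) (hT : GrSeg.IsSegreRing 𝒜 ℬ 𝒯 ψ)
    (mR : HomogeneousIdeal 𝒜)
    (hmR : mR.toIdeal = Ideal.span (⋃ n ∈ Set.Ioi (0 : ℤ), (𝒜 n : Set R)))
    (mS : HomogeneousIdeal ℬ)
    (hmS : mS.toIdeal = Ideal.span (⋃ n ∈ Set.Ioi (0 : ℤ), (ℬ n : Set S)))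
    (mT : HomogeneousIdeal 𝒯)
    (hmT : mT.toIdeal = Ideal.span (⋃ n ∈ Set.Ioi (0 : ℤ), (𝒯 n : Set T)))
    (M : Type u) [AddCommGroup M] [Module R M] [Module k M] [IsScalarTower k R M]
    (ℳ : ℤ → AddSubgroup M) [DirectSum.Decomposition ℳ] [SetLike.GradedSMul 𝒜 ℳ]
    [Module.Finite R M] (EM : GrLC.StarInjRes (toAS 𝒜) ℳ)
    (N : Type u) [AddCommGroup N] [Module S N] [Module k N] [IsScalarTower k S N]
    (𝒩 : ℤ → AddSubgroup N) [DirectSum.Decomposition 𝒩] [SetLike.GradedSMul ℬ 𝒩]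
    [Module.Finite S N] (EN : GrLC.StarInjRes (toAS ℬ) 𝒩)
    (P : Type u) [AddCommGroup P] [Module T P] [Module k P] [IsScalarTower k T P]
    (𝒬 : ℤ → AddSubgroup P) [DirectSum.Decomposition 𝒬] [SetLike.GradedSMul 𝒯 𝒬]
    (φ : P →ₗ[k] TensorProduct k M N) (hP : GrSeg.IsSegreMod ψ ℳ 𝒩 𝒬 φ)
    (EP : GrLC.StarInjRes (toAS 𝒯) 𝒬) (d : ℤ) {r s : ℕ} (hr : 1 ≤ r) (hs : 1 ≤ s)
    (vM : ∀ i, r + 1 < i → ∀ x ∈ EM.Hgr (idealAS 𝒜 mR) i d, x = 0)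
    (vN : ∀ j, s + 1 < j → ∀ x ∈ EN.Hgr (idealAS ℬ mS) j d, x = 0) :
    Module.finrank (deg0 (toAS 𝒯)) (EP.Hcomp (idealAS 𝒯 mT) (r + s + 1) d) =
      Module.finrank (deg0 (toAS 𝒜)) (EM.Hcomp (idealAS 𝒜 mR) (r + 1) d) *
        Module.finrank (deg0 (toAS ℬ)) (EN.Hcomp (idealAS ℬ mS) (s + 1) d) := by
  haveI : IsNoetherianRing R := Algebra.FiniteType.isNoetherianRing k R
  haveI : IsNoetherianRing S := Algebra.FiniteType.isNoetherianRing k S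
  haveI : IsNoetherianRing T := Groth.Agent.Lib.SegreNoeth.main 𝒜 ℬ 𝒯 ψ hT.2 hT.1
  haveI : Nontrivial T := nontrivial_T hT
  have h0T := deg_zero_T hT h0R h0S
  have hDT : ∀ r : T, r ∈ deg0 (toAS 𝒯) ↔ ∃ c : k, algebraMap k T c = r :=
    fun r => mem_zero_iff h0T r
  refine top_count_of_transfers EM EN (idealAS 𝒜 mR).toIdeal (idealAS ℬ mS).toIdeal d hr hs
    (fun i hi => van_of EM (idealAS 𝒜 mR) i d (vM i hi))
    (fun j hj => van_of EN (idealAS ℬ mS) j d (vN j hj))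
    (Module.finrank (deg0 (toAS 𝒜)) (EM.Hcomp (idealAS 𝒜 mR) (r + 1) d))
    (fun ℋ h => (transfer_H hposR h0R (idealAS 𝒜 mR) hmR EM d (deg0 (toAS 𝒜))
      (fun r => Iff.rfl) (r + 1) (EM.Hcomp (idealAS 𝒜 mR) (r + 1) d) (fun x => Iff.rfl) ℋ h).1)
    (Module.finrank (deg0 (toAS ℬ)) (EN.Hcomp (idealAS ℬ mS) (s + 1) d))
    (fun ℋ h => (transfer_H hposS h0S (idealAS ℬ mS) hmS EN d (deg0 (toAS ℬ))
      (fun r => Iff.rfl) (s + 1) (EN.Hcomp (idealAS ℬ mS) (s + 1) d) (fun x => Iff.rfl) ℋ h).1)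
    (Module.finrank (deg0 (toAS 𝒯)) (EP.Hcomp (idealAS 𝒯 mT) (r + s + 1) d)) ?_
  intro ℋ hℋ
  obtain ⟨F, hsm, hmem, hsurj, hker⟩ := exists_bridge hT EM EN mR mS
    mT hmR hmS hmT (r + s + 1) 𝒬 φ hP EP d
  exact (rep_transfer_sub (deg0 (toAS 𝒯)) hDT (tens _ _) hℋ
    (EP.Hcomp (idealAS 𝒯 mT) (r + s + 1) d) F hsm hmem hsurj hker).1

end Groth.Agent.Lib.SegTopH1
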