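import Mathlib
import Groth.Prelude.Def_GrLC
import Groth.Prelude.Def_GrSeg
import Groth.Prelude.Def_CAlg
import Groth.Agent.Lib.SegGor2_helper1
import Groth.Agent.Lib.SegTop3_helper1
import Groth.Agent.Lib.CanDual_helper1

/-! The Hilbert function of the *canonical module of a Segre product `R # S` of graded rings of
dimension at least two is the product of the Hilbert functions of the *canonical modules of `R` and
`S` (Goto–Watanabe, `K_T = K_R # K_S`, degree by degree) (helper1, S18674).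
APPEND-ONLY once landed. -/

set_option autoImplicit false
set_option maxHeartbeats 400000

namespace Groth.Agent.Lib.SegCanH1

open scoped TensorProduct
open DirectSum GrLC Groth.Agent.Lib.GrXferH1 Groth.Agent.Lib.SegKun3H1 Groth.Agent.Lib.SegCMH1
  Groth.Agent.Lib.SegCM2H1 Groth.Agent.Lib.SegCM3H1 Groth.Agent.Lib.SocleH1
  Groth.Agent.Lib.GorTopH1 Groth.Agent.Lib.GorTop2H1 Groth.Agent.Lib.GrHDecH1
  Groth.Agent.Lib.SegTopH1 Groth.Agent.Lib.SegreH3 Groth.Agent.Lib.SegGorH1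
  Groth.Agent.Lib.CanDualH1

universe u

/-- graded duality for a *canonical module of a graded ring over a field, numerically -/
theorem finrank_canon_AS {k : Type u} [Field k] {R : Type u} [CommRing R] [Nontrivial R]
    [Algebra k R] [IsNoetherianRing R]
    (𝒜 : ℤ → Submodule k R) [GradedAlgebra 𝒜] (hpos : ∀ n : ℤ, n < 0 → 𝒜 n = ⊥)
    (h0 : 𝒜 0 = Submodule.span k {(1 : R)}) (m : HomogeneousIdeal 𝒜)
    (hm : m.toIdeal = Ideal.span (⋃ n ∈ Set.Ioi (0 : ℤ), (𝒜 n : Set R)))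
    (I : GrLC.StarInjRes 𝒜 𝒜) (r : ℕ)
    (E : Type u) [AddCommGroup E] [Module R E] (𝓔 : ℤ → AddSubgroup E)
    [DirectSum.Decomposition 𝓔] [SetLike.GradedSMul 𝒜 𝓔] (e : (R ⧸ m.toIdeal) →ₗ[R] E)
    (he : GrLC.IsStarInjHull 𝒜 (GrLC.quotGr 𝒜 m) 𝓔 e)
    (C : Type u) [AddCommGroup C] [Module R C] (𝒞 : ℤ → AddSubgroup C)
    [DirectSum.Decomposition 𝒞] [SetLike.GradedSMul 𝒜 𝒞]
    (hC : GrLC.IsStarCanonical 𝒜 𝒞 𝓔 m r I) (n : ℤ) :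
    Module.finrank (deg0 (toAS 𝒜)) (comp (toAS 𝒜) 𝒞 n) =
      Module.finrank (deg0 (toAS 𝒜)) ((resAS 𝒜 I).Hcomp (idealAS 𝒜 m) r (-n)) := by
  have hf : IsField (deg0 (toAS 𝒜)) := isField_deg0 h0
  have hstar : IsStarLocal (toAS 𝒜) (idealAS 𝒜 m) := isStarLocal_irr hpos h0 m hm
  obtain ⟨hfin, φC, hφC⟩ := canonical_AS 𝒜 𝒞 𝓔 m r I hC
  haveI := hfin
  have he' := hull_AS 𝒜 𝓔 m e he
  letI := HDecomp (toAS 𝒜) (toAS 𝒜) (idealAS 𝒜 m) (resAS 𝒜 I) r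
  haveI := HGSMul (toAS 𝒜) (toAS 𝒜) (idealAS 𝒜 m) (resAS 𝒜 I) r
  have h1 := finrank_canon_eq (toAS 𝒜) (hposAS hpos) hf (idealAS 𝒜 m) hstar hm 𝓔 e he' 𝒞
    ((resAS 𝒜 I).Hgr (idealAS 𝒜 m) r)
    (fun i => Groth.Agent.Lib.GrLES4H1.main13226 (toAS 𝒜) (hposAS hpos) (idealAS 𝒜 m) hm R
      (toAS 𝒜) (resAS 𝒜 I) r i) φC hφC n
  have hc : comp (toAS 𝒜) ((resAS 𝒜 I).Hgr (idealAS 𝒜 m) r) (-n) =
      (resAS 𝒜 I).Hcomp (idealAS 𝒜 m) r (-n) := Submodule.ext (fun x => Iff.rfl)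
  rw [hc] at h1
  exact h1

/-! ### S18674 -/

theorem main18674 (k : Type u) [Field k] (R : Type u) [CommRing R] [Algebra k R]
    (𝒜 : ℤ → Submodule k R) [GradedAlgebra 𝒜] (hposR : ∀ n : ℤ, n < 0 → 𝒜 n = ⊥)
    (h0R : 𝒜 0 = Submodule.span k {(1 : R)}) [Algebra.FiniteType k R]
    (S : Type u) [CommRing S] [Algebra k S] (ℬ : ℤ → Submodule k S) [GradedAlgebra ℬ]
    (hposS : ∀ n : ℤ, n < 0 → ℬ n = ⊥) (h0S : ℬ 0 = Submodule.span k {(1 : S)})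
    [Algebra.FiniteType k S]
    (T : Type u) [CommRing T] [Algebra k T] (𝒯 : ℤ → Submodule k T) [GradedAlgebra 𝒯]
    (ψ : T →ₐ[k] TensorProduct k R S) (hψ : Function.Injective ψ)
    (hdegT : ∀ n : ℤ, (𝒯 n).map ψ.toLinearMap =
      Submodule.span k {x : TensorProduct k R S | ∃ a ∈ 𝒜 n, ∃ b ∈ ℬ n, x = a ⊗ₜ[k] b})
    (mR : HomogeneousIdeal 𝒜)
    (hmR : mR.toIdeal = Ideal.span (⋃ n ∈ Set.Ioi (0 : ℤ), (𝒜 n : Set R)))
    (I : GrLC.StarInjRes 𝒜 𝒜) (mS : HomogeneousIdeal ℬ)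
    (hmS : mS.toIdeal = Ideal.span (⋃ n ∈ Set.Ioi (0 : ℤ), (ℬ n : Set S)))
    (J : GrLC.StarInjRes ℬ ℬ) (mT : HomogeneousIdeal 𝒯)
    (hmT : mT.toIdeal = Ideal.span (⋃ n ∈ Set.Ioi (0 : ℤ), (𝒯 n : Set T)))
    (IT : GrLC.StarInjRes 𝒯 𝒯) (r s : ℕ) (hr : ringKrullDim R = r) (hs : ringKrullDim S = s)
    (h2r : 2 ≤ r) (h2s : 2 ≤ s)
    (ER : Type u) [AddCommGroup ER] [Module R ER] (𝓔R : ℤ → AddSubgroup ER)
    [DirectSum.Decomposition 𝓔R] [SetLike.GradedSMul 𝒜 𝓔R] (eR : (R ⧸ mR.toIdeal) →ₗ[R] ER)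
    (heR : GrLC.IsStarInjHull 𝒜 (GrLC.quotGr 𝒜 mR) 𝓔R eR)
    (CR : Type u) [AddCommGroup CR] [Module R CR] (𝒞R : ℤ → AddSubgroup CR)
    [DirectSum.Decomposition 𝒞R] [SetLike.GradedSMul 𝒜 𝒞R]
    (hCR : GrLC.IsStarCanonical 𝒜 𝒞R 𝓔R mR r I)
    (ES : Type u) [AddCommGroup ES] [Module S ES] (𝓔S : ℤ → AddSubgroup ES)
    [DirectSum.Decomposition 𝓔S] [SetLike.GradedSMul ℬ 𝓔S] (eS : (S ⧸ mS.toIdeal) →ₗ[S] ES)
    (heS : GrLC.IsStarInjHull ℬ (GrLC.quotGr ℬ mS) 𝓔S eS)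
    (CS : Type u) [AddCommGroup CS] [Module S CS] (𝒞S : ℤ → AddSubgroup CS)
    [DirectSum.Decomposition 𝒞S] [SetLike.GradedSMul ℬ 𝒞S]
    (hCS : GrLC.IsStarCanonical ℬ 𝒞S 𝓔S mS s J)
    (ET : Type u) [AddCommGroup ET] [Module T ET] (𝓔T : ℤ → AddSubgroup ET)
    [DirectSum.Decomposition 𝓔T] [SetLike.GradedSMul 𝒯 𝓔T] (eT : (T ⧸ mT.toIdeal) →ₗ[T] ET)
    (heT : GrLC.IsStarInjHull 𝒯 (GrLC.quotGr 𝒯 mT) 𝓔T eT)
    (CT : Type u) [AddCommGroup CT] [Module T CT] (𝒞T : ℤ → AddSubgroup CT)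
    [DirectSum.Decomposition 𝒞T] [SetLike.GradedSMul 𝒯 𝒞T]
    (hCT : GrLC.IsStarCanonical 𝒯 𝒞T 𝓔T mT (r + s - 1) IT) (n : ℤ) :
    Module.finrank (GrLC.deg0 𝒯) (GrLC.comp 𝒯 𝒞T n) =
      Module.finrank (GrLC.deg0 𝒜) (GrLC.comp 𝒜 𝒞R n) *
        Module.finrank (GrLC.deg0 ℬ) (GrLC.comp ℬ 𝒞S n) := by
  have hT : GrSeg.IsSegreRing 𝒜 ℬ 𝒯 ψ := ⟨hψ, hdegT⟩
  haveI : Nontrivial R := nontrivial_of_dim r hr
  haveI : Nontrivial S := nontrivial_of_dim s hs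
  haveI : IsNoetherianRing R := Algebra.FiniteType.isNoetherianRing k R
  haveI : IsNoetherianRing S := Algebra.FiniteType.isNoetherianRing k S
  haveI : IsNoetherianRing T := Groth.Agent.Lib.SegreNoeth.main 𝒜 ℬ 𝒯 ψ hT.2 hT.1
  haveI : Nontrivial T := nontrivial_T hT
  have h0T := deg_zero_T hT h0R h0S
  have hposT := hpos_T hT hposR
  have hfR : IsField (deg0 (toAS 𝒜)) := isField_deg0 h0R
  have hfS : IsField (deg0 (toAS ℬ)) := isField_deg0 h0S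
  have hstarR : IsStarLocal (toAS 𝒜) (idealAS 𝒜 mR) := isStarLocal_irr hposR h0R mR hmR
  have hstarS : IsStarLocal (toAS ℬ) (idealAS ℬ mS) := isStarLocal_irr hposS h0S mS hmS
  obtain ⟨r', rfl⟩ : ∃ r', r = r' + 1 + 1 := ⟨r - 2, by omega⟩
  obtain ⟨s', rfl⟩ : ∃ s', s = s' + 1 + 1 := ⟨s - 2, by omega⟩
  have hhtR : (idealAS 𝒜 mR).toIdeal.height = ((r' + 1 + 1 : ℕ) : ℕ∞) := by
    have h1 := Groth.Agent.Lib.GorCanH1.ringKrullDim_eq_height (toAS 𝒜) (hposAS hposR) hfR _ hstarR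
    rw [hr] at h1
    exact (WithBot.coe_injective h1).symm
  have hhtS : (idealAS ℬ mS).toIdeal.height = ((s' + 1 + 1 : ℕ) : ℕ∞) := by
    have h1 := Groth.Agent.Lib.GorCanH1.ringKrullDim_eq_height (toAS ℬ) (hposAS hposS) hfS _ hstarS
    rw [hs] at h1
    exact (WithBot.coe_injective h1).symm
  have hq : r' + 1 + 1 + (s' + 1 + 1) - 1 = r' + 1 + (s' + 1) + 1 := by omega
  rw [hq] at hCT
  haveI : SetLike.GradedSMul 𝒜 (toAS 𝒜) := gsmul_of 𝒜 (toAS 𝒜)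
  haveI : SetLike.GradedSMul ℬ (toAS ℬ) := gsmul_of ℬ (toAS ℬ)
  haveI : SetLike.GradedSMul 𝒯 (toAS 𝒯) := gsmul_of 𝒯 (toAS 𝒯)
  have hP := segreMod_self hT
  have dR := finrank_canon_AS 𝒜 hposR h0R mR hmR I (r' + 1 + 1) ER 𝓔R eR heR CR 𝒞R hCR n
  have dS := finrank_canon_AS ℬ hposS h0S mS hmS J (s' + 1 + 1) ES 𝓔S eS heS CS 𝒞S hCS n
  have dT := finrank_canon_AS 𝒯 hposT h0T mT hmT IT (r' + 1 + (s' + 1) + 1) ET 𝓔T eT heT CT 𝒞T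
    hCT n
  have hcount := top_count_gen k R 𝒜 hposR h0R S ℬ hposS h0S T 𝒯 ψ hT mR hmR mS hmS mT hmT
    R (toAS 𝒜) (resAS 𝒜 I) S (toAS ℬ) (resAS ℬ J) T (toAS 𝒯) ψ.toLinearMap hP (resAS 𝒯 IT) (-n)
    (r := r' + 1) (s := s' + 1) (by omega) (by omega)
    (fun i hi x _ => by
      haveI := H_subsingleton_of_gt (toAS 𝒜) (idealAS 𝒜 mR) hstarR (r' + 1 + 1) hhtR
        (resAS 𝒜 I) i hi
      exact Subsingleton.elim x 0)
    (fun j hj x _ => by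
      haveI := H_subsingleton_of_gt (toAS ℬ) (idealAS ℬ mS) hstarS (s' + 1 + 1) hhtS
        (resAS ℬ J) j hj
      exact Subsingleton.elim x 0)
  show Module.finrank (deg0 (toAS 𝒯)) (comp (toAS 𝒯) 𝒞T n) =
    Module.finrank (deg0 (toAS 𝒜)) (comp (toAS 𝒜) 𝒞R n) *
      Module.finrank (deg0 (toAS ℬ)) (comp (toAS ℬ) 𝒞S n)
  rw [dR, dS, dT]
  exact hcount

end Groth.Agent.Lib.SegCanH1
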