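import Mathlib
import Groth.Prelude.Def_GrLC
import Groth.Prelude.Def_GrSeg
import Groth.Agent.Lib.SegTop3_helper1

/-! The pairing between a Segre product `C # C'` of graded modules and the top graded local
cohomology of a Segre product `M # N`, built from pairings of `C` with the cocycles computing the
top local cohomology of `M` and of `C'` with those of `N` through the Künneth map: it is balanced
for the action of the Segre ring and nondegenerate in the cohomology variable (helper1).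
APPEND-ONLY once landed. -/

set_option autoImplicit false

namespace Groth.Agent.Lib.SegPairH1

open scoped TensorProduct
open DirectSum GrLC Groth.Agent.Lib.SegreH3 Groth.Agent.Lib.SegF1H1 Groth.Agent.Lib.SegF2H1
  Groth.Agent.Lib.TCrdH1 Groth.Agent.Lib.DivH1 Groth.Agent.Lib.GrAcycH1
  Groth.Agent.Lib.SegTorsH1 Groth.Agent.Lib.GrXferH1 Groth.Agent.Lib.GrLES1H1
  Groth.Agent.Lib.GrLES2H1 Groth.Agent.Lib.SegAcycH1 Groth.Agent.Lib.DVecH1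
  Groth.Agent.Lib.BigResH1 Groth.Agent.Lib.SegAcyc2H1 Groth.Agent.Lib.SegGamH1
  Groth.Agent.Lib.ARTH1 Groth.Agent.Lib.SegKunH1 Groth.Agent.Lib.SegTotH1
  Groth.Agent.Lib.SegTopH1

universe u

attribute [local instance] kMod kTower gsmulX

/-! ### the tensor product of two pairings -/
section lin

variable {k : Type u} [Field k] {C C' V W : Type u} [AddCommGroup C] [Module k C]
  [AddCommGroup C'] [Module k C'] [AddCommGroup V] [Module k V] [AddCommGroup W] [Module k W]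

/-- the tensor product of two pairings with values in the field -/
noncomputable def kap (κA : C →ₗ[k] V →ₗ[k] k) (κB : C' →ₗ[k] W →ₗ[k] k) :
    C ⊗[k] C' →ₗ[k] V ⊗[k] W →ₗ[k] k :=
  (TensorProduct.map₂ κA κB).compr₂ (TensorProduct.lid k k).toLinearMap

theorem kap_tmul_left (κA : C →ₗ[k] V →ₗ[k] k) (κB : C' →ₗ[k] W →ₗ[k] k) (c : C) (c' : C')
    (w : V ⊗[k] W) :
    kap κA κB (c ⊗ₜ[k] c') w = TensorProduct.lid k k (TensorProduct.map (κA c) (κB c') w) := by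
  show TensorProduct.lid k k (TensorProduct.map₂ κA κB (c ⊗ₜ[k] c') w) = _
  rw [TensorProduct.map₂_apply_tmul]

theorem kap_tmul (κA : C →ₗ[k] V →ₗ[k] k) (κB : C' →ₗ[k] W →ₗ[k] k) (c : C) (c' : C')
    (x : V) (y : W) : kap κA κB (c ⊗ₜ[k] c') (x ⊗ₜ[k] y) = κA c x * κB c' y := by
  rw [kap_tmul_left, TensorProduct.map_tmul, TensorProduct.lid_tmul, smul_eq_mul]

theorem kap_bdry (κA : C →ₗ[k] V →ₗ[k] k) (κB : C' →ₗ[k] W →ₗ[k] k)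
    {ZA BA : Submodule k V} {ZB BB : Submodule k W}
    (hA : ∀ c, ∀ x ∈ BA, κA c x = 0) (hB : ∀ c', ∀ y ∈ BB, κB c' y = 0) (z : C ⊗[k] C') :
    ∀ w ∈ T2 BA ZB ⊔ T2 ZA BB, kap κA κB z w = 0 := by
  have key : ∀ (z : C ⊗[k] C') (x : V) (y : W), (x ∈ BA ∨ y ∈ BB) →
      kap κA κB z (x ⊗ₜ[k] y) = 0 := by
    intro z x y hxy
    induction z using TensorProduct.induction_on with
    | zero => rw [map_zero, LinearMap.zero_apply]
    | tmul c c' =>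
      rw [kap_tmul]
      rcases hxy with h | h
      · rw [hA c x h, zero_mul]
      · rw [hB c' y h, mul_zero]
    | add z z' ih ih' => rw [map_add, LinearMap.add_apply, ih, ih', add_zero]
  intro w hw
  have hle : T2 BA ZB ⊔ T2 ZA BB ≤ LinearMap.ker (kap κA κB z) :=
    sup_le (T2_le (fun a ha b _ => LinearMap.mem_ker.2 (key z a b (Or.inl ha))))
      (T2_le (fun a _ b hb => LinearMap.mem_ker.2 (key z a b (Or.inr hb))))
  exact LinearMap.mem_ker.1 (hle hw)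

/-- detection of a class in a tensor product of two quotients by pairs of functionals -/
theorem pair_detect_fun (ZA BA HA : Submodule k V) (ZB BB HB : Submodule k W)
    (hHA : HA ≤ ZA) (hdA : ∀ x ∈ HA, x ∈ BA → x = 0) (hsA : ∀ z ∈ ZA, ∃ h ∈ HA, z - h ∈ BA)
    (hHB : HB ≤ ZB) (hdB : ∀ y ∈ HB, y ∈ BB → y = 0) (hsB : ∀ z ∈ ZB, ∃ h ∈ HB, z - h ∈ BB)
    (Φ : Set (V →ₗ[k] k)) (Ψ : Set (W →ₗ[k] k))
    (hΦ : ∀ f ∈ Φ, BA ≤ LinearMap.ker f) (hΨ : ∀ g ∈ Ψ, BB ≤ LinearMap.ker g)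
    (essA : ∀ x ∈ ZA, x ∉ BA → ∃ f ∈ Φ, f x ≠ 0)
    (essB : ∀ y ∈ ZB, y ∉ BB → ∃ g ∈ Ψ, g y ≠ 0)
    (w : V ⊗[k] W) (hw : w ∈ T2 ZA ZB)
    (hall : ∀ f ∈ Φ, ∀ g ∈ Ψ, TensorProduct.map f g w = 0) :
    w ∈ T2 BA ZB ⊔ T2 ZA BB := by
  obtain ⟨wh, hwh, wb, hwb, rfl⟩ := Submodule.mem_sup.1 (T2_split hHA hsA hsB hw)
  have hkill : ∀ f ∈ Φ, ∀ g ∈ Ψ, TensorProduct.map f g wb = 0 := by
    intro f hf g hg
    have h4 : T2 BA ZB ⊔ T2 ZA BB ≤ LinearMap.ker (TensorProduct.map f g) :=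
      sup_le
        (T2_le (fun a ha b _ => by
          rw [LinearMap.mem_ker, TensorProduct.map_tmul, LinearMap.mem_ker.1 (hΦ f hf ha),
            TensorProduct.zero_tmul]))
        (T2_le (fun a _ b hb => by
          rw [LinearMap.mem_ker, TensorProduct.map_tmul, LinearMap.mem_ker.1 (hΨ g hg hb),
            TensorProduct.tmul_zero]))
    exact LinearMap.mem_ker.1 (h4 hwb)
  have hwh0 : wh = 0 := by
    rw [T2_eq_range] at hwh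
    obtain ⟨w', rfl⟩ := hwh
    have hw'0 : w' = 0 := by
      apply tensor_detect
        {F : ↥HA →ₗ[k] k | ∃ f ∈ Φ, F = f ∘ₗ HA.subtype}
        {G : ↥HB →ₗ[k] k | ∃ g ∈ Ψ, G = g ∘ₗ HB.subtype}
      · intro x hx
        by_contra hx0
        have hxB : (x : V) ∉ BA := fun h => hx0 (Subtype.ext (hdA x.1 x.2 h))
        obtain ⟨f, hf, hfx⟩ := essA x.1 (hHA x.2) hxB
        exact hfx (hx _ ⟨f, hf, rfl⟩)
      · intro y hy
        by_contra hy0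
        have hyB : (y : W) ∉ BB := fun h => hy0 (Subtype.ext (hdB y.1 y.2 h))
        obtain ⟨g, hg, hgy⟩ := essB y.1 (hHB y.2) hyB
        exact hgy (hy _ ⟨g, hg, rfl⟩)
      · rintro F ⟨f, hf, rfl⟩ G ⟨g, hg, rfl⟩
        rw [← TensorProduct.map_map]
        have h1 := hall f hf g hg
        rw [map_add, hkill f hf g hg, add_zero] at h1
        exact h1
    rw [hw'0, map_zero]
  rw [hwh0, zero_add]
  exact hwb

theorem kap_detect (κA : C →ₗ[k] V →ₗ[k] k) (κB : C' →ₗ[k] W →ₗ[k] k)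
    (ZA BA HA : Submodule k V) (ZB BB HB : Submodule k W)
    (hHA : HA ≤ ZA) (hdA : ∀ x ∈ HA, x ∈ BA → x = 0) (hsA : ∀ z ∈ ZA, ∃ h ∈ HA, z - h ∈ BA)
    (hHB : HB ≤ ZB) (hdB : ∀ y ∈ HB, y ∈ BB → y = 0) (hsB : ∀ z ∈ ZB, ∃ h ∈ HB, z - h ∈ BB)
    (𝒞 : Set C) (𝒞' : Set C')
    (hA1 : ∀ c, ∀ x ∈ BA, κA c x = 0) (hB1 : ∀ c', ∀ y ∈ BB, κB c' y = 0)
    (hA3 : ∀ x ∈ ZA, (∀ c ∈ 𝒞, κA c x = 0) → x ∈ BA)
    (hB3 : ∀ y ∈ ZB, (∀ c' ∈ 𝒞', κB c' y = 0) → y ∈ BB)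
    (w : V ⊗[k] W) (hw : w ∈ T2 ZA ZB)
    (hall : ∀ c ∈ 𝒞, ∀ c' ∈ 𝒞', kap κA κB (c ⊗ₜ[k] c') w = 0) :
    w ∈ T2 BA ZB ⊔ T2 ZA BB := by
  refine pair_detect_fun ZA BA HA ZB BB HB hHA hdA hsA hHB hdB hsB
    {f | ∃ c ∈ 𝒞, f = κA c} {g | ∃ c' ∈ 𝒞', g = κB c'} ?_ ?_ ?_ ?_ w hw ?_
  · rintro f ⟨c, -, rfl⟩ x hx
    exact LinearMap.mem_ker.2 (hA1 c x hx)
  · rintro g ⟨c', -, rfl⟩ y hy
    exact LinearMap.mem_ker.2 (hB1 c' y hy)
  · intro x hx hxb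
    by_contra hcon
    apply hxb
    apply hA3 x hx
    intro c hc
    by_contra hne
    exact hcon ⟨κA c, ⟨c, hc, rfl⟩, hne⟩
  · intro y hy hyb
    by_contra hcon
    apply hyb
    apply hB3 y hy
    intro c' hc'
    by_contra hne
    exact hcon ⟨κB c', ⟨c', hc', rfl⟩, hne⟩
  · rintro f ⟨c, hc, rfl⟩ g ⟨c', hc', rfl⟩
    have h1 := hall c hc c' hc'
    rw [kap_tmul_left] at h1
    exact (TensorProduct.lid k k).injective (by rw [h1, map_zero])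

end lin

/-! ### induction over a piece of the Segre ring -/
section seg

variable {k : Type u} [Field k]
  {R : Type u} [CommRing R] [Algebra k R] {𝒜 : ℤ → Submodule k R} [GradedAlgebra 𝒜]
  {S : Type u} [CommRing S] [Algebra k S] {ℬ : ℤ → Submodule k S} [GradedAlgebra ℬ]

omit [GradedAlgebra 𝒜] [GradedAlgebra ℬ] in
theorem segre_induction {U : Type u} [AddCommGroup U] [Module k U] (L : R ⊗[k] S →ₗ[k] U)
    (𝒮 : Submodule k U) (i : ℤ) (h : ∀ ρ ∈ 𝒜 i, ∀ τ ∈ ℬ i, L (ρ ⊗ₜ[k] τ) ∈ 𝒮) :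
    ∀ σ ∈ GrSeg.segrePiece k 𝒜 ℬ i, L σ ∈ 𝒮 := by
  intro σ hσ
  have hle : GrSeg.segrePiece k 𝒜 ℬ i ≤ 𝒮.comap L := by
    refine Submodule.span_le.2 ?_
    rintro _ ⟨ρ, hρ, τ, hτ, rfl⟩
    exact h ρ hρ τ hτ
  exact hle hσ

variable {T : Type u} [CommRing T] [Algebra k T] {𝒯 : ℤ → Submodule k T} [GradedAlgebra 𝒯]
  {ψ : T →ₐ[k] R ⊗[k] S}

variable (hT : GrSeg.IsSegreRing 𝒜 ℬ 𝒯 ψ)
  {M : Type u} [AddCommGroup M] [Module R M] {ℳ : ℤ → AddSubgroup M} [Decomposition ℳ]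
  [SetLike.GradedSMul 𝒜 ℳ] (EM : StarInjRes (toAS 𝒜) ℳ)
  {N : Type u} [AddCommGroup N] [Module S N] {𝒩 : ℤ → AddSubgroup N} [Decomposition 𝒩]
  [SetLike.GradedSMul ℬ 𝒩] (EN : StarInjRes (toAS ℬ) 𝒩)
  (mR : HomogeneousIdeal 𝒜) (mS : HomogeneousIdeal ℬ)

theorem act_mem_T2Z (r s : ℕ) (i d : ℤ) {σ : R ⊗[k] S}
    (hσ : σ ∈ GrSeg.segrePiece k 𝒜 ℬ i)
    {w : (bigX EM).carrier ⊗[k] (bigX EN).carrier}
    (hw : w ∈ T2 ((gdE EM).Zn (AA' EM (idealAS 𝒜 mR).toIdeal d) r)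
      ((gdE EN).Zn (AA' EN (idealAS ℬ mS).toIdeal d) s)) :
    GrSeg.act k R S (bigX EM).carrier (bigX EN).carrier σ w ∈
      T2 ((gdE EM).Zn (AA' EM (idealAS 𝒜 mR).toIdeal (i + d)) r)
        ((gdE EN).Zn (AA' EN (idealAS ℬ mS).toIdeal (i + d)) s) := by
  have key := segre_induction (𝒜 := 𝒜) (ℬ := ℬ)
    ((GrSeg.act k R S (bigX EM).carrier (bigX EN).carrier).flip w)
    (T2 ((gdE EM).Zn (AA' EM (idealAS 𝒜 mR).toIdeal (i + d)) r)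
      ((gdE EN).Zn (AA' EN (idealAS ℬ mS).toIdeal (i + d)) s)) i
    (fun ρ hρ τ hτ => by
      rw [LinearMap.flip_apply, act_pure EM EN]
      exact map_mem_T2 (sm EM ρ) (sm EN τ)
        (fun x hx => sm_mem_Zn EM (idealAS 𝒜 mR) r hρ hx)
        (fun y hy => sm_mem_Zn EN (idealAS ℬ mS) s hτ hy) w hw) σ hσ
  rw [LinearMap.flip_apply] at key
  exact key

theorem act_mem_ZnKK (q : ℕ) (i d : ℤ) {σ : R ⊗[k] S}
    (hσ : σ ∈ GrSeg.segrePiece k 𝒜 ℬ i)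
    {ζ : (bigX EM).carrier ⊗[k] (bigX EN).carrier}
    (hζ : ζ ∈ (tens (gdE EM) (gdE EN)).Zn (KK EM EN mR mS d) q) :
    GrSeg.act k R S (bigX EM).carrier (bigX EN).carrier σ ζ ∈
      (tens (gdE EM) (gdE EN)).Zn (KK EM EN mR mS (i + d)) q := by
  have key := segre_induction (𝒜 := 𝒜) (ℬ := ℬ)
    ((GrSeg.act k R S (bigX EM).carrier (bigX EN).carrier).flip ζ)
    ((tens (gdE EM) (gdE EN)).Zn (KK EM EN mR mS (i + d)) q) i
    (fun ρ hρ τ hτ => by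
      rw [LinearMap.flip_apply, act_pure EM EN]
      exact map_Zn (tens (gdE EM) (gdE EN)) (TensorProduct.map (sm EM ρ) (sm EN τ))
        (tD_map (gdE EM) (gdE EN) (sm EM ρ) (sm EN τ) (sm_d EM ρ) (sm_σ EM ρ) (sm_d EN τ))
        (fun i v => tπ_map (gdE EM) (gdE EN) (sm EM ρ) (sm EN τ) (fun j v => sm_π EM ρ j v)
          (fun j v => sm_π EN τ j v) i v)
        (map_sum_mem (sm EM ρ) (sm EN τ) (fun a ha => sm_mem_AA EM hρ ha)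
          (fun a ha => sm_mem_AA' EM _ hρ ha) (fun a ha => sm_mem_AA EN hτ ha)
          (fun a ha => sm_mem_AA' EN _ hτ ha)) hζ) σ hσ
  rw [LinearMap.flip_apply] at key
  exact key

theorem Xi_act {r s : ℕ} (hr : 1 ≤ r) (hs : 1 ≤ s) (i d : ℤ) {σ : R ⊗[k] S}
    (hσ : σ ∈ GrSeg.segrePiece k 𝒜 ℬ i)
    {g₁ g₁' : (bigX EM).carrier →ₗ[k] (bigX EM).carrier}
    {g₂ g₂' : (bigX EN).carrier →ₗ[k] (bigX EN).carrier}
    (l₁A : IsLift (gdE EM) (AA' EM (idealAS 𝒜 mR).toIdeal d) (AA EM d) r g₁)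
    (l₁B : IsLift (gdE EN) (AA' EN (idealAS ℬ mS).toIdeal d) (AA EN d) s g₂)
    (l₂A : IsLift (gdE EM) (AA' EM (idealAS 𝒜 mR).toIdeal (i + d)) (AA EM (i + d)) r g₁')
    (l₂B : IsLift (gdE EN) (AA' EN (idealAS ℬ mS).toIdeal (i + d)) (AA EN (i + d)) s g₂')
    {w : (bigX EM).carrier ⊗[k] (bigX EN).carrier}
    (hw : w ∈ T2 ((gdE EM).Zn (AA' EM (idealAS 𝒜 mR).toIdeal d) (r + 1))
      ((gdE EN).Zn (AA' EN (idealAS ℬ mS).toIdeal d) (s + 1))) :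
    GrSeg.act k R S (bigX EM).carrier (bigX EN).carrier σ (Xi (gdE EM) g₁ g₂ w) -
        Xi (gdE EM) g₁' g₂' (GrSeg.act k R S (bigX EM).carrier (bigX EN).carrier σ w) ∈
      (tens (gdE EM) (gdE EN)).Bn (KK EM EN mR mS (i + d)) (r + s + 1) := by
  have key := segre_induction (𝒜 := 𝒜) (ℬ := ℬ)
    ((GrSeg.act k R S (bigX EM).carrier (bigX EN).carrier).flip (Xi (gdE EM) g₁ g₂ w) -
      (Xi (gdE EM) g₁' g₂') ∘ₗ (GrSeg.act k R S (bigX EM).carrier (bigX EN).carrier).flip w)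
    ((tens (gdE EM) (gdE EN)).Bn (KK EM EN mR mS (i + d)) (r + s + 1)) i
    (fun ρ hρ τ hτ => by
      rw [LinearMap.sub_apply, LinearMap.comp_apply, LinearMap.flip_apply,
        LinearMap.flip_apply, act_pure EM EN, act_pure EM EN]
      exact Xi_equiv (kdE EM EN (idealAS 𝒜 mR).toIdeal (idealAS ℬ mS).toIdeal (i + d)) hr hs
        (sm EM ρ) (sm EN τ) (sm_d EM ρ) (sm_σ EM ρ) (fun i v => sm_π EM ρ i v)
        (fun a ha => sm_mem_AA EM hρ ha) (fun a ha => sm_mem_AA' EM _ hρ ha)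
        (sm_d EN τ) (fun i v => sm_π EN τ i v)
        (fun a ha => sm_mem_AA EN hτ ha) (fun a ha => sm_mem_AA' EN _ hτ ha)
        l₁A l₁B l₂A l₂B w hw) σ hσ
  rw [LinearMap.sub_apply, LinearMap.comp_apply, LinearMap.flip_apply,
    LinearMap.flip_apply] at key
  exact key

variable {CA : Type u} [AddCommGroup CA] [Module R CA] [Module k CA] [IsScalarTower k R CA]
  {CB : Type u} [AddCommGroup CB] [Module S CB] [Module k CB] [IsScalarTower k S CB]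

theorem kap_act_pure (κA κA' : CA →ₗ[k] (bigX EM).carrier →ₗ[k] k)
    (κB κB' : CB →ₗ[k] (bigX EN).carrier →ₗ[k] k)
    (ZA : Submodule k (bigX EM).carrier) (ZB : Submodule k (bigX EN).carrier) (ρ : R) (τ : S)
    (hA : ∀ c, ∀ x ∈ ZA, κA (ρ • c) x = κA' c (sm EM ρ x))
    (hB : ∀ c', ∀ y ∈ ZB, κB (τ • c') y = κB' c' (sm EN τ y)) (z : CA ⊗[k] CB) :
    ∀ w ∈ T2 ZA ZB, kap κA κB (GrSeg.act k R S CA CB (ρ ⊗ₜ[k] τ) z) w =
      kap κA' κB' z (TensorProduct.map (sm EM ρ) (sm EN τ) w) := by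
  induction z using TensorProduct.induction_on with
  | zero =>
    intro w _
    simp only [map_zero, LinearMap.zero_apply]
  | tmul c c' =>
    rw [GrSeg.act_tmul]
    exact T2_eqOn (kap κA κB ((ρ • c) ⊗ₜ[k] (τ • c')))
      ((kap κA' κB' (c ⊗ₜ[k] c')) ∘ₗ TensorProduct.map (sm EM ρ) (sm EN τ))
      (fun x hx y hy => by
        rw [LinearMap.comp_apply, TensorProduct.map_tmul, kap_tmul, kap_tmul, hA c x hx,
          hB c' y hy])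
  | add z z' ih ih' =>
    intro w hw
    simp only [map_add, LinearMap.add_apply, ih w hw, ih' w hw]

theorem kap_act (r s : ℕ) (κA : ℤ → CA →ₗ[k] (bigX EM).carrier →ₗ[k] k)
    (κB : ℤ → CB →ₗ[k] (bigX EN).carrier →ₗ[k] k)
    (hA2 : ∀ (i j : ℤ), ∀ ρ ∈ 𝒜 i, ∀ (c : CA),
      ∀ x ∈ (gdE EM).Zn (AA' EM (idealAS 𝒜 mR).toIdeal j) r,
        κA j (ρ • c) x = κA (i + j) c (sm EM ρ x))
    (hB2 : ∀ (i j : ℤ), ∀ τ ∈ ℬ i, ∀ (c' : CB),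
      ∀ y ∈ (gdE EN).Zn (AA' EN (idealAS ℬ mS).toIdeal j) s,
        κB j (τ • c') y = κB (i + j) c' (sm EN τ y))
    (i d : ℤ) {σ : R ⊗[k] S} (hσ : σ ∈ GrSeg.segrePiece k 𝒜 ℬ i) (z : CA ⊗[k] CB)
    {w : (bigX EM).carrier ⊗[k] (bigX EN).carrier}
    (hw : w ∈ T2 ((gdE EM).Zn (AA' EM (idealAS 𝒜 mR).toIdeal d) r)
      ((gdE EN).Zn (AA' EN (idealAS ℬ mS).toIdeal d) s)) :
    kap (κA d) (κB d) (GrSeg.act k R S CA CB σ z) w =
      kap (κA (i + d)) (κB (i + d)) z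
        (GrSeg.act k R S (bigX EM).carrier (bigX EN).carrier σ w) := by
  have key := segre_induction (𝒜 := 𝒜) (ℬ := ℬ)
    (((kap (κA d) (κB d)).flip w) ∘ₗ ((GrSeg.act k R S CA CB).flip z) -
      (kap (κA (i + d)) (κB (i + d)) z) ∘ₗ
        ((GrSeg.act k R S (bigX EM).carrier (bigX EN).carrier).flip w))
    ⊥ i
    (fun ρ hρ τ hτ => by
      rw [Submodule.mem_bot, LinearMap.sub_apply, LinearMap.comp_apply, LinearMap.comp_apply,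
        LinearMap.flip_apply, LinearMap.flip_apply, LinearMap.flip_apply, act_pure EM EN,
        sub_eq_zero]
      exact kap_act_pure EM EN (κA d) (κA (i + d)) (κB d) (κB (i + d)) _ _ ρ τ
        (fun c x hx => hA2 i d ρ hρ c x hx) (fun c' y hy => hB2 i d τ hτ c' y hy) z w hw) σ hσ
  rw [Submodule.mem_bot, LinearMap.sub_apply, LinearMap.comp_apply, LinearMap.comp_apply,
    LinearMap.flip_apply, LinearMap.flip_apply, LinearMap.flip_apply, sub_eq_zero] at key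
  exact key

/-! ### the pairing with the top local cohomology of the Segre product -/
section main

variable [IsNoetherianRing R] [IsNoetherianRing S]
  (mT : HomogeneousIdeal 𝒯)
  (hmR : mR.toIdeal = Ideal.span (⋃ n ∈ Set.Ioi (0 : ℤ), (𝒜 n : Set R)))
  (hmS : mS.toIdeal = Ideal.span (⋃ n ∈ Set.Ioi (0 : ℤ), (ℬ n : Set S)))
  (hmT : mT.toIdeal = Ideal.span (⋃ n ∈ Set.Ioi (0 : ℤ), (𝒯 n : Set T)))

variable [IsNoetherianRing T] [Module k M] [IsScalarTower k R M] [Module k N]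
  [IsScalarTower k S N]
  {P : Type u} [AddCommGroup P] [Module T P] [Module k P] [IsScalarTower k T P]
  (𝒬 : ℤ → AddSubgroup P) [Decomposition 𝒬] [SetLike.GradedSMul 𝒯 𝒬]
  (φ : P →ₗ[k] M ⊗[k] N) (hP : GrSeg.IsSegreMod ψ ℳ 𝒩 𝒬 φ)

include hT hmR hmS hmT hP in
/-- The pairing of a Segre product `C # C'` with the top graded local cohomology of `M # N`. -/
theorem exists_pairing (EP : StarInjRes (toAS 𝒯) 𝒬) {r s : ℕ} (hr : 1 ≤ r) (hs : 1 ≤ s)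
    (vM : ∀ (d : ℤ) (i : ℕ), r + 1 < i → ∀ x ∈ EM.Hgr (idealAS 𝒜 mR) i d, x = 0)
    (vN : ∀ (d : ℤ) (j : ℕ), s + 1 < j → ∀ x ∈ EN.Hgr (idealAS ℬ mS) j d, x = 0)
    (𝒞A : ℤ → AddSubgroup CA) (𝒞B : ℤ → AddSubgroup CB)
    {PC : Type u} [AddCommGroup PC] [Module T PC] [Module k PC] [IsScalarTower k T PC]
    (𝒬C : ℤ → AddSubgroup PC) [Decomposition 𝒬C]
    (φC : PC →ₗ[k] CA ⊗[k] CB) (hPC : GrSeg.IsSegreMod ψ 𝒞A 𝒞B 𝒬C φC)
    (κA : ℤ → CA →ₗ[k] (bigX EM).carrier →ₗ[k] k)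
    (hA1 : ∀ (j : ℤ) (c : CA),
      ∀ x ∈ (gdE EM).Bn (AA' EM (idealAS 𝒜 mR).toIdeal j) (r + 1), κA j c x = 0)
    (hA2 : ∀ (i j : ℤ), ∀ ρ ∈ 𝒜 i, ∀ (c : CA),
      ∀ x ∈ (gdE EM).Zn (AA' EM (idealAS 𝒜 mR).toIdeal j) (r + 1),
        κA j (ρ • c) x = κA (i + j) c (sm EM ρ x))
    (hA3 : ∀ (j : ℤ), ∀ x ∈ (gdE EM).Zn (AA' EM (idealAS 𝒜 mR).toIdeal j) (r + 1),
      (∀ c ∈ 𝒞A (-j), κA j c x = 0) →
        x ∈ (gdE EM).Bn (AA' EM (idealAS 𝒜 mR).toIdeal j) (r + 1))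
    (κB : ℤ → CB →ₗ[k] (bigX EN).carrier →ₗ[k] k)
    (hB1 : ∀ (j : ℤ) (c' : CB),
      ∀ y ∈ (gdE EN).Bn (AA' EN (idealAS ℬ mS).toIdeal j) (s + 1), κB j c' y = 0)
    (hB2 : ∀ (i j : ℤ), ∀ τ ∈ ℬ i, ∀ (c' : CB),
      ∀ y ∈ (gdE EN).Zn (AA' EN (idealAS ℬ mS).toIdeal j) (s + 1),
        κB j (τ • c') y = κB (i + j) c' (sm EN τ y))
    (hB3 : ∀ (j : ℤ), ∀ y ∈ (gdE EN).Zn (AA' EN (idealAS ℬ mS).toIdeal j) (s + 1),
      (∀ c' ∈ 𝒞B (-j), κB j c' y = 0) →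
        y ∈ (gdE EN).Bn (AA' EN (idealAS ℬ mS).toIdeal j) (s + 1)) :
    ∃ b : ℤ → PC → EP.H (idealAS 𝒯 mT) (r + s + 1) → k,
      (∀ (j : ℤ) (p p' : PC) (ξ : EP.H (idealAS 𝒯 mT) (r + s + 1)),
        ξ ∈ EP.Hgr (idealAS 𝒯 mT) (r + s + 1) j → b j (p + p') ξ = b j p ξ + b j p' ξ) ∧
      (∀ (j : ℤ) (c : k) (p : PC) (ξ : EP.H (idealAS 𝒯 mT) (r + s + 1)),
        ξ ∈ EP.Hgr (idealAS 𝒯 mT) (r + s + 1) j → b j (c • p) ξ = c * b j p ξ) ∧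
      (∀ (j : ℤ) (p : PC) (ξ ξ' : EP.H (idealAS 𝒯 mT) (r + s + 1)),
        ξ ∈ EP.Hgr (idealAS 𝒯 mT) (r + s + 1) j → ξ' ∈ EP.Hgr (idealAS 𝒯 mT) (r + s + 1) j →
          b j p (ξ + ξ') = b j p ξ + b j p ξ') ∧
      (∀ (i j : ℤ), ∀ t ∈ 𝒯 i, ∀ (p : PC) (ξ : EP.H (idealAS 𝒯 mT) (r + s + 1)),
        ξ ∈ EP.Hgr (idealAS 𝒯 mT) (r + s + 1) j → b j (t • p) ξ = b (i + j) p (t • ξ)) ∧
      (∀ (j : ℤ) (ξ : EP.H (idealAS 𝒯 mT) (r + s + 1)),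
        ξ ∈ EP.Hgr (idealAS 𝒯 mT) (r + s + 1) j → (∀ p ∈ 𝒬C (-j), b j p ξ = 0) → ξ = 0) := by
  classical
  obtain ⟨F, hFmem, hFsurj, hFker, hFeq⟩ := exists_bridgeT hT EM EN mR mS mT hmR hmS hmT
    (r + s + 1) 𝒬 φ hP EP
  have D : ∀ d : ℤ, KD (gdE EM) (gdE EN) (AA' EM (idealAS 𝒜 mR).toIdeal d) (AA EM d)
      (AA' EN (idealAS ℬ mS).toIdeal d) (AA EN d) :=
    fun d => kdE EM EN (idealAS 𝒜 mR).toIdeal (idealAS ℬ mS).toIdeal d
  obtain ⟨cA⟩ : Nonempty (∀ d : ℤ, (gdE EM).Contr (AA EM d)) :=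
    ⟨fun d => Classical.choice ((gdE EM).exists_contr (D d).hA)⟩
  obtain ⟨cB⟩ : Nonempty (∀ d : ℤ, (gdE EN).Contr (AA EN d)) :=
    ⟨fun d => Classical.choice ((gdE EN).exists_contr (D d).hB)⟩
  have lA : ∀ d : ℤ, IsLift (gdE EM) (AA' EM (idealAS 𝒜 mR).toIdeal d) (AA EM d) r (cA d).h :=
    fun d => isLift_h (D d).hAA (cA d) r ((D d).exA r)
  have lB : ∀ d : ℤ, IsLift (gdE EN) (AA' EN (idealAS ℬ mS).toIdeal d) (AA EN d) s (cB d).h :=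
    fun d => isLift_h (D d).hBB (cB d) s ((D d).exB s)
  have vA : ∀ (d : ℤ) (i : ℕ), r + 1 < i →
      (gdE EM).Zn (AA' EM (idealAS 𝒜 mR).toIdeal d) i ≤
        (gdE EM).Bn (AA' EM (idealAS 𝒜 mR).toIdeal d) i :=
    fun d i hi => van_of EM (idealAS 𝒜 mR) i d (vM d i hi)
  have vB : ∀ (d : ℤ) (j : ℕ), s + 1 < j →
      (gdE EN).Zn (AA' EN (idealAS ℬ mS).toIdeal d) j ≤
        (gdE EN).Bn (AA' EN (idealAS ℬ mS).toIdeal d) j :=
    fun d j hj => van_of EN (idealAS ℬ mS) j d (vN d j hj)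
  have hXmem : ∀ (d : ℤ) (w : (bigX EM).carrier ⊗[k] (bigX EN).carrier),
      w ∈ T2 ((gdE EM).Zn (AA' EM (idealAS 𝒜 mR).toIdeal d) (r + 1))
        ((gdE EN).Zn (AA' EN (idealAS ℬ mS).toIdeal d) (s + 1)) →
      Xi (gdE EM) (cA d).h (cB d).h w ∈
        (tens (gdE EM) (gdE EN)).Zn (KK EM EN mR mS d) (r + s + 1) :=
    fun d w hw => (D d).Xi_mem (lA d) (lB d) w hw
  -- representatives
  have Rex : ∀ (d : ℤ) (ξ : EP.H (idealAS 𝒯 mT) (r + s + 1)),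
      ξ ∈ EP.Hgr (idealAS 𝒯 mT) (r + s + 1) d →
      ∃ w, ∃ hw : w ∈ T2 ((gdE EM).Zn (AA' EM (idealAS 𝒜 mR).toIdeal d) (r + 1))
        ((gdE EN).Zn (AA' EN (idealAS ℬ mS).toIdeal d) (s + 1)),
        F d ⟨Xi (gdE EM) (cA d).h (cB d).h w, hXmem d w hw⟩ = ξ := by
    intro d ξ hξ
    obtain ⟨z, rfl⟩ := hFsurj d ξ hξ
    obtain ⟨w, hw, hb⟩ := (D d).Xi_span hr hs (vA d) (vB d) (lA d) (lB d) z.1 z.2
    refine ⟨w, hw, ?_⟩
    have h0 : F d (z - ⟨Xi (gdE EM) (cA d).h (cB d).h w, hXmem d w hw⟩) = 0 :=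
      (hFker d _).2 hb
    rw [map_sub, sub_eq_zero] at h0
    exact h0.symm
  have Runiq : ∀ (d : ℤ) (w w' : (bigX EM).carrier ⊗[k] (bigX EN).carrier)
      (hw : w ∈ T2 ((gdE EM).Zn (AA' EM (idealAS 𝒜 mR).toIdeal d) (r + 1))
        ((gdE EN).Zn (AA' EN (idealAS ℬ mS).toIdeal d) (s + 1)))
      (hw' : w' ∈ T2 ((gdE EM).Zn (AA' EM (idealAS 𝒜 mR).toIdeal d) (r + 1))
        ((gdE EN).Zn (AA' EN (idealAS ℬ mS).toIdeal d) (s + 1))),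
      F d ⟨Xi (gdE EM) (cA d).h (cB d).h w, hXmem d w hw⟩ =
        F d ⟨Xi (gdE EM) (cA d).h (cB d).h w', hXmem d w' hw'⟩ →
      w - w' ∈ T2 ((gdE EM).Bn (AA' EM (idealAS 𝒜 mR).toIdeal d) (r + 1))
          ((gdE EN).Zn (AA' EN (idealAS ℬ mS).toIdeal d) (s + 1)) ⊔
        T2 ((gdE EM).Zn (AA' EM (idealAS 𝒜 mR).toIdeal d) (r + 1))
          ((gdE EN).Bn (AA' EN (idealAS ℬ mS).toIdeal d) (s + 1)) := by
    intro d w w' hw hw' h12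
    apply (D d).Xi_inj hr hs (lA d) (lB d) (w - w') (sub_mem hw hw')
    have h0 : F d (⟨Xi (gdE EM) (cA d).h (cB d).h w, hXmem d w hw⟩ -
        ⟨Xi (gdE EM) (cA d).h (cB d).h w', hXmem d w' hw'⟩) = 0 := by
      rw [map_sub, h12, sub_self]
    have h3 := (hFker d _).1 h0
    rw [map_sub]
    exact h3
  have Ract : ∀ (i d : ℤ), ∀ t ∈ 𝒯 i, ∀ (w : (bigX EM).carrier ⊗[k] (bigX EN).carrier)
      (hw : w ∈ T2 ((gdE EM).Zn (AA' EM (idealAS 𝒜 mR).toIdeal d) (r + 1))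
        ((gdE EN).Zn (AA' EN (idealAS ℬ mS).toIdeal d) (s + 1))),
      ∃ hw' : GrSeg.act k R S (bigX EM).carrier (bigX EN).carrier (ψ t) w ∈
          T2 ((gdE EM).Zn (AA' EM (idealAS 𝒜 mR).toIdeal (i + d)) (r + 1))
            ((gdE EN).Zn (AA' EN (idealAS ℬ mS).toIdeal (i + d)) (s + 1)),
        F (i + d) ⟨Xi (gdE EM) (cA (i + d)).h (cB (i + d)).h
            (GrSeg.act k R S (bigX EM).carrier (bigX EN).carrier (ψ t) w),
            hXmem (i + d) _ hw'⟩ =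
          t • F d ⟨Xi (gdE EM) (cA d).h (cB d).h w, hXmem d w hw⟩ := by
    intro i d t ht w hw
    have hσ : ψ t ∈ GrSeg.segrePiece k 𝒜 ℬ i := by
      rw [← hT.2 i]
      exact ⟨t, ht, rfl⟩
    have hw' := act_mem_T2Z EM EN mR mS (r + 1) (s + 1) i d hσ hw
    have hz' := act_mem_ZnKK EM EN mR mS (r + s + 1) i d hσ (hXmem d w hw)
    have h1 := hFeq d (i + d) t ⟨Xi (gdE EM) (cA d).h (cB d).h w, hXmem d w hw⟩ ⟨_, hz'⟩ rfl
    have h2 : F (i + d) (⟨_, hz'⟩ - ⟨Xi (gdE EM) (cA (i + d)).h (cB (i + d)).h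
        (GrSeg.act k R S (bigX EM).carrier (bigX EN).carrier (ψ t) w),
        hXmem (i + d) _ hw'⟩) = 0 :=
      (hFker (i + d) _).2
        (Xi_act EM EN mR mS hr hs i d hσ (lA d) (lB d) (lA (i + d)) (lB (i + d)) hw)
    rw [map_sub, sub_eq_zero] at h2
    exact ⟨hw', by rw [← h2, h1]⟩
  -- the pairing
  obtain ⟨b, hb⟩ : ∃ b : ℤ → PC → EP.H (idealAS 𝒯 mT) (r + s + 1) → k,
      ∀ (j : ℤ) (p : PC) (ξ : EP.H (idealAS 𝒯 mT) (r + s + 1))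
        (w : (bigX EM).carrier ⊗[k] (bigX EN).carrier)
        (hw : w ∈ T2 ((gdE EM).Zn (AA' EM (idealAS 𝒜 mR).toIdeal j) (r + 1))
          ((gdE EN).Zn (AA' EN (idealAS ℬ mS).toIdeal j) (s + 1))),
        F j ⟨Xi (gdE EM) (cA j).h (cB j).h w, hXmem j w hw⟩ = ξ →
          b j p ξ = kap (κA j) (κB j) (φC p) w := by
    refine ⟨fun j p ξ => if hξ : ξ ∈ EP.Hgr (idealAS 𝒯 mT) (r + s + 1) j then
      kap (κA j) (κB j) (φC p) (Classical.choose (Rex j ξ hξ)) else 0, ?_⟩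
    intro j p ξ w hw hFw
    have hξ : ξ ∈ EP.Hgr (idealAS 𝒯 mT) (r + s + 1) j := by
      rw [← hFw]
      exact hFmem j _
    simp only [dif_pos hξ]
    obtain ⟨hw0, hF0⟩ := Classical.choose_spec (Rex j ξ hξ)
    have h1 := Runiq j _ w hw0 hw (hF0.trans hFw.symm)
    have h2 := kap_bdry (κA j) (κB j) (hA1 j) (hB1 j) (φC p) _ h1
    rw [map_sub, sub_eq_zero] at h2
    exact h2
  refine ⟨b, ?_, ?_, ?_, ?_, ?_⟩
  · intro j p p' ξ hξ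
    obtain ⟨w, hw, hF⟩ := Rex j ξ hξ
    rw [hb j (p + p') ξ w hw hF, hb j p ξ w hw hF, hb j p' ξ w hw hF, map_add, map_add,
      LinearMap.add_apply]
  · intro j c p ξ hξ
    obtain ⟨w, hw, hF⟩ := Rex j ξ hξ
    rw [hb j (c • p) ξ w hw hF, hb j p ξ w hw hF, map_smul, map_smul, LinearMap.smul_apply,
      smul_eq_mul]
  · intro j p ξ ξ' hξ hξ'
    obtain ⟨w, hw, hF⟩ := Rex j ξ hξ
    obtain ⟨w', hw', hF'⟩ := Rex j ξ' hξ'
    have hadd : F j ⟨Xi (gdE EM) (cA j).h (cB j).h (w + w'), hXmem j _ (add_mem hw hw')⟩ =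
        ξ + ξ' := by
      have e : (⟨Xi (gdE EM) (cA j).h (cB j).h (w + w'), hXmem j _ (add_mem hw hw')⟩ :
          ↥((tens (gdE EM) (gdE EN)).Zn (KK EM EN mR mS j) (r + s + 1))) =
          ⟨Xi (gdE EM) (cA j).h (cB j).h w, hXmem j w hw⟩ +
            ⟨Xi (gdE EM) (cA j).h (cB j).h w', hXmem j w' hw'⟩ :=
        Subtype.ext (map_add (Xi (gdE EM) (cA j).h (cB j).h) w w')
      rw [e, map_add, hF, hF']
    rw [hb j p (ξ + ξ') (w + w') (add_mem hw hw') hadd, hb j p ξ w hw hF, hb j p ξ' w' hw' hF',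
      map_add]
  · intro i j t ht p ξ hξ
    obtain ⟨w, hw, hF⟩ := Rex j ξ hξ
    obtain ⟨hw', hF'⟩ := Ract i j t ht w hw
    rw [hF] at hF'
    have hσ : ψ t ∈ GrSeg.segrePiece k 𝒜 ℬ i := by
      rw [← hT.2 i]
      exact ⟨t, ht, rfl⟩
    rw [hb j (t • p) ξ w hw hF, hb (i + j) p (t • ξ) _ hw' hF', hPC.map_smul]
    exact kap_act EM EN mR mS (r + 1) (s + 1) κA κB hA2 hB2 i j hσ (φC p) hw
  · intro j ξ hξ hz
    obtain ⟨w, hw, hF⟩ := Rex j ξ hξ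
    obtain ⟨cA'⟩ := (gdE EM).exists_contr (D j).hA'
    obtain ⟨cB'⟩ := (gdE EN).exists_contr (D j).hB'
    have hwb : w ∈ T2 ((gdE EM).Bn (AA' EM (idealAS 𝒜 mR).toIdeal j) (r + 1))
          ((gdE EN).Zn (AA' EN (idealAS ℬ mS).toIdeal j) (s + 1)) ⊔
        T2 ((gdE EM).Zn (AA' EM (idealAS 𝒜 mR).toIdeal j) (r + 1))
          ((gdE EN).Bn (AA' EN (idealAS ℬ mS).toIdeal j) (s + 1)) := by
      refine kap_detect (κA j) (κB j) _ _ (cA'.ℋ (r + 1)) _ _ (cB'.ℋ (s + 1))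
        (cA'.ℋ_le _) (cA'.rep _).disj (cA'.rep _).span
        (cB'.ℋ_le _) (cB'.rep _).disj (cB'.rep _).span
        (𝒞A (-j) : Set CA) (𝒞B (-j) : Set CB) (hA1 j) (hB1 j) (hA3 j) (hB3 j) w hw
        (fun c hc c' hc' => ?_)
      have hmem : c ⊗ₜ[k] c' ∈ (GrSeg.segrePiece k 𝒞A 𝒞B (-j) : Set (CA ⊗[k] CB)) :=
        Submodule.subset_span ⟨c, hc, c', hc', rfl⟩
      rw [← hPC.image_piece (-j)] at hmem
      obtain ⟨p, hp, hpe⟩ := hmem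
      have h1 := hz p hp
      rw [hb j p ξ w hw hF, hpe] at h1
      exact h1
    rw [← hF]
    exact (hFker j _).2 ((D j).Xi_bdry hr hs (lA j) (lB j) w hwb)

end main

end seg

end Groth.Agent.Lib.SegPairH1
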