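import Mathlib
import Groth.Prelude.Def_GrLC
import Groth.Prelude.Def_GrSeg
import Groth.Prelude.Def_CAlg
import Groth.Agent.Lib.SegCan1_helper1
import Groth.Agent.Lib.SegPair_helper1
import Groth.Agent.Lib.GrMatlis_helper1
import Groth.Agent.Lib.CanVer_helper1
import Groth.Agent.Lib.GrDual2_helper1
import Groth.Agent.Lib.SegreFin_helper3

/-! The Segre product `K_R # K_S` of *canonical modules of graded rings `R`, `S` of dimension at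
least two over a field is a *canonical module of the Segre product `R # S` (Goto–Watanabe), in
module form (helper1, S19757).  APPEND-ONLY once landed. -/

set_option autoImplicit false
set_option maxHeartbeats 400000

namespace Groth.Agent.Lib.SegCan2H1

open scoped TensorProduct
open DirectSum GrLC Groth.Agent.Lib.GrXferH1 Groth.Agent.Lib.SegKun3H1 Groth.Agent.Lib.SegCMH1
  Groth.Agent.Lib.SegCM2H1 Groth.Agent.Lib.SegCM3H1 Groth.Agent.Lib.SocleH1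
  Groth.Agent.Lib.GorTopH1 Groth.Agent.Lib.GorTop2H1 Groth.Agent.Lib.GrHDecH1
  Groth.Agent.Lib.SegTopH1 Groth.Agent.Lib.SegreH3 Groth.Agent.Lib.SegGorH1
  Groth.Agent.Lib.CanDualH1 Groth.Agent.Lib.SegCanH1 Groth.Agent.Lib.SegPairH1
  Groth.Agent.Lib.GrMatlisH1 Groth.Agent.Lib.CanVerH1 Groth.Agent.Lib.BigResH1
  Groth.Agent.Lib.SegAcycH1 Groth.Agent.Lib.DVecH1 Groth.Agent.Lib.GrDual2H1

universe u

attribute [local instance] kMod kTower gsmulX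

/-! ### the pairing of a *canonical module with the cocycles of the top local cohomology -/

theorem exists_factor {k : Type u} [Field k] {R : Type u} [CommRing R] [Nontrivial R]
    [Algebra k R] [IsNoetherianRing R]
    (𝒜 : ℤ → Submodule k R) [GradedAlgebra 𝒜] [SetLike.GradedSMul 𝒜 (toAS 𝒜)]
    (hpos : ∀ n : ℤ, n < 0 → 𝒜 n = ⊥)
    (h0 : 𝒜 0 = Submodule.span k {(1 : R)}) (m : HomogeneousIdeal 𝒜)
    (hm : m.toIdeal = Ideal.span (⋃ n ∈ Set.Ioi (0 : ℤ), (𝒜 n : Set R)))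
    (I : GrLC.StarInjRes 𝒜 𝒜) (i : ℕ)
    (E : Type u) [AddCommGroup E] [Module R E] (𝓔 : ℤ → AddSubgroup E)
    [DirectSum.Decomposition 𝓔] [SetLike.GradedSMul 𝒜 𝓔] (e : (R ⧸ m.toIdeal) →ₗ[R] E)
    (he : GrLC.IsStarInjHull 𝒜 (GrLC.quotGr 𝒜 m) 𝓔 e)
    (C : Type u) [AddCommGroup C] [Module R C] [Module k C] [IsScalarTower k R C]
    (𝒞 : ℤ → AddSubgroup C) [DirectSum.Decomposition 𝒞] [SetLike.GradedSMul 𝒜 𝒞]
    (hC : GrLC.IsStarCanonical 𝒜 𝒞 𝓔 m i I) :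
    ∃ κ : ℤ → C →ₗ[k] (bigX (resAS 𝒜 I)).carrier →ₗ[k] k,
      (∀ (j : ℤ) (c : C),
        ∀ x ∈ (gdE (resAS 𝒜 I)).Bn (AA' (resAS 𝒜 I) (idealAS 𝒜 m).toIdeal j) i, κ j c x = 0) ∧
      (∀ (i' j : ℤ), ∀ ρ ∈ 𝒜 i', ∀ (c : C),
        ∀ x ∈ (gdE (resAS 𝒜 I)).Zn (AA' (resAS 𝒜 I) (idealAS 𝒜 m).toIdeal j) i,
          κ j (ρ • c) x = κ (i' + j) c (sm (resAS 𝒜 I) ρ x)) ∧
      (∀ (j : ℤ), ∀ x ∈ (gdE (resAS 𝒜 I)).Zn (AA' (resAS 𝒜 I) (idealAS 𝒜 m).toIdeal j) i,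
        (∀ c ∈ 𝒞 (-j), κ j c x = 0) →
          x ∈ (gdE (resAS 𝒜 I)).Bn (AA' (resAS 𝒜 I) (idealAS 𝒜 m).toIdeal j) i) := by
  classical
  have hf : IsField (deg0 (toAS 𝒜)) := isField_deg0 h0
  obtain ⟨hfin, φC, hφC⟩ := canonical_AS 𝒜 𝒞 𝓔 m i I hC
  haveI := hfin
  have he' := hull_AS 𝒜 𝓔 m e he
  letI := HDecomp (toAS 𝒜) (toAS 𝒜) (idealAS 𝒜 m) (resAS 𝒜 I) i
  haveI := HGSMul (toAS 𝒜) (toAS 𝒜) (idealAS 𝒜 m) (resAS 𝒜 I) i
  letI kE : Module k E := Module.compHom E (algebraMap k R)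
  haveI tE : IsScalarTower k R E := ⟨fun c r y => by
    show (c • r) • y = algebraMap k R c • (r • y)
    rw [Algebra.smul_def, mul_smul]⟩
  have hune := u_ne (toAS 𝒜) (hposAS hpos) hf (idealAS 𝒜 m) hm 𝓔 e he'
  have hfun : ∀ u : E, u ≠ 0 → ∃ ε : E →ₗ[k] k, ε u = 1 := by
    intro u hu
    obtain ⟨ε, -, hεu⟩ := LinearMap.exists_extend_of_notMem (K := k)
      (0 : (⊥ : Submodule k E) →ₗ[k] k) (v := u)
      (by rw [Submodule.mem_bot]; exact hu) 1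
    exact ⟨ε, hεu⟩
  obtain ⟨ε, hεu⟩ := hfun _ hune
  have hext : ∀ j : ℤ, ∃ g : (bigX (resAS 𝒜 I)).carrier →ₗ[k] C →ₗ[k] k,
      ∀ (x : (bigX (resAS 𝒜 I)).carrier)
        (hx : x ∈ (gdE (resAS 𝒜 I)).Zn (AA' (resAS 𝒜 I) (idealAS 𝒜 m).toIdeal j) i) (c : C),
        g x c = ε (φC.symm (br (resAS 𝒜 I) (idealAS 𝒜 m) i j ⟨x, hx⟩) c) := by
    intro j
    let L : ↥((gdE (resAS 𝒜 I)).Zn (AA' (resAS 𝒜 I) (idealAS 𝒜 m).toIdeal j) i) →ₗ[k]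
        C →ₗ[k] k :=
      LinearMap.mk₂ k (fun x c => ε (φC.symm (br (resAS 𝒜 I) (idealAS 𝒜 m) i j x) c))
        (fun x x' c => by
          show ε (φC.symm (br (resAS 𝒜 I) (idealAS 𝒜 m) i j (x + x')) c) =
            ε (φC.symm (br (resAS 𝒜 I) (idealAS 𝒜 m) i j x) c) +
              ε (φC.symm (br (resAS 𝒜 I) (idealAS 𝒜 m) i j x') c)
          rw [map_add, map_add, LinearMap.add_apply, map_add])
        (fun c₀ x c => by
          show ε (φC.symm (br (resAS 𝒜 I) (idealAS 𝒜 m) i j (c₀ • x)) c) =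
            c₀ • ε (φC.symm (br (resAS 𝒜 I) (idealAS 𝒜 m) i j x) c)
          rw [br_smul, map_smul, LinearMap.smul_apply, algebraMap_smul, map_smul])
        (fun x c c' => by
          show ε (φC.symm (br (resAS 𝒜 I) (idealAS 𝒜 m) i j x) (c + c')) =
            ε (φC.symm (br (resAS 𝒜 I) (idealAS 𝒜 m) i j x) c) +
              ε (φC.symm (br (resAS 𝒜 I) (idealAS 𝒜 m) i j x) c')
          rw [map_add, map_add])
        (fun c₀ x c => by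
          show ε (φC.symm (br (resAS 𝒜 I) (idealAS 𝒜 m) i j x) (c₀ • c)) =
            c₀ • ε (φC.symm (br (resAS 𝒜 I) (idealAS 𝒜 m) i j x) c)
          rw [← algebraMap_smul R c₀ c, map_smul, algebraMap_smul, map_smul])
    obtain ⟨g, hg⟩ := LinearMap.exists_extend L
    refine ⟨g, fun x hx c => ?_⟩
    have h1 := LinearMap.congr_fun hg ⟨x, hx⟩
    exact LinearMap.congr_fun h1 c
  choose G hG using hext
  refine ⟨fun j => (G j).flip, ?_, ?_, ?_⟩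
  · intro j c x hx
    have hxZ := Bn_le_Zn (gdE (resAS 𝒜 I)) (stable_AA' (resAS 𝒜 I) (idealAS 𝒜 m).toIdeal j) i hx
    rw [LinearMap.flip_apply, hG j x hxZ c,
      (br_ker (resAS 𝒜 I) (idealAS 𝒜 m) i j ⟨x, hxZ⟩).2 hx, map_zero, LinearMap.zero_apply,
      map_zero]
  · intro i' j ρ hρ c x hx
    have hsx := sm_mem_Zn (resAS 𝒜 I) (idealAS 𝒜 m) i hρ hx
    have hbr : br (resAS 𝒜 I) (idealAS 𝒜 m) i (i' + j) ⟨sm (resAS 𝒜 I) ρ x, hsx⟩ =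
        ρ • br (resAS 𝒜 I) (idealAS 𝒜 m) i j ⟨x, hx⟩ :=
      br_sm (resAS 𝒜 I) (idealAS 𝒜 m) i hρ ⟨x, hx⟩
    rw [LinearMap.flip_apply, LinearMap.flip_apply, hG j x hx (ρ • c),
      hG (i' + j) (sm (resAS 𝒜 I) ρ x) hsx c, hbr]
    simp only [map_smul, LinearMap.smul_apply]
  · intro j x hx hzero
    obtain ⟨h, hh⟩ : ∃ h, h = br (resAS 𝒜 I) (idealAS 𝒜 m) i j ⟨x, hx⟩ := ⟨_, rfl⟩
    have hmem : h ∈ (resAS 𝒜 I).Hgr (idealAS 𝒜 m) i j := by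
      rw [hh]
      exact br_mem (resAS 𝒜 I) (idealAS 𝒜 m) i j _
    obtain ⟨β, hβ⟩ : ∃ β : C →ₗ[R] (resAS 𝒜 I).H (idealAS 𝒜 m) i →ₗ[R] E,
        ∀ c h, β c h = φC.symm h c := ⟨(φC.symm.toLinearMap).flip, fun _ _ => rfl⟩
    have hh0 : h = 0 := by
      refine nondeg_right (toAS 𝒜) (hposAS hpos) hf (idealAS 𝒜 m) hm 𝓔 e he' 𝒞
        ((resAS 𝒜 I).Hgr (idealAS 𝒜 m) i) φC hφC β hβ (i := -j)
        (by rw [neg_neg]; exact hmem) (fun c hc => ?_)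
      rw [hβ]
      have hy : φC.symm h c ∈ 𝓔 0 := mem_of_eq 𝓔 (neg_add_cancel j)
        (symm_mem (toAS 𝒜) 𝓔 𝒞 ((resAS 𝒜 I).Hgr (idealAS 𝒜 m) i) φC hφC hmem (-j) c hc)
      obtain ⟨a₀, ha₀, hya⟩ := exists_eq_smul_u (toAS 𝒜) (hposAS hpos) hf (idealAS 𝒜 m) hm
        𝓔 e he' hy
      obtain ⟨c₀, rfl⟩ := (mem_zero_iff h0 a₀).1 ha₀
      have h1 := hzero c hc
      rw [LinearMap.flip_apply, hG j x hx c, ← hh, hya, algebraMap_smul, map_smul, hεu,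
        smul_eq_mul, mul_one] at h1
      rw [hya, h1, map_zero, zero_smul]
    rw [hh] at hh0
    exact (br_ker (resAS 𝒜 I) (idealAS 𝒜 m) i j ⟨x, hx⟩).1 hh0

/-! ### the Hilbert function of a Segre product of modules -/
section hilb

variable {k : Type u} [Field k]
  {R : Type u} [CommRing R] [Algebra k R] {𝒜 : ℤ → Submodule k R} [GradedAlgebra 𝒜]
  {S : Type u} [CommRing S] [Algebra k S] {ℬ : ℤ → Submodule k S} [GradedAlgebra ℬ]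
  {T : Type u} [CommRing T] [Algebra k T] {𝒯 : ℤ → Submodule k T} [GradedAlgebra 𝒯]
  {ψ : T →ₐ[k] R ⊗[k] S}

theorem finrank_comp_eq [Nontrivial R] (h0 : 𝒜 0 = Submodule.span k {(1 : R)})
    {M : Type u} [AddCommGroup M] [Module R M] [Module k M] [IsScalarTower k R M]
    (ℳ : ℤ → AddSubgroup M) [Decomposition ℳ] [SetLike.GradedSMul 𝒜 ℳ] (n : ℤ) :
    Module.finrank (deg0 (toAS 𝒜)) (comp (toAS 𝒜) ℳ n) =
      Module.finrank k (compk 𝒜 ℳ n) := by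
  have hD : ∀ r : R, r ∈ deg0 (toAS 𝒜) ↔ ∃ c : k, algebraMap k R c = r :=
    fun r => mem_zero_iff h0 r
  let i : k → deg0 (toAS 𝒜) := fun c => ⟨algebraMap k R c, (hD _).2 ⟨c, rfl⟩⟩
  have hi : Function.Bijective i := by
    constructor
    · intro c c' h
      exact (algebraMap k R).injective (congrArg Subtype.val h)
    · rintro ⟨r, hr⟩
      obtain ⟨c, rfl⟩ := (hD r).1 hr
      exact ⟨c, rfl⟩
  let j : ↥(compk 𝒜 ℳ n) ≃+ ↥(comp (toAS 𝒜) ℳ n) :=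
    { toFun := fun x => ⟨x.1, x.2⟩
      invFun := fun y => ⟨y.1, y.2⟩
      left_inv := fun _ => rfl
      right_inv := fun _ => rfl
      map_add' := fun _ _ => rfl }
  exact (finrank_semilin i hi j
    (fun c x => Subtype.ext ((algebraMap_smul R c (x : M)).symm))).symm

theorem finrank_segreMod
    {M : Type u} [AddCommGroup M] [Module R M] [Module k M] [IsScalarTower k R M]
    {ℳ : ℤ → AddSubgroup M} [Decomposition ℳ] [SetLike.GradedSMul 𝒜 ℳ]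
    {N : Type u} [AddCommGroup N] [Module S N] [Module k N] [IsScalarTower k S N]
    {𝒩 : ℤ → AddSubgroup N} [Decomposition 𝒩] [SetLike.GradedSMul ℬ 𝒩]
    {P : Type u} [AddCommGroup P] [Module T P] [Module k P] [IsScalarTower k T P]
    {𝒬 : ℤ → AddSubgroup P} [Decomposition 𝒬] [SetLike.GradedSMul 𝒯 𝒬]
    {φ : P →ₗ[k] M ⊗[k] N} (hP : GrSeg.IsSegreMod ψ ℳ 𝒩 𝒬 φ) (n : ℤ) :
    Module.finrank k (compk 𝒯 𝒬 n) =
      Module.finrank k (compk 𝒜 ℳ n) * Module.finrank k (compk ℬ 𝒩 n) := by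
  have e1 : ↥(compk 𝒯 𝒬 n) ≃ₗ[k] ↥((compk 𝒯 𝒬 n).map φ) :=
    Submodule.equivMapOfInjective φ hP.injective _
  have h3 : T2 (compk 𝒜 ℳ n) (compk ℬ 𝒩 n) = GrSeg.segrePiece k ℳ 𝒩 n :=
    le_antisymm
      (Submodule.span_mono (fun x hx => by
        obtain ⟨a, ha, b, hb, e⟩ := hx
        exact ⟨a, ha, b, hb, e⟩))
      (Submodule.span_mono (fun x hx => by
        obtain ⟨a, ha, b, hb, e⟩ := hx
        exact ⟨a, ha, b, hb, e⟩))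
  have h2 : (compk 𝒯 𝒬 n).map φ = T2 (compk 𝒜 ℳ n) (compk ℬ 𝒩 n) := by
    apply SetLike.coe_injective
    rw [h3, Submodule.map_coe]
    exact hP.image_piece n
  rw [e1.finrank_eq, h2, T2_eq_range, LinearMap.finrank_range_of_inj (mapIncl_injective _ _),
    Module.finrank_tensorProduct]

end hilb

/-! ### S19757 -/

theorem main19757 (k : Type u) [Field k] (R : Type u) [CommRing R] [Algebra k R]
    (𝒜 : ℤ → Submodule k R) [GradedAlgebra 𝒜] (hposR : ∀ n : ℤ, n < 0 → 𝒜 n = ⊥)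
    (h0R : 𝒜 0 = Submodule.span k {(1 : R)}) [Algebra.FiniteType k R]
    (S : Type u) [CommRing S] [Algebra k S] (ℬ : ℤ → Submodule k S) [GradedAlgebra ℬ]
    (hposS : ∀ n : ℤ, n < 0 → ℬ n = ⊥) (h0S : ℬ 0 = Submodule.span k {(1 : S)})
    [Algebra.FiniteType k S]
    (T : Type u) [CommRing T] [Algebra k T] (𝒯 : ℤ → Submodule k T) [GradedAlgebra 𝒯]
    (ψ : T →ₐ[k] TensorProduct k R S) (hT : GrSeg.IsSegreRing 𝒜 ℬ 𝒯 ψ)
    (mR : HomogeneousIdeal 𝒜)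
    (hmR : mR.toIdeal = Ideal.span (⋃ n ∈ Set.Ioi (0 : ℤ), (𝒜 n : Set R)))
    (I : GrLC.StarInjRes 𝒜 𝒜) (mS : HomogeneousIdeal ℬ)
    (hmS : mS.toIdeal = Ideal.span (⋃ n ∈ Set.Ioi (0 : ℤ), (ℬ n : Set S)))
    (J : GrLC.StarInjRes ℬ ℬ) (mT : HomogeneousIdeal 𝒯)
    (hmT : mT.toIdeal = Ideal.span (⋃ n ∈ Set.Ioi (0 : ℤ), (𝒯 n : Set T)))
    (IT : GrLC.StarInjRes 𝒯 𝒯) (r s : ℕ) (hr : ringKrullDim R = r) (hs : ringKrullDim S = s)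
    (h2r : 2 ≤ r) (h2s : 2 ≤ s)
    (ER : Type u) [AddCommGroup ER] [Module R ER] (𝓔R : ℤ → AddSubgroup ER)
    [DirectSum.Decomposition 𝓔R] [SetLike.GradedSMul 𝒜 𝓔R] (eR : (R ⧸ mR.toIdeal) →ₗ[R] ER)
    (heR : GrLC.IsStarInjHull 𝒜 (GrLC.quotGr 𝒜 mR) 𝓔R eR)
    (CR : Type u) [AddCommGroup CR] [Module R CR] [Module k CR] [IsScalarTower k R CR]
    (𝒞R : ℤ → AddSubgroup CR)
    [DirectSum.Decomposition 𝒞R] [SetLike.GradedSMul 𝒜 𝒞R]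
    (hCR : GrLC.IsStarCanonical 𝒜 𝒞R 𝓔R mR r I)
    (ES : Type u) [AddCommGroup ES] [Module S ES] (𝓔S : ℤ → AddSubgroup ES)
    [DirectSum.Decomposition 𝓔S] [SetLike.GradedSMul ℬ 𝓔S] (eS : (S ⧸ mS.toIdeal) →ₗ[S] ES)
    (heS : GrLC.IsStarInjHull ℬ (GrLC.quotGr ℬ mS) 𝓔S eS)
    (CS : Type u) [AddCommGroup CS] [Module S CS] [Module k CS] [IsScalarTower k S CS]
    (𝒞S : ℤ → AddSubgroup CS)
    [DirectSum.Decomposition 𝒞S] [SetLike.GradedSMul ℬ 𝒞S]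
    (hCS : GrLC.IsStarCanonical ℬ 𝒞S 𝓔S mS s J)
    (ET : Type u) [AddCommGroup ET] [Module T ET] (𝓔T : ℤ → AddSubgroup ET)
    [DirectSum.Decomposition 𝓔T] [SetLike.GradedSMul 𝒯 𝓔T] (eT : (T ⧸ mT.toIdeal) →ₗ[T] ET)
    (heT : GrLC.IsStarInjHull 𝒯 (GrLC.quotGr 𝒯 mT) 𝓔T eT)
    (P : Type u) [AddCommGroup P] [Module T P] [Module k P] [IsScalarTower k T P]
    (𝒬 : ℤ → AddSubgroup P) [DirectSum.Decomposition 𝒬] [SetLike.GradedSMul 𝒯 𝒬]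
    (φ : P →ₗ[k] TensorProduct k CR CS) (hP : GrSeg.IsSegreMod ψ 𝒞R 𝒞S 𝒬 φ) :
    GrLC.IsStarCanonical 𝒯 𝒬 𝓔T mT (r + s - 1) IT := by
  haveI : Nontrivial R := nontrivial_of_dim r hr
  haveI : Nontrivial S := nontrivial_of_dim s hs
  haveI : IsNoetherianRing R := Algebra.FiniteType.isNoetherianRing k R
  haveI : IsNoetherianRing S := Algebra.FiniteType.isNoetherianRing k S
  haveI : IsNoetherianRing T := Groth.Agent.Lib.SegreNoeth.main 𝒜 ℬ 𝒯 ψ hT.2 hT.1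
  haveI : Nontrivial T := nontrivial_T hT
  have h0T := deg_zero_T hT h0R h0S
  have hposT := hpos_T hT hposR
  have hfR : IsField (deg0 (toAS 𝒜)) := isField_deg0 h0R
  have hfS : IsField (deg0 (toAS ℬ)) := isField_deg0 h0S
  have hfT : IsField (deg0 (toAS 𝒯)) := isField_deg0 h0T
  have hstarR : IsStarLocal (toAS 𝒜) (idealAS 𝒜 mR) := isStarLocal_irr hposR h0R mR hmR
  have hstarS : IsStarLocal (toAS ℬ) (idealAS ℬ mS) := isStarLocal_irr hposS h0S mS hmS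
  obtain ⟨r', rfl⟩ : ∃ r', r = r' + 1 + 1 := ⟨r - 2, by omega⟩
  obtain ⟨s', rfl⟩ : ∃ s', s = s' + 1 + 1 := ⟨s - 2, by omega⟩
  have hhtR : (idealAS 𝒜 mR).toIdeal.height = ((r' + 1 + 1 : ℕ) : ℕ∞) := by
    have h1 := Groth.Agent.Lib.GorCanH1.ringKrullDim_eq_height (toAS 𝒜) (hposAS hposR) hfR _ hstarR
    rw [hr] at h1
    exact (WithBot.coe_injective h1).symm
  have hhtS : (idealAS ℬ mS).toIdeal.height = ((s' + 1 + 1 : ℕ) : ℕ∞) := by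
    have h1 := Groth.Agent.Lib.GorCanH1.ringKrullDim_eq_height (toAS ℬ) (hposAS hposS) hfS _ hstarS
    rw [hs] at h1
    exact (WithBot.coe_injective h1).symm
  have hq : r' + 1 + 1 + (s' + 1 + 1) - 1 = r' + 1 + (s' + 1) + 1 := by omega
  rw [hq]
  haveI : SetLike.GradedSMul 𝒜 (toAS 𝒜) := gsmul_of 𝒜 (toAS 𝒜)
  haveI : SetLike.GradedSMul ℬ (toAS ℬ) := gsmul_of ℬ (toAS ℬ)
  haveI : SetLike.GradedSMul 𝒯 (toAS 𝒯) := gsmul_of 𝒯 (toAS 𝒯)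
  have hPself := segreMod_self hT
  haveI := hCR.1
  haveI := hCS.1
  haveI hfinP : Module.Finite T P := finite_segre k R 𝒜 S ℬ T 𝒯 ψ hT CR 𝒞R CS 𝒞S P 𝒬 φ hP
  -- the pairings of the factors
  obtain ⟨κA, hA1, hA2, hA3⟩ := exists_factor 𝒜 hposR h0R mR hmR I (r' + 1 + 1) ER 𝓔R eR heR
    CR 𝒞R hCR
  obtain ⟨κB, hB1, hB2, hB3⟩ := exists_factor ℬ hposS h0S mS hmS J (s' + 1 + 1) ES 𝓔S eS heS
    CS 𝒞S hCS
  have vM : ∀ (d : ℤ) (i : ℕ), r' + 1 + 1 < i →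
      ∀ x ∈ (resAS 𝒜 I).Hgr (idealAS 𝒜 mR) i d, x = 0 := fun d i hi x _ => by
    haveI := H_subsingleton_of_gt (toAS 𝒜) (idealAS 𝒜 mR) hstarR (r' + 1 + 1) hhtR
      (resAS 𝒜 I) i hi
    exact Subsingleton.elim x 0
  have vN : ∀ (d : ℤ) (j : ℕ), s' + 1 + 1 < j →
      ∀ x ∈ (resAS ℬ J).Hgr (idealAS ℬ mS) j d, x = 0 := fun d j hj x _ => by
    haveI := H_subsingleton_of_gt (toAS ℬ) (idealAS ℬ mS) hstarS (s' + 1 + 1) hhtS
      (resAS ℬ J) j hj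
    exact Subsingleton.elim x 0
  obtain ⟨b, b1, b2, b3, b4, b5⟩ := exists_pairing hT (resAS 𝒜 I) (resAS ℬ J) mR mS mT hmR hmS
    hmT (toAS 𝒯) ψ.toLinearMap hPself (resAS 𝒯 IT) (r := r' + 1) (s := s' + 1) (by omega)
    (by omega) vM vN 𝒞R 𝒞S 𝒬 φ hP κA hA1 hA2 hA3 κB hB1 hB2 hB3
  -- the hull of `T`
  have heT' := hull_AS 𝒯 𝓔T mT eT heT
  letI := HDecomp (toAS 𝒯) (toAS 𝒯) (idealAS 𝒯 mT) (resAS 𝒯 IT) (r' + 1 + (s' + 1) + 1)
  haveI := HGSMul (toAS 𝒯) (toAS 𝒯) (idealAS 𝒯 mT) (resAS 𝒯 IT) (r' + 1 + (s' + 1) + 1)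
  obtain ⟨uT, huT⟩ : ∃ uT : ET, uT = eT (Ideal.Quotient.mk (idealAS 𝒯 mT).toIdeal 1) :=
    ⟨_, rfl⟩
  have huT_mem : uT ∈ 𝓔T 0 := by
    rw [huT]
    exact u_mem (toAS 𝒯) (idealAS 𝒯 mT) 𝓔T eT heT'
  have huT_ne : uT ≠ 0 := by
    rw [huT]
    exact u_ne (toAS 𝒯) (hposAS hposT) hfT (idealAS 𝒯 mT) hmT 𝓔T eT heT'
  have hcu : ∀ c : k, algebraMap k T c • uT = 0 → c = 0 := by
    intro c hc
    by_contra hne
    apply huT_ne
    have h1 : uT = algebraMap k T (c⁻¹) • (algebraMap k T c • uT) := by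
      rw [← mul_smul, ← map_mul, inv_mul_cancel₀ hne, map_one, one_smul]
    rw [h1, hc, smul_zero]
  have halg : ∀ a ∈ toAS 𝒯 0, ∃ c : k, algebraMap k T c = a :=
    fun a ha => (mem_zero_iff h0T a).1 ha
  have hmem0 : ∀ c : k, algebraMap k T c • uT ∈ 𝓔T 0 := by
    intro c
    have h1 := Groth.Agent.Lib.GrStarH1.smul_mem_gr (toAS 𝒯) 𝓔T
      (Groth.Agent.Lib.BigResH1.algebraMap_mem_zero (𝒜 := 𝒯) c) huT_mem
    rwa [zero_add] at h1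
  obtain ⟨b', hb'⟩ : ∃ b' : ℤ → P →
      (resAS 𝒯 IT).H (idealAS 𝒯 mT) (r' + 1 + (s' + 1) + 1) → ET,
      ∀ j p ξ, b' j p ξ = algebraMap k T (b j p ξ) • uT := ⟨_, fun _ _ _ => rfl⟩
  have hdim : ∀ j : ℤ, Module.finrank (deg0 (toAS 𝒯)) ↥(comp (toAS 𝒯) 𝒬 (-j)) =
      Module.finrank (deg0 (toAS 𝒯))
        ↥(comp (toAS 𝒯) ((resAS 𝒯 IT).Hgr (idealAS 𝒯 mT) (r' + 1 + (s' + 1) + 1)) j) := by
    intro j
    have dR := finrank_canon_AS 𝒜 hposR h0R mR hmR I (r' + 1 + 1) ER 𝓔R eR heR CR 𝒞R hCR (-j)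
    have dS := finrank_canon_AS ℬ hposS h0S mS hmS J (s' + 1 + 1) ES 𝓔S eS heS CS 𝒞S hCS (-j)
    rw [neg_neg] at dR dS
    have hcount := top_count_gen k R 𝒜 hposR h0R S ℬ hposS h0S T 𝒯 ψ hT mR hmR mS hmS mT hmT
      R (toAS 𝒜) (resAS 𝒜 I) S (toAS ℬ) (resAS ℬ J) T (toAS 𝒯) ψ.toLinearMap hPself
      (resAS 𝒯 IT) j (r := r' + 1) (s := s' + 1) (by omega) (by omega) (vM j) (vN j)
    have hc : comp (toAS 𝒯) ((resAS 𝒯 IT).Hgr (idealAS 𝒯 mT) (r' + 1 + (s' + 1) + 1)) j =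
        (resAS 𝒯 IT).Hcomp (idealAS 𝒯 mT) (r' + 1 + (s' + 1) + 1) j :=
      Submodule.ext (fun x => Iff.rfl)
    rw [hc, hcount, ← dR, ← dS, finrank_comp_eq h0T 𝒬, finrank_comp_eq h0R 𝒞R,
      finrank_comp_eq h0S 𝒞S]
    exact finrank_segreMod hP (-j)
  obtain ⟨φ', hφ'⟩ := recognize_hom (toAS 𝒯) (hposAS hposT) hfT (idealAS 𝒯 mT) hmT 𝓔T eT heT' 𝒬
    ((resAS 𝒯 IT).Hgr (idealAS 𝒯 mT) (r' + 1 + (s' + 1) + 1)) b'
    (fun j x _ h _ => by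
      rw [hb']
      exact hmem0 _)
    (fun j x _ x' _ h hh => by
      rw [hb', hb', hb', b1 j x x' h hh, map_add, add_smul])
    (fun j a ha x _ h hh => by
      obtain ⟨c, rfl⟩ := halg a ha
      rw [hb', hb', algebraMap_smul T c x, b2 j c x h hh, map_mul, mul_smul])
    (fun j x _ h hh h' hh' => by
      rw [hb', hb', hb', b3 j x h h' hh hh', map_add, add_smul])
    (fun i j t ht x _ h hh => by
      rw [hb', hb', b4 i j t ht x h hh])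
    (fun j h hh hz => b5 j h hh (fun p hp => hcu _ (by
      have h1 := hz p hp
      rw [hb'] at h1
      exact h1)))
    hdim
    (fun j => Groth.Agent.Lib.GrLES4H1.main13226 (toAS 𝒯) (hposAS hposT) (idealAS 𝒯 mT) hmT T
      (toAS 𝒯) (resAS 𝒯 IT) (r' + 1 + (s' + 1) + 1) j)
  exact ⟨hfinP, φ', fun d f hf => hφ' d f hf⟩

end Groth.Agent.Lib.SegCan2H1
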