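import Mathlib
import Groth.Prelude.Def_GrLC
import Groth.Prelude.Def_Wider
import Groth.Agent.Lib.BassZero_helper1

/-! The length of the socle of a localization at a maximal ideal with a coefficient field is the
dimension of the socle (helper1). -/

set_option autoImplicit false

namespace Groth.Agent.Lib.SocLenH1

open Groth.Agent.Lib.BassZeroH1

universe u

section general

variable {A : Type u} [CommRing A] [IsNoetherianRing A] (p : Ideal A) [p.IsPrime]
variable (N : Type u) [AddCommGroup N] [Module A N]

/-- the socle with respect to `p` -/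
def socle : Submodule A N where
  carrier := {x | ∀ r ∈ p, r • x = 0}
  zero_mem' := fun r _ => smul_zero r
  add_mem' := fun {x y} hx hy r hr => by
    rw [smul_add, hx r hr, hy r hr, add_zero]
  smul_mem' := fun c x hx r hr => by
    rw [smul_comm, hx r hr, smul_zero]

omit [IsNoetherianRing A] [p.IsPrime] in
theorem mem_socle {x : N} : x ∈ socle p N ↔ ∀ r ∈ p, r • x = 0 := Iff.rfl

theorem socMap_socle_bijective : Function.Bijective (socMap p (socle p N).subtype) := by
  constructor
  · intro a b hab
    apply Subtype.ext
    apply LocalizedModule.map_injective p.primeCompl _ (Submodule.injective_subtype _)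
    exact congrArg Subtype.val hab
  · rintro ⟨y, hy⟩
    revert hy
    refine LocalizedModule.induction_on (fun x s hy => ?_) y
    obtain ⟨t, ht⟩ := exists_common p x s hy
    refine ⟨⟨LocalizedModule.mk (⟨(t : A) • x, ht⟩ : ↥(socle p N)) (t * s), ?_⟩, ?_⟩
    · rw [mem_soc]
      intro r hr
      rw [LocalizedModule.smul'_mk]
      have h1 : r • (⟨(t : A) • x, ht⟩ : ↥(socle p N)) = 0 := Subtype.ext (ht r hr)
      rw [h1, LocalizedModule.zero_mk]
    · apply Subtype.ext
      show LocalizedModule.map p.primeCompl (socle p N).subtype
        (LocalizedModule.mk (⟨(t : A) • x, ht⟩ : ↥(socle p N)) (t * s)) = LocalizedModule.mk x s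
      rw [LocalizedModule.map_mk]
      exact LocalizedModule.mk_cancel_common_left t s x

theorem length_soc_socle :
    Module.length (Localization.AtPrime p) (soc p (LocalizedModule p.primeCompl N)) =
      Module.length (Localization.AtPrime p)
        (soc p (LocalizedModule p.primeCompl ↥(socle p N))) :=
  ((LinearEquiv.ofBijective _ (socMap_socle_bijective p N)).length_eq).symm

end general

section field

variable {A : Type u} [CommRing A] [IsNoetherianRing A] (p : Ideal A) [p.IsPrime]
variable (k : Subring A) (hk : IsField k) (hsplit : ∀ r : A, ∃ c ∈ k, r - c ∈ p)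
variable {S : Type u} [AddCommGroup S] [Module A S] (hS : ∀ r ∈ p, ∀ x : S, r • x = 0)

include hsplit hS in
omit [IsNoetherianRing A] [p.IsPrime] in
theorem smul_eq_sub (r : A) (x : S) : ∃ c : k, r • x = c • x := by
  obtain ⟨c, hc, hrc⟩ := hsplit r
  refine ⟨⟨c, hc⟩, ?_⟩
  have h1 := hS _ hrc x
  rw [sub_smul, sub_eq_zero] at h1
  exact h1

include hk hsplit hS in
theorem data_of_basis {ι : Type u} (b : Module.Basis ι k S) :
    Data (fun α => Submodule.span A {(b α : S)}) (fun _ : ι => p) (fun α => (b α : S)) := by
  classical
  letI : Field k := hk.toField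
  refine ⟨?ind, ?top, fun _ => inferInstance, fun α => Submodule.mem_span_singleton_self _,
    ?ann, ?ess⟩
  case ind =>
    intro i
    rw [Submodule.disjoint_def]
    intro x hx1 hx2
    let K : Submodule A S :=
      { carrier := {y | b.repr y i = 0}
        zero_mem' := by
          show b.repr 0 i = 0
          rw [map_zero, Finsupp.zero_apply]
        add_mem' := fun {y z} hy hz => by
          have hy' : b.repr y i = 0 := hy
          have hz' : b.repr z i = 0 := hz
          show b.repr (y + z) i = 0
          rw [map_add, Finsupp.add_apply, hy', hz', add_zero]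
        smul_mem' := fun r y hy => by
          have hy' : b.repr y i = 0 := hy
          obtain ⟨c, hc⟩ := smul_eq_sub p k hsplit hS r y
          show b.repr (r • y) i = 0
          rw [hc, map_smul, Finsupp.smul_apply, hy', smul_zero] }
    have hle : (⨆ (j : ι) (_ : j ≠ i), Submodule.span A {(b j : S)}) ≤ K := by
      refine iSup₂_le (fun j hj => ?_)
      rw [Submodule.span_le, Set.singleton_subset_iff]
      show b.repr (b j) i = 0
      rw [b.repr_self, Finsupp.single_apply, if_neg hj]
    have hxK : b.repr x i = 0 := hle hx2
    obtain ⟨r, rfl⟩ := Submodule.mem_span_singleton.1 hx1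
    obtain ⟨c, hc⟩ := smul_eq_sub p k hsplit hS r (b i)
    rw [hc, map_smul, Finsupp.smul_apply, b.repr_self, Finsupp.single_eq_same, smul_eq_mul,
      mul_one] at hxK
    rw [hc, hxK, zero_smul]
  case top =>
    rw [eq_top_iff]
    intro x _
    rw [← b.linearCombination_repr x, Finsupp.linearCombination_apply]
    refine Submodule.sum_mem _ (fun α _ => ?_)
    have h1 : (b α : S) ∈ ⨆ α, Submodule.span A {(b α : S)} :=
      (le_iSup (fun α => Submodule.span A {(b α : S)}) α) (Submodule.mem_span_singleton_self _)
    exact Submodule.smul_mem _ ((b.repr x α : k) : A) h1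
  case ann =>
    intro α s
    constructor
    · intro hs
      obtain ⟨c, hc, hsc⟩ := hsplit s
      have h1 := hS _ hsc (b α)
      rw [sub_smul, hs, zero_sub, neg_eq_zero] at h1
      have h2 : (⟨c, hc⟩ : k) • (b α : S) = 0 := h1
      rcases smul_eq_zero.1 h2 with h3 | h3
      · have hc0 : c = 0 := congrArg Subtype.val h3
        rw [hc0, sub_zero] at hsc
        exact hsc
      · exact absurd h3 (b.ne_zero α)
    · intro hs
      exact hS s hs (b α)
  case ess =>
    intro α x hx hx0
    obtain ⟨r, rfl⟩ := Submodule.mem_span_singleton.1 hx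
    exact ⟨1, r, one_smul _ _, hx0⟩

include hk hsplit in
theorem length_soc_eq_finrank (N : Type u) [AddCommGroup N] [Module A N]
    [Module.Finite k ↥(socle p N)] :
    Module.length (Localization.AtPrime p) (soc p (LocalizedModule p.primeCompl N)) =
      (Module.finrank k ↥(socle p N) : ℕ∞) := by
  letI : Field k := hk.toField
  have hS : ∀ r ∈ p, ∀ x : ↥(socle p N), r • x = 0 := fun r hr x => Subtype.ext (x.2 r hr)
  rw [length_soc_socle p N,
    length_soc p (data_of_basis p k hk hsplit hS (Module.Free.chooseBasis k ↥(socle p N))),
    ENat.card_congr (Equiv.subtypeUnivEquiv (fun _ => rfl)), ENat.card_eq_coe_fintype_card,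
    Module.finrank_eq_card_chooseBasisIndex]

end field

end Groth.Agent.Lib.SocLenH1
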