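import Mathlib
import Groth.Prelude.Def_GrLC
import Groth.Prelude.Def_GrLC2
import Groth.Prelude.Def_CAlg
import Groth.Prelude.Def_Wider
import Groth.Agent.Lib.VerGor2_helper1
import Groth.Agent.Lib.SocLen_helper1

/-! The type of a Veronese subring of a standard graded Gorenstein ring over a field
(helper1, S18655). -/

set_option autoImplicit false

namespace Groth.Agent.Lib.VerTypeH1

open DirectSum GrLC Groth.Agent.Lib.GrStarH1 Groth.Agent.Lib.GrStar2H1 Groth.Agent.Lib.GrStar3H1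
  Groth.Agent.Lib.GrStar4H1 Groth.Agent.Lib.GrLES1H1 Groth.Agent.Lib.BassZeroH1
  Groth.Agent.Lib.BassShiftH1 Groth.Agent.Lib.MinResH1 Groth.Agent.Lib.GorTopH1
  Groth.Agent.Lib.GorLocH1 Groth.Agent.Lib.GorTop2H1 Groth.Agent.Lib.SocleH1
  Groth.Agent.Lib.GrHDecH1 Groth.Agent.Lib.Ver1H1 Groth.Agent.Lib.GrHS3H1
  Groth.Agent.Lib.VerGorH1 Groth.Agent.Lib.VerGor2H1 Groth.Agent.Lib.SocLenH1

universe u

attribute [local instance] shiftDecomp shift_gsmul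

/-! ### standard gradings -/
section std

variable {R : Type u} [CommRing R] (𝒜 : ℤ → AddSubgroup R) [GradedRing 𝒜]
  (hstd : Ideal.span (⋃ n ∈ Set.Ioi (0 : ℤ), (𝒜 n : Set R)) =
    Ideal.span ((𝒜 1 : AddSubgroup R) : Set R))
variable {H : Type u} [AddCommGroup H] [Module R H]

include hstd in
theorem exists_deg_one {i : ℤ} (hi : 0 < i) {r : R} (hr : r ∈ 𝒜 i) {x : H} (hrx : r • x ≠ 0) :
    ∃ s ∈ 𝒜 1, s • x ≠ 0 := by
  by_contra hcon
  push_neg at hcon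
  apply hrx
  have h1 : r ∈ Ideal.span ((𝒜 1 : AddSubgroup R) : Set R) := by
    rw [← hstd]
    exact Ideal.subset_span (Set.mem_iUnion₂.2 ⟨i, hi, hr⟩)
  have hle : Ideal.span ((𝒜 1 : AddSubgroup R) : Set R) ≤
      LinearMap.ker (LinearMap.toSpanSingleton R H x) := by
    rw [Ideal.span_le]
    intro s hs
    rw [SetLike.mem_coe, LinearMap.mem_ker, LinearMap.toSpanSingleton_apply]
    exact hcon s hs
  have h2 := LinearMap.mem_ker.1 (hle h1)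
  rwa [LinearMap.toSpanSingleton_apply] at h2

variable (𝓗 : ℤ → AddSubgroup H) [SetLike.GradedSMul 𝒜 𝓗] (a : ℤ)
  (hess : ∀ (j : ℤ) (x : H), x ∈ 𝓗 j → x ≠ 0 → ∃ r ∈ 𝒜 (a - j), r • x ≠ 0)

include hstd hess in
theorem exists_deg_t (t : ℕ) : ∀ (l : ℤ) (x : H), x ∈ 𝓗 l → x ≠ 0 → l + t ≤ a →
    ∃ s ∈ 𝒜 (t : ℤ), s • x ≠ 0 := by
  induction t with
  | zero =>
    intro l x _ hx0 _
    refine ⟨1, ?_, by rwa [one_smul]⟩
    rw [Nat.cast_zero]
    exact SetLike.GradedOne.one_mem (A := 𝒜)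
  | succ t ih =>
    intro l x hx hx0 hle
    rw [Nat.cast_succ] at hle
    obtain ⟨r, hr, hrx⟩ := hess l x hx hx0
    have hpos1 : 0 < a - l := by
      have : (0 : ℤ) ≤ t := Int.natCast_nonneg t
      omega
    obtain ⟨s1, hs1, hs1x⟩ := exists_deg_one 𝒜 hstd hpos1 hr hrx
    have hmem : s1 • x ∈ 𝓗 (1 + l) := by
      have h3 := SetLike.GradedSMul.smul_mem (A := 𝒜) (B := 𝓗) hs1 hx
      rwa [vadd_eq_add] at h3
    obtain ⟨s, hs, hsx⟩ := ih (1 + l) (s1 • x) hmem hs1x (by omega)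
    refine ⟨s * s1, ?_, by rwa [mul_smul]⟩
    rw [Nat.cast_succ]
    exact SetLike.GradedMul.mul_mem hs hs1

end std

/-! ### socles and the minimal resolution -/
section soc

variable {R : Type u} [CommRing R] [IsNoetherianRing R] (𝒜 : ℤ → AddSubgroup R) [GradedRing 𝒜]
variable (hpos : ∀ n : ℤ, n < 0 → 𝒜 n = ⊥) (h0 : IsField (deg0 𝒜))
variable (m : HomogeneousIdeal 𝒜) [m.toIdeal.IsPrime]
  (hmsp : m.toIdeal = Ideal.span (⋃ n ∈ Set.Ioi (0 : ℤ), (𝒜 n : Set R)))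
variable (E : StarInjRes 𝒜 𝒜)
  (hmin0 : ∀ P : Submodule R (E.X 0).carrier, P.IsHomogeneous (E.X 0).gr → P ≠ ⊥ →
    P ⊓ LinearMap.range E.ε ≠ ⊥)
  (hmin : ∀ (n : ℕ) (P : Submodule R (E.X (n + 1)).carrier),
    P.IsHomogeneous (E.X (n + 1)).gr → P ≠ ⊥ → P ⊓ LinearMap.range (E.d n) ≠ ⊥)

include hpos h0 hmsp hmin0 hmin in
theorem socle_le_ker (n : ℕ) : socle m.toIdeal (E.X n).carrier ≤ LinearMap.ker (E.d n) := by
  classical
  intro x hx
  rw [LinearMap.mem_ker, ← DirectSum.sum_support_decompose (E.X n).gr x, map_sum]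
  refine Finset.sum_eq_zero (fun j _ => ?_)
  obtain ⟨xj, hxjdef⟩ : ∃ xj : (E.X n).carrier,
      xj = (decompose (E.X n).gr x j : (E.X n).carrier) := ⟨_, rfl⟩
  rw [← hxjdef]
  have hxjmem : xj ∈ (E.X n).gr j := by
    rw [hxjdef]
    exact (decompose (E.X n).gr x j).2
  have hxj : ∀ r ∈ m.toIdeal, r • xj = 0 := by
    rw [hxjdef]
    exact smul_comp_eq_zero 𝒜 (E.X n).gr m.toIdeal m.isHomogeneous x hx j
  by_contra hne
  have hxj0 : xj ≠ 0 := fun h => hne (by rw [h, map_zero])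
  have hP0 : Submodule.span R {xj} ≠ ⊥ := by
    rw [Ne, Submodule.span_singleton_eq_bot]
    exact hxj0
  have h1 := ess_ker' 𝒜 E hmin0 hmin n _
    (span_singleton_isHomogeneous 𝒜 (E.X n).gr hxjmem) hP0
  obtain ⟨w, hw, hw0⟩ := Submodule.exists_mem_ne_zero_of_ne_bot h1
  obtain ⟨hw1, hw2⟩ := Submodule.mem_inf.1 hw
  obtain ⟨r, rfl⟩ := Submodule.mem_span_singleton.1 hw1
  have hr0 : r • xj = (decompose 𝒜 r 0 : R) • xj := by
    have h2 := hxj _ (sub_zero_mem 𝒜 hpos m hmsp r)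
    rw [sub_smul, sub_eq_zero] at h2
    exact h2
  have hr00 : (decompose 𝒜 r 0 : R) ≠ 0 := by
    intro h
    apply hw0
    rw [hr0, h, zero_smul]
  obtain ⟨c, -, hc⟩ := deg0_unit 𝒜 h0 (decompose 𝒜 r 0).2 hr00
  apply hne
  have h3 : xj = c • (r • xj) := by
    rw [hr0, ← mul_smul, mul_comm, hc, one_smul]
  rw [h3, map_smul, LinearMap.mem_ker.1 hw2, smul_zero]

include hpos h0 hmsp hmin0 hmin in
theorem socle_equiv (n : ℕ) (hprev : ∀ k, k + 1 = n → gam m.toIdeal (E.X k).carrier = ⊥) :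
    Nonempty (↥(socle m.toIdeal (E.X n).carrier) ≃ₗ[R] ↥(socle m.toIdeal (E.H m n))) := by
  have hle : socle m.toIdeal (E.X n).carrier ≤ E.cocyc m n := by
    intro x hx
    refine Submodule.mem_inf.2 ⟨⟨1, fun r hr => hx r ?_⟩,
      socle_le_ker 𝒜 hpos h0 m hmsp E hmin0 hmin n hx⟩
    rwa [pow_one] at hr
  let f0 : ↥(socle m.toIdeal (E.X n).carrier) →ₗ[R] E.H m n :=
    E.toH m n ∘ₗ Submodule.inclusion hle
  have hf0 : ∀ x, f0 x ∈ socle m.toIdeal (E.H m n) := by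
    intro x r hr
    rw [← map_smul]
    have h1 : r • x = 0 := Subtype.ext (x.2 r hr)
    rw [h1, map_zero]
  refine ⟨LinearEquiv.ofBijective (LinearMap.codRestrict (socle m.toIdeal (E.H m n)) f0 hf0)
    ⟨?_, ?_⟩⟩
  · rw [injective_iff_map_eq_zero]
    intro x hx
    have h1 : E.toH m n (Submodule.inclusion hle x) = 0 := congrArg Subtype.val hx
    rw [toH_eq_zero_iff] at h1
    exact Subtype.ext (cobdy_eq_zero E m n hprev _ h1)
  · rintro ⟨y, hy⟩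
    obtain ⟨z, rfl⟩ := toH_surjective m E n y
    have hz : (z : (E.X n).carrier) ∈ socle m.toIdeal (E.X n).carrier := by
      intro r hr
      have h1 : E.toH m n (r • z) = 0 := by
        rw [map_smul]
        exact hy r hr
      rw [toH_eq_zero_iff] at h1
      exact cobdy_eq_zero E m n hprev _ h1
    refine ⟨⟨(z : (E.X n).carrier), hz⟩, Subtype.ext ?_⟩
    show E.toH m n (Submodule.inclusion hle ⟨(z : (E.X n).carrier), hz⟩) = E.toH m n z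
    exact congrArg (E.toH m n) (Subtype.ext rfl)

end soc

/-! ### the socle of the Veronese local cohomology -/
section piece

variable {R : Type u} [CommRing R] {𝒜 : ℤ → AddSubgroup R} [GradedRing 𝒜]
variable {R' : Type u} [CommRing R'] [IsNoetherianRing R'] {𝒜' : ℤ → AddSubgroup R'}
  [GradedRing 𝒜']
variable {φ : R' →+* R} {q : ℕ} (hV : VData 𝒜 𝒜' φ q)
variable {H' H : Type u} [AddCommGroup H'] [Module R' H'] [AddCommGroup H] [Module R H]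
  (𝓗' : ℤ → AddSubgroup H') [Decomposition 𝓗'] [SetLike.GradedSMul 𝒜' 𝓗']
  (𝓗 : ℤ → AddSubgroup H) [SetLike.GradedSMul 𝒜 𝓗]
  (Φ : H' →+ H) (hΦ : Groth.Agent.Lib.Ver3H1.IsVer φ q 𝓗' 𝓗 Φ)
  (m' : HomogeneousIdeal 𝒜') [m'.toIdeal.IsPrime]
  (hm'sp : m'.toIdeal = Ideal.span (⋃ j ∈ Set.Ioi (0 : ℤ), (𝒜' j : Set R')))
  (a ρ j0 : ℤ) (hρ0 : 0 ≤ ρ) (hρq : ρ < q) (hj0 : a - ρ = q * j0)
  (hHtop : ∀ j : ℤ, a < j → 𝓗 j = ⊥)
  (hessq : ∀ (l : ℤ) (x : H), x ∈ 𝓗 l → x ≠ 0 → l + q ≤ a → ∃ s ∈ 𝒜 (q : ℤ), s • x ≠ 0)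

include hV hΦ hm'sp hρ0 hρq hj0 hHtop hessq in
theorem socle_eq_piece (y : H') : y ∈ socle m'.toIdeal H' ↔ y ∈ 𝓗' j0 := by
  have hq0 : (0 : ℤ) < q := by exact_mod_cast hV.hq
  constructor
  · intro hy
    classical
    have claim : ∀ j : ℤ, j ≠ j0 → (decompose 𝓗' y j : H') = 0 := by
      intro j hj
      by_contra hne
      obtain ⟨yj, hyjdef⟩ : ∃ yj : H', yj = (decompose 𝓗' y j : H') := ⟨_, rfl⟩
      rw [← hyjdef] at hne
      have hyjmem : yj ∈ 𝓗' j := by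
        rw [hyjdef]
        exact (decompose 𝓗' y j).2
      have hyjs : ∀ r ∈ m'.toIdeal, r • yj = 0 := by
        rw [hyjdef]
        exact smul_comp_eq_zero 𝒜' 𝓗' m'.toIdeal m'.isHomogeneous y hy j
      have h1 : Φ yj ∈ 𝓗 (j * q) := hΦ.map_mem j yj hyjmem
      have h2 : Φ yj ≠ 0 := fun h => hne (hΦ.inj (by rw [h, map_zero]))
      have h3 : ¬ a < j * q := by
        intro hlt
        have h4 := hHtop _ hlt
        rw [h4] at h1
        exact h2 ((AddSubgroup.mem_bot).1 h1)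
      rcases lt_or_gt_of_ne hj with hlt | hgt
      · have h5 : j * q + q ≤ a := by
          have h6 : (j + 1) * (q : ℤ) ≤ j0 * q :=
            mul_le_mul_of_nonneg_right (by omega) hq0.le
          have e1 : (j + 1) * (q : ℤ) = j * q + q := by ring
          have e2 : (q : ℤ) * j0 = j0 * q := by ring
          linarith
        obtain ⟨s, hs, hsy⟩ := hessq (j * q) (Φ yj) h1 h2 h5
        have hs' : s ∈ 𝒜 (1 * (q : ℤ)) := by
          rw [one_mul]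
          exact hs
        obtain ⟨s', hs'mem, rfl⟩ := hV.exists_of_mem hs'
        have hs'm : s' ∈ m'.toIdeal := by
          rw [hm'sp]
          exact Ideal.subset_span (Set.mem_iUnion₂.2 ⟨1, Set.mem_Ioi.2 one_pos, hs'mem⟩)
        apply hsy
        rw [← hΦ.smul, hyjs s' hs'm, map_zero]
      · apply h3
        have h6 : (j0 + 1) * (q : ℤ) ≤ j * q :=
          mul_le_mul_of_nonneg_right (by omega) hq0.le
        have e1 : (j0 + 1) * (q : ℤ) = j0 * q + q := by ring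
        have e2 : (q : ℤ) * j0 = j0 * q := by ring
        linarith
    rw [← DirectSum.sum_support_decompose 𝓗' y]
    refine AddSubgroup.sum_mem _ (fun j _ => ?_)
    by_cases hj : j = j0
    · rw [hj]
      exact (decompose 𝓗' y j0).2
    · rw [claim j hj]
      exact zero_mem _
  · intro hy r hr
    have hle : m'.toIdeal ≤ LinearMap.ker (LinearMap.toSpanSingleton R' H' y) := by
      rw [hm'sp, Ideal.span_le]
      intro t ht
      obtain ⟨l, hl, htl⟩ := Set.mem_iUnion₂.1 ht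
      have hl' : (0 : ℤ) < l := hl
      rw [SetLike.mem_coe, LinearMap.mem_ker, LinearMap.toSpanSingleton_apply]
      have h1 : t • y ∈ 𝓗' (l + j0) := by
        have h3 := SetLike.GradedSMul.smul_mem (A := 𝒜') (B := 𝓗') htl hy
        rwa [vadd_eq_add] at h3
      have h2 : Φ (t • y) ∈ 𝓗 ((l + j0) * q) := hΦ.map_mem _ _ h1
      have h3 : a < (l + j0) * q := by
        have h6 : (1 : ℤ) * q ≤ l * q := mul_le_mul_of_nonneg_right (by omega) hq0.le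
        have e1 : (l + j0) * (q : ℤ) = l * q + j0 * q := by ring
        have e2 : (q : ℤ) * j0 = j0 * q := by ring
        linarith
      rw [hHtop _ h3] at h2
      exact hΦ.inj (by rw [(AddSubgroup.mem_bot).1 h2, map_zero])
    have h4 := LinearMap.mem_ker.1 (hle hr)
    rwa [LinearMap.toSpanSingleton_apply] at h4

end piece

/-! ### finiteness transfer -/
section fin

variable {R : Type u} [CommRing R] {𝒜 : ℤ → AddSubgroup R} [GradedRing 𝒜]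
variable {R' : Type u} [CommRing R'] {𝒜' : ℤ → AddSubgroup R'} [GradedRing 𝒜']
variable {φ : R' →+* R} {q : ℕ} (hV : VData 𝒜 𝒜' φ q)

include hV in
theorem finite_comp_of_isVer (h0 : IsField (deg0 𝒜)) (h0' : IsField (deg0 𝒜'))
    {M' M : Type u} [AddCommGroup M'] [Module R' M'] [AddCommGroup M]
    [Module R M] (ℳ' : ℤ → AddSubgroup M') (ℳ : ℤ → AddSubgroup M) [SetLike.GradedSMul 𝒜' ℳ']
    [SetLike.GradedSMul 𝒜 ℳ] (Φ : M' →+ M) (hΦ : Groth.Agent.Lib.Ver3H1.IsVer φ q ℳ' ℳ Φ) (j : ℤ)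
    (hfin : Module.Finite (deg0 𝒜) ↥(comp 𝒜 ℳ (j * q))) :
    Module.Finite (deg0 𝒜') ↥(comp 𝒜' ℳ' j) := by
  let f : ↥(comp 𝒜' ℳ' j) →+ ↥(comp 𝒜 ℳ (j * q)) :=
    { toFun := fun x => ⟨Φ x.1, hΦ.map_mem j x.1 x.2⟩
      map_zero' := Subtype.ext (map_zero Φ)
      map_add' := fun x y => Subtype.ext (map_add Φ x.1 y.1) }
  let e : ↥(comp 𝒜' ℳ' j) ≃+ ↥(comp 𝒜 ℳ (j * q)) := AddEquiv.ofBijective f
    ⟨fun x y h => Subtype.ext (hΦ.inj (congrArg Subtype.val h)),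
     fun y => by
      obtain ⟨x, hx, hxy⟩ := hΦ.surj j y.1 y.2
      exact ⟨⟨x, hx⟩, Subtype.ext hxy⟩⟩
  let i0 : deg0 𝒜' → deg0 𝒜 := fun r => ⟨φ r.1, by
    have h := hV.map_mem (j := 0) r.2
    rwa [zero_mul] at h⟩
  have hi0 : Function.Bijective i0 :=
    ⟨fun r s h => Subtype.ext (hV.inj (congrArg Subtype.val h)), fun s => by
      obtain ⟨r, hr, hrs⟩ := hV.exists_of_mem (j := 0) (s := s.1) (by rw [zero_mul]; exact s.2)
      exact ⟨⟨r, hr⟩, Subtype.ext hrs⟩⟩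
  have hc : ∀ (r : deg0 𝒜') (x : ↥(comp 𝒜' ℳ' j)), e (r • x) = i0 r • e x := by
    intro r x
    apply Subtype.ext
    exact hΦ.smul r.1 x.1
  have hrank := rank_eq_of_equiv_equiv i0 e hi0 hc
  letI : Field (deg0 𝒜) := h0.toField
  letI : Field (deg0 𝒜') := h0'.toField
  rw [← Module.rank_lt_aleph0_iff] at hfin ⊢
  rw [hrank]
  exact hfin

end fin

section Rside

variable {R : Type u} [CommRing R] [IsNoetherianRing R] (𝒜 : ℤ → AddSubgroup R) [GradedRing 𝒜]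
variable (hpos : ∀ n : ℤ, n < 0 → 𝒜 n = ⊥) (h0 : IsField (deg0 𝒜))
variable (m : HomogeneousIdeal 𝒜)
  (hmsp : m.toIdeal = Ideal.span (⋃ n ∈ Set.Ioi (0 : ℤ), (𝒜 n : Set R)))
variable {E : Type u} [AddCommGroup E] [Module R E] (𝓔 : ℤ → AddSubgroup E) [Decomposition 𝓔]
  [SetLike.GradedSMul 𝒜 𝓔] (e : (R ⧸ m.toIdeal) →ₗ[R] E)
  (he : IsStarInjHull 𝒜 (GrLC.quotGr 𝒜 m) 𝓔 e)
variable {H : Type u} [AddCommGroup H] [Module R H] (𝓗 : ℤ → AddSubgroup H) [Decomposition 𝓗]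
  [SetLike.GradedSMul 𝒜 𝓗]
  (g : ℤ) (φ : H ≃ₗ[R] E) (hφ : IsGrHomDeg 𝓗 𝓔 φ.toLinearMap g)

include hpos h0 hmsp he hφ in
theorem finite_H (j : ℤ) : Module.Finite (deg0 𝒜) ↥(comp 𝒜 𝓗 j) := by
  let f : ↥(comp 𝒜 𝓗 j) →ₗ[deg0 𝒜] ↥(comp 𝒜 𝓔 (g + j)) :=
    { toFun := fun x => ⟨φ (x : H), (mem_iff_of_deg 𝓔 𝓗 g φ hφ).1 (mem_of_comp 𝒜 𝓗 x)⟩
      map_add' := fun x x' => Subtype.ext (map_add φ _ _)
      map_smul' := fun c x => Subtype.ext (map_smul φ (c : R) (x : H)) }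
  have hbij : Function.Bijective f := by
    constructor
    · intro x x' h
      exact Subtype.ext (φ.injective (congrArg Subtype.val h))
    · intro y
      refine ⟨⟨φ.symm (y : E), (mem_iff_of_deg 𝓔 𝓗 g φ hφ).2 ?_⟩,
        Subtype.ext (φ.apply_symm_apply _)⟩
      rw [φ.apply_symm_apply]
      exact mem_of_comp 𝒜 𝓔 y
  haveI : Module.Finite (deg0 𝒜) ↥(comp 𝒜 𝓔 (g + j)) := by
    have h1 := finite_piece 𝒜 hpos h0 m hmsp 𝓔 e he (-(g + j))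
    rwa [neg_neg] at h1
  exact Module.Finite.equiv (LinearEquiv.ofBijective f hbij).symm

end Rside

/-! ### the main theorem -/

theorem main18655 (R : Type u) [CommRing R] [hG : LocCoh.IsGorensteinRing R]
    (𝒜 : ℤ → AddSubgroup R) [GradedRing 𝒜] (hpos : ∀ n : ℤ, n < 0 → 𝒜 n = ⊥)
    (h0 : IsField (GrLC.deg0 𝒜)) (m : HomogeneousIdeal 𝒜) (hm : GrLC.IsStarLocal 𝒜 m)
    (hmsp : m.toIdeal = Ideal.span (⋃ n ∈ Set.Ioi (0 : ℤ), (𝒜 n : Set R)))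
    (hstd : Ideal.span (⋃ n ∈ Set.Ioi (0 : ℤ), (𝒜 n : Set R)) =
      Ideal.span ((𝒜 1 : AddSubgroup R) : Set R)) (n : ℕ)
    (hn : ringKrullDim R = n) (I : GrLC.StarInjRes 𝒜 𝒜) (a : ℤ)
    (ha : GrLC.endDeg (I.Hgr m n) = ((a : WithTop ℤ) : WithBot (WithTop ℤ))) (q : ℕ) (hq : 0 < q)
    (R' : Type u) [CommRing R'] (𝒜' : ℤ → AddSubgroup R') [GradedRing 𝒜'] (φ : R' →+* R)
    (hφ : Function.Injective φ) (hdeg : ∀ j : ℤ, (𝒜' j).map (φ : R' →+ R) = 𝒜 (j * q))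
    (m' : HomogeneousIdeal 𝒜') [hmax : m'.toIdeal.IsMaximal]
    (hm'sp : m'.toIdeal = Ideal.span (⋃ j ∈ Set.Ioi (0 : ℤ), (𝒜' j : Set R'))) (ρ : ℤ)
    (hρ0 : 0 ≤ ρ) (hρq : ρ < q) (hρa : (q : ℤ) ∣ a - ρ) :
    GrLC.bassNum m'.toIdeal R' n =
      (Module.finrank (GrLC.deg0 𝒜) (GrLC.comp 𝒜 𝒜 ρ) : ℕ∞) := by
  haveI : IsNoetherianRing R := inferInstance
  haveI hCM : LocCoh.IsCohenMacaulayRing R :=
    { isCohenMacaulayLocalRing_localization := fun p hp => by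
        haveI := hp
        haveI : LocCoh.IsGorensteinLocalRing (Localization.AtPrime p) :=
          LocCoh.IsGorensteinRing.isGorensteinLocalRing_localization p
        exact Groth.Agent.Link9.isCMLocalRing_of_gorenstein (Localization.AtPrime p) }
  have hV : VData 𝒜 𝒜' φ q := ⟨hq, hφ, hdeg⟩
  haveI : IsNoetherianRing R' := Groth.Agent.Lib.Ver2H1.isNoetherianRing_of_vdata hV
  have hpos' := hpos_of_vdata hV hpos
  have h0' := h0_of_vdata hV h0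
  have hm'eq : m' = Rp 𝒜' := HomogeneousIdeal.toIdeal_injective hm'sp
  have hm' : IsStarLocal 𝒜' m' := by
    rw [hm'eq]
    exact isStarLocal_Rp 𝒜' hpos' h0'
  have hΓ := Groth.Agent.Lib.Ver3H1.gamCompat_of_span hV m m' hmsp hm'sp
  obtain ⟨E', e, he⟩ := exists_hull_quot 𝒜 m
  have hht : m.toIdeal.height = n := by
    have h1 := Groth.Agent.Lib.GorCanH1.ringKrullDim_eq_height 𝒜 hpos h0 m hm
    rw [hn] at h1
    exact (WithBot.coe_injective h1).symm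
  obtain ⟨g, φR, hφR⟩ := main13244 R 𝒜 m hm n hht I E'.carrier E'.gr e he
  letI := HDecomp 𝒜 𝒜 m I n
  haveI := HGSMul 𝒜 𝒜 m I n
  have hfin := finrank_H 𝒜 hpos h0 m hmsp E'.gr e he (I.Hgr m n) a ha g φR hφR
  have hess := ess_H 𝒜 hpos h0 m hmsp E'.gr e he (I.Hgr m n) a ha g φR hφR
  have hfinH := finite_H 𝒜 hpos h0 m hmsp E'.gr e he (I.Hgr m n) g φR hφR
  obtain ⟨E₂, hE₂⟩ : ∃ E₂ : StarInjRes 𝒜' 𝒜', E₂ = minRes 𝒜' 𝒜' := ⟨_, rfl⟩
  have hmin0 : ∀ P : Submodule R' (E₂.X 0).carrier, P.IsHomogeneous (E₂.X 0).gr → P ≠ ⊥ →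
      P ⊓ LinearMap.range E₂.ε ≠ ⊥ := by
    rw [hE₂]
    exact minRes_min0 𝒜' 𝒜'
  have hmin : ∀ (k : ℕ) (P : Submodule R' (E₂.X (k + 1)).carrier),
      P.IsHomogeneous (E₂.X (k + 1)).gr → P ≠ ⊥ → P ⊓ LinearMap.range (E₂.d k) ≠ ⊥ := by
    rw [hE₂]
    exact minRes_min 𝒜' 𝒜'
  have hΦ : ∀ p, ∃ Φ : E₂.H m' p →+ I.H m p,
      Groth.Agent.Lib.Ver3H1.IsVer φ q (E₂.Hgr m' p) (I.Hgr m p) Φ :=
    fun p => exists_isVer hV m m' hΓ I E₂ p
  have hlow : ∀ k, k < n → Subsingleton (E₂.H m' k) := by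
    intro k hk
    obtain ⟨Ψ, hΨ⟩ := hΦ k
    haveI := Groth.Agent.Lib.AInvH1.H_subsingleton_of_lt 𝒜 m hm n hht I k hk
    exact hΨ.inj.subsingleton
  have hprev := gam_eq_bot_of_low 𝒜' E₂ hmin0 hmin m' n hlow
  obtain ⟨j0, hj0⟩ := hρa
  have hHtop : ∀ j : ℤ, a < j → I.Hgr m n j = ⊥ :=
    (Groth.Agent.Lib.GrConvH1.endDeg_le_iff (I.Hgr m n) a).1 ha.le
  have hessq := exists_deg_t 𝒜 hstd (I.Hgr m n) a hess q
  obtain ⟨Φ, hΦn⟩ := hΦ n
  letI := HDecomp 𝒜' 𝒜' m' E₂ n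
  haveI := HGSMul 𝒜' 𝒜' m' E₂ n
  have hpiece := socle_eq_piece hV (E₂.Hgr m' n) (I.Hgr m n) Φ hΦn m' hm'sp a ρ j0 hρ0 hρq hj0
    hHtop hessq
  obtain ⟨eS⟩ := socle_equiv 𝒜' hpos' h0' m' hm'sp E₂ hmin0 hmin n
    (fun k hk => hprev k (by omega))
  let eP : ↥(socle m'.toIdeal (E₂.H m' n)) ≃ₗ[deg0 𝒜'] ↥(comp 𝒜' (E₂.Hgr m' n) j0) :=
    LinearEquiv.ofBijective
      { toFun := fun y => ⟨y.1, (hpiece y.1).1 y.2⟩
        map_add' := fun _ _ => rfl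
        map_smul' := fun _ _ => rfl }
      ⟨fun y z h => Subtype.ext (by have h2 := congrArg Subtype.val h; exact h2),
        fun y => ⟨⟨y.1, (hpiece y.1).2 y.2⟩, rfl⟩⟩
  let eT := (eS.restrictScalars (deg0 𝒜')).trans eP
  haveI hfinP : Module.Finite (deg0 𝒜') ↥(comp 𝒜' (E₂.Hgr m' n) j0) :=
    finite_comp_of_isVer hV h0 h0' (E₂.Hgr m' n) (I.Hgr m n) Φ hΦn j0 (hfinH (j0 * q))
  haveI : Module.Finite (deg0 𝒜') ↥(socle m'.toIdeal (E₂.X n).carrier) :=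
    Module.Finite.equiv eT.symm
  have hsplit : ∀ r : R', ∃ c ∈ deg0 𝒜', r - c ∈ m'.toIdeal := fun r =>
    ⟨(decompose 𝒜' r 0 : R'), (decompose 𝒜' r 0).2, sub_zero_mem 𝒜' hpos' m' hm'sp r⟩
  rw [bassNum_eq_length_soc 𝒜' 𝒜' E₂ hmin0 hmin m' n,
    length_soc_eq_finrank m'.toIdeal (deg0 𝒜') h0' hsplit (E₂.X n).carrier, eT.finrank_eq,
    finrank_comp_of_isVer hV (E₂.Hgr m' n) (I.Hgr m n) Φ hΦn j0, hfin (j0 * q),
    finrank_comp_congr 𝒜 𝒜 (show a - j0 * (q : ℤ) = ρ by linarith)]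

end Groth.Agent.Lib.VerTypeH1
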