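import Mathlib
import Groth.Prelude.Def_GrLC
import Groth.Prelude.Def_GrSeg
import Groth.Prelude.Def_CAlg
import Groth.Agent.Lib.SegGor2_helper1
import Groth.Agent.Lib.VerType_helper1

/-! The type of the Segre product of two standard graded Gorenstein rings of dimension at least
two, when it is Cohen–Macaulay (Goto–Watanabe) (helper1, S18665). APPEND-ONLY once landed. -/

set_option autoImplicit false
set_option maxHeartbeats 400000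

namespace Groth.Agent.Lib.SegTypeH1

open scoped TensorProduct
open DirectSum GrLC Groth.Agent.Lib.GrXferH1 Groth.Agent.Lib.SegKun3H1 Groth.Agent.Lib.SegCMH1
  Groth.Agent.Lib.SegCM2H1 Groth.Agent.Lib.SegCM3H1 Groth.Agent.Lib.SocleH1
  Groth.Agent.Lib.GorTopH1 Groth.Agent.Lib.GorTop2H1 Groth.Agent.Lib.VerGor4H1
  Groth.Agent.Lib.VerGor2H1 Groth.Agent.Lib.GrHDecH1 Groth.Agent.Lib.GrStar3H1
  Groth.Agent.Lib.GrLES3H1 Groth.Agent.Lib.MinResH1 Groth.Agent.Lib.DVecH1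
  Groth.Agent.Lib.SegTopH1 Groth.Agent.Lib.SegreH3 Groth.Agent.Lib.GrPairH1
  Groth.Agent.Lib.SegCM4H1 Groth.Agent.Lib.SegGorH1 Groth.Agent.Lib.SocLenH1
  Groth.Agent.Lib.VerGorH1

universe u

theorem eq_bot_of_finrank_eq_zero {K : Type u} [Ring K] (hK : IsField K) {V : Type u}
    [AddCommGroup V] [Module K V] (P : Submodule K V) (hfin : Module.Finite K P)
    (h : Module.finrank K P = 0) : P = ⊥ := by
  letI : Field K := hK.toField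
  haveI := hfin
  exact Submodule.finrank_eq_zero.1 h

/-! ### the socle of a graded module bounded above and essential over its top piece -/
section soc

variable {R : Type u} [CommRing R] (𝒜 : ℤ → AddSubgroup R) [GradedRing 𝒜]
variable (m : HomogeneousIdeal 𝒜)
  (hmsp : m.toIdeal = Ideal.span (⋃ n ∈ Set.Ioi (0 : ℤ), (𝒜 n : Set R)))
variable {H : Type u} [AddCommGroup H] [Module R H] (𝓗 : ℤ → AddSubgroup H) [Decomposition 𝓗]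
  [SetLike.GradedSMul 𝒜 𝓗] (b : ℤ)
  (hHtop : ∀ j : ℤ, b < j → 𝓗 j = ⊥)
  (hess : ∀ (j : ℤ) (x : H), j < b → x ∈ 𝓗 j → x ≠ 0 → ∃ t ∈ 𝒜 (b - j), t • x ≠ 0)

include hmsp hHtop hess in
theorem socle_eq_top (y : H) : y ∈ socle m.toIdeal H ↔ y ∈ 𝓗 b := by
  constructor
  · intro hy
    classical
    have claim : ∀ j : ℤ, j ≠ b → (decompose 𝓗 y j : H) = 0 := by
      intro j hj
      by_contra hne
      obtain ⟨yj, hyjdef⟩ : ∃ yj : H, yj = (decompose 𝓗 y j : H) := ⟨_, rfl⟩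
      rw [← hyjdef] at hne
      have hyjmem : yj ∈ 𝓗 j := by
        rw [hyjdef]
        exact (decompose 𝓗 y j).2
      have hyjs : ∀ r ∈ m.toIdeal, r • yj = 0 := by
        rw [hyjdef]
        exact smul_comp_eq_zero 𝒜 𝓗 m.toIdeal m.isHomogeneous y hy j
      rcases lt_or_gt_of_ne hj with hlt | hgt
      · obtain ⟨t, ht, hty⟩ := hess j yj hlt hyjmem hne
        have htm : t ∈ m.toIdeal := by
          rw [hmsp]
          exact Ideal.subset_span (Set.mem_iUnion₂.2 ⟨b - j, Set.mem_Ioi.2 (by omega), ht⟩)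
        exact hty (hyjs t htm)
      · exact hne (coe_eq_zero_of_bot 𝓗 (hHtop j hgt) yj hyjmem)
    rw [← DirectSum.sum_support_decompose 𝓗 y]
    refine AddSubgroup.sum_mem _ (fun j _ => ?_)
    by_cases hj : j = b
    · rw [hj]
      exact (decompose 𝓗 y b).2
    · rw [claim j hj]
      exact zero_mem _
  · intro hy r hr
    have hle : m.toIdeal ≤ LinearMap.ker (LinearMap.toSpanSingleton R H y) := by
      rw [hmsp, Ideal.span_le]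
      intro t ht
      obtain ⟨l, hl, htl⟩ := Set.mem_iUnion₂.1 ht
      have hl' : (0 : ℤ) < l := hl
      rw [SetLike.mem_coe, LinearMap.mem_ker, LinearMap.toSpanSingleton_apply]
      have h1 : t • y ∈ 𝓗 (l + b) := by
        have h3 := SetLike.GradedSMul.smul_mem (A := 𝒜) (B := 𝓗) htl hy
        rwa [vadd_eq_add] at h3
      exact coe_eq_zero_of_bot 𝓗 (hHtop (l + b) (by omega)) _ h1
    have h4 := LinearMap.mem_ker.1 (hle hr)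
    rwa [LinearMap.toSpanSingleton_apply] at h4

end soc

/-! ### S18665 -/

theorem main18665 (k : Type u) [Field k] (R : Type u) [CommRing R] [Algebra k R]
    (𝒜 : ℤ → Submodule k R) [GradedAlgebra 𝒜] (hposR : ∀ n : ℤ, n < 0 → 𝒜 n = ⊥)
    (h0R : 𝒜 0 = Submodule.span k {(1 : R)}) [Algebra.FiniteType k R]
    (S : Type u) [CommRing S] [Algebra k S] (ℬ : ℤ → Submodule k S) [GradedAlgebra ℬ]
    (hposS : ∀ n : ℤ, n < 0 → ℬ n = ⊥) (h0S : ℬ 0 = Submodule.span k {(1 : S)})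
    [Algebra.FiniteType k S]
    (T : Type u) [CommRing T] [Algebra k T] (𝒯 : ℤ → Submodule k T) [GradedAlgebra 𝒯]
    (ψ : T →ₐ[k] TensorProduct k R S) (hψ : Function.Injective ψ)
    (hdegT : ∀ n : ℤ, (𝒯 n).map ψ.toLinearMap =
      Submodule.span k {x : TensorProduct k R S | ∃ a ∈ 𝒜 n, ∃ b ∈ ℬ n, x = a ⊗ₜ[k] b})
    [LocCoh.IsGorensteinRing R] [LocCoh.IsGorensteinRing S]
    (mR : HomogeneousIdeal 𝒜)
    (hmR : mR.toIdeal = Ideal.span (⋃ n ∈ Set.Ioi (0 : ℤ), (𝒜 n : Set R)))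
    (hstdR : Ideal.span (⋃ n ∈ Set.Ioi (0 : ℤ), (𝒜 n : Set R)) =
      Ideal.span ((𝒜 1 : Submodule k R) : Set R))
    (I : GrLC.StarInjRes 𝒜 𝒜) (mS : HomogeneousIdeal ℬ)
    (hmS : mS.toIdeal = Ideal.span (⋃ n ∈ Set.Ioi (0 : ℤ), (ℬ n : Set S)))
    (hstdS : Ideal.span (⋃ n ∈ Set.Ioi (0 : ℤ), (ℬ n : Set S)) =
      Ideal.span ((ℬ 1 : Submodule k S) : Set S))
    (J : GrLC.StarInjRes ℬ ℬ) (r s : ℕ) (hr : ringKrullDim R = r) (hs : ringKrullDim S = s)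
    (h2r : 2 ≤ r) (h2s : 2 ≤ s) (a b : ℤ)
    (ha : GrLC.endDeg (I.Hgr mR r) = ((a : WithTop ℤ) : WithBot (WithTop ℤ)))
    (hb : GrLC.endDeg (J.Hgr mS s) = ((b : WithTop ℤ) : WithBot (WithTop ℤ))) (hab : b ≤ a)
    [LocCoh.IsCohenMacaulayRing T] (mT : HomogeneousIdeal 𝒯) [mT.toIdeal.IsMaximal]
    (hmT : mT.toIdeal = Ideal.span (⋃ n ∈ Set.Ioi (0 : ℤ), (𝒯 n : Set T))) :
    GrLC.bassNum mT.toIdeal T (r + s - 1) = (Module.finrank k (𝒜 (a - b)) : ℕ∞) := by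
  have hT : GrSeg.IsSegreRing 𝒜 ℬ 𝒯 ψ := ⟨hψ, hdegT⟩
  haveI : Nontrivial R := nontrivial_of_dim r hr
  haveI : Nontrivial S := nontrivial_of_dim s hs
  haveI : IsNoetherianRing R := Algebra.FiniteType.isNoetherianRing k R
  haveI : IsNoetherianRing S := Algebra.FiniteType.isNoetherianRing k S
  haveI : IsNoetherianRing T := Groth.Agent.Lib.SegreNoeth.main 𝒜 ℬ 𝒯 ψ hT.2 hT.1
  haveI : Nontrivial T := nontrivial_T hT
  haveI hCMR : LocCoh.IsCohenMacaulayRing R := cm_of_gor R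
  haveI hCMS : LocCoh.IsCohenMacaulayRing S := cm_of_gor S
  obtain rfl : mT = irr 𝒯 := HomogeneousIdeal.toIdeal_injective hmT
  have h0T := deg_zero_T hT h0R h0S
  have hposT := hpos_T hT hposR
  have hfR : IsField (deg0 (toAS 𝒜)) := isField_deg0 h0R
  have hfS : IsField (deg0 (toAS ℬ)) := isField_deg0 h0S
  have hfT : IsField (deg0 (toAS 𝒯)) := isField_deg0 h0T
  have hstarR : IsStarLocal (toAS 𝒜) (idealAS 𝒜 mR) := isStarLocal_irr hposR h0R mR hmR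
  have hstarS : IsStarLocal (toAS ℬ) (idealAS ℬ mS) := isStarLocal_irr hposS h0S mS hmS
  have hstarT : IsStarLocal (toAS 𝒯) (idealAS 𝒯 (irr 𝒯)) :=
    isStarLocal_irr hposT h0T (irr 𝒯) irr_toIdeal
  obtain ⟨r', rfl⟩ : ∃ r', r = r' + 1 + 1 := ⟨r - 2, by omega⟩
  obtain ⟨s', rfl⟩ : ∃ s', s = s' + 1 + 1 := ⟨s - 2, by omega⟩
  have hhtR : (idealAS 𝒜 mR).toIdeal.height = ((r' + 1 + 1 : ℕ) : ℕ∞) := by
    have h1 := Groth.Agent.Lib.GorCanH1.ringKrullDim_eq_height (toAS 𝒜) (hposAS hposR) hfR _ hstarR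
    rw [hr] at h1
    exact (WithBot.coe_injective h1).symm
  have hhtS : (idealAS ℬ mS).toIdeal.height = ((s' + 1 + 1 : ℕ) : ℕ∞) := by
    have h1 := Groth.Agent.Lib.GorCanH1.ringKrullDim_eq_height (toAS ℬ) (hposAS hposS) hfS _ hstarS
    rw [hs] at h1
    exact (WithBot.coe_injective h1).symm
  have hdimT : ringKrullDim T = ((r' + 1 + 1 + (s' + 1 + 1) - 1 : ℕ) : WithBot ℕ∞) :=
    Groth.Agent.Lib.SegDimH6.main18647 k R 𝒜 hposR h0R S ℬ hposS h0S T 𝒯 ψ hT.1 hT.2 _ _ hr hs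
      (by omega) (by omega)
  have hq : r' + 1 + 1 + (s' + 1 + 1) - 1 = r' + 1 + (s' + 1) + 1 := by omega
  rw [hq] at hdimT
  rw [hq]
  have hhtT : (idealAS 𝒯 (irr 𝒯)).toIdeal.height = ((r' + 1 + (s' + 1) + 1 : ℕ) : ℕ∞) := by
    have h1 := Groth.Agent.Lib.GorCanH1.ringKrullDim_eq_height (toAS 𝒯) (hposAS hposT) hfT _ hstarT
    rw [hdimT] at h1
    exact (WithBot.coe_injective h1).symm
  obtain ⟨gR, essR, finR, endR⟩ := gor_top (toAS 𝒜) (hposAS hposR) hfR (idealAS 𝒜 mR) hstarR hmR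
    (r' + 1 + 1) hhtR (resAS 𝒜 I)
  obtain ⟨gS, essS, finS, endS⟩ := gor_top (toAS ℬ) (hposAS hposS) hfS (idealAS ℬ mS) hstarS hmS
    (s' + 1 + 1) hhtS (resAS ℬ J)
  have hgR : gR = -a := by
    have e1 : endDeg ((resAS 𝒜 I).Hgr (idealAS 𝒜 mR) (r' + 1 + 1)) =
        endDeg (I.Hgr mR (r' + 1 + 1)) := rfl
    rw [e1, ha] at endR
    have h3 : a = -gR := WithTop.coe_injective (WithBot.coe_injective endR)
    omega
  have hgS : gS = -b := by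
    have e2 : endDeg ((resAS ℬ J).Hgr (idealAS ℬ mS) (s' + 1 + 1)) =
        endDeg (J.Hgr mS (s' + 1 + 1)) := rfl
    rw [e2, hb] at endS
    have h3 : b = -gS := WithTop.coe_injective (WithBot.coe_injective endS)
    omega
  subst hgR
  subst hgS
  haveI : SetLike.GradedSMul 𝒜 (toAS 𝒜) := gsmul_of 𝒜 (toAS 𝒜)
  haveI : SetLike.GradedSMul ℬ (toAS ℬ) := gsmul_of ℬ (toAS ℬ)
  haveI : SetLike.GradedSMul 𝒯 (toAS 𝒯) := gsmul_of 𝒯 (toAS 𝒯)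
  have hP := segreMod_self hT
  haveI : Nontrivial (deg0 (toAS 𝒜)) := hfR.nontrivial
  haveI : Nontrivial (deg0 (toAS ℬ)) := hfS.nontrivial
  obtain ⟨EP, hEP⟩ : ∃ EP : StarInjRes (toAS 𝒯) (toAS 𝒯), EP = minRes (toAS 𝒯) (toAS 𝒯) :=
    ⟨_, rfl⟩
  have hmin0 : ∀ P : Submodule T (EP.X 0).carrier, P.IsHomogeneous (EP.X 0).gr → P ≠ ⊥ →
      P ⊓ LinearMap.range EP.ε ≠ ⊥ := by
    rw [hEP]
    exact minRes_min0 (toAS 𝒯) (toAS 𝒯)
  have hmin : ∀ (n : ℕ) (P : Submodule T (EP.X (n + 1)).carrier),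
      P.IsHomogeneous (EP.X (n + 1)).gr → P ≠ ⊥ → P ⊓ LinearMap.range (EP.d n) ≠ ⊥ := by
    rw [hEP]
    exact minRes_min (toAS 𝒯) (toAS 𝒯)
  haveI hprimeT : (idealAS 𝒯 (irr 𝒯)).toIdeal.IsPrime :=
    isPrime_of_coatom (toAS 𝒯) _ hstarT.1
  have hlow : ∀ i, i < r' + 1 + (s' + 1) + 1 → Subsingleton (EP.H (idealAS 𝒯 (irr 𝒯)) i) :=
    fun i hi => Groth.Agent.Lib.AInvH1.H_subsingleton_of_lt (toAS 𝒯) _ hstarT
      (r' + 1 + (s' + 1) + 1) hhtT EP i hi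
  have hprev := gam_eq_bot_of_low (toAS 𝒯) EP hmin0 hmin (idealAS 𝒯 (irr 𝒯))
    (r' + 1 + (s' + 1) + 1) hlow
  letI := HDecomp (toAS 𝒯) (toAS 𝒯) (idealAS 𝒯 (irr 𝒯)) EP (r' + 1 + (s' + 1) + 1)
  haveI := HGSMul (toAS 𝒯) (toAS 𝒯) (idealAS 𝒯 (irr 𝒯)) EP (r' + 1 + (s' + 1) + 1)
  haveI := HGSMul (toAS 𝒜) (toAS 𝒜) (idealAS 𝒜 mR) (resAS 𝒜 I) (r' + 1 + 1)
  haveI := HGSMul (toAS ℬ) (toAS ℬ) (idealAS ℬ mS) (resAS ℬ J) (s' + 1 + 1)
  have vanR : ∀ i : ℕ, i ≠ r' + 1 + 1 → ∀ d : ℤ,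
      (resAS 𝒜 I).Hcomp (idealAS 𝒜 mR) i d = ⊥ :=
    fun i hi d => van_of_cm hposR h0R mR hmR (resAS 𝒜 I) (r' + 1 + 1) hr i hi d
  have vanS : ∀ i : ℕ, i ≠ s' + 1 + 1 → ∀ d : ℤ,
      (resAS ℬ J).Hcomp (idealAS ℬ mS) i d = ⊥ :=
    fun i hi d => van_of_cm hposS h0S mS hmS (resAS ℬ J) (s' + 1 + 1) hs i hi d
  have hessR' : ∀ (j : ℤ) (x : (resAS 𝒜 I).H (idealAS 𝒜 mR) (r' + 1 + 1)),
      x ∈ (resAS 𝒜 I).Hgr (idealAS 𝒜 mR) (r' + 1 + 1) j → x ≠ 0 →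
      ∃ ρ ∈ toAS 𝒜 (a - j), ρ • x ≠ 0 := by
    intro j x hx hx0
    obtain ⟨ρ, hρ, h⟩ := essR j x hx hx0
    exact ⟨ρ, mem_of_eq (toAS 𝒜) (by ring) hρ, h⟩
  have hessS' : ∀ (j : ℤ) (x : (resAS ℬ J).H (idealAS ℬ mS) (s' + 1 + 1)),
      x ∈ (resAS ℬ J).Hgr (idealAS ℬ mS) (s' + 1 + 1) j → x ≠ 0 →
      ∃ τ ∈ toAS ℬ (b - j), τ • x ≠ 0 := by
    intro j x hx hx0
    obtain ⟨τ, hτ, h⟩ := essS j x hx hx0
    exact ⟨τ, mem_of_eq (toAS ℬ) (by ring) hτ, h⟩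
  have hSbot : ∀ j : ℤ, b < j → (resAS ℬ J).Hcomp (idealAS ℬ mS) (s' + 1 + 1) j = ⊥ := by
    intro j hj
    have h1 : J.Hgr mS (s' + 1 + 1) j = ⊥ :=
      (Groth.Agent.Lib.GrConvH1.endDeg_le_iff (J.Hgr mS (s' + 1 + 1)) b).1 hb.le j hj
    rw [Submodule.eq_bot_iff]
    intro x hx
    exact coe_eq_zero_of_bot (J.Hgr mS (s' + 1 + 1)) h1 x hx
  have finXT : ∀ j : ℤ, Module.Finite (deg0 (toAS 𝒯))
      ↥(EP.Hcomp (idealAS 𝒯 (irr 𝒯)) (r' + 1 + (s' + 1) + 1) j) := fun j =>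
    Groth.Agent.Lib.GrLES4H1.main13226 (toAS 𝒯) (hposAS hposT) (idealAS 𝒯 (irr 𝒯)) irr_toIdeal T
      (toAS 𝒯) EP (r' + 1 + (s' + 1) + 1) j
  have hHtop : ∀ j : ℤ, b < j →
      EP.Hgr (idealAS 𝒯 (irr 𝒯)) (r' + 1 + (s' + 1) + 1) j = ⊥ := by
    intro j hj
    have h1 := top_count k R 𝒜 hposR h0R S ℬ hposS h0S T 𝒯 ψ hT mR hmR I mS hmS J r' s' hr hs
      EP j
    have z : Module.finrank (deg0 (toAS ℬ))
        ↥((resAS ℬ J).Hcomp (idealAS ℬ mS) (s' + 1 + 1) j) = 0 := by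
      rw [hSbot j hj]
      exact finrank_bot _ _
    rw [z, Nat.mul_zero] at h1
    exact (toAddSubgroup_eq_bot_iff _).2 (eq_bot_of_finrank_eq_zero hfT _ (finXT j) h1)
  have hessT : ∀ (j : ℤ) (x : EP.H (idealAS 𝒯 (irr 𝒯)) (r' + 1 + (s' + 1) + 1)), j < b →
      x ∈ EP.Hgr (idealAS 𝒯 (irr 𝒯)) (r' + 1 + (s' + 1) + 1) j → x ≠ 0 →
      ∃ t ∈ toAS 𝒯 (b - j), t • x ≠ 0 := by
    intro j x hj hx hx0
    obtain ⟨n, hn⟩ : ∃ n : ℕ, (n : ℤ) = b - j :=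
      ⟨(b - j).toNat, Int.toNat_of_nonneg (by omega)⟩
    obtain ⟨t, ht, htx⟩ := top_h2 hT (resAS 𝒜 I) (resAS ℬ J) mR mS (irr 𝒯) hmR hmS irr_toIdeal
      (toAS 𝒯) ψ.toLinearMap hP EP (r := r' + 1) (s := s' + 1) (by omega) (by omega) j (b - j)
      (fun i hi x hx => by
        have h : x ∈ (resAS 𝒜 I).Hcomp (idealAS 𝒜 mR) i j := hx
        rw [vanR i (by omega) j] at h
        exact (Submodule.mem_bot _).1 h)
      (fun i hi x hx => by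
        have h : x ∈ (resAS ℬ J).Hcomp (idealAS ℬ mS) i j := hx
        rw [vanS i (by omega) j] at h
        exact (Submodule.mem_bot _).1 h)
      (fun h hh h0 => by
        obtain ⟨ρ, hρ, hρh⟩ := Groth.Agent.Lib.VerTypeH1.exists_deg_t (toAS 𝒜) hstdR
          ((resAS 𝒜 I).Hgr (idealAS 𝒜 mR) (r' + 1 + 1)) a hessR' n j h hh h0 (by omega)
        exact ⟨ρ, mem_of_eq (toAS 𝒜) hn hρ, hρh⟩)
      (fun h hh h0 => by
        obtain ⟨τ, hτ, hτh⟩ := Groth.Agent.Lib.VerTypeH1.exists_deg_t (toAS ℬ) hstdS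
          ((resAS ℬ J).Hgr (idealAS ℬ mS) (s' + 1 + 1)) b hessS' n j h hh h0 (by omega)
        exact ⟨τ, mem_of_eq (toAS ℬ) hn hτ, hτh⟩)
      x hx hx0
    exact ⟨t, ht, htx⟩
  have hpiece := socle_eq_top (toAS 𝒯) (idealAS 𝒯 (irr 𝒯)) irr_toIdeal
    (EP.Hgr (idealAS 𝒯 (irr 𝒯)) (r' + 1 + (s' + 1) + 1)) b hHtop hessT
  obtain ⟨eS⟩ := Groth.Agent.Lib.VerTypeH1.socle_equiv (toAS 𝒯) (hposAS hposT) hfT
    (idealAS 𝒯 (irr 𝒯)) irr_toIdeal EP hmin0 hmin (r' + 1 + (s' + 1) + 1)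
    (fun i hi => hprev i (by omega))
  let eP : ↥(socle (idealAS 𝒯 (irr 𝒯)).toIdeal
      (EP.H (idealAS 𝒯 (irr 𝒯)) (r' + 1 + (s' + 1) + 1))) ≃ₗ[deg0 (toAS 𝒯)]
      ↥(comp (toAS 𝒯) (EP.Hgr (idealAS 𝒯 (irr 𝒯)) (r' + 1 + (s' + 1) + 1)) b) :=
    LinearEquiv.ofBijective
      { toFun := fun y => ⟨y.1, (hpiece y.1).1 y.2⟩
        map_add' := fun _ _ => rfl
        map_smul' := fun _ _ => rfl }
      ⟨fun y z h => Subtype.ext (by have h2 := congrArg Subtype.val h; exact h2),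
        fun y => ⟨⟨y.1, (hpiece y.1).2 y.2⟩, rfl⟩⟩
  let eT := (eS.restrictScalars (deg0 (toAS 𝒯))).trans eP
  have hcompT : comp (toAS 𝒯) (EP.Hgr (idealAS 𝒯 (irr 𝒯)) (r' + 1 + (s' + 1) + 1)) b =
      EP.Hcomp (idealAS 𝒯 (irr 𝒯)) (r' + 1 + (s' + 1) + 1) b :=
    Submodule.ext (fun x => Iff.rfl)
  haveI hfinP : Module.Finite (deg0 (toAS 𝒯))
      ↥(comp (toAS 𝒯) (EP.Hgr (idealAS 𝒯 (irr 𝒯)) (r' + 1 + (s' + 1) + 1)) b) := by
    rw [hcompT]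
    exact finXT b
  haveI : Module.Finite (deg0 (toAS 𝒯))
      ↥(socle (idealAS 𝒯 (irr 𝒯)).toIdeal (EP.X (r' + 1 + (s' + 1) + 1)).carrier) :=
    Module.Finite.equiv eT.symm
  have hsplit : ∀ t : T, ∃ c ∈ deg0 (toAS 𝒯), t - c ∈ (idealAS 𝒯 (irr 𝒯)).toIdeal := fun t =>
    ⟨(decompose (toAS 𝒯) t 0 : T), (decompose (toAS 𝒯) t 0).2,
      sub_zero_mem (toAS 𝒯) (hposAS hposT) (idealAS 𝒯 (irr 𝒯)) irr_toIdeal t⟩
  have hnat : Module.finrank (deg0 (toAS 𝒯))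
      ↥(socle (idealAS 𝒯 (irr 𝒯)).toIdeal (EP.X (r' + 1 + (s' + 1) + 1)).carrier) =
      Module.finrank k (𝒜 (a - b)) := by
    rw [eT.finrank_eq, hcompT, top_count k R 𝒜 hposR h0R S ℬ hposS h0S T 𝒯 ψ hT mR hmR I mS hmS
      J r' s' hr hs EP b, finR b, finS b,
      finrank_comp_congr (toAS 𝒜) (toAS 𝒜) (show -(-a + b) = a - b by ring),
      finrank_comp_congr (toAS ℬ) (toAS ℬ) (show -(-b + b) = 0 by ring),
      finrank_ring_zero (toAS ℬ) hfS, mul_one, finrank_deg0_eq h0R]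
  have key := bassNum_eq_length_soc (toAS 𝒯) (toAS 𝒯) EP hmin0 hmin (idealAS 𝒯 (irr 𝒯))
    (r' + 1 + (s' + 1) + 1)
  rw [length_soc_eq_finrank (idealAS 𝒯 (irr 𝒯)).toIdeal (deg0 (toAS 𝒯)) hfT hsplit
    (EP.X (r' + 1 + (s' + 1) + 1)).carrier, hnat] at key
  exact key

end Groth.Agent.Lib.SegTypeH1
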