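import Mathlib
import Groth.Prelude.Def_GrLC
import Groth.Prelude.Def_GrSeg
import Groth.Prelude.Def_CAlg
import Groth.Agent.Lib.SegGor2_helper1
import Groth.Agent.Lib.SegCM5_helper1
import Groth.Agent.Lib.SegType_helper1
import Groth.Agent.Lib.GorField_helper9

/-! If the Segre product of two one-dimensional standard graded Cohen–Macaulay rings, the first of
which is not a polynomial ring, is Gorenstein, then the second is a polynomial ring and the first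
is Gorenstein (Goto–Watanabe) (helper1, S18660). APPEND-ONLY once landed. -/

set_option autoImplicit false
set_option maxHeartbeats 400000

namespace Groth.Agent.Lib.SegGor3H1

open scoped TensorProduct
open DirectSum GrLC Groth.Agent.Lib.GrXferH1 Groth.Agent.Lib.SegKun3H1 Groth.Agent.Lib.SegCMH1
  Groth.Agent.Lib.SegCM2H1 Groth.Agent.Lib.SegCM3H1 Groth.Agent.Lib.SocleH1
  Groth.Agent.Lib.GorTopH1 Groth.Agent.Lib.GorTop2H1
  Groth.Agent.Lib.GrHDecH1 Groth.Agent.Lib.MinResH1 Groth.Agent.Lib.DVecH1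
  Groth.Agent.Lib.SegreH3 Groth.Agent.Lib.SegCM4H1 Groth.Agent.Lib.SegCM5H1
  Groth.Agent.Lib.SegGorH1 Groth.Agent.Lib.SegTypeH1

universe u

/-! ### the arithmetic of the Hilbert functions -/

theorem num_core (HR HS hR hS hT : ℤ → ℕ) (g : ℤ)
    (ha : ∀ j, hT j = HR j * hS j + hR j * HS j + hR j * hS j)
    (hb : ∀ j, hT j = HR (-(g + j)) * HS (-(g + j)))
    (hcR : ∀ n : ℤ, n < 0 → HR n = 0) (hcS : ∀ n : ℤ, n < 0 → HS n = 0)
    (hdR : HR 0 = 1) (hdS : HS 0 = 1)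
    (heR : ∀ n : ℤ, HR n ≤ HR (n + 1)) (heS : ∀ n : ℤ, HS n ≤ HS (n + 1))
    (n₀ : ℤ) (hn₀ : 0 ≤ n₀) (hf : hR n₀ ≠ 0) :
    HR 1 = 1 ∨ HS 1 = 1 ∨ ∀ n : ℤ, 0 ≤ n → hS n = 0 := by
  have posR : ∀ n : ℤ, 0 ≤ n → 1 ≤ HR n := by
    intro n hn
    induction n, hn using Int.le_induction with
    | base => rw [hdR]
    | succ m _ ih => exact ih.trans (heR m)
  have posS : ∀ n : ℤ, 0 ≤ n → 1 ≤ HS n := by
    intro n hn
    induction n, hn using Int.le_induction with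
    | base => rw [hdS]
    | succ m _ ih => exact ih.trans (heS m)
  have monoR : ∀ n : ℤ, 1 ≤ n → HR 1 ≤ HR n := by
    intro n hn
    induction n, hn using Int.le_induction with
    | base => exact le_rfl
    | succ m _ ih => exact ih.trans (heR m)
  have monoS : ∀ n : ℤ, 1 ≤ n → HS 1 ≤ HS n := by
    intro n hn
    induction n, hn using Int.le_induction with
    | base => exact le_rfl
    | succ m _ ih => exact ih.trans (heS m)
  have hc : n₀ ≤ -g := by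
    by_contra hlt
    have h1 : -(g + n₀) < 0 := by omega
    have h2 := hb n₀
    rw [hcR _ h1, zero_mul] at h2
    have h3 := ha n₀
    rw [h2] at h3
    have h4 : 0 < hR n₀ * HS n₀ := Nat.mul_pos (Nat.pos_of_ne_zero hf) (posS n₀ hn₀)
    have key : ∀ X Y Z : ℕ, 0 = X + Y + Z → 0 < Y → False := by
      intro X Y Z h1 h2
      omega
    exact key _ _ _ h3 h4
  have hc0 : 0 ≤ -g := le_trans hn₀ hc
  have h1 := hb (-g)
  have e0 : -(g + -g) = 0 := by ring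
  rw [e0, hdR, hdS] at h1
  have h2 := ha (-g)
  rw [h1] at h2
  have pR := posR (-g) hc0
  have pS := posS (-g) hc0
  by_cases hB : hR (-g) = 0
  · rw [hB, zero_mul, zero_mul, add_zero, add_zero, one_mul] at h2
    have h3 : HR (-g) = 1 := (mul_eq_one.mp h2.symm).1
    rcases eq_or_lt_of_le hc0 with h | h
    · exfalso
      have e : n₀ = -g := by omega
      rw [e] at hf
      exact hf hB
    · left
      have h5 := monoR (-g) (by omega)
      rw [h3] at h5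
      exact le_antisymm h5 (posR 1 (by norm_num))
  · have q1 : 0 < hR (-g) * HS (-g) := Nat.mul_pos (Nat.pos_of_ne_zero hB) pS
    have key : ∀ X Y Z : ℕ, 1 * 1 = X + Y + Z → 0 < Y → X = 0 ∧ Y = 1 := by
      intro X Y Z h1 h2
      omega
    obtain ⟨hX, hY⟩ := key _ _ _ h2 q1
    have hSc : hS (-g) = 0 := (Nat.mul_eq_zero.mp hX).resolve_left (by omega)
    have hHSc : HS (-g) = 1 := (mul_eq_one.mp hY).2
    rcases eq_or_lt_of_le hc0 with h | h
    · right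
      right
      intro n hn
      rcases eq_or_lt_of_le hn with h' | h'
      · have e : n = -g := by omega
        rw [e]
        exact hSc
      · have h6 : -(g + n) < 0 := by omega
        have h7 := hb n
        rw [hcR _ h6, zero_mul] at h7
        have h8 := ha n
        rw [h7] at h8
        have key2 : ∀ X Y Z : ℕ, 0 = X + Y + Z → X = 0 := by
          intro X Y Z h1
          omega
        have h9 := key2 _ _ _ h8
        have h10 := posR n hn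
        exact (Nat.mul_eq_zero.mp h9).resolve_left (by omega)
    · right
      left
      have h5 := monoS (-g) (by omega)
      rw [hHSc] at h5
      exact le_antisymm h5 (posS 1 (by norm_num))

/-! ### maps of graded vector spaces injective on the pieces -/
section pieces

variable {k : Type u} [Field k] {T : Type u} [AddCommGroup T] [Module k T]
  {R : Type u} [AddCommGroup R] [Module k R]
  (𝒯 : ℤ → Submodule k T) [Decomposition 𝒯] (𝒜 : ℤ → Submodule k R) [Decomposition 𝒜]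

theorem injective_of_pieces (f : T →ₗ[k] R) (hf : ∀ i, ∀ t ∈ 𝒯 i, f t ∈ 𝒜 i)
    (hinj : ∀ i, ∀ t ∈ 𝒯 i, f t = 0 → t = 0) : Function.Injective f := by
  classical
  have key : ∀ (t : T) (i : ℤ), (decompose 𝒜 (f t) i : R) = f (decompose 𝒯 t i) := by
    intro t i
    induction t using DirectSum.Decomposition.inductionOn 𝒯 with
    | zero => simp
    | @homogeneous j m =>
      by_cases h : j = i
      · subst h
        rw [decompose_of_mem_same 𝒜 (hf j m m.2), decompose_of_mem_same 𝒯 m.2]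
      · rw [decompose_of_mem_ne 𝒜 (hf j m m.2) h, decompose_of_mem_ne 𝒯 m.2 h, map_zero]
    | add m m' hm hm' =>
      simp only [map_add, decompose_add, DirectSum.add_apply, Submodule.coe_add, hm, hm']
  refine (injective_iff_map_eq_zero f).2 (fun t ht => ?_)
  have h0 : ∀ i, (decompose 𝒯 t i : T) = 0 := fun i => by
    apply hinj i _ (decompose 𝒯 t i).2
    rw [← key, ht, decompose_zero, DirectSum.zero_apply, ZeroMemClass.coe_zero]
  rw [← DirectSum.sum_support_decompose 𝒯 t]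
  exact Finset.sum_eq_zero (fun i _ => h0 i)

end pieces

/-! ### standard graded algebras generated by one element -/
section gen

variable {k : Type u} [Field k] {R : Type u} [CommRing R] [Algebra k R]
  {𝒜 : ℤ → Submodule k R} [GradedAlgebra 𝒜]

theorem pow_mem_piece {s : R} (hs : s ∈ 𝒜 1) (m : ℕ) : s ^ m ∈ 𝒜 (m : ℤ) := by
  have h := SetLike.pow_mem_graded m hs
  rwa [nsmul_one] at h

theorem proj_aeval_poly {s : R} (hs : s ∈ 𝒜 1) (p : Polynomial k) (n : ℕ) :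
    GradedAlgebra.proj 𝒜 (n : ℤ) (Polynomial.aeval s p) = p.coeff n • s ^ n := by
  induction p using Polynomial.induction_on' with
  | add p q hp hq => rw [map_add, map_add, hp, hq, Polynomial.coeff_add, add_smul]
  | monomial m c =>
    rw [Polynomial.aeval_monomial, Polynomial.coeff_monomial, ← Algebra.smul_def, map_smul,
      GradedAlgebra.proj_apply]
    split_ifs with h
    · subst h
      rw [decompose_of_mem_same 𝒜 (pow_mem_piece hs m)]
    · rw [decompose_of_mem_ne 𝒜 (pow_mem_piece hs m) (by exact_mod_cast h), smul_zero,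
        zero_smul]

theorem piece_eq_smul_pow {s : R} (hs : s ∈ 𝒜 1)
    (hsurj : Function.Surjective (Polynomial.aeval s : Polynomial k →ₐ[k] R)) (n : ℕ) {b : R}
    (hb : b ∈ 𝒜 (n : ℤ)) : ∃ c : k, b = c • s ^ n := by
  obtain ⟨p, rfl⟩ := hsurj b
  refine ⟨p.coeff n, ?_⟩
  rw [← proj_aeval_poly hs p n, GradedAlgebra.proj_apply, decompose_of_mem_same 𝒜 hb]

theorem exists_eval_one {s : R}
    (hbij : Function.Bijective (Polynomial.aeval s : Polynomial k →ₐ[k] R)) :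
    ∃ θ : R →ₐ[k] k, ∀ n : ℕ, θ (s ^ n) = 1 := by
  obtain ⟨e, he⟩ : ∃ e : Polynomial k ≃ₐ[k] R, ∀ p, e p = Polynomial.aeval s p :=
    ⟨AlgEquiv.ofBijective (Polynomial.aeval s : Polynomial k →ₐ[k] R) hbij, fun _ => rfl⟩
  refine ⟨(Polynomial.aeval (1 : k)).comp e.symm.toAlgHom, fun n => ?_⟩
  have h1 : e.symm (s ^ n) = Polynomial.X ^ n := by
    rw [AlgEquiv.symm_apply_eq, he, map_pow, Polynomial.aeval_X]
  show Polynomial.aeval (1 : k) (e.symm (s ^ n)) = 1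
  rw [h1, map_pow, Polynomial.aeval_X, one_pow]

theorem bij_of_presentation [Nontrivial R] (h0 : 𝒜 0 = Submodule.span k {(1 : R)})
    [IsNoetherianRing R] (f : Fin 1 → R)
    (hsurj : Function.Surjective
      (MvPolynomial.aeval f : MvPolynomial (Fin 1) (deg0 (toAS 𝒜)) →ₐ[deg0 (toAS 𝒜)] R))
    (hr : ringKrullDim R = ((1 : ℕ) : WithBot ℕ∞)) :
    Function.Bijective (Polynomial.aeval (f 0) : Polynomial k →ₐ[k] R) := by
  have hsg : Function.Surjective (Polynomial.aeval (f 0) : Polynomial k →ₐ[k] R) := by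
    intro y
    obtain ⟨P, rfl⟩ := hsurj y
    induction P using MvPolynomial.induction_on with
    | C a =>
      obtain ⟨c, hc⟩ := (mem_zero_iff h0 a.1).1 a.2
      refine ⟨Polynomial.C c, ?_⟩
      rw [Polynomial.aeval_C, MvPolynomial.aeval_C, hc]
      rfl
    | add p q hp hq =>
      obtain ⟨a, ha⟩ := hp
      obtain ⟨b, hb⟩ := hq
      exact ⟨a + b, by rw [map_add, map_add, ha, hb]⟩
    | mul_X p i hp =>
      obtain ⟨a, ha⟩ := hp
      refine ⟨a * Polynomial.X, ?_⟩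
      rw [map_mul, map_mul, ha, Polynomial.aeval_X, MvPolynomial.aeval_X, Subsingleton.elim i 0]
  have hig : Function.Injective (Polynomial.aeval (f 0) : Polynomial k →ₐ[k] R) := by
    rw [injective_iff_map_eq_zero]
    intro p hp
    by_contra hp0
    have h1 := ringKrullDim_succ_le_of_surjective
      ((Polynomial.aeval (f 0) : Polynomial k →ₐ[k] R) : Polynomial k →+* R) hsg
      (mem_nonZeroDivisors_of_ne_zero hp0) hp
    rw [hr, Polynomial.ringKrullDim_of_isNoetherianRing, ringKrullDim_eq_zero_of_field,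
      zero_add] at h1
    have h2 : ((1 + 1 : ℕ) : WithBot ℕ∞) ≤ ((1 : ℕ) : WithBot ℕ∞) := by
      push_cast
      exact h1
    have h3 : 1 + 1 ≤ 1 := by exact_mod_cast h2
    omega
  exact ⟨hig, hsg⟩

theorem exists_gen [Nontrivial R] (hpos : ∀ n : ℤ, n < 0 → 𝒜 n = ⊥)
    (h0 : 𝒜 0 = Submodule.span k {(1 : R)}) [hCM : LocCoh.IsCohenMacaulayRing R]
    (hstd : Ideal.span (⋃ n ∈ Set.Ioi (0 : ℤ), (𝒜 n : Set R)) =
      Ideal.span ((𝒜 1 : Submodule k R) : Set R))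
    (hr : ringKrullDim R = ((1 : ℕ) : WithBot ℕ∞)) (e : R ≃ₐ[k] Polynomial k) :
    ∃ s ∈ 𝒜 1, Function.Bijective (Polynomial.aeval s : Polynomial k →ₐ[k] R) := by
  haveI : IsNoetherianRing R := hCM.toIsNoetherian
  have hf : IsField (deg0 (toAS 𝒜)) := isField_deg0 h0
  have hstar := isStarLocal_irr hpos h0 (irr 𝒜) irr_toIdeal
  have hposA := hposAS hpos
  have hstd' : Ideal.span (⋃ n ∈ Set.Ioi (0 : ℤ), (toAS 𝒜 n : Set R)) =
      Ideal.span ((toAS 𝒜 1 : AddSubgroup R) : Set R) := hstd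
  obtain ⟨e'⟩ := nonempty_ringEquiv_of_algEquiv h0 e
  obtain ⟨N, f, hN, hf1, hsurj⟩ :=
    Groth.Agent.Lib.PolyIffH1.exists_presentation (toAS 𝒜) hposA hf hstd'
  have hN1 : N = 1 := Groth.Agent.Lib.PolyIffH1.numgens_eq_of_equiv R (toAS 𝒜) hposA hf
    (idealAS 𝒜 (irr 𝒜)) hstar irr_toIdeal 1 hr e' f hN hsurj
  subst hN1
  exact ⟨f 0, hf1 0, bij_of_presentation h0 f hsurj hr⟩

theorem poly_of_finrank_one [Nontrivial R] (hpos : ∀ n : ℤ, n < 0 → 𝒜 n = ⊥)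
    (h0 : 𝒜 0 = Submodule.span k {(1 : R)}) [hCM : LocCoh.IsCohenMacaulayRing R]
    (hstd : Ideal.span (⋃ n ∈ Set.Ioi (0 : ℤ), (𝒜 n : Set R)) =
      Ideal.span ((𝒜 1 : Submodule k R) : Set R))
    (hr : ringKrullDim R = ((1 : ℕ) : WithBot ℕ∞))
    (h1 : Module.finrank (deg0 (toAS 𝒜)) (comp (toAS 𝒜) (toAS 𝒜) 1) = 1) :
    Nonempty (R ≃ₐ[k] Polynomial k) := by
  haveI : IsNoetherianRing R := hCM.toIsNoetherian
  have hf : IsField (deg0 (toAS 𝒜)) := isField_deg0 h0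
  have hposA := hposAS hpos
  have hstd' : Ideal.span (⋃ n ∈ Set.Ioi (0 : ℤ), (toAS 𝒜 n : Set R)) =
      Ideal.span ((toAS 𝒜 1 : AddSubgroup R) : Set R) := hstd
  obtain ⟨N, f, hN, hf1, hsurj⟩ :=
    Groth.Agent.Lib.PolyIffH1.exists_presentation (toAS 𝒜) hposA hf hstd'
  have hN1 : N = 1 := by
    rw [hN, Groth.Agent.Lib.PolyIffH1.HF_eq_finrank (toAS 𝒜) hposA hf 1]
    exact h1
  subst hN1
  obtain ⟨e⟩ := algEquiv_of_presentation h0 f hsurj hr
  exact ⟨e.symm⟩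

end gen

/-! ### the Segre product with a polynomial ring in one variable -/
section iso

variable {k : Type u} [Field k]
  {R : Type u} [CommRing R] [Algebra k R] {𝒜 : ℤ → Submodule k R} [GradedAlgebra 𝒜]
  {S : Type u} [CommRing S] [Algebra k S] {ℬ : ℤ → Submodule k S} [GradedAlgebra ℬ]
  {T : Type u} [CommRing T] [Algebra k T] {𝒯 : ℤ → Submodule k T} [GradedAlgebra 𝒯]
  {ψ : T →ₐ[k] R ⊗[k] S}

theorem exists_ringEquiv (hT : GrSeg.IsSegreRing 𝒜 ℬ 𝒯 ψ) (hposR : ∀ n : ℤ, n < 0 → 𝒜 n = ⊥)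
    {s : S} (hs : s ∈ ℬ 1)
    (hbij : Function.Bijective (Polynomial.aeval s : Polynomial k →ₐ[k] S)) :
    Nonempty (T ≃+* R) := by
  obtain ⟨θ, hθ⟩ := exists_eval_one hbij
  obtain ⟨Θ, hΘ⟩ : ∃ Θ : R ⊗[k] S →ₐ[k] R, ∀ a b, Θ (a ⊗ₜ[k] b) = θ b • a := by
    refine ⟨(Algebra.TensorProduct.rid k k R).toAlgHom.comp
      (Algebra.TensorProduct.map (AlgHom.id k R) θ), fun a b => ?_⟩
    show Algebra.TensorProduct.rid k k R
      (Algebra.TensorProduct.map (AlgHom.id k R) θ (a ⊗ₜ[k] b)) = _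
    rw [Algebra.TensorProduct.map_tmul, Algebra.TensorProduct.rid_tmul]
    rfl
  have hposT := hpos_T hT hposR
  have hΘmem : ∀ i : ℤ, ∀ z ∈ T2 (𝒜 i) (ℬ i), Θ z ∈ 𝒜 i := fun i z hz =>
    T2_map_mem Θ.toLinearMap (𝒜 i) (fun a ha b _ => by
      show Θ (a ⊗ₜ[k] b) ∈ 𝒜 i
      rw [hΘ]
      exact (𝒜 i).smul_mem _ ha) z hz
  have hrec : ∀ m : ℕ, ∀ z ∈ T2 (𝒜 (m : ℤ)) (ℬ (m : ℤ)), z = Θ z ⊗ₜ[k] (s ^ m) := by
    intro m z hz
    have hpure : ∀ a ∈ 𝒜 (m : ℤ), ∀ b ∈ ℬ (m : ℤ),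
        (LinearMap.id : R ⊗[k] S →ₗ[k] R ⊗[k] S) (a ⊗ₜ[k] b) =
        ((TensorProduct.mk k R S).flip (s ^ m) ∘ₗ Θ.toLinearMap) (a ⊗ₜ[k] b) := by
      intro a _ b hb
      obtain ⟨c, rfl⟩ := piece_eq_smul_pow hs hbij.2 m hb
      rw [LinearMap.id_apply, LinearMap.comp_apply, LinearMap.flip_apply, TensorProduct.mk_apply,
        AlgHom.toLinearMap_apply, hΘ, map_smul, hθ, smul_eq_mul, mul_one,
        TensorProduct.smul_tmul]
    have h := T2_eqOn _ _ hpure z hz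
    rw [LinearMap.id_apply, LinearMap.comp_apply, LinearMap.flip_apply, TensorProduct.mk_apply,
      AlgHom.toLinearMap_apply] at h
    exact h
  have hψmem : ∀ i : ℤ, ∀ t ∈ 𝒯 i, ψ t ∈ T2 (𝒜 i) (ℬ i) := fun i t ht => by
    have h : ψ.toLinearMap t ∈ (𝒯 i).map ψ.toLinearMap := Submodule.mem_map_of_mem ht
    rw [hT.2 i] at h
    exact h
  obtain ⟨ν, hν⟩ : ∃ ν : T →ₐ[k] R, ∀ t, ν t = Θ (ψ t) := ⟨Θ.comp ψ, fun _ => rfl⟩
  have hνmem : ∀ i, ∀ t ∈ 𝒯 i, ν.toLinearMap t ∈ 𝒜 i := fun i t ht => by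
    show ν t ∈ 𝒜 i
    rw [hν]
    exact hΘmem i _ (hψmem i t ht)
  have hνinj : ∀ i, ∀ t ∈ 𝒯 i, ν.toLinearMap t = 0 → t = 0 := by
    intro i t ht h0
    have h0' : Θ (ψ t) = 0 := by
      rw [← hν]
      exact h0
    rcases lt_or_ge i 0 with hi | hi
    · rw [hposT i hi] at ht
      exact (Submodule.mem_bot k).1 ht
    · obtain ⟨m, rfl⟩ := Int.eq_ofNat_of_zero_le hi
      apply hT.1
      rw [map_zero, hrec m _ (hψmem _ t ht), h0', TensorProduct.zero_tmul]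
  have hinj : Function.Injective ν := fun a b h =>
    injective_of_pieces 𝒯 𝒜 ν.toLinearMap hνmem hνinj h
  have hsurj : Function.Surjective ν := by
    intro r
    induction r using DirectSum.Decomposition.inductionOn 𝒜 with
    | zero => exact ⟨0, map_zero _⟩
    | @homogeneous i a =>
      rcases lt_or_ge i 0 with hi | hi
      · have h : (a : R) = 0 := by
          have h' : (a : R) ∈ (⊥ : Submodule k R) := by
            rw [← hposR i hi]
            exact a.2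
          exact (Submodule.mem_bot k).1 h'
        exact ⟨0, by rw [map_zero, h]⟩
      · obtain ⟨m, rfl⟩ := Int.eq_ofNat_of_zero_le hi
        have hmem : (a : R) ⊗ₜ[k] (s ^ m) ∈ GrSeg.segrePiece k 𝒜 ℬ (m : ℤ) :=
          Submodule.subset_span ⟨a, a.2, s ^ m, pow_mem_piece hs m, rfl⟩
        rw [← hT.2 (m : ℤ)] at hmem
        obtain ⟨t, -, ht⟩ := hmem
        have ht' : ψ t = (a : R) ⊗ₜ[k] (s ^ m) := ht
        refine ⟨t, ?_⟩
        rw [hν, ht', hΘ, hθ, one_smul]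
    | add x y hx hy =>
      obtain ⟨tx, rfl⟩ := hx
      obtain ⟨ty, rfl⟩ := hy
      exact ⟨tx + ty, map_add _ _ _⟩
  exact ⟨(AlgEquiv.ofBijective ν ⟨hinj, hsurj⟩).toRingEquiv⟩

end iso

/-! ### S18660 -/

theorem main18660 (k : Type u) [Field k] (R : Type u) [CommRing R] [Algebra k R]
    (𝒜 : ℤ → Submodule k R) [GradedAlgebra 𝒜] (hposR : ∀ n : ℤ, n < 0 → 𝒜 n = ⊥)
    (h0R : 𝒜 0 = Submodule.span k {(1 : R)}) [Algebra.FiniteType k R]
    (S : Type u) [CommRing S] [Algebra k S] (ℬ : ℤ → Submodule k S) [GradedAlgebra ℬ]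
    (hposS : ∀ n : ℤ, n < 0 → ℬ n = ⊥) (h0S : ℬ 0 = Submodule.span k {(1 : S)})
    [Algebra.FiniteType k S]
    (T : Type u) [CommRing T] [Algebra k T] (𝒯 : ℤ → Submodule k T) [GradedAlgebra 𝒯]
    (ψ : T →ₐ[k] TensorProduct k R S) (hψ : Function.Injective ψ)
    (hdegT : ∀ n : ℤ, (𝒯 n).map ψ.toLinearMap =
      Submodule.span k {x : TensorProduct k R S | ∃ a ∈ 𝒜 n, ∃ b ∈ ℬ n, x = a ⊗ₜ[k] b})
    [hCMR : LocCoh.IsCohenMacaulayRing R] [hCMS : LocCoh.IsCohenMacaulayRing S]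
    (hstdR : Ideal.span (⋃ n ∈ Set.Ioi (0 : ℤ), (𝒜 n : Set R)) =
      Ideal.span ((𝒜 1 : Submodule k R) : Set R))
    (hstdS : Ideal.span (⋃ n ∈ Set.Ioi (0 : ℤ), (ℬ n : Set S)) =
      Ideal.span ((ℬ 1 : Submodule k S) : Set S))
    (hr : ringKrullDim R = 1) (hs : ringKrullDim S = 1)
    (hR : IsEmpty (R ≃ₐ[k] Polynomial k)) [hG : LocCoh.IsGorensteinRing T] :
    Nonempty (S ≃ₐ[k] Polynomial k) ∧ LocCoh.IsGorensteinRing R := by
  have hT : GrSeg.IsSegreRing 𝒜 ℬ 𝒯 ψ := ⟨hψ, hdegT⟩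
  have hr' : ringKrullDim R = ((1 : ℕ) : WithBot ℕ∞) := hr.trans Nat.cast_one.symm
  have hs' : ringKrullDim S = ((1 : ℕ) : WithBot ℕ∞) := hs.trans Nat.cast_one.symm
  haveI : Nontrivial R := nontrivial_of_dim 1 hr'
  haveI : Nontrivial S := nontrivial_of_dim 1 hs'
  haveI : IsNoetherianRing R := Algebra.FiniteType.isNoetherianRing k R
  haveI : IsNoetherianRing S := Algebra.FiniteType.isNoetherianRing k S
  haveI : IsNoetherianRing T := Groth.Agent.Lib.SegreNoeth.main 𝒜 ℬ 𝒯 ψ hT.2 hT.1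
  haveI : Nontrivial T := nontrivial_T hT
  have h0T := deg_zero_T hT h0R h0S
  have hposT := hpos_T hT hposR
  have hfR : IsField (deg0 (toAS 𝒜)) := isField_deg0 h0R
  have hfS : IsField (deg0 (toAS ℬ)) := isField_deg0 h0S
  have hfT : IsField (deg0 (toAS 𝒯)) := isField_deg0 h0T
  have hstarT : IsStarLocal (toAS 𝒯) (idealAS 𝒯 (irr 𝒯)) :=
    isStarLocal_irr hposT h0T (irr 𝒯) irr_toIdeal
  have hdimT : ringKrullDim T = ((1 + 1 - 1 : ℕ) : WithBot ℕ∞) :=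
    Groth.Agent.Lib.SegDimH6.main18647 k R 𝒜 hposR h0R S ℬ hposS h0S T 𝒯 ψ hT.1 hT.2 1 1 hr' hs'
      le_rfl le_rfl
  have hhtT : (idealAS 𝒯 (irr 𝒯)).toIdeal.height = ((1 : ℕ) : ℕ∞) := by
    have h1 := Groth.Agent.Lib.GorCanH1.ringKrullDim_eq_height (toAS 𝒯) (hposAS hposT) hfT _ hstarT
    rw [hdimT] at h1
    exact (WithBot.coe_injective h1).symm
  obtain ⟨ER, -⟩ : ∃ E : StarInjRes (toAS 𝒜) (toAS 𝒜), E = minRes (toAS 𝒜) (toAS 𝒜) := ⟨_, rfl⟩
  obtain ⟨ES, -⟩ : ∃ E : StarInjRes (toAS ℬ) (toAS ℬ), E = minRes (toAS ℬ) (toAS ℬ) := ⟨_, rfl⟩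
  obtain ⟨EP, -⟩ : ∃ E : StarInjRes (toAS 𝒯) (toAS 𝒯), E = minRes (toAS 𝒯) (toAS 𝒯) := ⟨_, rfl⟩
  obtain ⟨g, -, finT, -⟩ := gor_top (toAS 𝒯) (hposAS hposT) hfT (idealAS 𝒯 (irr 𝒯)) hstarT
    irr_toIdeal 1 hhtT EP
  haveI : SetLike.GradedSMul 𝒜 (toAS 𝒜) := gsmul_of 𝒜 (toAS 𝒜)
  haveI : SetLike.GradedSMul ℬ (toAS ℬ) := gsmul_of ℬ (toAS ℬ)
  haveI : SetLike.GradedSMul 𝒯 (toAS 𝒯) := gsmul_of 𝒯 (toAS 𝒯)
  have hP : GrSeg.IsSegreMod ψ (toAS 𝒜) (toAS ℬ) (toAS 𝒯) ψ.toLinearMap := segreMod_self hT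
  have vanR : ∀ i : ℕ, i ≠ 1 → ∀ d : ℤ, ER.Hcomp (idealAS 𝒜 (irr 𝒜)) i d = ⊥ :=
    fun i hi d => van_of_cm hposR h0R (irr 𝒜) irr_toIdeal ER 1 hr' i hi d
  have vanS : ∀ i : ℕ, i ≠ 1 → ∀ d : ℤ, ES.Hcomp (idealAS ℬ (irr ℬ)) i d = ⊥ :=
    fun i hi d => van_of_cm hposS h0S (irr ℬ) irr_toIdeal ES 1 hs' i hi d
  haveI : Nontrivial (deg0 (toAS 𝒜)) := hfR.nontrivial
  haveI : Nontrivial (deg0 (toAS ℬ)) := hfS.nontrivial
  have hK : ∀ j : ℤ, Module.finrank (deg0 (toAS 𝒯)) (EP.Hcomp (idealAS 𝒯 (irr 𝒯)) 1 j) =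
      Module.finrank (deg0 (toAS 𝒜)) (comp (toAS 𝒜) (toAS 𝒜) j) *
        Module.finrank (deg0 (toAS ℬ)) (ES.Hcomp (idealAS ℬ (irr ℬ)) 1 j) +
      Module.finrank (deg0 (toAS 𝒜)) (ER.Hcomp (idealAS 𝒜 (irr 𝒜)) 1 j) *
        Module.finrank (deg0 (toAS ℬ)) (comp (toAS ℬ) (toAS ℬ) j) +
      Module.finrank (deg0 (toAS 𝒜)) (ER.Hcomp (idealAS 𝒜 (irr 𝒜)) 1 j) *
        Module.finrank (deg0 (toAS ℬ)) (ES.Hcomp (idealAS ℬ (irr ℬ)) 1 j) := by
    intro j
    have hk := kunneth_AS k R 𝒜 hposR h0R S ℬ hposS h0S T 𝒯 ψ hT (irr 𝒜) irr_toIdeal (irr ℬ)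
      irr_toIdeal (irr 𝒯) irr_toIdeal R (toAS 𝒜) ER S (toAS ℬ) ES T (toAS 𝒯) ψ.toLinearMap hP EP j
      (vanR 0 (by omega) j) (vanS 0 (by omega) j) 1
    have hsum : (Finset.range (1 + 2)).sum (fun i =>
        Module.finrank (deg0 (toAS 𝒜)) (ER.Hcomp (idealAS 𝒜 (irr 𝒜)) i j) *
        Module.finrank (deg0 (toAS ℬ)) (ES.Hcomp (idealAS ℬ (irr ℬ)) (1 + 1 - i) j)) =
        Module.finrank (deg0 (toAS 𝒜)) (ER.Hcomp (idealAS 𝒜 (irr 𝒜)) 1 j) *
        Module.finrank (deg0 (toAS ℬ)) (ES.Hcomp (idealAS ℬ (irr ℬ)) 1 j) := by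
      refine (Finset.sum_eq_single 1 ?_ ?_).trans ?_
      · intro i _ hi
        rw [vanR i hi j, finrank_bot, zero_mul]
      · intro h
        exact absurd (Finset.mem_range.2 (by omega)) h
      · rfl
    rw [hk, hsum]
  have hB : ∀ j : ℤ, Module.finrank (deg0 (toAS 𝒯)) (EP.Hcomp (idealAS 𝒯 (irr 𝒯)) 1 j) =
      Module.finrank (deg0 (toAS 𝒜)) (comp (toAS 𝒜) (toAS 𝒜) (-(g + j))) *
        Module.finrank (deg0 (toAS ℬ)) (comp (toAS ℬ) (toAS ℬ) (-(g + j))) := by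
    intro j
    rw [finT j, finrank_T_piece hT h0R h0S]
  have hcR : ∀ n : ℤ, n < 0 →
      Module.finrank (deg0 (toAS 𝒜)) (comp (toAS 𝒜) (toAS 𝒜) n) = 0 := by
    intro n hn
    have e : comp (toAS 𝒜) (toAS 𝒜) n = ⊥ :=
      (bot_iff_bot (comp (toAS 𝒜) (toAS 𝒜) n) (𝒜 n) (fun x => Iff.rfl)).2 (hposR n hn)
    rw [e]
    exact finrank_bot _ _
  have hcS : ∀ n : ℤ, n < 0 →
      Module.finrank (deg0 (toAS ℬ)) (comp (toAS ℬ) (toAS ℬ) n) = 0 := by
    intro n hn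
    have e : comp (toAS ℬ) (toAS ℬ) n = ⊥ :=
      (bot_iff_bot (comp (toAS ℬ) (toAS ℬ) n) (ℬ n) (fun x => Iff.rfl)).2 (hposS n hn)
    rw [e]
    exact finrank_bot _ _
  have h1R : 1 ≤ ringKrullDim R := by rw [hr]
  have h1S : 1 ≤ ringKrullDim S := by rw [hs]
  have heR : ∀ n : ℤ, Module.finrank (deg0 (toAS 𝒜)) (comp (toAS 𝒜) (toAS 𝒜) n) ≤
      Module.finrank (deg0 (toAS 𝒜)) (comp (toAS 𝒜) (toAS 𝒜) (n + 1)) := fun n =>
    Groth.Agent.GrMono9.finrank_mono (toAS 𝒜) (hposAS hposR) hfR hstdR h1R n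
  have heS : ∀ n : ℤ, Module.finrank (deg0 (toAS ℬ)) (comp (toAS ℬ) (toAS ℬ) n) ≤
      Module.finrank (deg0 (toAS ℬ)) (comp (toAS ℬ) (toAS ℬ) (n + 1)) := fun n =>
    Groth.Agent.GrMono9.finrank_mono (toAS ℬ) (hposAS hposS) hfS hstdS h1S n
  have finR : ∀ j : ℤ, Module.Finite (deg0 (toAS 𝒜)) (ER.Hcomp (idealAS 𝒜 (irr 𝒜)) 1 j) :=
    fun j => Groth.Agent.Lib.GrLES4H1.main13226 (toAS 𝒜) (hposAS hposR) (idealAS 𝒜 (irr 𝒜))
      irr_toIdeal R (toAS 𝒜) ER 1 j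
  have finS : ∀ j : ℤ, Module.Finite (deg0 (toAS ℬ)) (ES.Hcomp (idealAS ℬ (irr ℬ)) 1 j) :=
    fun j => Groth.Agent.Lib.GrLES4H1.main13226 (toAS ℬ) (hposAS hposS) (idealAS ℬ (irr ℬ))
      irr_toIdeal S (toAS ℬ) ES 1 j
  have hnotneg : ¬ endDeg (ER.Hgr (idealAS 𝒜 (irr 𝒜)) 1) < 0 := by
    intro h
    obtain ⟨e⟩ := (poly_iff hposR h0R hstdR hr' ER).1 h
    exact hR.false e
  rw [endDeg_neg_iff] at hnotneg
  push_neg at hnotneg
  obtain ⟨n₀, hn₀, hne⟩ := hnotneg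
  have hf₀ : Module.finrank (deg0 (toAS 𝒜)) (ER.Hcomp (idealAS 𝒜 (irr 𝒜)) 1 n₀) ≠ 0 := by
    intro h
    exact hne ((toAddSubgroup_eq_bot_iff _).2 (eq_bot_of_finrank_eq_zero hfR _ (finR n₀) h))
  have eS : Nonempty (S ≃ₐ[k] Polynomial k) := by
    rcases num_core
      (fun j => Module.finrank (deg0 (toAS 𝒜)) (comp (toAS 𝒜) (toAS 𝒜) j))
      (fun j => Module.finrank (deg0 (toAS ℬ)) (comp (toAS ℬ) (toAS ℬ) j))
      (fun j => Module.finrank (deg0 (toAS 𝒜)) (ER.Hcomp (idealAS 𝒜 (irr 𝒜)) 1 j))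
      (fun j => Module.finrank (deg0 (toAS ℬ)) (ES.Hcomp (idealAS ℬ (irr ℬ)) 1 j))
      (fun j => Module.finrank (deg0 (toAS 𝒯)) (EP.Hcomp (idealAS 𝒯 (irr 𝒯)) 1 j))
      g hK hB hcR hcS (finrank_ring_zero (toAS 𝒜) hfR) (finrank_ring_zero (toAS ℬ) hfS)
      heR heS n₀ hn₀ hf₀ with h | h | h
    · obtain ⟨e⟩ := poly_of_finrank_one hposR h0R hstdR hr' h
      exact (hR.false e).elim
    · exact poly_of_finrank_one hposS h0S hstdS hs' h
    · have hneg : endDeg (ES.Hgr (idealAS ℬ (irr ℬ)) 1) < 0 := by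
        rw [endDeg_neg_iff]
        intro n hn
        exact (toAddSubgroup_eq_bot_iff _).2
          (eq_bot_of_finrank_eq_zero hfS _ (finS n) (h n hn))
      exact (poly_iff hposS h0S hstdS hs' ES).1 hneg
  obtain ⟨e⟩ := eS
  obtain ⟨s, hs1, hbij⟩ := exists_gen hposS h0S hstdS hs' e
  obtain ⟨ι⟩ := exists_ringEquiv hT hposR hs1 hbij
  exact ⟨⟨e⟩, Groth.Agent.GorFlat9.isGorRing_of_ringEquiv ι hG⟩

end Groth.Agent.Lib.SegGor3H1
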