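import Mathlib
import Groth.Prelude.Def_GrLC
import Groth.Prelude.Def_GrSeg
import Groth.Agent.Lib.SegKun_helper1
import Groth.Agent.Lib.GrTens3_helper1
import Groth.Agent.Lib.SegreNoeth_lead

/-! The Künneth formula for the local cohomology of a Segre product `M # N`, when `N` carries a
bijective homogeneous element of positive degree (helper1).  APPEND-ONLY once landed. -/

set_option autoImplicit false

namespace Groth.Agent.Lib.SegKun2H1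

open scoped TensorProduct
open DirectSum GrLC Groth.Agent.Lib.SegreH3 Groth.Agent.Lib.SegF1H1 Groth.Agent.Lib.SegF2H1
  Groth.Agent.Lib.TCrdH1 Groth.Agent.Lib.DivH1 Groth.Agent.Lib.GrAcycH1
  Groth.Agent.Lib.SegTorsH1 Groth.Agent.Lib.GrXferH1 Groth.Agent.Lib.GrLES1H1
  Groth.Agent.Lib.GrLES2H1 Groth.Agent.Lib.SegAcycH1 Groth.Agent.Lib.ARTH1
  Groth.Agent.Lib.Ver3H1 Groth.Agent.Lib.SegKunH1 Groth.Agent.Lib.GrTens3H1

universe u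

attribute [local instance] kMod kTower gsmulX

theorem main19758 (k : Type u) [Field k] (R : Type u) [CommRing R] [Algebra k R]
    (𝒜 : ℤ → Submodule k R) [GradedAlgebra 𝒜] [Algebra.FiniteType k R]
    (S : Type u) [CommRing S] [Algebra k S] (ℬ : ℤ → Submodule k S) [GradedAlgebra ℬ]
    [Algebra.FiniteType k S] (T : Type u) [CommRing T] [Algebra k T] (𝒯 : ℤ → Submodule k T)
    [GradedAlgebra 𝒯] (ψ : T →ₐ[k] TensorProduct k R S) (hT : GrSeg.IsSegreRing 𝒜 ℬ 𝒯 ψ)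
    (mR : HomogeneousIdeal 𝒜)
    (hmR : mR.toIdeal = Ideal.span (⋃ n ∈ Set.Ioi (0 : ℤ), (𝒜 n : Set R)))
    (mT : HomogeneousIdeal 𝒯)
    (hmT : mT.toIdeal = Ideal.span (⋃ n ∈ Set.Ioi (0 : ℤ), (𝒯 n : Set T)))
    (M : Type u) [AddCommGroup M] [Module R M] [Module k M] [IsScalarTower k R M]
    (ℳ : ℤ → AddSubgroup M) [DirectSum.Decomposition ℳ] [SetLike.GradedSMul 𝒜 ℳ]
    (EM : GrLC.StarInjRes 𝒜 ℳ) (N : Type u) [AddCommGroup N] [Module S N] [Module k N]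
    [IsScalarTower k S N] (𝒩 : ℤ → AddSubgroup N) [DirectSum.Decomposition 𝒩]
    [SetLike.GradedSMul ℬ 𝒩] (e : ℕ) (he : 0 < e) (g : S) (hg : g ∈ ℬ (e : ℤ))
    (hgN : Function.Bijective (fun y : N => g • y)) (P : Type u) [AddCommGroup P] [Module T P]
    [Module k P] [IsScalarTower k T P] (𝒬 : ℤ → AddSubgroup P) [DirectSum.Decomposition 𝒬]
    [SetLike.GradedSMul 𝒯 𝒬] (φ : P →ₗ[k] TensorProduct k M N)
    (hP : GrSeg.IsSegreMod ψ ℳ 𝒩 𝒬 φ) (EP : GrLC.StarInjRes 𝒯 𝒬) (q : ℕ)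
    [Module k (EM.H mR q)] [IsScalarTower k R (EM.H mR q)] [Module k (EP.H mT q)]
    [IsScalarTower k T (EP.H mT q)] [DirectSum.Decomposition (EP.Hgr mT q)] :
    ∃ φ' : EP.H mT q →ₗ[k] TensorProduct k (EM.H mR q) N,
      GrSeg.IsSegreMod ψ (EM.Hgr mR q) 𝒩 (EP.Hgr mT q) φ' := by
  haveI : IsNoetherianRing R := Algebra.FiniteType.isNoetherianRing k R
  haveI : IsNoetherianRing T := Groth.Agent.Lib.SegreNoeth.main 𝒜 ℬ 𝒯 ψ hT.2 hT.1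
  obtain ⟨fs, hfs, hmR'⟩ := exists_gens (toAS 𝒜) mR.toIdeal hmR
  have hfs' : ∀ f ∈ fs, ∃ d : ℕ, 0 < d ∧ f ∈ 𝒜 (d : ℤ) := hfs
  have htors : ∀ (X : GMod.{u} (toAS 𝒜)) (z : SegM X.gr 𝒩 hT),
      z ∈ gam (idealAS 𝒯 mT).toIdeal (SegM X.gr 𝒩 hT) ↔
        segι X.gr 𝒩 hT z ∈
          imT N ((gam (idealAS 𝒜 mR).toIdeal X.carrier).restrictScalars k) :=
    fun X z => ⟨imT_of_mem_gam_seg X.gr 𝒩 hT hmT fs hfs' hmR' he hg hgN z,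
      mem_gam_seg_of X.gr 𝒩 hT (map_psi_le hT hmR hmT) z⟩
  have hacyc : ∀ (i : ℕ) (G : StarInjRes (toAS 𝒯) (cA 𝒩 hT (resASM 𝒜 ℳ EM) i).gr) (p : ℕ),
      1 ≤ p → Subsingleton (G.H (idealAS 𝒯 mT) p) := fun i G p hp =>
    acyc_seg 𝒩 hT mR mT hmR hmT he hg hgN fs hfs' ((resASM 𝒜 ℳ EM).X i)
      (div_of_starInj (toAS 𝒜) ((resASM 𝒜 ℳ EM).X i) ((resASM 𝒜 ℳ EM).starInj i))
      (fun x hx => by rw [hmR']; exact (mem_gam_span_list fs x).2 hx) G p hp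
  obtain ⟨θ, hθ⟩ := exists_theta 𝒩 hT (resASM 𝒜 ℳ EM) 𝒬 φ hP
  obtain ⟨c, hc⟩ := ARTH1.main (cA 𝒩 hT (resASM 𝒜 ℳ EM)) (cD 𝒩 hT (resASM 𝒜 ℳ EM))
    (cD_gr 𝒩 hT (resASM 𝒜 ℳ EM)) (cD_exact 𝒩 hT (resASM 𝒜 ℳ EM)) (idealAS 𝒯 mT) hacyc
    (reaug (resASM 𝒯 𝒬 EP) θ hθ) q
  exact core 𝒩 hT (resASM 𝒜 ℳ EM) (idealAS 𝒜 mR) (idealAS 𝒯 mT) htors q (EM.toH mR q)
    (EM.Hgr mR q) (fun z => toH_eq_zero_iff (idealAS 𝒜 mR) (resASM 𝒜 ℳ EM) q z)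
    (fun j z hz => ⟨z, hz, rfl⟩) (fun j h hh => hh) (HP := EP.H mT q) (EP.Hgr mT q) c hc

end Groth.Agent.Lib.SegKun2H1
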