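import Mathlib
import Groth.Prelude.Def_GrSeg
import Groth.Prelude.Def_CAlg

/-!
# Segre products `k[X] # k[Y_1..Y_s]` with shifts: reduction to the polynomial ring (helper6)

Evaluating `X ↦ 1` identifies `R # S` with `S` and `R(a) # S(b)` with the ideal `S_{≥ c}`,
`c = max (b - a) 0`.
-/

open scoped TensorProduct
open MvPolynomial

universe u

namespace Groth.Agent.Lib.SegOneH6

variable (k : Type u) [Field k] (s : ℕ)

/-- weight with all weights `(1 : ℤ)` is the degree -/
theorem weight_one_int {σ : Type*} (d : σ →₀ ℕ) :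
    Finsupp.weight (fun _ : σ => (1 : ℤ)) d = (d.degree : ℤ) := by
  rw [Finsupp.weight_apply, Finsupp.degree_apply, Finsupp.sum, Nat.cast_sum]
  refine Finset.sum_congr rfl (fun i _ => ?_)
  simp

/-- the ideal of polynomials all of whose monomials have degree `≥ c` -/
def Sge (c : ℕ) : Ideal (MvPolynomial (Fin s) k) where
  carrier := {f | ∀ d ∈ f.support, c ≤ d.degree}
  add_mem' := by
    intro f g hf hg d hd
    classical
    rcases Finset.mem_union.mp (MvPolynomial.support_add hd) with h | h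
    · exact hf d h
    · exact hg d h
  zero_mem' := by
    intro d hd
    simp at hd
  smul_mem' := by
    intro g f hf d hd
    classical
    rw [smul_eq_mul] at hd
    have h1 := MvPolynomial.support_mul g f hd
    rw [Finset.mem_add] at h1
    obtain ⟨d1, _, d2, hd2, rfl⟩ := h1
    rw [map_add]
    exact le_trans (hf d2 hd2) (Nat.le_add_left _ _)

variable {k s}

theorem mem_Sge {c : ℕ} {f : MvPolynomial (Fin s) k} :
    f ∈ Sge k s c ↔ ∀ d ∈ f.support, c ≤ d.degree := Iff.rfl

theorem Sge_mul {a b : ℕ} {f g : MvPolynomial (Fin s) k} (hf : f ∈ Sge k s a)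
    (hg : g ∈ Sge k s b) : f * g ∈ Sge k s (a + b) := by
  classical
  intro d hd
  have h1 := MvPolynomial.support_mul f g hd
  rw [Finset.mem_add] at h1
  obtain ⟨d1, hd1, d2, hd2, rfl⟩ := h1
  rw [map_add]
  exact add_le_add (hf d1 hd1) (hg d2 hd2)

theorem monomial_mem_Sge {c : ℕ} (d : Fin s →₀ ℕ) (r : k) (hd : c ≤ d.degree) :
    monomial d r ∈ Sge k s c := by
  classical
  intro e he
  have := MvPolynomial.support_monomial_subset he
  rw [Finset.mem_singleton] at this
  rw [this]; exact hd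

theorem X_pow_mem_Sge (i : Fin s) (c : ℕ) : (X i : MvPolynomial (Fin s) k) ^ c ∈ Sge k s c := by
  rw [X_pow_eq_monomial]
  exact monomial_mem_Sge _ _ (by simp)

theorem X_pow_not_mem_Sge (i : Fin s) (c : ℕ) :
    (X i : MvPolynomial (Fin s) k) ^ c ∉ Sge k s (c + 1) := by
  intro h
  have h1 := h (Finsupp.single i c) (by
    rw [X_pow_eq_monomial, MvPolynomial.mem_support_iff, coeff_monomial, if_pos rfl]
    exact one_ne_zero)
  simp at h1

theorem Sge_zero : Sge k s 0 = ⊤ := by
  rw [Ideal.eq_top_iff_one]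
  intro d _
  exact Nat.zero_le _

theorem Sge_anti {a b : ℕ} (h : a ≤ b) : Sge k s b ≤ Sge k s a :=
  fun _ hf d hd => le_trans h (hf d hd)

/-- a `ℤ`-weighted homogeneous polynomial of degree `j ≥ c` lies in `Sge c` -/
theorem mem_Sge_of_homog {c : ℕ} {j : ℤ} {y : MvPolynomial (Fin s) k}
    (hy : y ∈ weightedHomogeneousSubmodule k (fun _ : Fin s => (1 : ℤ)) j) (hc : (c : ℤ) ≤ j) :
    y ∈ Sge k s c := by
  intro d hd
  have h1 := hy (MvPolynomial.mem_support_iff.mp hd)
  rw [weight_one_int] at h1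
  omega

theorem monomial_mem_homog (d : Fin s →₀ ℕ) (r : k) :
    monomial d r ∈ weightedHomogeneousSubmodule k (fun _ : Fin s => (1 : ℤ)) (d.degree : ℤ) := by
  rw [mem_weightedHomogeneousSubmodule]
  exact isWeightedHomogeneous_monomial _ _ _ (weight_one_int d)

/-- homogeneous polynomials in one variable -/
theorem eq_of_mem_A {i : ℤ} {x : MvPolynomial (Fin 1) k}
    (hx : x ∈ weightedHomogeneousSubmodule k (fun _ : Fin 1 => (1 : ℤ)) i) :
    (i < 0 → x = 0) ∧ (0 ≤ i → x = C (coeff (Finsupp.single 0 i.toNat) x) * X 0 ^ i.toNat) := by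
  have key : ∀ d : Fin 1 →₀ ℕ, coeff d x ≠ 0 → ((d 0 : ℕ) : ℤ) = i := by
    intro d hd
    have h1 := hx hd
    rw [weight_one_int, Finsupp.degree_eq_sum] at h1
    simpa using h1
  constructor
  · intro hi
    ext d
    rw [coeff_zero]
    by_contra hne
    have := key d hne
    omega
  · intro hi
    ext d
    rw [coeff_C_mul, coeff_X_pow]
    by_cases hd : Finsupp.single 0 i.toNat = d
    · rw [if_pos hd, mul_one, hd]
    · rw [if_neg hd, mul_zero]
      by_contra hne
      apply hd
      have h2 := key d hne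
      refine Finsupp.ext (fun j => ?_)
      have hj : j = 0 := Subsingleton.elim _ _
      subst hj
      rw [Finsupp.single_eq_same]
      omega

theorem X_pow_mem_A (m : ℕ) :
    (X 0 : MvPolynomial (Fin 1) k) ^ m ∈
      weightedHomogeneousSubmodule k (fun _ : Fin 1 => (1 : ℤ)) (m : ℤ) := by
  rw [X_pow_eq_monomial]
  have := monomial_mem_homog (k := k) (s := 1) (Finsupp.single 0 m) 1
  simpa using this

variable (k s)

/-- evaluation `X ↦ 1` into `k[Y]` -/
noncomputable def ev1 : MvPolynomial (Fin 1) k →ₐ[k] MvPolynomial (Fin s) k :=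
  MvPolynomial.aeval (fun _ => 1)

/-- `x ⊗ y ↦ x(1) * y` -/
noncomputable def E : (MvPolynomial (Fin 1) k) ⊗[k] (MvPolynomial (Fin s) k) →ₐ[k]
    MvPolynomial (Fin s) k :=
  Algebra.TensorProduct.lift (ev1 k s) (AlgHom.id k _) (fun _ _ => Commute.all _ _)

variable {k s}

@[simp]
theorem E_tmul (x : MvPolynomial (Fin 1) k) (y : MvPolynomial (Fin s) k) :
    E k s (x ⊗ₜ[k] y) = ev1 k s x * y := by
  simp [E]

theorem ev1_C_mul_X_pow (c : k) (m : ℕ) : ev1 k s (C c * X 0 ^ m) = C c := by
  simp [ev1]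

/-- the shifted Segre piece -/
noncomputable abbrev W (a b n : ℤ) : Submodule k ((MvPolynomial (Fin 1) k) ⊗[k] (MvPolynomial (Fin s) k)) :=
  GrSeg.segrePiece k
    (fun n : ℤ => weightedHomogeneousSubmodule k (fun _ : Fin 1 => (1 : ℤ)) (n + a))
    (fun n : ℤ => weightedHomogeneousSubmodule k (fun _ : Fin s => (1 : ℤ)) (n + b)) n

theorem W_prop (a b n : ℤ) (w : (MvPolynomial (Fin 1) k) ⊗[k] (MvPolynomial (Fin s) k))
    (hw : w ∈ W (k := k) (s := s) a b n) :
    E k s w ∈ weightedHomogeneousSubmodule k (fun _ : Fin s => (1 : ℤ)) (n + b) ∧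
    w = ((X 0 : MvPolynomial (Fin 1) k) ^ (n + a).toNat) ⊗ₜ[k] E k s w ∧
    (n + a < 0 → w = 0) := by
  unfold W GrSeg.segrePiece at hw
  induction hw using Submodule.span_induction with
  | mem w hw =>
    obtain ⟨x, hx, y, hy, rfl⟩ := hw
    obtain ⟨h1, h2⟩ := eq_of_mem_A hx
    by_cases hn : n + a < 0
    · rw [h1 hn]
      simp
    · have hn' : 0 ≤ n + a := not_lt.mp hn
      have hx' := h2 hn'
      set c := coeff (Finsupp.single 0 (n + a).toNat) x with hc
      refine ⟨?_, ?_, fun h => absurd h hn⟩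
      · rw [E_tmul, hx', ev1_C_mul_X_pow, C_mul']
        exact Submodule.smul_mem _ _ hy
      · rw [E_tmul]
        nth_rw 1 [hx']
        rw [hx', ev1_C_mul_X_pow, C_mul', C_mul', TensorProduct.smul_tmul]
  | zero => simp
  | add w1 w2 _ _ h1 h2 =>
    refine ⟨?_, ?_, ?_⟩
    · rw [map_add]; exact Submodule.add_mem _ h1.1 h2.1
    · rw [map_add, TensorProduct.tmul_add, ← h1.2.1, ← h2.2.1]
    · intro h; rw [h1.2.2 h, h2.2.2 h, add_zero]
  | smul r w _ h =>
    refine ⟨?_, ?_, ?_⟩
    · rw [map_smul]; exact Submodule.smul_mem _ _ h.1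
    · rw [map_smul, TensorProduct.tmul_smul, ← h.2.1]
    · intro h'; rw [h.2.2 h', smul_zero]

end Groth.Agent.Lib.SegOneH6
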