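import Mathlib
import Groth.Agent.Lib.SegOne1_helper6

/-!
# Segre products `k[X] # k[Y_1..Y_s]` with shifts: the map to `k[Y]` (helper6)
-/

open scoped TensorProduct
open MvPolynomial

universe u

namespace Groth.Agent.Lib.SegOneH6

variable {k : Type u} [Field k] {s : ℕ}
variable {P : Type u} [AddCommGroup P] [Module k P] {τQ : Type u} [SetLike τQ P]
  [AddSubgroupClass τQ P] (𝒬 : ℤ → τQ) [DirectSum.Decomposition 𝒬]
  (φ : P →ₗ[k] (MvPolynomial (Fin 1) k) ⊗[k] (MvPolynomial (Fin s) k)) (a b : ℤ)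

/-- the composite `P → R ⊗ S → S` -/
noncomputable def tau : P →ₗ[k] MvPolynomial (Fin s) k := (E k s).toLinearMap ∘ₗ φ

@[simp] theorem tau_apply (p : P) : tau φ p = E k s (φ p) := rfl

variable {𝒬 φ a b}

theorem tau_homog (himg : ∀ n, φ '' (𝒬 n : Set P) = (W (k := k) (s := s) a b n : Set _))
    {n : ℤ} {p : P} (hp : p ∈ 𝒬 n) :
    tau φ p ∈ weightedHomogeneousSubmodule k (fun _ : Fin s => (1 : ℤ)) (n + b) ∧
    φ p = ((X 0 : MvPolynomial (Fin 1) k) ^ (n + a).toNat) ⊗ₜ[k] tau φ p ∧
    (n + a < 0 → φ p = 0) := by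
  have h1 : φ p ∈ (W (k := k) (s := s) a b n : Set _) := by
    rw [← himg n]; exact ⟨p, hp, rfl⟩
  exact W_prop a b n (φ p) h1

theorem tau_decompose (himg : ∀ n, φ '' (𝒬 n : Set P) = (W (k := k) (s := s) a b n : Set _))
    (p : P) (n₀ : ℤ) :
    tau φ (DirectSum.decompose 𝒬 p n₀ : P) =
      weightedHomogeneousComponent (fun _ : Fin s => (1 : ℤ)) (n₀ + b) (tau φ p) := by
  induction p using DirectSum.Decomposition.inductionOn 𝒬 with
  | zero => simp
  | @homogeneous i m =>
    have h1 := (tau_homog himg m.2).1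
    rw [mem_weightedHomogeneousSubmodule] at h1
    by_cases hi : i = n₀
    · subst hi
      rw [DirectSum.decompose_coe, DirectSum.of_eq_same,
        h1.weightedHomogeneousComponent_same]
    · rw [DirectSum.decompose_coe, DirectSum.of_eq_of_ne _ _ _ (fun h => hi h.symm)]
      rw [h1.weightedHomogeneousComponent_ne (n₀ + b) (by omega)]
      simp
  | add m m' h1 h2 =>
    rw [DirectSum.decompose_add, DirectSum.add_apply, AddMemClass.coe_add, map_add, h1, h2,
      map_add, map_add]

theorem tau_injective (hinj : Function.Injective φ)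
    (himg : ∀ n, φ '' (𝒬 n : Set P) = (W (k := k) (s := s) a b n : Set _)) :
    Function.Injective (tau φ) := by
  rw [injective_iff_map_eq_zero]
  intro p hp
  have h1 : ∀ n, (DirectSum.decompose 𝒬 p n : P) = 0 := by
    intro n
    have h2 := tau_decompose himg p n
    rw [hp, map_zero] at h2
    have h3 := (tau_homog himg (DirectSum.decompose 𝒬 p n).2).2.1
    rw [h2, TensorProduct.tmul_zero] at h3
    exact hinj (h3.trans (map_zero φ).symm)
  classical
  rw [← DirectSum.sum_support_decompose 𝒬 p]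
  exact Finset.sum_eq_zero (fun i _ => h1 i)

theorem tau_mem_Sge (himg : ∀ n, φ '' (𝒬 n : Set P) = (W (k := k) (s := s) a b n : Set _))
    (p : P) : tau φ p ∈ Sge k s (b - a).toNat := by
  induction p using DirectSum.Decomposition.inductionOn 𝒬 with
  | zero => rw [map_zero]; exact Submodule.zero_mem _
  | @homogeneous i m =>
    obtain ⟨h1, h2, h3⟩ := tau_homog himg m.2
    by_cases hn : i + a < 0
    · rw [tau_apply, h3 hn, map_zero]; exact Submodule.zero_mem _
    · intro d hd
      have h4 := h1 (MvPolynomial.mem_support_iff.mp hd)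
      rw [weight_one_int] at h4
      omega
  | add m m' h1 h2 => rw [map_add]; exact Submodule.add_mem _ h1 h2

theorem exists_tau_eq_of_mem_Sge
    (himg : ∀ n, φ '' (𝒬 n : Set P) = (W (k := k) (s := s) a b n : Set _))
    (f : MvPolynomial (Fin s) k) (hf : f ∈ Sge k s (b - a).toNat) : ∃ p, tau φ p = f := by
  suffices h : f ∈ LinearMap.range (tau φ) from h
  rw [← MvPolynomial.support_sum_monomial_coeff f]
  refine Submodule.sum_mem _ (fun d hd => ?_)
  have hd' := hf d hd
  set n : ℤ := (d.degree : ℤ) - b with hn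
  have hna : 0 ≤ n + a := by omega
  have h1 : ((X 0 : MvPolynomial (Fin 1) k) ^ (n + a).toNat) ⊗ₜ[k] (monomial d (coeff d f)) ∈
      (W (k := k) (s := s) a b n : Set _) := by
    refine Submodule.subset_span ⟨_, ?_, _, ?_, rfl⟩
    · have := X_pow_mem_A (k := k) (n + a).toNat
      rwa [Int.toNat_of_nonneg hna] at this
    · have := monomial_mem_homog (k := k) d (coeff d f)
      have h2 : n + b = (d.degree : ℤ) := by omega
      rwa [← h2] at this
  rw [← himg n] at h1
  obtain ⟨p, _, hp⟩ := h1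
  refine ⟨p, ?_⟩
  rw [tau_apply, hp, E_tmul]
  simp [ev1]

end Groth.Agent.Lib.SegOneH6
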