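import Mathlib
import Groth.Agent.Lib.SegOne2_helper6
import Groth.Agent.Lib.Depth_helper5
import Groth.Agent.Lib.RegQuot_helper5

/-!
# Segre products `k[X] # k[Y_1..Y_s]` with shifts: depth one and Cohen–Macaulayness (helper6)
-/

open scoped TensorProduct Pointwise
open MvPolynomial

universe u

namespace Groth.Agent.Lib.SegOneH6

variable {k : Type u} [Field k] {s : ℕ}

theorem act_eq_mul {R S : Type u} [CommRing R] [CommRing S] [Algebra k R] [Algebra k S]
    (x y : R ⊗[k] S) : GrSeg.act k R S R S x y = x * y := by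
  induction x using TensorProduct.induction_on with
  | zero => simp
  | tmul r s' =>
    induction y using TensorProduct.induction_on with
    | zero => simp
    | tmul m n => rw [GrSeg.act_tmul, Algebra.TensorProduct.tmul_mul_tmul, smul_eq_mul, smul_eq_mul]
    | add y1 y2 h1 h2 => rw [map_add, h1, h2, mul_add]
  | add x1 x2 h1 h2 => rw [map_add, LinearMap.add_apply, h1, h2, add_mul]

section DepthOne

variable {T P : Type u} [CommRing T] [AddCommGroup P] [Module T P]

/-- a module isomorphic (semilinearly) to the ideal `S_{≥ c}`, `c ≥ 1`, has depth one -/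
theorem idealDepth_eq_one (I : Ideal T) (σ : T →+* MvPolynomial (Fin s) k)
    (τ : P →+ MvPolynomial (Fin s) k) (hτ : Function.Injective τ)
    (hmul : ∀ t p, τ (t • p) = σ t * τ p) (c : ℕ) (hc : 1 ≤ c)
    (hrange : ∀ f, f ∈ Sge k s c ↔ ∃ p, τ p = f) (hI : ∀ t ∈ I, σ t ∈ Sge k s 1)
    (i0 : Fin s) (t₁ : T) (ht₁ : t₁ ∈ I) (hσt₁ : σ t₁ = X i0) :
    LocCoh.idealDepth I P = 1 := by
  classical
  set z : MvPolynomial (Fin s) k := X i0 with hz
  have hz0 : z ≠ 0 := X_ne_zero i0
  obtain ⟨p₀, hp₀⟩ := (hrange (z ^ c)).mp (X_pow_mem_Sge i0 c)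
  have hp₀ne : p₀ ≠ 0 := by
    intro h
    rw [h, map_zero] at hp₀
    exact pow_ne_zero c hz0 hp₀.symm
  have hne : I • (⊤ : Submodule T P) ≠ ⊤ := by
    intro htop
    have h1 : ∀ p ∈ I • (⊤ : Submodule T P), τ p ∈ Sge k s (c + 1) := by
      intro p hp
      refine Submodule.smul_induction_on hp (fun t ht p _ => ?_) (fun x y hx hy => ?_)
      · rw [hmul, add_comm]
        exact Sge_mul (hI t ht) ((hrange _).mpr ⟨p, rfl⟩)
      · rw [map_add]; exact Submodule.add_mem _ hx hy
    have h2 := h1 p₀ (by rw [htop]; trivial)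
    rw [hp₀] at h2
    exact X_pow_not_mem_Sge i0 c h2
  unfold LocCoh.idealDepth
  rw [if_neg hne]
  apply le_antisymm
  · refine iSup₂_le (fun rs hrs => ?_)
    obtain ⟨hreg, hmem⟩ := hrs
    match rs, hreg, hmem with
    | [], _, _ => simp
    | [r], _, _ => simp
    | r₁ :: r₂ :: rest, hreg, hmem =>
      exfalso
      rw [RingTheory.Sequence.isWeaklyRegular_cons_iff,
        RingTheory.Sequence.isWeaklyRegular_cons_iff] at hreg
      obtain ⟨h1, h2, -⟩ := hreg
      have hf : σ r₁ ∈ Sge k s 1 := hI _ (hmem r₁ (by simp))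
      have hg : σ r₂ ∈ Sge k s 1 := hI _ (hmem r₂ (by simp))
      have hc' : 1 + (c - 1) = c := by omega
      have hzc : z ^ (c - 1) ∈ Sge k s (c - 1) := X_pow_mem_Sge i0 (c - 1)
      obtain ⟨u, hu⟩ := (hrange (σ r₁ * z ^ (c - 1))).mp (by
        have := Sge_mul hf hzc
        rwa [hc'] at this)
      obtain ⟨v, hv⟩ := (hrange (σ r₂ * z ^ (c - 1))).mp (by
        have := Sge_mul hg hzc
        rwa [hc'] at this)
      have huv : r₂ • u = r₁ • v := by
        apply hτ
        rw [hmul, hmul, hu, hv]
        ring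
      have hf0 : σ r₁ ≠ 0 := by
        intro h0
        apply hp₀ne
        apply h1
        apply hτ
        simp only [hmul, h0, zero_mul, smul_zero, map_zero]
      have hmk : (Submodule.Quotient.mk u : QuotSMulTop r₁ P) = 0 := by
        apply h2
        simp only [smul_zero]
        rw [← Submodule.Quotient.mk_smul, huv, Submodule.Quotient.mk_eq_zero]
        exact Submodule.smul_mem_pointwise_smul v r₁ ⊤ trivial
      rw [Submodule.Quotient.mk_eq_zero] at hmk
      obtain ⟨w, -, hw⟩ := hmk
      have h3 : σ r₁ * z ^ (c - 1) = σ r₁ * τ w := by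
        rw [← hu, ← hmul]
        exact congrArg τ hw.symm
      have h4 := mul_left_cancel₀ hf0 h3
      have h5 : z ^ (c - 1) ∈ Sge k s c := (hrange _).mpr ⟨w, h4.symm⟩
      have h6 := X_pow_not_mem_Sge (k := k) i0 (c - 1)
      rw [Nat.sub_add_cancel hc] at h6
      exact h6 h5
  · refine le_iSup₂_of_le [t₁] ⟨?_, ?_⟩ (by simp)
    · rw [RingTheory.Sequence.isWeaklyRegular_cons_iff]
      refine ⟨?_, RingTheory.Sequence.IsWeaklyRegular.nil _ _⟩
      intro p p' hpp'
      apply hτ
      have h1 : τ (t₁ • p) = τ (t₁ • p') := congrArg τ hpp'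
      rw [hmul, hmul, hσt₁] at h1
      exact mul_left_cancel₀ hz0 h1
    · intro r hr
      rw [List.mem_singleton] at hr
      rw [hr]; exact ht₁

end DepthOne

section CM

variable {T P : Type u} [CommRing T] [AddCommGroup P] [Module T P]

/-- a module semilinearly isomorphic to the polynomial ring is Cohen–Macaulay at every prime -/
theorem isCM_of_bijective (σ : T →+* MvPolynomial (Fin s) k) (hσ : Function.Bijective σ)
    (τ : P →+ MvPolynomial (Fin s) k) (hτ : Function.Bijective τ)
    (hmul : ∀ t p, τ (t • p) = σ t * τ p) (q : Ideal T) [q.IsPrime] :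
    LocCoh.IsCohenMacaulayModule (Localization.AtPrime q) (LocalizedModule q.primeCompl P) := by
  let σe : T ≃+* MvPolynomial (Fin s) k := RingEquiv.ofBijective σ hσ
  let τe : P ≃+ MvPolynomial (Fin s) k := AddEquiv.ofBijective τ hτ
  have : IsRegularRing T := IsRegularRing.of_ringEquiv σe.symm
  let e : P ≃ₗ[T] T :=
    { toFun := fun p => σe.symm (τe p)
      invFun := fun t => τe.symm (σe t)
      map_add' := fun x y => by simp
      map_smul' := fun t p => by
        apply σe.injective
        simp only [RingHom.id_apply, smul_eq_mul, map_mul, RingEquiv.apply_symm_apply]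
        exact hmul t p
      left_inv := fun p => by simp
      right_inv := fun t => by simp }
  let e' : LocalizedModule q.primeCompl P ≃ₗ[Localization.AtPrime q] Localization.AtPrime q :=
    IsLocalizedModule.mapEquiv q.primeCompl (LocalizedModule.mkLinearMap q.primeCompl P)
      (Algebra.linearMap T (Localization.AtPrime q)) (Localization.AtPrime q) e
  have h1 := Groth.Agent.RegQuot.isCM_of_regular (Localization.AtPrime q)
  unfold LocCoh.IsCohenMacaulayModule LocCoh.depth at *
  rw [Module.supportDim_eq_of_equiv e', Groth.Agent.DepthLib.idealDepth_congr _ _ e']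
  exact h1

end CM

end Groth.Agent.Lib.SegOneH6
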