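import Mathlib
import Groth.Prelude.Def_GrLC
import Groth.Prelude.Def_GrLC2
import Groth.Prelude.Def_CAlg
import Groth.Prelude.Def_Wider
import Groth.Agent.Lib.GrXfer_helper1
import Groth.Agent.Lib.AInv_helper1
import Groth.Agent.Lib.Grass_helper1
import Groth.Agent.Lib.GorLCI_helper9
import Groth.Agent.Lib.GorField_helper9
import Groth.Agent.Lib.FlatCM2_helper9
import Groth.Agent.Lib.TensorFieldCM_helper9

/-! The *canonical module of a weighted polynomial ring over a field (helper1, S18651). -/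

set_option autoImplicit false

namespace Groth.Agent.Lib.WPolyCanH1

open DirectSum GrLC Groth.Agent.Lib.GrStarH1 Groth.Agent.Lib.GrStar3H1
  Groth.Agent.Lib.GrStar4H1 Groth.Agent.Lib.GrLES1H1
  Groth.Agent.Lib.GrLES4H1 Groth.Agent.Lib.GrHDecH1 Groth.Agent.Lib.MinResH1
  Groth.Agent.Lib.GorCanH1 Groth.Agent.Lib.AInvH1 Groth.Agent.Lib.GrXferH1

open scoped Pointwise

universe u

/-! ### general facts for positively graded *local rings -/

section general

variable {R : Type u} [CommRing R] (𝒜 : ℤ → AddSubgroup R) [GradedRing 𝒜]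
variable {E' : Type u} [AddCommGroup E'] [Module R E'] (𝓔 : ℤ → AddSubgroup E') [Decomposition 𝓔]
  [SetLike.GradedSMul 𝒜 𝓔]
variable {C : Type u} [AddCommGroup C] [Module R C] (𝒞 : ℤ → AddSubgroup C) [Decomposition 𝒞]
  [SetLike.GradedSMul 𝒜 𝒞]

/-- the *injective hull of `R/m` lives in non-positive degrees -/
theorem E_pos_eq_bot (hpos : ∀ n : ℤ, n < 0 → 𝒜 n = ⊥)
    (m : HomogeneousIdeal 𝒜) [hmax : m.toIdeal.IsMaximal]
    (hmsp : m.toIdeal = Ideal.span (⋃ n ∈ Set.Ioi (0 : ℤ), (𝒜 n : Set R)))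
    (e : (R ⧸ m.toIdeal) →ₗ[R] E') (he : IsStarInjHull 𝒜 (GrLC.quotGr 𝒜 m) 𝓔 e) (g : ℤ)
    (hg : 0 < g) : 𝓔 g = ⊥ := by
  classical
  haveI : m.toIdeal.IsPrime := hmax.isPrime
  have hph := phull_of_hull 𝒜 𝓔 m he
  obtain ⟨u, hu⟩ : ∃ u, u = e (Ideal.Quotient.mk m.toIdeal 1) := ⟨_, rfl⟩
  rw [← hu] at hph
  rw [eq_bot_iff]
  intro y hy
  rw [AddSubgroup.mem_bot]
  by_contra hy0
  have hN : Submodule.span R {y} ≠ ⊥ := by
    intro h
    apply hy0
    have h1 : y ∈ Submodule.span R {y} := Submodule.mem_span_singleton_self y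
    rw [h, Submodule.mem_bot] at h1
    exact h1
  obtain ⟨t, ht, ht0⟩ := hph.exists_mem_span 𝒜 𝓔 hN
  have htail : Submodule.span R {y} ≤ tail 𝒜 𝓔 hpos g := by
    rw [Submodule.span_le, Set.singleton_subset_iff]
    exact gr_le_tail 𝒜 𝓔 hpos le_rfl hy
  have hu' : ∀ r ∈ m.toIdeal, r • u = 0 := fun r hr => (hph.ann r).2 hr
  have h0 : t • u ∈ 𝓔 0 := by
    have h1 : t - (decompose 𝒜 t 0 : R) ∈ m.toIdeal := by
      rw [hmsp]
      exact sub_decompose_zero_mem_irr 𝒜 hpos t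
    have h2 : t • u = (decompose 𝒜 t 0 : R) • u := by
      have h3 := hu' _ h1
      rw [sub_smul, sub_eq_zero] at h3
      exact h3
    rw [h2]
    have h4 := GrStarH1.smul_mem_gr 𝒜 𝓔 (decompose 𝒜 t 0).2 hph.mem
    rw [zero_add] at h4
    exact h4
  exact ht0 (eq_zero_of_mem_tail 𝒜 𝓔 hpos hg h0 (htail ht))

/-- the `a`-invariant read off from `K_R ≅ R(-a)` -/
theorem endDeg_top_eq_neg [IsNoetherianRing R] (hpos : ∀ n : ℤ, n < 0 → 𝒜 n = ⊥)
    (m : HomogeneousIdeal 𝒜) [hmax : m.toIdeal.IsMaximal]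
    (hmsp : m.toIdeal = Ideal.span (⋃ n ∈ Set.Ioi (0 : ℤ), (𝒜 n : Set R)))
    (e : (R ⧸ m.toIdeal) →ₗ[R] E') (he : IsStarInjHull 𝒜 (GrLC.quotGr 𝒜 m) 𝓔 e)
    (n : ℕ) (I : StarInjRes 𝒜 𝒜)
    (φ : (C →ₗ[R] E') ≃ₗ[R] I.H m n)
    (hφ : IsGrHom (fun d => (homDeg 𝒜 𝒞 𝓔 d).toAddSubgroup) (I.Hgr m n) φ.toLinearMap)
    (a : ℤ) (f : R →ₗ[R] C) (hf : Function.Bijective f) (hfa : IsGrHomDeg 𝒜 𝒞 f a) :
    endDeg (I.Hgr m n) = (((-a : ℤ) : WithTop ℤ) : WithBot (WithTop ℤ)) := by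
  classical
  haveI : m.toIdeal.IsPrime := hmax.isPrime
  obtain ⟨F, hF⟩ : ∃ F : R ≃ₗ[R] C, ∀ r, F r = f r :=
    ⟨LinearEquiv.ofBijective f hf, fun r => rfl⟩
  have hFsymm : ∀ (h : ℤ) (c : C), c ∈ 𝒞 h → F.symm c ∈ 𝒜 (h - a) := by
    intro h c hc
    apply mem_of_map_mem_deg 𝒜 𝒞 hfa hf.1
    rw [← hF, LinearEquiv.apply_symm_apply]
    exact hc
  obtain ⟨Θ, hΘ⟩ : ∃ Θ : E' ≃ₗ[R] (C →ₗ[R] E'), ∀ y c, Θ y c = F.symm c • y :=
    ⟨thetaEquiv F, fun y c => rfl⟩
  letI : Decomposition (I.Hgr m n) := (main13225 𝒜 𝒜 m I n).chooseDecomposition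
  obtain ⟨Φ, hΦ⟩ : ∃ Φ : E' ≃ₗ[R] I.H m n, Φ = Θ.trans φ := ⟨_, rfl⟩
  have hΦdeg : IsGrHomDeg 𝓔 (I.Hgr m n) Φ.toLinearMap (-a) := by
    intro g y hy
    have h1 : Θ y ∈ (homDeg 𝒜 𝒞 𝓔 (g + -a)).toAddSubgroup := by
      change IsGrHomDeg 𝒞 𝓔 (Θ y) (g + -a)
      intro h c hc
      rw [hΘ]
      have h2 := GrStarH1.smul_mem_gr 𝒜 𝓔 (hFsymm h c hc) hy
      exact mem_congr 𝓔 (by ring) h2
    rw [hΦ]
    exact hφ (g + -a) (Θ y) h1
  have hph := phull_of_hull 𝒜 𝓔 m he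
  obtain ⟨u, hu⟩ : ∃ u, u = e (Ideal.Quotient.mk m.toIdeal 1) := ⟨_, rfl⟩
  rw [← hu] at hph
  have hune : u ≠ 0 := hph.ne_zero 𝓔 hmax.ne_top
  apply le_antisymm
  · refine iSup₂_le (fun j hj => ?_)
    obtain ⟨h, hh, hh0⟩ := exists_ne_zero_of_ne_bot hj
    have h2 : Φ.toLinearMap (Φ.symm h) ∈ I.Hgr m n j := by
      change Φ (Φ.symm h) ∈ _
      rw [LinearEquiv.apply_symm_apply]
      exact hh
    have h3 := mem_of_map_mem_deg 𝓔 (I.Hgr m n) hΦdeg Φ.injective h2
    have h4 : ¬ (0 < j - -a) := by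
      intro hpos'
      have h5 := E_pos_eq_bot 𝒜 𝓔 hpos m hmsp e he (j - -a) hpos'
      rw [h5, AddSubgroup.mem_bot] at h3
      apply hh0
      have h6 := congrArg Φ h3
      rw [LinearEquiv.apply_symm_apply, map_zero] at h6
      exact h6
    have h6 : j ≤ -a := by omega
    exact WithBot.coe_le_coe.2 (WithTop.coe_le_coe.2 h6)
  · have h1 : Φ.toLinearMap u ∈ I.Hgr m n (0 + -a) := hΦdeg 0 u hph.mem
    rw [zero_add] at h1
    have h2 : Φ.toLinearMap u ≠ 0 := by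
      intro h0
      apply hune
      apply Φ.injective
      rw [map_zero]
      exact h0
    have h3 : I.Hgr m n (-a) ≠ ⊥ := by
      intro hb
      rw [hb, AddSubgroup.mem_bot] at h1
      exact h2 h1
    exact le_iSup₂ (f := fun (k : ℤ) (_ : I.Hgr m n k ≠ ⊥) =>
      ((k : WithTop ℤ) : WithBot (WithTop ℤ))) (-a) h3

/-- `H⁰_m` of a module concentrated in degree `0` and killed by `m` -/
theorem endDeg_H0 {N : Type u} [AddCommGroup N] [Module R N] (𝒩 : ℤ → AddSubgroup N)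
    [Decomposition 𝒩] [SetLike.GradedSMul 𝒜 𝒩] (m : HomogeneousIdeal 𝒜)
    (h𝒩 : ∀ j : ℤ, j ≠ 0 → 𝒩 j = ⊥) (v : N) (hv : v ∈ 𝒩 0) (hv0 : v ≠ 0)
    (hmv : ∀ r ∈ m.toIdeal, r • v = 0) (F : StarInjRes 𝒜 𝒩) :
    endDeg (F.Hgr m 0) = (((0 : ℤ) : WithTop ℤ) : WithBot (WithTop ℤ)) := by
  apply le_antisymm
  · refine iSup₂_le (fun j hj => ?_)
    obtain ⟨y, hy, hy0⟩ := exists_ne_zero_of_ne_bot hj
    have h1 : Psi0 F m y ∈ 𝒩 j := Psi0_mem_gr F m j y hy
    have h2 : Psi0 F m y ≠ 0 := fun h0 => hy0 (Psi0_injective F m (by rw [h0, map_zero]))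
    have hj0 : j = 0 := by
      by_contra hne
      rw [h𝒩 j hne, AddSubgroup.mem_bot] at h1
      exact h2 h1
    rw [hj0]
  · have hz1 : F.ε v ∈ F.cocyc m 0 := by
      refine Submodule.mem_inf.2 ⟨⟨1, fun r hr => ?_⟩, ?_⟩
      · rw [pow_one] at hr
        rw [← map_smul, hmv r hr, map_zero]
      · rw [F.exact_zero]
        exact ⟨v, rfl⟩
    have hne : F.Hgr m 0 0 ≠ ⊥ := by
      intro hb
      have h3 : F.toH m 0 ⟨F.ε v, hz1⟩ ∈ F.Hgr m 0 0 :=
        ⟨⟨F.ε v, hz1⟩, F.ε_grHom 0 v hv, rfl⟩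
      rw [hb, AddSubgroup.mem_bot] at h3
      have h4 := ε_Psi0 F m ⟨F.ε v, hz1⟩
      rw [h3, map_zero, map_zero] at h4
      apply hv0
      apply F.ε_injective
      rw [map_zero]
      exact h4.symm
    exact le_iSup₂ (f := fun (k : ℤ) (_ : F.Hgr m 0 k ≠ ⊥) =>
      ((k : WithTop ℤ) : WithBot (WithTop ℤ))) 0 hne

/-- the residue module `R/m` is concentrated in degree `0` -/
theorem quot_piece_eq_bot (hpos : ∀ n : ℤ, n < 0 → 𝒜 n = ⊥) (m : HomogeneousIdeal 𝒜)
    (hmsp : m.toIdeal = Ideal.span (⋃ n ∈ Set.Ioi (0 : ℤ), (𝒜 n : Set R))) (j : ℤ)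
    (hj : j ≠ 0) : Groth.Agent.Lib.GrStar2H1.quotGr 𝒜 m.toIdeal j = ⊥ := by
  rw [eq_bot_iff]
  rintro _ ⟨y, hy, rfl⟩
  rw [AddSubgroup.mem_bot]
  rcases lt_or_gt_of_ne hj with h | h
  · have hy' : y ∈ 𝒜 j := hy
    rw [hpos j h, AddSubgroup.mem_bot] at hy'
    rw [hy', map_zero]
  · have h1 : y ∈ m.toIdeal := by
      rw [hmsp]
      exact Ideal.subset_span (Set.mem_iUnion₂.2 ⟨j, h, hy⟩)
    change m.toIdeal.mkQ y = 0
    rw [Submodule.mkQ_apply, Submodule.Quotient.mk_eq_zero]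
    exact h1

end general

/-! ### the weighted polynomial ring -/

section poly

open MvPolynomial RingTheory.Sequence

variable (k : Type u) [Field k] {N : ℕ} (w : Fin N → ℤ)

attribute [local instance] MvPolynomial.weightedGradedAlgebra

/-- the weighted grading, valued in additive subgroups -/
noncomputable abbrev WA : ℤ → AddSubgroup (MvPolynomial (Fin N) k) :=
  toAS (weightedHomogeneousSubmodule k w)

variable {k w}

theorem weight_nonneg (hw : ∀ i, 0 < w i) (d : Fin N →₀ ℕ) : 0 ≤ Finsupp.weight w d := by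
  rw [Finsupp.weight_apply, Finsupp.sum]
  exact Finset.sum_nonneg (fun j _ => nsmul_nonneg (hw j).le _)

theorem weight_pos (hw : ∀ i, 0 < w i) {d : Fin N →₀ ℕ} (hd : d ≠ 0) :
    0 < Finsupp.weight w d := by
  rw [Finsupp.weight_apply, Finsupp.sum]
  obtain ⟨i, hi⟩ : ∃ i, d i ≠ 0 := by
    by_contra h
    push_neg at h
    exact hd (Finsupp.ext h)
  have hi' : i ∈ d.support := Finsupp.mem_support_iff.2 hi
  have h1 : (0 : ℤ) < d i • w i := by
    rw [nsmul_eq_mul]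
    exact mul_pos (by exact_mod_cast Nat.pos_of_ne_zero hi) (hw i)
  exact lt_of_lt_of_le h1
    (Finset.single_le_sum (f := fun j => d j • w j) (fun j _ => nsmul_nonneg (hw j).le _) hi')

theorem WA_neg (hw : ∀ i, 0 < w i) (n : ℤ) (hn : n < 0) : WA k w n = ⊥ := by
  rw [eq_bot_iff]
  intro p hp
  rw [AddSubgroup.mem_bot]
  by_contra hp0
  have hp' : IsWeightedHomogeneous w p n := hp
  obtain ⟨d, hd⟩ := MvPolynomial.ne_zero_iff.1 hp0
  have h1 : Finsupp.weight w d = n := hp' hd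
  have h2 := weight_nonneg hw d
  omega

theorem eq_C_of_mem_zero (hw : ∀ i, 0 < w i) {p : MvPolynomial (Fin N) k}
    (hp : p ∈ WA k w 0) : p = C (coeff 0 p) := by
  classical
  have hp' : IsWeightedHomogeneous w p 0 := hp
  ext d
  rw [coeff_C]
  by_cases hd : 0 = d
  · rw [if_pos hd, hd]
  · rw [if_neg hd]
    by_contra h
    have h1 : Finsupp.weight w d = 0 := hp' h
    have h2 := weight_pos hw (Ne.symm hd)
    omega

theorem isField_deg0 (hw : ∀ i, 0 < w i) : IsField (GrLC.deg0 (WA k w)) where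
  exists_pair_ne := ⟨0, 1, fun h =>
    zero_ne_one (α := MvPolynomial (Fin N) k) (congrArg Subtype.val h)⟩
  mul_comm := mul_comm
  mul_inv_cancel := by
    rintro ⟨a, ha⟩ hne
    have ha' : a ∈ WA k w 0 := ha
    obtain ⟨c, rfl⟩ : ∃ c, a = C c := ⟨_, eq_C_of_mem_zero hw ha'⟩
    have hc : c ≠ 0 := by
      rintro rfl
      exact hne (Subtype.ext (map_zero C))
    refine ⟨⟨C c⁻¹, (show C c⁻¹ ∈ WA k w 0 from isWeightedHomogeneous_C w c⁻¹)⟩,
      Subtype.ext ?_⟩
    change C c * C c⁻¹ = 1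
    rw [← C_mul, mul_inv_cancel₀ hc, C_1]

theorem X_mem (i : Fin N) : (X i : MvPolynomial (Fin N) k) ∈ WA k w (w i) :=
  isWeightedHomogeneous_X k w i

theorem dim_eq : ringKrullDim (MvPolynomial (Fin N) k) = N := by
  rw [MvPolynomial.ringKrullDim_of_isNoetherianRing, ringKrullDim_eq_zero_of_field, zero_add,
    Nat.card_fin]

theorem irr_eq_span_X (hw : ∀ i, 0 < w i) :
    Ideal.span (⋃ n ∈ Set.Ioi (0 : ℤ), ((WA k w n : AddSubgroup (MvPolynomial (Fin N) k)) :
      Set (MvPolynomial (Fin N) k))) = Ideal.span (Set.range X) := by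
  apply le_antisymm
  · rw [Ideal.span_le]
    intro p hp
    obtain ⟨n, hn, hpn⟩ := Set.mem_iUnion₂.1 hp
    have hp' : IsWeightedHomogeneous w p n := hpn
    rw [← Set.image_univ, SetLike.mem_coe, mem_ideal_span_X_image]
    intro d hd
    have h1 : Finsupp.weight w d = n := hp' (mem_support_iff.1 hd)
    have hd0 : d ≠ 0 := by
      rintro rfl
      rw [map_zero] at h1
      have h2 : (0 : ℤ) < n := hn
      omega
    obtain ⟨i, hi⟩ : ∃ i, d i ≠ 0 := by
      by_contra h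
      push_neg at h
      exact hd0 (Finsupp.ext h)
    exact ⟨i, Set.mem_univ i, hi⟩
  · rw [Ideal.span_le]
    rintro _ ⟨i, rfl⟩
    exact Ideal.subset_span (Set.mem_iUnion₂.2 ⟨w i, hw i, X_mem i⟩)

theorem ofList_map_X (l : List (Fin N)) :
    Ideal.ofList (l.map (X : Fin N → MvPolynomial (Fin N) k)) =
      Ideal.span (X '' {j | j ∈ l}) := by
  unfold Ideal.ofList
  congr 1
  ext r
  simp only [Set.mem_setOf_eq, List.mem_map, Set.mem_image]

theorem weaklyRegular_map_X : ∀ l : List (Fin N), l.Nodup →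
    IsWeaklyRegular (MvPolynomial (Fin N) k) (l.map (X : Fin N → MvPolynomial (Fin N) k)) := by
  intro l
  induction l using List.reverseRecOn with
  | nil =>
    intro _
    exact IsWeaklyRegular.nil _ _
  | append_singleton l i ih =>
    intro hnd
    have hl : l.Nodup := hnd.of_append_left
    have hi : i ∉ l := fun hmem =>
      List.disjoint_of_nodup_append hnd hmem (List.mem_singleton_self i)
    simp only [List.map_append, List.map_cons, List.map_nil]
    rw [Groth.Agent.Lib.GrassH1.isWeaklyRegular_append_singleton]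
    refine ⟨ih hl, fun u hu => ?_⟩
    rw [ofList_map_X, mem_ideal_span_X_image] at hu ⊢
    intro d hd
    have h1 : Finsupp.single i 1 + d ∈ (X i * u).support := by
      rw [mem_support_iff, coeff_X_mul]
      exact mem_support_iff.1 hd
    obtain ⟨j, hj, hj0⟩ := hu _ h1
    refine ⟨j, hj, ?_⟩
    have hji : i ≠ j := fun h => hi (h ▸ hj)
    rw [Finsupp.add_apply, Finsupp.single_apply, if_neg hji, zero_add] at hj0
    exact hj0

theorem ofList_ofFn_X :
    Ideal.ofList (List.ofFn (X : Fin N → MvPolynomial (Fin N) k)) = Ideal.span (Set.range X) := by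
  unfold Ideal.ofList
  congr 1
  ext r
  rw [Set.mem_setOf_eq, List.mem_ofFn']

theorem regular_X
    (hne : Ideal.span (Set.range (X : Fin N → MvPolynomial (Fin N) k)) ≠ ⊤) :
    IsRegular (MvPolynomial (Fin N) k) (List.ofFn (X : Fin N → MvPolynomial (Fin N) k)) := by
  refine ⟨?_, ?_⟩
  · rw [List.ofFn_eq_map]
    exact weaklyRegular_map_X _ (List.nodup_finRange N)
  · rw [ofList_ofFn_X, smul_eq_mul, Ideal.mul_top]
    exact fun h => hne h.symm

end poly

/-! ### the main theorem -/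

section main

open MvPolynomial

attribute [local instance] MvPolynomial.weightedGradedAlgebra

theorem main18651 (k : Type u) [Field k] (N : ℕ) (w : Fin N → ℤ) (hw : ∀ i, 0 < w i)
    (m : HomogeneousIdeal (MvPolynomial.weightedHomogeneousSubmodule k w))
    (hm : GrLC.IsStarLocal (MvPolynomial.weightedHomogeneousSubmodule k w) m)
    (hmsp : m.toIdeal = Ideal.span (⋃ n ∈ Set.Ioi (0 : ℤ),
      (MvPolynomial.weightedHomogeneousSubmodule k w n : Set (MvPolynomial (Fin N) k))))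
    (I : GrLC.StarInjRes (MvPolynomial.weightedHomogeneousSubmodule k w)
      (MvPolynomial.weightedHomogeneousSubmodule k w))
    (E' : Type u) [AddCommGroup E'] [Module (MvPolynomial (Fin N) k) E'] (𝓔 : ℤ → AddSubgroup E')
    [DirectSum.Decomposition 𝓔]
    [SetLike.GradedSMul (MvPolynomial.weightedHomogeneousSubmodule k w) 𝓔]
    (e : (MvPolynomial (Fin N) k ⧸ m.toIdeal) →ₗ[MvPolynomial (Fin N) k] E')
    (he : GrLC.IsStarInjHull (MvPolynomial.weightedHomogeneousSubmodule k w)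
      (GrLC.quotGr (MvPolynomial.weightedHomogeneousSubmodule k w) m) 𝓔 e)
    (C : Type u) [AddCommGroup C] [Module (MvPolynomial (Fin N) k) C] (𝒞 : ℤ → AddSubgroup C)
    [DirectSum.Decomposition 𝒞]
    [SetLike.GradedSMul (MvPolynomial.weightedHomogeneousSubmodule k w) 𝒞]
    (hC : GrLC.IsStarCanonical (MvPolynomial.weightedHomogeneousSubmodule k w) 𝒞 𝓔 m N I) :
    ∃ f : MvPolynomial (Fin N) k →ₗ[MvPolynomial (Fin N) k] C, Function.Bijective f ∧
      GrLC.IsGrHomDeg (MvPolynomial.weightedHomogeneousSubmodule k w) 𝒞 f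
        ((Finset.univ : Finset (Fin N)).sum w) := by
  classical
  haveI hGor : LocCoh.IsGorensteinRing (MvPolynomial (Fin N) k) :=
    @Groth.Agent.GorLCI9.isGorRing_mvPolynomial_fin k _ (Groth.Agent.GorFlat9.isGorRing_field k) N
  haveI hCM : LocCoh.IsCohenMacaulayRing (MvPolynomial (Fin N) k) :=
    @Groth.Agent.FlatCM.isCMRing_mvPolynomial k _ (Groth.Agent.TensorCM.isCMRing_field k) N
  haveI : IsNoetherianRing (MvPolynomial (Fin N) k) := hCM.toIsNoetherian
  have hpos : ∀ n : ℤ, n < 0 → WA k w n = ⊥ := WA_neg hw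
  have h0 : IsField (GrLC.deg0 (WA k w)) := isField_deg0 hw
  have hm' : IsStarLocal (WA k w) (idealAS (weightedHomogeneousSubmodule k w) m) :=
    isStarLocal_AS _ hm
  have hmsp' : (idealAS (weightedHomogeneousSubmodule k w) m).toIdeal =
      Ideal.span (⋃ n ∈ Set.Ioi (0 : ℤ), ((WA k w n : AddSubgroup (MvPolynomial (Fin N) k)) :
        Set (MvPolynomial (Fin N) k))) := hmsp
  have hn : ringKrullDim (MvPolynomial (Fin N) k) = N := dim_eq
  have he' := hull_AS (weightedHomogeneousSubmodule k w) 𝓔 m e he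
  have hC' := canonical_AS (weightedHomogeneousSubmodule k w) 𝒞 𝓔 m N I hC
  obtain ⟨a, f, hf, hfa⟩ := (main18638 (MvPolynomial (Fin N) k) (WA k w) hpos h0
    (idealAS (weightedHomogeneousSubmodule k w) m) hm' hmsp' N hn
    (resAS (weightedHomogeneousSubmodule k w) I) E' 𝓔 e he' C 𝒞 hC').1 hGor
  haveI hmax : (idealAS (weightedHomogeneousSubmodule k w) m).toIdeal.IsMaximal :=
    isMaximal_of_starLocal (WA k w) hpos _ hm'
  obtain ⟨hfin, φ, hφ⟩ := hC'
  have hend := endDeg_top_eq_neg (WA k w) 𝓔 𝒞 hpos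
    (idealAS (weightedHomogeneousSubmodule k w) m) hmsp' e he' N
    (resAS (weightedHomogeneousSubmodule k w) I) φ hφ a f hf hfa
  have hmX : (idealAS (weightedHomogeneousSubmodule k w) m).toIdeal =
      Ideal.span (Set.range X) := by
    rw [hmsp']
    exact irr_eq_span_X hw
  have hreg : RingTheory.Sequence.IsRegular (MvPolynomial (Fin N) k)
      (List.ofFn (X : Fin N → MvPolynomial (Fin N) k)) :=
    regular_X (hmX ▸ hmax.ne_top)
  obtain ⟨P, hP⟩ : ∃ P : Submodule (MvPolynomial (Fin N) k) (MvPolynomial (Fin N) k),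
      P = (idealAS (weightedHomogeneousSubmodule k w) m).toIdeal := ⟨_, rfl⟩
  have hPh : P.IsHomogeneous (WA k w) :=
    hP ▸ (idealAS (weightedHomogeneousSubmodule k w) m).isHomogeneous
  letI := Groth.Agent.Lib.GrStar2H1.quotDecomp (WA k w) P hPh
  letI := Groth.Agent.Lib.GrStar2H1.quot_gsmul (WA k w) (WA k w) P
  have hfm : ∀ i, (X i : MvPolynomial (Fin N) k) ∈
      (idealAS (weightedHomogeneousSubmodule k w) m).toIdeal := by
    intro i
    rw [hmX]
    exact Ideal.subset_span ⟨i, rfl⟩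
  have hinv := main18645 (MvPolynomial (Fin N) k) (WA k w) hpos h0
    (idealAS (weightedHomogeneousSubmodule k w) m) hm' hmsp' N hn
    (resAS (weightedHomogeneousSubmodule k w) I) N le_rfl X w (fun i => X_mem i) hfm hreg
    (MvPolynomial (Fin N) k ⧸ P) (Groth.Agent.Lib.GrStar2H1.quotGr (WA k w) P) P.mkQ
    (Groth.Agent.Lib.GrStar2H1.mkQ_isGrHom (WA k w) P) P.mkQ_surjective
    (by rw [Submodule.ker_mkQ, hP, hmX])
    (minRes (WA k w) (Groth.Agent.Lib.GrStar2H1.quotGr (WA k w) P))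
  have h1P : (1 : MvPolynomial (Fin N) k) ∉ P := by
    rw [hP]
    exact fun h => hmax.ne_top ((Ideal.eq_top_iff_one _).2 h)
  have hH0 := endDeg_H0 (WA k w) (Groth.Agent.Lib.GrStar2H1.quotGr (WA k w) P)
    (idealAS (weightedHomogeneousSubmodule k w) m)
    (fun j hj => by
      rw [hP]
      exact quot_piece_eq_bot (WA k w) hpos _ hmsp' j hj)
    (P.mkQ 1)
    (Groth.Agent.Lib.GrStar2H1.mk_mem_quotGr (WA k w) P
      (show (1 : MvPolynomial (Fin N) k) ∈ WA k w 0 from SetLike.GradedOne.one_mem))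
    (by
      rw [Submodule.mkQ_apply, Ne, Submodule.Quotient.mk_eq_zero]
      exact h1P)
    (fun r hr => by
      rw [← map_smul, smul_eq_mul, mul_one, Submodule.mkQ_apply, Submodule.Quotient.mk_eq_zero,
        hP]
      exact hr)
    (minRes (WA k w) (Groth.Agent.Lib.GrStar2H1.quotGr (WA k w) P))
  rw [Nat.sub_self, hH0, hend, ← WithBot.coe_add, ← WithTop.coe_add] at hinv
  have h2 := WithTop.coe_injective (WithBot.coe_injective hinv)
  have ha : a = (Finset.univ : Finset (Fin N)).sum w := by omega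
  refine ⟨f, hf, ?_⟩
  rw [← ha]
  exact isGrHomDeg_of_AS (weightedHomogeneousSubmodule k w) 𝒞 hfa

end main

end Groth.Agent.Lib.WPolyCanH1
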