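import Mathlib
import Groth.Prelude.Def_GrLC
import Groth.Prelude.Def_GrLC2
import Groth.Prelude.Def_CAlg
import Groth.Prelude.Def_Wider
import Groth.Agent.Lib.WPolyCan_helper1
import Groth.Agent.Lib.VerType_helper1
import Groth.Agent.Lib.GrLaurent_helper1

/-! The type of the Veronese subrings of a polynomial ring (helper1, S20027). -/

set_option autoImplicit false

namespace Groth.Agent.Lib.VerPolyH1

open DirectSum GrLC Groth.Agent.Lib.GrStarH1 Groth.Agent.Lib.GrStar3H1
  Groth.Agent.Lib.GrHDecH1 Groth.Agent.Lib.MinResH1 Groth.Agent.Lib.AInvH1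
  Groth.Agent.Lib.GrXferH1 Groth.Agent.Lib.WPolyCanH1 Groth.Agent.Lib.SocleH1
  Groth.Agent.Lib.GrHS3H1 Groth.Agent.Lib.Ver1H1 Groth.Agent.Lib.VerGor2H1
  Groth.Agent.Lib.VerTypeH1 Groth.Agent.Lib.GrLaurentH1

universe u

/-! ### pulling back a grading to a Veronese subring -/
section pull

variable {R R' : Type u} [CommRing R] [CommRing R'] (𝒜 : ℤ → AddSubgroup R)
  (φ : R' →+* R) (d : ℕ)

/-- the Veronese grading pulled back along `φ` -/
def pull : ℤ → AddSubgroup R' := fun j => (𝒜 (j * d)).comap (φ : R' →+ R)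

theorem mem_pull {j : ℤ} {x : R'} : x ∈ pull 𝒜 φ d j ↔ φ x ∈ 𝒜 (j * d) := Iff.rfl

variable [GradedRing 𝒜]

theorem pull_gmon : SetLike.GradedMonoid (pull 𝒜 φ d) where
  one_mem := by
    change φ 1 ∈ 𝒜 ((0 : ℤ) * d)
    rw [map_one, zero_mul]
    exact SetLike.GradedOne.one_mem
  mul_mem := by
    intro i j a b ha hb
    change φ (a * b) ∈ 𝒜 ((i + j) * d)
    rw [map_mul, add_mul]
    exact SetLike.GradedMul.mul_mem ((mem_pull 𝒜 φ d).1 ha) ((mem_pull 𝒜 φ d).1 hb)

theorem pull_internal (hφ : Function.Injective φ) (hd : 0 < d)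
    (h1 : ∀ (x : R') (i : ℤ), ¬ (d : ℤ) ∣ i → ((decompose 𝒜 (φ x)) i : R) = 0)
    (h2 : ∀ (j : ℤ) (p : R), p ∈ 𝒜 (j * d) → p ∈ φ.range) :
    DirectSum.IsInternal (pull 𝒜 φ d) := by
  classical
  have hd' : (d : ℤ) ≠ 0 := by exact_mod_cast hd.ne'
  have hinj : Function.Injective (fun j : ℤ => j * (d : ℤ)) :=
    fun a b h => mul_right_cancel₀ hd' h
  have key : ∀ (j : ℤ) (z : ⨁ j, pull 𝒜 φ d j),
      φ ((z j : pull 𝒜 φ d j) : R') =
        ((decompose 𝒜 (φ (DirectSum.coeAddMonoidHom (pull 𝒜 φ d) z))) (j * d) : R) := by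
    intro j z
    induction z using DirectSum.induction_on with
    | zero => simp
    | of i y =>
      rw [DirectSum.coeAddMonoidHom_of]
      have hy : φ (y : R') ∈ 𝒜 (i * d) := y.2
      by_cases hij : i = j
      · subst hij
        rw [DirectSum.of_eq_same, decompose_of_mem_same 𝒜 hy]
      · rw [DirectSum.of_eq_of_ne _ _ _ (Ne.symm hij),
          decompose_of_mem_ne 𝒜 hy (fun h => hij (hinj h)), ZeroMemClass.coe_zero, map_zero]
    | add a b ha hb =>
      rw [DirectSum.add_apply, AddSubgroup.coe_add, map_add, map_add, map_add, decompose_add,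
        DirectSum.add_apply, AddSubgroup.coe_add, ha, hb]
  constructor
  · rw [injective_iff_map_eq_zero]
    intro z hz
    refine DFunLike.ext _ _ (fun j => Subtype.ext (hφ ?_))
    rw [key j z, hz, map_zero, decompose_zero]
    change ((0 : 𝒜 (j * d)) : R) = φ ((0 : pull 𝒜 φ d j) : R')
    rw [ZeroMemClass.coe_zero, ZeroMemClass.coe_zero, map_zero]
  · intro x
    have hpre : ∀ j : ℤ, ∃ y : R', φ y = ((decompose 𝒜 (φ x)) (j * d) : R) := fun j =>
      RingHom.mem_range.1 (h2 j _ (SetLike.coe_mem ((decompose 𝒜 (φ x)) (j * d))))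
    choose ψ hψ using hpre
    have hψmem : ∀ j, ψ j ∈ pull 𝒜 φ d j := fun j => by
      rw [mem_pull, hψ]
      exact SetLike.coe_mem _
    refine ⟨∑ j ∈ (DFinsupp.support (decompose 𝒜 (φ x))).preimage
      (fun j : ℤ => j * (d : ℤ)) hinj.injOn,
      DirectSum.of (fun j => pull 𝒜 φ d j) j ⟨ψ j, hψmem j⟩, ?_⟩
    apply hφ
    rw [map_sum, map_sum]
    simp only [DirectSum.coeAddMonoidHom_of, hψ]
    refine Eq.trans (Finset.sum_preimage (fun j : ℤ => j * (d : ℤ)) _ hinj.injOn
      (fun i => ((decompose 𝒜 (φ x)) i : R)) ?_) (sum_support_decompose 𝒜 (φ x))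
    intro i _ hir
    apply h1 x i
    rintro ⟨c, rfl⟩
    exact hir ⟨c, mul_comm _ _⟩

/-- the pulled-back grading is a ring grading -/
noncomputable def pullGradedRing (hint : DirectSum.IsInternal (pull 𝒜 φ d)) :
    GradedRing (pull 𝒜 φ d) :=
  { pull_gmon 𝒜 φ d, hint.chooseDecomposition with }

omit [GradedRing 𝒜] in
theorem pull_map (h2 : ∀ (j : ℤ) (p : R), p ∈ 𝒜 (j * d) → p ∈ φ.range) (j : ℤ) :
    (pull 𝒜 φ d j).map (φ : R' →+ R) = 𝒜 (j * d) := by
  ext p
  constructor
  · rintro ⟨y, hy, rfl⟩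
    exact hy
  · intro hp
    obtain ⟨y, rfl⟩ := RingHom.mem_range.1 (h2 j p hp)
    exact ⟨y, hp, rfl⟩

end pull

/-! ### the standard graded polynomial ring -/
section poly

open MvPolynomial

attribute [local instance] MvPolynomial.weightedGradedAlgebra

variable (k : Type u) [Field k] (N : ℕ)

/-- all weights equal to one -/
def w1 : Fin N → ℤ := fun _ => 1

theorem w1_pos (i : Fin N) : 0 < w1 N i := Int.one_pos

/-- the standard grading of the polynomial ring -/
noncomputable abbrev W1 : ℤ → AddSubgroup (MvPolynomial (Fin N) k) := WA k (w1 N)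

variable {k N}

theorem weight_w1 (e : Fin N →₀ ℕ) : Finsupp.weight (w1 N) e = (e.degree : ℤ) := by
  rw [Finsupp.weight_apply, Finsupp.sum, Finsupp.degree_apply, Nat.cast_sum]
  refine Finset.sum_congr rfl (fun i _ => ?_)
  change (e i) • (1 : ℤ) = ((e i : ℕ) : ℤ)
  rw [nsmul_eq_mul, mul_one]

theorem mem_W1_iff (n : ℕ) (p : MvPolynomial (Fin N) k) :
    p ∈ W1 k N (n : ℤ) ↔ p.IsHomogeneous n := by
  constructor
  · intro hp e he
    have hp' : IsWeightedHomogeneous (w1 N) p (n : ℤ) := hp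
    have h1 : Finsupp.weight (w1 N) e = (n : ℤ) := hp' he
    rw [weight_w1] at h1
    have h2 : e.degree = n := by exact_mod_cast h1
    rw [← h2]
    exact (DFunLike.congr_fun Finsupp.degree_eq_weight_one e).symm
  · intro hp
    have hp' : IsWeightedHomogeneous (w1 N) p (n : ℤ) := by
      intro e he
      have h1 : Finsupp.weight (1 : Fin N → ℕ) e = n := hp he
      rw [weight_w1, ← h1]
      exact congrArg _ (DFunLike.congr_fun Finsupp.degree_eq_weight_one e)
    exact hp'

theorem decompose_eq_zero (d : ℕ) (p : MvPolynomial (Fin N) k)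
    (hp : ∀ j : ℕ, ¬ d ∣ j → homogeneousComponent j p = 0) (i : ℤ) (hi : ¬ (d : ℤ) ∣ i) :
    ((decompose (W1 k N) p) i : MvPolynomial (Fin N) k) = 0 := by
  have hsum : ((decompose (W1 k N) p) i : MvPolynomial (Fin N) k) =
      ∑ n ∈ Finset.range (p.totalDegree + 1),
        ((decompose (W1 k N) (homogeneousComponent n p)) i : MvPolynomial (Fin N) k) := by
    rw [← coe_decompose_sum, sum_homogeneousComponent]
  rw [hsum]
  apply Finset.sum_eq_zero
  intro n _
  by_cases hn : d ∣ n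
  · apply decompose_of_mem_ne (W1 k N)
      ((mem_W1_iff n _).2 (homogeneousComponent_isHomogeneous n p))
    rintro rfl
    exact hi (Int.natCast_dvd_natCast.2 hn)
  · rw [hp n hn, decompose_zero, DirectSum.zero_apply, ZeroMemClass.coe_zero]

theorem mem_range_of_mem {R' : Type u} [CommRing R'] (φ : R' →+* MvPolynomial (Fin N) k) (d : ℕ)
    (hrange : ∀ p : MvPolynomial (Fin N) k, p ∈ φ.range ↔
      ∀ j : ℕ, ¬ d ∣ j → MvPolynomial.homogeneousComponent j p = 0)
    (j : ℤ) (p : MvPolynomial (Fin N) k) (hp : p ∈ W1 k N (j * d)) : p ∈ φ.range := by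
  rw [hrange]
  intro n hn
  rcases lt_or_ge (j * (d : ℤ)) 0 with hneg | hnn
  · have hbot : W1 k N (j * d) = ⊥ := WA_neg (w1_pos N) _ hneg
    rw [hbot, AddSubgroup.mem_bot] at hp
    rw [hp, map_zero]
  · obtain ⟨m, hm⟩ := Int.eq_ofNat_of_zero_le hnn
    rw [hm] at hp
    have hp' : p.IsHomogeneous m := (mem_W1_iff m p).1 hp
    rw [homogeneousComponent_of_mem ((mem_homogeneousSubmodule _ _).2 hp'), if_neg]
    rintro rfl
    apply hn
    have h3 : (d : ℤ) ∣ (n : ℤ) := ⟨j, by rw [← hm]; ring⟩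
    exact Int.natCast_dvd_natCast.1 h3

theorem constantCoeff_eq_zero {i : ℤ} (hi : 0 < i) {p : MvPolynomial (Fin N) k}
    (hp : p ∈ W1 k N i) : constantCoeff p = 0 := by
  by_contra h
  have hp' : IsWeightedHomogeneous (w1 N) p i := hp
  have h0 : coeff 0 p ≠ 0 := by
    rw [constantCoeff_eq] at h
    exact h
  have h1 : Finsupp.weight (w1 N) (0 : Fin N →₀ ℕ) = i := hp' h0
  rw [map_zero] at h1
  omega

theorem hstd_W1 :
    Ideal.span (⋃ n ∈ Set.Ioi (0 : ℤ), ((W1 k N n : AddSubgroup (MvPolynomial (Fin N) k)) :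
      Set (MvPolynomial (Fin N) k))) =
    Ideal.span ((W1 k N 1 : AddSubgroup (MvPolynomial (Fin N) k)) :
      Set (MvPolynomial (Fin N) k)) := by
  apply le_antisymm
  · rw [irr_eq_span_X (k := k) (w1_pos N), Ideal.span_le]
    rintro _ ⟨i, rfl⟩
    exact Ideal.subset_span (X_mem (k := k) (w := w1 N) i)
  · apply Ideal.span_mono
    intro p hp
    exact Set.mem_iUnion₂.2 ⟨1, Set.mem_Ioi.2 one_pos, hp⟩

/-- the number of monomials of degree `n` in `N` variables -/
theorem finrank_homog (k : Type u) [Field k] (N n : ℕ) :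
    Module.finrank k (homogeneousSubmodule (Fin N) k n) = (N + n - 1).choose n := by
  classical
  have hset : {e : Fin N →₀ ℕ | e.degree = n} =
      ↑((Finset.univ : Finset (Fin N)).finsuppAntidiag n) := by
    ext e
    rw [Set.mem_setOf_eq, Finset.mem_coe, Finset.mem_finsuppAntidiag]
    constructor
    · intro h
      refine ⟨?_, Finset.subset_univ _⟩
      rw [← h, Finsupp.degree_eq_sum]
    · rintro ⟨h, -⟩
      rw [← h, Finsupp.degree_eq_sum]
  have e : homogeneousSubmodule (Fin N) k n ≃ₗ[k] (↥{e : Fin N →₀ ℕ | e.degree = n} →₀ k) :=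
    (LinearEquiv.ofEq _ _ (homogeneousSubmodule_eq_finsupp_supported (Fin N) k n)).trans
      (AddMonoidAlgebra.supportedEquivFinsupp {e : Fin N →₀ ℕ | e.degree = n})
  rw [e.finrank_eq, Module.finrank_eq_nat_card_basis (Finsupp.basisSingleOne),
    Nat.card_coe_set_eq, hset, Set.ncard_coe_finset,
    Finset.card_finsuppAntidiag_nat_eq_choose, Finset.card_univ, Fintype.card_fin]

theorem finrank_comp_poly (n : ℕ) :
    Module.finrank (deg0 (W1 k N)) (comp (W1 k N) (W1 k N) (n : ℤ)) = (N + n - 1).choose n := by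
  have h1 : Module.rank k (homogeneousSubmodule (Fin N) k n) =
      Module.rank (deg0 (W1 k N)) (comp (W1 k N) (W1 k N) (n : ℤ)) := by
    refine rank_eq_of_equiv_equiv
      (fun c => (⟨C c, (show C c ∈ W1 k N 0 from isWeightedHomogeneous_C (w1 N) c)⟩ :
        deg0 (W1 k N)))
      { toFun := fun p => ⟨p.1, (mem_W1_iff n p.1).2 ((mem_homogeneousSubmodule _ _).1 p.2)⟩
        invFun := fun p => ⟨p.1, (mem_homogeneousSubmodule _ _).2 ((mem_W1_iff n p.1).1 p.2)⟩
        left_inv := fun p => rfl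
        right_inv := fun p => rfl
        map_add' := fun p q => rfl } ⟨?_, ?_⟩ ?_
    · intro a b hab
      exact C_injective _ _ (congrArg Subtype.val hab)
    · rintro ⟨a, ha⟩
      exact ⟨coeff 0 a, Subtype.ext (eq_C_of_mem_zero (w1_pos N) ha).symm⟩
    · intro c p
      apply Subtype.ext
      change c • (p : MvPolynomial (Fin N) k) =
        (C c : MvPolynomial (Fin N) k) * (p : MvPolynomial (Fin N) k)
      exact smul_eq_C_mul _ _
  rw [Module.finrank, ← h1]
  exact finrank_homog k N n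

end poly

/-! ### the `a`-invariant of a weighted polynomial ring -/
section ainv

open MvPolynomial

attribute [local instance] MvPolynomial.weightedGradedAlgebra

theorem endDeg_poly (k : Type u) [Field k] (N : ℕ) (w : Fin N → ℤ) (hw : ∀ i, 0 < w i) :
    endDeg ((minRes (WA k w) (WA k w)).Hgr (Rp (WA k w)) N) =
      (((-((Finset.univ : Finset (Fin N)).sum w) : ℤ) : WithTop ℤ) : WithBot (WithTop ℤ)) := by
  classical
  haveI hGor : LocCoh.IsGorensteinRing (MvPolynomial (Fin N) k) :=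
    @Groth.Agent.GorLCI9.isGorRing_mvPolynomial_fin k _ (Groth.Agent.GorFlat9.isGorRing_field k) N
  haveI hCM : LocCoh.IsCohenMacaulayRing (MvPolynomial (Fin N) k) :=
    @Groth.Agent.FlatCM.isCMRing_mvPolynomial k _ (Groth.Agent.TensorCM.isCMRing_field k) N
  haveI : IsNoetherianRing (MvPolynomial (Fin N) k) := hCM.toIsNoetherian
  have hpos : ∀ n : ℤ, n < 0 → WA k w n = ⊥ := WA_neg hw
  have h0 : IsField (GrLC.deg0 (WA k w)) := isField_deg0 hw
  have hm : IsStarLocal (WA k w) (Rp (WA k w)) := isStarLocal_Rp (WA k w) hpos h0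
  have hmsp : (Rp (WA k w)).toIdeal =
      Ideal.span (⋃ n ∈ Set.Ioi (0 : ℤ), ((WA k w n : AddSubgroup (MvPolynomial (Fin N) k)) :
        Set (MvPolynomial (Fin N) k))) := Rp_toIdeal (WA k w)
  have hn : ringKrullDim (MvPolynomial (Fin N) k) = N := dim_eq
  haveI hmax : (Rp (WA k w)).toIdeal.IsMaximal :=
    isMaximal_of_starLocal (WA k w) hpos _ hm
  have hmX : (Rp (WA k w)).toIdeal = Ideal.span (Set.range X) := by
    rw [hmsp]
    exact irr_eq_span_X hw
  have hreg : RingTheory.Sequence.IsRegular (MvPolynomial (Fin N) k)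
      (List.ofFn (X : Fin N → MvPolynomial (Fin N) k)) :=
    regular_X (hmX ▸ hmax.ne_top)
  obtain ⟨P, hP⟩ : ∃ P : Submodule (MvPolynomial (Fin N) k) (MvPolynomial (Fin N) k),
      P = (Rp (WA k w)).toIdeal := ⟨_, rfl⟩
  have hPh : P.IsHomogeneous (WA k w) := hP ▸ (Rp (WA k w)).isHomogeneous
  letI := Groth.Agent.Lib.GrStar2H1.quotDecomp (WA k w) P hPh
  letI := Groth.Agent.Lib.GrStar2H1.quot_gsmul (WA k w) (WA k w) P
  have hfm : ∀ i, (X i : MvPolynomial (Fin N) k) ∈ (Rp (WA k w)).toIdeal := by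
    intro i
    rw [hmX]
    exact Ideal.subset_span ⟨i, rfl⟩
  have hinv := main18645 (MvPolynomial (Fin N) k) (WA k w) hpos h0
    (Rp (WA k w)) hm hmsp N hn (minRes (WA k w) (WA k w)) N le_rfl X w (fun i => X_mem i) hfm hreg
    (MvPolynomial (Fin N) k ⧸ P) (Groth.Agent.Lib.GrStar2H1.quotGr (WA k w) P) P.mkQ
    (Groth.Agent.Lib.GrStar2H1.mkQ_isGrHom (WA k w) P) P.mkQ_surjective
    (by rw [Submodule.ker_mkQ, hP, hmX])
    (minRes (WA k w) (Groth.Agent.Lib.GrStar2H1.quotGr (WA k w) P))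
  have h1P : (1 : MvPolynomial (Fin N) k) ∉ P := by
    rw [hP]
    exact fun h => hmax.ne_top ((Ideal.eq_top_iff_one _).2 h)
  have hH0 := endDeg_H0 (WA k w) (Groth.Agent.Lib.GrStar2H1.quotGr (WA k w) P)
    (Rp (WA k w))
    (fun j hj => by
      rw [hP]
      exact quot_piece_eq_bot (WA k w) hpos _ hmsp j hj)
    (P.mkQ 1)
    (Groth.Agent.Lib.GrStar2H1.mk_mem_quotGr (WA k w) P
      (show (1 : MvPolynomial (Fin N) k) ∈ WA k w 0 from SetLike.GradedOne.one_mem))
    (by
      rw [Submodule.mkQ_apply, Ne, Submodule.Quotient.mk_eq_zero]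
      exact h1P)
    (fun r hr => by
      rw [← map_smul, smul_eq_mul, mul_one, Submodule.mkQ_apply, Submodule.Quotient.mk_eq_zero,
        hP]
      exact hr)
    (minRes (WA k w) (Groth.Agent.Lib.GrStar2H1.quotGr (WA k w) P))
  rw [Nat.sub_self, hH0] at hinv
  generalize endDeg ((minRes (WA k w) (WA k w)).Hgr (Rp (WA k w)) N) = x at hinv ⊢
  induction x using WithBot.recBotCoe with
  | bot =>
    rw [WithBot.bot_add] at hinv
    exact absurd hinv WithBot.coe_ne_bot
  | coe y =>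
    induction y using WithTop.recTopCoe with
    | top =>
      rw [← WithBot.coe_add, WithTop.top_add] at hinv
      exact absurd (WithBot.coe_injective hinv) WithTop.coe_ne_top
    | coe a =>
      rw [← WithBot.coe_add, ← WithTop.coe_add] at hinv
      have h2 := WithTop.coe_injective (WithBot.coe_injective hinv)
      have ha : a = -((Finset.univ : Finset (Fin N)).sum w) := by omega
      rw [ha]

end ainv

/-! ### the main theorem -/
section main

open MvPolynomial

attribute [local instance] MvPolynomial.weightedGradedAlgebra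

theorem main20027 (k : Type u) [Field k] (s d : ℕ) (hs : 1 ≤ s)
    (hd : 1 ≤ d) (R' : Type u) [CommRing R'] (φ : R' →+* MvPolynomial (Fin s) k)
    (hφ : Function.Injective φ)
    (hrange : ∀ p : MvPolynomial (Fin s) k, p ∈ φ.range ↔
      ∀ j : ℕ, ¬ d ∣ j → MvPolynomial.homogeneousComponent j p = 0)
    (m' : Ideal R') [hm'max : m'.IsMaximal]
    (hm' : m' = Ideal.comap φ
      (RingHom.ker (MvPolynomial.constantCoeff : MvPolynomial (Fin s) k →+* k)))
    (n : ℕ) (hsn : s ≤ n) (hdn : d ∣ n) (hmin : ∀ n' : ℕ, s ≤ n' → d ∣ n' → n ≤ n') :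
    GrLC.bassNum m' R' s = (Nat.choose (n - 1) (s - 1) : ℕ∞) := by
  classical
  haveI hGor : LocCoh.IsGorensteinRing (MvPolynomial (Fin s) k) :=
    @Groth.Agent.GorLCI9.isGorRing_mvPolynomial_fin k _ (Groth.Agent.GorFlat9.isGorRing_field k) s
  have hd' : 0 < d := hd
  have hpos : ∀ n : ℤ, n < 0 → W1 k s n = ⊥ := WA_neg (w1_pos s)
  have h0 : IsField (GrLC.deg0 (W1 k s)) := isField_deg0 (w1_pos s)
  have h1 : ∀ (x : R') (i : ℤ), ¬ (d : ℤ) ∣ i →
      ((decompose (W1 k s) (φ x)) i : MvPolynomial (Fin s) k) = 0 :=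
    fun x i hi => decompose_eq_zero d (φ x) ((hrange (φ x)).1 ⟨x, rfl⟩) i hi
  have h2 : ∀ (j : ℤ) (p : MvPolynomial (Fin s) k), p ∈ W1 k s (j * d) → p ∈ φ.range :=
    fun j p hp => mem_range_of_mem φ d hrange j p hp
  have hint := pull_internal (W1 k s) φ d hφ hd' h1 h2
  letI : GradedRing (pull (W1 k s) φ d) := pullGradedRing (W1 k s) φ d hint
  have hdeg := pull_map (W1 k s) φ d h2
  have hV : VData (W1 k s) (pull (W1 k s) φ d) φ d := ⟨hd', hφ, hdeg⟩
  have hpos' := hpos_of_vdata hV hpos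
  have h0' := h0_of_vdata hV h0
  have hmR := isStarLocal_Rp (W1 k s) hpos h0
  have hm'R := isStarLocal_Rp (pull (W1 k s) φ d) hpos' h0'
  haveI hmax' : (Rp (pull (W1 k s) φ d)).toIdeal.IsMaximal :=
    isMaximal_of_starLocal (pull (W1 k s) φ d) hpos' _ hm'R
  have heq : (Rp (pull (W1 k s) φ d)).toIdeal = m' := by
    refine hmax'.eq_of_le hm'max.ne_top ?_
    rw [Rp_toIdeal, Ideal.span_le]
    intro y hy
    obtain ⟨j, hj, hyj⟩ := Set.mem_iUnion₂.1 hy
    rw [hm']
    change constantCoeff (φ y) = 0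
    exact constantCoeff_eq_zero (mul_pos hj (by exact_mod_cast hd')) hyj
  subst heq
  have hend := endDeg_poly k s (w1 s) (w1_pos s)
  have hsum : (Finset.univ : Finset (Fin s)).sum (w1 s) = (s : ℤ) := by
    change (Finset.univ : Finset (Fin s)).sum (fun _ => (1 : ℤ)) = (s : ℤ)
    rw [Finset.sum_const, Finset.card_univ, Fintype.card_fin, nsmul_eq_mul, mul_one]
  rw [hsum] at hend
  have hρ0 : (0 : ℤ) ≤ (n : ℤ) - s := by omega
  have hρq : (n : ℤ) - s < (d : ℤ) := by
    by_contra hcon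
    push_neg at hcon
    have h3 : s + d ≤ n := by omega
    have h4 := hmin (n - d) (by omega) (Nat.dvd_sub hdn (dvd_refl d))
    omega
  have hρa : (d : ℤ) ∣ -(s : ℤ) - ((n : ℤ) - s) := by
    obtain ⟨c, hc⟩ := hdn
    exact ⟨-(c : ℤ), by rw [hc]; push_cast; ring⟩
  have hres := main18655 (MvPolynomial (Fin s) k) (W1 k s) hpos h0 (Rp (W1 k s)) hmR
    (Rp_toIdeal _) hstd_W1 s dim_eq (minRes (W1 k s) (W1 k s)) (-(s : ℤ)) hend d hd' R'
    (pull (W1 k s) φ d) φ hφ hdeg (Rp (pull (W1 k s) φ d)) (Rp_toIdeal _) ((n : ℤ) - s)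
    hρ0 hρq hρa
  refine Eq.trans hres ?_
  rw [finrank_comp_congr (W1 k s) (W1 k s) (show (n : ℤ) - s = ((n - s : ℕ) : ℤ) by omega),
    finrank_comp_poly]
  congr 1
  have e1 : s + (n - s) - 1 = n - 1 := by omega
  rw [e1]
  exact Nat.choose_symm_of_eq_add (by omega)

end main

end Groth.Agent.Lib.VerPolyH1
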