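import Mathlib
import Groth.Prelude.Def_GrLC
import Groth.Prelude.Def_GrLC2
import Groth.Prelude.Def_CAlg
import Groth.Prelude.Def_Wider
import Groth.Agent.Lib.VerPoly_helper1
import Groth.Agent.Lib.GrConv_helper1

/-! The top graded local cohomology of a standard graded polynomial ring: it is nonzero exactly
in the degrees `≤ -N` (helper1).  APPEND-ONLY once landed. -/

set_option autoImplicit false

namespace Groth.Agent.Lib.SegPoly1H1

open DirectSum GrLC Groth.Agent.Lib.GrStarH1 Groth.Agent.Lib.GrStar2H1 Groth.Agent.Lib.GrStar3H1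
  Groth.Agent.Lib.GrStar4H1 Groth.Agent.Lib.GrLES1H1 Groth.Agent.Lib.GrLES3H1
  Groth.Agent.Lib.GrLES4H1 Groth.Agent.Lib.GrHDecH1 Groth.Agent.Lib.MinResH1
  Groth.Agent.Lib.AInvH1 Groth.Agent.Lib.GrXferH1 Groth.Agent.Lib.WPolyCanH1
  Groth.Agent.Lib.SocleH1 Groth.Agent.Lib.GrHS3H1 Groth.Agent.Lib.VerPolyH1

open scoped Pointwise

universe u

/-! ### descent of the top local cohomology along a regular homogeneous element -/
section general

variable {R : Type u} [CommRing R] (𝒜 : ℤ → AddSubgroup R) [GradedRing 𝒜]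

theorem top_descent [IsNoetherianRing R] (m : HomogeneousIdeal 𝒜) (E : StarInjRes 𝒜 𝒜)
    {t : ℤ} {x : R} (hx : x ∈ 𝒜 t) (hreg : IsSMulRegular R x) (d' : ℕ)
    (hdim : Module.supportDim R R ≤ ((d' + 1 : ℕ) : WithBot ℕ∞)) (k : ℤ)
    (hk : E.Hgr m (d' + 1) k ≠ ⊥) : E.Hgr m (d' + 1) (-t + k) ≠ ⊥ := by
  classical
  obtain ⟨P₀, hP₀⟩ : ∃ P₀ : Submodule R R, P₀ = x • (⊤ : Submodule R R) := ⟨_, rfl⟩
  have hP₀r : P₀ = LinearMap.range (LinearMap.lsmul R R x) := by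
    rw [hP₀]
    ext y
    rw [Submodule.mem_smul_pointwise_iff_exists, LinearMap.mem_range]
    constructor
    · rintro ⟨z, -, rfl⟩
      exact ⟨z, rfl⟩
    · rintro ⟨z, rfl⟩
      exact ⟨z, Submodule.mem_top, rfl⟩
  have hP₀h : P₀.IsHomogeneous 𝒜 := hP₀r ▸ range_lsmul_isHomogeneous 𝒜 𝒜 hx
  letI := quotDecomp 𝒜 P₀ hP₀h
  letI := quot_gsmul 𝒜 𝒜 P₀
  obtain ⟨F, hF⟩ : ∃ F : StarInjRes 𝒜 (quotGr 𝒜 P₀), F = minRes 𝒜 (quotGr 𝒜 P₀) := ⟨_, rfl⟩
  obtain ⟨ψ, hψ⟩ := mul_les 𝒜 hx hreg P₀.mkQ (mkQ_isGrHom 𝒜 P₀) P₀.mkQ_surjective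
    (by rw [Submodule.ker_mkQ, hP₀r]) E F m
  have hdim' : Module.supportDim R (R ⧸ P₀) ≤ (d' : WithBot ℕ∞) := by
    have h1 : Module.supportDim R (QuotSMulTop x R) + 1 ≤ Module.supportDim R R :=
      Module.supportDim_quotSMulTop_succ_le_of_notMem_minimalPrimes
        (fun _ => hreg.notMem_of_mem_minimalPrimes)
    rw [hP₀]
    exact wb_le_pred (le_trans h1 hdim)
  haveI : Subsingleton (F.H m (d' + 1)) := by
    obtain ⟨γ⟩ := Groth.Agent.Lib.GrStarLCH1.main13224 R 𝒜 m (R ⧸ P₀) (quotGr 𝒜 P₀) F (d' + 1)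
    haveI : Subsingleton (LocCoh.H m.toIdeal (d' + 1) (R ⧸ P₀)) := by
      apply Groth.Agent.Lib.LocCohGVH7.GV
      exact lt_of_le_of_lt hdim' (by exact_mod_cast Nat.lt_succ_self d')
    exact γ.toEquiv.subsingleton
  obtain ⟨w, hw, hw0⟩ := exists_ne_zero_of_ne_bot hk
  obtain ⟨z, hz, hzw⟩ := (hψ (d' + 1)).1 k w hw (Subsingleton.elim _ _)
  intro hb
  rw [hb, AddSubgroup.mem_bot] at hz
  apply hw0
  rw [← hzw, hz, smul_zero]

end general

/-! ### the polynomial ring -/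
section poly

open MvPolynomial

attribute [local instance] MvPolynomial.weightedGradedAlgebra

/-- the standard grading of the polynomial ring, valued in additive subgroups -/
noncomputable abbrev W (k : Type u) [Field k] (N : ℕ) :
    ℤ → AddSubgroup (MvPolynomial (Fin N) k) :=
  WA k (fun _ : Fin N => (1 : ℤ))

variable (k : Type u) [Field k] (N : ℕ)

theorem sum_one : (Finset.univ : Finset (Fin N)).sum (fun _ : Fin N => (1 : ℤ)) = N := by
  simp

/-- the top local cohomology of the standard graded polynomial ring in `N ≥ 1` variables is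
nonzero exactly in the degrees `≤ -N`. -/
theorem top_ne_bot_iff (hN : 1 ≤ N) (n : ℤ) :
    (minRes (W k N) (W k N)).Hgr (Rp (W k N)) N n ≠ ⊥ ↔ n ≤ -(N : ℤ) := by
  classical
  have hw : ∀ i : Fin N, (0 : ℤ) < (fun _ : Fin N => (1 : ℤ)) i := fun _ => Int.one_pos
  haveI hCM : LocCoh.IsCohenMacaulayRing (MvPolynomial (Fin N) k) :=
    @Groth.Agent.FlatCM.isCMRing_mvPolynomial k _ (Groth.Agent.TensorCM.isCMRing_field k) N
  haveI : IsNoetherianRing (MvPolynomial (Fin N) k) := hCM.toIsNoetherian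
  have he := endDeg_poly k N (fun _ : Fin N => (1 : ℤ)) hw
  rw [sum_one] at he
  obtain ⟨E, hE⟩ : ∃ E : StarInjRes (W k N) (W k N), E = minRes (W k N) (W k N) := ⟨_, rfl⟩
  rw [← hE] at he ⊢
  have hgt : ∀ j : ℤ, -(N : ℤ) < j → E.Hgr (Rp (W k N)) N j = ⊥ :=
    (Groth.Agent.Lib.GrConvH1.endDeg_le_iff _ (-(N : ℤ))).1 he.le
  have htop : E.Hgr (Rp (W k N)) N (-(N : ℤ)) ≠ ⊥ := by
    intro hb
    have h1 : endDeg (E.Hgr (Rp (W k N)) N) ≤
        (((-(N : ℤ) - 1 : ℤ) : WithTop ℤ) : WithBot (WithTop ℤ)) := by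
      rw [Groth.Agent.Lib.GrConvH1.endDeg_le_iff]
      intro j hj
      rcases eq_or_lt_of_le (show -(N : ℤ) ≤ j by omega) with h | h
      · rw [← h]
        exact hb
      · exact hgt j h
    rw [he, WithBot.coe_le_coe, WithTop.coe_le_coe] at h1
    omega
  obtain ⟨N', rfl⟩ : ∃ N', N = N' + 1 := ⟨N - 1, by omega⟩
  have hx : (X 0 : MvPolynomial (Fin (N' + 1)) k) ∈ W k (N' + 1) 1 :=
    X_mem (k := k) (w := fun _ : Fin (N' + 1) => (1 : ℤ)) 0
  have hx0 : (X 0 : MvPolynomial (Fin (N' + 1)) k) ≠ 0 := X_ne_zero 0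
  have hreg : IsSMulRegular (MvPolynomial (Fin (N' + 1)) k)
      (X 0 : MvPolynomial (Fin (N' + 1)) k) :=
    fun p q (h : X 0 * p = X 0 * q) => mul_left_cancel₀ hx0 h
  have hdim : Module.supportDim (MvPolynomial (Fin (N' + 1)) k) (MvPolynomial (Fin (N' + 1)) k) ≤
      ((N' + 1 : ℕ) : WithBot ℕ∞) := by
    rw [Module.supportDim_self_eq_ringKrullDim, dim_eq]
  have hdesc : ∀ j : ℕ, ∀ n : ℤ, n = -((N' + 1 : ℕ) : ℤ) - (j : ℤ) →
      E.Hgr (Rp (W k (N' + 1))) (N' + 1) n ≠ ⊥ := by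
    intro j
    induction j with
    | zero =>
      intro n hn
      have h : n = -((N' + 1 : ℕ) : ℤ) := by omega
      rw [h]
      exact htop
    | succ j ih =>
      intro n hn
      have h1 := top_descent (W k (N' + 1)) (Rp (W k (N' + 1))) E hx hreg N' hdim (n + 1)
        (ih (n + 1) (by omega))
      have e : (-1 + (n + 1)) = n := by ring
      rwa [e] at h1
  constructor
  · intro h
    by_contra hn
    exact h (hgt n (by omega))
  · intro hn
    exact hdesc (-((N' + 1 : ℕ) : ℤ) - n).toNat n (by omega)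

attribute [local instance] shiftDecomp shift_gsmul

/-- the same for the shifted module `R(a)`. -/
theorem shift_top_bot_iff (hN : 1 ≤ N) (a d : ℤ) :
    (shiftRes (W k N) (minRes (W k N) (W k N)) a).Hcomp (Rp (W k N)) N d = ⊥ ↔
      ¬ (a + d ≤ -(N : ℤ)) := by
  have h := top_ne_bot_iff k N hN (a + d)
  rw [← h, not_not, Submodule.eq_bot_iff, AddSubgroup.eq_bot_iff_forall]
  exact Iff.rfl

end poly

end Groth.Agent.Lib.SegPoly1H1
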