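import Mathlib
import Groth.Prelude.Def_GrLC
import Groth.Prelude.Def_GrSeg
import Groth.Prelude.Def_CAlg
import Groth.Agent.Lib.SegPoly1_helper1
import Groth.Agent.Lib.SegCM7_helper1
import Groth.Agent.Lib.DepthRefl_helper5
import Groth.Agent.Lib.LocCohCM_helper7

/-! Segre products of shifted polynomial rings: the Cohen–Macaulay range and the depth outside
of it (helper1, S19763).  APPEND-ONLY once landed. -/

set_option autoImplicit false

namespace Groth.Agent.Lib.SegPoly2H1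

open scoped TensorProduct
open DirectSum GrLC Groth.Agent.Lib.GrXferH1 Groth.Agent.Lib.SegKun3H1
  Groth.Agent.Lib.SegCM2H1 Groth.Agent.Lib.SegCM7H1
  Groth.Agent.Lib.MinResH1 Groth.Agent.Lib.GrStar3H1 Groth.Agent.Lib.GrLES3H1
  Groth.Agent.Lib.SegPoly1H1 Groth.Agent.Lib.GrHS3H1

universe u

attribute [local instance] MvPolynomial.weightedGradedAlgebra
attribute [local instance] shiftDecomp shift_gsmul

/-! ### general lemmas -/

/-- a Cohen–Macaulay ring is a Cohen–Macaulay module over itself. -/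
theorem cmMod_self (R : Type u) [CommRing R] [hCM : LocCoh.IsCohenMacaulayRing R] (q : Ideal R)
    [q.IsPrime] :
    LocCoh.IsCohenMacaulayModule (Localization.AtPrime q) (LocalizedModule q.primeCompl R) := by
  have h := (hCM.isCohenMacaulayLocalRing_localization q).supportDim_eq_depth
  have h2 : Module.supportDim (Localization.AtPrime q) (Localization.AtPrime q) =
      (q.height : WithBot ℕ∞) := by
    rw [Module.supportDim_self_eq_ringKrullDim, IsLocalization.AtPrime.ringKrullDim_eq_height q]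
  unfold LocCoh.IsCohenMacaulayModule
  rw [Groth.Agent.DepthLib.depth_locSelf R q, Groth.Agent.DepthLib.supportDim_locSelf R q, ← h2]
  exact h

/-- the depth is the least index of nonvanishing local cohomology. -/
theorem depth_eq_of {T : Type u} [CommRing T] [IsNoetherianRing T] (I : Ideal T) (P : Type u)
    [AddCommGroup P] [Module T P] [Module.Finite T P] (n : ℕ)
    (hvan : ∀ i : ℕ, i < n → Subsingleton (LocCoh.H I i P))
    (hnt : ¬ Subsingleton (LocCoh.H I n P)) : LocCoh.idealDepth I P = (n : ℕ∞) := by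
  have h1 : (n : ℕ∞) ≤ LocCoh.idealDepth I P :=
    (Groth.Agent.Lib.LocCohCMH7.vanishing_iff_le_depth I P n).1 hvan
  have h2 : ¬ (((n + 1 : ℕ) : ℕ∞) ≤ LocCoh.idealDepth I P) := fun h =>
    hnt ((Groth.Agent.Lib.LocCohCMH7.vanishing_iff_le_depth I P (n + 1)).2 h n
      (Nat.lt_succ_self n))
  have h3 : LocCoh.idealDepth I P < (n : ℕ∞) + 1 := by
    have := not_le.1 h2
    exact_mod_cast this
  exact le_antisymm ((ENat.lt_add_one_iff (ENat.natCast_ne_top n)).1 h3) h1

/-! ### the standard graded polynomial ring -/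
section facts

open MvPolynomial

variable (k : Type u) [Field k] (N : ℕ)

/-- the standard grading by `k`-subspaces -/
noncomputable abbrev A : ℤ → Submodule k (MvPolynomial (Fin N) k) :=
  weightedHomogeneousSubmodule k (fun _ : Fin N => (1 : ℤ))

theorem A_neg (n : ℤ) (hn : n < 0) : A k N n = ⊥ := by
  have h := Groth.Agent.Lib.WPolyCanH1.WA_neg (k := k) (w := fun _ : Fin N => (1 : ℤ))
    (fun _ => Int.one_pos) n hn
  rw [Submodule.eq_bot_iff]
  intro x hx
  have hx' : x ∈ Groth.Agent.Lib.WPolyCanH1.WA k (fun _ : Fin N => (1 : ℤ)) n := hx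
  rw [h, AddSubgroup.mem_bot] at hx'
  exact hx'

theorem A_zero : A k N 0 = Submodule.span k {(1 : MvPolynomial (Fin N) k)} := by
  apply le_antisymm
  · intro p hp
    have hp' : p ∈ Groth.Agent.Lib.WPolyCanH1.WA k (fun _ : Fin N => (1 : ℤ)) 0 := hp
    have h := Groth.Agent.Lib.WPolyCanH1.eq_C_of_mem_zero (k := k)
      (w := fun _ : Fin N => (1 : ℤ)) (fun _ => Int.one_pos) hp'
    rw [Submodule.mem_span_singleton]
    refine ⟨coeff 0 p, ?_⟩
    have h2 : coeff 0 p • (1 : MvPolynomial (Fin N) k) = C (coeff 0 p) := by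
      rw [MvPolynomial.smul_eq_C_mul, mul_one]
    exact h2.trans h.symm
  · rw [Submodule.span_le, Set.singleton_subset_iff]
    exact SetLike.GradedOne.one_mem

theorem A_ne_bot (hN : 1 ≤ N) (n : ℤ) (hn : 0 ≤ n) : A k N n ≠ ⊥ := by
  obtain ⟨N', rfl⟩ : ∃ N', N = N' + 1 := ⟨N - 1, by omega⟩
  obtain ⟨j, rfl⟩ : ∃ j : ℕ, n = j := ⟨n.toNat, by omega⟩
  intro hb
  have hX : (X 0 : MvPolynomial (Fin (N' + 1)) k) ∈ A k (N' + 1) 1 :=
    isWeightedHomogeneous_X k (fun _ : Fin (N' + 1) => (1 : ℤ)) 0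
  have h1 : (X 0 : MvPolynomial (Fin (N' + 1)) k) ^ j ∈ A k (N' + 1) (j • (1 : ℤ)) :=
    SetLike.pow_mem_graded j hX
  rw [nsmul_eq_mul, mul_one, hb, Submodule.mem_bot] at h1
  exact pow_ne_zero j (X_ne_zero 0) h1

theorem cm_poly : LocCoh.IsCohenMacaulayRing (MvPolynomial (Fin N) k) :=
  @Groth.Agent.FlatCM.isCMRing_mvPolynomial k _ (Groth.Agent.TensorCM.isCMRing_field k) N

theorem supportDim_poly :
    Module.supportDim (MvPolynomial (Fin N) k) (MvPolynomial (Fin N) k) = (N : WithBot ℕ∞) := by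
  rw [Module.supportDim_self_eq_ringKrullDim]
  exact Groth.Agent.Lib.WPolyCanH1.dim_eq

theorem shift_piece_bot_iff (hN : 1 ≤ N) (a d : ℤ) :
    shiftGr (toAS (A k N)) a d = ⊥ ↔ a + d < 0 := by
  have e : shiftGr (toAS (A k N)) a d = ⊥ ↔ A k N (a + d) = ⊥ := by
    rw [Submodule.eq_bot_iff, AddSubgroup.eq_bot_iff_forall]
    exact Iff.rfl
  rw [e]
  constructor
  · intro h
    by_contra hn
    exact A_ne_bot k N hN (a + d) (by omega) h
  · intro h
    exact A_neg k N (a + d) h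

/-- the resolution of the shifted polynomial ring -/
noncomputable def resM (a : ℤ) : StarInjRes (toAS (A k N)) (shiftGr (toAS (A k N)) a) :=
  shiftRes (toAS (A k N)) (minRes (toAS (A k N)) (toAS (A k N))) a

theorem irr_eq : idealAS (A k N) (irr (A k N)) = Rp (toAS (A k N)) :=
  HomogeneousIdeal.toIdeal_injective
    (show (idealAS (A k N) (irr (A k N))).toIdeal = (Rp (toAS (A k N))).toIdeal from rfl)

theorem resM_top (hN : 1 ≤ N) (a d : ℤ) :
    (resM k N a).Hcomp (idealAS (A k N) (irr (A k N))) N d = ⊥ ↔ ¬ (a + d ≤ -(N : ℤ)) := by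
  rw [irr_eq]
  exact shift_top_bot_iff k N hN a d

theorem resM_van (a : ℤ) (i : ℕ) (hi : i ≠ N) (d : ℤ) :
    (resM k N a).Hcomp (idealAS (A k N) (irr (A k N))) i d = ⊥ := by
  haveI := cm_poly k N
  haveI : SetLike.GradedSMul (A k N) (shiftGr (toAS (A k N)) a) := gsmul_of (A k N) _
  exact van_of_cmMod (A_neg k N) (A_zero k N) (irr (A k N)) irr_toIdeal
    (fun q _ => Or.inr (cmMod_self _ q)) N (supportDim_poly k N) (resM k N a) i hi d

theorem segrePiece_shift {r s : ℕ} (a b n : ℤ) :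
    GrSeg.segrePiece k (shiftGr (toAS (A k r)) a) (shiftGr (toAS (A k s)) b) n =
      GrSeg.segrePiece k (fun n : ℤ => A k r (n + a)) (fun n : ℤ => A k s (n + b)) n := by
  unfold GrSeg.segrePiece shiftGr
  rw [add_comm a n, add_comm b n]
  rfl

end facts

/-! ### the main theorem -/

theorem main19763 (k : Type u) [Field k] (r s : ℕ) (h2r : 2 ≤ r) (h2s : 2 ≤ s) (T : Type u)
    [CommRing T] [Algebra k T] (𝒯 : ℤ → Submodule k T) [GradedAlgebra 𝒯]
    (ψ : T →ₐ[k] TensorProduct k (MvPolynomial (Fin r) k) (MvPolynomial (Fin s) k))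
    (hT : GrSeg.IsSegreRing (A k r) (A k s) 𝒯 ψ)
    (mT : HomogeneousIdeal 𝒯)
    (hmT : mT.toIdeal = Ideal.span (⋃ n ∈ Set.Ioi (0 : ℤ), (𝒯 n : Set T))) (a b : ℤ)
    (P : Type u) [AddCommGroup P] [Module T P] [Module k P] [IsScalarTower k T P]
    (𝒬 : ℤ → AddSubgroup P) [DirectSum.Decomposition 𝒬]
    (φ : P →ₗ[k] TensorProduct k (MvPolynomial (Fin r) k) (MvPolynomial (Fin s) k))
    (hP : GrSeg.IsSegreMod ψ (fun n : ℤ => A k r (n + a)) (fun n : ℤ => A k s (n + b)) 𝒬 φ) :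
    ((∀ (q : Ideal T) [q.IsPrime], Subsingleton (LocalizedModule q.primeCompl P) ∨
        LocCoh.IsCohenMacaulayModule (Localization.AtPrime q) (LocalizedModule q.primeCompl P)) ↔
      (a - b < (s : ℤ) ∧ -(r : ℤ) < a - b)) ∧
    ((s : ℤ) ≤ a - b → LocCoh.idealDepth mT.toIdeal P = (s : ℕ∞)) ∧
    (a - b ≤ -(r : ℤ) → LocCoh.idealDepth mT.toIdeal P = (r : ℕ∞)) := by
  haveI hCMR := cm_poly k r
  haveI hCMS := cm_poly k s
  have h1r : 1 ≤ r := by omega
  have h1s : 1 ≤ s := by omega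
  have hposR := A_neg k r
  have h0R := A_zero k r
  have hposS := A_neg k s
  have h0S := A_zero k s
  haveI : IsNoetherianRing T := Groth.Agent.Lib.SegreNoeth.main (A k r) (A k s) 𝒯 ψ hT.2 hT.1
  haveI : Nontrivial T := nontrivial_T hT
  haveI gM : SetLike.GradedSMul (A k r) (shiftGr (toAS (A k r)) a) := gsmul_of (A k r) _
  haveI gN : SetLike.GradedSMul (A k s) (shiftGr (toAS (A k s)) b) := gsmul_of (A k s) _
  have hP' : GrSeg.IsSegreMod ψ (shiftGr (toAS (A k r)) a) (shiftGr (toAS (A k s)) b) 𝒬 φ :=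
    ⟨hP.injective, fun n => by rw [hP.image_piece n, segrePiece_shift], hP.map_smul⟩
  haveI : SetLike.GradedSMul 𝒯 𝒬 := gsmul_of_segreMod hT hP'
  haveI : Module.Finite T P :=
    Groth.Agent.Lib.SegreH3.finite_segre k _ (A k r) _ (A k s) T 𝒯 ψ hT _
      (shiftGr (toAS (A k r)) a) _ (shiftGr (toAS (A k s)) b) P 𝒬 φ hP'
  obtain ⟨EP, -⟩ : ∃ EP : StarInjRes (toAS 𝒯) 𝒬, EP = minRes (toAS 𝒯) 𝒬 := ⟨_, rfl⟩
  have vanM : ∀ i : ℕ, i ≠ r → ∀ d : ℤ,
      (resM k r a).Hcomp (idealAS (A k r) (irr (A k r))) i d = ⊥ :=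
    fun i hi d => resM_van k r a i hi d
  have vanN : ∀ i : ℕ, i ≠ s → ∀ d : ℤ,
      (resM k s b).Hcomp (idealAS (A k s) (irr (A k s))) i d = ⊥ :=
    fun i hi d => resM_van k s b i hi d
  have topM := resM_top k r h1r a
  have topN := resM_top k s h1s b
  have pcM := shift_piece_bot_iff k r h1r a
  have pcN := shift_piece_bot_iff k s h1s b
  have cA : ∀ d : ℤ, comp (toAS (A k r)) (shiftGr (toAS (A k r)) a) d = ⊥ ↔ a + d < 0 :=
    fun d => (comp_bot_iff (toAS (A k r)) _ d).trans (pcM d)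
  have cB : ∀ d : ℤ, comp (toAS (A k s)) (shiftGr (toAS (A k s)) b) d = ⊥ ↔ b + d < 0 :=
    fun d => (comp_bot_iff (toAS (A k s)) _ d).trans (pcN d)
  have kv := fun (q : ℕ) (d : ℤ) => kunneth_vanish k (MvPolynomial (Fin r) k) (A k r) hposR h0R
    (MvPolynomial (Fin s) k) (A k s) hposS h0S T 𝒯 ψ hT (irr (A k r)) irr_toIdeal
    (irr (A k s)) irr_toIdeal mT hmT
    (MvPolynomial (Fin r) k) (shiftGr (toAS (A k r)) a) (resM k r a)
    (MvPolynomial (Fin s) k) (shiftGr (toAS (A k s)) b) (resM k s b) P 𝒬 φ hP' EP d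
    (vanM 0 (by omega) d) (vanN 0 (by omega) d) q
  have K1 : ∀ d : ℤ, 0 ≤ a + d → b + d ≤ -(s : ℤ) → EP.Hcomp (idealAS 𝒯 mT) s d ≠ ⊥ := by
    intro d h1 h2 hb
    rcases ((kv s d).1 hb).1 with h | h
    · have := (cA d).1 h
      omega
    · exact (topN d).1 h h2
  have K2 : ∀ d : ℤ, a + d ≤ -(r : ℤ) → 0 ≤ b + d → EP.Hcomp (idealAS 𝒯 mT) r d ≠ ⊥ := by
    intro d h1 h2 hb
    rcases ((kv r d).1 hb).2.1 with h | h
    · exact (topM d).1 h h1
    · have := (cB d).1 h
      omega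
  have K3 : ∀ d : ℤ, a + d ≤ -(r : ℤ) → b + d ≤ -(s : ℤ) →
      EP.Hcomp (idealAS 𝒯 mT) (r + s - 1) d ≠ ⊥ := by
    intro d h1 h2 hb
    have h3 := ((kv (r + s - 1) d).1 hb).2.2 r (Finset.mem_range.2 (by omega))
    have e : r + s - 1 + 1 - r = s := by omega
    rw [e] at h3
    rcases h3 with h | h
    · exact (topM d).1 h h1
    · exact (topN d).1 h h2
  have K4 : ∀ (q : ℕ) (d : ℤ), ¬ (q = s ∧ 0 ≤ a + d ∧ b + d ≤ -(s : ℤ)) →
      ¬ (q = r ∧ a + d ≤ -(r : ℤ) ∧ 0 ≤ b + d) →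
      ¬ (q + 1 = r + s ∧ a + d ≤ -(r : ℤ) ∧ b + d ≤ -(s : ℤ)) →
      EP.Hcomp (idealAS 𝒯 mT) q d = ⊥ := by
    intro q d c1 c2 c3
    refine (kv q d).2 ⟨?_, ?_, ?_⟩
    · by_cases hq : q = s
      · rw [hq]
        by_cases h1 : a + d < 0
        · exact Or.inl ((cA d).2 h1)
        · exact Or.inr ((topN d).2 (fun h2 => c1 ⟨hq, by omega, h2⟩))
      · exact Or.inr (vanN q hq d)
    · by_cases hq : q = r
      · rw [hq]
        by_cases h1 : b + d < 0
        · exact Or.inr ((cB d).2 h1)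
        · exact Or.inl ((topM d).2 (fun h2 => c2 ⟨hq, h2, by omega⟩))
      · exact Or.inl (vanM q hq d)
    · intro i hi
      rw [Finset.mem_range] at hi
      by_cases hir : i = r
      · by_cases hqs : q + 1 - i = s
        · rw [hqs, hir]
          by_cases h1 : a + d ≤ -(r : ℤ)
          · exact Or.inr ((topN d).2 (fun h2 => c3 ⟨by omega, h1, h2⟩))
          · exact Or.inl ((topM d).2 h1)
        · exact Or.inr (vanN _ hqs d)
      · exact Or.inl (vanM i hir d)
  haveI : Nontrivial P := by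
    by_contra hn
    rw [not_nontrivial_iff_subsingleton] at hn
    have h1 : Subsingleton (LocCoh.H (idealAS 𝒯 mT).toIdeal (r + s - 1) P) := by
      apply Groth.Agent.Lib.LocCohGVH7.GV
      rw [(Module.supportDim_eq_bot_iff_subsingleton (R := T) (M := P)).2 hn]
      exact WithBot.bot_lt_coe _
    have h2 := Groth.Agent.Lib.SegCM6H1.pieces_of_subsingleton_locCoh (toAS 𝒯) (idealAS 𝒯 mT) 𝒬
      EP (r + s - 1) h1
    rcases le_total (-(r : ℤ) - a) (-(s : ℤ) - b) with h | h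
    · exact K3 (-(r : ℤ) - a) (by omega) (by omega) (h2 _)
    · exact K3 (-(s : ℤ) - b) (by omega) (by omega) (h2 _)
  have crit := segre_cmMod_iff k (MvPolynomial (Fin r) k) (A k r) hposR h0R
    (MvPolynomial (Fin s) k) (A k s) hposS h0S T 𝒯 ψ hT (irr (A k r)) irr_toIdeal
    (irr (A k s)) irr_toIdeal
    (MvPolynomial (Fin r) k) (shiftGr (toAS (A k r)) a) (resM k r a)
    (MvPolynomial (Fin s) k) (shiftGr (toAS (A k s)) b) (resM k s b) P 𝒬 φ hP' r s h1r h1s
    (supportDim_poly k r) (supportDim_poly k s)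
    (fun q _ => Or.inr (cmMod_self _ q)) (fun q _ => Or.inr (cmMod_self _ q))
  refine ⟨crit.trans ⟨?_, ?_⟩, ?_, ?_⟩
  · rintro ⟨hA, hB⟩
    constructor
    · rcases hA h2r (-a) with h | h
      · have := (pcM (-a)).1 h
        omega
      · have := (topN (-a)).1 h
        omega
    · rcases hB h2s (-b) with h | h
      · have := (topM (-b)).1 h
        omega
      · have := (pcN (-b)).1 h
        omega
  · rintro ⟨h1, h2⟩
    refine ⟨fun _ d => ?_, fun _ d => ?_⟩
    · by_cases h : a + d < 0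
      · exact Or.inl ((pcM d).2 h)
      · exact Or.inr ((topN d).2 (by omega))
    · by_cases h : b + d < 0
      · exact Or.inr ((pcN d).2 h)
      · exact Or.inl ((topM d).2 (by omega))
  · intro hab
    apply depth_eq_of mT.toIdeal P s
    · intro i hi
      exact Groth.Agent.Lib.SegCM6H1.subsingleton_locCoh_of_pieces (toAS 𝒯) (idealAS 𝒯 mT) 𝒬 EP i
        (fun g => K4 i g (by omega) (by omega) (by omega))
    · intro h
      exact K1 (-(s : ℤ) - b) (by omega) (by omega)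
        (Groth.Agent.Lib.SegCM6H1.pieces_of_subsingleton_locCoh (toAS 𝒯) (idealAS 𝒯 mT) 𝒬 EP s
          h _)
  · intro hab
    apply depth_eq_of mT.toIdeal P r
    · intro i hi
      exact Groth.Agent.Lib.SegCM6H1.subsingleton_locCoh_of_pieces (toAS 𝒯) (idealAS 𝒯 mT) 𝒬 EP i
        (fun g => K4 i g (by omega) (by omega) (by omega))
    · intro h
      exact K2 (-(r : ℤ) - a) (by omega) (by omega)
        (Groth.Agent.Lib.SegCM6H1.pieces_of_subsingleton_locCoh (toAS 𝒯) (idealAS 𝒯 mT) 𝒬 EP r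
          h _)

end Groth.Agent.Lib.SegPoly2H1
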