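import Mathlib
import Groth.Prelude.Def_CAlgX

/-!
# The ideal of the Segre embedding `P¹ × P^{n-1}` is generated by the `2 × 2` minors (helper3)
-/

set_option autoImplicit false

namespace Groth.Agent.Lib.Segre2H3

open MvPolynomial

universe u
variable (k : Type u) [CommRing k] (n : ℕ)

/-- exponent map of the Segre map on monomials -/
noncomputable def mu (e : (Fin 2 × Fin n) →₀ ℕ) : (Fin 2 ⊕ Fin n) →₀ ℕ :=
  e.sum fun ij c => Finsupp.single (Sum.inl ij.1) c + Finsupp.single (Sum.inr ij.2) c

theorem mu_add (a b : (Fin 2 × Fin n) →₀ ℕ) : mu n (a + b) = mu n a + mu n b := by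
  unfold mu
  rw [Finsupp.sum_add_index']
  · intro ij; simp
  · intro ij c d
    simp only [Finsupp.single_add]
    abel

theorem mu_single (ij : Fin 2 × Fin n) (c : ℕ) :
    mu n (Finsupp.single ij c) =
      Finsupp.single (Sum.inl ij.1) c + Finsupp.single (Sum.inr ij.2) c := by
  unfold mu
  rw [Finsupp.sum_single_index]
  simp

theorem mu_inl (e : (Fin 2 × Fin n) →₀ ℕ) (i : Fin 2) :
    mu n e (Sum.inl i) = ∑ j, e (i, j) := by
  unfold mu
  rw [Finsupp.sum_fintype _ _ (by intro; simp)]
  simp only [Finsupp.coe_finset_sum, Finsupp.coe_add, Finset.sum_apply, Pi.add_apply,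
    Finsupp.single_apply]
  rw [Fintype.sum_prod_type]
  simp only [Sum.inl.injEq, reduceCtorEq, if_false, add_zero]
  rw [Finset.sum_eq_single i]
  · simp
  · intro b _ hb
    simp [hb]
  · simp

theorem mu_inr (e : (Fin 2 × Fin n) →₀ ℕ) (j : Fin n) :
    mu n e (Sum.inr j) = e (0, j) + e (1, j) := by
  unfold mu
  rw [Finsupp.sum_fintype _ _ (by intro; simp)]
  simp only [Finsupp.coe_finset_sum, Finsupp.coe_add, Finset.sum_apply, Pi.add_apply,
    Finsupp.single_apply]
  rw [Fintype.sum_prod_type]
  simp only [Sum.inr.injEq, reduceCtorEq, if_false, zero_add]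
  rw [Fin.sum_univ_two]
  simp

/-- the Segre map -/
noncomputable def phi : MvPolynomial (Fin 2 × Fin n) k →ₐ[k] MvPolynomial (Fin 2 ⊕ Fin n) k :=
  aeval fun ij : Fin 2 × Fin n =>
    (X (Sum.inl ij.1) * X (Sum.inr ij.2) : MvPolynomial (Fin 2 ⊕ Fin n) k)

theorem phi_monomial (e : (Fin 2 × Fin n) →₀ ℕ) (c : k) :
    phi k n (monomial e c) = monomial (mu n e) c := by
  unfold phi mu
  rw [aeval_monomial, monomial_finsupp_sum_index]
  congr 1
  unfold Finsupp.prod
  apply Finset.prod_congr rfl
  intro ij _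
  beta_reduce
  rw [mul_pow, X_pow_eq_monomial, X_pow_eq_monomial, monomial_mul, mul_one]

/-- the ideal of `2 × 2` minors -/
noncomputable def I : Ideal (MvPolynomial (Fin 2 × Fin n) k) :=
  CAlgX.minorIdeal (Matrix.of fun (i : Fin 2) (j : Fin n) =>
    (X (i, j) : MvPolynomial (Fin 2 × Fin n) k)) 2

theorem swap_mem (j l : Fin n) :
    (X (0, j) * X (1, l) - X (0, l) * X (1, j) : MvPolynomial (Fin 2 × Fin n) k) ∈ I k n := by
  have h : (X (0, j) * X (1, l) - X (0, l) * X (1, j) : MvPolynomial (Fin 2 × Fin n) k) =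
      Matrix.det ((Matrix.of fun (i : Fin 2) (j : Fin n) =>
        (X (i, j) : MvPolynomial (Fin 2 × Fin n) k)).submatrix id ![j, l]) := by
    rw [Matrix.det_fin_two]
    simp
  rw [h]
  exact Ideal.subset_span ⟨(id, ![j, l]), rfl⟩

theorem I_le_ker : I k n ≤ RingHom.ker (phi k n) := by
  unfold I CAlgX.minorIdeal
  rw [Ideal.span_le]
  rintro _ ⟨fg, rfl⟩
  rw [SetLike.mem_coe, RingHom.mem_ker]
  beta_reduce
  rw [Matrix.det_fin_two]
  simp only [Matrix.submatrix_apply, Matrix.of_apply, map_sub, map_mul]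
  unfold phi
  simp only [aeval_X]
  ring

theorem key : ∀ (D : ℕ) (e e' : (Fin 2 × Fin n) →₀ ℕ), mu n e = mu n e' →
    (∑ j, (e (0, j) - e' (0, j))) = D →
    (monomial e (1 : k) - monomial e' 1 : MvPolynomial (Fin 2 × Fin n) k) ∈ I k n := by
  intro D
  induction D using Nat.strong_induction_on with
  | _ D ih =>
  intro e e' hmu hD
  have hrow : ∑ j, e (0, j) = ∑ j, e' (0, j) := by
    rw [← mu_inl, ← mu_inl, hmu]
  have hcol : ∀ j, e (0, j) + e (1, j) = e' (0, j) + e' (1, j) := by
    intro j
    rw [← mu_inr, ← mu_inr, hmu]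
  by_cases hle : ∀ j, e (0, j) ≤ e' (0, j)
  · have heq : ∀ j, e (0, j) = e' (0, j) := by
      have := (Finset.sum_eq_sum_iff_of_le (s := Finset.univ) (fun j _ => hle j)).mp hrow
      intro j
      exact this j (Finset.mem_univ j)
    have hee : e = e' := by
      ext ⟨i, j⟩
      fin_cases i
      · exact heq j
      · have := hcol j
        have h2 := heq j
        simp only [Fin.mk_one, Fin.isValue] at *
        omega
    rw [hee, sub_self]
    exact Ideal.zero_mem _
  · push Not at hle
    obtain ⟨j, hj⟩ := hle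
    obtain ⟨l, hl⟩ : ∃ l, e (0, l) < e' (0, l) := by
      by_contra hcon
      push Not at hcon
      have : ∑ j, e' (0, j) < ∑ j, e (0, j) :=
        Finset.sum_lt_sum (fun j _ => hcon j) ⟨j, Finset.mem_univ j, hj⟩
      omega
    have hjl : j ≠ l := by
      rintro rfl
      omega
    have h1l : e' (1, l) < e (1, l) := by
      have := hcol l
      omega
    have h0j : 1 ≤ e (0, j) := by omega
    have h1l' : 1 ≤ e (1, l) := by omega
    set e₁ : (Fin 2 × Fin n) →₀ ℕ := e - Finsupp.single (0, j) 1 - Finsupp.single (1, l) 1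
      with he₁
    have hee₁ : e = e₁ + Finsupp.single (0, j) 1 + Finsupp.single (1, l) 1 := by
      ext ⟨i, c⟩
      simp only [he₁, Finsupp.coe_add, Finsupp.coe_tsub, Pi.add_apply, Pi.sub_apply,
        Finsupp.single_apply, Prod.mk.injEq]
      by_cases h1 : (0 : Fin 2) = i ∧ j = c
      · obtain ⟨rfl, rfl⟩ := h1
        simp
        omega
      · by_cases h2 : (1 : Fin 2) = i ∧ l = c
        · obtain ⟨rfl, rfl⟩ := h2
          simp
          omega
        · simp [h1, h2]
    set e'' : (Fin 2 × Fin n) →₀ ℕ := e₁ + Finsupp.single (0, l) 1 + Finsupp.single (1, j) 1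
      with he''
    have hmu'' : mu n e'' = mu n e' := by
      rw [← hmu, hee₁, he'', mu_add, mu_add, mu_add, mu_add, mu_single, mu_single, mu_single,
        mu_single]
      abel
    have hmem1 : (monomial e (1 : k) - monomial e'' 1 : MvPolynomial (Fin 2 × Fin n) k) ∈
        I k n := by
      have : (monomial e (1 : k) - monomial e'' 1 : MvPolynomial (Fin 2 × Fin n) k) =
          monomial e₁ 1 * (X (0, j) * X (1, l) - X (0, l) * X (1, j)) := by
        conv_lhs => rw [hee₁, he'']
        rw [monomial_add_single, monomial_add_single, monomial_add_single, monomial_add_single]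
        ring
      rw [this]
      exact Ideal.mul_mem_left _ _ (swap_mem k n j l)
    have hval : ∀ c, e'' (0, c) = if c = j then e (0, j) - 1 else if c = l then e (0, l) + 1
        else e (0, c) := by
      intro c
      simp only [he'', he₁, Finsupp.coe_add, Finsupp.coe_tsub, Pi.add_apply, Pi.sub_apply,
        Finsupp.single_apply, Prod.mk.injEq]
      by_cases hcj : c = j
      · subst hcj
        simp [hjl.symm]
      · by_cases hcl : c = l
        · subst hcl
          simp [hcj, Ne.symm hcj]
        · simp [hcj, hcl, Ne.symm hcj, Ne.symm hcl]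
    have hlt : ∑ c, (e'' (0, c) - e' (0, c)) < D := by
      rw [← hD]
      apply Finset.sum_lt_sum
      · intro c _
        rw [hval c]
        split_ifs with h1 h2
        · subst h1; omega
        · subst h2; omega
        · exact le_rfl
      · refine ⟨j, Finset.mem_univ j, ?_⟩
        rw [hval j, if_pos rfl]
        omega
    have hmem2 := ih _ hlt e'' e' hmu'' rfl
    have : (monomial e (1 : k) - monomial e' 1 : MvPolynomial (Fin 2 × Fin n) k) =
        (monomial e 1 - monomial e'' 1) + (monomial e'' 1 - monomial e' 1) := by ring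
    rw [this]
    exact Ideal.add_mem _ hmem1 hmem2

theorem key' (e e' : (Fin 2 × Fin n) →₀ ℕ) (h : mu n e = mu n e') (c : k) :
    (monomial e c - monomial e' c : MvPolynomial (Fin 2 × Fin n) k) ∈ I k n := by
  have h1 := key k n _ e e' h rfl
  have : (monomial e c - monomial e' c : MvPolynomial (Fin 2 × Fin n) k) =
      C c * (monomial e 1 - monomial e' 1) := by
    rw [mul_sub, C_mul_monomial, C_mul_monomial, mul_one]
  rw [this]
  exact Ideal.mul_mem_left _ _ h1

theorem ker_le_I : RingHom.ker (phi k n) ≤ I k n := by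
  classical
  intro f hf
  rw [RingHom.mem_ker] at hf
  have hf' : ∑ e ∈ f.support, monomial (mu n e) (coeff e f) = (0 : MvPolynomial (Fin 2 ⊕ Fin n) k) := by
    rw [← hf]
    conv_rhs => rw [f.as_sum]
    rw [map_sum]
    apply Finset.sum_congr rfl
    intro e _
    rw [phi_monomial]
  have hfib : ∀ ν : (Fin 2 ⊕ Fin n) →₀ ℕ,
      ∑ e ∈ f.support.filter (fun e => mu n e = ν), coeff e f = 0 := by
    intro ν
    have := congrArg (coeff ν) hf'
    rw [coeff_sum, coeff_zero] at this
    rw [Finset.sum_filter]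
    refine Eq.trans (Finset.sum_congr rfl fun e _ => ?_) this
    rw [coeff_monomial]
  rw [f.as_sum]
  rw [← Finset.sum_fiberwise_of_maps_to (s := f.support) (t := f.support.image (mu n))
    (g := mu n) (fun e he => Finset.mem_image_of_mem _ he)]
  apply Ideal.sum_mem
  intro ν hν
  obtain ⟨e₀, he₀, rfl⟩ := Finset.mem_image.mp hν
  have h1 : ∑ e ∈ f.support.filter (fun e => mu n e = mu n e₀), monomial e (coeff e f) =
      ∑ e ∈ f.support.filter (fun e => mu n e = mu n e₀),
        (monomial e (coeff e f) - monomial e₀ (coeff e f)) := by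
    rw [Finset.sum_sub_distrib, ← map_sum, hfib (mu n e₀), map_zero, sub_zero]
  rw [h1]
  apply Ideal.sum_mem
  intro e he
  exact key' k n e e₀ (Finset.mem_filter.mp he).2 _

theorem main : RingHom.ker (phi k n) = I k n :=
  le_antisymm (ker_le_I k n) (I_le_ker k n)

end Groth.Agent.Lib.Segre2H3
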