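import Mathlib

/-!
# Seidenberg's theorem: derivations extend to the integral closure (characteristic zero) (helper3)
-/

namespace Groth.Agent.Lib.SeidenbergH3

open PowerSeries

section Extend

/-- A derivation of `A` extends to a localization. -/
theorem exists_derivation_extension (k A Q : Type*) [CommRing k] [CommRing A] [Algebra k A]
    [CommRing Q] [Algebra A Q] [Algebra k Q] [IsScalarTower k A Q] (M : Submonoid A)
    [IsLocalization M Q] (D : Derivation k A A) :
    ∃ δ : Derivation k Q Q, ∀ a, δ (algebraMap A Q a) = algebraMap A Q (D a) := by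
  haveI := Algebra.FormallyEtale.of_isLocalization (Rₘ := Q) M
  have hbc := KaehlerDifferential.isBaseChange_of_formallyEtale k A Q
  let g : Ω[A⁄k] →ₗ[A] Q := (Algebra.linearMap A Q) ∘ₗ D.liftKaehlerDifferential
  let L : Ω[Q⁄k] →ₗ[Q] Q := hbc.lift g
  refine ⟨KaehlerDifferential.linearMapEquivDerivation k Q L, fun a => ?_⟩
  show L (KaehlerDifferential.D k Q (algebraMap A Q a)) = _
  rw [← KaehlerDifferential.map_D k k A Q, IsBaseChange.lift_eq]
  show algebraMap A Q (D.liftKaehlerDifferential (KaehlerDifferential.D k A a)) = _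
  rw [Derivation.liftKaehlerDifferential_comp_D]

end Extend

section Hasse

variable {k Q : Type*} [Field k] [CharZero k] [CommRing Q] [Algebra k Q] (δ : Derivation k Q Q)

/-- The Hasse–Schmidt operators `δ^n / n!`. -/
noncomputable def hasse (n : ℕ) : Q →ₗ[k] Q := ((n.factorial : k)⁻¹) • (δ.toLinearMap ^ n)

theorem hasse_zero (x : Q) : hasse δ 0 x = x := by
  simp [hasse]

theorem hasse_one (x : Q) : hasse δ 1 x = δ x := by
  simp [hasse]

theorem hasse_succ (n : ℕ) (x : Q) :
    hasse δ (n + 1) x = ((n + 1 : ℕ) : k)⁻¹ • δ (hasse δ n x) := by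
  simp only [hasse, LinearMap.smul_apply, pow_succ', Module.End.mul_apply,
    Derivation.coeFn_coe, Nat.factorial_succ, Nat.cast_mul, mul_inv]
  rw [Derivation.map_smul, smul_smul]

theorem deriv_hasse (n : ℕ) (x : Q) :
    δ (hasse δ n x) = ((n + 1 : ℕ) : k) • hasse δ (n + 1) x := by
  rw [hasse_succ, smul_smul, mul_inv_cancel₀ (Nat.cast_ne_zero.2 (Nat.succ_ne_zero n)), one_smul]

theorem hasse_mul (n : ℕ) (x y : Q) :
    hasse δ n (x * y) = ∑ p ∈ Finset.HasAntidiagonal.antidiagonal n, hasse δ p.1 x * hasse δ p.2 y := by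
  induction n with
  | zero => simp [hasse_zero]
  | succ n ih =>
    have hn : ((n + 1 : ℕ) : k) ≠ 0 := Nat.cast_ne_zero.2 (Nat.succ_ne_zero n)
    rw [hasse_succ, ih, map_sum]
    have h1 : ∀ p ∈ Finset.HasAntidiagonal.antidiagonal n, δ (hasse δ p.1 x * hasse δ p.2 y) =
        ((p.2 + 1 : ℕ) : k) • (hasse δ p.1 x * hasse δ (p.2 + 1) y) +
        ((p.1 + 1 : ℕ) : k) • (hasse δ (p.1 + 1) x * hasse δ p.2 y) := by
      intro p _
      rw [Derivation.leibniz, deriv_hasse, deriv_hasse, smul_eq_mul, smul_eq_mul,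
        mul_smul_comm, mul_smul_comm, mul_comm (hasse δ p.2 y)]
    rw [Finset.sum_congr rfl h1, Finset.sum_add_distrib]
    have h2 : ((n + 1 : ℕ) : k) • ∑ p ∈ Finset.HasAntidiagonal.antidiagonal (n + 1), hasse δ p.1 x * hasse δ p.2 y =
        ∑ p ∈ Finset.HasAntidiagonal.antidiagonal (n + 1), (p.2 : k) • (hasse δ p.1 x * hasse δ p.2 y) +
        ∑ p ∈ Finset.HasAntidiagonal.antidiagonal (n + 1), (p.1 : k) • (hasse δ p.1 x * hasse δ p.2 y) := by
      rw [← Finset.sum_add_distrib, Finset.smul_sum]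
      refine Finset.sum_congr rfl fun p hp => ?_
      rw [← add_smul]
      congr 1
      rw [Finset.HasAntidiagonal.mem_antidiagonal] at hp
      rw [← hp]
      push_cast
      ring
    have h3 : ∑ p ∈ Finset.HasAntidiagonal.antidiagonal (n + 1), (p.2 : k) • (hasse δ p.1 x * hasse δ p.2 y) =
        ∑ p ∈ Finset.HasAntidiagonal.antidiagonal n,
          ((p.2 + 1 : ℕ) : k) • (hasse δ p.1 x * hasse δ (p.2 + 1) y) := by
      rw [Finset.Nat.sum_antidiagonal_succ']
      simp
    have h4 : ∑ p ∈ Finset.HasAntidiagonal.antidiagonal (n + 1), (p.1 : k) • (hasse δ p.1 x * hasse δ p.2 y) =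
        ∑ p ∈ Finset.HasAntidiagonal.antidiagonal n,
          ((p.1 + 1 : ℕ) : k) • (hasse δ (p.1 + 1) x * hasse δ p.2 y) := by
      rw [Finset.Nat.sum_antidiagonal_succ]
      simp
    rw [← h3, ← h4, ← h2, smul_smul, inv_mul_cancel₀ hn, one_smul]

/-- The exponential `x ↦ ∑ (δ^n x / n!) t^n`. -/
noncomputable def expD (x : Q) : PowerSeries Q := PowerSeries.mk fun n => hasse δ n x

theorem coeff_expD (n : ℕ) (x : Q) : coeff n (expD δ x) = hasse δ n x := by
  simp [expD]

theorem expD_mul (x y : Q) : expD δ (x * y) = expD δ x * expD δ y := by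
  ext n
  rw [coeff_expD, PowerSeries.coeff_mul, hasse_mul]
  simp only [coeff_expD]

theorem expD_mul_pow (c x : Q) (l : ℕ) : expD δ (c * x ^ l) = expD δ c * expD δ x ^ l := by
  induction l with
  | zero => simp
  | succ l ih => rw [pow_succ, ← mul_assoc, expD_mul, ih, pow_succ, mul_assoc]

end Hasse

section Main

variable {A Q : Type*} [CommRing A] [CommRing Q] [Algebra A Q]

/-- Power series with coefficients in a subring. -/
def coeffSubring (S₁ : Subring Q) : Subring (PowerSeries Q) where
  carrier := {f | ∀ n, coeff n f ∈ S₁}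
  mul_mem' := by
    intro f g hf hg n
    rw [PowerSeries.coeff_mul]
    exact Subring.sum_mem _ fun p _ => S₁.mul_mem (hf _) (hg _)
  one_mem' := by
    intro n
    rw [PowerSeries.coeff_one]
    split_ifs
    · exact S₁.one_mem
    · exact S₁.zero_mem
  add_mem' := by
    intro f g hf hg n
    rw [map_add]
    exact S₁.add_mem (hf n) (hg n)
  zero_mem' := by
    intro n
    rw [map_zero]
    exact S₁.zero_mem
  neg_mem' := by
    intro f hf n
    rw [map_neg]
    exact S₁.neg_mem (hf n)

theorem mem_coeffSubring {S₁ : Subring Q} {f : PowerSeries Q} :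
    f ∈ coeffSubring S₁ ↔ ∀ n, coeff n f ∈ S₁ := Iff.rfl

theorem isIntegral_coeff [IsNoetherianRing A] (c : A) (hc : IsUnit (algebraMap A Q c))
    (E : Q → PowerSeries Q)
    (hmul : ∀ x y, E (x * y) = E x * E y) (hE0 : ∀ x, coeff 0 (E x) = x)
    (hEA : ∀ (a : A) (n : ℕ), coeff n (E (algebraMap A Q a)) ∈ (algebraMap A Q).range)
    (x : Q) (hx : ∀ n, algebraMap A Q c * x ^ n ∈ (algebraMap A Q).range) (j : ℕ) :
    IsIntegral A (coeff j (E x)) := by
  classical
  induction j using Nat.strong_induction_on with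
  | _ j ih =>
  have hEpow : ∀ l, E (algebraMap A Q c * x ^ l) = E (algebraMap A Q c) * E x ^ l := by
    intro l
    induction l with
    | zero => simp
    | succ l ihl => rw [pow_succ, ← mul_assoc, hmul, ihl, pow_succ, mul_assoc]
  generalize hu : E x = u at *
  let s : Finset Q := (Finset.range j).image (fun i => coeff i u)
  have hs : ∀ z ∈ (s : Set Q), IsIntegral A z := by
    intro z hz
    rw [Finset.mem_coe, Finset.mem_image] at hz
    obtain ⟨i, hi, rfl⟩ := hz
    exact ih i (Finset.mem_range.1 hi)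
  let A₁ : Subalgebra A Q := Algebra.adjoin A (s : Set Q)
  have hA₁fg : A₁.toSubmodule.FG := fg_adjoin_of_finite s.finite_toSet hs
  let S₁ : Subring Q := A₁.toSubring
  have hrange : ∀ z ∈ (algebraMap A Q).range, z ∈ S₁ := by
    rintro z ⟨a, rfl⟩
    exact A₁.algebraMap_mem a
  let w : PowerSeries Q := ((PowerSeries.trunc j u : Polynomial Q) : PowerSeries Q)
  have hw : w ∈ coeffSubring S₁ := by
    intro m
    rw [Polynomial.coeff_coe, PowerSeries.coeff_trunc]
    split_ifs with hm
    · exact Algebra.subset_adjoin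
        (Finset.mem_coe.2 (Finset.mem_image.2 ⟨m, Finset.mem_range.2 hm, rfl⟩))
    · exact S₁.zero_mem
  have hCu : ∀ l, E (algebraMap A Q c) * u ^ l ∈ coeffSubring S₁ := by
    intro l m
    rw [← hEpow]
    obtain ⟨a, ha⟩ := hx l
    rw [← ha]
    exact hrange _ (hEA a m)
  have hCv : ∀ n, E (algebraMap A Q c) * (u - w) ^ n ∈ coeffSubring S₁ := by
    intro n
    rw [sub_eq_add_neg, add_pow, Finset.mul_sum]
    refine Subring.sum_mem _ fun m _ => ?_
    have h1 : E (algebraMap A Q c) * (u ^ m * (-w) ^ (n - m) * (n.choose m : PowerSeries Q)) =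
        (E (algebraMap A Q c) * u ^ m) * ((-w) ^ (n - m) * (n.choose m : PowerSeries Q)) := by
      ring
    rw [h1]
    exact Subring.mul_mem _ (hCu m)
      (Subring.mul_mem _ (Subring.pow_mem _ (Subring.neg_mem _ hw) _) (natCast_mem _ _))
  let v' : PowerSeries Q := PowerSeries.mk fun i => coeff (i + j) u
  have hv : u - w = (PowerSeries.X : PowerSeries Q) ^ j * v' := by
    ext m
    rw [map_sub, Polynomial.coeff_coe, PowerSeries.coeff_trunc, PowerSeries.coeff_X_pow_mul']
    by_cases hm : m < j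
    · rw [if_pos hm, if_neg (by omega), sub_self]
    · rw [if_neg hm, if_pos (by omega), sub_zero, PowerSeries.coeff_mk,
        Nat.sub_add_cancel (by omega)]
  have hkey : ∀ n, algebraMap A Q c * (coeff j u) ^ n ∈ A₁ := by
    intro n
    have h1 := hCv n (j * n)
    rw [hv, mul_pow, ← pow_mul, mul_left_comm, PowerSeries.coeff_X_pow_mul', if_pos le_rfl,
      Nat.sub_self, PowerSeries.coeff_zero_eq_constantCoeff_apply, map_mul, map_pow,
      ← PowerSeries.coeff_zero_eq_constantCoeff_apply,
      ← PowerSeries.coeff_zero_eq_constantCoeff_apply, hE0, PowerSeries.coeff_mk, zero_add] at h1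
    exact h1
  obtain ⟨c', hc'⟩ := hc.exists_left_inv
  let N : Submodule A Q := Submodule.map (LinearMap.mulLeft A c') A₁.toSubmodule
  have hNfg : N.FG := hA₁fg.map _
  haveI : IsNoetherian A N := isNoetherian_of_fg_of_noetherian N hNfg
  have hyN : ∀ n, (coeff j u) ^ n ∈ N := by
    intro n
    refine ⟨algebraMap A Q c * (coeff j u) ^ n, hkey n, ?_⟩
    show c' * (algebraMap A Q c * (coeff j u) ^ n) = (coeff j u) ^ n
    rw [← mul_assoc, hc', one_mul]
  have hle : (Algebra.adjoin A {coeff j u}).toSubmodule ≤ N := by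
    intro z hz
    rw [Subalgebra.mem_toSubmodule, Algebra.adjoin_singleton_eq_range_aeval] at hz
    obtain ⟨p, rfl⟩ := hz
    rw [AlgHom.toRingHom_eq_coe, RingHom.coe_coe, Polynomial.aeval_eq_sum_range]
    exact Submodule.sum_mem _ fun i _ => Submodule.smul_mem _ _ (hyN i)
  have hfg : (Algebra.adjoin A {coeff j u}).toSubmodule.FG :=
    (isNoetherian_submodule.1 inferInstance) _ hle
  exact IsIntegral.of_mem_of_fg _ hfg _ (Algebra.subset_adjoin rfl)

end Main

section Seidenberg

theorem iterate_algebraMap {k A Q : Type*} [CommRing k] [CommRing A] [Algebra k A]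
    [CommRing Q] [Algebra A Q] [Algebra k Q] [IsScalarTower k A Q] (D : Derivation k A A)
    (δ : Derivation k Q Q) (hδ : ∀ a, δ (algebraMap A Q a) = algebraMap A Q (D a)) (n : ℕ) (a : A) :
    (δ.toLinearMap ^ n) (algebraMap A Q a) = algebraMap A Q ((D.toLinearMap ^ n) a) := by
  induction n generalizing a with
  | zero => simp
  | succ n ih =>
    rw [pow_succ, Module.End.mul_apply, pow_succ, Module.End.mul_apply]
    show (δ.toLinearMap ^ n) (δ (algebraMap A Q a)) = _
    rw [hδ, ih]
    rfl

/-- **Seidenberg's theorem**: a derivation of a Noetherian ring containing a field of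
characteristic zero extends to the total ring of fractions, and the extension preserves the
integral closure. -/
theorem seidenberg (k A Q : Type*) [Field k] [CharZero k] [CommRing A] [IsNoetherianRing A]
    [Algebra k A] [CommRing Q] [Algebra A Q] [Algebra k Q] [IsScalarTower k A Q]
    [IsFractionRing A Q] (D : Derivation k A A) :
    ∃ δ : Derivation k Q Q, (∀ a, δ (algebraMap A Q a) = algebraMap A Q (D a)) ∧
      ∀ x, IsIntegral A x → IsIntegral A (δ x) := by
  obtain ⟨δ, hδ⟩ := exists_derivation_extension k A Q (nonZeroDivisors A) D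
  refine ⟨δ, hδ, fun x hx => ?_⟩
  obtain ⟨t, ht⟩ := hx.fg_adjoin_singleton
  obtain ⟨⟨c, hcM⟩, hct⟩ := IsLocalization.exist_integer_multiples_of_finset (nonZeroDivisors A) t
  have hcz : ∀ z ∈ (Algebra.adjoin A {x}).toSubmodule,
      algebraMap A Q c * z ∈ (algebraMap A Q).range := by
    intro z hz
    rw [← ht] at hz
    induction hz using Submodule.span_induction with
    | mem z hz =>
      obtain ⟨a, ha⟩ := hct z hz
      refine ⟨a, ?_⟩
      rw [ha, Algebra.smul_def]
    | zero => exact ⟨0, by simp⟩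
    | add z₁ z₂ _ _ h₁ h₂ =>
      rw [mul_add]
      exact Subring.add_mem _ h₁ h₂
    | smul a z _ h =>
      obtain ⟨b, hb⟩ := h
      refine ⟨a * b, ?_⟩
      rw [map_mul, hb, Algebra.smul_def]
      ring
  have hcx : ∀ n, algebraMap A Q c * x ^ n ∈ (algebraMap A Q).range := fun n =>
    hcz _ ((Subalgebra.mem_toSubmodule _).2
      (Subalgebra.pow_mem _ (Algebra.subset_adjoin (Set.mem_singleton x)) n))
  have hunit : IsUnit (algebraMap A Q c) := IsLocalization.map_units Q ⟨c, hcM⟩
  have hEA : ∀ (a : A) (n : ℕ), coeff n (expD δ (algebraMap A Q a)) ∈ (algebraMap A Q).range := by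
    intro a n
    rw [coeff_expD]
    refine ⟨((n.factorial : k)⁻¹) • (D.toLinearMap ^ n) a, ?_⟩
    show _ = ((n.factorial : k)⁻¹) • (δ.toLinearMap ^ n) (algebraMap A Q a)
    rw [iterate_algebraMap D δ hδ, Algebra.algebraMap_eq_smul_one, Algebra.algebraMap_eq_smul_one,
      smul_assoc]
  have h := isIntegral_coeff c hunit (expD δ) (expD_mul δ)
    (fun z => by rw [coeff_expD, hasse_zero]) hEA x hcx 1
  rwa [coeff_expD, hasse_one] at h

end Seidenberg

end Groth.Agent.Lib.SeidenbergH3
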