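import Groth.Prelude.Def_SekSuwa2
import Mathlib

set_option autoImplicit false
set_option linter.unusedSectionVars false
universe u
open CategoryTheory AlgebraicGeometry
open SekSuwa
open scoped TensorProduct

namespace Groth.Agent.Lib.SekSuwaH4

section Fin
open Polynomial
variable {R : Type u} [CommRing R] {lam : R} {N : ℕ}

theorem natDegree_rhs_le : ((1 + Polynomial.C lam * Polynomial.X) ^ N - 1 : R[X]).natDegree ≤ N := by
  have h1 : (1 + Polynomial.C lam * Polynomial.X : R[X]).natDegree ≤ 1 := by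
    compute_degree
  have h2 := Polynomial.natDegree_pow_le_of_le N h1
  have h3 : ((1 + Polynomial.C lam * Polynomial.X : R[X]) ^ N - 1).natDegree ≤
      max ((1 + Polynomial.C lam * Polynomial.X : R[X]) ^ N).natDegree (1 : R[X]).natDegree :=
    Polynomial.natDegree_sub_le _ _
  rw [Polynomial.natDegree_one] at h3
  omega

theorem coeff_rhs (hN : 0 < N) : ((1 + Polynomial.C lam * Polynomial.X) ^ N - 1 : R[X]).coeff N = lam ^ N := by
  have h1 : (1 + Polynomial.C lam * Polynomial.X : R[X]).natDegree ≤ 1 := by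
    compute_degree
  have h2 := Polynomial.coeff_pow_of_natDegree_le (m := N) h1
  rw [Nat.mul_one] at h2
  rw [Polynomial.coeff_sub, h2, Polynomial.coeff_one, if_neg (by omega), sub_zero]
  simp [Polynomial.coeff_one]

theorem psiPoly_natDegree_le (h : DivCond lam N) : (psiPoly lam N h).natDegree ≤ N := by
  rw [Polynomial.natDegree_le_iff_coeff_eq_zero]
  intro k hk
  have e := congrArg (fun q => Polynomial.coeff q k) (psiPoly_spec h)
  simp only [Polynomial.coeff_C_mul] at e
  have h0 : ((1 + Polynomial.C lam * Polynomial.X) ^ N - 1 : R[X]).coeff k = 0 :=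
    Polynomial.coeff_eq_zero_of_natDegree_lt (lt_of_le_of_lt natDegree_rhs_le hk)
  rw [h0] at e
  exact cancel_nzd h.pow_nzd (e.trans (mul_zero _).symm)

theorem psiPoly_coeff (h : DivCond lam N) (hN : 0 < N) : (psiPoly lam N h).coeff N = 1 := by
  have e := congrArg (fun q => Polynomial.coeff q N) (psiPoly_spec h)
  simp only [Polynomial.coeff_C_mul] at e
  rw [coeff_rhs hN] at e
  exact cancel_nzd h.pow_nzd (e.trans (mul_one _).symm)

theorem psiPoly_monic (h : DivCond lam N) (hN : 0 < N) : (psiPoly lam N h).Monic :=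
  Polynomial.monic_of_natDegree_le_of_coeff_eq_one N (psiPoly_natDegree_le h) (psiPoly_coeff h hN)

theorem isIntegral_t (h : DivCond lam N) (hN : 0 < N) : _root_.IsIntegral R (AK.t : AK R lam N h) :=
  ⟨psiPoly lam N h, psiPoly_monic h hN, by
    have := AK.aeval_t (R := R) (lam := lam) (N := N) (h := h)
    rwa [Polynomial.aeval_def] at this⟩

theorem isIntegral_inv (h : DivCond lam N) (hN : 0 < N) : _root_.IsIntegral R (AK.inv : AK R lam N h) := by
  refine ⟨Polynomial.X ^ N - 1, Polynomial.monic_X_pow_sub_C (1 : R) (by omega), ?_⟩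
  rw [← Polynomial.aeval_def]
  simp [AK.inv_pow]

theorem adjoin_eq_top (h : DivCond lam N) :
    Algebra.adjoin R ({AK.t, AK.inv} : Set (AK R lam N h)) = ⊤ := by
  rw [eq_top_iff]
  intro z hz
  clear hz
  obtain ⟨a, rfl⟩ := Ideal.Quotient.mk_surjective (I := kerIdeal lam N h) z
  obtain ⟨b, rfl⟩ := Ideal.Quotient.mk_surjective (I := Poly.relIdeal R lam) a
  let π : MvPolynomial (Fin 2) R →ₐ[R] AK R lam N h :=
    ((AK.mkHom R lam N h : A R lam →ₐ[R] AK R lam N h).comp (A.mk R lam) : Poly R lam →ₐ[R] AK R lam N h)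
  change π b ∈ _
  induction b using MvPolynomial.induction_on with
  | C r =>
    rw [← MvPolynomial.algebraMap_eq, AlgHom.commutes]
    exact Subalgebra.algebraMap_mem _ r
  | add p q hp hq => rw [map_add]; exact Subalgebra.add_mem _ hp hq
  | mul_X p i hp =>
    rw [map_mul]
    refine Subalgebra.mul_mem _ hp (Algebra.subset_adjoin ?_)
    fin_cases i
    · left; rfl
    · right; rfl

theorem finite_AK (h : DivCond lam N) (hN : 0 < N) : Module.Finite R (AK R lam N h) := by
  have h1 := _root_.fg_adjoin_of_finite (R := R) (s := ({AK.t, AK.inv} : Set (AK R lam N h)))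
    (Set.toFinite _) (by
      intro x hx
      rcases hx with rfl | rfl
      · exact isIntegral_t h hN
      · exact isIntegral_inv h hN)
  rw [adjoin_eq_top h, Algebra.top_toSubmodule] at h1
  exact Module.finite_def.mpr h1

end Fin

section Gen
variable (R : Type u) [CommRing R] (lam : R) (N : ℕ) [NeZero N] (h : DivCond lam N)
  (L : Type u) [CommRing L] [Algebra R L]

/-- the target ring `R[ℤ/N] ⊗ L` -/
abbrev MM : Type u := MonoidAlgebra R (Multiplicative (ZMod N)) ⊗[R] L

/-- the generator -/
noncomputable def gg : MM R N L := MonoidAlgebra.single (Multiplicative.ofAdd (1 : ZMod N)) (1 : R) ⊗ₜ[R] (1 : L)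
/-- its inverse -/
noncomputable def ggi : MM R N L := MonoidAlgebra.single (Multiplicative.ofAdd (-1 : ZMod N)) (1 : R) ⊗ₜ[R] (1 : L)

theorem gg_mul_ggi : gg R N L * ggi R N L = 1 := by
  rw [gg, ggi, Algebra.TensorProduct.tmul_mul_tmul, MonoidAlgebra.single_mul_single, mul_one, ← ofAdd_add,
    add_neg_cancel, ofAdd_zero, mul_one]
  rfl

theorem single_eq_pow (k : ZMod N) :
    (MonoidAlgebra.single (Multiplicative.ofAdd k) (1 : R) : MonoidAlgebra R (Multiplicative (ZMod N))) =
      (MonoidAlgebra.single (Multiplicative.ofAdd (1 : ZMod N)) (1 : R)) ^ k.val := by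
  rw [MonoidAlgebra.single_pow, one_pow, ← ofAdd_nsmul, nsmul_one, ZMod.natCast_zmod_val]

theorem gg_pow : gg R N L ^ N = 1 := by
  rw [gg, Algebra.TensorProduct.tmul_pow, one_pow, MonoidAlgebra.single_pow, one_pow, ← ofAdd_nsmul, nsmul_one,
    ZMod.natCast_self, ofAdd_zero]
  rfl

variable {L} in
/-- the element `b = u⁻¹ (g − 1)` -/
noncomputable def bb (v : L) : MM R N L := ((1 : MonoidAlgebra R (Multiplicative (ZMod N))) ⊗ₜ[R] v) * (gg R N L - 1)

variable {R lam N L}

theorem smul_bb {v : L} (hv : algebraMap R L lam * v = 1) : lam • bb R N v = gg R N L - 1 := by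
  rw [bb, ← smul_mul_assoc, TensorProduct.smul_tmul', TensorProduct.smul_tmul, Algebra.smul_def, hv]
  exact one_mul _

theorem rel_bb {v : L} (hv : algebraMap R L lam * v = 1) :
    (1 + lam • bb R N v) * ggi R N L = 1 := by
  rw [smul_bb hv, add_sub_cancel, gg_mul_ggi]

theorem isUnit_algebraMap_MM {v : L} (hv : algebraMap R L lam * v = 1) (k : ℕ) :
    IsUnit (algebraMap R (MM R N L) (lam ^ k)) := by
  rw [map_pow]
  refine IsUnit.pow k ?_
  refine IsUnit.of_mul_eq_one ((1 : MonoidAlgebra R (Multiplicative (ZMod N))) ⊗ₜ[R] v) ?_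
  rw [← Algebra.smul_def, TensorProduct.smul_tmul', TensorProduct.smul_tmul, Algebra.smul_def, hv]
  rfl

theorem aeval_bb (h : DivCond lam N) {v : L} (hv : algebraMap R L lam * v = 1) :
    Polynomial.aeval (bb R N v) (psiPoly lam N h) = 0 := by
  have e := aeval_psiPoly h (bb R N v)
  rw [← Algebra.smul_def lam, smul_bb hv, add_sub_cancel, gg_pow, sub_self] at e
  exact (isUnit_algebraMap_MM hv N).mul_right_eq_zero.mp e

/-- the map `A → R[ℤ/N] ⊗ L` -/
noncomputable def rho0 {v : L} (hv : algebraMap R L lam * v = 1) : A R lam →ₐ[R] MM R N L :=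
  A.lift R lam (bb R N v) (ggi R N L) (rel_bb hv)

/-- the map `AK → R[ℤ/N] ⊗ L` -/
noncomputable def rho (h : DivCond lam N) {v : L} (hv : algebraMap R L lam * v = 1) :
    AK R lam N h →ₐ[R] MM R N L :=
  Ideal.Quotient.liftₐ (kerIdeal lam N h) (rho0 hv) (by
    intro z hz
    obtain ⟨c, rfl⟩ := Ideal.mem_span_singleton'.mp hz
    rw [map_mul, kerGen, ← Polynomial.aeval_algHom_apply, rho0, A.lift_t, aeval_bb h hv, mul_zero])

theorem rho_t (h : DivCond lam N) {v : L} (hv : algebraMap R L lam * v = 1) :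
    rho h hv AK.t = bb R N v := by
  change rho0 hv A.t = _
  rw [rho0, A.lift_t]

theorem rho_inv (h : DivCond lam N) {v : L} (hv : algebraMap R L lam * v = 1) :
    rho h hv AK.inv = ggi R N L := by
  change rho0 hv A.inv = _
  rw [rho0, A.lift_inv]

/-- the inverse map -/
noncomputable def Phi (h : DivCond lam N) {v : L} (hv : algebraMap R L lam * v = 1) :
    AK R lam N h ⊗[R] L →ₐ[R] MM R N L :=
  Algebra.TensorProduct.productMap (rho h hv) Algebra.TensorProduct.includeRight

/-- the base change of alphaN -/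
noncomputable def Psi (h : DivCond lam N) : MM R N L →ₐ[R] AK R lam N h ⊗[R] L :=
  Algebra.TensorProduct.map (alphaNHom R lam N h : MonoidAlgebra R (Multiplicative (ZMod N)) →ₐ[R] AK R lam N h)
    (AlgHom.id R L)

theorem rho_alpha (h : DivCond lam N) {v : L} (hv : algebraMap R L lam * v = 1) :
    (rho h hv).comp (alphaNHom R lam N h : MonoidAlgebra R (Multiplicative (ZMod N)) →ₐ[R] AK R lam N h) =
      Algebra.TensorProduct.includeLeft := by
  refine MonoidAlgebra.algHom_ext (fun m => ?_) (Subsingleton.elim _ _)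
  obtain ⟨k, rfl⟩ : ∃ k : ZMod N, Multiplicative.ofAdd k = m := ⟨Multiplicative.toAdd m, rfl⟩
  rw [single_eq_pow, map_pow, map_pow]
  congr 1
  rw [AlgHom.comp_apply]
  change rho h hv (alphaNHom R lam N h _) = _
  rw [alphaNHom_single_one, map_add, map_one, map_smul, rho_t, smul_bb hv, add_sub_cancel]
  rfl

theorem Phi_Psi (h : DivCond lam N) {v : L} (hv : algebraMap R L lam * v = 1) :
    (Phi h hv).comp (Psi (L := L) h) = AlgHom.id R _ := by
  apply Algebra.TensorProduct.ext
  · have e1 : ((Phi h hv).comp (Psi (L := L) h)).comp Algebra.TensorProduct.includeLeft =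
        (rho h hv).comp (alphaNHom R lam N h : MonoidAlgebra R (Multiplicative (ZMod N)) →ₐ[R] AK R lam N h) := by
      ext x
      simp only [AlgHom.comp_apply, Algebra.TensorProduct.includeLeft_apply, Psi, Algebra.TensorProduct.map_tmul,
        map_one, Phi, Algebra.TensorProduct.productMap_left_apply]
    rw [e1, rho_alpha h hv]
    rfl
  · ext x
    simp only [AlgHom.comp_apply, Algebra.TensorProduct.includeRight_apply, Psi, Algebra.TensorProduct.map_tmul,
      map_one, Phi, Algebra.TensorProduct.productMap_right_apply, AlgHom.id_apply,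
      AlgHom.coe_restrictScalars']

theorem alpha_ggi (h : DivCond lam N) :
    alphaNHom R lam N h (MonoidAlgebra.single (Multiplicative.ofAdd (-1 : ZMod N)) 1) = AK.inv := by
  have e1 : (1 + lam • (AK.t : AK R lam N h)) * AK.inv = 1 := by
    have := congrArg (AK.mkHom R lam N h) (A.u_mul_inv (R := R) (lam := lam))
    rw [map_mul, map_one, A.u, map_add, map_one, map_smul] at this
    exact this
  have e2 : (1 + lam • (AK.t : AK R lam N h)) *
      alphaNHom R lam N h (MonoidAlgebra.single (Multiplicative.ofAdd (-1 : ZMod N)) 1) = 1 := by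
    rw [← alphaNHom_single_one, ← map_mul, MonoidAlgebra.single_mul_single, ← ofAdd_add, add_neg_cancel, ofAdd_zero,
      mul_one]
    exact map_one _
  calc alphaNHom R lam N h (MonoidAlgebra.single (Multiplicative.ofAdd (-1 : ZMod N)) 1)
      = ((1 + lam • (AK.t : AK R lam N h)) * AK.inv) *
          alphaNHom R lam N h (MonoidAlgebra.single (Multiplicative.ofAdd (-1 : ZMod N)) 1) := by
        rw [e1, one_mul]
    _ = AK.inv * ((1 + lam • (AK.t : AK R lam N h)) *
          alphaNHom R lam N h (MonoidAlgebra.single (Multiplicative.ofAdd (-1 : ZMod N)) 1)) := by ring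
    _ = AK.inv := by rw [e2, mul_one]

theorem Psi_gg (h : DivCond lam N) : Psi (L := L) h (gg R N L) = (1 + lam • AK.t) ⊗ₜ[R] 1 := by
  rw [Psi, gg, Algebra.TensorProduct.map_tmul, AlgHom.id_apply]
  congr 1
  exact alphaNHom_single_one R lam N h

theorem Psi_ggi (h : DivCond lam N) : Psi (L := L) h (ggi R N L) = AK.inv ⊗ₜ[R] 1 := by
  rw [Psi, ggi, Algebra.TensorProduct.map_tmul, AlgHom.id_apply]
  congr 1
  exact alpha_ggi h

theorem Psi_bb (h : DivCond lam N) {v : L} (hv : algebraMap R L lam * v = 1) :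
    Psi (L := L) h (bb R N v) = AK.t ⊗ₜ[R] 1 := by
  rw [bb, map_mul, map_sub, map_one, Psi_gg]
  have e1 : Psi (L := L) h ((1 : MonoidAlgebra R (Multiplicative (ZMod N))) ⊗ₜ[R] v) = 1 ⊗ₜ[R] v := by
    rw [Psi, Algebra.TensorProduct.map_tmul, map_one]
    rfl
  rw [e1, TensorProduct.add_tmul, ← Algebra.TensorProduct.one_def, add_sub_cancel_left,
    Algebra.TensorProduct.tmul_mul_tmul, one_mul, mul_one, TensorProduct.smul_tmul, Algebra.smul_def, hv]

theorem Psi_Phi (h : DivCond lam N) {v : L} (hv : algebraMap R L lam * v = 1) :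
    (Psi (L := L) h).comp (Phi h hv) = AlgHom.id R _ := by
  apply Algebra.TensorProduct.ext
  · have e1 : ((Psi (L := L) h).comp (Phi h hv)).comp Algebra.TensorProduct.includeLeft =
        (Psi (L := L) h).comp (rho h hv) := by
      ext x
      simp only [AlgHom.comp_apply, Algebra.TensorProduct.includeLeft_apply, Phi,
        Algebra.TensorProduct.productMap_left_apply]
    rw [e1]
    apply AK.algHom_ext
    · rw [AlgHom.comp_apply, rho_t, Psi_bb h hv]
      rfl
    · rw [AlgHom.comp_apply, rho_inv, Psi_ggi h]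
      rfl
  · ext x
    simp only [AlgHom.comp_apply, Algebra.TensorProduct.includeRight_apply, Psi, Algebra.TensorProduct.map_tmul,
      map_one, Phi, Algebra.TensorProduct.productMap_right_apply, AlgHom.id_apply,
      AlgHom.coe_restrictScalars']

theorem bijective_Psi (h : DivCond lam N) (hu : IsUnit (algebraMap R L lam)) :
    Function.Bijective (Algebra.TensorProduct.map
      (alphaNHom R lam N h : MonoidAlgebra R (Multiplicative (ZMod N)) →ₐ[R] AK R lam N h) (AlgHom.id R L)) := by
  obtain ⟨v, hv⟩ := hu.exists_right_inv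
  refine Function.bijective_iff_has_inverse.mpr ⟨Phi h hv, fun x => ?_, fun x => ?_⟩
  · exact congrArg (fun f => f x) (Phi_Psi h hv)
  · exact congrArg (fun f => f x) (Psi_Phi h hv)

end Gen

end Groth.Agent.Lib.SekSuwaH4
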