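import Groth.Agent.Lib.SekSuwaA_helper4
import Groth.Agent.Lib.EtNormD_helper4

set_option autoImplicit false
set_option linter.unusedSectionVars false
set_option linter.style.haveILetI false
universe u
open CategoryTheory AlgebraicGeometry Limits
open SekSuwa
open scoped TensorProduct

namespace Groth.Agent.Lib.SekSuwaH4

theorem pullback_map_left_fst {C : Type*} [Category C] [HasPullbacks C] {S T : C} (f : T ⟶ S) {X Y : Over S}
    (k : X ⟶ Y) : ((Over.pullback f).map k).left ≫ pullback.fst Y.hom f = pullback.fst X.hom f ≫ k.left := by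
  exact (congrArg (· ≫ pullback.fst Y.hom f) (Over.pullback_map_left f X)).trans (pullback.lift_fst _ _ _)

theorem pullback_map_left_snd {C : Type*} [Category C] [HasPullbacks C] {S T : C} (f : T ⟶ S) {X Y : Over S}
    (k : X ⟶ Y) : ((Over.pullback f).map k).left ≫ pullback.snd Y.hom f = pullback.snd X.hom f := by
  exact (congrArg (· ≫ pullback.snd Y.hom f) (Over.pullback_map_left f X)).trans (pullback.lift_snd _ _ _)

theorem isIso_lift_spec {R : Type u} [CommRing R] {B₁ B₂ : Type u} [CommRing B₁] [CommRing B₂]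
    [Algebra R B₁] [Algebra R B₂] (φ : B₁ →ₐ[R] B₂) (L : Type u) [CommRing L] [Algebra R L]
    (hφ : Function.Bijective (Algebra.TensorProduct.map φ (AlgHom.id R L)))
    (m : pullback (Spec.map (CommRingCat.ofHom (algebraMap R B₂))) (Spec.map (CommRingCat.ofHom (algebraMap R L))) ⟶
      pullback (Spec.map (CommRingCat.ofHom (algebraMap R B₁))) (Spec.map (CommRingCat.ofHom (algebraMap R L))))
    (h1 : m ≫ pullback.fst _ _ = pullback.fst _ _ ≫ Spec.map (CommRingCat.ofHom (φ : B₁ →+* B₂)))
    (h2 : m ≫ pullback.snd _ _ = pullback.snd _ _) : IsIso m := by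
  let T := Algebra.TensorProduct.map φ (AlgHom.id R L)
  let eT : (B₁ ⊗[R] L) ≃+* (B₂ ⊗[R] L) := RingEquiv.ofBijective (T : (B₁ ⊗[R] L) →+* (B₂ ⊗[R] L)) hφ
  have hiso : IsIso (Spec.map (CommRingCat.ofHom (T : (B₁ ⊗[R] L) →+* (B₂ ⊗[R] L)))) := by
    haveI : IsIso (CommRingCat.ofHom (T : (B₁ ⊗[R] L) →+* (B₂ ⊗[R] L))) :=
      (eT.toCommRingCatIso).isIso_hom
    infer_instance
  have key : m =
      (pullbackSpecIso R B₂ L).hom ≫ Spec.map (CommRingCat.ofHom (T : (B₁ ⊗[R] L) →+* (B₂ ⊗[R] L))) ≫
        (pullbackSpecIso R B₁ L).inv := by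
    rw [← Iso.inv_comp_eq]
    apply pullback.hom_ext
    · rw [Category.assoc, Category.assoc, pullbackSpecIso_inv_fst, h1,
        pullbackSpecIso_inv_fst_assoc, ← Spec.map_comp, ← Spec.map_comp]
      congr 1
    · rw [Category.assoc, Category.assoc, pullbackSpecIso_inv_snd, h2,
        pullbackSpecIso_inv_snd, ← Spec.map_comp]
      congr 1
      ext x
      simp [T]
  rw [key]
  infer_instance

theorem isIso_pullback_specHom {R : Type u} [CommRing R] {B₁ B₂ : Type u} [CommRing B₁] [CommRing B₂]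
    [Bialgebra R B₁] [Bialgebra R B₂] (φ : B₁ →ₐc[R] B₂) (L : Type u) [CommRing L] [Algebra R L]
    (hφ : Function.Bijective (Algebra.TensorProduct.map (φ : B₁ →ₐ[R] B₂) (AlgHom.id R L))) :
    IsIso ((Over.pullback (Spec.map (CommRingCat.ofHom (algebraMap R L)))).map (specHom φ)) := by
  suffices hl : IsIso ((Over.pullback (Spec.map (CommRingCat.ofHom (algebraMap R L)))).map (specHom φ)).left by
    haveI : IsIso ((Over.forget _).map
      ((Over.pullback (Spec.map (CommRingCat.ofHom (algebraMap R L)))).map (specHom φ))) := hl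
    exact isIso_of_reflects_iso _ (Over.forget _)
  refine isIso_lift_spec (φ : B₁ →ₐ[R] B₂) L hφ _ ?_ ?_
  · exact pullback_map_left_fst _ _
  · exact pullback_map_left_snd _ _

theorem isUnit_generic {R : Type u} [CommRing R] [IsDomain R] {X : Scheme.{u}} [IsIntegral X]
    (f : X ⟶ Spec (CommRingCat.of R)) [Surjective f] {lam : R} (hlam : lam ≠ 0)
    (ψ : CommRingCat.of R ⟶ X.presheaf.stalk (genericPoint X))
    (hψ : Spec.map ψ = X.fromSpecStalk (genericPoint X) ≫ f) : IsUnit (ψ.hom lam) := by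
  rw [← IsLocalRing.notMem_maximalIdeal]
  intro hmem
  -- the image of the generic point is the zero ideal
  have h0 : (f (genericPoint X)).asIdeal = ⊥ := by
    obtain ⟨x, hx⟩ := f.surjective (⟨⊥, Ideal.isPrime_bot⟩ : PrimeSpectrum R)
    have hs : f (genericPoint X) ⤳ f x := (genericPoint_specializes x).map f.continuous
    have hle := (PrimeSpectrum.le_iff_specializes (R := R) (f (genericPoint X)) (f x)).mpr hs
    rw [hx] at hle
    exact le_bot_iff.mp hle
  have h1 : (Spec.map ψ) (IsLocalRing.closedPoint (X.presheaf.stalk (genericPoint X))) = f (genericPoint X) := by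
    rw [hψ, Scheme.Hom.comp_apply, Scheme.fromSpecStalk_closedPoint]
  have h2 : lam ∈ ((Spec.map ψ) (IsLocalRing.closedPoint (X.presheaf.stalk (genericPoint X)))).asIdeal := hmem
  rw [h1, h0] at h2
  exact hlam h2

end Groth.Agent.Lib.SekSuwaH4
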