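import Groth.Agent.Lib.SekSuwaB_helper4

set_option autoImplicit false
set_option linter.unusedSectionVars false
set_option linter.style.haveILetI false
universe u
open CategoryTheory AlgebraicGeometry Limits
open SekSuwa
open scoped TensorProduct

namespace Groth.Agent.Lib.SekSuwaH4

theorem isFinite_GK (R : Type u) [CommRing R] (N : ℕ) (hN : 0 < N) (lam : R) (h : SekSuwa.DivCond lam N) :
    IsFinite (SekSuwa.GK R lam N h).hom := by
  haveI := finite_AK h hN
  change IsFinite (Spec.map (CommRingCat.ofHom (algebraMap R (AK R lam N h))))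
  rw [IsFinite.SpecMap_iff]
  exact RingHom.finite_algebraMap.mpr inferInstance

theorem isIso_generic (R : Type u) [CommRing R] [IsDomain R]
    (N : ℕ) [NeZero N] (lam : R) (h : SekSuwa.DivCond lam N)
    (X : Scheme.{u}) [IsIntegral X] (f : X ⟶ Spec (CommRingCat.of R)) [Surjective f] :
    IsIso ((Over.pullback (X.fromSpecStalk (genericPoint X))).map
      ((Over.pullback f).map (SekSuwa.alphaN R lam N h))) := by
  obtain ⟨ψ, hψ⟩ : ∃ ψ : CommRingCat.of R ⟶ X.presheaf.stalk (genericPoint X),
      Spec.map ψ = X.fromSpecStalk (genericPoint X) ≫ f := ⟨Spec.preimage _, Spec.map_preimage _⟩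
  have hu := isUnit_generic f (nonZeroDivisors.ne_zero h.nzd) ψ hψ
  letI : Algebra R (X.presheaf.stalk (genericPoint X)) := ψ.hom.toAlgebra
  have hb := bijective_Psi (L := X.presheaf.stalk (genericPoint X)) h hu
  have h1 := isIso_pullback_specHom (alphaNHom R lam N h) (X.presheaf.stalk (genericPoint X)) hb
  have h2 : IsIso ((Over.pullback (X.fromSpecStalk (genericPoint X) ≫ f)).map (SekSuwa.alphaN R lam N h)) := by
    rw [← hψ]
    exact h1
  exact (NatIso.isIso_map_iff (Over.pullbackComp (X.fromSpecStalk (genericPoint X)) f)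
    (SekSuwa.alphaN R lam N h)).mp h2

theorem main14688 (R : Type u) [CommRing R] [IsDomain R]
    (N : ℕ) (hN : 0 < N) (lam : R) (h : SekSuwa.DivCond lam N)
    (X : Scheme.{u}) [IsIntegral X] (hX : Pi1.IsNormalScheme X)
    (f : X ⟶ Spec (CommRingCat.of R)) [Surjective f]
    (P : Over X) (a : AlgGrp.Action (Red.bc f (SekSuwa.GK R lam N h)) P)
    (hP : NonAbH1.IsTorsorFor Scheme.fppfPrecoverage a)
    (P' : Over X) (a' : AlgGrp.Action (Red.bc f (Red.diag R (ZMod N))) P')
    (hP' : NonAbH1.IsTorsorFor Scheme.fppfPrecoverage a')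
    (hpush : NonAbH1.IsPushforwardAlongSch ((Over.pullback f).map (SekSuwa.alphaN R lam N h)) a a')
    (htriv : NonAbH1.HasSectionOver P' (𝟙 X)) :
    NonAbH1.HasSectionOver P (𝟙 X) := by
  haveI : NeZero N := ⟨by omega⟩
  haveI := isFinite_GK R N hN lam h
  haveI : IsFinite (Red.bc f (SekSuwa.GK R lam N h)).hom := by
    change IsFinite (pullback.snd (SekSuwa.GK R lam N h).hom f)
    infer_instance
  exact Groth.Agent.Lib.EtNormH4.main14695 hX _ _ ((Over.pullback f).map (SekSuwa.alphaN R lam N h))
    (isIso_generic R N lam h X f) P a hP P' a' hP' hpush htriv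

end Groth.Agent.Lib.SekSuwaH4
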