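import Mathlib
import Groth.Prelude

set_option autoImplicit false
set_option linter.style.haveILetI false
set_option linter.unusedVariables false

universe u

open CategoryTheory AlgebraicGeometry TopologicalSpace Opposite

namespace Groth.Agent.Lib.SekSuwaFinH4

open Polynomial SekSuwa

section Poly

variable {R : Type u} [CommRing R] {lam : R} {N : ℕ}

theorem natDegree_base_le : (1 + C lam * X : R[X]).natDegree ≤ 1 := by
  refine (Polynomial.natDegree_add_le _ _).trans ?_
  refine max_le ?_ ?_
  · rw [Polynomial.natDegree_one]; exact Nat.zero_le _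
  · exact (Polynomial.natDegree_C_mul_le _ _).trans (Polynomial.natDegree_X_le)

theorem coeff_base_one : (1 + C lam * X : R[X]).coeff 1 = lam := by
  rw [Polynomial.coeff_add, Polynomial.coeff_one, Polynomial.coeff_C_mul, Polynomial.coeff_X_one]
  simp

theorem natDegree_rhs_le : ((1 + C lam * X : R[X]) ^ N - 1).natDegree ≤ N := by
  refine (Polynomial.natDegree_sub_le _ _).trans ?_
  refine max_le ?_ ?_
  · refine (Polynomial.natDegree_pow_le).trans ?_
    calc N * (1 + C lam * X : R[X]).natDegree ≤ N * 1 := Nat.mul_le_mul_left _ natDegree_base_le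
      _ = N := Nat.mul_one N
  · rw [Polynomial.natDegree_one]; exact Nat.zero_le _

theorem coeff_rhs_top (hN : 0 < N) : ((1 + C lam * X : R[X]) ^ N - 1).coeff N = lam ^ N := by
  rw [Polynomial.coeff_sub, Polynomial.coeff_one, if_neg (Nat.pos_iff_ne_zero.1 hN).symm.symm,
    sub_zero]
  have h := Polynomial.coeff_pow_of_natDegree_le (m := N) (natDegree_base_le (R := R) (lam := lam))
  rw [Nat.mul_one, coeff_base_one] at h
  exact h

theorem coeff_psi (h : DivCond lam N) (k : ℕ) :
    lam ^ N * (psiPoly lam N h).coeff k = ((1 + C lam * X : R[X]) ^ N - 1).coeff k := by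
  rw [← psiPoly_spec h, Polynomial.coeff_C_mul]

theorem psi_coeff_top (hN : 0 < N) (h : DivCond lam N) : (psiPoly lam N h).coeff N = 1 := by
  have h1 := coeff_psi h N
  rw [coeff_rhs_top hN] at h1
  exact SekSuwa.cancel_nzd h.pow_nzd (h1.trans (mul_one _).symm)

theorem psi_natDegree_le (h : DivCond lam N) : (psiPoly lam N h).natDegree ≤ N := by
  refine Polynomial.natDegree_le_iff_coeff_eq_zero.2 (fun k hk => ?_)
  have h1 := coeff_psi h k
  rw [Polynomial.coeff_eq_zero_of_natDegree_lt (lt_of_le_of_lt natDegree_rhs_le hk)] at h1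
  exact SekSuwa.cancel_nzd h.pow_nzd (h1.trans (mul_zero _).symm)

theorem psi_monic (hN : 0 < N) (h : DivCond lam N) : (psiPoly lam N h).Monic :=
  Polynomial.monic_of_natDegree_le_of_coeff_eq_one N (psi_natDegree_le h) (psi_coeff_top hN h)

theorem psi_natDegree [Nontrivial R] (hN : 0 < N) (h : DivCond lam N) :
    (psiPoly lam N h).natDegree = N :=
  Polynomial.natDegree_eq_of_le_of_coeff_ne_zero (psi_natDegree_le h)
    (by rw [psi_coeff_top hN h]; exact one_ne_zero)

end Poly

section Iso

variable (R : Type u) [CommRing R] (lam : R) (N : ℕ) (hN : 0 < N) (h : DivCond lam N)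

/-- `(1 + λ root)^N = 1` in `R[T]/(P)`. -/
theorem root_pow : (1 + lam • AdjoinRoot.root (psiPoly lam N h)) ^ N = 1 := by
  have e := aeval_psiPoly h (AdjoinRoot.root (psiPoly lam N h))
  rw [AdjoinRoot.aeval_eq, AdjoinRoot.mk_self, mul_zero] at e
  rw [Algebra.smul_def]
  exact (sub_eq_zero.1 e.symm)

include hN in
theorem root_rel : (1 + lam • AdjoinRoot.root (psiPoly lam N h)) *
    (1 + lam • AdjoinRoot.root (psiPoly lam N h)) ^ (N - 1) = 1 := by
  rw [← pow_succ', Nat.sub_add_cancel hN]
  exact root_pow R lam N h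

/-- `A → R[T]/(P)` -/
noncomputable def toB0 : A R lam →ₐ[R] AdjoinRoot (psiPoly lam N h) :=
  A.lift R lam (AdjoinRoot.root (psiPoly lam N h))
    ((1 + lam • AdjoinRoot.root (psiPoly lam N h)) ^ (N - 1)) (root_rel R lam N hN h)

theorem toB0_t : toB0 R lam N hN h A.t = AdjoinRoot.root (psiPoly lam N h) :=
  A.lift_t _ _ (root_rel R lam N hN h)

theorem toB0_inv : toB0 R lam N hN h A.inv =
    (1 + lam • AdjoinRoot.root (psiPoly lam N h)) ^ (N - 1) :=
  A.lift_inv _ _ (root_rel R lam N hN h)

theorem toB0_kerGen : toB0 R lam N hN h (kerGen lam N h) = 0 := by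
  unfold kerGen
  rw [← Polynomial.aeval_algHom_apply, toB0_t, AdjoinRoot.aeval_eq, AdjoinRoot.mk_self]

/-- `AK → R[T]/(P)` -/
noncomputable def toB : AK R lam N h →ₐ[R] AdjoinRoot (psiPoly lam N h) :=
  Ideal.Quotient.liftₐ (kerIdeal lam N h) (toB0 R lam N hN h) (by
    intro a ha
    obtain ⟨d, rfl⟩ := Ideal.mem_span_singleton'.mp ha
    rw [map_mul, toB0_kerGen, mul_zero])

theorem toB_t : toB R lam N hN h AK.t = AdjoinRoot.root (psiPoly lam N h) :=
  toB0_t R lam N hN h

theorem toB_inv : toB R lam N hN h AK.inv =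
    (1 + lam • AdjoinRoot.root (psiPoly lam N h)) ^ (N - 1) :=
  toB0_inv R lam N hN h

/-- `R[T]/(P) → AK` -/
noncomputable def fromB : AdjoinRoot (psiPoly lam N h) →ₐ[R] AK R lam N h :=
  AdjoinRoot.liftAlgHom (psiPoly lam N h) (Algebra.ofId R (AK R lam N h)) AK.t (by
    have := AK.aeval_t (R := R) (lam := lam) (N := N) (h := h)
    rw [Polynomial.aeval_def] at this
    exact this)

theorem fromB_root : fromB R lam N h (AdjoinRoot.root (psiPoly lam N h)) = AK.t :=
  AdjoinRoot.liftAlgHom_root _ _ _ _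

include hN in
theorem AK_inv_eq : (AK.inv : AK R lam N h) = (1 + lam • AK.t) ^ (N - 1) := by
  have h1 : (1 + lam • (AK.t : AK R lam N h)) * AK.inv = 1 := by
    have e := congrArg (AK.mkHom R lam N h) (A.u_mul_inv (R := R) (lam := lam))
    rw [map_mul, map_one, AK.mkHom_u] at e
    exact e
  have h2 := AK.u_pow (R := R) (lam := lam) (N := N) (h := h)
  calc (AK.inv : AK R lam N h) = AK.inv * (1 + lam • AK.t) ^ N := by rw [h2, mul_one]
    _ = AK.inv * ((1 + lam • AK.t) * (1 + lam • AK.t) ^ (N - 1)) := by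
        rw [← pow_succ', Nat.sub_add_cancel hN]
    _ = ((1 + lam • AK.t) * AK.inv) * (1 + lam • AK.t) ^ (N - 1) := by ring
    _ = (1 + lam • AK.t) ^ (N - 1) := by rw [h1, one_mul]

/-- the isomorphism -/
noncomputable def equiv : AK R lam N h ≃ₐ[R] AdjoinRoot (psiPoly lam N h) :=
  AlgEquiv.ofAlgHom (toB R lam N hN h) (fromB R lam N h)
    (by
      refine AdjoinRoot.algHom_ext ?_
      show toB R lam N hN h (fromB R lam N h (AdjoinRoot.root _)) = AdjoinRoot.root _
      rw [fromB_root, toB_t])
    (by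
      refine AK.algHom_ext ?_ ?_
      · show fromB R lam N h (toB R lam N hN h AK.t) = AK.t
        rw [toB_t, fromB_root]
      · show fromB R lam N h (toB R lam N hN h AK.inv) = AK.inv
        rw [toB_inv, map_pow, map_add, map_one, map_smul, fromB_root]
        exact (AK_inv_eq R lam N hN h).symm)

include hN in
theorem free : Module.Free R (AK R lam N h) :=
  haveI := (psi_monic hN h).free_adjoinRoot
  Module.Free.of_equiv (equiv R lam N hN h).symm.toLinearEquiv

include hN in
theorem finite : Module.Finite R (AK R lam N h) :=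
  haveI := (psi_monic hN h).finite_adjoinRoot
  Module.Finite.equiv (equiv R lam N hN h).symm.toLinearEquiv

include hN in
theorem finPres : Algebra.FinitePresentation R (AK R lam N h) :=
  Algebra.FinitePresentation.equiv (equiv R lam N hN h).symm

include hN in
theorem finrank_eq [Nontrivial R] : Module.finrank R (AK R lam N h) = N := by
  rw [(equiv R lam N hN h).toLinearEquiv.finrank_eq,
    (AdjoinRoot.powerBasis' (psi_monic hN h)).finrank, AdjoinRoot.powerBasis'_dim,
    psi_natDegree hN h]

end Iso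

theorem main (R : Type u) [CommRing R] (lam : R) (N : ℕ) (hN : 0 < N) (h : SekSuwa.DivCond lam N) :
    Mor2.IsFinLocFreeOfDeg N (SekSuwa.GK R lam N h).hom := by
  have hf : (SekSuwa.GK R lam N h).hom =
      Spec.map (CommRingCat.ofHom (algebraMap R (AK R lam N h))) := rfl
  haveI := free R lam N hN h
  haveI := finite R lam N hN h
  haveI := finPres R lam N hN h
  show Mor2.IsFinLocFreeOfDeg N (Spec.map (CommRingCat.ofHom (algebraMap R (AK R lam N h))))
  refine ⟨⟨?_, ?_, ?_⟩, ?_⟩
  · exact (IsFinite.SpecMap_iff _).2 (RingHom.finite_algebraMap.2 inferInstance)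
  · exact Flat.SpecMap_iff.2 (RingHom.flat_algebraMap_iff.2 inferInstance)
  · exact (LocallyOfFinitePresentation.SpecMap_iff _).2
      (RingHom.finitePresentation_algebraMap.2 inferInstance)
  · intro y
    haveI : Nontrivial R := PrimeSpectrum.nonempty_iff_nontrivial.1 ⟨y⟩
    rw [Scheme.Hom.finrank_SpecMap_algebraMap R (AK R lam N h) y,
      Module.rankAtStalk_eq_finrank_of_free]
    exact finrank_eq R lam N hN h

end Groth.Agent.Lib.SekSuwaFinH4
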