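import Mathlib
import Groth.Prelude
import Groth.Agent.Lib.QCohLoc_helper4
set_option autoImplicit false
set_option linter.style.haveILetI false
set_option linter.unusedVariables false
universe u
open CategoryTheory AlgebraicGeometry TopologicalSpace Opposite
open Groth.Agent.Lib.QCohLoc_helper4

namespace Groth.Agent.Lib.TFInjH4

variable {X : Scheme.{u}}

theorem hom_nat {F G : X.Modules} (φ : F ⟶ G) {V W : X.Opens} (h : W ≤ V) (s : Γ(F, V)) :
    φ.app W (F.presheaf.map (homOfLE h).op s) = G.presheaf.map (homOfLE h).op (φ.app V s) := by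
  have := φ.mapPresheaf.naturality (homOfLE h).op
  exact congr($this s)

theorem ring_eq_zero_of_cover {V : X.Opens} (a : Γ(X, V))
    (h : ∀ x ∈ V, ∃ (W : X.Opens) (hW : W ≤ V), x ∈ W ∧
      (X.presheaf.map (homOfLE hW).op).hom a = 0) : a = 0 := by
  choose W hW hxW h0 using h
  refine TopCat.Sheaf.eq_of_locally_eq' X.sheaf (fun x : V => W x.1 x.2) V
    (fun x => homOfLE (hW x.1 x.2)) ?_ a 0 ?_
  · intro x hx
    exact Opens.mem_iSup.mpr ⟨⟨x, hx⟩, hxW x hx⟩
  · intro x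
    have := h0 x.1 x.2
    rw [map_zero]
    exact this

theorem affine_case [IsLocallyNoetherian X] (F G : X.Modules) [F.IsQuasicoherent]
    (htf : ∀ (V : X.affineOpens) (g : Γ(X, V.1)) (s : Γ(F, V.1)),
      g ∈ nonZeroDivisors Γ(X, V.1) → g • s = 0 → s = 0)
    (φ : F ⟶ G) (U : X.Opens) (hU : CInt.IsSchematicallyDense U)
    (hφU : ∀ V : X.Opens, V ≤ U → ∀ s : Γ(F, V), φ.app V s = 0 → s = 0)
    (W : X.Opens) (hW : IsAffineOpen W) (s : Γ(F, W)) (hs : φ.app W s = 0) : s = 0 := by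
  haveI : IsNoetherianRing Γ(X, W) := IsLocallyNoetherian.component_noetherian ⟨W, hW⟩
  have h1 : F.presheaf.map (homOfLE (inf_le_left : W ⊓ U ≤ W)).op s = 0 := by
    apply hφU (W ⊓ U) inf_le_right
    rw [hom_nat φ inf_le_left s, hs, map_zero]
  have h2 : ∀ f : Γ(X, W), X.basicOpen f ≤ W ⊓ U → ∃ n : ℕ, f ^ n • s = 0 := by
    intro f hf
    apply exists_pow_smul_eq_zero F hW f s
    have := congrArg (F.presheaf.map (homOfLE hf).op) h1
    rw [map_zero] at this
    exact (map_map_eq F _ _ _ s).symm.trans this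
  let I : Ideal Γ(X, W) := LinearMap.ker (LinearMap.toSpanSingleton Γ(X, W) Γ(F, W) s)
  have hI : ∀ a : Γ(X, W), a ∈ I ↔ a • s = 0 := by
    intro a
    show LinearMap.toSpanSingleton Γ(X, W) Γ(F, W) s a = 0 ↔ _
    rw [LinearMap.toSpanSingleton_apply]
  have h3 : ¬ Disjoint (I : Set Γ(X, W)) (nonZeroDivisors Γ(X, W) : Set Γ(X, W)) := by
    intro hdis
    obtain ⟨a, haAnn, ha0⟩ :=
      SetLike.exists_of_lt (Ideal.bot_lt_annihilator_of_disjoint_nonZeroDivisors hdis)
    apply ha0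
    rw [Submodule.mem_bot]
    apply hU W
    rw [map_zero]
    refine ring_eq_zero_of_cover _ (fun x hx => ?_)
    obtain ⟨f, hfV, hxf⟩ := hW.exists_basicOpen_le (V := W ⊓ U) ⟨x, hx⟩ hx.1
    obtain ⟨n, hn⟩ := h2 f hfV
    have hfn : f ^ n ∈ I := (hI _).mpr hn
    have h4 : a * f ^ n = 0 := by
      have := Module.mem_annihilator.mp haAnn ⟨f ^ n, hfn⟩
      have h5 := congrArg Subtype.val this
      exact h5
    refine ⟨X.basicOpen f, hfV, hxf, ?_⟩
    have hu : IsUnit ((X.presheaf.map (homOfLE (X.basicOpen_le f)).op).hom f) :=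
      X.toRingedSpace.isUnit_res_basicOpen f
    have h6 : (X.presheaf.map (homOfLE (X.basicOpen_le f)).op).hom f ^ n *
        (X.presheaf.map (homOfLE (X.basicOpen_le f)).op).hom a = 0 := by
      rw [← map_pow, ← map_mul, mul_comm, h4, map_zero]
    have h7 := (hu.pow n).mul_right_eq_zero.mp h6
    exact (ring_map_map_eq _ _ _ a).trans h7
  obtain ⟨g, hgI, hgN⟩ := Set.not_disjoint_iff.mp h3
  exact htf ⟨W, hW⟩ g s hgN ((hI g).mp hgI)

theorem general [IsLocallyNoetherian X] (F G : X.Modules) [F.IsQuasicoherent]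
    (htf : ∀ (V : X.affineOpens) (g : Γ(X, V.1)) (s : Γ(F, V.1)),
      g ∈ nonZeroDivisors Γ(X, V.1) → g • s = 0 → s = 0)
    (φ : F ⟶ G) (U : X.Opens) (hU : CInt.IsSchematicallyDense U)
    (hφU : ∀ V : X.Opens, V ≤ U → ∀ s : Γ(F, V), φ.app V s = 0 → s = 0)
    (V : X.Opens) (s : Γ(F, V)) (hs : φ.app V s = 0) : s = 0 := by
  refine TopCat.Sheaf.eq_of_locally_eq' ⟨F.presheaf, F.isSheaf⟩
    (fun W : {W : X.affineOpens // W.1 ≤ V} => W.1.1) V (fun W => homOfLE W.2) ?_ s 0 ?_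
  · intro x hx
    obtain ⟨_, ⟨W, hW, rfl⟩, hxW, hWV⟩ :=
      X.isBasis_affineOpens.exists_subset_of_mem_open hx V.2
    exact Opens.mem_iSup.mpr ⟨⟨⟨W, hW⟩, hWV⟩, hxW⟩
  · intro W
    rw [map_zero]
    apply affine_case F G htf φ U hU hφU W.1.1 W.1.2
    rw [hom_nat φ W.2 s, hs, map_zero]

theorem main (X : Scheme.{u})
    [IsLocallyNoetherian X] (F G : X.Modules) (hF : Coh.IsQCoh F)
    (htf : ∀ V : X.affineOpens, Submodule.torsion Γ(X, V.1) (F.val.obj (Opposite.op V.1)) = ⊥)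
    (φ : F ⟶ G) (U : X.Opens) (hU : CInt.IsSchematicallyDense U)
    (hφU : ∀ V : X.Opens, V ≤ U →
      Function.Injective ⇑(ConcreteCategory.hom (φ.val.app (Opposite.op V)))) (V : X.Opens) :
    Function.Injective ⇑(ConcreteCategory.hom (φ.val.app (Opposite.op V))) := by
  haveI : F.IsQuasicoherent := hF
  rw [injective_iff_map_eq_zero]
  intro s hs
  refine general F G ?_ φ U hU ?_ V s hs
  · intro W g t hg hgt
    have h1 : t ∈ Submodule.torsion Γ(X, W.1) (F.val.obj (Opposite.op W.1)) :=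
      (Submodule.mem_torsion_iff t).mpr ⟨⟨g, hg⟩, hgt⟩
    rw [htf W] at h1
    exact (Submodule.mem_bot _).mp h1
  · intro V' hV' t ht
    exact (injective_iff_map_eq_zero _).mp (hφU V' hV') t ht

end Groth.Agent.Lib.TFInjH4
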