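import Mathlib
import Groth.Prelude
import Groth.Agent.Lib.TFInj_helper4

set_option autoImplicit false
set_option linter.style.haveILetI false
set_option linter.unusedVariables false

universe u

open CategoryTheory AlgebraicGeometry TopologicalSpace Opposite

namespace Groth.Agent.Lib.SekSuwaInjH4

open SekSuwa

section Flat

variable {R : Type u} [CommRing R] {X : Scheme.{u}} (π : X ⟶ Spec (CommRingCat.of R))

/-- structure map on global sections -/
noncomputable def rho : CommRingCat.of R ⟶ Γ(X, ⊤) :=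
  (Scheme.ΓSpecIso (CommRingCat.of R)).inv ≫ π.appTop

theorem nzd_of_flat [Flat π] {r : R} (hr : r ∈ nonZeroDivisors R) (s : Γ(X, ⊤))
    (hs : (rho π).hom r * s = 0) : s = 0 := by
  refine Groth.Agent.Lib.TFInjH4.ring_eq_zero_of_cover s (fun x _ => ?_)
  obtain ⟨_, ⟨W, hW, rfl⟩, hxW, -⟩ :=
    X.isBasis_affineOpens.exists_subset_of_mem_open (Set.mem_univ x) isOpen_univ
  refine ⟨W, le_top, hxW, ?_⟩
  have e : W ≤ π ⁻¹ᵁ ⊤ := fun _ _ => trivial
  let ρW : R →+* Γ(X, W) :=
    (π.appLE ⊤ W e).hom.comp (Scheme.ΓSpecIso (CommRingCat.of R)).inv.hom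
  have hflat : ρW.Flat :=
    RingHom.Flat.comp (RingHom.Flat.of_bijective
      (ConcreteCategory.bijective_of_isIso (Scheme.ΓSpecIso (CommRingCat.of R)).inv))
      (π.flat_appLE (isAffineOpen_top _) hW e)
  have hcomp : ∀ a : R, ρW a =
      (X.presheaf.map (homOfLE (le_top : W ≤ ⊤)).op).hom ((rho π).hom a) := fun a => rfl
  letI := ρW.toAlgebra
  have hM : Module.Flat R Γ(X, W) := hflat
  have hreg : IsSMulRegular Γ(X, W) r := Module.Flat.isSMulRegular_of_nonZeroDivisors hr
  refine hreg ?_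
  show r • (X.presheaf.map (homOfLE (le_top : W ≤ ⊤)).op).hom s = r • (0 : Γ(X, W))
  rw [smul_zero, Algebra.smul_def, RingHom.algebraMap_toAlgebra, hcomp, ← map_mul, hs, map_zero]

theorem key_nat {B C : CommRingCat.{u}} (γ : B ⟶ C) {Y : Scheme.{u}} (k : Y ⟶ Spec C) :
    γ ≫ ((Scheme.ΓSpecIso C).inv ≫ k.appTop) =
      (Scheme.ΓSpecIso B).inv ≫ (k ≫ Spec.map γ).appTop := by
  calc γ ≫ ((Scheme.ΓSpecIso C).inv ≫ k.appTop)
      = (γ ≫ (Scheme.ΓSpecIso C).inv) ≫ k.appTop := (Category.assoc _ _ _).symm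
    _ = ((Scheme.ΓSpecIso B).inv ≫ (Spec.map γ).appTop) ≫ k.appTop := by
        rw [Scheme.ΓSpecIso_inv_naturality]
    _ = (Scheme.ΓSpecIso B).inv ≫ ((Spec.map γ).appTop ≫ k.appTop) := Category.assoc _ _ _
    _ = (Scheme.ΓSpecIso B).inv ≫ (k ≫ Spec.map γ).appTop := rfl

end Flat

theorem u_mul_inv (R : Type u) [CommRing R] (lam : R) (N : ℕ) (h : DivCond lam N) :
    (1 + lam • (AK.t : AK R lam N h)) * AK.inv = 1 := by
  have e := congrArg (AK.mkHom R lam N h) (A.u_mul_inv (R := R) (lam := lam))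
  rw [map_mul, map_one, AK.mkHom_u] at e
  exact e

theorem main (R : Type u) [CommRing R] [IsDomain R]
    (p : ℕ) [Fact p.Prime] (lam : R) (h : SekSuwa.DivCond lam p)
    (G : Over (Spec (CommRingCat.of R))) [Flat G.hom]
    (f g : G ⟶ SekSuwa.GK R lam p h)
    (hfg : f ≫ SekSuwa.alphaN R lam p h = g ≫ SekSuwa.alphaN R lam p h) : f = g := by
  have fl : G.left ⟶ Spec (CommRingCat.of (AK R lam p h)) := f.left
  let af : CommRingCat.of (AK R lam p h) ⟶ Γ(G.left, ⊤) :=
    (Scheme.ΓSpecIso (CommRingCat.of (AK R lam p h))).inv ≫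
      (f.left : G.left ⟶ Spec (CommRingCat.of (AK R lam p h))).appTop
  let ag : CommRingCat.of (AK R lam p h) ⟶ Γ(G.left, ⊤) :=
    (Scheme.ΓSpecIso (CommRingCat.of (AK R lam p h))).inv ≫
      (g.left : G.left ⟶ Spec (CommRingCat.of (AK R lam p h))).appTop
  suffices hkey : af = ag by
    refine Over.OverMorphism.ext ?_
    refine ext_of_isAffine (Y := Spec (CommRingCat.of (AK R lam p h))) ?_
    exact (cancel_epi (Scheme.ΓSpecIso (CommRingCat.of (AK R lam p h))).inv).1 hkey
  -- compatibility with the structure maps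
  have hβ : ∀ k : G ⟶ SekSuwa.GK R lam p h,
      CommRingCat.ofHom (algebraMap R (AK R lam p h)) ≫
        ((Scheme.ΓSpecIso (CommRingCat.of (AK R lam p h))).inv ≫
          (k.left : G.left ⟶ Spec (CommRingCat.of (AK R lam p h))).appTop) = rho G.hom := by
    intro k
    have hw : (k.left : G.left ⟶ Spec (CommRingCat.of (AK R lam p h))) ≫
        Spec.map (CommRingCat.ofHom (algebraMap R (AK R lam p h))) = G.hom := Over.w k
    refine (key_nat (CommRingCat.ofHom (algebraMap R (AK R lam p h)))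
      (k.left : G.left ⟶ Spec (CommRingCat.of (AK R lam p h)))).trans ?_
    exact congrArg (fun m => (Scheme.ΓSpecIso (CommRingCat.of R)).inv ≫ Scheme.Hom.appTop m) hw
  -- the hypothesis on ring maps
  have hfg' : (f.left : G.left ⟶ Spec (CommRingCat.of (AK R lam p h))) ≫
      Spec.map (CommRingCat.ofHom
        (alphaNHom R lam p h : MonoidAlgebra R (Multiplicative (ZMod p)) →+* AK R lam p h)) =
      (g.left : G.left ⟶ Spec (CommRingCat.of (AK R lam p h))) ≫
      Spec.map (CommRingCat.ofHom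
        (alphaNHom R lam p h : MonoidAlgebra R (Multiplicative (ZMod p)) →+* AK R lam p h)) :=
    congrArg (fun k => k.left) hfg
  have hα : CommRingCat.ofHom
      (alphaNHom R lam p h : MonoidAlgebra R (Multiplicative (ZMod p)) →+* AK R lam p h) ≫ af =
      CommRingCat.ofHom
      (alphaNHom R lam p h : MonoidAlgebra R (Multiplicative (ZMod p)) →+* AK R lam p h) ≫ ag := by
    exact ((key_nat (CommRingCat.ofHom
      (alphaNHom R lam p h : MonoidAlgebra R (Multiplicative (ZMod p)) →+* AK R lam p h))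
      (f.left : G.left ⟶ Spec (CommRingCat.of (AK R lam p h)))).trans
      (congrArg (fun m => (Scheme.ΓSpecIso (CommRingCat.of
        (MonoidAlgebra R (Multiplicative (ZMod p))))).inv ≫ Scheme.Hom.appTop m) hfg')).trans
      (key_nat (CommRingCat.ofHom
      (alphaNHom R lam p h : MonoidAlgebra R (Multiplicative (ZMod p)) →+* AK R lam p h))
      (g.left : G.left ⟶ Spec (CommRingCat.of (AK R lam p h)))).symm
  have hu : af.hom (1 + lam • AK.t) = ag.hom (1 + lam • AK.t) := by
    have h0 : af.hom (alphaNHom R lam p h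
        (MonoidAlgebra.single (Multiplicative.ofAdd (1 : ZMod p)) 1)) =
        ag.hom (alphaNHom R lam p h
        (MonoidAlgebra.single (Multiplicative.ofAdd (1 : ZMod p)) 1)) :=
      congr($hα (MonoidAlgebra.single (Multiplicative.ofAdd (1 : ZMod p)) 1))
    rw [alphaNHom_single_one] at h0
    exact h0
  letI : Algebra R Γ(G.left, ⊤) := (rho G.hom).hom.toAlgebra
  let Af : AK R lam p h →ₐ[R] Γ(G.left, ⊤) :=
    { af.hom with commutes' := fun r => congr($(hβ f) r) }
  let Ag : AK R lam p h →ₐ[R] Γ(G.left, ⊤) :=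
    { ag.hom with commutes' := fun r => congr($(hβ g) r) }
  have h1 : Af (1 + lam • AK.t) = Ag (1 + lam • AK.t) := hu
  have hAB : Af = Ag := by
    refine AK.algHom_ext ?_ ?_
    · have h1' := h1
      rw [map_add, map_add, map_one, map_one, map_smul, map_smul] at h1'
      have h2 : lam • (Af AK.t - Ag AK.t) = 0 := by
        rw [smul_sub, sub_eq_zero]; exact add_left_cancel h1'
      have h3 : (rho G.hom).hom lam * (Af AK.t - Ag AK.t) = 0 := by
        rw [← h2, Algebra.smul_def]; rfl
      exact sub_eq_zero.1 (nzd_of_flat G.hom h.nzd _ h3)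
    · have e1 : Af (1 + lam • AK.t) * Af AK.inv = 1 := by
        rw [← map_mul, u_mul_inv, map_one]
      have e2 : Ag (1 + lam • AK.t) * Ag AK.inv = 1 := by
        rw [← map_mul, u_mul_inv, map_one]
      calc Af AK.inv = Af AK.inv * (Ag (1 + lam • AK.t) * Ag AK.inv) := by rw [e2, mul_one]
        _ = (Af (1 + lam • AK.t) * Af AK.inv) * Ag AK.inv := by rw [h1]; ring
        _ = Ag AK.inv := by rw [e1, one_mul]
  exact CommRingCat.hom_ext (RingHom.ext fun x => congr($hAB x))

end Groth.Agent.Lib.SekSuwaInjH4
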