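import Mathlib
import Groth.Prelude

set_option autoImplicit false
set_option linter.style.haveILetI false
set_option linter.unusedVariables false

universe u

open CategoryTheory AlgebraicGeometry TopologicalSpace Opposite

namespace Groth.Agent.Lib.SekSuwaKerH4

open SekSuwa Limits MonObj CartesianMonoidalCategory

section

variable (R : Type u) [CommRing R] (lam : R) (N : ℕ) (h : DivCond lam N)

noncomputable def fR : CommRingCat.of (A R (lam ^ N)) ⟶ CommRingCat.of (A R lam) :=
  CommRingCat.ofHom (psiHom R lam N h : A R (lam ^ N) →+* A R lam)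

noncomputable def gR : CommRingCat.of (A R (lam ^ N)) ⟶ CommRingCat.of R :=
  CommRingCat.ofHom ((Bialgebra.counitAlgHom R (A R (lam ^ N)) : A R (lam ^ N) →ₐ[R] R) :
    A R (lam ^ N) →+* R)

noncomputable def inlR : CommRingCat.of (A R lam) ⟶ CommRingCat.of (AK R lam N h) :=
  CommRingCat.ofHom (AK.mkHom R lam N h : A R lam →+* AK R lam N h)

noncomputable def inrR : CommRingCat.of R ⟶ CommRingCat.of (AK R lam N h) :=
  CommRingCat.ofHom (algebraMap R (AK R lam N h))

theorem sq_comm : fR R lam N h ≫ inlR R lam N h = gR R lam N ≫ inrR R lam N h := by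
  refine CommRingCat.hom_ext (RingHom.ext fun x => ?_)
  exact congr($(mkHom_comp_psiHom R lam N h) x)

variable {R lam N h}

theorem inl_kerGen (s : PushoutCocone (fR R lam N h) (gR R lam N)) :
    s.inl.hom (kerGen lam N h) = 0 := by
  have e : s.inl.hom (psiHom R lam N h A.t) =
      s.inr.hom (CoalgebraStruct.counit (R := R) (A.t : A R (lam ^ N))) :=
    congr($(s.condition) (A.t : A R (lam ^ N)))
  rw [psiHom_t, A.counit_t, map_zero] at e
  exact e

theorem inl_algebraMap (s : PushoutCocone (fR R lam N h) (gR R lam N)) (r : R) :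
    s.inl.hom (algebraMap R (A R lam) r) = s.inr.hom r := by
  have e : s.inl.hom (psiHom R lam N h (algebraMap R (A R (lam ^ N)) r)) =
      s.inr.hom (Bialgebra.counitAlgHom R (A R (lam ^ N)) (algebraMap R (A R (lam ^ N)) r)) :=
    congr($(s.condition) (algebraMap R (A R (lam ^ N)) r))
  rw [AlgHomClass.commutes (psiHom R lam N h) r,
    AlgHomClass.commutes (Bialgebra.counitAlgHom R (A R (lam ^ N))) r] at e
  exact e

theorem inl_mem (s : PushoutCocone (fR R lam N h) (gR R lam N)) :
    ∀ a ∈ kerIdeal lam N h, s.inl.hom a = 0 := by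
  intro a ha
  obtain ⟨d, rfl⟩ := Ideal.mem_span_singleton'.mp ha
  rw [map_mul, inl_kerGen, mul_zero]

/-- the induced map out of `AK` -/
noncomputable def desc (s : PushoutCocone (fR R lam N h) (gR R lam N)) :
    CommRingCat.of (AK R lam N h) ⟶ s.pt :=
  CommRingCat.ofHom (Ideal.Quotient.lift (kerIdeal lam N h) s.inl.hom (inl_mem s) :
    AK R lam N h →+* s.pt)

theorem desc_mk (s : PushoutCocone (fR R lam N h) (gR R lam N)) (x : A R lam) :
    (desc s).hom (AK.mkHom R lam N h x) = s.inl.hom x :=
  Ideal.Quotient.lift_mk _ _ _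

variable (R lam N h)

theorem ring_pushout :
    IsPushout (fR R lam N h) (gR R lam N) (inlR R lam N h) (inrR R lam N h) := by
  refine IsPushout.of_isColimit (PushoutCocone.IsColimit.mk (sq_comm R lam N h) desc ?_ ?_ ?_)
  · intro s
    refine CommRingCat.hom_ext (RingHom.ext fun x => ?_)
    exact desc_mk s x
  · intro s
    refine CommRingCat.hom_ext (RingHom.ext fun r => ?_)
    show (desc s).hom (algebraMap R (AK R lam N h) r) = s.inr.hom r
    have : algebraMap R (AK R lam N h) r = AK.mkHom R lam N h (algebraMap R (A R lam) r) :=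
      (AlgHomClass.commutes (AK.mkHom R lam N h) r).symm
    rw [this, desc_mk, inl_algebraMap]
  · intro s m hm _
    refine CommRingCat.hom_ext ?_
    refine Ideal.Quotient.ringHom_ext (RingHom.ext fun x => ?_)
    show m.hom (AK.mkHom R lam N h x) = (desc s).hom (AK.mkHom R lam N h x)
    rw [desc_mk]
    exact congr($hm x)

theorem scheme_pullback :
    IsPullback (Spec.map (inlR R lam N h)) (Spec.map (inrR R lam N h))
      (Spec.map (fR R lam N h)) (Spec.map (gR R lam N)) :=
  isPullback_SpecMap_of_isPushout _ _ _ _ (ring_pushout R lam N h)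

theorem toUnit_left : (toUnit (GK R lam N h)).left = Spec.map (inrR R lam N h) := by
  rw [← Category.comp_id (toUnit (GK R lam N h)).left]
  exact Over.w (toUnit (GK R lam N h))

theorem main : AlgGrp.IsKernel (SekSuwa.incl R lam N h) (SekSuwa.psi R lam N h) := by
  have e : incl R lam N h ≫ psi R lam N h =
      toUnit (GK R lam N h) ≫ η[G R (lam ^ N)] := by
    rw [incl_psi, Hom.one_def]
  refine IsPullback.of_map (Over.forget (Spec (CommRingCat.of R))) e ?_
  show IsPullback (incl R lam N h).left (toUnit (GK R lam N h)).left (psi R lam N h).left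
    (η[G R (lam ^ N)]).left
  rw [toUnit_left]
  exact scheme_pullback R lam N h

end

end Groth.Agent.Lib.SekSuwaKerH4
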