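import Mathlib
import Groth.Prelude.Def_AlgGrp
import Groth.Agent.Lib.SchImGrp_helper4
import Groth.Agent.Lib.GrpSepDisc_helper4
import Groth.Agent.Lib.MagnetDense_lead
import Groth.Agent.Lib.GenFlatHom_lead

/-! # The subgroup generated by two smooth subgroups, one normalising the other (lead) -/

set_option backward.isDefEq.respectTransparency false
set_option backward.isDefEq.respectTransparency.types false
set_option linter.unusedSimpArgs false
set_option linter.unusedVariables false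
set_option linter.unusedSectionVars false
set_option linter.style.longLine false
set_option linter.style.haveILetI false
set_option maxHeartbeats 800000

universe u

open CategoryTheory CategoryTheory.Limits MonoidalCategory CartesianMonoidalCategory MonObj GrpObj
  AlgebraicGeometry Opposite Topology

namespace Groth.Agent.Lib.SemiDirect

open Groth.Agent.Lib.AssocBundle Groth.Agent.Lib.GenFlatHom Groth.Agent.Lib.MagnetDense

section abstract

variable {S : Scheme.{u}} {G A B : Over S} [GrpObj G] [GrpObj A] [GrpObj B]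
  (a : A ⟶ G) [IsMonHom a] (b : B ⟶ G) [IsMonHom b]
  (c : B ⊗ A ⟶ A)
  (hc : (fst B A ≫ b) * (snd B A ≫ a) * (fst B A ≫ b)⁻¹ = c ≫ a)

theorem eta_eq_one (M : Over S) [GrpObj M] : η[M] = (1 : 𝟙_ (Over S) ⟶ M) := by
  rw [Hom.one_def]
  have : toUnit (𝟙_ (Over S)) = 𝟙 _ := toUnit_unique _ _
  rw [this, Category.id_comp]

theorem tensor_mu {K M : Over S} [MonObj M] (i : K ⟶ M) :
    (i ⊗ₘ i) ≫ μ[M] = (fst K K ≫ i) * (snd K K ≫ i) := by
  rw [Hom.mul_def]
  congr 1

include hc in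
theorem c_pt {T : Over S} (y : T ⟶ B) (x : T ⟶ A) :
    (lift y x ≫ c) ≫ a = (y ≫ b) * (x ≫ a) * (y ≫ b)⁻¹ := by
  rw [Category.assoc, ← hc, MonObj.comp_mul, MonObj.comp_mul, GrpObj.comp_inv, lift_fst_assoc,
    lift_snd_assoc]

/-- the multiplication map `A × B → G` -/
noncomputable def mAB : A ⊗ B ⟶ G := (fst A B ≫ a) * (snd A B ≫ b)

theorem mAB_pt {T : Over S} (u : T ⟶ A ⊗ B) :
    u ≫ mAB a b = (u ≫ fst A B ≫ a) * (u ≫ snd A B ≫ b) := by
  unfold mAB
  rw [MonObj.comp_mul]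

theorem mAB_eq : (a ⊗ₘ b) ≫ μ[G] = mAB a b := by
  unfold mAB
  rw [Hom.mul_def]
  congr 1

/-- `(x, y) ↦ (a(x) b(y), y)` -/
noncomputable def iota : A ⊗ B ⟶ G ⊗ B := lift (mAB a b) (snd A B)

theorem iota_fst : iota a b ≫ fst G B = mAB a b := lift_fst _ _

theorem iota_snd : iota a b ≫ snd G B = snd A B := lift_snd _ _

theorem iota_mono [Mono a] : Mono (iota a b) := by
  refine ⟨fun {T} u v h => ?_⟩
  have h1 : u ≫ mAB a b = v ≫ mAB a b := by
    have := congrArg (fun t => t ≫ fst G B) h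
    simpa only [Category.assoc, iota_fst] using this
  have h2 : u ≫ snd A B = v ≫ snd A B := by
    have := congrArg (fun t => t ≫ snd G B) h
    simpa only [Category.assoc, iota_snd] using this
  rw [mAB_pt, mAB_pt] at h1
  have h3 : u ≫ snd A B ≫ b = v ≫ snd A B ≫ b := by
    rw [← Category.assoc, h2, Category.assoc]
  rw [h3] at h1
  have h4 : u ≫ fst A B ≫ a = v ≫ fst A B ≫ a := mul_right_cancel h1
  have h5 : u ≫ fst A B = v ≫ fst A B := by
    rw [← cancel_mono a, Category.assoc, Category.assoc]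
    exact h4
  exact CartesianMonoidalCategory.hom_ext _ _ h5 h2

/-- the unit of the semidirect product -/
noncomputable def one' : 𝟙_ (Over S) ⟶ A ⊗ B := lift η[A] η[B]

theorem one'_iota : (one' : 𝟙_ (Over S) ⟶ A ⊗ B) ≫ iota a b = η[G ⊗ B] := by
  apply CartesianMonoidalCategory.hom_ext
  · rw [Category.assoc, iota_fst, mAB_pt]
    unfold one'
    rw [lift_fst_assoc, lift_snd_assoc, IsMonHom.one_hom a, IsMonHom.one_hom b,
      IsMonHom.one_hom (fst G B), eta_eq_one, _root_.mul_one]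
  · rw [Category.assoc, iota_snd]
    unfold one'
    rw [lift_snd, IsMonHom.one_hom (snd G B)]

/-- the multiplication of the semidirect product -/
noncomputable def mul' : (A ⊗ B) ⊗ (A ⊗ B) ⟶ A ⊗ B :=
  lift ((fst (A ⊗ B) (A ⊗ B) ≫ fst A B) *
      (lift (fst (A ⊗ B) (A ⊗ B) ≫ snd A B) (snd (A ⊗ B) (A ⊗ B) ≫ fst A B) ≫ c))
    ((fst (A ⊗ B) (A ⊗ B) ≫ snd A B) * (snd (A ⊗ B) (A ⊗ B) ≫ snd A B))

include hc in
theorem mul'_iota : mul' c ≫ iota a b = (iota a b ⊗ₘ iota a b) ≫ μ[G ⊗ B] := by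
  rw [tensor_mu]
  apply CartesianMonoidalCategory.hom_ext
  · rw [MonObj.mul_comp]
    simp only [Category.assoc]
    rw [iota_fst, mAB_pt, mAB_pt, mAB_pt]
    have e1 : mul' c ≫ fst A B ≫ a = ((fst (A ⊗ B) (A ⊗ B) ≫ fst A B) ≫ a) *
        (((fst (A ⊗ B) (A ⊗ B) ≫ snd A B) ≫ b) * ((snd (A ⊗ B) (A ⊗ B) ≫ fst A B) ≫ a) *
          ((fst (A ⊗ B) (A ⊗ B) ≫ snd A B) ≫ b)⁻¹) := by
      unfold mul'
      rw [lift_fst_assoc, MonObj.mul_comp, c_pt a b c hc]
    have e2 : mul' c ≫ snd A B ≫ b = ((fst (A ⊗ B) (A ⊗ B) ≫ snd A B) ≫ b) *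
        ((snd (A ⊗ B) (A ⊗ B) ≫ snd A B) ≫ b) := by
      unfold mul'
      rw [lift_snd_assoc, MonObj.mul_comp]
    rw [e1, e2]
    simp only [Category.assoc]
    group
  · rw [MonObj.mul_comp]
    simp only [Category.assoc]
    rw [iota_snd]
    unfold mul'
    rw [lift_snd]

/-- the inverse of the semidirect product -/
noncomputable def inv' : A ⊗ B ⟶ A ⊗ B :=
  lift (lift (snd A B)⁻¹ (fst A B)⁻¹ ≫ c) (snd A B)⁻¹

include hc in
theorem inv'_iota : inv' c ≫ iota a b = iota a b ≫ ι[G ⊗ B] := by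
  rw [← Hom.inv_def]
  apply CartesianMonoidalCategory.hom_ext
  · rw [Category.assoc, GrpObj.inv_comp, iota_fst, mAB_pt]
    have e1 : inv' c ≫ fst A B ≫ a =
        ((snd A B)⁻¹ ≫ b) * ((fst A B)⁻¹ ≫ a) * ((snd A B)⁻¹ ≫ b)⁻¹ := by
      unfold inv'
      rw [lift_fst_assoc, c_pt a b c hc]
    have e2 : inv' c ≫ snd A B ≫ b = (snd A B)⁻¹ ≫ b := by
      unfold inv'
      rw [lift_snd_assoc]
    rw [e1, e2, GrpObj.inv_comp, GrpObj.inv_comp]
    unfold mAB
    group
  · rw [Category.assoc, GrpObj.inv_comp, iota_snd]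
    unfold inv'
    rw [lift_snd]

end abstract

section field

variable (k : Type u) [Field k]

set_option maxHeartbeats 1600000 in
theorem main5362 (G A B : Over (Spec (CommRingCat.of k))) [GrpObj G] [GrpObj A] [GrpObj B]
    [LocallyOfFiniteType G.hom] (a : A ⟶ G) [IsMonHom a] [IsClosedImmersion a.left] (b : B ⟶ G)
    [IsMonHom b] [IsClosedImmersion b.left] [Smooth A.hom] [QuasiCompact A.hom] [Smooth B.hom]
    [QuasiCompact B.hom]
    (hN : ∀ (T : Over (Spec (CommRingCat.of k))) (y : T ⟶ B) (x : T ⟶ A),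
      ∃ x' : T ⟶ A, (y ≫ b) * (x ≫ a) * (y ≫ b)⁻¹ = x' ≫ a)
    (Γ : Over (Spec (CommRingCat.of k))) [GrpObj Γ] (i : Γ ⟶ G) [IsMonHom i]
    [IsClosedImmersion i.left]
    (ha : ∃ a' : A ⟶ Γ, a' ≫ i = a) (hb : ∃ b' : B ⟶ Γ, b' ≫ i = b)
    (hmin : ∀ (Γ' : Over (Spec (CommRingCat.of k))) (_ : GrpObj Γ') (i' : Γ' ⟶ G), IsMonHom i' →
        IsClosedImmersion i'.left →
        (∃ a'' : A ⟶ Γ', a'' ≫ i' = a) → (∃ b'' : B ⟶ Γ', b'' ≫ i' = b) →
        ∃ j : Γ ⟶ Γ', j ≫ i' = i) :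
    IsReduced Γ.left ∧
      Set.range i.left.base = Set.range ((a ⊗ₘ b) ≫ μ[G]).left.base := by
  haveI : Subsingleton ↥(Spec (CommRingCat.of k)) := inferInstanceAs (Subsingleton (PrimeSpectrum k))
  haveI : Mono a := mono_of_closed a
  obtain ⟨c, hc⟩ := hN (B ⊗ A) (fst B A) (snd B A)
  haveI := iota_mono a b
  let grpP : GrpObj (A ⊗ B) := SchImGrpH4.grpObjOfMono (iota a b) one' (one'_iota a b)
    (mul' c) (mul'_iota a b c hc) (inv' c) (inv'_iota a b c hc)
  let f : A ⊗ B ⟶ G := iota a b ≫ fst G B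
  have hf : f = mAB a b := iota_fst a b
  have hfmon : @IsMonHom _ _ _ (A ⊗ B) G grpP.toMonObj _ f := by
    refine @IsMonHom.mk _ _ _ _ _ grpP.toMonObj _ f ?_ ?_
    · show one' ≫ iota a b ≫ fst G B = η[G]
      rw [← Category.assoc, one'_iota a b, IsMonHom.one_hom (fst G B)]
    · show mul' c ≫ iota a b ≫ fst G B = ((iota a b ≫ fst G B) ⊗ₘ (iota a b ≫ fst G B)) ≫ μ[G]
      rw [← Category.assoc, mul'_iota a b c hc, Category.assoc, IsMonHom.mul_hom (fst G B),
        tensorHom_comp_tensorHom_assoc]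
  haveI hsepG : IsSeparated G.hom := GrpSepDiscH4.main5331 (Spec (CommRingCat.of k)) G
  haveI : QuasiCompact (A ⊗ B).hom := inferInstance
  haveI hqc : QuasiCompact f.left := qc_left f
  obtain ⟨H', grp', i', f', h1, h2, h3, h4, h5, h6, h7⟩ :=
    @SchImGrpH4.main3024 k _ (A ⊗ B) G grpP _ f hfmon hqc
  haveI := h1
  haveI := h4
  haveI := h6
  haveI := h7
  haveI : Smooth (A ⊗ B).hom := by
    rw [Over.tensorObj_hom]
    infer_instance
  haveI : IsReduced (A ⊗ B).left := isReduced_of_smooth (A ⊗ B)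
  haveI : IsSchemeTheoreticallyDominant f'.left := ⟨h5⟩
  haveI : IsReduced H'.left := IsSchemeTheoreticallyDominant.isReduced f'.left
  have hfa : lift (𝟙 A) (toUnit A ≫ η[B]) ≫ f = a := by
    rw [hf, mAB_pt, lift_fst_assoc, lift_snd_assoc, Category.id_comp, Category.assoc,
      IsMonHom.one_hom b, ← Hom.one_def, _root_.mul_one]
  have hfb : lift (toUnit B ≫ η[A]) (𝟙 B) ≫ f = b := by
    rw [hf, mAB_pt, lift_fst_assoc, lift_snd_assoc, Category.id_comp, Category.assoc,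
      IsMonHom.one_hom a, ← Hom.one_def, _root_.one_mul]
  obtain ⟨j, hj⟩ := hmin H' grp' i' h1 h4
    ⟨lift (𝟙 A) (toUnit A ≫ η[B]) ≫ f', by rw [Category.assoc, h3, hfa]⟩
    ⟨lift (toUnit B ≫ η[A]) (𝟙 B) ≫ f', by rw [Category.assoc, h3, hfb]⟩
  obtain ⟨a', ha'⟩ := ha
  obtain ⟨b', hb'⟩ := hb
  obtain ⟨l, hl⟩ := exists_factor_over i f' i' ((fst A B ≫ a') * (snd A B ≫ b')) (by
    rw [h3, hf, MonObj.mul_comp, Category.assoc, Category.assoc, ha', hb']
    rfl)
  haveI : Mono i := mono_of_closed i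
  haveI : Mono i' := mono_of_closed i'
  have hjl : j ≫ l = 𝟙 Γ := by
    rw [← cancel_mono i, Category.assoc, hl, hj, Category.id_comp]
  have hlj : l ≫ j = 𝟙 H' := by
    rw [← cancel_mono i', Category.assoc, hj, hl, Category.id_comp]
  haveI : IsIso j := ⟨l, hjl, hlj⟩
  haveI : IsIso j.left := inferInstanceAs (IsIso ((Over.forget _).map j))
  refine ⟨isReduced_of_isOpenImmersion j.left, ?_⟩
  rw [mAB_eq a b, ← hf, ← h3, ← hj]
  have e1 : Set.range (j ≫ i').left.base = Set.range i'.left.base := by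
    show Set.range (i'.left.base ∘ j.left.base) = _
    rw [Set.range_comp, Set.range_eq_univ.mpr j.left.surjective, Set.image_univ]
  have e2 : Set.range (f' ≫ i').left.base = Set.range i'.left.base := by
    show Set.range (i'.left.base ∘ f'.left.base) = _
    rw [Set.range_comp, Set.range_eq_univ.mpr f'.left.surjective, Set.image_univ]
  rw [e1, e2]

end field

end Groth.Agent.Lib.SemiDirect
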