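import Mathlib

set_option autoImplicit false
set_option maxHeartbeats 1000000

open scoped Classical
open Polynomial Module UniqueFactorizationMonoid

namespace Groth.Agent.Lib.SemiHomH1

universe u v w v' w'

section Basic

variable {K : Type u} [Field K]
variable {V : Type v} [AddCommGroup V] [Module K V]
variable {U : Type w} [AddCommGroup U] [Module K U]

/-- intertwiners `h ∘ a = c ∘ h`. -/
def homSub (a : Module.End K V) (c : Module.End K U) : Submodule K (V →ₗ[K] U) :=
  LinearMap.ker (LinearMap.lcomp K U a - LinearMap.llcomp K V U U c)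

theorem mem_homSub {a : Module.End K V} {c : Module.End K U} {h : V →ₗ[K] U} :
    h ∈ homSub a c ↔ ∀ x, h (a x) = c (h x) := by
  unfold homSub
  rw [LinearMap.mem_ker, LinearMap.sub_apply, sub_eq_zero]
  constructor
  · intro H x
    have := LinearMap.congr_fun H x
    simpa using this
  · intro H
    ext x
    simpa using H x

theorem finrank_eq_of_equiv_mem {A : Type*} {B : Type*} [AddCommGroup A] [Module K A]
    [AddCommGroup B] [Module K B]
    (Φ : A ≃ₗ[K] B) (S : Submodule K A) (S' : Submodule K B) (h : ∀ a, a ∈ S ↔ Φ a ∈ S') :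
    finrank K S = finrank K S' := by
  have hmap : S.map (Φ : A →ₗ[K] B) = S' := by
    ext b
    rw [Submodule.mem_map]
    constructor
    · rintro ⟨a, ha, rfl⟩
      exact (h a).1 ha
    · intro hb
      refine ⟨Φ.symm b, (h _).2 ?_, ?_⟩
      · simpa using hb
      · simp
  rw [← hmap]
  exact (LinearEquiv.finrank_map_eq Φ S).symm

theorem finrank_homSub_congr {V' : Type v'} [AddCommGroup V'] [Module K V']
    {U' : Type w'} [AddCommGroup U'] [Module K U']
    {a : Module.End K V} {a' : Module.End K V'} {c : Module.End K U} {c' : Module.End K U'}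
    (e₁ : V ≃ₗ[K] V') (e₂ : U ≃ₗ[K] U') (h₁ : ∀ x, e₁ (a x) = a' (e₁ x))
    (h₂ : ∀ x, e₂ (c x) = c' (e₂ x)) :
    finrank K (homSub a c) = finrank K (homSub a' c') := by
  refine finrank_eq_of_equiv_mem (LinearEquiv.arrowCongr e₁ e₂) _ _ (fun h => ?_)
  rw [mem_homSub, mem_homSub]
  have h₁' : ∀ y, e₁.symm (a' y) = a (e₁.symm y) := by
    intro y
    apply e₁.injective
    rw [h₁]
    simp
  constructor
  · intro H y
    rw [LinearEquiv.arrowCongr_apply, LinearEquiv.arrowCongr_apply, h₁', H, h₂]
  · intro H x
    have := H (e₁ x)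
    rw [LinearEquiv.arrowCongr_apply, LinearEquiv.arrowCongr_apply, ← h₁,
      LinearEquiv.symm_apply_apply, LinearEquiv.symm_apply_apply, ← h₂] at this
    exact e₂.injective this

/-- splitting in the first variable -/
noncomputable def splitLeft {V' : Type v'} [AddCommGroup V'] [Module K V']
    (a : Module.End K V) (b : Module.End K V') (c : Module.End K U) :
    homSub (LinearMap.prodMap a b) c ≃ₗ[K] (homSub a c × homSub b c) where
  toFun h := (⟨h.1 ∘ₗ LinearMap.inl K V V', mem_homSub.2 (fun x => by
                have := mem_homSub.1 h.2 (x, 0)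
                simpa using this)⟩,
              ⟨h.1 ∘ₗ LinearMap.inr K V V', mem_homSub.2 (fun x => by
                have := mem_homSub.1 h.2 (0, x)
                simpa using this)⟩)
  map_add' h h' := by
    apply Prod.ext <;> apply Subtype.ext <;> simp [LinearMap.add_comp]
  map_smul' r h := by
    apply Prod.ext <;> apply Subtype.ext <;> simp [LinearMap.smul_comp]
  invFun p := ⟨p.1.1.coprod p.2.1, mem_homSub.2 (fun x => by
      have h1 := mem_homSub.1 p.1.2 x.1
      have h2 := mem_homSub.1 p.2.2 x.2
      simp [LinearMap.coprod_apply, h1, h2])⟩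
  left_inv h := by
    apply Subtype.ext
    apply LinearMap.ext
    rintro ⟨x, y⟩
    simp [LinearMap.coprod_apply, ← map_add]
  right_inv p := by
    apply Prod.ext <;> apply Subtype.ext <;> apply LinearMap.ext <;> intro x <;>
      simp [LinearMap.coprod_apply]

/-- splitting in the second variable -/
noncomputable def splitRight {U' : Type w'} [AddCommGroup U'] [Module K U']
    (c : Module.End K V) (a : Module.End K U) (b : Module.End K U') :
    homSub c (LinearMap.prodMap a b) ≃ₗ[K] (homSub c a × homSub c b) where
  toFun h := (⟨LinearMap.fst K U U' ∘ₗ h.1, mem_homSub.2 (fun x => by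
                have := congrArg Prod.fst (mem_homSub.1 h.2 x)
                simpa using this)⟩,
              ⟨LinearMap.snd K U U' ∘ₗ h.1, mem_homSub.2 (fun x => by
                have := congrArg Prod.snd (mem_homSub.1 h.2 x)
                simpa using this)⟩)
  map_add' h h' := by
    apply Prod.ext <;> apply Subtype.ext <;> simp [LinearMap.comp_add]
  map_smul' r h := by
    apply Prod.ext <;> apply Subtype.ext <;> simp [LinearMap.comp_smul]
  invFun p := ⟨p.1.1.prod p.2.1, mem_homSub.2 (fun x => by
      have h1 := mem_homSub.1 p.1.2 x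
      have h2 := mem_homSub.1 p.2.2 x
      simp [LinearMap.prod_apply, h1, h2])⟩
  left_inv h := by
    apply Subtype.ext
    apply LinearMap.ext
    intro x
    simp [LinearMap.prod_apply]
  right_inv p := by
    apply Prod.ext <;> apply Subtype.ext <;> apply LinearMap.ext <;> intro x <;>
      simp [LinearMap.prod_apply]

end Basic


section FinProd

variable {K : Type u} [Field K]
variable {V : Type v} [AddCommGroup V] [Module K V] [FiniteDimensional K V]
variable {U : Type w} [AddCommGroup U] [Module K U] [FiniteDimensional K U]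

theorem finrank_homSub_prod_left {V' : Type v'} [AddCommGroup V'] [Module K V']
    [FiniteDimensional K V']
    (a : Module.End K V) (b : Module.End K V') (c : Module.End K U) :
    finrank K (homSub (LinearMap.prodMap a b) c) =
      finrank K (homSub a c) + finrank K (homSub b c) := by
  rw [← Module.finrank_prod]
  exact LinearEquiv.finrank_eq (splitLeft a b c)

theorem finrank_homSub_prod_right {U' : Type w'} [AddCommGroup U'] [Module K U']
    [FiniteDimensional K U']
    (c : Module.End K V) (a : Module.End K U) (b : Module.End K U') :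
    finrank K (homSub c (LinearMap.prodMap a b)) =
      finrank K (homSub c a) + finrank K (homSub c b) := by
  rw [← Module.finrank_prod]
  exact LinearEquiv.finrank_eq (splitRight c a b)

theorem prodEquiv_intertwine (π : Module.End K V) {W W' : Submodule K V}
    (hc : IsCompl W W') (hW : W ∈ π.invtSubmodule) (hW' : W' ∈ π.invtSubmodule) (y : W × W') :
    (W.prodEquivOfIsCompl W' hc)
        (LinearMap.prodMap (LinearMap.restrict π hW) (LinearMap.restrict π hW') y) =
      π (W.prodEquivOfIsCompl W' hc y) := by
  rw [Submodule.coe_prodEquivOfIsCompl', Submodule.coe_prodEquivOfIsCompl',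
    LinearMap.prodMap_apply, map_add]
  rfl

theorem charpoly_split (π : Module.End K V) {W W' : Submodule K V}
    (hc : IsCompl W W') (hW : W ∈ π.invtSubmodule) (hW' : W' ∈ π.invtSubmodule) :
    π.charpoly = (LinearMap.restrict π hW).charpoly * (LinearMap.restrict π hW').charpoly := by
  rw [← LinearMap.charpoly_prodMap]
  have : π = (W.prodEquivOfIsCompl W' hc).conj
      (LinearMap.prodMap (LinearMap.restrict π hW) (LinearMap.restrict π hW')) := by
    ext x
    rw [LinearEquiv.conj_apply_apply, prodEquiv_intertwine, LinearEquiv.apply_symm_apply]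
  conv_lhs => rw [this]
  exact LinearEquiv.charpoly_conj _ _

theorem finrank_homSub_split_left (π : Module.End K V) (c : Module.End K U)
    {W W' : Submodule K V}
    (hc : IsCompl W W') (hW : W ∈ π.invtSubmodule) (hW' : W' ∈ π.invtSubmodule) :
    finrank K (homSub π c) =
      finrank K (homSub (LinearMap.restrict π hW) c) +
        finrank K (homSub (LinearMap.restrict π hW') c) := by
  rw [← finrank_homSub_prod_left]
  exact (finrank_homSub_congr (c := c) (c' := c) (W.prodEquivOfIsCompl W' hc)
    (LinearEquiv.refl K U) (prodEquiv_intertwine π hc hW hW') (fun x => rfl)).symm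

theorem finrank_homSub_split_right (c : Module.End K V) (π : Module.End K U)
    {W W' : Submodule K U}
    (hc : IsCompl W W') (hW : W ∈ π.invtSubmodule) (hW' : W' ∈ π.invtSubmodule) :
    finrank K (homSub c π) =
      finrank K (homSub c (LinearMap.restrict π hW)) +
        finrank K (homSub c (LinearMap.restrict π hW')) := by
  rw [← finrank_homSub_prod_right]
  exact (finrank_homSub_congr (a := c) (a' := c) (LinearEquiv.refl K V)
    (W.prodEquivOfIsCompl W' hc) (fun x => rfl) (prodEquiv_intertwine π hc hW hW')).symm

theorem exists_split (π : Module.End K V) (hss : π.IsSemisimple)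
    (h : ∃ W ∈ π.invtSubmodule, W ≠ ⊥ ∧ W ≠ ⊤) :
    ∃ (W W' : Submodule K V) (_ : W ∈ π.invtSubmodule) (_ : W' ∈ π.invtSubmodule),
      IsCompl W W' ∧ finrank K W < finrank K V ∧ finrank K W' < finrank K V := by
  obtain ⟨W, hW, hb, ht⟩ := h
  obtain ⟨W', hW', hc⟩ := Module.End.isSemisimple_iff.1 hss W hW
  refine ⟨W, W', hW, hW', hc, Submodule.finrank_lt ht, ?_⟩
  have h1 := Submodule.finrank_add_eq_of_isCompl hc
  have h2 : 1 ≤ finrank K W := Submodule.one_le_finrank_iff.2 hb
  omega

theorem charpoly_eq_one_of_finrank_zero (π : Module.End K V) (h : finrank K V = 0) :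
    π.charpoly = 1 := by
  have hm := LinearMap.charpoly_monic π
  rw [← hm.natDegree_eq_zero, LinearMap.charpoly_natDegree, h]

theorem homSub_eq_bot_of_left (a : Module.End K V) (c : Module.End K U)
    (h : finrank K V = 0) : homSub a c = ⊥ := by
  have h0 := finrank_zero_iff_forall_zero.1 h
  rw [eq_bot_iff]
  intro f _
  rw [Submodule.mem_bot]
  ext x
  rw [h0 x]
  simp

theorem homSub_eq_bot_of_right (a : Module.End K V) (c : Module.End K U)
    (h : finrank K U = 0) : homSub a c = ⊥ := by
  have h0 := finrank_zero_iff_forall_zero.1 h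
  rw [eq_bot_iff]
  intro f _
  rw [Submodule.mem_bot]
  ext x
  rw [h0 (f x)]
  simp

end FinProd

section RR

variable {K : Type u} [Field K]

/-- the combinatorial pairing -/
noncomputable def R (f g : K[X]) : ℕ :=
  ((normalizedFactors f).map (fun P => (normalizedFactors g).count P * P.natDegree)).sum

theorem R_mul_left {f f' g : K[X]} (hf : f ≠ 0) (hf' : f' ≠ 0) :
    R (f * f') g = R f g + R f' g := by
  unfold R
  rw [normalizedFactors_mul hf hf', Multiset.map_add, Multiset.sum_add]

theorem R_mul_right {f g g' : K[X]} (hg : g ≠ 0) (hg' : g' ≠ 0) :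
    R f (g * g') = R f g + R f g' := by
  unfold R
  rw [normalizedFactors_mul hg hg', ← Multiset.sum_map_add]
  congr 1
  apply Multiset.map_congr rfl
  intro P _
  rw [Multiset.count_add, add_mul]

theorem R_one_left (g : K[X]) : R 1 g = 0 := by
  unfold R
  rw [normalizedFactors_one]
  simp

theorem R_one_right (f : K[X]) : R f 1 = 0 := by
  unfold R
  rw [normalizedFactors_one]
  simp

theorem R_irred {P Q : K[X]} (hP : Irreducible P) (hPm : P.Monic) (hQ : Irreducible Q)
    (hQm : Q.Monic) : R P Q = if P = Q then P.natDegree else 0 := by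
  unfold R
  rw [normalizedFactors_irreducible hP, normalizedFactors_irreducible hQ,
    hPm.normalize_eq_self, hQm.normalize_eq_self, Multiset.map_singleton,
    Multiset.sum_singleton, Multiset.count_singleton]
  split_ifs <;> simp

end RR


section Aeval

variable {K : Type u} [Field K] {V : Type v} [AddCommGroup V] [Module K V]
variable (π : Module.End K V)

theorem aeval_X_mul_apply (q : K[X]) (v : V) : aeval π (X * q) v = π (aeval π q v) := by
  rw [map_mul, aeval_X, Module.End.mul_apply]

theorem aeval_mul_apply (p q : K[X]) (v : V) :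
    aeval π (p * q) v = aeval π p (aeval π q v) := by
  rw [map_mul, Module.End.mul_apply]

theorem aeval_comm_apply (q : K[X]) (v : V) : aeval π q (π v) = π (aeval π q v) := by
  have h1 : aeval π (q * X) v = aeval π q (π v) := by rw [aeval_mul_apply, aeval_X]
  rw [← h1, mul_comm, aeval_X_mul_apply]

theorem homSub_aeval {U : Type w} [AddCommGroup U] [Module K U]
    {a : Module.End K V} {c : Module.End K U} {h : V →ₗ[K] U} (hh : h ∈ homSub a c)
    (q : K[X]) (x : V) : h (aeval a q x) = aeval c q (h x) := by
  have hpow : ∀ n : ℕ, ∀ x, h ((a ^ n) x) = (c ^ n) (h x) := by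
    intro n
    induction n with
    | zero => intro x; simp
    | succ n ih =>
      intro x
      rw [pow_succ', pow_succ', Module.End.mul_apply, Module.End.mul_apply,
        mem_homSub.1 hh, ih]
  refine Polynomial.induction_on' q (fun p q hp hq => ?_) (fun n r => ?_)
  · rw [map_add, map_add, LinearMap.add_apply, LinearMap.add_apply, map_add, hp, hq]
  · rw [aeval_monomial, aeval_monomial, Module.End.mul_apply, Module.End.mul_apply,
      Module.algebraMap_end_apply, Module.algebraMap_end_apply, map_smul, hpow]

/-- evaluation at a vector -/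
noncomputable def evL (v : V) : K[X] →ₗ[K] V where
  toFun q := aeval π q v
  map_add' p q := by simp
  map_smul' r q := by simp

@[simp] theorem evL_apply (v : V) (q : K[X]) : evL π v q = aeval π q v := rfl

theorem ker_aeval_invt (q : K[X]) : LinearMap.ker (aeval π q) ∈ π.invtSubmodule := by
  rw [Module.End.mem_invtSubmodule_iff_forall_mem_of_mem]
  intro x hx
  rw [LinearMap.mem_ker] at hx ⊢
  rw [aeval_comm_apply, hx, map_zero]

theorem range_evL_invt (v : V) : LinearMap.range (evL π v) ∈ π.invtSubmodule := by
  rw [Module.End.mem_invtSubmodule_iff_forall_mem_of_mem]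
  rintro x ⟨q, rfl⟩
  exact ⟨X * q, by rw [evL_apply, evL_apply, aeval_X_mul_apply]⟩

end Aeval

section Simple

variable {K : Type u} [Field K] {V : Type v} [AddCommGroup V] [Module K V]
  [FiniteDimensional K V]

structure IsSimp (π : Module.End K V) : Prop where
  nontriv : Nontrivial V
  simp : ∀ W ∈ π.invtSubmodule, W = ⊥ ∨ W = ⊤

theorem minpoly_irreducible {π : Module.End K V} (hs : IsSimp π) :
    Irreducible (minpoly K π) := by
  haveI := hs.nontriv
  have hint : IsIntegral K π := LinearMap.isIntegral π
  have hne : minpoly K π ≠ 0 := minpoly.ne_zero hint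
  rw [irreducible_iff]
  refine ⟨minpoly.not_isUnit K π, ?_⟩
  intro A B hAB
  have hA0 : A ≠ 0 := by
    rintro rfl
    rw [zero_mul] at hAB
    exact hne hAB
  have hB0 : B ≠ 0 := by
    rintro rfl
    rw [mul_zero] at hAB
    exact hne hAB
  rcases hs.simp _ (ker_aeval_invt π A) with h | h
  · left
    have hB : aeval π B = 0 := by
      ext x
      have h1 : aeval π A (aeval π B x) = 0 := by
        rw [← aeval_mul_apply, ← hAB, minpoly.aeval, LinearMap.zero_apply]
      have h2 : aeval π B x ∈ LinearMap.ker (aeval π A) := LinearMap.mem_ker.2 h1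
      rw [h] at h2
      simpa using h2
    have hd : minpoly K π ∣ B := minpoly.dvd K π hB
    rw [hAB] at hd
    have hd' : A * B ∣ 1 * B := by rwa [one_mul]
    exact isUnit_of_dvd_one ((mul_dvd_mul_iff_right hB0).1 hd')
  · right
    have hA : aeval π A = 0 := by
      ext x
      have hx : x ∈ LinearMap.ker (aeval π A) := by
        rw [h]
        trivial
      simpa using hx
    have hd : minpoly K π ∣ A := minpoly.dvd K π hA
    rw [hAB] at hd
    have hd' : A * B ∣ A * 1 := by rwa [mul_one]
    exact isUnit_of_dvd_one ((mul_dvd_mul_iff_left hA0).1 hd')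

theorem exists_gen {π : Module.End K V} (hs : IsSimp π) :
    ∃ v : V, (∀ x, ∃ q : K[X], aeval π q v = x) ∧
      (∀ q : K[X], aeval π q v = 0 ↔ minpoly K π ∣ q) := by
  haveI := hs.nontriv
  obtain ⟨v, hv⟩ := exists_ne (0 : V)
  have hirr := minpoly_irreducible hs
  refine ⟨v, ?_, ?_⟩
  · have hr : LinearMap.range (evL π v) = ⊤ := by
      rcases hs.simp _ (range_evL_invt π v) with h | h
      · exfalso
        have hmem : v ∈ LinearMap.range (evL π v) := ⟨1, by simp⟩
        rw [h] at hmem
        exact hv (by simpa using hmem)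
      · exact h
    intro x
    have hx : x ∈ LinearMap.range (evL π v) := by
      rw [hr]
      trivial
    obtain ⟨q, hq⟩ := hx
    exact ⟨q, hq⟩
  · intro q
    constructor
    · intro hq
      by_contra hnd
      have hcop : IsCoprime (minpoly K π) q := hirr.coprime_iff_not_dvd.2 hnd
      obtain ⟨a, b, hab⟩ := hcop
      apply hv
      have h1 : aeval π (a * minpoly K π + b * q) v = v := by
        rw [hab]
        simp
      rw [map_add, LinearMap.add_apply, aeval_mul_apply, aeval_mul_apply, hq, map_zero,
        add_zero, minpoly.aeval, LinearMap.zero_apply, map_zero] at h1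
      exact h1.symm
    · rintro ⟨r, rfl⟩
      rw [mul_comm, aeval_mul_apply, minpoly.aeval, LinearMap.zero_apply, map_zero]

theorem finrank_eq_natDegree_minpoly {π : Module.End K V} (hs : IsSimp π) :
    finrank K V = (minpoly K π).natDegree := by
  obtain ⟨v, hsurj, hker⟩ := exists_gen hs
  have hsurj' : Function.Surjective (evL π v) := fun x => by
    obtain ⟨q, hq⟩ := hsurj x
    exact ⟨q, hq⟩
  have hk : LinearMap.ker (evL π v) =
      (Ideal.span {minpoly K π} : Ideal K[X]).restrictScalars K := by
    ext q
    rw [LinearMap.mem_ker, evL_apply, hker, Submodule.restrictScalars_mem,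
      Ideal.mem_span_singleton]
  have e1 := (evL π v).quotKerEquivOfSurjective hsurj'
  have e2 := Submodule.quotEquivOfEq _ _ hk
  have e3 := Submodule.Quotient.restrictScalarsEquiv K (Ideal.span {minpoly K π} : Ideal K[X])
  rw [← e1.finrank_eq, e2.finrank_eq, e3.finrank_eq]
  exact finrank_quotient_span_eq_natDegree

theorem charpoly_eq_minpoly {π : Module.End K V} (hs : IsSimp π) :
    π.charpoly = minpoly K π := by
  have hint : IsIntegral K π := LinearMap.isIntegral π
  refine Polynomial.eq_of_monic_of_dvd_of_natDegree_le (minpoly.monic hint)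
    (LinearMap.charpoly_monic π) (LinearMap.minpoly_dvd_charpoly π) ?_
  rw [LinearMap.charpoly_natDegree, finrank_eq_natDegree_minpoly hs]

theorem finrank_homSub_of_gen {U : Type w} [AddCommGroup U] [Module K U]
    [FiniteDimensional K U]
    {π : Module.End K V} (c : Module.End K U) {P : K[X]} {v : V}
    (hsurj : ∀ x, ∃ q : K[X], aeval π q v = x)
    (hker : ∀ q : K[X], aeval π q v = 0 ↔ P ∣ q) :
    finrank K (homSub π c) = finrank K (LinearMap.ker (aeval c P)) := by
  let Ψ : homSub π c →ₗ[K] U :=
    { toFun := fun h => h.1 v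
      map_add' := fun h h' => by simp
      map_smul' := fun r h => by simp }
  have hΨ : ∀ h : homSub π c, Ψ h = h.1 v := fun h => rfl
  have hinj : Function.Injective Ψ := by
    rw [← LinearMap.ker_eq_bot, eq_bot_iff]
    intro h hh
    rw [LinearMap.mem_ker, hΨ] at hh
    rw [Submodule.mem_bot]
    apply Subtype.ext
    ext x
    obtain ⟨q, rfl⟩ := hsurj x
    rw [homSub_aeval h.2, hh, map_zero]
    simp
  have hrange : LinearMap.range Ψ = LinearMap.ker (aeval c P) := by
    ext w
    constructor
    · rintro ⟨h, rfl⟩
      rw [LinearMap.mem_ker, hΨ, ← homSub_aeval h.2, (hker P).2 dvd_rfl, map_zero]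
    · intro hw
      rw [LinearMap.mem_ker] at hw
      have hsurj' : LinearMap.range (evL π v) = ⊤ := by
        rw [eq_top_iff]
        intro x _
        obtain ⟨q, hq⟩ := hsurj x
        exact ⟨q, hq⟩
      obtain ⟨s, hs⟩ := (evL π v).exists_rightInverse_of_surjective hsurj'
      have hs' : ∀ x, aeval π (s x) v = x := fun x => by
        have := LinearMap.congr_fun hs x
        simpa using this
      have hle : ∀ q : K[X], aeval π q v = 0 → aeval c q w = 0 := by
        intro q hq
        obtain ⟨r, rfl⟩ := (hker q).1 hq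
        rw [mul_comm, aeval_mul_apply, hw, map_zero]
      let h : V →ₗ[K] U := evL c w ∘ₗ s
      have hh : ∀ q : K[X], h (aeval π q v) = aeval c q w := by
        intro q
        show aeval c (s (aeval π q v)) w = aeval c q w
        have h0 : aeval c (s (aeval π q v) - q) w = 0 := by
          apply hle
          rw [map_sub, LinearMap.sub_apply, hs', sub_self]
        rw [map_sub, LinearMap.sub_apply, sub_eq_zero] at h0
        exact h0
      have hmem : h ∈ homSub π c := by
        rw [mem_homSub]
        intro x
        obtain ⟨q, rfl⟩ := hsurj x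
        rw [← aeval_X_mul_apply, hh, hh, aeval_X_mul_apply]
      refine ⟨⟨h, hmem⟩, ?_⟩
      rw [hΨ]
      have h1 := hh 1
      simpa using h1
  rw [← hrange, LinearMap.finrank_range_of_inj hinj]

theorem simple_case {U : Type w} [AddCommGroup U] [Module K U] [FiniteDimensional K U]
    {π : Module.End K V} {c : Module.End K U} (hs : IsSimp π) (hc : IsSimp c) :
    finrank K (homSub π c) = R π.charpoly c.charpoly := by
  obtain ⟨v, hsurj, hker⟩ := exists_gen hs
  have hP := minpoly_irreducible hs
  have hQ := minpoly_irreducible hc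
  have hPm : (minpoly K π).Monic := minpoly.monic (LinearMap.isIntegral π)
  have hQm : (minpoly K c).Monic := minpoly.monic (LinearMap.isIntegral c)
  rw [finrank_homSub_of_gen c hsurj hker, charpoly_eq_minpoly hs, charpoly_eq_minpoly hc,
    R_irred hP hPm hQ hQm]
  by_cases hPQ : minpoly K π = minpoly K c
  · rw [if_pos hPQ, hPQ, minpoly.aeval, LinearMap.ker_zero, finrank_top,
      finrank_eq_natDegree_minpoly hc]
  · rw [if_neg hPQ]
    rcases hc.simp _ (ker_aeval_invt c (minpoly K π)) with h | h
    · rw [h, finrank_bot]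
    · exfalso
      apply hPQ
      have h0 : aeval c (minpoly K π) = 0 := by
        ext x
        have hx : x ∈ LinearMap.ker (aeval c (minpoly K π)) := by
          rw [h]
          trivial
        simpa using hx
      have hd : minpoly K c ∣ minpoly K π := minpoly.dvd K c h0
      have hass : Associated (minpoly K c) (minpoly K π) := hQ.associated_of_dvd hP hd
      exact (Polynomial.eq_of_monic_of_associated hQm hPm hass).symm

end Simple

section Main

theorem main_aux (K : Type u) [Field K] : ∀ (n : ℕ) (V₁ : Type v) (V₂ : Type w)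
    [AddCommGroup V₁] [Module K V₁] [FiniteDimensional K V₁]
    [AddCommGroup V₂] [Module K V₂] [FiniteDimensional K V₂]
    (π₁ : Module.End K V₁) (π₂ : Module.End K V₂), π₁.IsSemisimple → π₂.IsSemisimple →
    finrank K V₁ + finrank K V₂ = n →
    finrank K (homSub π₁ π₂) = R π₁.charpoly π₂.charpoly := by
  intro n
  induction n using Nat.strong_induction_on with
  | _ n ih =>
    intro V₁ V₂ _ _ _ _ _ _ π₁ π₂ h₁ h₂ hn
    by_cases hA : ∃ W ∈ π₁.invtSubmodule, W ≠ ⊥ ∧ W ≠ ⊤
    · obtain ⟨W, W', hW, hW', hc, hlt, hlt'⟩ := exists_split π₁ h₁ hA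
      rw [finrank_homSub_split_left π₁ π₂ hc hW hW', charpoly_split π₁ hc hW hW',
        R_mul_left (LinearMap.charpoly_monic _).ne_zero (LinearMap.charpoly_monic _).ne_zero]
      rw [ih (finrank K W + finrank K V₂) (by omega) W V₂ _ π₂ (h₁.restrict hW) h₂ rfl,
        ih (finrank K W' + finrank K V₂) (by omega) W' V₂ _ π₂ (h₁.restrict hW') h₂ rfl]
    by_cases hB : ∃ W ∈ π₂.invtSubmodule, W ≠ ⊥ ∧ W ≠ ⊤
    · obtain ⟨W, W', hW, hW', hc, hlt, hlt'⟩ := exists_split π₂ h₂ hB
      rw [finrank_homSub_split_right π₁ π₂ hc hW hW', charpoly_split π₂ hc hW hW',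
        R_mul_right (LinearMap.charpoly_monic _).ne_zero (LinearMap.charpoly_monic _).ne_zero]
      rw [ih (finrank K V₁ + finrank K W) (by omega) V₁ W π₁ _ h₁ (h₂.restrict hW) rfl,
        ih (finrank K V₁ + finrank K W') (by omega) V₁ W' π₁ _ h₁ (h₂.restrict hW') rfl]
    by_cases z₁ : finrank K V₁ = 0
    · rw [homSub_eq_bot_of_left π₁ π₂ z₁, finrank_bot,
        charpoly_eq_one_of_finrank_zero π₁ z₁, R_one_left]
    by_cases z₂ : finrank K V₂ = 0
    · rw [homSub_eq_bot_of_right π₁ π₂ z₂, finrank_bot,
        charpoly_eq_one_of_finrank_zero π₂ z₂, R_one_right]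
    apply simple_case
    · refine ⟨Module.nontrivial_of_finrank_pos (R := K) (Nat.pos_of_ne_zero z₁), ?_⟩
      intro W hW
      by_contra hcon
      push Not at hcon
      exact hA ⟨W, hW, hcon.1, hcon.2⟩
    · refine ⟨Module.nontrivial_of_finrank_pos (R := K) (Nat.pos_of_ne_zero z₂), ?_⟩
      intro W hW
      by_contra hcon
      push Not at hcon
      exact hB ⟨W, hW, hcon.1, hcon.2⟩

theorem main16837 (K : Type u) [Field K]
    (V₁ : Type v) (V₂ : Type w) [AddCommGroup V₁] [Module K V₁] [FiniteDimensional K V₁]
    [AddCommGroup V₂] [Module K V₂] [FiniteDimensional K V₂]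
    (π₁ : Module.End K V₁) (π₂ : Module.End K V₂) (h₁ : π₁.IsSemisimple)
    (h₂ : π₂.IsSemisimple) :
    Module.finrank K (LinearMap.ker (LinearMap.lcomp K V₂ π₁ - LinearMap.llcomp K V₁ V₂ V₂ π₂ :
        (V₁ →ₗ[K] V₂) →ₗ[K] (V₁ →ₗ[K] V₂))) =
      ∑ P ∈ (normalizedFactors π₁.charpoly).toFinset,
        (normalizedFactors π₁.charpoly).count P * (normalizedFactors π₂.charpoly).count P *
          P.natDegree := by
  have h := main_aux K _ V₁ V₂ π₁ π₂ h₁ h₂ rfl
  unfold homSub at h
  rw [h]
  unfold R
  rw [Finset.sum_multiset_map_count]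
  apply Finset.sum_congr rfl
  intro P _
  rw [smul_eq_mul, mul_assoc]

end Main

end Groth.Agent.Lib.SemiHomH1
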