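import Mathlib
import Groth.Agent.Lib.SemiLoc_helper8

/-!
# Global elements forming a basis on a neighbourhood of finitely many primes (helper8)
APPEND-ONLY once landed.
-/

set_option autoImplicit false

namespace SemiLocH8

open TensorProduct Module

section AB

variable {A : Type*} [CommRing A] {M : Type*} [AddCommGroup M] [Module A M]
  {ι : Type*} [Fintype ι] (s : ι → M)
  (T : Submonoid A) (AT : Type*) [CommRing AT] [Algebra A AT] [IsLocalization T AT]
  {MT : Type*} [AddCommGroup MT] [Module A MT] [Module AT MT] [IsScalarTower A AT MT]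
  (g : M →ₗ[A] MT) [IsLocalizedModule T g]

include T in
theorem F1_of_span (hsp : Submodule.span AT (Set.range fun j => g (s j)) = ⊤) (m : M) :
    ∃ t ∈ T, ∃ a : ι → A, t • m = ∑ j, a j • s j := by
  have hm : g m ∈ Submodule.span AT (Set.range fun j => g (s j)) := hsp ▸ Submodule.mem_top
  obtain ⟨c, hc⟩ := (Submodule.mem_span_range_iff_exists_fun AT).1 hm
  obtain ⟨b, hb⟩ := IsLocalization.exist_integer_multiples_of_finite T c
  choose a ha using hb
  have h1 : g ((b : A) • m) = g (∑ j, a j • s j) := by
    rw [map_smul, ← hc, Finset.smul_sum, map_sum]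
    refine Finset.sum_congr rfl fun j _ => ?_
    rw [map_smul, ← algebraMap_smul AT (a j) (g (s j)), ha j, smul_assoc]
  obtain ⟨c', hc'⟩ := (IsLocalizedModule.eq_iff_exists T g).1 h1
  refine ⟨(c' : A) * (b : A), T.mul_mem c'.2 b.2, fun j => (c' : A) * a j, ?_⟩
  rw [mul_smul]
  have : (c' : A) • (b : A) • m = (c' : A) • ∑ j, a j • s j := hc'
  rw [this, Finset.smul_sum]
  exact Finset.sum_congr rfl fun j _ => (mul_smul _ _ _).symm

include T in
theorem F2_of_li (hli : LinearIndependent AT (fun j => g (s j))) (a : ι → A)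
    (h : ∑ j, a j • s j = 0) (j : ι) : ∃ t ∈ T, t * a j = 0 := by
  have h1 : ∑ j, algebraMap A AT (a j) • g (s j) = 0 := by
    have := congrArg g h
    rw [map_sum, map_zero] at this
    rw [← this]
    refine Finset.sum_congr rfl fun j _ => ?_
    rw [map_smul, algebraMap_smul]
  have h2 := Fintype.linearIndependent_iff.1 hli _ h1 j
  obtain ⟨t, ht⟩ := (IsLocalization.map_eq_zero_iff T AT (a j)).1 h2
  exact ⟨t, t.2, ht⟩

include T in
theorem li_span_of_F (T₀ : Submonoid A) (hT : T₀ ≤ T)
    (F1 : ∀ m : M, ∃ t ∈ T₀, ∃ a : ι → A, t • m = ∑ j, a j • s j)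
    (F2 : ∀ a : ι → A, ∑ j, a j • s j = 0 → ∀ j, ∃ t ∈ T₀, t * a j = 0) :
    LinearIndependent AT (fun j => g (s j)) ∧
      Submodule.span AT (Set.range fun j => g (s j)) = ⊤ := by
  constructor
  · rw [Fintype.linearIndependent_iff]
    intro c hc j
    obtain ⟨b, hb⟩ := IsLocalization.exist_integer_multiples_of_finite T c
    choose a ha using hb
    have h1 : g (∑ j, a j • s j) = 0 := by
      rw [map_sum]
      have : ∑ j, g (a j • s j) = (b : A) • ∑ j, c j • g (s j) := by
        rw [Finset.smul_sum]
        refine Finset.sum_congr rfl fun j _ => ?_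
        rw [map_smul, ← algebraMap_smul AT (a j) (g (s j)), ha j, smul_assoc]
      rw [this, hc, smul_zero]
    obtain ⟨u, hu⟩ := (IsLocalizedModule.eq_zero_iff T g).1 h1
    have h2 : ∑ j, ((u : A) * a j) • s j = 0 := by
      have h3 : (u : A) • ∑ j, a j • s j = 0 := hu
      rw [← h3, Finset.smul_sum]
      exact Finset.sum_congr rfl fun j _ => mul_smul _ _ _
    obtain ⟨t, ht, hta⟩ := F2 _ h2 j
    have h4 : algebraMap A AT (a j) = 0 := by
      rw [IsLocalization.map_eq_zero_iff T AT]
      exact ⟨⟨t * u, T.mul_mem (hT ht) u.2⟩, by simpa [mul_assoc] using hta⟩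
    have h5 : (b : A) • c j = 0 := by rw [← ha j, h4]
    have hbu : IsUnit (algebraMap A AT (b : A)) := IsLocalization.map_units AT b
    rw [Algebra.smul_def] at h5
    exact (hbu.mul_right_eq_zero).1 h5
  · rw [eq_top_iff]
    intro x _
    obtain ⟨⟨m, t⟩, h⟩ := IsLocalizedModule.surj T g x
    obtain ⟨t₀, ht₀, a, ha⟩ := F1 m
    have hu : IsUnit (algebraMap A AT (t₀ * (t : A))) :=
      IsLocalization.map_units AT (⟨t₀ * t, T.mul_mem (hT ht₀) t.2⟩ : T)
    rw [← Submodule.smul_mem_iff_of_isUnit _ hu, algebraMap_smul, mul_smul]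
    have h' : (t : A) • x = g m := h
    rw [h', ← map_smul, ha, map_sum]
    refine Submodule.sum_mem _ fun j _ => ?_
    rw [map_smul, ← algebraMap_smul AT (a j) (g (s j))]
    exact Submodule.smul_mem _ _ (Submodule.subset_span ⟨j, rfl⟩)

end AB

section Main

variable {A : Type*} [CommRing A] (M : Type*) [AddCommGroup M] [Module A M]

theorem rankAtStalk_eq_of_basis_away [Module.Finite A M] [Module.Flat A M] (n : ℕ)
    (p : PrimeSpectrum A) (g : A) (hg : g ∉ p.asIdeal)
    (b : Basis (Fin n) (Localization.Away g) (LocalizedModule (Submonoid.powers g) M)) :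
    rankAtStalk M p = n := by
  have hp : p ∈ Set.range (PrimeSpectrum.comap (algebraMap A (Localization.Away g))) := by
    rw [PrimeSpectrum.localization_away_comap_range (Localization.Away g) g]
    exact hg
  obtain ⟨p', rfl⟩ := hp
  have hbc : IsBaseChange (Localization.Away g)
      (LocalizedModule.mkLinearMap (Submonoid.powers g) M) :=
    IsLocalizedModule.isBaseChange (Submonoid.powers g) (Localization.Away g) _
  rw [← rankAtStalk_isBaseChange hbc p']
  haveI : Module.Free (Localization.Away g) (LocalizedModule (Submonoid.powers g) M) :=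
    Module.Free.of_basis b
  haveI : Nontrivial (Localization.Away g) :=
    ⟨⟨0, 1, fun h => p'.isPrime.ne_top
      ((Ideal.eq_top_iff_one _).2 (h ▸ p'.asIdeal.zero_mem))⟩⟩
  rw [rankAtStalk_eq_finrank_of_free]
  simp [Module.finrank_eq_card_basis b]

theorem exists_global_basis [Module.Finite A M] [Module.Projective A M] (n : ℕ)
    (P : Finset (PrimeSpectrum A))
    (hP : ∀ p ∈ P, ∃ g : A, g ∉ p.asIdeal ∧
      Nonempty (Basis (Fin n) (Localization.Away g) (LocalizedModule (Submonoid.powers g) M))) :
    ∃ (f : A) (s : Fin n → M), (∀ p ∈ P, f ∉ p.asIdeal) ∧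
      (∀ m : M, ∃ t ∈ Submonoid.powers f, ∃ a : Fin n → A, t • m = ∑ j, a j • s j) ∧
      (∀ a : Fin n → A, ∑ j, a j • s j = 0 → ∀ j, ∃ t ∈ Submonoid.powers f, t * a j = 0) := by
  have hr : ∀ p ∈ P, rankAtStalk M p = n := by
    intro p hp
    obtain ⟨g, hg, ⟨b⟩⟩ := hP p hp
    exact rankAtStalk_eq_of_basis_away M n p g hg b
  haveI : Module.FinitePresentation A M := Module.finitePresentation_of_projective A M
  obtain ⟨f, hf, ⟨b⟩⟩ := exists_basis_away P M n hr
  change Basis (Fin n) (Localization (Submonoid.powers f))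
    (LocalizedModule (Submonoid.powers f) M) at b
  let ι := LocalizedModule.mkLinearMap (Submonoid.powers f) M
  have hs : ∀ j, ∃ mt : M × Submonoid.powers f, mt.2 • b j = ι mt.1 := fun j =>
    IsLocalizedModule.surj (Submonoid.powers f) ι (b j)
  choose mt hmt using hs
  have hw : ∀ j, IsUnit (algebraMap A (Localization (Submonoid.powers f)) ((mt j).2 : A)) :=
    fun j => IsLocalization.map_units _ (mt j).2
  let b' := b.isUnitSMul hw
  have hb' : ∀ j, b' j = ι (mt j).1 := by
    intro j
    rw [Basis.isUnitSMul_apply, algebraMap_smul]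
    exact hmt j
  have hli : LinearIndependent (Localization (Submonoid.powers f)) (fun j => ι (mt j).1) := by
    have := b'.linearIndependent
    convert this using 1
    exact funext fun j => (hb' j).symm
  have hsp : Submodule.span (Localization (Submonoid.powers f))
      (Set.range fun j => ι (mt j).1) = ⊤ := by
    have := b'.span_eq
    convert this using 2
    exact congrArg Set.range (funext fun j => (hb' j).symm)
  refine ⟨f, fun j => (mt j).1, hf, ?_, ?_⟩
  · exact F1_of_span _ (Submonoid.powers f) (Localization (Submonoid.powers f)) ι hsp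
  · exact F2_of_li _ (Submonoid.powers f) (Localization (Submonoid.powers f)) ι hli

end Main

end SemiLocH8
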