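import Mathlib

namespace Groth.Agent.Lib.SemiRefl

open TensorProduct

noncomputable def iota (R : Type*) [CommRing R] (K : Type*) [Field K] [Algebra R K]
    (A : Type*) [CommRing A] [Algebra R A] : A →ₗ[A] A ⊗[R] K where
  toFun a := a ⊗ₜ[R] (1 : K)
  map_add' a b := TensorProduct.add_tmul a b 1
  map_smul' c a := (TensorProduct.smul_tmul' c a (1 : K)).symm

section

variable {R : Type*} [CommRing R] [IsDomain R] {K : Type*} [Field K] [Algebra R K]
  [IsFractionRing R K] {A : Type*} [CommRing A] [Algebra R A]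

theorem iota_apply (a : A) : iota R K A a = a ⊗ₜ[R] (1 : K) := rfl

theorem iota_inj (hA : ∀ a : A, a ≠ 0 → ∃ f : A →ₗ[R] R, f a ≠ 0) :
    Function.Injective (iota R K A) := by
  rw [injective_iff_map_eq_zero]
  intro a ha
  by_contra hne
  obtain ⟨f, hf⟩ := hA a hne
  apply hf
  have h1 : (TensorProduct.lid R K) ((LinearMap.rTensor K f) (a ⊗ₜ[R] (1 : K))) = 0 := by
    have h2 : a ⊗ₜ[R] (1 : K) = 0 := ha
    rw [h2, map_zero, map_zero]
  rw [LinearMap.rTensor_tmul, TensorProduct.lid_tmul, Algebra.smul_def, mul_one] at h1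
  exact (IsFractionRing.injective R K) (by rw [h1, map_zero])

theorem exists_smul_mem (z : A ⊗[R] K) :
    ∃ s : R, s ≠ 0 ∧ ∃ a : A, iota R K A a = algebraMap R A s • z := by
  induction z using TensorProduct.induction_on with
  | zero => exact ⟨1, one_ne_zero, 0, by rw [map_zero, smul_zero]⟩
  | tmul a x =>
    obtain ⟨r, s, hs, rfl⟩ := IsFractionRing.div_surjective (A := R) x
    have hs0 : s ≠ 0 := nonZeroDivisors.ne_zero hs
    have hsK : algebraMap R K s ≠ 0 := by
      intro h
      exact hs0 ((IsFractionRing.injective R K) (by rw [h, map_zero]))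
    refine ⟨s, hs0, r • a, ?_⟩
    have e1 : (r • a) ⊗ₜ[R] (1 : K) = a ⊗ₜ[R] (algebraMap R K r) := by
      rw [TensorProduct.smul_tmul, Algebra.smul_def, mul_one]
    have e3 : algebraMap R K s * (algebraMap R K r / algebraMap R K s) = algebraMap R K r := by
      field_simp
    have e2 : algebraMap R A s • (a ⊗ₜ[R] (algebraMap R K r / algebraMap R K s)) =
        a ⊗ₜ[R] (algebraMap R K r) := by
      rw [TensorProduct.smul_tmul', smul_eq_mul, ← Algebra.smul_def, TensorProduct.smul_tmul,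
        Algebra.smul_def, e3]
    rw [iota_apply, e1, e2]
  | add z1 z2 h1 h2 =>
    obtain ⟨s1, hs1, a1, e1⟩ := h1
    obtain ⟨s2, hs2, a2, e2⟩ := h2
    refine ⟨s1 * s2, mul_ne_zero hs1 hs2, algebraMap R A s2 • a1 + algebraMap R A s1 • a2, ?_⟩
    rw [map_add, map_smul, map_smul, e1, e2, map_mul, smul_add, smul_smul, smul_smul,
      mul_comm (algebraMap R A s2)]

theorem smul_eq_zero_imp (S : R) (hS : S ≠ 0) (z : A ⊗[R] K)
    (h : algebraMap R A S • z = 0) : z = 0 := by
  have hSK : algebraMap R K S ≠ 0 := by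
    intro h'
    exact hS ((IsFractionRing.injective R K) (by rw [h', map_zero]))
  have key : ∀ z : A ⊗[R] K,
      (LinearMap.lTensor A (LinearMap.mulLeft R ((algebraMap R K S)⁻¹)))
        (algebraMap R A S • z) = z := by
    intro z
    induction z using TensorProduct.induction_on with
    | zero => rw [smul_zero, map_zero]
    | tmul a x =>
      rw [TensorProduct.smul_tmul', smul_eq_mul, ← Algebra.smul_def, LinearMap.lTensor_tmul,
        TensorProduct.smul_tmul, LinearMap.mulLeft_apply]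
      congr 1
      rw [Algebra.smul_def, ← mul_assoc, mul_inv_cancel₀ hSK, one_mul]
    | add z1 z2 h1 h2 => rw [smul_add, map_add, h1, h2]
  rw [← key z, h, map_zero]

theorem exists_lift {B : Type*} [AddCommGroup B] [Module A B]
    (hinj : Function.Injective (iota R K A)) (φ : B →ₗ[A] A ⊗[R] K)
    (hmem : ∀ b', φ b' ∈ LinearMap.range (iota R K A)) :
    ∃ h : B →ₗ[A] A, ∀ b', iota R K A (h b') = φ b' := by
  refine ⟨(LinearEquiv.ofInjective (iota R K A) hinj).symm.toLinearMap ∘ₗ
    LinearMap.codRestrict _ φ hmem, fun b' => ?_⟩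
  have h1 := (LinearEquiv.ofInjective (iota R K A) hinj).apply_symm_apply
    (LinearMap.codRestrict _ φ hmem b')
  exact congrArg Subtype.val h1

theorem main {B : Type*} [CommRing B] [Algebra R B] [Algebra A B] [IsScalarTower R A B]
    [Module.Finite A B]
    (hA : ∀ a : A, a ≠ 0 → ∃ f : A →ₗ[R] R, f a ≠ 0)
    (hBK : ∀ b : B, b ≠ 0 → ∃ g : B →ₗ[A] A ⊗[R] K, g b ≠ 0) :
    ∀ b : B, b ≠ 0 → ∃ h : B →ₗ[R] R, h b ≠ 0 := by
  intro b hb
  obtain ⟨g, hg⟩ := hBK b hb
  obtain ⟨n, bs, hspan⟩ := Module.Finite.exists_fin (R := A) (M := B)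
  choose s hs0 a ha using fun i => exists_smul_mem (R := R) (K := K) (g (bs i))
  obtain ⟨S, hS⟩ : ∃ S : R, S = ∏ j, s j := ⟨_, rfl⟩
  have hS0 : S ≠ 0 := by
    rw [hS]; exact Finset.prod_ne_zero_iff.mpr (fun j _ => hs0 j)
  have hmem : ∀ b' : B, (algebraMap R A S • g) b' ∈ LinearMap.range (iota R K A) := by
    have hle : (⊤ : Submodule A B) ≤
        Submodule.comap (algebraMap R A S • g) (LinearMap.range (iota R K A)) := by
      rw [← hspan, Submodule.span_le]
      rintro _ ⟨i, rfl⟩
      change ∃ y, iota R K A y = (algebraMap R A S • g) (bs i)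
      have hprod : S = (∏ j ∈ Finset.univ.erase i, s j) * s i := by
        rw [hS, mul_comm, Finset.mul_prod_erase _ _ (Finset.mem_univ i)]
      refine ⟨algebraMap R A (∏ j ∈ Finset.univ.erase i, s j) • a i, ?_⟩
      rw [map_smul, ha i, LinearMap.smul_apply, hprod, map_mul, mul_smul]
    intro b'
    exact hle Submodule.mem_top
  obtain ⟨h, hh⟩ := exists_lift (iota_inj hA) (algebraMap R A S • g) hmem
  have hhb : h b ≠ 0 := by
    intro h0
    have h1 := hh b
    rw [h0, map_zero, LinearMap.smul_apply] at h1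
    exact hg (smul_eq_zero_imp S hS0 (g b) h1.symm)
  obtain ⟨f, hf⟩ := hA (h b) hhb
  exact ⟨f ∘ₗ (h.restrictScalars R), hf⟩

end

end Groth.Agent.Lib.SemiRefl
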