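import Mathlib
import Groth.Agent.Lib.ValFP_helper1

/-!
# Semi-valuation rings: flatness and finite presentation (S17899)
-/

universe u

open TensorProduct

namespace Groth.Agent.Lib.SemiValH1

/-! ## Abstract semi-valuation setting -/

/-- The structure hypotheses of a semi-valuation ring `O ⊆ A`. -/
structure IsSV (O A : Type u) [CommRing O] [CommRing A] [IsLocalRing A] [Algebra O A] : Prop where
  inj : Function.Injective (algebraMap O A)
  max_le : ∀ a ∈ IsLocalRing.maximalIdeal A, ∃ o : O, algebraMap O A o = a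
  total : ∀ u v : A, IsUnit u → IsUnit v →
    (∃ o : O, algebraMap O A o * v = u) ∨ (∃ o : O, algebraMap O A o * u = v)

section SV

variable {O A : Type u} [CommRing O] [CommRing A] [IsLocalRing A] [Algebra O A]

theorem IsSV.exists_den (h : IsSV O A) (a : A) :
    ∃ s o : O, IsUnit (algebraMap O A s) ∧ algebraMap O A s * a = algebraMap O A o := by
  by_cases ha : a ∈ IsLocalRing.maximalIdeal A
  · obtain ⟨o, ho⟩ := h.max_le a ha
    exact ⟨1, o, by simp, by simp [ho]⟩
  · have hu : IsUnit a := IsLocalRing.notMem_maximalIdeal.mp ha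
    rcases h.total a 1 hu isUnit_one with ⟨o, ho⟩ | ⟨o, ho⟩
    · exact ⟨1, o, by simp, by simpa using ho.symm⟩
    · refine ⟨o, 1, ⟨⟨algebraMap O A o, a, ho, by rw [mul_comm]; exact ho⟩, rfl⟩, by simpa using ho⟩

theorem IsSV.exists_min (h : IsSV O A) {ι : Type*} (a : ι → A) (U : Finset ι) (hU : U.Nonempty)
    (hu : ∀ i ∈ U, IsUnit (a i)) :
    ∃ i0 ∈ U, ∀ i ∈ U, ∃ o : O, algebraMap O A o * a i0 = a i := by
  classical
  revert hu
  induction hU using Finset.Nonempty.cons_induction with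
  | singleton j =>
    intro hu
    exact ⟨j, Finset.mem_singleton_self j, fun i hi =>
      ⟨1, by rw [Finset.mem_singleton.mp hi]; simp⟩⟩
  | cons j s hj hs ih =>
    intro hu
    obtain ⟨i1, hi1, hmin⟩ := ih (fun i hi => hu i (Finset.mem_cons.mpr (Or.inr hi)))
    rcases h.total (a i1) (a j) (hu i1 (Finset.mem_cons.mpr (Or.inr hi1)))
      (hu j (Finset.mem_cons_self j s)) with ⟨o, ho⟩ | ⟨o, ho⟩
    · refine ⟨j, Finset.mem_cons_self j s, fun i hi => ?_⟩
      rcases Finset.mem_cons.mp hi with rfl | hi'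
      · exact ⟨1, by simp⟩
      · obtain ⟨o', ho'⟩ := hmin i hi'
        exact ⟨o' * o, by rw [map_mul, mul_assoc, ho, ho']⟩
    · refine ⟨i1, Finset.mem_cons.mpr (Or.inr hi1), fun i hi => ?_⟩
      rcases Finset.mem_cons.mp hi with rfl | hi'
      · exact ⟨o, ho⟩
      · exact hmin i hi'

theorem IsSV.exists_gens (h : IsSV O A) : ∀ (n : ℕ) (f : Fin n → O),
    ∃ (d : ℕ) (e : Fin d → O), Ideal.span (Set.range e) = Ideal.span (Set.range f) ∧
      ∀ a : Fin d → A, ∑ k, a k * algebraMap O A (e k) = 0 →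
        ∀ k, a k ∈ IsLocalRing.maximalIdeal A := by
  intro n
  induction n with
  | zero => intro f; exact ⟨0, f, rfl, fun a _ k => k.elim0⟩
  | succ n ih =>
    intro f
    by_cases hmin : ∀ a : Fin (n+1) → A, ∑ k, a k * algebraMap O A (f k) = 0 →
        ∀ k, a k ∈ IsLocalRing.maximalIdeal A
    · exact ⟨n+1, f, rfl, hmin⟩
    · push_neg at hmin
      obtain ⟨a, ha0, i1, hi1⟩ := hmin
      classical
      have hUne : (Finset.univ.filter (fun i => a i ∉ IsLocalRing.maximalIdeal A)).Nonempty :=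
        ⟨i1, Finset.mem_filter.mpr ⟨Finset.mem_univ _, hi1⟩⟩
      have hUu : ∀ i ∈ Finset.univ.filter (fun i => a i ∉ IsLocalRing.maximalIdeal A),
          IsUnit (a i) := fun i hi =>
        IsLocalRing.notMem_maximalIdeal.mp (Finset.mem_filter.mp hi).2
      obtain ⟨i0, hi0, hmin0⟩ := h.exists_min a _ hUne hUu
      have hu0 : IsUnit (a i0) := hUu i0 hi0
      have hc : ∀ i, ∃ c : O, algebraMap O A c * a i0 = a i := by
        intro i
        by_cases hi : i ∈ Finset.univ.filter (fun i => a i ∉ IsLocalRing.maximalIdeal A)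
        · exact hmin0 i hi
        · have hi' : a i ∈ IsLocalRing.maximalIdeal A := by
            by_contra hn
            exact hi (Finset.mem_filter.mpr ⟨Finset.mem_univ i, hn⟩)
          obtain ⟨v, hv⟩ := hu0
          obtain ⟨c, hc⟩ := h.max_le (a i * ↑v⁻¹) (Ideal.mul_mem_right _ _ hi')
          exact ⟨c, by rw [hc, ← hv, mul_assoc, Units.inv_mul, mul_one]⟩
      choose c hc using hc
      have hsum : ∑ i, c i * f i = 0 := by
        apply h.inj
        rw [map_sum, map_zero]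
        have h1 : a i0 * ∑ i, algebraMap O A (c i * f i) = 0 := by
          rw [Finset.mul_sum, ← ha0]
          refine Finset.sum_congr rfl fun i _ => ?_
          rw [map_mul, ← hc i]; ring
        exact (hu0.mul_right_eq_zero).mp h1
      have hc0 : c i0 = 1 := by
        apply h.inj
        rw [map_one]
        apply hu0.mul_left_injective
        show algebraMap O A (c i0) * a i0 = 1 * a i0
        rw [one_mul]; exact hc i0
      have hf0 : f i0 = - ∑ j, c (i0.succAbove j) * f (i0.succAbove j) := by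
        rw [Fin.sum_univ_succAbove _ i0, hc0, one_mul] at hsum
        exact eq_neg_of_add_eq_zero_left hsum
      obtain ⟨d, e, he, hemin⟩ := ih (fun j => f (i0.succAbove j))
      refine ⟨d, e, ?_, hemin⟩
      rw [he]
      apply le_antisymm
      · apply Ideal.span_mono
        rintro _ ⟨j, rfl⟩
        exact ⟨i0.succAbove j, rfl⟩
      · rw [Ideal.span_le]
        rintro _ ⟨i, rfl⟩
        show f i ∈ Ideal.span (Set.range fun j => f (i0.succAbove j))
        obtain h1 | ⟨j, h1⟩ := Fin.eq_self_or_eq_succAbove i0 i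
        · rw [h1, hf0]
          exact neg_mem (Ideal.sum_mem _ fun j _ =>
            Ideal.mul_mem_left _ _ (Ideal.subset_span ⟨j, rfl⟩))
        · rw [h1]
          exact Ideal.subset_span ⟨j, rfl⟩

variable {M : Type u} [AddCommGroup M] [Module O M]

theorem algebraMap_smul_one_tmul (o : O) (m : M) :
    algebraMap O A o • ((1 : A) ⊗ₜ[O] m) = (1 : A) ⊗ₜ[O] (o • m) := by
  rw [TensorProduct.smul_tmul', smul_eq_mul, mul_one, Algebra.algebraMap_eq_smul_one,
    TensorProduct.smul_tmul]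

theorem IsSV.exists_clear (h : IsSV O A) (y : A ⊗[O] M) :
    ∃ s : O, IsUnit (algebraMap O A s) ∧ ∃ m' : M,
      algebraMap O A s • y = (1 : A) ⊗ₜ[O] m' := by
  induction y using TensorProduct.induction_on with
  | zero => exact ⟨1, by simp, 0, by simp⟩
  | tmul a m =>
    obtain ⟨s, o, hs, hso⟩ := h.exists_den a
    refine ⟨s, hs, o • m, ?_⟩
    rw [TensorProduct.smul_tmul', smul_eq_mul, hso, Algebra.algebraMap_eq_smul_one,
      TensorProduct.smul_tmul]
  | add y1 y2 ih1 ih2 =>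
    obtain ⟨s1, hs1, m1, hm1⟩ := ih1
    obtain ⟨s2, hs2, m2, hm2⟩ := ih2
    refine ⟨s1 * s2, by rw [map_mul]; exact hs1.mul hs2, s2 • m1 + s1 • m2, ?_⟩
    rw [smul_add, map_mul]
    have e1 : (algebraMap O A s1 * algebraMap O A s2) • y1 = (1 : A) ⊗ₜ[O] (s2 • m1) := by
      rw [mul_comm, mul_smul, hm1, algebraMap_smul_one_tmul]
    have e2 : (algebraMap O A s1 * algebraMap O A s2) • y2 = (1 : A) ⊗ₜ[O] (s1 • m2) := by
      rw [mul_smul, hm2, algebraMap_smul_one_tmul]
    rw [e1, e2, TensorProduct.tmul_add]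

theorem IsSV.flat (h : IsSV O A)
    (hadm : Function.Injective (fun m : M => (1 : A) ⊗ₜ[O] m))
    [Module.Flat A (A ⊗[O] M)] : Module.Flat O M := by
  classical
  rw [Module.Flat.iff_rTensor_injective]
  intro I hI
  obtain ⟨n, f, hf⟩ := Submodule.fg_iff_exists_fin_generating_family.mp hI
  obtain ⟨d, e, he, hemin⟩ := h.exists_gens n f
  have heI : Ideal.span (Set.range e) = I := he.trans hf
  have hemem : ∀ k, e k ∈ I := fun k => heI ▸ Ideal.subset_span ⟨k, rfl⟩
  have hrep : ∀ z : I ⊗[O] M, ∃ m : Fin d → M, z = ∑ k, (⟨e k, hemem k⟩ : I) ⊗ₜ[O] m k := by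
    intro z
    induction z using TensorProduct.induction_on with
    | zero => exact ⟨0, by simp⟩
    | tmul x m0 =>
      have hx : (x : O) ∈ Ideal.span (Set.range e) := heI ▸ x.2
      obtain ⟨c, hc⟩ := (Submodule.mem_span_range_iff_exists_fun O).mp hx
      refine ⟨fun k => c k • m0, ?_⟩
      have hx' : x = ∑ k, c k • (⟨e k, hemem k⟩ : I) := by
        apply Subtype.ext
        rw [← hc]
        simp
      rw [hx', TensorProduct.sum_tmul]
      refine Finset.sum_congr rfl fun k _ => ?_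
      rw [TensorProduct.smul_tmul]
    | add z1 z2 ih1 ih2 =>
      obtain ⟨m1, h1⟩ := ih1
      obtain ⟨m2, h2⟩ := ih2
      refine ⟨m1 + m2, ?_⟩
      rw [h1, h2, ← Finset.sum_add_distrib]
      refine Finset.sum_congr rfl fun k _ => ?_
      rw [Pi.add_apply, TensorProduct.tmul_add]
  rw [injective_iff_map_eq_zero]
  intro z hz
  obtain ⟨m, rfl⟩ := hrep z
  have hrel : ∑ k, e k • m k = 0 := by
    have := congrArg (TensorProduct.lid O M) hz
    simpa [map_sum] using this
  have hrelA : ∑ k, algebraMap O A (e k) • ((1 : A) ⊗ₜ[O] m k) = 0 := by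
    simp_rw [algebraMap_smul_one_tmul]
    rw [← TensorProduct.tmul_sum, hrel, TensorProduct.tmul_zero]
  obtain ⟨l, a, y, hxy0, hfa⟩ := Module.Flat.isTrivialRelation_of_sum_smul_eq_zero hrelA
  have hxy : ∀ k, (1 : A) ⊗ₜ[O] m k = ∑ j, a k j • y j := hxy0
  have hamem : ∀ k j, a k j ∈ IsLocalRing.maximalIdeal A := by
    intro k j
    exact hemin (fun k => a k j)
      (by rw [← hfa j]; exact Finset.sum_congr rfl fun k _ => mul_comm _ _) k
  choose s hs m' hm' using fun j => h.exists_clear (y j)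
  have hb : ∀ k j, ∃ b : O, algebraMap O A b = a k j * ↑(hs j).unit⁻¹ := fun k j =>
    h.max_le _ (Ideal.mul_mem_right _ _ (hamem k j))
  choose b hb using hb
  have hmk : ∀ k, m k = ∑ j, b k j • m' j := by
    intro k
    apply hadm
    show (1 : A) ⊗ₜ[O] m k = (1 : A) ⊗ₜ[O] (∑ j, b k j • m' j)
    rw [hxy k, TensorProduct.tmul_sum]
    refine Finset.sum_congr rfl fun j _ => ?_
    rw [← algebraMap_smul_one_tmul, hb, ← hm' j, smul_smul, mul_assoc, IsUnit.val_inv_mul,
      mul_one]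
  have hbe : ∀ j, ∑ k, b k j • (⟨e k, hemem k⟩ : I) = 0 := by
    intro j
    apply Subtype.ext
    have h1 : ((∑ k, b k j • (⟨e k, hemem k⟩ : I) : I) : O) = ∑ k, b k j * e k := by simp
    rw [h1, ZeroMemClass.coe_zero]
    apply h.inj
    rw [map_sum, map_zero]
    calc ∑ k, algebraMap O A (b k j * e k)
        = ↑(hs j).unit⁻¹ * ∑ k, algebraMap O A (e k) * a k j := by
          rw [Finset.mul_sum]
          refine Finset.sum_congr rfl fun k _ => ?_
          rw [map_mul, hb]; ring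
      _ = 0 := by rw [hfa j, mul_zero]
  calc ∑ k, (⟨e k, hemem k⟩ : I) ⊗ₜ[O] m k
      = ∑ k, ∑ j, (b k j • (⟨e k, hemem k⟩ : I)) ⊗ₜ[O] m' j := by
        refine Finset.sum_congr rfl fun k _ => ?_
        rw [hmk k, TensorProduct.tmul_sum]
        refine Finset.sum_congr rfl fun j _ => ?_
        rw [TensorProduct.smul_tmul]
    _ = ∑ j, (∑ k, b k j • (⟨e k, hemem k⟩ : I)) ⊗ₜ[O] m' j := by
        rw [Finset.sum_comm]
        refine Finset.sum_congr rfl fun j _ => ?_
        rw [TensorProduct.sum_tmul]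
    _ = 0 := Finset.sum_eq_zero fun j _ => by rw [hbe j, TensorProduct.zero_tmul]

/-- the maximal ideal of `A` as an ideal of `O`. -/
abbrev mO (O A : Type u) [CommRing O] [CommRing A] [IsLocalRing A] [Algebra O A] : Ideal O :=
  (IsLocalRing.maximalIdeal A).comap (algebraMap O A)

theorem IsSV.valuationRing (h : IsSV O A) : ValuationRing (O ⧸ mO O A) := by
  refine { cond' := ?_ }
  intro a b
  obtain ⟨a, rfl⟩ := Ideal.Quotient.mk_surjective a
  obtain ⟨b, rfl⟩ := Ideal.Quotient.mk_surjective b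
  by_cases ha : a ∈ mO O A
  · exact ⟨0, Or.inr (by rw [mul_zero]; exact (Ideal.Quotient.eq_zero_iff_mem.mpr ha).symm)⟩
  by_cases hb : b ∈ mO O A
  · exact ⟨0, Or.inl (by rw [mul_zero]; exact (Ideal.Quotient.eq_zero_iff_mem.mpr hb).symm)⟩
  have hua : IsUnit (algebraMap O A a) := IsLocalRing.notMem_maximalIdeal.mp ha
  have hub : IsUnit (algebraMap O A b) := IsLocalRing.notMem_maximalIdeal.mp hb
  rcases h.total _ _ hua hub with ⟨o, ho⟩ | ⟨o, ho⟩
  · refine ⟨Ideal.Quotient.mk _ o, Or.inr ?_⟩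
    rw [← map_mul]; congr 1; apply h.inj; rw [map_mul, mul_comm]; exact ho
  · refine ⟨Ideal.Quotient.mk _ o, Or.inl ?_⟩
    rw [← map_mul]; congr 1; apply h.inj; rw [map_mul, mul_comm]; exact ho

end SV

/-! ## Finite presentation: abstract lemma -/

section FP

variable {O : Type u} [CommRing O] (𝔪 : Ideal O) {A : Type u} [CommRing A] [Algebra O A]
  {P C : Type u} [CommRing P] [Algebra O P] [CommRing C] [Algebra O C]

/-- the natural map `𝔪 ⊗ M → M`. -/
noncomputable def phi (M : Type u) [AddCommGroup M] [Module O M] : 𝔪 ⊗[O] M →ₗ[O] M :=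
  (TensorProduct.lid O M).toLinearMap ∘ₗ LinearMap.rTensor M 𝔪.subtype

theorem phi_tmul (M : Type u) [AddCommGroup M] [Module O M] (μ : 𝔪) (m : M) :
    phi 𝔪 M (μ ⊗ₜ m) = (μ : O) • m := by
  simp [phi]

theorem phi_injective (M : Type u) [AddCommGroup M] [Module O M] [Module.Flat O M] :
    Function.Injective (phi 𝔪 M) := by
  rw [phi, LinearMap.coe_comp, LinearEquiv.coe_coe]
  exact (TensorProduct.lid O M).injective.comp
    (Module.Flat.rTensor_preserves_injective_linearMap 𝔪.subtype Subtype.val_injective)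

theorem exists_phi_eq {M : Type u} [AddCommGroup M] [Module O M] {w : M}
    (hw : w ∈ 𝔪 • (⊤ : Submodule O M)) : ∃ t : 𝔪 ⊗[O] M, phi 𝔪 M t = w := by
  refine Submodule.smul_induction_on hw
    (fun r hr n _ => ⟨(⟨r, hr⟩ : 𝔪) ⊗ₜ n, phi_tmul 𝔪 M _ _⟩) ?_
  rintro x y ⟨t1, h1⟩ ⟨t2, h2⟩
  exact ⟨t1 + t2, by rw [map_add, h1, h2]⟩

theorem ker_fg_abstract
    (hmA : ∀ μ ∈ 𝔪, ∀ a : A, ∃ o : O, algebraMap O A o = μ • a)
    (hinj : Function.Injective (Algebra.TensorProduct.includeRight : P →ₐ[O] A ⊗[O] P))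
    [Module.Flat O C] (π : P →ₐ[O] C) (hπ : Function.Surjective π)
    (hA : ((RingHom.ker π).map (Algebra.TensorProduct.includeRight : P →ₐ[O] A ⊗[O] P)).FG)
    (hR : ((RingHom.ker π).map
      (Algebra.TensorProduct.includeRight : P →ₐ[O] (O ⧸ 𝔪) ⊗[O] P)).FG) :
    (RingHom.ker π).FG := by
  classical
  have hA' : (Submodule.span (A ⊗[O] P)
      ((Algebra.TensorProduct.includeRight : P →ₐ[O] A ⊗[O] P) '' (RingHom.ker π : Set P))).FG :=
    hA
  obtain ⟨TA, hTAsub, hTAspan⟩ := (Submodule.fg_span_iff_fg_span_finset_subset _).mp hA'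
  obtain ⟨H, hHsub, hHimg⟩ := Finset.subset_set_image_iff.mp hTAsub
  have hS0 : ∀ c : A ⊗[O] P, ∀ μ ∈ 𝔪, ∃ p : P,
      (Algebra.TensorProduct.includeRight : P →ₐ[O] A ⊗[O] P) p = μ • c := by
    intro c μ hμ
    induction c using TensorProduct.induction_on with
    | zero => exact ⟨0, by simp⟩
    | tmul a p0 =>
      obtain ⟨o, ho⟩ := hmA μ hμ a
      refine ⟨o • p0, ?_⟩
      rw [Algebra.TensorProduct.includeRight_apply, TensorProduct.smul_tmul', ← ho,
        Algebra.algebraMap_eq_smul_one, TensorProduct.smul_tmul]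
    | add c1 c2 ih1 ih2 =>
      obtain ⟨p1, h1⟩ := ih1
      obtain ⟨p2, h2⟩ := ih2
      exact ⟨p1 + p2, by rw [map_add, h1, h2, smul_add]⟩
  have hQ : ∀ z ∈ Submodule.span (A ⊗[O] P)
      ((Algebra.TensorProduct.includeRight : P →ₐ[O] A ⊗[O] P) '' (H : Set P)),
      ∀ c : A ⊗[O] P, ∀ μ ∈ 𝔪, ∃ y ∈ Ideal.span (H : Set P),
        (Algebra.TensorProduct.includeRight : P →ₐ[O] A ⊗[O] P) y = μ • (c * z) := by
    intro z hz
    induction hz using Submodule.span_induction with
    | mem z hz =>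
      obtain ⟨h0, hh0, rfl⟩ := hz
      intro c μ hμ
      obtain ⟨p, hp⟩ := hS0 c μ hμ
      exact ⟨p * h0, Ideal.mul_mem_left _ _ (Ideal.subset_span hh0),
        by rw [map_mul, hp, smul_mul_assoc]⟩
    | zero => intro c μ hμ; exact ⟨0, zero_mem _, by simp⟩
    | add z1 z2 _ _ ih1 ih2 =>
      intro c μ hμ
      obtain ⟨y1, hy1, e1⟩ := ih1 c μ hμ
      obtain ⟨y2, hy2, e2⟩ := ih2 c μ hμ
      exact ⟨y1 + y2, add_mem hy1 hy2, by rw [map_add, e1, e2, mul_add, smul_add]⟩
    | smul d z _ ih =>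
      intro c μ hμ
      obtain ⟨y, hy, e⟩ := ih (c * d) μ hμ
      exact ⟨y, hy, by rw [e, smul_eq_mul, mul_assoc]⟩
  have hstep1 : ∀ μ ∈ 𝔪, ∀ x ∈ RingHom.ker π, μ • x ∈ Ideal.span (H : Set P) := by
    intro μ hμ x hx
    have h1 : (Algebra.TensorProduct.includeRight : P →ₐ[O] A ⊗[O] P) x ∈
        Submodule.span (A ⊗[O] P)
          ((Algebra.TensorProduct.includeRight : P →ₐ[O] A ⊗[O] P) '' (H : Set P)) := by
      have : (Algebra.TensorProduct.includeRight : P →ₐ[O] A ⊗[O] P) x ∈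
          Submodule.span (A ⊗[O] P)
            ((Algebra.TensorProduct.includeRight : P →ₐ[O] A ⊗[O] P) ''
              (RingHom.ker π : Set P)) :=
        Submodule.subset_span ⟨x, hx, rfl⟩
      rw [hTAspan, ← hHimg, Finset.coe_image] at this
      exact this
    obtain ⟨y, hy, e⟩ := hQ _ h1 1 μ hμ
    rw [one_mul, ← map_smul] at e
    rwa [← hinj e]
  have hR' : (Submodule.span ((O ⧸ 𝔪) ⊗[O] P)
      ((Algebra.TensorProduct.includeRight : P →ₐ[O] (O ⧸ 𝔪) ⊗[O] P) ''
        (RingHom.ker π : Set P))).FG := hR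
  obtain ⟨TR, hTRsub, hTRspan⟩ := (Submodule.fg_span_iff_fg_span_finset_subset _).mp hR'
  obtain ⟨G, hGsub, hGimg⟩ := Finset.subset_set_image_iff.mp hTRsub
  have hS3 : ∀ c : (O ⧸ 𝔪) ⊗[O] P, ∃ p : P,
      (Algebra.TensorProduct.includeRight : P →ₐ[O] (O ⧸ 𝔪) ⊗[O] P) p = c := by
    intro c
    induction c using TensorProduct.induction_on with
    | zero => exact ⟨0, map_zero _⟩
    | tmul r p0 =>
      obtain ⟨o, rfl⟩ := Ideal.Quotient.mk_surjective r
      refine ⟨o • p0, ?_⟩
      have h1 : (Ideal.Quotient.mk 𝔪 o : O ⧸ 𝔪) = o • (1 : O ⧸ 𝔪) := by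
        rw [Algebra.smul_def, mul_one]; rfl
      rw [Algebra.TensorProduct.includeRight_apply, h1, TensorProduct.smul_tmul]
    | add c1 c2 ih1 ih2 =>
      obtain ⟨p1, h1⟩ := ih1
      obtain ⟨p2, h2⟩ := ih2
      exact ⟨p1 + p2, by rw [map_add, h1, h2]⟩
  have hS2 : ∀ z ∈ Submodule.span ((O ⧸ 𝔪) ⊗[O] P)
      ((Algebra.TensorProduct.includeRight : P →ₐ[O] (O ⧸ 𝔪) ⊗[O] P) '' (G : Set P)),
      ∃ y ∈ Ideal.span (G : Set P),
        (Algebra.TensorProduct.includeRight : P →ₐ[O] (O ⧸ 𝔪) ⊗[O] P) y = z := by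
    intro z hz
    induction hz using Submodule.span_induction with
    | mem z hz =>
      obtain ⟨g, hg, rfl⟩ := hz
      exact ⟨g, Ideal.subset_span hg, rfl⟩
    | zero => exact ⟨0, zero_mem _, map_zero _⟩
    | add z1 z2 _ _ ih1 ih2 =>
      obtain ⟨y1, hy1, e1⟩ := ih1
      obtain ⟨y2, hy2, e2⟩ := ih2
      exact ⟨y1 + y2, add_mem hy1 hy2, by rw [map_add, e1, e2]⟩
    | smul d z _ ih =>
      obtain ⟨y, hy, e⟩ := ih
      obtain ⟨p, hp⟩ := hS3 d
      exact ⟨p * y, Ideal.mul_mem_left _ _ hy, by rw [map_mul, hp, e, smul_eq_mul]⟩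
  have hS4 : ∀ w : P,
      (Algebra.TensorProduct.includeRight : P →ₐ[O] (O ⧸ 𝔪) ⊗[O] P) w = 0 →
        w ∈ 𝔪 • (⊤ : Submodule O P) := by
    intro w hw
    have := congrArg (TensorProduct.quotTensorEquivQuotSMul P 𝔪) hw
    rw [Algebra.TensorProduct.includeRight_apply, map_zero,
      ← map_one (Ideal.Quotient.mk 𝔪), TensorProduct.quotTensorEquivQuotSMul_mk_tmul, one_smul,
      Submodule.Quotient.mk_eq_zero] at this
    exact this
  have hsubI : Ideal.span ((G : Set P) ∪ (H : Set P)) ≤ RingHom.ker π := by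
    rw [Ideal.span_le]; exact Set.union_subset hGsub hHsub
  refine ⟨G ∪ H, ?_⟩
  rw [Finset.coe_union]
  refine le_antisymm hsubI ?_
  intro x hx
  have h2 : (Algebra.TensorProduct.includeRight : P →ₐ[O] (O ⧸ 𝔪) ⊗[O] P) x ∈
      Submodule.span ((O ⧸ 𝔪) ⊗[O] P)
        ((Algebra.TensorProduct.includeRight : P →ₐ[O] (O ⧸ 𝔪) ⊗[O] P) '' (G : Set P)) := by
    have : (Algebra.TensorProduct.includeRight : P →ₐ[O] (O ⧸ 𝔪) ⊗[O] P) x ∈
        Submodule.span ((O ⧸ 𝔪) ⊗[O] P)
          ((Algebra.TensorProduct.includeRight : P →ₐ[O] (O ⧸ 𝔪) ⊗[O] P) ''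
            (RingHom.ker π : Set P)) :=
      Submodule.subset_span ⟨x, hx, rfl⟩
    rw [hTRspan, ← hGimg, Finset.coe_image] at this
    exact this
  obtain ⟨y, hy, e⟩ := hS2 _ h2
  have hyI : y ∈ RingHom.ker π := (Ideal.span_le.mpr hGsub) hy
  have hw0 : (Algebra.TensorProduct.includeRight : P →ₐ[O] (O ⧸ 𝔪) ⊗[O] P) (x - y) = 0 := by
    rw [map_sub, e, sub_self]
  have hw : x - y ∈ 𝔪 • (⊤ : Submodule O P) := hS4 _ hw0
  have hwI : π (x - y) = 0 := by
    rw [map_sub, (RingHom.mem_ker).mp hx, (RingHom.mem_ker).mp hyI, sub_zero]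
  obtain ⟨t, ht⟩ := exists_phi_eq 𝔪 hw
  have hnat : ∀ t : 𝔪 ⊗[O] P,
      phi 𝔪 C (LinearMap.lTensor 𝔪 π.toLinearMap t) = π (phi 𝔪 P t) := by
    intro t
    induction t using TensorProduct.induction_on with
    | zero => simp
    | tmul μ p => simp [phi_tmul]
    | add t1 t2 h1 h2 => simp only [map_add, h1, h2]
  have hzero : LinearMap.lTensor 𝔪 π.toLinearMap t = 0 := by
    apply phi_injective 𝔪 C
    rw [hnat, ht, hwI, map_zero]
  have hex := lTensor_exact 𝔪 (LinearMap.exact_subtype_ker_map π.toLinearMap) hπ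
  obtain ⟨t', ht'⟩ := (hex t).mp hzero
  have hS6 : ∀ t' : 𝔪 ⊗[O] (LinearMap.ker π.toLinearMap),
      phi 𝔪 P (LinearMap.lTensor 𝔪 (LinearMap.ker π.toLinearMap).subtype t') ∈
        Ideal.span (H : Set P) := by
    intro t'
    induction t' using TensorProduct.induction_on with
    | zero => simp
    | tmul μ x =>
      rw [LinearMap.lTensor_tmul, phi_tmul]
      exact hstep1 μ μ.2 x.1 x.2
    | add t1 t2 h1 h2 => rw [map_add, map_add]; exact add_mem h1 h2
  have hwH : x - y ∈ Ideal.span (H : Set P) := by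
    rw [← ht, ← ht']; exact hS6 t'
  have hxy : x = y + (x - y) := by ring
  rw [hxy]
  exact add_mem (Ideal.span_mono Set.subset_union_left hy)
    (Ideal.span_mono Set.subset_union_right hwH)

end FP


/-! ## The valuation-ring fibre -/

theorem ker_map_fg_of_valuationRing {O : Type u} [CommRing O] (V : Type u) [CommRing V]
    [IsDomain V] [ValuationRing V] [Algebra O V] {P C : Type u} [CommRing P] [Algebra O P]
    [CommRing C] [Algebra O C] [Algebra.FiniteType O P] [Module.Flat O C] (π : P →ₐ[O] C)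
    (hπ : Function.Surjective π) :
    (RingHom.ker (Algebra.TensorProduct.map (AlgHom.id O V) π)).FG := by
  let φ : V ⊗[O] P →ₐ[V] V ⊗[O] C := Algebra.TensorProduct.map (AlgHom.id V V) π
  have hφ : Function.Surjective φ :=
    Algebra.TensorProduct.map_surjective (AlgHom.id V V) π Function.surjective_id hπ
  have hmapeq : ∀ x : V ⊗[O] P, Algebra.TensorProduct.map (AlgHom.id O V) π x = φ x := by
    intro x
    induction x using TensorProduct.induction_on with
    | zero => simp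
    | tmul a p => simp [φ]
    | add x y hx hy => simp only [map_add, hx, hy]
  letI : Algebra (V ⊗[O] P) (V ⊗[O] C) := φ.toRingHom.toAlgebra
  haveI : IsScalarTower V (V ⊗[O] P) (V ⊗[O] C) :=
    IsScalarTower.of_algebraMap_eq' φ.comp_algebraMap.symm
  haveI : Module.Finite (V ⊗[O] P) (V ⊗[O] C) :=
    Module.Finite.of_surjective (Algebra.linearMap (V ⊗[O] P) (V ⊗[O] C)) hφ
  haveI : Module.FinitePresentation (V ⊗[O] P) (V ⊗[O] C) :=
    ValFPH1.main2049 (A := V) (B := V ⊗[O] P) (M := V ⊗[O] C)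
  have hfg := Module.FinitePresentation.fg_ker (Algebra.linearMap (V ⊗[O] P) (V ⊗[O] C)) hφ
  have hker : RingHom.ker (Algebra.TensorProduct.map (AlgHom.id O V) π) =
      LinearMap.ker (Algebra.linearMap (V ⊗[O] P) (V ⊗[O] C)) := by
    ext x
    rw [RingHom.mem_ker, LinearMap.mem_ker, hmapeq]
    rfl
  rw [hker]; exact hfg

theorem main_aux {O A : Type u} [CommRing O] [CommRing A] [IsLocalRing A] [Algebra O A]
    (hsv : IsSV O A) (C : Type u) [CommRing C] [Algebra O C] [Algebra.FiniteType O C]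
    (hadm : Function.Injective (Algebra.TensorProduct.includeRight : C →ₐ[O] A ⊗[O] C))
    (hflat : Module.Flat A (A ⊗[O] C)) (hfp : Algebra.FinitePresentation A (A ⊗[O] C)) :
    Module.Flat O C ∧ Algebra.FinitePresentation O C := by
  haveI hflatO : Module.Flat O C := hsv.flat (M := C) (fun x y hxy => hadm hxy)
  refine ⟨hflatO, ?_⟩
  obtain ⟨n, π, hπ⟩ := Algebra.FiniteType.iff_quotient_mvPolynomial''.mp
    (inferInstance : Algebra.FiniteType O C)
  refine Algebra.FinitePresentation.of_surjective hπ ?_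
  show (RingHom.ker π).FG
  refine ker_fg_abstract (mO O A) (A := A) ?_ ?_ π hπ ?_ ?_
  · intro μ hμ a
    rw [Algebra.smul_def]
    exact hsv.max_le _ (Ideal.mul_mem_right _ _ hμ)
  · exact Algebra.TensorProduct.includeRight_injective hsv.inj
  · rw [← Algebra.TensorProduct.lTensor_ker (A := A) π hπ]
    have hmapeq : ∀ x : A ⊗[O] MvPolynomial (Fin n) O,
        Algebra.TensorProduct.map (AlgHom.id O A) π x =
          Algebra.TensorProduct.map (AlgHom.id A A) π x := by
      intro x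
      induction x using TensorProduct.induction_on with
      | zero => simp
      | tmul a p => simp
      | add x y hx hy => simp only [map_add, hx, hy]
    have hsurj : Function.Surjective (Algebra.TensorProduct.map (AlgHom.id A A) π) :=
      Algebra.TensorProduct.map_surjective (AlgHom.id A A) π Function.surjective_id hπ
    have hfg := Algebra.FinitePresentation.ker_fG_of_surjective
      (Algebra.TensorProduct.map (AlgHom.id A A) π) hsurj
    have hker : RingHom.ker (Algebra.TensorProduct.map (AlgHom.id O A) π) =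
        RingHom.ker (Algebra.TensorProduct.map (AlgHom.id A A) π) := by
      ext x; rw [RingHom.mem_ker, RingHom.mem_ker, hmapeq]
    rw [hker]; exact hfg
  · rw [← Algebra.TensorProduct.lTensor_ker (A := O ⧸ mO O A) π hπ]
    haveI := hsv.valuationRing
    exact ker_map_fg_of_valuationRing (O ⧸ mO O A) π hπ

section Concrete

variable (A : Type u) [CommRing A] [IsLocalRing A]
  (R : ValuationSubring (IsLocalRing.ResidueField A))

theorem isSV : IsSV ↥(R.toSubring.comap (IsLocalRing.residue A)) A where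
  inj := fun x y h => Subtype.ext h
  max_le := fun a ha => ⟨⟨a, by
      show IsLocalRing.residue A a ∈ R.toSubring
      rw [(IsLocalRing.residue_eq_zero_iff a).mpr ha]; exact zero_mem _⟩, rfl⟩
  total := fun u v hu hv => by
    obtain ⟨u', rfl⟩ := hu
    obtain ⟨v', rfl⟩ := hv
    have hxy : IsLocalRing.residue A (↑u' * ↑v'⁻¹) * IsLocalRing.residue A (↑v' * ↑u'⁻¹) = 1 := by
      rw [← map_mul, ← map_one (IsLocalRing.residue A)]
      congr 1
      rw [mul_assoc, ← mul_assoc (↑v'⁻¹ : A), Units.inv_mul, one_mul, Units.mul_inv]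
    rcases R.mem_or_inv_mem (IsLocalRing.residue A (↑u' * ↑v'⁻¹)) with hx | hx
    · left
      refine ⟨⟨↑u' * ↑v'⁻¹, hx⟩, ?_⟩
      show (↑u' * ↑v'⁻¹ : A) * ↑v' = ↑u'
      rw [mul_assoc, Units.inv_mul, mul_one]
    · right
      rw [← eq_inv_of_mul_eq_one_right hxy] at hx
      refine ⟨⟨↑v' * ↑u'⁻¹, hx⟩, ?_⟩
      show (↑v' * ↑u'⁻¹ : A) * ↑u' = ↑v'
      rw [mul_assoc, Units.inv_mul, mul_one]

theorem main17899 (O : Subring A) (hO : O = R.toSubring.comap (IsLocalRing.residue A))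
    (C : Type u) [CommRing C] [Algebra ↥O C] [Algebra.FiniteType ↥O C]
    (hadm : Function.Injective (Algebra.TensorProduct.includeRight : C →ₐ[↥O] A ⊗[↥O] C))
    (hflat : Module.Flat A (A ⊗[↥O] C)) (hfp : Algebra.FinitePresentation A (A ⊗[↥O] C)) :
    Module.Flat ↥O C ∧ Algebra.FinitePresentation ↥O C := by
  subst hO
  exact main_aux (isSV A R) C hadm hflat hfp

end Concrete

end Groth.Agent.Lib.SemiValH1
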