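import Mathlib
import Groth.Agent.Lib.DimFT_helper8

/-! A one-dimensional graded domain over an algebraically closed field is a semigroup ring. -/

set_option autoImplicit false

universe u

namespace Groth.Agent.Lib.SemigroupRingH1

section

variable {k : Type u} [Field k] {R : Type u} [CommRing R] [IsDomain R] [Algebra k R]

theorem trdeg_eq_one [Algebra.FiniteType k R] (h1 : ringKrullDim R = 1) :
    Algebra.trdeg k R = 1 := by
  obtain ⟨n, -, htr, hdim, -⟩ := Groth.Agent.DimFTH8.exists_dim_eq k R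
  rw [h1] at hdim
  have hn : n = 1 := by exact_mod_cast hdim.symm
  rw [htr, hn]; simp

theorem alg_dep (x y : R) (htr : Algebra.trdeg k R = 1) :
    ∃ P : MvPolynomial (Fin 2) k, P ≠ 0 ∧ MvPolynomial.aeval ![x, y] P = 0 := by
  by_contra hcon
  push Not at hcon
  have hai : AlgebraicIndependent k ![x, y] := by
    rw [algebraicIndependent_iff]
    intro P hP
    by_contra hne
    exact hcon P hne hP
  have h2 := hai.lift_cardinalMk_le_trdeg
  rw [htr] at h2
  simp at h2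

variable (𝒜 : ℤ → Submodule k R) [GradedAlgebra 𝒜]

theorem term_mem {n : ℤ} {x y : R} (hx : x ∈ 𝒜 n) (hy : y ∈ 𝒜 n) (c : k) (a b : ℕ) :
    algebraMap k R c * (x ^ a * y ^ b) ∈ 𝒜 (((a + b : ℕ) : ℤ) * n) := by
  rw [← Algebra.smul_def]
  apply Submodule.smul_mem
  have h3 := SetLike.mul_mem_graded (SetLike.pow_mem_graded a hx) (SetLike.pow_mem_graded b hy)
  have e : a • n + b • n = ((a + b : ℕ) : ℤ) * n := by
    push_cast; rw [add_mul]; simp [nsmul_eq_mul]
  rwa [e] at h3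

theorem eq_zero_of_sum_eq_zero {ι : Type*} (s : Finset ι) (f : ι → R) (deg : ι → ℤ)
    (hdeg : Set.InjOn deg s) (hf : ∀ i ∈ s, f i ∈ 𝒜 (deg i)) (hsum : ∑ i ∈ s, f i = 0) :
    ∀ i ∈ s, f i = 0 := by
  intro i0 hi0
  have h2 := congrArg (GradedRing.proj 𝒜 (deg i0)) hsum
  rw [map_sum, map_zero, Finset.sum_eq_single i0] at h2
  · rwa [GradedRing.proj_apply, DirectSum.decompose_of_mem_same 𝒜 (hf i0 hi0)] at h2
  · intro i hi hne
    rw [GradedRing.proj_apply,
      DirectSum.decompose_of_mem_ne 𝒜 (hf i hi) (fun h => hne (hdeg hi hi0 h))]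
  · intro h; exact absurd hi0 h

theorem hom_rel {n : ℤ} (hn : n ≠ 0) {x y : R} (hx : x ∈ 𝒜 n) (hy : y ∈ 𝒜 n)
    (P : MvPolynomial (Fin 2) k) (hP : MvPolynomial.aeval ![x, y] P = 0) (d : ℕ) :
    ∑ s ∈ P.support.filter (fun s => s 0 + s 1 = d),
      algebraMap k R (P.coeff s) * (x ^ s 0 * y ^ s 1) = 0 := by
  have h1 : MvPolynomial.aeval ![x, y] P =
      ∑ s ∈ P.support, algebraMap k R (P.coeff s) * (x ^ s 0 * y ^ s 1) := by
    rw [MvPolynomial.aeval_def, MvPolynomial.eval₂_eq']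
    refine Finset.sum_congr rfl (fun s _ => ?_)
    rw [Fin.prod_univ_two]; rfl
  rw [h1] at hP
  have h2 := congrArg (GradedRing.proj 𝒜 ((d : ℤ) * n)) hP
  rw [map_sum, map_zero] at h2
  rw [Finset.sum_filter]
  refine Eq.trans (Finset.sum_congr rfl ?_) h2
  intro s _
  have hm := term_mem 𝒜 hx hy (P.coeff s) (s 0) (s 1)
  split_ifs with hs
  · rw [GradedRing.proj_apply]
    rw [hs] at hm
    exact (DirectSum.decompose_of_mem_same 𝒜 hm).symm
  · rw [GradedRing.proj_apply]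
    refine (DirectSum.decompose_of_mem_ne 𝒜 hm ?_).symm
    intro h
    apply hs
    have := mul_right_cancel₀ hn h
    exact_mod_cast this

theorem dim_le_one [IsAlgClosed k] (htr : Algebra.trdeg k R = 1) {n : ℤ} (hn : n ≠ 0) {x y : R}
    (hx : x ∈ 𝒜 n) (hy : y ∈ 𝒜 n) (hy0 : y ≠ 0) : ∃ c : k, x = c • y := by
  obtain ⟨P, hP0, hP⟩ := alg_dep x y htr
  obtain ⟨s0, hs0⟩ : ∃ s, s ∈ P.support := by
    by_contra hcon; push Not at hcon
    exact hP0 (MvPolynomial.support_eq_empty.mp (Finset.eq_empty_of_forall_notMem hcon))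
  obtain ⟨d, hd⟩ : ∃ d, d = s0 0 + s0 1 := ⟨_, rfl⟩
  have hrel := hom_rel 𝒜 hn hx hy P hP d
  obtain ⟨S, hS⟩ : ∃ S, S = P.support.filter (fun s => s 0 + s 1 = d) := ⟨_, rfl⟩
  rw [← hS] at hrel
  have hSd : ∀ s ∈ S, s 0 + s 1 = d := by
    intro s hs; rw [hS] at hs; exact (Finset.mem_filter.mp hs).2
  have hs0S : s0 ∈ S := by rw [hS]; exact Finset.mem_filter.mpr ⟨hs0, hd.symm⟩
  obtain ⟨p, hp⟩ : ∃ p : Polynomial k,
      p = ∑ s ∈ S, Polynomial.C (P.coeff s) * Polynomial.X ^ (s 0) := ⟨_, rfl⟩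
  have hp0 : p ≠ 0 := by
    intro h
    have hc : Polynomial.coeff p (s0 0) = 0 := by rw [h]; simp
    rw [hp, Polynomial.finset_sum_coeff] at hc
    simp only [Polynomial.coeff_C_mul_X_pow] at hc
    rw [Finset.sum_eq_single s0] at hc
    · rw [if_pos rfl] at hc
      exact (MvPolynomial.mem_support_iff.mp hs0) hc
    · intro s hs hne
      rw [if_neg]
      intro h0
      apply hne
      have hsd := hSd s hs
      have hsd0 := hSd s0 hs0S
      ext i
      fin_cases i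
      · exact h0.symm
      · show s 1 = s0 1
        omega
    · intro hnot; exact absurd hs0S hnot
  let L := FractionRing R
  have hyL : algebraMap R L y ≠ 0 := by
    intro h
    exact hy0 ((IsFractionRing.injective R L) (by rw [h, map_zero]))
  obtain ⟨u, hu⟩ : ∃ u : L, u = algebraMap R L x / algebraMap R L y := ⟨_, rfl⟩
  have hxu : algebraMap R L x = u * algebraMap R L y := by
    rw [hu, div_mul_cancel₀ _ hyL]
  have hroot : Polynomial.aeval u p = 0 := by
    have h2 := congrArg (algebraMap R L) hrel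
    rw [map_sum, map_zero] at h2
    have h3 : ∀ s ∈ S, algebraMap R L (algebraMap k R (P.coeff s) * (x ^ s 0 * y ^ s 1)) =
        algebraMap R L y ^ d * (algebraMap k L (P.coeff s) * u ^ (s 0)) := by
      intro s hs
      have hsd := hSd s hs
      rw [map_mul, map_mul, map_pow, map_pow, ← IsScalarTower.algebraMap_apply, ← hsd, pow_add,
        hxu, mul_pow]
      ring
    rw [Finset.sum_congr rfl h3, ← Finset.mul_sum] at h2
    have h4 := (mul_eq_zero.mp h2).resolve_left (pow_ne_zero _ hyL)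
    rw [hp, map_sum]
    rw [← h4]
    refine Finset.sum_congr rfl (fun s _ => ?_)
    rw [map_mul, Polynomial.aeval_C, map_pow, Polynomial.aeval_X]
  have hint : IsIntegral k u := isAlgebraic_iff_isIntegral.mp ⟨p, hp0, hroot⟩
  have hdeg := IsAlgClosed.degree_eq_one_of_irreducible k (minpoly.irreducible hint)
  obtain ⟨c, hc⟩ := minpoly.mem_range_of_degree_eq_one k u hdeg
  refine ⟨c, ?_⟩
  apply IsFractionRing.injective R L
  rw [hxu, ← hc, Algebra.smul_def, map_mul, ← IsScalarTower.algebraMap_apply]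

theorem dim_le_one' [IsAlgClosed k] (htr : Algebra.trdeg k R = 1)
    (h0 : 𝒜 0 = Submodule.span k {(1 : R)}) (n : ℤ) {x y : R}
    (hx : x ∈ 𝒜 n) (hy : y ∈ 𝒜 n) (hy0 : y ≠ 0) : ∃ c : k, x = c • y := by
  by_cases hn : n = 0
  · subst hn
    rw [h0] at hx hy
    obtain ⟨a, rfl⟩ := Submodule.mem_span_singleton.mp hx
    obtain ⟨b, rfl⟩ := Submodule.mem_span_singleton.mp hy
    have hb : b ≠ 0 := by rintro rfl; exact hy0 (zero_smul _ _)
    exact ⟨a / b, by rw [smul_smul, div_mul_cancel₀ _ hb]⟩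
  · exact dim_le_one 𝒜 htr hn hx hy hy0

/-- the degrees in which the graded ring is nonzero -/
def Hm : AddSubmonoid ℕ where
  carrier := {h | 𝒜 (h : ℤ) ≠ ⊥}
  zero_mem' := by
    show 𝒜 ((0 : ℕ) : ℤ) ≠ ⊥
    intro h
    have h1 : (1 : R) ∈ 𝒜 0 := SetLike.GradedOne.one_mem
    rw [Nat.cast_zero] at h
    rw [h] at h1
    exact one_ne_zero ((Submodule.mem_bot k).mp h1)
  add_mem' := by
    intro a b ha hb
    obtain ⟨x, hx, hx0⟩ := Submodule.exists_mem_ne_zero_of_ne_bot ha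
    obtain ⟨y, hy, hy0⟩ := Submodule.exists_mem_ne_zero_of_ne_bot hb
    show 𝒜 ((a + b : ℕ) : ℤ) ≠ ⊥
    intro h
    have h1 := SetLike.mul_mem_graded hx hy
    rw [Nat.cast_add] at h
    rw [h] at h1
    exact mul_ne_zero hx0 hy0 ((Submodule.mem_bot k).mp h1)

theorem mem_Hm (h : ℕ) : h ∈ Hm 𝒜 ↔ 𝒜 (h : ℤ) ≠ ⊥ := Iff.rfl

theorem part1 (hpos : ∀ n : ℤ, n < 0 → 𝒜 n = ⊥)
    (hdim : ∀ (n : ℤ) {x y : R}, x ∈ 𝒜 n → y ∈ 𝒜 n → y ≠ 0 → ∃ c : k, x = c • y) :
    ∃ H : AddSubmonoid ℕ, Nonempty (R ≃+* AddMonoidAlgebra k H) := by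
  refine ⟨Hm 𝒜, ?_⟩
  obtain ⟨d, hd⟩ : ∃ d, d = Nat.setGcd (Hm 𝒜 : Set ℕ) := ⟨_, rfl⟩
  obtain ⟨N, hN⟩ := Nat.exists_mem_closure_of_ge (Hm 𝒜 : Set ℕ)
  rw [AddSubmonoid.closure_eq, ← hd] at hN
  have hdvd : ∀ h ∈ Hm 𝒜, d ∣ h := by
    intro h hh; rw [hd]; exact Nat.setGcd_dvd_of_mem hh
  have hj : d * N ∈ Hm 𝒜 := by
    by_cases hd0 : d = 0
    · rw [hd0, zero_mul]; exact zero_mem _
    · exact hN _ (Nat.le_mul_of_pos_left N (Nat.pos_of_ne_zero hd0)) (dvd_mul_right d N)
  have hi : d * (N + 1) ∈ Hm 𝒜 := by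
    by_cases hd0 : d = 0
    · rw [hd0, zero_mul]; exact zero_mem _
    · exact hN _ (le_trans (Nat.le_succ N) (Nat.le_mul_of_pos_left (N + 1) (Nat.pos_of_ne_zero hd0)))
        (dvd_mul_right d (N + 1))
  obtain ⟨a, ha, ha0⟩ := Submodule.exists_mem_ne_zero_of_ne_bot ((mem_Hm 𝒜 _).mp hj)
  obtain ⟨b, hb, hb0⟩ := Submodule.exists_mem_ne_zero_of_ne_bot ((mem_Hm 𝒜 _).mp hi)
  have key : ∀ h, h ∈ Hm 𝒜 → ∃ e : R, e ∈ 𝒜 (h : ℤ) ∧ e * a ^ (h / d) = b ^ (h / d) := by
    intro h hh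
    obtain ⟨z, hz, hz0⟩ := Submodule.exists_mem_ne_zero_of_ne_bot ((mem_Hm 𝒜 _).mp hh)
    have hdiv : d * (h / d) = h := Nat.mul_div_cancel' (hdvd h hh)
    obtain ⟨q, hq⟩ : ∃ q, q = h / d := ⟨_, rfl⟩
    rw [← hq] at hdiv ⊢
    have m1 : z * a ^ q ∈ 𝒜 ((h : ℤ) + q • ((d * N : ℕ) : ℤ)) :=
      SetLike.mul_mem_graded hz (SetLike.pow_mem_graded q ha)
    have m2 : b ^ q ∈ 𝒜 (q • ((d * (N + 1) : ℕ) : ℤ)) := SetLike.pow_mem_graded q hb
    have hdeg : (h : ℤ) + q • ((d * N : ℕ) : ℤ) = q • ((d * (N + 1) : ℕ) : ℤ) := by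
      simp only [nsmul_eq_mul]
      rw [← hdiv]; push_cast; ring
    rw [hdeg] at m1
    have hne : z * a ^ q ≠ 0 := mul_ne_zero hz0 (pow_ne_zero _ ha0)
    obtain ⟨c, hc⟩ := hdim _ m2 m1 hne
    exact ⟨c • z, Submodule.smul_mem _ _ hz, by rw [smul_mul_assoc, ← hc]⟩
  choose! e he1 he2 using key
  have he_ne : ∀ h ∈ Hm 𝒜, e h ≠ 0 := by
    intro h hh h0
    have := he2 h hh
    rw [h0, zero_mul] at this
    exact pow_ne_zero _ hb0 this.symm
  have he_zero : e 0 = 1 := by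
    have := he2 0 (zero_mem _)
    rwa [Nat.zero_div, pow_zero, pow_zero, mul_one] at this
  have he_add : ∀ h ∈ Hm 𝒜, ∀ h' ∈ Hm 𝒜, e (h + h') = e h * e h' := by
    intro h hh h' hh'
    have hq : (h + h') / d = h / d + h' / d := Nat.add_div_of_dvd_right (hdvd h hh)
    apply mul_right_cancel₀ (pow_ne_zero ((h + h') / d) ha0)
    rw [he2 _ (add_mem hh hh'), hq, pow_add, pow_add, mul_mul_mul_comm, he2 h hh, he2 h' hh']
  let φ : Multiplicative (Hm 𝒜) →* R :=
    { toFun := fun x => e ((Multiplicative.toAdd x : Hm 𝒜) : ℕ)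
      map_one' := he_zero
      map_mul' := fun x y => he_add _ (Multiplicative.toAdd x).2 _ (Multiplicative.toAdd y).2 }
  let ψ : AddMonoidAlgebra k (Hm 𝒜) →ₐ[k] R := AddMonoidAlgebra.lift k R (Hm 𝒜) φ
  have hψ : ∀ f : AddMonoidAlgebra k (Hm 𝒜), ψ f = f.coeff.sum fun h c => c • e (h : ℕ) :=
    fun f => AddMonoidAlgebra.lift_apply φ f
  have hinj : Function.Injective ψ := by
    rw [injective_iff_map_eq_zero]
    intro f hf
    rw [hψ, Finsupp.sum] at hf
    have hz := eq_zero_of_sum_eq_zero 𝒜 f.coeff.support (fun h => f.coeff h • e (h : ℕ))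
      (fun h => ((h : ℕ) : ℤ))
      (fun h _ h' _ hh' => Subtype.ext (Nat.cast_injective hh'))
      (fun h _ => Submodule.smul_mem _ _ (he1 h h.2)) hf
    rw [← AddMonoidAlgebra.coeff_eq_zero]
    ext h
    by_contra hne
    have hmem : h ∈ f.coeff.support := Finsupp.mem_support_iff.mpr hne
    have := hz h hmem
    rcases smul_eq_zero.mp this with h1 | h1
    · exact hne h1
    · exact he_ne h h.2 h1
  have hsurj : Function.Surjective ψ := by
    intro r
    induction r using DirectSum.Decomposition.inductionOn 𝒜 with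
    | zero => exact ⟨0, map_zero _⟩
    | @homogeneous i m =>
      by_cases hm : (m : R) = 0
      · exact ⟨0, by rw [hm, map_zero]⟩
      · have hi0 : 0 ≤ i := by
          by_contra hneg
          push Not at hneg
          have := (hpos i hneg).le m.2
          exact hm ((Submodule.mem_bot k).mp this)
        obtain ⟨h, rfl⟩ := Int.eq_ofNat_of_zero_le hi0
        have hh : h ∈ Hm 𝒜 := by
          intro hbot
          have := hbot.le m.2
          exact hm ((Submodule.mem_bot k).mp this)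
        obtain ⟨c, hc⟩ := hdim _ m.2 (he1 h hh) (he_ne h hh)
        refine ⟨AddMonoidAlgebra.single ⟨h, hh⟩ c, ?_⟩
        show AddMonoidAlgebra.lift k R (Hm 𝒜) φ (AddMonoidAlgebra.single ⟨h, hh⟩ c) = _
        rw [AddMonoidAlgebra.lift_single]
        exact hc.symm
    | add x y hx hy =>
      obtain ⟨fx, rfl⟩ := hx
      obtain ⟨fy, rfl⟩ := hy
      exact ⟨fx + fy, map_add _ _ _⟩
  exact ⟨(AlgEquiv.ofBijective ψ ⟨hinj, hsurj⟩).toRingEquiv.symm⟩

theorem part2 (hpos : ∀ n : ℤ, n < 0 → 𝒜 n = ⊥) (h0 : 𝒜 0 = Submodule.span k {(1 : R)})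
    (hdim : ∀ (n : ℤ) {x y : R}, x ∈ 𝒜 n → y ∈ 𝒜 n → y ≠ 0 → ∃ c : k, x = c • y)
    (h1 : ringKrullDim R = 1) :
    Ideal.span (⋃ n ∈ Set.Ioi (0 : ℤ), (𝒜 n : Set R)) =
      Ideal.span ((𝒜 1 : Submodule k R) : Set R) → Nonempty (R ≃+* Polynomial k) := by
  intro hgen
  by_cases hA1 : 𝒜 1 = ⊥
  · exfalso
    have hbot : ∀ n : ℤ, 0 < n → 𝒜 n = ⊥ := by
      intro n hn
      rw [eq_bot_iff]; intro x hx
      have hx' : x ∈ Ideal.span (⋃ n ∈ Set.Ioi (0 : ℤ), (𝒜 n : Set R)) :=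
        Ideal.subset_span (Set.mem_biUnion (Set.mem_Ioi.mpr hn) hx)
      rw [hgen, hA1] at hx'
      have : x = 0 := by simpa using hx'
      rw [this]; exact zero_mem _
    have hall : ∀ r : R, ∃ c : k, r = c • (1 : R) := by
      intro r
      induction r using DirectSum.Decomposition.inductionOn 𝒜 with
      | zero => exact ⟨0, by simp⟩
      | @homogeneous i m =>
        rcases lt_trichotomy i 0 with hi | hi | hi
        · have := (hpos i hi).le m.2
          exact ⟨0, by rw [(Submodule.mem_bot k).mp this, zero_smul]⟩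
        · subst hi
          have := h0.le m.2
          obtain ⟨c, hc⟩ := Submodule.mem_span_singleton.mp this
          exact ⟨c, hc.symm⟩
        · have := (hbot i hi).le m.2
          exact ⟨0, by rw [(Submodule.mem_bot k).mp this, zero_smul]⟩
      | add x y hx hy =>
        obtain ⟨c, rfl⟩ := hx
        obtain ⟨c', rfl⟩ := hy
        exact ⟨c + c', by rw [add_smul]⟩
    have hF : IsField R := by
      refine ⟨⟨0, 1, zero_ne_one⟩, mul_comm, ?_⟩
      intro r hr
      obtain ⟨c, rfl⟩ := hall r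
      have hc : c ≠ 0 := by rintro rfl; exact hr (zero_smul _ _)
      exact ⟨c⁻¹ • 1, by rw [smul_mul_smul_comm, mul_one, mul_inv_cancel₀ hc, one_smul]⟩
    have := ringKrullDim_eq_zero_of_isField hF
    rw [h1] at this
    exact one_ne_zero this
  · obtain ⟨t, ht, ht0⟩ := Submodule.exists_mem_ne_zero_of_ne_bot hA1
    have hspan : Ideal.span ((𝒜 1 : Submodule k R) : Set R) = Ideal.span {t} := by
      apply le_antisymm
      · rw [Ideal.span_le]; intro x hx
        obtain ⟨c, rfl⟩ := hdim 1 hx ht ht0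
        rw [Algebra.smul_def]
        exact Ideal.mul_mem_left _ _ (Ideal.mem_span_singleton_self t)
      · exact Ideal.span_mono (Set.singleton_subset_iff.mpr ht)
    have hpow : ∀ n : ℕ, ∀ x ∈ 𝒜 (n : ℤ), ∃ c : k, x = c • t ^ n := by
      intro n
      induction n with
      | zero =>
        intro x hx
        rw [Nat.cast_zero, h0] at hx
        obtain ⟨c, hc⟩ := Submodule.mem_span_singleton.mp hx
        exact ⟨c, by rw [pow_zero]; exact hc.symm⟩
      | succ n ih =>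
        intro x hx
        have hx' : x ∈ Ideal.span {t} := by
          rw [← hspan, ← hgen]
          exact Ideal.subset_span (Set.mem_biUnion (Set.mem_Ioi.mpr (by positivity)) hx)
        obtain ⟨r, rfl⟩ := Ideal.mem_span_singleton'.mp hx'
        have hdec := DirectSum.coe_decompose_mul_add_of_right_mem 𝒜 (a := r) (i := (n : ℤ)) ht
        have hx2 : r * t ∈ 𝒜 ((n : ℤ) + 1) := by
          have := hx; rwa [Nat.cast_succ] at this
        have hsame := DirectSum.decompose_of_mem_same 𝒜 hx2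
        obtain ⟨c, hc⟩ := ih _ (DirectSum.decompose 𝒜 r (n : ℤ)).2
        exact ⟨c, by rw [← hsame, hdec, hc, smul_mul_assoc, pow_succ]⟩
    have hsurj : Function.Surjective (Polynomial.aeval (R := k) t) := by
      intro r
      induction r using DirectSum.Decomposition.inductionOn 𝒜 with
      | zero => exact ⟨0, map_zero _⟩
      | @homogeneous i m =>
        by_cases hi : i < 0
        · have := (hpos i hi).le m.2
          exact ⟨0, by rw [(Submodule.mem_bot k).mp this, map_zero]⟩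
        · push Not at hi
          obtain ⟨h, rfl⟩ := Int.eq_ofNat_of_zero_le hi
          obtain ⟨c, hc⟩ := hpow h _ m.2
          exact ⟨Polynomial.monomial h c, by
            rw [Polynomial.aeval_monomial, hc, Algebra.smul_def]⟩
      | add x y hx hy =>
        obtain ⟨fx, rfl⟩ := hx
        obtain ⟨fy, rfl⟩ := hy
        exact ⟨fx + fy, map_add _ _ _⟩
    have hinj : Function.Injective (Polynomial.aeval (R := k) t) := by
      rw [injective_iff_map_eq_zero]
      intro p hp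
      rw [Polynomial.aeval_eq_sum_range] at hp
      have hz := eq_zero_of_sum_eq_zero 𝒜 (Finset.range (p.natDegree + 1))
        (fun i => p.coeff i • t ^ i) (fun i => (i : ℤ))
        (fun i _ j _ hij => Nat.cast_injective hij)
        (fun i _ => Submodule.smul_mem _ _ (by simpa using SetLike.pow_mem_graded i ht)) hp
      ext n
      rw [Polynomial.coeff_zero]
      by_cases hn : n ∈ Finset.range (p.natDegree + 1)
      · exact (smul_eq_zero.mp (hz n hn)).resolve_right (pow_ne_zero n ht0)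
      · apply Polynomial.coeff_eq_zero_of_natDegree_lt
        rw [Finset.mem_range] at hn
        omega
    exact ⟨(AlgEquiv.ofBijective (Polynomial.aeval (R := k) t) ⟨hinj, hsurj⟩).toRingEquiv.symm⟩

end

theorem main18653 (k : Type u) [Field k] [IsAlgClosed k] (R : Type u) [CommRing R] [IsDomain R]
    [Algebra k R] (𝒜 : ℤ → Submodule k R) [GradedAlgebra 𝒜] (hpos : ∀ n : ℤ, n < 0 → 𝒜 n = ⊥)
    (h0 : 𝒜 0 = Submodule.span k {(1 : R)}) [Algebra.FiniteType k R] (h1 : ringKrullDim R = 1) :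
    (∃ H : AddSubmonoid ℕ, Nonempty (R ≃+* AddMonoidAlgebra k H)) ∧
      (Ideal.span (⋃ n ∈ Set.Ioi (0 : ℤ), (𝒜 n : Set R)) =
        Ideal.span ((𝒜 1 : Submodule k R) : Set R) → Nonempty (R ≃+* Polynomial k)) := by
  have htr : Algebra.trdeg k R = 1 := trdeg_eq_one h1
  have hdim : ∀ (n : ℤ) {x y : R}, x ∈ 𝒜 n → y ∈ 𝒜 n → y ≠ 0 → ∃ c : k, x = c • y :=
    fun n {x y} hx hy hy0 => dim_le_one' 𝒜 htr h0 n hx hy hy0
  exact ⟨part1 𝒜 hpos hdim, part2 𝒜 hpos h0 hdim h1⟩

end Groth.Agent.Lib.SemigroupRingH1
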