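import Mathlib

/-!
# Fitting decomposition for semilinear endomorphisms of finite length modules (S15504)
-/

universe u v

namespace Groth.Agent.Lib.SemilinearFitting

section General

variable {R : Type*} [CommRing R] (τ : R ≃+* R) {M : Type*} [AddCommGroup M] [Module R M]
  (φ : M →ₛₗ[(τ : R →+* R)] M)

lemma iter_zero (n : ℕ) : (⇑φ)^[n] 0 = 0 := by
  induction n with
  | zero => rfl
  | succ n ih => rw [Function.iterate_succ_apply', ih, map_zero]

lemma iter_add (n : ℕ) (x y : M) : (⇑φ)^[n] (x + y) = (⇑φ)^[n] x + (⇑φ)^[n] y := by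
  induction n with
  | zero => rfl
  | succ n ih =>
    rw [Function.iterate_succ_apply', Function.iterate_succ_apply', Function.iterate_succ_apply',
      ih, map_add]

lemma iter_sub (n : ℕ) (x y : M) : (⇑φ)^[n] (x - y) = (⇑φ)^[n] x - (⇑φ)^[n] y := by
  have := iter_add τ φ n (x - y) y
  rw [sub_add_cancel] at this
  rw [this, add_sub_cancel_right]

lemma iter_smul (n : ℕ) (a : R) (x : M) :
    (⇑φ)^[n] (a • x) = ((⇑τ)^[n] a) • (⇑φ)^[n] x := by
  induction n with
  | zero => rfl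
  | succ n ih =>
    rw [Function.iterate_succ_apply', Function.iterate_succ_apply', Function.iterate_succ_apply',
      ih, map_smulₛₗ]
    rfl

/-- kernel of the `n`-th iterate. -/
def kerN (n : ℕ) : Submodule R M where
  carrier := {x | (⇑φ)^[n] x = 0}
  zero_mem' := iter_zero τ φ n
  add_mem' := by
    intro x y hx hy
    simp only [Set.mem_setOf_eq] at *
    rw [iter_add, hx, hy, add_zero]
  smul_mem' := by
    intro a x hx
    simp only [Set.mem_setOf_eq] at *
    rw [iter_smul, hx, smul_zero]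

/-- image of the `n`-th iterate. -/
def imN (n : ℕ) : Submodule R M where
  carrier := Set.range (⇑φ)^[n]
  zero_mem' := ⟨0, iter_zero τ φ n⟩
  add_mem' := by
    rintro _ _ ⟨x, rfl⟩ ⟨y, rfl⟩
    exact ⟨x + y, iter_add τ φ n x y⟩
  smul_mem' := by
    rintro a _ ⟨x, rfl⟩
    refine ⟨((⇑τ.symm)^[n] a) • x, ?_⟩
    rw [iter_smul]
    congr 1
    exact (Function.LeftInverse.iterate (f := ⇑τ.symm) (g := ⇑τ) τ.apply_symm_apply n) a

lemma mem_kerN {n : ℕ} {x : M} : x ∈ kerN τ φ n ↔ (⇑φ)^[n] x = 0 := Iff.rfl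

lemma mem_imN {n : ℕ} {x : M} : x ∈ imN τ φ n ↔ ∃ y, (⇑φ)^[n] y = x := Iff.rfl

theorem fitting [IsNoetherian R M] [IsArtinian R M] :
    ∃ Ms Mn : Submodule R M, IsCompl Ms Mn ∧
      Set.MapsTo φ Ms Ms ∧ Set.MapsTo φ Mn Mn ∧ Set.BijOn φ Ms Ms ∧
      ∃ r : ℕ, ∀ x ∈ Mn, (⇑φ)^[r] x = 0 := by
  have hKmono : Monotone (kerN τ φ) := monotone_nat_of_le_succ (fun n x hx => by
    rw [mem_kerN] at hx ⊢
    rw [Function.iterate_succ_apply', hx, map_zero])
  have hIanti : Antitone (imN τ φ) := antitone_nat_of_succ_le (fun n x hx => by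
    rw [mem_imN] at hx ⊢
    obtain ⟨y, rfl⟩ := hx
    exact ⟨φ y, (Function.iterate_succ_apply (⇑φ) n y).symm⟩)
  obtain ⟨n1, hn1⟩ := (monotone_stabilizes_iff_noetherian (R := R) (M := M)).mpr inferInstance
    ⟨kerN τ φ, hKmono⟩
  obtain ⟨n2, hn2⟩ := IsArtinian.monotone_stabilizes
    (⟨fun n => OrderDual.toDual (imN τ φ n), fun a b h => hIanti h⟩ : ℕ →o (Submodule R M)ᵒᵈ)
  set n := max n1 n2 with hn
  have hK : ∀ m, n ≤ m → kerN τ φ n = kerN τ φ m := fun m hm =>
    (hn1 n (le_max_left _ _)).symm.trans (hn1 m ((le_max_left _ _).trans hm))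
  have hI : ∀ m, n ≤ m → imN τ φ n = imN τ φ m := fun m hm => by
    have h1 := hn2 n (le_max_right _ _)
    have h2 := hn2 m ((le_max_right _ _).trans hm)
    exact OrderDual.toDual.injective (h1.symm.trans h2)
  have hdisj : ∀ x ∈ imN τ φ n, x ∈ kerN τ φ n → x = 0 := by
    rintro x ⟨y, rfl⟩ hx
    rw [mem_kerN] at hx
    have hy : y ∈ kerN τ φ (n + n) := by
      rw [mem_kerN, Function.iterate_add_apply]; exact hx
    rw [← hK (n + n) (Nat.le_add_right n n)] at hy
    exact hy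
  have hmaps : Set.MapsTo φ (imN τ φ n) (imN τ φ n) := by
    rintro _ ⟨y, rfl⟩
    exact ⟨φ y, by rw [← Function.iterate_succ_apply, Function.iterate_succ_apply']⟩
  refine ⟨imN τ φ n, kerN τ φ n, ⟨?_, ?_⟩, hmaps, ?_, ⟨hmaps, ?_, ?_⟩, n, fun x hx => hx⟩
  · rw [Submodule.disjoint_def]
    exact hdisj
  · rw [Submodule.codisjoint_iff_exists_add_eq]
    intro x
    have hx : (⇑φ)^[n] x ∈ imN τ φ n := ⟨x, rfl⟩
    rw [hI (n + n) (Nat.le_add_right n n)] at hx
    obtain ⟨y, hy⟩ := hx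
    rw [Function.iterate_add_apply] at hy
    refine ⟨(⇑φ)^[n] y, x - (⇑φ)^[n] y, ⟨y, rfl⟩, ?_, by abel⟩
    rw [mem_kerN, iter_sub, hy, sub_self]
  · intro x hx
    have hx' : (⇑φ)^[n] x = 0 := hx
    show (⇑φ)^[n] (φ x) = 0
    rw [← Function.iterate_succ_apply, Function.iterate_succ_apply', hx', map_zero]
  · intro x hx x' hx' hxx
    have h0 : φ (x - x') = 0 := by rw [map_sub, hxx, sub_self]
    have h1 : x - x' ∈ kerN τ φ (n + 1) := by
      apply hKmono (Nat.le_add_left 1 n)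
      rw [mem_kerN]
      exact h0
    rw [← hK (n + 1) (Nat.le_succ n)] at h1
    have h2 := hdisj (x - x') (sub_mem hx hx') h1
    exact sub_eq_zero.mp h2
  · intro x hx
    have hx2 : x ∈ imN τ φ (n + 1) := by rw [← hI (n + 1) (Nat.le_succ n)]; exact hx
    obtain ⟨y, rfl⟩ := hx2
    exact ⟨(⇑φ)^[n] y, ⟨y, rfl⟩, (Function.iterate_succ_apply' (⇑φ) n y).symm⟩

end General

lemma isArtinian_of_torsion {R M : Type*} [CommRing R] [IsDomain R] [IsNoetherianRing R]
    [Ring.KrullDimLE 1 R] [AddCommGroup M] [Module R M] [Module.Finite R M]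
    (hM : Module.IsTorsion R M) : IsArtinian R M := by
  obtain ⟨a, ha, ha0⟩ := Submodule.annihilator_top_inter_nonZeroDivisors hM
  have hT : Module.IsTorsionBy R M a := fun x =>
    (Submodule.mem_annihilator.mp ha) x trivial
  have hT' : Module.IsTorsionBySet R M (Ideal.span {a} : Ideal R) :=
    (Module.isTorsionBySet_span_singleton_iff a).mpr hT
  letI : Module (R ⧸ Ideal.span {a}) M := hT'.module
  haveI : IsScalarTower R (R ⧸ Ideal.span {a}) M := hT'.isScalarTower
  haveI : IsArtinianRing (R ⧸ Ideal.span {a}) := by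
    have h1 := isFiniteLength_quotient_span_singleton R ha0
    rw [isFiniteLength_iff_isNoetherian_isArtinian] at h1
    exact isArtinian_of_tower R h1.2
  haveI : Module.Finite (R ⧸ Ideal.span {a}) M := Module.Finite.of_restrictScalars_finite R _ _
  haveI : IsArtinian (R ⧸ Ideal.span {a}) M := inferInstance
  exact isArtinian_of_surjective_algebraMap (S := R) (R := R ⧸ Ideal.span {a})
    Ideal.Quotient.mk_surjective

theorem main (p : ℕ) [Fact p.Prime]
    (k : Type u) [Field k] [CharP k p] [IsAlgClosed k]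
    (M : Type v) [AddCommGroup M] [Module (WittVector p k) M] [Module.Finite (WittVector p k) M]
    (hM : Module.IsTorsion (WittVector p k) M)
    (φ : M →ₛₗ[((WittVector.frobeniusEquiv p k).symm : WittVector p k →+* WittVector p k)] M) :
    ∃ Ms Mn : Submodule (WittVector p k) M, IsCompl Ms Mn ∧
      Set.MapsTo φ Ms Ms ∧ Set.MapsTo φ Mn Mn ∧ Set.BijOn φ Ms Ms ∧
      ∃ r : ℕ, ∀ x ∈ Mn, (⇑φ)^[r] x = 0 := by
  haveI : IsArtinian (WittVector p k) M := isArtinian_of_torsion hM
  haveI : IsNoetherian (WittVector p k) M := inferInstance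
  exact fitting (WittVector.frobeniusEquiv p k).symm φ

end Groth.Agent.Lib.SemilinearFitting
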