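import Mathlib

set_option autoImplicit false
universe u

/-!
# Completion of a semilocal ring along an ideal of coheight zero (helper3)

`R̂ ≃ ∏_{m ⊇ I} (R_m)^` for `I` such that every prime containing `I` is maximal and only finitely
many maximal ideals.
-/

namespace Groth.Agent.Lib.SemilocalComplH3

variable {R : Type u} [CommRing R]

/-- Local membership: if for every maximal ideal `m ⊇ J` some `t ∉ m` has `t * x ∈ J`, then
`x ∈ J`. -/
theorem mem_of_forall_maximal (J : Ideal R) (x : R)
    (h : ∀ m : Ideal R, m.IsMaximal → J ≤ m → ∃ t, t ∉ m ∧ t * x ∈ J) : x ∈ J := by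
  by_contra hx
  have hK : (Submodule.colon J ({x} : Set R) : Ideal R) ≠ ⊤ := by
    intro hK
    have h1 : (1 : R) ∈ (Submodule.colon J ({x} : Set R) : Ideal R) := hK ▸ Submodule.mem_top
    rw [Submodule.mem_colon_singleton] at h1
    exact hx (by simpa using h1)
  obtain ⟨M, hM, hKM⟩ := Ideal.exists_le_maximal _ hK
  have hJM : J ≤ M := fun y hy => hKM (by
    rw [Submodule.mem_colon_singleton]
    exact J.mul_mem_right _ hy)
  obtain ⟨t, htM, htx⟩ := h M hM hJM
  exact htM (hKM (by rw [Submodule.mem_colon_singleton]; exact htx))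

theorem exists_of_algebraMap_mem (J : Ideal R) (m : Ideal R) [m.IsPrime] (x : R)
    (h : algebraMap R (Localization.AtPrime m) x ∈
      J.map (algebraMap R (Localization.AtPrime m))) :
    ∃ t, t ∉ m ∧ t * x ∈ J := by
  rw [IsLocalization.mem_map_algebraMap_iff m.primeCompl] at h
  obtain ⟨⟨a, s⟩, h⟩ := h
  rw [← map_mul, IsLocalization.eq_iff_exists m.primeCompl] at h
  obtain ⟨c, hc⟩ := h
  refine ⟨c * s, (c * s).2, ?_⟩
  have h2 : ((c : R) * (s : R)) * x = c * a := by
    rw [← hc]; ring
  rw [h2]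
  exact J.mul_mem_left _ a.2

theorem maximalIdeal_le_radical_map (J m : Ideal R) [hm : m.IsMaximal]
    (hJ : ∀ p : Ideal R, p.IsPrime → J ≤ p → p.IsMaximal) :
    IsLocalRing.maximalIdeal (Localization.AtPrime m) ≤
      (J.map (algebraMap R (Localization.AtPrime m))).radical := by
  rw [Ideal.radical_eq_sInf]
  refine le_sInf ?_
  rintro P ⟨hJP, hP⟩
  have h1 : (P.comap (algebraMap R (Localization.AtPrime m))).IsMaximal :=
    hJ _ (Ideal.comap_isPrime _ _) (Ideal.le_comap_of_map_le hJP)
  have h2 : P.comap (algebraMap R (Localization.AtPrime m)) ≤ m := by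
    have h3 : (IsLocalRing.maximalIdeal (Localization.AtPrime m)).comap
        (algebraMap R (Localization.AtPrime m)) = m :=
      Localization.AtPrime.under_maximalIdeal
    exact (Ideal.comap_mono (IsLocalRing.le_maximalIdeal hP.ne_top)).trans h3.le
  have h3 : P.comap (algebraMap R (Localization.AtPrime m)) = m :=
    h1.eq_of_le hm.ne_top h2
  have h4 : Ideal.map (algebraMap R (Localization.AtPrime m))
      (P.comap (algebraMap R (Localization.AtPrime m))) = P :=
    IsLocalization.map_under m.primeCompl _ P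
  rw [← h4, h3, Localization.AtPrime.map_eq_maximalIdeal]

/-- The contraction of `J R_m` to `R`. -/
noncomputable def q (J m : Ideal R) [m.IsPrime] : Ideal R :=
  (J.map (algebraMap R (Localization.AtPrime m))).comap (algebraMap R (Localization.AtPrime m))

theorem mem_q (J m : Ideal R) [m.IsPrime] (x : R) :
    x ∈ q J m ↔ algebraMap R (Localization.AtPrime m) x ∈
      J.map (algebraMap R (Localization.AtPrime m)) := Iff.rfl

theorem le_q (J m : Ideal R) [m.IsPrime] : J ≤ q J m := Ideal.le_comap_map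

theorem eq_of_q_le (J m M : Ideal R) [hm : m.IsMaximal] [hM : M.IsMaximal]
    (hJ : ∀ p : Ideal R, p.IsPrime → J ≤ p → p.IsMaximal) (h : q J m ≤ M) : M = m := by
  by_contra hne
  have h1 : ¬ m ≤ M := fun hle => hne (hm.eq_of_le hM.ne_top hle).symm
  obtain ⟨x, hxm, hxM⟩ := Set.not_subset.1 h1
  have hx : algebraMap R (Localization.AtPrime m) x ∈
      IsLocalRing.maximalIdeal (Localization.AtPrime m) :=
    (IsLocalization.AtPrime.to_map_mem_maximal_iff _ m x).2 hxm
  obtain ⟨N, hN⟩ := maximalIdeal_le_radical_map J m hJ hx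
  rw [← map_pow] at hN
  exact hxM (hM.isPrime.mem_of_pow_mem N (h hN))

theorem exists_mul_sub_one_mem (J m : Ideal R) [hm : m.IsMaximal]
    (hJ : ∀ p : Ideal R, p.IsPrime → J ≤ p → p.IsMaximal) (s : R) (hs : s ∉ m) :
    ∃ u, u * s - 1 ∈ q J m := by
  have h0 : q J m ⊔ Ideal.span {s} = ⊤ := by
    by_contra hne
    obtain ⟨M, hM, hle⟩ := Ideal.exists_le_maximal _ hne
    have h1 : M = m := eq_of_q_le J m M hJ (le_sup_left.trans hle)
    rw [h1] at hle
    exact hs (hle (Ideal.mem_sup_right (Ideal.mem_span_singleton_self s)))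
  have h1 : (1 : R) ∈ q J m ⊔ Ideal.span {s} := h0 ▸ Submodule.mem_top
  obtain ⟨a, ha, b, hb, hab⟩ := Submodule.mem_sup.1 h1
  obtain ⟨u, rfl⟩ := Ideal.mem_span_singleton'.1 hb
  refine ⟨u, ?_⟩
  have h2 : u * s - 1 = -a := by rw [← hab]; ring
  rw [h2]
  exact (q J m).neg_mem ha

theorem isCoprime_q (J m m' : Ideal R) [m.IsMaximal] [m'.IsMaximal]
    (hJ : ∀ p : Ideal R, p.IsPrime → J ≤ p → p.IsMaximal) (hne : m ≠ m') :
    IsCoprime (q J m) (q J m') := by
  rw [Ideal.isCoprime_iff_sup_eq]
  by_contra h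
  obtain ⟨M, hM, hle⟩ := Ideal.exists_le_maximal _ h
  have h1 : M = m := eq_of_q_le J m M hJ (le_sup_left.trans hle)
  have h2 : M = m' := eq_of_q_le J m' M hJ (le_sup_right.trans hle)
  exact hne (h1.symm.trans h2)

theorem exists_sub_mem_map (J m : Ideal R) [hm : m.IsMaximal]
    (hJ : ∀ p : Ideal R, p.IsPrime → J ≤ p → p.IsMaximal) (z : Localization.AtPrime m) :
    ∃ r : R, algebraMap R (Localization.AtPrime m) r - z ∈
      J.map (algebraMap R (Localization.AtPrime m)) := by
  obtain ⟨a, s, rfl⟩ := IsLocalization.exists_mk'_eq m.primeCompl z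
  obtain ⟨u, hu⟩ := exists_mul_sub_one_mem J m hJ s s.2
  refine ⟨u * a, ?_⟩
  have h1 : algebraMap R (Localization.AtPrime m) (u * a) -
      IsLocalization.mk' (Localization.AtPrime m) a s =
      IsLocalization.mk' (Localization.AtPrime m) a s *
        algebraMap R (Localization.AtPrime m) (u * s - 1) := by
    have h2 := IsLocalization.mk'_spec (Localization.AtPrime m) a s
    rw [map_sub, map_one, map_mul, map_mul]
    linear_combination (-(algebraMap R (Localization.AtPrime m) u)) * h2
  rw [h1]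
  exact Ideal.mul_mem_left _ _ hu

theorem exists_forall_sub_mem_map {ι : Type*} [Finite ι] (J : Ideal R) (m : ι → Ideal R)
    [∀ i, (m i).IsMaximal] (hm : Function.Injective m)
    (hJ : ∀ p : Ideal R, p.IsPrime → J ≤ p → p.IsMaximal)
    (z : ∀ i, Localization.AtPrime (m i)) :
    ∃ r : R, ∀ i, algebraMap R (Localization.AtPrime (m i)) r - z i ∈
      J.map (algebraMap R (Localization.AtPrime (m i))) := by
  choose r hr using fun i => exists_sub_mem_map J (m i) hJ (z i)
  have hcop : Pairwise (Function.onFun IsCoprime fun i => q J (m i)) :=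
    fun i j hij => isCoprime_q J (m i) (m j) hJ (hm.ne hij)
  obtain ⟨x, hx⟩ := Ideal.exists_forall_sub_mem_ideal hcop r
  refine ⟨x, fun i => ?_⟩
  have h1 : algebraMap R (Localization.AtPrime (m i)) x - z i =
      algebraMap R (Localization.AtPrime (m i)) (x - r i) +
        (algebraMap R (Localization.AtPrime (m i)) (r i) - z i) := by
    rw [map_sub]; ring
  rw [h1]
  exact Ideal.add_mem _ (hx i) (hr i)

theorem mem_smul_top_iff (J m : Ideal R) [m.IsPrime] (z : Localization.AtPrime m) :
    z ∈ (J • ⊤ : Submodule R (Localization.AtPrime m)) ↔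
      z ∈ J.map (algebraMap R (Localization.AtPrime m)) := by
  rw [Ideal.smul_top_eq_map]
  rfl

end Groth.Agent.Lib.SemilocalComplH3
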