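import Mathlib
import Groth.Agent.Lib.NilFlat_lead

open TensorProduct

namespace Groth.Agent.Lib.SemilocalFlat

universe u

section idem
variable {A : Type u} [CommRing A]

lemma exists_mul_eq_one_sub_pow (s t y : A) (h : t * s + y = 1) (N : ℕ) :
    ∃ c : A, s * c = 1 - y ^ N := by
  obtain ⟨c, hc⟩ := sub_dvd_pow_sub_pow 1 y N
  rw [one_pow] at hc
  refine ⟨t * c, ?_⟩
  have : 1 - y = t * s := by rw [← h]; ring
  rw [hc, this]; ring

theorem exists_idem [Finite (MaximalSpectrum A)] (hnil : IsNilpotent (Ring.jacobson A))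
    (𝔪 : Ideal A) [h𝔪 : 𝔪.IsMaximal] :
    ∃ (ε : A) (N : ℕ), ε * ε = ε ∧ 1 - ε ∈ 𝔪 ∧ (∀ x ∈ 𝔪 ^ N, ε * x = 0) := by
  classical
  haveI : Fintype (MaximalSpectrum A) := Fintype.ofFinite _
  obtain ⟨N₀, hN₀⟩ := hnil
  have hJN : (Ring.jacobson A) ^ (N₀ + 1) = ⊥ := by
    rw [pow_succ, hN₀, Ideal.zero_eq_bot, Ideal.bot_mul]
  let p₀ : MaximalSpectrum A := ⟨𝔪, h𝔪⟩
  let s : Finset (MaximalSpectrum A) := Finset.univ.erase p₀
  have h𝔠 : ¬ (∏ p ∈ s, p.asIdeal ^ (N₀ + 1)) ≤ 𝔪 := by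
    intro hle
    obtain ⟨p, hp, hpl⟩ := (Ideal.IsPrime.prod_le h𝔪.isPrime).mp hle
    haveI := h𝔪.isPrime
    have h1 : p.asIdeal ≤ 𝔪 := Ideal.IsPrime.le_of_pow_le hpl
    have h2 : p.asIdeal = 𝔪 := p.isMaximal.eq_of_le h𝔪.ne_top h1
    have h3 : p = p₀ := MaximalSpectrum.ext h2
    exact (Finset.mem_erase.mp hp).1 h3
  obtain ⟨e, he𝔠, he𝔪⟩ := SetLike.not_le_iff_exists.mp h𝔠
  have hprod : (∏ p ∈ s, p.asIdeal) * 𝔪 ≤ Ring.jacobson A := by
    rw [Ring.jacobson_eq_sInf_isMaximal]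
    apply le_sInf
    intro q hq
    by_cases hq𝔪 : q = 𝔪
    · rw [hq𝔪]; exact Ideal.mul_le_right
    · have hqs : (⟨q, hq⟩ : MaximalSpectrum A) ∈ s := by
        rw [Finset.mem_erase]
        refine ⟨?_, Finset.mem_univ _⟩
        intro h
        exact hq𝔪 (congrArg MaximalSpectrum.asIdeal h)
      refine Ideal.mul_le_left.trans ?_
      refine Ideal.prod_le_inf.trans ?_
      exact Finset.inf_le hqs
  have h0 : ∀ x ∈ 𝔪 ^ (N₀ + 1), e * x = 0 := by
    intro x hx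
    have h1 : e * x ∈ (∏ p ∈ s, p.asIdeal ^ (N₀ + 1)) * 𝔪 ^ (N₀ + 1) := Ideal.mul_mem_mul he𝔠 hx
    have h2 : (∏ p ∈ s, p.asIdeal ^ (N₀ + 1)) * 𝔪 ^ (N₀ + 1) =
        ((∏ p ∈ s, p.asIdeal) * 𝔪) ^ (N₀ + 1) := by
      rw [mul_pow, ← Finset.prod_pow]
    rw [h2] at h1
    have h3 := Ideal.pow_right_mono hprod (N₀ + 1) h1
    rw [hJN] at h3
    exact h3
  obtain ⟨t, y, hy, hty⟩ := h𝔪.exists_inv he𝔪
  obtain ⟨c, hc⟩ := exists_mul_eq_one_sub_pow e t y hty (N₀ + 1)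
  have hyN : y ^ (N₀ + 1) ∈ 𝔪 ^ (N₀ + 1) := Ideal.pow_mem_pow hy _
  refine ⟨e * c, N₀ + 1, ?_, ?_, ?_⟩
  · have h1 : e * c * (1 - e * c) = 0 := by
      have h9 : 1 - e * c = y ^ (N₀ + 1) := by rw [hc, sub_sub_cancel]
      rw [h9]
      calc e * c * y ^ (N₀ + 1) = c * (e * y ^ (N₀ + 1)) := by ring
        _ = 0 := by rw [h0 _ hyN, mul_zero]
    have h2 : e * c * (1 - e * c) = e * c - e * c * (e * c) := by ring
    rw [h2, sub_eq_zero] at h1
    exact h1.symm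
  · rw [hc, sub_sub_cancel]
    exact Ideal.pow_le_self (Nat.succ_ne_zero _) hyN
  · intro x hx
    calc e * c * x = c * (e * x) := by ring
      _ = 0 := by rw [h0 x hx, mul_zero]

end idem

section local_
variable {A : Type u} [CommRing A] (𝔪 : Ideal A) [h𝔪 : 𝔪.IsMaximal]
  (ε : A) (N : ℕ) (hε : ε * ε = ε) (hε𝔪 : 1 - ε ∈ 𝔪) (hεN : ∀ x ∈ 𝔪 ^ N, ε * x = 0)
  (M : Type u) [AddCommGroup M] [Module A M]

/-- the `ε`-part of a module -/
abbrev part : Submodule A M := LinearMap.range (LinearMap.lsmul A M ε)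

/-- projection onto the `ε`-part -/
abbrev proj : M →ₗ[A] part ε M := (LinearMap.lsmul A M ε).rangeRestrict

include hε in
lemma smul_part (y : part ε M) : ε • (y : M) = y := by
  obtain ⟨m, hm⟩ := y.2
  rw [← hm]
  show ε • (ε • m) = ε • m
  rw [smul_smul, hε]

include hε in
lemma proj_subtype : (proj ε M) ∘ₗ (part ε M).subtype = LinearMap.id := by
  ext y
  exact smul_part ε hε M y

omit h𝔪 in
include hε hεN in
lemma pow_smul_part (a : A) (ha : a ∈ 𝔪 ^ N) (y : part ε M) : a • y = 0 := by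
  apply Subtype.ext
  show a • (y : M) = 0
  rw [← smul_part ε hε M y, smul_smul, mul_comm, hεN a ha, zero_smul]

omit h𝔪 in
include hε hεN in
lemma pow_smul_top_part : 𝔪 ^ N • (⊤ : Submodule A (part ε M)) = ⊥ := by
  rw [eq_bot_iff, Submodule.smul_le]
  intro a ha y _
  rw [Submodule.mem_bot]
  exact pow_smul_part 𝔪 ε N hε hεN M a ha y

include h𝔪 hε𝔪 in
lemma eps_not_mem : ε ∉ 𝔪 := by
  intro h
  have : (1 : A) ∈ 𝔪 := by
    have := 𝔪.add_mem hε𝔪 h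
    rwa [sub_add_cancel] at this
  exact h𝔪.ne_top ((Ideal.eq_top_iff_one _).mpr this)

include h𝔪 hε hε𝔪 hεN in
lemma isLocalizedModule_proj : IsLocalizedModule 𝔪.primeCompl (proj ε M) := by
  refine ⟨?_, ?_, ?_⟩
  · intro s
    have hs : (s : A) ∉ 𝔪 := s.2
    obtain ⟨t, y, hy, hty⟩ := h𝔪.exists_inv hs
    obtain ⟨c, hc⟩ := exists_mul_eq_one_sub_pow (s : A) t y hty N
    have hyN : y ^ N ∈ 𝔪 ^ N := Ideal.pow_mem_pow hy _
    have key : ∀ m' : part ε M, ((s : A) * c) • m' = m' := by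
      intro m'
      rw [hc, sub_smul, one_smul, pow_smul_part 𝔪 ε N hε hεN M _ hyN, sub_zero]
    refine ⟨⟨algebraMap A (Module.End A (part ε M)) s, algebraMap A (Module.End A (part ε M)) c,
      ?_, ?_⟩, rfl⟩
    · rw [← map_mul]
      ext m'
      have h8 := congrArg Subtype.val (key m')
      rw [mul_comm, mul_smul] at h8
      simpa using h8
    · rw [← map_mul, mul_comm]
      ext m'
      have h8 := congrArg Subtype.val (key m')
      rw [mul_comm, mul_smul] at h8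
      simpa using h8
  · intro y
    refine ⟨((y : M), 1), ?_⟩
    rw [one_smul]
    apply Subtype.ext
    exact (smul_part ε hε M y).symm
  · intro m₁ m₂ h
    refine ⟨⟨ε, eps_not_mem 𝔪 ε hε𝔪⟩, ?_⟩
    exact congrArg Subtype.val h

end local_

section flatpart
variable {A : Type u} [CommRing A] (𝔪 : Ideal A) [h𝔪 : 𝔪.IsMaximal]
  (ε : A) (N : ℕ) (hε : ε * ε = ε) (hε𝔪 : 1 - ε ∈ 𝔪) (hεN : ∀ x ∈ 𝔪 ^ N, ε * x = 0)
  (M : Type u) [AddCommGroup M] [Module A M]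
  {ι : Type u} (B : ι → Type u) [∀ i, CommRing (B i)] [∀ i, Algebra A (B i)]
  (hB : ∀ a : A, (∀ i, algebraMap A (B i) a = 0) → a = 0)
  (hflat : ∀ i, Module.Flat (B i) (B i ⊗[A] M))

include hε hflat in
lemma flat_baseChange_part (i : ι) : Module.Flat (B i) (B i ⊗[A] part ε M) := by
  haveI := hflat i
  apply Module.Flat.of_retract ((part ε M).subtype.baseChange (B i))
    ((proj ε M).baseChange (B i))
  rw [← LinearMap.baseChange_comp, proj_subtype ε hε M, LinearMap.baseChange_id]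

end flatpart

end Groth.Agent.Lib.SemilocalFlat
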