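import Mathlib
import Groth.Agent.Lib.SemilocalFlat_lead

open TensorProduct

namespace Groth.Agent.Lib.SemilocalFlat

universe u

section construct
variable {A : Type u} [CommRing A] (𝔪 : Ideal A) [h𝔪 : 𝔪.IsMaximal]
  (ε : A) (N : ℕ) (hε : ε * ε = ε) (hε𝔪 : 1 - ε ∈ 𝔪) (hεN : ∀ x ∈ 𝔪 ^ N, ε * x = 0)
  (M' : Type u) [AddCommGroup M'] [Module A M'] (hM' : ∀ y : M', ε • y = y)
  {ι : Type u} (B : ι → Type u) [∀ i, CommRing (B i)] [∀ i, Algebra A (B i)]
  (hB : ∀ a : A, (∀ i, algebraMap A (B i) a = 0) → a = 0)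
  (hflat : ∀ i, Module.Flat (B i) (B i ⊗[A] M'))

include h𝔪 hε hεN hM' hB hflat in
theorem projective_of_basis (X : Type u)
    (b : letI := Ideal.Quotient.field 𝔪; Module.Basis X (A ⧸ 𝔪) (M' ⧸ (𝔪 • (⊤ : Submodule A M')))) :
    Module.Projective A M' := by
  classical
  letI := Ideal.Quotient.field 𝔪
  choose m hm using fun x : X =>
    Submodule.Quotient.mk_surjective (𝔪 • (⊤ : Submodule A M')) (b x)
  let Φ : (X →₀ A) →ₗ[A] M' := Finsupp.linearCombination A m
  have hmkΦ : ∀ f, (Submodule.Quotient.mk (Φ f) : M' ⧸ (𝔪 • (⊤ : Submodule A M'))) =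
      Finsupp.linearCombination (A ⧸ 𝔪) b (f.mapRange (Ideal.Quotient.mk 𝔪) (map_zero _)) := by
    intro f
    induction f using Finsupp.induction_linear with
    | zero => simp
    | add f g hf hg =>
      rw [map_add, Submodule.Quotient.mk_add, hf, hg, Finsupp.mapRange_add (map_add _), map_add]
    | single x a =>
      rw [Finsupp.mapRange_single, Finsupp.linearCombination_single,
        Finsupp.linearCombination_single, ← hm x]
      rfl
  let φ : part ε (X →₀ A) →ₗ[A] M' := Φ ∘ₗ (part ε (X →₀ A)).subtype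
  haveI : Module.Projective A (part ε (X →₀ A)) :=
    Module.Projective.of_split (part ε (X →₀ A)).subtype (proj ε (X →₀ A))
      (proj_subtype ε hε (X →₀ A))
  have hnP := pow_smul_top_part 𝔪 ε N hε hεN (X →₀ A)
  have hnM : 𝔪 ^ N • (⊤ : Submodule A M') = ⊥ := by
    rw [eq_bot_iff, Submodule.smul_le]
    intro a ha y _
    rw [Submodule.mem_bot, ← hM' y, smul_smul, mul_comm, hεN a ha, zero_smul]
  have H1 : ∀ y : M', ∃ p, y - φ p ∈ 𝔪 • (⊤ : Submodule A M') := by
    intro y
    obtain ⟨f, hf⟩ := Finsupp.mapRange_surjective (Ideal.Quotient.mk 𝔪) (map_zero _)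
      Ideal.Quotient.mk_surjective (b.repr (Submodule.Quotient.mk y))
    refine ⟨proj ε (X →₀ A) f, ?_⟩
    have h1 : φ (proj ε (X →₀ A) f) = Φ f := by
      show Φ (ε • f) = Φ f
      rw [map_smul, hM']
    rw [h1, ← Submodule.Quotient.mk_eq_zero, Submodule.Quotient.mk_sub, hmkΦ, hf,
      b.linearCombination_repr, sub_self]
  have H2 : ∀ p : part ε (X →₀ A), φ p ∈ 𝔪 • (⊤ : Submodule A M') →
      p ∈ 𝔪 • (⊤ : Submodule A (part ε (X →₀ A))) := by
    intro p hp
    have hp' : Φ p.1 ∈ 𝔪 • (⊤ : Submodule A M') := hp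
    rw [← Submodule.Quotient.mk_eq_zero, hmkΦ] at hp'
    have h2 := congrArg b.repr hp'
    rw [b.repr_linearCombination, map_zero] at h2
    have hfx : ∀ x, p.1 x ∈ 𝔪 := by
      intro x
      have := DFunLike.congr_fun h2 x
      rw [Finsupp.mapRange_apply, Finsupp.zero_apply, Ideal.Quotient.eq_zero_iff_mem] at this
      exact this
    have hsum : p = ∑ x ∈ p.1.support, p.1 x • proj ε (X →₀ A) (Finsupp.single x 1) := by
      apply Subtype.ext
      rw [Submodule.coe_sum]
      have h3 : ∀ x, ((p.1 x • proj ε (X →₀ A) (Finsupp.single x (1 : A)) :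
          part ε (X →₀ A)) : X →₀ A) = ε • Finsupp.single x (p.1 x) := by
        intro x
        show p.1 x • (ε • Finsupp.single x (1 : A)) = ε • Finsupp.single x (p.1 x)
        rw [smul_comm, Finsupp.smul_single, smul_eq_mul, mul_one]
      rw [Finset.sum_congr rfl (fun x _ => h3 x), ← Finset.smul_sum]
      have h4 : ∑ x ∈ p.1.support, Finsupp.single x (p.1 x) = p.1 :=
        Finsupp.sum_single _
      rw [h4, smul_part ε hε _ p]
    rw [hsum]
    exact Submodule.sum_mem _ (fun x _ => Submodule.smul_mem_smul (hfx x) Submodule.mem_top)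
  have bij := Groth.Agent.Lib.NilFlat.bijective_of_family (P := part ε (X →₀ A)) 𝔪 N hnP hnM φ
    H1 H2 B hB hflat
  exact Module.Projective.of_equiv (LinearEquiv.ofBijective φ bij)

include h𝔪 hε hεN hM' hB hflat in
theorem projective_of_family : Module.Projective A M' := by
  letI := Ideal.Quotient.field 𝔪
  exact projective_of_basis 𝔪 ε N hε hεN M' hM' B hB hflat _
    (Module.Free.chooseBasis (A ⧸ 𝔪) (M' ⧸ (𝔪 • (⊤ : Submodule A M'))))

end construct

theorem main {A : Type u} [CommRing A] [Finite (MaximalSpectrum A)]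
    (hnil : IsNilpotent (Ring.jacobson A))
    {ι : Type u} (B : ι → Type u) [∀ i, CommRing (B i)] [∀ i, Algebra A (B i)]
    (hB : ∀ a : A, (∀ i, algebraMap A (B i) a = 0) → a = 0)
    (M : Type u) [AddCommGroup M] [Module A M] :
    Module.Flat A M ↔ ∀ i, Module.Flat (B i) (B i ⊗[A] M) := by
  constructor
  · intro h i; infer_instance
  · intro hflat
    apply Module.flat_of_localized_maximal
    intro 𝔪 h𝔪
    obtain ⟨ε, N, hε, hε𝔪, hεN⟩ := exists_idem hnil 𝔪
    haveI : Module.Projective A (part ε M) :=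
      projective_of_family 𝔪 ε N hε hεN (part ε M)
        (fun y => Subtype.ext (smul_part ε hε M y)) B hB (flat_baseChange_part ε hε M B hflat)
    haveI := isLocalizedModule_proj 𝔪 ε N hε hε𝔪 hεN M
    exact Module.Flat.of_linearEquiv (IsLocalizedModule.iso 𝔪.primeCompl (proj ε M))

end Groth.Agent.Lib.SemilocalFlat
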