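import Mathlib
import Groth.Prelude.Def_PolLaw2
import Groth.Agent.Lib.FibreCount_helper1

/-!
# The image of a family of zero cycles over a semilocal ring is semilocal (helper1)
-/

set_option autoImplicit false
universe u
open scoped TensorProduct

namespace Groth.Agent.Lib.SemilocalH1

variable {A : Type u} [CommRing A]

section general

variable (A) (R : Type u) [CommRing R] [Algebra A R] [Algebra.IsIntegral A R]

/-- the contraction of a maximal ideal -/
noncomputable def ctr (M : MaximalSpectrum R) : MaximalSpectrum A :=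
  ⟨M.asIdeal.comap (algebraMap A R), Ideal.isMaximal_comap_of_isIntegral_of_isMaximal M.asIdeal⟩

/-- `(A/m) ⊗ R → R/M` for `m` the contraction of `M` -/
noncomputable def thetaM (M : MaximalSpectrum R) :
    (A ⧸ (ctr A R M).asIdeal) ⊗[A] R →ₐ[A] R ⧸ M.asIdeal :=
  Algebra.TensorProduct.lift
    (Ideal.Quotient.liftₐ (ctr A R M).asIdeal (Algebra.ofId A (R ⧸ M.asIdeal)) (by
      intro a ha
      have h1 : algebraMap A R a ∈ M.asIdeal := ha
      rw [Algebra.ofId_apply, IsScalarTower.algebraMap_apply A R (R ⧸ M.asIdeal),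
        Ideal.Quotient.algebraMap_eq, Ideal.Quotient.eq_zero_iff_mem]
      exact h1))
    (Ideal.Quotient.mkₐ A M.asIdeal)
    (fun _ _ => Commute.all (S := R ⧸ M.asIdeal) _ _)

theorem thetaM_one_tmul (M : MaximalSpectrum R) (r : R) :
    thetaM A R M ((1 : A ⧸ (ctr A R M).asIdeal) ⊗ₜ[A] r) = Ideal.Quotient.mk M.asIdeal r := by
  rw [thetaM, Algebra.TensorProduct.lift_tmul, map_one, one_mul]
  rfl

/-- the point of the fibre attached to a maximal ideal -/
noncomputable def Psi (M : MaximalSpectrum R) :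
    Σ m : MaximalSpectrum A, PrimeSpectrum ((A ⧸ m.asIdeal) ⊗[A] R) :=
  ⟨ctr A R M, ⟨RingHom.ker (thetaM A R M), RingHom.ker_isPrime _⟩⟩

/-- recover the ideal -/
noncomputable def rec' (x : Σ m : MaximalSpectrum A, PrimeSpectrum ((A ⧸ m.asIdeal) ⊗[A] R)) :
    Ideal R :=
  x.2.asIdeal.comap (Algebra.TensorProduct.includeRight : R →ₐ[A] (A ⧸ x.1.asIdeal) ⊗[A] R)

theorem rec'_Psi (M : MaximalSpectrum R) : rec' A R (Psi A R M) = M.asIdeal := by
  ext r
  rw [rec', Ideal.mem_comap]
  show (Algebra.TensorProduct.includeRight : R →ₐ[A] (A ⧸ (ctr A R M).asIdeal) ⊗[A] R) r ∈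
    RingHom.ker (thetaM A R M) ↔ _
  rw [RingHom.mem_ker, Algebra.TensorProduct.includeRight_apply, thetaM_one_tmul,
    Ideal.Quotient.eq_zero_iff_mem]

theorem finite_maximalSpectrum [Finite (MaximalSpectrum A)]
    (h : ∀ m : MaximalSpectrum A, Finite (PrimeSpectrum ((A ⧸ m.asIdeal) ⊗[A] R))) :
    Finite (MaximalSpectrum R) := by
  haveI := h
  apply Finite.of_injective (Psi A R)
  intro M M' hMM'
  have h1 : rec' A R (Psi A R M) = rec' A R (Psi A R M') := by rw [hMM']
  rw [rec'_Psi, rec'_Psi] at h1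
  cases M
  cases M'
  simp only at h1
  subst h1
  rfl

end general

theorem main13724 [Finite (MaximalSpectrum A)] {B : Type u} [CommRing B] [Algebra A B] {d : ℕ}
    (F : PolLaw.MulLaw A B A d) : Finite (MaximalSpectrum (PolLaw.image F.law)) := by
  haveI : Algebra.IsIntegral A (PolLaw.image F.law) :=
    Groth.Agent.Lib.CHIntegralH1.main13695 F
  apply finite_maximalSpectrum A (PolLaw.image F.law)
  intro m
  letI : Field (A ⧸ m.asIdeal) := Ideal.Quotient.field m.asIdeal
  exact (Groth.Agent.Lib.FibreCountH1.main13723 F (A ⧸ m.asIdeal)).1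

end Groth.Agent.Lib.SemilocalH1
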