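import Mathlib

/-!
# Separating families of linear maps under flat base change
-/

set_option autoImplicit false
universe u

open TensorProduct

namespace SepH8

section Alg

variable {A B : Type*} [CommRing A] [CommRing B] [Algebra A B] [Module.Flat A B]

/-- A finite separating family of linear maps stays separating after a flat base change. -/
theorem sep_baseChange_finite {ι : Type*} [Finite ι] {M : Type*} [AddCommGroup M] [Module A M]
    {N : ι → Type*} [∀ i, AddCommGroup (N i)] [∀ i, Module A (N i)]
    (v : ∀ i, M →ₗ[A] N i) (hv : ∀ m, (∀ i, v i m = 0) → m = 0)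
    (z : B ⊗[A] M) (hz : ∀ i, (v i).baseChange B z = 0) : z = 0 := by
  classical
  cases nonempty_fintype ι
  let V : M →ₗ[A] (∀ i, N i) := LinearMap.pi v
  have hV : Function.Injective V := by
    rw [injective_iff_map_eq_zero]
    intro m hm
    exact hv m (fun i => congrFun hm i)
  have h1 : Function.Injective (V.baseChange B) :=
    Module.Flat.lTensor_preserves_injective_linearMap V hV
  apply h1
  rw [map_zero]
  apply (TensorProduct.piRight A B B N).injective
  rw [map_zero]
  have key : ∀ (z : B ⊗[A] M) (i : ι),
      (TensorProduct.piRight A B B N (V.baseChange B z)) i = (v i).baseChange B z := by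
    intro z i
    induction z using TensorProduct.induction_on with
    | zero => simp
    | tmul b m => simp [V]
    | add x y hx hy => simp only [map_add, Pi.add_apply, hx, hy]
  funext i
  rw [key]
  exact hz i

/-- Over an Artinian ring, an arbitrary separating family of linear maps stays separating after a
flat base change. -/
theorem sep_baseChange_artinian [IsArtinianRing A] {ι : Type*} {M : Type*} [AddCommGroup M]
    [Module A M] {N : ι → Type*} [∀ i, AddCommGroup (N i)] [∀ i, Module A (N i)]
    (v : ∀ i, M →ₗ[A] N i) (hv : ∀ m, (∀ i, v i m = 0) → m = 0)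
    (z : B ⊗[A] M) (hz : ∀ i, (v i).baseChange B z = 0) : z = 0 := by
  classical
  obtain ⟨M₀, hfin, hM₀⟩ := TensorProduct.exists_finite_submodule_right_of_setFinite
    ({z} : Set (B ⊗[A] M)) (Set.finite_singleton z)
  obtain ⟨z₀, hz₀⟩ := hM₀ (Set.mem_singleton z)
  haveI := hfin
  haveI : IsArtinian A M₀ := inferInstance
  -- the kernels of finite subfamilies
  let K : Finset ι → Submodule A M₀ := fun s =>
    ⨅ i ∈ s, LinearMap.ker ((v i).comp M₀.subtype)
  obtain ⟨K₀, ⟨s₀, rfl⟩, hmin⟩ := IsArtinian.set_has_minimal (Set.range K) ⟨K ∅, ∅, rfl⟩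
  have hK₀ : K s₀ = ⊥ := by
    rw [eq_bot_iff]
    intro m hm
    rw [Submodule.mem_bot]
    have hall : ∀ i, v i (m : M) = 0 := by
      intro i
      by_contra hne
      apply hmin (K (insert i s₀)) ⟨_, rfl⟩
      refine lt_of_le_of_ne ?_ ?_
      · intro x hx
        simp only [K, Submodule.mem_iInf] at hx ⊢
        intro j hj
        exact hx j (Finset.mem_insert_of_mem hj)
      · intro heq
        have : m ∈ K (insert i s₀) := heq ▸ hm
        simp only [K, Submodule.mem_iInf] at this
        exact hne (this i (Finset.mem_insert_self i s₀))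
    exact Subtype.ext (hv m hall)
  -- apply the finite case to `M₀` and the subfamily `s₀`
  have hz₀' : z₀ = 0 := by
    refine sep_baseChange_finite (ι := s₀) (N := fun i => N i.1)
      (fun i => (v i.1).comp M₀.subtype) ?_ z₀ ?_
    · intro m hm
      have : m ∈ K s₀ := by
        simp only [K, Submodule.mem_iInf]
        intro i hi
        exact hm ⟨i, hi⟩
      rw [hK₀] at this
      exact (Submodule.mem_bot A).mp this
    · rintro ⟨i, hi⟩
      have h2 : ((v i).comp M₀.subtype).baseChange B z₀ =
          (v i).baseChange B (M₀.subtype.lTensor B z₀) := by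
        rw [LinearMap.baseChange_comp]
        rfl
      rw [h2, hz₀]
      exact hz i
  rw [← hz₀, hz₀', map_zero]

end Alg

end SepH8
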