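import Groth.Agent.Lib.Sep1_helper8
import Groth.Agent.Lib.PB8_helper8

/-!
# Separating families of homomorphisms of quasi-coherent modules under flat pullback
-/

set_option autoImplicit false
universe u

open TensorProduct CategoryTheory AlgebraicGeometry Opposite TopologicalSpace

namespace SepH8

section Transfer

variable {A B : Type*} [CommRing A] [CommRing B] [Algebra A B]

theorem sep_of_isBaseChange {ι : Type*} {M M' : Type*} [AddCommGroup M] [Module A M]
    [AddCommGroup M'] [Module B M'] [Module A M'] [IsScalarTower A B M']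
    {N N' : ι → Type*} [∀ i, AddCommGroup (N i)] [∀ i, Module A (N i)]
    [∀ i, AddCommGroup (N' i)] [∀ i, Module B (N' i)] [∀ i, Module A (N' i)]
    [∀ i, IsScalarTower A B (N' i)]
    (v : ∀ i, M →ₗ[A] N i) (c : M →ₗ[A] M') (hc : IsBaseChange B c)
    (d : ∀ i, N i →ₗ[A] N' i) (hd : ∀ i, IsBaseChange B (d i))
    (v' : ∀ i, M' →ₗ[B] N' i) (hcomm : ∀ i m, v' i (c m) = d i (v i m))
    (hsep : ∀ z : B ⊗[A] M, (∀ i, (v i).baseChange B z = 0) → z = 0)
    (m' : M') (hm' : ∀ i, v' i m' = 0) : m' = 0 := by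
  have key : ∀ (i : ι) (z : B ⊗[A] M),
      (hd i).equiv ((v i).baseChange B z) = v' i (hc.equiv z) := by
    intro i z
    induction z using TensorProduct.induction_on with
    | zero => simp
    | tmul b m =>
      rw [LinearMap.baseChange_tmul, IsBaseChange.equiv_tmul, IsBaseChange.equiv_tmul, map_smul,
        hcomm]
    | add x y hx hy => rw [map_add, map_add, map_add, map_add, hx, hy]
  have hz : hc.equiv.symm m' = 0 := by
    apply hsep
    intro i
    apply (hd i).equiv.injective
    rw [key, LinearEquiv.apply_symm_apply, map_zero]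
    exact hm' i
  have := congrArg hc.equiv hz
  rwa [LinearEquiv.apply_symm_apply, map_zero] at this

end Transfer

section Sch

/-- Sections of a morphism of modules over an open, as a linear map. -/
noncomputable def appLin {X : Scheme.{u}} {F G : X.Modules} (φ : F ⟶ G) (U : X.Opens) :
    Γ(F, U) →ₗ[Γ(X, U)] Γ(G, U) where
  toFun := φ.app U
  map_add' := map_add _
  map_smul' r x := Scheme.Modules.Hom.app_smul φ r x

variable {X X' : Scheme.{u}} (g : X' ⟶ X)

theorem separating_pullback_of_alg (F : X.Modules) [F.IsQuasicoherent] {ι : Type*}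
    (G : ι → X.Modules) [∀ i, (G i).IsQuasicoherent] (u : ∀ i, F ⟶ G i)
    (hsep : ∀ (V : X.Opens) (_ : IsAffineOpen V) (U' : X'.Opens) (_ : IsAffineOpen U')
      (hle : U' ≤ g ⁻¹ᵁ V),
      letI := (g.appLE V U' hle).hom.toAlgebra
      ∀ z : Γ(X', U') ⊗[Γ(X, V)] Γ(F, V),
        (∀ i, (appLin (u i) V).baseChange Γ(X', U') z = 0) → z = 0)
    (V' : X'.Opens) (t : Γ((Scheme.Modules.pullback g).obj F, V'))
    (ht : ∀ i, ((Scheme.Modules.pullback g).map (u i)).app V' t = 0) : t = 0 := by
  refine TopCat.Presheaf.section_ext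
    ⟨((Scheme.Modules.pullback g).obj F).presheaf, ((Scheme.Modules.pullback g).obj F).isSheaf⟩
    V' t 0 (fun x' hx' => ?_)
  obtain ⟨V, hV, hxV, -⟩ := (Opens.isBasis_iff_nbhd.mp X.isBasis_affineOpens)
    (show g.base x' ∈ (⊤ : X.Opens) from trivial)
  obtain ⟨U', hU', hxU', hU'le⟩ := (Opens.isBasis_iff_nbhd.mp X'.isBasis_affineOpens)
    (show x' ∈ V' ⊓ g ⁻¹ᵁ V from ⟨hx', hxV⟩)
  have hle : U' ≤ g ⁻¹ᵁ V := hU'le.trans inf_le_right
  have hle' : U' ≤ V' := hU'le.trans inf_le_left
  -- the restriction of `t` to `U'` vanishes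
  have hres : ((Scheme.Modules.pullback g).obj F).presheaf.map (homOfLE hle').op t = 0 := by
    letI := (g.appLE V U' hle).hom.toAlgebra
    letI : Module Γ(X, V) Γ((Scheme.Modules.pullback g).obj F, U') :=
      Module.compHom _ (g.appLE V U' hle).hom
    haveI : IsScalarTower Γ(X, V) Γ(X', U') Γ((Scheme.Modules.pullback g).obj F, U') :=
      IsScalarTower.of_algebraMap_smul fun _ _ => rfl
    letI : ∀ i, Module Γ(X, V) Γ((Scheme.Modules.pullback g).obj (G i), U') := fun i =>
      Module.compHom _ (g.appLE V U' hle).hom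
    haveI : ∀ i, IsScalarTower Γ(X, V) Γ(X', U') Γ((Scheme.Modules.pullback g).obj (G i), U') :=
      fun i => IsScalarTower.of_algebraMap_smul fun _ _ => rfl
    refine sep_of_isBaseChange (A := Γ(X, V)) (B := Γ(X', U'))
      (N := fun i => Γ(G i, V))
      (N' := fun i => Γ((Scheme.Modules.pullback g).obj (G i), U'))
      (fun i => appLin (u i) V) (PBH8.cUVLin g F hle)
      (PBH8.isBaseChange_cUV g F hle hU' hV)
      (fun i => PBH8.cUVLin g (G i) hle) (fun i => PBH8.isBaseChange_cUV g (G i) hle hU' hV)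
      (fun i => appLin ((Scheme.Modules.pullback g).map (u i)) U') ?_
      (hsep V hV U' hU' hle) _ ?_
    · intro i m
      exact PBH8.cUV_naturality g (u i) hle m
    · intro i
      show ((Scheme.Modules.pullback g).map (u i)).app U' _ = 0
      rw [QCohCrit.app_naturality, ht i, map_zero]
  have h1 := TopCat.Presheaf.germ_res_apply ((Scheme.Modules.pullback g).obj F).presheaf
    (homOfLE hle') x' hxU' t
  rw [← h1, hres, map_zero, map_zero]

end Sch

end SepH8
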