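import Groth.Agent.Lib.Sep2_helper8

/-!
# Separating families under flat pullback: the finite case and the Artinian case
-/

set_option autoImplicit false
universe u

open TensorProduct CategoryTheory AlgebraicGeometry Opposite TopologicalSpace

namespace SepH8

variable {X X' : Scheme.{u}} (g : X' ⟶ X) [Flat g]

theorem separating_pullback_finite (F : X.Modules) [F.IsQuasicoherent] {ι : Type*} [Finite ι]
    (G : ι → X.Modules) [∀ i, (G i).IsQuasicoherent] (u : ∀ i, F ⟶ G i)
    (h : ∀ (V : X.Opens) (t : Γ(F, V)), (∀ i, (u i).app V t = 0) → t = 0)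
    (V' : X'.Opens) (t : Γ((Scheme.Modules.pullback g).obj F, V'))
    (ht : ∀ i, ((Scheme.Modules.pullback g).map (u i)).app V' t = 0) : t = 0 := by
  refine separating_pullback_of_alg g F G u ?_ V' t ht
  intro V hV U' hU' hle
  letI := (g.appLE V U' hle).hom.toAlgebra
  haveI : Module.Flat Γ(X, V) Γ(X', U') :=
    HasRingHomProperty.appLE (P := @Flat) g inferInstance ⟨V, hV⟩ ⟨U', hU'⟩ hle
  intro z hz
  exact sep_baseChange_finite (fun i => appLin (u i) V) (fun m hm => h V m hm) z hz

theorem separating_pullback_artinian [IsLocallyNoetherian X] (hX : topologicalKrullDim X ≤ 0)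
    (F : X.Modules) [F.IsQuasicoherent] {ι : Type*}
    (G : ι → X.Modules) [∀ i, (G i).IsQuasicoherent] (u : ∀ i, F ⟶ G i)
    (h : ∀ (V : X.Opens) (t : Γ(F, V)), (∀ i, (u i).app V t = 0) → t = 0)
    (V' : X'.Opens) (t : Γ((Scheme.Modules.pullback g).obj F, V'))
    (ht : ∀ i, ((Scheme.Modules.pullback g).map (u i)).app V' t = 0) : t = 0 := by
  haveI : IsLocallyArtinian X := IsLocallyArtinian.of_topologicalKrullDim_le_zero hX
  refine separating_pullback_of_alg g F G u ?_ V' t ht
  intro V hV U' hU' hle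
  letI := (g.appLE V U' hle).hom.toAlgebra
  haveI : Module.Flat Γ(X, V) Γ(X', U') :=
    HasRingHomProperty.appLE (P := @Flat) g inferInstance ⟨V, hV⟩ ⟨U', hU'⟩ hle
  haveI : IsArtinianRing Γ(X, V) := IsLocallyArtinian.isArtinianRing_presheaf_obj ⟨V, hV⟩
  intro z hz
  exact sep_baseChange_artinian (fun i => appLin (u i) V) (fun m hm => h V m hm) z hz

end SepH8
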