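import Mathlib
import Groth.Prelude.Def_SGA4b
import Groth.Agent.Lib.HensStalk_helper7
import Groth.Agent.Lib.EtSchPullConserv_helper7

/-!
# Étale sheaves of sets on the spectrum of a separably closed field (helper7)

Global sections and any geometric stalk are equivalences `Sh (Spec k) ≌ Type`.
-/

set_option autoImplicit false
set_option backward.isDefEq.respectTransparency false
universe u
open CategoryTheory CategoryTheory.Limits AlgebraicGeometry Opposite

namespace Groth.Agent.Lib.SepClosedPt_helper7

open Groth.Agent.Lib.HensStalk_helper7 Groth.Agent.Lib.EtSchPullConserv_helper7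

variable {k : Type u} [Field k] [IsSepClosed k] {Ω : Type u} [Field Ω] [IsSepClosed Ω]
  (ξ : Spec (CommRingCat.of Ω) ⟶ Spec (CommRingCat.of k))

/-- An étale neighbourhood of a geometric point of the spectrum of a separably closed field has a
section through which the given lift factors. -/
theorem exists_section {U : Scheme.{u}} (g : U ⟶ Spec (CommRingCat.of k)) [Etale g]
    (x : Spec (CommRingCat.of Ω) ⟶ U) (hx : x ≫ g = ξ) :
    ∃ s : Spec (CommRingCat.of k) ⟶ U, s ≫ g = 𝟙 _ ∧ ξ ≫ s = x := by
  obtain ⟨l, hl1, hl2⟩ := Scheme.exists_fac_of_etale_of_isSepClosed g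
    (𝟙 (Spec (CommRingCat.of k))) (x default) (Subsingleton.elim _ _)
  haveI : Mono l := mono_of_mono_fac hl1
  haveI : Etale l := MorphismProperty.HasOfPostcompProperty.of_postcomp (W := @Etale) l g
    (inferInstance : Etale g) (by rw [hl1]; infer_instance)
  haveI : IsOpenImmersion l := IsOpenImmersion.of_flat_of_mono l
  have hrange : Set.range x ⊆ Set.range l := by
    rintro _ ⟨a, rfl⟩
    rw [Subsingleton.elim a default, ← hl2]
    exact ⟨_, rfl⟩
  refine ⟨l, hl1, ?_⟩
  have h1 : IsOpenImmersion.lift l x hrange ≫ l = x := IsOpenImmersion.lift_fac _ _ _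
  have h2 : IsOpenImmersion.lift l x hrange = ξ := by
    calc IsOpenImmersion.lift l x hrange
        = IsOpenImmersion.lift l x hrange ≫ l ≫ g := by rw [hl1, Category.comp_id]
      _ = x ≫ g := by rw [← Category.assoc, h1]
      _ = ξ := hx
  rw [← h2]
  exact h1

/-- The geometric point as a lift to the terminal object. -/
noncomputable abbrev topLift :
    (Scheme.pointSmallEtale ξ).fiber.obj (EtCoh.top (Spec (CommRingCat.of k))) :=
  Over.homMk ξ (Category.comp_id _)

theorem exists_hom_of_lift (U : (Spec (CommRingCat.of k)).Etale)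
    (x : (Scheme.pointSmallEtale ξ).fiber.obj U) :
    ∃ s : EtCoh.top (Spec (CommRingCat.of k)) ⟶ U,
      (Scheme.pointSmallEtale ξ).fiber.map s (topLift ξ) = x := by
  obtain ⟨s, hs1, hs2⟩ := exists_section ξ U.hom x.left (Over.w x)
  refine ⟨MorphismProperty.Over.homMk s hs1 trivial, ?_⟩
  apply Over.OverMorphism.ext
  exact hs2

/-- The lifts of the geometric point to the terminal object form a singleton. -/
noncomputable def uniqueFiberTop :
    Unique ((Scheme.pointSmallEtale ξ).fiber.obj (EtCoh.top (Spec (CommRingCat.of k)))) where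
  default := topLift ξ
  uniq a := by
    apply Over.OverMorphism.ext
    have h := Over.w a
    have h' : a.left ≫ 𝟙 _ = ξ := h
    exact (Category.comp_id a.left).symm.trans h'

section Gen

variable {A : Type*} [Category A] [HasColimitsOfSize.{u, u} A]
  {FC : A → A → Type*} {CC : A → Type*} [∀ (X Y : A), FunLike (FC X Y) (CC X) (CC Y)]
  [ConcreteCategory A FC] [PreservesFilteredColimitsOfSize.{u, u} (forget A)]

theorem bijective_toStalk (P : (Spec (CommRingCat.of k)).Etaleᵒᵖ ⥤ A) :
    Function.Bijective ((Scheme.pointSmallEtale ξ).toPresheafFiber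
      (EtCoh.top (Spec (CommRingCat.of k))) (topLift ξ) P) := by
  constructor
  · intro z₁ z₂ h
    obtain ⟨Y, f, y, hy, heq⟩ :=
      ((Scheme.pointSmallEtale ξ).toPresheafFiber_eq_iff' (P := P) _ (topLift ξ)
        z₁ z₂).1 h
    obtain ⟨s, hs⟩ := exists_hom_of_lift ξ Y y
    have e := end_top (s ≫ f)
    have h1 : ∀ z : ToType (P.obj (op (EtCoh.top (Spec (CommRingCat.of k))))),
        P.map s.op (P.map f.op z) = z := by
      intro z
      rw [← ConcreteCategory.comp_apply, ← Functor.map_comp, ← op_comp, e, op_id,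
        CategoryTheory.Functor.map_id, ConcreteCategory.id_apply]
    rw [← h1 z₁, heq, h1 z₂]
  · intro t
    obtain ⟨U, x, z, rfl⟩ :=
      (Scheme.pointSmallEtale ξ).toPresheafFiber_jointly_surjective (P := P) t
    obtain ⟨s, hs⟩ := exists_hom_of_lift ξ U x
    refine ⟨P.map s.op z, ?_⟩
    rw [← hs]
    exact (Scheme.pointSmallEtale ξ).toPresheafFiber_w_apply s (topLift ξ) P z

end Gen

theorem isIso_toStalk (P : (Spec (CommRingCat.of k)).Etaleᵒᵖ ⥤ Type (u + 1)) :
    IsIso ((Scheme.pointSmallEtale ξ).toPresheafFiber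
      (EtCoh.top (Spec (CommRingCat.of k))) (topLift ξ) P) :=
  (isIso_iff_bijective _).2 (bijective_toStalk ξ P)

/-- Global sections are the stalk at any geometric point. -/
noncomputable def sectionsIsoFiber :
    (sheafSections (Spec (CommRingCat.of k)).smallEtaleTopology (Type (u + 1))).obj
      (op (EtCoh.top (Spec (CommRingCat.of k)))) ≅
    (Scheme.pointSmallEtale ξ).sheafFiber (A := Type (u + 1)) := by
  haveI : ∀ F : Sheaf (Spec (CommRingCat.of k)).smallEtaleTopology (Type (u + 1)),
      IsIso ((Scheme.pointSmallEtale ξ).toPresheafFiber (EtCoh.top _) (topLift ξ) F.obj) :=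
    fun F => isIso_toStalk ξ F.obj
  exact NatIso.ofComponents
    (fun F => asIso ((Scheme.pointSmallEtale ξ).toPresheafFiber (EtCoh.top _) (topLift ξ) F.obj))
    (fun {F G} φ =>
      ((Scheme.pointSmallEtale ξ).toPresheafFiber_naturality φ.hom _ _).symm)

theorem isIso_of_isIso_fiber
    {F G : Sheaf (Spec (CommRingCat.of k)).smallEtaleTopology (Type (u + 1))} (φ : F ⟶ G)
    (h : IsIso (((Scheme.pointSmallEtale ξ).sheafFiber (A := Type (u + 1))).map φ)) :
    IsIso φ := by
  have hs : ∀ x : Spec (CommRingCat.of k), ∃ i : Unit,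
      (fun _ : Unit => ξ) i default = x := fun x => ⟨(), Subsingleton.elim _ _⟩
  have hbij : Function.Bijective ((Scheme.pointSmallEtale ξ).presheafFiber.map φ.hom) :=
    (isIso_iff_bijective _).1 h
  haveI : Sheaf.IsLocallyInjective φ :=
    isLocallyInjective_of_family (Ω := fun _ : Unit => Ω) (fun _ : Unit => ξ) hs φ.hom
      (fun _ => hbij.1)
  haveI : Sheaf.IsLocallySurjective φ :=
    isLocallySurjective_of_family (Ω := fun _ : Unit => Ω) (fun _ : Unit => ξ) hs φ.hom
      (fun _ => hbij.2)
  exact (Sheaf.isLocallyBijective_iff_isIso φ).1 ⟨inferInstance, inferInstance⟩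

theorem isEquivalence_sheafFiber :
    ((Scheme.pointSmallEtale ξ).sheafFiber (A := Type (u + 1))).IsEquivalence := by
  obtain ⟨Φ, hΦ⟩ : ∃ Φ, Φ = Scheme.pointSmallEtale ξ := ⟨_, rfl⟩
  let adj : Φ.sheafFiber (A := Type (u + 1)) ⊣ Φ.skyscraperSheafFunctor :=
    Φ.skyscraperSheafAdjunction
  haveI hc : ∀ M, IsIso (adj.counit.app M) := by
    intro M
    subst hΦ
    letI := uniqueFiberTop ξ
    have h1 : (Scheme.pointSmallEtale ξ).toPresheafFiber (EtCoh.top _) (topLift ξ)
          ((Scheme.pointSmallEtale ξ).skyscraperPresheaf M) ≫ adj.counit.app M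
        = Pi.π (fun _ : (Scheme.pointSmallEtale ξ).fiber.obj (EtCoh.top _) => M) (topLift ξ) := by
      rw [← adj.homEquiv_symm_id M]
      have h2 := (Scheme.pointSmallEtale ξ).skyscraperSheafAdjunction_homEquiv_symm_apply
        (A := Type (u + 1)) (F := (Scheme.pointSmallEtale ξ).skyscraperSheaf M) (M := M) (𝟙 _)
      refine (congrArg (fun m => (Scheme.pointSmallEtale ξ).toPresheafFiber (EtCoh.top _)
        (topLift ξ) ((Scheme.pointSmallEtale ξ).skyscraperPresheaf M) ≫ m) h2).trans ?_
      exact ((Scheme.pointSmallEtale ξ).toPresheafFiber_skyscraperPresheafHomEquiv_symm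
        _ _ _).trans (Category.id_comp _)
    haveI := isIso_toStalk ξ ((Scheme.pointSmallEtale ξ).skyscraperPresheaf M)
    haveI : IsIso (Pi.π (fun _ : (Scheme.pointSmallEtale ξ).fiber.obj (EtCoh.top _) => M)
        (topLift ξ)) :=
      inferInstanceAs (IsIso (productUniqueIso
        (fun _ : (Scheme.pointSmallEtale ξ).fiber.obj (EtCoh.top _) => M)).hom)
    haveI : IsIso ((Scheme.pointSmallEtale ξ).toPresheafFiber (EtCoh.top _) (topLift ξ)
          ((Scheme.pointSmallEtale ξ).skyscraperPresheaf M) ≫ adj.counit.app M) := by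
      rw [h1]; infer_instance
    exact IsIso.of_isIso_comp_left ((Scheme.pointSmallEtale ξ).toPresheafFiber (EtCoh.top _)
      (topLift ξ) ((Scheme.pointSmallEtale ξ).skyscraperPresheaf M)) _
  haveI hu : ∀ F, IsIso (adj.unit.app F) := by
    intro F
    have h3 : IsIso ((Φ.sheafFiber (A := Type (u + 1))).map (adj.unit.app F)) := by
      have h4 := adj.left_triangle_components F
      haveI : IsIso ((Φ.sheafFiber (A := Type (u + 1))).map (adj.unit.app F) ≫
          adj.counit.app ((Φ.sheafFiber (A := Type (u + 1))).obj F)) := by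
        rw [h4]; exact IsIso.id _
      exact IsIso.of_isIso_comp_right _
        (adj.counit.app ((Φ.sheafFiber (A := Type (u + 1))).obj F))
    subst hΦ
    exact isIso_of_isIso_fiber ξ _ h3
  rw [← hΦ]
  exact (adj.toEquivalence).isEquivalence_functor

theorem isEquivalence_sections (k : Type u) [Field k] [IsSepClosed k] :
    ((sheafSections (Spec (CommRingCat.of k)).smallEtaleTopology (Type (u + 1))).obj
      (op (EtCoh.top (Spec (CommRingCat.of k))))).IsEquivalence := by
  haveI := isEquivalence_sheafFiber (𝟙 (Spec (CommRingCat.of k)))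
  exact Functor.isEquivalence_of_iso (sectionsIsoFiber (𝟙 (Spec (CommRingCat.of k)))).symm

theorem isEquivalence_pullSh (f : Spec (CommRingCat.of Ω) ⟶ Spec (CommRingCat.of k)) :
    (EtDesc.pullSh f).IsEquivalence := by
  haveI := isEquivalence_sheafFiber (𝟙 (Spec (CommRingCat.of Ω)))
  haveI := isEquivalence_sheafFiber (𝟙 (Spec (CommRingCat.of Ω)) ≫ f)
  haveI : (EtDesc.pullSh f ⋙ (Scheme.pointSmallEtale
      (𝟙 (Spec (CommRingCat.of Ω)))).sheafFiber (A := Type (u + 1))).IsEquivalence :=
    Functor.isEquivalence_of_iso (stalkPullIsoSh f (𝟙 (Spec (CommRingCat.of Ω)))).symm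
  exact Functor.isEquivalence_of_comp_right _
    ((Scheme.pointSmallEtale (𝟙 (Spec (CommRingCat.of Ω)))).sheafFiber (A := Type (u + 1)))

end Groth.Agent.Lib.SepClosedPt_helper7
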