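import Mathlib
import Groth.Prelude
import Groth.Agent.Lib.SepClosedPts3_lead
import Groth.Agent.Lib.SepPts_helper6

/-!
# Rational points of geometrically reduced schemes over separably closed fields (helper3)

APPEND-ONLY once landed.
-/

set_option autoImplicit false
set_option linter.style.haveILetI false
set_option linter.unusedSectionVars false
universe u

open AlgebraicGeometry CategoryTheory CategoryTheory.Limits

namespace Groth.Agent.Lib.SepClosedRatH3

set_option maxHeartbeats 800000 in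
/-- **S18366**. -/
theorem main18366 (k : Type u) [Field k] [IsSepClosed k]
    {X : Scheme.{u}} (f : X ⟶ Spec (CommRingCat.of k)) [LocallyOfFiniteType f]
    [GeometricallyReduced f] [Nonempty X] :
    ∃ s : Spec (CommRingCat.of k) ⟶ X, s ≫ f = 𝟙 (Spec (CommRingCat.of k)) := by
  haveI : LocallyOfFinitePresentation f := inferInstance
  obtain ⟨U, hU⟩ : ∃ U : X.Opens, U = f.smoothLocus := ⟨_, rfl⟩
  have hUd : Dense (U : Set X) := by
    rw [hU]
    exact Groth.Agent.Lib.SepClosedPts.dense_smoothLocus_of_geomRed f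
  haveI hsm : Smooth (U.ι ≫ f) := by
    have e := Scheme.Hom.preimage_smoothLocus_eq U.ι f
    rw [← hU, Scheme.Opens.ι_preimage_self] at e
    exact Scheme.Hom.smoothLocus_eq_top_iff.1 e.symm
  obtain ⟨x1, hx1⟩ := hUd.nonempty
  letI ovU : (U : Scheme.{u}).Over (Spec (CommRingCat.of k)) := ⟨U.ι ≫ f⟩
  haveI : Smooth ((U : Scheme.{u}) ↘ Spec (CommRingCat.of k)) := hsm
  haveI : Nonempty (U : Scheme.{u}) := ⟨⟨x1, hx1⟩⟩
  obtain ⟨x, -, -, hsep⟩ :=
    (Groth.Agent.Lib.SepPts_helper6.dense_sepPts k (U : Scheme.{u})).nonempty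
  letI := Curv2.resAlgebra k (U : Scheme.{u}) x
  haveI := hsep
  let φ : (U : Scheme.{u}).residueField x →ₐ[k] k := IsSepClosed.lift
  refine ⟨Spec.map (CommRingCat.ofHom φ.toRingHom) ≫
    (U : Scheme.{u}).fromSpecResidueField x ≫ U.ι, ?_⟩
  rw [Category.assoc, Category.assoc]
  have h1 : (U : Scheme.{u}).fromSpecResidueField x ≫ U.ι ≫ f =
      Spec.map (CommRingCat.ofHom (Curv2.resMap k (U : Scheme.{u}) x)) :=
    RatPtsH4.fromSpecResidueField_comp k (U : Scheme.{u}) x
  rw [h1, ← Spec.map_comp]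
  have h2 : CommRingCat.ofHom (Curv2.resMap k (U : Scheme.{u}) x) ≫
      CommRingCat.ofHom φ.toRingHom = 𝟙 (CommRingCat.of k) := by
    ext a
    exact φ.commutes a
  rw [h2, Spec.map_id]

end Groth.Agent.Lib.SepClosedRatH3
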