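import Mathlib
import Groth.Prelude.Def_EGA4b
import Groth.Agent.Lib.NBC5_helper3
import Groth.Agent.Lib.GeomNormalSep_helper3
import Groth.Agent.Lib.IntegralHeight_helper5
import Groth.Agent.Lib.NormalSmoothBC_helper3
import Groth.Agent.Lib.HensIntDom_lead

/-!
# Base change of a henselian normal local domain to the separable closure of its residue field
(helper3).  APPEND-ONLY once landed.
-/

set_option autoImplicit false
universe u

namespace Groth.Agent.Lib.SepClosureBCH3

open TensorProduct IsLocalRing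

/-- A reduced ring of Krull dimension `0` is normal. -/
theorem isNormalRing_of_krullDimLE_zero (R : Type u) [CommRing R] [IsReduced R]
    [Ring.KrullDimLE 0 R] : EGA4.IsNormalRing R := by
  intro P hP
  haveI : Ring.KrullDimLE 0 (Localization.AtPrime P) :=
    Ring.KrullDimLE.of_isLocalization P (Ideal.mem_minimalPrimes_of_krullDimLE_zero P) _
  haveI : IsReduced (Localization.AtPrime P) := inferInstance
  have hfield : IsField (Localization.AtPrime P) := Ring.KrullDimLE.isField_of_isReduced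
  letI := hfield.toField
  exact ⟨inferInstance, inferInstance⟩

/-- A separable algebraic field extension is a normal homomorphism. -/
theorem isNormalHom_of_isSeparable (k Ω : Type u) [Field k] [Field Ω] [Algebra k Ω]
    [Algebra.IsSeparable k Ω] : EGA4.IsNormalHom k Ω := by
  refine ⟨inferInstance, fun p hp L _ _ hfin => ?_⟩
  letI : Algebra k L :=
    ((algebraMap p.ResidueField L).comp (algebraMap k p.ResidueField)).toAlgebra
  haveI : IsScalarTower k p.ResidueField L := IsScalarTower.of_algebraMap_eq fun _ => rfl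
  haveI : IsReduced (Ω ⊗[k] L) :=
    Groth.Agent.Lib.GeomNormalSepH3.isReduced_tensor_of_isSeparable k Ω L
  haveI : IsReduced (L ⊗[k] Ω) :=
    isReduced_of_injective (Algebra.TensorProduct.comm k L Ω).toAlgHom
      (Algebra.TensorProduct.comm k L Ω).injective
  haveI : Algebra.IsIntegral k Ω := ⟨fun x => Algebra.IsSeparable.isIntegral k x⟩
  haveI : Algebra.IsIntegral L (L ⊗[k] Ω) := inferInstance
  haveI : Ring.KrullDimLE 0 (L ⊗[k] Ω) :=
    Groth.Agent.Lib.GeomNormalSepH3.krullDimLE_zero_of_isIntegral L (L ⊗[k] Ω)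
  have h1 : EGA4.IsNormalRing (L ⊗[k] Ω) := isNormalRing_of_krullDimLE_zero _
  exact Groth.Agent.Lib.GeomNormalH3.isNormalRing_of_ringEquiv
    (Algebra.TensorProduct.cancelBaseChange k p.ResidueField L L Ω).symm.toRingEquiv h1

/-- A normal domain is integrally closed. -/
theorem isIntegrallyClosed_of_isNormalRing (R : Type u) [CommRing R] [IsDomain R]
    (h : EGA4.IsNormalRing R) : IsIntegrallyClosed R := by
  apply IsIntegrallyClosed.of_localization_maximal
  intro p _ hp
  haveI := hp.isPrime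
  exact (h p).2

section Main

variable (k : Type u) [Field k] (R₀ : Type u) [CommRing R₀] [IsDomain R₀] [HenselianLocalRing R₀]
  [Algebra k R₀] [IsIntegrallyClosed R₀]

theorem main13417 (Ω : Type u) [Field Ω] [Algebra k Ω] [Algebra.IsSeparable k Ω]
    (hres : Function.Surjective (fun a : k => IsLocalRing.residue R₀ (algebraMap k R₀ a)))
    [IsDomain (R₀ ⊗[k] Ω)] :
    ∃ _ : HenselianLocalRing (R₀ ⊗[k] Ω),
      IsIntegrallyClosed (R₀ ⊗[k] Ω) ∧
      ringKrullDim (R₀ ⊗[k] Ω) = ringKrullDim R₀ ∧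
      Function.Surjective (fun a : Ω =>
        IsLocalRing.residue (R₀ ⊗[k] Ω)
          ((Algebra.TensorProduct.includeRight : Ω →ₐ[k] R₀ ⊗[k] Ω) a)) := by
  haveI : Algebra.IsIntegral k Ω := ⟨fun x => Algebra.IsSeparable.isIntegral k x⟩
  haveI : Algebra.IsIntegral R₀ (R₀ ⊗[k] Ω) := inferInstance
  have hhens : HenselianLocalRing (R₀ ⊗[k] Ω) :=
    Groth.Agent.Lib.HensIntDom.henselian_of_integral_domain R₀ (R₀ ⊗[k] Ω)
  refine ⟨hhens, ?_, ?_, ?_⟩
  · have h1 : EGA4.IsNormalRing (Ω ⊗[k] R₀) :=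
      Groth.Agent.Lib.NBCH3.main2670 k Ω (isNormalHom_of_isSeparable k Ω) R₀
        (Groth.Agent.Lib.NormalSmoothBCH3.isNormalRing_of_isIntegrallyClosed R₀)
    have h2 : EGA4.IsNormalRing (R₀ ⊗[k] Ω) :=
      Groth.Agent.Lib.GeomNormalH3.isNormalRing_of_ringEquiv
        (Algebra.TensorProduct.comm k Ω R₀).toRingEquiv h1
    exact isIntegrallyClosed_of_isNormalRing _ h2
  · apply Groth.Agent.IntegralHeight.ringKrullDim_eq_of_isIntegral_of_injective
    have : Function.Injective (Algebra.TensorProduct.includeLeft : R₀ →ₐ[k] R₀ ⊗[k] Ω) :=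
      Algebra.TensorProduct.includeLeft_injective (RingHom.injective (algebraMap k Ω))
    exact this
  · haveI : IsLocalHom (algebraMap R₀ (R₀ ⊗[k] Ω)) :=
      Groth.Agent.Lib.HensIntDom.isLocalHom_of_integral R₀ (R₀ ⊗[k] Ω)
    intro y
    obtain ⟨x, rfl⟩ := residue_surjective y
    induction x using TensorProduct.induction_on with
    | zero => exact ⟨0, by simp⟩
    | tmul r c =>
      obtain ⟨a, ha⟩ := hres (residue R₀ r)
      have hmem : r - algebraMap k R₀ a ∈ maximalIdeal R₀ := by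
        rw [← residue_eq_zero_iff, map_sub, ← ha, sub_self]
      refine ⟨a • c, ?_⟩
      show residue (R₀ ⊗[k] Ω) ((1 : R₀) ⊗ₜ[k] (a • c)) = residue (R₀ ⊗[k] Ω) (r ⊗ₜ[k] c)
      rw [← sub_eq_zero, ← map_sub, residue_eq_zero_iff]
      have h1 : (1 : R₀) ⊗ₜ[k] (a • c) - r ⊗ₜ[k] c =
          -(algebraMap R₀ (R₀ ⊗[k] Ω) (r - algebraMap k R₀ a) * ((1 : R₀) ⊗ₜ[k] c)) := by
        rw [Algebra.TensorProduct.algebraMap_apply, Algebra.TensorProduct.tmul_mul_tmul,
          Algebra.algebraMap_self, RingHom.id_apply, mul_one, one_mul, TensorProduct.sub_tmul,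
          Algebra.algebraMap_eq_smul_one, TensorProduct.smul_tmul, neg_sub]
      rw [h1]
      refine (Submodule.neg_mem_iff _).mpr ?_
      apply Ideal.mul_mem_right
      have hle : maximalIdeal R₀ ≤
          (maximalIdeal (R₀ ⊗[k] Ω)).comap (algebraMap R₀ (R₀ ⊗[k] Ω)) :=
        ((local_hom_TFAE (algebraMap R₀ (R₀ ⊗[k] Ω))).out 0 3).mp
          ‹IsLocalHom (algebraMap R₀ (R₀ ⊗[k] Ω))›
      exact hle hmem
    | add x y hx hy =>
      obtain ⟨a, ha⟩ := hx
      obtain ⟨b, hb⟩ := hy
      refine ⟨a + b, ?_⟩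
      simp only [map_add] at ha hb ⊢
      rw [ha, hb]

end Main

end Groth.Agent.Lib.SepClosureBCH3
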