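import Mathlib

/-!
# Criteria for separatedness (helper4)
-/

open AlgebraicGeometry CategoryTheory Limits MorphismProperty TopologicalSpace

universe u

set_option autoImplicit false
set_option linter.style.haveILetI false

namespace Groth.Agent.Lib.SepCritH4

theorem isSeparated_of_isClosed_range {X S : Scheme.{u}} (f : X ⟶ S)
    (h : IsClosed (Set.range (pullback.diagonal f))) : IsSeparated f :=
  ⟨IsClosedImmersion.of_isPreimmersion _ h⟩

/-- A morphism from a reduced scheme to `X ×_S X` landing set-theoretically in the diagonal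
equalizes the two projections. -/
theorem fst_eq_snd_of_range_subset {X S U : Scheme.{u}} (f : X ⟶ S) [IsReduced U]
    (u : U ⟶ pullback f f) (h : Set.range u ⊆ Set.range (pullback.diagonal f)) :
    u ≫ pullback.fst f f = u ≫ pullback.snd f f := by
  let Δ : X ⟶ pullback f f := pullback.diagonal f
  let e : pullback u Δ ⟶ U := pullback.fst u Δ
  haveI : IsImmersion e := inferInstance
  haveI : Surjective e := ⟨fun t => by
    obtain ⟨x, hx⟩ := h ⟨t, rfl⟩
    obtain ⟨z, hz1, _⟩ := Scheme.Pullback.exists_preimage_pullback (f := u) (g := Δ) t x hx.symm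
    exact ⟨z, hz1⟩⟩
  haveI : IsClosedImmersion e := IsClosedImmersion.of_isPreimmersion e (by
    rw [Set.range_eq_univ.mpr e.surjective]; exact isClosed_univ)
  haveI : IsIso e := isIso_of_isClosedImmersion_of_surjective e
  have hu : u = inv e ≫ pullback.snd u Δ ≫ Δ := by
    rw [← pullback.condition, IsIso.inv_hom_id_assoc]
  rw [hu, Category.assoc, Category.assoc, Category.assoc, Category.assoc]
  change inv e ≫ pullback.snd u Δ ≫ pullback.diagonal f ≫ pullback.fst f f =
    inv e ≫ pullback.snd u Δ ≫ pullback.diagonal f ≫ pullback.snd f f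
  rw [pullback.diagonal_fst, pullback.diagonal_snd]

set_option maxHeartbeats 1600000 in
theorem isClosed_range_diagonal_of_cancel {X S : Scheme.{u}} (f : X ⟶ S)
    (H : ∀ (T : Scheme.{u}) [IsReduced T] (g₁ g₂ : T ⟶ X) (U : T.Opens), g₁ ≫ f = g₂ ≫ f →
      Dense (U : Set T) → U.ι ≫ g₁ = U.ι ≫ g₂ → g₁ = g₂) :
    IsClosed (Set.range (pullback.diagonal f)) := by
  let Δ : X ⟶ pullback f f := pullback.diagonal f
  change IsClosed (Set.range Δ)
  rw [← closure_subset_iff_isClosed]
  intro p hp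
  obtain ⟨_, ⟨W, hW, rfl⟩, hpW, -⟩ :=
    (pullback f f).isBasis_affineOpens.exists_subset_of_mem_open (Set.mem_univ p) isOpen_univ
  replace hW : IsAffineOpen W := hW
  let j : Spec Γ(pullback f f, W) ⟶ pullback f f := hW.fromSpec
  have hrj : Set.range j = (W : Set ↥(pullback f f)) := hW.range_fromSpec
  let C : Set (PrimeSpectrum Γ(pullback f f, W)) := j ⁻¹' closure (Set.range Δ)
  have hC : IsClosed C := isClosed_closure.preimage j.continuous
  let I : Ideal Γ(pullback f f, W) := PrimeSpectrum.vanishingIdeal C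
  have hI : I.IsRadical := PrimeSpectrum.isRadical_vanishingIdeal C
  haveI : _root_.IsReduced (Γ(pullback f f, W) ⧸ I) :=
    (Ideal.isRadical_iff_quotient_reduced I).mp hI
  let φ : Γ(pullback f f, W) ⟶ CommRingCat.of (Γ(pullback f f, W) ⧸ I) :=
    CommRingCat.ofHom (Ideal.Quotient.mk I)
  let q : Spec (CommRingCat.of (Γ(pullback f f, W) ⧸ I)) ⟶ Spec Γ(pullback f f, W) :=
    Spec.map φ
  haveI : IsClosedImmersion q := IsClosedImmersion.spec_of_surjective φ Ideal.Quotient.mk_surjective
  have hrq : Set.range q = C := by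
    have h1 : Set.range q = PrimeSpectrum.zeroLocus (RingHom.ker (Ideal.Quotient.mk I)) :=
      _root_.range_comap_of_surjective _ (Ideal.Quotient.mk I) Ideal.Quotient.mk_surjective
    rw [h1, Ideal.mk_ker, PrimeSpectrum.zeroLocus_vanishingIdeal_eq_closure, hC.closure_eq]
  let t : Spec (CommRingCat.of (Γ(pullback f f, W) ⧸ I)) ⟶ pullback f f := q ≫ j
  -- every point of `range t` has `t`-image in the closure of the diagonal
  have htcl : ∀ z, t z ∈ closure (Set.range Δ) := by
    intro z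
    have : q z ∈ C := by rw [← hrq]; exact ⟨z, rfl⟩
    exact this
  have hrt : ∀ y : ↥(pullback f f), y ∈ W → y ∈ closure (Set.range Δ) → y ∈ Set.range t := by
    intro y hyW hy
    have : y ∈ Set.range j := by rw [hrj]; exact hyW
    obtain ⟨y', rfl⟩ := this
    have hy' : y' ∈ C := hy
    rw [← hrq] at hy'
    obtain ⟨z, rfl⟩ := hy'
    exact ⟨z, rfl⟩
  obtain ⟨z₀, rfl⟩ := hrt p hpW hp
  -- now show `range t ⊆ range Δ`
  let g₁ := t ≫ pullback.fst f f
  let g₂ := t ≫ pullback.snd f f
  have hg : g₁ ≫ f = g₂ ≫ f := by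
    rw [show g₁ ≫ f = t ≫ (pullback.fst f f ≫ f) from Category.assoc _ _ _,
      show g₂ ≫ f = t ≫ (pullback.snd f f ≫ f) from Category.assoc _ _ _, pullback.condition]
  let U := t ⁻¹ᵁ Δ.coborderRange
  have hUmem : ∀ z, z ∈ U ↔ t z ∈ coborder (Set.range Δ) := fun z => Iff.rfl
  have hUdense : Dense (U.1 : Set _) := by
    intro x
    rw [mem_closure_iff]
    intro O hO hxO
    obtain ⟨O', hO', rfl⟩ := t.isEmbedding.isInducing.isOpen_iff.mp hO
    have hx' : t x ∈ O' ∩ (W : Set ↥(pullback f f)) := by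
      refine ⟨hxO, ?_⟩
      rw [← hrj]
      exact ⟨q x, rfl⟩
    obtain ⟨_, ⟨hy1, hy2⟩, ⟨x₀, rfl⟩⟩ :=
      mem_closure_iff.mp (htcl x) _ (hO'.inter W.2) hx'
    obtain ⟨z, hz⟩ := hrt (Δ x₀) hy2 (subset_closure ⟨x₀, rfl⟩)
    refine ⟨z, ?_, ?_⟩
    · change t z ∈ O'
      rw [hz]; exact hy1
    · change t z ∈ coborder (Set.range Δ)
      rw [hz]; exact subset_coborder ⟨x₀, rfl⟩
  have hUeq : U.ι ≫ g₁ = U.ι ≫ g₂ := by
    change U.ι ≫ t ≫ pullback.fst f f = U.ι ≫ t ≫ pullback.snd f f
    rw [← Category.assoc, ← Category.assoc]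
    apply fst_eq_snd_of_range_subset
    rintro _ ⟨z, rfl⟩
    have h1 : t (U.ι z) ∈ coborder (Set.range Δ) := z.2
    have h2 : t (U.ι z) ∈ closure (Set.range Δ) := htcl _
    have h3 : t (U.ι z) ∈ closure (Set.range Δ) ∩ coborder (Set.range Δ) := ⟨h2, h1⟩
    rw [closure_inter_coborder] at h3
    exact h3
  have hgg : g₁ = g₂ := H _ g₁ g₂ U hg hUdense hUeq
  have ht : t = g₁ ≫ Δ := by
    apply pullback.hom_ext
    · have : (g₁ ≫ Δ) ≫ pullback.fst f f = g₁ := by
        rw [Category.assoc g₁ Δ]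
        change g₁ ≫ pullback.diagonal f ≫ pullback.fst f f = g₁
        rw [pullback.diagonal_fst]; exact Category.comp_id _
      exact this.symm
    · have : (g₁ ≫ Δ) ≫ pullback.snd f f = g₁ := by
        rw [Category.assoc g₁ Δ]
        change g₁ ≫ pullback.diagonal f ≫ pullback.snd f f = g₁
        rw [pullback.diagonal_snd]; exact Category.comp_id _
      rw [this, hgg]
  exact ⟨g₁ z₀, by rw [← Scheme.Hom.comp_apply, ← ht]⟩

set_option maxHeartbeats 800000 in
theorem isClosed_range_diagonal_of_local {X S : Scheme.{u}} (f : X ⟶ S)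
    (H : ∀ x₁ x₂ : X, f.base x₁ = f.base x₂ →
      ∃ V : X.Opens, x₁ ∈ V ∧ x₂ ∈ V ∧ IsSeparated (V.ι ≫ f)) :
    IsClosed (Set.range (pullback.diagonal f)) := by
  rw [← closure_subset_iff_isClosed]
  intro p hp
  obtain ⟨V, h1, h2, hV⟩ := H (pullback.fst f f p) (pullback.snd f f p) (by
    change (pullback.fst f f ≫ f) p = (pullback.snd f f ≫ f) p
    rw [pullback.condition])
  let fV : (V : Scheme.{u}) ⟶ S := V.ι ≫ f
  haveI : IsSeparated fV := hV
  let j : pullback fV fV ⟶ pullback f f :=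
    pullback.map fV fV f f V.ι V.ι (𝟙 S) (Category.comp_id _) (Category.comp_id _)
  haveI : IsOpenImmersion j := inferInstance
  have hj1 : j ≫ pullback.fst f f = pullback.fst fV fV ≫ V.ι := pullback.lift_fst _ _ _
  have hj2 : j ≫ pullback.snd f f = pullback.snd fV fV ≫ V.ι := pullback.lift_snd _ _ _
  have hrj : Set.range j =
      pullback.fst f f ⁻¹' Set.range V.ι ∩ pullback.snd f f ⁻¹' Set.range V.ι :=
    Scheme.Pullback.range_map ..
  have hpj : p ∈ Set.range j := by
    rw [hrj, Scheme.Opens.range_ι]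
    exact ⟨h1, h2⟩
  obtain ⟨w, rfl⟩ := hpj
  have hΔ : pullback.diagonal fV ≫ j = V.ι ≫ pullback.diagonal f := by
    apply pullback.hom_ext
    · rw [Category.assoc, hj1, pullback.diagonal_fst_assoc, Category.assoc,
        pullback.diagonal_fst, Category.comp_id]
    · rw [Category.assoc, hj2, pullback.diagonal_snd_assoc, Category.assoc,
        pullback.diagonal_snd, Category.comp_id]
  have hpre : j ⁻¹' Set.range (pullback.diagonal f) = Set.range (pullback.diagonal fV) := by
    ext w'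
    constructor
    · rintro ⟨x, hx⟩
      have e1 : pullback.fst f f (pullback.diagonal f x) = x := by
        change (pullback.diagonal f ≫ pullback.fst f f) x = x
        rw [pullback.diagonal_fst]; rfl
      have e2 : pullback.fst f f (j w') = V.ι (pullback.fst fV fV w') := by
        change (j ≫ pullback.fst f f) w' = (pullback.fst fV fV ≫ V.ι) w'
        rw [hj1]
      have e3 : x = V.ι (pullback.fst fV fV w') := by rw [← e1, hx, e2]
      refine ⟨pullback.fst fV fV w', j.isOpenEmbedding.injective ?_⟩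
      change (pullback.diagonal fV ≫ j) (pullback.fst fV fV w') = j w'
      rw [hΔ, ← hx, e3]
      rfl
    · rintro ⟨v, rfl⟩
      exact ⟨V.ι v, by
        change (V.ι ≫ pullback.diagonal f) v = (pullback.diagonal fV ≫ j) v
        rw [hΔ]⟩
  have hcl : IsClosed (Set.range (pullback.diagonal fV)) :=
    (pullback.diagonal fV).isClosedEmbedding.isClosed_range
  have hw : w ∈ closure (j ⁻¹' Set.range (pullback.diagonal f)) := by
    rw [← j.isOpenEmbedding.isOpenMap.preimage_closure_eq_closure_preimage j.continuous]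
    exact hp
  rw [hpre, hcl.closure_eq] at hw
  obtain ⟨v, rfl⟩ := hw
  exact ⟨V.ι v, by
    change (V.ι ≫ pullback.diagonal f) v = (pullback.diagonal fV ≫ j) v
    rw [hΔ]⟩

theorem main5333 (X S : Scheme.{u}) (f : X ⟶ S) :
    (IsSeparated f ↔ ∀ (T : Scheme.{u}) [IsReduced T] (g₁ g₂ : T ⟶ X) (U : T.Opens), g₁ ≫ f = g₂ ≫ f →
      Dense (U : Set T) → U.ι ≫ g₁ = U.ι ≫ g₂ → g₁ = g₂) ∧
    (IsSeparated f ↔ ∀ x₁ x₂ : X, f.base x₁ = f.base x₂ →
      ∃ V : X.Opens, x₁ ∈ V ∧ x₂ ∈ V ∧ IsSeparated (V.ι ≫ f)) := by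
  refine ⟨⟨?_, ?_⟩, ⟨?_, ?_⟩⟩
  · intro hsep T _ g₁ g₂ U hg hU hUg
    haveI : IsDominant U.ι := ⟨by
      change Dense (Set.range U.ι)
      rw [Scheme.Opens.range_ι]; exact hU⟩
    exact ext_of_isDominant_of_isSeparated f hg U.ι hUg
  · intro H
    exact isSeparated_of_isClosed_range f (isClosed_range_diagonal_of_cancel f H)
  · intro hsep x₁ x₂ _
    exact ⟨⊤, trivial, trivial, inferInstance⟩
  · intro H
    exact isSeparated_of_isClosed_range f (isClosed_range_diagonal_of_local f H)

end Groth.Agent.Lib.SepCritH4
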