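import Mathlib

/-!
# Separatedness descends along surjective universally closed morphisms (helper7)
-/

set_option autoImplicit false
universe u
open CategoryTheory CategoryTheory.Limits AlgebraicGeometry

namespace Groth.Agent.Lib.SepDescentH7

variable {S X Y : Scheme.{u}} (p : X ⟶ S) (q : Y ⟶ S) (π : X ⟶ Y) (hπ : π ≫ q = p)

include hπ in
/-- Auxiliary: existence of the product map with its properties. -/
theorem exists_prodMap [UniversallyClosed π] :
    ∃ ππ : pullback p p ⟶ pullback q q, UniversallyClosed ππ ∧
      pullback.diagonal p ≫ ππ = π ≫ pullback.diagonal q := by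
  refine ⟨pullback.map p p q q π π (𝟙 _) ((Category.comp_id _).trans hπ.symm)
    ((Category.comp_id _).trans hπ.symm), ?_, ?_⟩
  · exact MorphismProperty.pullbackMap (P := @UniversallyClosed) ‹_› ‹_› hπ.symm hπ.symm
  · ext
    · simp only [Category.assoc, pullback.lift_fst, pullback.diagonal_fst_assoc,
        pullback.diagonal_fst, Category.comp_id]
    · simp only [Category.assoc, pullback.lift_snd, pullback.diagonal_snd_assoc,
        pullback.diagonal_snd, Category.comp_id]

include hπ in
theorem isSeparated_of_surjective_universallyClosed [UniversallyClosed π] [Surjective π]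
    [IsSeparated p] : IsSeparated q := by
  obtain ⟨ππ, hππ, hcomm⟩ := exists_prodMap p q π hπ
  refine ⟨IsClosedImmersion.of_isPreimmersion _ ?_⟩
  have h1 : Set.range (pullback.diagonal q) = ππ '' Set.range (pullback.diagonal p) := by
    have e1 : Set.range (π ≫ pullback.diagonal q) = Set.range (pullback.diagonal q) := by
      rw [Scheme.Hom.comp_base, TopCat.coe_comp, Set.range_comp,
        Set.range_eq_univ.mpr π.surjective, Set.image_univ]
    rw [← e1, ← hcomm, Scheme.Hom.comp_base, TopCat.coe_comp, Set.range_comp]
  rw [h1]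
  exact ππ.isClosedMap _ (pullback.diagonal p).isClosedEmbedding.isClosed_range

include hπ in
theorem quasiSeparated_of_surjective_universallyClosed [UniversallyClosed π] [Surjective π]
    [QuasiSeparated p] : QuasiSeparated q := by
  obtain ⟨ππ, hππ, hcomm⟩ := exists_prodMap p q π hπ
  refine ⟨⟨fun W hWo hWc => ?_⟩⟩
  have h1 : (pullback.diagonal q) ⁻¹' W = π '' ((pullback.diagonal p) ⁻¹' (ππ ⁻¹' W)) := by
    ext y
    constructor
    · intro hy
      obtain ⟨x, rfl⟩ := π.surjective y
      refine ⟨x, ?_, rfl⟩
      show ππ (pullback.diagonal p x) ∈ W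
      rw [← Scheme.Hom.comp_apply, hcomm, Scheme.Hom.comp_apply]
      exact hy
    · rintro ⟨x, hx, rfl⟩
      have hx' : ππ (pullback.diagonal p x) ∈ W := hx
      rw [← Scheme.Hom.comp_apply, hcomm, Scheme.Hom.comp_apply] at hx'
      exact hx'
  rw [h1]
  refine IsCompact.image ?_ π.continuous
  refine QuasiCompact.isCompact_preimage (f := pullback.diagonal p) _
    (hWo.preimage ππ.continuous) ?_
  exact QuasiCompact.isCompact_preimage (f := ππ) _ hWo hWc

end Groth.Agent.Lib.SepDescentH7
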