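import Mathlib

/-!
# The equaliser of `L ⇉ (L ⊗_K L)^` is the separable closure (helper3)

* `descent`: if `L` is flat over a `K`-algebra `A₀ ∋ x₀ ↦ x` and the annihilator of
  `x₀ ⊗ 1 - 1 ⊗ x` in `A₀ ⊗_K L` is killed by the multiplication map, then the annihilator of
  `x ⊗ 1 - 1 ⊗ x` in `L ⊗_K L` lies in the diagonal ideal.
* `ann_le_of_transcendental`, `ann_le_of_not_separable`: the two instances.
* `mem_pow_of_separable`: for separable `x`, `x ⊗ 1 - 1 ⊗ x` lies in every power of the diagonal ideal.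
-/

set_option autoImplicit false
open scoped TensorProduct
open TensorProduct Polynomial

namespace Groth.Agent.Lib.SepEqH3

universe u

section Descent
variable {K : Type u} [Field K] {L : Type u} [Field L] [Algebra K L]
  {A₀ : Type u} [CommRing A₀] [Algebra K A₀] [Algebra A₀ L] [IsScalarTower K A₀ L]

/-- multiplication `A₀ ⊗ L → L` -/
noncomputable def mu₂ : A₀ ⊗[K] L →ₐ[K] L :=
  Algebra.TensorProduct.lift (IsScalarTower.toAlgHom K A₀ L) (AlgHom.id K L)
    (fun _ _ => Commute.all _ _)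

lemma mu₂_tmul (a : A₀) (l : L) : mu₂ (a ⊗ₜ[K] l) = algebraMap A₀ L a * l := by
  simp [mu₂]

/-- `x₀ ⊗ 1 - 1 ⊗ x` -/
noncomputable def delta₂ (x₀ : A₀) (x : L) : A₀ ⊗[K] L := x₀ ⊗ₜ 1 - 1 ⊗ₜ x

/-- `x ⊗ 1 - 1 ⊗ x` -/
noncomputable def delta (x : L) : L ⊗[K] L := x ⊗ₜ 1 - 1 ⊗ₜ x

/-- `L ⊗_{A₀} (A₀ ⊗_K L) ≃ L ⊗_K L` -/
noncomputable abbrev ee (K A₀ L : Type u) [Field K] [Field L] [Algebra K L]
    [CommRing A₀] [Algebra K A₀] [Algebra A₀ L] [IsScalarTower K A₀ L] :
    L ⊗[A₀] (A₀ ⊗[K] L) ≃ₗ[A₀] L ⊗[K] L :=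
  AlgebraTensorModule.cancelBaseChange K A₀ A₀ L L

lemma ee_tmul (l : L) (a : A₀) (n : L) : ee K A₀ L (l ⊗ₜ (a ⊗ₜ n)) = (a • l) ⊗ₜ n := rfl

lemma e_lTensor (x₀ : A₀) (x : L) (hx : algebraMap A₀ L x₀ = x) (z : L ⊗[A₀] (A₀ ⊗[K] L)) :
    ee K A₀ L (AlgebraTensorModule.lTensor A₀ L (LinearMap.mulLeft A₀ (delta₂ (K := K) x₀ x)) z)
      = delta x * ee K A₀ L z := by
  induction z using TensorProduct.induction_on with
  | zero => simp
  | add a b ha hb => simp only [map_add, mul_add, ha, hb]
  | tmul l c =>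
    induction c using TensorProduct.induction_on with
    | zero => simp
    | add a b ha hb => simp only [tmul_add, map_add, mul_add, ha, hb]
    | tmul a n =>
      rw [AlgebraTensorModule.lTensor_tmul, LinearMap.mulLeft_apply, delta₂, sub_mul,
        Algebra.TensorProduct.tmul_mul_tmul, Algebra.TensorProduct.tmul_mul_tmul, tmul_sub,
        map_sub, ee_tmul, ee_tmul, ee_tmul, delta, sub_mul, Algebra.TensorProduct.tmul_mul_tmul,
        Algebra.TensorProduct.tmul_mul_tmul, one_mul, one_mul, one_mul, mul_smul, ← hx,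
        Algebra.smul_def x₀]

lemma mu_e (l : L) (c : A₀ ⊗[K] L) :
    Algebra.TensorProduct.lmul' K (ee K A₀ L (l ⊗ₜ c)) = l * mu₂ c := by
  induction c using TensorProduct.induction_on with
  | zero => simp
  | add a b ha hb => rw [tmul_add, map_add, map_add, map_add, mul_add, ha, hb]
  | tmul a n =>
    rw [ee_tmul, Algebra.TensorProduct.lmul'_apply_tmul, mu₂_tmul, Algebra.smul_def]
    ring

lemma mu_e_ker (x₀ : A₀) (x : L)
    (H : ∀ c : A₀ ⊗[K] L, delta₂ x₀ x * c = 0 → mu₂ c = 0)
    (z : L ⊗[A₀] (LinearMap.ker (LinearMap.mulLeft A₀ (delta₂ (K := K) x₀ x)))) :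
    Algebra.TensorProduct.lmul' K (ee K A₀ L (AlgebraTensorModule.lTensor A₀ L
      (LinearMap.ker (LinearMap.mulLeft A₀ (delta₂ (K := K) x₀ x))).subtype z)) = 0 := by
  induction z using TensorProduct.induction_on with
  | zero => simp
  | add a b ha hb => simp only [map_add, ha, hb, add_zero]
  | tmul l c =>
    rw [AlgebraTensorModule.lTensor_tmul, Submodule.subtype_apply, mu_e,
      H c.1 (LinearMap.mem_ker.mp c.2), mul_zero]

/-- Flat descent of "the annihilator of `δ` lies in the diagonal ideal". -/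
theorem descent [Module.Flat A₀ L] (x₀ : A₀) (x : L) (hx : algebraMap A₀ L x₀ = x)
    (H : ∀ c : A₀ ⊗[K] L, delta₂ x₀ x * c = 0 → mu₂ c = 0)
    (b : L ⊗[K] L) (hb : delta x * b = 0) : Algebra.TensorProduct.lmul' K b = 0 := by
  have hz : (ee K A₀ L).symm b ∈ LinearMap.ker (AlgebraTensorModule.lTensor A₀ L
      (LinearMap.mulLeft A₀ (delta₂ (K := K) x₀ x))) := by
    rw [LinearMap.mem_ker]
    apply (ee K A₀ L).injective
    rw [e_lTensor _ _ hx, LinearEquiv.apply_symm_apply, hb, map_zero]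
  rw [Module.Flat.ker_lTensor_eq] at hz
  obtain ⟨z, hz⟩ := hz
  have hbz : b = ee K A₀ L (AlgebraTensorModule.lTensor A₀ L
      (LinearMap.ker (LinearMap.mulLeft A₀ (delta₂ (K := K) x₀ x))).subtype z) := by
    rw [hz, LinearEquiv.apply_symm_apply]
  rw [hbz]
  exact mu_e_ker x₀ x H z

end Descent

section Transc
variable {K : Type u} [Field K] {L : Type u} [Field L] [Algebra K L]

/-- ring iso `K[X] ⊗ L ≃ L[X]` -/
noncomputable def phi : K[X] ⊗[K] L ≃+* L[X] :=
  (Algebra.TensorProduct.comm K K[X] L).toRingEquiv.trans (polyEquivTensor' K L).symm.toRingEquiv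

lemma phi_X : phi (K := K) (L := L) ((X : K[X]) ⊗ₜ 1) = X := by
  simp [phi]

lemma phi_one_tmul (x : L) : phi (K := K) (L := L) ((1 : K[X]) ⊗ₜ x) = C x := by
  simp [phi, Polynomial.smul_eq_C_mul]

theorem ann_le_of_transcendental (x : L) (hx : Transcendental K x)
    (b : L ⊗[K] L) (hb : delta x * b = 0) : Algebra.TensorProduct.lmul' K b = 0 := by
  letI : Algebra K[X] L := (Polynomial.aeval x).toRingHom.toAlgebra
  haveI : IsScalarTower K K[X] L :=
    IsScalarTower.of_algebraMap_eq (fun r => (Polynomial.aeval_C x r).symm)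
  have hinj : Function.Injective (algebraMap K[X] L) := transcendental_iff_injective.mp hx
  haveI : Module.IsTorsionFree K[X] L := Module.isTorsionFree_iff_algebraMap_injective.mpr hinj
  haveI : Module.Flat K[X] L := inferInstance
  refine descent (A₀ := K[X]) (X : K[X]) x (Polynomial.aeval_X x) ?_ b hb
  intro c hc
  have h1 : phi (K := K) (L := L) (delta₂ (K := K) (X : K[X]) x) * phi c = 0 := by
    rw [← map_mul, hc, map_zero]
  have h2 : phi (K := K) (L := L) (delta₂ (K := K) (X : K[X]) x) = X - C x := by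
    rw [delta₂, map_sub, phi_X, phi_one_tmul]
  rw [h2] at h1
  have h3 : phi (K := K) (L := L) c = 0 :=
    (mul_eq_zero.mp h1).resolve_left (Polynomial.X_sub_C_ne_zero x)
  have h4 : c = 0 := by
    have := congrArg (phi (K := K) (L := L)).symm h3
    simpa using this
  rw [h4, map_zero]

end Transc

section Insep
variable {K : Type u} [Field K] {L : Type u} [Field L] [Algebra K L]

open IntermediateField

lemma aeval_dual (x : L) (P : K[X]) (h0 : aeval x P = 0) (hd : derivative P = 0) :
    aeval (TrivSqZeroExt.inl x + TrivSqZeroExt.inr 1 : DualNumber L) P = 0 := by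
  obtain ⟨k, hk⟩ := Polynomial.binomExpansion (P.map (algebraMap K (DualNumber L)))
    (TrivSqZeroExt.inl x) (TrivSqZeroExt.inr 1)
  rw [Polynomial.eval_map_algebraMap, Polynomial.eval_map_algebraMap, Polynomial.derivative_map,
    hd, Polynomial.map_zero, Polynomial.eval_zero, zero_mul, add_zero, pow_two,
    TrivSqZeroExt.inr_mul_inr, mul_zero, add_zero] at hk
  rw [hk]
  have : (TrivSqZeroExt.inl x : DualNumber L) = algebraMap L (DualNumber L) x := rfl
  rw [this, Polynomial.aeval_algebraMap_apply, h0, map_zero]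

theorem ann_le_of_not_separable (x : L) (hx : IsIntegral K x) (hsep : ¬ IsSeparable K x)
    (b : L ⊗[K] L) (hb : delta x * b = 0) : Algebra.TensorProduct.lmul' K b = 0 := by
  have hd : derivative (minpoly K x) = 0 := by
    by_contra h
    exact hsep ((Polynomial.separable_iff_derivative_ne_zero (minpoly.irreducible hx)).mpr h)
  set pb := IntermediateField.adjoin.powerBasis hx with hpb
  have hgen : pb.gen = AdjoinSimple.gen K x := IntermediateField.adjoin.powerBasis_gen hx
  have hmin : minpoly K pb.gen = minpoly K x := by rw [hgen, IntermediateField.minpoly_gen]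
  let φ : K⟮x⟯ →ₐ[K] DualNumber L :=
    pb.lift (TrivSqZeroExt.inl x + TrivSqZeroExt.inr 1)
      (by rw [hmin]; exact aeval_dual x _ (minpoly.aeval K x) hd)
  have hφ : φ (AdjoinSimple.gen K x) = TrivSqZeroExt.inl x + TrivSqZeroExt.inr 1 := by
    rw [← hgen]; exact pb.lift_gen _ _
  let θ : K⟮x⟯ ⊗[K] L →ₐ[K] DualNumber L :=
    Algebra.TensorProduct.lift φ (TrivSqZeroExt.inlAlgHom K L L) (fun _ _ => Commute.all _ _)
  have hfst : (TrivSqZeroExt.fstHom K L L).comp θ = mu₂ (K := K) (A₀ := K⟮x⟯) (L := L) := by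
    apply Algebra.TensorProduct.ext
    · apply pb.algHom_ext
      rw [hgen]
      simp [θ, hφ, mu₂]
    · ext l
      simp [θ, mu₂]
  refine descent (A₀ := K⟮x⟯) (AdjoinSimple.gen K x) x (AdjoinSimple.algebraMap_gen K x) ?_ b hb
  intro c hc
  have h1 : θ (delta₂ (K := K) (AdjoinSimple.gen K x) x) * θ c = 0 := by
    rw [← map_mul, hc, map_zero]
  have h2 : θ (delta₂ (K := K) (AdjoinSimple.gen K x) x) = TrivSqZeroExt.inr 1 := by
    simp [delta₂, θ, hφ]
  rw [h2] at h1
  have h3 : (θ c).fst = 0 := by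
    have := congrArg TrivSqZeroExt.snd h1
    simpa using this
  have h4 : mu₂ c = (θ c).fst := by
    rw [← hfst]; rfl
  rw [h4, h3]

end Insep

section Sep
variable {K : Type u} [Field K] {L : Type u} [Field L] [Algebra K L]

theorem mem_pow_of_separable (x : L) (hsep : IsSeparable K x) (n : ℕ) :
    (x ⊗ₜ[K] (1 : L) - (1 : L) ⊗ₜ[K] x) ∈ KaehlerDifferential.ideal K L ^ n := by
  set P := minpoly K x
  set I := KaehlerDifferential.ideal K L
  set a : L ⊗[K] L := x ⊗ₜ 1
  set b : L ⊗[K] L := 1 ⊗ₜ x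
  have hI : a - b ∈ I := by
    have := KaehlerDifferential.one_smul_sub_smul_one_mem_ideal K x
    have h2 : a - b = -((1 : L) ⊗ₜ[K] x - x ⊗ₜ[K] (1 : L)) := by simp [a, b]
    rw [h2]; exact neg_mem this
  have hint : IsIntegral K x := hsep.isIntegral
  have ha : aeval a P = 0 := by
    have : a = Algebra.TensorProduct.includeLeft (R := K) (S := K) (A := L) (B := L) x := rfl
    rw [this, Polynomial.aeval_algHom_apply, minpoly.aeval, map_zero]
  have hb : aeval b P = 0 := by
    have : b = Algebra.TensorProduct.includeRight (R := K) (A := L) (B := L) x := rfl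
    rw [this, Polynomial.aeval_algHom_apply, minpoly.aeval, map_zero]
  obtain ⟨k, hk⟩ := Polynomial.binomExpansion (P.map (algebraMap K (L ⊗[K] L))) b (a - b)
  rw [add_sub_cancel, Polynomial.eval_map_algebraMap, Polynomial.eval_map_algebraMap, ha, hb,
    zero_add, Polynomial.derivative_map, Polynomial.eval_map_algebraMap] at hk
  -- 0 = P'(b) (a-b) + k (a-b)^2
  have hu : aeval b (derivative P) = Algebra.TensorProduct.includeRight (R := K) (A := L) (B := L)
      (aeval x (derivative P)) := by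
    have : b = Algebra.TensorProduct.includeRight (R := K) (A := L) (B := L) x := rfl
    rw [this, Polynomial.aeval_algHom_apply]
  have hne : aeval x (derivative P) ≠ 0 := hsep.aeval_derivative_ne_zero (minpoly.aeval K x)
  set d := aeval x (derivative P)
  set v : L ⊗[K] L := (1 : L) ⊗ₜ[K] d⁻¹
  have hv : v * aeval b (derivative P) = 1 := by
    rw [hu]
    simp [v, Algebra.TensorProduct.includeRight_apply, inv_mul_cancel₀ hne,
      Algebra.TensorProduct.one_def]
  have key : a - b = (-(v * k) * (a - b)) * (a - b) := by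
    have h1 : v * (aeval b (derivative P) * (a - b) + k * (a - b) ^ 2) = 0 := by rw [← hk, mul_zero]
    have h2 : v * (aeval b (derivative P) * (a - b) + k * (a - b) ^ 2)
        = (v * aeval b (derivative P)) * (a - b) + v * k * (a - b) ^ 2 := by ring
    rw [h2, hv, one_mul] at h1
    have h3 : a - b = -(v * k * (a - b) ^ 2) := eq_neg_of_add_eq_zero_left h1
    calc a - b = -(v * k * (a - b) ^ 2) := h3
      _ = _ := by ring
  induction n with
  | zero => simp
  | succ n ih =>
    rw [key, pow_succ']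
    exact Ideal.mul_mem_mul (Ideal.mul_mem_left _ _ hI) ih

end Sep

end Groth.Agent.Lib.SepEqH3
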