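import Mathlib
import Groth.Agent.Lib.PerfectRed_lead
import Groth.Agent.Lib.PseudoComplBC_helper4

set_option autoImplicit false
set_option linter.style.haveILetI false
set_option linter.unusedSectionVars false

universe u

open TensorProduct

namespace Groth.Agent.Lib.SepGeomRedH4

section core

variable {k k' A K : Type u} [Field k] [Field k'] [Algebra k k'] [CommRing A] [Algebra k' A]
  [Algebra k A] [IsScalarTower k k' A] [Field K] [Algebra k' K] [Algebra k K]
  [IsScalarTower k k' K]

/-- The difference element `c ⊗ 1 - 1 ⊗ c`. -/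
noncomputable def dlt (c : k') : K ⊗[k] A :=
  (algebraMap k' K c) ⊗ₜ[k] (1 : A) - (1 : K) ⊗ₜ[k] (algebraMap k' A c)

/-- The canonical surjection `K ⊗[k] A → K ⊗[k'] A`. -/
noncomputable def piA : K ⊗[k] A →ₐ[k'] K ⊗[k'] A :=
  Algebra.TensorProduct.mapOfCompatibleSMul k' k k' K A

theorem piA_tmul (a : K) (b : A) : piA (k := k) (k' := k') (a ⊗ₜ[k] b) = a ⊗ₜ[k'] b := rfl

theorem piA_surjective : Function.Surjective (piA (k := k) (k' := k') (A := A) (K := K)) :=
  Algebra.TensorProduct.mapOfCompatibleSMul_surjective k' k k' K A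

section abstractL

variable (L : Type u) [Field L] [Algebra k L] [Algebra L k'] [IsScalarTower k L k']

/-- `L → K`. -/
noncomputable def f₁ : L →ₐ[k] K :=
  (IsScalarTower.toAlgHom k k' K).comp (IsScalarTower.toAlgHom k L k')

/-- `L → A`. -/
noncomputable def f₂ : L →ₐ[k] A :=
  (IsScalarTower.toAlgHom k k' A).comp (IsScalarTower.toAlgHom k L k')

theorem f₁_apply (c : L) : f₁ (k := k) (k' := k') (K := K) L c = algebraMap k' K (algebraMap L k' c) :=
  rfl

theorem f₂_apply (c : L) : f₂ (k := k) (k' := k') (A := A) L c = algebraMap k' A (algebraMap L k' c) :=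
  rfl

theorem pi_map (t : L ⊗[k] L) :
    piA (k := k) (k' := k') (A := A) (K := K)
        (Algebra.TensorProduct.map (f₁ (k := k) (k' := k') (K := K) L)
          (f₂ (k := k) (k' := k') (A := A) L) t) =
      (f₁ (k := k) (k' := k') (K := K) L (Algebra.TensorProduct.lmul' k t)) ⊗ₜ[k'] (1 : A) := by
  induction t using TensorProduct.induction_on with
  | zero => simp
  | tmul a b =>
    rw [Algebra.TensorProduct.map_tmul, Algebra.TensorProduct.lmul'_apply_tmul, piA_tmul,
      f₂_apply, Algebra.algebraMap_eq_smul_one, ← TensorProduct.smul_tmul, map_mul,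
      Algebra.smul_def, f₁_apply, f₁_apply, mul_comm]
  | add x y hx hy =>
    rw [map_add, map_add, hx, hy, map_add, map_add, TensorProduct.add_tmul]

theorem exists_e [FiniteDimensional k L] [Algebra.IsSeparable k L] :
    ∃ e : K ⊗[k] A, (∀ c : L, dlt (k := k) (A := A) (K := K) (algebraMap L k' c) * e = 0) ∧
      piA (k := k) (k' := k') (A := A) (K := K) e = 1 := by
  haveI : Algebra.FormallyUnramified k L := Algebra.FormallyUnramified.of_isSeparable k L
  refine ⟨Algebra.TensorProduct.map (f₁ (k := k) (k' := k') (K := K) L)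
          (f₂ (k := k) (k' := k') (A := A) L) (Algebra.FormallyUnramified.elem k L), ?_, ?_⟩
  · intro c
    have h1 : dlt (k := k) (A := A) (K := K) (algebraMap L k' c) =
        Algebra.TensorProduct.map (f₁ (k := k) (k' := k') (K := K) L)
          (f₂ (k := k) (k' := k') (A := A) L) (c ⊗ₜ[k] (1 : L) - (1 : L) ⊗ₜ[k] c) := by
      rw [map_sub, Algebra.TensorProduct.map_tmul, Algebra.TensorProduct.map_tmul, map_one,
        map_one]
      rfl
    have h2 : (c ⊗ₜ[k] (1 : L) - (1 : L) ⊗ₜ[k] c) * Algebra.FormallyUnramified.elem k L = 0 := by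
      have := Algebra.FormallyUnramified.one_tmul_sub_tmul_one_mul_elem (R := k) (S := L) c
      rw [← neg_sub, neg_mul, this, neg_zero]
    rw [h1, ← map_mul, h2, map_zero]
  · rw [pi_map, Algebra.FormallyUnramified.lmul_elem, map_one]
    rfl

end abstractL

variable [Algebra.IsSeparable k k']

theorem ker_prop (y : K ⊗[k] A)
    (hy : piA (k := k) (k' := k') (A := A) (K := K) y = 0) :
    ∃ L : IntermediateField k k', FiniteDimensional k L ∧
      ∀ e : K ⊗[k] A, (∀ c ∈ L, dlt (k := k) (A := A) (K := K) c * e = 0) → y * e = 0 := by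
  have hmem : y ∈ LinearMap.ker (TensorProduct.mapOfCompatibleSMul k' k k' K A) := hy
  rw [TensorProduct.AlgebraTensorModule.ker_mapOfCompatibleSMul] at hmem
  refine Submodule.span_induction (p := fun y _ => ∃ L : IntermediateField k k',
      FiniteDimensional k L ∧
      ∀ e : K ⊗[k] A, (∀ c ∈ L, dlt (k := k) (A := A) (K := K) c * e = 0) → y * e = 0)
    ?_ ?_ ?_ ?_ hmem
  · rintro x ⟨c, a, b, rfl⟩
    refine ⟨IntermediateField.adjoin k {c},
      IntermediateField.adjoin.finiteDimensional (Algebra.IsIntegral.isIntegral c), ?_⟩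
    intro e he
    have hc := he c (IntermediateField.mem_adjoin_simple_self k c)
    have hx : (c • a) ⊗ₜ[k] b - a ⊗ₜ[k] (c • b) =
        (a ⊗ₜ[k] b) * dlt (k := k) (A := A) (K := K) c := by
      rw [dlt, mul_sub, Algebra.TensorProduct.tmul_mul_tmul, Algebra.TensorProduct.tmul_mul_tmul,
        mul_one, mul_one, Algebra.smul_def, Algebra.smul_def, mul_comm a, mul_comm b]
    rw [hx, mul_assoc, hc, mul_zero]
  · exact ⟨⊥, inferInstance, fun e _ => zero_mul e⟩
  · rintro x y _ _ ⟨L₁, h₁, hx⟩ ⟨L₂, h₂, hy⟩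
    haveI := h₁
    haveI := h₂
    refine ⟨L₁ ⊔ L₂, inferInstance, fun e he => ?_⟩
    rw [add_mul, hx e (fun c hc => he c ((le_sup_left : L₁ ≤ L₁ ⊔ L₂) hc)),
      hy e (fun c hc => he c ((le_sup_right : L₂ ≤ L₁ ⊔ L₂) hc)), add_zero]
  · rintro a x _ ⟨L, h, hx⟩
    refine ⟨L, h, fun e he => ?_⟩
    rw [smul_mul_assoc, hx e he, smul_zero]

theorem isReduced_of_sep (h : IsReduced (K ⊗[k] A)) : IsReduced (K ⊗[k'] A) := by
  rw [isReduced_iff_pow_one_lt 2 one_lt_two]
  intro x hx
  obtain ⟨y, rfl⟩ := piA_surjective (k := k) (k' := k') (A := A) (K := K) x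
  have hy2 : piA (k := k) (k' := k') (A := A) (K := K) (y ^ 2) = 0 := by
    rw [map_pow, hx]
  obtain ⟨L, hfin, hL⟩ := ker_prop (y ^ 2) hy2
  haveI := hfin
  obtain ⟨e, he1, he2⟩ := exists_e (k := k) (k' := k') (A := A) (K := K) (↥L)
  have h0 : y ^ 2 * e = 0 := hL e (fun c hc => he1 ⟨c, hc⟩)
  have h1 : (y * e) ^ 2 = 0 := by
    rw [mul_pow, pow_two e, ← mul_assoc, h0, zero_mul]
  have h2 : y * e = 0 := pow_eq_zero_iff (two_ne_zero) |>.mp h1
  have h3 := congrArg (piA (k := k) (k' := k') (A := A) (K := K)) h2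
  rw [map_mul, he2, mul_one, map_zero] at h3
  exact h3

end core

theorem main9635 {k k' A : Type u} [Field k] [Field k'] [Algebra k k'] [Algebra.IsSeparable k k']
    [CommRing A] [Algebra k' A] [Algebra k A] [IsScalarTower k k' A] :
    (∀ (K : Type u) [Field K] [Algebra k K], IsReduced (K ⊗[k] A)) ↔
      ∀ (K : Type u) [Field K] [Algebra k' K], IsReduced (K ⊗[k'] A) := by
  constructor
  · intro h K _ _
    letI : Algebra k K := ((algebraMap k' K).comp (algebraMap k k')).toAlgebra
    haveI : IsScalarTower k k' K := IsScalarTower.of_algebraMap_eq fun _ => rfl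
    exact isReduced_of_sep (k := k) (k' := k') (A := A) (K := K) (h K)
  · intro h K _ _
    haveI : Algebra.IsGeometricallyReduced k' A :=
      (Algebra.isGeometricallyReduced_field_iff k' A).mpr (h (AlgebraicClosure k'))
    haveI : Algebra.IsGeometricallyReduced k k' := by
      rw [Algebra.isGeometricallyReduced_field_iff]
      haveI := Groth.Agent.Lib.PerfectRed.isReduced_tensor_of_isSeparable k k' (AlgebraicClosure k)
      exact isReduced_of_injective (Algebra.TensorProduct.comm k (AlgebraicClosure k) k')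
        (AlgEquiv.injective _)
    haveI : Algebra.IsGeometricallyReduced k A :=
      Groth.Agent.Lib.PseudoComplBCH4.geomRed_trans k k' A
    exact Groth.Agent.Lib.PerfectRed.isReduced_tensor_of_isGeometricallyReduced k A K

end Groth.Agent.Lib.SepGeomRedH4
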