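import Mathlib

/-!
# Geometric fibre bounds for étale morphisms of affine schemes (helper7)

`FibBdd g k`: every geometric fibre of `g` has at most `k` points.  An étale morphism of affine
schemes has bounded geometric fibres, and the off-diagonal part of `T' ×_T T'` over `T'` has
a strictly smaller bound.  (Used for the induction in Stacks 0417.)
-/

set_option autoImplicit false
set_option linter.style.haveILetI false
universe u
open CategoryTheory CategoryTheory.Limits AlgebraicGeometry Opposite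

namespace Groth.Agent.Lib.SepLqf1H7

/-- Every geometric fibre of `g` has at most `k` points. -/
def FibBdd {T' T : Scheme.{u}} (g : T' ⟶ T) (k : ℕ) : Prop :=
  ∀ (Ω : Type u) [Field Ω] (s : Finset (Spec (CommRingCat.of Ω) ⟶ T')),
    (∀ a ∈ s, ∀ b ∈ s, a ≫ g = b ≫ g) → s.card ≤ k

theorem isEmpty_of_fibBdd_zero {T' T : Scheme.{u}} (g : T' ⟶ T) (h : FibBdd g 0) :
    IsEmpty T' := by
  classical
  refine ⟨fun t => ?_⟩
  let a : Spec (CommRingCat.of (T'.residueField t)) ⟶ T' := T'.fromSpecResidueField t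
  have := h (T'.residueField t) {a} (by simp)
  simp at this

section ring

open Polynomial

/-- An étale algebra has a uniform bound on the number of algebra maps to a field. -/
theorem exists_card_bound (A B : Type u) [CommRing A] [CommRing B] [Algebra A B]
    [Algebra.Etale A B] :
    ∃ k : ℕ, ∀ (Ω : Type u) [Field Ω] [Algebra A Ω] (s : Finset (B →ₐ[A] Ω)), s.card ≤ k := by
  classical
  have hloc : ∀ Q : PrimeSpectrum B, ∃ f : B, f ∉ Q.asIdeal ∧
      Algebra.IsStandardEtale A (Localization.Away f) := by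
    intro Q
    have hQ : Q ∈ Algebra.etaleLocus A B := by
      rw [Algebra.etaleLocus_eq_univ_iff_etale.mpr inferInstance]
      exact Set.mem_univ _
    haveI : Algebra.IsEtaleAt A Q.asIdeal := hQ
    exact Algebra.IsEtaleAt.exists_isStandardEtale Q.asIdeal
  choose f hf1 hf2 using hloc
  have hspan : Ideal.span (Set.range f) = ⊤ := by
    by_contra hne
    obtain ⟨m, hm, hle⟩ := Ideal.exists_le_maximal _ hne
    exact hf1 ⟨m, hm.isPrime⟩ (hle (Ideal.subset_span ⟨_, rfl⟩))
  obtain ⟨t, ht, htop⟩ := (Ideal.span_eq_top_iff_finite _).1 hspan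
  have hstd : ∀ b ∈ t, Algebra.IsStandardEtale A (Localization.Away b) := by
    intro b hb
    obtain ⟨Q, rfl⟩ := ht hb
    exact hf2 Q
  -- choose presentations
  let deg : B → ℕ := fun b =>
    if hb : b ∈ t then
      (hstd b hb).nonempty_standardEtalePresentation.some.f.natDegree
    else 0
  refine ⟨∑ b ∈ t, deg b, fun Ω _ _ s => ?_⟩
  have hcover : s ⊆ t.biUnion (fun b => s.filter (fun ψ => ψ b ≠ 0)) := by
    intro ψ hψ
    by_contra hcon
    have hall : ∀ b ∈ t, ψ b = 0 := by
      intro b hb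
      by_contra hne
      exact hcon (Finset.mem_biUnion.2 ⟨b, hb, Finset.mem_filter.2 ⟨hψ, hne⟩⟩)
    have hker : Ideal.span (t : Set B) ≤ RingHom.ker (ψ : B →+* Ω) := by
      rw [Ideal.span_le]
      intro b hb
      exact hall b hb
    rw [htop] at hker
    have h1 : (1 : B) ∈ RingHom.ker (ψ : B →+* Ω) := hker trivial
    rw [RingHom.mem_ker] at h1
    simp at h1
  refine (Finset.card_le_card hcover).trans (Finset.card_biUnion_le.trans ?_)
  refine Finset.sum_le_sum (fun b hb => ?_)
  haveI := hstd b hb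
  let P := (hstd b hb).nonempty_standardEtalePresentation.some
  have hdeg : deg b = P.f.natDegree := by
    simp only [deg, dif_pos hb]
    rfl
  rw [hdeg]
  let p : Polynomial Ω := P.f.map (algebraMap A Ω)
  have hp : p ≠ 0 := (P.monic_f.map _).ne_zero
  let sb := s.filter (fun ψ => ψ b ≠ 0)
  have hunit : ∀ ψ ∈ sb, IsUnit (ψ b) := fun ψ hψ =>
    isUnit_iff_ne_zero.2 (Finset.mem_filter.1 hψ).2
  let ρ : ∀ ψ : B →ₐ[A] Ω, Ω := fun ψ =>
    if h : IsUnit (ψ b) then
      (IsLocalization.Away.liftAlgHom (S := Localization.Away b) b h) P.x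
    else 0
  have hρroot : ∀ ψ ∈ sb, ρ ψ ∈ p.roots.toFinset := by
    intro ψ hψ
    have h := hunit ψ hψ
    simp only [ρ, dif_pos h]
    rw [Multiset.mem_toFinset, Polynomial.mem_roots hp, Polynomial.IsRoot.def,
      Polynomial.eval_map, ← Polynomial.aeval_def]
    exact (P.hasMap.map (IsLocalization.Away.liftAlgHom (S := Localization.Away b) b h)).1
  have hinj : Set.InjOn ρ sb := by
    intro ψ₁ h₁ ψ₂ h₂ he
    have hu₁ := hunit ψ₁ h₁
    have hu₂ := hunit ψ₂ h₂
    simp only [ρ, dif_pos hu₁, dif_pos hu₂] at he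
    have hlift := P.hom_ext he
    ext x
    have := congrArg (fun φ : Localization.Away b →ₐ[A] Ω => φ (algebraMap B _ x)) hlift
    simpa [IsLocalization.Away.liftAlgHom_apply] using this
  calc sb.card ≤ p.roots.toFinset.card := Finset.card_le_card_of_injOn ρ hρroot hinj
    _ ≤ Multiset.card p.roots := Multiset.toFinset_card_le _
    _ ≤ p.natDegree := Polynomial.card_roots' p
    _ ≤ P.f.natDegree := Polynomial.natDegree_map_le

end ring

/-- An étale morphism of affine schemes has bounded geometric fibres. -/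
theorem exists_fibBdd {T' T : Scheme.{u}} [IsAffine T'] [IsAffine T] (g : T' ⟶ T) [Etale g] :
    ∃ k, FibBdd g k := by
  classical
  have hφ : (g.appTop).hom.Etale := (HasRingHomProperty.iff_of_isAffine (P := @Etale)).1 ‹_›
  letI : Algebra Γ(T, ⊤) Γ(T', ⊤) := (g.appTop).hom.toAlgebra
  haveI : Algebra.Etale Γ(T, ⊤) Γ(T', ⊤) := hφ
  obtain ⟨k, hk⟩ := exists_card_bound Γ(T, ⊤) Γ(T', ⊤)
  refine ⟨k, fun Ω _ s hs => ?_⟩
  rcases s.eq_empty_or_nonempty with rfl | ⟨a₀, ha₀⟩
  · simp
  let iso := Scheme.ΓSpecIso (CommRingCat.of Ω)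
  letI : Algebra Γ(T, ⊤) Ω := (((a₀ ≫ g).appTop ≫ iso.hom).hom).toAlgebra
  let ψ : ∀ a : {a // a ∈ s}, Γ(T', ⊤) →ₐ[Γ(T, ⊤)] Ω := fun a =>
    { toRingHom := (a.1.appTop ≫ iso.hom).hom
      commutes' := by
        intro x
        show (a.1.appTop ≫ iso.hom).hom ((g.appTop).hom x) = ((a₀ ≫ g).appTop ≫ iso.hom).hom x
        rw [← hs a.1 a.2 a₀ ha₀, Scheme.Hom.comp_appTop]
        rfl }
  have hinj : Function.Injective ψ := by
    intro a b hab
    apply Subtype.ext
    apply ext_of_isAffine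
    have h1 : a.1.appTop ≫ iso.hom = b.1.appTop ≫ iso.hom := by
      ext x
      exact congrArg (fun φ : Γ(T', ⊤) →ₐ[Γ(T, ⊤)] Ω => φ x) hab
    exact (cancel_mono iso.hom).1 h1
  calc s.card = s.attach.card := s.card_attach.symm
    _ = (s.attach.image ψ).card := (Finset.card_image_of_injective _ hinj).symm
    _ ≤ k := hk Ω _

/-- The off-diagonal part of `T' ×_T T'`, with its two maps to `T'`. -/
theorem exists_offDiag {T' T : Scheme.{u}} [IsAffine T'] [IsAffine T] (g : T' ⟶ T) [Etale g] :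
    ∃ (Ts : Scheme.{u}) (h gs : Ts ⟶ T'), IsAffine Ts ∧ Etale gs ∧ h ≫ g = gs ≫ g ∧
      (∀ k, FibBdd g (k + 1) → FibBdd gs k) ∧
      ∀ (Ω : Type u) [Field Ω] (a b : Spec (CommRingCat.of Ω) ⟶ T'), a ≫ g = b ≫ g →
        a = b ∨ ∃ τ : Spec (CommRingCat.of Ω) ⟶ Ts, τ ≫ h = a ∧ τ ≫ gs = b := by
  classical
  let Δ := pullback.diagonal g
  have hcl : IsClosed (Set.range Δ) := Δ.isClosedEmbedding.isClosed_range
  have hop : IsOpen (Set.range Δ) := Δ.isOpenEmbedding.isOpen_range
  let O : (pullback g g).Opens := ⟨(Set.range Δ)ᶜ, hcl.isOpen_compl⟩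
  have hOr : Set.range O.ι = (Set.range Δ)ᶜ := Scheme.Opens.range_ι O
  haveI : IsClosedImmersion O.ι := IsClosedImmersion.of_isPreimmersion _ (by
    rw [hOr]; exact hop.isClosed_compl)
  haveI : IsAffine (O : Scheme.{u}) := isAffine_of_isAffineHom O.ι
  have hdiag1 : Δ ≫ pullback.fst g g = 𝟙 _ := pullback.diagonal_fst g
  have hdiag2 : Δ ≫ pullback.snd g g = 𝟙 _ := pullback.diagonal_snd g
  have key : ∀ (Ω : Type u) [Field Ω] (c : Spec (CommRingCat.of Ω) ⟶ (O : Scheme.{u})),
      c ≫ O.ι ≫ pullback.fst g g ≠ c ≫ O.ι ≫ pullback.snd g g := by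
    intro Ω _ c heq
    have h1 : c ≫ O.ι = (c ≫ O.ι ≫ pullback.fst g g) ≫ Δ := by
      apply pullback.hom_ext
      · rw [Category.assoc, Category.assoc, Category.assoc, Category.assoc, hdiag1,
          Category.comp_id]
      · rw [Category.assoc, Category.assoc, Category.assoc, Category.assoc, hdiag2,
          Category.comp_id, heq]
    let x₀ : Spec (CommRingCat.of Ω) := IsLocalRing.closedPoint Ω
    have h2 : (c ≫ O.ι) x₀ ∈ Set.range Δ := by
      rw [h1, Scheme.Hom.comp_apply]
      exact ⟨_, rfl⟩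
    have h3 : (c ≫ O.ι) x₀ ∈ (Set.range Δ)ᶜ := by
      rw [← hOr, Scheme.Hom.comp_apply]
      exact ⟨_, rfl⟩
    exact h3 h2
  refine ⟨O, O.ι ≫ pullback.fst g g, O.ι ≫ pullback.snd g g, inferInstance, inferInstance, ?_,
    ?_, ?_⟩
  · rw [Category.assoc, Category.assoc, pullback.condition]
  · intro k hb Ω _ s hs
    rcases s.eq_empty_or_nonempty with rfl | ⟨c₀, hc₀⟩
    · simp
    let τ' := c₀ ≫ O.ι ≫ pullback.snd g g
    let F : (Spec (CommRingCat.of Ω) ⟶ (O : Scheme.{u})) → (Spec (CommRingCat.of Ω) ⟶ T') :=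
      fun c => c ≫ O.ι ≫ pullback.fst g g
    have hFinj : Set.InjOn F s := by
      intro c₁ h₁ c₂ h₂ he
      have e2 := hs c₁ h₁ c₂ h₂
      rw [← cancel_mono O.ι]
      apply pullback.hom_ext
      · simpa [F, Category.assoc] using he
      · simpa [Category.assoc] using e2
    have hnot : τ' ∉ s.image F := by
      intro hmem
      obtain ⟨c, hc, hce⟩ := Finset.mem_image.1 hmem
      apply key Ω c
      show F c = _
      rw [hce]
      exact hs c₀ hc₀ c hc
    have hall : ∀ a ∈ insert τ' (s.image F), ∀ b ∈ insert τ' (s.image F), a ≫ g = b ≫ g := by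
      have h0 : ∀ a ∈ insert τ' (s.image F), a ≫ g = τ' ≫ g := by
        intro a ha
        rcases Finset.mem_insert.1 ha with h1 | ha
        · rw [h1]
        · obtain ⟨c, hc, rfl⟩ := Finset.mem_image.1 ha
          show (c ≫ O.ι ≫ pullback.fst g g) ≫ g = (c₀ ≫ O.ι ≫ pullback.snd g g) ≫ g
          rw [Category.assoc, Category.assoc, pullback.condition, ← Category.assoc O.ι,
            ← Category.assoc c, hs c hc c₀ hc₀]
      intro a ha b hb
      rw [h0 a ha, h0 b hb]
    have hcard := hb Ω _ hall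
    rw [Finset.card_insert_of_notMem hnot, Finset.card_image_of_injOn hFinj] at hcard
    omega
  · intro Ω _ a b hab
    let m : Spec (CommRingCat.of Ω) ⟶ pullback g g := pullback.lift a b hab
    have hm1 : m ≫ pullback.fst g g = a := pullback.lift_fst _ _ _
    have hm2 : m ≫ pullback.snd g g = b := pullback.lift_snd _ _ _
    let x₀ : Spec (CommRingCat.of Ω) := IsLocalRing.closedPoint Ω
    have huniq : ∀ y : Spec (CommRingCat.of Ω), y = x₀ := fun y => Subsingleton.elim _ _
    by_cases hx : m x₀ ∈ Set.range Δ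
    · left
      have hsub : Set.range m ⊆ Set.range Δ := by
        rintro _ ⟨y, rfl⟩
        rw [huniq y]
        exact hx
      have hfac : IsOpenImmersion.lift Δ m hsub ≫ Δ = m := IsOpenImmersion.lift_fac _ _ _
      rw [← hm1, ← hm2, ← hfac, Category.assoc, Category.assoc, hdiag1, hdiag2]
    · right
      have hsub : Set.range m ⊆ Set.range O.ι := by
        rintro _ ⟨y, rfl⟩
        rw [huniq y, hOr]
        exact hx
      have hfac : IsOpenImmersion.lift O.ι m hsub ≫ O.ι = m := IsOpenImmersion.lift_fac _ _ _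
      refine ⟨IsOpenImmersion.lift O.ι m hsub, ?_, ?_⟩
      · rw [← Category.assoc, hfac, hm1]
      · rw [← Category.assoc, hfac, hm2]

end Groth.Agent.Lib.SepLqf1H7
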