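import Groth.Agent.Lib.SepLqf1_helper7
import Groth.Agent.Lib.AlgSpGlue5_helper7
import Groth.Agent.Lib.AffDesc8_helper7
import Groth.Agent.Lib.AlgSpOpen_helper7
import Groth.Agent.Lib.AlgSpLocP7_helper7
import Groth.Agent.Lib.EtCharts_helper7

/-!
# Separated locally quasi-finite over a scheme: general helpers (helper7)
-/

set_option autoImplicit false
set_option linter.style.haveILetI false
universe u
open CategoryTheory CategoryTheory.Limits AlgebraicGeometry Opposite MorphismProperty

namespace Groth.Agent.Lib.SepLqf2H7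

open AlgSp Groth.Agent.Lib.AlgSpPoints_helper7 Groth.Agent.Lib.AlgSpOpenSub_helper7
  Groth.Agent.Lib.AlgSpOpen_helper7 Groth.Agent.Lib.AlgSpPullback_helper7
  Groth.Agent.Lib.AlgSpQC_helper7 Groth.Agent.Lib.AlgSpGlue4H7 Groth.Agent.Lib.AlgSpGlue5H7

/-- A commutative square of monomorphisms with the factorization property is a pullback. -/
theorem isPullback_of_mono_of_factors {C : Type*} [Category C] {A B D E : C} (κ : A ⟶ B)
    (i : A ⟶ D) (j : B ⟶ E) (φ : D ⟶ E) [Mono i] [Mono j] (w : κ ≫ j = i ≫ φ)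
    (H : ∀ ⦃Z : C⦄ (a : Z ⟶ B) (b : Z ⟶ D), a ≫ j = b ≫ φ → ∃ l : Z ⟶ A, l ≫ i = b) :
    IsPullback κ i j φ := by
  refine ⟨⟨w⟩, ⟨PullbackCone.IsLimit.mk w (fun s => (H s.fst s.snd s.condition).choose)
    ?_ ?_ ?_⟩⟩
  · intro s
    rw [← cancel_mono j, Category.assoc, w, ← Category.assoc,
      (H s.fst s.snd s.condition).choose_spec, s.condition]
  · intro s
    exact (H _ _ s.condition).choose_spec
  · intro s m _ h2
    rw [← cancel_mono i, h2, (H _ _ s.condition).choose_spec]

variable {S : Scheme.{u}}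

theorem map_openSubι_mem {X : Sp S} (hX : IsAlgSpace X) {W : Set (Points X)} (hW : IsOpen W)
    (z : Points (openSub X W)) : Points.map (openSubι X W) z ∈ W :=
  (range_map_openSubι hX hW).subset ⟨z, rfl⟩

/-- The preimage of an open subspace is the fibre product. -/
theorem exists_isPullback_openSub_preimage {P X : Sp S} (hP : IsAlgSpace P) (hX : IsAlgSpace X)
    (φ : P ⟶ X) {W : Set (Points X)} (hW : IsOpen W) :
    ∃ κ : openSub P (Points.map φ ⁻¹' W) ⟶ openSub X W,
      IsPullback κ (openSubι P (Points.map φ ⁻¹' W)) (openSubι X W) φ := by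
  have hW' : IsOpen (Points.map φ ⁻¹' W) := hW.preimage (Points.continuous_map φ)
  have hjX := repWith_isOpenImmersion_openSubι (X := X) hW
  have hjP := repWith_isOpenImmersion_openSubι (X := P) hW'
  obtain ⟨κ, hκ⟩ := (factors_iff_of_openImmersion (openSubι X W) hjX
      (openSubι P (Points.map φ ⁻¹' W) ≫ φ)).2 (by
    rintro _ ⟨z, rfl⟩
    rw [Points.map_comp, range_map_openSubι hX hW]
    exact map_openSubι_mem hP hW' z)
  refine ⟨κ, isPullback_of_mono_of_factors κ _ _ φ hκ (fun Z a b hab => ?_)⟩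
  refine (factors_iff_of_openImmersion _ hjP b).2 ?_
  rintro _ ⟨z, rfl⟩
  rw [range_map_openSubι hP hW']
  show Points.map φ (Points.map b z) ∈ W
  rw [← Points.map_comp, ← hab, Points.map_comp]
  exact map_openSubι_mem hX hW _

/-- A sheaf covered by two representable open subfunctors, with quasi-compact representing
schemes, is representable by a quasi-compact scheme. -/
theorem exists_iso_of_two_opens {F : Sp S} {Y₁ Y₂ : Over S} (f₁ : (yon S).obj Y₁ ⟶ F)
    (f₂ : (yon S).obj Y₂ ⟶ F) (h₁ : RepWith @IsOpenImmersion f₁)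
    (h₂ : RepWith @IsOpenImmersion f₂) (hc₁ : CompactSpace Y₁.left) (hc₂ : CompactSpace Y₂.left)
    (hcov : ∀ x : Points F, x ∈ Set.range (Points.ofPt f₁) ∨ x ∈ Set.range (Points.ofPt f₂)) :
    ∃ (Y' : Over S) (_ : (yon S).obj Y' ≅ F), CompactSpace Y'.left := by
  let Yf : ULift.{u} Bool → Over S := fun i => cond i.down Y₁ Y₂
  let ff : ∀ i, (yon S).obj (Yf i) ⟶ F := fun i =>
    match i with
    | ⟨true⟩ => f₁
    | ⟨false⟩ => f₂
  have hff : ∀ i, RepWith @IsOpenImmersion (ff i) := by
    rintro ⟨_ | _⟩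
    · exact h₂
    · exact h₁
  have hcov' : ∀ x : Points F, ∃ i, x ∈ Set.range (Points.map (ff i)) := by
    intro x
    rcases hcov x with h | h
    · refine ⟨⟨true⟩, ?_⟩
      rw [range_map_yon]
      exact h
    · refine ⟨⟨false⟩, ?_⟩
      rw [range_map_yon]
      exact h
  obtain ⟨Y', e, j, -, -, hjc⟩ := exists_iso_of_openCover_points ff hff hcov'
  refine ⟨Y', e, ?_⟩
  haveI : CompactSpace ↥(Yf ⟨true⟩).left := hc₁
  haveI : CompactSpace ↥(Yf ⟨false⟩).left := hc₂
  have huniv : (Set.univ : Set ↥Y'.left) =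
      Set.range (j ⟨true⟩).left ∪ Set.range (j ⟨false⟩).left := by
    symm
    apply Set.eq_univ_of_forall
    intro y
    obtain ⟨⟨b⟩, hb⟩ := hjc y
    cases b
    · exact Or.inr hb
    · exact Or.inl hb
  exact ⟨by
    rw [huniv]
    exact (isCompact_range (j ⟨true⟩).left.continuous).union
      (isCompact_range (j ⟨false⟩).left.continuous)⟩

/-- An isomorphism from a representable sheaf onto an open subspace gives an open chart. -/
theorem chart_of_iso_openSub {X : Sp S} (hX : IsAlgSpace X) {W : Set (Points X)} (hW : IsOpen W)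
    {Y : Over S} (e : (yon S).obj Y ≅ openSub X W) :
    RepWith @IsOpenImmersion (e.hom ≫ openSubι X W) ∧
      Set.range (Points.ofPt (e.hom ≫ openSubι X W)) = W := by
  refine ⟨repWith_comp _ (Groth.Agent.Lib.AlgSpBasic_helper7.repWith_of_isIso _ e.hom)
    (repWith_isOpenImmersion_openSubι hW), ?_⟩
  rw [← range_map_yon]
  ext x
  constructor
  · rintro ⟨y, rfl⟩
    rw [Points.map_comp]
    exact map_openSubι_mem hX hW _
  · intro hx
    rw [← range_map_openSubι hX hW] at hx
    obtain ⟨z, rfl⟩ := hx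
    refine ⟨Points.map e.inv z, ?_⟩
    rw [← Points.map_comp, Iso.inv_hom_id_assoc]

/-- Zariski's main theorem: quasi-compact, separated and locally quasi-finite over an affine scheme
implies quasi-affine. -/
theorem isQuasiAffine_of_sep_lqf {Y' T' : Scheme.{u}} [IsAffine T'] [CompactSpace Y'] (q : Y' ⟶ T')
    [IsSeparated q] [LocallyQuasiFinite q] [LocallyOfFiniteType q] : Y'.IsQuasiAffine := by
  haveI : QuasiCompact q := (quasiCompact_iff_compactSpace q).mpr ‹_›
  haveI : IsOpenImmersion q.toNormalization := inferInstance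
  haveI : IsAffine q.normalization := isAffine_of_isAffineHom q.fromNormalization
  exact Scheme.IsQuasiAffine.of_isImmersion q.toNormalization

/-- A morphism to an affine scheme from a sheaf represented by a quasi-affine scheme is
quasi-affine. -/
theorem isQuasiAffineMor_of_iso {U' : Sp S} {Y' T' : Over S} (hT' : IsAffine T'.left)
    (hY' : Y'.left.IsQuasiAffine) (e : (yon S).obj Y' ≅ U') (ρ' : U' ⟶ (yon S).obj T') :
    IsQuasiAffineMor ρ' := by
  intro Z hZ gZ
  haveI := hZ
  haveI := hT'
  haveI := hY'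
  obtain ⟨q, hq⟩ := (yon S).map_surjective (e.hom ≫ ρ')
  obtain ⟨z, rfl⟩ := (yon S).map_surjective gZ
  have sqW := IsPullback.of_hasPullback q z
  have sqY : IsPullback ((yon S).map (pullback.fst q z)) ((yon S).map (pullback.snd q z))
      ((yon S).map q) ((yon S).map z) := sqW.map (yon S)
  have sqE : IsPullback e.hom ((yon S).map q) ρ' (𝟙 _) :=
    IsPullback.of_horiz_isIso ⟨by rw [hq, Category.comp_id]⟩
  have big := sqY.paste_horiz sqE
  rw [Category.comp_id] at big
  refine ⟨pullback q z, pullback.snd q z, (yon S).map (pullback.fst q z) ≫ e.hom, big, ?_⟩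
  have sqL : IsPullback (pullback.fst q z).left (pullback.snd q z).left q.left z.left :=
    sqW.map (Over.forget S)
  haveI : IsAffineHom z.left := inferInstance
  haveI : IsAffineHom (pullback.fst q z).left :=
    MorphismProperty.of_isPullback (P := @IsAffineHom) sqL.flip ‹IsAffineHom z.left›
  exact Scheme.IsQuasiAffine.of_isAffineHom (pullback.fst q z).left

set_option backward.isDefEq.respectTransparency.types false in
theorem isZLAT_quasiCompact :
    IsZariskiLocalAtTarget (@QuasiCompact : MorphismProperty Scheme.{u}) := inferInstance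

/-- A sheaf quasi-affine over a scheme is representable, by a scheme quasi-compact over it. -/
theorem exists_rep_of_isQuasiAffineMor {U : Sp S} {T₁ : Over S} (ρ : U ⟶ (yon S).obj T₁)
    (hρ : IsQuasiAffineMor ρ) :
    ∃ (W : Over S) (w : W ⟶ T₁) (e : (yon S).obj W ≅ U), e.hom ≫ ρ = (yon S).map w ∧
      QuasiCompact w.left := by
  haveI := isZLAT_quasiCompact.{u}
  have key : ∀ i : T₁.left.affineCover.I₀, ∃ (W : Over S)
      (w : W ⟶ Over.mk (T₁.left.affineCover.f i ≫ T₁.hom)) (fst : (yon S).obj W ⟶ U),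
      IsPullback fst ((yon S).map w) ρ
        ((yon S).map (Over.homMk (T₁.left.affineCover.f i) rfl :
          Over.mk (T₁.left.affineCover.f i ≫ T₁.hom) ⟶ T₁) ≫ 𝟙 _) ∧ QuasiCompact w.left := by
    intro i
    have hZ : IsAffine (Over.mk (T₁.left.affineCover.f i ≫ T₁.hom)).left :=
      (inferInstance : IsAffine (T₁.left.affineCover.X i))
    obtain ⟨W, w, fst, sq, hW⟩ := hρ hZ
      ((yon S).map (Over.homMk (T₁.left.affineCover.f i) rfl :
        Over.mk (T₁.left.affineCover.f i ≫ T₁.hom) ⟶ T₁) ≫ 𝟙 _)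
    haveI := hW
    haveI := hZ
    exact ⟨W, w, fst, sq, (quasiCompact_iff_compactSpace w.left).mpr inferInstance⟩
  obtain ⟨W, w, fst, sq, hw⟩ := exists_rep_of_openCover @QuasiCompact ρ (𝟙 ((yon S).obj T₁))
    T₁.left.affineCover key
  haveI : IsIso fst := sq.isIso_fst_of_isIso
  refine ⟨W, w, asIso fst, ?_, hw⟩
  have := sq.w
  rw [Category.comp_id] at this
  exact this

end Groth.Agent.Lib.SepLqf2H7
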