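import Groth.Agent.Lib.SepLqf2_helper7
import Groth.Agent.Lib.AlgSpLocP4_helper7
import Groth.Agent.Lib.AlgSpSep_helper7
import Groth.Agent.Lib.AlgSpSmST_helper7
import Groth.Agent.Lib.AlgSpQC2_helper7
import Groth.Agent.Lib.AlgSpProper_helper7
import Groth.Agent.Lib.AlgSpFpqc3_helper7

/-!
# Separated locally quasi-finite over a scheme: the induction (Stacks 0417) (helper7)
-/

set_option autoImplicit false
set_option linter.style.haveILetI false
set_option backward.isDefEq.respectTransparency false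
set_option backward.isDefEq.respectTransparency.types false
universe u
open CategoryTheory CategoryTheory.Limits AlgebraicGeometry Opposite MorphismProperty

namespace Groth.Agent.Lib.SepLqf3H7

open AlgSp Groth.Agent.Lib.AlgSpPoints_helper7 Groth.Agent.Lib.AlgSpOpenSub_helper7
  Groth.Agent.Lib.AlgSpOpen_helper7 Groth.Agent.Lib.AlgSpPullback_helper7
  Groth.Agent.Lib.AlgSpQC_helper7 Groth.Agent.Lib.AlgSpQC2_helper7
  Groth.Agent.Lib.AlgSpLocP4_helper7 Groth.Agent.Lib.AlgSpLocP7_helper7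
  Groth.Agent.Lib.AlgSpSep_helper7 Groth.Agent.Lib.AlgSpSmST_helper7
  Groth.Agent.Lib.AlgSpFpqc3_helper7 Groth.Agent.Lib.EtChartsH7
  Groth.Agent.Lib.AlgSpBasic_helper7 Groth.Agent.Lib.AffDescH7 Groth.Agent.Lib.AlgSpGlue4H7
  Groth.Agent.Lib.SepLqf1H7 Groth.Agent.Lib.SepLqf2H7

variable {S : Scheme.{u}}

/-- The preimage of the image of `V'` is the union of `V'` and the image of its off-diagonal
translate. -/
theorem preimage_image_eq {T T' Tst : Over S} (g : T' ⟶ T) (hO gsO : Tst ⟶ T')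
    (hdich : ∀ (Ω : Type u) [Field Ω] (a b : Spec (CommRingCat.of Ω) ⟶ T'.left),
      a ≫ g.left = b ≫ g.left →
        a = b ∨ ∃ τ : Spec (CommRingCat.of Ω) ⟶ Tst.left, τ ≫ hO.left = a ∧ τ ≫ gsO.left = b)
    {X P Ps : Sp S} (f : X ⟶ (yon S).obj T) (prX : P ⟶ X) (prT : P ⟶ (yon S).obj T')
    (sq : IsPullback prX prT f ((yon S).map g))
    (p₁ p₀ : Ps ⟶ P) (fs : Ps ⟶ (yon S).obj Tst)
    (sqs : IsPullback p₁ fs prT ((yon S).map gsO))
    (hp₀X : p₀ ≫ prX = p₁ ≫ prX) (hp₀T : p₀ ≫ prT = fs ≫ (yon S).map hO)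
    {V Vs : Over S} (j : (yon S).obj V ⟶ P) (js : (yon S).obj Vs ⟶ Ps) (fstV : Vs ⟶ V)
    (sqJ : IsPullback js ((yon S).map fstV) p₀ j) :
    Points.map prX ⁻¹' (Points.map prX '' Set.range (Points.ofPt j)) =
      Set.range (Points.ofPt j) ∪ Points.map p₁ '' Set.range (Points.ofPt js) := by
  ext x
  constructor
  · rintro ⟨_, ⟨v, rfl⟩, hv⟩
    obtain ⟨K, _, sK, m, rfl⟩ := mk_surjective' x
    let L : Type u := V.left.residueField v
    let ν₀ : Spec (CommRingCat.of L) ⟶ V.left := V.left.fromSpecResidueField v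
    let sL : Spec (CommRingCat.of L) ⟶ S := ν₀ ≫ V.hom
    let ν : Over.mk sL ⟶ V := Over.homMk ν₀ rfl
    have hνv : ν.left (IsLocalRing.closedPoint L) = v :=
      Scheme.fromSpecResidueField_apply _ _
    rw [← hνv, ofPt_eq_mk_ofHom, map_mk_ofHom, map_mk_ofHom, mk_ofHom_eq_iff] at hv
    obtain ⟨Ω, _, w, b, a, hab⟩ := hv
    obtain ⟨α, hα⟩ : ∃ α : (yon S).obj (Over.mk w) ⟶ P, α = (yon S).map a ≫ m := ⟨_, rfl⟩
    obtain ⟨β, hβ⟩ : ∃ β : (yon S).obj (Over.mk w) ⟶ P, β = (yon S).map (b ≫ ν) ≫ j := ⟨_, rfl⟩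
    have hαβ : β ≫ prX = α ≫ prX := by
      rw [hα, hβ, Functor.map_comp]
      simpa only [Category.assoc] using hab
    obtain ⟨a', ha'⟩ := (yon S).map_surjective (α ≫ prT)
    obtain ⟨b', hb'⟩ := (yon S).map_surjective (β ≫ prT)
    have hg' : b' ≫ g = a' ≫ g := by
      apply (yon S).map_injective
      rw [Functor.map_comp, Functor.map_comp, ha', hb', Category.assoc, Category.assoc, ← sq.w,
        ← Category.assoc, ← Category.assoc, hαβ]
    have hl : b'.left ≫ g.left = a'.left ≫ g.left := congrArg (fun φ => φ.left) hg'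
    have hxα : Points.mk (ofHom m) = Points.mk (ofHom α) := by
      rw [hα, mk_ofHom_comp]
    rcases hdich Ω b'.left a'.left hl with heq | ⟨τ, hτ1, hτ2⟩
    · left
      have hba : b' = a' := Over.OverMorphism.ext heq
      have hαβ' : α = β := by
        apply sq.hom_ext hαβ.symm
        rw [← ha', ← hb', hba]
      refine ⟨(b ≫ ν).left (IsLocalRing.closedPoint Ω), ?_⟩
      rw [ofPt_eq_mk_ofHom, ← hβ, ← hαβ', hxα]
    · right
      let τO : Over.mk w ⟶ Tst := Over.homMk τ (by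
        rw [← CategoryTheory.Over.w gsO, ← Category.assoc, hτ2]
        exact CategoryTheory.Over.w a')
      have hτh : τO ≫ hO = b' := Over.OverMorphism.ext hτ1
      have hτg : τO ≫ gsO = a' := Over.OverMorphism.ext hτ2
      obtain ⟨ξ, hξ1, hξ2⟩ : ∃ ξ : (yon S).obj (Over.mk w) ⟶ Ps, ξ ≫ p₁ = α ∧
          ξ ≫ fs = (yon S).map τO :=
        ⟨sqs.lift α ((yon S).map τO) (by rw [← ha', ← hτg, Functor.map_comp]),
          sqs.lift_fst _ _ _, sqs.lift_snd _ _ _⟩
      have hξ0 : ξ ≫ p₀ = β := by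
        apply sq.hom_ext
        · rw [Category.assoc, hp₀X, ← Category.assoc, hξ1, hαβ]
        · rw [Category.assoc, hp₀T, ← Category.assoc, hξ2, ← Functor.map_comp, hτh, hb']
      obtain ⟨ξ', hξ'⟩ : ∃ ξ' : (yon S).obj (Over.mk w) ⟶ (yon S).obj Vs, ξ' ≫ js = ξ :=
        ⟨sqJ.lift ξ ((yon S).map (b ≫ ν)) (by rw [hξ0, hβ]), sqJ.lift_fst _ _ _⟩
      obtain ⟨ζ, hζ⟩ := (yon S).map_surjective ξ'
      refine ⟨Points.mk (ofHom ξ), ⟨ζ.left (IsLocalRing.closedPoint Ω), ?_⟩, ?_⟩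
      · rw [ofPt_eq_mk_ofHom, hζ, hξ']
      · rw [map_mk_ofHom, hξ1, hxα]
  · rintro (⟨v, rfl⟩ | ⟨_, ⟨vs, rfl⟩, rfl⟩)
    · exact ⟨_, ⟨v, rfl⟩, rfl⟩
    · refine ⟨Points.ofPt j (fstV.left vs), ⟨_, rfl⟩, ?_⟩
      rw [← ofPt_comp, ← sqJ.w, Points.map_ofPt, Points.map_ofPt, Points.map_ofPt,
        Category.assoc, hp₀X, Category.assoc]

/-- The statement proved by induction on the bound on the geometric fibres of `T' ⟶ T`. -/
def StepProp (S : Scheme.{u}) (k : ℕ) : Prop :=
  ∀ (T T' : Over S) (g : T' ⟶ T), IsAffine T.left → IsAffine T'.left → Etale g.left →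
    FibBdd g.left k →
  ∀ (X : Sp S) (f : X ⟶ (yon S).obj T), IsAlgSpace X →
    LocP (@LocallyQuasiFinite ⊓ @LocallyOfFiniteType) f → IsSeparatedMor f →
  ∀ (P : Sp S) (prX : P ⟶ X) (prT : P ⟶ (yon S).obj T'), IsAlgSpace P →
    IsPullback prX prT f ((yon S).map g) →
  ∀ (V : Over S) (j : (yon S).obj V ⟶ P), CompactSpace V.left →
    RepWith @IsOpenImmersion j →
  ∃ (Y : Over S) (i : (yon S).obj Y ⟶ X), CompactSpace Y.left ∧
    RepWith @IsOpenImmersion i ∧
    Set.range (Points.ofPt i) = Points.map prX '' Set.range (Points.ofPt j)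

theorem stepProp_zero : StepProp S 0 := by
  intro T T' g hT hT' hg hb X f hX hqf hsep P prX prT hP sq V j hV hj
  haveI : IsEmpty T'.left := isEmpty_of_fibBdd_zero g.left hb
  obtain ⟨jT, hjT⟩ := (yon S).map_surjective (j ≫ prT)
  haveI : IsEmpty V.left := ⟨fun v => IsEmpty.false (jT.left v)⟩
  have hW : IsOpen (∅ : Set (Points X)) := isOpen_empty
  have hcovE : ∀ x : Points (openSub X ∅), ∃ i : PEmpty.{u + 1},
      x ∈ Set.range (Points.map ((fun i => i.elim :
        ∀ i : PEmpty.{u + 1}, (yon S).obj ((fun i => i.elim : PEmpty.{u + 1} → Over S) i) ⟶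
          openSub X ∅) i)) :=
    fun x => absurd (map_openSubι_mem hX hW x) (Set.notMem_empty _)
  obtain ⟨Y', e, jj, -, -, hcov⟩ := exists_iso_of_openCover_points
    (F := openSub X ∅) (ι := PEmpty.{u + 1}) (Y := fun i => i.elim) (fun i => i.elim)
    (fun i => i.elim) hcovE
  haveI : IsEmpty Y'.left := ⟨fun y => by
    obtain ⟨i, _⟩ := hcov y
    exact i.elim⟩
  obtain ⟨hi1, hi2⟩ := chart_of_iso_openSub hX hW e
  refine ⟨Y', e.hom ≫ openSubι X ∅, inferInstance, hi1, ?_⟩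
  rw [hi2]
  symm
  rw [Set.image_eq_empty, Set.range_eq_empty_iff]
  infer_instance

theorem stepProp_succ (k : ℕ) (ih : StepProp S k) : StepProp S (k + 1) := by
  intro T T' g hT hT' hg hb X f hX hqf hsep P prX prT hP sq V j hV hj
  haveI := hT
  haveI := hT'
  haveI := hg
  haveI := hV
  have hYT : IsAlgSpace ((yon S).obj T) := IsAlgSpace.yon_obj T
  have hYT' : IsAlgSpace ((yon S).obj T') := IsAlgSpace.yon_obj T'
  have hqfT : LocP (@LocallyQuasiFinite ⊓ @LocallyOfFiniteType) prT :=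
    locP_baseChange etLocal_locallyQuasiFinite hX hYT hYT' f ((yon S).map g)
      prX prT sq hqf
  have hsepT : IsSeparatedMor prT := isSeparatedMor_of_isPullback sq hsep
  have hprXe : IsEtaleMor prX :=
    isEtaleMor_of_isPullback hYT' hYT hX sq.flip ((isEtaleMor_yon_map_iff g).2 hg)
  -- 1. the open set `W` and the chart `c`
  have hje : RepWith @Etale j := repWith_etale_of_openImmersion hj
  have hce : RepWith @Etale (j ≫ prX) := hprXe j hje
  obtain ⟨W, hWdef⟩ : ∃ W : Set (Points X),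
    W = Points.map prX '' Set.range (Points.ofPt j) := ⟨_, rfl⟩
  have hWc : W = Set.range (Points.ofPt (j ≫ prX)) := by
    rw [hWdef]
    ext x
    constructor
    · rintro ⟨_, ⟨v, rfl⟩, rfl⟩
      exact ⟨v, (Points.map_ofPt j prX v).symm⟩
    · rintro ⟨v, rfl⟩
      exact ⟨_, ⟨v, rfl⟩, Points.map_ofPt j prX v⟩
  have hWo : IsOpen W := by
    rw [hWc]
    exact (isOpenMap_ofPt_of_etale _ hce).isOpen_range
  -- 2. the off-diagonal
  obtain ⟨Ts, h, gs, hTs, hgs, hhg, hbd, hdich⟩ := exists_offDiag g.left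
  let Tst : Over S := Over.mk (gs ≫ T'.hom)
  let gsO : Tst ⟶ T' := Over.homMk gs rfl
  let hO : Tst ⟶ T' := Over.homMk h (by
    show h ≫ T'.hom = gs ≫ T'.hom
    rw [← CategoryTheory.Over.w g, ← Category.assoc, hhg, Category.assoc])
  have hOg : hO ≫ g = gsO ≫ g := Over.OverMorphism.ext hhg
  haveI : IsAffine Tst.left := hTs
  -- 3. the base change `Ps`
  have sqs := IsPullback.of_hasPullback prT ((yon S).map gsO)
  have hPs : IsAlgSpace (pullback prT ((yon S).map gsO)) :=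
    isAlgSpace_of_isPullback hYT'.diag hP (IsAlgSpace.yon_obj Tst) sqs
  obtain ⟨p₁r, hp₁r⟩ : ∃ p₁r : pullback prT ((yon S).map gsO) ⟶ P,
    p₁r = pullback.fst prT ((yon S).map gsO) := ⟨_, rfl⟩
  obtain ⟨fsr, hfsr⟩ : ∃ fsr : pullback prT ((yon S).map gsO) ⟶ (yon S).obj Tst,
    fsr = pullback.snd prT ((yon S).map gsO) := ⟨_, rfl⟩
  rw [← hp₁r, ← hfsr] at sqs
  have hcomm0 : (p₁r ≫ prX) ≫ f = (fsr ≫ (yon S).map hO) ≫ (yon S).map g := by
    rw [Category.assoc, sq.w, ← Category.assoc, sqs.w, Category.assoc, Category.assoc,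
      ← Functor.map_comp, ← Functor.map_comp, hOg]
  obtain ⟨p₀, hp₀X, hp₀T⟩ : ∃ p₀ : pullback prT ((yon S).map gsO) ⟶ P,
      p₀ ≫ prX = p₁r ≫ prX ∧ p₀ ≫ prT = fsr ≫ (yon S).map hO :=
    ⟨sq.lift _ _ hcomm0, sq.lift_fst _ _ _, sq.lift_snd _ _ _⟩
  have sq0 : IsPullback p₀ fsr prT ((yon S).map hO) := by
    have big := sqs.paste_horiz sq
    rw [← Functor.map_comp, ← hOg, Functor.map_comp, ← hp₀X] at big
    exact IsPullback.of_right big hp₀T sq
  -- 4. the translate `Vs`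
  obtain ⟨jT, hjT⟩ := (yon S).map_surjective (j ≫ prT)
  have sqV := IsPullback.of_hasPullback jT hO
  obtain ⟨Vs, fstV, sndV, sqV⟩ : ∃ (Vs : Over S) (fstV : Vs ⟶ V) (sndV : Vs ⟶ Tst),
    IsPullback fstV sndV jT hO := ⟨_, _, _, sqV⟩
  have sqVy : IsPullback ((yon S).map fstV) ((yon S).map sndV) ((yon S).map jT)
      ((yon S).map hO) := sqV.map (yon S)
  have hcommJ : ((yon S).map fstV ≫ j) ≫ prT = (yon S).map sndV ≫ (yon S).map hO := by
    rw [Category.assoc, ← hjT]
    exact sqVy.w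
  obtain ⟨js, hjs0, hjsf⟩ : ∃ js : (yon S).obj Vs ⟶ pullback prT ((yon S).map gsO),
      js ≫ p₀ = (yon S).map fstV ≫ j ∧ js ≫ fsr = (yon S).map sndV :=
    ⟨sq0.lift _ _ hcommJ, sq0.lift_fst _ _ _, sq0.lift_snd _ _ _⟩
  have sqJ : IsPullback js ((yon S).map fstV) p₀ j := by
    have big : IsPullback (js ≫ fsr) ((yon S).map fstV) ((yon S).map hO) (j ≫ prT) := by
      rw [hjsf, ← hjT]
      exact sqVy.flip
    exact IsPullback.of_right big hjs0 sq0.flip
  have hjs : RepWith @IsOpenImmersion js := repWith_fst_of_isPullback _ sqJ hj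
  have hVsc : CompactSpace Vs.left := by
    have sqL : IsPullback fstV.left sndV.left jT.left hO.left := sqV.map (Over.forget S)
    haveI : QuasiCompact hO.left := (inferInstance : QuasiCompact h)
    haveI : QuasiCompact fstV.left :=
      MorphismProperty.of_isPullback (P := @QuasiCompact) sqL.flip ‹_›
    exact QuasiCompact.compactSpace_of_compactSpace fstV.left
  -- 5. the induction hypothesis
  obtain ⟨Ys, is, hYsc, his, hisr⟩ := ih T' Tst gsO hT' hTs hgs (hbd k hb) P prT hP hqfT hsepT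
    _ p₁r fsr hPs sqs Vs js hVsc hjs
  have hisr' : Set.range (Points.ofPt is) = Points.map p₁r '' Set.range (Points.ofPt js) := hisr
  -- 6. the preimage of `W`
  have hpre : Points.map prX ⁻¹' W =
      Set.range (Points.ofPt j) ∪ Set.range (Points.ofPt is) := by
    rw [hisr', hWdef]
    exact preimage_image_eq g hO gsO hdich f prX prT sq p₁r p₀ fsr sqs hp₀X hp₀T j js
      fstV sqJ
  -- 7. the preimage is a scheme
  obtain ⟨W', hW'def⟩ : ∃ W' : Set (Points P), W' = Points.map prX ⁻¹' W := ⟨_, rfl⟩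
  have hW'o : IsOpen W' := by
    rw [hW'def]
    exact hWo.preimage (Points.continuous_map _)
  have hW'u : W' = Set.range (Points.ofPt j) ∪ Set.range (Points.ofPt is) := hW'def.trans hpre
  have hU' : IsAlgSpace (openSub P W') := isAlgSpace_openSub hP hW'o
  have hιP := repWith_isOpenImmersion_openSubι (X := P) hW'o
  obtain ⟨j', hj'⟩ := exists_lift_openSub (W := W') j (fun v => by
    rw [hW'u]
    exact Or.inl ⟨v, rfl⟩)
  obtain ⟨is', his'⟩ := exists_lift_openSub (W := W') is (fun y => by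
    rw [hW'u]
    exact Or.inr ⟨y, rfl⟩)
  have hj'o : RepWith @IsOpenImmersion j' :=
    repWith_of_comp_mono _ j' (openSubι P W') (by rw [hj']; exact hj)
  have his'o : RepWith @IsOpenImmersion is' :=
    repWith_of_comp_mono _ is' (openSubι P W') (by rw [his']; exact his)
  have hcov2 : ∀ x : Points (openSub P W'),
      x ∈ Set.range (Points.ofPt j') ∨ x ∈ Set.range (Points.ofPt is') := by
    intro x
    have hx : Points.map (openSubι P W') x ∈
        Set.range (Points.ofPt j) ∪ Set.range (Points.ofPt is) :=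
      hW'u.subset (map_openSubι_mem hP hW'o x)
    rcases hx with ⟨v, hv⟩ | ⟨y, hy⟩
    · left
      refine ⟨v, ?_⟩
      apply map_injective_of_mono (openSubι P W')
      rw [Points.map_ofPt, hj', hv]
    · right
      refine ⟨y, ?_⟩
      apply map_injective_of_mono (openSubι P W')
      rw [Points.map_ofPt, his', hy]
  obtain ⟨Y', e, hY'c⟩ := exists_iso_of_two_opens j' is' hj'o his'o hV hYsc hcov2
  -- 8. the preimage is quasi-affine over `T'`
  obtain ⟨ρ', hρ'⟩ : ∃ ρ' : openSub P W' ⟶ (yon S).obj T',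
    ρ' = openSubι P W' ≫ prT := ⟨_, rfl⟩
  obtain ⟨q, hq⟩ := (yon S).map_surjective (e.hom ≫ ρ')
  have hιo : RepWith @IsOpenImmersion (e.hom ≫ openSubι P W') :=
    (chart_of_iso_openSub hP hW'o e).1
  have hιe : RepWith @Etale (e.hom ≫ openSubι P W') := repWith_etale_of_openImmersion hιo
  have hqP : (@LocallyQuasiFinite ⊓ @LocallyOfFiniteType : MorphismProperty Scheme.{u}) q.left :=
    hqfT (e.hom ≫ openSubι P W') (𝟙 _) q hιe (repWith_id _ T') (by
      rw [Category.comp_id, hq, hρ', Category.assoc])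
  haveI : LocallyQuasiFinite q.left := hqP.1
  haveI : LocallyOfFiniteType q.left := hqP.2
  haveI : IsSeparated q.left := by
    rw [← isSeparatedMor_yon_map_iff, hq, hρ', ← Category.assoc]
    haveI : Mono (e.hom ≫ openSubι P W') := mono_comp _ _
    exact isSeparatedMor_comp _ _
      (Groth.Agent.Lib.AlgSpProper_helper7.isSeparatedMor_of_mono _) hsepT
  haveI := hY'c
  have hY'qa : Y'.left.IsQuasiAffine := isQuasiAffine_of_sep_lqf q.left
  have hρ'qa : IsQuasiAffineMor ρ' := isQuasiAffineMor_of_iso hT' hY'qa e ρ'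
  -- 9. the image of `T'`
  obtain ⟨O, hOdef⟩ : ∃ O : T.left.Opens,
    O = ⟨Set.range g.left, g.left.isOpenMap.isOpen_range⟩ := ⟨_, rfl⟩
  have hOr : Set.range O.ι = Set.range g.left := by
    rw [Scheme.Opens.range_ι, hOdef]
    rfl
  let T₁ : Over S := Over.mk (O.ι ≫ T.hom)
  let o : T₁ ⟶ T := Over.homMk O.ι rfl
  obtain ⟨g₁l, hg₁l⟩ : ∃ g₁l : T'.left ⟶ (O : Scheme.{u}), g₁l ≫ O.ι = g.left :=
    ⟨IsOpenImmersion.lift O.ι g.left hOr.ge, IsOpenImmersion.lift_fac _ _ _⟩
  let g₁ : T' ⟶ T₁ := Over.homMk g₁l (by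
    show g₁l ≫ O.ι ≫ T.hom = T'.hom
    rw [← Category.assoc, hg₁l, CategoryTheory.Over.w])
  have hg₁o : g₁ ≫ o = g := Over.OverMorphism.ext hg₁l
  haveI : Etale g₁.left := by
    show Etale g₁l
    exact MorphismProperty.of_postcomp (W := @Etale) (W' := @Etale) g₁l O.ι inferInstance
      (by rw [hg₁l]; exact hg)
  haveI : Surjective g₁.left := ⟨fun t₁ => by
    have ht₁ : O.ι t₁ ∈ Set.range g.left := hOr ▸ ⟨t₁, rfl⟩
    obtain ⟨t', ht'⟩ := ht₁
    refine ⟨t', ?_⟩
    apply O.ι.isOpenEmbedding.injective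
    show O.ι (g₁l t') = O.ι t₁
    rw [← Scheme.Hom.comp_apply, hg₁l, ht']⟩
  have hγe : RepWith @Etale ((yon S).map g₁) := (repWith_yon_map_iff @Etale g₁).2 ‹_›
  have hγs : RepWith @Surjective ((yon S).map g₁) := (repWith_yon_map_iff @Surjective g₁).2 ‹_›
  have hYT₁ : IsAlgSpace ((yon S).obj T₁) := IsAlgSpace.yon_obj T₁
  have hcov : IsFpqcCover (fun _ : PUnit.{u + 1} => (yon S).obj T')
      (fun _ => (yon S).map g₁) :=
    isFpqcCover_of_isFppfCover hYT₁ _ _ (fun _ => hYT')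
      (isFppfCover_of_etale_chart T' _ hγe hγs)
  -- 10. the open subspace `U` and descent
  have hU : IsAlgSpace (openSub X W) := isAlgSpace_openSub hX hWo
  have hyo : RepWith @IsOpenImmersion ((yon S).map o) :=
    (repWith_yon_map_iff @IsOpenImmersion o).2 (inferInstanceAs (IsOpenImmersion O.ι))
  obtain ⟨ρ, hρ⟩ := (factors_iff_of_openImmersion ((yon S).map o) hyo
      (openSubι X W ≫ f)).2 (by
    rintro _ ⟨z, rfl⟩
    have hz : Points.map (openSubι X W) z ∈
        Points.map prX '' Set.range (Points.ofPt j) :=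
      hWdef.subset (map_openSubι_mem hX hWo z)
    obtain ⟨_, ⟨v, rfl⟩, hv⟩ := hz
    rw [Points.map_comp, ← hv, ← Points.map_comp, sq.w, Points.map_comp, ← hg₁o,
      Functor.map_comp, Points.map_comp]
    exact ⟨_, rfl⟩)
  obtain ⟨κ, sqκ⟩ : ∃ κ : openSub P W' ⟶ openSub X W,
      IsPullback κ (openSubι P W') (openSubι X W) prX := by
    subst hW'def
    exact exists_isPullback_openSub_preimage hP hX prX hWo
  have sqD : IsPullback κ ρ' ρ ((yon S).map g₁) := by
    have big := sqκ.paste_vert sq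
    rw [← hρ, ← hg₁o, Functor.map_comp, ← hρ'] at big
    haveI : Mono ((yon S).map o) := mono_of_openImmersion _ hyo
    exact (isPullback_comp_mono_iff ((yon S).map o)).1 big
  have hρqa : IsQuasiAffineMor ρ :=
    (isLocalOnBase_fpqc_isQuasiAffineMor (fun _ : PUnit.{u + 1} => (yon S).obj T')
      (fun _ => (yon S).map g₁) hYT₁ (fun _ => hYT') hcov ρ hU
      (fun _ => openSub P W') (fun _ => ρ') (fun _ => κ) (fun _ => hU')
      (fun _ => sqD)).2 (fun _ => hρ'qa)
  -- 11. representability of `U`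
  obtain ⟨Y, w, eU, hwe, hwqc⟩ := exists_rep_of_isQuasiAffineMor ρ hρqa
  haveI := hwqc
  haveI : CompactSpace T₁.left := by
    have hc : IsCompact (O : Set T.left) := by
      rw [hOdef]
      exact isCompact_range g.left.continuous
    exact isCompact_iff_compactSpace.mp hc
  have hYc : CompactSpace Y.left := QuasiCompact.compactSpace_of_compactSpace w.left
  obtain ⟨hi1, hi2⟩ := chart_of_iso_openSub hX hWo eU
  exact ⟨Y, eU.hom ≫ openSubι X W, hYc, hi1, hi2.trans hWdef⟩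

theorem stepProp_all (k : ℕ) : StepProp S k := by
  induction k with
  | zero => exact stepProp_zero
  | succ k ih => exact stepProp_succ k ih

end Groth.Agent.Lib.SepLqf3H7
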