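import Groth.Agent.Lib.SepLqf3_helper7
import Groth.Agent.Lib.AlgSpEtSplit_helper6

/-!
# An algebraic space separated and locally quasi-finite over a scheme is a scheme (helper7)
-/

set_option autoImplicit false
set_option linter.style.haveILetI false
set_option backward.isDefEq.respectTransparency false
set_option backward.isDefEq.respectTransparency.types false
universe u
open CategoryTheory CategoryTheory.Limits AlgebraicGeometry Opposite MorphismProperty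

namespace Groth.Agent.Lib.SepLqf4H7

open AlgSp Groth.Agent.Lib.AlgSpPoints_helper7 Groth.Agent.Lib.AlgSpOpenSub_helper7
  Groth.Agent.Lib.AlgSpOpen_helper7 Groth.Agent.Lib.AlgSpPullback_helper7
  Groth.Agent.Lib.AlgSpQC_helper7 Groth.Agent.Lib.AlgSpQC2_helper7
  Groth.Agent.Lib.AlgSpLocP4_helper7 Groth.Agent.Lib.AlgSpLocP7_helper7
  Groth.Agent.Lib.AlgSpSep_helper7 Groth.Agent.Lib.AlgSpSmST_helper7
  Groth.Agent.Lib.AlgSpBasic_helper7 Groth.Agent.Lib.AlgSpGlue4H7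
  Groth.Agent.Lib.SepLqf1H7 Groth.Agent.Lib.SepLqf2H7 Groth.Agent.Lib.SepLqf3H7
  Groth.Agent.Lib.AlgSpEtSplitH6

variable {S : Scheme.{u}}

/-- Finite morphisms are stable under base change. -/
theorem isFiniteMor_baseChange' {P' F G Z' : Sp S} {p' : P' ⟶ F} {q' : P' ⟶ Z'} {f : F ⟶ G}
    {g : Z' ⟶ G} (sq : IsPullback p' q' f g) (hf : IsFiniteMor f) : IsFiniteMor q' := by
  intro Z hZ c
  obtain ⟨W, i, fst, sqW, hW, hi⟩ := hf hZ (c ≫ g)
  refine ⟨W, i, sq.lift fst ((yon S).map i ≫ c) (by rw [Category.assoc]; exact sqW.w), ?_, hW, hi⟩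
  refine IsPullback.of_right ?_ (sq.lift_snd _ _ _) sq
  rw [sq.lift_fst]
  exact sqW

/-- Around every point of an étale chart, a space separated and locally quasi-finite over a scheme
has an open subspace which is a scheme. -/
theorem exists_open_chart_at (T : Over S) {X : Sp S} (hX : IsAlgSpace X) (f : X ⟶ (yon S).obj T)
    (hqf : LocP (@LocallyQuasiFinite ⊓ @LocallyOfFiniteType) f) (hsep : IsSeparatedMor f)
    {U₁ : Over S} (a₁ : (yon S).obj U₁ ⟶ X) (ha₁ : RepWith @Etale a₁) (u₁ : ↥U₁.left) :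
    ∃ (Y : Over S) (i : (yon S).obj Y ⟶ X), RepWith @IsOpenImmersion i ∧
      Points.ofPt a₁ u₁ ∈ Set.range (Points.ofPt i) := by
  -- K1: restrict to an affine open of `T`
  obtain ⟨h₁, hh₁⟩ := (yon S).map_surjective (a₁ ≫ f)
  obtain ⟨_, ⟨T₀₀, hT₀, rfl⟩, htT₀, -⟩ := T.left.isBasis_affineOpens.exists_subset_of_mem_open
    (Set.mem_univ (h₁.left u₁)) isOpen_univ
  let T₀ : T.left.Opens := T₀₀
  let T0 : Over S := Over.mk (T₀.ι ≫ T.hom)
  let ι₀ : T0 ⟶ T := Over.homMk T₀.ι rfl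
  have hT0 : IsAffine T0.left := hT₀
  haveI := hT0
  have hι₀ : RepWith @IsOpenImmersion ((yon S).map ι₀) :=
    (repWith_yon_map_iff @IsOpenImmersion ι₀).2 (inferInstanceAs (IsOpenImmersion T₀.ι))
  have hYT : IsAlgSpace ((yon S).obj T) := IsAlgSpace.yon_obj T
  have hYT0 : IsAlgSpace ((yon S).obj T0) := IsAlgSpace.yon_obj T0
  have sq₀ := IsPullback.of_hasPullback f ((yon S).map ι₀)
  obtain ⟨X₀, prX₀, f₀, sq₀⟩ : ∃ (X₀ : Sp S) (prX₀ : X₀ ⟶ X) (f₀ : X₀ ⟶ (yon S).obj T0),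
    IsPullback prX₀ f₀ f ((yon S).map ι₀) := ⟨_, _, _, sq₀⟩
  have hX₀ : IsAlgSpace X₀ := isAlgSpace_of_isPullback hYT.diag hX hYT0 sq₀
  have hprX₀ : RepWith @IsOpenImmersion prX₀ := repWith_fst_of_isPullback _ sq₀ hι₀
  haveI : Mono prX₀ := mono_of_openImmersion _ hprX₀
  have hqf₀ : LocP (@LocallyQuasiFinite ⊓ @LocallyOfFiniteType) f₀ :=
    locP_baseChange etLocal_locallyQuasiFinite hX hYT hYT0 f ((yon S).map ι₀) prX₀ f₀ sq₀ hqf
  have hsep₀ : IsSeparatedMor f₀ := isSeparatedMor_of_isPullback sq₀ hsep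
  -- K2: the chart of `X₀`
  let O : U₁.left.Opens := h₁.left ⁻¹ᵁ T₀
  have hu₁O : u₁ ∈ O := htT₀
  let U2 : Over S := Over.mk (O.ι ≫ U₁.hom)
  let jU : U2 ⟶ U₁ := Over.homMk O.ι rfl
  let h₂ : U2 ⟶ T0 := Over.homMk (h₁.left ∣_ T₀) (by
    show (h₁.left ∣_ T₀) ≫ T₀.ι ≫ T.hom = O.ι ≫ U₁.hom
    rw [← Category.assoc, morphismRestrict_ι, Category.assoc, CategoryTheory.Over.w h₁])
  have hh₂ : h₂ ≫ ι₀ = jU ≫ h₁ := Over.OverMorphism.ext (morphismRestrict_ι _ _)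
  have hcomm₂ : ((yon S).map jU ≫ a₁) ≫ f = (yon S).map h₂ ≫ (yon S).map ι₀ := by
    rw [Category.assoc, ← hh₁, ← Functor.map_comp, ← Functor.map_comp, hh₂]
  obtain ⟨a₂, ha₂1, ha₂2⟩ : ∃ a₂ : (yon S).obj U2 ⟶ X₀,
      a₂ ≫ prX₀ = (yon S).map jU ≫ a₁ ∧ a₂ ≫ f₀ = (yon S).map h₂ :=
    ⟨sq₀.lift _ _ hcomm₂, sq₀.lift_fst _ _ _, sq₀.lift_snd _ _ _⟩
  have ha₂e : RepWith @Etale a₂ :=
    repWith_of_comp_mono _ a₂ prX₀ (by rw [ha₂1]; exact repWith_etale_restrict a₁ ha₁ O)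
  let u₂ : ↥U2.left := (⟨u₁, hu₁O⟩ : O)
  have hu₂ : jU.left u₂ = u₁ := rfl
  have hP₂ : (@LocallyQuasiFinite ⊓ @LocallyOfFiniteType : MorphismProperty Scheme.{u}) h₂.left :=
    hqf₀ a₂ (𝟙 _) h₂ ha₂e (repWith_id _ T0) (by rw [Category.comp_id, ha₂2])
  haveI : LocallyQuasiFinite h₂.left := hP₂.1
  haveI : LocallyOfFiniteType h₂.left := hP₂.2
  -- K3: étale localization
  let X₀s : Space S := ⟨X₀, hX₀⟩
  let f₀s : X₀s ⟶ (ofScheme S).obj T0 := ObjectProperty.homMk f₀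
  have hlft₀ : LocP @LocallyOfFiniteType f₀s.hom :=
    fun _ _ a b h ha hb hc => (hqf₀ a b h ha hb hc).2
  have hlqfW : LocallyQuasiFinite ((⊤ : U2.left.Opens).ι ≫ h₂.left) := inferInstance
  obtain ⟨U, a, u, hae, hau, Hsplit⟩ := exists_split f₀s hlft₀ hsep₀ a₂
    (𝟙 ((yon S).obj T0)) h₂ u₂ ha₂e (repWith_id _ T0)
    (by rw [Category.comp_id]; exact ha₂2) ⊤ trivial hlqfW
  -- K4: an affine chart of `U`
  obtain ⟨aU, haU⟩ : ∃ aU : U.obj ⟶ (yon S).obj T0, aU = a.hom := ⟨_, rfl⟩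
  obtain ⟨A₁, α₁, hα₁e, hα₁s⟩ := U.property.atlas
  obtain ⟨p, hp⟩ := ofPt_surjective α₁ hα₁s u
  obtain ⟨_, ⟨A₀, hA, rfl⟩, hpA, -⟩ := A₁.left.isBasis_affineOpens.exists_subset_of_mem_open
    (Set.mem_univ p) isOpen_univ
  let A : A₁.left.Opens := A₀
  let T' : Over S := Over.mk (A.ι ≫ A₁.hom)
  let jA : T' ⟶ A₁ := Over.homMk A.ι rfl
  have hT' : IsAffine T'.left := hA
  haveI := hT'
  obtain ⟨α', hα'⟩ : ∃ α' : (yon S).obj T' ⟶ U.obj, α' = (yon S).map jA ≫ α₁ := ⟨_, rfl⟩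
  have hα'e : RepWith @Etale α' := by
    rw [hα']
    exact repWith_etale_restrict α₁ hα₁e A
  let p' : ↥T'.left := (⟨p, hpA⟩ : A)
  have hp' : Points.ofPt α' p' = u := by
    rw [hα', ofPt_comp]
    exact hp
  obtain ⟨g, hg⟩ := (yon S).map_surjective (α' ≫ aU)
  have hge : Etale g.left := (repWith_yon_map_iff @Etale g).1 (by
    rw [hg, haU]
    exact hae α' hα'e)
  -- K5: the splitting over `U`
  have sqU := IsPullback.of_hasPullback f₀ aU
  obtain ⟨PU, prXU, prU, sqU⟩ : ∃ (PU : Sp S) (prXU : PU ⟶ X₀) (prU : PU ⟶ U.obj),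
    IsPullback prXU prU f₀ aU := ⟨_, _, _, sqU⟩
  have hPU : IsAlgSpace PU := isAlgSpace_of_isPullback hYT0.diag hX₀ U.property sqU
  let PUs : Space S := ⟨PU, hPU⟩
  obtain ⟨V, jV, hjVo, -, hjVfin, v, hv1, hv2⟩ := Hsplit PUs (ObjectProperty.homMk prXU)
    (ObjectProperty.homMk prU) (by subst haU; exact sqU)
  have hjVfin' : IsFiniteMor (jV.hom ≫ prU) := hjVfin
  have hv1' : Points.map (jV.hom ≫ prXU) v = Points.ofPt a₂ u₂ := hv1
  have hv2' : Points.map (jV.hom ≫ prU) v = u := hv2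
  -- K6: base change to the affine chart
  have sqP := IsPullback.of_hasPullback prU α'
  obtain ⟨P, pr1, prT, sqP⟩ : ∃ (P : Sp S) (pr1 : P ⟶ PU) (prT : P ⟶ (yon S).obj T'),
    IsPullback pr1 prT prU α' := ⟨_, _, _, sqP⟩
  have hP : IsAlgSpace P :=
    isAlgSpace_of_isPullback U.property.diag hPU (IsAlgSpace.yon_obj T') sqP
  have sqPT : IsPullback (pr1 ≫ prXU) prT f₀ ((yon S).map g) := by
    rw [hg]
    exact sqP.paste_horiz sqU
  have sqV := IsPullback.of_hasPullback jV.hom pr1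
  obtain ⟨V', fV, jr, sqV⟩ : ∃ (V' : Sp S) (fV : V' ⟶ V.obj) (jr : V' ⟶ P),
    IsPullback fV jr jV.hom pr1 := ⟨_, _, _, sqV⟩
  have hjr : RepWith @IsOpenImmersion jr := repWith_snd_of_isPullback _ sqV hjVo
  have sqVT : IsPullback fV (jr ≫ prT) (jV.hom ≫ prU) α' := sqV.paste_vert sqP
  have hfin' : IsFiniteMor (jr ≫ prT) := isFiniteMor_baseChange' sqVT hjVfin'
  obtain ⟨Wv, iW, fstW, sqW, hWaff, -⟩ := hfin' hT' (𝟙 _)
  haveI : IsIso fstW := sqW.isIso_fst_of_isIso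
  haveI := hWaff
  obtain ⟨j, hjdef⟩ : ∃ j : (yon S).obj Wv ⟶ P, j = fstW ≫ jr := ⟨_, rfl⟩
  have hj : RepWith @IsOpenImmersion j := by
    rw [hjdef]
    exact repWith_comp _ (Groth.Agent.Lib.AlgSpBasic_helper7.repWith_of_isIso _ fstW) hjr
  -- K7: the point
  have hcompat : Points.map prU (Points.map jV.hom v) =
      Points.map α' (Points.ofScheme T' p') := by
    rw [← Points.ofPt_eq_map_ofScheme, hp', ← Points.map_comp]
    exact hv2'
  obtain ⟨pp, hpp1, hpp2⟩ := exists_of_isPullback sqP (Points.map jV.hom v)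
    (Points.ofScheme T' p') hcompat
  obtain ⟨vv, hvv1, hvv2⟩ := exists_of_isPullback sqV v pp hpp1.symm
  have hppj : pp ∈ Set.range (Points.ofPt j) := by
    rw [← range_map_yon, hjdef]
    refine ⟨Points.map (inv fstW) vv, ?_⟩
    rw [← Points.map_comp, IsIso.inv_hom_id_assoc, hvv2]
  have hppX : Points.map (pr1 ≫ prXU) pp = Points.ofPt a₂ u₂ := by
    rw [Points.map_comp, hpp1, ← Points.map_comp]
    exact hv1'
  -- K8: the induction
  obtain ⟨k, hk⟩ := exists_fibBdd g.left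
  obtain ⟨Y, i, -, hi, hir⟩ := stepProp_all k T0 T' g hT0 hT' hge hk X₀ f₀ hX₀ hqf₀ hsep₀ P
    (pr1 ≫ prXU) prT hP sqPT Wv j inferInstance hj
  -- K9: conclusion
  refine ⟨Y, i ≫ prX₀, repWith_comp _ hi hprX₀, ?_⟩
  have h1 : Points.ofPt a₂ u₂ ∈ Set.range (Points.ofPt i) := by
    rw [hir]
    exact ⟨pp, hppj, hppX⟩
  obtain ⟨y, hy⟩ := h1
  refine ⟨y, ?_⟩
  rw [← Points.map_ofPt, hy, Points.map_ofPt, ha₂1, ofPt_comp, hu₂]

/-- An algebraic space with a separated, locally quasi-finite morphism to a scheme is a scheme. -/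
theorem main10259 (T : Over S) {X : Sp S} (hX : IsAlgSpace X) (f : X ⟶ (yon S).obj T)
    (hqf : LocP (@LocallyQuasiFinite ⊓ @LocallyOfFiniteType) f) (hsep : IsSeparatedMor f) :
    X.obj.IsRepresentable := by
  obtain ⟨U₁, a₁, ha₁e, ha₁s⟩ := hX.atlas
  choose Y i hi hmem using fun u₁ : ↥U₁.left => exists_open_chart_at T hX f hqf hsep a₁ ha₁e u₁
  obtain ⟨Y', e, -⟩ := exists_iso_of_openCover_points i hi (fun x => by
    obtain ⟨u₁, rfl⟩ := ofPt_surjective a₁ ha₁s x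
    exact ⟨u₁, by rw [range_map_yon]; exact hmem u₁⟩)
  exact (representableByOfIso e).isRepresentable

end Groth.Agent.Lib.SepLqf4H7
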