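import Groth.Agent.Lib.SepLqf4_helper7

/-!
# Separated locally quasi-finite morphisms of algebraic spaces are representable (helper7)
-/

set_option autoImplicit false
set_option linter.style.haveILetI false
set_option backward.isDefEq.respectTransparency false
set_option backward.isDefEq.respectTransparency.types false
universe u
open CategoryTheory CategoryTheory.Limits AlgebraicGeometry Opposite MorphismProperty

namespace Groth.Agent.Lib.SepLqf5H7

open AlgSp Groth.Agent.Lib.AlgSpPullback_helper7 Groth.Agent.Lib.AlgSpLocP4_helper7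
  Groth.Agent.Lib.AlgSpLocP7_helper7 Groth.Agent.Lib.AlgSpSep_helper7 Groth.Agent.Lib.SepLqf4H7

variable {S : Scheme.{u}}

/-- A separated, locally quasi-finite morphism of algebraic spaces is representable. -/
theorem representable_of_sep_lqf {X Y : Sp S} (hX : IsAlgSpace X) (hY : IsAlgSpace Y) (f : X ⟶ Y)
    (hqf : LocP (@LocallyQuasiFinite ⊓ @LocallyOfFiniteType) f) (hsep : IsSeparatedMor f) :
    Representable f := by
  intro T g
  have sq := IsPullback.of_hasPullback f g
  have hYT : IsAlgSpace ((yon S).obj T) := IsAlgSpace.yon_obj T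
  have hP : IsAlgSpace (pullback f g) := isAlgSpace_of_isPullback hY.diag hX hYT sq
  have hqf' : LocP (@LocallyQuasiFinite ⊓ @LocallyOfFiniteType) (pullback.snd f g) :=
    locP_baseChange etLocal_locallyQuasiFinite hX hY hYT f g _ _ sq hqf
  have hsep' : IsSeparatedMor (pullback.snd f g) := isSeparatedMor_of_isPullback sq hsep
  obtain ⟨V, ⟨r⟩⟩ := (main10259 T hP (pullback.snd f g) hqf' hsep').has_representation
  let e : (yon S).obj V ≅ pullback f g := isoOfRepresentableBy r
  obtain ⟨snd, hsnd⟩ := (yon S).map_surjective (e.hom ≫ pullback.snd f g)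
  refine ⟨V, snd, e.hom ≫ pullback.fst f g, ?_⟩
  rw [hsnd]
  exact IsPullback.of_iso sq e.symm (Iso.refl _) (Iso.refl _) (Iso.refl _) (by simp) (by simp)
    (by simp) (by simp)

end Groth.Agent.Lib.SepLqf5H7
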