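import Groth.Agent.Lib.SepLqf5_helper7
import Groth.Agent.Lib.AlgSpClosedTfae_helper7
import Groth.Agent.Lib.AlgSpFormal_helper7
import Groth.Agent.Lib.AlgSpEtale_helper7

/-!
# Monomorphisms locally of finite type of algebraic spaces (helper7)
-/

set_option autoImplicit false
set_option linter.style.haveILetI false
set_option backward.isDefEq.respectTransparency false
set_option backward.isDefEq.respectTransparency.types false
universe u
open CategoryTheory CategoryTheory.Limits AlgebraicGeometry Opposite MorphismProperty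

namespace Groth.Agent.Lib.SepLqf6H7

open AlgSp Groth.Agent.Lib.AlgSpUnram_helper7 Groth.Agent.Lib.AlgSpUnramLocal
  Groth.Agent.Lib.AlgSpFormal_helper7 Groth.Agent.Lib.AlgSpEtale_helper7
  Groth.Agent.Lib.SepLqf5H7

variable {S : Scheme.{u}}

theorem main10613 {X Y : Sp S} (hX : IsAlgSpace X) (hY : IsAlgSpace Y) (f : X ⟶ Y) :
    ((LocP (@LocallyOfFiniteType ⊓ @FormallyUnramified) f ∧ Mono f) ↔
      (LocP (@LocallyOfFiniteType ⊓ @FormallyUnramified) f ∧ IsUnivInjectiveMor f)) ∧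
    ((LocP (@LocallyOfFiniteType ⊓ @FormallyUnramified) f ∧ Mono f) ↔
      (LocP @LocallyOfFiniteType f ∧ Mono f)) ∧
    ((LocP (@LocallyOfFiniteType ⊓ @FormallyUnramified) f ∧ Mono f) ↔
      (IsUnivInjectiveMor f ∧ LocP @LocallyOfFiniteType f ∧ IsFormallyUnramifiedMor f)) ∧
    (LocP @LocallyOfFiniteType f ∧ Mono f →
      Representable f ∧ IsSeparatedMor f ∧
        LocP (@LocallyQuasiFinite ⊓ @LocallyOfFiniteType) f) := by
  have hA : LocP (@LocallyOfFiniteType ⊓ @FormallyUnramified) f → LocP @LocallyOfFiniteType f :=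
    fun h _ _ a b k ha hb hc => (h a b k ha hb hc).1
  have hA' : LocP (@LocallyOfFiniteType ⊓ @FormallyUnramified) f → LocP @FormallyUnramified f :=
    fun h _ _ a b k ha hb hc => (h a b k ha hb hc).2
  have hB : LocP @LocallyOfFiniteType f → Mono f →
      LocP (@LocallyOfFiniteType ⊓ @FormallyUnramified) f := by
    intro hlft hm
    haveI := hm
    haveI : IsIso (pullback.diagonal f) := (pullback.isIso_diagonal_iff f).2 hm
    exact locP_unramified_of_diagonal hX hY f hlft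
      (Groth.Agent.Lib.AlgSpBasic_helper7.repWith_of_isIso _ _)
  have hC : LocP @LocallyOfFiniteType f → IsFormallyUnramifiedMor f →
      LocP (@LocallyOfFiniteType ⊓ @FormallyUnramified) f :=
    fun h1 h2 _ _ a b k ha hb hc =>
      ⟨h1 a b k ha hb hc, (unram_iff_locP hX hY f).1 h2 a b k ha hb hc⟩
  have hE : LocP (@LocallyOfFiniteType ⊓ @FormallyUnramified) f →
      LocP (@LocallyQuasiFinite ⊓ @LocallyOfFiniteType) f := by
    intro h U V a b k ha hb hc
    obtain ⟨h1, h2⟩ := h a b k ha hb hc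
    haveI : LocallyOfFiniteType k.left := h1
    haveI : FormallyUnramified k.left := h2
    exact ⟨locallyQuasiFinite_of_unramified k.left, h1⟩
  refine ⟨⟨fun ⟨h1, h2⟩ => ⟨h1, ?_⟩, fun ⟨h1, h2⟩ =>
      ⟨h1, mono_of_unramified_of_univInjective hX hY f h1 h2⟩⟩,
    ⟨fun ⟨h1, h2⟩ => ⟨hA h1, h2⟩, fun ⟨h1, h2⟩ => ⟨hB h1 h2, h2⟩⟩,
    ⟨fun ⟨h1, h2⟩ => ⟨?_, hA h1, (unram_iff_locP hX hY f).2 (hA' h1)⟩, fun ⟨h1, h2, h3⟩ =>
      ⟨hC h2 h3, mono_of_unramified_of_univInjective hX hY f (hC h2 h3) h1⟩⟩, ?_⟩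
  · haveI := h2
    exact isUnivInjectiveMor_of_mono f
  · haveI := h2
    exact isUnivInjectiveMor_of_mono f
  · rintro ⟨h1, h2⟩
    haveI := h2
    have hsep : IsSeparatedMor f := Groth.Agent.Lib.AlgSpProper_helper7.isSeparatedMor_of_mono f
    have hqf := hE (hB h1 h2)
    exact ⟨representable_of_sep_lqf hX hY f hqf hsep, hsep, hqf⟩

end Groth.Agent.Lib.SepLqf6H7
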