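import Groth.Agent.Lib.SepLqf6_helper7
import Groth.Agent.Lib.AlgSpLocP2_helper7

/-!
# Locally quasi-finite maps from a scheme, representable by algebraic spaces, are representable
by schemes (helper7)
-/

set_option autoImplicit false
set_option linter.style.haveILetI false
set_option backward.isDefEq.respectTransparency false
set_option backward.isDefEq.respectTransparency.types false
universe u
open CategoryTheory CategoryTheory.Limits AlgebraicGeometry Opposite MorphismProperty

namespace Groth.Agent.Lib.SepLqf7H7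

open AlgSp Groth.Agent.Lib.AlgSpLocP2_helper7 Groth.Agent.Lib.AlgSpDescent_helper7
  Groth.Agent.Lib.SepLqf4H7 Groth.Agent.Lib.SepLqf6H7

variable {S : Scheme.{u}}

/-- A sheaf with a pair of maps to `h_X`, `h_T` which is jointly monic, the second being locally
quasi-finite, is representable. -/
theorem isRepresentable_of_jointly_mono {G : Sp S} (hG : IsAlgSpace G) {X T : Over S}
    (a : G ⟶ (yon S).obj X) (b : G ⟶ (yon S).obj T)
    (hmono : ∀ ⦃Z : Sp S⦄ (u v : Z ⟶ G), u ≫ a = v ≫ a → u ≫ b = v ≫ b → u = v)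
    (hb : LocP (@LocallyQuasiFinite ⊓ @LocallyOfFiniteType) b) : G.obj.IsRepresentable := by
  let XT : Over S := X ⨯ T
  let pc := prodComparison (yon S) X T
  obtain ⟨m, hm⟩ : ∃ m : G ⟶ (yon S).obj XT, m = prod.lift a b ≫ inv pc := ⟨_, rfl⟩
  have hm1 : m ≫ (yon S).map (prod.fst : XT ⟶ X) = a := by
    rw [hm, Category.assoc, ← prodComparison_fst (yon S), IsIso.inv_hom_id_assoc, prod.lift_fst]
  have hm2 : m ≫ (yon S).map (prod.snd : XT ⟶ T) = b := by
    rw [hm, Category.assoc, ← prodComparison_snd (yon S), IsIso.inv_hom_id_assoc, prod.lift_snd]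
  haveI : Mono m := ⟨fun u v huv => hmono u v
    (by rw [← hm1, ← Category.assoc, huv, Category.assoc])
    (by rw [← hm2, ← Category.assoc, huv, Category.assoc])⟩
  have hYXT : IsAlgSpace ((yon S).obj XT) := IsAlgSpace.yon_obj XT
  have hYT : IsAlgSpace ((yon S).obj T) := IsAlgSpace.yon_obj T
  have hlftb : LocP @LocallyOfFiniteType (m ≫ (yon S).map (prod.snd : XT ⟶ T)) := by
    rw [hm2]
    exact fun _ _ a' b' k ha hb' hc => (hb a' b' k ha hb' hc).2
  have hlftm : LocP @LocallyOfFiniteType m :=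
    locP_of_comp' @LocallyOfFiniteType ⊤ (descendsEtale_of_descendsAlong _)
      (fun _ _ _ f g hfg _ => by
        haveI : LocallyOfFiniteType (f ≫ g) := hfg
        exact locallyOfFiniteType_of_comp f g)
      hYT m ((yon S).map (prod.snd : XT ⟶ T)) hlftb (fun _ _ _ _ _ _ _ _ => trivial)
  obtain ⟨-, hsep, hqf⟩ := (main10613 hG hYXT m).2.2.2 ⟨hlftm, inferInstance⟩
  exact main10259 XT hG m hqf hsep

theorem main10100 (F : PSp S) (X : Over S) (p : (pyon S).obj X ⟶ F)
    (hp : RepBySpWith (LocP (@LocallyQuasiFinite ⊓ @LocallyOfFiniteType)) p) :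
    (pyon S).relativelyRepresentable p := by
  intro T ξ
  have sq := IsPullback.of_hasPullback p ξ
  obtain ⟨hsh, hAlg, hQ⟩ := hp ξ (pullback.fst p ξ) (pullback.snd p ξ) sq
  let G : Sp S := ⟨pullback p ξ, hsh⟩
  let a : G ⟶ (yon S).obj X := ObjectProperty.homMk (pullback.fst p ξ)
  let b : G ⟶ (yon S).obj T := ObjectProperty.homMk (pullback.snd p ξ)
  have hrep : G.obj.IsRepresentable := by
    refine isRepresentable_of_jointly_mono hAlg a b (fun Z u v h1 h2 => ?_) hQ
    apply ObjectProperty.hom_ext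
    apply pullback.hom_ext
    · exact congrArg (fun φ => φ.hom) h1
    · exact congrArg (fun φ => φ.hom) h2
  obtain ⟨V, ⟨r⟩⟩ := hrep.has_representation
  let e : (yon S).obj V ≅ G := isoOfRepresentableBy r
  let eP : (pyon S).obj V ≅ pullback p ξ :=
    ⟨e.hom.hom, e.inv.hom, congrArg (fun φ => φ.hom) e.hom_inv_id,
      congrArg (fun φ => φ.hom) e.inv_hom_id⟩
  obtain ⟨snd, hsnd⟩ := (yon S).map_surjective (e.hom ≫ b)
  have hsnd' : (pyon S).map snd = eP.hom ≫ pullback.snd p ξ := congrArg (fun φ => φ.hom) hsnd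
  refine ⟨V, snd, eP.hom ≫ pullback.fst p ξ, ?_⟩
  rw [hsnd']
  exact IsPullback.of_iso sq eP.symm (Iso.refl _) (Iso.refl _) (Iso.refl _) (by simp) (by simp)
    (by simp) (by simp)

end Groth.Agent.Lib.SepLqf7H7
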