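import Groth.Agent.Lib.SepLqf4_helper7
import Groth.Agent.Lib.AlgSpOpenSub_helper7
import Groth.Agent.Lib.AlgSpPullback_helper7

/-!
# Opens of separated locally quasi-finite spaces over a scheme are schemes (helper7)
-/

set_option autoImplicit false
set_option linter.style.haveILetI false
set_option backward.isDefEq.respectTransparency false
set_option backward.isDefEq.respectTransparency.types false
universe u
open CategoryTheory CategoryTheory.Limits AlgebraicGeometry Opposite MorphismProperty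

namespace Groth.Agent.Lib.SepLqf8H7

open AlgSp Groth.Agent.Lib.AlgSpPullback_helper7 Groth.Agent.Lib.AlgSpQC_helper7
  Groth.Agent.Lib.AlgSpPoints_helper7 Groth.Agent.Lib.SepLqf4H7
  Groth.Agent.Lib.AlgSpBasic_helper7 Groth.Agent.Lib.AlgSpOpenSub_helper7

variable {S : Scheme.{u}}

theorem main10321 {T T' : Over S} [IsAffine T'.left] (e : T' ⟶ T) [Etale e.left]
    {X P V' : Sp S} (hX : IsAlgSpace X) (f : X ⟶ (yon S).obj T)
    (hsep : IsSeparatedMor f) (hqf : LocP (@LocallyQuasiFinite ⊓ @LocallyOfFiniteType) f)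
    (p1 : P ⟶ (yon S).obj T') (p2 : P ⟶ X) (sq : IsPullback p2 p1 f ((yon S).map e))
    (j : V' ⟶ P) (hj : RepWith @IsOpenImmersion j) (hqa : IsQuasiAffineMor (j ≫ p1)) :
    ∃ (W : Over S) (i : (yon S).obj W ⟶ X), RepWith @IsOpenImmersion i ∧ CompactSpace ↥W.left ∧
      Set.range (Points.map i) = Set.range (Points.map (j ≫ p2)) := by
  obtain ⟨X₀, ⟨r⟩⟩ := (main10259 T hX f hqf hsep).has_representation
  let ε : (yon S).obj X₀ ≅ X := isoOfRepresentableBy r
  obtain ⟨W₁, i₁, fst₁, sq₁, hW₁⟩ := hqa (inferInstance : IsAffine T'.left) (𝟙 _)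
  haveI : IsIso fst₁ := sq₁.isIso_fst_of_isIso
  haveI : CompactSpace ↥W₁.left := hW₁.toCompactSpace
  have hp2 : RepWith @Etale p2 :=
    repWith_fst_of_isPullback _ sq ((repWith_yon_map_iff _ _).2 ‹Etale e.left›)
  have hje : RepWith @Etale j := repWith_etale_of_openImmersion hj
  have ha : RepWith @Etale (fst₁ ≫ j ≫ p2 ≫ ε.inv) :=
    repWith_comp _ (Groth.Agent.Lib.AlgSpBasic_helper7.repWith_of_isIso _ _)
      (repWith_comp _ hje (repWith_comp _ hp2
        (Groth.Agent.Lib.AlgSpBasic_helper7.repWith_of_isIso _ _)))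
  obtain ⟨k₀, hk₀⟩ := (yon S).map_surjective (fst₁ ≫ j ≫ p2 ≫ ε.inv)
  have hk₀e : Etale k₀.left := by
    rw [← hk₀] at ha
    exact (repWith_yon_map_iff _ _).1 ha
  have hopen : IsOpen (Set.range k₀.left) := k₀.left.isOpenMap.isOpen_range
  let O : X₀.left.Opens := ⟨Set.range k₀.left, hopen⟩
  let W : Over S := Over.mk (O.ι ≫ X₀.hom)
  let ι' : W ⟶ X₀ := Over.homMk O.ι rfl
  refine ⟨W, (yon S).map ι' ≫ ε.hom, ?_, ?_, ?_⟩
  · exact repWith_comp _ ((repWith_yon_map_iff _ _).2 (inferInstance : IsOpenImmersion O.ι))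
      (Groth.Agent.Lib.AlgSpBasic_helper7.repWith_of_isIso _ _)
  · exact isCompact_iff_compactSpace.1 (isCompact_range k₀.left.continuous)
  · rw [range_map_yon]
    have h1 : Set.range (Points.map (j ≫ p2)) = Set.range (Points.ofPt (fst₁ ≫ j ≫ p2)) := by
      rw [← range_map_yon]
      ext x
      constructor
      · rintro ⟨y, rfl⟩
        refine ⟨Points.map (inv fst₁) y, ?_⟩
        rw [← Points.map_comp, IsIso.inv_hom_id_assoc]
      · rintro ⟨y, rfl⟩
        exact ⟨Points.map fst₁ y, (Points.map_comp fst₁ (j ≫ p2) y).symm⟩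
    have h2 : fst₁ ≫ j ≫ p2 = (yon S).map k₀ ≫ ε.hom := by
      rw [hk₀]; simp
    rw [h1, h2]
    ext x
    constructor
    · rintro ⟨w, rfl⟩
      have hw : ι'.left w ∈ Set.range k₀.left := by
        have h := Set.mem_range_self (f := O.ι) w
        rw [Scheme.Opens.range_ι] at h
        exact h
      obtain ⟨w₁, hw₁⟩ := hw
      exact ⟨w₁, by rw [ofPt_comp, ofPt_comp, hw₁]⟩
    · rintro ⟨w₁, rfl⟩
      have hw : k₀.left w₁ ∈ Set.range O.ι := by
        rw [Scheme.Opens.range_ι]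
        exact ⟨w₁, rfl⟩
      obtain ⟨w, hw⟩ := hw
      refine ⟨w, ?_⟩
      rw [ofPt_comp, ofPt_comp]
      exact congrArg _ hw

end Groth.Agent.Lib.SepLqf8H7
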