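import Mathlib
import Groth.Agent.Lib.SchDomAlg_lead
import Groth.Agent.Lib.Sep3_helper8

/-!
# Separating families of module homomorphisms and flat finitely presented base change (lead)

Module version of `SchDomAlg.core`: `A → A'` flat of finite presentation, `v_λ : M → N_λ` a family of
`A`-linear maps which is separating on every principal open of `Spec A`.  Then the family
`A' ⊗ v_λ` is jointly injective.  Scheme-level consequence: EGA IV 11.9.x (case `Z_λ = X`) for
quasi-coherent modules.
-/

set_option backward.isDefEq.respectTransparency false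
set_option backward.isDefEq.respectTransparency.types false
set_option linter.unusedVariables false
set_option linter.unusedSectionVars false
set_option linter.style.longLine false
set_option linter.unusedSimpArgs false
set_option linter.unnecessarySimpa false
set_option maxHeartbeats 800000

universe u v w

open TensorProduct CategoryTheory AlgebraicGeometry Opposite TopologicalSpace

namespace Groth.Agent.Lib.SepModAlg

open Groth.Agent.Lib.SchDomAlg

/-- **Lemma L, module version.** -/
theorem lemmaLM {R : Type u} [CommRing R] (P : Type u) [AddCommGroup P] [Module R P]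
    [Module.Flat R P] {r : ℕ} (y : Fin r → R)
    [Module.Free (R ⧸ Ideal.span (Set.range y)) ((R ⧸ Ideal.span (Set.range y)) ⊗[R] P)]
    {M : Type u} [AddCommGroup M] [Module R M]
    {Λ : Type v} (Q : Λ → Type u) [∀ l, AddCommGroup (Q l)] [∀ l, Module R (Q l)]
    (ψ : ∀ l, M →ₗ[R] Q l) (hψ : ∀ x : M, (∀ l, ψ l x = 0) → x = 0)
    (t : M ⊗[R] P) (hy : ∀ k, y k • t = 0) (ht : ∀ l, (ψ l).rTensor P t = 0) : t = 0 := by
  classical
  let J : Ideal R := Ideal.span (Set.range y)
  let b := Module.Free.chooseBasis (R ⧸ J) ((R ⧸ J) ⊗[R] P)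
  have hsurj : Function.Surjective (algebraMap R (R ⧸ J)) := Ideal.Quotient.mk_surjective
  let φ : M →ₗ[R] (Fin r → M) := LinearMap.pi (fun k => y k • LinearMap.id)
  have hφ : ∀ x k, φ x k = y k • x := fun x k => rfl
  let N : Submodule R M := LinearMap.ker φ
  have hN : ∀ x ∈ N, ∀ k, y k • x = 0 := by
    intro x hx k
    have h0 : φ x = 0 := hx
    rw [← hφ, h0]
    rfl
  have htors0 : Module.IsTorsionBySet R N (Set.range y) := by
    rintro ⟨x, hx⟩ ⟨_, k, rfl⟩
    apply Subtype.ext
    exact hN x hx k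
  have htors : Module.IsTorsionBySet R N (J : Set R) :=
    (Module.isTorsionBySet_iff_is_torsion_by_span _).mp htors0
  letI : Module (R ⧸ J) N := htors.module
  haveI : IsScalarTower R (R ⧸ J) N := htors.isScalarTower
  have hex := Module.Flat.rTensor_exact P (LinearMap.exact_subtype_ker_map φ)
  have h0 : (φ.rTensor P) t = 0 := by
    have key : ∀ z : M ⊗[R] P, (φ.rTensor P) z =
        ∑ k, ((LinearMap.single R (fun _ : Fin r => M) k).rTensor P) (y k • z) := by
      intro z
      induction z using TensorProduct.induction_on with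
      | zero => simp
      | tmul m p =>
        have h1 : ∀ k, ((LinearMap.single R (fun _ : Fin r => M) k).rTensor P)
            (y k • (m ⊗ₜ[R] p)) = (Pi.single k (y k • m) : Fin r → M) ⊗ₜ[R] p := by
          intro k
          rw [TensorProduct.smul_tmul', LinearMap.rTensor_tmul]
          rfl
        rw [LinearMap.rTensor_tmul, Finset.sum_congr rfl (fun k _ => h1 k),
          ← TensorProduct.sum_tmul]
        congr 1
        ext j
        rw [hφ, Finset.sum_apply]
        simp [Pi.single_apply]
      | add a b ha hb => simp only [map_add, smul_add, Finset.sum_add_distrib, ha, hb]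
    rw [key]
    exact Finset.sum_eq_zero (fun k _ => by rw [hy k, map_zero])
  obtain ⟨s, hs⟩ := (hex t).mp h0
  have hcoord : ∀ i, coord b N s i = 0 := by
    intro i
    apply Subtype.ext
    apply hψ
    intro l
    let g : N →ₗ[R] Q l := (ψ l).comp N.subtype
    let Nl : Submodule R (Q l) := LinearMap.range g
    have htl0 : Module.IsTorsionBySet R Nl (J : Set R) := by
      rintro ⟨_, x, rfl⟩ ⟨a, ha⟩
      apply Subtype.ext
      show a • g x = 0
      rw [← map_smul]
      have := @htors x ⟨a, ha⟩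
      rw [this, map_zero]
    letI : Module (R ⧸ J) Nl := htl0.module
    haveI : IsScalarTower R (R ⧸ J) Nl := htl0.isScalarTower
    have hzero : (g.rangeRestrict.rTensor P) s = 0 := by
      apply Module.Flat.rTensor_preserves_injective_linearMap Nl.subtype
        (Submodule.injective_subtype Nl)
      rw [map_zero, ← LinearMap.comp_apply, ← LinearMap.rTensor_comp,
        show Nl.subtype.comp g.rangeRestrict = g from LinearMap.subtype_comp_codRestrict _ _ _]
      show (((ψ l).comp N.subtype).rTensor P) s = 0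
      rw [LinearMap.rTensor_comp, LinearMap.comp_apply, hs]
      exact ht l
    have hc := coord_map b hsurj g.rangeRestrict s i
    rw [hzero, map_zero, Finsupp.zero_apply] at hc
    have hc' := congrArg Subtype.val hc.symm
    exact hc'
  have hs0 : s = 0 := by
    apply (coord b N).injective
    rw [map_zero]
    ext i
    rw [hcoord i]
    rfl
  rw [hs0, map_zero] at hs
  exact hs.symm

section Phi

variable (A R A' : Type u) [CommRing A] [CommRing R] [Algebra A R] [AddCommGroup A'] [Module A A']

/-- the comparison map `X ⊗ A' → (R ⊗ X) ⊗_R (R ⊗ A')`. -/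
noncomputable def Phi (X : Type u) [AddCommGroup X] [Module A X] :
    X ⊗[A] A' →ₗ[A] (R ⊗[A] X) ⊗[R] (R ⊗[A] A') :=
  (TensorProduct.mapOfCompatibleSMul R A A (R ⊗[A] X) (R ⊗[A] A')).comp
    (TensorProduct.map (TensorProduct.mk A R X 1) (TensorProduct.mk A R A' 1))

variable {A R A'}
variable {X Y : Type u} [AddCommGroup X] [Module A X] [AddCommGroup Y] [Module A Y]

theorem Phi_tmul (x : X) (a' : A') :
    Phi A R A' X (x ⊗ₜ[A] a') = ((1 : R) ⊗ₜ[A] x) ⊗ₜ[R] ((1 : R) ⊗ₜ[A] a') := rfl

theorem Phi_nat (v : X →ₗ[A] Y) (z : X ⊗[A] A') :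
    ((v.baseChange R).rTensor (R ⊗[A] A')) (Phi A R A' X z) = Phi A R A' Y (v.rTensor A' z) := by
  induction z using TensorProduct.induction_on with
  | zero => simp
  | tmul x a' => rfl
  | add a b ha hb => simp only [map_add, ha, hb]

theorem Phi_retract (z : X ⊗[A] A') :
    (AlgebraTensorModule.assoc A A R R X A')
      ((AlgebraTensorModule.cancelBaseChange A R R (R ⊗[A] X) A') (Phi A R A' X z)) =
      (1 : R) ⊗ₜ[A] z := by
  induction z using TensorProduct.induction_on with
  | zero => simp
  | tmul x a' =>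
    rw [Phi_tmul, AlgebraTensorModule.cancelBaseChange_tmul, one_smul,
      AlgebraTensorModule.assoc_tmul]
  | add a b ha hb => simp only [map_add, ha, hb, TensorProduct.tmul_add]

end Phi

section Step

variable {A A' : Type u} [CommRing A] [CommRing A'] [Algebra A A'] [Module.Flat A A']

/-- **Step, module version.** -/
theorem stepM {M : Type u} [AddCommGroup M] [Module A M] {Λ : Type v} (N : Λ → Type u)
    [∀ l, AddCommGroup (N l)] [∀ l, Module A (N l)] (v : ∀ l, M →ₗ[A] N l)
    (f : A) {r : ℕ} (g : Fin r → A) (m : ℕ)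
    (hfree : FreeStratH8.StratFree A' (Ideal.span (Set.range g)) f)
    (t : M ⊗[A] A') (hg : ∀ k, g k ^ m • t = 0)
    (H : ∀ x : M, (∀ l, ∃ n : ℕ, f ^ n • v l x = 0) → ∃ n : ℕ, f ^ n • x = 0)
    (ht : ∀ l, (v l).rTensor A' t = 0) : ∃ n : ℕ, f ^ n • t = 0 := by
  classical
  let R := Localization.Away f
  let y : Fin r → R := fun k => algebraMap A R (g k ^ m)
  haveI hF := free_aux (A' := A') f g m hfree
  have key : Phi A R A' M t = 0 := by
    refine lemmaLM (R := R) (R ⊗[A] A') y (M := R ⊗[A] M) (fun l => R ⊗[A] N l)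
      (fun l => (v l).baseChange R) ?_ (Phi A R A' M t) ?_ ?_
    · -- joint injectivity
      intro x hx
      obtain ⟨⟨m0, ⟨_, k, rfl⟩⟩, hms⟩ :=
        IsLocalizedModule.surj (Submonoid.powers f) (TensorProduct.mk A R M 1) x
      have hms' : (f ^ k) • x = (1 : R) ⊗ₜ[A] m0 := hms
      have hm0 : ∃ n : ℕ, f ^ n • m0 = 0 := by
        apply H
        intro l
        have h1 := congrArg ((v l).baseChange R) hms'
        rw [LinearMap.map_smul_of_tower, hx l, smul_zero, LinearMap.baseChange_tmul] at h1
        have h2 : TensorProduct.mk A R (N l) 1 (v l m0) = 0 := h1.symm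
        obtain ⟨⟨_, n, rfl⟩, hn⟩ :=
          (IsLocalizedModule.eq_zero_iff (Submonoid.powers f) (TensorProduct.mk A R (N l) 1)).mp h2
        exact ⟨n, hn⟩
      obtain ⟨n, hn⟩ := hm0
      have h3 : TensorProduct.mk A R M 1 m0 = 0 :=
        (IsLocalizedModule.eq_zero_iff (Submonoid.powers f) (TensorProduct.mk A R M 1)).mpr
          ⟨⟨f ^ n, n, rfl⟩, hn⟩
      have h4 : (f ^ k) • x = 0 := hms'.trans h3
      have hu : IsUnit (algebraMap A R (f ^ k)) :=
        IsLocalization.map_units R (⟨f ^ k, k, rfl⟩ : Submonoid.powers f)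
      rw [← algebraMap_smul R (f ^ k) x] at h4
      exact (hu.smul_eq_zero).mp h4
    · intro k
      show algebraMap A R (g k ^ m) • Phi A R A' M t = 0
      rw [algebraMap_smul, ← map_smul, hg k, map_zero]
    · intro l
      rw [Phi_nat, ht l, map_zero]
  have h1 := Phi_retract (A := A) (R := R) (A' := A') (X := M) t
  rw [key, map_zero, map_zero] at h1
  have h2 : TensorProduct.mk A R (M ⊗[A] A') 1 t = 0 := h1.symm
  obtain ⟨⟨_, n, rfl⟩, hn⟩ :=
    (IsLocalizedModule.eq_zero_iff (Submonoid.powers f) (TensorProduct.mk A R (M ⊗[A] A') 1)).mp h2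
  exact ⟨n, hn⟩

end Step

/-- **Core, module version.** -/
theorem coreM {A A' : Type u} [CommRing A] [CommRing A'] [Algebra A A'] [Module.Flat A A']
    [Algebra.FinitePresentation A A'] {M : Type u} [AddCommGroup M] [Module A M]
    {Λ : Type v} (N : Λ → Type u) [∀ l, AddCommGroup (N l)] [∀ l, Module A (N l)]
    (v : ∀ l, M →ₗ[A] N l)
    (H : ∀ (a : A) (x : M), (∀ l, ∃ n : ℕ, a ^ n • v l x = 0) → ∃ n : ℕ, a ^ n • x = 0)
    (t : M ⊗[A] A') (ht : ∀ l, (v l).rTensor A' t = 0) : t = 0 := by
  obtain ⟨l, hl, hstrat⟩ := FreeStratH8.exists_strat (A := A) (B := A') A'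
  have claim : ∀ i (hi : i ≤ l.length), ∃ m : ℕ, ∀ k (hk : k < i),
      (l[k]'(lt_of_lt_of_le hk hi)) ^ m • t = 0 := by
    intro i
    induction i with
    | zero => intro _; exact ⟨0, fun k hk => absurd hk (Nat.not_lt_zero k)⟩
    | succ i ih =>
      intro hi
      have hi' : i < l.length := hi
      obtain ⟨m, hm⟩ := ih (Nat.le_of_succ_le hi)
      have hset : {a | a ∈ l.take i} = Set.range (fun k : Fin i => l[k.1]'(k.2.trans hi')) := by
        ext a
        constructor
        · intro ha
          obtain ⟨k, hk, rfl⟩ := List.mem_take_iff_getElem.mp ha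
          exact ⟨⟨k, lt_of_lt_of_le hk (min_le_left _ _)⟩, rfl⟩
        · rintro ⟨k, rfl⟩
          exact List.mem_take_iff_getElem.mpr ⟨k.1, lt_min k.2 (k.2.trans hi'), rfl⟩
      have hfree := hstrat i hi'
      rw [hset] at hfree
      obtain ⟨n, hn⟩ := stepM N v (l[i]) (fun k : Fin i => l[k.1]'(k.2.trans hi')) m hfree t
        (fun k => hm k.1 k.2) (H (l[i])) ht
      refine ⟨m + n, fun k hk => ?_⟩
      rcases Nat.lt_succ_iff_lt_or_eq.mp hk with h | h
      · rw [pow_add, mul_comm, mul_smul, hm k h, smul_zero]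
      · subst h
        rw [pow_add, mul_smul, hn, smul_zero]
  obtain ⟨m, hm⟩ := claim l.length le_rfl
  have hspan : Ideal.span ((fun x => x ^ m) '' {a | a ∈ l}) = ⊤ := Ideal.span_pow_eq_top _ hl m
  have hle : Ideal.span ((fun x => x ^ m) '' {a | a ∈ l}) ≤
      LinearMap.ker (LinearMap.toSpanSingleton A (M ⊗[A] A') t) := by
    rw [Ideal.span_le]
    rintro _ ⟨a, ha, rfl⟩
    obtain ⟨k, hk, rfl⟩ := List.getElem_of_mem ha
    show LinearMap.toSpanSingleton A (M ⊗[A] A') t (l[k] ^ m) = 0
    rw [LinearMap.toSpanSingleton_apply]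
    exact hm k hk
  have h1 : (1 : A) ∈ LinearMap.ker (LinearMap.toSpanSingleton A (M ⊗[A] A') t) := by
    apply hle
    rw [hspan]
    exact Submodule.mem_top
  have h2 : LinearMap.toSpanSingleton A (M ⊗[A] A') t 1 = 0 := h1
  rw [LinearMap.toSpanSingleton_apply, one_smul] at h2
  exact h2

/-- **Core, module version, base change form.** -/
theorem coreM' {A A' : Type u} [CommRing A] [CommRing A'] [Algebra A A'] [Module.Flat A A']
    [Algebra.FinitePresentation A A'] {M : Type u} [AddCommGroup M] [Module A M]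
    {Λ : Type v} (N : Λ → Type u) [∀ l, AddCommGroup (N l)] [∀ l, Module A (N l)]
    (v : ∀ l, M →ₗ[A] N l)
    (H : ∀ (a : A) (x : M), (∀ l, ∃ n : ℕ, a ^ n • v l x = 0) → ∃ n : ℕ, a ^ n • x = 0)
    (z : A' ⊗[A] M) (hz : ∀ l, (v l).baseChange A' z = 0) : z = 0 := by
  have h1 : ∀ l (w : A' ⊗[A] M), (v l).rTensor A' (TensorProduct.comm A A' M w) =
      TensorProduct.comm A A' (N l) ((v l).baseChange A' w) := by
    intro l w
    induction w using TensorProduct.induction_on with
    | zero => simp
    | tmul a m => rfl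
    | add a b ha hb => simp only [map_add, ha, hb]
  have h2 := coreM N v H (TensorProduct.comm A A' M z) (fun l => by rw [h1, hz l, map_zero])
  exact (TensorProduct.comm A A' M).injective (by rw [h2, map_zero])

section Sch

variable {X X' : Scheme.{u}} (g : X' ⟶ X)

theorem hyp_of_sep (F : X.Modules) [F.IsQuasicoherent] {ι : Type*}
    (G : ι → X.Modules) [∀ i, (G i).IsQuasicoherent] (u : ∀ i, F ⟶ G i)
    (h : ∀ (V : X.Opens) (t : Γ(F, V)), (∀ i, (u i).app V t = 0) → t = 0)
    (V : X.Opens) (hV : IsAffineOpen V) (a : Γ(X, V)) (x : Γ(F, V))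
    (hx : ∀ i, ∃ n : ℕ, a ^ n • SepH8.appLin (u i) V x = 0) : ∃ n : ℕ, a ^ n • x = 0 := by
  have hF := QCohCrit.locOnU_of_isQuasicoherent F hV a
  apply hF.ker
  apply h (X.basicOpen a)
  intro i
  have hG := QCohCrit.locOnU_of_isQuasicoherent (G i) hV a
  obtain ⟨n, hn⟩ := hx i
  have h1 := QCohCrit.app_naturality (u i) (homOfLE (X.basicOpen_le a)) x
  refine h1.trans ?_
  have h2 := hG.smul (a ^ n) ((u i).app V x)
  have h3 : (a ^ n) • (u i).app V x = 0 := hn
  rw [h3, map_zero] at h2
  have hu : IsUnit ((X.presheaf.map (homOfLE (X.basicOpen_le a)).op).hom (a ^ n)) := by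
    letI := (X.presheaf.map (homOfLE (X.basicOpen_le a)).op).hom.toAlgebra
    haveI : IsLocalization.Away a Γ(X, X.basicOpen a) := hG.isLoc
    have h4 := IsLocalization.Away.algebraMap_isUnit (S := Γ(X, X.basicOpen a)) a
    rw [map_pow]
    exact h4.pow n
  exact (hu.smul_eq_zero).mp h2.symm

variable [Flat g] [LocallyOfFinitePresentation g]

theorem main4909 (F : X.Modules) [F.IsQuasicoherent] {ι : Type u}
    (G : ι → X.Modules) [∀ i, (G i).IsQuasicoherent] (u : ∀ i, F ⟶ G i)
    (h : ∀ (V : X.Opens) (t : Γ(F, V)), (∀ i, (u i).app V t = 0) → t = 0)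
    (V' : X'.Opens) (t : Γ((Scheme.Modules.pullback g).obj F, V'))
    (ht : ∀ i, ((Scheme.Modules.pullback g).map (u i)).app V' t = 0) : t = 0 := by
  refine SepH8.separating_pullback_of_alg g F G u ?_ V' t ht
  intro V hV U' hU' hle
  letI := (g.appLE V U' hle).hom.toAlgebra
  haveI : Module.Flat Γ(X, V) Γ(X', U') :=
    HasRingHomProperty.appLE (P := @Flat) g inferInstance ⟨V, hV⟩ ⟨U', hU'⟩ hle
  haveI : Algebra.FinitePresentation Γ(X, V) Γ(X', U') :=
    HasRingHomProperty.appLE (P := @LocallyOfFinitePresentation) g inferInstance ⟨V, hV⟩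
      ⟨U', hU'⟩ hle
  intro z hz
  exact coreM' (A := Γ(X, V)) (A' := Γ(X', U')) (fun i => Γ(G i, V))
    (fun i => SepH8.appLin (u i) V) (fun a x hx => hyp_of_sep F G u h V hV a x hx) z hz

end Sch

end Groth.Agent.Lib.SepModAlg
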