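import Groth.Agent.Lib.SepModFib_lead

/-! # Separating families of module homomorphisms: the fibrewise criterion, core (lead) -/

set_option backward.isDefEq.respectTransparency false
set_option backward.isDefEq.respectTransparency.types false
set_option linter.unusedSimpArgs false
set_option linter.unusedVariables false
set_option linter.unusedSectionVars false
set_option linter.style.longLine false
set_option linter.style.haveILetI false
set_option linter.unnecessarySimpa false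
set_option maxHeartbeats 1600000

universe u v

open CategoryTheory CategoryTheory.Limits AlgebraicGeometry Opposite TopologicalSpace TensorProduct

namespace Groth.Agent.Lib.SepModFib

open Groth.Agent.Lib.SepModField (rT_baseChange rT_smul)
open Groth.Agent.Lib.SchDomNilp (mu mu_tmul mu_injective mu_nat lr_comm)

section Aux

theorem exists_smul_eq_zero_of_mk_eq_zero {R : Type u} [CommRing R] (S : Submonoid R) {X : Type u}
    [AddCommMonoid X] [Module R X] (y : X) (s : S) (h : LocalizedModule.mk y s = 0) :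
    ∃ t : S, (t : R) • y = 0 := by
  rw [← LocalizedModule.zero_mk s, LocalizedModule.mk_eq] at h
  obtain ⟨u, hu⟩ := h
  refine ⟨u * s, ?_⟩
  have h1 : ((u * s : S) : R) • y = u • s • y := by
    rw [Submonoid.coe_mul, mul_smul]; rfl
  rw [h1, hu, smul_zero, smul_zero]

end Aux

section Core0

variable {A R : Type u} [CommRing A] [CommRing R] [Algebra A R]

theorem core0 [IsNoetherianRing R] {M : Type u} [AddCommGroup M] [Module R M] [Module A M]
    [IsScalarTower A R M] [Module.Finite R M]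
    {Λ' : Type v} (N : Λ' → Type u) [∀ l, AddCommGroup (N l)] [∀ l, Module R (N l)]
    [∀ l, Module A (N l)] [∀ l, IsScalarTower A R (N l)] [∀ l, Module.Flat A (N l)]
    (v : ∀ l, M →ₗ[R] N l)
    (Hfib : ∀ (p' : Ideal A) [p'.IsPrime], PSepQ (R ⊗[A] p'.ResidueField) v)
    (h : R) (x : M) (hx : ∀ l, ∃ n : ℕ, h ^ n • v l x = 0) : ∃ n : ℕ, h ^ n • x = 0 := by
  classical
  refine rad_of_local h x (fun q hq hhq => ?_)
  haveI := hq
  let p' : Ideal A := q.comap (algebraMap A R)
  haveI hp' : p'.IsPrime := Ideal.comap_isPrime _ _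
  let Λ := Localization.AtPrime p'
  let m : Ideal Λ := IsLocalRing.maximalIdeal Λ
  haveI : m.IsMaximal := IsLocalRing.maximalIdeal.isMaximal Λ
  have hm : m = Ideal.map (algebraMap A Λ) p' :=
    (IsLocalization.AtPrime.map_eq_maximalIdeal p' Λ).symm
  let S : Submonoid R := Algebra.algebraMapSubmonoid R p'.primeCompl ⊔ Submonoid.powers h
  have hS : p'.primeCompl ≤ S.comap (algebraMap A R) := fun a ha =>
    Submonoid.mem_sup_left (Algebra.mem_algebraMapSubmonoid_of_mem ⟨a, ha⟩)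
  have hhS : ∀ n : ℕ, h ^ n ∈ S := fun n => Submonoid.mem_sup_right ⟨n, rfl⟩
  have hSq : S ≤ q.primeCompl := by
    refine sup_le ?_ (Submonoid.powers_le.mpr hhq)
    rintro _ ⟨a, ha, rfl⟩
    exact ha
  let RS := Localization S
  let ψ₀ : Λ →+* RS := IsLocalization.map RS (algebraMap A R) hS
  have hψ₀ : ∀ a : A, ψ₀ (algebraMap A Λ a) = algebraMap R RS (algebraMap A R a) :=
    fun a => IsLocalization.map_eq hS a
  letI algΛ : Algebra Λ RS := ψ₀.toAlgebra
  letI lamMod : ∀ (X : Type u) [AddCommGroup X] [Module R X], Module Λ (LocalizedModule S X) :=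
    fun X _ _ => Module.compHom _ ψ₀
  haveI towΛ : ∀ (X : Type u) [AddCommGroup X] [Module R X],
      IsScalarTower Λ RS (LocalizedModule S X) :=
    fun X _ _ => IsScalarTower.of_algebraMap_smul (fun _ _ => rfl)
  have hlam : ∀ (X : Type u) [AddCommGroup X] [Module R X] (c : Λ) (w : LocalizedModule S X),
      c • w = ψ₀ c • w := fun X _ _ c w => rfl
  haveI towA : ∀ (X : Type u) [AddCommGroup X] [Module R X] [Module A X] [IsScalarTower A R X],
      IsScalarTower A Λ (LocalizedModule S X) := by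
    intro X _ _ _ _
    refine IsScalarTower.of_algebraMap_smul (fun a w => ?_)
    rw [hlam, hψ₀, algebraMap_smul, algebraMap_smul]
  let 𝓜 := LocalizedModule S M
  let 𝓝 : Λ' → Type u := fun l => LocalizedModule S (N l)
  haveI flA : ∀ l, Module.Flat A (𝓝 l) := fun l =>
    GenFreeH8.flat_of_isLocalizedModule_algebra (R := A) (B := R) S
      (LocalizedModule.mkLinearMap S (N l))
  haveI flΛ : ∀ l, Module.Flat Λ (𝓝 l) := fun l =>
    (Module.flat_iff_of_isLocalization Λ p'.primeCompl (𝓝 l)).mpr (flA l)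
  let φ : ∀ l, 𝓜 →ₗ[Λ] 𝓝 l := fun l => (LocalizedModule.map S (v l)).restrictScalars Λ
  have hφ : ∀ l (y : M) (s : S), φ l (LocalizedModule.mk y s) = LocalizedModule.mk (v l y) s :=
    fun l y s => LocalizedModule.map_mk S (v l) y s
  let b : 𝓜 := LocalizedModule.mk x 1
  have hb : ∀ l, φ l b = 0 := by
    intro l
    obtain ⟨n, hn⟩ := hx l
    rw [hφ, ← LocalizedModule.zero_mk 1, LocalizedModule.mk_eq]
    refine ⟨⟨h ^ n, hhS n⟩, ?_⟩
    rw [one_smul, one_smul, smul_zero]
    exact hn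
  have hfree : ∀ k : ℕ, Module.Free (Λ ⧸ m) ((Λ ⧸ m) ⊗[Λ] ↥(m ^ k)) := by
    intro k
    letI : Field (Λ ⧸ m) := Ideal.Quotient.field m
    exact Module.Free.of_divisionRing _ _
  -- the fibre hypothesis
  let κ := Λ ⧸ m
  let Q := R ⊗[A] κ
  have Hfib' : PSepQ Q v := Hfib p'
  have hzeroκ : ∀ a ∈ p', algebraMap A κ a = 0 := by
    intro a ha
    rw [IsScalarTower.algebraMap_apply A Λ κ, Ideal.Quotient.algebraMap_eq,
      Ideal.Quotient.eq_zero_iff_mem]
    exact (IsLocalization.AtPrime.to_map_mem_maximal_iff Λ p' a).mpr ha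
  have hzeroQ : ∀ a ∈ p', algebraMap A Q a = 0 := by
    intro a ha
    rw [← (Algebra.TensorProduct.includeRight : κ →ₐ[A] Q).commutes a, hzeroκ a ha, map_zero]
  have hunitQ : ∀ a ∈ p'.primeCompl, IsUnit (algebraMap A Q a) := by
    intro a ha
    rw [← (Algebra.TensorProduct.includeRight : κ →ₐ[A] Q).commutes a,
      IsScalarTower.algebraMap_apply A Λ κ]
    exact ((IsLocalization.map_units Λ (⟨a, ha⟩ : p'.primeCompl)).map (algebraMap Λ κ)).map
      (Algebra.TensorProduct.includeRight : κ →ₐ[A] Q)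
  -- N-side: killing `m • 𝓝`
  let ιN : ∀ l, N l →ₗ[R] Q ⊗[R] N l := fun l => TensorProduct.mk R Q (N l) 1
  let χ : ∀ l, 𝓝 l →ₗ[RS] LocalizedModule S (Q ⊗[R] N l) := fun l => LocalizedModule.map S (ιN l)
  have hkill : ∀ l (w : 𝓝 l), w ∈ m • (⊤ : Submodule Λ (𝓝 l)) → χ l w = 0 := by
    intro l w hw
    have hann : m ≤ Ideal.comap ψ₀
        (Module.annihilator RS (LocalizedModule S (Q ⊗[R] N l))) := by
      refine hm.le.trans ?_
      rw [Ideal.map_le_iff_le_comap]
      intro a ha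
      rw [Ideal.mem_comap, Ideal.mem_comap, hψ₀, Module.mem_annihilator]
      intro y
      induction y using LocalizedModule.induction_on with
      | h y' s' =>
        rw [algebraMap_smul, LocalizedModule.smul'_mk]
        have h0 : algebraMap A R a • y' = 0 := by
          rw [← algebraMap_smul Q (algebraMap A R a) y', ← IsScalarTower.algebraMap_apply A R Q,
            hzeroQ a ha]
          exact zero_smul Q y'
        rw [h0, LocalizedModule.zero_mk]
    refine Submodule.smul_induction_on hw (fun c hc w' _ => ?_)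
      (fun a b ha hb => by rw [map_add, ha, hb, add_zero])
    have h3 : ψ₀ c ∈ Module.annihilator RS (LocalizedModule S (Q ⊗[R] N l)) := hann hc
    rw [hlam, map_smul, Module.mem_annihilator.mp h3]
  -- M-side: the map out of the fibre
  let ω₀ : M →+ κ →+ 𝓜 ⊗[Λ] κ :=
    AddMonoidHom.mk' (fun m₀ => AddMonoidHom.mk' (fun k => (LocalizedModule.mk m₀ 1 : 𝓜) ⊗ₜ[Λ] k)
      (fun a b => TensorProduct.tmul_add _ a b))
      (fun a b => by
        ext k
        show (LocalizedModule.mk (a + b) 1 : 𝓜) ⊗ₜ[Λ] k =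
          (LocalizedModule.mk a 1 : 𝓜) ⊗ₜ[Λ] k + (LocalizedModule.mk b 1 : 𝓜) ⊗ₜ[Λ] k
        rw [← TensorProduct.add_tmul]
        congr 1
        rw [LocalizedModule.mk_add_mk, one_smul, one_smul, one_mul])
  have hω₀ : ∀ (a : A) (m₀ : M) (k : κ), ω₀ (a • m₀) k = ω₀ m₀ (a • k) := by
    intro a m₀ k
    show (LocalizedModule.mk (a • m₀) 1 : 𝓜) ⊗ₜ[Λ] k = (LocalizedModule.mk m₀ 1 : 𝓜) ⊗ₜ[Λ] (a • k)
    rw [← LocalizedModule.smul'_mk, ← algebraMap_smul Λ a (LocalizedModule.mk m₀ 1 : 𝓜),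
      ← algebraMap_smul Λ a k, TensorProduct.smul_tmul]
  let ω : M ⊗[A] κ →+ 𝓜 ⊗[Λ] κ := TensorProduct.liftAddHom ω₀ hω₀
  have hω : ∀ (m₀ : M) (k : κ), ω (m₀ ⊗ₜ[A] k) = (LocalizedModule.mk m₀ 1 : 𝓜) ⊗ₜ[Λ] k :=
    fun m₀ k => rfl
  let XiM := SepModNilp.Xi (A := A) (R := R) (Q := κ) (R₀ := Q) AlgEquiv.refl M
  have hXi : ∀ y : M, XiM.symm ((1 : Q) ⊗ₜ[R] y) = y ⊗ₜ[A] (1 : κ) := by
    intro y
    rw [LinearEquiv.symm_apply_eq]
    exact (SepModNilp.Xi_tmul (A := A) (R := R) (Q := κ) (R₀ := Q) AlgEquiv.refl y (1 : κ)).symm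
  -- joint injectivity modulo the maximal ideal
  have H0' : ∀ z : 𝓜 ⊗[Λ] (Λ ⧸ m), (∀ l, LinearMap.rTensor (Λ ⧸ m) (φ l) z = 0) → z = 0 := by
    intro z hz
    obtain ⟨b', rfl⟩ : ∃ b' : 𝓜, b' ⊗ₜ[Λ] (1 : Λ ⧸ m) = z := by
      obtain ⟨b', hb'⟩ := TensorProduct.mk_surjective (R := Λ) (S := Λ ⧸ m) (M := 𝓜)
        Ideal.Quotient.mk_surjective (TensorProduct.comm Λ 𝓜 (Λ ⧸ m) z)
      refine ⟨b', ?_⟩
      apply (TensorProduct.comm Λ 𝓜 (Λ ⧸ m)).injective
      rw [← hb']
      rfl
    induction b' using LocalizedModule.induction_on with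
    | h x' s =>
      have hN : ∀ l, ∃ n : ℕ, (algebraMap R Q h) ^ n •
          (v l).baseChange Q ((1 : Q) ⊗ₜ[R] x') = 0 := by
        intro l
        have h1 : φ l (LocalizedModule.mk x' s) ∈ m • (⊤ : Submodule Λ (𝓝 l)) := by
          rw [← LinearMap.ker_tensorProductMk (Q := 𝓝 l) (I := m), LinearMap.mem_ker]
          have := congrArg (TensorProduct.comm Λ (𝓝 l) (Λ ⧸ m)) (hz l)
          rw [LinearMap.rTensor_tmul, TensorProduct.comm_tmul, map_zero] at this
          exact this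
        have h2 := hkill l _ h1
        rw [hφ] at h2
        have h2' : (LocalizedModule.mk ((1 : Q) ⊗ₜ[R] v l x') s :
            LocalizedModule S (Q ⊗[R] N l)) = 0 := by
          rw [← h2]
          exact (LocalizedModule.map_mk S (ιN l) (v l x') s).symm
        obtain ⟨t, ht⟩ := exists_smul_eq_zero_of_mk_eq_zero S _ s h2'
        obtain ⟨y, ⟨a, ha, rfl⟩, z', ⟨n, rfl⟩, hyz⟩ := Submonoid.mem_sup.mp t.2
        refine ⟨n, ?_⟩
        rw [LinearMap.baseChange_tmul]
        rw [← hyz, ← algebraMap_smul Q, map_mul, map_pow,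
          ← IsScalarTower.algebraMap_apply A R Q, mul_smul] at ht
        exact ((hunitQ a ha).smul_eq_zero).mp ht
      obtain ⟨n, hn⟩ := Hfib' (algebraMap R Q h) ((1 : Q) ⊗ₜ[R] x') hN
      have h5 : (1 : Q) ⊗ₜ[R] (h ^ n • x') = 0 := by
        rw [TensorProduct.tmul_smul, ← algebraMap_smul Q (h ^ n) ((1 : Q) ⊗ₜ[R] x'), map_pow]
        exact hn
      have h6 : (LocalizedModule.mk (h ^ n • x') 1 : 𝓜) ⊗ₜ[Λ] (1 : κ) = 0 := by
        have := congrArg (fun y => ω (XiM.symm y)) h5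
        simp only [hXi, hω, map_zero] at this
        exact this
      have h7 : (LocalizedModule.mk x' s : 𝓜) =
          (Localization.mk 1 (s * ⟨h ^ n, hhS n⟩) : RS) • (LocalizedModule.mk (h ^ n • x') 1 : 𝓜) := by
        rw [LocalizedModule.mk_smul_mk, one_smul, mul_one]
        exact (LocalizedModule.mk_cancel_common_right s ⟨h ^ n, hhS n⟩ x').symm
      rw [h7, ← TensorProduct.smul_tmul', h6, smul_zero]
  -- the filtration
  have Qall := fun k => mod_filtration (A := Λ) m hfree 𝓝 φ H0' b hb k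
  -- Krull
  let I' : Ideal RS := Ideal.map (algebraMap R RS) q
  have hmI : Ideal.map ψ₀ m ≤ I' := by
    have hcomp : ψ₀.comp (algebraMap A Λ) = (algebraMap R RS).comp (algebraMap A R) :=
      RingHom.ext hψ₀
    refine (Ideal.map_mono hm.le).trans ?_
    rw [Ideal.map_map, hcomp, ← Ideal.map_map]
    exact Ideal.map_mono Ideal.map_comap_le
  have hmk : ∀ (k : ℕ) (j : Λ), j ∈ m ^ k → ψ₀ j ∈ I' ^ k := fun k j hj =>
    Ideal.pow_right_mono hmI k (by rw [← Ideal.map_pow]; exact Ideal.mem_map_of_mem ψ₀ hj)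
  have hbk : ∀ k : ℕ, b ∈ I' ^ k • (⊤ : Submodule RS 𝓜) := by
    intro k
    obtain ⟨ξ, hξ⟩ := Qall k
    rw [← hξ]
    clear hξ
    induction ξ using TensorProduct.induction_on with
    | zero => rw [map_zero]; exact zero_mem _
    | tmul w j =>
      rw [mu_tmul, hlam]
      exact Submodule.smul_mem_smul (hmk k _ j.2) Submodule.mem_top
    | add a b ha hb => rw [map_add]; exact add_mem ha hb
  haveI : IsNoetherianRing RS := IsLocalization.isNoetherianRing S RS inferInstance
  haveI : Module.Finite RS 𝓜 :=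
    Module.Finite.of_isLocalizedModule S (LocalizedModule.mkLinearMap S M)
  have hbinf : b ∈ ⨅ i : ℕ, I' ^ i • (⊤ : Submodule RS 𝓜) := by
    rw [Submodule.mem_iInf]
    exact hbk
  obtain ⟨⟨r, hr⟩, hrb⟩ := (Ideal.mem_iInf_smul_pow_eq_bot_iff I' b).mp hbinf
  have hrb' : r • b = b := hrb
  obtain ⟨⟨⟨r₀, hr₀⟩, s₀⟩, hrs⟩ := (IsLocalization.mem_map_algebraMap_iff S RS).mp hr
  have hrs' : r * algebraMap R RS (s₀ : R) = algebraMap R RS r₀ := hrs
  have h0 : (algebraMap R RS ((s₀ : R) - r₀)) • b = 0 := by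
    rw [map_sub, ← hrs', sub_smul, mul_comm r, mul_smul, hrb', sub_self]
  rw [algebraMap_smul] at h0
  have h0' : (LocalizedModule.mk (((s₀ : R) - r₀) • x) 1 : 𝓜) = 0 := by
    rw [← LocalizedModule.smul'_mk]
    exact h0
  obtain ⟨s₁, hs₁⟩ := exists_smul_eq_zero_of_mk_eq_zero S _ 1 h0'
  refine ⟨(s₁ : R) * ((s₀ : R) - r₀), ?_, ?_⟩
  · intro hmem
    rcases (Ideal.IsPrime.mem_or_mem hq hmem) with h1 | h1
    · exact hSq s₁.2 h1
    · apply hSq s₀.2
      have : (s₀ : R) = ((s₀ : R) - r₀) + r₀ := by ring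
      rw [this]
      exact q.add_mem h1 hr₀
  · rw [mul_smul]
    exact hs₁

end Core0

end Groth.Agent.Lib.SepModFib
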