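import Groth.Agent.Lib.SepModFib2_lead

/-! # Separating families of module homomorphisms: the fibrewise criterion, base change (lead) -/

set_option backward.isDefEq.respectTransparency false
set_option backward.isDefEq.respectTransparency.types false
set_option linter.unusedSimpArgs false
set_option linter.unusedVariables false
set_option linter.unusedSectionVars false
set_option linter.style.longLine false
set_option linter.style.haveILetI false
set_option linter.unnecessarySimpa false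
set_option maxHeartbeats 1600000

universe u v

open CategoryTheory CategoryTheory.Limits AlgebraicGeometry Opposite TopologicalSpace TensorProduct

namespace Groth.Agent.Lib.SepModFib

section BC

variable {A₀ R : Type u} [CommRing A₀] [CommRing R] [Algebra A₀ R]

theorem psepQ_field_ext {M : Type u} [AddCommGroup M] [Module R M] {Λ : Type v} (N : Λ → Type u)
    [∀ l, AddCommGroup (N l)] [∀ l, Module R (N l)] (v : ∀ l, M →ₗ[R] N l)
    (K : Type u) [Field K] [Algebra A₀ K] (K' : Type u) [CommRing K'] [Algebra A₀ K']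
    [Algebra K K'] [IsScalarTower A₀ K K']
    (HK : PSepQ (R ⊗[A₀] K) v) : PSepQ (R ⊗[A₀] K') v := by
  letI : Algebra K (R ⊗[A₀] K) := Algebra.TensorProduct.rightAlgebra
  have H1 : ∀ (hh : (R ⊗[A₀] K) ⊗[K] K')
      (y : ((R ⊗[A₀] K) ⊗[K] K') ⊗[R ⊗[A₀] K] ((R ⊗[A₀] K) ⊗[R] M)),
      (∀ l, ∃ n : ℕ, hh ^ n •
        ((v l).baseChange (R ⊗[A₀] K)).baseChange ((R ⊗[A₀] K) ⊗[K] K') y = 0) →
      ∃ n : ℕ, hh ^ n • y = 0 := by
    intro hh y hy
    haveI : IsLocalization.Away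
        ((AlgEquiv.refl : (R ⊗[A₀] K) ⊗[K] K' ≃ₐ[R ⊗[A₀] K] (R ⊗[A₀] K) ⊗[K] K') hh)
        (Localization.Away hh) :=
      (inferInstance : IsLocalization.Away hh (Localization.Away hh))
    refine SepModLim.loc_transfer (R := R ⊗[A₀] K)
      (AlgEquiv.refl : (R ⊗[A₀] K) ⊗[K] K' ≃ₐ[R ⊗[A₀] K] (R ⊗[A₀] K) ⊗[K] K') hh
      (L₁ := Localization.Away hh)
      (fun l => (R ⊗[A₀] K) ⊗[R] N l) (fun l => (v l).baseChange (R ⊗[A₀] K)) ?_ y hy
    intro w hw
    exact SepModField.fieldM_main0 (K := K) (A := R ⊗[A₀] K) (B := K')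
      (AlgEquiv.refl : (R ⊗[A₀] K) ⊗[K] K' ≃ₐ[R ⊗[A₀] K] (R ⊗[A₀] K) ⊗[K] K')
      (fun l => (R ⊗[A₀] K) ⊗[R] N l) (fun l => (v l).baseChange (R ⊗[A₀] K)) HK hh w hw
  have H2 : PSepQ ((R ⊗[A₀] K) ⊗[K] K') v := psepQ_of_double (R ⊗[A₀] K) v H1
  exact psepQ_of_equiv (Algebra.IsPushout.cancelBaseChangeAlg A₀ R K (R ⊗[A₀] K) K').symm v H2

theorem psepQ_of_fields [IsNoetherianRing R] {M : Type u} [AddCommGroup M] [Module R M]
    [Module.Finite R M] {Λ : Type v} (N : Λ → Type u) [∀ l, AddCommGroup (N l)]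
    [∀ l, Module R (N l)] [∀ l, Module A₀ (N l)] [∀ l, IsScalarTower A₀ R (N l)]
    [∀ l, Module.Flat A₀ (N l)] (v : ∀ l, M →ₗ[R] N l)
    (HF : ∀ (K' : Type u) [Field K'] [Algebra A₀ K'], PSepQ (R ⊗[A₀] K') v)
    (B₁ : Type u) [CommRing B₁] [Algebra A₀ B₁] [Algebra.FiniteType A₀ B₁] :
    PSepQ (R ⊗[A₀] B₁) v := by
  letI : Algebra B₁ (R ⊗[A₀] B₁) := Algebra.TensorProduct.rightAlgebra
  haveI : IsNoetherianRing (R ⊗[A₀] B₁) := Algebra.FiniteType.isNoetherianRing R (R ⊗[A₀] B₁)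
  haveI : ∀ l, Module.Flat B₁ ((R ⊗[A₀] B₁) ⊗[R] N l) := fun l =>
    Module.Flat.of_linearEquiv (Algebra.IsPushout.cancelBaseChange A₀ B₁ R (R ⊗[A₀] B₁) (N l))
  intro h z hz
  refine core0 (A := B₁) (R := R ⊗[A₀] B₁) (M := (R ⊗[A₀] B₁) ⊗[R] M)
    (fun l => (R ⊗[A₀] B₁) ⊗[R] N l) (fun l => (v l).baseChange (R ⊗[A₀] B₁)) ?_ h z hz
  intro p' _
  have H2 : PSepQ (R := R) ((R ⊗[A₀] B₁) ⊗[B₁] p'.ResidueField) v :=
    psepQ_of_equiv
      (Algebra.IsPushout.cancelBaseChangeAlg A₀ R B₁ (R ⊗[A₀] B₁) p'.ResidueField) v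
      (HF p'.ResidueField)
  exact double_of_psepQ (R ⊗[A₀] B₁) v H2

end BC

end Groth.Agent.Lib.SepModFib
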