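import Groth.Agent.Lib.SepModFib3_lead
import Groth.Agent.Lib.QCohFT_helper9

/-! # Universally separating families: the fibrewise criterion, scheme level (lead) -/

set_option backward.isDefEq.respectTransparency false
set_option backward.isDefEq.respectTransparency.types false
set_option linter.unusedSimpArgs false
set_option linter.unusedVariables false
set_option linter.unusedSectionVars false
set_option linter.style.longLine false
set_option linter.style.haveILetI false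
set_option linter.unnecessarySimpa false
set_option maxHeartbeats 1600000

universe u v

open CategoryTheory CategoryTheory.Limits AlgebraicGeometry Opposite TopologicalSpace TensorProduct

namespace Groth.Agent.Lib.SepModFib

section Sch

theorem affine_pushout_gen {X S S' : Scheme.{u}} (p : X ⟶ S) (g : S' ⟶ S)
    {US : S.Opens} (hUS : IsAffineOpen US) {U : X.Opens} (hU : IsAffineOpen U)
    (hUSX : U ≤ p ⁻¹ᵁ US) {T : S'.Opens} (hT : IsAffineOpen T) (hUST : T ≤ g ⁻¹ᵁ US) :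
    IsAffineOpen (pullback.fst p g ⁻¹ᵁ U ⊓ pullback.snd p g ⁻¹ᵁ T) ∧
    (letI : Algebra Γ(S, US) Γ(X, U) := (p.appLE US U hUSX).hom.toAlgebra
     letI : Algebra Γ(S, US) Γ(S', T) := (g.appLE US T hUST).hom.toAlgebra
     letI : Algebra Γ(X, U) Γ(pullback p g, pullback.fst p g ⁻¹ᵁ U ⊓ pullback.snd p g ⁻¹ᵁ T) :=
       ((pullback.fst p g).appLE U _ inf_le_left).hom.toAlgebra
     Nonempty (Γ(X, U) ⊗[Γ(S, US)] Γ(S', T) ≃ₐ[Γ(X, U)]
       Γ(pullback p g, pullback.fst p g ⁻¹ᵁ U ⊓ pullback.snd p g ⁻¹ᵁ T))) := by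
  have H : IsPullback (pullback.fst p g) (pullback.snd p g) p g := IsPullback.of_hasPullback _ _
  let O : (pullback p g).Opens := pullback.fst p g ⁻¹ᵁ U ⊓ pullback.snd p g ⁻¹ᵁ T
  have hO : IsAffineOpen O := by
    haveI : IsAffine (US : Scheme) := hUS
    haveI : IsAffine (T : Scheme) := hT
    haveI : IsAffine (U : Scheme) := hU
    exact IsAffine.of_isIso (Scheme.Hom.isPullback_resLE H hUST hUSX rfl).isoPullback.hom
  refine ⟨hO, ?_⟩
  letI algAR : Algebra Γ(S, US) Γ(X, U) := (p.appLE US U hUSX).hom.toAlgebra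
  letI algAB : Algebra Γ(S, US) Γ(S', T) := (g.appLE US T hUST).hom.toAlgebra
  letI algP : Algebra Γ(X, U) Γ(pullback p g, O) :=
    ((pullback.fst p g).appLE U O inf_le_left).hom.toAlgebra
  have hiso := isIso_pushoutSection_of_isAffineOpen H hUST hUSX rfl hUS hT hU
  have hPO := (isIso_pushoutSection_iff H hUST hUSX rfl).mp hiso
  have hTens := CommRingCat.isPushout_tensorProduct Γ(S, US) Γ(X, U) Γ(S', T)
  have hPO' : IsPushout (CommRingCat.ofHom (algebraMap Γ(S, US) Γ(X, U)))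
      (CommRingCat.ofHom (algebraMap Γ(S, US) Γ(S', T)))
      ((pullback.fst p g).appLE U O inf_le_left) ((pullback.snd p g).appLE T O inf_le_right) :=
    hPO
  let e₀ := hTens.isoIsPushout _ _ hPO'
  exact ⟨AlgEquiv.ofRingEquiv (f := e₀.commRingCatIsoToRingEquiv) (by
    intro a
    have e1 := hTens.inl_isoIsPushout_hom _ _ hPO'
    exact congrArg (fun φ => φ.hom a) e1)⟩

theorem sch_ps {X S S' : Scheme.{u}} (p : X ⟶ S) (g : S' ⟶ S) (F : X.Modules)
    [F.IsQuasicoherent] {ι : Type u} (G : ι → X.Modules) [∀ i, (G i).IsQuasicoherent]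
    (u : ∀ i, F ⟶ G i)
    (hsep : ∀ (V : (pullback p g).Opens)
      (t : Γ((Scheme.Modules.pullback (pullback.fst p g)).obj F, V)),
      (∀ i, ((Scheme.Modules.pullback (pullback.fst p g)).map (u i)).app V t = 0) → t = 0)
    {US : S.Opens} (hUS : IsAffineOpen US) {U : X.Opens} (hU : IsAffineOpen U)
    (hUSX : U ≤ p ⁻¹ᵁ US) {T : S'.Opens} (hT : IsAffineOpen T) (hUST : T ≤ g ⁻¹ᵁ US) :
    letI : Algebra Γ(S, US) Γ(X, U) := (p.appLE US U hUSX).hom.toAlgebra
    letI : Algebra Γ(S, US) Γ(S', T) := (g.appLE US T hUST).hom.toAlgebra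
    PSepQ (Γ(X, U) ⊗[Γ(S, US)] Γ(S', T)) (fun i => SepH8.appLin (u i) U) := by
  letI algAR : Algebra Γ(S, US) Γ(X, U) := (p.appLE US U hUSX).hom.toAlgebra
  letI algAB : Algebra Γ(S, US) Γ(S', T) := (g.appLE US T hUST).hom.toAlgebra
  intro h₁ z₁ hz₁
  let g₁ := pullback.fst p g
  let O₁ : (pullback p g).Opens := pullback.fst p g ⁻¹ᵁ U ⊓ pullback.snd p g ⁻¹ᵁ T
  letI algP₁ : Algebra Γ(X, U) Γ(pullback p g, O₁) :=
    ((pullback.fst p g).appLE U O₁ inf_le_left).hom.toAlgebra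
  obtain ⟨hO₁, ⟨e₁⟩⟩ := affine_pushout_gen p g hUS hU hUSX hT hUST
  let D₁ := (pullback p g).basicOpen (e₁ h₁)
  have hD₁O : D₁ ≤ O₁ := (pullback p g).basicOpen_le _
  have hD₁ : IsAffineOpen D₁ := hO₁.basicOpen (e₁ h₁)
  have hle₁ : D₁ ≤ g₁ ⁻¹ᵁ U := hD₁O.trans inf_le_left
  letI algL₁ : Algebra Γ(X, U) Γ(pullback p g, D₁) := (g₁.appLE U D₁ hle₁).hom.toAlgebra
  haveI : IsScalarTower Γ(X, U) Γ(pullback p g, O₁) Γ(pullback p g, D₁) := by
    refine IsScalarTower.of_algebraMap_eq' ?_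
    change (g₁.appLE U D₁ hle₁).hom =
      ((pullback p g).presheaf.map (homOfLE hD₁O).op).hom.comp
        ((pullback.fst p g).appLE U O₁ inf_le_left).hom
    rw [← CommRingCat.hom_comp, Scheme.Hom.appLE_map]
  haveI : IsLocalization.Away (e₁ h₁) Γ(pullback p g, D₁) := hO₁.isLocalization_basicOpen (e₁ h₁)
  have Hsep₁ : ∀ w : Γ(pullback p g, D₁) ⊗[Γ(X, U)] Γ(F, U),
      (∀ i, (SepH8.appLin (u i) U).baseChange Γ(pullback p g, D₁) w = 0) → w = 0 := by
    letI : Module Γ(X, U) Γ((Scheme.Modules.pullback g₁).obj F, D₁) :=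
      Module.compHom _ (g₁.appLE U D₁ hle₁).hom
    haveI : IsScalarTower Γ(X, U) Γ(pullback p g, D₁)
        Γ((Scheme.Modules.pullback g₁).obj F, D₁) :=
      IsScalarTower.of_algebraMap_smul fun _ _ => rfl
    letI : ∀ i, Module Γ(X, U) Γ((Scheme.Modules.pullback g₁).obj (G i), D₁) := fun i =>
      Module.compHom _ (g₁.appLE U D₁ hle₁).hom
    haveI : ∀ i, IsScalarTower Γ(X, U) Γ(pullback p g, D₁)
        Γ((Scheme.Modules.pullback g₁).obj (G i), D₁) :=
      fun i => IsScalarTower.of_algebraMap_smul fun _ _ => rfl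
    refine SepModNilp.sep_rev (A := Γ(X, U)) (B := Γ(pullback p g, D₁))
      (N := fun i => Γ(G i, U))
      (N' := fun i => Γ((Scheme.Modules.pullback g₁).obj (G i), D₁))
      (fun i => SepH8.appLin (u i) U) (PBH8.cUVLin g₁ F hle₁)
      (PBH8.isBaseChange_cUV g₁ F hle₁ hD₁ hU)
      (fun i => PBH8.cUVLin g₁ (G i) hle₁) (fun i => PBH8.isBaseChange_cUV g₁ (G i) hle₁ hD₁ hU)
      (fun i => SepH8.appLin ((Scheme.Modules.pullback g₁).map (u i)) D₁) ?_ ?_
    · intro i m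
      exact PBH8.cUV_naturality g₁ (u i) hle₁ m
    · intro m' hm'
      exact hsep D₁ m' hm'
  exact SepModLim.loc_transfer (R := Γ(X, U)) e₁ h₁ (fun i => Γ(G i, U))
    (fun i => SepH8.appLin (u i) U) Hsep₁ z₁ hz₁

theorem ps_field_of_fibres {X S : Scheme.{u}} (p : X ⟶ S) (F : X.Modules)
    [F.IsQuasicoherent] {ι : Type u} (G : ι → X.Modules) [∀ i, (G i).IsQuasicoherent]
    (u : ∀ i, F ⟶ G i)
    (hfib : ∀ s : S, ∀ (V : (p.fiber s).Opens)
      (t : Γ((Scheme.Modules.pullback (p.fiberι s)).obj F, V)),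
      (∀ i, ((Scheme.Modules.pullback (p.fiberι s)).map (u i)).app V t = 0) → t = 0)
    {US : S.Opens} (hUS : IsAffineOpen US) {U : X.Opens} (hU : IsAffineOpen U)
    (hUSX : U ≤ p ⁻¹ᵁ US) (K' : Type u) [Field K'] [Algebra Γ(S, US) K'] :
    letI : Algebra Γ(S, US) Γ(X, U) := (p.appLE US U hUSX).hom.toAlgebra
    PSepQ (Γ(X, U) ⊗[Γ(S, US)] K') (fun i => SepH8.appLin (u i) U) := by
  letI algAR : Algebra Γ(S, US) Γ(X, U) := (p.appLE US U hUSX).hom.toAlgebra
  let α : Γ(S, US) ⟶ CommRingCat.of K' := CommRingCat.ofHom (algebraMap Γ(S, US) K')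
  let f : Spec (CommRingCat.of K') ⟶ S := Spec.map α ≫ hUS.fromSpec
  let s : S := f (IsLocalRing.closedPoint K')
  let φ : S.residueField s ⟶ CommRingCat.of K' :=
    Scheme.descResidueField (Scheme.stalkClosedPointTo f)
  have hf : Spec.map φ ≫ S.fromSpecResidueField s = f :=
    Scheme.descResidueField_stalkClosedPointTo_fromSpecResidueField K' S f
  have hsUS : s ∈ US := by
    have h1 : s ∈ Set.range hUS.fromSpec := ⟨(Spec.map α) (IsLocalRing.closedPoint K'), rfl⟩
    rw [hUS.range_fromSpec] at h1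
    exact h1
  let gs := S.fromSpecResidueField s
  have hT'' : IsAffineOpen (⊤ : (Spec (S.residueField s)).Opens) := isAffineOpen_top _
  have hUST'' : (⊤ : (Spec (S.residueField s)).Opens) ≤ gs ⁻¹ᵁ US := by
    intro y _
    show gs y ∈ US
    rw [Scheme.fromSpecResidueField_apply]
    exact hsUS
  letI algAB : Algebra Γ(S, US) Γ(Spec (S.residueField s), ⊤) :=
    (gs.appLE US ⊤ hUST'').hom.toAlgebra
  have PS₀ : PSepQ (Γ(X, U) ⊗[Γ(S, US)] Γ(Spec (S.residueField s), ⊤))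
      (fun i => SepH8.appLin (u i) U) :=
    sch_ps p gs F G u (hfib s) hUS hU hUSX hT'' hUST''
  letI algK : Algebra Γ(S, US) (S.residueField s) :=
    (gs.appLE US ⊤ hUST'' ≫ (Scheme.ΓSpecIso (S.residueField s)).hom).hom.toAlgebra
  let e' : Γ(Spec (S.residueField s), ⊤) ≃ₐ[Γ(S, US)] (S.residueField s) :=
    AlgEquiv.ofRingEquiv (f := (Scheme.ΓSpecIso (S.residueField s)).commRingCatIsoToRingEquiv)
      (fun a => rfl)
  have PSK : PSepQ (Γ(X, U) ⊗[Γ(S, US)] (S.residueField s)) (fun i => SepH8.appLin (u i) U) :=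
    psepQ_of_equiv (Algebra.TensorProduct.congr
      (AlgEquiv.refl : Γ(X, U) ≃ₐ[Γ(X, U)] Γ(X, U)) e'.symm) _ PS₀
  have key : α = gs.appLE US ⊤ hUST'' ≫ (Scheme.ΓSpecIso (S.residueField s)).hom ≫ φ := by
    have h1 : Spec.map (gs.appLE US ⊤ hUST'') ≫ hUS.fromSpec =
        Spec.map (Scheme.ΓSpecIso (S.residueField s)).inv ≫ gs := by
      rw [IsAffineOpen.SpecMap_appLE_fromSpec gs hUS (isAffineOpen_top _) hUST'',
        IsAffineOpen.fromSpec_top, Scheme.isoSpec_Spec_inv]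
    rw [← Spec.map_inj, ← cancel_mono hUS.fromSpec]
    rw [Spec.map_comp, Spec.map_comp, Category.assoc, Category.assoc, h1,
      ← Spec.map_comp_assoc (Scheme.ΓSpecIso (S.residueField s)).inv, Iso.inv_hom_id,
      Spec.map_id, Category.id_comp]
    exact hf.symm
  letI algKK' : Algebra (S.residueField s) K' := φ.hom.toAlgebra
  haveI : IsScalarTower Γ(S, US) (S.residueField s) K' :=
    IsScalarTower.of_algebraMap_eq (fun a => congrArg (fun ψ => ψ.hom a) key)
  exact psepQ_field_ext (fun i => Γ(G i, U)) (fun i => SepH8.appLin (u i) U)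
    (S.residueField s) K' PSK

theorem main4910 {X S : Scheme.{u}} [IsLocallyNoetherian X] (p : X ⟶ S) (F : X.Modules)
    [F.IsQuasicoherent] [SheafOfModules.IsFiniteType (R := X.ringCatSheaf) F]
    {ι : Type u} (G : ι → X.Modules) [∀ i, (G i).IsQuasicoherent]
    (hG : ∀ i, FlatMod.IsFlatOver p (G i)) (u : ∀ i, F ⟶ G i)
    (hfib : ∀ s : S, ∀ (V : (p.fiber s).Opens)
      (t : Γ((Scheme.Modules.pullback (p.fiberι s)).obj F, V)),
      (∀ i, ((Scheme.Modules.pullback (p.fiberι s)).map (u i)).app V t = 0) → t = 0)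
    {S' : Scheme.{u}} (g : S' ⟶ S) (V' : (pullback p g).Opens)
    (t : Γ((Scheme.Modules.pullback (pullback.fst p g)).obj F, V'))
    (ht : ∀ i, ((Scheme.Modules.pullback (pullback.fst p g)).map (u i)).app V' t = 0) :
    t = 0 := by
  refine SepModField.separating_pullback_of_basis (pullback.fst p g) F G u V' ?_ t ht
  intro x hx
  obtain ⟨US, hUS, hsUS, -⟩ := Opens.isBasis_iff_nbhd.mp S.isBasis_affineOpens
    (Opens.mem_top (p ((pullback.fst p g) x)))
  obtain ⟨U, hU, hxU, hUSX⟩ := Opens.isBasis_iff_nbhd.mp X.isBasis_affineOpens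
    (show (pullback.fst p g) x ∈ p ⁻¹ᵁ US from hsUS)
  have hsUS' : (pullback.snd p g) x ∈ g ⁻¹ᵁ US := by
    show g ((pullback.snd p g) x) ∈ US
    rw [← Scheme.Hom.comp_apply, ← pullback.condition, Scheme.Hom.comp_apply]
    exact hsUS
  obtain ⟨T, hT, hxT, hUST⟩ := Opens.isBasis_iff_nbhd.mp S'.isBasis_affineOpens hsUS'
  let O : (pullback p g).Opens := pullback.fst p g ⁻¹ᵁ U ⊓ pullback.snd p g ⁻¹ᵁ T
  letI algAR : Algebra Γ(S, US) Γ(X, U) := (p.appLE US U hUSX).hom.toAlgebra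
  letI algAB : Algebra Γ(S, US) Γ(S', T) := (g.appLE US T hUST).hom.toAlgebra
  letI algP : Algebra Γ(X, U) Γ(pullback p g, O) :=
    ((pullback.fst p g).appLE U O inf_le_left).hom.toAlgebra
  obtain ⟨hO, ⟨e⟩⟩ := affine_pushout_gen p g hUS hU hUSX hT hUST
  have hxO : x ∈ O := ⟨hxU, hxT⟩
  obtain ⟨hh, hDle, hxD⟩ := hO.exists_basicOpen_le (V := O ⊓ V')
    ⟨x, (⟨hxO, hx⟩ : x ∈ O ⊓ V')⟩ hxO
  have hDO : (pullback p g).basicOpen hh ≤ O := hDle.trans inf_le_left
  have hDV : (pullback p g).basicOpen hh ≤ V' := hDle.trans inf_le_right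
  have hD : IsAffineOpen ((pullback p g).basicOpen hh) := hO.basicOpen hh
  have hle : (pullback p g).basicOpen hh ≤ pullback.fst p g ⁻¹ᵁ U := hDO.trans inf_le_left
  refine ⟨U, hU, (pullback p g).basicOpen hh, hD, hle, hxD, hDV, ?_⟩
  letI algAA'' : Algebra Γ(X, U) Γ(pullback p g, (pullback p g).basicOpen hh) :=
    ((pullback.fst p g).appLE U ((pullback p g).basicOpen hh) hle).hom.toAlgebra
  haveI : IsScalarTower Γ(X, U) Γ(pullback p g, O)
      Γ(pullback p g, (pullback p g).basicOpen hh) := by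
    refine IsScalarTower.of_algebraMap_eq' ?_
    change ((pullback.fst p g).appLE U ((pullback p g).basicOpen hh) hle).hom =
      ((pullback p g).presheaf.map (homOfLE hDO).op).hom.comp
        ((pullback.fst p g).appLE U O inf_le_left).hom
    rw [← CommRingCat.hom_comp, Scheme.Hom.appLE_map]
  haveI : IsLocalization.Away hh Γ(pullback p g, (pullback p g).basicOpen hh) :=
    hO.isLocalization_basicOpen hh
  -- module structures over the base
  letI mAF : Module Γ(S, US) Γ(F, U) := Module.compHom _ (algebraMap Γ(S, US) Γ(X, U))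
  haveI : IsScalarTower Γ(S, US) Γ(X, U) Γ(F, U) :=
    IsScalarTower.of_algebraMap_smul fun _ _ => rfl
  letI mAG : ∀ i, Module Γ(S, US) Γ(G i, U) := fun i =>
    Module.compHom _ (algebraMap Γ(S, US) Γ(X, U))
  haveI : ∀ i, IsScalarTower Γ(S, US) Γ(X, U) Γ(G i, U) :=
    fun i => IsScalarTower.of_algebraMap_smul fun _ _ => rfl
  haveI flatG : ∀ i, Module.Flat Γ(S, US) Γ(G i, U) := by
    intro i
    exact FlatSecH8.flat_sections_of_flat_stalks p (G i) hU hUSX (fun x hxU =>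
      (FlatSecH8.isFlatOverAt_iff_flat_stalk p (G i) hUS hUSX hxU).mp (hG i x))
  haveI : IsNoetherianRing Γ(X, U) := IsLocallyNoetherian.component_noetherian ⟨U, hU⟩
  haveI : Module.Finite Γ(X, U) Γ(F, U) := QCohFT.finite_of_isFiniteType F hU
  intro z hz
  refine SepModLim.limM_main0 (K := Γ(S, US)) (A := Γ(X, U)) (B := Γ(S', T)) e
    (fun i => Γ(G i, U)) (fun i => SepH8.appLin (u i) U) ?_ hh z hz
  intro B₁ _ _ b hb hft h₁ z₁ hz₁
  haveI := hft
  exact psepQ_of_fields (A₀ := Γ(S, US)) (R := Γ(X, U)) (fun i => Γ(G i, U))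
    (fun i => SepH8.appLin (u i) U)
    (fun K' _ _ => ps_field_of_fibres p F G u hfib hUS hU hUSX K') B₁ h₁ z₁ hz₁

end Sch

end Groth.Agent.Lib.SepModFib
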