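import Groth.Agent.Lib.SepModFib4_lead

/-! # Universally schematically dominant families: the fibrewise criterion (lead) -/

set_option backward.isDefEq.respectTransparency false
set_option backward.isDefEq.respectTransparency.types false
set_option linter.unusedSimpArgs false
set_option linter.unusedVariables false
set_option linter.unusedSectionVars false
set_option linter.style.longLine false
set_option linter.style.haveILetI false
set_option linter.unnecessarySimpa false
set_option maxHeartbeats 1600000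

universe u v

open CategoryTheory CategoryTheory.Limits AlgebraicGeometry Opposite TopologicalSpace TensorProduct

namespace Groth.Agent.Lib.SepModFib

open Groth.Agent.Lib.SepModField (rT_baseChange rT_smul)

section RingForm

variable {R : Type u} [CommRing R] (Q : Type u) [CommRing Q] [Algebra R Q]
  {Λ : Type v} (C : Λ → Type u) [∀ l, CommRing (C l)] [∀ l, Algebra R (C l)]

theorem ring_form_iff (l : Λ) (h τ : Q) (n : ℕ) :
    h ^ n • (Algebra.linearMap R (C l)).baseChange Q (τ ⊗ₜ[R] (1 : R)) = 0 ↔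
      (1 : C l) ⊗ₜ[R] (h ^ n * τ) = 0 := by
  have h1 : h ^ n • (Algebra.linearMap R (C l)).baseChange Q (τ ⊗ₜ[R] (1 : R)) =
      (h ^ n * τ) ⊗ₜ[R] (1 : C l) := by
    rw [LinearMap.baseChange_tmul, Algebra.linearMap_apply, map_one, TensorProduct.smul_tmul',
      smul_eq_mul]
  rw [h1]
  constructor
  · intro h0
    have := congrArg (TensorProduct.comm R Q (C l)) h0
    rwa [TensorProduct.comm_tmul, map_zero] at this
  · intro h0
    have := congrArg (TensorProduct.comm R (C l) Q) h0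
    rwa [TensorProduct.comm_tmul, map_zero] at this

theorem ring_of_psepQ (H : PSepQ Q (fun l => Algebra.linearMap R (C l))) (h τ : Q)
    (hyp : ∀ l, ∃ n : ℕ, (1 : C l) ⊗ₜ[R] (h ^ n * τ) = 0) : ∃ n : ℕ, h ^ n * τ = 0 := by
  obtain ⟨n, hn⟩ := H h (τ ⊗ₜ[R] (1 : R)) (fun l => by
    obtain ⟨n, hn⟩ := hyp l
    exact ⟨n, (ring_form_iff Q C l h τ n).mpr hn⟩)
  refine ⟨n, ?_⟩
  have := congrArg (TensorProduct.rid R Q) hn
  rwa [TensorProduct.smul_tmul', smul_eq_mul, TensorProduct.rid_tmul, one_smul, map_zero] at this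

theorem psepQ_of_ring
    (H : ∀ h τ : Q, (∀ l, ∃ n : ℕ, (1 : C l) ⊗ₜ[R] (h ^ n * τ) = 0) → ∃ n : ℕ, h ^ n * τ = 0) :
    PSepQ Q (fun l => Algebra.linearMap R (C l)) := by
  intro h z hz
  obtain ⟨τ, rfl⟩ : ∃ τ : Q, τ ⊗ₜ[R] (1 : R) = z :=
    ⟨TensorProduct.rid R Q z, by rw [← TensorProduct.rid_symm_apply, LinearEquiv.symm_apply_apply]⟩
  obtain ⟨n, hn⟩ := H h τ (fun l => by
    obtain ⟨n, hn⟩ := hz l
    exact ⟨n, (ring_form_iff Q C l h τ n).mp hn⟩)
  refine ⟨n, ?_⟩
  rw [TensorProduct.smul_tmul', smul_eq_mul, hn, TensorProduct.zero_tmul]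

end RingForm

section Lim

variable {K : Type u} [CommRing K] {A B : Type u} [CommRing A] [CommRing B] [Algebra K A]
  [Algebra K B] {P : Type u} [CommRing P] [Algebra A P]

theorem limM_psep (e : A ⊗[K] B ≃ₐ[A] P) {Λ : Type v} {M : Type u} [AddCommGroup M] [Module A M]
    (N : Λ → Type u)
    [∀ l, AddCommGroup (N l)] [∀ l, Module A (N l)] [∀ l, Module K (N l)]
    [∀ l, IsScalarTower K A (N l)] [∀ l, Module.Flat K (N l)] (v : ∀ l, M →ₗ[A] N l)
    (Hfg : ∀ (B₁ : Type u) [CommRing B₁] [Algebra K B₁] (b : B₁ →ₐ[K] B), Function.Injective b →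
      Algebra.FiniteType K B₁ → PSepQ (A ⊗[K] B₁) v) : PSepQ P v := by
  intro hh z₀ h2
  obtain ⟨B₁, hfg, ⟨h₁, hh₁⟩, ⟨z₁, hz₁⟩⟩ := SepModLim.exists_fgM e M hh z₀
  obtain ⟨n, hn'⟩ := Hfg ↥B₁ B₁.val Subtype.val_injective
    ((Subalgebra.fg_iff_finiteType B₁).mp hfg) h₁ z₁ (by
      intro l
      obtain ⟨n, hn⟩ := h2 l
      refine ⟨n, ?_⟩
      apply SepModLim.jjM_injective e B₁ (N l)
      show (SepModLim.jj e B₁).toLinearMap.rTensor (N l)
          (h₁ ^ n • (v l).baseChange (A ⊗[K] B₁) z₁) =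
        (SepModLim.jj e B₁).toLinearMap.rTensor (N l) 0
      rw [rT_smul, map_pow, hh₁, ← rT_baseChange, hz₁, hn, map_zero])
  refine ⟨n, ?_⟩
  have := congrArg ((SepModLim.jj e B₁).toLinearMap.rTensor M) hn'
  rw [rT_smul, map_pow, hh₁, hz₁, map_zero] at this
  exact this

end Lim

section Points

theorem top_le_preimage {S : Scheme.{u}} {US : S.Opens} {s : S} (hs : s ∈ US) :
    (⊤ : (Spec (S.residueField s)).Opens) ≤ (S.fromSpecResidueField s) ⁻¹ᵁ US := by
  intro y _
  show (S.fromSpecResidueField s) y ∈ US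
  rw [Scheme.fromSpecResidueField_apply]
  exact hs

theorem ps_field_of_points {S : Scheme.{u}} {US : S.Opens} (hUS : IsAffineOpen US)
    {R : Type u} [CommRing R] [Algebra Γ(S, US) R] {M : Type u} [AddCommGroup M] [Module R M]
    {Λ : Type v} (N : Λ → Type u) [∀ l, AddCommGroup (N l)] [∀ l, Module R (N l)]
    (v : ∀ l, M →ₗ[R] N l)
    (Hpt : ∀ (s : S) (hs : s ∈ US),
      letI : Algebra Γ(S, US) Γ(Spec (S.residueField s), ⊤) :=
        ((S.fromSpecResidueField s).appLE US ⊤ (top_le_preimage hs)).hom.toAlgebra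
      PSepQ (R ⊗[Γ(S, US)] Γ(Spec (S.residueField s), ⊤)) v)
    (K' : Type u) [Field K'] [Algebra Γ(S, US) K'] : PSepQ (R ⊗[Γ(S, US)] K') v := by
  let α : Γ(S, US) ⟶ CommRingCat.of K' := CommRingCat.ofHom (algebraMap Γ(S, US) K')
  let f : Spec (CommRingCat.of K') ⟶ S := Spec.map α ≫ hUS.fromSpec
  let s : S := f (IsLocalRing.closedPoint K')
  let φ : S.residueField s ⟶ CommRingCat.of K' :=
    Scheme.descResidueField (Scheme.stalkClosedPointTo f)
  have hf : Spec.map φ ≫ S.fromSpecResidueField s = f :=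
    Scheme.descResidueField_stalkClosedPointTo_fromSpecResidueField K' S f
  have hsUS : s ∈ US := by
    have h1 : s ∈ Set.range hUS.fromSpec := ⟨(Spec.map α) (IsLocalRing.closedPoint K'), rfl⟩
    rw [hUS.range_fromSpec] at h1
    exact h1
  let gs := S.fromSpecResidueField s
  have hUST'' : (⊤ : (Spec (S.residueField s)).Opens) ≤ gs ⁻¹ᵁ US := top_le_preimage hsUS
  letI algAB : Algebra Γ(S, US) Γ(Spec (S.residueField s), ⊤) :=
    (gs.appLE US ⊤ hUST'').hom.toAlgebra
  have PS₀ : PSepQ (R ⊗[Γ(S, US)] Γ(Spec (S.residueField s), ⊤)) v := Hpt s hsUS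
  letI algK : Algebra Γ(S, US) (S.residueField s) :=
    (gs.appLE US ⊤ hUST'' ≫ (Scheme.ΓSpecIso (S.residueField s)).hom).hom.toAlgebra
  let e' : Γ(Spec (S.residueField s), ⊤) ≃ₐ[Γ(S, US)] (S.residueField s) :=
    AlgEquiv.ofRingEquiv (f := (Scheme.ΓSpecIso (S.residueField s)).commRingCatIsoToRingEquiv)
      (fun a => rfl)
  have PSK : PSepQ (R ⊗[Γ(S, US)] (S.residueField s)) v :=
    psepQ_of_equiv (Algebra.TensorProduct.congr (AlgEquiv.refl : R ≃ₐ[R] R) e'.symm) _ PS₀
  have key : α = gs.appLE US ⊤ hUST'' ≫ (Scheme.ΓSpecIso (S.residueField s)).hom ≫ φ := by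
    have h1 : Spec.map (gs.appLE US ⊤ hUST'') ≫ hUS.fromSpec =
        Spec.map (Scheme.ΓSpecIso (S.residueField s)).inv ≫ gs := by
      rw [IsAffineOpen.SpecMap_appLE_fromSpec gs hUS (isAffineOpen_top _) hUST'',
        IsAffineOpen.fromSpec_top, Scheme.isoSpec_Spec_inv]
    rw [← Spec.map_inj, ← cancel_mono hUS.fromSpec]
    rw [Spec.map_comp, Spec.map_comp, Category.assoc, Category.assoc, h1,
      ← Spec.map_comp_assoc (Scheme.ΓSpecIso (S.residueField s)).inv, Iso.inv_hom_id,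
      Spec.map_id, Category.id_comp]
    exact hf.symm
  letI algKK' : Algebra (S.residueField s) K' := φ.hom.toAlgebra
  haveI : IsScalarTower Γ(S, US) (S.residueField s) K' :=
    IsScalarTower.of_algebraMap_eq (fun a => congrArg (fun ψ => ψ.hom a) key)
  exact psepQ_field_ext N v (S.residueField s) K' PSK

end Points

end Groth.Agent.Lib.SepModFib
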