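import Groth.Agent.Lib.SepModFib5_lead

/-! # Universally schematically dominant families: the fibrewise criterion, scheme level (lead) -/

set_option backward.isDefEq.respectTransparency false
set_option backward.isDefEq.respectTransparency.types false
set_option linter.unusedSimpArgs false
set_option linter.unusedVariables false
set_option linter.unusedSectionVars false
set_option linter.style.longLine false
set_option linter.style.haveILetI false
set_option linter.unnecessarySimpa false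
set_option maxHeartbeats 1600000

universe u v

open CategoryTheory CategoryTheory.Limits AlgebraicGeometry Opposite TopologicalSpace TensorProduct

namespace Groth.Agent.Lib.SepModFib

section Gen

theorem alg_of_sch_vanish {Y Y' : Scheme.{u}} (γ : Y' ⟶ Y) {O : Y.Opens} {Ol : Y'.Opens}
    (hOl : IsAffineOpen Ol) (hOlO : Ol ≤ γ ⁻¹ᵁ O) {V : Y.Opens} (t : Γ(Y, V))
    (ht : γ.app V t = 0) (hh τ : Γ(Y, O)) (hDO : Y.basicOpen hh ≤ O) (hDV : Y.basicOpen hh ≤ V)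
    (n : ℕ)
    (hτ' : Y.presheaf.map (homOfLE hDO).op τ =
      (Y.presheaf.map (homOfLE hDO).op hh) ^ n * Y.presheaf.map (homOfLE hDV).op t) :
    ∃ n' : ℕ, γ.appLE O Ol hOlO (hh ^ n' * τ) = 0 := by
  let φ : Γ(Y, O) →+* Γ(Y', Ol) := (γ.appLE O Ol hOlO).hom
  have hφ : φ hh = Y'.presheaf.map (homOfLE hOlO).op (γ.app O hh) := rfl
  have hD'D : Y'.basicOpen (φ hh) ≤ γ ⁻¹ᵁ (Y.basicOpen hh) := by
    rw [Scheme.preimage_basicOpen, hφ, Scheme.basicOpen_res]
    exact inf_le_right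
  have hD'Ol : Y'.basicOpen (φ hh) ≤ Ol := Y'.basicOpen_le _
  obtain ⟨n', hn'⟩ : ∃ n' : ℕ, φ hh ^ n' * φ τ = 0 := by
    apply exists_pow_mul_eq_zero_of_res_basicOpen_eq_zero_of_isAffineOpen _ hOl (φ τ) (φ hh)
    show Y'.presheaf.map (homOfLE hD'Ol).op (φ τ) = 0
    have e1 : γ.appLE O Ol hOlO ≫ Y'.presheaf.map (homOfLE hD'Ol).op =
        γ.appLE O (Y'.basicOpen (φ hh)) (hD'Ol.trans hOlO) := γ.appLE_map _ _
    have e2 : Y.presheaf.map (homOfLE hDO).op ≫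
        γ.appLE (Y.basicOpen hh) (Y'.basicOpen (φ hh)) hD'D =
        γ.appLE O (Y'.basicOpen (φ hh)) (hD'Ol.trans hOlO) :=
      γ.map_appLE hD'D (homOfLE hDO).op
    have e3 : Y.presheaf.map (homOfLE hDV).op ≫
        γ.appLE (Y.basicOpen hh) (Y'.basicOpen (φ hh)) hD'D =
        γ.appLE V (Y'.basicOpen (φ hh))
          (hD'D.trans ((Opens.map γ.base).map (homOfLE hDV)).le) :=
      γ.map_appLE hD'D (homOfLE hDV).op
    have s1 : Y'.presheaf.map (homOfLE hD'Ol).op (φ τ) =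
        γ.appLE (Y.basicOpen hh) (Y'.basicOpen (φ hh)) hD'D
          (Y.presheaf.map (homOfLE hDO).op τ) := by
      have a1 := congrArg (fun ψ => ψ.hom τ) e1
      have a2 := congrArg (fun ψ => ψ.hom τ) e2
      exact a1.trans a2.symm
    have s2 : γ.appLE (Y.basicOpen hh) (Y'.basicOpen (φ hh)) hD'D
        (Y.presheaf.map (homOfLE hDV).op t) = 0 := by
      have a3 := congrArg (fun ψ => ψ.hom t) e3
      refine a3.trans ?_
      show (γ.app V ≫ Y'.presheaf.map _).hom t = 0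
      rw [CommRingCat.hom_comp, RingHom.comp_apply]
      rw [show (CommRingCat.Hom.hom (γ.app V)) t = 0 from ht, map_zero]
    rw [s1, hτ', map_mul, s2, mul_zero]
  refine ⟨n', ?_⟩
  show φ (hh ^ n' * τ) = 0
  rw [map_mul, map_pow]
  exact hn'

end Gen

section Dom

variable {X S S' : Scheme.{u}} (p : X ⟶ S) (g : S' ⟶ S)

/-- the base change of `fi : Zi ⟶ X` along `g`. -/
noncomputable abbrev bcMap {Zi : Scheme.{u}} (fi : Zi ⟶ X) :
    pullback (fi ≫ p) g ⟶ pullback p g :=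
  pullback.map (fi ≫ p) g p g fi (𝟙 S') (𝟙 S) (Category.comp_id _)
    ((Category.comp_id _).trans (Category.id_comp _).symm)

theorem dom_bridge {Zi : Scheme.{u}} (fi : Zi ⟶ X) {U : X.Opens} (hU : IsAffineOpen U)
    {O : (pullback p g).Opens} (hO : IsAffineOpen O) (hOU : O ≤ pullback.fst p g ⁻¹ᵁ U)
    {W : Zi.Opens} (hW : IsAffineOpen W) (hle : W ≤ fi ⁻¹ᵁ U) :
    IsAffineOpen (pullback.fst (fi ≫ p) g ⁻¹ᵁ W ⊓ bcMap p g fi ⁻¹ᵁ O) ∧
    (letI : Algebra Γ(X, U) Γ(Zi, W) := (fi.appLE U W hle).hom.toAlgebra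
     letI : Algebra Γ(X, U) Γ(pullback p g, O) :=
       ((pullback.fst p g).appLE U O hOU).hom.toAlgebra
     ∀ z : Γ(pullback p g, O), (1 : Γ(Zi, W)) ⊗ₜ[Γ(X, U)] z = 0 ↔
       (bcMap p g fi).appLE O (pullback.fst (fi ≫ p) g ⁻¹ᵁ W ⊓ bcMap p g fi ⁻¹ᵁ O)
         inf_le_right z = 0) := by
  let gi := bcMap p g fi
  let Ol : (pullback (fi ≫ p) g).Opens := pullback.fst (fi ≫ p) g ⁻¹ᵁ W ⊓ gi ⁻¹ᵁ O
  have H : IsPullback (pullback.fst p g) (pullback.snd p g) p g := IsPullback.of_hasPullback _ _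
  have hg1 : gi ≫ pullback.fst p g = pullback.fst (fi ≫ p) g ≫ fi := pullback.lift_fst _ _ _
  have hg2 : gi ≫ pullback.snd p g = pullback.snd (fi ≫ p) g :=
    (pullback.lift_snd _ _ _).trans (Category.comp_id _)
  have Hi : IsPullback (pullback.fst (fi ≫ p) g) (gi ≫ pullback.snd p g) (fi ≫ p) g := by
    rw [hg2]; exact IsPullback.of_hasPullback _ _
  have H' : IsPullback (pullback.fst (fi ≫ p) g) gi fi (pullback.fst p g) :=
    IsPullback.of_bot Hi hg1.symm H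
  have hOl : IsAffineOpen Ol := by
    haveI : IsAffine (U : Scheme) := hU
    haveI : IsAffine (O : Scheme) := hO
    haveI : IsAffine (W : Scheme) := hW
    exact IsAffine.of_isIso (Scheme.Hom.isPullback_resLE H' hOU hle rfl).isoPullback.hom
  refine ⟨hOl, ?_⟩
  letI algCW : Algebra Γ(X, U) Γ(Zi, W) := (fi.appLE U W hle).hom.toAlgebra
  letI algP : Algebra Γ(X, U) Γ(pullback p g, O) :=
    ((pullback.fst p g).appLE U O hOU).hom.toAlgebra
  have hisoL := isIso_pushoutSection_of_isAffineOpen H' hOU hle rfl hU hO hW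
  have hPOl := (isIso_pushoutSection_iff H' hOU hle rfl).mp hisoL
  have hTl := CommRingCat.isPushout_tensorProduct Γ(X, U) Γ(Zi, W) Γ(pullback p g, O)
  have hPOl' : IsPushout (CommRingCat.ofHom (algebraMap Γ(X, U) Γ(Zi, W)))
      (CommRingCat.ofHom (algebraMap Γ(X, U) Γ(pullback p g, O)))
      ((pullback.fst (fi ≫ p) g).appLE W Ol inf_le_left) (gi.appLE O Ol inf_le_right) := hPOl
  let el := hTl.isoIsPushout _ _ hPOl'
  have hinj : Function.Injective el.hom := (ConcreteCategory.bijective_of_isIso el.hom).1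
  have hel : ∀ z : Γ(pullback p g, O),
      el.hom ((1 : Γ(Zi, W)) ⊗ₜ[Γ(X, U)] z) = (gi.appLE O Ol inf_le_right).hom z := by
    intro z
    have e1 := hTl.inr_isoIsPushout_hom _ _ hPOl'
    exact congrArg (fun ψ => ψ.hom z) e1
  intro z
  constructor
  · intro h0
    have := hel z
    rw [h0, map_zero] at this
    exact this.symm
  · intro h0
    apply hinj
    rw [map_zero]
    exact (hel z).trans h0

theorem dom_sch_of_alg {ι : Type u} (Z : ι → Scheme.{u}) (f : ∀ i, Z i ⟶ X)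
    (hsep : ∀ (V : (pullback p g).Opens) (t : Γ(pullback p g, V)),
      (∀ i, (bcMap p g (f i)).app V t = 0) → t = 0)
    {U : X.Opens} {O : (pullback p g).Opens} (hO : IsAffineOpen O)
    (hOU : O ≤ pullback.fst p g ⁻¹ᵁ U) (h₁ τ : Γ(pullback p g, O))
    (hyp : ∀ (i : ι) (W : (Z i).Opens), IsAffineOpen W → W ≤ f i ⁻¹ᵁ U →
      ∃ n : ℕ, (bcMap p g (f i)).appLE O
        (pullback.fst (f i ≫ p) g ⁻¹ᵁ W ⊓ bcMap p g (f i) ⁻¹ᵁ O) inf_le_right (h₁ ^ n * τ) = 0) :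
    ∃ n : ℕ, h₁ ^ n * τ = 0 := by
  apply exists_pow_mul_eq_zero_of_res_basicOpen_eq_zero_of_isAffineOpen (pullback p g) hO τ h₁
  have hDO : (pullback p g).basicOpen h₁ ≤ O := (pullback p g).basicOpen_le h₁
  show (pullback p g).presheaf.map (homOfLE hDO).op τ = 0
  apply hsep ((pullback p g).basicOpen h₁)
  intro i
  let γ := bcMap p g (f i)
  have hg1 : γ ≫ pullback.fst p g = pullback.fst (f i ≫ p) g ≫ f i := pullback.lift_fst _ _ _
  refine (pullback (f i ≫ p) g).IsSheaf.section_ext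
    (U := op (γ ⁻¹ᵁ (pullback p g).basicOpen h₁)) ?_
  intro z hz
  have hzO : γ z ∈ O := hDO hz
  have hzU : (pullback.fst (f i ≫ p) g) z ∈ f i ⁻¹ᵁ U := by
    show (f i) ((pullback.fst (f i ≫ p) g) z) ∈ U
    rw [← Scheme.Hom.comp_apply, ← hg1, Scheme.Hom.comp_apply]
    exact hOU hzO
  obtain ⟨W, hW, hzW, hWle⟩ := Opens.isBasis_iff_nbhd.mp (Z i).isBasis_affineOpens hzU
  obtain ⟨n, hn⟩ := hyp i W hW hWle
  let Ol : (pullback (f i ≫ p) g).Opens := pullback.fst (f i ≫ p) g ⁻¹ᵁ W ⊓ γ ⁻¹ᵁ O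
  let φ : Γ(pullback p g, O) →+* Γ(pullback (f i ≫ p) g, Ol) := (γ.appLE O Ol inf_le_right).hom
  have hφ : φ h₁ = (pullback (f i ≫ p) g).presheaf.map
      (homOfLE (inf_le_right : Ol ≤ γ ⁻¹ᵁ O)).op (γ.app O h₁) := rfl
  have hD'eq : (pullback (f i ≫ p) g).basicOpen (φ h₁) =
      Ol ⊓ γ ⁻¹ᵁ ((pullback p g).basicOpen h₁) := by
    rw [Scheme.preimage_basicOpen, hφ, Scheme.basicOpen_res]
  have hD'D : (pullback (f i ≫ p) g).basicOpen (φ h₁) ≤ γ ⁻¹ᵁ ((pullback p g).basicOpen h₁) := by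
    rw [hD'eq]; exact inf_le_right
  have hD'Ol : (pullback (f i ≫ p) g).basicOpen (φ h₁) ≤ Ol :=
    (pullback (f i ≫ p) g).basicOpen_le _
  have hzD' : z ∈ (pullback (f i ≫ p) g).basicOpen (φ h₁) := by
    rw [hD'eq]; exact ⟨⟨hzW, hzO⟩, hz⟩
  refine ⟨(pullback (f i ≫ p) g).basicOpen (φ h₁), hD'D, hzD', ?_⟩
  rw [map_zero]
  have e1 : γ.appLE O Ol inf_le_right ≫
      (pullback (f i ≫ p) g).presheaf.map (homOfLE hD'Ol).op =
      γ.appLE O ((pullback (f i ≫ p) g).basicOpen (φ h₁)) (hD'Ol.trans inf_le_right) :=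
    γ.appLE_map _ _
  have e2 : (pullback p g).presheaf.map (homOfLE hDO).op ≫
      γ.appLE ((pullback p g).basicOpen h₁) ((pullback (f i ≫ p) g).basicOpen (φ h₁)) hD'D =
      γ.appLE O ((pullback (f i ≫ p) g).basicOpen (φ h₁)) (hD'Ol.trans inf_le_right) :=
    γ.map_appLE hD'D (homOfLE hDO).op
  have s1 : (pullback (f i ≫ p) g).presheaf.map (homOfLE hD'Ol).op (φ τ) =
      γ.appLE ((pullback p g).basicOpen h₁) ((pullback (f i ≫ p) g).basicOpen (φ h₁)) hD'D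
        ((pullback p g).presheaf.map (homOfLE hDO).op τ) := by
    have a1 := congrArg (fun ψ => ψ.hom τ) e1
    have a2 := congrArg (fun ψ => ψ.hom τ) e2
    exact a1.trans a2.symm
  have hu : IsUnit ((pullback (f i ≫ p) g).presheaf.map (homOfLE hD'Ol).op (φ h₁)) :=
    (pullback (f i ≫ p) g).toRingedSpace.isUnit_res_basicOpen (φ h₁)
  have hn' : φ h₁ ^ n * φ τ = 0 := by
    rw [← map_pow, ← map_mul]; exact hn
  have s2 : (pullback (f i ≫ p) g).presheaf.map (homOfLE hD'Ol).op (φ τ) = 0 := by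
    have h3 : ((pullback (f i ≫ p) g).presheaf.map (homOfLE hD'Ol).op).hom (φ h₁ ^ n * φ τ) = 0 := by
      rw [hn', map_zero]
    rw [map_mul, map_pow] at h3
    exact ((hu.pow n).mul_right_eq_zero).mp h3
  exact s1.symm.trans s2

theorem dom_sch_ps {ι : Type u} (Z : ι → Scheme.{u}) (f : ∀ i, Z i ⟶ X)
    (hsep : ∀ (V : (pullback p g).Opens) (t : Γ(pullback p g, V)),
      (∀ i, (bcMap p g (f i)).app V t = 0) → t = 0)
    {US : S.Opens} (hUS : IsAffineOpen US) {U : X.Opens} (hU : IsAffineOpen U)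
    (hUSX : U ≤ p ⁻¹ᵁ US) {T : S'.Opens} (hT : IsAffineOpen T) (hUST : T ≤ g ⁻¹ᵁ US) :
    letI : Algebra Γ(S, US) Γ(X, U) := (p.appLE US U hUSX).hom.toAlgebra
    letI : Algebra Γ(S, US) Γ(S', T) := (g.appLE US T hUST).hom.toAlgebra
    letI : ∀ l : (Σ i : ι, {W : (Z i).Opens // IsAffineOpen W ∧ W ≤ (f i) ⁻¹ᵁ U}),
        Algebra Γ(X, U) Γ(Z l.1, l.2.1) :=
      fun l => ((f l.1).appLE U l.2.1 l.2.2.2).hom.toAlgebra
    PSepQ (Γ(X, U) ⊗[Γ(S, US)] Γ(S', T))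
      (fun l : (Σ i : ι, {W : (Z i).Opens // IsAffineOpen W ∧ W ≤ (f i) ⁻¹ᵁ U}) =>
        Algebra.linearMap Γ(X, U) Γ(Z l.1, l.2.1)) := by
  letI algAR : Algebra Γ(S, US) Γ(X, U) := (p.appLE US U hUSX).hom.toAlgebra
  letI algAB : Algebra Γ(S, US) Γ(S', T) := (g.appLE US T hUST).hom.toAlgebra
  let Λ := Σ i : ι, {W : (Z i).Opens // IsAffineOpen W ∧ W ≤ (f i) ⁻¹ᵁ U}
  let C : Λ → Type u := fun l => Γ(Z l.1, l.2.1)
  letI instC : ∀ l : Λ, CommRing (C l) := fun l => inferInstance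
  letI algC : ∀ l : Λ, Algebra Γ(X, U) (C l) :=
    fun l => ((f l.1).appLE U l.2.1 l.2.2.2).hom.toAlgebra
  let O : (pullback p g).Opens := pullback.fst p g ⁻¹ᵁ U ⊓ pullback.snd p g ⁻¹ᵁ T
  letI algP : Algebra Γ(X, U) Γ(pullback p g, O) :=
    ((pullback.fst p g).appLE U O inf_le_left).hom.toAlgebra
  obtain ⟨hO, ⟨e⟩⟩ := affine_pushout_gen p g hUS hU hUSX hT hUST
  refine psepQ_of_equiv e (fun l : Λ => Algebra.linearMap Γ(X, U) (C l)) ?_
  refine psepQ_of_ring Γ(pullback p g, O) C ?_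
  intro h₁ τ hyp
  refine dom_sch_of_alg p g Z f hsep hO inf_le_left h₁ τ ?_
  intro i W hW hle
  obtain ⟨n, hn⟩ := hyp ⟨i, W, hW, hle⟩
  refine ⟨n, ?_⟩
  exact ((dom_bridge p g (f i) hU hO inf_le_left hW hle).2 (h₁ ^ n * τ)).mp hn

end Dom

end Groth.Agent.Lib.SepModFib
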