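import Groth.Agent.Lib.SepModFib6_lead
import Groth.Statements.S4876

/-! # Universally schematically dominant families: the fibrewise criterion, main theorem (lead) -/

set_option backward.isDefEq.respectTransparency false
set_option backward.isDefEq.respectTransparency.types false
set_option linter.unusedSimpArgs false
set_option linter.unusedVariables false
set_option linter.unusedSectionVars false
set_option linter.style.longLine false
set_option linter.style.haveILetI false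
set_option linter.unnecessarySimpa false
set_option maxHeartbeats 1600000

universe u v

open CategoryTheory CategoryTheory.Limits AlgebraicGeometry Opposite TopologicalSpace TensorProduct

namespace Groth.Agent.Lib.SepModFib

theorem fiberMap_eq_bcMap {X S Zi : Scheme.{u}} (fi : Zi ⟶ X) (p : X ⟶ S) (s : S) :
    MoreMor.fiberMap fi p s = bcMap p (S.fromSpecResidueField s) fi := by
  apply pullback.hom_ext
  · simp [MoreMor.fiberMap, bcMap, Scheme.Hom.fiberι]
  · simp [MoreMor.fiberMap, bcMap, Scheme.Hom.fiberToSpecResidueField]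

theorem main4876 {X S : Scheme.{u}} [IsLocallyNoetherian X] (p : X ⟶ S) {ι : Type u}
    (Z : ι → Scheme.{u}) (f : ∀ i, Z i ⟶ X) [∀ i, Flat (f i ≫ p)]
    (hfib : ∀ s : S, ∀ (V : (pullback p (S.fromSpecResidueField s)).Opens)
      (t : Γ(pullback p (S.fromSpecResidueField s), V)),
      (∀ i, (bcMap p (S.fromSpecResidueField s) (f i)).app V t = 0) → t = 0)
    {S' : Scheme.{u}} (g : S' ⟶ S) (V : (pullback p g).Opens) (t : Γ(pullback p g, V))
    (ht : ∀ i, (bcMap p g (f i)).app V t = 0) : t = 0 := by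
  refine (pullback p g).IsSheaf.section_ext (U := op V) ?_
  intro x hx
  obtain ⟨US, hUS, hsUS, -⟩ := Opens.isBasis_iff_nbhd.mp S.isBasis_affineOpens
    (Opens.mem_top (p ((pullback.fst p g) x)))
  obtain ⟨U, hU, hxU, hUSX⟩ := Opens.isBasis_iff_nbhd.mp X.isBasis_affineOpens
    (show (pullback.fst p g) x ∈ p ⁻¹ᵁ US from hsUS)
  have hsUS' : (pullback.snd p g) x ∈ g ⁻¹ᵁ US := by
    show g ((pullback.snd p g) x) ∈ US
    rw [← Scheme.Hom.comp_apply, ← pullback.condition, Scheme.Hom.comp_apply]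
    exact hsUS
  obtain ⟨T, hT, hxT, hUST⟩ := Opens.isBasis_iff_nbhd.mp S'.isBasis_affineOpens hsUS'
  let O : (pullback p g).Opens := pullback.fst p g ⁻¹ᵁ U ⊓ pullback.snd p g ⁻¹ᵁ T
  letI algAR : Algebra Γ(S, US) Γ(X, U) := (p.appLE US U hUSX).hom.toAlgebra
  letI algAB : Algebra Γ(S, US) Γ(S', T) := (g.appLE US T hUST).hom.toAlgebra
  letI algP : Algebra Γ(X, U) Γ(pullback p g, O) :=
    ((pullback.fst p g).appLE U O inf_le_left).hom.toAlgebra
  obtain ⟨hO, ⟨e⟩⟩ := affine_pushout_gen p g hUS hU hUSX hT hUST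
  have hxO : x ∈ O := ⟨hxU, hxT⟩
  obtain ⟨hh, hDle, hxD⟩ := hO.exists_basicOpen_le (V := O ⊓ V)
    ⟨x, (⟨hxO, hx⟩ : x ∈ O ⊓ V)⟩ hxO
  have hDO : (pullback p g).basicOpen hh ≤ O := hDle.trans inf_le_left
  have hDV : (pullback p g).basicOpen hh ≤ V := hDle.trans inf_le_right
  refine ⟨(pullback p g).basicOpen hh, hDV, hxD, ?_⟩
  rw [map_zero]
  obtain ⟨n, τ, hτ⟩ := exists_eq_pow_mul_of_isAffineOpen (pullback p g) O hO hh
    ((pullback p g).presheaf.map (homOfLE hDV).op t)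
  have hτ' : (pullback p g).presheaf.map (homOfLE hDO).op τ =
      ((pullback p g).presheaf.map (homOfLE hDO).op hh) ^ n *
        (pullback p g).presheaf.map (homOfLE hDV).op t := hτ
  have hunit : IsUnit ((pullback p g).presheaf.map (homOfLE hDO).op hh) :=
    (pullback p g).toRingedSpace.isUnit_res_basicOpen hh
  let Λ := Σ i : ι, {W : (Z i).Opens // IsAffineOpen W ∧ W ≤ (f i) ⁻¹ᵁ U}
  let C : Λ → Type u := fun l => Γ(Z l.1, l.2.1)
  letI instC : ∀ l : Λ, CommRing (C l) := fun l => inferInstance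
  letI algC : ∀ l : Λ, Algebra Γ(X, U) (C l) :=
    fun l => ((f l.1).appLE U l.2.1 l.2.2.2).hom.toAlgebra
  have hle₀ : ∀ l : Λ, l.2.1 ≤ (f l.1 ≫ p) ⁻¹ᵁ US := fun l z hz => hUSX (l.2.2.2 hz)
  letI algA₀C : ∀ l : Λ, Algebra Γ(S, US) (C l) :=
    fun l => ((f l.1 ≫ p).appLE US l.2.1 (hle₀ l)).hom.toAlgebra
  haveI towC : ∀ l : Λ, IsScalarTower Γ(S, US) Γ(X, U) (C l) := fun l =>
    IsScalarTower.of_algebraMap_eq (fun a => congrArg (fun ψ => ψ.hom a)
      (Scheme.Hom.appLE_comp_appLE (f l.1) p US U l.2.1 hUSX l.2.2.2).symm)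
  haveI flatC : ∀ l : Λ, Module.Flat Γ(S, US) (C l) := fun l =>
    HasRingHomProperty.appLE (P := @Flat) (f l.1 ≫ p) inferInstance ⟨US, hUS⟩
      ⟨l.2.1, l.2.2.1⟩ (hle₀ l)
  haveI : IsNoetherianRing Γ(X, U) := IsLocallyNoetherian.component_noetherian ⟨U, hU⟩
  let vfam : ∀ l : Λ, Γ(X, U) →ₗ[Γ(X, U)] C l := fun l => Algebra.linearMap Γ(X, U) (C l)
  have HF : ∀ (K' : Type u) [Field K'] [Algebra Γ(S, US) K'],
      PSepQ (Γ(X, U) ⊗[Γ(S, US)] K') vfam := by
    intro K' _ _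
    refine ps_field_of_points hUS C vfam ?_ K'
    intro s hs
    exact dom_sch_ps p (S.fromSpecResidueField s) Z f (hfib s) hUS hU hUSX
      (isAffineOpen_top _) (top_le_preimage hs)
  have PSP : PSepQ Γ(pullback p g, O) vfam :=
    limM_psep e C vfam (fun B₁ _ _ b hb hft => by
      haveI := hft
      exact psepQ_of_fields C vfam HF B₁)
  suffices hyp : ∀ l : Λ, ∃ n' : ℕ, (1 : C l) ⊗ₜ[Γ(X, U)] (hh ^ n' * τ) = 0 by
    obtain ⟨m, hm⟩ := ring_of_psepQ Γ(pullback p g, O) C PSP hh τ hyp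
    have h1 : ((pullback p g).presheaf.map (homOfLE hDO).op) (hh ^ m * τ) = 0 := by
      rw [hm, map_zero]
    rw [map_mul, map_pow, hτ'] at h1
    have h2 := ((hunit.pow m).mul_right_eq_zero).mp h1
    exact ((hunit.pow n).mul_right_eq_zero).mp h2
  rintro ⟨i, W, hW, hle⟩
  obtain ⟨hOl, hbr⟩ := dom_bridge p g (f i) hU hO inf_le_left hW hle
  obtain ⟨n', hn'⟩ := alg_of_sch_vanish (bcMap p g (f i)) hOl inf_le_right t (ht i) hh τ
    hDO hDV n hτ'
  exact ⟨n', (hbr (hh ^ n' * τ)).mpr hn'⟩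

end Groth.Agent.Lib.SepModFib
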