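import Groth.Agent.Lib.SepModLim_lead
import Groth.Agent.Lib.GenFreeG_helper8

/-! # Separating families of module homomorphisms: the fibrewise criterion (lead) -/

set_option backward.isDefEq.respectTransparency false
set_option backward.isDefEq.respectTransparency.types false
set_option linter.unusedSimpArgs false
set_option linter.unusedVariables false
set_option linter.unusedSectionVars false
set_option linter.style.longLine false
set_option linter.style.haveILetI false
set_option linter.unnecessarySimpa false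
set_option maxHeartbeats 800000

universe u v

open CategoryTheory CategoryTheory.Limits AlgebraicGeometry Opposite TopologicalSpace TensorProduct

namespace Groth.Agent.Lib.SepModFib

open Groth.Agent.Lib.SepModField (rT_baseChange rT_smul)
open Groth.Agent.Lib.SchDomNilp (mu mu_tmul mu_injective mu_nat lr_comm)

section PSep

/-- principal-open separation of the family `v` after base change to the `R`-algebra `Q`. -/
def PSepQ {R : Type u} [CommRing R] (Q : Type u) [CommRing Q] [Algebra R Q] {M : Type u}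
    [AddCommGroup M] [Module R M] {Λ : Type v} {N : Λ → Type u} [∀ l, AddCommGroup (N l)]
    [∀ l, Module R (N l)] (v : ∀ l, M →ₗ[R] N l) : Prop :=
  ∀ (h : Q) (z : Q ⊗[R] M), (∀ l, ∃ n : ℕ, h ^ n • (v l).baseChange Q z = 0) →
    ∃ n : ℕ, h ^ n • z = 0

theorem psep_transfer {Q Q' : Type u} [CommRing Q] [CommRing Q'] (ρ : Q →+* Q')
    {Λ : Type v} {E E' : Type u} [AddCommGroup E] [Module Q E] [AddCommGroup E'] [Module Q' E']
    {F F' : Λ → Type u} [∀ l, AddCommGroup (F l)] [∀ l, Module Q (F l)]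
    [∀ l, AddCommGroup (F' l)] [∀ l, Module Q' (F' l)]
    (w : ∀ l, E →ₗ[Q] F l) (w' : ∀ l, E' →ₗ[Q'] F' l)
    (ε : E →+ E') (hε : Function.Injective ε) (hεs : ∀ q x, ε (q • x) = ρ q • ε x)
    (δ : ∀ l, F l →+ F' l) (hδs : ∀ l q y, δ l (q • y) = ρ q • δ l y)
    (hnat : ∀ l x, δ l (w l x) = w' l (ε x))
    (H' : ∀ (h : Q') (x : E'), (∀ l, ∃ n : ℕ, h ^ n • w' l x = 0) → ∃ n : ℕ, h ^ n • x = 0)
    (h : Q) (x : E) (hx : ∀ l, ∃ n : ℕ, h ^ n • w l x = 0) : ∃ n : ℕ, h ^ n • x = 0 := by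
  obtain ⟨n, hn⟩ := H' (ρ h) (ε x) (fun l => by
    obtain ⟨n, hn⟩ := hx l
    refine ⟨n, ?_⟩
    rw [← hnat, ← map_pow, ← hδs, hn, map_zero])
  refine ⟨n, hε ?_⟩
  rw [hεs, map_pow, hn, map_zero]

theorem psepQ_of_equiv {R : Type u} [CommRing R] {Q Q' : Type u} [CommRing Q] [CommRing Q']
    [Algebra R Q] [Algebra R Q'] (e : Q ≃ₐ[R] Q') {M : Type u} [AddCommGroup M] [Module R M]
    {Λ : Type v} {N : Λ → Type u} [∀ l, AddCommGroup (N l)] [∀ l, Module R (N l)]
    (v : ∀ l, M →ₗ[R] N l) (H : PSepQ Q' v) : PSepQ Q v := by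
  intro h z hz
  have h4 : ∀ y : Q ⊗[R] M, (e.symm : Q' →ₐ[R] Q).toLinearMap.rTensor M
      ((e : Q →ₐ[R] Q').toLinearMap.rTensor M y) = y := by
    intro y
    induction y using TensorProduct.induction_on with
    | zero => simp
    | tmul t m =>
      show e.symm (e t) ⊗ₜ[R] m = t ⊗ₜ[R] m
      rw [AlgEquiv.symm_apply_apply]
    | add a b ha hb => simp only [map_add, ha, hb]
  refine psep_transfer (e : Q →+* Q') (fun l => (v l).baseChange Q) (fun l => (v l).baseChange Q')
    ((e : Q →ₐ[R] Q').toLinearMap.rTensor M).toAddMonoidHom ?_ ?_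
    (fun l => ((e : Q →ₐ[R] Q').toLinearMap.rTensor (N l)).toAddMonoidHom) ?_ ?_ H h z hz
  · intro a b hab
    have hab' : (e : Q →ₐ[R] Q').toLinearMap.rTensor M a =
        (e : Q →ₐ[R] Q').toLinearMap.rTensor M b := hab
    have := congrArg ((e.symm : Q' →ₐ[R] Q).toLinearMap.rTensor M) hab'
    rwa [h4, h4] at this
  · intro q x
    exact rT_smul (e : Q →ₐ[R] Q') q x
  · intro l q y
    exact rT_smul (e : Q →ₐ[R] Q') q y
  · intro l x
    exact (rT_baseChange (e : Q →ₐ[R] Q') (v l) x).symm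

end PSep

section Cancel

variable {R : Type u} [CommRing R] {T Q : Type u} [CommRing T] [CommRing Q] [Algebra R T]
  [Algebra T Q] [Algebra R Q] [IsScalarTower R T Q]

theorem cb_symm_nat {M N : Type u} [AddCommGroup M] [Module R M] [AddCommGroup N] [Module R N]
    (v : M →ₗ[R] N) (x : Q ⊗[R] M) :
    (AlgebraTensorModule.cancelBaseChange R T Q Q N).symm (v.baseChange Q x) =
      (v.baseChange T).baseChange Q ((AlgebraTensorModule.cancelBaseChange R T Q Q M).symm x) := by
  induction x using TensorProduct.induction_on with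
  | zero => simp
  | tmul q m => simp
  | add a b ha hb => simp only [map_add, ha, hb]

theorem cb_nat {M N : Type u} [AddCommGroup M] [Module R M] [AddCommGroup N] [Module R N]
    (v : M →ₗ[R] N) (y : Q ⊗[T] (T ⊗[R] M)) :
    AlgebraTensorModule.cancelBaseChange R T Q Q N ((v.baseChange T).baseChange Q y) =
      v.baseChange Q (AlgebraTensorModule.cancelBaseChange R T Q Q M y) := by
  obtain ⟨x, rfl⟩ := (AlgebraTensorModule.cancelBaseChange R T Q Q M).symm.surjective y
  rw [← cb_symm_nat, LinearEquiv.apply_symm_apply, LinearEquiv.apply_symm_apply]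

variable (T) in
theorem psepQ_of_double {M : Type u} [AddCommGroup M] [Module R M]
    {Λ : Type v} {N : Λ → Type u} [∀ l, AddCommGroup (N l)] [∀ l, Module R (N l)]
    (v : ∀ l, M →ₗ[R] N l)
    (H : ∀ (h : Q) (y : Q ⊗[T] (T ⊗[R] M)),
      (∀ l, ∃ n : ℕ, h ^ n • ((v l).baseChange T).baseChange Q y = 0) → ∃ n : ℕ, h ^ n • y = 0) :
    PSepQ Q v := by
  intro h z hz
  refine psep_transfer (RingHom.id Q) (fun l => (v l).baseChange Q)
    (fun l => ((v l).baseChange T).baseChange Q)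
    (AlgebraTensorModule.cancelBaseChange R T Q Q M).symm.toLinearMap.toAddMonoidHom ?_ ?_
    (fun l => (AlgebraTensorModule.cancelBaseChange R T Q Q (N l)).symm.toLinearMap.toAddMonoidHom)
    ?_ ?_ H h z hz
  · exact (AlgebraTensorModule.cancelBaseChange R T Q Q M).symm.injective
  · intro q x
    exact map_smul (AlgebraTensorModule.cancelBaseChange R T Q Q M).symm q x
  · intro l q y
    exact map_smul (AlgebraTensorModule.cancelBaseChange R T Q Q (N l)).symm q y
  · intro l x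
    exact cb_symm_nat (v l) x

variable (T) in
theorem double_of_psepQ {M : Type u} [AddCommGroup M] [Module R M]
    {Λ : Type v} {N : Λ → Type u} [∀ l, AddCommGroup (N l)] [∀ l, Module R (N l)]
    (v : ∀ l, M →ₗ[R] N l) (H : PSepQ Q v)
    (h : Q) (y : Q ⊗[T] (T ⊗[R] M))
    (hy : ∀ l, ∃ n : ℕ, h ^ n • ((v l).baseChange T).baseChange Q y = 0) :
    ∃ n : ℕ, h ^ n • y = 0 := by
  refine psep_transfer (RingHom.id Q) (fun l => ((v l).baseChange T).baseChange Q)
    (fun l => (v l).baseChange Q)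
    (AlgebraTensorModule.cancelBaseChange R T Q Q M).toLinearMap.toAddMonoidHom ?_ ?_
    (fun l => (AlgebraTensorModule.cancelBaseChange R T Q Q (N l)).toLinearMap.toAddMonoidHom)
    ?_ ?_ H h y hy
  · exact (AlgebraTensorModule.cancelBaseChange R T Q Q M).injective
  · intro q x
    exact map_smul (AlgebraTensorModule.cancelBaseChange R T Q Q M) q x
  · intro l q y
    exact map_smul (AlgebraTensorModule.cancelBaseChange R T Q Q (N l)) q y
  · intro l x
    exact cb_nat (v l) x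

end Cancel

section Rad

theorem rad_of_local {T : Type u} [CommRing T] {E : Type u} [AddCommGroup E] [Module T E]
    (h : T) (x : E)
    (H : ∀ (q : Ideal T), q.IsPrime → h ∉ q → ∃ s : T, s ∉ q ∧ s • x = 0) :
    ∃ n : ℕ, h ^ n • x = 0 := by
  by_contra hcon
  push_neg at hcon
  let I : Ideal T := LinearMap.ker (LinearMap.toSpanSingleton T E x)
  have hI : ∀ t : T, t ∈ I ↔ t • x = 0 := fun t => by
    simp [I, LinearMap.mem_ker, LinearMap.toSpanSingleton_apply]
  have hdis : Disjoint (I : Set T) (Submonoid.powers h : Set T) := by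
    rw [Set.disjoint_left]
    rintro t ht ⟨n, rfl⟩
    exact hcon n ((hI _).mp ht)
  obtain ⟨q, hq, hIq, hqd⟩ := Ideal.exists_le_prime_disjoint I (Submonoid.powers h) hdis
  have hhq : h ∉ q := fun hh => Set.disjoint_left.mp hqd hh ⟨1, pow_one h⟩
  obtain ⟨s, hsq, hsx⟩ := H q hq hhq
  exact hsq (hIq ((hI s).mpr hsx))

end Rad

section Filt

variable {A : Type u} [CommRing A]

theorem mod_filtration (J : Ideal A)
    (hfree : ∀ k : ℕ, Module.Free (A ⧸ J) ((A ⧸ J) ⊗[A] ↥(J ^ k)))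
    {M : Type u} [AddCommGroup M] [Module A M]
    {Λ : Type v} (N : Λ → Type u) [∀ l, AddCommGroup (N l)] [∀ l, Module A (N l)]
    [∀ l, Module.Flat A (N l)] (φ : ∀ l, M →ₗ[A] N l)
    (H0' : ∀ z : M ⊗[A] (A ⧸ J), (∀ l, LinearMap.rTensor (A ⧸ J) (φ l) z = 0) → z = 0)
    (b : M) (hb : ∀ l, φ l b = 0) (k : ℕ) : ∃ ξ : M ⊗[A] ↥(J ^ k), mu (J ^ k) M ξ = b := by
  classical
  have Q0 : ∃ ξ : M ⊗[A] ↥(J ^ 0), mu (J ^ 0) M ξ = b :=
    ⟨b ⊗ₜ[A] ⟨1, by rw [pow_zero, Ideal.one_eq_top]; exact Submodule.mem_top⟩,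
      by rw [mu_tmul]; exact one_smul _ _⟩
  have step : ∀ k, (∃ ξ : M ⊗[A] ↥(J ^ k), mu (J ^ k) M ξ = b) →
      ∃ ξ : M ⊗[A] ↥(J ^ (k + 1)), mu (J ^ (k + 1)) M ξ = b := by
    intro k ⟨ξ, hξ⟩
    have h1 : ∀ l, LinearMap.rTensor ↥(J ^ k) (φ l) ξ = 0 := by
      intro l
      apply mu_injective (J ^ k) (N l)
      rw [mu_nat, hξ, hb l, map_zero]
    let π : ↥(J ^ k) →ₗ[A] (A ⧸ J) ⊗[A] ↥(J ^ k) := TensorProduct.mk A (A ⧸ J) ↥(J ^ k) 1
    have hπ : Function.Surjective π :=
      TensorProduct.mk_surjective (R := A) (S := A ⧸ J) (M := ↥(J ^ k))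
        Ideal.Quotient.mk_surjective
    haveI := hfree k
    let bs := Module.Free.chooseBasis (A ⧸ J) ((A ⧸ J) ⊗[A] ↥(J ^ k))
    let I := Module.Free.ChooseBasisIndex (A ⧸ J) ((A ⧸ J) ⊗[A] ↥(J ^ k))
    let rep : ((A ⧸ J) ⊗[A] ↥(J ^ k)) ≃ₗ[A] (I →₀ (A ⧸ J)) := bs.repr.restrictScalars A
    let Θ : M ⊗[A] ((A ⧸ J) ⊗[A] ↥(J ^ k)) ≃ₗ[A] (I →₀ M ⊗[A] (A ⧸ J)) :=
      (LinearEquiv.lTensor M rep) ≪≫ₗ (TensorProduct.finsuppRight A A M (A ⧸ J) I)
    have h2 : LinearMap.lTensor M π ξ = 0 := by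
      apply Θ.injective
      rw [map_zero]
      ext1 α
      show (TensorProduct.finsuppRight A A M (A ⧸ J) I
        (LinearMap.lTensor M rep.toLinearMap (LinearMap.lTensor M π ξ))) α = 0
      rw [TensorProduct.finsuppRight_apply]
      apply H0'
      intro l
      rw [lr_comm, lr_comm, lr_comm, h1 l, map_zero, map_zero, map_zero]
    have hex := lTensor_exact M (LinearMap.exact_subtype_ker_map π) hπ
    obtain ⟨ξ', hξ'⟩ := (hex ξ).mp h2
    have hker : ∀ y : ↥(LinearMap.ker π), ((y : ↥(J ^ k)) : A) ∈ J ^ (k + 1) := by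
      intro y
      have hy : (y : ↥(J ^ k)) ∈ J • (⊤ : Submodule A ↥(J ^ k)) := by
        rw [← LinearMap.ker_tensorProductMk (Q := ↥(J ^ k)) (I := J)]; exact y.2
      refine Submodule.smul_induction_on (p := fun y => ((y : ↥(J ^ k)) : A) ∈ J ^ (k + 1)) hy
        (fun r hr n _ => ?_) (fun x y hx hy => ?_)
      · show r * (n : A) ∈ J ^ (k + 1)
        rw [pow_succ']
        exact Ideal.mul_mem_mul hr n.2
      · exact add_mem hx hy
    let σ : ↥(LinearMap.ker π) →ₗ[A] ↥(J ^ (k + 1)) :=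
      LinearMap.codRestrict (J ^ (k + 1)) ((J ^ k).subtype ∘ₗ (LinearMap.ker π).subtype) hker
    refine ⟨LinearMap.lTensor M σ ξ', ?_⟩
    rw [← hξ, ← hξ']
    show (TensorProduct.rid A M) (LinearMap.lTensor M (J ^ (k + 1)).subtype
        (LinearMap.lTensor M σ ξ')) =
      (TensorProduct.rid A M) (LinearMap.lTensor M (J ^ k).subtype
        (LinearMap.lTensor M (LinearMap.ker π).subtype ξ'))
    rw [← LinearMap.lTensor_comp_apply, ← LinearMap.lTensor_comp_apply]
    rw [show (J ^ (k + 1)).subtype ∘ₗ σ = (J ^ k).subtype ∘ₗ (LinearMap.ker π).subtype from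
      LinearMap.subtype_comp_codRestrict _ _ _]
  induction k with
  | zero => exact Q0
  | succ k ih => exact step k ih

end Filt

end Groth.Agent.Lib.SepModFib
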