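import Groth.Agent.Lib.SepModAlg_lead
import Groth.Agent.Lib.SchDomField_lead

/-! # Separating families of module homomorphisms and arbitrary base change over a field (lead) -/

set_option backward.isDefEq.respectTransparency false
set_option backward.isDefEq.respectTransparency.types false
set_option linter.unusedSimpArgs false
set_option linter.unusedVariables false
set_option linter.unusedSectionVars false
set_option linter.style.longLine false
set_option linter.style.haveILetI false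
set_option linter.unnecessarySimpa false
set_option maxHeartbeats 800000

universe u v

open CategoryTheory CategoryTheory.Limits AlgebraicGeometry Opposite TopologicalSpace TensorProduct

namespace Groth.Agent.Lib.SepModField

section Gen

variable {A : Type u} [CommRing A] {S S' : Type u} [CommRing S] [CommRing S'] [Algebra A S]
  [Algebra A S'] {M N : Type u} [AddCommGroup M] [Module A M] [AddCommGroup N] [Module A N]

theorem rT_baseChange (φ : S →ₐ[A] S') (v : M →ₗ[A] N) (x : S ⊗[A] M) :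
    (v.baseChange S') (φ.toLinearMap.rTensor M x) =
      φ.toLinearMap.rTensor N (v.baseChange S x) := by
  induction x using TensorProduct.induction_on with
  | zero => simp
  | tmul s m => rfl
  | add a b ha hb => simp only [map_add, ha, hb]

theorem rT_smul (φ : S →ₐ[A] S') (s : S) (x : S ⊗[A] M) :
    φ.toLinearMap.rTensor M (s • x) = φ s • φ.toLinearMap.rTensor M x := by
  induction x using TensorProduct.induction_on with
  | zero => simp
  | tmul s' m =>
    show (φ (s * s')) ⊗ₜ[A] m = (φ s * φ s') ⊗ₜ[A] m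
    rw [map_mul]
  | add a b ha hb => simp only [smul_add, map_add, ha, hb]

end Gen

section Ell

variable (A : Type u) [CommRing A] (S S'' : Type u) [CommRing S] [CommRing S''] [Algebra A S]
  [Algebra S S''] [Algebra A S''] [IsScalarTower A S S'']
  (X : Type u) [AddCommGroup X] [Module A X]

/-- the localization map `S ⊗ X → S'' ⊗ X`. -/
noncomputable abbrev ell : S ⊗[A] X →ₗ[S] S'' ⊗[A] X :=
  AlgebraTensorModule.rTensor A X (Algebra.linearMap S S'')

theorem ell_isLoc (s : S) [IsLocalization.Away s S''] :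
    IsLocalizedModule (Submonoid.powers s) (ell A S S'' X) := by
  show IsLocalizedModule (Submonoid.powers s)
    (AlgebraTensorModule.rTensor A X (Algebra.linearMap S S''))
  infer_instance

variable {A S S''} {M N : Type u} [AddCommGroup M] [Module A M] [AddCommGroup N] [Module A N]

theorem ell_baseChange (v : M →ₗ[A] N) (x : S ⊗[A] M) :
    (v.baseChange S'') (ell A S S'' M x) = ell A S S'' N (v.baseChange S x) := by
  induction x using TensorProduct.induction_on with
  | zero => simp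
  | tmul s m => rfl
  | add a b ha hb => simp only [map_add, ha, hb]

end Ell

section FG

variable {K : Type u} [Field K] {A B : Type u} [CommRing A] [CommRing B] [Algebra K A]
  [Algebra K B] {P : Type u} [CommRing P] [Algebra A P] (e : A ⊗[K] B ≃ₐ[A] P)

/-- `A ⊗ B₁ → A ⊗ B ≃ P`. -/
noncomputable def jj (B₁ : Subalgebra K B) : A ⊗[K] B₁ →ₐ[A] P :=
  (e : A ⊗[K] B →ₐ[A] P).comp (Algebra.TensorProduct.map (AlgHom.id A A) B₁.val)

theorem jj_apply (B₁ : Subalgebra K B) (x : A ⊗[K] B₁) :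
    jj e B₁ x = e (Algebra.TensorProduct.map (AlgHom.id A A) B₁.val x) := rfl

theorem jj_mono {B₁ B₂ : Subalgebra K B} (hle : B₁ ≤ B₂) (x : A ⊗[K] B₁) :
    jj e B₁ x = jj e B₂
      (Algebra.TensorProduct.map (AlgHom.id A A) (Subalgebra.inclusion hle) x) := by
  induction x using TensorProduct.induction_on with
  | zero => simp
  | tmul a b => rfl
  | add x y hx hy => simp only [map_add, hx, hy]

theorem jjM_mono {B₁ B₂ : Subalgebra K B} (hle : B₁ ≤ B₂) (M : Type u) [AddCommGroup M]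
    [Module A M] (x : (A ⊗[K] B₁) ⊗[A] M) :
    (jj e B₁).toLinearMap.rTensor M x = (jj e B₂).toLinearMap.rTensor M
      ((Algebra.TensorProduct.map (AlgHom.id A A)
        (Subalgebra.inclusion hle)).toLinearMap.rTensor M x) := by
  induction x using TensorProduct.induction_on with
  | zero => simp
  | tmul t m =>
    rw [LinearMap.rTensor_tmul, LinearMap.rTensor_tmul, LinearMap.rTensor_tmul]
    congr 1
    exact jj_mono e hle t
  | add x y hx hy => simp only [map_add, hx, hy]

theorem exists_fgM (M : Type u) [AddCommGroup M] [Module A M] (hh : P) (τ : P ⊗[A] M) :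
    ∃ B₁ : Subalgebra K B, B₁.FG ∧ (∃ h₁ : A ⊗[K] B₁, jj e B₁ h₁ = hh) ∧
      (∃ τ₁ : (A ⊗[K] B₁) ⊗[A] M, (jj e B₁).toLinearMap.rTensor M τ₁ = τ) := by
  have key : ∀ τ : P ⊗[A] M, ∃ B₁ : Subalgebra K B, B₁.FG ∧
      ∃ τ₁ : (A ⊗[K] B₁) ⊗[A] M, (jj e B₁).toLinearMap.rTensor M τ₁ = τ := by
    intro τ
    induction τ using TensorProduct.induction_on with
    | zero => exact ⟨⊥, Subalgebra.fg_bot, 0, map_zero _⟩
    | tmul p m =>
      obtain ⟨B₁, hfg, ⟨t₁, ht₁⟩, -⟩ := SchDomField.exists_fg (e.symm p) (e.symm p)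
      refine ⟨B₁, hfg, t₁ ⊗ₜ m, ?_⟩
      rw [LinearMap.rTensor_tmul]
      congr 1
      show e (Algebra.TensorProduct.map (AlgHom.id A A) B₁.val t₁) = p
      rw [ht₁, AlgEquiv.apply_symm_apply]
    | add x y hx hy =>
      obtain ⟨B₁, hfg₁, x₁, hx₁⟩ := hx
      obtain ⟨B₂, hfg₂, y₁, hy₁⟩ := hy
      refine ⟨B₁ ⊔ B₂, hfg₁.sup hfg₂,
        (Algebra.TensorProduct.map (AlgHom.id A A)
          (Subalgebra.inclusion (le_sup_left : B₁ ≤ B₁ ⊔ B₂))).toLinearMap.rTensor M x₁ +
        (Algebra.TensorProduct.map (AlgHom.id A A)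
          (Subalgebra.inclusion (le_sup_right : B₂ ≤ B₁ ⊔ B₂))).toLinearMap.rTensor M y₁, ?_⟩
      rw [map_add, ← jjM_mono, ← jjM_mono, hx₁, hy₁]
  obtain ⟨B₁, hfg₁, τ₁, hτ₁⟩ := key τ
  obtain ⟨B₂, hfg₂, ⟨h₂, hh₂⟩, -⟩ := SchDomField.exists_fg (e.symm hh) (e.symm hh)
  refine ⟨B₁ ⊔ B₂, hfg₁.sup hfg₂,
    ⟨Algebra.TensorProduct.map (AlgHom.id A A)
      (Subalgebra.inclusion (le_sup_right : B₂ ≤ B₁ ⊔ B₂)) h₂, ?_⟩,
    ⟨(Algebra.TensorProduct.map (AlgHom.id A A)
      (Subalgebra.inclusion (le_sup_left : B₁ ≤ B₁ ⊔ B₂))).toLinearMap.rTensor M τ₁, ?_⟩⟩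
  · rw [← jj_mono]
    show e (Algebra.TensorProduct.map (AlgHom.id A A) B₂.val h₂) = hh
    rw [hh₂, AlgEquiv.apply_symm_apply]
  · rw [← jjM_mono, hτ₁]

theorem jjM_injective (B₁ : Subalgebra K B) (N : Type u) [AddCommGroup N] [Module A N] :
    Function.Injective ((jj e B₁).toLinearMap.rTensor N) := by
  letI : Module K N := Module.compHom N (algebraMap K A)
  haveI : IsScalarTower K A N := IsScalarTower.of_algebraMap_smul (fun _ _ => rfl)
  let j : A ⊗[K] B₁ →ₐ[A] A ⊗[K] B := Algebra.TensorProduct.map (AlgHom.id A A) B₁.val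
  let ΨB : (A ⊗[K] B) ⊗[A] N ≃ₗ[A] N ⊗[K] B :=
    (TensorProduct.comm A (A ⊗[K] B) N) ≪≫ₗ (AlgebraTensorModule.cancelBaseChange K A A N B)
  let ΨB₁ : (A ⊗[K] B₁) ⊗[A] N ≃ₗ[A] N ⊗[K] B₁ :=
    (TensorProduct.comm A (A ⊗[K] B₁) N) ≪≫ₗ (AlgebraTensorModule.cancelBaseChange K A A N B₁)
  have hinj : Function.Injective (LinearMap.lTensor N B₁.val.toLinearMap) :=
    Module.Flat.lTensor_preserves_injective_linearMap (M := N) (R := K)
      B₁.val.toLinearMap (by intro a b hab; exact Subtype.ext hab)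
  have nat : ∀ x : (A ⊗[K] B₁) ⊗[A] N,
      ΨB (j.toLinearMap.rTensor N x) = LinearMap.lTensor N B₁.val.toLinearMap (ΨB₁ x) := by
    intro x
    induction x using TensorProduct.induction_on with
    | zero => simp
    | tmul t n =>
      induction t using TensorProduct.induction_on with
      | zero => simp
      | tmul a b => simp [ΨB, ΨB₁, j]
      | add s t hs ht => simp only [TensorProduct.add_tmul, map_add, hs, ht]
    | add x y hx hy => simp only [map_add, hx, hy]
  have h1 : ∀ y : (A ⊗[K] B₁) ⊗[A] N,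
      (e.symm.toLinearMap.rTensor N) ((jj e B₁).toLinearMap.rTensor N y) =
        j.toLinearMap.rTensor N y := by
    intro y
    induction y using TensorProduct.induction_on with
    | zero => simp
    | tmul t n =>
      show e.symm (e (j t)) ⊗ₜ[A] n = j t ⊗ₜ[A] n
      rw [AlgEquiv.symm_apply_apply]
    | add x y hx hy => simp only [map_add, hx, hy]
  intro x x' hxx
  have h2 := congrArg (e.symm.toLinearMap.rTensor N) hxx
  rw [h1, h1] at h2
  have h3 := congrArg ΨB h2
  rw [nat, nat] at h3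
  exact ΨB₁.injective (hinj h3)

include e in
theorem fieldM_main0 {Λ : Type v} {M : Type u} [AddCommGroup M] [Module A M] (N : Λ → Type u)
    [∀ l, AddCommGroup (N l)] [∀ l, Module A (N l)] (v : ∀ l, M →ₗ[A] N l)
    (H : ∀ (a : A) (x : M), (∀ l, ∃ n : ℕ, a ^ n • v l x = 0) → ∃ n : ℕ, a ^ n • x = 0)
    (hh : P) {A' : Type u} [CommRing A'] [Algebra P A'] [Algebra A A'] [IsScalarTower A P A']
    [IsLocalization.Away hh A']
    (z : A' ⊗[A] M) (hz : ∀ l, (v l).baseChange A' z = 0) : z = 0 := by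
  classical
  haveI locM := ell_isLoc A P A' M hh
  haveI locN : ∀ l, IsLocalizedModule (Submonoid.powers hh) (ell A P A' (N l)) :=
    fun l => ell_isLoc A P A' (N l) hh
  obtain ⟨⟨z₀, ⟨_, n0, rfl⟩⟩, hz₀⟩ := IsLocalizedModule.surj (Submonoid.powers hh) (ell A P A' M) z
  have hz₀' : (hh ^ n0) • z = ell A P A' M z₀ := hz₀
  have h2 : ∀ l, ∃ n : ℕ, hh ^ n • (v l).baseChange P z₀ = 0 := by
    intro l
    have e1 : ell A P A' (N l) ((v l).baseChange P z₀) = 0 := by
      rw [← ell_baseChange, ← hz₀', LinearMap.map_smul_of_tower, hz l, smul_zero]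
    obtain ⟨⟨_, n, rfl⟩, hn⟩ :=
      (IsLocalizedModule.eq_zero_iff (Submonoid.powers hh) (ell A P A' (N l))).mp e1
    exact ⟨n, hn⟩
  obtain ⟨B₁, hfg, ⟨h₁, hh₁⟩, ⟨z₁, hz₁⟩⟩ := exists_fgM e M hh z₀
  haveI : Algebra.FiniteType K B₁ := (Subalgebra.fg_iff_finiteType B₁).mp hfg
  haveI : Algebra.FinitePresentation K B₁ :=
    Algebra.FinitePresentation.of_finiteType.mp inferInstance
  haveI : Algebra.FinitePresentation A (A ⊗[K] B₁) := inferInstance
  haveI : Module.Flat A (A ⊗[K] B₁) := inferInstance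
  haveI : Algebra.FinitePresentation (A ⊗[K] B₁) (Localization.Away h₁) :=
    IsLocalization.Away.finitePresentation h₁
  haveI : Algebra.FinitePresentation A (Localization.Away h₁) :=
    Algebra.FinitePresentation.trans A (A ⊗[K] B₁) (Localization.Away h₁)
  haveI : Module.Flat (A ⊗[K] B₁) (Localization.Away h₁) :=
    IsLocalization.flat _ (Submonoid.powers h₁)
  haveI : Module.Flat A (Localization.Away h₁) :=
    Module.Flat.trans A (A ⊗[K] B₁) (Localization.Away h₁)
  haveI loc1M := ell_isLoc A (A ⊗[K] B₁) (Localization.Away h₁) M h₁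
  haveI loc1N : ∀ l, IsLocalizedModule (Submonoid.powers h₁)
      (ell A (A ⊗[K] B₁) (Localization.Away h₁) (N l)) :=
    fun l => ell_isLoc A (A ⊗[K] B₁) (Localization.Away h₁) (N l) h₁
  have hw : ell A (A ⊗[K] B₁) (Localization.Away h₁) M z₁ = 0 := by
    apply SepModAlg.coreM' (A := A) (A' := Localization.Away h₁) N v H
    intro l
    rw [ell_baseChange]
    apply (IsLocalizedModule.eq_zero_iff (Submonoid.powers h₁)
      (ell A (A ⊗[K] B₁) (Localization.Away h₁) (N l))).mpr
    obtain ⟨n, hn⟩ := h2 l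
    refine ⟨⟨h₁ ^ n, n, rfl⟩, ?_⟩
    apply jjM_injective e B₁ (N l)
    show (jj e B₁).toLinearMap.rTensor (N l) (h₁ ^ n • (v l).baseChange (A ⊗[K] B₁) z₁) =
      (jj e B₁).toLinearMap.rTensor (N l) 0
    rw [rT_smul, map_pow, hh₁, ← rT_baseChange, hz₁, hn, map_zero]
  obtain ⟨⟨_, n, rfl⟩, hn⟩ := (IsLocalizedModule.eq_zero_iff (Submonoid.powers h₁)
    (ell A (A ⊗[K] B₁) (Localization.Away h₁) M)).mp hw
  have hn' : h₁ ^ n • z₁ = 0 := hn
  have h5 : hh ^ n • z₀ = 0 := by
    have := congrArg ((jj e B₁).toLinearMap.rTensor M) hn'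
    rw [rT_smul, map_pow, hh₁, hz₁, map_zero] at this
    exact this
  have h6 : ell A P A' M z₀ = 0 :=
    (IsLocalizedModule.eq_zero_iff (Submonoid.powers hh) (ell A P A' M)).mpr
      ⟨⟨hh ^ n, n, rfl⟩, h5⟩
  rw [h6] at hz₀'
  apply IsLocalizedModule.smul_injective (ell A P A' M) (⟨hh ^ n0, n0, rfl⟩ : Submonoid.powers hh)
  show (hh ^ n0) • z = (hh ^ n0) • (0 : A' ⊗[A] M)
  rw [hz₀', smul_zero]

end FG

section Sch

theorem separating_pullback_of_basis {X X' : Scheme.{u}} (g : X' ⟶ X) (F : X.Modules)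
    [F.IsQuasicoherent] {ι : Type*}
    (G : ι → X.Modules) [∀ i, (G i).IsQuasicoherent] (u : ∀ i, F ⟶ G i)
    (V' : X'.Opens)
    (hsep : ∀ x' ∈ V', ∃ (V : X.Opens) (_ : IsAffineOpen V) (U' : X'.Opens) (_ : IsAffineOpen U')
      (hle : U' ≤ g ⁻¹ᵁ V), x' ∈ U' ∧ U' ≤ V' ∧
      (letI := (g.appLE V U' hle).hom.toAlgebra
      ∀ z : Γ(X', U') ⊗[Γ(X, V)] Γ(F, V),
        (∀ i, (SepH8.appLin (u i) V).baseChange Γ(X', U') z = 0) → z = 0))
    (t : Γ((Scheme.Modules.pullback g).obj F, V'))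
    (ht : ∀ i, ((Scheme.Modules.pullback g).map (u i)).app V' t = 0) : t = 0 := by
  refine TopCat.Presheaf.section_ext
    ⟨((Scheme.Modules.pullback g).obj F).presheaf, ((Scheme.Modules.pullback g).obj F).isSheaf⟩
    V' t 0 (fun x' hx' => ?_)
  obtain ⟨V, hV, U', hU', hle, hxU', hle', hsepV⟩ := hsep x' hx'
  have hres : ((Scheme.Modules.pullback g).obj F).presheaf.map (homOfLE hle').op t = 0 := by
    letI := (g.appLE V U' hle).hom.toAlgebra
    letI : Module Γ(X, V) Γ((Scheme.Modules.pullback g).obj F, U') :=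
      Module.compHom _ (g.appLE V U' hle).hom
    haveI : IsScalarTower Γ(X, V) Γ(X', U') Γ((Scheme.Modules.pullback g).obj F, U') :=
      IsScalarTower.of_algebraMap_smul fun _ _ => rfl
    letI : ∀ i, Module Γ(X, V) Γ((Scheme.Modules.pullback g).obj (G i), U') := fun i =>
      Module.compHom _ (g.appLE V U' hle).hom
    haveI : ∀ i, IsScalarTower Γ(X, V) Γ(X', U') Γ((Scheme.Modules.pullback g).obj (G i), U') :=
      fun i => IsScalarTower.of_algebraMap_smul fun _ _ => rfl
    refine SepH8.sep_of_isBaseChange (A := Γ(X, V)) (B := Γ(X', U'))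
      (N := fun i => Γ(G i, V))
      (N' := fun i => Γ((Scheme.Modules.pullback g).obj (G i), U'))
      (fun i => SepH8.appLin (u i) V) (PBH8.cUVLin g F hle)
      (PBH8.isBaseChange_cUV g F hle hU' hV)
      (fun i => PBH8.cUVLin g (G i) hle) (fun i => PBH8.isBaseChange_cUV g (G i) hle hU' hV)
      (fun i => SepH8.appLin ((Scheme.Modules.pullback g).map (u i)) U') ?_
      hsepV _ ?_
    · intro i m
      exact PBH8.cUV_naturality g (u i) hle m
    · intro i
      show ((Scheme.Modules.pullback g).map (u i)).app U' _ = 0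
      rw [QCohCrit.app_naturality, ht i, map_zero]
  have h1 := TopCat.Presheaf.germ_res_apply ((Scheme.Modules.pullback g).obj F).presheaf
    (homOfLE hle') x' hxU' t
  rw [← h1, hres, map_zero, map_zero]

theorem main4911 {k : Type u} [Field k] {X S' : Scheme.{u}}
    (p : X ⟶ Spec (CommRingCat.of k)) (q : S' ⟶ Spec (CommRingCat.of k))
    (F : X.Modules) [F.IsQuasicoherent] {ι : Type u} (G : ι → X.Modules)
    [∀ i, (G i).IsQuasicoherent] (u : ∀ i, F ⟶ G i)
    (h : ∀ (V : X.Opens) (t : Γ(F, V)), (∀ i, (u i).app V t = 0) → t = 0)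
    (V' : (pullback p q).Opens)
    (t : Γ((Scheme.Modules.pullback (pullback.fst p q)).obj F, V'))
    (ht : ∀ i, ((Scheme.Modules.pullback (pullback.fst p q)).map (u i)).app V' t = 0) :
    t = 0 := by
  refine separating_pullback_of_basis (pullback.fst p q) F G u V' ?_ t ht
  intro x hx
  obtain ⟨U, hU, hxU, -⟩ := Opens.isBasis_iff_nbhd.mp X.isBasis_affineOpens
    (Opens.mem_top ((pullback.fst p q).base x))
  obtain ⟨T, hT, hxT, -⟩ := Opens.isBasis_iff_nbhd.mp S'.isBasis_affineOpens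
    (Opens.mem_top ((pullback.snd p q).base x))
  have hUS : IsAffineOpen (⊤ : (Spec (CommRingCat.of k)).Opens) := isAffineOpen_top _
  have hUSX : U ≤ p ⁻¹ᵁ ⊤ := fun _ _ => trivial
  have hUST : T ≤ q ⁻¹ᵁ ⊤ := fun _ _ => trivial
  have H : IsPullback (pullback.fst p q) (pullback.snd p q) p q := IsPullback.of_hasPullback _ _
  let O : (pullback p q).Opens := pullback.fst p q ⁻¹ᵁ U ⊓ pullback.snd p q ⁻¹ᵁ T
  have hO : IsAffineOpen O := by
    haveI : IsAffine ((⊤ : (Spec (CommRingCat.of k)).Opens) : Scheme) := hUS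
    haveI : IsAffine (T : Scheme) := hT
    haveI : IsAffine (U : Scheme) := hU
    exact IsAffine.of_isIso (Scheme.Hom.isPullback_resLE H hUST hUSX rfl).isoPullback.hom
  have hxO : x ∈ O := ⟨hxU, hxT⟩
  obtain ⟨hh, hDle, hxD⟩ := hO.exists_basicOpen_le (V := O ⊓ V')
    ⟨x, (⟨hxO, hx⟩ : x ∈ O ⊓ V')⟩ hxO
  have hDO : (pullback p q).basicOpen hh ≤ O := hDle.trans inf_le_left
  have hDV : (pullback p q).basicOpen hh ≤ V' := hDle.trans inf_le_right
  have hD : IsAffineOpen ((pullback p q).basicOpen hh) := hO.basicOpen hh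
  have hle : (pullback p q).basicOpen hh ≤ pullback.fst p q ⁻¹ᵁ U := hDO.trans inf_le_left
  refine ⟨U, hU, (pullback p q).basicOpen hh, hD, hle, hxD, hDV, ?_⟩
  -- algebra structures
  let ρ : CommRingCat.of k ⟶ Γ(Spec (CommRingCat.of k), ⊤) :=
    (Scheme.ΓSpecIso (CommRingCat.of k)).inv
  letI algA : Algebra k Γ(X, U) := RingHom.toAlgebra (ρ ≫ p.appLE ⊤ U hUSX).hom
  letI algB : Algebra k Γ(S', T) := RingHom.toAlgebra (ρ ≫ q.appLE ⊤ T hUST).hom
  letI algP : Algebra Γ(X, U) Γ(pullback p q, O) :=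
    RingHom.toAlgebra ((pullback.fst p q).appLE U O inf_le_left).hom
  have hiso := isIso_pushoutSection_of_isAffineOpen H hUST hUSX rfl hUS hT hU
  have hPO := (isIso_pushoutSection_iff H hUST hUSX rfl).mp hiso
  have hPOk : IsPushout (ρ ≫ p.appLE ⊤ U hUSX) (ρ ≫ q.appLE ⊤ T hUST)
      ((pullback.fst p q).appLE U O inf_le_left) ((pullback.snd p q).appLE T O inf_le_right) :=
    hPO.of_iso (Scheme.ΓSpecIso (CommRingCat.of k)) (Iso.refl _) (Iso.refl _) (Iso.refl _)
      (by rw [Iso.refl_hom, Category.comp_id]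
          show _ = _ ≫ (Scheme.ΓSpecIso (CommRingCat.of k)).inv ≫ _
          rw [Iso.hom_inv_id_assoc])
      (by rw [Iso.refl_hom, Category.comp_id]
          show _ = _ ≫ (Scheme.ΓSpecIso (CommRingCat.of k)).inv ≫ _
          rw [Iso.hom_inv_id_assoc])
      (by rw [Iso.refl_hom, Iso.refl_hom, Category.comp_id, Category.id_comp])
      (by rw [Iso.refl_hom, Iso.refl_hom, Category.comp_id, Category.id_comp])
  have hTens := CommRingCat.isPushout_tensorProduct k Γ(X, U) Γ(S', T)
  have hPO' : IsPushout (CommRingCat.ofHom (algebraMap k Γ(X, U)))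
      (CommRingCat.ofHom (algebraMap k Γ(S', T)))
      ((pullback.fst p q).appLE U O inf_le_left) ((pullback.snd p q).appLE T O inf_le_right) :=
    hPOk
  let e₀ := hTens.isoIsPushout _ _ hPO'
  let e : Γ(X, U) ⊗[k] Γ(S', T) ≃ₐ[Γ(X, U)] Γ(pullback p q, O) :=
    AlgEquiv.ofRingEquiv (f := e₀.commRingCatIsoToRingEquiv) (by
      intro a
      have e1 := hTens.inl_isoIsPushout_hom _ _ hPO'
      exact congrArg (fun φ => φ.hom a) e1)
  letI algAA' : Algebra Γ(X, U) Γ(pullback p q, (pullback p q).basicOpen hh) :=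
    ((pullback.fst p q).appLE U ((pullback p q).basicOpen hh) hle).hom.toAlgebra
  haveI : IsScalarTower Γ(X, U) Γ(pullback p q, O)
      Γ(pullback p q, (pullback p q).basicOpen hh) := by
    refine IsScalarTower.of_algebraMap_eq' ?_
    change ((pullback.fst p q).appLE U ((pullback p q).basicOpen hh) hle).hom =
      ((pullback p q).presheaf.map (homOfLE hDO).op).hom.comp
        ((pullback.fst p q).appLE U O inf_le_left).hom
    rw [← CommRingCat.hom_comp, Scheme.Hom.appLE_map]
  haveI : IsLocalization.Away hh Γ(pullback p q, (pullback p q).basicOpen hh) :=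
    hO.isLocalization_basicOpen hh
  intro z hz
  exact fieldM_main0 (K := k) (A := Γ(X, U)) (B := Γ(S', T)) e (fun i => Γ(G i, U))
    (fun i => SepH8.appLin (u i) U)
    (fun a x hx => SepModAlg.hyp_of_sep F G u h U hU a x hx) hh z hz

end Sch

end Groth.Agent.Lib.SepModField
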