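import Groth.Agent.Lib.SepModAlg_lead
import Groth.Agent.Lib.SchDomNilp_lead
import Groth.Agent.Lib.TildeFlat_helper8

/-! # Separating families of module homomorphisms and nilpotent thickenings (lead) -/

set_option backward.isDefEq.respectTransparency false
set_option backward.isDefEq.respectTransparency.types false
set_option linter.unusedSimpArgs false
set_option linter.unusedVariables false
set_option linter.unusedSectionVars false
set_option linter.style.longLine false
set_option linter.style.haveILetI false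
set_option linter.unnecessarySimpa false
set_option maxHeartbeats 800000

universe u v

open CategoryTheory CategoryTheory.Limits AlgebraicGeometry Opposite TopologicalSpace TensorProduct

namespace Groth.Agent.Lib.SepModNilp

open Groth.Agent.Lib.SchDomNilp

section Alg

variable {A : Type u} [CommRing A]

theorem mod_main (J : Ideal A) (hJ : IsNilpotent J)
    (hfree : ∀ k : ℕ, Module.Free (A ⧸ J) ((A ⧸ J) ⊗[A] ↥(J ^ k)))
    {M : Type u} [AddCommGroup M] [Module A M]
    {Λ : Type v} (N : Λ → Type u) [∀ l, AddCommGroup (N l)] [∀ l, Module A (N l)]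
    [∀ l, Module.Flat A (N l)] (φ : ∀ l, M →ₗ[A] N l)
    (H0' : ∀ z : M ⊗[A] (A ⧸ J), (∀ l, LinearMap.rTensor (A ⧸ J) (φ l) z = 0) → z = 0)
    (b : M) (hb : ∀ l, φ l b = 0) : b = 0 := by
  classical
  have Q0 : ∃ ξ : M ⊗[A] ↥(J ^ 0), mu (J ^ 0) M ξ = b :=
    ⟨b ⊗ₜ[A] ⟨1, by rw [pow_zero, Ideal.one_eq_top]; exact Submodule.mem_top⟩,
      by rw [mu_tmul]; exact one_smul _ _⟩
  have step : ∀ k, (∃ ξ : M ⊗[A] ↥(J ^ k), mu (J ^ k) M ξ = b) →
      ∃ ξ : M ⊗[A] ↥(J ^ (k + 1)), mu (J ^ (k + 1)) M ξ = b := by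
    intro k ⟨ξ, hξ⟩
    have h1 : ∀ l, LinearMap.rTensor ↥(J ^ k) (φ l) ξ = 0 := by
      intro l
      apply mu_injective (J ^ k) (N l)
      rw [mu_nat, hξ, hb l, map_zero]
    let π : ↥(J ^ k) →ₗ[A] (A ⧸ J) ⊗[A] ↥(J ^ k) := TensorProduct.mk A (A ⧸ J) ↥(J ^ k) 1
    have hπ : Function.Surjective π :=
      TensorProduct.mk_surjective (R := A) (S := A ⧸ J) (M := ↥(J ^ k))
        Ideal.Quotient.mk_surjective
    haveI := hfree k
    let bs := Module.Free.chooseBasis (A ⧸ J) ((A ⧸ J) ⊗[A] ↥(J ^ k))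
    let I := Module.Free.ChooseBasisIndex (A ⧸ J) ((A ⧸ J) ⊗[A] ↥(J ^ k))
    let rep : ((A ⧸ J) ⊗[A] ↥(J ^ k)) ≃ₗ[A] (I →₀ (A ⧸ J)) := bs.repr.restrictScalars A
    let Θ : M ⊗[A] ((A ⧸ J) ⊗[A] ↥(J ^ k)) ≃ₗ[A] (I →₀ M ⊗[A] (A ⧸ J)) :=
      (LinearEquiv.lTensor M rep) ≪≫ₗ (TensorProduct.finsuppRight A A M (A ⧸ J) I)
    have h2 : LinearMap.lTensor M π ξ = 0 := by
      apply Θ.injective
      rw [map_zero]
      ext1 α
      show (TensorProduct.finsuppRight A A M (A ⧸ J) I
        (LinearMap.lTensor M rep.toLinearMap (LinearMap.lTensor M π ξ))) α = 0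
      rw [TensorProduct.finsuppRight_apply]
      apply H0'
      intro l
      rw [lr_comm, lr_comm, lr_comm, h1 l, map_zero, map_zero, map_zero]
    have hex := lTensor_exact M (LinearMap.exact_subtype_ker_map π) hπ
    obtain ⟨ξ', hξ'⟩ := (hex ξ).mp h2
    have hker : ∀ y : ↥(LinearMap.ker π), ((y : ↥(J ^ k)) : A) ∈ J ^ (k + 1) := by
      intro y
      have hy : (y : ↥(J ^ k)) ∈ J • (⊤ : Submodule A ↥(J ^ k)) := by
        rw [← LinearMap.ker_tensorProductMk (Q := ↥(J ^ k)) (I := J)]; exact y.2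
      refine Submodule.smul_induction_on (p := fun y => ((y : ↥(J ^ k)) : A) ∈ J ^ (k + 1)) hy
        (fun r hr n _ => ?_) (fun x y hx hy => ?_)
      · show r * (n : A) ∈ J ^ (k + 1)
        rw [pow_succ']
        exact Ideal.mul_mem_mul hr n.2
      · exact add_mem hx hy
    let σ : ↥(LinearMap.ker π) →ₗ[A] ↥(J ^ (k + 1)) :=
      LinearMap.codRestrict (J ^ (k + 1)) ((J ^ k).subtype ∘ₗ (LinearMap.ker π).subtype) hker
    refine ⟨LinearMap.lTensor M σ ξ', ?_⟩
    rw [← hξ, ← hξ']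
    show (TensorProduct.rid A M) (LinearMap.lTensor M (J ^ (k + 1)).subtype
        (LinearMap.lTensor M σ ξ')) =
      (TensorProduct.rid A M) (LinearMap.lTensor M (J ^ k).subtype
        (LinearMap.lTensor M (LinearMap.ker π).subtype ξ'))
    rw [← LinearMap.lTensor_comp_apply, ← LinearMap.lTensor_comp_apply]
    rw [show (J ^ (k + 1)).subtype ∘ₗ σ = (J ^ k).subtype ∘ₗ (LinearMap.ker π).subtype from
      LinearMap.subtype_comp_codRestrict _ _ _]
  have Qall : ∀ k, ∃ ξ : M ⊗[A] ↥(J ^ k), mu (J ^ k) M ξ = b := by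
    intro k
    induction k with
    | zero => exact Q0
    | succ k ih => exact step k ih
  obtain ⟨n, hn⟩ := hJ
  obtain ⟨ξ, hξ⟩ := Qall n
  rw [← hξ]
  have hN' : J ^ n = ⊥ := hn
  clear hξ
  induction ξ using TensorProduct.induction_on with
  | zero => simp
  | tmul m j =>
    rw [mu_tmul]
    have h' : ∀ a : A, a ∈ J ^ n → a = 0 := fun a ha => by
      rw [hN'] at ha
      exact (Submodule.mem_bot A).mp ha
    rw [h' _ j.2, zero_smul]
  | add x y hx hy => rw [map_add, hx, hy, add_zero]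

section Conv

variable {R : Type u} [CommRing R] [Algebra A R] {Q : Type u} [CommRing Q] [Algebra A Q]
  {R₀ : Type u} [CommRing R₀] [Algebra R R₀] (e : R ⊗[A] Q ≃ₐ[R] R₀)

/-- `X ⊗_A Q ≃ R₀ ⊗_R X`. -/
noncomputable def Xi (X : Type u) [AddCommGroup X] [Module R X] [Module A X]
    [IsScalarTower A R X] : X ⊗[A] Q ≃ₗ[R] R₀ ⊗[R] X :=
  (AlgebraTensorModule.cancelBaseChange A R R X Q).symm ≪≫ₗ
    (LinearEquiv.lTensor X e.toLinearEquiv) ≪≫ₗ TensorProduct.comm R X R₀

variable {X Y : Type u} [AddCommGroup X] [Module R X] [Module A X] [IsScalarTower A R X]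
  [AddCommGroup Y] [Module R Y] [Module A Y] [IsScalarTower A R Y]

theorem Xi_tmul (x : X) (q : Q) : Xi e X (x ⊗ₜ[A] q) = e ((1 : R) ⊗ₜ[A] q) ⊗ₜ[R] x := by
  simp [Xi]

theorem Xi_nat (v : X →ₗ[R] Y) (z : X ⊗[A] Q) :
    v.baseChange R₀ (Xi e X z) = Xi e Y ((v.restrictScalars A).rTensor Q z) := by
  induction z using TensorProduct.induction_on with
  | zero => simp
  | tmul x q => simp [Xi_tmul]
  | add a b ha hb => simp only [map_add, ha, hb]

include e in
theorem conv {M : Type u} [AddCommGroup M] [Module R M] [Module A M] [IsScalarTower A R M]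
    {Λ : Type v} (N : Λ → Type u) [∀ l, AddCommGroup (N l)] [∀ l, Module R (N l)]
    [∀ l, Module A (N l)] [∀ l, IsScalarTower A R (N l)] (v : ∀ l, M →ₗ[R] N l)
    (Hsep : ∀ z : R₀ ⊗[R] M, (∀ l, (v l).baseChange R₀ z = 0) → z = 0)
    (z : M ⊗[A] Q) (hz : ∀ l, ((v l).restrictScalars A).rTensor Q z = 0) : z = 0 := by
  apply (Xi e M).injective
  rw [map_zero]
  apply Hsep
  intro l
  rw [Xi_nat, hz l, map_zero]

end Conv

end Alg

section Rev

variable {A B : Type*} [CommRing A] [CommRing B] [Algebra A B]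

theorem sep_rev {ι : Type*} {M M' : Type*} [AddCommGroup M] [Module A M]
    [AddCommGroup M'] [Module B M'] [Module A M'] [IsScalarTower A B M']
    {N N' : ι → Type*} [∀ i, AddCommGroup (N i)] [∀ i, Module A (N i)]
    [∀ i, AddCommGroup (N' i)] [∀ i, Module B (N' i)] [∀ i, Module A (N' i)]
    [∀ i, IsScalarTower A B (N' i)]
    (v : ∀ i, M →ₗ[A] N i) (c : M →ₗ[A] M') (hc : IsBaseChange B c)
    (d : ∀ i, N i →ₗ[A] N' i) (hd : ∀ i, IsBaseChange B (d i))
    (v' : ∀ i, M' →ₗ[B] N' i) (hcomm : ∀ i m, v' i (c m) = d i (v i m))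
    (hsep' : ∀ m' : M', (∀ i, v' i m' = 0) → m' = 0)
    (z : B ⊗[A] M) (hz : ∀ i, (v i).baseChange B z = 0) : z = 0 := by
  have key : ∀ (i : ι) (z : B ⊗[A] M),
      (hd i).equiv ((v i).baseChange B z) = v' i (hc.equiv z) := by
    intro i z
    induction z using TensorProduct.induction_on with
    | zero => simp
    | tmul b m =>
      rw [LinearMap.baseChange_tmul, IsBaseChange.equiv_tmul, IsBaseChange.equiv_tmul, map_smul,
        hcomm]
    | add x y hx hy => rw [map_add, map_add, map_add, map_add, hx, hy]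
  apply hc.equiv.injective
  rw [map_zero]
  apply hsep'
  intro i
  rw [← key, hz i, map_zero]

end Rev

section Sch

variable {X : Scheme.{u}} (A : CommRingCat.{u}) (p : X ⟶ Spec A) (J : Ideal ↑A)

local notation "qJ" => Spec.map (CommRingCat.ofHom (Ideal.Quotient.mk J))

theorem main5910 (hJ : IsNilpotent J)
    (hfree : ∀ k : ℕ, Module.Free (↑A ⧸ J) ((↑A ⧸ J) ⊗[↑A] ↥(J ^ k)))
    (F : X.Modules) [F.IsQuasicoherent] {ι : Type u} (G : ι → X.Modules)
    [∀ i, (G i).IsQuasicoherent] (hG : ∀ i, FlatMod.IsFlatOver p (G i)) (u : ∀ i, F ⟶ G i)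
    (h0 : ∀ (V : (pullback p qJ).Opens)
      (t : Γ((Scheme.Modules.pullback (pullback.fst p qJ)).obj F, V)),
      (∀ i, ((Scheme.Modules.pullback (pullback.fst p qJ)).map (u i)).app V t = 0) → t = 0)
    (V : X.Opens) (t : Γ(F, V)) (ht : ∀ i, (u i).app V t = 0) : t = 0 := by
  refine TopCat.Presheaf.section_ext ⟨F.presheaf, F.isSheaf⟩ V t 0 (fun x hx => ?_)
  obtain ⟨U, hU, hxU, hUV⟩ := Opens.isBasis_iff_nbhd.mp X.isBasis_affineOpens hx
  have hres : F.presheaf.map (homOfLE hUV).op t = 0 := by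
    have hUS : IsAffineOpen (⊤ : (Spec A).Opens) := isAffineOpen_top _
    have hTS : IsAffineOpen (⊤ : (Spec (CommRingCat.of (↑A ⧸ J))).Opens) := isAffineOpen_top _
    have hUSX : U ≤ p ⁻¹ᵁ ⊤ := fun _ _ => trivial
    have hUST : (⊤ : (Spec (CommRingCat.of (↑A ⧸ J))).Opens) ≤ qJ ⁻¹ᵁ ⊤ := fun _ _ => trivial
    have H : IsPullback (pullback.fst p qJ) (pullback.snd p qJ) p qJ :=
      IsPullback.of_hasPullback _ _
    let O : (pullback p qJ).Opens := pullback.fst p qJ ⁻¹ᵁ U ⊓ pullback.snd p qJ ⁻¹ᵁ ⊤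
    have hO : IsAffineOpen O := by
      haveI : IsAffine ((⊤ : (Spec A).Opens) : Scheme) := hUS
      haveI : IsAffine ((⊤ : (Spec (CommRingCat.of (↑A ⧸ J))).Opens) : Scheme) := hTS
      haveI : IsAffine (U : Scheme) := hU
      exact IsAffine.of_isIso (Scheme.Hom.isPullback_resLE H hUST hUSX rfl).isoPullback.hom
    have hle : O ≤ pullback.fst p qJ ⁻¹ᵁ U := inf_le_left
    let ρ : A ⟶ Γ(Spec A, ⊤) := (Scheme.ΓSpecIso A).inv
    letI algB : Algebra ↑A Γ(X, U) := RingHom.toAlgebra (ρ ≫ p.appLE ⊤ U hUSX).hom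
    letI algP : Algebra Γ(X, U) Γ(pullback p qJ, O) :=
      RingHom.toAlgebra ((pullback.fst p qJ).appLE U O hle).hom
    have hiso := isIso_pushoutSection_of_isAffineOpen H hUST hUSX rfl hUS hTS hU
    have hPO := (isIso_pushoutSection_iff H hUST hUSX rfl).mp hiso
    have e1 : (qJ).appLE ⊤ ⊤ hUST = (qJ).appTop :=
      Scheme.Hom.appLE_eq_app (f := qJ) (U := ⊤)
    have hPOk : IsPushout (ρ ≫ p.appLE ⊤ U hUSX) (CommRingCat.ofHom (Ideal.Quotient.mk J))
        ((pullback.fst p qJ).appLE U O inf_le_left)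
        ((Scheme.ΓSpecIso (CommRingCat.of (↑A ⧸ J))).inv ≫
          (pullback.snd p qJ).appLE ⊤ O inf_le_right) :=
      hPO.of_iso (Scheme.ΓSpecIso A) (Iso.refl _) (Scheme.ΓSpecIso (CommRingCat.of (↑A ⧸ J)))
        (Iso.refl _)
        (by rw [Iso.refl_hom, Category.comp_id]
            show _ = _ ≫ (Scheme.ΓSpecIso A).inv ≫ _
            rw [Iso.hom_inv_id_assoc])
        (by rw [e1]; exact Scheme.ΓSpecIso_naturality _)
        (by rw [Iso.refl_hom, Iso.refl_hom, Category.comp_id, Category.id_comp])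
        (by rw [Iso.refl_hom, Category.comp_id, Iso.hom_inv_id_assoc])
    have hTens := CommRingCat.isPushout_tensorProduct ↑A Γ(X, U) (↑A ⧸ J)
    have hPO' : IsPushout (CommRingCat.ofHom (algebraMap ↑A Γ(X, U)))
        (CommRingCat.ofHom (algebraMap ↑A (↑A ⧸ J)))
        ((pullback.fst p qJ).appLE U O inf_le_left)
        ((Scheme.ΓSpecIso (CommRingCat.of (↑A ⧸ J))).inv ≫
          (pullback.snd p qJ).appLE ⊤ O inf_le_right) := hPOk
    let e₀ := hTens.isoIsPushout _ _ hPO'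
    let e : Γ(X, U) ⊗[↑A] (↑A ⧸ J) ≃ₐ[Γ(X, U)] Γ(pullback p qJ, O) :=
      AlgEquiv.ofRingEquiv (f := e₀.commRingCatIsoToRingEquiv) (by
        intro a
        have e1 := hTens.inl_isoIsPushout_hom _ _ hPO'
        exact congrArg (fun φ => φ.hom a) e1)
    -- module structures over `A`
    letI mAF : Module ↑A Γ(F, U) := Module.compHom _ (algebraMap ↑A Γ(X, U))
    haveI : IsScalarTower ↑A Γ(X, U) Γ(F, U) := IsScalarTower.of_algebraMap_smul fun _ _ => rfl
    letI mAG : ∀ i, Module ↑A Γ(G i, U) := fun i => Module.compHom _ (algebraMap ↑A Γ(X, U))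
    haveI : ∀ i, IsScalarTower ↑A Γ(X, U) Γ(G i, U) :=
      fun i => IsScalarTower.of_algebraMap_smul fun _ _ => rfl
    haveI flatG : ∀ i, Module.Flat ↑A Γ(G i, U) := by
      intro i
      have h1 : @Module.Flat Γ(Spec A, ⊤) Γ(G i, U) _ _
          (Module.compHom Γ(G i, U) (p.appLE ⊤ U hUSX).hom) :=
        FlatSecH8.flat_sections_of_flat_stalks p (G i) hU hUSX (fun x hxU =>
          (FlatSecH8.isFlatOverAt_iff_flat_stalk p (G i) hUS hUSX hxU).mp (hG i x))
      letI : Module Γ(Spec A, ⊤) Γ(G i, U) := Module.compHom Γ(G i, U) (p.appLE ⊤ U hUSX).hom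
      exact (TildeFlatH8.flat_iff_of_bijective ρ.hom (ConcreteCategory.bijective_of_isIso ρ)
        (fun a n => rfl)).mpr h1
    -- separation over the thickening
    let g := pullback.fst p qJ
    have Hsep : ∀ z : Γ(pullback p qJ, O) ⊗[Γ(X, U)] Γ(F, U),
        (∀ i, (SepH8.appLin (u i) U).baseChange Γ(pullback p qJ, O) z = 0) → z = 0 := by
      letI : Module Γ(X, U) Γ((Scheme.Modules.pullback g).obj F, O) :=
        Module.compHom _ (g.appLE U O hle).hom
      haveI : IsScalarTower Γ(X, U) Γ(pullback p qJ, O) Γ((Scheme.Modules.pullback g).obj F, O) :=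
        IsScalarTower.of_algebraMap_smul fun _ _ => rfl
      letI : ∀ i, Module Γ(X, U) Γ((Scheme.Modules.pullback g).obj (G i), O) := fun i =>
        Module.compHom _ (g.appLE U O hle).hom
      haveI : ∀ i, IsScalarTower Γ(X, U) Γ(pullback p qJ, O)
          Γ((Scheme.Modules.pullback g).obj (G i), O) :=
        fun i => IsScalarTower.of_algebraMap_smul fun _ _ => rfl
      refine sep_rev (A := Γ(X, U)) (B := Γ(pullback p qJ, O))
        (N := fun i => Γ(G i, U))
        (N' := fun i => Γ((Scheme.Modules.pullback g).obj (G i), O))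
        (fun i => SepH8.appLin (u i) U) (PBH8.cUVLin g F hle)
        (PBH8.isBaseChange_cUV g F hle hO hU)
        (fun i => PBH8.cUVLin g (G i) hle) (fun i => PBH8.isBaseChange_cUV g (G i) hle hO hU)
        (fun i => SepH8.appLin ((Scheme.Modules.pullback g).map (u i)) O) ?_ ?_
      · intro i m
        exact PBH8.cUV_naturality g (u i) hle m
      · intro m' hm'
        exact h0 O m' hm'
    have H0' : ∀ z : Γ(F, U) ⊗[↑A] (↑A ⧸ J),
        (∀ i, LinearMap.rTensor (↑A ⧸ J) ((SepH8.appLin (u i) U).restrictScalars ↑A) z = 0) →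
          z = 0 :=
      fun z hz => conv (A := ↑A) (R := Γ(X, U)) e (fun i => Γ(G i, U))
        (fun i => SepH8.appLin (u i) U) Hsep z hz
    refine mod_main (A := ↑A) J hJ hfree (fun i => Γ(G i, U))
      (fun i => (SepH8.appLin (u i) U).restrictScalars ↑A) H0' _ ?_
    intro i
    show (u i).app U (F.presheaf.map (homOfLE hUV).op t) = 0
    rw [QCohCrit.app_naturality, ht i, map_zero]
  have h1 := TopCat.Presheaf.germ_res_apply F.presheaf (homOfLE hUV) x hxU t
  rw [← h1, hres, map_zero, map_zero]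

end Sch

end Groth.Agent.Lib.SepModNilp
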