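import Groth.Agent.Lib.SepModField_lead
import Groth.Agent.Lib.SepModNilp_lead

/-! # Separating families of module homomorphisms: passage to the limit over finitely generated
subalgebras (lead) -/

set_option backward.isDefEq.respectTransparency false
set_option backward.isDefEq.respectTransparency.types false
set_option linter.unusedSimpArgs false
set_option linter.unusedVariables false
set_option linter.unusedSectionVars false
set_option linter.style.longLine false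
set_option linter.style.haveILetI false
set_option linter.unnecessarySimpa false
set_option maxHeartbeats 800000

universe u v

open CategoryTheory CategoryTheory.Limits AlgebraicGeometry Opposite TopologicalSpace TensorProduct

namespace Groth.Agent.Lib.SepModLim

open Groth.Agent.Lib.SepModField (rT_baseChange rT_smul ell ell_isLoc ell_baseChange)

section FG

variable {K : Type u} [CommRing K] {A B : Type u} [CommRing A] [CommRing B] [Algebra K A]
  [Algebra K B] {P : Type u} [CommRing P] [Algebra A P] (e : A ⊗[K] B ≃ₐ[A] P)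

lemma exists_fg (x y : A ⊗[K] B) : ∃ B₁ : Subalgebra K B, B₁.FG ∧
    (∃ x₁ : A ⊗[K] B₁, Algebra.TensorProduct.map (AlgHom.id A A) B₁.val x₁ = x) ∧
    (∃ y₁ : A ⊗[K] B₁, Algebra.TensorProduct.map (AlgHom.id A A) B₁.val y₁ = y) := by
  classical
  obtain ⟨S, hS⟩ := TensorProduct.exists_finset x
  obtain ⟨S', hS'⟩ := TensorProduct.exists_finset y
  have hx : x ∈ (Algebra.adjoin K (((S ∪ S').image fun j ↦ j.2 : Finset B) : Set B)).baseChange A :=
    hS ▸ Subalgebra.sum_mem _ fun s hs ↦ (Subalgebra.tmul_mem_baseChange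
      (Algebra.subset_adjoin (Finset.mem_coe.mpr
        (Finset.mem_image_of_mem _ (Finset.mem_union_left _ hs)))) s.1)
  have hy : y ∈ (Algebra.adjoin K (((S ∪ S').image fun j ↦ j.2 : Finset B) : Set B)).baseChange A :=
    hS' ▸ Subalgebra.sum_mem _ fun s hs ↦ (Subalgebra.tmul_mem_baseChange
      (Algebra.subset_adjoin (Finset.mem_coe.mpr
        (Finset.mem_image_of_mem _ (Finset.mem_union_right _ hs)))) s.1)
  exact ⟨_, Subalgebra.fg_adjoin_finset _, hx, hy⟩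

/-- `A ⊗ B₁ → A ⊗ B ≃ P`. -/
noncomputable def jj (B₁ : Subalgebra K B) : A ⊗[K] B₁ →ₐ[A] P :=
  (e : A ⊗[K] B →ₐ[A] P).comp (Algebra.TensorProduct.map (AlgHom.id A A) B₁.val)

theorem jj_mono {B₁ B₂ : Subalgebra K B} (hle : B₁ ≤ B₂) (x : A ⊗[K] B₁) :
    jj e B₁ x = jj e B₂
      (Algebra.TensorProduct.map (AlgHom.id A A) (Subalgebra.inclusion hle) x) := by
  induction x using TensorProduct.induction_on with
  | zero => simp
  | tmul a b => rfl
  | add x y hx hy => simp only [map_add, hx, hy]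

theorem jjM_mono {B₁ B₂ : Subalgebra K B} (hle : B₁ ≤ B₂) (M : Type u) [AddCommGroup M]
    [Module A M] (x : (A ⊗[K] B₁) ⊗[A] M) :
    (jj e B₁).toLinearMap.rTensor M x = (jj e B₂).toLinearMap.rTensor M
      ((Algebra.TensorProduct.map (AlgHom.id A A)
        (Subalgebra.inclusion hle)).toLinearMap.rTensor M x) := by
  induction x using TensorProduct.induction_on with
  | zero => simp
  | tmul t m =>
    rw [LinearMap.rTensor_tmul, LinearMap.rTensor_tmul, LinearMap.rTensor_tmul]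
    congr 1
    exact jj_mono e hle t
  | add x y hx hy => simp only [map_add, hx, hy]

theorem exists_fgM (M : Type u) [AddCommGroup M] [Module A M] (hh : P) (τ : P ⊗[A] M) :
    ∃ B₁ : Subalgebra K B, B₁.FG ∧ (∃ h₁ : A ⊗[K] B₁, jj e B₁ h₁ = hh) ∧
      (∃ τ₁ : (A ⊗[K] B₁) ⊗[A] M, (jj e B₁).toLinearMap.rTensor M τ₁ = τ) := by
  have key : ∀ τ : P ⊗[A] M, ∃ B₁ : Subalgebra K B, B₁.FG ∧
      ∃ τ₁ : (A ⊗[K] B₁) ⊗[A] M, (jj e B₁).toLinearMap.rTensor M τ₁ = τ := by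
    intro τ
    induction τ using TensorProduct.induction_on with
    | zero => exact ⟨⊥, Subalgebra.fg_bot, 0, map_zero _⟩
    | tmul p m =>
      obtain ⟨B₁, hfg, ⟨t₁, ht₁⟩, -⟩ := exists_fg (e.symm p) (e.symm p)
      refine ⟨B₁, hfg, t₁ ⊗ₜ m, ?_⟩
      rw [LinearMap.rTensor_tmul]
      congr 1
      show e (Algebra.TensorProduct.map (AlgHom.id A A) B₁.val t₁) = p
      rw [ht₁, AlgEquiv.apply_symm_apply]
    | add x y hx hy =>
      obtain ⟨B₁, hfg₁, x₁, hx₁⟩ := hx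
      obtain ⟨B₂, hfg₂, y₁, hy₁⟩ := hy
      refine ⟨B₁ ⊔ B₂, hfg₁.sup hfg₂,
        (Algebra.TensorProduct.map (AlgHom.id A A)
          (Subalgebra.inclusion (le_sup_left : B₁ ≤ B₁ ⊔ B₂))).toLinearMap.rTensor M x₁ +
        (Algebra.TensorProduct.map (AlgHom.id A A)
          (Subalgebra.inclusion (le_sup_right : B₂ ≤ B₁ ⊔ B₂))).toLinearMap.rTensor M y₁, ?_⟩
      rw [map_add, ← jjM_mono, ← jjM_mono, hx₁, hy₁]
  obtain ⟨B₁, hfg₁, τ₁, hτ₁⟩ := key τ
  obtain ⟨B₂, hfg₂, ⟨h₂, hh₂⟩, -⟩ := exists_fg (e.symm hh) (e.symm hh)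
  refine ⟨B₁ ⊔ B₂, hfg₁.sup hfg₂,
    ⟨Algebra.TensorProduct.map (AlgHom.id A A)
      (Subalgebra.inclusion (le_sup_right : B₂ ≤ B₁ ⊔ B₂)) h₂, ?_⟩,
    ⟨(Algebra.TensorProduct.map (AlgHom.id A A)
      (Subalgebra.inclusion (le_sup_left : B₁ ≤ B₁ ⊔ B₂))).toLinearMap.rTensor M τ₁, ?_⟩⟩
  · rw [← jj_mono]
    show e (Algebra.TensorProduct.map (AlgHom.id A A) B₂.val h₂) = hh
    rw [hh₂, AlgEquiv.apply_symm_apply]
  · rw [← jjM_mono, hτ₁]

theorem jjM_injective (B₁ : Subalgebra K B) (N : Type u) [AddCommGroup N] [Module A N]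
    [Module K N] [IsScalarTower K A N] [Module.Flat K N] :
    Function.Injective ((jj e B₁).toLinearMap.rTensor N) := by
  let j : A ⊗[K] B₁ →ₐ[A] A ⊗[K] B := Algebra.TensorProduct.map (AlgHom.id A A) B₁.val
  let ΨB : (A ⊗[K] B) ⊗[A] N ≃ₗ[A] N ⊗[K] B :=
    (TensorProduct.comm A (A ⊗[K] B) N) ≪≫ₗ (AlgebraTensorModule.cancelBaseChange K A A N B)
  let ΨB₁ : (A ⊗[K] B₁) ⊗[A] N ≃ₗ[A] N ⊗[K] B₁ :=
    (TensorProduct.comm A (A ⊗[K] B₁) N) ≪≫ₗ (AlgebraTensorModule.cancelBaseChange K A A N B₁)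
  have hinj : Function.Injective (LinearMap.lTensor N B₁.val.toLinearMap) :=
    Module.Flat.lTensor_preserves_injective_linearMap (M := N) (R := K)
      B₁.val.toLinearMap (by intro a b hab; exact Subtype.ext hab)
  have nat : ∀ x : (A ⊗[K] B₁) ⊗[A] N,
      ΨB (j.toLinearMap.rTensor N x) = LinearMap.lTensor N B₁.val.toLinearMap (ΨB₁ x) := by
    intro x
    induction x using TensorProduct.induction_on with
    | zero => simp
    | tmul t n =>
      induction t using TensorProduct.induction_on with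
      | zero => simp
      | tmul a b => simp [ΨB, ΨB₁, j]
      | add s t hs ht => simp only [TensorProduct.add_tmul, map_add, hs, ht]
    | add x y hx hy => simp only [map_add, hx, hy]
  have h1 : ∀ y : (A ⊗[K] B₁) ⊗[A] N,
      (e.symm.toLinearMap.rTensor N) ((jj e B₁).toLinearMap.rTensor N y) =
        j.toLinearMap.rTensor N y := by
    intro y
    induction y using TensorProduct.induction_on with
    | zero => simp
    | tmul t n =>
      show e.symm (e (j t)) ⊗ₜ[A] n = j t ⊗ₜ[A] n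
      rw [AlgEquiv.symm_apply_apply]
    | add x y hx hy => simp only [map_add, hx, hy]
  intro x x' hxx
  have h2 := congrArg (e.symm.toLinearMap.rTensor N) hxx
  rw [h1, h1] at h2
  have h3 := congrArg ΨB h2
  rw [nat, nat] at h3
  exact ΨB₁.injective (hinj h3)

include e in
theorem limM_main0 {Λ : Type v} {M : Type u} [AddCommGroup M] [Module A M] (N : Λ → Type u)
    [∀ l, AddCommGroup (N l)] [∀ l, Module A (N l)] [∀ l, Module K (N l)]
    [∀ l, IsScalarTower K A (N l)] [∀ l, Module.Flat K (N l)] (v : ∀ l, M →ₗ[A] N l)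
    (Hfg : ∀ (B₁ : Type u) [CommRing B₁] [Algebra K B₁] (b : B₁ →ₐ[K] B), Function.Injective b →
      Algebra.FiniteType K B₁ → ∀ (h₁ : A ⊗[K] B₁) (z₁ : (A ⊗[K] B₁) ⊗[A] M),
        (∀ l, ∃ n : ℕ, h₁ ^ n • (v l).baseChange (A ⊗[K] B₁) z₁ = 0) → ∃ n : ℕ, h₁ ^ n • z₁ = 0)
    (hh : P) {A' : Type u} [CommRing A'] [Algebra P A'] [Algebra A A'] [IsScalarTower A P A']
    [IsLocalization.Away hh A']
    (z : A' ⊗[A] M) (hz : ∀ l, (v l).baseChange A' z = 0) : z = 0 := by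
  classical
  haveI locM := ell_isLoc A P A' M hh
  haveI locN : ∀ l, IsLocalizedModule (Submonoid.powers hh) (ell A P A' (N l)) :=
    fun l => ell_isLoc A P A' (N l) hh
  obtain ⟨⟨z₀, ⟨_, n0, rfl⟩⟩, hz₀⟩ := IsLocalizedModule.surj (Submonoid.powers hh) (ell A P A' M) z
  have hz₀' : (hh ^ n0) • z = ell A P A' M z₀ := hz₀
  have h2 : ∀ l, ∃ n : ℕ, hh ^ n • (v l).baseChange P z₀ = 0 := by
    intro l
    have e1 : ell A P A' (N l) ((v l).baseChange P z₀) = 0 := by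
      rw [← ell_baseChange, ← hz₀', LinearMap.map_smul_of_tower, hz l, smul_zero]
    obtain ⟨⟨_, n, rfl⟩, hn⟩ :=
      (IsLocalizedModule.eq_zero_iff (Submonoid.powers hh) (ell A P A' (N l))).mp e1
    exact ⟨n, hn⟩
  obtain ⟨B₁, hfg, ⟨h₁, hh₁⟩, ⟨z₁, hz₁⟩⟩ := exists_fgM e M hh z₀
  obtain ⟨n, hn'⟩ := Hfg ↥B₁ B₁.val Subtype.val_injective
    ((Subalgebra.fg_iff_finiteType B₁).mp hfg) h₁ z₁ (by
      intro l
      obtain ⟨n, hn⟩ := h2 l
      refine ⟨n, ?_⟩
      apply jjM_injective e B₁ (N l)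
      show (jj e B₁).toLinearMap.rTensor (N l) (h₁ ^ n • (v l).baseChange (A ⊗[K] B₁) z₁) =
        (jj e B₁).toLinearMap.rTensor (N l) 0
      rw [rT_smul, map_pow, hh₁, ← rT_baseChange, hz₁, hn, map_zero])
  have h5 : hh ^ n • z₀ = 0 := by
    have := congrArg ((jj e B₁).toLinearMap.rTensor M) hn'
    rw [rT_smul, map_pow, hh₁, hz₁, map_zero] at this
    exact this
  have h6 : ell A P A' M z₀ = 0 :=
    (IsLocalizedModule.eq_zero_iff (Submonoid.powers hh) (ell A P A' M)).mpr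
      ⟨⟨hh ^ n, n, rfl⟩, h5⟩
  rw [h6] at hz₀'
  apply IsLocalizedModule.smul_injective (ell A P A' M) (⟨hh ^ n0, n0, rfl⟩ : Submonoid.powers hh)
  show (hh ^ n0) • z = (hh ^ n0) • (0 : A' ⊗[A] M)
  rw [hz₀', smul_zero]

end FG

section Transfer

variable {R : Type u} [CommRing R] {T P₁ : Type u} [CommRing T] [CommRing P₁] [Algebra R T]
  [Algebra R P₁] (e₁ : T ≃ₐ[R] P₁) (h₁ : T) {L₁ : Type u} [CommRing L₁] [Algebra P₁ L₁]
  [Algebra R L₁] [IsScalarTower R P₁ L₁] [IsLocalization.Away (e₁ h₁) L₁]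

include e₁ in
theorem loc_transfer {Λ : Type v} {M : Type u} [AddCommGroup M] [Module R M] (N : Λ → Type u)
    [∀ l, AddCommGroup (N l)] [∀ l, Module R (N l)] (v : ∀ l, M →ₗ[R] N l)
    (Hsep₁ : ∀ w : L₁ ⊗[R] M, (∀ l, (v l).baseChange L₁ w = 0) → w = 0)
    (z₁ : T ⊗[R] M) (hz₁ : ∀ l, ∃ n : ℕ, h₁ ^ n • (v l).baseChange T z₁ = 0) :
    ∃ n : ℕ, h₁ ^ n • z₁ = 0 := by
  let ψ : T →ₐ[R] L₁ := (IsScalarTower.toAlgHom R P₁ L₁).comp (e₁ : T →ₐ[R] P₁)
  have hψ : ∀ t, ψ t = algebraMap P₁ L₁ (e₁ t) := fun t => rfl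
  have hw : ψ.toLinearMap.rTensor M z₁ = 0 := by
    apply Hsep₁
    intro l
    rw [rT_baseChange]
    obtain ⟨n, hn⟩ := hz₁ l
    have h1 := congrArg (ψ.toLinearMap.rTensor (N l)) hn
    rw [rT_smul, map_zero, map_pow] at h1
    have hu : IsUnit (ψ h₁ ^ n) := by
      rw [hψ]
      exact (IsLocalization.Away.algebraMap_isUnit (e₁ h₁)).pow n
    exact (hu.smul_eq_zero).mp h1
  haveI locM := ell_isLoc R P₁ L₁ M (e₁ h₁)
  have hfac : ∀ y : T ⊗[R] M, ψ.toLinearMap.rTensor M y =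
      ell R P₁ L₁ M ((e₁ : T →ₐ[R] P₁).toLinearMap.rTensor M y) := by
    intro y
    induction y using TensorProduct.induction_on with
    | zero => simp
    | tmul t m => rfl
    | add a b ha hb => simp only [map_add, ha, hb]
  rw [hfac] at hw
  obtain ⟨⟨_, n, rfl⟩, hn⟩ :=
    (IsLocalizedModule.eq_zero_iff (Submonoid.powers (e₁ h₁)) (ell R P₁ L₁ M)).mp hw
  have hn' : (e₁ h₁) ^ n • (e₁ : T →ₐ[R] P₁).toLinearMap.rTensor M z₁ = 0 := hn
  refine ⟨n, ?_⟩
  have h3 : (e₁ : T →ₐ[R] P₁).toLinearMap.rTensor M (h₁ ^ n • z₁) = 0 := by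
    rw [rT_smul, map_pow]
    exact hn'
  have h4 : ∀ y : T ⊗[R] M, (e₁.symm : P₁ →ₐ[R] T).toLinearMap.rTensor M
      ((e₁ : T →ₐ[R] P₁).toLinearMap.rTensor M y) = y := by
    intro y
    induction y using TensorProduct.induction_on with
    | zero => simp
    | tmul t m =>
      show e₁.symm (e₁ t) ⊗ₜ[R] m = t ⊗ₜ[R] m
      rw [AlgEquiv.symm_apply_apply]
    | add a b ha hb => simp only [map_add, ha, hb]
  have h5 := congrArg ((e₁.symm : P₁ →ₐ[R] T).toLinearMap.rTensor M) h3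
  rw [h4, map_zero] at h5
  exact h5

end Transfer

section Sch

theorem affine_pushout_e {X : Scheme.{u}} (A B : CommRingCat.{u}) (a : A ⟶ B) (p : X ⟶ Spec A)
    {U : X.Opens} (hU : IsAffineOpen U) [instAB : Algebra ↑A ↑B] (ha : algebraMap ↑A ↑B = a.hom) :
    IsAffineOpen (pullback.fst p (Spec.map a) ⁻¹ᵁ U ⊓ pullback.snd p (Spec.map a) ⁻¹ᵁ ⊤) ∧
    (letI : Algebra ↑A Γ(X, U) :=
      RingHom.toAlgebra ((Scheme.ΓSpecIso A).inv ≫ p.appLE ⊤ U (fun _ _ => trivial)).hom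
     letI : Algebra Γ(X, U) Γ(pullback p (Spec.map a),
        pullback.fst p (Spec.map a) ⁻¹ᵁ U ⊓ pullback.snd p (Spec.map a) ⁻¹ᵁ ⊤) :=
       RingHom.toAlgebra ((pullback.fst p (Spec.map a)).appLE U _ inf_le_left).hom
     Nonempty (Γ(X, U) ⊗[↑A] ↑B ≃ₐ[Γ(X, U)] Γ(pullback p (Spec.map a),
        pullback.fst p (Spec.map a) ⁻¹ᵁ U ⊓ pullback.snd p (Spec.map a) ⁻¹ᵁ ⊤))) := by
  obtain rfl : instAB = a.hom.toAlgebra :=
    Algebra.algebra_ext _ _ (fun r => by rw [ha]; rfl)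
  letI instAB' : Algebra ↑A ↑B := a.hom.toAlgebra
  have hUS : IsAffineOpen (⊤ : (Spec A).Opens) := isAffineOpen_top _
  have hTS : IsAffineOpen (⊤ : (Spec B).Opens) := isAffineOpen_top _
  have hUSX : U ≤ p ⁻¹ᵁ ⊤ := fun _ _ => trivial
  have hUST : (⊤ : (Spec B).Opens) ≤ Spec.map a ⁻¹ᵁ ⊤ := fun _ _ => trivial
  have H : IsPullback (pullback.fst p (Spec.map a)) (pullback.snd p (Spec.map a)) p (Spec.map a) :=
    IsPullback.of_hasPullback _ _
  let O : (pullback p (Spec.map a)).Opens :=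
    pullback.fst p (Spec.map a) ⁻¹ᵁ U ⊓ pullback.snd p (Spec.map a) ⁻¹ᵁ ⊤
  have hO : IsAffineOpen O := by
    haveI : IsAffine ((⊤ : (Spec A).Opens) : Scheme) := hUS
    haveI : IsAffine ((⊤ : (Spec B).Opens) : Scheme) := hTS
    haveI : IsAffine (U : Scheme) := hU
    exact IsAffine.of_isIso (Scheme.Hom.isPullback_resLE H hUST hUSX rfl).isoPullback.hom
  refine ⟨hO, ?_⟩
  let ρ : A ⟶ Γ(Spec A, ⊤) := (Scheme.ΓSpecIso A).inv
  letI algB : Algebra ↑A Γ(X, U) := RingHom.toAlgebra (ρ ≫ p.appLE ⊤ U hUSX).hom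
  letI algP : Algebra Γ(X, U) Γ(pullback p (Spec.map a), O) :=
    RingHom.toAlgebra ((pullback.fst p (Spec.map a)).appLE U O inf_le_left).hom
  have hiso := isIso_pushoutSection_of_isAffineOpen H hUST hUSX rfl hUS hTS hU
  have hPO := (isIso_pushoutSection_iff H hUST hUSX rfl).mp hiso
  have e1 : (Spec.map a).appLE ⊤ ⊤ hUST = (Spec.map a).appTop :=
    Scheme.Hom.appLE_eq_app (f := Spec.map a) (U := ⊤)
  have hPOk : IsPushout (ρ ≫ p.appLE ⊤ U hUSX) a
      ((pullback.fst p (Spec.map a)).appLE U O inf_le_left)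
      ((Scheme.ΓSpecIso B).inv ≫ (pullback.snd p (Spec.map a)).appLE ⊤ O inf_le_right) :=
    hPO.of_iso (Scheme.ΓSpecIso A) (Iso.refl _) (Scheme.ΓSpecIso B) (Iso.refl _)
      (by rw [Iso.refl_hom, Category.comp_id]
          show _ = _ ≫ (Scheme.ΓSpecIso A).inv ≫ _
          rw [Iso.hom_inv_id_assoc])
      (by rw [e1]; exact Scheme.ΓSpecIso_naturality _)
      (by rw [Iso.refl_hom, Iso.refl_hom, Category.comp_id, Category.id_comp])
      (by rw [Iso.refl_hom, Category.comp_id, Iso.hom_inv_id_assoc])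
  have hTens := CommRingCat.isPushout_tensorProduct ↑A Γ(X, U) ↑B
  have hPO' : IsPushout (CommRingCat.ofHom (algebraMap ↑A Γ(X, U)))
      (CommRingCat.ofHom (algebraMap ↑A ↑B))
      ((pullback.fst p (Spec.map a)).appLE U O inf_le_left)
      ((Scheme.ΓSpecIso B).inv ≫ (pullback.snd p (Spec.map a)).appLE ⊤ O inf_le_right) := hPOk
  let e₀ := hTens.isoIsPushout _ _ hPO'
  exact ⟨AlgEquiv.ofRingEquiv (f := e₀.commRingCatIsoToRingEquiv) (by
    intro a
    have e1 := hTens.inl_isoIsPushout_hom _ _ hPO'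
    exact congrArg (fun φ => φ.hom a) e1)⟩

theorem main5916 {X : Scheme.{u}} (A A' : CommRingCat.{u}) (φ : A ⟶ A')
    (p : X ⟶ Spec A) (F : X.Modules) [F.IsQuasicoherent] {ι : Type u} (G : ι → X.Modules)
    [∀ i, (G i).IsQuasicoherent] (hG : ∀ i, FlatMod.IsFlatOver p (G i)) (u : ∀ i, F ⟶ G i)
    (hfg : ∀ (B : CommRingCat.{u}) (a : A ⟶ B) (b : B ⟶ A'), a ≫ b = φ →
      Function.Injective b.hom → a.hom.FiniteType →
      ∀ (V : (pullback p (Spec.map a)).Opens)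
        (t : Γ((Scheme.Modules.pullback (pullback.fst p (Spec.map a))).obj F, V)),
        (∀ i, ((Scheme.Modules.pullback (pullback.fst p (Spec.map a))).map (u i)).app V t = 0) →
          t = 0)
    (V' : (pullback p (Spec.map φ)).Opens)
    (t : Γ((Scheme.Modules.pullback (pullback.fst p (Spec.map φ))).obj F, V'))
    (ht : ∀ i, ((Scheme.Modules.pullback (pullback.fst p (Spec.map φ))).map (u i)).app V' t = 0) :
    t = 0 := by
  refine SepModField.separating_pullback_of_basis (pullback.fst p (Spec.map φ)) F G u V' ?_ t ht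
  intro x hx
  obtain ⟨U, hU, hxU, -⟩ := Opens.isBasis_iff_nbhd.mp X.isBasis_affineOpens
    (Opens.mem_top ((pullback.fst p (Spec.map φ)).base x))
  have hUS : IsAffineOpen (⊤ : (Spec A).Opens) := isAffineOpen_top _
  have hUSX : U ≤ p ⁻¹ᵁ ⊤ := fun _ _ => trivial
  let ρ : A ⟶ Γ(Spec A, ⊤) := (Scheme.ΓSpecIso A).inv
  letI algAR : Algebra ↑A Γ(X, U) := RingHom.toAlgebra (ρ ≫ p.appLE ⊤ U hUSX).hom
  letI algAA' : Algebra ↑A ↑A' := φ.hom.toAlgebra
  let O : (pullback p (Spec.map φ)).Opens :=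
    pullback.fst p (Spec.map φ) ⁻¹ᵁ U ⊓ pullback.snd p (Spec.map φ) ⁻¹ᵁ ⊤
  letI algP : Algebra Γ(X, U) Γ(pullback p (Spec.map φ), O) :=
    RingHom.toAlgebra ((pullback.fst p (Spec.map φ)).appLE U O inf_le_left).hom
  obtain ⟨hO, ⟨e⟩⟩ := affine_pushout_e A A' φ p hU (instAB := algAA') rfl
  have hxO : x ∈ O := ⟨hxU, trivial⟩
  obtain ⟨hh, hDle, hxD⟩ := hO.exists_basicOpen_le (V := O ⊓ V')
    ⟨x, (⟨hxO, hx⟩ : x ∈ O ⊓ V')⟩ hxO
  have hDO : (pullback p (Spec.map φ)).basicOpen hh ≤ O := hDle.trans inf_le_left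
  have hDV : (pullback p (Spec.map φ)).basicOpen hh ≤ V' := hDle.trans inf_le_right
  have hD : IsAffineOpen ((pullback p (Spec.map φ)).basicOpen hh) := hO.basicOpen hh
  have hle : (pullback p (Spec.map φ)).basicOpen hh ≤ pullback.fst p (Spec.map φ) ⁻¹ᵁ U :=
    hDO.trans inf_le_left
  refine ⟨U, hU, (pullback p (Spec.map φ)).basicOpen hh, hD, hle, hxD, hDV, ?_⟩
  letI algAA'' : Algebra Γ(X, U) Γ(pullback p (Spec.map φ), (pullback p (Spec.map φ)).basicOpen hh) :=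
    ((pullback.fst p (Spec.map φ)).appLE U ((pullback p (Spec.map φ)).basicOpen hh) hle).hom.toAlgebra
  haveI : IsScalarTower Γ(X, U) Γ(pullback p (Spec.map φ), O)
      Γ(pullback p (Spec.map φ), (pullback p (Spec.map φ)).basicOpen hh) := by
    refine IsScalarTower.of_algebraMap_eq' ?_
    change ((pullback.fst p (Spec.map φ)).appLE U ((pullback p (Spec.map φ)).basicOpen hh) hle).hom =
      ((pullback p (Spec.map φ)).presheaf.map (homOfLE hDO).op).hom.comp
        ((pullback.fst p (Spec.map φ)).appLE U O inf_le_left).hom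
    rw [← CommRingCat.hom_comp, Scheme.Hom.appLE_map]
  haveI : IsLocalization.Away hh
      Γ(pullback p (Spec.map φ), (pullback p (Spec.map φ)).basicOpen hh) :=
    hO.isLocalization_basicOpen hh
  -- module structures over `A`
  letI mAF : Module ↑A Γ(F, U) := Module.compHom _ (algebraMap ↑A Γ(X, U))
  haveI : IsScalarTower ↑A Γ(X, U) Γ(F, U) := IsScalarTower.of_algebraMap_smul fun _ _ => rfl
  letI mAG : ∀ i, Module ↑A Γ(G i, U) := fun i => Module.compHom _ (algebraMap ↑A Γ(X, U))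
  haveI : ∀ i, IsScalarTower ↑A Γ(X, U) Γ(G i, U) :=
    fun i => IsScalarTower.of_algebraMap_smul fun _ _ => rfl
  haveI flatG : ∀ i, Module.Flat ↑A Γ(G i, U) := by
    intro i
    have h1 : @Module.Flat Γ(Spec A, ⊤) Γ(G i, U) _ _
        (Module.compHom Γ(G i, U) (p.appLE ⊤ U hUSX).hom) :=
      FlatSecH8.flat_sections_of_flat_stalks p (G i) hU hUSX (fun x hxU =>
        (FlatSecH8.isFlatOverAt_iff_flat_stalk p (G i) hUS hUSX hxU).mp (hG i x))
    letI : Module Γ(Spec A, ⊤) Γ(G i, U) := Module.compHom Γ(G i, U) (p.appLE ⊤ U hUSX).hom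
    exact (TildeFlatH8.flat_iff_of_bijective ρ.hom (ConcreteCategory.bijective_of_isIso ρ)
      (fun a n => rfl)).mpr h1
  intro z hz
  refine limM_main0 (K := ↑A) (A := Γ(X, U)) (B := ↑A') e (fun i => Γ(G i, U))
    (fun i => SepH8.appLin (u i) U) ?_ hh z hz
  -- the finitely generated case
  intro B₁ _ _ b hb hft h₁ z₁ hz₁
  let a : A ⟶ CommRingCat.of B₁ := CommRingCat.ofHom (algebraMap ↑A B₁)
  let g₁ := pullback.fst p (Spec.map a)
  have hsep₁ := hfg (CommRingCat.of B₁) a (CommRingCat.ofHom b.toRingHom)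
    (CommRingCat.hom_ext (RingHom.ext (fun r => b.commutes r))) hb
    (RingHom.finiteType_algebraMap.mpr hft)
  let O₁ : (pullback p (Spec.map a)).Opens :=
    pullback.fst p (Spec.map a) ⁻¹ᵁ U ⊓ pullback.snd p (Spec.map a) ⁻¹ᵁ ⊤
  letI algP₁ : Algebra Γ(X, U) Γ(pullback p (Spec.map a), O₁) :=
    RingHom.toAlgebra ((pullback.fst p (Spec.map a)).appLE U O₁ inf_le_left).hom
  obtain ⟨hO₁, ⟨e₁⟩⟩ := affine_pushout_e A (CommRingCat.of B₁) a p hU rfl
  let D₁ := (pullback p (Spec.map a)).basicOpen (e₁ h₁)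
  have hD₁O : D₁ ≤ O₁ := (pullback p (Spec.map a)).basicOpen_le _
  have hD₁ : IsAffineOpen D₁ := hO₁.basicOpen (e₁ h₁)
  have hle₁ : D₁ ≤ g₁ ⁻¹ᵁ U := hD₁O.trans inf_le_left
  letI algL₁ : Algebra Γ(X, U) Γ(pullback p (Spec.map a), D₁) :=
    (g₁.appLE U D₁ hle₁).hom.toAlgebra
  haveI : IsScalarTower Γ(X, U) Γ(pullback p (Spec.map a), O₁)
      Γ(pullback p (Spec.map a), D₁) := by
    refine IsScalarTower.of_algebraMap_eq' ?_
    change (g₁.appLE U D₁ hle₁).hom =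
      ((pullback p (Spec.map a)).presheaf.map (homOfLE hD₁O).op).hom.comp
        ((pullback.fst p (Spec.map a)).appLE U O₁ inf_le_left).hom
    rw [← CommRingCat.hom_comp, Scheme.Hom.appLE_map]
  haveI : IsLocalization.Away (e₁ h₁) Γ(pullback p (Spec.map a), D₁) :=
    hO₁.isLocalization_basicOpen (e₁ h₁)
  have Hsep₁ : ∀ w : Γ(pullback p (Spec.map a), D₁) ⊗[Γ(X, U)] Γ(F, U),
      (∀ i, (SepH8.appLin (u i) U).baseChange Γ(pullback p (Spec.map a), D₁) w = 0) → w = 0 := by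
    letI : Module Γ(X, U) Γ((Scheme.Modules.pullback g₁).obj F, D₁) :=
      Module.compHom _ (g₁.appLE U D₁ hle₁).hom
    haveI : IsScalarTower Γ(X, U) Γ(pullback p (Spec.map a), D₁)
        Γ((Scheme.Modules.pullback g₁).obj F, D₁) :=
      IsScalarTower.of_algebraMap_smul fun _ _ => rfl
    letI : ∀ i, Module Γ(X, U) Γ((Scheme.Modules.pullback g₁).obj (G i), D₁) := fun i =>
      Module.compHom _ (g₁.appLE U D₁ hle₁).hom
    haveI : ∀ i, IsScalarTower Γ(X, U) Γ(pullback p (Spec.map a), D₁)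
        Γ((Scheme.Modules.pullback g₁).obj (G i), D₁) :=
      fun i => IsScalarTower.of_algebraMap_smul fun _ _ => rfl
    refine SepModNilp.sep_rev (A := Γ(X, U)) (B := Γ(pullback p (Spec.map a), D₁))
      (N := fun i => Γ(G i, U))
      (N' := fun i => Γ((Scheme.Modules.pullback g₁).obj (G i), D₁))
      (fun i => SepH8.appLin (u i) U) (PBH8.cUVLin g₁ F hle₁)
      (PBH8.isBaseChange_cUV g₁ F hle₁ hD₁ hU)
      (fun i => PBH8.cUVLin g₁ (G i) hle₁) (fun i => PBH8.isBaseChange_cUV g₁ (G i) hle₁ hD₁ hU)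
      (fun i => SepH8.appLin ((Scheme.Modules.pullback g₁).map (u i)) D₁) ?_ ?_
    · intro i m
      exact PBH8.cUV_naturality g₁ (u i) hle₁ m
    · intro m' hm'
      exact hsep₁ D₁ m' hm'
  exact loc_transfer (R := Γ(X, U)) e₁ h₁ (fun i => Γ(G i, U)) (fun i => SepH8.appLin (u i) U)
    Hsep₁ z₁ hz₁

end Sch

end Groth.Agent.Lib.SepModLim
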