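import Mathlib
import Groth.Agent.S5061
import Groth.Agent.Lib.PSSep_helper3
import Groth.Agent.Lib.FinitePS_helper3
import Groth.Agent.Lib.PerfectGR_helper3

/-!
# Separable normalisation after a purely inseparable base extension (S5992), part 1 (helper3)

* `isPrime_nilradical`, `isLocalRing_of_pow_mem_range`, `isField_of_pow_mem_range`: ring extensions
  `f : R → T` in which every element has a power in the range of `f`.
* `isGeometricallyRegular_of_isGeometricallyReduced`: a field extension which is geometrically
  reduced is geometrically regular (finite extensions).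
* `isArtinianRing_tensor`: for a complete Noetherian local domain `A` with residue field finite
  over `k` and a purely inseparable algebraic extension `P/k`, `Frac A ⊗_k P` is Artinian.
* `exists_purelyInseparable_geomReduced`: a finite purely inseparable `k'/k` with
  `(k' ⊗_k Frac A)_red` geometrically reduced over `k'`.
APPEND-ONLY once landed.
-/

set_option autoImplicit false

namespace Groth.Agent.Lib.SepNormH3

open TensorProduct IsLocalRing

universe u

section Abstract

variable {R T : Type*} [CommRing R] [CommRing T] (f : R →+* T)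
  (hf : Function.Injective f) (H : ∀ x : T, ∃ n > 0, x ^ n ∈ f.range)

include hf H in
theorem isPrime_nilradical [IsDomain R] : (nilradical T).IsPrime := by
  haveI : Nontrivial T := hf.nontrivial
  refine ⟨?_, ?_⟩
  · rw [Ne, Ideal.eq_top_iff_one, mem_nilradical]
    rintro ⟨n, hn⟩
    rw [one_pow] at hn
    exact one_ne_zero hn
  · intro x y hxy
    rw [mem_nilradical] at hxy
    obtain ⟨n, hn, a, ha⟩ := H x
    obtain ⟨m, hm, b, hb⟩ := H y
    have h1 : IsNilpotent (f (a ^ m * b ^ n)) := by
      have h2 : f (a ^ m * b ^ n) = (x * y) ^ (n * m) := by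
        rw [map_mul, map_pow, map_pow, ha, hb, ← pow_mul, ← pow_mul, mul_comm m n, ← mul_pow]
      rw [h2]
      exact hxy.pow_of_pos (Nat.mul_ne_zero hn.ne' hm.ne')
    obtain ⟨N, hN⟩ := h1
    rw [← map_pow, map_eq_zero_iff f hf] at hN
    have h3 : a ^ m * b ^ n = 0 := IsNilpotent.eq_zero ⟨N, hN⟩
    rcases mul_eq_zero.1 h3 with h4 | h4
    · left
      have ha0 : a = 0 := IsNilpotent.eq_zero ⟨m, h4⟩
      rw [mem_nilradical]
      refine ⟨n, ?_⟩
      rw [← ha, ha0, map_zero]
    · right
      have hb0 : b = 0 := IsNilpotent.eq_zero ⟨n, h4⟩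
      rw [mem_nilradical]
      refine ⟨m, ?_⟩
      rw [← hb, hb0, map_zero]

include H in
theorem isIntegral_of_pow_mem_range : f.IsIntegral := by
  intro x
  obtain ⟨n, hn, y, hy⟩ := H x
  letI := f.toAlgebra
  exact IsIntegral.of_pow hn (hy ▸ f.isIntegralElem_map)

include hf H in
theorem isLocalRing_of_pow_mem_range [IsLocalRing R] : IsLocalRing T := by
  haveI : Nontrivial T := hf.nontrivial
  have hint : f.IsIntegral := isIntegral_of_pow_mem_range f H
  obtain ⟨M₀, hM₀⟩ := Ideal.exists_maximal T
  have key : ∀ M : Ideal T, M.IsMaximal → ∀ (x : T) (n : ℕ) (a : R), 0 < n → f a = x ^ n →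
      (x ∈ M ↔ a ∈ maximalIdeal R) := by
    intro M hM x n a hn ha
    have hc : M.comap f = maximalIdeal R :=
      IsLocalRing.eq_maximalIdeal (Ideal.isMaximal_comap_of_isIntegral_of_isMaximal' f hint M)
    rw [← hc, Ideal.mem_comap, ha]
    exact (hM.isPrime.pow_mem_iff_mem n hn).symm
  refine IsLocalRing.of_unique_max_ideal ⟨M₀, hM₀, fun M hM => ?_⟩
  ext x
  obtain ⟨n, hn, a, ha⟩ := H x
  rw [key M hM x n a hn ha, key M₀ hM₀ x n a hn ha]

include hf H in
theorem isField_of_pow_mem_range (hR : IsField R) [IsReduced T] : IsField T := by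
  haveI : Nontrivial R := hR.nontrivial
  haveI : Nontrivial T := hf.nontrivial
  refine ⟨exists_pair_ne T, mul_comm, fun {x} hx => ?_⟩
  obtain ⟨n, hn, a, ha⟩ := H x
  have ha0 : a ≠ 0 := by
    rintro rfl
    rw [map_zero] at ha
    exact hx (IsNilpotent.eq_zero ⟨n, ha.symm⟩)
  obtain ⟨b, hb⟩ := hR.mul_inv_cancel ha0
  refine ⟨x ^ (n - 1) * f b, ?_⟩
  rw [← mul_assoc, ← pow_succ', Nat.sub_add_cancel hn, ← ha, ← map_mul, hb, map_one]

end Abstract

section GeomReg

/-- a geometrically reduced field extension is geometrically regular. -/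
theorem isGeometricallyRegular_of_isGeometricallyReduced (k F : Type u) [Field k] [CommRing F]
    [Algebra k F] (hF : IsField F) [Algebra.IsGeometricallyReduced k F] :
    CAlg.IsGeometricallyRegular k F := by
  intro k'' _ _ hfin
  haveI := hfin
  haveI : Algebra.IsAlgebraic k k'' := Algebra.IsAlgebraic.of_finite k k''
  haveI hred : IsReduced (k'' ⊗[k] F) := inferInstance
  haveI hart : IsArtinianRing (k'' ⊗[k] F) := by
    letI := hF.toField
    haveI : IsArtinianRing (F ⊗[k] k'') := IsArtinianRing.of_finite F (F ⊗[k] k'')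
    exact (Algebra.TensorProduct.comm k F k'').toRingEquiv.isArtinianRing
  haveI : IsNoetherianRing (k'' ⊗[k] F) := inferInstance
  rw [isRegularRing_iff]
  intro q hq
  have hfld : IsField (Localization.AtPrime q) :=
    IsArtinianRing.isField_of_isReduced_of_isLocalRing (Localization.AtPrime q)
  haveI : IsDomain (Localization.AtPrime q) := hfld.isDomain
  haveI : IsPrincipalIdealRing (Localization.AtPrime q) := hfld.isPrincipalIdealRing
  infer_instance

end GeomReg

section Artinian

theorem isArtinianRing_tensor_aux (k A K : Type u) [Field k] [CommRing A] [IsDomain A]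
    [IsNoetherianRing A] [IsLocalRing A]
    [Algebra k A] [IsAdicComplete (maximalIdeal A) A] [Module.Finite k (ResidueField A)]
    [Field K] [Algebra A K] [IsFractionRing A K] [Algebra k K] [IsScalarTower k A K]
    (P : Type u) [Field P] [Algebra k P] [IsPurelyInseparable k P] :
    IsArtinianRing (K ⊗[k] P) := by
  classical
  obtain ⟨n, w, hinj, -, hfin, -⟩ :=
    Groth.Agent.Lib.FinitePSH3.exists_powerSeries_finite (k₀ := k) (A := A)
  haveI : IsDomain (MvPowerSeries (Fin n) k) := NoZeroDivisors.to_isDomain _
  letI : Algebra (MvPowerSeries (Fin n) k) A := w.toRingHom.toAlgebra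
  haveI : IsScalarTower k (MvPowerSeries (Fin n) k) A :=
    IsScalarTower.of_algebraMap_eq fun c => (w.commutes c).symm
  letI : Algebra (MvPowerSeries (Fin n) k) K :=
    ((algebraMap A K).comp (algebraMap (MvPowerSeries (Fin n) k) A)).toAlgebra
  haveI : IsScalarTower (MvPowerSeries (Fin n) k) A K :=
    IsScalarTower.of_algebraMap_eq fun _ => rfl
  haveI : IsScalarTower k (MvPowerSeries (Fin n) k) K :=
    IsScalarTower.of_algebraMap_eq fun c => by
      rw [IsScalarTower.algebraMap_apply k A K,
        IsScalarTower.algebraMap_apply k (MvPowerSeries (Fin n) k) A,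
        ← IsScalarTower.algebraMap_apply (MvPowerSeries (Fin n) k) A K]
  have hBL : Function.Injective (algebraMap (MvPowerSeries (Fin n) k) K) :=
    (IsFractionRing.injective A K).comp hinj
  haveI : FaithfulSMul (MvPowerSeries (Fin n) k) K :=
    (faithfulSMul_iff_algebraMap_injective _ _).2 hBL
  letI : Algebra (FractionRing (MvPowerSeries (Fin n) k)) K :=
    FractionRing.liftAlgebra (MvPowerSeries (Fin n) k) K
  haveI : IsScalarTower (MvPowerSeries (Fin n) k) (FractionRing (MvPowerSeries (Fin n) k)) K :=
    FractionRing.isScalarTower_liftAlgebra (MvPowerSeries (Fin n) k) K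
  haveI : IsScalarTower k (FractionRing (MvPowerSeries (Fin n) k)) K :=
    IsScalarTower.of_algebraMap_eq fun c => by
      rw [IsScalarTower.algebraMap_apply k (MvPowerSeries (Fin n) k)
          (FractionRing (MvPowerSeries (Fin n) k)),
        ← IsScalarTower.algebraMap_apply (MvPowerSeries (Fin n) k)
          (FractionRing (MvPowerSeries (Fin n) k)) K,
        ← IsScalarTower.algebraMap_apply k (MvPowerSeries (Fin n) k) K]
  haveI : Module.Finite (MvPowerSeries (Fin n) k) A := hfin
  haveI : Algebra.IsAlgebraic (MvPowerSeries (Fin n) k) A := Algebra.IsIntegral.isAlgebraic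
  haveI : Module.IsTorsionFree (MvPowerSeries (Fin n) k) K :=
    Module.isTorsionFree_iff_algebraMap_injective.2 hBL
  haveI : Algebra.IsAlgebraic (MvPowerSeries (Fin n) k) K :=
    (IsFractionRing.isAlgebraic_iff' (MvPowerSeries (Fin n) k) A K).1 inferInstance
  haveI : Algebra.IsAlgebraic (FractionRing (MvPowerSeries (Fin n) k)) K :=
    (IsFractionRing.comap_isAlgebraic_iff (A := MvPowerSeries (Fin n) k)
      (K := FractionRing (MvPowerSeries (Fin n) k)) (C := K)).1 inferInstance
  haveI : Algebra.EssFiniteType A K :=
    Algebra.EssFiniteType.of_isLocalization K (nonZeroDivisors A)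
  haveI : Algebra.EssFiniteType (MvPowerSeries (Fin n) k) K :=
    Algebra.EssFiniteType.comp (MvPowerSeries (Fin n) k) A K
  haveI : Algebra.EssFiniteType (FractionRing (MvPowerSeries (Fin n) k)) K :=
    Algebra.EssFiniteType.of_comp (MvPowerSeries (Fin n) k) _ K
  haveI hfinLK : Module.Finite (FractionRing (MvPowerSeries (Fin n) k)) K :=
    Algebra.finite_of_essFiniteType_of_isAlgebraic
  haveI := Groth.Agent.Lib.PSSepH3.isGeometricallyReduced_frac k n
  -- `L ⊗ P` is a field
  haveI : Algebra.IsAlgebraic k P := inferInstance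
  haveI hredPL : IsReduced (P ⊗[k] FractionRing (MvPowerSeries (Fin n) k)) := inferInstance
  haveI hredLP : IsReduced (FractionRing (MvPowerSeries (Fin n) k) ⊗[k] P) :=
    isReduced_of_injective
      (Algebra.TensorProduct.comm k (FractionRing (MvPowerSeries (Fin n) k)) P).toRingEquiv.toRingHom
      (Algebra.TensorProduct.comm k (FractionRing (MvPowerSeries (Fin n) k)) P).injective
  have hinjL : Function.Injective (algebraMap (FractionRing (MvPowerSeries (Fin n) k))
      (FractionRing (MvPowerSeries (Fin n) k) ⊗[k] P)) :=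
    Algebra.TensorProduct.includeLeft_injective
      (S := FractionRing (MvPowerSeries (Fin n) k)) (algebraMap k P).injective
  have hF₀ : IsField (FractionRing (MvPowerSeries (Fin n) k) ⊗[k] P) :=
    isField_of_pow_mem_range _ hinjL
      (fun x => IsPurelyInseparable.exists_pow_mem_range_tensorProduct x)
      (Field.toIsField _)
  haveI hartF₀ : IsArtinianRing (FractionRing (MvPowerSeries (Fin n) k) ⊗[k] P) := by
    letI := hF₀.toField
    infer_instance
  haveI : IsArtinianRing ((FractionRing (MvPowerSeries (Fin n) k) ⊗[k] P)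
      ⊗[FractionRing (MvPowerSeries (Fin n) k)] K) := by
    have h := IsArtinianRing.of_finite (FractionRing (MvPowerSeries (Fin n) k) ⊗[k] P)
      ((FractionRing (MvPowerSeries (Fin n) k) ⊗[k] P)
        ⊗[FractionRing (MvPowerSeries (Fin n) k)] K)
    exact h
  haveI : IsArtinianRing (K ⊗[FractionRing (MvPowerSeries (Fin n) k)]
      (FractionRing (MvPowerSeries (Fin n) k) ⊗[k] P)) :=
    (Algebra.TensorProduct.comm (FractionRing (MvPowerSeries (Fin n) k))
      (FractionRing (MvPowerSeries (Fin n) k) ⊗[k] P) K).toRingEquiv.isArtinianRing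
  exact (Algebra.TensorProduct.cancelBaseChange k (FractionRing (MvPowerSeries (Fin n) k))
    K K P).toRingEquiv.isArtinianRing

variable (k A : Type u) [Field k] [CommRing A] [IsDomain A] [IsNoetherianRing A] [IsLocalRing A]
  [Algebra k A] [IsAdicComplete (maximalIdeal A) A] [Module.Finite k (ResidueField A)]

theorem isArtinianRing_tensor (P : Type u) [Field P] [Algebra k P] [IsPurelyInseparable k P] :
    IsArtinianRing (FractionRing A ⊗[k] P) :=
  isArtinianRing_tensor_aux k A (FractionRing A) P

end Artinian

section Exists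

variable (k A : Type u) [Field k] [CommRing A] [IsDomain A]
  [IsNoetherianRing A] [IsLocalRing A]
  [Algebra k A] [IsAdicComplete (maximalIdeal A) A] [Module.Finite k (ResidueField A)]

theorem exists_purelyInseparable_geomReduced (p : ℕ) [hE : ExpChar k p] :
    ∃ (k' : Type u) (_ : Field k') (_ : Algebra k k'), Module.Finite k k' ∧
      IsPurelyInseparable k k' ∧
      Algebra.IsGeometricallyReduced k'
        ((k' ⊗[k] FractionRing A) ⧸ nilradical (k' ⊗[k] FractionRing A)) := by
  rcases hE with _ | hp
  · -- characteristic zero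
    refine ⟨k, inferInstance, inferInstance, inferInstance, inferInstance, ?_⟩
    haveI : Algebra.IsGeometricallyReduced k (FractionRing A) :=
      Groth.Agent.Lib.PerfectGRH3.isGeometricallyReduced_of_perfectField k (FractionRing A)
    have hker : ∀ t ∈ nilradical (k ⊗[k] FractionRing A),
        (Algebra.TensorProduct.lid k (FractionRing A)).toAlgHom t = 0 := by
      intro t ht
      rw [mem_nilradical] at ht
      exact IsNilpotent.eq_zero (ht.map (Algebra.TensorProduct.lid k (FractionRing A)).toAlgHom)
    refine Algebra.IsGeometricallyReduced.of_injective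
      (Ideal.Quotient.liftₐ (nilradical (k ⊗[k] FractionRing A))
        (Algebra.TensorProduct.lid k (FractionRing A)).toAlgHom hker) ?_
    rw [injective_iff_map_eq_zero]
    intro y hy
    obtain ⟨t, rfl⟩ := Ideal.Quotient.mk_surjective y
    have h1 : (Algebra.TensorProduct.lid k (FractionRing A)) t = 0 := hy
    have h2 : t = 0 := by
      rwa [EmbeddingLike.map_eq_zero_iff] at h1
    rw [h2, map_zero]
  · haveI : Fact p.Prime := ⟨hp⟩
    letI : Algebra k (PerfectClosure k p) := (PerfectClosure.of k p).toAlgebra
    haveI : IsPRadical (algebraMap k (PerfectClosure k p)) p := PerfectClosure.isPRadical k p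
    haveI : IsPurelyInseparable k (PerfectClosure k p) :=
      IsPRadical.isPurelyInseparable k (PerfectClosure k p) p
    have hart := isArtinianRing_tensor k A (PerfectClosure k p)
    exact (Groth.Agent.S5061.result p k (FractionRing A) (PerfectClosure k p)).1 hart

end Exists

end Groth.Agent.Lib.SepNormH3
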