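import Mathlib
import Groth.Agent.Lib.SepNorm1_helper3
import Groth.Agent.Lib.IntegralHeight_helper5
import Groth.Agent.Lib.CompleteIC_helper3
import Groth.Agent.Lib.NagTfae5_helper3

/-!
# Separable normalisation after a purely inseparable base extension (S5992), part 2 (helper3)

The ring `B = (k' ⊗_k A)_red` for a finite purely inseparable extension `k'/k` and a complete
Noetherian local domain `A`: it is a complete Noetherian local domain of the same dimension, with
residue field finite over `k'`, and its fraction field is `(k' ⊗_k Frac A)_red`.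
APPEND-ONLY once landed.
-/

set_option autoImplicit false

namespace Groth.Agent.Lib.SepNormH3

open TensorProduct IsLocalRing

universe u

section Incl

variable (k C k' : Type u) [Field k] [CommRing C] [Algebra k C] [Field k'] [Algebra k k']

/-- the canonical ring map `C → k' ⊗ C`. -/
noncomputable abbrev inclR : C →+* k' ⊗[k] C :=
  (Algebra.TensorProduct.includeRight : C →ₐ[k] k' ⊗[k] C).toRingHom

theorem inclR_apply (c : C) : inclR k C k' c = (1 : k') ⊗ₜ[k] c := rfl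

theorem inclR_injective : Function.Injective (inclR k C k') :=
  Algebra.TensorProduct.includeRight_injective (algebraMap k k').injective

theorem inclR_pow_mem_range [IsPurelyInseparable k k'] (x : k' ⊗[k] C) :
    ∃ n > 0, x ^ n ∈ (inclR k C k').range := by
  obtain ⟨n, hn, a, ha⟩ := IsPurelyInseparable.exists_pow_mem_range_tensorProduct
    (k := k) (K := k') (R := C) (Algebra.TensorProduct.comm k k' C x)
  refine ⟨n, hn, a, ?_⟩
  apply (Algebra.TensorProduct.comm k k' C).injective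
  rw [map_pow, ← ha, inclR_apply, Algebra.TensorProduct.comm_tmul]
  rfl

end Incl

section Struct

variable (k A k' : Type u) [Field k] [CommRing A] [Algebra k A] [Field k'] [Algebra k k']
  [IsPurelyInseparable k k']

theorem isPrime_nilradical_tensor [IsDomain A] : (nilradical (k' ⊗[k] A)).IsPrime :=
  isPrime_nilradical (inclR k A k') (inclR_injective k A k') (inclR_pow_mem_range k A k')

theorem isLocalRing_tensor [IsLocalRing A] : IsLocalRing (k' ⊗[k] A) :=
  isLocalRing_of_pow_mem_range (inclR k A k') (inclR_injective k A k')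
    (inclR_pow_mem_range k A k')

theorem isDomain_quot [IsDomain A] : IsDomain ((k' ⊗[k] A) ⧸ nilradical (k' ⊗[k] A)) := by
  haveI := isPrime_nilradical_tensor k A k'
  exact Ideal.Quotient.isDomain _

theorem isLocalRing_quot [IsDomain A] [IsLocalRing A] :
    IsLocalRing ((k' ⊗[k] A) ⧸ nilradical (k' ⊗[k] A)) := by
  haveI := isLocalRing_tensor k A k'
  haveI := isDomain_quot k A k'
  exact IsLocalRing.of_surjective' (Ideal.Quotient.mk _) Ideal.Quotient.mk_surjective

omit [IsPurelyInseparable k k'] in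
theorem toQuot_injective [IsDomain A] :
    Function.Injective ((Ideal.Quotient.mk (nilradical (k' ⊗[k] A))).comp (inclR k A k')) := by
  rw [injective_iff_map_eq_zero]
  intro a ha
  rw [RingHom.comp_apply, Ideal.Quotient.eq_zero_iff_mem, mem_nilradical] at ha
  obtain ⟨m, hm⟩ := ha
  rw [← map_pow, map_eq_zero_iff _ (inclR_injective k A k')] at hm
  exact IsNilpotent.eq_zero ⟨m, hm⟩

section Fin

attribute [local instance] Algebra.TensorProduct.rightAlgebra

omit [IsPurelyInseparable k k'] in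
theorem finite_tensor [Module.Finite k k'] : Module.Finite A (k' ⊗[k] A) :=
  Groth.Agent.Lib.CTensH3.finite_of_ringEquiv (A := A)
    (Algebra.TensorProduct.comm k A k').toRingEquiv (fun a => by
      rw [Algebra.TensorProduct.algebraMap_apply]
      rfl)

theorem quot_props [Module.Finite k k'] [IsDomain A] [IsNoetherianRing A] [IsLocalRing A]
    [IsAdicComplete (maximalIdeal A) A] [Module.Finite k (ResidueField A)] (hA : ¬ IsField A)
    [IsDomain ((k' ⊗[k] A) ⧸ nilradical (k' ⊗[k] A))]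
    [IsLocalRing ((k' ⊗[k] A) ⧸ nilradical (k' ⊗[k] A))] :
    IsNoetherianRing ((k' ⊗[k] A) ⧸ nilradical (k' ⊗[k] A)) ∧
      IsAdicComplete (maximalIdeal ((k' ⊗[k] A) ⧸ nilradical (k' ⊗[k] A)))
        ((k' ⊗[k] A) ⧸ nilradical (k' ⊗[k] A)) ∧
      Module.Finite k' (ResidueField ((k' ⊗[k] A) ⧸ nilradical (k' ⊗[k] A))) ∧
      ringKrullDim ((k' ⊗[k] A) ⧸ nilradical (k' ⊗[k] A)) = ringKrullDim A ∧
      (⊥ : Ideal ((k' ⊗[k] A) ⧸ nilradical (k' ⊗[k] A))) ≠
        maximalIdeal ((k' ⊗[k] A) ⧸ nilradical (k' ⊗[k] A)) := by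
  haveI hfinT : Module.Finite A (k' ⊗[k] A) := finite_tensor k A k'
  haveI : IsNoetherianRing (k' ⊗[k] A) := IsNoetherianRing.of_finite A _
  haveI hfinB : Module.Finite A ((k' ⊗[k] A) ⧸ nilradical (k' ⊗[k] A)) :=
    Module.Finite.of_surjective (Ideal.Quotient.mkₐ A (nilradical (k' ⊗[k] A))).toLinearMap
      (Ideal.Quotient.mkₐ_surjective A (nilradical (k' ⊗[k] A)))
  have hinj : Function.Injective
      (algebraMap A ((k' ⊗[k] A) ⧸ nilradical (k' ⊗[k] A))) := toQuot_injective k A k'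
  haveI : FaithfulSMul A ((k' ⊗[k] A) ⧸ nilradical (k' ⊗[k] A)) :=
    (faithfulSMul_iff_algebraMap_injective A _).2 hinj
  haveI : Algebra.IsIntegral A ((k' ⊗[k] A) ⧸ nilradical (k' ⊗[k] A)) :=
    Algebra.IsIntegral.of_finite A _
  haveI hlocal : IsLocalHom (algebraMap A ((k' ⊗[k] A) ⧸ nilradical (k' ⊗[k] A))) :=
    inferInstance
  refine ⟨inferInstance,
    Groth.Agent.Lib.CompleteICH3.isAdicComplete_of_finite_local A _, ?_,
    Groth.Agent.IntegralHeight.ringKrullDim_eq_of_isIntegral_of_injective A _ hinj, ?_⟩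
  · haveI : Module.Finite (ResidueField A)
        (ResidueField ((k' ⊗[k] A) ⧸ nilradical (k' ⊗[k] A))) := inferInstance
    haveI : Module.Finite k (ResidueField ((k' ⊗[k] A) ⧸ nilradical (k' ⊗[k] A))) :=
      Module.Finite.trans (ResidueField A) _
    exact Module.Finite.of_restrictScalars_finite k k' _
  · intro h
    apply hA
    rw [IsLocalRing.isField_iff_maximalIdeal_eq, eq_bot_iff]
    intro a ha
    have h1 : algebraMap A ((k' ⊗[k] A) ⧸ nilradical (k' ⊗[k] A)) a ∈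
        maximalIdeal ((k' ⊗[k] A) ⧸ nilradical (k' ⊗[k] A)) := by
      rw [mem_maximalIdeal, mem_nonunits_iff]
      intro hu
      exact ha (isUnit_of_map_unit (algebraMap A _) a hu)
    rw [← h, Ideal.mem_bot] at h1
    rw [Ideal.mem_bot]
    exact hinj (by rw [h1, map_zero])

end Fin

section Frac

variable (K : Type u) [Field K] [Algebra A K] [IsFractionRing A K] [Algebra k K]
  [IsScalarTower k A K]

theorem isGeometricallyRegular_localization_bot [IsDomain A]
    [IsDomain ((k' ⊗[k] A) ⧸ nilradical (k' ⊗[k] A))]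
    [Algebra.IsGeometricallyReduced k' ((k' ⊗[k] K) ⧸ nilradical (k' ⊗[k] K))] :
    CAlg.IsGeometricallyRegular k'
      (Localization.AtPrime (⊥ : Ideal ((k' ⊗[k] A) ⧸ nilradical (k' ⊗[k] A)))) := by
  classical
  obtain ⟨ι, hιdef⟩ : ∃ ι : (k' ⊗[k] A) →ₐ[k'] (k' ⊗[k] K),
      ι = Algebra.TensorProduct.map (AlgHom.id k' k') (IsScalarTower.toAlgHom k A K) := ⟨_, rfl⟩
  have hιtmul : ∀ (c : k') (a : A), ι (c ⊗ₜ[k] a) = c ⊗ₜ[k] algebraMap A K a := by
    intro c a
    rw [hιdef, Algebra.TensorProduct.map_tmul]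
    rfl
  have hιinj : Function.Injective ι := by
    have h0 : Function.Injective (IsScalarTower.toAlgHom k A K).toLinearMap :=
      IsFractionRing.injective A K
    have h1 := Module.Flat.lTensor_preserves_injective_linearMap (M := k') _ h0
    have h2 : ∀ x, ι x = LinearMap.lTensor k' (IsScalarTower.toAlgHom k A K).toLinearMap x := by
      intro x
      induction x using TensorProduct.induction_on with
      | zero => rw [map_zero, map_zero]
      | tmul c a =>
        rw [hιtmul]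
        rfl
      | add x y hx hy => rw [map_add, map_add, hx, hy]
    intro x y hxy
    apply h1
    rw [← h2, ← h2, hxy]
  have hkerι : ∀ t ∈ nilradical (k' ⊗[k] A),
      ((Ideal.Quotient.mkₐ k' (nilradical (k' ⊗[k] K))).comp ι) t = 0 := by
    intro t ht
    rw [mem_nilradical] at ht
    rw [AlgHom.comp_apply, Ideal.Quotient.mkₐ_eq_mk, Ideal.Quotient.eq_zero_iff_mem,
      mem_nilradical]
    exact ht.map ι
  obtain ⟨ψ, hψdef⟩ : ∃ ψ : ((k' ⊗[k] A) ⧸ nilradical (k' ⊗[k] A)) →ₐ[k']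
      ((k' ⊗[k] K) ⧸ nilradical (k' ⊗[k] K)),
      ψ = Ideal.Quotient.liftₐ (nilradical (k' ⊗[k] A)) _ hkerι := ⟨_, rfl⟩
  have hψmk : ∀ t, ψ (Ideal.Quotient.mk _ t) = Ideal.Quotient.mk _ (ι t) := by
    intro t
    rw [hψdef]
    rfl
  have hψinj : Function.Injective ψ := by
    rw [injective_iff_map_eq_zero]
    intro y hy
    obtain ⟨t, rfl⟩ := Ideal.Quotient.mk_surjective y
    rw [hψmk, Ideal.Quotient.eq_zero_iff_mem, mem_nilradical] at hy
    obtain ⟨m, hm⟩ := hy
    rw [← map_pow, map_eq_zero_iff ι hιinj] at hm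
    rw [Ideal.Quotient.eq_zero_iff_mem, mem_nilradical]
    exact ⟨m, hm⟩
  have hprimeK : (nilradical (k' ⊗[k] K)).IsPrime := isPrime_nilradical_tensor k K k'
  haveI : Nontrivial ((k' ⊗[k] K) ⧸ nilradical (k' ⊗[k] K)) :=
    Ideal.Quotient.nontrivial_iff.2 hprimeK.ne_top
  haveI : IsReduced ((k' ⊗[k] K) ⧸ nilradical (k' ⊗[k] K)) :=
    (Ideal.isRadical_iff_quotient_reduced _).1 (Ideal.radical_isRadical ⊥)
  have hF' : IsField ((k' ⊗[k] K) ⧸ nilradical (k' ⊗[k] K)) := by
    refine isField_of_pow_mem_range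
      ((Ideal.Quotient.mk (nilradical (k' ⊗[k] K))).comp (inclR k K k'))
      (RingHom.injective _) ?_ (Field.toIsField K)
    intro y
    obtain ⟨z, rfl⟩ := Ideal.Quotient.mk_surjective y
    obtain ⟨n, hn, b, hb⟩ := inclR_pow_mem_range k K k' z
    exact ⟨n, hn, b, by rw [RingHom.comp_apply, hb, map_pow]⟩
  have hfrac : ∀ t' : k' ⊗[k] K, ∃ (t : k' ⊗[k] A) (s : A), s ≠ 0 ∧
      t' * ι ((1 : k') ⊗ₜ[k] s) = ι t := by
    intro t'
    induction t' using TensorProduct.induction_on with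
    | zero => exact ⟨0, 1, one_ne_zero, by rw [zero_mul, map_zero]⟩
    | tmul c x =>
      obtain ⟨a, s, rfl⟩ := IsLocalization.exists_mk'_eq (nonZeroDivisors A) x
      refine ⟨c ⊗ₜ[k] a, s, nonZeroDivisors.coe_ne_zero s, ?_⟩
      rw [hιtmul, hιtmul, Algebra.TensorProduct.tmul_mul_tmul, mul_one, IsLocalization.mk'_spec]
    | add x y hx hy =>
      obtain ⟨t₁, s₁, hs₁, h₁⟩ := hx
      obtain ⟨t₂, s₂, hs₂, h₂⟩ := hy
      refine ⟨t₁ * ((1 : k') ⊗ₜ[k] s₂) + t₂ * ((1 : k') ⊗ₜ[k] s₁), s₁ * s₂,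
        mul_ne_zero hs₁ hs₂, ?_⟩
      have h3 : ι ((1 : k') ⊗ₜ[k] (s₁ * s₂)) =
          ι ((1 : k') ⊗ₜ[k] s₁) * ι ((1 : k') ⊗ₜ[k] s₂) := by
        rw [← map_mul, Algebra.TensorProduct.tmul_mul_tmul, one_mul]
      rw [h3, map_add, map_mul, map_mul, ← h₁, ← h₂]
      ring
  letI : Algebra ((k' ⊗[k] A) ⧸ nilradical (k' ⊗[k] A))
      ((k' ⊗[k] K) ⧸ nilradical (k' ⊗[k] K)) := ψ.toRingHom.toAlgebra
  haveI : IsScalarTower k' ((k' ⊗[k] A) ⧸ nilradical (k' ⊗[k] A))
      ((k' ⊗[k] K) ⧸ nilradical (k' ⊗[k] K)) :=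
    ⟨fun c b z => by
      show ψ (c • b) * z = c • (ψ b * z)
      rw [map_smul, smul_mul_assoc]⟩
  have hloc : IsLocalization (nonZeroDivisors ((k' ⊗[k] A) ⧸ nilradical (k' ⊗[k] A)))
      ((k' ⊗[k] K) ⧸ nilradical (k' ⊗[k] K)) := by
    rw [isLocalization_iff]
    refine ⟨?_, ?_, ?_⟩
    · rintro ⟨y, hy⟩
      have hy0 : ψ y ≠ 0 := by
        intro h0
        exact nonZeroDivisors.ne_zero hy (hψinj (by rw [h0, map_zero]))
      obtain ⟨b, hb⟩ := hF'.mul_inv_cancel hy0
      exact IsUnit.of_mul_eq_one b hb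
    · intro z
      obtain ⟨t', rfl⟩ := Ideal.Quotient.mk_surjective z
      obtain ⟨t, s, hs, h⟩ := hfrac t'
      have hs' : Ideal.Quotient.mk (nilradical (k' ⊗[k] A)) ((1 : k') ⊗ₜ[k] s) ∈
          nonZeroDivisors ((k' ⊗[k] A) ⧸ nilradical (k' ⊗[k] A)) := by
        rw [mem_nonZeroDivisors_iff_ne_zero]
        intro h0
        exact hs (toQuot_injective k A k' (by rw [map_zero]; exact h0))
      refine ⟨(Ideal.Quotient.mk _ t, ⟨_, hs'⟩), ?_⟩
      show Ideal.Quotient.mk _ t' * ψ (Ideal.Quotient.mk _ ((1 : k') ⊗ₜ[k] s)) =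
        ψ (Ideal.Quotient.mk _ t)
      rw [hψmk, hψmk, ← map_mul, h]
    · intro x y hxy
      exact ⟨1, by rw [hψinj hxy]⟩
  haveI : IsLocalization (⊥ : Ideal ((k' ⊗[k] A) ⧸ nilradical (k' ⊗[k] A))).primeCompl
      ((k' ⊗[k] K) ⧸ nilradical (k' ⊗[k] K)) := by
    rw [Ideal.primeCompl_bot]
    exact hloc
  let e : Localization.AtPrime (⊥ : Ideal ((k' ⊗[k] A) ⧸ nilradical (k' ⊗[k] A)))
      ≃ₐ[(k' ⊗[k] A) ⧸ nilradical (k' ⊗[k] A)] ((k' ⊗[k] K) ⧸ nilradical (k' ⊗[k] K)) :=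
    IsLocalization.algEquiv (⊥ : Ideal ((k' ⊗[k] A) ⧸ nilradical (k' ⊗[k] A))).primeCompl _ _
  have hreg := isGeometricallyRegular_of_isGeometricallyReduced k'
    ((k' ⊗[k] K) ⧸ nilradical (k' ⊗[k] K)) hF'
  refine Groth.Agent.Lib.NagTfaeH3.isGeometricallyRegular_of_ringEquiv k' _ _
    e.symm.toRingEquiv (fun c => ?_) hreg
  rw [IsScalarTower.algebraMap_apply k' ((k' ⊗[k] A) ⧸ nilradical (k' ⊗[k] A))
      ((k' ⊗[k] K) ⧸ nilradical (k' ⊗[k] K)),
    IsScalarTower.algebraMap_apply k' ((k' ⊗[k] A) ⧸ nilradical (k' ⊗[k] A))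
      (Localization.AtPrime (⊥ : Ideal ((k' ⊗[k] A) ⧸ nilradical (k' ⊗[k] A))))]
  exact e.symm.commutes _

end Frac

end Struct

end Groth.Agent.Lib.SepNormH3
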