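import Mathlib
import Groth.Agent.Lib.SepNorm2_helper3
import Groth.Agent.Lib.ComplKaehlerFree4_helper3
import Groth.Agent.Lib.ComplKaehlerGeomReg_helper3

/-!
# Separable normalisation after a purely inseparable base extension (S5992), part 3 (helper3)

* `exists_powerSeries_unramified`: a complete Noetherian local domain `B` over `k` (`[k : k^p]`
  finite, residue field finite over `k`) whose fraction field is geometrically regular over `k` is
  finite over `k[[T_1..T_n]]`, `n = dim B`, injectively and unramified at `(0)`.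
* `main5992`.
APPEND-ONLY once landed.
-/

set_option autoImplicit false

namespace Groth.Agent.Lib.SepNormH3

open TensorProduct IsLocalRing KaehlerDifferential

universe u

theorem exists_powerSeries_unramified (p : ℕ) (k B : Type u) [Field k] [ExpChar k p]
    (hk : (frobenius k p).Finite) [CommRing B] [IsDomain B] [IsLocalRing B] [IsNoetherianRing B]
    [Algebra k B] [IsAdicComplete (maximalIdeal B) B] [Module.Finite k (ResidueField B)]
    (hbot : (⊥ : Ideal B) ≠ maximalIdeal B) (n : ℕ) (hn : ringKrullDim B = n)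
    (hgr : CAlg.IsGeometricallyRegular k (Localization.AtPrime (⊥ : Ideal B))) :
    ∃ (_ : Algebra (MvPowerSeries (Fin n) k) B) (_ : IsScalarTower k (MvPowerSeries (Fin n) k) B),
      IsLocalHom (algebraMap (MvPowerSeries (Fin n) k) B) ∧
      Function.Injective (algebraMap (MvPowerSeries (Fin n) k) B) ∧
      Module.Finite (MvPowerSeries (Fin n) k) B ∧
      Algebra.IsUnramifiedAt (MvPowerSeries (Fin n) k) (⊥ : Ideal B) := by
  classical
  have hmin : (⊥ : Ideal B) ∈ minimalPrimes B := by
    rw [IsDomain.minimalPrimes_eq_singleton_bot]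
    exact Set.mem_singleton _
  have hdimq : ringKrullDim (B ⧸ (⊥ : Ideal B)) = n := by
    rw [← hn]
    exact ringKrullDim_eq_of_ringEquiv (RingEquiv.quotientBot B)
  obtain ⟨hfree, hrank⟩ := Groth.Agent.Lib.ComplKaehlerFreeH3.main5074 p k B hk ⊥ hgr ⊥ hmin le_rfl
    n hdimq
  haveI := hfree
  haveI := Groth.Agent.Lib.ComplKaehlerGenH3.finite_completed k B
  let bas := Module.finBasisOfFinrankEq (Localization.AtPrime (⊥ : Ideal B))
    (LocalizedModule (⊥ : Ideal B).primeCompl (AdicCompletion (maximalIdeal B) (Ω[B⁄k]))) hrank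
  obtain ⟨alg, tow, hloc, hfin, hunr⟩ :=
    Groth.Agent.Lib.ComplKaehlerUnramH3.exists_algebra_of_span k B ⊥ n hbot
      ⟨⊥, hmin, le_rfl, by rw [hdimq, hn]⟩ ⟨bas, bas.span_eq⟩
  refine ⟨alg, tow, hloc, ?_, hfin, hunr⟩
  letI := alg
  haveI := hfin
  haveI : IsDomain (MvPowerSeries (Fin n) k) := NoZeroDivisors.to_isDomain _
  rw [injective_iff_map_eq_zero]
  intro g hg
  by_contra hne
  have h1 : ringKrullDim (MvPowerSeries (Fin n) k ⧸
      RingHom.ker (algebraMap (MvPowerSeries (Fin n) k) B)) + 1 ≤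
      ringKrullDim (MvPowerSeries (Fin n) k) :=
    ringKrullDim_succ_le_of_surjective
      (Ideal.Quotient.mk (RingHom.ker (algebraMap (MvPowerSeries (Fin n) k) B)))
      Ideal.Quotient.mk_surjective (mem_nonZeroDivisors_of_ne_zero hne)
      (Ideal.Quotient.eq_zero_iff_mem.2 (RingHom.mem_ker.2 hg))
  letI : Algebra (MvPowerSeries (Fin n) k ⧸
      RingHom.ker (algebraMap (MvPowerSeries (Fin n) k) B)) B :=
    (RingHom.kerLift (algebraMap (MvPowerSeries (Fin n) k) B)).toAlgebra
  haveI : IsScalarTower (MvPowerSeries (Fin n) k)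
      (MvPowerSeries (Fin n) k ⧸ RingHom.ker (algebraMap (MvPowerSeries (Fin n) k) B)) B :=
    IsScalarTower.of_algebraMap_eq (R := MvPowerSeries (Fin n) k)
      (S := MvPowerSeries (Fin n) k ⧸ RingHom.ker (algebraMap (MvPowerSeries (Fin n) k) B))
      (A := B) fun b => rfl
  haveI : Module.Finite (MvPowerSeries (Fin n) k ⧸
      RingHom.ker (algebraMap (MvPowerSeries (Fin n) k) B)) B :=
    Module.Finite.of_restrictScalars_finite (MvPowerSeries (Fin n) k) _ _
  have h2 : ringKrullDim B ≤ ringKrullDim (MvPowerSeries (Fin n) k ⧸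
      RingHom.ker (algebraMap (MvPowerSeries (Fin n) k) B)) :=
    Groth.Agent.Lib.FinitePSH3.ringKrullDim_le_of_isIntegral _ B
  have h3 := Groth.Agent.Lib.RegPSH3.ringKrullDim_mvPowerSeries_field_le k n
  have h4 : (n : WithBot ℕ∞) + 1 ≤ n := by
    calc (n : WithBot ℕ∞) + 1 = ringKrullDim B + 1 := by rw [hn]
      _ ≤ ringKrullDim (MvPowerSeries (Fin n) k ⧸
          RingHom.ker (algebraMap (MvPowerSeries (Fin n) k) B)) + 1 :=
        add_le_add_left h2 1
      _ ≤ ringKrullDim (MvPowerSeries (Fin n) k) := h1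
      _ ≤ n := h3
  have h5 : ((n + 1 : ℕ) : WithBot ℕ∞) ≤ (n : ℕ) := by
    rw [Nat.cast_add, Nat.cast_one]
    exact h4
  have h6 : n + 1 ≤ n := by exact_mod_cast h5
  omega

theorem main5992 (p : ℕ) (k A : Type u) [Field k]
    [ExpChar k p] (hk : (frobenius k p).Finite) [CommRing A] [IsDomain A] [IsNoetherianRing A]
    [IsLocalRing A]
    [Algebra k A] [IsAdicComplete (IsLocalRing.maximalIdeal A) A]
    [Module.Finite k (IsLocalRing.ResidueField A)] (hA : ¬ IsField A) (n : ℕ)
    (hn : ringKrullDim A = n) :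
    ∃ (k' : Type u) (_ : Field k') (_ : Algebra k k'), Module.Finite k k' ∧
      IsPurelyInseparable k k' ∧
      ∃ (_ : IsDomain ((k' ⊗[k] A) ⧸ nilradical (k' ⊗[k] A)))
        (_ : IsLocalRing ((k' ⊗[k] A) ⧸ nilradical (k' ⊗[k] A)))
        (_ : Algebra (MvPowerSeries (Fin n) k') ((k' ⊗[k] A) ⧸ nilradical (k' ⊗[k] A)))
        (_ : IsScalarTower k' (MvPowerSeries (Fin n) k')
          ((k' ⊗[k] A) ⧸ nilradical (k' ⊗[k] A))),
        IsLocalHom (algebraMap (MvPowerSeries (Fin n) k')
          ((k' ⊗[k] A) ⧸ nilradical (k' ⊗[k] A))) ∧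
        Function.Injective (algebraMap (MvPowerSeries (Fin n) k')
          ((k' ⊗[k] A) ⧸ nilradical (k' ⊗[k] A))) ∧
        Module.Finite (MvPowerSeries (Fin n) k') ((k' ⊗[k] A) ⧸ nilradical (k' ⊗[k] A)) ∧
        Algebra.IsUnramifiedAt (MvPowerSeries (Fin n) k')
          (⊥ : Ideal ((k' ⊗[k] A) ⧸ nilradical (k' ⊗[k] A))) := by
  obtain ⟨k', hF, hAlg, hfin, hpi, hgr⟩ := exists_purelyInseparable_geomReduced k A p
  letI := hF
  letI := hAlg
  haveI := hfin
  haveI := hpi
  haveI := hgr
  refine ⟨k', hF, hAlg, hfin, hpi, ?_⟩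
  haveI hdom := isDomain_quot k A k'
  haveI hlocal := isLocalRing_quot k A k'
  obtain ⟨hnoeth, hcomp, hres, hdim, hbot⟩ := quot_props k A k' hA
  haveI := hnoeth
  haveI := hcomp
  haveI := hres
  haveI : ExpChar k' p := expChar_of_injective_algebraMap (algebraMap k k').injective p
  have hk' : (frobenius k' p).Finite := by
    have hcomp' : (frobenius k' p).comp (algebraMap k k') =
        (algebraMap k k').comp (frobenius k p) := by
      ext x
      simp only [RingHom.comp_apply, frobenius_def, map_pow]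
    have h1 : ((algebraMap k k').comp (frobenius k p)).Finite :=
      RingHom.Finite.comp (RingHom.finite_algebraMap.2 hfin) hk
    rw [← hcomp'] at h1
    exact RingHom.Finite.of_comp_finite h1
  have hgreg := isGeometricallyRegular_localization_bot k A k' (FractionRing A)
  obtain ⟨alg, tow, h1, h2, h3, h4⟩ := exists_powerSeries_unramified p k'
    ((k' ⊗[k] A) ⧸ nilradical (k' ⊗[k] A)) hk' hbot n (hdim.trans hn) hgreg
  exact ⟨hdom, hlocal, alg, tow, h1, h2, h3, h4⟩

end Groth.Agent.Lib.SepNormH3
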