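import Mathlib

namespace Groth.Agent.Lib.SepPts

universe u

lemma avoid_field {k E ι : Type*} [Field k] [AddCommGroup E] [Module k E] (W : Submodule k E)
    (m : ℕ) (lam : Fin m → k) (hlam : Function.Injective lam)
    (Q : ι → Submodule k E) :
    ∀ s : Finset ι, (∀ i ∈ s, ∃ v ∈ W, v ∉ Q i) → s.card ≤ m → ∃ g ∈ W, ∀ i ∈ s, g ∉ Q i := by
  classical
  intro s
  induction s using Finset.induction_on with
  | empty => intro _ _; exact ⟨0, W.zero_mem, fun i hi => by simp at hi⟩
  | insert i₀ s hi₀ ih =>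
    intro hc hcard
    rw [Finset.card_insert_of_notMem hi₀] at hcard
    obtain ⟨u, huW, hu⟩ := ih
      (fun i hi => hc i (Finset.mem_insert_of_mem hi)) (by omega)
    by_cases hu0 : u ∈ Q i₀
    · obtain ⟨v, hvW, hv⟩ := hc i₀ (Finset.mem_insert_self _ _)
      by_contra hcon
      push_neg at hcon
      have hbad : ∀ j : Fin m, ∃ i : s, v + lam j • u ∈ Q i := by
        intro j
        obtain ⟨i, hi, hgi⟩ := hcon (v + lam j • u) (W.add_mem hvW (W.smul_mem _ huW))
        rcases Finset.mem_insert.mp hi with hii | hi'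
        · exfalso
          apply hv
          rw [hii] at hgi
          have h1 : lam j • u ∈ Q i₀ := (Q i₀).smul_mem _ hu0
          have h2 := (Q i₀).sub_mem hgi h1
          rwa [add_sub_cancel_right] at h2
        · exact ⟨⟨i, hi'⟩, hgi⟩
      choose F hF using hbad
      have hlt : Fintype.card s < Fintype.card (Fin m) := by
        rw [Fintype.card_coe, Fintype.card_fin]; omega
      obtain ⟨j, j', hjj', hFjj'⟩ := Fintype.exists_ne_map_eq_of_card_lt F hlt
      have h1 := hF j
      have h2 := hF j'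
      rw [hFjj'] at h1
      have h3 : (lam j - lam j') • u ∈ Q (F j') := by
        have h4 := (Q (F j')).sub_mem h1 h2
        have e : (v + lam j • u) - (v + lam j' • u) = (lam j - lam j') • u := by
          rw [sub_smul]; abel
        rwa [e] at h4
      have hne : lam j - lam j' ≠ 0 := sub_ne_zero.mpr (fun h => hjj' (hlam h))
      have h5 : u ∈ Q (F j') := by
        have h6 := (Q (F j')).smul_mem (lam j - lam j')⁻¹ h3
        rwa [smul_smul, inv_mul_cancel₀ hne, one_smul] at h6
      exact hu (F j') (F j').2 h5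
    · refine ⟨u, huW, fun i hi => ?_⟩
      rcases Finset.mem_insert.mp hi with hii | hi'
      · rw [hii]; exact hu0
      · exact hu i hi'

lemma exists_inj {k : Type u} (m : ℕ) (h : (m : Cardinal.{u}) ≤ Cardinal.mk k) :
    ∃ lam : Fin m → k, Function.Injective lam := by
  obtain ⟨S, hS⟩ := Cardinal.le_mk_iff_exists_set.mp h
  obtain ⟨t, -, ht⟩ := Cardinal.mk_set_eq_nat_iff_finset.mp hS
  let e := t.equivFinOfCardEq ht
  refine ⟨fun j => (e.symm j : k), ?_⟩
  intro j j' hjj'
  exact e.symm.injective (Subtype.ext hjj')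

lemma card_pairs (d : ℕ) :
    ((Finset.univ : Finset (Fin d × Fin d)).filter (fun q => q.1 < q.2)).card ≤ d.choose 2 := by
  classical
  refine (Finset.card_le_card_of_injOn
    (t := Finset.powersetCard 2 (Finset.univ : Finset (Fin d)))
    (fun q : Fin d × Fin d => ({q.1, q.2} : Finset (Fin d))) ?_ ?_).trans ?_
  · intro q hq
    have hq1 : q ∈ (Finset.univ : Finset (Fin d × Fin d)).filter (fun q => q.1 < q.2) := hq
    have hq' : q.1 < q.2 := (Finset.mem_filter.mp hq1).2
    refine Finset.mem_coe.mpr ?_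
    rw [Finset.mem_powersetCard]
    exact ⟨Finset.subset_univ _, Finset.card_pair (ne_of_lt hq')⟩
  · intro q hq q' hq' heq
    have hq1 : q ∈ (Finset.univ : Finset (Fin d × Fin d)).filter (fun q => q.1 < q.2) := hq
    have hq1' : q' ∈ (Finset.univ : Finset (Fin d × Fin d)).filter (fun q => q.1 < q.2) := hq'
    have hlt : q.1 < q.2 := (Finset.mem_filter.mp hq1).2
    have hlt' : q'.1 < q'.2 := (Finset.mem_filter.mp hq1').2
    have heq' : ({q.1, q.2} : Finset (Fin d)) = {q'.1, q'.2} := heq
    have h1 : q.1 ∈ ({q'.1, q'.2} : Finset (Fin d)) := by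
      rw [← heq']; exact Finset.mem_insert_self _ _
    have h2 : q.2 ∈ ({q'.1, q'.2} : Finset (Fin d)) := by
      rw [← heq']; exact Finset.mem_insert_of_mem (Finset.mem_singleton_self _)
    rw [Finset.mem_insert, Finset.mem_singleton] at h1 h2
    rcases h1 with h | h <;> rcases h2 with h' | h'
    · exact absurd (h.trans h'.symm) (ne_of_lt hlt)
    · exact Prod.ext h h'
    · rw [h, h'] at hlt
      exact absurd hlt (lt_asymm hlt')
    · exact absurd (h.trans h'.symm) (ne_of_lt hlt)
  · rw [Finset.card_powersetCard, Finset.card_univ, Fintype.card_fin]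

def Qk {k B k' : Type*} [Field k] [CommRing B] [Algebra k B] [Field k'] [Algebra k k'] {d : ℕ}
    (x : Fin d → (B →ₐ[k] k')) (q : Fin d × Fin d) : Submodule k B :=
  LinearMap.ker ((x q.1).toLinearMap - (x q.2).toLinearMap)

lemma mem_Qk {k B k' : Type*} [Field k] [CommRing B] [Algebra k B] [Field k'] [Algebra k k']
    {d : ℕ} (x : Fin d → (B →ₐ[k] k')) (q : Fin d × Fin d) (b : B) :
    b ∈ Qk x q ↔ x q.1 b = x q.2 b := by
  unfold Qk
  rw [LinearMap.mem_ker, LinearMap.sub_apply, AlgHom.toLinearMap_apply, AlgHom.toLinearMap_apply,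
    sub_eq_zero]

theorem main {k : Type u} [Field k] {B : Type u} [CommRing B] [Algebra k B] (V : Submodule k B)
    (hV : Algebra.adjoin k (V : Set B) = ⊤) {k' : Type u} [Field k'] [Algebra k k']
    {d : ℕ} (x : Fin d → (B →ₐ[k] k')) (hx : Function.Injective x)
    (hk : ((d.choose 2 : ℕ) : Cardinal) ≤ Cardinal.mk k) :
    ∃ b ∈ V, Function.Injective fun i => x i b := by
  classical
  obtain ⟨lam, hlam⟩ := exists_inj (k := k) (d.choose 2) hk
  have hc : ∀ q ∈ (Finset.univ : Finset (Fin d × Fin d)).filter (fun q => q.1 < q.2),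
      ∃ v ∈ V, v ∉ Qk x q := by
    intro q hq
    have hlt : q.1 < q.2 := (Finset.mem_filter.mp hq).2
    by_contra hcon
    push_neg at hcon
    have hxx : x q.1 = x q.2 :=
      AlgHom.ext_of_adjoin_eq_top hV (fun v hv => (mem_Qk x q v).mp (hcon v hv))
    exact (ne_of_lt hlt) (hx hxx)
  obtain ⟨g, hgV, hg⟩ := avoid_field V (d.choose 2) lam hlam (Qk x)
    ((Finset.univ : Finset (Fin d × Fin d)).filter (fun q => q.1 < q.2)) hc (card_pairs d)
  refine ⟨g, hgV, fun i j hij => ?_⟩
  have hij' : x i g = x j g := hij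
  by_contra hne
  rcases lt_or_gt_of_ne hne with h | h
  · exact hg (i, j) (Finset.mem_filter.mpr ⟨Finset.mem_univ _, h⟩) ((mem_Qk x (i, j) g).mpr hij')
  · exact hg (j, i) (Finset.mem_filter.mpr ⟨Finset.mem_univ _, h⟩)
      ((mem_Qk x (j, i) g).mpr hij'.symm)

end Groth.Agent.Lib.SepPts
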