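import Mathlib
import Groth.Prelude
import Groth.Agent.Lib.SepTan5_helper2
import Groth.Agent.Lib.ProjSpaceProper_helper4

/-!
# Closed immersions into `P^n_k` ⟺ separating points and tangent vectors (helper2)
APPEND-ONLY once landed.
-/

set_option autoImplicit false
universe u
open CategoryTheory CategoryTheory.Limits AlgebraicGeometry TopologicalSpace Opposite DirectSum
open HomogeneousLocalization QcqsLoc GenLocH8 TensH8 PBH8

namespace Groth.Agent.Lib.SepTanH2

open Groth.Agent.GrTw Groth.Agent.ProjUPU Groth.Agent.Lib.TwPullH2 Groth.Agent.Lib.ClProjIdealH2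

section Main
variable {k : Type u} [Field k] [IsAlgClosed k] {n : ℕ} {X : Scheme.{u}}
  (pX : X ⟶ Spec (CommRingCat.of k)) (f : X ⟶ CohB1.ProjSpace n k)
  (hf : f ≫ CohB1.ProjSpace.toSpec n k = pX)

include hf in
/-- The germ of `Σ c_j s_j` at `P` lies in `𝔪_P L_P` iff the linear form `Σ c_j T_j` vanishes at
`f P`. -/
theorem van_iff (c : Fin (n + 1) → k) (P : X) :
    (((Scheme.Modules.pullback f).obj (Twist.twistProjSpace n k 1)).presheaf.germ ⊤ P trivial).hom
        (∑ j, ProjUP.toGlobal pX (c j) •
          ProjUP.pullSec f (Twist.twistProjSpace n k 1) (ProjUP.coord n k j)) ∈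
      (IsLocalRing.maximalIdeal ↑(X.presheaf.stalk P) •
        (⊤ : Submodule ↑(X.presheaf.stalk P)
          ↑(((Scheme.Modules.pullback f).obj (Twist.twistProjSpace n k 1)).presheaf.stalk P))) ↔
    (show X ⟶ Proj (CohB1.polyGrading n k) from f) P ∉
      Proj.basicOpen (CohB1.polyGrading n k) (lin k n c) := by
  rw [sum_eq_pullSec pX f hf c]
  exact germ_mem_iff (CohB1.polyGrading n k) (show X ⟶ Proj (CohB1.polyGrading n k) from f)
    (Groth.Agent.VAmpPn.hcov n) P (lin_mem k n c)

include hf in
/-- The statement's tangent condition at `P`, in chart form. -/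
theorem tan_iff' (P : X) (i : Fin (n + 1))
    (hPi : P ∈ (show X ⟶ Proj (CohB1.polyGrading n k) from f) ⁻¹ᵁ Dp k n i) :
    ((IsLocalRing.maximalIdeal ↑(X.presheaf.stalk P) •
        (⊤ : Submodule ↑(X.presheaf.stalk P)
          ↑(((Scheme.Modules.pullback f).obj (Twist.twistProjSpace n k 1)).presheaf.stalk P))) ≤
      Submodule.span ↑(X.presheaf.stalk P)
          {v | ∃ c : Fin (n + 1) → k,
            v = (((Scheme.Modules.pullback f).obj
              (Twist.twistProjSpace n k 1)).presheaf.germ ⊤ P trivial).hom
                (∑ j, ProjUP.toGlobal pX (c j) •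
                  ProjUP.pullSec f (Twist.twistProjSpace n k 1) (ProjUP.coord n k j)) ∧
            v ∈ (IsLocalRing.maximalIdeal ↑(X.presheaf.stalk P) •
              (⊤ : Submodule ↑(X.presheaf.stalk P)
                ↑(((Scheme.Modules.pullback f).obj
                  (Twist.twistProjSpace n k 1)).presheaf.stalk P)))} ⊔
        (IsLocalRing.maximalIdeal ↑(X.presheaf.stalk P) ^ 2 •
          (⊤ : Submodule ↑(X.presheaf.stalk P)
            ↑(((Scheme.Modules.pullback f).obj
              (Twist.twistProjSpace n k 1)).presheaf.stalk P)))) ↔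
    IsLocalRing.maximalIdeal (X.presheaf.stalk P) ≤
      Ideal.span {a | ∃ c : Fin (n + 1) → k,
        a = (X.presheaf.germ ((show X ⟶ Proj (CohB1.polyGrading n k) from f) ⁻¹ᵁ Dp k n i) P
            hPi).hom
          (q (CohB1.polyGrading n k) (show X ⟶ Proj (CohB1.polyGrading n k) from f)
            (Groth.Agent.VAmpPn.hX n i) 1 (lin k n c) (lin_mem k n c)) ∧
        a ∈ IsLocalRing.maximalIdeal (X.presheaf.stalk P)} ⊔
        IsLocalRing.maximalIdeal (X.presheaf.stalk P) ^ 2 := by
  simp only [sum_eq_pullSec pX f hf]
  exact tan_iff (CohB1.polyGrading n k) (show X ⟶ Proj (CohB1.polyGrading n k) from f)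
    (Groth.Agent.VAmpPn.hcov n) P (Groth.Agent.VAmpPn.hX n i) hPi (lin k n) (lin_mem k n)

include hf in
/-- **Hartshorne II.7.3, forward direction**: a closed immersion into `P^n_k` separates points
(strong form) and tangent vectors. -/
theorem sep_tan_of_isClosedImmersion [IsClosedImmersion f] :
    ((∀ P Q : ↥X, IsClosed ({P} : Set ↥X) → IsClosed ({Q} : Set ↥X) → P ≠ Q →
        ∃ c : Fin (n + 1) → k,
          (((Scheme.Modules.pullback f).obj (Twist.twistProjSpace n k 1)).presheaf.germ ⊤ P
              trivial).hom
              (∑ i, ProjUP.toGlobal pX (c i) •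
                ProjUP.pullSec f (Twist.twistProjSpace n k 1) (ProjUP.coord n k i)) ∈
            (IsLocalRing.maximalIdeal ↑(X.presheaf.stalk P) •
              (⊤ : Submodule ↑(X.presheaf.stalk P)
                ↑(((Scheme.Modules.pullback f).obj
                  (Twist.twistProjSpace n k 1)).presheaf.stalk P))) ∧
          (((Scheme.Modules.pullback f).obj (Twist.twistProjSpace n k 1)).presheaf.germ ⊤ Q
              trivial).hom
              (∑ i, ProjUP.toGlobal pX (c i) •
                ProjUP.pullSec f (Twist.twistProjSpace n k 1) (ProjUP.coord n k i)) ∉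
            (IsLocalRing.maximalIdeal ↑(X.presheaf.stalk Q) •
              (⊤ : Submodule ↑(X.presheaf.stalk Q)
                ↑(((Scheme.Modules.pullback f).obj
                  (Twist.twistProjSpace n k 1)).presheaf.stalk Q)))) ∧
      ∀ P : ↥X, IsClosed ({P} : Set ↥X) →
        (IsLocalRing.maximalIdeal ↑(X.presheaf.stalk P) •
              (⊤ : Submodule ↑(X.presheaf.stalk P)
                ↑(((Scheme.Modules.pullback f).obj
                  (Twist.twistProjSpace n k 1)).presheaf.stalk P))) ≤
          Submodule.span ↑(X.presheaf.stalk P)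
              {v | ∃ c : Fin (n + 1) → k,
                v = (((Scheme.Modules.pullback f).obj
                  (Twist.twistProjSpace n k 1)).presheaf.germ ⊤ P trivial).hom
              (∑ i, ProjUP.toGlobal pX (c i) •
                ProjUP.pullSec f (Twist.twistProjSpace n k 1) (ProjUP.coord n k i)) ∧
                v ∈ (IsLocalRing.maximalIdeal ↑(X.presheaf.stalk P) •
              (⊤ : Submodule ↑(X.presheaf.stalk P)
                ↑(((Scheme.Modules.pullback f).obj
                  (Twist.twistProjSpace n k 1)).presheaf.stalk P)))} ⊔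
            (IsLocalRing.maximalIdeal ↑(X.presheaf.stalk P) ^ 2 •
              (⊤ : Submodule ↑(X.presheaf.stalk P)
                ↑(((Scheme.Modules.pullback f).obj
                  (Twist.twistProjSpace n k 1)).presheaf.stalk P)))) := by
  haveI : IsClosedImmersion (show X ⟶ Proj (CohB1.polyGrading n k) from f) := ‹_›
  refine ⟨?_, ?_⟩
  · intro P Q hP hQ hPQ
    obtain ⟨c, h1, h2⟩ := sepPts_of_isClosedImmersion
      (show X ⟶ Proj (CohB1.polyGrading n k) from f) P Q hP hQ hPQ
    exact ⟨c, (van_iff pX f hf c P).mpr h1, fun h => (van_iff pX f hf c Q).mp h h2⟩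
  · intro P hP
    obtain ⟨i, hi⟩ := Groth.Agent.VAmpPn.hcovX n
      ((show X ⟶ Proj (CohB1.polyGrading n k) from f) P)
    exact (tan_iff' pX f hf P i hi).mpr (tan_of_isClosedImmersion
      (show X ⟶ Proj (CohB1.polyGrading n k) from f) P hP i hi)

include hf in
/-- **Hartshorne II.7.3, backward direction**: for `X` proper over an algebraically closed field
`k`, a `k`-morphism to `P^n_k` which separates points (weak form) and tangent vectors is a
closed immersion. -/
theorem isClosedImmersion_of_sep_tan [IsProper pX]
    (H1 : ∀ P Q : ↥X, IsClosed ({P} : Set ↥X) → IsClosed ({Q} : Set ↥X) → P ≠ Q →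
        ∃ c : Fin (n + 1) → k,
          ((((Scheme.Modules.pullback f).obj (Twist.twistProjSpace n k 1)).presheaf.germ ⊤ P
              trivial).hom (∑ j, ProjUP.toGlobal pX (c j) •
                ProjUP.pullSec f (Twist.twistProjSpace n k 1) (ProjUP.coord n k j)) ∈
              (IsLocalRing.maximalIdeal ↑(X.presheaf.stalk P) •
                (⊤ : Submodule ↑(X.presheaf.stalk P)
                  ↑(((Scheme.Modules.pullback f).obj
                    (Twist.twistProjSpace n k 1)).presheaf.stalk P))) ∧
            (((Scheme.Modules.pullback f).obj (Twist.twistProjSpace n k 1)).presheaf.germ ⊤ Q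
              trivial).hom (∑ j, ProjUP.toGlobal pX (c j) •
                ProjUP.pullSec f (Twist.twistProjSpace n k 1) (ProjUP.coord n k j)) ∉
              (IsLocalRing.maximalIdeal ↑(X.presheaf.stalk Q) •
                (⊤ : Submodule ↑(X.presheaf.stalk Q)
                  ↑(((Scheme.Modules.pullback f).obj
                    (Twist.twistProjSpace n k 1)).presheaf.stalk Q)))) ∨
          ((((Scheme.Modules.pullback f).obj (Twist.twistProjSpace n k 1)).presheaf.germ ⊤ Q
              trivial).hom (∑ j, ProjUP.toGlobal pX (c j) •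
                ProjUP.pullSec f (Twist.twistProjSpace n k 1) (ProjUP.coord n k j)) ∈
              (IsLocalRing.maximalIdeal ↑(X.presheaf.stalk Q) •
                (⊤ : Submodule ↑(X.presheaf.stalk Q)
                  ↑(((Scheme.Modules.pullback f).obj
                    (Twist.twistProjSpace n k 1)).presheaf.stalk Q))) ∧
            (((Scheme.Modules.pullback f).obj (Twist.twistProjSpace n k 1)).presheaf.germ ⊤ P
              trivial).hom (∑ j, ProjUP.toGlobal pX (c j) •
                ProjUP.pullSec f (Twist.twistProjSpace n k 1) (ProjUP.coord n k j)) ∉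
              (IsLocalRing.maximalIdeal ↑(X.presheaf.stalk P) •
                (⊤ : Submodule ↑(X.presheaf.stalk P)
                  ↑(((Scheme.Modules.pullback f).obj
                    (Twist.twistProjSpace n k 1)).presheaf.stalk P)))))
    (H2 : ∀ P : ↥X, IsClosed ({P} : Set ↥X) →
        (IsLocalRing.maximalIdeal ↑(X.presheaf.stalk P) •
              (⊤ : Submodule ↑(X.presheaf.stalk P)
                ↑(((Scheme.Modules.pullback f).obj
                  (Twist.twistProjSpace n k 1)).presheaf.stalk P))) ≤
          Submodule.span ↑(X.presheaf.stalk P)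
              {v | ∃ c : Fin (n + 1) → k,
                v = (((Scheme.Modules.pullback f).obj
                  (Twist.twistProjSpace n k 1)).presheaf.germ ⊤ P trivial).hom
              (∑ j, ProjUP.toGlobal pX (c j) •
                ProjUP.pullSec f (Twist.twistProjSpace n k 1) (ProjUP.coord n k j)) ∧
                v ∈ (IsLocalRing.maximalIdeal ↑(X.presheaf.stalk P) •
              (⊤ : Submodule ↑(X.presheaf.stalk P)
                ↑(((Scheme.Modules.pullback f).obj
                  (Twist.twistProjSpace n k 1)).presheaf.stalk P)))} ⊔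
            (IsLocalRing.maximalIdeal ↑(X.presheaf.stalk P) ^ 2 •
              (⊤ : Submodule ↑(X.presheaf.stalk P)
                ↑(((Scheme.Modules.pullback f).obj
                  (Twist.twistProjSpace n k 1)).presheaf.stalk P)))) :
    IsClosedImmersion f := by
  haveI hpr : IsProper (CohB1.ProjSpace.toSpec n k) :=
    Groth.Agent.Lib.ProjSpaceProperH4.isProper_toSpec n k
  haveI : IsProper (f ≫ CohB1.ProjSpace.toSpec n k) := hf ▸ ‹IsProper pX›
  haveI hfp : IsProper f := IsProper.of_comp f (CohB1.ProjSpace.toSpec n k)
  haveI : IsProper (show X ⟶ Proj (CohB1.polyGrading n k) from f) := hfp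
  haveI : JacobsonSpace X := LocallyOfFiniteType.jacobsonSpace pX
  haveI : IsLocallyNoetherian X := LocallyOfFiniteType.isLocallyNoetherian pX
  haveI : JacobsonSpace (CohB1.ProjSpace n k) :=
    LocallyOfFiniteType.jacobsonSpace (CohB1.ProjSpace.toSpec n k)
  haveI : JacobsonSpace (Proj (CohB1.polyGrading n k)) := ‹JacobsonSpace (CohB1.ProjSpace n k)›
  refine isClosedImmersion_of_sep (show X ⟶ Proj (CohB1.polyGrading n k) from f) ?_ ?_
  · intro P Q hP hQ hPQ heq
    obtain ⟨c, hc⟩ := H1 P Q hP hQ hPQ
    rcases hc with ⟨h1, h2⟩ | ⟨h1, h2⟩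
    · have h1' := (van_iff pX f hf c P).mp h1
      rw [heq] at h1'
      exact h2 ((van_iff pX f hf c Q).mpr h1')
    · have h1' := (van_iff pX f hf c Q).mp h1
      rw [← heq] at h1'
      exact h2 ((van_iff pX f hf c P).mpr h1')
  · intro P hP i hPi
    exact (tan_iff' pX f hf P i hPi).mp (H2 P hP)

end Main

end Groth.Agent.Lib.SepTanH2
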