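import Mathlib
import Groth.Agent.Lib.Serre5_helper9

/-!
# Serre splitting / Bass cancellation, part 6 (helper9)

Bass' cancellation theorem for finite projective modules of constant rank `> dim R` over a
noetherian ring.
-/

set_option autoImplicit false
universe u v

namespace Groth.Agent.Serre9

open Module Submodule TensorProduct

section Shear

variable {R : Type u} [CommRing R] {A : Type v} {A' : Type v} [AddCommGroup A] [Module R A]
  [AddCommGroup A'] [Module R A']

/-- `(y, s) ↦ (y, s + ψ y)`. -/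
def shearR (ψ : A' →ₗ[R] R) : (A' × R) ≃ₗ[R] (A' × R) :=
  (LinearEquiv.refl R A').skewProd (LinearEquiv.refl R R) ψ

@[simp] theorem shearR_apply (ψ : A' →ₗ[R] R) (y : A') (s : R) :
    shearR ψ (y, s) = (y, s + ψ y) := rfl

/-- `(y, s) ↦ (y + s • z, s)`. -/
def shearL (z : A') : (A' × R) ≃ₗ[R] (A' × R) :=
  (LinearEquiv.prodComm R A' R).trans
    (((LinearEquiv.refl R R).skewProd (LinearEquiv.refl R A')
      (LinearMap.toSpanSingleton R A' z)).trans (LinearEquiv.prodComm R R A'))

@[simp] theorem shearL_apply (z : A') (y : A') (s : R) :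
    shearL z (y, s) = (y + s • z, s) := by
  simp [shearL]

/-- An isomorphism `A × R ≃ A' × R` fixing `(0, 1)` induces an isomorphism `A ≃ A'`. -/
def equivOfProdFix (σ : (A × R) ≃ₗ[R] (A' × R)) (h : σ (0, 1) = (0, 1)) : A ≃ₗ[R] A' :=
  have h' : σ.symm (0, 1) = (0, 1) := by rw [← h, σ.symm_apply_apply]
  LinearEquiv.ofLinear
    ((LinearMap.fst R A' R) ∘ₗ σ.toLinearMap ∘ₗ (LinearMap.inl R A R))
    ((LinearMap.fst R A R) ∘ₗ σ.symm.toLinearMap ∘ₗ (LinearMap.inl R A' R))
    (by
      apply LinearMap.ext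
      intro y
      simp only [LinearMap.coe_comp, LinearEquiv.coe_coe, Function.comp_apply, LinearMap.inl_apply,
        LinearMap.fst_apply, LinearMap.id_coe, id_eq]
      set w := σ.symm (y, 0) with hw
      have h1 : ((w.1, (0 : R)) : A × R) = w - w.2 • ((0, 1) : A × R) := by
        apply Prod.ext <;> simp
      rw [h1, map_sub, map_smul, h, hw, σ.apply_symm_apply]
      simp)
    (by
      apply LinearMap.ext
      intro x
      simp only [LinearMap.coe_comp, LinearEquiv.coe_coe, Function.comp_apply, LinearMap.inl_apply,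
        LinearMap.fst_apply, LinearMap.id_coe, id_eq]
      set w := σ (x, 0) with hw
      have h1 : ((w.1, (0 : R)) : A' × R) = w - w.2 • ((0, 1) : A' × R) := by
        apply Prod.ext <;> simp
      rw [h1, map_sub, map_smul, h', hw, σ.symm_apply_apply]
      simp)

end Shear

section Cancel

variable {R : Type u} [CommRing R] [IsNoetherianRing R]

/-- The Eisenbud–Evans lemma for cancellation: a unimodular element `(y, a)` of `A' × R` can be
moved to `(y + a z, a)` with `y + a z` unimodular in `A'`. -/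
theorem exists_unimodular_add_smul {A' : Type v} [AddCommGroup A'] [Module R A']
    [Module.Finite R A'] [Module.Projective R A'] (d n : ℕ) (hdim : ringKrullDim R ≤ d)
    (hrk : ∀ p : PrimeSpectrum R, rankAtStalk A' p = n) (hnd : d < n)
    (y : A') (a : R) (φ₀ : A' →ₗ[R] R) (c : R) (hu : φ₀ y + a * c = 1) :
    ∃ (z : A') (φ₁ : A' →ₗ[R] R), φ₁ (y + a • z) = 1 := by
  classical
  obtain ⟨k, s, hs⟩ := Module.Finite.exists_fin (R := R) (M := A')
  set m : Fin (k + 1) → A' := Fin.cons y (fun i => a • s i) with hm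
  have htail : Fin.tail m = fun i => a • s i := by simp [hm]
  set U : Set (PrimeSpectrum R) := {p | a ∉ p.asIdeal} with hU
  have hUgen : ∀ p q : PrimeSpectrum R, q ≤ p → p ∈ U → q ∈ U := by
    intro p q hqp hp haq
    exact hp (hqp haq)
  have hrkm : ∀ p ∈ U, rk p m = n := by
    intro p hp
    rw [rk_eq_rankAtStalk p m, hrk]
    rw [eq_top_iff, ← span_toFib_eq_top p s hs, span_le]
    rintro _ ⟨i, rfl⟩
    have ha : algebraMap R p.asIdeal.ResidueField a ≠ 0 := by
      rwa [ne_eq, Ideal.algebraMap_residueField_eq_zero]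
    have h1 : toFib p (m i.succ) ∈
        span p.asIdeal.ResidueField (Set.range (toFib p ∘ m)) := subset_span ⟨i.succ, rfl⟩
    have h2 : toFib p (m i.succ) = algebraMap R p.asIdeal.ResidueField a • toFib p (s i) := by
      simp [hm, toFib_smul]
    rw [h2] at h1
    have := smul_mem _ (algebraMap R p.asIdeal.ResidueField a)⁻¹ h1
    rwa [smul_smul, inv_mul_cancel₀ ha, one_smul] at this
  obtain ⟨x, hxspan, hx⟩ := exists_basic (R := R) (P := A') cohtNat (cohtNat_lt hdim) U hUgen m
    (fun p hp => by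
      rw [hrkm p hp]
      have := cohtNat_le hdim p
      refine (min_le_right _ _).trans ?_
      omega)
  -- x is a multiple of a
  have hxa : ∃ z : A', x = a • z := by
    rw [htail] at hxspan
    have hle : span R (Set.range fun i => a • s i) ≤
        LinearMap.range (LinearMap.lsmul R A' a) := by
      rw [span_le]
      rintro _ ⟨i, rfl⟩
      exact ⟨s i, rfl⟩
    obtain ⟨z, hz⟩ := hle hxspan
    exact ⟨z, hz.symm⟩
  obtain ⟨z, rfl⟩ := hxa
  have hm0 : m 0 = y := by simp [hm]
  rw [hm0] at hx
  refine ⟨z, ?_⟩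
  apply exists_functional_of_toFib_ne_zero
  intro p
  by_cases hp : p ∈ U
  · exact toFib_ne_zero_of_rk p _ (hx p hp)
  · have hap : a ∈ p.asIdeal := by
      by_contra h; exact hp h
    rw [map_add, toFib_smul_of_mem p hap, add_zero]
    intro h0
    have h1 := fibFun_toFib p φ₀ y
    rw [h0, map_zero] at h1
    have h2 : φ₀ y = 1 - a * c := by rw [← hu]; ring
    rw [h2, map_sub, map_mul, Ideal.algebraMap_residueField_eq_zero.mpr hap, zero_mul, sub_zero,
      map_one] at h1
    exact zero_ne_one h1

/-- Bass cancellation of one free rank one summand. -/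
theorem bass_cancel_one {A A' : Type v} [AddCommGroup A] [Module R A] [AddCommGroup A']
    [Module R A'] [Module.Finite R A'] [Module.Projective R A'] (d n : ℕ)
    (hdim : ringKrullDim R ≤ d)
    (hrk : ∀ p : PrimeSpectrum R, rankAtStalk A' p = n) (hnd : d < n)
    (e : (A × R) ≃ₗ[R] (A' × R)) : Nonempty (A ≃ₗ[R] A') := by
  set y := (e (0, 1)).1 with hy
  set a := (e (0, 1)).2 with ha
  set ρ : (A' × R) →ₗ[R] R := (LinearMap.snd R A R) ∘ₗ e.symm.toLinearMap with hρ
  have hρ1 : ρ (y, a) = 1 := by
    simp [hρ, hy, ha]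
  have hu : (ρ ∘ₗ LinearMap.inl R A' R) y + a * ρ (0, 1) = 1 := by
    have : ((y, a) : A' × R) = (y, 0) + a • ((0, 1) : A' × R) := by
      apply Prod.ext <;> simp
    have h3 : ρ (y, a) = ρ (y, 0) + a * ρ (0, 1) := by
      conv_lhs => rw [this, map_add, map_smul, smul_eq_mul]
    rw [hρ1] at h3
    simpa using h3.symm
  obtain ⟨z, φ₁, hφ₁⟩ := exists_unimodular_add_smul d n hdim hrk hnd y a _ _ hu
  set y' := y + a • z with hy'
  set σ : (A × R) ≃ₗ[R] (A' × R) :=
    ((e.trans (shearL z)).trans (shearR ((1 - a) • φ₁))).trans (shearL (-y')) with hσ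
  have hσ1 : σ (0, 1) = (0, 1) := by
    have h0 : e (0, 1) = (y, a) := rfl
    simp only [hσ, LinearEquiv.trans_apply, h0, shearL_apply, shearR_apply]
    rw [← hy']
    simp only [LinearMap.smul_apply, hφ₁, smul_eq_mul, mul_one, add_sub_cancel, one_smul,
      add_neg_cancel]
  exact ⟨equivOfProdFix σ hσ1⟩

/-- Bass cancellation. -/
theorem bass_cancel (d n : ℕ) (hdim : ringKrullDim R ≤ d) :
    ∀ (m : ℕ) (P P' : Type v) [AddCommGroup P] [Module R P] [Module.Finite R P]
      [Module.Projective R P] [AddCommGroup P'] [Module R P'] [Module.Finite R P']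
      [Module.Projective R P'],
      (∀ p : PrimeSpectrum R, rankAtStalk P' p = n) → d < n →
      ((P × (Fin m → R)) ≃ₗ[R] (P' × (Fin m → R))) → Nonempty (P ≃ₗ[R] P') := by
  intro m
  induction m with
  | zero =>
    intro P P' _ _ _ _ _ _ _ _ _ _ e
    haveI : Subsingleton (Fin 0 → R) := inferInstance
    let e1 : P ≃ₗ[R] (P × (Fin 0 → R)) :=
      LinearEquiv.ofLinear (LinearMap.inl R P _) (LinearMap.fst R P _)
        (by apply LinearMap.ext; rintro ⟨x, c⟩; apply Prod.ext; · simp
            · exact Subsingleton.elim _ _)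
        (by apply LinearMap.ext; intro x; simp)
    let e2 : P' ≃ₗ[R] (P' × (Fin 0 → R)) :=
      LinearEquiv.ofLinear (LinearMap.inl R P' _) (LinearMap.fst R P' _)
        (by apply LinearMap.ext; rintro ⟨x, c⟩; apply Prod.ext; · simp
            · exact Subsingleton.elim _ _)
        (by apply LinearMap.ext; intro x; simp)
    exact ⟨(e1.trans e).trans e2.symm⟩
  | succ m ih =>
    intro P P' _ _ _ _ _ _ _ _ hrk hnd e
    rcases subsingleton_or_nontrivial R with hR | hR
    · haveI : Subsingleton P := Module.subsingleton R P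
      haveI : Subsingleton P' := Module.subsingleton R P'
      exact ⟨LinearEquiv.ofSubsingleton P P'⟩
    -- rearrange
    let E : (Fin (m + 1) → R) ≃ₗ[R] (R × (Fin m → R)) :=
      (Fin.consLinearEquiv R (fun _ : Fin (m + 1) => R)).symm
    let r1 : ∀ (Q : Type v) [AddCommGroup Q] [Module R Q],
        (Q × (Fin (m + 1) → R)) ≃ₗ[R] ((Q × (Fin m → R)) × R) := fun Q _ _ =>
      ((LinearEquiv.refl R Q).prodCongr (E.trans (LinearEquiv.prodComm R R (Fin m → R)))).trans
        (LinearEquiv.prodAssoc R Q (Fin m → R) R).symm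
    have hrk' : ∀ p : PrimeSpectrum R, rankAtStalk (P' × (Fin m → R)) p = n + m := by
      intro p
      have h2 := congrFun (rankAtStalk_prod (R := R) P' (Fin m → R)) p
      rw [h2, Pi.add_apply, hrk p, rankAtStalk_eq_finrank_of_free]
      simp
    obtain ⟨e'⟩ := bass_cancel_one (A := P × (Fin m → R)) (A' := P' × (Fin m → R)) d (n + m) hdim
      hrk' (by omega) (((r1 P).symm.trans e).trans (r1 P'))
    exact ih P P' hrk hnd e'

end Cancel

end Groth.Agent.Serre9
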