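import Mathlib
import Groth.Agent.Lib.Serre6_helper9

/-!
# Serre splitting / Bass cancellation, part 7 (helper9)

Cancellation of arbitrary finite free modules; stably isomorphic modules have isomorphic powers.
-/

set_option autoImplicit false
universe u v w

namespace Groth.Agent.Serre9

open Module Submodule TensorProduct

variable {R : Type u} [CommRing R] [IsNoetherianRing R]

/-- Bass cancellation of a finite free module. -/
theorem bass_cancel_free (d n : ℕ) (hdim : ringKrullDim R ≤ d)
    (P P' : Type v) (F : Type w) [AddCommGroup P] [Module R P] [Module.Finite R P]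
    [Module.Projective R P] [AddCommGroup P'] [Module R P'] [Module.Finite R P']
    [Module.Projective R P'] [AddCommGroup F] [Module R F] [Module.Finite R F] [Module.Free R F]
    (hrk : ∀ p : PrimeSpectrum R, rankAtStalk P' p = n) (hnd : d < n)
    (e : (P × F) ≃ₗ[R] (P' × F)) : Nonempty (P ≃ₗ[R] P') := by
  rcases subsingleton_or_nontrivial R with hR | hR
  · haveI : Subsingleton P := Module.subsingleton R P
    haveI : Subsingleton P' := Module.subsingleton R P'
    exact ⟨LinearEquiv.ofSubsingleton P P'⟩
  let b := Module.finBasis R F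
  let eF : F ≃ₗ[R] (Fin (finrank R F) → R) := b.equivFun
  exact bass_cancel d n hdim (finrank R F) P P' hrk hnd
    ((((LinearEquiv.refl R P).prodCongr eF).symm.trans e).trans
      ((LinearEquiv.refl R P').prodCongr eF))

/-- `(ι → A) × (ι → B) ≃ (ι → A × B)`. -/
def prodPiEquiv (ι : Type*) (A B : Type*) [AddCommGroup A] [Module R A] [AddCommGroup B]
    [Module R B] : ((ι → A) × (ι → B)) ≃ₗ[R] (ι → A × B) :=
  LinearEquiv.ofLinear
    (LinearMap.pi fun i =>
      ((LinearMap.proj i) ∘ₗ LinearMap.fst R (ι → A) (ι → B)).prod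
        ((LinearMap.proj i) ∘ₗ LinearMap.snd R (ι → A) (ι → B)))
    ((LinearMap.pi fun i => (LinearMap.fst R A B) ∘ₗ LinearMap.proj i).prod
      (LinearMap.pi fun i => (LinearMap.snd R A B) ∘ₗ LinearMap.proj i))
    (by apply LinearMap.ext; intro x; funext i; rfl)
    (by apply LinearMap.ext; rintro ⟨x, y⟩; rfl)

instance pi_projective_fin (N : ℕ) (P : Type v) [AddCommGroup P] [Module R P]
    [Module.Projective R P] : Module.Projective R (Fin N → P) := by
  classical
  exact Module.Projective.of_equiv
    (DFinsupp.linearEquivFunOnFintype (R := R) (ι := Fin N) (M := fun _ => P))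

/-- Stably isomorphic modules of constant rank have isomorphic powers. -/
theorem exists_pow_equiv (d n : ℕ) (hdim : ringKrullDim R ≤ d)
    (P Q : Type v) [AddCommGroup P] [Module R P] [Module.Finite R P]
    [Module.Projective R P] [AddCommGroup Q] [Module R Q] [Module.Finite R Q]
    [Module.Projective R Q]
    (hrk : ∀ p : PrimeSpectrum R, rankAtStalk P p = n)
    (hrk' : ∀ p : PrimeSpectrum R, rankAtStalk Q p = n)
    (m : ℕ) (e : (P × (Fin m → R)) ≃ₗ[R] (Q × (Fin m → R))) :
    ∃ N : ℕ, 1 ≤ N ∧ Nonempty ((Fin N → P) ≃ₗ[R] (Fin N → Q)) := by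
  rcases Nat.eq_zero_or_pos n with hn | hn
  · -- both modules are zero
    have hP : Subsingleton P := by
      rw [← rankAtStalk_eq_zero_iff_subsingleton (R := R)]
      funext p; rw [hrk p, hn]; rfl
    have hQ : Subsingleton Q := by
      rw [← rankAtStalk_eq_zero_iff_subsingleton (R := R)]
      funext p; rw [hrk' p, hn]; rfl
    exact ⟨1, le_rfl, ⟨LinearEquiv.ofSubsingleton _ _⟩⟩
  · refine ⟨d + 1, by omega, ?_⟩
    have hrkN : ∀ p : PrimeSpectrum R, rankAtStalk (Fin (d + 1) → Q) p = (d + 1) * n := by
      intro p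
      rw [rankAtStalk_pi, finsum_eq_sum_of_fintype]
      simp [hrk' p]
    have hlt : d < (d + 1) * n := by nlinarith
    exact bass_cancel_free d ((d + 1) * n) hdim (Fin (d + 1) → P) (Fin (d + 1) → Q)
      (Fin (d + 1) → (Fin m → R)) hrkN hlt
      (((prodPiEquiv (R := R) (Fin (d + 1)) P (Fin m → R)).trans
        (LinearEquiv.piCongrRight fun _ => e)).trans
        (prodPiEquiv (R := R) (Fin (d + 1)) Q (Fin m → R)).symm)

end Groth.Agent.Serre9
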