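import Mathlib.Algebra.Homology.Embedding.CochainComplex
import Mathlib.Algebra.Homology.Embedding.ExtendHomology
import Mathlib.Algebra.Homology.Embedding.TruncLEHomology
import Mathlib.Algebra.Homology.Embedding.HomEquiv
import Mathlib.Algebra.Homology.QuasiIso
import Mathlib.Algebra.Homology.Refinements
import Mathlib.CategoryTheory.Abelian.Basic
import Mathlib.CategoryTheory.Abelian.Refinements
import Mathlib.CategoryTheory.Abelian.SerreClass.Basic
import Mathlib.CategoryTheory.Abelian.Subcategory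

/-!
# Resolutions by objects of a Serre class with the lifting property

Let `P` be a Serre class in an abelian category `A` such that for any epimorphism `X ⟶ Y` with
`P Y` there is a subobject `X'` of `X` in `P` which still maps onto `Y`.  We show that any
`ℕ`-indexed chain complex `K` in `A` whose homology objects are in `P` receives a
quasi-isomorphism from (the image in `A` of) a chain complex in `P.FullSubcategory`
(Stacks 13.17.? / 0FCL).  We then transport this to `ℤ`-indexed cochain complexes which are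
strictly `≤ b`.
-/

set_option autoImplicit false
universe v u
open CategoryTheory Limits

namespace Groth.Agent.Lib.SerreDerH1

variable {A : Type u} [Category.{v} A] [Abelian A] (P : ObjectProperty A)

/-- lifting data for a morphism `g` with target in `P`: an object `X'` in `P` with a map to `X`
which has the same image in `Y` as `X` (expressed up to refinements). -/
structure LiftData {X Y : A} (g : X ⟶ Y) where
  X' : A
  i : X' ⟶ X
  prop : P X'
  spec : ∀ ⦃T : A⦄ (x : T ⟶ X), ∃ (T' : A) (π : T' ⟶ T) (_ : Epi π) (x' : T' ⟶ X'),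
    π ≫ x ≫ g = x' ≫ i ≫ g

/-- the lifting hypothesis, reformulated -/
def HasLifts : Prop := ∀ (X Y : A) (g : X ⟶ Y), P Y → Nonempty (LiftData P g)

lemma hasLifts_of_hlift [P.IsClosedUnderSubobjects]
    (hlift : ∀ (X Y : A) (π : X ⟶ Y), Epi π → P Y →
      ∃ (X' : A) (i : X' ⟶ X), Mono i ∧ P X' ∧ Epi (i ≫ π)) : HasLifts P := by
  intro X Y g hY
  have hI : P (image g) := P.prop_of_mono (image.ι g) hY
  obtain ⟨X', i, _, hX', hepi⟩ := hlift X (image g) (factorThruImage g) inferInstance hI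
  refine ⟨⟨X', i, hX', fun T x => ?_⟩⟩
  obtain ⟨T', π, hπ, x', hx'⟩ :=
    surjective_up_to_refinements_of_epi (i ≫ factorThruImage g) (x ≫ factorThruImage g)
  refine ⟨T', π, hπ, x', ?_⟩
  have h := congrArg (fun f => f ≫ image.ι g) hx'
  simpa only [Category.assoc, image.fac] using h

section NatConstruction

variable [P.IsSerreClass] (hl : HasLifts P) (K : ChainComplex A ℕ) (hK : ∀ n, P (K.homology n))

/-- chosen lift data -/
noncomputable def ld {X Y : A} (g : X ⟶ Y) (hY : P Y) : LiftData P g := (hl X Y g hY).some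

/-- lift data for `cycles ⟶ homology` -/
noncomputable def E (n : ℕ) : LiftData P (K.homologyπ n) := ld P hl (K.homologyπ n) (hK n)

lemma prev_nat (n : ℕ) : (ComplexShape.down ℕ).prev n = n + 1 := by simp

lemma next_zero : (ComplexShape.down ℕ).next 0 = 0 := by simp

lemma next_succ (n : ℕ) : (ComplexShape.down ℕ).next (n + 1) = n := by simp

lemma E_spec (n : ℕ) ⦃T : A⦄ (y : T ⟶ K.X n)
    (hy : y ≫ K.d n ((ComplexShape.down ℕ).next n) = 0) :
    ∃ (T' : A) (π : T' ⟶ T) (_ : Epi π) (z : T' ⟶ (E P hl K hK n).X') (y₁ : T' ⟶ K.X (n + 1)),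
      π ≫ y = z ≫ (E P hl K hK n).i ≫ K.iCycles n + y₁ ≫ K.d (n + 1) n := by
  obtain ⟨T₁, π₁, hπ₁, z', hz'⟩ := (E P hl K hK n).spec (K.liftCycles y _ rfl hy)
  obtain ⟨T₂, π₂, hπ₂, x₁, hx₁⟩ :=
    (K.comp_homologyπ_eq_iff_up_to_refinements (n + 1) n (prev_nat n)
      (π₁ ≫ K.liftCycles y _ rfl hy) (z' ≫ (E P hl K hK n).i)).1
      (by simpa only [Category.assoc] using hz')
  refine ⟨T₂, π₂ ≫ π₁, epi_comp _ _, π₂ ≫ z', x₁, ?_⟩
  have h := congrArg (fun f => f ≫ K.iCycles n) hx₁
  simp only [Category.assoc, Preadditive.add_comp, HomologicalComplex.liftCycles_i,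
    HomologicalComplex.toCycles_i] at h
  simpa only [Category.assoc] using h

/-- state of the inductive construction -/
structure St (n : ℕ) where
  M : A
  hM : P M
  α : M ⟶ K.X n
  Z : A
  i : Z ⟶ M
  hepi : ∀ ⦃T : A⦄ (y : T ⟶ K.X n), y ≫ K.d n ((ComplexShape.down ℕ).next n) = 0 →
      ∃ (T' : A) (π : T' ⟶ T) (_ : Epi π) (z : T' ⟶ Z) (y₁ : T' ⟶ K.X (n + 1)),
        π ≫ y = z ≫ i ≫ α + y₁ ≫ K.d (n + 1) n

variable {P K}

/-- lift data for the pullback at step `n` -/
noncomputable def L1 {n : ℕ} (s : St P K n) :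
    LiftData P (pullback.fst (s.i ≫ s.α) (K.d (n + 1) n) ≫ s.i) := ld P hl _ s.hM

/-- the next object -/
noncomputable abbrev nextM {n : ℕ} (s : St P K n) : A :=
  (L1 hl s).X' ⊞ (E P hl K hK (n + 1)).X'

/-- the next augmentation -/
noncomputable def nextα {n : ℕ} (s : St P K n) : nextM hl hK s ⟶ K.X (n + 1) :=
  biprod.desc ((L1 hl s).i ≫ pullback.snd _ _) ((E P hl K hK (n + 1)).i ≫ K.iCycles (n + 1))

/-- the next differential -/
noncomputable def dnext {n : ℕ} (s : St P K n) : nextM hl hK s ⟶ s.M :=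
  biprod.desc ((L1 hl s).i ≫ pullback.fst _ _ ≫ s.i) 0

@[reassoc]
lemma inl_dnext {n : ℕ} (s : St P K n) :
    biprod.inl ≫ dnext hl hK s = (L1 hl s).i ≫ pullback.fst _ _ ≫ s.i :=
  biprod.inl_desc _ _

@[reassoc]
lemma inr_dnext {n : ℕ} (s : St P K n) :
    biprod.inr ≫ dnext hl hK s = 0 :=
  biprod.inr_desc _ _

@[reassoc]
lemma inl_nextα {n : ℕ} (s : St P K n) :
    biprod.inl ≫ nextα hl hK s = (L1 hl s).i ≫ pullback.snd _ _ :=
  biprod.inl_desc _ _

@[reassoc]
lemma inr_nextα {n : ℕ} (s : St P K n) :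
    biprod.inr ≫ nextα hl hK s = (E P hl K hK (n + 1)).i ≫ K.iCycles (n + 1) :=
  biprod.inr_desc _ _

/-- the next state -/
@[reducible] noncomputable def next {n : ℕ} (s : St P K n) : St P K (n + 1) where
  M := nextM hl hK s
  hM := P.prop_biprod (L1 hl s).prop (E P hl K hK (n + 1)).prop
  α := nextα hl hK s
  Z := kernel (dnext hl hK s)
  i := kernel.ι (dnext hl hK s)
  hepi := fun T y hy => by
    obtain ⟨T', π, hπ, z', y₁, h⟩ := E_spec P hl K hK (n + 1) y hy
    refine ⟨T', π, hπ, kernel.lift (dnext hl hK s) (z' ≫ biprod.inr) ?_, y₁, ?_⟩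
    · rw [Category.assoc, inr_dnext, comp_zero]
    · rw [kernel.lift_ι_assoc, Category.assoc, inr_nextα]
      exact h

/-- the initial state -/
noncomputable def init : St P K 0 where
  M := (E P hl K hK 0).X'
  hM := (E P hl K hK 0).prop
  α := (E P hl K hK 0).i ≫ K.iCycles 0
  Z := (E P hl K hK 0).X'
  i := 𝟙 _
  hepi := fun T y hy => by
    obtain ⟨T', π, hπ, z', y₁, h⟩ := E_spec P hl K hK 0 y hy
    refine ⟨T', π, hπ, z', y₁, ?_⟩
    rw [Category.id_comp]
    exact h

/-- the sequence of states -/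
noncomputable def seq : ∀ n : ℕ, St P K n
  | 0 => init hl hK
  | n + 1 => next hl hK (seq n)

lemma dnext_comp {n : ℕ} (s : St P K n) :
    dnext hl hK (next hl hK s) ≫ dnext hl hK s = 0 := by
  apply biprod.hom_ext'
  · rw [inl_dnext_assoc, comp_zero]
    have h : (next hl hK s).i ≫ dnext hl hK s = 0 := kernel.condition _
    rw [h, comp_zero, comp_zero]
  · rw [inr_dnext_assoc, zero_comp, comp_zero]

lemma dnext_α {n : ℕ} (s : St P K n) :
    dnext hl hK s ≫ s.α = nextα hl hK s ≫ K.d (n + 1) n := by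
  apply biprod.hom_ext'
  · rw [inl_dnext_assoc, inl_nextα_assoc, pullback.condition]
  · rw [inr_dnext_assoc, zero_comp, inr_nextα_assoc, HomologicalComplex.iCycles_d, comp_zero]

variable (P K)

/-- the resolving complex, in the full subcategory -/
noncomputable def Mc : ChainComplex P.FullSubcategory ℕ :=
  ChainComplex.of (fun n => (⟨(seq hl hK n).M, (seq hl hK n).hM⟩ : P.FullSubcategory))
    (fun n => ObjectProperty.homMk (dnext hl hK (seq hl hK n)))
    (fun n => by
      ext
      exact dnext_comp hl hK (seq hl hK n))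

lemma Mc_d (n : ℕ) : (Mc P hl K hK).d (n + 1) n =
    ObjectProperty.homMk (dnext hl hK (seq hl hK n)) := by
  dsimp [Mc]
  exact ChainComplex.of_d _ _ n

/-- the image in `A` of the resolving complex -/
noncomputable abbrev FMc : ChainComplex A ℕ :=
  (P.ι.mapHomologicalComplex (ComplexShape.down ℕ)).obj (Mc P hl K hK)

lemma FMc_d (n : ℕ) : (FMc P hl K hK).d (n + 1) n = dnext hl hK (seq hl hK n) := by
  show P.ι.map ((Mc P hl K hK).d (n + 1) n) = _
  rw [Mc_d]
  rfl

/-- the resolution map -/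
noncomputable def αc : FMc P hl K hK ⟶ K where
  f n := (seq hl hK n).α
  comm' i j hij := by
    obtain rfl : j + 1 = i := hij
    rw [FMc_d]
    exact (dnext_α hl hK (seq hl hK j)).symm

lemma αc_f (n : ℕ) : (αc P hl K hK).f n = (seq hl hK n).α := rfl

lemma seq_i_d (n : ℕ) :
    (seq hl hK n).i ≫ (FMc P hl K hK).d n ((ComplexShape.down ℕ).next n) = 0 := by
  cases n with
  | zero =>
    rw [next_zero, (FMc P hl K hK).shape 0 0 (by simp)]
    exact comp_zero
  | succ n =>
    rw [next_succ, FMc_d]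
    show kernel.ι (dnext hl hK (seq hl hK n)) ≫ dnext hl hK (seq hl hK n) = 0
    exact kernel.condition _

lemma seq_i_lift (n : ℕ) {T : A} (x : T ⟶ (FMc P hl K hK).X n)
    (hx : x ≫ (FMc P hl K hK).d n ((ComplexShape.down ℕ).next n) = 0) :
    ∃ z : T ⟶ (seq hl hK n).Z, z ≫ (seq hl hK n).i = x := by
  cases n with
  | zero => exact ⟨x, Category.comp_id _⟩
  | succ n =>
    rw [next_succ, FMc_d] at hx
    exact ⟨kernel.lift (dnext hl hK (seq hl hK n)) x hx, kernel.lift_ι _ _ _⟩

instance αc_quasiIso : QuasiIso (αc P hl K hK) := by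
  rw [quasiIso_iff]
  intro n
  rw [quasiIsoAt_iff_isIso_homologyMap]
  have hm : Mono (HomologicalComplex.homologyMap (αc P hl K hK) n) := by
    rw [HomologicalComplex.mono_homologyMap_iff_up_to_refinements (αc P hl K hK) (n + 1) n
      ((ComplexShape.down ℕ).next n) (prev_nat n) rfl]
    intro T x₂ hx₂ y₁ hy₁
    obtain ⟨z, hz⟩ := seq_i_lift P hl K hK n x₂ hx₂
    have hw : z ≫ (seq hl hK n).i ≫ (seq hl hK n).α = y₁ ≫ K.d (n + 1) n := by
      rw [← hy₁, ← hz]
      exact (Category.assoc _ _ _).symm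
    obtain ⟨T', π, hπ, x', hx'⟩ := (L1 hl (seq hl hK n)).spec (pullback.lift z y₁ hw)
    refine ⟨T', π, hπ, x' ≫ biprod.inl, ?_⟩
    have e1 : (x' ≫ biprod.inl : T' ⟶ nextM hl hK (seq hl hK n)) ≫ dnext hl hK (seq hl hK n) =
        π ≫ z ≫ (seq hl hK n).i := by
      rw [Category.assoc, inl_dnext, ← hx', pullback.lift_fst_assoc]
    rw [FMc_d, ← hz]
    exact e1.symm
  have he : Epi (HomologicalComplex.homologyMap (αc P hl K hK) n) := by
    rw [HomologicalComplex.epi_homologyMap_iff_up_to_refinements (αc P hl K hK) (n + 1) n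
      ((ComplexShape.down ℕ).next n) (prev_nat n) rfl]
    intro T y₂ hy₂
    obtain ⟨T', π, hπ, z, y₁, h⟩ := (seq hl hK n).hepi y₂ hy₂
    refine ⟨T', π, hπ, z ≫ (seq hl hK n).i, ?_, y₁, ?_⟩
    · have e2 := seq_i_d P hl K hK n
      calc (z ≫ (seq hl hK n).i) ≫ (FMc P hl K hK).d n ((ComplexShape.down ℕ).next n)
          = z ≫ ((seq hl hK n).i ≫ (FMc P hl K hK).d n ((ComplexShape.down ℕ).next n)) :=
            Category.assoc _ _ _
        _ = 0 := by rw [e2, comp_zero]
    · exact h.trans (congrArg (fun t => t + y₁ ≫ K.d (n + 1) n) (Category.assoc _ _ _).symm)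
  exact isIso_of_mono_of_epi _

include hl hK in
theorem exists_resolution_nat :
    ∃ (M : ChainComplex P.FullSubcategory ℕ)
      (f : (P.ι.mapHomologicalComplex (ComplexShape.down ℕ)).obj M ⟶ K), QuasiIso f :=
  ⟨Mc P hl K hK, αc P hl K hK, inferInstance⟩

end NatConstruction

end Groth.Agent.Lib.SerreDerH1
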