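import Groth.Agent.Lib.SerreDer1_helper1

/-!
# Transport of the resolution to `ℤ`-indexed cochain complexes

We show that `extend` commutes with `Functor.mapHomologicalComplex` (for embeddings satisfying
`IsTruncLE`), and deduce that a cochain complex `K` in `A` which is strictly `≤ b` and whose
cohomology objects are in `P` receives a quasi-isomorphism from a complex in `P.FullSubcategory`
which is strictly `≤ b`.
-/

set_option autoImplicit false
universe v u
open CategoryTheory Limits

namespace Groth.Agent.Lib.SerreDerH1

section MapExtend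

variable {B : Type*} [Category B] [HasZeroMorphisms B] [HasZeroObject B]
  {A' : Type*} [Category A'] [HasZeroMorphisms A'] [HasZeroObject A']
  (F : B ⥤ A') [F.PreservesZeroMorphisms]
  {ι ι' : Type*} {c : ComplexShape ι} {c' : ComplexShape ι'} (e : c.Embedding c') [e.IsRelIff]

/-- auxiliary morphism for `mapExtendHom` -/
noncomputable def mapExtendRestr (M : HomologicalComplex B c) :
    ((F.mapHomologicalComplex c').obj (M.extend e)).restriction e ⟶
      (F.mapHomologicalComplex c).obj M where
  f i := F.map (M.extendXIso e rfl).hom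
  comm' i j _ := by
    show F.map (M.extendXIso e rfl).hom ≫ F.map (M.d i j) =
      F.map ((M.extend e).d (e.f i) (e.f j)) ≫ F.map (M.extendXIso e rfl).hom
    rw [← F.map_comp, ← F.map_comp, M.extend_d_eq e rfl rfl]
    simp

lemma mapExtendRestr_f (M : HomologicalComplex B c) (i : ι) :
    (mapExtendRestr F e M).f i = F.map (M.extendXIso e rfl).hom := rfl

end MapExtend

section MapExtend

variable {B : Type*} [Category B] [HasZeroMorphisms B] [HasZeroObject B]
  {A' : Type*} [Category A'] [HasZeroMorphisms A'] [HasZeroObject A']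
  (F : B ⥤ A') [F.PreservesZeroMorphisms]
  {ι ι' : Type*} {c : ComplexShape ι} {c' : ComplexShape ι'} (e : c.Embedding c') [e.IsTruncLE]

lemma hasLift_mapExtendRestr (M : HomologicalComplex B c) :
    e.HasLift (mapExtendRestr F e M) :=
  fun _ hj _ _ => hj.false_of_isTruncLE.elim

/-- the comparison `F (M.extend e) ⟶ (F M).extend e` -/
noncomputable def mapExtendHom (M : HomologicalComplex B c) :
    (F.mapHomologicalComplex c').obj (M.extend e) ⟶
      ((F.mapHomologicalComplex c).obj M).extend e :=
  e.liftExtend (mapExtendRestr F e M) (hasLift_mapExtendRestr F e M)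

instance (M : HomologicalComplex B c) : IsIso (mapExtendHom F e M) := by
  have : ∀ i', IsIso ((mapExtendHom F e M).f i') := by
    intro i'
    by_cases hi' : ∃ i, e.f i = i'
    · obtain ⟨i, hi⟩ := hi'
      exact (e.isIso_liftExtend_f_iff (mapExtendRestr F e M) (hasLift_mapExtendRestr F e M) hi).2
        (by
          show IsIso (F.map (M.extendXIso e rfl).hom)
          infer_instance)
    · have h1 : IsZero (((F.mapHomologicalComplex c').obj (M.extend e)).X i') :=
        F.map_isZero (M.isZero_extend_X e i' (by simpa using hi'))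
      have h2 := ((F.mapHomologicalComplex c).obj M).isZero_extend_X e i' (by simpa using hi')
      exact ⟨⟨0, h1.eq_of_src _ _, h2.eq_of_src _ _⟩⟩
  exact HomologicalComplex.Hom.isIso_of_components _

end MapExtend

section IntConstruction

variable {A : Type u} [Category.{v} A] [Abelian A] (P : ObjectProperty A) [P.IsSerreClass]
  (hl : HasLifts P)

include hl in
theorem exists_resolution_of_embedding {ι' : Type*} {c' : ComplexShape ι'}
    (e : (ComplexShape.down ℕ).Embedding c') [e.IsTruncLE]
    (K' : HomologicalComplex A c') [K'.IsStrictlySupported e]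
    (hK : ∀ n, P (K'.homology n)) :
    ∃ (M : ChainComplex P.FullSubcategory ℕ)
      (t : (P.ι.mapHomologicalComplex c').obj (M.extend e) ⟶ K'), QuasiIso t := by
  have hK' : ∀ k, P ((K'.truncLE' e).homology k) := fun k =>
    P.prop_of_iso (((HomologicalComplex.homologyFunctor A c' (e.f k)).mapIso
        (asIso (K'.ιTruncLE e))).symm ≪≫
      (HomologicalComplex.homologyFunctor A c' (e.f k)).mapIso (K'.truncLEIso e) ≪≫
      (K'.truncLE' e).extendHomologyIso e rfl) (hK (e.f k))
  obtain ⟨M, f, hf⟩ := exists_resolution_nat P hl (K'.truncLE' e) hK'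
  refine ⟨M, mapExtendHom P.ι e M ≫ HomologicalComplex.extendMap f e ≫
    (K'.truncLEIso e).inv ≫ K'.ιTruncLE e, ?_⟩
  infer_instance

include hl in
theorem exists_resolution_int (K' : CochainComplex A ℤ) (b : ℤ) [K'.IsStrictlyLE b]
    (hK : ∀ n, P (K'.homology n)) :
    ∃ (M : CochainComplex P.FullSubcategory ℤ) (_ : M.IsStrictlyLE b)
      (t : (P.ι.mapHomologicalComplex (ComplexShape.up ℤ)).obj M ⟶ K'), QuasiIso t := by
  obtain ⟨M, t, ht⟩ := exists_resolution_of_embedding P hl (ComplexShape.embeddingUpIntLE b) K' hK
  exact ⟨M.extend (ComplexShape.embeddingUpIntLE b), inferInstance, t, ht⟩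

end IntConstruction

end Groth.Agent.Lib.SerreDerH1
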