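import Groth.Agent.Lib.SerreDer2_helper1
import Mathlib.Algebra.Homology.DerivedCategory.ExactFunctor
import Mathlib.Algebra.Homology.DerivedCategory.TStructure
import Mathlib.Algebra.Homology.DerivedCategory.HomologySequence
import Mathlib.Algebra.Homology.DerivedCategory.Fractions

/-!
# `D⁻(P) ≃ D⁻_P(A)` for a Serre class with the lifting property
-/

set_option autoImplicit false
universe w w' v u
open CategoryTheory Limits

namespace Groth.Agent.Lib.SerreDerH1

section Homotopy

variable {A : Type u} [Category.{v} A] [Preadditive A] (P : ObjectProperty A)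
  {ι : Type*} {c : ComplexShape ι}

/-- the inclusion of a full subcategory reflects homotopies -/
def reflectHomotopy {K L : HomologicalComplex P.FullSubcategory c} (f g : K ⟶ L)
    (H : Homotopy ((P.ι.mapHomologicalComplex c).map f) ((P.ι.mapHomologicalComplex c).map g)) :
    Homotopy f g where
  hom i j := ObjectProperty.homMk (H.hom i j)
  zero i j hij := by
    ext
    exact H.zero i j hij
  comm i := by
    apply P.ι.map_injective
    have H' := H.comm i
    show P.ι.map (f.f i) = P.ι.map (K.d i (c.next i) ≫ ObjectProperty.homMk (H.hom (c.next i) i) +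
      ObjectProperty.homMk (H.hom i (c.prev i)) ≫ L.d (c.prev i) i + g.f i)
    rw [Functor.map_add, Functor.map_add, Functor.map_comp, Functor.map_comp]
    exact H'

end Homotopy

section Derived

open DerivedCategory

variable {A : Type u} [Category.{v} A] [Abelian A] [HasDerivedCategory.{w} A]
  (P : ObjectProperty A) [P.IsSerreClass] [P.IsClosedUnderKernels] [P.IsClosedUnderCokernels]
  [P.IsClosedUnderFiniteProducts] [HasDerivedCategory.{w'} P.FullSubcategory]
  [PreservesFiniteLimits P.ι] [PreservesFiniteColimits P.ι]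

omit [HasDerivedCategory.{w} A] [P.IsClosedUnderKernels] [P.IsClosedUnderCokernels]
  [P.IsClosedUnderFiniteProducts] [HasDerivedCategory.{w'} P.FullSubcategory]
  [PreservesFiniteLimits P.ι] [PreservesFiniteColimits P.ι] in
lemma homology_P_of_terms {ι : Type*} {c : ComplexShape ι} (L : HomologicalComplex A c)
    (hL : ∀ n, P (L.X n)) (n : ι) : P (L.homology n) :=
  P.prop_of_epi (L.homologyπ n) (P.prop_of_mono (L.iCycles n) (hL n))

omit [HasDerivedCategory.{w} A] [HasDerivedCategory.{w'} P.FullSubcategory]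
  [PreservesFiniteLimits P.ι] [PreservesFiniteColimits P.ι] in
lemma homology_P_Fc (M : CochainComplex P.FullSubcategory ℤ) (n : ℤ) :
    P (((P.ι.mapHomologicalComplex (ComplexShape.up ℤ)).obj M).homology n) :=
  homology_P_of_terms P _ (fun n => (M.X n).property) n

omit [HasDerivedCategory.{w} A] [P.IsClosedUnderKernels] [P.IsClosedUnderCokernels]
  [P.IsClosedUnderFiniteProducts] [HasDerivedCategory.{w'} P.FullSubcategory]
  [PreservesFiniteLimits P.ι] [PreservesFiniteColimits P.ι] in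
lemma homology_P_of_quasiIso {K L : CochainComplex A ℤ} (s : K ⟶ L) [QuasiIso s]
    (hL : ∀ n, P (L.homology n)) (n : ℤ) : P (K.homology n) :=
  P.prop_of_iso (asIso (HomologicalComplex.homologyMap s n)).symm (hL n)

variable (hl : HasLifts P)

include hl in
omit [HasDerivedCategory.{w} A] [HasDerivedCategory.{w'} P.FullSubcategory] in
theorem lemmaA (b : ℤ) (M' : CochainComplex P.FullSubcategory ℤ) (K : CochainComplex A ℤ)
    [K.IsStrictlyLE b] (s : K ⟶ (P.ι.mapHomologicalComplex (ComplexShape.up ℤ)).obj M') [QuasiIso s] :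
    ∃ (M'' : CochainComplex P.FullSubcategory ℤ) (_ : M''.IsStrictlyLE b)
      (t : (P.ι.mapHomologicalComplex (ComplexShape.up ℤ)).obj M'' ⟶ K) (_ : QuasiIso t) (u : M'' ⟶ M') (_ : QuasiIso u),
      (P.ι.mapHomologicalComplex (ComplexShape.up ℤ)).map u = t ≫ s := by
  obtain ⟨M'', hM'', t, ht⟩ := exists_resolution_int P hl K b
    (homology_P_of_quasiIso P s (homology_P_Fc P M'))
  refine ⟨M'', hM'', t, ht, (P.ι.mapHomologicalComplex (ComplexShape.up ℤ)).preimage (t ≫ s), ?_, Functor.map_preimage _ _⟩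
  rw [← HomologicalComplex.quasiIso_map_iff_of_preservesHomology _ P.ι, Functor.map_preimage]
  infer_instance

/-- the comparison isomorphism -/
noncomputable def fac (M : CochainComplex P.FullSubcategory ℤ) :
    P.ι.mapDerivedCategory.obj (Q.obj M) ≅ Q.obj ((P.ι.mapHomologicalComplex (ComplexShape.up ℤ)).obj M) :=
  (P.ι.mapDerivedCategoryFactors).app M

@[reassoc]
lemma fac_naturality {M N : CochainComplex P.FullSubcategory ℤ} (f : M ⟶ N) :
    P.ι.mapDerivedCategory.map (Q.map f) ≫ (fac P N).hom = (fac P M).hom ≫ Q.map ((P.ι.mapHomologicalComplex (ComplexShape.up ℤ)).map f) :=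
  P.ι.mapDerivedCategoryFactors_hom_naturality f

include hl in
theorem full_aux (b : ℤ) (M' N' : CochainComplex P.FullSubcategory ℤ) [M'.IsStrictlyLE b]
    (φ : P.ι.mapDerivedCategory.obj (Q.obj M') ⟶ P.ι.mapDerivedCategory.obj (Q.obj N')) :
    ∃ ψ : Q.obj M' ⟶ Q.obj N', P.ι.mapDerivedCategory.map ψ = φ := by
  obtain ⟨K, hK, s, hs, g, hg⟩ :=
    right_fac_of_isStrictlyLE ((fac P M').inv ≫ φ ≫ (fac P N').hom) b
  have hs' : QuasiIso s := (isIso_Q_map_iff_quasiIso _ s).1 hs
  obtain ⟨M'', hM'', t, ht, u, hu, htu⟩ := lemmaA P hl b M' K s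
  have hv : (P.ι.mapHomologicalComplex (ComplexShape.up ℤ)).map ((P.ι.mapHomologicalComplex (ComplexShape.up ℤ)).preimage (t ≫ g)) = t ≫ g := Functor.map_preimage _ _
  generalize (P.ι.mapHomologicalComplex (ComplexShape.up ℤ)).preimage (t ≫ g) = v at hv
  have hQu : IsIso (Q.map u) := (isIso_Q_map_iff_quasiIso _ u).2 hu
  have hQt : IsIso (Q.map t) := (isIso_Q_map_iff_quasiIso _ t).2 ht
  refine ⟨inv (Q.map u) ≫ Q.map v, ?_⟩
  rw [Functor.map_comp, Functor.map_inv, IsIso.inv_comp_eq]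
  rw [← cancel_mono (fac P N').hom, fac_naturality, Category.assoc]
  have hφ : φ ≫ (fac P N').hom = (fac P M').hom ≫ inv (Q.map s) ≫ Q.map g := by
    rw [← hg, Iso.hom_inv_id_assoc]
  rw [hφ, fac_naturality_assoc, htu, hv, Q.map_comp, Q.map_comp, Category.assoc,
    IsIso.hom_inv_id_assoc]

omit [P.IsSerreClass] [P.IsClosedUnderKernels] [P.IsClosedUnderCokernels]
  [P.IsClosedUnderFiniteProducts] [HasDerivedCategory.{w'} P.FullSubcategory]
  [PreservesFiniteLimits P.ι] [PreservesFiniteColimits P.ι] in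
lemma lemmaZ {X Y : CochainComplex A ℤ} (h : X ⟶ Y) (b : ℤ) [X.IsStrictlyLE b]
    (hh : Q.map h = 0) :
    ∃ (K : CochainComplex A ℤ) (_ : K.IsStrictlyLE b) (σ : K ⟶ X) (_ : QuasiIso σ),
      (HomotopyCategory.quotient A (ComplexShape.up ℤ)).map (σ ≫ h) = 0 := by
  have h1 : Qh.map ((HomotopyCategory.quotient A (ComplexShape.up ℤ)).map h) =
      Qh.map (0 : (HomotopyCategory.quotient A (ComplexShape.up ℤ)).obj X ⟶
        (HomotopyCategory.quotient A (ComplexShape.up ℤ)).obj Y) := by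
    rw [Functor.map_zero]
    have e := quotientCompQhIso_hom_naturality h
    rw [hh, comp_zero] at e
    exact (cancel_mono ((quotientCompQhIso A).hom.app Y)).1 (by rw [e, zero_comp])
  rw [MorphismProperty.map_eq_iff_precomp Qh
    (HomotopyCategory.quasiIso A (ComplexShape.up ℤ))] at h1
  obtain ⟨Z, s, hs, hsh⟩ := h1
  obtain ⟨K, rfl⟩ := HomotopyCategory.quotient_obj_surjective Z
  obtain ⟨σ, rfl⟩ := (HomotopyCategory.quotient _ _).map_surjective s
  rw [HomotopyCategory.quotient_map_mem_quasiIso_iff, HomologicalComplex.mem_quasiIso_iff] at hs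
  rw [comp_zero, ← Functor.map_comp] at hsh
  have hq : QuasiIso (CochainComplex.truncLEMap σ b) := by
    rw [CochainComplex.quasiIso_truncLEMap_iff]
    infer_instance
  refine ⟨CochainComplex.truncLE K b, inferInstance,
    CochainComplex.truncLEMap σ b ≫ CochainComplex.ιTruncLE X b, inferInstance, ?_⟩
  have e : (CochainComplex.truncLEMap σ b ≫ CochainComplex.ιTruncLE X b) ≫ h =
      CochainComplex.ιTruncLE K b ≫ (σ ≫ h) := by
    rw [CochainComplex.ιTruncLE_naturality, Category.assoc]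
  rw [e, Functor.map_comp, hsh, comp_zero]

include hl in
theorem faithful_aux (b : ℤ) (M' N' : CochainComplex P.FullSubcategory ℤ) [M'.IsStrictlyLE b]
    (ψ : Q.obj M' ⟶ Q.obj N') (h : P.ι.mapDerivedCategory.map ψ = 0) : ψ = 0 := by
  obtain ⟨M'', hM'', s, hs, g, rfl⟩ := right_fac_of_isStrictlyLE ψ b
  have h1 : P.ι.mapDerivedCategory.map (Q.map g) = 0 := by
    have e : P.ι.mapDerivedCategory.map (Q.map g) = P.ι.mapDerivedCategory.map (Q.map s) ≫ P.ι.mapDerivedCategory.map (inv (Q.map s) ≫ Q.map g) := by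
      rw [← Functor.map_comp, IsIso.hom_inv_id_assoc]
    rw [e, h, comp_zero]
  have h2 : Q.map ((P.ι.mapHomologicalComplex (ComplexShape.up ℤ)).map g) = 0 := by
    have e := fac_naturality P g
    rw [h1, zero_comp] at e
    exact (cancel_epi (fac P M'').hom).1 (by rw [← e, comp_zero])
  obtain ⟨K, hK, σ, hσ, hσg⟩ := lemmaZ ((P.ι.mapHomologicalComplex (ComplexShape.up ℤ)).map g) b h2
  obtain ⟨M₃, hM₃, t, ht, u, hu, htu⟩ := lemmaA P hl b M'' K σ
  have h3 : (HomotopyCategory.quotient A (ComplexShape.up ℤ)).map ((P.ι.mapHomologicalComplex (ComplexShape.up ℤ)).map (u ≫ g)) = 0 := by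
    rw [Functor.map_comp, htu, Category.assoc, Functor.map_comp, hσg, comp_zero]
  rw [HomotopyCategory.quotient_map_eq_zero_iff] at h3
  obtain ⟨H⟩ := h3
  have H' : Homotopy (u ≫ g) 0 :=
    reflectHomotopy P _ _ (H.trans (Homotopy.ofEq (Functor.map_zero _ _ _).symm))
  have h5 : Q.map (u ≫ g) = 0 := by
    rw [Q_map_eq_of_homotopy _ H', Functor.map_zero]
  have hQu : IsIso (Q.map u) := (isIso_Q_map_iff_quasiIso _ u).2 hu
  have h6 : Q.map g = 0 := by
    rw [Q.map_comp] at h5
    exact (cancel_epi (Q.map u)).1 (by rw [h5, comp_zero])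
  rw [h6, comp_zero]

include hl in
theorem essSurj_aux (K : DerivedCategory A) (b : ℤ) [K.IsLE b]
    (hK : ∀ n : ℤ, P ((DerivedCategory.homologyFunctor A n).obj K)) :
    ∃ M : DerivedCategory P.FullSubcategory, M.IsLE b ∧ Nonempty (P.ι.mapDerivedCategory.obj M ≅ K) := by
  obtain ⟨K', hK', ⟨e⟩⟩ := exists_iso_Q_obj_of_isLE K b
  have hK'' : ∀ n, P (K'.homology n) := fun n =>
    P.prop_of_iso (((DerivedCategory.homologyFunctor A n).mapIso e) ≪≫
      (homologyFunctorFactors A n).app K') (hK n)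
  obtain ⟨M', hM', t, ht⟩ := exists_resolution_int P hl K' b hK''
  have hQt : IsIso (Q.map t) := (isIso_Q_map_iff_quasiIso _ t).2 ht
  exact ⟨Q.obj M', inferInstance, ⟨fac P M' ≪≫ asIso (Q.map t) ≪≫ e.symm⟩⟩

theorem main1050
    (hlift : ∀ (X Y : A) (π : X ⟶ Y), Epi π → P Y →
      ∃ (X' : A) (i : X' ⟶ X), Mono i ∧ P X' ∧ Epi (i ≫ π)) :
    (∀ (M N : DerivedCategory P.FullSubcategory) (b : ℤ), M.IsLE b → N.IsLE b →
      Function.Bijective (fun φ : M ⟶ N => P.ι.mapDerivedCategory.map φ)) ∧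
    ∀ (K : DerivedCategory A) (b : ℤ), K.IsLE b →
      (∀ n : ℤ, P ((DerivedCategory.homologyFunctor A n).obj K)) →
      ∃ M : DerivedCategory P.FullSubcategory,
        M.IsLE b ∧ Nonempty (P.ι.mapDerivedCategory.obj M ≅ K) := by
  have hl : HasLifts P := hasLifts_of_hlift P hlift
  refine ⟨fun M N b hM hN => ?_, fun K b hK hP => essSurj_aux P hl K b hP⟩
  obtain ⟨M', hM', ⟨eM⟩⟩ := exists_iso_Q_obj_of_isLE M b
  obtain ⟨N', hN', ⟨eN⟩⟩ := exists_iso_Q_obj_of_isLE N b
  constructor
  · intro ψ₁ ψ₂ h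
    have h' : P.ι.mapDerivedCategory.map ψ₁ = P.ι.mapDerivedCategory.map ψ₂ := h
    have h0 : P.ι.mapDerivedCategory.map (eM.inv ≫ (ψ₁ - ψ₂) ≫ eN.hom) = 0 := by
      rw [Functor.map_comp, Functor.map_comp, Functor.map_sub, h', sub_self, zero_comp, comp_zero]
    have h1 := faithful_aux P hl b M' N' _ h0
    have h2 : (ψ₁ - ψ₂) ≫ eN.hom = 0 := (cancel_epi eM.inv).1 (by rw [h1, comp_zero])
    have h3 : ψ₁ - ψ₂ = 0 := (cancel_mono eN.hom).1 (by rw [h2, zero_comp])
    exact sub_eq_zero.1 h3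
  · intro φ
    obtain ⟨ψ, hψ⟩ := full_aux P hl b M' N' (P.ι.mapDerivedCategory.map eM.inv ≫ φ ≫ P.ι.mapDerivedCategory.map eN.hom)
    refine ⟨eM.hom ≫ ψ ≫ eN.inv, ?_⟩
    show P.ι.mapDerivedCategory.map (eM.hom ≫ ψ ≫ eN.inv) = φ
    rw [Functor.map_comp, Functor.map_comp, hψ]
    simp only [Category.assoc]
    rw [← Functor.map_comp, Iso.hom_inv_id, CategoryTheory.Functor.map_id, Category.comp_id,
      ← Functor.map_comp_assoc, Iso.hom_inv_id, CategoryTheory.Functor.map_id, Category.id_comp]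

end Derived

end Groth.Agent.Lib.SerreDerH1
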