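import Mathlib

/-!
# `D(A) ⥤ D(A/P)` is essentially surjective (helper9)

Every cochain complex in a Serre quotient `A/P` is isomorphic to the image of a cochain complex
of `A`: two one-sided recursions using the calculus of fractions.
-/

open CategoryTheory CategoryTheory.Limits

namespace Groth.Agent.Lib.SerreEssSurj

universe w w' v u v' u'

variable {A : Type u} [Category.{v} A] [Abelian A]
  (P : ObjectProperty A) [P.IsSerreClass]
  {Q : Type u'} [Category.{v'} Q] [Abelian Q]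
  (L : A ⥤ Q) [L.IsLocalization P.isoModSerre] [L.Additive] [PreservesFiniteLimits L]
  [PreservesFiniteColimits L]

omit [L.Additive] in
lemma isIso_map_cokernel_π [L.PreservesZeroMorphisms] {B X : A} (h : B ⟶ X) (h0 : L.map h = 0) :
    IsIso (L.map (cokernel.π h)) := by
  have hex := (ShortComplex.exact_cokernel h).map L
  haveI : Mono (L.map (cokernel.π h)) := hex.mono_g h0
  haveI : Epi (L.map (cokernel.π h)) := inferInstance
  exact isIso_of_mono_of_epi _

omit [L.Additive] in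
lemma isIso_map_kernel_ι [L.PreservesZeroMorphisms] {X C : A} (h : X ⟶ C) (h0 : L.map h = 0) :
    IsIso (L.map (kernel.ι h)) := by
  have hex := (ShortComplex.exact_kernel h).map L
  haveI : Epi (L.map (kernel.ι h)) := hex.epi_f h0
  haveI : Mono (L.map (kernel.ι h)) := inferInstance
  exact isIso_of_mono_of_epi _

variable (Y : CochainComplex Q ℤ)

include P in
lemma exists_up (i j : ℤ) {X B : A} (e : L.obj X ≅ Y.X i) (b : B ⟶ X)
    (hb : L.map b ≫ e.hom ≫ Y.d i j = 0) :
    ∃ (X' : A) (e' : L.obj X' ≅ Y.X j) (g : X ⟶ X'),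
      L.map g ≫ e'.hom = e.hom ≫ Y.d i j ∧ b ≫ g = 0 := by
  haveI := Localization.essSurj L P.isoModSerre
  let e₀ : L.obj (L.objPreimage (Y.X j)) ≅ Y.X j := L.objObjPreimageIso _
  obtain ⟨φ, hφ⟩ := Localization.exists_leftFraction L P.isoModSerre (e.hom ≫ Y.d i j ≫ e₀.inv)
  haveI : IsIso (L.map φ.s) := Localization.inverts L P.isoModSerre _ φ.hs
  let e₁ : L.obj φ.Y' ≅ Y.X j := (asIso (L.map φ.s)).symm ≪≫ e₀
  have h1 : L.map φ.f ≫ e₁.hom = e.hom ≫ Y.d i j := by
    have := φ.map_comp_map_s L (Localization.inverts L P.isoModSerre)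
    rw [← hφ] at this
    simp only [e₁, Iso.trans_hom, Iso.symm_hom, asIso_inv, ← this, Category.assoc,
      IsIso.hom_inv_id_assoc, Iso.inv_hom_id, Category.comp_id]
  have h2 : L.map (b ≫ φ.f) = 0 := by
    rw [← cancel_mono e₁.hom, zero_comp, L.map_comp, Category.assoc, h1, hb]
  haveI := isIso_map_cokernel_π L (b ≫ φ.f) h2
  refine ⟨cokernel (b ≫ φ.f), (asIso (L.map (cokernel.π (b ≫ φ.f)))).symm ≪≫ e₁,
    φ.f ≫ cokernel.π (b ≫ φ.f), ?_, ?_⟩
  · simp only [L.map_comp, Iso.trans_hom, Iso.symm_hom, asIso_inv, Category.assoc,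
      IsIso.hom_inv_id_assoc, h1]
  · rw [← Category.assoc, cokernel.condition]

include P in
lemma exists_down (i j : ℤ) {X C : A} (e : L.obj X ≅ Y.X j) (c : X ⟶ C)
    (hc : Y.d i j ≫ e.inv ≫ L.map c = 0) :
    ∃ (X' : A) (e' : L.obj X' ≅ Y.X i) (g : X' ⟶ X),
      L.map g ≫ e.hom = e'.hom ≫ Y.d i j ∧ g ≫ c = 0 := by
  haveI := Localization.essSurj L P.isoModSerre
  let e₀ : L.obj (L.objPreimage (Y.X i)) ≅ Y.X i := L.objObjPreimageIso _
  obtain ⟨φ, hφ⟩ := Localization.exists_rightFraction L P.isoModSerre (e₀.hom ≫ Y.d i j ≫ e.inv)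
  haveI : IsIso (L.map φ.s) := Localization.inverts L P.isoModSerre _ φ.hs
  let e₁ : L.obj φ.X' ≅ Y.X i := asIso (L.map φ.s) ≪≫ e₀
  have h1 : L.map φ.f ≫ e.hom = e₁.hom ≫ Y.d i j := by
    have := φ.map_s_comp_map L (Localization.inverts L P.isoModSerre)
    rw [← hφ] at this
    simp only [e₁, Iso.trans_hom, asIso_hom, ← this, Category.assoc, Iso.inv_hom_id,
      Category.comp_id]
  have h2 : L.map (φ.f ≫ c) = 0 := by
    have h3 : L.map φ.f = e₁.hom ≫ Y.d i j ≫ e.inv := by
      rw [← Category.assoc, ← h1, Category.assoc, Iso.hom_inv_id, Category.comp_id]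
    rw [L.map_comp, h3, Category.assoc, Category.assoc, hc, comp_zero]
  haveI := isIso_map_kernel_ι L (φ.f ≫ c) h2
  refine ⟨kernel (φ.f ≫ c), asIso (L.map (kernel.ι (φ.f ≫ c))) ≪≫ e₁,
    kernel.ι (φ.f ≫ c) ≫ φ.f, ?_, ?_⟩
  · simp only [L.map_comp, Iso.trans_hom, asIso_hom, Category.assoc, h1]
  · rw [Category.assoc, kernel.condition]

/-! ### The upward recursion -/

open ZeroObject

/-- state of the upward recursion at degree `n` -/
structure UpSt (n : ℕ) where
  /-- the object in degree `n` -/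
  X : A
  /-- identification with `Y.X n` -/
  e : L.obj X ≅ Y.X (n : ℤ)
  /-- the source of the previous differential -/
  B : A
  /-- the previous differential -/
  b : B ⟶ X
  /-- the composition with the next differential vanishes -/
  hb : L.map b ≫ e.hom ≫ Y.d (n : ℤ) ((n + 1 : ℕ) : ℤ) = 0

variable {L Y}

include P in
lemma UpSt.exists_next {n : ℕ} (s : UpSt L Y n) :
    ∃ (X' : A) (e' : L.obj X' ≅ Y.X ((n + 1 : ℕ) : ℤ)) (g : s.X ⟶ X'),
      L.map g ≫ e'.hom = s.e.hom ≫ Y.d (n : ℤ) ((n + 1 : ℕ) : ℤ) ∧ s.b ≫ g = 0 :=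
  exists_up P L Y _ _ s.e s.b s.hb

/-- the next state -/
noncomputable def UpSt.next {n : ℕ} (s : UpSt L Y n) : UpSt L Y (n + 1) where
  X := (s.exists_next P).choose
  e := (s.exists_next P).choose_spec.choose
  B := s.X
  b := (s.exists_next P).choose_spec.choose_spec.choose
  hb := by
    rw [← Category.assoc, (s.exists_next P).choose_spec.choose_spec.choose_spec.1,
      Category.assoc, Y.d_comp_d, comp_zero]

lemma UpSt.next_comm {n : ℕ} (s : UpSt L Y n) :
    L.map (s.next P).b ≫ (s.next P).e.hom = s.e.hom ≫ Y.d (n : ℤ) ((n + 1 : ℕ) : ℤ) :=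
  (s.exists_next P).choose_spec.choose_spec.choose_spec.1

lemma UpSt.next_zero {n : ℕ} (s : UpSt L Y n) : s.b ≫ (s.next P).b = 0 :=
  (s.exists_next P).choose_spec.choose_spec.choose_spec.2

variable (L Y)

/-- the initial state -/
noncomputable def upInit : UpSt L Y 0 :=
  haveI := Localization.essSurj L P.isoModSerre
  { X := L.objPreimage (Y.X ((0 : ℕ) : ℤ))
    e := L.objObjPreimageIso _
    B := 0
    b := 0
    hb := by rw [L.map_zero, zero_comp] }

/-- the states of the upward recursion -/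
noncomputable def upSeq : (n : ℕ) → UpSt L Y n
  | 0 => upInit P L Y
  | n + 1 => (upSeq n).next P

/-- the objects in nonnegative degrees -/
noncomputable def XU (n : ℕ) : A := (upSeq P L Y n).X

/-- the identifications in nonnegative degrees -/
noncomputable def eU (n : ℕ) : L.obj (XU P L Y n) ≅ Y.X (n : ℤ) := (upSeq P L Y n).e

/-- the differentials in nonnegative degrees -/
noncomputable def gU (n : ℕ) : XU P L Y n ⟶ XU P L Y (n + 1) := (upSeq P L Y (n + 1)).b

lemma gU_comm (n : ℕ) : L.map (gU P L Y n) ≫ (eU P L Y (n + 1)).hom =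
    (eU P L Y n).hom ≫ Y.d (n : ℤ) ((n + 1 : ℕ) : ℤ) :=
  (upSeq P L Y n).next_comm P

lemma gU_sq (n : ℕ) : gU P L Y n ≫ gU P L Y (n + 1) = 0 :=
  (upSeq P L Y (n + 1)).next_zero P

/-! ### The downward recursion -/

/-- state of the downward recursion at degree `-n` -/
structure DnSt (n : ℕ) where
  /-- the object in degree `-n` -/
  X : A
  /-- identification with `Y.X (-n)` -/
  e : L.obj X ≅ Y.X (-(n : ℤ))
  /-- the target of the next differential -/
  C : A
  /-- the next differential -/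
  c : X ⟶ C
  /-- the composition with the previous differential vanishes -/
  hc : Y.d (-((n + 1 : ℕ) : ℤ)) (-(n : ℤ)) ≫ e.inv ≫ L.map c = 0

variable {L Y}

include P in
lemma DnSt.exists_next {n : ℕ} (s : DnSt L Y n) :
    ∃ (X' : A) (e' : L.obj X' ≅ Y.X (-((n + 1 : ℕ) : ℤ))) (g : X' ⟶ s.X),
      L.map g ≫ s.e.hom = e'.hom ≫ Y.d (-((n + 1 : ℕ) : ℤ)) (-(n : ℤ)) ∧ g ≫ s.c = 0 :=
  exists_down P L Y _ _ s.e s.c s.hc

/-- the next state -/
noncomputable def DnSt.next {n : ℕ} (s : DnSt L Y n) : DnSt L Y (n + 1) where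
  X := (s.exists_next P).choose
  e := (s.exists_next P).choose_spec.choose
  C := s.X
  c := (s.exists_next P).choose_spec.choose_spec.choose
  hc := by
    have h := (s.exists_next P).choose_spec.choose_spec.choose_spec.1
    have h' := (Iso.eq_comp_inv s.e).2 h
    rw [h', Category.assoc, Iso.inv_hom_id_assoc, Y.d_comp_d_assoc, zero_comp]

lemma DnSt.next_comm {n : ℕ} (s : DnSt L Y n) :
    L.map (s.next P).c ≫ s.e.hom = (s.next P).e.hom ≫ Y.d (-((n + 1 : ℕ) : ℤ)) (-(n : ℤ)) :=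
  (s.exists_next P).choose_spec.choose_spec.choose_spec.1

lemma DnSt.next_zero {n : ℕ} (s : DnSt L Y n) : (s.next P).c ≫ s.c = 0 :=
  (s.exists_next P).choose_spec.choose_spec.choose_spec.2

variable (L Y)

/-- the initial state of the downward recursion -/
noncomputable def dnInit : DnSt L Y 0 where
  X := XU P L Y 0
  e := eU P L Y 0
  C := XU P L Y 1
  c := gU P L Y 0
  hc := by
    have h := gU_comm P L Y 0
    have h' := (Iso.eq_comp_inv (eU P L Y (0 + 1))).2 h
    rw [h', Category.assoc]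
    erw [Iso.inv_hom_id_assoc, Y.d_comp_d_assoc, zero_comp]

/-- the states of the downward recursion -/
noncomputable def dnSeq : (n : ℕ) → DnSt L Y n
  | 0 => dnInit P L Y
  | n + 1 => (dnSeq n).next P

/-- the objects in nonpositive degrees -/
noncomputable def XD (n : ℕ) : A := (dnSeq P L Y n).X

/-- the identifications in nonpositive degrees -/
noncomputable def eD (n : ℕ) : L.obj (XD P L Y n) ≅ Y.X (-(n : ℤ)) := (dnSeq P L Y n).e

/-- the differentials in nonpositive degrees -/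
noncomputable def gD (n : ℕ) : XD P L Y (n + 1) ⟶ XD P L Y n := (dnSeq P L Y (n + 1)).c

lemma gD_comm (n : ℕ) : L.map (gD P L Y n) ≫ (eD P L Y n).hom =
    (eD P L Y (n + 1)).hom ≫ Y.d (-((n + 1 : ℕ) : ℤ)) (-(n : ℤ)) :=
  (dnSeq P L Y n).next_comm P

lemma gD_sq (n : ℕ) : gD P L Y (n + 1) ≫ gD P L Y n = 0 :=
  (dnSeq P L Y (n + 1)).next_zero P

lemma gD_gU : gD P L Y 0 ≫ gU P L Y 0 = 0 :=
  (dnSeq P L Y 0).next_zero P

/-! ### Assembling the complex -/

/-- the objects of the lifted complex -/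
noncomputable def XZ : ℤ → A
  | Int.ofNat n => XU P L Y n
  | Int.negSucc n => XD P L Y (n + 1)

/-- the differentials of the lifted complex -/
noncomputable def gZ : ∀ i : ℤ, XZ P L Y i ⟶ XZ P L Y (i + 1)
  | Int.ofNat n => gU P L Y n
  | Int.negSucc 0 => gD P L Y 0
  | Int.negSucc (k + 1) => gD P L Y (k + 1)

lemma gZ_sq : ∀ i : ℤ, gZ P L Y i ≫ gZ P L Y (i + 1) = 0
  | Int.ofNat n => gU_sq P L Y n
  | Int.negSucc 0 => gD_gU P L Y
  | Int.negSucc 1 => gD_sq P L Y 0
  | Int.negSucc (k + 2) => gD_sq P L Y (k + 1)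

/-- the identifications -/
noncomputable def eZ : ∀ i : ℤ, L.obj (XZ P L Y i) ≅ Y.X i
  | Int.ofNat n => eU P L Y n
  | Int.negSucc n => eD P L Y (n + 1)

lemma eZ_comm : ∀ i : ℤ, L.map (gZ P L Y i) ≫ (eZ P L Y (i + 1)).hom =
    (eZ P L Y i).hom ≫ Y.d i (i + 1)
  | Int.ofNat n => gU_comm P L Y n
  | Int.negSucc 0 => gD_comm P L Y 0
  | Int.negSucc (k + 1) => gD_comm P L Y (k + 1)

/-- the lifted complex -/
noncomputable def KZ : CochainComplex A ℤ :=
  CochainComplex.of (XZ P L Y) (gZ P L Y) (gZ_sq P L Y)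

/-- the image of the lifted complex is isomorphic to `Y` -/
noncomputable def isoKZ : (L.mapHomologicalComplex (ComplexShape.up ℤ)).obj (KZ P L Y) ≅ Y :=
  HomologicalComplex.Hom.isoOfComponents (fun i => eZ P L Y i) (by
    rintro i j (rfl : i + 1 = j)
    have h : (KZ P L Y).d i (i + 1) = gZ P L Y i := CochainComplex.of_d _ _ i
    change _ = L.map ((KZ P L Y).d i (i + 1)) ≫ (eZ P L Y (i + 1)).hom
    rw [h]
    exact (eZ_comm P L Y i).symm)

include P in
theorem exists_lift : ∃ (K : CochainComplex A ℤ),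
    Nonempty ((L.mapHomologicalComplex (ComplexShape.up ℤ)).obj K ≅ Y) :=
  ⟨KZ P L Y, ⟨isoKZ P L Y⟩⟩

include P in
theorem essSurj_mapDerivedCategory [HasDerivedCategory.{w} A] [HasDerivedCategory.{w'} Q] :
    L.mapDerivedCategory.EssSurj where
  mem_essImage Z := by
    obtain ⟨Y, ⟨eY⟩⟩ : ∃ Y : CochainComplex Q ℤ, Nonempty (DerivedCategory.Q.obj Y ≅ Z) :=
      ⟨_, ⟨DerivedCategory.Q.objObjPreimageIso Z⟩⟩
    obtain ⟨K, ⟨eK⟩⟩ := exists_lift P L Y
    exact ⟨DerivedCategory.Q.obj K,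
      ⟨L.mapDerivedCategoryFactors.app K ≪≫ DerivedCategory.Q.mapIso eK ≪≫ eY⟩⟩

end Groth.Agent.Lib.SerreEssSurj
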