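import Mathlib

/-!
# A Serre functor is exact (Bondal–Kapranov) (helper9)
-/

open CategoryTheory CategoryTheory.Limits CategoryTheory.Pretriangulated

namespace Groth.Agent.Lib.SerreExact

universe w v u

variable {k : Type w} [Field k]
  {T : Type u} [Category.{v} T] [Preadditive T] [Linear k T]
  [∀ X Y : T, Module.Finite k (X ⟶ Y)]
  (S : T ⥤ T)
  (c : ∀ X Y : T, (X ⟶ Y) ≃ₗ[k] Module.Dual k (Y ⟶ S.obj X))
  (hc₁ : ∀ (X Y Y' : T) (f : X ⟶ Y) (g : Y ⟶ Y'),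
      c X Y' (f ≫ g) = (c X Y f) ∘ₗ Linear.leftComp k (S.obj X) g)
  (hc₂ : ∀ (X' X Y : T) (a : X' ⟶ X) (f : X ⟶ Y),
      c X' Y (a ≫ f) = (c X Y f) ∘ₗ Linear.rightComp k Y (S.map a))

include hc₁ in
lemma p1 {X Y Y' : T} (f : X ⟶ Y) (g : Y ⟶ Y') (h : Y' ⟶ S.obj X) :
    c X Y' (f ≫ g) h = c X Y f (g ≫ h) := by
  rw [hc₁]
  rfl

include hc₂ in
lemma p2 {X' X Y : T} (a : X' ⟶ X) (f : X ⟶ Y) (g : Y ⟶ S.obj X') :
    c X' Y (a ≫ f) g = c X Y f (g ≫ S.map a) := by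
  rw [hc₂]
  rfl

lemma n1 {X Y : T} (g₁ g₂ : Y ⟶ S.obj X) (h : ∀ f : X ⟶ Y, c X Y f g₁ = c X Y f g₂) :
    g₁ = g₂ := by
  rw [← sub_eq_zero, ← Module.forall_dual_apply_eq_zero_iff k]
  intro φ
  obtain ⟨f, rfl⟩ := (c X Y).surjective φ
  rw [map_sub, h f, sub_self]

lemma n2 {X Y : T} (θ : Module.Dual k (X ⟶ Y)) :
    ∃ g : Y ⟶ S.obj X, ∀ f, c X Y f g = θ f := by
  refine ⟨(Module.evalEquiv k (Y ⟶ S.obj X)).symm (θ ∘ₗ (c X Y).symm.toLinearMap),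
    fun f => ?_⟩
  rw [Module.apply_evalEquiv_symm_apply]
  simp

/-- the "trace" functional -/
noncomputable def lam (X : T) : Module.Dual k (X ⟶ S.obj X) :=
  (c X (S.obj X)).toLinearMap.flip (𝟙 _)

lemma lam_apply (X : T) (r : X ⟶ S.obj X) : lam S c X r = c X (S.obj X) r (𝟙 _) := rfl

include hc₂ in
lemma dual_exact {X₁ X₂ X₃ Y : T} (a : X₁ ⟶ X₂) (b : X₂ ⟶ X₃)
    (hex : ∀ t : X₂ ⟶ Y, a ≫ t = 0 → ∃ t' : X₃ ⟶ Y, t = b ≫ t')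
    (y : Y ⟶ S.obj X₂) (hy : y ≫ S.map b = 0) : ∃ z : Y ⟶ S.obj X₁, y = z ≫ S.map a := by
  let L : (X₂ ⟶ Y) →ₗ[k] (X₁ ⟶ Y) := Linear.leftComp k Y a
  let θ : Module.Dual k (X₂ ⟶ Y) := (c X₂ Y).toLinearMap.flip y
  have hθ : θ ∈ (LinearMap.ker L).dualAnnihilator := by
    rw [Submodule.mem_dualAnnihilator]
    intro t ht
    have ht' : a ≫ t = 0 := LinearMap.mem_ker.1 ht
    obtain ⟨t', rfl⟩ := hex t ht'
    show c X₂ Y (b ≫ t') y = 0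
    rw [p2 S c hc₂, hy, map_zero]
  rw [← LinearMap.range_dualMap_eq_dualAnnihilator_ker] at hθ
  obtain ⟨θ', hθ'⟩ := hθ
  obtain ⟨z, hz⟩ := n2 S c θ'
  refine ⟨z, ?_⟩
  apply n1 S c
  intro t
  rw [← p2 S c hc₂, hz]
  have := LinearMap.congr_fun hθ' t
  rw [LinearMap.dualMap_apply] at this
  exact this.symm

section shift

variable [HasShift T ℤ] [∀ n : ℤ, (shiftFunctor T n).Additive]
  [∀ n : ℤ, (shiftFunctor T n).Linear k]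

variable (k) in
/-- the shift as a linear equivalence on Hom spaces -/
noncomputable def shE (X Y : T) : (X ⟶ Y) ≃ₗ[k] (X⟦(1 : ℤ)⟧ ⟶ Y⟦(1 : ℤ)⟧) :=
  LinearEquiv.ofBijective ((shiftFunctor T (1 : ℤ)).mapLinearMap k)
    ⟨(shiftFunctor T (1 : ℤ)).map_injective, (shiftFunctor T (1 : ℤ)).map_surjective⟩

omit [∀ X Y : T, Module.Finite k (X ⟶ Y)] in
lemma shE_apply {X Y : T} (f : X ⟶ Y) : shE k X Y f = f⟦(1 : ℤ)⟧' := rfl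

/-- the functional defining `eta` -/
noncomputable def etaFun (A : T) : Module.Dual k (A⟦(1 : ℤ)⟧ ⟶ (S.obj A)⟦(1 : ℤ)⟧) :=
  -(lam S c A ∘ₗ (shE k A (S.obj A)).symm.toLinearMap)

lemma etaFun_apply (A : T) (q : A ⟶ S.obj A) :
    etaFun S c A (q⟦(1 : ℤ)⟧') = - c A (S.obj A) q (𝟙 _) := by
  rw [← shE_apply (k := k)]
  simp [etaFun, lam_apply]

/-- the comparison `(S A)[1] ⟶ S (A[1])` -/
noncomputable def eta (A : T) : (S.obj A)⟦(1 : ℤ)⟧ ⟶ S.obj (A⟦(1 : ℤ)⟧) :=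
  (n2 S c (etaFun S c A)).choose

lemma eta_spec (A : T) (q : A ⟶ S.obj A) :
    c (A⟦(1 : ℤ)⟧) ((S.obj A)⟦(1 : ℤ)⟧) (q⟦(1 : ℤ)⟧') (eta S c A) =
      - c A (S.obj A) q (𝟙 _) := by
  rw [eta, (n2 S c (etaFun S c A)).choose_spec, etaFun_apply]

include hc₁ in
lemma eta_pair (A V : T) (p₀ : A ⟶ V) (x₀ : V ⟶ S.obj A) :
    c (A⟦(1 : ℤ)⟧) (V⟦(1 : ℤ)⟧) (p₀⟦(1 : ℤ)⟧') (x₀⟦(1 : ℤ)⟧' ≫ eta S c A) =
      - c A V p₀ x₀ := by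
  rw [← p1 S c hc₁, ← Functor.map_comp, eta_spec, p1 S c hc₁, Category.comp_id]

include hc₁ hc₂ in
lemma eta_naturality {A A' : T} (a : A ⟶ A') :
    (S.map a)⟦(1 : ℤ)⟧' ≫ eta S c A' = eta S c A ≫ S.map (a⟦(1 : ℤ)⟧') := by
  apply n1 S c
  intro p
  obtain ⟨p₀, rfl⟩ := (shiftFunctor T (1 : ℤ)).map_surjective p
  have h1 := eta_pair S c hc₁ A' (S.obj A) p₀ (S.map a)
  have h2 : c (A'⟦(1 : ℤ)⟧) ((S.obj A)⟦(1 : ℤ)⟧) (p₀⟦(1 : ℤ)⟧')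
      (eta S c A ≫ S.map (a⟦(1 : ℤ)⟧')) = - c A' (S.obj A) p₀ (S.map a) := by
    rw [← p2 S c hc₂, ← Functor.map_comp, eta_spec, p2 S c hc₂, Category.id_comp]
  rw [h1, h2]

omit [Preadditive T] [Linear k T] [∀ X Y : T, Module.Finite k (X ⟶ Y)]
  [∀ n : ℤ, (shiftFunctor T n).Additive] [∀ n : ℤ, (shiftFunctor T n).Linear k] in
lemma isIso_of_bij' {X Y : T} (φ : X ⟶ Y)
    (h : ∀ V : T, Function.Bijective (fun x : V⟦(1 : ℤ)⟧ ⟶ X => x ≫ φ)) : IsIso φ := by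
  let eX : (X⟦(-1 : ℤ)⟧)⟦(1 : ℤ)⟧ ≅ X :=
    (shiftFunctorCompIsoId T (-1 : ℤ) 1 (by norm_num)).app X
  let eY : (Y⟦(-1 : ℤ)⟧)⟦(1 : ℤ)⟧ ≅ Y :=
    (shiftFunctorCompIsoId T (-1 : ℤ) 1 (by norm_num)).app Y
  obtain ⟨ψ, hψ⟩ := (h _).2 eY.hom
  have hψ' : ψ ≫ φ = eY.hom := hψ
  have h1 : (eY.inv ≫ ψ) ≫ φ = 𝟙 Y := by rw [Category.assoc, hψ', Iso.inv_hom_id]
  have h3 : eX.hom ≫ φ ≫ eY.inv ≫ ψ = eX.hom := by
    apply (h _).1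
    show (eX.hom ≫ φ ≫ eY.inv ≫ ψ) ≫ φ = eX.hom ≫ φ
    simp only [Category.assoc]
    rw [hψ', Iso.inv_hom_id, Category.comp_id]
  have h2 : φ ≫ (eY.inv ≫ ψ) = 𝟙 X := by
    rw [← cancel_epi eX.hom, h3, Category.comp_id]
  exact ⟨⟨eY.inv ≫ ψ, h2, h1⟩⟩

include hc₁ in
lemma isIso_eta (A : T) : IsIso (eta S c A) := by
  apply isIso_of_bij'
  intro V
  constructor
  · intro x₁ x₂ hx
    have hx' : x₁ ≫ eta S c A = x₂ ≫ eta S c A := hx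
    obtain ⟨a₁, rfl⟩ := (shiftFunctor T (1 : ℤ)).map_surjective x₁
    obtain ⟨a₂, rfl⟩ := (shiftFunctor T (1 : ℤ)).map_surjective x₂
    congr 1
    apply n1 S c
    intro p₀
    have h1 := eta_pair S c hc₁ A V p₀ a₁
    have h2 := eta_pair S c hc₁ A V p₀ a₂
    rw [hx'] at h1
    exact neg_injective (h1.symm.trans h2)
  · intro z
    obtain ⟨x₀, hx₀⟩ := n2 S c (-((c (A⟦(1 : ℤ)⟧) (V⟦(1 : ℤ)⟧)).toLinearMap.flip z ∘ₗ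
      (shiftFunctor T (1 : ℤ)).mapLinearMap k))
    refine ⟨x₀⟦(1 : ℤ)⟧', ?_⟩
    apply n1 S c
    intro p
    obtain ⟨p₀, rfl⟩ := (shiftFunctor T (1 : ℤ)).map_surjective p
    show c _ _ _ (x₀⟦(1 : ℤ)⟧' ≫ eta S c A) = _
    rw [eta_pair S c hc₁, hx₀]
    simp

variable [HasZeroObject T] [Pretriangulated T]

include hc₁ hc₂ in
lemma exists_xi {A B C C' : T} (u : A ⟶ B) (v : B ⟶ C) (w : C ⟶ A⟦(1 : ℤ)⟧)
    (hT : Triangle.mk u v w ∈ distTriang T)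
    (v' : S.obj B ⟶ C') (w' : C' ⟶ (S.obj A)⟦(1 : ℤ)⟧)
    (hT₁ : Triangle.mk (S.map u) v' w' ∈ distTriang T) :
    ∃ ξ : C' ⟶ S.obj C, v' ≫ ξ = S.map v ∧ ξ ≫ S.map w = w' ≫ eta S c A := by
  let P : ((C ⟶ S.obj B) × (A⟦(1 : ℤ)⟧ ⟶ C')) →ₗ[k] (C ⟶ C') :=
    (Linear.rightComp k C v').coprod (Linear.leftComp k C' w)
  let μ : Module.Dual k (A⟦(1 : ℤ)⟧ ⟶ (S.obj A)⟦(1 : ℤ)⟧) :=
    (c (A⟦(1 : ℤ)⟧) ((S.obj A)⟦(1 : ℤ)⟧)).toLinearMap.flip (eta S c A)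
  let Λ : Module.Dual k ((C ⟶ S.obj B) × (A⟦(1 : ℤ)⟧ ⟶ C')) :=
    (lam S c B ∘ₗ Linear.leftComp k (S.obj B) v).coprod
      (μ ∘ₗ Linear.rightComp k (A⟦(1 : ℤ)⟧) w')
  have hΛ : Λ ∈ (LinearMap.ker P).dualAnnihilator := by
    rw [Submodule.mem_dualAnnihilator]
    rintro ⟨s, r⟩ hsr
    have hsr' : s ≫ v' + w ≫ r = 0 := LinearMap.mem_ker.1 hsr
    show c B (S.obj B) (v ≫ s) (𝟙 _) +
      c (A⟦(1 : ℤ)⟧) ((S.obj A)⟦(1 : ℤ)⟧) (r ≫ w') (eta S c A) = 0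
    obtain ⟨t₀, ht1, ht2⟩ : ∃ t₀ : B ⟶ S.obj A, v ≫ s = t₀ ≫ S.map u ∧
        (-u⟦(1 : ℤ)⟧') ≫ t₀⟦(1 : ℤ)⟧' = (-r) ≫ w' :=
      complete_distinguished_triangle_morphism₁ _ _
      (rot_of_distTriang _ hT) hT₁ s (-r)
      (by
        show w ≫ (-r) = s ≫ v'
        rw [Preadditive.comp_neg]
        exact (eq_neg_of_add_eq_zero_left hsr').symm)
    have ht1' : v ≫ s = t₀ ≫ S.map u := ht1
    have ht2' : (-u⟦(1 : ℤ)⟧') ≫ t₀⟦(1 : ℤ)⟧' = (-r) ≫ w' := ht2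
    have ht3 : r ≫ w' = (u ≫ t₀)⟦(1 : ℤ)⟧' := by
      rw [Functor.map_comp]
      rw [Preadditive.neg_comp, Preadditive.neg_comp, neg_inj] at ht2'
      exact ht2'.symm
    rw [ht3, eta_spec, ht1', p1 S c hc₁ t₀ (S.map u) (𝟙 _), p2 S c hc₂ u t₀ (𝟙 _),
      Category.comp_id, Category.id_comp, add_neg_cancel]
  rw [← LinearMap.range_dualMap_eq_dualAnnihilator_ker] at hΛ
  obtain ⟨Ξ, hΞ⟩ := hΛ
  obtain ⟨ξ, hξ⟩ := n2 S c Ξ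
  have hΞ' : ∀ (s : C ⟶ S.obj B) (r : A⟦(1 : ℤ)⟧ ⟶ C'),
      Ξ (s ≫ v' + w ≫ r) = c B (S.obj B) (v ≫ s) (𝟙 _) +
        c (A⟦(1 : ℤ)⟧) ((S.obj A)⟦(1 : ℤ)⟧) (r ≫ w') (eta S c A) := by
    intro s r
    have := LinearMap.congr_fun hΞ (s, r)
    rw [LinearMap.dualMap_apply] at this
    exact this
  refine ⟨ξ, ?_, ?_⟩
  · apply n1 S c
    intro s
    have := hΞ' s 0
    simp only [comp_zero, add_zero, zero_comp, map_zero, LinearMap.zero_apply] at this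
    calc c C (S.obj B) s (v' ≫ ξ) = c C C' (s ≫ v') ξ := (p1 S c hc₁ s v' ξ).symm
      _ = Ξ (s ≫ v') := hξ _
      _ = c B (S.obj B) (v ≫ s) (𝟙 _) := this
      _ = c C (S.obj B) s (𝟙 _ ≫ S.map v) := p2 S c hc₂ v s (𝟙 _)
      _ = c C (S.obj B) s (S.map v) := by rw [Category.id_comp]
  · apply n1 S c
    intro r
    have := hΞ' 0 r
    simp only [comp_zero, zero_add, zero_comp, map_zero, LinearMap.zero_apply] at this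
    calc c (A⟦(1 : ℤ)⟧) C' r (ξ ≫ S.map w) = c C C' (w ≫ r) ξ := (p2 S c hc₂ w r ξ).symm
      _ = Ξ (w ≫ r) := hξ _
      _ = c (A⟦(1 : ℤ)⟧) ((S.obj A)⟦(1 : ℤ)⟧) (r ≫ w') (eta S c A) := this
      _ = c (A⟦(1 : ℤ)⟧) C' r (w' ≫ eta S c A) := p1 S c hc₁ r w' (eta S c A)

include hc₁ hc₂ in
theorem main [S.Additive] :
    ∃ e : shiftFunctor T (1 : ℤ) ⋙ S ≅ S ⋙ shiftFunctor T (1 : ℤ),
      ∀ T' ∈ distTriang T,
        Triangle.mk (S.map T'.mor₁) (S.map T'.mor₂) (S.map T'.mor₃ ≫ e.hom.app T'.obj₁) ∈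
          distTriang T := by
  haveI : ∀ A, IsIso (eta S c A) := isIso_eta S c hc₁
  let η : S ⋙ shiftFunctor T (1 : ℤ) ≅ shiftFunctor T (1 : ℤ) ⋙ S :=
    NatIso.ofComponents (fun A => asIso (eta S c A))
      (fun a => eta_naturality S c hc₁ hc₂ a)
  refine ⟨η.symm, ?_⟩
  intro T' hT'
  obtain ⟨C', v', w', hT₁⟩ := distinguished_cocone_triangle (S.map T'.mor₁)
  obtain ⟨ξ, hξ1, hξ2⟩ := exists_xi S c hc₁ hc₂ T'.mor₁ T'.mor₂ T'.mor₃ hT' v' w' hT₁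
  have hξiso : IsIso ξ := by
    apply isIso_of_yoneda_map_bijective
    intro Y
    constructor
    · intro x₁ x₂ hx
      have hx' : x₁ ≫ ξ = x₂ ≫ ξ := hx
      rw [← sub_eq_zero]
      have hx0 : (x₁ - x₂) ≫ ξ = 0 := by rw [Preadditive.sub_comp, hx', sub_self]
      generalize x₁ - x₂ = x at hx0 ⊢
      have h1 : x ≫ w' = 0 := by
        rw [← cancel_mono (eta S c T'.obj₁), Category.assoc, ← hξ2, ← Category.assoc, hx0,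
          zero_comp, zero_comp]
      obtain ⟨y, hy⟩ : ∃ y : Y ⟶ S.obj T'.obj₂, x = y ≫ v' :=
        Triangle.coyoneda_exact₃ _ hT₁ x h1
      have h2 : y ≫ S.map T'.mor₂ = 0 := by rw [← hξ1, ← Category.assoc, ← hy, hx0]
      obtain ⟨z, hz⟩ := dual_exact S c hc₂ T'.mor₁ T'.mor₂
        (fun t ht => Triangle.yoneda_exact₂ _ hT' t ht) y h2
      have h12 : S.map T'.mor₁ ≫ v' = 0 := comp_distTriang_mor_zero₁₂ _ hT₁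
      rw [hy, hz, Category.assoc, h12, comp_zero]
    · intro x'
      have hnat : inv (eta S c T'.obj₁) ≫ (S.map T'.mor₁)⟦(1 : ℤ)⟧' =
          S.map (T'.mor₁⟦(1 : ℤ)⟧') ≫ inv (eta S c T'.obj₂) := by
        rw [IsIso.inv_comp_eq, ← Category.assoc, IsIso.eq_comp_inv]
        exact eta_naturality S c hc₁ hc₂ T'.mor₁
      have h31 : T'.mor₃ ≫ T'.mor₁⟦(1 : ℤ)⟧' = 0 := comp_distTriang_mor_zero₃₁ _ hT'
      have hf : (x' ≫ S.map T'.mor₃ ≫ inv (eta S c T'.obj₁)) ≫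
          (S.map T'.mor₁)⟦(1 : ℤ)⟧' = 0 := by
        rw [Category.assoc, Category.assoc, hnat, ← Category.assoc (S.map T'.mor₃),
          ← S.map_comp, h31, S.map_zero, zero_comp, comp_zero]
      obtain ⟨x₁, hx₁⟩ : ∃ x₁ : Y ⟶ C',
          x' ≫ S.map T'.mor₃ ≫ inv (eta S c T'.obj₁) = x₁ ≫ w' :=
        Triangle.coyoneda_exact₁ _ hT₁ _ hf
      have h3 : (x' - x₁ ≫ ξ) ≫ S.map T'.mor₃ = 0 := by
        rw [Preadditive.sub_comp, Category.assoc, hξ2, ← Category.assoc x₁, ← hx₁]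
        simp
      obtain ⟨y, hy⟩ := dual_exact S c hc₂ T'.mor₂ T'.mor₃
        (fun t ht => Triangle.yoneda_exact₃ _ hT' t ht) (x' - x₁ ≫ ξ) h3
      refine ⟨x₁ + y ≫ v', ?_⟩
      show (x₁ + y ≫ v') ≫ ξ = x'
      rw [Preadditive.add_comp, Category.assoc, hξ1, ← hy]
      abel
  haveI := hξiso
  refine isomorphic_distinguished _ hT₁ _ ?_
  refine Triangle.isoMk _ _ (Iso.refl _) (Iso.refl _) (asIso ξ).symm ?_ ?_ ?_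
  · show S.map T'.mor₁ ≫ 𝟙 (S.obj T'.obj₂) = 𝟙 (S.obj T'.obj₁) ≫ S.map T'.mor₁
    rw [Category.comp_id, Category.id_comp]
  · show S.map T'.mor₂ ≫ inv ξ = 𝟙 _ ≫ v'
    rw [Category.id_comp, IsIso.comp_inv_eq, hξ1]
  · show (S.map T'.mor₃ ≫ inv (eta S c T'.obj₁)) ≫ (𝟙 (S.obj T'.obj₁))⟦(1 : ℤ)⟧' = inv ξ ≫ w'
    rw [CategoryTheory.Functor.map_id, Category.comp_id, IsIso.eq_inv_comp, ← Category.assoc,
      hξ2, Category.assoc, IsIso.hom_inv_id, Category.comp_id]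

end shift

end Groth.Agent.Lib.SerreExact
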