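import Mathlib
import Groth.Agent.Lib.MonadHom_helper2

/-!
# An extension `0 → A → M → I → 0` with `pd I ≤ 1` over a local ring has `M` free iff its class
generates `Ext¹(I, A)`
-/

set_option autoImplicit false
universe w v u
open CategoryTheory Limits Abelian

namespace Groth.Agent.Lib.SerreExt

section General

variable {C : Type u} [Category.{v} C] [Abelian C] [HasExt.{w} C]

/-- The class of an extension generates `Ext¹(X₃, X₁)` under `End X₁` iff `Ext¹(X₂, X₁) = 0`,
provided `Ext¹(X₁, X₁) = 0`. -/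
lemma cond_iff {S : ShortComplex C} (hS : S.ShortExact)
    (hP : ∀ z : Ext.{w} S.X₁ S.X₁ 1, z = 0) :
    (∀ x : Ext.{w} S.X₃ S.X₁ 1, ∃ f : S.X₁ ⟶ S.X₁,
      hS.extClass.comp (Ext.mk₀ f) (add_zero 1) = x) ↔ ∀ z : Ext.{w} S.X₂ S.X₁ 1, z = 0 := by
  constructor
  · intro h z
    obtain ⟨x₁, hx₁⟩ := Ext.contravariant_sequence_exact₂ hS S.X₁ z (hP _)
    obtain ⟨f, hf⟩ := h x₁
    rw [← hx₁, ← hf]
    exact hS.comp_extClass_assoc _ _
  · intro h x
    obtain ⟨x₁, hx₁⟩ := Ext.contravariant_sequence_exact₃ hS S.X₁ x (h _) (add_zero 1)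
    obtain ⟨f, rfl⟩ := (Ext.mk₀_bijective _ _).2 x₁
    exact ⟨f, hx₁⟩

end General

section Module

variable {A : Type u} [CommRing A]

/-- Horseshoe-type presentation of the middle term. -/
lemma exists_presentation {X I : Type u} [AddCommGroup X] [Module A X] [AddCommGroup I] [Module A I]
    (f : A →ₗ[A] X) (g : X →ₗ[A] I) (hf : Function.Injective f) (hg : Function.Surjective g)
    (hfg : Function.Exact f g) {q : ℕ} (φ : (Fin q → A) →ₗ[A] I) (hφ : Function.Surjective φ)
    (hfree : Module.Free A ↥(LinearMap.ker φ)) :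
    ∃ ψ : (A × (Fin q → A)) →ₗ[A] X, Function.Surjective ψ ∧ Module.Free A ↥(LinearMap.ker ψ) := by
  obtain ⟨φ', hφ'⟩ := Module.projective_lifting_property g φ hg
  have hφ'' : ∀ v, g (φ' v) = φ v := fun v => LinearMap.congr_fun hφ' v
  refine ⟨f.coprod φ', ?_, ?_⟩
  · intro m
    obtain ⟨v, hv⟩ := hφ (g m)
    have h1 : g (m - φ' v) = 0 := by rw [map_sub, hφ'', hv, sub_self]
    obtain ⟨a, ha⟩ := (hfg _).1 h1
    refine ⟨(a, v), ?_⟩
    rw [LinearMap.coprod_apply, ha]
    abel
  · have hmem : ∀ x ∈ LinearMap.ker (f.coprod φ'), (LinearMap.snd A A (Fin q → A)) x ∈ LinearMap.ker φ := by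
      intro x hx
      rw [LinearMap.mem_ker, LinearMap.coprod_apply] at hx
      rw [LinearMap.mem_ker, LinearMap.snd_apply, ← hφ'']
      have : g (f x.1 + φ' x.2) = 0 := by rw [hx, map_zero]
      rw [map_add, hfg.apply_apply_eq_zero, zero_add] at this
      exact this
    let π : ↥(LinearMap.ker (f.coprod φ')) →ₗ[A] ↥(LinearMap.ker φ) :=
      (LinearMap.snd A A (Fin q → A)).restrict hmem
    have hπ : Function.Bijective π := by
      constructor
      · rw [← LinearMap.ker_eq_bot, LinearMap.ker_eq_bot']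
        rintro ⟨⟨a, v⟩, hx⟩ h0
        have hv : v = 0 := by
          have := congrArg Subtype.val h0
          simpa [π] using this
        rw [LinearMap.mem_ker, LinearMap.coprod_apply] at hx
        simp only [hv, map_zero, add_zero] at hx
        have ha : a = 0 := hf (by rw [hx, map_zero])
        apply Subtype.ext
        simp [ha, hv]
      · rintro ⟨v, hv⟩
        rw [LinearMap.mem_ker] at hv
        have h1 : g (φ' v) = 0 := by rw [hφ'', hv]
        obtain ⟨b, hb⟩ := (hfg _).1 h1
        refine ⟨⟨(-b, v), ?_⟩, ?_⟩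
        · rw [LinearMap.mem_ker, LinearMap.coprod_apply, map_neg, hb]
          simp
        · apply Subtype.ext
          simp [π]
    exact Module.Free.of_equiv (LinearEquiv.ofBijective π hπ).symm

/-- If `K` is finite free, `P` projective and every functional on `K` extends to `P`, then the
quotient is projective. -/
lemma projective_of_extend {K P X : Type u} [AddCommGroup K] [Module A K] [AddCommGroup P]
    [Module A P] [AddCommGroup X] [Module A X] [Module.Free A K] [Module.Finite A K]
    [Module.Projective A P] (i : K →ₗ[A] P) (ψ : P →ₗ[A] X) (hi : Function.Injective i)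
    (hψ : Function.Surjective ψ) (hex : Function.Exact i ψ)
    (hext : ∀ c : K →ₗ[A] A, ∃ c' : P →ₗ[A] A, c' ∘ₗ i = c) : Module.Projective A X := by
  classical
  let b := Module.Free.chooseBasis A K
  choose c' hc' using fun j => hext (b.coord j)
  let r : P →ₗ[A] K := ∑ j, (c' j).smulRight (b j)
  have hr : r ∘ₗ i = LinearMap.id := by
    ext k
    simp only [r, LinearMap.coe_comp, Function.comp_apply, LinearMap.sum_apply,
      LinearMap.smulRight_apply, LinearMap.id_coe, id_eq]
    have : ∀ j, c' j (i k) = b.coord j k := fun j => LinearMap.congr_fun (hc' j) k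
    simp only [this, Module.Basis.coord_apply]
    rw [b.sum_repr]
  obtain ⟨s, hs⟩ := ((hex.split_tfae hi hψ).out 1 0 rfl rfl).1 ⟨r, hr⟩
  exact Module.Projective.of_split s ψ hs

end Module

theorem main (A : Type u) [CommRing A] [IsNoetherianRing A] [IsLocalRing A]
    (I : Ideal A)
    (hres : ∃ (q : ℕ) (φ : (Fin q → A) →ₗ[A] ↥I), Function.Surjective φ ∧
      Module.Free A ↥(LinearMap.ker φ))
    (S : ShortComplex (ModuleCat.{u} A)) (hS : S.ShortExact)
    (h₁ : Nonempty (S.X₁ ≅ ModuleCat.of A A)) (h₃ : Nonempty (S.X₃ ≅ ModuleCat.of A ↥I)) :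
    Module.Free A S.X₂ ↔
      ∀ x : Abelian.Ext S.X₃ S.X₁ 1, ∃ f : S.X₁ ⟶ S.X₁,
        hS.extClass.comp (Abelian.Ext.mk₀ f) (add_zero 1) = x := by
  obtain ⟨θ₁⟩ := h₁
  obtain ⟨θ₃⟩ := h₃
  haveI : Projective (ModuleCat.of A A) :=
    (IsProjective.iff_projective (R := A) (P := A)).1 inferInstance
  haveI : Projective S.X₁ := Projective.of_iso θ₁.symm inferInstance
  rw [cond_iff hS (fun z => Ext.eq_zero_of_projective z)]
  constructor
  · intro hfree z
    haveI : Projective S.X₂ :=
      (IsProjective.iff_projective (R := A) (P := S.X₂)).1 inferInstance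
    exact Ext.eq_zero_of_projective z
  · intro hz
    obtain ⟨q, φ, hφ, hfree⟩ := hres
    let f : A →ₗ[A] S.X₂ := S.f.hom ∘ₗ θ₁.inv.hom
    let g : S.X₂ →ₗ[A] I := θ₃.hom.hom ∘ₗ S.g.hom
    have hθ₁ : Function.Bijective θ₁.inv.hom := (ConcreteCategory.isIso_iff_bijective θ₁.inv).1 inferInstance
    have hθ₃ : Function.Bijective θ₃.hom.hom := (ConcreteCategory.isIso_iff_bijective θ₃.hom).1 inferInstance
    have hf : Function.Injective f := hS.moduleCat_injective_f.comp hθ₁.1
    have hg : Function.Surjective g := hθ₃.2.comp hS.moduleCat_surjective_g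
    have hSex : Function.Exact S.f.hom S.g.hom :=
      (ShortComplex.ShortExact.moduleCat_exact_iff_function_exact S).1 hS.exact
    have hfg : Function.Exact f g := by
      intro m
      constructor
      · intro hm
        have : S.g.hom m = 0 := hθ₃.1 (by rw [map_zero]; exact hm)
        obtain ⟨x, hx⟩ := (hSex m).1 this
        obtain ⟨a, ha⟩ := hθ₁.2 x
        exact ⟨a, by simp [f, ha, hx]⟩
      · rintro ⟨a, rfl⟩
        simp only [f, g, LinearMap.coe_comp, Function.comp_apply]
        rw [hSex.apply_apply_eq_zero, map_zero]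
    obtain ⟨ψ, hψ, hKfree⟩ := exists_presentation f g hf hg hfg φ hφ hfree
    have hS' := LinearMap.shortExact_shortComplexKer hψ
    haveI : Module.Finite A ↥(LinearMap.ker ψ) := inferInstance
    have hsub : Subsingleton (Ext (ψ.shortComplexKer).X₃ S.X₁ 1) :=
      ⟨fun a b => (hz a).trans (hz b).symm⟩
    have hext : ∀ c : ↥(LinearMap.ker ψ) →ₗ[A] A,
        ∃ c' : (A × (Fin q → A)) →ₗ[A] A, c' ∘ₗ (LinearMap.ker ψ).subtype = c := by
      intro c
      obtain ⟨v, hv⟩ := Groth.Agent.Lib.MonadHom.exists_extend hS'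
        (ModuleCat.ofHom c ≫ θ₁.inv) hsub
      refine ⟨(v ≫ θ₁.hom).hom, ?_⟩
      have h2 : (ψ.shortComplexKer).f ≫ v ≫ θ₁.hom = ModuleCat.ofHom c := by
        rw [← Category.assoc, hv, Category.assoc, θ₁.inv_hom_id, Category.comp_id]
      have h3 := congrArg ModuleCat.Hom.hom h2
      simpa using h3
    haveI : Module.Projective A S.X₂ :=
      projective_of_extend (LinearMap.ker ψ).subtype ψ (LinearMap.ker ψ).injective_subtype hψ
        (LinearMap.exact_subtype_ker_map ψ) hext
    haveI : Module.Finite A S.X₂ := Module.Finite.of_surjective ψ hψ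
    exact Module.free_of_flat_of_isLocalRing

end Groth.Agent.Lib.SerreExt
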