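import Mathlib

set_option autoImplicit false
set_option linter.style.haveILetI false
set_option linter.unusedSectionVars false

universe v u v' u' v'' u''

open CategoryTheory CategoryTheory.Limits

namespace Groth.Agent.Lib.SerreFFH4

section Cat

lemma conj_lemma {𝒜 ℬ : Type*} [Category 𝒜] [Category ℬ] (F₁ F₂ : 𝒜 ⥤ ℬ) (e : F₁ ≅ F₂)
    {M₁ M N Z₁ : 𝒜} (μ : M₁ ⟶ M) (ρ : N ⟶ Z₁) (g : M₁ ⟶ Z₁) (φ : F₁.obj M ⟶ F₁.obj N)
    (h : F₂.map μ ≫ (e.inv.app M ≫ φ ≫ e.hom.app N) ≫ F₂.map ρ = F₂.map g) :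
    F₁.map μ ≫ φ ≫ F₁.map ρ = F₁.map g := by
  rw [← NatIso.naturality_2 e μ, ← NatIso.naturality_2 e ρ, ← NatIso.naturality_2 e g, ← h]
  simp only [Category.assoc]

lemma frac_lemma {𝒜 ℬ : Type*} [Category 𝒜] [Category ℬ] (L : 𝒜 ⥤ ℬ) {X M' M N Z : 𝒜}
    (t : X ⟶ M') (μ' : M' ⟶ M) (s : X ⟶ M) (f : X ⟶ N) (ρ' : N ⟶ Z) (g' : M' ⟶ Z)
    (φ' : L.obj M ⟶ L.obj N) [IsIso (L.map t)] (h1 : t ≫ μ' = s) (h2 : t ≫ g' = f ≫ ρ')
    (hs : L.map s ≫ φ' = L.map f) : L.map μ' ≫ φ' ≫ L.map ρ' = L.map g' := by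
  rw [← cancel_epi (L.map t), ← L.map_comp_assoc, h1, reassoc_of% hs, ← L.map_comp,
    ← L.map_comp, h2]

end Cat

variable {A A' : Type u} [Category.{v} A] [Abelian A] [Category.{v} A'] [Abelian A']
  (i : A' ⥤ A) [i.Full] [i.Faithful] [PreservesFiniteLimits i] [PreservesFiniteColimits i]
  (J : ObjectProperty A) [J.IsSerreClass] [(J.inverseImage i).IsSerreClass]

lemma isoModSerre_inverseImage_iff {M N : A'} (μ : M ⟶ N) :
    (J.inverseImage i).isoModSerre μ ↔ J.isoModSerre (i.map μ) := by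
  have h1 : (J.inverseImage i) (kernel μ) ↔ J (kernel (i.map μ)) :=
    J.prop_iff_of_iso (PreservesKernel.iso i μ)
  have h2 : (J.inverseImage i) (cokernel μ) ↔ J (cokernel (i.map μ)) :=
    J.prop_iff_of_iso (PreservesCokernel.iso i μ)
  exact and_congr h1 h2

lemma essImage_of_mono
    (hquot : ∀ (M : A') (N : A) (p : i.obj M ⟶ N), Epi p → J N → i.essImage N)
    (M : A') {X : A} (m : X ⟶ i.obj M) [Mono m] (hm : J (cokernel m)) : i.essImage X := by
  obtain ⟨C, ⟨γ⟩⟩ := hquot M (cokernel m) (cokernel.π m) inferInstance hm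
  have hπ : i.map (i.preimage (cokernel.π m ≫ γ.inv)) = cokernel.π m ≫ γ.inv :=
    i.map_preimage _
  exact ⟨kernel (i.preimage (cokernel.π m ≫ γ.inv)),
    ⟨PreservesKernel.iso i _ ≪≫ kernelIsoOfEq hπ ≪≫ kernelCompMono _ _ ≪≫
      (asIso (Abelian.factorThruImage m)).symm⟩⟩

lemma essImage_of_epi
    (hsub : ∀ (M : A') (N : A) (f : N ⟶ i.obj M), Mono f → J N → i.essImage N)
    (N : A') {Z : A} (p : i.obj N ⟶ Z) [Epi p] (hp : J (kernel p)) : i.essImage Z := by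
  obtain ⟨K, ⟨κ⟩⟩ := hsub N (kernel p) (kernel.ι p) inferInstance hp
  have hι : i.map (i.preimage (κ.hom ≫ kernel.ι p)) = κ.hom ≫ kernel.ι p :=
    i.map_preimage _
  exact ⟨cokernel (i.preimage (κ.hom ≫ kernel.ι p)),
    ⟨PreservesCokernel.iso i _ ≪≫ cokernelIsoOfEq hι ≪≫ cokernelEpiComp _ _ ≪≫
      asIso (Abelian.factorThruCoimage p)⟩⟩

lemma exists_fraction_in_subcat
    (hsub : ∀ (M : A') (N : A) (f : N ⟶ i.obj M), Mono f → J N → i.essImage N)
    (hquot : ∀ (M : A') (N : A) (p : i.obj M ⟶ N), Epi p → J N → i.essImage N)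
    {M N : A'} {X : A} (s : X ⟶ i.obj M) (hs : J.isoModSerre s) (f : X ⟶ i.obj N) :
    ∃ (M₁ Z₁ : A') (μ : M₁ ⟶ M) (ρ : N ⟶ Z₁) (g : M₁ ⟶ Z₁) (t : X ⟶ i.obj M₁),
      (J.inverseImage i).isoModSerre μ ∧ (J.inverseImage i).isoModSerre ρ ∧
      J.isoModSerre t ∧ t ≫ i.map μ = s ∧ t ≫ i.map g = f ≫ i.map ρ := by
  have hm : J.isoModSerre (Abelian.image.ι s) := hs.2.isoModSerre_image_ι
  have he : J.isoModSerre (Abelian.factorThruImage s) := hs.1.isoModSerre_factorThruImage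
  have hm' : J (cokernel (Abelian.image.ι s)) := (J.isoModSerre_iff_of_mono _).mp hm
  obtain ⟨M₁, ⟨α⟩⟩ := essImage_of_mono i J hquot M (Abelian.image.ι s) hm'
  have hp : J (kernel (cokernel.π (kernel.ι s ≫ f))) :=
    J.prop_of_epi (Abelian.factorThruImage (kernel.ι s ≫ f)) hs.1
  obtain ⟨Z₁, ⟨β⟩⟩ := essImage_of_epi i J hsub N (cokernel.π (kernel.ι s ≫ f)) hp
  have h1 : kernel.ι (Abelian.factorThruImage s) ≫ s = 0 := by
    have h := kernel.condition_assoc (Abelian.factorThruImage s) (Abelian.image.ι s)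
    rwa [Abelian.image.fac, zero_comp] at h
  have h : kernel.ι (Abelian.factorThruImage s) ≫ f ≫ cokernel.π (kernel.ι s ≫ f) = 0 := by
    calc kernel.ι (Abelian.factorThruImage s) ≫ f ≫ cokernel.π (kernel.ι s ≫ f)
        = (kernel.lift s (kernel.ι (Abelian.factorThruImage s)) h1 ≫ kernel.ι s) ≫ f ≫
            cokernel.π (kernel.ι s ≫ f) := by rw [kernel.lift_ι]
      _ = kernel.lift s (kernel.ι (Abelian.factorThruImage s)) h1 ≫
            ((kernel.ι s ≫ f) ≫ cokernel.π (kernel.ι s ≫ f)) := by simp only [Category.assoc]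
      _ = 0 := by rw [cokernel.condition, comp_zero]
  have hfb : Abelian.factorThruImage s ≫
      Abelian.epiDesc (Abelian.factorThruImage s) (f ≫ cokernel.π (kernel.ι s ≫ f)) h =
      f ≫ cokernel.π (kernel.ι s ≫ f) := Abelian.comp_epiDesc _ _ _
  have hμ : i.map (i.preimage (α.hom ≫ Abelian.image.ι s)) = α.hom ≫ Abelian.image.ι s :=
    i.map_preimage _
  have hρ : i.map (i.preimage (cokernel.π (kernel.ι s ≫ f) ≫ β.inv)) =
      cokernel.π (kernel.ι s ≫ f) ≫ β.inv := i.map_preimage _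
  have hg : i.map (i.preimage (α.hom ≫
      Abelian.epiDesc (Abelian.factorThruImage s) (f ≫ cokernel.π (kernel.ι s ≫ f)) h ≫
        β.inv)) = α.hom ≫
      Abelian.epiDesc (Abelian.factorThruImage s) (f ≫ cokernel.π (kernel.ι s ≫ f)) h ≫
        β.inv := i.map_preimage _
  refine ⟨M₁, Z₁, i.preimage (α.hom ≫ Abelian.image.ι s),
    i.preimage (cokernel.π (kernel.ι s ≫ f) ≫ β.inv),
    i.preimage (α.hom ≫
      Abelian.epiDesc (Abelian.factorThruImage s) (f ≫ cokernel.π (kernel.ι s ≫ f)) h ≫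
        β.inv), Abelian.factorThruImage s ≫ α.inv, ?_, ?_, ?_, ?_, ?_⟩
  · rw [isoModSerre_inverseImage_iff, hμ]
    exact J.isoModSerre.comp_mem _ _ (J.isoModSerre_of_isIso α.hom) hm
  · rw [isoModSerre_inverseImage_iff, hρ]
    exact J.isoModSerre.comp_mem _ _ (J.isoModSerre_of_epi _ hp) (J.isoModSerre_of_isIso β.inv)
  · exact J.isoModSerre.comp_mem _ _ he (J.isoModSerre_of_isIso α.inv)
  · rw [hμ, Category.assoc, Iso.inv_hom_id_assoc, Abelian.image.fac]
  · rw [hg, hρ, Category.assoc, Iso.inv_hom_id_assoc, ← Category.assoc, hfb, Category.assoc]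

section Loc

variable {Q : Type u'} [Category.{v'} Q] (L : A ⥤ Q) [L.IsLocalization J.isoModSerre]
  {Q' : Type u''} [Category.{v''} Q'] (L' : A' ⥤ Q')
  [L'.IsLocalization (J.inverseImage i).isoModSerre]
  (Φ : Q' ⥤ Q) (e : L' ⋙ Φ ≅ i ⋙ L)

include e in
theorem full
    (hsub : ∀ (M : A') (N : A) (f : N ⟶ i.obj M), Mono f → J N → i.essImage N)
    (hquot : ∀ (M : A') (N : A) (p : i.obj M ⟶ N), Epi p → J N → i.essImage N) : Φ.Full := by
  haveI : L'.EssSurj := Localization.essSurj L' (J.inverseImage i).isoModSerre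
  refine Φ.full_of_comp_essSurj L' (fun M N φ => ?_)
  obtain ⟨rf, hrf⟩ := Localization.exists_rightFraction L J.isoModSerre
    ((e.inv.app M ≫ φ ≫ e.hom.app N : L.obj (i.obj M) ⟶ L.obj (i.obj N)))
  obtain ⟨M₁, Z₁, μ, ρ, g, t, hμ, hρ, ht, h1, h2⟩ :=
    exists_fraction_in_subcat i J hsub hquot rf.s rf.hs rf.f
  haveI : IsIso (L'.map μ) := Localization.inverts L' _ μ hμ
  haveI : IsIso (L'.map ρ) := Localization.inverts L' _ ρ hρ
  haveI : IsIso (L.map t) := Localization.inverts L _ t ht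
  have hs : L.map rf.s ≫ (e.inv.app M ≫ φ ≫ e.hom.app N : L.obj (i.obj M) ⟶ L.obj (i.obj N)) =
      L.map rf.f := by
    rw [hrf]
    exact rf.map_s_comp_map L _
  have key : L.map (i.map μ) ≫
      (e.inv.app M ≫ φ ≫ e.hom.app N : L.obj (i.obj M) ⟶ L.obj (i.obj N)) ≫ L.map (i.map ρ) =
      L.map (i.map g) :=
    frac_lemma L t (i.map μ) rf.s rf.f (i.map ρ) (i.map g) _ h1 h2 hs
  have key2 : Φ.map (L'.map μ) ≫ φ ≫ Φ.map (L'.map ρ) = Φ.map (L'.map g) :=
    conj_lemma (L' ⋙ Φ) (i ⋙ L) e μ ρ g φ key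
  refine ⟨inv (L'.map μ) ≫ L'.map g ≫ inv (L'.map ρ), ?_⟩
  rw [Φ.map_comp, Φ.map_comp, Functor.map_inv, Functor.map_inv, IsIso.inv_comp_eq,
    IsIso.comp_inv_eq, Category.assoc]
  exact key2.symm

include e L in
theorem faithful
    (hquot : ∀ (M : A') (N : A) (p : i.obj M ⟶ N), Epi p → J N → i.essImage N) :
    Φ.Faithful := by
  refine Functor.faithful_of_comp_of_hasLeftCalculusOfFractions L'
    (J.inverseImage i).isoModSerre Φ (fun M N f g h => ?_)
  have h' : L.map (i.map f) = L.map (i.map g) := by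
    calc L.map (i.map f) = e.inv.app M ≫ (L' ⋙ Φ).map f ≫ e.hom.app N :=
          (NatIso.naturality_1 e f).symm
      _ = e.inv.app M ≫ (L' ⋙ Φ).map g ≫ e.hom.app N := by
          rw [show (L' ⋙ Φ).map f = (L' ⋙ Φ).map g from h]
      _ = L.map (i.map g) := NatIso.naturality_1 e g
  obtain ⟨X, s, hs, hsfg⟩ :=
    (MorphismProperty.map_eq_iff_precomp L J.isoModSerre (i.map f) (i.map g)).mp h'
  have hm : J.isoModSerre (Abelian.image.ι s) := hs.2.isoModSerre_image_ι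
  have hm' : J (cokernel (Abelian.image.ι s)) := (J.isoModSerre_iff_of_mono _).mp hm
  obtain ⟨M₁, ⟨α⟩⟩ := essImage_of_mono i J hquot M (Abelian.image.ι s) hm'
  have hμ : i.map (i.preimage (α.hom ≫ Abelian.image.ι s)) = α.hom ≫ Abelian.image.ι s :=
    i.map_preimage _
  have hmfg : Abelian.image.ι s ≫ i.map f = Abelian.image.ι s ≫ i.map g := by
    rw [← cancel_epi (Abelian.factorThruImage s), ← Category.assoc, ← Category.assoc,
      Abelian.image.fac]
    exact hsfg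
  have hfg : i.preimage (α.hom ≫ Abelian.image.ι s) ≫ f =
      i.preimage (α.hom ≫ Abelian.image.ι s) ≫ g := by
    apply i.map_injective
    rw [i.map_comp, i.map_comp, hμ, Category.assoc, Category.assoc, hmfg]
  have hW : (J.inverseImage i).isoModSerre (i.preimage (α.hom ≫ Abelian.image.ι s)) := by
    rw [isoModSerre_inverseImage_iff, hμ]
    exact J.isoModSerre.comp_mem _ _ (J.isoModSerre_of_isIso α.hom) hm
  exact (MorphismProperty.map_eq_iff_precomp L' (J.inverseImage i).isoModSerre f g).mpr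
    ⟨M₁, _, hW, hfg⟩

end Loc

end Groth.Agent.Lib.SerreFFH4
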