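import Mathlib
import Groth.Prelude
import Groth.Agent.Lib.SerreGam4_helper2
import Groth.Agent.Lib.BCH0_helper2
import Groth.Agent.Lib.CanPhi1_helper5
import Groth.Agent.Lib.GrTiGlue_helper5
import Groth.Agent.Lib.AmpleAff_helper3
import Groth.Agent.Lib.GrTiQC_helper5
import Groth.Agent.S0847
import Groth.Agent.S4400
import Groth.Agent.S3561

/-!
# Serre's `Γ_*` theorem on `Proj`, part 5 (helper2): Euler characteristic of `M(n)~` for large `n`.
APPEND-ONLY once landed.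
-/

set_option autoImplicit false
universe u
open CategoryTheory CategoryTheory.Limits AlgebraicGeometry TopologicalSpace Opposite DirectSum

namespace Groth.Agent.Lib.SerreGamH2

open Groth.Agent.GrTi Groth.Agent.GrTw

section Euler
variable {A S : Type u} [CommRing A] [CommRing S] [Algebra A S]
  (𝒜 : ℕ → Submodule A S) [GradedAlgebra 𝒜]
  {M : Type u} [AddCommGroup M] [Module A M] [Module S M] [IsScalarTower A S M]
  (ℳ : ℕ → Submodule A M) [SetLike.GradedSMul 𝒜 ℳ]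

/-- the global function on `Proj S` attached to `a ∈ A` has value `a / 1` everywhere. -/
theorem valO_toGlobal (a : A) (y : (⊤ : (Proj 𝒜).Opens)) :
    valO 𝒜 (Coh.toGlobal (Proj 𝒜 ↘ Spec (CommRingCat.of A)) a) y =
      algebraMap S (GrTwist.Loc 𝒜 y.1) (algebraMap A S a) := by
  have h1 : Coh.toGlobal (Proj 𝒜 ↘ Spec (CommRingCat.of A)) a =
      ((Proj.toSpecZero 𝒜).appLE ⊤ ⊤ le_top).hom
        ((Scheme.ΓSpecIso (CommRingCat.of (𝒜 0))).inv.hom (algebraMap A (𝒜 0) a)) := by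
    have h2 : (Proj 𝒜 ↘ Spec (CommRingCat.of A)) =
        Proj.toSpecZero 𝒜 ≫ Spec.map (CommRingCat.ofHom (algebraMap A (𝒜 0))) := rfl
    have h3 := Scheme.ΓSpecIso_inv_naturality (CommRingCat.ofHom (algebraMap A (𝒜 0)))
    have h4 : (Scheme.ΓSpecIso (CommRingCat.of A)).inv ≫
        (Proj.toSpecZero 𝒜 ≫ Spec.map (CommRingCat.ofHom (algebraMap A (𝒜 0)))).appTop =
        CommRingCat.ofHom (algebraMap A (𝒜 0)) ≫ (Scheme.ΓSpecIso (CommRingCat.of (𝒜 0))).inv ≫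
          (Proj.toSpecZero 𝒜).appTop := by
      rw [Scheme.Hom.comp_appTop, ← Category.assoc, ← h3, Category.assoc]
    have h5 := congrArg (fun t => t.hom a) h4
    rw [h2]
    exact h5
  rw [h1]
  exact CanPhi.valO_toSpecZero 𝒜 (algebraMap A (𝒜 0) a) ⊤ y

/-- the `A`-module structure on global sections of `M(n)~`, on values. -/
theorem val_gs_smul (n : ℤ) (a : A)
    (s : (CohIII.globalSectionsA A).obj (GrMod.tilde 𝒜 ℳ n)) (y : (⊤ : (Proj 𝒜).Opens)) :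
    GrMod.val (show Γ(GrMod.tilde 𝒜 ℳ n, ⊤) from (a • s)) y =
      algebraMap S (GrTwist.Loc 𝒜 y.1) (algebraMap A S a) •
        GrMod.val (show Γ(GrMod.tilde 𝒜 ℳ n, ⊤) from s) y := by
  have h1 := Groth.Agent.Lib.BCMainH2.gs_smul A (GrMod.tilde 𝒜 ℳ n) a s
  have h2 : Groth.Agent.Lib.FormalFnH2.rUHom (A := A) (X := Proj 𝒜) ⊤ a =
      Coh.toGlobal (Proj 𝒜 ↘ Spec (CommRingCat.of A)) a := by
    show Coh.resTop (Proj 𝒜) (op ⊤) (Coh.toGlobal (Proj 𝒜 ↘ Spec (CommRingCat.of A)) a) = _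
    exact Groth.Agent.Lib.BCMainH2.resTop_top _
  rw [h1, h2]
  exact (Groth.Agent.GrTi.val_smul 𝒜 ℳ _ _ y).trans (by rw [valO_toGlobal])

/-- `α_n` as an `A`-linear map into the `A`-module of global sections. -/
noncomputable def alphaLin (n : ℕ) :
    ℳ n →ₗ[A] (CohIII.globalSectionsA A).obj (GrMod.tilde 𝒜 ℳ (n : ℤ)) where
  toFun m := (show (CohIII.globalSectionsA A).obj (GrMod.tilde 𝒜 ℳ (n : ℤ)) from
    GrMod.alpha 𝒜 ℳ n m)
  map_add' m m' := (GrMod.alpha 𝒜 ℳ n).map_add m m'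
  map_smul' a m := by
    apply Groth.Agent.GrTi.ext_val 𝒜 ℳ
    intro y
    rw [RingHom.id_apply]
    refine Eq.trans ?_ (val_gs_smul 𝒜 ℳ (n : ℤ) a _ y).symm
    show LocalizedModule.mk ((a • m : ℳ n) : M) 1 = _ • LocalizedModule.mk (m : M) 1
    rw [← Localization.mk_one_eq_algebraMap, LocalizedModule.mk_smul_mk, one_mul,
      Submodule.coe_smul, algebraMap_smul]

theorem alphaLin_apply (n : ℕ) (m : ℳ n) :
    (show Γ(GrMod.tilde 𝒜 ℳ (n : ℤ), ⊤) from alphaLin 𝒜 ℳ n m) = GrMod.alpha 𝒜 ℳ n m := rfl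


variable [DirectSum.Decomposition ℳ]

/-- Serre vanishing for the shifted modules `M(n)~`. -/
theorem subsingleton_HH_large [IsNoetherianRing S]
    (hgen : (HomogeneousIdeal.irrelevant 𝒜).toIdeal = Ideal.span (𝒜 1 : Set S))
    (hTF : ∃ k : ℕ, (Submodule.span S (⋃ i ∈ Set.Ici k, (ℳ i : Set M))).FG) (r : ℕ) :
    ∃ N : ℕ, ∀ n : ℕ, N ≤ n → ∀ j, 1 ≤ j → j ≤ r →
      Subsingleton (Coh.HH (Proj 𝒜) (GrTilde.tilde 𝒜 ℳ (n : ℤ)) j) := by
  have hcoh : Coh.IsCoh (GrTilde.tilde 𝒜 ℳ 0) :=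
    ⟨isQuasicoherent_tilde 𝒜 ℳ 0,
      Groth.Agent.S3561.result 𝒜 (IsNoetherian.noetherian _) ℳ hTF⟩
  have h1 : ∀ j : ℕ, ∃ d₀ : ℤ, 0 < j → ∀ d : ℤ, d₀ ≤ d →
      Subsingleton (Coh.HH (Proj 𝒜) (Twist.twistBy 𝒜 (GrTilde.tilde 𝒜 ℳ 0) d) j) := by
    intro j
    by_cases hj : 0 < j
    · obtain ⟨d₀, h⟩ := Groth.Agent.S0847.result 𝒜 (GrTilde.tilde 𝒜 ℳ 0) hcoh j hj
      exact ⟨d₀, fun _ => h⟩
    · exact ⟨0, fun h => absurd h hj⟩
  choose d₀ hd₀ using h1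
  refine ⟨(Finset.range (r + 1)).sup (fun j => (d₀ j).toNat), fun n hn j hj1 hjr => ?_⟩
  have h2 : d₀ j ≤ (n : ℤ) := by
    have : (d₀ j).toNat ≤ n :=
      le_trans (Finset.le_sup (f := fun j => (d₀ j).toNat) (Finset.mem_range.mpr (by omega))) hn
    omega
  obtain ⟨e⟩ := Groth.Agent.S4400.result 𝒜 hgen ℳ (n : ℤ)
  exact Groth.Agent.Lib.AmpleAffH3.subsingleton_HH_of_iso e j (hd₀ j hj1 _ h2)

omit [DirectSum.Decomposition ℳ] in
/-- the Euler characteristic of `M(n)~` is the length of `M_n` as soon as `α_n` is bijective and the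
higher cohomology vanishes. -/
theorem euler_eq_length (r n : ℕ) (hbij : Function.Bijective (GrMod.alpha 𝒜 ℳ n))
    (hvan : ∀ j, 1 ≤ j → j ≤ r →
      Subsingleton (Coh.HH (Proj 𝒜) (GrTilde.tilde 𝒜 ℳ (n : ℤ)) j)) :
    ((Finset.range (r + 1)).sum fun j => (-1 : ℤ) ^ j *
        ((Module.length A (Coh.HH (Proj 𝒜) (GrTilde.tilde 𝒜 ℳ (n : ℤ)) j)).toNat : ℤ)) =
      ((Module.length A ↥(ℳ n)).toNat : ℤ) := by
  rw [Finset.sum_eq_single 0]
  · have hb : Function.Bijective (alphaLin 𝒜 ℳ n) := hbij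
    have e : ℳ n ≃ₗ[A] Coh.HH (Proj 𝒜) (GrTilde.tilde 𝒜 ℳ (n : ℤ)) 0 :=
      (LinearEquiv.ofBijective (alphaLin 𝒜 ℳ n) hb).trans
        (Groth.Agent.Lib.BCMainH2.gsEquiv A (GrMod.tilde 𝒜 ℳ (n : ℤ)))
    rw [pow_zero, one_mul, e.length_eq]
  · intro j hj hj0
    have := hvan j (by omega) (by have := Finset.mem_range.mp hj; omega)
    rw [Module.length_eq_zero]
    simp
  · intro h
    simp at h


end Euler

end Groth.Agent.Lib.SerreGamH2
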