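import Mathlib
import Groth.Prelude
import Groth.Agent.Lib.SerreGam6_helper2

/-!
# Serre's `Γ_*` theorem on `Proj`: behaviour of the Čech conditions `CInj`, `CSurj` under localization
at elements of degree zero of the base, and gluing (helper2).  APPEND-ONLY once landed.
-/

set_option autoImplicit false
universe u
open DirectSum

namespace Groth.Agent.Lib.SerreGamH2

section LocPred
variable {A : Type*} [CommRing A] {M : Type*} [AddCommGroup M] [Module A M] {τ : Type*}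
  [SetLike τ M] {ι : Type*}

/-- `CInj` after inverting `r`, expressed inside `M`. -/
def CInjLoc (g : ι → A) (ℳ : ℕ → τ) (n : ℕ) (r : A) : Prop :=
  ∀ m : M, m ∈ ℳ n → (∀ i, ∃ l b : ℕ, r ^ b • g i ^ l • m = 0) → ∃ b : ℕ, r ^ b • m = 0

/-- `CSurj` after inverting `r`, expressed inside `M`. -/
def CSurjLoc (g : ι → A) (d : ι → ℕ) (ℳ : ℕ → τ) (n : ℕ) (r : A) : Prop :=
  ∀ (k : ℕ) (c : ι → M), (∀ i, c i ∈ ℳ (n + k * d i)) →
    (∃ l b : ℕ, ∀ i j, r ^ b • (g i * g j) ^ l • (g j ^ k • c i - g i ^ k • c j) = 0) →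
    ∃ (m : M) (N : ℕ), m ∈ ℳ n ∧ ∀ i, ∃ l : ℕ, g i ^ l • (g i ^ k • m - r ^ N • c i) = 0

end LocPred

section Uniform
variable {A : Type*} [CommRing A] {M : Type*} [AddCommGroup M] [Module A M]

/-- finitely many elements each killed by a power of `r` are killed by one power of `r`. -/
theorem exists_pow_uniform {κ : Type*} [Finite κ] (r : A) (x : κ → M)
    (h : ∀ i, ∃ b : ℕ, r ^ b • x i = 0) : ∃ B : ℕ, ∀ i, r ^ B • x i = 0 := by
  classical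
  haveI := Fintype.ofFinite κ
  choose b hb using h
  refine ⟨Finset.univ.sup b, fun i => ?_⟩
  have hle : b i ≤ Finset.univ.sup b := Finset.le_sup (Finset.mem_univ i)
  rw [← Nat.sub_add_cancel hle, pow_add, mul_smul, hb, smul_zero]

variable {τ : Type*} [SetLike τ M] (ℳ : ℕ → τ)

theorem pow_smul_mem_of (r : A) (hr : ∀ e m, m ∈ ℳ e → r • m ∈ ℳ e) (a e : ℕ) (m : M)
    (hm : m ∈ ℳ e) : r ^ a • m ∈ ℳ e := by
  induction a with
  | zero => rwa [pow_zero, one_smul]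
  | succ a ih =>
    rw [pow_succ', mul_smul]
    exact hr e _ ih

end Uniform

section Glue
variable {A : Type*} [CommRing A] {M : Type*} [AddCommGroup M] [Module A M] {τ : Type*}
  [SetLike τ M] [AddSubgroupClass τ M] {ι : Type*} [Finite ι]
  (g : ι → A) (d : ι → ℕ) (ℳ : ℕ → τ) (n : ℕ)
  {J : Type*} [Fintype J] (r : J → A)
  (hr : ∀ j e m, m ∈ ℳ e → r j • m ∈ ℳ e)
  (hU : ∀ N : ℕ, ∃ x : J → A, (∀ j e m, m ∈ ℳ e → x j • m ∈ ℳ e) ∧
    ∑ j, x j * r j ^ N = 1)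

include hU in
omit [AddSubgroupClass τ M] [Finite ι] in
theorem cInj_of_loc (h : ∀ j, CInjLoc g ℳ n (r j)) : CInj g ℳ n := by
  classical
  intro m hm hk
  have h1 : ∀ j, ∃ b, r j ^ b • m = 0 := fun j => h j m hm (fun i => by
    obtain ⟨l, hl⟩ := hk i
    exact ⟨l, 0, by rw [pow_zero, one_smul, hl]⟩)
  choose b hb using h1
  obtain ⟨x, -, hx⟩ := hU (Finset.univ.sup b)
  have h2 : m = (∑ j, x j * r j ^ (Finset.univ.sup b)) • m := by rw [hx, one_smul]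
  rw [h2, Finset.sum_smul]
  refine Finset.sum_eq_zero (fun j _ => ?_)
  have hle : b j ≤ Finset.univ.sup b := Finset.le_sup (Finset.mem_univ j)
  rw [mul_smul, ← Nat.sub_add_cancel hle, pow_add, mul_smul, hb, smul_zero, smul_zero]

include hr hU in
omit [Finite ι] in
theorem cSurj_of_loc (h : ∀ j, CSurjLoc g d ℳ n (r j)) : CSurj g d ℳ n := by
  classical
  intro k c hc hcompat
  obtain ⟨l, hl⟩ := hcompat
  have h1 : ∀ j, ∃ (m : M) (N : ℕ), m ∈ ℳ n ∧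
      ∀ i, ∃ l', g i ^ l' • (g i ^ k • m - r j ^ N • c i) = 0 :=
    fun j => h j k c hc ⟨l, 0, fun i i' => by rw [pow_zero, one_smul]; exact hl i i'⟩
  choose m0 N0 hm0 hN0 using h1
  have h2 : ∀ j, ∃ m : M, m ∈ ℳ n ∧
      ∀ i, ∃ l', g i ^ l' • (g i ^ k • m - r j ^ (Finset.univ.sup N0) • c i) = 0 := by
    intro j
    have hle : N0 j ≤ Finset.univ.sup N0 := Finset.le_sup (Finset.mem_univ j)
    refine ⟨r j ^ (Finset.univ.sup N0 - N0 j) • m0 j,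
      pow_smul_mem_of ℳ (r j) (hr j) _ n _ (hm0 j), fun i => ?_⟩
    obtain ⟨l', hl'⟩ := hN0 j i
    refine ⟨l', ?_⟩
    have h3 : g i ^ k • r j ^ (Finset.univ.sup N0 - N0 j) • m0 j -
        r j ^ (Finset.univ.sup N0) • c i =
        r j ^ (Finset.univ.sup N0 - N0 j) • (g i ^ k • m0 j - r j ^ N0 j • c i) := by
      rw [smul_sub, smul_comm (r j ^ (Finset.univ.sup N0 - N0 j)) (g i ^ k),
        ← mul_smul (r j ^ (Finset.univ.sup N0 - N0 j)), ← pow_add, Nat.sub_add_cancel hle]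
    rw [h3, smul_comm, hl', smul_zero]
  choose m1 hm1 hl1 using h2
  obtain ⟨x, hxdeg, hx⟩ := hU (Finset.univ.sup N0)
  refine ⟨∑ j, x j • m1 j, sum_mem (fun j _ => hxdeg j n _ (hm1 j)), fun i => ?_⟩
  choose l' hl' using fun j => hl1 j i
  refine ⟨Finset.univ.sup l', ?_⟩
  have hc_i : c i = ∑ j, (x j * r j ^ (Finset.univ.sup N0)) • c i := by
    rw [← Finset.sum_smul, hx, one_smul]
  have h4 : g i ^ k • ∑ j, x j • m1 j - c i =
      ∑ j, x j • (g i ^ k • m1 j - r j ^ (Finset.univ.sup N0) • c i) := by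
    conv_lhs => rw [hc_i]
    rw [Finset.smul_sum, ← Finset.sum_sub_distrib]
    refine Finset.sum_congr rfl (fun j _ => ?_)
    rw [smul_sub, smul_comm (g i ^ k) (x j), mul_smul]
  rw [h4, Finset.smul_sum]
  refine Finset.sum_eq_zero (fun j _ => ?_)
  have hle : l' j ≤ Finset.univ.sup l' := Finset.le_sup (Finset.mem_univ j)
  rw [smul_comm, ← Nat.sub_add_cancel hle, pow_add, mul_smul, hl' j, smul_zero, smul_zero]

end Glue

section LocMap
variable {A A' : Type*} [CommRing A] [CommRing A'] {M M' : Type*} [AddCommGroup M] [Module A M]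
  [AddCommGroup M'] [Module A' M'] {τ τ' : Type*} [SetLike τ M] [SetLike τ' M'] {ι : Type*}
  [Finite ι]
  (ψ : A →+* A') (ρ : M →+ M') (hρ : ∀ a m, ρ (a • m) = ψ a • ρ m)
  (g : ι → A) (d : ι → ℕ) (ℳ : ℕ → τ) (ℳ' : ℕ → τ') (r : A)
  (H1 : ∀ e m, m ∈ ℳ e → ρ m ∈ ℳ' e)
  (H2 : ∀ e m', m' ∈ ℳ' e → ∃ (a : ℕ) (m : M), m ∈ ℳ e ∧ ψ r ^ a • m' = ρ m)
  (H3 : ∀ m, ρ m = 0 → ∃ b : ℕ, r ^ b • m = 0)
  (H4 : ∀ e m, m ∈ ℳ e → r • m ∈ ℳ e)
  (u : A') (hu : ψ r * u = 1) (H5 : ∀ e m', m' ∈ ℳ' e → u • m' ∈ ℳ' e)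

include hu in
omit [Finite ι] in
theorem unit_cancel (b : ℕ) (m' : M') (h : ψ r ^ b • m' = 0) : m' = 0 := by
  have h1 : (u ^ b * ψ r ^ b) • m' = 0 := by rw [mul_smul, h, smul_zero]
  rwa [← mul_pow, mul_comm, hu, one_pow, one_smul] at h1

include hρ in
omit [Finite ι] in
theorem rho_pow_smul (a : A) (l : ℕ) (m : M) : ρ (a ^ l • m) = ψ a ^ l • ρ m := by
  rw [hρ, map_pow]

include hρ H1 H3 hu in
omit [Finite ι] in
/-- `CInj` for the localization gives `CInjLoc`. -/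
theorem cInjLoc_of_cInj (n : ℕ) (h : CInj (fun i => ψ (g i)) ℳ' n) : CInjLoc g ℳ n r := by
  intro m hm hk
  apply H3
  apply h (ρ m) (H1 n m hm)
  intro i
  obtain ⟨l, b, hlb⟩ := hk i
  refine ⟨l, ?_⟩
  apply unit_cancel ψ r u hu b
  have h1 := congrArg ρ hlb
  rw [rho_pow_smul ψ ρ hρ, rho_pow_smul ψ ρ hρ, map_zero] at h1
  exact h1

include hρ H1 H2 H3 H4 hu in
/-- `CSurj` for the localization gives `CSurjLoc`. -/
theorem cSurjLoc_of_cSurj (n : ℕ) (h : CSurj (fun i => ψ (g i)) d ℳ' n) :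
    CSurjLoc g d ℳ n r := by
  intro k c hc hcompat
  obtain ⟨l, b, hlb⟩ := hcompat
  obtain ⟨m', hm', hm'c⟩ := h k (fun i => ρ (c i)) (fun i => H1 _ _ (hc i)) ⟨l, fun i j => by
    apply unit_cancel ψ r u hu b
    have h1 := congrArg ρ (hlb i j)
    rw [rho_pow_smul ψ ρ hρ, rho_pow_smul ψ ρ hρ, map_sub, rho_pow_smul ψ ρ hρ,
      rho_pow_smul ψ ρ hρ, map_zero, map_mul] at h1
    exact h1⟩
  obtain ⟨a, m, hm, hma⟩ := H2 n m' hm'
  have h1 : ∀ i, ∃ l' b' : ℕ, r ^ b' • (g i ^ l' • (g i ^ k • m - r ^ a • c i)) = 0 := by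
    intro i
    obtain ⟨l', hl'⟩ := hm'c i
    obtain ⟨b', hb'⟩ := H3 (g i ^ l' • (g i ^ k • m - r ^ a • c i)) (by
      rw [rho_pow_smul ψ ρ hρ, map_sub, rho_pow_smul ψ ρ hρ, rho_pow_smul ψ ρ hρ, ← hma,
        smul_comm (ψ (g i) ^ k) (ψ r ^ a) m', ← smul_sub, smul_comm]
      have h2 : ψ (g i) ^ l' • (ψ (g i) ^ k • m' - ρ (c i)) = 0 := hl'
      rw [h2, smul_zero])
    exact ⟨l', b', hb'⟩
  choose l' b' hlb' using h1
  obtain ⟨B, hB⟩ := exists_pow_uniform r (fun i => g i ^ l' i • (g i ^ k • m - r ^ a • c i))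
    (fun i => ⟨b' i, hlb' i⟩)
  refine ⟨r ^ B • m, a + B, pow_smul_mem_of ℳ r H4 B n m hm, fun i => ⟨l' i, ?_⟩⟩
  have h3 : g i ^ k • r ^ B • m - r ^ (a + B) • c i = r ^ B • (g i ^ k • m - r ^ a • c i) := by
    rw [smul_sub, smul_comm (r ^ B) (g i ^ k), ← mul_smul (r ^ B), ← pow_add, add_comm B a]
  rw [h3, smul_comm]
  exact hB i

include hρ H2 H3 H4 hu in
/-- `CInj` passes to the localization. -/
theorem cInj_loc (n : ℕ) (h : CInj g ℳ n) : CInj (fun i => ψ (g i)) ℳ' n := by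
  intro m' hm' hk
  obtain ⟨a, m, hm, hma⟩ := H2 n m' hm'
  choose l hl using hk
  have h1 : ∀ i, ∃ b : ℕ, r ^ b • (g i ^ l i • m) = 0 := fun i => H3 _ (by
    rw [rho_pow_smul ψ ρ hρ, ← hma, smul_comm]
    have h2 : ψ (g i) ^ l i • m' = 0 := hl i
    rw [h2, smul_zero])
  obtain ⟨B, hB⟩ := exists_pow_uniform r (fun i => g i ^ l i • m) h1
  have h3 : r ^ B • m = 0 := h (r ^ B • m) (pow_smul_mem_of ℳ r H4 B n m hm) (fun i => ⟨l i, by
    rw [smul_comm]; exact hB i⟩)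
  have h4 : ρ m = 0 := by
    apply unit_cancel ψ r u hu B
    rw [← rho_pow_smul ψ ρ hρ, h3, map_zero]
  apply unit_cancel ψ r u hu a
  rw [hma, h4]

include hρ H1 H2 H3 H4 hu H5 in
/-- `CSurj` passes to the localization. -/
theorem cSurj_loc (n : ℕ) (h : CSurj g d ℳ n) : CSurj (fun i => ψ (g i)) d ℳ' n := by
  classical
  haveI := Fintype.ofFinite ι
  intro k c' hc' hcompat
  obtain ⟨l, hl⟩ := hcompat
  have h1 : ∀ i, ∃ (a : ℕ) (c : M), c ∈ ℳ (n + k * d i) ∧ ψ r ^ a • c' i = ρ c :=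
    fun i => H2 _ _ (hc' i)
  choose a0 c0 hc0 hac0 using h1
  have h2 : ∀ i, ∃ c : M, c ∈ ℳ (n + k * d i) ∧ ψ r ^ (Finset.univ.sup a0) • c' i = ρ c := by
    intro i
    have hle : a0 i ≤ Finset.univ.sup a0 := Finset.le_sup (Finset.mem_univ i)
    refine ⟨r ^ (Finset.univ.sup a0 - a0 i) • c0 i, pow_smul_mem_of ℳ r H4 _ _ _ (hc0 i), ?_⟩
    rw [rho_pow_smul ψ ρ hρ, ← hac0, ← mul_smul, ← pow_add, Nat.sub_add_cancel hle]
  choose c hc hac using h2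
  have h3 : ∀ p : ι × ι, ∃ b : ℕ,
      r ^ b • ((g p.1 * g p.2) ^ l • (g p.2 ^ k • c p.1 - g p.1 ^ k • c p.2)) = 0 :=
    fun p => H3 _ (by
      rw [rho_pow_smul ψ ρ hρ, map_sub, rho_pow_smul ψ ρ hρ, rho_pow_smul ψ ρ hρ, ← hac, ← hac,
        map_mul, smul_comm (ψ (g p.2) ^ k) (ψ r ^ (Finset.univ.sup a0)),
        smul_comm (ψ (g p.1) ^ k) (ψ r ^ (Finset.univ.sup a0)), ← smul_sub, smul_comm]
      have h4 : (ψ (g p.1) * ψ (g p.2)) ^ l •
          (ψ (g p.2) ^ k • c' p.1 - ψ (g p.1) ^ k • c' p.2) = 0 := hl p.1 p.2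
      rw [h4, smul_zero])
  obtain ⟨B, hB⟩ := exists_pow_uniform r _ h3
  obtain ⟨m, hm, hmc⟩ := h k (fun i => r ^ B • c i)
    (fun i => pow_smul_mem_of ℳ r H4 _ _ _ (hc i)) ⟨l, fun i j => by
      have h5 := hB (i, j)
      show (g i * g j) ^ l • (g j ^ k • r ^ B • c i - g i ^ k • r ^ B • c j) = 0
      rw [smul_comm (g j ^ k) (r ^ B), smul_comm (g i ^ k) (r ^ B), ← smul_sub, smul_comm]
      exact h5⟩
  refine ⟨u ^ (Finset.univ.sup a0 + B) • ρ m,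
    pow_smul_mem_of ℳ' u H5 _ _ _ (H1 _ _ hm), fun i => ?_⟩
  obtain ⟨l', hl'⟩ := hmc i
  refine ⟨l', ?_⟩
  apply unit_cancel ψ r u hu (Finset.univ.sup a0 + B)
  have h5 := congrArg ρ hl'
  rw [rho_pow_smul ψ ρ hρ, map_sub, rho_pow_smul ψ ρ hρ, rho_pow_smul ψ ρ hρ, ← hac,
    map_zero] at h5
  have hwv : ψ r ^ (Finset.univ.sup a0 + B) * u ^ (Finset.univ.sup a0 + B) = 1 := by
    rw [← mul_pow, hu, one_pow]
  have h6 : ψ r ^ (Finset.univ.sup a0 + B) • ψ (g i) ^ l' •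
      (ψ (g i) ^ k • u ^ (Finset.univ.sup a0 + B) • ρ m - c' i) =
      ψ (g i) ^ l' • (ψ (g i) ^ k • ρ m - ψ r ^ B • ψ r ^ (Finset.univ.sup a0) • c' i) := by
    rw [smul_comm (ψ r ^ (Finset.univ.sup a0 + B)), smul_sub,
      smul_comm (ψ r ^ (Finset.univ.sup a0 + B)) (ψ (g i) ^ k), ← mul_smul
      (ψ r ^ (Finset.univ.sup a0 + B)), hwv, one_smul, ← mul_smul (ψ r ^ B), ← pow_add,
      add_comm B]
  show ψ r ^ (Finset.univ.sup a0 + B) • ψ (g i) ^ l' •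
      (ψ (g i) ^ k • u ^ (Finset.univ.sup a0 + B) • ρ m - c' i) = 0
  rw [h6]
  exact h5

end LocMap

end Groth.Agent.Lib.SerreGamH2
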