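import Mathlib
import Groth.Prelude
import Groth.Agent.Lib.SerreGamLoc1_helper2
import Groth.Agent.Lib.RelTiEx2_helper5

/-!
# Serre's `Γ_*` theorem on a relative `Proj`: bijectivity of `α_n` passes to basic opens of the base and
glues (helper2).  APPEND-ONLY once landed.
-/

set_option autoImplicit false
universe u
open CategoryTheory CategoryTheory.Limits AlgebraicGeometry TopologicalSpace Opposite DirectSum
open scoped HomogeneousIdeal

namespace Groth.Agent.Lib.SerreGamH2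

open Groth.Agent.GrTi Groth.Agent.RelTiEx Groth.Agent.RelTwEx

section ZeroSmul
variable {A σ : Type*} [CommRing A] [SetLike σ A] [AddSubgroupClass σ A] (𝒜 : ℕ → σ)
  {M τ : Type*} [AddCommGroup M] [Module A M] [SetLike τ M] (ℳ : ℕ → τ)
  [SetLike.GradedSMul 𝒜 ℳ]

theorem zero_smul_mem {a : A} (ha : a ∈ 𝒜 0) {e : ℕ} {m : M} (hm : m ∈ ℳ e) : a • m ∈ ℳ e := by
  have h := SetLike.GradedSMul.smul_mem (A := 𝒜) (B := ℳ) ha hm
  rwa [vadd_eq_add, zero_add] at h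

end ZeroSmul

section CoverLe
variable {A σ : Type u} [CommRing A] [SetLike σ A] [AddSubgroupClass σ A] (𝒜 : ℕ → σ)
  [GradedRing 𝒜]

/-- The basic opens of a family generating an ideal containing the irrelevant ideal cover `Proj`. -/
theorem cover_of_le_span {ι : Type*} (g : ι → A)
    (hspan : (HomogeneousIdeal.irrelevant 𝒜).toIdeal ≤ Ideal.span (Set.range g)) (x : Proj 𝒜) :
    ∃ i, x ∈ Proj.basicOpen 𝒜 (g i) := by
  by_contra hcon
  push Not at hcon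
  apply x.not_irrelevant_le
  intro a ha
  refine (Ideal.span_le (I := x.asHomogeneousIdeal.toIdeal)).mpr ?_ (hspan ha)
  rintro _ ⟨i, rfl⟩
  have := hcon i
  rw [Proj.mem_basicOpen, not_not] at this
  exact this

end CoverLe

section Rel
variable {Y : Scheme.{u}} {𝒮 : RelProj.QCGrAlg Y} (ℳ : RelProj.GrModule 𝒮)
  (hℳ : Coh.IsQCoh ((AMod.toOS 𝒮.toQCAlg).obj ℳ.mod))
  {V : Y.Opens} (hV : IsAffineOpen V) (r : Γ(Y, V))

include hℳ in
/-- homogeneous sections over `D(r)` lift, after multiplication by a power of `r`, to homogeneous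
sections over `V` of the same degree. -/
theorem exists_lift_deg (e : ℕ) (m' : ℳ.mod.val.obj (op (Y.basicOpen r)))
    (hm' : m' ∈ ℳ.deg (Y.basicOpen r) (hV.basicOpen r) e) :
    ∃ (a : ℕ) (m : ℳ.mod.val.obj (op V)), m ∈ ℳ.deg V hV e ∧
      (𝒮.res hV (hV.basicOpen r) (Y.basicOpen_le r) ((𝒮.str.app (op V)).hom r)) ^ a • m' =
        ℳ.res hV (hV.basicOpen r) (Y.basicOpen_le r) m := by
  obtain ⟨k, m0, hk⟩ := mod_surj ℳ hℳ hV r (hV.basicOpen r) (Y.basicOpen_le r) m'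
  refine ⟨k, (DirectSum.decompose (ℳ.deg V hV) m0 e : ℳ.mod.val.obj (op V)), SetLike.coe_mem _, ?_⟩
  have h3 := decompose_map (𝒮.res hV (hV.basicOpen r) (Y.basicOpen_le r)) (ℳ.deg V hV)
    (ℳ.deg _ (hV.basicOpen r)) (ℳ.res hV (hV.basicOpen r) (Y.basicOpen_le r))
    (fun i m hm => ℳ.res_mem hV (hV.basicOpen r) (Y.basicOpen_le r) i m hm) m0 e
  rw [← h3, ← hk, DirectSum.decompose_of_mem_same]
  refine pow_smul_mem_of (ℳ.deg _ (hV.basicOpen r)) _ (fun e' m hm => ?_) k e m' hm'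
  exact zero_smul_mem (𝒮.deg _ (hV.basicOpen r)) (ℳ.deg _ (hV.basicOpen r))
    ((𝒮.res hV (hV.basicOpen r) (Y.basicOpen_le r)).map_mem (𝒮.str_mem V hV r)) hm

include hℳ in
theorem exists_pow_smul_eq_zero_of_res (m : ℳ.mod.val.obj (op V))
    (hm : ℳ.res hV (hV.basicOpen r) (Y.basicOpen_le r) m = 0) :
    ∃ b : ℕ, ((𝒮.str.app (op V)).hom r) ^ b • m = 0 := by
  haveI : (osMod ℳ).IsQuasicoherent := hℳ
  have hloc := QCohCrit.locOnU_of_isQuasicoherent (osMod ℳ) hV r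
  obtain ⟨k, hk⟩ := hloc.ker (toG ℳ _ m) hm
  refine ⟨k, ?_⟩
  have h2 : (((𝒮.str.app (op V)).hom (r ^ k) : 𝒮.presheaf.obj (op V)) • m) = 0 := hk
  rw [map_pow] at h2
  exact h2

/-- the inverse of `r` over `D(r)`, in degree zero. -/
theorem exists_unit_deg_zero :
    ∃ u : 𝒮.presheaf.obj (op (Y.basicOpen r)), u ∈ 𝒮.deg (Y.basicOpen r) (hV.basicOpen r) 0 ∧
      𝒮.res hV (hV.basicOpen r) (Y.basicOpen_le r) ((𝒮.str.app (op V)).hom r) * u = 1 := by
  have hunit : IsUnit ((Y.presheaf.map (homOfLE (Y.basicOpen_le r)).op).hom r) :=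
    Y.toRingedSpace.isUnit_res_basicOpen r
  obtain ⟨v, hv⟩ := hunit.exists_right_inv
  refine ⟨(𝒮.str.app (op (Y.basicOpen r))).hom v, 𝒮.str_mem _ (hV.basicOpen r) v, ?_⟩
  rw [res_str hV (hV.basicOpen r) (Y.basicOpen_le r) r, ← map_mul, hv, map_one]

end Rel

section Apply
variable {Y : Scheme.{u}} {𝒮 : RelProj.QCGrAlg Y} (ℳ : RelProj.GrModule 𝒮)
  (hℳ : Coh.IsQCoh ((AMod.toOS 𝒮.toQCAlg).obj ℳ.mod))
  {V : Y.Opens} (hV : IsAffineOpen V)

theorem irrelevant_le_span_res (r : Γ(Y, V)) {ι : Type*} (g : ι → 𝒮.presheaf.obj (op V))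
    (hspan : (HomogeneousIdeal.irrelevant (𝒮.deg V hV)).toIdeal = Ideal.span (Set.range g)) :
    (HomogeneousIdeal.irrelevant (𝒮.deg (Y.basicOpen r) (hV.basicOpen r))).toIdeal ≤
      Ideal.span (Set.range (fun i => 𝒮.res hV (hV.basicOpen r) (Y.basicOpen_le r) (g i))) := by
  have h : (HomogeneousIdeal.irrelevant (𝒮.deg (Y.basicOpen r) (hV.basicOpen r))).toIdeal ≤
      ((HomogeneousIdeal.irrelevant (𝒮.deg V hV)).map
        (𝒮.res hV (hV.basicOpen r) (Y.basicOpen_le r))).toIdeal := 𝒮.irrelevant_le_map V hV r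
  rw [HomogeneousIdeal.toIdeal_map, hspan, Ideal.map_span, ← Set.range_comp] at h
  exact h

include hℳ in
/-- **LOC1**: bijectivity of `α_n` over an affine open passes to its basic opens. -/
theorem bijective_alpha_basicOpen [IsNoetherianRing (𝒮.presheaf.obj (op V))] (r : Γ(Y, V)) (n : ℕ)
    (h : Function.Bijective (GrMod.alpha (𝒮.deg V hV) (ℳ.deg V hV) n)) :
    Function.Bijective (GrMod.alpha (𝒮.deg (Y.basicOpen r) (hV.basicOpen r))
      (ℳ.deg (Y.basicOpen r) (hV.basicOpen r)) n) := by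
  obtain ⟨s, g, d, hd, hg, hspan⟩ := exists_gens (𝒮.deg V hV)
  have h1 := (alpha_bijective_iff (𝒮.deg V hV) (ℳ.deg V hV) g d hd hg
    (cover_of_span _ g hspan) n).mp h
  obtain ⟨u, hu0, hu⟩ := exists_unit_deg_zero (𝒮 := 𝒮) hV r
  have hg' : ∀ i, 𝒮.res hV (hV.basicOpen r) (Y.basicOpen_le r) (g i) ∈
      𝒮.deg (Y.basicOpen r) (hV.basicOpen r) (d i) :=
    fun i => (𝒮.res hV (hV.basicOpen r) (Y.basicOpen_le r)).map_mem (hg i)
  have hcov' := cover_of_le_span (𝒮.deg (Y.basicOpen r) (hV.basicOpen r))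
    (fun i => 𝒮.res hV (hV.basicOpen r) (Y.basicOpen_le r) (g i))
    (irrelevant_le_span_res hV r g hspan)
  have H1 : ∀ e m, m ∈ ℳ.deg V hV e →
      (ℳ.res hV (hV.basicOpen r) (Y.basicOpen_le r)).toAddMonoidHom m ∈
        ℳ.deg (Y.basicOpen r) (hV.basicOpen r) e :=
    fun e m hm => ℳ.res_mem hV (hV.basicOpen r) (Y.basicOpen_le r) e m hm
  have H2 := exists_lift_deg ℳ hℳ hV r
  have H3 := exists_pow_smul_eq_zero_of_res ℳ hℳ hV r
  have H4 : ∀ e m, m ∈ ℳ.deg V hV e → ((𝒮.str.app (op V)).hom r) • m ∈ ℳ.deg V hV e :=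
    fun e m hm => zero_smul_mem (𝒮.deg V hV) (ℳ.deg V hV) (𝒮.str_mem V hV r) hm
  have H5 : ∀ e m', m' ∈ ℳ.deg (Y.basicOpen r) (hV.basicOpen r) e →
      u • m' ∈ ℳ.deg (Y.basicOpen r) (hV.basicOpen r) e :=
    fun e m' hm' => zero_smul_mem (𝒮.deg _ (hV.basicOpen r)) (ℳ.deg _ (hV.basicOpen r)) hu0 hm'
  refine (alpha_bijective_iff (𝒮.deg _ (hV.basicOpen r)) (ℳ.deg _ (hV.basicOpen r))
    (fun i => 𝒮.res hV (hV.basicOpen r) (Y.basicOpen_le r) (g i)) d hd hg' hcov' n).mpr ⟨?_, ?_⟩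
  · exact cInj_loc (𝒮.res hV (hV.basicOpen r) (Y.basicOpen_le r)).toRingHom
      (ℳ.res hV (hV.basicOpen r) (Y.basicOpen_le r)).toAddMonoidHom
      (fun a m => (ℳ.res hV (hV.basicOpen r) (Y.basicOpen_le r)).map_smulₛₗ a m)
      g (ℳ.deg V hV) (ℳ.deg _ (hV.basicOpen r)) ((𝒮.str.app (op V)).hom r) H2 H3 H4 u hu n h1.1
  · exact cSurj_loc (𝒮.res hV (hV.basicOpen r) (Y.basicOpen_le r)).toRingHom
      (ℳ.res hV (hV.basicOpen r) (Y.basicOpen_le r)).toAddMonoidHom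
      (fun a m => (ℳ.res hV (hV.basicOpen r) (Y.basicOpen_le r)).map_smulₛₗ a m)
      g d (ℳ.deg V hV) (ℳ.deg _ (hV.basicOpen r)) ((𝒮.str.app (op V)).hom r) H1 H2 H3 H4 u hu H5
      n h1.2

include hℳ in
/-- **LOC2**: bijectivity of `α_n` over the members of a cover by basic opens gives bijectivity. -/
theorem bijective_alpha_of_cover [IsNoetherianRing (𝒮.presheaf.obj (op V))] {J : Type*}
    [Fintype J] (r : J → Γ(Y, V)) (hr : Ideal.span (Set.range r) = ⊤) (n : ℕ)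
    (h : ∀ j, Function.Bijective (GrMod.alpha (𝒮.deg (Y.basicOpen (r j)) (hV.basicOpen (r j)))
      (ℳ.deg (Y.basicOpen (r j)) (hV.basicOpen (r j))) n)) :
    Function.Bijective (GrMod.alpha (𝒮.deg V hV) (ℳ.deg V hV) n) := by
  obtain ⟨s, g, d, hd, hg, hspan⟩ := exists_gens (𝒮.deg V hV)
  refine (alpha_bijective_iff (𝒮.deg V hV) (ℳ.deg V hV) g d hd hg
    (cover_of_span _ g hspan) n).mpr ?_
  have hloc : ∀ j, CInjLoc g (ℳ.deg V hV) n ((𝒮.str.app (op V)).hom (r j)) ∧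
      CSurjLoc g d (ℳ.deg V hV) n ((𝒮.str.app (op V)).hom (r j)) := by
    intro j
    obtain ⟨u, hu0, hu⟩ := exists_unit_deg_zero (𝒮 := 𝒮) hV (r j)
    have hg' : ∀ i, 𝒮.res hV (hV.basicOpen (r j)) (Y.basicOpen_le (r j)) (g i) ∈
        𝒮.deg (Y.basicOpen (r j)) (hV.basicOpen (r j)) (d i) :=
      fun i => (𝒮.res hV (hV.basicOpen (r j)) (Y.basicOpen_le (r j))).map_mem (hg i)
    have hcov' := cover_of_le_span (𝒮.deg (Y.basicOpen (r j)) (hV.basicOpen (r j)))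
      (fun i => 𝒮.res hV (hV.basicOpen (r j)) (Y.basicOpen_le (r j)) (g i))
      (irrelevant_le_span_res hV (r j) g hspan)
    have h1 := (alpha_bijective_iff (𝒮.deg _ (hV.basicOpen (r j))) (ℳ.deg _ (hV.basicOpen (r j)))
      (fun i => 𝒮.res hV (hV.basicOpen (r j)) (Y.basicOpen_le (r j)) (g i)) d hd hg' hcov' n).mp
      (h j)
    have H1 : ∀ e m, m ∈ ℳ.deg V hV e →
        (ℳ.res hV (hV.basicOpen (r j)) (Y.basicOpen_le (r j))).toAddMonoidHom m ∈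
          ℳ.deg (Y.basicOpen (r j)) (hV.basicOpen (r j)) e :=
      fun e m hm => ℳ.res_mem hV (hV.basicOpen (r j)) (Y.basicOpen_le (r j)) e m hm
    have H2 := exists_lift_deg ℳ hℳ hV (r j)
    have H3 := exists_pow_smul_eq_zero_of_res ℳ hℳ hV (r j)
    have H4 : ∀ e m, m ∈ ℳ.deg V hV e → ((𝒮.str.app (op V)).hom (r j)) • m ∈ ℳ.deg V hV e :=
      fun e m hm => zero_smul_mem (𝒮.deg V hV) (ℳ.deg V hV) (𝒮.str_mem V hV (r j)) hm
    constructor
    · exact cInjLoc_of_cInj (𝒮.res hV (hV.basicOpen (r j)) (Y.basicOpen_le (r j))).toRingHom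
        (ℳ.res hV (hV.basicOpen (r j)) (Y.basicOpen_le (r j))).toAddMonoidHom
        (fun a m => (ℳ.res hV (hV.basicOpen (r j)) (Y.basicOpen_le (r j))).map_smulₛₗ a m)
        g (ℳ.deg V hV) (ℳ.deg _ (hV.basicOpen (r j))) ((𝒮.str.app (op V)).hom (r j)) H1 H3 u hu
        n h1.1
    · exact cSurjLoc_of_cSurj (𝒮.res hV (hV.basicOpen (r j)) (Y.basicOpen_le (r j))).toRingHom
        (ℳ.res hV (hV.basicOpen (r j)) (Y.basicOpen_le (r j))).toAddMonoidHom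
        (fun a m => (ℳ.res hV (hV.basicOpen (r j)) (Y.basicOpen_le (r j))).map_smulₛₗ a m)
        g d (ℳ.deg V hV) (ℳ.deg _ (hV.basicOpen (r j))) ((𝒮.str.app (op V)).hom (r j))
        H1 H2 H3 H4 u hu n h1.2
  have hr' : ∀ j e m, m ∈ ℳ.deg V hV e → ((𝒮.str.app (op V)).hom (r j)) • m ∈ ℳ.deg V hV e :=
    fun j e m hm => zero_smul_mem (𝒮.deg V hV) (ℳ.deg V hV) (𝒮.str_mem V hV (r j)) hm
  have hU : ∀ N : ℕ, ∃ x : J → 𝒮.presheaf.obj (op V),
      (∀ j e m, m ∈ ℳ.deg V hV e → x j • m ∈ ℳ.deg V hV e) ∧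
      ∑ j, x j * ((𝒮.str.app (op V)).hom (r j)) ^ N = 1 := by
    intro N
    have h1 := Ideal.span_pow_eq_top (Set.range r) hr N
    rw [← Set.range_comp] at h1
    have h2 : (1 : Γ(Y, V)) ∈ Ideal.span (Set.range ((fun x => x ^ N) ∘ r)) := by
      rw [h1]; exact Submodule.mem_top
    obtain ⟨y, hy⟩ := Ideal.mem_span_range_iff_exists_fun.mp h2
    refine ⟨fun j => (𝒮.str.app (op V)).hom (y j), fun j e m hm =>
      zero_smul_mem (𝒮.deg V hV) (ℳ.deg V hV) (𝒮.str_mem V hV (y j)) hm, ?_⟩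
    have h3 := congrArg (𝒮.str.app (op V)).hom hy
    rw [map_sum, map_one] at h3
    rw [← h3]
    refine Finset.sum_congr rfl (fun j _ => ?_)
    rw [map_mul, Function.comp_apply, map_pow]
  exact ⟨cInj_of_loc g (ℳ.deg V hV) n _ hU (fun j => (hloc j).1),
    cSurj_of_loc g d (ℳ.deg V hV) n _ hr' hU (fun j => (hloc j).2)⟩

end Apply

end Groth.Agent.Lib.SerreGamH2
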