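import Mathlib
import Groth.Prelude
import Groth.Agent.Lib.SerreGamLoc2_helper2

/-!
# Serre's `Γ_*` theorem on a relative `Proj` over a Noetherian base: a uniform bound (helper2).
APPEND-ONLY once landed.
-/

set_option autoImplicit false
universe u
open CategoryTheory CategoryTheory.Limits AlgebraicGeometry TopologicalSpace Opposite DirectSum
open scoped HomogeneousIdeal

namespace Groth.Agent.Lib.SerreGamH2

section Main
variable {Y : Scheme.{u}} (𝒮 : RelProj.QCGrAlg Y) (ℳ : RelProj.GrModule 𝒮)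

theorem bijective_alpha_congr {O O' : Y.Opens} (h : O = O') (hO : IsAffineOpen O)
    (hO' : IsAffineOpen O') (n : ℕ)
    (hb : Function.Bijective (GrMod.alpha (𝒮.deg O hO) (ℳ.deg O hO) n)) :
    Function.Bijective (GrMod.alpha (𝒮.deg O' hO') (ℳ.deg O' hO') n) := by
  subst h
  exact hb

theorem isNoetherianRing_sections [IsLocallyNoetherian Y]
    (hft : ∀ (U : Y.Opens) (hU : IsAffineOpen U), (𝒮.str.app (op U)).hom.FiniteType)
    (U : Y.Opens) (hU : IsAffineOpen U) : IsNoetherianRing (𝒮.presheaf.obj (op U)) := by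
  haveI : IsNoetherianRing Γ(Y, U) := IsLocallyNoetherian.component_noetherian ⟨U, hU⟩
  let _ := (𝒮.str.app (op U)).hom.toAlgebra
  haveI : Algebra.FiniteType Γ(Y, U) (𝒮.presheaf.obj (op U)) := hft U hU
  exact Algebra.FiniteType.isNoetherianRing Γ(Y, U) _

/-- **Uniform Serre**: one bound `N` for all affine opens of a Noetherian base. -/
theorem alpha_bijective_large_uniform [IsNoetherian Y]
    (hft : ∀ (U : Y.Opens) (hU : IsAffineOpen U), (𝒮.str.app (op U)).hom.FiniteType)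
    (hℳ : Coh.IsQCoh ((AMod.toOS 𝒮.toQCAlg).obj ℳ.mod)) (hTF : ℳ.IsTF) :
    ∃ N : ℕ, ∀ n : ℕ, N ≤ n → ∀ (U : Y.Opens) (hU : IsAffineOpen U),
      Function.Bijective (GrMod.alpha (𝒮.deg U hU) (ℳ.deg U hU) n) := by
  classical
  obtain ⟨k0, hk0⟩ := hTF
  obtain ⟨S, hSfin, hScov⟩ := (isCompact_iff_finite_and_eq_biUnion_affineOpens
    (U := (⊤ : Y.Opens))).mp (by simpa using (isCompact_univ : IsCompact (Set.univ : Set Y)))
  have hN : ∀ W : Y.affineOpens, ∃ N : ℕ, ∀ n : ℕ, N ≤ n →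
      Function.Bijective (GrMod.alpha (𝒮.deg W.1 W.2) (ℳ.deg W.1 W.2) n) := by
    intro W
    haveI := isNoetherianRing_sections 𝒮 hft W.1 W.2
    exact alpha_bijective_large (𝒮.deg W.1 W.2) (ℳ.deg W.1 W.2) ⟨k0, hk0 W.1 W.2⟩
  choose Nf hNf using hN
  refine ⟨hSfin.toFinset.sup Nf, fun n hn U hU => ?_⟩
  haveI := isNoetherianRing_sections 𝒮 hft U hU
  let T : Set Γ(Y, U) := {f | ∃ W ∈ S, ∃ g : Γ(Y, (W : Y.affineOpens).1),
    Y.basicOpen f = Y.basicOpen g}
  have hT : U ≤ ⨆ f : T, Y.basicOpen f.1 := by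
    intro x hxU
    have hx : x ∈ (⊤ : Y.Opens) := trivial
    rw [hScov] at hx
    obtain ⟨W, hx'⟩ := Opens.mem_iSup.mp hx
    obtain ⟨hWS, hxW⟩ := Opens.mem_iSup.mp hx'
    obtain ⟨f, g, hfg, hxf⟩ := exists_basicOpen_le_affine_inter hU W.2 x ⟨hxU, hxW⟩
    exact Opens.mem_iSup.mpr ⟨⟨f, W, hWS, g, hfg⟩, hxf⟩
  have hspan : Ideal.span T = ⊤ := hU.self_le_iSup_basicOpen_iff.mp hT
  obtain ⟨T', hT'T, hT'span⟩ := (Ideal.span_eq_top_iff_finite T).mp hspan
  refine bijective_alpha_of_cover ℳ hℳ hU (fun j : T' => (j.1 : Γ(Y, U)))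
    (by
      have h0 : (Set.range fun j : T' => (j.1 : Γ(Y, U))) = (↑T' : Set Γ(Y, U)) := by
        ext x
        constructor
        · rintro ⟨j, rfl⟩
          exact j.2
        · intro hx
          exact ⟨⟨x, hx⟩, rfl⟩
      rw [h0]
      exact hT'span) n (fun j => ?_)
  obtain ⟨W, hWS, g, hfg⟩ := hT'T j.2
  have hle : Nf W ≤ n :=
    le_trans (Finset.le_sup (f := Nf) (hSfin.mem_toFinset.mpr hWS)) hn
  haveI := isNoetherianRing_sections 𝒮 hft W.1 W.2
  have h1 := bijective_alpha_basicOpen ℳ hℳ W.2 g n (hNf W n hle)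
  exact bijective_alpha_congr 𝒮 ℳ hfg.symm (W.2.basicOpen g) (hU.basicOpen j.1) n h1

end Main

end Groth.Agent.Lib.SerreGamH2
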