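import Mathlib
import Groth.Prelude
import Groth.Agent.Lib.Tens36_helper8
import Groth.Agent.Lib.SerreRel_helper9

/-!
# Serre's criterion, relative form: `R¹f_*` kills quasi-coherent ideals ⇒ `f` affine (helper8)
APPEND-ONLY once landed.
-/

set_option autoImplicit false

namespace TensH8

open AlgebraicGeometry CategoryTheory CategoryTheory.Limits TopologicalSpace Opposite TensorProduct
open QcqsLoc MonoidalCategory GenLocH8 FLFH8 QCohExtn PBH8 SerreCrit GGH8

universe u

variable {X Y : Scheme.{u}}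

/-- Dévissage: `Ext¹(G, -)` vanishes on quasi-coherent submodules of a sum of two ideals if it
does on quasi-coherent ideals. -/
theorem ext_one_eq_zero_of_mono_biprod (G : CohTop.Ab X.carrier)
    (h : ∀ (I : X.Modules) (i : I ⟶ OO X), Mono i → I.IsQuasicoherent →
      ∀ ξ : Abelian.Ext G ((TT X).obj I) 1, ξ = 0)
    (A B : X.Modules) [A.IsQuasicoherent] [B.IsQuasicoherent] (iA : A ⟶ OO X) [Mono iA]
    (iB : B ⟶ OO X) [Mono iB] (K : X.Modules) [K.IsQuasicoherent] (k : K ⟶ A ⊞ B) [Mono k]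
    (ξ : Abelian.Ext G ((TT X).obj K) 1) : ξ = 0 := by
  obtain ⟨q, hq⟩ : ∃ q : K ⟶ A, q = k ≫ biprod.fst := ⟨_, rfl⟩
  haveI hker : (kernel q).IsQuasicoherent := SubExt.isQuasicoherent_kernel q
  have hcoim : (cokernel (kernel.ι q)).IsQuasicoherent := SubExt.isQuasicoherent_coimage q
  let S : ShortComplex X.Modules :=
    ShortComplex.mk (kernel.ι q) (cokernel.π (kernel.ι q)) (cokernel.condition _)
  have hS : S.ShortExact := ShortComplex.ShortExact.mk' (ShortComplex.exact_cokernel (kernel.ι q))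
    (inferInstanceAs (Mono (kernel.ι q))) (inferInstanceAs (Epi (cokernel.π (kernel.ι q))))
  have hT := shortExact_toSheaf S hS
  haveI : Mono (Abelian.factorThruCoimage q) := inferInstance
  have h3 : ∀ y : Abelian.Ext G ((TT X).obj (cokernel (kernel.ι q))) 1, y = 0 :=
    h (cokernel (kernel.ι q)) (Abelian.factorThruCoimage q ≫ iA) (mono_comp _ _) hcoim
  have hmono : Mono (kernel.ι q ≫ k ≫ biprod.snd ≫ iB) := by
    apply Preadditive.mono_of_cancel_zero
    intro T t ht
    have ht' : (t ≫ kernel.ι q ≫ k ≫ biprod.snd) ≫ iB = 0 := by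
      simpa [Category.assoc] using ht
    have ht2 : t ≫ kernel.ι q ≫ k ≫ biprod.snd = 0 := by
      rw [← cancel_mono iB, ht', zero_comp]
    have e1 : (t ≫ kernel.ι q) ≫ k = 0 := by
      apply biprod.hom_ext
      · rw [zero_comp, Category.assoc, Category.assoc, ← hq, kernel.condition, comp_zero]
      · rw [zero_comp, Category.assoc, Category.assoc]
        exact ht2
    have e2 : t ≫ kernel.ι q = 0 := by
      rw [← cancel_mono k, e1, zero_comp]
    rw [← cancel_mono (kernel.ι q), e2, zero_comp]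
  have h1 : ∀ y : Abelian.Ext G ((TT X).obj (kernel q)) 1, y = 0 := h (kernel q) _ hmono hker
  obtain ⟨x₁, hx₁⟩ := Abelian.Ext.covariant_sequence_exact₂ _ hT ξ (h3 _)
  have hx0 : x₁ = 0 := h1 x₁
  rw [hx0, Abelian.Ext.zero_comp] at hx₁
  exact hx₁.symm

/-- The inductive step in the relative Serre criterion, `Ext¹` form. -/
theorem exists_sum_vanSub' (f : X ⟶ Y) {V : Y.Opens}
    (hExt : ∀ (I : X.Modules) (i : I ⟶ OO X), Mono i → I.IsQuasicoherent →
      ∀ ξ : Abelian.Ext (RpushVanish.fr (Y := X.carrier) (f ⁻¹ᵁ V)) ((TT X).obj I) 1, ξ = 0)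
    (l : List X.Opens) (hl : ∀ U ∈ l, IsAffineOpen U ∧ U ≤ f ⁻¹ᵁ V) :
    ∃ (M : X.Modules) (i : M ⟶ OO X), Mono i ∧ M.IsQuasicoherent ∧
      (∀ U ∈ l, ∀ (W : X.Opens) (g : Γ((vanSub U).toModules, W)),
        ∃ g' : Γ(M, W), ap i W g' = ap (vanSub U).ι W g) ∧
      (∀ m : Γ(M, f ⁻¹ᵁ V), toFn (ap i (f ⁻¹ᵁ V) m) ∈
        Ideal.span {b : Γ(X, f ⁻¹ᵁ V) | IsAffineOpen (X.basicOpen b)}) := by
  induction l with
  | nil =>
    refine ⟨(vanSub (⊥ : X.Opens)).toModules, (vanSub ⊥).ι, inferInstance,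
      isQuasicoherent_vanSub ⊥, ?_, ?_⟩
    · intro U hU
      exact absurd hU List.not_mem_nil
    · intro m
      apply Ideal.subset_span
      show IsAffineOpen (X.basicOpen (toFn (ap (vanSub ⊥).ι (f ⁻¹ᵁ V) m)))
      have : X.basicOpen (toFn (ap (vanSub (⊥ : X.Opens)).ι (f ⁻¹ᵁ V) m)) = ⊥ := by
        rw [eq_bot_iff]
        intro z hz
        exact absurd hz (vanSub_van ⊥ _ m z (fun hz' => hz'))
      rw [this]
      exact isAffineOpen_bot X
  | cons U l ih =>
    obtain ⟨M, i, hi, hM, ha, hb⟩ := ih (fun U' hU' => hl U' (List.mem_cons_of_mem U hU'))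
    obtain ⟨hUaff, hUle⟩ := hl U List.mem_cons_self
    haveI := hi
    haveI := hM
    haveI : (vanSub U).toModules.IsQuasicoherent := isQuasicoherent_vanSub U
    haveI : (OO X).IsQuasicoherent := isQuasicoherent_structureModule
    haveI hq : (M ⊞ (vanSub U).toModules).IsQuasicoherent :=
      QCAlgMod.isQuasicoherent_biprod M (vanSub U).toModules
    obtain ⟨p, hp⟩ : ∃ p : M ⊞ (vanSub U).toModules ⟶ OO X, p = biprod.desc i (vanSub U).ι :=
      ⟨_, rfl⟩
    haveI hqc : (Abelian.coimage p).IsQuasicoherent := SubExt.isQuasicoherent_coimage p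
    haveI hqk : (kernel p).IsQuasicoherent := SubExt.isQuasicoherent_kernel p
    have hfac : Abelian.coimage.π p ≫ Abelian.factorThruCoimage p = p := Abelian.coimage.fac p
    have hinl : biprod.inl ≫ p = i := by rw [hp, biprod.inl_desc]
    have hinr : biprod.inr ≫ p = (vanSub U).ι := by rw [hp, biprod.inr_desc]
    refine ⟨Abelian.coimage p, Abelian.factorThruCoimage p, inferInstance, hqc, ?_, ?_⟩
    · intro U' hU' W g
      rcases List.mem_cons.mp hU' with rfl | hU'
      · refine ⟨ap (Abelian.coimage.π p) W (ap biprod.inr W g), ?_⟩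
        rw [← ap_comp', hfac, ← ap_comp', hinr]
      · obtain ⟨g₀, hg₀⟩ := ha U' hU' W g
        refine ⟨ap (Abelian.coimage.π p) W (ap biprod.inl W g₀), ?_⟩
        rw [← ap_comp', hfac, ← ap_comp', hinl, hg₀]
    · intro m'
      let S : ShortComplex X.Modules :=
        ShortComplex.mk (kernel.ι p) (cokernel.π (kernel.ι p)) (cokernel.condition _)
      have hS : S.ShortExact :=
        ShortComplex.ShortExact.mk' (ShortComplex.exact_cokernel (kernel.ι p))
          (inferInstanceAs (Mono (kernel.ι p))) (inferInstanceAs (Epi (cokernel.π (kernel.ι p))))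
      have hT := shortExact_toSheaf S hS
      have hK : ∀ ξ : Abelian.Ext (RpushVanish.fr (Y := X.carrier) (f ⁻¹ᵁ V))
          ((TT X).obj (kernel p)) 1, ξ = 0 :=
        ext_one_eq_zero_of_mono_biprod _ hExt M (vanSub U).toModules i (vanSub U).ι (kernel p)
          (kernel.ι p)
      obtain ⟨z, hz⟩ := SerreRel.sec_surj_of_ext_one (Y := X.carrier) (S.map (TT X)) hT
        (f ⁻¹ᵁ V) hK m'
      have hz' : ap (Abelian.coimage.π p) (f ⁻¹ᵁ V) z = m' := hz
      have e1 : ap (Abelian.factorThruCoimage p) (f ⁻¹ᵁ V) m' =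
          ap i (f ⁻¹ᵁ V) (ap biprod.fst (f ⁻¹ᵁ V) z) +
            ap (vanSub U).ι (f ⁻¹ᵁ V) (ap biprod.snd (f ⁻¹ᵁ V) z) := by
        rw [← hz', ← ap_comp', hfac, hp, biprod.desc_eq, ap_add_hom, ap_comp', ap_comp']
      rw [e1]
      apply Ideal.add_mem
      · exact hb _
      · apply Ideal.subset_span
        exact isAffineOpen_basicOpen_of_van hUaff hUle _
          (fun z' hz' => vanSub_van U _ _ z' hz')

/-- Relative Serre criterion: a quasi-compact quasi-separated morphism whose first higher direct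
image kills the quasi-coherent ideals is affine. -/
theorem isAffineHom_of_R1 (f : X ⟶ Y) [QuasiCompact f] [QuasiSeparated f]
    (h : ∀ (J : X.Modules) (i : J ⟶ OO X), Mono i → J.IsQuasicoherent →
      IsZero ((Coh.RpushAb f 1).obj (Coh.toAb J))) : IsAffineHom f := by
  classical
  refine ⟨fun V hV => ?_⟩
  have hExt : ∀ (I : X.Modules) (i : I ⟶ OO X), Mono i → I.IsQuasicoherent →
      ∀ ξ : Abelian.Ext (RpushVanish.fr (Y := X.carrier) (f ⁻¹ᵁ V)) ((TT X).obj I) 1, ξ = 0 := by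
    intro I i hi hI
    haveI := hI
    have hR := h I i hi hI
    haveI hpq : ((Scheme.Modules.pushforward f).obj I).IsQuasicoherent :=
      QcqsLoc.isQuasicoherent_pushforward_qcqs f _
    have h2 : ∀ ξ : Abelian.Ext (RpushVanish.fr (Y := Y.carrier) V)
        ((CohTop.push f.base).obj (Coh.toAb I)) 1, ξ = 0 :=
      fun ξ => AffVanish.ext_freeSheaf_eq_zero_of_MV
        (Coh.toAb ((Scheme.Modules.pushforward f).obj I)) (AffVanish.MV_toAb _) V hV 0 ξ
    exact SerreRel.ext_one_eq_zero_of_R1 f.base (Coh.toAb I) V hR h2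
  have hc : IsCompact ((f ⁻¹ᵁ V : X.Opens) : Set X) :=
    QuasiCompact.isCompact_preimage (f := f) _ V.isOpen hV.isCompact
  obtain ⟨S, hS, hcov⟩ := isCompact_iff_finite_and_eq_biUnion_affineOpens.mp hc
  have hle : ∀ W ∈ S, (W : X.Opens) ≤ f ⁻¹ᵁ V := fun W hW =>
    (le_iSup₂ (f := fun (i : X.affineOpens) (_ : i ∈ S) => (i : X.Opens)) W hW).trans hcov.ge
  obtain ⟨l, hldef⟩ : ∃ l : List X.Opens,
      l = List.map (fun W : X.affineOpens => (W : X.Opens)) hS.toFinset.toList :=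
    ⟨_, rfl⟩
  have hmem : ∀ W ∈ S, (W : X.Opens) ∈ l := by
    intro W hW
    rw [hldef]
    exact List.mem_map.mpr ⟨W, Finset.mem_toList.mpr (hS.mem_toFinset.mpr hW), rfl⟩
  have hl : ∀ U ∈ l, IsAffineOpen U ∧ U ≤ f ⁻¹ᵁ V := by
    intro U hU
    rw [hldef] at hU
    obtain ⟨W, hW, rfl⟩ := List.mem_map.mp hU
    have hWS : W ∈ S := hS.mem_toFinset.mp (Finset.mem_toList.mp hW)
    exact ⟨W.2, hle W hWS⟩
  obtain ⟨M, i, hi, hM, ha, hb⟩ := exists_sum_vanSub' f hExt l hl
  haveI := hi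
  obtain ⟨m, hm⟩ := exists_preimage_of_mono_of_local i (ofFn (1 : Γ(X, f ⁻¹ᵁ V))) (by
    intro x hx
    have hx' : x ∈ (⨆ i ∈ S, (i : X.Opens) : X.Opens) := hcov ▸ hx
    simp only [Opens.mem_iSup] at hx'
    obtain ⟨W, hWS, hxW⟩ := hx'
    obtain ⟨t, ht⟩ := exists_one_vanSub (W : X.Opens)
    obtain ⟨g', hg'⟩ := ha W (hmem W hWS) W t
    refine ⟨W, hle W hWS, hxW, g', ?_⟩
    rw [hg']
    show toFn (ap (vanSub (W : X.Opens)).ι W t) = rX (hle W hWS) 1
    rw [ht, map_one])
  have h1 : (1 : Γ(X, f ⁻¹ᵁ V)) ∈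
      Ideal.span {b : Γ(X, f ⁻¹ᵁ V) | IsAffineOpen (X.basicOpen b)} := by
    have := hb m
    rw [hm] at this
    exact this
  exact isAffineOpen_of_isAffineOpen_basicOpen (f ⁻¹ᵁ V) _
    ((Ideal.eq_top_iff_one _).mpr h1) (fun b hb => hb)

end TensH8
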