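import Mathlib
import Groth.Agent.Lib.SerreExact_helper9

/-!
# Existence of Serre functors via representability (helper9)
-/

open CategoryTheory

namespace Groth.Agent.Lib.SerreRep

universe w v u

section linalg

variable {k : Type w} [Field k] {M N : Type*} [AddCommGroup M] [Module k M]
  [AddCommGroup N] [Module k N] [Module.Finite k N]

/-- transpose of a perfect pairing -/
noncomputable def flipE (c : M ≃ₗ[k] Module.Dual k N) : N ≃ₗ[k] Module.Dual k M :=
  (Module.evalEquiv k N).trans c.dualMap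

lemma flipE_apply (c : M ≃ₗ[k] Module.Dual k N) (n : N) (m : M) : flipE c n m = c m n := by
  simp [flipE]

end linalg

variable {k : Type w} [Field k]
  {T : Type u} [Category.{v} T] [Preadditive T] [Linear k T]
  [∀ X Y : T, Module.Finite k (X ⟶ Y)]

omit [∀ X Y : T, Module.Finite k (X ⟶ Y)] in
/-- post-composition with an isomorphism, as a linear equivalence -/
noncomputable def postE (Y : T) {A B : T} (i : A ≅ B) : (Y ⟶ A) ≃ₗ[k] (Y ⟶ B) :=
  LinearEquiv.ofLinearMap (Linear.rightComp k Y i.hom) (Linear.rightComp k Y i.inv)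
    (by ext f; simp) (by ext f; simp)

theorem forward (S : T ≌ T)
    (c : ∀ X Y : T, (X ⟶ Y) ≃ₗ[k] Module.Dual k (Y ⟶ S.functor.obj X))
    (hc₁ : ∀ (X Y Y' : T) (f : X ⟶ Y) (g : Y ⟶ Y'),
      c X Y' (f ≫ g) = (c X Y f) ∘ₗ Linear.leftComp k (S.functor.obj X) g) :
    (∀ X : T, ∃ (SX : T) (e : ∀ Y : T, (Y ⟶ SX) ≃ₗ[k] Module.Dual k (X ⟶ Y)),
        ∀ (Y Y' : T) (g : Y' ⟶ Y) (f : Y ⟶ SX),
          e Y' (g ≫ f) = (e Y f) ∘ₗ Linear.rightComp k X g) ∧
      (∀ X : T, ∃ (RX : T) (e : ∀ Y : T, (RX ⟶ Y) ≃ₗ[k] Module.Dual k (Y ⟶ X)),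
        ∀ (Y Y' : T) (g : Y ⟶ Y') (f : RX ⟶ Y),
          e Y' (f ≫ g) = (e Y f) ∘ₗ Linear.leftComp k X g) := by
  constructor
  · intro X
    refine ⟨S.functor.obj X, fun Y => flipE (c X Y), ?_⟩
    intro Y Y' g f
    apply LinearMap.ext
    intro h
    rw [flipE_apply, LinearMap.comp_apply, flipE_apply]
    exact (SerreExact.p1 S.functor c hc₁ h g f).symm
  · intro X
    refine ⟨S.inverse.obj X, fun Y => (c (S.inverse.obj X) Y).trans
      (LinearEquiv.dualMap (postE (k := k) Y (S.counitIso.app X).symm)), ?_⟩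
    intro Y Y' g f
    apply LinearMap.ext
    intro h
    simp only [LinearEquiv.trans_apply, LinearEquiv.dualMap_apply, LinearMap.comp_apply]
    show c _ Y' (f ≫ g) (h ≫ (S.counitIso.app X).inv) =
      c _ Y f ((g ≫ h) ≫ (S.counitIso.app X).inv)
    rw [SerreExact.p1 S.functor c hc₁, Category.assoc]

section backward

variable (So : T → T) (e : ∀ X Y : T, (Y ⟶ So X) ≃ₗ[k] Module.Dual k (X ⟶ Y))
  (he : ∀ (X Y Y' : T) (g : Y' ⟶ Y) (f : Y ⟶ So X),
    e X Y' (g ≫ f) = (e X Y f) ∘ₗ Linear.rightComp k X g)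

include he in
lemma heP (X Y Y' : T) (g : Y' ⟶ Y) (f : Y ⟶ So X) (h : X ⟶ Y') :
    e X Y' (g ≫ f) h = e X Y f (h ≫ g) := by
  rw [he]
  rfl

/-- the transposed pairing -/
noncomputable def cE (X Y : T) : (X ⟶ Y) ≃ₗ[k] Module.Dual k (Y ⟶ So X) := flipE (e X Y)

lemma cE_apply (X Y : T) (f : X ⟶ Y) (g : Y ⟶ So X) : cE So e X Y f g = e X Y g f :=
  flipE_apply _ _ _

/-- the action on morphisms -/
noncomputable def Smap {X X' : T} (a : X ⟶ X') : So X ⟶ So X' :=
  (e X' (So X)).symm (cE So e X X' a)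

lemma Sspec {X X' : T} (a : X ⟶ X') (h : X' ⟶ So X) :
    e X' (So X) (Smap So e a) h = e X X' h a := by
  rw [Smap, LinearEquiv.apply_symm_apply, cE_apply]

include he in
lemma key1 (X Y : T) (g : Y ⟶ So X) (h : X ⟶ Y) :
    e X Y g h = e X (So X) (𝟙 _) (h ≫ g) := by
  rw [← heP So e he, Category.comp_id]

include he in
lemma star {X X' Y : T} (a : X ⟶ X') (h : X' ⟶ Y) (g : Y ⟶ So X) :
    e X' Y (g ≫ Smap So e a) h = e X Y g (a ≫ h) := by
  rw [heP So e he, Sspec, key1 So e he X Y g (a ≫ h), key1 So e he X X' (h ≫ g) a,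
    Category.assoc]

include he in
lemma Smap_id (X : T) : Smap So e (𝟙 X) = 𝟙 _ := by
  apply (e X (So X)).injective
  apply LinearMap.ext
  intro h
  rw [Sspec, key1 So e he X X h (𝟙 X), Category.id_comp]

include he in
lemma Smap_comp {X X' X'' : T} (a : X ⟶ X') (b : X' ⟶ X'') :
    Smap So e (a ≫ b) = Smap So e a ≫ Smap So e b := by
  apply (e X'' (So X)).injective
  apply LinearMap.ext
  intro h
  rw [Sspec, star So e he, Sspec, key1 So e he X X'' h (a ≫ b),
    key1 So e he X X' (b ≫ h) a, Category.assoc]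

/-- the Serre functor -/
noncomputable def SF : T ⥤ T where
  obj := So
  map a := Smap So e a
  map_id X := Smap_id So e he X
  map_comp a b := Smap_comp So e he a b

lemma SF_additive : (SF So e he).Additive where
  map_add {X X' a b} := by
    show Smap So e (a + b) = Smap So e a + Smap So e b
    simp [Smap]

lemma SF_linear : letI := SF_additive So e he; (SF So e he).Linear k := by
  letI := SF_additive So e he
  exact
  { map_smul := fun {X X'} a r => by
      show Smap So e (r • a) = r • Smap So e a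
      simp [Smap] }

include he in
lemma hc1E (X Y Y' : T) (f : X ⟶ Y) (g : Y ⟶ Y') :
    cE So e X Y' (f ≫ g) = (cE So e X Y f) ∘ₗ Linear.leftComp k (So X) g := by
  apply LinearMap.ext
  intro h
  rw [LinearMap.comp_apply, cE_apply, cE_apply]
  exact (heP So e he X Y' Y g h f).symm

include he in
lemma hc2E (X' X Y : T) (a : X' ⟶ X) (f : X ⟶ Y) :
    cE So e X' Y (a ≫ f) = (cE So e X Y f) ∘ₗ Linear.rightComp k Y (Smap So e a) := by
  apply LinearMap.ext
  intro g
  rw [LinearMap.comp_apply, cE_apply, cE_apply]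
  exact (star So e he a f g).symm

lemma Smap_bijective (X X' : T) : Function.Bijective (fun a : X ⟶ X' => Smap So e a) :=
  ((cE So e X X').trans (e X' (So X)).symm).bijective

variable (Ro : T → T) (e' : ∀ X Y : T, (Ro X ⟶ Y) ≃ₗ[k] Module.Dual k (Y ⟶ X))
  (he' : ∀ (X Y Y' : T) (g : Y ⟶ Y') (f : Ro X ⟶ Y),
    e' X Y' (f ≫ g) = (e' X Y f) ∘ₗ Linear.leftComp k X g)

include he' in
lemma he'P (X Y Y' : T) (g : Y ⟶ Y') (f : Ro X ⟶ Y) (h : Y' ⟶ X) :
    e' X Y' (f ≫ g) h = e' X Y f (g ≫ h) := by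
  rw [he']
  rfl

/-- the comparison map `X ⟶ S (R X)` -/
noncomputable def alpha (X : T) : X ⟶ So (Ro X) :=
  (e (Ro X) X).symm ((e' X X).toLinearMap.flip (𝟙 X))

lemma alpha_spec (X : T) (f : Ro X ⟶ X) :
    e (Ro X) X (alpha So e Ro e' X) f = e' X X f (𝟙 X) := by
  rw [alpha, LinearEquiv.apply_symm_apply]
  rfl

include he he' in
lemma dagger (X Y : T) (g : Y ⟶ X) (f : Ro X ⟶ Y) :
    e (Ro X) Y (g ≫ alpha So e Ro e' X) f = e' X Y f g := by
  rw [heP So e he, alpha_spec, he'P Ro e' he', Category.comp_id]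

include he he' in
lemma isIso_alpha (X : T) : IsIso (alpha So e Ro e' X) := by
  apply isIso_of_yoneda_map_bijective
  intro Y
  constructor
  · intro g₁ g₂ hg
    have hg' : g₁ ≫ alpha So e Ro e' X = g₂ ≫ alpha So e Ro e' X := hg
    rw [← sub_eq_zero, ← Module.forall_dual_apply_eq_zero_iff k]
    intro φ
    obtain ⟨f, rfl⟩ := (e' X Y).surjective φ
    rw [map_sub, ← dagger So e he Ro e' he' X Y g₁ f, ← dagger So e he Ro e' he' X Y g₂ f,
      hg', sub_self]
  · intro z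
    refine ⟨(Module.evalEquiv k (Y ⟶ X)).symm
      ((e (Ro X) Y z) ∘ₗ (e' X Y).symm.toLinearMap), ?_⟩
    apply (e (Ro X) Y).injective
    apply LinearMap.ext
    intro f
    show e (Ro X) Y (_ ≫ alpha So e Ro e' X) f = _
    rw [dagger So e he Ro e' he', Module.apply_evalEquiv_symm_apply]
    simp

end backward

theorem backward
    (hA : ∀ X : T, ∃ (SX : T) (e : ∀ Y : T, (Y ⟶ SX) ≃ₗ[k] Module.Dual k (X ⟶ Y)),
        ∀ (Y Y' : T) (g : Y' ⟶ Y) (f : Y ⟶ SX),
          e Y' (g ≫ f) = (e Y f) ∘ₗ Linear.rightComp k X g)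
    (hB : ∀ X : T, ∃ (RX : T) (e : ∀ Y : T, (RX ⟶ Y) ≃ₗ[k] Module.Dual k (Y ⟶ X)),
        ∀ (Y Y' : T) (g : Y ⟶ Y') (f : RX ⟶ Y),
          e Y' (f ≫ g) = (e Y f) ∘ₗ Linear.leftComp k X g) :
    ∃ (S : T ≌ T) (_ : S.functor.Additive) (_ : S.functor.Linear k)
        (c : ∀ X Y : T, (X ⟶ Y) ≃ₗ[k] Module.Dual k (Y ⟶ S.functor.obj X)),
        (∀ (X Y Y' : T) (f : X ⟶ Y) (g : Y ⟶ Y'),
          c X Y' (f ≫ g) = (c X Y f) ∘ₗ Linear.leftComp k (S.functor.obj X) g) ∧
        (∀ (X' X Y : T) (a : X' ⟶ X) (f : X ⟶ Y),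
          c X' Y (a ≫ f) = (c X Y f) ∘ₗ Linear.rightComp k Y (S.functor.map a)) := by
  choose So e he using hA
  choose Ro e' he' using hB
  haveI : (SF So e he).Full := ⟨fun {X X'} => (Smap_bijective So e X X').2⟩
  haveI : (SF So e he).Faithful := ⟨fun {X X'} => (Smap_bijective So e X X').1⟩
  haveI : (SF So e he).EssSurj := ⟨fun X => ⟨Ro X, ⟨by
    haveI := isIso_alpha So e he Ro e' he' X
    exact (asIso (alpha So e Ro e' X)).symm⟩⟩⟩
  haveI : (SF So e he).IsEquivalence := {}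
  exact ⟨(SF So e he).asEquivalence, SF_additive So e he, SF_linear So e he, cE So e,
    hc1E So e he, hc2E So e he⟩

end Groth.Agent.Lib.SerreRep
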