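import Mathlib
import Groth.Agent.Lib.SerreExact_helper9

/-!
# Uniqueness of Serre functors (helper9)
-/

open CategoryTheory

namespace Groth.Agent.Lib.SerreUnique

open Groth.Agent.Lib.SerreExact

universe w v u

variable {k : Type w} [Field k]
  {T : Type u} [Category.{v} T] [Preadditive T] [Linear k T]
  [∀ X Y : T, Module.Finite k (X ⟶ Y)]
  (S : T ⥤ T)
  (c : ∀ X Y : T, (X ⟶ Y) ≃ₗ[k] Module.Dual k (Y ⟶ S.obj X))
  (hc₁ : ∀ (X Y Y' : T) (f : X ⟶ Y) (g : Y ⟶ Y'),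
      c X Y' (f ≫ g) = (c X Y f) ∘ₗ Linear.leftComp k (S.obj X) g)
  (hc₂ : ∀ (X' X Y : T) (a : X' ⟶ X) (f : X ⟶ Y),
      c X' Y (a ≫ f) = (c X Y f) ∘ₗ Linear.rightComp k Y (S.map a))
  (S' : T ⥤ T)
  (c' : ∀ X Y : T, (X ⟶ Y) ≃ₗ[k] Module.Dual k (Y ⟶ S'.obj X))
  (hc'₁ : ∀ (X Y Y' : T) (f : X ⟶ Y) (g : Y ⟶ Y'),
      c' X Y' (f ≫ g) = (c' X Y f) ∘ₗ Linear.leftComp k (S'.obj X) g)
  (hc'₂ : ∀ (X' X Y : T) (a : X' ⟶ X) (f : X ⟶ Y),
      c' X' Y (a ≫ f) = (c' X Y f) ∘ₗ Linear.rightComp k Y (S'.map a))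

/-- the comparison map -/
noncomputable def phi (X : T) : S.obj X ⟶ S'.obj X := (n2 S' c' (lam S c X)).choose

lemma phi_spec (X : T) (f : X ⟶ S.obj X) :
    c' X (S.obj X) f (phi S c S' c' X) = c X (S.obj X) f (𝟙 _) :=
  (n2 S' c' (lam S c X)).choose_spec f

include hc₁ hc'₁ in
lemma phi_compat (X Y : T) (f : X ⟶ Y) (g : Y ⟶ S.obj X) :
    c X Y f g = c' X Y f (g ≫ phi S c S' c' X) := by
  rw [← p1 S' c' hc'₁, phi_spec, p1 S c hc₁, Category.comp_id]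

include hc₁ hc₂ hc'₁ hc'₂ in
lemma phi_naturality {X' X : T} (a : X' ⟶ X) :
    S.map a ≫ phi S c S' c' X = phi S c S' c' X' ≫ S'.map a := by
  apply n1 S' c'
  intro f
  have h1 : c' X (S.obj X') f (S.map a ≫ phi S c S' c' X) = c X (S.obj X') f (S.map a) :=
    (phi_compat S c hc₁ S' c' hc'₁ X (S.obj X') f (S.map a)).symm
  have h2 : c' X (S.obj X') f (phi S c S' c' X' ≫ S'.map a) =
      c X (S.obj X') f (S.map a) := by
    rw [← p2 S' c' hc'₂, phi_spec, p2 S c hc₂, Category.id_comp]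
  rw [h1, h2]

include hc₁ hc'₁ in
lemma phi_comp (X : T) : phi S c S' c' X ≫ phi S' c' S c X = 𝟙 _ := by
  apply n1 S c
  intro f
  rw [← phi_compat S' c' hc'₁ S c hc₁ X (S.obj X) f (phi S c S' c' X), phi_spec]

include hc₁ hc₂ hc'₁ hc'₂ in
theorem main : ∃! φ : S ≅ S', ∀ (X Y : T) (f : X ⟶ Y),
    c X Y f = (c' X Y f) ∘ₗ Linear.rightComp k Y (φ.hom.app X) := by
  let φ : S ≅ S' := NatIso.ofComponents
    (fun X => ⟨phi S c S' c' X, phi S' c' S c X, phi_comp S c hc₁ S' c' hc'₁ X,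
      phi_comp S' c' hc'₁ S c hc₁ X⟩)
    (fun a => phi_naturality S c hc₁ hc₂ S' c' hc'₁ hc'₂ a)
  refine ⟨φ, ?_, ?_⟩
  · intro X Y f
    ext g
    exact phi_compat S c hc₁ S' c' hc'₁ X Y f g
  · intro φ' hφ'
    ext X
    apply n1 S' c'
    intro f
    have h1 : c X (S.obj X) f (𝟙 _) = c' X (S.obj X) f (𝟙 _ ≫ φ'.hom.app X) :=
      LinearMap.congr_fun (hφ' X (S.obj X) f) (𝟙 _)
    rw [Category.id_comp] at h1
    rw [← h1]
    exact (phi_spec S c S' c' X f).symm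

end Groth.Agent.Lib.SerreUnique
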