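import Mathlib
import Groth.Agent.Lib.DerAdjPlus_helper9

/-!
# `D(A) ⥤ D(A/P)` is a Verdier localization when `A ⥤ A/P` has a fully faithful left adjoint
(helper9)

Let `P` be a Serre class of an abelian category `A`, `L : A ⥤ Q` an exact localization functor
at `P.isoModSerre` with a left adjoint `R` such that the unit `𝟭 ⟶ R ⋙ L` is an isomorphism.
Then `L.mapDerivedCategory : D(A) ⥤ D(Q)` is a localization functor at `(DP P).trW`, where
`DP P` is the class of objects of `D(A)` with all cohomology objects in `P`.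
-/

open CategoryTheory CategoryTheory.Limits CochainComplex

namespace Groth.Agent.Lib.SerreVerdier

universe w w' v u v' u'

section General

variable {C : Type u} [Category.{v} C] [Abelian C]

lemma quasiIso_iff_acyclic_mappingCone {K L : CochainComplex C ℤ} (g : K ⟶ L) :
    QuasiIso g ↔ (mappingCone g).Acyclic := by
  have h1 : QuasiIso g ↔ HomotopyCategory.quasiIso C (ComplexShape.up ℤ)
      ((HomotopyCategory.quotient C (ComplexShape.up ℤ)).map g) :=
    (HomotopyCategory.quotient_map_mem_quasiIso_iff g).symm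
  rw [h1, HomotopyCategory.quasiIso_eq_trW_subcategoryAcyclic]
  have h2 := (HomotopyCategory.subcategoryAcyclic C).trW_iff_of_distinguished _
    (HomotopyCategory.mappingCone_triangleh_distinguished g)
  exact h2.trans (HomotopyCategory.quotient_obj_mem_subcategoryAcyclic_iff_acyclic _)

variable [HasDerivedCategory.{w} C] (P : ObjectProperty C)

/-- The objects of the derived category all of whose cohomology objects belong to `P`. -/
def DP : ObjectProperty (DerivedCategory C) :=
  fun X => ∀ n : ℤ, P ((DerivedCategory.homologyFunctor C n).obj X)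

instance [P.IsClosedUnderIsomorphisms] : (DP P).IsClosedUnderIsomorphisms where
  of_iso e h n := P.prop_of_iso ((DerivedCategory.homologyFunctor C n).mapIso e) (h n)

lemma DP_Q_obj_iff [P.IsClosedUnderIsomorphisms] (K : CochainComplex C ℤ) :
    DP P (DerivedCategory.Q.obj K) ↔ ∀ n : ℤ, P (K.homology n) := by
  refine forall_congr' (fun n => ?_)
  exact P.prop_iff_of_iso ((DerivedCategory.homologyFunctorFactors C n).app K)

lemma trW_Q_map_iff [P.IsClosedUnderIsomorphisms] {K L : CochainComplex C ℤ} (f : K ⟶ L) :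
    (DP P).trW (DerivedCategory.Q.map f) ↔ ∀ n : ℤ, P ((mappingCone f).homology n) := by
  rw [← DP_Q_obj_iff]
  exact (DP P).trW_iff_of_distinguished _
    (DerivedCategory.mappingCone_triangle_distinguished f)

lemma exists_arrow_iso_aux (X Y : HomotopyCategory C (ComplexShape.up ℤ)) (γ : X ⟶ Y) :
    ∃ (K L : CochainComplex C ℤ) (f : K ⟶ L),
      Nonempty (Arrow.mk (DerivedCategory.Q.map f) ≅ Arrow.mk (DerivedCategory.Qh.map γ)) := by
  obtain ⟨K, rfl⟩ := HomotopyCategory.quotient_obj_surjective X
  obtain ⟨L, rfl⟩ := HomotopyCategory.quotient_obj_surjective Y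
  obtain ⟨f, rfl⟩ := (HomotopyCategory.quotient C (ComplexShape.up ℤ)).map_surjective γ
  exact ⟨K, L, f, ⟨Arrow.isoMk ((DerivedCategory.quotientCompQhIso C).symm.app K)
    ((DerivedCategory.quotientCompQhIso C).symm.app L)
    ((DerivedCategory.quotientCompQhIso C).inv.naturality f).symm⟩⟩

lemma exists_arrow_iso {X Y : DerivedCategory C} (φ : X ⟶ Y) :
    ∃ (K L : CochainComplex C ℤ) (f : K ⟶ L),
      Nonempty (Arrow.mk (DerivedCategory.Q.map f) ≅ Arrow.mk φ) := by
  let g := DerivedCategory.Qh.mapArrow.objPreimage (Arrow.mk φ)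
  have e : DerivedCategory.Qh.mapArrow.obj g ≅ Arrow.mk φ :=
    DerivedCategory.Qh.mapArrow.objObjPreimageIso (Arrow.mk φ)
  obtain ⟨K, L, f, ⟨e'⟩⟩ := exists_arrow_iso_aux g.left g.right g.hom
  exact ⟨K, L, f, ⟨e' ≪≫ e⟩⟩

end General

section Main

variable {A : Type u} [Category.{v} A] [Abelian A] [HasDerivedCategory.{w} A]
  (P : ObjectProperty A) [P.IsSerreClass]
  {Q : Type u'} [Category.{v'} Q] [Abelian Q] [HasDerivedCategory.{w'} Q]
  (L : A ⥤ Q) [L.IsLocalization P.isoModSerre] [L.Additive] [PreservesFiniteLimits L]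
  [PreservesFiniteColimits L]

lemma quasiIso_map_iff {K K' : CochainComplex A ℤ} (f : K ⟶ K') :
    QuasiIso ((L.mapHomologicalComplex (ComplexShape.up ℤ)).map f) ↔
      ∀ n : ℤ, P ((mappingCone f).homology n) := by
  rw [quasiIso_iff_acyclic_mappingCone]
  refine forall_congr' (fun n => ?_)
  rw [HomologicalComplex.exactAt_iff_isZero_homology]
  let e1 : (mappingCone ((L.mapHomologicalComplex (ComplexShape.up ℤ)).map f)).homology n ≅
      ((L.mapHomologicalComplex (ComplexShape.up ℤ)).obj (mappingCone f)).homology n :=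
    (HomologicalComplex.homologyFunctor _ _ n).mapIso
      (mappingCone.mapHomologicalComplexIso f L).symm
  let e2 : ((L.mapHomologicalComplex (ComplexShape.up ℤ)).obj (mappingCone f)).homology n ≅
      L.obj ((mappingCone f).homology n) :=
    ((mappingCone f).sc n).mapHomologyIso L
  rw [(e1 ≪≫ e2).isZero_iff, ObjectProperty.SerreClassLocalization.isZero_obj_iff L P]

variable (R : Q ⥤ A) (adj : R ⊣ L) [IsIso adj.unit]

include adj in
theorem main : L.mapDerivedCategory.IsLocalization (DP P).trW := by
  haveI : R.Additive := adj.left_adjoint_additive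
  let Cu := R.mapHomologicalComplex (ComplexShape.up ℤ)
  let Cv := L.mapHomologicalComplex (ComplexShape.up ℤ)
  let adjC : Cu ⊣ Cv := DerAdjPlus.adjHC adj _
  haveI : ∀ K, IsIso (adjC.unit.app K) := fun K => by
    haveI : ∀ n, IsIso ((adjC.unit.app K).f n) := fun n => by
      change IsIso (adj.unit.app (K.X n))
      infer_instance
    exact HomologicalComplex.Hom.isIso_of_components _
  haveI : IsIso adjC.unit := NatIso.isIso_of_isIso_app _
  haveI : Cu.Full := adjC.fullyFaithfulLOfIsIsoUnit.full
  haveI : Cu.Faithful := adjC.fullyFaithfulLOfIsIsoUnit.faithful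
  let W₁ : MorphismProperty (CochainComplex Q ℤ) := MorphismProperty.isomorphisms _
  haveI : Cv.IsLocalization (W₁.inverseImage Cv) := adjC.isLocalization'
  let W₃ : MorphismProperty (CochainComplex A ℤ) :=
    (HomologicalComplex.quasiIso Q (ComplexShape.up ℤ)).inverseImage Cv
  haveI h3 : (Cv ⋙ DerivedCategory.Q).IsLocalization W₃ := by
    refine Functor.IsLocalization.comp Cv DerivedCategory.Q (W₁.inverseImage Cv)
      (HomologicalComplex.quasiIso Q (ComplexShape.up ℤ)) W₃ ?_ ?_ ?_
    · intro K K' f hf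
      exact Localization.inverts DerivedCategory.Q (HomologicalComplex.quasiIso Q _) _ hf
    · intro K K' f hf
      haveI : IsIso (Cv.map f) := hf
      show QuasiIso (Cv.map f)
      infer_instance
    · intro M M' g hg
      have e : Arrow.mk g ≅ Arrow.mk (Cv.map (Cu.map g)) :=
        Arrow.isoMk (asIso (adjC.unit.app M)) (asIso (adjC.unit.app M'))
          (adjC.unit.naturality g).symm
      refine ⟨Cu.obj M, Cu.obj M', Cu.map g, ?_, ⟨e.symm⟩⟩
      exact ((HomologicalComplex.quasiIso Q (ComplexShape.up ℤ)).arrow_mk_iso_iff e).1 hg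
  haveI h4 : (DerivedCategory.Q ⋙ L.mapDerivedCategory).IsLocalization W₃ :=
    Functor.IsLocalization.of_iso W₃ L.mapDerivedCategoryFactors.symm
  refine Functor.IsLocalization.of_comp DerivedCategory.Q L.mapDerivedCategory
    (HomologicalComplex.quasiIso A (ComplexShape.up ℤ)) (DP P).trW W₃ ?_ ?_
  · intro K K' f hf
    haveI : QuasiIso f := hf
    show QuasiIso (Cv.map f)
    infer_instance
  · ext X Y φ
    constructor
    · intro h
      obtain ⟨K, K', f, ⟨e⟩⟩ := exists_arrow_iso φ
      refine ⟨K, K', f, ?_, ⟨e⟩⟩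
      have h' : (DP P).trW (DerivedCategory.Q.map f) :=
        ((DP P).trW.arrow_mk_iso_iff e).2 h
      exact (quasiIso_map_iff P L f).2 ((trW_Q_map_iff P f).1 h')
    · rintro ⟨K, K', f, hf, ⟨e⟩⟩
      exact ((DP P).trW.arrow_mk_iso_iff e).1
        ((trW_Q_map_iff P f).2 ((quasiIso_map_iff P L f).1 hf))

end Main

end Groth.Agent.Lib.SerreVerdier
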