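import Groth.Prelude.Def_W4stktopologysheavesBas

/-!
# Sheaves on a basis: cofinal systems of coverings (lead)
-/

universe u

namespace Groth.Agent.Lib.ShB_lead

open TopologicalSpace ShB

variable {X : Type u} [TopologicalSpace X] {B : Set (Opens X)}

/-- Membership form of the basis property. -/
theorem exists_mem_le (hB : Opens.IsBasis B) {U : Opens X} {x : X} (hx : x ∈ U) :
    ∃ W : B, x ∈ (W : Opens X) ∧ (W : Opens X) ≤ U := by
  obtain ⟨W, hWB, hxW, hWU⟩ := Opens.isBasis_iff_nbhd.1 hB hx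
  exact ⟨⟨W, hWB⟩, hxW, hWU⟩

section cofinal

variable (hB : Opens.IsBasis B) (F : Pre B)
  (C : ∀ U : B, Set (Cover B)) (hCU : ∀ U, ∀ c ∈ C U, c.U = U)
  (hC : ∀ (U : B) (ι : Type u) (V : ι → B), (∀ i, (V i : Opens X) ≤ (U : Opens X)) →
    (U : Opens X) ≤ ⨆ i, (V i : Opens X) →
    ∃ c ∈ C U, ∀ i' : c.ι, ∃ i, (c.V i' : Opens X) ≤ (V i : Opens X))
  (H : ∀ U, ∀ c ∈ C U, GluesUniquely F c)

include hCU hC H in
/-- Separatedness from the cofinal system. -/
theorem sep (U : B) {ι : Type u} (V : ι → B) (hV : ∀ i, (V i : Opens X) ≤ (U : Opens X))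
    (hcov : (U : Opens X) ≤ ⨆ i, (V i : Opens X)) (s t : F.obj U)
    (hst : ∀ i, F.res (hV i) s = F.res (hV i) t) : s = t := by
  obtain ⟨c, hc, href⟩ := hC U ι V hV hcov
  have hcU := hCU U c hc
  subst hcU
  have G := H c.U c hc
  choose r hr using href
  have compat : ∀ i j k, F.res (c.W_le_left i j k) (F.res (c.V_le i) s) =
      F.res (c.W_le_right i j k) (F.res (c.V_le j) s) := by
    intro i j k
    rw [F.res_comp, F.res_comp]
  obtain ⟨t0, -, huniq⟩ := G (fun i => F.res (c.V_le i) s) compat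
  have hs : s = t0 := huniq s fun i => rfl
  have ht : t = t0 := by
    apply huniq t
    intro i
    have h1 : F.res (c.V_le i) t = F.res (hr i) (F.res (hV (r i)) t) := by
      rw [F.res_comp]
    have h2 : F.res (c.V_le i) s = F.res (hr i) (F.res (hV (r i)) s) := by
      rw [F.res_comp]
    rw [h1, h2, hst]
  rw [hs, ht]

include hB hCU hC H in
/-- Gluing for an arbitrary covering datum, in unbundled form. -/
theorem glue (U : B) {ι : Type u} (V : ι → B) (hV : ∀ i, (V i : Opens X) ≤ (U : Opens X))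
    (hcov : (U : Opens X) ≤ ⨆ i, (V i : Opens X)) (κ : ι → ι → Type u)
    (W : ∀ i j, κ i j → B) (hWl : ∀ i j k, (W i j k : Opens X) ≤ (V i : Opens X))
    (hWr : ∀ i j k, (W i j k : Opens X) ≤ (V j : Opens X))
    (hWcov : ∀ i j, (V i : Opens X) ⊓ (V j : Opens X) ≤ ⨆ k, (W i j k : Opens X))
    (s : ∀ i, F.obj (V i))
    (hs : ∀ i j k, F.res (hWl i j k) (s i) = F.res (hWr i j k) (s j)) :
    ∃! t : F.obj U, ∀ i, F.res (hV i) t = s i := by
  -- agreement of `s a` and `s b` on any member inside `V a ⊓ V b`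
  have agree : ∀ (a b : ι) (W0 : B) (ha : (W0 : Opens X) ≤ (V a : Opens X))
      (hb : (W0 : Opens X) ≤ (V b : Opens X)), F.res ha (s a) = F.res hb (s b) := by
    intro a b W0 ha hb
    let ι₂ := {p : κ a b × B // (p.2 : Opens X) ≤ (W0 : Opens X) ∧
      (p.2 : Opens X) ≤ (W a b p.1 : Opens X)}
    refine sep F C hCU hC H W0 (ι := ι₂) (fun p => p.1.2) (fun p => p.2.1) ?_ _ _ ?_
    · intro x hx
      have hxab : x ∈ (V a : Opens X) ⊓ (V b : Opens X) := ⟨ha hx, hb hx⟩
      obtain ⟨k, hk⟩ := Opens.mem_iSup.1 (hWcov a b hxab)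
      have hx2 : x ∈ (W0 : Opens X) ⊓ (W a b k : Opens X) := ⟨hx, hk⟩
      obtain ⟨W'', hxW'', hW''⟩ := exists_mem_le hB hx2
      exact Opens.mem_iSup.2 ⟨⟨(k, W''), hW''.trans inf_le_left, hW''.trans inf_le_right⟩, hxW''⟩
    · rintro ⟨⟨k, W''⟩, h1, h2⟩
      change F.res h1 (F.res ha (s a)) = F.res h1 (F.res hb (s b))
      have e1 : F.res h1 (F.res ha (s a)) = F.res h2 (F.res (hWl a b k) (s a)) := by
        rw [F.res_comp, F.res_comp]
      have e2 : F.res h1 (F.res hb (s b)) = F.res h2 (F.res (hWr a b k) (s b)) := by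
        rw [F.res_comp, F.res_comp]
      rw [e1, e2, hs]
  obtain ⟨c, hc, href⟩ := hC U ι V hV hcov
  have hcU := hCU U c hc
  subst hcU
  have G := H c.U c hc
  choose r hr using href
  have compat : ∀ i j k, F.res (c.W_le_left i j k) (F.res (hr i) (s (r i))) =
      F.res (c.W_le_right i j k) (F.res (hr j) (s (r j))) := by
    intro i j k
    rw [F.res_comp, F.res_comp]
    exact agree (r i) (r j) (c.W i j k) _ _
  obtain ⟨t, ht, -⟩ := G (fun i => F.res (hr i) (s (r i))) compat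
  have ht' : ∀ i, F.res (hV i) t = s i := by
    intro i
    let ι₃ := {p : c.ι × B // (p.2 : Opens X) ≤ (V i : Opens X) ∧
      (p.2 : Opens X) ≤ (c.V p.1 : Opens X)}
    refine sep F C hCU hC H (V i) (ι := ι₃) (fun p => p.1.2) (fun p => p.2.1) ?_ _ _ ?_
    · intro x hx
      obtain ⟨i', hi'⟩ := Opens.mem_iSup.1 (c.V_cover (hV i hx))
      have hx2 : x ∈ (V i : Opens X) ⊓ (c.V i' : Opens X) := ⟨hx, hi'⟩
      obtain ⟨W'', hxW'', hW''⟩ := exists_mem_le hB hx2
      exact Opens.mem_iSup.2 ⟨⟨(i', W''), hW''.trans inf_le_left, hW''.trans inf_le_right⟩, hxW''⟩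
    · rintro ⟨⟨i', W''⟩, h1, h2⟩
      change F.res h1 (F.res (hV i) t) = F.res h1 (s i)
      have e1 : F.res h1 (F.res (hV i) t) = F.res h2 (F.res (c.V_le i') t) := by
        rw [F.res_comp, F.res_comp]
      rw [e1, ht i', F.res_comp]
      exact agree (r i') i W'' _ _
  refine ⟨t, ht', fun t' ht'' => ?_⟩
  exact sep F C hCU hC H c.U V hV hcov t' t fun i => by rw [ht'' i, ht' i]

include hB hCU hC in
/-- Stacks 009K: the sheaf condition can be checked on a cofinal system of coverings. -/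
theorem isSheaf_iff_cofinal : IsSheaf F ↔ ∀ U, ∀ c ∈ C U, GluesUniquely F c := by
  refine ⟨fun h U c _ => h c, fun H c' s hs => ?_⟩
  exact glue hB F C hCU hC H c'.U c'.V c'.V_le c'.V_cover c'.κ c'.W c'.W_le_left c'.W_le_right
    c'.W_cover s hs

end cofinal

section sheaf

variable (hB : Opens.IsBasis B) (F : Pre B) (hF : IsSheaf F)

/-- The canonical covering datum attached to a family of members covering `U`. -/
def coverOf (hB : Opens.IsBasis B) (U : B) {ι : Type u} (V : ι → B)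
    (hV : ∀ i, (V i : Opens X) ≤ (U : Opens X))
    (hcov : (U : Opens X) ≤ ⨆ i, (V i : Opens X)) : Cover B where
  U := U
  ι := ι
  V := V
  V_le := hV
  V_cover := hcov
  κ := fun i j => {W : B // (W : Opens X) ≤ (V i : Opens X) ⊓ (V j : Opens X)}
  W := fun _ _ W => W.1
  W_le_left := fun _ _ W => W.2.trans inf_le_left
  W_le_right := fun _ _ W => W.2.trans inf_le_right
  W_cover := fun i j x hx => by
    obtain ⟨W, hxW, hW⟩ := exists_mem_le hB hx
    exact Opens.mem_iSup.2 ⟨⟨W, hW⟩, hxW⟩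

include hB hF in
theorem sep_of_isSheaf (U : B) {ι : Type u} (V : ι → B)
    (hV : ∀ i, (V i : Opens X) ≤ (U : Opens X))
    (hcov : (U : Opens X) ≤ ⨆ i, (V i : Opens X)) (s t : F.obj U)
    (hst : ∀ i, F.res (hV i) s = F.res (hV i) t) : s = t :=
  sep F (fun U => {c | c.U = U}) (fun _ _ hc => hc)
    (fun U ι V hV hcov => ⟨coverOf hB U V hV hcov, rfl, fun i => ⟨i, le_rfl⟩⟩)
    (fun _ c _ => hF c) U V hV hcov s t hst

include hB hF in
theorem glue_of_isSheaf (U : B) {ι : Type u} (V : ι → B)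
    (hV : ∀ i, (V i : Opens X) ≤ (U : Opens X))
    (hcov : (U : Opens X) ≤ ⨆ i, (V i : Opens X)) (s : ∀ i, F.obj (V i))
    (hs : ∀ (i j : ι) (W : B) (h1 : (W : Opens X) ≤ (V i : Opens X))
      (h2 : (W : Opens X) ≤ (V j : Opens X)), F.res h1 (s i) = F.res h2 (s j)) :
    ∃! t : F.obj U, ∀ i, F.res (hV i) t = s i :=
  hF (coverOf hB U V hV hcov) s fun i j W => hs i j W.1 _ _

theorem germ_res {U V : B} (h : (V : Opens X) ≤ (U : Opens X)) (x : X)
    (hx : x ∈ (V : Opens X)) (s : F.obj U) :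
    germ F x hx (F.res h s) = germ F x (h hx) s := by
  apply Quot.sound
  exact ⟨V, hx, le_rfl, h, by rw [F.res_id]⟩

include hB in
theorem exists_res_eq_of_germ_eq {U U' : B} (x : X) (hx : x ∈ (U : Opens X))
    (hx' : x ∈ (U' : Opens X)) (s : F.obj U) (t : F.obj U')
    (h : germ F x hx s = germ F x hx' t) :
    ∃ (W : B) (_ : x ∈ (W : Opens X)) (ha : (W : Opens X) ≤ (U : Opens X))
      (hb : (W : Opens X) ≤ (U' : Opens X)), F.res ha s = F.res hb t := by
  have h' := Quot.eqvGen_exact h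
  have key : ∀ a b : Σ U : {U : B // x ∈ (U : Opens X)}, F.obj U.1,
      Relation.EqvGen (StalkRel F x) a b → StalkRel F x a b := by
    intro a b hab
    induction hab with
    | rel a b h => exact h
    | refl a => exact ⟨a.1.1, a.1.2, le_rfl, le_rfl, rfl⟩
    | symm a b _ ih =>
      obtain ⟨W, hxW, ha, hb, heq⟩ := ih
      exact ⟨W, hxW, hb, ha, heq.symm⟩
    | trans a b c _ _ ih1 ih2 =>
      obtain ⟨W1, hxW1, ha1, hb1, heq1⟩ := ih1
      obtain ⟨W2, hxW2, hb2, hc2, heq2⟩ := ih2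
      have hx12 : x ∈ (W1 : Opens X) ⊓ (W2 : Opens X) := ⟨hxW1, hxW2⟩
      obtain ⟨W3, hxW3, hW3⟩ := exists_mem_le hB hx12
      have h31 : (W3 : Opens X) ≤ (W1 : Opens X) := hW3.trans inf_le_left
      have h32 : (W3 : Opens X) ≤ (W2 : Opens X) := hW3.trans inf_le_right
      refine ⟨W3, hxW3, h31.trans ha1, h32.trans hc2, ?_⟩
      have e1 : F.res (h31.trans ha1) a.2 = F.res h31 (F.res ha1 a.2) := by rw [F.res_comp]
      have e2 : F.res (h32.trans hc2) c.2 = F.res h32 (F.res hc2 c.2) := by rw [F.res_comp]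
      rw [e1, e2, heq1, ← heq2, F.res_comp, F.res_comp]
  exact key _ _ h'

include hB hF in
/-- A section of a sheaf on a basis is determined by its germs. -/
theorem germ_injective (U : B) (s t : F.obj U)
    (h : ∀ (x : X) (hx : x ∈ (U : Opens X)), germ F x hx s = germ F x hx t) : s = t := by
  have key : ∀ x : (U : Opens X), ∃ (W : B) (_ : x.1 ∈ (W : Opens X))
      (ha : (W : Opens X) ≤ (U : Opens X)), F.res ha s = F.res ha t := by
    intro x
    obtain ⟨W, hxW, ha, hb, heq⟩ := exists_res_eq_of_germ_eq hB F x.1 x.2 x.2 s t (h x.1 x.2)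
    exact ⟨W, hxW, ha, heq⟩
  choose W hxW hW heq using key
  refine sep_of_isSheaf hB F hF U W hW ?_ s t heq
  intro x hx
  exact Opens.mem_iSup.2 ⟨⟨x, hx⟩, hxW ⟨x, hx⟩⟩

end sheaf

end Groth.Agent.Lib.ShB_lead
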