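import Mathlib
import Groth.Prelude.Def_W4stktopologysheavesBas
import Groth.Agent.Lib.ShB_lead

/-!
# Extension of a sheaf on a basis to a sheaf on the space (lead)
-/

universe u

namespace Groth.Agent.Lib.ShBExt_lead

open TopologicalSpace ShB CategoryTheory Opposite Groth.Agent.Lib.ShB_lead

variable {X : Type u} [TopologicalSpace X] {B : Set (Opens X)}

/-! ## The extension presheaf -/

/-- compatible families of sections over the members of `B` inside `U` -/
def ExtObj (F : Pre B) (U : Opens X) : Type u :=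
  { s : ∀ V : {V : B // (V : Opens X) ≤ U}, F.obj V.1 //
    ∀ (V V' : {V : B // (V : Opens X) ≤ U}) (h : (V'.1 : Opens X) ≤ (V.1 : Opens X)),
      F.res h (s V) = s V' }

def extRes (F : Pre B) {U U' : Opens X} (h : U' ≤ U) (s : ExtObj F U) : ExtObj F U' :=
  ⟨fun V => s.1 ⟨V.1, V.2.trans h⟩,
    fun V V' hVV' => s.2 ⟨V.1, V.2.trans h⟩ ⟨V'.1, V'.2.trans h⟩ hVV'⟩

theorem extObj_ext {F : Pre B} {U : Opens X} {s t : ExtObj F U}
    (h : ∀ (V : B) (hV : (V : Opens X) ≤ U), s.1 ⟨V, hV⟩ = t.1 ⟨V, hV⟩) : s = t := by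
  apply Subtype.ext
  funext V
  exact h V.1 V.2

def extPresheaf (F : Pre B) : (Opens X)ᵒᵖ ⥤ Type u where
  obj U := ExtObj F U.unop
  map {U U'} f := ↾(extRes F f.unop.le)
  map_id U := by
    apply ConcreteCategory.hom_ext
    intro s
    rfl
  map_comp f g := by
    apply ConcreteCategory.hom_ext
    intro s
    rfl

theorem ext_glue (hB : Opens.IsBasis B) (F : Pre B) (hF : IsSheaf F) {ι : Type u}
    (U : ι → Opens X) (sf : ∀ i, ExtObj F (U i))
    (hc : ∀ i j, extRes F (inf_le_left : U i ⊓ U j ≤ U i) (sf i) =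
      extRes F (inf_le_right : U i ⊓ U j ≤ U j) (sf j)) :
    ∃! s : ExtObj F (iSup U), ∀ i, extRes F (le_iSup U i) s = sf i := by
  have key1 : ∀ (i j : ι) (W : B) (h1 : (W : Opens X) ≤ U i) (h2 : (W : Opens X) ≤ U j),
      (sf i).1 ⟨W, h1⟩ = (sf j).1 ⟨W, h2⟩ := by
    intro i j W h1 h2
    have := congrArg (fun s : ExtObj F (U i ⊓ U j) => s.1 ⟨W, le_inf h1 h2⟩) (hc i j)
    exact this
  have H : ∀ V : {V : B // (V : Opens X) ≤ iSup U}, ∃! t : F.obj V.1,
      ∀ (i : ι) (W : B) (h : (W : Opens X) ≤ (V.1 : Opens X) ⊓ U i),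
        F.res (h.trans inf_le_left) t = (sf i).1 ⟨W, h.trans inf_le_right⟩ := by
    intro V
    let I : Type u := Σ i : ι, {W : B // (W : Opens X) ≤ (V.1 : Opens X) ⊓ U i}
    let Wf : I → B := fun p => p.2.1
    have hV : ∀ p : I, (Wf p : Opens X) ≤ (V.1 : Opens X) := fun p => p.2.2.trans inf_le_left
    have hcov : (V.1 : Opens X) ≤ ⨆ p : I, (Wf p : Opens X) := by
      intro x hx
      have hx' : x ∈ iSup U := V.2 hx
      obtain ⟨i, hi⟩ := Opens.mem_iSup.mp hx'
      obtain ⟨W, hxW, hW⟩ := exists_mem_le hB (show x ∈ (V.1 : Opens X) ⊓ U i from ⟨hx, hi⟩)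
      exact Opens.mem_iSup.mpr ⟨⟨i, W, hW⟩, hxW⟩
    let σ : ∀ p : I, F.obj (Wf p) := fun p => (sf p.1).1 ⟨p.2.1, p.2.2.trans inf_le_right⟩
    have hcomp : ∀ (p q : I) (W' : B) (h1 : (W' : Opens X) ≤ (Wf p : Opens X))
        (h2 : (W' : Opens X) ≤ (Wf q : Opens X)), F.res h1 (σ p) = F.res h2 (σ q) := by
      intro p q W' h1 h2
      have e1 := (sf p.1).2 ⟨p.2.1, p.2.2.trans inf_le_right⟩
        ⟨W', h1.trans (p.2.2.trans inf_le_right)⟩ h1
      have e2 := (sf q.1).2 ⟨q.2.1, q.2.2.trans inf_le_right⟩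
        ⟨W', h2.trans (q.2.2.trans inf_le_right)⟩ h2
      exact e1.trans ((key1 p.1 q.1 W' _ _).trans e2.symm)
    obtain ⟨t, ht, hu⟩ := glue_of_isSheaf hB F hF V.1 Wf hV hcov σ hcomp
    refine ⟨t, fun i W h => ht ⟨i, W, h⟩, fun t' ht' => hu t' fun p => ht' p.1 p.2.1 p.2.2⟩
  choose t ht using fun V => (H V).exists
  have hu : ∀ (V : {V : B // (V : Opens X) ≤ iSup U}) (t' : F.obj V.1),
      (∀ (i : ι) (W : B) (h : (W : Opens X) ≤ (V.1 : Opens X) ⊓ U i),
        F.res (h.trans inf_le_left) t' = (sf i).1 ⟨W, h.trans inf_le_right⟩) → t' = t V :=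
    fun V t' h' => (H V).unique h' (ht V)
  have hcompat : ∀ (V V' : {V : B // (V : Opens X) ≤ iSup U})
      (h : (V'.1 : Opens X) ≤ (V.1 : Opens X)), F.res h (t V) = t V' := by
    intro V V' h
    apply hu V'
    intro i W hW
    rw [F.res_comp]
    exact ht V i W (hW.trans (inf_le_inf_right _ h))
  refine ⟨⟨t, hcompat⟩, ?_, ?_⟩
  · intro i
    apply extObj_ext
    intro V hV
    show t ⟨V, hV.trans (le_iSup U i)⟩ = (sf i).1 ⟨V, hV⟩
    symm
    refine hu ⟨V, hV.trans (le_iSup U i)⟩ ((sf i).1 ⟨V, hV⟩) ?_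
    intro j W hW
    have e1 := (sf i).2 ⟨V, hV⟩ ⟨W, (hW.trans inf_le_left).trans hV⟩ (hW.trans inf_le_left)
    exact e1.trans (key1 i j W _ _)
  · intro s' hs'
    apply extObj_ext
    intro V hV
    show s'.1 ⟨V, hV⟩ = t ⟨V, hV⟩
    refine hu ⟨V, hV⟩ (s'.1 ⟨V, hV⟩) ?_
    intro i W hW
    have e1 := s'.2 ⟨V, hV⟩ ⟨W, (hW.trans inf_le_left).trans hV⟩ (hW.trans inf_le_left)
    have e2 := congrArg (fun s : ExtObj F (U i) => s.1 ⟨W, hW.trans inf_le_right⟩) (hs' i)
    exact e1.trans e2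

theorem extPresheaf_isSheaf (hB : Opens.IsBasis B) (F : Pre B) (hF : IsSheaf F) :
    TopCat.Presheaf.IsSheaf (X := TopCat.of X) (extPresheaf F) := by
  apply TopCat.Presheaf.isSheaf_of_isSheafUniqueGluing_types
  intro ι U sf hcompat
  exact ext_glue hB F hF U sf (fun i j => hcompat i j)

def extSheaf (hB : Opens.IsBasis B) (F : Pre B) (hF : IsSheaf F) :
    TopCat.Sheaf (Type u) (TopCat.of X) :=
  ⟨extPresheaf F, extPresheaf_isSheaf hB F hF⟩

def extIso (F : Pre B) : ShB.Iso (ShB.restrict B (extPresheaf F)) F where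
  hom :=
    { app := fun U s => (s : ExtObj F U).1 ⟨U, le_rfl⟩
      natural := fun {U V} h s => (s : ExtObj F U).2 ⟨U, le_rfl⟩ ⟨V, h⟩ h }
  inv :=
    { app := fun U t => (⟨fun V => F.res V.2 t, fun V V' h => F.res_comp V.2 h t⟩ : ExtObj F U)
      natural := fun {U V} h t => by
        apply extObj_ext
        intro W hW
        show F.res (hW.trans h) t = F.res hW (F.res h t)
        rw [F.res_comp] }
  hom_inv := fun U s => by
    apply extObj_ext
    intro V hV
    exact (s : ExtObj F U).2 ⟨U, le_rfl⟩ ⟨V, hV⟩ hV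
  inv_hom := fun U t => F.res_id U t

/-! ## Restriction to a basis is fully faithful on sheaves -/

section FF

variable (P : (Opens X)ᵒᵖ ⥤ Type u)

/-- restriction of sections along an inclusion -/
def rs {U V : Opens X} (h : V ≤ U) (a : P.obj (op U)) : P.obj (op V) := P.map (homOfLE h).op a

theorem rs_rs {U V W : Opens X} (h₁ : V ≤ U) (h₂ : W ≤ V) (a : P.obj (op U)) :
    rs P h₂ (rs P h₁ a) = rs P (h₂.trans h₁) a := by
  unfold rs
  rw [← FunctorToTypes.map_comp_apply, ← op_comp, homOfLE_comp]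

theorem rs_id {U : Opens X} (a : P.obj (op U)) : rs P le_rfl a = a := by
  unfold rs
  simp

theorem map_eq_rs {U V : Opens X} (f : op U ⟶ op V) (a : P.obj (op U)) :
    P.map f a = rs P f.unop.le a := by
  have : f = (homOfLE f.unop.le).op := Quiver.Hom.unop_inj (Subsingleton.elim _ _)
  exact congrArg (fun g => P.map g a) this

end FF

section Sheaf

variable (hB : Opens.IsBasis B) (G : TopCat.Sheaf (Type u) (TopCat.of X))

include hB in
theorem basis_cover (U : Opens X) :
    U ≤ iSup (fun V : {V : B // (V : Opens X) ≤ U} => (V.1 : Opens X)) := by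
  intro x hx
  obtain ⟨W, hxW, hW⟩ := exists_mem_le hB hx
  exact Opens.mem_iSup.mpr ⟨⟨W, hW⟩, hxW⟩

include hB in
theorem sheaf_ext {U : Opens X} (a b : G.presheaf.obj (op U))
    (h : ∀ (W : B) (hW : (W : Opens X) ≤ U), rs G.presheaf hW a = rs G.presheaf hW b) : a = b := by
  refine TopCat.Sheaf.eq_of_locally_eq' G
    (fun V : {V : B // (V : Opens X) ≤ U} => (V.1 : Opens X)) U (fun V => homOfLE V.2)
    (basis_cover hB U) a b ?_
  intro V
  exact h V.1 V.2

include hB in
theorem sheaf_glue {U : Opens X} (sf : ∀ V : {V : B // (V : Opens X) ≤ U}, G.presheaf.obj (op (V.1 : Opens X)))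
    (hc : ∀ (V V' : {V : B // (V : Opens X) ≤ U}) (W : B) (h1 : (W : Opens X) ≤ (V.1 : Opens X))
      (h2 : (W : Opens X) ≤ (V'.1 : Opens X)), rs G.presheaf h1 (sf V) = rs G.presheaf h2 (sf V')) :
    ∃! a : G.presheaf.obj (op U), ∀ V : {V : B // (V : Opens X) ≤ U}, rs G.presheaf V.2 a = sf V := by
  refine TopCat.Sheaf.existsUnique_gluing' G
    (fun V : {V : B // (V : Opens X) ≤ U} => (V.1 : Opens X)) U (fun V => homOfLE V.2)
    (basis_cover hB U) sf ?_
  intro V V'
  apply sheaf_ext hB G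
  intro W hW
  rw [map_eq_rs, map_eq_rs, rs_rs, rs_rs]
  exact hc V V' W (hW.trans inf_le_left) (hW.trans inf_le_right)

end Sheaf

section Lift

variable (hB : Opens.IsBasis B) (G G' : TopCat.Sheaf (Type u) (TopCat.of X))
  (ψ : ShB.Hom (ShB.restrict B G.presheaf) (ShB.restrict B G'.presheaf))

theorem psi_natural {U V : B} (h : (V : Opens X) ≤ (U : Opens X))
    (a : G.presheaf.obj (op (U : Opens X))) :
    rs G'.presheaf h (ψ.app U a) = ψ.app V (rs G.presheaf h a) :=
  ψ.natural h a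

include hB in
theorem lift_exists (U : Opens X) (s : G.presheaf.obj (op U)) :
    ∃! a : G'.presheaf.obj (op U), ∀ V : {V : B // (V : Opens X) ≤ U},
      rs G'.presheaf V.2 a = ψ.app V.1 (rs G.presheaf V.2 s) := by
  apply sheaf_glue hB G'
  intro V V' W h1 h2
  rw [psi_natural, psi_natural, rs_rs, rs_rs]

noncomputable def liftApp (U : Opens X) (s : G.presheaf.obj (op U)) : G'.presheaf.obj (op U) :=
  (lift_exists hB G G' ψ U s).exists.choose

theorem liftApp_spec (U : Opens X) (s : G.presheaf.obj (op U)) (V : B) (hV : (V : Opens X) ≤ U) :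
    rs G'.presheaf hV (liftApp hB G G' ψ U s) = ψ.app V (rs G.presheaf hV s) :=
  (lift_exists hB G G' ψ U s).exists.choose_spec ⟨V, hV⟩

theorem liftApp_unique (U : Opens X) (s : G.presheaf.obj (op U)) (a : G'.presheaf.obj (op U))
    (ha : ∀ (V : B) (hV : (V : Opens X) ≤ U), rs G'.presheaf hV a = ψ.app V (rs G.presheaf hV s)) :
    a = liftApp hB G G' ψ U s :=
  (lift_exists hB G G' ψ U s).unique (fun V => ha V.1 V.2)
    (fun V => liftApp_spec hB G G' ψ U s V.1 V.2)

theorem liftApp_natural {U U' : Opens X} (h : U' ≤ U) (s : G.presheaf.obj (op U)) :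
    rs G'.presheaf h (liftApp hB G G' ψ U s) = liftApp hB G G' ψ U' (rs G.presheaf h s) := by
  apply liftApp_unique
  intro V hV
  rw [rs_rs, rs_rs, liftApp_spec]

noncomputable def lift : G.presheaf ⟶ G'.presheaf where
  app U := ↾(liftApp hB G G' ψ U.unop)
  naturality U U' f := by
    apply ConcreteCategory.hom_ext
    intro s
    show liftApp hB G G' ψ U'.unop (G.presheaf.map f s) =
      G'.presheaf.map f (liftApp hB G G' ψ U.unop s)
    have e1 : G.presheaf.map f s = rs G.presheaf f.unop.le s := map_eq_rs G.presheaf f s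
    have e2 : G'.presheaf.map f (liftApp hB G G' ψ U.unop s) =
        rs G'.presheaf f.unop.le (liftApp hB G G' ψ U.unop s) := map_eq_rs G'.presheaf f _
    rw [e1, e2]
    exact (liftApp_natural hB G G' ψ f.unop.le s).symm

theorem lift_app_basis (U : B) (s : G.presheaf.obj (op (U : Opens X))) :
    (lift hB G G' ψ).app (op (U : Opens X)) s = ψ.app U s := by
  show liftApp hB G G' ψ (U : Opens X) s = ψ.app U s
  symm
  apply liftApp_unique
  intro V hV
  exact psi_natural G G' ψ hV s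

theorem lift_unique (φ : G.presheaf ⟶ G'.presheaf)
    (hφ : ∀ (U : B) (s : G.presheaf.obj (op (U : Opens X))),
      φ.app (op (U : Opens X)) s = ψ.app U s) : φ = lift hB G G' ψ := by
  apply NatTrans.ext
  funext U
  apply ConcreteCategory.hom_ext
  intro s
  show φ.app U s = liftApp hB G G' ψ U.unop s
  apply liftApp_unique
  intro V hV
  have hn := NatTrans.naturality_apply φ (homOfLE hV).op s
  have : rs G'.presheaf hV (φ.app U s) = φ.app (op (V : Opens X)) (rs G.presheaf hV s) := hn.symm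
  rw [this, hφ]

end Lift

end Groth.Agent.Lib.ShBExt_lead
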