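import Mathlib

set_option autoImplicit false
set_option linter.style.haveILetI false
set_option linter.unusedSectionVars false

universe u

namespace Groth.Agent.Lib.ShBasisMapH4

open CategoryTheory TopologicalSpace Opposite TopCat

lemma map_map_eq {Z : TopCat.{u}} (P : (Opens Z)ᵒᵖ ⥤ Type u) {A B D : Opens Z} (h1 : B ≤ A)
    (h2 : D ≤ B) (z : P.obj (op A)) :
    P.map (homOfLE h2).op (P.map (homOfLE h1).op z) = P.map (homOfLE (h2.trans h1)).op z := by
  rw [← FunctorToTypes.map_comp_apply]; rfl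

variable {X Y : TopCat.{u}} (f : X ⟶ Y) (F : X.Sheaf (Type u)) (G : Y.Sheaf (Type u))
    {BX : Set (Opens X)} {BY : Set (Opens Y)}
    (φ : ∀ (V : BY) (U : BX), (U : Opens X) ≤ (Opens.map f).obj V →
      (G.presheaf.obj (op (V : Opens Y)) → F.presheaf.obj (op (U : Opens X))))

/-- the gluing predicate -/
def IsGlue (W : Opens Y) (s : G.presheaf.obj (op W))
    (t : F.presheaf.obj (op ((Opens.map f).obj W))) : Prop :=
  ∀ (V : BY) (U : BX) (hVW : (V : Opens Y) ≤ W) (hUV : (U : Opens X) ≤ (Opens.map f).obj V),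
    F.presheaf.map (homOfLE (hUV.trans ((Opens.map f).monotone hVW))).op t
      = φ V U hUV (G.presheaf.map (homOfLE hVW).op s)

lemma exists_basis_pair (hBX : Opens.IsBasis BX) (hBY : Opens.IsBasis BY) (W : Opens Y)
    (O : Opens X) (x : X) (hxW : f x ∈ W) (hxO : x ∈ O) :
    ∃ (V : BY) (U : BX), (V : Opens Y) ≤ W ∧ (U : Opens X) ≤ (Opens.map f).obj V ∧
      (U : Opens X) ≤ O ∧ x ∈ (U : Opens X) := by
  obtain ⟨V, hV, hxV, hVW⟩ := Opens.isBasis_iff_nbhd.mp hBY hxW
  have hx' : x ∈ (Opens.map f).obj V ⊓ O := Opens.mem_inf.mpr ⟨hxV, hxO⟩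
  obtain ⟨U, hU, hxU, hUV⟩ := Opens.isBasis_iff_nbhd.mp hBX hx'
  exact ⟨⟨V, hV⟩, ⟨U, hU⟩, hVW, hUV.trans inf_le_left, hUV.trans inf_le_right, hxU⟩

lemma isGlue_unique (hBX : Opens.IsBasis BX) (hBY : Opens.IsBasis BY) (W : Opens Y)
    (s : G.presheaf.obj (op W)) (t t' : F.presheaf.obj (op ((Opens.map f).obj W)))
    (h : IsGlue f F G φ W s t) (h' : IsGlue f F G φ W s t') : t = t' := by
  let ι := {q : BY × BX // (q.1 : Opens Y) ≤ W ∧ (q.2 : Opens X) ≤ (Opens.map f).obj q.1}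
  refine TopCat.Sheaf.eq_of_locally_eq' F (fun i : ι => (i.1.2 : Opens X)) ((Opens.map f).obj W)
    (fun i => homOfLE (i.2.2.trans ((Opens.map f).monotone i.2.1))) ?_ t t' ?_
  · intro x hx
    obtain ⟨V, U, hVW, hUV, -, hxU⟩ := exists_basis_pair f hBX hBY W ⊤ x hx trivial
    exact Opens.mem_iSup.mpr ⟨⟨(V, U), hVW, hUV⟩, hxU⟩
  · intro i
    exact (h i.1.1 i.1.2 i.2.1 i.2.2).trans (h' i.1.1 i.1.2 i.2.1 i.2.2).symm

lemma isGlue_exists (hBX : Opens.IsBasis BX) (hBY : Opens.IsBasis BY)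
    (hφ : ∀ (V V' : BY) (U U' : BX) (hUV : (U : Opens X) ≤ (Opens.map f).obj V)
      (hU'V' : (U' : Opens X) ≤ (Opens.map f).obj V') (hV : (V' : Opens Y) ≤ V)
      (hU : (U' : Opens X) ≤ U) (s : G.presheaf.obj (op (V : Opens Y))),
      F.presheaf.map (homOfLE hU).op (φ V U hUV s)
        = φ V' U' hU'V' (G.presheaf.map (homOfLE hV).op s))
    (W : Opens Y) (s : G.presheaf.obj (op W)) : ∃ t, IsGlue f F G φ W s t := by
  let ι := {q : BY × BX // (q.1 : Opens Y) ≤ W ∧ (q.2 : Opens X) ≤ (Opens.map f).obj q.1}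
  let Uc : ι → Opens X := fun i => (i.1.2 : Opens X)
  let sf : ∀ i : ι, F.presheaf.obj (op (Uc i)) :=
    fun i => φ i.1.1 i.1.2 i.2.2 (G.presheaf.map (homOfLE i.2.1).op s)
  have hcover : (Opens.map f).obj W ≤ iSup Uc := by
    intro x hx
    obtain ⟨V, U, hVW, hUV, -, hxU⟩ := exists_basis_pair f hBX hBY W ⊤ x hx trivial
    exact Opens.mem_iSup.mpr ⟨⟨(V, U), hVW, hUV⟩, hxU⟩
  have hcompat : TopCat.Presheaf.IsCompatible F.1 Uc sf := by
    intro i j
    let κ := {q : BY × BX // (q.1 : Opens Y) ≤ (i.1.1 : Opens Y) ⊓ (j.1.1 : Opens Y) ∧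
      (q.2 : Opens X) ≤ (Opens.map f).obj q.1 ∧ (q.2 : Opens X) ≤ Uc i ⊓ Uc j}
    refine TopCat.Sheaf.eq_of_locally_eq' F (fun k : κ => (k.1.2 : Opens X)) (Uc i ⊓ Uc j)
      (fun k => homOfLE k.2.2.2) ?_ _ _ ?_
    · intro x hx
      have hx' := Opens.mem_inf.mp hx
      have hx1 : f x ∈ ((i.1.1 : Opens Y) ⊓ (j.1.1 : Opens Y)) :=
        Opens.mem_inf.mpr ⟨i.2.2 hx'.1, j.2.2 hx'.2⟩
      obtain ⟨V, U, hV, hUV, hUO, hxU⟩ :=
        exists_basis_pair f hBX hBY _ (Uc i ⊓ Uc j) x hx1 hx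
      exact Opens.mem_iSup.mpr ⟨⟨(V, U), hV, hUV, hUO⟩, hxU⟩
    · intro k
      have key : ∀ (l : ι) (hl : (k.1.2 : Opens X) ≤ Uc l)
          (hVl : (k.1.1 : Opens Y) ≤ l.1.1),
          F.1.map (homOfLE hl).op (sf l)
            = φ k.1.1 k.1.2 k.2.2.1 (G.1.map (homOfLE (hVl.trans l.2.1)).op s) := by
        intro l hl hVl
        have := hφ l.1.1 k.1.1 l.1.2 k.1.2 l.2.2 k.2.2.1 hVl hl
          (G.presheaf.map (homOfLE l.2.1).op s)
        rw [map_map_eq] at this
        exact this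
      calc _ = F.1.map (homOfLE (k.2.2.2.trans inf_le_left)).op (sf i) :=
            map_map_eq F.1 inf_le_left k.2.2.2 (sf i)
        _ = _ := key i _ (k.2.1.trans inf_le_left)
        _ = _ := (key j (k.2.2.2.trans inf_le_right) (k.2.1.trans inf_le_right)).symm
        _ = _ := (map_map_eq F.1 inf_le_right k.2.2.2 (sf j)).symm
  obtain ⟨t, ht, -⟩ := TopCat.Sheaf.existsUnique_gluing' F Uc ((Opens.map f).obj W)
    (fun i => homOfLE (i.2.2.trans ((Opens.map f).monotone i.2.1))) hcover sf hcompat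
  refine ⟨t, ?_⟩
  intro V U hVW hUV
  exact ht ⟨(V, U), hVW, hUV⟩

theorem main12452 (hBX : Opens.IsBasis BX) (hBY : Opens.IsBasis BY)
    (hφ : ∀ (V V' : BY) (U U' : BX) (hUV : (U : Opens X) ≤ (Opens.map f).obj V)
      (hU'V' : (U' : Opens X) ≤ (Opens.map f).obj V') (hV : (V' : Opens Y) ≤ V)
      (hU : (U' : Opens X) ≤ U) (s : G.presheaf.obj (op (V : Opens Y))),
      F.presheaf.map (homOfLE hU).op (φ V U hUV s)
        = φ V' U' hU'V' (G.presheaf.map (homOfLE hV).op s)) :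
    ∃! ψ : G ⟶ (TopCat.Sheaf.pushforward (Type u) f).obj F,
      ∀ (V : BY) (U : BX) (hUV : (U : Opens X) ≤ (Opens.map f).obj V)
        (s : G.presheaf.obj (op (V : Opens Y))),
        F.presheaf.map (homOfLE hUV).op (ψ.1.app (op (V : Opens Y)) s) = φ V U hUV s := by
  classical
  have hex := isGlue_exists f F G φ hBX hBY hφ
  choose T hT using hex
  have huniq := isGlue_unique f F G φ hBX hBY
  have hnat : ∀ (W W' : Opens Y) (h : W' ≤ W) (s : G.presheaf.obj (op W)),
      F.presheaf.map (homOfLE ((Opens.map f).monotone h)).op (T W s)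
        = T W' (G.presheaf.map (homOfLE h).op s) := by
    intro W W' h s
    apply huniq W' (G.presheaf.map (homOfLE h).op s)
    · intro V U hVW' hUV
      rw [map_map_eq, map_map_eq]
      exact hT W s V U (hVW'.trans h) hUV
    · exact hT W' _
  let nt : G.1 ⟶ ((TopCat.Sheaf.pushforward (Type u) f).obj F).1 :=
    { app := fun W => TypeCat.ofHom (fun s => T W.unop s)
      naturality := by
        intro W W' g
        refine ConcreteCategory.hom_ext _ _ (fun s => ?_)
        exact (hnat W.unop W'.unop g.unop.le s).symm }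
  refine ⟨ObjectProperty.homMk nt, ?_, ?_⟩
  · intro V U hUV s
    have := hT (V : Opens Y) s V U le_rfl hUV
    have e : G.presheaf.map (homOfLE (le_refl (V : Opens Y))).op s = s := by
      have : (homOfLE (le_refl (V : Opens Y))).op = 𝟙 (op (V : Opens Y)) := rfl
      rw [this, CategoryTheory.Functor.map_id]; rfl
    rw [e] at this
    exact this
  · intro ψ' hψ'
    apply _root_.CategoryTheory.Sheaf.hom_ext
    refine NatTrans.ext (funext fun W => ConcreteCategory.hom_ext _ _ fun s => ?_)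
    induction W using Opposite.rec with
    | _ W =>
      show ψ'.1.app (op W) s = T W s
      apply huniq W s
      · intro V U hVW hUV
        have h1 := hψ' V U hUV (G.presheaf.map (homOfLE hVW).op s)
        have h2 := ConcreteCategory.congr_hom (ψ'.1.naturality (homOfLE hVW).op) s
        rw [← h1]
        have h3 : ψ'.1.app (op (V : Opens Y)) (G.presheaf.map (homOfLE hVW).op s)
            = F.presheaf.map (homOfLE ((Opens.map f).monotone hVW)).op (ψ'.1.app (op W) s) := h2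
        rw [h3, map_map_eq]
      · exact hT W s
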