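import Groth.Agent.Lib.ShDesc3_helper7
import Groth.Agent.Lib.SepLqf2_helper7
import Groth.Agent.Lib.AlgSpGlue4_helper7

/-!
# Descent along epimorphisms of fppf sheaves, part 4: separated locally quasi-finite descent over
an affine base (helper7)

`exists_rep_of_sep_lqf_pullback`: an fppf sheaf over an affine scheme `Z` whose base change along
an fppf morphism of affine schemes `Z' ⟶ Z` is a scheme separated and locally quasi-finite over
`Z'` is representable.
-/

set_option autoImplicit false
set_option linter.style.haveILetI false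
universe u
open CategoryTheory CategoryTheory.Limits AlgebraicGeometry Opposite MorphismProperty
open AlgSp Groth.Agent.Lib.AlgSpPoints_helper7
  Groth.Agent.Lib.AlgSpQC_helper7 Groth.Agent.Lib.AlgSpPullback_helper7
  Groth.Agent.Lib.AlgSpOpenSub_helper7 Groth.Agent.Lib.AlgSpEpi_helper7
  Groth.Agent.Lib.SepLqf2H7 Groth.Agent.Lib.AlgSpGlue4H7

namespace Groth.Agent.Lib.ShDescH7

variable {S : Scheme.{u}}

theorem preimage_ofPt_image {P : Sp S} {V' T T' : Over S} {q : (yon S).obj V' ⟶ P}
    {g : (yon S).obj T ⟶ P} {a : T' ⟶ V'} {b : T' ⟶ T}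
    (sqT : IsPullback ((yon S).map a) ((yon S).map b) q g) (W : Set ↥V'.left) :
    Points.ofPt g ⁻¹' (Points.ofPt q '' W) = b.left '' (a.left ⁻¹' W) := by
  ext t
  constructor
  · rintro ⟨w, hw, hwt⟩
    obtain ⟨v, hv1, hv2⟩ := exists_ofPt_eq_of_isPullback sqT w t hwt
    exact ⟨v, by rw [Set.mem_preimage, hv1]; exact hw, hv2⟩
  · rintro ⟨v, hv, rfl⟩
    refine ⟨a.left v, hv, ?_⟩
    rw [← ofPt_comp, ← ofPt_comp, sqT.w]

set_option maxHeartbeats 1600000 in
/-- **Separated locally quasi-finite fppf descent for sheaves, affine base.** -/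
theorem exists_rep_of_sep_lqf_pullback {Z Z' : Over S} (c : Z' ⟶ Z) (hZ : IsAffine Z.left)
    (hZ' : IsAffine Z'.left) (hs : Surjective c.left) (hfl : Flat c.left)
    (hfp : LocallyOfFinitePresentation c.left) {P : Sp S} (f : P ⟶ (yon S).obj Z)
    {V' : Over S} (q : (yon S).obj V' ⟶ P) (v' : V' ⟶ Z')
    (sq : IsPullback q ((yon S).map v') f ((yon S).map c))
    (hsep : IsSeparated v'.left) (hlqf : LocallyQuasiFinite v'.left)
    (hlft : LocallyOfFiniteType v'.left) :
    ∃ V : Over S, Nonempty (P ≅ (yon S).obj V) := by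
  haveI := hZ
  haveI := hZ'
  have hqfl : RepWith @Flat q :=
    repWith_fst_of_isPullback _ sq ((repWith_yon_map_iff @Flat c).2 hfl)
  have hqfp : RepWith @LocallyOfFinitePresentation q :=
    repWith_fst_of_isPullback _ sq ((repWith_yon_map_iff @LocallyOfFinitePresentation c).2 hfp)
  have hqs : RepWith @Surjective q :=
    repWith_fst_of_isPullback _ sq ((repWith_yon_map_iff @Surjective c).2 hs)
  have hqqc : RepWith @QuasiCompact q :=
    repWith_fst_of_isPullback _ sq ((repWith_yon_map_iff @QuasiCompact c).2 inferInstance)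
  have hopenW : ∀ W : Set ↥V'.left, IsOpen W → IsOpen (Points.ofPt q '' W) := by
    intro W hW
    rw [Points.isOpen_iff]
    intro T g
    have sqT := hqfl.rep.isPullback g
    obtain ⟨a, ha⟩ := (yon S).map_surjective (hqfl.rep.fst g)
    rw [← ha] at sqT
    rw [preimage_ofPt_image sqT W]
    haveI : Flat (hqfl.rep.snd g).left := hqfl.property_snd g
    haveI : LocallyOfFinitePresentation (hqfl.rep.snd g).left := hqfp.property _ _ _ sqT
    exact (hqfl.rep.snd g).left.isOpenMap _ (hW.preimage a.left.continuous)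
  have key : ∀ x : ↥V'.left, ∃ (Y : Over S) (fY : (yon S).obj Y ⟶ P),
      RepWith @IsOpenImmersion fY ∧ Points.ofPt q x ∈ Set.range (Points.map fY) := by
    intro x
    obtain ⟨W, hWaff, hxW, -⟩ :=
      exists_isAffineOpen_mem_and_subset (X := V'.left) (x := x) (U := ⊤) trivial
    obtain ⟨WP, hWP⟩ : ∃ WP : Set (Points P), WP = Points.ofPt q '' (W : Set ↥V'.left) :=
      ⟨_, rfl⟩
    have hWPo : IsOpen WP := by
      rw [hWP]
      exact hopenW _ W.2
    have hι := repWith_isOpenImmersion_openSubι (X := P) hWPo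
    obtain ⟨Vt, ιt, fstt, hιt, hrange, sqt⟩ := exists_isPullback_openSub hWPo q
    have sqBig : IsPullback fstt ((yon S).map (ιt ≫ v')) (openSubι P WP ≫ f)
        ((yon S).map c) := by
      rw [Functor.map_comp]
      exact sqt.paste_vert sq
    have hcompact : CompactSpace ↥Vt.left := by
      have sqK := hqqc.rep.isPullback q
      obtain ⟨a, ha⟩ := (yon S).map_surjective (hqqc.rep.fst q)
      rw [← ha] at sqK
      have hr : Set.range ιt.left = (hqqc.rep.snd q).left '' (a.left ⁻¹' (W : Set ↥V'.left)) := by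
        rw [hrange, hWP, preimage_ofPt_image sqK]
      have haqc : QuasiCompact a.left := hqqc.property _ _ _ sqK.flip
      have hc1 : IsCompact (a.left ⁻¹' (W : Set ↥V'.left)) :=
        haqc.isCompact_preimage _ W.2 hWaff.isCompact
      have hc2 : IsCompact (Set.range ιt.left) := by
        rw [hr]
        exact hc1.image (hqqc.rep.snd q).left.continuous
      haveI := hιt
      have hc3 : IsCompact (Set.univ : Set ↥Vt.left) := by
        rw [ιt.left.isOpenEmbedding.isEmbedding.isCompact_iff, Set.image_univ]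
        exact hc2
      exact isCompact_univ_iff.1 hc3
    haveI := hcompact
    haveI := hιt
    haveI := hsep
    haveI := hlqf
    haveI := hlft
    haveI : IsSeparated (ιt ≫ v').left := by
      show IsSeparated (ιt.left ≫ v'.left)
      infer_instance
    haveI : LocallyQuasiFinite (ιt ≫ v').left := by
      show LocallyQuasiFinite (ιt.left ≫ v'.left)
      infer_instance
    haveI : LocallyOfFiniteType (ιt ≫ v').left := by
      show LocallyOfFiniteType (ιt.left ≫ v'.left)
      infer_instance
    have hqa : Vt.left.IsQuasiAffine := isQuasiAffine_of_sep_lqf (ιt ≫ v').left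
    obtain ⟨Y, ⟨eY⟩⟩ := exists_rep_of_quasiAffine_pullback c hZ hZ' hs hfl hfp
      (openSubι P WP ≫ f) hqa fstt (ιt ≫ v') sqBig
    refine ⟨Y, eY.inv ≫ openSubι P WP, ?_, ?_⟩
    · exact repWith_comp @IsOpenImmersion
        (Groth.Agent.Lib.AlgSpBasic_helper7.repWith_of_isIso _ _) hι
    · have hx : x ∈ Set.range ιt.left := by
        rw [hrange, hWP]
        exact ⟨x, hxW, rfl⟩
      obtain ⟨y, rfl⟩ := hx
      refine ⟨Points.map eY.hom (Points.ofPt fstt y), ?_⟩
      rw [← Points.map_comp, Iso.hom_inv_id_assoc, Points.map_ofPt, sqt.w, ofPt_comp]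
  choose Y fY hfY hmem using key
  obtain ⟨Y', e, -⟩ := exists_iso_of_openCover_points fY hfY (fun p => by
    have hsurj : IsSurjectiveMor q := isSurjectiveMor_of_repWith q hqs
    obtain ⟨p', rfl⟩ := hsurj p
    have hp' : Points.map q p' ∈ Set.range (Points.ofPt q) := by
      rw [← range_map_yon]
      exact ⟨p', rfl⟩
    obtain ⟨x, hx⟩ := hp'
    exact ⟨x, hx ▸ hmem x⟩)
  exact ⟨Y', ⟨e.symm⟩⟩

end Groth.Agent.Lib.ShDescH7
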