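import Groth.Agent.Lib.ShDesc4_helper7
import Groth.Agent.Lib.SepLqf4_helper7
import Groth.Agent.Lib.LQFDesc_helper7
import Groth.Agent.Lib.AlgSpGlue5_helper7
import Groth.Agent.Lib.AlgSpAffineMor_helper7
import Groth.Agent.Lib.AlgSpProper_helper7

/-!
# Descent along epimorphisms of fppf sheaves, part 5: effective descent of separated locally
quasi-finite morphisms (helper7)

`main10098`: if `E = H ×_G F` with `g : F ⟶ G` representable by algebraic spaces, flat, surjective
and locally of finite presentation, and `a : E ⟶ F` representable by algebraic spaces, separated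
and locally quasi-finite, then `b : H ⟶ G` is representable by schemes, separated and locally
quasi-finite.
-/

set_option autoImplicit false
set_option linter.style.haveILetI false
universe u
open CategoryTheory CategoryTheory.Limits AlgebraicGeometry Opposite MorphismProperty
open AlgSp Groth.Agent.Lib.AlgSpPoints_helper7
  Groth.Agent.Lib.AlgSpQC_helper7 Groth.Agent.Lib.AlgSpPullback_helper7
  Groth.Agent.Lib.AlgSpOpenSub_helper7 Groth.Agent.Lib.AlgSpEpi_helper7
  Groth.Agent.Lib.SepLqf4H7 Groth.Agent.Lib.AlgSpGlue5H7 Groth.Agent.Lib.AffDescH7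
  Groth.Agent.Lib.LQFDesc_helper7 Groth.Agent.Lib.AlgSpFpqc2_helper7
  Groth.Agent.Lib.AlgSpAffineMorH7 Groth.Agent.Lib.AlgSpQC2_helper7
  Groth.Agent.Lib.AlgSpProper_helper7

namespace Groth.Agent.Lib.ShDescH7

variable {S : Scheme.{u}}

set_option backward.isDefEq.respectTransparency false in
theorem locP_iso_comp (Q : MorphismProperty Scheme.{u}) {X X' Y : Sp S} (e : X' ⟶ X) [IsIso e]
    (f : X ⟶ Y) (hf : LocP Q f) : LocP Q (e ≫ f) := by
  intro U V a b h hae hbe comm
  exact hf (a ≫ e) b h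
    (repWith_comp @Etale hae (Groth.Agent.Lib.AlgSpBasic_helper7.repWith_of_isIso _ _)) hbe
    (by rw [Category.assoc, comm])

set_option backward.isDefEq.respectTransparency false in
/-- Refinement of an fppf covering of an affine scheme by an algebraic space to a single affine
fppf covering. -/
theorem exists_affine_fppf_refinement {T : Over S} (hT : IsAffine T.left) {X : Sp S}
    (hX : IsAlgSpace X) (x₂ : X ⟶ (yon S).obj T) (hsurj : IsSurjectiveMor x₂)
    (hfl : LocP @Flat x₂) (hfp : LocP @LocallyOfFinitePresentation x₂) :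
    ∃ (Z' : Over S) (c : Z' ⟶ T) (l : (yon S).obj Z' ⟶ X), IsAffine Z'.left ∧
      Surjective c.left ∧ Flat c.left ∧ LocallyOfFinitePresentation c.left ∧
      l ≫ x₂ = (yon S).map c := by
  haveI := hT
  obtain ⟨U, p, hpe, hps⟩ := hX.atlas
  obtain ⟨u, hu⟩ := (yon S).map_surjective (p ≫ x₂)
  have hufl : Flat u.left :=
    hfl p (𝟙 _) u hpe (repWith_id _ T) (by rw [Category.comp_id, hu])
  have hufp : LocallyOfFinitePresentation u.left :=
    hfp p (𝟙 _) u hpe (repWith_id _ T) (by rw [Category.comp_id, hu])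
  have hus : Surjective u.left := by
    refine surjective_left_of_isPullback (f := (yon S).map u) (g := 𝟙 _) (fst := 𝟙 _)
      IsPullback.of_id_fst ?_
    rw [hu]
    exact isSurjectiveMor_comp p x₂ (isSurjectiveMor_of_repWith p hps) hsurj
  haveI := hufl
  haveI := hufp
  obtain ⟨Vo, hVc, hVimg⟩ : ∃ Vo : U.left.Opens, IsCompact (Vo : Set ↥U.left) ∧
      u.left '' (Vo : Set ↥U.left) = Set.univ :=
    u.left.isOpenMap.exists_opens_image_eq_of_prespectralSpace
      u.left.continuous (fun t _ => hus.surj t) isOpen_univ isCompact_univ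
  haveI : CompactSpace ↥Vo.toScheme := isCompact_iff_compactSpace.1 hVc
  obtain ⟨Y, r, hrs, hre, hY⟩ := exists_affine_etale_cover Vo.toScheme
  haveI := hre
  let Z' : Over S := Over.mk (r ≫ Vo.ι ≫ U.hom)
  let j : Z' ⟶ U := Over.homMk (r ≫ Vo.ι) (by simp [Z'])
  refine ⟨Z', j ≫ u, (yon S).map j ≫ p, hY, ?_, ?_, ?_, ?_⟩
  · refine ⟨fun t => ?_⟩
    have ht : t ∈ u.left '' (Vo : Set ↥U.left) := by
      rw [hVimg]
      exact Set.mem_univ t
    obtain ⟨v, hv, rfl⟩ := ht
    obtain ⟨y, hy⟩ := hrs.surj ⟨v, hv⟩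
    refine ⟨y, ?_⟩
    show u.left (Vo.ι (r y)) = u.left v
    rw [hy]
    rfl
  · show Flat ((r ≫ Vo.ι) ≫ u.left)
    infer_instance
  · show LocallyOfFinitePresentation ((r ≫ Vo.ι) ≫ u.left)
    infer_instance
  · rw [Category.assoc, ← hu, Functor.map_comp]

set_option maxHeartbeats 1600000 in
theorem exists_rep_pullback_of_affine {E F G H : Sp S} (a : E ⟶ F) (f : E ⟶ H) (g : F ⟶ G)
    (b : H ⟶ G) (sq : IsPullback a f g b)
    (hg : RepBySpWith (IsSurjectiveMor ⊓ LocP @Flat ⊓ LocP @LocallyOfFinitePresentation) g.hom)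
    (ha : RepBySpWith
      (IsSeparatedMor ⊓ LocP (@LocallyQuasiFinite ⊓ @LocallyOfFiniteType)) a.hom)
    {T : Over S} (hT : IsAffine T.left) (t : (yon S).obj T ⟶ G) :
    ∃ (W : Over S) (w : W ⟶ T) (fst : (yon S).obj W ⟶ H), IsPullback fst ((yon S).map w) b t ∧
      (@IsSeparated ⊓ (@LocallyQuasiFinite ⊓ @LocallyOfFiniteType) :
        MorphismProperty Scheme.{u}) w.left := by
  have Hg := (repBySpWith_hom_iff _ g).1 hg
  have Ha := (repBySpWith_hom_iff _ a).1 ha
  obtain ⟨hX, ⟨hxs, hxfl⟩, hxfp⟩ :=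
    Hg t (pullback.fst g t) (pullback.snd g t) (IsPullback.of_hasPullback g t)
  obtain ⟨Z', c, l, hZ', hcs, hcfl, hcfp, hl⟩ :=
    exists_affine_fppf_refinement hT hX (pullback.snd g t) hxs hxfl hxfp
  obtain ⟨l₁, hl₁⟩ : ∃ l₁ : (yon S).obj Z' ⟶ F, l₁ = l ≫ pullback.fst g t := ⟨_, rfl⟩
  have hl₁g : l₁ ≫ g = (yon S).map c ≫ t := by
    rw [hl₁, Category.assoc, pullback.condition, ← Category.assoc, hl]
  obtain ⟨hV, hVsep, hVqf⟩ :=
    Ha l₁ (pullback.fst a l₁) (pullback.snd a l₁) (IsPullback.of_hasPullback a l₁)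
  obtain ⟨V', ⟨r⟩⟩ := (main10259 Z' hV (pullback.snd a l₁) hVqf hVsep).has_representation
  obtain ⟨eV, heV⟩ : ∃ eV : (yon S).obj V' ≅ pullback a l₁, eV = isoOfRepresentableBy r :=
    ⟨_, rfl⟩
  obtain ⟨v', hv'⟩ := (yon S).map_surjective (eV.hom ≫ pullback.snd a l₁)
  have hv'sep : IsSeparatedMor ((yon S).map v') := by
    rw [hv']
    exact isSeparatedMor_comp _ _ (isSeparatedMor_of_mono eV.hom) hVsep
  have hv'qf : LocP (@LocallyQuasiFinite ⊓ @LocallyOfFiniteType) ((yon S).map v') := by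
    rw [hv']
    exact locP_iso_comp _ eV.hom _ hVqf
  have hsep : IsSeparated v'.left := (isSeparatedMor_yon_map_iff v').1 hv'sep
  have hqf := locP_yon_map hv'qf
  -- the big square
  have sqV := IsPullback.of_hasPullback a l₁
  have sqP := IsPullback.of_hasPullback b t
  have big : IsPullback (pullback.snd a l₁) (pullback.fst a l₁ ≫ f) (l₁ ≫ g) b :=
    sqV.flip.paste_vert sq
  have wq : (pullback.fst a l₁ ≫ f) ≫ b = (pullback.snd a l₁ ≫ (yon S).map c) ≫ t := by
    have hbw := big.w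
    simp only [Category.assoc] at hbw ⊢
    rw [← hl₁g]
    exact hbw.symm
  have big' : IsPullback (sqP.lift _ _ wq ≫ pullback.fst b t) (pullback.snd a l₁) b
      ((yon S).map c ≫ t) := by
    rw [sqP.lift_fst, ← hl₁g]
    exact big.flip
  have sqQ : IsPullback (sqP.lift _ _ wq) (pullback.snd a l₁) (pullback.snd b t)
      ((yon S).map c) := IsPullback.of_right big' (sqP.lift_snd _ _ wq) sqP
  have sqQ' : IsPullback (eV.hom ≫ sqP.lift _ _ wq) ((yon S).map v') (pullback.snd b t)
      ((yon S).map c) := by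
    refine IsPullback.of_iso sqQ eV.symm (Iso.refl _) (Iso.refl _) (Iso.refl _) ?_ ?_ ?_ ?_
    · simp
    · rw [hv']
      simp
    · simp
    · simp
  obtain ⟨W, ⟨e⟩⟩ := exists_rep_of_sep_lqf_pullback c hT hZ' hcs hcfl hcfp (pullback.snd b t)
    (eV.hom ≫ sqP.lift _ _ wq) v' sqQ' hsep hqf.1 hqf.2
  obtain ⟨w, hw⟩ := (yon S).map_surjective (e.inv ≫ pullback.snd b t)
  have sqW : IsPullback (e.inv ≫ pullback.fst b t) ((yon S).map w) b t := by
    refine IsPullback.of_iso sqP e (Iso.refl _) (Iso.refl _) (Iso.refl _) ?_ ?_ ?_ ?_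
    · simp
    · rw [hw]
      simp
    · simp
    · simp
  have sqD : IsPullback ((eV.hom ≫ sqP.lift _ _ wq) ≫ e.hom) ((yon S).map v') ((yon S).map w)
      ((yon S).map c) := by
    refine IsPullback.of_iso sqQ' (Iso.refl _) e (Iso.refl _) (Iso.refl _) ?_ ?_ ?_ ?_
    · simp
    · simp
    · rw [hw]
      simp
    · simp
  have hcov := isFpqcCover_yon_map c hT hZ' hcs hcfl
  have hwsep : IsSeparatedMor ((yon S).map w) :=
    (isLocalOnBase_fpqc_isSeparatedMor (fun _ : PUnit.{u + 1} => (yon S).obj Z')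
      (fun _ => (yon S).map c) (IsAlgSpace.yon_obj _) (fun _ => IsAlgSpace.yon_obj _) hcov
      ((yon S).map w) (IsAlgSpace.yon_obj _) (fun _ => (yon S).obj V') (fun _ => (yon S).map v')
      (fun _ => (eV.hom ≫ sqP.lift _ _ wq) ≫ e.hom) (fun _ => IsAlgSpace.yon_obj _)
      (fun _ => sqD)).2 (fun _ => hv'sep)
  have hwqf : LocP (@LocallyQuasiFinite ⊓ @LocallyOfFiniteType) ((yon S).map w) :=
    (isLocalOnBase_fpqc_locP_locallyQuasiFinite (fun _ : PUnit.{u + 1} => (yon S).obj Z')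
      (fun _ => (yon S).map c) (IsAlgSpace.yon_obj _) (fun _ => IsAlgSpace.yon_obj _) hcov
      ((yon S).map w) (IsAlgSpace.yon_obj _) (fun _ => (yon S).obj V') (fun _ => (yon S).map v')
      (fun _ => (eV.hom ≫ sqP.lift _ _ wq) ≫ e.hom) (fun _ => IsAlgSpace.yon_obj _)
      (fun _ => sqD)).2 (fun _ => hv'qf)
  exact ⟨W, w, e.inv ≫ pullback.fst b t, sqW,
    (isSeparatedMor_yon_map_iff w).1 hwsep, locP_yon_map hwqf⟩

set_option backward.isDefEq.respectTransparency false in
theorem main10098 {E F G H : Sp S} (a : E ⟶ F) (f : E ⟶ H) (g : F ⟶ G)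
    (b : H ⟶ G) (sq : IsPullback a f g b)
    (hg : RepBySpWith (IsSurjectiveMor ⊓ LocP @Flat ⊓ LocP @LocallyOfFinitePresentation) g.hom)
    (ha : RepBySpWith
      (IsSeparatedMor ⊓ LocP (@LocallyQuasiFinite ⊓ @LocallyOfFiniteType)) a.hom) :
    RepWith @IsSeparated b ∧ RepWith (@LocallyQuasiFinite ⊓ @LocallyOfFiniteType) b := by
  have key : ∀ (T : Over S) (t : (yon S).obj T ⟶ G), ∃ (W : Over S) (w : W ⟶ T)
      (fst : (yon S).obj W ⟶ H), IsPullback fst ((yon S).map w) b t ∧
      (@IsSeparated ⊓ (@LocallyQuasiFinite ⊓ @LocallyOfFiniteType) :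
        MorphismProperty Scheme.{u}) w.left := by
    intro T t
    refine exists_rep_of_openCover _ b t T.left.affineCover (fun i => ?_)
    exact exists_rep_pullback_of_affine a f g b sq hg ha
      (T := Over.mk (T.left.affineCover.f i ≫ T.hom))
      (inferInstanceAs (IsAffine (T.left.affineCover.X i))) _
  constructor
  · refine MorphismProperty.relative.of_exists (fun T t => ?_)
    obtain ⟨W, w, fst, sqW, hP⟩ := key T t
    exact ⟨W, fst, w, sqW, hP.1⟩
  · refine MorphismProperty.relative.of_exists (fun T t => ?_)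
    obtain ⟨W, w, fst, sqW, hP⟩ := key T t
    exact ⟨W, fst, w, sqW, hP.2⟩

end Groth.Agent.Lib.ShDescH7
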