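import Groth.Agent.Lib.ShDesc5_helper7
import Groth.Agent.Lib.SepLqf6_helper7
import Groth.Agent.Lib.AlgSpRepBySp_helper7
import Groth.Agent.Lib.AlgSpLocP7_helper7
import Groth.Agent.Lib.AlgSpUnramLocus_helper7
import Groth.Agent.Lib.AlgSpProdChart_helper7

/-!
# Descent along epimorphisms of fppf sheaves, part 6: the diagonal of a sheaf with an fppf
covering by an algebraic space is representable (helper7)
-/

set_option autoImplicit false
set_option linter.style.haveILetI false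
universe u
open CategoryTheory CategoryTheory.Limits AlgebraicGeometry Opposite MorphismProperty
open AlgSp Groth.Agent.Lib.AlgSpPoints_helper7
  Groth.Agent.Lib.AlgSpQC_helper7 Groth.Agent.Lib.AlgSpPullback_helper7
  Groth.Agent.Lib.AlgSpAffineMorH7 Groth.Agent.Lib.AlgSpQC2_helper7
  Groth.Agent.Lib.AlgSpProper_helper7 Groth.Agent.Lib.SepLqf6H7
  Groth.Agent.Lib.AlgSpUnramLocusH7

namespace Groth.Agent.Lib.ShDescH7

variable {S : Scheme.{u}}

/-- `RepBySpWith Q` is stable under base change (for sheaves). -/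
theorem repBySpWith_of_isPullback (Q : MorphismProperty (Sp S)) {F G F' G' : Sp S} {a : F ⟶ G}
    {ξ : G' ⟶ G} {fst : F' ⟶ F} {snd : F' ⟶ G'} (sq : IsPullback fst snd a ξ)
    (ha : RepBySpWith Q a.hom) : RepBySpWith Q snd.hom := by
  have Ha := (repBySpWith_hom_iff Q a).1 ha
  rw [repBySpWith_hom_iff]
  intro U ζ F'' fst' snd' sq'
  exact Ha (ζ ≫ ξ) (fst' ≫ fst) snd' (sq'.paste_horiz sq)

/-- The base change of an fppf morphism representable by algebraic spaces to an algebraic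
space. -/
theorem qf_of_isPullback_algSpace {A B A' B' : Sp S} (f₁ : A ⟶ B)
    (h₁ : RepBySpWith (IsSurjectiveMor ⊓ LocP @Flat ⊓ LocP @LocallyOfFinitePresentation) f₁.hom)
    (hB' : IsAlgSpace B') (β : B' ⟶ B) (fst : A' ⟶ A) (r : A' ⟶ B')
    (sq : IsPullback fst r f₁ β) :
    IsAlgSpace A' ∧ IsSurjectiveMor r ∧ LocP @Flat r ∧ LocP @LocallyOfFinitePresentation r := by
  have H₁ := (repBySpWith_hom_iff _ f₁).1 h₁
  have hr : RepBySp r.hom :=
    Groth.Agent.Lib.AlgSpRepBySp_helper7.repBySp_of_isPullback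
      (sq.map (sheafToPresheaf (J S) (Type (u + 1)))) h₁.repBySp
  have hA' : IsAlgSpace A' :=
    Groth.Agent.Lib.AlgSpRepBySp_helper7.isAlgSpace_of_repBySp r hr hB'
  obtain ⟨V, v, hve, hvs⟩ := hB'.atlas
  have sqV := IsPullback.of_hasPullback r v
  have big := sqV.paste_horiz sq
  obtain ⟨hAV, ⟨hs, hfl⟩, hfp⟩ := H₁ (v ≫ β) _ _ big
  refine ⟨hA', ?_, ?_, ?_⟩
  · intro z
    obtain ⟨y, hy⟩ := isSurjectiveMor_of_repWith v hvs z
    obtain ⟨w, hw⟩ := hs y
    refine ⟨Points.map (pullback.fst r v) w, ?_⟩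
    rw [← Points.map_comp, sqV.w, Points.map_comp, hw, hy]
  · exact Groth.Agent.Lib.AlgSpLocP4_helper7.locP_of_target_chart
      Groth.Agent.Lib.AlgSpLocP4_helper7.etLocal_flat r v hve hvs _ _ sqV hAV hfl
  · exact Groth.Agent.Lib.AlgSpLocP4_helper7.locP_of_target_chart
      Groth.Agent.Lib.AlgSpLocP7_helper7.etLocal_locallyOfFinitePresentation r v hve hvs _ _ sqV
      hAV hfp

/-- Fppf morphisms representable by algebraic spaces are stable under composition. -/
theorem repBySpWith_fppf_comp {A B C : Sp S} (f₁ : A ⟶ B) (f₂ : B ⟶ C)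
    (h₁ : RepBySpWith (IsSurjectiveMor ⊓ LocP @Flat ⊓ LocP @LocallyOfFinitePresentation) f₁.hom)
    (h₂ : RepBySpWith (IsSurjectiveMor ⊓ LocP @Flat ⊓ LocP @LocallyOfFinitePresentation) f₂.hom) :
    RepBySpWith (IsSurjectiveMor ⊓ LocP @Flat ⊓ LocP @LocallyOfFinitePresentation)
      (f₁ ≫ f₂).hom := by
  have H₂ := (repBySpWith_hom_iff _ f₂).1 h₂
  rw [repBySpWith_hom_iff]
  intro U ξ F' fst snd sq
  have sqB := IsPullback.of_hasPullback f₂ ξ
  obtain ⟨hB', ⟨hs₂, hfl₂⟩, hfp₂⟩ := H₂ ξ _ _ sqB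
  obtain ⟨r, hr1, hr2⟩ : ∃ r : F' ⟶ pullback f₂ ξ,
      r ≫ pullback.fst f₂ ξ = fst ≫ f₁ ∧ r ≫ pullback.snd f₂ ξ = snd :=
    ⟨pullback.lift (fst ≫ f₁) snd (by rw [Category.assoc, sq.w]), pullback.lift_fst _ _ _,
      pullback.lift_snd _ _ _⟩
  subst hr2
  have sqA : IsPullback fst r f₁ (pullback.fst f₂ ξ) := IsPullback.of_bot sq hr1.symm sqB
  obtain ⟨hF', hs₁, hfl₁, hfp₁⟩ :=
    qf_of_isPullback_algSpace f₁ h₁ hB' (pullback.fst f₂ ξ) fst r sqA
  exact ⟨hF', ⟨isSurjectiveMor_comp _ _ hs₁ hs₂,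
    Groth.Agent.Lib.AlgSpLocP4_helper7.locP_comp Groth.Agent.Lib.AlgSpLocP4_helper7.etLocal_flat
      hF' hB' (IsAlgSpace.yon_obj U) _ _ hfl₁ hfl₂⟩,
    Groth.Agent.Lib.AlgSpLocP4_helper7.locP_comp
      Groth.Agent.Lib.AlgSpLocP7_helper7.etLocal_locallyOfFinitePresentation
      hF' hB' (IsAlgSpace.yon_obj U) _ _ hfp₁ hfp₂⟩

theorem isAlgSpace_prod_self {X Y : Sp S} (hX : IsAlgSpace X) (hY : IsAlgSpace Y) :
    IsAlgSpace (X ⨯ Y) :=
  isAlgSpace_of_isPullback (IsAlgSpace.yon_obj _).diag hX hY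
    (IsPullback.of_is_product' (prodIsProd _ _) isTerminalYonId)

set_option backward.isDefEq.respectTransparency false in
/-- The diagonal of an fppf sheaf with an fppf covering (representable by algebraic spaces) by
an algebraic space is representable. -/
theorem main10099 (F : Sp S) {X : Sp S} (hX : IsAlgSpace X) (p : X ⟶ F)
    (hp : RepBySpWith (IsSurjectiveMor ⊓ LocP @Flat ⊓ LocP @LocallyOfFinitePresentation) p.hom) :
    Representable (Limits.diag F) := by
  have sqE := IsPullback.of_hasPullback p p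
  have sqD := (Groth.Agent.Lib.AlgSpRepBySp_helper7.isPullback_diag_of_isPullback sqE).flip
  -- the covering `X × X ⟶ F × F` is fppf
  have hmm : prod.map p p = prod.map p (𝟙 X) ≫ prod.map (𝟙 F) p := by
    rw [prod.map_map, Category.comp_id, Category.id_comp]
  have h₁ : RepBySpWith (IsSurjectiveMor ⊓ LocP @Flat ⊓ LocP @LocallyOfFinitePresentation)
      (prod.map p (𝟙 X)).hom :=
    repBySpWith_of_isPullback _
      (Groth.Agent.Lib.AlgSpRepBySp_helper7.isPullback_prod_fst_map p X) hp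
  have h₂ : RepBySpWith (IsSurjectiveMor ⊓ LocP @Flat ⊓ LocP @LocallyOfFinitePresentation)
      (prod.map (𝟙 F) p).hom :=
    repBySpWith_of_isPullback _
      (Groth.Agent.Lib.AlgSpRepBySp_helper7.isPullback_prod_snd_map p F) hp
  have hg : RepBySpWith (IsSurjectiveMor ⊓ LocP @Flat ⊓ LocP @LocallyOfFinitePresentation)
      (prod.map p p).hom := by
    rw [hmm]
    exact repBySpWith_fppf_comp _ _ h₁ h₂
  -- `X ×_F X` is an algebraic space, locally of finite presentation over `X`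
  obtain ⟨hE, -, -, hfp₂⟩ :=
    qf_of_isPullback_algSpace p hp hX p (pullback.fst p p) (pullback.snd p p) sqE
  have hXX : IsAlgSpace (X ⨯ X) := isAlgSpace_prod_self hX hX
  haveI : Mono (prod.lift (pullback.fst p p) (pullback.snd p p)) := sqD.mono_fst_of_mono
  have hlft₂ : LocP @LocallyOfFiniteType (pullback.snd p p) := by
    intro U V a b k hae hbe comm
    haveI : LocallyOfFinitePresentation k.left := hfp₂ a b k hae hbe comm
    exact (inferInstance : LocallyOfFiniteType k.left)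
  have hLFTa : LocP @LocallyOfFiniteType (prod.lift (pullback.fst p p) (pullback.snd p p)) := by
    refine locP_lft_of_comp hX _ (prod.snd : X ⨯ X ⟶ X) ?_
    rw [prod.lift_snd]
    exact hlft₂
  have ha : RepBySpWith (IsSeparatedMor ⊓ LocP (@LocallyQuasiFinite ⊓ @LocallyOfFiniteType))
      (prod.lift (pullback.fst p p) (pullback.snd p p)).hom := by
    rw [repBySpWith_hom_iff]
    intro U ξ E' fst snd sq'
    have hE' : IsAlgSpace E' := isAlgSpace_of_isPullback hXX.diag hE (IsAlgSpace.yon_obj U) sq'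
    have hlft' : LocP @LocallyOfFiniteType snd :=
      Groth.Agent.Lib.AlgSpLocP4_helper7.locP_baseChange
        Groth.Agent.Lib.AlgSpLocP4_helper7.etLocal_locallyOfFiniteType hE hXX
        (IsAlgSpace.yon_obj U) _ ξ fst snd sq' hLFTa
    haveI : Mono snd := sq'.mono_snd_of_mono
    obtain ⟨-, hsep, hqf⟩ :=
      (main10613 hE' (IsAlgSpace.yon_obj U) snd).2.2.2 ⟨hlft', inferInstance⟩
    exact ⟨hE', hsep, hqf⟩
  exact (main10098 _ _ _ _ sqD hg ha).1.rep

end Groth.Agent.Lib.ShDescH7
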