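import Groth.Agent.Lib.ShDesc7_helper7
import Groth.Agent.Lib.QuotEff_lead
import Mathlib.CategoryTheory.Sites.LocallyBijective

/-!
# Descent along epimorphisms of fppf sheaves, part 8: étale sheaves with an étale chart are
algebraic spaces (helper7)
-/

set_option autoImplicit false
set_option linter.style.haveILetI false
universe u
open CategoryTheory CategoryTheory.Limits AlgebraicGeometry Opposite MorphismProperty
open AlgSp Groth.Agent.Lib.AlgSpPoints_helper7
  Groth.Agent.Lib.AlgSpQC_helper7 Groth.Agent.Lib.AlgSpPullback_helper7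
  Groth.Agent.Lib.AlgSpQuotEffH7 Groth.Agent.Lib.AlgSpOpenSub_helper7
  Groth.Agent.Lib.AlgSpGlue5H7 Groth.Agent.Lib.AlgSpGlueH7

namespace Groth.Agent.Lib.ShDescH7

variable {S : Scheme.{u}}

variable (S) in
/-- The étale topology on schemes over `S`. -/
abbrev Jet : GrothendieckTopology (Over S) := QuotSh.J Scheme.etalePrecoverage S

/-- A jointly surjective family of étale morphisms generates a covering sieve of the étale
topology over `S`. -/
theorem ofArrows_mem_Jet {T : Over S} {κ : Type u} (Tk : κ → Over S) (c : ∀ k, Tk k ⟶ T)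
    (he : ∀ k, Etale (c k).left)
    (hs : ∀ t : ↥T.left, ∃ k, t ∈ Set.range (c k).left) : Sieve.ofArrows Tk c ∈ Jet S T := by
  rw [GrothendieckTopology.mem_over_iff]
  have hmem : Presieve.ofArrows (fun k => (Tk k).left) (fun k => (c k).left) ∈
      Scheme.etalePrecoverage T.left :=
    (Scheme.ofArrows_mem_precoverage_iff _).2 ⟨hs, fun k => he k⟩
  refine Scheme.etaleTopology.superset_covering ?_ (Precoverage.generate_mem_toGrothendieck hmem)
  rintro Z f ⟨W, a, b, ⟨k⟩, rfl⟩
  rw [Sieve.overEquiv_iff]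
  refine ⟨Tk k, Over.homMk a ?_, c k, ⟨k⟩, ?_⟩
  · change a ≫ (Tk k).hom = (a ≫ (c k).left) ≫ T.hom
    rw [Category.assoc, CategoryTheory.Over.w]
  · ext
    rfl

/-- Two sheaves receiving morphisms inverted by sheafification from the same presheaf are
isomorphic. -/
theorem nonempty_iso_of_W {C : Type*} [Category C] (J : GrothendieckTopology C) {A : Type*}
    [Category A] {P G₁ G₂ : Cᵒᵖ ⥤ A} (ψ₁ : P ⟶ G₁) (ψ₂ : P ⟶ G₂) (h₁ : J.W ψ₁) (h₂ : J.W ψ₂)
    (hG₁ : Presheaf.IsSheaf J G₁) (hG₂ : Presheaf.IsSheaf J G₂) : Nonempty (G₁ ≅ G₂) := by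
  obtain ⟨φ, hφ⟩ := (h₁ G₂ hG₂).2 ψ₂
  obtain ⟨φ', hφ'⟩ := (h₂ G₁ hG₁).2 ψ₁
  have hφ₁ : ψ₁ ≫ φ = ψ₂ := hφ
  have hφ₂ : ψ₂ ≫ φ' = ψ₁ := hφ'
  refine ⟨⟨φ, φ', (h₁ G₁ hG₁).1 ?_, (h₂ G₂ hG₂).1 ?_⟩⟩
  · show ψ₁ ≫ (φ ≫ φ') = ψ₁ ≫ 𝟙 _
    rw [← Category.assoc, hφ₁, hφ₂, Category.comp_id]
  · show ψ₂ ≫ (φ' ≫ φ) = ψ₂ ≫ 𝟙 _
    rw [← Category.assoc, hφ₂, hφ₁, Category.comp_id]

section Quot

variable {R U : Over S} (s t : R ⟶ U)

set_option backward.isDefEq.respectTransparency false in
/-- The quotient map of an étale equivalence relation is representable, étale and surjective. -/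
theorem repWith_quotP (h : IsEtaleEqvRel s t) :
    RepWith @Etale (quotP s t) ∧ RepWith @Surjective (quotP s t) := by
  have key : ∀ (T : Over S) (a : (yon S).obj T ⟶ QuotSh.quot Scheme.fppfPrecoverage s t),
      ∃ (W : Over S) (w : W ⟶ T) (fst : (yon S).obj W ⟶ (yon S).obj U),
        IsPullback fst ((yon S).map w) (quotP s t) a ∧
        (@Etale ⊓ @Surjective : MorphismProperty Scheme.{u}) w.left := by
    intro T a
    refine exists_rep_of_openCover _ (quotP s t) a T.left.affineCover (fun i => ?_)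
    exact exists_rep_quotP_affine s t h (T := Over.mk (T.left.affineCover.f i ≫ T.hom))
      (inferInstanceAs (IsAffine (T.left.affineCover.X i))) _
  constructor
  · refine MorphismProperty.relative.of_exists (fun T a => ?_)
    obtain ⟨W, w, fst, sqW, hP⟩ := key T a
    exact ⟨W, fst, w, sqW, hP.1⟩
  · refine MorphismProperty.relative.of_exists (fun T a => ?_)
    obtain ⟨W, w, fst, sqW, hP⟩ := key T a
    exact ⟨W, fst, w, sqW, hP.2⟩

/-- Sections of `h_U` with the same image under a map with kernel pair `h_R` are `R`-related. -/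
theorem app_eq_iff_rel {G : PSp S} (g : (pyon S).obj U ⟶ G)
    (sq : IsPullback ((pyon S).map t) ((pyon S).map s) g g) (T : Over S) (a b : T ⟶ U) :
    g.app (op T) (ULift.up a) = g.app (op T) (ULift.up b) ↔ rel s t T a b := by
  have key : ∀ c : T ⟶ U, g.app (op T) (ULift.up c) =
      uliftYonedaEquiv.{u + 1} ((pyon S).map c ≫ g) := by
    intro c
    rw [uliftYonedaEquiv_comp, uliftYonedaEquiv_uliftYoneda_map]
  rw [key, key, Equiv.apply_eq_iff_eq]
  constructor
  · intro hab
    obtain ⟨r, hr⟩ := (pyon S).map_surjective (sq.lift _ _ hab)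
    refine ⟨r, (pyon S).map_injective ?_, (pyon S).map_injective ?_⟩
    · rw [Functor.map_comp, hr, sq.lift_fst]
    · rw [Functor.map_comp, hr, sq.lift_snd]
  · rintro ⟨r, rfl, rfl⟩
    rw [Functor.map_comp, Functor.map_comp, Category.assoc, Category.assoc, sq.w]

/-- The kernel pair of a representable étale chart is an étale equivalence relation. -/
theorem isEtaleEqvRel_of_chart {F : PSp S} (p : (pyon S).obj U ⟶ F)
    (he : (MorphismProperty.inverseImage @Etale (Over.forget S)).relative (pyon S) p)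
    (sq : IsPullback ((pyon S).map t) ((pyon S).map s) p p) : IsEtaleEqvRel s t where
  injective T r r' h1 h2 := by
    apply (pyon S).map_injective
    apply sq.hom_ext
    · rw [← Functor.map_comp, ← Functor.map_comp, h1]
    · rw [← Functor.map_comp, ← Functor.map_comp, h2]
  equivalence T := by
    have H := fun a b => app_eq_iff_rel s t p sq T a b
    exact ⟨fun a => (H a a).1 rfl, fun {a b} h => (H b a).1 ((H a b).2 h).symm,
      fun {a b c} h1 h2 => (H a c).1 (((H a b).2 h1).trans ((H b c).2 h2))⟩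
  etale_left := he.property p ((pyon S).map t) s sq
  etale_right := he.property p ((pyon S).map s) t sq.flip

/-- A map from `h_U` all of whose sections lift along étale coverings is locally surjective for
the étale topology. -/
theorem isLocallySurjective_of_lifts {G : PSp S} (g : (pyon S).obj U ⟶ G)
    (H : ∀ (T : Over S) (ξ : G.obj (op T)), ∃ (W : Over S) (w : W ⟶ T) (l : W ⟶ U),
      Etale w.left ∧ Surjective w.left ∧ g.app (op W) (ULift.up l) = G.map w.op ξ) :
    Presheaf.IsLocallySurjective (Jet S) g := by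
  refine ⟨fun {T} ξ => ?_⟩
  obtain ⟨W, w, l, hwe, hws, hl⟩ := H T ξ
  refine GrothendieckTopology.superset_covering _ ?_
    (ofArrows_mem_Jet (fun _ : PUnit.{u + 1} => W) (fun _ => w) (fun _ => hwe)
      (fun τ => ⟨PUnit.unit, hws.surj τ⟩))
  refine (Sieve.generate_le_iff _ _).2 ?_
  rintro Z f ⟨_⟩
  exact ⟨ULift.up l, hl⟩

/-- The presheaf quotient maps to any target of `h_U` with kernel pair `h_R`, by a morphism
inverted by étale sheafification if the map from `h_U` is étale locally surjective. -/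
theorem exists_W_of_rel {G : PSp S} (g : (pyon S).obj U ⟶ G)
    (hrel : ∀ (T : Over S) (a b : T ⟶ U),
      g.app (op T) (ULift.up a) = g.app (op T) (ULift.up b) ↔ rel s t T a b)
    (hsurj : Presheaf.IsLocallySurjective (Jet S) g) :
    ∃ ψ : Q₀ s t ⟶ G, (Jet S).W ψ := by
  let ψ : Q₀ s t ⟶ G :=
    { app := fun T => ↾(Quot.lift (fun a : ULift.{u + 1} (T.unop ⟶ U) => g.app T a)
        (fun a b hab => (hrel T.unop a.down b.down).2 hab))
      naturality := fun T T' m => by
        ext x
        obtain ⟨a, rfl⟩ := Quot.exists_rep x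
        exact NatTrans.naturality_apply g m a }
  have hfac : (π₀ s t : (pyon S).obj U ⟶ Q₀ s t) ≫ ψ = g := by
    ext T a
    rfl
  refine ⟨ψ, ?_⟩
  rw [GrothendieckTopology.W_iff_isLocallyBijective]
  haveI := hsurj
  have hs2 : Presheaf.IsLocallySurjective (Jet S) ψ := by
    refine ⟨fun {T} ξ => ?_⟩
    refine GrothendieckTopology.superset_covering _ ?_ (hsurj.imageSieve_mem ξ)
    rintro Y f ⟨a, ha⟩
    exact ⟨Quot.mk _ a, ha⟩
  refine ⟨Presheaf.isLocallyInjective_of_injective _ _ (fun T x y hxy => ?_), hs2⟩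
  obtain ⟨a, rfl⟩ := Quot.exists_rep x
  obtain ⟨b, rfl⟩ := Quot.exists_rep y
  exact Quot.sound ((hrel T.unop a.down b.down).1 hxy)

/-- A presheaf which is an étale sheaf and has a representable étale surjective chart is an
algebraic space. -/
theorem main10108 (F : PSp S) (h1 : Presheaf.IsSheaf (Jet S) F) (U : Over S)
    (p : (pyon S).obj U ⟶ F)
    (h3e : (MorphismProperty.inverseImage @Etale (Over.forget S)).relative (pyon S) p)
    (h3s : (MorphismProperty.inverseImage @Surjective (Over.forget S)).relative (pyon S) p) :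
    IsAlgSpaceP F := by
  obtain ⟨R, s, fst, sqR⟩ := h3e.rep p
  obtain ⟨t, rfl⟩ := (pyon S).map_surjective fst
  have hR : IsEtaleEqvRel s t := isEtaleEqvRel_of_chart s t p h3e sqR
  have hF' : IsAlgSpace (QuotSh.quot Scheme.fppfPrecoverage s t) := main9868 s t hR
  obtain ⟨hqe, hqs⟩ := repWith_quotP s t hR
  obtain ⟨ψ₁, hψ₁⟩ := exists_W_of_rel s t p (app_eq_iff_rel s t p sqR)
    (isLocallySurjective_of_lifts p (fun T ξ => by
      obtain ⟨W, w, fst', sqW⟩ := h3e.rep (uliftYonedaEquiv.{u + 1}.symm ξ)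
      obtain ⟨l, rfl⟩ := (pyon S).map_surjective fst'
      refine ⟨W, w, l, h3e.property _ _ w sqW, h3s.property _ _ w sqW, ?_⟩
      have e1 : p.app (op W) (ULift.up l) = uliftYonedaEquiv.{u + 1} ((pyon S).map l ≫ p) := by
        rw [uliftYonedaEquiv_comp, uliftYonedaEquiv_uliftYoneda_map]
      have e2 := uliftYonedaEquiv_naturality.{u + 1} (uliftYonedaEquiv.{u + 1}.symm ξ) w.op
      rw [Equiv.apply_symm_apply] at e2
      rw [e1, sqW.w]
      exact e2.symm))
  obtain ⟨ψ₂, hψ₂⟩ := exists_W_of_rel s t (quotP s t).hom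
    (app_eq_iff_rel s t (quotP s t).hom
      ((isPullback_quot s t hR.toIsEqvRel).map (sheafToPresheaf (J S) (Type (u + 1)))))
    (isLocallySurjective_of_lifts _ (fun T ξ => by
      obtain ⟨W, w, fst', sqW⟩ := hqe.rep (yE.symm ξ)
      obtain ⟨l, rfl⟩ := (yon S).map_surjective fst'
      refine ⟨W, w, l, hqe.property _ _ w sqW, hqs.property _ _ w sqW, ?_⟩
      have e1 : (quotP s t).hom.app (op W) (ULift.up l) =
          yE ((yon S).map l ≫ quotP s t) := by
        rw [yE_comp, yE_yon_map]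
      have e3 : yE ((yon S).map l ≫ quotP s t) =
          (QuotSh.quot Scheme.fppfPrecoverage s t).obj.map w.op ξ := by
        rw [sqW.w, yE_symm_map, Equiv.apply_symm_apply]
      exact e1.trans e3))
  have hF'sh : Presheaf.IsSheaf (Jet S) (QuotSh.quot Scheme.fppfPrecoverage s t).obj := by
    rw [isSheaf_iff_isSheaf_of_type]
    exact Presieve.isSheaf_of_le _ Groth.Agent.Lib.QuotEff.J_et_le_fppf
      ((isSheaf_iff_isSheaf_of_type _ _).1 (QuotSh.quot Scheme.fppfPrecoverage s t).property)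
  obtain ⟨e⟩ := nonempty_iso_of_W (Jet S) ψ₂ ψ₁ hψ₂ hψ₁ hF'sh h1
  exact ((isAlgSpaceP_obj_iff _).2 hF').of_iso e

end Quot

end Groth.Agent.Lib.ShDescH7
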