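import Groth.Agent.Lib.ShDesc8_helper7
import Groth.Agent.Lib.AlgSpLocP8_helper7
import Groth.Agent.Lib.AlgSpEtale_helper7

/-!
# Descent along epimorphisms of fppf sheaves, part 9: étale sheaves with an étale covering by an
algebraic space are algebraic spaces (helper7)
-/

set_option autoImplicit false
set_option linter.style.haveILetI false
universe u
open CategoryTheory CategoryTheory.Limits AlgebraicGeometry Opposite MorphismProperty
open AlgSp Groth.Agent.Lib.AlgSpPoints_helper7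
  Groth.Agent.Lib.AlgSpQC_helper7 Groth.Agent.Lib.AlgSpPullback_helper7
  Groth.Agent.Lib.AlgSpQuotEffH7 Groth.Agent.Lib.AlgSpOpenSub_helper7
  Groth.Agent.Lib.AlgSpAffineMorH7 Groth.Agent.Lib.SepLqf6H7
  Groth.Agent.Lib.AlgSpUnramLocusH7 Groth.Agent.Lib.AlgSpLocP_helper7
  Groth.Agent.Lib.AlgSpLocP8_helper7 Groth.Agent.Lib.AlgSpEtale_helper7

namespace Groth.Agent.Lib.ShDescH7

variable {S : Scheme.{u}}

set_option backward.isDefEq.respectTransparency false in
/-- Fibre products of a scheme chart of the covering algebraic space over an étale sheaf. -/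
theorem exists_rep_chart_of_repBySpWith_etale (F : PSp S) {X : Sp S} (hX : IsAlgSpace X)
    (p : X.obj ⟶ F) (h2 : RepBySpWith (IsSurjectiveMor ⊓ IsEtaleMor) p) {V : Over S}
    (q : (yon S).obj V ⟶ X) (hqe : RepWith @Etale q) (hqs : RepWith @Surjective q)
    (T : Over S) (ξ : (pyon S).obj T ⟶ F) :
    ∃ (W : Over S) (w : W ⟶ T) (l : W ⟶ V),
      IsPullback ((pyon S).map l) ((pyon S).map w) (q.hom ≫ p) ξ ∧ Etale w.left ∧
        Surjective w.left := by
  have sq1 := IsPullback.of_hasPullback p ξ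
  obtain ⟨hsh, hF', hsurj, het⟩ := h2 ξ (pullback.fst p ξ) (pullback.snd p ξ) sq1
  obtain ⟨f₁, hf₁⟩ : ∃ f₁ : (⟨pullback p ξ, hsh⟩ : Sp S) ⟶ X,
      f₁ = ObjectProperty.homMk (pullback.fst p ξ) := ⟨_, rfl⟩
  obtain ⟨f₂, hf₂⟩ : ∃ f₂ : (⟨pullback p ξ, hsh⟩ : Sp S) ⟶ (yon S).obj T,
      f₂ = ObjectProperty.homMk (pullback.snd p ξ) := ⟨_, rfl⟩
  rw [← hf₂] at hsurj het
  have hf₁h : (sheafToPresheaf (J S) (Type (u + 1))).map f₁ = pullback.fst p ξ := by
    rw [hf₁]; rfl
  have hf₂h : (sheafToPresheaf (J S) (Type (u + 1))).map f₂ = pullback.snd p ξ := by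
    rw [hf₂]; rfl
  -- the fibre product with the chart
  obtain ⟨P, π₁, π₂, sq2⟩ : ∃ (P : Sp S) (π₁ : P ⟶ (yon S).obj V)
      (π₂ : P ⟶ (⟨pullback p ξ, hsh⟩ : Sp S)), IsPullback π₁ π₂ q f₁ :=
    ⟨_, _, _, IsPullback.of_hasPullback q f₁⟩
  have hP : IsAlgSpace P := isAlgSpace_of_isPullback hX.diag (IsAlgSpace.yon_obj V) hF' sq2
  have hπ₂e : RepWith @Etale π₂ := repWith_snd_of_isPullback _ sq2 hqe
  have hπ₂s : RepWith @Surjective π₂ := repWith_snd_of_isPullback _ sq2 hqs
  have hπs : IsSurjectiveMor (π₂ ≫ f₂) :=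
    isSurjectiveMor_comp _ _ (isSurjectiveMor_of_repWith _ hπ₂s) hsurj
  have hπe : LocP @Etale (π₂ ≫ f₂) :=
    Groth.Agent.Lib.AlgSpLocP4_helper7.locP_comp
      Groth.Agent.Lib.AlgSpLocP7_helper7.etLocal_etale hP hF' (IsAlgSpace.yon_obj T) _ _
      (locP_of_repWith @Etale (fun _ _ g hg => hg) _ hπ₂e)
      (locP_of_isEtaleMor _ (fun _ _ _ hg => hg) f₂ het)
  have hπlft : LocP @LocallyOfFiniteType (π₂ ≫ f₂) := by
    intro A B a b k hae hbe comm
    haveI : Etale k.left := hπe a b k hae hbe comm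
    exact (inferInstance : LocallyOfFiniteType k.left)
  -- the monomorphism to the product
  haveI hm : Mono (prod.lift π₁ (π₂ ≫ f₂)) := ⟨fun {Z} α β h => by
    have e1 : α ≫ π₁ = β ≫ π₁ := by
      have := congrArg (· ≫ prod.fst) h
      simpa only [Category.assoc, prod.lift_fst] using this
    have e2 : α ≫ π₂ ≫ f₂ = β ≫ π₂ ≫ f₂ := by
      have := congrArg (· ≫ prod.snd) h
      simpa only [Category.assoc, prod.lift_snd] using this
    have e3 : α ≫ π₂ ≫ f₁ = β ≫ π₂ ≫ f₁ := by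
      rw [← sq2.w, ← Category.assoc, e1, Category.assoc]
    have e4 : α ≫ π₂ = β ≫ π₂ := by
      apply (sheafToPresheaf (J S) (Type (u + 1))).map_injective
      refine sq1.hom_ext ?_ ?_
      · rw [← hf₁h, ← Functor.map_comp, ← Functor.map_comp, Category.assoc, Category.assoc, e3]
      · rw [← hf₂h, ← Functor.map_comp, ← Functor.map_comp, Category.assoc, Category.assoc, e2]
    exact sq2.hom_ext e1 e4⟩
  have hlft : LocP @LocallyOfFiniteType (prod.lift π₁ (π₂ ≫ f₂)) := by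
    refine locP_lft_of_comp (IsAlgSpace.yon_obj T) _
      (prod.snd : (yon S).obj V ⨯ (yon S).obj T ⟶ (yon S).obj T) ?_
    rw [prod.lift_snd]
    exact hπlft
  have hrep : Representable (prod.lift π₁ (π₂ ≫ f₂)) :=
    ((main10613 hP (isAlgSpace_prod_self (IsAlgSpace.yon_obj V) (IsAlgSpace.yon_obj T))
      (prod.lift π₁ (π₂ ≫ f₂))).2.2.2 ⟨hlft, inferInstance⟩).1
  obtain ⟨W, snd', fst', sqW⟩ := hrep (PreservesLimitPair.iso (yon S) V T).hom
  haveI : IsIso fst' := sqW.isIso_fst_of_isIso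
  obtain ⟨w, hw⟩ := (yon S).map_surjective (fst' ≫ π₂ ≫ f₂)
  obtain ⟨l, hl⟩ := (yon S).map_surjective (fst' ≫ π₁)
  have sq2' : IsPullback ((yon S).map l) (fst' ≫ π₂) q f₁ := by
    rw [hl]
    exact IsPullback.of_iso sq2 (asIso fst').symm (Iso.refl _) (Iso.refl _) (Iso.refl _)
      (by simp) (by simp) (by simp) (by simp)
  have hw2 : (sheafToPresheaf (J S) (Type (u + 1))).map (fst' ≫ π₂) ≫ pullback.snd p ξ =
      (pyon S).map w := by
    rw [← hf₂h, ← Functor.map_comp, Category.assoc, ← hw]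
    rfl
  have big0 : IsPullback ((pyon S).map l)
      ((sheafToPresheaf (J S) (Type (u + 1))).map (fst' ≫ π₂) ≫ pullback.snd p ξ)
      (q.hom ≫ p) ξ := by
    have h3 := sq2'.map (sheafToPresheaf (J S) (Type (u + 1)))
    rw [hf₁h] at h3
    exact h3.paste_vert sq1
  rw [hw2] at big0
  refine ⟨W, w, l, big0, ?_, ?_⟩
  · have h4 : LocP @Etale ((yon S).map w) := by
      rw [hw]
      exact locP_iso_comp _ fst' _ hπe
    exact locP_yon_map h4
  · have h5 : IsSurjectiveMor ((yon S).map w) := by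
      rw [hw]
      exact isSurjectiveMor_comp _ _ (isSurjectiveMor_of_repWith _
        (Groth.Agent.Lib.AlgSpBasic_helper7.repWith_of_isIso _ _)) hπs
    exact surjective_left_of_isPullback IsPullback.of_id_fst h5

set_option backward.isDefEq.respectTransparency false in
/-- A presheaf which is an étale sheaf and receives a surjective étale map representable by
algebraic spaces from an algebraic space is an algebraic space. -/
theorem main10109 (F : PSp S) (h1 : Presheaf.IsSheaf (Jet S) F) {X : Sp S} (hX : IsAlgSpace X)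
    (p : X.obj ⟶ F) (h2 : RepBySpWith (IsSurjectiveMor ⊓ IsEtaleMor) p) : IsAlgSpaceP F := by
  obtain ⟨V, q, hqe, hqs⟩ := hX.atlas
  have key := exists_rep_chart_of_repBySpWith_etale F hX p h2 q hqe hqs
  refine main10108 F h1 V (q.hom ≫ p) ?_ ?_
  · refine MorphismProperty.relative.of_exists (fun T ξ => ?_)
    obtain ⟨W, w, l, sq, hwe, -⟩ := key T ξ
    exact ⟨W, (pyon S).map l, w, sq, hwe⟩
  · refine MorphismProperty.relative.of_exists (fun T ξ => ?_)
    obtain ⟨W, w, l, sq, -, hws⟩ := key T ξ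
    exact ⟨W, (pyon S).map l, w, sq, hws⟩

end Groth.Agent.Lib.ShDescH7
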