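import Mathlib
import Groth.Prelude.Def_DRing4
import Groth.Prelude.Def_DTen4
import Groth.Prelude.Def_Wider
import Groth.Agent.Lib.TrivBC8_helper6
import Groth.Agent.Lib.Bidual8_helper6

/-!
# Flat base change of duality (helper6), part 1: the comparison map
`c_M : Hom•_A(M, I) ⊗_A P ⟶ Hom•_P(M ⊗_A P, J)` attached to `j♭ : I ⟶ J|_A`, and its naturality.
-/

set_option autoImplicit false
set_option linter.style.haveILetI false
set_option linter.unusedSectionVars false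
set_option linter.unusedVariables false
universe u
open CategoryTheory Limits CochainComplex CochainComplex.HomComplex ZeroObject DerivedCategory
attribute [local instance] HasDerivedCategory.standard

namespace Groth.Agent.Lib.ShDualH6

open Groth.Agent.Lib.HomCx Groth.Agent.Lib.RHomKInj Groth.Agent.Lib.HomCxPreQis DRing
open Groth.Agent.Lib.DMod_helper6 Groth.Agent.Lib.BrutalTrunc Groth.Agent.Lib.BidualH6
open Groth.Agent.Lib.TrivBCH6 Groth.Agent.Lib.DerivedAdj Groth.Agent.Lib.BaseCmp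

variable {A P : Type u} [CommRing A] [CommRing P] (ρ : A →+* P)

/-- the adjunction `extCx ⊣ resCx` on complexes -/
noncomputable abbrev erAdj : DTen.extCx ρ ⊣ DTen.resCx ρ := adjC (adj0 ρ) (ComplexShape.up ℤ)

/-- the adjoint `X ⊗_A P ⟶ Y` of `u : X ⟶ Y|_A` -/
noncomputable def sharp {X : DRing.Cx A} {Y : DRing.Cx P} (u : X ⟶ (DTen.resCx ρ).obj Y) :
    (DTen.extCx ρ).obj X ⟶ Y :=
  ((erAdj ρ).homEquiv X Y).symm u

lemma sharp_comp {X : DRing.Cx A} {Y Y' : DRing.Cx P} (u : X ⟶ (DTen.resCx ρ).obj Y)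
    (g : Y ⟶ Y') : sharp ρ (u ≫ (DTen.resCx ρ).map g) = sharp ρ u ≫ g :=
  (erAdj ρ).homEquiv_naturality_right_symm u g

lemma map_comp_sharp {X X' : DRing.Cx A} {Y : DRing.Cx P} (f : X' ⟶ X)
    (u : X ⟶ (DTen.resCx ρ).obj Y) : sharp ρ (f ≫ u) = (DTen.extCx ρ).map f ≫ sharp ρ u :=
  (erAdj ρ).homEquiv_naturality_left_symm f u

lemma sharp_f {X : DRing.Cx A} {Y : DRing.Cx P} (u : X ⟶ (DTen.resCx ρ).obj Y) (k : ℤ) :
    (sharp ρ u).f k = ((adj0 ρ).homEquiv (X.X k) (Y.X k)).symm (u.f k) := by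
  unfold sharp
  rw [Adjunction.homEquiv_counit, Adjunction.homEquiv_counit]
  rfl

/-- naturality of `varpi` in the first variable -/
lemma varpi_naturality_left {M M' : DRing.Cx A} (f : M' ⟶ M) (Y : DRing.Cx P) :
    (DTen.resCx ρ).map (homCxPre ((DTen.extCx ρ).map f) Y) ≫ varpi ρ M' Y =
      varpi ρ M Y ≫ homCxPre f ((DTen.resCx ρ).obj Y) := by
  apply HomologicalComplex.hom_ext
  intro n
  refine ModuleCat.hom_ext (LinearMap.ext fun
    (w : ((DTen.resCx ρ).obj (DRing.homCx ((DTen.extCx ρ).obj M) Y)).X n) => ?_)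
  change varpiFun ρ M' Y n ((Cochain.ofHom ((DTen.extCx ρ).map f)).comp
      (show Cochain ((DTen.extCx ρ).obj M) Y n from w) (zero_add n)) =
    (Cochain.ofHom f).comp (varpiFun ρ M Y n w) (zero_add n)
  unfold varpiFun
  have h1 := (DTen.unitCx ρ).naturality f
  simp only [Functor.id_obj, Functor.id_map, Functor.comp_obj, Functor.comp_map] at h1
  rw [Cochain.map_comp, Cochain.map_ofHom,
    ← Cochain.comp_assoc_of_first_is_zero_cochain, ← Cochain.ofHom_comp, ← h1,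
    Cochain.ofHom_comp, Cochain.comp_assoc_of_first_is_zero_cochain]

section Cmp

variable (I : DRing.Cx A) (J : DRing.Cx P) (jb : I ⟶ (DTen.resCx ρ).obj J)

/-- the `A`-linear map `Hom•_A(M, I) ⟶ Hom•_P(M ⊗_A P, J)|_A` -/
noncomputable def aM (M : DRing.Cx A) :
    Dc I M ⟶ (DTen.resCx ρ).obj (Dc J ((DTen.extCx ρ).obj M)) :=
  DRing.homCxMap M jb ≫ inv (varpi ρ M J)

lemma aM_comp_varpi (M : DRing.Cx A) : aM ρ I J jb M ≫ varpi ρ M J = DRing.homCxMap M jb := by
  unfold aM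
  rw [Category.assoc, IsIso.inv_hom_id, Category.comp_id]

lemma aM_naturality {M M' : DRing.Cx A} (f : M' ⟶ M) :
    Dm I f ≫ aM ρ I J jb M' =
      aM ρ I J jb M ≫ (DTen.resCx ρ).map (Dm J ((DTen.extCx ρ).map f)) := by
  rw [← cancel_mono (varpi ρ M' J), Category.assoc, Category.assoc, aM_comp_varpi]
  erw [varpi_naturality_left]
  rw [← Category.assoc, aM_comp_varpi]
  exact homCxPre_comp_homCxMap f jb

/-- the comparison map `c_M : Hom•_A(M, I) ⊗_A P ⟶ Hom•_P(M ⊗_A P, J)` -/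
noncomputable def cM (M : DRing.Cx A) :
    (DTen.extCx ρ).obj (Dc I M) ⟶ Dc J ((DTen.extCx ρ).obj M) :=
  sharp ρ (aM ρ I J jb M)

lemma cM_naturality {M M' : DRing.Cx A} (f : M' ⟶ M) :
    (DTen.extCx ρ).map (Dm I f) ≫ cM ρ I J jb M' =
      cM ρ I J jb M ≫ Dm J ((DTen.extCx ρ).map f) := by
  unfold cM
  rw [← map_comp_sharp, ← sharp_comp, aM_naturality]

end Cmp

end Groth.Agent.Lib.ShDualH6
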