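import Mathlib
import Groth.Prelude.Def_DRing4
import Groth.Prelude.Def_DTen4
import Groth.Prelude.Def_Wider
import Groth.Agent.Lib.ShDual1_helper6
import Groth.Agent.Lib.DMod7_helper6

/-!
# Flat base change of duality (helper6), part 2: dévissage. If `c_{A[-m]}` is a quasi-isomorphism
for all `m`, then `c_M` is a quasi-isomorphism for every complex `M` with finite cohomology
(`A → P` flat, `A` Noetherian, `I`, `J` bounded complexes of injectives, K-injective).
-/

set_option autoImplicit false
set_option linter.style.haveILetI false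
set_option linter.unusedSectionVars false
set_option linter.unusedVariables false
universe u
open CategoryTheory Limits CochainComplex CochainComplex.HomComplex ZeroObject DerivedCategory
attribute [local instance] HasDerivedCategory.standard

namespace Groth.Agent.Lib.ShDualH6

open Groth.Agent.Lib.HomCx Groth.Agent.Lib.RHomKInj Groth.Agent.Lib.HomCxPreQis DRing
open Groth.Agent.Lib.DMod_helper6 Groth.Agent.Lib.BrutalTrunc Groth.Agent.Lib.BidualH6
open Groth.Agent.Lib.TrivBCH6 Groth.Agent.Lib.DerivedAdj Groth.Agent.Lib.BaseCmp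

variable {A P : Type u} [CommRing A] [CommRing P] [Algebra A P] [Module.Flat A P]

section Ext

instance quasiIso_ext_map {X Y : DRing.Cx A} (f : X ⟶ Y) [QuasiIso f] :
    QuasiIso ((DTen.extCx (algebraMap A P)).map f) := by
  show QuasiIso (((ES A P).mapHomologicalComplex (ComplexShape.up ℤ)).map f)
  infer_instance

lemma shortExact_map_ext (S : ShortComplex (DRing.Cx A)) (hS : S.ShortExact) :
    (S.map (DTen.extCx (algebraMap A P))).ShortExact := by
  haveI : PreservesFiniteLimits (DTen.extCx (algebraMap A P)) :=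
    inferInstanceAs (PreservesFiniteLimits ((ES A P).mapHomologicalComplex (ComplexShape.up ℤ)))
  haveI : PreservesFiniteColimits (DTen.extCx (algebraMap A P)) :=
    inferInstanceAs (PreservesFiniteColimits ((ES A P).mapHomologicalComplex (ComplexShape.up ℤ)))
  exact hS.map_of_exact _

lemma isoOn_ext_map {X Y : DRing.Cx A} (f : X ⟶ Y) (lo hi : ℤ) (hf : IsoOn f lo hi) :
    IsoOn ((DTen.extCx (algebraMap A P)).map f) lo hi := by
  intro p h1 h2
  haveI := hf p h1 h2
  show IsIso ((ModuleCat.extendScalars.{u, u, u} (algebraMap A P)).map (f.f p))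
  infer_instance

lemma isZero_ext_X (X : DRing.Cx A) (hX : ∀ p, IsZero (X.X p)) (p : ℤ) :
    IsZero (((DTen.extCx (algebraMap A P)).obj X).X p) :=
  (ModuleCat.extendScalars.{u, u, u} (algebraMap A P)).map_isZero (hX p)

end Ext

section Dev

variable (I : DRing.Cx A) (J : DRing.Cx P) (jb : I ⟶ (DTen.resCx (algebraMap A P)).obj J)

/-- `c_M` is a quasi-isomorphism -/
def CQis (M : DRing.Cx A) : Prop := QuasiIso (cM (algebraMap A P) I J jb M)

/-- `c_M` induces an isomorphism on `H^n` -/
def CIsoAt (M : DRing.Cx A) (n : ℤ) : Prop :=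
  IsIso (HomologicalComplex.homologyMap (cM (algebraMap A P) I J jb M) n)

lemma cQis_iff_forall (M : DRing.Cx A) : CQis I J jb M ↔ ∀ n, CIsoAt I J jb M n := by
  unfold CQis CIsoAt
  rw [quasiIso_iff]
  exact forall_congr' fun n => quasiIsoAt_iff_isIso_homologyMap _ _

lemma cIsoAt_iff {M M' : DRing.Cx A} (f : M' ⟶ M) (n : ℤ)
    (h1 : IsIso (HomologicalComplex.homologyMap
      ((DTen.extCx (algebraMap A P)).map (Dm I f)) n))
    (h2 : IsIso (HomologicalComplex.homologyMap
      (Dm J ((DTen.extCx (algebraMap A P)).map f)) n)) :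
    CIsoAt I J jb M' n ↔ CIsoAt I J jb M n := by
  have hnat : HomologicalComplex.homologyMap ((DTen.extCx (algebraMap A P)).map (Dm I f)) n ≫
      HomologicalComplex.homologyMap (cM (algebraMap A P) I J jb M') n =
      HomologicalComplex.homologyMap (cM (algebraMap A P) I J jb M) n ≫
        HomologicalComplex.homologyMap (Dm J ((DTen.extCx (algebraMap A P)).map f)) n := by
    rw [← HomologicalComplex.homologyMap_comp, ← HomologicalComplex.homologyMap_comp,
      cM_naturality]
  unfold CIsoAt
  constructor
  · intro h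
    haveI := h
    haveI : IsIso (HomologicalComplex.homologyMap (cM (algebraMap A P) I J jb M) n ≫
        HomologicalComplex.homologyMap (Dm J ((DTen.extCx (algebraMap A P)).map f)) n) := by
      rw [← hnat]; infer_instance
    exact IsIso.of_isIso_comp_right _
      (HomologicalComplex.homologyMap (Dm J ((DTen.extCx (algebraMap A P)).map f)) n)
  · intro h
    haveI := h
    haveI : IsIso (HomologicalComplex.homologyMap
        ((DTen.extCx (algebraMap A P)).map (Dm I f)) n ≫
        HomologicalComplex.homologyMap (cM (algebraMap A P) I J jb M') n) := by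
      rw [hnat]; infer_instance
    exact IsIso.of_isIso_comp_left
      (HomologicalComplex.homologyMap ((DTen.extCx (algebraMap A P)).map (Dm I f)) n) _

/-- the morphism of short complexes given by `c` -/
noncomputable def cSC (S : ShortComplex (DRing.Cx A)) :
    (DS I S).map (DTen.extCx (algebraMap A P)) ⟶
      DS J (S.map (DTen.extCx (algebraMap A P))) where
  τ₁ := cM (algebraMap A P) I J jb S.X₃
  τ₂ := cM (algebraMap A P) I J jb S.X₂
  τ₃ := cM (algebraMap A P) I J jb S.X₁
  comm₁₂ := (cM_naturality (algebraMap A P) I J jb S.g).symm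
  comm₂₃ := (cM_naturality (algebraMap A P) I J jb S.f).symm

lemma cQis_of_shortExact (hI : TermwiseInjective I) (hJ : TermwiseInjective J)
    (S : ShortComplex (DRing.Cx A)) (hS : S.ShortExact) (h₁ : CQis I J jb S.X₁)
    (h₃ : CQis I J jb S.X₃) : CQis I J jb S.X₂ :=
  quasiIso_τ₂ (cSC I J jb S) (shortExact_map_ext _ (DS_shortExact I hI S hS))
    (DS_shortExact J hJ _ (shortExact_map_ext S hS)) h₃ h₁

lemma cQis_of_isZero (M : DRing.Cx A) (hM : ∀ p, IsZero (M.X p)) : CQis I J jb M := by
  unfold CQis
  apply Groth.Agent.Lib.BidualH6.quasiIso_of_acyclic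
  · exact acyclic_of_isZero_X _ (isZero_ext_X _ (isZero_Dc_X I M hM))
  · exact acyclic_of_isZero_X _ (isZero_Dc_X J _ (isZero_ext_X M hM))

variable [I.IsKInjective] [J.IsKInjective]

lemma cQis_iff_of_quasiIso {M M' : DRing.Cx A} (f : M' ⟶ M) [QuasiIso f] :
    CQis I J jb M' ↔ CQis I J jb M := by
  haveI : QuasiIso (Dm I f) := quasiIso_Dm I f
  haveI : QuasiIso (Dm J ((DTen.extCx (algebraMap A P)).map f)) := quasiIso_Dm J _
  rw [cQis_iff_forall, cQis_iff_forall]
  exact forall_congr' fun n => cIsoAt_iff I J jb f n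
    ((quasiIsoAt_iff_isIso_homologyMap _ _).1 inferInstance)
    ((quasiIsoAt_iff_isIso_homologyMap _ _).1 inferInstance)

include jb in
theorem devClass_cQis (hI : TermwiseInjective I) (hJ : TermwiseInjective J)
    (hbase : ∀ m : ℤ, CQis I J jb (SA A m)) : DevClass (CQis I J jb) where
  of_isZero M hM := cQis_of_isZero I J jb M hM
  of_iso e' h := (cQis_iff_of_quasiIso I J jb e'.hom).1 h
  of_ses S hS h1 h3 := cQis_of_shortExact I J jb hI hJ S hS h1 h3
  of_SA m := hbase m

/-- **flat base change of duality**: `c_M` is a quasi-isomorphism for `M` with finite cohomology -/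
theorem cQis_of_finite [IsNoetherianRing A] (a b a' b' : ℤ) (hab : VanishesOutside I a b)
    (hab' : VanishesOutside J a' b') (hI : TermwiseInjective I) (hJ : TermwiseInjective J)
    (hbase : ∀ m : ℤ, CQis I J jb (SA A m))
    (M : DRing.Cx A) (hM : ∀ i, Module.Finite A (M.homology i)) : CQis I J jb M := by
  rw [cQis_iff_forall]
  intro n
  refine reduce (fun M => CIsoAt I J jb M n) (min a a' - n - 1) (max b b' - n + 1)
    ?_ ?_ ?_ M hM
  · intro K K' f hf
    haveI := hf
    haveI : QuasiIso (Dm I f) := quasiIso_Dm I f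
    haveI : QuasiIso (Dm J ((DTen.extCx (algebraMap A P)).map f)) := quasiIso_Dm J _
    exact cIsoAt_iff I J jb f n
      ((quasiIsoAt_iff_isIso_homologyMap _ _).1 inferInstance)
      ((quasiIsoAt_iff_isIso_homologyMap _ _).1 inferInstance)
  · intro K K' f hf
    refine cIsoAt_iff I J jb f n ?_ ?_
    · exact isIso_homologyMap_of_isoOn _ n (isoOn_ext_map _ _ _
        (isoOn_Dm I a b hab f (n - 1) (n + 1)
          (hf.mono (by have := min_le_left a a'; omega) (by have := le_max_left b b'; omega))))
    · exact isIso_homologyMap_of_isoOn _ n (isoOn_Dm J a' b' hab' _ (n - 1) (n + 1)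
        (isoOn_ext_map f _ _
          (hf.mono (by have := min_le_right a a'; omega) (by have := le_max_right b b'; omega))))
  · intro F d hFd hff j
    exact (cQis_iff_forall I J jb _).1
      ((devClass_cQis I J jb hI hJ hbase).of_sigmaGE F d hFd hff j) n

end Dev

end Groth.Agent.Lib.ShDualH6
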