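import Mathlib
import Groth.Prelude.Def_DRing4
import Groth.Prelude.Def_DTen4
import Groth.Prelude.Def_Wider
import Groth.Agent.Lib.ShDual2_helper6

/-!
# Flat base change of duality (helper6), part 3: the base case `M = A[-m]`.
-/

set_option autoImplicit false
set_option linter.style.haveILetI false
set_option linter.unusedSectionVars false
set_option linter.unusedVariables false
universe u
open CategoryTheory Limits CochainComplex CochainComplex.HomComplex ZeroObject DerivedCategory
attribute [local instance] HasDerivedCategory.standard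

namespace Groth.Agent.Lib.ShDualH6

open Groth.Agent.Lib.HomCx Groth.Agent.Lib.RHomKInj Groth.Agent.Lib.HomCxPreQis DRing
open Groth.Agent.Lib.DMod_helper6 Groth.Agent.Lib.BrutalTrunc Groth.Agent.Lib.BidualH6
open Groth.Agent.Lib.TrivBCH6 Groth.Agent.Lib.DerivedAdj Groth.Agent.Lib.BaseCmp

section EvNat

variable {A : Type u} [CommRing A]

/-- naturality of `evHom` in the second variable -/
lemma evHom_naturality (K : DRing.Cx A) {I I' : DRing.Cx A} (g : I ⟶ I') (p : ℤ) (x : K.X p)
    (hx : (K.d p (p + 1)).hom x = 0) :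
    DRing.homCxMap K g ≫ evHom K I' p x hx = evHom K I p x hx ≫ g⟦p⟧' := by
  ext q : 1
  rw [HomologicalComplex.comp_f, HomologicalComplex.comp_f,
    evHom_f K I' p x hx q (q + p) rfl, evHom_f K I p x hx q (q + p) rfl]
  refine ModuleCat.hom_ext (LinearMap.ext fun (z : Cochain K I q) => ?_)
  simp only [CochainComplex.shiftFunctorObjXIso, HomologicalComplex.XIsoOfEq_rfl, Iso.refl_inv,
    Category.comp_id, CochainComplex.shiftFunctor_map_f']
  change evPt K I' p q (q + p) rfl x (z.comp (Cochain.ofHom g) (add_zero q)) =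
    (g.f (q + p)).hom (evPt K I p q (q + p) rfl x z)
  rw [evPt_apply, evPt_apply, Cochain.comp_zero_cochain_v, Cochain.ofHom_v, map_zsmul_unit]
  rfl

end EvNat

section ResEv

lemma evHom_f_apply {A : Type u} [CommRing A] (K I : DRing.Cx A) (p : ℤ) (x : K.X p)
    (hx : (K.d p (p + 1)).hom x = 0) (q : ℤ) (z : Cochain K I q) :
    ((evHom K I p x hx).f q).hom z = (evPt K I p q (q + p) rfl x z : I.X (q + p)) := by
  rw [evHom_f K I p x hx q (q + p) rfl]
  simp only [CochainComplex.shiftFunctorObjXIso, HomologicalComplex.XIsoOfEq_rfl, Iso.refl_inv,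
    Category.comp_id]
  rfl

variable {A P : Type u} [CommRing A] [CommRing P] (ρ : A →+* P)

/-- the element `1 ⊗ x` of `K ⊗_A P` -/
noncomputable def eta (K : DRing.Cx A) (p : ℤ) (x : K.X p) : ((DTen.extCx ρ).obj K).X p :=
  (((DTen.unitCx ρ).app K).f p).hom x

lemma eta_cycle (K : DRing.Cx A) (p : ℤ) (x : K.X p) (hx : (K.d p (p + 1)).hom x = 0) :
    (((DTen.extCx ρ).obj K).d p (p + 1)).hom (eta ρ K p x) = 0 := by
  have h := ((DTen.unitCx ρ).app K).comm p (p + 1)
  have h2 := congrArg (fun f => f.hom x) h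
  simp only [ModuleCat.hom_comp, LinearMap.comp_apply] at h2
  have h3 : (((𝟭 (DRing.Cx A)).obj K).d p (p + 1)).hom x = 0 := hx
  rw [h3, map_zero] at h2
  exact h2

lemma res_evHom (K : DRing.Cx A) (J : DRing.Cx P) (p : ℤ) (x : K.X p)
    (hx : (K.d p (p + 1)).hom x = 0) :
    (DTen.resCx ρ).map (evHom ((DTen.extCx ρ).obj K) J p (eta ρ K p x) (eta_cycle ρ K p x hx)) =
      varpi ρ K J ≫ evHom K ((DTen.resCx ρ).obj J) p x hx ≫
        ((DTen.resCx ρ).commShiftIso p).inv.app J := by
  ext q : 1
  refine ModuleCat.hom_ext (LinearMap.ext fun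
    (w : ((DTen.resCx ρ).obj (DRing.homCx ((DTen.extCx ρ).obj K) J)).X q) => ?_)
  change ((evHom ((DTen.extCx ρ).obj K) J p (eta ρ K p x) (eta_cycle ρ K p x hx)).f q).hom
      (show Cochain ((DTen.extCx ρ).obj K) J q from w) =
    ((evHom K ((DTen.resCx ρ).obj J) p x hx).f q).hom (varpiFun ρ K J q w)
  erw [evHom_f_apply, evHom_f_apply]
  rw [evPt_apply, evPt_apply, varpiFun_v, Adjunction.homEquiv_unit]
  rfl

end ResEv

section Shift

variable {A P : Type u} [CommRing A] [CommRing P] (ρ : A →+* P)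

lemma sharp_shift {I : DRing.Cx A} {J : DRing.Cx P} (jb : I ⟶ (DTen.resCx ρ).obj J) (m : ℤ) :
    sharp ρ (jb⟦m⟧' ≫ ((DTen.resCx ρ).commShiftIso m).inv.app J) =
      ((DTen.extCx ρ).commShiftIso m).hom.app I ≫ (sharp ρ jb)⟦m⟧' := by
  ext k : 1
  rw [sharp_f, HomologicalComplex.comp_f, HomologicalComplex.comp_f,
    Functor.mapHomologicalComplex_commShiftIso_hom_app_f,
    Functor.mapHomologicalComplex_commShiftIso_inv_app_f,
    CochainComplex.shiftFunctor_map_f', CochainComplex.shiftFunctor_map_f', sharp_f]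
  erw [Category.comp_id, Category.id_comp]
  rfl

lemma quasiIso_shift_map {C : Type*} [Category C] [Abelian C] {X Y : CochainComplex C ℤ}
    (f : X ⟶ Y) [QuasiIso f] (m : ℤ) : QuasiIso (f⟦m⟧') := by
  have h : HomologicalComplex.quasiIso C (ComplexShape.up ℤ) f :=
    (HomologicalComplex.mem_quasiIso_iff f).2 inferInstance
  exact (HomologicalComplex.mem_quasiIso_iff _).1
    ((MorphismProperty.IsCompatibleWithShift.iff _ f m).2 h)

end Shift

section Base

variable {A P : Type u} [CommRing A] [CommRing P] [Algebra A P]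
variable (I : DRing.Cx A) (J : DRing.Cx P) (jb : I ⟶ (DTen.resCx (algebraMap A P)).obj J)

/-- **base case**: `c_{A[-m]}` is a quasi-isomorphism when `j : I ⊗_A P ⟶ J` is one -/
theorem cQis_SA (hj : QuasiIso (sharp (algebraMap A P) jb)) (m : ℤ) : CQis I J jb (SA A m) := by
  have hx := SA_d_apply (A := A) m m (m + 1) (one A m)
  let θ := evHom ((DTen.extCx (algebraMap A P)).obj (SA A m)) J m
    (eta (algebraMap A P) (SA A m) m (one A m)) (eta_cycle (algebraMap A P) _ m _ hx)
  have hres : (DTen.resCx (algebraMap A P)).map θ =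
      varpi (algebraMap A P) (SA A m) J ≫
        evHom (SA A m) ((DTen.resCx (algebraMap A P)).obj J) m (one A m) hx ≫
        ((DTen.resCx (algebraMap A P)).commShiftIso m).inv.app J :=
    res_evHom (algebraMap A P) (SA A m) J m (one A m) hx
  haveI : IsIso ((DTen.resCx (algebraMap A P)).map θ) := by rw [hres]; infer_instance
  haveI : IsIso θ := isIso_of_reflects_iso θ (DTen.resCx (algebraMap A P))
  have key : cM (algebraMap A P) I J jb (SA A m) ≫ θ =
      (DTen.extCx (algebraMap A P)).map (evHom (SA A m) I m (one A m) hx) ≫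
        ((DTen.extCx (algebraMap A P)).commShiftIso m).hom.app I ≫
          (sharp (algebraMap A P) jb)⟦m⟧' := by
    unfold cM
    rw [← sharp_comp, hres, ← sharp_shift, ← map_comp_sharp]
    congr 1
    rw [← Category.assoc, aM_comp_varpi, ← Category.assoc, evHom_naturality, Category.assoc]
  haveI := hj
  haveI := quasiIso_shift_map (sharp (algebraMap A P) jb) m
  unfold CQis
  haveI : QuasiIso (cM (algebraMap A P) I J jb (SA A m) ≫ θ) := by rw [key]; infer_instance
  exact quasiIso_of_comp_right _ θ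

end Base

end Groth.Agent.Lib.ShDualH6
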