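import Mathlib
import Groth.Prelude.Def_DRing4
import Groth.Prelude.Def_DTen4
import Groth.Prelude.Def_Wider
import Groth.Agent.Lib.ShDual3_helper6
import Groth.Agent.Lib.DMod107_helper6

/-!
# Duality for a ring map (helper6), part 4: the isomorphism of complexes
`Ξ : Hom•_S(G ⊗_R S, Hom_R(S, J)) ≅ Hom_R(S, Hom•_R(G, J))` and its derived consequence
`Rψ(RHom_R(G, J)) ≅ RHom_S(G ⊗_R S, Rψ J)` for `G` K-flat and `J` K-injective.
-/

set_option autoImplicit false
set_option linter.style.haveILetI false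
set_option linter.unusedSectionVars false
set_option linter.unusedVariables false
universe u
open CategoryTheory Limits CochainComplex CochainComplex.HomComplex ZeroObject DerivedCategory
attribute [local instance] HasDerivedCategory.standard

namespace Groth.Agent.Lib.ShDualH6

open Groth.Agent.Lib.HomCx Groth.Agent.Lib.RHomKInj Groth.Agent.Lib.HomCxPreQis DRing
open Groth.Agent.Lib.DMod_helper6 Groth.Agent.Lib.BrutalTrunc Groth.Agent.Lib.BidualH6
open Groth.Agent.Lib.TrivBCH6 Groth.Agent.Lib.DerivedAdj Groth.Agent.Lib.BaseCmp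

section Xi

variable {R S : Type u} [CommRing R] [CommRing S] (ψ : R →+* S) (G J : DRing.Cx R)

/-- `Ξ♭ : Hom•_S(G ⊗_R S, Hom_R(S, J))|_R ⟶ Hom•_R(G, J)` -/
noncomputable def xiFlat :
    (DTen.resCx ψ).obj (DRing.homCx ((DTen.extCx ψ).obj G) (coextCx ψ J)) ⟶ DRing.homCx G J :=
  varpi ψ G (coextCx ψ J) ≫ DRing.homCxMap G (coextCounit ψ J)

/-- `Ξ : Hom•_S(G ⊗_R S, Hom_R(S, J)) ⟶ Hom_R(S, Hom•_R(G, J))` -/
noncomputable def xi :
    DRing.homCx ((DTen.extCx ψ).obj G) (coextCx ψ J) ⟶ coextCx ψ (DRing.homCx G J) :=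
  (adjC (rcAdj ψ) (ComplexShape.up ℤ)).homEquiv _ _ (xiFlat ψ G J)

lemma xi_f_apply (k : ℤ) (w : Cochain ((DTen.extCx ψ).obj G) (coextCx ψ J) k) (b : S) :
    (ModuleCat.CoextendScalars.equiv ψ _ (((xi ψ G J).f k).hom w)) b =
      ((xiFlat ψ G J).f k).hom (b • w) := by
  rfl

lemma xiFlat_f_apply_v (k : ℤ) (w : Cochain ((DTen.extCx ψ).obj G) (coextCx ψ J) k)
    (p q : ℤ) (h : p + k = q) :
    (show Cochain G J k from ((xiFlat ψ G J).f k).hom w).v p q h =
      (adj0 ψ).homEquiv _ _ (w.v p q h) ≫ (rcAdj ψ).counit.app (J.X q) := by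
  change ((varpiFun ψ G (coextCx ψ J) k w).comp (Cochain.ofHom (coextCounit ψ J))
    (add_zero k)).v p q h = _
  rw [Cochain.comp_zero_cochain_v, Cochain.ofHom_v, varpiFun_v]
  rfl

lemma key_apply (k : ℤ) (w : Cochain ((DTen.extCx ψ).obj G) (coextCx ψ J) k)
    (p q : ℤ) (h : p + k = q) (b : S) (g : G.X p) :
    ((show Cochain G J k from ((xiFlat ψ G J).f k).hom (b • w)).v p q h).hom g =
      ModuleCat.CoextendScalars.equiv ψ _ ((w.v p q h).hom (eta ψ G p g)) b := by
  rw [xiFlat_f_apply_v, Cochain.smul_v, Adjunction.homEquiv_unit]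
  have key : ∀ y : (ModuleCat.coextendScalars ψ).obj (J.X q),
      ModuleCat.CoextendScalars.equiv ψ _ (b • y) (1 : S) =
        ModuleCat.CoextendScalars.equiv ψ _ y b := fun y => by
    show ModuleCat.CoextendScalars.equiv ψ _ y ((1 : S) * b) = _
    rw [one_mul]
  exact key _


lemma homEquiv_hom_apply {X : ModuleCat.{u} R} {Y : ModuleCat.{u} S}
    (f : (ModuleCat.extendScalars.{u, u, u} ψ).obj X ⟶ Y) (x : X) :
    ((adj0 ψ).homEquiv X Y f).hom x = f.hom (((adj0 ψ).unit.app X).hom x) := by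
  rw [Adjunction.homEquiv_unit]
  rfl

lemma injective_xi_f (k : ℤ) : Function.Injective ((xi ψ G J).f k).hom := by
  rw [injective_iff_map_eq_zero]
  intro (w : Cochain ((DTen.extCx ψ).obj G) (coextCx ψ J) k) hw
  show w = (0 : Cochain ((DTen.extCx ψ).obj G) (coextCx ψ J) k)
  refine Cochain.ext _ _ (fun p q h => ?_)
  rw [Cochain.zero_v]
  apply ((adj0 ψ).homEquiv _ _).injective
  refine ModuleCat.hom_ext (LinearMap.ext fun g => ?_)
  rw [homEquiv_hom_apply, homEquiv_hom_apply]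
  apply (ModuleCat.CoextendScalars.equiv ψ (J.X q)).injective
  apply LinearMap.ext
  intro (b : S)
  have h1 := key_apply ψ G J k w p q h b g
  have h2 := xi_f_apply ψ G J k w b
  rw [hw] at h2
  have h3 : ((xiFlat ψ G J).f k).hom (b • w) = 0 := h2.symm
  rw [h3] at h1
  exact h1.symm.trans rfl


/-- the `R`-linear map `S → J^q`, `b ↦ F(b)_{p,q}(g)` -/
noncomputable def surjInner (k : ℤ)
    (F : (ModuleCat.restrictScalars.{u} ψ).obj (ModuleCat.of S S) →ₗ[R] Cochain G J k)
    (p q : ℤ) (h : p + k = q) (g : G.X p) :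
    (ModuleCat.restrictScalars.{u} ψ).obj (ModuleCat.of S S) →ₗ[R] J.X q where
  toFun b := ((F b).v p q h).hom g
  map_add' b b' := by rw [map_add, Cochain.add_v]; rfl
  map_smul' r b := by rw [map_smul, Cochain.smul_v]; rfl

/-- the `R`-linear map `G^p → Hom_R(S, J^q)|_R` -/
noncomputable def surjOuter (k : ℤ)
    (F : (ModuleCat.restrictScalars.{u} ψ).obj (ModuleCat.of S S) →ₗ[R] Cochain G J k)
    (p q : ℤ) (h : p + k = q) :
    G.X p →ₗ[R] (ModuleCat.restrictScalars.{u} ψ).obj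
      ((ModuleCat.coextendScalars ψ : ModuleCat.{u} R ⥤ ModuleCat.{u} S).obj (J.X q)) where
  toFun g := (ModuleCat.CoextendScalars.equiv ψ (J.X q)).symm (surjInner ψ G J k F p q h g)
  map_add' g g' := by
    apply (ModuleCat.CoextendScalars.equiv ψ (J.X q)).injective
    apply LinearMap.ext
    intro (b : S)
    show ((F b).v p q h).hom (g + g') = ((F b).v p q h).hom g + ((F b).v p q h).hom g'
    rw [map_add]
  map_smul' r g := by
    apply (ModuleCat.CoextendScalars.equiv ψ (J.X q)).injective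
    apply LinearMap.ext
    intro (b : S)
    show ((F b).v p q h).hom (r • g) = ((F (b * ψ r : S)).v p q h).hom g
    have h1 : F (b * ψ r : S) = r • F b := by
      rw [← F.map_smul]
      congr 1
      show b * ψ r = ψ r * b
      exact mul_comm _ _
    rw [h1, Cochain.smul_v, map_smul]
    rfl

lemma surjective_xi_f (k : ℤ) : Function.Surjective ((xi ψ G J).f k).hom := by
  intro F₀
  let F := ModuleCat.CoextendScalars.equiv ψ _ F₀
  let w : Cochain ((DTen.extCx ψ).obj G) (coextCx ψ J) k :=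
    Cochain.mk (fun p q h => ((adj0 ψ).homEquiv (G.X p) ((coextCx ψ J).X q)).symm
      (ModuleCat.ofHom (X := G.X p) (Y := (ModuleCat.restrictScalars.{u} ψ).obj
          ((ModuleCat.coextendScalars ψ : ModuleCat.{u} R ⥤ ModuleCat.{u} S).obj (J.X q)))
        (surjOuter ψ G J k F p q h)))
  refine ⟨w, ?_⟩
  apply (ModuleCat.CoextendScalars.equiv ψ _).injective
  apply LinearMap.ext
  intro (b : S)
  rw [xi_f_apply]
  show (show Cochain G J k from ((xiFlat ψ G J).f k).hom (b • w)) = F b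
  refine Cochain.ext _ _ (fun p q h => ?_)
  refine ModuleCat.hom_ext (LinearMap.ext fun g => ?_)
  rw [key_apply, Cochain.mk_v]
  have h5 := homEquiv_hom_apply ψ (((adj0 ψ).homEquiv (G.X p) ((coextCx ψ J).X q)).symm
      (ModuleCat.ofHom (X := G.X p) (Y := (ModuleCat.restrictScalars.{u} ψ).obj
          ((ModuleCat.coextendScalars ψ : ModuleCat.{u} R ⥤ ModuleCat.{u} S).obj (J.X q)))
        (surjOuter ψ G J k F p q h))) g
  rw [Equiv.apply_symm_apply] at h5
  exact congrFun (congrArg DFunLike.coe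
    (congrArg (ModuleCat.CoextendScalars.equiv ψ (J.X q)) h5.symm)) b


instance isIso_xi : IsIso (xi ψ G J) := by
  haveI : ∀ k, IsIso ((xi ψ G J).f k) := fun k =>
    (ConcreteCategory.isIso_iff_bijective _).2 ⟨injective_xi_f ψ G J k, surjective_xi_f ψ G J k⟩
  exact HomologicalComplex.Hom.isIso_of_components _

/-- `Rψ(RHom_R(G, J)) ≅ RHom_S(G ⊗_R S, Hom_R(S, J))` -/
theorem nonempty_rightAdj_homCx_iso (Rψ : Dual.D R ⥤ Dual.D S) (adj : DRing.restrictD ψ ⊣ Rψ)
    [J.IsKInjective] (hG : Groth.Agent.Lib.KFlatMod.KF R G) :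
    Nonempty (Rψ.obj (toD (DRing.homCx G J)) ≅
      toD (DRing.homCx ((DTen.extCx ψ).obj G) (coextCx ψ J))) := by
  haveI : (DRing.homCx G J).IsKInjective := isKInjective_homCx G J hG
  haveI := isIso_coextToRight Rψ adj (DRing.homCx G J) (Iso.refl _)
  exact ⟨(asIso (coextToRight Rψ adj (DRing.homCx G J) (Iso.refl _))).symm ≪≫
    (Q.mapIso (asIso (xi ψ G J))).symm⟩

end Xi

end Groth.Agent.Lib.ShDualH6
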