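import Mathlib
import Groth.Prelude.Def_DRing4
import Groth.Prelude.Def_DTen4
import Groth.Prelude.Def_Wider
import Groth.Agent.Lib.ShDual4_helper6
import Groth.Agent.Lib.KInjAdj_helper7
import Groth.Agent.Lib.Bidual9_helper6
import Groth.Agent.Lib.DMod79_helper6
import Groth.Agent.Lib.ExtKFlat_helper2

/-!
# Duality for a ring map (helper6), part 5: shift of the Hom complex in the second variable,
coextension preserves K-injectives, transitivity of extension of scalars, and the packaged flat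
base change of duality.
-/

set_option autoImplicit false
set_option linter.style.haveILetI false
set_option linter.unusedSectionVars false
set_option linter.unusedVariables false
universe u
open CategoryTheory Limits CochainComplex CochainComplex.HomComplex ZeroObject DerivedCategory
attribute [local instance] HasDerivedCategory.standard

namespace Groth.Agent.Lib.ShDualH6

open Groth.Agent.Lib.HomCx Groth.Agent.Lib.RHomKInj Groth.Agent.Lib.HomCxPreQis DRing
open Groth.Agent.Lib.DMod_helper6 Groth.Agent.Lib.BrutalTrunc Groth.Agent.Lib.BidualH6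
open Groth.Agent.Lib.TrivBCH6 Groth.Agent.Lib.DerivedAdj Groth.Agent.Lib.BaseCmp

section HomShift

variable {A : Type u} [CommRing A] (E Z : DRing.Cx A) (n : ℤ)

/-- `Hom•(E, Z)⟦n⟧ ≅ Hom•(E, Z⟦n⟧)` -/
noncomputable def homShiftIso : (DRing.homCx E Z)⟦n⟧ ≅ DRing.homCx E (Z⟦n⟧) :=
  HomologicalComplex.Hom.isoOfComponents
    (fun k => (Cochain.rightShiftLinearEquiv A E Z (k + n) n k rfl).toModuleIso) (by
    intro k k' _
    refine ModuleCat.hom_ext (LinearMap.ext fun (z : Cochain E Z (k + n)) => ?_)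
    change δ k k' (z.rightShift n k rfl) =
      (((n.negOnePow : ℤˣ) • δ (k + n) (k' + n) z : Cochain E Z (k' + n))).rightShift n k' rfl
    rw [Cochain.δ_rightShift z n k k' rfl (k' + n) rfl, Cochain.rightShift_units_smul])

end HomShift

section CoextKInj

variable {R S : Type u} [CommRing R] [CommRing S] (ψ : R →+* S)

instance isKInjective_coextCx (J : DRing.Cx R) [J.IsKInjective] : (coextCx ψ J).IsKInjective :=
  Groth.Agent.Lib.KInjAdj_helper7.isKInjective_map (rcAdj ψ) J

end CoextKInj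

section Trans

variable {R₁ R₂ R₃ : Type u} [CommRing R₁] [CommRing R₂] [CommRing R₃]

/-- transitivity of termwise extension of scalars -/
lemma nonempty_extCx_comp_iso (f : R₁ →+* R₂) (g : R₂ →+* R₃) (h : R₁ →+* R₃)
    (hh : g.comp f = h) (M : DRing.Cx R₁) :
    Nonempty ((DTen.extCx h).obj M ≅ (DTen.extCx g).obj ((DTen.extCx f).obj M)) := by
  subst hh
  exact ⟨(NatIso.mapHomologicalComplex (ModuleCat.extendScalarsComp f g)
    (ComplexShape.up ℤ)).app M ≪≫ Iso.refl _⟩

end Trans

section PartA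

variable {A P : Type u} [CommRing A] [CommRing P] [IsNoetherianRing A] [IsNoetherianRing P]
  [Algebra A P] [Module.Flat A P] [DRing.HasLBaseChange (algebraMap A P)]

/-- flat base change of duality, packaged -/
theorem exists_flat_bc_dual (ω : Dual.D A) (hω : Dual.IsDualizing A ω)
    (hωP : Dual.IsDualizing P ((DRing.LBaseChange (algebraMap A P)).obj ω))
    (K : DRing.Cx A) [DRing.HasRHomCx K]
    (hK : ∀ i : ℤ, Module.Finite A (Dual.HD A (DRing.toD K) i)) :
    ∃ (M' : DRing.Cx A) (J : DRing.Cx P), M'.IsKProjective ∧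
      Groth.Agent.Lib.KFlatMod.KF A M' ∧ J.IsKInjective ∧
      Nonempty (toD J ≅ (DRing.LBaseChange (algebraMap A P)).obj ω) ∧
      Nonempty ((DRing.LBaseChange (algebraMap A P)).obj (toD K) ≅
        toD (DRing.homCx ((DTen.extCx (algebraMap A P)).obj M') J)) ∧
      Nonempty (toD M' ≅ (DRing.RHomCx K).obj ω) := by
  obtain ⟨I, a, b, hab, hI, hinj, hKI, ⟨eI⟩⟩ := exists_injective_rep ω hω
  obtain ⟨J, a', b', hab', hJ, hJinj, hKJ, ⟨eJ⟩⟩ := exists_injective_rep _ hωP
  haveI := hKI
  haveI := hKJ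
  obtain ⟨eL⟩ := nonempty_lBaseChange_iso_bcD (A := A) (B := P)
  -- `L(Q X) ≅ Q(X ⊗ P)`
  have e₁ : ∀ X : DRing.Cx A, (DRing.LBaseChange (algebraMap A P)).obj (toD X) ≅
      toD ((DTen.extCx (algebraMap A P)).obj X) := fun X => eL.app (toD X) ≪≫ bcDIso X
  -- the quasi-isomorphism `j : I ⊗ P ⟶ J`
  let α : toD ((DTen.extCx (algebraMap A P)).obj I) ≅ toD J :=
    (e₁ I).symm ≪≫ (DRing.LBaseChange (algebraMap A P)).mapIso eI ≪≫ eJ.symm
  obtain ⟨j, hj⟩ := exists_Q_map_eq_of_isKInjective (E := (DTen.extCx (algebraMap A P)).obj I)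
    (F := J) α.hom
  have hjq : QuasiIso j := by
    rw [← isIso_Q_map_iff_quasiIso (C := ModuleCat.{u} P), hj]
    infer_instance
  let jb : I ⟶ (DTen.resCx (algebraMap A P)).obj J := (erAdj (algebraMap A P)).homEquiv I J j
  have hsharp : sharp (algebraMap A P) jb = j := Equiv.symm_apply_apply _ _
  have hbase : ∀ m : ℤ, CQis I J jb (SA A m) := fun m =>
    cQis_SA I J jb (by rw [hsharp]; exact hjq) m
  -- the dual of `K` and its K-projective resolution
  have hK' := finite_homology_of_finite_HD K hK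
  have hM : ∀ i, Module.Finite A ((Dc I K).homology i) := dFin_of_finite I a b hI hinj ω eI hω K hK'
  obtain ⟨M', π, hπ, hM'P, hM'F, -⟩ := Groth.Agent.Lib.KProjRes.exists_kproj_resolution (Dc I K)
  haveI := hπ
  haveI := hM'P
  have hM' : ∀ i, Module.Finite A (M'.homology i) := fun i => by
    haveI : IsIso (HomologicalComplex.homologyMap π i) :=
      (quasiIsoAt_iff_isIso_homologyMap _ _).1 inferInstance
    exact finite_of_iso (asIso (HomologicalComplex.homologyMap π i)).symm (hM i)
  -- `K ⟶ Hom(M', I)`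
  haveI : QuasiIso (ev K I) := evQis_of_finite I a b hab hI hinj ω eI hω K hK'
  haveI : QuasiIso (Dm I π) := quasiIso_Dm I π
  have hc : QuasiIso (cM (algebraMap A P) I J jb M') :=
    cQis_of_finite I J jb a b a' b' hI hJ hinj hJinj hbase M' hM'
  haveI := hc
  haveI : IsIso (Q.map ((DTen.extCx (algebraMap A P)).map (ev K I ≫ Dm I π))) :=
    (isIso_Q_map_iff_quasiIso (C := ModuleCat.{u} P) _).2 inferInstance
  haveI : IsIso (Q.map (cM (algebraMap A P) I J jb M')) :=
    (isIso_Q_map_iff_quasiIso (C := ModuleCat.{u} P) _).2 inferInstance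
  haveI : IsIso (Q.map π) := (isIso_Q_map_iff_quasiIso (C := ModuleCat.{u} A) _).2 inferInstance
  obtain ⟨e1⟩ := nonempty_RHomCx_iso_of_kinj K I
  have eK : (DRing.RHomCx K).obj ω ≅ toD (Dc I K) := (DRing.RHomCx K).mapIso eI.symm ≪≫ e1
  refine ⟨M', J, hM'P, hM'F, hKJ, ⟨eJ⟩, ⟨?_⟩, ⟨asIso (Q.map π) ≪≫ eK.symm⟩⟩
  exact e₁ K ≪≫ asIso (Q.map ((DTen.extCx (algebraMap A P)).map (ev K I ≫ Dm I π))) ≪≫
    asIso (Q.map (cM (algebraMap A P) I J jb M'))

end PartA

end Groth.Agent.Lib.ShDualH6
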