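import Mathlib
import Groth.Prelude.Def_DRing4
import Groth.Prelude.Def_DTen4
import Groth.Prelude.Def_Wider
import Groth.Prelude.Def_DualSh
import Groth.Agent.Lib.ShDual5_helper6
import Groth.Agent.Lib.DMod48_helper6
import Groth.Agent.Lib.KProjAdj_helper2
import Groth.Agent.Lib.PolyDual3_helper2

/-!
# Duality for a ring map (helper6), part 6: `φ^!(K) ≅ RHom_B(D_A(K) ⊗^L_A B, φ^! ω)` (S8956).
-/

set_option autoImplicit false
set_option linter.style.haveILetI false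
set_option linter.unusedSectionVars false
set_option linter.unusedVariables false
universe u
open CategoryTheory Limits CochainComplex CochainComplex.HomComplex ZeroObject DerivedCategory
attribute [local instance] HasDerivedCategory.standard

namespace Groth.Agent.Lib.ShDualH6

open Groth.Agent.Lib.HomCx Groth.Agent.Lib.RHomKInj Groth.Agent.Lib.HomCxPreQis DRing
open Groth.Agent.Lib.DMod_helper6 Groth.Agent.Lib.BrutalTrunc Groth.Agent.Lib.BidualH6
open Groth.Agent.Lib.TrivBCH6 Groth.Agent.Lib.DerivedAdj Groth.Agent.Lib.BaseCmp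

section PartB

variable {A P B : Type u} [CommRing A] [CommRing P] [CommRing B] [IsNoetherianRing A]
  [IsNoetherianRing P] [Algebra A P] [Module.Flat A P] [Algebra A B]
  [DRing.HasLBaseChange (algebraMap A P)] [DRing.HasLBaseChange (algebraMap A B)]

/-- the core of S8956 -/
theorem shriek_dual_core (ψ : P →+* B) (hψ : ψ.comp (algebraMap A P) = algebraMap A B)
    (Rψ : Dual.D P ⥤ Dual.D B) (adj : DRing.restrictD ψ ⊣ Rψ)
    (ω : Dual.D A) (hω : Dual.IsDualizing A ω)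
    (hωP : Dual.IsDualizing P ((DRing.LBaseChange (algebraMap A P)).obj ω))
    (K : DRing.Cx A) [DRing.HasRHomCx K]
    (hK : ∀ i : ℤ, Module.Finite A (Dual.HD A (DRing.toD K) i))
    (E : DRing.Cx B) [DRing.HasRHomCx E]
    (hE : Nonempty (DRing.toD E ≅
      (DRing.LBaseChange (algebraMap A B)).obj ((DRing.RHomCx K).obj ω))) (n : ℤ) :
    Nonempty ((Rψ.obj ((DRing.LBaseChange (algebraMap A P)).obj (DRing.toD K)))⟦n⟧ ≅
      (DRing.RHomCx E).obj ((Rψ.obj ((DRing.LBaseChange (algebraMap A P)).obj ω))⟦n⟧)) := by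
  obtain ⟨M', J, hM'P, hM'F, hKJ, ⟨eJ⟩, ⟨f⟩, ⟨eM⟩⟩ := exists_flat_bc_dual (P := P) ω hω hωP K hK
  obtain ⟨eE⟩ := hE
  haveI := hM'P
  haveI := hKJ
  -- notation
  let G : DRing.Cx P := (DTen.extCx (algebraMap A P)).obj M'
  let E' : DRing.Cx B := (DTen.extCx ψ).obj G
  let Z : DRing.Cx B := coextCx ψ J
  have hGF : Groth.Agent.Lib.KFlatMod.KF P G := Groth.Agent.Lib.ExtKFlat.kf_ext (R := A) (R' := P) M' hM'F
  haveI : G.IsKProjective := Groth.Agent.Lib.KProjAdj.isKProjective_extendScalars _ M'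
  haveI : E'.IsKProjective := Groth.Agent.Lib.KProjAdj.isKProjective_extendScalars ψ G
  -- left hand side
  obtain ⟨g₁⟩ := nonempty_rightAdj_homCx_iso ψ G J Rψ adj hGF
  have lhs : (Rψ.obj ((DRing.LBaseChange (algebraMap A P)).obj (DRing.toD K)))⟦n⟧ ≅
      (toD (DRing.homCx E' Z))⟦n⟧ :=
    (CategoryTheory.shiftFunctor (Dual.D B) n).mapIso (Rψ.mapIso f ≪≫ g₁)
  -- `E' ⟶ E`
  obtain ⟨tr⟩ := nonempty_extCx_comp_iso (algebraMap A P) ψ (algebraMap A B) hψ M'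
  obtain ⟨eL⟩ := nonempty_lBaseChange_iso_of_isKProjective (algebraMap A B) M'
  have eE' : toD E' ≅ toD E :=
    (Q.mapIso tr).symm ≪≫ eL.symm ≪≫
      (DRing.LBaseChange (algebraMap A B)).mapIso eM ≪≫ eE.symm
  obtain ⟨t, ht, -⟩ := Groth.Agent.PerfectCx.exists_quasiIso_of_iso E' E eE'
  haveI := ht
  -- right hand side
  haveI := isIso_coextToRight Rψ adj J (Iso.refl _)
  have eZ : Rψ.obj ((DRing.LBaseChange (algebraMap A P)).obj ω) ≅ toD Z :=
    Rψ.mapIso eJ.symm ≪≫ (asIso (coextToRight Rψ adj J (Iso.refl _))).symm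
  have eZn : (Rψ.obj ((DRing.LBaseChange (algebraMap A P)).obj ω))⟦n⟧ ≅ toD (Z⟦n⟧) :=
    (CategoryTheory.shiftFunctor (Dual.D B) n).mapIso eZ ≪≫ ((Q.commShiftIso n).app Z).symm
  obtain ⟨r₁'⟩ := nonempty_RHomCx_iso_of_kinj E (Z⟦n⟧)
  have r₁ : (DRing.RHomCx E).obj (toD (Z⟦n⟧)) ≅ toD (DRing.homCx E (Z⟦n⟧)) := r₁'
  haveI : QuasiIso (homCxPre t (Z⟦n⟧)) := quasiIso_homCxPre t (Z⟦n⟧)
  haveI : IsIso (Q.map (homCxPre t (Z⟦n⟧))) :=
    (isIso_Q_map_iff_quasiIso (C := ModuleCat.{u} B) _).2 inferInstance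
  have rhs : (DRing.RHomCx E).obj
      ((Rψ.obj ((DRing.LBaseChange (algebraMap A P)).obj ω))⟦n⟧) ≅
      (toD (DRing.homCx E' Z))⟦n⟧ :=
    (DRing.RHomCx E).mapIso eZn ≪≫ r₁ ≪≫ asIso (Q.map (homCxPre t (Z⟦n⟧))) ≪≫
      Q.mapIso (homShiftIso E' Z n).symm ≪≫ (Q.commShiftIso n).app (DRing.homCx E' Z)
  exact ⟨lhs ≪≫ rhs.symm⟩

end PartB


/-- S8956. -/
theorem main8956 (A B : Type u) [CommRing A] [CommRing B] [IsNoetherianRing A]
    [IsNoetherianRing B] [Algebra A B] (n : ℕ) (ψ : MvPolynomial (Fin n) A →ₐ[A] B)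
    [DRing.HasLBaseChange (algebraMap A (MvPolynomial (Fin n) A))]
    (Rψ : Dual.D (MvPolynomial (Fin n) A) ⥤ Dual.D B)
    (adj : DRing.restrictD ψ.toRingHom ⊣ Rψ) [DRing.HasLBaseChange (algebraMap A B)]
    (ω : Dual.D A) (hω : Dual.IsDualizing A ω) (K : DRing.Cx A) [DRing.HasRHomCx K]
    (hK : ∀ i : ℤ, Module.Finite A (Dual.HD A (DRing.toD K) i)) (E : DRing.Cx B)
    [DRing.HasRHomCx E]
    (hE : Nonempty (DRing.toD E ≅
      (DRing.LBaseChange (algebraMap A B)).obj ((DRing.RHomCx K).obj ω))) :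
    Nonempty (Dual2.shriekVia n Rψ (DRing.toD K) ≅
      (DRing.RHomCx E).obj (Dual2.shriekVia n Rψ ω)) := by
  obtain ⟨e⟩ := nonempty_lBaseChange_iso_bcD (A := A) (B := MvPolynomial (Fin n) A)
  have hωP : Dual.IsDualizing (MvPolynomial (Fin n) A)
      ((DRing.LBaseChange (algebraMap A (MvPolynomial (Fin n) A))).obj ω) :=
    isDualizing_of_iso (e.app ω).symm
      (Groth.Agent.Lib.PolyDual.isDualizing_bcD_mvPolynomial A ω hω n)
  exact shriek_dual_core ψ.toRingHom ψ.comp_algebraMap Rψ adj ω hω hωP K hK E hE (n : ℤ)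

end Groth.Agent.Lib.ShDualH6
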