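import Mathlib
import Groth.Prelude.Def_Hensel
import Groth.Prelude.Def_EssEt
import Groth.Prelude.Def_PBC
import Groth.Agent.Lib.FlatIndEtale_helper3

/-!
# Essentially finite type local subalgebras of ind-étale local algebras (helper3)

If `S` is a local ind-étale `A`-algebra with local structure map and `D ⊆ S` is an `A`-subalgebra
essentially of finite type over `A`, then `D` is contained in a local essentially étale
`A`-subalgebra of `S`.
-/

set_option autoImplicit false
universe u

namespace Groth.Agent.Lib.ShEssEtH3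

open IsLocalRing

variable (A S : Type u) [CommRing A] [IsLocalRing A] [CommRing S] [IsLocalRing S] [Algebra A S]
  [IsLocalHom (algebraMap A S)]

theorem main (hie : EtPBC.IsIndEtale A S) (D : Subalgebra A S) [Algebra.EssFiniteType A D] :
    ∃ E : Subalgebra A S, D ≤ E ∧ ∃ _ : IsLocalRing E, EGA4loc.IsEssentiallyEtale A E := by
  classical
  haveI : Module.Flat A S := Groth.Agent.Lib.IndEtaleH3.flat_of_isIndEtale hie
  obtain ⟨σ, hσ⟩ := (Algebra.essFiniteType_iff A D).1 (inferInstance : Algebra.EssFiniteType A D)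
  obtain ⟨C, _, _, hC, f, hf⟩ := Groth.Agent.Lib.IndEtaleH3.exists_finset_of_isIndEtale hie
    (σ.image (fun d : D => (d : S)))
  haveI := hC
  have hadj : ∀ z : D, z ∈ Algebra.adjoin A (σ : Set D) → (z : S) ∈ f.range := by
    intro z hz
    have h1 : (Algebra.adjoin A (σ : Set D)).map D.val ≤ f.range := by
      rw [AlgHom.map_adjoin]
      apply Algebra.adjoin_le
      rintro _ ⟨d, hd, rfl⟩
      exact hf _ (Finset.mem_image_of_mem _ hd)
    exact h1 ⟨z, hz, rfl⟩
  let q : Ideal C := (maximalIdeal S).comap f.toRingHom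
  haveI : q.IsPrime := Ideal.comap_isPrime _ _
  have hq : q.comap (algebraMap A C) = maximalIdeal A := by
    show ((maximalIdeal S).comap f.toRingHom).comap (algebraMap A C) = maximalIdeal A
    rw [Ideal.comap_comap]
    have : f.toRingHom.comp (algebraMap A C) = algebraMap A S := f.comp_algebraMap
    rw [this]
    exact ((local_hom_TFAE (algebraMap A S)).out 0 4).mp ‹IsLocalHom (algebraMap A S)›
  have hmem : ∀ y : C, y ∈ q ↔ ¬ IsUnit (f y) := by
    intro y
    show y ∈ (maximalIdeal S).comap f.toRingHom ↔ _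
    rw [Ideal.mem_comap, mem_maximalIdeal, mem_nonunits_iff]
    rfl
  have hunits : ∀ y : q.primeCompl, IsUnit (f y) := fun y => by
    have := y.2
    change (y : C) ∉ q at this
    rwa [hmem, not_not] at this
  let fh : Localization.AtPrime q →ₐ[A] S :=
    IsLocalization.liftAlgHom (M := q.primeCompl) (f := f) hunits
  have hfh : ∀ y : C, fh (algebraMap C _ y) = f y := fun y => by
    rw [IsLocalization.liftAlgHom_apply, IsLocalization.lift_eq]
    rfl
  letI algCS : Algebra C S := f.toRingHom.toAlgebra
  haveI : IsScalarTower A C S := IsScalarTower.of_algebraMap_eq fun a => (f.commutes a).symm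
  haveI : Module.Flat C S := Groth.Agent.Lib.IndEtaleH3.flat_of_flat_of_unramified A C S
  letI algLS : Algebra (Localization.AtPrime q) S := fh.toRingHom.toAlgebra
  haveI : IsScalarTower C (Localization.AtPrime q) S :=
    IsScalarTower.of_algebraMap_eq fun c => (hfh c).symm
  haveI : Module.Flat (Localization.AtPrime q) S :=
    (Module.flat_iff_of_isLocalization (Localization.AtPrime q) q.primeCompl S).2 inferInstance
  haveI : IsLocalHom (algebraMap (Localization.AtPrime q) S) := by
    refine ⟨fun x hx => ?_⟩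
    have hx' : IsUnit (fh x) := hx
    obtain ⟨c, s, rfl⟩ := IsLocalization.exists_mk'_eq q.primeCompl x
    have h1 : fh (IsLocalization.mk' _ c s) * f s = f c := by
      rw [← hfh s, ← map_mul, IsLocalization.mk'_spec, hfh]
    have h2 : IsUnit (f c) := by
      rw [← h1]
      exact hx'.mul (hunits s)
    have h3 : c ∉ q := by
      rw [hmem, not_not]
      exact h2
    exact (IsLocalization.AtPrime.isUnit_mk'_iff (Localization.AtPrime q) q c s).2 h3
  haveI : Module.FaithfullyFlat (Localization.AtPrime q) S :=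
    Module.FaithfullyFlat.of_flat_of_isLocalHom
  have hinj : Function.Injective fh :=
    FaithfulSMul.algebraMap_injective (Localization.AtPrime q) S
  let e : Localization.AtPrime q ≃ₐ[A] fh.range := AlgEquiv.ofInjective fh hinj
  refine ⟨fh.range, ?_, e.toRingEquiv.isLocalRing, ⟨C, _, _, q, _, hC, hq, ⟨e.symm⟩⟩⟩
  intro x hx
  obtain ⟨t, ht, htu, hxt⟩ := hσ ⟨x, hx⟩
  obtain ⟨ct, hct⟩ := hadj t ht
  obtain ⟨cx, hcx⟩ := hadj _ hxt
  have hut : IsUnit (t : S) := htu.map D.val
  have hctq : ct ∈ q.primeCompl := by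
    show ct ∉ q
    rw [hmem, not_not]
    have : f ct = (t : S) := hct
    rw [this]
    exact hut
  refine ⟨IsLocalization.mk' _ cx ⟨ct, hctq⟩, ?_⟩
  have h1 : fh (IsLocalization.mk' _ cx ⟨ct, hctq⟩) * f ct = f cx := by
    rw [← hfh ct, ← map_mul, IsLocalization.mk'_spec, hfh]
  apply hut.mul_left_injective
  show fh _ * (t : S) = x * (t : S)
  have h2 : f ct = (t : S) := hct
  have h3 : f cx = x * (t : S) := hcx
  rw [← h2, h1, h3, h2]

end Groth.Agent.Lib.ShEssEtH3
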