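import Mathlib
set_option autoImplicit false
set_option linter.style.haveILetI false
open CategoryTheory CategoryTheory.Limits MonoidalCategory CartesianMonoidalCategory MonObj Opposite
universe u
/-!
# Abelian sheaves as commutative group objects in sheaves of sets (helper4)

`E J : Sheaf J AddCommGrpCat ⥤ CommGrp (Sheaf J (Type u))` is an equivalence (`FS`, `EObj`, `E`, `abObj`, `abIso`),
compatible with pushforward along a continuous functor (`compat`).  Consequence (`main`): if the pullback of
sheaves of sets along a continuous functor between small sites is left exact, so is the pullback of abelian sheaves.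
-/
namespace Groth.Agent.Lib.ShGrpObjH4
variable {C : Type u} [SmallCategory C] (J : GrothendieckTopology C)

/-- forgetful functor from abelian sheaves to sheaves of sets -/
noncomputable abbrev FS : Sheaf J AddCommGrpCat.{u} ⥤ Sheaf J (Type u) :=
  sheafCompose J (forget AddCommGrpCat.{u})

variable {J}

noncomputable scoped instance (priority := 2000) shMon : MonoidalCategory (Sheaf J (Type u)) :=
  SemiCartesianMonoidalCategory.toMonoidalCategory

noncomputable scoped instance (priority := 2000) shBraided : BraidedCategory (Sheaf J (Type u)) :=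
  BraidedCategory.ofCartesianMonoidalCategory

variable (G : Sheaf J AddCommGrpCat.{u})

noncomputable def oneHom : 𝟙_ (Sheaf J (Type u)) ⟶ (FS J).obj G :=
  ⟨{ app := fun U => ↾(fun _ => (0 : G.obj.obj U))
     naturality := fun U V f => by
       apply TypeCat.homEquiv.injective
       funext x
       exact (map_zero (G.obj.map f).hom).symm }⟩

noncomputable def mulHom : (FS J).obj G ⊗ (FS J).obj G ⟶ (FS J).obj G :=
  ⟨{ app := fun U => ↾(fun p : ↑(G.obj.obj U) × ↑(G.obj.obj U) => p.1 + p.2)
     naturality := fun U V f => by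
       apply TypeCat.homEquiv.injective
       funext (x : ↑(G.obj.obj U) × ↑(G.obj.obj U))
       exact (map_add (G.obj.map f).hom x.1 x.2).symm }⟩

noncomputable def invHom : (FS J).obj G ⟶ (FS J).obj G :=
  ⟨{ app := fun U => ↾(fun p : ↑(G.obj.obj U) => -p)
     naturality := fun U V f => by
       apply TypeCat.homEquiv.injective
       funext (x : ↑(G.obj.obj U))
       exact (map_neg (G.obj.map f).hom x).symm }⟩

@[simp] lemma oneHom_app (U : Cᵒᵖ) (x : PUnit) : (oneHom G).hom.app U x = (0 : G.obj.obj U) := rfl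
@[simp] lemma mulHom_app (U : Cᵒᵖ) (a b : G.obj.obj U) : (mulHom G).hom.app U (a, b) = a + b := rfl
@[simp] lemma invHom_app (U : Cᵒᵖ) (a : G.obj.obj U) : (invHom G).hom.app U a = -a := rfl

noncomputable instance grpObj : GrpObj ((FS J).obj G) where
  one := oneHom G
  mul := mulHom G
  inv := invHom G
  one_mul := by
    apply Sheaf.hom_ext
    apply NatTrans.ext
    funext U
    apply TypeCat.homEquiv.injective
    funext (x : PUnit × ↑(G.obj.obj U))
    exact zero_add x.2
  mul_one := by
    apply Sheaf.hom_ext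
    apply NatTrans.ext
    funext U
    apply TypeCat.homEquiv.injective
    funext (x : ↑(G.obj.obj U) × PUnit)
    exact add_zero x.1
  mul_assoc := by
    apply Sheaf.hom_ext
    apply NatTrans.ext
    funext U
    apply TypeCat.homEquiv.injective
    funext (x : (↑(G.obj.obj U) × ↑(G.obj.obj U)) × ↑(G.obj.obj U))
    exact add_assoc x.1.1 x.1.2 x.2
  left_inv := by
    apply Sheaf.hom_ext
    apply NatTrans.ext
    funext U
    apply TypeCat.homEquiv.injective
    funext (x : ↑(G.obj.obj U))
    exact neg_add_cancel x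
  right_inv := by
    apply Sheaf.hom_ext
    apply NatTrans.ext
    funext U
    apply TypeCat.homEquiv.injective
    funext (x : ↑(G.obj.obj U))
    exact add_neg_cancel x




noncomputable def EObj : CommGrp (Sheaf J (Type u)) where
  X := (FS J).obj G
  grp := grpObj G
  comm := { mul_comm := by
              apply Sheaf.hom_ext
              apply NatTrans.ext
              funext U
              apply TypeCat.homEquiv.injective
              funext (x : ↑(G.obj.obj U) × ↑(G.obj.obj U))
              exact add_comm x.2 x.1 }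


variable {G}

lemma isMonHom_map {G G' : Sheaf J AddCommGrpCat.{u}} (f : G ⟶ G') :
    IsMonHom (M := (EObj G).X) (N := (EObj G').X) ((FS J).map f) where
  one_hom := by
    apply Sheaf.hom_ext
    apply NatTrans.ext
    funext U
    apply TypeCat.homEquiv.injective
    funext (x : PUnit)
    exact map_zero (f.hom.app U).hom
  mul_hom := by
    apply Sheaf.hom_ext
    apply NatTrans.ext
    funext U
    apply TypeCat.homEquiv.injective
    funext (x : ↑(G.obj.obj U) × ↑(G.obj.obj U))
    exact map_add (f.hom.app U).hom x.1 x.2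

variable (J) in
noncomputable def E : Sheaf J AddCommGrpCat.{u} ⥤ CommGrp (Sheaf J (Type u)) where
  obj G := EObj G
  map {G G'} f :=
    haveI := isMonHom_map f
    InducedCategory.homMk (Grp.homMk (A := (EObj G).toGrp) (B := (EObj G').toGrp) ((FS J).map f))
  map_id G := by
    apply CommGrp.hom_ext
    exact (FS J).map_id G
  map_comp f g := by
    apply CommGrp.hom_ext
    exact (FS J).map_comp f g

lemma E_map_hom {G G' : Sheaf J AddCommGrpCat.{u}} (f : G ⟶ G') :
    ((E J).map f).hom.hom.hom = (FS J).map f := rfl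

instance : (E J).Faithful where
  map_injective {G G'} f g h := by
    have h1 : (FS J).map f = (FS J).map g := congrArg (fun k => k.hom.hom.hom) h
    exact (FS J).map_injective h1


noncomputable def preimageHom {G G' : Sheaf J AddCommGrpCat.{u}} (f : (FS J).obj G ⟶ (FS J).obj G')
    (h : IsMonHom (M := (EObj G).X) (N := (EObj G').X) f) : G ⟶ G' :=
  ⟨{ app := fun U => AddCommGrpCat.ofHom (AddMonoidHom.mk' (fun a : G.obj.obj U => (f.hom.app U a : G'.obj.obj U))
        (fun a b => congrArg (fun m : (EObj G).X ⊗ (EObj G).X ⟶ (EObj G').X => m.hom.app U (a, b)) h.mul_hom))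
     naturality := fun U V i => by
        apply AddCommGrpCat.hom_ext
        apply AddMonoidHom.ext
        intro a
        exact congrArg (fun k => k a) (f.hom.naturality i) }⟩

lemma FS_map_preimageHom {G G' : Sheaf J AddCommGrpCat.{u}} (f : (FS J).obj G ⟶ (FS J).obj G')
    (h : IsMonHom (M := (EObj G).X) (N := (EObj G').X) f) : (FS J).map (preimageHom f h) = f := by
  apply Sheaf.hom_ext
  apply NatTrans.ext
  funext U
  apply TypeCat.homEquiv.injective
  funext (x : ↑(G.obj.obj U))
  rfl

instance : (E J).Full where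
  map_surjective {G G'} φ := by
    refine ⟨preimageHom φ.hom.hom.hom φ.hom.hom.isMonHom_hom, ?_⟩
    apply CommGrp.hom_ext
    exact FS_map_preimageHom _ _


section EssSurj
variable (B : CommGrp (Sheaf J (Type u)))

@[instance_reducible]
noncomputable def secGroup (U : Cᵒᵖ) : AddCommGroup (B.X.obj.obj U) :=
  letI : Add (B.X.obj.obj U) := ⟨fun a b => (μ[B.X]).hom.app U (a, b)⟩
  letI : Zero (B.X.obj.obj U) := ⟨(η[B.X]).hom.app U PUnit.unit⟩
  letI : Neg (B.X.obj.obj U) := ⟨fun a => (ι[B.X]).hom.app U a⟩
  { AddGroup.ofLeftAxioms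
      (fun a b c => congrArg (fun m : (B.X ⊗ B.X) ⊗ B.X ⟶ B.X => m.hom.app U ((a, b), c)) (MonObj.mul_assoc B.X))
      (fun a => congrArg (fun m : 𝟙_ _ ⊗ B.X ⟶ B.X => m.hom.app U (PUnit.unit, a)) (MonObj.one_mul B.X))
      (fun a => congrArg (fun m : B.X ⟶ B.X => m.hom.app U a) (GrpObj.left_inv B.X)) with
    add_comm := fun a b => (congrArg (fun m : B.X ⊗ B.X ⟶ B.X => m.hom.app U (b, a)) (IsCommMonObj.mul_comm B.X)) }


lemma secGroup_add (U : Cᵒᵖ) (a b : B.X.obj.obj U) :
    letI := secGroup B U
    a + b = (μ[B.X]).hom.app U (a, b) := rfl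

lemma secGroup_zero (U : Cᵒᵖ) :
    letI := secGroup B U
    (0 : B.X.obj.obj U) = (η[B.X]).hom.app U PUnit.unit := rfl

noncomputable def abPre : Cᵒᵖ ⥤ AddCommGrpCat.{u} where
  obj U := @AddCommGrpCat.of (B.X.obj.obj U) (secGroup B U)
  map {U V} i :=
    letI := secGroup B U
    letI := secGroup B V
    AddCommGrpCat.ofHom (AddMonoidHom.mk' (fun a : B.X.obj.obj U => (B.X.obj.map i a : B.X.obj.obj V))
      (fun a b => (congrArg (fun k => k (a, b)) ((μ[B.X]).hom.naturality i)).symm))
  map_id U := by
    let _ := secGroup B U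
    apply AddCommGrpCat.hom_ext
    apply AddMonoidHom.ext
    intro a
    exact congrArg (fun k => k a) (B.X.obj.map_id U)
  map_comp {U V W} i j := by
    let _ := secGroup B U
    let _ := secGroup B V
    let _ := secGroup B W
    apply AddCommGrpCat.hom_ext
    apply AddMonoidHom.ext
    intro a
    exact congrArg (fun k => k a) (B.X.obj.map_comp i j)

lemma abPre_isSheaf : Presheaf.IsSheaf J (abPre B) := by
  rw [Presheaf.isSheaf_iff_isSheaf_forget J (abPre B) (forget AddCommGrpCat.{u})]
  exact B.X.property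

noncomputable def abObj : Sheaf J AddCommGrpCat.{u} := ⟨abPre B, abPre_isSheaf B⟩

example : (FS J).obj (abObj B) = B.X := rfl


noncomputable def abIso : (E J).obj (abObj B) ≅ B :=
  CommGrp.mkIso (G := (E J).obj (abObj B)) (H := B) (Iso.refl B.X)
    (by
      apply Sheaf.hom_ext
      apply NatTrans.ext
      funext U
      apply TypeCat.homEquiv.injective
      funext (x : PUnit)
      rfl)
    (by
      apply Sheaf.hom_ext
      apply NatTrans.ext
      funext U
      apply TypeCat.homEquiv.injective
      funext (x : B.X.obj.obj U × B.X.obj.obj U)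
      rfl)

instance : (E J).EssSurj where
  mem_essImage B := ⟨abObj B, ⟨abIso B⟩⟩

instance : (E J).IsEquivalence where

end EssSurj


section Push
open Functor.LaxMonoidal Functor.OplaxMonoidal

variable {D : Type u} [SmallCategory D] (K : GrothendieckTopology D) (F : D ⥤ C) [F.IsContinuous K J]

variable (J) in
noncomputable abbrev RT : Sheaf J (Type u) ⥤ Sheaf K (Type u) :=
  F.sheafPushforwardContinuous (Type u) K J
variable (J) in
noncomputable abbrev RA : Sheaf J AddCommGrpCat.{u} ⥤ Sheaf K AddCommGrpCat.{u} :=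
  F.sheafPushforwardContinuous AddCommGrpCat.{u} K J
variable (J) in
noncomputable abbrev LT : Sheaf K (Type u) ⥤ Sheaf J (Type u) :=
  F.sheafPullback (Type u) K J
variable (J) in
noncomputable abbrev LA : Sheaf K AddCommGrpCat.{u} ⥤ Sheaf J AddCommGrpCat.{u} :=
  F.sheafPullback AddCommGrpCat.{u} K J

instance : PreservesLimitsOfSize.{u, u} (RT J K F) :=
  (F.sheafAdjunctionContinuous (Type u) K J).rightAdjoint_preservesLimits

noncomputable instance rtBraided : (RT J K F).Braided := .ofChosenFiniteProducts _

example (G : Sheaf J AddCommGrpCat.{u}) : (RT J K F).obj ((FS J).obj G) = (FS K).obj ((RA J K F).obj G) := rfl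


noncomputable def oneHom' (G : Sheaf J AddCommGrpCat.{u}) :
    𝟙_ (Sheaf K (Type u)) ⟶ (RT J K F).obj ((FS J).obj G) := oneHom ((RA J K F).obj G)

noncomputable def mulHom' (G : Sheaf J AddCommGrpCat.{u}) :
    (RT J K F).obj ((FS J).obj G) ⊗ (RT J K F).obj ((FS J).obj G) ⟶ (RT J K F).obj ((FS J).obj G) :=
  mulHom ((RA J K F).obj G)

lemma rt_map_one (G : Sheaf J AddCommGrpCat.{u}) :
    (RT J K F).map (oneHom G) = Functor.OplaxMonoidal.η (RT J K F) ≫ oneHom' K F G := by
  rw [Functor.OplaxMonoidal.η_of_cartesianMonoidalCategory]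
  apply Sheaf.hom_ext
  apply NatTrans.ext
  funext V
  apply TypeCat.homEquiv.injective
  funext (x : PUnit)
  rfl

lemma rt_map_mul (G : Sheaf J AddCommGrpCat.{u}) :
    (RT J K F).map (mulHom G) = Functor.OplaxMonoidal.δ (RT J K F) _ _ ≫ mulHom' K F G := by
  rw [Functor.OplaxMonoidal.δ_of_cartesianMonoidalCategory]
  apply Sheaf.hom_ext
  apply NatTrans.ext
  funext V
  apply TypeCat.homEquiv.injective
  funext (x : ↑(G.obj.obj (F.op.obj V)) × ↑(G.obj.obj (F.op.obj V)))
  rfl

lemma rt_one (G : Sheaf J AddCommGrpCat.{u}) :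
    Functor.LaxMonoidal.ε (RT J K F) ≫ (RT J K F).map (oneHom G) = oneHom' K F G := by
  rw [rt_map_one, ← Category.assoc, Functor.Monoidal.ε_η, Category.id_comp]

lemma rt_mul (G : Sheaf J AddCommGrpCat.{u}) :
    Functor.LaxMonoidal.μ (RT J K F) _ _ ≫ (RT J K F).map (mulHom G) = mulHom' K F G := by
  rw [rt_map_mul, ← Category.assoc, Functor.Monoidal.μ_δ, Category.id_comp]

noncomputable def compatApp (G : Sheaf J AddCommGrpCat.{u}) :
    (RT J K F).mapCommGrp.obj ((E J).obj G) ≅ (E K).obj ((RA J K F).obj G) :=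
  CommGrp.mkIso (G := (RT J K F).mapCommGrp.obj ((E J).obj G)) (H := (E K).obj ((RA J K F).obj G))
    (Iso.refl _)
    (by
      change (Functor.LaxMonoidal.ε (RT J K F) ≫ (RT J K F).map (oneHom G)) ≫ 𝟙 _ = oneHom' K F G
      rw [Category.comp_id]
      exact rt_one K F G)
    (by
      change (Functor.LaxMonoidal.μ (RT J K F) _ _ ≫ (RT J K F).map (mulHom G)) ≫ 𝟙 _ =
        (𝟙 _ ⊗ₘ 𝟙 _) ≫ mulHom' K F G
      rw [Category.comp_id]
      refine (rt_mul K F G).trans ?_
      have h : (𝟙 ((RT J K F).obj ((FS J).obj G)) ⊗ₘ 𝟙 ((RT J K F).obj ((FS J).obj G))) = 𝟙 _ :=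
        MonoidalCategory.id_tensorHom_id _ _
      rw [h, Category.id_comp])

noncomputable def compat : E J ⋙ (RT J K F).mapCommGrp ≅ RA J K F ⋙ E K :=
  NatIso.ofComponents (fun G => compatApp K F G) (by
    intro G G' f
    apply CommGrp.hom_ext
    change (RT J K F).map ((FS J).map f) ≫ 𝟙 _ = 𝟙 _ ≫ (RT J K F).map ((FS J).map f)
    rw [Category.comp_id, Category.id_comp])


lemma mono_FS_map {G G' : Sheaf K AddCommGrpCat.{u}} (f : G ⟶ G') [Mono f] : Mono ((FS K).map f) := by
  haveI : PreservesLimitsOfSize.{u, u} (FS K) :=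
    (Sheaf.adjunction K (AddCommGrpCat.adj.{u})).rightAdjoint_preservesLimits
  infer_instance

theorem main (hu : PreservesFiniteLimits (LT J K F)) : PreservesFiniteLimits (LA J K F) := by
  haveI := hu
  letI : (LT J K F).Braided := .ofChosenFiniteProducts _
  let adjT : LT J K F ⊣ RT J K F := F.sheafAdjunctionContinuous (Type u) K J
  let adjA : LA J K F ⊣ RA J K F := F.sheafAdjunctionContinuous AddCommGrpCat.{u} K J
  let adjC : (LT J K F).mapCommGrp ⊣ (RT J K F).mapCommGrp := adjT.mapCommGrp
  let eJ := (E J).asEquivalence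
  let eK := (E K).asEquivalence
  let adj' := (eK.toAdjunction.comp adjC).comp eJ.symm.toAdjunction
  let isoR : eJ.functor ⋙ ((RT J K F).mapCommGrp ⋙ eK.inverse) ≅ RA J K F :=
    (Functor.associator _ _ _).symm ≪≫ Functor.isoWhiskerRight (compat K F) eK.inverse ≪≫
      Functor.associator _ _ _ ≪≫ Functor.isoWhiskerLeft (RA J K F) eK.unitIso.symm ≪≫
      Functor.rightUnitor _
  let adj'' := adj'.ofNatIsoRight isoR
  let isoL := adjA.leftAdjointUniq adj''
  haveI : PreservesColimitsOfSize.{u, u} (LA J K F) := adjA.leftAdjoint_preservesColimits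
  haveI : (LA J K F).IsLeftAdjoint := adjA.isLeftAdjoint
  haveI : (LA J K F).PreservesZeroMorphisms :=
    Functor.preservesZeroMorphisms_of_isLeftAdjoint _
  haveI : PreservesBinaryBiproducts (LA J K F) :=
    preservesBinaryBiproducts_of_preservesBinaryCoproducts _
  haveI : (LA J K F).Additive := Functor.additive_of_preservesBinaryBiproducts _
  rw [Functor.preservesFiniteLimits_iff_forall_exact_map_and_mono]
  intro S hS
  refine ⟨((Functor.preservesFiniteColimits_iff_forall_exact_map_and_epi (LA J K F)).1
    inferInstance S hS).1, ?_⟩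
  haveI : Mono S.f := hS.mono_f
  haveI h1 : Mono ((FS K).map S.f) := mono_FS_map K S.f
  haveI h2 : Mono ((LT J K F).map ((FS K).map S.f)) := inferInstance
  have h3 : Mono ((LT J K F).mapCommGrp.map (eK.functor.map S.f)) := by
    apply Functor.mono_of_mono_map (CommGrp.forget _)
    exact h2
  haveI := h3
  have h4 : Mono (eJ.inverse.map ((LT J K F).mapCommGrp.map (eK.functor.map S.f))) := inferInstance
  have h5 : isoL.hom.app _ ≫
      eJ.inverse.map ((LT J K F).mapCommGrp.map (eK.functor.map S.f)) ≫ isoL.inv.app _ =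
      (LA J K F).map S.f := NatIso.naturality_2 isoL S.f
  rw [← h5]
  haveI := h4
  infer_instance

end Push

end Groth.Agent.Lib.ShGrpObjH4
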