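import Mathlib
import Groth.Prelude.Def_Hensel
import Groth.Agent.Lib.ShIndQF_helper3

/-!
# Integrality of `R^sh → S^sh` when `S_q` is ind-quasi-finite over `R_p` (helper3)
-/

set_option autoImplicit false
set_option maxSynthPendingDepth 3
universe u

namespace Groth.Agent.Lib.ShIntegralH3

open Hensel IsLocalRing TensorProduct Groth.Agent.Lib.HensJointH3

section

variable (R S : Type u) [CommRing R] [CommRing S] [Algebra R S]
  (p : Ideal R) [p.IsPrime] (q : Ideal S) [q.IsPrime]
  (Rh : Type u) [CommRing Rh] [Algebra (Localization.AtPrime p) Rh]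
  [Algebra R Rh] [IsScalarTower R (Localization.AtPrime p) Rh]
  [Algebra (Localization.AtPrime p) (Localization.AtPrime q)]
  [IsScalarTower R (Localization.AtPrime p) (Localization.AtPrime q)]
  (Q' : Ideal (Rh ⊗[R] S)) [Q'.IsPrime]
  (hq : q = Q'.comap Algebra.TensorProduct.includeRight.toRingHom)

include hq in
/-- The map `S_q → (Rh ⊗ S)_{Q'}` as an `R_p`-algebra map. -/
theorem exists_gHom :
    ∃ g : Localization.AtPrime q →ₐ[Localization.AtPrime p] Localization.AtPrime Q',
      ∀ b : S, g (algebraMap S _ b) = algebraMap (Rh ⊗[R] S) _ (1 ⊗ₜ b) := by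
  have hunits : ∀ y : q.primeCompl, IsUnit (((algebraMap (Rh ⊗[R] S) (Localization.AtPrime Q')).comp
      (Algebra.TensorProduct.includeRight (R := R) (A := Rh) (B := S)).toRingHom) y) := by
    intro y
    have h1 : ((1 : Rh) ⊗ₜ[R] (y : S)) ∈ Q'.primeCompl := by
      show _ ∉ Q'
      intro h
      have hmem : ∀ z : S, z ∈ q ↔ (1 : Rh) ⊗ₜ[R] z ∈ Q' := by
        intro z; rw [hq]; rfl
      exact y.2 ((hmem _).mpr h)
    exact IsLocalization.map_units (Localization.AtPrime Q') ⟨_, h1⟩
  obtain ⟨g₀, hg₀⟩ : ∃ g₀ : Localization.AtPrime q →+* Localization.AtPrime Q',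
      ∀ b : S, g₀ (algebraMap S _ b) = algebraMap (Rh ⊗[R] S) _ (1 ⊗ₜ b) :=
    ⟨IsLocalization.lift (M := q.primeCompl) hunits, fun b => by
      rw [IsLocalization.lift_eq]; rfl⟩
  have hcomm : g₀.comp (algebraMap (Localization.AtPrime p) (Localization.AtPrime q)) =
      algebraMap (Localization.AtPrime p) (Localization.AtPrime Q') := by
    refine IsLocalization.ringHom_ext p.primeCompl (RingHom.ext fun a => ?_)
    simp only [RingHom.comp_apply]
    rw [← IsScalarTower.algebraMap_apply R (Localization.AtPrime p) (Localization.AtPrime q),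
      IsScalarTower.algebraMap_apply R S (Localization.AtPrime q), hg₀,
      ← IsScalarTower.algebraMap_apply R (Localization.AtPrime p) (Localization.AtPrime Q'),
      IsScalarTower.algebraMap_apply R (Rh ⊗[R] S) (Localization.AtPrime Q')]
    congr 1
    rw [Algebra.algebraMap_eq_smul_one, Algebra.algebraMap_eq_smul_one (A := Rh ⊗[R] S),
      TensorProduct.tmul_smul]
    rfl
  exact ⟨⟨g₀, fun a => RingHom.congr_fun hcomm a⟩, hg₀⟩


/-- The map `ρ₀ : Rh ⊗[R_p] B₀ → (Rh ⊗ S)_{Q'}`. -/
noncomputable def rho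
    (g : Localization.AtPrime q →ₐ[Localization.AtPrime p] Localization.AtPrime Q')
    (B₀ : Subalgebra (Localization.AtPrime p) (Localization.AtPrime q)) :
    Rh ⊗[Localization.AtPrime p] B₀ →ₐ[Rh] Localization.AtPrime Q' :=
  Algebra.TensorProduct.lift (Algebra.ofId Rh (Localization.AtPrime Q')) (g.comp B₀.val)
    (fun _ _ => Commute.all _ _)

theorem exists_finset_range_loc
    (g : Localization.AtPrime q →ₐ[Localization.AtPrime p] Localization.AtPrime Q')
    (hg : ∀ b : S, g (algebraMap S _ b) = algebraMap (Rh ⊗[R] S) _ (1 ⊗ₜ b))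
    (t : Rh ⊗[R] S) :
    ∃ F : Finset (Localization.AtPrime q),
      ∀ B₀ : Subalgebra (Localization.AtPrime p) (Localization.AtPrime q),
        (↑F : Set (Localization.AtPrime q)) ⊆ ↑B₀ →
        algebraMap (Rh ⊗[R] S) (Localization.AtPrime Q') t ∈ (rho R S p q Rh Q' g B₀).range := by
  classical
  induction t using TensorProduct.induction_on with
  | zero => exact ⟨∅, fun B₀ _ => by rw [map_zero]; exact zero_mem _⟩
  | tmul r b =>
    refine ⟨{algebraMap S _ b}, fun B₀ h => ⟨r ⊗ₜ ⟨algebraMap S _ b, h (by simp)⟩, ?_⟩⟩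
    show rho R S p q Rh Q' g B₀ (r ⊗ₜ ⟨algebraMap S _ b, h (by simp)⟩) = _
    rw [rho, Algebra.TensorProduct.lift_tmul]
    show algebraMap Rh (Localization.AtPrime Q') r * g (algebraMap S _ b) = _
    rw [hg, IsScalarTower.algebraMap_apply Rh (Rh ⊗[R] S) (Localization.AtPrime Q'), ← map_mul,
      Algebra.TensorProduct.algebraMap_apply, Algebra.algebraMap_self_apply,
      Algebra.TensorProduct.tmul_mul_tmul, mul_one, one_mul]
  | add x y hx hy =>
    obtain ⟨F₁, h₁⟩ := hx
    obtain ⟨F₂, h₂⟩ := hy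
    refine ⟨F₁ ∪ F₂, fun B₀ h => ?_⟩
    rw [map_add]
    refine add_mem (h₁ B₀ ?_) (h₂ B₀ ?_)
    · exact fun z hz => h (by simp only [Finset.coe_union, Set.mem_union]; exact Or.inl hz)
    · exact fun z hz => h (by simp only [Finset.coe_union, Set.mem_union]; exact Or.inr hz)

end

section Tensor

variable (R S : Type u) [CommRing R] [CommRing S] [Algebra R S]
  (p : Ideal R) [p.IsPrime] (q : Ideal S) [q.IsPrime] [q.LiesOver p]
  (Rh : Type u) [CommRing Rh] [IsLocalRing Rh] [Algebra (Localization.AtPrime p) Rh]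
  [Algebra R Rh] [IsScalarTower R (Localization.AtPrime p) Rh]
  [IsLocalHom (algebraMap (Localization.AtPrime p) Rh)]
  [IsStrictHenselization (Localization.AtPrime p) Rh]
  (Sh : Type u) [CommRing Sh] [IsLocalRing Sh] [Algebra (Localization.AtPrime q) Sh]
  [Algebra S Sh] [IsScalarTower S (Localization.AtPrime q) Sh]
  [IsLocalHom (algebraMap (Localization.AtPrime q) Sh)]
  [Algebra R Sh] [IsScalarTower R S Sh] [Algebra Rh Sh] [IsScalarTower R Rh Sh]
  [Algebra (Localization.AtPrime p) (Localization.AtPrime q)]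
  [IsScalarTower R (Localization.AtPrime p) (Localization.AtPrime q)]

include p q in
/-- If `S_q` is a directed union of quasi-finite `R_p`-subalgebras of finite type, then `S^sh` is
integral over `R^sh`. -/
theorem isIntegral_of_indQuasiFinite_loc [IsStrictHenselization (Localization.AtPrime q) Sh]
    (hB : ∀ s : Finset (Localization.AtPrime q),
      ∃ B₀ : Subalgebra (Localization.AtPrime p) (Localization.AtPrime q),
        (↑s : Set (Localization.AtPrime q)) ⊆ ↑B₀ ∧
          Algebra.FiniteType (Localization.AtPrime p) ↥B₀ ∧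
            Algebra.QuasiFinite (Localization.AtPrime p) ↥B₀) : Algebra.IsIntegral Rh Sh := by
  haveI : HenselianLocalRing Rh := IsStrictHenselization.henselian (Localization.AtPrime p)
  refine isIntegral_tensor_strict R S p q Rh Sh (fun Q' _ hover hq => ⟨fun x => ?_⟩)
  haveI := hover
  haveI := isLocalHom_algebraMap_localization Rh (Rh ⊗[R] S) Q'
  obtain ⟨g, hg⟩ := exists_gHom R S p q Rh Q' hq
  obtain ⟨d, s, rfl⟩ := IsLocalization.exists_mk'_eq Q'.primeCompl x
  obtain ⟨F₁, hF₁⟩ := exists_finset_range_loc R S p q Rh Q' g hg d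
  obtain ⟨F₂, hF₂⟩ := exists_finset_range_loc R S p q Rh Q' g hg (s : Rh ⊗[R] S)
  classical
  obtain ⟨B₀, hsub, hft, hqf⟩ := hB (F₁ ∪ F₂)
  obtain ⟨d₀, hd₀⟩ := hF₁ B₀ (fun z hz => hsub (by
    simp only [Finset.coe_union, Set.mem_union]; exact Or.inl hz))
  obtain ⟨s₀, hs₀⟩ := hF₂ B₀ (fun z hz => hsub (by
    simp only [Finset.coe_union, Set.mem_union]; exact Or.inr hz))
  haveI := hft
  haveI := hqf
  refine isIntegral_of_quasiFinite Rh (Localization.AtPrime Q')
    (Rh ⊗[Localization.AtPrime p] B₀) (rho R S p q Rh Q' g B₀) d₀ s₀ ?_ _ ?_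
  · have : rho R S p q Rh Q' g B₀ s₀ = algebraMap _ _ (s : Rh ⊗[R] S) := hs₀
    rw [this]
    exact IsLocalization.map_units _ s
  · have h1 : rho R S p q Rh Q' g B₀ s₀ = algebraMap _ _ (s : Rh ⊗[R] S) := hs₀
    have h2 : rho R S p q Rh Q' g B₀ d₀ = algebraMap _ _ d := hd₀
    rw [h1, h2, IsLocalization.mk'_spec]

end Tensor

end Groth.Agent.Lib.ShIntegralH3
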