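import Mathlib
import Groth.Prelude.Def_PBC
import Groth.Agent.Lib.IndEtale4_helper3

/-!
# Integral closure commutes with ind-étale base change (helper3)

If `R` is an ind-étale `A`-algebra and `E` is a flat `A`-algebra, every element of `R ⊗[A] E`
integral over `R` comes from `R ⊗[A] integralClosure A E`.
-/

set_option autoImplicit false
set_option linter.all false
set_option maxHeartbeats 1600000
universe u

open TensorProduct Polynomial

namespace Groth.Agent.Lib.ShSplitH3

variable {A R : Type u} [CommRing A] [CommRing R] [Algebra A R]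

/-- Kill finitely many elements of the kernel of a map from an étale algebra to an ind-étale
algebra by passing to a further étale algebra. -/
theorem exists_factor_of_finset (h : EtPBC.IsIndEtale A R) (C : Type u) [CommRing C]
    [Algebra A C] [Algebra.Etale A C] (f : C →ₐ[A] R) (T : Finset C) (hT : ∀ x ∈ T, f x = 0) :
    ∃ (C' : Type u) (_ : CommRing C') (_ : Algebra A C') (_ : Algebra.Etale A C')
      (g : C →ₐ[A] C') (f' : C' →ₐ[A] R), f'.comp g = f ∧ ∀ x ∈ T, g x = 0 := by
  classical
  induction T using Finset.induction_on with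
  | empty => exact ⟨C, inferInstance, inferInstance, inferInstance, AlgHom.id A C, f, rfl, by simp⟩
  | insert x T _ ih =>
    obtain ⟨C₁, _, _, _, g₁, f₁, hfg, hg₁⟩ := ih (fun y hy => hT y (Finset.mem_insert_of_mem hy))
    have hx : f₁ (g₁ x) = 0 := by
      rw [← AlgHom.comp_apply, hfg]
      exact hT x (Finset.mem_insert_self x T)
    obtain ⟨C₂, _, _, _, g₂, f₂, hfg₂, hg₂⟩ :=
      Groth.Agent.Lib.IndEtaleH3.exists_factor_of_isIndEtale h C₁ f₁ (g₁ x) hx
    refine ⟨C₂, inferInstance, inferInstance, inferInstance, g₂.comp g₁, f₂, ?_, ?_⟩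
    · rw [← AlgHom.comp_assoc, hfg₂, hfg]
    · intro y hy
      rcases Finset.mem_insert.mp hy with rfl | hy
      · exact hg₂
      · rw [AlgHom.comp_apply, hg₁ y hy, map_zero]

variable (E : Type u) [CommRing E] [Algebra A E]

/-- An element of `C ⊗ E` dying in `R ⊗ E` already dies in `C' ⊗ E` for a further étale `C'`. -/
theorem exists_map_eq_zero (h : EtPBC.IsIndEtale A R) [Module.Flat A E] (C : Type u) [CommRing C]
    [Algebra A C] [Algebra.Etale A C] (f : C →ₐ[A] R) (w : C ⊗[A] E)
    (hw : Algebra.TensorProduct.map f (AlgHom.id A E) w = 0) :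
    ∃ (C' : Type u) (_ : CommRing C') (_ : Algebra A C') (_ : Algebra.Etale A C')
      (g : C →ₐ[A] C') (f' : C' →ₐ[A] R), f'.comp g = f ∧
        Algebra.TensorProduct.map g (AlgHom.id A E) w = 0 := by
  classical
  obtain ⟨S, rfl⟩ := TensorProduct.exists_finset w
  -- re-index by the subtype
  let m : S → C := fun i => i.1.1
  let n : S → E := fun i => i.1.2
  have hsum : ∀ (D : Type u) [CommRing D] [Algebra A D] (φ : C →ₐ[A] D),
      Algebra.TensorProduct.map φ (AlgHom.id A E) (S.sum fun i => i.1 ⊗ₜ[A] i.2) =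
        ∑ i : S, φ (m i) ⊗ₜ[A] n i := by
    intro D _ _ φ
    rw [map_sum, ← Finset.sum_coe_sort S]
    refine Finset.sum_congr rfl fun i _ => ?_
    simp [m, n]
  rw [hsum R f] at hw
  have hinj : Function.Injective
      (LinearMap.rTensor E (Submodule.span A (Set.range fun i : S => f (m i))).subtype) :=
    Module.Flat.rTensor_preserves_injective_linearMap _ Subtype.val_injective
  obtain ⟨k, a, y, hy, ha⟩ :=
    TensorProduct.vanishesTrivially_of_sum_tmul_eq_zero_of_rTensor_injective A hinj hw
  -- the relations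
  let x : Fin k → C := fun j => ∑ i, a i j • m i
  have hx : ∀ j, f (x j) = 0 := by
    intro j
    simp only [x, map_sum, map_smul]
    exact ha j
  obtain ⟨C', _, _, _, g, f', hfg, hg⟩ :=
    exists_factor_of_finset h C f (Finset.univ.image x) (by
      intro z hz
      obtain ⟨j, -, rfl⟩ := Finset.mem_image.mp hz
      exact hx j)
  refine ⟨C', inferInstance, inferInstance, inferInstance, g, f', hfg, ?_⟩
  rw [hsum C' g]
  apply TensorProduct.sum_tmul_eq_zero_of_vanishesTrivially A
  refine ⟨k, a, y, hy, fun j => ?_⟩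
  have := hg (x j) (Finset.mem_image_of_mem x (Finset.mem_univ j))
  simpa only [x, map_sum, map_smul] using this

/-- Evaluation of a polynomial commutes with `Algebra.TensorProduct.map φ id`. -/
theorem map_eval₂ {C D : Type u} [CommRing C] [Algebra A C] [CommRing D] [Algebra A D]
    (φ : C →ₐ[A] D) (P : C[X]) (z : C ⊗[A] E) :
    Algebra.TensorProduct.map φ (AlgHom.id A E) (P.eval₂ (algebraMap C (C ⊗[A] E)) z) =
      (P.map φ.toRingHom).eval₂ (algebraMap D (D ⊗[A] E))
        (Algebra.TensorProduct.map φ (AlgHom.id A E) z) := by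
  have h1 := Polynomial.hom_eval₂ P (algebraMap C (C ⊗[A] E))
    (Algebra.TensorProduct.map φ (AlgHom.id A E)).toRingHom z
  have h2 : (Algebra.TensorProduct.map φ (AlgHom.id A E)).toRingHom.comp
      (algebraMap C (C ⊗[A] E)) = (algebraMap D (D ⊗[A] E)).comp φ.toRingHom := by
    ext c
    simp [Algebra.TensorProduct.algebraMap_apply]
  rw [Polynomial.eval₂_map, ← h2]
  exact h1

/-- **Integral closure commutes with ind-étale base change** (surjectivity part). -/
theorem exists_of_isIntegral (h : EtPBC.IsIndEtale A R) [Module.Flat A E] (z : R ⊗[A] E)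
    (hz : IsIntegral R z) :
    ∃ b : R ⊗[A] integralClosure A E,
      Algebra.TensorProduct.map (AlgHom.id R R) (integralClosure A E).val b = z := by
  classical
  obtain ⟨P, hP, hPz⟩ := hz
  obtain ⟨S, rfl⟩ := TensorProduct.exists_finset z
  obtain ⟨C₀, _, _, _, f₀, hf₀⟩ := Groth.Agent.Lib.IndEtaleH3.exists_finset_of_isIndEtale h
    (S.image (fun i => i.1) ∪ P.coeffs)
  -- lift the polynomial
  have hlift : P ∈ Polynomial.lifts f₀.toRingHom := by
    rw [Polynomial.lifts_iff_coeffs_subset_range]
    intro c hc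
    exact hf₀ c (Finset.mem_union_right _ hc)
  obtain ⟨P₀, hP₀, -, hP₀m⟩ := Polynomial.lifts_and_natDegree_eq_and_monic hlift hP
  -- lift the element
  have hS : ∀ i : S, ∃ c : C₀, f₀ c = i.1.1 := fun i =>
    hf₀ _ (Finset.mem_union_left _ (Finset.mem_image_of_mem _ i.2))
  choose c hc using hS
  let z₀ : C₀ ⊗[A] E := ∑ i : S, c i ⊗ₜ[A] i.1.2
  have hz₀ : Algebra.TensorProduct.map f₀ (AlgHom.id A E) z₀ = S.sum fun i => i.1 ⊗ₜ[A] i.2 := by
    simp only [z₀, map_sum, Algebra.TensorProduct.map_tmul, hc, AlgHom.id_apply]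
    exact Finset.sum_coe_sort S (fun i => i.1 ⊗ₜ[A] i.2)
  let w : C₀ ⊗[A] E := P₀.eval₂ (algebraMap C₀ (C₀ ⊗[A] E)) z₀
  have hw : Algebra.TensorProduct.map f₀ (AlgHom.id A E) w = 0 := by
    rw [map_eval₂, hP₀, hz₀]
    exact hPz
  obtain ⟨C₁, _, _, _, g, f₁, hfg, hgw⟩ := exists_map_eq_zero E h C₀ f₀ w hw
  let z₁ : C₁ ⊗[A] E := Algebra.TensorProduct.map g (AlgHom.id A E) z₀
  have hz₁ : IsIntegral C₁ z₁ := by
    refine ⟨P₀.map g.toRingHom, hP₀m.map _, ?_⟩
    rw [← map_eval₂]
    exact hgw
  obtain ⟨b₁, hb₁⟩ := (TensorProduct.toIntegralClosure_bijective_of_smooth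
    (R := A) (S := C₁) (B := E)).2 ⟨z₁, hz₁⟩
  have hb₁' : Algebra.TensorProduct.map (AlgHom.id C₁ C₁) (integralClosure A E).val b₁ = z₁ :=
    congrArg Subtype.val hb₁
  refine ⟨Algebra.TensorProduct.map f₁ (AlgHom.id A (integralClosure A E)) b₁, ?_⟩
  have key : ∀ t : C₁ ⊗[A] integralClosure A E,
      Algebra.TensorProduct.map (AlgHom.id R R) (integralClosure A E).val
        (Algebra.TensorProduct.map f₁ (AlgHom.id A (integralClosure A E)) t) =
      Algebra.TensorProduct.map f₁ (AlgHom.id A E)
        (Algebra.TensorProduct.map (AlgHom.id C₁ C₁) (integralClosure A E).val t) := by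
    intro t
    induction t using TensorProduct.induction_on with
    | zero => simp
    | tmul a b => simp
    | add a b ha hb => simp only [map_add, ha, hb]
  rw [key, hb₁', ← hz₀]
  have key2 : ∀ t : C₀ ⊗[A] E,
      Algebra.TensorProduct.map f₁ (AlgHom.id A E)
        (Algebra.TensorProduct.map g (AlgHom.id A E) t) =
      Algebra.TensorProduct.map f₀ (AlgHom.id A E) t := by
    intro t
    induction t using TensorProduct.induction_on with
    | zero => simp
    | tmul a b => simp [← hfg]
    | add a b ha hb => simp only [map_add, ha, hb]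
  exact key2 z₀

end Groth.Agent.Lib.ShSplitH3
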