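import Mathlib
import Groth.Prelude.Def_PBC
import Groth.Agent.Lib.IndEtaleNormal2_helper3
import Groth.Agent.Lib.ShSplit1_helper3

/-!
# Finite étale algebras over `Frac A` split by `Frac (A^sh)` extend over `A` (helper3)

Algebra core of S1143.
-/

set_option autoImplicit false
set_option linter.all false
set_option maxHeartbeats 1600000
set_option maxSynthPendingDepth 3
universe u

open TensorProduct Polynomial nonZeroDivisors

namespace Groth.Agent.Lib.ShSplitH3

open Groth.Agent.Lib.IndEtaleH3

section Field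

variable {R : Type u} [CommRing R] [IsDomain R] [IsIntegrallyClosed R]
variable {S : Type u} [CommRing S] [Algebra R S]

/-- In a local ind-étale algebra `S` over a normal domain `R`, every nonzero element divides
a nonzero element of `R` (i.e. `Frac R ⊗ S` is a field). -/
theorem exists_mul_eq_algebraMap_of_isIndEtale [IsLocalRing S]
    (h : EtPBC.IsIndEtale R S) (b : S) (hb : b ≠ 0) :
    ∃ (t : S) (r : R), r ≠ 0 ∧ b * t = algebraMap R S r := by
  let K := FractionRing R
  let L := K ⊗[R] S
  haveI : Module.Flat R S := flat_of_isIndEtale h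
  let ι : S →ₐ[R] L := Algebra.TensorProduct.includeRight
  have hι : Function.Injective ι :=
    Algebra.TensorProduct.includeRight_injective (IsFractionRing.injective R K)
  letI : Algebra S L := ι.toRingHom.toAlgebra
  have hL : EtPBC.IsIndEtale K L := isIndEtale_baseChange R S K h
  haveI : Nontrivial L := hι.nontrivial
  have key : ∀ (r : R) (k : K) (s : S),
      k ⊗ₜ[R] (algebraMap R S r * s) = (algebraMap R K r * k) ⊗ₜ[R] s := by
    intro r k s
    rw [← Algebra.smul_def r s, TensorProduct.tmul_smul, TensorProduct.smul_tmul',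
      Algebra.smul_def r k]
  have hu : ∀ (r : R) (_ : r ≠ 0) (s : S),
      ι (algebraMap R S r) * ((algebraMap R K r)⁻¹ ⊗ₜ[R] s) = ι s := by
    intro r hr s
    have hrK : algebraMap R K r ≠ 0 :=
      (map_ne_zero_iff _ (IsFractionRing.injective R K)).mpr hr
    show ((1 : K) ⊗ₜ[R] algebraMap R S r) * ((algebraMap R K r)⁻¹ ⊗ₜ[R] s) = (1 : K) ⊗ₜ[R] s
    rw [Algebra.TensorProduct.tmul_mul_tmul, one_mul, key, mul_inv_cancel₀ hrK]
  have hidem : ∀ e : L, IsIdempotentElem e → e = 0 ∨ e = 1 := by
    intro e he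
    obtain ⟨r, hr, s, rfl⟩ := exists_inv_tmul e
    have hdvd : algebraMap R S r ∣ s :=
      dvd_of_isIntegral_of_isIndEtale h (T := L) hι hr (hu r hr s)
        (isIntegral_of_isIdempotentElem he)
    obtain ⟨t, rfl⟩ := hdvd
    have hrK : algebraMap R K r ≠ 0 :=
      (map_ne_zero_iff _ (IsFractionRing.injective R K)).mpr hr
    have he' : (algebraMap R K r)⁻¹ ⊗ₜ[R] (algebraMap R S r * t) = ι t := by
      show _ = (1 : K) ⊗ₜ[R] t
      rw [key, mul_inv_cancel₀ hrK]
    rw [he'] at he ⊢
    have ht : IsIdempotentElem t := hι (by rw [map_mul]; exact he.eq)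
    rcases eq_zero_or_eq_one_of_isIdempotentElem ht with rfl | rfl
    · left
      exact map_zero ι
    · right
      exact map_one ι
  have hfield : IsField L :=
    isField_of_forall_exists_of_idempotent (exists_mul_mul_eq_of_isIndEtale_field hL) hidem
  obtain ⟨w, hw⟩ := hfield.mul_inv_cancel (a := ι b) ((map_ne_zero_iff _ hι).mpr hb)
  obtain ⟨r, hr, t, rfl⟩ := exists_inv_tmul w
  refine ⟨t, r, hr, ?_⟩
  apply hι
  rw [map_mul, ← hu r hr t, ← mul_assoc, mul_comm (ι b), mul_assoc, hw, mul_one]

end Field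

section Core

variable (A R K L : Type u) [CommRing A] [IsDomain A] [IsLocalRing A] [IsIntegrallyClosed A]
  [CommRing R] [IsLocalRing R] [Algebra A R]
  [Field K] [Field L] [Algebra A K] [IsFractionRing A K] [Algebra R L] [IsFractionRing R L]
  [Algebra K L] [Algebra A L] [IsScalarTower A K L] [IsScalarTower A R L]

include K in
/-- `Frac (A^sh)` is the localization of `A^sh` at the nonzero elements of `A`. -/
theorem isLocalization_fraction (hie : EtPBC.IsIndEtale A R) :
    IsLocalization (Algebra.algebraMapSubmonoid R A⁰) L := by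
  haveI : IsDomain R := (IsFractionRing.injective R L).isDomain (algebraMap R L)
  have h₁ : Algebra.algebraMapSubmonoid R A⁰ ≤ R⁰ := by
    rintro _ ⟨a, ha, rfl⟩
    rw [mem_nonZeroDivisors_iff_ne_zero]
    intro h0
    have h1 : algebraMap A L a = 0 := by
      rw [IsScalarTower.algebraMap_apply A R L, h0, map_zero]
    rw [IsScalarTower.algebraMap_apply A K L] at h1
    have h2 : algebraMap A K a = 0 := (map_eq_zero_iff _ (algebraMap K L).injective).mp h1
    exact (nonZeroDivisors.ne_zero ha)
      ((map_eq_zero_iff _ (IsFractionRing.injective A K)).mp h2)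
  have h₂ : ∀ n ∈ R⁰, ∃ m ∈ Algebra.algebraMapSubmonoid R A⁰, n ∣ m := by
    intro n hn
    obtain ⟨t, r, hr, hbt⟩ := exists_mul_eq_algebraMap_of_isIndEtale hie n
      (nonZeroDivisors.ne_zero hn)
    exact ⟨algebraMap A R r, ⟨r, mem_nonZeroDivisors_of_ne_zero hr, rfl⟩, ⟨t, hbt.symm⟩⟩
  exact (IsLocalization.iff_of_le_of_exists_dvd _ _ h₁ h₂).mpr (inferInstance : IsFractionRing R L)

end Core

section Pi

variable (R L : Type u) [CommRing R] [IsDomain R] [IsIntegrallyClosed R] [Field L] [Algebra R L]
  [IsFractionRing R L] (ι : Type u) [Finite ι]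

/-- The integral closure of a normal domain `R` in `ι → Frac R` is `ι → R`. -/
theorem exists_algEquiv_integralClosure_pi :
    Nonempty ((ι → R) ≃ₐ[R] integralClosure R (ι → L)) := by
  let g : (ι → R) →ₐ[R] (ι → L) := AlgHom.compLeft (Algebra.ofId R L) ι
  have hgint : ∀ y, g y ∈ integralClosure R (ι → L) := fun y =>
    IsIntegral.map g (Algebra.IsIntegral.isIntegral (R := R) y)
  let γ : (ι → R) →ₐ[R] integralClosure R (ι → L) := g.codRestrict _ hgint
  refine ⟨AlgEquiv.ofBijective γ ⟨?_, ?_⟩⟩
  · intro y y' hyy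
    have h1 : g y = g y' := congrArg Subtype.val hyy
    funext i
    exact IsFractionRing.injective R L (congrFun h1 i)
  · rintro ⟨x, hx⟩
    have hxi : ∀ i, ∃ r : R, algebraMap R L r = x i := fun i =>
      IsIntegrallyClosed.isIntegral_iff.mp (IsIntegral.map (Pi.evalAlgHom R (fun _ : ι => L) i) hx)
    choose r hr using hxi
    refine ⟨r, Subtype.ext ?_⟩
    funext i
    exact hr i

end Pi

section Main

variable (A R K L E : Type u) [CommRing A] [IsDomain A] [IsLocalRing A] [IsIntegrallyClosed A]
  [CommRing R] [IsLocalRing R] [Algebra A R] [IsLocalHom (algebraMap A R)]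
  [Field K] [Field L] [Algebra A K] [IsFractionRing A K] [Algebra R L] [IsFractionRing R L]
  [Algebra K L] [Algebra A L] [IsScalarTower A K L] [IsScalarTower A R L]
  [CommRing E] [Algebra K E] [Algebra A E] [IsScalarTower A K E]

/-- If `E` is integral over `K = Frac A`, then `E` is the localization of the integral closure
of `A` in `E` at the nonzero elements of `A`. -/
theorem isLocalization_integralClosure [Algebra.IsIntegral K E] :
    IsLocalization (Algebra.algebraMapSubmonoid (integralClosure A E) A⁰) E := by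
  refine ⟨?_, fun z => ?_, fun {x y} h => ⟨1, ?_⟩⟩
  · rintro ⟨_, a, ha, rfl⟩
    have h1 : algebraMap (integralClosure A E) E (algebraMap A (integralClosure A E) a) =
        algebraMap K E (algebraMap A K a) := by
      rw [← IsScalarTower.algebraMap_apply, ← IsScalarTower.algebraMap_apply]
    show IsUnit (algebraMap (integralClosure A E) E (algebraMap A (integralClosure A E) a))
    rw [h1]
    exact (IsLocalization.map_units K (⟨a, ha⟩ : A⁰)).map _
  · obtain ⟨m, hm⟩ :=
      IsIntegral.exists_multiple_integral_of_isLocalization A⁰ z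
        (Algebra.IsIntegral.isIntegral (R := K) z)
    refine ⟨⟨⟨m • z, hm⟩, algebraMap A (integralClosure A E) m, m, SetLike.coe_mem m, rfl⟩, ?_⟩
    show z * algebraMap (integralClosure A E) E (algebraMap A (integralClosure A E) m) = m • z
    rw [← IsScalarTower.algebraMap_apply, mul_comm, Submonoid.smul_def, Algebra.smul_def]
  · have : x = y := Subtype.ext h
    rw [this]

variable {L E} in
/-- Turn a ring isomorphism `E ⊗[K] L ≃+* (ι → L)` compatible with `L` into an `L`-algebra
isomorphism `L ⊗[K] E ≃ₐ[L] (ι → L)`. -/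
noncomputable def algEquivOfRingEquiv {ι : Type u} (χ : E ⊗[K] L ≃+* (ι → L))
    (hχ : ∀ l : L, χ (1 ⊗ₜ[K] l) = fun _ => l) : L ⊗[K] E ≃ₐ[L] (ι → L) :=
  AlgEquiv.ofRingEquiv (f := (Algebra.TensorProduct.comm K L E).toRingEquiv.trans χ) (by
    intro l
    rw [Algebra.TensorProduct.algebraMap_apply]
    show χ ((Algebra.TensorProduct.comm K L E) (l ⊗ₜ[K] 1)) = _
    rw [Algebra.TensorProduct.comm_tmul, hχ]
    rfl)

/-- **Algebra core of S1143.** -/
theorem main_algebra (hie : EtPBC.IsIndEtale A R) [Algebra.IsIntegral K E]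
    (ι : Type u) [Finite ι] (e : L ⊗[K] E ≃ₐ[L] (ι → L)) :
    Module.Finite A (integralClosure A E) ∧ Algebra.Etale A (integralClosure A E) ∧
      Algebra.IsPushout A (integralClosure A E) K E := by
  haveI : Module.Flat A R := flat_of_isIndEtale hie
  haveI : Module.FaithfullyFlat A R := Module.FaithfullyFlat.of_flat_of_isLocalHom
  obtain ⟨hdom, hic⟩ := isDomain_and_isIntegrallyClosed_of_isIndEtale hie
  haveI := hdom
  haveI := hic
  haveI : Module.Flat A K := IsLocalization.flat K A⁰
  haveI : Module.Flat A E := Module.Flat.trans A K E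
  haveI := isLocalization_fraction A R K L hie
  haveI : Algebra.IsPushout A R K L := Algebra.isPushout_of_isLocalization A⁰ K R L
  -- `R ⊗[A] E ≃ ι → L`
  let Φ : R ⊗[A] E ≃ₐ[R] (ι → L) :=
    (Algebra.IsPushout.cancelBaseChangeAlg A R K L E).symm.trans (e.restrictScalars R)
  -- `R ⊗[A] B ≃ integralClosure R (R ⊗[A] E)`
  have hbij : Function.Bijective (TensorProduct.toIntegralClosure A R E) := by
    refine ⟨TensorProduct.toIntegralClosure_injective_of_flat, ?_⟩
    rintro ⟨z, hz⟩
    obtain ⟨b, hb⟩ := exists_of_isIntegral E hie z hz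
    exact ⟨b, Subtype.ext hb⟩
  let ψ₁ : R ⊗[A] integralClosure A E ≃ₐ[R] integralClosure R (R ⊗[A] E) :=
    AlgEquiv.ofBijective _ hbij
  let ψ₂ : integralClosure R (R ⊗[A] E) ≃ₐ[R] integralClosure R (ι → L) := Φ.mapIntegralClosure
  obtain ⟨ψ₃⟩ := exists_algEquiv_integralClosure_pi R L ι
  let ψ : (ι → R) ≃ₐ[R] R ⊗[A] integralClosure A E := ψ₃.trans (ψ₂.symm.trans ψ₁.symm)
  haveI : Module.Finite R (R ⊗[A] integralClosure A E) := Module.Finite.equiv ψ.toLinearEquiv
  haveI : Algebra.Etale R (R ⊗[A] integralClosure A E) := Algebra.Etale.of_equiv ψ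
  refine ⟨Module.Finite.of_finite_tensorProduct_of_faithfullyFlat R,
    Algebra.Etale.of_etale_tensorProduct_of_faithfullyFlat R, ?_⟩
  haveI := isLocalization_integralClosure A K E
  exact Algebra.isPushout_of_isLocalization A⁰ K (integralClosure A E) E

end Main

end Groth.Agent.Lib.ShSplitH3
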