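import Mathlib
import Groth.Prelude.Def_FEt
import Groth.Prelude.Def_Pi1
import Groth.Prelude.Def_Hensel
import Groth.Agent.Lib.StrictHens9_lead
import Groth.Agent.Lib.ShSplit2_helper3

/-!
# Finite étale covers of `Spec (Frac A)` split by `Frac (A^sh)` extend over `Spec A` (helper3)

Scheme level of S1143.
-/

set_option autoImplicit false
set_option linter.all false
set_option maxHeartbeats 1600000
universe u

open CategoryTheory CategoryTheory.Limits AlgebraicGeometry TensorProduct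

namespace Groth.Agent.Lib.ShSplitH3

/-- `IsSplit` is invariant under isomorphism. -/
theorem isSplit_of_iso {X : Scheme.{u}} {Y Y' : FEt.Cat X} (α : Y ≅ Y') (h : Pi1.IsSplit Y) :
    Pi1.IsSplit Y' := by
  obtain ⟨ι, hι, e, he⟩ := h
  let β : Y.left ≅ Y'.left := (MorphismProperty.Over.forget _ _ _ ⋙ Over.forget _).mapIso α
  have hβ : β.hom ≫ Y'.hom = Y.hom := Over.w α.hom.hom
  refine ⟨ι, hι, β.symm ≪≫ e, fun i => ?_⟩
  rw [← he i, Iso.trans_inv, Iso.symm_inv, Category.assoc, hβ]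

section Affine

variable {K : Type u} [Field K]

/-- Every finite étale cover of `Spec K` is `Spec` of a `K`-algebra. -/
theorem exists_iso_spec (V : FEt.Cat (Spec (CommRingCat.of K))) :
    ∃ (E : Type u) (_ : CommRing E) (_ : Algebra K E)
      (hE : FEt.prop (Spec.map (CommRingCat.ofHom (algebraMap K E)))),
      Nonempty (V ≅ MorphismProperty.Over.mk ⊤ _ hE) := by
  obtain ⟨v, hv⟩ : ∃ v : V.left ⟶ Spec (CommRingCat.of K), v = V.hom := ⟨_, rfl⟩
  have hvp : FEt.prop v := hv ▸ V.prop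
  haveI : IsFinite v := hvp.1
  haveI : IsAffine V.left := isAffine_of_isAffineHom v
  let φ : CommRingCat.of K ⟶ Γ(V.left, ⊤) :=
    (Scheme.ΓSpecIso (CommRingCat.of K)).inv ≫ v.appTop
  letI : Algebra K Γ(V.left, ⊤) := φ.hom.toAlgebra
  have hφ : CommRingCat.ofHom (algebraMap K Γ(V.left, ⊤)) = φ := rfl
  have hw : V.left.isoSpec.inv ≫ v =
      Spec.map (CommRingCat.ofHom (algebraMap K Γ(V.left, ⊤))) := by
    rw [hφ, Spec.map_comp, ← Scheme.isoSpec_Spec_inv, Scheme.isoSpec_inv_naturality]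
  have hE : FEt.prop (Spec.map (CommRingCat.ofHom (algebraMap K Γ(V.left, ⊤)))) := by
    rw [← hw]
    exact (MorphismProperty.cancel_left_of_respectsIso FEt.prop V.left.isoSpec.inv v).mpr hvp
  refine ⟨Γ(V.left, ⊤), inferInstance, inferInstance, hE,
    ⟨MorphismProperty.Over.isoMk V.left.isoSpec ?_⟩⟩
  show V.left.isoSpec.hom ≫ Spec.map (CommRingCat.ofHom (algebraMap K Γ(V.left, ⊤))) = V.hom
  rw [← hw, Iso.hom_inv_id_assoc, hv]

end Affine

section Split

variable (K L E : Type u) [Field K] [Field L] [Algebra K L] [CommRing E] [Algebra K E]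

/-- A splitting of the base change of `Spec E → Spec K` to `Spec L` gives a ring isomorphism
`E ⊗[K] L ≃+* (ι → L)` compatible with `L`. -/
theorem exists_ringEquiv_of_isSplit
    (hE : FEt.prop (Spec.map (CommRingCat.ofHom (algebraMap K E))))
    (hV : Pi1.IsSplit ((FEt.restrict (Spec.map (CommRingCat.ofHom (algebraMap K L)))).obj
      (MorphismProperty.Over.mk ⊤ _ hE))) :
    ∃ (ι : Type u) (_ : Finite ι) (χ : E ⊗[K] L ≃+* (ι → L)),
      ∀ l : L, χ (1 ⊗ₜ[K] l) = fun _ => l := by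
  obtain ⟨ι, hι, e, he⟩ := hV
  obtain ⟨e', he'⟩ : ∃ e' : pullback (Spec.map (CommRingCat.ofHom (algebraMap K E)))
      (Spec.map (CommRingCat.ofHom (algebraMap K L))) ≅
        ∐ fun _ : ι => Spec (CommRingCat.of L), e' = e := ⟨e, rfl⟩
  have hsec : ∀ i, Sigma.ι (fun _ : ι => Spec (CommRingCat.of L)) i ≫ e'.inv ≫
      pullback.snd (Spec.map (CommRingCat.ofHom (algebraMap K E)))
        (Spec.map (CommRingCat.ofHom (algebraMap K L))) = 𝟙 _ := by
    intro i
    rw [he']
    exact he i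
  let σ : (∐ fun _ : ι => Spec (CommRingCat.of L)) ≅ Spec (CommRingCat.of (ι → L)) :=
    asIso (sigmaSpec (fun _ : ι => CommRingCat.of L))
  have hσ : ∀ i, Sigma.ι (fun _ : ι => Spec (CommRingCat.of L)) i ≫ σ.hom =
      Spec.map (CommRingCat.ofHom (Pi.evalRingHom (fun _ : ι => L) i)) := fun i =>
    ι_sigmaSpec (fun _ : ι => CommRingCat.of L) i
  let θ : Spec (CommRingCat.of (ι → L)) ≅ Spec (CommRingCat.of (E ⊗[K] L)) :=
    σ.symm ≪≫ e'.symm ≪≫ pullbackSpecIso K E L
  let c : CommRingCat.of (E ⊗[K] L) ⟶ CommRingCat.of (ι → L) := Spec.preimage θ.hom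
  let cinv : CommRingCat.of (ι → L) ⟶ CommRingCat.of (E ⊗[K] L) := Spec.preimage θ.inv
  have hc : Spec.map c = θ.hom := Spec.map_preimage _
  let ci : CommRingCat.of (E ⊗[K] L) ≅ CommRingCat.of (ι → L) :=
    ⟨c, cinv, by rw [← Spec.preimage_comp, Iso.inv_hom_id, Spec.preimage_id],
      by rw [← Spec.preimage_comp, Iso.hom_inv_id, Spec.preimage_id]⟩
  refine ⟨ι, hι, ci.commRingCatIsoToRingEquiv, fun l => ?_⟩
  funext i
  have key : CommRingCat.ofHom (RingHomClass.toRingHom
      (Algebra.TensorProduct.includeRight : L →ₐ[K] E ⊗[K] L)) ≫ c ≫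
      CommRingCat.ofHom (Pi.evalRingHom (fun _ : ι => L) i) = 𝟙 (CommRingCat.of L) := by
    apply Spec.map_injective
    rw [Spec.map_comp, Spec.map_comp, Spec.map_id, hc, ← hσ i]
    simp only [θ, Iso.trans_hom, Iso.symm_hom, Category.assoc, Iso.hom_inv_id_assoc,
      pullbackSpecIso_hom_snd]
    exact hsec i
  have := congr($(key).hom l)
  exact this

end Split

section Main

variable (A R K L : Type u) [CommRing A] [IsDomain A] [IsLocalRing A] [IsIntegrallyClosed A]
  [CommRing R] [IsLocalRing R] [Algebra A R] [IsLocalHom (algebraMap A R)]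
  [Field K] [Field L] [Algebra A K] [IsFractionRing A K] [Algebra R L] [IsFractionRing R L]
  [Algebra K L] [Algebra A L] [IsScalarTower A K L] [IsScalarTower A R L]

theorem main_spec (hie : EtPBC.IsIndEtale A R) (E : Type u) [CommRing E] [Algebra K E]
    (hE : FEt.prop (Spec.map (CommRingCat.ofHom (algebraMap K E))))
    (hV : Pi1.IsSplit ((FEt.restrict (Spec.map (CommRingCat.ofHom (algebraMap K L)))).obj
      (MorphismProperty.Over.mk ⊤ _ hE))) :
    ∃ Y : FEt.Cat (Spec (CommRingCat.of A)),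
      Nonempty ((FEt.restrict (Spec.map (CommRingCat.ofHom (algebraMap A K)))).obj Y ≅
        MorphismProperty.Over.mk ⊤ _ hE) := by
  obtain ⟨ι, hι, χ, hχ⟩ := exists_ringEquiv_of_isSplit K L E hE hV
  letI : Algebra A E := ((algebraMap K E).comp (algebraMap A K)).toAlgebra
  haveI : IsScalarTower A K E := IsScalarTower.of_algebraMap_eq fun _ => rfl
  haveI : Module.Finite K E := by
    have h1 := hE.1
    rw [IsFinite.SpecMap_iff] at h1
    exact RingHom.finite_algebraMap.mp h1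
  haveI : Algebra.IsIntegral K E := inferInstance
  obtain ⟨hfin, het, hpo⟩ := main_algebra A R K L E hie ι (algEquivOfRingEquiv K χ hχ)
  obtain ⟨B, hB⟩ : ∃ B : Subalgebra A E, B = integralClosure A E := ⟨_, rfl⟩
  rw [← hB] at hfin het hpo
  have hBfin : IsFinite (Spec.map (CommRingCat.ofHom (algebraMap A B))) := by
    rw [IsFinite.SpecMap_iff]
    exact RingHom.finite_algebraMap.mpr hfin
  have hBet : Etale (Spec.map (CommRingCat.ofHom (algebraMap A B))) := by
    rw [HasRingHomProperty.Spec_iff (P := @Etale)]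
    exact RingHom.etale_algebraMap.mpr het
  let eq : B ⊗[A] K ≃ₐ[B] E := Algebra.IsPushout.equiv A B K E
  let c : CommRingCat.of (B ⊗[A] K) ≅ CommRingCat.of E := eq.toRingEquiv.toCommRingCatIso
  have hc : CommRingCat.ofHom (RingHomClass.toRingHom
      (Algebra.TensorProduct.includeRight : K →ₐ[A] B ⊗[A] K)) ≫ c.hom =
      CommRingCat.ofHom (algebraMap K E) := by
    ext k
    show eq ((1 : B) ⊗ₜ[A] k) = algebraMap K E k
    rw [Algebra.IsPushout.equiv_tmul, map_one, one_mul]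
  have hc' : CommRingCat.ofHom (algebraMap K E) ≫ c.inv = CommRingCat.ofHom (RingHomClass.toRingHom
      (Algebra.TensorProduct.includeRight : K →ₐ[A] B ⊗[A] K)) := by
    rw [← hc, Category.assoc, Iso.hom_inv_id, Category.comp_id]
  let ρ : Spec (CommRingCat.of (B ⊗[A] K)) ≅ Spec (CommRingCat.of E) :=
    (Scheme.Spec.mapIso c.op).symm
  have hρ : ρ.hom = Spec.map c.inv := rfl
  refine ⟨MorphismProperty.Over.mk ⊤ _ ⟨hBfin, hBet⟩,
    ⟨MorphismProperty.Over.isoMk (pullbackSpecIso A B K ≪≫ ρ) ?_⟩⟩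
  show (pullbackSpecIso A B K ≪≫ ρ).hom ≫ Spec.map (CommRingCat.ofHom (algebraMap K E)) =
    pullback.snd (Spec.map (CommRingCat.ofHom (algebraMap A B)))
      (Spec.map (CommRingCat.ofHom (algebraMap A K)))
  rw [Iso.trans_hom, Category.assoc, hρ, ← Spec.map_comp, hc', pullbackSpecIso_hom_snd]

/-- **S1143.** -/
theorem main1143 [Hensel.IsStrictHenselization A R]
    (V : FEt.Cat (Spec (CommRingCat.of K)))
    (hV : Pi1.IsSplit ((FEt.restrict (Spec.map (CommRingCat.ofHom (algebraMap K L)))).obj V)) :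
    ∃ Y : FEt.Cat (Spec (CommRingCat.of A)),
      Nonempty ((FEt.restrict (Spec.map (CommRingCat.ofHom (algebraMap A K)))).obj Y ≅ V) := by
  have hie : EtPBC.IsIndEtale A R :=
    Groth.Agent.Lib.StrictHens.isIndEtale_of_isStrictHenselization (R := A) R
  obtain ⟨E, _, _, hE, ⟨α⟩⟩ := exists_iso_spec V
  have hV' := isSplit_of_iso
    ((FEt.restrict (Spec.map (CommRingCat.ofHom (algebraMap K L)))).mapIso α) hV
  obtain ⟨Y, ⟨β⟩⟩ := main_spec A R K L hie E hE hV'
  exact ⟨Y, ⟨β ≪≫ α.symm⟩⟩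

end Main

end Groth.Agent.Lib.ShSplitH3
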