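import Mathlib
import Groth.Prelude
import Groth.Agent.Lib.ShStab2_helper6

/-!
# Hilbert polynomials of a submodule and of its ambient module (helper6)

`main16340`: `P_E ≤ P_E'` eventually for `E ⊂ E'`, with equal multiplicities if the cokernel has
small support.
APPEND-ONLY once landed.
-/

set_option autoImplicit false
set_option linter.all false
set_option maxHeartbeats 1600000

universe u
open Polynomial StabCat
open CategoryTheory CategoryTheory.Limits AlgebraicGeometry TopologicalSpace

namespace Groth.Agent.Lib.ShStabH6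

open Groth.Agent.Lib.HilbCalc Groth.Agent.Lib.HilbCalc2

variable (k : Type u) [Field k] {X : Scheme.{u}} [X.Over (Spec (CommRingCat.of k))]
  [IsProper (X ↘ Spec (CommRingCat.of k))]

/-- **S16340**. -/
theorem main16340 {L : X.Modules} (hL : CohB1.IsAmple L) (d : ℕ) (E E' : X.Modules)
    (hE : Coh.IsCoh E) (hE' : Coh.IsCoh E') (ι : E ⟶ E') [Mono ι]
    (pE pE' : ℚ[X]) (hpE : ShStab.IsHilbPoly k X L E pE)
    (hpE' : ShStab.IsHilbPoly k X L E' pE') :
    StabCat.PolyLE pE pE' ∧
      (topologicalKrullDim (CohB1.support (cokernel ι)) < (d : WithBot ℕ∞) →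
        StabCat.alpha d pE = StabCat.alpha d pE') := by
  haveI : IsLocallyNoetherian X :=
    LocallyOfFiniteType.isLocallyNoetherian (X ↘ Spec (CommRingCat.of k))
  have hQ : Coh.IsCoh (cokernel ι) := CohKerH8.isCoh_cokernel hE hE' ι
  obtain ⟨pQ, hpQ⟩ := exists_hilbPoly k hL.1 _ hQ
  have hsum : pE' = pE + pQ := isHilbPoly_unique k hpE'
    (isHilbPoly_add k hL.1 (cokerSC ι) (cokerSC_shortExact ι) hE hE' hQ hpE hpQ)
  constructor
  · by_cases hz : IsZero (cokernel ι)
    · rw [hsum, eq_zero_of_isZero k hL.1 hQ hz hpQ, add_zero]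
      exact ⟨0, fun m _ => le_rfl⟩
    · obtain ⟨N, hN⟩ := eventually_pos k hL hQ hz hpQ
      refine ⟨N, fun m hm => ?_⟩
      rw [hsum, eval_add]
      have := hN m hm
      linarith
  · intro hdim
    rw [hsum, alpha_add]
    by_cases hz : IsZero (cokernel ι)
    · rw [eq_zero_of_isZero k hL.1 hQ hz hpQ, alpha_zero, add_zero]
    · obtain ⟨r, hr⟩ := exists_dim_support k hz
      rw [hr] at hdim
      have hrd : r < d := by exact_mod_cast hdim
      rw [alpha_eq_zero_of_natDegree_lt
        (lt_of_le_of_lt (natDegree_le k hL.1 hQ r hr.le hpQ) hrd), add_zero]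

end Groth.Agent.Lib.ShStabH6
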