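import Mathlib
import Groth.Prelude
import Groth.Agent.Lib.ShStabAx_helper6

/-!
# Slope semistability: morphisms and extensions (helper6)

`muSS_sub_bound`: the slope bound for all coherent submodules of a pure slope-semistable module.
`main18965` (`Hom(F, G) = 0` for `μ(G) < μ(F)`), `main18967` (extensions of slope-semistable
modules of the same slope).
APPEND-ONLY once landed.
-/

set_option autoImplicit false
set_option linter.all false
set_option maxHeartbeats 1600000

universe u
open Polynomial StabCat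
open CategoryTheory CategoryTheory.Limits AlgebraicGeometry TopologicalSpace

namespace Groth.Agent.Lib.ShStabH6

open Groth.Agent.Lib.HilbCalc Groth.Agent.Lib.HilbCalc2 Groth.Agent.Lib.AbFilt

variable (k : Type u) [Field k] {X : Scheme.{u}} [X.Over (Spec (CommRingCat.of k))]
  [IsProper (X ↘ Spec (CommRingCat.of k))]

section

variable {L : X.Modules} (hL : CohB1.IsAmple L) {n : ℕ} (hn : 1 ≤ n)

include hL hn

/-- a coherent module of dimension at most `n` and multiplicity zero has dimension at most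
`n - 1`. -/
theorem dimLE_pred {Q : X.Modules} (hQ : Coh.IsCoh Q) (hD : DimLE X n Q) {pQ : ℚ[X]}
    (hpQ : ShStab.IsHilbPoly k X L Q pQ) (hα : alpha n pQ = 0) : DimLE X (n - 1) Q := by
  unfold DimLE at *
  by_cases hz : IsZero Q
  · have h0 : CohB1.support Q = ∅ := support_eq_empty_of_isZero hz
    haveI : IsEmpty (CohB1.support Q) := Set.isEmpty_coe_sort.mpr h0
    rw [topDim_eq_bot_of_isEmpty]
    exact bot_le
  · obtain ⟨r, hr⟩ := exists_dim_support k hz
    have hle : (r : WithBot ℕ∞) ≤ n := by rw [← hr]; exact hD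
    have hrn : r ≤ n := by exact_mod_cast hle
    rcases Nat.eq_or_lt_of_le hrn with h | h
    · exfalso
      subst h
      have := alpha_pos k hL hQ r hr hpQ
      rw [hα] at this
      exact lt_irrefl _ this
    · rw [hr]
      have : r ≤ n - 1 := by omega
      exact_mod_cast this

/-- the slope bound for every coherent submodule of a pure slope-semistable module. -/
theorem muSS_sub_bound {E : X.Modules} (hE : Coh.IsCoh E) (hE0 : ¬ IsZero E)
    (hEp : ShStab.IsPure X E n)
    (hss : StabCat.IsMuSS Coh.IsCoh (ShStab.IsHilbPoly k X L) n E) {pE : ℚ[X]}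
    (hpE : ShStab.IsHilbPoly k X L E pE) {S : X.Modules} (ι : S ⟶ E) [Mono ι]
    (hS : Coh.IsCoh S) {pS : ℚ[X]} (hpS : ShStab.IsHilbPoly k X L S pS) :
    alpha (n - 1) pS * alpha n pE ≤ alpha (n - 1) pE * alpha n pS := by
  haveI : IsLocallyNoetherian X :=
    LocallyOfFiniteType.isLocallyNoetherian (X ↘ Spec (CommRingCat.of k))
  by_cases hS0 : IsZero S
  · rw [eq_zero_of_isZero k hL.1 hS hS0 hpS, alpha_zero, alpha_zero, zero_mul, mul_zero]
  · have hEdim := dim_support_of_isPure hEp hE hE0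
    have aE := alpha_pos k hL hE n hEdim hpE
    have aS := alpha_pos k hL hS n (hEp S ι inferInstance hS hS0) hpS
    have hQ : Coh.IsCoh (cokernel ι) := CohKerH8.isCoh_cokernel hS hE ι
    obtain ⟨pQ, hpQ⟩ := exists_hilbPoly k hL.1 _ hQ
    have hsum : pE = pS + pQ := isHilbPoly_unique k hpE
      (isHilbPoly_add k hL.1 (cokerSC ι) (cokerSC_shortExact ι) hS hE hQ hpS hpQ)
    have hQD : DimLE X n (cokernel ι) :=
      (dim_support_le_of_epi hE hQ (cokernel.π ι)).trans hEdim.le
    have hQnn := (alpha_data k hL n hQ hQD hpQ).1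
    have hα : alpha n pE = alpha n pS + alpha n pQ := by rw [hsum, alpha_add]
    have hβ : alpha (n - 1) pE = alpha (n - 1) pS + alpha (n - 1) pQ := by rw [hsum, alpha_add]
    rcases eq_or_lt_of_le hQnn with h0 | h0
    · -- equal multiplicities
      have hQD' := dimLE_pred k hL hn hQ hQD hpQ h0.symm
      have hb := (alpha_data k hL (n - 1) hQ hQD' hpQ).1
      rw [hα, hβ, ← h0, add_zero]
      nlinarith
    · have hlt : alpha n pS < alpha n pE := by rw [hα]; linarith
      have := hss S ι inferInstance hS pS pE hpS hpE aS hlt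
      unfold hatSlope at this
      rw [div_le_div_iff₀ aS aE] at this
      linarith

/-- **S18965**. -/
theorem main18965 {F G : X.Modules} (hFt : ShStab.IsPure X F n) (hGt : ShStab.IsPure X G n)
    (hF : ShStab.IsMuSemistable k X L F n) (hG : ShStab.IsMuSemistable k X L G n)
    (pF pG : ℚ[X]) (hpF : ShStab.IsHilbPoly k X L F pF) (hpG : ShStab.IsHilbPoly k X L G pG)
    (hlt : StabCat.hatSlope n pG < StabCat.hatSlope n pF) (φ : F ⟶ G) : φ = 0 := by
  haveI : IsLocallyNoetherian X :=
    LocallyOfFiniteType.isLocallyNoetherian (X ↘ Spec (CommRingCat.of k))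
  by_contra hφ
  have hIcoh : Coh.IsCoh (Abelian.image φ) :=
    CohKerH8.isCoh_kernel hG.1 (CohKerH8.isCoh_cokernel hF.1 hG.1 φ) _
  have hKcoh : Coh.IsCoh (kernel (Abelian.factorThruImage φ)) :=
    CohKerH8.isCoh_kernel hF.1 hIcoh _
  have hIne : ¬ IsZero (Abelian.image φ) := by
    intro h
    apply hφ
    rw [← Abelian.image.fac φ, h.eq_of_tgt (Abelian.factorThruImage φ) 0, Limits.zero_comp]
  obtain ⟨pI, hpI⟩ := exists_hilbPoly k hL.1 _ hIcoh
  obtain ⟨pK, hpK⟩ := exists_hilbPoly k hL.1 _ hKcoh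
  have hsum : pF = pK + pI :=
    isHilbPoly_unique k hpF
      (isHilbPoly_add k hL.1 (kerImSC φ) (kerImSC_shortExact φ) hKcoh hF.1 hIcoh hpK hpI)
  have aI := alpha_pos k hL hIcoh n (hGt _ (Abelian.image.ι φ) inferInstance hIcoh hIne) hpI
  have aF := alpha_pos k hL hF.1 n (dim_support_of_isPure hFt hF.1 hF.2.1) hpF
  have aG := alpha_pos k hL hG.1 n (dim_support_of_isPure hGt hG.1 hG.2.1) hpG
  have h1 := muSS_sub_bound k hL hn hG.1 hG.2.1 hGt hG.2.2.2.2 hpG (Abelian.image.ι φ) hIcoh hpI
  have h2 := muSS_sub_bound k hL hn hF.1 hF.2.1 hFt hF.2.2.2.2 hpF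
    (kernel.ι (Abelian.factorThruImage φ)) hKcoh hpK
  have hα : alpha n pF = alpha n pK + alpha n pI := by rw [hsum, alpha_add]
  have hβ : alpha (n - 1) pF = alpha (n - 1) pK + alpha (n - 1) pI := by rw [hsum, alpha_add]
  unfold hatSlope at hlt
  rw [div_lt_div_iff₀ aG aF] at hlt
  -- bF aI ≤ bI aF and bI aG ≤ bG aI give bF aG ≤ bG aF
  have h3 : alpha (n - 1) pF * alpha n pI ≤ alpha (n - 1) pI * alpha n pF := by
    rw [hα, hβ] at h2 ⊢
    nlinarith
  have h4 : alpha (n - 1) pF * alpha n pG * alpha n pI ≤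
      alpha (n - 1) pG * alpha n pF * alpha n pI := by
    nlinarith
  have h5 : alpha (n - 1) pF * alpha n pG ≤ alpha (n - 1) pG * alpha n pF :=
    le_of_mul_le_mul_right h4 aI
  linarith

/-- **S18967**. -/
theorem main18967 (hX : topologicalKrullDim X = (n : WithBot ℕ∞))
    (T : ShortComplex X.Modules) (hT : T.ShortExact)
    (hFt : ShStab.IsPure X T.X₁ n) (hGt : ShStab.IsPure X T.X₃ n)
    (hF : ShStab.IsMuSemistable k X L T.X₁ n) (hG : ShStab.IsMuSemistable k X L T.X₃ n)
    (pF pG : ℚ[X]) (hpF : ShStab.IsHilbPoly k X L T.X₁ pF)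
    (hpG : ShStab.IsHilbPoly k X L T.X₃ pG)
    (hμ : StabCat.hatSlope n pF = StabCat.hatSlope n pG) :
    ShStab.IsMuSemistable k X L T.X₂ n ∧
      ∀ pH : ℚ[X], ShStab.IsHilbPoly k X L T.X₂ pH →
        StabCat.hatSlope n pH = StabCat.hatSlope n pF := by
  haveI : IsLocallyNoetherian X :=
    LocallyOfFiniteType.isLocallyNoetherian (X ↘ Spec (CommRingCat.of k))
  haveI := hT.mono_f
  haveI := hT.epi_g
  have hH : Coh.IsCoh T.X₂ := Groth.Agent.Lib.CohSerreH3.isCoh_of_shortExact T hT hF.1 hG.1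
  have hH0 : ¬ IsZero T.X₂ := fun h => hF.2.1 (IsZero.of_mono T.f h)
  have hFdim := dim_support_of_isPure hFt hF.1 hF.2.1
  have hGdim := dim_support_of_isPure hGt hG.1 hG.2.1
  have aF := alpha_pos k hL hF.1 n hFdim hpF
  have aG := alpha_pos k hL hG.1 n hGdim hpG
  have hpH : ShStab.IsHilbPoly k X L T.X₂ (pF + pG) :=
    isHilbPoly_add k hL.1 T hT hF.1 hH hG.1 hpF hpG
  obtain ⟨μ, hb, he⟩ : ∃ μ : ℚ, alpha (n - 1) pF = μ * alpha n pF ∧
      alpha (n - 1) pG = μ * alpha n pG := by
    unfold hatSlope at hμ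
    refine ⟨alpha (n - 1) pF / alpha n pF, (div_mul_cancel₀ _ aF.ne').symm, ?_⟩
    rw [hμ]
    exact (div_mul_cancel₀ _ aG.ne').symm
  have hslope : hatSlope n (pF + pG) = hatSlope n pF := by
    unfold hatSlope
    have hpos : alpha n pF + alpha n pG ≠ 0 := (add_pos aF aG).ne'
    rw [alpha_add, alpha_add, div_eq_div_iff hpos aF.ne', hb, he]
    ring
  have hdimH : topologicalKrullDim (CohB1.support T.X₂) = (n : WithBot ℕ∞) := by
    apply le_antisymm
    · rw [← hX]
      exact topologicalKrullDim_subspace_le X _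
    · rw [← hFdim]
      exact dim_support_le_of_mono T.f
  -- analysis of a coherent submodule
  have hsub : ∀ (S : X.Modules) (ι : S ⟶ T.X₂), Mono ι → Coh.IsCoh S →
      (topologicalKrullDim (CohB1.support S) + 1 ≠ (n : WithBot ℕ∞)) ∧
      ∀ pS : ℚ[X], ShStab.IsHilbPoly k X L S pS →
        alpha (n - 1) pS ≤ μ * alpha n pS := by
    intro S ι hι hS
    haveI := hι
    set ψ : S ⟶ T.X₃ := ι ≫ T.g with hψ
    have hIcoh : Coh.IsCoh (Abelian.image ψ) :=
      CohKerH8.isCoh_kernel hG.1 (CohKerH8.isCoh_cokernel hS hG.1 ψ) _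
    have hKcoh : Coh.IsCoh (kernel (Abelian.factorThruImage ψ)) :=
      CohKerH8.isCoh_kernel hS hIcoh _
    have hk0 : (kernel.ι (Abelian.factorThruImage ψ) ≫ ι) ≫ T.g = 0 := by
      have h : ι ≫ T.g = Abelian.factorThruImage ψ ≫ Abelian.image.ι ψ :=
        (Abelian.image.fac ψ).symm
      rw [Category.assoc, h, ← Category.assoc, kernel.condition, Limits.zero_comp]
    let j : kernel (Abelian.factorThruImage ψ) ⟶ T.X₁ := hT.exact.lift _ hk0
    have hj : j ≫ T.f = kernel.ι (Abelian.factorThruImage ψ) ≫ ι := hT.exact.lift_f _ hk0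
    haveI : Mono (j ≫ T.f) := by rw [hj]; infer_instance
    haveI : Mono j := mono_of_mono j T.f
    constructor
    · intro hdim
      by_cases hK0 : IsZero (kernel (Abelian.factorThruImage ψ))
      · haveI : Mono (Abelian.factorThruImage ψ) :=
          Preadditive.mono_of_kernel_zero (hK0.eq_of_src _ _)
        haveI : Mono ψ := by
          rw [← Abelian.image.fac ψ]
          infer_instance
        by_cases hS0 : IsZero S
        · have h0 : CohB1.support S = ∅ := support_eq_empty_of_isZero hS0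
          haveI : IsEmpty (CohB1.support S) := Set.isEmpty_coe_sort.mpr h0
          rw [topDim_eq_bot_of_isEmpty] at hdim
          simp at hdim
        · rw [hGt S ψ inferInstance hS hS0] at hdim
          have h1 : ((n + 1 : ℕ) : WithBot ℕ∞) = (n : WithBot ℕ∞) := by exact_mod_cast hdim
          have h2 : n + 1 = n := by exact_mod_cast h1
          omega
      · have h1 := hFt _ j inferInstance hKcoh hK0
        have h2 := dim_support_le_of_mono (kernel.ι (Abelian.factorThruImage ψ))
        rw [h1] at h2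
        have h3 : (n : WithBot ℕ∞) + 1 ≤ topologicalKrullDim (CohB1.support S) + 1 := by
          gcongr
        rw [hdim] at h3
        have h4 : ((n + 1 : ℕ) : WithBot ℕ∞) ≤ (n : WithBot ℕ∞) := by exact_mod_cast h3
        have h5 : n + 1 ≤ n := by exact_mod_cast h4
        omega
    · intro pS hpS
      obtain ⟨pI, hpI⟩ := exists_hilbPoly k hL.1 _ hIcoh
      obtain ⟨pK, hpK⟩ := exists_hilbPoly k hL.1 _ hKcoh
      have hsum : pS = pK + pI :=
        isHilbPoly_unique k hpS
          (isHilbPoly_add k hL.1 (kerImSC ψ) (kerImSC_shortExact ψ) hKcoh hS hIcoh hpK hpI)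
      have h1 := muSS_sub_bound k hL hn hF.1 hF.2.1 hFt hF.2.2.2.2 hpF j hKcoh hpK
      have h2 := muSS_sub_bound k hL hn hG.1 hG.2.1 hGt hG.2.2.2.2 hpG (Abelian.image.ι ψ)
        hIcoh hpI
      have h1' : alpha (n - 1) pK ≤ μ * alpha n pK := by
        rw [hb] at h1
        have : alpha (n - 1) pK * alpha n pF ≤ (μ * alpha n pK) * alpha n pF := by linarith
        exact le_of_mul_le_mul_right this aF
      have h2' : alpha (n - 1) pI ≤ μ * alpha n pI := by
        rw [he] at h2
        have : alpha (n - 1) pI * alpha n pG ≤ (μ * alpha n pI) * alpha n pG := by linarith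
        exact le_of_mul_le_mul_right this aG
      rw [hsum, alpha_add, alpha_add]
      linarith
  refine ⟨⟨hH, hH0, hdimH, fun S ι hι hS => (hsub S ι hι hS).1, ?_⟩, ?_⟩
  · intro S ι hι hS pS pH' hpS hpH' hα1 hα2
    have hpHeq : pH' = pF + pG := isHilbPoly_unique k hpH' hpH
    have h1 := (hsub S ι hι hS).2 pS hpS
    have aH : 0 < alpha n pH' := lt_trans hα1 hα2
    unfold hatSlope
    rw [div_le_div_iff₀ hα1 aH]
    have h3 : alpha (n - 1) pH' = μ * alpha n pH' := by
      rw [hpHeq, alpha_add, alpha_add, hb, he]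
      ring
    rw [h3]
    have h4 := mul_le_mul_of_nonneg_right h1 aH.le
    linarith
  · intro pH' hpH'
    rw [isHilbPoly_unique k hpH' hpH]
    exact hslope

end

end Groth.Agent.Lib.ShStabH6
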