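import Mathlib
import Groth.Prelude
import Groth.Agent.Lib.ShStabMu_helper6
import Groth.Agent.Lib.AbFiltW6_helper6
import Groth.Agent.Lib.MuPoly_helper6

/-!
# Slope Harder–Narasimhan filtrations (helper6)

`axW`: the weak stability theory of `ℓ`-truncated Hilbert polynomials of coherent modules.
`SSp_iff`: for `ℓ = 1` its semistable objects are the pure slope-semistable modules.
`main18833`: existence and uniqueness of the slope Harder–Narasimhan filtration.
APPEND-ONLY once landed.
-/

set_option autoImplicit false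
set_option linter.all false
set_option maxHeartbeats 1600000

universe u
open Polynomial StabCat
open CategoryTheory CategoryTheory.Limits AlgebraicGeometry TopologicalSpace

namespace Groth.Agent.Lib.ShStabH6

open Groth.Agent.Lib.HilbCalc Groth.Agent.Lib.HilbCalc2 Groth.Agent.Lib.MuPoly

variable (k : Type u) [Field k] {X : Scheme.{u}} [X.Over (Spec (CommRingCat.of k))]
  [IsProper (X ↘ Spec (CommRingCat.of k))]

section Trunc

variable {L : X.Modules} (hL : CohB1.IsAmple L) (d ℓ : ℕ)

include hL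

theorem trunc_nonneg {A : X.Modules} {P : ℚ[X]} (hA : Coh.IsCoh A) (hD : DimLE X d A)
    (hP : ShStab.IsHilbPoly k X L A P) : PolyLE 0 (topPart ℓ d P) := by
  apply topPart_eventually_nonneg (natDegree_le k hL.1 hA d hD hP) ℓ
  by_cases hz : IsZero A
  · rw [eq_zero_of_isZero k hL.1 hA hz hP]
    exact ⟨0, fun m _ => le_rfl⟩
  · obtain ⟨N, hN⟩ := eventually_pos k hL hA hz hP
    exact ⟨N, fun m hm => by rw [eval_zero]; exact (hN m hm).le⟩

/-- the weak stability theory of `ℓ`-truncated Hilbert polynomials. -/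
theorem axW : AbFiltW.AxW (C := X.Modules) Coh.IsCoh
    (AbFiltW.HPt (ShStab.IsHilbPoly k X L) (topPart ℓ d))
    (fun E => ShStab.IsPure X E d) (DimLE X d) d :=
  AbFiltW.axW_of_trunc (ax k hL d) (topPart ℓ d) (topPart_add ℓ d) (alpha_topPart ℓ d)
    (fun hA hD hP => trunc_nonneg k hL d ℓ hA hD hP)

end Trunc

section Mu

variable {L : X.Modules} (hL : CohB1.IsAmple L) {n : ℕ} (hn : 1 ≤ n)

include hL hn

/-- the semistable objects of the theory of `1`-truncated Hilbert polynomials are the pure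
slope-semistable modules. -/
theorem SSp_iff (A : X.Modules) :
    AbFiltW.SSp Coh.IsCoh (AbFiltW.HPt (ShStab.IsHilbPoly k X L) (topPart 1 n))
        (fun E => ShStab.IsPure X E n) n A ↔
      ShStab.IsPure X A n ∧ ShStab.IsMuSemistable k X L A n := by
  constructor
  · rintro ⟨hA, hA0, hAp, hss⟩
    have hAdim := dim_support_of_isPure hAp hA hA0
    refine ⟨hAp, hA, hA0, hAdim, ?_, ?_⟩
    · intro S ι hι hS
      by_cases hz : IsZero S
      · have h0 : CohB1.support S = ∅ := support_eq_empty_of_isZero hz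
        haveI : IsEmpty (CohB1.support S) := Set.isEmpty_coe_sort.mpr h0
        rw [topDim_eq_bot_of_isEmpty]
        simp
      · rw [hAp S ι hι hS hz]
        intro h
        have h1 : ((n + 1 : ℕ) : WithBot ℕ∞) = (n : WithBot ℕ∞) := by exact_mod_cast h
        have h2 : n + 1 = n := by exact_mod_cast h1
        omega
    · intro S ι hι hS pS pA hpS hpA hα1 hα2
      haveI := hι
      have hS0 : ¬ IsZero S := ne_zero_of_alpha_pos k hL.1 hS hpS hα1
      have hni : ¬ IsIso ι := not_isIso_of_alpha_lt k ι hpS hpA hα2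
      have := hss S ι hι hS hS0 hni _ _ ⟨pS, hpS, rfl⟩ ⟨pA, hpA, rfl⟩
      exact (redLE_topPart_one_iff hn hα1 (lt_trans hα1 hα2)).mp this
  · rintro ⟨hAp, hA, hA0, -, -, hss⟩
    refine ⟨hA, hA0, hAp, ?_⟩
    rintro S ι hι hS hS0 hni _ _ ⟨pS, hpS, rfl⟩ ⟨pA, hpA, rfl⟩
    haveI := hι
    have aS := alpha_pos k hL hS n (hAp S ι hι hS hS0) hpS
    have aA := alpha_pos k hL hA n (dim_support_of_isPure hAp hA hA0) hpA
    rw [redLE_topPart_one_iff hn aS aA]
    have := muSS_sub_bound k hL hn hA hA0 hAp hss hpA ι hS hpS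
    unfold hatSlope
    rw [div_le_div_iff₀ aS aA]
    linarith

/-- the conditions of a slope Harder–Narasimhan filtration. -/
def IsMuHN (L F : X.Modules) (n : ℕ) (s : LTSeries (Subobject F)) : Prop :=
  s.head = ⊥ ∧ s.last = ⊤ ∧
    (∀ i : Fin s.length,
      ShStab.IsPure X (StabCat.factor s i) n ∧
        ShStab.IsMuSemistable k X L (StabCat.factor s i) n) ∧
    ∀ (i j : Fin s.length), i.val + 1 = j.val →
      ∀ (p q : ℚ[X]), ShStab.IsHilbPoly k X L (StabCat.factor s i) p →
        ShStab.IsHilbPoly k X L (StabCat.factor s j) q →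
        StabCat.hatSlope n q < StabCat.hatSlope n p

theorem isMuHN_iff (F : X.Modules) (s : LTSeries (Subobject F)) :
    IsHNWith (AbFiltW.SSp Coh.IsCoh (AbFiltW.HPt (ShStab.IsHilbPoly k X L) (topPart 1 n))
        (fun E => ShStab.IsPure X E n) n)
      (AbFiltW.HPt (ShStab.IsHilbPoly k X L) (topPart 1 n)) n F s ↔ IsMuHN k L F n s := by
  constructor
  · rintro ⟨h0, h1, hss, hdec⟩
    have hss' := fun i => (SSp_iff k hL hn _).mp (hss i)
    refine ⟨h0, h1, hss', ?_⟩
    intro i j hij p q hp hq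
    have aP := alpha_pos k hL (hss' i).2.1 n
      (dim_support_of_isPure (hss' i).1 (hss' i).2.1 (hss' i).2.2.1) hp
    have aQ := alpha_pos k hL (hss' j).2.1 n
      (dim_support_of_isPure (hss' j).1 (hss' j).2.1 (hss' j).2.2.1) hq
    exact (redLT_topPart_one_iff hn aQ aP).mp (hdec i j hij _ _ ⟨p, hp, rfl⟩ ⟨q, hq, rfl⟩)
  · rintro ⟨h0, h1, hss, hdec⟩
    refine ⟨h0, h1, fun i => (SSp_iff k hL hn _).mpr (hss i), ?_⟩
    rintro i j hij _ _ ⟨p, hp, rfl⟩ ⟨q, hq, rfl⟩
    have aP := alpha_pos k hL (hss i).2.1 n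
      (dim_support_of_isPure (hss i).1 (hss i).2.1 (hss i).2.2.1) hp
    have aQ := alpha_pos k hL (hss j).2.1 n
      (dim_support_of_isPure (hss j).1 (hss j).2.1 (hss j).2.2.1) hq
    exact (redLT_topPart_one_iff hn aQ aP).mpr (hdec i j hij p q hp hq)

/-- **S18833**. -/
theorem main18833 (F : X.Modules) (hF : Coh.IsCoh F) (h0 : ¬ IsZero F)
    (htf : ShStab.IsPure X F n) :
    ∃! s : LTSeries (Subobject F),
      s.head = ⊥ ∧ s.last = ⊤ ∧
      (∀ i : Fin s.length,
        ShStab.IsPure X (StabCat.factor s i) n ∧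
          ShStab.IsMuSemistable k X L (StabCat.factor s i) n) ∧
      ∀ (i j : Fin s.length), i.val + 1 = j.val →
        ∀ (p q : ℚ[X]), ShStab.IsHilbPoly k X L (StabCat.factor s i) p →
          ShStab.IsHilbPoly k X L (StabCat.factor s j) q →
          StabCat.hatSlope n q < StabCat.hatSlope n p := by
  obtain ⟨s, hs⟩ := AbFiltW.exists_HN (axW k hL n 1) hF h0 htf
  refine ⟨s, (isMuHN_iff k hL hn F s).mp hs, fun t ht => ?_⟩
  exact AbFiltW.HN_unique (axW k hL n 1) t s ((isMuHN_iff k hL hn F t).mpr ht) hs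

end Mu

end Groth.Agent.Lib.ShStabH6
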