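import Mathlib
import Groth.Prelude
import Groth.Agent.Lib.ShStabMuHN_helper6
import Groth.Agent.Lib.AbFiltW7_helper6

/-!
# `ℓ`-semistability and the last `ℓ`-Harder–Narasimhan factor (helper6)

`SSp_ell_iff`: the semistable objects of the theory of `ℓ`-truncated Hilbert polynomials are the
`ℓ`-semistable modules.  `main18973`: a pure quotient with the multiplicity and reduced
`ℓ`-truncated polynomial of the last `ℓ`-Harder–Narasimhan factor is that factor.
APPEND-ONLY once landed.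
-/

set_option autoImplicit false
set_option linter.all false
set_option maxHeartbeats 1600000

universe u
open Polynomial StabCat
open CategoryTheory CategoryTheory.Limits AlgebraicGeometry TopologicalSpace

namespace Groth.Agent.Lib.ShStabH6

open Groth.Agent.Lib.HilbCalc Groth.Agent.Lib.HilbCalc2 Groth.Agent.Lib.MuPoly

variable (k : Type u) [Field k] {X : Scheme.{u}} [X.Over (Spec (CommRingCat.of k))]
  [IsProper (X ↘ Spec (CommRingCat.of k))]

section Ell

variable {L : X.Modules} (hL : CohB1.IsAmple L) (d ℓ : ℕ)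

include hL

theorem SSp_ell_iff (A : X.Modules) :
    AbFiltW.SSp Coh.IsCoh (AbFiltW.HPt (ShStab.IsHilbPoly k X L) (topPart ℓ d))
        (fun E => ShStab.IsPure X E d) d A ↔ ShStab.IsEllSemistable k X L A d ℓ := by
  haveI : IsLocallyNoetherian X :=
    LocallyOfFiniteType.isLocallyNoetherian (X ↘ Spec (CommRingCat.of k))
  constructor
  · rintro ⟨hA, hA0, hAp, hss⟩
    refine ⟨hA, hA0, hAp, ?_⟩
    intro S ι hι hS pS pA hpS hpA hα1 hα2
    have hS0 := ne_zero_of_alpha_pos k hL.1 hS hpS hα1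
    have hni := not_isIso_of_alpha_lt k ι hpS hpA hα2
    exact hss S ι hι hS hS0 hni _ _ ⟨pS, hpS, rfl⟩ ⟨pA, hpA, rfl⟩
  · rintro ⟨hA, hA0, hAp, hss⟩
    refine ⟨hA, hA0, hAp, ?_⟩
    rintro S ι hι hS hS0 hni _ _ ⟨pS, hpS, rfl⟩ ⟨pA, hpA, rfl⟩
    haveI := hι
    have aS := alpha_pos k hL hS d (hAp S ι hι hS hS0) hpS
    have hQ : Coh.IsCoh (cokernel ι) := CohKerH8.isCoh_cokernel hS hA ι
    obtain ⟨pQ, hpQ⟩ := exists_hilbPoly k hL.1 _ hQ
    have hsum : pA = pS + pQ := isHilbPoly_unique k hpA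
      (isHilbPoly_add k hL.1 (cokerSC ι) (cokerSC_shortExact ι) hS hA hQ hpS hpQ)
    have hQD : DimLE X d (cokernel ι) :=
      (dim_support_le_of_epi hA hQ (cokernel.π ι)).trans
        (dim_support_of_isPure hAp hA hA0).le
    have hQnn := (alpha_data k hL d hQ hQD hpQ).1
    rcases eq_or_lt_of_le hQnn with h0 | h0
    · have hα : alpha d (topPart ℓ d pS) = alpha d (topPart ℓ d pA) := by
        rw [alpha_topPart, alpha_topPart, hsum, alpha_add, ← h0, add_zero]
      exact AbFiltW.redLE_of_alpha_eq' (by rw [hsum, topPart_add]) hα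
        (by rw [alpha_topPart]; exact aS) (trunc_nonneg k hL d ℓ hQ hQD hpQ)
    · have hlt : alpha d pS < alpha d pA := by rw [hsum, alpha_add]; linarith
      exact hss S ι hι hS pS pA hpS hpA aS hlt

/-- **S18973**. -/
theorem main18973 (E : X.Modules) (hE : Coh.IsCoh E) (h0 : ¬ IsZero E)
    (hp : ShStab.IsPure X E d) (s : LTSeries (Subobject E))
    (hs : StabCat.IsHNWith (fun G => ShStab.IsEllSemistable k X L G d ℓ)
      (fun G P => ∃ Q : Polynomial ℚ, ShStab.IsHilbPoly k X L G Q ∧ P = StabCat.topPart ℓ d Q)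
      d E s)
    (G : X.Modules) (q : E ⟶ G) [Epi q] (hG : Coh.IsCoh G) (hG0 : ¬ IsZero G)
    (hGp : ShStab.IsPure X G d) (pF pG : ℚ[X])
    (hpF : ShStab.IsHilbPoly k X L (cokernel s.eraseLast.last.arrow) pF)
    (hpG : ShStab.IsHilbPoly k X L G pG)
    (hα : StabCat.alpha d pF = StabCat.alpha d pG)
    (hred : StabCat.RedEq d (StabCat.topPart ℓ d pF) (StabCat.topPart ℓ d pG)) :
    ∃ φ : (cokernel s.eraseLast.last.arrow) ≅ G,
      cokernel.π s.eraseLast.last.arrow ≫ φ.hom = q := by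
  haveI : IsLocallyNoetherian X :=
    LocallyOfFiniteType.isLocallyNoetherian (X ↘ Spec (CommRingCat.of k))
  have axw := axW k hL d ℓ
  have hs' : IsHNWith (AbFiltW.SSp Coh.IsCoh
      (AbFiltW.HPt (ShStab.IsHilbPoly k X L) (topPart ℓ d)) (fun E => ShStab.IsPure X E d) d)
      (AbFiltW.HPt (ShStab.IsHilbPoly k X L) (topPart ℓ d)) d E s := by
    obtain ⟨a, b, c, e⟩ := hs
    exact ⟨a, b, fun i => (SSp_ell_iff k hL d ℓ _).mpr (c i), e⟩
  have hlen : 0 < s.length := AbFiltW.length_pos_of_HN axw h0 s hs'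
  obtain ⟨i₀, hi₀⟩ : ∃ i₀ : Fin s.length, i₀.val = s.length - 1 :=
    ⟨⟨s.length - 1, by omega⟩, rfl⟩
  have hi₀' : i₀.val + 1 = s.length := by omega
  have heq : s.eraseLast.last = s i₀.castSucc := by
    rw [RelSeries.last_eraseLast]
    congr 1
    apply Fin.ext
    simp only [Fin.val_castSucc, hi₀]
    rfl
  rw [heq] at hpF ⊢
  have hsub : Coh.IsCoh ((s i₀.castSucc : Subobject E) : X.Modules) :=
    AbFiltW.ok_term axw hE h0 hp s hs' i₀.val (Nat.lt_succ_of_lt i₀.isLt)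
  have hFcoh : Coh.IsCoh (cokernel (s i₀.castSucc).arrow) :=
    CohKerH8.isCoh_cokernel hsub hE _
  have e1 : AbFiltW.hpf (AbFiltW.HPt (ShStab.IsHilbPoly k X L) (topPart ℓ d))
      (cokernel (s i₀.castSucc).arrow) = topPart ℓ d pF :=
    AbFiltW.hpf_eq axw hFcoh ⟨pF, hpF, rfl⟩
  have e2 : AbFiltW.hpf (AbFiltW.HPt (ShStab.IsHilbPoly k X L) (topPart ℓ d)) G =
      topPart ℓ d pG := AbFiltW.hpf_eq axw hG ⟨pG, hpG, rfl⟩
  exact AbFiltW.lastFactor_iso_of_pure_quot axw hE h0 hp s hs' i₀ hi₀' q hG hG0 hGp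
    (by rw [e1, e2, alpha_topPart, alpha_topPart]; exact hα) (by rw [e1, e2]; exact hred)

end Ell

end Groth.Agent.Lib.ShStabH6
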