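import Mathlib
import Groth.Prelude
import Groth.Agent.Lib.ShStabAx_helper6
import Groth.Agent.Lib.AbFilt10_helper6
import Groth.Agent.Lib.FreeLoc1_helper8
import Groth.Agent.Lib.IsoCrit_helper5

/-!
# Graded objects of Jordan–Hölder filtrations of good subsheaves and quotients (helper6)

* `isCoh_sigma_fin'`: finite coproducts of coherent modules are coherent.
* `exists_finLocFree_nhd_of_retract`: a coherent retract of a quasi-coherent module which is finite
  locally free near `x` is finite locally free near `x`.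
* `main15271`.
APPEND-ONLY once landed.
-/

set_option autoImplicit false
set_option linter.all false
set_option maxHeartbeats 1600000

universe u

open Polynomial StabCat
open CategoryTheory CategoryTheory.Limits AlgebraicGeometry TopologicalSpace

namespace Groth.Agent.Lib.ShStabH6

open Groth.Agent.Lib.AbFilt

section Sigma

variable {C : Type*} [Category C] [Abelian C]

theorem isZero_sigma_fin_zero' (Y : Fin 0 → C) : IsZero (∐ Y) := by
  rw [IsZero.iff_id_eq_zero]
  apply Sigma.hom_ext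
  intro j
  exact Fin.elim0 j

/-- `∐_{Fin (n+1)} Y ≅ Y 0 ⊞ ∐_{Fin n} Y ∘ succ` -/
noncomputable def sigmaSuccIso' {n : ℕ} (Y : Fin (n + 1) → C) :
    (∐ Y) ≅ Y 0 ⊞ (∐ fun j : Fin n => Y j.succ) where
  hom := Sigma.desc (fun j => Fin.cases
    (motive := fun j => Y j ⟶ Y 0 ⊞ (∐ fun j : Fin n => Y j.succ))
    biprod.inl (fun j' => Sigma.ι (fun j : Fin n => Y j.succ) j' ≫ biprod.inr) j)
  inv := biprod.desc (Sigma.ι Y 0) (Sigma.desc (fun j => Sigma.ι Y j.succ))
  hom_inv_id := by
    apply Sigma.hom_ext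
    intro j
    rw [Sigma.ι_desc_assoc, Category.comp_id]
    refine Fin.cases ?_ (fun j' => ?_) j
    · rw [Fin.cases_zero, biprod.inl_desc]
    · rw [Fin.cases_succ, Category.assoc, biprod.inr_desc, Sigma.ι_desc]
  inv_hom_id := by
    apply biprod.hom_ext'
    · rw [biprod.inl_desc_assoc, Sigma.ι_desc, Fin.cases_zero, Category.comp_id]
    · rw [biprod.inr_desc_assoc, Category.comp_id]
      apply Sigma.hom_ext
      intro j
      rw [Sigma.ι_desc_assoc, Sigma.ι_desc, Fin.cases_succ]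

/-- a property of objects stable under isomorphisms, zero objects and binary biproducts is stable
under finite coproducts. -/
theorem prop_sigma_fin (P : C → Prop) (hiso : ∀ {A B : C}, (A ≅ B) → P B → P A)
    (hzero : ∀ {A : C}, IsZero A → P A) (hbi : ∀ {A B : C}, P A → P B → P (A ⊞ B)) :
    ∀ (n : ℕ) (Y : Fin n → C), (∀ i, P (Y i)) → P (∐ Y)
  | 0, Y, _ => hzero (isZero_sigma_fin_zero' Y)
  | n + 1, Y, hY => hiso (sigmaSuccIso' Y)
      (hbi (hY 0) (prop_sigma_fin P hiso hzero hbi n (fun j => Y j.succ) (fun j => hY j.succ)))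

end Sigma

section Retract

variable {X : Scheme.{u}}

theorem isCoh_sigma_fin' [IsLocallyNoetherian X] {n : ℕ} (Y : Fin n → X.Modules)
    (hY : ∀ i, Coh.IsCoh (Y i)) : Coh.IsCoh (∐ Y) :=
  prop_sigma_fin (fun A : X.Modules => Coh.IsCoh A) (fun e h => CohDevH8.isCoh_of_iso e h)
    (fun h => CohDevH8.isCoh_of_isZero h) (fun hA hB => CohDevH8.isCoh_biprod hA hB) n Y hY

/-- a coherent retract of a quasi-coherent module which is finite locally free near `x` is finite
locally free near `x`. -/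
theorem exists_finLocFree_nhd_of_retract [IsLocallyNoetherian X] {M N : X.Modules}
    [M.IsQuasicoherent] (hN : Coh.IsCoh N) (i : N ⟶ M) (p : M ⟶ N) (hip : i ≫ p = 𝟙 N) {x : X}
    (hM : ∃ U : X.Opens, x ∈ U ∧ FlatMod.IsFinLocFree (M.restrict U.ι)) :
    ∃ U : X.Opens, x ∈ U ∧ FlatMod.IsFinLocFree (N.restrict U.ι) := by
  obtain ⟨U, hxU, hU⟩ := hM
  haveI := hN.1
  haveI := hN.2
  haveI := FLFH8.isFinitePresentation_of_isCoh N
  haveI hMfree : Module.Free (X.presheaf.stalk x) (M.presheaf.stalk x) :=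
    FLFH8.free_stalk_of_restrict_finLocFree M hxU hU
  haveI : Module.Finite (X.presheaf.stalk x) (N.presheaf.stalk x) := FLFH8.finite_stalk N x
  haveI hproj : Module.Projective (X.presheaf.stalk x) (N.presheaf.stalk x) := by
    refine Module.Projective.of_split (Groth.Agent.IsoCrit.stalkLin i x)
      (Groth.Agent.IsoCrit.stalkLin p x) ?_
    apply LinearMap.ext
    intro y
    obtain ⟨V, hxV, m, rfl⟩ := TopCat.Presheaf.exists_germ_eq N.presheaf y
    rw [LinearMap.comp_apply, Groth.Agent.IsoCrit.stalkLin_germ,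
      Groth.Agent.IsoCrit.stalkLin_germ, LinearMap.id_apply]
    congr 1
    have h := congrArg (fun φ : N ⟶ N => φ.app V m) hip
    simpa using h
  have hNfree : Module.Free (X.presheaf.stalk x) (N.presheaf.stalk x) :=
    Module.free_of_flat_of_isLocalRing
  obtain ⟨W, n, hxW, ⟨α⟩⟩ := FLFH8.exists_free_nhd N x hNfree
  exact ⟨W, hxW, FLFH8.isFinLocFree_of_iso_free α⟩

end Retract

variable (k : Type u) [Field k] {X : Scheme.{u}} [X.Over (Spec (CommRingCat.of k))]
  [IsProper (X ↘ Spec (CommRingCat.of k))]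

section

variable {L : X.Modules} (hL : CohB1.IsAmple L) (d : ℕ)

include hL

/-- **S15271** (over any field, for any set of points). -/
theorem main15271 (E : X.Modules) (hE : ShStab.IsSemistable k X L E d) (Z : Set X)
    (sE : LTSeries (Subobject E)) (hsE : ShStab.IsJHFiltration k X L E d sE)
    (hgrE : ∀ x ∈ Z, ∃ U : X.Opens, x ∈ U ∧
      FlatMod.IsFinLocFree ((StabCat.grObj sE).restrict U.ι))
    (G : X.Modules) (ι : G ⟶ E) [Mono ι] (hG : Coh.IsCoh G)
    (pG pE : ℚ[X]) (hpG : ShStab.IsHilbPoly k X L G pG) (hpE : ShStab.IsHilbPoly k X L E pE)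
    (hred : StabCat.RedEq d pG pE) :
    (∃ sG : LTSeries (Subobject G), ShStab.IsJHFiltration k X L G d sG ∧
        ∀ x ∈ Z, ∃ U : X.Opens, x ∈ U ∧
          FlatMod.IsFinLocFree ((StabCat.grObj sG).restrict U.ι)) ∧
    (∃ sQ : LTSeries (Subobject (cokernel ι)), ShStab.IsJHFiltration k X L (cokernel ι) d sQ ∧
        ∀ x ∈ Z, ∃ U : X.Opens, x ∈ U ∧
          FlatMod.IsFinLocFree ((StabCat.grObj sQ).restrict U.ι)) := by
  haveI : IsLocallyNoetherian X :=
    LocallyOfFiniteType.isLocallyNoetherian (X ↘ Spec (CommRingCat.of k))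
  have A := ax k hL d
  have e1 : hpf (ShStab.IsHilbPoly k X L) G = pG := hpf_eq A hG hpG
  have e2 : hpf (ShStab.IsHilbPoly k X L) E = pE := hpf_eq A hE.1 hpE
  obtain ⟨⟨sG, hsG, g, hg, hfac⟩, ⟨sQ, hsQ, g', hg', hfac'⟩⟩ :=
    JH_sub_quot A hE ι hG (by rw [e1, e2]; exact hred) sE hsE
  have hcohE : Coh.IsCoh (StabCat.grObj sE) :=
    isCoh_sigma_fin' _ (fun b => (hsE.2.2 b).1.1)
  haveI : (∐ fun b => StabCat.factor sE b).IsQuasicoherent := hcohE.1
  refine ⟨⟨sG, hsG, fun x hx => ?_⟩, ⟨sQ, hsQ, fun x hx => ?_⟩⟩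
  · obtain ⟨i, p, hip⟩ := sigma_retract (fun a => StabCat.factor sG a)
      (fun b => StabCat.factor sE b) g hg (fun a => Classical.choice (hfac a))
    have hcoh : Coh.IsCoh (StabCat.grObj sG) :=
      isCoh_sigma_fin' _ (fun b => (hsG.2.2 b).1.1)
    exact exists_finLocFree_nhd_of_retract hcoh i p hip (hgrE x hx)
  · obtain ⟨i, p, hip⟩ := sigma_retract (fun a => StabCat.factor sQ a)
      (fun b => StabCat.factor sE b) g' hg' (fun a => Classical.choice (hfac' a))
    have hcoh : Coh.IsCoh (StabCat.grObj sQ) :=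
      isCoh_sigma_fin' _ (fun b => (hsQ.2.2 b).1.1)
    exact exists_finLocFree_nhd_of_retract hcoh i p hip (hgrE x hx)

end

end Groth.Agent.Lib.ShStabH6
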