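import Mathlib
import Groth.Prelude
import Groth.Agent.Lib.ShStabGr_helper6
import Groth.Agent.Lib.AbFilt11_helper6
import Groth.Agent.Lib.CycLen1_helper8
import Groth.Agent.Lib.NwDense_helper8
import Groth.Agent.Lib.QCohExact_helper9
import Groth.Agent.Lib.ZClos2_helper8
import Groth.Agent.Lib.PB9_helper8
import Groth.Agent.Lib.RestrStalk1_helper8
import Groth.Agent.Lib.SupportCoh_helper9

/-!
# Local freeness near a point: extensions, filtrations, splitting (helper6)

* `LFAt M x`: `M` is finite locally free on a neighbourhood of `x`.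
* `lfAt_of_ext`: extensions of coherent modules locally free near `x` are locally free near `x`.
* `lfAt_of_filtration`: a module with a finite filtration with coherent factors locally free near
  `x` is coherent and locally free near `x`.
* `lfAt_of_gr`: the same from local freeness of the associated graded module.
APPEND-ONLY once landed.
-/

set_option autoImplicit false
set_option linter.all false
set_option maxHeartbeats 1600000

universe u
open Polynomial StabCat
open CategoryTheory CategoryTheory.Limits AlgebraicGeometry TopologicalSpace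

namespace Groth.Agent.Lib.ShStabH6

open Groth.Agent.Lib.HilbCalc Groth.Agent.Lib.AbFilt

section LF

variable {X : Scheme.{u}}

/-- `M` is finite locally free on a neighbourhood of `x`. -/
def LFAt (M : X.Modules) (x : X) : Prop :=
  ∃ U : X.Opens, x ∈ U ∧ FlatMod.IsFinLocFree (M.restrict U.ι)

theorem lfAt_of_iso {M N : X.Modules} (e : M ≅ N) {x : X} (h : LFAt M x) : LFAt N x := by
  obtain ⟨U, hx, hU⟩ := h
  exact ⟨U, hx, FLFH8.IsFinLocFree.of_iso ((Scheme.Modules.restrictFunctor U.ι).mapIso e) hU⟩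

theorem lfAt_of_isZero {M : X.Modules} (hz : IsZero M) (x : X) : LFAt M x := by
  refine ⟨⊤, trivial, ?_⟩
  have hz' : IsZero (M.restrict (⊤ : X.Opens).ι) :=
    (Scheme.Modules.restrictFunctor (⊤ : X.Opens).ι).map_isZero hz
  exact FLFH8.isFinLocFree_of_iso_free (n := 0)
    (hz'.iso (isZero_sigma_fin_zero' _))

theorem free_stalk_of_lfAt {M : X.Modules} [M.IsQuasicoherent] {x : X} (h : LFAt M x) :
    Module.Free (X.presheaf.stalk x) (M.presheaf.stalk x) := by
  obtain ⟨U, hx, hU⟩ := h
  exact FLFH8.free_stalk_of_restrict_finLocFree M hx hU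

theorem exists_free_nhd_of_free_stalk [IsLocallyNoetherian X] {M : X.Modules} (hM : Coh.IsCoh M)
    {x : X} (hfree : Module.Free (X.presheaf.stalk x) (M.presheaf.stalk x)) :
    ∃ (W : X.Opens) (n : ℕ), x ∈ W ∧ Nonempty (M.restrict W.ι ≅ FlatMod.freeMod (↑W) n) := by
  haveI := hM.1
  haveI := hM.2
  haveI := FLFH8.isFinitePresentation_of_isCoh M
  exact FLFH8.exists_free_nhd M x hfree

theorem lfAt_of_free_stalk [IsLocallyNoetherian X] {M : X.Modules} (hM : Coh.IsCoh M)
    {x : X} (hfree : Module.Free (X.presheaf.stalk x) (M.presheaf.stalk x)) : LFAt M x := by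
  obtain ⟨W, n, hxW, ⟨α⟩⟩ := exists_free_nhd_of_free_stalk hM hfree
  exact ⟨W, hxW, FLFH8.isFinLocFree_of_iso_free α⟩

theorem exists_free_nhd_of_lfAt [IsLocallyNoetherian X] {M : X.Modules} (hM : Coh.IsCoh M)
    {x : X} (h : LFAt M x) :
    ∃ (W : X.Opens) (n : ℕ), x ∈ W ∧ Nonempty (M.restrict W.ι ≅ FlatMod.freeMod (↑W) n) := by
  haveI := hM.1
  exact exists_free_nhd_of_free_stalk hM (free_stalk_of_lfAt h)

/-- extensions of coherent modules locally free near `x` are locally free near `x`. -/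
theorem lfAt_of_ext [IsLocallyNoetherian X] (T : ShortComplex X.Modules) (hT : T.ShortExact)
    (h₁ : Coh.IsCoh T.X₁) (h₃ : Coh.IsCoh T.X₃) {x : X} (l₁ : LFAt T.X₁ x) (l₃ : LFAt T.X₃ x) :
    Coh.IsCoh T.X₂ ∧ LFAt T.X₂ x := by
  have h₂ : Coh.IsCoh T.X₂ := Groth.Agent.Lib.CohSerreH3.isCoh_of_shortExact T hT h₁ h₃
  refine ⟨h₂, lfAt_of_free_stalk h₂ ?_⟩
  haveI := h₁.1
  haveI := h₃.1
  haveI : Module.Free (X.presheaf.stalk x) (T.X₁.presheaf.stalk x) := free_stalk_of_lfAt l₁
  haveI : Module.Free (X.presheaf.stalk x) (T.X₃.presheaf.stalk x) := free_stalk_of_lfAt l₃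
  have hinj := CycLenH8.stalk_injective T hT x
  have hsurj := CycLenH8.stalk_surjective T hT x
  have hex := CycLenH8.stalk_exact T hT x
  obtain ⟨s, hs⟩ := Module.projective_lifting_property (Algz.stalkMapₗ T.g x) LinearMap.id hsurj
  exact Module.Free.of_equiv (hex.splitSurjectiveEquiv hinj ⟨s, hs⟩).1.symm

/-- a module with a finite filtration with coherent factors locally free near `x` is coherent and
locally free near `x`. -/
theorem lfAt_of_filtration [IsLocallyNoetherian X] {A : X.Modules} (s : LTSeries (Subobject A))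
    (h0 : s.head = ⊥) (h1 : s.last = ⊤) {x : X}
    (hf : ∀ i : Fin s.length, Coh.IsCoh (factor s i) ∧ LFAt (factor s i) x) :
    Coh.IsCoh A ∧ LFAt A x :=
  prop_of_filtration (fun M : X.Modules => Coh.IsCoh M ∧ LFAt M x)
    (fun e h => ⟨CohDevH8.isCoh_of_iso e.symm h.1, lfAt_of_iso e h.2⟩)
    (fun hz => ⟨CohDevH8.isCoh_of_isZero hz, lfAt_of_isZero hz x⟩)
    (fun S hS h₁ h₃ => lfAt_of_ext S hS h₁.1 h₃.1 h₁.2 h₃.2) s h0 h1 hf

/-- a coherent summand of a finite coproduct locally free near `x` is locally free near `x`. -/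
theorem lfAt_of_sigma [IsLocallyNoetherian X] {n : ℕ} (Y : Fin n → X.Modules)
    (hY : ∀ i, Coh.IsCoh (Y i)) {x : X} (h : LFAt (∐ Y) x) (b : Fin n) : LFAt (Y b) x := by
  haveI : (∐ Y).IsQuasicoherent := (isCoh_sigma_fin' Y hY).1
  exact exists_finLocFree_nhd_of_retract (hY b) (Sigma.ι Y b) (Sigma.π Y b)
    (Sigma.ι_π_eq_id Y b) h

/-- a module with a finite filtration with coherent factors whose associated graded module is
locally free near `x` is coherent and locally free near `x`. -/
theorem lfAt_of_gr [IsLocallyNoetherian X] {A : X.Modules} (s : LTSeries (Subobject A))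
    (h0 : s.head = ⊥) (h1 : s.last = ⊤) (hc : ∀ i : Fin s.length, Coh.IsCoh (factor s i))
    {x : X} (hgr : LFAt (grObj s) x) : Coh.IsCoh A ∧ LFAt A x :=
  lfAt_of_filtration s h0 h1 (fun i => ⟨hc i, lfAt_of_sigma (fun i => factor s i) hc hgr i⟩)

end LF

section Split

open SDivGenH8 SDivFreeH8 QcqsLoc QCohExtn FLFH8

variable {Y : Scheme.{u}}

/-- on an affine scheme, an epimorphism of quasi-coherent modules onto a free module splits. -/
theorem exists_section_of_iso_free [IsAffine Y] {G G' : Y.Modules} [G.IsQuasicoherent]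
    [G'.IsQuasicoherent] (π : G ⟶ G') [Epi π] {n : ℕ} (α : G' ≅ FlatMod.freeMod Y n) :
    ∃ s : G' ⟶ G, s ≫ π = 𝟙 G' := by
  have hsurj : Function.Surjective (π.app ⊤) :=
    QCohExact.app_surjective_of_epi π (isAffineOpen_top Y)
  choose t ht using fun j => hsurj (trivSec G' α j)
  haveI : IsIso (freeHom G' (trivSec G' α)) :=
    isIso_freeHom_of_bases G' _ (basisOn_trivSec G' α)
  have h : freeHom G t ≫ π = freeHom G' (trivSec G' α) := by
    rw [freeHom_comp]
    congr 1
    funext j
    exact ht j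
  exact ⟨inv (freeHom G' (trivSec G' α)) ≫ freeHom G t, by
    rw [Category.assoc, h, IsIso.inv_hom_id]⟩

/-- sections of a zero module vanish. -/
theorem section_eq_zero_of_isZero {M : Y.Modules} (hz : IsZero M) (U : Y.Opens) (s : Γ(M, U)) :
    s = 0 := by
  have h : (𝟙 M : M ⟶ M) = 0 := hz.eq_of_src _ _
  have h2 := congrArg (fun φ : M ⟶ M => φ.app U s) h
  simpa using h2

theorem not_isZero_structureModule [Nonempty Y] : ¬ IsZero (Coh.structureModule Y) := by
  intro hz
  have h1 : (toM (1 : Γ(Y, ⊤)) : Γ(Coh.structureModule Y, ⊤)) = 0 :=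
    section_eq_zero_of_isZero hz ⊤ _
  have h2 : (1 : Γ(Y, ⊤)) = 0 := h1
  haveI : Nonempty ((⊤ : Y.Opens) : Set Y) := ⟨⟨Classical.arbitrary Y, trivial⟩⟩
  exact one_ne_zero h2

end Split

section Pullback

variable {X Y : Scheme.{u}}

/-- pulling back along a morphism which factors through an open subscheme. -/
noncomputable def pullbackFactorIso (ξ : Y ⟶ X) (V : X.Opens) (ξ' : Y ⟶ V) (h : ξ' ≫ V.ι = ξ) :
    Scheme.Modules.pullback ξ ≅
      Scheme.Modules.restrictFunctor V.ι ⋙ Scheme.Modules.pullback ξ' :=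
  Scheme.Modules.pullbackCongr h.symm ≪≫ (Scheme.Modules.pullbackComp ξ' V.ι).symm ≪≫
    Functor.isoWhiskerRight (Scheme.Modules.restrictFunctorIsoPullback V.ι).symm
      (Scheme.Modules.pullback ξ')

/-- if the cokernel of a monomorphism of coherent modules is free on an affine open `V`, then the
pull-back of the monomorphism along a morphism which factors through `V` is a monomorphism. -/
theorem mono_pullback_map_of_free_coker [IsLocallyNoetherian X] (ξ : Y ⟶ X) {I F : X.Modules}
    (hI : Coh.IsCoh I) (hF : Coh.IsCoh F) (i : I ⟶ F) [Mono i] (V : X.Opens)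
    (hV : IsAffineOpen V) (ξ' : Y ⟶ V) (hξ : ξ' ≫ V.ι = ξ) {n : ℕ}
    (α : (cokernel i).restrict V.ι ≅ FlatMod.freeMod (↑V) n) :
    Mono ((Scheme.Modules.pullback ξ).map i) := by
  have hT := cokerSC_shortExact i
  have hT' : ((cokerSC i).map (Scheme.Modules.restrictFunctor V.ι)).ShortExact :=
    hT.map_of_exact (Scheme.Modules.restrictFunctor V.ι)
  haveI : IsAffine (↑V : Scheme.{u}) := hV
  have hQ : Coh.IsCoh (cokernel i) := CohKerH8.isCoh_cokernel hI hF i
  haveI := hF.1
  haveI := hQ.1
  haveI : ((Scheme.Modules.restrictFunctor V.ι).obj F).IsQuasicoherent :=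
    Scheme.Modules.isQuasicoherent_restrictFunctor V.ι _
  haveI : ((Scheme.Modules.restrictFunctor V.ι).obj (cokernel i)).IsQuasicoherent :=
    Scheme.Modules.isQuasicoherent_restrictFunctor V.ι _
  haveI : Epi ((Scheme.Modules.restrictFunctor V.ι).map (cokernel.π i)) := inferInstance
  obtain ⟨s, hs⟩ := exists_section_of_iso_free
    ((Scheme.Modules.restrictFunctor V.ι).map (cokernel.π i)) α
  let σ := ShortComplex.Splitting.ofExactOfSection
    ((cokerSC i).map (Scheme.Modules.restrictFunctor V.ι)) hT'.exact s hs hT'.mono_f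
  let r : (Scheme.Modules.restrictFunctor V.ι).obj F ⟶ (Scheme.Modules.restrictFunctor V.ι).obj I :=
    σ.r
  have hr : (Scheme.Modules.restrictFunctor V.ι).map i ≫ r = 𝟙 _ := σ.f_r
  haveI : IsSplitMono ((Scheme.Modules.pullback ξ').map
      ((Scheme.Modules.restrictFunctor V.ι).map i)) :=
    ⟨⟨⟨(Scheme.Modules.pullback ξ').map r, by
      rw [← Functor.map_comp, hr, CategoryTheory.Functor.map_id]⟩⟩⟩
  let e := pullbackFactorIso ξ V ξ' hξ
  have hnat : (Scheme.Modules.pullback ξ).map i ≫ e.hom.app F = e.hom.app I ≫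
      (Scheme.Modules.pullback ξ').map ((Scheme.Modules.restrictFunctor V.ι).map i) :=
    e.hom.naturality i
  haveI : Mono ((Scheme.Modules.pullback ξ).map i ≫ e.hom.app F) := by
    rw [hnat]
    infer_instance
  exact mono_of_mono _ (e.hom.app F)

/-- a module which is free of rank `n` on an open `V` and whose pull-back along a morphism from a
nonempty scheme factoring through `V` vanishes has `n = 0`. -/
theorem rank_zero_of_isZero_pullback [Nonempty Y] (ξ : Y ⟶ X) (V : X.Opens) (ξ' : Y ⟶ V)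
    (hξ : ξ' ≫ V.ι = ξ) {M : X.Modules} {n : ℕ}
    (β : M.restrict V.ι ≅ FlatMod.freeMod (↑V) n)
    (hz : IsZero ((Scheme.Modules.pullback ξ).obj M)) : n = 0 := by
  by_contra hn
  have hz' : IsZero ((Scheme.Modules.pullback ξ').obj (FlatMod.freeMod (↑V) n)) :=
    IsZero.of_iso hz (((Scheme.Modules.pullback ξ').mapIso β).symm ≪≫
      ((pullbackFactorIso ξ V ξ' hξ).app M).symm)
  let j : Fin n := ⟨0, Nat.pos_of_ne_zero hn⟩
  let Z : Fin n → (↑V : Scheme.{u}).Modules := fun _ => Coh.structureModule (↑V)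
  have h1 : (Scheme.Modules.pullback ξ').map (Sigma.ι Z j) ≫
      (Scheme.Modules.pullback ξ').map (Sigma.π Z j) = 𝟙 _ := by
    rw [← Functor.map_comp, Sigma.ι_π_eq_id, CategoryTheory.Functor.map_id]
  have h2 : (Scheme.Modules.pullback ξ').map (Sigma.ι Z j) = 0 := hz'.eq_of_tgt _ _
  rw [h2, Limits.zero_comp] at h1
  have h3 : IsZero ((Scheme.Modules.pullback ξ').obj (Coh.structureModule (↑V))) :=
    (IsZero.iff_id_eq_zero _).mpr h1.symm
  exact not_isZero_structureModule (IsZero.of_iso h3 (PBH8.pullbackUnitIso ξ').symm)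

theorem exists_affine_nhd_le (x : X) (W : X.Opens) (hx : x ∈ W) :
    ∃ V : X.Opens, IsAffineOpen V ∧ x ∈ V ∧ V ≤ W := by
  obtain ⟨_, ⟨V, hV : IsAffineOpen V, rfl⟩, hxV, hVW⟩ :=
    (X.isBasis_affineOpens).exists_subset_of_mem_open
      (show x ∈ (W : Set X) from hx) W.isOpen
  exact ⟨V, hV, hxV, hVW⟩

/-- a module whose restriction to an open `V` vanishes has no support in `V`. -/
theorem not_mem_support_of_isZero_restrict {M : X.Modules} {V : X.Opens}
    (hz : IsZero (M.restrict V.ι)) {x : X} (hx : x ∈ V) : x ∉ CohB1.support M := by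
  intro hxs
  apply hxs
  have hsub : Subsingleton ((M.restrict V.ι).presheaf.stalk (⟨x, hx⟩ : (↑V : Scheme.{u}))) := by
    refine ⟨fun a b => ?_⟩
    obtain ⟨U, hU, s, rfl⟩ := TopCat.Presheaf.exists_germ_eq (M.restrict V.ι).presheaf a
    obtain ⟨U', hU', s', rfl⟩ := TopCat.Presheaf.exists_germ_eq (M.restrict V.ι).presheaf b
    rw [section_eq_zero_of_isZero hz U s, section_eq_zero_of_isZero hz U' s', map_zero, map_zero]
  exact (RestrStalkH8.restrictStalkEquiv V.ι M ⟨x, hx⟩).symm.toEquiv.subsingleton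

end Pullback

section Main

variable (k : Type u) [Field k] {X : Scheme.{u}} [X.Over (Spec (CommRingCat.of k))]
  [IsProper (X ↘ Spec (CommRingCat.of k))]

variable {L : X.Modules} (hL : CohB1.IsAmple L) (d : ℕ)

include hL

/-- **S15267** (over any field): a morphism between semistable modules with the same reduced
Hilbert polynomial on an irreducible `X` of dimension `d`, the target having a Jordan–Hölder
filtration with graded module locally free near `x`, vanishes as soon as its pull-back along a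
morphism `ξ` from a nonempty scheme with image `{x}` vanishes. -/
theorem main15267 [IrreducibleSpace X] (hX : topologicalKrullDim X = (d : WithBot ℕ∞))
    (E F : X.Modules) (hE : ShStab.IsSemistable k X L E d) (hF : ShStab.IsSemistable k X L F d)
    (pE pF : ℚ[X]) (hpE : ShStab.IsHilbPoly k X L E pE) (hpF : ShStab.IsHilbPoly k X L F pF)
    (hred : StabCat.RedEq d pE pF) {Y : Scheme.{u}} [Nonempty Y] (ξ : Y ⟶ X) (x : X)
    (hξ : ∀ y : Y, ξ.base y = x)
    (sF : LTSeries (Subobject F)) (hsF : ShStab.IsJHFiltration k X L F d sF)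
    (hgrF : ∃ U : X.Opens, x ∈ U ∧ FlatMod.IsFinLocFree ((StabCat.grObj sF).restrict U.ι))
    (f : E ⟶ F) (hf : (Scheme.Modules.pullback ξ).map f = 0) : f = 0 := by
  by_contra hne
  haveI : IsLocallyNoetherian X :=
    LocallyOfFiniteType.isLocallyNoetherian (X ↘ Spec (CommRingCat.of k))
  have A := ax k hL d
  have e1 : hpf (ShStab.IsHilbPoly k X L) E = pE := hpf_eq A hE.1 hpE
  have e2 : hpf (ShStab.IsHilbPoly k X L) F = pF := hpf_eq A hF.1 hpF
  obtain ⟨hIok, hI0, hIF⟩ := image_good A hE hF (by rw [e1, e2]; exact hred) f hne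
  have hI0' : ¬ IsZero ((imageSubobject f : Subobject F) : X.Modules) :=
    fun hz => hI0 ((eq_bot_iff_isZero _).mpr hz)
  obtain ⟨pI, hpI⟩ := exists_hilbPoly k hL.1 _ hIok
  have hredI : StabCat.RedEq d pI pF := by
    rw [← hpf_eq A hIok hpI, ← e2]; exact hIF
  obtain ⟨⟨sI, hsI, hgrI⟩, ⟨sQ, hsQ, hgrQ⟩⟩ := main15271 k hL d F hF {x} sF hsF
    (fun y hy => by rw [Set.mem_singleton_iff.mp hy]; exact hgrF)
    ((imageSubobject f : Subobject F) : X.Modules) (imageSubobject f).arrow hIok pI pF hpI hpF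
    hredI
  -- local freeness of the image and of the quotient
  have lI : LFAt ((imageSubobject f : Subobject F) : X.Modules) x :=
    (lfAt_of_gr sI hsI.1 hsI.2.1 (fun i => (hsI.2.2 i).1.1) (hgrI x rfl)).2
  have hQ := lfAt_of_gr sQ hsQ.1 hsQ.2.1 (fun i => (hsQ.2.2 i).1.1) (hgrQ x rfl)
  obtain ⟨W₁, n₁, hx₁, ⟨α₁⟩⟩ := exists_free_nhd_of_lfAt hIok lI
  obtain ⟨W₂, n₂, hx₂, ⟨α₂⟩⟩ := exists_free_nhd_of_lfAt hQ.1 hQ.2
  obtain ⟨V, hV, hxV', hVW⟩ := exists_affine_nhd_le x (W₁ ⊓ W₂) ⟨hx₁, hx₂⟩
  have hV₁ : V ≤ W₁ := fun y hy => (hVW hy).1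
  have hV₂ : V ≤ W₂ := fun y hy => (hVW hy).2
  obtain ⟨β₁⟩ := FLFH8.iso_restrict_of_le _ hV₁ α₁
  obtain ⟨β₂⟩ := FLFH8.iso_restrict_of_le _ hV₂ α₂
  -- `ξ` factors through `V`
  have hrange : Set.range ξ.base ⊆ Set.range V.ι.base := by
    rintro _ ⟨y, rfl⟩
    rw [hξ y, Scheme.Opens.range_ι]
    exact hxV'
  have hξ' : IsOpenImmersion.lift V.ι ξ hrange ≫ V.ι = ξ := IsOpenImmersion.lift_fac _ _ _
  haveI := mono_pullback_map_of_free_coker ξ hIok hF.1 (imageSubobject f).arrow V hV
    (IsOpenImmersion.lift V.ι ξ hrange) hξ' β₂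
  haveI : Epi ((Scheme.Modules.pullback ξ).map (factorThruImageSubobject f)) := inferInstance
  have hz : IsZero ((Scheme.Modules.pullback ξ).obj
      ((imageSubobject f : Subobject F) : X.Modules)) := by
    have h1 : (Scheme.Modules.pullback ξ).map (factorThruImageSubobject f) ≫
        (Scheme.Modules.pullback ξ).map (imageSubobject f).arrow = 0 := by
      rw [← Functor.map_comp, imageSubobject_arrow_comp, hf]
    have h2 : (Scheme.Modules.pullback ξ).map (factorThruImageSubobject f) = 0 := by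
      rw [← cancel_mono ((Scheme.Modules.pullback ξ).map (imageSubobject f).arrow), h1,
        Limits.zero_comp]
    exact IsZero.of_epi_eq_zero _ h2
  have hn : n₁ = 0 :=
    rank_zero_of_isZero_pullback ξ V (IsOpenImmersion.lift V.ι ξ hrange) hξ' β₁ hz
  subst hn
  have hzV : IsZero (((imageSubobject f : Subobject F) : X.Modules).restrict V.ι) :=
    IsZero.of_iso (isZero_sigma_fin_zero' _) β₁
  have hxs : x ∉ CohB1.support ((imageSubobject f : Subobject F) : X.Modules) :=
    not_mem_support_of_isZero_restrict hzV hxV'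
  -- dimension of the support
  have hdim : topologicalKrullDim (CohB1.support ((imageSubobject f : Subobject F) : X.Modules)) =
      (d : WithBot ℕ∞) := hF.2.2.1 _ (imageSubobject f).arrow inferInstance hIok hI0'
  haveI := hIok.1
  haveI := hIok.2
  have hcl : IsClosed (CohB1.support ((imageSubobject f : Subobject F) : X.Modules)) :=
    SupportCoh.isClosed_support _
  have hlt := NwDenseH8.dim_lt_of_forall_exists_gt
    (CohB1.support ((imageSubobject f : Subobject F) : X.Modules)) d hX.le
    (fun S hS => ⟨⟨Set.univ, IrreducibleSpace.isIrreducible_univ X, isClosed_univ⟩, by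
      refine lt_of_le_of_ne (fun y _ => trivial) (fun h => hxs ?_)
      rw [hcl.closure_eq] at hS
      apply hS
      rw [h]
      trivial⟩)
  rw [hdim] at hlt
  exact lt_irrefl _ hlt

end Main

end Groth.Agent.Lib.ShStabH6
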