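import Mathlib
import Groth.Prelude
import Groth.Agent.Lib.ShStabLF_helper6
import Groth.Agent.Lib.FibFree1_helper2
import Groth.Agent.Lib.ProjSpaceProper_helper4

/-!
# Local freeness along a section from local freeness of the graded modules on fibres (helper6)

`lfAt_of_fibre_gr`: a coherent module flat over a locally Noetherian base whose pull-back to a
fibre product `X_T` has a finite filtration with coherent factors and graded module locally free
near `x'` is locally free near the image of `x'` (uses helper2's fibrewise criterion
`FibFreeH2.freeQ_of_baseChange`).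
APPEND-ONLY once landed.
-/

set_option autoImplicit false
set_option linter.all false
set_option maxHeartbeats 1600000

universe u
open Polynomial StabCat
open CategoryTheory CategoryTheory.Limits AlgebraicGeometry TopologicalSpace

namespace Groth.Agent.Lib.ShStabH6

theorem lfp_of_lft_noeth' {X Y : Scheme.{u}} (f : X ⟶ Y) [IsLocallyNoetherian Y]
    [LocallyOfFiniteType f] : LocallyOfFinitePresentation f := by
  rw [HasRingHomProperty.iff_appLE (P := @LocallyOfFinitePresentation)]
  intro U V e
  have h1 := HasRingHomProperty.appLE (P := @LocallyOfFiniteType) f inferInstance U V e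
  haveI : IsNoetherianRing Γ(Y, U.1) := IsLocallyNoetherian.component_noetherian U
  exact RingHom.FinitePresentation.of_finiteType.1 h1

/-- local freeness near a point from local freeness of the graded module of a filtration of the
pull-back to a fibre product. -/
theorem lfAt_of_fibre_gr {S X : Scheme.{u}} [IsLocallyNoetherian S] (f : X ⟶ S)
    [LocallyOfFiniteType f] (F : X.Modules) (hF : Coh.IsCoh F) (hfl : FlatMod.IsFlatOver f F)
    (T : Over S) [IsLocallyNoetherian T.left] (x' : ↥(PicF.XT f T)) (x : X)
    (hx : (pullback.fst f T.hom).base x' = x)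
    (sF : LTSeries (Subobject ((Scheme.Modules.pullback (pullback.fst f T.hom)).obj F)))
    (h0 : sF.head = ⊥) (h1 : sF.last = ⊤) (hc : ∀ i : Fin sF.length, Coh.IsCoh (factor sF i))
    (hgr : ∃ V : (PicF.XT f T).Opens, x' ∈ V ∧
      FlatMod.IsFinLocFree ((grObj sF).restrict V.ι)) :
    ∃ U : X.Opens, x ∈ U ∧ FlatMod.IsFinLocFree (F.restrict U.ι) := by
  haveI : IsLocallyNoetherian X := LocallyOfFiniteType.isLocallyNoetherian f
  haveI : LocallyOfFinitePresentation f := lfp_of_lft_noeth' f
  haveI : LocallyOfFiniteType (pullback.snd f T.hom) :=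
    MorphismProperty.pullback_snd (P := @LocallyOfFiniteType) _ _ inferInstance
  haveI : IsLocallyNoetherian (PicF.XT f T) :=
    LocallyOfFiniteType.isLocallyNoetherian (pullback.snd f T.hom)
  obtain ⟨hcoh', hlf⟩ := lfAt_of_gr sF h0 h1 hc hgr
  haveI := hF.1
  haveI := hF.2
  haveI : ((Scheme.Modules.pullback (pullback.fst f T.hom)).obj F).IsQuasicoherent := hcoh'.1
  have hfree := free_stalk_of_lfAt hlf
  haveI hq : Coh.IsQCoh F := hF.1
  have H := Groth.Agent.Lib.FibFreeH2.freeQ_of_baseChange (Q := fun _ => True) f F
    (FLFH8.isFinitePresentation_of_isCoh F) T.hom (pullback.fst f T.hom) (pullback.snd f T.hom)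
    (IsPullback.of_hasPullback f T.hom) x' (hfl _) ⟨hfree, trivial⟩
  subst hx
  exact lfAt_of_free_stalk hF H.1

end Groth.Agent.Lib.ShStabH6
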