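import Mathlib
import Groth.Prelude
import Groth.Agent.Lib.ShStabSimple_helper6
import Groth.Agent.Lib.RefHull7_helper8
import Groth.Agent.Lib.QCohExact_helper9
import Groth.Agent.Lib.QCohCrit2_helper9
import Groth.Agent.Lib.SupportCoh_helper9
import Groth.Agent.Lib.CohDev3_helper8

/-!
# Slope-stable reflexive sheaves over an algebraically closed field are simple (helper6)

* `isPure_of_isReflexive`: a reflexive module on an integral scheme of dimension `n` is pure of
  dimension `n` (every nonzero coherent submodule has full support).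
* `isIso_of_isMuStable_endo`: a nonzero endomorphism of a pure slope-stable module is an
  isomorphism.
* `main18968`.
APPEND-ONLY once landed.
-/

set_option autoImplicit false
set_option linter.all false
set_option maxHeartbeats 1600000

universe u
open Polynomial StabCat
open CategoryTheory CategoryTheory.Limits AlgebraicGeometry TopologicalSpace

namespace Groth.Agent.Lib.ShStabH6

open Groth.Agent.Lib.HilbCalc

section Pure

variable {X : Scheme.{u}}

/-- the stalk maps of a monomorphism are injective (after helper9's `NotSimple`). -/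
theorem stalkMapₗ_injective_of_mono' {F G : X.Modules} (φ : F ⟶ G) [Mono φ] (x : X) :
    Function.Injective (RefHull.stalkMapₗ φ x) := by
  rw [injective_iff_map_eq_zero]
  intro a ha
  obtain ⟨U, hxU, m, rfl⟩ := TopCat.Presheaf.exists_germ_eq F.presheaf a
  rw [RefHull.stalkMapₗ_germ] at ha
  have h0 : G.presheaf.germ U x hxU (φ.app U m) = G.presheaf.germ U x hxU 0 := by
    rw [ha, map_zero]
  obtain ⟨W, hxW, iU, iV, hW⟩ := TopCat.Presheaf.germ_eq G.presheaf x hxU hxU _ _ h0
  rw [map_zero] at hW
  have h1 : φ.app W (F.presheaf.map iU.op m) = 0 :=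
    (QCohCrit.app_naturality φ iU m).trans hW
  have h2 : F.presheaf.map iU.op m = 0 :=
    QCohExact.app_injective_of_mono φ W (h1.trans (map_zero _).symm)
  rw [← TopCat.Presheaf.germ_res_apply F.presheaf iU x hxW m, h2, map_zero]

/-- on an integral scheme, a nonzero coherent submodule of a reflexive module has full support. -/
theorem support_eq_univ_of_mono_reflexive [IsIntegral X] {F K : X.Modules}
    (hF : RefHull.IsReflexive F) (ι : K ⟶ F) [Mono ι] (hK : Coh.IsCoh K) (hK0 : ¬ IsZero K) :
    CohB1.support K = Set.univ := by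
  haveI := hK.1
  haveI := hK.2
  have hne : CohB1.support K ≠ ∅ := fun h => hK0 (CohDevH8.isZero_of_support_eq_empty K h)
  obtain ⟨x, hx⟩ := Set.nonempty_iff_ne_empty.mpr hne
  have hx' : ∃ m : K.presheaf.stalk x, m ≠ 0 := by
    by_contra hcon
    push Not at hcon
    exact hx ⟨fun a b => by rw [hcon a, hcon b]⟩
  obtain ⟨m, hm⟩ := hx'
  have hη : genericPoint X ∈ CohB1.support K := by
    intro hsub
    have h0 : K.presheaf.stalkSpecializes
        ((genericPoint_spec X).specializes (Set.mem_univ x)) m = 0 := Subsingleton.elim _ _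
    obtain ⟨s, hs, hsm⟩ := RefHullH8.exists_smul_eq_zero_of_specializes x m h0
    have h1 : s • RefHull.stalkMapₗ ι x m = 0 := by rw [← map_smul, hsm, map_zero]
    have h2 := RefHullH8.smul_eq_zero_of_isReflexive hF x s hs _ h1
    exact hm (stalkMapₗ_injective_of_mono' ι x (h2.trans (map_zero _).symm))
  have hcl := SupportCoh.isClosed_support K
  apply Set.eq_univ_of_univ_subset
  have hgen : closure {genericPoint X} = Set.univ := (genericPoint_spec X).def
  rw [← hgen]
  exact hcl.closure_subset_iff.mpr (Set.singleton_subset_iff.mpr hη)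

/-- a reflexive module on an integral scheme of dimension `n` is pure of dimension `n`. -/
theorem isPure_of_isReflexive [IsIntegral X] {n : ℕ}
    (hX : topologicalKrullDim X = (n : WithBot ℕ∞)) {F : X.Modules}
    (hF : RefHull.IsReflexive F) : ShStab.IsPure X F n := by
  intro K ι hι hK hK0
  haveI := hι
  have hs := support_eq_univ_of_mono_reflexive hF ι hK hK0
  rw [hs, ← hX]
  exact IsHomeomorph.topologicalKrullDim_eq _ (Homeomorph.Set.univ X).isHomeomorph

end Pure

variable (k : Type u) [Field k] {X : Scheme.{u}} [X.Over (Spec (CommRingCat.of k))]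
  [IsProper (X ↘ Spec (CommRingCat.of k))]

section

variable {L : X.Modules} (hL : CohB1.IsAmple L) {n : ℕ}

include hL

/-- a nonzero endomorphism of a pure slope-stable module is an isomorphism. -/
theorem isIso_of_isMuStable_endo {F : X.Modules} (hFt : ShStab.IsPure X F n)
    (hF : ShStab.IsMuStable k X L F n) (ψ : F ⟶ F) (hψ : ψ ≠ 0) : IsIso ψ := by
  haveI : IsLocallyNoetherian X :=
    LocallyOfFiniteType.isLocallyNoetherian (X ↘ Spec (CommRingCat.of k))
  have hIcoh : Coh.IsCoh (Abelian.image ψ) :=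
    CohKerH8.isCoh_kernel hF.1 (CohKerH8.isCoh_cokernel hF.1 hF.1 ψ) _
  have hKcoh : Coh.IsCoh (kernel (Abelian.factorThruImage ψ)) :=
    CohKerH8.isCoh_kernel hF.1 hIcoh _
  have hIne : ¬ IsZero (Abelian.image ψ) := by
    intro h
    apply hψ
    rw [← Abelian.image.fac ψ, h.eq_of_tgt (Abelian.factorThruImage ψ) 0, Limits.zero_comp]
  obtain ⟨pF, hpF⟩ := exists_hilbPoly k hL.1 _ hF.1
  obtain ⟨pI, hpI⟩ := exists_hilbPoly k hL.1 _ hIcoh
  obtain ⟨pK, hpK⟩ := exists_hilbPoly k hL.1 _ hKcoh
  have hsum : pF = pK + pI :=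
    isHilbPoly_unique k hpF
      (isHilbPoly_add k hL.1 (kerImSC ψ) (kerImSC_shortExact ψ) hKcoh hF.1 hIcoh hpK hpI)
  have aI := alpha_pos k hL hIcoh n (hFt _ (Abelian.image.ι ψ) inferInstance hIcoh hIne) hpI
  have aF := alpha_pos k hL hF.1 n (dim_support_of_isPure hFt hF.1 hF.2.1) hpF
  by_cases hK0 : IsZero (kernel (Abelian.factorThruImage ψ))
  · haveI : Mono (Abelian.factorThruImage ψ) := Preadditive.mono_of_isZero_kernel _ hK0
    haveI : Mono ψ := by
      rw [← Abelian.image.fac ψ]
      exact mono_comp _ _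
    have hCcoh := CohKerH8.isCoh_cokernel hF.1 hF.1 ψ
    obtain ⟨pC, hpC⟩ := exists_hilbPoly k hL.1 _ hCcoh
    have hsum2 : pF = pF + pC :=
      isHilbPoly_unique k hpF
        (isHilbPoly_add k hL.1 (cokerSC ψ) (cokerSC_shortExact ψ) hF.1 hF.1 hCcoh hpF hpC)
    have hpC0 : pC = 0 := by
      have := hsum2
      rwa [left_eq_add] at this
    rw [hpC0] at hpC
    have hCz : IsZero (cokernel ψ) := isZero_of_isHilbPoly_zero k hL hCcoh hpC
    haveI : Epi ψ := Preadditive.epi_of_isZero_cokernel _ hCz
    exact isIso_of_mono_of_epi ψ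
  · exfalso
    have aK := alpha_pos k hL hKcoh n
      (hFt _ (kernel.ι (Abelian.factorThruImage ψ)) inferInstance hKcoh hK0) hpK
    have hα : alpha n pF = alpha n pK + alpha n pI := by rw [hsum, alpha_add]
    have hβ : alpha (n - 1) pF = alpha (n - 1) pK + alpha (n - 1) pI := by rw [hsum, alpha_add]
    have h1 := hF.2.2.2.2 _ (kernel.ι (Abelian.factorThruImage ψ)) inferInstance hKcoh pK pF
      hpK hpF aK (by rw [hα]; linarith)
    have h2 := hF.2.2.2.2 _ (Abelian.image.ι ψ) inferInstance hIcoh pI pF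
      hpI hpF aI (by rw [hα]; linarith)
    unfold hatSlope at h1 h2
    rw [div_lt_div_iff₀ aK aF] at h1
    rw [div_lt_div_iff₀ aI aF] at h2
    rw [hα, hβ] at h1 h2
    nlinarith

/-- **S18968** (no smoothness or characteristic assumption needed). -/
theorem main18968 [IsAlgClosed k] [IsIntegral X] (hX : topologicalKrullDim X = (n : WithBot ℕ∞))
    (F : X.Modules) (hFr : RefHull.IsReflexive F) (hF : ShStab.IsMuStable k X L F n)
    (φ : F ⟶ F) : ∃ c : k, φ = c • 𝟙 F := by
  have hFt := isPure_of_isReflexive hX hFr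
  obtain ⟨P, hP⟩ := exists_hilbPoly k hL.1 F hF.1
  obtain ⟨N, hN⟩ := eventually_pos k hL hF.1 hF.2.1 hP
  have h1 := hN N le_rfl
  rw [← hP N] at h1
  have h2 : 0 < Curv2.euler k X (ShStab.twist X L F N) := by exact_mod_cast h1
  unfold ShStab.twist at h2
  rw [CurveTens.euler_of_iso k X (Groth.Agent.TensInv.comm F (CohB1.tensorPow L N))] at h2
  obtain ⟨i, hi⟩ := exists_finrank_pos_of_euler_pos k _ h2
  exact endo_eq_smul_of_forall_isIso k F (CohB1.tensorPow L N) i hi
    (fun ψ hψ => isIso_of_isMuStable_endo k hL hFt hF ψ hψ) φ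

end

end Groth.Agent.Lib.ShStabH6
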