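import Mathlib
import Groth.Prelude
import Groth.Agent.Lib.ShStabMu_helper6
import Groth.Agent.Lib.ShStabRefl_helper6
import Groth.Agent.Lib.RefHull12_helper8
import Groth.Agent.Lib.FreeLoc2_helper8
import Groth.Agent.Lib.SubExt_helper9
import Groth.Agent.Lib.AffDim5_helper8
import Groth.Agent.Lib.LocDimProd_helper8
import Groth.Agent.Lib.ClosHt_helper8
import Groth.Agent.Lib.FibCodim2_helper4
import Groth.Agent.Lib.RegKer1_helper8
import Groth.Agent.Lib.CycLen1_helper8

/-!
# Nonzero morphisms between slope-stable reflexive sheaves (helper6)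

* `isIso_of_hasExt_of_cokernel_codim_two`: a monomorphism between modules with the extension
  property (Hartogs) whose cokernel is supported on a closed set of codimension at least two is
  an isomorphism.
* `not_coheight_le_one_of_mem_closed`: on an irreducible scheme of dimension `n` locally of
  finite type over a field, the points of a closed subset of dimension at most `n - 2` have
  codimension at least two.
* `main18966`.
APPEND-ONLY once landed.
-/

set_option autoImplicit false
set_option linter.all false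
set_option maxHeartbeats 1600000

universe u
open Polynomial StabCat
open CategoryTheory CategoryTheory.Limits AlgebraicGeometry TopologicalSpace

namespace Groth.Agent.Lib.ShStabH6

open Groth.Agent.Lib.HilbCalc Groth.Agent.Lib.HilbCalc2 Groth.Agent.Lib.AbFilt
open QcqsLoc QCohExtn

section Hartogs

variable {X : Scheme.{u}}

/-- a monomorphism whose cokernel has trivial stalk at `x` is bijective on the stalks at `x`. -/
theorem stalk_bijective_of_subsingleton_cokernel {F G : X.Modules} (φ : F ⟶ G) [Mono φ] (x : X)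
    (h : Subsingleton ((cokernel φ).presheaf.stalk x)) :
    Function.Bijective (RefHull.stalkMapₗ φ x) := by
  refine ⟨stalkMapₗ_injective_of_mono' φ x, ?_⟩
  intro g
  have hex := CycLenH8.stalk_exact (cokerSC φ) (cokerSC_shortExact φ) x
  have h0 : Algz.stalkMapₗ (cokernel.π φ) x g = 0 := Subsingleton.elim _ _
  obtain ⟨f, hf⟩ := (hex g).mp h0
  exact ⟨f, hf⟩

/-- a monomorphism between modules with the extension property whose cokernel is supported on a
closed set of codimension at least two is an isomorphism. -/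
theorem isIso_of_hasExt_of_cokernel_codim_two {F G : X.Modules} (hF : RefHullH8.HasExt F)
    (hG : RefHullH8.HasExt G) (φ : F ⟶ G) [Mono φ] (Z : Set X) (hZ : IsClosed Z)
    (hsupp : CohB1.support (cokernel φ) ⊆ Z) (hcodim : ∀ y ∈ Z, ¬ Order.coheight y ≤ 1) :
    IsIso φ := by
  apply SubExt.isIso_of_bijective
  intro V
  let U₁ : X.Opens := V ⊓ ⟨Zᶜ, hZ.isOpen_compl⟩
  have hbig : RefHullH8.BigIn U₁ V :=
    ⟨inf_le_left, fun y hy hc => ⟨hy, fun hyZ => hcodim y hyZ hc⟩⟩
  have h1 := hF V U₁ hbig
  have h2 := hG V U₁ hbig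
  have h3 : Function.Bijective (ap φ U₁) := by
    apply FreeLocH8.ap_bijective_of_stalkMap_bijective
    intro x hx
    have hxZ : x ∉ Z := hx.2
    have hsub : Subsingleton ((cokernel φ).presheaf.stalk x) := by
      by_contra h
      exact hxZ (hsupp h)
    exact stalk_bijective_of_subsingleton_cokernel φ x hsub
  have hsq : ∀ s, ap φ U₁ (rF F hbig.1 s) = rF G hbig.1 (ap φ V s) :=
    fun s => ap_rF φ hbig.1 s
  constructor
  · intro s s' hss
    apply h1.1
    apply h3.1
    rw [hsq, hsq, hss]
  · intro t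
    obtain ⟨s₁, hs₁⟩ := h3.2 (rF G hbig.1 t)
    obtain ⟨s, hs⟩ := h1.2 s₁
    refine ⟨s, h2.1 ?_⟩
    rw [← hsq, hs, hs₁]

end Hartogs

variable (k : Type u) [Field k] {X : Scheme.{u}} [X.Over (Spec (CommRingCat.of k))]
  [IsProper (X ↘ Spec (CommRingCat.of k))]

include k in
/-- on an irreducible scheme of dimension `n` of finite type over a field, the points of a closed
subset of dimension at most `n - 2` have codimension at least two. -/
theorem not_coheight_le_one_of_mem_closed [IrreducibleSpace X] {n : ℕ}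
    (hX : topologicalKrullDim X = (n : WithBot ℕ∞)) (Z : Set X) (hZ : IsClosed Z) (r : ℕ)
    (hr : topologicalKrullDim Z ≤ (r : WithBot ℕ∞)) (hrn : r + 2 ≤ n) (y : X) (hy : y ∈ Z) :
    ¬ Order.coheight y ≤ 1 := by
  intro hc
  obtain ⟨d, hd, hloc⟩ := Groth.Agent.Lib.AffDimH8.exists_dim_nat_of_irreducible k X
    (X ↘ Spec (CommRingCat.of k))
  have hdn : d = n := by
    rw [hd] at hX
    exact_mod_cast hX
  have h1 := hloc y
  rw [LocDimProdH8.localDim_eq k X y] at h1
  have hcl : closure ({y} : Set X) ⊆ Z :=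
    hZ.closure_subset_iff.mpr (Set.singleton_subset_iff.mpr hy)
  have h2 : topologicalKrullDim (closure ({y} : Set X)) ≤ topologicalKrullDim Z :=
    (Topology.IsEmbedding.inclusion hcl).isInducing.topologicalKrullDim_le
  rw [Groth.Agent.ClosHtH8.topologicalKrullDim_closure_singleton X y] at h2
  have h3 : ((Order.height y : ℕ∞) : WithBot ℕ∞) ≤ ((r : ℕ∞) : WithBot ℕ∞) := h2.trans hr
  have h3' : Order.height y ≤ (r : ℕ∞) := by exact_mod_cast h3
  have h4 : (Order.coheight y + Order.height y : ℕ∞) = (d : ℕ∞) := by exact_mod_cast h1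
  have h5 : (d : ℕ∞) ≤ 1 + r := by
    rw [← h4]
    exact add_le_add hc h3'
  have h6 : d ≤ 1 + r := by exact_mod_cast h5
  omega

include k in
/-- a scheme smooth over a field is normal. -/
theorem isNormalScheme_of_smooth_field [Smooth (X ↘ Spec (CommRingCat.of k))] :
    Pi1.IsNormalScheme X :=
  RegKerH8.isNormalScheme_of_regular (fun x =>
    Groth.Agent.Lib.FibCodim2H4.stalk_regular_of_smooth_field (CommRingCat.of k)
      (Field.toIsField k) (X ↘ Spec (CommRingCat.of k)) x)

section

variable {L : X.Modules} (hL : CohB1.IsAmple L) {n : ℕ} (hn : 1 ≤ n)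

include hL hn

/-- nonnegativity of multiplicities. -/
theorem alpha_nonneg' {A : X.Modules} (hA : Coh.IsCoh A) {m : ℕ} (hD : DimLE X m A) {P : ℚ[X]}
    (hP : ShStab.IsHilbPoly k X L A P) : 0 ≤ alpha m P :=
  (alpha_data k hL m hA hD hP).1

/-- **S18966** (over any field; regularity is used through normality only). -/
theorem main18966 [IsIntegral X] (hnorm : Pi1.IsNormalScheme X)
    (hX : topologicalKrullDim X = (n : WithBot ℕ∞))
    (F G : X.Modules) (hFr : RefHull.IsReflexive F) (hGr : RefHull.IsReflexive G)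
    (hF : ShStab.IsMuStable k X L F n) (hG : ShStab.IsMuStable k X L G n)
    (pF pG : ℚ[X]) (hpF : ShStab.IsHilbPoly k X L F pF) (hpG : ShStab.IsHilbPoly k X L G pG)
    (hle : StabCat.hatSlope n pG ≤ StabCat.hatSlope n pF) (φ : F ⟶ G) (hφ : φ ≠ 0) :
    IsIso φ := by
  haveI : IsLocallyNoetherian X :=
    LocallyOfFiniteType.isLocallyNoetherian (X ↘ Spec (CommRingCat.of k))
  have hFt := isPure_of_isReflexive hX hFr
  have hGt := isPure_of_isReflexive hX hGr
  have aF := alpha_pos k hL hF.1 n (dim_support_of_isPure hFt hF.1 hF.2.1) hpF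
  have aG := alpha_pos k hL hG.1 n (dim_support_of_isPure hGt hG.1 hG.2.1) hpG
  have hle' : alpha (n - 1) pG * alpha n pF ≤ alpha (n - 1) pF * alpha n pG := by
    unfold hatSlope at hle
    rwa [div_le_div_iff₀ aG aF] at hle
  have hGss : StabCat.IsMuSS Coh.IsCoh (ShStab.IsHilbPoly k X L) n G :=
    fun S ι hι hS pS pE hpS hpE h1 h2 => (hG.2.2.2.2 S ι hι hS pS pE hpS hpE h1 h2).le
  -- the kernel vanishes
  have hIcoh : Coh.IsCoh (Abelian.image φ) :=
    CohKerH8.isCoh_kernel hG.1 (CohKerH8.isCoh_cokernel hF.1 hG.1 φ) _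
  have hKcoh : Coh.IsCoh (kernel (Abelian.factorThruImage φ)) :=
    CohKerH8.isCoh_kernel hF.1 hIcoh _
  have hIne : ¬ IsZero (Abelian.image φ) := by
    intro h
    apply hφ
    rw [← Abelian.image.fac φ, h.eq_of_tgt (Abelian.factorThruImage φ) 0, Limits.zero_comp]
  obtain ⟨pI, hpI⟩ := exists_hilbPoly k hL.1 _ hIcoh
  obtain ⟨pK, hpK⟩ := exists_hilbPoly k hL.1 _ hKcoh
  have hsum : pF = pK + pI :=
    isHilbPoly_unique k hpF
      (isHilbPoly_add k hL.1 (kerImSC φ) (kerImSC_shortExact φ) hKcoh hF.1 hIcoh hpK hpI)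
  have aI := alpha_pos k hL hIcoh n (hGt _ (Abelian.image.ι φ) inferInstance hIcoh hIne) hpI
  have hbI := muSS_sub_bound k hL hn hG.1 hG.2.1 hGt hGss hpG (Abelian.image.ι φ) hIcoh hpI
  have hK0 : IsZero (kernel (Abelian.factorThruImage φ)) := by
    by_contra hK0
    have aK := alpha_pos k hL hKcoh n
      (hFt _ (kernel.ι (Abelian.factorThruImage φ)) inferInstance hKcoh hK0) hpK
    have hα : alpha n pF = alpha n pK + alpha n pI := by rw [hsum, alpha_add]
    have hβ : alpha (n - 1) pF = alpha (n - 1) pK + alpha (n - 1) pI := by rw [hsum, alpha_add]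
    have h1 := hF.2.2.2.2 _ (kernel.ι (Abelian.factorThruImage φ)) inferInstance hKcoh pK pF
      hpK hpF aK (by rw [hα]; linarith)
    unfold hatSlope at h1
    rw [div_lt_div_iff₀ aK aF] at h1
    -- bK aF < bF aK, hence bF aI < bI aF
    have h2 : alpha (n - 1) pF * alpha n pI < alpha (n - 1) pI * alpha n pF := by
      rw [hα, hβ] at h1 ⊢
      nlinarith
    -- bI aG ≤ bG aI and bG aF ≤ bF aG
    have h3 : alpha (n - 1) pF * alpha n pI * alpha n pG <
        alpha (n - 1) pI * alpha n pF * alpha n pG := mul_lt_mul_of_pos_right h2 aG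
    have h4 : alpha (n - 1) pI * alpha n pG * alpha n pF ≤
        alpha (n - 1) pG * alpha n pI * alpha n pF := mul_le_mul_of_nonneg_right hbI aF.le
    have h5 : alpha (n - 1) pG * alpha n pF * alpha n pI ≤
        alpha (n - 1) pF * alpha n pG * alpha n pI := mul_le_mul_of_nonneg_right hle' aI.le
    nlinarith
  haveI : Mono (Abelian.factorThruImage φ) := Preadditive.mono_of_isZero_kernel _ hK0
  haveI : Mono φ := by
    rw [← Abelian.image.fac φ]
    exact mono_comp _ _
  -- the cokernel
  have hCcoh := CohKerH8.isCoh_cokernel hF.1 hG.1 φ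
  obtain ⟨pC, hpC⟩ := exists_hilbPoly k hL.1 _ hCcoh
  have hsum2 : pG = pF + pC :=
    isHilbPoly_unique k hpG
      (isHilbPoly_add k hL.1 (cokerSC φ) (cokerSC_shortExact φ) hF.1 hG.1 hCcoh hpF hpC)
  have hα2 : alpha n pG = alpha n pF + alpha n pC := by rw [hsum2, alpha_add]
  have hβ2 : alpha (n - 1) pG = alpha (n - 1) pF + alpha (n - 1) pC := by rw [hsum2, alpha_add]
  have hCD : DimLE X n (cokernel φ) := by
    unfold DimLE
    rw [← hX]
    exact topologicalKrullDim_subspace_le X _
  have aC := alpha_nonneg' k hL hn hCcoh hCD hpC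
  have aC0 : alpha n pC = 0 := by
    rcases eq_or_lt_of_le aC with h0 | h0
    · exact h0.symm
    · exfalso
      have h1 := hG.2.2.2.2 F φ inferInstance hF.1 pF pG hpF hpG aF (by rw [hα2]; linarith)
      unfold hatSlope at h1
      rw [div_lt_div_iff₀ aF aG] at h1
      linarith
  have hCD' := dimLE_pred k hL hn hCcoh hCD hpC aC0
  have bC := alpha_nonneg' k hL hn hCcoh hCD' hpC
  have bC0 : alpha (n - 1) pC = 0 := by
    rw [hα2, hβ2, aC0, add_zero] at hle'
    have : alpha (n - 1) pC * alpha n pF ≤ 0 := by nlinarith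
    have h2 : alpha (n - 1) pC ≤ 0 := by
      by_contra hpos
      push Not at hpos
      have := mul_pos hpos aF
      linarith
    exact le_antisymm h2 bC
  -- the support of the cokernel has codimension at least two
  by_cases hCz : IsZero (cokernel φ)
  · haveI : Epi φ := Preadditive.epi_of_isZero_cokernel _ hCz
    exact isIso_of_mono_of_epi φ
  · obtain ⟨r, hr⟩ := exists_dim_support k hCz
    have hr1 : r ≤ n - 1 := by
      have : (r : WithBot ℕ∞) ≤ ((n - 1 : ℕ) : WithBot ℕ∞) := by rw [← hr]; exact hCD'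
      exact_mod_cast this
    have hr2 : r ≠ n - 1 := by
      intro h
      have := alpha_pos k hL hCcoh r hr hpC
      rw [h, bC0] at this
      exact lt_irrefl _ this
    have hrn : r + 2 ≤ n := by omega
    haveI := hCcoh.1
    haveI := hCcoh.2
    have hcl := SupportCoh.isClosed_support (cokernel φ)
    exact isIso_of_hasExt_of_cokernel_codim_two
      (RefHullH8.hasExt_of_isReflexive hnorm hFr) (RefHullH8.hasExt_of_isReflexive hnorm hGr)
      φ _ hcl subset_rfl
      (fun y hy => not_coheight_le_one_of_mem_closed k hX _ hcl r hr.le hrn y hy)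

end

end Groth.Agent.Lib.ShStabH6
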