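import Groth.Agent.Lib.TotFracEt_helper3

/-!
# Finite generation of total rings of fractions over `Frac A` (helper3)

`A` is a reduced ring with finitely many minimal primes, `K = Frac A` (Artinian), `R` an `A`-algebra
on which the non-zero-divisors of `A` stay non-zero-divisors.
-/

set_option autoImplicit false
universe u

namespace Groth.Agent.Lib.TotFracFGH3

open Groth.Agent.Lib.TotFracEtH3

section Units

variable {R : Type u} [CommRing R]

/-- a non-zero-divisor of the total ring of fractions is a unit -/
theorem isUnit_of_mem_nonZeroDivisors_fractionRing {x : FractionRing R}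
    (hx : x ∈ nonZeroDivisors (FractionRing R)) : IsUnit x := by
  obtain ⟨r, s, rfl⟩ := IsLocalization.exists_mk'_eq (nonZeroDivisors R) x
  have hr : r ∈ nonZeroDivisors R := by
    rw [mem_nonZeroDivisors_iff_right]
    intro z hz
    have h1 : algebraMap R (FractionRing R) z * IsLocalization.mk' (FractionRing R) r s = 0 := by
      rw [IsLocalization.mul_mk'_eq_mk'_of_mul, hz, IsLocalization.mk'_zero]
    have h2 := (mem_nonZeroDivisors_iff_right.1 hx) _ h1
    exact (IsLocalization.to_map_eq_zero_iff (FractionRing R) (le_refl _)).1 h2
  exact IsUnit.of_mul_eq_one (IsLocalization.mk' (FractionRing R) (s : R) ⟨r, hr⟩)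
    (IsLocalization.mk'_mul_mk'_eq_one' r s hr)

end Units

section Key

variable (A R : Type u) [CommRing A] [IsReduced A] [CommRing R] [Algebra A R]

/-- the comparison map `R ⊗ Frac A → Frac R` -/
noncomputable def gmap
    (hnzd : Algebra.algebraMapSubmonoid R (nonZeroDivisors A) ≤ nonZeroDivisors R) :
    Localization (Algebra.algebraMapSubmonoid R (nonZeroDivisors A)) →ₐ[R] FractionRing R :=
  IsLocalization.liftAlgHom (M := Algebra.algebraMapSubmonoid R (nonZeroDivisors A))
    (f := Algebra.ofId R (FractionRing R))
    (fun m => IsLocalization.map_units (FractionRing R) (⟨m, hnzd m.2⟩ : nonZeroDivisors R))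

theorem gmap_injective
    (hnzd : Algebra.algebraMapSubmonoid R (nonZeroDivisors A) ≤ nonZeroDivisors R) :
    Function.Injective (gmap A R hnzd) := by
  rw [injective_iff_map_eq_zero]
  intro y hy
  obtain ⟨r, m, rfl⟩ := IsLocalization.exists_mk'_eq
    (Algebra.algebraMapSubmonoid R (nonZeroDivisors A)) y
  have h1 : gmap A R hnzd (IsLocalization.mk' _ r m) * algebraMap R (FractionRing R) m =
      algebraMap R (FractionRing R) r := by
    rw [← (gmap A R hnzd).commutes (m : R), ← map_mul, IsLocalization.mk'_spec,
      (gmap A R hnzd).commutes]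
  rw [hy, zero_mul] at h1
  have h2 : r = 0 := (IsLocalization.to_map_eq_zero_iff (FractionRing R) (le_refl _)).1 h1.symm
  rw [h2, IsLocalization.mk'_zero]

/-- **Key lemma**: if `Frac R` is finitely generated over `Frac A` then every non-zero-divisor of `R`
divides a non-zero-divisor of `A`. -/
theorem exists_mul_eq_of_fg (hmin : (minimalPrimes A).Finite) [IsReduced R]
    (hnzd : Algebra.algebraMapSubmonoid R (nonZeroDivisors A) ≤ nonZeroDivisors R)
    (hfg : ∃ t : Finset (FractionRing R), ∀ x : FractionRing R, ∃ a ∈ nonZeroDivisors A,
      algebraMap A (FractionRing R) a * x ∈ Algebra.adjoin A (t : Set (FractionRing R)))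
    (s : R) (hs : s ∈ nonZeroDivisors R) :
    ∃ d : R, ∃ a ∈ nonZeroDivisors A, s * d = algebraMap A R a := by
  classical
  haveI : IsArtinianRing (Localization (nonZeroDivisors A)) := isArtinianRing_fractionRing hmin
  letI algKT : Algebra (Localization (nonZeroDivisors A)) (FractionRing R) :=
    ((gmap A R hnzd : _ →+* FractionRing R).comp
      (algebraMap (Localization (nonZeroDivisors A))
        (Localization (Algebra.algebraMapSubmonoid R (nonZeroDivisors A))))).toAlgebra
  have halgK : ∀ k : Localization (nonZeroDivisors A),
      algebraMap (Localization (nonZeroDivisors A)) (FractionRing R) k =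
        gmap A R hnzd (algebraMap _ _ k) := fun k => rfl
  haveI : IsScalarTower A (Localization (nonZeroDivisors A)) (FractionRing R) :=
    IsScalarTower.of_algebraMap_eq fun a => by
      rw [halgK, ← IsScalarTower.algebraMap_apply A (Localization (nonZeroDivisors A))
        (Localization (Algebra.algebraMapSubmonoid R (nonZeroDivisors A))),
        IsScalarTower.algebraMap_apply A R
        (Localization (Algebra.algebraMapSubmonoid R (nonZeroDivisors A))), AlgHom.commutes,
        ← IsScalarTower.algebraMap_apply]
  obtain ⟨t, ht⟩ := hfg
  -- `Frac R` is of finite type over `K`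
  haveI : Algebra.FiniteType (Localization (nonZeroDivisors A)) (FractionRing R) := by
    refine ⟨⟨t, ?_⟩⟩
    rw [eq_top_iff]
    intro x _
    obtain ⟨a, ha, hax⟩ := ht x
    have hle : Algebra.adjoin A (t : Set (FractionRing R)) ≤
        (Algebra.adjoin (Localization (nonZeroDivisors A))
          (t : Set (FractionRing R))).restrictScalars A :=
      Algebra.adjoin_le (fun y hy => Algebra.subset_adjoin hy)
    have h1 : algebraMap A (FractionRing R) a * x ∈
        Algebra.adjoin (Localization (nonZeroDivisors A)) (t : Set (FractionRing R)) := hle hax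
    obtain ⟨k, hk⟩ := (IsLocalization.map_units (Localization (nonZeroDivisors A))
      (⟨a, ha⟩ : nonZeroDivisors A)).exists_left_inv
    have h2 : x = algebraMap (Localization (nonZeroDivisors A)) (FractionRing R) k *
        (algebraMap A (FractionRing R) a * x) := by
      rw [IsScalarTower.algebraMap_apply A (Localization (nonZeroDivisors A)) (FractionRing R),
        ← mul_assoc, ← map_mul, hk, map_one, one_mul]
    rw [h2]
    exact Subalgebra.mul_mem _ (Subalgebra.algebraMap_mem _ k) h1
  haveI : IsNoetherianRing (FractionRing R) :=
    Algebra.FiniteType.isNoetherianRing (Localization (nonZeroDivisors A)) (FractionRing R)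
  haveI : IsReduced (FractionRing R) := inferInstance
  have hminT : (minimalPrimes (FractionRing R)).Finite :=
    minimalPrimes.finite_of_isNoetherianRing (FractionRing R)
  haveI : Ring.KrullDimLE 0 (FractionRing R) := by
    rw [Ring.krullDimLE_zero_iff]
    intro 𝔭 h𝔭
    obtain ⟨𝔪, h𝔪, hle⟩ := Ideal.exists_le_maximal 𝔭 h𝔭.ne_top
    haveI := h𝔪.isPrime
    have hdisj : Disjoint (nonZeroDivisors (FractionRing R) : Set (FractionRing R))
        (𝔪 : Set (FractionRing R)) := by
      rw [Set.disjoint_left]
      intro x hx hxm
      exact h𝔪.ne_top (Ideal.eq_top_of_isUnit_mem _ hxm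
        (isUnit_of_mem_nonZeroDivisors_fractionRing hx))
    have hmem := mem_minimalPrimes_of_disjoint hminT 𝔪 hdisj
    have : 𝔪 ≤ 𝔭 := hmem.2 ⟨h𝔭, bot_le⟩ hle
    rw [le_antisymm hle this]
    exact h𝔪
  haveI : IsArtinianRing (FractionRing R) :=
    isArtinianRing_iff_isNoetherianRing_krullDimLE_zero.2 ⟨inferInstance, inferInstance⟩
  haveI : Finite (PrimeSpectrum (FractionRing R)) := inferInstance
  haveI : Algebra.QuasiFinite (Localization (nonZeroDivisors A)) (FractionRing R) :=
    Algebra.QuasiFinite.iff_finite_comap_preimage_singleton.2 fun x => Set.toFinite _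
  haveI : Module.Finite (Localization (nonZeroDivisors A)) (FractionRing R) :=
    Module.Finite.of_quasiFinite
  haveI : IsNoetherianRing (Localization (nonZeroDivisors A)) := inferInstance
  haveI : IsNoetherian (Localization (nonZeroDivisors A)) (FractionRing R) :=
    isNoetherian_of_isNoetherianRing_of_finite _ _
  let gK : Localization (Algebra.algebraMapSubmonoid R (nonZeroDivisors A))
      →ₗ[Localization (nonZeroDivisors A)] FractionRing R :=
    { toFun := gmap A R hnzd
      map_add' := map_add _
      map_smul' := fun k x => by
        rw [Algebra.smul_def, map_mul, RingHom.id_apply, Algebra.smul_def, halgK] }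
  haveI : Module.Finite (Localization (nonZeroDivisors A))
      (Localization (Algebra.algebraMapSubmonoid R (nonZeroDivisors A))) :=
    Module.Finite.of_injective gK (gmap_injective A R hnzd)
  haveI : IsArtinianRing (Localization (Algebra.algebraMapSubmonoid R (nonZeroDivisors A))) :=
    IsArtinianRing.of_finite (Localization (nonZeroDivisors A)) _
  have hsu : IsUnit (algebraMap R
      (Localization (Algebra.algebraMapSubmonoid R (nonZeroDivisors A))) s) := by
    apply IsArtinianRing.isUnit_of_mem_nonZeroDivisors
    exact IsLocalization.map_nonZeroDivisors_le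
      (Algebra.algebraMapSubmonoid R (nonZeroDivisors A)) _ ⟨s, hs, rfl⟩
  obtain ⟨y, hy⟩ := hsu.exists_right_inv
  obtain ⟨d, m, rfl⟩ := IsLocalization.exists_mk'_eq
    (Algebra.algebraMapSubmonoid R (nonZeroDivisors A)) y
  obtain ⟨a, ha, ham⟩ := m.2
  refine ⟨d, a, ha, ?_⟩
  apply IsLocalization.injective
    (Localization (Algebra.algebraMapSubmonoid R (nonZeroDivisors A))) hnzd
  rw [ham, map_mul]
  have h3 := IsLocalization.mk'_spec
    (Localization (Algebra.algebraMapSubmonoid R (nonZeroDivisors A))) d m
  calc algebraMap R _ s * algebraMap R _ d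
      = algebraMap R _ s * (IsLocalization.mk' _ d m * algebraMap R _ (m : R)) := by rw [h3]
    _ = (algebraMap R _ s * IsLocalization.mk' _ d m) * algebraMap R _ (m : R) := by ring
    _ = algebraMap R _ (m : R) := by rw [hy, one_mul]

/-- every element of `Frac R` is an element of `R` divided by a non-zero-divisor of `A` -/
theorem exists_num_of_fg (hmin : (minimalPrimes A).Finite) [IsReduced R]
    (hnzd : Algebra.algebraMapSubmonoid R (nonZeroDivisors A) ≤ nonZeroDivisors R)
    (hfg : ∃ t : Finset (FractionRing R), ∀ x : FractionRing R, ∃ a ∈ nonZeroDivisors A,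
      algebraMap A (FractionRing R) a * x ∈ Algebra.adjoin A (t : Set (FractionRing R)))
    (x : FractionRing R) :
    ∃ c : R, ∃ a ∈ nonZeroDivisors A,
      algebraMap A (FractionRing R) a * x = algebraMap R (FractionRing R) c := by
  obtain ⟨n, s, rfl⟩ := IsLocalization.exists_mk'_eq (nonZeroDivisors R) x
  obtain ⟨d, a, ha, hsd⟩ := exists_mul_eq_of_fg A R hmin hnzd hfg s s.2
  refine ⟨d * n, a, ha, ?_⟩
  rw [IsScalarTower.algebraMap_apply A R (FractionRing R), ← hsd, map_mul, map_mul]
  have := IsLocalization.mk'_spec' (FractionRing R) n s
  calc algebraMap R (FractionRing R) s * algebraMap R (FractionRing R) d *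
        IsLocalization.mk' (FractionRing R) n s
      = algebraMap R (FractionRing R) d *
        (algebraMap R (FractionRing R) s * IsLocalization.mk' (FractionRing R) n s) := by ring
    _ = algebraMap R (FractionRing R) d * algebraMap R (FractionRing R) n := by rw [this]

end Key

section Converse

variable (A R R' : Type u) [CommRing A] [IsReduced A] [CommRing R] [Algebra A R]
  [CommRing R'] [Algebra A R']

/-- If `R ↪ R'` and `R' ⊗ Frac A` is finite over `Frac A`, then `Frac R` is finitely generated over
`Frac A`. -/
theorem fg_of_injective (hmin : (minimalPrimes A).Finite)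
    (hnzd : Algebra.algebraMapSubmonoid R (nonZeroDivisors A) ≤ nonZeroDivisors R)
    (f : R →ₐ[A] R') (hf : Function.Injective f)
    [Module.Finite (Localization (nonZeroDivisors A))
      (Localization (Algebra.algebraMapSubmonoid R' (nonZeroDivisors A)))] :
    ∃ t : Finset (FractionRing R), ∀ x : FractionRing R, ∃ a ∈ nonZeroDivisors A,
      algebraMap A (FractionRing R) a * x ∈ Algebra.adjoin A (t : Set (FractionRing R)) := by
  classical
  haveI : IsArtinianRing (Localization (nonZeroDivisors A)) := isArtinianRing_fractionRing hmin
  haveI : IsNoetherianRing (Localization (nonZeroDivisors A)) := inferInstance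
  have hcomap : Algebra.algebraMapSubmonoid R (nonZeroDivisors A) ≤
      (Algebra.algebraMapSubmonoid R' (nonZeroDivisors A)).comap f.toRingHom := by
    rintro _ ⟨a, ha, rfl⟩
    exact ⟨a, ha, (f.commutes a).symm⟩
  let φ : Localization (Algebra.algebraMapSubmonoid R (nonZeroDivisors A)) →+*
      Localization (Algebra.algebraMapSubmonoid R' (nonZeroDivisors A)) :=
    IsLocalization.map _ f.toRingHom hcomap
  have hφinj : Function.Injective φ := by
    rw [injective_iff_map_eq_zero]
    intro y hy
    obtain ⟨r, m, rfl⟩ := IsLocalization.exists_mk'_eq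
      (Algebra.algebraMapSubmonoid R (nonZeroDivisors A)) y
    rw [IsLocalization.map_mk', IsLocalization.mk'_eq_zero_iff] at hy
    obtain ⟨⟨_, a, ha, rfl⟩, hc⟩ := hy
    rw [IsLocalization.mk'_eq_zero_iff]
    refine ⟨⟨algebraMap A R a, a, ha, rfl⟩, ?_⟩
    apply hf
    rw [map_mul, map_zero, AlgHom.commutes]
    exact hc
  have hφK : ∀ k : Localization (nonZeroDivisors A),
      φ (algebraMap _ _ k) = algebraMap _ _ k := by
    intro k
    have : (φ.comp (algebraMap (Localization (nonZeroDivisors A))
        (Localization (Algebra.algebraMapSubmonoid R (nonZeroDivisors A))))) =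
        algebraMap (Localization (nonZeroDivisors A))
          (Localization (Algebra.algebraMapSubmonoid R' (nonZeroDivisors A))) := by
      apply IsLocalization.ringHom_ext (nonZeroDivisors A)
      ext a
      show φ (algebraMap (Localization (nonZeroDivisors A))
          (Localization (Algebra.algebraMapSubmonoid R (nonZeroDivisors A)))
          (algebraMap A (Localization (nonZeroDivisors A)) a)) =
        algebraMap (Localization (nonZeroDivisors A))
          (Localization (Algebra.algebraMapSubmonoid R' (nonZeroDivisors A)))
          (algebraMap A (Localization (nonZeroDivisors A)) a)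
      rw [← IsScalarTower.algebraMap_apply A (Localization (nonZeroDivisors A))
          (Localization (Algebra.algebraMapSubmonoid R (nonZeroDivisors A))),
        ← IsScalarTower.algebraMap_apply A (Localization (nonZeroDivisors A))
          (Localization (Algebra.algebraMapSubmonoid R' (nonZeroDivisors A))),
        IsScalarTower.algebraMap_apply A R
          (Localization (Algebra.algebraMapSubmonoid R (nonZeroDivisors A))),
        IsLocalization.map_eq,
        IsScalarTower.algebraMap_apply A R'
          (Localization (Algebra.algebraMapSubmonoid R' (nonZeroDivisors A)))]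
      congr 1
      exact f.commutes a
    exact congrArg (fun h => h k) this
  let φK : Localization (Algebra.algebraMapSubmonoid R (nonZeroDivisors A))
      →ₗ[Localization (nonZeroDivisors A)]
      Localization (Algebra.algebraMapSubmonoid R' (nonZeroDivisors A)) :=
    { toFun := φ
      map_add' := map_add _
      map_smul' := fun k x => by
        rw [Algebra.smul_def, map_mul, RingHom.id_apply, Algebra.smul_def, hφK] }
  haveI : IsNoetherian (Localization (nonZeroDivisors A))
      (Localization (Algebra.algebraMapSubmonoid R' (nonZeroDivisors A))) :=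
    isNoetherian_of_isNoetherianRing_of_finite _ _
  haveI : Module.Finite (Localization (nonZeroDivisors A))
      (Localization (Algebra.algebraMapSubmonoid R (nonZeroDivisors A))) :=
    Module.Finite.of_injective φK hφinj
  haveI : IsArtinianRing (Localization (Algebra.algebraMapSubmonoid R (nonZeroDivisors A))) :=
    IsArtinianRing.of_finite (Localization (nonZeroDivisors A)) _
  have hunits : ∀ s ∈ nonZeroDivisors R, IsUnit (algebraMap R
      (Localization (Algebra.algebraMapSubmonoid R (nonZeroDivisors A))) s) := by
    intro s hs
    apply IsArtinianRing.isUnit_of_mem_nonZeroDivisors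
    exact IsLocalization.map_nonZeroDivisors_le
      (Algebra.algebraMapSubmonoid R (nonZeroDivisors A)) _ ⟨s, hs, rfl⟩
  haveI : IsLocalization (nonZeroDivisors R)
      (Localization (Algebra.algebraMapSubmonoid R (nonZeroDivisors A))) :=
    IsLocalization.of_le (Algebra.algebraMapSubmonoid R (nonZeroDivisors A))
      (nonZeroDivisors R) hnzd hunits
  let e : Localization (Algebra.algebraMapSubmonoid R (nonZeroDivisors A)) ≃ₐ[R] FractionRing R :=
    IsLocalization.algEquiv (nonZeroDivisors R) _ (FractionRing R)
  obtain ⟨s, hs⟩ := (Module.Finite.fg_top : (⊤ : Submodule (Localization (nonZeroDivisors A))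
    (Localization (Algebra.algebraMapSubmonoid R (nonZeroDivisors A)))).FG)
  refine ⟨s.image e, fun x => ?_⟩
  have hx : e.symm x ∈ Submodule.span (Localization (nonZeroDivisors A))
      (s : Set (Localization (Algebra.algebraMapSubmonoid R (nonZeroDivisors A)))) := by
    rw [hs]; trivial
  obtain ⟨c, hc⟩ := Submodule.mem_span_finset.1 hx
  obtain ⟨b, hb⟩ := IsLocalization.exist_integer_multiples (nonZeroDivisors A) s c
  choose! a ha using hb
  refine ⟨b, b.2, ?_⟩
  have h1 : algebraMap A (FractionRing R) (b : A) * x = e ((b : A) • e.symm x) := by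
    rw [Algebra.smul_def, map_mul, AlgEquiv.apply_symm_apply]
    congr 1
    rw [IsScalarTower.algebraMap_apply A R
      (Localization (Algebra.algebraMapSubmonoid R (nonZeroDivisors A))), AlgEquiv.commutes,
      ← IsScalarTower.algebraMap_apply]
  have h2 : (b : A) • e.symm x = ∑ g ∈ s, a g • g := by
    rw [← hc.2, Finset.smul_sum]
    refine Finset.sum_congr rfl fun g hg => ?_
    rw [← smul_assoc, ← ha g hg, algebraMap_smul]
  rw [h1, h2, map_sum]
  refine Subalgebra.sum_mem _ fun g hg => ?_
  have h3 : e (a g • g) = a g • e g := by
    rw [Algebra.smul_def, map_mul, Algebra.smul_def]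
    congr 1
    rw [IsScalarTower.algebraMap_apply A R
      (Localization (Algebra.algebraMapSubmonoid R (nonZeroDivisors A))), AlgEquiv.commutes,
      ← IsScalarTower.algebraMap_apply]
  rw [h3]
  exact Subalgebra.smul_mem _ (Algebra.subset_adjoin
    (Finset.mem_coe.2 (Finset.mem_image_of_mem _ hg))) _

end Converse

end Groth.Agent.Lib.TotFracFGH3
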