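import Groth.Agent.Lib.TotFracEt_helper3

/-!
# Intermediate rings between `Frac A` and `Frac E` (helper3)
-/

set_option autoImplicit false
universe u

namespace Groth.Agent.Lib.TotFracSubH3

section Abstract

variable (A : Type u) [CommRing A]
variable (K T : Type u) [CommRing K] [CommRing T] [Algebra A K]
  [IsLocalization (nonZeroDivisors A) K]
  [Algebra A T] [Algebra K T] [IsScalarTower A K T]
  (L : Subalgebra A T) (hL : ∀ s ∈ nonZeroDivisors A, ∃ y ∈ L, algebraMap A T s * y = 1)

include hL in
theorem algebraMap_mem (k : K) : algebraMap K T k ∈ L := by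
  obtain ⟨a, s, rfl⟩ := IsLocalization.exists_mk'_eq (nonZeroDivisors A) k
  have h1 : algebraMap K T (IsLocalization.mk' K a s) * algebraMap A T (s : A) =
      algebraMap A T a := by
    rw [IsScalarTower.algebraMap_apply A K T, ← map_mul, IsLocalization.mk'_spec,
      ← IsScalarTower.algebraMap_apply]
  obtain ⟨y, hy, hsy⟩ := hL s s.2
  have h2 : algebraMap K T (IsLocalization.mk' K a s) = algebraMap A T a * y := by
    rw [← h1, mul_assoc, hsy, mul_one]
  rw [h2]
  exact L.mul_mem (L.algebraMap_mem a) hy

/-- `L` as a `K`-subalgebra. -/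
def LK (hL : ∀ s ∈ nonZeroDivisors A, ∃ y ∈ L, algebraMap A T s * y = 1) : Subalgebra K T :=
  { L.toSubsemiring with
    algebraMap_mem' := fun k => algebraMap_mem A K T L hL k }

theorem mem_LK {x : T} : x ∈ LK A K T L hL ↔ x ∈ L := Iff.rfl

include hL in
theorem inv_mem [IsArtinianRing K] [Module.Finite K T] {l : T} (hl : l ∈ L) (hu : IsUnit l) : ∃ y ∈ L, l * y = 1 := by
  haveI : IsNoetherianRing K := inferInstance
  haveI : IsNoetherian K T := isNoetherian_of_isNoetherianRing_of_finite K T
  haveI : Module.Finite K (LK A K T L hL) :=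
    Module.Finite.of_injective (LK A K T L hL).val.toLinearMap Subtype.val_injective
  haveI : IsArtinianRing (LK A K T L hL) := IsArtinianRing.of_finite K _
  let l' : LK A K T L hL := ⟨l, hl⟩
  have hnzd : l' ∈ nonZeroDivisors (LK A K T L hL) := by
    rw [mem_nonZeroDivisors_iff_right]
    intro x hx
    have h1 : (x : T) * l = 0 := congrArg Subtype.val hx
    have h2 : (x : T) = 0 := (hu.mul_left_eq_zero).1 h1
    exact Subtype.ext h2
  obtain ⟨u, hu'⟩ := isUnit_iff_exists_inv.1 (IsArtinianRing.isUnit_of_mem_nonZeroDivisors hnzd)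
  exact ⟨u.1, u.2, congrArg Subtype.val hu'⟩

include hL in
theorem sub_main (E : Type u) [CommRing E] [Algebra A E] [Algebra E T] [IsScalarTower A E T]
    [IsLocalization (Algebra.algebraMapSubmonoid E (nonZeroDivisors A)) T]
    [IsArtinianRing K] [Module.Finite K T] [IsLocalRing E] :
    ∃ D : Subalgebra A E, (D : Set E) = (algebraMap E T) ⁻¹' (L : Set T) ∧
      ∃ _ : IsLocalRing D, IsLocalHom (algebraMap D E) ∧
        ∀ l ∈ L, ∃ d ∈ D, ∃ s ∈ nonZeroDivisors A, ∃ y ∈ L,
          algebraMap A T s * y = 1 ∧ l = algebraMap E T d * y := by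
  let D : Subalgebra A E := L.comap (IsScalarTower.toAlgHom A E T)
  have hD : ∀ x : E, x ∈ D ↔ algebraMap E T x ∈ L := fun x => Iff.rfl
  have hloc : IsLocalHom (algebraMap D E) := by
    refine ⟨fun d hd => ?_⟩
    have hd' : IsUnit (d : E) := hd
    obtain ⟨u, hu⟩ := isUnit_iff_exists_inv.1 hd'
    have h1 : algebraMap E T (d : E) * algebraMap E T u = 1 := by
      rw [← map_mul, hu, map_one]
    obtain ⟨y, hy, hly⟩ := inv_mem A K T L hL ((hD _).1 d.2) (hd'.map (algebraMap E T))
    have h2 : algebraMap E T u = y := by
      calc algebraMap E T u = algebraMap E T u * (algebraMap E T (d : E) * y) := by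
            rw [hly, mul_one]
        _ = (algebraMap E T (d : E) * algebraMap E T u) * y := by ring
        _ = y := by rw [h1, one_mul]
    have hu' : u ∈ D := by
      rw [hD, h2]; exact hy
    exact isUnit_iff_exists_inv.2 ⟨⟨u, hu'⟩, Subtype.ext hu⟩
  haveI := hloc
  refine ⟨D, rfl, RingHom.domain_isLocalRing (algebraMap D E), hloc, ?_⟩
  intro l hl
  obtain ⟨⟨d, m⟩, hdm⟩ := IsLocalization.surj
    (Algebra.algebraMapSubmonoid E (nonZeroDivisors A)) l
  obtain ⟨s, hs, hsm⟩ := m.2
  obtain ⟨y, hy, hsy⟩ := hL s hs
  have h3 : algebraMap E T (m : E) = algebraMap A T s := by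
    rw [← hsm, ← IsScalarTower.algebraMap_apply]
  have h4 : l * algebraMap A T s = algebraMap E T d := by
    rw [← h3]; exact hdm
  refine ⟨d, ?_, s, hs, y, hy, hsy, ?_⟩
  · rw [hD, ← h4]
    exact L.mul_mem hl (L.algebraMap_mem s)
  · rw [← h4, mul_assoc, hsy, mul_one]

end Abstract

section Concrete

variable (A E : Type u) [CommRing A] [IsReduced A] [CommRing E] [Algebra A E]
  [Module.Flat A E] [Algebra.FormallyUnramified A E] [Algebra.EssFiniteType A E]

theorem finite_loc (hmin : (minimalPrimes A).Finite) :
    Module.Finite (Localization (nonZeroDivisors A))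
      (Localization (Algebra.algebraMapSubmonoid E (nonZeroDivisors A))) := by
  haveI : IsArtinianRing (Localization (nonZeroDivisors A)) :=
    TotFracEtH3.isArtinianRing_fractionRing hmin
  haveI : Algebra.QuasiFinite A E := inferInstance
  haveI : Algebra.QuasiFinite A
      (Localization (Algebra.algebraMapSubmonoid E (nonZeroDivisors A))) := inferInstance
  haveI : Algebra.QuasiFinite (Localization (nonZeroDivisors A))
      (Localization (Algebra.algebraMapSubmonoid E (nonZeroDivisors A))) :=
    Algebra.QuasiFinite.of_restrictScalars A _ _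
  exact Module.Finite.of_quasiFinite

theorem isFractionRing_loc (hmin : (minimalPrimes A).Finite) :
    IsLocalization (nonZeroDivisors E)
      (Localization (Algebra.algebraMapSubmonoid E (nonZeroDivisors A))) := by
  haveI : IsArtinianRing (Localization (nonZeroDivisors A)) :=
    TotFracEtH3.isArtinianRing_fractionRing hmin
  haveI := finite_loc A E hmin
  haveI : IsArtinianRing (Localization (Algebra.algebraMapSubmonoid E (nonZeroDivisors A))) :=
    IsArtinianRing.of_finite (Localization (nonZeroDivisors A)) _
  refine IsLocalization.of_le (Algebra.algebraMapSubmonoid E (nonZeroDivisors A))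
    (nonZeroDivisors E) (TotFracEtH3.algebraMapSubmonoid_le A E) ?_
  intro s hs
  apply IsArtinianRing.isUnit_of_mem_nonZeroDivisors
  exact IsLocalization.map_nonZeroDivisors_le (Algebra.algebraMapSubmonoid E (nonZeroDivisors A))
    (Localization (Algebra.algebraMapSubmonoid E (nonZeroDivisors A))) ⟨s, hs, rfl⟩

theorem sub_final [IsLocalRing E] (hmin : (minimalPrimes A).Finite)
    (L : Subalgebra A (FractionRing E))
    (hL : ∀ s ∈ nonZeroDivisors A, ∃ y ∈ L, algebraMap A (FractionRing E) s * y = 1) :
    ∃ D : Subalgebra A E,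
      (D : Set E) = (algebraMap E (FractionRing E)) ⁻¹' (L : Set (FractionRing E)) ∧
      ∃ _ : IsLocalRing D, IsLocalHom (algebraMap D E) ∧
        ∀ l ∈ L, ∃ d ∈ D, ∃ s ∈ nonZeroDivisors A, ∃ y ∈ L,
          algebraMap A (FractionRing E) s * y = 1 ∧
            l = algebraMap E (FractionRing E) d * y := by
  haveI : IsArtinianRing (Localization (nonZeroDivisors A)) :=
    TotFracEtH3.isArtinianRing_fractionRing hmin
  haveI := finite_loc A E hmin
  haveI := isFractionRing_loc A E hmin
  let e : Localization (Algebra.algebraMapSubmonoid E (nonZeroDivisors A)) ≃ₐ[E] FractionRing E :=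
    IsLocalization.algEquiv (nonZeroDivisors E) _ (FractionRing E)
  letI algK : Algebra (Localization (nonZeroDivisors A)) (FractionRing E) :=
    ((e : Localization (Algebra.algebraMapSubmonoid E (nonZeroDivisors A)) →+* FractionRing E).comp
      (algebraMap (Localization (nonZeroDivisors A))
        (Localization (Algebra.algebraMapSubmonoid E (nonZeroDivisors A))))).toAlgebra
  have halgK : ∀ k : Localization (nonZeroDivisors A),
      algebraMap (Localization (nonZeroDivisors A)) (FractionRing E) k =
        e (algebraMap _ _ k) := fun k => rfl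
  haveI : IsScalarTower A (Localization (nonZeroDivisors A)) (FractionRing E) :=
    IsScalarTower.of_algebraMap_eq fun a => by
      rw [halgK, ← IsScalarTower.algebraMap_apply A (Localization (nonZeroDivisors A))
        (Localization (Algebra.algebraMapSubmonoid E (nonZeroDivisors A))),
        IsScalarTower.algebraMap_apply A E
        (Localization (Algebra.algebraMapSubmonoid E (nonZeroDivisors A))), AlgEquiv.commutes,
        ← IsScalarTower.algebraMap_apply]
  haveI : Module.Finite (Localization (nonZeroDivisors A)) (FractionRing E) := by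
    let f : Localization (Algebra.algebraMapSubmonoid E (nonZeroDivisors A))
        →ₗ[Localization (nonZeroDivisors A)] FractionRing E :=
      { toFun := e
        map_add' := map_add e
        map_smul' := fun k x => by
          rw [Algebra.smul_def, map_mul, RingHom.id_apply, Algebra.smul_def, halgK] }
    exact Module.Finite.of_surjective f e.surjective
  haveI : IsLocalization (Algebra.algebraMapSubmonoid E (nonZeroDivisors A)) (FractionRing E) :=
    (TotFracEtH3.main A E hmin).1
  exact sub_main A (Localization (nonZeroDivisors A)) (FractionRing E) L hL E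

end Concrete

end Groth.Agent.Lib.TotFracSubH3
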