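import Groth.Agent.Lib.ShEssEtSat_helper3
import Groth.Agent.Lib.TotFracFG_helper3
import Groth.Agent.Lib.TotFracSub_helper3
import Groth.Agent.Lib.IndEtaleFib_helper3
import Groth.Agent.Lib.EssEt_lead

/-!
# Subalgebras of a local ind-étale algebra with finitely generated total ring of fractions (helper3)
-/

set_option autoImplicit false
universe u

namespace Groth.Agent.Lib.ShTotFracH3

open IsLocalRing

variable (A S : Type u) [CommRing A] [IsLocalRing A] [IsReduced A] [CommRing S] [IsLocalRing S]
  [Algebra A S] [IsLocalHom (algebraMap A S)]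

omit [IsLocalRing A] [IsReduced A] [IsLocalRing S] [IsLocalHom (algebraMap A S)] in
theorem nzd_le [Module.Flat A S] (D : Subalgebra A S) :
    Algebra.algebraMapSubmonoid D (nonZeroDivisors A) ≤ nonZeroDivisors D := by
  rintro _ ⟨a, ha, rfl⟩
  rw [mem_nonZeroDivisors_iff_right]
  intro z hz
  have hreg : IsSMulRegular A a := by
    rw [isSMulRegular_iff_right_eq_zero_of_smul]
    intro m hm
    rw [smul_eq_mul, mul_comm] at hm
    exact (mem_nonZeroDivisors_iff_right.1 ha) m hm
  have hreg' : IsSMulRegular S (algebraMap A S a) := hreg.of_flat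
  have h1 : (z : S) * algebraMap A S a = 0 := congrArg Subtype.val hz
  apply Subtype.ext
  exact (isSMulRegular_iff_right_eq_zero_of_smul.1 hreg') _
    (by rw [smul_eq_mul, mul_comm]; exact h1)

theorem main (hmin : (minimalPrimes A).Finite) (hie : EtPBC.IsIndEtale A S)
    (D : Subalgebra A S) :
    (∃ t : Finset (FractionRing D), ∀ x : FractionRing D, ∃ a ∈ nonZeroDivisors A,
        algebraMap A (FractionRing D) a * x ∈ Algebra.adjoin A (t : Set (FractionRing D))) ↔
      ∃ E : Subalgebra A S, D ≤ E ∧ ∃ _ : IsLocalRing E, EGA4loc.IsEssentiallyEtale A E := by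
  classical
  haveI : Module.Flat A S := Groth.Agent.Lib.IndEtaleH3.flat_of_isIndEtale hie
  have hnzd := nzd_le A S D
  constructor
  · intro hfg
    haveI : IsReduced S := Groth.Agent.Lib.IndEtaleH3.isReduced_of_isIndEtale hie
    haveI : IsReduced D := isReduced_of_injective D.val Subtype.val_injective
    have hnum := Groth.Agent.Lib.TotFracFGH3.exists_num_of_fg A D hmin hnzd hfg
    obtain ⟨t, ht⟩ := hfg
    choose c a ha hca using hnum
    let F : Finset S := t.image (fun x => (c x : S))
    let D₁ : Subalgebra A S := Algebra.adjoin A (F : Set S)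
    haveI : Algebra.FiniteType A D₁ :=
      (Subalgebra.fg_iff_finiteType _).1 (Subalgebra.fg_adjoin_finset F)
    haveI : Algebra.EssFiniteType A D₁ := inferInstance
    obtain ⟨E, hD₁E, hE, hsat⟩ :=
      Groth.Agent.Lib.ShUnramEssEtH3.exists_subalgebra_sat A S hie D₁
    refine ⟨E, ?_, hE⟩
    have key : ∀ y ∈ Algebra.adjoin A (t : Set (FractionRing D)), ∃ u ∈ nonZeroDivisors A,
        ∃ z : D, (z : S) ∈ D₁ ∧
          algebraMap A (FractionRing D) u * y = algebraMap D (FractionRing D) z := by
      intro y hy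
      induction hy using Algebra.adjoin_induction with
      | mem y hy =>
        exact ⟨a y, ha y, c y,
          Algebra.subset_adjoin (Finset.mem_coe.2 (Finset.mem_image_of_mem _ hy)), hca y⟩
      | algebraMap r =>
        refine ⟨1, one_mem _, algebraMap A D r, D₁.algebraMap_mem r, ?_⟩
        rw [map_one, one_mul, ← IsScalarTower.algebraMap_apply]
      | add y₁ y₂ _ _ h₁ h₂ =>
        obtain ⟨u₁, hu₁, z₁, hz₁, e₁⟩ := h₁
        obtain ⟨u₂, hu₂, z₂, hz₂, e₂⟩ := h₂
        refine ⟨u₁ * u₂, mul_mem hu₁ hu₂, algebraMap A D u₂ * z₁ + algebraMap A D u₁ * z₂, ?_, ?_⟩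
        · show algebraMap A S u₂ * (z₁ : S) + algebraMap A S u₁ * (z₂ : S) ∈ D₁
          exact add_mem (mul_mem (D₁.algebraMap_mem _) hz₁) (mul_mem (D₁.algebraMap_mem _) hz₂)
        · rw [map_add, map_mul (algebraMap D (FractionRing D)),
            map_mul (algebraMap D (FractionRing D)), ← e₁, ← e₂,
            ← IsScalarTower.algebraMap_apply, ← IsScalarTower.algebraMap_apply, map_mul]
          ring
      | mul y₁ y₂ _ _ h₁ h₂ =>
        obtain ⟨u₁, hu₁, z₁, hz₁, e₁⟩ := h₁
        obtain ⟨u₂, hu₂, z₂, hz₂, e₂⟩ := h₂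
        refine ⟨u₁ * u₂, mul_mem hu₁ hu₂, z₁ * z₂, ?_, ?_⟩
        · show (z₁ : S) * (z₂ : S) ∈ D₁
          exact mul_mem hz₁ hz₂
        · rw [map_mul (algebraMap D (FractionRing D)), ← e₁, ← e₂, map_mul]
          ring
    intro x hx
    obtain ⟨a₀, ha₀, hax⟩ := ht (algebraMap D (FractionRing D) ⟨x, hx⟩)
    obtain ⟨u, hu, z, hz, e⟩ := key _ hax
    have h1 : algebraMap A D (u * a₀) * ⟨x, hx⟩ = z := by
      apply IsLocalization.injective (FractionRing D) (le_refl (nonZeroDivisors D))
      rw [map_mul, ← IsScalarTower.algebraMap_apply, map_mul, mul_assoc]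
      exact e
    have h2 : algebraMap A S (u * a₀) * x = (z : S) := congrArg Subtype.val h1
    apply hsat (u * a₀) x (mul_mem hu ha₀)
    rw [h2]
    exact hD₁E hz
  · rintro ⟨E, hDE, hEloc, hE⟩
    haveI := hEloc
    obtain ⟨hfu, hess⟩ := Groth.Agent.Lib.EssEt.inst_of_essEtale hE
    haveI := hfu
    haveI := hess
    haveI : Module.Flat A E := by
      obtain ⟨C, _, _, q, _, hC, _, ⟨e₁⟩⟩ := hE
      haveI := hC
      haveI : Module.Flat A C := inferInstance
      haveI : Module.Flat C (Localization.AtPrime q) := IsLocalization.flat _ q.primeCompl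
      haveI : Module.Flat A (Localization.AtPrime q) := Module.Flat.trans A C _
      exact Module.Flat.of_linearEquiv e₁.toLinearEquiv
    haveI := Groth.Agent.Lib.TotFracSubH3.finite_loc A E hmin
    exact Groth.Agent.Lib.TotFracFGH3.fg_of_injective A D E hmin hnzd
      (Subalgebra.inclusion hDE) (Subalgebra.inclusion_injective hDE)

end Groth.Agent.Lib.ShTotFracH3
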