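import Mathlib
import Groth.Prelude.Def_Hensel
import Groth.Prelude.Def_EssEt
import Groth.Prelude.Def_PBC
import Groth.Agent.Lib.FlatIndEtale_helper3

/-!
# Unramified essentially finite type local subalgebras of flat local algebras (helper3)

Let `A → S` be a flat local homomorphism of local rings and `D ⊆ S` a local `A`-subalgebra dominated
by `S`, essentially of finite type and formally unramified over `A`. Then `D` is an essentially étale
local `A`-algebra.
-/

set_option autoImplicit false
universe u

namespace Groth.Agent.Lib.ShUnramEssEtH3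

open IsLocalRing

section Inj

variable (A S : Type u) [CommRing A] [IsLocalRing A] [CommRing S] [IsLocalRing S] [Algebra A S]
  [Module.Flat A S]
  (C : Type u) [CommRing C] [Algebra A C] [Algebra.Etale A C] (f : C →ₐ[A] S)

/-- the prime of `C` under the maximal ideal of `S` -/
def qOf : Ideal C := (maximalIdeal S).comap f.toRingHom

instance : (qOf A S C f).IsPrime := Ideal.comap_isPrime _ _

theorem mem_qOf (y : C) : y ∈ qOf A S C f ↔ ¬ IsUnit (f y) := by
  show y ∈ (maximalIdeal S).comap f.toRingHom ↔ _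
  rw [Ideal.mem_comap, mem_maximalIdeal, mem_nonunits_iff]
  rfl

theorem isUnit_of_primeCompl (y : (qOf A S C f).primeCompl) : IsUnit (f y) := by
  have := y.2
  change (y : C) ∉ qOf A S C f at this
  rwa [mem_qOf, not_not] at this

/-- the induced map `C_q → S` -/
noncomputable def fh : Localization.AtPrime (qOf A S C f) →ₐ[A] S :=
  IsLocalization.liftAlgHom (M := (qOf A S C f).primeCompl) (f := f) (isUnit_of_primeCompl A S C f)

theorem fh_algebraMap (y : C) : fh A S C f (algebraMap C _ y) = f y := by
  unfold fh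
  rw [IsLocalization.liftAlgHom_apply, IsLocalization.lift_eq]
  rfl

theorem fh_mk' (c : C) (s : (qOf A S C f).primeCompl) :
    fh A S C f (IsLocalization.mk' _ c s) * f s = f c := by
  rw [← fh_algebraMap A S C f s, ← map_mul, IsLocalization.mk'_spec, fh_algebraMap]

theorem fh_injective : Function.Injective (fh A S C f) := by
  letI algCS : Algebra C S := f.toRingHom.toAlgebra
  haveI : IsScalarTower A C S := IsScalarTower.of_algebraMap_eq fun a => (f.commutes a).symm
  haveI : Module.Flat C S := Groth.Agent.Lib.IndEtaleH3.flat_of_flat_of_unramified A C S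
  letI algLS : Algebra (Localization.AtPrime (qOf A S C f)) S := (fh A S C f).toRingHom.toAlgebra
  haveI : IsScalarTower C (Localization.AtPrime (qOf A S C f)) S :=
    IsScalarTower.of_algebraMap_eq fun c => (fh_algebraMap A S C f c).symm
  haveI : Module.Flat (Localization.AtPrime (qOf A S C f)) S :=
    (Module.flat_iff_of_isLocalization (Localization.AtPrime (qOf A S C f))
      (qOf A S C f).primeCompl S).2 inferInstance
  haveI : IsLocalHom (algebraMap (Localization.AtPrime (qOf A S C f)) S) := by
    refine ⟨fun x hx => ?_⟩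
    have hx' : IsUnit (fh A S C f x) := hx
    obtain ⟨c, s, rfl⟩ := IsLocalization.exists_mk'_eq (qOf A S C f).primeCompl x
    have h1 := fh_mk' A S C f c s
    have h2 : IsUnit (f c) := by
      rw [← h1]
      exact hx'.mul (isUnit_of_primeCompl A S C f s)
    have h3 : c ∉ qOf A S C f := by
      rw [mem_qOf, not_not]
      exact h2
    exact (IsLocalization.AtPrime.isUnit_mk'_iff (Localization.AtPrime (qOf A S C f))
      (qOf A S C f) c s).2 h3
  haveI : Module.FaithfullyFlat (Localization.AtPrime (qOf A S C f)) S :=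
    Module.FaithfullyFlat.of_flat_of_isLocalHom
  exact FaithfulSMul.algebraMap_injective (Localization.AtPrime (qOf A S C f)) S

theorem comap_qOf [IsLocalHom (algebraMap A S)] :
    (qOf A S C f).comap (algebraMap A C) = maximalIdeal A := by
  show ((maximalIdeal S).comap f.toRingHom).comap (algebraMap A C) = maximalIdeal A
  rw [Ideal.comap_comap]
  have : f.toRingHom.comp (algebraMap A C) = algebraMap A S := f.comp_algebraMap
  rw [this]
  exact ((local_hom_TFAE (algebraMap A S)).out 0 4).mp ‹IsLocalHom (algebraMap A S)›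

end Inj

section Main

variable (A S : Type u) [CommRing A] [IsLocalRing A] [CommRing S] [IsLocalRing S] [Algebra A S]
  [IsLocalHom (algebraMap A S)] [Module.Flat A S]

theorem main (D : Subalgebra A S) [IsLocalRing D] [IsLocalHom (algebraMap D S)]
    [Algebra.EssFiniteType A D] [Algebra.FormallyUnramified A D] :
    EGA4loc.IsEssentiallyEtale A D := by
  classical
  obtain ⟨D₀, M, hft, hloc⟩ := (Algebra.essFiniteType_iff_exists_subalgebra A D).1
    (inferInstance : Algebra.EssFiniteType A D)
  haveI := hft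
  haveI := hloc
  -- the prime `Q₀` of `D₀`
  let Q₀ : Ideal D₀ := (maximalIdeal D).comap (algebraMap D₀ D)
  haveI : Q₀.IsPrime := Ideal.comap_isPrime _ _
  have hQ₀ : ∀ y : D₀, y ∈ Q₀ ↔ ¬ IsUnit (algebraMap D₀ D y) := by
    intro y
    show y ∈ (maximalIdeal D).comap (algebraMap D₀ D) ↔ _
    rw [Ideal.mem_comap, mem_maximalIdeal, mem_nonunits_iff]
  haveI : IsLocalization.AtPrime D Q₀ := by
    refine IsLocalization.of_le M Q₀.primeCompl ?_ ?_
    · intro m hm
      show m ∉ Q₀
      rw [hQ₀, not_not]
      exact IsLocalization.map_units D ⟨m, hm⟩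
    · intro r hr
      have : r ∉ Q₀ := hr
      rwa [hQ₀, not_not] at this
  let e₀ : Localization.AtPrime Q₀ ≃ₐ[D₀] D := IsLocalization.algEquiv Q₀.primeCompl _ _
  haveI : Algebra.IsUnramifiedAt A Q₀ :=
    Algebra.FormallyUnramified.of_equiv (e₀.symm.restrictScalars A)
  obtain ⟨f₀, hf₀Q, P, φ, hφ⟩ :=
    Algebra.IsUnramifiedAt.exists_hasStandardEtaleSurjectionOn (R := A) Q₀
  -- the map `(D₀)_f → D`
  have hf₀u : ∀ y : Submonoid.powers f₀, IsUnit ((IsScalarTower.toAlgHom A D₀ D) y) := by
    rintro ⟨_, n, rfl⟩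
    show IsUnit (algebraMap D₀ D (f₀ ^ n))
    rw [map_pow]
    have : IsUnit (algebraMap D₀ D f₀) := by
      have := hf₀Q
      rwa [hQ₀, not_not] at this
    exact this.pow n
  let g : Localization.Away f₀ →ₐ[A] D :=
    IsLocalization.liftAlgHom (M := Submonoid.powers f₀) (f := IsScalarTower.toAlgHom A D₀ D) hf₀u
  have hg : ∀ y : D₀, g (algebraMap D₀ _ y) = algebraMap D₀ D y := fun y => by
    rw [IsLocalization.liftAlgHom_apply, IsLocalization.lift_eq]
    rfl
  let ψ : P.Ring →ₐ[A] D := g.comp φ
  have hψ : ∀ y : D₀, ∃ c : P.Ring, ψ c = algebraMap D₀ D y := by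
    intro y
    obtain ⟨c, hc⟩ := hφ (algebraMap D₀ _ y)
    exact ⟨c, by show g (φ c) = _; rw [hc, hg]⟩
  let j : P.Ring →ₐ[A] S := D.val.comp ψ
  have hj : ∀ c, j c = (ψ c : S) := fun c => rfl
  -- units
  have hunit_iff : ∀ d : D, IsUnit (d : S) ↔ IsUnit d := by
    intro d
    constructor
    · intro h
      exact isUnit_of_map_unit (algebraMap D S) d h
    · intro h
      exact h.map D.val
  have hq : ∀ c : P.Ring, c ∈ qOf A S P.Ring j ↔ ¬ IsUnit (ψ c) := by
    intro c
    rw [mem_qOf, hj, hunit_iff]
  -- the map `C_q → D`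
  have hψu : ∀ y : (qOf A S P.Ring j).primeCompl, IsUnit (ψ y) := by
    intro y
    have := y.2
    change (y : P.Ring) ∉ qOf A S P.Ring j at this
    rwa [hq, not_not] at this
  let ψh : Localization.AtPrime (qOf A S P.Ring j) →ₐ[A] D :=
    IsLocalization.liftAlgHom (M := (qOf A S P.Ring j).primeCompl) (f := ψ) hψu
  have hψh : ∀ c : P.Ring, ψh (algebraMap P.Ring _ c) = ψ c := fun c => by
    rw [IsLocalization.liftAlgHom_apply, IsLocalization.lift_eq]
    rfl
  have hcomp : ∀ x, ((ψh x : D) : S) = fh A S P.Ring j x := by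
    intro x
    obtain ⟨c, s, rfl⟩ := IsLocalization.exists_mk'_eq (qOf A S P.Ring j).primeCompl x
    have h1 := fh_mk' A S P.Ring j c s
    have h2 : ψh (IsLocalization.mk' _ c s) * ψ s = ψ c := by
      rw [← hψh s, ← map_mul, IsLocalization.mk'_spec, hψh]
    have h3 : ((ψh (IsLocalization.mk' _ c s) : D) : S) * j s = j c := by
      rw [hj, hj, ← h2]
      rfl
    exact (isUnit_of_primeCompl A S P.Ring j s).mul_left_injective (h3.trans h1.symm)
  have hinj : Function.Injective ψh := by
    intro x y hxy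
    apply fh_injective A S P.Ring j
    rw [← hcomp, ← hcomp, hxy]
  have hsurj : Function.Surjective ψh := by
    intro d
    obtain ⟨⟨a, m⟩, ham⟩ := IsLocalization.surj M d
    obtain ⟨ca, hca⟩ := hψ a
    obtain ⟨cm, hcm⟩ := hψ (m : D₀)
    have hmu : IsUnit (algebraMap D₀ D (m : D₀)) := IsLocalization.map_units D m
    have hcmq : cm ∈ (qOf A S P.Ring j).primeCompl := by
      show cm ∉ qOf A S P.Ring j
      rw [hq, not_not, hcm]
      exact hmu
    refine ⟨IsLocalization.mk' _ ca ⟨cm, hcmq⟩, ?_⟩
    have h2 : ψh (IsLocalization.mk' _ ca ⟨cm, hcmq⟩) * ψ cm = ψ ca := by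
      rw [← hψh cm, ← map_mul, IsLocalization.mk'_spec, hψh]
    apply hmu.mul_left_injective
    show ψh _ * algebraMap D₀ D (m : D₀) = d * algebraMap D₀ D (m : D₀)
    rw [← hcm, h2, hca, hcm]
    exact ham.symm
  let e : Localization.AtPrime (qOf A S P.Ring j) ≃ₐ[A] D := AlgEquiv.ofBijective ψh ⟨hinj, hsurj⟩
  exact ⟨P.Ring, inferInstance, inferInstance, qOf A S P.Ring j, inferInstance, inferInstance,
    comap_qOf A S P.Ring j, ⟨e.symm⟩⟩

end Main

end Groth.Agent.Lib.ShUnramEssEtH3
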