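import Mathlib
import Groth.Prelude
import Groth.Agent.Lib.ModHom_helper2
import Groth.Agent.Lib.SheafHomLF1_helper9

/-!
# `ℋom(F, I)` is flasque for `I` injective (helper4)
APPEND-ONLY once landed.
-/

set_option autoImplicit false
universe u
open CategoryTheory Limits Opposite MonoidalCategory

namespace Groth.Agent.Lib.SheafHomFlasqueH4
open ModSite Groth.Agent.Lib.ModSiteH8 Groth.Agent.Lib.ModFree

section Alg
variable {R : Type u} [CommRing R]

/-- `R[S] ⊗ M → R[T] ⊗ M` is injective for an injective map `S → T`. -/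
lemma free_map_whiskerRight_injective {S T : Type u} (φ : S ⟶ T)
    (hφ : Function.Injective (ConcreteCategory.hom φ))
    (M : ModuleCat.{u} R) :
    Function.Injective ((ModuleCat.free R).map φ ▷ M).hom := by
  let r : (ModuleCat.free R).obj T ⟶ (ModuleCat.free R).obj S :=
    ModuleCat.ofHom (Finsupp.lcomapDomain (ConcreteCategory.hom φ) hφ)
  have h1 : (ModuleCat.free R).map φ ≫ r = 𝟙 _ := by
    apply ModuleCat.hom_ext
    apply LinearMap.ext
    intro (l : S →₀ R)
    change Finsupp.comapDomain (ConcreteCategory.hom φ)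
      (Finsupp.mapDomain (ConcreteCategory.hom φ) l) hφ.injOn = l
    exact Finsupp.comapDomain_mapDomain _ hφ _
  have h2 : ((ModuleCat.free R).map φ ▷ M) ≫ (r ▷ M) = 𝟙 _ := by
    rw [← MonoidalCategory.comp_whiskerRight, h1, MonoidalCategory.id_whiskerRight]
  intro x y hxy
  have := congrArg (r ▷ M).hom hxy
  have e : ∀ z, (r ▷ M).hom (((ModuleCat.free R).map φ ▷ M).hom z) = z := fun z => by
    have := congrArg (fun f => f.hom z) h2
    simpa using this
  rw [e, e] at this
  exact this

end Alg

section Site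

variable {C : Type u} [SmallCategory C] {J : GrothendieckTopology C}
  (O : Sheaf J CommRingCat.{u}) (F : Mod O)

/-- `ΘT` turns sectionwise injective maps of presheaves of sets into monomorphisms. -/
lemma mono_ΘT_map {P Q : Cᵒᵖ ⥤ Type u} (a : P ⟶ Q)
    (ha : ∀ W : Cᵒᵖ, Function.Injective (ConcreteCategory.hom (a.app W))) :
    Mono ((ΘT O F).map a) := by
  apply PresheafOfModules.mono_of_injective
  intro W
  exact free_map_whiskerRight_injective (R := O.obj.obj W) (a.app W) (ha W) (((iF O).obj F).obj W)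

lemma mono_tensor_map {P Q : Cᵒᵖ ⥤ Type u} (a : P ⟶ Q)
    (ha : ∀ W : Cᵒᵖ, Function.Injective (ConcreteCategory.hom (a.app W))) :
    Mono (((tensorBi O).flip.obj F).map ((L₁ (ringSh O)).map a)) := by
  haveI := mono_ΘT_map O F a ha
  haveI : Mono ((ΘT O F ⋙ Lf O).map a) := by
    change Mono ((Lf O).map ((ΘT O F).map a))
    infer_instance
  have h := (ιT O F).hom.naturality a
  have h' : ((tensorBi O).flip.obj F).map ((L₁ (ringSh O)).map a) =
      (ιT O F).inv.app P ≫ (ΘT O F ⋙ Lf O).map a ≫ (ιT O F).hom.app Q := by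
    rw [h]
    simp
  rw [h']
  infer_instance

end Site

end Groth.Agent.Lib.SheafHomFlasqueH4

namespace Groth.Agent.Lib.SheafHomFlasqueH4
open ModSite Groth.Agent.Lib.ModSiteH8 Groth.Agent.Lib.ModFree

section Site

variable {C : Type u} [SmallCategory C] {J : GrothendieckTopology C}
  (O : Sheaf J CommRingCat.{u}) (F : Mod O)

/-- for a monomorphism `i : U ⟶ V` of the site and an injective module `I`, every section of
`ℋom(F, I)` over `U` extends to `V`. -/
theorem sheafHom_map_surjective [HasSheafHom F] (I : Mod O) [Injective I] {U V : C} (i : U ⟶ V)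
    [Mono i] :
    Function.Surjective (((sheafHom F).obj I).val.map i.op).hom := by
  intro s
  let H := (sheafHom F).obj I
  have ha : ∀ W : Cᵒᵖ, Function.Injective (ConcreteCategory.hom ((yoneda.map i).app W)) := by
    intro W x y hxy
    have : x ≫ i = y ≫ i := hxy
    exact (cancel_mono i).1 this
  haveI := mono_tensor_map O F (yoneda.map i) ha
  let gs : yoneda.obj U ⟶ (R₂ (J := J)).obj ((SheafOfModules.toSheaf (ringSh O)).obj H) :=
    yonedaEquiv.symm s
  let as : (L₁ (ringSh O)).obj (yoneda.obj U) ⟶ H := (e₁ (ringSh O) _ H).symm gs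
  let bs := ((sheafHomAdj F).homEquiv _ _).symm as
  let bt := Injective.factorThru bs (((tensorBi O).flip.obj F).map ((L₁ (ringSh O)).map (yoneda.map i)))
  have hbt : ((tensorBi O).flip.obj F).map ((L₁ (ringSh O)).map (yoneda.map i)) ≫ bt = bs :=
    Injective.comp_factorThru _ _
  let at' : (L₁ (ringSh O)).obj (yoneda.obj V) ⟶ H := (sheafHomAdj F).homEquiv _ _ bt
  have hat : (L₁ (ringSh O)).map (yoneda.map i) ≫ at' = as := by
    rw [← (sheafHomAdj F).homEquiv_naturality_left, hbt]
    exact Equiv.apply_symm_apply _ _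
  let gt := e₁ (ringSh O) _ H at'
  have hgt : yoneda.map i ≫ gt = gs := by
    rw [← e₁_map_comp, hat]
    exact Equiv.apply_symm_apply _ _
  refine ⟨yonedaEquiv gt, ?_⟩
  have h1 := yonedaEquiv_naturality gt i
  rw [hgt] at h1
  have h2 : yonedaEquiv gs = s := Equiv.apply_symm_apply _ _
  rw [h2] at h1
  exact h1

end Site

end Groth.Agent.Lib.SheafHomFlasqueH4

namespace Groth.Agent.Lib.SheafHomFlasqueH4
open ModSite Groth.Agent.Lib.ModSiteH8 Groth.Agent.Lib.ModFree AlgebraicGeometry

theorem main10942 (X : Scheme.{u}) (F I : X.Modules)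
    [DCoh.HasSheafHom F] (hI : Injective I) (U V : X.Opens) (hUV : U ≤ V) :
    Function.Surjective (((DCoh.sheafHom F).obj I).val.map (homOfLE hUV).op).hom := by
  haveI : HasSheafHom (O := X.sheaf) F := hasSheafHom _ _
  haveI hI' : @Injective (ModSite.Mod X.sheaf) _ I := hI
  have key := sheafHom_map_surjective X.sheaf F I (homOfLE hUV)
  let φ := (SheafHomLFH9.dcohIso F).app I
  intro s
  obtain ⟨t', ht'⟩ := key (φ.hom.val.app (op U) s)
  refine ⟨φ.inv.val.app (op V) t', ?_⟩
  have h1 := PresheafOfModules.naturality_apply φ.inv.val (homOfLE hUV).op t'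
  refine h1.symm.trans ?_
  refine (congrArg (fun z => (ConcreteCategory.hom (φ.inv.val.app (op U))) z) ht').trans ?_
  have h2 : φ.hom ≫ φ.inv = 𝟙 _ := φ.hom_inv_id
  have h3 := congrArg (fun f => f.val.app (op U) s) h2
  exact h3

end Groth.Agent.Lib.SheafHomFlasqueH4
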