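import Mathlib

/-!
# Quasi-homeomorphisms and equivalences of sheaf categories

Library for S5917 (helper3).  For a continuous map `f : X₀ ⟶ X`, `U ↦ f⁻¹ U` is a bijection on
opens iff the pushforward (equivalently the pullback) of sheaves of sets / abelian groups is an
equivalence.
-/

universe u v w
open CategoryTheory TopologicalSpace Opposite

namespace Groth.Agent.Lib.SheafQH

variable {X₀ X : TopCat.{u}} (f : X₀ ⟶ X)

/-- injectivity from essential surjectivity (Type case) -/
theorem injective_of_essSurj_type [(TopCat.Sheaf.pushforward (Type u) f).EssSurj]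
    (U U' : Opens X) (hUU' : U ≤ U') (h : (Opens.map f).obj U = (Opens.map f).obj U') :
    U' ≤ U := by
  classical
  intro x hx
  by_contra hxU
  let G : TopCat.Sheaf (Type u) X := TopCat.sheafToType X (ULift.{u} Bool)
  let H := (TopCat.Sheaf.pushforward (Type u) f).objPreimage G
  let α : (TopCat.Sheaf.pushforward (Type u) f).obj H ≅ G :=
    (TopCat.Sheaf.pushforward (Type u) f).objObjPreimageIso G
  let i : U ⟶ U' := homOfLE hUU'
  let β : ((TopCat.Sheaf.pushforward (Type u) f).obj H).obj ≅ G.obj :=
    (sheafToPresheaf _ _).mapIso α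
  have nat := β.hom.naturality i.op
  -- the map on the pushforward side is an iso
  have hiso : IsIso (((TopCat.Sheaf.pushforward (Type u) f).obj H).obj.map i.op) := by
    change IsIso (H.obj.map ((Opens.map f).map i).op)
    have : IsIso ((Opens.map f).map i) :=
      ⟨homOfLE (le_of_eq h.symm), Subsingleton.elim _ _, Subsingleton.elim _ _⟩
    infer_instance
  have hG : IsIso (G.obj.map i.op) := by
    have : G.obj.map i.op = (β.app (op U')).inv ≫
        ((TopCat.Sheaf.pushforward (Type u) f).obj H).obj.map i.op ≫ (β.app (op U)).hom := by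
      rw [Iso.eq_inv_comp]
      exact nat.symm
    rw [this]
    infer_instance
  have hinj : Function.Injective (G.obj.map i.op) := ((isIso_iff_bijective _).mp hG).1
  let s₁ : G.obj.obj (op U') := fun p => ULift.up (decide (p.1 = x))
  let s₀ : G.obj.obj (op U') := fun p => ULift.up false
  have h10 : G.obj.map i.op s₁ = G.obj.map i.op s₀ := by
    funext p
    change ULift.up (decide ((p.1 : X) = x)) = ULift.up false
    have : (p.1 : X) ≠ x := fun hp => hxU (hp ▸ p.2)
    simp [this]
  have := congrFun (hinj h10) ⟨x, hx⟩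
  change ULift.up (decide (x = x)) = ULift.up false at this
  simp at this

section germ
variable (V : Opens X₀) (x₀ : X₀) (T : Type u)

/-- germ relation on functions `X₀ → T`: agree outside `V` over some neighbourhood of `f x₀`. -/
def germSetoid : Setoid (X₀ → T) where
  r g g' := ∃ W : Opens X, f x₀ ∈ W ∧ ∀ c : X₀, c ∉ V → f c ∈ W → g c = g' c
  iseqv := by
    refine ⟨fun g => ⟨⊤, trivial, fun _ _ _ => rfl⟩, ?_, ?_⟩
    · rintro g g' ⟨W, hW, h⟩
      exact ⟨W, hW, fun c hc hcW => (h c hc hcW).symm⟩
    · rintro g g' g'' ⟨W, hW, h⟩ ⟨W', hW', h'⟩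
      exact ⟨W ⊓ W', ⟨hW, hW'⟩, fun c hc hcW => (h c hc hcW.1).trans (h' c hc hcW.2)⟩

/-- the type of germs -/
def Germ : Type u := Quotient (germSetoid f V x₀ T)

end germ

/-- key lemma (Type case) -/
theorem key_type [(TopCat.Sheaf.pushforward (Type u) f).Full] (V : Opens X₀) (x₀ : X₀)
    (hx₀ : x₀ ∈ V) (hy : ∀ W : Opens X, f x₀ ∈ W → ∃ c : X₀, c ∉ V ∧ f c ∈ W) : False := by
  classical
  let Bo := ULift.{u} Bool
  let M := Germ f V x₀ Bo
  let F₀ : TopCat.Sheaf (Type u) X₀ := TopCat.sheafToType X₀ Bo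
  let FM : TopCat.Sheaf (Type u) X₀ := TopCat.sheafToType X₀ M
  -- extension by default
  let ext : ∀ W : Opens X, (((Opens.map f).obj W : Opens X₀) → Bo) → (X₀ → Bo) :=
    fun W s c => if h : c ∈ (Opens.map f).obj W then s ⟨c, h⟩ else ULift.up false
  let zeroM : M := Quotient.mk _ (fun _ => ULift.up false)
  let γ : (TopCat.Sheaf.pushforward (Type u) f).obj F₀ ⟶
      (TopCat.Sheaf.pushforward (Type u) f).obj FM :=
    ObjectProperty.homMk
      { app := fun W => ↾(fun (s : ((Opens.map f).obj W.unop : Opens X₀) → Bo)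
            (p : ((Opens.map f).obj W.unop : Opens X₀)) =>
            if p.1 = x₀ then (Quotient.mk _ (ext W.unop s) : M) else zeroM)
        naturality := by
          intro W W' i
          ext s
          funext p
          change (if (p.1 : X₀) = x₀ then (Quotient.mk _ (ext W'.unop
              (fun q => s ⟨q.1, ((Opens.map f).map i.unop).le q.2⟩)) : M) else zeroM) =
            (if (p.1 : X₀) = x₀ then (Quotient.mk _ (ext W.unop s) : M) else zeroM)
          by_cases hp : (p.1 : X₀) = x₀
          · rw [if_pos hp, if_pos hp]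
            apply Quotient.sound
            refine ⟨W'.unop, ?_, ?_⟩
            · have := p.2
              rw [hp] at this
              exact this
            · intro c _ hcW'
              have h1 : c ∈ (Opens.map f).obj W'.unop := hcW'
              have h2 : c ∈ (Opens.map f).obj W.unop := ((Opens.map f).map i.unop).le h1
              simp only [ext, dif_pos h1, dif_pos h2]
          · rw [if_neg hp, if_neg hp] }
  obtain ⟨φ, hφ⟩ := (TopCat.Sheaf.pushforward (Type u) f).map_surjective γ
  -- sections over the whole space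
  let s₁ : F₀.obj.obj (op ((Opens.map f).obj ⊤)) := fun p => ULift.up (decide ((p.1 : X₀) ∉ V))
  let s₀ : F₀.obj.obj (op ((Opens.map f).obj ⊤)) := fun p => ULift.up false
  have hV : V ≤ (Opens.map f).obj ⊤ := fun _ _ => trivial
  let j : V ⟶ (Opens.map f).obj ⊤ := homOfLE hV
  have hres : F₀.obj.map j.op s₁ = F₀.obj.map j.op s₀ := by
    funext p
    change ULift.up (decide ((p.1 : X₀) ∉ V)) = ULift.up false
    have : (p.1 : X₀) ∈ V := p.2
    simp [this]
  have hnat : ∀ s : F₀.obj.obj (op ((Opens.map f).obj ⊤)),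
      φ.hom.app (op V) (F₀.obj.map j.op s) =
        FM.obj.map j.op (φ.hom.app (op ((Opens.map f).obj ⊤)) s) := fun s =>
    ConcreteCategory.congr_hom (φ.hom.naturality j.op) s
  have hφ1 : φ.hom.app (op ((Opens.map f).obj ⊤)) s₁ ⟨x₀, trivial⟩ =
      φ.hom.app (op ((Opens.map f).obj ⊤)) s₀ ⟨x₀, trivial⟩ := by
    have e1 := congrFun (hnat s₁) ⟨x₀, hx₀⟩
    have e0 := congrFun (hnat s₀) ⟨x₀, hx₀⟩
    rw [hres] at e1
    exact e1.symm.trans e0
  -- but γ distinguishes them
  have hγ : ∀ s : F₀.obj.obj (op ((Opens.map f).obj ⊤)),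
      φ.hom.app (op ((Opens.map f).obj ⊤)) s ⟨x₀, trivial⟩ = (Quotient.mk _ (ext ⊤ s) : M) := by
    intro s
    have : ((TopCat.Sheaf.pushforward (Type u) f).map φ).hom.app (op ⊤) s ⟨x₀, trivial⟩ =
        γ.hom.app (op ⊤) s ⟨x₀, trivial⟩ := by rw [hφ]
    refine this.trans ?_
    change (if x₀ = x₀ then (Quotient.mk _ (ext ⊤ s) : M) else zeroM) = _
    rw [if_pos rfl]
  rw [hγ s₁, hγ s₀] at hφ1
  obtain ⟨W, hW, hWc⟩ := Quotient.exact hφ1
  obtain ⟨c, hcV, hcW⟩ := hy W hW
  have := hWc c hcV hcW
  have hc : c ∈ (Opens.map f).obj ⊤ := trivial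
  simp only [ext, dif_pos hc, s₁, s₀] at this
  simp only [hcV, not_false_eq_true, decide_true] at this
  exact Bool.noConfusion (congrArg ULift.down this)

/-- presheaf of all functions to an abelian group -/
def presheafFunAb (Y : TopCat.{u}) (T : Type u) [AddCommGroup T] :
    Y.Presheaf AddCommGrpCat.{u} where
  obj U := AddCommGrpCat.of (U.unop → T)
  map {_ _} i := AddCommGrpCat.ofHom
    { toFun := fun g => g ∘ i.unop
      map_zero' := rfl
      map_add' := fun _ _ => rfl }
  map_id _ := rfl
  map_comp _ _ := rfl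

lemma presheafFunAb_isSheaf (Y : TopCat.{u}) (T : Type u) [AddCommGroup T] :
    (presheafFunAb Y T).IsSheaf := by
  rw [TopCat.Presheaf.isSheaf_iff_isSheaf_comp (forget AddCommGrpCat.{u})]
  have e : presheafFunAb Y T ⋙ forget AddCommGrpCat.{u} ≅ TopCat.presheafToType Y T :=
    NatIso.ofComponents (fun U => Iso.refl _) (by intros; rfl)
  exact (TopCat.Presheaf.isSheaf_iso_iff e).mpr (TopCat.Presheaf.toType_isSheaf Y T)

/-- sheaf of all functions to an abelian group -/
def sheafFunAb (Y : TopCat.{u}) (T : Type u) [AddCommGroup T] : TopCat.Sheaf AddCommGrpCat.{u} Y :=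
  ⟨presheafFunAb Y T, presheafFunAb_isSheaf Y T⟩


/-- injectivity from essential surjectivity (Ab case) -/
theorem injective_of_essSurj_ab [(TopCat.Sheaf.pushforward AddCommGrpCat.{u} f).EssSurj]
    (U U' : Opens X) (hUU' : U ≤ U') (h : (Opens.map f).obj U = (Opens.map f).obj U') :
    U' ≤ U := by
  classical
  intro x hx
  by_contra hxU
  let G : TopCat.Sheaf AddCommGrpCat.{u} X := sheafFunAb X (ULift.{u} ℤ)
  let H := (TopCat.Sheaf.pushforward AddCommGrpCat.{u} f).objPreimage G
  let α : (TopCat.Sheaf.pushforward AddCommGrpCat.{u} f).obj H ≅ G :=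
    (TopCat.Sheaf.pushforward AddCommGrpCat.{u} f).objObjPreimageIso G
  let i : U ⟶ U' := homOfLE hUU'
  let β : ((TopCat.Sheaf.pushforward AddCommGrpCat.{u} f).obj H).obj ≅ G.obj :=
    (sheafToPresheaf _ _).mapIso α
  have nat := β.hom.naturality i.op
  have hiso : IsIso (((TopCat.Sheaf.pushforward AddCommGrpCat.{u} f).obj H).obj.map i.op) := by
    change IsIso (H.obj.map ((Opens.map f).map i).op)
    have : IsIso ((Opens.map f).map i) :=
      ⟨homOfLE (le_of_eq h.symm), Subsingleton.elim _ _, Subsingleton.elim _ _⟩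
    infer_instance
  have hG : IsIso (G.obj.map i.op) := by
    have : G.obj.map i.op = (β.app (op U')).inv ≫
        ((TopCat.Sheaf.pushforward AddCommGrpCat.{u} f).obj H).obj.map i.op ≫
          (β.app (op U)).hom := by
      rw [Iso.eq_inv_comp]
      exact nat.symm
    rw [this]
    infer_instance
  have hinj : Function.Injective (G.obj.map i.op) :=
    ((ConcreteCategory.isIso_iff_bijective _).mp hG).1
  let s₁ : G.obj.obj (op U') := fun p => ULift.up (if p.1 = x then 1 else 0)
  let s₀ : G.obj.obj (op U') := fun p => ULift.up 0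
  have h10 : G.obj.map i.op s₁ = G.obj.map i.op s₀ := by
    funext p
    change ULift.up (if (p.1 : X) = x then (1 : ℤ) else 0) = ULift.up 0
    have : (p.1 : X) ≠ x := fun hp => hxU (hp ▸ p.2)
    simp [this]
  have := congrFun (hinj h10) ⟨x, hx⟩
  change ULift.up (if x = x then (1 : ℤ) else 0) = ULift.up 0 at this
  simp at this

section germ
variable (V : Opens X₀) (x₀ : X₀) (T : Type u) [AddCommGroup T]

/-- functions vanishing outside `V` over a neighbourhood of `f x₀` -/
def germSubgroup : AddSubgroup (X₀ → T) where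
  carrier := {g | ∃ W : Opens X, f x₀ ∈ W ∧ ∀ c : X₀, c ∉ V → f c ∈ W → g c = 0}
  zero_mem' := ⟨⊤, trivial, fun _ _ _ => rfl⟩
  add_mem' := by
    rintro g g' ⟨W, hW, h⟩ ⟨W', hW', h'⟩
    refine ⟨W ⊓ W', ⟨hW, hW'⟩, fun c hc hcW => ?_⟩
    simp [h c hc hcW.1, h' c hc hcW.2]
  neg_mem' := by
    rintro g ⟨W, hW, h⟩
    exact ⟨W, hW, fun c hc hcW => by simp [h c hc hcW]⟩

open Classical in
/-- extension by zero -/
noncomputable def extHom (W : Opens X) :
    (((Opens.map f).obj W : Opens X₀) → T) →+ (X₀ → T) where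
  toFun := fun s c => if h : c ∈ (Opens.map f).obj W then s ⟨c, h⟩ else 0
  map_zero' := by
    funext c
    by_cases h : c ∈ (Opens.map f).obj W
    · simp only [dif_pos h, Pi.zero_apply]
    · simp only [dif_neg h, Pi.zero_apply]
  map_add' := by
    intro s s'
    funext c
    by_cases h : c ∈ (Opens.map f).obj W
    · simp only [dif_pos h, Pi.add_apply]
    · simp only [dif_neg h, Pi.add_apply, add_zero]

lemma extHom_apply_of_mem (W : Opens X) (s : ((Opens.map f).obj W : Opens X₀) → T) (c : X₀)
    (h : c ∈ (Opens.map f).obj W) : extHom f T W s c = s ⟨c, h⟩ := by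
  classical
  change (if h : c ∈ (Opens.map f).obj W then s ⟨c, h⟩ else 0) = _
  rw [dif_pos h]

end germ

/-- key lemma (Ab case) -/
theorem key_ab [(TopCat.Sheaf.pushforward AddCommGrpCat.{u} f).Full] (V : Opens X₀) (x₀ : X₀)
    (hx₀ : x₀ ∈ V) (hy : ∀ W : Opens X, f x₀ ∈ W → ∃ c : X₀, c ∉ V ∧ f c ∈ W) : False := by
  classical
  let Z := ULift.{u} ℤ
  let N := germSubgroup f V x₀ Z
  let M := (X₀ → Z) ⧸ N
  let F₀ : TopCat.Sheaf AddCommGrpCat.{u} X₀ := sheafFunAb X₀ Z
  let FM : TopCat.Sheaf AddCommGrpCat.{u} X₀ := sheafFunAb X₀ M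
  let g : ∀ W : Opens X, ∀ p : ((Opens.map f).obj W : Opens X₀),
      (((Opens.map f).obj W : Opens X₀) → Z) →+ M :=
    fun W p => if p.1 = x₀ then (QuotientAddGroup.mk' N).comp (extHom f Z W) else 0
  let γ : (TopCat.Sheaf.pushforward AddCommGrpCat.{u} f).obj F₀ ⟶
      (TopCat.Sheaf.pushforward AddCommGrpCat.{u} f).obj FM :=
    ObjectProperty.homMk
      { app := fun W => AddCommGrpCat.ofHom (AddMonoidHom.pi (g W.unop))
        naturality := by
          intro W W' i
          ext s
          funext p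
          let s' : ((Opens.map f).obj W.unop : Opens X₀) → Z := s
          change g W'.unop p (fun q => s' ⟨q.1, ((Opens.map f).map i.unop).le q.2⟩) =
            g W.unop ⟨p.1, ((Opens.map f).map i.unop).le p.2⟩ s'
          by_cases hp : (p.1 : X₀) = x₀
          · simp only [g, if_pos hp]
            change (QuotientAddGroup.mk _ : M) = QuotientAddGroup.mk _
            rw [QuotientAddGroup.eq]
            refine ⟨W'.unop, ?_, ?_⟩
            · have := p.2
              rw [hp] at this
              exact this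
            · intro c _ hcW'
              have h1 : c ∈ (Opens.map f).obj W'.unop := hcW'
              have h2 : c ∈ (Opens.map f).obj W.unop := ((Opens.map f).map i.unop).le h1
              simp only [Pi.add_apply, Pi.neg_apply]
              rw [extHom_apply_of_mem f Z _ _ c h1, extHom_apply_of_mem f Z _ _ c h2]
              simp
          · simp only [g, if_neg hp]
            rfl }
  obtain ⟨φ, hφ⟩ := (TopCat.Sheaf.pushforward AddCommGrpCat.{u} f).map_surjective γ
  -- sections over the whole space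
  let s₁ : F₀.obj.obj (op ((Opens.map f).obj ⊤)) :=
    fun p => ULift.up (if (p.1 : X₀) ∉ V then 1 else 0)
  let s₀ : F₀.obj.obj (op ((Opens.map f).obj ⊤)) := fun p => ULift.up 0
  have hV : V ≤ (Opens.map f).obj ⊤ := fun _ _ => trivial
  let j : V ⟶ (Opens.map f).obj ⊤ := homOfLE hV
  have hres : F₀.obj.map j.op s₁ = F₀.obj.map j.op s₀ := by
    funext p
    change ULift.up (if (p.1 : X₀) ∉ V then (1 : ℤ) else 0) = ULift.up 0
    have : (p.1 : X₀) ∈ V := p.2
    simp [this]
  have hnat : ∀ s : F₀.obj.obj (op ((Opens.map f).obj ⊤)),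
      φ.hom.app (op V) (F₀.obj.map j.op s) =
        FM.obj.map j.op (φ.hom.app (op ((Opens.map f).obj ⊤)) s) := fun s =>
    ConcreteCategory.congr_hom (φ.hom.naturality j.op) s
  have hφ1 : φ.hom.app (op ((Opens.map f).obj ⊤)) s₁ ⟨x₀, trivial⟩ =
      φ.hom.app (op ((Opens.map f).obj ⊤)) s₀ ⟨x₀, trivial⟩ := by
    have e1 := congrFun (hnat s₁) ⟨x₀, hx₀⟩
    have e0 := congrFun (hnat s₀) ⟨x₀, hx₀⟩
    rw [hres] at e1
    exact e1.symm.trans e0
  -- but γ distinguishes them
  have hγ : ∀ s : F₀.obj.obj (op ((Opens.map f).obj ⊤)),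
      φ.hom.app (op ((Opens.map f).obj ⊤)) s ⟨x₀, trivial⟩ =
        (QuotientAddGroup.mk (extHom f Z ⊤ s) : M) := by
    intro s
    have : ((TopCat.Sheaf.pushforward AddCommGrpCat.{u} f).map φ).hom.app (op ⊤) s ⟨x₀, trivial⟩ =
        γ.hom.app (op ⊤) s ⟨x₀, trivial⟩ := by rw [hφ]
    refine this.trans ?_
    change g ⊤ ⟨x₀, trivial⟩ s = _
    simp only [g, if_pos]
    rfl
  rw [hγ s₁, hγ s₀] at hφ1
  rw [QuotientAddGroup.eq] at hφ1
  obtain ⟨W, hW, hWc⟩ := hφ1
  obtain ⟨c, hcV, hcW⟩ := hy W hW
  have := hWc c hcV hcW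
  have hc : c ∈ (Opens.map f).obj ⊤ := trivial
  simp only [Pi.add_apply, Pi.neg_apply] at this
  rw [extHom_apply_of_mem f Z _ _ c hc, extHom_apply_of_mem f Z _ _ c hc] at this
  simp only [s₁, s₀, hcV, not_false_eq_true, if_true] at this
  have h2 : (-(1 : ℤ) + 0) = 0 := congrArg ULift.down this
  omega

section equiv
variable (h : Function.Bijective (fun U : Opens X => (Opens.map f).obj U))
include h

lemma le_of_map_le {U U' : Opens X} (hle : (Opens.map f).obj U ≤ (Opens.map f).obj U') :
    U ≤ U' := by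
  have h1 : (Opens.map f).obj (U ⊓ U') = (Opens.map f).obj U := by
    apply le_antisymm
    · intro x hx; exact hx.1
    · intro x hx; exact ⟨hx, hle hx⟩
  have h2 : U ⊓ U' = U := h.1 h1
  exact inf_eq_left.mp h2

/-- inverse on objects -/
noncomputable def inv (V : Opens X₀) : Opens X := (h.2 V).choose

lemma map_inv (V : Opens X₀) : (Opens.map f).obj (inv f h V) = V := (h.2 V).choose_spec

lemma inv_map (U : Opens X) : inv f h ((Opens.map f).obj U) = U := h.1 (map_inv f h _)

/-- the inverse functor -/
noncomputable def invFunctor : Opens X₀ ⥤ Opens X where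
  obj := inv f h
  map {V V'} i := homOfLE (le_of_map_le f h (by rw [map_inv, map_inv]; exact i.le))

/-- the equivalence of categories of opens -/
noncomputable def equiv : Opens X ≌ Opens X₀ where
  functor := Opens.map f
  inverse := invFunctor f h
  unitIso := NatIso.ofComponents (fun U => eqToIso (inv_map f h U).symm)
  counitIso := NatIso.ofComponents (fun V => eqToIso (map_inv f h V))

lemma cocont_map : (Opens.map f).IsCocontinuous (Opens.grothendieckTopology X)
    (Opens.grothendieckTopology X₀) := by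
  constructor
  intro U S hS
  rw [Opens.mem_grothendieckTopology] at hS ⊢
  -- the union of all members
  let Ustar : Opens X := sSup {U₁ | ∃ hle : U₁ ≤ U, S ((Opens.map f).map (homOfLE hle))}
  have hle : Ustar ≤ U := sSup_le (fun U₁ ⟨hle, _⟩ => hle)
  have h1 : (Opens.map f).obj Ustar = (Opens.map f).obj U := by
    apply le_antisymm
    · intro x hx; exact hle hx
    · intro x₀ hx₀
      obtain ⟨V, i, hSi, hxV⟩ := hS x₀ hx₀
      have hV : (Opens.map f).obj (inv f h V) = V := map_inv f h V
      have hle' : inv f h V ≤ U := le_of_map_le f h (by rw [hV]; exact i.le)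
      have hmem : inv f h V ∈ {U₁ | ∃ hle : U₁ ≤ U, S ((Opens.map f).map (homOfLE hle))} := by
        refine ⟨hle', ?_⟩
        have : (Opens.map f).map (homOfLE hle') = eqToHom hV ≫ i := Subsingleton.elim _ _
        rw [this]
        exact S.downward_closed hSi _
      have : inv f h V ≤ Ustar := le_sSup hmem
      have hx' : x₀ ∈ (Opens.map f).obj (inv f h V) := by rw [hV]; exact hxV
      exact this hx'
  have h2 : Ustar = U := h.1 h1
  intro x hx
  rw [← h2] at hx
  obtain ⟨U₁, ⟨hle₁, hS₁⟩, hxU₁⟩ := Opens.mem_sSup.mp hx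
  exact ⟨U₁, homOfLE hle₁, hS₁, hxU₁⟩

lemma cocont_inv : (invFunctor f h).IsCocontinuous (Opens.grothendieckTopology X₀)
    (Opens.grothendieckTopology X) := by
  constructor
  intro V S hS
  rw [Opens.mem_grothendieckTopology] at hS ⊢
  intro x₀ hx₀
  have hx₀' : f x₀ ∈ inv f h V := by
    have : x₀ ∈ (Opens.map f).obj (inv f h V) := by rw [map_inv]; exact hx₀
    exact this
  obtain ⟨U₁, i, hSi, hxU₁⟩ := hS (f x₀) hx₀'
  have hle : (Opens.map f).obj U₁ ≤ V := by
    have := (Opens.map f).map i
    rw [← map_inv f h V]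
    exact this.le
  refine ⟨(Opens.map f).obj U₁, homOfLE hle, ?_, hxU₁⟩
  change S ((invFunctor f h).map (homOfLE hle))
  have : (invFunctor f h).map (homOfLE hle) = eqToHom (inv_map f h U₁) ≫ i :=
    Subsingleton.elim _ _
  rw [this]
  exact S.downward_closed hSi _

theorem pushforward_isEquivalence (A : Type w) [Category.{v} A] :
    (TopCat.Sheaf.pushforward A f).IsEquivalence := by
  let e := equiv f h
  haveI : e.functor.IsCocontinuous (Opens.grothendieckTopology X)
      (Opens.grothendieckTopology X₀) := cocont_map f h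
  haveI : e.inverse.IsCocontinuous (Opens.grothendieckTopology X₀)
      (Opens.grothendieckTopology X) := cocont_inv f h
  haveI : e.inverse.IsDenseSubsite (Opens.grothendieckTopology X₀)
      (Opens.grothendieckTopology X) :=
    Equivalence.isDenseSubsite_inverse_of_isCocontinuous _ _ e
  let E := e.sheafCongr (Opens.grothendieckTopology X) (Opens.grothendieckTopology X₀) A
  have iso : E.inverse ≅ TopCat.Sheaf.pushforward A f :=
    NatIso.ofComponents (fun F => Iso.refl _) (by
      intro F G φ
      apply Sheaf.hom_ext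
      rw [Iso.refl_hom, Iso.refl_hom]
      erw [Category.comp_id, Category.id_comp]
      rfl)
  exact @Functor.isEquivalence_of_iso _ _ _ _ _ _ iso E.isEquivalence_inverse

end equiv


section final

lemma injective_of_le_lemma
    (hl : ∀ U U' : Opens X, U ≤ U' → (Opens.map f).obj U = (Opens.map f).obj U' → U' ≤ U) :
    Function.Injective (fun U : Opens X => (Opens.map f).obj U) := by
  intro U U' hUU'
  have hUU'' : (Opens.map f).obj U = (Opens.map f).obj U' := hUU'
  have h1 : (Opens.map f).obj (U ⊓ U') = (Opens.map f).obj U' := by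
    apply le_antisymm
    · intro x hx; exact hx.2
    · intro x hx
      refine ⟨?_, hx⟩
      have : x ∈ (Opens.map f).obj U := by rw [hUU'']; exact hx
      exact this
  have h2 : (Opens.map f).obj (U ⊓ U') = (Opens.map f).obj U := h1.trans hUU''.symm
  have l1 : U' ≤ U ⊓ U' := hl _ _ inf_le_right h1
  have l2 : U ≤ U ⊓ U' := hl _ _ inf_le_left h2
  exact le_antisymm (l2.trans inf_le_right) (l1.trans inf_le_left)

lemma surjective_of_key_lemma
    (hk : ∀ (V : Opens X₀) (x₀ : X₀), x₀ ∈ V →
      (∀ W : Opens X, f x₀ ∈ W → ∃ c : X₀, c ∉ V ∧ f c ∈ W) → False) :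
    Function.Surjective (fun U : Opens X => (Opens.map f).obj U) := by
  intro V
  let U : Opens X := ⟨(closure (f '' (V : Set X₀)ᶜ))ᶜ, isClosed_closure.isOpen_compl⟩
  refine ⟨U, ?_⟩
  apply le_antisymm
  · intro x₀ hx₀
    by_contra hxV
    have h1 : f x₀ ∈ (closure (f '' (V : Set X₀)ᶜ))ᶜ := hx₀
    exact h1 (subset_closure ⟨x₀, hxV, rfl⟩)
  · intro x₀ hx₀
    change f x₀ ∈ (closure (f '' (V : Set X₀)ᶜ))ᶜ
    intro hcl
    refine hk V x₀ hx₀ ?_
    intro W hW
    obtain ⟨y, hyW, c, hc, rfl⟩ := mem_closure_iff.mp hcl W W.2 hW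
    exact ⟨c, hc, hyW⟩

theorem bijective_of_type (hE : (TopCat.Sheaf.pushforward (Type u) f).IsEquivalence) :
    Function.Bijective (fun U : Opens X => (Opens.map f).obj U) :=
  ⟨injective_of_le_lemma f (injective_of_essSurj_type f),
    surjective_of_key_lemma f (key_type f)⟩

theorem bijective_of_ab (hE : (TopCat.Sheaf.pushforward AddCommGrpCat.{u} f).IsEquivalence) :
    Function.Bijective (fun U : Opens X => (Opens.map f).obj U) :=
  ⟨injective_of_le_lemma f (injective_of_essSurj_ab f),
    surjective_of_key_lemma f (key_ab f)⟩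

theorem main :
    [Function.Bijective (fun U : TopologicalSpace.Opens X => (TopologicalSpace.Opens.map f).obj U),
      (TopCat.Sheaf.pullback (Type u) f).IsEquivalence,
      (TopCat.Sheaf.pullback AddCommGrpCat.{u} f).IsEquivalence].TFAE := by
  tfae_have 1 → 2 := by
    intro h
    haveI := pushforward_isEquivalence f h (Type u)
    exact (TopCat.Sheaf.pullbackPushforwardAdjunction (Type u) f).isEquivalence_left_of_isEquivalence_right
  tfae_have 1 → 3 := by
    intro h
    haveI := pushforward_isEquivalence f h AddCommGrpCat.{u}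
    exact (TopCat.Sheaf.pullbackPushforwardAdjunction AddCommGrpCat.{u}
      f).isEquivalence_left_of_isEquivalence_right
  tfae_have 2 → 1 := by
    intro h
    exact bijective_of_type f
      (TopCat.Sheaf.pullbackPushforwardAdjunction (Type u) f).isEquivalence_right_of_isEquivalence_left
  tfae_have 3 → 1 := by
    intro h
    exact bijective_of_ab f
      (TopCat.Sheaf.pullbackPushforwardAdjunction AddCommGrpCat.{u}
        f).isEquivalence_right_of_isEquivalence_left
  tfae_finish

end final

end Groth.Agent.Lib.SheafQH
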