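import Mathlib

set_option autoImplicit false
set_option linter.unusedSimpArgs false
set_option linter.unusedVariables false
set_option linter.unusedSectionVars false
set_option linter.style.longLine false
set_option linter.unnecessarySimpa false
set_option maxHeartbeats 1600000
set_option backward.isDefEq.respectTransparency false
set_option backward.isDefEq.respectTransparency.types false
set_option backward.defeqAttrib.useBackward true

open CategoryTheory CategoryTheory.Limits MonoidalCategory CartesianMonoidalCategory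
  SemiCartesianMonoidalCategory Opposite

universe w v₁ u₁

namespace Groth.Agent.Lib.ShfQuot

variable {C : Type u₁} [Category.{v₁} C] {J : GrothendieckTopology C}

/-- Epimorphisms of sheaves of types are stable under pullback. -/
theorem epi_snd_of_isPullback [HasSheafify J (Type w)] {F G H P : Sheaf J (Type w)}
    {a : P ⟶ F} {b : P ⟶ H} {φ : F ⟶ G} {h : H ⟶ G}
    (hP : IsPullback a b φ h) [Epi φ] : Epi b := by
  have hφ : Sheaf.IsLocallySurjective φ := (Sheaf.isLocallySurjective_iff_epi φ).2 inferInstance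
  rw [← Sheaf.isLocallySurjective_iff_epi]
  constructor
  intro U s
  refine J.superset_covering ?_ (hφ.imageSieve_mem (h.hom.app (op U) s))
  intro V i hi
  obtain ⟨t, ht⟩ := hi
  have hE := hP.map (sheafToPresheaf J (Type w) ⋙ (evaluation Cᵒᵖ (Type w)).obj (op V))
  have hx : φ.hom.app (op V) t = h.hom.app (op V) (H.obj.map i.op s) := by
    rw [ht]
    exact (NatTrans.naturality_apply h.hom i.op s).symm
  obtain ⟨z, hz1, hz2⟩ := Types.exists_of_isPullback hE t (H.obj.map i.op s) hx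
  exact ⟨z, hz2⟩

/-- Descent of a factorisation through a monomorphism along an epimorphism. -/
theorem exists_fac_of_epi_of_mono [HasSheafify J (Type w)] {W' W Z P₀ : Sheaf J (Type w)}
    (pr : W' ⟶ W) [Epi pr] (ι : Z ⟶ P₀) [Mono ι] (g : W ⟶ P₀) (z' : W' ⟶ Z)
    (hz : z' ≫ ι = pr ≫ g) : ∃ z : W ⟶ Z, z ≫ ι = g := by
  haveI : IsRegularEpi pr := IsRegularEpiCategory.regularEpiOfEpi pr
  have hw : IsRegularEpi.left pr ≫ z' = IsRegularEpi.right pr ≫ z' := by
    rw [← cancel_mono ι, Category.assoc, Category.assoc, hz, ← Category.assoc, ← Category.assoc,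
      IsRegularEpi.w]
  refine ⟨IsRegularEpi.desc pr z' hw, ?_⟩
  rw [← cancel_epi pr, ← Category.assoc, IsRegularEpi.fac, hz]

theorem main6048 (J : GrothendieckTopology C) [HasSheafify J (Type w)]
    {R X : Sheaf J (Type w)} {p₁ p₂ : R ⟶ X}
    (e : UniversallyEffectiveEquivalenceRelation p₁ p₂) (Y : Sheaf J (Type w)) :
    (∀ (Z : Sheaf J (Type w)) (ι : Z ⟶ X ⊗ Y), Mono ι →
      (∀ (W : Sheaf J (Type w)) (r : W ⟶ R) (y : W ⟶ Y),
        (∃ z : W ⟶ Z, z ≫ ι = lift (r ≫ p₁) y) ↔ (∃ z : W ⟶ Z, z ≫ ι = lift (r ≫ p₂) y)) →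
      Epi (ι ≫ snd X Y) →
      (∀ (W : Sheaf J (Type w)) (z₁ z₂ : W ⟶ Z), z₁ ≫ ι ≫ snd X Y = z₂ ≫ ι ≫ snd X Y →
        ∃ r : W ⟶ R, r ≫ p₁ = z₁ ≫ ι ≫ fst X Y ∧ r ≫ p₂ = z₂ ≫ ι ≫ fst X Y) →
      ∃! f : Y ⟶ e.B, IsPullback (ι ≫ fst X Y) (ι ≫ snd X Y) e.π f) ∧
    (∀ f : Y ⟶ e.B, ∃ (Z : Sheaf J (Type w)) (ι : Z ⟶ X ⊗ Y), Mono ι ∧
      (∀ (W : Sheaf J (Type w)) (r : W ⟶ R) (y : W ⟶ Y),
        (∃ z : W ⟶ Z, z ≫ ι = lift (r ≫ p₁) y) ↔ (∃ z : W ⟶ Z, z ≫ ι = lift (r ≫ p₂) y)) ∧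
      Epi (ι ≫ snd X Y) ∧
      (∀ (W : Sheaf J (Type w)) (z₁ z₂ : W ⟶ Z), z₁ ≫ ι ≫ snd X Y = z₂ ≫ ι ≫ snd X Y →
        ∃ r : W ⟶ R, r ≫ p₁ = z₁ ≫ ι ≫ fst X Y ∧ r ≫ p₂ = z₂ ≫ ι ≫ fst X Y) ∧
      IsPullback (ι ≫ fst X Y) (ι ≫ snd X Y) e.π f) := by
  have hw : p₁ ≫ e.π = p₂ ≫ e.π := e.isKernelPair.w
  refine ⟨?_, ?_⟩
  · intro Z ι hι hstab hepi hrel
    haveI := hι
    haveI := hepi
    haveI : IsRegularEpi (ι ≫ snd X Y) := IsRegularEpiCategory.regularEpiOfEpi _
    -- the map `f`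
    have hcoeq : IsRegularEpi.left (ι ≫ snd X Y) ≫ ((ι ≫ fst X Y) ≫ e.π) =
        IsRegularEpi.right (ι ≫ snd X Y) ≫ ((ι ≫ fst X Y) ≫ e.π) := by
      obtain ⟨r, hr1, hr2⟩ := hrel _ (IsRegularEpi.left (ι ≫ snd X Y))
        (IsRegularEpi.right (ι ≫ snd X Y)) (IsRegularEpi.w (ι ≫ snd X Y))
      calc IsRegularEpi.left (ι ≫ snd X Y) ≫ ((ι ≫ fst X Y) ≫ e.π)
          = (IsRegularEpi.left (ι ≫ snd X Y) ≫ ι ≫ fst X Y) ≫ e.π := (Category.assoc _ _ _).symm
        _ = (r ≫ p₁) ≫ e.π := by rw [hr1]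
        _ = r ≫ p₁ ≫ e.π := Category.assoc _ _ _
        _ = r ≫ p₂ ≫ e.π := by rw [hw]
        _ = (r ≫ p₂) ≫ e.π := (Category.assoc _ _ _).symm
        _ = (IsRegularEpi.right (ι ≫ snd X Y) ≫ ι ≫ fst X Y) ≫ e.π := by rw [hr2]
        _ = IsRegularEpi.right (ι ≫ snd X Y) ≫ ((ι ≫ fst X Y) ≫ e.π) := Category.assoc _ _ _
    let f : Y ⟶ e.B := IsRegularEpi.desc (ι ≫ snd X Y) ((ι ≫ fst X Y) ≫ e.π) hcoeq
    have hf : (ι ≫ snd X Y) ≫ f = (ι ≫ fst X Y) ≫ e.π := IsRegularEpi.fac _ _ _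
    -- the pullback and its cover
    let a : pullback e.π f ⟶ X := pullback.fst e.π f
    let b : pullback e.π f ⟶ Y := pullback.snd e.π f
    have hab : a ≫ e.π = b ≫ f := pullback.condition
    let pr : pullback b (ι ≫ snd X Y) ⟶ pullback e.π f := pullback.fst b (ι ≫ snd X Y)
    let z' : pullback b (ι ≫ snd X Y) ⟶ Z := pullback.snd b (ι ≫ snd X Y)
    have hprz : pr ≫ b = z' ≫ (ι ≫ snd X Y) := pullback.condition
    haveI : Epi pr :=
      epi_snd_of_isPullback (IsPullback.of_hasPullback b (ι ≫ snd X Y)).flip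
    have hker : (z' ≫ (ι ≫ fst X Y)) ≫ e.π = (pr ≫ a) ≫ e.π := by
      calc (z' ≫ (ι ≫ fst X Y)) ≫ e.π = z' ≫ ((ι ≫ fst X Y) ≫ e.π) := Category.assoc _ _ _
        _ = z' ≫ ((ι ≫ snd X Y) ≫ f) := by rw [hf]
        _ = (z' ≫ (ι ≫ snd X Y)) ≫ f := (Category.assoc _ _ _).symm
        _ = (pr ≫ b) ≫ f := by rw [hprz]
        _ = pr ≫ (b ≫ f) := Category.assoc _ _ _
        _ = pr ≫ (a ≫ e.π) := by rw [hab]
        _ = (pr ≫ a) ≫ e.π := (Category.assoc _ _ _).symm
    let r : pullback b (ι ≫ snd X Y) ⟶ R := e.isKernelPair.lift _ _ hker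
    have hr1 : r ≫ p₁ = z' ≫ (ι ≫ fst X Y) := e.isKernelPair.lift_fst _ _ hker
    have hr2 : r ≫ p₂ = pr ≫ a := e.isKernelPair.lift_snd _ _ hker
    have h1 : ∃ z : pullback b (ι ≫ snd X Y) ⟶ Z, z ≫ ι = lift (r ≫ p₁) (pr ≫ b) := by
      refine ⟨z', ?_⟩
      apply CartesianMonoidalCategory.hom_ext
      · rw [Category.assoc, lift_fst, hr1]
      · rw [Category.assoc, lift_snd, hprz]
    obtain ⟨z'', hz''⟩ := (hstab _ r (pr ≫ b)).1 h1
    have hz''2 : z'' ≫ ι = pr ≫ lift a b := by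
      rw [hz'', comp_lift, hr2]
    obtain ⟨z, hz⟩ := exists_fac_of_epi_of_mono pr ι (lift a b) z'' hz''2
    -- the comparison isomorphism
    let k : Z ⟶ pullback e.π f := pullback.lift (ι ≫ fst X Y) (ι ≫ snd X Y) hf.symm
    have hk1 : k ≫ a = ι ≫ fst X Y := pullback.lift_fst _ _ _
    have hk2 : k ≫ b = ι ≫ snd X Y := pullback.lift_snd _ _ _
    have hkz : k ≫ z = 𝟙 Z := by
      rw [← cancel_mono ι, Category.assoc, hz, comp_lift, hk1, hk2, Category.id_comp]
      apply CartesianMonoidalCategory.hom_ext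
      · rw [lift_fst]
      · rw [lift_snd]
    have hzk : z ≫ k = 𝟙 (pullback e.π f) := by
      apply pullback.hom_ext
      · rw [Category.assoc, Category.id_comp]
        change z ≫ k ≫ a = a
        rw [hk1, ← Category.assoc, hz, lift_fst]
      · rw [Category.assoc, Category.id_comp]
        change z ≫ k ≫ b = b
        rw [hk2, ← Category.assoc, hz, lift_snd]
    have hpb : IsPullback (ι ≫ fst X Y) (ι ≫ snd X Y) e.π f :=
      IsPullback.of_iso_pullback ⟨hf.symm⟩ ⟨k, z, hkz, hzk⟩ hk1 hk2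
    refine ⟨f, hpb, ?_⟩
    intro f' hf'
    rw [← cancel_epi (ι ≫ snd X Y)]
    exact hf'.w.symm.trans hf.symm
  · intro f
    have key : ∀ (W : Sheaf J (Type w)) (x : W ⟶ X) (y : W ⟶ Y),
        (∃ z : W ⟶ pullback e.π f,
          z ≫ lift (pullback.fst e.π f) (pullback.snd e.π f) = lift x y) ↔ x ≫ e.π = y ≫ f := by
      intro W x y
      constructor
      · rintro ⟨z, hz⟩
        have h1 : z ≫ pullback.fst e.π f = x := by
          have := congrArg (fun t => t ≫ fst X Y) hz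
          simpa [Category.assoc, lift_fst] using this
        have h2 : z ≫ pullback.snd e.π f = y := by
          have := congrArg (fun t => t ≫ snd X Y) hz
          simpa [Category.assoc, lift_snd] using this
        rw [← h1, ← h2, Category.assoc, Category.assoc, pullback.condition]
      · intro h
        refine ⟨pullback.lift x y h, ?_⟩
        rw [comp_lift, pullback.lift_fst, pullback.lift_snd]
    refine ⟨pullback e.π f, lift (pullback.fst e.π f) (pullback.snd e.π f), ?_, ?_, ?_, ?_, ?_⟩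
    · constructor
      intro W s t hst
      apply pullback.hom_ext
      · have := congrArg (fun t => t ≫ fst X Y) hst
        simpa [Category.assoc, lift_fst] using this
      · have := congrArg (fun t => t ≫ snd X Y) hst
        simpa [Category.assoc, lift_snd] using this
    · intro W r y
      rw [key, key, Category.assoc, Category.assoc, hw]
    · rw [lift_snd]
      have := e.universally_effectiveEpi_π (pullback.fst e.π f) f (pullback.snd e.π f)
        (IsPullback.of_hasPullback e.π f).flip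
      infer_instance
    · intro W z₁ z₂ h
      rw [lift_snd] at h
      have hk : (z₁ ≫ pullback.fst e.π f) ≫ e.π = (z₂ ≫ pullback.fst e.π f) ≫ e.π := by
        rw [Category.assoc, Category.assoc, pullback.condition, ← Category.assoc, ← Category.assoc, h]
      refine ⟨e.isKernelPair.lift _ _ hk, ?_, ?_⟩
      · rw [lift_fst]
        exact e.isKernelPair.lift_fst _ _ hk
      · rw [lift_fst]
        exact e.isKernelPair.lift_snd _ _ hk
    · rw [lift_fst, lift_snd]
      exact IsPullback.of_hasPullback e.π f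

end Groth.Agent.Lib.ShfQuot
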