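import Mathlib
import Groth.Prelude.Def_CAlg
import Groth.Agent.Lib.FiniteRestrictCor_helper6
import Groth.Agent.Lib.DepthSkQuot_helper5

/-!
# `φ^!(R)` over a Cohen–Macaulay base (helper6), part 1: transfer of Serre's condition `(S_k)`
from a localization of a `P`-module to the localization of the corresponding `A = P/I`-module.
-/

set_option autoImplicit false
universe u v

namespace Groth.Agent.Lib.ShriekCMH6

open Groth.Agent.DepthLib

section Transfer

variable {P A : Type u} [CommRing P] [CommRing A] [IsNoetherianRing P] [IsNoetherianRing A]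
  (ψ : P →+* A)

/-- `E` an `A = P/I`-module, `M'` the same module seen over `P`, `M' → ES` a localization at `SP`
(as a module over `P' = SP⁻¹ P`), and `N ≃ ES` a `P'`-module in the small universe satisfying
`(S_k)`: then the localization of `E` at the image of `SP` satisfies `(S_k)`. -/
theorem hasSk_localizedModule_of_semilinear (hψ : Function.Surjective ψ) (SP : Submonoid P)
    (P' : Type u) [CommRing P'] [Algebra P P'] [IsLocalization SP P']
    (E : Type u) [AddCommGroup E] [Module A E] [Module.Finite A E]
    {M' ES : Type v} [AddCommGroup M'] [Module P M'] [AddCommGroup ES] [Module P' ES]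
    (Θ : E ≃+ M') (hΘ : ∀ (t : P) (e : E), Θ (ψ t • e) = t • Θ e)
    (lam : M' →+ ES) (hlam : ∀ (t : P) (m : M'), lam (t • m) = algebraMap P P' t • lam m)
    (hL1 : ∀ g : ES, ∃ s : P, s ∈ SP ∧ ∃ m : M', algebraMap P P' s • g = lam m)
    (hL2 : ∀ m : M', lam m = 0 → ∃ s : P, s ∈ SP ∧ s • m = 0)
    (N : Type u) [AddCommGroup N] [Module P' N] (eN : N ≃ₗ[P'] ES)
    (k : ℕ) (h : LocCoh.HasSk k P' N) :
    LocCoh.HasSk k (Localization (SP.map ψ)) (LocalizedModule (SP.map ψ) E) := by
  classical
  set SA : Submonoid A := SP.map ψ with hSA
  -- rings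
  haveI : IsNoetherianRing P' := IsLocalization.isNoetherianRing SP P' inferInstance
  haveI : IsNoetherianRing (Localization SA) :=
    IsLocalization.isNoetherianRing SA _ inferInstance
  have hSP : SP ≤ SA.comap ψ := fun s hs => ⟨s, hs, rfl⟩
  let φ' : P' →+* Localization SA := IsLocalization.map (Localization SA) ψ hSP
  have hφ' : ∀ t : P, φ' (algebraMap P P' t) = algebraMap A (Localization SA) (ψ t) :=
    fun t => IsLocalization.map_eq hSP t
  letI : Algebra P' (Localization SA) := φ'.toAlgebra
  -- module structures on the localized module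
  letI instP' : Module P' (LocalizedModule SA E) := Module.compHom (LocalizedModule SA E) φ'
  haveI : IsScalarTower P' (Localization SA) (LocalizedModule SA E) :=
    ⟨fun b a x => by
      show (b • a) • x = φ' b • (a • x)
      rw [Algebra.smul_def, mul_smul]
      rfl⟩
  letI instP : Module P (LocalizedModule SA E) :=
    Module.compHom (LocalizedModule SA E) ((algebraMap A (Localization SA)).comp ψ)
  have hPsmul : ∀ (t : P) (x : LocalizedModule SA E),
      t • x = algebraMap A (Localization SA) (ψ t) • x := fun t x => rfl
  have hP'smul : ∀ (b : P') (x : LocalizedModule SA E), b • x = φ' b • x := fun b x => rfl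
  haveI : IsScalarTower P P' (LocalizedModule SA E) :=
    ⟨fun t b x => by
      rw [hPsmul, hP'smul, hP'smul, Algebra.smul_def, map_mul, hφ', mul_smul]⟩
  letI instPES : Module P ES := Module.compHom ES (algebraMap P P')
  have hPES : ∀ (t : P) (g : ES), t • g = algebraMap P P' t • g := fun t g => rfl
  haveI : IsScalarTower P P' ES :=
    ⟨fun t b g => by
      rw [hPES, Algebra.smul_def, mul_smul]⟩
  -- the two localization maps
  let f₁ : M' →ₗ[P] ES :=
    { toFun := lam
      map_add' := lam.map_add
      map_smul' := fun t m => by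
        rw [RingHom.id_apply, hPES]
        exact hlam t m }
  let f₂ : M' →ₗ[P] LocalizedModule SA E :=
    { toFun := fun m => LocalizedModule.mkLinearMap SA E (Θ.symm m)
      map_add' := fun m m₂ => by rw [map_add, map_add]
      map_smul' := fun t m => by
        rw [RingHom.id_apply, hPsmul]
        have h1 : Θ.symm (t • m) = ψ t • Θ.symm m := by
          apply Θ.injective
          rw [hΘ, AddEquiv.apply_symm_apply, AddEquiv.apply_symm_apply]
        rw [h1, map_smul]
        exact (algebraMap_smul (Localization SA) (ψ t) _).symm }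
  haveI hloc₁ : IsLocalizedModule SP f₁ :=
    { map_units := fun s => by
        have hu : IsUnit (algebraMap P P' (s : P)) := IsLocalization.map_units P' s
        rw [Module.End.isUnit_iff]
        constructor
        · intro g g₂ hg
          have hg' : algebraMap P P' (s : P) • g = algebraMap P P' (s : P) • g₂ := hg
          exact (hu.smul_left_cancel).1 hg'
        · intro g
          obtain ⟨v, hv⟩ := hu.exists_right_inv
          refine ⟨v • g, ?_⟩
          show algebraMap P P' (s : P) • (v • g) = g
          rw [← mul_smul, hv, one_smul]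
      surj := fun g => by
        obtain ⟨s, hs, m, hm⟩ := hL1 g
        exact ⟨⟨m, ⟨s, hs⟩⟩, hm⟩
      exists_of_eq := fun {m m₂} hmm => by
        have h0 : lam (m - m₂) = 0 := by
          rw [map_sub, sub_eq_zero]
          exact hmm
        obtain ⟨s, hs, hsm⟩ := hL2 _ h0
        refine ⟨⟨s, hs⟩, ?_⟩
        rw [smul_sub, sub_eq_zero] at hsm
        exact hsm }
  haveI hloc₂ : IsLocalizedModule SP f₂ :=
    { map_units := fun s => by
        have hsA : ψ (s : P) ∈ SA := ⟨s, s.2, rfl⟩
        have hu : IsUnit (algebraMap A (Localization SA) (ψ (s : P))) :=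
          IsLocalization.map_units (Localization SA) (⟨ψ s, hsA⟩ : SA)
        rw [Module.End.isUnit_iff]
        constructor
        · intro x x₂ hx
          have hx' : algebraMap A (Localization SA) (ψ (s : P)) • x =
              algebraMap A (Localization SA) (ψ (s : P)) • x₂ := hx
          exact (hu.smul_left_cancel).1 hx'
        · intro x
          obtain ⟨v, hv⟩ := hu.exists_right_inv
          refine ⟨v • x, ?_⟩
          show algebraMap A (Localization SA) (ψ (s : P)) • (v • x) = x
          rw [← mul_smul, hv, one_smul]
      surj := fun x => by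
        induction x using LocalizedModule.induction_on with
        | h e a =>
          obtain ⟨s, hs, hsa⟩ := a.2
          refine ⟨⟨Θ e, ⟨s, hs⟩⟩, ?_⟩
          show algebraMap A (Localization SA) (ψ s) • LocalizedModule.mk e a =
            LocalizedModule.mkLinearMap SA E (Θ.symm (Θ e))
          rw [AddEquiv.symm_apply_apply, algebraMap_smul, LocalizedModule.mkLinearMap_apply,
            LocalizedModule.smul'_mk, LocalizedModule.mk_eq]
          refine ⟨1, ?_⟩
          simp only [one_smul, Submonoid.smul_def]
          rw [← hsa]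
      exists_of_eq := fun {m m₂} hmm => by
        have h1 : LocalizedModule.mk (Θ.symm m) (1 : SA) = LocalizedModule.mk (Θ.symm m₂) 1 := hmm
        rw [LocalizedModule.mk_eq] at h1
        obtain ⟨u, hu⟩ := h1
        obtain ⟨s, hs, hsu⟩ := u.2
        refine ⟨⟨s, hs⟩, ?_⟩
        simp only [one_smul, Submonoid.smul_def] at hu
        apply Θ.symm.injective
        have h2 : ∀ m' : M', Θ.symm ((s : P) • m') = ψ s • Θ.symm m' := fun m' => by
          apply Θ.injective
          rw [hΘ, AddEquiv.apply_symm_apply, AddEquiv.apply_symm_apply]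
        show Θ.symm (s • m) = Θ.symm (s • m₂)
        rw [h2, h2, hsu]
        exact hu }
  let e₀ : ES ≃ₗ[P] LocalizedModule SA E := IsLocalizedModule.linearEquiv SP f₁ f₂
  let e₁ : ES ≃ₗ[P'] LocalizedModule SA E := e₀.extendScalarsOfIsLocalization SP P'
  let e₂ : N ≃ₗ[P'] LocalizedModule SA E := eN.trans e₁
  have h1 : LocCoh.HasSk k P' (LocalizedModule SA E) := hasSk_congr e₂ k h
  -- finiteness
  haveI : Module.Finite (Localization SA) (LocalizedModule SA E) :=
    Module.Finite.of_isLocalizedModule SA (LocalizedModule.mkLinearMap SA E)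
  have hφ's : Function.Surjective φ' := by
    intro y
    obtain ⟨⟨a, s⟩, rfl⟩ := IsLocalization.mk'_surjective SA y
    obtain ⟨t, rfl⟩ := hψ a
    obtain ⟨s₀, hs₀, hs₀s⟩ := s.2
    refine ⟨IsLocalization.mk' P' t (⟨s₀, hs₀⟩ : SP), ?_⟩
    rw [IsLocalization.map_mk']
    congr 1
    exact Subtype.ext hs₀s
  haveI : Module.Finite P' (LocalizedModule SA E) := by
    haveI : Module.Finite P' (Localization SA) :=
      Module.Finite.of_surjective (Algebra.linearMap P' (Localization SA)) hφ's
    exact Module.Finite.trans (Localization SA) _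
  exact Groth.Agent.Lib.FiniteRestrictCor_helper6.hasSk_B_of_A k P' (Localization SA)
    (LocalizedModule SA E) h1

end Transfer

end Groth.Agent.Lib.ShriekCMH6
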