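import Mathlib
import Groth.Prelude.Def_DRing2
import Groth.Prelude.Def_DDual2
import Groth.Prelude.Def_Wider
import Groth.Agent.Lib.ShriekLci4_helper6
import Groth.Agent.Lib.DMod96_helper6

/-!
# `φ^!(R)` over a Cohen–Macaulay base (helper6), part 2: Rees' lemma in the derived category:
for an `M`-weakly regular sequence `rs` of length `c` killing `N`,
`Hom(N[-j], M) = 0` for `j < c` and `Hom(N[-c], M) ≃ Hom_T(N, M/(rs)M)`.
-/

set_option autoImplicit false
universe u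
open CategoryTheory CategoryTheory.Limits DerivedCategory Pretriangulated ZeroObject
open scoped Pointwise
attribute [local instance] HasDerivedCategory.standard

namespace Groth.Agent.Lib.ShriekCMH6

open DRing Groth.Agent.Lib.DMod_helper6 Groth.Agent.Lib.ShriekLciH6 Groth.Agent.Lib.ShriekLowH6

variable {T : Type u} [CommRing T]

/-- multiplication by an element killing `N` kills every morphism out of a shift of `N`. -/
lemma smul_hom_shift_eq_zero {N : Type u} [AddCommGroup N] [Module T N] (x : T)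
    (hx : ∀ n : N, x • n = 0) (j : ℤ) {Y : Dual.D T} (ξ : (Dual.inD T N)⟦j⟧ ⟶ Y) : x • ξ = 0 := by
  have h1 : x • 𝟙 (Dual.inD T N) = 0 := by
    have := ShriekLciH6.smul_hom_eq_zero_of_smul_eq_zero x hx (𝟙 (Dual.inD T N))
    exact this
  have h2 : x • 𝟙 ((Dual.inD T N)⟦j⟧) = 0 := by
    have := congrArg (shiftFunctor (Dual.D T) j).map h1
    rwa [Functor.map_smul, CategoryTheory.Functor.map_id, Functor.map_zero] at this
  have h3 : x • ξ = (x • 𝟙 ((Dual.inD T N)⟦j⟧)) ≫ ξ := by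
    rw [Linear.smul_comp, Category.id_comp]
  rw [h3, h2, zero_comp]

/-- one step of Rees' lemma. -/
theorem rees_step (N M : Type u) [AddCommGroup N] [Module T N] [AddCommGroup M] [Module T M]
    (x : T) (hx : ∀ n : N, x • n = 0) (hreg : IsSMulRegular M x) (j j' : ℤ) (hj : j + 1 = j') :
    ∃ π : ((Dual.inD T N)⟦-j⟧ ⟶ Dual.inD T (QuotSMulTop x M)) →ₗ[T]
        ((Dual.inD T N)⟦-j'⟧ ⟶ Dual.inD T M),
      Function.Surjective π ∧
        (Subsingleton ((Dual.inD T N)⟦-j⟧ ⟶ Dual.inD T M) → Function.Injective π) := by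
  have hS := linSC_shortExact (x • (LinearMap.id : M →ₗ[T] M)) (x • (⊤ : Submodule T M)).mkQ
    (quotSMulTop_exact x M) (injective_of_isSMulRegular hreg) (Submodule.mkQ_surjective _)
  have hT := hS.singleTriangle_distinguished
  have hmap : (DerivedCategory.singleFunctor (ModuleCat.{u} T) 0).map
      (ModuleCat.ofHom (x • (LinearMap.id : M →ₗ[T] M))) = x • 𝟙 (Dual.inD T M) := by
    have : ModuleCat.ofHom (x • (LinearMap.id : M →ₗ[T] M)) = x • 𝟙 (ModuleCat.of T M) := by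
      ext m
      rfl
    rw [this, Functor.map_smul, CategoryTheory.Functor.map_id]
  set X' : Dual.D T := (Dual.inD T N)⟦-j⟧ with hX'
  -- composition with the connecting morphism
  let π₀ : (X' ⟶ Dual.inD T (QuotSMulTop x M)) →ₗ[T] (X' ⟶ (Dual.inD T M)⟦(1 : ℤ)⟧) :=
    { toFun := fun ξ => ξ ≫ hS.singleδ
      map_add' := fun ξ ξ' => Preadditive.add_comp _ _ _ _ _ _
      map_smul' := fun a ξ => Linear.smul_comp _ _ _ _ _ _ }
  have hsurj₀ : Function.Surjective π₀ := by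
    intro η
    have hη : η ≫ ((DerivedCategory.singleFunctor (ModuleCat.{u} T) 0).map
        (ModuleCat.ofHom (x • (LinearMap.id : M →ₗ[T] M))))⟦(1 : ℤ)⟧' = 0 := by
      rw [hmap, Functor.map_smul, CategoryTheory.Functor.map_id, Linear.comp_smul,
        Category.comp_id]
      exact smul_hom_shift_eq_zero x hx (-j) η
    obtain ⟨g, hg⟩ := Pretriangulated.Triangle.coyoneda_exact₁ _ hT η hη
    exact ⟨g, hg.symm⟩
  have hinj₀ : Subsingleton (X' ⟶ Dual.inD T M) → Function.Injective π₀ := by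
    intro hsub
    rw [← LinearMap.ker_eq_bot, eq_bot_iff]
    intro ξ hξ
    rw [LinearMap.mem_ker] at hξ
    obtain ⟨g, hg⟩ := Pretriangulated.Triangle.coyoneda_exact₃ _ hT ξ hξ
    rw [Submodule.mem_bot, hg, @Subsingleton.elim _ hsub g 0]
    exact zero_comp
  -- reindexing the shifts
  let e1 : (X'⟦(-1 : ℤ)⟧ ⟶ Dual.inD T M) ≃ₗ[T] (X' ⟶ (Dual.inD T M)⟦(1 : ℤ)⟧) :=
    shiftNegLinearEquiv X' (Dual.inD T M) 1
  let ι : X'⟦(-1 : ℤ)⟧ ≅ (Dual.inD T N)⟦-j'⟧ :=
    ((shiftFunctorAdd' (Dual.D T) (-j) (-1) (-j') (by omega)).app (Dual.inD T N)).symm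
  let e2 : (X'⟦(-1 : ℤ)⟧ ⟶ Dual.inD T M) ≃ₗ[T] ((Dual.inD T N)⟦-j'⟧ ⟶ Dual.inD T M) :=
    Linear.homCongr T ι (Iso.refl _)
  let κ : (X' ⟶ (Dual.inD T M)⟦(1 : ℤ)⟧) ≃ₗ[T] ((Dual.inD T N)⟦-j'⟧ ⟶ Dual.inD T M) :=
    e1.symm.trans e2
  refine ⟨κ.toLinearMap.comp π₀, κ.surjective.comp hsurj₀, fun hsub => ?_⟩
  exact κ.injective.comp (hinj₀ hsub)

/-- **Rees' lemma**. -/
theorem rees (N : Type u) [AddCommGroup N] [Module T N] :
    ∀ (rs : List T) (M : Type u) [AddCommGroup M] [Module T M],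
      RingTheory.Sequence.IsWeaklyRegular M rs → (∀ r ∈ rs, ∀ n : N, r • n = 0) →
      (∀ j : ℤ, j < (rs.length : ℤ) → Subsingleton ((Dual.inD T N)⟦-j⟧ ⟶ Dual.inD T M)) ∧
      Nonempty (((Dual.inD T N)⟦-(rs.length : ℤ)⟧ ⟶ Dual.inD T M) ≃ₗ[T]
        (N →ₗ[T] M ⧸ Ideal.ofList rs • (⊤ : Submodule T M))) := by
  intro rs
  induction rs with
  | nil =>
    intro M _ _ _ _
    refine ⟨fun j hj => ?_, ?_⟩
    · have hj' : j < 0 := by simpa using hj
      exact subsingleton_hom_shift_neg j (subsingleton_hom_inD_shift_of_neg N M j hj')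
    · have hbot : (Ideal.ofList ([] : List T) • (⊤ : Submodule T M)) = ⊥ := by
        rw [Ideal.ofList_nil, Submodule.bot_smul]
      let e : (M ⧸ Ideal.ofList ([] : List T) • (⊤ : Submodule T M)) ≃ₗ[T] M :=
        Submodule.quotEquivOfEqBot _ hbot
      let ι : (Dual.inD T N)⟦-((([] : List T).length : ℕ) : ℤ)⟧ ≅ Dual.inD T N :=
        (shiftFunctorZero' (Dual.D T) (-((([] : List T).length : ℕ) : ℤ)) (by simp)).app _
      let τ₁ : ((Dual.inD T N)⟦-((([] : List T).length : ℕ) : ℤ)⟧ ⟶ Dual.inD T M) ≃ₗ[T]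
          (Dual.inD T N ⟶ Dual.inD T M) := Linear.homCongr T ι (Iso.refl _)
      let τ₂ : (Dual.inD T N ⟶ Dual.inD T M) ≃ₗ[T] (ModuleCat.of T N ⟶ ModuleCat.of T M) :=
        (homSingleEquiv (ModuleCat.of T N) (ModuleCat.of T M)).symm
      let τ₃ : (ModuleCat.of T N ⟶ ModuleCat.of T M) ≃ₗ[T] (N →ₗ[T] M) :=
        ModuleCat.homLinearEquiv (M := ModuleCat.of T N) (N := ModuleCat.of T M) (S := T)
      let τ₄ : (N →ₗ[T] M) ≃ₗ[T]
          (N →ₗ[T] M ⧸ Ideal.ofList ([] : List T) • (⊤ : Submodule T M)) :=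
        LinearEquiv.congrRight e.symm
      exact ⟨τ₁.trans (τ₂.trans (τ₃.trans τ₄))⟩
  | cons x rs ih =>
    intro M _ _ hreg hkill
    rw [RingTheory.Sequence.isWeaklyRegular_cons_iff] at hreg
    have hx : ∀ n : N, x • n = 0 := hkill x (List.mem_cons_self)
    obtain ⟨hv, ⟨θ⟩⟩ := ih (QuotSMulTop x M) hreg.2
      (fun r hr => hkill r (List.mem_cons_of_mem _ hr))
    have hvan : ∀ j : ℤ, j < ((x :: rs).length : ℤ) →
        Subsingleton ((Dual.inD T N)⟦-j⟧ ⟶ Dual.inD T M) := by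
      intro j hj
      obtain ⟨π, hπ, -⟩ := rees_step N M x hx hreg.1 (j - 1) j (by omega)
      haveI := hv (j - 1) (by
        rw [List.length_cons] at hj
        push_cast at hj
        omega)
      exact hπ.subsingleton
    refine ⟨hvan, ?_⟩
    obtain ⟨π, hπ, hπi⟩ := rees_step N M x hx hreg.1 (rs.length : ℤ) ((x :: rs).length : ℤ)
      (by rw [List.length_cons]; push_cast; ring)
    have hbij : Function.Bijective π :=
      ⟨hπi (hvan (rs.length : ℤ) (by rw [List.length_cons]; push_cast; omega)), hπ⟩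
    let e := Submodule.quotOfListConsSMulTopEquivQuotSMulTopInner M x rs
    let τ : (N →ₗ[T] QuotSMulTop x M ⧸
          Ideal.ofList rs • (⊤ : Submodule T (QuotSMulTop x M))) ≃ₗ[T]
        (N →ₗ[T] M ⧸ Ideal.ofList (x :: rs) • (⊤ : Submodule T M)) :=
      LinearEquiv.congrRight e.symm
    exact ⟨(LinearEquiv.ofBijective π hbij).symm.trans (θ.trans τ)⟩

end Groth.Agent.Lib.ShriekCMH6
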