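import Mathlib
import Groth.Prelude.Def_CAlg
import Groth.Prelude.Def_EGA4b
import Groth.Prelude.Def_Dual3
import Groth.Agent.Lib.ShriekLow2_helper6
import Groth.Agent.Lib.ShriekLow6_helper6
import Groth.Agent.Lib.CMFormalFibres_helper9
import Groth.Agent.Lib.ResTrdegSpec_helper8

/-!
# `φ^!(R)` over a Cohen–Macaulay base (helper6), part 3: commutative algebra.

* `isCMLocalRing_localization_of_le`: generizations of a Cohen–Macaulay point are Cohen–Macaulay;
* `natSub_le_height`: primes containing the kernel of a presentation have height `≥ n - r`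
  when `r` bounds the residual transcendence degrees at the minimal primes;
* `isCMLocalRing_mvPolynomial_atPrime`: `R[x]_{Q}` is Cohen–Macaulay when `R_{Q ∩ R}` is.
-/

set_option autoImplicit false
universe u
open CategoryTheory AlgebraicGeometry

namespace Groth.Agent.Lib.ShriekCMH6

open Groth.Agent.DepthLib Groth.Agent.FlatCM Groth.Agent.Lib.ShriekLowH6

section Generization

variable {R : Type u} [CommRing R] [IsNoetherianRing R]

theorem isCMLocalRing_localization_of_le (p p' : Ideal R) [p.IsPrime] [p'.IsPrime] (h : p' ≤ p)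
    [hp : LocCoh.IsCohenMacaulayLocalRing (Localization.AtPrime p)] :
    LocCoh.IsCohenMacaulayLocalRing (Localization.AtPrime p') := by
  have hCM : LocCoh.IsCohenMacaulayRing (Localization.AtPrime p) :=
    Groth.Agent.EquiCat9.isCMRing_of_isCMLocalRing _
  have hdisj : Disjoint (p.primeCompl : Set R) (p' : Set R) := by
    rw [Set.disjoint_left]
    intro x hx hx'
    exact hx (h hx')
  set 𝔭 : Ideal (Localization.AtPrime p) := p'.map (algebraMap R (Localization.AtPrime p)) with h𝔭
  haveI : 𝔭.IsPrime :=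
    IsLocalization.isPrime_of_isPrime_disjoint p.primeCompl _ p' inferInstance hdisj
  have hcomap : 𝔭.comap (algebraMap R (Localization.AtPrime p)) = p' :=
    IsLocalization.under_map_of_isPrime_disjoint p.primeCompl _ inferInstance hdisj
  haveI := hCM.isCohenMacaulayLocalRing_localization 𝔭
  have e := (IsLocalization.localizationLocalizationAtPrimeIsoLocalization p.primeCompl
    𝔭).toRingEquiv
  have h1 : LocCoh.IsCohenMacaulayLocalRing
      (Localization.AtPrime (𝔭.comap (algebraMap R (Localization.AtPrime p)))) :=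
    isCMLocalRing_of_ringEquiv e.symm
  have key : ∀ (a b : Ideal R) [a.IsPrime] [b.IsPrime], a = b →
      LocCoh.IsCohenMacaulayLocalRing (Localization.AtPrime a) →
      LocCoh.IsCohenMacaulayLocalRing (Localization.AtPrime b) := by
    intro a b _ _ hab ha
    subst hab
    exact ha
  exact key _ _ hcomap h1

end Generization

section Poly

variable (R A : Type u) [CommRing R] [CommRing A] [IsNoetherianRing R] [Algebra R A] (n : ℕ)
  (ψ : MvPolynomial (Fin n) R →ₐ[R] A)

/-- `R[x]_Q` is Cohen–Macaulay when `R_{Q ∩ R}` is. -/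
theorem isCMLocalRing_mvPolynomial_atPrime (Q : Ideal (MvPolynomial (Fin n) R)) [Q.IsPrime]
    [h : LocCoh.IsCohenMacaulayLocalRing (Localization.AtPrime (Q.under R))] :
    LocCoh.IsCohenMacaulayLocalRing (Localization.AtPrime Q) := by
  rw [isCM_localization_iff R (MvPolynomial (Fin n) R) Q]
  haveI := isCMRing_fiber_mvPolynomial R n (Q.comap (algebraMap R (MvPolynomial (Fin n) R)))
  exact ⟨h, isCM_fibLocRing_of_fiber R (MvPolynomial (Fin n) R) Q⟩

/-- primes containing the kernel of a presentation have height at least `n - r` when `r` bounds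
the residual transcendence degrees at the minimal primes of `A`. -/
theorem natSub_le_height (hψ : Function.Surjective ψ) (r : ℕ)
    (hr : ∀ q : PrimeSpectrum A, q.asIdeal ∈ minimalPrimes A →
      Dual3.resTrdeg (Spec.map (CommRingCat.ofHom (algebraMap R A))) q ≤ (r : Cardinal.{u}))
    (Q : Ideal (MvPolynomial (Fin n) R)) [Q.IsPrime] (hQ : RingHom.ker ψ.toRingHom ≤ Q) :
    ((n - r : ℕ) : ℕ∞) ≤ Q.height := by
  obtain ⟨Q₀, hQ₀, hQ₀Q⟩ := Ideal.exists_minimalPrimes_le hQ
  have hker : RingHom.ker ψ.toRingHom = (⊥ : Ideal A).comap ψ.toRingHom := by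
    rw [RingHom.ker_eq_comap_bot]
  rw [hker, Ideal.comap_minimalPrimes_eq_of_surjective hψ] at hQ₀
  obtain ⟨q₀, hq₀, rfl⟩ := hQ₀
  haveI hq₀p : q₀.IsPrime := hq₀.isPrime
  haveI : (q₀.comap ψ.toRingHom).IsPrime := Ideal.comap_isPrime _ _
  refine le_trans ?_ (Ideal.height_mono hQ₀Q)
  obtain ⟨r', hr', hsum⟩ := Groth.Agent.DimIneqH8.height_add_trdeg_mvPolynomial R n
    ((q₀.comap ψ.toRingHom).under R) (q₀.comap ψ.toRingHom)
  have h1 : Algebra.trdeg (R ⧸ q₀.under R) (A ⧸ q₀) = r' := by
    rw [← trdeg_comap_eq R A n ψ hψ q₀]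
    exact hr'
  have h2 := hr ⟨q₀, hq₀p⟩ hq₀
  rw [Groth.Agent.Lib.ResTrdegSpecH8.resTrdeg_spec (A := R) (C := A) q₀, h1] at h2
  have h3 : r' ≤ r := by exact_mod_cast h2
  -- arithmetic
  rcases eq_or_ne (q₀.comap ψ.toRingHom).height ⊤ with htop | hne
  · rw [htop]; exact le_top
  · obtain ⟨a, ha⟩ := ENat.ne_top_iff_exists.1 hne
    rw [← ha] at hsum ⊢
    have h4 : ((a + r' : ℕ) : ℕ∞) = ((q₀.comap ψ.toRingHom).under R).height + (n : ℕ∞) := by
      rw [← hsum]; push_cast; rfl
    have h5 : (n : ℕ∞) ≤ ((a + r' : ℕ) : ℕ∞) := by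
      rw [h4]; exact le_add_self
    have h6 : n ≤ a + r' := by exact_mod_cast h5
    have : n - r ≤ a := by omega
    exact_mod_cast this

end Poly

end Groth.Agent.Lib.ShriekCMH6
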