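import Mathlib
import Groth.Prelude.Def_DRing2
import Groth.Prelude.Def_DDual2
import Groth.Prelude.Def_Wider
import Groth.Prelude.Def_DualSh
import Groth.Prelude.Def_Flat
import Groth.Agent.Lib.ShriekCM3_helper6
import Groth.Agent.Lib.ShriekLow6_helper6

/-!
# `φ^!(R)` over a Cohen–Macaulay base (helper6), part 4: vanishing of `H^i(ω_{A/R})` below `-r`
over the Cohen–Macaulay locus of the base (first half of S8947).
-/

set_option autoImplicit false
universe u
open CategoryTheory CategoryTheory.Limits DerivedCategory Pretriangulated ZeroObject AlgebraicGeometry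
open scoped TensorProduct
attribute [local instance] HasDerivedCategory.standard

namespace Groth.Agent.Lib.ShriekCMH6

open DRing Groth.Agent.Lib.DMod_helper6 Groth.Agent.ExtendScalarsLib Groth.Agent.Lib.ShriekLowH6
  Groth.Agent.FlatCM

section Aux

/-- a module which is nonzero after inverting `S` is nonzero at some prime disjoint from `S`. -/
theorem exists_prime_nontrivial_localized {A : Type u} [CommRing A] (S : Submonoid A)
    (M : Type u) [AddCommGroup M] [Module A M] (h : Nontrivial (LocalizedModule S M)) :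
    ∃ q : Ideal A, ∃ _ : q.IsPrime, Disjoint (S : Set A) (q : Set A) ∧
      Nontrivial (LocalizedModule q.primeCompl M) := by
  have h1 : ¬ Subsingleton (LocalizedModule S M) := not_subsingleton_iff_nontrivial.2 h
  rw [LocalizedModule.subsingleton_iff] at h1
  push Not at h1
  obtain ⟨m, hm⟩ := h1
  let J : Ideal A := LinearMap.ker (LinearMap.toSpanSingleton A M m)
  have hJ : ∀ a : A, a ∈ J ↔ a • m = 0 := fun a => by
    rw [LinearMap.mem_ker, LinearMap.toSpanSingleton_apply]
  have hdisj : Disjoint (J : Set A) (S : Set A) := by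
    rw [Set.disjoint_left]
    intro a ha hs
    exact hm a hs ((hJ a).1 ha)
  obtain ⟨q, hq, hJq, hqS⟩ := Ideal.exists_le_prime_disjoint J S hdisj
  refine ⟨q, hq, hqS.symm, ?_⟩
  rw [← not_subsingleton_iff_nontrivial, LocalizedModule.subsingleton_iff]
  intro hall
  obtain ⟨a, ha, h0⟩ := hall m
  exact ha (hJq ((hJ a).2 h0))

end Aux

section Main

/-- S8947, first half. -/
theorem HD_shriekVia_self_vanishing_of_CM (R A : Type u) [CommRing R] [CommRing A]
    [IsNoetherianRing R] [IsNoetherianRing A] [Algebra R A] (n : ℕ)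
    (ψ : MvPolynomial (Fin n) R →ₐ[R] A) (hψ : Function.Surjective ψ)
    [DRing.HasLBaseChange (algebraMap R (MvPolynomial (Fin n) R))]
    (Rψ : Dual.D (MvPolynomial (Fin n) R) ⥤ Dual.D A)
    (adj : DRing.restrictD ψ.toRingHom ⊣ Rψ) (p : Ideal R) [p.IsPrime]
    [LocCoh.IsCohenMacaulayLocalRing (Localization.AtPrime p)] (r : ℕ)
    (hr : ∀ q : PrimeSpectrum A, q.asIdeal ∈ minimalPrimes A →
      Dual3.resTrdeg (Spec.map (CommRingCat.ofHom (algebraMap R A))) q ≤ (r : Cardinal.{u}))
    (i : ℤ)
    (h : Nontrivial (LocalizedModule (Algebra.algebraMapSubmonoid A p.primeCompl)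
      (Dual.HD A (Dual2.shriekVia n Rψ (Dual.inD R R)) i))) : -(r : ℤ) ≤ i := by
  obtain ⟨q, hq, hdisj, hq'⟩ := exists_prime_nontrivial_localized _ _ h
  haveI := hq
  set P := MvPolynomial (Fin n) R with hP
  set L : Dual.D P := (DRing.LBaseChange (algebraMap R P)).obj (Dual.inD R R) with hL
  obtain ⟨e0⟩ := nonempty_lBaseChange_iso_bcD (A := R) (B := P)
  let eL : L ≅ Dual.inD P P := e0.app (Dual.inD R R) ≪≫ bcSelfIso (P := R) P
  let hshift : Dual.HD A (Dual2.shriekVia n Rψ (Dual.inD R R)) i ≃ₗ[A]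
      Dual.HD A (Rψ.obj L) ((n : ℤ) + i) :=
    (((homologyFunctor (ModuleCat.{u} A) 0).shiftIso (n : ℤ) i ((n : ℤ) + i) rfl).app
      (Rψ.obj L)).toLinearEquiv
  have h1 := nontrivial_localizedModule_of_linearEquiv q.primeCompl hshift hq'
  obtain ⟨g, hg⟩ := exists_hom_of_nontrivial_localized_HD (Rψ.obj L) q ((n : ℤ) + i) h1
  obtain ⟨f, hf⟩ := exists_hom_restrict_of_hom_rightAdjoint Rψ adj _ L q g hg
  set Q : Ideal P := q.comap ψ.toRingHom with hQ
  haveI : Q.IsPrime := Ideal.comap_isPrime _ _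
  set I : Ideal P := RingHom.ker ψ.toRingHom with hI
  obtain ⟨k, hk, hext⟩ := exists_nat_and_ext_of_hom I Q ((n : ℤ) + i) _ L
    (restrictSingleIso ψ.toRingHom hψ ((n : ℤ) + i)) eL f hf
  obtain ⟨Q', hQ'p, hIQ', hQ'Q, hdep⟩ := exists_prime_depth_le_of_ext P I Q k hext
  haveI := hQ'p
  -- `Q' ∩ R ⊆ p`
  have hfC : ∀ a : R, ψ.toRingHom (MvPolynomial.C a) = algebraMap R A a := fun a => ψ.commutes a
  have hunder : Q'.under R ≤ p := by
    intro a ha
    by_contra hap
    have h2 : algebraMap R A a ∈ Algebra.algebraMapSubmonoid A p.primeCompl :=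
      ⟨a, hap, rfl⟩
    have h3 : algebraMap R A a ∈ q := by
      have h4 : (MvPolynomial.C a : P) ∈ Q := hQ'Q ha
      have h5 := Ideal.mem_comap.1 h4
      rwa [hfC] at h5
    exact (Set.disjoint_left.1 hdisj) h2 h3
  haveI : (Q'.under R).IsPrime := Ideal.comap_isPrime _ _
  haveI : LocCoh.IsCohenMacaulayLocalRing (Localization.AtPrime (Q'.under R)) :=
    isCMLocalRing_localization_of_le p (Q'.under R) hunder
  haveI hCM : LocCoh.IsCohenMacaulayLocalRing (Localization.AtPrime Q') :=
    isCMLocalRing_mvPolynomial_atPrime R n Q'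
  haveI : IsNoetherianRing (Localization.AtPrime Q') :=
    IsLocalization.isNoetherianRing Q'.primeCompl _ inferInstance
  have hdim := (isCMLocalRing_iff (Localization.AtPrime Q')).1 hCM
  rw [IsLocalization.AtPrime.ringKrullDim_eq_height Q'] at hdim
  have hht := natSub_le_height R A n ψ hψ r hr Q' hIQ'
  have hdep' : ((n - r : ℕ) : ℕ∞) ≤
      LocCoh.depth (Localization.AtPrime Q') (Localization.AtPrime Q') := by
    have h6 : ((Q'.height : ℕ∞) : WithBot ℕ∞) = ((LocCoh.depth (Localization.AtPrime Q')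
        (Localization.AtPrime Q') : ℕ∞) : WithBot ℕ∞) := hdim
    rw [← WithBot.coe_injective h6]
    exact hht
  have hnk : n - r ≤ k := by
    by_contra hcon
    apply hdep
    have : k + 1 ≤ n - r := by omega
    exact le_trans (by exact_mod_cast this) hdep'
  omega

end Main

end Groth.Agent.Lib.ShriekCMH6
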