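import Mathlib
import Groth.Prelude.Def_DRing2
import Groth.Prelude.Def_DDual2
import Groth.Prelude.Def_Wider
import Groth.Prelude.Def_DualSh
import Groth.Prelude.Def_Flat
import Groth.Agent.Lib.ShriekCM1_helper6
import Groth.Agent.Lib.ShriekCM2_helper6
import Groth.Agent.Lib.ShriekCM4_helper6
import Groth.Agent.Lib.ShriekLci6_helper6
import Groth.Agent.Lib.DepthSkHom_helper5
import Groth.Agent.Lib.DepthLoc_helper5
import Groth.Agent.Lib.TensorSk_helper9
import Groth.Agent.Lib.CMFormalFibres_helper9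

/-!
# `φ^!(R)` over a Cohen–Macaulay base (helper6), part 5: Serre's condition `(S_2)` for the lowest
cohomology module of `RHom_P(A, P)` over the Cohen–Macaulay locus.
-/

set_option autoImplicit false
universe u
open CategoryTheory CategoryTheory.Limits DerivedCategory Pretriangulated ZeroObject AlgebraicGeometry
open scoped TensorProduct Pointwise
attribute [local instance] HasDerivedCategory.standard

namespace Groth.Agent.Lib.ShriekCMH6

open DRing Groth.Agent.Lib.DMod_helper6 Groth.Agent.ExtendScalarsLib Groth.Agent.Lib.ShriekLowH6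
  Groth.Agent.Lib.ShriekLciH6 Groth.Agent.FlatCM Groth.Agent.DepthLib

section Aux

/-- a zero module satisfies every `(S_k)`. -/
theorem hasSk_of_subsingleton (k : ℕ) (T : Type u) [CommRing T] (N : Type u) [AddCommGroup N]
    [Module T N] [Subsingleton N] : LocCoh.HasSk k T N := by
  intro p hp
  rw [Module.supportDim_eq_bot_of_subsingleton]
  simp

end Aux

section Core

variable {P A : Type u} [CommRing P] [CommRing A] [IsNoetherianRing P] [IsNoetherianRing A]
  (ψ : P →+* A) (hψ : Function.Surjective ψ)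
  (Rψ : Dual.D P ⥤ Dual.D A) (adj : restrictD ψ ⊣ Rψ) (L : Dual.D P) (eL : L ≅ Dual.inD P P)
  (SP : Submonoid P) (P' : Type u) [CommRing P'] [Algebra P P'] [IsLocalization SP P']

include hψ adj eL in
/-- the core transfer: a small model of `Ext^c_{P'}(P'/I', P')` with `(S_k)` gives `(S_k)` for the
localization of `H^c(RHom_P(A, P))`. -/
theorem hasSk_localized_HD_of_model (c : ℤ) (N : Type u) [AddCommGroup N] [Module P' N]
    (eN : N ≃ₗ[P'] ((Dual.inD P' (P' ⧸ (RingHom.ker ψ).map (algebraMap P P')))⟦-c⟧ ⟶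
      Dual.inD P' P'))
    (k : ℕ) (hN : LocCoh.HasSk k P' N) :
    LocCoh.HasSk k (Localization (SP.map ψ))
      (LocalizedModule (SP.map ψ) (Dual.HD A (Rψ.obj L) c)) := by
  haveI : Module.Flat P P' := IsLocalization.flat P' SP
  let I : Ideal P := RingHom.ker ψ
  let Y : Dual.D A := toD ((HomologicalComplex.single (ModuleCat.{u} A) (ComplexShape.up ℤ) c).obj
    (ModuleCat.of A A))
  let K : Dual.D P := (Dual.inD P (P ⧸ I))⟦-c⟧
  obtain ⟨e1⟩ := nonempty_hom_single_linearEquiv_HD (Rψ.obj L) c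
  let Θ₂ : ((restrictD ψ).obj Y ⟶ L) ≃ₗ[P] (K ⟶ L) :=
    Linear.homCongr P (restrictSingleIso ψ hψ c) (Iso.refl L)
  let Θ : Dual.HD A (Rψ.obj L) c ≃+ (K ⟶ L) :=
    (e1.symm.toAddEquiv.trans (adj.homAddEquiv Y L).symm).trans Θ₂.toAddEquiv
  have hΘ : ∀ (t : P) (m : Dual.HD A (Rψ.obj L) c), Θ (ψ t • m) = t • Θ m := by
    intro t m
    show Θ₂ ((adj.homEquiv Y L).symm (e1.symm (ψ t • m))) =
      t • Θ₂ ((adj.homEquiv Y L).symm (e1.symm m))
    rw [map_smul, homEquiv_symm_smul, map_smul]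
  have hK : IsPseudoCoherent' P K :=
    isPseudoCoherent'_shift _ (-c) (isPseudoCoherentModule'_of_finite (P ⧸ I))
  haveI : DerivedCategory.IsGE L 0 := TStructure.t.isGE_of_iso eL.symm 0
  have hloc := locHom (B := P') SP K L hK 0
  let lam : (K ⟶ L) →+ ((bcD P P').obj K ⟶ (bcD P P').obj L) := (bcD P P').mapAddHom
  have hlam : ∀ (t : P) (e : K ⟶ L), lam (t • e) = algebraMap P P' t • lam e :=
    fun t e => bcD_map_smul t e
  have hL1 : ∀ g : (bcD P P').obj K ⟶ (bcD P P').obj L, ∃ s : P, s ∈ SP ∧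
      ∃ e : K ⟶ L, algebraMap P P' s • g = lam e := by
    intro g
    obtain ⟨s, f, hsf⟩ := hloc.1 g
    exact ⟨s, s.2, f, hsf⟩
  have hL2 : ∀ e : K ⟶ L, lam e = 0 → ∃ s : P, s ∈ SP ∧ s • e = 0 := by
    intro e he
    obtain ⟨s, hs⟩ := hloc.2 e he
    exact ⟨s, s.2, hs⟩
  let ε3 : ((Dual.inD P' (P' ⧸ I.map (algebraMap P P')))⟦-c⟧ ⟶ Dual.inD P' P') ≃ₗ[P']
      ((bcD P P').obj K ⟶ (bcD P P').obj L) :=
    Linear.homCongr P' (bcQuotShiftIso P' I c).symm ((bcD P P').mapIso eL ≪≫ bcSelfIso P').symm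
  haveI : Module.Finite A (Dual.HD A (Rψ.obj L) c) :=
    finite_HD_rightAdjoint_of_iso ψ hψ Rψ adj L eL c
  exact hasSk_localizedModule_of_semilinear ψ hψ SP P' (Dual.HD A (Rψ.obj L) c) Θ hΘ lam hlam
    hL1 hL2 N (eN.trans ε3) k hN

end Core

section CM

variable {P A : Type u} [CommRing P] [CommRing A] [IsNoetherianRing P] [IsNoetherianRing A]
  (ψ : P →+* A) (hψ : Function.Surjective ψ)
  (Rψ : Dual.D P ⥤ Dual.D A) (adj : restrictD ψ ⊣ Rψ) (L : Dual.D P) (eL : L ≅ Dual.inD P P)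
  (SP : Submonoid P) (P' : Type u) [CommRing P'] [Algebra P P'] [IsLocalization SP P']

include hψ adj eL in
/-- over a Cohen–Macaulay localization `P'` of `P` in which every prime containing the kernel has
height at least `c`, the localization of `H^c(RHom_P(A, P))` satisfies `(S_2)`. -/
theorem hasSk_two_localized_HD_of_CM [hCM : LocCoh.IsCohenMacaulayRing P'] (c : ℕ)
    (hht : ∀ (Q' : Ideal P') [Q'.IsPrime], (RingHom.ker ψ).map (algebraMap P P') ≤ Q' →
      (c : ℕ∞) ≤ Q'.height) :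
    LocCoh.HasSk 2 (Localization (SP.map ψ))
      (LocalizedModule (SP.map ψ) (Dual.HD A (Rψ.obj L) (c : ℤ))) := by
  haveI : IsNoetherianRing P' := IsLocalization.isNoetherianRing SP P' inferInstance
  set I' : Ideal P' := (RingHom.ker ψ).map (algebraMap P P') with hI'
  have hgrade : (c : ℕ∞) ≤ LocCoh.idealDepth I' P' := by
    apply le_idealDepth_of_forall_localization
    intro Q' hQ' hIQ'
    rw [depth_locSelf]
    haveI : IsNoetherianRing (Localization.AtPrime Q') :=
      IsLocalization.isNoetherianRing Q'.primeCompl _ inferInstance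
    have h1 := (isCMLocalRing_iff (Localization.AtPrime Q')).1
      (hCM.isCohenMacaulayLocalRing_localization Q')
    rw [IsLocalization.AtPrime.ringKrullDim_eq_height Q'] at h1
    have h2 : ((Q'.height : ℕ∞) : WithBot ℕ∞) = ((LocCoh.depth (Localization.AtPrime Q')
        (Localization.AtPrime Q') : ℕ∞) : WithBot ℕ∞) := h1
    rw [← WithBot.coe_injective h2]
    exact hht Q' hIQ'
  rcases (le_idealDepth_iff (I := I') (M := P') c).1 hgrade with htop | ⟨rs, hreg, hrsI, hlen⟩
  · -- the kernel generates the unit ideal of `P'`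
    have hItop : I' = ⊤ := by
      have h0 : I' • (⊤ : Submodule P' P') = I' := by
        rw [smul_eq_mul, Ideal.mul_top]
      rw [← h0]
      exact htop
    haveI : Subsingleton (P' ⧸ I') := by
      rw [hItop]
      exact Ideal.Quotient.subsingleton_iff.2 rfl
    have hz : IsZero ((Dual.inD P' (P' ⧸ I'))⟦-(c : ℤ)⟧) :=
      (shiftFunctor (Dual.D P') (-(c : ℤ))).map_isZero
        ((singleFunctor (ModuleCat.{u} P') 0).map_isZero
          (ModuleCat.isZero_of_subsingleton (ModuleCat.of P' (P' ⧸ I'))))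
    haveI : Subsingleton ((Dual.inD P' (P' ⧸ I'))⟦-(c : ℤ)⟧ ⟶ Dual.inD P' P') :=
      ⟨fun a b => hz.eq_of_src a b⟩
    exact hasSk_localized_HD_of_model ψ hψ Rψ adj L eL SP P' (c : ℤ) PUnit.{u + 1}
      (LinearEquiv.ofSubsingleton _ _) 2 (hasSk_of_subsingleton 2 P' PUnit.{u + 1})
  · -- a regular sequence of length `c` in the kernel
    have hkill : ∀ r ∈ rs, ∀ x : P' ⧸ I', r • x = 0 := by
      intro r hr x
      obtain ⟨y, rfl⟩ := Ideal.Quotient.mk_surjective x
      rw [← Ideal.Quotient.mk_eq_mk, ← Submodule.Quotient.mk_smul, Submodule.Quotient.mk_eq_zero]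
      exact I'.mul_mem_right y (hrsI r hr)
    obtain ⟨-, ⟨ρ⟩⟩ := rees (P' ⧸ I') rs P' hreg hkill
    rw [hlen] at ρ
    have hQ : LocCoh.HasSk 2 P' (P' ⧸ Ideal.ofList rs • (⊤ : Submodule P' P')) := by
      have h1 := hasSk_quot_ofList rs (c + 2) P' (Groth.Agent.TensorCM.hasSk_of_isCMRing (c + 2) P')
        hreg (by omega)
      rw [hlen] at h1
      have h2 : c + 2 - c = 2 := by omega
      rwa [h2] at h1
    have hN : LocCoh.HasSk 2 P'
        ((P' ⧸ I') →ₗ[P'] P' ⧸ Ideal.ofList rs • (⊤ : Submodule P' P')) :=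
      hasSk_hom (P' ⧸ I') (P' ⧸ Ideal.ofList rs • (⊤ : Submodule P' P')) 2 le_rfl hQ
    exact hasSk_localized_HD_of_model ψ hψ Rψ adj L eL SP P' (c : ℤ) _ ρ.symm 2 hN

end CM

section Main

attribute [local instance] MvPolynomial.algebraMvPolynomial

/-- S8947, second half. -/
theorem HD_shriekVia_self_S2_of_CM (R A : Type u) [CommRing R] [CommRing A]
    [IsNoetherianRing R] [IsNoetherianRing A] [Algebra R A] (n : ℕ)
    (ψ : MvPolynomial (Fin n) R →ₐ[R] A) (hψ : Function.Surjective ψ)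
    [DRing.HasLBaseChange (algebraMap R (MvPolynomial (Fin n) R))]
    (Rψ : Dual.D (MvPolynomial (Fin n) R) ⥤ Dual.D A)
    (adj : DRing.restrictD ψ.toRingHom ⊣ Rψ) (p : Ideal R) [p.IsPrime]
    [LocCoh.IsCohenMacaulayLocalRing (Localization.AtPrime p)] (r : ℕ)
    (hr : ∀ q : PrimeSpectrum A, q.asIdeal ∈ minimalPrimes A →
      Dual3.resTrdeg (Spec.map (CommRingCat.ofHom (algebraMap R A))) q ≤ (r : Cardinal.{u})) :
    LocCoh.HasSk 2 (Localization (Algebra.algebraMapSubmonoid A p.primeCompl))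
      (LocalizedModule (Algebra.algebraMapSubmonoid A p.primeCompl)
        (Dual.HD A (Dual2.shriekVia n Rψ (Dual.inD R R)) (-(r : ℤ)))) := by
  set P := MvPolynomial (Fin n) R with hP
  set L : Dual.D P := (DRing.LBaseChange (algebraMap R P)).obj (Dual.inD R R) with hL
  obtain ⟨e0⟩ := nonempty_lBaseChange_iso_bcD (A := R) (B := P)
  let eL : L ≅ Dual.inD P P := e0.app (Dual.inD R R) ≪≫ bcSelfIso (P := R) P
  let Rp := Localization.AtPrime p
  let P' := MvPolynomial (Fin n) Rp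
  let SP : Submonoid P := p.primeCompl.map (MvPolynomial.C (σ := Fin n))
  haveI : IsLocalization SP P' := MvPolynomial.isLocalization p.primeCompl Rp
  have hS : SP.map ψ.toRingHom = Algebra.algebraMapSubmonoid A p.primeCompl := by
    ext a
    constructor
    · rintro ⟨t, ⟨x, hx, rfl⟩, rfl⟩
      exact ⟨x, hx, (ψ.commutes x).symm⟩
    · rintro ⟨x, hx, rfl⟩
      exact ⟨MvPolynomial.C x, ⟨x, hx, rfl⟩, ψ.commutes x⟩
  rw [← hS]
  set S : Submonoid A := SP.map ψ.toRingHom with hSdef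
  haveI : IsNoetherianRing (Localization S) :=
    IsLocalization.isNoetherianRing S _ inferInstance
  let hshift : Dual.HD A (Dual2.shriekVia n Rψ (Dual.inD R R)) (-(r : ℤ)) ≃ₗ[A]
      Dual.HD A (Rψ.obj L) ((n : ℤ) + -(r : ℤ)) :=
    (((homologyFunctor (ModuleCat.{u} A) 0).shiftIso (n : ℤ) (-(r : ℤ)) ((n : ℤ) + -(r : ℤ))
      rfl).app (Rψ.obj L)).toLinearEquiv
  suffices hsuff : LocCoh.HasSk 2 (Localization S)
      (LocalizedModule S (Dual.HD A (Rψ.obj L) ((n : ℤ) + -(r : ℤ)))) from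
    hasSk_congr (IsLocalizedModule.mapEquiv S
      (LocalizedModule.mkLinearMap S (Dual.HD A (Rψ.obj L) ((n : ℤ) + -(r : ℤ))))
      (LocalizedModule.mkLinearMap S (Dual.HD A (Dual2.shriekVia n Rψ (Dual.inD R R)) (-(r : ℤ))))
      (Localization S) hshift.symm) 2 hsuff
  by_cases hrn : r ≤ n
  · have hc : (n : ℤ) + -(r : ℤ) = ((n - r : ℕ) : ℤ) := by omega
    rw [hc]
    haveI : LocCoh.IsCohenMacaulayRing Rp := Groth.Agent.EquiCat9.isCMRing_of_isCMLocalRing Rp
    haveI : LocCoh.IsCohenMacaulayRing P' := isCMRing_mvPolynomial Rp n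
    apply hasSk_two_localized_HD_of_CM ψ.toRingHom hψ Rψ adj L eL SP P' (n - r)
    intro Q' hQ' hIQ'
    rw [← IsLocalization.height_under SP Q']
    haveI : (Q'.under P).IsPrime := Ideal.comap_isPrime _ _
    exact natSub_le_height R A n ψ hψ r hr (Q'.under P) (Ideal.le_comap_of_map_le hIQ')
  · haveI : Subsingleton (Dual.HD A (Rψ.obj L) ((n : ℤ) + -(r : ℤ))) :=
      subsingleton_HD_rightAdjoint_of_neg ψ.toRingHom Rψ adj L eL _ (by omega)
    haveI : Subsingleton (LocalizedModule S (Dual.HD A (Rψ.obj L) ((n : ℤ) + -(r : ℤ)))) := by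
      rw [LocalizedModule.subsingleton_iff]
      intro m
      exact ⟨1, S.one_mem, by rw [Subsingleton.elim m 0, smul_zero]⟩
    exact hasSk_of_subsingleton 2 _ _

end Main

end Groth.Agent.Lib.ShriekCMH6
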