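import Mathlib
import Groth.Prelude
import Groth.Agent.Lib.NatProj1_helper3
import Groth.Agent.Lib.LTensQC_lead
import Groth.Agent.Lib.LpullQC_lead

/-!
# `f^× RHom(G₁, G₂) ≅ RHom(Lf^* G₁, f^× G₂)` (helper3; S16110)

* `nonempty_iso_of_relative_adjoint`: uniqueness of relative right adjoints (Yoneda).
* `main16110`: for `f` qcqs with right adjoint `a` of `Rf_*` on `D_QCoh`:
  `a (RHom(G₁, G₂)) ≅ RHom(Lf^* G₁, a G₂)` (when both internal Homs are in `D_QCoh`).
-/

set_option autoImplicit false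
set_option linter.all false
set_option maxHeartbeats 1600000
set_option backward.isDefEq.respectTransparency false
set_option backward.isDefEq.respectTransparency.types false
set_option backward.defeqAttrib.useBackward true

universe u
open CategoryTheory CategoryTheory.Limits AlgebraicGeometry Opposite TopologicalSpace

attribute [local instance] HasDerivedCategory.standard

namespace Groth.Agent.Lib.ShriekHomH3

section Abstract

variable {𝒞 𝒟 : Type*} [Category 𝒞] [Category 𝒟]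

/-- uniqueness of relative right adjoints -/
theorem nonempty_iso_of_relative_adjoint (F₁ F₂ : 𝒞 ⥤ 𝒟) (c : F₁ ≅ F₂) (G : 𝒟) (A B : 𝒞)
    (α : ∀ T : 𝒞, (T ⟶ A) ≃ (F₁.obj T ⟶ G))
    (hα : ∀ (T T' : 𝒞) (g : T' ⟶ T) (k : T ⟶ A), α T' (g ≫ k) = F₁.map g ≫ α T k)
    (β : ∀ T : 𝒞, (T ⟶ B) ≃ (F₂.obj T ⟶ G))
    (hβ : ∀ (T T' : 𝒞) (g : T' ⟶ T) (k : T ⟶ B), β T' (g ≫ k) = F₂.map g ≫ β T k) :
    Nonempty (A ≅ B) := by
  refine ⟨Yoneda.ext A B (fun {T} k => (β T).symm (c.inv.app T ≫ α T k))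
    (fun {T} k => (α T).symm (c.hom.app T ≫ β T k)) ?_ ?_ ?_⟩
  · intro T k
    simp
  · intro T k
    simp
  · intro T T' g k
    apply (β T').injective
    rw [Equiv.apply_symm_apply, hβ, Equiv.apply_symm_apply, hα, ← Category.assoc,
      ← Category.assoc, c.inv.naturality g]

end Abstract

open Groth.Agent.Lib.NatProjH3 DerivedCategory

noncomputable section

variable {X Y : Scheme.{u}} (f : X ⟶ Y) [DCoh.HasRpush f]

/-- **S16110** (for `f` quasi-compact and quasi-separated) -/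
theorem main16110 [QuasiCompact f] [QuasiSeparated f] [DCoh.HasLpull f]
    (h : DCoh.RpushPreservesQCoh f) [DCoh.HasShriek f h]
    (P : CochainComplex Y.Modules ℤ) [DCoh.HasLTensorCx P] [DCoh.HasRSheafHom P]
    (hP : DCoh.IsQCohD (DCoh.toD Y P)) (G₂ : DCoh.DQCoh Y)
    (hq : DCoh.IsQCohD ((DCoh.RSheafHom P).obj G₂.obj))
    (P' : CochainComplex X.Modules ℤ) [DCoh.HasLTensorCx P'] [DCoh.HasRSheafHom P']
    (hP' : Nonempty (DCoh.toD X P' ≅ (DCoh.Lpull f).obj (DCoh.toD Y P)))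
    (hq' : DCoh.IsQCohD ((DCoh.RSheafHom P').obj ((DCoh.shriek f h).obj G₂).obj)) :
    Nonempty (((DCoh.shriek f h).obj ⟨(DCoh.RSheafHom P).obj G₂.obj, hq⟩).obj ≅
      (DCoh.RSheafHom P').obj ((DCoh.shriek f h).obj G₂).obj) := by
  obtain ⟨c⟩ := nonempty_projFormula_natIso f P hP P' hP'
  obtain ⟨eP'⟩ := hP'
  have hP'q : DCoh.IsQCohD (DCoh.toD X P') :=
    Groth.Agent.Lib.DSectX.isQCohD_of_iso eP'.symm (Groth.Agent.Lib.LpullQCL.main1054 f _ hP)
  let TP : DCoh.DQCoh X ⥤ DCoh.DQCoh X :=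
    ObjectProperty.lift _ (ObjectProperty.ι _ ⋙ DCoh.LTensorCx P')
      (fun T => Groth.Agent.Lib.LTensQCL.main1062 X P' hP'q T.obj T.property)
  let adj := DCoh.shriekAdj f h
  let adjP := DCoh.RSheafHomAdj P
  let adjP' := DCoh.RSheafHomAdj P'
  let R : DCoh.DQCoh Y := ⟨(DCoh.RSheafHom P).obj G₂.obj, hq⟩
  let A : DCoh.DQCoh X := (DCoh.shriek f h).obj R
  let B : DCoh.DQCoh X := ⟨(DCoh.RSheafHom P').obj ((DCoh.shriek f h).obj G₂).obj, hq'⟩
  let α : ∀ T : DCoh.DQCoh X, (T ⟶ A) ≃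
      (((DCoh.IsQCohD (X := X)).ι ⋙ (DCoh.Rpush f ⋙ DCoh.LTensorCx P)).obj T ⟶ G₂.obj) := fun T =>
    { toFun := fun k => (adjP.homEquiv ((DCoh.Rpush f).obj T.obj) G₂.obj).symm
        ((adj.homEquiv T R).symm k).hom
      invFun := fun m => adj.homEquiv T R
        (ObjectProperty.homMk (adjP.homEquiv ((DCoh.Rpush f).obj T.obj) G₂.obj m))
      left_inv := fun k => by
        simp only [Equiv.apply_symm_apply]
        exact (adj.homEquiv T R).apply_symm_apply k
      right_inv := fun m => by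
        simp only [Equiv.symm_apply_apply]
        exact (adjP.homEquiv ((DCoh.Rpush f).obj T.obj) G₂.obj).symm_apply_apply m }
  let β : ∀ T : DCoh.DQCoh X, (T ⟶ B) ≃
      (((DCoh.IsQCohD (X := X)).ι ⋙ (DCoh.LTensorCx P' ⋙ DCoh.Rpush f)).obj T ⟶ G₂.obj) :=
    fun T =>
    { toFun := fun k => ((adj.homEquiv (TP.obj T) G₂).symm (ObjectProperty.homMk
        ((adjP'.homEquiv T.obj ((DCoh.shriek f h).obj G₂).obj).symm k.hom))).hom
      invFun := fun m => ObjectProperty.homMk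
        (adjP'.homEquiv T.obj ((DCoh.shriek f h).obj G₂).obj
          (adj.homEquiv (TP.obj T) G₂ (ObjectProperty.homMk m)).hom)
      left_inv := fun k => by
        apply ObjectProperty.hom_ext
        show adjP'.homEquiv T.obj ((DCoh.shriek f h).obj G₂).obj
          (adj.homEquiv (TP.obj T) G₂ ((adj.homEquiv (TP.obj T) G₂).symm (ObjectProperty.homMk
            ((adjP'.homEquiv T.obj ((DCoh.shriek f h).obj G₂).obj).symm k.hom)))).hom = k.hom
        rw [Equiv.apply_symm_apply]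
        exact (adjP'.homEquiv T.obj ((DCoh.shriek f h).obj G₂).obj).apply_symm_apply k.hom
      right_inv := fun m => by
        show ((adj.homEquiv (TP.obj T) G₂).symm (ObjectProperty.homMk
          ((adjP'.homEquiv T.obj ((DCoh.shriek f h).obj G₂).obj).symm
            (adjP'.homEquiv T.obj ((DCoh.shriek f h).obj G₂).obj
              (adj.homEquiv (TP.obj T) G₂ (ObjectProperty.homMk m)).hom)))).hom = m
        rw [Equiv.symm_apply_apply]
        have : (ObjectProperty.homMk (adj.homEquiv (TP.obj T) G₂ (ObjectProperty.homMk m)).hom :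
            TP.obj T ⟶ (DCoh.shriek f h).obj G₂) =
            adj.homEquiv (TP.obj T) G₂ (ObjectProperty.homMk m) := rfl
        rw [this, Equiv.symm_apply_apply]
        rfl }
  have hα : ∀ (T T' : DCoh.DQCoh X) (g : T' ⟶ T) (k : T ⟶ A), α T' (g ≫ k) =
      ((DCoh.IsQCohD (X := X)).ι ⋙ (DCoh.Rpush f ⋙ DCoh.LTensorCx P)).map g ≫ α T k := by
    intro T T' g k
    show (adjP.homEquiv ((DCoh.Rpush f).obj T'.obj) G₂.obj).symm
        ((adj.homEquiv T' R).symm (g ≫ k)).hom =
      (DCoh.LTensorCx P).map ((DCoh.Rpush f).map g.hom) ≫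
        (adjP.homEquiv ((DCoh.Rpush f).obj T.obj) G₂.obj).symm ((adj.homEquiv T R).symm k).hom
    have h1 : ((adj.homEquiv T' R).symm (g ≫ k)).hom =
        (DCoh.Rpush f).map g.hom ≫ ((adj.homEquiv T R).symm k).hom := by
      rw [adj.homEquiv_naturality_left_symm g k]
      rfl
    rw [h1, adjP.homEquiv_naturality_left_symm]
  have hβ : ∀ (T T' : DCoh.DQCoh X) (g : T' ⟶ T) (k : T ⟶ B), β T' (g ≫ k) =
      ((DCoh.IsQCohD (X := X)).ι ⋙ (DCoh.LTensorCx P' ⋙ DCoh.Rpush f)).map g ≫ β T k := by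
    intro T T' g k
    show ((adj.homEquiv (TP.obj T') G₂).symm (ObjectProperty.homMk
        ((adjP'.homEquiv T'.obj ((DCoh.shriek f h).obj G₂).obj).symm (g ≫ k).hom))).hom =
      (DCoh.Rpush f).map ((DCoh.LTensorCx P').map g.hom) ≫
        ((adj.homEquiv (TP.obj T) G₂).symm (ObjectProperty.homMk
          ((adjP'.homEquiv T.obj ((DCoh.shriek f h).obj G₂).obj).symm k.hom))).hom
    have h1 : (ObjectProperty.homMk
        ((adjP'.homEquiv T'.obj ((DCoh.shriek f h).obj G₂).obj).symm (g ≫ k).hom) :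
          TP.obj T' ⟶ (DCoh.shriek f h).obj G₂) =
        TP.map g ≫ ObjectProperty.homMk
          ((adjP'.homEquiv T.obj ((DCoh.shriek f h).obj G₂).obj).symm k.hom) := by
      apply ObjectProperty.hom_ext
      show (adjP'.homEquiv T'.obj ((DCoh.shriek f h).obj G₂).obj).symm (g.hom ≫ k.hom) =
        (DCoh.LTensorCx P').map g.hom ≫
          (adjP'.homEquiv T.obj ((DCoh.shriek f h).obj G₂).obj).symm k.hom
      rw [Adjunction.homEquiv_naturality_left_symm]
    rw [h1, adj.homEquiv_naturality_left_symm]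
    rfl
  obtain ⟨e⟩ := nonempty_iso_of_relative_adjoint _ _ c G₂.obj A B α hα β hβ
  exact ⟨(ObjectProperty.ι _).mapIso e⟩

end

end Groth.Agent.Lib.ShriekHomH3
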