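import Mathlib
import Groth.Prelude.Def_AlgSp

/-!
# Extension by the empty set along `Over.map g` for fppf sheaves: the explicit sheaf (helper7)

For `g : S ⟶ S'` and an fppf sheaf `F` on `Over S`, the presheaf on `Over S'`
`T' ↦ Σ φ : T' ⟶ (S, g), F (T'.left, φ.left)` is an fppf sheaf.
-/

set_option autoImplicit false
universe u
open CategoryTheory CategoryTheory.Limits AlgebraicGeometry Opposite
open AlgSp

namespace Groth.Agent.Lib.ShriekSp_helper7

variable {S S' : Scheme.{u}}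

section Basic

variable (F : Sp S)

theorem map_map {A B C : Over S} (f : A ⟶ B) (k : B ⟶ C) (x : F.obj.obj (op C)) :
    F.obj.map f.op (F.obj.map k.op x) = F.obj.map (f ≫ k).op x := by
  rw [op_comp, Functor.map_comp_apply]

theorem map_congr_left {A B : Over S} (f k : A ⟶ B) (h : f.left = k.left)
    (x : F.obj.obj (op B)) : F.obj.map f.op x = F.obj.map k.op x := by
  rw [Over.OverMorphism.ext h]

theorem map_map_congr {A B C : Over S} (a : A ⟶ B) (b : B ⟶ C) (d : A ⟶ C)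
    (h : a.left ≫ b.left = d.left) (x : F.obj.obj (op C)) :
    F.obj.map a.op (F.obj.map b.op x) = F.obj.map d.op x := by
  rw [map_map]
  exact map_congr_left F _ _ h x

theorem map_map_map_congr {A B C D : Over S} (a : A ⟶ B) (b : B ⟶ C) (c : C ⟶ D) (d : A ⟶ D)
    (h : a.left ≫ b.left ≫ c.left = d.left) (x : F.obj.obj (op D)) :
    F.obj.map a.op (F.obj.map b.op (F.obj.map c.op x)) = F.obj.map d.op x := by
  rw [map_map, map_map]
  exact map_congr_left F _ _ (by simpa using h) x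

/-- Transport of sections along an equality of structure morphisms. -/
def tr {T : Scheme.{u}} {φ ψ : T ⟶ S} (h : φ = ψ) :
    F.obj.obj (op (Over.mk ψ)) → F.obj.obj (op (Over.mk φ)) :=
  F.obj.map (Over.homMk (𝟙 T) (by simp [h]) : Over.mk φ ⟶ Over.mk ψ).op

theorem tr_self {T : Scheme.{u}} {φ : T ⟶ S} (h : φ = φ) (x : F.obj.obj (op (Over.mk φ))) :
    tr F h x = x := by
  unfold tr
  have e : (Over.homMk (𝟙 T) (by simp) : Over.mk φ ⟶ Over.mk φ) = 𝟙 (Over.mk φ) :=
    Over.OverMorphism.ext rfl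
  rw [e]
  simp

variable (g : S ⟶ S')

/-- Sections over `T'` of the extension by the empty set. -/
abbrev Sec (T' : Over S') : Type (u + 1) :=
  Σ φ : T' ⟶ Over.mk g, F.obj.obj (op (Over.mk φ.left))

variable {F g}

theorem sec_ext {T' : Over S'} {φ ψ : T' ⟶ Over.mk g} {x : F.obj.obj (op (Over.mk φ.left))}
    {y : F.obj.obj (op (Over.mk ψ.left))} (h1 : φ = ψ) (h1' : φ.left = ψ.left)
    (h2 : tr F h1' y = x) : (⟨φ, x⟩ : Sec F g T') = ⟨ψ, y⟩ := by
  subst h1
  rw [tr_self] at h2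
  rw [h2]

theorem sec_snd_eq {T' : Over S'} {a b : Sec F g T'} (hab : a = b) (h : a.1.left = b.1.left) :
    tr F h b.2 = a.2 := by
  subst hab
  exact tr_self F _ _

theorem sec_snd_eq' {T' : Over S'} {φ : T' ⟶ Over.mk g} {x y : F.obj.obj (op (Over.mk φ.left))}
    (h : (⟨φ, x⟩ : Sec F g T') = ⟨φ, y⟩) : x = y := by
  have := sec_snd_eq h rfl
  rw [tr_self] at this
  exact this.symm

variable (F g)

/-- The arrow over `S` underlying a restriction. -/
abbrev resArrow {T' T'' : Over S'} (m : T'' ⟶ T') (φ : T' ⟶ Over.mk g) :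
    Over.mk (m ≫ φ).left ⟶ Over.mk φ.left := Over.homMk m.left rfl

/-- Restriction of sections. -/
def res {T' T'' : Over S'} (m : T'' ⟶ T') (a : Sec F g T') : Sec F g T'' :=
  ⟨m ≫ a.1, F.obj.map (resArrow g m a.1).op a.2⟩

theorem res_id {T' : Over S'} (a : Sec F g T') : res F g (𝟙 T') a = a := by
  obtain ⟨φ, x⟩ := a
  dsimp only [res]
  refine sec_ext (Category.id_comp φ) (by simp) ?_
  unfold tr
  exact map_congr_left F _ _ rfl x

theorem res_comp {T₁ T₂ T₃ : Over S'} (m : T₂ ⟶ T₁) (n : T₃ ⟶ T₂) (a : Sec F g T₁) :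
    res F g (n ≫ m) a = res F g n (res F g m a) := by
  obtain ⟨φ, x⟩ := a
  dsimp only [res]
  refine sec_ext (Category.assoc n m φ) (by simp) ?_
  unfold tr
  rw [map_map, map_map]
  exact map_congr_left F _ _ (by simp) x

/-- The extension by the empty set, as a presheaf. -/
def shriekPre : (Over S')ᵒᵖ ⥤ Type (u + 1) where
  obj T' := Sec F g T'.unop
  map {T' T''} m := ↾(res F g m.unop)
  map_id T' := ConcreteCategory.hom_ext _ _ fun a => res_id F g a
  map_comp {T₁ T₂ T₃} m n := ConcreteCategory.hom_ext _ _ fun a => res_comp F g m.unop n.unop a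

theorem shriekPre_map_mk {T' T'' : Over S'} (m : T'' ⟶ T') (φ : T' ⟶ Over.mk g)
    (x : F.obj.obj (op (Over.mk φ.left))) :
    (shriekPre F g).map m.op ⟨φ, x⟩ =
      (⟨m ≫ φ, F.obj.map (resArrow g m φ).op x⟩ : Sec F g T'') := rfl

end Basic

section Glue

theorem hom_ext_of_sieve {T' X' : Over S'} (R : Sieve T') (hR : R ∈ J S' T') (φ₁ φ₂ : T' ⟶ X')
    (h : ∀ ⦃Y' : Over S'⦄ (f : Y' ⟶ T'), R f → f ≫ φ₁ = f ≫ φ₂) : φ₁ = φ₂ := by
  have hh : Presieve.IsSheaf (J S') ((yon S').obj X').obj :=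
    (isSheaf_iff_isSheaf_of_type _ _).1 ((yon S').obj X').property
  have := (hh R hR).isSeparatedFor.ext (t₁ := ULift.up φ₁) (t₂ := ULift.up φ₂)
    (fun Y' f hf => by
      show ULift.up (f ≫ φ₁) = ULift.up (f ≫ φ₂)
      rw [h f hf])
  exact congrArg ULift.down this

theorem exists_glue_hom {T' X' : Over S'} (R : Sieve T') (hR : R ∈ J S' T')
    (φ : ∀ ⦃Y' : Over S'⦄ (f : Y' ⟶ T'), R f → (Y' ⟶ X'))
    (hφ : ∀ ⦃Y' Z' : Over S'⦄ (f : Y' ⟶ T') (m : Z' ⟶ Y') (hf : R f),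
      φ (m ≫ f) (R.downward_closed hf m) = m ≫ φ f hf) :
    ∃ ψ : T' ⟶ X', ∀ ⦃Y' : Over S'⦄ (f : Y' ⟶ T') (hf : R f), f ≫ ψ = φ f hf := by
  have hh : Presieve.IsSheaf (J S') ((yon S').obj X').obj :=
    (isSheaf_iff_isSheaf_of_type _ _).1 ((yon S').obj X').property
  let fam : Presieve.FamilyOfElements ((yon S').obj X').obj R.arrows :=
    fun Y' f hf => ULift.up (φ f hf)
  have hc : fam.Compatible := by
    rw [Presieve.compatible_iff_sieveCompatible]
    intro Y' Z' f m hf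
    show ULift.up (φ (m ≫ f) _) = ULift.up (m ≫ φ f hf)
    rw [hφ f m hf]
  obtain ⟨t, ht, -⟩ := (hh R hR) fam hc
  refine ⟨t.down, fun Y' f hf => ?_⟩
  exact congrArg ULift.down (ht f hf)

end Glue

section Sheaf

variable (F : Sp S) (g : S ⟶ S')

/-- The sieve on `(T'.left, φ)` over `S` corresponding to a sieve on `T'` over `S'`. -/
abbrev sieveOver {T' : Over S'} (R : Sieve T') (φ : T'.left ⟶ S) : Sieve (Over.mk φ) :=
  (Sieve.overEquiv (Over.mk φ)).symm (Sieve.overEquiv T' R)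

theorem sieveOver_mem {T' : Over S'} (R : Sieve T') (hR : R ∈ J S' T') (φ : T'.left ⟶ S) :
    sieveOver R φ ∈ J S (Over.mk φ) :=
  (Scheme.fppfTopology).overEquiv_symm_mem_over (Over.mk φ) _
    (((Scheme.fppfTopology).mem_over_iff R).1 hR)

/-- The arrow over `S'` underlying an arrow over `S`. -/
abbrev ko (T' : Over S') {φ : T'.left ⟶ S} {Y : Over S} (k : Y ⟶ Over.mk φ) :
    Over.mk (k.left ≫ T'.hom) ⟶ T' := Over.homMk k.left rfl

theorem sieveOver_iff {T' : Over S'} (R : Sieve T') (φ : T'.left ⟶ S) {Y : Over S}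
    (k : Y ⟶ Over.mk φ) : sieveOver R φ k ↔ R (ko T' k) :=
  (Sieve.overEquiv_symm_iff _ k).trans (Sieve.overEquiv_iff R k.left)

theorem sep {T' : Over S'} (R : Sieve T') (hR : R ∈ J S' T') (t₁ t₂ : Sec F g T')
    (h : ∀ ⦃Y' : Over S'⦄ (f : Y' ⟶ T'), R f → res F g f t₁ = res F g f t₂) : t₁ = t₂ := by
  have hF : Presieve.IsSheaf (J S) F.obj := (isSheaf_iff_isSheaf_of_type _ _).1 F.property
  obtain ⟨φ₁, z₁⟩ := t₁
  obtain ⟨φ₂, z₂⟩ := t₂
  have hφ : φ₁ = φ₂ :=
    hom_ext_of_sieve R hR φ₁ φ₂ (fun Y' f hf => congrArg Sigma.fst (h f hf))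
  subst hφ
  have hz : z₁ = z₂ := by
    refine (hF _ (sieveOver_mem R hR φ₁.left)).isSeparatedFor.ext (fun Y k hk => ?_)
    have hk' : R (ko T' k) := (sieveOver_iff R φ₁.left k).1 hk
    have h0 : F.obj.map (resArrow g (ko T' k) φ₁).op z₁ =
        F.obj.map (resArrow g (ko T' k) φ₁).op z₂ := sec_snd_eq' (h (ko T' k) hk')
    let δ : Y ⟶ Over.mk (ko T' k ≫ φ₁).left := Over.homMk (𝟙 _) (by simpa using (Over.w k))
    have e : ∀ z : F.obj.obj (op (Over.mk φ₁.left)), F.obj.map k.op z =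
        F.obj.map δ.op (F.obj.map (resArrow g (ko T' k) φ₁).op z) := by
      intro z
      rw [map_map]
      exact map_congr_left F _ _ (by simp [δ]) z
    rw [e, e, h0]
  rw [hz]

theorem glue {T' : Over S'} (R : Sieve T') (hR : R ∈ J S' T')
    (fam : ∀ ⦃Y' : Over S'⦄ (f : Y' ⟶ T'), R f → Sec F g Y')
    (hsc : ∀ ⦃Y' Z' : Over S'⦄ (f : Y' ⟶ T') (m : Z' ⟶ Y') (hf : R f),
      res F g m (fam f hf) = fam (m ≫ f) (R.downward_closed hf m)) :
    ∃ t : Sec F g T', ∀ ⦃Y' : Over S'⦄ (f : Y' ⟶ T') (hf : R f), res F g f t = fam f hf := by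
  have hF : Presieve.IsSheaf (J S) F.obj := (isSheaf_iff_isSheaf_of_type _ _).1 F.property
  have hcongr : ∀ {Y' : Over S'} {f f' : Y' ⟶ T'} (e : f = f') (hf : R f) (hf' : R f'),
      fam f hf = fam f' hf' := by
    intro Y' f f' e hf hf'
    subst e
    rfl
  obtain ⟨φ, hφ⟩ := exists_glue_hom R hR (fun Y' f hf => (fam f hf).1)
    (fun Y' Z' f m hf => by
      rw [← hsc f m hf]
      rfl)
  have hex : ∀ ⦃Y : Over S⦄ (k : Y ⟶ Over.mk φ.left) (hk : sieveOver R φ.left k),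
      ∃ y : F.obj.obj (op Y), ∃ (hk' : R (ko T' k)) (e : Y.hom = (fam (ko T' k) hk').1.left),
        y = tr F e (fam (ko T' k) hk').2 := by
    intro Y k hk
    have hk' : R (ko T' k) := (sieveOver_iff R φ.left k).1 hk
    have e : Y.hom = (fam (ko T' k) hk').1.left := by
      rw [← hφ (ko T' k) hk']
      exact (Over.w k).symm
    exact ⟨tr F e (fam (ko T' k) hk').2, hk', e, rfl⟩
  choose y hy using hex
  have hcompT : Presieve.FamilyOfElements.Compatible
      (fun Y k hk => y k hk : Presieve.FamilyOfElements F.obj (sieveOver R φ.left).arrows) := by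
    rw [Presieve.compatible_iff_sieveCompatible]
    intro Y Z k m hk
    show y (m ≫ k) _ = F.obj.map m.op (y k hk)
    obtain ⟨h1, e1, hy1⟩ := hy (m ≫ k) ((sieveOver R φ.left).downward_closed hk m)
    obtain ⟨h2, e2, hy2⟩ := hy k hk
    rw [hy1, hy2]
    let mo : Over.mk ((m ≫ k).left ≫ T'.hom) ⟶ Over.mk (k.left ≫ T'.hom) :=
      Over.homMk m.left (by simp)
    have hko : ko T' (m ≫ k) = mo ≫ ko T' k := Over.OverMorphism.ext (by simp [mo])
    have hab : fam (ko T' (m ≫ k)) h1 = res F g mo (fam (ko T' k) h2) :=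
      (hcongr hko h1 (R.downward_closed h2 mo)).trans (hsc (ko T' k) mo h2).symm
    have hs := sec_snd_eq hab (by rw [hab])
    rw [← hs]
    unfold tr
    dsimp only [res]
    exact (map_map_map_congr F _ _ _ _ (by simp [mo]) _).trans (map_map F _ _ _).symm
  obtain ⟨z, hz, -⟩ := (hF _ (sieveOver_mem R hR φ.left)) (fun Y k hk => y k hk) hcompT
  refine ⟨⟨φ, z⟩, fun Y' f hf => ?_⟩
  rcases hfx : fam f hf with ⟨ψ, x⟩
  have h1 : f ≫ φ = ψ := by rw [hφ f hf, hfx]
  dsimp only [res]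
  refine sec_ext h1 (congrArg (fun a => a.left) h1) ?_
  let ε : Over.mk (f.left ≫ T'.hom) ⟶ Y' := Over.homMk (𝟙 _) (by simp)
  have hko : ko T' (resArrow g f φ) = ε ≫ f := Over.OverMorphism.ext (by simp [ε])
  have hk' : R (ε ≫ f) := R.downward_closed hf ε
  have hk : sieveOver R φ.left (resArrow g f φ) :=
    (sieveOver_iff R φ.left _).2 (by rw [hko]; exact hk')
  obtain ⟨h3, e3, hy3⟩ := hy (resArrow g f φ) hk
  have hzk : F.obj.map (resArrow g f φ).op z = y (resArrow g f φ) hk := hz _ hk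
  rw [hzk, hy3]
  have hab : fam (ko T' (resArrow g f φ)) h3 = res F g ε ⟨ψ, x⟩ := by
    rw [← hfx]
    exact (hcongr hko h3 hk').trans (hsc f ε hf).symm
  have hs := sec_snd_eq hab (by rw [hab])
  rw [← hs]
  unfold tr
  dsimp only [res]
  exact (map_map_map_congr F _ _ _ _ (by simp [ε]) _).symm

theorem shriekPre_isSheaf : Presheaf.IsSheaf (J S') (shriekPre F g) := by
  rw [isSheaf_iff_isSheaf_of_type]
  intro T' R hR
  rw [← Presieve.isSeparatedFor_and_exists_isAmalgamation_iff_isSheafFor]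
  refine ⟨fun fam t₁ t₂ ht₁ ht₂ => ?_, fun fam hfam => ?_⟩
  · exact sep F g R hR t₁ t₂ (fun Y' f hf => (ht₁ f hf).trans (ht₂ f hf).symm)
  · have hsc := (Presieve.compatible_iff_sieveCompatible fam).1 hfam
    exact glue F g R hR (fun Y' f hf => fam f hf) (fun Y' Z' f m hf => (hsc f m hf).symm)

/-- The extension by the empty set, as a sheaf. -/
def shriek : Sp S' := ⟨shriekPre F g, shriekPre_isSheaf F g⟩

end Sheaf

end Groth.Agent.Lib.ShriekSp_helper7
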