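import Groth.Agent.Lib.ShriekSp1_helper7

/-!
# Extension by the empty set along `Over.map g`: the adjunction (helper7)
-/

set_option autoImplicit false
universe u
open CategoryTheory CategoryTheory.Limits AlgebraicGeometry Opposite
open AlgSp

namespace Groth.Agent.Lib.ShriekSp_helper7

variable {S S' : Scheme.{u}} (g : S ⟶ S')

/-- Restriction of sheaves along `Over.map g`. -/
abbrev pb : Sp S' ⥤ Sp S :=
  (Over.map g).sheafPushforwardContinuous (Type (u + 1)) (J S) (J S')

/-- The canonical lifting of the structure morphism of `(T, T.hom ≫ g)`. -/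
def can (T : Over S) : (Over.map g).obj T ⟶ Over.mk g := Over.homMk T.hom (by simp)

@[simp] theorem can_left (T : Over S) : (can g T).left = T.hom := rfl

/-- The comparison `T' ⟶ (T'.left, φ.left ≫ g)`. -/
def iot {T' : Over S'} (φ : T' ⟶ Over.mk g) : T' ⟶ (Over.map g).obj (Over.mk φ.left) :=
  Over.homMk (𝟙 _) (by simpa using Over.w φ)

@[simp] theorem iot_left {T' : Over S'} (φ : T' ⟶ Over.mk g) : (iot g φ).left = 𝟙 _ := rfl

variable {g}

theorem res_iot_can (F : Sp S) {T' : Over S'} (φ : T' ⟶ Over.mk g)
    (x : F.obj.obj (op (Over.mk φ.left))) :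
    res F g (iot g φ) (⟨can g (Over.mk φ.left), x⟩ : Sec F g ((Over.map g).obj (Over.mk φ.left))) =
      ⟨φ, x⟩ := by
  dsimp only [res]
  refine sec_ext (Over.OverMorphism.ext (by simp)) (by simp) ?_
  unfold tr
  exact map_congr_left F _ _ rfl x

variable (g)

/-- The unit `F ⟶ j^* j_! F`. -/
def unitApp (F : Sp S) : F ⟶ (pb g).obj (shriek F g) :=
  ObjectProperty.homMk
    { app := fun T => ↾(fun x => (⟨can g T.unop, x⟩ : Sec F g ((Over.map g).obj T.unop)))
      naturality := fun T₁ T₂ m => by
        apply ConcreteCategory.hom_ext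
        intro x
        show (⟨can g T₂.unop, F.obj.map m x⟩ : Sec F g ((Over.map g).obj T₂.unop)) =
          res F g ((Over.map g).map m.unop) ⟨can g T₁.unop, x⟩
        dsimp only [res]
        refine sec_ext (Over.OverMorphism.ext (by simp)) (by simp) ?_
        unfold tr
        exact map_map_congr F _ _ m.unop (by simp) x }

/-- The hom-set bijection of the adjunction. -/
def homEquiv (F : Sp S) (G : Sp S') : (shriek F g ⟶ G) ≃ (F ⟶ (pb g).obj G) where
  toFun α := unitApp g F ≫ (pb g).map α
  invFun β := ObjectProperty.homMk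
    { app := fun T' => ↾(fun a : Sec F g T'.unop =>
        G.obj.map (iot g a.1).op (β.hom.app (op (Over.mk a.1.left)) a.2))
      naturality := fun T₁ T₂ m => by
        apply ConcreteCategory.hom_ext
        intro a
        obtain ⟨φ, x⟩ := a
        have hnat := FunctorToTypes.naturality β.hom (resArrow g m.unop φ).op x
        refine (congrArg (fun z => G.obj.map (iot g (m.unop ≫ φ)).op z) hnat).trans ?_
        show G.obj.map (iot g (m.unop ≫ φ)).op
            (G.obj.map ((Over.map g).map (resArrow g m.unop φ)).op (β.hom.app _ x)) =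
          G.obj.map m (G.obj.map (iot g φ).op (β.hom.app _ x))
        exact (map_map_congr G _ _ (m.unop ≫ iot g φ) (by simp) _).trans
          (map_map G m.unop (iot g φ) _).symm }
  left_inv α := by
    apply ObjectProperty.hom_ext
    apply NatTrans.ext
    funext T'
    apply ConcreteCategory.hom_ext
    intro a
    obtain ⟨φ, x⟩ := a
    have hnat := FunctorToTypes.naturality α.hom (iot g φ).op
      (⟨can g (Over.mk φ.left), x⟩ : Sec F g ((Over.map g).obj (Over.mk φ.left)))
    have hres := res_iot_can F φ x
    exact hnat.symm.trans (congrArg (fun z => α.hom.app T' z) hres)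
  right_inv β := by
    apply ObjectProperty.hom_ext
    apply NatTrans.ext
    funext T
    apply ConcreteCategory.hom_ext
    intro x
    show G.obj.map (iot g (can g T.unop)).op (β.hom.app _ x) = β.hom.app T x
    have e : iot g (can g T.unop) = 𝟙 _ := Over.OverMorphism.ext rfl
    rw [e]
    exact Functor.map_id_apply G.obj _ _

theorem homEquiv_naturality (X : Sp S) (Y Y' : Sp S') (k : Y ⟶ Y') (h : shriek X g ⟶ Y) :
    homEquiv g X Y' (h ≫ k) = homEquiv g X Y h ≫ (pb g).map k := by
  show unitApp g X ≫ (pb g).map (h ≫ k) = (unitApp g X ≫ (pb g).map h) ≫ (pb g).map k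
  rw [Functor.map_comp, Category.assoc]

/-- The extension by the empty set, as a functor. -/
def shriekFunctor : Sp S ⥤ Sp S' :=
  Adjunction.leftAdjointOfEquiv (homEquiv g) (homEquiv_naturality g)

/-- The adjunction. -/
def shriekAdj : shriekFunctor g ⊣ pb g :=
  Adjunction.adjunctionOfEquivLeft (homEquiv g) (homEquiv_naturality g)

theorem shriekFunctor_obj (F : Sp S) : (shriekFunctor g).obj F = shriek F g := rfl

theorem shriekFunctor_map_app {F F' : Sp S} (f : F ⟶ F') {T' : Over S'} (φ : T' ⟶ Over.mk g)
    (x : F.obj.obj (op (Over.mk φ.left))) :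
    ((shriekFunctor g).map f).hom.app (op T') (⟨φ, x⟩ : Sec F g T') =
      (⟨φ, f.hom.app _ x⟩ : Sec F' g T') := by
  show res F' g (iot g φ) (⟨can g (Over.mk φ.left), f.hom.app _ x⟩ :
    Sec F' g ((Over.map g).obj (Over.mk φ.left))) = _
  exact res_iot_can F' φ (f.hom.app _ x)

/-- The explicit functor is the abstract left adjoint. -/
noncomputable def shriekIso :
    shriekFunctor g ≅ (Over.map g).sheafPullback (Type (u + 1)) (J S) (J S') :=
  Adjunction.leftAdjointUniq (shriekAdj g)
    ((Over.map g).sheafAdjunctionContinuous (Type (u + 1)) (J S) (J S'))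

end Groth.Agent.Lib.ShriekSp_helper7
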