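import Groth.Agent.Lib.ShriekSp2_helper7
import Groth.Agent.Lib.AlgSpOpenSub_helper7
import Groth.Agent.Lib.AlgSpPullback_helper7

/-!
# Extension by the empty set along `Over.map g`: representability and algebraic spaces (helper7)
-/

set_option autoImplicit false
universe u
open CategoryTheory CategoryTheory.Limits AlgebraicGeometry Opposite
open AlgSp Groth.Agent.Lib.AlgSpOpenSub_helper7 Groth.Agent.Lib.AlgSpPullback_helper7

namespace Groth.Agent.Lib.ShriekSp_helper7

variable {S S' : Scheme.{u}} (g : S ⟶ S')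

/-- An arrow over `S` into `(T'.left, φ.left)`, viewed over `S'`. -/
def liftArrow {T' : Over S'} (φ : T' ⟶ Over.mk g) {W : Over S} (a : W ⟶ Over.mk φ.left) :
    (Over.map g).obj W ⟶ T' :=
  Over.homMk a.left (by
    have h1 : a.left ≫ φ.left = W.hom := Over.w a
    have h2 : φ.left ≫ g = T'.hom := Over.w φ
    show a.left ≫ T'.hom = W.hom ≫ g
    rw [← h2, ← Category.assoc, h1])

@[simp] theorem liftArrow_left {T' : Over S'} (φ : T' ⟶ Over.mk g) {W : Over S}
    (a : W ⟶ Over.mk φ.left) : (liftArrow g φ a).left = a.left := rfl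

/-- An arrow over `S` out of `(Z'.left, χ.left)`, viewed over `S'`. -/
def liftHom {Z' : Over S'} (χ : Z' ⟶ Over.mk g) {W : Over S} (l : Over.mk χ.left ⟶ W) :
    Z' ⟶ (Over.map g).obj W := iot g χ ≫ (Over.map g).map l

@[simp] theorem liftHom_left {Z' : Over S'} (χ : Z' ⟶ Over.mk g) {W : Over S}
    (l : Over.mk χ.left ⟶ W) : (liftHom g χ l).left = l.left := by
  simp [liftHom]

variable {g}

/-- Sections of the extension by the empty set, as morphisms from representable sheaves. -/
noncomputable abbrev secHom (F : Sp S) {T' : Over S'} (s : Sec F g T') :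
    (yon S').obj T' ⟶ shriek F g :=
  (yE (X := shriek F g) (T := T')).symm s

theorem secHom_injective (F : Sp S) {T' : Over S'} {s t : Sec F g T'}
    (h : secHom F s = secHom F t) : s = t :=
  (yE (X := shriek F g) (T := T')).symm.injective h

theorem exists_secHom (F : Sp S) {T' : Over S'} (v : (yon S').obj T' ⟶ shriek F g) :
    ∃ (φ : T' ⟶ Over.mk g) (ξ : F.obj.obj (op (Over.mk φ.left))),
      v = secHom F (⟨φ, ξ⟩ : Sec F g T') := by
  obtain ⟨s, rfl⟩ := (yE (X := shriek F g) (T := T')).symm.surjective v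
  exact ⟨s.1, s.2, rfl⟩

theorem res_liftArrow (F : Sp S) {T' : Over S'} (φ : T' ⟶ Over.mk g)
    (ξ : F.obj.obj (op (Over.mk φ.left))) {W : Over S} (a : W ⟶ Over.mk φ.left) :
    res F g (liftArrow g φ a) (⟨φ, ξ⟩ : Sec F g T') =
      (⟨can g W, F.obj.map a.op ξ⟩ : Sec F g ((Over.map g).obj W)) := by
  dsimp only [res]
  refine sec_ext (Over.OverMorphism.ext (by simpa using Over.w a)) (by simpa using Over.w a) ?_
  unfold tr
  exact map_map_congr F _ _ _ (by simp) ξ

theorem yE_symm_res (F : Sp S) {T' Z' : Over S'} (m : Z' ⟶ T') (s : Sec F g T') :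
    (yon S').map m ≫ secHom F s = secHom F (res F g m s) :=
  yE_symm_map (X := shriek F g) m s

/-- A pullback square over `S` of two sections of `F` induces a pullback square over `S'` of the
corresponding sections of the extension by the empty set. -/
theorem isPullback_shriek (F : Sp S) {T'₁ T'₂ : Over S'} (φ₁ : T'₁ ⟶ Over.mk g)
    (φ₂ : T'₂ ⟶ Over.mk g) (ξ₁ : F.obj.obj (op (Over.mk φ₁.left)))
    (ξ₂ : F.obj.obj (op (Over.mk φ₂.left))) {W : Over S} (a : W ⟶ Over.mk φ₁.left)
    (b : W ⟶ Over.mk φ₂.left)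
    (sq : IsPullback ((yon S).map a) ((yon S).map b) (yE.symm ξ₁) (yE.symm ξ₂)) :
    IsPullback ((yon S').map (liftArrow g φ₁ a)) ((yon S').map (liftArrow g φ₂ b))
      (secHom F (⟨φ₁, ξ₁⟩ : Sec F g T'₁)) (secHom F (⟨φ₂, ξ₂⟩ : Sec F g T'₂)) := by
  have hw : F.obj.map a.op ξ₁ = F.obj.map b.op ξ₂ := by
    have := sq.w
    rw [yE_symm_map, yE_symm_map] at this
    exact yE.symm.injective this
  have w : (yon S').map (liftArrow g φ₁ a) ≫ secHom F (⟨φ₁, ξ₁⟩ : Sec F g T'₁) =
      (yon S').map (liftArrow g φ₂ b) ≫ secHom F (⟨φ₂, ξ₂⟩ : Sec F g T'₂) := by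
    rw [yE_symm_res, yE_symm_res, res_liftArrow, res_liftArrow, hw]
  refine isPullback_of_forall_yon w (fun Z' p₁ p₂ hp => ?_)
  obtain ⟨z₁, rfl⟩ := (yon S').map_surjective p₁
  obtain ⟨z₂, rfl⟩ := (yon S').map_surjective p₂
  rw [yE_symm_res, yE_symm_res] at hp
  have hres : res F g z₁ (⟨φ₁, ξ₁⟩ : Sec F g T'₁) = res F g z₂ (⟨φ₂, ξ₂⟩ : Sec F g T'₂) :=
    secHom_injective F hp
  have h : z₁ ≫ φ₁ = z₂ ≫ φ₂ := congrArg Sigma.fst hres
  have hl : (z₁ ≫ φ₁).left = (z₂ ≫ φ₂).left := congrArg (fun k => k.left) h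
  have hsnd := sec_snd_eq hres hl
  -- the two arrows over `S`
  have hc₂ : z₂.left ≫ φ₂.left = (z₁ ≫ φ₁).left := hl.symm
  have hc : F.obj.map (resArrow g z₁ φ₁).op ξ₁ =
      F.obj.map (Over.homMk z₂.left hc₂ : Over.mk (z₁ ≫ φ₁).left ⟶ Over.mk φ₂.left).op ξ₂ := by
    refine hsnd.symm.trans ?_
    unfold tr
    dsimp only [res]
    exact map_map_congr F _ _ _ (by simp) ξ₂
  have hc' : (yon S).map (resArrow g z₁ φ₁) ≫ yE.symm ξ₁ =
      (yon S).map (Over.homMk z₂.left hc₂ : Over.mk (z₁ ≫ φ₁).left ⟶ Over.mk φ₂.left) ≫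
        yE.symm ξ₂ := by
    rw [yE_symm_map, yE_symm_map, hc]
  obtain ⟨lam, hlam⟩ := (yon S).map_surjective (sq.lift _ _ hc')
  have hl1 : lam ≫ a = resArrow g z₁ φ₁ := by
    apply (yon S).map_injective
    rw [Functor.map_comp, hlam, sq.lift_fst]
  have hl2 : lam ≫ b = (Over.homMk z₂.left hc₂ : Over.mk (z₁ ≫ φ₁).left ⟶ Over.mk φ₂.left) := by
    apply (yon S).map_injective
    rw [Functor.map_comp, hlam, sq.lift_snd]
  have hl1' : lam.left ≫ a.left = z₁.left := by
    simpa using congrArg (fun k => k.left) hl1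
  have hl2' : lam.left ≫ b.left = z₂.left := by
    simpa using congrArg (fun k => k.left) hl2
  refine ⟨(yon S').map (liftHom g (z₁ ≫ φ₁) lam), ⟨?_, ?_⟩, ?_⟩
  · rw [← Functor.map_comp]
    congr 1
    exact Over.OverMorphism.ext (by simpa using hl1')
  · rw [← Functor.map_comp]
    congr 1
    exact Over.OverMorphism.ext (by simpa using hl2')
  · rintro p ⟨hp1, hp2⟩
    obtain ⟨mu', rfl⟩ := (yon S').map_surjective p
    rw [← Functor.map_comp] at hp1 hp2
    have e1 : mu' ≫ liftArrow g φ₁ a = z₁ := (yon S').map_injective hp1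
    have e2 : mu' ≫ liftArrow g φ₂ b = z₂ := (yon S').map_injective hp2
    have e1l : mu'.left ≫ a.left = z₁.left := by
      simpa using congrArg (fun k => k.left) e1
    have e2l : mu'.left ≫ b.left = z₂.left := by
      simpa using congrArg (fun k => k.left) e2
    have hmu : mu'.left ≫ W.hom = (z₁ ≫ φ₁).left := by
      have h3 : a.left ≫ φ₁.left = W.hom := Over.w a
      show mu'.left ≫ W.hom = z₁.left ≫ φ₁.left
      rw [← e1l, Category.assoc, h3]
    have hmul : (Over.homMk mu'.left hmu : Over.mk (z₁ ≫ φ₁).left ⟶ W) = lam := by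
      apply (yon S).map_injective
      apply sq.hom_ext
      · rw [← Functor.map_comp, ← Functor.map_comp, hl1]
        congr 1
        exact Over.OverMorphism.ext (by simpa using e1l)
      · rw [← Functor.map_comp, ← Functor.map_comp, hl2]
        congr 1
        exact Over.OverMorphism.ext (by simpa using e2l)
    congr 1
    exact Over.OverMorphism.ext (by simpa using congrArg (fun k => k.left) hmul)

end Groth.Agent.Lib.ShriekSp_helper7
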