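import Groth.Agent.Lib.ShriekSp3_helper7

/-!
# Extension by the empty set along `Over.map g`: `j_!` of schemes and of algebraic spaces (helper7)
-/

set_option autoImplicit false
universe u
open CategoryTheory CategoryTheory.Limits AlgebraicGeometry Opposite
open AlgSp Groth.Agent.Lib.AlgSpOpenSub_helper7 Groth.Agent.Lib.AlgSpPullback_helper7

namespace Groth.Agent.Lib.ShriekSp_helper7

variable {S S' : Scheme.{u}} {g : S ⟶ S'}

theorem representable_secHom (F : Sp S) {T' : Over S'} (φ : T' ⟶ Over.mk g)
    (ξ : F.obj.obj (op (Over.mk φ.left))) (hf : Representable (yE.symm ξ)) :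
    Representable (S := S') (secHom F (⟨φ, ξ⟩ : Sec F g T')) := by
  intro V' v
  obtain ⟨ψ, η, rfl⟩ := exists_secHom F v
  exact ⟨(Over.map g).obj (hf.pullback (yE.symm η)), liftArrow g ψ (hf.snd (yE.symm η)),
    (yon S').map (liftArrow g φ (hf.fst' (yE.symm η))),
    isPullback_shriek F φ ψ ξ η _ _ (hf.isPullback' (yE.symm η))⟩

theorem repWith_secHom (Q : MorphismProperty Scheme.{u}) [Q.IsStableUnderBaseChange] (F : Sp S)
    {T' : Over S'} (φ : T' ⟶ Over.mk g) (ξ : F.obj.obj (op (Over.mk φ.left)))
    (hf : RepWith Q (yE.symm ξ)) :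
    RepWith (S := S') Q (secHom F (⟨φ, ξ⟩ : Sec F g T')) := by
  apply MorphismProperty.relative.of_exists
  intro V' v
  obtain ⟨ψ, η, rfl⟩ := exists_secHom F v
  exact ⟨(Over.map g).obj (hf.rep.pullback (yE.symm η)),
    (yon S').map (liftArrow g φ (hf.rep.fst' (yE.symm η))),
    liftArrow g ψ (hf.rep.snd (yE.symm η)),
    isPullback_shriek F φ ψ ξ η _ _ (hf.rep.isPullback' (yE.symm η)),
    hf.property_snd (yE.symm η)⟩

theorem repWith_of_repWith_secHom (P : MorphismProperty Scheme.{u}) (F : Sp S) {T : Over S}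
    (ξ : F.obj.obj (op T)) (hrep : Representable (yE.symm ξ))
    (h : RepWith (S := S') P (secHom F (⟨can g T, ξ⟩ : Sec F g ((Over.map g).obj T)))) :
    RepWith P (yE.symm ξ) := by
  refine ⟨hrep, fun V W v fst snd sq => ?_⟩
  obtain ⟨a, rfl⟩ := (yon S).map_surjective fst
  obtain ⟨η, rfl⟩ := (yE (X := F) (T := V)).symm.surjective v
  exact h.property _ _ _ (isPullback_shriek F (can g T) (can g V) ξ η a snd sq)

theorem yon_map_down {X A B : Over S} (k : A ⟶ B) (c : ((yon S).obj X).obj.obj (op B)) :
    (((yon S).obj X).obj.map k.op c).down = k ≫ c.down := rfl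

/-- The universal section of `j_! h_X` over `X` viewed over `S'`. -/
def univ (g : S ⟶ S') (X : Over S) : Sec ((yon S).obj X) g ((Over.map g).obj X) :=
  ⟨can g X, ⟨𝟙 X⟩⟩

/-- `j_! h_X` is represented by `X` viewed over `S'`. -/
def reprBy (g : S ⟶ S') (X : Over S) :
    (shriek ((yon S).obj X) g).obj.RepresentableBy ((Over.map g).obj X) where
  homEquiv {Z'} :=
    { toFun := fun m => res ((yon S).obj X) g m (univ g X)
      invFun := fun s => liftHom g s.1 s.2.down
      left_inv := fun m => Over.OverMorphism.ext (by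
        rw [liftHom_left]
        show (((yon S).obj X).obj.map (resArrow g m (can g X)).op (univ g X).2).down.left = m.left
        rw [yon_map_down]
        exact Category.comp_id m.left)
      right_inv := fun s => by
        obtain ⟨φ, ⟨c⟩⟩ := s
        dsimp only [res, univ]
        refine sec_ext (Over.OverMorphism.ext ?_) ?_ ?_
        · simpa using Over.w c
        · simpa using Over.w c
        · apply ULift.ext
          unfold tr
          rw [yon_map_down, yon_map_down]
          exact Over.OverMorphism.ext (by simp) }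
  homEquiv_comp := fun n m => res_comp _ g m n (univ g X)

theorem isAlgSpace_shriek (F : Sp S) (hF : IsAlgSpace F) : IsAlgSpace (shriek F g) where
  diag := Functor.relativelyRepresentable.diag_of_map_from_obj (fun T' v => by
    obtain ⟨φ, ξ, rfl⟩ := exists_secHom F v
    exact representable_secHom F φ ξ (hF.representable_from_yon _))
  atlas := by
    obtain ⟨U, p, h1, h2⟩ := hF.atlas
    obtain ⟨ξ, rfl⟩ := (yE (X := F) (T := U)).symm.surjective p
    exact ⟨(Over.map g).obj U, secHom F (⟨can g U, ξ⟩ : Sec F g ((Over.map g).obj U)),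
      repWith_secHom @Etale F (can g U) ξ h1, repWith_secHom @Surjective F (can g U) ξ h2⟩

theorem jshriek_representable (g : S ⟶ S') (X : Over S) :
    Nonempty ((((Over.map g).sheafPullback (Type (u + 1)) (J S) (J S')).obj
      ((yon S).obj X)).obj.RepresentableBy ((Over.map g).obj X)) :=
  ⟨(reprBy g X).ofIso ((sheafToPresheaf (J S') (Type (u + 1))).mapIso
    ((shriekIso g).app ((yon S).obj X)))⟩

theorem jshriek_isAlgSpace (g : S ⟶ S') (F : Sp S) (hF : IsAlgSpace F) :
    IsAlgSpace (((Over.map g).sheafPullback (Type (u + 1)) (J S) (J S')).obj F) :=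
  (isAlgSpace_shriek (g := g) F hF).of_iso ((shriekIso g).app F)

theorem repWith_shriekFunctor_map_iff (g : S ⟶ S') (F : Sp S) (hF : IsAlgSpace F) {T : Over S}
    (f : (yon S).obj T ⟶ F) (P : MorphismProperty Scheme.{u}) [P.IsStableUnderBaseChange] :
    RepWith (S := S') P ((shriekFunctor g).map f) ↔ RepWith P f := by
  obtain ⟨ξ, rfl⟩ := (yE (X := F) (T := T)).symm.surjective f
  let ν := isoOfRepresentableBy (F := shriek ((yon S).obj T) g) (reprBy g T)
  have key : ν.hom ≫ (shriekFunctor g).map (yE.symm ξ) =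
      secHom F (⟨can g T, ξ⟩ : Sec F g ((Over.map g).obj T)) := by
    apply (yE (X := shriek F g) (T := (Over.map g).obj T)).injective
    rw [Equiv.apply_symm_apply]
    show ((shriekFunctor g).map (yE.symm ξ)).hom.app _ (yE ν.hom) = _
    have h1 : yE ν.hom = univ g T := res_id _ g (univ g T)
    refine (congrArg (fun z => ((shriekFunctor g).map (yE.symm ξ)).hom.app
      (op ((Over.map g).obj T)) z) h1).trans ?_
    refine (shriekFunctor_map_app g (yE.symm ξ) (can g T) _).trans ?_
    exact congrArg (Sigma.mk (can g T)) ((yE (X := F) (T := T)).apply_symm_apply ξ)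
  refine (MorphismProperty.cancel_left_of_respectsIso (RepWith (S := S') P) ν.hom _).symm.trans ?_
  rw [key]
  exact ⟨fun h => repWith_of_repWith_secHom P F ξ (hF.representable_from_yon _) h,
    fun h => repWith_secHom P F (can g T) ξ h⟩

theorem repWith_jshriek_map_iff (g : S ⟶ S') (F : Sp S) (hF : IsAlgSpace F) {T : Over S}
    (f : (yon S).obj T ⟶ F) (P : MorphismProperty Scheme.{u}) [P.IsStableUnderBaseChange] :
    RepWith (S := S') P (((Over.map g).sheafPullback (Type (u + 1)) (J S) (J S')).map f) ↔
      RepWith P f := by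
  refine Iff.trans ?_ (repWith_shriekFunctor_map_iff g F hF f P)
  exact (RepWith (S := S') P).arrow_mk_iso_iff
    (Arrow.isoMk ((shriekIso g).app _).symm ((shriekIso g).app _).symm
      ((shriekIso g).inv.naturality f).symm)

end Groth.Agent.Lib.ShriekSp_helper7
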