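import Groth.Agent.Lib.ShriekSp4_helper7

/-!
# Extension by the empty set along `Over.map g`: descending algebraicity (helper7)

If `j_! F` is an algebraic space over `S'`, then `F` is an algebraic space over `S`.
-/

set_option autoImplicit false
universe u
open CategoryTheory CategoryTheory.Limits AlgebraicGeometry Opposite
open AlgSp Groth.Agent.Lib.AlgSpOpenSub_helper7 Groth.Agent.Lib.AlgSpPullback_helper7

namespace Groth.Agent.Lib.ShriekSp_helper7

variable {S S' : Scheme.{u}} {g : S ⟶ S'}

/-- A pullback square over `S'` of two sections of `j_! F` of the special form induces a pullback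
square over `S`. -/
theorem isPullback_of_isPullback_secHom (F : Sp S) {T V : Over S} (ξ : F.obj.obj (op T))
    (η : F.obj.obj (op V)) {W' : Over S'} (a₁ : W' ⟶ (Over.map g).obj T)
    (a₂ : W' ⟶ (Over.map g).obj V)
    (sq : IsPullback ((yon S').map a₁) ((yon S').map a₂)
      (secHom F (⟨can g T, ξ⟩ : Sec F g ((Over.map g).obj T)))
      (secHom F (⟨can g V, η⟩ : Sec F g ((Over.map g).obj V)))) :
    ∃ hc : a₂.left ≫ V.hom = a₁.left ≫ T.hom,
      IsPullback ((yon S).map (Over.homMk a₁.left rfl : Over.mk (a₁.left ≫ T.hom) ⟶ T))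
        ((yon S).map (Over.homMk a₂.left hc : Over.mk (a₁.left ≫ T.hom) ⟶ V))
        (yE.symm ξ) (yE.symm η) := by
  have hres : res F g a₁ (⟨can g T, ξ⟩ : Sec F g ((Over.map g).obj T)) =
      res F g a₂ (⟨can g V, η⟩ : Sec F g ((Over.map g).obj V)) := by
    have := sq.w
    rw [yE_symm_res, yE_symm_res] at this
    exact secHom_injective F this
  have h : a₁ ≫ can g T = a₂ ≫ can g V := congrArg Sigma.fst hres
  have hl : (a₁ ≫ can g T).left = (a₂ ≫ can g V).left := congrArg (fun k => k.left) h
  have hsnd := sec_snd_eq hres hl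
  have hc : a₂.left ≫ V.hom = a₁.left ≫ T.hom := hl.symm
  refine ⟨hc, ?_⟩
  have hw : F.obj.map (Over.homMk a₁.left rfl : Over.mk (a₁.left ≫ T.hom) ⟶ T).op ξ =
      F.obj.map (Over.homMk a₂.left hc : Over.mk (a₁.left ≫ T.hom) ⟶ V).op η := by
    refine Eq.trans ?_ (hsnd.symm.trans ?_)
    · exact rfl
    · unfold tr
      dsimp only [res]
      exact map_map_congr F _ _ _ (by simp) η
  have w : (yon S).map (Over.homMk a₁.left rfl : Over.mk (a₁.left ≫ T.hom) ⟶ T) ≫ yE.symm ξ =
      (yon S).map (Over.homMk a₂.left hc : Over.mk (a₁.left ≫ T.hom) ⟶ V) ≫ yE.symm η := by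
    rw [yE_symm_map, yE_symm_map, hw]
  refine isPullback_of_forall_yon w (fun Z p₁ p₂ hp => ?_)
  obtain ⟨d₁, rfl⟩ := (yon S).map_surjective p₁
  obtain ⟨d₂, rfl⟩ := (yon S).map_surjective p₂
  rw [yE_symm_map, yE_symm_map] at hp
  have hd : F.obj.map d₁.op ξ = F.obj.map d₂.op η := yE.symm.injective hp
  have hm : (yon S').map (liftArrow g (can g T) d₁) ≫
      secHom F (⟨can g T, ξ⟩ : Sec F g ((Over.map g).obj T)) =
      (yon S').map (liftArrow g (can g V) d₂) ≫
        secHom F (⟨can g V, η⟩ : Sec F g ((Over.map g).obj V)) := by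
    refine (yE_symm_res F _ _).trans (Eq.trans ?_ (yE_symm_res F _ _).symm)
    refine congrArg (fun s => secHom F s) ?_
    refine (res_liftArrow F (can g T) ξ d₁).trans
      (Eq.trans ?_ (res_liftArrow F (can g V) η d₂).symm)
    exact congrArg (fun z => (⟨can g Z, z⟩ : Sec F g ((Over.map g).obj Z))) hd
  obtain ⟨l', hl'⟩ := (yon S').map_surjective (sq.lift _ _ hm)
  have e1 : l' ≫ a₁ = liftArrow g (can g T) d₁ := by
    apply (yon S').map_injective
    rw [Functor.map_comp, hl', sq.lift_fst]
  have e2 : l' ≫ a₂ = liftArrow g (can g V) d₂ := by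
    apply (yon S').map_injective
    rw [Functor.map_comp, hl', sq.lift_snd]
  have e1l : l'.left ≫ a₁.left = d₁.left := by
    simpa using congrArg (fun k => k.left) e1
  have e2l : l'.left ≫ a₂.left = d₂.left := by
    simpa using congrArg (fun k => k.left) e2
  have hlw : l'.left ≫ (a₁.left ≫ T.hom) = Z.hom := by
    rw [← Category.assoc, e1l]
    exact Over.w d₁
  refine ⟨(yon S).map (Over.homMk l'.left hlw : Z ⟶ Over.mk (a₁.left ≫ T.hom)), ⟨?_, ?_⟩, ?_⟩
  · rw [← Functor.map_comp]
    congr 1
    exact Over.OverMorphism.ext (by simpa using e1l)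
  · rw [← Functor.map_comp]
    congr 1
    exact Over.OverMorphism.ext (by simpa using e2l)
  · rintro p ⟨hp1, hp2⟩
    obtain ⟨k, rfl⟩ := (yon S).map_surjective p
    rw [← Functor.map_comp] at hp1 hp2
    have f1 := (yon S).map_injective hp1
    have f2 := (yon S).map_injective hp2
    have f1l : k.left ≫ a₁.left = d₁.left := by
      simpa using congrArg (fun k => k.left) f1
    have f2l : k.left ≫ a₂.left = d₂.left := by
      simpa using congrArg (fun k => k.left) f2
    have hkw : k.left ≫ W'.hom = ((Over.map g).obj Z).hom := by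
      have h3 : a₁.left ≫ (T.hom ≫ g) = W'.hom := Over.w a₁
      have h4 : k.left ≫ (a₁.left ≫ T.hom) = Z.hom := Over.w k
      show k.left ≫ W'.hom = Z.hom ≫ g
      rw [← h3, ← h4]
      simp
    have hk' : (Over.homMk k.left hkw : (Over.map g).obj Z ⟶ W') = l' := by
      apply (yon S').map_injective
      apply sq.hom_ext
      · rw [← Functor.map_comp, ← Functor.map_comp, e1]
        congr 1
        exact Over.OverMorphism.ext (by simpa using f1l)
      · rw [← Functor.map_comp, ← Functor.map_comp, e2]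
        congr 1
        exact Over.OverMorphism.ext (by simpa using f2l)
    congr 1
    exact Over.OverMorphism.ext (by simpa using congrArg (fun k => k.left) hk')

theorem representable_of_representable_secHom (F : Sp S) {T : Over S} (ξ : F.obj.obj (op T))
    (h : Representable (S := S') (secHom F (⟨can g T, ξ⟩ : Sec F g ((Over.map g).obj T)))) :
    Representable (yE.symm ξ) := by
  intro V v
  obtain ⟨η, rfl⟩ := (yE (X := F) (T := V)).symm.surjective v
  obtain ⟨hc, sq⟩ := isPullback_of_isPullback_secHom F ξ η _ _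
    (h.isPullback' (secHom F (⟨can g V, η⟩ : Sec F g ((Over.map g).obj V))))
  exact ⟨_, _, _, sq⟩

/-- The inverse of `iot`. -/
def iotInv (g : S ⟶ S') {T' : Over S'} (φ : T' ⟶ Over.mk g) :
    (Over.map g).obj (Over.mk φ.left) ⟶ T' := liftArrow g φ (𝟙 _)

@[simp] theorem iotInv_left {T' : Over S'} (φ : T' ⟶ Over.mk g) : (iotInv g φ).left = 𝟙 _ := rfl

theorem iot_iotInv {T' : Over S'} (φ : T' ⟶ Over.mk g) : iot g φ ≫ iotInv g φ = 𝟙 T' :=
  Over.OverMorphism.ext (by simp)

theorem iotInv_iot {T' : Over S'} (φ : T' ⟶ Over.mk g) : iotInv g φ ≫ iot g φ = 𝟙 _ :=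
  Over.OverMorphism.ext (by simp)

instance iot_isIso {T' : Over S'} (φ : T' ⟶ Over.mk g) : IsIso (iot g φ) :=
  ⟨⟨iotInv g φ, iot_iotInv φ, iotInv_iot φ⟩⟩

theorem secHom_eq_map_iot (F : Sp S) {T' : Over S'} (φ : T' ⟶ Over.mk g)
    (ξ : F.obj.obj (op (Over.mk φ.left))) :
    secHom F (⟨φ, ξ⟩ : Sec F g T') = (yon S').map (iot g φ) ≫
      secHom F (⟨can g (Over.mk φ.left), ξ⟩ : Sec F g ((Over.map g).obj (Over.mk φ.left))) := by
  rw [yE_symm_res, res_iot_can]

/-- If `j_! F` is an algebraic space over `S'`, then `F` is an algebraic space over `S`. -/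
theorem isAlgSpace_of_isAlgSpace_shriek (F : Sp S) (h : IsAlgSpace (shriek F g)) :
    IsAlgSpace F where
  diag := Functor.relativelyRepresentable.diag_of_map_from_obj (fun T v => by
    obtain ⟨ξ, rfl⟩ := (yE (X := F) (T := T)).symm.surjective v
    exact representable_of_representable_secHom F ξ (h.representable_from_yon _))
  atlas := by
    obtain ⟨U', p', h1, h2⟩ := h.atlas
    obtain ⟨φ, ξ, rfl⟩ := exists_secHom F p'
    have hrep : Representable (yE.symm ξ) :=
      representable_of_representable_secHom F ξ (h.representable_from_yon _)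
    rw [secHom_eq_map_iot] at h1 h2
    refine ⟨Over.mk φ.left, yE.symm ξ, repWith_of_repWith_secHom (g := g) @Etale F ξ hrep ?_,
      repWith_of_repWith_secHom (g := g) @Surjective F ξ hrep ?_⟩
    · exact (MorphismProperty.cancel_left_of_respectsIso (RepWith (S := S') @Etale)
        ((yon S').map (iot g φ)) _).1 h1
    · exact (MorphismProperty.cancel_left_of_respectsIso (RepWith (S := S') @Surjective)
        ((yon S').map (iot g φ)) _).1 h2

end Groth.Agent.Lib.ShriekSp_helper7
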