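import Groth.Agent.Lib.ShriekSp5_helper7

/-!
# Extension by the empty set along `Over.map g`: the functor to the over category of `h_S` (helper7)
-/

set_option autoImplicit false
universe u
open CategoryTheory CategoryTheory.Limits AlgebraicGeometry Opposite
open AlgSp Groth.Agent.Lib.AlgSpOpenSub_helper7 Groth.Agent.Lib.AlgSpPullback_helper7

namespace Groth.Agent.Lib.ShriekSp_helper7

variable {S S' : Scheme.{u}} (g : S ⟶ S')

/-- The structure map `j_! F ⟶ h_S`. -/
def sigma (F : Sp S) : shriek F g ⟶ (yon S').obj (Over.mk g) :=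
  ObjectProperty.homMk
    { app := fun T' => ↾(fun s : Sec F g T'.unop =>
        (ULift.up s.1 : ((yon S').obj (Over.mk g)).obj.obj T'))
      naturality := fun T₁ T₂ m => by
        apply ConcreteCategory.hom_ext
        intro s
        rfl }

theorem sigma_app (F : Sp S) {T' : Over S'} (s : Sec F g T') :
    (sigma g F).hom.app (op T') s = ULift.up s.1 := rfl

theorem shriekFunctor_map_sigma {F F' : Sp S} (f : F ⟶ F') :
    (shriekFunctor g).map f ≫ sigma g F' = sigma g F := by
  apply ObjectProperty.hom_ext
  apply NatTrans.ext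
  funext T'
  apply ConcreteCategory.hom_ext
  intro s
  obtain ⟨φ, x⟩ := s
  exact congrArg (fun z => (sigma g F').hom.app T' z) (shriekFunctor_map_app g f φ x)

/-- The functor `F ↦ (j_! F ⟶ h_S)` from algebraic spaces over `S` to algebraic spaces over `S'`
over `h_S`. -/
noncomputable def theta : Space S ⥤ Over ((ofScheme S').obj (Over.mk g)) where
  obj F := Over.mk (Y := (⟨shriek F.obj g, isAlgSpace_shriek F.obj F.property⟩ : Space S'))
    (ObjectProperty.homMk (sigma g F.obj))
  map {F G} f := Over.homMk (ObjectProperty.homMk ((shriekFunctor g).map f.hom)) (by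
    apply ObjectProperty.hom_ext
    exact shriekFunctor_map_sigma g f.hom)
  map_id F := by
    apply Over.OverMorphism.ext
    apply ObjectProperty.hom_ext
    exact (shriekFunctor g).map_id F.obj
  map_comp f h := by
    apply Over.OverMorphism.ext
    apply ObjectProperty.hom_ext
    exact (shriekFunctor g).map_comp f.hom h.hom

theorem shriekFunctor_map_injective {F G : Sp S} {f f' : F ⟶ G}
    (h : (shriekFunctor g).map f = (shriekFunctor g).map f') : f = f' := by
  apply ObjectProperty.hom_ext
  apply NatTrans.ext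
  funext T
  apply ConcreteCategory.hom_ext
  intro x
  have h1 := congrArg (fun k => k.hom.app (op ((Over.map g).obj T.unop))
    (⟨can g T.unop, x⟩ : Sec F g ((Over.map g).obj T.unop))) h
  have h2 : (⟨can g T.unop, f.hom.app T x⟩ : Sec G g ((Over.map g).obj T.unop)) =
      ⟨can g T.unop, f'.hom.app T x⟩ :=
    (shriekFunctor_map_app g f (can g T.unop) x).symm.trans
      (h1.trans (shriekFunctor_map_app g f' (can g T.unop) x))
  exact sec_snd_eq' h2

instance theta_faithful : (theta g).Faithful where
  map_injective := fun {_ _} f f' h => by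
    apply ObjectProperty.hom_ext
    have h1 : (shriekFunctor g).map f.hom = (shriekFunctor g).map f'.hom :=
      congrArg (fun k => k.left.hom) h
    exact shriekFunctor_map_injective g h1

variable {g}

theorem exists_snd_of_fst_eq {G : Sp S} {T' : Over S'} (t : Sec G g T') (φ : T' ⟶ Over.mk g)
    (h : t.1 = φ) : ∃ y : G.obj.obj (op (Over.mk φ.left)), t = ⟨φ, y⟩ := by
  obtain ⟨ψ, y⟩ := t
  obtain rfl : ψ = φ := h
  exact ⟨y, rfl⟩

variable (g)

theorem exists_shriekFunctor_map_eq {F G : Sp S} (a : shriek F g ⟶ shriek G g)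
    (ha : a ≫ sigma g G = sigma g F) : ∃ b : F ⟶ G, (shriekFunctor g).map b = a := by
  have hfst : ∀ {T' : Over S'} (s : Sec F g T'), (a.hom.app (op T') s).1 = s.1 := by
    intro T' s
    have := congrArg (fun k => k.hom.app (op T') s) ha
    exact congrArg ULift.down this
  have hnat : ∀ {T' Z' : Over S'} (m : Z' ⟶ T') (s : Sec F g T'),
      a.hom.app (op Z') (res F g m s) = res G g m (a.hom.app (op T') s) := by
    intro T' Z' m s
    exact FunctorToTypes.naturality a.hom m.op s
  have key : ∀ (T : Over S) (x : F.obj.obj (op T)), ∃ y : G.obj.obj (op T),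
      a.hom.app (op ((Over.map g).obj T)) (⟨can g T, x⟩ : Sec F g ((Over.map g).obj T)) =
        (⟨can g T, y⟩ : Sec G g ((Over.map g).obj T)) := by
    intro T x
    exact exists_snd_of_fst_eq _ (can g T)
      (hfst (⟨can g T, x⟩ : Sec F g ((Over.map g).obj T)))
  choose β hβ using key
  have hβnat : ∀ {T₁ T₂ : Over S} (m : T₂ ⟶ T₁) (x : F.obj.obj (op T₁)),
      β T₂ (F.obj.map m.op x) = G.obj.map m.op (β T₁ x) := by
    intro T₁ T₂ m x
    apply sec_snd_eq' (g := g) (φ := can g T₂)
    refine (hβ T₂ _).symm.trans ?_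
    refine (congrArg (fun s => a.hom.app (op ((Over.map g).obj T₂)) s)
      (res_liftArrow F (can g T₁) x m).symm).trans ?_
    refine (hnat (liftArrow g (can g T₁) m)
      (⟨can g T₁, x⟩ : Sec F g ((Over.map g).obj T₁))).trans ?_
    refine (congrArg (res G g (liftArrow g (can g T₁) m)) (hβ T₁ x)).trans ?_
    exact res_liftArrow G (can g T₁) (β T₁ x) m
  let b : F ⟶ G := ObjectProperty.homMk
    { app := fun T => ↾(β T.unop)
      naturality := fun T₁ T₂ m => by
        apply ConcreteCategory.hom_ext
        intro x
        exact hβnat m.unop x }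
  refine ⟨b, ?_⟩
  apply ObjectProperty.hom_ext
  apply NatTrans.ext
  funext T'
  apply ConcreteCategory.hom_ext
  intro s
  obtain ⟨φ, x⟩ := s
  refine (shriekFunctor_map_app g b φ x).trans ?_
  refine (res_iot_can G φ (β (Over.mk φ.left) x)).symm.trans ?_
  refine (congrArg (res G g (iot g φ)) (hβ (Over.mk φ.left) x).symm).trans ?_
  refine (hnat (iot g φ) (⟨can g (Over.mk φ.left), x⟩ :
    Sec F g ((Over.map g).obj (Over.mk φ.left)))).symm.trans ?_
  exact congrArg (fun s => a.hom.app T' s) (res_iot_can F φ x)

instance theta_full : (theta g).Full where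
  map_surjective := fun {F G} α => by
    have hw : α.left ≫ ((theta g).obj G).hom = ((theta g).obj F).hom := Over.w α
    have ha : α.left.hom ≫ sigma g G.obj = sigma g F.obj :=
      congrArg (fun k => InducedCategory.Hom.hom k) hw
    obtain ⟨b, hb⟩ := exists_shriekFunctor_map_eq g α.left.hom ha
    refine ⟨ObjectProperty.homMk b, ?_⟩
    apply Over.OverMorphism.ext
    apply ObjectProperty.hom_ext
    exact hb

end Groth.Agent.Lib.ShriekSp_helper7
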