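import Groth.Agent.Lib.ShriekSp6_helper7

/-!
# Extension by the empty set along `Over.map g`: the equivalence with spaces over `h_S` (helper7)
-/

set_option autoImplicit false
universe u
open CategoryTheory CategoryTheory.Limits AlgebraicGeometry Opposite
open AlgSp Groth.Agent.Lib.AlgSpOpenSub_helper7 Groth.Agent.Lib.AlgSpPullback_helper7

namespace Groth.Agent.Lib.ShriekSp_helper7

variable {S S' : Scheme.{u}} (g : S ⟶ S')

theorem map_can {T₁ T₂ : Over S} (m : T₂ ⟶ T₁) : (Over.map g).map m ≫ can g T₁ = can g T₂ :=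
  Over.OverMorphism.ext (by simpa using Over.w m)

variable {g} in
theorem iot_can {T' : Over S'} (φ : T' ⟶ Over.mk g) :
    iot g φ ≫ can g (Over.mk φ.left) = φ :=
  Over.OverMorphism.ext (by simp)

variable {g} in
theorem iotInv_comp {T' : Over S'} (φ : T' ⟶ Over.mk g) :
    iotInv g φ ≫ φ = can g (Over.mk φ.left) :=
  Over.OverMorphism.ext (by simp)

theorem isIso_of_bijective_app {P Q : Sp S'} (k : P ⟶ Q)
    (h : ∀ T, Function.Bijective (fun x => k.hom.app T x)) : IsIso k := by
  have : IsIso ((sheafToPresheaf _ _).map k) := by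
    rw [NatTrans.isIso_iff_isIso_app]
    intro T
    rw [isIso_iff_bijective]
    exact h T
  exact isIso_of_reflects_iso k (sheafToPresheaf _ _)

section Fib

variable (G' : Sp S') (τ : G' ⟶ (yon S').obj (Over.mk g))

/-- The fibre of `τ` over the tautological section, a subfunctor of the restriction of `G'`. -/
def fibSub : Subfunctor ((pb g).obj G').obj where
  obj T := {y | τ.hom.app (op ((Over.map g).obj T.unop)) y = ULift.up (can g T.unop)}
  map := by
    intro T₁ T₂ m y hy
    show τ.hom.app (op ((Over.map g).obj T₂.unop))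
      (G'.obj.map ((Over.map g).map m.unop).op y) = ULift.up (can g T₂.unop)
    have hn := FunctorToTypes.naturality τ.hom ((Over.map g).map m.unop).op y
    have hy' : τ.hom.app (op ((Over.map g).obj T₁.unop)) y = ULift.up (can g T₁.unop) := hy
    refine hn.trans ((congrArg (fun z => ((yon S').obj (Over.mk g)).obj.map
      ((Over.map g).map m.unop).op z) hy').trans ?_)
    exact congrArg ULift.up (map_can g m.unop)

theorem fibSub_isSheaf : Presheaf.IsSheaf (J S) (fibSub g G' τ).toFunctor := by
  rw [isSheaf_iff_isSheaf_of_type]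
  have hX : Presieve.IsSheaf (J S) ((pb g).obj G').obj :=
    (isSheaf_iff_isSheaf_of_type _ _).1 ((pb g).obj G').property
  rw [Subfunctor.isSheaf_iff _ hX]
  intro T x hx
  show τ.hom.app (op ((Over.map g).obj T.unop)) x = ULift.up (can g T.unop)
  apply ULift.ext
  refine hom_ext_of_sieve
    (sieveOver (S := S') (S' := S) ((fibSub g G' τ).sieveOfSection x) (T.unop.hom ≫ g))
    (sieveOver_mem _ hx _) _ _ (fun Y' f hf => ?_)
  have hk := (sieveOver_iff _ _ f).1 hf
  have hk' : τ.hom.app (op ((Over.map g).obj (Over.mk (f.left ≫ T.unop.hom))))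
      (G'.obj.map ((Over.map g).map (ko T.unop f)).op x) =
      ULift.up (can g (Over.mk (f.left ≫ T.unop.hom))) := hk
  have hn := FunctorToTypes.naturality τ.hom ((Over.map g).map (ko T.unop f)).op x
  have hk'' := hn.symm.trans hk'
  have h3 : ((Over.map g).map (ko T.unop f) ≫
      (τ.hom.app (op ((Over.map g).obj T.unop)) x).down).left =
      (can g (Over.mk (f.left ≫ T.unop.hom))).left := congrArg (fun z => z.down.left) hk''
  apply Over.OverMorphism.ext
  simpa using h3

/-- The fibre sheaf. -/
def fib : Sp S := ⟨(fibSub g G' τ).toFunctor, fibSub_isSheaf g G' τ⟩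

/-- The inclusion of the fibre sheaf into the restriction of `G'`. -/
def fibι : fib g G' τ ⟶ (pb g).obj G' := ObjectProperty.homMk (fibSub g G' τ).ι

/-- Constructor for sections of the fibre sheaf. -/
def fibMk {T : Over S} (z : G'.obj.obj (op ((Over.map g).obj T)))
    (hz : τ.hom.app (op ((Over.map g).obj T)) z = ULift.up (can g T)) :
    (fib g G' τ).obj.obj (op T) :=
  (⟨z, hz⟩ : {y // y ∈ (fibSub g G' τ).obj (op T)})

/-- The comparison `j_! (fibre) ⟶ G'`. -/
def fibComp : shriek (fib g G' τ) g ⟶ G' := (homEquiv g (fib g G' τ) G').symm (fibι g G' τ)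

theorem fibComp_app {T' : Over S'} (φ : T' ⟶ Over.mk g)
    (y : (fib g G' τ).obj.obj (op (Over.mk φ.left))) :
    (fibComp g G' τ).hom.app (op T') (⟨φ, y⟩ : Sec (fib g G' τ) g T') =
      G'.obj.map (iot g φ).op y.1 := rfl

theorem fibComp_tau : fibComp g G' τ ≫ τ = sigma g (fib g G' τ) := by
  apply ObjectProperty.hom_ext
  apply NatTrans.ext
  funext T'
  apply ConcreteCategory.hom_ext
  intro s
  obtain ⟨φ, y⟩ := s
  show τ.hom.app T' (G'.obj.map (iot g φ).op y.1) = ULift.up φ
  have hn := FunctorToTypes.naturality τ.hom (iot g φ).op y.1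
  have hy : τ.hom.app (op ((Over.map g).obj (Over.mk φ.left))) y.1 =
      ULift.up (can g (Over.mk φ.left)) := y.2
  refine hn.trans ((congrArg (fun z => ((yon S').obj (Over.mk g)).obj.map
    (iot g φ).op z) hy).trans ?_)
  exact congrArg ULift.up (iot_can φ)

theorem map_iot_injective {T' : Over S'} (φ : T' ⟶ Over.mk g) :
    Function.Injective (fun y => G'.obj.map (iot g φ).op y) := by
  intro y₁ y₂ h
  have e : ∀ y, G'.obj.map (iotInv g φ).op (G'.obj.map (iot g φ).op y) = y := by
    intro y
    rw [map_map, iotInv_iot]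
    exact Functor.map_id_apply G'.obj _ y
  have := congrArg (fun y => G'.obj.map (iotInv g φ).op y) h
  simp only [e] at this
  exact this

theorem fibComp_bijective (T' : (Over S')ᵒᵖ) :
    Function.Bijective (fun s => (fibComp g G' τ).hom.app T' s) := by
  have hσ : ∀ s : Sec (fib g G' τ) g T'.unop,
      τ.hom.app T' ((fibComp g G' τ).hom.app T' s) = ULift.up s.1 := fun s =>
    congrArg (fun k => k.hom.app T' s) (fibComp_tau g G' τ)
  constructor
  · intro s₁ s₂ h
    obtain ⟨φ₁, y₁⟩ := s₁
    obtain ⟨φ₂, y₂⟩ := s₂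
    have hφ : φ₁ = φ₂ := by
      have := (hσ ⟨φ₁, y₁⟩).symm.trans
        ((congrArg (fun z => τ.hom.app T' z) h).trans (hσ ⟨φ₂, y₂⟩))
      exact congrArg ULift.down this
    subst hφ
    have h' : G'.obj.map (iot g φ₁).op y₁.1 = G'.obj.map (iot g φ₁).op y₂.1 := h
    have hinj : y₁.1 = y₂.1 := map_iot_injective g G' φ₁ h'
    have hy : y₁ = y₂ := Subtype.ext hinj
    rw [hy]
  · intro z
    let ψ : T'.unop ⟶ Over.mk g := (τ.hom.app T' z).down
    have hy₀ : τ.hom.app (op ((Over.map g).obj (Over.mk ψ.left)))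
        (G'.obj.map (iotInv g ψ).op z) = ULift.up (can g (Over.mk ψ.left)) := by
      refine (FunctorToTypes.naturality τ.hom (iotInv g ψ).op z).trans ?_
      exact congrArg ULift.up (iotInv_comp ψ)
    refine ⟨(⟨ψ, fibMk g G' τ _ hy₀⟩ : Sec (fib g G' τ) g T'.unop), ?_⟩
    show G'.obj.map (iot g ψ).op (G'.obj.map (iotInv g ψ).op z) = z
    rw [map_map, iot_iotInv]
    exact Functor.map_id_apply G'.obj _ z

theorem isIso_fibComp : IsIso (fibComp g G' τ) :=
  isIso_of_bijective_app _ (fibComp_bijective g G' τ)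

end Fib

instance theta_essSurj : (theta g).EssSurj where
  mem_essImage Y := by
    haveI := isIso_fibComp g Y.left.obj Y.hom.hom
    let e : shriek (fib g Y.left.obj Y.hom.hom) g ≅ Y.left.obj :=
      asIso (fibComp g Y.left.obj Y.hom.hom)
    have hF : IsAlgSpace (fib g Y.left.obj Y.hom.hom) :=
      isAlgSpace_of_isAlgSpace_shriek (g := g) _ (Y.left.property.of_iso e.symm)
    refine ⟨⟨fib g Y.left.obj Y.hom.hom, hF⟩, ⟨Over.isoMk (ObjectProperty.isoMk _ e) ?_⟩⟩
    apply ObjectProperty.hom_ext
    exact fibComp_tau g Y.left.obj Y.hom.hom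

instance theta_isEquivalence : (theta g).IsEquivalence where

/-- Algebraic spaces over `S` are equivalent to algebraic spaces over `S'` with a map to `h_S`,
compatibly with `j_!`. -/
theorem exists_equivalence_space_over :
    ∃ E : Space S ≌ Over ((ofScheme S').obj (Over.mk g)),
      Nonempty (E.functor ⋙ Over.forget _ ⋙ ObjectProperty.ι (IsAlgSpace (S := S')) ≅
        ObjectProperty.ι (IsAlgSpace (S := S)) ⋙
          ((Over.map g).sheafPullback (Type (u + 1)) (J S) (J S'))) := by
  refine ⟨(theta g).asEquivalence,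
    ⟨NatIso.ofComponents (fun F => (shriekIso g).app F.obj) (fun {F G} f => ?_)⟩⟩
  exact (shriekIso g).hom.naturality f.hom

end Groth.Agent.Lib.ShriekSp_helper7
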