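import Mathlib

set_option autoImplicit false
set_option linter.style.haveILetI false
set_option linter.unusedSectionVars false

universe w v u v₁ u₁

namespace Groth.Agent.Lib.ShriekUnitH4

open CategoryTheory CategoryTheory.Limits Opposite

variable {C : Type u} [Category.{v} C] (J : GrothendieckTopology C) (U : C)

lemma forget_full (hU : ∀ V : C, Subsingleton (V ⟶ U)) : (Over.forget U).Full where
  map_surjective {X Y} f :=
    ⟨Over.homMk f (@Subsingleton.elim _ (hU _) _ _), rfl⟩

variable (A : Type u₁) [Category.{v₁} A]

theorem unit_isIso (hU : ∀ V : C, Subsingleton (V ⟶ U))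
    [((Over.forget U).sheafPushforwardContinuous A (J.over U) J).IsRightAdjoint]
    [∀ (F : (Over U)ᵒᵖ ⥤ A), (Over.forget U).op.HasPointwiseRightKanExtension F] :
    IsIso ((Over.forget U).sheafAdjunctionContinuous A (J.over U) J).unit := by
  haveI := forget_full U hU
  let t : Adjunction.Triple ((Over.forget U).sheafPullback A (J.over U) J)
      ((Over.forget U).sheafPushforwardContinuous A (J.over U) J)
      ((Over.forget U).sheafPushforwardCocontinuous A (J.over U) J) :=
    ⟨(Over.forget U).sheafAdjunctionContinuous A (J.over U) J,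
     (Over.forget U).sheafAdjunctionCocontinuous A (J.over U) J⟩
  have h : IsIso t.adj₂.counit := by
    haveI : ∀ F, IsIso (t.adj₂.counit.app F) := by
      intro F
      haveI : IsIso ((sheafToPresheaf _ _).map (t.adj₂.counit.app F)) := by
        have e : (sheafToPresheaf _ _).map (t.adj₂.counit.app F) =
            ((Over.forget U).op.ranAdjunction A).counit.app F.obj :=
          (Over.forget U).sheafAdjunctionCocontinuous_counit_app_hom A (J.over U) J F
        rw [e]
        haveI h1 : (Over.forget U).op.Full := inferInstance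
        haveI h2 : (Over.forget U).op.Faithful := inferInstance
        haveI h3 : (Over.forget U).op.HasRightKanExtension F.obj := inferInstance
        haveI h4 : IsIso ((Over.forget U).op.ranCounit.app F.obj) := inferInstance
        rw [Functor.ranAdjunction_counit]
        exact h4
      exact isIso_of_fully_faithful (sheafToPresheaf _ _) _
    exact NatIso.isIso_of_isIso_app _
  exact t.isIso_unit_iff_isIso_counit.mpr h

theorem main14026 (hU : ∀ V : C, Subsingleton (V ⟶ U))
    [HasWeakSheafify J (Type (max u v))]
    [∀ (P : (Over U)ᵒᵖ ⥤ (Type (max u v))), (Over.forget U).op.HasLeftKanExtension P]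
    (F : Sheaf (J.over U) (Type (max u v))) :
    IsIso (((Over.forget U).sheafAdjunctionContinuous (Type (max u v)) (J.over U) J).unit.app F) := by
  haveI := unit_isIso J U (Type (max u v)) hU
  infer_instance

theorem main14027 (hU : ∀ V : C, Subsingleton (V ⟶ U))
    [HasWeakSheafify J AddCommGrpCat.{max u v}]
    [∀ (P : (Over U)ᵒᵖ ⥤ AddCommGrpCat.{max u v}), (Over.forget U).op.HasLeftKanExtension P]
    (F : Sheaf (J.over U) AddCommGrpCat.{max u v}) :
    IsIso (((Over.forget U).sheafAdjunctionContinuous AddCommGrpCat.{max u v}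
      (J.over U) J).unit.app F) := by
  haveI := unit_isIso J U AddCommGrpCat.{max u v} hU
  infer_instance

theorem main14029 (hU : ∀ W : C, Subsingleton (W ⟶ U))
    [HasWeakSheafify J (Type (max u v))]
    [∀ (P : (Over U)ᵒᵖ ⥤ Type (max u v)), (Over.forget U).op.HasLeftKanExtension P]
    (V : C) (hV : ∀ (A B : Sheaf J (Type (max u v))) (ψ : A ⟶ B), Epi ψ →
      Function.Surjective (ψ.hom.app (op V))) (a : V ⟶ U) :
    ∀ (A B : Sheaf (J.over U) (Type (max u v))) (ψ : A ⟶ B), Epi ψ →
      Function.Surjective (ψ.hom.app (op (Over.mk a))) := by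
  intro A B ψ hψ b
  haveI := unit_isIso J U (Type (max u v)) hU
  let adj := (Over.forget U).sheafAdjunctionContinuous (Type (max u v)) (J.over U) J
  let L := (Over.forget U).sheafPullback (Type (max u v)) (J.over U) J
  haveI : L.PreservesEpimorphisms := Functor.preservesEpimorphisms_of_adjunction adj
  haveI : Epi (L.map ψ) := inferInstance
  have hbij : ∀ F : Sheaf (J.over U) (Type (max u v)),
      Function.Bijective ((adj.unit.app F).hom.app (op (Over.mk a))) := by
    intro F
    rw [← isIso_iff_bijective]
    haveI : IsIso ((sheafToPresheaf _ _).map (adj.unit.app F)) := inferInstance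
    exact (inferInstance :
      IsIso (((sheafToPresheaf _ _).map (adj.unit.app F)).app (op (Over.mk a))))
  obtain ⟨a', ha'⟩ := hV _ _ (L.map ψ) inferInstance
    ((adj.unit.app B).hom.app (op (Over.mk a)) b)
  obtain ⟨a'', rfl⟩ := (hbij A).2 a'
  refine ⟨a'', (hbij B).1 ?_⟩
  have key : (adj.unit.app B).hom.app (op (Over.mk a)) (ψ.hom.app (op (Over.mk a)) a'') =
      (L.map ψ).hom.app (op V) ((adj.unit.app A).hom.app (op (Over.mk a)) a'') := by
    have := congrArg (fun f => f.hom.app (op (Over.mk a))) (adj.unit.naturality ψ)
    exact ConcreteCategory.congr_hom this a''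
  exact key.trans ha'

end Groth.Agent.Lib.ShriekUnitH4
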