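import Mathlib
import Groth.Prelude.Def_W4c2movlemaddchowShuffle

namespace Groth.Agent.Lib.Shuffle_lead
open Equiv W4c2movlemaddchow

lemma extRight_castAdd (a t : ℕ) (σ : Perm (Fin a)) (i : Fin a) :
    extRight a t σ (Fin.castAdd t i) = Fin.castAdd t (σ i) := by
  simp [extRight, Equiv.permCongr_apply]

lemma extRight_natAdd (a t : ℕ) (σ : Perm (Fin a)) (l : Fin t) :
    extRight a t σ (Fin.natAdd a l) = Fin.natAdd a l := by
  simp [extRight, Equiv.permCongr_apply]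

/-- the embedding of the last `s + t` positions -/
def emb₂ (r s t : ℕ) (x : Fin (s + t)) : Fin (r + s + t) :=
  (finCongr (Nat.add_assoc r s t)).symm (Fin.natAdd r x)

lemma emb₂_val (r s t : ℕ) (x : Fin (s + t)) : ((emb₂ r s t x : Fin (r + s + t)) : ℕ) = r + x := by
  simp [emb₂]

lemma emb₂_injective (r s t : ℕ) : Function.Injective (emb₂ r s t) := by
  intro x y h
  have := congrArg Fin.val h
  rw [emb₂_val, emb₂_val] at this
  exact Fin.ext (by omega)

lemma extLeft_emb₂ (r s t : ℕ) (σ : Perm (Fin (s + t))) (x : Fin (s + t)) :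
    extLeft r s t σ (emb₂ r s t x) = emb₂ r s t (σ x) := by
  unfold extLeft emb₂
  rw [Equiv.permCongr_apply, Equiv.symm_symm, Equiv.apply_symm_apply, Equiv.permCongr_apply]
  simp

lemma emb₁_eq (r s t : ℕ) (i : Fin r) :
    Fin.castAdd t (Fin.castAdd s i) =
      (finCongr (Nat.add_assoc r s t)).symm (Fin.castAdd (s + t) i) := by
  ext; simp

lemma extLeft_emb₁ (r s t : ℕ) (σ : Perm (Fin (s + t))) (i : Fin r) :
    extLeft r s t σ (Fin.castAdd t (Fin.castAdd s i)) = Fin.castAdd t (Fin.castAdd s i) := by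
  rw [emb₁_eq]
  unfold extLeft
  rw [Equiv.permCongr_apply, Equiv.symm_symm, Equiv.apply_symm_apply, Equiv.permCongr_apply]
  simp

lemma pos₂_eq (r s t : ℕ) (j : Fin s) :
    Fin.castAdd t (Fin.natAdd r j) = emb₂ r s t (Fin.castAdd t j) := by
  ext; simp [emb₂]

lemma pos₃_eq (r s t : ℕ) (l : Fin t) :
    Fin.natAdd (r + s) l = emb₂ r s t (Fin.natAdd s l) := by
  ext; simp [emb₂, add_assoc]

lemma mono_congr {k N N' : ℕ} (f : Fin k → Fin N) (g : Fin k → Fin N')
    (h : ∀ x, (f x : ℕ) = (g x : ℕ)) : Monotone f ↔ Monotone g := by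
  constructor
  · intro hm a b hab
    have := hm hab
    rw [Fin.le_def] at this ⊢
    rw [← h a, ← h b]; exact this
  · intro hm a b hab
    have := hm hab
    rw [Fin.le_def] at this ⊢
    rw [h a, h b]; exact this

lemma shuffle_iff (r s t : ℕ) (τ : Perm (Fin (r + s + t))) :
    IsShuffle₂ r (s + t) ((finCongr (Nat.add_assoc r s t)).permCongr τ) ↔
      Monotone (fun i : Fin r => τ (Fin.castAdd t (Fin.castAdd s i))) ∧
        Monotone (fun x : Fin (s + t) => τ (emb₂ r s t x)) := by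
  unfold IsShuffle₂
  refine and_congr (mono_congr _ _ (fun i => ?_)) (mono_congr _ _ (fun x => ?_))
  · rw [Equiv.permCongr_apply, ← emb₁_eq]
    simp
  · rw [Equiv.permCongr_apply]
    simp [emb₂]

section core
variable {m N : ℕ} (emb : Fin m → Fin N) (ext : Perm (Fin m) → Perm (Fin N))
  (hext : ∀ σ x, ext σ (emb x) = emb (σ x))

include hext in
lemma inj_core {τ τ' : Perm (Fin N)} {σ σ' : Perm (Fin m)}
    (hτ : Monotone (fun x => τ (emb x))) (hτ' : Monotone (fun x => τ' (emb x)))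
    (hemb : Function.Injective emb)
    (h : τ * ext σ = τ' * ext σ') : τ = τ' ∧ σ = σ' := by
  have hg : StrictMono (fun x => τ (emb x)) :=
    hτ.strictMono_of_injective (τ.injective.comp hemb)
  have hg' : StrictMono (fun x => τ' (emb x)) :=
    hτ'.strictMono_of_injective (τ'.injective.comp hemb)
  have key : ∀ x, τ (emb (σ x)) = τ' (emb (σ' x)) := by
    intro x
    have := congrArg (fun p : Perm (Fin N) => p (emb x)) h
    simpa [Equiv.Perm.mul_apply, hext] using this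
  have hrange : Set.range (fun x => τ (emb x)) = Set.range (fun x => τ' (emb x)) := by
    ext y
    constructor
    · rintro ⟨x, rfl⟩
      refine ⟨σ' (σ.symm x), ?_⟩
      have := key (σ.symm x)
      simp only [Equiv.apply_symm_apply] at this
      exact this.symm
    · rintro ⟨x, rfl⟩
      refine ⟨σ (σ'.symm x), ?_⟩
      have := key (σ'.symm x)
      simp only [Equiv.apply_symm_apply] at this
      exact this
  have hgg : (fun x => τ (emb x)) = (fun x => τ' (emb x)) :=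
    (StrictMono.range_inj hg hg').mp hrange
  have hσ : σ = σ' := by
    refine Equiv.ext (fun x => ?_)
    have h1 := key x
    have h2 : τ (emb (σ x)) = τ' (emb (σ x)) := congrFun hgg (σ x)
    rw [h2] at h1
    exact hemb (τ'.injective h1)
  subst hσ
  exact ⟨mul_right_cancel h, rfl⟩

include hext in
lemma surj_core (hemb : Function.Injective emb) (ν : Perm (Fin N)) :
    ∃ (τ : Perm (Fin N)) (σ : Perm (Fin m)), τ * ext σ = ν ∧
      Monotone (fun x => τ (emb x)) ∧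
      (∀ y, ext σ y = y → τ y = ν y) ∧
      (∀ (k : ℕ) (c : Fin k → Fin m), Monotone (fun i => ν (emb (c i))) →
        Monotone (fun i => σ (c i))) := by
  obtain ⟨f, hf⟩ : ∃ f : Fin m → Fin N, f = fun x => ν (emb x) := ⟨_, rfl⟩
  have hfinj : Function.Injective f := by
    rw [hf]; exact ν.injective.comp hemb
  have hmono : Monotone (f ∘ Tuple.sort f) := Tuple.monotone_sort f
  have hstrict : StrictMono (f ∘ Tuple.sort f) :=
    hmono.strictMono_of_injective (hfinj.comp (Tuple.sort f).injective)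
  refine ⟨ν * (ext (Tuple.sort f)⁻¹)⁻¹, (Tuple.sort f)⁻¹, inv_mul_cancel_right _ _, ?_, ?_, ?_⟩
  · have : ∀ x, (ν * (ext (Tuple.sort f)⁻¹)⁻¹) (emb x) = (f ∘ Tuple.sort f) x := by
      intro x
      have h1 : (ext (Tuple.sort f)⁻¹)⁻¹ (emb x) = emb (Tuple.sort f x) := by
        rw [Equiv.Perm.inv_eq_iff_eq, hext]
        simp
      rw [Equiv.Perm.mul_apply, h1, hf]
      rfl
    intro a b hab
    simp only [this]
    exact hmono hab
  · intro y hy
    have : (ext (Tuple.sort f)⁻¹)⁻¹ y = y := by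
      rw [Equiv.Perm.inv_eq_iff_eq, hy]
    rw [Equiv.Perm.mul_apply, this]
  · intro k c hc a b hab
    have h0 : f (c a) ≤ f (c b) := by
      rw [hf]; exact hc hab
    have e : ∀ x, f x = (f ∘ Tuple.sort f) ((Tuple.sort f)⁻¹ x) := by
      intro x; simp
    rw [e (c a), e (c b)] at h0
    exact hstrict.le_iff_le.mp h0

end core

theorem bij80 (r s t : ℕ) :
    Set.BijOn
      (fun p : Equiv.Perm (Fin (r + s + t)) × Equiv.Perm (Fin (r + s)) =>
        p.1 * W4c2movlemaddchow.extRight (r + s) t p.2)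
      ({τ | W4c2movlemaddchow.IsShuffle₂ (r + s) t τ} ×ˢ {σ | W4c2movlemaddchow.IsShuffle₂ r s σ})
      {ν | W4c2movlemaddchow.IsShuffle₃ r s t ν} := by
  refine ⟨?_, ?_, ?_⟩
  · rintro ⟨τ, σ⟩ ⟨hτ, hσ⟩
    obtain ⟨hτ1, hτ2⟩ := hτ
    obtain ⟨hσ1, hσ2⟩ := hσ
    show IsShuffle₃ r s t (τ * extRight (r + s) t σ)
    refine ⟨fun a b hab => ?_, fun a b hab => ?_, fun a b hab => ?_⟩
    · simp only [Equiv.Perm.mul_apply, extRight_castAdd]
      exact hτ1 (hσ1 hab)
    · simp only [Equiv.Perm.mul_apply, extRight_castAdd]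
      exact hτ1 (hσ2 hab)
    · simp only [Equiv.Perm.mul_apply, extRight_natAdd]
      exact hτ2 hab
  · rintro ⟨τ, σ⟩ ⟨hτ, hσ⟩ ⟨τ', σ'⟩ ⟨hτ', hσ'⟩ h
    have h' : τ * extRight (r + s) t σ = τ' * extRight (r + s) t σ' := h
    obtain ⟨h1, h2⟩ := inj_core (Fin.castAdd t) (extRight (r + s) t)
      (extRight_castAdd _ _) hτ.1 hτ'.1 (Fin.castAdd_injective _ _) h'
    exact Prod.ext h1 h2
  · intro ν hν
    obtain ⟨hν1, hν2, hν3⟩ := hν
    obtain ⟨τ, σ, hmul, hτmono, hfix, hσ⟩ := surj_core (Fin.castAdd t) (extRight (r + s) t)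
      (extRight_castAdd _ _) (Fin.castAdd_injective _ _) ν
    refine ⟨(τ, σ), ⟨⟨hτmono, ?_⟩, ⟨hσ r (Fin.castAdd s) hν1, hσ s (Fin.natAdd r) hν2⟩⟩, hmul⟩
    intro a b hab
    simp only [hfix _ (extRight_natAdd _ _ _ _)]
    exact hν3 hab

theorem bij81 (r s t : ℕ) :
    Set.BijOn
      (fun p : Equiv.Perm (Fin (r + s + t)) × Equiv.Perm (Fin (s + t)) =>
        p.1 * W4c2movlemaddchow.extLeft r s t p.2)
      ({τ | W4c2movlemaddchow.IsShuffle₂ r (s + t) ((finCongr (Nat.add_assoc r s t)).permCongr τ)} ×ˢ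
        {σ | W4c2movlemaddchow.IsShuffle₂ s t σ})
      {ν | W4c2movlemaddchow.IsShuffle₃ r s t ν} := by
  refine ⟨?_, ?_, ?_⟩
  · rintro ⟨τ, σ⟩ ⟨hτ, hσ⟩
    obtain ⟨hτ1, hτ2⟩ := (shuffle_iff r s t τ).mp hτ
    obtain ⟨hσ1, hσ2⟩ := hσ
    show IsShuffle₃ r s t (τ * extLeft r s t σ)
    refine ⟨fun a b hab => ?_, fun a b hab => ?_, fun a b hab => ?_⟩
    · simp only [Equiv.Perm.mul_apply, extLeft_emb₁]
      exact hτ1 hab
    · simp only [Equiv.Perm.mul_apply, pos₂_eq, extLeft_emb₂]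
      exact hτ2 (hσ1 hab)
    · simp only [Equiv.Perm.mul_apply, pos₃_eq, extLeft_emb₂]
      exact hτ2 (hσ2 hab)
  · rintro ⟨τ, σ⟩ ⟨hτ, hσ⟩ ⟨τ', σ'⟩ ⟨hτ', hσ'⟩ h
    have h' : τ * extLeft r s t σ = τ' * extLeft r s t σ' := h
    obtain ⟨h1, h2⟩ := inj_core (emb₂ r s t) (extLeft r s t)
      (extLeft_emb₂ r s t) ((shuffle_iff r s t τ).mp hτ).2 ((shuffle_iff r s t τ').mp hτ').2
      (emb₂_injective r s t) h'
    exact Prod.ext h1 h2
  · intro ν hν
    obtain ⟨hν1, hν2, hν3⟩ := hν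
    obtain ⟨τ, σ, hmul, hτmono, hfix, hσ⟩ := surj_core (emb₂ r s t) (extLeft r s t)
      (extLeft_emb₂ r s t) (emb₂_injective r s t) ν
    refine ⟨(τ, σ), ⟨(shuffle_iff r s t τ).mpr ⟨?_, hτmono⟩,
      ⟨hσ s (Fin.castAdd t) ?_, hσ t (Fin.natAdd s) ?_⟩⟩, hmul⟩
    · intro a b hab
      simp only [hfix _ (extLeft_emb₁ _ _ _ _ _)]
      exact hν1 hab
    · intro a b hab
      simp only [← pos₂_eq]
      exact hν2 hab
    · intro a b hab
      simp only [← pos₃_eq]
      exact hν3 hab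

lemma sign_extRight (a t : ℕ) (σ : Perm (Fin a)) :
    Equiv.Perm.sign (extRight a t σ) = Equiv.Perm.sign σ := by
  unfold extRight
  rw [Equiv.Perm.sign_permCongr, Equiv.Perm.sign_sumCongr]
  simp

lemma sign_extLeft (r s t : ℕ) (σ : Perm (Fin (s + t))) :
    Equiv.Perm.sign (extLeft r s t σ) = Equiv.Perm.sign σ := by
  unfold extLeft
  rw [Equiv.Perm.sign_permCongr, Equiv.Perm.sign_permCongr, Equiv.Perm.sign_sumCongr]
  simp

lemma sum_core {A B C : Type*} [Fintype A] [Fintype B] [Fintype C]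
    (P : A → Prop) (Q : B → Prop) (R : C → Prop)
    [DecidablePred P] [DecidablePred Q] [DecidablePred R]
    (φ : A × B → C) (hb : Set.BijOn φ ({a | P a} ×ˢ {b | Q b}) {c | R c})
    {M : Type*} [AddCommMonoid M] (F : C → M) (G : A → B → M)
    (hFG : ∀ a b, F (φ (a, b)) = G a b) :
    ∑ c ∈ Finset.univ.filter R, F c =
      ∑ a ∈ Finset.univ.filter P, ∑ b ∈ Finset.univ.filter Q, G a b := by
  rw [← Finset.sum_product']
  symm
  refine Finset.sum_nbij φ ?_ ?_ ?_ ?_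
  · intro p hp
    simp only [Finset.mem_product, Finset.mem_filter, Finset.mem_univ, true_and] at hp ⊢
    exact hb.mapsTo ⟨hp.1, hp.2⟩
  · intro p hp q hq h
    have hp' : p ∈ ({a | P a} ×ˢ {b | Q b} : Set (A × B)) := by simpa using hp
    have hq' : q ∈ ({a | P a} ×ˢ {b | Q b} : Set (A × B)) := by simpa using hq
    exact hb.injOn hp' hq' h
  · intro c hc
    have hc' : c ∈ {c | R c} := by simpa using hc
    obtain ⟨p, hp, rfl⟩ := hb.surjOn hc'
    exact ⟨p, by simpa using hp, rfl⟩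
  · intro p hp
    exact (hFG p.1 p.2).symm

theorem main82 (r s t : ℕ) :
    ((∑ ν ∈ Finset.univ.filter (W4c2movlemaddchow.IsShuffle₃ r s t),
        MonoidAlgebra.single ν (((Equiv.Perm.sign ν : ℤˣ) : ℤ)) :
          MonoidAlgebra ℤ (Equiv.Perm (Fin (r + s + t)))) =
      ∑ τ ∈ Finset.univ.filter (W4c2movlemaddchow.IsShuffle₂ (r + s) t),
        ∑ σ ∈ Finset.univ.filter (W4c2movlemaddchow.IsShuffle₂ r s),
          MonoidAlgebra.single (τ * W4c2movlemaddchow.extRight (r + s) t σ)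
            (((Equiv.Perm.sign τ : ℤˣ) : ℤ) * ((Equiv.Perm.sign σ : ℤˣ) : ℤ))) ∧
    ((∑ ν ∈ Finset.univ.filter (W4c2movlemaddchow.IsShuffle₃ r s t),
        MonoidAlgebra.single ν (((Equiv.Perm.sign ν : ℤˣ) : ℤ)) :
          MonoidAlgebra ℤ (Equiv.Perm (Fin (r + s + t)))) =
      ∑ τ ∈ Finset.univ.filter (fun τ : Equiv.Perm (Fin (r + s + t)) =>
          W4c2movlemaddchow.IsShuffle₂ r (s + t) ((finCongr (Nat.add_assoc r s t)).permCongr τ)),
        ∑ σ ∈ Finset.univ.filter (W4c2movlemaddchow.IsShuffle₂ s t),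
          MonoidAlgebra.single (τ * W4c2movlemaddchow.extLeft r s t σ)
            (((Equiv.Perm.sign τ : ℤˣ) : ℤ) * ((Equiv.Perm.sign σ : ℤˣ) : ℤ))) := by
  constructor
  · refine sum_core _ _ _ _ (bij80 r s t)
      (fun ν => (MonoidAlgebra.single ν (((Equiv.Perm.sign ν : ℤˣ) : ℤ)) :
          MonoidAlgebra ℤ (Equiv.Perm (Fin (r + s + t)))))
      (fun τ σ => MonoidAlgebra.single (τ * W4c2movlemaddchow.extRight (r + s) t σ)
            (((Equiv.Perm.sign τ : ℤˣ) : ℤ) * ((Equiv.Perm.sign σ : ℤˣ) : ℤ))) ?_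
    intro τ σ
    show MonoidAlgebra.single (τ * extRight (r + s) t σ)
      (((Equiv.Perm.sign (τ * extRight (r + s) t σ) : ℤˣ) : ℤ)) = _
    rw [Equiv.Perm.sign_mul, sign_extRight, Units.val_mul]
  · refine sum_core _ _ _ _ (bij81 r s t)
      (fun ν => (MonoidAlgebra.single ν (((Equiv.Perm.sign ν : ℤˣ) : ℤ)) :
          MonoidAlgebra ℤ (Equiv.Perm (Fin (r + s + t)))))
      (fun τ σ => MonoidAlgebra.single (τ * W4c2movlemaddchow.extLeft r s t σ)
            (((Equiv.Perm.sign τ : ℤˣ) : ℤ) * ((Equiv.Perm.sign σ : ℤˣ) : ℤ))) ?_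
    intro τ σ
    show MonoidAlgebra.single (τ * extLeft r s t σ)
      (((Equiv.Perm.sign (τ * extLeft r s t σ) : ℤˣ) : ℤ)) = _
    rw [Equiv.Perm.sign_mul, sign_extLeft, Units.val_mul]

end Groth.Agent.Lib.Shuffle_lead
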