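import Mathlib
import Groth.Prelude.Def_W4stkfunctorsequivSib
import Groth.Agent.Lib.Siblings_helper7
import Groth.Agent.Lib.StupidTr_helper7
import Groth.Agent.Lib.FilKInj1_helper7

/-!
# Siblings on the bounded derived category (helper7)
-/

set_option autoImplicit false
universe w v u v' u'
open CategoryTheory Limits Pretriangulated DerivedCategory DerivedCategory.TStructure

namespace Groth.Agent.Lib.SiblingsDb

variable {A : Type u} [Category.{v} A] [Abelian A] [HasDerivedCategory.{w} A]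

/-- objects of the derived category concentrated in degree `0` -/
def H' : ObjectProperty (DerivedCategory A) :=
  fun Z => ∃ Y : A, Nonempty (Z ≅ (singleFunctor A 0).obj Y)

lemma isZero_Q_obj (C : CochainComplex A ℤ) (h : ∀ m, IsZero (C.X m)) : IsZero (Q.obj C) := by
  have hC : IsZero C := by
    rw [IsZero.iff_id_eq_zero]
    ext m
    exact (h m).eq_of_src _ _
  exact Q.map_isZero hC

theorem good_Q_obj : ∀ (n : ℕ) (C : CochainComplex A ℤ), (∀ m, m < 0 → IsZero (C.X m)) →
    (∀ m, (n : ℤ) ≤ m → IsZero (C.X m)) → Siblings.Good (H' (A := A)) n (Q.obj C) := by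
  intro n
  induction n with
  | zero =>
    intro C h0 hn
    refine (Siblings.good_zero _ _).2 (isZero_Q_obj C (fun m => ?_))
    by_cases hm : m < 0
    · exact h0 m hm
    · exact hn m (by push_cast; omega)
  | succ n ih =>
    intro C h0 hn
    haveI : Mono (StupidTr.trι C 1) := HomologicalComplex.mono_of_mono_f _ (fun m => inferInstance)
    have hS := FilKInj1.shortExact_cokernel (StupidTr.trι C 1)
    have hT' := rot_of_distTriang _ (DerivedCategory.triangleOfSES_distinguished hS)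
    -- the cokernel is concentrated in degree 0
    have hcok : ∀ m, m ≠ 0 → IsZero ((cokernel (StupidTr.trι C 1)).X m) := by
      intro m hm
      have hS' := hS.map_of_exact (HomologicalComplex.eval A (ComplexShape.up ℤ) m)
      haveI : Epi ((cokernel.π (StupidTr.trι C 1)).f m) := hS'.epi_g
      by_cases h1 : 1 ≤ m
      · haveI := StupidTr.isIso_trι_f C 1 h1
        have hz : (StupidTr.trι C 1).f m ≫ (cokernel.π (StupidTr.trι C 1)).f m = 0 := by
          rw [← HomologicalComplex.comp_f, cokernel.condition, HomologicalComplex.zero_f]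
        have hg : (cokernel.π (StupidTr.trι C 1)).f m = 0 := by
          rw [← cancel_epi ((StupidTr.trι C 1).f m), comp_zero]
          exact hz
        exact IsZero.of_epi_eq_zero _ hg
      · exact IsZero.of_epi ((cokernel.π (StupidTr.trι C 1)).f m) (h0 m (by omega))
    haveI : (cokernel (StupidTr.trι C 1)).IsStrictlyGE 0 := by
      rw [CochainComplex.isStrictlyGE_iff]
      intro i hi
      exact hcok i (by omega)
    haveI : (cokernel (StupidTr.trι C 1)).IsStrictlyLE 0 := by
      rw [CochainComplex.isStrictlyLE_iff]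
      intro i hi
      exact hcok i (by omega)
    obtain ⟨Y, ⟨e⟩⟩ := CochainComplex.exists_iso_single (cokernel (StupidTr.trι C 1)) 0
    have hB : H' (Q.obj (cokernel (StupidTr.trι C 1))) :=
      ⟨Y, ⟨Q.mapIso e ≪≫ ((singleFunctorIsoCompQ A 0).app Y).symm⟩⟩
    -- the shifted truncation
    have hW0 : Siblings.Good (H' (A := A)) n (Q.obj ((StupidTr.tr C 1)⟦(1 : ℤ)⟧)) := by
      apply ih
      · intro m hm
        show IsZero ((StupidTr.tr C 1).X (m + 1))
        exact StupidTr.isZero_tr_X C 1 (by omega)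
      · intro m hm
        show IsZero ((StupidTr.tr C 1).X (m + 1))
        exact IsZero.of_mono ((StupidTr.trι C 1).f (m + 1)) (hn (m + 1) (by push_cast; omega))
    have hW : Siblings.Good (H' (A := A)) n ((Q.obj (StupidTr.tr C 1))⟦(1 : ℤ)⟧) :=
      Siblings.good_of_iso _ n ((Q.commShiftIso (1 : ℤ)).app (StupidTr.tr C 1)) hW0
    exact (Siblings.good_succ _ n _).2 ⟨_, _, _, _, _, hT', hB, hW⟩

section Db

variable {D : Type u'} [Category.{v'} D] [Preadditive D] [HasZeroObject D] [HasShift D ℤ]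
  [∀ n : ℤ, (shiftFunctor D n).Additive] [Pretriangulated D]
  (F F' : DerivedCategory.Bounded A ⥤ D) [F.CommShift ℤ] [F.IsTriangulated]
  [F'.CommShift ℤ] [F'.IsTriangulated]

/-- objects of the bounded derived category concentrated in degree `0` -/
def HB : ObjectProperty (DerivedCategory.Bounded A) :=
  fun B => ∃ Y : A, Nonempty (B ≅ (DEquiv.singleB A).obj Y)

lemma singleB_map_surjective {Y Y' : A}
    (f : (DEquiv.singleB A).obj Y ⟶ (DEquiv.singleB A).obj Y') :
    ∃ g : Y ⟶ Y', (DEquiv.singleB A).map g = f := by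
  obtain ⟨g, hg⟩ := (singleFunctor A 0).map_surjective
    ((t : Triangulated.TStructure (DerivedCategory A)).bounded.ι.map f)
  exact ⟨g, (t : Triangulated.TStructure (DerivedCategory A)).bounded.ι.map_injective hg⟩

variable (θ : DEquiv.singleB A ⋙ F ≅ DEquiv.singleB A ⋙ F')

/-- the comparison isomorphism on objects concentrated in degree `0` -/
noncomputable def tB (B : DerivedCategory.Bounded A) (hB : HB B) : F.obj B ≅ F'.obj B :=
  F.mapIso hB.choose_spec.some ≪≫ θ.app hB.choose ≪≫ (F'.mapIso hB.choose_spec.some).symm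

lemma nat_aux {B B' : DerivedCategory.Bounded A} (Y Y' : A) (e : B ≅ (DEquiv.singleB A).obj Y)
    (e' : B' ≅ (DEquiv.singleB A).obj Y') (g : B ⟶ B') :
    F.map g ≫ (F.map e'.hom ≫ θ.hom.app Y' ≫ F'.map e'.inv) =
      (F.map e.hom ≫ θ.hom.app Y ≫ F'.map e.inv) ≫ F'.map g := by
  obtain ⟨g₀, hg₀⟩ := singleB_map_surjective (e.inv ≫ g ≫ e'.hom)
  have hnat : F.map ((DEquiv.singleB A).map g₀) ≫ θ.hom.app Y' =
      θ.hom.app Y ≫ F'.map ((DEquiv.singleB A).map g₀) := θ.hom.naturality g₀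
  rw [hg₀] at hnat
  have h1 : F.map g ≫ F.map e'.hom = F.map e.hom ≫ F.map (e.inv ≫ g ≫ e'.hom) := by
    rw [← F.map_comp, ← F.map_comp, Iso.hom_inv_id_assoc]
  have h2 : F'.map (e.inv ≫ g ≫ e'.hom) ≫ F'.map e'.inv = F'.map e.inv ≫ F'.map g := by
    rw [← F'.map_comp, ← F'.map_comp, Category.assoc, Category.assoc, Iso.hom_inv_id,
      Category.comp_id]
  rw [← Category.assoc, h1, Category.assoc, ← Category.assoc (F.map (e.inv ≫ g ≫ e'.hom)), hnat,
    Category.assoc, h2, Category.assoc, Category.assoc]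

lemma tB_nat (B B' : DerivedCategory.Bounded A) (hB : HB B) (hB' : HB B') (g : B ⟶ B') :
    F.map g ≫ (tB F F' θ B' hB').hom = (tB F F' θ B hB).hom ≫ F'.map g :=
  nat_aux F F' θ _ _ hB.choose_spec.some hB'.choose_spec.some g

lemma van_aux
    (h2 : ∀ (X Y : A) (q : ℤ), q < 0 →
      ∀ f : F.obj ((DEquiv.singleB A).obj X) ⟶
        (shiftFunctor D q).obj (F.obj ((DEquiv.singleB A).obj Y)), f = 0)
    (B B' : DerivedCategory.Bounded A) (hB : HB B) (hB' : HB B') (j : ℤ) (hj : 0 < j)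
    (f : (F.obj B)⟦j⟧ ⟶ F.obj B') : f = 0 := by
  obtain ⟨X, ⟨eX⟩⟩ := hB
  obtain ⟨Y, ⟨eY⟩⟩ := hB'
  have key : ∀ f' : (F.obj ((DEquiv.singleB A).obj X))⟦j⟧ ⟶ F.obj ((DEquiv.singleB A).obj Y),
      f' = 0 := by
    intro f'
    apply (shiftFunctor D (-j)).map_injective
    rw [Functor.map_zero]
    have h := h2 X Y (-j) (by omega)
      (((shiftEquiv D j).unitIso.app (F.obj ((DEquiv.singleB A).obj X))).hom ≫ f'⟦-j⟧')
    have h' : ((shiftEquiv D j).unitIso.app (F.obj ((DEquiv.singleB A).obj X))).hom ≫ f'⟦-j⟧' =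
        ((shiftEquiv D j).unitIso.app (F.obj ((DEquiv.singleB A).obj X))).hom ≫ 0 := by
      rw [comp_zero]
      exact h
    exact (cancel_epi _).1 h'
  have h0 := key ((F.map eX.inv)⟦j⟧' ≫ f ≫ F.map eY.hom)
  have h3 : ((F.map eX.inv)⟦j⟧' ≫ f) ≫ F.map eY.hom = 0 ≫ F.map eY.hom := by
    rw [Category.assoc, h0, zero_comp]
  have h4 : (F.map eX.inv)⟦j⟧' ≫ f = (F.map eX.inv)⟦j⟧' ≫ 0 := by
    rw [comp_zero]
    have := (cancel_mono _).1 h3
    rw [this]
  exact (cancel_epi _).1 h4

lemma HB_of {B : DerivedCategory.Bounded A} {Z : DerivedCategory A} (hZ : H' Z)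
    (e : (t : Triangulated.TStructure (DerivedCategory A)).bounded.ι.obj B ≅ Z) : HB B := by
  obtain ⟨Y, ⟨e'⟩⟩ := hZ
  exact ⟨Y, ⟨(t : Triangulated.TStructure (DerivedCategory A)).bounded.fullyFaithfulι.preimageIso (e ≪≫ e')⟩⟩

lemma essImage_of_H' (Z : DerivedCategory A) (hZ : H' Z) :
    (t : Triangulated.TStructure (DerivedCategory A)).bounded.ι.essImage Z := by
  obtain ⟨Y, ⟨e'⟩⟩ := hZ
  exact ⟨(DEquiv.singleB A).obj Y, ⟨e'.symm⟩⟩

/-- sibling functors on the bounded derived category take isomorphic values -/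
theorem siblings (h1 : Nonempty (DEquiv.singleB A ⋙ F ≅ DEquiv.singleB A ⋙ F'))
    (h2 : ∀ (X Y : A) (q : ℤ), q < 0 →
      ∀ f : F.obj ((DEquiv.singleB A).obj X) ⟶
        (shiftFunctor D q).obj (F.obj ((DEquiv.singleB A).obj Y)), f = 0)
    (K : DerivedCategory.Bounded A) : Nonempty (F.obj K ≅ F'.obj K) := by
  obtain ⟨θ⟩ := h1
  obtain ⟨⟨a, ha⟩, ⟨b, hb⟩⟩ := K.property
  haveI := ha
  haveI := hb
  obtain ⟨C, hCa, hCb, ⟨eC⟩⟩ := DerivedCategory.exists_iso_Q_obj_of_isGE_of_isLE K.obj a b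
  have hgood' : Siblings.Good (H' (A := A)) (b - a + 1).toNat (Q.obj (C⟦a⟧)) := by
    apply good_Q_obj
    · intro m hm
      show IsZero (C.X (m + a))
      exact C.isZero_of_isStrictlyGE a (m + a) (by omega)
    · intro m hm
      show IsZero (C.X (m + a))
      exact C.isZero_of_isStrictlyLE b (m + a) (by omega)
  have eK : Q.obj (C⟦a⟧) ≅ (t : Triangulated.TStructure (DerivedCategory A)).bounded.ι.obj (K⟦a⟧) :=
    (Q.commShiftIso a).app C ≪≫ ((shiftFunctor (DerivedCategory A) a).mapIso eC).symm ≪≫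
      (((t : Triangulated.TStructure (DerivedCategory A)).bounded.ι.commShiftIso a).app K).symm
  have hgood'' := Siblings.good_of_iso _ _ eK hgood'
  have hgood : Siblings.Good (HB (A := A)) (b - a + 1).toNat (K⟦a⟧) :=
    Siblings.good_of_good_map (t : Triangulated.TStructure (DerivedCategory A)).bounded.ι (fun T hT => hT)
      HB H' essImage_of_H' (fun B Z hZ e => HB_of hZ e) _ _ hgood''
  obtain ⟨φ⟩ := Siblings.main F F' HB (van_aux F h2) (tB F F' θ) (tB_nat F F' θ) _ _ hgood
  exact ⟨F.mapIso ((shiftEquiv (DerivedCategory.Bounded A) a).unitIso.app K) ≪≫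
    (F.commShiftIso (-a)).app (K⟦a⟧) ≪≫ (shiftFunctor D (-a)).mapIso φ ≪≫
    ((F'.commShiftIso (-a)).app (K⟦a⟧)).symm ≪≫
    (F'.mapIso ((shiftEquiv (DerivedCategory.Bounded A) a).unitIso.app K)).symm⟩

end Db

end Groth.Agent.Lib.SiblingsDb
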