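import Mathlib
import Groth.Prelude.Def_W4stkfunctorsequivSib
import Groth.Agent.Lib.Siblings_helper7
import Groth.Agent.Lib.SiblingsDb_helper7
import Groth.Agent.Lib.BijTri_helper7

/-!
# A sibling of a fully faithful functor is fully faithful (helper7)
-/

set_option autoImplicit false
set_option backward.isDefEq.respectTransparency false
universe w v u v' u'
open CategoryTheory Limits Pretriangulated DerivedCategory DerivedCategory.TStructure

namespace Groth.Agent.Lib.SibFF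

open BijTri

variable {A : Type u} [Category.{v} A] [Abelian A] [HasDerivedCategory.{w} A]

variable (A) in
/-- the inclusion of the bounded derived category -/
noncomputable abbrev ιb : DerivedCategory.Bounded A ⥤ DerivedCategory A :=
  (t : Triangulated.TStructure (DerivedCategory A)).bounded.ι

lemma exists_good (K : DerivedCategory.Bounded A) :
    ∃ (a : ℤ) (n : ℕ), Siblings.Good (SiblingsDb.HB (A := A)) n (K⟦a⟧) := by
  obtain ⟨⟨a, ha⟩, ⟨b, hb⟩⟩ := K.property
  haveI := ha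
  haveI := hb
  obtain ⟨C, hCa, hCb, ⟨eC⟩⟩ := DerivedCategory.exists_iso_Q_obj_of_isGE_of_isLE K.obj a b
  have hgood' : Siblings.Good (SiblingsDb.H' (A := A)) (b - a + 1).toNat (Q.obj (C⟦a⟧)) := by
    apply SiblingsDb.good_Q_obj
    · intro m hm
      show IsZero (C.X (m + a))
      exact C.isZero_of_isStrictlyGE a (m + a) (by omega)
    · intro m hm
      show IsZero (C.X (m + a))
      exact C.isZero_of_isStrictlyLE b (m + a) (by omega)
  have eK : Q.obj (C⟦a⟧) ≅ (ιb A).obj (K⟦a⟧) :=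
    (Q.commShiftIso a).app C ≪≫ ((shiftFunctor (DerivedCategory A) a).mapIso eC).symm ≪≫
      (((ιb A).commShiftIso a).app K).symm
  exact ⟨a, _, Siblings.good_of_good_map (ιb A) (fun T hT => hT)
    SiblingsDb.HB SiblingsDb.H' SiblingsDb.essImage_of_H'
    (fun B Z hZ e => SiblingsDb.HB_of hZ e) _ _ (Siblings.good_of_iso _ _ eK hgood')⟩

section Tri

variable {S : ShortComplex A} (hS : S.ShortExact)

/-- the connecting morphism in the bounded derived category -/
noncomputable def δB : (DEquiv.singleB A).obj S.X₃ ⟶ ((DEquiv.singleB A).obj S.X₁)⟦(1 : ℤ)⟧ :=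
  (ιb A).preimage (hS.singleδ ≫ ((ιb A).commShiftIso (1 : ℤ)).inv.app ((DEquiv.singleB A).obj S.X₁))

lemma triB_distinguished :
    Triangle.mk ((DEquiv.singleB A).map S.f) ((DEquiv.singleB A).map S.g) (δB hS) ∈
      distTriang (DerivedCategory.Bounded A) := by
  show (ιb A).mapTriangle.obj _ ∈ distTriang _
  refine isomorphic_distinguished _ hS.singleTriangle_distinguished _ ?_
  refine Triangle.isoMk _ _ (Iso.refl _) (Iso.refl _) (Iso.refl _) ?_ ?_ ?_
  · show (singleFunctor A 0).map S.f ≫ 𝟙 _ = 𝟙 _ ≫ (singleFunctor A 0).map S.f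
    rw [Category.comp_id, Category.id_comp]
  · show (singleFunctor A 0).map S.g ≫ 𝟙 _ = 𝟙 _ ≫ (singleFunctor A 0).map S.g
    rw [Category.comp_id, Category.id_comp]
  · show ((ιb A).map (δB hS) ≫ ((ιb A).commShiftIso (1 : ℤ)).hom.app _) ≫ (𝟙 _)⟦(1 : ℤ)⟧' =
      𝟙 _ ≫ hS.singleδ
    erw [CategoryTheory.Functor.map_id, Category.comp_id, Category.id_comp]
    rw [δB, Functor.map_preimage, Category.assoc, Iso.inv_hom_id_app]
    exact Category.comp_id _

end Tri

lemma shortExact_kernel {X' X : A} (π : X' ⟶ X) [Epi π] :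
    (ShortComplex.mk (kernel.ι π) π (kernel.condition π)).ShortExact :=
  ShortComplex.ShortExact.mk' (ShortComplex.exact_of_f_is_kernel _ (kernelIsKernel π))
    (by dsimp; infer_instance) (by dsimp; infer_instance)

section Efface

lemma epi_f_zero_aux {P' P : CochainComplex A ℤ} (hd' : P'.d 0 1 = 0) (hd : P.d 0 1 = 0)
    (hd0 : P.d (-1) 0 = 0) (s : P' ⟶ P) [QuasiIsoAt s 0] : Epi (s.f 0) := by
  haveI := P'.isIso_iCycles 0 1 (by simp) hd'
  haveI := P.isIso_iCycles 0 1 (by simp) hd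
  haveI := P.isIso_homologyπ (-1) 0 (by simp) hd0
  haveI : IsIso (HomologicalComplex.homologyMap s 0) :=
    (quasiIsoAt_iff_isIso_homologyMap s 0).1 inferInstance
  have e1 : HomologicalComplex.cyclesMap s 0 ≫ P.iCycles 0 = P'.iCycles 0 ≫ s.f 0 :=
    HomologicalComplex.cyclesMap_i s 0
  have e2 : P'.homologyπ 0 ≫ HomologicalComplex.homologyMap s 0 =
      HomologicalComplex.cyclesMap s 0 ≫ P.homologyπ 0 :=
    HomologicalComplex.homologyπ_naturality s 0
  have e3 : s.f 0 = (inv (P'.iCycles 0) ≫ P'.homologyπ 0 ≫ HomologicalComplex.homologyMap s 0) ≫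
      inv (P.homologyπ 0) ≫ P.iCycles 0 := by
    rw [e2, Category.assoc, Category.assoc, IsIso.hom_inv_id_assoc, e1, IsIso.inv_hom_id_assoc]
  rw [e3]
  infer_instance

lemma epi_f_zero {P' : CochainComplex A ℤ} [P'.IsStrictlyLE 0] (X : A)
    (s : P' ⟶ (CochainComplex.singleFunctor A 0).obj X) [QuasiIso s] : Epi (s.f 0) :=
  epi_f_zero_aux ((P'.isZero_of_isStrictlyLE 0 1 (by omega)).eq_of_tgt _ _)
    ((HomologicalComplex.isZero_single_obj_X (ComplexShape.up ℤ) 0 X 1 (by omega)).eq_of_tgt _ _)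
    ((HomologicalComplex.isZero_single_obj_X (ComplexShape.up ℤ) 0 X (-1) (by omega)).eq_of_src _ _)
    s

/-- effaceability of positive degree morphisms between objects of the heart -/
lemma efface (X Y : A) (q : ℤ) (hq : 0 < q)
    (ξ : (DEquiv.singleB A).obj X ⟶ ((DEquiv.singleB A).obj Y)⟦q⟧) :
    ∃ (X' : A) (π : X' ⟶ X), Epi π ∧ (DEquiv.singleB A).map π ≫ ξ = 0 := by
  let P := (CochainComplex.singleFunctor A 0).obj X
  let PY := (CochainComplex.singleFunctor A 0).obj Y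
  let c : (ιb A).obj (((DEquiv.singleB A).obj Y)⟦q⟧) ≅ Q.obj (PY⟦q⟧) :=
    ((ιb A).commShiftIso q).app ((DEquiv.singleB A).obj Y) ≪≫ ((Q.commShiftIso q).app PY).symm
  let ξ₁ : Q.obj P ⟶ Q.obj (PY⟦q⟧) := (ιb A).map ξ ≫ c.hom
  obtain ⟨P', hP', s, hs, g, fac⟩ := DerivedCategory.right_fac_of_isStrictlyLE ξ₁ 0
  have hs' := hs
  rw [isIso_Q_map_iff_quasiIso] at hs'
  haveI : QuasiIso s := hs'
  haveI : Epi (s.f 0) := epi_f_zero X s
  let j : (HomologicalComplex.single A (ComplexShape.up ℤ) 0).obj (P'.X 0) ⟶ P' :=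
    HomologicalComplex.mkHomFromSingle (𝟙 _) (fun k hk =>
      (P'.isZero_of_isStrictlyLE 0 k (by simp at hk; omega)).eq_of_tgt _ _)
  obtain ⟨π₀, hπ₀⟩ := (HomologicalComplex.single A (ComplexShape.up ℤ) 0).map_surjective (j ≫ s)
  have hjg : j ≫ g = 0 := by
    apply HomologicalComplex.from_single_hom_ext
    have hz : IsZero ((PY⟦q⟧).X 0) := by
      show IsZero (PY.X (0 + q))
      exact HomologicalComplex.isZero_single_obj_X (ComplexShape.up ℤ) 0 Y (0 + q) (by omega)
    exact hz.eq_of_tgt _ _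
  have hepi : Epi π₀ := by
    have h1 := congrArg (fun φ => φ.f 0) hπ₀
    simp only [HomologicalComplex.comp_f, HomologicalComplex.single_map_f_self,
      HomologicalComplex.mkHomFromSingle_f, j] at h1
    have h2 : π₀ = s.f 0 ≫ (HomologicalComplex.singleObjXSelf (ComplexShape.up ℤ) 0 X).hom := by
      rw [← cancel_epi (HomologicalComplex.singleObjXSelf (ComplexShape.up ℤ) 0 (P'.X 0)).hom,
        ← cancel_mono (HomologicalComplex.singleObjXSelf (ComplexShape.up ℤ) 0 X).inv]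
      simpa using h1
    rw [h2]
    infer_instance
  refine ⟨P'.X 0, π₀, hepi, ?_⟩
  apply (ιb A).map_injective
  rw [(ιb A).map_zero, ← cancel_mono c.hom, zero_comp, Functor.map_comp, Category.assoc]
  show Q.map ((HomologicalComplex.single A (ComplexShape.up ℤ) 0).map π₀) ≫ ξ₁ = 0
  rw [hπ₀, fac, Q.map_comp, Category.assoc, IsIso.hom_inv_id_assoc, ← Q.map_comp, hjg, Q.map_zero]

end Efface

section Main

variable {D : Type u'} [Category.{v'} D] [Preadditive D] [HasZeroObject D] [HasShift D ℤ]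
  [∀ n : ℤ, (shiftFunctor D n).Additive] [Pretriangulated D]
  (F F' : DerivedCategory.Bounded A ⥤ D) [F.CommShift ℤ] [F.IsTriangulated]
  [F'.CommShift ℤ] [F'.IsTriangulated]
  (θ : DEquiv.singleB A ⋙ F ≅ DEquiv.singleB A ⋙ F')
  (h2 : ∀ K : DerivedCategory.Bounded A, Nonempty (F.obj K ≅ F'.obj K))
  [F.Full] [F.Faithful]

include θ in
lemma F'_map_single {X Y : A} (g : X ⟶ Y) : F'.map ((DEquiv.singleB A).map g) =
    θ.inv.app X ≫ F.map ((DEquiv.singleB A).map g) ≫ θ.hom.app Y := by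
  have n3 : F.map ((DEquiv.singleB A).map g) ≫ θ.hom.app Y =
      θ.hom.app X ≫ F'.map ((DEquiv.singleB A).map g) := θ.hom.naturality g
  rw [n3, Iso.inv_hom_id_app_assoc]

include θ in
lemma bij_single (X Y : A) :
    Bij F' ((DEquiv.singleB A).obj X) ((DEquiv.singleB A).obj Y) := by
  constructor
  · intro f f' hff'
    obtain ⟨g, rfl⟩ := SiblingsDb.singleB_map_surjective f
    obtain ⟨g', rfl⟩ := SiblingsDb.singleB_map_surjective f'
    have h : F'.map ((DEquiv.singleB A).map g) = F'.map ((DEquiv.singleB A).map g') := hff'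
    rw [F'_map_single F F' θ, F'_map_single F F' θ] at h
    have h' := (cancel_mono (θ.hom.app Y)).1 ((cancel_epi (θ.inv.app X)).1 h)
    exact F.map_injective h'
  · intro η
    obtain ⟨u, hu⟩ := F.map_surjective (θ.hom.app X ≫ η ≫ θ.inv.app Y)
    obtain ⟨g, rfl⟩ := SiblingsDb.singleB_map_surjective u
    refine ⟨(DEquiv.singleB A).map g, ?_⟩
    show F'.map ((DEquiv.singleB A).map g) = η
    rw [F'_map_single F F' θ, hu]
    simp

/-- `F'` is bijective on maps of degree `q` between objects of the heart -/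
def Claim (q : ℤ) : Prop :=
  ∀ X Y : A, Bij F' ((DEquiv.singleB A).obj X) (((DEquiv.singleB A).obj Y)⟦q⟧)

include θ in
lemma claim_zero : Claim F' (A := A) 0 := fun X Y =>
  bij_of_iso_right ((shiftFunctorZero (DerivedCategory.Bounded A) ℤ).symm.app _)
    (bij_single F F' θ X Y)

lemma hom_eq_zero_of_neg (X Y : A) (q : ℤ) (hq : q < 0)
    (f : (DEquiv.singleB A).obj X ⟶ ((DEquiv.singleB A).obj Y)⟦q⟧) : f = 0 := by
  apply (ιb A).map_injective
  rw [(ιb A).map_zero]
  have key : ∀ g : (singleFunctor A 0).obj X ⟶ ((singleFunctor A 0).obj Y)⟦q⟧, g = 0 := by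
    intro g
    haveI : (t : Triangulated.TStructure (DerivedCategory A)).IsGE
        (((singleFunctor A 0).obj Y)⟦q⟧) (-q) :=
      (t : Triangulated.TStructure (DerivedCategory A)).isGE_shift _ 0 q (-q) (by omega)
    exact (t : Triangulated.TStructure (DerivedCategory A)).zero g 0 (-q) (by omega)
  have h1 : (ιb A).map f ≫ ((ιb A).commShiftIso q).hom.app ((DEquiv.singleB A).obj Y) = 0 :=
    key _
  have h2 : (ιb A).map f ≫ ((ιb A).commShiftIso q).hom.app ((DEquiv.singleB A).obj Y) =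
      0 ≫ ((ιb A).commShiftIso q).hom.app ((DEquiv.singleB A).obj Y) := by
    rw [zero_comp]; exact h1
  exact (cancel_mono _).1 h2

include h2 in
lemma claim_neg (q : ℤ) (hq : q < 0) : Claim F' (A := A) q := by
  intro X Y
  constructor
  · intro f f' _
    rw [hom_eq_zero_of_neg X Y q hq f, hom_eq_zero_of_neg X Y q hq f']
  · intro η
    obtain ⟨φX⟩ := h2 ((DEquiv.singleB A).obj X)
    obtain ⟨φL⟩ := h2 (((DEquiv.singleB A).obj Y)⟦q⟧)
    obtain ⟨u, hu⟩ := F.map_surjective (φX.hom ≫ η ≫ φL.inv)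
    have hu0 : u = 0 := hom_eq_zero_of_neg X Y q hq u
    refine ⟨0, ?_⟩
    show F'.map 0 = η
    rw [F'.map_zero]
    rw [hu0, F.map_zero] at hu
    have h3 : (φX.hom ≫ η) ≫ φL.inv = 0 ≫ φL.inv := by rw [Category.assoc, ← hu, zero_comp]
    have h4 : φX.hom ≫ η = φX.hom ≫ 0 := by
      rw [comp_zero]
      exact (cancel_mono _).1 h3
    exact ((cancel_epi _).1 h4).symm

include θ h2 in
lemma claim_step (q : ℤ) (hq : 0 ≤ q) (ih : Claim F' (A := A) q) : Claim F' (A := A) (q + 1) := by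
  intro X Y
  have hlev : ∀ X₁ : A, Bij F' (((DEquiv.singleB A).obj X₁)⟦(1 : ℤ)⟧)
      (((DEquiv.singleB A).obj Y)⟦q + 1⟧) := fun X₁ =>
    bij_of_iso_right ((shiftFunctorAdd' (DerivedCategory.Bounded A) q 1 (q + 1) rfl).symm.app _)
      (bij_shift 1 (ih X₁ Y))
  have inj0 : ∀ w : (DEquiv.singleB A).obj X ⟶ ((DEquiv.singleB A).obj Y)⟦q + 1⟧,
      F'.map w = 0 → w = 0 := by
    intro w hw
    obtain ⟨X', π, hπ, hπw⟩ := efface X Y (q + 1) (by omega) w
    have hS := shortExact_kernel π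
    have hT₀ := triB_distinguished hS
    have hrr := rot_of_distTriang _ (rot_of_distTriang _ hT₀)
    obtain ⟨w'', hw''⟩ : ∃ w'' : ((DEquiv.singleB A).obj (kernel π))⟦(1 : ℤ)⟧ ⟶
        ((DEquiv.singleB A).obj Y)⟦q + 1⟧, w = δB hS ≫ w'' :=
      Triangle.yoneda_exact₃ _ hT₀ w hπw
    have e2 : F'.map (δB hS) ≫ F'.map w'' = 0 := by rw [← F'.map_comp, ← hw'', hw]
    obtain ⟨z, hz⟩ : ∃ z : F'.obj (((DEquiv.singleB A).obj X')⟦(1 : ℤ)⟧) ⟶
        F'.obj (((DEquiv.singleB A).obj Y)⟦q + 1⟧),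
        F'.map w'' = F'.map (-((DEquiv.singleB A).map (kernel.ι π))⟦(1 : ℤ)⟧') ≫ z :=
      Triangle.yoneda_exact₂ _ (F'.map_distinguished _ hrr) (F'.map w'') e2
    obtain ⟨ζ₀, hζ₀⟩ := (hlev X').surj z
    have e3 : w'' = (-((DEquiv.singleB A).map (kernel.ι π))⟦(1 : ℤ)⟧') ≫ ζ₀ :=
      (hlev (kernel π)).inj (by rw [hz, F'.map_comp, hζ₀])
    have e4 : δB hS ≫ (-((DEquiv.singleB A).map (kernel.ι π))⟦(1 : ℤ)⟧') = 0 :=
      comp_distTriang_mor_zero₁₂ _ hrr
    rw [hw'', e3, ← Category.assoc, e4, zero_comp]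
  constructor
  · intro u u' huu'
    have huu'' : F'.map u = F'.map u' := huu'
    have := inj0 (u - u') (by rw [F'.map_sub, huu'', sub_self])
    exact sub_eq_zero.1 this
  · intro η
    obtain ⟨φL⟩ := h2 (((DEquiv.singleB A).obj Y)⟦q + 1⟧)
    obtain ⟨ξ', hξ'⟩ := F.map_surjective (θ.hom.app X ≫ η ≫ φL.inv)
    obtain ⟨X', π, hπ, hπξ⟩ := efface X Y (q + 1) (by omega) ξ'
    have hS := shortExact_kernel π
    have hT₀ := triB_distinguished hS
    have hr := rot_of_distTriang _ hT₀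
    have hη0 : F'.map ((DEquiv.singleB A).map π) ≫ η = 0 := by
      have e1 : θ.hom.app X ≫ η = F.map ξ' ≫ φL.hom := by
        rw [hξ', Category.assoc, Category.assoc, Iso.inv_hom_id, Category.comp_id]
      rw [F'_map_single F F' θ, Category.assoc, Category.assoc, e1, ← Category.assoc (F.map _),
        ← F.map_comp, hπξ, F.map_zero, zero_comp, comp_zero]
    obtain ⟨z, hz⟩ : ∃ z : F'.obj (((DEquiv.singleB A).obj (kernel π))⟦(1 : ℤ)⟧) ⟶
        F'.obj (((DEquiv.singleB A).obj Y)⟦q + 1⟧), η = F'.map (δB hS) ≫ z :=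
      Triangle.yoneda_exact₂ _ (F'.map_distinguished _ hr) η hη0
    obtain ⟨ξ'', hξ''⟩ := (hlev (kernel π)).surj z
    refine ⟨δB hS ≫ ξ'', ?_⟩
    show F'.map (δB hS ≫ ξ'') = η
    rw [F'.map_comp, hξ'', ← hz]

include θ h2 in
lemma claim_nat : ∀ n : ℕ, Claim F' (A := A) (n : ℤ) := by
  intro n
  induction n with
  | zero => exact claim_zero F F' θ
  | succ n ih =>
    have : ((n + 1 : ℕ) : ℤ) = (n : ℤ) + 1 := by push_cast; ring
    rw [this]
    exact claim_step F F' θ h2 (n : ℤ) (by omega) ih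

include θ h2 in
lemma claim_all (q : ℤ) : Claim F' (A := A) q := by
  by_cases hq : q < 0
  · exact claim_neg F F' h2 q hq
  · obtain ⟨n, rfl⟩ := Int.eq_ofNat_of_zero_le (not_lt.1 hq)
    exact claim_nat F F' θ h2 n

include θ h2 in
/-- a sibling of a fully faithful functor is fully faithful -/
theorem full_faithful : F'.Full ∧ F'.Faithful := by
  have gen : ∀ (X Y : A) (a b : ℤ), Bij F' (((DEquiv.singleB A).obj X)⟦a⟧)
      (((DEquiv.singleB A).obj Y)⟦b⟧) := fun X Y a b =>
    bij_of_iso_right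
      ((shiftFunctorAdd' (DerivedCategory.Bounded A) (b - a) a b (by omega)).symm.app _)
      (bij_shift a (claim_all F F' θ h2 (b - a) X Y))
  have step1 : ∀ (K : DerivedCategory.Bounded A) (Y : A) (b : ℤ),
      Bij F' K (((DEquiv.singleB A).obj Y)⟦b⟧) := by
    intro K Y b
    have hHL : ∀ B, SiblingsDb.HB (A := A) B →
        PL F' (((DEquiv.singleB A).obj Y)⟦b⟧) B := by
      rintro B ⟨X, ⟨e⟩⟩ i
      exact bij_of_iso_left ((shiftFunctor _ i).mapIso e.symm) (gen X Y i b)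
    obtain ⟨a, n, hg⟩ := exists_good K
    have h1 := PL_of_good SiblingsDb.HB _ hHL n _ hg
    have h3 := PL_of_iso ((shiftEquiv (DerivedCategory.Bounded A) a).unitIso.app K).symm
      (PL_shift (-a) h1)
    exact bij_of_iso_left ((shiftFunctorZero (DerivedCategory.Bounded A) ℤ).app K) (h3 0)
  have step2 : ∀ K L : DerivedCategory.Bounded A, Bij F' K L := by
    intro K L
    have hHK : ∀ B, SiblingsDb.HB (A := A) B → QK F' K B := by
      rintro B ⟨Y, ⟨e⟩⟩ i
      exact bij_of_iso_right ((shiftFunctor _ i).mapIso e.symm) (step1 K Y i)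
    obtain ⟨a, n, hg⟩ := exists_good L
    have h1 := QK_of_good SiblingsDb.HB _ hHK n _ hg
    have h3 := QK_of_iso ((shiftEquiv (DerivedCategory.Bounded A) a).unitIso.app L).symm
      (QK_shift (-a) h1)
    exact bij_of_iso_right ((shiftFunctorZero (DerivedCategory.Bounded A) ℤ).app L) (h3 0)
  exact ⟨⟨fun {K L} η => (step2 K L).2 η⟩, ⟨fun {K L} f f' h => (step2 K L).1 h⟩⟩

end Main

end Groth.Agent.Lib.SibFF
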