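import Mathlib
import Groth.Prelude.Def_W4stkfunctorsequivSib
import Groth.Agent.Lib.SibFF_helper7

/-!
# Siblings of a fully faithful functor are isomorphic, part 1 (helper7)

Amplitude predicates on `D^b(A)`, the standard isomorphisms `F (N[m]) ≅ F' (N[m])` induced by an
isomorphism `θ` of the restrictions to the heart, their compatibility with shifts, and the notion of
a natural family of isomorphisms on the objects of amplitude `[a, b]`.
-/

set_option autoImplicit false
set_option backward.isDefEq.respectTransparency false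
universe w v u v' u'
open CategoryTheory Limits Pretriangulated DerivedCategory DerivedCategory.TStructure

namespace Groth.Agent.Lib.SibIso

open SibFF (ιb)

variable {A : Type u} [Category.{v} A] [Abelian A] [HasDerivedCategory.{w} A]

variable (A) in
/-- the canonical t-structure on the derived category -/
noncomputable abbrev tt : Triangulated.TStructure (DerivedCategory A) :=
  DerivedCategory.TStructure.t

/-- cohomological amplitude in `[a, b]` -/
def S (a b : ℤ) (X : DerivedCategory.Bounded A) : Prop :=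
  (tt A).IsGE ((ιb A).obj X) a ∧ (tt A).IsLE ((ιb A).obj X) b

/-- the object `N` placed in cohomological degree `-m` -/
noncomputable abbrev L (N : A) (m : ℤ) : DerivedCategory.Bounded A :=
  ((DEquiv.singleB A).obj N)⟦m⟧

lemma S_of_iso {a b : ℤ} {X X' : DerivedCategory.Bounded A} (e : X ≅ X') (h : S a b X) :
    S a b X' := by
  haveI := h.1
  haveI := h.2
  exact ⟨(tt A).isGE_of_iso ((ιb A).mapIso e) a, (tt A).isLE_of_iso ((ιb A).mapIso e) b⟩

lemma S_mono {a b a' b' : ℤ} {X : DerivedCategory.Bounded A} (h : S a b X) (ha : a' ≤ a)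
    (hb : b ≤ b') : S a' b' X := by
  haveI := h.1
  haveI := h.2
  exact ⟨(tt A).isGE_of_ge _ a' a ha, (tt A).isLE_of_le _ b b' hb⟩

lemma S_L (N : A) (m a b : ℤ) (ha : a ≤ -m) (hb : -m ≤ b) : S a b (L N m) := by
  have e : ((DerivedCategory.singleFunctor A 0).obj N)⟦m⟧ ≅ (ιb A).obj (L N m) :=
    (((ιb A).commShiftIso m).app ((DEquiv.singleB A).obj N)).symm
  haveI : (tt A).IsGE (((DerivedCategory.singleFunctor A 0).obj N)⟦m⟧) (-m) :=
    (tt A).isGE_shift _ 0 m (-m) (by omega)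
  haveI : (tt A).IsLE (((DerivedCategory.singleFunctor A 0).obj N)⟦m⟧) (-m) :=
    (tt A).isLE_shift _ 0 m (-m) (by omega)
  haveI : (tt A).IsGE (((DerivedCategory.singleFunctor A 0).obj N)⟦m⟧) a :=
    (tt A).isGE_of_ge _ a (-m) ha
  haveI : (tt A).IsLE (((DerivedCategory.singleFunctor A 0).obj N)⟦m⟧) b :=
    (tt A).isLE_of_le _ (-m) b hb
  exact ⟨(tt A).isGE_of_iso e a, (tt A).isLE_of_iso e b⟩

lemma hom_to_L_zero {Y : DerivedCategory.Bounded A} (N : A) (b b' : ℤ) (hbb' : b < b')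
    (hY : (tt A).IsLE ((ιb A).obj Y) b) (g : Y ⟶ L N (-b')) : g = 0 := by
  apply (ιb A).map_injective
  rw [(ιb A).map_zero]
  have h := (S_L N (-b') b' b' (by omega) (by omega)).1
  exact (tt A).zero_of_isLE_of_isGE _ b b' hbb' hY h

lemma exists_iso_L {a : ℤ} {X : DerivedCategory.Bounded A} (h : S a a X) :
    ∃ N : A, Nonempty (X ≅ L N (-a)) := by
  haveI := h.1
  haveI := h.2
  obtain ⟨N, ⟨e⟩⟩ := DerivedCategory.exists_iso_singleFunctor_obj_of_isGE_of_isLE
    ((ιb A).obj X) a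
  have e' : (DerivedCategory.singleFunctor A a).obj N ≅ (ιb A).obj (L N (-a)) :=
    (((DerivedCategory.singleFunctors A).shiftIso (-a) a 0 (by omega)).app N).symm ≪≫
      (((ιb A).commShiftIso (-a)).app ((DEquiv.singleB A).obj N)).symm
  exact ⟨N, ⟨(ιb A).preimageIso (e ≪≫ e')⟩⟩

section Conj

variable {D : Type u'} [Category.{v'} D] [HasShift D ℤ]
  (G G' : DerivedCategory.Bounded A ⥤ D) [G.CommShift ℤ] [G'.CommShift ℤ]

/-- the shift-conjugate of a morphism `G X ⟶ G' X` -/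
noncomputable def conj {X : DerivedCategory.Bounded A} (α : G.obj X ⟶ G'.obj X) (m : ℤ) :
    G.obj (X⟦m⟧) ⟶ G'.obj (X⟦m⟧) :=
  (G.commShiftIso m).hom.app X ≫ α⟦m⟧' ≫ (G'.commShiftIso m).inv.app X

lemma conj_nat {X X' : DerivedCategory.Bounded A} (f : X ⟶ X') (α : G.obj X ⟶ G'.obj X)
    (α' : G.obj X' ⟶ G'.obj X') (h : G.map f ≫ α' = α ≫ G'.map f) (m : ℤ) :
    G.map (f⟦m⟧') ≫ conj G G' α' m = conj G G' α m ≫ G'.map (f⟦m⟧') := by
  have n1 : G.map (f⟦m⟧') ≫ (G.commShiftIso m).hom.app X' =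
      (G.commShiftIso m).hom.app X ≫ (G.map f)⟦m⟧' := (G.commShiftIso m).hom.naturality f
  have n2 : (G'.map f)⟦m⟧' ≫ (G'.commShiftIso m).inv.app X' =
      (G'.commShiftIso m).inv.app X ≫ G'.map (f⟦m⟧') := (G'.commShiftIso m).inv.naturality f
  have n3 : (G.map f)⟦m⟧' ≫ α'⟦m⟧' = α⟦m⟧' ≫ (G'.map f)⟦m⟧' := by
    rw [← Functor.map_comp, h, Functor.map_comp]
  dsimp only [conj]
  rw [reassoc_of% n1, reassoc_of% n3, n2, Category.assoc, Category.assoc]

lemma conj_add {X : DerivedCategory.Bounded A} (α : G.obj X ⟶ G'.obj X) (n k nk : ℤ)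
    (h : n + k = nk) :
    conj G G' α nk =
      G.map ((shiftFunctorAdd' (DerivedCategory.Bounded A) n k nk h).hom.app X) ≫
      conj G G' (conj G G' α n) k ≫
      G'.map ((shiftFunctorAdd' (DerivedCategory.Bounded A) n k nk h).inv.app X) := by
  have e1 : (G.commShiftIso nk).hom.app X =
      G.map ((shiftFunctorAdd' (DerivedCategory.Bounded A) n k nk h).hom.app X) ≫
      (G.commShiftIso k).hom.app (X⟦n⟧) ≫ ((G.commShiftIso n).hom.app X)⟦k⟧' ≫
      (shiftFunctorAdd' D n k nk h).inv.app (G.obj X) := by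
    rw [G.commShiftIso_add' h]
    simp [Functor.CommShift.isoAdd'_hom_app]
  have e2 : (G'.commShiftIso nk).inv.app X = (shiftFunctorAdd' D n k nk h).hom.app (G'.obj X) ≫
      ((G'.commShiftIso n).inv.app X)⟦k⟧' ≫ (G'.commShiftIso k).inv.app (X⟦n⟧) ≫
      G'.map ((shiftFunctorAdd' (DerivedCategory.Bounded A) n k nk h).inv.app X) := by
    rw [G'.commShiftIso_add' h]
    simp [Functor.CommShift.isoAdd'_inv_app]
  have e3 : α⟦nk⟧' ≫ (shiftFunctorAdd' D n k nk h).hom.app (G'.obj X) =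
      (shiftFunctorAdd' D n k nk h).hom.app (G.obj X) ≫ (α⟦n⟧')⟦k⟧' :=
    (shiftFunctorAdd' D n k nk h).hom.naturality α
  dsimp only [conj]
  rw [e1, e2]
  simp only [Category.assoc, Functor.map_comp]
  rw [reassoc_of% e3, Iso.inv_hom_id_app_assoc]

end Conj

section Std

variable {D : Type u'} [Category.{v'} D] [Preadditive D] [HasZeroObject D] [HasShift D ℤ]
  [∀ n : ℤ, (shiftFunctor D n).Additive] [Pretriangulated D]
  (F F' : DerivedCategory.Bounded A ⥤ D) [F.CommShift ℤ] [F.IsTriangulated]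
  [F'.CommShift ℤ] [F'.IsTriangulated]
  (θ : DEquiv.singleB A ⋙ F ≅ DEquiv.singleB A ⋙ F')

/-- the standard isomorphism on the shifted objects of the heart -/
noncomputable def std (N : A) (m : ℤ) : F.obj (L N m) ≅ F'.obj (L N m) :=
  (F.commShiftIso m).app ((DEquiv.singleB A).obj N) ≪≫ (shiftFunctor D m).mapIso (θ.app N) ≪≫
    ((F'.commShiftIso m).app ((DEquiv.singleB A).obj N)).symm

lemma std_hom (N : A) (m : ℤ) : (std F F' θ N m).hom =
    conj F F' (X := (DEquiv.singleB A).obj N) (θ.hom.app N) m := rfl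

lemma std_nat {N N' : A} (g : N ⟶ N') (m : ℤ) :
    F.map (((DEquiv.singleB A).map g)⟦m⟧') ≫ (std F F' θ N' m).hom =
      (std F F' θ N m).hom ≫ F'.map (((DEquiv.singleB A).map g)⟦m⟧') := by
  rw [std_hom, std_hom]
  exact conj_nat F F' ((DEquiv.singleB A).map g) _ _ (θ.hom.naturality g) m

lemma std_nat' (N N' : A) (m : ℤ) (u : L N m ⟶ L N' m) :
    F.map u ≫ (std F F' θ N' m).hom = (std F F' θ N m).hom ≫ F'.map u := by
  obtain ⟨u', rfl⟩ := (shiftFunctor (DerivedCategory.Bounded A) m).map_surjective u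
  obtain ⟨g, rfl⟩ := SiblingsDb.singleB_map_surjective u'
  exact std_nat F F' θ g m

lemma tr_nat {X X' : DerivedCategory.Bounded A} (m : ℤ) {N N' : A} (e : X ≅ L N m)
    (e' : X' ≅ L N' m) (f : X ⟶ X') :
    F.map f ≫ (F.map e'.hom ≫ (std F F' θ N' m).hom ≫ F'.map e'.inv) =
      (F.map e.hom ≫ (std F F' θ N m).hom ≫ F'.map e.inv) ≫ F'.map f := by
  have hu := std_nat' F F' θ N N' m (e.inv ≫ f ≫ e'.hom)
  have h1 : F.map f ≫ F.map e'.hom = F.map e.hom ≫ F.map (e.inv ≫ f ≫ e'.hom) := by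
    rw [← F.map_comp, ← F.map_comp, Iso.hom_inv_id_assoc]
  have h2 : F'.map (e.inv ≫ f ≫ e'.hom) ≫ F'.map e'.inv = F'.map e.inv ≫ F'.map f := by
    rw [← F'.map_comp, ← F'.map_comp, Category.assoc, Category.assoc, Iso.hom_inv_id,
      Category.comp_id]
  rw [reassoc_of% h1, reassoc_of% hu, h2, Category.assoc, Category.assoc]

/-- a natural family of isomorphisms `F X ≅ F' X` on the objects of amplitude `[a, b]`, restricting
to the standard isomorphisms on shifted objects of the heart -/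
structure NatFam (a b : ℤ) where
  /-- the components -/
  c : ∀ X : DerivedCategory.Bounded A, F.obj X ⟶ F'.obj X
  iso : ∀ X, S a b X → IsIso (c X)
  nat : ∀ {X X' : DerivedCategory.Bounded A} (f : X ⟶ X'), S a b X → S a b X' →
    F.map f ≫ c X' = c X ≫ F'.map f
  base : ∀ (N : A) (m : ℤ), a ≤ -m → -m ≤ b → c (L N m) = (std F F' θ N m).hom

variable {F F' θ}

lemma NatFam.sc {a b : ℤ} (Φ : NatFam F F' θ a b) (N : A) (m : ℤ) (ha : a ≤ -m - 1)
    (hb : -m - 1 ≤ b) :
    Φ.c ((L N m)⟦(1 : ℤ)⟧) = conj F F' (std F F' θ N m).hom 1 := by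
  have hS1 : S a b (L N (m + 1)) := S_L N (m + 1) a b (by omega) (by omega)
  have hS2 : S a b ((L N m)⟦(1 : ℤ)⟧) :=
    S_of_iso ((shiftFunctorAdd' (DerivedCategory.Bounded A) m 1 (m + 1) rfl).app
      ((DEquiv.singleB A).obj N)) hS1
  have h1 := Φ.nat ((shiftFunctorAdd' (DerivedCategory.Bounded A) m 1 (m + 1) rfl).hom.app
      ((DEquiv.singleB A).obj N)) hS1 hS2
  rw [Φ.base N (m + 1) (by omega) (by omega), std_hom,
    conj_add F F' _ m 1 (m + 1) rfl] at h1
  have h2 : F'.map ((shiftFunctorAdd' (DerivedCategory.Bounded A) m 1 (m + 1) rfl).inv.app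
      ((DEquiv.singleB A).obj N)) ≫
      F'.map ((shiftFunctorAdd' (DerivedCategory.Bounded A) m 1 (m + 1) rfl).hom.app
      ((DEquiv.singleB A).obj N)) = 𝟙 (F'.obj ((L N m)⟦(1 : ℤ)⟧)) := by
    rw [← F'.map_comp, Iso.inv_hom_id_app]
    exact F'.map_id _
  rw [Category.assoc, Category.assoc, h2] at h1
  have h3 := (cancel_epi _).1 h1
  exact h3.trans (Category.comp_id _)

variable (F F' θ)

open Classical in
/-- the family on the objects concentrated in a single degree -/
noncomputable def c1 (a : ℤ) (X : DerivedCategory.Bounded A) : F.obj X ⟶ F'.obj X :=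
  if h : ∃ N : A, Nonempty (X ≅ L N (-a)) then
    F.map h.choose_spec.some.hom ≫ (std F F' θ h.choose (-a)).hom ≫
      F'.map h.choose_spec.some.inv
  else 0

lemma c1_eq (a : ℤ) {X : DerivedCategory.Bounded A} (N : A) (e : X ≅ L N (-a)) :
    c1 F F' θ a X = F.map e.hom ≫ (std F F' θ N (-a)).hom ≫ F'.map e.inv := by
  have h : ∃ N : A, Nonempty (X ≅ L N (-a)) := ⟨N, ⟨e⟩⟩
  have := tr_nat F F' θ (-a) e h.choose_spec.some (𝟙 X)
  simp only [CategoryTheory.Functor.map_id, Category.id_comp, Category.comp_id] at this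
  rw [c1, dif_pos h]
  exact this

theorem stage1 (a : ℤ) : Nonempty (NatFam F F' θ a a) := by
  refine ⟨{ c := c1 F F' θ a, iso := ?_, nat := ?_, base := ?_ }⟩
  · intro X hX
    obtain ⟨N, ⟨e⟩⟩ := exists_iso_L hX
    rw [c1_eq F F' θ a N e]
    infer_instance
  · intro X X' f hX hX'
    obtain ⟨N, ⟨e⟩⟩ := exists_iso_L hX
    obtain ⟨N', ⟨e'⟩⟩ := exists_iso_L hX'
    rw [c1_eq F F' θ a N e, c1_eq F F' θ a N' e']
    exact tr_nat F F' θ (-a) e e' f
  · intro N m h1 h2
    obtain rfl : m = -a := by omega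
    rw [c1_eq F F' θ a N (Iso.refl _)]
    simp

end Std

end Groth.Agent.Lib.SibIso
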