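import Mathlib
import Groth.Prelude.Def_W4stkfunctorsequivSib
import Groth.Agent.Lib.SibIso1_helper7

/-!
# Siblings of a fully faithful functor are isomorphic, part 2 (helper7)

Presentations `N[-b'] ⟶ X ⟶ Y` of an object of amplitude `[a, b']` by an object `Y` of amplitude
`[a, b' - 1]` and a "negative" object `N` of the heart, placed in degree `b'`.
-/

set_option autoImplicit false
set_option backward.isDefEq.respectTransparency false
universe w v u v' u'
open CategoryTheory Limits Pretriangulated DerivedCategory DerivedCategory.TStructure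

namespace Groth.Agent.Lib.SibIso

open SibFF (ιb)

variable {A : Type u} [Category.{v} A] [Abelian A] [HasDerivedCategory.{w} A]

/-- comparison between `N[-b]` in the bounded derived category and the single complex -/
noncomputable def lam (b : ℤ) (N : A) :
    (ιb A).obj (L N (-b)) ≅ (DerivedCategory.singleFunctor A b).obj N :=
  ((ιb A).commShiftIso (-b)).app ((DEquiv.singleB A).obj N) ≪≫
    ((DerivedCategory.singleFunctors A).shiftIso (-b) b 0 (by omega)).app N

lemma comp_sq {C : Type*} [Category C] {a b c a' b' c' : C} (f : a ⟶ a') (p : a ⟶ b) (q : b ⟶ c)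
    (g : b ⟶ b') (h : c ⟶ c') (p' : a' ⟶ b') (q' : b' ⟶ c')
    (h1 : f ≫ p' = p ≫ g) (h2 : g ≫ q' = q ≫ h) : f ≫ p' ≫ q' = (p ≫ q) ≫ h := by
  rw [reassoc_of% h1, h2, Category.assoc]

lemma lam_nat (b : ℤ) {N N' : A} (g : N ⟶ N') :
    (ιb A).map (((DEquiv.singleB A).map g)⟦-b⟧') ≫ (lam b N').hom =
      (lam b N).hom ≫ (DerivedCategory.singleFunctor A b).map g := by
  have h1 := ((ιb A).commShiftIso (-b)).hom.naturality ((DEquiv.singleB A).map g)
  have h2 := ((DerivedCategory.singleFunctors A).shiftIso (-b) b 0 (by omega)).hom.naturality g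
  exact comp_sq _ _ _ _ _ _ _ h1 h2

section Cx

lemma epi_f_aux {P' P : CochainComplex A ℤ} (b : ℤ) (hd' : P'.d b (b + 1) = 0)
    (hd : P.d b (b + 1) = 0) (hd0 : P.d (b - 1) b = 0) (s : P' ⟶ P) [QuasiIsoAt s b] :
    Epi (s.f b) := by
  haveI := P'.isIso_iCycles b (b + 1) (by simp) hd'
  haveI := P.isIso_iCycles b (b + 1) (by simp) hd
  haveI := P.isIso_homologyπ (b - 1) b (by simp) hd0
  haveI : IsIso (HomologicalComplex.homologyMap s b) :=
    (quasiIsoAt_iff_isIso_homologyMap s b).1 inferInstance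
  have e1 : HomologicalComplex.cyclesMap s b ≫ P.iCycles b = P'.iCycles b ≫ s.f b :=
    HomologicalComplex.cyclesMap_i s b
  have e2 : P'.homologyπ b ≫ HomologicalComplex.homologyMap s b =
      HomologicalComplex.cyclesMap s b ≫ P.homologyπ b :=
    HomologicalComplex.homologyπ_naturality s b
  have e3 : s.f b = (inv (P'.iCycles b) ≫ P'.homologyπ b ≫ HomologicalComplex.homologyMap s b) ≫
      inv (P.homologyπ b) ≫ P.iCycles b := by
    rw [e2, Category.assoc, Category.assoc, IsIso.hom_inv_id_assoc, e1, IsIso.inv_hom_id_assoc]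
  rw [e3]
  infer_instance

lemma epi_f_of_qis (b : ℤ) (M : A) {P' : CochainComplex A ℤ} [P'.IsStrictlyLE b]
    (s : P' ⟶ (CochainComplex.singleFunctor A b).obj M) [QuasiIso s] : Epi (s.f b) :=
  epi_f_aux b ((P'.isZero_of_isStrictlyLE b (b + 1) (by omega)).eq_of_tgt _ _)
    ((HomologicalComplex.isZero_single_obj_X (ComplexShape.up ℤ) b M (b + 1)
      (by omega)).eq_of_tgt _ _)
    ((HomologicalComplex.isZero_single_obj_X (ComplexShape.up ℤ) b M (b - 1)
      (by omega)).eq_of_src _ _)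
    s

/-- effaceability: a morphism from an object of the heart in degree `b` to an object of
amplitude `≤ b - 1` is killed by an epimorphism of the heart -/
lemma efface' (M : A) (b : ℤ) (Z : DerivedCategory A) (hZ : (tt A).IsLE Z (b - 1))
    (ξ : (DerivedCategory.singleFunctor A b).obj M ⟶ Z) :
    ∃ (M' : A) (π : M' ⟶ M), Epi π ∧ (DerivedCategory.singleFunctor A b).map π ≫ ξ = 0 := by
  haveI := hZ
  obtain ⟨KZ, hKZ, ⟨eZ⟩⟩ := DerivedCategory.exists_iso_Q_obj_of_isLE Z (b - 1)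
  let P := (CochainComplex.singleFunctor A b).obj M
  let ξ₁ : Q.obj P ⟶ Q.obj KZ := ξ ≫ eZ.hom
  obtain ⟨P', hP', s, hs, g, fac⟩ := DerivedCategory.right_fac_of_isStrictlyLE ξ₁ b
  have hs' := hs
  rw [isIso_Q_map_iff_quasiIso] at hs'
  haveI : QuasiIso s := hs'
  haveI : Epi (s.f b) := epi_f_of_qis b M s
  let j : (HomologicalComplex.single A (ComplexShape.up ℤ) b).obj (P'.X b) ⟶ P' :=
    HomologicalComplex.mkHomFromSingle (𝟙 _) (fun k hk =>
      (P'.isZero_of_isStrictlyLE b k (by simp at hk; omega)).eq_of_tgt _ _)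
  obtain ⟨π₀, hπ₀⟩ := (HomologicalComplex.single A (ComplexShape.up ℤ) b).map_surjective (j ≫ s)
  have hjg : j ≫ g = 0 := by
    apply HomologicalComplex.from_single_hom_ext
    exact (KZ.isZero_of_isStrictlyLE (b - 1) b (by omega)).eq_of_tgt _ _
  have hepi : Epi π₀ := by
    have h1 := congrArg (fun φ => φ.f b) hπ₀
    simp only [HomologicalComplex.comp_f, HomologicalComplex.single_map_f_self,
      HomologicalComplex.mkHomFromSingle_f, j] at h1
    have h2 : π₀ = s.f b ≫ (HomologicalComplex.singleObjXSelf (ComplexShape.up ℤ) b M).hom := by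
      rw [← cancel_epi (HomologicalComplex.singleObjXSelf (ComplexShape.up ℤ) b (P'.X b)).hom,
        ← cancel_mono (HomologicalComplex.singleObjXSelf (ComplexShape.up ℤ) b M).inv]
      simpa using h1
    rw [h2]
    infer_instance
  refine ⟨P'.X b, π₀, hepi, ?_⟩
  rw [← cancel_mono eZ.hom, zero_comp, Category.assoc]
  show Q.map ((HomologicalComplex.single A (ComplexShape.up ℤ) b).map π₀) ≫ ξ₁ = 0
  rw [hπ₀, fac, Q.map_comp, Category.assoc, IsIso.hom_inv_id_assoc, ← Q.map_comp, hjg, Q.map_zero]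

/-- vanishing of morphisms to a negative object placed in the top degree -/
lemma hom_single_eq_zero (K : CochainComplex A ℤ) (b : ℤ) [K.IsStrictlyLE b] (N : A)
    (hN : ∀ g₀ : K.X b ⟶ N, g₀ = 0)
    (g : Q.obj K ⟶ (DerivedCategory.singleFunctor A b).obj N) : g = 0 := by
  let P := (CochainComplex.singleFunctor A b).obj N
  obtain ⟨Y', hY', g₀, s, hs, fac⟩ :=
    DerivedCategory.left_fac_of_isStrictlyGE (X := K) (Y := P) g b
  have hs' := hs
  rw [isIso_Q_map_iff_quasiIso] at hs'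
  haveI : QuasiIso s := hs'
  have hd0 : Y'.d (b - 1) b = 0 := (Y'.isZero_of_isStrictlyGE b (b - 1) (by omega)).eq_of_src _ _
  haveI := Y'.isIso_homologyπ (b - 1) b (by simp) hd0
  haveI : IsIso (HomologicalComplex.homologyMap s b) :=
    (quasiIsoAt_iff_isIso_homologyMap s b).1 inferInstance
  have h0 : g₀.f b ≫ Y'.d b (b + 1) = 0 := by
    rw [g₀.comm b (b + 1), (K.isZero_of_isStrictlyLE b (b + 1) (by omega)).eq_of_tgt
      (K.d b (b + 1)) 0, zero_comp]
  obtain ⟨ℓ, hℓ⟩ : ∃ ℓ : K.X b ⟶ Y'.cycles b, ℓ ≫ Y'.iCycles b = g₀.f b :=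
    ⟨Y'.liftCycles (g₀.f b) (b + 1) (by simp) h0, Y'.liftCycles_i _ _ _ _⟩
  have hzero := hN (ℓ ≫ Y'.homologyπ b ≫ inv (HomologicalComplex.homologyMap s b) ≫
    (HomologicalComplex.singleObjHomologySelfIso (ComplexShape.up ℤ) b N).hom)
  have hℓ0 : ℓ = 0 := by
    rw [← cancel_mono (Y'.homologyπ b ≫ inv (HomologicalComplex.homologyMap s b) ≫
      (HomologicalComplex.singleObjHomologySelfIso (ComplexShape.up ℤ) b N).hom), zero_comp]
    exact hzero
  have hg₀ : g₀ = 0 := by
    apply HomologicalComplex.hom_ext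
    intro i
    by_cases hi : i = b
    · subst hi
      rw [← hℓ, hℓ0, zero_comp]
      rfl
    · by_cases hi' : i < b
      · exact (Y'.isZero_of_isStrictlyGE b i hi').eq_of_tgt _ _
      · exact (K.isZero_of_isStrictlyLE b i (by omega)).eq_of_src _ _
  rw [fac, hg₀, Q.map_zero, zero_comp]

lemma epi_homologyMap_of_epi_f {P K : CochainComplex A ℤ} (b : ℤ) (hP : P.d b (b + 1) = 0)
    (hK : K.d b (b + 1) = 0) (ψ : P ⟶ K) (hψ : Epi (ψ.f b)) :
    Epi (HomologicalComplex.homologyMap ψ b) := by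
  haveI := P.isIso_iCycles b (b + 1) (by simp) hP
  haveI := K.isIso_iCycles b (b + 1) (by simp) hK
  have e1 : HomologicalComplex.cyclesMap ψ b ≫ K.iCycles b = P.iCycles b ≫ ψ.f b :=
    HomologicalComplex.cyclesMap_i ψ b
  have e2 : P.homologyπ b ≫ HomologicalComplex.homologyMap ψ b =
      HomologicalComplex.cyclesMap ψ b ≫ K.homologyπ b :=
    HomologicalComplex.homologyπ_naturality ψ b
  have e3 : HomologicalComplex.cyclesMap ψ b = P.iCycles b ≫ ψ.f b ≫ inv (K.iCycles b) := by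
    rw [← Category.assoc, ← e1, Category.assoc, IsIso.hom_inv_id, Category.comp_id]
  haveI : Epi (HomologicalComplex.cyclesMap ψ b) := by
    rw [e3]
    infer_instance
  haveI : Epi (P.homologyπ b ≫ HomologicalComplex.homologyMap ψ b) := by
    rw [e2]
    infer_instance
  exact epi_of_epi (P.homologyπ b) _

lemma epi_H_Q_map {P K : CochainComplex A ℤ} (b : ℤ) (ψ : P ⟶ K)
    (h : Epi (HomologicalComplex.homologyMap ψ b)) :
    Epi ((DerivedCategory.homologyFunctor A b).map (Q.map ψ)) := by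
  have nat : (DerivedCategory.homologyFunctor A b).map (Q.map ψ) ≫
      (DerivedCategory.homologyFunctorFactors A b).hom.app K =
      (DerivedCategory.homologyFunctorFactors A b).hom.app P ≫
        HomologicalComplex.homologyMap ψ b :=
    (DerivedCategory.homologyFunctorFactors A b).hom.naturality ψ
  have e : (DerivedCategory.homologyFunctor A b).map (Q.map ψ) =
      ((DerivedCategory.homologyFunctorFactors A b).hom.app P ≫
        HomologicalComplex.homologyMap ψ b) ≫
        (DerivedCategory.homologyFunctorFactors A b).inv.app K := by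
    rw [← nat, Category.assoc, Iso.hom_inv_id_app]
    exact (Category.comp_id _).symm
  rw [e]
  infer_instance

lemma cone_bounds (T : Triangle (DerivedCategory A)) (hT : T ∈ distTriang _) (a b : ℤ)
    (hab : a < b) (h2a : (tt A).IsGE T.obj₂ a) (h2b : (tt A).IsLE T.obj₂ b)
    (h1a : (tt A).IsGE T.obj₁ b) (h1b : (tt A).IsLE T.obj₁ b)
    (hepi : Epi ((DerivedCategory.homologyFunctor A b).map T.mor₁)) :
    (tt A).IsGE T.obj₃ a ∧ (tt A).IsLE T.obj₃ (b - 1) := by
  constructor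
  · refine (DerivedCategory.isGE_iff _ _).2 (fun i hi => ?_)
    have ex := DerivedCategory.HomologySequence.exact₃ T hT i (i + 1) rfl
    have z1 : IsZero ((DerivedCategory.homologyFunctor A i).obj T.obj₂) := by
      haveI := h2a
      exact DerivedCategory.isZero_of_isGE T.obj₂ a i hi
    have z3 : IsZero ((DerivedCategory.homologyFunctor A (i + 1)).obj T.obj₁) := by
      haveI := h1a
      exact DerivedCategory.isZero_of_isGE T.obj₁ b (i + 1) (by omega)
    exact ex.isZero_X₂ (z1.eq_of_src _ _) (z3.eq_of_tgt _ _)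
  · refine (DerivedCategory.isLE_iff _ _).2 (fun i hi => ?_)
    have z3 : IsZero ((DerivedCategory.homologyFunctor A (i + 1)).obj T.obj₁) := by
      haveI := h1b
      exact DerivedCategory.isZero_of_isLE T.obj₁ b (i + 1) (by omega)
    have hδ : DerivedCategory.HomologySequence.δ T i (i + 1) rfl = 0 := z3.eq_of_tgt _ _
    haveI : Epi ((DerivedCategory.homologyFunctor A i).map T.mor₂) :=
      (DerivedCategory.HomologySequence.epi_homologyMap_mor₂_iff T hT i (i + 1) rfl).2 hδ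
    have h0 : (DerivedCategory.homologyFunctor A i).map T.mor₂ = 0 := by
      by_cases hib : i = b
      · subst hib
        exact (DerivedCategory.HomologySequence.epi_homologyMap_mor₁_iff T hT i).1 hepi
      · have z2 : IsZero ((DerivedCategory.homologyFunctor A i).obj T.obj₂) := by
          haveI := h2b
          exact DerivedCategory.isZero_of_isLE T.obj₂ b i (by omega)
        exact z2.eq_of_src _ _
    rw [IsZero.iff_id_eq_zero, ← cancel_epi ((DerivedCategory.homologyFunctor A i).map T.mor₂),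
      Category.comp_id, comp_zero]
    exact h0

end Cx

/-- a presentation of `X` at level `b'` -/
structure Pres (a b b' : ℤ) (X : DerivedCategory.Bounded A) where
  /-- the negative object -/
  N : A
  /-- the cone -/
  Y : DerivedCategory.Bounded A
  /-- first morphism -/
  x : L N (-b') ⟶ X
  /-- second morphism -/
  y : X ⟶ Y
  /-- third morphism -/
  δ : Y ⟶ (L N (-b'))⟦(1 : ℤ)⟧
  dist : Triangle.mk x y δ ∈ distTriang (DerivedCategory.Bounded A)
  hY : S a b Y
  van : ∀ g : X ⟶ L N (-b'), g = 0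

lemma Pres.exists_v {a b b' : ℤ} {X : DerivedCategory.Bounded A} (p : Pres a b b' X)
    {W : DerivedCategory.Bounded A} (g : X ⟶ W) (h : p.x ≫ g = 0) :
    ∃ v : p.Y ⟶ W, p.y ≫ v = g := by
  obtain ⟨v, hv⟩ : ∃ v : p.Y ⟶ W, g = p.y ≫ v := Triangle.yoneda_exact₂ _ p.dist g h
  exact ⟨v, hv.symm⟩

/-- existence of presentations with prescribed vanishing -/
def HasPres (A : Type u) [Category.{v} A] [Abelian A] [HasDerivedCategory.{w} A]
    (a b b' : ℤ) : Prop :=
  ∀ (X X₂ Z₁ Z₂ : DerivedCategory.Bounded A), S a b' X → (tt A).IsLE ((ιb A).obj X₂) b' →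
    (tt A).IsLE ((ιb A).obj Z₁) b → (tt A).IsLE ((ιb A).obj Z₂) b →
    ∀ (z₁ : X ⟶ Z₁) (z₂ : X ⟶ Z₂),
    ∃ p : Pres a b b' X, p.x ≫ z₁ = 0 ∧ p.x ≫ z₂ = 0 ∧ ∀ g : X₂ ⟶ L p.N (-b'), g = 0

theorem exists_pres (hneg : ∀ X : A, ∃ (N : A) (p : N ⟶ X), Epi p ∧ ∀ f : X ⟶ N, f = 0)
    (a b b' : ℤ) (hb : b + 1 = b') (hab : a ≤ b) : HasPres A a b b' := by
  intro X X₂ Z₁ Z₂ hX hX₂ hZ₁ hZ₂ z₁ z₂
  haveI := hX.1
  haveI := hX.2
  haveI := hX₂
  obtain ⟨K, hKa, hKb, ⟨eK⟩⟩ :=
    DerivedCategory.exists_iso_Q_obj_of_isGE_of_isLE ((ιb A).obj X) a b'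
  obtain ⟨K₂, hK₂, ⟨eK₂⟩⟩ := DerivedCategory.exists_iso_Q_obj_of_isLE ((ιb A).obj X₂) b'
  let j : (HomologicalComplex.single A (ComplexShape.up ℤ) b').obj (K.X b') ⟶ K :=
    HomologicalComplex.mkHomFromSingle (𝟙 _) (fun k hk =>
      (K.isZero_of_isStrictlyLE b' k (by simp at hk; omega)).eq_of_tgt _ _)
  obtain ⟨x₀, hx₀⟩ : ∃ x₀ : (DerivedCategory.singleFunctor A b').obj (K.X b') ⟶ (ιb A).obj X,
    x₀ = Q.map j ≫ eK.inv := ⟨_, rfl⟩
  have hbb : b' - 1 = b := by omega
  have hZ₁' : (tt A).IsLE ((ιb A).obj Z₁) (b' - 1) := by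
    rw [hbb]
    exact hZ₁
  have hZ₂' : (tt A).IsLE ((ιb A).obj Z₂) (b' - 1) := by
    rw [hbb]
    exact hZ₂
  obtain ⟨M₁, π₁, hπ₁, h1⟩ := efface' (K.X b') b' _ hZ₁' (x₀ ≫ (ιb A).map z₁)
  obtain ⟨M₂, π₂, hπ₂, h2⟩ := efface' M₁ b' _ hZ₂'
    ((DerivedCategory.singleFunctor A b').map π₁ ≫ x₀ ≫ (ιb A).map z₂)
  obtain ⟨N, p, hp, hN⟩ := hneg (M₂ ⊞ (K.X b' ⊞ K₂.X b'))
  have hNM : ∀ g₀ : K.X b' ⟶ N, g₀ = 0 := fun g₀ => by
    have h3 := hN (biprod.snd ≫ biprod.fst ≫ g₀)
    have h4 : (biprod.inl ≫ biprod.inr : K.X b' ⟶ M₂ ⊞ (K.X b' ⊞ K₂.X b')) ≫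
        (biprod.snd ≫ biprod.fst ≫ g₀) = g₀ := by simp
    rw [← h4, h3, comp_zero]
  have hNK₂ : ∀ g₀ : K₂.X b' ⟶ N, g₀ = 0 := fun g₀ => by
    have h3 := hN (biprod.snd ≫ biprod.snd ≫ g₀)
    have h4 : (biprod.inr ≫ biprod.inr : K₂.X b' ⟶ M₂ ⊞ (K.X b' ⊞ K₂.X b')) ≫
        (biprod.snd ≫ biprod.snd ≫ g₀) = g₀ := by simp
    rw [← h4, h3, comp_zero]
  haveI := hp
  haveI := hπ₁
  haveI := hπ₂
  obtain ⟨q, hq⟩ : ∃ q : N ⟶ K.X b', q = p ≫ biprod.fst ≫ π₂ ≫ π₁ := ⟨_, rfl⟩
  haveI : Epi q := by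
    rw [hq]
    infer_instance
  have hqmap : (DerivedCategory.singleFunctor A b').map q =
      (DerivedCategory.singleFunctor A b').map (p ≫ biprod.fst) ≫
      (DerivedCategory.singleFunctor A b').map π₂ ≫
      (DerivedCategory.singleFunctor A b').map π₁ := by
    rw [hq]
    simp only [Functor.map_comp, Category.assoc]
  obtain ⟨ψ, hψ⟩ : ∃ ψ : (HomologicalComplex.single A (ComplexShape.up ℤ) b').obj N ⟶ K,
    ψ = (HomologicalComplex.single A (ComplexShape.up ℤ) b').map q ≫ j := ⟨_, rfl⟩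
  obtain ⟨x, hx⟩ : ∃ x : L N (-b') ⟶ X, (ιb A).map x =
      (lam b' N).hom ≫ (DerivedCategory.singleFunctor A b').map q ≫ x₀ :=
    ⟨(ιb A).preimage _, Functor.map_preimage _ _⟩
  obtain ⟨Y, y, δ, hT⟩ := distinguished_cocone_triangle x
  have hz₁ : x ≫ z₁ = 0 := by
    apply (ιb A).map_injective
    rw [(ιb A).map_zero, Functor.map_comp, hx, hqmap]
    simp only [Category.assoc]
    rw [h1]
    simp
  have hz₂ : x ≫ z₂ = 0 := by
    apply (ιb A).map_injective
    rw [(ιb A).map_zero, Functor.map_comp, hx, hqmap]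
    simp only [Category.assoc]
    rw [h2]
    simp
  have van : ∀ g : X ⟶ L N (-b'), g = 0 := fun g => by
    apply (ιb A).map_injective
    rw [(ιb A).map_zero]
    have h0 := hom_single_eq_zero K b' N hNM (eK.inv ≫ (ιb A).map g ≫ (lam b' N).hom)
    have h5 : (ιb A).map g = eK.hom ≫ (eK.inv ≫ (ιb A).map g ≫ (lam b' N).hom) ≫
        (lam b' N).inv := by simp
    rw [h5, h0, zero_comp, comp_zero]
  have van₂ : ∀ g : X₂ ⟶ L N (-b'), g = 0 := fun g => by
    apply (ιb A).map_injective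
    rw [(ιb A).map_zero]
    have h0 := hom_single_eq_zero K₂ b' N hNK₂ (eK₂.inv ≫ (ιb A).map g ≫ (lam b' N).hom)
    have h5 : (ιb A).map g = eK₂.hom ≫ (eK₂.inv ≫ (ιb A).map g ≫ (lam b' N).hom) ≫
        (lam b' N).inv := by simp
    rw [h5, h0, zero_comp, comp_zero]
  have hψf : Epi (ψ.f b') := by
    rw [hψ, HomologicalComplex.comp_f, HomologicalComplex.single_map_f_self,
      HomologicalComplex.mkHomFromSingle_f]
    infer_instance
  have hdP : ((HomologicalComplex.single A (ComplexShape.up ℤ) b').obj N).d b' (b' + 1) = 0 :=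
    (HomologicalComplex.isZero_single_obj_X (ComplexShape.up ℤ) b' N (b' + 1)
      (by omega)).eq_of_tgt _ _
  have hdK : K.d b' (b' + 1) = 0 :=
    (K.isZero_of_isStrictlyLE b' (b' + 1) (by omega)).eq_of_tgt _ _
  have hx' : (ιb A).map x = (lam b' N).hom ≫ Q.map ψ ≫ eK.inv := by
    rw [hx, hx₀, hψ, Q.map_comp, Category.assoc] <;> rfl
  have hepi : Epi ((DerivedCategory.homologyFunctor A b').map ((ιb A).map x)) := by
    rw [hx', Functor.map_comp, Functor.map_comp]
    haveI := epi_H_Q_map b' ψ (epi_homologyMap_of_epi_f b' hdP hdK ψ hψf)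
    infer_instance
  have hTι : (ιb A).mapTriangle.obj (Triangle.mk x y δ) ∈ distTriang (DerivedCategory A) := hT
  have hYb := cone_bounds _ hTι a b' (by omega) hX.1 hX.2
    (S_L N (-b') b' b' (by omega) (by omega)).1 (S_L N (-b') b' b' (by omega) (by omega)).2 hepi
  have hY : S a b Y := ⟨hYb.1, by
    have h := hYb.2
    rw [hbb] at h
    exact h⟩
  exact ⟨{ N := N, Y := Y, x := x, y := y, δ := δ, dist := hT, hY := hY, van := van },
    hz₁, hz₂, van₂⟩

end Groth.Agent.Lib.SibIso
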