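import Mathlib
import Groth.Prelude.Def_W4stkfunctorsequivSib
import Groth.Agent.Lib.SibIso2_helper7

/-!
# Siblings of a fully faithful functor are isomorphic, part 3 (helper7)

The inductive construction of the natural isomorphism, following Orlov's argument with negative
objects.
-/

set_option autoImplicit false
set_option backward.isDefEq.respectTransparency false
universe w v u v' u'
open CategoryTheory Limits Pretriangulated DerivedCategory DerivedCategory.TStructure ZeroObject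

namespace Groth.Agent.Lib.SibIso

open SibFF (ιb)

variable {A : Type u} [Category.{v} A] [Abelian A] [HasDerivedCategory.{w} A]
  {D : Type u'} [Category.{v'} D] [Preadditive D] [HasZeroObject D] [HasShift D ℤ]
  [∀ n : ℤ, (shiftFunctor D n).Additive] [Pretriangulated D]
  {F F' : DerivedCategory.Bounded A ⥤ D} [F.CommShift ℤ] [F.IsTriangulated]
  [F'.CommShift ℤ] [F'.IsTriangulated]
  (θ : DEquiv.singleB A ⋙ F ≅ DEquiv.singleB A ⋙ F') [F.Full]

include θ in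
lemma key {a b b' : ℤ} {X X' Y : DerivedCategory.Bounded A} (p' : Pres a b b' X')
    (hvan : ∀ g : X ⟶ L p'.N (-b'), g = 0) (y : X ⟶ Y) (γ : F.obj Y ⟶ F'.obj Y)
    (γ' : F.obj p'.Y ⟶ F'.obj p'.Y)
    (φ : F.obj X ⟶ F'.obj X) (hφ : F.map y ≫ γ = φ ≫ F'.map y)
    (φ' : F.obj X' ⟶ F'.obj X') (hφ' : F.map p'.y ≫ γ' = φ' ≫ F'.map p'.y)
    (f : X ⟶ X') (v : Y ⟶ p'.Y) (hv : y ≫ v = f ≫ p'.y)
    (hγ : F.map v ≫ γ' = γ ≫ F'.map v) :
    F.map f ≫ φ' = φ ≫ F'.map f := by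
  have hT' := F'.map_distinguished _ p'.dist
  have t1 : (F.map f ≫ φ') ≫ F'.map p'.y = F.map y ≫ γ ≫ F'.map v := by
    rw [Category.assoc, ← hφ', ← F.map_comp_assoc, ← hv, F.map_comp_assoc, hγ]
  have t2 : (φ ≫ F'.map f) ≫ F'.map p'.y = F.map y ≫ γ ≫ F'.map v := by
    rw [Category.assoc, ← F'.map_comp, ← hv, F'.map_comp, ← Category.assoc, ← hφ,
      Category.assoc]
  have h0 : (F.map f ≫ φ' - φ ≫ F'.map f) ≫ F'.map p'.y = 0 := by
    rw [Preadditive.sub_comp, t1, t2, sub_self]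
  obtain ⟨ψ', hψ'⟩ : ∃ ψ' : F.obj X ⟶ F'.obj (L p'.N (-b')),
      F.map f ≫ φ' - φ ≫ F'.map f = ψ' ≫ F'.map p'.x :=
    Triangle.coyoneda_exact₂ _ hT' _ h0
  obtain ⟨u, hu⟩ := F.map_surjective (ψ' ≫ (std F F' θ p'.N (-b')).inv)
  have hu0 : u = 0 := hvan u
  have h1 : ψ' ≫ (std F F' θ p'.N (-b')).inv = 0 := by rw [← hu, hu0, F.map_zero]
  have h2 : ψ' = 0 := by
    rw [← cancel_mono (std F F' θ p'.N (-b')).inv, zero_comp]
    exact h1
  rw [h2, zero_comp] at hψ'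
  exact sub_eq_zero.1 hψ'

omit [F.Full] in
lemma pres_phi {a b b' : ℤ} (hb : b + 1 = b') (hab : a ≤ b) (Φ : NatFam F F' θ a b)
    {X : DerivedCategory.Bounded A} (p : Pres a b b' X) :
    ∃ φ : F.obj X ⟶ F'.obj X, IsIso φ ∧
      F.map p.x ≫ φ = (std F F' θ p.N (-b')).hom ≫ F'.map p.x ∧
      F.map p.y ≫ Φ.c p.Y = φ ≫ F'.map p.y := by
  have hL0 : S a b (L p.N (-b' + 1)) := S_L p.N (-b' + 1) a b (by omega) (by omega)
  have hL1 : S a b ((L p.N (-b'))⟦(1 : ℤ)⟧) :=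
    S_of_iso ((shiftFunctorAdd' (DerivedCategory.Bounded A) (-b') 1 (-b' + 1) rfl).app
      ((DEquiv.singleB A).obj p.N)) hL0
  have sc := Φ.sc p.N (-b') (by omega) (by omega)
  have nat := Φ.nat p.δ p.hY hL1
  rw [sc] at nat
  have hT := F.map_distinguished _ p.dist
  have hT' := F'.map_distinguished _ p.dist
  have comm : (F.map p.δ ≫ (F.commShiftIso (1 : ℤ)).hom.app (L p.N (-b'))) ≫
      ((std F F' θ p.N (-b')).hom)⟦(1 : ℤ)⟧' =
      Φ.c p.Y ≫ (F'.map p.δ ≫ (F'.commShiftIso (1 : ℤ)).hom.app (L p.N (-b'))) := by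
    have h1 : conj F F' (std F F' θ p.N (-b')).hom 1 ≫
        (F'.commShiftIso (1 : ℤ)).hom.app (L p.N (-b')) =
        (F.commShiftIso (1 : ℤ)).hom.app (L p.N (-b')) ≫
          ((std F F' θ p.N (-b')).hom)⟦(1 : ℤ)⟧' := by
      simp [conj]
    rw [Category.assoc, ← h1, ← Category.assoc, nat, Category.assoc]
  obtain ⟨φ, hφ1, hφ2⟩ : ∃ φ : F.obj X ⟶ F'.obj X,
      F.map p.x ≫ φ = (std F F' θ p.N (-b')).hom ≫ F'.map p.x ∧
      F.map p.y ≫ Φ.c p.Y = φ ≫ F'.map p.y :=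
    complete_distinguished_triangle_morphism₂ _ _ hT hT' _ _ comm
  have hiso : IsIso φ := by
    let Ψ : F.mapTriangle.obj (Triangle.mk p.x p.y p.δ) ⟶
        F'.mapTriangle.obj (Triangle.mk p.x p.y p.δ) :=
      { hom₁ := (std F F' θ p.N (-b')).hom
        hom₂ := φ
        hom₃ := Φ.c p.Y
        comm₁ := hφ1
        comm₂ := hφ2
        comm₃ := comm }
    have h1 : IsIso Ψ.hom₁ := (inferInstance : IsIso (std F F' θ p.N (-b')).hom)
    have h3 : IsIso Ψ.hom₃ := Φ.iso p.Y p.hY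
    exact isIso₂_of_isIso₁₃ Ψ hT hT' h1 h3
  exact ⟨φ, hiso, hφ1, hφ2⟩

theorem step {a b b' : ℤ} (hb : b + 1 = b') (hab : a ≤ b) (hP : HasPres A a b b')
    (Φ : NatFam F F' θ a b) : Nonempty (NatFam F F' θ a b') := by
  classical
  have hZ₀ : (tt A).IsLE ((ιb A).obj (L (0 : A) (-b))) b :=
    (S_L (0 : A) (-b) b b (by omega) (by omega)).2
  have ex : ∀ X, S a b' X → ∃ (p : Pres a b b' X) (φ : F.obj X ⟶ F'.obj X), IsIso φ ∧
      F.map p.x ≫ φ = (std F F' θ p.N (-b')).hom ≫ F'.map p.x ∧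
      F.map p.y ≫ Φ.c p.Y = φ ≫ F'.map p.y := by
    intro X hX
    obtain ⟨p, -⟩ := hP X X _ _ hX hX.2 hZ₀ hZ₀ 0 0
    obtain ⟨φ, h⟩ := pres_phi θ hb hab Φ p
    exact ⟨p, φ, h⟩
  choose p φ hiso hxeq hyeq using ex
  have W : ∀ X (hX : S a b' X) (p₁ : Pres a b b' X) (φ₁ : F.obj X ⟶ F'.obj X),
      F.map p₁.y ≫ Φ.c p₁.Y = φ₁ ≫ F'.map p₁.y → φ₁ = φ X hX := by
    intro X hX p₁ φ₁ h₁
    obtain ⟨p₃, h31, h32, -⟩ := hP X X p₁.Y (p X hX).Y hX hX.2 p₁.hY.2 (p X hX).hY.2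
      p₁.y (p X hX).y
    obtain ⟨φ₃, -, -, h₃⟩ := pres_phi θ hb hab Φ p₃
    obtain ⟨v₁, hv₁⟩ := p₃.exists_v p₁.y h31
    obtain ⟨v₀, hv₀⟩ := p₃.exists_v (p X hX).y h32
    have e1 := key θ p₁ p₁.van p₃.y (Φ.c p₃.Y) (Φ.c p₁.Y) φ₃ h₃ φ₁ h₁ (𝟙 X) v₁
      (by rw [hv₁, Category.id_comp]) (Φ.nat v₁ p₃.hY p₁.hY)
    have e0 := key θ (p X hX) (p X hX).van p₃.y (Φ.c p₃.Y) (Φ.c (p X hX).Y) φ₃ h₃
      (φ X hX) (hyeq X hX) (𝟙 X) v₀
      (by rw [hv₀, Category.id_comp]) (Φ.nat v₀ p₃.hY (p X hX).hY)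
    rw [F.map_id, F'.map_id, Category.id_comp, Category.comp_id] at e1 e0
    rw [e1, e0]
  have W' : ∀ X (hX : S a b' X), S a b X → φ X hX = Φ.c X := fun X hX hX' =>
    (W X hX (p X hX) (Φ.c X) (Φ.nat (p X hX).y hX' (p X hX).hY)).symm
  refine ⟨{ c := fun X => if hX : S a b' X then φ X hX else 0
            iso := ?_, nat := ?_, base := ?_ }⟩
  · intro X hX
    simp only [dif_pos hX]
    exact hiso X hX
  · intro X X' f hX hX'
    simp only [dif_pos hX, dif_pos hX']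
    obtain ⟨p', -, -, hvan⟩ := hP X' X _ _ hX' hX.2 hZ₀ hZ₀ 0 0
    obtain ⟨pp, hpp, -, -⟩ := hP X X p'.Y p'.Y hX hX.2 p'.hY.2 p'.hY.2 (f ≫ p'.y) (f ≫ p'.y)
    obtain ⟨φ₁, -, -, h₁⟩ := pres_phi θ hb hab Φ pp
    obtain ⟨φ₂, -, -, h₂⟩ := pres_phi θ hb hab Φ p'
    obtain ⟨v, hv⟩ := pp.exists_v (f ≫ p'.y) hpp
    have e := key θ p' hvan pp.y (Φ.c pp.Y) (Φ.c p'.Y) φ₁ h₁ φ₂ h₂ f v hv
      (Φ.nat v pp.hY p'.hY)
    rw [← W X hX pp φ₁ h₁, ← W X' hX' p' φ₂ h₂]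
    exact e
  · intro N m ha hm
    by_cases hmb : -m ≤ b
    · have hS := S_L N m a b ha hmb
      have hS' : S a b' (L N m) := S_mono hS le_rfl (by omega)
      simp only [dif_pos hS']
      rw [W' _ hS' hS, Φ.base N m ha hmb]
    · obtain rfl : m = -b' := by omega
      have hX : S a b' (L N (-b')) := S_L N (-b') a b' (by omega) (by omega)
      simp only [dif_pos hX]
      have h1 := hxeq _ hX
      have h2 := std_nat' F F' θ (p _ hX).N N (-b') (p _ hX).x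
      have h3 : F.map (p _ hX).x ≫ (φ _ hX - (std F F' θ N (-b')).hom) = 0 := by
        rw [Preadditive.comp_sub, h1, h2, sub_self]
      obtain ⟨ε, hε⟩ : ∃ ε : F.obj (p _ hX).Y ⟶ F'.obj (L N (-b')),
          φ _ hX - (std F F' θ N (-b')).hom = F.map (p _ hX).y ≫ ε :=
        Triangle.yoneda_exact₂ _ (F.map_distinguished _ (p _ hX).dist) _ h3
      obtain ⟨u, hu⟩ := F.map_surjective (ε ≫ (std F F' θ N (-b')).inv)
      have hu0 : u = 0 := hom_to_L_zero N b b' (by omega) (p _ hX).hY.2 u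
      have h4 : ε ≫ (std F F' θ N (-b')).inv = 0 := by rw [← hu, hu0, F.map_zero]
      have h5 : ε = 0 := by
        rw [← cancel_mono (std F F' θ N (-b')).inv, zero_comp]
        exact h4
      rw [h5, comp_zero] at hε
      exact sub_eq_zero.1 hε

theorem natFam_unique (hP : ∀ a b b' : ℤ, b + 1 = b' → a ≤ b → HasPres A a b b')
    {a₁ b₁ a₂ b₂ : ℤ} (Φ₁ : NatFam F F' θ a₁ b₁) (Φ₂ : NatFam F F' θ a₂ b₂) :
    ∀ (n : ℕ) (a b : ℤ), b = a + n → a₁ ≤ a → a₂ ≤ a → b ≤ b₁ → b ≤ b₂ →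
      ∀ X, S a b X → Φ₁.c X = Φ₂.c X := by
  intro n
  induction n with
  | zero =>
    intro a b hb ha₁ ha₂ hb₁ hb₂ X hX
    have hba : b = a := by simpa using hb
    have hX' : S a a X := by
      rw [hba] at hX
      exact hX
    obtain ⟨N, ⟨e⟩⟩ := exists_iso_L hX'
    have hL : S a a (L N (-a)) := S_L N (-a) a a (by omega) (by omega)
    have n1 := Φ₁.nat e.hom (S_mono hX' ha₁ (by omega)) (S_mono hL ha₁ (by omega))
    have n2 := Φ₂.nat e.hom (S_mono hX' ha₂ (by omega)) (S_mono hL ha₂ (by omega))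
    rw [Φ₁.base N (-a) (by omega) (by omega)] at n1
    rw [Φ₂.base N (-a) (by omega) (by omega)] at n2
    exact (cancel_mono (F'.map e.hom)).1 (n1.symm.trans n2)
  | succ n ih =>
    intro a b hb ha₁ ha₂ hb₁ hb₂ X hX
    have hb' : (a + n) + 1 = b := by
      rw [hb]
      push_cast
      ring
    have hZ₀ := (S_L (0 : A) (-(a + n)) (a + n) (a + n) (by omega) (by omega)).2
    obtain ⟨p, -⟩ := hP a (a + n) b hb' (by omega) X X _ _ hX hX.2 hZ₀ hZ₀ 0 0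
    have hY := ih a (a + n) rfl ha₁ ha₂ (by omega) (by omega) p.Y p.hY
    have y1 := Φ₁.nat p.y (S_mono hX ha₁ hb₁) (S_mono p.hY ha₁ (by omega))
    have y2 := Φ₂.nat p.y (S_mono hX ha₂ hb₂) (S_mono p.hY ha₂ (by omega))
    rw [hY] at y1
    have h := key θ p p.van p.y (Φ₂.c p.Y) (Φ₂.c p.Y) (Φ₁.c X) y1 (Φ₂.c X) y2 (𝟙 X) (𝟙 _)
      (by simp) (by simp)
    rw [F.map_id, F'.map_id, Category.id_comp, Category.comp_id] at h
    exact h.symm

omit [F.Full] in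
theorem natFam_exists [F.Full] (hP : ∀ a b b' : ℤ, b + 1 = b' → a ≤ b → HasPres A a b b') :
    ∀ (n : ℕ) (a b : ℤ), b = a + n → Nonempty (NatFam F F' θ a b) := by
  intro n
  induction n with
  | zero =>
    intro a b hb
    have hba : b = a := by simpa using hb
    rw [hba]
    exact stage1 F F' θ a
  | succ n ih =>
    intro a b hb
    obtain ⟨Φ⟩ := ih a (a + n) rfl
    have hb' : (a + n) + 1 = b := by
      rw [hb]
      push_cast
      ring
    exact step θ hb' (by omega) (hP a (a + n) b hb' (by omega)) Φ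

include θ in
/-- Orlov's theorem: a sibling of a full functor on `D^b(A)`, with `A` having enough negative
objects, is isomorphic to it. -/
theorem main (hneg : ∀ X : A, ∃ (N : A) (p : N ⟶ X), Epi p ∧ ∀ f : X ⟶ N, f = 0) :
    Nonempty (F ≅ F') := by
  classical
  have hP : ∀ a b b' : ℤ, b + 1 = b' → a ≤ b → HasPres A a b b' :=
    fun a b b' hb hab => exists_pres hneg a b b' hb hab
  have bd : ∀ X : DerivedCategory.Bounded A, ∃ a b : ℤ, a ≤ b ∧ S a b X := by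
    intro X
    obtain ⟨⟨a, ha⟩, ⟨b, hb⟩⟩ := X.property
    haveI : (tt A).IsGE ((ιb A).obj X) a := ha
    haveI : (tt A).IsLE ((ιb A).obj X) b := hb
    exact ⟨min a b, b, min_le_right _ _,
      ⟨(tt A).isGE_of_ge _ (min a b) a (min_le_left _ _), hb⟩⟩
  choose aX bX habX hSX using bd
  have fam : ∀ a b : ℤ, a ≤ b → Nonempty (NatFam F F' θ a b) := fun a b h =>
    natFam_exists θ hP (b - a).toNat a b (by omega)
  let Φ := fun X => (fam (aX X) (bX X) (habX X)).some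
  have uniq : ∀ (X : DerivedCategory.Bounded A) (a b : ℤ) (Ψ : NatFam F F' θ a b),
      a ≤ aX X → bX X ≤ b → (Φ X).c X = Ψ.c X := by
    intro X a b Ψ h1 h2
    exact natFam_unique θ hP (Φ X) Ψ (bX X - aX X).toNat (aX X) (bX X)
      (by have := habX X; omega) le_rfl h1 le_rfl h2 X (hSX X)
  haveI : ∀ X, IsIso ((Φ X).c X) := fun X => (Φ X).iso X (hSX X)
  refine ⟨NatIso.ofComponents (fun X => asIso ((Φ X).c X)) ?_⟩
  intro X X' f
  obtain ⟨Ψ⟩ := fam (min (aX X) (aX X')) (max (bX X) (bX X'))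
    (by have := habX X; omega)
  have e1 := uniq X _ _ Ψ (min_le_left _ _) (le_max_left _ _)
  have e2 := uniq X' _ _ Ψ (min_le_right _ _) (le_max_right _ _)
  have hn := Ψ.nat f (S_mono (hSX X) (min_le_left _ _) (le_max_left _ _))
    (S_mono (hSX X') (min_le_right _ _) (le_max_right _ _))
  show F.map f ≫ (Φ X').c X' = (Φ X).c X ≫ F'.map f
  rw [e1, e2]
  exact hn

end Groth.Agent.Lib.SibIso
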