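import Mathlib.Topology.Spectral.Basic
import Mathlib.Topology.QuasiSeparated
import Mathlib.Topology.Sober
import Mathlib.Topology.Separation.Basic

/-!
# Powers of the Sierpiński space are spectral (lead)
-/

universe u

namespace Groth.Agent.Lib.Sierp_lead

open Set Topology TopologicalSpace

variable {I : Type u}

/-- The basic open `{g | ∀ i ∈ F, g i}`. -/
def B (F : Finset I) : Set (I → Prop) := {g | ∀ i ∈ F, g i}

theorem specializes_prop_iff {a b : Prop} : a ⤳ b ↔ (b → a) := by
  constructor
  · intro h hb
    have : b ∈ ({True} : Set Prop) := by simpa using hb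
    have := h.mem_open isOpen_singleton_true this
    simpa using this
  · intro h
    by_cases hb : b
    · have ha : a := h hb
      have : a = b := by simp [ha, hb]
      rw [this]
    · have : b = False := by simpa using hb
      rw [this]
      change 𝓝 a ≤ 𝓝 False
      rw [nhds_false]
      exact le_top

theorem specializes_iff {g h : I → Prop} : g ⤳ h ↔ ∀ i, h i → g i := by
  rw [specializes_pi]
  exact forall_congr' fun i => specializes_prop_iff

theorem isOpen_B (F : Finset I) : IsOpen (B F) := by
  have : B F = ⋂ i ∈ F, (fun g : I → Prop => g i) ⁻¹' {True} := by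
    ext g
    simp [B]
  rw [this]
  exact isOpen_biInter_finset fun i _ => isOpen_singleton_true.preimage (continuous_apply i)

/-- The least element of `B F`. -/
def ind (F : Finset I) : I → Prop := fun i => i ∈ F

theorem ind_mem (F : Finset I) : ind F ∈ B F := fun _ hi => hi

theorem B_subset_of_ind_mem {F : Finset I} {S : Set (I → Prop)} (hS : IsOpen S)
    (h : ind F ∈ S) : B F ⊆ S := by
  intro g hg
  have : g ⤳ ind F := specializes_iff.2 fun i hi => hg i hi
  exact this.mem_open hS h

theorem isCompact_B (F : Finset I) : IsCompact (B F) := by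
  apply isCompact_of_finite_subcover
  intro κ U hU hcov
  obtain ⟨k, hk⟩ := mem_iUnion.1 (hcov (ind_mem F))
  refine ⟨{k}, ?_⟩
  simp only [Finset.mem_singleton, iUnion_iUnion_eq_left]
  exact B_subset_of_ind_mem (hU k) hk

theorem B_inter (F G : Finset I) [DecidableEq I] : B F ∩ B G = B (F ∪ G) := by
  ext g
  simp only [B, mem_inter_iff, mem_ofPred_eq, Finset.mem_union]
  constructor
  · rintro ⟨h1, h2⟩ i (hi | hi)
    · exact h1 i hi
    · exact h2 i hi
  · intro h
    exact ⟨fun i hi => h i (Or.inl hi), fun i hi => h i (Or.inr hi)⟩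

theorem isTopologicalBasis_B : IsTopologicalBasis (range (B : Finset I → Set (I → Prop))) := by
  classical
  apply isTopologicalBasis_of_isOpen_of_nhds
  · rintro _ ⟨F, rfl⟩
    exact isOpen_B F
  · intro g S hgS hS
    obtain ⟨F, u, hu, hsub⟩ := isOpen_pi_iff.1 hS g hgS
    refine ⟨B (F.filter fun i => g i), ⟨_, rfl⟩, ?_, ?_⟩
    · intro i hi
      exact (Finset.mem_filter.1 hi).2
    · intro h hh
      apply hsub
      intro i hi
      by_cases hgi : g i
      · have hhi : h i := hh i (Finset.mem_filter.2 ⟨hi, hgi⟩)
        have : h i = g i := by simp [hhi, hgi]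
        rw [this]
        exact (hu i hi).2
      · have hg : g i = False := by simpa using hgi
        have hmem : u i ∈ 𝓝 (g i) := (hu i hi).1.mem_nhds (hu i hi).2
        rw [hg, nhds_false] at hmem
        rw [Filter.mem_top.1 hmem]
        trivial

theorem prespectralSpace_pi : PrespectralSpace (I → Prop) :=
  .of_isTopologicalBasis' isTopologicalBasis_B isCompact_B

theorem quasiSeparatedSpace_pi : QuasiSeparatedSpace (I → Prop) := by
  classical
  refine QuasiSeparatedSpace.of_isTopologicalBasis (b := B) isTopologicalBasis_B ?_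
  intro F G
  rw [B_inter]
  exact isCompact_B _

theorem quasiSober_pi : QuasiSober (I → Prop) := by
  classical
  constructor
  intro Z hZirr hZcl
  let η : I → Prop := fun i => ∃ g ∈ Z, g i
  have hηZ : η ∈ Z := by
    by_contra hcon
    obtain ⟨_, ⟨F, rfl⟩, hηF, hFZ⟩ :=
      isTopologicalBasis_B.exists_subset_of_mem_open (show η ∈ Zᶜ from hcon) hZcl.isOpen_compl
    have hmeet : (Z ∩ ⋂₀ ((F.image fun i => B {i} : Finset (Set (I → Prop))) :
        Set (Set (I → Prop)))).Nonempty := by
      apply (isIrreducible_iff_sInter.1 hZirr)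
      · intro u hu
        obtain ⟨i, -, rfl⟩ := Finset.mem_image.1 hu
        exact isOpen_B _
      · intro u hu
        obtain ⟨i, hi, rfl⟩ := Finset.mem_image.1 hu
        obtain ⟨g, hgZ, hgi⟩ := hηF i hi
        exact ⟨g, hgZ, fun j hj => by rw [Finset.mem_singleton.1 hj]; exact hgi⟩
    obtain ⟨g, hgZ, hg⟩ := hmeet
    apply hFZ _ hgZ
    intro i hi
    have := mem_sInter.1 hg (B {i}) (Finset.mem_coe.2 (Finset.mem_image.2 ⟨i, hi, rfl⟩))
    exact this i (Finset.mem_singleton_self i)
  refine ⟨η, Subset.antisymm (closure_minimal (singleton_subset_iff.2 hηZ) hZcl) ?_⟩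
  intro g hg
  rw [← specializes_iff_mem_closure, specializes_iff]
  intro i hi
  exact ⟨g, hg, hi⟩

instance t0Space_prop : T0Space Prop := by
  rw [t0Space_iff_inseparable]
  intro a b h
  have h1 := specializes_prop_iff.1 h.specializes
  have h2 := specializes_prop_iff.1 h.specializes'
  exact propext ⟨h2, h1⟩

theorem spectralSpace_pi : SpectralSpace (I → Prop) :=
  { toT0Space := inferInstance
    toCompactSpace := inferInstance
    toQuasiSober := quasiSober_pi
    toQuasiSeparatedSpace := quasiSeparatedSpace_pi
    toPrespectralSpace := prespectralSpace_pi }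

end Groth.Agent.Lib.Sierp_lead
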