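import Mathlib

/-!
# The radical of (σ₂, σ₄) in k[X₀..X₄] is prime (helper1)

Strategy: eliminate X₄ from σ₂ = e₂ + X₄ e₁, σ₄ = e₄ + X₄ e₃ (e_i elementary symmetric in X₀..X₃);
the resultant g = e₁e₄ - e₂e₃ is irreducible (quadratic in X₀ with non-square discriminant), so
D = (k[X₀..X₃]/(g))[1/e₁] is a domain and φ : k[X₀..X₄] → D, X₄ ↦ -e₂/e₁ has prime kernel.
By S₅-symmetry and the Nullstellensatz, ker φ = rad(σ₂, σ₄).
-/

set_option autoImplicit false
set_option maxHeartbeats 1000000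

universe u

namespace Groth.Agent.Lib.Sigma24H1

section Quad
open Polynomial

theorem quad_coeff2 {R : Type*} [CommRing R] (a b c : R) :
    (C a * X ^ 2 + C b * X + C c : R[X]).coeff 2 = a := by
  simp [coeff_X, coeff_C, coeff_X_pow]

theorem quad_coeff1 {R : Type*} [CommRing R] (a b c : R) :
    (C a * X ^ 2 + C b * X + C c : R[X]).coeff 1 = b := by
  simp [coeff_X, coeff_C, coeff_X_pow]

theorem quad_coeff0 {R : Type*} [CommRing R] (a b c : R) :
    (C a * X ^ 2 + C b * X + C c : R[X]).coeff 0 = c := by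
  simp [coeff_X, coeff_C, coeff_X_pow]

/-- A primitive quadratic over a domain whose discriminant is not a square is irreducible. -/
theorem quad_irreducible {R : Type*} [CommRing R] [IsDomain R] (A Bc Cc : R) (hA : A ≠ 0)
    (hprim : ∀ r : R, r ∣ A → r ∣ Bc → r ∣ Cc → IsUnit r)
    (hdisc : ∀ h : R, h * h ≠ Bc ^ 2 - 4 * A * Cc) :
    Irreducible (C A * X ^ 2 + C Bc * X + C Cc : R[X]) := by
  have hdeg : (C A * X ^ 2 + C Bc * X + C Cc : R[X]).natDegree = 2 :=
    Polynomial.natDegree_quadratic hA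
  have c2 := quad_coeff2 A Bc Cc
  have c1 := quad_coeff1 A Bc Cc
  have c0 := quad_coeff0 A Bc Cc
  generalize (C A * X ^ 2 + C Bc * X + C Cc : R[X]) = G at hdeg c2 c1 c0 ⊢
  have hG0 : G ≠ 0 := by
    intro h0; rw [h0] at hdeg; simp at hdeg
  have hconst : ∀ p : R, C p ∣ G → IsUnit p := by
    intro p hp
    rw [Polynomial.C_dvd_iff_dvd_coeff] at hp
    exact hprim p (c2 ▸ hp 2) (c1 ▸ hp 1) (c0 ▸ hp 0)
  constructor
  · intro hu
    have := Polynomial.natDegree_eq_zero_of_isUnit hu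
    omega
  · intro P Q hPQ
    have hP0 : P ≠ 0 := by rintro rfl; rw [zero_mul] at hPQ; exact hG0 hPQ
    have hQ0 : Q ≠ 0 := by rintro rfl; rw [mul_zero] at hPQ; exact hG0 hPQ
    have hsum : P.natDegree + Q.natDegree = 2 := by
      rw [← Polynomial.natDegree_mul hP0 hQ0, ← hPQ, hdeg]
    rcases Nat.lt_or_ge P.natDegree 1 with h | h
    · left
      have hP : P = C (P.coeff 0) := Polynomial.eq_C_of_natDegree_eq_zero (by omega)
      rw [hP]
      exact Polynomial.isUnit_C.mpr (hconst _ ⟨Q, by rw [← hP]; exact hPQ⟩)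
    rcases Nat.lt_or_ge Q.natDegree 1 with h' | h'
    · right
      have hQ : Q = C (Q.coeff 0) := Polynomial.eq_C_of_natDegree_eq_zero (by omega)
      rw [hQ]
      exact Polynomial.isUnit_C.mpr (hconst _ ⟨P, by rw [← hQ, mul_comm]; exact hPQ⟩)
    · exfalso
      have hP1 : P.natDegree ≤ 1 := by omega
      have hQ1 : Q.natDegree ≤ 1 := by omega
      have e2 : A = P.coeff 1 * Q.coeff 1 := by
        rw [← c2, hPQ]; exact Polynomial.coeff_mul_add_eq_of_natDegree_le hP1 hQ1
      have e1 : Bc = P.coeff 0 * Q.coeff 1 + P.coeff 1 * Q.coeff 0 := by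
        rw [← c1, hPQ, Polynomial.mul_coeff_one]
      have e0 : Cc = P.coeff 0 * Q.coeff 0 := by
        rw [← c0, hPQ, Polynomial.mul_coeff_zero]
      apply hdisc (P.coeff 0 * Q.coeff 1 - P.coeff 1 * Q.coeff 0)
      rw [e2, e1, e0]; ring

end Quad

open MvPolynomial

section Esymm

variable {k S : Type*} [CommRing k] [CommRing S] [Algebra k S]

theorem E2 (f : Fin 5 → S) :
    aeval f (esymm (Fin 5) k 2) = f 0 * f 1 + f 0 * f 2 + f 0 * f 3 + f 0 * f 4 + f 1 * f 2
      + f 1 * f 3 + f 1 * f 4 + f 2 * f 3 + f 2 * f 4 + f 3 * f 4 := by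
  rw [aeval_esymm_eq_multiset_esymm, Fin.univ_val_map]
  have h : (List.ofFn f : Multiset S) = f 0 ::ₘ f 1 ::ₘ f 2 ::ₘ f 3 ::ₘ f 4 ::ₘ 0 := by
    simp [List.ofFn_succ, Fin.succ_one_eq_two]
    rfl
  rw [h]
  simp [Multiset.esymm, Multiset.powersetCard_cons, Multiset.powersetCard_one]
  ring

theorem E4 (f : Fin 5 → S) :
    aeval f (esymm (Fin 5) k 4) = f 0 * f 1 * f 2 * f 3 + f 0 * f 1 * f 2 * f 4
      + f 0 * f 1 * f 3 * f 4 + f 0 * f 2 * f 3 * f 4 + f 1 * f 2 * f 3 * f 4 := by
  rw [aeval_esymm_eq_multiset_esymm, Fin.univ_val_map]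
  have h : (List.ofFn f : Multiset S) = f 0 ::ₘ f 1 ::ₘ f 2 ::ₘ f 3 ::ₘ f 4 ::ₘ 0 := by
    simp [List.ofFn_succ, Fin.succ_one_eq_two]
    rfl
  rw [h]
  simp [Multiset.esymm, Multiset.powersetCard_cons, Multiset.powersetCard_one]
  ring

end Esymm

section PartA

variable (k : Type u) [Field k]

noncomputable def a1 : MvPolynomial (Fin 3) k := X 0 + X 1 + X 2
noncomputable def a2 : MvPolynomial (Fin 3) k := X 0 * X 1 + X 0 * X 2 + X 1 * X 2
noncomputable def a3 : MvPolynomial (Fin 3) k := X 0 * X 1 * X 2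
noncomputable def cA : MvPolynomial (Fin 3) k := a3 k - a1 k * a2 k
noncomputable def cB : MvPolynomial (Fin 3) k := -(a2 k) ^ 2
noncomputable def cC : MvPolynomial (Fin 3) k := -(a2 k * a3 k)

theorem not_X_dvd_a2 (i : Fin 3) : ¬ ((X i : MvPolynomial (Fin 3) k) ∣ a2 k) := by
  rintro ⟨w, hw⟩
  have key : ∀ u : Fin 3 → k, u i = 0 → eval u (a2 k) = 0 := by
    intro u hu; rw [hw]; simp [hu]
  fin_cases i
  · have := key ![0, 1, 1] rfl; simp [a2] at this
  · have := key ![1, 0, 1] rfl; simp [a2] at this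
  · have := key ![1, 1, 0] rfl; simp [a2] at this

variable [CharZero k]

theorem cA_ne_zero : cA k ≠ 0 := by
  intro h
  have := congrArg (eval ![1, 1, 0]) h
  simp [cA, a1, a2, a3] at this <;> norm_num at this

theorem prim (r : MvPolynomial (Fin 3) k) (hA : r ∣ cA k) (hB : r ∣ cB k) (hC : r ∣ cC k) :
    IsUnit r := by
  by_contra hr
  have hA0 : cA k ≠ 0 := cA_ne_zero k
  have hr0 : r ≠ 0 := by rintro rfl; exact hA0 (zero_dvd_iff.mp hA)
  obtain ⟨π, hπ, hπr⟩ := WfDvdMonoid.exists_irreducible_factor hr hr0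
  have hp : Prime π := hπ.prime
  have h2 : π ∣ a2 k := by
    have : π ∣ (a2 k) ^ 2 := by
      have := hπr.trans hB; rwa [cB, dvd_neg] at this
    exact hp.dvd_of_dvd_pow this
  have h3 : π ∣ a3 k := by
    have hA' := hπr.trans hA
    have : a3 k = cA k + a1 k * a2 k := by rw [cA]; ring
    rw [this]; exact dvd_add hA' (h2.mul_left _)
  have hX : ∃ i : Fin 3, π ∣ X i := by
    rw [a3] at h3
    rcases hp.dvd_or_dvd h3 with h | h
    · rcases hp.dvd_or_dvd h with h | h
      · exact ⟨0, h⟩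
      · exact ⟨1, h⟩
    · exact ⟨2, h⟩
  obtain ⟨i, hi⟩ := hX
  have : (X i : MvPolynomial (Fin 3) k) ∣ π :=
    hπ.dvd_symm (X_prime (R := k) (i := i)).irreducible hi
  exact not_X_dvd_a2 k i (this.trans h2)

theorem disc_not_sq (h : MvPolynomial (Fin 3) k) :
    h * h ≠ (cB k) ^ 2 - 4 * cA k * cC k := by
  intro hh
  let ψ : MvPolynomial (Fin 3) k →ₐ[k] Polynomial k := aeval ![Polynomial.X, 1, 1]
  have h1 : ψ h * ψ h = -8 * Polynomial.X ^ 3 - 8 * Polynomial.X ^ 2 + 1 := by
    rw [← map_mul, hh]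
    simp only [ψ, cA, cB, cC, a1, a2, a3, map_sub, map_mul, map_add, map_neg, map_pow, aeval_X,
      map_ofNat]
    simp
    ring
  have hd : (ψ h * ψ h).natDegree = 3 := by
    rw [h1]; compute_degree!
  have hψ0 : ψ h ≠ 0 := by
    intro h0; rw [h0, mul_zero] at hd; simp at hd
  rw [Polynomial.natDegree_mul hψ0 hψ0] at hd
  omega

noncomputable def e1 : MvPolynomial (Fin 4) k := X 0 + X 1 + X 2 + X 3
noncomputable def e2 : MvPolynomial (Fin 4) k :=
  X 0 * X 1 + X 0 * X 2 + X 0 * X 3 + X 1 * X 2 + X 1 * X 3 + X 2 * X 3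
noncomputable def e3 : MvPolynomial (Fin 4) k :=
  X 0 * X 1 * X 2 + X 0 * X 1 * X 3 + X 0 * X 2 * X 3 + X 1 * X 2 * X 3
noncomputable def e4 : MvPolynomial (Fin 4) k := X 0 * X 1 * X 2 * X 3
noncomputable def gg : MvPolynomial (Fin 4) k := e1 k * e4 k - e2 k * e3 k

theorem fse_gg : finSuccEquiv k 3 (gg k) =
    Polynomial.C (cA k) * Polynomial.X ^ 2 + Polynomial.C (cB k) * Polynomial.X
      + Polynomial.C (cC k) := by
  have h0 : finSuccEquiv k 3 (X 0) = Polynomial.X := finSuccEquiv_X_zero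
  have h1 : finSuccEquiv k 3 (X 1) = Polynomial.C (X 0) := finSuccEquiv_X_succ (j := 0)
  have h2 : finSuccEquiv k 3 (X 2) = Polynomial.C (X 1) := finSuccEquiv_X_succ (j := 1)
  have h3 : finSuccEquiv k 3 (X 3) = Polynomial.C (X 2) := finSuccEquiv_X_succ (j := 2)
  simp only [gg, e1, e2, e3, e4, cA, cB, cC, a1, a2, a3, map_sub, map_add, map_mul, map_neg,
    map_pow, h0, h1, h2, h3]
  ring

theorem gg_irreducible : Irreducible (gg k) := by
  have h := quad_irreducible (cA k) (cB k) (cC k) (cA_ne_zero k) (prim k) (disc_not_sq k)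
  rw [← fse_gg] at h
  exact (MulEquiv.irreducible_iff (finSuccEquiv k 3)).mp h

end PartA

section PartB

variable (k : Type u) [Field k] [CharZero k]

instance gg_span_prime : (Ideal.span {gg k}).IsPrime :=
  (Ideal.span_singleton_prime (gg_irreducible k).ne_zero).mpr (gg_irreducible k).prime

abbrev Bq := MvPolynomial (Fin 4) k ⧸ Ideal.span {gg k}

noncomputable def eb1 : Bq k := Ideal.Quotient.mk _ (e1 k)

theorem eb1_ne_zero : eb1 k ≠ 0 := by
  intro h
  rw [eb1, Ideal.Quotient.eq_zero_iff_mem, Ideal.mem_span_singleton] at h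
  obtain ⟨w, hw⟩ := h
  have := congrArg (eval ![2, 2, -1, 0]) hw
  simp [e1, gg, e2, e3, e4] at this <;> norm_num at this

abbrev DD := Localization.Away (eb1 k)

instance : IsDomain (DD k) :=
  IsLocalization.isDomain_localization
    (powers_le_nonZeroDivisors_of_noZeroDivisors (eb1_ne_zero k))

noncomputable def iota0 : MvPolynomial (Fin 4) k →+* DD k :=
  (algebraMap (Bq k) (DD k)).comp (Ideal.Quotient.mk (Ideal.span {gg k}))

noncomputable def invE : DD k := IsLocalization.Away.invSelf (eb1 k)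

theorem iota0_e1_mul_inv : iota0 k (e1 k) * invE k = 1 :=
  IsLocalization.Away.mul_invSelf (eb1 k)

theorem iota0_gg : iota0 k (gg k) = 0 := by
  simp only [iota0, RingHom.comp_apply]
  rw [Ideal.Quotient.eq_zero_iff_mem.mpr (Ideal.mem_span_singleton_self _), map_zero]

noncomputable def vD : Fin 5 → DD k :=
  ![iota0 k (X 0), iota0 k (X 1), iota0 k (X 2), iota0 k (X 3), -(iota0 k (e2 k)) * invE k]

noncomputable def phi : MvPolynomial (Fin 5) k →ₐ[k] DD k := aeval (vD k)

theorem phi_s2 : phi k (esymm (Fin 5) k 2) = 0 := by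
  rw [phi, E2]
  have hinv := iota0_e1_mul_inv k
  simp only [e1, map_add] at hinv
  have h0 : vD k 0 = iota0 k (X 0) := rfl
  have h1 : vD k 1 = iota0 k (X 1) := rfl
  have h2 : vD k 2 = iota0 k (X 2) := rfl
  have h3 : vD k 3 = iota0 k (X 3) := rfl
  have h4 : vD k 4 = -(iota0 k (e2 k)) * invE k := rfl
  rw [h0, h1, h2, h3, h4]
  simp only [e2, map_add, map_mul]
  linear_combination (-(iota0 k (X 0) * iota0 k (X 1) + iota0 k (X 0) * iota0 k (X 2)
    + iota0 k (X 0) * iota0 k (X 3) + iota0 k (X 1) * iota0 k (X 2)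
    + iota0 k (X 1) * iota0 k (X 3) + iota0 k (X 2) * iota0 k (X 3))) * hinv

theorem phi_s4 : phi k (esymm (Fin 5) k 4) = 0 := by
  rw [phi, E4]
  have hinv := iota0_e1_mul_inv k
  simp only [e1, map_add] at hinv
  have hg := iota0_gg k
  simp only [gg, e1, e2, e3, e4, map_sub, map_add, map_mul] at hg
  have h0 : vD k 0 = iota0 k (X 0) := rfl
  have h1 : vD k 1 = iota0 k (X 1) := rfl
  have h2 : vD k 2 = iota0 k (X 2) := rfl
  have h3 : vD k 3 = iota0 k (X 3) := rfl
  have h4 : vD k 4 = -(iota0 k (e2 k)) * invE k := rfl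
  rw [h0, h1, h2, h3, h4]
  simp only [e2, map_add, map_mul]
  linear_combination (-(iota0 k (X 0) * iota0 k (X 1) * iota0 k (X 2) * iota0 k (X 3))) * hinv
    + invE k * hg

noncomputable def I24 : Ideal (MvPolynomial (Fin 5) k) :=
  Ideal.span {esymm (Fin 5) k 2, esymm (Fin 5) k 4}

theorem I24_le_ker : I24 k ≤ RingHom.ker (phi k) := by
  rw [I24, Ideal.span_le]
  intro p hp
  simp only [Set.mem_insert_iff, Set.mem_singleton_iff] at hp
  rcases hp with rfl | rfl
  · exact RingHom.mem_ker.mpr (phi_s2 k)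
  · exact RingHom.mem_ker.mpr (phi_s4 k)

theorem algebraMap_DD (c : k) : algebraMap k (DD k) c = iota0 k (C c) := by
  rw [IsScalarTower.algebraMap_apply k (Bq k) (DD k)]
  rfl

variable {k}

/-- KEY: elements of `ker φ` vanish on points of `V(σ₂, σ₄)` with `x₀+x₁+x₂+x₃ ≠ 0`. -/
theorem key (f : MvPolynomial (Fin 5) k) (hf : phi k f = 0) (x : Fin 5 → k)
    (h1 : x 0 + x 1 + x 2 + x 3 ≠ 0)
    (h2 : aeval x (esymm (Fin 5) k 2) = 0) (h4 : aeval x (esymm (Fin 5) k 4) = 0) :
    aeval x f = 0 := by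
  rw [E2] at h2; rw [E4] at h4
  set y : Fin 4 → k := ![x 0, x 1, x 2, x 3] with hy
  have hs1 : eval y (e1 k) = x 0 + x 1 + x 2 + x 3 := by simp [e1, y]
  have hs2 : eval y (e2 k) = x 0 * x 1 + x 0 * x 2 + x 0 * x 3 + x 1 * x 2 + x 1 * x 3
      + x 2 * x 3 := by simp [e2, y]
  have hg : eval y (gg k) = 0 := by
    simp only [gg, e1, e2, e3, e4, map_sub, map_add, map_mul, eval_X]
    simp only [y, Matrix.cons_val_zero, Matrix.cons_val_one, Matrix.cons_val]
    linear_combination (x 0 + x 1 + x 2 + x 3) * h4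
      - (x 0 * x 1 * x 2 + x 0 * x 1 * x 3 + x 0 * x 2 * x 3 + x 1 * x 2 * x 3) * h2
  have hker : ∀ a ∈ Ideal.span {gg k}, (eval y) a = 0 := by
    intro a ha
    obtain ⟨w, rfl⟩ := Ideal.mem_span_singleton.mp ha
    rw [map_mul, hg, zero_mul]
  let q : Bq k →+* k := Ideal.Quotient.lift (Ideal.span {gg k}) (eval y) hker
  have hq1 : q (eb1 k) = x 0 + x 1 + x 2 + x 3 := by
    rw [eb1]; simp only [q, Ideal.Quotient.lift_mk]; exact hs1
  have hu : IsUnit (q (eb1 k)) := by rw [hq1]; exact IsUnit.mk0 _ h1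
  let ψ : DD k →+* k := IsLocalization.Away.lift (eb1 k) hu
  have hψι : ∀ b : MvPolynomial (Fin 4) k, ψ (iota0 k b) = eval y b := by
    intro b
    simp only [iota0, RingHom.comp_apply, ψ]
    rw [IsLocalization.Away.lift_eq]
    rfl
  have hψinv : ψ (invE k) = (x 0 + x 1 + x 2 + x 3)⁻¹ := by
    have := congrArg ψ (iota0_e1_mul_inv k)
    rw [map_mul, map_one, hψι, hs1] at this
    exact eq_inv_of_mul_eq_one_right this
  have hv : ∀ i, ψ (vD k i) = x i := by
    intro i
    fin_cases i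
    · show ψ (iota0 k (X 0)) = x 0
      rw [hψι, eval_X]; rfl
    · show ψ (iota0 k (X 1)) = x 1
      rw [hψι, eval_X]; rfl
    · show ψ (iota0 k (X 2)) = x 2
      rw [hψι, eval_X]; rfl
    · show ψ (iota0 k (X 3)) = x 3
      rw [hψι, eval_X]; rfl
    · show ψ (-(iota0 k (e2 k)) * invE k) = x 4
      rw [map_mul, map_neg, hψι, hψinv, hs2]
      field_simp
      linear_combination -h2
  have hcomp : ψ.comp (phi k : MvPolynomial (Fin 5) k →+* DD k) = eval x := by
    apply MvPolynomial.ringHom_ext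
    · intro c
      simp only [RingHom.comp_apply, RingHom.coe_coe, phi, aeval_C, eval_C]
      rw [algebraMap_DD, hψι, eval_C]
    · intro i
      simp only [RingHom.comp_apply, RingHom.coe_coe, phi, aeval_X, eval_X]
      exact hv i
  have := congrArg (fun h => h f) hcomp
  simp only [RingHom.comp_apply, RingHom.coe_coe] at this
  rw [hf, map_zero] at this
  exact this.symm

end PartB

section PartD

variable (k : Type u) [Field k] [CharZero k]

/-- `E i = (∑ X j) - X i`. -/
noncomputable def EE (i : Fin 5) : MvPolynomial (Fin 5) k := (∑ j, X j) - X i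

theorem aeval_EE (x : Fin 5 → k) (i : Fin 5) : aeval x (EE k i) = (∑ j, x j) - x i := by
  simp [EE]

def pt : Fin 5 → k := ![2, 2, -1, 0, 0]

theorem pt_mem (t : k) : aeval (t • pt k) (esymm (Fin 5) k 2) = 0 ∧
    aeval (t • pt k) (esymm (Fin 5) k 4) = 0 := by
  constructor
  · rw [E2]; simp [pt]; ring
  · rw [E4]; simp [pt]

theorem pt_s1 (t : k) : (t • pt k) 0 + (t • pt k) 1 + (t • pt k) 2 + (t • pt k) 3 = 3 * t := by
  simp [pt]; ring

theorem phi_EE_ne (i : Fin 5) : phi k (EE k i) ≠ 0 := by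
  intro h
  have hm := pt_mem k 1
  rw [one_smul] at hm
  have h1 : pt k 0 + pt k 1 + pt k 2 + pt k 3 ≠ 0 := by
    have := pt_s1 k 1
    rw [one_smul] at this
    rw [this]; norm_num
  have := key _ h (pt k) h1 hm.1 hm.2
  rw [aeval_EE, Fin.sum_univ_five] at this
  fin_cases i <;> simp [pt] at this <;> norm_num at this

variable {k}

theorem aeval_comp_perm (τ : Equiv.Perm (Fin 5)) (x : Fin 5 → k) (n : ℕ) :
    aeval (x ∘ τ) (esymm (Fin 5) k n) = aeval x (esymm (Fin 5) k n) := by
  rw [← aeval_rename, rename_esymm]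

theorem s1_comp_swap (x : Fin 5 → k) (i : Fin 5) :
    (x ∘ Equiv.swap i 4) 0 + (x ∘ Equiv.swap i 4) 1 + (x ∘ Equiv.swap i 4) 2
      + (x ∘ Equiv.swap i 4) 3 = (∑ j, x j) - x i := by
  have h5 : ∑ j, (x ∘ Equiv.swap i 4) j = ∑ j, x j := Equiv.sum_comp (Equiv.swap i 4) x
  rw [Fin.sum_univ_five] at h5
  have h44 : (x ∘ Equiv.swap i 4) 4 = x i := by simp
  linear_combination h5 - h44

theorem exists_E_ne (x : Fin 5 → k) (hx : x ≠ 0) : ∃ i, (∑ j, x j) - x i ≠ 0 := by
  by_contra hcon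
  push Not at hcon
  apply hx
  have hs : ∑ j, x j = 0 := by
    have h0 := hcon 0
    have h1 := hcon 1
    have h2 := hcon 2
    have h3 := hcon 3
    have h4 := hcon 4
    rw [Fin.sum_univ_five] at *
    have : (4 : k) * (x 0 + x 1 + x 2 + x 3 + x 4) = 0 := by
      linear_combination h0 + h1 + h2 + h3 + h4
    exact (mul_eq_zero.mp this).resolve_left (by norm_num)
  funext i
  have := hcon i
  rw [hs, zero_sub, neg_eq_zero] at this
  exact this

theorem zero_case (f : MvPolynomial (Fin 5) k) (hf : phi k f = 0) :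
    aeval (0 : Fin 5 → k) f = 0 := by
  let h : Polynomial k := aeval (fun i => Polynomial.C (pt k i) * Polynomial.X) f
  have hev : ∀ t : k, h.eval t = aeval (t • pt k) f := by
    intro t
    have : (Polynomial.evalRingHom t).comp
        ((aeval (fun i => Polynomial.C (pt k i) * Polynomial.X) :
          MvPolynomial (Fin 5) k →ₐ[k] Polynomial k) : MvPolynomial (Fin 5) k →+* Polynomial k)
        = eval (t • pt k) := by
      apply MvPolynomial.ringHom_ext
      · intro c; simp
      · intro i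
        simp only [RingHom.comp_apply, RingHom.coe_coe, aeval_X, eval_X, Polynomial.coe_evalRingHom,
          Polynomial.eval_mul, Polynomial.eval_C, Polynomial.eval_X, Pi.smul_apply, smul_eq_mul]
        ring
    exact congrArg (fun φ => φ f) this
  have hroots : ∀ t : k, t ≠ 0 → h.IsRoot t := by
    intro t ht
    rw [Polynomial.IsRoot, hev]
    obtain ⟨m2, m4⟩ := pt_mem k t
    apply key f hf _ _ m2 m4
    rw [pt_s1]
    exact mul_ne_zero (by norm_num) ht
  have h0 : h = 0 := by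
    apply Polynomial.eq_zero_of_infinite_isRoot
    apply Set.Infinite.mono (s := ({0} : Set k)ᶜ)
    · intro t ht; exact hroots t ht
    · exact (Set.finite_singleton (0 : k)).infinite_compl
  have := hev 0
  rw [h0, Polynomial.eval_zero, zero_smul] at this
  exact this.symm

variable [IsAlgClosed k]

theorem mem_rad_iff (f : MvPolynomial (Fin 5) k) : f ∈ (I24 k).radical ↔
    ∀ x : Fin 5 → k, aeval x (esymm (Fin 5) k 2) = 0 → aeval x (esymm (Fin 5) k 4) = 0 →
      aeval x f = 0 := by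
  rw [← vanishingIdeal_zeroLocus_eq_radical (K := k), mem_vanishingIdeal_iff, I24, zeroLocus_span]
  constructor
  · intro h x h2 h4
    apply h x
    intro p hp
    simp only [Set.mem_insert_iff, Set.mem_singleton_iff] at hp
    rcases hp with rfl | rfl
    · exact h2
    · exact h4
  · intro h x hx
    exact h x (hx _ (by simp)) (hx _ (by simp))

theorem ker_swap (f : MvPolynomial (Fin 5) k) (hf : phi k f = 0) (i : Fin 5) :
    phi k (rename (Equiv.swap i 4) f) = 0 := by
  have hmem : rename (Equiv.swap i 4) f * EE k i ∈ (I24 k).radical := by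
    rw [mem_rad_iff]
    intro x h2 h4
    rw [map_mul, aeval_EE]
    by_cases hE : (∑ j, x j) - x i = 0
    · rw [hE, mul_zero]
    · have : aeval x (rename (Equiv.swap i 4) f) = 0 := by
        rw [aeval_rename]
        apply key f hf (x ∘ Equiv.swap i 4) _ (by rw [aeval_comp_perm]; exact h2)
          (by rw [aeval_comp_perm]; exact h4)
        rw [s1_comp_swap]; exact hE
      rw [this, zero_mul]
  have := (Ideal.IsPrime.radical_le_iff (RingHom.ker_isPrime (phi k))).mpr (I24_le_ker k) hmem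
  rw [RingHom.mem_ker, map_mul] at this
  rcases mul_eq_zero.mp this with h | h
  · exact h
  · exact absurd h (phi_EE_ne k i)

theorem ker_le_rad : RingHom.ker (phi k) ≤ (I24 k).radical := by
  intro f hf
  rw [RingHom.mem_ker] at hf
  rw [mem_rad_iff]
  intro x h2 h4
  by_cases hx : x = 0
  · subst hx; exact zero_case f hf
  · obtain ⟨i, hi⟩ := exists_E_ne x hx
    have hf' := ker_swap f hf i
    have := key _ hf' (x ∘ Equiv.swap i 4) (by rw [s1_comp_swap]; exact hi)
      (by rw [aeval_comp_perm]; exact h2) (by rw [aeval_comp_perm]; exact h4)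
    rw [aeval_rename] at this
    have hxx : (x ∘ ⇑(Equiv.swap i 4)) ∘ ⇑(Equiv.swap i 4) = x := by
      funext j; simp only [Function.comp_apply, Equiv.swap_apply_self]
    rwa [hxx] at this

/-- **S12437** -/
theorem main (k : Type u) [Field k] [IsAlgClosed k] [CharZero k] :
    (Ideal.span ({MvPolynomial.esymm (Fin 5) k 2, MvPolynomial.esymm (Fin 5) k 4} :
      Set (MvPolynomial (Fin 5) k))).radical.IsPrime := by
  have h : (I24 k).radical = RingHom.ker (phi k) :=
    le_antisymm ((Ideal.IsPrime.radical_le_iff (RingHom.ker_isPrime (phi k))).mpr (I24_le_ker k))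
      ker_le_rad
  show (I24 k).radical.IsPrime
  rw [h]; exact RingHom.ker_isPrime (phi k)

end PartD

end Groth.Agent.Lib.Sigma24H1
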