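import Groth.Agent.Lib.SigmaLinWitt_helper3

/-!
# Finiteness of fixed points of semilinear endomorphisms (helper1)
-/

set_option autoImplicit false
set_option maxHeartbeats 1000000

universe u v w

namespace Groth.Agent.Lib.SigmaLinFixH1

open Groth.Agent.Lib.SigmaLinWitt_helper3

/-! ### fields -/

theorem fix_finite_field {κ : Type u} [Field κ] {τ : κ →+* κ} {V : Type v} [AddCommGroup V]
    [Module κ V] [FiniteDimensional κ V] (T : V →ₛₗ[τ] V)
    (hτ : {c : κ | τ c = c}.Finite) : {v : V | T v = v}.Finite := by
  classical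
  obtain ⟨b, hbsub, hbspan, hbli⟩ := exists_linearIndependent κ {v : V | T v = v}
  have hbfin : b.Finite := hbli.setFinite
  haveI : Fintype b := hbfin.fintype
  have hS : (Set.pi Set.univ (fun _ : b => {c : κ | τ c = c})).Finite :=
    Set.Finite.pi (fun _ => hτ)
  refine (hS.image (fun c : b → κ => ∑ x, c x • (x : V))).subset ?_
  intro v hv
  have hv1 : T v = v := hv
  have hv' : v ∈ Submodule.span κ (Set.range ((↑) : b → V)) := by
    rw [Subtype.range_coe, hbspan]; exact Submodule.subset_span hv
  obtain ⟨c, hc⟩ := (Submodule.mem_span_range_iff_exists_fun κ).mp hv'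
  have hT : T v = ∑ x, τ (c x) • (x : V) := by
    rw [← hc, map_sum]
    refine Finset.sum_congr rfl fun x _ => ?_
    have hx : T (x : V) = x := hbsub x.2
    rw [map_smulₛₗ, hx]
  have h0 : ∑ x, (τ (c x) - c x) • (x : V) = 0 := by
    simp only [sub_smul, Finset.sum_sub_distrib]
    rw [← hT, hc, hv1, sub_self]
  have hfix := Fintype.linearIndependent_iff.mp hbli _ h0
  refine ⟨c, ?_, hc⟩
  intro x _
  exact sub_eq_zero.mp (hfix x)

lemma frobenius_fixed_finite (p : ℕ) [Fact p.Prime] (k : Type u) [Field k] [CharP k p] :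
    {c : k | frobenius k p c = c}.Finite := by
  have hne : (Polynomial.X ^ p - Polynomial.X : Polynomial k) ≠ 0 :=
    FiniteField.X_pow_card_sub_X_ne_zero k (Fact.out : p.Prime).one_lt
  refine (Polynomial.finite_setOf_isRoot hne).subset ?_
  intro c hc
  have hc' : c ^ p = c := by rw [← frobenius_def]; exact hc
  simp only [Set.mem_setOf_eq, Polynomial.IsRoot.def, Polynomial.eval_sub, Polynomial.eval_pow,
    Polynomial.eval_X]
  rw [hc', sub_self]

lemma frobeniusInv_fixed_finite (p : ℕ) [Fact p.Prime] (k : Type u) [Field k] [CharP k p]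
    [PerfectRing k p] :
    {c : k | (frobeniusEquiv k p).symm.toRingHom c = c}.Finite := by
  refine (frobenius_fixed_finite p k).subset ?_
  intro c hc
  have hc' : (frobeniusEquiv k p).symm c = c := hc
  show frobenius k p c = c
  have h1 := congrArg (frobeniusEquiv k p) hc'
  rw [RingEquiv.apply_symm_apply] at h1
  rw [← coe_frobeniusEquiv]
  exact h1.symm

/-! ### the residue-field module structure -/

section Base

variable {R : Type u} {κ : Type w} [CommRing R] [Field κ] (π : R →+* κ)
  (hπ : Function.Surjective π) {M : Type v} [AddCommGroup M] [Module R M]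

lemma smul_eq_of_map_eq (hM : ∀ r : R, π r = 0 → ∀ m : M, r • m = 0) {r r' : R}
    (h : π r = π r') (m : M) : r • m = r' • m := by
  have := hM (r - r') (by rw [map_sub, h, sub_self]) m
  rwa [sub_smul, sub_eq_zero] at this

/-- the `κ`-module structure on a module killed by the kernel of `π`. -/
noncomputable def kappaModule (hM : ∀ r : R, π r = 0 → ∀ m : M, r • m = 0) : Module κ M where
  smul c m := Function.surjInv hπ c • m
  one_smul m := by
    show Function.surjInv hπ (1 : κ) • m = m
    rw [smul_eq_of_map_eq π hM (r' := 1) (by rw [Function.surjInv_eq hπ, map_one]) m, one_smul]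
  mul_smul a b m := by
    show Function.surjInv hπ (a * b) • m = Function.surjInv hπ a • Function.surjInv hπ b • m
    rw [smul_eq_of_map_eq π hM (r' := Function.surjInv hπ a * Function.surjInv hπ b)
      (by rw [map_mul, Function.surjInv_eq hπ, Function.surjInv_eq hπ, Function.surjInv_eq hπ]) m,
      mul_smul]
  smul_zero c := by
    show Function.surjInv hπ c • (0 : M) = 0
    exact smul_zero _
  smul_add c m m' := by
    show Function.surjInv hπ c • (m + m') = Function.surjInv hπ c • m + Function.surjInv hπ c • m'
    exact smul_add _ m m'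
  add_smul a b m := by
    show Function.surjInv hπ (a + b) • m = Function.surjInv hπ a • m + Function.surjInv hπ b • m
    rw [smul_eq_of_map_eq π hM (r' := Function.surjInv hπ a + Function.surjInv hπ b)
      (by rw [map_add, Function.surjInv_eq hπ, Function.surjInv_eq hπ, Function.surjInv_eq hπ]) m,
      add_smul]
  zero_smul m := by
    show Function.surjInv hπ (0 : κ) • m = 0
    rw [smul_eq_of_map_eq π hM (r' := 0) (by rw [Function.surjInv_eq hπ, map_zero]) m, zero_smul]

include hπ in
theorem fix_finite_base (σ : R →+* R) (σbar : κ →+* κ) (hσbar : ∀ r, σbar (π r) = π (σ r))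
    (hfix : {c : κ | σbar c = c}.Finite) [Module.Finite R M] (T : M →ₛₗ[σ] M)
    (hM : ∀ r : R, π r = 0 → ∀ m : M, r • m = 0) : {m : M | T m = m}.Finite := by
  letI : Module κ M := kappaModule π hπ hM
  have hks : ∀ (r : R) (m : M), (π r) • m = r • m := fun r m =>
    smul_eq_of_map_eq π hM (Function.surjInv_eq hπ _) m
  haveI : Module.Finite κ M := by
    obtain ⟨s, hs⟩ := (Module.finite_def (R := R) (M := M)).mp inferInstance
    refine ⟨⟨s, ?_⟩⟩
    have key : ∀ m : M, m ∈ Submodule.span R (s : Set M) →
        m ∈ Submodule.span κ (s : Set M) := by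
      intro m hm
      induction hm using Submodule.span_induction with
      | mem x hx => exact Submodule.subset_span hx
      | zero => exact Submodule.zero_mem _
      | add x y _ _ hx hy => exact Submodule.add_mem _ hx hy
      | smul r x _ hx => rw [← hks]; exact Submodule.smul_mem _ _ hx
    rw [_root_.eq_top_iff]
    intro m _
    exact key m (by rw [hs]; trivial)
  let T' : M →ₛₗ[σbar] M :=
    { toFun := T
      map_add' := map_add T
      map_smul' := by
        intro c m
        obtain ⟨r, rfl⟩ := hπ c
        show T ((π r) • m) = σbar (π r) • T m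
        rw [hks, map_smulₛₗ, hσbar, hks] }
  exact (fix_finite_field T' hfix).subset (fun m hm => hm)

end Base

/-! ### dévissage -/

theorem fix_finite_general {R : Type u} {κ : Type w} [CommRing R] [Field κ] (π : R →+* κ)
    (hπ : Function.Surjective π) (q : R) (hker : ∀ r, π r = 0 → ∃ a, r = a * q)
    (σ : R →+* R) (hσq : σ q = q) (σbar : κ →+* κ) (hσbar : ∀ r, σbar (π r) = π (σ r))
    (hfix : {c : κ | σbar c = c}.Finite) (e : ℕ) :
    ∀ (M : Type v) [AddCommGroup M] [Module R M] [Module.Finite R M] (T : M →ₛₗ[σ] M),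
      (∀ m : M, q ^ e • m = 0) → {m : M | T m = m}.Finite := by
  induction e with
  | zero =>
    intro M _ _ _ T h0
    have hsub : ∀ m : M, m = 0 := fun m => by simpa using h0 m
    refine (Set.finite_singleton (0 : M)).subset ?_
    intro m _
    exact hsub m
  | succ e ih =>
    intro M _ _ _ T hM
    let N : Submodule R M := LinearMap.range (LinearMap.lsmul R M q)
    have hstab : ∀ x ∈ N, T x ∈ N := by
      intro x hx
      obtain ⟨y, rfl⟩ := LinearMap.mem_range.mp hx
      refine LinearMap.mem_range.mpr ⟨T y, ?_⟩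
      rw [LinearMap.lsmul_apply, LinearMap.lsmul_apply, map_smulₛₗ, hσq]
    let TN : N →ₛₗ[σ] N :=
      { toFun := fun x => ⟨T x.1, hstab x.1 x.2⟩
        map_add' := fun x y => Subtype.ext (map_add T x.1 y.1)
        map_smul' := fun c x => Subtype.ext (map_smulₛₗ T c x.1) }
    have hN : ∀ x : N, q ^ e • x = 0 := by
      intro x
      obtain ⟨y, hy⟩ := LinearMap.mem_range.mp x.2
      apply Subtype.ext
      show q ^ e • (x : M) = 0
      rw [← hy, LinearMap.lsmul_apply, smul_smul, ← pow_succ]
      exact hM y
    have hfinN : {x : N | TN x = x}.Finite := ih N TN hN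
    let TQ : (M ⧸ N) →ₛₗ[σ] (M ⧸ N) := N.mapQ N T (fun x hx => hstab x hx)
    have hQ : ∀ r : R, π r = 0 → ∀ m : M ⧸ N, r • m = 0 := by
      intro r hr m
      obtain ⟨a, rfl⟩ := hker r hr
      obtain ⟨m, rfl⟩ := Submodule.Quotient.mk_surjective N m
      rw [← Submodule.Quotient.mk_smul, Submodule.Quotient.mk_eq_zero]
      exact LinearMap.mem_range.mpr ⟨a • m, by rw [LinearMap.lsmul_apply, smul_smul, mul_comm]⟩
    have hfinQ : {x : M ⧸ N | TQ x = x}.Finite :=
      fix_finite_base π hπ σ σbar hσbar hfix TQ hQ
    refine Set.Finite.of_finite_fibers (Submodule.Quotient.mk (p := N)) (hfinQ.subset ?_) ?_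
    · rintro _ ⟨m, hm, rfl⟩
      have hm1 : T m = m := hm
      show N.mapQ N T (fun x hx => hstab x hx) (Submodule.Quotient.mk m) = Submodule.Quotient.mk m
      rw [Submodule.mapQ_apply, hm1]
    · rintro _ ⟨m₀, hm₀, rfl⟩
      refine (hfinN.image (fun n : N => m₀ + n.1)).subset ?_
      rintro m ⟨hm, hmq⟩
      have hm1 : T m = m := hm
      have hm01 : T m₀ = m₀ := hm₀
      have hmem : m - m₀ ∈ N := (Submodule.Quotient.eq N).mp hmq
      refine ⟨⟨m - m₀, hmem⟩, ?_, ?_⟩
      · apply Subtype.ext
        show T (m - m₀) = m - m₀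
        rw [map_sub, hm1, hm01]
      · show m₀ + (m - m₀) = m
        abel

/-! ### truncated Witt vectors -/

theorem main19238 (p : ℕ) [Fact p.Prime] (k : Type u) [Field k] [CharP k p] [IsAlgClosed k] (n : ℕ)
    (σ : TruncatedWittVector p n k →+* TruncatedWittVector p n k)
    (hσ : σ = WittGrp.truncMap p n (frobenius k p) ∨
      σ = WittGrp.truncMap p n (frobeniusEquiv k p).symm.toRingHom)
    (M : Type v) [AddCommGroup M] [Module (TruncatedWittVector p n k) M]
    [Module.Finite (TruncatedWittVector p n k) M] (T : M →ₛₗ[σ] M) :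
    {m : M | T m = m}.Finite := by
  cases n with
  | zero =>
    have hsub : Subsingleton (TruncatedWittVector p 0 k) :=
      ⟨fun a b => TruncatedWittVector.ext fun i => i.elim0⟩
    have : Subsingleton M := Module.subsingleton (TruncatedWittVector p 0 k) M
    exact Set.toFinite _
  | succ n =>
    have hq : ∀ m : M, (p : TruncatedWittVector p (n + 1) k) ^ (n + 1) • m = 0 := by
      intro m; rw [natCast_pow_eq_zero p k (n + 1), zero_smul]
    rcases hσ with hσ | hσ
    · refine fix_finite_general (coeffZero p k n) (coeffZero_surjective p k n)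
        (p : TruncatedWittVector p (n + 1) k) (coeffZero_ker p k n) σ (map_natCast σ p)
        (frobenius k p) ?_ (frobenius_fixed_finite p k) (n + 1) M T hq
      intro r
      rw [hσ, coeffZero_apply, coeffZero_apply, WittGrp.coeff_truncMap]
    · refine fix_finite_general (coeffZero p k n) (coeffZero_surjective p k n)
        (p : TruncatedWittVector p (n + 1) k) (coeffZero_ker p k n) σ (map_natCast σ p)
        ((frobeniusEquiv k p).symm.toRingHom) ?_ (frobeniusInv_fixed_finite p k) (n + 1) M T hq
      intro r
      rw [hσ, coeffZero_apply, coeffZero_apply, WittGrp.coeff_truncMap]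

end Groth.Agent.Lib.SigmaLinFixH1
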