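import Mathlib
import Groth.Agent.Lib.SigmaLinFix_helper1

/-!
# Finite generation of fixed points of semilinear endomorphisms over the fixed ring (helper1)
-/

set_option autoImplicit false
set_option maxHeartbeats 1000000

universe u v w

namespace Groth.Agent.Lib.SigmaFGH1

open Groth.Agent.Lib.SigmaLinFixH1

/-- the subring of `σ`-fixed elements -/
def FixR {R : Type u} [CommRing R] (σ : R →+* R) : Subring R := RingHom.eqLocus σ (RingHom.id R)

lemma mem_FixR {R : Type u} [CommRing R] (σ : R →+* R) (r : R) : r ∈ FixR σ ↔ σ r = r := Iff.rfl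

/-! ### fields -/

theorem fg_field {κ : Type u} [Field κ] {τ : κ →+* κ} {V : Type v} [AddCommGroup V]
    [Module κ V] [FiniteDimensional κ V] (T : V →ₛₗ[τ] V) (W : Submodule (FixR τ) V)
    (hW : ∀ v ∈ W, T v = v) : W.FG := by
  classical
  obtain ⟨b, hbsub, hbspan, hbli⟩ := exists_linearIndependent κ (W : Set V)
  have hbfin : b.Finite := hbli.setFinite
  haveI : Fintype b := hbfin.fintype
  rw [Submodule.fg_def]
  refine ⟨b, hbfin, le_antisymm (Submodule.span_le.mpr hbsub) ?_⟩
  intro v hv
  have hv1 : T v = v := hW v hv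
  have hv' : v ∈ Submodule.span κ (Set.range ((↑) : b → V)) := by
    rw [Subtype.range_coe, hbspan]; exact Submodule.subset_span hv
  obtain ⟨c, hc⟩ := (Submodule.mem_span_range_iff_exists_fun κ).mp hv'
  have hT : T v = ∑ x, τ (c x) • (x : V) := by
    rw [← hc, map_sum]
    refine Finset.sum_congr rfl fun x _ => ?_
    have hx : T (x : V) = x := hW _ (hbsub x.2)
    rw [map_smulₛₗ, hx]
  have h0 : ∑ x, (τ (c x) - c x) • (x : V) = 0 := by
    simp only [sub_smul, Finset.sum_sub_distrib]
    rw [← hT, hc, hv1, sub_self]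
  have hfix := Fintype.linearIndependent_iff.mp hbli _ h0
  rw [← hc]
  refine Submodule.sum_mem _ fun x _ => ?_
  have hcx : c x ∈ FixR τ := sub_eq_zero.mp (hfix x)
  have : c x • (x : V) = (⟨c x, hcx⟩ : FixR τ) • (x : V) := rfl
  rw [this]
  exact Submodule.smul_mem _ _ (Submodule.subset_span x.2)

/-! ### modules killed by the kernel of the residue map -/

section Base

variable {R : Type u} {κ : Type w} [CommRing R] [Field κ] (π : R →+* κ)
  (hπ : Function.Surjective π) {M : Type v} [AddCommGroup M] [Module R M]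

include hπ in
theorem fg_base (σ : R →+* R) (σbar : κ →+* κ) (hσbar : ∀ r, σbar (π r) = π (σ r))
    (hlift : ∀ x : κ, σbar x = x → ∃ r : R, σ r = r ∧ π r = x)
    [Module.Finite R M] (T : M →ₛₗ[σ] M)
    (hM : ∀ r : R, π r = 0 → ∀ m : M, r • m = 0) (W : Submodule (FixR σ) M)
    (hW : ∀ m ∈ W, T m = m) : W.FG := by
  classical
  letI : Module κ M := kappaModule π hπ hM
  have hks : ∀ (r : R) (m : M), (π r) • m = r • m := fun r m =>
    smul_eq_of_map_eq π hM (Function.surjInv_eq hπ _) m
  haveI : Module.Finite κ M := by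
    obtain ⟨s, hs⟩ := (Module.finite_def (R := R) (M := M)).mp inferInstance
    refine ⟨⟨s, ?_⟩⟩
    have key : ∀ m : M, m ∈ Submodule.span R (s : Set M) →
        m ∈ Submodule.span κ (s : Set M) := by
      intro m hm
      induction hm using Submodule.span_induction with
      | mem x hx => exact Submodule.subset_span hx
      | zero => exact Submodule.zero_mem _
      | add x y _ _ hx hy => exact Submodule.add_mem _ hx hy
      | smul r x _ hx => rw [← hks]; exact Submodule.smul_mem _ _ hx
    rw [_root_.eq_top_iff]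
    intro m _
    exact key m (by rw [hs]; trivial)
  let T' : M →ₛₗ[σbar] M :=
    { toFun := T
      map_add' := map_add T
      map_smul' := by
        intro c m
        obtain ⟨r, rfl⟩ := hπ c
        show T ((π r) • m) = σbar (π r) • T m
        rw [hks, map_smulₛₗ, hσbar, hks] }
  let W' : Submodule (FixR σbar) M :=
    { carrier := W
      add_mem' := fun ha hb => W.add_mem ha hb
      zero_mem' := W.zero_mem
      smul_mem' := by
        rintro ⟨c, hc⟩ m hm
        obtain ⟨r, hr, rfl⟩ := hlift c hc
        show (π r) • m ∈ W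
        rw [hks]
        exact W.smul_mem ⟨r, hr⟩ hm }
  have hW'fg : W'.FG := fg_field T' W' (fun v hv => hW v hv)
  obtain ⟨s, hs⟩ := hW'fg
  have key : ∀ v, v ∈ Submodule.span (FixR σbar) (s : Set M) →
      v ∈ Submodule.span (FixR σ) (s : Set M) := by
    intro v hv'
    induction hv' using Submodule.span_induction with
    | mem x hx => exact Submodule.subset_span hx
    | zero => exact Submodule.zero_mem _
    | add x y _ _ hx hy => exact Submodule.add_mem _ hx hy
    | smul c x _ hx =>
      obtain ⟨c, hc⟩ := c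
      obtain ⟨r, hr, rfl⟩ := hlift c hc
      have : (⟨π r, hc⟩ : FixR σbar) • x = (⟨r, hr⟩ : FixR σ) • x := hks r x
      rw [this]
      exact Submodule.smul_mem _ _ hx
  refine ⟨s, le_antisymm ?_ ?_⟩
  · apply Submodule.span_le.mpr
    intro x hx
    have : x ∈ W' := by rw [← hs]; exact Submodule.subset_span hx
    exact this
  · intro v hv
    exact key v (by rw [hs]; exact hv)

end Base

/-! ### dévissage -/

theorem fg_general {R : Type u} {κ : Type w} [CommRing R] [Field κ] (π : R →+* κ)
    (hπ : Function.Surjective π) (q : R) (hker : ∀ r, π r = 0 → ∃ a, r = a * q)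
    (σ : R →+* R) (hσq : σ q = q) (σbar : κ →+* κ) (hσbar : ∀ r, σbar (π r) = π (σ r))
    (hlift : ∀ x : κ, σbar x = x → ∃ r : R, σ r = r ∧ π r = x) (e : ℕ) :
    ∀ (M : Type v) [AddCommGroup M] [Module R M] [Module.Finite R M] (T : M →ₛₗ[σ] M),
      (∀ m : M, q ^ e • m = 0) → ∀ W : Submodule (FixR σ) M, (∀ m ∈ W, T m = m) → W.FG := by
  induction e with
  | zero =>
    intro M _ _ _ T h0 W hW
    have hsub : ∀ m : M, m = 0 := fun m => by simpa using h0 m
    have : W = ⊥ := by
      rw [eq_bot_iff]; intro m _; rw [hsub m]; exact Submodule.zero_mem _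
    rw [this]; exact Submodule.fg_bot
  | succ e ih =>
    intro M _ _ _ T hM W hW
    let N : Submodule R M := LinearMap.range (LinearMap.lsmul R M q)
    have hstab : ∀ x ∈ N, T x ∈ N := by
      intro x hx
      obtain ⟨y, rfl⟩ := LinearMap.mem_range.mp hx
      refine LinearMap.mem_range.mpr ⟨T y, ?_⟩
      rw [LinearMap.lsmul_apply, LinearMap.lsmul_apply, map_smulₛₗ, hσq]
    let TN : N →ₛₗ[σ] N :=
      { toFun := fun x => ⟨T x.1, hstab x.1 x.2⟩
        map_add' := fun x y => Subtype.ext (map_add T x.1 y.1)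
        map_smul' := fun c x => Subtype.ext (map_smulₛₗ T c x.1) }
    have hN : ∀ x : N, q ^ e • x = 0 := by
      intro x
      obtain ⟨y, hy⟩ := LinearMap.mem_range.mp x.2
      apply Subtype.ext
      show q ^ e • (x : M) = 0
      rw [← hy, LinearMap.lsmul_apply, smul_smul, ← pow_succ]
      exact hM y
    let TQ : (M ⧸ N) →ₛₗ[σ] (M ⧸ N) := N.mapQ N T (fun x hx => hstab x hx)
    have hQ : ∀ r : R, π r = 0 → ∀ m : M ⧸ N, r • m = 0 := by
      intro r hr m
      obtain ⟨a, rfl⟩ := hker r hr
      obtain ⟨m, rfl⟩ := Submodule.Quotient.mk_surjective N m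
      rw [← Submodule.Quotient.mk_smul, Submodule.Quotient.mk_eq_zero]
      exact LinearMap.mem_range.mpr ⟨a • m, by rw [LinearMap.lsmul_apply, smul_smul, mul_comm]⟩
    let incl : N →ₗ[FixR σ] M := (N.subtype).restrictScalars (FixR σ)
    let proj : M →ₗ[FixR σ] (M ⧸ N) := (N.mkQ).restrictScalars (FixR σ)
    have h1 : (W.comap incl).FG := ih N TN hN (W.comap incl) (by
      intro x hx
      apply Subtype.ext
      exact hW x.1 hx)
    have h2 : (W.map proj).FG := fg_base π hπ σ σbar hσbar hlift TQ hQ (W.map proj) (by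
      rintro _ ⟨m, hm, rfl⟩
      show N.mapQ N T (fun x hx => hstab x hx) (Submodule.Quotient.mk m) = Submodule.Quotient.mk m
      rw [Submodule.mapQ_apply, hW m hm])
    apply Submodule.fg_of_fg_map_of_fg_inf_ker proj h2
    have h3 : ((W.comap incl).map incl).FG := h1.map incl
    have e1 : (W.comap incl).map incl = W ⊓ LinearMap.ker proj := by
      ext m
      constructor
      · rintro ⟨x, hx, rfl⟩
        refine ⟨hx, ?_⟩
        show N.mkQ x.1 = 0
        rw [Submodule.mkQ_apply, Submodule.Quotient.mk_eq_zero]; exact x.2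
      · rintro ⟨hm, hk⟩
        have hmN : m ∈ N := by
          have : N.mkQ m = 0 := hk
          rwa [Submodule.mkQ_apply, Submodule.Quotient.mk_eq_zero] at this
        exact ⟨⟨m, hmN⟩, hm, rfl⟩
    rw [← e1]; exact h3

/-! ### the statement -/

theorem main19236
    (p : ℕ) [Fact p.Prime] (R : Type u) [CommRing R] [IsLocalRing R]
    (hmax : IsLocalRing.maximalIdeal R = Ideal.span {(p : R)}) (n : ℕ) (hn : (p : R) ^ n = 0)
    (σ : R →+* R) (σbar : IsLocalRing.ResidueField R →+* IsLocalRing.ResidueField R)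
    (hσbar : ∀ r : R, σbar (IsLocalRing.residue R r) = IsLocalRing.residue R (σ r))
    (M : Type v) [AddCommGroup M] [Module R M] [Module.Finite R M] (T : M →ₛₗ[σ] M)
    (hlift : ∀ x : IsLocalRing.ResidueField R, σbar x = x →
      ∃ r : R, σ r = r ∧ IsLocalRing.residue R r = x) :
    ∃ s : Finset M, (∀ m ∈ s, T m = m) ∧
      ∀ m : M, T m = m → ∃ c : M → R, (∀ x ∈ s, σ (c x) = c x) ∧ m = ∑ x ∈ s, c x • x := by
  let W : Submodule (FixR σ) M :=
    { carrier := {m | T m = m}
      add_mem' := by
        intro a b ha hb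
        have ha' : T a = a := ha
        have hb' : T b = b := hb
        show T (a + b) = a + b
        rw [map_add, ha', hb']
      zero_mem' := map_zero T
      smul_mem' := by
        rintro ⟨r, hr⟩ m hm
        have hr' : σ r = r := hr
        have hm' : T m = m := hm
        show T (r • m) = r • m
        rw [map_smulₛₗ, hr', hm'] }
  have hker : ∀ r : R, IsLocalRing.residue R r = 0 → ∃ a, r = a * (p : R) := by
    intro r hr
    rw [IsLocalRing.residue_eq_zero_iff, hmax] at hr
    obtain ⟨a, ha⟩ := Ideal.mem_span_singleton'.mp hr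
    exact ⟨a, ha.symm⟩
  have hfg : W.FG := fg_general (IsLocalRing.residue R) IsLocalRing.residue_surjective (p : R)
    hker σ (map_natCast σ p) σbar hσbar hlift n M T (fun m => by rw [hn, zero_smul]) W
    (fun m hm => hm)
  obtain ⟨s, hs⟩ := hfg
  refine ⟨s, ?_, ?_⟩
  · intro m hm
    have : m ∈ W := by rw [← hs]; exact Submodule.subset_span hm
    exact this
  · intro m hm
    have hmW : m ∈ Submodule.span (FixR σ) (s : Set M) := by rw [hs]; exact hm
    obtain ⟨f, _, hf⟩ := Submodule.mem_span_finset.mp hmW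
    refine ⟨fun x => (f x : R), fun x _ => (f x).2, ?_⟩
    rw [← hf]
    rfl

end Groth.Agent.Lib.SigmaFGH1
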