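import Mathlib

/-!
# Henselian couples and disjoint unions  (helper3)
-/

universe u

open CategoryTheory CategoryTheory.Limits AlgebraicGeometry TopologicalSpace

namespace Groth.Agent.Lib.SigmaHensH3

/-- topological gluing lemma -/
theorem glue_clopen {P Y ι : Type*} [TopologicalSpace P] [TopologicalSpace Y] (π : P → Y)
    {Yj Pj : ι → Type*} [∀ j, TopologicalSpace (Yj j)] [∀ j, TopologicalSpace (Pj j)]
    (a : ∀ j, Yj j → Y) (ha : ∀ j, Topology.IsOpenEmbedding (a j))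
    (hdisj : ∀ j k (y : Yj j) (y' : Yj k), a j y = a k y' → j = k)
    (hcov : ∀ y : Y, ∃ j, y ∈ Set.range (a j))
    (b : ∀ j, Pj j → P) (hb : ∀ j, Continuous (b j)) (πj : ∀ j, Pj j → Yj j)
    (hcomm : ∀ j x, π (b j x) = a j (πj j x))
    (hrange : ∀ j x, π x ∈ Set.range (a j) → x ∈ Set.range (b j))
    (H : ∀ j (Vj : Set (Pj j)), IsClopen Vj →
      ∃! Uj : Set (Yj j), IsClopen Uj ∧ πj j ⁻¹' Uj = Vj)
    (V : Set P) (hV : IsClopen V) : ∃! U : Set Y, IsClopen U ∧ π ⁻¹' U = V := by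
  classical
  choose Uj hUj hUjuniq using fun j => H j (b j ⁻¹' V) (hV.preimage (hb j))
  have hmem : ∀ j (y : Yj j), a j y ∈ (⋃ k, a k '' Uj k) ↔ y ∈ Uj j := by
    intro j y
    constructor
    · intro h
      obtain ⟨k, y', hy', heq⟩ := Set.mem_iUnion.1 h
      obtain rfl := hdisj k j y' y heq
      rwa [← (ha k).injective heq]
    · intro h
      exact Set.mem_iUnion.2 ⟨j, y, h, rfl⟩
  refine ⟨⋃ k, a k '' Uj k, ⟨⟨?_, ?_⟩, ?_⟩, ?_⟩
  · have hcompl : (⋃ k, a k '' Uj k)ᶜ = ⋃ k, a k '' (Uj k)ᶜ := by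
      ext y
      obtain ⟨j, y', rfl⟩ := hcov y
      rw [Set.mem_compl_iff, hmem]
      constructor
      · intro h
        exact Set.mem_iUnion.2 ⟨j, y', h, rfl⟩
      · intro h
        obtain ⟨k, y'', hy'', heq⟩ := Set.mem_iUnion.1 h
        obtain rfl := hdisj k j y'' y' heq
        rwa [← (ha k).injective heq]
    rw [← isOpen_compl_iff, hcompl]
    exact isOpen_iUnion fun k => (ha k).isOpenMap _ (hUj k).1.isClosed.isOpen_compl
  · exact isOpen_iUnion fun k => (ha k).isOpenMap _ (hUj k).1.isOpen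
  · ext x
    obtain ⟨j, hj⟩ := hcov (π x)
    obtain ⟨x', rfl⟩ := hrange j x hj
    rw [Set.mem_preimage, hcomm, hmem]
    exact Set.ext_iff.1 (hUj j).2 x'
  · rintro U' ⟨hU', hU'V⟩
    have hj : ∀ j, a j ⁻¹' U' = Uj j := fun j =>
      hUjuniq j _ ⟨hU'.preimage (ha j).continuous, by
        ext x
        simp only [Set.mem_preimage]
        rw [← hcomm, ← hU'V]
        rfl⟩
    ext y
    obtain ⟨j, y', rfl⟩ := hcov y
    rw [hmem, ← hj]
    rfl

theorem transport_clopen {P₁ P₂ Y : Type*} [TopologicalSpace P₁] [TopologicalSpace P₂]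
    [TopologicalSpace Y] (π₁ : P₁ → Y) (π₂ : P₂ → Y) (θ : P₁ → P₂) (θ' : P₂ → P₁)
    (hθ' : Continuous θ') (h1 : ∀ x, θ' (θ x) = x) (h2 : ∀ x, θ (θ' x) = x)
    (hcomm : ∀ x, π₂ (θ x) = π₁ x)
    (H : ∀ V : Set P₂, IsClopen V → ∃! U : Set Y, IsClopen U ∧ π₂ ⁻¹' U = V)
    (V : Set P₁) (hV : IsClopen V) : ∃! U : Set Y, IsClopen U ∧ π₁ ⁻¹' U = V := by
  obtain ⟨U, ⟨hU, hUV⟩, huniq⟩ := H (θ' ⁻¹' V) (hV.preimage hθ')
  refine ⟨U, ⟨hU, ?_⟩, ?_⟩
  · ext x
    have := Set.ext_iff.1 hUV (θ x)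
    simp only [Set.mem_preimage, hcomm, h1] at this
    exact this
  · rintro U' ⟨hU', hU'V⟩
    apply huniq
    refine ⟨hU', ?_⟩
    ext x
    have := Set.ext_iff.1 hU'V (θ' x)
    simp only [Set.mem_preimage] at this ⊢
    rw [← this, ← hcomm, h2]

section Sch

variable {ι : Type u} (X X₀ : ι → Scheme.{u}) (i : ∀ j, X₀ j ⟶ X j)

theorem sigma_map_apply (k : ι) (y : X₀ k) :
    (Limits.Sigma.map i) (Sigma.ι X₀ k y) = Sigma.ι X k (i k y) := by
  rw [← Scheme.Hom.comp_apply, ← Scheme.Hom.comp_apply, Sigma.ι_map]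

theorem exists_sigmaι (x : ↥(∐ X)) : ∃ (k : ι) (y : X k), Sigma.ι X k y = x := by
  obtain ⟨⟨k, y⟩, rfl⟩ := (sigmaMk X).surjective x
  exact ⟨k, y, (sigmaMk_mk X k y).symm⟩

theorem sigmaι_index_eq {j k : ι} (z : X j) (y : X k) (h : Sigma.ι X j z = Sigma.ι X k y) :
    j = k := by
  have := (sigmaι_eq_iff X j k z y).1 h
  exact (Sigma.mk.inj_iff.1 this).1

theorem isPullback_sigma (j : ι) :
    IsPullback (i j) (Sigma.ι X₀ j) (Sigma.ι X j) (Limits.Sigma.map i) := by
  apply IsOpenImmersion.isPullback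
  · simp
  · ext x
    constructor
    · intro hx
      obtain ⟨k, y, rfl⟩ := exists_sigmaι X₀ x
      obtain ⟨z, hz⟩ := hx
      rw [sigma_map_apply] at hz
      obtain rfl := sigmaι_index_eq X z (i k y) hz
      exact ⟨y, rfl⟩
    · rintro ⟨y, rfl⟩
      exact ⟨i j y, (sigma_map_apply X X₀ i j y).symm⟩

theorem isClosedImmersion_sigmaι (j : ι) : IsClosedImmersion (Sigma.ι X j) := by
  apply IsClosedImmersion.of_isPreimmersion
  rw [← isOpen_compl_iff]
  have : (Set.range (Sigma.ι X j))ᶜ = ⋃ k ∈ {k | k ≠ j}, Set.range (Sigma.ι X k) := by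
    ext x
    obtain ⟨k, y, rfl⟩ := exists_sigmaι X x
    simp only [Set.mem_compl_iff, Set.mem_range, Set.mem_iUnion, Set.mem_setOf_eq]
    constructor
    · intro h
      refine ⟨k, ?_, y, rfl⟩
      rintro rfl
      exact h ⟨y, rfl⟩
    · rintro ⟨k', hk', y', hy'⟩ ⟨z, hz⟩
      have e1 := sigmaι_index_eq X y' y hy'
      have e2 := sigmaι_index_eq X z y hz
      exact hk' (e1.trans e2.symm)
  rw [this]
  exact isOpen_biUnion fun k _ => (Sigma.ι X k).isOpenEmbedding.isOpen_range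

theorem isPullback_big (j : ι) {Y : Scheme.{u}} (g : Y ⟶ X j) :
    IsPullback (pullback.fst g (i j)) (pullback.snd g (i j) ≫ Sigma.ι X₀ j)
      (g ≫ Sigma.ι X j) (Limits.Sigma.map i) :=
  ((IsPullback.of_hasPullback g (i j)).flip.paste_horiz (isPullback_sigma X X₀ i j).flip).flip

theorem forward
    (H : ∀ (Y : Scheme.{u}) (g : Y ⟶ ∐ X), IsFinite g →
      ∀ V : Set ↥(pullback g (Limits.Sigma.map i)), IsClopen V →
        ∃! U : Set ↥Y, IsClopen U ∧ (pullback.fst g (Limits.Sigma.map i)).base ⁻¹' U = V)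
    (j : ι) (Y : Scheme.{u}) (g : Y ⟶ X j) (hg : IsFinite g)
    (V : Set ↥(pullback g (i j))) (hV : IsClopen V) :
    ∃! U : Set ↥Y, IsClopen U ∧ (pullback.fst g (i j)).base ⁻¹' U = V := by
  haveI : IsClosedImmersion (Sigma.ι X j) := isClosedImmersion_sigmaι X j
  have hbig := isPullback_big X X₀ i j g
  have hθ : hbig.isoPullback.hom ≫ pullback.fst _ _ = pullback.fst g (i j) :=
    hbig.isoPullback_hom_fst
  refine transport_clopen (pullback.fst g (i j)).base
    (pullback.fst (g ≫ Sigma.ι X j) (Limits.Sigma.map i)).base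
    hbig.isoPullback.hom.base hbig.isoPullback.inv.base
    hbig.isoPullback.inv.continuous ?_ ?_ ?_ (H Y (g ≫ Sigma.ι X j) inferInstance) V hV
  · intro x
    show (hbig.isoPullback.hom ≫ hbig.isoPullback.inv) x = x
    rw [Iso.hom_inv_id]
    rfl
  · intro x
    show (hbig.isoPullback.inv ≫ hbig.isoPullback.hom) x = x
    rw [Iso.inv_hom_id]
    rfl
  · intro x
    show (hbig.isoPullback.hom ≫ pullback.fst _ _) x = _
    rw [hθ]

theorem backward
    (H : ∀ j : ι, ∀ (Y : Scheme.{u}) (g : Y ⟶ X j), IsFinite g →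
      ∀ V : Set ↥(pullback g (i j)), IsClopen V →
        ∃! U : Set ↥Y, IsClopen U ∧ (pullback.fst g (i j)).base ⁻¹' U = V)
    (Y : Scheme.{u}) (g : Y ⟶ ∐ X) (hg : IsFinite g)
    (V : Set ↥(pullback g (Limits.Sigma.map i))) (hV : IsClopen V) :
    ∃! U : Set ↥Y, IsClopen U ∧ (pullback.fst g (Limits.Sigma.map i)).base ⁻¹' U = V := by
  -- the pieces
  let a : ∀ j, pullback g (Sigma.ι X j) ⟶ Y := fun j => pullback.fst g (Sigma.ι X j)
  let gj : ∀ j, pullback g (Sigma.ι X j) ⟶ X j := fun j => pullback.snd g (Sigma.ι X j)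
  have hagj : ∀ j, a j ≫ g = gj j ≫ Sigma.ι X j := fun j => pullback.condition
  -- the maps `b j`
  have hbcond : ∀ j, (pullback.fst (gj j) (i j) ≫ a j) ≫ g =
      (pullback.snd (gj j) (i j) ≫ Sigma.ι X₀ j) ≫ Limits.Sigma.map i := by
    intro j
    rw [Category.assoc, hagj, Category.assoc, Sigma.ι_map, ← Category.assoc, ← Category.assoc,
      pullback.condition]
  let b : ∀ j, pullback (gj j) (i j) ⟶ pullback g (Limits.Sigma.map i) := fun j =>
    pullback.lift (pullback.fst (gj j) (i j) ≫ a j)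
      (pullback.snd (gj j) (i j) ≫ Sigma.ι X₀ j) (hbcond j)
  have hbfst : ∀ j, b j ≫ pullback.fst g (Limits.Sigma.map i) =
      pullback.fst (gj j) (i j) ≫ a j := fun j => pullback.lift_fst _ _ _
  have hbsnd : ∀ j, b j ≫ pullback.snd g (Limits.Sigma.map i) =
      pullback.snd (gj j) (i j) ≫ Sigma.ι X₀ j := fun j => pullback.lift_snd _ _ _
  -- the left square is a pullback
  have hleft : ∀ j, IsPullback (b j) (pullback.fst (gj j) (i j))
      (pullback.fst g (Limits.Sigma.map i)) (a j) := by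
    intro j
    have hbig := isPullback_big X X₀ i j (gj j)
    have hright := (IsPullback.of_hasPullback g (Limits.Sigma.map i)).flip
    -- hright : IsPullback snd fst σ g
    refine IsPullback.of_right ?_ (hbfst j) hright
    rw [hbsnd j, hagj j]
    exact hbig.flip
  haveI hbopen : ∀ j, IsOpenImmersion (b j) := fun j =>
    MorphismProperty.of_isPullback (P := @IsOpenImmersion) (hleft j).flip inferInstance
  haveI : ∀ j, IsFinite (gj j) := fun j => inferInstance
  refine glue_clopen (ι := ι) (pullback.fst g (Limits.Sigma.map i)).base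
    (Yj := fun j => ↥(pullback g (Sigma.ι X j))) (Pj := fun j => ↥(pullback (gj j) (i j)))
    (fun j => (a j).base) (fun j => (a j).isOpenEmbedding) ?_ ?_
    (fun j => (b j).base) (fun j => (b j).continuous)
    (fun j => (pullback.fst (gj j) (i j)).base) ?_ ?_
    (fun j => H j _ (gj j) inferInstance) V hV
  · intro j k y y' h
    have h1 : g (a j y) = Sigma.ι X j (gj j y) := by
      rw [← Scheme.Hom.comp_apply, ← Scheme.Hom.comp_apply, hagj]
    have h2 : g (a k y') = Sigma.ι X k (gj k y') := by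
      rw [← Scheme.Hom.comp_apply, ← Scheme.Hom.comp_apply, hagj]
    have h3 : (a j) y = (a k) y' := h
    rw [h3, h2] at h1
    exact (sigmaι_index_eq X _ _ h1).symm
  · intro y
    obtain ⟨k, z, hz⟩ := exists_sigmaι X (g y)
    refine ⟨k, ?_⟩
    have := IsOpenImmersion.range_pullbackFst (Sigma.ι X k) g
    show y ∈ Set.range (pullback.fst g (Sigma.ι X k))
    rw [this]
    exact ⟨z, hz⟩
  · intro j x
    show (b j ≫ pullback.fst g (Limits.Sigma.map i)) x = (pullback.fst (gj j) (i j) ≫ a j) x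
    rw [hbfst]
  · intro j x hx
    have h1 := IsOpenImmersion.image_preimage_eq_preimage_image_of_isPullback (hleft j).flip ⊤
    have h2 : x ∈ (pullback.fst g (Limits.Sigma.map i)) ⁻¹ᵁ ((a j) ''ᵁ ⊤) := by
      obtain ⟨y, hy⟩ := hx
      exact ⟨y, trivial, hy⟩
    rw [← h1] at h2
    obtain ⟨x', -, hx'⟩ := h2
    exact ⟨x', hx'⟩

theorem main (i : ∀ j, X₀ j ⟶ X j) :
    (∀ (Y : Scheme.{u}) (g : Y ⟶ ∐ X), IsFinite g →
      ∀ V : Set ↥(pullback g (Limits.Sigma.map i)), IsClopen V →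
        ∃! U : Set ↥Y, IsClopen U ∧ (pullback.fst g (Limits.Sigma.map i)).base ⁻¹' U = V) ↔
    ∀ j : ι, ∀ (Y : Scheme.{u}) (g : Y ⟶ X j), IsFinite g →
      ∀ V : Set ↥(pullback g (i j)), IsClopen V →
        ∃! U : Set ↥Y, IsClopen U ∧ (pullback.fst g (i j)).base ⁻¹' U = V :=
  ⟨fun H j Y g hg V hV => forward X X₀ i H j Y g hg V hV,
    fun H Y g hg V hV => backward X X₀ i H Y g hg V hV⟩

end Sch

end Groth.Agent.Lib.SigmaHensH3
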