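import Mathlib

/-!
# The ideal generated by `a - σ a` for a finite-order automorphism of a local `k`-algebra
-/

set_option autoImplicit false
universe u

namespace Groth.Agent.Lib.SigmaIdealH3

open IsLocalRing

variable {k : Type u} [Field k] {A : Type u} [CommRing A] [Algebra k A]

section basic

variable (σ : A →ₐ[k] A)

/-- The ideal generated by the `a - σ a`. -/
def Isig : Ideal A := Ideal.span (Set.range fun a : A => a - σ a)

theorem sub_pow_mem (i : ℕ) (a : A) : a - (σ ^ i) a ∈ Isig σ := by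
  induction i generalizing a with
  | zero => simp
  | succ i ih =>
    have h : a - (σ ^ (i + 1)) a = (a - σ a) + (σ a - (σ ^ i) (σ a)) := by
      rw [pow_succ, AlgHom.mul_apply]; ring
    rw [h]
    exact Ideal.add_mem _ (Ideal.subset_span ⟨a, rfl⟩) (ih (σ a))

/-- The averaging operator. -/
noncomputable def avg (n : ℕ) : A →ₗ[k] A :=
  (n : k)⁻¹ • ∑ i ∈ Finset.range n, (σ ^ i).toLinearMap

theorem avg_apply (n : ℕ) (a : A) :
    avg σ n a = (n : k)⁻¹ • ∑ i ∈ Finset.range n, (σ ^ i) a := by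
  simp [avg, LinearMap.sum_apply]

theorem avg_map {n : ℕ} (hσ : σ ^ n = 1) (a : A) : avg σ n (σ a) = avg σ n a := by
  rw [avg_apply, avg_apply]
  congr 1
  have h1 : ∀ i, (σ ^ i) (σ a) = (σ ^ (i + 1)) a := by
    intro i
    rw [pow_succ, AlgHom.mul_apply]
  simp_rw [h1]
  have h2 := Finset.sum_range_succ' (fun i => (σ ^ i) a) n
  have h3 := Finset.sum_range_succ (fun i => (σ ^ i) a) n
  rw [h3] at h2
  simp only [pow_zero, hσ, AlgHom.one_apply] at h2
  exact (add_right_cancel h2).symm

theorem eq_of_avg_eq_zero {n : ℕ} (hn : (n : k) ≠ 0) (a : A) (ha : avg σ n a = 0) :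
    a = (n : k)⁻¹ • ∑ i ∈ Finset.range n, (a - (σ ^ i) a) := by
  rw [Finset.sum_sub_distrib, smul_sub, ← avg_apply, ha, sub_zero, Finset.sum_const,
    Finset.card_range, ← Nat.cast_smul_eq_nsmul k n a, smul_smul, inv_mul_cancel₀ hn, one_smul]

theorem mem_of_avg_eq_zero {n : ℕ} (hn : (n : k) ≠ 0) (a : A) (ha : avg σ n a = 0) :
    a ∈ Isig σ := by
  rw [eq_of_avg_eq_zero σ hn a ha]
  exact Submodule.smul_of_tower_mem _ _ (Ideal.sum_mem _ fun i _ => sub_pow_mem σ i a)

variable [IsLocalRing A]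

theorem map_mem_maximalIdeal {n : ℕ} (hσ : σ ^ n = 1) (hn : n ≠ 0) (x : A)
    (hx : x ∈ maximalIdeal A) : σ x ∈ maximalIdeal A := by
  rw [mem_maximalIdeal, mem_nonunits_iff] at *
  intro hu
  apply hx
  have h : x = (σ ^ (n - 1)) (σ x) := by
    rw [← AlgHom.mul_apply, ← pow_succ, Nat.sub_add_cancel (Nat.one_le_iff_ne_zero.mpr hn), hσ]
    rfl
  rw [h]
  exact hu.map _

theorem pow_map_mem_maximalIdeal {n : ℕ} (hσ : σ ^ n = 1) (hn : n ≠ 0) (i : ℕ) (x : A)
    (hx : x ∈ maximalIdeal A) : (σ ^ i) x ∈ maximalIdeal A := by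
  induction i generalizing x with
  | zero => simpa using hx
  | succ i ih =>
    rw [pow_succ, AlgHom.mul_apply]
    exact ih _ (map_mem_maximalIdeal σ hσ hn x hx)

theorem sub_pow_mem_smul {n : ℕ} (hσ : σ ^ n = 1) (hn : n ≠ 0) (i : ℕ) (z : A)
    (hz : z ∈ maximalIdeal A ^ 2) : z - (σ ^ i) z ∈ maximalIdeal A • Isig σ := by
  rw [pow_two] at hz
  rw [smul_eq_mul]
  induction hz using Submodule.mul_induction_on' with
  | mem_mul_mem a ha b hb =>
    have h : a * b - (σ ^ i) (a * b) = a * (b - (σ ^ i) b) + (σ ^ i) b * (a - (σ ^ i) a) := by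
      rw [map_mul]; ring
    rw [h]
    exact Ideal.add_mem _ (Ideal.mul_mem_mul ha (sub_pow_mem σ i b))
      (Ideal.mul_mem_mul (pow_map_mem_maximalIdeal σ hσ hn i b hb) (sub_pow_mem σ i a))
  | add x hx y hy ihx ihy =>
    have h : x + y - (σ ^ i) (x + y) = (x - (σ ^ i) x) + (y - (σ ^ i) y) := by
      rw [map_add]; ring
    rw [h]
    exact Ideal.add_mem _ ihx ihy

theorem mem_smul_of_sq {n : ℕ} (hσ : σ ^ n = 1) (hn : (n : k) ≠ 0) (z : A)
    (hz : z ∈ maximalIdeal A ^ 2) (hz0 : avg σ n z = 0) : z ∈ maximalIdeal A • Isig σ := by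
  have hn0 : n ≠ 0 := by
    rintro rfl
    simp at hn
  rw [eq_of_avg_eq_zero σ hn z hz0]
  exact Submodule.smul_of_tower_mem _ _
    (Submodule.sum_mem _ fun i _ => sub_pow_mem_smul σ hσ hn0 i z hz)

end basic

theorem main [IsLocalRing A] [IsNoetherianRing A]
    (hres : Function.Surjective ⇑(algebraMap k (IsLocalRing.ResidueField A)))
    (σ : A →ₐ[k] A) (n : ℕ) (hσ : ∀ a : A, (⇑σ)^[n] a = a) (hn : (n : k) ≠ 0) :
    ∃ (m : ℕ) (f : Fin m → ↥(IsLocalRing.maximalIdeal A)),
      Ideal.span (Set.range fun i : Fin m => (f i : A)) =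
        Ideal.span (Set.range fun a : A => a - σ a) ∧
      LinearIndependent (IsLocalRing.ResidueField A)
        (fun i : Fin m => (IsLocalRing.maximalIdeal A).toCotangent (f i)) := by
  classical
  have hσn : σ ^ n = 1 := AlgHom.ext fun a => by
    rw [AlgHom.coe_pow]; exact hσ a
  have hn0 : n ≠ 0 := by
    rintro rfl
    simp at hn
  set 𝔪 := maximalIdeal A with h𝔪
  set q := 𝔪.toCotangent with hq
  set S : Set 𝔪.Cotangent := {v | ∃ z : 𝔪, avg σ n (z : A) = 0 ∧ q z = v} with hS
  obtain ⟨b, hbS, hbspan, hbli⟩ := exists_linearIndependent (ResidueField A) S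
  have hbfin : b.Finite := hbli.setFinite
  haveI : Fintype b := hbfin.fintype
  let eb : b ≃ Fin (Fintype.card b) := Fintype.equivFin b
  have hchoose : ∀ v : b, ∃ z : 𝔪, avg σ n (z : A) = 0 ∧ q z = v := fun v => hbS v.2
  choose g hg0 hgq using hchoose
  refine ⟨Fintype.card b, fun j => g (eb.symm j), ?_, ?_⟩
  · change _ = Isig σ
    apply le_antisymm
    · rw [Ideal.span_le]
      rintro _ ⟨j, rfl⟩
      exact mem_of_avg_eq_zero σ hn _ (hg0 _)
    · apply Submodule.le_of_le_smul_of_le_jacobson_bot (I := 𝔪) (IsNoetherian.noetherian _)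
        (maximalIdeal_le_jacobson ⊥)
      change Ideal.span _ ≤ _
      rw [Ideal.span_le]
      rintro _ ⟨a, rfl⟩
      have hg0' : avg σ n (a - σ a) = 0 := by
        rw [map_sub, avg_map σ hσn, sub_self]
      have hgm : a - σ a ∈ 𝔪 := by
        obtain ⟨c, hc⟩ := hres (IsLocalRing.residue A a)
        have hx : a - algebraMap k A c ∈ 𝔪 := by
          rw [← Ideal.Quotient.eq_zero_iff_mem]
          change IsLocalRing.residue A (a - algebraMap k A c) = 0
          rw [map_sub, ← hc, sub_eq_zero, IsScalarTower.algebraMap_apply k A (ResidueField A)]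
          rfl
        have hx' := map_mem_maximalIdeal σ hσn hn0 _ hx
        have h : a - σ a = (a - algebraMap k A c) - σ (a - algebraMap k A c) := by
          rw [map_sub, AlgHom.commutes]; ring
        rw [h]
        exact Ideal.sub_mem _ hx hx'
      have hSmem : q ⟨a - σ a, hgm⟩ ∈ S := ⟨⟨_, hgm⟩, hg0', rfl⟩
      have hspan : q ⟨a - σ a, hgm⟩ ∈ Submodule.span (ResidueField A)
          (Set.range fun j => q (g (eb.symm j))) := by
        have hr : Set.range (fun j => q (g (eb.symm j))) = b := by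
          ext v
          constructor
          · rintro ⟨j, rfl⟩
            beta_reduce
            rw [hgq]
            exact (eb.symm j).2
          · intro hv
            exact ⟨eb ⟨v, hv⟩, by beta_reduce; rw [eb.symm_apply_apply, hgq]⟩
        rw [hr, hbspan]
        exact Submodule.subset_span hSmem
      obtain ⟨cbar, hcbar⟩ := (Submodule.mem_span_range_iff_exists_fun _).mp hspan
      choose c hc using fun j => hres (cbar j)
      set z' : A := (a - σ a) - ∑ j, algebraMap k A (c j) * (g (eb.symm j) : A) with hz'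
      have hz'm : z' ∈ 𝔪 :=
        Ideal.sub_mem _ hgm (Ideal.sum_mem _ fun j _ => Ideal.mul_mem_left _ _ (g (eb.symm j)).2)
      have hz'q : q ⟨z', hz'm⟩ = 0 := by
        have h1 : (⟨z', hz'm⟩ : 𝔪) =
            ⟨a - σ a, hgm⟩ - ∑ j, (algebraMap k A (c j)) • g (eb.symm j) := by
          ext
          simp [hz', Algebra.smul_def]
        rw [h1, map_sub, map_sum, ← hcbar, sub_eq_zero]
        refine Finset.sum_congr rfl fun j _ => ?_
        rw [map_smul, ← hc j, IsScalarTower.algebraMap_apply k A (ResidueField A), algebraMap_smul]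
      have hz'2 : z' ∈ 𝔪 ^ 2 := (Ideal.toCotangent_eq_zero _ _).mp hz'q
      have hz'0 : avg σ n z' = 0 := by
        rw [hz', map_sub, hg0', map_sum, zero_sub, neg_eq_zero]
        refine Finset.sum_eq_zero fun j _ => ?_
        rw [← Algebra.smul_def, map_smul, hg0, smul_zero]
      have hz'I : z' ∈ 𝔪 • Isig σ := mem_smul_of_sq σ hσn hn z' hz'2 hz'0
      have h2 : a - σ a = ∑ j, algebraMap k A (c j) * (g (eb.symm j) : A) + z' := by
        rw [hz']; ring
      change a - σ a ∈ _
      rw [h2]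
      exact Submodule.add_mem_sup
        (Ideal.sum_mem _ fun j _ => Ideal.mul_mem_left _ _ (Ideal.subset_span ⟨j, rfl⟩)) hz'I
  · have h : (fun j => q (g (eb.symm j))) = Subtype.val ∘ eb.symm := by
      funext j
      exact hgq _
    rw [h]
    exact hbli.comp _ eb.symm.injective

end Groth.Agent.Lib.SigmaIdealH3
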