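import Groth.Agent.Lib.SigmaLin_helper3

/-!
# Helper library for the `SigmaLin` statements (helper3): the solvability conditions for the
Frobenius of an algebraically closed field and its inverse
-/

set_option autoImplicit false
set_option linter.unusedSectionVars false

universe u v

open Polynomial

namespace Groth.Agent.Lib.SigmaLinFrob_helper3

open Groth.Agent.Lib.SigmaLin_helper3

variable {k : Type u} [Field k]

/-- over an algebraically closed field a polynomial with two nonzero coefficients has a nonzero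
root. -/
lemma exists_ne_zero_root [IsAlgClosed k] (Q : k[X]) {i j : ℕ} (hij : i ≠ j)
    (hi : Q.coeff i ≠ 0) (hj : Q.coeff j ≠ 0) : ∃ z : k, z ≠ 0 ∧ Q.eval z = 0 := by
  have hQ0 : Q ≠ 0 := by
    intro h0; rw [h0] at hi; simp at hi
  obtain ⟨R, hQ, hR⟩ := exists_eq_pow_rootMultiplicity_mul_and_not_dvd Q hQ0 0
  rw [C_0, sub_zero] at hQ hR
  obtain ⟨m, hm⟩ : ∃ m, m = Q.rootMultiplicity 0 := ⟨_, rfl⟩
  rw [← hm] at hQ
  have hdeg : R.degree ≠ 0 := by
    intro h0
    rw [eq_C_of_degree_eq_zero h0] at hQ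
    have hc : ∀ l, Q.coeff l = if l = m then R.coeff 0 else 0 := by
      intro l
      rw [hQ, mul_comm, coeff_C_mul, coeff_X_pow, mul_ite, mul_one, mul_zero]
    rw [hc] at hi hj
    have h1 : i = m := by
      by_contra hne; rw [if_neg hne] at hi; exact hi rfl
    have h2 : j = m := by
      by_contra hne; rw [if_neg hne] at hj; exact hj rfl
    exact hij (h1.trans h2.symm)
  obtain ⟨z, hz⟩ := IsAlgClosed.exists_root R hdeg
  refine ⟨z, ?_, ?_⟩
  · rintro rfl
    apply hR
    have := dvd_iff_isRoot.mpr hz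
    rwa [C_0, sub_zero] at this
  · rw [hQ, eval_mul, hz.eq_zero, mul_zero]

variable (p : ℕ) [Fact p.Prime] [CharP k p]

lemma cond3_frobenius [IsAlgClosed k] : Cond3 (frobenius k p) := by
  intro c
  have hp := (Fact.out : p.Prime)
  have hdeg : (X ^ p - X + C c : k[X]).degree ≠ 0 := by
    intro h0
    have h1 := congrArg (fun q : k[X] => q.coeff p) (eq_C_of_degree_eq_zero h0)
    simp only [coeff_add, coeff_sub, coeff_X_pow, coeff_C, if_true] at h1
    rw [coeff_X, if_neg hp.one_lt.ne, if_neg hp.pos.ne', if_neg hp.pos.ne'] at h1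
    simp at h1
  obtain ⟨y, hy⟩ := IsAlgClosed.exists_root _ hdeg
  refine ⟨y, ?_⟩
  have := hy.eq_zero
  simpa [frobenius_def] using this

lemma cond3_frobeniusInv [IsAlgClosed k] :
    Cond3 ((frobeniusEquiv k p).symm.toRingHom) := by
  intro c
  have hp := (Fact.out : p.Prime)
  have hdeg : (X - X ^ p + C c : k[X]).degree ≠ 0 := by
    intro h0
    have h1 := congrArg (fun q : k[X] => q.coeff p) (eq_C_of_degree_eq_zero h0)
    simp only [coeff_add, coeff_sub, coeff_X_pow, coeff_C, if_true] at h1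
    rw [coeff_X, if_neg hp.one_lt.ne, if_neg hp.pos.ne', if_neg hp.pos.ne'] at h1
    simp at h1
  obtain ⟨z, hz⟩ := IsAlgClosed.exists_root _ hdeg
  refine ⟨z ^ p, ?_⟩
  have := hz.eq_zero
  have h2 : (frobeniusEquiv k p).symm.toRingHom (z ^ p) = z := by
    show (frobeniusEquiv k p).symm (z ^ p) = z
    rw [← frobenius_def, frobeniusEquiv_symm_apply_frobenius]
  rw [h2]
  simpa using this

lemma frobeniusInv_surjective [PerfectRing k p] :
    Function.Surjective ((frobeniusEquiv k p).symm.toRingHom) :=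
  (frobeniusEquiv k p).symm.surjective

lemma iterate_ne_zero (σ : k →+* k) (m : ℕ) {a : k} (ha : a ≠ 0) : (⇑σ)^[m] a ≠ 0 := by
  induction m with
  | zero => exact ha
  | succ m ih =>
    rw [Function.iterate_succ_apply']
    exact (map_ne_zero σ).mpr ih

lemma cond2_frobenius [IsAlgClosed k] : Cond2 (frobenius k p) := by
  intro n b hb
  have hp := (Fact.out : p.Prime)
  set β : Fin (n + 1) → k := fun i => (⇑(frobenius k p))^[i.val] (b (Fin.rev i)) with hβ
  obtain ⟨j, hj⟩ : ∃ j, b j ≠ 0 := by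
    by_contra hcon
    push Not at hcon
    exact hb (funext hcon)
  have hβ1 : β (Fin.rev j) ≠ 0 := by
    simp only [hβ, Fin.rev_rev]
    exact iterate_ne_zero _ _ hj
  set Q : k[X] := ∑ i : Fin (n + 1), C (β i) * X ^ (p ^ (i.val + 1)) - X with hQ
  have hcoeff : ∀ l, Q.coeff l =
      ∑ i : Fin (n + 1), (if l = p ^ (i.val + 1) then β i else 0) - if l = 1 then 1 else 0 := by
    intro l
    rw [hQ, coeff_sub, finsetSum_coeff, coeff_X]
    congr 1
    · refine Finset.sum_congr rfl fun i _ => ?_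
      rw [coeff_C_mul, coeff_X_pow, mul_ite, mul_one, mul_zero]
    · simp only [eq_comm]
  have hpow1 : ∀ i : Fin (n + 1), (1 : ℕ) ≠ p ^ (i.val + 1) := fun i =>
    (Nat.one_lt_pow (Nat.succ_ne_zero _) hp.one_lt).ne
  have h1 : Q.coeff 1 ≠ 0 := by
    rw [hcoeff, Finset.sum_eq_zero (fun i _ => if_neg (hpow1 i))]
    simp
  have h2 : Q.coeff (p ^ ((Fin.rev j).val + 1)) ≠ 0 := by
    rw [hcoeff, Finset.sum_eq_single (Fin.rev j)]
    · rw [if_pos rfl, if_neg (hpow1 _).symm, sub_zero]
      exact hβ1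
    · intro i _ hi
      rw [if_neg]
      intro heq
      have := Nat.pow_right_injective hp.two_le heq
      exact hi (Fin.ext (by omega))
    · intro h; exact absurd (Finset.mem_univ _) h
  obtain ⟨z, hz0, hz⟩ := exists_ne_zero_root Q (hpow1 (Fin.rev j)) h1 h2
  refine ⟨z, hz0, ?_⟩
  rw [hQ, eval_sub, eval_finsetSum, eval_X, sub_eq_zero] at hz
  refine hz.symm.trans (Finset.sum_congr rfl fun i _ => ?_)
  rw [eval_mul, eval_C, eval_pow, eval_X, iterate_frobenius, mul_comm]

lemma iterate_frobeniusInv_iterate_frobenius [PerfectRing k p] (m : ℕ) (w : k) :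
    (⇑((frobeniusEquiv k p).symm.toRingHom))^[m] ((⇑(frobenius k p))^[m] w) = w := by
  induction m generalizing w with
  | zero => rfl
  | succ m ih =>
    rw [Function.iterate_succ_apply, Function.iterate_succ_apply']
    have : (frobeniusEquiv k p).symm.toRingHom (frobenius k p ((⇑(frobenius k p))^[m] w)) =
        (⇑(frobenius k p))^[m] w := frobeniusEquiv_symm_apply_frobenius k p _
    rw [this, ih]

lemma cond2_frobeniusInv [IsAlgClosed k] : Cond2 ((frobeniusEquiv k p).symm.toRingHom) := by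
  intro n b hb
  have hp := (Fact.out : p.Prime)
  set σ : k →+* k := (frobeniusEquiv k p).symm.toRingHom with hσ
  set β : Fin (n + 1) → k := fun i => (⇑σ)^[i.val] (b (Fin.rev i)) with hβ
  obtain ⟨j, hj⟩ : ∃ j, b j ≠ 0 := by
    by_contra hcon
    push Not at hcon
    exact hb (funext hcon)
  have hβ1 : β (Fin.rev j) ≠ 0 := by
    simp only [hβ, Fin.rev_rev]
    exact iterate_ne_zero _ _ hj
  set Q : k[X] := X ^ (p ^ (n + 1)) - ∑ i : Fin (n + 1), C (β i) * X ^ (p ^ (n - i.val)) with hQ
  have hcoeff : ∀ l, Q.coeff l = (if l = p ^ (n + 1) then 1 else 0) -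
      ∑ i : Fin (n + 1), (if l = p ^ (n - i.val) then β i else 0) := by
    intro l
    rw [hQ, coeff_sub, finsetSum_coeff, coeff_X_pow]
    congr 1
    refine Finset.sum_congr rfl fun i _ => ?_
    rw [coeff_C_mul, coeff_X_pow, mul_ite, mul_one, mul_zero]
  have hpow1 : ∀ i : Fin (n + 1), p ^ (n + 1) ≠ p ^ (n - i.val) := fun i heq => by
    have := Nat.pow_right_injective hp.two_le heq
    omega
  have h1 : Q.coeff (p ^ (n + 1)) ≠ 0 := by
    rw [hcoeff, Finset.sum_eq_zero (fun i _ => if_neg (hpow1 i))]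
    simp
  have h2 : Q.coeff (p ^ (n - (Fin.rev j).val)) ≠ 0 := by
    rw [hcoeff, Finset.sum_eq_single (Fin.rev j)]
    · rw [if_pos rfl, if_neg (hpow1 _).symm, zero_sub, neg_ne_zero]
      exact hβ1
    · intro i _ hi
      rw [if_neg]
      intro heq
      have := Nat.pow_right_injective hp.two_le heq
      have h1 := i.isLt
      have h2 := (Fin.rev j).isLt
      exact hi (Fin.ext (by omega))
    · intro h; exact absurd (Finset.mem_univ _) h
  obtain ⟨z, hz0, hz⟩ := exists_ne_zero_root Q (hpow1 (Fin.rev j)) h1 h2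
  refine ⟨z ^ p ^ (n + 1), pow_ne_zero _ hz0, ?_⟩
  rw [hQ, eval_sub, eval_finsetSum, eval_pow, eval_X, sub_eq_zero] at hz
  rw [hz]
  refine Finset.sum_congr rfl fun i _ => ?_
  rw [eval_mul, eval_C, eval_pow, eval_X, mul_comm]
  congr 1
  -- `σ^{i+1} (z^{p^{n+1}}) = z^{p^{n-i}}`
  have hsplit : z ^ p ^ (n + 1) = (⇑(frobenius k p))^[i.val + 1] (z ^ p ^ (n - i.val)) := by
    rw [iterate_frobenius, ← pow_mul, ← pow_add]
    congr 2
    have := i.isLt
    omega
  rw [← hz, hsplit, iterate_frobeniusInv_iterate_frobenius]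

end Groth.Agent.Lib.SigmaLinFrob_helper3
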