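import Groth.Agent.Lib.SigmaLinFrob_helper3

/-!
# Helper library for the `SigmaLin` statements (helper3): semilinear endomorphisms of finitely
generated modules over a ring with nilpotent principal maximal ideal
-/

set_option autoImplicit false
set_option linter.unusedSectionVars false

universe u v w

namespace Groth.Agent.Lib.SigmaLinLocal_helper3

open Groth.Agent.Lib.SigmaLin_helper3

section General

variable {R : Type u} {κ : Type w} [CommRing R] [Field κ] (π : R →+* κ)
  (hπ : Function.Surjective π) (q : R) (hker : ∀ r, π r = 0 → ∃ a, r = a * q)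
  (σ : R →+* R) (hσq : σ q = q) (σbar : κ →+* κ) (hσbar : ∀ r, σbar (π r) = π (σ r))
  (hsurj : Function.Surjective σbar) (h2 : Cond2 σbar) (h3 : Cond3 σbar)
  {M : Type v} [AddCommGroup M] [Module R M] [Module.Finite R M] (T : M →ₛₗ[σ] M)

include hπ hker hσbar hsurj h2 h3 in
/-- one step of the approximation: `1 - T` is surjective modulo `q`. -/
lemma exists_sub_eq_smul (m : M) : ∃ x m' : M, m - (x - T x) = q • m' := by
  classical
  obtain ⟨r, s, hs⟩ := Module.Finite.exists_fin (R := R) (M := M)
  have hgen : ∀ y : M, ∃ c : Fin r → R, ∑ i, c i • s i = y := fun y =>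
    (Submodule.mem_span_range_iff_exists_fun R).mp (by rw [hs]; trivial)
  choose a ha using fun j => hgen (T (s j))
  obtain ⟨c, hc⟩ := hgen m
  -- the semilinear map on `κ^r`
  let TV : (Fin r → κ) →ₛₗ[σbar] (Fin r → κ) :=
    { toFun := fun x i => ∑ j, π (a j i) * σbar (x j)
      map_add' := by
        intro x y
        ext i
        simp only [Pi.add_apply, map_add, mul_add, Finset.sum_add_distrib]
      map_smul' := by
        intro d x
        ext i
        simp only [Pi.smul_apply, smul_eq_mul, map_mul, Finset.mul_sum]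
        refine Finset.sum_congr rfl fun j _ => ?_
        ring }
  obtain ⟨xbar, hxbar⟩ := (sub_surjective_and_fixed_basis TV hsurj h2 h3).1 (fun i => π (c i))
  choose x hx using fun i => hπ (xbar i)
  have hdiv : ∀ i, ∃ d, c i - (x i - ∑ j, a j i * σ (x j)) = d * q := by
    intro i
    apply hker
    have h1 := congrFun hxbar i
    simp only [Pi.sub_apply] at h1
    rw [map_sub, map_sub, map_sum]
    simp only [map_mul, ← hσbar, hx]
    rw [← h1]
    show xbar i - TV xbar i - (xbar i - ∑ j, π (a j i) * σbar (xbar j)) = 0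
    simp only [TV, LinearMap.coe_mk, AddHom.coe_mk, sub_self]
  choose d hd using hdiv
  refine ⟨∑ i, x i • s i, ∑ i, d i • s i, ?_⟩
  have hT : T (∑ i, x i • s i) = ∑ i, (∑ j, a j i * σ (x j)) • s i := by
    rw [map_sum]
    simp only [map_smulₛₗ, ← ha, Finset.smul_sum, smul_smul]
    rw [Finset.sum_comm]
    refine Finset.sum_congr rfl fun i _ => ?_
    rw [Finset.sum_smul]
    refine Finset.sum_congr rfl fun j _ => ?_
    rw [mul_comm]
  rw [hT, ← hc, Finset.smul_sum, ← Finset.sum_sub_distrib, ← Finset.sum_sub_distrib]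
  refine Finset.sum_congr rfl fun i _ => ?_
  rw [← sub_smul, ← sub_smul, hd, smul_smul, mul_comm]

include hπ hker hσq hσbar hsurj h2 h3 in
lemma exists_sub_eq_pow_smul (i : ℕ) (m : M) : ∃ x m' : M, m - (x - T x) = q ^ i • m' := by
  induction i generalizing m with
  | zero => exact ⟨0, m, by simp⟩
  | succ i ih =>
    obtain ⟨x, m', hm'⟩ := ih m
    obtain ⟨x', m'', hm''⟩ := exists_sub_eq_smul π hπ q hker σ σbar hσbar hsurj h2 h3 T m'
    refine ⟨x + q ^ i • x', m'', ?_⟩
    have hTq : T (q ^ i • x') = q ^ i • T x' := by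
      rw [map_smulₛₗ, map_pow, hσq]
    rw [map_add, hTq, pow_succ, mul_smul, ← hm'']
    have : m - (x + q ^ i • x' - (T x + q ^ i • T x')) =
        (m - (x - T x)) - q ^ i • (x' - T x') := by
      rw [smul_sub]; abel
    rw [this, hm']
    simp only [smul_sub]

include hπ hker hσq hσbar hsurj h2 h3 in
/-- `1 - T` is surjective on finitely generated modules when `q` is nilpotent. -/
theorem sub_surjective_general (n : ℕ) (hn : q ^ n = 0) :
    Function.Surjective (fun m : M => m - T m) := by
  intro m
  obtain ⟨x, m', hm'⟩ := exists_sub_eq_pow_smul π hπ q hker σ hσq σbar hσbar hsurj h2 h3 T n m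
  rw [hn, zero_smul, sub_eq_zero] at hm'
  exact ⟨x, hm'.symm⟩

end General

end Groth.Agent.Lib.SigmaLinLocal_helper3
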