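import Groth.Agent.Lib.SigmaLinLocal_helper3
import Groth.Prelude.Def_WittGrp

/-!
# Helper library for the `SigmaLin` statements (helper3): truncated Witt vectors of an
algebraically closed field
-/

set_option autoImplicit false
set_option linter.unusedSectionVars false

universe u v w

namespace Groth.Agent.Lib.SigmaLinWitt_helper3

open Groth.Agent.Lib.SigmaLin_helper3 Groth.Agent.Lib.SigmaLinFrob_helper3
  Groth.Agent.Lib.SigmaLinLocal_helper3

variable (p : ℕ) [Fact p.Prime] (k : Type u) [Field k] [CharP k p]

/-- the zeroth component, as a ring homomorphism `W_{n+1}(k) → k`. -/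
noncomputable def coeffZero (n : ℕ) : TruncatedWittVector p (n + 1) k →+* k where
  toFun x := x.coeff 0
  map_one' := by
    rw [← map_one (WittVector.truncate (p := p) (R := k) (n + 1)), WittVector.coeff_truncate]
    exact WittVector.one_coeff_zero p k
  map_zero' := by
    rw [← map_zero (WittVector.truncate (p := p) (R := k) (n + 1)), WittVector.coeff_truncate]
    exact WittVector.zero_coeff p k 0
  map_mul' x y := by
    obtain ⟨X, rfl⟩ := WittVector.truncate_surjective p (n + 1) k x
    obtain ⟨Y, rfl⟩ := WittVector.truncate_surjective p (n + 1) k y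
    rw [← map_mul, WittVector.coeff_truncate, WittVector.coeff_truncate, WittVector.coeff_truncate]
    exact WittVector.mul_coeff_zero X Y
  map_add' x y := by
    obtain ⟨X, rfl⟩ := WittVector.truncate_surjective p (n + 1) k x
    obtain ⟨Y, rfl⟩ := WittVector.truncate_surjective p (n + 1) k y
    rw [← map_add, WittVector.coeff_truncate, WittVector.coeff_truncate, WittVector.coeff_truncate]
    exact WittVector.add_coeff_zero X Y

lemma coeffZero_apply (n : ℕ) (x : TruncatedWittVector p (n + 1) k) :
    coeffZero p k n x = x.coeff 0 := rfl

lemma coeffZero_surjective (n : ℕ) : Function.Surjective (coeffZero p k n) := by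
  intro c
  refine ⟨TruncatedWittVector.mk p fun _ => c, ?_⟩
  rw [coeffZero_apply, TruncatedWittVector.coeff_mk]

lemma coeffZero_ker [PerfectRing k p] (n : ℕ) (x : TruncatedWittVector p (n + 1) k)
    (hx : coeffZero p k n x = 0) : ∃ a, x = a * (p : TruncatedWittVector p (n + 1) k) := by
  have h0 : x.out.coeff 0 = 0 := by
    have := TruncatedWittVector.coeff_out x 0
    simpa using this.trans hx
  have hmem := (WittVector.mem_span_p_iff_coeff_zero_eq_zero (p := p) (k := k) x.out).mpr h0
  obtain ⟨Y, hY⟩ := Ideal.mem_span_singleton'.mp hmem
  refine ⟨WittVector.truncate (n + 1) Y, ?_⟩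
  have h1 : WittVector.truncate (n + 1) x.out = x := TruncatedWittVector.truncateFun_out x
  rw [← h1, ← hY, map_mul, map_natCast]

lemma natCast_pow_eq_zero [PerfectRing k p] (n : ℕ) : (p : TruncatedWittVector p n k) ^ n = 0 := by
  have h1 : (p : TruncatedWittVector p n k) ^ n = WittVector.truncate n ((p : WittVector p k) ^ n) := by
    rw [map_pow, map_natCast]
  rw [h1]
  apply TruncatedWittVector.ext
  intro i
  rw [WittVector.coeff_truncate, TruncatedWittVector.coeff_zero]
  have hmem : ((p : WittVector p k) ^ n) ∈ Ideal.span {((p : WittVector p k) ^ n)} :=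
    Ideal.mem_span_singleton_self _
  exact (WittVector.mem_span_p_pow_iff_le_coeff_eq_zero (p := p) (k := k) _ n).mp hmem i i.isLt

/-- `1 - T` is surjective on finitely generated modules over truncated Witt vectors of an
algebraically closed field, for `T` semilinear over the Frobenius or its inverse. -/
theorem sub_surjective_witt [IsAlgClosed k] (n : ℕ)
    (σ : TruncatedWittVector p n k →+* TruncatedWittVector p n k)
    (hσ : σ = WittGrp.truncMap p n (frobenius k p) ∨
      σ = WittGrp.truncMap p n (frobeniusEquiv k p).symm.toRingHom)
    (M : Type v) [AddCommGroup M] [Module (TruncatedWittVector p n k) M]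
    [Module.Finite (TruncatedWittVector p n k) M] (T : M →ₛₗ[σ] M) :
    Function.Surjective (fun m : M => m - T m) := by
  cases n with
  | zero =>
    have hsub : Subsingleton (TruncatedWittVector p 0 k) :=
      ⟨fun a b => TruncatedWittVector.ext fun i => i.elim0⟩
    have : Subsingleton M := Module.subsingleton (TruncatedWittVector p 0 k) M
    intro m
    exact ⟨0, Subsingleton.elim _ _⟩
  | succ n =>
    rcases hσ with hσ | hσ
    · apply sub_surjective_general (coeffZero p k n) (coeffZero_surjective p k n)
        (p : TruncatedWittVector p (n + 1) k) (coeffZero_ker p k n) σ (map_natCast σ p)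
        (frobenius k p) ?_ (frobeniusEquiv k p).surjective (cond2_frobenius p) (cond3_frobenius p)
        T (n + 1) (natCast_pow_eq_zero p k (n + 1))
      intro r
      rw [hσ, coeffZero_apply, coeffZero_apply, WittGrp.coeff_truncMap]
    · apply sub_surjective_general (coeffZero p k n) (coeffZero_surjective p k n)
        (p : TruncatedWittVector p (n + 1) k) (coeffZero_ker p k n) σ (map_natCast σ p)
        ((frobeniusEquiv k p).symm.toRingHom) ?_ (frobeniusInv_surjective p)
        (cond2_frobeniusInv p) (cond3_frobeniusInv p)
        T (n + 1) (natCast_pow_eq_zero p k (n + 1))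
      intro r
      rw [hσ, coeffZero_apply, coeffZero_apply, WittGrp.coeff_truncMap]

end Groth.Agent.Lib.SigmaLinWitt_helper3
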