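import Mathlib

/-!
# Helper library for the `SigmaLin` statements (helper3): semilinear endomorphisms of
finite-dimensional vector spaces (Fitting decomposition, fixed vectors)
-/

set_option autoImplicit false
set_option linter.unusedSectionVars false

universe u v

namespace Groth.Agent.Lib.SigmaLin_helper3

variable {k : Type u} [Field k] {σ : k →+* k} {V : Type v} [AddCommGroup V] [Module k V]

/-! ### Iterates -/

lemma iterate_add (T : V →ₛₗ[σ] V) (n : ℕ) (x y : V) :
    (⇑T)^[n] (x + y) = (⇑T)^[n] x + (⇑T)^[n] y := by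
  induction n generalizing x y with
  | zero => rfl
  | succ n ih => rw [Function.iterate_succ_apply, Function.iterate_succ_apply,
      Function.iterate_succ_apply, map_add, ih]

lemma iterate_zero (T : V →ₛₗ[σ] V) (n : ℕ) : (⇑T)^[n] 0 = 0 := by
  induction n with
  | zero => rfl
  | succ n ih => rw [Function.iterate_succ_apply, map_zero, ih]

lemma iterate_neg (T : V →ₛₗ[σ] V) (n : ℕ) (x : V) : (⇑T)^[n] (-x) = -(⇑T)^[n] x := by
  induction n generalizing x with
  | zero => rfl
  | succ n ih => rw [Function.iterate_succ_apply, Function.iterate_succ_apply, map_neg, ih]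

lemma iterate_sub (T : V →ₛₗ[σ] V) (n : ℕ) (x y : V) :
    (⇑T)^[n] (x - y) = (⇑T)^[n] x - (⇑T)^[n] y := by
  rw [sub_eq_add_neg, iterate_add, iterate_neg, ← sub_eq_add_neg]

lemma iterate_smul (T : V →ₛₗ[σ] V) (n : ℕ) (c : k) (x : V) :
    (⇑T)^[n] (c • x) = (⇑σ)^[n] c • (⇑T)^[n] x := by
  induction n generalizing c x with
  | zero => rfl
  | succ n ih => rw [Function.iterate_succ_apply, Function.iterate_succ_apply,
      Function.iterate_succ_apply, map_smulₛₗ, ih]

lemma iterate_sum {ι : Type*} (T : V →ₛₗ[σ] V) (n : ℕ) (s : Finset ι) (f : ι → V) :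
    (⇑T)^[n] (∑ i ∈ s, f i) = ∑ i ∈ s, (⇑T)^[n] (f i) := by
  classical
  induction s using Finset.induction_on with
  | empty => simp
  | insert i s hi ih => rw [Finset.sum_insert hi, Finset.sum_insert hi, iterate_add, ih]

/-! ### Spans of images -/

lemma map_mem_span_image (T : V →ₛₗ[σ] V) {S : Set V} {x : V} (hx : x ∈ Submodule.span k S) :
    T x ∈ Submodule.span k (T '' S) := by
  induction hx using Submodule.span_induction with
  | mem x hx => exact Submodule.subset_span ⟨x, hx, rfl⟩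
  | zero => rw [map_zero]; exact Submodule.zero_mem _
  | add x y _ _ hx hy => rw [map_add]; exact Submodule.add_mem _ hx hy
  | smul c x _ hx => rw [map_smulₛₗ]; exact Submodule.smul_mem _ _ hx

/-- the `k`-span of the image of the `n`-th iterate. -/
def imgSpan (T : V →ₛₗ[σ] V) (n : ℕ) : Submodule k V :=
  Submodule.span k (Set.range ((⇑T)^[n]))

lemma imgSpan_succ_le (T : V →ₛₗ[σ] V) (n : ℕ) : imgSpan T (n + 1) ≤ imgSpan T n := by
  apply Submodule.span_mono
  rintro _ ⟨x, rfl⟩
  exact ⟨T x, (Function.iterate_succ_apply (⇑T) n x).symm⟩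

lemma imgSpan_antitone (T : V →ₛₗ[σ] V) : Antitone (imgSpan T) :=
  antitone_nat_of_succ_le (imgSpan_succ_le T)

lemma map_mem_imgSpan_succ (T : V →ₛₗ[σ] V) {n : ℕ} {x : V} (hx : x ∈ imgSpan T n) :
    T x ∈ imgSpan T (n + 1) := by
  have := map_mem_span_image T hx
  refine Submodule.span_mono ?_ this
  rintro _ ⟨_, ⟨y, rfl⟩, rfl⟩
  exact ⟨y, Function.iterate_succ_apply' (⇑T) n y⟩

lemma imgSpan_succ_eq (T : V →ₛₗ[σ] V) (n : ℕ) :
    imgSpan T (n + 1) = Submodule.span k (T '' (imgSpan T n : Set V)) := by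
  apply le_antisymm
  · apply Submodule.span_mono
    rintro _ ⟨x, rfl⟩
    exact ⟨(⇑T)^[n] x, Submodule.subset_span ⟨x, rfl⟩, (Function.iterate_succ_apply' (⇑T) n x).symm⟩
  · rw [Submodule.span_le]
    rintro _ ⟨x, hx, rfl⟩
    exact map_mem_imgSpan_succ T hx

lemma imgSpan_stable_of_eq (T : V →ₛₗ[σ] V) {m : ℕ} (h : imgSpan T m = imgSpan T (m + 1)) :
    ∀ n, m ≤ n → imgSpan T n = imgSpan T m := by
  intro n hn
  induction n, hn using Nat.le_induction with
  | base => rfl
  | succ n hn ih =>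
    rw [imgSpan_succ_eq, ih, ← imgSpan_succ_eq, ← h]

lemma exists_imgSpan_stable [FiniteDimensional k V] (T : V →ₛₗ[σ] V) :
    ∃ m, ∀ n, m ≤ n → imgSpan T n = imgSpan T m := by
  obtain ⟨m, hm⟩ := IsArtinian.monotone_stabilizes
    (⟨fun n => OrderDual.toDual (imgSpan T n), fun a b hab => imgSpan_antitone T hab⟩ :
      ℕ →o (Submodule k V)ᵒᵈ)
  exact ⟨m, fun n hn => (hm n hn).symm⟩

/-- the intersection of the spans of the images of the iterates. -/
def ssPart (T : V →ₛₗ[σ] V) : Submodule k V := ⨅ n : ℕ, Submodule.span k (Set.range ((⇑T)^[n]))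

lemma mem_ssPart {T : V →ₛₗ[σ] V} {x : V} : x ∈ ssPart T ↔ ∀ n, x ∈ imgSpan T n :=
  Submodule.mem_iInf _

lemma ssPart_eq_imgSpan (T : V →ₛₗ[σ] V) {m : ℕ} (hm : ∀ n, m ≤ n → imgSpan T n = imgSpan T m) :
    ssPart T = imgSpan T m := by
  apply le_antisymm
  · exact iInf_le _ m
  · refine le_iInf fun n => ?_
    rcases le_total n m with h | h
    · exact imgSpan_antitone T h
    · exact (hm n h).ge

lemma map_mem_ssPart (T : V →ₛₗ[σ] V) {x : V} (hx : x ∈ ssPart T) : T x ∈ ssPart T := by
  rw [mem_ssPart] at hx ⊢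
  intro n
  exact imgSpan_antitone T (Nat.le_succ n) (map_mem_imgSpan_succ T (hx n))

lemma ssPart_le_span_image [FiniteDimensional k V] (T : V →ₛₗ[σ] V) :
    ssPart T ≤ Submodule.span k (T '' (ssPart T : Set V)) := by
  obtain ⟨m, hm⟩ := exists_imgSpan_stable T
  have h1 := ssPart_eq_imgSpan T hm
  have h2 : ssPart T = imgSpan T (m + 1) := by rw [h1, hm (m + 1) (Nat.le_succ m)]
  conv_lhs => rw [h2, imgSpan_succ_eq, ← h1]

/-! ### Injectivity -/

/-- a semilinear endomorphism of a finite-dimensional space whose image spans is injective. -/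
lemma injective_of_span_range_eq_top [FiniteDimensional k V] (T : V →ₛₗ[σ] V)
    (h : Submodule.span k (Set.range ⇑T) = ⊤) : Function.Injective T := by
  classical
  let b := Module.finBasis k V
  have hspan : Submodule.span k (Set.range (T ∘ b)) = ⊤ := by
    rw [eq_top_iff, ← h, Submodule.span_le]
    rintro _ ⟨x, rfl⟩
    have hx : x ∈ Submodule.span k (Set.range b) := by rw [b.span_eq]; trivial
    have := map_mem_span_image T hx
    rwa [← Set.range_comp] at this
  have hli : LinearIndependent k (T ∘ b) :=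
    linearIndependent_of_top_le_span_of_card_eq_finrank hspan.ge (by simp)
  rw [injective_iff_map_eq_zero]
  intro x hx
  rw [← b.sum_repr x, map_sum] at hx
  simp only [map_smulₛₗ] at hx
  have := (Fintype.linearIndependent_iff.mp hli) (fun i => σ (b.repr x i)) hx
  rw [← b.sum_repr x]
  refine Finset.sum_eq_zero fun i _ => ?_
  rw [(map_eq_zero σ).mp (this i), zero_smul]

lemma restrict_ssPart_span [FiniteDimensional k V] (T : V →ₛₗ[σ] V) :
    Submodule.span k (Set.range ⇑(T.restrict (p := ssPart T) (q := ssPart T)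
      (fun _ hx => map_mem_ssPart T hx))) = ⊤ := by
  rw [eq_top_iff]
  rintro ⟨x, hx⟩ _
  have h1 := ssPart_le_span_image T hx
  -- transport the span into the subtype
  have key : ∀ y ∈ Submodule.span k (T '' (ssPart T : Set V)), ∀ hy : y ∈ ssPart T,
      (⟨y, hy⟩ : ssPart T) ∈ Submodule.span k (Set.range ⇑(T.restrict (p := ssPart T)
        (q := ssPart T) (fun _ hx => map_mem_ssPart T hx))) := by
    intro y hy
    induction hy using Submodule.span_induction with
    | mem y hy =>
      obtain ⟨z, hz, rfl⟩ := hy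
      intro hy'
      exact Submodule.subset_span ⟨⟨z, hz⟩, rfl⟩
    | zero => intro _; exact Submodule.zero_mem _
    | add y z hy hz ihy ihz =>
      intro hyz
      have hy' : y ∈ ssPart T := Submodule.span_le.mpr
        (by rintro _ ⟨w, hw, rfl⟩; exact map_mem_ssPart T hw) hy
      have hz' : z ∈ ssPart T := Submodule.span_le.mpr
        (by rintro _ ⟨w, hw, rfl⟩; exact map_mem_ssPart T hw) hz
      have := Submodule.add_mem _ (ihy hy') (ihz hz')
      exact this
    | smul c y hy ihy =>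
      intro hcy
      have hy' : y ∈ ssPart T := Submodule.span_le.mpr
        (by rintro _ ⟨w, hw, rfl⟩; exact map_mem_ssPart T hw) hy
      have := Submodule.smul_mem _ c (ihy hy')
      exact this
  exact key x h1 hx

/-- `T` is injective on the semisimple part. -/
lemma eq_zero_of_mem_ssPart [FiniteDimensional k V] (T : V →ₛₗ[σ] V) {x : V} (hx : x ∈ ssPart T)
    (h0 : T x = 0) : x = 0 := by
  have hinj := injective_of_span_range_eq_top _ (restrict_ssPart_span T)
  have : (⟨x, hx⟩ : ssPart T) = 0 := by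
    apply hinj
    rw [map_zero]
    exact Subtype.ext h0
  exact congrArg Subtype.val this

lemma iterate_mem_ssPart (T : V →ₛₗ[σ] V) (n : ℕ) {x : V} (hx : x ∈ ssPart T) :
    (⇑T)^[n] x ∈ ssPart T := by
  induction n with
  | zero => exact hx
  | succ n ih => rw [Function.iterate_succ_apply']; exact map_mem_ssPart T ih

lemma eq_zero_of_iterate_eq_zero [FiniteDimensional k V] (T : V →ₛₗ[σ] V) {x : V}
    (hx : x ∈ ssPart T) {n : ℕ} (h0 : (⇑T)^[n] x = 0) : x = 0 := by
  induction n with
  | zero => exact h0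
  | succ n ih =>
    rw [Function.iterate_succ_apply'] at h0
    exact ih (eq_zero_of_mem_ssPart T (iterate_mem_ssPart T n hx) h0)

/-! ### Kernels and the Fitting decomposition -/

/-- the kernel of the `n`-th iterate. -/
def kerSub (T : V →ₛₗ[σ] V) (n : ℕ) : Submodule k V where
  carrier := {v | (⇑T)^[n] v = 0}
  add_mem' := by
    intro x y hx hy
    simp only [Set.mem_ofPred_eq] at hx hy ⊢
    rw [iterate_add, hx, hy, add_zero]
  zero_mem' := iterate_zero T n
  smul_mem' := by
    intro c x hx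
    simp only [Set.mem_ofPred_eq] at hx ⊢
    rw [iterate_smul, hx, smul_zero]

lemma mem_kerSub {T : V →ₛₗ[σ] V} {n : ℕ} {x : V} : x ∈ kerSub T n ↔ (⇑T)^[n] x = 0 := Iff.rfl

lemma kerSub_mono (T : V →ₛₗ[σ] V) : Monotone (kerSub T) := by
  intro n m hnm x hx
  rw [mem_kerSub] at hx ⊢
  obtain ⟨j, rfl⟩ := Nat.exists_eq_add_of_le hnm
  rw [add_comm, Function.iterate_add_apply, hx, iterate_zero]

lemma exists_kerSub_stable [FiniteDimensional k V] (T : V →ₛₗ[σ] V) :
    ∃ N, ∀ n, N ≤ n → kerSub T n = kerSub T N := by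
  obtain ⟨N, hN⟩ := monotone_stabilizes_iff_noetherian.mpr (inferInstance : IsNoetherian k V)
    ⟨kerSub T, kerSub_mono T⟩
  exact ⟨N, fun n hn => (hN n hn).symm⟩

lemma iterate_surjective {α : Type*} {f : α → α} (hf : Function.Surjective f) (n : ℕ) :
    Function.Surjective f^[n] := by
  induction n with
  | zero => exact Function.surjective_id
  | succ n ih => rw [Function.iterate_succ]; exact ih.comp hf

/-- for surjective `σ` the image of an iterate is already a subspace. -/
lemma mem_imgSpan_iff (T : V →ₛₗ[σ] V) (hσ : Function.Surjective σ) (n : ℕ) (x : V) :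
    x ∈ imgSpan T n ↔ ∃ y, (⇑T)^[n] y = x := by
  constructor
  · intro hx
    induction hx using Submodule.span_induction with
    | mem x hx => exact hx
    | zero => exact ⟨0, iterate_zero T n⟩
    | add x y _ _ hx hy =>
      obtain ⟨a, rfl⟩ := hx
      obtain ⟨b, rfl⟩ := hy
      exact ⟨a + b, iterate_add T n a b⟩
    | smul c x _ hx =>
      obtain ⟨a, rfl⟩ := hx
      obtain ⟨c', rfl⟩ := iterate_surjective hσ n c
      exact ⟨c' • a, iterate_smul T n c' a⟩
  · rintro ⟨y, rfl⟩
    exact Submodule.subset_span ⟨y, rfl⟩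

/-- Fitting decomposition: the nilpotent part and the semisimple part are complementary. -/
theorem fitting [FiniteDimensional k V] (T : V →ₛₗ[σ] V) (hσ : Function.Surjective σ) :
    ∃ N : ℕ, (∀ n, N ≤ n → kerSub T n = kerSub T N) ∧ IsCompl (kerSub T N) (ssPart T) := by
  obtain ⟨N, hN⟩ := exists_kerSub_stable T
  obtain ⟨m, hm⟩ := exists_imgSpan_stable T
  refine ⟨N, hN, ?_, ?_⟩
  · rw [disjoint_iff, eq_bot_iff]
    rintro x ⟨hx1, hx2⟩
    rw [Submodule.mem_bot]
    exact eq_zero_of_iterate_eq_zero T hx2 (mem_kerSub.mp hx1)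
  · rw [codisjoint_iff, eq_top_iff]
    intro v _
    set j := max N m with hj
    have h1 : (⇑T)^[j] v ∈ imgSpan T (j + j) := by
      rw [hm (j + j) (by omega), ← hm j (le_max_right _ _)]
      exact Submodule.subset_span ⟨v, rfl⟩
    obtain ⟨u, hu⟩ := (mem_imgSpan_iff T hσ (j + j) _).mp h1
    rw [Function.iterate_add_apply] at hu
    have h2 : v - (⇑T)^[j] u ∈ kerSub T N := by
      rw [← hN j (le_max_left _ _), mem_kerSub, iterate_sub, hu, sub_self]
    have h3 : (⇑T)^[j] u ∈ ssPart T := by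
      rw [ssPart_eq_imgSpan T hm, ← hm j (le_max_right _ _)]
      exact Submodule.subset_span ⟨u, rfl⟩
    have : v = (v - (⇑T)^[j] u) + (⇑T)^[j] u := by abel
    rw [this]
    exact Submodule.add_mem _ (Submodule.mem_sup_left h2) (Submodule.mem_sup_right h3)

/-- `T` maps the semisimple part onto itself when `σ` is surjective. -/
lemma exists_mem_ssPart_map_eq [FiniteDimensional k V] (T : V →ₛₗ[σ] V)
    (hσ : Function.Surjective σ) {y : V} (hy : y ∈ ssPart T) : ∃ x ∈ ssPart T, T x = y := by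
  obtain ⟨m, hm⟩ := exists_imgSpan_stable T
  have h1 : y ∈ imgSpan T (m + 1) := mem_ssPart.mp hy (m + 1)
  obtain ⟨u, hu⟩ := (mem_imgSpan_iff T hσ (m + 1) _).mp h1
  refine ⟨(⇑T)^[m] u, ?_, ?_⟩
  · rw [ssPart_eq_imgSpan T hm]
    exact Submodule.subset_span ⟨u, rfl⟩
  · rw [← Function.iterate_succ_apply' (⇑T)]; exact hu

/-! ### Fixed vectors in the span of an orbit -/

/-- the solvability condition (i) of the statements: nonzero solutions of
`x = Σ σ^{i+1}(x) σ^i(b_{n-i})`. -/
def Cond2 (σ : k →+* k) : Prop :=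
  ∀ (n : ℕ) (b : Fin (n + 1) → k), b ≠ 0 →
    ∃ x : k, x ≠ 0 ∧ x = ∑ i : Fin (n + 1), (⇑σ)^[i.val + 1] x * (⇑σ)^[i.val] (b (Fin.rev i))

/-- the solvability condition (ii) of the statements. -/
def Cond3 (σ : k →+* k) : Prop := ∀ c : k, ∃ y : k, σ y - y + c = 0

lemma orbit_linearIndependent (T : V →ₛₗ[σ] V) (e : V) (m : ℕ)
    (h : ∀ j < m, (⇑T)^[j] e ∉ Submodule.span k (Set.range fun i : Fin j => (⇑T)^[i.val] e)) :
    LinearIndependent k (fun i : Fin m => (⇑T)^[i.val] e) := by
  induction m with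
  | zero => exact linearIndependent_empty_type
  | succ m ih =>
    have hsnoc : (fun i : Fin (m + 1) => (⇑T)^[i.val] e) =
        Fin.snoc (fun i : Fin m => (⇑T)^[i.val] e) ((⇑T)^[m] e) := by
      ext i
      refine Fin.lastCases ?_ (fun j => ?_) i
      · simp
      · simp
    rw [hsnoc]
    exact linearIndependent_finSnoc.2
      ⟨ih fun j hj => h j (Nat.lt_succ_of_lt hj), h m (Nat.lt_succ_self m)⟩

lemma exists_orbit_dependence [FiniteDimensional k V] (T : V →ₛₗ[σ] V) (e : V) :
    ∃ m, (⇑T)^[m] e ∈ Submodule.span k (Set.range fun i : Fin m => (⇑T)^[i.val] e) := by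
  by_contra hcon
  push Not at hcon
  have hli := orbit_linearIndependent T e (Module.finrank k V + 1) fun j _ => hcon j
  have := hli.fintype_card_le_finrank
  simp at this

/-- the coefficients of the fixed vector. -/
def fixCoeff (σ : k →+* k) (y : k) (bb : ℕ → k) : ℕ → k
  | 0 => σ y * bb 0
  | i + 1 => σ (fixCoeff σ y bb i) + σ y * bb (i + 1)

lemma fixCoeff_eq (σ : k →+* k) (y : k) (bb : ℕ → k) (m : ℕ) :
    fixCoeff σ y bb m = ∑ i ∈ Finset.range (m + 1), (⇑σ)^[i + 1] y * (⇑σ)^[i] (bb (m - i)) := by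
  induction m with
  | zero => simp [fixCoeff]
  | succ m ih =>
    rw [fixCoeff, ih, map_sum, Finset.sum_range_succ' _ (m + 1)]
    congr 1
    refine Finset.sum_congr rfl fun i _ => ?_
    rw [map_mul, ← Function.iterate_succ_apply' (⇑σ), ← Function.iterate_succ_apply' (⇑σ)]
    congr 3
    omega

theorem exists_fixed_of_orbit [FiniteDimensional k V] (T : V →ₛₗ[σ] V) (h2 : Cond2 σ) (e : V)
    (he : ∀ m : ℕ, (⇑T)^[m] e ≠ 0) :
    ∃ v ∈ Submodule.span k (Set.range (fun m : ℕ => (⇑T)^[m] e)), v ≠ 0 ∧ T v = v := by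
  classical
  have hex := exists_orbit_dependence T e
  have hmin := fun (m : ℕ) (hm : m < Nat.find hex) => Nat.find_min hex hm
  have hspec := Nat.find_spec hex
  have hne0 : Nat.find hex ≠ 0 := by
    intro h0
    rw [h0] at hspec
    have : (Set.range fun i : Fin 0 => (⇑T)^[i.val] e) = ∅ := Set.range_eq_empty _
    rw [this, Submodule.span_empty, Submodule.mem_bot] at hspec
    exact he 0 hspec
  obtain ⟨n, hn⟩ := Nat.exists_eq_succ_of_ne_zero hne0
  rw [hn] at hspec
  have hli : LinearIndependent k (fun i : Fin (n + 1) => (⇑T)^[i.val] e) :=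
    orbit_linearIndependent T e (n + 1) fun j hj => hmin j (by omega)
  obtain ⟨b, hb⟩ := (Submodule.mem_span_range_iff_exists_fun k).mp hspec
  have hb0 : b ≠ 0 := by
    intro h0
    rw [h0] at hb
    simp at hb
    exact he (n + 1) hb.symm
  obtain ⟨y, hy0, hy⟩ := h2 n b hb0
  set bb : ℕ → k := fun j => if h : j < n + 1 then b ⟨j, h⟩ else 0 with hbb
  have hbb' : ∀ i : Fin (n + 1), bb i.val = b i := by
    intro i
    simp only [hbb, i.isLt, dif_pos]
  have hxn : fixCoeff σ y bb n = y := by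
    rw [fixCoeff_eq, ← Fin.sum_univ_eq_sum_range
      (fun i => (⇑σ)^[i + 1] y * (⇑σ)^[i] (bb (n - i))) (n + 1)]
    conv_rhs => rw [hy]
    refine Finset.sum_congr rfl fun i _ => ?_
    congr 2
    rw [← hbb' (Fin.rev i), Fin.val_rev]
    congr 1
    omega
  have horb : (⇑T)^[n + 1] e = ∑ j ∈ Finset.range (n + 1), bb j • (⇑T)^[j] e := by
    rw [← hb, ← Fin.sum_univ_eq_sum_range (fun j => bb j • (⇑T)^[j] e) (n + 1)]
    refine Finset.sum_congr rfl fun i _ => ?_
    rw [hbb']
  refine ⟨∑ i ∈ Finset.range (n + 1), fixCoeff σ y bb i • (⇑T)^[i] e, ?_, ?_, ?_⟩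
  · exact Submodule.sum_mem _ fun i _ => Submodule.smul_mem _ _ (Submodule.subset_span ⟨i, rfl⟩)
  · intro h0
    rw [← Fin.sum_univ_eq_sum_range (fun i => fixCoeff σ y bb i • (⇑T)^[i] e) (n + 1)] at h0
    have := (Fintype.linearIndependent_iff.mp hli) (fun i => fixCoeff σ y bb i.val) h0
      (Fin.last n)
    rw [Fin.val_last, hxn] at this
    exact hy0 this
  · rw [map_sum]
    simp only [map_smulₛₗ]
    have hT : ∀ i, T ((⇑T)^[i] e) = (⇑T)^[i + 1] e := fun i =>
      (Function.iterate_succ_apply' (⇑T) i e).symm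
    simp only [hT]
    have hR : ∑ i ∈ Finset.range (n + 1), fixCoeff σ y bb i • (⇑T)^[i] e =
        ∑ i ∈ Finset.range n, fixCoeff σ y bb (i + 1) • (⇑T)^[i + 1] e +
          fixCoeff σ y bb 0 • (⇑T)^[0] e :=
      Finset.sum_range_succ' (fun i => fixCoeff σ y bb i • (⇑T)^[i] e) n
    rw [hR, Finset.sum_range_succ, hxn, horb,
      Finset.sum_range_succ' (fun j => bb j • (⇑T)^[j] e) n, smul_add, Finset.smul_sum]
    simp only [fixCoeff, add_smul, Finset.sum_add_distrib, smul_smul]
    abel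

/-! ### Bases of fixed vectors -/

/-- the span of the fixed vectors. -/
def fixSpan (T : V →ₛₗ[σ] V) : Submodule k V := Submodule.span k {v | T v = v}

lemma map_mem_fixSpan (T : V →ₛₗ[σ] V) {x : V} (hx : x ∈ fixSpan T) : T x ∈ fixSpan T := by
  have := map_mem_span_image T hx
  refine Submodule.span_mono ?_ this
  rintro _ ⟨v, hv, rfl⟩
  simp only [Set.mem_ofPred_eq] at hv ⊢
  rw [hv, hv]

/-- on a space spanned by fixed vectors `1 - T` is surjective. -/
lemma exists_sub_eq_of_mem_fixSpan (T : V →ₛₗ[σ] V) (h3 : Cond3 σ) {g : V} (hg : g ∈ fixSpan T) :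
    ∃ f ∈ fixSpan T, f - T f = g := by
  have key : ∀ c : k, ∃ f ∈ fixSpan T, f - T f = c • g := by
    induction hg using Submodule.span_induction with
    | mem g hg =>
      intro c
      obtain ⟨y, hy⟩ := h3 c
      refine ⟨y • g, Submodule.smul_mem _ _ (Submodule.subset_span hg), ?_⟩
      simp only [Set.mem_ofPred_eq] at hg
      rw [map_smulₛₗ, hg, ← sub_smul]
      congr 1
      linear_combination -hy
    | zero => intro c; exact ⟨0, Submodule.zero_mem _, by simp⟩
    | add g₁ g₂ _ _ h₁ h₂ =>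
      intro c
      obtain ⟨f₁, hf₁, e₁⟩ := h₁ c
      obtain ⟨f₂, hf₂, e₂⟩ := h₂ c
      refine ⟨f₁ + f₂, Submodule.add_mem _ hf₁ hf₂, ?_⟩
      rw [map_add, smul_add, ← e₁, ← e₂]; abel
    | smul a g _ h =>
      intro c
      obtain ⟨f, hf, e⟩ := h (c * a)
      exact ⟨f, hf, by rw [e, mul_smul]⟩
  obtain ⟨f, hf, e⟩ := key 1
  exact ⟨f, hf, by rw [e, one_smul]⟩

/-- if the image of `T` spans, the fixed vectors span. -/
theorem fixSpan_eq_top [FiniteDimensional k V] (T : V →ₛₗ[σ] V)
    (h1 : Submodule.span k (Set.range ⇑T) = ⊤) (h2 : Cond2 σ) (h3 : Cond3 σ) :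
    fixSpan T = ⊤ := by
  by_contra hne
  have hF : fixSpan T ≤ (fixSpan T).comap T := fun x hx => map_mem_fixSpan T hx
  -- the induced map on the quotient
  have hTbar : Submodule.span k (Set.range ⇑((fixSpan T).mapQ (fixSpan T) T hF)) = ⊤ := by
    rw [eq_top_iff]
    intro y hy
    clear hy
    obtain ⟨x, rfl⟩ := Submodule.mkQ_surjective _ y
    have hx : x ∈ Submodule.span k (Set.range ⇑T) := by rw [h1]; trivial
    induction hx using Submodule.span_induction with
    | mem x hx =>
      obtain ⟨z, rfl⟩ := hx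
      exact Submodule.subset_span ⟨(fixSpan T).mkQ z, Submodule.mapQ_apply _ _ T z⟩
    | zero => rw [map_zero]; exact Submodule.zero_mem _
    | add x y _ _ hx hy => rw [map_add]; exact Submodule.add_mem _ hx hy
    | smul c x _ hx => rw [map_smul]; exact Submodule.smul_mem _ _ hx
  have hinj := injective_of_span_range_eq_top _ hTbar
  have hnt : Nontrivial (V ⧸ fixSpan T) := Submodule.Quotient.nontrivial_iff.mpr hne
  obtain ⟨ebar, hebar⟩ := exists_ne (0 : V ⧸ fixSpan T)
  have hiter : ∀ m : ℕ, (⇑((fixSpan T).mapQ (fixSpan T) T hF))^[m] ebar ≠ 0 := by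
    intro m h0
    apply hebar
    have hinjm : Function.Injective (⇑((fixSpan T).mapQ (fixSpan T) T hF))^[m] := hinj.iterate m
    apply hinjm
    rw [h0, iterate_zero]
  obtain ⟨wbar, -, hw0, hwfix⟩ := exists_fixed_of_orbit _ h2 ebar hiter
  obtain ⟨w, rfl⟩ := Submodule.mkQ_surjective _ wbar
  have hmem : T w - w ∈ fixSpan T := by
    rw [← Submodule.Quotient.mk_eq_zero, Submodule.Quotient.mk_sub, sub_eq_zero]
    have := hwfix
    rwa [Submodule.mkQ_apply, Submodule.mapQ_apply] at this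
  obtain ⟨f, hf, hfe⟩ := exists_sub_eq_of_mem_fixSpan T h3 hmem
  have hfix : T (w + f) = w + f := by
    rw [map_add]
    have : T f = f - (T w - w) := by rw [← hfe]; abel
    rw [this]; abel
  have hwf : w + f ∈ fixSpan T := Submodule.subset_span hfix
  have hwF : w ∈ fixSpan T := by
    have := Submodule.sub_mem _ hwf hf
    rwa [add_sub_cancel_right] at this
  apply hw0
  rw [Submodule.mkQ_apply, Submodule.Quotient.mk_eq_zero]
  exact hwF

/-- a basis of fixed vectors, when the fixed vectors span. -/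
lemma exists_fixed_basis [FiniteDimensional k V] (T : V →ₛₗ[σ] V) (h : fixSpan T = ⊤) :
    ∃ b : Module.Basis (Fin (Module.finrank k V)) k V, ∀ i, T (b i) = b i := by
  obtain ⟨b, hbS, hspan, hli⟩ := exists_linearIndependent k {v : V | T v = v}
  have hspan' : ⊤ ≤ Submodule.span k (Set.range (Subtype.val : b → V)) := by
    rw [Subtype.range_coe, hspan]
    exact h.ge
  let B : Module.Basis b k V := Module.Basis.mk hli hspan'
  refine ⟨B.reindex (B.indexEquiv (Module.finBasis k V)), fun i => ?_⟩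
  rw [Module.Basis.reindex_apply, Module.Basis.mk_apply]
  exact hbS (Subtype.mem _)

theorem sub_surjective_of_fixSpan_eq_top (T : V →ₛₗ[σ] V) (h3 : Cond3 σ) (h : fixSpan T = ⊤) :
    Function.Surjective (fun v : V => v - T v) := by
  intro g
  obtain ⟨f, -, hf⟩ := exists_sub_eq_of_mem_fixSpan T h3 (by rw [h]; trivial : g ∈ fixSpan T)
  exact ⟨f, hf⟩

/-! ### The general case -/

lemma geom_sub (T : V →ₛₗ[σ] V) (N : ℕ) (w : V) :
    (∑ i ∈ Finset.range N, (⇑T)^[i] w) - T (∑ i ∈ Finset.range N, (⇑T)^[i] w) =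
      w - (⇑T)^[N] w := by
  induction N with
  | zero => simp
  | succ N ih =>
    rw [Finset.sum_range_succ, map_add, ← Function.iterate_succ_apply' (⇑T)]
    have : ∀ a b c d : V, a + b - (c + d) = (a - c) + (b - d) := fun a b c d => by abel
    rw [this, ih]; abel

theorem sub_surjective_and_fixed_basis [FiniteDimensional k V] (T : V →ₛₗ[σ] V)
    (hσ : Function.Surjective σ) (h2 : Cond2 σ) (h3 : Cond3 σ) :
    Function.Surjective (fun v : V => v - T v) ∧
    ∃ b : Module.Basis (Fin (Module.finrank k ↥(ssPart T))) k ↥(ssPart T),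
      ∀ i, T (b i : V) = (b i : V) := by
  have hF := fixSpan_eq_top _ (restrict_ssPart_span T) h2 h3
  constructor
  · intro v
    obtain ⟨N, hN, hcompl⟩ := fitting T hσ
    have hv : v ∈ kerSub T N ⊔ ssPart T := by rw [hcompl.sup_eq_top]; trivial
    obtain ⟨w, hw, u, hu, rfl⟩ := Submodule.mem_sup.mp hv
    obtain ⟨u', hu'⟩ := sub_surjective_of_fixSpan_eq_top _ h3 hF (⟨u, hu⟩ : ssPart T)
    refine ⟨(∑ i ∈ Finset.range N, (⇑T)^[i] w) + (u' : V), ?_⟩
    have h1 := geom_sub T N w
    rw [mem_kerSub.mp hw, sub_zero] at h1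
    have h2 : (u' : V) - T (u' : V) = u := congrArg Subtype.val hu'
    show (∑ i ∈ Finset.range N, (⇑T)^[i] w) + (u' : V) -
      T ((∑ i ∈ Finset.range N, (⇑T)^[i] w) + (u' : V)) = w + u
    have h4 : (∑ i ∈ Finset.range N, (⇑T)^[i] w) + (u' : V) -
        T ((∑ i ∈ Finset.range N, (⇑T)^[i] w) + (u' : V)) =
        ((∑ i ∈ Finset.range N, (⇑T)^[i] w) - T (∑ i ∈ Finset.range N, (⇑T)^[i] w)) +
          ((u' : V) - T (u' : V)) := by
      rw [map_add]; abel
    rw [h4, h1, h2]
  · obtain ⟨b, hb⟩ := exists_fixed_basis _ hF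
    exact ⟨b, fun i => congrArg Subtype.val (hb i)⟩

end Groth.Agent.Lib.SigmaLin_helper3
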