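import Mathlib
import Groth.Prelude.Def_W4bk4bump814p2PDiff

open MvPolynomial W4bk4bump814p2

namespace Groth.Agent.Lib.SigmaPD

noncomputable section

variable (p : ℕ) [hp : Fact p.Prime]

/-- Teichmüller specialisation. -/
def tf : Fin 2 × ℕ → MvPolynomial (Fin 2) ℤ := fun bj => if bj.2 = 0 then X bj.1 else 0

/-- Specialised Witt addition polynomials. -/
def s (j : ℕ) : MvPolynomial (Fin 2) ℤ :=
  aeval tf (wittStructureInt p (X 0 + X 1 : MvPolynomial (Fin 2) ℤ) j)

theorem aeval_tf_rename (b : Fin 2) (n : ℕ) :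
    aeval tf (rename (Prod.mk b) (wittPolynomial p ℤ n)) =
      (X b : MvPolynomial (Fin 2) ℤ) ^ p ^ n := by
  rw [aeval_rename, aeval_wittPolynomial]
  rw [Finset.sum_eq_single 0]
  · simp [tf]
  · intro j _ hj
    have : (tf ∘ Prod.mk b) j = 0 := by simp [tf, hj]
    rw [this, zero_pow (pow_ne_zero _ hp.out.ne_zero), mul_zero]
  · intro h; exact absurd (Finset.mem_range.mpr (Nat.succ_pos n)) h

theorem witt_id (n : ℕ) :
    ∑ j ∈ Finset.range (n + 1), (p : MvPolynomial (Fin 2) ℤ) ^ j * (s p j) ^ p ^ (n - j)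
      = (X 0) ^ p ^ n + (X 1) ^ p ^ n := by
  have h := wittStructureInt_prop p (X 0 + X 1 : MvPolynomial (Fin 2) ℤ) n
  apply_fun aeval tf at h
  rw [aeval_bind₁, aeval_wittPolynomial, map_add, bind₁_X_right, bind₁_X_right,
    map_add, aeval_tf_rename, aeval_tf_rename] at h
  exact h

theorem s_zero : s p 0 = X 0 + X 1 := by
  have := witt_id p 0
  simpa using this

theorem pcast_ne_zero : (p : MvPolynomial (Fin 2) ℤ) ≠ 0 := by
  intro h
  have h2 : (C ((p : ℤ)) : MvPolynomial (Fin 2) ℤ) = C 0 := by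
    rw [map_natCast, map_zero]; exact h
  have := C_injective (Fin 2) ℤ h2
  exact hp.out.ne_zero (by exact_mod_cast this)

theorem pderiv_id (n : ℕ) (b : Fin 2) :
    ∑ j ∈ Finset.range (n + 1), (s p j) ^ (p ^ (n - j) - 1) * pderiv b (s p j)
      = (X b) ^ (p ^ n - 1) := by
  have h := congrArg (pderiv b) (witt_id p n)
  rw [map_sum, map_add] at h
  have h1 : ∀ j ∈ Finset.range (n + 1),
      pderiv b ((p : MvPolynomial (Fin 2) ℤ) ^ j * (s p j) ^ p ^ (n - j)) =
        (p : MvPolynomial (Fin 2) ℤ) ^ n * ((s p j) ^ (p ^ (n - j) - 1) * pderiv b (s p j)) := by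
    intro j hj
    have hj' : j ≤ n := Nat.lt_succ_iff.mp (Finset.mem_range.mp hj)
    have hc : pderiv b ((p : MvPolynomial (Fin 2) ℤ) ^ j) = 0 := by
      rw [← map_natCast (C : ℤ →+* MvPolynomial (Fin 2) ℤ), ← map_pow, pderiv_C]
    rw [pderiv_mul, hc, zero_mul, zero_add, pderiv_pow]
    have : (p : MvPolynomial (Fin 2) ℤ) ^ n =
        (p : MvPolynomial (Fin 2) ℤ) ^ j * (p : MvPolynomial (Fin 2) ℤ) ^ (n - j) := by
      rw [← pow_add, Nat.add_sub_cancel' hj']
    rw [this]; push_cast; ring
  have hR : pderiv b ((X 0 : MvPolynomial (Fin 2) ℤ) ^ p ^ n) +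
      pderiv b ((X 1 : MvPolynomial (Fin 2) ℤ) ^ p ^ n) =
      (p : MvPolynomial (Fin 2) ℤ) ^ n * (X b) ^ (p ^ n - 1) := by
    obtain rfl | rfl : b = 0 ∨ b = 1 := by fin_cases b <;> simp
    · rw [pderiv_pow, pderiv_pow, pderiv_X_self,
        pderiv_X_of_ne (show (1 : Fin 2) ≠ 0 by decide)]
      push_cast; ring
    · rw [pderiv_pow, pderiv_pow, pderiv_X_self,
        pderiv_X_of_ne (show (0 : Fin 2) ≠ 1 by decide)]
      push_cast; ring
  rw [Finset.sum_congr rfl h1, hR, ← Finset.mul_sum] at h
  exact mul_left_cancel₀ (pow_ne_zero n (pcast_ne_zero p)) h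

theorem D_aeval2 {K A : Type*} [CommRing K] [CommRing A] [Algebra K A] (x : Fin 2 → A)
    (f : MvPolynomial (Fin 2) ℤ) :
    KaehlerDifferential.D K A (aeval x f) =
      ∑ b : Fin 2, aeval x (pderiv b f) • KaehlerDifferential.D K A (x b) := by
  induction f using MvPolynomial.induction_on with
  | C a =>
    simp only [aeval_C, pderiv_C, map_zero, zero_smul, Finset.sum_const_zero]
    rw [eq_intCast, Derivation.map_intCast]
  | add f g hf hg =>
    simp only [map_add, hf, hg, add_smul, Finset.sum_add_distrib]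
  | mul_X f c hf =>
    rw [map_mul, aeval_X, Derivation.leibniz, hf]
    simp only [Fin.sum_univ_two]
    obtain rfl | rfl : c = 0 ∨ c = 1 := by fin_cases c <;> simp
    · simp only [pderiv_mul, pderiv_X_self, pderiv_X_of_ne (show (0 : Fin 2) ≠ 1 by decide),
        map_add, map_mul, map_one, map_zero, aeval_X, mul_one, mul_zero, add_zero]
      module
    · simp only [pderiv_mul, pderiv_X_self, pderiv_X_of_ne (show (1 : Fin 2) ≠ 0 by decide),
        map_add, map_mul, map_one, map_zero, aeval_X, mul_one, mul_zero, add_zero]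
      module

theorem delta_id {K A : Type*} [CommRing K] [CommRing A] [Algebra K A] (x y : A) (n : ℕ) :
    ∑ j ∈ Finset.range (n + 1), delta K A p (n - j) (aeval ![x, y] (s p j)) =
      delta K A p n x + delta K A p n y := by
  have hφ : ∀ b : Fin 2, aeval ![x, y] ((X b : MvPolynomial (Fin 2) ℤ) ^ (p ^ n - 1)) =
      (![x, y] b) ^ (p ^ n - 1) := fun b => by rw [map_pow, aeval_X]
  calc ∑ j ∈ Finset.range (n + 1), delta K A p (n - j) (aeval ![x, y] (s p j))
      = ∑ j ∈ Finset.range (n + 1), ∑ b : Fin 2,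
          aeval ![x, y] ((s p j) ^ (p ^ (n - j) - 1) * pderiv b (s p j)) •
            KaehlerDifferential.D K A (![x, y] b) := by
        refine Finset.sum_congr rfl fun j _ => ?_
        rw [delta, D_aeval2, Finset.smul_sum]
        refine Finset.sum_congr rfl fun b _ => ?_
        rw [smul_smul, map_mul, map_pow]
    _ = ∑ b : Fin 2, aeval ![x, y]
          (∑ j ∈ Finset.range (n + 1), (s p j) ^ (p ^ (n - j) - 1) * pderiv b (s p j)) •
            KaehlerDifferential.D K A (![x, y] b) := by
        rw [Finset.sum_comm]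
        refine Finset.sum_congr rfl fun b _ => ?_
        rw [map_sum, Finset.sum_smul]
    _ = delta K A p n x + delta K A p n y := by
        simp only [pderiv_id, hφ, Fin.sum_univ_two, delta]
        rfl

section Sigma

variable (K : Type*) (A : Type*) [Field K] [CommRing A] [Algebra K A] [CharP K p]

include K in
theorem pA_eq_zero : (p : A) = 0 := by
  rw [← map_natCast (algebraMap K A) p, CharP.cast_eq_zero K p, map_zero]

include K in
theorem negone_pow_sub (i : ℕ) : (-1 : A) ^ (p ^ i - 1) = 1 := by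
  rcases hp.out.eq_two_or_odd' with h2 | hodd
  · have h := pA_eq_zero p K A
    rw [h2] at h
    have h11 : (1 : A) + 1 = 0 := by rw [one_add_one_eq_two]; exact_mod_cast h
    have : (-1 : A) = 1 := neg_eq_of_add_eq_zero_right h11
    rw [this, one_pow]
  · apply Even.neg_one_pow
    have : Odd (p ^ i) := hodd.pow
    exact Nat.Odd.sub_odd this odd_one

theorem delta_neg (i : ℕ) (x : A) : delta K A p i (-x) = - delta K A p i x := by
  unfold delta
  rw [neg_pow, negone_pow_sub p K A i, one_mul, map_neg, smul_neg]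

omit hp [CharP K p] in
theorem delta_zero (i : ℕ) : delta K A p i (0 : A) = 0 := by
  unfold delta; rw [map_zero, smul_zero]

omit hp [CharP K p] in
theorem sg_zero_mem (i : ℕ) : (0 : KaehlerDifferential K A) ∈ sigma K A p i := by
  induction i with
  | zero => rw [sigma_zero]; exact Set.mem_singleton 0
  | succ i ih =>
    exact (mem_sigma_succ K A p i 0).mpr ⟨0, by rw [delta_zero, sub_zero]; exact ih⟩

omit hp [CharP K p] in
theorem sg_mono_succ (i : ℕ) {ω : KaehlerDifferential K A} (h : ω ∈ sigma K A p i) :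
    ω ∈ sigma K A p (i + 1) :=
  (mem_sigma_succ K A p i ω).mpr ⟨0, by rw [delta_zero, sub_zero]; exact h⟩

omit hp [CharP K p] in
theorem sg_mono {i j : ℕ} (hij : i ≤ j) {ω : KaehlerDifferential K A}
    (h : ω ∈ sigma K A p i) : ω ∈ sigma K A p j := by
  induction hij with
  | refl => exact h
  | step _ ih => exact sg_mono_succ p K A _ ih

theorem sg_neg_mem (i : ℕ) :
    ∀ {ω : KaehlerDifferential K A}, ω ∈ sigma K A p i → -ω ∈ sigma K A p i := by
  induction i with
  | zero =>
    intro ω h
    rw [sigma_zero, Set.mem_singleton_iff] at h ⊢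
    rw [h, neg_zero]
  | succ i ih =>
    intro ω h
    obtain ⟨x, hx⟩ := (mem_sigma_succ K A p i ω).mp h
    refine (mem_sigma_succ K A p i _).mpr ⟨-x, ?_⟩
    rw [delta_neg, show -ω - -delta K A p i x = -(ω - delta K A p i x) by abel]
    exact ih hx

omit hp [CharP K p] in
theorem sg_sum_mem (i : ℕ) : ∀ c : ℕ → A,
    ∑ j ∈ Finset.range i, delta K A p (i - 1 - j) (c j) ∈ sigma K A p i := by
  induction i with
  | zero => intro c; rw [Finset.sum_range_zero]; exact sg_zero_mem p K A 0
  | succ i ih =>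
    intro c
    rw [Finset.sum_range_succ']
    refine (mem_sigma_succ K A p i _).mpr ⟨c 0, ?_⟩
    have : ∑ j ∈ Finset.range i, delta K A p (i + 1 - 1 - (j + 1)) (c (j + 1)) =
        ∑ j ∈ Finset.range i, delta K A p (i - 1 - j) (c (j + 1)) :=
      Finset.sum_congr rfl fun j _ => by
        rw [show i + 1 - 1 - (j + 1) = i - 1 - j by omega]
    rw [this, show i + 1 - 1 - 0 = i by omega, add_sub_cancel_right]
    exact ih (fun j => c (j + 1))

theorem main23 (i : ℕ) (x y : A) :
    delta K A p i (x + y) - delta K A p i x - delta K A p i y ∈ sigma K A p i := by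
  have h := delta_id p (K := K) (A := A) x y i
  rw [Finset.sum_range_succ'] at h
  have h0 : aeval ![x, y] (s p 0) = x + y := by
    rw [s_zero, map_add, aeval_X, aeval_X]; rfl
  rw [Nat.sub_zero, h0] at h
  have e : ∑ j ∈ Finset.range i, delta K A p (i - 1 - j) (-(aeval ![x, y] (s p (j + 1)))) =
      - ∑ j ∈ Finset.range i, delta K A p (i - (j + 1)) (aeval ![x, y] (s p (j + 1))) := by
    rw [← Finset.sum_neg_distrib]
    refine Finset.sum_congr rfl fun j _ => ?_
    rw [delta_neg, show i - 1 - j = i - (j + 1) by omega]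
  have key : delta K A p i (x + y) - delta K A p i x - delta K A p i y
      = ∑ j ∈ Finset.range i, delta K A p (i - 1 - j) (-(aeval ![x, y] (s p (j + 1)))) := by
    rw [e, sub_sub, ← h]; abel
  rw [key]
  exact sg_sum_mem p K A i _

theorem sg_add_mem (i : ℕ) : ∀ {ω ω' : KaehlerDifferential K A},
    ω ∈ sigma K A p i → ω' ∈ sigma K A p i → ω + ω' ∈ sigma K A p i := by
  induction i with
  | zero =>
    intro ω ω' h h'
    rw [sigma_zero, Set.mem_singleton_iff] at h h' ⊢
    rw [h, h', add_zero]
  | succ i ih =>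
    intro ω ω' h h'
    obtain ⟨a, ha⟩ := (mem_sigma_succ K A p i ω).mp h
    obtain ⟨b, hb⟩ := (mem_sigma_succ K A p i ω').mp h'
    refine (mem_sigma_succ K A p i _).mpr ⟨a + b, ?_⟩
    have h3 := sg_neg_mem p K A i (main23 p K A i a b)
    have : ω + ω' - delta K A p i (a + b) = (ω - delta K A p i a) + (ω' - delta K A p i b) +
        -(delta K A p i (a + b) - delta K A p i a - delta K A p i b) := by abel
    rw [this]
    exact ih (ih ha hb) h3

/-- `sigma` as an additive subgroup. -/
def sigmaSubgroup (i : ℕ) : AddSubgroup (KaehlerDifferential K A) where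
  carrier := sigma K A p i
  add_mem' := sg_add_mem p K A i
  zero_mem' := sg_zero_mem p K A i
  neg_mem' := sg_neg_mem p K A i

theorem main25 (i : ℕ) : sigma K A p i =
    (AddSubgroup.closure (⋃ j ∈ Finset.range i, Set.range (delta K A p j)) :
      Set (KaehlerDifferential K A)) := by
  apply Set.Subset.antisymm
  · induction i with
    | zero =>
      intro ω h
      rw [sigma_zero, Set.mem_singleton_iff] at h
      rw [h]; exact AddSubgroup.zero_mem _
    | succ i ih =>
      intro ω h
      obtain ⟨x, hx⟩ := (mem_sigma_succ K A p i ω).mp h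
      have h1 : ω - delta K A p i x ∈
          AddSubgroup.closure (⋃ j ∈ Finset.range (i + 1), Set.range (delta K A p j)) := by
        refine AddSubgroup.closure_mono ?_ (ih hx)
        intro ω' hω'
        simp only [Set.mem_iUnion, Set.mem_range] at hω' ⊢
        obtain ⟨j, hj, y, hy⟩ := hω'
        exact ⟨j, Finset.mem_range.mpr (Nat.lt_succ_of_lt (Finset.mem_range.mp hj)), y, hy⟩
      have h2 : delta K A p i x ∈
          AddSubgroup.closure (⋃ j ∈ Finset.range (i + 1), Set.range (delta K A p j)) := by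
        apply AddSubgroup.subset_closure
        simp only [Set.mem_iUnion, Set.mem_range]
        exact ⟨i, Finset.self_mem_range_succ i, x, rfl⟩
      have := AddSubgroup.add_mem _ h1 h2
      rwa [sub_add_cancel] at this
  · have : AddSubgroup.closure (⋃ j ∈ Finset.range i, Set.range (delta K A p j)) ≤
        sigmaSubgroup p K A i := by
      rw [AddSubgroup.closure_le]
      intro ω hω
      simp only [Set.mem_iUnion, Set.mem_range] at hω
      obtain ⟨j, hj, x, rfl⟩ := hω
      have hj' : j + 1 ≤ i := Finset.mem_range.mp hj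
      refine sg_mono p K A hj' ?_
      exact (mem_sigma_succ K A p j _).mpr ⟨x, by rw [sub_self]; exact sg_zero_mem p K A j⟩
    exact this

theorem delta_pow_mul (i : ℕ) (x a : A) :
    delta K A p i (x ^ p * a) = x ^ p ^ (i + 1) • delta K A p i a := by
  obtain ⟨k, hk⟩ := Nat.exists_eq_add_one_of_ne_zero (pow_ne_zero i hp.out.ne_zero)
  have hD : KaehlerDifferential.D K A (x ^ p) = 0 := by
    rw [Derivation.leibniz_pow, ← Nat.cast_smul_eq_nsmul A, pA_eq_zero p K A, zero_smul]
  unfold delta
  rw [pow_succ p i, hk, Nat.add_sub_cancel, Derivation.leibniz, hD, smul_zero, add_zero,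
    smul_smul, smul_smul]
  congr 1
  ring

theorem sg_pow_smul_mem (i : ℕ) : ∀ (x : A) {ω : KaehlerDifferential K A},
    ω ∈ sigma K A p i → (x ^ p ^ i) • ω ∈ sigma K A p i := by
  induction i with
  | zero =>
    intro x ω h
    rw [sigma_zero, Set.mem_singleton_iff] at h ⊢
    rw [h, smul_zero]
  | succ i ih =>
    intro x ω h
    obtain ⟨a, ha⟩ := (mem_sigma_succ K A p i ω).mp h
    refine (mem_sigma_succ K A p i _).mpr ⟨x ^ p * a, ?_⟩
    rw [delta_pow_mul, ← smul_sub]
    have : x ^ p ^ (i + 1) = (x ^ p) ^ p ^ i := by rw [← pow_mul, pow_succ']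
    rw [this]
    exact ih (x ^ p) ha

theorem main26 (i : ℕ) (x : A) (ω : KaehlerDifferential K A) (hω : ω ∈ sigma K A p i) :
    (x ^ (p ^ i)) • ω ∈ sigma K A p i := sg_pow_smul_mem p K A i x hω

variable [PerfectField K]

theorem exists_root (i : ℕ) (l : K) : ∃ μ : K, μ ^ p ^ i = l := by
  haveI : ExpChar K p := ExpChar.prime hp.out
  haveI : PerfectRing K p := PerfectField.toPerfectRing p
  obtain ⟨μ, hμ⟩ := (surjective_frobenius K p).iterate i l
  exact ⟨μ, by rw [← hμ, iterate_frobenius]⟩

omit [CharP K p] [PerfectField K] in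
theorem delta_smul (i : ℕ) (μ : K) (x : A) :
    delta K A p i (μ • x) = (μ ^ p ^ i) • delta K A p i x := by
  unfold delta
  have hk : p ^ i - 1 + 1 = p ^ i := Nat.sub_add_cancel (Nat.one_le_pow _ _ hp.out.pos)
  rw [smul_pow, Derivation.map_smul, smul_assoc, smul_comm (x ^ (p ^ i - 1)) μ, smul_smul,
    ← pow_succ, hk]

theorem sg_smul_mem (i : ℕ) : ∀ (l : K) {ω : KaehlerDifferential K A},
    ω ∈ sigma K A p i → l • ω ∈ sigma K A p i := by
  induction i with
  | zero =>
    intro l ω h
    rw [sigma_zero, Set.mem_singleton_iff] at h ⊢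
    rw [h, smul_zero]
  | succ i ih =>
    intro l ω h
    obtain ⟨x, hx⟩ := (mem_sigma_succ K A p i ω).mp h
    obtain ⟨μ, hμ⟩ := exists_root p K i l
    refine (mem_sigma_succ K A p i _).mpr ⟨μ • x, ?_⟩
    rw [delta_smul, hμ, ← smul_sub]
    exact ih l hx

theorem main24 (i : ℕ) :
    ∃ S : Submodule K (KaehlerDifferential K A),
      (S : Set (KaehlerDifferential K A)) = sigma K A p i :=
  ⟨{ carrier := sigma K A p i
     add_mem' := sg_add_mem p K A i
     zero_mem' := sg_zero_mem p K A i
     smul_mem' := fun l _ h => sg_smul_mem p K A i l h }, rfl⟩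

end Sigma

end

end Groth.Agent.Lib.SigmaPD
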