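import Mathlib

set_option autoImplicit false
set_option linter.unusedVariables false
set_option linter.unusedTactic false
set_option linter.unreachableTactic false
set_option linter.unusedSectionVars false
set_option maxHeartbeats 800000

namespace Groth.Agent.Lib.SigmaQuadH4

section count

variable {ι : Type} [Fintype ι]

def aN (d : ι → ℕ) (m : ι → ℤ) (l : ℤ) : ℕ := ∑ i, if m i ≤ -l then d i else 0

def bN (d : ι → ℕ) (m : ι → ℤ) (l : ℤ) : ℕ := ∑ i, if l < m i then d i else 0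

theorem clamp_sum (K : ℕ) (m : ℤ) :
    ∑ l ∈ Finset.range K, ((if (l : ℤ) < m then (1 : ℤ) else 0) -
        (if m ≤ -((l : ℤ) + 1) then (1 : ℤ) else 0))
      = max (-(K : ℤ)) (min (K : ℤ) m) := by
  induction K with
  | zero =>
    rw [Finset.sum_range_zero]
    push_cast
    omega
  | succ K ih =>
    rw [Finset.sum_range_succ, ih]
    push_cast
    split_ifs <;> omega

theorem ident (d : ι → ℕ) (m : ι → ℤ) (K : ℕ) (hK : ∀ i, -(K : ℤ) ≤ m i ∧ m i ≤ K) :
    ∑ i, m i * (d i : ℤ) = ∑ l ∈ Finset.range K,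
      (((bN d m (l : ℤ) : ℕ) : ℤ) - ((aN d m ((l : ℤ) + 1) : ℕ) : ℤ)) := by
  have h1 : ∀ i, m i * (d i : ℤ) = ∑ l ∈ Finset.range K,
      ((if (l : ℤ) < m i then (d i : ℤ) else 0) -
        (if m i ≤ -((l : ℤ) + 1) then (d i : ℤ) else 0)) := by
    intro i
    have h2 := clamp_sum K (m i)
    have h3 : max (-(K : ℤ)) (min (K : ℤ) (m i)) = m i := by
      have := hK i
      omega
    rw [h3] at h2
    calc m i * (d i : ℤ) = (∑ l ∈ Finset.range K, ((if (l : ℤ) < m i then (1 : ℤ) else 0) -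
          (if m i ≤ -((l : ℤ) + 1) then (1 : ℤ) else 0))) * (d i : ℤ) :=
          congrArg (fun z : ℤ => z * (d i : ℤ)) h2.symm
      _ = _ := by
        rw [Finset.sum_mul]
        refine Finset.sum_congr rfl (fun l _ => ?_)
        rw [sub_mul, ite_mul, ite_mul, one_mul, zero_mul]
  refine (Finset.sum_congr rfl (fun i _ => h1 i)).trans ?_
  rw [Finset.sum_comm]
  refine Finset.sum_congr rfl (fun l _ => ?_)
  rw [Finset.sum_sub_distrib]
  simp only [bN, aN, Nat.cast_sum, Nat.cast_ite, Nat.cast_zero]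

theorem exists_bound (m : ι → ℤ) : ∃ K : ℕ, ∀ i, -(K : ℤ) ≤ m i ∧ m i ≤ K := by
  refine ⟨∑ i, (m i).natAbs, fun i => ?_⟩
  have h1 : (m i).natAbs ≤ ∑ j, (m j).natAbs :=
    Finset.single_le_sum (f := fun j => (m j).natAbs) (fun j _ => Nat.zero_le _)
      (Finset.mem_univ i)
  have h2 : ((m i).natAbs : ℤ) ≤ ((∑ j, (m j).natAbs : ℕ) : ℤ) := by exact_mod_cast h1
  have h3 : m i ≤ ((m i).natAbs : ℤ) := Int.le_natAbs
  have h4 : -(m i) ≤ ((m i).natAbs : ℤ) := by
    have h5 := @Int.le_natAbs (-(m i))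
    rwa [Int.natAbs_neg] at h5
  constructor <;> linarith

theorem bN_anti (d : ι → ℕ) (m : ι → ℤ) (l : ℤ) : bN d m (l + 1) ≤ bN d m l := by
  unfold bN
  refine Finset.sum_le_sum (fun i _ => ?_)
  by_cases h1 : l + 1 < m i
  · rw [if_pos h1, if_pos (by omega)]
  · rw [if_neg h1]
    exact Nat.zero_le _

theorem bN_zero_of_bound (d : ι → ℕ) (m : ι → ℤ) (K : ℕ) (hK : ∀ i, m i ≤ K) :
    bN d m (K : ℤ) = 0 := by
  unfold bN
  refine Finset.sum_eq_zero (fun i _ => if_neg ?_)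
  have := hK i
  omega

theorem le_bN (d : ι → ℕ) (m : ι → ℤ) (l : ℤ) (i : ι) (h : l < m i) : d i ≤ bN d m l := by
  have h1 : (if l < m i then d i else 0) ≤ ∑ j, if l < m j then d j else 0 :=
    Finset.single_le_sum (f := fun j => if l < m j then d j else 0) (fun j _ => Nat.zero_le _)
      (Finset.mem_univ i)
  rw [if_pos h] at h1
  exact h1

theorem le_aN (d : ι → ℕ) (m : ι → ℤ) (l : ℤ) (i : ι) (h : m i ≤ -l) : d i ≤ aN d m l := by
  have h1 : (if m i ≤ -l then d i else 0) ≤ ∑ j, if m j ≤ -l then d j else 0 :=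
    Finset.single_le_sum (f := fun j => if m j ≤ -l then d j else 0) (fun j _ => Nat.zero_le _)
      (Finset.mem_univ i)
  rw [if_pos h] at h1
  exact h1

theorem count_ns (d : ι → ℕ) (m : ι → ℤ) (hsum : ∑ i, m i * (d i : ℤ) = 0)
    (h : ∀ l : ℤ, 0 ≤ l → aN d m l ≤ bN d m l) : ∀ i, d i ≠ 0 → m i = 0 := by
  obtain ⟨K, hK⟩ := exists_bound m
  have hid := ident d m K hK
  rw [hsum] at hid
  have hterm : ∀ l ∈ Finset.range K,
      (0 : ℤ) ≤ ((bN d m (l : ℤ) : ℕ) : ℤ) - ((aN d m ((l : ℤ) + 1) : ℕ) : ℤ) := by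
    intro l _
    have h1 := h ((l : ℤ) + 1) (by positivity)
    have h2 := bN_anti d m (l : ℤ)
    have h3 : ((aN d m ((l : ℤ) + 1) : ℕ) : ℤ) ≤ ((bN d m (l : ℤ) : ℕ) : ℤ) := by
      exact_mod_cast le_trans h1 h2
    linarith
  have hz := (Finset.sum_eq_zero_iff_of_nonneg hterm).mp hid.symm
  have heq : ∀ l : ℕ, l < K → bN d m (l : ℤ) = aN d m ((l : ℤ) + 1) := by
    intro l hl
    have h1 := hz l (Finset.mem_range.mpr hl)
    have h' : ((bN d m (l : ℤ) : ℕ) : ℤ) = ((aN d m ((l : ℤ) + 1) : ℕ) : ℤ) := by linarith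
    exact_mod_cast h'
  have hstep : ∀ l : ℕ, l < K → bN d m (l : ℤ) = bN d m ((l : ℤ) + 1) := by
    intro l hl
    have h1 := h ((l : ℤ) + 1) (by positivity)
    have h2 := bN_anti d m (l : ℤ)
    have h3 := heq l hl
    omega
  have hb0 : bN d m 0 = 0 := by
    have hall : ∀ l : ℕ, l ≤ K → bN d m (0 : ℤ) = bN d m (l : ℤ) := by
      intro l
      induction l with
      | zero =>
        intro _
        rw [Nat.cast_zero]
      | succ l ih =>
        intro hl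
        have h1 := ih (by omega)
        have h2 := hstep l (by omega)
        rw [h1, h2, Nat.cast_succ]
    rw [hall K le_rfl]
    exact bN_zero_of_bound d m K (fun i => (hK i).2)
  intro i hi
  by_contra hmi
  rcases lt_or_gt_of_ne hmi with hneg | hpos
  · have hK1 : 0 < K := by
      have := (hK i).1
      omega
    have h1 := heq 0 hK1
    simp only [Nat.cast_zero, zero_add] at h1
    have h2 := le_aN d m 1 i (by omega)
    omega
  · have h2 := le_bN d m 0 i hpos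
    omega

theorem count_s (d : ι → ℕ) (m : ι → ℤ) (hsum : ∑ i, m i * (d i : ℤ) = 0)
    (h : ∀ l : ℤ, 1 ≤ l → aN d m l ≤ bN d m (l - 1) ∧
      (aN d m l ≠ 0 → aN d m l < bN d m (l - 1))) :
    ∀ i, d i ≠ 0 → m i = 0 := by
  obtain ⟨K, hK⟩ := exists_bound m
  have hid := ident d m K hK
  rw [hsum] at hid
  have hh : ∀ l : ℕ, aN d m ((l : ℤ) + 1) ≤ bN d m (l : ℤ) ∧
      (aN d m ((l : ℤ) + 1) ≠ 0 → aN d m ((l : ℤ) + 1) < bN d m (l : ℤ)) := by
    intro l
    have h1 := h ((l : ℤ) + 1) (by linarith [Int.natCast_nonneg l])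
    rw [add_sub_cancel_right] at h1
    exact h1
  have hterm : ∀ l ∈ Finset.range K,
      (0 : ℤ) ≤ ((bN d m (l : ℤ) : ℕ) : ℤ) - ((aN d m ((l : ℤ) + 1) : ℕ) : ℤ) := by
    intro l _
    have h3 : ((aN d m ((l : ℤ) + 1) : ℕ) : ℤ) ≤ ((bN d m (l : ℤ) : ℕ) : ℤ) := by
      exact_mod_cast (hh l).1
    linarith
  have hz := (Finset.sum_eq_zero_iff_of_nonneg hterm).mp hid.symm
  have heq : ∀ l : ℕ, l < K → bN d m (l : ℤ) = aN d m ((l : ℤ) + 1) := by
    intro l hl
    have h1 := hz l (Finset.mem_range.mpr hl)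
    have h' : ((bN d m (l : ℤ) : ℕ) : ℤ) = ((aN d m ((l : ℤ) + 1) : ℕ) : ℤ) := by linarith
    exact_mod_cast h'
  have hzero : ∀ l : ℕ, l < K → aN d m ((l : ℤ) + 1) = 0 := by
    intro l hl
    by_contra hne
    have h1 := (hh l).2 hne
    have h2 := heq l hl
    omega
  intro i hi
  by_contra hmi
  rcases lt_or_gt_of_ne hmi with hneg | hpos
  · have hK1 : 0 < K := by
      have := (hK i).1
      omega
    have h1 := hzero 0 hK1
    simp only [Nat.cast_zero, zero_add] at h1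
    have h2 := le_aN d m 1 i (by omega)
    omega
  · have hK1 : 0 < K := by
      have := (hK i).2
      omega
    have h1 := heq 0 hK1
    have h1' := hzero 0 hK1
    simp only [Nat.cast_zero, zero_add] at h1 h1'
    have h2 := le_bN d m 0 i hpos
    omega

end count

section lin

variable {W : Type} [AddCommGroup W] [Module ℂ W]
variable {H : Type} [AddCommGroup H] [Module ℂ H] [FiniteDimensional ℂ H]

def perp (q : H →ₗ[ℂ] H →ₗ[ℂ] W) (V : Submodule ℂ H) : Submodule ℂ H :=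
  ⨅ (y : H) (_ : y ∈ V), LinearMap.ker (q.flip y)

theorem mem_perp (q : H →ₗ[ℂ] H →ₗ[ℂ] W) (V : Submodule ℂ H) (x : H) :
    x ∈ perp q V ↔ ∀ y ∈ V, q x y = 0 := by
  unfold perp
  simp only [Submodule.mem_iInf, LinearMap.mem_ker, LinearMap.flip_apply]

theorem q_zero_of_gen {ι : Type} (Hs : ι → Submodule ℂ H) (q : H →ₗ[ℂ] H →ₗ[ℂ] W)
    (S T : Finset ι)
    (h : ∀ i ∈ S, ∀ j ∈ T, ∀ x ∈ Hs i, ∀ y ∈ Hs j, q x y = 0) :
    ∀ x ∈ (⨆ i ∈ S, Hs i), ∀ y ∈ (⨆ j ∈ T, Hs j), q x y = 0 := by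
  have step1 : ∀ i ∈ S, ∀ x ∈ Hs i, (⨆ j ∈ T, Hs j) ≤ LinearMap.ker (q x) := by
    intro i hi x hx
    refine iSup₂_le (fun j hj => ?_)
    intro y hy
    exact LinearMap.mem_ker.mpr (h i hi j hj x hx y hy)
  intro x hx y hy
  have step2 : (⨆ i ∈ S, Hs i) ≤ LinearMap.ker (q.flip y) := by
    refine iSup₂_le (fun i hi => ?_)
    intro x' hx'
    rw [LinearMap.mem_ker, LinearMap.flip_apply]
    exact LinearMap.mem_ker.mp (step1 i hi x' hx' hy)
  have h1 := step2 hx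
  rw [LinearMap.mem_ker, LinearMap.flip_apply] at h1
  exact h1

theorem finrank_biSup {ι : Type} [DecidableEq ι] (Hs : ι → Submodule ℂ H)
    (hind : iSupIndep Hs) (S : Finset ι) :
    Module.finrank ℂ ↥(⨆ i ∈ S, Hs i) = ∑ i ∈ S, Module.finrank ℂ (Hs i) := by
  induction S using Finset.induction_on with
  | empty => simp
  | insert a S ha ih =>
    rw [Finset.iSup_insert, Finset.sum_insert ha, ← ih]
    have hdisj : Disjoint (Hs a) (⨆ i ∈ S, Hs i) := by
      have h1 := hind.disjoint_biSup (x := a) (y := (S : Set ι)) (by simpa using ha)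
      simpa using h1
    have h1 := Submodule.finrank_sup_add_finrank_inf_eq (Hs a) (⨆ i ∈ S, Hs i)
    rw [disjoint_iff.mp hdisj, finrank_bot, add_zero] at h1
    exact h1

theorem dirB_aux {ι : Type} [Fintype ι] [DecidableEq ι] (q : H →ₗ[ℂ] H →ₗ[ℂ] W)
    (Hs : ι → Submodule ℂ H) (hint : DirectSum.IsInternal Hs)
    (p r : ι → Prop) [DecidablePred p] [DecidablePred r]
    (h1 : ∀ i j, p i → p j → ∀ x ∈ Hs i, ∀ y ∈ Hs j, q x y = 0)
    (h2 : ∀ j i, r j → p i → ∀ x ∈ Hs j, ∀ y ∈ Hs i, q x y = 0) :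
    ∃ V : Submodule ℂ H, (∀ x ∈ V, ∀ y ∈ V, q x y = 0) ∧
      Module.finrank ℂ V = (∑ i, if p i then Module.finrank ℂ (Hs i) else 0) ∧
      (∑ j, if r j then Module.finrank ℂ (Hs j) else 0) ≤ Module.finrank ℂ (perp q V) ∧
      Module.finrank ℂ H = ∑ j, Module.finrank ℂ (Hs j) := by
  have hind := hint.submodule_iSupIndep
  have htop := hint.submodule_iSup_eq_top
  refine ⟨⨆ i ∈ Finset.univ.filter p, Hs i, ?_, ?_, ?_, ?_⟩
  · exact q_zero_of_gen Hs q _ _ (fun i hi j hj x hx y hy =>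
      h1 i j (Finset.mem_filter.mp hi).2 (Finset.mem_filter.mp hj).2 x hx y hy)
  · rw [finrank_biSup Hs hind, Finset.sum_filter]
  · have hle : (⨆ j ∈ Finset.univ.filter r, Hs j) ≤
        perp q (⨆ i ∈ Finset.univ.filter p, Hs i) := by
      intro x hx
      rw [mem_perp]
      intro y hy
      exact q_zero_of_gen Hs q _ _ (fun j hj i hi x hx y hy =>
        h2 j i (Finset.mem_filter.mp hj).2 (Finset.mem_filter.mp hi).2 x hx y hy) x hx y hy
    have h3 := Submodule.finrank_mono hle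
    rw [finrank_biSup Hs hind, Finset.sum_filter] at h3
    exact h3
  · have h4 := finrank_biSup Hs hind Finset.univ
    have h5 : (⨆ i ∈ (Finset.univ : Finset ι), Hs i) = ⊤ := by
      rw [show (⨆ i ∈ (Finset.univ : Finset ι), Hs i) = ⨆ i, Hs i from by simp]
      exact htop
    rw [h5, finrank_top] at h4
    exact h4

theorem dirB_ns (q : H →ₗ[ℂ] H →ₗ[ℂ] W)
    (hSS : ∀ V : Submodule ℂ H, V ≠ ⊥ → (∀ x ∈ V, ∀ y ∈ V, q x y = 0) →
        Module.finrank ℂ V + Module.finrank ℂ (perp q V) ≤ Module.finrank ℂ H)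
    (ι : Type) [Fintype ι] [DecidableEq ι] (Hs : ι → Submodule ℂ H) (m : ι → ℤ)
    (hint : DirectSum.IsInternal Hs)
    (hsum : (∑ i, m i * (Module.finrank ℂ (Hs i) : ℤ)) = 0)
    (hne : ∃ i, m i ≠ 0 ∧ Hs i ≠ ⊥) :
    ∃ i j, (∃ x ∈ Hs i, ∃ y ∈ Hs j, q x y ≠ 0) ∧ m i + m j ≤ 0 := by
  by_contra hcon
  have hvan : ∀ i j, m i + m j ≤ 0 → ∀ x ∈ Hs i, ∀ y ∈ Hs j, q x y = 0 := by
    intro i j hij x hx y hy
    by_contra hne'
    exact hcon ⟨i, j, ⟨x, hx, y, hy, hne'⟩, hij⟩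
  have hAB : ∀ l : ℤ, 0 ≤ l → aN (fun i => Module.finrank ℂ (Hs i)) m l ≤
      bN (fun i => Module.finrank ℂ (Hs i)) m l := by
    intro l hl
    obtain ⟨V, hiso, hdimV, hdimP, hdimH⟩ := dirB_aux q Hs hint
      (fun i => m i ≤ -l) (fun j => m j ≤ l)
      (fun i j (hi : m i ≤ -l) (hj : m j ≤ -l) => hvan i j (by omega))
      (fun j i (hj : m j ≤ l) (hi : m i ≤ -l) => hvan j i (by omega))
    have hdimV' : Module.finrank ℂ V =
        ∑ i, if m i ≤ -l then Module.finrank ℂ (Hs i) else 0 := hdimV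
    have hdimP' : (∑ j, if m j ≤ l then Module.finrank ℂ (Hs j) else 0) ≤
        Module.finrank ℂ (perp q V) := hdimP
    have hsplit : (∑ j, Module.finrank ℂ (Hs j)) =
        (∑ j, if m j ≤ l then Module.finrank ℂ (Hs j) else 0) +
          bN (fun i => Module.finrank ℂ (Hs i)) m l := by
      unfold bN
      rw [← Finset.sum_add_distrib]
      refine Finset.sum_congr rfl (fun j _ => ?_)
      by_cases h : m j ≤ l
      · rw [if_pos h, if_neg (by omega), add_zero]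
      · rw [if_neg h, if_pos (by omega), zero_add]
    have haN : aN (fun i => Module.finrank ℂ (Hs i)) m l = Module.finrank ℂ V :=
      hdimV'.symm
    by_cases hV : V = ⊥
    · have h0 : Module.finrank ℂ V = 0 := by
        rw [hV]
        exact finrank_bot ℂ H
      omega
    · have h5 := hSS V hV hiso
      omega
  have hcount := count_ns (fun i => Module.finrank ℂ (Hs i)) m hsum hAB
  obtain ⟨i, hmi, hHi⟩ := hne
  exact hmi (hcount i (fun h0 => hHi (Submodule.finrank_eq_zero.mp h0)))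

theorem dirB_s (q : H →ₗ[ℂ] H →ₗ[ℂ] W)
    (hS : ∀ V : Submodule ℂ H, V ≠ ⊥ → (∀ x ∈ V, ∀ y ∈ V, q x y = 0) →
        Module.finrank ℂ V + Module.finrank ℂ (perp q V) < Module.finrank ℂ H)
    (ι : Type) [Fintype ι] [DecidableEq ι] (Hs : ι → Submodule ℂ H) (m : ι → ℤ)
    (hint : DirectSum.IsInternal Hs)
    (hsum : (∑ i, m i * (Module.finrank ℂ (Hs i) : ℤ)) = 0)
    (hne : ∃ i, m i ≠ 0 ∧ Hs i ≠ ⊥) :
    ∃ i j, (∃ x ∈ Hs i, ∃ y ∈ Hs j, q x y ≠ 0) ∧ m i + m j < 0 := by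
  by_contra hcon
  have hvan : ∀ i j, m i + m j < 0 → ∀ x ∈ Hs i, ∀ y ∈ Hs j, q x y = 0 := by
    intro i j hij x hx y hy
    by_contra hne'
    exact hcon ⟨i, j, ⟨x, hx, y, hy, hne'⟩, hij⟩
  have hAB : ∀ l : ℤ, 1 ≤ l → aN (fun i => Module.finrank ℂ (Hs i)) m l ≤
      bN (fun i => Module.finrank ℂ (Hs i)) m (l - 1) ∧
      (aN (fun i => Module.finrank ℂ (Hs i)) m l ≠ 0 →
        aN (fun i => Module.finrank ℂ (Hs i)) m l <
          bN (fun i => Module.finrank ℂ (Hs i)) m (l - 1)) := by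
    intro l hl
    obtain ⟨V, hiso, hdimV, hdimP, hdimH⟩ := dirB_aux q Hs hint
      (fun i => m i ≤ -l) (fun j => m j < l)
      (fun i j (hi : m i ≤ -l) (hj : m j ≤ -l) => hvan i j (by omega))
      (fun j i (hj : m j < l) (hi : m i ≤ -l) => hvan j i (by omega))
    have hdimV' : Module.finrank ℂ V =
        ∑ i, if m i ≤ -l then Module.finrank ℂ (Hs i) else 0 := hdimV
    have hdimP' : (∑ j, if m j < l then Module.finrank ℂ (Hs j) else 0) ≤
        Module.finrank ℂ (perp q V) := hdimP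
    have hsplit : (∑ j, Module.finrank ℂ (Hs j)) =
        (∑ j, if m j < l then Module.finrank ℂ (Hs j) else 0) +
          bN (fun i => Module.finrank ℂ (Hs i)) m (l - 1) := by
      unfold bN
      rw [← Finset.sum_add_distrib]
      refine Finset.sum_congr rfl (fun j _ => ?_)
      by_cases h : m j < l
      · rw [if_pos h, if_neg (by omega), add_zero]
      · rw [if_neg h, if_pos (by omega), zero_add]
    have haN : aN (fun i => Module.finrank ℂ (Hs i)) m l = Module.finrank ℂ V :=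
      hdimV'.symm
    by_cases hV : V = ⊥
    · have h0 : Module.finrank ℂ V = 0 := by
        rw [hV]
        exact finrank_bot ℂ H
      constructor
      · omega
      · intro hne0
        omega
    · have h5 := hS V hV hiso
      constructor
      · omega
      · intro _
        omega
  have hcount := count_s (fun i => Module.finrank ℂ (Hs i)) m hsum hAB
  obtain ⟨i, hmi, hHi⟩ := hne
  exact hmi (hcount i (fun h0 => hHi (Submodule.finrank_eq_zero.mp h0)))

theorem disj_aux (A B C P : Submodule ℂ H) (hA : A ≤ P) (hB : B ≤ P) (hAB : A ⊓ B = ⊥)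
    (hPC : P ⊓ C = ⊥) : Disjoint A (B ⊔ C) := by
  rw [Submodule.disjoint_def]
  intro x hxA hx
  obtain ⟨y, hy, z, hz, rfl⟩ := Submodule.mem_sup.mp hx
  have hzP : z ∈ P := by
    have h1 : z = (y + z) - y := by abel
    rw [h1]
    exact P.sub_mem (hA hxA) (hB hy)
  have hz0 : z = 0 := by
    have h1 : z ∈ P ⊓ C := ⟨hzP, hz⟩
    rw [hPC] at h1
    exact (Submodule.mem_bot ℂ).mp h1
  rw [hz0, add_zero] at hxA ⊢
  have h1 : y ∈ A ⊓ B := ⟨hxA, hy⟩
  rw [hAB] at h1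
  exact (Submodule.mem_bot ℂ).mp h1

theorem decomp3 (V P : Submodule ℂ H) (hVP : V ≤ P) :
    ∃ V' V'' : Submodule ℂ H, V' ≤ P ∧
      DirectSum.IsInternal (![V, V', V''] : Fin 3 → Submodule ℂ H) ∧
      Module.finrank ℂ V + Module.finrank ℂ V' = Module.finrank ℂ P ∧
      Module.finrank ℂ P + Module.finrank ℂ V'' = Module.finrank ℂ H := by
  obtain ⟨V₁, hV₁⟩ := Submodule.exists_isCompl V
  obtain ⟨V'', hV''⟩ := Submodule.exists_isCompl P
  obtain ⟨V', hV'def⟩ : ∃ V' : Submodule ℂ H, V' = V₁ ⊓ P := ⟨_, rfl⟩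
  have hV'P : V' ≤ P := by
    rw [hV'def]
    exact inf_le_right
  have hsup : V ⊔ V' = P := by
    rw [hV'def, ← sup_inf_assoc_of_le V₁ hVP, hV₁.sup_eq_top, top_inf_eq]
  have hinf : V ⊓ V' = ⊥ := by
    rw [hV'def]
    exact le_bot_iff.mp (le_trans (inf_le_inf_left V inf_le_left) (le_of_eq hV₁.inf_eq_bot))
  have hPC : P ⊓ V'' = ⊥ := hV''.inf_eq_bot
  have h3 : ∀ i : Fin 3, i = 0 ∨ i = 1 ∨ i = 2 := by decide
  refine ⟨V', V'', hV'P, ?_, ?_, ?_⟩
  · rw [DirectSum.isInternal_submodule_iff_iSupIndep_and_iSup_eq_top]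
    constructor
    · intro i
      rcases h3 i with rfl | rfl | rfl
      · have hle : (⨆ (j : Fin 3) (_ : j ≠ 0), (![V, V', V''] : Fin 3 → Submodule ℂ H) j) ≤
            V' ⊔ V'' := by
          refine iSup₂_le (fun j hj => ?_)
          rcases h3 j with rfl | rfl | rfl
          · exact absurd rfl hj
          · exact le_sup_left
          · exact le_sup_right
        exact (disj_aux V V' V'' P hVP hV'P hinf hPC).mono_right hle
      · have hle : (⨆ (j : Fin 3) (_ : j ≠ 1), (![V, V', V''] : Fin 3 → Submodule ℂ H) j) ≤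
            V ⊔ V'' := by
          refine iSup₂_le (fun j hj => ?_)
          rcases h3 j with rfl | rfl | rfl
          · exact le_sup_left
          · exact absurd rfl hj
          · exact le_sup_right
        exact (disj_aux V' V V'' P hV'P hVP (by rw [inf_comm]; exact hinf) hPC).mono_right hle
      · have hle : (⨆ (j : Fin 3) (_ : j ≠ 2), (![V, V', V''] : Fin 3 → Submodule ℂ H) j) ≤
            P := by
          refine iSup₂_le (fun j hj => ?_)
          rcases h3 j with rfl | rfl | rfl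
          · exact hVP
          · exact hV'P
          · exact absurd rfl hj
        exact (hV''.disjoint.symm).mono_right hle
    · rw [eq_top_iff, ← hV''.sup_eq_top, ← hsup]
      refine sup_le (sup_le ?_ ?_) ?_
      · exact le_iSup (![V, V', V''] : Fin 3 → Submodule ℂ H) 0
      · exact le_iSup (![V, V', V''] : Fin 3 → Submodule ℂ H) 1
      · exact le_iSup (![V, V', V''] : Fin 3 → Submodule ℂ H) 2
  · have h1 := Submodule.finrank_sup_add_finrank_inf_eq V V'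
    rw [hsup, hinf, finrank_bot, add_zero] at h1
    exact h1.symm
  · exact Submodule.finrank_add_eq_of_isCompl hV''

theorem A_data (s : W →ₗ[ℂ] W) (q : H →ₗ[ℂ] H →ₗ[ℂ] W)
    (hq : ∀ x y : H, q x y = s (q y x)) (hq0 : q ≠ 0) (V : Submodule ℂ H) (hV0 : V ≠ ⊥)
    (hiso : ∀ x ∈ V, ∀ y ∈ V, q x y = 0) :
    ∃ (v v' v'' : ℕ) (Hs : Fin 3 → Submodule ℂ H) (m : Fin 3 → ℤ),
      DirectSum.IsInternal Hs ∧
      (∑ i, m i * (Module.finrank ℂ (Hs i) : ℤ)) = 0 ∧
      (∃ i, m i ≠ 0 ∧ Hs i ≠ ⊥) ∧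
      m 0 = -((v' : ℤ) + v'') ∧ m 1 = (v : ℤ) - v'' ∧ m 2 = (v : ℤ) + v' ∧
      Module.finrank ℂ V + Module.finrank ℂ (perp q V) = 2 * v + v' ∧
      Module.finrank ℂ H = v + v' + v'' ∧ 1 ≤ v ∧
      (∀ x ∈ Hs 0, ∀ y ∈ Hs 0, q x y = 0) ∧ (∀ x ∈ Hs 0, ∀ y ∈ Hs 1, q x y = 0) ∧
      (∀ x ∈ Hs 1, ∀ y ∈ Hs 0, q x y = 0) := by
  have hVP : V ≤ perp q V := by
    intro x hx
    rw [mem_perp]
    intro y hy
    exact hiso x hx y hy
  obtain ⟨V', V'', hV'P, hint, hd1, hd2⟩ := decomp3 V (perp q V) hVP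
  obtain ⟨v, hv⟩ : ∃ v : ℕ, v = Module.finrank ℂ V := ⟨_, rfl⟩
  obtain ⟨v', hv'⟩ : ∃ v' : ℕ, v' = Module.finrank ℂ V' := ⟨_, rfl⟩
  obtain ⟨v'', hv''⟩ : ∃ v'' : ℕ, v'' = Module.finrank ℂ V'' := ⟨_, rfl⟩
  rw [← hv, ← hv'] at hd1
  rw [← hv''] at hd2
  have hv1 : 1 ≤ v := by
    by_contra h0
    have h1 : Module.finrank ℂ V = 0 := by omega
    exact hV0 (Submodule.finrank_eq_zero.mp h1)
  refine ⟨v, v', v'', ![V, V', V''], ![-((v' : ℤ) + v''), (v : ℤ) - v'', (v : ℤ) + v'],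
    hint, ?_, ?_, rfl, rfl, rfl, ?_, ?_, hv1, ?_, ?_, ?_⟩
  · rw [Fin.sum_univ_three]
    show -((v' : ℤ) + v'') * (Module.finrank ℂ V : ℤ) +
      ((v : ℤ) - v'') * (Module.finrank ℂ V' : ℤ) +
      ((v : ℤ) + v') * (Module.finrank ℂ V'' : ℤ) = 0
    rw [← hv, ← hv', ← hv'']
    ring
  · by_cases h0 : v' + v'' = 0
    · exfalso
      have hVtop : V = ⊤ := by
        apply Submodule.eq_top_of_finrank_eq
        omega
      apply hq0
      refine LinearMap.ext (fun x => LinearMap.ext (fun y => ?_))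
      have hx : x ∈ V := by rw [hVtop]; exact Submodule.mem_top
      have hy : y ∈ V := by rw [hVtop]; exact Submodule.mem_top
      rw [hiso x hx y hy]
      rfl
    · refine ⟨0, ?_, hV0⟩
      show -((v' : ℤ) + v'') ≠ 0
      omega
  · omega
  · omega
  · exact hiso
  · intro x hx y hy
    have hy' : y ∈ perp q V := hV'P hy
    rw [mem_perp] at hy'
    rw [hq x y, hy' x hx, map_zero]
  · intro x hx y hy
    have hx' : x ∈ perp q V := hV'P hx
    rw [mem_perp] at hx'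
    exact hx' y hy

end lin

theorem main15159
    (W : Type) [AddCommGroup W] [Module ℂ W] [FiniteDimensional ℂ W]
    (s : W →ₗ[ℂ] W) (hs : s ∘ₗ s = LinearMap.id)
    (H : Type) [AddCommGroup H] [Module ℂ H] [FiniteDimensional ℂ H]
    (q : H →ₗ[ℂ] H →ₗ[ℂ] W) (hq : ∀ x y : H, q x y = s (q y x)) (hq0 : q ≠ 0) :
    ((∀ V : Submodule ℂ H, V ≠ ⊥ → (∀ x ∈ V, ∀ y ∈ V, q x y = 0) →
        Module.finrank ℂ V + Module.finrank ℂ ↥(⨅ (y : H) (_ : y ∈ V), LinearMap.ker (q.flip y) : Submodule ℂ H) ≤ Module.finrank ℂ H) ↔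
      (∀ (ι : Type) [Fintype ι] [DecidableEq ι] (Hs : ι → Submodule ℂ H) (m : ι → ℤ),
        DirectSum.IsInternal Hs → (∑ i, m i * (Module.finrank ℂ (Hs i) : ℤ)) = 0 →
        (∃ i, m i ≠ 0 ∧ Hs i ≠ ⊥) →
        ∃ i j, (∃ x ∈ Hs i, ∃ y ∈ Hs j, q x y ≠ 0) ∧ m i + m j ≤ 0)) ∧
    ((∀ V : Submodule ℂ H, V ≠ ⊥ → (∀ x ∈ V, ∀ y ∈ V, q x y = 0) →
        Module.finrank ℂ V + Module.finrank ℂ ↥(⨅ (y : H) (_ : y ∈ V), LinearMap.ker (q.flip y) : Submodule ℂ H) < Module.finrank ℂ H) ↔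
      (∀ (ι : Type) [Fintype ι] [DecidableEq ι] (Hs : ι → Submodule ℂ H) (m : ι → ℤ),
        DirectSum.IsInternal Hs → (∑ i, m i * (Module.finrank ℂ (Hs i) : ℤ)) = 0 →
        (∃ i, m i ≠ 0 ∧ Hs i ≠ ⊥) →
        ∃ i j, (∃ x ∈ Hs i, ∃ y ∈ Hs j, q x y ≠ 0) ∧ m i + m j < 0)) := by
  have h3 : ∀ i : Fin 3, i = 0 ∨ i = 1 ∨ i = 2 := by decide
  refine ⟨⟨?_, ?_⟩, ⟨?_, ?_⟩⟩
  · intro hSS ι _ _ Hs m hint hsum hne
    exact dirB_ns q hSS ι Hs m hint hsum hne
  · intro hN V hV0 hiso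
    show Module.finrank ℂ V + Module.finrank ℂ (perp q V) ≤ Module.finrank ℂ H
    obtain ⟨v, v', v'', Hs, m, hint, hsum, hne, hm0, hm1, hm2, hd1, hd2, hv1, ha, hb, hc⟩ :=
      A_data s q hq hq0 V hV0 hiso
    by_contra hcon
    obtain ⟨i, j, ⟨x, hx, y, hy, hxy⟩, hm⟩ := hN (Fin 3) Hs m hint hsum hne
    rcases h3 i with rfl | rfl | rfl <;> rcases h3 j with rfl | rfl | rfl
    · exact hxy (ha x hx y hy)
    · exact hxy (hb x hx y hy)
    · rw [hm0, hm2] at hm
      omega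
    · exact hxy (hc x hx y hy)
    · rw [hm1] at hm
      omega
    · rw [hm1, hm2] at hm
      omega
    · rw [hm2, hm0] at hm
      omega
    · rw [hm2, hm1] at hm
      omega
    · rw [hm2] at hm
      omega
  · intro hS ι _ _ Hs m hint hsum hne
    exact dirB_s q hS ι Hs m hint hsum hne
  · intro hN V hV0 hiso
    show Module.finrank ℂ V + Module.finrank ℂ (perp q V) < Module.finrank ℂ H
    obtain ⟨v, v', v'', Hs, m, hint, hsum, hne, hm0, hm1, hm2, hd1, hd2, hv1, ha, hb, hc⟩ :=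
      A_data s q hq hq0 V hV0 hiso
    by_contra hcon
    obtain ⟨i, j, ⟨x, hx, y, hy, hxy⟩, hm⟩ := hN (Fin 3) Hs m hint hsum hne
    rcases h3 i with rfl | rfl | rfl <;> rcases h3 j with rfl | rfl | rfl
    · exact hxy (ha x hx y hy)
    · exact hxy (hb x hx y hy)
    · rw [hm0, hm2] at hm
      omega
    · exact hxy (hc x hx y hy)
    · rw [hm1] at hm
      omega
    · rw [hm1, hm2] at hm
      omega
    · rw [hm2, hm0] at hm
      omega
    · rw [hm2, hm1] at hm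
      omega
    · rw [hm2] at hm
      omega

end Groth.Agent.Lib.SigmaQuadH4
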