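import Mathlib
import Groth.Prelude
import Groth.Agent.Lib.SimDiag_lead
import Groth.Agent.Lib.ComodDual_helper9

set_option autoImplicit false
set_option linter.style.haveILetI false
set_option linter.unusedVariables false

universe u v w

open TensorProduct

namespace Groth.Agent.Lib.SimDiagPtH4

variable {k : Type u} [Field k] {A : Type v} [CommRing A] [HopfAlgebra k A]
  {R : Type w} [CommRing R] [Algebra k R]

/-- `x ⊗ y ↦ g y ⊗ x`. -/
noncomputable def L (g : A →ₐ[k] R) : A ⊗[k] A →ₗ[k] R ⊗[k] A :=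
  ((Algebra.TensorProduct.map g (AlgHom.id k A)).comp
    (Algebra.TensorProduct.comm k A A).toAlgHom).toLinearMap

theorem L_tmul (g : A →ₐ[k] R) (x y : A) : L g (x ⊗ₜ[k] y) = g y ⊗ₜ[k] x := by
  simp [L]

theorem translAux_eq (g : A →ₐ[k] R) (a : A) :
    MadRed.translAux k A R g a = L g (Coalgebra.comul a) := rfl

theorem ptAct_one_tmul (h : A →ₐ[k] R) (b : A) :
    MadRed.ptAct k A R h ((1 : R) ⊗ₜ[k] b) = L h (Coalgebra.comul b) := by
  rw [← translAux_eq, MadRed.ptAct, Algebra.TensorProduct.lift_tmul, map_one, one_mul]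

theorem tmul_eq_smul (r : R) (b : A) :
    (r ⊗ₜ[k] b : R ⊗[k] A) = r • ((1 : R) ⊗ₜ[k] b) := by
  rw [TensorProduct.smul_tmul', smul_eq_mul, mul_one]

theorem ptAct_tmul (h : A →ₐ[k] R) (r : R) (b : A) :
    MadRed.ptAct k A R h (r ⊗ₜ[k] b) = r • L h (Coalgebra.comul b) := by
  rw [tmul_eq_smul, map_smul, ptAct_one_tmul]

/-- `x ⊗ y ↦ h x * g y`. -/
noncomputable def m (h g : A →ₐ[k] R) : A ⊗[k] A →ₗ[k] R :=
  ((Algebra.TensorProduct.lmul' (S := R) k).comp (Algebra.TensorProduct.map h g)).toLinearMap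

theorem m_tmul (h g : A →ₐ[k] R) (x y : A) : m h g (x ⊗ₜ[k] y) = h x * g y := by
  simp [m]

theorem m_comul (h g : A →ₐ[k] R) (y : A) :
    m h g (Coalgebra.comul y) = (WithConv.toConv h * WithConv.toConv g).ofConv y := rfl

/-- `x ⊗ w ↦ m h g w ⊗ x`. -/
noncomputable def Q' (h g : A →ₐ[k] R) : A ⊗[k] (A ⊗[k] A) →ₗ[k] R ⊗[k] A :=
  (TensorProduct.comm k A R).toLinearMap ∘ₗ (m h g).lTensor A

theorem Q'_tmul (h g : A →ₐ[k] R) (x : A) (w : A ⊗[k] A) :
    Q' h g (x ⊗ₜ[k] w) = m h g w ⊗ₜ[k] x := by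
  simp [Q']

theorem lemB (h g : A →ₐ[k] R) (y : A) (z : A ⊗[k] A) :
    g y • L h z = Q' h g (TensorProduct.assoc k A A A (z ⊗ₜ[k] y)) := by
  induction z using TensorProduct.induction_on with
  | zero => simp
  | tmul x₁ x₂ =>
    rw [L_tmul, TensorProduct.assoc_tmul, Q'_tmul, m_tmul, TensorProduct.smul_tmul', smul_eq_mul,
      mul_comm]
  | add z₁ z₂ h₁ h₂ =>
    rw [map_add, smul_add, h₁, h₂, TensorProduct.add_tmul, map_add, map_add]

theorem lemC (h g : A →ₐ[k] R) (t : A ⊗[k] A) :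
    MadRed.ptAct k A R h (L g t) =
      Q' h g (TensorProduct.assoc k A A A
        ((Coalgebra.comul (R := k) (A := A)).rTensor A t)) := by
  induction t using TensorProduct.induction_on with
  | zero => simp
  | tmul x y => rw [L_tmul, ptAct_tmul, LinearMap.rTensor_tmul, lemB]
  | add t₁ t₂ h₁ h₂ => simp only [map_add, h₁, h₂]

/-- `x ⊗ y ↦ m h g (Δ y) ⊗ x`. -/
noncomputable def N (h g : A →ₐ[k] R) : A ⊗[k] A →ₗ[k] R ⊗[k] A :=
  Q' h g ∘ₗ (Coalgebra.comul (R := k) (A := A)).lTensor A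

theorem lemD (h g : A →ₐ[k] R) (a : A) :
    MadRed.ptAct k A R h (MadRed.translAux k A R g a) = N h g (Coalgebra.comul a) := by
  rw [translAux_eq, lemC, Coalgebra.coassoc_apply]
  rfl

theorem N_symm (h g : A →ₐ[k] R)
    (hgh : ∀ y : A, m h g (Coalgebra.comul y) = m g h (Coalgebra.comul y)) :
    N h g = N g h := by
  refine TensorProduct.ext' fun x y => ?_
  show Q' h g ((Coalgebra.comul (R := k) (A := A)).lTensor A (x ⊗ₜ[k] y)) =
    Q' g h ((Coalgebra.comul (R := k) (A := A)).lTensor A (x ⊗ₜ[k] y))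
  rw [LinearMap.lTensor_tmul, Q'_tmul, Q'_tmul, hgh]

theorem lemE (h g : A →ₐ[k] R)
    (hgh : ∀ y : A, m h g (Coalgebra.comul y) = m g h (Coalgebra.comul y)) (a : A) :
    MadRed.ptAct k A R h (MadRed.translAux k A R g a) =
      MadRed.ptAct k A R g (MadRed.translAux k A R h a) := by
  rw [lemD, lemD, N_symm h g hgh]

theorem commute_ptAct (h g : A →ₐ[k] R)
    (hc : WithConv.toConv h * WithConv.toConv g = WithConv.toConv g * WithConv.toConv h) :
    Commute ((MadRed.ptAct k A R h).toLinearMap : Module.End R (R ⊗[k] A))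
      ((MadRed.ptAct k A R g).toLinearMap : Module.End R (R ⊗[k] A)) := by
  have hgh : ∀ y : A, m h g (Coalgebra.comul y) = m g h (Coalgebra.comul y) := fun y => by
    rw [m_comul, m_comul, hc]
  show ((MadRed.ptAct k A R h).toLinearMap : Module.End R (R ⊗[k] A)) *
      ((MadRed.ptAct k A R g).toLinearMap : Module.End R (R ⊗[k] A)) =
    ((MadRed.ptAct k A R g).toLinearMap : Module.End R (R ⊗[k] A)) *
      ((MadRed.ptAct k A R h).toLinearMap : Module.End R (R ⊗[k] A))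
  refine TensorProduct.AlgebraTensorModule.ext fun r a => ?_
  show MadRed.ptAct k A R h (MadRed.ptAct k A R g (r ⊗ₜ[k] a)) =
    MadRed.ptAct k A R g (MadRed.ptAct k A R h (r ⊗ₜ[k] a))
  rw [ptAct_tmul, ptAct_tmul, map_smul, map_smul, ← translAux_eq, ← translAux_eq,
    lemE h g hgh a]

theorem locfin_pure (a : A) : ∃ W : Submodule R (R ⊗[k] A), ((1 : R) ⊗ₜ[k] a) ∈ W ∧ W.FG ∧
    ∀ g : A →ₐ[k] R, ∀ w ∈ W, MadRed.ptAct k A R g w ∈ W := by
  obtain ⟨W0, hfin0, haW0, hsub⟩ :=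
    Groth.Agent.Lib.ComodDual_helper9.exists_finite_subcomod_mem (k := k) (C := A) (V := A) a
  obtain ⟨s, hs⟩ := (Module.Finite.iff_fg.mp hfin0 : W0.FG)
  refine ⟨W0.baseChange R, Submodule.tmul_mem_baseChange_of_mem 1 haW0, ?_, ?_⟩
  · rw [← hs, Submodule.baseChange_span]
    exact Submodule.fg_span ((s.finite_toSet).image _)
  · intro g
    have key : ∀ z : W0 ⊗[k] A, L g (W0.subtype.rTensor A z) ∈ W0.baseChange R := by
      intro z
      induction z using TensorProduct.induction_on with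
      | zero => rw [map_zero, map_zero]; exact zero_mem _
      | tmul w' b =>
        rw [LinearMap.rTensor_tmul, L_tmul]
        exact Submodule.tmul_mem_baseChange_of_mem (g b) w'.2
      | add z₁ z₂ h₁ h₂ => rw [map_add, map_add]; exact add_mem h₁ h₂
    have gen : ∀ w0 ∈ W0, MadRed.ptAct k A R g ((1 : R) ⊗ₜ[k] w0) ∈ W0.baseChange R := by
      intro w0 hw0
      rw [ptAct_one_tmul]
      obtain ⟨z, hz⟩ := hsub w0 hw0
      have hz' : (W0.subtype.rTensor A) z = Coalgebra.comul w0 := hz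
      rw [← hz']
      exact key z
    intro w hw
    rw [Submodule.baseChange_eq_span] at hw
    refine Submodule.span_induction
      (p := fun x _ => MadRed.ptAct k A R g x ∈ W0.baseChange R) ?_ ?_ ?_ ?_ hw
    · rintro _ ⟨w0, hw0, rfl⟩
      exact gen w0 hw0
    · rw [map_zero]; exact zero_mem _
    · intro x y _ _ hx hy
      rw [map_add]; exact add_mem hx hy
    · intro r x _ hx
      rw [map_smul]; exact Submodule.smul_mem _ r hx

theorem locfin (v : R ⊗[k] A) : ∃ W : Submodule R (R ⊗[k] A), v ∈ W ∧ W.FG ∧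
    ∀ g : A →ₐ[k] R, ∀ w ∈ W, MadRed.ptAct k A R g w ∈ W := by
  induction v using TensorProduct.induction_on with
  | zero =>
    exact ⟨⊥, zero_mem _, Submodule.fg_bot, fun g w hw => by
      rw [(Submodule.mem_bot R).mp hw, map_zero]; exact zero_mem _⟩
  | tmul r a =>
    obtain ⟨W, h1, h2, h3⟩ := locfin_pure (k := k) (R := R) a
    exact ⟨W, by rw [tmul_eq_smul]; exact W.smul_mem r h1, h2, h3⟩
  | add x y hx hy =>
    obtain ⟨W1, a1, b1, c1⟩ := hx
    obtain ⟨W2, a2, b2, c2⟩ := hy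
    refine ⟨W1 ⊔ W2, Submodule.add_mem_sup a1 a2, Submodule.FG.sup b1 b2, ?_⟩
    intro g w hw
    obtain ⟨x', hx', y', hy', rfl⟩ := Submodule.mem_sup.mp hw
    rw [map_add]
    exact Submodule.add_mem_sup (c1 g x' hx') (c2 g y' hy')

theorem main (k : Type u) [Field k]
    (A : Type v) [CommRing A] [HopfAlgebra k A] (R : Type w) [CommRing R] [Algebra k R]
    [IsNoetherianRing R] (H : Set (A →ₐ[k] R))
    (hcomm : ∀ g ∈ H, ∀ h ∈ H,
      WithConv.toConv g * WithConv.toConv h = WithConv.toConv h * WithConv.toConv g)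
    (hdiag : ∀ g ∈ H, ⨆ μ : k,
      Module.End.eigenspace (((MadRed.ptAct k A R g).toLinearMap).restrictScalars k) μ = ⊤) :
    ⨆ χ : H → k, ⨅ g : H,
      Module.End.eigenspace (((MadRed.ptAct k A R g.1).toLinearMap).restrictScalars k) (χ g) = ⊤ :=
  Groth.Agent.Lib.SimDiag.main k R (R ⊗[k] A) (↥H)
    (fun g => (MadRed.ptAct k A R g.1).toLinearMap)
    (fun i j => commute_ptAct i.1 j.1 (hcomm i.1 i.2 j.1 j.2))
    (fun i => hdiag i.1 i.2)
    (fun v => by
      obtain ⟨W, h1, h2, h3⟩ := locfin (R := R) v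
      exact ⟨W, h1, h2, fun i w hw => h3 i.1 w hw⟩)

end Groth.Agent.Lib.SimDiagPtH4
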