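import Mathlib

set_option autoImplicit false
set_option linter.style.haveILetI false
set_option linter.unusedSectionVars false

universe u

namespace Groth.Agent.Lib.SimpGrpKanH4

open CategoryTheory Simplicial Opposite

/-- A bare-hands simplicial group (only faces, degeneracies and the identities relating them
that are needed for Moore's horn filling algorithm). -/
structure SGrp where
  G : ℕ → Type u
  [grp : ∀ n, Group (G n)]
  d : ∀ n, Fin (n+2) → (G (n+1) →* G n)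
  s : ∀ n, Fin (n+1) → (G n →* G (n+1))
  dd : ∀ n (i j : Fin (n+2)) (x : G (n+1+1)), i ≤ j →
    d n i (d (n+1) j.succ x) = d n j (d (n+1) i.castSucc x)
  ds_le : ∀ n (i : Fin (n+2)) (j : Fin (n+1)) (x : G (n+1)), i ≤ j.castSucc →
    d (n+1) i.castSucc (s (n+1) j.succ x) = s n j (d n i x)
  ds_self : ∀ n (i : Fin (n+1)) (x : G n), d n i.castSucc (s n i x) = x
  ds_succ : ∀ n (i : Fin (n+1)) (x : G n), d n i.succ (s n i x) = x
  ds_gt : ∀ n (i : Fin (n+2)) (j : Fin (n+1)) (x : G (n+1)), j.castSucc < i →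
    d (n+1) i.succ (s (n+1) j.castSucc x) = s n j (d n i x)

attribute [instance] SGrp.grp

/-- A simplicial subgroup, as a predicate. -/
structure SPred (A : SGrp.{u}) where
  P : ∀ n, A.G n → Prop
  one : ∀ n, P n 1
  mul : ∀ n x y, P n x → P n y → P n (x * y)
  inv : ∀ n x, P n x → P n x⁻¹
  d : ∀ n j x, P (n+1) x → P n (A.d n j x)
  s : ∀ n j x, P n x → P (n+1) (A.s n j x)

def trivPred (A : SGrp.{u}) : SPred A where
  P _ _ := True
  one _ := trivial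
  mul _ _ _ _ _ := trivial
  inv _ _ _ := trivial
  d _ _ _ _ := trivial
  s _ _ _ _ := trivial

section NatIndexed

variable (A : SGrp.{u})

/-- `ℕ`-indexed face maps (trivial outside the range). -/
def D (n j : ℕ) : A.G (n+1) →* A.G n := if h : j < n+2 then A.d n ⟨j, h⟩ else 1

/-- `ℕ`-indexed degeneracy maps (trivial outside the range). -/
def S (n j : ℕ) : A.G n →* A.G (n+1) := if h : j < n+1 then A.s n ⟨j, h⟩ else 1

lemma D_eq (n j : ℕ) (h : j < n+2) : D A n j = A.d n ⟨j, h⟩ := dif_pos h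

lemma S_eq (n j : ℕ) (h : j < n+1) : S A n j = A.s n ⟨j, h⟩ := dif_pos h

lemma DD {n i j : ℕ} (hij : i ≤ j) (hj : j < n+2) (x : A.G (n+1+1)) :
    D A n i (D A (n+1) (j+1) x) = D A n j (D A (n+1) i x) := by
  rw [D_eq A (n+1) (j+1) (by omega), D_eq A n i (by omega), D_eq A n j hj,
    D_eq A (n+1) i (by omega)]
  exact A.dd n ⟨i, by omega⟩ ⟨j, hj⟩ x (Fin.mk_le_mk.2 hij)

lemma DS_le {n i j : ℕ} (hij : i ≤ j) (hj : j < n+1) (x : A.G (n+1)) :
    D A (n+1) i (S A (n+1) (j+1) x) = S A n j (D A n i x) := by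
  rw [S_eq A (n+1) (j+1) (by omega), D_eq A (n+1) i (by omega), S_eq A n j hj,
    D_eq A n i (by omega)]
  exact A.ds_le n ⟨i, by omega⟩ ⟨j, hj⟩ x (Fin.mk_le_mk.2 hij)

lemma DS_self {n i : ℕ} (hi : i < n+1) (x : A.G n) : D A n i (S A n i x) = x := by
  rw [S_eq A n i hi, D_eq A n i (by omega)]
  exact A.ds_self n ⟨i, hi⟩ x

lemma DS_succ {n i : ℕ} (hi : i < n+1) (x : A.G n) : D A n (i+1) (S A n i x) = x := by
  rw [S_eq A n i hi, D_eq A n (i+1) (by omega)]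
  exact A.ds_succ n ⟨i, hi⟩ x

lemma DS_gt {n i j : ℕ} (hji : j < i) (hi : i < n+2) (x : A.G (n+1)) :
    D A (n+1) (i+1) (S A (n+1) j x) = S A n j (D A n i x) := by
  rw [S_eq A (n+1) j (by omega), D_eq A (n+1) (i+1) (by omega), S_eq A n j (by omega),
    D_eq A n i hi]
  exact A.ds_gt n ⟨i, hi⟩ ⟨j, by omega⟩ x (Fin.mk_lt_mk.2 hji)

variable {A}

lemma P_D (Q : SPred A) (n j : ℕ) (x : A.G (n+1)) (hx : Q.P (n+1) x) :
    Q.P n (D A n j x) := by
  unfold D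
  split_ifs with h
  · exact Q.d n _ x hx
  · exact Q.one n

lemma P_S (Q : SPred A) (n j : ℕ) (x : A.G n) (hx : Q.P n x) :
    Q.P (n+1) (S A n j x) := by
  unfold S
  split_ifs with h
  · exact Q.s n _ x hx
  · exact Q.one (n+1)

lemma phase1 (Q : SPred A) (m k : ℕ) (hk : k < m+3) (X : ℕ → A.G (m+1))
    (hX : ∀ j, j < m+3 → j ≠ k → Q.P (m+1) (X j))
    (compat : ∀ i l, i ≤ l → l + 1 < m+3 → i ≠ k → l+1 ≠ k →
      D A m i (X (l+1)) = D A m l (X i)) :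
    ∀ r, r ≤ k → ∃ u : A.G (m+1+1), Q.P (m+1+1) u ∧ ∀ j, j < r → D A (m+1) j u = X j := by
  intro r
  induction r with
  | zero =>
    intro _
    exact ⟨1, Q.one _, fun j hj => absurd hj (Nat.not_lt_zero j)⟩
  | succ r ih =>
    intro hr
    obtain ⟨u, hPu, hu⟩ := ih (by omega)
    obtain ⟨w, hw⟩ : ∃ w : A.G (m+1), w = (D A (m+1) r u)⁻¹ * X r := ⟨_, rfl⟩
    have hPw : Q.P (m+1) w := by
      rw [hw]
      exact Q.mul _ _ _ (Q.inv _ _ (P_D Q _ _ _ hPu)) (hX r (by omega) (by omega))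
    refine ⟨u * S A (m+1) r w, Q.mul _ _ _ hPu (P_S Q _ _ _ hPw), ?_⟩
    intro j hj
    rw [map_mul]
    obtain hj' | hj' := Nat.lt_succ_iff_lt_or_eq.1 hj
    · obtain ⟨r', rfl⟩ : ∃ r', r = r'+1 := ⟨r-1, by omega⟩
      have h1 : D A (m+1) j (S A (m+1) (r'+1) w) = S A m r' (D A m j w) :=
        DS_le A (by omega) (by omega) w
      have h2 : D A m j w = 1 := by
        rw [hw, map_mul, map_inv, DD A (show j ≤ r' by omega) (by omega) u, hu j hj',
          compat j r' (by omega) (by omega) (by omega) (by omega)]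
        exact inv_mul_cancel _
      rw [h1, h2, map_one, mul_one, hu j hj']
    · rw [hj', DS_self A (i := r) (by omega) w, hw, mul_inv_cancel_left]

lemma phase2 (Q : SPred A) (m k : ℕ) (hk : k < m+3) (X : ℕ → A.G (m+1))
    (hX : ∀ j, j < m+3 → j ≠ k → Q.P (m+1) (X j))
    (compat : ∀ i l, i ≤ l → l + 1 < m+3 → i ≠ k → l+1 ≠ k →
      D A m i (X (l+1)) = D A m l (X i)) :
    ∀ t, t ≤ m+2-k → ∃ v : A.G (m+1+1), Q.P (m+1+1) v ∧
      (∀ j, j < k → D A (m+1) j v = X j) ∧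
      (∀ j, m+3-t ≤ j → j < m+3 → D A (m+1) j v = X j) := by
  intro t
  induction t with
  | zero =>
    intro _
    obtain ⟨u, hPu, hu⟩ := phase1 Q m k hk X hX compat k le_rfl
    exact ⟨u, hPu, hu, fun j h1 h2 => absurd h2 (by omega)⟩
  | succ t ih =>
    intro ht
    obtain ⟨v, hPv, hv1, hv2⟩ := ih (by omega)
    obtain ⟨r', hr'⟩ : ∃ r', r' + t = m+1 := ⟨m+1-t, by omega⟩
    obtain ⟨w, hw⟩ : ∃ w : A.G (m+1), w = (D A (m+1) (r'+1) v)⁻¹ * X (r'+1) := ⟨_, rfl⟩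
    have hPw : Q.P (m+1) w := by
      rw [hw]
      exact Q.mul _ _ _ (Q.inv _ _ (P_D Q _ _ _ hPv)) (hX (r'+1) (by omega) (by omega))
    refine ⟨v * S A (m+1) r' w, Q.mul _ _ _ hPv (P_S Q _ _ _ hPw), ?_, ?_⟩
    · intro j hj
      rw [map_mul]
      obtain ⟨r'', rfl⟩ : ∃ r'', r' = r''+1 := ⟨r'-1, by omega⟩
      have h1 : D A (m+1) j (S A (m+1) (r''+1) w) = S A m r'' (D A m j w) :=
        DS_le A (by omega) (by omega) w
      have h2 : D A m j w = 1 := by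
        rw [hw, map_mul, map_inv, DD A (show j ≤ r''+1 by omega) (by omega) v, hv1 j hj,
          compat j (r''+1) (by omega) (by omega) (by omega) (by omega)]
        exact inv_mul_cancel _
      rw [h1, h2, map_one, mul_one, hv1 j hj]
    · intro j hj1 hj2
      rw [map_mul]
      by_cases hjr : j = r'+1
      · rw [hjr, DS_succ A (i := r') (by omega) w, hw, mul_inv_cancel_left]
      · obtain ⟨j', rfl⟩ : ∃ j', j = j'+1 := ⟨j-1, by omega⟩
        have h1 : D A (m+1) (j'+1) (S A (m+1) r' w) = S A m r' (D A m j' w) :=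
          DS_gt A (by omega) (by omega) w
        have h2 : D A m j' w = 1 := by
          rw [hw, map_mul, map_inv, ← DD A (show r'+1 ≤ j' by omega) (by omega) v,
            hv2 (j'+1) (by omega) hj2,
            compat (r'+1) j' (by omega) (by omega) (by omega) (by omega)]
          exact inv_mul_cancel _
        rw [h1, h2, map_one, mul_one, hv2 (j'+1) (by omega) hj2]

lemma core (Q : SPred A) (m k : ℕ) (hk : k < m+3) (X : ℕ → A.G (m+1))
    (hX : ∀ j, j < m+3 → j ≠ k → Q.P (m+1) (X j))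
    (compat : ∀ i l, i ≤ l → l + 1 < m+3 → i ≠ k → l+1 ≠ k →
      D A m i (X (l+1)) = D A m l (X i)) :
    ∃ y : A.G (m+1+1), Q.P (m+1+1) y ∧ ∀ j, j < m+3 → j ≠ k → D A (m+1) j y = X j := by
  obtain ⟨v, hPv, hv1, hv2⟩ := phase2 Q m k hk X hX compat (m+2-k) le_rfl
  refine ⟨v, hPv, fun j hj hjk => ?_⟩
  rcases Nat.lt_or_gt_of_ne hjk with h | h
  · exact hv1 j h
  · exact hv2 j (by omega) hj

lemma core_rel (Q : SPred A) (m k : ℕ) (hk : k < m+3) (x' : A.G (m+1+1)) (X : ℕ → A.G (m+1))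
    (hX : ∀ j, j < m+3 → j ≠ k → Q.P (m+1) ((D A (m+1) j x')⁻¹ * X j))
    (compat : ∀ i l, i ≤ l → l + 1 < m+3 → i ≠ k → l+1 ≠ k →
      D A m i (X (l+1)) = D A m l (X i)) :
    ∃ y : A.G (m+1+1), Q.P (m+1+1) (x'⁻¹ * y) ∧
      ∀ j, j < m+3 → j ≠ k → D A (m+1) j y = X j := by
  have hc : ∀ i l, i ≤ l → l + 1 < m+3 → i ≠ k → l+1 ≠ k →
      D A m i ((D A (m+1) (l+1) x')⁻¹ * X (l+1)) = D A m l ((D A (m+1) i x')⁻¹ * X i) := by
    intro i l hil hl hik hlk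
    rw [map_mul, map_inv, map_mul, map_inv, DD A hil (by omega) x', compat i l hil hl hik hlk]
  obtain ⟨z, hPz, hz⟩ := core Q m k hk (fun j => (D A (m+1) j x')⁻¹ * X j) hX hc
  refine ⟨x' * z, ?_, fun j hj hjk => ?_⟩
  · rw [inv_mul_cancel_left]; exact hPz
  · have h3 : D A (m+1) j z = (D A (m+1) j x')⁻¹ * X j := hz j hj hjk
    rw [map_mul, h3, mul_inv_cancel_left]

end NatIndexed

/-- Extension of a family indexed by `j ≠ k` to all of `ℕ`. -/
def Xn {A : SGrp.{u}} {n N : ℕ} (k : Fin N) (x : ∀ j : Fin N, j ≠ k → A.G n) (j : ℕ) : A.G n :=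
  if h : j < N ∧ j ≠ k.val then x ⟨j, h.1⟩ (fun e => h.2 (congrArg Fin.val e)) else 1

lemma Xn_eq {A : SGrp.{u}} {n N : ℕ} (k : Fin N) (x : ∀ j : Fin N, j ≠ k → A.G n)
    (j : Fin N) (hj : j ≠ k) : Xn k x j.val = x j hj := by
  unfold Xn
  rw [dif_pos ⟨j.2, fun e => hj (Fin.ext e)⟩]

/-- Moore's horn filling in a simplicial group, relative to a simplicial subgroup:
dimension `≥ 2`. -/
theorem fillerS_rel {A : SGrp.{u}} (Q : SPred A) (m : ℕ) (k : Fin (m+3))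
    (x : ∀ j : Fin (m+3), j ≠ k → A.G (m+1)) (x' : A.G (m+1+1))
    (hx : ∀ j hj, Q.P (m+1) ((A.d (m+1) j x')⁻¹ * x j hj))
    (compat : ∀ (j l : Fin (m+3)) (hj : j ≠ k) (hl : l ≠ k) (hjl : j < l),
      A.d m (l.pred (Fin.ne_zero_of_lt hjl)) (x j hj) =
        A.d m (j.castPred (Fin.ne_last_of_lt hjl)) (x l hl)) :
    ∃ y : A.G (m+1+1), Q.P (m+1+1) (x'⁻¹ * y) ∧
      ∀ (j : Fin (m+3)) (hj : j ≠ k), A.d (m+1) j y = x j hj := by
  have h1 : ∀ j, j < m+3 → j ≠ k.val → Q.P (m+1) ((D A (m+1) j x')⁻¹ * Xn k x j) := by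
    intro j hj hjk
    have hjk' : (⟨j, hj⟩ : Fin (m+3)) ≠ k := fun e => hjk (congrArg Fin.val e)
    have e1 : Xn k x j = x ⟨j, hj⟩ hjk' := Xn_eq k x ⟨j, hj⟩ hjk'
    rw [e1, D_eq A (m+1) j hj]
    exact hx ⟨j, hj⟩ hjk'
  have h2 : ∀ i l, i ≤ l → l + 1 < m+3 → i ≠ k.val → l+1 ≠ k.val →
      D A m i (Xn k x (l+1)) = D A m l (Xn k x i) := by
    intro i l hil hl hik hlk
    have hi : i < m+3 := by omega
    have hik' : (⟨i, hi⟩ : Fin (m+3)) ≠ k := fun e => hik (congrArg Fin.val e)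
    have hlk' : (⟨l+1, hl⟩ : Fin (m+3)) ≠ k := fun e => hlk (congrArg Fin.val e)
    have e1 : Xn k x i = x ⟨i, hi⟩ hik' := Xn_eq k x ⟨i, hi⟩ hik'
    have e2 : Xn k x (l+1) = x ⟨l+1, hl⟩ hlk' := Xn_eq k x ⟨l+1, hl⟩ hlk'
    rw [e1, e2, D_eq A m i (by omega), D_eq A m l (by omega)]
    exact (compat ⟨i, hi⟩ ⟨l+1, hl⟩ hik' hlk' (Fin.mk_lt_mk.2 (by omega))).symm
  obtain ⟨y, hPy, hy⟩ := core_rel Q m k.val k.2 x' (Xn k x) h1 h2
  refine ⟨y, hPy, fun j hj => ?_⟩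
  have h := hy j.val j.2 (fun e => hj (Fin.ext e))
  rw [D_eq A (m+1) j.val j.2, Xn_eq k x j hj] at h
  exact h

lemma fin2_rev_ne : ∀ k : Fin 2, k.rev ≠ k := by decide

lemma fin2_cases : ∀ (k j : Fin 2), j ≠ k → j = k.rev := by decide

lemma d0s0 (A : SGrp.{u}) (j : Fin (0+2)) (z : A.G 0) : A.d 0 j (A.s 0 0 z) = z := by
  have h : j = Fin.castSucc (0 : Fin 1) ∨ j = Fin.succ (0 : Fin 1) := by
    revert j; decide
  rcases h with rfl | rfl
  · exact A.ds_self 0 0 z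
  · exact A.ds_succ 0 0 z

/-- Moore's horn filling, relative version, dimension `1`. -/
theorem filler0_rel {A : SGrp.{u}} (Q : SPred A) (k : Fin (0+2))
    (x : ∀ j : Fin (0+2), j ≠ k → A.G 0) (x' : A.G (0+1))
    (hx : ∀ j hj, Q.P 0 ((A.d 0 j x')⁻¹ * x j hj)) :
    ∃ y : A.G (0+1), Q.P (0+1) (x'⁻¹ * y) ∧
      ∀ (j : Fin (0+2)) (hj : j ≠ k), A.d 0 j y = x j hj := by
  refine ⟨x' * A.s 0 0 ((A.d 0 k.rev x')⁻¹ * x k.rev (fin2_rev_ne k)), ?_, fun j hj => ?_⟩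
  · rw [inv_mul_cancel_left]; exact Q.s 0 0 _ (hx _ _)
  · obtain rfl := fin2_cases k j hj
    rw [map_mul, d0s0, mul_inv_cancel_left]

/-! ### Simplicial groups -/

/-- The bare-hands simplicial group of a simplicial object of `GrpCat`. -/
def ofGrp (X : SimplicialObject GrpCat.{u}) : SGrp.{u} where
  G n := X.obj (op ⦋n⦌)
  grp n := inferInstance
  d n j := (X.δ j).hom
  s n j := (X.σ j).hom
  dd n i j x h :=
    congrArg (fun φ : X.obj (op ⦋n+1+1⦌) ⟶ X.obj (op ⦋n⦌) => φ.hom x) (X.δ_comp_δ h)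
  ds_le n i j x h :=
    congrArg (fun φ : X.obj (op ⦋n+1⦌) ⟶ X.obj (op ⦋n+1⦌) => φ.hom x) (X.δ_comp_σ_of_le h)
  ds_self n i x :=
    congrArg (fun φ : X.obj (op ⦋n⦌) ⟶ X.obj (op ⦋n⦌) => φ.hom x) (X.δ_comp_σ_self (i := i))
  ds_succ n i x :=
    congrArg (fun φ : X.obj (op ⦋n⦌) ⟶ X.obj (op ⦋n⦌) => φ.hom x) (X.δ_comp_σ_succ (i := i))
  ds_gt n i j x h :=
    congrArg (fun φ : X.obj (op ⦋n+1⦌) ⟶ X.obj (op ⦋n+1⦌) => φ.hom x) (X.δ_comp_σ_of_gt h)

lemma key_grp (X : SimplicialObject GrpCat.{u}) {m : ℕ} (a : Fin (m+2))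
    (g : Δ[m+1] ⟶ (X ⋙ forget GrpCat.{u})) :
    SSet.yonedaEquiv (SSet.stdSimplex.δ a ≫ g) = (X.δ a).hom (SSet.yonedaEquiv g) :=
  (SSet.yonedaEquiv_naturality (SimplexCategory.δ a) g).symm

theorem main6779 (X : SimplicialObject GrpCat.{u}) :
    SSet.KanComplex (X ⋙ forget GrpCat.{u}) := by
  rw [SSet.KanComplex.iff]
  intro n i f hf
  obtain _ | m := n
  · obtain ⟨y, -, hy⟩ := filler0_rel (trivPred (ofGrp X)) i
      (fun j hj => (SSet.yonedaEquiv (f j hj) : (ofGrp X).G 0)) 1 (fun _ _ => trivial)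
    refine ⟨(SSet.yonedaEquiv (X := X ⋙ forget GrpCat.{u}) (n := ⦋0+1⦌)).symm y,
      fun j hj => ?_⟩
    apply SSet.yonedaEquiv.injective
    rw [key_grp, Equiv.apply_symm_apply]
    exact hy j hj
  · have hc : ∀ (j l : Fin (m+1+2)) (hj : j ≠ i) (hl : l ≠ i) (hjl : j < l),
        (ofGrp X).d m (l.pred (Fin.ne_zero_of_lt hjl)) (SSet.yonedaEquiv (f j hj)) =
          (ofGrp X).d m (j.castPred (Fin.ne_last_of_lt hjl)) (SSet.yonedaEquiv (f l hl)) := by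
      intro j l hj hl hjl
      have h := congrArg SSet.yonedaEquiv ((SSet.horn.isCompatible_iff f).1 hf j l hj hl hjl)
      rw [key_grp, key_grp] at h
      exact h
    obtain ⟨y, -, hy⟩ := fillerS_rel (trivPred (ofGrp X)) m i
      (fun j hj => (SSet.yonedaEquiv (f j hj) : (ofGrp X).G (m+1))) 1 (fun _ _ => trivial) hc
    refine ⟨(SSet.yonedaEquiv (X := X ⋙ forget GrpCat.{u}) (n := ⦋m+1+1⦌)).symm y,
      fun j hj => ?_⟩
    apply SSet.yonedaEquiv.injective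
    rw [key_grp, Equiv.apply_symm_apply]
    exact hy j hj

/-! ### Simplicial abelian groups -/

/-- The bare-hands simplicial group of a simplicial abelian group. -/
def ofAddGrp (X : SimplicialObject AddCommGrpCat.{u}) : SGrp.{u} where
  G n := Multiplicative (X.obj (op ⦋n⦌))
  grp n := inferInstance
  d n j := AddMonoidHom.toMultiplicative (X.δ j).hom
  s n j := AddMonoidHom.toMultiplicative (X.σ j).hom
  dd n i j x h :=
    congrArg (fun φ : X.obj (op ⦋n+1+1⦌) ⟶ X.obj (op ⦋n⦌) =>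
      Multiplicative.ofAdd (φ.hom (Multiplicative.toAdd x))) (X.δ_comp_δ h)
  ds_le n i j x h :=
    congrArg (fun φ : X.obj (op ⦋n+1⦌) ⟶ X.obj (op ⦋n+1⦌) =>
      Multiplicative.ofAdd (φ.hom (Multiplicative.toAdd x))) (X.δ_comp_σ_of_le h)
  ds_self n i x :=
    congrArg (fun φ : X.obj (op ⦋n⦌) ⟶ X.obj (op ⦋n⦌) =>
      Multiplicative.ofAdd (φ.hom (Multiplicative.toAdd x))) (X.δ_comp_σ_self (i := i))
  ds_succ n i x :=
    congrArg (fun φ : X.obj (op ⦋n⦌) ⟶ X.obj (op ⦋n⦌) =>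
      Multiplicative.ofAdd (φ.hom (Multiplicative.toAdd x))) (X.δ_comp_σ_succ (i := i))
  ds_gt n i j x h :=
    congrArg (fun φ : X.obj (op ⦋n+1⦌) ⟶ X.obj (op ⦋n+1⦌) =>
      Multiplicative.ofAdd (φ.hom (Multiplicative.toAdd x))) (X.δ_comp_σ_of_gt h)

/-- An element of `X_n` as an element of the (multiplicative) bare-hands simplicial group. -/
def toG (X : SimplicialObject AddCommGrpCat.{u}) (n : ℕ) (a : X.obj (op ⦋n⦌)) :
    (ofAddGrp X).G n := Multiplicative.ofAdd (α := X.obj (op ⦋n⦌)) a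

/-- The inverse of `toG`. -/
def ofG (X : SimplicialObject AddCommGrpCat.{u}) (n : ℕ) (z : (ofAddGrp X).G n) :
    X.obj (op ⦋n⦌) := Multiplicative.toAdd (α := X.obj (op ⦋n⦌)) z

lemma nat_d {X Y : SimplicialObject AddCommGrpCat.{u}} (f : X ⟶ Y) {n : ℕ} (j : Fin (n+2))
    (x : X.obj (op ⦋n+1⦌)) :
    (f.app (op ⦋n⦌)).hom ((X.δ j).hom x) = (Y.δ j).hom ((f.app (op ⦋n+1⦌)).hom x) :=
  congrArg (fun φ : X.obj (op ⦋n+1⦌) ⟶ Y.obj (op ⦋n⦌) => φ.hom x)
    (f.naturality (SimplexCategory.δ j).op)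

lemma nat_s {X Y : SimplicialObject AddCommGrpCat.{u}} (f : X ⟶ Y) {n : ℕ} (j : Fin (n+1))
    (x : X.obj (op ⦋n⦌)) :
    (f.app (op ⦋n+1⦌)).hom ((X.σ j).hom x) = (Y.σ j).hom ((f.app (op ⦋n⦌)).hom x) :=
  congrArg (fun φ : X.obj (op ⦋n⦌) ⟶ Y.obj (op ⦋n+1⦌) => φ.hom x)
    (f.naturality (SimplexCategory.σ j).op)

/-- The kernel of a morphism of simplicial abelian groups, as a simplicial subgroup. -/
def kerPred {X Y : SimplicialObject AddCommGrpCat.{u}} (f : X ⟶ Y) : SPred (ofAddGrp X) where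
  P n z := (f.app (op ⦋n⦌)).hom (Multiplicative.toAdd z) = 0
  one n := map_zero _
  mul n x y hx hy := by
    have hx' : (f.app (op ⦋n⦌)).hom (Multiplicative.toAdd x) = 0 := hx
    have hy' : (f.app (op ⦋n⦌)).hom (Multiplicative.toAdd y) = 0 := hy
    show (f.app (op ⦋n⦌)).hom (Multiplicative.toAdd (α := X.obj (op ⦋n⦌)) x + Multiplicative.toAdd (α := X.obj (op ⦋n⦌)) y) = 0
    rw [map_add, hx', hy', add_zero]
  inv n x hx := by
    have hx' : (f.app (op ⦋n⦌)).hom (Multiplicative.toAdd x) = 0 := hx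
    show (f.app (op ⦋n⦌)).hom (-Multiplicative.toAdd (α := X.obj (op ⦋n⦌)) x) = 0
    rw [map_neg, hx', neg_zero]
  d n j x hx := by
    have hx' : (f.app (op ⦋n+1⦌)).hom (Multiplicative.toAdd x) = 0 := hx
    show (f.app (op ⦋n⦌)).hom ((X.δ j).hom (Multiplicative.toAdd x)) = 0
    rw [nat_d f j, hx', map_zero]
  s n j x hx := by
    have hx' : (f.app (op ⦋n⦌)).hom (Multiplicative.toAdd x) = 0 := hx
    show (f.app (op ⦋n+1⦌)).hom ((X.σ j).hom (Multiplicative.toAdd x)) = 0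
    rw [nat_s f j, hx', map_zero]

lemma ker_iff {X Y : SimplicialObject AddCommGrpCat.{u}} (f : X ⟶ Y) (n : ℕ)
    (a b : X.obj (op ⦋n⦌)) :
    (kerPred f).P n ((toG X n a)⁻¹ * toG X n b) ↔
      (f.app (op ⦋n⦌)).hom a = (f.app (op ⦋n⦌)).hom b := by
  show (f.app (op ⦋n⦌)).hom (-a + b) = 0 ↔ _
  rw [map_add, map_neg, neg_add_eq_zero]

lemma key_add (X : SimplicialObject AddCommGrpCat.{u}) {m : ℕ} (a : Fin (m+2))
    (g : Δ[m+1] ⟶ (X ⋙ forget AddCommGrpCat.{u})) :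
    SSet.yonedaEquiv (SSet.stdSimplex.δ a ≫ g) = (X.δ a).hom (SSet.yonedaEquiv g) :=
  (SSet.yonedaEquiv_naturality (SimplexCategory.δ a) g).symm

lemma yoneda_whisker {X Y : SimplicialObject AddCommGrpCat.{u}} (f : X ⟶ Y) {n : ℕ}
    (h : Δ[n] ⟶ (X ⋙ forget AddCommGrpCat.{u})) :
    SSet.yonedaEquiv (h ≫ Functor.whiskerRight f (forget AddCommGrpCat.{u})) =
      (f.app (op ⦋n⦌)).hom (SSet.yonedaEquiv h) := rfl

theorem main6780 {X₀ Y₀ : SimplicialObject AddCommGrpCat.{u}} (f : X₀ ⟶ Y₀)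
    (hf : ∀ n : SimplexCategoryᵒᵖ, Function.Surjective (f.app n)) :
    SSet.modelCategoryQuillen.J.rlp (X := X₀ ⋙ forget AddCommGrpCat.{u})
      (Y := Y₀ ⋙ forget AddCommGrpCat.{u})
      (Functor.whiskerRight f (forget AddCommGrpCat.{u})) := by
  intro A B ι hι
  simp only [SSet.modelCategoryQuillen.J, MorphismProperty.iSup_iff] at hι
  obtain ⟨n, ⟨i⟩⟩ := hι
  refine ⟨fun {t b} sq => ?_⟩
  obtain ⟨x', hx'⟩ := hf (op ⦋n+1⦌) (SSet.yonedaEquiv b)
  have hx'' : (f.app (op ⦋n+1⦌)).hom x' = SSet.yonedaEquiv b := hx'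
  have F1 : ∀ (j : Fin (n+2)) (hj : j ≠ i),
      (f.app (op ⦋n⦌)).hom (SSet.yonedaEquiv (SSet.horn.ι i j hj ≫ t)) =
        (f.app (op ⦋n⦌)).hom ((X₀.δ j).hom x') := by
    intro j hj
    have e : (SSet.horn.ι i j hj ≫ t) ≫ Functor.whiskerRight f (forget AddCommGrpCat.{u}) =
        SSet.stdSimplex.δ j ≫ b := by
      rw [Category.assoc, sq.w, SSet.horn.ι_ι_assoc]
    have h := congrArg SSet.yonedaEquiv e
    rw [yoneda_whisker, key_add Y₀ j b, ← hx'', ← nat_d f j x'] at h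
    exact h
  have main : ∃ y : (ofAddGrp X₀).G (n+1),
      (kerPred f).P (n+1) ((toG X₀ (n+1) x')⁻¹ * y) ∧
      ∀ (j : Fin (n+2)) (hj : j ≠ i), (ofAddGrp X₀).d n j y =
        toG X₀ n (SSet.yonedaEquiv (SSet.horn.ι i j hj ≫ t)) := by
    have hx : ∀ (j : Fin (n+2)) (hj : j ≠ i), (kerPred f).P n
        (((ofAddGrp X₀).d n j (toG X₀ (n+1) x'))⁻¹ *
          toG X₀ n (SSet.yonedaEquiv (SSet.horn.ι i j hj ≫ t))) :=
      fun j hj => (ker_iff f n ((X₀.δ j).hom x') _).2 (F1 j hj).symm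
    obtain _ | m := n
    · exact filler0_rel (kerPred f) i _ _ hx
    · refine fillerS_rel (kerPred f) m i _ _ hx ?_
      intro j l hj hl hjl
      have h := congrArg SSet.yonedaEquiv
        ((SSet.horn.isCompatible_iff _).1 (SSet.horn.IsCompatible.of_hom t) j l hj hl hjl)
      rw [key_add, key_add] at h
      exact congrArg (toG X₀ m) h
  obtain ⟨y, hPy, hy⟩ := main
  have hfy : (f.app (op ⦋n+1⦌)).hom x' = (f.app (op ⦋n+1⦌)).hom (ofG X₀ (n+1) y) :=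
    (ker_iff f (n+1) x' (ofG X₀ (n+1) y)).1 hPy
  refine ⟨⟨{ l := (SSet.yonedaEquiv (X := X₀ ⋙ forget AddCommGrpCat.{u}) (n := ⦋n+1⦌)).symm
              (ofG X₀ (n+1) y)
             fac_left := ?_
             fac_right := ?_ }⟩⟩
  · apply SSet.horn.hom_ext'
    intro j hj
    rw [SSet.horn.ι_ι_assoc]
    apply SSet.yonedaEquiv.injective
    rw [key_add, Equiv.apply_symm_apply]
    exact hy j hj
  · apply SSet.yonedaEquiv.injective
    rw [yoneda_whisker, Equiv.apply_symm_apply, ← hfy, hx'']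

end Groth.Agent.Lib.SimpGrpKanH4
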