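import Mathlib
import Groth.Agent.Lib.SimpGrpKan_helper4
set_option autoImplicit false
set_option linter.style.haveILetI false
set_option linter.unusedSectionVars false

universe u

namespace Groth.Agent.Lib.SimpAbTrivH4

open CategoryTheory Simplicial Opposite AlgebraicTopology AlgebraicTopology.DoldKan
open Groth.Agent.Lib.SimpGrpKanH4

/-! ### Sums of morphisms of abelian groups, elementwise -/

lemma hom_sum_apply {M N : AddCommGrpCat.{u}} {ι : Type*} (s : Finset ι) (φ : ι → (M ⟶ N))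
    (x : M) : (∑ i ∈ s, φ i).hom x = ∑ i ∈ s, (φ i).hom x := by
  classical
  induction s using Finset.induction_on with
  | empty => rw [Finset.sum_empty, Finset.sum_empty]; rfl
  | insert a s ha ih => rw [Finset.sum_insert ha, Finset.sum_insert ha, ← ih]; rfl

lemma objD_apply (X : SimplicialObject AddCommGrpCat.{u}) (n : ℕ) (x : X.obj (op ⦋n+1⦌)) :
    (AlternatingFaceMapComplex.objD X n).hom x =
      ∑ i : Fin (n+2), (-1 : ℤ) ^ (i : ℕ) • (X.δ i).hom x := by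
  unfold AlternatingFaceMapComplex.objD
  rw [hom_sum_apply]
  exact Finset.sum_congr rfl (fun i _ => rfl)

lemma objD_eq_zero (X : SimplicialObject AddCommGrpCat.{u}) (n : ℕ) (x : X.obj (op ⦋n+1⦌))
    (h : ∀ i : Fin (n+2), (X.δ i).hom x = 0) :
    (AlternatingFaceMapComplex.objD X n).hom x = 0 := by
  rw [objD_apply]
  exact Finset.sum_eq_zero (fun i _ => by rw [h i, smul_zero])

lemma objD_eq_δ0 (X : SimplicialObject AddCommGrpCat.{u}) (n : ℕ) (x : X.obj (op ⦋n+1⦌))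
    (h : ∀ j : Fin (n+1), (X.δ j.succ).hom x = 0) :
    (AlternatingFaceMapComplex.objD X n).hom x = (X.δ 0).hom x := by
  have hz : ∑ j : Fin (n+1), (-1 : ℤ) ^ ((j.succ : Fin (n+2)) : ℕ) • (X.δ j.succ).hom x = 0 :=
    Finset.sum_eq_zero (fun j _ => by rw [h j, smul_zero])
  rw [objD_apply, Fin.sum_univ_succ, hz, add_zero, Fin.val_zero, pow_zero, one_smul]

lemma objD_nat {A B : SimplicialObject AddCommGrpCat.{u}} (g : A ⟶ B) (n : ℕ)
    (x : A.obj (op ⦋n+1⦌)) :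
    (g.app (op ⦋n⦌)).hom ((AlternatingFaceMapComplex.objD A n).hom x) =
      (AlternatingFaceMapComplex.objD B n).hom ((g.app (op ⦋n+1⦌)).hom x) := by
  have h := ((alternatingFaceMapComplex AddCommGrpCat.{u}).map g).comm (n+1) n
  rw [alternatingFaceMapComplex_obj_d, alternatingFaceMapComplex_obj_d] at h
  exact (congrArg (fun φ : A.obj (op ⦋n+1⦌) ⟶ B.obj (op ⦋n⦌) => φ.hom x) h).symm

/-! ### PInfty elementwise -/

lemma PInfty_vanish (X : SimplicialObject AddCommGrpCat.{u}) (m : ℕ) (j : Fin (m+1))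
    (x : X.obj (op ⦋m+1⦌)) :
    (X.δ j.succ).hom ((PInfty.f (m+1) : X _⦋m+1⦌ ⟶ X _⦋m+1⦌).hom x) = 0 := by
  have h : (PInfty.f (m+1) : X _⦋m+1⦌ ⟶ X _⦋m+1⦌) ≫ X.δ j.succ = 0 := by
    rw [PInfty_f]
    exact HigherFacesVanish.of_P (m+1) m j (by omega)
  exact congrArg (fun φ : X.obj (op ⦋m+1⦌) ⟶ X.obj (op ⦋m⦌) => φ.hom x) h

lemma PInfty_fix (X : SimplicialObject AddCommGrpCat.{u}) (k : ℕ) (e : X.obj (op ⦋k+1⦌))
    (he : ∀ j : Fin (k+1), (X.δ j.succ).hom e = 0) :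
    (PInfty.f (k+1) : X _⦋k+1⦌ ⟶ X _⦋k+1⦌).hom e = e := by
  let N : AddSubgroup (X.obj (op ⦋k+1⦌)) := ⨅ j : Fin (k+1), (X.δ j.succ).hom.ker
  have heN : e ∈ N := AddSubgroup.mem_iInf.2 (fun j => AddMonoidHom.mem_ker.2 (he j))
  let φ : AddCommGrpCat.of N ⟶ X _⦋k+1⦌ := AddCommGrpCat.ofHom N.subtype
  have hv : HigherFacesVanish (k+1) φ := by
    intro j _
    ext y
    exact AddMonoidHom.mem_ker.1 (AddSubgroup.mem_iInf.1 y.2 j)
  have h := hv.comp_P_eq_self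
  rw [← PInfty_f] at h
  exact congrArg (fun ψ : AddCommGrpCat.of N ⟶ X.obj (op ⦋k+1⦌) => ψ.hom ⟨e, heN⟩) h

lemma PInfty_nat {X Y : SimplicialObject AddCommGrpCat.{u}} (f : X ⟶ Y) (n : ℕ)
    (x : X.obj (op ⦋n⦌)) :
    (f.app (op ⦋n⦌)).hom ((PInfty.f n : X _⦋n⦌ ⟶ X _⦋n⦌).hom x) =
      (PInfty.f n : Y _⦋n⦌ ⟶ Y _⦋n⦌).hom ((f.app (op ⦋n⦌)).hom x) :=
  (congrArg (fun φ : X.obj (op ⦋n⦌) ⟶ Y.obj (op ⦋n⦌) => φ.hom x) (PInfty_f_naturality n f)).symm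

lemma PInfty_d (X : SimplicialObject AddCommGrpCat.{u}) (m : ℕ) (x : X.obj (op ⦋m+1⦌)) :
    (AlternatingFaceMapComplex.objD X m).hom ((PInfty.f (m+1) : X _⦋m+1⦌ ⟶ X _⦋m+1⦌).hom x) =
      (PInfty.f m : X _⦋m⦌ ⟶ X _⦋m⦌).hom ((AlternatingFaceMapComplex.objD X m).hom x) := by
  have hd : (AlternatingFaceMapComplex.obj X).d (m+1) m = AlternatingFaceMapComplex.objD X m :=
    alternatingFaceMapComplex_obj_d X m
  have hc := (PInfty : AlternatingFaceMapComplex.obj X ⟶ AlternatingFaceMapComplex.obj X).comm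
    (m+1) m
  rw [hd] at hc
  exact congrArg (fun φ : X.obj (op ⦋m+1⦌) ⟶ X.obj (op ⦋m⦌) => φ.hom x) hc

/-! ### The kernel simplicial abelian group -/

section Ker

variable {X Y : SimplicialObject AddCommGrpCat.{u}} (f : X ⟶ Y)

lemma map_mem_ker {m n : SimplexCategoryᵒᵖ} (θ : m ⟶ n) (x : X.obj m)
    (hx : (f.app m).hom x = 0) : (f.app n).hom ((X.map θ).hom x) = 0 := by
  have h : (f.app n).hom ((X.map θ).hom x) = (Y.map θ).hom ((f.app m).hom x) :=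
    congrArg (fun φ : X.obj m ⟶ Y.obj n => φ.hom x) (f.naturality θ)
  rw [h, hx, map_zero]

noncomputable def Kf : SimplicialObject AddCommGrpCat.{u} where
  obj n := AddCommGrpCat.of (f.app n).hom.ker
  map {m n} θ := AddCommGrpCat.ofHom
    (((X.map θ).hom.comp (f.app m).hom.ker.subtype).codRestrict (f.app n).hom.ker
      (fun x => AddMonoidHom.mem_ker.2 (map_mem_ker f θ x.1 (AddMonoidHom.mem_ker.1 x.2))))
  map_id n := by
    ext x
    show (X.map (𝟙 n)).hom x.1 = x.1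
    rw [X.map_id]
    rfl
  map_comp θ θ' := by
    ext x
    show (X.map (θ ≫ θ')).hom x.1 = (X.map θ').hom ((X.map θ).hom x.1)
    rw [X.map_comp]
    rfl

noncomputable def Kι : Kf f ⟶ X where
  app n := AddCommGrpCat.ofHom (f.app n).hom.ker.subtype
  naturality m n θ := by
    ext x
    rfl

lemma Kι_comp : Kι f ≫ f = 0 := by
  ext n x
  exact AddMonoidHom.mem_ker.1 x.2

noncomputable def SC : ShortComplex (ChainComplex AddCommGrpCat.{u} ℕ) :=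
  ShortComplex.mk ((alternatingFaceMapComplex AddCommGrpCat.{u}).map (Kι f))
    ((alternatingFaceMapComplex AddCommGrpCat.{u}).map f) (by
      rw [← Functor.map_comp, Kι_comp, Functor.map_zero])

lemma SC_shortExact (hf : ∀ n : SimplexCategoryᵒᵖ, Function.Surjective (f.app n)) :
    (SC f).ShortExact := by
  refine HomologicalComplex.shortExact_of_degreewise_shortExact _ (fun n => ?_)
  refine ShortComplex.ShortExact.mk' ?_ ?_ ?_
  · rw [ShortComplex.ab_exact_iff]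
    intro x₂ hx₂
    exact ⟨(⟨x₂, AddMonoidHom.mem_ker.2 hx₂⟩ : (f.app (op ⦋n⦌)).hom.ker), rfl⟩
  · exact (AddCommGrpCat.mono_iff_injective _).2 (fun a b h => Subtype.ext h)
  · exact (AddCommGrpCat.epi_iff_surjective _).2 (hf (op ⦋n⦌))

lemma Kf_acyclic (hf : ∀ n : SimplexCategoryᵒᵖ, Function.Surjective (f.app n))
    (hq : QuasiIso ((alternatingFaceMapComplex AddCommGrpCat.{u}).map f)) :
    ((alternatingFaceMapComplex AddCommGrpCat.{u}).obj (Kf f)).Acyclic :=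
  (SC_shortExact f hf).acyclic_X₁ hq

lemma exists_cycle_lift (hf : ∀ n : SimplexCategoryᵒᵖ, Function.Surjective (f.app n))
    (hq : QuasiIso ((alternatingFaceMapComplex AddCommGrpCat.{u}).map f))
    (m : ℕ) (e : X.obj (op ⦋m⦌)) (hfe : (f.app (op ⦋m⦌)).hom e = 0)
    (hcyc : ∀ k : ℕ, (((alternatingFaceMapComplex AddCommGrpCat.{u}).obj (Kf f)).d m k).hom
        (⟨e, AddMonoidHom.mem_ker.2 hfe⟩ : (f.app (op ⦋m⦌)).hom.ker) = 0) :
    ∃ w' : X.obj (op ⦋m+1⦌), (f.app (op ⦋m+1⦌)).hom w' = 0 ∧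
      (AlternatingFaceMapComplex.objD X m).hom w' = e := by
  have hex : (((alternatingFaceMapComplex AddCommGrpCat.{u}).obj (Kf f)).sc' (m+1) m
      ((ComplexShape.down ℕ).next m)).Exact :=
    (((alternatingFaceMapComplex AddCommGrpCat.{u}).obj (Kf f)).exactAt_iff' (m+1) m _
      (ChainComplex.prev ℕ m) rfl).1 (Kf_acyclic f hf hq m)
  obtain ⟨w', hw'⟩ := (ShortComplex.ab_exact_iff _).1 hex
    (⟨e, AddMonoidHom.mem_ker.2 hfe⟩ : (f.app (op ⦋m⦌)).hom.ker) (hcyc _)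
  obtain ⟨w, hw⟩ : ∃ w : (f.app (op ⦋m+1⦌)).hom.ker, w = w' := ⟨w', rfl⟩
  refine ⟨w.1, AddMonoidHom.mem_ker.1 w.2, ?_⟩
  have h1 := objD_nat (Kι f) m w
  have h2 : (AlternatingFaceMapComplex.objD (Kf f) m).hom w =
      (⟨e, AddMonoidHom.mem_ker.2 hfe⟩ : (f.app (op ⦋m⦌)).hom.ker) := by
    rw [hw, ← alternatingFaceMapComplex_obj_d]
    exact hw'
  rw [h2] at h1
  exact h1.symm

lemma exists_filler_core (hf : ∀ n : SimplexCategoryᵒᵖ, Function.Surjective (f.app n))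
    (hq : QuasiIso ((alternatingFaceMapComplex AddCommGrpCat.{u}).map f))
    (m : ℕ) (e : X.obj (op ⦋m⦌)) (hfe : (f.app (op ⦋m⦌)).hom e = 0)
    (hcyc : ∀ k : ℕ, (((alternatingFaceMapComplex AddCommGrpCat.{u}).obj (Kf f)).d m k).hom
        (⟨e, AddMonoidHom.mem_ker.2 hfe⟩ : (f.app (op ⦋m⦌)).hom.ker) = 0)
    (hP : (PInfty.f m : X _⦋m⦌ ⟶ X _⦋m⦌).hom e = e) :
    ∃ w : X.obj (op ⦋m+1⦌), (f.app (op ⦋m+1⦌)).hom w = 0 ∧ (X.δ 0).hom w = e ∧
      ∀ j : Fin (m+1), (X.δ j.succ).hom w = 0 := by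
  obtain ⟨w', hfw', hdw'⟩ := exists_cycle_lift f hf hq m e hfe hcyc
  refine ⟨(PInfty.f (m+1) : X _⦋m+1⦌ ⟶ X _⦋m+1⦌).hom w', ?_, ?_, fun j => PInfty_vanish X m j w'⟩
  · rw [PInfty_nat f (m+1) w', hfw', map_zero]
  · rw [← objD_eq_δ0 X m _ (fun j => PInfty_vanish X m j w'), PInfty_d, hdw', hP]

lemma filler_zero (hf : ∀ n : SimplexCategoryᵒᵖ, Function.Surjective (f.app n))
    (hq : QuasiIso ((alternatingFaceMapComplex AddCommGrpCat.{u}).map f))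
    (e : X.obj (op ⦋0⦌)) (hfe : (f.app (op ⦋0⦌)).hom e = 0) :
    ∃ w : X.obj (op ⦋0+1⦌), (f.app (op ⦋0+1⦌)).hom w = 0 ∧ (X.δ 0).hom w = e ∧
      ∀ j : Fin (0+1), (X.δ j.succ).hom w = 0 :=
  exists_filler_core f hf hq 0 e hfe (fun k => by
    rw [HomologicalComplex.shape _ 0 k (by simp)]
    rfl) (congrArg (fun φ : X.obj (op ⦋0⦌) ⟶ X.obj (op ⦋0⦌) => φ.hom e) PInfty_f_0)

lemma filler_succ (hf : ∀ n : SimplexCategoryᵒᵖ, Function.Surjective (f.app n))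
    (hq : QuasiIso ((alternatingFaceMapComplex AddCommGrpCat.{u}).map f))
    (k : ℕ) (e : X.obj (op ⦋k+1⦌)) (hfe : (f.app (op ⦋k+1⦌)).hom e = 0)
    (he : ∀ i : Fin (k+2), (X.δ i).hom e = 0) :
    ∃ w : X.obj (op ⦋k+1+1⦌), (f.app (op ⦋k+1+1⦌)).hom w = 0 ∧ (X.δ 0).hom w = e ∧
      ∀ j : Fin (k+1+1), (X.δ j.succ).hom w = 0 :=
  exists_filler_core f hf hq (k+1) e hfe (fun k' => by
    by_cases hk : k' = k
    · rw [hk, alternatingFaceMapComplex_obj_d]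
      exact objD_eq_zero (Kf f) k _ (fun i => Subtype.ext (he i))
    · rw [HomologicalComplex.shape _ (k+1) k' (by simp; omega)]
      rfl) (PInfty_fix X k e (fun j => he j.succ))

end Ker

/-! ### Boundaries -/

lemma bdry_compat {S : SSet.{u}} {n : ℕ}
    (t : ((∂Δ[n+2] : (Δ[n+2] : SSet.{u}).Subcomplex) : SSet.{u}) ⟶ S) (j k : Fin (n+3))
    (hjk : j < k) :
    SSet.stdSimplex.δ (k.pred (Fin.ne_zero_of_lt hjk)) ≫ SSet.boundary.ι j ≫ t =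
      SSet.stdSimplex.δ (j.castPred (Fin.ne_last_of_lt hjk)) ≫ SSet.boundary.ι k ≫ t := by
  simp only [← Category.assoc]
  congr 1
  obtain ⟨j, rfl⟩ := j.eq_castSucc_of_ne_last (Fin.ne_last_of_lt hjk)
  obtain ⟨k, rfl⟩ := k.eq_succ_of_ne_zero (Fin.ne_zero_of_lt hjk)
  rw [← cancel_mono (SSet.Subcomplex.ι _), Category.assoc, Category.assoc, SSet.boundary.ι_ι,
    SSet.boundary.ι_ι, Fin.pred_succ, Fin.castPred_castSucc, SSet.stdSimplex.δ_comp_δ (by grind)]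

lemma bdry_face_compat (X₀ : SimplicialObject AddCommGrpCat.{u}) {n : ℕ}
    (t : ((∂Δ[n+2] : (Δ[n+2] : SSet.{u}).Subcomplex) : SSet.{u}) ⟶
      X₀ ⋙ forget AddCommGrpCat.{u}) (j k : Fin (n+3)) (hjk : j < k) :
    (X₀.δ (k.pred (Fin.ne_zero_of_lt hjk))).hom (SSet.yonedaEquiv (SSet.boundary.ι j ≫ t)) =
      (X₀.δ (j.castPred (Fin.ne_last_of_lt hjk))).hom
        (SSet.yonedaEquiv (SSet.boundary.ι k ≫ t)) := by
  have h := congrArg SSet.yonedaEquiv (bdry_compat t j k hjk)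
  rw [key_add, key_add] at h
  exact h

section Main

variable {X₀ Y₀ : SimplicialObject AddCommGrpCat.{u}} (f : X₀ ⟶ Y₀)

lemma f_face {n : ℕ}
    {t : ((∂Δ[n+1] : (Δ[n+1] : SSet.{u}).Subcomplex) : SSet.{u}) ⟶ X₀ ⋙ forget AddCommGrpCat.{u}}
    {b : Δ[n+1] ⟶ Y₀ ⋙ forget AddCommGrpCat.{u}}
    (sq : CommSq t (∂Δ[n+1] : (Δ[n+1] : SSet.{u}).Subcomplex).ι
      (Functor.whiskerRight f (forget AddCommGrpCat.{u})) b) (j : Fin (n+2)) :
    (f.app (op ⦋n⦌)).hom (SSet.yonedaEquiv (SSet.boundary.ι j ≫ t)) =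
      (Y₀.δ j).hom (SSet.yonedaEquiv b) := by
  have e : (SSet.boundary.ι j ≫ t) ≫ Functor.whiskerRight f (forget AddCommGrpCat.{u}) =
      SSet.stdSimplex.δ j ≫ b := by
    rw [Category.assoc, sq.w, SSet.boundary.ι_ι_assoc]
  have h := congrArg SSet.yonedaEquiv e
  rw [yoneda_whisker, key_add Y₀ j b] at h
  exact h

lemma finish {n : ℕ}
    {t : ((∂Δ[n+1] : (Δ[n+1] : SSet.{u}).Subcomplex) : SSet.{u}) ⟶ X₀ ⋙ forget AddCommGrpCat.{u}}
    {b : Δ[n+1] ⟶ Y₀ ⋙ forget AddCommGrpCat.{u}}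
    (sq : CommSq t (∂Δ[n+1] : (Δ[n+1] : SSet.{u}).Subcomplex).ι
      (Functor.whiskerRight f (forget AddCommGrpCat.{u})) b)
    (y : X₀.obj (op ⦋n+1⦌))
    (hfy : (f.app (op ⦋n+1⦌)).hom y = SSet.yonedaEquiv b)
    (hy : ∀ i : Fin (n+2), (X₀.δ i).hom y = SSet.yonedaEquiv (SSet.boundary.ι i ≫ t)) :
    sq.HasLift := by
  refine ⟨⟨{ l := (SSet.yonedaEquiv (X := X₀ ⋙ forget AddCommGrpCat.{u}) (n := ⦋n+1⦌)).symm y
             fac_left := ?_
             fac_right := ?_ }⟩⟩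
  · apply SSet.boundary.hom_ext
    intro i
    rw [SSet.boundary.ι_ι_assoc]
    apply SSet.yonedaEquiv.injective
    rw [key_add, Equiv.apply_symm_apply]
    exact hy i
  · apply SSet.yonedaEquiv.injective
    rw [yoneda_whisker, Equiv.apply_symm_apply]
    exact hfy

lemma horn_step (n : ℕ)
    (t : ((∂Δ[n+1] : (Δ[n+1] : SSet.{u}).Subcomplex) : SSet.{u}) ⟶ X₀ ⋙ forget AddCommGrpCat.{u})
    (b : Δ[n+1] ⟶ Y₀ ⋙ forget AddCommGrpCat.{u})
    (sq : CommSq t (∂Δ[n+1] : (Δ[n+1] : SSet.{u}).Subcomplex).ι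
      (Functor.whiskerRight f (forget AddCommGrpCat.{u})) b)
    (x' : X₀.obj (op ⦋n+1⦌)) (hx' : (f.app (op ⦋n+1⦌)).hom x' = SSet.yonedaEquiv b) :
    ∃ z : X₀.obj (op ⦋n+1⦌), (f.app (op ⦋n+1⦌)).hom z = SSet.yonedaEquiv b ∧
      ∀ j : Fin (n+1), (X₀.δ j.succ).hom z = SSet.yonedaEquiv (SSet.boundary.ι j.succ ≫ t) := by
  have F1 : ∀ j : Fin (n+2), (f.app (op ⦋n⦌)).hom (SSet.yonedaEquiv (SSet.boundary.ι j ≫ t)) =
      (f.app (op ⦋n⦌)).hom ((X₀.δ j).hom x') := by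
    intro j
    rw [f_face f sq j, nat_d f j x', hx']
  have hxP : ∀ (j : Fin (n+2)) (_ : j ≠ 0), (kerPred f).P n
      (((ofAddGrp X₀).d n j (toG X₀ (n+1) x'))⁻¹ *
        toG X₀ n (SSet.yonedaEquiv (SSet.boundary.ι j ≫ t))) :=
    fun j _ => (ker_iff f n ((X₀.δ j).hom x') _).2 (F1 j).symm
  have hfill : ∃ y : (ofAddGrp X₀).G (n+1),
      (kerPred f).P (n+1) ((toG X₀ (n+1) x')⁻¹ * y) ∧
      ∀ (j : Fin (n+2)) (_ : j ≠ 0), (ofAddGrp X₀).d n j y =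
        toG X₀ n (SSet.yonedaEquiv (SSet.boundary.ι j ≫ t)) := by
    obtain _ | m := n
    · exact filler0_rel (kerPred f) 0 _ _ hxP
    · refine fillerS_rel (kerPred f) m 0 _ _ hxP ?_
      intro j l _ _ hjl
      exact congrArg (toG X₀ m) (bdry_face_compat X₀ t j l hjl)
  obtain ⟨y, hPy, hy⟩ := hfill
  refine ⟨ofG X₀ (n+1) y, ?_, fun j => hy j.succ (Fin.succ_ne_zero j)⟩
  rw [← hx']
  exact ((ker_iff f (n+1) x' (ofG X₀ (n+1) y)).1 hPy).symm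

lemma face_step (hf : ∀ n : SimplexCategoryᵒᵖ, Function.Surjective (f.app n))
    (hq : QuasiIso ((alternatingFaceMapComplex AddCommGrpCat.{u}).map f)) (n : ℕ)
    (t : ((∂Δ[n+1] : (Δ[n+1] : SSet.{u}).Subcomplex) : SSet.{u}) ⟶ X₀ ⋙ forget AddCommGrpCat.{u})
    (z : X₀.obj (op ⦋n+1⦌))
    (hz : ∀ j : Fin (n+1), (X₀.δ j.succ).hom z = SSet.yonedaEquiv (SSet.boundary.ι j.succ ≫ t))
    (xs0 : X₀.obj (op ⦋n⦌)) (hxs0 : xs0 = SSet.yonedaEquiv (SSet.boundary.ι 0 ≫ t))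
    (hfe : (f.app (op ⦋n⦌)).hom (xs0 - (X₀.δ 0).hom z) = 0) :
    ∃ w : X₀.obj (op ⦋n+1⦌), (f.app (op ⦋n+1⦌)).hom w = 0 ∧
      (X₀.δ 0).hom w = xs0 - (X₀.δ 0).hom z ∧
      ∀ j : Fin (n+1), (X₀.δ j.succ).hom w = 0 := by
  obtain _ | m := n
  · exact filler_zero f hf hq _ hfe
  · refine filler_succ f hf hq m _ hfe (fun i => ?_)
    have h1 := bdry_face_compat X₀ t 0 i.succ (Fin.succ_pos i)
    have h1' : (X₀.δ i).hom (SSet.yonedaEquiv (SSet.boundary.ι 0 ≫ t)) =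
        (X₀.δ 0).hom (SSet.yonedaEquiv (SSet.boundary.ι i.succ ≫ t)) := h1
    have h2 : X₀.δ i.succ ≫ X₀.δ (0 : Fin (m+2)) = X₀.δ (0 : Fin (m+3)) ≫ X₀.δ i :=
      X₀.δ_comp_δ (Fin.zero_le i)
    have h2' : (X₀.δ 0).hom ((X₀.δ i.succ).hom z) = (X₀.δ i).hom ((X₀.δ 0).hom z) :=
      congrArg (fun φ : X₀.obj (op ⦋m+1+1⦌) ⟶ X₀.obj (op ⦋m⦌) => φ.hom z) h2
    rw [map_sub, hxs0, h1', ← h2', hz i, sub_self]

theorem main6781 (hf : ∀ n : SimplexCategoryᵒᵖ, Function.Surjective (f.app n))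
    (hq : QuasiIso ((AlgebraicTopology.alternatingFaceMapComplex AddCommGrpCat.{u}).map f)) :
    SSet.modelCategoryQuillen.I.rlp (X := X₀ ⋙ forget AddCommGrpCat.{u})
      (Y := Y₀ ⋙ forget AddCommGrpCat.{u})
      (Functor.whiskerRight f (forget AddCommGrpCat.{u})) := by
  intro A B ι hι
  obtain ⟨n⟩ := hι
  refine ⟨fun {t b} sq => ?_⟩
  obtain _ | n := n
  · obtain ⟨x, hx⟩ := hf (op ⦋0⦌) (SSet.yonedaEquiv b)
    refine ⟨⟨{ l := (SSet.yonedaEquiv (X := X₀ ⋙ forget AddCommGrpCat.{u}) (n := ⦋0⦌)).symm x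
               fac_left := SSet.boundary.hom_ext₀
               fac_right := ?_ }⟩⟩
    apply SSet.yonedaEquiv.injective
    rw [yoneda_whisker, Equiv.apply_symm_apply]
    exact hx
  · obtain ⟨x', hx'⟩ := hf (op ⦋n+1⦌) (SSet.yonedaEquiv b)
    obtain ⟨z, hfz, hz⟩ := horn_step f n t b sq x' hx'
    obtain ⟨xs0, hxs0⟩ : ∃ xs0 : X₀.obj (op ⦋n⦌),
        xs0 = SSet.yonedaEquiv (SSet.boundary.ι 0 ≫ t) := ⟨_, rfl⟩
    have hfe : (f.app (op ⦋n⦌)).hom (xs0 - (X₀.δ 0).hom z) = 0 := by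
      rw [map_sub, hxs0, f_face f sq 0, nat_d f 0 z, hfz, sub_self]
    obtain ⟨w, hfw, hw0, hwj⟩ := face_step f hf hq n t z hz xs0 hxs0 hfe
    refine finish f sq (z + w) (by rw [map_add, hfz, hfw, add_zero]) (fun i => ?_)
    refine Fin.cases ?_ (fun j => ?_) i
    · rw [map_add, hw0, ← hxs0]
      abel
    · rw [map_add, hz j, hwj j, add_zero]

end Main

end Groth.Agent.Lib.SimpAbTrivH4
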