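import Mathlib

set_option autoImplicit false
set_option linter.style.haveILetI false
set_option linter.unusedSectionVars false

universe w v u

open CategoryTheory CategoryTheory.Limits Opposite Simplicial

namespace Groth.Agent.Lib.SimpHtpyProdH4

variable {C : Type u} [Category.{v} C] {T : Type w} [HasLimitsOfShape (Discrete T) C]

section

variable (Y : T → SimplicialObject C)

noncomputable def isLimEval (Δ : SimplexCategoryᵒᵖ) :
    IsLimit (((evaluation SimplexCategoryᵒᵖ C).obj Δ).mapCone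
      (limit.cone (Discrete.functor Y))) :=
  isLimitOfPreserves _ (limit.isLimit _)

lemma extQ (Δ : SimplexCategoryᵒᵖ) {W : C} (u v : W ⟶ (∏ᶜ Y).obj Δ)
    (h : ∀ t, u ≫ (Pi.π Y t).app Δ = v ≫ (Pi.π Y t).app Δ) : u = v := by
  apply (isLimEval Y Δ).hom_ext
  rintro ⟨t⟩
  exact h t

noncomputable def liftQ (Δ : SimplexCategoryᵒᵖ) {W : C} (φ : ∀ t, W ⟶ (Y t).obj Δ) :
    W ⟶ (∏ᶜ Y).obj Δ :=
  (isLimEval Y Δ).lift ⟨W, Discrete.natTrans (fun t => φ t.as)⟩

@[reassoc (attr := simp)]
lemma liftQ_π (Δ : SimplexCategoryᵒᵖ) {W : C} (φ : ∀ t, W ⟶ (Y t).obj Δ) (t : T) :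
    liftQ Y Δ φ ≫ (Pi.π Y t).app Δ = φ t :=
  (isLimEval Y Δ).fac ⟨W, Discrete.natTrans (fun t => φ t.as)⟩ ⟨t⟩

end

variable {X Y : T → SimplicialObject C}

@[reassoc (attr := simp)]
lemma map_app_π (a : ∀ t, X t ⟶ Y t) (t : T) (Δ : SimplexCategoryᵒᵖ) :
    (Limits.Pi.map a).app Δ ≫ (Pi.π Y t).app Δ = (Pi.π X t).app Δ ≫ (a t).app Δ := by
  have := congrArg (fun α : (∏ᶜ X ⟶ Y t) => α.app Δ) (Limits.Pi.map_π a t)
  exact this

noncomputable def prodHomotopy {a b : ∀ t, X t ⟶ Y t}
    (hh : ∀ t, SimplicialObject.Homotopy (a t) (b t)) :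
    SimplicialObject.Homotopy (Limits.Pi.map a) (Limits.Pi.map b) where
  h := fun {n} i => liftQ Y (op ⦋n + 1⦌) (fun t => (Pi.π X t).app (op ⦋n⦌) ≫ (hh t).h i)
  h_zero_comp_δ_zero n := by
    apply extQ Y; intro t
    simp only [Category.assoc, SimplicialObject.δ_naturality, liftQ_π_assoc, map_app_π,
      SimplicialObject.Homotopy.h_zero_comp_δ_zero]
  h_last_comp_δ_last n := by
    apply extQ Y; intro t
    simp only [Category.assoc, SimplicialObject.δ_naturality, liftQ_π_assoc, map_app_π,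
      SimplicialObject.Homotopy.h_last_comp_δ_last]
  h_succ_comp_δ_castSucc_of_lt {n} i j hij := by
    apply extQ Y; intro t
    simp only [Category.assoc, SimplicialObject.δ_naturality, liftQ_π_assoc, liftQ_π,
      SimplicialObject.δ_naturality_assoc, (hh t).h_succ_comp_δ_castSucc_of_lt i j hij]
  h_succ_comp_δ_castSucc_succ {n} j := by
    apply extQ Y; intro t
    simp only [Category.assoc, SimplicialObject.δ_naturality, liftQ_π_assoc, liftQ_π,
      SimplicialObject.δ_naturality_assoc, (hh t).h_succ_comp_δ_castSucc_succ j]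
  h_castSucc_comp_δ_succ_of_lt {n} i j hji := by
    apply extQ Y; intro t
    simp only [Category.assoc, SimplicialObject.δ_naturality, liftQ_π_assoc, liftQ_π,
      SimplicialObject.δ_naturality_assoc, (hh t).h_castSucc_comp_δ_succ_of_lt i j hji]
  h_comp_σ_castSucc_of_le {n} i j hij := by
    apply extQ Y; intro t
    simp only [Category.assoc, SimplicialObject.σ_naturality, liftQ_π_assoc, liftQ_π,
      SimplicialObject.σ_naturality_assoc, (hh t).h_comp_σ_castSucc_of_le i j hij]
  h_comp_σ_succ_of_lt {n} i j hji := by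
    apply extQ Y; intro t
    simp only [Category.assoc, SimplicialObject.σ_naturality, liftQ_π_assoc, liftQ_π,
      SimplicialObject.σ_naturality_assoc, (hh t).h_comp_σ_succ_of_lt i j hji]

theorem main6815 (a b : ∀ t, X t ⟶ Y t)
    (h : ∀ t, Nonempty (SimplicialObject.Homotopy (a t) (b t))) :
    Nonempty (SimplicialObject.Homotopy (Limits.Pi.map a) (Limits.Pi.map b)) :=
  ⟨prodHomotopy (fun t => (h t).some)⟩

end Groth.Agent.Lib.SimpHtpyProdH4
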