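import Mathlib

set_option autoImplicit false
set_option backward.isDefEq.respectTransparency false

open CategoryTheory Limits Simplicial SimplexCategory Opposite AlgebraicTopology
  AlgebraicTopology.DoldKan
open scoped DoldKan

universe u

namespace Groth.Agent.Lib.SimpHtpy

/-! ### generic element criteria in `AddCommGrpCat` -/

theorem sum_hom_apply {A B : AddCommGrpCat.{u}} {ι : Type*} (s : Finset ι) (φ : ι → (A ⟶ B))
    (x : A) : (∑ i ∈ s, φ i) x = ∑ i ∈ s, (φ i) x := by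
  classical
  induction s using Finset.induction_on with
  | empty => rfl
  | insert a s ha ih =>
    rw [Finset.sum_insert ha, Finset.sum_insert ha, AddCommGrpCat.hom_add_apply, ih]

theorem zsmul_hom_apply {A B : AddCommGrpCat.{u}} (n : ℤ) (φ : A ⟶ B) (x : A) :
    (n • φ) x = n • φ x := rfl

theorem epi_free (A : AddCommGrpCat.{u}) :
    Epi (AddCommGrpCat.ofHom (FreeAbelianGroup.lift (fun a : A => a)) :
      AddCommGrpCat.of (FreeAbelianGroup A) ⟶ A) := by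
  rw [AddCommGrpCat.epi_iff_surjective]
  intro a
  exact ⟨FreeAbelianGroup.of a, FreeAbelianGroup.lift_apply_of _ _⟩

theorem free_hom_ext {T : Type u} {B : AddCommGrpCat.{u}}
    {p q : AddCommGrpCat.of (FreeAbelianGroup T) ⟶ B}
    (h : ∀ t : T, p (FreeAbelianGroup.of t) = q (FreeAbelianGroup.of t)) : p = q := by
  apply AddCommGrpCat.hom_ext
  exact FreeAbelianGroup.lift_ext _ _ h

theorem epi_homologyMap_of_elements {S₁ S₂ : ShortComplex AddCommGrpCat.{u}} (φ : S₁ ⟶ S₂)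
    (H : ∀ y : S₂.X₂, S₂.g y = 0 →
      ∃ x : S₁.X₂, S₁.g x = 0 ∧ ∃ y₁ : S₂.X₁, y = φ.τ₂ x + S₂.f y₁) :
    Epi (ShortComplex.homologyMap φ) := by
  rw [ShortComplex.epi_homologyMap_iff_up_to_refinements]
  intro A y₂ hy₂
  have hy₂' : ∀ a : A, S₂.g (y₂ a) = 0 := fun a => ConcreteCategory.congr_hom hy₂ a
  choose ξ hξ η hη using fun a : A => H (y₂ a) (hy₂' a)
  refine ⟨AddCommGrpCat.of (FreeAbelianGroup A),
    AddCommGrpCat.ofHom (FreeAbelianGroup.lift (fun a : A => a)), epi_free A,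
    AddCommGrpCat.ofHom (FreeAbelianGroup.lift ξ), ?_,
    AddCommGrpCat.ofHom (FreeAbelianGroup.lift η), ?_⟩
  · apply free_hom_ext
    intro a
    show S₁.g (FreeAbelianGroup.lift ξ (FreeAbelianGroup.of a)) = 0
    rw [FreeAbelianGroup.lift_apply_of]
    exact hξ a
  · apply free_hom_ext
    intro a
    show y₂ (FreeAbelianGroup.lift (fun a : A => a) (FreeAbelianGroup.of a)) =
      φ.τ₂ (FreeAbelianGroup.lift ξ (FreeAbelianGroup.of a)) +
        S₂.f (FreeAbelianGroup.lift η (FreeAbelianGroup.of a))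
    rw [FreeAbelianGroup.lift_apply_of, FreeAbelianGroup.lift_apply_of,
      FreeAbelianGroup.lift_apply_of]
    exact hη a

theorem mono_homologyMap_of_elements {S₁ S₂ : ShortComplex AddCommGrpCat.{u}} (φ : S₁ ⟶ S₂)
    (H : ∀ x : S₁.X₂, S₁.g x = 0 → ∀ y₁ : S₂.X₁, φ.τ₂ x = S₂.f y₁ →
      ∃ x₁ : S₁.X₁, x = S₁.f x₁) :
    Mono (ShortComplex.homologyMap φ) := by
  rw [ShortComplex.mono_homologyMap_iff_up_to_refinements]
  intro A x₂ hx₂ y₁ hy₁
  have h1 : ∀ a : A, S₁.g (x₂ a) = 0 := fun a => ConcreteCategory.congr_hom hx₂ a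
  have h2 : ∀ a : A, φ.τ₂ (x₂ a) = S₂.f (y₁ a) := fun a => ConcreteCategory.congr_hom hy₁ a
  choose ξ hξ using fun a : A => H (x₂ a) (h1 a) (y₁ a) (h2 a)
  refine ⟨AddCommGrpCat.of (FreeAbelianGroup A),
    AddCommGrpCat.ofHom (FreeAbelianGroup.lift (fun a : A => a)), epi_free A,
    AddCommGrpCat.ofHom (FreeAbelianGroup.lift ξ), ?_⟩
  apply free_hom_ext
  intro a
  show x₂ (FreeAbelianGroup.lift (fun a : A => a) (FreeAbelianGroup.of a)) =
    S₁.f (FreeAbelianGroup.lift ξ (FreeAbelianGroup.of a))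
  rw [FreeAbelianGroup.lift_apply_of, FreeAbelianGroup.lift_apply_of]
  exact hξ a

/-! ### simplicial abelian groups -/

section

variable (X : SimplicialObject AddCommGrpCat.{u})

/-- the underlying simplicial set -/
abbrev U : SSet.{u} := X ⋙ forget AddCommGrpCat.{u}

/-- the free simplicial abelian group on the underlying simplicial set -/
abbrev FU : SimplicialObject AddCommGrpCat.{u} := U X ⋙ AddCommGrpCat.free

/-- all faces vanish -/
def NC (n : ℕ) (x : X _⦋n⦌) : Prop :=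
  ∀ (m : ℕ) (θ : ⦋m⦌ ⟶ ⦋n⦌), m + 1 = n → Mono θ → X.map θ.op x = 0

variable {X}

theorem NC.face {k : ℕ} {x : X _⦋k + 1⦌} (h : NC X (k + 1) x) (j : Fin (k + 2)) :
    X.δ j x = 0 :=
  h k (SimplexCategory.δ j) rfl inferInstance

theorem NC.of_faces {k : ℕ} {x : X _⦋k + 1⦌} (h : ∀ j : Fin (k + 2), X.δ j x = 0) :
    NC X (k + 1) x := by
  intro m θ hm hθ
  obtain rfl : m = k := by omega
  obtain ⟨i, rfl⟩ := SimplexCategory.eq_δ_of_mono θ
  exact h i

theorem NC.zero (x : X _⦋0⦌) : NC X 0 x := by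
  intro m θ hm
  omega

theorem d_apply_raw (k : ℕ) (x : X _⦋k + 1⦌) :
    (K[X]).d (k + 1) k x = ∑ i : Fin (k + 2), (-1 : ℤ) ^ (i : ℕ) • X.δ i x := by
  rw [AlternatingFaceMapComplex.obj_d_eq, sum_hom_apply]
  rfl

variable (X) in
/-- the differential as an additive map between the groups of simplices -/
def dK (n : ℕ) : X _⦋n + 1⦌ →+ X _⦋n⦌ := ((K[X]).d (n + 1) n).hom

theorem d_apply (k : ℕ) (x : X _⦋k + 1⦌) :
    dK X k x = ∑ i : Fin (k + 2), (-1 : ℤ) ^ (i : ℕ) • X.δ i x :=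
  d_apply_raw k x

theorem d_of_SN {k : ℕ} {w : X _⦋k + 1⦌} (hw : ∀ i : Fin (k + 1), X.δ i.succ w = 0) :
    dK X k w = X.δ 0 w := by
  rw [d_apply, Fin.sum_univ_succ, Finset.sum_eq_zero (fun i _ => by rw [hw i, smul_zero])]
  simp

theorem NC.d_eq_zero {n : ℕ} {x : X _⦋n⦌} (h : NC X n x) (k : ℕ) :
    (K[X]).d n k x = 0 := by
  by_cases hr : (ComplexShape.down ℕ).Rel n k
  · have hk : k + 1 = n := hr
    subst hk
    rw [d_apply_raw]
    apply Finset.sum_eq_zero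
    intro j _
    rw [h.face j, smul_zero]
  · rw [(K[X]).shape _ _ hr]
    rfl

/-- generators of the free simplicial abelian group -/
def gen {n : ℕ} (x : X _⦋n⦌) : (FU X) _⦋n⦌ :=
  (FreeAbelianGroup.of x : FreeAbelianGroup (X _⦋n⦌))

theorem FU_map_gen {m n : ℕ} (θ : ⦋m⦌ ⟶ ⦋n⦌) (x : X _⦋n⦌) :
    (FU X).map θ.op (gen x) = gen (X.map θ.op x) := by
  show FreeAbelianGroup.map _ (FreeAbelianGroup.of x) = _
  rw [FreeAbelianGroup.map_of_apply]
  rfl

theorem cyc_d {n : ℕ} {x : X _⦋n⦌} (h : NC X n x) (k : ℕ) :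
    (K[FU X]).d n k (gen x - gen (0 : X _⦋n⦌)) = 0 := by
  by_cases hr : (ComplexShape.down ℕ).Rel n k
  · have hk : k + 1 = n := hr
    subst hk
    rw [d_apply_raw]
    apply Finset.sum_eq_zero
    intro j _
    have h1 : (FU X).δ j (gen x - gen (0 : X _⦋k + 1⦌)) = 0 := by
      rw [map_sub]
      have e1 : (FU X).δ j (gen x) = gen (X.map (SimplexCategory.δ j).op x) :=
        FU_map_gen (SimplexCategory.δ j) x
      have e2 : (FU X).δ j (gen (0 : X _⦋k + 1⦌)) =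
          gen (X.map (SimplexCategory.δ j).op (0 : X _⦋k + 1⦌)) :=
        FU_map_gen (SimplexCategory.δ j) 0
      rw [e1, e2, h k (SimplexCategory.δ j) rfl inferInstance, map_zero, sub_self]
    rw [h1, smul_zero]
  · rw [(K[FU X]).shape _ _ hr]
    rfl

/-- the counit `ℤ[U X] ⟶ X` -/
def eps (W : SimplicialObject AddCommGrpCat.{u}) : FU W ⟶ W where
  app n := AddCommGrpCat.ofHom (FreeAbelianGroup.lift (fun y : W.obj n => y))
  naturality n m θ := by
    apply free_hom_ext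
    intro y
    show FreeAbelianGroup.lift (fun y : W.obj m => y)
        (FreeAbelianGroup.map _ (FreeAbelianGroup.of y)) =
      (W.map θ) (FreeAbelianGroup.lift (fun y : W.obj n => y) (FreeAbelianGroup.of y))
    rw [FreeAbelianGroup.map_of_apply, FreeAbelianGroup.lift_apply_of,
      FreeAbelianGroup.lift_apply_of]
    rfl

theorem eps_gen {W : SimplicialObject AddCommGrpCat.{u}} {n : ℕ} (y : W _⦋n⦌) :
    (eps W).app (op ⦋n⦌) (gen y) = y :=
  FreeAbelianGroup.lift_apply_of _ _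

/-! ### `P_∞` and normalisation -/

theorem PInfty_fix {n : ℕ} {x : X _⦋n⦌} (h : NC X n x) :
    (PInfty : K[X] ⟶ K[X]).f n x = x := by
  cases n with
  | zero => rfl
  | succ k =>
    let S : AddSubgroup (X _⦋k + 1⦌) := ⨅ j : Fin (k + 1), (X.δ j.succ).hom.ker
    let φ : AddCommGrpCat.of S ⟶ X _⦋k + 1⦌ := AddCommGrpCat.ofHom S.subtype
    have hφ : HigherFacesVanish (k + 1) φ := by
      intro j _
      ext ⟨y, hy⟩
      exact AddMonoidHom.mem_ker.1 ((AddSubgroup.mem_iInf.1 hy) j)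
    have hx : x ∈ S := AddSubgroup.mem_iInf.2 (fun j => AddMonoidHom.mem_ker.2 (h.face j.succ))
    exact ConcreteCategory.congr_hom hφ.comp_P_eq_self ⟨x, hx⟩

theorem PInfty_SN {k : ℕ} (w : X _⦋k + 1⦌) (i : Fin (k + 1)) :
    X.δ i.succ ((PInfty : K[X] ⟶ K[X]).f (k + 1) w) = 0 :=
  ConcreteCategory.congr_hom ((HigherFacesVanish.of_P (X := X) (k + 1) k) i (by omega)) w

theorem PInfty_d {k : ℕ} (w : X _⦋k + 1⦌) :
    dK X k ((PInfty : K[X] ⟶ K[X]).f (k + 1) w) =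
      (PInfty : K[X] ⟶ K[X]).f k (dK X k w) :=
  ConcreteCategory.congr_hom ((PInfty : K[X] ⟶ K[X]).comm (k + 1) k) w

theorem exists_NC_homologous {n : ℕ} (z : X _⦋n⦌)
    (hz : (K[X]).d n ((ComplexShape.down ℕ).next n) z = 0) :
    ∃ (x : X _⦋n⦌) (u : X _⦋n + 1⦌), NC X n x ∧ x - z = dK X n u := by
  let h := homotopyPInftyToId X
  have hc := ConcreteCategory.congr_hom (h.comm n) z
  rw [AddCommGrpCat.hom_add_apply, AddCommGrpCat.hom_add_apply] at hc
  have h1 : (dNext n h.hom) z = 0 := by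
    show h.hom ((ComplexShape.down ℕ).next n) n
      ((K[X]).d n ((ComplexShape.down ℕ).next n) z) = 0
    rw [hz, map_zero]
  have h2 : (prevD n h.hom) z = dK X n (h.hom n (n + 1) z) := by
    rw [Homotopy.prevD_chainComplex]
    rfl
  have h3 : ((𝟙 K[X] : K[X] ⟶ K[X]).f n) z = z := rfl
  rw [h1, h2, h3, zero_add] at hc
  refine ⟨(PInfty : K[X] ⟶ K[X]).f n z, h.hom n (n + 1) z, ?_, sub_eq_of_eq_add hc⟩
  · cases n with
    | zero => exact NC.zero _
    | succ k =>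
      apply NC.of_faces
      intro j
      refine Fin.cases ?_ (fun i => ?_) j
      · rw [← d_of_SN (fun i => PInfty_SN z i), PInfty_d]
        have : dK X k z = 0 := by
          have := hz
          rwa [ChainComplex.next_nat_succ] at this
        rw [this, map_zero]
      · exact PInfty_SN z i

theorem exists_SN_of_boundary {n : ℕ} {x : X _⦋n⦌} (hx : NC X n x) (w : X _⦋n + 1⦌)
    (hw : dK X n w = x) :
    ∃ w' : X _⦋n + 1⦌, (∀ i : Fin (n + 1), X.δ i.succ w' = 0) ∧ X.δ 0 w' = x := by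
  refine ⟨(PInfty : K[X] ⟶ K[X]).f (n + 1) w, fun i => PInfty_SN w i, ?_⟩
  rw [← d_of_SN (fun i => PInfty_SN w i), PInfty_d, hw, PInfty_fix hx]

end

/-! ### non-additive maps of underlying simplicial sets -/

section

variable {X Y W : SimplicialObject AddCommGrpCat.{u}}

/-- the "difference" map `y ↦ a y - a 0` -/
def D (a : U Y ⟶ U W) {n : ℕ} (y : Y _⦋n⦌) : W _⦋n⦌ :=
  (a.app (op ⦋n⦌) y : W _⦋n⦌) - (a.app (op ⦋n⦌) (0 : Y _⦋n⦌) : W _⦋n⦌)

theorem D_zero (a : U Y ⟶ U W) {n : ℕ} : D a (0 : Y _⦋n⦌) = 0 := sub_self _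

theorem app_map (a : U Y ⟶ U W) {m n : ℕ} (θ : ⦋m⦌ ⟶ ⦋n⦌) (y : Y _⦋n⦌) :
    W.map θ.op (a.app (op ⦋n⦌) y : W _⦋n⦌) = (a.app (op ⦋m⦌) (Y.map θ.op y) : W _⦋m⦌) :=
  (NatTrans.naturality_apply a θ.op y).symm

theorem D_map (a : U Y ⟶ U W) {m n : ℕ} (θ : ⦋m⦌ ⟶ ⦋n⦌) (y : Y _⦋n⦌) :
    W.map θ.op (D a y) = D a (Y.map θ.op y) := by
  unfold D
  rw [map_sub, app_map, app_map, map_zero]

theorem NC_D (a : U Y ⟶ U W) {n : ℕ} {y : Y _⦋n⦌} (h : NC Y n y) : NC W n (D a y) := by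
  intro m θ hm hθ
  rw [D_map, h m θ hm hθ, D_zero]

theorem NC_map (f : X ⟶ Y) {n : ℕ} {x : X _⦋n⦌} (h : NC X n x) :
    NC Y n (f.app (op ⦋n⦌) x) := by
  intro m θ hm hθ
  rw [← NatTrans.naturality_apply f θ.op x, h m θ hm hθ, map_zero]

theorem d_D (a : U Y ⟶ U W) {n : ℕ} {w : Y _⦋n + 1⦌}
    (hw : ∀ i : Fin (n + 1), Y.δ i.succ w = 0) :
    dK W n (D a w) = D a (Y.δ 0 w) := by
  have hS : ∀ i : Fin (n + 1), W.δ i.succ (D a w) = 0 := by
    intro i
    have e : W.δ i.succ (D a w) = D a (Y.map (SimplexCategory.δ i.succ).op w) :=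
      D_map a (SimplexCategory.δ i.succ) w
    have e' : Y.map (SimplexCategory.δ i.succ).op w = 0 := hw i
    rw [e, e', D_zero]
  rw [d_of_SN hS]
  exact D_map a (SimplexCategory.δ 0) w

theorem D_whisker_comp (f : X ⟶ Y) (g : U Y ⟶ U W) {n : ℕ} (x : X _⦋n⦌) :
    D (Functor.whiskerRight f (forget AddCommGrpCat.{u}) ≫ g) x = D g (f.app (op ⦋n⦌) x) := by
  unfold D
  have e : f.app (op ⦋n⦌) (0 : X _⦋n⦌) = 0 := map_zero _
  rw [← e]
  rfl

theorem D_comp_whisker (g : U Y ⟶ U X) (f : X ⟶ W) {n : ℕ} (y : Y _⦋n⦌) :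
    D (g ≫ Functor.whiskerRight f (forget AddCommGrpCat.{u})) y = f.app (op ⦋n⦌) (D g y) := by
  unfold D
  rw [map_sub]
  rfl

theorem D_id {n : ℕ} (x : X _⦋n⦌) : D (𝟙 (U X)) x = x := by
  unfold D
  exact sub_zero x

/-- the key consequence of a homotopy of underlying simplicial sets -/
theorem lemmaA (a b : U X ⟶ U W) (H : SSet.Homotopy a b) {n : ℕ} {x : X _⦋n⦌}
    (hx : NC X n x) :
    ∃ w : W _⦋n + 1⦌, dK W n w = D a x - D b x := by
  let H1 := H.toSimplicialObjectHomotopy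
  let H2 := H1.whiskerRight AddCommGrpCat.free
  let H3 := H2.postcomp (eps W)
  let ch := H3.toChainHomotopy
  let c : (FU X) _⦋n⦌ := gen x - gen (0 : X _⦋n⦌)
  have hc := ConcreteCategory.congr_hom (ch.comm n) c
  rw [AddCommGrpCat.hom_add_apply, AddCommGrpCat.hom_add_apply] at hc
  have h1 : (dNext n ch.hom) c = 0 := by
    show ch.hom ((ComplexShape.down ℕ).next n) n
      ((K[FU X]).d n ((ComplexShape.down ℕ).next n) c) = 0
    rw [cyc_d hx, map_zero]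
  have h2 : (prevD n ch.hom) c = dK W n (ch.hom n (n + 1) c) := by
    rw [Homotopy.prevD_chainComplex]
    rfl
  have key : ∀ (a' : U X ⟶ U W) (t : X _⦋n⦌),
      ((((SimplicialObject.whiskering _ _).obj AddCommGrpCat.free).map a') ≫ eps W).app
        (op ⦋n⦌) (gen t) = (a'.app (op ⦋n⦌) t : W _⦋n⦌) := by
    intro a' t
    show FreeAbelianGroup.lift (fun y : W.obj (op ⦋n⦌) => y)
      (FreeAbelianGroup.map _ (FreeAbelianGroup.of t)) = _
    rw [FreeAbelianGroup.map_of_apply, FreeAbelianGroup.lift_apply_of]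
  have h3 : ∀ (a' : U X ⟶ U W),
      ((alternatingFaceMapComplex AddCommGrpCat.{u}).map
        ((((SimplicialObject.whiskering _ _).obj AddCommGrpCat.free).map a') ≫ eps W)).f n c
        = D a' x := by
    intro a'
    show ((((SimplicialObject.whiskering _ _).obj AddCommGrpCat.free).map a') ≫ eps W).app
        (op ⦋n⦌) (gen x - gen (0 : X _⦋n⦌)) = _
    rw [map_sub, key, key]
    rfl
  rw [h1, h2, zero_add] at hc
  rw [h3 a, h3 b] at hc
  exact ⟨ch.hom n (n + 1) c, (sub_eq_of_eq_add hc).symm⟩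

end

/-! ### main theorem -/

section

variable {X Y : SimplicialObject AddCommGrpCat.{u}}

theorem mono_part (f : X ⟶ Y) (g : U Y ⟶ U X)
    (hX : ∀ (n : ℕ) (x : X _⦋n⦌), NC X n x → ∃ w : X _⦋n + 1⦌,
      dK X n w = D (Functor.whiskerRight f (forget AddCommGrpCat.{u}) ≫ g) x - x)
    (n : ℕ) (x : X _⦋n⦌) (hx : (K[X]).d n ((ComplexShape.down ℕ).next n) x = 0)
    (y₁ : Y _⦋n + 1⦌) (hy : f.app (op ⦋n⦌) x = dK Y n y₁) :
    ∃ x₁ : X _⦋n + 1⦌, x = dK X n x₁ := by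
  obtain ⟨x', u, hx', hxu⟩ := exists_NC_homologous x hx
  have hcomm : dK Y n (f.app (op ⦋n + 1⦌) u) = f.app (op ⦋n⦌) (dK X n u) :=
    ConcreteCategory.congr_hom ((AlternatingFaceMapComplex.map f).comm (n + 1) n) u
  have hw : dK Y n (y₁ + f.app (op ⦋n + 1⦌) u) = f.app (op ⦋n⦌) x' := by
    rw [map_add, hcomm, ← hy, ← hxu, map_sub, add_sub_cancel]
  obtain ⟨w', hw'S, hw'0⟩ := exists_SN_of_boundary (NC_map f hx') _ hw
  have h5 := d_D g hw'S
  rw [hw'0] at h5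
  obtain ⟨v, hv⟩ := hX n x' hx'
  rw [D_whisker_comp] at hv
  refine ⟨D g w' - v - u, ?_⟩
  rw [map_sub, map_sub, h5, hv, ← hxu, sub_sub_cancel, sub_sub_cancel]

theorem epi_part (f : X ⟶ Y) (g : U Y ⟶ U X)
    (hY : ∀ (n : ℕ) (y : Y _⦋n⦌), NC Y n y → ∃ w : Y _⦋n + 1⦌,
      dK Y n w = D (g ≫ Functor.whiskerRight f (forget AddCommGrpCat.{u})) y - y)
    (n : ℕ) (y : Y _⦋n⦌) (hy : (K[Y]).d n ((ComplexShape.down ℕ).next n) y = 0) :
    ∃ x : X _⦋n⦌, (K[X]).d n ((ComplexShape.down ℕ).next n) x = 0 ∧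
      ∃ y₁ : Y _⦋n + 1⦌, y = f.app (op ⦋n⦌) x + dK Y n y₁ := by
  obtain ⟨y', u, hy', hyu⟩ := exists_NC_homologous y hy
  obtain ⟨v, hv⟩ := hY n y' hy'
  rw [D_comp_whisker] at hv
  refine ⟨D g y', (NC_D g hy').d_eq_zero _, -(v + u), ?_⟩
  rw [map_neg, map_add, hv, ← hyu, sub_add_sub_cancel, neg_sub, add_sub_cancel]

theorem main (f : X ⟶ Y) (g : U Y ⟶ U X)
    (hX : ∀ (n : ℕ) (x : X _⦋n⦌), NC X n x → ∃ w : X _⦋n + 1⦌,
      dK X n w = D (Functor.whiskerRight f (forget AddCommGrpCat.{u}) ≫ g) x - x)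
    (hY : ∀ (n : ℕ) (y : Y _⦋n⦌), NC Y n y → ∃ w : Y _⦋n + 1⦌,
      dK Y n w = D (g ≫ Functor.whiskerRight f (forget AddCommGrpCat.{u})) y - y) :
    QuasiIso (AlternatingFaceMapComplex.map f) := by
  rw [quasiIso_iff]
  intro n
  rw [quasiIsoAt_iff' _ (n + 1) n ((ComplexShape.down ℕ).next n) (by simp) rfl,
    ShortComplex.quasiIso_iff]
  haveI := mono_homologyMap_of_elements
    ((HomologicalComplex.shortComplexFunctor' AddCommGrpCat.{u} (ComplexShape.down ℕ) (n + 1) n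
      ((ComplexShape.down ℕ).next n)).map (AlternatingFaceMapComplex.map f))
    (fun x hx y₁ hy => mono_part f g hX n x hx y₁ hy)
  haveI := epi_homologyMap_of_elements
    ((HomologicalComplex.shortComplexFunctor' AddCommGrpCat.{u} (ComplexShape.down ℕ) (n + 1) n
      ((ComplexShape.down ℕ).next n)).map (AlternatingFaceMapComplex.map f))
    (fun y hy => epi_part f g hY n y hy)
  exact isIso_of_mono_of_epi _

theorem result' (f : X ⟶ Y)
    (g : (Y ⋙ forget AddCommGrpCat.{u} : SSet.{u}) ⟶ (X ⋙ forget AddCommGrpCat.{u} : SSet.{u}))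
    (hX : Nonempty (SSet.Homotopy
        (Functor.whiskerRight f (forget AddCommGrpCat.{u}) ≫ g) (𝟙 _)) ∨
      Nonempty (SSet.Homotopy (𝟙 _)
        (Functor.whiskerRight f (forget AddCommGrpCat.{u}) ≫ g)))
    (hY : Nonempty (SSet.Homotopy
        (g ≫ Functor.whiskerRight f (forget AddCommGrpCat.{u})) (𝟙 _)) ∨
      Nonempty (SSet.Homotopy (𝟙 _)
        (g ≫ Functor.whiskerRight f (forget AddCommGrpCat.{u})))) :
    QuasiIso ((AlgebraicTopology.alternatingFaceMapComplex AddCommGrpCat.{u}).map f) := by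
  refine main f g ?_ ?_
  · intro n x hx
    rcases hX with ⟨⟨H⟩⟩ | ⟨⟨H⟩⟩
    · obtain ⟨w, hw⟩ := lemmaA _ _ H hx
      rw [D_id] at hw
      exact ⟨w, hw⟩
    · obtain ⟨w, hw⟩ := lemmaA _ _ H hx
      rw [D_id] at hw
      exact ⟨-w, by rw [map_neg, hw, neg_sub]⟩
  · intro n y hy
    rcases hY with ⟨⟨H⟩⟩ | ⟨⟨H⟩⟩
    · obtain ⟨w, hw⟩ := lemmaA _ _ H hy
      rw [D_id] at hw
      exact ⟨w, hw⟩
    · obtain ⟨w, hw⟩ := lemmaA _ _ H hy
      rw [D_id] at hw
      exact ⟨-w, by rw [map_neg, hw, neg_sub]⟩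

end

end Groth.Agent.Lib.SimpHtpy
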