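import Mathlib
import Groth.Prelude.Def_Hyper

set_option autoImplicit false
set_option linter.style.haveILetI false
set_option linter.unusedSectionVars false
set_option linter.unusedVariables false
set_option backward.isDefEq.respectTransparency false
set_option backward.isDefEq.respectTransparency.types false
set_option maxHeartbeats 1600000

/-! # The simplicial object of `B`-labelings of simplices

For a class `B` of objects of a small category `D`, `SB B` is the simplicial object of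
`FormalCoproduct D` whose `Δ`-simplices are the labelings of all the cells `σ : j ⟶ Δ` of `Δ` by
objects of `B`, contravariantly functorial in the cell; the object attached to a labeling is the label
of the top cell `𝟙 Δ`. -/

universe u

open CategoryTheory CategoryTheory.Limits Opposite Simplicial

namespace Groth.Agent.Lib.SingBH7

attribute [local semireducible] SimplexCategory.Hom

variable {D : Type u} [SmallCategory D] (B : D → Prop)

/-- a labeling of the cells of `Δ` by objects of `B`, with restriction maps. -/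
structure Lab (Δ : SimplexCategory) where
  obj : ∀ {j : SimplexCategory}, (j ⟶ Δ) → D
  res : ∀ {j j' : SimplexCategory} (σ : j ⟶ Δ) (θ : j' ⟶ j), obj σ ⟶ obj (θ ≫ σ)
  res_id : ∀ {j : SimplexCategory} (σ : j ⟶ Δ), res σ (𝟙 j) = 𝟙 (obj σ)
  res_comp : ∀ {j j' j'' : SimplexCategory} (σ : j ⟶ Δ) (θ : j' ⟶ j) (θ' : j'' ⟶ j'),
    res σ (θ' ≫ θ) = res σ θ ≫ res (θ ≫ σ) θ'
  mem : ∀ {j : SimplexCategory} (σ : j ⟶ Δ), B (obj σ)

variable {B}

/-- restriction of a labeling along `θ`. -/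
def Lab.restr {Δ Δ' : SimplexCategory} (V : Lab B Δ) (θ : Δ' ⟶ Δ) : Lab B Δ' where
  obj σ := V.obj (σ ≫ θ)
  res σ τ := V.res (σ ≫ θ) τ
  res_id σ := V.res_id (σ ≫ θ)
  res_comp σ τ τ' := V.res_comp (σ ≫ θ) τ τ'
  mem σ := V.mem (σ ≫ θ)

lemma Lab.restr_id {Δ : SimplexCategory} (V : Lab B Δ) : V.restr (𝟙 Δ) = V := rfl

lemma Lab.restr_comp {Δ Δ' Δ'' : SimplexCategory} (V : Lab B Δ) (θ : Δ' ⟶ Δ) (θ' : Δ'' ⟶ Δ') :
    V.restr (θ' ≫ θ) = (V.restr θ).restr θ' := rfl

lemma Lab.ext' {Δ : SimplexCategory} (V V' : Lab B Δ)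
    (hobj : ∀ {j : SimplexCategory} (σ : j ⟶ Δ), V.obj σ = V'.obj σ)
    (hres : ∀ {j j' : SimplexCategory} (σ : j ⟶ Δ) (θ : j' ⟶ j),
      V.res σ θ = eqToHom (hobj σ) ≫ V'.res σ θ ≫ eqToHom (hobj (θ ≫ σ)).symm) : V = V' := by
  obtain ⟨o, r, h1, h2, h3⟩ := V
  obtain ⟨o', r', h1', h2', h3'⟩ := V'
  have ho : @o = @o' := by
    funext j σ
    exact hobj σ
  subst ho
  have hr : @r = @r' := by
    funext j j' σ θ
    have h := hres σ θ
    simpa using h
  subst hr
  rfl

variable (B)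

/-- the simplicial object of labelings. -/
def SB : SimplicialObject (FormalCoproduct.{u} D) where
  obj Δ := ⟨Lab B Δ.unop, fun V => V.obj (𝟙 Δ.unop)⟩
  map {Δ Δ'} θ := ⟨fun V => V.restr θ.unop, fun V => V.res (𝟙 Δ.unop) θ.unop⟩
  map_id Δ := congrArg (FormalCoproduct.Hom.mk id) (funext fun V => V.res_id (𝟙 Δ.unop))
  map_comp {Δ Δ' Δ''} θ θ' := congrArg (FormalCoproduct.Hom.mk _)
    (funext fun V => V.res_comp (𝟙 Δ.unop) θ.unop θ'.unop)

variable {B}

/-- the constant labeling. -/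
def constLab (U : D) (hU : B U) (Δ : SimplexCategory) : Lab B Δ where
  obj _ := U
  res _ _ := 𝟙 U
  res_id _ := rfl
  res_comp _ _ _ := (Category.comp_id _).symm
  mem _ := hU

lemma SB_obj_obj (Δ : SimplexCategory) (V : Lab B Δ) :
    ((SB B).obj (op Δ)).obj V = V.obj (𝟙 Δ) := rfl

lemma SB_map_f {Δ Δ' : SimplexCategory} (θ : Δ' ⟶ Δ) (V : Lab B Δ) :
    ((SB B).map θ.op).f V = V.restr θ := rfl

lemma SB_map_φ {Δ Δ' : SimplexCategory} (θ : Δ' ⟶ Δ) (V : Lab B Δ) :
    ((SB B).map θ.op).φ V = V.res (𝟙 Δ) θ := rfl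

/-- equal points have equal labelings and equal maps. -/
lemma pt_eq {W : D} {j : SimplexCategory}
    {x y : (FormalCoproduct.incl D).obj W ⟶ (SB B).obj (op j)} (h : x = y) :
    ∃ e : x.f PUnit.unit = y.f PUnit.unit,
      x.φ PUnit.unit ≫ eqToHom (congrArg (fun L : Lab B j => L.obj (𝟙 j)) e) = y.φ PUnit.unit := by
  subst h
  exact ⟨rfl, by simp⟩

end Groth.Agent.Lib.SingBH7
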