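import Mathlib
import Groth.Agent.Lib.SingB_helper7

set_option autoImplicit false
set_option linter.style.haveILetI false
set_option linter.unusedSectionVars false
set_option linter.unusedVariables false
set_option backward.isDefEq.respectTransparency false
set_option backward.isDefEq.respectTransparency.types false
set_option maxHeartbeats 1600000

/-! # Filling a boundary labeling with a cone -/

universe u

open CategoryTheory CategoryTheory.Limits Opposite Simplicial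

namespace Groth.Agent.Lib.SingFillH7

open Groth.Agent.Lib.SingBH7

attribute [local semireducible] SimplexCategory.Hom

variable {D : Type u} [SmallCategory D] (B : D → Prop) {Δ₀ : SimplexCategory}
  (P : ∀ {j : SimplexCategory}, (j ⟶ Δ₀) → Prop)

/-- a labeling of the cells satisfying `P` (a sieve of cells), with a cone over it. -/
structure Bdry where
  hP : ∀ {j j' : SimplexCategory} (σ : j ⟶ Δ₀) (θ : j' ⟶ j), P σ → P (θ ≫ σ)
  obj : ∀ {j : SimplexCategory} (σ : j ⟶ Δ₀), P σ → D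
  res : ∀ {j j' : SimplexCategory} (σ : j ⟶ Δ₀) (h : P σ) (θ : j' ⟶ j),
    obj σ h ⟶ obj (θ ≫ σ) (hP σ θ h)
  res_id : ∀ {j : SimplexCategory} (σ : j ⟶ Δ₀) (h : P σ), res σ h (𝟙 j) = 𝟙 (obj σ h)
  res_comp : ∀ {j j' j'' : SimplexCategory} (σ : j ⟶ Δ₀) (h : P σ) (θ : j' ⟶ j) (θ' : j'' ⟶ j'),
    res σ h (θ' ≫ θ) = res σ h θ ≫ res (θ ≫ σ) (hP σ θ h) θ'
  mem : ∀ {j : SimplexCategory} (σ : j ⟶ Δ₀) (h : P σ), B (obj σ h)
  apex : D
  apex_mem : B apex
  cone : ∀ {j : SimplexCategory} (σ : j ⟶ Δ₀) (h : P σ), apex ⟶ obj σ h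
  cone_res : ∀ {j j' : SimplexCategory} (σ : j ⟶ Δ₀) (h : P σ) (θ : j' ⟶ j),
    cone σ h ≫ res σ h θ = cone (θ ≫ σ) (hP σ θ h)

variable {B P}

namespace Bdry

variable (A : Bdry B P)

open Classical in
/-- the label of a cell in the filled labeling. -/
noncomputable def fobj {j : SimplexCategory} (σ : j ⟶ Δ₀) : D :=
  if h : P σ then A.obj σ h else A.apex

lemma fobj_pos {j : SimplexCategory} (σ : j ⟶ Δ₀) (h : P σ) : A.fobj σ = A.obj σ h := dif_pos h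

lemma fobj_neg {j : SimplexCategory} (σ : j ⟶ Δ₀) (h : ¬ P σ) : A.fobj σ = A.apex := dif_neg h

open Classical in
/-- the restriction maps of the filled labeling. -/
noncomputable def fres {j j' : SimplexCategory} (σ : j ⟶ Δ₀) (θ : j' ⟶ j) :
    A.fobj σ ⟶ A.fobj (θ ≫ σ) :=
  if h : P σ then
    eqToHom (A.fobj_pos σ h) ≫ A.res σ h θ ≫ eqToHom (A.fobj_pos (θ ≫ σ) (A.hP σ θ h)).symm
  else if h' : P (θ ≫ σ) then
    eqToHom (A.fobj_neg σ h) ≫ A.cone (θ ≫ σ) h' ≫ eqToHom (A.fobj_pos (θ ≫ σ) h').symm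
  else eqToHom (A.fobj_neg σ h) ≫ eqToHom (A.fobj_neg (θ ≫ σ) h').symm

lemma fres_pos {j j' : SimplexCategory} (σ : j ⟶ Δ₀) (θ : j' ⟶ j) (h : P σ) :
    A.fres σ θ =
      eqToHom (A.fobj_pos σ h) ≫ A.res σ h θ ≫
        eqToHom (A.fobj_pos (θ ≫ σ) (A.hP σ θ h)).symm := dif_pos h

lemma fres_neg_pos {j j' : SimplexCategory} (σ : j ⟶ Δ₀) (θ : j' ⟶ j) (h : ¬ P σ)
    (h' : P (θ ≫ σ)) :
    A.fres σ θ =
      eqToHom (A.fobj_neg σ h) ≫ A.cone (θ ≫ σ) h' ≫ eqToHom (A.fobj_pos (θ ≫ σ) h').symm := by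
  unfold fres
  rw [dif_neg h, dif_pos h']

lemma fres_neg_neg {j j' : SimplexCategory} (σ : j ⟶ Δ₀) (θ : j' ⟶ j) (h : ¬ P σ)
    (h' : ¬ P (θ ≫ σ)) :
    A.fres σ θ = eqToHom (A.fobj_neg σ h) ≫ eqToHom (A.fobj_neg (θ ≫ σ) h').symm := by
  unfold fres
  rw [dif_neg h, dif_neg h']

lemma fres_id {j : SimplexCategory} (σ : j ⟶ Δ₀) : A.fres σ (𝟙 j) = 𝟙 (A.fobj σ) := by
  by_cases h : P σ
  · have e0 := A.fres_pos σ (𝟙 j) h
    have e1 : A.res σ h (𝟙 j) = 𝟙 (A.obj σ h) := A.res_id σ h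
    rw [e0, e1]
    simp
  · have h' : ¬ P (𝟙 j ≫ σ) := h
    have e0 := A.fres_neg_neg σ (𝟙 j) h h'
    rw [e0]
    simp

lemma fres_comp {j j' j'' : SimplexCategory} (σ : j ⟶ Δ₀) (θ : j' ⟶ j) (θ' : j'' ⟶ j') :
    A.fres σ (θ' ≫ θ) = A.fres σ θ ≫ A.fres (θ ≫ σ) θ' := by
  by_cases h : P σ
  · have e0 := A.fres_pos σ (θ' ≫ θ) h
    have e1 := A.fres_pos σ θ h
    have e2 := A.fres_pos (θ ≫ σ) θ' (A.hP σ θ h)
    have e3 := A.res_comp σ h θ θ'
    rw [e0, e1, e2, e3]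
    simp
  · by_cases h' : P (θ ≫ σ)
    · have h'' : P ((θ' ≫ θ) ≫ σ) := A.hP (θ ≫ σ) θ' h'
      have e0 := A.fres_neg_pos σ (θ' ≫ θ) h h''
      have e1 := A.fres_neg_pos σ θ h h'
      have e2 := A.fres_pos (θ ≫ σ) θ' h'
      have e3 := A.cone_res (θ ≫ σ) h' θ'
      rw [e0, e1, e2]
      simp only [Category.assoc, eqToHom_trans_assoc, eqToHom_refl, Category.id_comp]
      rw [← Category.assoc (A.cone (θ ≫ σ) h'), e3]
      rfl
    · by_cases h'' : P ((θ' ≫ θ) ≫ σ)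
      · have e0 := A.fres_neg_pos σ (θ' ≫ θ) h h''
        have e1 := A.fres_neg_neg σ θ h h'
        have e2 := A.fres_neg_pos (θ ≫ σ) θ' h' h''
        rw [e0, e1, e2]
        simp only [Category.assoc, eqToHom_trans_assoc, eqToHom_refl, Category.id_comp]
        rfl
      · have e0 := A.fres_neg_neg σ (θ' ≫ θ) h h''
        have e1 := A.fres_neg_neg σ θ h h'
        have e2 := A.fres_neg_neg (θ ≫ σ) θ' h' h''
        rw [e0, e1, e2]
        simp only [Category.assoc, eqToHom_trans_assoc, eqToHom_refl, Category.id_comp]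

lemma fobj_mem {j : SimplexCategory} (σ : j ⟶ Δ₀) : B (A.fobj σ) := by
  by_cases h : P σ
  · rw [A.fobj_pos σ h]; exact A.mem σ h
  · rw [A.fobj_neg σ h]; exact A.apex_mem

/-- the filled labeling. -/
noncomputable def fill : Lab B Δ₀ where
  obj σ := A.fobj σ
  res σ θ := A.fres σ θ
  res_id σ := A.fres_id σ
  res_comp σ θ θ' := A.fres_comp σ θ θ'
  mem σ := A.fobj_mem σ

lemma fill_obj {j : SimplexCategory} (σ : j ⟶ Δ₀) : A.fill.obj σ = A.fobj σ := rfl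

lemma fill_res {j j' : SimplexCategory} (σ : j ⟶ Δ₀) (θ : j' ⟶ j) :
    A.fill.res σ θ = A.fres σ θ := rfl

end Bdry

end Groth.Agent.Lib.SingFillH7
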