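import Mathlib
import Groth.Agent.Lib.SingFill_helper7
import Groth.Agent.Lib.CoskXX_helper7
import Groth.Agent.Lib.CoskPt_helper7
import Groth.Agent.Lib.SRLift_helper7

set_option autoImplicit false
set_option linter.style.haveILetI false
set_option linter.unusedSectionVars false
set_option linter.unusedVariables false
set_option backward.isDefEq.respectTransparency false
set_option backward.isDefEq.respectTransparency.types false
set_option maxHeartbeats 1600000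

/-! # The object of `B`-labelings is a hypercovering when `B` covers -/

universe u

open CategoryTheory CategoryTheory.Limits Opposite Simplicial

namespace Groth.Agent.Lib.SingMainH7

open Groth.Agent.Lib.SingBH7 Groth.Agent.Lib.SingFillH7 Groth.Agent.Lib.CoskPrH7
  Groth.Agent.Lib.CoskXXH7 Groth.Agent.Lib.SRLiftH7 Groth.Agent.Lib.CoskPtH7

attribute [local semireducible] SimplexCategory.Hom

variable {D : Type u} [SmallCategory D]
  (B : D → Prop) (n : ℕ)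
  [∀ (F : (SimplexCategory.Truncated n)ᵒᵖ ⥤ FormalCoproduct.{u} D),
    (SimplexCategory.Truncated.inclusion n).op.HasRightKanExtension F]

section generic

variable {B}

lemma aux_comp {j j' j'' : SimplexCategory} (L : Lab B j) (L₁ : Lab B j') (L₂ : Lab B j'')
    (θ : j' ⟶ j) (θ' : j'' ⟶ j') (e₁ : L.restr θ = L₁) (e₂ : L₁.restr θ' = L₂)
    (e₃ : L.restr (θ' ≫ θ) = L₂) :
    L.res (𝟙 j) (θ' ≫ θ) ≫ eqToHom (congrArg (fun L' : Lab B j'' => L'.obj (𝟙 j'')) e₃) =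
      (L.res (𝟙 j) θ ≫ eqToHom (congrArg (fun L' : Lab B j' => L'.obj (𝟙 j')) e₁)) ≫
        (L₁.res (𝟙 j') θ' ≫ eqToHom (congrArg (fun L' : Lab B j'' => L'.obj (𝟙 j'')) e₂)) := by
  subst e₁
  subst e₂
  have h3 : eqToHom (congrArg (fun L' : Lab B j'' => L'.obj (𝟙 j'')) e₃) = 𝟙 _ :=
    eqToHom_refl _ _
  rw [h3]
  simp only [eqToHom_refl]
  have hL := L.res_comp (𝟙 j) θ θ'
  show L.res (𝟙 j) (θ' ≫ θ) ≫ 𝟙 _ = (L.res (𝟙 j) θ ≫ 𝟙 _) ≫ L.res (θ ≫ 𝟙 j) θ' ≫ 𝟙 _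
  rw [Category.comp_id (L.res (𝟙 j) (θ' ≫ θ)), Category.comp_id (L.res (𝟙 j) θ),
    Category.comp_id (L.res (θ ≫ 𝟙 j) θ')]
  exact hL

lemma aux_face {Δ' j j' : SimplexCategory} (Va : Lab B Δ') (σ : j ⟶ Δ') (θ : j' ⟶ j)
    (L₁ : Lab B j) (L₂ : Lab B j') (e₁ : L₁ = Va.restr σ) (e₂ : L₂ = Va.restr (θ ≫ σ))
    (e : L₁.restr θ = L₂) :
    L₁.res (𝟙 j) θ ≫ eqToHom (congrArg (fun L' : Lab B j' => L'.obj (𝟙 j')) e) =
      eqToHom (congrArg (fun L' : Lab B j => L'.obj (𝟙 j)) e₁) ≫ Va.res σ θ ≫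
        eqToHom (congrArg (fun L' : Lab B j' => L'.obj (𝟙 j')) e₂).symm := by
  subst e₁
  subst e₂
  have h3 : eqToHom (congrArg (fun L' : Lab B j' => L'.obj (𝟙 j')) e) = 𝟙 _ :=
    eqToHom_refl _ _
  rw [h3]
  simp only [eqToHom_refl, Category.id_comp]
  rfl

end generic

section point

variable {W : D} (t : (FormalCoproduct.incl D).obj W ⟶ (ck n (SB B)).obj (op ⦋n + 1⦌))

/-- cells of `Δ[n+1]` with image of dimension `≤ n`. -/
abbrev PP {j : SimplexCategory} (σ : j ⟶ ⦋n + 1⦌) : Prop := (image σ).len ≤ n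

lemma hPP {j j' : SimplexCategory} (σ : j ⟶ ⦋n + 1⦌) (θ : j' ⟶ j) (h : PP n σ) :
    PP n (θ ≫ σ) := le_trans (len_image_comp_le' σ θ) h

lemma not_PP_id : ¬ PP n (𝟙 ⦋n + 1⦌) := by
  intro h
  have fac : 𝟙 ⦋n + 1⦌ ≫ 𝟙 ⦋n + 1⦌ = 𝟙 ⦋n + 1⦌ := Category.id_comp _
  have h1 : image (𝟙 ⦋n + 1⦌) = ⦋n + 1⦌ := SimplexCategory.image_eq fac
  have h2 : (image (𝟙 ⦋n + 1⦌)).len = n + 1 := by rw [h1]
  have h3 : (image (𝟙 ⦋n + 1⦌)).len ≤ n := h
  omega

/-- the canonical point attached to a small cell. -/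
noncomputable def XX {j : SimplexCategory} (σ : j ⟶ ⦋n + 1⦌) (h : PP n σ) :
    (FormalCoproduct.incl D).obj W ⟶ (SB B).obj (op j) := xx n (SB B) t σ h

/-- its labeling. -/
noncomputable def LL {j : SimplexCategory} (σ : j ⟶ ⦋n + 1⦌) (h : PP n σ) : Lab B j :=
  (XX B n t σ h).f PUnit.unit

/-- its map. -/
noncomputable def cc {j : SimplexCategory} (σ : j ⟶ ⦋n + 1⦌) (h : PP n σ) :
    W ⟶ (LL B n t σ h).obj (𝟙 j) := (XX B n t σ h).φ PUnit.unit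

lemma XX_comp {j j' : SimplexCategory} (σ : j ⟶ ⦋n + 1⦌) (θ : j' ⟶ j) (h : PP n σ) :
    XX B n t σ h ≫ (SB B).map θ.op = XX B n t (θ ≫ σ) (hPP n σ θ h) :=
  (xx_comp n (SB B) t σ θ h (hPP n σ θ h)).symm

lemma LL_restr {j j' : SimplexCategory} (σ : j ⟶ ⦋n + 1⦌) (θ : j' ⟶ j) (h : PP n σ) :
    (LL B n t σ h).restr θ = LL B n t (θ ≫ σ) (hPP n σ θ h) :=
  congrArg (fun x : (FormalCoproduct.incl D).obj W ⟶ (SB B).obj (op j') => x.f PUnit.unit)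
    (XX_comp B n t σ θ h)

/-- restriction maps on the boundary. -/
noncomputable def bres {j j' : SimplexCategory} (σ : j ⟶ ⦋n + 1⦌) (h : PP n σ) (θ : j' ⟶ j) :
    (LL B n t σ h).obj (𝟙 j) ⟶ (LL B n t (θ ≫ σ) (hPP n σ θ h)).obj (𝟙 j') :=
  (LL B n t σ h).res (𝟙 j) θ ≫
    eqToHom (congrArg (fun L : Lab B j' => L.obj (𝟙 j')) (LL_restr B n t σ θ h))

lemma cc_bres {j j' : SimplexCategory} (σ : j ⟶ ⦋n + 1⦌) (h : PP n σ) (θ : j' ⟶ j) :
    cc B n t σ h ≫ bres B n t σ h θ = cc B n t (θ ≫ σ) (hPP n σ θ h) := by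
  obtain ⟨e, he⟩ := pt_eq (XX_comp B n t σ θ h)
  have he' : (cc B n t σ h ≫ (LL B n t σ h).res (𝟙 j) θ) ≫
      eqToHom (congrArg (fun L : Lab B j' => L.obj (𝟙 j')) e) =
      cc B n t (θ ≫ σ) (hPP n σ θ h) := he
  rw [← he']
  unfold bres
  rw [Category.assoc]

variable {W' : D} (hW' : B W') (s : W' ⟶ W)

/-- the boundary labeling with its cone. -/
noncomputable def bdry : Bdry B (fun {j : SimplexCategory} (σ : j ⟶ ⦋n + 1⦌) => PP n σ) where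
  hP σ θ h := hPP n σ θ h
  obj σ h := (LL B n t σ h).obj (𝟙 _)
  res σ h θ := bres B n t σ h θ
  res_id {j} σ h := by
    have e1 : (LL B n t σ h).res (𝟙 j) (𝟙 j) = 𝟙 _ := (LL B n t σ h).res_id (𝟙 j)
    show (LL B n t σ h).res (𝟙 j) (𝟙 j) ≫ eqToHom _ = 𝟙 _
    rw [e1]
    exact (Category.id_comp _).trans (eqToHom_refl _ _)
  res_comp σ h θ θ' :=
    aux_comp (LL B n t σ h) (LL B n t (θ ≫ σ) (hPP n σ θ h))
      (LL B n t (θ' ≫ θ ≫ σ) (hPP n (θ ≫ σ) θ' (hPP n σ θ h))) θ θ'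
      (LL_restr B n t σ θ h) (LL_restr B n t (θ ≫ σ) θ' (hPP n σ θ h))
      (LL_restr B n t σ (θ' ≫ θ) h)
  mem σ h := (LL B n t σ h).mem (𝟙 _)
  apex := W'
  apex_mem := hW'
  cone σ h := s ≫ cc B n t σ h
  cone_res σ h θ := by
    rw [Category.assoc, cc_bres]

lemma key_L {Δ' : SimplexCategory} (a : Δ' ⟶ ⦋n + 1⦌) (hk : Δ'.len ≤ n) {j : SimplexCategory}
    (σ : j ⟶ Δ') (hP : PP n (σ ≫ a)) :
    LL B n t (σ ≫ a) hP = ((t ≫ pr n (SB B) Δ' hk a).f PUnit.unit).restr σ :=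
  congrArg (fun x : (FormalCoproduct.incl D).obj W ⟶ (SB B).obj (op j) => x.f PUnit.unit)
    (xx_fac n (SB B) t Δ' hk a σ hP).symm

lemma PP_face {Δ' : SimplexCategory} (a : Δ' ⟶ ⦋n + 1⦌) (hk : Δ'.len ≤ n) {j : SimplexCategory}
    (σ : j ⟶ Δ') : PP n (σ ≫ a) := le_trans (len_image_comp_le a σ) hk

lemma face_obj {Δ' : SimplexCategory} (a : Δ' ⟶ ⦋n + 1⦌) (hk : Δ'.len ≤ n) {j : SimplexCategory}
    (σ : j ⟶ Δ') :
    ((bdry B n t hW' s).fill.restr a).obj σ = ((t ≫ pr n (SB B) Δ' hk a).f PUnit.unit).obj σ :=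
  ((bdry B n t hW' s).fobj_pos (σ ≫ a) (PP_face n a hk σ)).trans
    (congrArg (fun L' : Lab B j => L'.obj (𝟙 j)) (key_L B n t a hk σ (PP_face n a hk σ)))

lemma face_eq {Δ' : SimplexCategory} (a : Δ' ⟶ ⦋n + 1⦌) (hk : Δ'.len ≤ n) :
    (bdry B n t hW' s).fill.restr a = (t ≫ pr n (SB B) Δ' hk a).f PUnit.unit := by
  refine Lab.ext' _ _ (fun σ => face_obj B n t hW' s a hk σ) (fun {j j'} σ θ => ?_)
  have e0 := (bdry B n t hW' s).fres_pos (σ ≫ a) θ (PP_face n a hk σ)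
  have e1 := aux_face ((t ≫ pr n (SB B) Δ' hk a).f PUnit.unit) σ θ
    (LL B n t (σ ≫ a) (PP_face n a hk σ))
    (LL B n t (θ ≫ σ ≫ a) (hPP n (σ ≫ a) θ (PP_face n a hk σ)))
    (key_L B n t a hk σ (PP_face n a hk σ))
    (key_L B n t a hk (θ ≫ σ) (hPP n (σ ≫ a) θ (PP_face n a hk σ)))
    (LL_restr B n t (σ ≫ a) θ (PP_face n a hk σ))
  have e1' : (bdry B n t hW' s).res (σ ≫ a) (PP_face n a hk σ) θ = _ := e1
  show (bdry B n t hW' s).fres (σ ≫ a) θ = _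
  rw [e0, e1']
  simp only [Category.assoc, eqToHom_trans, eqToHom_trans_assoc]

include hW' in
/-- the explicit local lift. -/
theorem lift_spec :
    FormalCoproduct.Hom.fromIncl (Y := (SB B).obj (op ⦋n + 1⦌)) (bdry B n t hW' s).fill
        (eqToHom ((bdry B n t hW' s).fobj_neg (𝟙 ⦋n + 1⦌) (not_PP_id n)).symm) ≫
      ((SimplicialObject.coskAdj n).unit.app (SB B)).app (op ⦋n + 1⦌) =
        (FormalCoproduct.incl D).map s ≫ t := by
  have pf : W' = (bdry B n t hW' s).fobj (𝟙 ⦋n + 1⦌) :=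
    ((bdry B n t hW' s).fobj_neg (𝟙 ⦋n + 1⦌) (not_PP_id n)).symm
  refine pr_pt_ext n (SB B) _ _ (fun k hk a => ?_)
  rw [Category.assoc, unit_pr, Category.assoc]
  have hP : PP n (a ≫ 𝟙 ⦋n + 1⦌) := PP_face n a hk (𝟙 k)
  obtain ⟨e, he⟩ := pt_eq (xx_small n (SB B) t a hk hP)
  have he' : cc B n t (a ≫ 𝟙 ⦋n + 1⦌) hP ≫
      eqToHom (congrArg (fun L : Lab B k => L.obj (𝟙 k)) e) =
      (t ≫ pr n (SB B) k hk a).φ PUnit.unit := he
  refine FormalCoproduct.hom_ext (funext fun _ => face_eq B n t hW' s a hk) ?_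
  intro x
  cases x
  have e0 := (bdry B n t hW' s).fres_neg_pos (𝟙 ⦋n + 1⦌) a (not_PP_id n) hP
  have hφ : (FormalCoproduct.Hom.fromIncl (Y := (SB B).obj (op ⦋n + 1⦌))
      (bdry B n t hW' s).fill (eqToHom pf) ≫
      (SB B).map a.op).φ PUnit.unit = eqToHom pf ≫ (bdry B n t hW' s).fres (𝟙 ⦋n + 1⦌) a := rfl
  have hψ : ((FormalCoproduct.incl D).map s ≫ t ≫ pr n (SB B) k hk a).φ PUnit.unit =
      s ≫ (t ≫ pr n (SB B) k hk a).φ PUnit.unit := rfl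
  have hc : (bdry B n t hW' s).cone (a ≫ 𝟙 ⦋n + 1⦌) hP = s ≫ cc B n t (a ≫ 𝟙 ⦋n + 1⦌) hP := rfl
  rw [hφ, hψ, e0, hc, ← he']
  simp only [Category.assoc, eqToHom_trans, eqToHom_trans_assoc, eqToHom_refl, Category.id_comp]

include hW' in
/-- the local lift. -/
theorem lift_exists :
    ∃ z : (FormalCoproduct.incl D).obj W' ⟶ (SB B).obj (op ⦋n + 1⦌),
      z ≫ ((SimplicialObject.coskAdj n).unit.app (SB B)).app (op ⦋n + 1⦌) =
        (FormalCoproduct.incl D).map s ≫ t :=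
  ⟨_, lift_spec B n t hW' s⟩

end point

/-- if the objects of `B` cover, the comparison maps of `SB B` have the local lifting property. -/
theorem locLift_unit (J : GrothendieckTopology D)
    (hcov : ∀ (W : D) (S : Sieve W), (∀ (W' : D) (s : W' ⟶ W), B W' → S.arrows s) → S ∈ J W) :
    LocLift J (((SimplicialObject.coskAdj n).unit.app (SB B)).app (op ⦋n + 1⦌)) := by
  intro W t
  refine hcov W _ (fun W' s hW' => ?_)
  exact lift_exists B n t hW' s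

end Groth.Agent.Lib.SingMainH7
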