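import Mathlib
import Groth.Agent.Lib.SingMain_helper7
import Groth.Agent.Lib.CoskIdx_helper7

set_option autoImplicit false
set_option linter.style.haveILetI false
set_option linter.unusedSectionVars false
set_option linter.unusedVariables false
set_option backward.isDefEq.respectTransparency false
set_option backward.isDefEq.respectTransparency.types false
set_option maxHeartbeats 1600000

/-! # Hypercoverings with finitely many members, all in a class admitting finite coverings -/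

universe u

open CategoryTheory CategoryTheory.Limits Opposite Simplicial

namespace Groth.Agent.Lib.SingFinH7

open Groth.Agent.Lib.SingBH7 Groth.Agent.Lib.SingFillH7 Groth.Agent.Lib.CoskPrH7
  Groth.Agent.Lib.CoskXXH7 Groth.Agent.Lib.SRLiftH7 Groth.Agent.Lib.CoskPtH7
  Groth.Agent.Lib.SingMainH7 Groth.Agent.Lib.CoskIdxH7

attribute [local semireducible] SimplexCategory.Hom

variable {D : Type u} [SmallCategory D] (J' : GrothendieckTopology D) (B : D → Prop)

/-- chosen finite coverings by objects of `B`, and a finite base family. -/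
structure FinData where
  ι₀ : Type u
  fin₀ : Finite ι₀
  U₀ : ι₀ → D
  hU₀ : ∀ i, B (U₀ i)
  cι : D → Type u
  cfin : ∀ W, Finite (cι W)
  cobj : ∀ W, cι W → D
  cmap : ∀ W (i : cι W), cobj W i ⟶ W
  cmem : ∀ W (i : cι W), B (cobj W i)
  ccov : ∀ W, Sieve.ofArrows (cobj W) (cmap W) ∈ J' W

variable {J' B}
variable [∀ (n : ℕ) (F : (SimplexCategory.Truncated n)ᵒᵖ ⥤ FormalCoproduct.{u} D),
    (SimplexCategory.Truncated.inclusion n).op.HasRightKanExtension F]
variable (𝔡 : FinData J' B)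

/-- the tautological point of a component. -/
noncomputable def tb (r : ℕ) (b : ((ck r (SB B)).obj (op ⦋r + 1⦌)).I) :
    (FormalCoproduct.incl D).obj (((ck r (SB B)).obj (op ⦋r + 1⦌)).obj b) ⟶
      (ck r (SB B)).obj (op ⦋r + 1⦌) :=
  FormalCoproduct.Hom.fromIncl b (𝟙 _)

/-- the chosen filler. -/
noncomputable def gen (r : ℕ) (b : ((ck r (SB B)).obj (op ⦋r + 1⦌)).I)
    (i : 𝔡.cι (((ck r (SB B)).obj (op ⦋r + 1⦌)).obj b)) : Lab B ⦋r + 1⦌ :=
  (bdry B r (tb r b) (𝔡.cmem _ i) (𝔡.cmap _ i)).fill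

/-- the admissible labelings. -/
inductive Nice : ∀ {Δ : SimplexCategory}, Lab B Δ → Prop where
  /-- degeneracies of the base family. -/
  | base {Δ : SimplexCategory} (i : 𝔡.ι₀) (π : Δ ⟶ ⦋0⦌) :
      Nice ((constLab (𝔡.U₀ i) (𝔡.hU₀ i) ⦋0⦌).restr π)
  /-- degeneracies of the chosen fillers of admissible boundaries. -/
  | fill {Δ : SimplexCategory} (r : ℕ) (b : ((ck r (SB B)).obj (op ⦋r + 1⦌)).I)
      (hb : ∀ (k : SimplexCategory) (hk : k.len ≤ r) (a : k ⟶ ⦋r + 1⦌),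
        Nice ((pr r (SB B) k hk a).f b))
      (i : 𝔡.cι (((ck r (SB B)).obj (op ⦋r + 1⦌)).obj b)) (π : Δ ⟶ ⦋r + 1⦌) (hπ : Epi π) :
      Nice ((gen 𝔡 r b i).restr π)

lemma gen_face (r : ℕ) (b : ((ck r (SB B)).obj (op ⦋r + 1⦌)).I)
    (i : 𝔡.cι (((ck r (SB B)).obj (op ⦋r + 1⦌)).obj b)) {k : SimplexCategory} (hk : k.len ≤ r)
    (a : k ⟶ ⦋r + 1⦌) : (gen 𝔡 r b i).restr a = (pr r (SB B) k hk a).f b :=
  face_eq B r (tb r b) (𝔡.cmem _ i) (𝔡.cmap _ i) a hk

theorem Nice.restr {Δ : SimplexCategory} {V : Lab B Δ} (h : Nice 𝔡 V) :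
    ∀ {Δ' : SimplexCategory} (θ : Δ' ⟶ Δ), Nice 𝔡 (V.restr θ) := by
  induction h with
  | base i π =>
    intro Δ' θ
    exact Nice.base i (θ ≫ π)
  | fill r b hb i π hπ ih =>
    intro Δ' θ
    show Nice 𝔡 ((gen 𝔡 r b i).restr (θ ≫ π))
    by_cases hle : (image (θ ≫ π)).len ≤ r
    · have h1 : (gen 𝔡 r b i).restr (θ ≫ π) =
          ((pr r (SB B) (image (θ ≫ π)) hle (image.ι (θ ≫ π))).f b).restr
            (factorThruImage (θ ≫ π)) := by
        have h2 : factorThruImage (θ ≫ π) ≫ image.ι (θ ≫ π) = θ ≫ π := image.fac _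
        rw [← gen_face 𝔡 r b i hle (image.ι (θ ≫ π))]
        show _ = (gen 𝔡 r b i).restr (factorThruImage (θ ≫ π) ≫ image.ι (θ ≫ π))
        rw [h2]
      rw [h1]
      exact ih (image (θ ≫ π)) hle (image.ι (θ ≫ π)) (factorThruImage (θ ≫ π))
    · have h3 : (image (θ ≫ π)).len ≤ r + 1 := SimplexCategory.len_le_of_mono (image.ι (θ ≫ π))
      have h4 : (image (θ ≫ π)).len = (⦋r + 1⦌ : SimplexCategory).len := by
        show (image (θ ≫ π)).len = r + 1
        omega
      haveI : IsIso (image.ι (θ ≫ π)) := (SimplexCategory.isIso_iff_of_mono _).2 h4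
      have h5 : Epi (factorThruImage (θ ≫ π) ≫ image.ι (θ ≫ π)) := epi_comp _ _
      rw [image.fac] at h5
      exact Nice.fill r b hb i (θ ≫ π) h5

/-- the finite sub-object of `SB B`. -/
def KF : SimplicialObject (FormalCoproduct.{u} D) where
  obj Δ := ⟨{V : Lab B Δ.unop // Nice 𝔡 V}, fun V => V.1.obj (𝟙 Δ.unop)⟩
  map {Δ Δ'} θ := ⟨fun V => ⟨V.1.restr θ.unop, V.2.restr 𝔡 θ.unop⟩,
    fun V => V.1.res (𝟙 Δ.unop) θ.unop⟩
  map_id Δ := congrArg (FormalCoproduct.Hom.mk id) (funext fun V => V.1.res_id (𝟙 Δ.unop))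
  map_comp {Δ Δ' Δ''} θ θ' := congrArg (FormalCoproduct.Hom.mk _)
    (funext fun V => V.1.res_comp (𝟙 Δ.unop) θ.unop θ'.unop)

/-- the inclusion into `SB B`. -/
def inc : KF 𝔡 ⟶ SB B where
  app Δ := ⟨fun V => V.1, fun V => 𝟙 _⟩
  naturality Δ Δ' θ := congrArg (FormalCoproduct.Hom.mk _)
    (funext fun V => (Category.comp_id _).trans (Category.id_comp _).symm)

lemma inc_inj {W : D} {k : SimplexCategory}
    (x y : (FormalCoproduct.incl D).obj W ⟶ (KF 𝔡).obj (op k))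
    (h : x ≫ (inc 𝔡).app (op k) = y ≫ (inc 𝔡).app (op k)) : x = y := by
  obtain ⟨e, he⟩ := (FormalCoproduct.hom_ext_iff' _ _).1 h PUnit.unit
  have e1 : (x.f PUnit.unit).1 = (y.f PUnit.unit).1 := e
  have e' : x.f PUnit.unit = y.f PUnit.unit := Subtype.ext e1
  have he1 : (x.φ PUnit.unit ≫ 𝟙 _) ≫
      eqToHom (congrArg ((SB B).obj (op k)).obj e1) = y.φ PUnit.unit ≫ 𝟙 _ := he
  rw [Category.comp_id, Category.comp_id] at he1
  refine FormalCoproduct.hom_ext (funext fun _ => e') ?_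
  intro z
  cases z
  exact he1

end Groth.Agent.Lib.SingFinH7
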