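import Mathlib
import Groth.Agent.Lib.SingFin_helper7

set_option autoImplicit false
set_option linter.style.haveILetI false
set_option linter.unusedSectionVars false
set_option linter.unusedVariables false
set_option backward.isDefEq.respectTransparency false
set_option backward.isDefEq.respectTransparency.types false
set_option maxHeartbeats 1600000

/-! # The finite sub-object is a hypercovering with finite index sets -/

universe u

open CategoryTheory CategoryTheory.Limits Opposite Simplicial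

namespace Groth.Agent.Lib.SingFinH7

open Groth.Agent.Lib.SingBH7 Groth.Agent.Lib.SingFillH7 Groth.Agent.Lib.CoskPrH7
  Groth.Agent.Lib.CoskXXH7 Groth.Agent.Lib.SRLiftH7 Groth.Agent.Lib.CoskPtH7
  Groth.Agent.Lib.SingMainH7 Groth.Agent.Lib.CoskIdxH7

attribute [local semireducible] SimplexCategory.Hom

variable {D : Type u} [SmallCategory D] {J' : GrothendieckTopology D} {B : D → Prop}
variable [∀ (n : ℕ) (F : (SimplexCategory.Truncated n)ᵒᵖ ⥤ FormalCoproduct.{u} D),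
    (SimplexCategory.Truncated.inclusion n).op.HasRightKanExtension F]
variable (𝔡 : FinData J' B)

theorem locLift_unit_fin (n : ℕ) :
    LocLift J' (((SimplicialObject.coskAdj n).unit.app (KF 𝔡)).app (op ⦋n + 1⦌)) := by
  intro W t'
  let t : (FormalCoproduct.incl D).obj W ⟶ (ck n (SB B)).obj (op ⦋n + 1⦌) :=
    t' ≫ ((SimplicialObject.truncation n ⋙ SimplicialObject.Truncated.cosk n).map
      (inc 𝔡)).app (op ⦋n + 1⦌)
  let b : ((ck n (SB B)).obj (op ⦋n + 1⦌)).I := t.f PUnit.unit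
  let g : W ⟶ ((ck n (SB B)).obj (op ⦋n + 1⦌)).obj b := t.φ PUnit.unit
  have ht : t = (FormalCoproduct.incl D).map g ≫ tb n b := by
    refine FormalCoproduct.hom_ext (funext fun _ => rfl) (fun x => ?_)
    cases x
    have h1 : ((FormalCoproduct.incl D).map g ≫ tb n b).φ PUnit.unit = g ≫ 𝟙 _ := rfl
    rw [h1, Category.comp_id]
    simp
    rfl
  have htpr : ∀ (k : SimplexCategory) (hk : k.len ≤ n) (a : k ⟶ ⦋n + 1⦌),
      t ≫ pr n (SB B) k hk a = (t' ≫ pr n (KF 𝔡) k hk a) ≫ (inc 𝔡).app (op k) := by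
    intro k hk a
    show (t' ≫ _) ≫ _ = _
    rw [Category.assoc, map_pr, Category.assoc]
  have hb : ∀ (k : SimplexCategory) (hk : k.len ≤ n) (a : k ⟶ ⦋n + 1⦌),
      Nice 𝔡 ((pr n (SB B) k hk a).f b) := by
    intro k hk a
    have h2 := congrArg
      (fun x : (FormalCoproduct.incl D).obj W ⟶ (SB B).obj (op k) => x.f PUnit.unit)
      (htpr k hk a)
    have h3 : (pr n (SB B) k hk a).f b =
        ((t' ≫ pr n (KF 𝔡) k hk a).f PUnit.unit).1 := h2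
    rw [h3]
    exact ((t' ≫ pr n (KF 𝔡) k hk a).f PUnit.unit).2
  refine J'.superset_covering ?_ (J'.pullback_stable g (𝔡.ccov _))
  intro W'' h hh
  have hh' : (Sieve.ofArrows (𝔡.cobj _) (𝔡.cmap _)).arrows (h ≫ g) := hh
  obtain ⟨i, c, hc⟩ := (Sieve.mem_ofArrows_iff _ _ _).1 hh'
  have hV : Nice 𝔡 (gen 𝔡 n b i) := Nice.fill n b hb i (𝟙 ⦋n + 1⦌) inferInstance
  have pf : 𝔡.cobj _ i = (bdry B n (tb n b) (𝔡.cmem _ i) (𝔡.cmap _ i)).fobj (𝟙 ⦋n + 1⦌) :=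
    ((bdry B n (tb n b) (𝔡.cmem _ i) (𝔡.cmap _ i)).fobj_neg (𝟙 ⦋n + 1⦌) (not_PP_id n)).symm
  let z₀ : (FormalCoproduct.incl D).obj (𝔡.cobj _ i) ⟶ (SB B).obj (op ⦋n + 1⦌) :=
    FormalCoproduct.Hom.fromIncl (Y := (SB B).obj (op ⦋n + 1⦌)) (gen 𝔡 n b i) (eqToHom pf)
  have hz₀ : z₀ ≫ ((SimplicialObject.coskAdj n).unit.app (SB B)).app (op ⦋n + 1⦌) =
      (FormalCoproduct.incl D).map (𝔡.cmap _ i) ≫ tb n b :=
    lift_spec B n (tb n b) (𝔡.cmem _ i) (𝔡.cmap _ i)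
  let z : (FormalCoproduct.incl D).obj W'' ⟶ (KF 𝔡).obj (op ⦋n + 1⦌) :=
    FormalCoproduct.Hom.fromIncl (Y := (KF 𝔡).obj (op ⦋n + 1⦌)) ⟨gen 𝔡 n b i, hV⟩
      (c ≫ eqToHom pf)
  have hz : z ≫ (inc 𝔡).app (op ⦋n + 1⦌) = (FormalCoproduct.incl D).map c ≫ z₀ := by
    refine FormalCoproduct.hom_ext (funext fun _ => rfl) (fun x => ?_)
    cases x
    have h1 : (z ≫ (inc 𝔡).app (op ⦋n + 1⦌)).φ PUnit.unit = (c ≫ eqToHom pf) ≫ 𝟙 _ := rfl
    have h2 : ((FormalCoproduct.incl D).map c ≫ z₀).φ PUnit.unit = c ≫ eqToHom pf := rfl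
    rw [h1, h2, Category.comp_id]
    simp
  refine ⟨z, ?_⟩
  refine pr_pt_ext n (KF 𝔡) _ _ (fun k hk a => ?_)
  apply inc_inj
  have nat : (KF 𝔡).map a.op ≫ (inc 𝔡).app (op k) =
      (inc 𝔡).app (op ⦋n + 1⦌) ≫ (SB B).map a.op := (inc 𝔡).naturality a.op
  have eL : ((z ≫ ((SimplicialObject.coskAdj n).unit.app (KF 𝔡)).app (op ⦋n + 1⦌)) ≫
      pr n (KF 𝔡) k hk a) ≫ (inc 𝔡).app (op k) =
      (FormalCoproduct.incl D).map h ≫ t ≫ pr n (SB B) k hk a := by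
    have hu : (z ≫ ((SimplicialObject.coskAdj n).unit.app (KF 𝔡)).app (op ⦋n + 1⦌)) ≫
        pr n (KF 𝔡) k hk a = z ≫ (KF 𝔡).map a.op := by
      rw [Category.assoc, unit_pr]
    rw [hu, Category.assoc, nat, ← Category.assoc, hz, Category.assoc]
    have e1 : z₀ ≫ (SB B).map a.op =
        ((FormalCoproduct.incl D).map (𝔡.cmap _ i) ≫ tb n b) ≫ pr n (SB B) k hk a := by
      rw [← hz₀, Category.assoc, unit_pr]
    rw [e1, ← Category.assoc, ← Category.assoc, ← Functor.map_comp, ← hc, Functor.map_comp,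
      Category.assoc, Category.assoc, ← Category.assoc ((FormalCoproduct.incl D).map g), ← ht]
  have eR : (((FormalCoproduct.incl D).map h ≫ t') ≫ pr n (KF 𝔡) k hk a) ≫
      (inc 𝔡).app (op k) = (FormalCoproduct.incl D).map h ≫ t ≫ pr n (SB B) k hk a := by
    rw [htpr k hk a]
    simp only [Category.assoc]
  rw [eL, eR]

section Finiteness

instance finite_hom (a b : SimplexCategory) : Finite (a ⟶ b) :=
  Finite.of_injective
    (fun f : a ⟶ b => (f.toOrderHom : Fin (a.len + 1) → Fin (b.len + 1)))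
    (fun f g h => SimplexCategory.Hom.ext _ _ (DFunLike.coe_injective h))

/-- admissible labelings. -/
abbrev NiceSet (Δ : SimplexCategory) : Type u := {V : Lab B Δ // Nice 𝔡 V}

/-- components of the matching object with admissible boundary. -/
def NB (r : ℕ) : Type u :=
  {b : ((ck r (SB B)).obj (op ⦋r + 1⦌)).I //
    ∀ (k : SimplexCategory) (hk : k.len ≤ r) (a : k ⟶ ⦋r + 1⦌),
      Nice 𝔡 ((pr r (SB B) k hk a).f b)}

lemma finite_NB [HasPullbacks D] [HasTerminal D] (r : ℕ)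
    (h : ∀ k : ℕ, k ≤ r → Finite (NiceSet 𝔡 ⦋k⦌)) : Finite (NB 𝔡 r) := by
  let f : NB 𝔡 r → (∀ p : (Σ k : Fin (r + 1), (⦋k.1⦌ ⟶ ⦋r + 1⦌)), NiceSet 𝔡 ⦋p.1.1⦌) :=
    fun b p => ⟨(pr r (SB B) ⦋p.1.1⦌ (Nat.lt_succ_iff.1 p.1.2) p.2).f b.1, b.2 _ _ _⟩
  haveI : ∀ p : (Σ k : Fin (r + 1), (⦋k.1⦌ ⟶ ⦋r + 1⦌)), Finite (NiceSet 𝔡 ⦋p.1.1⦌) :=
    fun p => h p.1.1 (Nat.lt_succ_iff.1 p.1.2)
  apply Finite.of_injective f
  intro b b' hbb
  apply Subtype.ext
  apply ck_index_inj r (SB B)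
  intro k hk a
  have h1 := congrArg (fun F => (F ⟨⟨k.len, Nat.lt_succ_of_le hk⟩, a⟩).1) hbb
  exact h1

/-- codes for admissible labelings. -/
def Code (Δ : SimplexCategory) : Type u :=
  (𝔡.ι₀ × (Δ ⟶ ⦋0⦌)) ⊕
    (Σ r : Fin Δ.len, Σ b : NB 𝔡 r.1,
      (𝔡.cι (((ck r.1 (SB B)).obj (op ⦋r.1 + 1⦌)).obj b.1) × {π : Δ ⟶ ⦋r.1 + 1⦌ // Epi π}))

/-- decoding. -/
noncomputable def decode (Δ : SimplexCategory) : Code 𝔡 Δ → NiceSet 𝔡 Δ := fun c =>
  match c with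
  | Sum.inl p => ⟨(constLab (𝔡.U₀ p.1) (𝔡.hU₀ p.1) ⦋0⦌).restr p.2, Nice.base p.1 p.2⟩
  | Sum.inr ⟨r, b, q⟩ => ⟨(gen 𝔡 r.1 b.1 q.1).restr q.2.1, Nice.fill r.1 b.1 b.2 q.1 q.2.1 q.2.2⟩

lemma decode_surjective (Δ : SimplexCategory) : Function.Surjective (decode 𝔡 Δ) := by
  rintro ⟨V, hV⟩
  cases hV with
  | base i π => exact ⟨Sum.inl (i, π), rfl⟩
  | fill r b hb i π hπ =>
    haveI := hπ
    have hr : r < Δ.len := by
      have h1 : (⦋r + 1⦌ : SimplexCategory).len ≤ Δ.len := SimplexCategory.len_le_of_epi π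
      have h2 : (⦋r + 1⦌ : SimplexCategory).len = r + 1 := rfl
      omega
    exact ⟨Sum.inr ⟨⟨r, hr⟩, ⟨b, hb⟩, (i, ⟨π, hπ⟩)⟩, rfl⟩

theorem finite_nice [HasPullbacks D] [HasTerminal D] (n : ℕ) : Finite (NiceSet 𝔡 ⦋n⦌) := by
  induction n using Nat.strong_induction_on with
  | _ n ih =>
    haveI := 𝔡.fin₀
    haveI : ∀ W, Finite (𝔡.cι W) := 𝔡.cfin
    haveI : ∀ r : Fin (⦋n⦌ : SimplexCategory).len, Finite (NB 𝔡 r.1) :=
      fun r => finite_NB 𝔡 r.1 (fun k hk => ih k (lt_of_le_of_lt hk r.2))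
    haveI : Finite (Code 𝔡 ⦋n⦌) := by
      unfold Code
      infer_instance
    exact Finite.of_surjective (decode 𝔡 ⦋n⦌) (decode_surjective 𝔡 ⦋n⦌)

end Finiteness

end Groth.Agent.Lib.SingFinH7
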