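import Mathlib
import Groth.Agent.Lib.SingFin2_helper7

set_option autoImplicit false
set_option linter.style.haveILetI false
set_option linter.unusedSectionVars false
set_option linter.unusedVariables false
set_option backward.isDefEq.respectTransparency false
set_option backward.isDefEq.respectTransparency.types false
set_option maxHeartbeats 1600000

/-! # Existence of hypercoverings with finitely many members in a class with finite coverings -/

universe u

open CategoryTheory CategoryTheory.Limits Opposite Simplicial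

namespace Groth.Agent.Lib.SingFinH7

open Groth.Agent.Lib.SingBH7 Groth.Agent.Lib.SRLiftH7

theorem main896 {C : Type u} [SmallCategory C] [HasPullbacks C]
    (J : GrothendieckTopology C) (B : Set C)
    (h2 : ∀ X : C, ∃ (ι : Type u) (_ : Finite ι) (U : ι → C) (f : ∀ i, U i ⟶ X),
      Sieve.ofArrows U f ∈ J X ∧ ∀ i, U i ∈ B)
    (X : C) [∀ (n : ℕ) (F : (SimplexCategory.Truncated n)ᵒᵖ ⥤ Limits.FormalCoproduct.{u} (Over X)),
      (SimplexCategory.Truncated.inclusion n).op.HasRightKanExtension F] :
    ∃ K : SimplicialObject (FormalCoproduct.{u} (Over X)), Hyper.IsHypercovering J X K ∧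
      ∀ n : ℕ, Finite (K.obj (op (SimplexCategory.mk n))).I ∧
        ∀ i, ((K.obj (op (SimplexCategory.mk n))).obj i).left ∈ B := by
  choose ι hfin U f hcov hU using h2
  let 𝔡 : FinData (J.over X) (fun Y : Over X => Y.left ∈ B) :=
    { ι₀ := ι X
      fin₀ := hfin X
      U₀ := fun i => Over.mk (f X i)
      hU₀ := fun i => hU X i
      cι := fun W => ι W.left
      cfin := fun W => hfin W.left
      cobj := fun W i => Over.mk (f W.left i ≫ W.hom)
      cmap := fun W i => Over.homMk (f W.left i)
      cmem := fun W i => hU W.left i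
      ccov := fun W => by
        rw [GrothendieckTopology.mem_over_iff]
        refine J.superset_covering ?_ (hcov W.left)
        intro Y g hg
        obtain ⟨i, c, hc⟩ := (Sieve.mem_ofArrows_iff _ _ _).1 hg
        have h3 : (Sieve.overEquiv W (Sieve.ofArrows (fun i => Over.mk (f W.left i ≫ W.hom))
            (fun i => (Over.homMk (f W.left i) : Over.mk (f W.left i ≫ W.hom) ⟶ W)))).arrows
            (f W.left i) := by
          rw [Sieve.overEquiv_iff]
          exact Sieve.ofArrows_mk _ _ i
        rw [hc]
        exact (Sieve.overEquiv W _).downward_closed h3 c }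
  refine ⟨KF 𝔡, ⟨?_, fun n => ?_⟩, fun n => ⟨?_, fun i => i.1.mem (𝟙 _)⟩⟩
  · refine J.superset_covering ?_ (hcov X)
    intro Y g hg
    obtain ⟨i, c, hc⟩ := (Sieve.mem_ofArrows_iff _ _ _).1 hg
    have hN : Nice 𝔡 (constLab (B := fun Y : Over X => Y.left ∈ B) (Over.mk (f X i)) (hU X i) ⦋0⦌) :=
      Nice.base (𝔡 := 𝔡) i (𝟙 ⦋0⦌)
    exact (Sieve.mem_ofArrows_iff _ _ _).2 ⟨⟨_, hN⟩, c, hc⟩
  · exact srcov_of_locLift (J.over X) _ (locLift_unit_fin 𝔡 n)
  · exact finite_nice 𝔡 n

end Groth.Agent.Lib.SingFinH7
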