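import Mathlib
import Groth.Agent.Lib.SingMain_helper7
import Groth.Agent.Lib.Refine_helper7

set_option autoImplicit false
set_option linter.style.haveILetI false
set_option linter.unusedSectionVars false
set_option linter.unusedVariables false
set_option backward.isDefEq.respectTransparency false
set_option backward.isDefEq.respectTransparency.types false
set_option maxHeartbeats 1600000

/-! # Existence of hypercoverings with members in a covering class -/

universe u

open CategoryTheory CategoryTheory.Limits Opposite Simplicial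

namespace Groth.Agent.Lib.SingFinalH7

open Groth.Agent.Lib.SingBH7 Groth.Agent.Lib.SingMainH7 Groth.Agent.Lib.SRLiftH7
  Groth.Agent.Lib.RefineH7

theorem main6506 {C : Type u} [SmallCategory C] [HasPullbacks C]
    (J : GrothendieckTopology C) (B : Set C)
    (h1 : ∀ U : C, ∃ (ι : Type u) (V : ι → C) (f : ∀ i, V i ⟶ U),
      Sieve.ofArrows V f ∈ J U ∧ ∀ i, V i ∈ B)
    (X : C) [∀ (n : ℕ) (F : (SimplexCategory.Truncated n)ᵒᵖ ⥤ Limits.FormalCoproduct.{u} (Over X)),
      (SimplexCategory.Truncated.inclusion n).op.HasRightKanExtension F] :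
    ∃ K : SimplicialObject (FormalCoproduct.{u} (Over X)), Hyper.IsHypercovering J X K ∧
      ∀ (n : ℕ) (i : (K.obj (op (SimplexCategory.mk n))).I),
        ((K.obj (op (SimplexCategory.mk n))).obj i).left ∈ B := by
  refine ⟨SB (fun Y : Over X => Y.left ∈ B), ⟨?_, fun n => ?_⟩, fun n i => i.mem (𝟙 _)⟩
  · obtain ⟨ι, V, f, hcov, hV⟩ := h1 X
    refine J.superset_covering ?_ hcov
    intro Y g hg
    obtain ⟨i, c, hc⟩ := (Sieve.mem_ofArrows_iff _ _ _).1 hg
    exact (Sieve.mem_ofArrows_iff _ _ _).2
      ⟨constLab (B := fun Y : Over X => Y.left ∈ B) (Over.mk (f i)) (hV i) ⦋0⦌, c, hc⟩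
  · apply srcov_of_locLift
    apply locLift_unit
    intro W S hS
    rw [GrothendieckTopology.mem_over_iff]
    obtain ⟨ι, V, f, hcov, hV⟩ := h1 W.left
    refine J.superset_covering ?_ hcov
    intro Y g hg
    obtain ⟨i, c, hc⟩ := (Sieve.mem_ofArrows_iff _ _ _).1 hg
    have h2 : (Sieve.overEquiv W S).arrows (f i) := by
      rw [Sieve.overEquiv_iff]
      exact hS (Over.mk (f i ≫ W.hom)) (Over.homMk (f i)) (hV i)
    rw [hc]
    exact (Sieve.overEquiv W S).downward_closed h2 c

end Groth.Agent.Lib.SingFinalH7
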