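import Mathlib
import Groth.Agent.Lib.SingMain_helper7
import Groth.Agent.Lib.HyperSiteOver_lead

set_option autoImplicit false
set_option linter.style.haveILetI false
set_option linter.unusedSectionVars false
set_option linter.unusedVariables false
set_option linter.unusedSimpArgs false
set_option linter.unnecessarySimpa false
set_option backward.isDefEq.respectTransparency false
set_option backward.isDefEq.respectTransparency.types false
set_option backward.defeqAttrib.useBackward true
set_option maxHeartbeats 1600000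

/-! # Hypercoverings of the final object of the topos with members in a covering class -/

universe u

open CategoryTheory CategoryTheory.Limits Opposite Simplicial

namespace Groth.Agent.Lib.SingSiteH7

open Groth.Agent.Lib.SingBH7 Groth.Agent.Lib.SingMainH7 Groth.Agent.Lib.SRLiftH7
  Groth.Agent.Lib.HyperSiteL Groth.Agent.Lib.HyperH0L

variable {D₀ : Type u} [SmallCategory D₀] (J' : GrothendieckTopology D₀)
  [∀ (n : ℕ) (F : (SimplexCategory.Truncated n)ᵒᵖ ⥤ FormalCoproduct.{u} D₀),
      (SimplexCategory.Truncated.inclusion n).op.HasRightKanExtension F]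
  (K : SimplicialObject (FormalCoproduct.{u} D₀))

theorem cond1_gen
    (h0 : ∀ w : D₀, ∀ S : Sieve w,
      (∀ (w' : D₀) (t : w' ⟶ w),
        (∃ a : (FormalCoproduct.incl D₀).obj w' ⟶ K.obj (op (SimplexCategory.mk 0)), True) →
          S.arrows t) → S ∈ J' w) :
    Presheaf.IsLocallySurjective J'
      (terminal.from (FormalCoproduct.yoneda.obj (K.obj (op (SimplexCategory.mk 0))))) := by
  constructor
  intro w s
  refine h0 w _ (fun w' t ht => ?_)
  obtain ⟨a, -⟩ := ht
  haveI := subsingleton_terminal_obj (D₀ := D₀) w'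
  refine ⟨toY (K.obj (op (SimplexCategory.mk 0))) w' a, ?_⟩
  apply Subsingleton.elim

theorem cond2_gen
    (hsr : Hyper.IsSRCovering J' ((un K).app (op (SimplexCategory.mk 1)))) :
    Presheaf.IsLocallySurjective J'
      (prod.lift (FormalCoproduct.yoneda.map (K.δ (1 : Fin 2)))
        (FormalCoproduct.yoneda.map (K.δ (0 : Fin 2)))) := by
  constructor
  intro w s
  obtain ⟨a, ha⟩ := toY_surj (K.obj (op (SimplexCategory.mk 0))) w
    ((Limits.prod.fst (X := (yo (D₀ := D₀)).obj (K.obj (op (SimplexCategory.mk 0))))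
      (Y := (yo (D₀ := D₀)).obj (K.obj (op (SimplexCategory.mk 0))))).app (op w) s)
  obtain ⟨b, hb⟩ := toY_surj (K.obj (op (SimplexCategory.mk 0))) w
    ((Limits.prod.snd (X := (yo (D₀ := D₀)).obj (K.obj (op (SimplexCategory.mk 0))))
      (Y := (yo (D₀ := D₀)).obj (K.obj (op (SimplexCategory.mk 0))))).app (op w) s)
  obtain ⟨l, hl⟩ := cosk0_cor K w a b
  refine J'.superset_covering ?_
    (J'.pullback_stable (l.φ PUnit.unit) (hsr (l.f PUnit.unit)))
  intro w' t ht
  obtain ⟨i', d, hd'⟩ := (Sieve.mem_ofArrows_iff _ _ _).1 ht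
  let τ : (FormalCoproduct.incl D₀).obj w' ⟶ (FormalCoproduct.incl D₀).obj w :=
    (FormalCoproduct.incl D₀).map t
  let c' : (FormalCoproduct.incl D₀).obj w' ⟶ K.obj (op (SimplexCategory.mk 1)) :=
    FormalCoproduct.Hom.fromIncl i'.1 d
  have hc : c' ≫ (un K).app (op (SimplexCategory.mk 1)) = τ ≫ l := by
    refine FormalCoproduct.hom_ext (funext fun _ => i'.2) ?_
    rintro ⟨⟩
    have := hd'.symm
    simpa [c', τ] using this
  obtain ⟨h1, h2⟩ := hl _ τ c' hc
  refine ⟨toY (K.obj (op (SimplexCategory.mk 1))) w' c', ?_⟩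
  apply prod_ext_elem
  · have e1 := congrArg (fun m => m.app (op w') (toY (K.obj (op (SimplexCategory.mk 1))) w' c'))
      (prod.lift_fst (FormalCoproduct.yoneda.map (K.δ (1 : Fin 2)))
        (FormalCoproduct.yoneda.map (K.δ (0 : Fin 2))))
    have e2 := congrArg (fun m => m s)
      ((Limits.prod.fst (X := (yo (D₀ := D₀)).obj (K.obj (op (SimplexCategory.mk 0))))
        (Y := (yo (D₀ := D₀)).obj (K.obj (op (SimplexCategory.mk 0))))).naturality t.op)
    refine e1.trans (Eq.trans ?_ ((congrArg (fun z =>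
      ((yo (D₀ := D₀)).obj (K.obj (op (SimplexCategory.mk 0)))).map t.op z) ha).trans e2.symm))
    show ((yo (D₀ := D₀)).map (K.δ (1 : Fin 2))).app (op w')
        (toY (K.obj (op (SimplexCategory.mk 1))) w' c') =
      ((yo (D₀ := D₀)).obj (K.obj (op (SimplexCategory.mk 0)))).map t.op
        (toY (K.obj (op (SimplexCategory.mk 0))) w a)
    rw [toY_map, toY_res]
    exact congrArg _ h1.symm
  · have e1 := congrArg (fun m => m.app (op w') (toY (K.obj (op (SimplexCategory.mk 1))) w' c'))
      (prod.lift_snd (FormalCoproduct.yoneda.map (K.δ (1 : Fin 2)))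
        (FormalCoproduct.yoneda.map (K.δ (0 : Fin 2))))
    have e2 := congrArg (fun m => m s)
      ((Limits.prod.snd (X := (yo (D₀ := D₀)).obj (K.obj (op (SimplexCategory.mk 0))))
        (Y := (yo (D₀ := D₀)).obj (K.obj (op (SimplexCategory.mk 0))))).naturality t.op)
    refine e1.trans (Eq.trans ?_ ((congrArg (fun z =>
      ((yo (D₀ := D₀)).obj (K.obj (op (SimplexCategory.mk 0)))).map t.op z) hb).trans e2.symm))
    show ((yo (D₀ := D₀)).map (K.δ (0 : Fin 2))).app (op w')
        (toY (K.obj (op (SimplexCategory.mk 1))) w' c') =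
      ((yo (D₀ := D₀)).obj (K.obj (op (SimplexCategory.mk 0)))).map t.op
        (toY (K.obj (op (SimplexCategory.mk 0))) w b)
    rw [toY_map, toY_res]
    exact congrArg _ h2.symm

theorem main939 {C : Type u} [SmallCategory C]
    (J : GrothendieckTopology C) (B : Set C)
    (hB : ∀ U : C, ∃ (ι : Type u) (Y : ι → C) (f : ∀ i, Y i ⟶ U),
      Sieve.ofArrows Y f ∈ J U ∧ ∀ i, Y i ∈ B)
    [∀ (n : ℕ) (F : (SimplexCategory.Truncated n)ᵒᵖ ⥤ Limits.FormalCoproduct.{u} C),
      (SimplexCategory.Truncated.inclusion n).op.HasRightKanExtension F] :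
    ∃ K : SimplicialObject (FormalCoproduct.{u} C), Hyper.IsHypercoveringSite J K ∧
      ∀ (n : ℕ) (i : (K.obj (op (SimplexCategory.mk n))).I),
        (K.obj (op (SimplexCategory.mk n))).obj i ∈ B := by
  have hcov : ∀ (W : C) (S : Sieve W),
      (∀ (W' : C) (s : W' ⟶ W), W' ∈ B → S.arrows s) → S ∈ J W := by
    intro W S hS
    obtain ⟨ι, Y, f, hc, hY⟩ := hB W
    refine J.superset_covering ?_ hc
    intro Z g hg
    obtain ⟨i, c, hc'⟩ := (Sieve.mem_ofArrows_iff _ _ _).1 hg
    rw [hc']
    exact S.downward_closed (hS (Y i) (f i) (hY i)) c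
  have hsr : ∀ n : ℕ, Hyper.IsSRCovering J
      (((SimplicialObject.coskAdj n).unit.app (SB (fun U : C => U ∈ B))).app (op ⦋n + 1⦌)) :=
    fun n => srcov_of_locLift J _ (locLift_unit (fun U : C => U ∈ B) n J hcov)
  refine ⟨SB (fun U : C => U ∈ B), ⟨?_, ?_, fun n _ => ?_⟩, fun n i => i.mem (𝟙 _)⟩
  · apply cond1_gen
    intro w S hS
    apply hcov
    intro W' s hW'
    exact hS W' s ⟨FormalCoproduct.Hom.fromIncl
      (constLab (B := fun U : C => U ∈ B) W' hW' ⦋0⦌) (𝟙 W'), trivial⟩
  · exact cond2_gen J _ (hsr 0)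
  · exact locSurj_of_srcov J _ (hsr n)

end Groth.Agent.Lib.SingSiteH7
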