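import Mathlib
import Groth.Prelude.Def_SiteCmp
import Groth.Agent.Lib.DerAdj1_lead
import Groth.Agent.Lib.SheafOfModulesGrothendieck_helper2

/-!
# The derived adjunction `f^* ⊣ Rf_*` for a flat morphism of ringed sites (helper7)
(adaptation of lead's `DerAdjL.nonempty_adj`: the exact functor `f^*` is its own left derived
functor, absolutely)
-/

set_option backward.isDefEq.respectTransparency false
set_option backward.isDefEq.respectTransparency.types false
set_option backward.defeqAttrib.useBackward true
set_option linter.style.haveILetI false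
set_option linter.unusedSectionVars false
set_option linter.unusedVariables false
set_option autoImplicit false
set_option maxHeartbeats 1600000
universe u
open CategoryTheory CategoryTheory.Limits Opposite

namespace Groth.Agent.Lib.SiteAdjH7

attribute [local instance] HasDerivedCategory.standard

variable {C : Type u} [SmallCategory C] {J : GrothendieckTopology C} {O_C : Sheaf J CommRingCat.{u}}
  {D : Type u} [SmallCategory D] {K : GrothendieckTopology D} {O_D : Sheaf K CommRingCat.{u}}

/-- the unit of the total right derived functor of `f_*` is invertible on K-injective objects -/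
theorem isIso_unit_of_rightOrthogonal (f : ModSite.RMor O_C O_D) [SiteCmp.HasRpushD f]
    (X : HomotopyCategory (ModSite.Mod O_C) (ComplexShape.up ℤ))
    (hX : (HomotopyCategory.subcategoryAcyclic (ModSite.Mod O_C)).rightOrthogonal X) :
    IsIso (((SiteCmp.pushKh f).totalRightDerivedUnit DerivedCategory.Qh
      (HomotopyCategory.quasiIso (ModSite.Mod O_C) (ComplexShape.up ℤ))).app X) := by
  haveI := Groth.Agent.Lib.FunctorialInjective.isGrothendieckAbelian_sheafOfModules J
    (ModSite.ringSh O_C)
  exact (OrthDeriv.main (P := HomotopyCategory.subcategoryAcyclic (ModSite.Mod O_C))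
    (HomotopyCategory.quasiIso (ModSite.Mod O_C) (ComplexShape.up ℤ))
    (HomotopyCategory.quasiIso_eq_trW_subcategoryAcyclic (ModSite.Mod O_C))
    Groth.Agent.Lib.KInjGen8.hP DerivedCategory.Qh (SiteCmp.pushKh f)).2 X hX

/-- **the derived adjunction `f^* ⊣ Rf_*` for flat `f`** -/
theorem nonempty_adj (f : ModSite.RMor O_C O_D) [PreservesFiniteLimits f.pull]
    [SiteCmp.HasRpushD f] :
    Nonempty (SiteCmp.pullD f ⊣ SiteCmp.RpushD f) := by
  haveI := Groth.Agent.Lib.FunctorialInjective.isGrothendieckAbelian_sheafOfModules J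
    (ModSite.ringSh O_C)
  let W₁ := HomotopyCategory.quasiIso (ModSite.Mod O_D) (ComplexShape.up ℤ)
  let W₂ := HomotopyCategory.quasiIso (ModSite.Mod O_C) (ComplexShape.up ℤ)
  let e := f.pull.mapDerivedCategoryFactorsh
  let β := (SiteCmp.pushKh f).totalRightDerivedUnit DerivedCategory.Qh W₂
  haveI h1 : (SiteCmp.pullD f).IsLeftDerivedFunctor e.hom W₁ :=
    Functor.isLeftDerivedFunctor_of_inverts W₁ _ e
  haveI h2 : (SiteCmp.pullD f ⋙ SiteCmp.RpushD f).IsLeftDerivedFunctor
      ((Functor.associator _ _ _).inv ≫ Functor.whiskerRight e.hom (SiteCmp.RpushD f)) W₁ :=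
    Functor.isLeftDerivedFunctor_of_inverts W₁ _
      ((Functor.associator _ _ _).symm ≪≫ Functor.isoWhiskerRight e (SiteCmp.RpushD f))
  haveI h3 : (SiteCmp.RpushD f ⋙ SiteCmp.pullD f).IsRightDerivedFunctor
      (Functor.whiskerRight β (SiteCmp.pullD f) ≫ (Functor.associator _ _ _).hom) W₂ := by
    refine Groth.Agent.Lib.BCOpenL.isRightDerivedFunctor_of_isIso_on
      (P := HomotopyCategory.subcategoryAcyclic (ModSite.Mod O_C)) W₂
      (HomotopyCategory.quasiIso_eq_trW_subcategoryAcyclic (ModSite.Mod O_C))
      Groth.Agent.Lib.KInjGen8.hP DerivedCategory.Qh _ _ _ ?_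
    intro X hX
    haveI := isIso_unit_of_rightOrthogonal f X hX
    have e' : (Functor.whiskerRight β (SiteCmp.pullD f) ≫ (Functor.associator _ _ _).hom).app X =
        (SiteCmp.pullD f).map (β.app X) := by
      rw [NatTrans.comp_app, Functor.whiskerRight_app, Functor.associator_hom_app]
      exact Category.comp_id _
    rw [e']
    infer_instance
  exact ⟨(Groth.Agent.Lib.DerAdjL.adjH f.adj (ComplexShape.up ℤ)).derived W₁ W₂ e.hom β⟩

end Groth.Agent.Lib.SiteAdjH7
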