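import Mathlib
import Groth.Agent.Lib.SiteCmpRes_helper7

/-!
# Lemma A for the comparison of two topologies (helper7)
-/

set_option autoImplicit false
universe u
open CategoryTheory Limits Opposite

namespace Groth.Agent.Lib.SiteCmpA_helper7

open Groth.Agent.Lib.SiteCmpRes_helper7

variable {C : Type u} [SmallCategory C] (K J : GrothendieckTopology C) {X Y : C} (f : X ⟶ Y)
  [HasPullbacksAlong f]

/-- the presheaf `V ↦ H^k(V ×_Y X, F')` on `Over Y` -/
noncomputable abbrev HH (F' : Sheaf (K.over Y) AddCommGrpCat.{u}) (k : ℕ) :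
    (Over Y)ᵒᵖ ⥤ AddCommGrpCat.{u} :=
  PreshExt.E (uf f ⋙ RpushSite.frF (K.over Y)) F' k

lemma HH_map (F' : Sheaf (K.over Y) AddCommGrpCat.{u}) (k : ℕ) {V V' : Over Y} (g : V' ⟶ V)
    (ξ : CohSite.HU F' k ((uf f).obj V)) :
    ((HH K f F' k).map g.op).hom ξ = CohSite.res F' k ((uf f).map g) ξ := rfl

theorem lemmaA (F' : Sheaf (K.over Y) AddCommGrpCat.{u}) (n : ℕ)
    (hM : Presheaf.IsSheaf (J.over Y)
      (((Rf K f).rightDerived (n + 1)).obj ((Lf K f).obj F')).obj)
    (hcov : Sieve.ofArrows (fun _ : PUnit.{u + 1} => X) (fun _ => f) ∈ J Y)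
    (θ : CohSite.HU F' (n + 1) (Over.mk f))
    (hθ : CohSite.res F' (n + 1) (piV f (Over.mk f)) θ =
      CohSite.res F' (n + 1) (sigV f (Over.mk f)) θ) :
    ∃ S : Sieve (Over.mk (𝟙 Y)), S ∈ (K.over Y) (Over.mk (𝟙 Y)) ∧
      ∀ ⦃V : Over Y⦄ (g : V ⟶ Over.mk (𝟙 Y)), S g →
        CohSite.res F' (n + 1) (sigV f V) θ = 0 := by
  let ℋ := HH K f F' (n + 1)
  let G : Sheaf (K.over Y) AddCommGrpCat.{u} := (RpushSite.shf (K.over Y)).obj ℋ
  have hG : Presheaf.IsSheaf (J.over Y) G.obj :=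
    (Presheaf.isSheaf_of_iso_iff ((sheafToPresheaf _ _).mapIso (keyIso K f F' (n + 1)))).1 hM
  let η : ℋ ⟶ G.obj := toSheafify (K.over Y) ℋ
  have hη : ∀ {V V' : Over Y} (g : V' ⟶ V) (x : ℋ.obj (op V)),
      (G.obj.map g.op).hom ((η.app (op V)).hom x) = (η.app (op V')).hom ((ℋ.map g.op).hom x) := by
    intro V V' g x
    exact (congrArg (fun φ => φ.hom x) (η.naturality g.op)).symm
  let T : Over Y := Over.mk (𝟙 Y)
  let θ' : ℋ.obj (op T) := CohSite.res F' (n + 1) (sigV f T) θ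
  have h0 : (η.app (op T)).hom θ' = 0 := by
    refine sheaf_eq_zero hG (Sieve.ofArrows (fun _ : PUnit.{u + 1} => Over.mk f)
      (fun _ => (Over.homMk f : Over.mk f ⟶ T))) ?_ _ ?_
    · rw [GrothendieckTopology.mem_over_iff, Sieve.overEquiv_ofArrows]
      exact hcov
    · intro W g hg
      obtain ⟨_, a, rfl⟩ := (Sieve.mem_ofArrows_iff _ _ _).1 hg
      have h1 : (G.obj.map (Over.homMk f : Over.mk f ⟶ T).op).hom ((η.app (op T)).hom θ') = 0 := by
        rw [hη]
        have hx : (ℋ.map (Over.homMk f : Over.mk f ⟶ T).op).hom θ' =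
            CohSite.res F' (n + 1) (piV f (Over.mk f)) θ := by
          rw [hθ, ← sigV_naturality f (Over.homMk f : Over.mk f ⟶ T), res_comp]
          rfl
        rw [hx]
        obtain ⟨S, hS, hS'⟩ :=
          Groth.Agent.Lib.KillClass.exists_sieve_comp_eq_zero (K.over Y) n F' (Over.mk f) θ
        refine sheaf_eq_zero G.2 S hS _ ?_
        intro V h hh
        rw [hη]
        have hx2 : (ℋ.map h.op).hom (CohSite.res F' (n + 1) (piV f (Over.mk f)) θ) = 0 := by
          rw [HH_map, ← res_comp, piV_naturality, res_comp]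
          have : CohSite.res F' (n + 1) h θ = 0 := hS' h hh
          rw [this]
          exact map_zero _
        rw [hx2]
        exact map_zero _
      rw [op_comp, Functor.map_comp]
      show (G.obj.map a.op).hom ((G.obj.map (Over.homMk f : Over.mk f ⟶ T).op).hom _) = 0
      rw [h1, map_zero]
  haveI : Presheaf.IsLocallyInjective (K.over Y) η := inferInstance
  refine ⟨Presheaf.equalizerSieve (F := ℋ) (X := op T) θ' 0,
    Presheaf.equalizerSieve_mem (K.over Y) η θ' 0 ?_, ?_⟩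
  · show (η.app (op T)).hom θ' = (η.app (op T)).hom 0
    rw [h0, map_zero]
  · intro V g hg
    have h2 : (ℋ.map g.op).hom θ' = (ℋ.map g.op).hom 0 := hg
    rw [map_zero] at h2
    rw [← sigV_naturality f g, res_comp]
    exact h2

end Groth.Agent.Lib.SiteCmpA_helper7
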