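import Mathlib
import Groth.Agent.Lib.SiteCmpC1b_helper7

/-!
# `ε_*` of a short exact sequence whose `J'`-cokernel is a `J`-sheaf (helper7)
-/

set_option autoImplicit false
universe u
open CategoryTheory Limits Opposite Abelian

namespace Groth.Agent.Lib.SiteCmpSES_helper7

open Groth.Agent.Lib Groth.Agent.Lib.ExtAdj_helper7 Groth.Agent.Lib.SiteCmpC1_helper7
  Groth.Agent.Lib.SiteCmpLoc_helper7 Groth.Agent.Lib.SiteCmpRes_helper7
  Groth.Agent.Lib.SiteCmpC1b_helper7

variable {D : Type u} [SmallCategory D] {J J' : GrothendieckTopology D} (h : J' ≤ J)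

/-- `ε_*` is fully faithful -/
noncomputable def epsFF : (eps h).FullyFaithful :=
  Functor.FullyFaithful.ofCompFaithful (G := sheafToPresheaf J' AddCommGrpCat.{u})
    ((fullyFaithfulSheafToPresheaf J AddCommGrpCat.{u}).ofIso (forgetIso h))

instance : (eps h).Faithful := (epsFF h).faithful
instance : (eps h).Full := (epsFF h).full

instance : PreservesFiniteLimits (eps h) := by
  haveI : PreservesLimitsOfSize.{0, 0} (eps h) := (epsAdj h).rightAdjoint_preservesLimits
  exact PreservesLimitsOfSize.preservesFiniteLimits _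

lemma sheaf_mono_injective {K : GrothendieckTopology D} {F G : Sheaf K AddCommGrpCat.{u}}
    (f : F ⟶ G) [Mono f] (T : Dᵒᵖ) : Function.Injective (f.hom.app T).hom := by
  haveI : Mono f.hom := (sheafToPresheaf K AddCommGrpCat.{u}).map_mono f
  haveI : Mono (f.hom.app T) := (NatTrans.mono_iff_mono_app f.hom).1 inferInstance T
  exact (AddCommGrpCat.mono_iff_injective _).1 inferInstance

/-- the `J`-sheaf with the same sections as a `J'`-sheaf satisfying the `J`-sheaf condition -/
def liftSh (Q' : Sheaf J' AddCommGrpCat.{u}) (hQ : Presheaf.IsSheaf J Q'.obj) :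
    Sheaf J AddCommGrpCat.{u} := ⟨Q'.obj, hQ⟩

/-- `ε_*` of the lift is the original sheaf -/
noncomputable def liftShIso (Q' : Sheaf J' AddCommGrpCat.{u}) (hQ : Presheaf.IsSheaf J Q'.obj) :
    (eps h).obj (liftSh Q' hQ) ≅ Q' :=
  (fullyFaithfulSheafToPresheaf J' AddCommGrpCat.{u}).preimageIso
    ((forgetIso h).symm.app (liftSh Q' hQ))

theorem shortExact_map_eps (S : ShortComplex (Sheaf J AddCommGrpCat.{u})) (hS : S.ShortExact)
    (hQ : Presheaf.IsSheaf J (cokernel ((eps h).map S.f)).obj) :
    (S.map (eps h)).ShortExact := by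
  have hex := (Functor.preservesFiniteLimits_iff_forall_exact_map_and_mono (eps h)).1
    inferInstance S hS
  haveI : Mono ((eps h).map S.f) := hex.2
  let c := jS (eps h) S
  haveI : Mono c := hex.1.mono_cokernelDesc
  let Q'' := liftSh _ hQ
  let e := liftShIso h _ hQ
  let c'' : Q'' ⟶ S.X₃ := (epsFF h).preimage (e.hom ≫ c)
  let π'' : S.X₂ ⟶ Q'' := (epsFF h).preimage (cokernel.π ((eps h).map S.f) ≫ e.inv)
  have hc'' : (eps h).map c'' = e.hom ≫ c := (epsFF h).map_preimage _
  have hπ'' : (eps h).map π'' = cokernel.π ((eps h).map S.f) ≫ e.inv := (epsFF h).map_preimage _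
  have hcomp : π'' ≫ c'' = S.g := by
    apply (eps h).map_injective
    rw [Functor.map_comp, hc'', hπ'', Category.assoc, e.inv_hom_id_assoc]
    exact π_jS (eps h) S
  haveI : Epi S.g := hS.epi_g
  haveI : Epi (π'' ≫ c'') := by rw [hcomp]; infer_instance
  haveI : Epi c'' := epi_of_epi π'' c''
  haveI : Mono ((eps h).map c'') := by rw [hc'']; infer_instance
  haveI : Mono c'' := (eps h).mono_of_mono_map inferInstance
  haveI : IsIso c'' := isIso_of_mono_of_epi c''
  haveI : Epi ((eps h).map π'') := by rw [hπ'']; infer_instance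
  have hepi : Epi ((eps h).map S.g) := by
    rw [← hcomp, Functor.map_comp]
    infer_instance
  exact ShortComplex.ShortExact.mk' hex.1 hex.2 hepi

/-- if `ε_*` of a short exact sequence is short exact, sections of the quotient lift
`J'`-locally -/
lemma locSurj_of_shortExact (S : ShortComplex (Sheaf J AddCommGrpCat.{u}))
    (hRS : (S.map (eps h)).ShortExact) : Presheaf.IsLocallySurjective J' S.g.hom := by
  haveI : Epi ((eps h).map S.g) := hRS.epi_g
  have h1 : Sheaf.IsLocallySurjective ((eps h).map S.g) :=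
    (Sheaf.isLocallySurjective_iff_epi' _ _).2 inferInstance
  exact ⟨fun s => h1.imageSieve_mem s⟩

/-- the comparison `ε_*(X₃) ≅ coker(ε_* f)` -/
noncomputable def cokerIso (S : ShortComplex (Sheaf J AddCommGrpCat.{u}))
    (hRS : (S.map (eps h)).ShortExact) :
    (eps h).obj S.X₃ ≅ cokernel ((eps h).map S.f) :=
  IsColimit.coconePointUniqueUpToIso hRS.gIsCokernel (colimit.isColimit _)

end Groth.Agent.Lib.SiteCmpSES_helper7
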