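import Mathlib
import Groth.Agent.Lib.SiteCmpSES_helper7

/-!
# Classes dying on `u(T)` have `J'`-locally trivial image in `H(T, p G)` (helper7)

An element-level substitute for the comparison of the Čech-to-cohomology spectral sequences.
-/

set_option autoImplicit false
universe u
open CategoryTheory Limits Opposite Abelian

namespace Groth.Agent.Lib.SiteCmpSt2_helper7

open Groth.Agent.Lib Groth.Agent.Lib.ExtAdj_helper7 Groth.Agent.Lib.SiteCmpC1_helper7
  Groth.Agent.Lib.SiteCmpLoc_helper7 Groth.Agent.Lib.SiteCmpRes_helper7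
  Groth.Agent.Lib.SiteCmpC1b_helper7 Groth.Agent.Lib.SiteCmpSES_helper7

variable {D : Type u} [SmallCategory D] {J : GrothendieckTopology D}

section DimShift

variable {D' : Type u} [SmallCategory D'] (K : D' ⥤ Sheaf J AddCommGrpCat.{u})
  (S : ShortComplex (Sheaf J AddCommGrpCat.{u})) (hS : S.ShortExact)

/-- the connecting map of presheaves of `Ext` groups -/
noncomputable def dNat (n : ℕ) : PreshExt.E K S.X₃ n ⟶ PreshExt.E K S.X₁ (n + 1) where
  app V := AddCommGrpCat.ofHom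
    (X := AddCommGrpCat.of (Ext.{u} (K.obj V.unop) S.X₃ n))
    (Y := AddCommGrpCat.of (Ext.{u} (K.obj V.unop) S.X₁ (n + 1)))
    (hS.extClass.postcomp (K.obj V.unop) rfl)
  naturality V V' m := by
    ext x
    exact Ext.comp_assoc (Ext.mk₀ (K.map m.unop)) x hS.extClass (zero_add n) rfl (by omega)

lemma dNat_bijective [Injective S.X₂] (n : ℕ) (V : D'ᵒᵖ) :
    Function.Bijective (hS.extClass.postcomp (K.obj V.unop) (rfl : n + 1 + 1 = n + 1 + 1)) := by
  constructor
  · rw [injective_iff_map_eq_zero]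
    intro x hx
    obtain ⟨x₂, hx₂⟩ := Ext.covariant_sequence_exact₃ _ hS x rfl hx
    rw [← hx₂, Ext.eq_zero_of_injective x₂, Ext.zero_comp]
  · intro y
    exact Ext.covariant_sequence_exact₁ _ hS y (Ext.eq_zero_of_injective _) rfl

/-- dimension shifting for the presheaves of `Ext` groups -/
noncomputable def dIso [Injective S.X₂] (n : ℕ) :
    PreshExt.E K S.X₃ (n + 1) ≅ PreshExt.E K S.X₁ (n + 1 + 1) :=
  haveI : ∀ V, IsIso ((dNat K S hS (n + 1)).app V) := fun V =>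
    (ConcreteCategory.isIso_iff_bijective _).2 (dNat_bijective K S hS n V)
  haveI : IsIso (dNat K S hS (n + 1)) := NatIso.isIso_of_isIso_app _
  asIso (dNat K S hS (n + 1))

end DimShift

section Lift

variable {J'' : GrothendieckTopology D}

/-- the `J''`-sheafification of `Q`, as a `J`-sheaf -/
noncomputable def Rp (Q : Dᵒᵖ ⥤ AddCommGrpCat.{u})
    (hQ : Presheaf.IsSheaf J ((presheafToSheaf J'' AddCommGrpCat.{u}).obj Q).obj) :
    Sheaf J AddCommGrpCat.{u} :=
  ⟨((presheafToSheaf J'' AddCommGrpCat.{u}).obj Q).obj, hQ⟩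

noncomputable def psi {B : Sheaf J AddCommGrpCat.{u}} (Q : Dᵒᵖ ⥤ AddCommGrpCat.{u})
    (q : B.obj ⟶ Q)
    (hQ : Presheaf.IsSheaf J ((presheafToSheaf J'' AddCommGrpCat.{u}).obj Q).obj) :
    B ⟶ Rp Q hQ :=
  Sheaf.Hom.mk (q ≫ toSheafify J'' Q)

lemma psi_app {B : Sheaf J AddCommGrpCat.{u}} (Q : Dᵒᵖ ⥤ AddCommGrpCat.{u})
    (q : B.obj ⟶ Q)
    (hQ : Presheaf.IsSheaf J ((presheafToSheaf J'' AddCommGrpCat.{u}).obj Q).obj)
    (T : Dᵒᵖ) (y : B.obj.obj T) :
    ((psi Q q hQ).hom.app T).hom y = ((toSheafify J'' Q).app T).hom ((q.app T).hom y) := rfl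

lemma φ_psi {A B : Sheaf J AddCommGrpCat.{u}} (φ : A ⟶ B) (Q : Dᵒᵖ ⥤ AddCommGrpCat.{u})
    (q : B.obj ⟶ Q)
    (hQ : Presheaf.IsSheaf J ((presheafToSheaf J'' AddCommGrpCat.{u}).obj Q).obj)
    (h1 : ∀ (T : Dᵒᵖ) (x : A.obj.obj T), (q.app T).hom ((φ.hom.app T).hom x) = 0) :
    φ ≫ psi Q q hQ = 0 := by
  apply Sheaf.hom_ext
  ext T x
  exact (congrArg ((toSheafify J'' Q).app T).hom (h1 T x)).trans (map_zero _)

noncomputable def rhoT {A B : Sheaf J AddCommGrpCat.{u}} (φ : A ⟶ B)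
    (Q : Dᵒᵖ ⥤ AddCommGrpCat.{u}) (q : B.obj ⟶ Q)
    (hQ : Presheaf.IsSheaf J ((presheafToSheaf J'' AddCommGrpCat.{u}).obj Q).obj)
    (h1 : ∀ (T : Dᵒᵖ) (x : A.obj.obj T), (q.app T).hom ((φ.hom.app T).hom x) = 0) :
    cokernel φ ⟶ Rp Q hQ :=
  cokernel.desc φ (psi Q q hQ) (φ_psi φ Q q hQ h1)

lemma π_rhoT {A B : Sheaf J AddCommGrpCat.{u}} (φ : A ⟶ B)
    (Q : Dᵒᵖ ⥤ AddCommGrpCat.{u}) (q : B.obj ⟶ Q)
    (hQ : Presheaf.IsSheaf J ((presheafToSheaf J'' AddCommGrpCat.{u}).obj Q).obj)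
    (h1 : ∀ (T : Dᵒᵖ) (x : A.obj.obj T), (q.app T).hom ((φ.hom.app T).hom x) = 0) :
    cokernel.π φ ≫ rhoT φ Q q hQ h1 = psi Q q hQ := cokernel.π_desc _ _ _

lemma rhoT_mono (hle : J'' ≤ J) {A B : Sheaf J AddCommGrpCat.{u}} (φ : A ⟶ B)
    (Q : Dᵒᵖ ⥤ AddCommGrpCat.{u}) (q : B.obj ⟶ Q)
    (hQ : Presheaf.IsSheaf J ((presheafToSheaf J'' AddCommGrpCat.{u}).obj Q).obj)
    (h1 : ∀ (T : Dᵒᵖ) (x : A.obj.obj T), (q.app T).hom ((φ.hom.app T).hom x) = 0)
    (h3 : ∀ (T : Dᵒᵖ) (y : B.obj.obj T), (q.app T).hom y = 0 →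
      ∃ x : A.obj.obj T, (φ.hom.app T).hom x = y) :
    Mono (rhoT φ Q q hQ h1) := by
  let Sc : ShortComplex (Sheaf J AddCommGrpCat.{u}) :=
    ShortComplex.mk φ (psi Q q hQ) (φ_psi φ Q q hQ h1)
  suffices hex : Sc.Exact from hex.mono_cokernelDesc
  rw [ShortComplex.exact_iff_epi_kernel_lift]
  let κ : A ⟶ kernel (psi Q q hQ) := kernel.lift (psi Q q hQ) φ (φ_psi φ Q q hQ h1)
  show Epi κ
  have hι := sheaf_mono_injective (kernel.ι (psi Q q hQ))
  haveI : Sheaf.IsLocallySurjective κ := by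
    refine ⟨@fun U k => ?_⟩
    let y : B.obj.obj (op U) := ((kernel.ι (psi Q q hQ)).hom.app (op U)).hom k
    have hy : ((psi Q q hQ).hom.app (op U)).hom y = 0 :=
      congrArg (fun f : kernel (psi Q q hQ) ⟶ Rp Q hQ => (f.hom.app (op U)).hom k)
        (kernel.condition (psi Q q hQ))
    rw [psi_app] at hy
    haveI : Presheaf.IsLocallyInjective J'' (toSheafify J'' Q) := inferInstance
    have hmem : Presheaf.equalizerSieve (F := Q) (X := op U) ((q.app (op U)).hom y) 0 ∈ J'' U :=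
      Presheaf.equalizerSieve_mem J'' (toSheafify J'' Q) _ _ (hy.trans (map_zero _).symm)
    refine J.superset_covering ?_ (hle _ hmem)
    intro U' g hg
    have hg' : (Q.map g.op).hom ((q.app (op U)).hom y) = (Q.map g.op).hom 0 := hg
    rw [map_zero] at hg'
    have hnat : (q.app (op U')).hom ((B.obj.map g.op).hom y) =
        (Q.map g.op).hom ((q.app (op U)).hom y) :=
      congrArg (fun f => f.hom y) (q.naturality g.op)
    obtain ⟨x, hx⟩ := h3 (op U') _ (hnat.trans hg')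
    refine ⟨x, ?_⟩
    apply hι (op U')
    have e1 : ((kernel.ι (psi Q q hQ)).hom.app (op U')).hom ((κ.hom.app (op U')).hom x) =
        (φ.hom.app (op U')).hom x :=
      congrArg (fun f : A ⟶ B => (f.hom.app (op U')).hom x) (kernel.lift_ι (psi Q q hQ) φ _)
    have e2 : ((kernel.ι (psi Q q hQ)).hom.app (op U')).hom
        (((kernel (psi Q q hQ)).obj.map g.op).hom k) = (B.obj.map g.op).hom y :=
      congrArg (fun f => f.hom k) ((kernel.ι (psi Q q hQ)).hom.naturality g.op)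
    exact e1.trans (hx.trans e2.symm)
  infer_instance

/-- sections of the cokernel lift `J''`-locally -/
lemma locSurj (hle : J'' ≤ J) {A B : Sheaf J AddCommGrpCat.{u}} (φ : A ⟶ B)
    (Q : Dᵒᵖ ⥤ AddCommGrpCat.{u}) (q : B.obj ⟶ Q)
    (hQ : Presheaf.IsSheaf J ((presheafToSheaf J'' AddCommGrpCat.{u}).obj Q).obj)
    (h1 : ∀ (T : Dᵒᵖ) (x : A.obj.obj T), (q.app T).hom ((φ.hom.app T).hom x) = 0)
    (h2 : ∀ T : Dᵒᵖ, Function.Surjective (q.app T).hom)
    (h3 : ∀ (T : Dᵒᵖ) (y : B.obj.obj T), (q.app T).hom y = 0 →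
      ∃ x : A.obj.obj T, (φ.hom.app T).hom x = y) :
    Presheaf.IsLocallySurjective J'' (cokernel.π φ).hom := by
  haveI := rhoT_mono hle φ Q q hQ h1 h3
  haveI : Presheaf.IsLocallySurjective J'' q :=
    Presheaf.isLocallySurjective_of_surjective J'' q (fun U => h2 U)
  haveI : Presheaf.IsLocallySurjective J'' (toSheafify J'' Q) := inferInstance
  haveI : Presheaf.IsLocallySurjective J'' (psi Q q hQ).hom :=
    Presheaf.isLocallySurjective_comp J'' q (toSheafify J'' Q)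
  haveI : Presheaf.IsLocallyInjective J'' (rhoT φ Q q hQ h1).hom :=
    Presheaf.isLocallyInjective_of_injective J'' _
      (fun T => sheaf_mono_injective (rhoT φ Q q hQ h1) T)
  exact Presheaf.isLocallySurjective_of_isLocallySurjective_of_isLocallyInjective_fac J''
    (psi Q q hQ).hom (congrArg (fun f => f.hom) (π_rhoT φ Q q hQ h1))

/-- the cokernel is the `J`-sheafification of `Q` -/
noncomputable def cokerIsoShf {A B : Sheaf J AddCommGrpCat.{u}} (φ : A ⟶ B)
    (Q : Dᵒᵖ ⥤ AddCommGrpCat.{u}) (q : B.obj ⟶ Q)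
    (h1 : ∀ (T : Dᵒᵖ) (x : A.obj.obj T), (q.app T).hom ((φ.hom.app T).hom x) = 0)
    (h2 : ∀ T : Dᵒᵖ, Function.Surjective (q.app T).hom)
    (h3 : ∀ (T : Dᵒᵖ) (y : B.obj.obj T), (q.app T).hom y = 0 →
      ∃ x : A.obj.obj T, (φ.hom.app T).hom x = y) :
    cokernel φ ≅ Rp (J'' := J) Q ((presheafToSheaf J AddCommGrpCat.{u}).obj Q).2 :=
  haveI := rhoT_mono (le_refl J) φ Q q ((presheafToSheaf J AddCommGrpCat.{u}).obj Q).2 h1 h3
  haveI : Presheaf.IsLocallySurjective J q :=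
    Presheaf.isLocallySurjective_of_surjective J q (fun U => h2 U)
  haveI : Sheaf.IsLocallySurjective
      (psi (J'' := J) Q q ((presheafToSheaf J AddCommGrpCat.{u}).obj Q).2) :=
    Presheaf.isLocallySurjective_comp J q (toSheafify J Q)
  haveI : Epi (psi (J'' := J) Q q ((presheafToSheaf J AddCommGrpCat.{u}).obj Q).2) :=
    inferInstance
  haveI : Epi (rhoT φ Q q ((presheafToSheaf J AddCommGrpCat.{u}).obj Q).2 h1) :=
    epi_of_epi_fac (π_rhoT φ Q q ((presheafToSheaf J AddCommGrpCat.{u}).obj Q).2 h1)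
  haveI : IsIso (rhoT φ Q q ((presheafToSheaf J AddCommGrpCat.{u}).obj Q).2 h1) :=
    isIso_of_mono_of_epi _
  asIso (rhoT φ Q q ((presheafToSheaf J AddCommGrpCat.{u}).obj Q).2 h1)

end Lift

section QMap

variable (u : D ⥤ D) [u.IsContinuous J J]
  (S : ShortComplex (Sheaf J AddCommGrpCat.{u})) (hS : S.ShortExact)

lemma ofSect_map {M : Sheaf J AddCommGrpCat.{u}} {T' T : D} (g : T' ⟶ T)
    (y : M.obj.obj (op T)) :
    CohFree.ofSect J T' M ((M.obj.map g.op).hom y) =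
      (RpushSite.frF J).map g ≫ CohFree.ofSect J T M y := by
  apply hom_ext_evalGen
  rw [CohFree.evalGen_ofSect]
  refine Eq.trans ?_ (CohFree.evalGen_freeSheafMap_comp J g M _).symm
  rw [CohFree.evalGen_ofSect]

lemma ofSect_comp {M M' : Sheaf J AddCommGrpCat.{u}} {T : D} (φ : M ⟶ M')
    (x : M.obj.obj (op T)) :
    CohFree.ofSect J T M' ((φ.hom.app (op T)).hom x) = CohFree.ofSect J T M x ≫ φ := by
  apply hom_ext_evalGen
  rw [CohFree.evalGen_ofSect]
  refine Eq.trans ?_ (evalGen_comp (CohFree.ofSect J T M x) φ).symm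
  rw [CohFree.evalGen_ofSect]

/-- sections of `N` over `u V` to classes in `Ext¹(ℤ_{uV}, G)` -/
noncomputable def qFun (V : D) :
    S.X₃.obj.obj (op (u.obj V)) →+ Ext.{u} ((RpushSite.frF J).obj (u.obj V)) S.X₁ 1 :=
  AddMonoidHom.mk'
    (fun y => (Ext.mk₀ (CohFree.ofSect J (u.obj V) S.X₃ y)).comp hS.extClass (zero_add 1))
    (fun a b => by
      have e : CohFree.ofSect J (u.obj V) S.X₃ (a + b) =
          CohFree.ofSect J (u.obj V) S.X₃ a + CohFree.ofSect J (u.obj V) S.X₃ b :=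
        map_add (CohFree.homEquivSect J (u.obj V) S.X₃).symm a b
      rw [e, Ext.mk₀_add, Ext.add_comp])

lemma qFun_apply (V : D) (y : S.X₃.obj.obj (op (u.obj V))) :
    qFun u S hS V y =
      (Ext.mk₀ (CohFree.ofSect J (u.obj V) S.X₃ y)).comp hS.extClass (zero_add 1) := rfl

/-- the map of presheaves `p N → (V ↦ H¹(u V, G))` -/
noncomputable def qMap : ((CohSite.push J J u).obj S.X₃).obj ⟶
    PreshExt.E (u ⋙ RpushSite.frF J) S.X₁ 1 where
  app V := AddCommGrpCat.ofHom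
    (Y := AddCommGrpCat.of (Ext.{u} ((RpushSite.frF J).obj (u.obj V.unop)) S.X₁ 1))
    (qFun u S hS V.unop)
  naturality V V' m := by
    ext y
    show qFun u S hS V'.unop ((S.X₃.obj.map (u.map m.unop).op).hom y) =
      (Ext.mk₀ ((RpushSite.frF J).map (u.map m.unop))).comp (qFun u S hS V.unop y) (zero_add 1)
    rw [qFun_apply, qFun_apply, ofSect_map, ← Ext.mk₀_comp_mk₀,
      Ext.comp_assoc_of_second_deg_zero]

lemma qMap_h1 (T : Dᵒᵖ) (x : ((CohSite.push J J u).obj S.X₂).obj.obj T) :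
    ((qMap u S hS).app T).hom ((((CohSite.push J J u).map S.g).hom.app T).hom x) = 0 := by
  show qFun u S hS T.unop ((S.g.hom.app (op (u.obj T.unop))).hom x) = 0
  rw [qFun_apply, ofSect_comp, ← Ext.mk₀_comp_mk₀, Ext.comp_assoc_of_second_deg_zero,
    hS.comp_extClass, Ext.comp_zero]

lemma qMap_h2 [Injective S.X₂] (T : Dᵒᵖ) :
    Function.Surjective ((qMap u S hS).app T).hom := by
  intro e
  obtain ⟨y₃, hy₃⟩ := Ext.covariant_sequence_exact₁ _ hS
    (e : Ext.{u} ((RpushSite.frF J).obj (u.obj T.unop)) S.X₁ 1)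
    (Ext.eq_zero_of_injective _) (zero_add 1)
  obtain ⟨y₀, rfl⟩ := (Ext.mk₀_bijective _ _).2 y₃
  refine ⟨CohFree.evalGen J (u.obj T.unop) S.X₃ y₀, ?_⟩
  show qFun u S hS T.unop _ = e
  rw [qFun_apply, CohFree.ofSect_evalGen]
  exact hy₃

lemma qMap_h3 (T : Dᵒᵖ) (y : ((CohSite.push J J u).obj S.X₃).obj.obj T)
    (hy : ((qMap u S hS).app T).hom y = 0) :
    ∃ x : ((CohSite.push J J u).obj S.X₂).obj.obj T,
      (((CohSite.push J J u).map S.g).hom.app T).hom x = y := by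
  have hy' : (Ext.mk₀ (CohFree.ofSect J (u.obj T.unop) S.X₃ y)).comp hS.extClass
      (zero_add 1) = 0 := hy
  obtain ⟨x₂, hx₂⟩ := Ext.covariant_sequence_exact₃ _ hS _ (zero_add 1) hy'
  obtain ⟨x₀, rfl⟩ := (Ext.mk₀_bijective _ _).2 x₂
  rw [Ext.mk₀_comp_mk₀] at hx₂
  have hx : x₀ ≫ S.g = CohFree.ofSect J (u.obj T.unop) S.X₃ y := (Ext.mk₀_bijective _ _).1 hx₂
  refine ⟨CohFree.evalGen J (u.obj T.unop) S.X₂ x₀, ?_⟩
  show (S.g.hom.app (op (u.obj T.unop))).hom (CohFree.evalGen J (u.obj T.unop) S.X₂ x₀) = y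
  rw [← evalGen_comp, hx, CohFree.evalGen_ofSect]

end QMap

section Kap

variable (u : D ⥤ D) [u.IsContinuous J J] (π : u ⟶ 𝟭 D)

/-- `G → p G`, induced by `π` -/
noncomputable def aApp (G : Sheaf J AddCommGrpCat.{u}) : G ⟶ (CohSite.push J J u).obj G :=
  Sheaf.Hom.mk
    { app := fun V => G.obj.map (π.app V.unop).op
      naturality := fun V V' m => by
        show G.obj.map m ≫ G.obj.map (π.app V'.unop).op =
          G.obj.map (π.app V.unop).op ≫ G.obj.map (u.map m.unop).op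
        rw [← G.obj.map_comp, ← G.obj.map_comp]
        congr 1
        apply Quiver.Hom.unop_inj
        exact (π.naturality m.unop).symm }

lemma aApp_naturality {G G' : Sheaf J AddCommGrpCat.{u}} (φ : G ⟶ G') :
    φ ≫ aApp u π G' = aApp u π G ≫ (CohSite.push J J u).map φ := by
  apply Sheaf.hom_ext
  ext V x
  exact (ConcreteCategory.congr_hom (φ.hom.naturality (π.app V.unop).op) x).symm

/-- `Hom(ℤ_{uT}, M) → Hom(ℤ_T, p M)` -/
noncomputable def kap {T : D} {M : Sheaf J AddCommGrpCat.{u}} (z : Z J (u.obj T) ⟶ M) :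
    Z J T ⟶ (CohSite.push J J u).obj M :=
  CohFree.ofSect J T ((CohSite.push J J u).obj M) (CohFree.evalGen J (u.obj T) M z)

lemma kap_comp {T : D} {M M' : Sheaf J AddCommGrpCat.{u}} (z : Z J (u.obj T) ⟶ M)
    (φ : M ⟶ M') : kap u (z ≫ φ) = kap u z ≫ (CohSite.push J J u).map φ := by
  apply hom_ext_evalGen
  have e1 : CohFree.evalGen J T _ (kap u (z ≫ φ)) = CohFree.evalGen J (u.obj T) M' (z ≫ φ) :=
    CohFree.evalGen_ofSect J T _ _
  have e2 : CohFree.evalGen J T _ (kap u z) = CohFree.evalGen J (u.obj T) M z :=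
    CohFree.evalGen_ofSect J T _ _
  rw [e1]
  refine Eq.trans ?_ (evalGen_comp (kap u z) ((CohSite.push J J u).map φ)).symm
  rw [e2]
  rfl

lemma comp_aApp {T : D} {M : Sheaf J AddCommGrpCat.{u}} (y : Z J T ⟶ M) :
    y ≫ aApp u π M = kap u ((RpushSite.frF J).map (π.app T) ≫ y) := by
  apply hom_ext_evalGen
  have e1 : CohFree.evalGen J T _ (kap u ((RpushSite.frF J).map (π.app T) ≫ y)) =
      CohFree.evalGen J (u.obj T) M ((RpushSite.frF J).map (π.app T) ≫ y) :=
    CohFree.evalGen_ofSect J T _ _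
  rw [e1]
  exact (CohFree.evalGen_freeSheafMap_comp J (π.app T) M y).symm

end Kap

section Package

variable (u : D ⥤ D) [u.IsContinuous J J] (π : u ⟶ 𝟭 D)

/-- the pushforward `G ↦ G ∘ u` -/
noncomputable abbrev pp : Sheaf J AddCommGrpCat.{u} ⥤ Sheaf J AddCommGrpCat.{u} :=
  CohSite.push J J u

instance : PreservesFiniteLimits (pp (J := J) u) := by
  have : (pp (J := J) u).IsRightAdjoint := inferInstance
  infer_instance

variable {G I : Sheaf J AddCommGrpCat.{u}} (f : G ⟶ I) [Mono f]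

noncomputable abbrev Sf : ShortComplex (Sheaf J AddCommGrpCat.{u}) :=
  ShortComplex.mk f (cokernel.π f) (cokernel.condition f)

lemma hSf : (Sf f).ShortExact := { exact := ShortComplex.exact_cokernel f }

instance : Mono ((pp (J := J) u).map f) := inferInstance

noncomputable abbrev S1p : ShortComplex (Sheaf J AddCommGrpCat.{u}) :=
  ShortComplex.mk ((pp (J := J) u).map f) (cokernel.π ((pp (J := J) u).map f))
    (cokernel.condition _)

lemma hS1p : (S1p u f).ShortExact := { exact := ShortComplex.exact_cokernel _ }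

noncomputable def jN : cokernel ((pp (J := J) u).map f) ⟶ (pp (J := J) u).obj (cokernel f) :=
  cokernel.desc _ ((pp (J := J) u).map (cokernel.π f))
    (by rw [← Functor.map_comp, cokernel.condition, Functor.map_zero])

lemma π_jN : cokernel.π ((pp (J := J) u).map f) ≫ jN u f = (pp (J := J) u).map (cokernel.π f) :=
  cokernel.π_desc _ _ _

instance jN_mono : Mono (jN u f) := by
  have hex : ((Sf f).map (pp (J := J) u)).Exact :=
    ((Functor.preservesFiniteLimits_iff_forall_exact_map_and_mono (pp (J := J) u)).1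
      inferInstance (Sf f) (hSf f)).1
  exact hex.mono_cokernelDesc

noncomputable def aP : cokernel f ⟶ cokernel ((pp (J := J) u).map f) :=
  cokernel.desc f (aApp u π I ≫ cokernel.π ((pp (J := J) u).map f)) (by
    rw [← Category.assoc, aApp_naturality, Category.assoc, cokernel.condition, comp_zero])

lemma π_aP : cokernel.π f ≫ aP u π f = aApp u π I ≫ cokernel.π ((pp (J := J) u).map f) :=
  cokernel.π_desc _ _ _

lemma aP_jN : aP u π f ≫ jN u f = aApp u π (cokernel f) := by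
  rw [← cancel_epi (cokernel.π f), ← Category.assoc, π_aP, Category.assoc, π_jN,
    aApp_naturality]

lemma extClass_a : (Ext.mk₀ (aP u π f)).comp (hS1p u f).extClass (zero_add 1) =
    (hSf f).extClass.comp (Ext.mk₀ (aApp u π G)) (add_zero 1) := by
  let φ : Sf f ⟶ S1p u f :=
    { τ₁ := aApp u π G
      τ₂ := aApp u π I
      τ₃ := aP u π f
      comm₁₂ := (aApp_naturality u π f).symm
      comm₂₃ := (π_aP u π f).symm }
  exact (ShortComplex.ShortExact.extClass_naturality (hSf f) (hS1p u f) φ).symm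

noncomputable abbrev S2p : ShortComplex (Sheaf J AddCommGrpCat.{u}) :=
  ShortComplex.mk (jN u f) (cokernel.π ((pp (J := J) u).map (cokernel.π f))) (by
    rw [← cancel_epi (cokernel.π ((pp (J := J) u).map f)), ← Category.assoc, π_jN,
      cokernel.condition, comp_zero])

lemma hS2p : (S2p u f).ShortExact := by
  have hex0 : (ShortComplex.mk ((pp (J := J) u).map (cokernel.π f))
      (cokernel.π ((pp (J := J) u).map (cokernel.π f))) (cokernel.condition _)).Exact :=
    ShortComplex.exact_cokernel _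
  let ψ : ShortComplex.mk ((pp (J := J) u).map (cokernel.π f))
      (cokernel.π ((pp (J := J) u).map (cokernel.π f))) (cokernel.condition _) ⟶ S2p u f :=
    { τ₁ := cokernel.π ((pp (J := J) u).map f)
      τ₂ := 𝟙 _
      τ₃ := 𝟙 _
      comm₁₂ := by
        show cokernel.π ((pp (J := J) u).map f) ≫ jN u f =
          (pp (J := J) u).map (cokernel.π f) ≫ 𝟙 _
        rw [π_jN, Category.comp_id]
      comm₂₃ := by
        show 𝟙 _ ≫ cokernel.π ((pp (J := J) u).map (cokernel.π f)) =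
          cokernel.π ((pp (J := J) u).map (cokernel.π f)) ≫ 𝟙 _
        rw [Category.id_comp, Category.comp_id] }
  haveI : Epi ψ.τ₁ := inferInstanceAs (Epi (cokernel.π ((pp (J := J) u).map f)))
  haveI : IsIso ψ.τ₂ := inferInstanceAs (IsIso (𝟙 _))
  haveI : Mono ψ.τ₃ := inferInstanceAs (Mono (𝟙 _))
  have hex : (S2p u f).Exact := (ShortComplex.exact_iff_of_epi_of_isIso_of_mono ψ).1 hex0
  exact { exact := hex }

end Package

section Main

variable {J' : GrothendieckTopology D} (h : J' ≤ J) (u : D ⥤ D) [u.IsContinuous J J]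
  (π : u ⟶ 𝟭 D)

theorem st2 (m : ℕ) : ∀ (G : Sheaf J AddCommGrpCat.{u}),
    (∀ b c : ℕ, 1 ≤ b → 1 ≤ c → b + c = m → IsZero (((eps h).rightDerived c).obj
      ((RpushSite.shf J).obj (PreshExt.E (u ⋙ RpushSite.frF J) G b)))) →
    (1 ≤ m → Presheaf.IsSheaf J
      ((RpushSite.shf J').obj (PreshExt.E (u ⋙ RpushSite.frF J) G m)).obj) →
    ∀ (T : D) (ζ : Ext.{u} (Z J T) G (m + 1)), rs (π.app T) ζ = 0 →
      LocZ J' (ζ.comp (Ext.mk₀ (aApp u π G)) (add_zero (m + 1))) := by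
  induction m with
  | zero =>
    intro G _ _ T ζ hζ
    let I : InjectivePresentation G := Classical.arbitrary _
    haveI : Mono I.f := I.mono
    haveI : Injective (Sf I.f).X₂ := I.injective
    obtain ⟨y, hy⟩ : ∃ y : Ext.{u} (Z J T) (cokernel I.f) 0,
        y.comp (hSf I.f).extClass (zero_add 1) = ζ :=
      Ext.covariant_sequence_exact₁ _ (hSf I.f) ζ (Ext.eq_zero_of_injective _) (zero_add 1)
    obtain ⟨y₀, rfl⟩ := (Ext.mk₀_bijective _ _).2 y
    rw [← hy, rs_post, rs_mk₀] at hζ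
    obtain ⟨x, hx⟩ := Ext.covariant_sequence_exact₃ _ (hSf I.f) _ (zero_add 1) hζ
    obtain ⟨x₀, rfl⟩ := (Ext.mk₀_bijective _ _).2 x
    rw [Ext.mk₀_comp_mk₀] at hx
    have hx' : x₀ ≫ cokernel.π I.f = (RpushSite.frF J).map (π.app T) ≫ y₀ :=
      (Ext.mk₀_bijective _ _).1 hx
    apply locZ_of_eq_zero
    have e : y₀ ≫ aP u π I.f = kap u x₀ ≫ cokernel.π ((pp (J := J) u).map I.f) := by
      rw [← cancel_mono (jN u I.f), Category.assoc, aP_jN, Category.assoc, π_jN, comp_aApp,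
        ← hx', kap_comp]
    rw [← hy, Ext.comp_assoc_of_third_deg_zero, ← extClass_a u π I.f,
      ← Ext.comp_assoc_of_second_deg_zero, Ext.mk₀_comp_mk₀, e, ← Ext.mk₀_comp_mk₀,
      Ext.comp_assoc_of_second_deg_zero]
    have h0 : (Ext.mk₀ (cokernel.π ((pp (J := J) u).map I.f))).comp (hS1p u I.f).extClass
        (zero_add 1) = 0 := (hS1p u I.f).comp_extClass
    rw [h0, Ext.comp_zero]
  | succ m ih =>
    intro G hA hB T ζ hζ
    let I : InjectivePresentation G := Classical.arbitrary _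
    haveI : Mono I.f := I.mono
    haveI : Injective (Sf I.f).X₂ := I.injective
    obtain ⟨ζ', hζ'⟩ : ∃ y : Ext.{u} (Z J T) (cokernel I.f) (m + 1),
        y.comp (hSf I.f).extClass rfl = ζ :=
      Ext.covariant_sequence_exact₁ _ (hSf I.f) ζ (Ext.eq_zero_of_injective _) rfl
    have hζ'0 : rs (π.app T) ζ' = 0 := by
      rw [← hζ', rs_post] at hζ
      obtain ⟨x, hx⟩ := Ext.covariant_sequence_exact₃ _ (hSf I.f) _ rfl hζ
      rw [← hx, Ext.eq_zero_of_injective x, Ext.zero_comp]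
    have hA_N : ∀ b c : ℕ, 1 ≤ b → 1 ≤ c → b + c = m → IsZero (((eps h).rightDerived c).obj
        ((RpushSite.shf J).obj (PreshExt.E (u ⋙ RpushSite.frF J) (cokernel I.f) b))) := by
      intro b c hb hc hbc
      obtain ⟨b', rfl⟩ : ∃ b', b = b' + 1 := ⟨b - 1, by omega⟩
      have e := dIso (u ⋙ RpushSite.frF J) (Sf I.f) (hSf I.f) b'
      exact (hA (b' + 1 + 1) c (by omega) hc (by omega)).of_iso
        (((eps h).rightDerived c).mapIso ((RpushSite.shf J).mapIso e))
    have hB_N : 1 ≤ m → Presheaf.IsSheaf J ((RpushSite.shf J').obj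
        (PreshExt.E (u ⋙ RpushSite.frF J) (cokernel I.f) m)).obj := by
      intro hm
      obtain ⟨m', rfl⟩ : ∃ m', m = m' + 1 := ⟨m - 1, by omega⟩
      have e := dIso (u ⋙ RpushSite.frF J) (Sf I.f) (hSf I.f) m'
      exact (Presheaf.isSheaf_of_iso_iff
        ((sheafToPresheaf _ _).mapIso ((RpushSite.shf J').mapIso e))).2 (hB (by omega))
    obtain ⟨S₁, hS₁, hS₁'⟩ := ih (cokernel I.f) hA_N hB_N T ζ' hζ'0
    have key : ζ.comp (Ext.mk₀ (aApp u π G)) (add_zero (m + 1 + 1)) =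
        (ζ'.comp (Ext.mk₀ (aP u π I.f)) (add_zero (m + 1))).comp (hS1p u I.f).extClass rfl := by
      rw [← hζ', Ext.comp_assoc_of_third_deg_zero, ← extClass_a u π I.f,
        Ext.comp_assoc_of_second_deg_zero]
    rw [key]
    refine locZ_of_local _ S₁ hS₁ (fun T' g hg => ?_)
    have h0 := hS₁' g hg
    rw [← aP_jN u π I.f, ← Ext.mk₀_comp_mk₀, ← Ext.comp_assoc_of_third_deg_zero, rs_post] at h0
    obtain ⟨ρ, hρ⟩ := Ext.covariant_sequence_exact₁ _ (hS2p u I.f) _ h0 (rfl : m + 1 = m + 1)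
    rw [rs_post, ← hρ]
    refine LocZ.post ?_ _ rfl
    cases m with
    | zero =>
      obtain ⟨ρ₀, rfl⟩ := (Ext.mk₀_bijective _ _).2 ρ
      haveI : Presheaf.IsLocallySurjective J'
          (cokernel.π ((pp (J := J) u).map (cokernel.π I.f))).hom :=
        locSurj h ((pp (J := J) u).map (cokernel.π I.f)) _ (qMap u (Sf I.f) (hSf I.f))
          (hB le_rfl) (qMap_h1 u (Sf I.f) (hSf I.f)) (qMap_h2 u (Sf I.f) (hSf I.f))
          (qMap_h3 u (Sf I.f) (hSf I.f))
      obtain ⟨S₂, hS₂, hS₂'⟩ := locLift J' (cokernel.π ((pp (J := J) u).map (cokernel.π I.f))) ρ₀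
      refine ⟨S₂, hS₂, fun T'' g' hg' => ?_⟩
      obtain ⟨t, ht⟩ := hS₂' g' hg'
      rw [rs_post, rs_mk₀, ht, ← Ext.mk₀_comp_mk₀, Ext.comp_assoc_of_second_deg_zero]
      have h1 : (Ext.mk₀ (cokernel.π ((pp (J := J) u).map (cokernel.π I.f)))).comp
          (hS2p u I.f).extClass (zero_add 1) = 0 := (hS2p u I.f).comp_extClass
      rw [h1, Ext.comp_zero]
    | succ m' =>
      refine LocZ.post ?_ _ rfl
      have hz := hA 1 (m' + 1) le_rfl (by omega) (by omega)
      exact locZ_of_isZero h _ _ (hz.of_iso (((eps h).rightDerived (m' + 1)).mapIso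
        (cokerIsoShf ((pp (J := J) u).map (cokernel.π I.f)) _ (qMap u (Sf I.f) (hSf I.f))
          (qMap_h1 u (Sf I.f) (hSf I.f)) (qMap_h2 u (Sf I.f) (hSf I.f))
          (qMap_h3 u (Sf I.f) (hSf I.f))))) ρ

end Main

end Groth.Agent.Lib.SiteCmpSt2_helper7
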