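import Mathlib
import Groth.Agent.Lib.SiteCmpRes_helper7
import Groth.Agent.Lib.SiteCmpC1_helper7

/-!
# Higher direct images of the relocalisation for two topologies (helper7)
-/

set_option autoImplicit false
universe u
open CategoryTheory Limits Opposite Abelian

namespace Groth.Agent.Lib.SiteCmpSub_helper7

open Groth.Agent.Lib.SiteCmpRes_helper7 Groth.Agent.Lib.SiteCmpC1_helper7

section Compare

variable {D : Type u} [SmallCategory D] {J J' : GrothendieckTopology D} (h : J' ≤ J)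

/-- if the `J'`-sheafification is a `J`-sheaf, it is the `J`-sheafification -/
noncomputable def sheafifyCompare (Q : Dᵒᵖ ⥤ AddCommGrpCat.{u})
    (hQ : Presheaf.IsSheaf J (sheafify J' Q)) : sheafify J' Q ≅ sheafify J Q where
  hom := sheafifyLift J' (toSheafify J Q)
    (fun E => Presieve.isSheaf_of_le _ h (((presheafToSheaf J AddCommGrpCat.{u}).obj Q).2 E))
  inv := sheafifyLift J (toSheafify J' Q) hQ
  hom_inv_id := by
    refine sheafify_hom_ext J' _ _ ((presheafToSheaf J' AddCommGrpCat.{u}).obj Q).2 ?_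
    rw [← Category.assoc, toSheafify_sheafifyLift, toSheafify_sheafifyLift, Category.comp_id]
  inv_hom_id := by
    refine sheafify_hom_ext J _ _ ((presheafToSheaf J AddCommGrpCat.{u}).obj Q).2 ?_
    rw [← Category.assoc, toSheafify_sheafifyLift, toSheafify_sheafifyLift, Category.comp_id]

/-- sheaf version -/
noncomputable def shfCompare (Q : Dᵒᵖ ⥤ AddCommGrpCat.{u})
    (hQ : Presheaf.IsSheaf J ((presheafToSheaf J' AddCommGrpCat.{u}).obj Q).obj) :
    (presheafToSheaf J' AddCommGrpCat.{u}).obj Q ≅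
      (eps h).obj ((presheafToSheaf J AddCommGrpCat.{u}).obj Q) :=
  (fullyFaithfulSheafToPresheaf J' AddCommGrpCat.{u}).preimageIso
    (sheafifyCompare h Q hQ ≪≫ (forgetIso h).app ((presheafToSheaf J AddCommGrpCat.{u}).obj Q))

end Compare

variable {C : Type u} [SmallCategory C] {J J' : GrothendieckTopology C} (h : J' ≤ J)
  {X Y : C} (f : X ⟶ Y) [HasPullbacksAlong f]

/-- `R^i f_* G` is the sheafification of `V ↦ H^i(V ×_Y X, G)` (cohomology on `Over X`) -/
noncomputable def rfIso (K : GrothendieckTopology C) (G : Sheaf (K.over X) AddCommGrpCat.{u})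
    (i : ℕ) : ((Rf K f).rightDerived i).obj G ≅
      (RpushSite.shf (K.over Y)).obj
        ((Over.pullback f).op ⋙ PreshExt.E (RpushSite.frF (K.over X)) G i) :=
  rightDerivedObjIso (RfIsoPf K f) i G ≪≫
    RpushSite.rpushIso (K.over X) (K.over Y) (Over.pullback f) G i

theorem main (F : Sheaf (J.over X) AddCommGrpCat.{u}) (i : ℕ)
    (hF : ∀ k : ℕ, 1 ≤ k → k ≤ i →
      IsZero (((eps (SiteCmp.over_le h X)).rightDerived k).obj F))
    (hM : Presheaf.IsSheaf (J.over Y)
      (((Rf J' f).rightDerived i).obj ((eps (SiteCmp.over_le h X)).obj F)).obj) :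
    Nonempty (((Rf J' f).rightDerived i).obj ((eps (SiteCmp.over_le h X)).obj F) ≅
      (eps (SiteCmp.over_le h Y)).obj (((Rf J f).rightDerived i).obj F)) := by
  let Q' : (Over Y)ᵒᵖ ⥤ AddCommGrpCat.{u} := (Over.pullback f).op ⋙
    PreshExt.E (RpushSite.frF (J'.over X)) ((eps (SiteCmp.over_le h X)).obj F) i
  let Q : (Over Y)ᵒᵖ ⥤ AddCommGrpCat.{u} := (Over.pullback f).op ⋙
    PreshExt.E (RpushSite.frF (J.over X)) F i
  let eQ : Q' ≅ Q := Functor.isoWhiskerLeft (Over.pullback f).op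
    (cIso (SiteCmp.over_le h X) F i hF)
  let e1 : ((Rf J' f).rightDerived i).obj ((eps (SiteCmp.over_le h X)).obj F) ≅
      (RpushSite.shf (J'.over Y)).obj Q :=
    rfIso f J' _ i ≪≫ (RpushSite.shf (J'.over Y)).mapIso eQ
  have hQ : Presheaf.IsSheaf (J.over Y) ((RpushSite.shf (J'.over Y)).obj Q).obj :=
    (Presheaf.isSheaf_of_iso_iff ((sheafToPresheaf _ _).mapIso e1)).1 hM
  exact ⟨e1 ≪≫ shfCompare (SiteCmp.over_le h Y) Q hQ ≪≫
    (eps (SiteCmp.over_le h Y)).mapIso (rfIso f J F i).symm⟩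

end Groth.Agent.Lib.SiteCmpSub_helper7
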