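import Mathlib
import Groth.Agent.Lib.SiteCmpLoc_helper7

/-!
# Transfer of cohomology classes along relocalisation (helper7)
-/

set_option autoImplicit false
universe u
open CategoryTheory Limits Opposite Abelian

namespace Groth.Agent.Lib.SiteCmpTL_helper7

open Groth.Agent.Lib.SiteCmpC1_helper7 Groth.Agent.Lib.SiteCmpRes_helper7
  Groth.Agent.Lib.SiteCmpLoc_helper7

section

variable {D : Type u} [SmallCategory D] (J : GrothendieckTopology D)

/-- `Hom(ℤ_V, G) ≅ G(V)` as functors -/
noncomputable def theta0 : PreshExt.Phi (RpushSite.frF J) ≅ RpushSite.iota J :=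
  NatIso.ofComponents (fun G => NatIso.ofComponents
    (fun V => (CohFree.homEquivSect J V.unop G).toAddCommGrpIso)
    (fun {V V'} m => by
      ext ψ
      exact CohFree.evalGen_freeSheafMap_comp J m.unop G ψ))
    (fun {G G'} φ => by
      ext V ψ
      rfl)

end

variable {C : Type u} [SmallCategory C] (K : GrothendieckTopology C) {U X : C} (g : U ⟶ X)

/-- `H^k(g(T), F) ≅ H^k(T, F|_U)` as presheaves in `T ∈ Over U` -/
noncomputable def tau (F : Sheaf (K.over X) AddCommGrpCat.{u}) (k : ℕ) :
    (Over.map g).op ⋙ PreshExt.E (RpushSite.frF (K.over X)) F k ≅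
      PreshExt.E (RpushSite.frF (K.over U)) ((Lf K g).obj F) k :=
  (PreshExt.homologyIso' (Over.map g ⋙ RpushSite.frF (K.over X)) (injectiveResolution F) k
    (Lf K g ⋙ RpushSite.iota (K.over U))
    (RpushSite.thetaPush (K.over X) (K.over U) (Over.map g)).symm).symm ≪≫
  PreshExt.homologyIso' (RpushSite.frF (K.over U))
    (DerComp.mapRes (Lf K g) (fun I hI => by haveI := hI; infer_instance)
      (injectiveResolution F)) k
    (RpushSite.iota (K.over U)) (theta0 (K.over U)).symm

variable {J J' : GrothendieckTopology C}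

lemma tau_naturality (F : Sheaf (J.over X) AddCommGrpCat.{u}) (k : ℕ) {T T' : Over U}
    (b : T' ⟶ T) (ξ : Ext.{u} (Z (J.over X) ((Over.map g).obj T)) F k) :
    ((tau J g F k).hom.app (op T')).hom (rs ((Over.map g).map b) ξ) =
      rs b (((tau J g F k).hom.app (op T)).hom ξ) :=
  congrArg (fun φ => φ.hom ξ) ((tau J g F k).hom.naturality b.op)

lemma tau_injective (F : Sheaf (J.over X) AddCommGrpCat.{u}) (k : ℕ) (T : Over U)
    (ξ : Ext.{u} (Z (J.over X) ((Over.map g).obj T)) F k)
    (hξ : ((tau J g F k).hom.app (op T)).hom ξ = 0) : ξ = 0 := by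
  have h1 := congrArg (fun x => ((tau J g F k).inv.app (op T)).hom x) hξ
  simp only [map_zero] at h1
  have h2 : ((tau J g F k).inv.app (op T)).hom (((tau J g F k).hom.app (op T)).hom ξ) = ξ :=
    congrArg (fun φ => φ.hom ξ) ((tau J g F k).hom_inv_id_app (op T))
  exact h2.symm.trans h1

/-- local vanishing transfers back along `tau` -/
theorem locZ_transfer (F : Sheaf (J.over X) AddCommGrpCat.{u}) (k : ℕ) (T : Over U)
    (ξ : Ext.{u} (Z (J.over X) ((Over.map g).obj T)) F k)
    (hξ : LocZ (J'.over U) (((tau J g F k).hom.app (op T)).hom ξ)) :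
    LocZ (J'.over X) ξ := by
  obtain ⟨S', hS', h0⟩ := hξ
  refine ⟨S'.functorPushforward (Over.map g),
    (GrothendieckTopology.over_map_coverPreserving J' g).cover_preserve hS', ?_⟩
  rintro A a ⟨T₀, b, c, hb, rfl⟩
  rw [← rs_rs]
  have h1 : rs ((Over.map g).map b) ξ = 0 := by
    apply tau_injective g F k T₀
    rw [tau_naturality]
    exact h0 b hb
  rw [h1, rs_zero]

end Groth.Agent.Lib.SiteCmpTL_helper7
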