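import Mathlib
import Groth.Prelude.Def_WeakSerre
import Groth.Agent.Lib.SiteCmpSt2_helper7
import Groth.Agent.Lib.SiteCmpTL_helper7
import Groth.Agent.Lib.SiteCmpSub_helper7
import Groth.Agent.Lib.SiteCmpA_helper7

/-!
# Comparing two topologies: vanishing of `R^i ε_*` on `A_X` (helper7)
-/

set_option autoImplicit false
universe u
open CategoryTheory Limits Opposite Abelian

namespace Groth.Agent.Lib.SiteCmpMain_helper7

open Groth.Agent.Lib Groth.Agent.Lib.ExtAdj_helper7 Groth.Agent.Lib.SiteCmpC1_helper7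
  Groth.Agent.Lib.SiteCmpLoc_helper7 Groth.Agent.Lib.SiteCmpRes_helper7
  Groth.Agent.Lib.SiteCmpC1b_helper7 Groth.Agent.Lib.SiteCmpSES_helper7
  Groth.Agent.Lib.SiteCmpSt2_helper7 Groth.Agent.Lib.SiteCmpTL_helper7
  Groth.Agent.Lib.SiteCmpA_helper7

variable {C : Type u} [SmallCategory C]

/-- the hypotheses of the situation -/
structure Sit (J : GrothendieckTopology C) {J' : GrothendieckTopology C} (P : MorphismProperty C)
    (A' : ∀ X : C, ObjectProperty (Sheaf (J'.over X) AddCommGrpCat.{u})) : Prop where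
  h1 : ∀ ⦃X Y : C⦄ (f : X ⟶ Y), P f → ∀ ⦃Y' : C⦄ (g : Y' ⟶ Y),
      ∃ (W : C) (p : W ⟶ Y') (q : W ⟶ X), IsPullback p q g f ∧ P p
  h2 : ∀ ⦃X Y : C⦄ (f : X ⟶ Y) (F' : Sheaf (J'.over Y) AddCommGrpCat.{u}), A' Y F' →
      A' X ((CohSite.push (J'.over Y) (J'.over X) (Over.map f)).obj F')
  h3 : ∀ (X : C) (F' : Sheaf (J'.over X) AddCommGrpCat.{u}), A' X F' →
      Presheaf.IsSheaf (J.over X) F'.obj
  h4 : ∀ ⦃X Y : C⦄ (f : X ⟶ Y)
      [((Over.map f).sheafPushforwardCocontinuous AddCommGrpCat.{u} (J'.over X) (J'.over Y)).Additive],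
      P f → ∀ (F' : Sheaf (J'.over X) AddCommGrpCat.{u}), A' X F' → ∀ i : ℕ,
        A' Y ((((Over.map f).sheafPushforwardCocontinuous AddCommGrpCat.{u} (J'.over X) (J'.over Y)).rightDerived i).obj F')
  h5 : ∀ (U : C) (S : Sieve U), S ∈ J U → ∃ (ι : Type u) (V : ι → C) (v : ∀ j, V j ⟶ U),
      Sieve.ofArrows V v ∈ J' U ∧ ∀ j, ∃ (W : C) (w : W ⟶ V j), P w ∧
        Sieve.ofArrows (fun _ : PUnit.{u + 1} => W) (fun _ => w) ∈ J (V j) ∧
        ∃ (κ : Type u) (Wk : κ → C) (wk : ∀ k, Wk k ⟶ W), Sieve.ofArrows Wk wk ∈ J' W ∧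
          ∀ k, S.arrows (wk k ≫ w ≫ v j)

variable {J J' : GrothendieckTopology C} (h : J' ≤ J) {P : MorphismProperty C}
  {A' : ∀ X : C, ObjectProperty (Sheaf (J'.over X) AddCommGrpCat.{u})}

/-- vanishing up to degree `n` -/
def Vn (A' : ∀ X : C, ObjectProperty (Sheaf (J'.over X) AddCommGrpCat.{u})) (n : ℕ) : Prop :=
  ∀ (X : C) (F : Sheaf (J.over X) AddCommGrpCat.{u}),
    A' X ((eps (SiteCmp.over_le h X)).obj F) → ∀ i : ℕ, 1 ≤ i → i ≤ n →
      IsZero (((eps (SiteCmp.over_le h X)).rightDerived i).obj F)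

lemma hasPb (hs : Sit J P A') {W X : C} (f : W ⟶ X) (hf : P f) : HasPullbacksAlong f :=
  fun g => by
    obtain ⟨W', p, q, hpb, _⟩ := hs.h1 f hf g
    exact hpb.hasPullback

lemma toTerminal_ext {X : C} {T : Over X} (a b : T ⟶ Over.mk (𝟙 X)) : a = b := by
  ext
  have ha := Over.w a
  have hb := Over.w b
  simp only [Over.mk_hom] at ha hb
  exact (Category.comp_id _).symm.trans (ha.trans (hb.symm.trans (Category.comp_id _)))

lemma mem_iff_overEquiv {X : C} {T : Over X} (S : Sieve T) {T'' : Over X} (c : T'' ⟶ T) :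
    S c ↔ (Sieve.overEquiv T S) c.left := by
  have := Sieve.overEquiv_symm_iff (Sieve.overEquiv T S) c
  rwa [OrderIso.symm_apply_apply] at this

/-- sheaves with isomorphic underlying presheaves -/
noncomputable def isoOfObj {D : Type u} [SmallCategory D] {K : GrothendieckTopology D}
    (F G : Sheaf K AddCommGrpCat.{u}) (e : F.obj ≅ G.obj) : F ≅ G :=
  (fullyFaithfulSheafToPresheaf K AddCommGrpCat.{u}).preimageIso e

section

variable [∀ X : C, WSerre.IsWeakSerre (A' X)]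

include h in
lemma inA_p (hs : Sit J P A') {W X : C} (f : W ⟶ X) (hf : P f) [HasPullbacksAlong f]
    (F : Sheaf (J.over X) AddCommGrpCat.{u}) (hF : A' X ((eps (SiteCmp.over_le h X)).obj F)) :
    A' X ((eps (SiteCmp.over_le h X)).obj
      ((CohSite.push (J.over X) (J.over X) (uf f)).obj F)) := by
  haveI : PreservesFiniteLimits (Rf J' f) := by
    haveI : PreservesLimitsOfSize.{0, 0} (Rf J' f) := (adjLR J' f).rightAdjoint_preservesLimits
    exact PreservesLimitsOfSize.preservesFiniteLimits _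
  have h0 := hs.h4 f hf _ (hs.h2 f _ hF) 0
  have e : ((Rf J' f).rightDerived 0).obj ((Lf J' f).obj ((eps (SiteCmp.over_le h X)).obj F)) ≅
      (eps (SiteCmp.over_le h X)).obj ((CohSite.push (J.over X) (J.over X) (uf f)).obj F) :=
    (Functor.rightDerivedZeroIsoSelf (Rf J' f)).app _ ≪≫
      ((pushUfIso J' f).app ((eps (SiteCmp.over_le h X)).obj F)).symm ≪≫
      isoOfObj _ _ (Iso.refl _)
  exact (A' X).prop_of_iso e h0

lemma hypA (hs : Sit J P A') (n : ℕ) (hV : Vn h A' n) {W X : C} (f : W ⟶ X) (hf : P f)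
    [HasPullbacksAlong f] (F : Sheaf (J.over X) AddCommGrpCat.{u})
    (hF : A' X ((eps (SiteCmp.over_le h X)).obj F)) :
    ∀ b c : ℕ, 1 ≤ b → 1 ≤ c → b + c = n →
      IsZero (((eps (SiteCmp.over_le h X)).rightDerived c).obj
        ((RpushSite.shf (J.over X)).obj
          (PreshExt.E (uf f ⋙ RpushSite.frF (J.over X)) F b))) := by
  intro b c hb hc hbc
  let G₀ := (Lf J f).obj F
  have hG₀ : A' W ((eps (SiteCmp.over_le h W)).obj G₀) := hs.h2 f _ hF
  have hM : A' X (((Rf J' f).rightDerived b).obj ((eps (SiteCmp.over_le h W)).obj G₀)) :=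
    hs.h4 f hf _ hG₀ b
  obtain ⟨e⟩ := Groth.Agent.Lib.SiteCmpSub_helper7.main h f G₀ b
    (fun k hk hkb => hV W G₀ hG₀ k hk (by omega)) (hs.h3 X _ hM)
  let Gb := ((Rf J f).rightDerived b).obj G₀
  have hGb : A' X ((eps (SiteCmp.over_le h X)).obj Gb) := (A' X).prop_of_iso e hM
  have hz := hV X Gb hGb c hc (by omega)
  exact hz.of_iso (((eps (SiteCmp.over_le h X)).rightDerived c).mapIso (keyIso J f F b).symm)

lemma hypB (hs : Sit J P A') (n : ℕ) (hV : Vn h A' n) {W X : C} (f : W ⟶ X) (hf : P f)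
    [HasPullbacksAlong f] (F : Sheaf (J.over X) AddCommGrpCat.{u})
    (hF : A' X ((eps (SiteCmp.over_le h X)).obj F)) :
    1 ≤ n → Presheaf.IsSheaf (J.over X) ((RpushSite.shf (J'.over X)).obj
      (PreshExt.E (uf f ⋙ RpushSite.frF (J.over X)) F n)).obj := by
  intro _
  have hM : A' X (((Rf J' f).rightDerived n).obj
      ((Lf J' f).obj ((eps (SiteCmp.over_le h X)).obj F))) :=
    hs.h4 f hf _ (hs.h2 f _ hF) n
  have hsh := hs.h3 X _ hM
  let e1 : PreshExt.E (uf f ⋙ RpushSite.frF (J'.over X)) ((eps (SiteCmp.over_le h X)).obj F) n ≅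
      PreshExt.E (uf f ⋙ RpushSite.frF (J.over X)) F n :=
    Functor.isoWhiskerLeft (uf f).op
      (cIso (SiteCmp.over_le h X) F n (fun i hi hin => hV X F hF i hi hin))
  exact (Presheaf.isSheaf_of_iso_iff ((sheafToPresheaf _ _).mapIso
    (keyIso J' f _ n ≪≫ (RpushSite.shf (J'.over X)).mapIso e1))).1 hsh

omit [∀ X : C, WSerre.IsWeakSerre (A' X)] in
lemma aApp_mono {W X : C} (f : W ⟶ X) [HasPullbacksAlong f]
    (hcov : Sieve.ofArrows (fun _ : PUnit.{u + 1} => W) (fun _ => f) ∈ J X)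
    (F : Sheaf (J.over X) AddCommGrpCat.{u}) :
    Mono (aApp (uf f) (Over.mapPullbackAdj f).counit F) := by
  apply Sheaf.mono_of_injective
  intro V
  refine (injective_iff_map_eq_zero (F.obj.map (piV f V.unop).op).hom).2 ?_
  intro s hs0
  refine sheaf_eq_zero F.2 (Sieve.ofArrows (fun _ : PUnit.{u + 1} => (uf f).obj V.unop)
    (fun _ => piV f V.unop)) ?_ s ?_
  · rw [GrothendieckTopology.mem_over_iff, Sieve.overEquiv_ofArrows]
    refine J.superset_covering ?_ (J.pullback_stable V.unop.hom hcov)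
    intro Z g hg
    obtain ⟨_, a, ha⟩ := (Sieve.mem_ofArrows_iff _ _ _).1 hg
    refine (Sieve.mem_ofArrows_iff _ _ _).2 ⟨PUnit.unit, pullback.lift g a ha, ?_⟩
    have hl : (piV f V.unop).left = pullback.fst V.unop.hom f := by simp
    show g = pullback.lift g a ha ≫ (piV f V.unop).left
    rw [hl]
    exact (pullback.lift_fst g a ha).symm
  · intro T' g hg
    obtain ⟨_, a, rfl⟩ := (Sieve.mem_ofArrows_iff _ _ _).1 hg
    rw [op_comp, Functor.map_comp]
    show (F.obj.map a.op).hom ((F.obj.map (piV f V.unop).op).hom s) = 0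
    rw [hs0, map_zero]

/-- a class dying on `V ×_X W` dies `J'`-locally -/
theorem step2 (hs : Sit J P A') (n : ℕ) (hV : Vn h A' n) {W X : C} (f : W ⟶ X) (hf : P f)
    [HasPullbacksAlong f]
    (hcov : Sieve.ofArrows (fun _ : PUnit.{u + 1} => W) (fun _ => f) ∈ J X)
    (F : Sheaf (J.over X) AddCommGrpCat.{u})
    (hF : A' X ((eps (SiteCmp.over_le h X)).obj F)) (T : Over X)
    (ζ : Ext.{u} (Z (J.over X) T) F (n + 1)) (hζ : rs (piV f T) ζ = 0) :
    LocZ (J'.over X) ζ := by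
  have hst := st2 (SiteCmp.over_le h X) (uf f) (Over.mapPullbackAdj f).counit n F
    (hypA h hs n hV f hf F hF) (hypB h hs n hV f hf F hF) T ζ hζ
  haveI : Mono (aApp (uf f) (Over.mapPullbackAdj f).counit F) := aApp_mono f hcov F
  have hpF := inA_p h hs f hf F hF
  have hQ' : A' X (cokernel ((eps (SiteCmp.over_le h X)).map
      (aApp (uf f) (Over.mapPullbackAdj f).counit F))) := (A' X).prop_cokernel _ hF hpF
  have hRS : ((Sf (aApp (uf f) (Over.mapPullbackAdj f).counit F)).map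
      (eps (SiteCmp.over_le h X))).ShortExact :=
    shortExact_map_eps (SiteCmp.over_le h X) _ (hSf _) (hs.h3 X _ hQ')
  obtain ⟨S₁, hS₁, hS₁'⟩ := hst
  refine locZ_of_local ζ S₁ hS₁ (fun T' g hg => ?_)
  have h0 := hS₁' g hg
  rw [rs_post] at h0
  obtain ⟨q, hq⟩ := Ext.covariant_sequence_exact₁ _
    (hSf (aApp (uf f) (Over.mapPullbackAdj f).counit F)) (rs g ζ) h0 rfl
  rw [← hq]
  cases n with
  | zero =>
    obtain ⟨q₀, rfl⟩ := (Ext.mk₀_bijective _ _).2 q
    haveI : Presheaf.IsLocallySurjective (J'.over X)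
        (cokernel.π (aApp (uf f) (Over.mapPullbackAdj f).counit F)).hom :=
      locSurj_of_shortExact (SiteCmp.over_le h X) _ hRS
    obtain ⟨S₂, hS₂, hS₂'⟩ := locLift (J'.over X)
      (cokernel.π (aApp (uf f) (Over.mapPullbackAdj f).counit F)) q₀
    refine ⟨S₂, hS₂, fun T'' g' hg' => ?_⟩
    obtain ⟨t, ht⟩ := hS₂' g' hg'
    rw [rs_post, rs_mk₀, ht, ← Ext.mk₀_comp_mk₀, Ext.comp_assoc_of_second_deg_zero]
    have h1 : (Ext.mk₀ (cokernel.π (aApp (uf f) (Over.mapPullbackAdj f).counit F))).comp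
        (hSf (aApp (uf f) (Over.mapPullbackAdj f).counit F)).extClass (zero_add 1) = 0 :=
      (hSf (aApp (uf f) (Over.mapPullbackAdj f).counit F)).comp_extClass
    rw [h1, Ext.comp_zero]
  | succ n' =>
    refine LocZ.post ?_ _ rfl
    have hQA : A' X ((eps (SiteCmp.over_le h X)).obj
        (cokernel (aApp (uf f) (Over.mapPullbackAdj f).counit F))) :=
      (A' X).prop_of_iso (cokerIso (SiteCmp.over_le h X) _ hRS).symm hQ'
    exact locZ_of_isZero (SiteCmp.over_le h X) _ _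
      (hV X _ hQA (n' + 1) (by omega) le_rfl) q

/-- the core step over the final object -/
theorem core0 (hs : Sit J P A') (n : ℕ) (hV : Vn h A' n) {W X : C} (f : W ⟶ X) (hf : P f)
    [HasPullbacksAlong f]
    (hcov : Sieve.ofArrows (fun _ : PUnit.{u + 1} => W) (fun _ => f) ∈ J X)
    (F : Sheaf (J.over X) AddCommGrpCat.{u})
    (hF : A' X ((eps (SiteCmp.over_le h X)).obj F))
    (ξ : Ext.{u} (Z (J.over X) (Over.mk (𝟙 X))) F (n + 1))
    (hloc : LocZ (J'.over X) (rs (Over.homMk f : Over.mk f ⟶ Over.mk (𝟙 X)) ξ)) :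
    LocZ (J'.over X) ξ := by
  have hFz : ∀ i : ℕ, 1 ≤ i → i ≤ n →
      IsZero (((eps (SiteCmp.over_le h X)).rightDerived i).obj F) := hV X F hF
  obtain ⟨θ, hθ⟩ := c1b (SiteCmp.over_le h X) n F hFz (Over.mk f) _ hloc
  have hinj := cT_injective (SiteCmp.over_le h X) F (n + 1) ((uf f).obj (Over.mk f))
    (fun i hi hi' => hFz i hi (by omega))
  have hθeq : CohSite.res ((eps (SiteCmp.over_le h X)).obj F) (n + 1) (piV f (Over.mk f)) θ =
      CohSite.res ((eps (SiteCmp.over_le h X)).obj F) (n + 1) (sigV f (Over.mk f)) θ := by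
    apply hinj
    have e1 := cT_naturality (SiteCmp.over_le h X) F (n + 1) (piV f (Over.mk f)) θ
    have e2 := cT_naturality (SiteCmp.over_le h X) F (n + 1) (sigV f (Over.mk f)) θ
    refine e1.trans (Eq.trans ?_ e2.symm)
    rw [hθ]
    show rs (piV f (Over.mk f)) (rs (Over.homMk f : Over.mk f ⟶ Over.mk (𝟙 X)) ξ) =
      rs (sigV f (Over.mk f)) (rs (Over.homMk f : Over.mk f ⟶ Over.mk (𝟙 X)) ξ)
    rw [rs_rs, rs_rs, toTerminal_ext (piV f (Over.mk f) ≫ Over.homMk f)
      (sigV f (Over.mk f) ≫ Over.homMk f)]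
  have hM : A' X (((Rf J' f).rightDerived (n + 1)).obj
      ((Lf J' f).obj ((eps (SiteCmp.over_le h X)).obj F))) :=
    hs.h4 f hf _ (hs.h2 f _ hF) (n + 1)
  obtain ⟨S, hS, hS'⟩ := lemmaA J' J f ((eps (SiteCmp.over_le h X)).obj F) n
    (hs.h3 X _ hM) hcov θ hθeq
  refine locZ_of_local ξ S hS (fun V g hg => ?_)
  apply step2 h hs n hV f hf hcov F hF V (rs g ξ)
  rw [rs_rs, toTerminal_ext (piV f V ≫ g)
    (sigV f V ≫ (Over.homMk f : Over.mk f ⟶ Over.mk (𝟙 X))), ← rs_rs, ← hθ]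
  have e4 := cT_naturality (SiteCmp.over_le h X) F (n + 1) (sigV f V) θ
  refine e4.symm.trans ?_
  have e5 : (Ext.mk₀ ((RpushSite.frF (J'.over X)).map (sigV f V))).comp θ (zero_add (n + 1)) = 0 :=
    hS' g hg
  rw [e5, map_zero]

/-- the core step over an arbitrary object -/
theorem core (hs : Sit J P A') (n : ℕ) (hV : Vn h A' n) {X : C}
    (F : Sheaf (J.over X) AddCommGrpCat.{u})
    (hF : A' X ((eps (SiteCmp.over_le h X)).obj F)) (T : Over X)
    (ξ : Ext.{u} (Z (J.over X) T) F (n + 1))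
    {W : C} (w : W ⟶ T.left) (hw : P w)
    (hcov : Sieve.ofArrows (fun _ : PUnit.{u + 1} => W) (fun _ => w) ∈ J T.left)
    {κ : Type u} (Wk : κ → C) (wk : ∀ k, Wk k ⟶ W) (hk : Sieve.ofArrows Wk wk ∈ J' W)
    (Sw : Sieve T.left) (hSw : ∀ k, Sw.arrows (wk k ≫ w))
    (h0 : ∀ ⦃T'' : Over X⦄ (c : T'' ⟶ T), Sw.arrows c.left → rs c ξ = 0) :
    LocZ (J'.over X) ξ := by
  let T₀ : Over T.left := Over.mk (𝟙 T.left)
  let e : (Over.map T.hom).obj T₀ ≅ T := Over.isoMk (Iso.refl _) (by simp [T₀])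
  have hξ₁ : LocZ (J'.over X) (rs e.hom ξ) := by
    apply locZ_transfer T.hom F (n + 1) T₀ (rs e.hom ξ)
    haveI : HasPullbacksAlong w := hasPb hs w hw
    apply core0 h hs n hV w hw hcov ((Lf J T.hom).obj F) (hs.h2 T.hom _ hF) _
    refine ⟨Sieve.ofArrows (fun k => Over.mk (wk k ≫ w))
      (fun k => (Over.homMk (wk k) : Over.mk (wk k ≫ w) ⟶ Over.mk w)), ?_, ?_⟩
    · rw [GrothendieckTopology.mem_over_iff, Sieve.overEquiv_ofArrows]
      exact hk
    · intro T'' c hc
      obtain ⟨k, a, rfl⟩ := (Sieve.mem_ofArrows_iff _ _ _).1 hc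
      rw [rs_rs]
      refine (tau_naturality T.hom F (n + 1) _ (rs e.hom ξ)).symm.trans ?_
      have hz : rs ((Over.map T.hom).map ((a ≫ (Over.homMk (wk k) :
          Over.mk (wk k ≫ w) ⟶ Over.mk w)) ≫ (Over.homMk w : Over.mk w ⟶ T₀))) (rs e.hom ξ) = 0 := by
        rw [rs_rs]
        apply h0
        have hl : ((Over.map T.hom).map ((a ≫ (Over.homMk (wk k) :
            Over.mk (wk k ≫ w) ⟶ Over.mk w)) ≫ (Over.homMk w : Over.mk w ⟶ T₀)) ≫ e.hom).left =
            a.left ≫ (wk k ≫ w) := by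
          simp [e, T₀]
        rw [hl]
        exact Sw.downward_closed (hSw k) a.left
      rw [hz]
      exact map_zero ((tau J T.hom F (n + 1)).hom.app (op T'')).hom
  have hξ : ξ = rs e.inv (rs e.hom ξ) := by
    rw [rs_rs, e.inv_hom_id, rs_id]
  rw [hξ]
  exact hξ₁.rs e.inv

/-- the vanishing theorem -/
theorem vanish (hs : Sit J P A') : ∀ n : ℕ, Vn h A' n := by
  intro n
  induction n with
  | zero =>
    intro X F hF i hi hi0
    omega
  | succ n ih =>
    intro X F hF i hi hin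
    rcases Nat.lt_or_ge i (n + 1) with hlt | hge
    · exact ih X F hF i hi (by omega)
    · obtain rfl : i = n + 1 := by omega
      apply isZero_of_locZ (SiteCmp.over_le h X) F (n + 1)
      intro T ξ
      obtain ⟨S, hS, hS'⟩ :=
        Groth.Agent.Lib.KillClass.exists_sieve_comp_eq_zero (J.over X) n F T ξ
      obtain ⟨ι, V, v, hv, hj⟩ := hs.h5 T.left (Sieve.overEquiv T S)
        ((GrothendieckTopology.mem_over_iff _ _).1 hS)
      refine locZ_of_local ξ ((Sieve.overEquiv T).symm (Sieve.ofArrows V v)) ?_ ?_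
      · rw [GrothendieckTopology.mem_over_iff, OrderIso.apply_symm_apply]
        exact hv
      · intro T' c hc
        rw [Sieve.overEquiv_symm_iff] at hc
        obtain ⟨j, a, ha⟩ := (Sieve.mem_ofArrows_iff _ _ _).1 hc
        obtain ⟨W, w, hw, hcovw, κ, Wk, wk, hk, hk'⟩ := hj j
        let Tj : Over X := Over.mk (v j ≫ T.hom)
        let vj : Tj ⟶ T := Over.homMk (v j)
        let a' : T' ⟶ Tj := Over.homMk a (by
          show a ≫ v j ≫ T.hom = T'.hom
          rw [← Category.assoc, ← ha]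
          exact Over.w c)
        have hc' : c = a' ≫ vj := by
          ext
          simp [a', vj, ha]
        rw [hc', ← rs_rs]
        apply LocZ.rs
        apply core h hs n ih F hF Tj (rs vj ξ) w hw hcovw Wk wk hk
          ((Sieve.overEquiv T S).pullback (v j))
        · intro k
          show (Sieve.overEquiv T S).arrows ((wk k ≫ w) ≫ v j)
          rw [Category.assoc]
          exact hk' k
        · intro T'' c' hc''
          rw [rs_rs]
          apply hS'
          rw [mem_iff_overEquiv]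
          exact hc''

end

end Groth.Agent.Lib.SiteCmpMain_helper7
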