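import Mathlib
import Groth.Prelude.Def_WeakSerre
import Groth.Agent.Lib.SiteCmpMain_helper7

/-!
# Comparing two topologies: `A_X` is weak Serre, and cohomology agrees (helper7)
-/

set_option autoImplicit false
universe u
open CategoryTheory Limits Opposite Abelian ZeroObject

namespace Groth.Agent.Lib.SiteCmpWS_helper7

open Groth.Agent.Lib Groth.Agent.Lib.ExtAdj_helper7 Groth.Agent.Lib.SiteCmpC1_helper7
  Groth.Agent.Lib.SiteCmpLoc_helper7 Groth.Agent.Lib.SiteCmpRes_helper7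
  Groth.Agent.Lib.SiteCmpC1b_helper7 Groth.Agent.Lib.SiteCmpSES_helper7
  Groth.Agent.Lib.SiteCmpSt2_helper7 Groth.Agent.Lib.SiteCmpMain_helper7

variable {C : Type u} [SmallCategory C] {J J' : GrothendieckTopology C} (h : J' ≤ J)
  {P : MorphismProperty C}
  {A' : ∀ X : C, ObjectProperty (Sheaf (J'.over X) AddCommGrpCat.{u})}
  [∀ X : C, WSerre.IsWeakSerre (A' X)]

theorem inA_coker_mono (hs : Sit J P A') (X : C) {F₁ F₂ : Sheaf (J.over X) AddCommGrpCat.{u}}
    (m : F₁ ⟶ F₂) [Mono m] (h₁ : A' X ((eps (SiteCmp.over_le h X)).obj F₁))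
    (h₂ : A' X ((eps (SiteCmp.over_le h X)).obj F₂)) :
    A' X ((eps (SiteCmp.over_le h X)).obj (cokernel m)) := by
  have hQ' : A' X (cokernel ((eps (SiteCmp.over_le h X)).map m)) :=
    (A' X).prop_cokernel _ h₁ h₂
  have hRS := shortExact_map_eps (SiteCmp.over_le h X) (Sf m) (hSf m) (hs.h3 X _ hQ')
  exact (A' X).prop_of_iso (cokerIso (SiteCmp.over_le h X) _ hRS).symm hQ'

theorem inA_kernel (X : C) {F₁ F₂ : Sheaf (J.over X) AddCommGrpCat.{u}}
    (f : F₁ ⟶ F₂) (k : KernelFork f) (hk : IsLimit k)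
    (h₁ : A' X ((eps (SiteCmp.over_le h X)).obj F₁))
    (h₂ : A' X ((eps (SiteCmp.over_le h X)).obj F₂)) :
    A' X ((eps (SiteCmp.over_le h X)).obj k.pt) :=
  (A' X).prop_of_isLimit_kernelFork
    (KernelFork.mapIsLimit k hk (eps (SiteCmp.over_le h X))) h₁ h₂

theorem inA_coker (hs : Sit J P A') (X : C) {F₁ F₂ : Sheaf (J.over X) AddCommGrpCat.{u}}
    (f : F₁ ⟶ F₂) (h₁ : A' X ((eps (SiteCmp.over_le h X)).obj F₁))
    (h₂ : A' X ((eps (SiteCmp.over_le h X)).obj F₂)) :
    A' X ((eps (SiteCmp.over_le h X)).obj (cokernel f)) := by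
  have hK : A' X ((eps (SiteCmp.over_le h X)).obj (kernel f)) :=
    inA_kernel h X f (KernelFork.ofι (kernel.ι f) (kernel.condition f)) (kernelIsKernel f) h₁ h₂
  have hCo : A' X ((eps (SiteCmp.over_le h X)).obj (Abelian.coimage f)) :=
    inA_coker_mono h hs X (kernel.ι f) hK h₁
  have hC2 : A' X ((eps (SiteCmp.over_le h X)).obj (cokernel (Abelian.factorThruCoimage f))) :=
    inA_coker_mono h hs X _ hCo h₂
  let e : cokernel f ≅ cokernel (Abelian.factorThruCoimage f) :=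
    cokernelIsoOfEq (Abelian.coimage.fac f).symm ≪≫ cokernelEpiComp _ _
  exact (A' X).prop_of_iso ((eps (SiteCmp.over_le h X)).mapIso e.symm) hC2

/-- `A_X` is a weak Serre subcategory -/
theorem weakSerre (hs : Sit J P A') (X : C) :
    WSerre.IsWeakSerre ((A' X).inverseImage (eps (SiteCmp.over_le h X))) where
  exists_zero := ⟨0, isZero_zero _,
    (A' X).prop_of_isZero ((eps (SiteCmp.over_le h X)).map_isZero (isZero_zero _))⟩
  kernels_le := by
    rintro _ ⟨f, k, hk, hf⟩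
    exact inA_kernel h X f k hk hf.1 hf.2
  cokernels_le := by
    rintro _ ⟨f, k, hk, hf⟩
    have e : k.pt ≅ cokernel f :=
      IsColimit.coconePointUniqueUpToIso hk (colimit.isColimit _)
    exact (A' X).prop_of_iso ((eps (SiteCmp.over_le h X)).mapIso e.symm)
      (inA_coker h hs X f hf.1 hf.2)
  prop_X₂_of_shortExact := by
    intro S hS h₁ h₃
    have hz := vanish h hs 1 X S.X₁ h₁ 1 le_rfl le_rfl
    have hRS := shortExact_map_of_acyc (epsInv (SiteCmp.over_le h X))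
      (eps (SiteCmp.over_le h X)) (epsAdj (SiteCmp.over_le h X)) S hS hz
    exact (A' X).prop_X₂_of_shortExact hRS h₁ h₃

section Coh

variable {D : Type u} [SmallCategory D]

/-- post-composition with an isomorphism -/
noncomputable def extPostIso {K : GrothendieckTopology D} {X Y Y' : Sheaf K AddCommGrpCat.{u}}
    (e : Y ≅ Y') (n : ℕ) : Ext.{u} X Y n ≃+ Ext.{u} X Y' n where
  toFun x := x.comp (Ext.mk₀ e.hom) (add_zero n)
  invFun x := x.comp (Ext.mk₀ e.inv) (add_zero n)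
  left_inv x := by
    show (x.comp (Ext.mk₀ e.hom) (add_zero n)).comp (Ext.mk₀ e.inv) (add_zero n) = x
    rw [Ext.comp_assoc_of_third_deg_zero, Ext.mk₀_comp_mk₀, e.hom_inv_id, Ext.comp_mk₀_id]
  right_inv x := by
    show (x.comp (Ext.mk₀ e.inv) (add_zero n)).comp (Ext.mk₀ e.hom) (add_zero n) = x
    rw [Ext.comp_assoc_of_third_deg_zero, Ext.mk₀_comp_mk₀, e.inv_hom_id, Ext.comp_mk₀_id]
  map_add' x y := Ext.add_comp _ _ _ _

variable {K K' : GrothendieckTopology D} (hK : K' ≤ K)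

/-- `ε⁻¹` (Mathlib's chosen left adjoint) of a `K'`-sheaf satisfying the `K`-sheaf condition -/
noncomputable def epsShInvIso (F' : Sheaf K' AddCommGrpCat.{u})
    (hF' : Presheaf.IsSheaf K F'.obj) :
    liftSh F' hF' ≅ (SiteCmp.epsShInv hK AddCommGrpCat.{u}).obj F' :=
  (asIso ((epsAdj hK).counit.app (liftSh F' hF'))).symm ≪≫
    (epsInv hK).mapIso (liftShIso hK F' hF') ≪≫
    ((epsAdj hK).leftAdjointUniq (SiteCmp.epsShAdj hK AddCommGrpCat.{u})).app F'

end Coh

/-- cohomology of `F' ∈ A'_X` agrees with the cohomology of `ε⁻¹ F'` -/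
theorem cohIso (hs : Sit J P A') (X : C) (F' : Sheaf (J'.over X) AddCommGrpCat.{u})
    (hF' : A' X F') (n : ℕ) (T : Over X) :
    Nonempty (Ext.{u} ((RpushSite.frF (J'.over X)).obj T) F' n ≃+
      Ext.{u} ((RpushSite.frF (J.over X)).obj T)
        ((SiteCmp.epsShInv (SiteCmp.over_le h X) AddCommGrpCat.{u}).obj F') n) := by
  have hsh := hs.h3 X F' hF'
  let F₀ := liftSh F' hsh
  let e1 := liftShIso (SiteCmp.over_le h X) F' hsh
  have hF₀ : A' X ((eps (SiteCmp.over_le h X)).obj F₀) := (A' X).prop_of_iso e1.symm hF'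
  have hz : ∀ i : ℕ, 1 ≤ i → i ≤ n →
      IsZero (((eps (SiteCmp.over_le h X)).rightDerived i).obj F₀) :=
    fun i hi hin => vanish h hs n X F₀ hF₀ i hi hin
  exact ⟨(extPostIso e1.symm n).trans
    ((AddEquiv.ofBijective (cT (SiteCmp.over_le h X) F₀ n T)
      (cT_bijective (SiteCmp.over_le h X) F₀ n T hz)).trans
      (extPostIso (epsShInvIso (SiteCmp.over_le h X) F' hsh) n))⟩

end Groth.Agent.Lib.SiteCmpWS_helper7
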