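import Mathlib
import Groth.Prelude.Def_Formal2

set_option autoImplicit false
universe u
open Formal2

namespace Groth.Agent.Lib.SixTermH7

section generic

variable {X Y : ℕ → Type u} [∀ n, AddCommGroup (X n)] [∀ n, AddCommGroup (Y n)]
  (tX : ∀ n, X (n + 1) →+ X n) (tY : ∀ n, Y (n + 1) →+ Y n) (f : ∀ n, X n →+ Y n)
  (hf : ∀ n x, tY n (f (n + 1) x) = f n (tX n x))

/-- the product of the maps `f n`. -/
def prodMap : (∀ n, X n) →+ (∀ n, Y n) where
  toFun x n := f n (x n)
  map_zero' := by funext n; simp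
  map_add' x y := by funext n; simp

lemma prodMap_apply (x : ∀ n, X n) (n : ℕ) : prodMap f x n = f n (x n) := rfl

lemma towerDiff_apply (x : ∀ n, X n) (n : ℕ) :
    towerDiff X tX x n = x n - tX n (x (n + 1)) := rfl

include hf in
lemma comm (x : ∀ n, X n) :
    towerDiff Y tY (prodMap f x) = prodMap f (towerDiff X tX x) := by
  funext n
  simp only [towerDiff_apply, prodMap_apply, hf, map_sub]

/-- the induced map on `lim`. -/
def limZeroMap : limZero X tX →+ limZero Y tY :=
  ((prodMap f).comp (limZero X tX).subtype).codRestrict (limZero Y tY) (fun x => by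
    rw [AddMonoidHom.mem_ker]
    show towerDiff Y tY (prodMap f x.1) = 0
    rw [comm tX tY f hf, AddMonoidHom.mem_ker.mp x.2, map_zero])

/-- the induced map on `lim¹`. -/
def limOneMap : limOne X tX →+ limOne Y tY :=
  QuotientAddGroup.map _ _ (prodMap f) (by
    rintro _ ⟨a, rfl⟩
    exact ⟨prodMap f a, comm tX tY f hf a⟩)

lemma limOneMap_mk (y : ∀ n, X n) :
    limOneMap tX tY f hf (QuotientAddGroup.mk y) =
      (QuotientAddGroup.mk (prodMap f y) : limOne Y tY) := rfl

end generic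

theorem main (G' G G'' : ℕ → Type u)
    [∀ n, AddCommGroup (G' n)] [∀ n, AddCommGroup (G n)] [∀ n, AddCommGroup (G'' n)]
    (t' : ∀ n, G' (n + 1) →+ G' n) (t : ∀ n, G (n + 1) →+ G n) (t'' : ∀ n, G'' (n + 1) →+ G'' n)
    (u : ∀ n, G' n →+ G n) (v : ∀ n, G n →+ G'' n)
    (hu : ∀ n x, t n (u (n + 1) x) = u n (t' n x)) (hv : ∀ n x, t'' n (v (n + 1) x) = v n (t n x))
    (hinj : ∀ n, Function.Injective (u n)) (hsurj : ∀ n, Function.Surjective (v n))
    (hex : ∀ n, (v n).ker = (u n).range) :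
    ∃ (α : Formal2.limZero G' t' →+ Formal2.limZero G t) (β : Formal2.limZero G t →+ Formal2.limZero G'' t'')
      (δ : Formal2.limZero G'' t'' →+ Formal2.limOne G' t')
      (ε : Formal2.limOne G' t' →+ Formal2.limOne G t) (ζ : Formal2.limOne G t →+ Formal2.limOne G'' t''),
      (∀ (x : Formal2.limZero G' t') (n : ℕ), (α x : ∀ n, G n) n = u n ((x : ∀ n, G' n) n)) ∧
      (∀ (x : Formal2.limZero G t) (n : ℕ), (β x : ∀ n, G'' n) n = v n ((x : ∀ n, G n) n)) ∧
      (∀ (z : Formal2.limZero G'' t'') (y : ∀ n, G n) (w : ∀ n, G' n),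
          (∀ n, v n (y n) = (z : ∀ n, G'' n) n) → (∀ n, u n (w n) = Formal2.towerDiff G t y n) →
            δ z = (QuotientAddGroup.mk w : Formal2.limOne G' t')) ∧
      (∀ y : ∀ n, G' n, ε (QuotientAddGroup.mk y : Formal2.limOne G' t') =
          (QuotientAddGroup.mk (fun n => u n (y n)) : Formal2.limOne G t)) ∧
      (∀ y : ∀ n, G n, ζ (QuotientAddGroup.mk y : Formal2.limOne G t) =
          (QuotientAddGroup.mk (fun n => v n (y n)) : Formal2.limOne G'' t'')) ∧
      Function.Injective α ∧ α.range = β.ker ∧ β.range = δ.ker ∧ δ.range = ε.ker ∧ ε.range = ζ.ker ∧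
      Function.Surjective ζ := by
  classical
  have cU := comm t' t u hu
  have cV := comm t t'' v hv
  have Uinj : Function.Injective (prodMap u) := fun a b hab =>
    funext fun n => hinj n (congrFun hab n)
  have Vsurj : Function.Surjective (prodMap v) := fun b =>
    ⟨fun n => (hsurj n (b n)).choose, funext fun n => (hsurj n (b n)).choose_spec⟩
  have VU : ∀ a, prodMap v (prodMap u a) = 0 := fun a => funext fun n => by
    have hmem : u n (a n) ∈ (v n).ker := by rw [hex n]; exact ⟨a n, rfl⟩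
    exact AddMonoidHom.mem_ker.mp hmem
  have exUV : ∀ y, prodMap v y = 0 → ∃ a, prodMap u a = y := by
    intro y hy
    have hmem : ∀ n, y n ∈ (u n).range := fun n => by
      rw [← hex n]
      exact AddMonoidHom.mem_ker.mpr (congrFun hy n)
    exact ⟨fun n => (hmem n).choose, funext fun n => (hmem n).choose_spec⟩
  have wd : ∀ (y1 : ∀ n, G n) (w1 : ∀ n, G' n) (y2 : ∀ n, G n) (w2 : ∀ n, G' n),
      prodMap v y1 = prodMap v y2 → prodMap u w1 = towerDiff G t y1 →
      prodMap u w2 = towerDiff G t y2 →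
      (QuotientAddGroup.mk w1 : limOne G' t') = QuotientAddGroup.mk w2 := by
    intro y1 w1 y2 w2 hV h1 h2
    obtain ⟨a, ha⟩ := exUV (y1 - y2) (by rw [map_sub, hV, sub_self])
    have h3 : prodMap u (w1 - w2) = prodMap u (towerDiff G' t' a) := by
      rw [map_sub, h1, h2, ← map_sub, ← ha, cU]
    have h4 : w1 - w2 = towerDiff G' t' a := Uinj h3
    rw [QuotientAddGroup.eq_iff_sub_mem]
    exact ⟨a, h4.symm⟩
  have lift : ∀ z : limZero G'' t'', ∃ yw : (∀ n, G n) × (∀ n, G' n),
      prodMap v yw.1 = z.1 ∧ prodMap u yw.2 = towerDiff G t yw.1 := by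
    intro z
    obtain ⟨y, hy⟩ := Vsurj z.1
    obtain ⟨w, hw⟩ := exUV (towerDiff G t y) (by
      rw [← cV, hy]
      exact AddMonoidHom.mem_ker.mp z.2)
    exact ⟨(y, w), hy, hw⟩
  choose yw hyw1 hyw2 using lift
  let δ : limZero G'' t'' →+ limOne G' t' :=
    AddMonoidHom.mk' (fun z => (QuotientAddGroup.mk (yw z).2 : limOne G' t')) (by
      intro z1 z2
      rw [← QuotientAddGroup.mk_add]
      apply wd (yw (z1 + z2)).1 _ ((yw z1).1 + (yw z2).1) _
      · rw [hyw1, map_add, hyw1, hyw1]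
        rfl
      · exact hyw2 _
      · rw [map_add, map_add, hyw2, hyw2])
  have hδ : ∀ (z : limZero G'' t'') (y : ∀ n, G n) (w : ∀ n, G' n), prodMap v y = z.1 →
      prodMap u w = towerDiff G t y → δ z = (QuotientAddGroup.mk w : limOne G' t') :=
    fun z y w h1 h2 => wd _ _ _ _ (by rw [hyw1, h1]) (hyw2 z) h2
  refine ⟨limZeroMap t' t u hu, limZeroMap t t'' v hv, δ, limOneMap t' t u hu,
    limOneMap t t'' v hv, fun x n => rfl, fun x n => rfl, ?_, fun y => rfl, fun y => rfl,
    ?_, ?_, ?_, ?_, ?_, ?_⟩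
  · intro z y w h1 h2
    exact hδ z y w (funext h1) (funext h2)
  · intro x x' h
    apply Subtype.ext
    apply Uinj
    exact congrArg Subtype.val h
  · ext y
    constructor
    · rintro ⟨x, rfl⟩
      rw [AddMonoidHom.mem_ker]
      apply Subtype.ext
      exact VU x.1
    · intro hy
      have hy' : prodMap v y.1 = 0 := congrArg Subtype.val (AddMonoidHom.mem_ker.mp hy)
      obtain ⟨a, ha⟩ := exUV y.1 hy'
      have haD : towerDiff G' t' a = 0 := Uinj (by
        rw [← cU, ha, map_zero]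
        exact AddMonoidHom.mem_ker.mp y.2)
      exact ⟨⟨a, AddMonoidHom.mem_ker.mpr haD⟩, Subtype.ext ha⟩
  · ext z
    constructor
    · rintro ⟨y, rfl⟩
      rw [AddMonoidHom.mem_ker]
      rw [hδ (limZeroMap t t'' v hv y) y.1 0 rfl (by
        rw [map_zero]
        exact (AddMonoidHom.mem_ker.mp y.2).symm)]
      rfl
    · intro hz
      have h0 : (QuotientAddGroup.mk (yw z).2 : limOne G' t') = 0 := AddMonoidHom.mem_ker.mp hz
      obtain ⟨a, ha⟩ := (QuotientAddGroup.eq_zero_iff _).mp h0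
      have hD : towerDiff G t ((yw z).1 - prodMap u a) = 0 := by
        rw [map_sub, cU, ha, hyw2, sub_self]
      have hV : prodMap v ((yw z).1 - prodMap u a) = z.1 := by
        rw [map_sub, VU, sub_zero, hyw1]
      exact ⟨⟨(yw z).1 - prodMap u a, AddMonoidHom.mem_ker.mpr hD⟩, Subtype.ext hV⟩
  · ext c
    constructor
    · rintro ⟨z, rfl⟩
      rw [AddMonoidHom.mem_ker]
      show limOneMap t' t u hu (QuotientAddGroup.mk (yw z).2) = 0
      rw [limOneMap_mk]
      exact (QuotientAddGroup.eq_zero_iff _).mpr ⟨(yw z).1, (hyw2 z).symm⟩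
    · intro hc
      obtain ⟨w, rfl⟩ := QuotientAddGroup.mk_surjective c
      have h0 := AddMonoidHom.mem_ker.mp hc
      rw [limOneMap_mk] at h0
      obtain ⟨y, hy⟩ := (QuotientAddGroup.eq_zero_iff _).mp h0
      refine ⟨⟨prodMap v y, AddMonoidHom.mem_ker.mpr (by rw [cV, hy, VU])⟩, ?_⟩
      exact hδ _ y w rfl hy.symm
  · ext c
    constructor
    · rintro ⟨c, rfl⟩
      obtain ⟨w, rfl⟩ := QuotientAddGroup.mk_surjective c
      rw [AddMonoidHom.mem_ker, limOneMap_mk, limOneMap_mk, VU]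
      rfl
    · intro hc
      obtain ⟨y, rfl⟩ := QuotientAddGroup.mk_surjective c
      have h0 := AddMonoidHom.mem_ker.mp hc
      rw [limOneMap_mk] at h0
      obtain ⟨b, hb⟩ := (QuotientAddGroup.eq_zero_iff _).mp h0
      obtain ⟨y0, hy0⟩ := Vsurj b
      obtain ⟨w, hw⟩ := exUV (y - towerDiff G t y0) (by
        rw [map_sub, ← cV, hy0, hb, sub_self])
      refine ⟨QuotientAddGroup.mk w, ?_⟩
      rw [limOneMap_mk, hw, QuotientAddGroup.eq_iff_sub_mem]
      exact ⟨-y0, by rw [map_neg]; abel⟩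
  · intro c
    obtain ⟨b, rfl⟩ := QuotientAddGroup.mk_surjective c
    obtain ⟨y, hy⟩ := Vsurj b
    exact ⟨QuotientAddGroup.mk y, by rw [limOneMap_mk, hy]⟩

end Groth.Agent.Lib.SixTermH7
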