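import Mathlib
import Groth.Agent.S6818

set_option autoImplicit false
set_option linter.style.haveILetI false
set_option linter.unusedSectionVars false

universe w v u

open CategoryTheory CategoryTheory.Limits Opposite

namespace Groth.Agent.Lib.SkNormH4

section Sub

variable {C : Type*} [Category C] {A : Type u} [Category.{v} A]

/-- The subfunctor cut out by a compatible family of subobjects. -/
noncomputable def subFunctor (F : C ⥤ A) (S : ∀ c, Subobject (F.obj c))
    (h : ∀ {c d : C} (f : c ⟶ d), (S d).Factors ((S c).arrow ≫ F.map f)) : C ⥤ A where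
  obj c := (S c : A)
  map {c d} f := (S d).factorThru _ (h f)
  map_id c := by
    rw [← cancel_mono (S c).arrow, Subobject.factorThru_arrow, F.map_id, Category.comp_id,
      Category.id_comp]
  map_comp {a b c} f g := by
    rw [← cancel_mono (S c).arrow]
    simp only [Category.assoc, Subobject.factorThru_arrow, Subobject.factorThru_arrow_assoc,
      F.map_comp]

/-- The inclusion of the subfunctor. -/
noncomputable def subι (F : C ⥤ A) (S : ∀ c, Subobject (F.obj c))
    (h : ∀ {c d : C} (f : c ⟶ d), (S d).Factors ((S c).arrow ≫ F.map f)) :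
    subFunctor F S h ⟶ F where
  app c := (S c).arrow
  naturality {c d} f := by
    show (S d).factorThru _ (h f) ≫ (S d).arrow = _
    rw [Subobject.factorThru_arrow]
    rfl

lemma factors_of_image_le [HasImages A] {X Y : A} (g : X ⟶ Y) (T : Subobject Y)
    (h : imageSubobject g ≤ T) : T.Factors g := by
  refine Subobject.factors_of_le g h ?_
  have := Subobject.factors_comp_arrow (factorThruImageSubobject g)
  rwa [imageSubobject_arrow_comp] at this

end Sub

section Main

variable {A : Type u} [Category.{v} A] [Abelian A]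

/-- The subobject of `V_k` generated by the images of `V_i ⟶ V_k`, `i ≤ m`. -/
noncomputable def gen (V : SimplicialObject A) (m k : ℕ) :
    Subobject (V.obj (op (SimplexCategory.mk k))) :=
  haveI : Fintype (Σ i : Fin (m + 1), (SimplexCategory.mk k ⟶ SimplexCategory.mk i)) :=
    Fintype.ofFinite _
  Finset.univ.sup (fun φ : Σ i : Fin (m + 1), (SimplexCategory.mk k ⟶ SimplexCategory.mk i) =>
    imageSubobject (V.map φ.2.op))

lemma gen_isLUB (V : SimplicialObject A) (m k : ℕ) :
    IsLUB (Set.range (fun φ : Σ i : Fin (m + 1), (SimplexCategory.mk k ⟶ SimplexCategory.mk i) =>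
      imageSubobject (V.map φ.2.op))) (gen V m k) := by
  letI : Fintype (Σ i : Fin (m + 1), (SimplexCategory.mk k ⟶ SimplexCategory.mk i)) :=
    Fintype.ofFinite _
  constructor
  · rintro _ ⟨x, rfl⟩
    exact Finset.le_sup (f := fun φ : Σ i : Fin (m + 1),
      (SimplexCategory.mk k ⟶ SimplexCategory.mk i) => imageSubobject (V.map φ.2.op))
      (Finset.mem_univ x)
  · intro b hb
    exact Finset.sup_le (fun x _ => hb ⟨x, rfl⟩)

theorem gen_eq_top (m : ℕ) (U : SimplicialObject.Truncated A m) (V : SimplicialObject A)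
    (η : U ⟶ (SimplexCategory.Truncated.inclusion m).op ⋙ V) [V.IsLeftKanExtension η] (k : ℕ) :
    gen V m k = ⊤ := by
  obtain ⟨ha, hb, -⟩ := Groth.Agent.S6818.result V m (gen V m) (gen_isLUB V m)
  obtain ⟨S, hS⟩ : ∃ S : ∀ c : SimplexCategoryᵒᵖ, Subobject (V.obj c),
      ∀ j : ℕ, S (op (SimplexCategory.mk j)) = gen V m j :=
    ⟨fun c => gen V m c.unop.len, fun j => rfl⟩
  have hfac : ∀ {c d : SimplexCategoryᵒᵖ} (f : c ⟶ d), (S d).Factors ((S c).arrow ≫ V.map f) := by
    intro c d f
    apply factors_of_image_le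
    have := ha c.unop.len d.unop.len f.unop
    rw [← hS, ← hS] at this
    exact this
  obtain ⟨V', ι, hι⟩ : ∃ (V' : SimplicialObject A) (ι : V' ⟶ V),
      ∀ c, ∃ e : V'.obj c = (S c : A), ι.app c = eqToHom e ≫ (S c).arrow :=
    ⟨subFunctor V S hfac, subι V S hfac, fun c => ⟨rfl, (Category.id_comp _).symm⟩⟩
  haveI hiso : IsIso (Functor.whiskerLeft (SimplexCategory.Truncated.inclusion m).op ι) := by
    haveI : ∀ x, IsIso ((Functor.whiskerLeft (SimplexCategory.Truncated.inclusion m).op ι).app x) := by
      intro x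
      obtain ⟨e, he⟩ := hι ((SimplexCategory.Truncated.inclusion m).op.obj x)
      have htop : S ((SimplexCategory.Truncated.inclusion m).op.obj x) = ⊤ := by
        have := hb x.unop.obj.len x.unop.property
        rw [← hS] at this
        exact this
      haveI : IsIso (S ((SimplexCategory.Truncated.inclusion m).op.obj x)).arrow :=
        (Subobject.isIso_arrow_iff_eq_top _).mpr htop
      show IsIso (ι.app ((SimplexCategory.Truncated.inclusion m).op.obj x))
      rw [he]
      infer_instance
    exact NatIso.isIso_of_isIso_app _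
  obtain ⟨r, hr⟩ : ∃ r : V ⟶ V', η ≫ Functor.whiskerLeft (SimplexCategory.Truncated.inclusion m).op r
      = η ≫ inv (Functor.whiskerLeft (SimplexCategory.Truncated.inclusion m).op ι) :=
    ⟨_, V.descOfIsLeftKanExtension_fac η V' _⟩
  have hrι : r ≫ ι = 𝟙 V := by
    apply V.hom_ext_of_isLeftKanExtension η
    rw [Functor.whiskerLeft_comp, ← Category.assoc, hr, Category.assoc, IsIso.inv_hom_id,
      Functor.whiskerLeft_id']
  obtain ⟨e, he⟩ := hι (op (SimplexCategory.mk k))
  have hk : (r.app (op (SimplexCategory.mk k)) ≫ eqToHom e) ≫ (S (op (SimplexCategory.mk k))).arrow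
      = 𝟙 _ := by
    rw [Category.assoc, ← he]
    exact congr_app hrι (op (SimplexCategory.mk k))
  haveI : Epi (S (op (SimplexCategory.mk k))).arrow := epi_of_epi_fac hk
  haveI : IsIso (S (op (SimplexCategory.mk k))).arrow := isIso_of_mono_of_epi _
  rw [← hS]
  exact Subobject.eq_top_of_isIso_arrow _

theorem objX_eq_bot (m : ℕ) (U : SimplicialObject.Truncated A m) (V : SimplicialObject A)
    (η : U ⟶ (SimplexCategory.Truncated.inclusion m).op ⋙ V) [V.IsLeftKanExtension η] (n : ℕ)
    (hn : m < n) : AlgebraicTopology.NormalizedMooreComplex.objX V n = ⊥ := by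
  obtain ⟨-, -, hc⟩ := Groth.Agent.S6818.result V m (gen V m) (gen_isLUB V m)
  have := hc n hn
  rwa [gen_eq_top m U V η n, top_inf_eq] at this

theorem main6806 (m : ℕ)
    [∀ F : (SimplexCategory.Truncated m)ᵒᵖ ⥤ A,
      (SimplexCategory.Truncated.inclusion m).op.HasLeftKanExtension F]
    (U : SimplicialObject.Truncated A m) (n : ℕ) (hn : m < n) :
    AlgebraicTopology.NormalizedMooreComplex.objX ((SimplicialObject.Truncated.sk m).obj U) n
      = ⊥ :=
  objX_eq_bot m U _ ((SimplexCategory.Truncated.inclusion m).op.lanUnit.app U) n hn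

end Main

end Groth.Agent.Lib.SkNormH4
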