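import Mathlib
import Groth.Agent.Lib.SkNorm_helper4
import Groth.Agent.Lib.ARHilb_helper4
import Groth.Agent.Lib.ARFsub_helper4
import Groth.Agent.Lib.AbSubobj_helper4

set_option autoImplicit false
set_option linter.style.haveILetI false
set_option linter.unusedSectionVars false

universe w v u

open CategoryTheory CategoryTheory.Limits Opposite AlgebraicTopology

namespace Groth.Agent.Lib.SkCounitH4

open Groth.Agent.Lib.SkNormH4

section Fin

variable (n : ℕ)

instance finite_truncated : Finite (SimplexCategory.Truncated n) := by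
  refine Finite.of_injective (fun x : SimplexCategory.Truncated n =>
    (⟨x.obj.len, Nat.lt_succ_of_le x.property⟩ : Fin (n + 1))) ?_
  rintro ⟨a, ha⟩ ⟨b, hb⟩ h
  have h' : a.len = b.len := by simpa using congrArg Fin.val h
  obtain rfl := SimplexCategory.ext h'
  rfl

instance finite_truncated_hom (x y : SimplexCategory.Truncated n) : Finite (x ⟶ y) :=
  Finite.of_injective (fun f : x ⟶ y => (f.hom : x.obj ⟶ y.obj))
    (fun _ _ h => ObjectProperty.hom_ext _ h)

instance finite_truncated_op : Finite (SimplexCategory.Truncated n)ᵒᵖ :=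
  Finite.of_equiv _ equivToOpposite

instance finite_truncated_op_hom (x y : (SimplexCategory.Truncated n)ᵒᵖ) : Finite (x ⟶ y) :=
  Finite.of_equiv _ (opEquiv x y).symm

instance finite_simplex_op_hom (x y : SimplexCategoryᵒᵖ) : Finite (x ⟶ y) :=
  Finite.of_equiv _ (opEquiv x y).symm

variable (Y : SimplexCategoryᵒᵖ)

instance finite_costr :
    Finite (CostructuredArrow (SimplexCategory.Truncated.inclusion n).op Y) := by
  refine Finite.of_injective
    (fun x : CostructuredArrow (SimplexCategory.Truncated.inclusion n).op Y =>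
      (⟨x.left, x.hom⟩ : Σ l : (SimplexCategory.Truncated n)ᵒᵖ,
        ((SimplexCategory.Truncated.inclusion n).op.obj l ⟶ Y))) ?_
  rintro ⟨l, ⟨⟨⟩⟩, f⟩ ⟨l', ⟨⟨⟩⟩, f'⟩ h
  simp only [Sigma.mk.injEq] at h
  obtain ⟨rfl, h2⟩ := h
  obtain rfl := eq_of_heq h2
  rfl

instance finite_costr_hom
    (x y : CostructuredArrow (SimplexCategory.Truncated.inclusion n).op Y) : Finite (x ⟶ y) :=
  Finite.of_injective (fun f : x ⟶ y => f.left) (fun f g h => CostructuredArrow.hom_ext f g h)

noncomputable instance finCategory_costr :
    FinCategory (CostructuredArrow (SimplexCategory.Truncated.inclusion n).op Y) where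
  fintypeObj := Fintype.ofFinite _
  fintypeHom _ _ := Fintype.ofFinite _

end Fin

section Main

variable {A : Type u} [Category.{v} A] [Abelian A]

instance hasPointwise (n : ℕ) (F : (SimplexCategory.Truncated n)ᵒᵖ ⥤ A) :
    (SimplexCategory.Truncated.inclusion n).op.HasPointwiseLeftKanExtension F := by
  intro Y
  show HasColimit _
  infer_instance

lemma isZero_of_objX_eq_bot (K : SimplexCategoryᵒᵖ ⥤ A)
    (h : ∀ j, NormalizedMooreComplex.objX (K : SimplicialObject A) j = ⊥) : IsZero K := by
  have hz : IsZero ((AlgebraicTopology.normalizedMooreComplex A).obj K) := by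
    rw [IsZero.iff_id_eq_zero]
    ext j
    apply IsZero.eq_of_src
    show IsZero ((NormalizedMooreComplex.objX (K : SimplicialObject A) j : Subobject _) : A)
    rw [h j]
    exact IsZero.of_iso (isZero_zero _) Subobject.botCoeIsoZero
  haveI : (AlgebraicTopology.normalizedMooreComplex A).Faithful :=
    (inferInstance : (CategoryTheory.Abelian.DoldKan.equivalence (A := A)).functor.Faithful)
  rw [IsZero.iff_id_eq_zero]
  apply (AlgebraicTopology.normalizedMooreComplex A).map_injective
  exact hz.eq_of_src _ _

lemma objX_eq_bot_of_mono {K W : SimplexCategoryᵒᵖ ⥤ A} (ι : K ⟶ W) [Mono ι] (n : ℕ)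
    (hW : ∀ j, n < j → NormalizedMooreComplex.objX (W : SimplicialObject A) j = ⊥)
    (hι : ∀ i, i ≤ n → ι.app (op (SimplexCategory.mk i)) = 0) (j : ℕ) :
    NormalizedMooreComplex.objX (K : SimplicialObject A) j = ⊥ := by
  haveI : Mono (ι.app (op (SimplexCategory.mk j))) := inferInstance
  have key : (NormalizedMooreComplex.objX (K : SimplicialObject A) j).arrow ≫
      ι.app (op (SimplexCategory.mk j)) = 0 := by
    by_cases hj : j ≤ n
    · rw [hι j hj, comp_zero]
    · have h1 : (NormalizedMooreComplex.map (X := (K : SimplicialObject A))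
          (Y := (W : SimplicialObject A)) ι).f j ≫
          (NormalizedMooreComplex.objX (W : SimplicialObject A) j).arrow =
          (NormalizedMooreComplex.objX (K : SimplicialObject A) j).arrow ≫
            ι.app (op (SimplexCategory.mk j)) := by
        simp [AlgebraicTopology.NormalizedMooreComplex.map]
        exact Subobject.factorThru_arrow _ _ _
      have h0 : (NormalizedMooreComplex.objX (W : SimplicialObject A) j).arrow = 0 := by
        rw [hW j (by omega)]; exact Subobject.bot_arrow
      rw [← h1, h0]
      exact comp_zero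
  have h0 : (NormalizedMooreComplex.objX (K : SimplicialObject A) j).arrow = 0 := by
    rw [← cancel_mono (ι.app (op (SimplexCategory.mk j))), key, zero_comp]
  rw [eq_bot_iff, ← AbSubobjH4.image_arrow (NormalizedMooreComplex.objX (K : SimplicialObject A) j),
    ARFsubH4.le_bot_iff']
  exact h0

theorem counit_aux {W U : SimplexCategoryᵒᵖ ⥤ A} (ε : W ⟶ U) (n : ℕ)
    (h1 : ∀ j, n < j → NormalizedMooreComplex.objX (W : SimplicialObject A) j = ⊥)
    (h2 : ∀ i, i ≤ n → IsIso (ε.app (op (SimplexCategory.mk i))))
    (h3 : ∀ k, gen (W : SimplicialObject A) n k = ⊤)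
    (U' : ∀ m : ℕ, Subobject (U.obj (op (SimplexCategory.mk m))))
    (hU' : ∀ m : ℕ, IsLUB (Set.range (fun φ : Σ i : Fin (n + 1),
      (SimplexCategory.mk m ⟶ SimplexCategory.mk i) => imageSubobject (U.map φ.2.op))) (U' m))
    (m : ℕ) :
    Mono (ε.app (op (SimplexCategory.mk m))) ∧
      imageSubobject (ε.app (op (SimplexCategory.mk m))) = U' m := by
  constructor
  · have hmono : Mono ε := by
      apply Preadditive.mono_of_kernel_zero
      have hK : IsZero (kernel ε) := by
        apply isZero_of_objX_eq_bot
        intro j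
        apply objX_eq_bot_of_mono (kernel.ι ε) n h1 _ j
        intro i hi
        haveI := h2 i hi
        rw [← cancel_mono (ε.app (op (SimplexCategory.mk i))), zero_comp, ← NatTrans.comp_app,
          kernel.condition]
        rfl
      exact hK.eq_of_src _ _
    exact (NatTrans.mono_iff_mono_app ε).mp hmono _
  · apply le_antisymm
    · have hepi : Epi (gen (W : SimplicialObject A) n m).arrow := by
        rw [h3 m]; infer_instance
      rw [← AbSubobjH4.img_epi_comp (gen (W : SimplicialObject A) n m).arrow
        (ε.app (op (SimplexCategory.mk m))), Groth.Agent.Lib.ARHilbH4.gal]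
      refine (gen_isLUB (W : SimplicialObject A) n m).2 ?_
      rintro _ ⟨⟨i, φ⟩, rfl⟩
      rw [← Groth.Agent.Lib.ARHilbH4.gal, Groth.Agent.Lib.ARHilbH4.image_image]
      have e : W.map φ.op ≫ ε.app (op (SimplexCategory.mk m)) =
          ε.app (op (SimplexCategory.mk i)) ≫ U.map φ.op := ε.naturality φ.op
      rw [e]
      exact (imageSubobject_comp_le _ _).trans ((hU' m).1 ⟨⟨i, φ⟩, rfl⟩)
    · refine (hU' m).2 ?_
      rintro _ ⟨⟨i, φ⟩, rfl⟩
      haveI := h2 i (Nat.lt_succ_iff.mp i.isLt)
      have e : U.map φ.op = (inv (ε.app (op (SimplexCategory.mk i))) ≫ W.map φ.op) ≫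
          ε.app (op (SimplexCategory.mk m)) := by
        rw [Category.assoc, ε.naturality, IsIso.inv_hom_id_assoc]
      show imageSubobject (U.map φ.op) ≤ _
      rw [e]
      exact imageSubobject_comp_le _ _

lemma isIso_counit_app (U : SimplicialObject A) (n i : ℕ) (hi : i ≤ n)
    [∀ F : (SimplexCategory.Truncated n)ᵒᵖ ⥤ A,
      (SimplexCategory.Truncated.inclusion n).op.HasLeftKanExtension F] :
    IsIso (((SimplicialObject.skAdj n).counit.app U).app (op (SimplexCategory.mk i))) := by
  haveI : IsIso (SimplicialObject.skAdj (C := A) n).unit := inferInstance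
  have tri := (SimplicialObject.skAdj (C := A) n).right_triangle_components U
  haveI : IsIso ((SimplicialObject.truncation n).map
      ((SimplicialObject.skAdj n).counit.app U)) := by
    have hG : (SimplicialObject.truncation n).map ((SimplicialObject.skAdj n).counit.app U) =
        inv ((SimplicialObject.skAdj (C := A) n).unit.app
          ((SimplicialObject.truncation n).obj U)) := by
      rw [← cancel_epi ((SimplicialObject.skAdj (C := A) n).unit.app
          ((SimplicialObject.truncation n).obj U)), tri, IsIso.hom_inv_id]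
      rfl
    rw [hG]; infer_instance
  have := NatIso.isIso_app_of_isIso ((SimplicialObject.truncation n).map
    ((SimplicialObject.skAdj n).counit.app U))
    (op (⟨SimplexCategory.mk i, by simpa using hi⟩ : SimplexCategory.Truncated n))
  exact this

theorem main6819 (U : SimplicialObject A) (n : ℕ)
    (U' : ∀ m : ℕ, Subobject (U.obj (op (SimplexCategory.mk m))))
    (hU' : ∀ m : ℕ, IsLUB (Set.range (fun φ : Σ i : Fin (n + 1),
      (SimplexCategory.mk m ⟶ SimplexCategory.mk i) => imageSubobject (U.map φ.2.op))) (U' m))
    [∀ F : (SimplexCategory.Truncated n)ᵒᵖ ⥤ A,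
      (SimplexCategory.Truncated.inclusion n).op.HasLeftKanExtension F] (m : ℕ) :
    Mono (((SimplicialObject.skAdj n).counit.app U).app (op (SimplexCategory.mk m))) ∧
      imageSubobject (((SimplicialObject.skAdj n).counit.app U).app (op (SimplexCategory.mk m)))
        = U' m := by
  refine counit_aux
    (W := (SimplicialObject.Truncated.sk n).obj ((SimplicialObject.truncation n).obj U)) (U := U)
    ((SimplicialObject.skAdj n).counit.app U) n ?_ ?_ ?_ U' hU' m
  · intro j hj
    exact main6806 n _ j hj
  · intro i hi
    exact isIso_counit_app U n i hi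
  · intro k
    exact gen_eq_top n ((SimplicialObject.truncation n).obj U) ((SimplicialObject.sk n).obj U)
      ((SimplicialObject.skAdj n).unit.app ((SimplicialObject.truncation n).obj U)) k

end Main

end Groth.Agent.Lib.SkCounitH4
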