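/-
helper5: consequences of the condition of `isOpen_fibAssDimIn` for the structure module:
maximal points of fibres are associated; constant fibre dimension; pure relative dimension on opens;
(S_k)-morphisms on opens of the fibrewise (S_k)-locus.
APPEND-ONLY once landed.
-/
import Mathlib
import Groth.Agent.Lib.SkEquidim2_helper5
import Groth.Agent.Lib.CompDims_helper8
import Groth.Agent.Lib.OpenAtEq_helper8
import Groth.Agent.Lib.FibAssGen1_helper5
import Groth.Prelude.Def_RelCanon
import Groth.Prelude.Def_Cyc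

set_option autoImplicit false

namespace Groth.Agent.Lib.SkEquidimH5

open AlgebraicGeometry CategoryTheory TopologicalSpace TensorProduct
open Groth.Agent.Lib.FibSkH5 Groth.Agent.Lib.FibPdH5 Groth.Agent.Lib.FibRectH5
  Groth.Agent.Lib.FibAssH5 Groth.Agent.Lib.FibAssGenH5

universe u

section Max

variable {X Y : Scheme.{u}} (f : X ⟶ Y) [LocallyOfFiniteType f]

/-- a point which is maximal in its fibre is an associated point of the fibre -/
theorem asFiber_mem_ass_of_isMax (ζ : X)
    (hmax : ∀ x'' : X, f.base x'' = f.base ζ → x'' ⤳ ζ → x'' = ζ) :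
    f.asFiber ζ ∈ AssSch.Ass
      ((Scheme.Modules.pullback (f.fiberι (f.base ζ))).obj (Coh.structureModule X)) := by
  haveI : IsLocallyNoetherian (f.fiber (f.base ζ)) :=
    Groth.Agent.CMLocusBC.isLocallyNoetherian_fiber f (f.base ζ)
  have h0 : ringKrullDim ((f.fiber (f.base ζ)).presheaf.stalk (f.asFiber ζ)) = 0 := by
    have h1 := FibCohH8.stalk_fiber_eq_fibCoh f ζ
    rw [OpenAtEqH8.fibCoh_eq_zero_of_isMax f ζ hmax] at h1
    exact h1
  haveI : Ring.KrullDimLE 0 ((f.fiber (f.base ζ)).presheaf.stalk (f.asFiber ζ)) :=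
    ringKrullDimZero_iff_ringKrullDim_eq_zero.mpr h0
  show IsAssociatedPrime (IsLocalRing.maximalIdeal
      ((f.fiber (f.base ζ)).presheaf.stalk (f.asFiber ζ)))
      (((Scheme.Modules.pullback (f.fiberι (f.base ζ))).obj
        (Coh.structureModule X)).presheaf.stalk (f.asFiber ζ))
  rw [← LinearEquiv.isAssociatedPrime_iff
    (stalkPullbackStructureEquiv f (f.base ζ) (f.asFiber ζ))]
  obtain ⟨p, hp⟩ := associatedPrimes.nonempty ((f.fiber (f.base ζ)).presheaf.stalk (f.asFiber ζ))
    ((f.fiber (f.base ζ)).presheaf.stalk (f.asFiber ζ))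
  have hp' : IsAssociatedPrime p _ := hp
  haveI := hp'.isPrime
  have : p = IsLocalRing.maximalIdeal _ :=
    IsLocalRing.eq_maximalIdeal (Ideal.IsPrime.isMaximal' inferInstance)
  rw [← this]
  exact hp'

/-- on the locus of `isOpen_fibAssDimIn` for the structure module and `Φ = {e}`, the local dimension
of the fibres is `e` -/
theorem fibreDimAt_eq_of_forall_fibAssQ (e : ℕ) (x : X)
    (hx : ∀ z : f.fiber (f.base x), f.asFiber x ∈ closure ({z} : Set ↥(f.fiber (f.base x))) →
      FibAssQ f (Coh.structureModule X) {e} (f.base x) z) :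
    FlatMor.fibreDimAt f x = (e : WithBot ℕ∞) := by
  rw [forall_generization_iff f (FibAssQ f (Coh.structureModule X) {e}) x] at hx
  obtain ⟨ζ, hζf, hζx, hζmax, hζdim⟩ := CompDimsH8.exists_fibre_max_eq f x
  have hζmax' : ∀ x'' : X, f.base x'' = f.base ζ → x'' ⤳ ζ → x'' = ζ :=
    fun x'' h1 h2 => hζmax x'' (h1.trans hζf) h2
  obtain ⟨n, hn, hdim⟩ := hx ζ hζx hζf (asFiber_mem_ass_of_isMax f ζ hζmax')
  have hn' : n = e := hn
  subst hn'
  rw [← hζdim, FibCohH8.fibreDimAt_eq f ζ, OpenAtEqH8.fibCoh_eq_zero_of_isMax f ζ hζmax',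
    ← cdim_eq_toENat]
  have h1 := dim_closure_eq_cdim f (f.base ζ) (f.asFiber ζ)
  rw [Scheme.Hom.fiberι_asFiber, hdim] at h1
  rw [← h1]
  simp

/-- dimension formula on the locus of `isOpen_fibAssDimIn` -/
theorem dim_stalk_add_of_forall_fibAssQ (e : ℕ) (x : X)
    (hx : ∀ z : f.fiber (f.base x), f.asFiber x ∈ closure ({z} : Set ↥(f.fiber (f.base x))) →
      FibAssQ f (Coh.structureModule X) {e} (f.base x) z) :
    ringKrullDim ((f.fiber (f.base x)).presheaf.stalk (f.asFiber x)) +
      ((cdim f x : ℕ∞) : WithBot ℕ∞) = (e : WithBot ℕ∞) := by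
  rw [← fibreDimAt_eq_of_forall_fibAssQ f e x hx, FibCohH8.fibreDimAt_eq f x,
    FibCohH8.stalk_fiber_eq_fibCoh f x, cdim_eq_toENat]

/-- pure relative dimension on opens of the locus of `isOpen_fibAssDimIn` -/
theorem hasRelDim_of_forall_fibAssQ (e : ℕ) (U : X.Opens)
    (hU : ∀ x ∈ U, ∀ z : f.fiber (f.base x),
      f.asFiber x ∈ closure ({z} : Set ↥(f.fiber (f.base x))) →
        FibAssQ f (Coh.structureModule X) {e} (f.base x) z) :
    Cyc.HasRelDim (U.ι ≫ f) e := by
  intro t C hC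
  have h1 := CompDimsH8.dims_eq (U.ι ≫ f) t
  have h2 : topologicalKrullDim ↥C ∈
      (fun Z : Set ↥((U.ι ≫ f).fiber t) => topologicalKrullDim ↥Z) ''
        irreducibleComponents ↥((U.ι ≫ f).fiber t) := ⟨C, hC, rfl⟩
  rw [h1] at h2
  obtain ⟨u, -, hd⟩ := h2
  rw [← hd, OpenAtEqH8.fibreDimAt_restrict f U u]
  exact fibreDimAt_eq_of_forall_fibAssQ f e (U.ι.base u) (hU _ u.2)

/-- `(S_k)` for the structure module of the fibre, in terms of the local ring -/
theorem skAt_structureModule_iff (k : ℕ) (x : X) :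
    RelCanon.SkAt k (Coh.structureModule (f.fiber (f.base x))) (f.asFiber x) ↔ FibSk k f x := by
  unfold RelCanon.SkAt FibSk
  set ℓ := CycLenH8.stalkStructureEquiv (f.asFiber x) with hℓ
  constructor
  · intro h
    exact Groth.Agent.Lib.SemiSk_helper6.hasSk_of_semilinear (RingEquiv.refl _)
      ℓ.symm.toAddEquiv (fun r m => ℓ.symm.map_smul r m) k h
  · intro h
    exact Groth.Agent.Lib.SemiSk_helper6.hasSk_of_semilinear (RingEquiv.refl _)
      ℓ.toAddEquiv (fun r m => ℓ.map_smul r m) k h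

/-- the restriction of a flat morphism to an open of its fibrewise `(S_k)`-locus is an
`(S_k)`-morphism -/
theorem isSkMor_of_forall_fibSk [Flat f] (k : ℕ) (U : X.Opens) (hU : ∀ x ∈ U, FibSk k f x) :
    RelCanon.IsSkMor (U.ι ≫ f) k := by
  refine ⟨inferInstance, inferInstance, fun u => ?_⟩
  rw [skAt_structureModule_iff (U.ι ≫ f) k u, fibSk_loc k f U.ι u]
  exact hU _ u.2

theorem fibSk_mono {k k' : ℕ} (h : k' ≤ k) (x : X) (hx : FibSk k f x) : FibSk k' f x := by
  unfold FibSk LocCoh.HasSk at hx ⊢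
  intro p _
  refine le_trans (min_le_min_right _ ?_) (hx p)
  exact_mod_cast h

end Max

end Groth.Agent.Lib.SkEquidimH5
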