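/-
helper5: S19832 — an (S_k)-point (k ≥ 2) of a fibre of a flat morphism locally of finite type has an open
neighbourhood which is an (S_k)-morphism of pure relative dimension, with control of the codimension of the
complement of an open subset in the fibres.
APPEND-ONLY once landed.
-/
import Mathlib
import Groth.Agent.Lib.SkEquidim3_helper5
import Groth.Agent.Lib.AffDim10_helper8
import Groth.Agent.Lib.ProdGen_helper8
import Groth.Agent.Lib.OpenAtComp_helper8

set_option autoImplicit false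

namespace Groth.Agent.Lib.SkEquidimH5

open AlgebraicGeometry CategoryTheory TopologicalSpace TensorProduct
open Groth.Agent.Lib.FibSkH5 Groth.Agent.Lib.FibPdH5 Groth.Agent.Lib.FibRectH5
  Groth.Agent.Lib.FibAssH5 Groth.Agent.Lib.FibAssGenH5

universe u

section Arith

theorem arith_le (x : WithBot ℕ∞) (c : ℕ∞) (e n : ℕ)
    (h : x + ((c : ℕ∞) : WithBot ℕ∞) = (e : WithBot ℕ∞)) (hx : (n : WithBot ℕ∞) ≤ x) :
    n ≤ e ∧ c ≤ ((e - n : ℕ) : ℕ∞) := by
  induction x with
  | bot => simp at hx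
  | coe x' =>
    have h' : x' + c = (e : ℕ∞) := by exact_mod_cast h
    have hx' : (n : ℕ∞) ≤ x' := by exact_mod_cast hx
    have hx'top : x' ≠ ⊤ := by
      intro ht
      rw [ht, top_add] at h'
      exact ENat.top_ne_natCast e h'
    have hctop : c ≠ ⊤ := by
      intro ht
      rw [ht, add_top] at h'
      exact ENat.top_ne_natCast e h'
    lift x' to ℕ using hx'top
    lift c to ℕ using hctop
    have h'' : x' + c = e := by exact_mod_cast h'
    have hx'' : n ≤ x' := by exact_mod_cast hx'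
    refine ⟨by omega, ?_⟩
    have : c ≤ e - n := by omega
    exact_mod_cast this

theorem arith_ge (x : WithBot ℕ∞) (c : ℕ∞) (e n : ℕ)
    (h : x + ((c : ℕ∞) : WithBot ℕ∞) = (e : WithBot ℕ∞)) (hne : n ≤ e)
    (hc : c ≤ ((e - n : ℕ) : ℕ∞)) : (n : WithBot ℕ∞) ≤ x := by
  induction x with
  | bot => simp at h
  | coe x' =>
    have h' : x' + c = (e : ℕ∞) := by exact_mod_cast h
    have hx'top : x' ≠ ⊤ := by
      intro ht
      rw [ht, top_add] at h'
      exact ENat.top_ne_natCast e h'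
    have hctop : c ≠ ⊤ := by
      intro ht
      rw [ht, add_top] at h'
      exact ENat.top_ne_natCast e h'
    lift x' to ℕ using hx'top
    lift c to ℕ using hctop
    have h'' : x' + c = e := by exact_mod_cast h'
    have hc' : c ≤ e - n := by exact_mod_cast hc
    have : n ≤ x' := by omega
    exact_mod_cast this

end Arith

section Flat

variable {X S : Scheme.{u}} (h : X ⟶ S)

/-- the structure sheaf of the source of a flat morphism is flat over the base
(as helper2's `BCFunH2.isFlatOver_unit`) -/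
theorem isFlatOver_structureModule [Flat h] : FlatMod.IsFlatOver h (Coh.structureModule X) := by
  intro x
  unfold FlatMod.IsFlatOverAt
  letI := FlatMod.moduleStalkOver h (Coh.structureModule X) x
  letI : Algebra (S.presheaf.stalk (h.base x)) (X.presheaf.stalk x) :=
    (h.stalkMap x).hom.toAlgebra
  haveI : Module.Flat (S.presheaf.stalk (h.base x)) (X.presheaf.stalk x) := Flat.stalkMap h x
  let e : (X.presheaf.stalk x) ≃ₗ[S.presheaf.stalk (h.base x)]
      ((Coh.structureModule X).presheaf.stalk x) :=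
    { (CycLenH8.stalkStructureEquiv x) with
      map_smul' := fun r z => by
        show (CycLenH8.stalkStructureEquiv x) ((h.stalkMap x).hom r * z) =
          (h.stalkMap x).hom r • (CycLenH8.stalkStructureEquiv x) z
        rw [← smul_eq_mul, map_smul] }
  exact Module.Flat.of_linearEquiv e.symm

end Flat

section Main

variable {Y T : Scheme.{u}} (f : Y ⟶ T)

set_option maxHeartbeats 1000000 in
theorem main19832 [IsLocallyNoetherian Y] [IsLocallyNoetherian T]
    [Flat f] [LocallyOfFiniteType f] (k : ℕ) (hk : 2 ≤ k) (y : Y)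
    (hy : RelCanon.SkAt k (Coh.structureModule (f.fiber (f y))) (f.asFiber y))
    (Yo : Y.Opens) (hyo : y ∉ Yo) (c : WithBot ℕ∞)
    (hc : ∀ z : Y, f z = f y → z ∉ Yo → z ⤳ y →
      c ≤ ringKrullDim ((f.fiber (f z)).presheaf.stalk (f.asFiber z))) :
    ∃ U : Y.Opens, y ∈ U ∧ RelCanon.IsSkMor (U.ι ≫ f) k ∧
      (∃ e : ℕ, Cyc.HasRelDim (U.ι ≫ f) e) ∧
      ∀ z : Y, z ∈ U → z ∉ Yo →
        c ≤ ringKrullDim ((f.fiber (f z)).presheaf.stalk (f.asFiber z)) := by
  classical
  haveI : LocallyOfFinitePresentation f :=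
    LocallyOfFinitePresentation.iff_locallyOfFiniteType.mpr inferInstance
  have hyk : FibSk k f y := (skAt_structureModule_iff f k y).mp hy
  have hy2 : FibSk 2 f y := fibSk_mono f hk y hyk
  obtain ⟨e₀, he₀⟩ := exists_fibAssQ_of_fibSk f y hy2
  have hF : CohB1.IsFP (Coh.structureModule Y) := isFP_structureModule Y
  have hW1 := isOpen_fibAssDimIn f (Coh.structureModule Y) hF (isFlatOver_structureModule f) {e₀}
  have hW2 := fibSk_isOpen k f
  set W1 : Y.Opens := ⟨_, hW1⟩ with hW1def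
  set W2 : Y.Opens := ⟨_, hW2⟩ with hW2def
  have hyW1 : y ∈ W1 := he₀
  have hyW2 : y ∈ W2 := hyk
  have hform : ∀ z ∈ W1, ringKrullDim ((f.fiber (f.base z)).presheaf.stalk (f.asFiber z)) +
      ((cdim f z : ℕ∞) : WithBot ℕ∞) = (e₀ : WithBot ℕ∞) :=
    fun z hz => dim_stalk_add_of_forall_fibAssQ f e₀ z hz
  -- the general shape of the conclusion
  have hmain : ∀ U : Y.Opens, U ≤ W1 ⊓ W2 → RelCanon.IsSkMor (U.ι ≫ f) k ∧
      (∃ e : ℕ, Cyc.HasRelDim (U.ι ≫ f) e) := by
    intro U hU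
    exact ⟨isSkMor_of_forall_fibSk f k U (fun x hx => (hU hx).2),
      e₀, hasRelDim_of_forall_fibAssQ f e₀ U (fun x hx => (hU hx).1)⟩
  induction c with
  | bot =>
    exact ⟨W1 ⊓ W2, ⟨hyW1, hyW2⟩, (hmain _ le_rfl).1, (hmain _ le_rfl).2, fun _ _ _ => bot_le⟩
  | coe c =>
  induction c with
  | top =>
    exfalso
    have h1 := hc y rfl hyo specializes_rfl
    haveI := isNoetherianRing_fibre_stalk f (f.base y) (f.asFiber y)
    have h2 : ringKrullDim ((f.fiber (f.base y)).presheaf.stalk (f.asFiber y)) < ⊤ :=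
      ringKrullDim_lt_top
    exact absurd (lt_of_le_of_lt h1 h2) (lt_irrefl _)
  | coe n =>
    -- `n ≤ e₀`
    have hne : n ≤ e₀ := (arith_le _ _ e₀ n (hform y hyW1) (hc y rfl hyo specializes_rfl)).1
    -- the closed complement of `Yo` as a scheme
    obtain ⟨D, i, hi, hrange⟩ := ProdGenH8.exists_closedImmersion_range Y ((Yo : Set Y)ᶜ)
      Yo.isOpen.isClosed_compl
    haveI := hi
    set g : D ⟶ T := i ≫ f with hg
    have hcdim : ∀ w : D, ((cdim f (i.base w) : ℕ∞) : WithBot ℕ∞) ≤ FlatMor.fibreDimAt g w := by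
      intro w
      rw [FibCohH8.fibreDimAt_eq g w, OpenAtCompH8.resTrdeg_closedImmersion_comp,
        ← cdim_eq_toENat, ← WithBot.coe_add]
      exact WithBot.coe_le_coe.mpr le_add_self
    set B : Set Y := i.base '' {w : D | ((e₀ - n + 1 : ℕ) : WithBot ℕ∞) ≤ FlatMor.fibreDimAt g w}
      with hB
    have hBcl : IsClosed B :=
      i.isClosedEmbedding.isClosedMap _
        (Groth.Agent.Lib.AffDimH8.isClosed_fibreDimAt_ge g (e₀ - n + 1))
    have hyB : y ∉ B := by
      rintro ⟨w, hw, hwy⟩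
      obtain ⟨ζ, hζg, hζw, hζmax, hζdim⟩ := CompDimsH8.exists_fibre_max_eq g w
      have hζmax' : ∀ x'' : D, g.base x'' = g.base ζ → x'' ⤳ ζ → x'' = ζ :=
        fun x'' h1 h2 => hζmax x'' (h1.trans hζg) h2
      have hdimζ : FlatMor.fibreDimAt g ζ = ((cdim f (i.base ζ) : ℕ∞) : WithBot ℕ∞) := by
        rw [FibCohH8.fibreDimAt_eq g ζ, OpenAtEqH8.fibCoh_eq_zero_of_isMax g ζ hζmax',
          OpenAtCompH8.resTrdeg_closedImmersion_comp, ← cdim_eq_toENat]
        simp
      have hzy : i.base ζ ⤳ y := by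
        rw [← hwy]
        exact hζw.map i.base.hom.continuous
      have hzf : f (i.base ζ) = f y := by
        rw [← hwy]
        exact hζg
      have hzo : i.base ζ ∉ Yo := by
        have : i.base ζ ∈ Set.range i.base := ⟨ζ, rfl⟩
        rw [hrange] at this
        exact this
      have hzW1 : i.base ζ ∈ W1 := hzy.mem_open W1.isOpen hyW1
      have h1 := (arith_le _ _ e₀ n (hform _ hzW1) (hc _ hzf hzo hzy)).2
      have h2 : ((e₀ - n + 1 : ℕ) : WithBot ℕ∞) ≤ ((cdim f (i.base ζ) : ℕ∞) : WithBot ℕ∞) := by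
        rw [← hdimζ, hζdim]
        exact hw
      have h2' : ((((e₀ - n + 1 : ℕ) : ℕ∞)) : WithBot ℕ∞) ≤
          ((cdim f (i.base ζ) : ℕ∞) : WithBot ℕ∞) := h2
      have h3 : ((e₀ - n + 1 : ℕ) : ℕ∞) ≤ ((e₀ - n : ℕ) : ℕ∞) :=
        le_trans (WithBot.coe_le_coe.mp h2') h1
      have h4 : e₀ - n + 1 ≤ e₀ - n := by exact_mod_cast h3
      omega
    set U : Y.Opens := W1 ⊓ W2 ⊓ ⟨Bᶜ, hBcl.isOpen_compl⟩ with hU
    refine ⟨U, ⟨⟨hyW1, hyW2⟩, hyB⟩, (hmain U inf_le_left).1, (hmain U inf_le_left).2, ?_⟩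
    intro z hzU hzo
    have hzW1 : z ∈ W1 := hzU.1.1
    have hzB : z ∉ B := hzU.2
    obtain ⟨w, rfl⟩ : z ∈ Set.range i.base := by
      rw [hrange]
      exact hzo
    have h1 : ¬ ((e₀ - n + 1 : ℕ) : WithBot ℕ∞) ≤ FlatMor.fibreDimAt g w :=
      fun h => hzB ⟨w, h, rfl⟩
    rw [← Groth.Agent.Lib.AffDimH8.natCast_lt_iff_add_one_le, not_lt] at h1
    have h2 : ((cdim f (i.base w) : ℕ∞) : WithBot ℕ∞) ≤ ((e₀ - n : ℕ) : WithBot ℕ∞) :=
      le_trans (hcdim w) h1
    have h2' : ((cdim f (i.base w) : ℕ∞) : WithBot ℕ∞) ≤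
        ((((e₀ - n : ℕ) : ℕ∞)) : WithBot ℕ∞) := h2
    have h3 : cdim f (i.base w) ≤ ((e₀ - n : ℕ) : ℕ∞) := WithBot.coe_le_coe.mp h2'
    exact arith_ge _ _ e₀ n (hform _ hzW1) hne h3

end Main

end Groth.Agent.Lib.SkEquidimH5
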