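import Mathlib

set_option autoImplicit false
set_option linter.style.haveILetI false
set_option linter.unusedSectionVars false

universe u

open CategoryTheory CategoryTheory.Limits Opposite Simplicial

namespace Groth.Agent.Lib.SkSSetH4

theorem skeleton_eq_top_of_isLeftKanExtension (m : ℕ) (U : SSet.Truncated.{u} m) (V : SSet.{u})
    (η : U ⟶ (SimplexCategory.Truncated.inclusion m).op ⋙ V) [V.IsLeftKanExtension η] :
    V.skeleton (m + 1) = ⊤ := by
  obtain ⟨A, hA⟩ : ∃ A : V.Subcomplex, A = V.skeleton (m + 1) := ⟨_, rfl⟩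
  rw [← hA]
  haveI hiso : IsIso (Functor.whiskerLeft (SimplexCategory.Truncated.inclusion m).op A.ι) := by
    haveI : ∀ x, IsIso ((Functor.whiskerLeft (SimplexCategory.Truncated.inclusion m).op
        A.ι).app x) := by
      intro x
      show IsIso (A.ι.app ((SimplexCategory.Truncated.inclusion m).op.obj x))
      rw [isIso_iff_bijective]
      constructor
      · intro a b hab
        exact Subtype.ext hab
      · intro y
        have h2 : A.obj ((SimplexCategory.Truncated.inclusion m).op.obj x) = ⊤ := by
          rw [hA]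
          exact V.skeleton_obj_eq_top (d := x.unop.obj.len) (n := m + 1)
            (Nat.lt_succ_of_le x.unop.property)
        have hy : y ∈ A.obj ((SimplexCategory.Truncated.inclusion m).op.obj x) := by
          rw [h2]; trivial
        exact ⟨⟨y, hy⟩, rfl⟩
    exact NatIso.isIso_of_isIso_app _
  obtain ⟨r, hr⟩ : ∃ r : V ⟶ A.toSSet,
      η ≫ Functor.whiskerLeft (SimplexCategory.Truncated.inclusion m).op r
      = η ≫ inv (Functor.whiskerLeft (SimplexCategory.Truncated.inclusion m).op A.ι) :=
    ⟨_, V.descOfIsLeftKanExtension_fac η A.toSSet _⟩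
  have hrι : r ≫ A.ι = 𝟙 V := by
    apply V.hom_ext_of_isLeftKanExtension η
    rw [Functor.whiskerLeft_comp, ← Category.assoc, hr, Category.assoc, IsIso.inv_hom_id,
      Functor.whiskerLeft_id']
  rw [eq_top_iff]
  intro c x _
  have h : ((r.app c) x).val = x := by
    have h0 := ConcreteCategory.congr_hom (congr_app hrι c) x
    simpa using h0
  rw [← h]
  exact ((r.app c) x).property

theorem hasDimensionLT_of_isLeftKanExtension (m : ℕ) (U : SSet.Truncated.{u} m) (V : SSet.{u})
    (η : U ⟶ (SimplexCategory.Truncated.inclusion m).op ⋙ V) [V.IsLeftKanExtension η] :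
    V.HasDimensionLT (m + 1) := by
  have htop := skeleton_eq_top_of_isLeftKanExtension m U V η
  refine ⟨fun n hn => ?_⟩
  rw [eq_top_iff]
  intro x _
  by_contra hx
  have h1 := (V.mem_skeleton_obj_iff_of_nonDegenerate ⟨x, hx⟩ (m + 1)).mp (by
    rw [htop]; trivial)
  omega

theorem main6805 (m : ℕ) (U : SSet.Truncated.{u} m) :
    ((SSet.Truncated.sk m).obj U).HasDimensionLT (m + 1) :=
  hasDimensionLT_of_isLeftKanExtension m U _
    ((SimplexCategory.Truncated.inclusion m).op.lanUnit.app U)

end Groth.Agent.Lib.SkSSetH4
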