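import Mathlib
import Groth.Agent.Lib.SkSSet_helper4

set_option autoImplicit false
set_option linter.style.haveILetI false
set_option linter.unusedSectionVars false

universe u

open CategoryTheory CategoryTheory.Limits Opposite Simplicial SSet

namespace Groth.Agent.Lib.SkSSetCounitH4

section General

variable {W U : SSet.{u}} (ε : W ⟶ U) (n : ℕ)
  (h2 : ∀ i, i ≤ n → IsIso (ε.app (op ⦋i⦌)))

include h2

lemma inj_low (i : ℕ) (hi : i ≤ n) : Function.Injective (ε.app (op ⦋i⦌)) :=
  ((isIso_iff_bijective _).mp (h2 i hi)).1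

lemma surj_low (i : ℕ) (hi : i ≤ n) : Function.Surjective (ε.app (op ⦋i⦌)) :=
  ((isIso_iff_bijective _).mp (h2 i hi)).2

lemma nonDegenerate_map (j : ℕ) (hj : j ≤ n) (x : W _⦋j⦌) (hx : x ∈ W.nonDegenerate j) :
    ε.app _ x ∈ U.nonDegenerate j := by
  rw [mem_nonDegenerate_iff_notMem_degenerate] at hx ⊢
  intro hd
  obtain ⟨j', hj', g, z, hz⟩ := hd
  obtain ⟨z', rfl⟩ := surj_low ε n h2 j' (by omega) z
  apply hx
  refine ⟨j', hj', g, z', ?_⟩
  apply inj_low ε n h2 j hj
  rw [NatTrans.naturality_apply]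
  exact hz

variable [W.HasDimensionLT (n + 1)]

lemma injective_app (k : ℕ) : Function.Injective (ε.app (op ⦋k⦌)) := by
  intro x y hxy
  obtain ⟨j₁, f₁, hf₁, x', hx⟩ := W.exists_nonDegenerate x
  obtain ⟨j₂, f₂, hf₂, y', hy⟩ := W.exists_nonDegenerate y
  have hj₁ : j₁ < n + 1 := W.dim_lt_of_nonDegenerate x' (n + 1)
  have hj₂ : j₂ < n + 1 := W.dim_lt_of_nonDegenerate y' (n + 1)
  have hx'' : ε.app _ x'.1 ∈ U.nonDegenerate j₁ :=
    nonDegenerate_map ε n h2 j₁ (by omega) x'.1 x'.2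
  have hy'' : ε.app _ y'.1 ∈ U.nonDegenerate j₂ :=
    nonDegenerate_map ε n h2 j₂ (by omega) y'.1 y'.2
  have e1 : ε.app _ x = U.map f₁.op (ε.app _ x'.1) := by
    rw [hx, NatTrans.naturality_apply]
  have e2 : ε.app _ x = U.map f₂.op (ε.app _ y'.1) := by
    rw [hxy, hy, NatTrans.naturality_apply]
  obtain rfl : j₁ = j₂ :=
    U.unique_nonDegenerate_dim (ε.app _ x) f₁ ⟨_, hx''⟩ e1 f₂ ⟨_, hy''⟩ e2
  have e3 := U.unique_nonDegenerate_simplex (ε.app _ x) f₁ ⟨_, hx''⟩ e1 f₂ ⟨_, hy''⟩ e2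
  have e4 : f₁ = f₂ := U.unique_nonDegenerate_map (ε.app _ x) f₁ ⟨_, hx''⟩ e1 f₂ ⟨_, hy''⟩ e2
  have e5 : x'.1 = y'.1 := inj_low ε n h2 j₁ (by omega) (congrArg Subtype.val e3)
  rw [hx, hy, e4, e5]

lemma range_eq : Subcomplex.range ε = U.skeleton (n + 1) := by
  apply le_antisymm
  · intro c u hu
    obtain ⟨w, rfl⟩ := hu
    induction c using Opposite.rec with | _ c =>
    induction c using SimplexCategory.rec with | _ k =>
    obtain ⟨j, f, hf, w', hw⟩ := W.exists_nonDegenerate w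
    have hj : j < n + 1 := W.dim_lt_of_nonDegenerate w' (n + 1)
    rw [hw, NatTrans.naturality_apply]
    exact (U.skeleton (n + 1)).map f.op (U.mem_skeleton (ε.app _ w'.1) hj)
  · simp only [SSet.skeleton, OrderHom.coe_mk, iSup_le_iff]
    intro i x
    rw [Subcomplex.ofSimplex_le_iff]
    obtain ⟨w, hw⟩ := surj_low ε n h2 i (by have := i.isLt; omega) x.1
    exact ⟨w, hw⟩

lemma mono_of : Mono ε := by
  rw [NatTrans.mono_iff_mono_app]
  intro c
  induction c using Opposite.rec with | _ c =>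
  induction c using SimplexCategory.rec with | _ k =>
  rw [mono_iff_injective]
  exact injective_app ε n h2 k

end General

lemma isIso_counit_app (U : SSet.{u}) (n i : ℕ) (hi : i ≤ n) :
    IsIso (((SSet.skAdj n).counit.app U).app (op ⦋i⦌)) := by
  have tri := (SSet.skAdj.{u} n).right_triangle_components U
  haveI : IsIso ((SSet.truncation n).map ((SSet.skAdj n).counit.app U)) := by
    have hG : (SSet.truncation n).map ((SSet.skAdj n).counit.app U) =
        inv ((SSet.skAdj.{u} n).unit.app ((SSet.truncation n).obj U)) := by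
      rw [← cancel_epi ((SSet.skAdj.{u} n).unit.app ((SSet.truncation n).obj U)), tri,
        IsIso.hom_inv_id]
      rfl
    rw [hG]; infer_instance
  have := NatIso.isIso_app_of_isIso ((SSet.truncation n).map ((SSet.skAdj n).counit.app U))
    (op (⟨⦋i⦌, by simpa using hi⟩ : SimplexCategory.Truncated n))
  exact this

theorem main6812 (U : SSet.{u}) (n : ℕ) :
    Mono ((SSet.skAdj n).counit.app U) ∧
      SSet.Subcomplex.range ((SSet.skAdj n).counit.app U) = U.skeleton (n + 1) := by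
  have h2 : ∀ i, i ≤ n → IsIso (((SSet.skAdj n).counit.app U).app (op ⦋i⦌)) :=
    fun i hi => isIso_counit_app U n i hi
  haveI : ((SSet.Truncated.sk n).obj ((SSet.truncation n).obj U)).HasDimensionLT (n + 1) :=
    Groth.Agent.Lib.SkSSetH4.main6805 n _
  exact ⟨mono_of (W := (SSet.Truncated.sk n).obj ((SSet.truncation n).obj U)) (U := U)
      ((SSet.skAdj n).counit.app U) n h2,
    range_eq (W := (SSet.Truncated.sk n).obj ((SSet.truncation n).obj U)) (U := U)
      ((SSet.skAdj n).counit.app U) n h2⟩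

end Groth.Agent.Lib.SkSSetCounitH4
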