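import Mathlib
import Groth.Prelude.Def_CohSite

set_option autoImplicit false
set_option linter.style.haveILetI false
set_option linter.unusedSectionVars false

universe u

namespace Groth.Agent.Lib.SkyExactH4

open CategoryTheory Opposite Limits

lemma epi_piMap {α : Type u} {f g : α → AddCommGrpCat.{u}} (q : ∀ a, f a ⟶ g a)
    [∀ a, Epi (q a)] : Epi (Limits.Pi.map q) := by
  haveI : ∀ X : Discrete α, Epi ((Discrete.natTrans (fun X : Discrete α => q X.as) :
      Discrete.functor f ⟶ Discrete.functor g).app X) :=
    fun X => inferInstanceAs (Epi (q X.as))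
  haveI : Epi (Discrete.natTrans (fun X : Discrete α => q X.as) :
      Discrete.functor f ⟶ Discrete.functor g) := NatTrans.epi_of_epi_app _
  haveI : PreservesFiniteColimits
      (lim : (Discrete α ⥤ AddCommGrpCat.{u}) ⥤ AddCommGrpCat.{u}) := inferInstance
  exact inferInstanceAs (Epi ((lim : (Discrete α ⥤ AddCommGrpCat.{u}) ⥤ AddCommGrpCat.{u}).map
    (Discrete.natTrans (fun X : Discrete α => q X.as) :
      Discrete.functor f ⟶ Discrete.functor g)))

variable {C : Type u} [SmallCategory C] {J : GrothendieckTopology C}

theorem main9109 (p : GrothendieckTopology.Point.{u} J) :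
    PreservesFiniteColimits (p.skyscraperSheafFunctor (A := AddCommGrpCat.{u})) := by
  haveI : PreservesLimitsOfSize.{u, u} (p.skyscraperSheafFunctor (A := AddCommGrpCat.{u})) :=
    (p.skyscraperSheafAdjunction (A := AddCommGrpCat.{u})).rightAdjoint_preservesLimits
  haveI : PreservesFiniteLimits (p.skyscraperSheafFunctor (A := AddCommGrpCat.{u})) :=
    inferInstance
  haveI : (p.skyscraperSheafFunctor (A := AddCommGrpCat.{u})).Additive :=
    Functor.additive_of_preserves_binary_products _
  rw [Functor.preservesFiniteColimits_iff_forall_exact_map_and_epi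
    (p.skyscraperSheafFunctor (A := AddCommGrpCat.{u}))]
  intro S hS
  have h1 := (Functor.preservesFiniteLimits_iff_forall_exact_map_and_mono
    (p.skyscraperSheafFunctor (A := AddCommGrpCat.{u}))).mp inferInstance S hS
  refine ⟨h1.1, ?_⟩
  haveI := hS.epi_g
  haveI : ∀ X, Epi (((p.skyscraperSheafFunctor (A := AddCommGrpCat.{u})).map S.g).hom.app X) := by
    intro X
    show Epi (Limits.Pi.map (fun (_ : p.fiber.obj X.unop) => S.g))
    exact epi_piMap _
  haveI : Epi ((p.skyscraperSheafFunctor (A := AddCommGrpCat.{u})).map S.g).hom :=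
    NatTrans.epi_of_epi_app _
  exact Sheaf.Hom.epi_of_presheaf_epi (f :=
    ((p.skyscraperSheafFunctor (A := AddCommGrpCat.{u})).map S.g))

end Groth.Agent.Lib.SkyExactH4
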