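import Mathlib
set_option maxSynthPendingDepth 3

namespace Groth.Agent.Lib.Sl2Trace

open LieModule

section arith

lemma three_sum (R : Type*) [CommRing R] (a : R) (N : ℕ) :
    3 * ∑ i ∈ Finset.range N, (a - 2 * (i : R)) ^ 2 =
      (N : R) * (3 * a ^ 2 - 6 * a * ((N : R) - 1) + 2 * ((N : R) - 1) * (2 * (N : R) - 1)) := by
  induction N with
  | zero => simp
  | succ N ih =>
    rw [Finset.sum_range_succ, mul_add, ih]
    push_cast
    ring

lemma six_choose (n : ℕ) : (n + 2).choose 3 * 3 * 2 = (n + 2) * ((n + 1) * n) := by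
  have h1 := Nat.add_one_mul_choose_eq (n + 1) 2
  have h2 := Nat.add_one_mul_choose_eq n 1
  rw [Nat.choose_one_right] at h2
  rw [← h1, mul_assoc, ← h2]

lemma sum_sq (k : Type*) [Field k] [CharZero k] (n : ℕ) :
    ∑ i ∈ Finset.range (n + 1), ((n : k) - 2 * (i : k)) ^ 2 =
      2 * (((n + 2).choose 3 : ℕ) : k) := by
  have h3 := three_sum k (n : k) (n + 1)
  have h6 : (((n + 2).choose 3 : ℕ) : k) * 3 * 2 = ((n : k) + 2) * (((n : k) + 1) * n) := by
    exact_mod_cast six_choose n
  have h3ne : (3 : k) ≠ 0 := three_ne_zero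
  apply mul_left_cancel₀ h3ne
  rw [h3]
  push_cast
  linear_combination (-1 : k) * h6

end arith

variable {k : Type*} [Field k] [IsAlgClosed k] [CharZero k]
  {L : Type*} [LieRing L] [LieAlgebra k L] {h e f : L}

theorem irr_trace (t : IsSl2Triple h e f) (hspan : t.toLieSubalgebra k = ⊤)
    (M : Type*) [AddCommGroup M] [Module k M] [LieRingModule L M] [LieModule k L M]
    [FiniteDimensional k M] [LieModule.IsIrreducible k L M] :
    LinearMap.trace k M ((toEnd k L M h) ^ 2) =
      2 * (((Module.finrank k M + 1).choose 3 : ℕ) : k) := by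
  classical
  haveI : Nontrivial M := LieModule.nontrivial_of_isIrreducible k L M
  obtain ⟨μ, m, hm0, P⟩ := IsSl2Triple.exists_hasPrimitiveVectorWith (R := k) (M := M) t
  obtain ⟨n, hn⟩ := P.exists_nat
  subst hn
  obtain ⟨v, hv⟩ : ∃ v : Fin (n + 1) → M, ∀ i, v i = ((toEnd k L M f) ^ (i : ℕ)) m :=
    ⟨_, fun _ => rfl⟩
  have hvh : ∀ i : Fin (n + 1), ⁅h, v i⁆ = ((n : k) - 2 * ((i : ℕ) : k)) • v i := by
    intro i
    rw [hv i]
    exact P.lie_h_pow_toEnd_f i
  have hvne : ∀ i : Fin (n + 1), v i ≠ 0 := by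
    intro i
    rw [hv i]
    exact P.pow_toEnd_f_ne_zero_of_eq_nat rfl (Nat.lt_succ_iff.mp i.2)
  have hinj : Function.Injective (fun i : Fin (n + 1) => (n : k) - 2 * ((i : ℕ) : k)) := by
    intro i j hij
    have hij' : (n : k) - 2 * ((i : ℕ) : k) = (n : k) - 2 * ((j : ℕ) : k) := hij
    have h2 : (2 : k) ≠ 0 := two_ne_zero
    have h1 := sub_right_injective hij'
    have h3 : ((i : ℕ) : k) = ((j : ℕ) : k) := mul_left_cancel₀ h2 h1
    exact Fin.ext (Nat.cast_injective h3)
  have hli : LinearIndependent k v :=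
    Module.End.eigenvectors_linearIndependent' (toEnd k L M h) _ hinj v
      (fun i => ⟨Module.End.mem_eigenspace_iff.mpr (by rw [toEnd_apply_apply]; exact hvh i),
        hvne i⟩)
  obtain ⟨U, hU⟩ : ∃ U : Submodule k M, U = Submodule.span k (Set.range v) := ⟨_, rfl⟩
  have hvU : ∀ i, v i ∈ U := fun i => hU ▸ Submodule.subset_span ⟨i, rfl⟩
  have stable : ∀ φ : Module.End k M, (∀ i, φ (v i) ∈ U) → ∀ x ∈ U, φ x ∈ U := by
    intro φ hφ x hx
    have hle : U.map φ ≤ U := by
      rw [hU, Submodule.map_span, Submodule.span_le]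
      rintro _ ⟨_, ⟨i, rfl⟩, rfl⟩
      rw [← hU]; exact hφ i
    exact hle (Submodule.mem_map_of_mem hx)
  have hh : ∀ x ∈ U, ⁅h, x⁆ ∈ U := fun x hx => by
    have := stable (toEnd k L M h)
      (fun i => by rw [toEnd_apply_apply, hvh i]; exact U.smul_mem _ (hvU i)) x hx
    rwa [toEnd_apply_apply] at this
  have hf : ∀ x ∈ U, ⁅f, x⁆ ∈ U := fun x hx => by
    have := stable (toEnd k L M f) (fun i => by
      rw [toEnd_apply_apply, hv i, P.lie_f_pow_toEnd_f (i : ℕ)]
      by_cases hi : (i : ℕ) + 1 ≤ n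
      · have h1 := hvU ⟨(i : ℕ) + 1, by omega⟩
        rw [hv] at h1
        exact h1
      · have h2 : (i : ℕ) = n := by have := i.2; omega
        rw [h2, P.pow_toEnd_f_eq_zero_of_eq_nat rfl]
        exact U.zero_mem) x hx
    rwa [toEnd_apply_apply] at this
  have he : ∀ x ∈ U, ⁅e, x⁆ ∈ U := fun x hx => by
    have := stable (toEnd k L M e) (fun i => by
      rw [toEnd_apply_apply, hv i]
      obtain ⟨j, hj⟩ : ∃ j : ℕ, (i : ℕ) = j := ⟨_, rfl⟩
      rw [hj]
      cases j with
      | zero =>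
        rw [pow_zero, Module.End.one_apply, P.lie_e]
        exact U.zero_mem
      | succ j =>
        rw [P.lie_e_pow_succ_toEnd_f j]
        have hj' : j < n + 1 := by have := i.2; omega
        have h1 := hvU ⟨j, hj'⟩
        rw [hv] at h1
        exact U.smul_mem _ h1) x hx
    rwa [toEnd_apply_apply] at this
  have hall : ∀ (x : L) (y : M), y ∈ U → ⁅x, y⁆ ∈ U := by
    intro x y hy
    have hx : x ∈ t.toLieSubalgebra k := by rw [hspan]; exact LieSubalgebra.mem_top x
    obtain ⟨c₁, c₂, c₃, rfl⟩ := (IsSl2Triple.mem_toLieSubalgebra_iff (R := k)).mp hx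
    rw [add_lie, add_lie, smul_lie, smul_lie, smul_lie, t.lie_e_f]
    exact U.add_mem (U.add_mem (U.smul_mem _ (he y hy)) (U.smul_mem _ (hf y hy)))
      (U.smul_mem _ (hh y hy))
  let N : LieSubmodule k L M := { toSubmodule := U, lie_mem := fun {x y} hy => hall x y hy }
  have hNne : N ≠ ⊥ := by
    intro hN
    have h0 : v ⟨0, Nat.succ_pos n⟩ ∈ N := hvU _
    rw [hN, LieSubmodule.mem_bot] at h0
    exact hvne _ h0
  have hNtop : N = ⊤ := (IsSimpleOrder.eq_bot_or_eq_top N).resolve_left hNne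
  have hUtop : U = ⊤ := by
    have h1 := congrArg LieSubmodule.toSubmodule hNtop
    rw [LieSubmodule.top_toSubmodule] at h1
    exact h1
  let b : Module.Basis (Fin (n + 1)) k M :=
    Module.Basis.mk hli (le_of_eq (by rw [← hU, hUtop]))
  have hb : ∀ i, b i = v i := fun i => Module.Basis.mk_apply hli _ i
  have hfin : Module.finrank k M = n + 1 := by
    rw [Module.finrank_eq_card_basis b, Fintype.card_fin]
  have hsq : ∀ i, ((toEnd k L M h) ^ 2) (b i) =
      (((n : k) - 2 * ((i : ℕ) : k)) ^ 2) • b i := by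
    intro i
    rw [hb, pow_two, Module.End.mul_apply, toEnd_apply_apply, toEnd_apply_apply, hvh i,
      lie_smul, hvh i, smul_smul, ← pow_two]
  rw [LinearMap.trace_eq_matrix_trace k b, Matrix.trace]
  simp only [Matrix.diag_apply, LinearMap.toMatrix_apply, hsq, map_smul,
    Module.Basis.repr_self, Finsupp.smul_apply, Finsupp.single_eq_same, smul_eq_mul, mul_one]
  rw [hfin, Fin.sum_univ_eq_sum_range (fun i => ((n : k) - 2 * (i : k)) ^ 2) (n + 1)]
  exact sum_sq k n

theorem main (t : IsSl2Triple h e f) (hspan : t.toLieSubalgebra k = ⊤)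
    (V : Type*) [AddCommGroup V] [Module k V] [LieRingModule L V] [LieModule k L V]
    [FiniteDimensional k V]
    (ι : Type) [Fintype ι] [DecidableEq ι] (W : ι → LieSubmodule k L V)
    (hW : DirectSum.IsInternal fun i => (W i).toSubmodule)
    (hirr : ∀ i, LieModule.IsIrreducible k L (W i)) :
    LinearMap.trace k V ((LieModule.toEnd k L V h) ^ 2) =
      2 * ∑ i, (((Module.finrank k (W i) + 1).choose 3 : ℕ) : k) := by
  have hmaps : ∀ i, ∀ x ∈ (W i).toSubmodule, toEnd k L V h x ∈ (W i).toSubmodule :=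
    fun i x hx => (W i).lie_mem hx
  have hmaps2 : ∀ i, ∀ x ∈ (W i).toSubmodule,
      ((toEnd k L V h) ^ 2) x ∈ (W i).toSubmodule := fun i x hx => by
    rw [pow_two, Module.End.mul_apply]; exact hmaps i _ (hmaps i x hx)
  rw [LinearMap.trace_eq_sum_trace_restrict hW (fun i x hx => hmaps2 i x hx), Finset.mul_sum]
  refine Finset.sum_congr rfl fun i _ => ?_
  haveI := hirr i
  haveI : Module.Finite k (W i) := inferInstanceAs (Module.Finite k (W i).toSubmodule)
  have key := irr_trace t hspan (W i)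
  have e1 : ((toEnd k L V h) ^ 2).restrict (hmaps2 i) = (toEnd k L (W i) h) ^ 2 :=
    (Module.End.pow_restrict 2 (hmaps i) (hmaps2 i)).symm
  rw [e1]
  exact key

end Groth.Agent.Lib.Sl2Trace
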