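import Mathlib

/-!
# Monic polynomials in separate variables form a regular sequence (helper8)

For monic `P i ∈ R[X]`, the elements `P i (X i)` of `MvPolynomial (Fin n) R` form a weakly regular
sequence and the quotient is a finite flat `R`-module.
APPEND-ONLY once landed.
-/

set_option autoImplicit false
universe u

namespace Groth.Agent.Lib.SliceH8

open RingTheory.Sequence Polynomial Pointwise

/-- the element `P i (X i)` of the polynomial ring. -/
noncomputable def ev {R : Type u} [CommRing R] {σ : Type*} (P : σ → R[X]) (i : σ) :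
    MvPolynomial σ R :=
  Polynomial.aeval (MvPolynomial.X i : MvPolynomial σ R) (P i)

theorem aeval_X_eq_map {R S : Type*} [CommRing R] [CommRing S] [Algebra R S] (p : R[X]) :
    Polynomial.aeval (Polynomial.X : S[X]) p = p.map (algebraMap R S) := by
  induction p using Polynomial.induction_on' with
  | add p q hp hq => simp [hp, hq]
  | monomial n a => simp [Polynomial.algebraMap_apply, ← Polynomial.C_mul_X_pow_eq_monomial]

section Step

variable {R : Type u} [CommRing R] {n : ℕ} (P : Fin (n + 1) → R[X])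

theorem finSuccEquiv_ev_zero :
    MvPolynomial.finSuccEquiv R n (ev P 0) = (P 0).map (algebraMap R (MvPolynomial (Fin n) R)) := by
  unfold ev
  rw [← Polynomial.aeval_algHom_apply, MvPolynomial.finSuccEquiv_X_zero, aeval_X_eq_map]

theorem finSuccEquiv_ev_succ (i : Fin n) :
    MvPolynomial.finSuccEquiv R n (ev P i.succ) =
      Polynomial.C (ev (fun j : Fin n => P j.succ) i) := by
  unfold ev
  rw [← Polynomial.aeval_algHom_apply, MvPolynomial.finSuccEquiv_X_succ]
  have := Polynomial.aeval_algHom_apply (Polynomial.CAlgHom (R := R) (A := MvPolynomial (Fin n) R))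
    (MvPolynomial.X i) (P i.succ)
  simpa using this

end Step

section Abstract

variable {R R' : Type u} [CommRing R] [CommRing R'] [Algebra R R']

/-- adjoining a variable and a monic polynomial in it. -/
theorem step_abstract (l' : List R') (p₀ : R'[X]) (hp₀m : p₀.Monic) (h1 : IsWeaklyRegular R' l')
    (h2 : Module.Finite R (R' ⧸ Ideal.ofList l')) (h3 : Module.Flat R (R' ⧸ Ideal.ofList l')) :
    IsWeaklyRegular R'[X] (p₀ :: l'.map Polynomial.C) ∧
    Module.Finite R (R'[X] ⧸ Ideal.ofList (p₀ :: l'.map Polynomial.C)) ∧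
    Module.Flat R (R'[X] ⧸ Ideal.ofList (p₀ :: l'.map Polynomial.C)) := by
  set I' : Ideal R' := Ideal.ofList l' with hI'
  have hF : Module.Flat R' (QuotSMulTop p₀ R'[X]) := by
    have heq : (p₀ • (⊤ : Submodule R'[X] R'[X])) = Ideal.span {p₀} := by
      rw [← Submodule.ideal_span_singleton_smul, smul_eq_mul, Ideal.mul_top]
    haveI : Module.Free R' (R'[X] ⧸ Ideal.span {p₀}) := hp₀m.free_quotient
    exact Module.Flat.of_linearEquiv ((Submodule.quotEquivOfEq _ _ heq).restrictScalars R')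
  have hCmap : l'.map Polynomial.C = l'.map (algebraMap R' R'[X]) := by
    apply List.map_congr_left
    intro a _
    exact Polynomial.C_eq_algebraMap a
  have hwr : IsWeaklyRegular R'[X] (p₀ :: l'.map Polynomial.C) := by
    rw [isWeaklyRegular_cons_iff]
    refine ⟨hp₀m.isRegular.left.isSMulRegular, ?_⟩
    have h4 : IsWeaklyRegular (QuotSMulTop p₀ R'[X]) l' :=
      ((TensorProduct.lid R' (QuotSMulTop p₀ R'[X])).isWeaklyRegular_congr l').mp
        (h1.isWeaklyRegular_rTensor (M₂ := QuotSMulTop p₀ R'[X]))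
    rw [hCmap]
    exact (isWeaklyRegular_map_algebraMap_iff R'[X] (QuotSMulTop p₀ R'[X]) l').mpr h4
  refine ⟨hwr, ?_⟩
  -- the quotient
  let π : R'[X] →ₐ[R] (R' ⧸ I')[X] := Polynomial.mapAlgHom (Ideal.Quotient.mkₐ R I')
  have hπ : Function.Surjective π :=
    Polynomial.map_surjective _ Ideal.Quotient.mk_surjective
  set pb : (R' ⧸ I')[X] := π p₀ with hpb
  have hpbm : pb.Monic := hp₀m.map _
  set J : Ideal (R' ⧸ I')[X] := Ideal.span {pb} with hJ
  let θ : R'[X] →ₐ[R] (R' ⧸ I')[X] ⧸ J := (Ideal.Quotient.mkₐ R J).comp π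
  have hθ : Function.Surjective θ := Ideal.Quotient.mk_surjective.comp hπ
  have hkerπ : RingHom.ker (π : R'[X] →+* (R' ⧸ I')[X]) = I'.map Polynomial.C := by
    have : (π : R'[X] →+* (R' ⧸ I')[X]) = Polynomial.mapRingHom (Ideal.Quotient.mk I') := rfl
    rw [this, Polynomial.ker_mapRingHom, Ideal.mk_ker]
  have hker : RingHom.ker θ = Ideal.ofList (p₀ :: l'.map Polynomial.C) := by
    have h5 : RingHom.ker θ = J.comap (π : R'[X] →+* (R' ⧸ I')[X]) := by
      ext x
      simp only [RingHom.mem_ker, Ideal.mem_comap]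
      show (Ideal.Quotient.mk J) (π x) = 0 ↔ _
      rw [Ideal.Quotient.eq_zero_iff_mem]
      rfl
    have : J = (Ideal.span {p₀}).map (π : R'[X] →+* (R' ⧸ I')[X]) := by
      rw [hJ, Ideal.map_span, Set.image_singleton]
      rfl
    rw [h5, this, Ideal.comap_map_of_surjective (π : R'[X] →+* (R' ⧸ I')[X]) hπ,
      ← RingHom.ker_eq_comap_bot, hkerπ,
      Ideal.ofList_cons, hI', Ideal.map_ofList]
  let e : (R'[X] ⧸ Ideal.ofList (p₀ :: l'.map Polynomial.C)) ≃ₐ[R] (R' ⧸ I')[X] ⧸ J :=
    (Ideal.quotientEquivAlgOfEq R hker.symm).trans (Ideal.quotientKerAlgEquivOfSurjective hθ)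
  haveI : Module.Finite R (R' ⧸ I') := h2
  haveI : Module.Flat R (R' ⧸ I') := h3
  haveI : Module.Free (R' ⧸ I') ((R' ⧸ I')[X] ⧸ J) := hpbm.free_quotient
  haveI : Module.Finite (R' ⧸ I') ((R' ⧸ I')[X] ⧸ J) := hpbm.finite_quotient
  haveI : Module.Finite R ((R' ⧸ I')[X] ⧸ J) := Module.Finite.trans (R' ⧸ I') _
  haveI : Module.Flat R ((R' ⧸ I')[X] ⧸ J) := Module.Flat.trans R (R' ⧸ I') _
  exact ⟨Module.Finite.equiv e.symm.toLinearEquiv, Module.Flat.of_linearEquiv e.toLinearEquiv⟩

end Abstract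

section Transport

variable {R A B : Type u} [CommRing R] [CommRing A] [CommRing B] [Algebra R A] [Algebra R B]

theorem transport (Ψ : A ≃ₐ[R] B) (L : List A) (h : IsWeaklyRegular B (L.map Ψ))
    (hfin : Module.Finite R (B ⧸ Ideal.ofList (L.map Ψ)))
    (hflat : Module.Flat R (B ⧸ Ideal.ofList (L.map Ψ))) :
    IsWeaklyRegular A L ∧ Module.Finite R (A ⧸ Ideal.ofList L) ∧
      Module.Flat R (A ⧸ Ideal.ofList L) := by
  have hwrL : IsWeaklyRegular A L := by
    have hcongr := (Ψ.toRingEquiv.toAddEquiv).isWeaklyRegular_congr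
      (R := A) (S := B) (as := L) (bs := L.map Ψ)
      (List.forall₂_map_right_iff.mpr (List.forall₂_same.mpr fun r _ x => map_mul Ψ r x))
    rw [hcongr]
    exact h
  refine ⟨hwrL, ?_⟩
  have hmap : (Ideal.ofList (L.map Ψ)) = (Ideal.ofList L).map (Ψ : A →+* B) :=
    (Ideal.map_ofList (Ψ : A →+* B) L).symm
  let e : (A ⧸ Ideal.ofList L) ≃ₐ[R] (B ⧸ Ideal.ofList (L.map Ψ)) :=
    Ideal.quotientEquivAlg _ _ Ψ hmap
  exact ⟨Module.Finite.equiv e.symm.toLinearEquiv, Module.Flat.of_linearEquiv e.toLinearEquiv⟩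

end Transport

theorem monic_seq (n : ℕ) : ∀ (R : Type u) [CommRing R] (P : Fin n → R[X]), (∀ i, (P i).Monic) →
    IsWeaklyRegular (MvPolynomial (Fin n) R) (List.ofFn (ev P)) ∧
    Module.Finite R (MvPolynomial (Fin n) R ⧸ Ideal.ofList (List.ofFn (ev P))) ∧
    Module.Flat R (MvPolynomial (Fin n) R ⧸ Ideal.ofList (List.ofFn (ev P))) := by
  induction n with
  | zero =>
    intro R _ P hP
    have h0 : List.ofFn (ev P) = [] := List.ofFn_zero
    rw [h0, Ideal.ofList_nil]
    let e : (MvPolynomial (Fin 0) R ⧸ (⊥ : Ideal (MvPolynomial (Fin 0) R))) ≃ₐ[R] R :=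
      (AlgEquiv.quotientBot R (MvPolynomial (Fin 0) R)).trans (MvPolynomial.isEmptyAlgEquiv R (Fin 0))
    exact ⟨IsWeaklyRegular.nil _ _, Module.Finite.equiv e.symm.toLinearEquiv,
      Module.Flat.of_linearEquiv e.toLinearEquiv⟩
  | succ n ih =>
    intro R _ P hP
    obtain ⟨h1, h2, h3⟩ := ih R (fun j => P j.succ) (fun j => hP j.succ)
    have hp₀m : ((P 0).map (algebraMap R (MvPolynomial (Fin n) R))).Monic := (hP 0).map _
    have hLΨ : (List.ofFn (ev P)).map (MvPolynomial.finSuccEquiv R n) =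
        ((P 0).map (algebraMap R (MvPolynomial (Fin n) R))) ::
          (List.ofFn (ev fun j => P j.succ)).map Polynomial.C := by
      rw [List.ofFn_succ, List.map_cons, finSuccEquiv_ev_zero, List.map_ofFn, List.map_ofFn]
      congr 1
      congr 1
      funext i
      exact finSuccEquiv_ev_succ P i
    obtain ⟨hwr, hfin, hflat⟩ := step_abstract (R := R) _ _ hp₀m h1 h2 h3
    rw [← hLΨ] at hwr hfin hflat
    exact transport (MvPolynomial.finSuccEquiv R n) _ hwr hfin hflat

end Groth.Agent.Lib.SliceH8
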