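import Mathlib
import Groth.Agent.Lib.Slice1_helper8

/-!
# Slicing by the image of a regular sequence under a flat map (helper8)
APPEND-ONLY once landed.
-/

set_option autoImplicit false
universe u

namespace Groth.Agent.Lib.SliceH8

open RingTheory.Sequence TensorProduct

section L2

variable {A C D : Type u} [CommRing A] [CommRing C] [CommRing D] [Algebra A C] [Algebra C D]
  [Algebra A D] [IsScalarTower A C D]

instance isScalarTower_quot (I : Ideal C) :
    IsScalarTower A (C ⧸ I) (D ⧸ I.map (algebraMap C D)) :=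
  IsScalarTower.of_algebraMap_eq fun a => by
    rw [IsScalarTower.algebraMap_apply A D (D ⧸ I.map (algebraMap C D)),
      IsScalarTower.algebraMap_apply A C D, IsScalarTower.algebraMap_apply A C (C ⧸ I)]
    rfl

theorem flat_slice (l : List C) [Module.Flat C D] (h1 : IsWeaklyRegular C l)
    (h3 : Module.Flat A (C ⧸ Ideal.ofList l)) :
    IsWeaklyRegular D (l.map (algebraMap C D)) ∧
      Module.Flat A (D ⧸ Ideal.ofList (l.map (algebraMap C D))) := by
  refine ⟨h1.of_flat, ?_⟩
  rw [← Ideal.map_ofList]
  set I := Ideal.ofList l with hI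
  let e := Algebra.TensorProduct.quotIdealMapEquivQuotTensor D I
  haveI : Module.Flat (C ⧸ I) (D ⧸ I.map (algebraMap C D)) :=
    Module.Flat.of_linearEquiv e.toLinearEquiv
  exact Module.Flat.trans A (C ⧸ I) _

theorem quasiFinite_slice (l : List C) [Algebra.QuasiFinite C D]
    (h2 : Algebra.QuasiFinite A (C ⧸ Ideal.ofList l)) :
    Algebra.QuasiFinite A (D ⧸ Ideal.ofList (l.map (algebraMap C D))) := by
  rw [← Ideal.map_ofList]
  set I := Ideal.ofList l with hI
  let e := Algebra.TensorProduct.quotIdealMapEquivQuotTensor D I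
  haveI : Algebra.QuasiFinite (C ⧸ I) (D ⧸ I.map (algebraMap C D)) :=
    (Algebra.QuasiFinite.iff_of_algEquiv e).mpr inferInstance
  exact Algebra.QuasiFinite.trans A (C ⧸ I) _

end L2

end Groth.Agent.Lib.SliceH8
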