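import Mathlib
import Groth.Agent.Lib.Slice2_helper8

/-!
# Slicing: base localization (helper8)
APPEND-ONLY once landed.
-/

set_option autoImplicit false
universe u

namespace Groth.Agent.Lib.SliceH8

open RingTheory.Sequence TensorProduct

section StageB

attribute [local instance] MvPolynomial.algebraMvPolynomial

theorem tower_of_X {A B D A' : Type u} [CommRing A] [CommRing B] [CommRing D] [CommRing A'] {n : ℕ}
    [Algebra A B] [Algebra B D] [Algebra A D] [IsScalarTower A B D]
    [Algebra (MvPolynomial (Fin n) A) B] [IsScalarTower A (MvPolynomial (Fin n) A) B]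
    [Algebra (MvPolynomial (Fin n) A) D] [IsScalarTower (MvPolynomial (Fin n) A) B D]
    [Algebra A A'] [Algebra A' D] [IsScalarTower A A' D]
    [Algebra (MvPolynomial (Fin n) A') D] [IsScalarTower A' (MvPolynomial (Fin n) A') D]
    (hX : ∀ i, algebraMap (MvPolynomial (Fin n) A') D (MvPolynomial.X i) =
      algebraMap (MvPolynomial (Fin n) A) D (MvPolynomial.X i)) :
    IsScalarTower (MvPolynomial (Fin n) A) (MvPolynomial (Fin n) A') D := by
  apply IsScalarTower.of_algebraMap_eq'
  apply MvPolynomial.ringHom_ext
  · intro a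
    rw [RingHom.comp_apply]
    show _ = algebraMap (MvPolynomial (Fin n) A') D (MvPolynomial.map (algebraMap A A') (MvPolynomial.C a))
    rw [MvPolynomial.map_C, ← MvPolynomial.algebraMap_eq, ← MvPolynomial.algebraMap_eq,
      ← IsScalarTower.algebraMap_apply A' (MvPolynomial (Fin n) A') D,
      ← IsScalarTower.algebraMap_apply A A' D,
      IsScalarTower.algebraMap_apply (MvPolynomial (Fin n) A) B D,
      ← IsScalarTower.algebraMap_apply A (MvPolynomial (Fin n) A) B,
      ← IsScalarTower.algebraMap_apply A B D]
  · intro i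
    rw [RingHom.comp_apply]
    show _ = algebraMap (MvPolynomial (Fin n) A') D (MvPolynomial.map (algebraMap A A') (MvPolynomial.X i))
    rw [MvPolynomial.map_X, hX]

theorem stageB {A B D A' : Type u} [CommRing A] [CommRing B] [CommRing D] [CommRing A'] {n : ℕ}
    [Algebra A B] [Algebra B D] [Algebra A D] [IsScalarTower A B D]
    [Algebra (MvPolynomial (Fin n) A) B] [IsScalarTower A (MvPolynomial (Fin n) A) B]
    [Algebra (MvPolynomial (Fin n) A) D] [IsScalarTower (MvPolynomial (Fin n) A) B D]
    [Algebra A A'] [Algebra A' D] [IsScalarTower A A' D]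
    [Algebra (MvPolynomial (Fin n) A') D] [IsScalarTower A' (MvPolynomial (Fin n) A') D]
    (hX : ∀ i, algebraMap (MvPolynomial (Fin n) A') D (MvPolynomial.X i) =
      algebraMap (MvPolynomial (Fin n) A) D (MvPolynomial.X i))
    (c : A) [IsLocalization.Away c A']
    [Module.Flat (MvPolynomial (Fin n) A) B] [Module.Flat B D]
    [Algebra.QuasiFinite (MvPolynomial (Fin n) A) B] [Algebra.QuasiFinite B D] :
    Module.Flat (MvPolynomial (Fin n) A') D ∧ Algebra.QuasiFinite (MvPolynomial (Fin n) A') D := by
  haveI := tower_of_X (A := A) (B := B) (D := D) (A' := A') hX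
  haveI : Module.Flat (MvPolynomial (Fin n) A) D := Module.Flat.trans _ B D
  haveI : Algebra.QuasiFinite (MvPolynomial (Fin n) A) D := Algebra.QuasiFinite.trans _ B D
  refine ⟨?_, Algebra.QuasiFinite.of_restrictScalars (MvPolynomial (Fin n) A) _ D⟩
  exact (Module.flat_iff_of_isLocalization (MvPolynomial (Fin n) A')
    ((Submonoid.powers c).map (MvPolynomial.C (σ := Fin n))) D).mpr inferInstance

end StageB

end Groth.Agent.Lib.SliceH8
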