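import Mathlib
import Groth.Agent.Lib.Slice3_helper8

/-!
# Slicing: the ring-level theorem (helper8)
APPEND-ONLY once landed.
-/

set_option autoImplicit false
universe u

namespace Groth.Agent.Lib.SliceH8

open RingTheory.Sequence TensorProduct

section Main

variable {A B : Type u} [CommRing A] [CommRing B] [Algebra A B] {n : ℕ}
  [Algebra (MvPolynomial (Fin n) A) B] [IsScalarTower A (MvPolynomial (Fin n) A) B]

set_option maxHeartbeats 1600000 in
theorem stage1 [Module.Flat (MvPolynomial (Fin n) A) B]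
    [Algebra.QuasiFinite (MvPolynomial (Fin n) A) B]
    (𝔮 : Ideal B) [𝔮.IsPrime]
    (Q : Fin n → Polynomial A)
    (hQ1 : ∀ i, (Q i).leadingCoeff ∉ 𝔮.comap (algebraMap A B))
    (hQ2 : ∀ i, Polynomial.aeval (algebraMap (MvPolynomial (Fin n) A) B (MvPolynomial.X i)) (Q i)
      ∈ 𝔮) :
    ∃ c : A, c ∉ 𝔮.comap (algebraMap A B) ∧
      ∃ hs₁ : List (Localization.Away (algebraMap A B c)),
        IsWeaklyRegular (Localization.Away (algebraMap A B c)) hs₁ ∧
        (∀ h ∈ hs₁, h ∈ 𝔮.map (algebraMap B (Localization.Away (algebraMap A B c)))) ∧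
        Module.Flat A (Localization.Away (algebraMap A B c) ⧸ Ideal.ofList hs₁) ∧
        Algebra.QuasiFinite A (Localization.Away (algebraMap A B c) ⧸ Ideal.ofList hs₁) := by
  classical
  set 𝔭 := 𝔮.comap (algebraMap A B) with h𝔭
  set c : A := ∏ i, (Q i).leadingCoeff with hc
  have hc𝔭 : c ∉ 𝔭 := by
    rw [hc, Ideal.IsPrime.prod_mem_iff]
    push Not
    exact fun i _ => hQ1 i
  refine ⟨c, hc𝔭, ?_⟩
  let A' := Localization.Away c
  set cB : B := algebraMap A B c with hcB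
  let B₁ := Localization.Away cB
  have hu : IsUnit (algebraMap A B₁ c) := by
    rw [IsScalarTower.algebraMap_apply A B B₁]
    exact IsLocalization.Away.algebraMap_isUnit cB
  letI algA'B₁ : Algebra A' B₁ := (IsLocalization.Away.lift c hu).toAlgebra
  haveI : IsScalarTower A A' B₁ :=
    IsScalarTower.of_algebraMap_eq fun a => (IsLocalization.Away.lift_eq c hu a).symm
  let b : Fin n → B₁ := fun i => algebraMap (MvPolynomial (Fin n) A) B₁ (MvPolynomial.X i)
  letI algC'B₁ : Algebra (MvPolynomial (Fin n) A') B₁ :=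
    (MvPolynomial.aeval b : MvPolynomial (Fin n) A' →ₐ[A'] B₁).toAlgebra
  haveI : IsScalarTower A' (MvPolynomial (Fin n) A') B₁ :=
    IsScalarTower.of_algebraMap_eq fun a =>
      ((MvPolynomial.aeval b : MvPolynomial (Fin n) A' →ₐ[A'] B₁).commutes a).symm
  have hX : ∀ i, algebraMap (MvPolynomial (Fin n) A') B₁ (MvPolynomial.X i) =
      algebraMap (MvPolynomial (Fin n) A) B₁ (MvPolynomial.X i) := fun i =>
    MvPolynomial.aeval_X b i
  haveI : Module.Flat B B₁ := IsLocalization.flat B₁ (Submonoid.powers cB)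
  obtain ⟨hflatC', hqfC'⟩ := stageB (A := A) (B := B) (D := B₁) (A' := A') hX c
  -- the monic polynomials
  have hlu : ∀ i, IsUnit (algebraMap A A' (Q i).leadingCoeff) := fun i =>
    isUnit_of_dvd_unit (map_dvd (algebraMap A A')
      (Finset.dvd_prod_of_mem (fun j => (Q j).leadingCoeff) (Finset.mem_univ i)))
      (IsLocalization.Away.algebraMap_isUnit c)
  let u : Fin n → A' := fun i => ((hlu i).unit⁻¹ : A'ˣ)
  have hu1 : ∀ i, u i * algebraMap A A' (Q i).leadingCoeff = 1 := fun i => (hlu i).val_inv_mul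
  let P : Fin n → Polynomial A' := fun i => Polynomial.C (u i) * (Q i).map (algebraMap A A')
  have hP : ∀ i, (P i).Monic := by
    intro i
    apply Polynomial.monic_of_natDegree_le_of_coeff_eq_one (Q i).natDegree
    · exact (Polynomial.natDegree_C_mul_le _ _).trans Polynomial.natDegree_map_le
    · rw [Polynomial.coeff_C_mul, Polynomial.coeff_map, Polynomial.coeff_natDegree]
      exact hu1 i
  obtain ⟨hwr, hfin, hflat⟩ := monic_seq n A' P hP
  set l' := List.ofFn (ev P) with hl'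
  haveI : Module.Flat A A' := IsLocalization.flat A' (Submonoid.powers c)
  haveI hflatA : Module.Flat A (MvPolynomial (Fin n) A' ⧸ Ideal.ofList l') := by
    haveI := hflat
    exact Module.Flat.trans A A' _
  haveI hqfA : Algebra.QuasiFinite A (MvPolynomial (Fin n) A' ⧸ Ideal.ofList l') := by
    haveI := hfin
    exact Algebra.QuasiFinite.trans A A' _
  haveI : IsScalarTower A (MvPolynomial (Fin n) A') B₁ :=
    IsScalarTower.of_algebraMap_eq fun a => by
      rw [IsScalarTower.algebraMap_apply A A' (MvPolynomial (Fin n) A'),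
        ← IsScalarTower.algebraMap_apply A' (MvPolynomial (Fin n) A') B₁,
        ← IsScalarTower.algebraMap_apply A A' B₁]
  obtain ⟨hwr₁, hflat₁⟩ := flat_slice (A := A) (C := MvPolynomial (Fin n) A') (D := B₁) l' hwr hflatA
  have hqf₁ := quasiFinite_slice (A := A) (C := MvPolynomial (Fin n) A') (D := B₁) l' hqfA
  refine ⟨l'.map (algebraMap (MvPolynomial (Fin n) A') B₁), hwr₁, ?_, hflat₁, hqf₁⟩
  intro h hh
  obtain ⟨x, hx, rfl⟩ := List.mem_map.mp hh
  rw [hl', List.mem_ofFn] at hx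
  obtain ⟨i, rfl⟩ := hx
  have h1 : algebraMap (MvPolynomial (Fin n) A') B₁ (ev P i) = Polynomial.aeval (b i) (P i) := by
    unfold ev
    have := Polynomial.aeval_algHom_apply (MvPolynomial.aeval b : MvPolynomial (Fin n) A' →ₐ[A'] B₁)
      (MvPolynomial.X i) (P i)
    rw [MvPolynomial.aeval_X] at this
    exact this.symm
  have h2 : Polynomial.aeval (b i) (P i) = algebraMap A' B₁ (u i) *
      algebraMap B B₁ (Polynomial.aeval (algebraMap (MvPolynomial (Fin n) A) B (MvPolynomial.X i))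
        (Q i)) := by
    show Polynomial.aeval (b i) (Polynomial.C (u i) * (Q i).map (algebraMap A A')) = _
    rw [map_mul, Polynomial.aeval_C, Polynomial.aeval_map_algebraMap]
    congr 1
    have h3 : b i = (IsScalarTower.toAlgHom A B B₁)
        (algebraMap (MvPolynomial (Fin n) A) B (MvPolynomial.X i)) :=
      IsScalarTower.algebraMap_apply (MvPolynomial (Fin n) A) B B₁ _
    rw [h3, Polynomial.aeval_algHom_apply]
    rfl
  rw [h1, h2]
  exact Ideal.mul_mem_left _ _ (Ideal.mem_map_of_mem _ (hQ2 i))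

end Main

section Stage2

variable {A B₁ : Type u} [CommRing A] [CommRing B₁] [Algebra A B₁]

set_option maxHeartbeats 1600000 in
theorem stage2 [Algebra.FiniteType A B₁] (hs₁ : List B₁) (hwr : IsWeaklyRegular B₁ hs₁)
    (𝔮₁ : Ideal B₁) [𝔮₁.IsPrime] (hmem : ∀ h ∈ hs₁, h ∈ 𝔮₁)
    (hflat : Module.Flat A (B₁ ⧸ Ideal.ofList hs₁))
    (hqf : Algebra.QuasiFinite A (B₁ ⧸ Ideal.ofList hs₁)) :
    ∃ s₁ : B₁, s₁ ∉ 𝔮₁ ∧
      IsRegular (Localization.Away s₁) (hs₁.map (algebraMap B₁ (Localization.Away s₁))) ∧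
      (∀ h ∈ hs₁.map (algebraMap B₁ (Localization.Away s₁)),
        h ∈ 𝔮₁.map (algebraMap B₁ (Localization.Away s₁))) ∧
      Module.Flat A (Localization.Away s₁ ⧸
        Ideal.ofList (hs₁.map (algebraMap B₁ (Localization.Away s₁)))) ∧
      Algebra.QuasiFinite A (Localization.Away s₁ ⧸
        Ideal.ofList (hs₁.map (algebraMap B₁ (Localization.Away s₁)))) ∧
      ∀ Q' : Ideal (Localization.Away s₁), Q'.IsPrime →
        Ideal.ofList (hs₁.map (algebraMap B₁ (Localization.Away s₁))) ≤ Q' →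
        Q'.comap (algebraMap A (Localization.Away s₁)) = 𝔮₁.comap (algebraMap A B₁) →
        Q' = 𝔮₁.map (algebraMap B₁ (Localization.Away s₁)) := by
  classical
  set I₁ := Ideal.ofList hs₁ with hI₁
  have hI𝔮 : I₁ ≤ 𝔮₁ := Ideal.span_le.mpr hmem
  set 𝔭 := 𝔮₁.comap (algebraMap A B₁) with h𝔭
  have hsurj : Function.Surjective (Ideal.Quotient.mk I₁) := Ideal.Quotient.mk_surjective
  have hker : RingHom.ker (Ideal.Quotient.mk I₁) ≤ 𝔮₁ := by rw [Ideal.mk_ker]; exact hI𝔮
  set qb : Ideal (B₁ ⧸ I₁) := 𝔮₁.map (Ideal.Quotient.mk I₁) with hqb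
  haveI hqbp : qb.IsPrime := Ideal.map_isPrime_of_surjective hsurj hker
  have hqbcomap : qb.comap (Ideal.Quotient.mk I₁) = 𝔮₁ := by
    rw [hqb, Ideal.comap_map_of_surjective _ hsurj, ← RingHom.ker_eq_comap_bot]
    exact sup_eq_left.mpr hker
  haveI : qb.LiesOver 𝔭 := ⟨by
    rw [h𝔭, Ideal.under, IsScalarTower.algebraMap_eq A B₁ (B₁ ⧸ I₁), ← Ideal.comap_comap]
    congr 1
    exact hqbcomap.symm⟩
  haveI := hqf
  obtain ⟨sb, hsb, hall⟩ := Ideal.exists_not_mem_forall_mem_of_ne_of_liesOver 𝔭 qb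
  obtain ⟨s₁, rfl⟩ := hsurj sb
  have hs₁q : s₁ ∉ 𝔮₁ := fun h => hsb (Ideal.mem_map_of_mem _ h)
  refine ⟨s₁, hs₁q, ?_⟩
  set B' := Localization.Away s₁ with hB'
  haveI : Module.Flat B₁ B' := IsLocalization.flat B' (Submonoid.powers s₁)
  obtain ⟨hwr', hflat'⟩ := flat_slice (A := A) (C := B₁) (D := B') hs₁ hwr hflat
  have hqf' := quasiFinite_slice (A := A) (C := B₁) (D := B') hs₁ hqf
  have hdisj : Disjoint (Submonoid.powers s₁ : Set B₁) 𝔮₁ :=
    (Ideal.disjoint_powers_iff_notMem_of_isPrime s₁).mpr hs₁q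
  set q' : Ideal B' := 𝔮₁.map (algebraMap B₁ B') with hq'
  haveI hq'p : q'.IsPrime :=
    IsLocalization.isPrime_of_isPrime_disjoint (Submonoid.powers s₁) _ 𝔮₁ inferInstance hdisj
  have hmem' : ∀ h ∈ hs₁.map (algebraMap B₁ B'), h ∈ q' := by
    intro h hh
    obtain ⟨x, hx, rfl⟩ := List.mem_map.mp hh
    exact Ideal.mem_map_of_mem _ (hmem x hx)
  have hle' : Ideal.ofList (hs₁.map (algebraMap B₁ B')) ≤ q' := Ideal.span_le.mpr hmem'
  refine ⟨⟨hwr', ?_⟩, hmem', hflat', hqf', ?_⟩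
  · intro htop
    rw [smul_eq_mul, Ideal.mul_top] at htop
    exact hq'p.ne_top (top_le_iff.mp (htop ▸ hle'))
  · intro Q' hQ'p hQ'le hQ'comap
    haveI := hQ'p
    set Q₁ : Ideal B₁ := Q'.comap (algebraMap B₁ B') with hQ₁
    haveI : Q₁.IsPrime := Ideal.comap_isPrime _ _
    have hQ'eq : Q₁.map (algebraMap B₁ B') = Q' := IsLocalization.map_under (Submonoid.powers s₁) B' Q'
    have hs₁Q : s₁ ∉ Q₁ := by
      intro h
      have h1 : algebraMap B₁ B' s₁ ∈ Q' := h
      exact hQ'p.ne_top (Ideal.eq_top_of_isUnit_mem _ h1 (IsLocalization.Away.algebraMap_isUnit s₁))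
    have hIQ : I₁ ≤ Q₁ := by
      rw [hI₁]
      refine Ideal.span_le.mpr fun x hx => ?_
      exact hQ'le (Ideal.subset_span (List.mem_map.mpr ⟨x, hx, rfl⟩))
    have hkerQ : RingHom.ker (Ideal.Quotient.mk I₁) ≤ Q₁ := by rw [Ideal.mk_ker]; exact hIQ
    set Qb : Ideal (B₁ ⧸ I₁) := Q₁.map (Ideal.Quotient.mk I₁) with hQb
    haveI hQbp : Qb.IsPrime := Ideal.map_isPrime_of_surjective hsurj hkerQ
    have hQbcomap : Qb.comap (Ideal.Quotient.mk I₁) = Q₁ := by
      rw [hQb, Ideal.comap_map_of_surjective _ hsurj, ← RingHom.ker_eq_comap_bot]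
      exact sup_eq_left.mpr hkerQ
    have hQbover : Qb.LiesOver 𝔭 := ⟨by
      rw [Ideal.under, IsScalarTower.algebraMap_eq A B₁ (B₁ ⧸ I₁), ← Ideal.comap_comap]
      show 𝔭 = Ideal.comap (algebraMap A B₁) (Ideal.comap (Ideal.Quotient.mk I₁) Qb)
      rw [hQbcomap, hQ₁, Ideal.comap_comap, ← IsScalarTower.algebraMap_eq A B₁ B']
      exact hQ'comap.symm⟩
    have hsQb : Ideal.Quotient.mk I₁ s₁ ∉ Qb := by
      intro h
      have : s₁ ∈ Qb.comap (Ideal.Quotient.mk I₁) := h
      rw [hQbcomap] at this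
      exact hs₁Q this
    have hQbeq : Qb = qb := by
      by_contra hne
      exact hsQb (hall Qb hQbp hne hQbover)
    have hQ₁eq : Q₁ = 𝔮₁ := by rw [← hQbcomap, hQbeq, hqbcomap]
    rw [← hQ'eq, hQ₁eq]

end Stage2

end Groth.Agent.Lib.SliceH8
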