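import Mathlib
import Groth.Agent.Lib.Slice4_helper8

/-!
# Slicing: the ring-level theorem, assembled (helper8)
APPEND-ONLY once landed.
-/

set_option autoImplicit false
universe u

namespace Groth.Agent.Lib.SliceH8

open RingTheory.Sequence TensorProduct

section Assemble

variable {A B : Type u} [CommRing A] [CommRing B] [Algebra A B]

set_option maxHeartbeats 1600000 in
theorem assemble [Algebra.FinitePresentation A B] (𝔮 : Ideal B) [𝔮.IsPrime] (cB : B) (hcBq : cB ∉ 𝔮)
    (hs₁ : List (Localization.Away cB)) (hwr₁ : IsWeaklyRegular (Localization.Away cB) hs₁)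
    (hmem₁ : ∀ h ∈ hs₁, h ∈ 𝔮.map (algebraMap B (Localization.Away cB)))
    (hflat₁ : Module.Flat A (Localization.Away cB ⧸ Ideal.ofList hs₁))
    (hqf₁ : Algebra.QuasiFinite A (Localization.Away cB ⧸ Ideal.ofList hs₁)) :
    ∃ (β : B) (B' : Type u) (_ : CommRing B') (_ : Algebra B B'), β ∉ 𝔮 ∧
      IsLocalization.Away β B' ∧
      ∃ hs : List B', IsRegular B' hs ∧ (∀ h ∈ hs, h ∈ 𝔮.map (algebraMap B B')) ∧
        ((Ideal.Quotient.mk (Ideal.ofList hs)).comp
          ((algebraMap B B').comp (algebraMap A B))).Flat ∧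
        ((Ideal.Quotient.mk (Ideal.ofList hs)).comp
          ((algebraMap B B').comp (algebraMap A B))).FinitePresentation ∧
        ((Ideal.Quotient.mk (Ideal.ofList hs)).comp
          ((algebraMap B B').comp (algebraMap A B))).QuasiFinite ∧
        ∀ Q' : Ideal B', Q'.IsPrime → Ideal.ofList hs ≤ Q' →
          Q'.comap ((algebraMap B B').comp (algebraMap A B)) = 𝔮.comap (algebraMap A B) →
          Q' = 𝔮.map (algebraMap B B') := by
  classical
  have hdisj : Disjoint (Submonoid.powers cB : Set B) 𝔮 :=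
    (Ideal.disjoint_powers_iff_notMem_of_isPrime cB).mpr hcBq
  set 𝔮₁ : Ideal (Localization.Away cB) := 𝔮.map (algebraMap B (Localization.Away cB)) with h𝔮₁
  haveI h𝔮₁p : 𝔮₁.IsPrime :=
    IsLocalization.isPrime_of_isPrime_disjoint (Submonoid.powers cB) _ 𝔮 inferInstance hdisj
  have h𝔮₁comap : 𝔮₁.comap (algebraMap B (Localization.Away cB)) = 𝔮 :=
    IsLocalization.under_map_of_isPrime_disjoint (Submonoid.powers cB) _ inferInstance hdisj
  haveI : Algebra.FinitePresentation A (Localization.Away cB) := Algebra.FinitePresentation.trans A B (Localization.Away cB)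
  obtain ⟨s₁, hs₁q, hreg, hmem', hflat', hqf', huniq⟩ :=
    stage2 (A := A) hs₁ hwr₁ 𝔮₁ hmem₁ hflat₁ hqf₁
  set B' := Localization.Away s₁ with hB'
  obtain ⟨k, b₂, hb₂⟩ := IsLocalization.Away.surj cB s₁
  have hassoc : Associated (algebraMap B (Localization.Away cB) b₂) s₁ := by
    refine Associated.symm ⟨((IsLocalization.Away.algebraMap_isUnit (S := (Localization.Away cB)) cB).pow k).unit, ?_⟩
    rw [IsUnit.unit_spec, ← hb₂]
  haveI hloc : IsLocalization.Away (cB * b₂) B' :=
    IsLocalization.Away.mul_of_associated cB b₂ s₁ hassoc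
  have hb₂q : b₂ ∉ 𝔮 := by
    intro h
    have h1 : algebraMap B (Localization.Away cB) b₂ ∈ 𝔮₁ := Ideal.mem_map_of_mem _ h
    rw [← hb₂] at h1
    rcases h𝔮₁p.mem_or_mem h1 with h2 | h2
    · exact hs₁q h2
    · exact h𝔮₁p.ne_top (Ideal.eq_top_of_isUnit_mem _ h2
        ((IsLocalization.Away.algebraMap_isUnit (S := (Localization.Away cB)) cB).pow k))
  have hβ : cB * b₂ ∉ 𝔮 := fun h =>
    (Ideal.IsPrime.mem_or_mem inferInstance h).elim hcBq hb₂q
  have hmapeq : 𝔮.map (algebraMap B B') = 𝔮₁.map (algebraMap (Localization.Away cB) B') := by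
    rw [h𝔮₁, Ideal.map_map, ← IsScalarTower.algebraMap_eq]
  have hψ : (Ideal.Quotient.mk (Ideal.ofList (hs₁.map (algebraMap (Localization.Away cB) B')))).comp
      ((algebraMap B B').comp (algebraMap A B)) =
      algebraMap A (B' ⧸ Ideal.ofList (hs₁.map (algebraMap (Localization.Away cB) B'))) := by
    rw [← IsScalarTower.algebraMap_eq A B B']
    rfl
  refine ⟨cB * b₂, B', inferInstance, inferInstance, hβ, hloc,
    hs₁.map (algebraMap (Localization.Away cB) B'), hreg, ?_, ?_, ?_, ?_, ?_⟩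
  · rw [hmapeq]; exact hmem'
  · rw [hψ]; exact RingHom.flat_algebraMap_iff.mpr hflat'
  · rw [hψ, RingHom.finitePresentation_algebraMap]
    haveI : Algebra.FinitePresentation A B' := Algebra.FinitePresentation.trans A (Localization.Away cB) B'
    exact Algebra.FinitePresentation.quotient (Submodule.fg_span (List.finite_toSet _))
  · rw [hψ, RingHom.quasiFinite_algebraMap]; exact hqf'
  · intro Q' hQ'p hQ'le hQ'comap
    rw [hmapeq]
    refine huniq Q' hQ'p hQ'le ?_
    rw [← IsScalarTower.algebraMap_eq A B B'] at hQ'comap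
    rw [hQ'comap, ← h𝔮₁comap, Ideal.comap_comap, ← IsScalarTower.algebraMap_eq]

end Assemble

variable {A B : Type u} [CommRing A] [CommRing B] [Algebra A B] {n : ℕ}
  [Algebra (MvPolynomial (Fin n) A) B] [IsScalarTower A (MvPolynomial (Fin n) A) B]

theorem ring_main [Module.Flat (MvPolynomial (Fin n) A) B]
    [Algebra.QuasiFinite (MvPolynomial (Fin n) A) B] [Algebra.FinitePresentation A B]
    (𝔮 : Ideal B) [𝔮.IsPrime]
    (Q : Fin n → Polynomial A)
    (hQ1 : ∀ i, (Q i).leadingCoeff ∉ 𝔮.comap (algebraMap A B))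
    (hQ2 : ∀ i, Polynomial.aeval (algebraMap (MvPolynomial (Fin n) A) B (MvPolynomial.X i)) (Q i)
      ∈ 𝔮) :
    ∃ (β : B) (B' : Type u) (_ : CommRing B') (_ : Algebra B B'), β ∉ 𝔮 ∧
      IsLocalization.Away β B' ∧
      ∃ hs : List B', IsRegular B' hs ∧ (∀ h ∈ hs, h ∈ 𝔮.map (algebraMap B B')) ∧
        ((Ideal.Quotient.mk (Ideal.ofList hs)).comp
          ((algebraMap B B').comp (algebraMap A B))).Flat ∧
        ((Ideal.Quotient.mk (Ideal.ofList hs)).comp
          ((algebraMap B B').comp (algebraMap A B))).FinitePresentation ∧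
        ((Ideal.Quotient.mk (Ideal.ofList hs)).comp
          ((algebraMap B B').comp (algebraMap A B))).QuasiFinite ∧
        ∀ Q' : Ideal B', Q'.IsPrime → Ideal.ofList hs ≤ Q' →
          Q'.comap ((algebraMap B B').comp (algebraMap A B)) = 𝔮.comap (algebraMap A B) →
          Q' = 𝔮.map (algebraMap B B') := by
  obtain ⟨c, hc, hs₁, hwr₁, hmem₁, hflat₁, hqf₁⟩ := stage1 𝔮 Q hQ1 hQ2
  exact assemble 𝔮 (algebraMap A B c) hc hs₁ hwr₁ hmem₁ hflat₁ hqf₁

end Groth.Agent.Lib.SliceH8
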