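import Mathlib
import Groth.Agent.Lib.Slice5_helper8

/-!
# Slicing: ring-level theorem in `RingHom` form (helper8)
APPEND-ONLY once landed.
-/

set_option autoImplicit false
universe u

namespace Groth.Agent.Lib.SliceH8

open RingTheory.Sequence TensorProduct

section Truncate

variable {A B : Type u} [CommRing A] [CommRing B] [Algebra A B]

theorem truncate (𝔮 : Ideal B) [𝔮.IsPrime] (b : B) :
    ∀ (k : ℕ) (Q : Polynomial A), Q.support.card = k →
      (∃ j, Q.coeff j ∉ 𝔮.comap (algebraMap A B)) → Polynomial.aeval b Q ∈ 𝔮 →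
      ∃ Q' : Polynomial A, Q'.leadingCoeff ∉ 𝔮.comap (algebraMap A B) ∧
        Polynomial.aeval b Q' ∈ 𝔮 := by
  intro k
  induction k using Nat.strong_induction_on with
  | _ k ih =>
    intro Q hk hj hQ
    by_cases hlc : Q.leadingCoeff ∈ 𝔮.comap (algebraMap A B)
    · obtain ⟨j, hj⟩ := hj
      have hQ0 : Q ≠ 0 := by
        rintro rfl
        exact hj (by simp)
      have hjn : j ≠ Q.natDegree := by
        rintro rfl
        exact hj hlc
      refine ih Q.eraseLead.support.card (hk ▸ Polynomial.eraseLead_support_card_lt hQ0)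
        Q.eraseLead rfl ⟨j, ?_⟩ ?_
      · rwa [Polynomial.eraseLead_coeff_of_ne _ hjn]
      · have h1 : Q.eraseLead = Q - Polynomial.monomial Q.natDegree Q.leadingCoeff :=
          eq_sub_of_add_eq (Polynomial.eraseLead_add_monomial_natDegree_leadingCoeff Q)
        rw [h1, map_sub, Polynomial.aeval_monomial]
        exact 𝔮.sub_mem hQ (𝔮.mul_mem_right _ hlc)
    · exact ⟨Q, hlc, hQ⟩

end Truncate


section Hom

variable {A B : Type u} [CommRing A] [CommRing B]

set_option maxHeartbeats 1600000 in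
theorem ring_main_hom (d : ℕ) (φ : MvPolynomial (ULift.{u} (Fin d)) A →+* B) (hφ1 : φ.Flat)
    (hφ2 : φ.QuasiFinite) (hψ : (φ.comp MvPolynomial.C).FinitePresentation)
    (𝔮 : Ideal B) [𝔮.IsPrime]
    (halg : ∀ b : B, ∃ Q : Polynomial A,
      (∃ j, Q.coeff j ∉ 𝔮.comap (φ.comp MvPolynomial.C)) ∧
        Q.eval₂ (φ.comp MvPolynomial.C) b ∈ 𝔮) :
    ∃ (β : B) (B' : Type u) (_ : CommRing B') (_ : Algebra B B'), β ∉ 𝔮 ∧
      IsLocalization.Away β B' ∧
      ∃ hs : List B', IsRegular B' hs ∧ (∀ h ∈ hs, h ∈ 𝔮.map (algebraMap B B')) ∧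
        ((Ideal.Quotient.mk (Ideal.ofList hs)).comp
          ((algebraMap B B').comp (φ.comp MvPolynomial.C))).Flat ∧
        ((Ideal.Quotient.mk (Ideal.ofList hs)).comp
          ((algebraMap B B').comp (φ.comp MvPolynomial.C))).FinitePresentation ∧
        ((Ideal.Quotient.mk (Ideal.ofList hs)).comp
          ((algebraMap B B').comp (φ.comp MvPolynomial.C))).QuasiFinite ∧
        ∀ Q' : Ideal B', Q'.IsPrime → Ideal.ofList hs ≤ Q' →
          Q'.comap ((algebraMap B B').comp (φ.comp MvPolynomial.C)) =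
            𝔮.comap (φ.comp MvPolynomial.C) →
          Q' = 𝔮.map (algebraMap B B') := by
  let ρ : MvPolynomial (Fin d) A ≃ₐ[A] MvPolynomial (ULift.{u} (Fin d)) A :=
    MvPolynomial.renameEquiv A Equiv.ulift.symm
  let φ' : MvPolynomial (Fin d) A →+* B := φ.comp (ρ : MvPolynomial (Fin d) A →+* _)
  letI algAB : Algebra A B := (φ.comp MvPolynomial.C).toAlgebra
  letI algCB : Algebra (MvPolynomial (Fin d) A) B := φ'.toAlgebra
  haveI : IsScalarTower A (MvPolynomial (Fin d) A) B := IsScalarTower.of_algebraMap_eq fun a => by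
    show φ (MvPolynomial.C a) = φ (ρ (algebraMap A _ a))
    rw [ρ.commutes]
    rfl
  have hφ'1 : φ'.Flat :=
    RingHom.Flat.comp (RingHom.Flat.of_bijective ρ.bijective) hφ1
  have hφ'2 : φ'.QuasiFinite := RingHom.QuasiFinite.respectsIso.2 φ ρ.toRingEquiv hφ2
  haveI : Module.Flat (MvPolynomial (Fin d) A) B := hφ'1
  haveI : Algebra.QuasiFinite (MvPolynomial (Fin d) A) B :=
    RingHom.quasiFinite_algebraMap.mp hφ'2
  haveI : Algebra.FinitePresentation A B := RingHom.finitePresentation_algebraMap.mp hψ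
  have hex : ∀ i : Fin d, ∃ Q' : Polynomial A, Q'.leadingCoeff ∉ 𝔮.comap (algebraMap A B) ∧
      Polynomial.aeval (algebraMap (MvPolynomial (Fin d) A) B (MvPolynomial.X i)) Q' ∈ 𝔮 := by
    intro i
    obtain ⟨Q, hj, hQ⟩ := halg (algebraMap (MvPolynomial (Fin d) A) B (MvPolynomial.X i))
    exact truncate 𝔮 _ _ Q rfl hj hQ
  choose Q hQ1 hQ2 using hex
  exact ring_main 𝔮 Q hQ1 hQ2

end Hom

end Groth.Agent.Lib.SliceH8
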