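import Mathlib
import Groth.Agent.Lib.Slice6_helper8
import Groth.Prelude.Def_Dual3

/-!
# Slicing: algebraicity at a point with algebraic residue field extension (helper8)
APPEND-ONLY once landed.
-/

set_option autoImplicit false
universe u

namespace Groth.Agent.Lib.SliceH8

open AlgebraicGeometry CategoryTheory

/-- membership in the prime ideal of global sections attached to a point. -/
theorem mem_toSpecΓ_asIdeal_iff (X : Scheme.{u}) (x : X) (r : Γ(X, ⊤)) :
    r ∈ (X.toSpecΓ x).asIdeal ↔ X.Γevaluation x r = 0 := by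
  rw [Scheme.evaluation_eq_zero_iff_notMem_basicOpen, ← Scheme.toSpecΓ_preimage_basicOpen]
  show _ ↔ ¬ (X.toSpecΓ x ∈ PrimeSpectrum.basicOpen r)
  exact (not_not (a := r ∈ (X.toSpecΓ x).asIdeal)).symm

/-- on an affine scheme, every element of a residue field is a quotient of values of global
sections. -/
theorem exists_eval_frac (Y : Scheme.{u}) [IsAffine Y] (y : Y) (k : Y.residueField y) :
    ∃ a c : Γ(Y, ⊤), Y.Γevaluation y c ≠ 0 ∧ k * Y.Γevaluation y c = Y.Γevaluation y a := by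
  obtain ⟨g, rfl⟩ := Y.residue_surjective y k
  have hloc := (isAffineOpen_top Y).isLocalization_stalk ⟨y, trivial⟩
  letI := (Y.presheaf.germ ⊤ y trivial).hom.toAlgebra
  obtain ⟨⟨a, c⟩, h⟩ := IsLocalization.surj ((isAffineOpen_top Y).primeIdealOf ⟨y, trivial⟩).asIdeal.primeCompl g
  refine ⟨a, c, ?_, ?_⟩
  · have hunit : IsUnit ((Y.presheaf.germ ⊤ y trivial).hom (c : Γ(Y, ⊤))) :=
      IsLocalization.map_units (Y.presheaf.stalk y) c
    have h2 : IsUnit ((Y.residue y).hom ((Y.presheaf.germ ⊤ y trivial).hom (c : Γ(Y, ⊤)))) :=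
      hunit.map _
    exact h2.ne_zero
  · have h3 := congrArg (Y.residue y).hom h
    rw [map_mul] at h3
    exact h3

/-- clearing denominators of a polynomial over the residue field. -/
theorem exists_poly_lift (Y : Scheme.{u}) [IsAffine Y] (y : Y)
    (Q₀ : Polynomial (Y.residueField y)) :
    ∃ (c : Γ(Y, ⊤)) (Q : Polynomial Γ(Y, ⊤)), Y.Γevaluation y c ≠ 0 ∧
      Q.map (Y.Γevaluation y).hom = Polynomial.C (Y.Γevaluation y c) * Q₀ := by
  induction Q₀ using Polynomial.induction_on' with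
  | add p q hp hq =>
    obtain ⟨c₁, Q₁, h1, h1'⟩ := hp
    obtain ⟨c₂, Q₂, h2, h2'⟩ := hq
    refine ⟨c₁ * c₂, Polynomial.C c₂ * Q₁ + Polynomial.C c₁ * Q₂, ?_, ?_⟩
    · rw [map_mul]; exact mul_ne_zero h1 h2
    · simp only [Polynomial.map_add, Polynomial.map_mul, Polynomial.map_C, h1', h2', map_mul]
      ring
  | monomial n k =>
    obtain ⟨a, c, hc, hk⟩ := exists_eval_frac Y y k
    refine ⟨c, Polynomial.monomial n a, hc, ?_⟩
    rw [Polynomial.map_monomial, Polynomial.C_mul_monomial]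
    congr 1
    rw [mul_comm]
    exact hk.symm

theorem exists_alg {U Y : Scheme.{u}} [IsAffine Y] (f' : U ⟶ Y) (x : U)
    (hres : Dual3.resTrdeg f' x = 0) (b : Γ(U, ⊤)) :
    ∃ Q : Polynomial Γ(Y, ⊤),
      (∃ j, Q.coeff j ∉ (U.toSpecΓ x).asIdeal.comap f'.appTop.hom) ∧
        Q.eval₂ f'.appTop.hom b ∈ (U.toSpecΓ x).asIdeal := by
  letI alg : Algebra (Y.residueField (f' x)) (U.residueField x) :=
    (f'.residueFieldMap x).hom.toAlgebra
  have halg : Algebra.IsAlgebraic (Y.residueField (f' x)) (U.residueField x) :=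
    _root_.trdeg_eq_zero_iff.mp hres
  obtain ⟨Q₀, hQ₀, hQ₀b⟩ := halg.isAlgebraic (U.Γevaluation x b)
  obtain ⟨c, Q, hc, hQ⟩ := exists_poly_lift Y (f' x) Q₀
  have hnat : ∀ a : Γ(Y, ⊤), (f'.residueFieldMap x).hom (Y.Γevaluation (f' x) a) =
      U.Γevaluation x (f'.appTop.hom a) := fun a => Scheme.Γevaluation_naturality_apply f' x a
  refine ⟨Q, ?_, ?_⟩
  · have hne : Q.map (Y.Γevaluation (f' x)).hom ≠ 0 := by
      rw [hQ]
      exact mul_ne_zero (Polynomial.C_ne_zero.mpr hc) hQ₀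
    obtain ⟨j, hj⟩ : ∃ j, (Q.map (Y.Γevaluation (f' x)).hom).coeff j ≠ 0 := by
      by_contra hcon
      push Not at hcon
      exact hne (Polynomial.ext fun j => by rw [hcon j, Polynomial.coeff_zero])
    refine ⟨j, fun hmem => hj ?_⟩
    rw [Polynomial.coeff_map]
    have h1 : f'.appTop.hom (Q.coeff j) ∈ (U.toSpecΓ x).asIdeal := hmem
    rw [mem_toSpecΓ_asIdeal_iff, ← hnat] at h1
    exact (map_eq_zero_iff _ (f'.residueFieldMap x).hom.injective).mp h1
  · rw [mem_toSpecΓ_asIdeal_iff]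
    show (U.Γevaluation x).hom (Q.eval₂ f'.appTop.hom b) = 0
    rw [Polynomial.hom_eval₂]
    have h2 : (U.Γevaluation x).hom.comp f'.appTop.hom =
        (f'.residueFieldMap x).hom.comp (Y.Γevaluation (f' x)).hom :=
      RingHom.ext fun a => (hnat a).symm
    rw [h2, ← Polynomial.eval₂_map, hQ, Polynomial.eval₂_mul]
    have h3 : Polynomial.eval₂ (f'.residueFieldMap x).hom ((U.Γevaluation x).hom b) Q₀ = 0 := hQ₀b
    rw [h3, mul_zero]

end Groth.Agent.Lib.SliceH8
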