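import Mathlib
import Groth.Agent.Lib.Slice7_helper8

/-!
# Slicing: the affine case (helper8)
APPEND-ONLY once landed.
-/

set_option autoImplicit false
universe u

namespace Groth.Agent.Lib.SliceH8

open AlgebraicGeometry CategoryTheory

set_option maxHeartbeats 1600000 in
theorem affine_slice {T Y₀ : Scheme.{u}} [IsAffine T] [IsAffine Y₀] (d : ℕ) (f₂ : T ⟶ Y₀)
    [LocallyOfFinitePresentation f₂]
    (g : T ⟶ 𝔸(ULift.{u} (Fin d); Y₀)) (hg : g ≫ (𝔸(ULift.{u} (Fin d); Y₀) ↘ Y₀) = f₂)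
    [Flat g] [LocallyQuasiFinite g] (t : T) (hres : Dual3.resTrdeg f₂ t = 0) :
    ∃ (B' : CommRingCat.{u}) (k : Spec B' ⟶ T) (_ : IsOpenImmersion k) (hs : List B'),
      RingTheory.Sequence.IsRegular B' hs ∧
      t ∈ Set.range ⇑(Spec.map (CommRingCat.ofHom (Ideal.Quotient.mk (Ideal.ofList hs))) ≫ k) ∧
      Flat (Spec.map (CommRingCat.ofHom (Ideal.Quotient.mk (Ideal.ofList hs))) ≫ k ≫ f₂) ∧
      LocallyOfFinitePresentation
        (Spec.map (CommRingCat.ofHom (Ideal.Quotient.mk (Ideal.ofList hs))) ≫ k ≫ f₂) ∧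
      LocallyQuasiFinite
        (Spec.map (CommRingCat.ofHom (Ideal.Quotient.mk (Ideal.ofList hs))) ≫ k ≫ f₂) ∧
      ∀ z, f₂ (k (Spec.map (CommRingCat.ofHom (Ideal.Quotient.mk (Ideal.ofList hs))) z)) = f₂ t →
        k (Spec.map (CommRingCat.ofHom (Ideal.Quotient.mk (Ideal.ofList hs))) z) = t := by
  let A : CommRingCat.{u} := Γ(Y₀, ⊤)
  let B : CommRingCat.{u} := Γ(T, ⊤)
  let C : CommRingCat.{u} := .of (MvPolynomial (ULift.{u} (Fin d)) A)
  let e𝔸 := AffineSpace.isoOfIsAffine (ULift.{u} (Fin d)) Y₀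
  let G : T ⟶ Spec C := g ≫ e𝔸.hom
  let φ₀ : C ⟶ B := (Scheme.ΓSpecIso C).inv ≫ G.appTop
  have hG : G = T.isoSpec.hom ≫ Spec.map φ₀ := by
    have h1 := Scheme.toSpecΓ_naturality G
    have h2 : Spec.map φ₀ = Spec.map G.appTop ≫ Spec.map (Scheme.ΓSpecIso C).inv :=
      Spec.map_comp _ _
    rw [h2, ← Category.assoc]
    show G = (T.toSpecΓ ≫ Spec.map G.appTop) ≫ _
    rw [← h1, Category.assoc, toSpecΓ_SpecMap_ΓSpecIso_inv, Category.comp_id]
  let CA : A ⟶ C := CommRingCat.ofHom MvPolynomial.C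
  have hπ : e𝔸.hom ≫ Spec.map CA ≫ Y₀.isoSpec.inv = (𝔸(ULift.{u} (Fin d); Y₀) ↘ Y₀) := by
    rw [← AffineSpace.isoOfIsAffine_inv_over, Iso.hom_inv_id_assoc]
  have hf₂ : f₂ = T.isoSpec.hom ≫ Spec.map (CA ≫ φ₀) ≫ Y₀.isoSpec.inv := by
    rw [← hg, ← hπ, Spec.map_comp, Category.assoc, ← Category.assoc g, ← Category.assoc _ (Spec.map φ₀)]
    congr 1
  have hψ : CA ≫ φ₀ = f₂.appTop := by
    apply Spec.map_injective
    have h1 := Scheme.toSpecΓ_naturality f₂
    have h2 : f₂ ≫ Y₀.isoSpec.hom = T.isoSpec.hom ≫ Spec.map (CA ≫ φ₀) := by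
      conv_lhs => rw [hf₂]
      simp only [Category.assoc, Iso.inv_hom_id, Category.comp_id]
    rw [← cancel_epi T.isoSpec.hom, ← h2]
    exact h1
  -- ring-level properties
  have hSpecφ : Spec.map φ₀ = T.isoSpec.inv ≫ G := by rw [hG, Iso.inv_hom_id_assoc]
  have hφ1 : φ₀.hom.Flat := by
    rw [← HasRingHomProperty.Spec_iff (P := @Flat), hSpecφ]
    infer_instance
  have hφ2 : φ₀.hom.QuasiFinite := by
    rw [← HasRingHomProperty.Spec_iff (P := @LocallyQuasiFinite), hSpecφ]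
    infer_instance
  have hψfp : (φ₀.hom.comp MvPolynomial.C).FinitePresentation := by
    have h3 : φ₀.hom.comp MvPolynomial.C = (CA ≫ φ₀).hom := rfl
    rw [h3, hψ, ← HasRingHomProperty.Spec_iff (P := @LocallyOfFinitePresentation)]
    have h4 : Spec.map f₂.appTop = T.isoSpec.inv ≫ f₂ ≫ Y₀.isoSpec.hom := by
      rw [← hψ]
      conv_rhs => rw [hf₂]
      simp only [Category.assoc, Iso.inv_hom_id, Category.comp_id, Iso.inv_hom_id_assoc]
    rw [h4]
    infer_instance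
  -- the prime ideal of `t`
  let qpt : Spec B := T.isoSpec.hom t
  have hqpt : T.isoSpec.inv qpt = t := by
    show (T.isoSpec.hom ≫ T.isoSpec.inv) t = t
    rw [Iso.hom_inv_id]; rfl
  let 𝔮 : Ideal B := qpt.asIdeal
  haveI : 𝔮.IsPrime := qpt.isPrime
  have hCeq : φ₀.hom.comp MvPolynomial.C = f₂.appTop.hom := by
    rw [← hψ]; rfl
  have halg : ∀ b : B, ∃ Q : Polynomial A,
      (∃ j, Q.coeff j ∉ 𝔮.comap (φ₀.hom.comp MvPolynomial.C)) ∧
        Q.eval₂ (φ₀.hom.comp MvPolynomial.C) b ∈ 𝔮 := by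
    intro b
    rw [hCeq]
    exact exists_alg f₂ t hres b
  obtain ⟨β, B', instR, instA, hβ, hloc, hs, hreg, hmem, hflat, hfp, hqf, huniq⟩ :=
    ring_main_hom d φ₀.hom hφ1 hφ2 hψfp 𝔮 halg
  let B'c : CommRingCat.{u} := CommRingCat.of B'
  let κ : B ⟶ B'c := CommRingCat.ofHom (algebraMap B B')
  haveI : IsOpenImmersion (Spec.map κ) := IsOpenImmersion.of_isLocalization β
  let k : Spec B'c ⟶ T := Spec.map κ ≫ T.isoSpec.inv
  let mk' : B'c ⟶ CommRingCat.of (B' ⧸ Ideal.ofList hs) :=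
    CommRingCat.ofHom (Ideal.Quotient.mk (Ideal.ofList hs))
  let θ : A ⟶ CommRingCat.of (B' ⧸ Ideal.ofList hs) := (CA ≫ φ₀) ≫ κ ≫ mk'
  have hθ : θ.hom = (Ideal.Quotient.mk (Ideal.ofList hs)).comp
      ((algebraMap B B').comp (φ₀.hom.comp MvPolynomial.C)) := rfl
  have hcomp : Spec.map mk' ≫ k ≫ f₂ = Spec.map θ ≫ Y₀.isoSpec.inv := by
    conv_lhs => rw [hf₂]
    simp only [k, θ, Category.assoc, Iso.inv_hom_id_assoc, Spec.map_comp]
  -- the prime of `B'`
  have hdisj : Disjoint (Submonoid.powers β : Set B) 𝔮 :=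
    (Ideal.disjoint_powers_iff_notMem_of_isPrime β).mpr hβ
  let q' : Ideal B' := 𝔮.map (algebraMap B B')
  haveI hq'p : q'.IsPrime :=
    IsLocalization.isPrime_of_isPrime_disjoint (Submonoid.powers β) B' 𝔮 inferInstance hdisj
  have hq'comap : q'.comap (algebraMap B B') = 𝔮 :=
    IsLocalization.under_map_of_isPrime_disjoint (Submonoid.powers β) B' inferInstance hdisj
  have hle : Ideal.ofList hs ≤ q' := Ideal.span_le.mpr hmem
  let q'pt : Spec B'c := ⟨q', hq'p⟩
  have hkq' : k q'pt = t := by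
    show T.isoSpec.inv (Spec.map κ q'pt) = t
    have : Spec.map κ q'pt = qpt := PrimeSpectrum.ext hq'comap
    rw [this, hqpt]
  refine ⟨B'c, k, inferInstance, hs, hreg, ?_, ?_, ?_, ?_, ?_⟩
  · have hsurj : Function.Surjective (Ideal.Quotient.mk (Ideal.ofList hs)) :=
      Ideal.Quotient.mk_surjective
    have hker : RingHom.ker (Ideal.Quotient.mk (Ideal.ofList hs)) ≤ q' := by
      rw [Ideal.mk_ker]; exact hle
    have hzp : (q'.map (Ideal.Quotient.mk (Ideal.ofList hs))).IsPrime :=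
      Ideal.map_isPrime_of_surjective hsurj hker
    let z₀ : Spec (CommRingCat.of (B' ⧸ Ideal.ofList hs)) :=
      ⟨q'.map (Ideal.Quotient.mk (Ideal.ofList hs)), hzp⟩
    have hz₀ : Spec.map mk' z₀ = q'pt := by
      apply PrimeSpectrum.ext
      show (q'.map (Ideal.Quotient.mk (Ideal.ofList hs))).comap
        (Ideal.Quotient.mk (Ideal.ofList hs)) = q'
      rw [Ideal.comap_map_of_surjective _ hsurj, ← RingHom.ker_eq_comap_bot]
      exact sup_eq_left.mpr hker
    refine ⟨z₀, ?_⟩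
    show k (Spec.map mk' z₀) = t
    rw [hz₀, hkq']
  · rw [hcomp]
    haveI : Flat (Spec.map θ) := (HasRingHomProperty.Spec_iff (P := @Flat)).mpr (hθ ▸ hflat)
    infer_instance
  · rw [hcomp]
    haveI : LocallyOfFinitePresentation (Spec.map θ) :=
      (HasRingHomProperty.Spec_iff (P := @LocallyOfFinitePresentation)).mpr (hθ ▸ hfp)
    infer_instance
  · rw [hcomp]
    haveI : LocallyQuasiFinite (Spec.map θ) :=
      (HasRingHomProperty.Spec_iff (P := @LocallyQuasiFinite)).mpr (hθ ▸ hqf)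
    infer_instance
  · intro z hz
    set w : Spec B'c := Spec.map mk' z with hw
    have hQle : Ideal.ofList hs ≤ w.asIdeal := by
      intro a ha
      show Ideal.Quotient.mk (Ideal.ofList hs) a ∈ z.asIdeal
      rw [Ideal.Quotient.eq_zero_iff_mem.mpr ha]
      exact z.asIdeal.zero_mem
    have h1 : ∀ p : T, f₂ p =
        Y₀.isoSpec.inv (Spec.map (CA ≫ φ₀) (T.isoSpec.hom p)) := by
      intro p
      conv_lhs => rw [hf₂]
      rfl
    have hkw : T.isoSpec.hom (k w) = Spec.map κ w := by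
      show (T.isoSpec.inv ≫ T.isoSpec.hom) (Spec.map κ w) = _
      rw [Iso.inv_hom_id]; rfl
    rw [h1, h1, hkw] at hz
    have hinj : Function.Injective Y₀.isoSpec.inv :=
      (Y₀.isoSpec.symm.schemeIsoToHomeo).injective
    have hz' := hinj hz
    have hcomapeq : w.asIdeal.comap ((algebraMap B B').comp (φ₀.hom.comp MvPolynomial.C)) =
        𝔮.comap (φ₀.hom.comp MvPolynomial.C) := by
      have := congrArg PrimeSpectrum.asIdeal hz'
      exact this
    have hweq : w.asIdeal = q' := huniq w.asIdeal w.isPrime hQle hcomapeq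
    have hwpt : w = q'pt := PrimeSpectrum.ext hweq
    rw [hwpt, hkq']

end Groth.Agent.Lib.SliceH8
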