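import Mathlib
import Groth.Agent.Lib.Slice8_helper8
import Groth.Agent.Lib.CMMor9_helper8
import Groth.Prelude.Def_Mor2

/-!
# Slicing Cohen–Macaulay morphisms (helper8)
APPEND-ONLY once landed.
-/

set_option autoImplicit false
universe u

namespace Groth.Agent.Lib.SliceH8

open AlgebraicGeometry CategoryTheory Groth.Agent.Lib.CMMorH8

/-- reduction to an affine chart with a flat quasi-finite map to affine space. -/
theorem exists_chart {X S : Scheme.{u}} (f : X ⟶ S) [LocallyOfFinitePresentation f] (x : X)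
    (hcm : MoreMor.IsCMAt f x) :
    ∃ (d : ℕ) (S₀ : S.Opens) (T : Scheme.{u}) (_ : IsAffine T) (_ : IsAffine (S₀ : Scheme.{u}))
      (j : T ⟶ X) (_ : IsOpenImmersion j) (f₂ : T ⟶ (S₀ : Scheme.{u}))
      (g : T ⟶ 𝔸(ULift.{u} (Fin d); (S₀ : Scheme.{u}))) (t : T),
      j t = x ∧ f₂ ≫ S₀.ι = j ≫ f ∧
      g ≫ (𝔸(ULift.{u} (Fin d); (S₀ : Scheme.{u})) ↘ (S₀ : Scheme.{u})) = f₂ ∧
      Flat g ∧ LocallyQuasiFinite g := by
  obtain ⟨d, hd⟩ := EquidimIrrH8.exists_nat_fibreDimAt f x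
  obtain ⟨S₀, hS₀, hfx⟩ : ∃ V : S.Opens, IsAffineOpen V ∧ f x ∈ V := by
    obtain ⟨_, ⟨V, hV, rfl⟩, hfxV, -⟩ :=
      S.isBasis_affineOpens.exists_subset_of_mem_open (Set.mem_univ (f x)) isOpen_univ
    exact ⟨V, hV, hfxV⟩
  obtain ⟨U₁, hU₁, hU₁V, g₁, hxU₁, -, hg₁, hlqf⟩ :=
    exists_lqf_affine f x d hd ⊤ trivial S₀ hS₀ hfx
  haveI := hlqf
  haveI : IsAffine (U₁ : Scheme.{u}) := hU₁
  haveI : IsAffine (S₀ : Scheme.{u}) := hS₀
  set f₁ : (U₁ : Scheme.{u}) ⟶ (S₀ : Scheme.{u}) := f.resLE S₀ U₁ hU₁V with hf₁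
  have hf₁ι : f₁ ≫ S₀.ι = U₁.ι ≫ f := Scheme.Hom.resLE_comp_ι f hU₁V
  haveI : LocallyOfFinitePresentation (f₁ ≫ S₀.ι) := by rw [hf₁ι]; infer_instance
  haveI : LocallyOfFinitePresentation f₁ :=
    Groth.Agent.Lib.CentSchH1.locallyOfFinitePresentation_of_comp f₁ S₀.ι
  let x₁ : (U₁ : Scheme.{u}) := ⟨x, hxU₁⟩
  have hcm1 : MoreMor.IsCMAt (U₁.ι ≫ f) x₁ := (isCMAt_ι_comp_iff f U₁ x₁).mpr hcm
  have hcm2 : MoreMor.IsCMAt (f₁ ≫ S₀.ι) x₁ := by rw [hf₁ι]; exact hcm1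
  have hfl₁ : (f₁.stalkMap x₁).hom.Flat := by
    have h3 := hcm2.1
    rw [Scheme.Hom.stalkMap_comp] at h3
    have h4 : f₁.stalkMap x₁ = inv (S₀.ι.stalkMap (f₁ x₁)) ≫
        (S₀.ι.stalkMap (f₁ x₁) ≫ f₁.stalkMap x₁) := by
      rw [IsIso.inv_hom_id_assoc]
    rw [h4, CommRingCat.hom_comp]
    refine RingHom.Flat.comp (RingHom.Flat.of_bijective ?_) h3
    exact (ConcreteCategory.bijective_of_isIso (inv (S₀.ι.stalkMap (f₁ x₁))))
  have hcm3 : MoreMor.IsCMAt f₁ x₁ :=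
    (Groth.Agent.FibStalkCM.main9767 f₁ S₀.ι x₁
      (Groth.Agent.FibChainH8.isLocallyNoetherian_fiber _ _) hcm2 hfl₁).1
  have hd₁ : FlatMor.fibreDimAt f₁ x₁ = d := by
    rw [← FibCohH8.fibreDimAt_etale_local f f₁ U₁.ι S₀.ι hf₁ι x₁]
    exact hd
  haveI : LocallyOfFinitePresentation
      (g₁ ≫ (𝔸(ULift.{u} (Fin d); (S₀ : Scheme.{u})) ↘ (S₀ : Scheme.{u}))) := by
    rw [hg₁]; infer_instance
  haveI : LocallyOfFiniteType
      (g₁ ≫ (𝔸(ULift.{u} (Fin d); (S₀ : Scheme.{u})) ↘ (S₀ : Scheme.{u}))) := inferInstance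
  haveI : LocallyOfFiniteType g₁ := locallyOfFiniteType_of_comp g₁
    (𝔸(ULift.{u} (Fin d); (S₀ : Scheme.{u})) ↘ (S₀ : Scheme.{u}))
  haveI : LocallyOfFinitePresentation g₁ :=
    Groth.Agent.Lib.CentSchH1.locallyOfFinitePresentation_of_comp g₁
      (𝔸(ULift.{u} (Fin d); (S₀ : Scheme.{u})) ↘ (S₀ : Scheme.{u}))
  have hflx : (g₁.stalkMap x₁).hom.Flat :=
    flat_stalkMap_of_isCMAt d g₁ x₁ (by rw [hg₁]; exact hcm3) (by rw [hg₁]; exact hd₁)
  -- the flat locus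
  let W : (U₁ : Scheme.{u}).Opens :=
    ⟨{u : (U₁ : Scheme.{u}) | (g₁.stalkMap u).hom.Flat}, Groth.Agent.S0386.result g₁⟩
  obtain ⟨D, hD, hx₁D, hDW⟩ : ∃ D : (U₁ : Scheme.{u}).Opens, IsAffineOpen D ∧ x₁ ∈ D ∧
      (D : Set (U₁ : Scheme.{u})) ⊆ (W : Set (U₁ : Scheme.{u})) := by
    obtain ⟨_, ⟨D, hD, rfl⟩, hx₁D, hsub⟩ :=
      (U₁ : Scheme.{u}).isBasis_affineOpens.exists_subset_of_mem_open
        (show x₁ ∈ (W : Set (U₁ : Scheme.{u})) from hflx) W.2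
    exact ⟨D, hD, hx₁D, hsub⟩
  haveI : IsAffine (D : Scheme.{u}) := hD
  refine ⟨d, S₀, (D : Scheme.{u}), inferInstance, inferInstance, D.ι ≫ U₁.ι, inferInstance,
    D.ι ≫ f₁, D.ι ≫ g₁, ⟨x₁, hx₁D⟩, rfl, ?_, ?_, ?_, inferInstance⟩
  · rw [Category.assoc, hf₁ι, Category.assoc]
  · rw [Category.assoc, hg₁]
  · apply Flat.of_stalkMap
    intro u
    rw [Scheme.Hom.stalkMap_comp]
    refine RingHom.Flat.comp ?_ ?_
    · exact hDW u.2
    · exact Flat.stalkMap D.ι u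

set_option maxHeartbeats 1600000 in
theorem main1349 {X S : Scheme.{u}} (f : X ⟶ S) [LocallyOfFinitePresentation f] (x : X)
    (hcm : MoreMor.IsCMAt f x) (hcl : IsClosed ({f.asFiber x} : Set ↑(f.fiber (f x)))) :
    ∃ (V : X.Opens) (Z : Scheme.{u}) (i : Z ⟶ (V : Scheme.{u})),
      Mor2.IsRegularClosedImmersion i ∧ x ∈ Set.range ⇑(i ≫ V.ι) ∧
      Flat (i ≫ V.ι ≫ f) ∧ LocallyOfFinitePresentation (i ≫ V.ι ≫ f) ∧
      LocallyQuasiFinite (i ≫ V.ι ≫ f) ∧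
      ∀ z : Z, f (V.ι (i z)) = f x → V.ι (i z) = x := by
  obtain ⟨d, S₀, T, hT, hS₀, j, hj, f₂, g, t, hjt, hf₂, hg, hflat, hlqf⟩ := exists_chart f x hcm
  haveI := hT
  haveI := hS₀
  haveI := hj
  haveI := hflat
  haveI := hlqf
  haveI : LocallyOfFinitePresentation (f₂ ≫ S₀.ι) := by rw [hf₂]; infer_instance
  haveI : LocallyOfFinitePresentation f₂ :=
    Groth.Agent.Lib.CentSchH1.locallyOfFinitePresentation_of_comp f₂ S₀.ι
  have hres : Dual3.resTrdeg f₂ t = 0 := by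
    rw [← ResTrdegH8.resTrdeg_comp_etale f₂ S₀.ι t, ResTrdegH8.resTrdeg_congr hf₂ t,
      ResTrdegH8.resTrdeg_etale_comp j f t, hjt]
    have := resTrdeg_eq_zero_of_isClosed_fiber f (f x) (f.asFiber x) hcl
    rwa [Scheme.Hom.fiberι_asFiber] at this
  obtain ⟨B', k, hk, hs, hreg, hrange, hfl, hfp, hqf, huniq⟩ := affine_slice d f₂ g hg t hres
  haveI := hk
  set i₀ := Spec.map (CommRingCat.ofHom (Ideal.Quotient.mk (Ideal.ofList hs))) with hi₀
  let jk : Spec B' ⟶ X := k ≫ j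
  let V : X.Opens := jk.opensRange
  let e : Spec B' ≅ (V : Scheme.{u}) := jk.isoOpensRange
  have he : e.hom ≫ V.ι = k ≫ j := jk.isoOpensRange_hom_ι
  have hcomp : (i₀ ≫ e.hom) ≫ V.ι ≫ f = (i₀ ≫ k ≫ f₂) ≫ S₀.ι := by
    rw [Category.assoc, ← Category.assoc e.hom, he, Category.assoc, Category.assoc, Category.assoc,
      hf₂]
  have hpt : ∀ z, V.ι ((i₀ ≫ e.hom) z) = j (k (i₀ z)) := by
    intro z
    show (e.hom ≫ V.ι) (i₀ z) = _
    rw [he]
    rfl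
  refine ⟨V, Spec (.of (B' ⧸ Ideal.ofList hs)), i₀ ≫ e.hom, ?_, ?_, ?_, ?_, ?_, ?_⟩
  · refine ⟨inferInstance, fun z => ?_⟩
    haveI : IsAffine (V : Scheme.{u}) := IsAffine.of_isIso e.inv
    refine ⟨⊤, isAffineOpen_top _, trivial, ?_⟩
    haveI : IsIso e.hom.appTop := inferInstanceAs (IsIso (e.hom.app ⊤))
    let ρ' : Γ((V : Scheme.{u}), ⊤) ≃+* B' :=
      (asIso e.hom.appTop).commRingCatIsoToRingEquiv.trans
        (Scheme.ΓSpecIso B').commRingCatIsoToRingEquiv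
    have hρ' : ∀ y, ρ' y = (Scheme.ΓSpecIso B').hom (e.hom.appTop y) := fun y => rfl
    refine ⟨hs.map ρ'.symm, ?_, ?_⟩
    · exact ((ρ'.symm.toAddEquiv).isRegular_congr (R := B') (S := Γ((V : Scheme.{u}), ⊤))
        (as := hs) (bs := hs.map ρ'.symm)
        (List.forall₂_map_right_iff.mpr
          (List.forall₂_same.mpr fun r _ y => map_mul ρ'.symm r y))).mp hreg
    · rw [Scheme.Hom.ker_apply]
      have h1 : Ideal.ofList (hs.map ρ'.symm) = (Ideal.ofList hs).comap ρ' := by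
        have := Ideal.map_ofList (ρ'.symm : B' →+* Γ((V : Scheme.{u}), ⊤)) hs
        rw [show (hs.map ρ'.symm) = hs.map ((ρ'.symm : B' →+* Γ((V : Scheme.{u}), ⊤))) from rfl,
          ← this]
        exact Ideal.map_symm ρ'
      rw [h1]
      ext y
      rw [RingHom.mem_ker, Ideal.mem_comap]
      show ((i₀ ≫ e.hom).appTop).hom y = 0 ↔ _
      rw [Scheme.Hom.comp_appTop]
      have h2 := Scheme.ΓSpecIso_naturality
        (CommRingCat.ofHom (Ideal.Quotient.mk (Ideal.ofList hs)))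
      have h3 : (Scheme.ΓSpecIso (.of (B' ⧸ Ideal.ofList hs))).hom
          (i₀.appTop (e.hom.appTop y)) = Ideal.Quotient.mk (Ideal.ofList hs) (ρ' y) := by
        have := congrArg (fun φ => φ.hom (e.hom.appTop y)) h2
        exact this
      constructor
      · intro h
        have h4 : (i₀.appTop (e.hom.appTop y)) = 0 := h
        rw [h4, map_zero] at h3
        exact Ideal.Quotient.eq_zero_iff_mem.mp h3.symm
      · intro h
        have h4 : Ideal.Quotient.mk (Ideal.ofList hs) (ρ' y) = 0 :=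
          Ideal.Quotient.eq_zero_iff_mem.mpr h
        rw [← h3] at h4
        have hinj : Function.Injective (Scheme.ΓSpecIso (.of (B' ⧸ Ideal.ofList hs))).hom :=
          (ConcreteCategory.bijective_of_isIso _).1
        exact hinj (h4.trans (map_zero _).symm)
  · obtain ⟨z, hz⟩ := hrange
    refine ⟨z, ?_⟩
    show V.ι ((i₀ ≫ e.hom) z) = x
    rw [hpt, ← hjt]
    exact congrArg j hz
  · rw [hcomp]
    haveI := hfl
    infer_instance
  · rw [hcomp]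
    haveI := hfp
    infer_instance
  · rw [hcomp]
    haveI := hqf
    infer_instance
  · intro z hz
    rw [hpt] at hz ⊢
    have h1 : ∀ p : T, f (j p) = S₀.ι (f₂ p) := by
      intro p
      show (j ≫ f) p = (f₂ ≫ S₀.ι) p
      rw [hf₂]
    rw [h1, ← hjt, h1] at hz
    have h2 := S₀.ι.isOpenEmbedding.injective hz
    rw [huniq z h2, hjt]

end Groth.Agent.Lib.SliceH8
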