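import Mathlib

set_option autoImplicit false
set_option maxHeartbeats 1000000

open DirectSum

namespace Groth.Agent.Lib.SliceH1

universe u v w

variable {k : Type u} [Field k] {A : Type v} [CommRing A] [Algebra k A]
  {Λ : Type w} [AddCommGroup Λ] [DecidableEq Λ] (𝒜 : Λ → Submodule k A) [GradedAlgebra 𝒜]

theorem proj_of_mem {i : Λ} {x : A} (hx : x ∈ 𝒜 i) (j : Λ) :
    GradedRing.proj 𝒜 j x = if i = j then x else 0 := by
  rw [GradedRing.proj_apply]
  split_ifs with h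
  · subst h; exact DirectSum.decompose_of_mem_same 𝒜 hx
  · exact DirectSum.decompose_of_mem_ne 𝒜 hx h

theorem mul_eq_zero_of_pos (hpos : ∀ w : Λ, 𝒜 w ≠ ⊥ → 𝒜 (-w) ≠ ⊥ → w = 0)
    {u : Λ} (hu : u ≠ 0) {r x : A} (hr : r ∈ 𝒜 u) (hx : x ∈ 𝒜 (-u)) : r * x = 0 := by
  by_cases h1 : r = 0
  · rw [h1, zero_mul]
  by_cases h2 : x = 0
  · rw [h2, mul_zero]
  exfalso
  apply hu
  apply hpos u
  · intro hbot; rw [hbot] at hr; exact h1 ((Submodule.mem_bot k).mp hr)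
  · intro hbot; rw [hbot] at hx; exact h2 ((Submodule.mem_bot k).mp hx)

theorem proj_zero_mul (hpos : ∀ w : Λ, 𝒜 w ≠ ⊥ → 𝒜 (-w) ≠ ⊥ → w = 0) (r x : A) :
    GradedRing.proj 𝒜 0 (r * x) = GradedRing.proj 𝒜 0 r * GradedRing.proj 𝒜 0 x := by
  classical
  refine DirectSum.Decomposition.inductionOn 𝒜
    (motive := fun r => ∀ x, GradedRing.proj 𝒜 0 (r * x) =
      GradedRing.proj 𝒜 0 r * GradedRing.proj 𝒜 0 x) ?_ ?_ ?_ r x
  · intro x; simp
  · intro u r x
    refine DirectSum.Decomposition.inductionOn 𝒜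
      (motive := fun x => GradedRing.proj 𝒜 0 ((r : A) * x) =
        GradedRing.proj 𝒜 0 (r : A) * GradedRing.proj 𝒜 0 x) ?_ ?_ ?_ x
    · simp
    · intro v x
      have hrx : (r : A) * (x : A) ∈ 𝒜 (u + v) := SetLike.mul_mem_graded r.2 x.2
      rw [proj_of_mem 𝒜 hrx, proj_of_mem 𝒜 r.2, proj_of_mem 𝒜 x.2]
      by_cases hu : u = 0
      · by_cases hv : v = 0
        · rw [if_pos (by rw [hu, hv, add_zero]), if_pos hu, if_pos hv]
        · rw [if_neg (by rw [hu, zero_add]; exact hv), if_neg hv, mul_zero]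
      · rw [if_neg hu, zero_mul]
        split_ifs with huv
        · have hv : v = -u := eq_neg_of_add_eq_zero_right huv
          have hx' : (x : A) ∈ 𝒜 (-u) := hv ▸ x.2
          exact mul_eq_zero_of_pos 𝒜 hpos hu r.2 hx'
        · rfl
    · intro m m' h h'
      rw [mul_add, map_add, map_add, h, h', mul_add]
  · intro m m' h h' x
    rw [add_mul, map_add, map_add, h, h', add_mul]

theorem main (hpos : ∀ w : Λ, 𝒜 w ≠ ⊥ → 𝒜 (-w) ≠ ⊥ → w = 0)
    (δ : Derivation k A A)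
    (d : Λ) (hhom : ∀ (w : Λ) (a : A), a ∈ 𝒜 w → δ a ∈ 𝒜 (w + d)) (hd : 𝒜 d = ⊥)
    (hfix : ∀ m : Ideal A, m.IsMaximal → (∀ w : Λ, w ≠ 0 → (𝒜 w : Set A) ⊆ m) →
      ¬ (Set.range δ ⊆ m)) :
    ∃ s ∈ 𝒜 (-d), δ s = 1 := by
  classical
  have hδproj : ∀ b : A, GradedRing.proj 𝒜 0 (δ b) = δ (GradedRing.proj 𝒜 (-d) b) := by
    intro b
    refine DirectSum.Decomposition.inductionOn 𝒜
      (motive := fun b => GradedRing.proj 𝒜 0 (δ b) = δ (GradedRing.proj 𝒜 (-d) b)) ?_ ?_ ?_ b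
    · simp
    · intro v m
      have h1 := hhom v m m.2
      rw [proj_of_mem 𝒜 h1, proj_of_mem 𝒜 m.2]
      by_cases hv : v = -d
      · have : v + d = 0 := by rw [hv, neg_add_cancel]
        rw [if_pos this, if_pos hv]
      · have : v + d ≠ 0 := fun h => hv (eq_neg_of_add_eq_zero_left h)
        rw [if_neg this, if_neg hv, map_zero]
    · intro m m' h h'; simp only [map_add, h, h']
  have hδ0 : ∀ a ∈ 𝒜 0, δ a = 0 := by
    intro a ha
    have := hhom 0 a ha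
    rw [zero_add, hd] at this
    exact (Submodule.mem_bot k).mp this
  have hproj_mem : ∀ (i : Λ) (r : A), GradedRing.proj 𝒜 i r ∈ 𝒜 i := by
    intro i r
    rw [GradedRing.proj_apply]; exact SetLike.coe_mem _
  let M : Ideal A :=
    { carrier := {x | ∃ s ∈ 𝒜 (-d), δ s = GradedRing.proj 𝒜 0 x}
      zero_mem' := ⟨0, zero_mem _, by simp⟩
      add_mem' := by
        rintro x y ⟨s, hs, hsx⟩ ⟨t, ht, hty⟩
        exact ⟨s + t, add_mem hs ht, by rw [map_add, map_add, hsx, hty]⟩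
      smul_mem' := by
        rintro r x ⟨s, hs, hsx⟩
        have h0 : GradedRing.proj 𝒜 0 r ∈ 𝒜 0 := hproj_mem 0 r
        refine ⟨GradedRing.proj 𝒜 0 r * s, ?_, ?_⟩
        · have := SetLike.mul_mem_graded h0 hs
          rwa [zero_add] at this
        · show δ (GradedRing.proj 𝒜 0 r * s) = GradedRing.proj 𝒜 0 (r * x)
          rw [proj_zero_mul 𝒜 hpos, Derivation.leibniz, hsx, hδ0 _ h0, smul_zero, add_zero,
            smul_eq_mul] }
  have hM : M = ⊤ := by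
    by_contra hne
    obtain ⟨m, hm, hle⟩ := Ideal.exists_le_maximal M hne
    apply hfix m hm
    · intro w hw x hx
      apply hle
      show ∃ s ∈ 𝒜 (-d), δ s = GradedRing.proj 𝒜 0 x
      refine ⟨0, zero_mem _, ?_⟩
      rw [map_zero, proj_of_mem 𝒜 hx, if_neg hw]
    · rintro _ ⟨b, rfl⟩
      apply hle
      show ∃ s ∈ 𝒜 (-d), δ s = GradedRing.proj 𝒜 0 (δ b)
      exact ⟨GradedRing.proj 𝒜 (-d) b, hproj_mem _ _, (hδproj b).symm⟩
  have h1 : (1 : A) ∈ M := by rw [hM]; trivial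
  obtain ⟨s, hs, hs1⟩ := h1
  refine ⟨s, hs, ?_⟩
  rw [hs1, proj_of_mem 𝒜 (SetLike.one_mem_graded 𝒜), if_pos rfl]

end Groth.Agent.Lib.SliceH1
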