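import Mathlib

/-!
# Algebra for S1479, part 1 (helper7)

* `etale_of_basis`: if `A` is smooth over `R` and `d v_i` is a basis of `Ω[A/R]` then
  `R[X_i] → A`, `X_i ↦ v_i` is étale.
* linear algebra for short exact sequences,
* `bijective_of_residue`: lifting bases from the residue field over a local ring in the presence
  of a split conormal sequence.
-/

namespace Groth.Agent.Lib.SmClH7

open KaehlerDifferential TensorProduct

universe u

section LemmaE

variable {R A : Type u} [CommRing R] [CommRing A] [Algebra R A]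

/-- If `A` is smooth over `R` and `d v_i` is a basis of `Ω[A/R]`, then `R[X_i] → A` is étale. -/
theorem etale_of_basis {ι : Type*} [Finite ι] [Algebra.Smooth R A] (v : ι → A)
    (b : Module.Basis ι A Ω[A⁄R]) (hb : ∀ i, b i = D R A (v i)) :
    (MvPolynomial.aeval v : MvPolynomial ι R →ₐ[R] A).toRingHom.Etale := by
  let _ : Algebra (MvPolynomial ι R) A :=
    (MvPolynomial.aeval v : MvPolynomial ι R →ₐ[R] A).toRingHom.toAlgebra
  have hst : IsScalarTower R (MvPolynomial ι R) A :=
    IsScalarTower.of_algebraMap_eq fun r =>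
      ((MvPolynomial.aeval v : MvPolynomial ι R →ₐ[R] A).commutes r).symm
  show Algebra.Etale (MvPolynomial ι R) A
  have halg : ∀ p : MvPolynomial ι R,
      algebraMap (MvPolynomial ι R) A p = MvPolynomial.aeval v p := fun _ => rfl
  let b₁ : Module.Basis ι A (A ⊗[MvPolynomial ι R] Ω[MvPolynomial ι R⁄R]) :=
    (mvPolynomialBasis R ι).baseChange A
  have hb₁ : ∀ i, mapBaseChange R (MvPolynomial ι R) A (b₁ i) = b i := by
    intro i
    rw [Module.Basis.baseChange_apply, mapBaseChange_tmul, one_smul, mvPolynomialBasis_apply,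
      map_D, halg, MvPolynomial.aeval_X, hb]
  have hbij : Function.Bijective (mapBaseChange R (MvPolynomial ι R) A) := by
    have : mapBaseChange R (MvPolynomial ι R) A = (b₁.equiv b (Equiv.refl ι)).toLinearMap := by
      apply b₁.ext
      intro i
      rw [hb₁, LinearEquiv.coe_coe, Module.Basis.equiv_apply, Equiv.refl_apply]
    rw [this]
    exact (b₁.equiv b (Equiv.refl ι)).bijective
  have hΩ : Subsingleton Ω[A⁄MvPolynomial ι R] := by
    refine subsingleton_of_forall_eq 0 fun x => ?_
    obtain ⟨x', rfl⟩ := KaehlerDifferential.map_surjective R (MvPolynomial ι R) A x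
    obtain ⟨z, rfl⟩ := hbij.2 x'
    exact (exact_mapBaseChange_map R (MvPolynomial ι R) A).apply_apply_eq_zero z
  have hH1 : Subsingleton (Algebra.H1Cotangent (MvPolynomial ι R) A) := by
    refine subsingleton_of_forall_eq 0 fun x => ?_
    have h1 : Algebra.H1Cotangent.δ R (MvPolynomial ι R) A x = 0 := by
      apply hbij.1
      rw [map_zero]
      exact (Algebra.H1Cotangent.exact_δ_mapBaseChange R (MvPolynomial ι R) A).apply_apply_eq_zero x
    obtain ⟨y, rfl⟩ := (Algebra.H1Cotangent.exact_map_δ R (MvPolynomial ι R) A x).mp h1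
    rw [Subsingleton.elim y 0, map_zero]
  have hfp : Algebra.FinitePresentation (MvPolynomial ι R) A :=
    Algebra.FinitePresentation.of_restrict_scalars_finitePresentation R (MvPolynomial ι R) A
  exact ⟨⟨hΩ, hH1⟩, hfp⟩

end LemmaE

section LA

variable {K X₁ X₂ X₃ : Type*} [Ring K] [AddCommGroup X₁] [AddCommGroup X₂] [AddCommGroup X₃]
  [Module K X₁] [Module K X₂] [Module K X₃]
  {f : X₁ →ₗ[K] X₂} {g : X₂ →ₗ[K] X₃} {ι₁ ι₂ : Type*}

theorem linearIndependent_sum_of_exact (hf : Function.Injective f) (hfg : Function.Exact f g)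
    (u : ι₁ → X₂) (v : ι₂ → X₁) (hu : LinearIndependent K (g ∘ u))
    (hv : LinearIndependent K v) :
    LinearIndependent K (Sum.elim u (f ∘ v)) := by
  rw [linearIndependent_sum]
  refine ⟨?_, ?_, ?_⟩
  · rw [Sum.elim_comp_inl]
    exact LinearIndependent.of_comp g hu
  · rw [Sum.elim_comp_inr]
    exact hv.map' f (LinearMap.ker_eq_bot.mpr hf)
  · rw [Sum.elim_comp_inl, Sum.elim_comp_inr, Submodule.disjoint_def]
    intro x hx1 hx2
    have hgx : g x = 0 := by
      have : Submodule.span K (Set.range (f ∘ v)) ≤ LinearMap.ker g := by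
        rw [Submodule.span_le]
        rintro _ ⟨i, rfl⟩
        exact hfg.apply_apply_eq_zero (v i)
      exact this hx2
    obtain ⟨c, hc⟩ := Finsupp.mem_span_range_iff_exists_finsupp.mp hx1
    have hx : Finsupp.linearCombination K u c = x := by
      rw [Finsupp.linearCombination_apply]
      exact hc
    have h0 : Finsupp.linearCombination K (g ∘ u) c = 0 := by
      rw [← Finsupp.apply_linearCombination, hx, hgx]
    have hc0 : c = 0 := (linearIndependent_iff.mp hu) c h0
    rw [← hx, hc0, map_zero]

theorem span_sum_of_exact (hfg : Function.Exact f g)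
    (u : ι₁ → X₂) (v : ι₂ → X₁) (hu : Submodule.span K (Set.range (g ∘ u)) = ⊤)
    (hv : Submodule.span K (Set.range v) = ⊤) :
    Submodule.span K (Set.range (Sum.elim u (f ∘ v))) = ⊤ := by
  rw [eq_top_iff]
  intro x _
  rw [Set.Sum.elim_range, Submodule.span_union]
  have hgx : g x ∈ Submodule.span K (Set.range (g ∘ u)) := hu ▸ Submodule.mem_top
  obtain ⟨c, hc⟩ := Finsupp.mem_span_range_iff_exists_finsupp.mp hgx
  have hgy : g (Finsupp.linearCombination K u c) = g x := by
    rw [Finsupp.apply_linearCombination, Finsupp.linearCombination_apply]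
    exact hc
  have hker : g (x - Finsupp.linearCombination K u c) = 0 := by
    rw [map_sub, hgy, sub_self]
  obtain ⟨z, hz⟩ := (hfg (x - Finsupp.linearCombination K u c)).mp hker
  have hz' : z ∈ Submodule.span K (Set.range v) := hv ▸ Submodule.mem_top
  have h1 : Finsupp.linearCombination K u c ∈ Submodule.span K (Set.range u) := by
    rw [Finsupp.linearCombination_apply]
    exact Finsupp.mem_span_range_iff_exists_finsupp.mpr ⟨c, rfl⟩
  have h2 : f z ∈ Submodule.span K (Set.range (f ∘ v)) := by
    rw [Set.range_comp, ← Submodule.map_span]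
    exact Submodule.mem_map_of_mem hz'
  have : x = Finsupp.linearCombination K u c + f z := by
    rw [hz]
    abel
  rw [this]
  exact Submodule.add_mem_sup h1 h2

end LA

section SpanBC

theorem span_one_tmul_eq_top {L : Type*} [CommRing L] (k : Type*) [CommRing k] [Algebra L k]
    {N : Type*} [AddCommGroup N] [Module L N] {ι : Type*} (v : ι → N)
    (hv : Submodule.span L (Set.range v) = ⊤) :
    Submodule.span k (Set.range (fun i => (1 : k) ⊗ₜ[L] v i)) = ⊤ := by
  have := Submodule.baseChange_span (R := L) (A := k) (Set.range v)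
  rw [hv, Submodule.baseChange_top, ← Set.range_comp] at this
  exact this.symm

end SpanBC

section AL

open IsLocalRing

variable {L : Type*} [CommRing L] [IsLocalRing L]
  {M Mb C N : Type*} [AddCommGroup M] [AddCommGroup Mb] [AddCommGroup C] [AddCommGroup N]
  [Module L M] [Module L Mb] [Module L C] [Module L N]

theorem bijective_of_residue [Module.Finite L M] [Module.Flat L M]
    (μ : M →ₗ[L] Mb) (hμ : Function.Injective (μ.baseChange (ResidueField L)))
    (c : C →ₗ[L] Mb) (p : Mb →ₗ[L] N) (l : Mb →ₗ[L] C) (hl : l ∘ₗ c = LinearMap.id)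
    (hcp : Function.Exact c p) (hp : Function.Surjective p)
    {ι₁ ι₂ : Type*} (df : ι₁ → M) (dh : ι₂ → M) (hh : ι₂ → C) (hdh : ∀ i, μ (dh i) = c (hh i))
    (b₁ : LinearIndependent (ResidueField L) (fun j => (1 : ResidueField L) ⊗ₜ[L] p (μ (df j))))
    (s₁ : Submodule.span (ResidueField L)
      (Set.range (fun j => (1 : ResidueField L) ⊗ₜ[L] p (μ (df j)))) = ⊤)
    (b₂ : LinearIndependent (ResidueField L) (fun i => (1 : ResidueField L) ⊗ₜ[L] hh i))
    (s₂ : Submodule.span (ResidueField L)
      (Set.range (fun i => (1 : ResidueField L) ⊗ₜ[L] hh i)) = ⊤) :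
    Function.Bijective (Finsupp.linearCombination L (Sum.elim df dh)) := by
  apply Module.IsLocalRing.linearCombination_bijective_of_flat
  have hck : Function.Injective (c.baseChange (ResidueField L)) := by
    have : l.baseChange (ResidueField L) ∘ₗ c.baseChange (ResidueField L) = LinearMap.id := by
      rw [← LinearMap.baseChange_comp, hl, LinearMap.baseChange_id]
    exact Function.LeftInverse.injective (g := l.baseChange (ResidueField L))
      (fun x => LinearMap.congr_fun this x)
  have hex : Function.Exact (c.baseChange (ResidueField L)) (p.baseChange (ResidueField L)) := by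
    have := lTensor_exact (ResidueField L) hcp hp
    simpa only [LinearMap.baseChange_eq_ltensor] using this
  have hW : (μ.baseChange (ResidueField L)) ∘
      (TensorProduct.mk L (ResidueField L) M 1 ∘ Sum.elim df dh) =
      Sum.elim (fun j => (1 : ResidueField L) ⊗ₜ[L] μ (df j))
        (c.baseChange (ResidueField L) ∘ fun i => (1 : ResidueField L) ⊗ₜ[L] hh i) := by
    funext i
    rcases i with j | i
    · simp only [Function.comp_apply, Sum.elim_inl, TensorProduct.mk_apply,
        LinearMap.baseChange_tmul]
    · simp only [Function.comp_apply, Sum.elim_inr, TensorProduct.mk_apply,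
        LinearMap.baseChange_tmul, hdh]
  have hpW : (p.baseChange (ResidueField L)) ∘ (fun j => (1 : ResidueField L) ⊗ₜ[L] μ (df j)) =
      fun j => (1 : ResidueField L) ⊗ₜ[L] p (μ (df j)) := by
    funext j
    simp only [Function.comp_apply, LinearMap.baseChange_tmul]
  have hWli : LinearIndependent (ResidueField L)
      (Sum.elim (fun j => (1 : ResidueField L) ⊗ₜ[L] μ (df j))
        (c.baseChange (ResidueField L) ∘ fun i => (1 : ResidueField L) ⊗ₜ[L] hh i)) := by
    refine linearIndependent_sum_of_exact hck hex _ _ ?_ b₂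
    rw [hpW]
    exact b₁
  have hWsp : Submodule.span (ResidueField L) (Set.range
      (Sum.elim (fun j => (1 : ResidueField L) ⊗ₜ[L] μ (df j))
        (c.baseChange (ResidueField L) ∘ fun i => (1 : ResidueField L) ⊗ₜ[L] hh i))) = ⊤ := by
    refine span_sum_of_exact hex _ _ ?_ s₂
    rw [hpW]
    exact s₁
  refine ⟨?_, ?_⟩
  · refine LinearIndependent.of_comp (μ.baseChange (ResidueField L)) ?_
    rw [hW]
    exact hWli
  · intro x
    have : μ.baseChange (ResidueField L) x ∈ Submodule.span (ResidueField L) (Set.range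
        (Sum.elim (fun j => (1 : ResidueField L) ⊗ₜ[L] μ (df j))
        (c.baseChange (ResidueField L) ∘ fun i => (1 : ResidueField L) ⊗ₜ[L] hh i))) :=
      hWsp ▸ Submodule.mem_top
    obtain ⟨cW, hcW⟩ := Finsupp.mem_span_range_iff_exists_finsupp.mp this
    refine ⟨cW, hμ ?_⟩
    rw [Finsupp.apply_linearCombination, hW, Finsupp.linearCombination_apply]
    exact hcW

end AL

end Groth.Agent.Lib.SmClH7
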