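import Mathlib
import Groth.Agent.Lib.SmClAlg1_helper7

/-!
# Algebra for S1479, part 2 (helper7): the local statement

Let `L` be a local ring, formally smooth over `R` with `Ω[L/R]` finite, and `J` a finitely
generated proper ideal with `L/J` formally smooth over `R`.  Given a family `φ` whose differentials
span `Ω[L/R]` and a family `ψ` generating `J`, there are finite subfamilies `φ ∘ a`, `ψ ∘ b`
such that `d(φ ∘ a), d(ψ ∘ b)` is a basis of `Ω[L/R]` and `ψ ∘ b` generates `J`.
-/

namespace Groth.Agent.Lib.SmClH7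

open KaehlerDifferential TensorProduct IsLocalRing

universe u

theorem local_core {R L : Type u} [CommRing R] [CommRing L] [Algebra R L] [IsLocalRing L]
    [Algebra.FormallySmooth R L] [Module.Finite L Ω[L⁄R]]
    (J : Ideal L) (hJ : J.FG) (hJm : J ≤ maximalIdeal L)
    [Algebra.FormallySmooth R (L ⧸ J)]
    {α β : Type u} (φ : α → L)
    (hφ : Submodule.span L (Set.range (fun a => D R L (φ a))) = ⊤)
    (ψ : β → L) (hψ : Ideal.span (Set.range ψ) = J) :
    ∃ (ι₁ ι₂ : Type u) (_ : Finite ι₁) (_ : Finite ι₂) (a : ι₁ → α) (b : ι₂ → β),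
      Function.Bijective (Finsupp.linearCombination L
        (Sum.elim (fun j => D R L (φ (a j))) (fun i => D R L (ψ (b i))))) ∧
      J = Ideal.span (Set.range (fun i => ψ (b i))) := by
  classical
  have hsurj : Function.Surjective (algebraMap L (L ⧸ J)) := Ideal.Quotient.mk_surjective
  have hker : RingHom.ker (algebraMap L (L ⧸ J)) = J := by
    rw [Ideal.Quotient.algebraMap_eq, Ideal.mk_ker]
  obtain ⟨l, hl⟩ := (Algebra.FormallySmooth.iff_split_injection (R := R) (P := L)
    (A := L ⧸ J) hsurj).mp inferInstance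
  -- the maps
  let c := kerCotangentToTensor R L (L ⧸ J)
  let p : (L ⧸ J) ⊗[L] Ω[L⁄R] →ₗ[L] Ω[(L ⧸ J)⁄R] :=
    (mapBaseChange R L (L ⧸ J)).restrictScalars L
  let μ : Ω[L⁄R] →ₗ[L] (L ⧸ J) ⊗[L] Ω[L⁄R] := TensorProduct.mk L (L ⧸ J) Ω[L⁄R] 1
  have hcp : Function.Exact c p := exact_kerCotangentToTensor_mapBaseChange R L (L ⧸ J) hsurj
  have hp : Function.Surjective p := mapBaseChange_surjective R L (L ⧸ J) hsurj
  have hpμ : ∀ ω, p (μ ω) = KaehlerDifferential.map R R L (L ⧸ J) ω := by
    intro ω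
    show mapBaseChange R L (L ⧸ J) ((1 : L ⧸ J) ⊗ₜ[L] ω) = _
    rw [mapBaseChange_tmul, one_smul]
  -- injectivity of `μ ⊗ k`
  have hres : ∀ x ∈ J, (Algebra.ofId L (ResidueField L)) x = 0 := by
    intro x hx
    show algebraMap L (ResidueField L) x = 0
    rw [IsLocalRing.ResidueField.algebraMap_eq, IsLocalRing.residue_eq_zero_iff]
    exact hJm hx
  let τ : (L ⧸ J) →ₗ[L] ResidueField L :=
    (Ideal.Quotient.liftₐ J (Algebra.ofId L (ResidueField L)) hres).toLinearMap
  have hτ : τ 1 = 1 := map_one (Ideal.Quotient.liftₐ J (Algebra.ofId L (ResidueField L)) hres)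
  let ν : (L ⧸ J) ⊗[L] Ω[L⁄R] →ₗ[L] ResidueField L ⊗[L] Ω[L⁄R] := τ.rTensor Ω[L⁄R]
  have hG : ∀ x, (ν.liftBaseChange (ResidueField L)) (μ.baseChange (ResidueField L) x) = x := by
    intro x
    induction x using TensorProduct.induction_on with
    | zero => simp
    | tmul a m =>
      rw [LinearMap.baseChange_tmul, LinearMap.liftBaseChange_tmul]
      show a • (τ.rTensor Ω[L⁄R]) ((1 : L ⧸ J) ⊗ₜ[L] m) = a ⊗ₜ[L] m
      rw [LinearMap.rTensor_tmul, hτ, TensorProduct.smul_tmul', smul_eq_mul, mul_one]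
    | add x y hx hy => rw [map_add, map_add, hx, hy]
  have hμ : Function.Injective (μ.baseChange (ResidueField L)) :=
    Function.LeftInverse.injective hG
  -- finiteness
  have hKfg : (RingHom.ker (algebraMap L (L ⧸ J))).FG := by
    rw [hker]
    exact hJ
  have : Module.Finite L (RingHom.ker (algebraMap L (L ⧸ J))) := Module.Finite.iff_fg.mpr hKfg
  have : Module.Finite L (RingHom.ker (algebraMap L (L ⧸ J))).Cotangent :=
    Module.Finite.of_surjective (Ideal.toCotangent _) (Ideal.toCotangent_surjective _)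
  have hpμsurj : Function.Surjective (p ∘ₗ μ) := by
    intro y
    obtain ⟨x, hx⟩ := map_surjective_of_surjective R R L (L ⧸ J) hsurj y
    exact ⟨x, by rw [LinearMap.comp_apply, hpμ, hx]⟩
  have : Module.Finite L Ω[(L ⧸ J)⁄R] := Module.Finite.of_surjective (p ∘ₗ μ) hpμsurj
  have : Module.Flat L Ω[L⁄R] := inferInstance
  -- spanning families
  have hψmem : ∀ i, ψ i ∈ RingHom.ker (algebraMap L (L ⧸ J)) := by
    intro i
    rw [hker, ← hψ]
    exact Ideal.subset_span ⟨i, rfl⟩
  let ψ' : β → RingHom.ker (algebraMap L (L ⧸ J)) := fun i => ⟨ψ i, hψmem i⟩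
  have hψ' : Submodule.span L (Set.range ψ') = ⊤ := by
    apply Submodule.map_injective_of_injective
      (RingHom.ker (algebraMap L (L ⧸ J))).injective_subtype
    rw [Submodule.map_span, Submodule.map_subtype_top, ← Set.range_comp]
    show Submodule.span L (Set.range ψ) = _
    rw [hker]
    exact hψ
  have hcot : Submodule.span L (Set.range
      (fun i => (RingHom.ker (algebraMap L (L ⧸ J))).toCotangent (ψ' i))) = ⊤ := by
    have := congrArg (Submodule.map (RingHom.ker (algebraMap L (L ⧸ J))).toCotangent) hψ'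
    rw [Submodule.map_span, Submodule.map_top,
      LinearMap.range_eq_top.mpr (Ideal.toCotangent_surjective _), ← Set.range_comp] at this
    exact this
  have s₂ := span_one_tmul_eq_top (ResidueField L) _ hcot
  have hN : Submodule.span L (Set.range (fun x => p (μ (D R L (φ x))))) = ⊤ := by
    have := congrArg (Submodule.map (p ∘ₗ μ)) hφ
    rw [Submodule.map_span, Submodule.map_top, LinearMap.range_eq_top.mpr hpμsurj,
      ← Set.range_comp] at this
    exact this
  have s₁ := span_one_tmul_eq_top (ResidueField L) _ hN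
  obtain ⟨ι₁, a, -, hsp₁, hli₁⟩ := exists_linearIndependent' (ResidueField L)
    (fun x : α => (1 : ResidueField L) ⊗ₜ[L] p (μ (D R L (φ x))))
  obtain ⟨ι₂, b, -, hsp₂, hli₂⟩ := exists_linearIndependent' (ResidueField L)
    (fun i : β => (1 : ResidueField L) ⊗ₜ[L]
      (RingHom.ker (algebraMap L (L ⧸ J))).toCotangent (ψ' i))
  have hfin₁ : Finite ι₁ :=
    Module.Finite.finite_basis (Module.Basis.mk hli₁ (by rw [hsp₁, s₁]))
  have hfin₂ : Finite ι₂ :=
    Module.Finite.finite_basis (Module.Basis.mk hli₂ (by rw [hsp₂, s₂]))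
  refine ⟨ι₁, ι₂, hfin₁, hfin₂, a, b, ?_, ?_⟩
  · exact bijective_of_residue μ hμ c p l hl hcp hp
      (fun j => D R L (φ (a j))) (fun i => D R L (ψ (b i)))
      (fun i => (RingHom.ker (algebraMap L (L ⧸ J))).toCotangent (ψ' (b i)))
      (fun i => rfl) hli₁ (hsp₁.trans s₁) hli₂ (hsp₂.trans s₂)
  · -- Nakayama
    have hspan : Submodule.span L (Set.range
        (fun i => (RingHom.ker (algebraMap L (L ⧸ J))).toCotangent (ψ' (b i)))) = ⊤ :=
      IsLocalRing.span_eq_top_of_tmul_eq_basis _ (Module.Basis.mk hli₂ (by rw [hsp₂, s₂]))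
        (fun i => by rw [Module.Basis.mk_apply]; rfl)
    have hH'J : Ideal.span (Set.range (fun i => ψ (b i))) ≤ J := by
      rw [Ideal.span_le]
      rintro _ ⟨i, rfl⟩
      exact hker ▸ hψmem (b i)
    have hJle : J ≤ Ideal.span (Set.range (fun i => ψ (b i))) ⊔ J • J := by
      intro x hx
      have hxK : x ∈ RingHom.ker (algebraMap L (L ⧸ J)) := hker.symm ▸ hx
      have hmem : (RingHom.ker (algebraMap L (L ⧸ J))).toCotangent ⟨x, hxK⟩ ∈
          Submodule.span L (Set.range
            (fun i => (RingHom.ker (algebraMap L (L ⧸ J))).toCotangent (ψ' (b i)))) :=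
        hspan ▸ Submodule.mem_top
      obtain ⟨cf, hcf⟩ := Finsupp.mem_span_range_iff_exists_finsupp.mp hmem
      have hy : (RingHom.ker (algebraMap L (L ⧸ J))).toCotangent
          (cf.sum fun i r => r • ψ' (b i)) =
          (RingHom.ker (algebraMap L (L ⧸ J))).toCotangent ⟨x, hxK⟩ := by
        rw [← hcf, map_finsuppSum]
        simp only [map_smul]
      have hsq := (Ideal.toCotangent_eq _).mp hy.symm
      have hyval : ((cf.sum fun i r => r • ψ' (b i) :
          RingHom.ker (algebraMap L (L ⧸ J))) : L) = cf.sum fun i r => r • ψ (b i) := by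
        rw [← Submodule.subtype_apply, map_finsuppSum]
        simp only [map_smul, Submodule.subtype_apply, ψ']
      have h2 : RingHom.ker (algebraMap L (L ⧸ J)) ^ 2 = J ^ 2 := by rw [hker]
      rw [hyval, h2] at hsq
      have hyH : (cf.sum fun i r => r • ψ (b i)) ∈
          Ideal.span (Set.range (fun i => ψ (b i))) := by
        refine Submodule.sum_mem _ fun i _ => ?_
        exact Ideal.mul_mem_left _ _ (Ideal.subset_span ⟨i, rfl⟩)
      refine Submodule.mem_sup.mpr ⟨_, hyH, x - cf.sum fun i r => r • ψ (b i), ?_, by ring⟩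
      rw [smul_eq_mul, ← pow_two]
      exact hsq
    have hJH := Submodule.le_of_le_smul_of_le_jacobson_bot hJ
      (by rw [IsLocalRing.jacobson_eq_maximalIdeal ⊥ bot_ne_top]; exact hJm) hJle
    exact le_antisymm hJH hH'J

end Groth.Agent.Lib.SmClH7
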