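import Mathlib
import Groth.Agent.Lib.SmClAlg2_helper7

/-!
# Algebra for S1479, part 3 (helper7): spreading out

`exists_etale_chart`: for `A` smooth over `R`, `I` an ideal with `A/I` smooth over `R` and a prime
`q ⊇ I`, there are `g ∉ q`, `f : Fin m → A`, `h : Fin n → I` such that over any localization
`A'` of `A` away from `g` the map `R[X,Z] → A'`, `(X,Z) ↦ (f,h)` is étale and `I A' = (h)`.
-/

namespace Groth.Agent.Lib.SmClH7

open KaehlerDifferential TensorProduct IsLocalRing

universe u

set_option maxHeartbeats 1600000 in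
theorem global_core {R A : Type u} [CommRing R] [CommRing A] [Algebra R A] [Algebra.Smooth R A]
    (I : Ideal A) [Algebra.Smooth R (A ⧸ I)] (q : Ideal A) [q.IsPrime] (hIq : I ≤ q) :
    ∃ (ι₁ ι₂ : Type u) (_ : Finite ι₁) (_ : Finite ι₂) (f : ι₁ → A) (h : ι₂ → A) (g : A),
      (∀ i, h i ∈ I) ∧ g ∉ q ∧
      ∀ (A' : Type u) [CommRing A'] [Algebra A A'] [Algebra R A'] [IsScalarTower R A A']
        [IsLocalization.Away g A'],
        (∃ b : Module.Basis (ι₁ ⊕ ι₂) A' Ω[A'⁄R],
          ∀ i, b i = D R A' (algebraMap A A' (Sum.elim f h i))) ∧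
        I.map (algebraMap A A') = Ideal.span (Set.range (fun i => algebraMap A A' (h i))) := by
  classical
  have hsmA : Algebra.FormallySmooth A (Localization.AtPrime q) :=
    Algebra.FormallySmooth.of_isLocalization q.primeCompl
  have hsmL : Algebra.FormallySmooth R (Localization.AtPrime q) :=
    Algebra.FormallySmooth.comp R A (Localization.AtPrime q)
  have hfinL : Module.Finite (Localization.AtPrime q) Ω[Localization.AtPrime q⁄R] :=
    Module.Finite.of_isLocalizedModule q.primeCompl
      (KaehlerDifferential.map R R A (Localization.AtPrime q))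
  have hI : I.FG := by
    have := Algebra.FinitePresentation.ker_fG_of_surjective (Ideal.Quotient.mkₐ R I)
      (Ideal.Quotient.mkₐ_surjective R I)
    simpa using this
  have hJ : (I.map (algebraMap A (Localization.AtPrime q))).FG := hI.map _
  have hJm : I.map (algebraMap A (Localization.AtPrime q)) ≤
      maximalIdeal (Localization.AtPrime q) := by
    rw [Ideal.map_le_iff_le_comap]
    change I ≤ (maximalIdeal (Localization.AtPrime q)).under A
    rw [IsLocalization.AtPrime.under_maximalIdeal (Localization.AtPrime q) q]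
    exact hIq
  have hsmLJ : Algebra.FormallySmooth R
      (Localization.AtPrime q ⧸ I.map (algebraMap A (Localization.AtPrime q))) := by
    have h1 : Algebra.FormallySmooth (A ⧸ I) ((A ⧸ I) ⊗[A] Localization.AtPrime q) :=
      inferInstance
    have h2 : Algebra.FormallySmooth (A ⧸ I)
        (Localization.AtPrime q ⧸ I.map (algebraMap A (Localization.AtPrime q))) :=
      Algebra.FormallySmooth.of_equiv
        (Algebra.TensorProduct.quotIdealMapEquivQuotTensor (Localization.AtPrime q) I).symm
    have hst : IsScalarTower R (A ⧸ I)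
        (Localization.AtPrime q ⧸ I.map (algebraMap A (Localization.AtPrime q))) := by
      refine IsScalarTower.of_algebraMap_eq fun r => ?_
      rw [IsScalarTower.algebraMap_apply R A (A ⧸ I), ← IsScalarTower.algebraMap_apply A (A ⧸ I),
        ← IsScalarTower.algebraMap_apply R A]
    exact Algebra.FormallySmooth.comp R (A ⧸ I) _
  have hφ : Submodule.span (Localization.AtPrime q) (Set.range
      (fun a : A => D R (Localization.AtPrime q) (algebraMap A (Localization.AtPrime q) a))) =
      ⊤ := by
    have := KaehlerDifferential.span_range_map_derivation_of_isLocalization R A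
      (Localization.AtPrime q) q.primeCompl
    rw [← this]
    congr 2
    funext x
    exact (map_D R R A (Localization.AtPrime q) x).symm
  have hψ : Ideal.span (Set.range
      (fun x : I => algebraMap A (Localization.AtPrime q) (x : A))) =
      I.map (algebraMap A (Localization.AtPrime q)) := by
    have : Set.range (fun x : I => algebraMap A (Localization.AtPrime q) (x : A)) =
        algebraMap A (Localization.AtPrime q) '' (I : Set A) := by
      ext y
      simp
    rw [this]
    rfl
  obtain ⟨ι₁, ι₂, hι₁, hι₂, a, b, hbij, hJeq⟩ := local_core (R := R)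
    (I.map (algebraMap A (Localization.AtPrime q))) hJ hJm
    (fun x : A => algebraMap A (Localization.AtPrime q) x) hφ
    (fun x : I => algebraMap A (Localization.AtPrime q) (x : A)) hψ
  -- spreading out bijectivity
  let e : ((ι₁ ⊕ ι₂) →₀ A) →ₗ[A] Ω[A⁄R] :=
    Finsupp.linearCombination A fun i => D R A (Sum.elim a (fun i => (b i : A)) i)
  let l₁ : ((ι₁ ⊕ ι₂) →₀ A) →ₗ[A] ((ι₁ ⊕ ι₂) →₀ Localization.AtPrime q) :=
    Finsupp.mapRange.linearMap (Algebra.linearMap A (Localization.AtPrime q))
  let l₂ : Ω[A⁄R] →ₗ[A] Ω[Localization.AtPrime q⁄R] := map R R A (Localization.AtPrime q)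
  let eₚ : ((ι₁ ⊕ ι₂) →₀ Localization.AtPrime q) →ₗ[Localization.AtPrime q]
      Ω[Localization.AtPrime q⁄R] :=
    IsLocalizedModule.mapExtendScalars q.primeCompl l₁ l₂ (Localization.AtPrime q) e
  have heₚ_eq : eₚ = Finsupp.linearCombination (Localization.AtPrime q)
      (Sum.elim (fun j => D R (Localization.AtPrime q) (algebraMap A (Localization.AtPrime q) (a j)))
        (fun i => D R (Localization.AtPrime q)
          (algebraMap A (Localization.AtPrime q) ((b i : I) : A)))) := by
    ext i
    trans IsLocalizedModule.map q.primeCompl l₁ l₂ e <| l₁ <| Finsupp.single i 1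
    · simp [eₚ, -IsLocalizedModule.map_apply, l₁]
    · rcases i with j | i <;> simp [l₂, e]
  have heₚ : Function.Bijective eₚ := heₚ_eq ▸ hbij
  obtain ⟨r₁, hr₁, H₁⟩ := exists_bijective_map_powers q.primeCompl l₁ l₂ e heₚ
  -- spreading out the ideal
  have hloc : ∀ x : A, ∃ s ∈ q.primeCompl,
      x ∈ I → s * x ∈ Ideal.span (Set.range fun i => ((b i : I) : A)) := by
    intro x
    by_cases hx : x ∈ I
    · have hxJ : algebraMap A (Localization.AtPrime q) x ∈
          I.map (algebraMap A (Localization.AtPrime q)) := Ideal.mem_map_of_mem _ hx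
      rw [hJeq] at hxJ
      have hmap : Ideal.span (Set.range
          fun i => algebraMap A (Localization.AtPrime q) ((b i : I) : A)) =
          (Ideal.span (Set.range fun i => ((b i : I) : A))).map
            (algebraMap A (Localization.AtPrime q)) := by
        rw [Ideal.map_span, ← Set.range_comp]
        rfl
      rw [hmap] at hxJ
      obtain ⟨s, hs, h⟩ := (IsLocalization.algebraMap_mem_map_algebraMap_iff q.primeCompl
        (Localization.AtPrime q) _ _).mp hxJ
      exact ⟨s, hs, fun _ => h⟩
    · exact ⟨1, Submonoid.one_mem _, fun h => (hx h).elim⟩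
  choose s hs1 hs2 using hloc
  obtain ⟨T, hT⟩ := hI
  have hr₂ : (∏ x ∈ T, s x) ∈ q.primeCompl := Submonoid.prod_mem _ fun x _ => hs1 x
  have hr₂I : ∀ x ∈ I, (∏ x ∈ T, s x) * x ∈
      Ideal.span (Set.range fun i => ((b i : I) : A)) := by
    intro x hx
    rw [← hT] at hx
    induction hx using Submodule.span_induction with
    | mem x hx =>
      obtain ⟨c, hc⟩ := Finset.dvd_prod_of_mem s hx
      have hxI : x ∈ I := hT ▸ Ideal.subset_span hx
      have : (∏ x ∈ T, s x) * x = c * (s x * x) := by
        rw [hc]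
        ring
      rw [this]
      exact Ideal.mul_mem_left _ c (hs2 x hxI)
    | zero => simp
    | add x y _ _ hx hy =>
      rw [mul_add]
      exact Ideal.add_mem _ hx hy
    | smul c x _ hx =>
      rw [smul_eq_mul, mul_left_comm]
      exact Ideal.mul_mem_left _ c hx
  refine ⟨ι₁, ι₂, hι₁, hι₂, a, fun i => ((b i : I) : A), r₁ * ∏ x ∈ T, s x,
    fun i => (b i).2, q.primeCompl.mul_mem hr₁ hr₂, ?_⟩
  intro A' _ _ _ _ _
  constructor
  · have h := H₁ (r₁ * ∏ x ∈ T, s x) (Dvd.intro _ rfl)
    let l₁ₜ : ((ι₁ ⊕ ι₂) →₀ A) →ₗ[A] ((ι₁ ⊕ ι₂) →₀ A') :=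
      Finsupp.mapRange.linearMap (Algebra.linearMap A A')
    let l₂ₜ : Ω[A⁄R] →ₗ[A] Ω[A'⁄R] := map R R A A'
    rw [← IsLocalizedModule.map_bijective_iff_localizedModuleMap_bijective l₁ₜ l₂ₜ] at h
    let eₜ' : ((ι₁ ⊕ ι₂) →₀ A') →ₗ[A'] Ω[A'⁄R] :=
      IsLocalizedModule.mapExtendScalars (Submonoid.powers (r₁ * ∏ x ∈ T, s x)) l₁ₜ l₂ₜ A' e
    refine ⟨.ofRepr (LinearEquiv.ofBijective eₜ' h).symm, ?_⟩
    intro i
    rcases i with j | i <;>
      simp +zetaDelta [IsLocalizedModule.map_linearCombination]
  · apply le_antisymm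
    · rw [Ideal.map_le_iff_le_comap]
      intro x hx
      rw [Ideal.mem_comap]
      have h1 := hr₂I x hx
      have h2 : algebraMap A A' ((∏ x ∈ T, s x) * x) ∈
          Ideal.span (Set.range fun i => algebraMap A A' ((b i : I) : A)) := by
        have hmap : Ideal.span (Set.range fun i => algebraMap A A' ((b i : I) : A)) =
            (Ideal.span (Set.range fun i => ((b i : I) : A))).map (algebraMap A A') := by
          rw [Ideal.map_span, ← Set.range_comp]
          rfl
        rw [hmap]
        exact Ideal.mem_map_of_mem _ h1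
      rw [map_mul] at h2
      have hu : IsUnit (algebraMap A A' (∏ x ∈ T, s x)) :=
        isUnit_of_dvd_unit (map_dvd (algebraMap A A') (Dvd.intro_left r₁ rfl))
          (IsLocalization.Away.algebraMap_isUnit (r₁ * ∏ x ∈ T, s x))
      exact (Ideal.unit_mul_mem_iff_mem _ hu).mp h2
    · rw [Ideal.span_le]
      rintro _ ⟨i, rfl⟩
      exact Ideal.mem_map_of_mem _ (b i).2

theorem exists_etale_chart {R A : Type u} [CommRing R] [CommRing A] [Algebra R A]
    [Algebra.Smooth R A] (I : Ideal A) [Algebra.Smooth R (A ⧸ I)] (q : Ideal A) [q.IsPrime]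
    (hIq : I ≤ q) :
    ∃ (m n : ℕ) (f : Fin m → A) (h : Fin n → A) (g : A), (∀ k, h k ∈ I) ∧ g ∉ q ∧
      ∀ (A' : Type u) [CommRing A'] [Algebra A A'] [Algebra R A'] [IsScalarTower R A A']
        [IsLocalization.Away g A'],
        (MvPolynomial.aeval (R := R) (fun j : ULift.{u} (Fin m ⊕ Fin n) =>
          algebraMap A A' (Sum.elim f h j.down))).toRingHom.Etale ∧
        I.map (algebraMap A A') = Ideal.span (Set.range (fun k => algebraMap A A' (h k))) := by
  obtain ⟨ι₁, ι₂, _, _, f, h, g, hhI, hg, H⟩ := global_core (R := R) I q hIq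
  refine ⟨Nat.card ι₁, Nat.card ι₂, f ∘ (Finite.equivFin ι₁).symm,
    h ∘ (Finite.equivFin ι₂).symm, g, fun k => hhI _, hg, ?_⟩
  intro A' _ _ _ _ _
  obtain ⟨⟨b, hb⟩, hI⟩ := H A'
  have hsm : Algebra.Smooth R A' := by
    have : Algebra.Smooth A A' := Algebra.Smooth.of_isLocalization_Away g
    exact Algebra.Smooth.comp R A A'
  constructor
  · let σ : ι₁ ⊕ ι₂ ≃ ULift.{u} (Fin (Nat.card ι₁) ⊕ Fin (Nat.card ι₂)) :=
      (Equiv.sumCongr (Finite.equivFin ι₁) (Finite.equivFin ι₂)).trans Equiv.ulift.symm
    apply etale_of_basis _ (b.reindex σ)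
    intro j
    rw [Module.Basis.reindex_apply, hb]
    congr 2
    obtain ⟨j | j⟩ := j <;> simp [σ]
  · rw [hI]
    congr 1
    ext x
    constructor
    · rintro ⟨i, rfl⟩
      exact ⟨Finite.equivFin ι₂ i, by simp⟩
    · rintro ⟨k, rfl⟩
      exact ⟨(Finite.equivFin ι₂).symm k, rfl⟩

end Groth.Agent.Lib.SmClH7
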