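import Mathlib
import Groth.Agent.Lib.SmClAlg3_helper7
import Groth.Agent.Lib.AffSpEt_helper7

/-!
# Geometry for S1479 (helper7)

A closed immersion of smooth `S`-schemes is, Zariski locally on the target and étale locally
over affine space, a linear coordinate subspace.
-/

namespace Groth.Agent.Lib.SmClH7

open AlgebraicGeometry CategoryTheory Limits

universe u

/-- Étaleness of a chart to affine space over a non-affine base can be checked on rings. -/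
theorem etale_chart {S X : Scheme.{u}} (pX : X ⟶ S) {n : Type u} [Finite n]
    (W : S.Opens) (hW : IsAffineOpen W) (U : X.Opens) (hU : IsAffineOpen U) (e : U ≤ pX ⁻¹ᵁ W)
    (v : n → Γ(↑U, ⊤))
    (h : (MvPolynomial.eval₂Hom (pX.resLE W U e).appTop.hom v :
      MvPolynomial n Γ(↑W, ⊤) →+* Γ(↑U, ⊤)).Etale) :
    Etale (AffineSpace.homOfVector (U.ι ≫ pX) v) := by
  have : IsAffine ↑U := hU
  have : IsAffine ↑W := hW
  have h1 : Etale (AffineSpace.homOfVector (pX.resLE W U e) v) :=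
    AffSpEtH7.etale_homOfVector _ _ h
  have h2 : AffineSpace.homOfVector (U.ι ≫ pX) v =
      AffineSpace.homOfVector (pX.resLE W U e) v ≫ AffineSpace.map n W.ι := by
    apply AffineSpace.hom_ext
    · rw [AffineSpace.homOfVector_over, Category.assoc, AffineSpace.map_over,
        AffineSpace.homOfVector_over_assoc, Scheme.Hom.resLE_comp_ι]
    · intro j
      rw [AffineSpace.homOfVector_appTop_coord, Scheme.Hom.comp_appTop, CommRingCat.comp_apply,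
        AffineSpace.map_appTop_coord, AffineSpace.homOfVector_appTop_coord]
  have hopen : IsOpenImmersion (AffineSpace.map n W.ι) :=
    MorphismProperty.of_isPullback (P := @IsOpenImmersion)
      (AffineSpace.isPullback_map W.ι).flip inferInstance
  rw [h2]
  infer_instance

/-- The pullback square, from the description of the kernel. -/
theorem isPullback_of_ker {S X Y : Scheme.{u}} (pX : X ⟶ S) (pY : Y ⟶ S) (i : Y ⟶ X)
    [IsClosedImmersion i] (w : i ≫ pX = pY)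
    (U : X.Opens) (hU : IsAffineOpen U) (m n : ℕ) (v : ULift.{u} (Fin m ⊕ Fin n) → Γ(↑U, ⊤))
    (hK : RingHom.ker (i ∣_ U).appTop.hom =
      Ideal.span (Set.range (fun k : Fin n => v ⟨Sum.inr k⟩))) :
    IsPullback
      (AffineSpace.homOfVector ((i ⁻¹ᵁ U).ι ≫ pY)
        (fun j : ULift.{u} (Fin m) => (i ∣_ U).appTop (v ⟨Sum.inl j.down⟩)))
      (i ∣_ U)
      (AffineSpace.homOfVector (𝔸(ULift.{u} (Fin m); S) ↘ S)
        (fun j : ULift.{u} (Fin m ⊕ Fin n) =>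
          Sum.elim (fun a => AffineSpace.coord S (ULift.up a)) (fun _ => 0) j.down))
      (AffineSpace.homOfVector (U.ι ≫ pX) v) := by
  have : IsAffine ↑U := hU
  have hρo : AffineSpace.homOfVector ((i ⁻¹ᵁ U).ι ≫ pY)
      (fun j : ULift.{u} (Fin m) => (i ∣_ U).appTop (v ⟨Sum.inl j.down⟩)) ≫
      (𝔸(ULift.{u} (Fin m); S) ↘ S) = (i ⁻¹ᵁ U).ι ≫ pY := AffineSpace.homOfVector_over _ _
  have hπo : AffineSpace.homOfVector (U.ι ≫ pX) v ≫ (𝔸(ULift.{u} (Fin m ⊕ Fin n); S) ↘ S) =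
      U.ι ≫ pX := AffineSpace.homOfVector_over _ _
  have hlino : AffineSpace.homOfVector (𝔸(ULift.{u} (Fin m); S) ↘ S)
        (fun j : ULift.{u} (Fin m ⊕ Fin n) =>
          Sum.elim (fun a => AffineSpace.coord S (ULift.up a)) (fun _ => 0) j.down) ≫
      (𝔸(ULift.{u} (Fin m ⊕ Fin n); S) ↘ S) = 𝔸(ULift.{u} (Fin m); S) ↘ S :=
    AffineSpace.homOfVector_over _ _
  have hπc : ∀ j, (AffineSpace.homOfVector (U.ι ≫ pX) v).appTop (AffineSpace.coord S j) = v j :=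
    fun j => AffineSpace.homOfVector_appTop_coord _ _ j
  have hρc : ∀ j, (AffineSpace.homOfVector ((i ⁻¹ᵁ U).ι ≫ pY)
      (fun j : ULift.{u} (Fin m) => (i ∣_ U).appTop (v ⟨Sum.inl j.down⟩))).appTop
      (AffineSpace.coord S j) = (i ∣_ U).appTop (v ⟨Sum.inl j.down⟩) :=
    fun j => AffineSpace.homOfVector_appTop_coord _ _ j
  have hlinc : ∀ j, (AffineSpace.homOfVector (𝔸(ULift.{u} (Fin m); S) ↘ S)
        (fun j : ULift.{u} (Fin m ⊕ Fin n) =>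
          Sum.elim (fun a => AffineSpace.coord S (ULift.up a)) (fun _ => 0) j.down)).appTop
      (AffineSpace.coord S j) =
      Sum.elim (fun a => AffineSpace.coord S (ULift.up a)) (fun _ => 0) j.down :=
    fun j => AffineSpace.homOfVector_appTop_coord _ _ j
  have hvK : ∀ k : Fin n, (i ∣_ U).appTop (v ⟨Sum.inr k⟩) = 0 := by
    intro k
    have : v ⟨Sum.inr k⟩ ∈ RingHom.ker (i ∣_ U).appTop.hom := by
      rw [hK]
      exact Ideal.subset_span ⟨k, rfl⟩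
    exact this
  -- the square commutes
  have hw : AffineSpace.homOfVector ((i ⁻¹ᵁ U).ι ≫ pY)
        (fun j : ULift.{u} (Fin m) => (i ∣_ U).appTop (v ⟨Sum.inl j.down⟩)) ≫
      AffineSpace.homOfVector (𝔸(ULift.{u} (Fin m); S) ↘ S)
        (fun j : ULift.{u} (Fin m ⊕ Fin n) =>
          Sum.elim (fun a => AffineSpace.coord S (ULift.up a)) (fun _ => 0) j.down) =
      (i ∣_ U) ≫ AffineSpace.homOfVector (U.ι ≫ pX) v := by
    apply AffineSpace.hom_ext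
    · rw [Category.assoc, hlino, hρo, Category.assoc, hπo, morphismRestrict_ι_assoc, w]
    · intro j
      rw [Scheme.Hom.comp_appTop, CommRingCat.comp_apply, hlinc, Scheme.Hom.comp_appTop,
        CommRingCat.comp_apply, hπc]
      obtain ⟨j | k⟩ := j
      · simp only [Sum.elim_inl]
        rw [hρc]
      · simp only [Sum.elim_inr]
        rw [map_zero, hvK]
  -- the linear embedding is a split monomorphism
  have hr : AffineSpace.homOfVector (𝔸(ULift.{u} (Fin m); S) ↘ S)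
        (fun j : ULift.{u} (Fin m ⊕ Fin n) =>
          Sum.elim (fun a => AffineSpace.coord S (ULift.up a)) (fun _ => 0) j.down) ≫
      AffineSpace.homOfVector (𝔸(ULift.{u} (Fin m ⊕ Fin n); S) ↘ S)
        (fun j : ULift.{u} (Fin m) => AffineSpace.coord S (ULift.up (Sum.inl j.down))) =
      𝟙 _ := by
    apply AffineSpace.hom_ext
    · rw [Category.assoc, AffineSpace.homOfVector_over, hlino, Category.id_comp]
    · intro j
      rw [Scheme.Hom.comp_appTop, CommRingCat.comp_apply, AffineSpace.homOfVector_appTop_coord,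
        hlinc, Scheme.Hom.id_appTop, CommRingCat.id_apply]
      rfl
  have hmono : Mono (AffineSpace.homOfVector (𝔸(ULift.{u} (Fin m); S) ↘ S)
        (fun j : ULift.{u} (Fin m ⊕ Fin n) =>
          Sum.elim (fun a => AffineSpace.coord S (ULift.up a)) (fun _ => 0) j.down)) :=
    mono_of_mono_fac hr
  -- the lifting criterion
  have key : ∀ (T : Scheme.{u}) (a : T ⟶ 𝔸(ULift.{u} (Fin m); S)) (b : T ⟶ ↑U),
      a ≫ AffineSpace.homOfVector (𝔸(ULift.{u} (Fin m); S) ↘ S)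
        (fun j : ULift.{u} (Fin m ⊕ Fin n) =>
          Sum.elim (fun a => AffineSpace.coord S (ULift.up a)) (fun _ => 0) j.down) =
      b ≫ AffineSpace.homOfVector (U.ι ≫ pX) v → (i ∣_ U).ker ≤ b.ker := by
    intro T a b hab
    have hle : RingHom.ker (i ∣_ U).appTop.hom ≤ RingHom.ker b.appTop.hom := by
      rw [hK, Ideal.span_le]
      rintro _ ⟨k, rfl⟩
      have h := congrArg (fun f => (Scheme.Hom.appTop f)
        (AffineSpace.coord S (ULift.up (Sum.inr k)))) hab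
      simp only [Scheme.Hom.comp_appTop, CommRingCat.comp_apply, hlinc, hπc, Sum.elim_inr,
        map_zero] at h
      exact h.symm
    rw [Scheme.ker_of_isAffine, Scheme.ker_of_isAffine b,
      ← Scheme.IdealSheafData.equivOfIsAffine_symm_apply,
      ← Scheme.IdealSheafData.equivOfIsAffine_symm_apply, map_le_map_iff]
    exact hle
  refine ⟨⟨hw⟩, ⟨PullbackCone.IsLimit.mk hw
    (fun s => IsClosedImmersion.lift (i ∣_ U) s.snd (key _ s.fst s.snd s.condition))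
    (fun s => ?_) (fun s => IsClosedImmersion.lift_fac _ _ _) (fun s l _ h2 => ?_)⟩⟩
  · rw [← cancel_mono (AffineSpace.homOfVector (𝔸(ULift.{u} (Fin m); S) ↘ S)
        (fun j : ULift.{u} (Fin m ⊕ Fin n) =>
          Sum.elim (fun a => AffineSpace.coord S (ULift.up a)) (fun _ => 0) j.down)),
      Category.assoc, hw, ← Category.assoc, IsClosedImmersion.lift_fac, s.condition]
  · rw [← cancel_mono (i ∣_ U), IsClosedImmersion.lift_fac]
    exact h2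

set_option maxHeartbeats 1600000 in
/-- The affine-local statement. -/
theorem exists_local_chart {S X Y : Scheme.{u}} (pX : X ⟶ S) [Smooth pX]
    (i : Y ⟶ X) [IsClosedImmersion i] [Smooth (i ≫ pX)] (y : Y)
    (W : S.Opens) (hW : IsAffineOpen W) (U₀ : X.Opens) (hU₀ : IsAffineOpen U₀)
    (hU₀W : U₀ ≤ pX ⁻¹ᵁ W) (hy : i y ∈ U₀) :
    ∃ (g : Γ(X, U₀)) (m n : ℕ) (v : ULift.{u} (Fin m ⊕ Fin n) → Γ(↑(X.basicOpen g), ⊤)),
      i y ∈ X.basicOpen g ∧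
      (MvPolynomial.eval₂Hom
        (pX.resLE W (X.basicOpen g) ((X.basicOpen_le g).trans hU₀W)).appTop.hom v).Etale ∧
      RingHom.ker (i ∣_ X.basicOpen g).appTop.hom =
        Ideal.span (Set.range (fun k : Fin n => v ⟨Sum.inr k⟩)) := by
  have hW' : IsAffineOpen (W.ι ''ᵁ ⊤) := by
    rw [Scheme.Opens.ι_image_top]
    exact hW
  have e₀ : U₀ ≤ pX ⁻¹ᵁ (W.ι ''ᵁ ⊤) := by
    rw [Scheme.Opens.ι_image_top]
    exact hU₀W
  have hV₀ : IsAffineOpen (i ⁻¹ᵁ U₀) := hU₀.preimage i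
  have e₁ : i ⁻¹ᵁ U₀ ≤ (i ≫ pX) ⁻¹ᵁ (W.ι ''ᵁ ⊤) := fun z hz => e₀ hz
  have hcomp : pX.appLE (W.ι ''ᵁ ⊤) U₀ e₀ ≫ i.app U₀ =
      (i ≫ pX).appLE (W.ι ''ᵁ ⊤) (i ⁻¹ᵁ U₀) e₁ := by
    rw [Scheme.Hom.app_eq_appLE, Scheme.Hom.appLE_comp_appLE]
  -- algebra structures
  let algRA : Algebra Γ(S, W.ι ''ᵁ ⊤) Γ(X, U₀) := (pX.appLE (W.ι ''ᵁ ⊤) U₀ e₀).hom.toAlgebra
  let algRB : Algebra Γ(S, W.ι ''ᵁ ⊤) Γ(Y, i ⁻¹ᵁ U₀) :=
    ((i ≫ pX).appLE (W.ι ''ᵁ ⊤) (i ⁻¹ᵁ U₀) e₁).hom.toAlgebra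
  have hsmA : Algebra.Smooth Γ(S, W.ι ''ᵁ ⊤) Γ(X, U₀) :=
    HasRingHomProperty.appLE (P := @Smooth) pX inferInstance ⟨_, hW'⟩ ⟨_, hU₀⟩ e₀
  have hsmB : Algebra.Smooth Γ(S, W.ι ''ᵁ ⊤) Γ(Y, i ⁻¹ᵁ U₀) :=
    HasRingHomProperty.appLE (P := @Smooth) (i ≫ pX) inferInstance ⟨_, hW'⟩ ⟨_, hV₀⟩ e₁
  let ψₐ : Γ(X, U₀) →ₐ[Γ(S, W.ι ''ᵁ ⊤)] Γ(Y, i ⁻¹ᵁ U₀) :=
    { (i.app U₀).hom with
      commutes' := fun r => by
        show (i.app U₀).hom ((pX.appLE (W.ι ''ᵁ ⊤) U₀ e₀).hom r) =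
          ((i ≫ pX).appLE (W.ι ''ᵁ ⊤) (i ⁻¹ᵁ U₀) e₁).hom r
        rw [← hcomp]
        rfl }
  have hψsurj : Function.Surjective ψₐ := i.app_surjective U₀ hU₀
  have hsmAI : Algebra.Smooth Γ(S, W.ι ''ᵁ ⊤) (Γ(X, U₀) ⧸ RingHom.ker ψₐ) :=
    Algebra.Smooth.of_equiv (Ideal.quotientKerAlgEquivOfSurjective hψsurj).symm
  have hqprime : (hU₀.primeIdealOf ⟨i y, hy⟩).asIdeal.IsPrime := (hU₀.primeIdealOf _).isPrime
  have hIq : RingHom.ker ψₐ ≤ (hU₀.primeIdealOf ⟨i y, hy⟩).asIdeal := by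
    have hq := IsAffineOpen.comap_primeIdealOf_appLE (f := i) (x := y) U₀ hU₀ (i ⁻¹ᵁ U₀) hV₀
      le_rfl hy
    intro a ha
    rw [← hq]
    show (i.appLE U₀ (i ⁻¹ᵁ U₀) le_rfl).hom a ∈ (hV₀.primeIdealOf ⟨y, hy⟩).asIdeal
    rw [Scheme.Hom.appLE_eq_app]
    have : (i.app U₀).hom a = 0 := ha
    rw [this]
    exact Ideal.zero_mem _
  obtain ⟨m, n, f, h, g, hhI, hg, H⟩ := exists_etale_chart (R := Γ(S, W.ι ''ᵁ ⊤))
    (RingHom.ker ψₐ) (hU₀.primeIdealOf ⟨i y, hy⟩).asIdeal hIq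
  have hyU : i y ∈ X.basicOpen g := by
    have h1 : hU₀.fromSpec (hU₀.primeIdealOf ⟨i y, hy⟩) = i y :=
      hU₀.fromSpec_primeIdealOf ⟨i y, hy⟩
    have h2 : hU₀.primeIdealOf ⟨i y, hy⟩ ∈ hU₀.fromSpec ⁻¹ᵁ X.basicOpen g := by
      rw [hU₀.fromSpec_preimage_basicOpen]
      exact hg
    rw [← h1]
    exact h2
  have hle : (X.basicOpen g).ι ''ᵁ ⊤ ≤ U₀ := by
    rw [Scheme.Opens.ι_image_top]
    exact X.basicOpen_le g
  let algAA' : Algebra Γ(X, U₀) Γ(X, (X.basicOpen g).ι ''ᵁ ⊤) :=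
    (X.presheaf.map (homOfLE hle).op).hom.toAlgebra
  have hloc : IsLocalization.Away g Γ(X, (X.basicOpen g).ι ''ᵁ ⊤) :=
    hU₀.isLocalization_of_eq_basicOpen g (homOfLE hle) (Scheme.Opens.ι_image_top _)
  let algRA' : Algebra Γ(S, W.ι ''ᵁ ⊤) Γ(X, (X.basicOpen g).ι ''ᵁ ⊤) :=
    ((algebraMap Γ(X, U₀) Γ(X, (X.basicOpen g).ι ''ᵁ ⊤)).comp
      (algebraMap Γ(S, W.ι ''ᵁ ⊤) Γ(X, U₀))).toAlgebra
  have hst : IsScalarTower Γ(S, W.ι ''ᵁ ⊤) Γ(X, U₀) Γ(X, (X.basicOpen g).ι ''ᵁ ⊤) :=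
    IsScalarTower.of_algebraMap_eq' rfl
  obtain ⟨hét, hIeq⟩ := H Γ(X, (X.basicOpen g).ι ''ᵁ ⊤)
  refine ⟨g, m, n, fun j => algebraMap Γ(X, U₀) Γ(X, (X.basicOpen g).ι ''ᵁ ⊤)
    (Sum.elim f h j.down), hyU, ?_, ?_⟩
  · have hcompat : (pX.resLE W (X.basicOpen g) ((X.basicOpen_le g).trans hU₀W)).appTop =
        pX.appLE (W.ι ''ᵁ ⊤) U₀ e₀ ≫ X.presheaf.map (homOfLE hle).op := by
      rw [Scheme.Hom.appTop, ← Scheme.Hom.appLE_eq_app, Scheme.Hom.resLE_appLE,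
        Scheme.Hom.appLE_map]
      rfl
    have heq : (MvPolynomial.eval₂Hom
        (pX.resLE W (X.basicOpen g) ((X.basicOpen_le g).trans hU₀W)).appTop.hom
        (fun j : ULift.{u} (Fin m ⊕ Fin n) =>
          algebraMap Γ(X, U₀) Γ(X, (X.basicOpen g).ι ''ᵁ ⊤) (Sum.elim f h j.down))) =
        (MvPolynomial.aeval (R := Γ(S, W.ι ''ᵁ ⊤)) (fun j : ULift.{u} (Fin m ⊕ Fin n) =>
          algebraMap Γ(X, U₀) Γ(X, (X.basicOpen g).ι ''ᵁ ⊤)
            (Sum.elim f h j.down))).toRingHom := by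
      rw [hcompat]
      rfl
    rw [heq]
    exact hét
  · have hU : IsAffineOpen (X.basicOpen g) := hU₀.basicOpen g
    have hUaff : IsAffine ↑(X.basicOpen g) := hU
    have h1 : RingHom.ker (i ∣_ X.basicOpen g).appTop.hom =
        (i ∣_ X.basicOpen g).ker.ideal ⟨⊤, isAffineOpen_top _⟩ :=
      (Scheme.Hom.ker_apply (i ∣_ X.basicOpen g) ⟨⊤, isAffineOpen_top _⟩).symm
    have h2 := Scheme.ker_morphismRestrict_ideal i (X.basicOpen g) ⟨⊤, isAffineOpen_top _⟩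
    have h3 := i.ker.map_ideal (U := ⟨(X.basicOpen g).ι ''ᵁ ⊤,
      (isAffineOpen_top _).image_of_isOpenImmersion _⟩) (V := ⟨U₀, hU₀⟩) hle
    have h4 : i.ker.ideal ⟨U₀, hU₀⟩ = RingHom.ker ψₐ := Scheme.Hom.ker_apply i ⟨U₀, hU₀⟩
    rw [h1, h2, ← h3, h4]
    exact hIeq

/-- Statement of S1479. -/
theorem main {S X Y : Scheme.{u}} (pX : X ⟶ S) (pY : Y ⟶ S) [Smooth pX] [Smooth pY]
    (i : Y ⟶ X) [IsClosedImmersion i] (w : i ≫ pX = pY) (y : Y) :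
    ∃ (U : X.Opens) (m n : ℕ) (π : (U : Scheme.{u}) ⟶ 𝔸(ULift.{u} (Fin m ⊕ Fin n); S))
      (ρ : (↑(i ⁻¹ᵁ U) : Scheme.{u}) ⟶ 𝔸(ULift.{u} (Fin m); S)),
      i y ∈ U ∧ Etale π ∧ π ≫ (𝔸(ULift.{u} (Fin m ⊕ Fin n); S) ↘ S) = U.ι ≫ pX ∧
      IsPullback ρ (i ∣_ U)
        (AffineSpace.homOfVector (𝔸(ULift.{u} (Fin m); S) ↘ S)
          (fun j : ULift.{u} (Fin m ⊕ Fin n) =>
            Sum.elim (fun a => AffineSpace.coord S (ULift.up a)) (fun _ => 0) j.down))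
        π := by
  subst w
  obtain ⟨W, hW, hyW⟩ : ∃ W : S.Opens, IsAffineOpen W ∧ pX (i y) ∈ W := by
    obtain ⟨_, ⟨W, hW, rfl⟩, hx, -⟩ := S.isBasis_affineOpens.exists_subset_of_mem_open
      (Set.mem_univ (pX (i y))) isOpen_univ
    exact ⟨W, hW, hx⟩
  obtain ⟨U₀, hU₀, hxU₀, hU₀W⟩ :
      ∃ U₀ : X.Opens, IsAffineOpen U₀ ∧ i y ∈ U₀ ∧ U₀ ≤ pX ⁻¹ᵁ W := by
    obtain ⟨_, ⟨U₀, hU₀, rfl⟩, hx, hle⟩ := X.isBasis_affineOpens.exists_subset_of_mem_open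
      (show i y ∈ ((pX ⁻¹ᵁ W : X.Opens) : Set X) from hyW) (pX ⁻¹ᵁ W).2
    exact ⟨U₀, hU₀, hx, hle⟩
  obtain ⟨g, m, n, v, hyU, hét, hK⟩ := exists_local_chart pX i y W hW U₀ hU₀ hU₀W hxU₀
  have hU : IsAffineOpen (X.basicOpen g) := hU₀.basicOpen g
  exact ⟨X.basicOpen g, m, n, AffineSpace.homOfVector ((X.basicOpen g).ι ≫ pX) v,
    AffineSpace.homOfVector ((i ⁻¹ᵁ X.basicOpen g).ι ≫ (i ≫ pX))
      (fun j => (i ∣_ X.basicOpen g).appTop (v ⟨Sum.inl j.down⟩)),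
    hyU, etale_chart pX W hW _ hU _ v hét, AffineSpace.homOfVector_over _ _,
    isPullback_of_ker pX (i ≫ pX) i rfl _ hU m n v hK⟩

end Groth.Agent.Lib.SmClH7
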