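import Mathlib
import Groth.Prelude
import Groth.Agent.S1561
import Groth.Agent.S1535
import Groth.Agent.S1626
import Groth.Agent.Lib.CurveAmp3_helper9

set_option autoImplicit false
universe u
open CategoryTheory CategoryTheory.Limits AlgebraicGeometry TopologicalSpace

namespace SmComp9

/-- **S19463**: a smooth curve over an algebraically closed field is open in a smooth
projective curve. -/
theorem main19463 (k : Type u) [Field k] [IsAlgClosed k]
    (X : Scheme.{u}) [X.Over (Spec (CommRingCat.of k))] [IsIntegral X]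
    [IsSeparated (X ↘ (Spec (CommRingCat.of k)))]
    [LocallyOfFiniteType (X ↘ (Spec (CommRingCat.of k)))]
    [QuasiCompact (X ↘ (Spec (CommRingCat.of k)))] [Smooth (X ↘ (Spec (CommRingCat.of k)))]
    (hdimX : topologicalKrullDim X = 1) :
    ∃ (Y : Scheme.{u}) (_ : Y.Over (Spec (CommRingCat.of k))) (j : X ⟶ Y), IsOpenImmersion j ∧
      j ≫ (Y ↘ (Spec (CommRingCat.of k))) = X ↘ (Spec (CommRingCat.of k)) ∧ IsIntegral Y ∧
      Smooth (Y ↘ (Spec (CommRingCat.of k))) ∧ topologicalKrullDim Y = 1 ∧
      ∃ (n : ℕ) (i : Y ⟶ CohB1.ProjSpace n k), IsClosedImmersion i ∧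
        i ≫ CohB1.ProjSpace.toSpec n k = Y ↘ (Spec (CommRingCat.of k)) := by
  obtain ⟨d, Y, c, j, hc, hj, hcomp, hdense, hsd, hfin, hbd⟩ :=
    Groth.Agent.S1626.result k X hdimX.le
  haveI := hc
  haveI := hj
  letI : Y.Over (Spec (CommRingCat.of k)) := ⟨c ≫ CohB1.ProjSpace.toSpec d k⟩
  have hover : (Y ↘ Spec (CommRingCat.of k)) = c ≫ CohB1.ProjSpace.toSpec d k := rfl
  haveI : IsProper (CohB1.ProjSpace.toSpec d k) :=
    Groth.Agent.Lib.ProjSpaceProperH4.isProper_toSpec d k
  haveI : IsProper (Y ↘ Spec (CommRingCat.of k)) := by rw [hover]; infer_instance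
  haveI : LocallyOfFinitePresentation (Y ↘ Spec (CommRingCat.of k)) :=
    LocallyOfFinitePresentation.iff_locallyOfFiniteType.mpr inferInstance
  have hstalk : ∀ x : X, Nonempty (Y.presheaf.stalk (j x) ≃+* X.presheaf.stalk x) := fun x =>
    ⟨(asIso (j.stalkMap x)).commRingCatIsoToRingEquiv⟩
  have hreg : ∀ y : Y, IsRegularLocalRing (Y.presheaf.stalk y) := by
    intro y
    by_cases hy : y ∈ Set.range j.base
    · obtain ⟨x, rfl⟩ := hy
      haveI := Groth.Agent.S1535.result k X x
      exact IsRegularLocalRing.of_ringEquiv (hstalk x).some.symm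
    · obtain ⟨-, hdom, hdvr⟩ := hbd y hy
      infer_instance
  haveI : ∀ y : Y, _root_.IsReduced (Y.presheaf.stalk y) := by
    intro y
    by_cases hy : y ∈ Set.range j.base
    · obtain ⟨x, rfl⟩ := hy
      exact isReduced_of_injective (hstalk x).some.toRingHom (hstalk x).some.injective
    · obtain ⟨-, hdom, hdvr⟩ := hbd y hy
      infer_instance
  haveI : IsReduced Y := isReduced_of_isReduced_stalk Y
  haveI : IrreducibleSpace Y := by
    rw [irreducibleSpace_def, Set.top_eq_univ, ← hdense.closure_eq,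
      ← Set.image_univ]
    exact ((IrreducibleSpace.isIrreducible_univ X).image j
      j.continuous.continuousOn).closure
  haveI : IsIntegral Y := isIntegral_of_irreducibleSpace_of_isReduced Y
  have hsm : Smooth (Y ↘ Spec (CommRingCat.of k)) := by
    rw [← Scheme.Hom.smoothLocus_eq_top_iff]
    ext y
    simp only [Opens.coe_top, Set.mem_univ, iff_true, SetLike.mem_coe]
    exact ((Groth.Agent.S1561.result k Y).1 y).mpr (hreg y)
  have hdimY : topologicalKrullDim Y = 1 := by
    apply le_antisymm
    · exact CurveAmp9.dim_le_of_dense_open k Y j hdense 1 (by exact_mod_cast hdimX.le)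
    · rw [← hdimX]
      exact j.isOpenEmbedding.isInducing.topologicalKrullDim_le
  exact ⟨Y, inferInstance, j, hj, hcomp, inferInstance, hsm, hdimY, d, c, hc, rfl⟩

end SmComp9
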