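import Mathlib
import Groth.Agent.Lib.HypSm2_helper9

/-!
# Smooth effective Cartier divisors through a point: algebra
-/

set_option autoImplicit false

namespace Groth.Agent.Lib.SmDivH8

open TensorProduct KaehlerDifferential

universe u

section Alg

variable (A B : Type u) [CommRing A] [CommRing B] [Algebra A B]

/-- an element of a finite projective module outside `q • ⊤` is detected by a functional. -/
theorem exists_dual_notMem {P : Type u} [AddCommGroup P] [Module B P] [Module.Finite B P]
    [Module.Projective B P] (q : Ideal B) (ω : P) (hω : ω ∉ q • (⊤ : Submodule B P)) :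
    ∃ φ : P →ₗ[B] B, φ ω ∉ q := by
  obtain ⟨n, s, hs⟩ := Module.Finite.exists_fin' B P
  obtain ⟨i, hi⟩ := Module.projective_lifting_property s LinearMap.id hs
  by_contra hcon
  push Not at hcon
  apply hω
  have h1 : ω = ∑ j, (i ω) j • s (Pi.single j 1) := by
    have h2 : i ω = ∑ j, (i ω) j • (Pi.single j (1 : B) : Fin n → B) := by
      ext k
      simp [Finset.sum_apply, Pi.single_apply]
    have h3 : s (i ω) = ω := by
      have := LinearMap.congr_fun hi ω
      simpa using this
    calc ω = s (i ω) := h3.symm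
      _ = s (∑ j, (i ω) j • (Pi.single j (1 : B) : Fin n → B)) := congrArg s h2
      _ = _ := by rw [map_sum]; simp only [map_smul]
  rw [h1]
  refine Submodule.sum_mem _ fun j _ => ?_
  exact Submodule.smul_mem_smul (hcon ((LinearMap.proj j) ∘ₗ i)) Submodule.mem_top


/-- If `dh₁` does not vanish at `q`, then `B/(h₁)` is smooth over `A` on a basic open
neighbourhood `D(r)` of `q`. -/
theorem exists_smooth_away [Algebra.Smooth A B] (h₁ : B) (q : Ideal B) [q.IsPrime] (hq : h₁ ∈ q)
    (hd : D A B h₁ ∉ q • (⊤ : Submodule B (Ω[B⁄A]))) :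
    ∃ r : B, r ∉ q ∧ ∀ (B' : Type u) [CommRing B'] [Algebra B B'] [Algebra A B']
      [IsScalarTower A B B'] [IsLocalization.Away r B'],
      Algebra.Smooth A (B' ⧸ Ideal.span {algebraMap B B' h₁}) := by
  obtain ⟨φ, hφ⟩ := exists_dual_notMem B q (D A B h₁) hd
  set I : Ideal B := Ideal.span {h₁} with hI
  have hIq : I ≤ q := (Ideal.span_singleton_le_iff_mem q).mpr hq
  let R := B ⧸ I
  have hsurj : Function.Surjective (algebraMap B R) := Ideal.Quotient.mk_surjective
  have hker : RingHom.ker (algebraMap B R) = Ideal.span {h₁} := Ideal.mk_ker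
  let ψ : Module.Dual R (R ⊗[B] Ω[B⁄A]) :=
    LinearMap.liftBaseChange R ((Algebra.linearMap B R) ∘ₗ φ)
  haveI hpp : (q.map (Ideal.Quotient.mk I)).IsPrime :=
    Ideal.map_isPrime_of_surjective Ideal.Quotient.mk_surjective (by rw [Ideal.mk_ker]; exact hIq)
  let p : PrimeSpectrum R := ⟨q.map (Ideal.Quotient.mk I), hpp⟩
  have hψ : ψ (Groth.Agent.HypAnn9.xg A B R h₁) ∉ p.asIdeal := by
    have h1 : ψ (Groth.Agent.HypAnn9.xg A B R h₁) = Ideal.Quotient.mk I (φ (D A B h₁)) := by
      simp [ψ, Groth.Agent.HypAnn9.xg]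
      rfl
    rw [h1]
    intro hmem
    exact hφ ((Ideal.mem_quotient_iff_mem hIq).mp hmem)
  have hsm : p ∈ Algebra.smoothLocus A R :=
    Groth.Agent.HypAnn9.mem_smoothLocus_of A B R hsurj h₁ hker p ψ hψ
  haveI : Algebra.FinitePresentation B R :=
    Algebra.FinitePresentation.quotient ⟨{h₁}, by simp [hI]⟩
  haveI : Algebra.FinitePresentation A R :=
    Algebra.FinitePresentation.trans A B R
  haveI : Algebra.IsSmoothAt A p.asIdeal := hsm
  obtain ⟨f, hfp, hfsm⟩ := Algebra.IsSmoothAt.exists_notMem_smooth A p.asIdeal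
  obtain ⟨r, rfl⟩ := Ideal.Quotient.mk_surjective f
  refine ⟨r, fun hr => hfp (Ideal.mem_map_of_mem _ hr), ?_⟩
  intro B' _ _ _ _ _
  have hmap : I.map (algebraMap B B') = Ideal.span {algebraMap B B' h₁} := by
    rw [hI, Ideal.map_span, Set.image_singleton]
  rw [← hmap]
  haveI hloc : IsLocalization (Algebra.algebraMapSubmonoid (B ⧸ I) (Submonoid.powers r))
      (B' ⧸ I.map (algebraMap B B')) := inferInstance
  have hpow : Algebra.algebraMapSubmonoid (B ⧸ I) (Submonoid.powers r) =
      Submonoid.powers (Ideal.Quotient.mk I r) := by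
    simp [Algebra.algebraMapSubmonoid, Submonoid.map_powers]
  rw [hpow] at hloc
  haveI : IsScalarTower A R (B' ⧸ I.map (algebraMap B B')) := by
    refine IsScalarTower.of_algebraMap_eq' ?_
    ext a
    show Ideal.Quotient.mk _ (algebraMap A B' a) =
      Ideal.Quotient.mk _ (algebraMap B B' (algebraMap A B a))
    rw [← IsScalarTower.algebraMap_apply]
  let e : Localization.Away (Ideal.Quotient.mk I r) ≃ₐ[A] (B' ⧸ I.map (algebraMap B B')) :=
    (IsLocalization.algEquiv (Submonoid.powers (Ideal.Quotient.mk I r))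
      (Localization.Away (Ideal.Quotient.mk I r)) (B' ⧸ I.map (algebraMap B B'))).restrictScalars A
  exact Algebra.Smooth.of_equiv e

end Alg

end Groth.Agent.Lib.SmDivH8
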