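import Mathlib
import Groth.Agent.Lib.SmDiv1_helper8
import Groth.Agent.Lib.FibStalkIso_helper5
import Groth.Agent.Lib.FibReg5_helper8
import Groth.Agent.S1535

/-!
# Smooth effective Cartier divisors through a point: differentials at a local ring
-/

set_option autoImplicit false

namespace Groth.Agent.Lib.SmDivH8

open TensorProduct KaehlerDifferential IsLocalRing

universe u

section Alg2

/-- elements of `𝔪 • Ω` die in `κ ⊗ Ω`. -/
theorem one_tmul_eq_zero_of_mem {T : Type u} [CommRing T] [IsLocalRing T] {M : Type u}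
    [AddCommGroup M] [Module T M] (ω : M)
    (hω : ω ∈ maximalIdeal T • (⊤ : Submodule T M)) :
    (1 : ResidueField T) ⊗ₜ[T] ω = 0 := by
  refine Submodule.smul_induction_on hω (fun j hj n _ => ?_) (fun x y hx hy => ?_)
  · rw [← TensorProduct.smul_tmul, Algebra.smul_def, mul_one,
      IsLocalRing.ResidueField.algebraMap_eq, (residue_eq_zero_iff j).mpr hj,
      TensorProduct.zero_tmul]
  · rw [TensorProduct.tmul_add, hx, hy, add_zero]

/-- `d` of an element of `𝔪 T` lies in `𝔪 T • Ω_{T/R}`. -/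
theorem D_mem_of_mem_map {R T : Type u} [CommRing R] [CommRing T] [Algebra R T] (m : Ideal R)
    (h : T) (hh : h ∈ m.map (algebraMap R T)) :
    D R T h ∈ (m.map (algebraMap R T)) • (⊤ : Submodule T (Ω[T⁄R])) := by
  set J := m.map (algebraMap R T) with hJ
  have key : ∀ y (hy : y ∈ Submodule.span T ((algebraMap R T) '' (m : Set R))),
      D R T y ∈ J • (⊤ : Submodule T (Ω[T⁄R])) := by
    intro y hy
    induction hy using Submodule.span_induction with
    | mem y hy =>
      obtain ⟨a, _, rfl⟩ := hy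
      rw [Derivation.map_algebraMap]
      exact Submodule.zero_mem _
    | zero => rw [map_zero]; exact Submodule.zero_mem _
    | add y z hy hz ihy ihz => rw [map_add]; exact Submodule.add_mem _ ihy ihz
    | smul t y hy ihy =>
      rw [smul_eq_mul, Derivation.leibniz]
      refine Submodule.add_mem _ (Submodule.smul_mem _ _ ihy) ?_
      exact Submodule.smul_mem_smul hy Submodule.mem_top
  exact key h hh

end Alg2


section Sch

open AlgebraicGeometry CategoryTheory Limits

/-- the local ring of a fibre of a smooth morphism is a domain. -/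
theorem isDomain_fibre {X S : Scheme.{u}} (f : X ⟶ S) [Smooth f] (x : X) :
    IsDomain (X.presheaf.stalk x ⧸
      Ideal.map (f.stalkMap x).hom (maximalIdeal (S.presheaf.stalk (f x)))) := by
  haveI : Smooth (f.fiberToSpecResidueField (f x)) := by
    delta Scheme.Hom.fiberToSpecResidueField
    exact MorphismProperty.pullback_snd (P := @Smooth) _ _ inferInstance
  letI : (f.fiber (f x)).Over (Spec (CommRingCat.of (S.residueField (f x)))) :=
    ⟨f.fiberToSpecResidueField (f x)⟩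
  haveI : Smooth ((f.fiber (f x)) ↘ (Spec (CommRingCat.of (S.residueField (f x))))) :=
    inferInstanceAs (Smooth (f.fiberToSpecResidueField (f x)))
  have hreg := Groth.Agent.S1535.result (S.residueField (f x)) (f.fiber (f x)) (f.asFiber x)
  haveI : IsDomain ((f.fiber (f x)).presheaf.stalk (f.asFiber x)) :=
    Groth.Agent.RegularLib.isDomain _
  exact (Groth.Agent.FibStalkIso.fibStalkEquiv f x).toMulEquiv.isDomain _


/-- restricting a nonzerodivisor with given germ to a basic open. -/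
theorem shrink {X : Scheme.{u}} (x : X) {U : X.Opens} (hU : IsAffineOpen U) (hxU : x ∈ U)
    (h₀ : Γ(X, U)) (hnzd : h₀ ∈ nonZeroDivisors Γ(X, U)) (r : Γ(X, U))
    (hxr : x ∈ X.basicOpen r) :
    X.presheaf.germ (X.basicOpen r) x hxr (X.presheaf.map (homOfLE (X.basicOpen_le r)).op h₀) =
        X.presheaf.germ U x hxU h₀ ∧
      X.presheaf.map (homOfLE (X.basicOpen_le r)).op h₀ ∈
        nonZeroDivisors Γ(X, X.basicOpen r) := by
  refine ⟨TopCat.Presheaf.germ_res_apply _ _ _ _ _, ?_⟩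
  haveI : IsLocalization.Away r Γ(X, X.basicOpen r) := hU.isLocalization_basicOpen r
  exact IsLocalization.map_nonZeroDivisors_le (Submonoid.powers r) Γ(X, X.basicOpen r)
    ⟨h₀, hnzd, rfl⟩

set_option maxHeartbeats 1000000 in
/-- core, second half: given an affine chart over an affine open of the base. -/
theorem core_aux {X S : Scheme.{u}} (f : X ⟶ S) [Smooth f] (x : X)
    (h : ↑(X.presheaf.stalk x)) (hm : h ∈ maximalIdeal ↑(X.presheaf.stalk x))
    (hd : letI := (f.stalkMap x).hom.toAlgebra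
      D ↑(S.presheaf.stalk (f x)) ↑(X.presheaf.stalk x) h ∉
        maximalIdeal ↑(X.presheaf.stalk x) •
          (⊤ : Submodule ↑(X.presheaf.stalk x) (Ω[↑(X.presheaf.stalk x)⁄↑(S.presheaf.stalk (f x))])))
    (V : S.Opens) (hV : IsAffineOpen V) (hyV : f x ∈ V)
    (U : X.Opens) (hU : IsAffineOpen U) (hxU : x ∈ U) (e : U ≤ f ⁻¹ᵁ V)
    (h₁ : Γ(X, U)) (hg₁ : X.presheaf.germ U x hxU h₁ = h)
    (hnzd₁ : h₁ ∈ nonZeroDivisors Γ(X, U)) :
    ∃ (U : X.Opens) (hU : IsAffineOpen U) (hx : x ∈ U) (h' : Γ(X, U)),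
      X.presheaf.germ U x hx h' = h ∧ h' ∈ nonZeroDivisors Γ(X, U) ∧
      Smooth (Spec.map (CommRingCat.ofHom (Ideal.Quotient.mk (Ideal.span {h'}))) ≫
        hU.fromSpec ≫ f) := by
  classical
  letI algRS : Algebra (S.presheaf.stalk (f x)) (X.presheaf.stalk x) :=
    (f.stalkMap x).hom.toAlgebra
  -- algebra structures
  letI algAB : Algebra Γ(S, V) Γ(X, U) := (f.appLE V U e).hom.toAlgebra
  haveI : Algebra.Smooth Γ(S, V) Γ(X, U) :=
    HasRingHomProperty.appLE (P := @Smooth) f inferInstance ⟨V, hV⟩ ⟨U, hU⟩ e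
  letI algAR : Algebra Γ(S, V) (S.presheaf.stalk (f x)) :=
    TopCat.Presheaf.algebra_section_stalk S.presheaf (⟨f.base x, hyV⟩ : V)
  letI algBT : Algebra Γ(X, U) (X.presheaf.stalk x) :=
    TopCat.Presheaf.algebra_section_stalk X.presheaf (⟨x, hxU⟩ : U)
  letI algAT : Algebra Γ(S, V) (X.presheaf.stalk x) :=
    ((algebraMap Γ(X, U) (X.presheaf.stalk x)).comp (algebraMap Γ(S, V) Γ(X, U))).toAlgebra
  haveI : IsScalarTower Γ(S, V) Γ(X, U) (X.presheaf.stalk x) :=
    IsScalarTower.of_algebraMap_eq' rfl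
  haveI : IsScalarTower Γ(S, V) (S.presheaf.stalk (f x)) (X.presheaf.stalk x) := by
    refine IsScalarTower.of_algebraMap_eq fun a => ?_
    show (X.presheaf.germ U x hxU).hom ((f.appLE V U e).hom a) =
      (f.stalkMap x).hom ((S.presheaf.germ V _ hyV).hom a)
    rw [GenFlatSchH8.stalkMap_germ_appLE f e hxU a]
  haveI : IsLocalization.AtPrime (X.presheaf.stalk x)
      (hU.primeIdealOf ⟨x, hxU⟩).asIdeal := hU.isLocalization_stalk ⟨_, hxU⟩
  have hgerm : algebraMap Γ(X, U) (X.presheaf.stalk x) h₁ = h := hg₁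
  have hq : h₁ ∈ (hU.primeIdealOf ⟨x, hxU⟩).asIdeal := by
    rw [← IsLocalization.AtPrime.to_map_mem_maximal_iff (X.presheaf.stalk x)
      (hU.primeIdealOf ⟨x, hxU⟩).asIdeal h₁, hgerm]
    exact hm
  have hdq : D Γ(S, V) Γ(X, U) h₁ ∉ (hU.primeIdealOf ⟨x, hxU⟩).asIdeal •
      (⊤ : Submodule Γ(X, U) (Ω[Γ(X, U)⁄Γ(S, V)])) := by
    intro hmem
    apply hd
    have key : ∀ ω ∈ (hU.primeIdealOf ⟨x, hxU⟩).asIdeal •
        (⊤ : Submodule Γ(X, U) (Ω[Γ(X, U)⁄Γ(S, V)])),
        KaehlerDifferential.map Γ(S, V) (S.presheaf.stalk (f x)) Γ(X, U) (X.presheaf.stalk x) ω ∈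
          maximalIdeal (X.presheaf.stalk x) •
            (⊤ : Submodule (X.presheaf.stalk x) (Ω[X.presheaf.stalk x⁄S.presheaf.stalk (f x)])) := by
      intro ω hω
      refine Submodule.smul_induction_on hω (fun b hb n _ => ?_)
        (fun y z hy hz => by rw [map_add]; exact Submodule.add_mem _ hy hz)
      rw [map_smul, ← algebraMap_smul (X.presheaf.stalk x) b]
      refine Submodule.smul_mem_smul ?_ Submodule.mem_top
      exact (IsLocalization.AtPrime.to_map_mem_maximal_iff (X.presheaf.stalk x)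
        (hU.primeIdealOf ⟨x, hxU⟩).asIdeal b).mpr hb
    have := key _ hmem
    rwa [KaehlerDifferential.map_D, hgerm] at this
  obtain ⟨r, hrq, H⟩ := exists_smooth_away Γ(S, V) Γ(X, U) h₁
    (hU.primeIdealOf ⟨x, hxU⟩).asIdeal hq hdq
  have hU' : IsAffineOpen (X.basicOpen r) := hU.basicOpen r
  have hxU' : x ∈ X.basicOpen r := FLFH8.mem_basicOpen_of_notMem_prime hU hxU hrq
  haveI : IsLocalization.Away r Γ(X, X.basicOpen r) := hU.isLocalization_basicOpen r
  have e' : X.basicOpen r ≤ f ⁻¹ᵁ V := (X.basicOpen_le r).trans e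
  letI algAC : Algebra Γ(S, V) Γ(X, X.basicOpen r) :=
    (f.appLE V (X.basicOpen r) e').hom.toAlgebra
  haveI : IsScalarTower Γ(S, V) Γ(X, U) Γ(X, X.basicOpen r) := by
    refine IsScalarTower.of_algebraMap_eq' ?_
    show (f.appLE V (X.basicOpen r) e').hom =
      (X.presheaf.map (homOfLE (X.basicOpen_le r)).op).hom.comp (f.appLE V U e).hom
    rw [← CommRingCat.hom_comp, Scheme.Hom.appLE_map]
  obtain ⟨hg₂, hnzd₂⟩ := shrink x hU hxU h₁ hnzd₁ r hxU'
  refine ⟨X.basicOpen r, hU', hxU', algebraMap Γ(X, U) Γ(X, X.basicOpen r) h₁,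
    hg₂.trans hg₁, hnzd₂, ?_⟩
  have hsm := H Γ(X, X.basicOpen r)
  have hcomp : Spec.map (CommRingCat.ofHom (Ideal.Quotient.mk
        (Ideal.span {algebraMap Γ(X, U) Γ(X, X.basicOpen r) h₁}))) ≫ hU'.fromSpec ≫ f =
      Spec.map (f.appLE V (X.basicOpen r) e' ≫ CommRingCat.ofHom (Ideal.Quotient.mk
        (Ideal.span {algebraMap Γ(X, U) Γ(X, X.basicOpen r) h₁}))) ≫ hV.fromSpec := by
    rw [Spec.map_comp, Category.assoc, IsAffineOpen.SpecMap_appLE_fromSpec]
  rw [hcomp]
  haveI : Smooth (Spec.map (f.appLE V (X.basicOpen r) e' ≫ CommRingCat.ofHom (Ideal.Quotient.mk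
        (Ideal.span {algebraMap Γ(X, U) Γ(X, X.basicOpen r) h₁})))) := by
    rw [HasRingHomProperty.Spec_iff (P := @Smooth)]
    exact RingHom.smooth_algebraMap.mpr hsm
  infer_instance

set_option maxHeartbeats 1000000 in
/-- core: smooth effective Cartier divisor with prescribed germ, for a smooth morphism. -/
theorem core {X S : Scheme.{u}} (f : X ⟶ S) [Smooth f] (x : X)
    (h : ↑(X.presheaf.stalk x)) (hm : h ∈ maximalIdeal ↑(X.presheaf.stalk x))
    (hd : letI := (f.stalkMap x).hom.toAlgebra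
      D ↑(S.presheaf.stalk (f x)) ↑(X.presheaf.stalk x) h ∉
        maximalIdeal ↑(X.presheaf.stalk x) •
          (⊤ : Submodule ↑(X.presheaf.stalk x) (Ω[↑(X.presheaf.stalk x)⁄↑(S.presheaf.stalk (f x))]))) :
    ∃ (U : X.Opens) (hU : IsAffineOpen U) (hx : x ∈ U) (h' : Γ(X, U)),
      X.presheaf.germ U x hx h' = h ∧ h' ∈ nonZeroDivisors Γ(X, U) ∧
      Smooth (Spec.map (CommRingCat.ofHom (Ideal.Quotient.mk (Ideal.span {h'}))) ≫
        hU.fromSpec ≫ f) := by
  classical
  letI algRS : Algebra (S.presheaf.stalk (f x)) (X.presheaf.stalk x) :=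
    (f.stalkMap x).hom.toAlgebra
  -- (1) `h` is a nonzerodivisor on the fibre
  haveI := isDomain_fibre f x
  have hne : Ideal.Quotient.mk (Ideal.map (f.stalkMap x).hom
      (maximalIdeal (S.presheaf.stalk (f x)))) h ≠ 0 := by
    intro h0
    rw [Ideal.Quotient.eq_zero_iff_mem] at h0
    have h1 := D_mem_of_mem_map (R := S.presheaf.stalk (f x)) (T := X.presheaf.stalk x)
      (maximalIdeal (S.presheaf.stalk (f x))) h h0
    have hle : (maximalIdeal (S.presheaf.stalk (f x))).map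
        (algebraMap (S.presheaf.stalk (f x)) (X.presheaf.stalk x)) ≤
        maximalIdeal (X.presheaf.stalk x) :=
      ((IsLocalRing.local_hom_TFAE (f.stalkMap x).hom).out 0 2).mp
        (inferInstance : IsLocalHom (f.stalkMap x).hom)
    exact hd (Submodule.smul_mono_left hle h1)
  have hreg : Ideal.Quotient.mk (Ideal.map (f.stalkMap x).hom
      (maximalIdeal (S.presheaf.stalk (f x)))) h ∈ nonZeroDivisors _ :=
    mem_nonZeroDivisors_of_ne_zero hne
  obtain ⟨U₀, hU₀, hxU₀, h₀, hh₀, hnzd₀, -, -⟩ :=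
    Groth.Agent.Lib.FibRegH8.slice_flat f x (Flat.stalkMap f x) h hreg
  -- (3) affine open of the base and first shrinking
  obtain ⟨V, hV, hyV, -⟩ := TopologicalSpace.Opens.isBasis_iff_nbhd.mp S.isBasis_affineOpens
    (show f.base x ∈ (⊤ : S.Opens) from trivial)
  obtain ⟨r₀, hr₀le, hxr₀⟩ := hU₀.exists_basicOpen_le (V := f ⁻¹ᵁ V) ⟨x, hyV⟩ hxU₀
  have hU : IsAffineOpen (X.basicOpen r₀) := hU₀.basicOpen r₀
  have hxU : x ∈ X.basicOpen r₀ := hxr₀
  obtain ⟨hg₁, hnzd₁⟩ := shrink x hU₀ hxU₀ h₀ hnzd₀ r₀ hxr₀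
  exact core_aux f x h hm hd V hV hyV (X.basicOpen r₀) hU hxU hr₀le _ (hg₁.trans hh₀) hnzd₁

end Sch

end Groth.Agent.Lib.SmDivH8
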