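import Mathlib
import Groth.Agent.Lib.SmDiv2_helper8

/-!
# Smooth effective Cartier divisors through a point: transport along an open subscheme
-/

set_option autoImplicit false

namespace Groth.Agent.Lib.SmDivH8

open TensorProduct KaehlerDifferential IsLocalRing AlgebraicGeometry CategoryTheory Limits

universe u

section Transport

variable {X S : Scheme.{u}} (f : X ⟶ S) (W : X.Opens) (x : X) (hxW : x ∈ W)

/-- transport of an effective Cartier divisor from the open subscheme `W` to `X`. -/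
theorem transport (U' : W.toScheme.Opens) (hU' : IsAffineOpen U')
    (hx' : (⟨x, hxW⟩ : W.toScheme) ∈ U') (h'' : Γ(W.toScheme, U'))
    (hnzd : h'' ∈ nonZeroDivisors Γ(W.toScheme, U'))
    (hsm : Smooth (Spec.map (CommRingCat.ofHom (Ideal.Quotient.mk (Ideal.span {h''}))) ≫
      hU'.fromSpec ≫ W.ι ≫ f)) :
    ∃ (U : X.Opens) (hU : IsAffineOpen U) (hx : x ∈ U) (h' : Γ(X, U)),
      (W.ι.stalkMap ⟨x, hxW⟩).hom (X.presheaf.germ U x hx h') =
        W.toScheme.presheaf.germ U' ⟨x, hxW⟩ hx' h'' ∧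
      h' ∈ nonZeroDivisors Γ(X, U) ∧
      Smooth (Spec.map (CommRingCat.ofHom (Ideal.Quotient.mk (Ideal.span {h'}))) ≫
        hU.fromSpec ≫ f) := by
  have hU : IsAffineOpen (W.ι ''ᵁ U') := hU'.image_of_isOpenImmersion W.ι
  have hx : x ∈ W.ι ''ᵁ U' := ⟨⟨x, hxW⟩, hx', rfl⟩
  let φ := W.ι.appIso U'
  have e : U' ≤ W.ι ⁻¹ᵁ (W.ι ''ᵁ U') := (Scheme.Hom.preimage_image_eq W.ι U').ge
  have hφ : φ.hom = W.ι.appLE (W.ι ''ᵁ U') U' e := Scheme.Hom.appIso_hom' W.ι U'
  refine ⟨W.ι ''ᵁ U', hU, hx, φ.inv h'', ?_, ?_, ?_⟩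
  · have h1 := GenFlatSchH8.stalkMap_germ_appLE W.ι e hx' (φ.inv h'')
    refine h1.trans ?_
    rw [← hφ]
    congr 1
    exact congrArg (fun ψ => ψ.hom h'') φ.inv_hom_id
  · rw [mem_nonZeroDivisors_iff_right]
    intro z hz
    have h2 : φ.hom z * h'' = 0 := by
      have := congrArg φ.hom.hom hz
      rw [map_mul, map_zero] at this
      rw [← this]
      congr 1
      exact (congrArg (fun ψ => ψ.hom h'') φ.inv_hom_id).symm
    have h3 := (mem_nonZeroDivisors_iff_right.mp hnzd) _ h2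
    have h4 : φ.inv (φ.hom z) = z := congrArg (fun ψ => ψ.hom z) φ.hom_inv_id
    rw [← h4, h3, map_zero]
  · let er : Γ(X, W.ι ''ᵁ U') ≃+* Γ(W.toScheme, U') := φ.commRingCatIsoToRingEquiv
    have her : er (φ.inv h'') = h'' := congrArg (fun ψ => ψ.hom h'') φ.inv_hom_id
    have hI : Ideal.span {h''} = (Ideal.span {φ.inv h''}).map (er : Γ(X, W.ι ''ᵁ U') →+* _) := by
      rw [Ideal.map_span, Set.image_singleton]
      congr 2
      exact her.symm
    let θ := (Ideal.quotientEquiv (Ideal.span {φ.inv h''}) (Ideal.span {h''}) er hI).toCommRingCatIso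
    have hθ : CommRingCat.ofHom (Ideal.Quotient.mk (Ideal.span {φ.inv h''})) ≫ θ.hom =
        φ.hom ≫ CommRingCat.ofHom (Ideal.Quotient.mk (Ideal.span {h''})) := by
      ext a
      rfl
    have hfs : Spec.map φ.hom ≫ hU.fromSpec = hU'.fromSpec ≫ W.ι := by
      rw [hφ]
      exact IsAffineOpen.SpecMap_appLE_fromSpec W.ι hU hU' e
    have hcomp : Spec.map θ.hom ≫ (Spec.map (CommRingCat.ofHom (Ideal.Quotient.mk
        (Ideal.span {φ.inv h''}))) ≫ hU.fromSpec ≫ f) =
        Spec.map (CommRingCat.ofHom (Ideal.Quotient.mk (Ideal.span {h''}))) ≫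
          hU'.fromSpec ≫ W.ι ≫ f := by
      rw [← Category.assoc, ← Spec.map_comp, hθ, Spec.map_comp, Category.assoc,
        ← Category.assoc (Spec.map φ.hom), hfs, Category.assoc]
      rfl
    rw [← hcomp] at hsm
    exact (MorphismProperty.cancel_left_of_respectsIso @Smooth (Spec.map θ.hom) _).mp hsm


include hxW in
set_option maxHeartbeats 1000000 in
/-- smooth effective Cartier divisor with prescribed germ `h`, `dh ∉ 𝔪 Ω`. -/
theorem main9725 (hW : Smooth (W.ι ≫ f))
    (h : ↑(X.presheaf.stalk x)) (hm : h ∈ maximalIdeal ↑(X.presheaf.stalk x))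
    (hd : letI := (f.stalkMap x).hom.toAlgebra
      D ↑(S.presheaf.stalk (f x)) ↑(X.presheaf.stalk x) h ∉
        maximalIdeal ↑(X.presheaf.stalk x) •
          (⊤ : Submodule ↑(X.presheaf.stalk x) (Ω[↑(X.presheaf.stalk x)⁄↑(S.presheaf.stalk (f x))]))) :
    ∃ (U : X.Opens) (hU : IsAffineOpen U) (hx : x ∈ U) (h' : Γ(X, U)),
      X.presheaf.germ U x hx h' = h ∧ h' ∈ nonZeroDivisors Γ(X, U) ∧
      Smooth (Spec.map (CommRingCat.ofHom (Ideal.Quotient.mk (Ideal.span {h'}))) ≫
        hU.fromSpec ≫ f) := by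
  haveI : Smooth (W.ι ≫ f) := hW
  set x' : W.toScheme := ⟨x, hxW⟩ with hx'def
  haveI hiso : IsIso (W.ι.stalkMap x') := inferInstance
  let ψ : W.toScheme.presheaf.stalk x' ⟶ X.presheaf.stalk x :=
    @inv _ _ _ _ (W.ι.stalkMap x') hiso
  have hψ1 : ∀ a : X.presheaf.stalk x, ψ.hom ((W.ι.stalkMap x').hom a) = a := fun a =>
    congrArg (fun θ => θ.hom a) (IsIso.hom_inv_id (W.ι.stalkMap x'))
  have hψ2 : ∀ b, (W.ι.stalkMap x').hom (ψ.hom b) = b := fun b =>
    congrArg (fun θ => θ.hom b) (IsIso.inv_hom_id (W.ι.stalkMap x'))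
  have hm' : (W.ι.stalkMap x').hom h ∈ maximalIdeal ↑(W.toScheme.presheaf.stalk x') := by
    rw [mem_maximalIdeal, mem_nonunits_iff] at hm ⊢
    intro hu
    apply hm
    have := hu.map ψ.hom
    exact (congrArg IsUnit (hψ1 h)).mp this
  letI a1 : Algebra (S.presheaf.stalk (f x)) (X.presheaf.stalk x) :=
    (f.stalkMap x).hom.toAlgebra
  letI a2 : Algebra (S.presheaf.stalk (f x)) (W.toScheme.presheaf.stalk x') :=
    ((W.ι ≫ f).stalkMap x').hom.toAlgebra
  letI a3 : Algebra (W.toScheme.presheaf.stalk x') (X.presheaf.stalk x) := ψ.hom.toAlgebra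
  haveI : IsScalarTower (S.presheaf.stalk (f x)) (W.toScheme.presheaf.stalk x')
      (X.presheaf.stalk x) := by
    refine IsScalarTower.of_algebraMap_eq fun a => ?_
    show (f.stalkMap x).hom a = ψ.hom (((W.ι ≫ f).stalkMap x').hom a)
    rw [Scheme.Hom.stalkMap_comp W.ι f x']
    exact (hψ1 _).symm
  have hd' : D ↑(S.presheaf.stalk (f x)) ↑(W.toScheme.presheaf.stalk x')
          ((W.ι.stalkMap x').hom h) ∉
        maximalIdeal ↑(W.toScheme.presheaf.stalk x') •
          (⊤ : Submodule ↑(W.toScheme.presheaf.stalk x')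
            (Ω[↑(W.toScheme.presheaf.stalk x')⁄↑(S.presheaf.stalk (f x))])) := by
    intro hmem
    apply hd
    have key : ∀ ω ∈ maximalIdeal ↑(W.toScheme.presheaf.stalk x') •
        (⊤ : Submodule ↑(W.toScheme.presheaf.stalk x')
          (Ω[↑(W.toScheme.presheaf.stalk x')⁄↑(S.presheaf.stalk (f x))])),
        KaehlerDifferential.map (S.presheaf.stalk (f x)) (S.presheaf.stalk (f x))
          (W.toScheme.presheaf.stalk x') (X.presheaf.stalk x) ω ∈
          maximalIdeal (X.presheaf.stalk x) •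
            (⊤ : Submodule (X.presheaf.stalk x) (Ω[X.presheaf.stalk x⁄S.presheaf.stalk (f x)])) := by
      intro ω hω
      refine Submodule.smul_induction_on hω (fun b hb n _ => ?_)
        (fun y z hy hz => by rw [map_add]; exact Submodule.add_mem _ hy hz)
      rw [map_smul, ← algebraMap_smul (X.presheaf.stalk x) b]
      refine Submodule.smul_mem_smul ?_ Submodule.mem_top
      show ψ.hom b ∈ maximalIdeal _
      rw [mem_maximalIdeal, mem_nonunits_iff] at hb ⊢
      intro hu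
      apply hb
      have := hu.map (W.ι.stalkMap x').hom
      exact (congrArg IsUnit (hψ2 b)).mp this
    have := key _ hmem
    rw [KaehlerDifferential.map_D] at this
    have h5 : algebraMap (W.toScheme.presheaf.stalk x') (X.presheaf.stalk x)
        ((W.ι.stalkMap x').hom h) = h := hψ1 h
    rwa [h5] at this
  obtain ⟨U', hU', hxU', h'', hg'', hnzd'', hsm''⟩ :=
    core (W.ι ≫ f) x' ((W.ι.stalkMap x').hom h) hm' hd'
  obtain ⟨U, hU, hxU, h', hg', hnzd', hsm'⟩ :=
    transport f W x hxW U' hU' hxU' h'' hnzd'' hsm''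
  refine ⟨U, hU, hxU, h', ?_, hnzd', hsm'⟩
  have h6 := hg'.trans hg''
  have := congrArg ψ.hom h6
  rwa [hψ1, hψ1] at this

end Transport

end Groth.Agent.Lib.SmDivH8
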