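import Mathlib
import Groth.Agent.Lib.SmDiv3_helper8

/-!
# Smooth effective Cartier divisors through a point: finding the function
-/

set_option autoImplicit false

namespace Groth.Agent.Lib.SmDivH8

open TensorProduct KaehlerDifferential IsLocalRing

universe u

section Find

/-- a nonzero kernel of `κ ⊗ Ω_{A/R} → Ω_{κ/R}` yields `h ∈ 𝔪` with `dh ∉ 𝔪 Ω`. -/
theorem exists_of_ker_ne_bot {R A : Type u} [CommRing R] [CommRing A] [IsLocalRing A]
    [Algebra R A] [Algebra R (ResidueField A)] [IsScalarTower R A (ResidueField A)]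
    (hker : LinearMap.ker (mapBaseChange R A (ResidueField A)) ≠ ⊥) :
    ∃ h ∈ maximalIdeal A, D R A h ∉ maximalIdeal A • (⊤ : Submodule A (Ω[A⁄R])) := by
  obtain ⟨z, hz, hz0⟩ := (Submodule.ne_bot_iff _).mp hker
  have hex := KaehlerDifferential.exact_kerCotangentToTensor_mapBaseChange R A (ResidueField A)
    (IsLocalRing.residue_surjective)
  obtain ⟨c, rfl⟩ := (hex z).mp hz
  obtain ⟨⟨h, hh⟩, rfl⟩ := Ideal.toCotangent_surjective _ c
  have hm : h ∈ maximalIdeal A := by
    have : algebraMap A (ResidueField A) h = 0 := hh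
    rwa [IsLocalRing.ResidueField.algebraMap_eq, residue_eq_zero_iff] at this
  refine ⟨h, hm, fun hmem => hz0 ?_⟩
  rw [KaehlerDifferential.kerCotangentToTensor_toCotangent]
  exact one_tmul_eq_zero_of_mem _ hmem

end Find

end Groth.Agent.Lib.SmDivH8
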