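import Mathlib
import Groth.Agent.Lib.SmDiv4_helper8

set_option autoImplicit false

open TensorProduct KaehlerDifferential IsLocalRing

universe u

namespace Groth.Agent.Lib.SmDivH8

/-- elements of `I • Ω` die in `K ⊗ Ω` when `I` maps to zero in `K`. -/
theorem one_tmul_eq_zero_of_mem' {T K : Type u} [CommRing T] [CommRing K] [Algebra T K]
    {M : Type u} [AddCommGroup M] [Module T M] (I : Ideal T)
    (hI : ∀ j ∈ I, algebraMap T K j = 0) (ω : M)
    (hω : ω ∈ I • (⊤ : Submodule T M)) : (1 : K) ⊗ₜ[T] ω = 0 := by
  refine Submodule.smul_induction_on hω (fun j hj n _ => ?_) (fun x y hx hy => ?_)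
  · rw [← TensorProduct.smul_tmul, Algebra.smul_def, mul_one, hI j hj, TensorProduct.zero_tmul]
  · rw [TensorProduct.tmul_add, hx, hy, add_zero]

/-- the residue field as a quotient. -/
abbrev Kk (R : Type u) [CommRing R] [IsLocalRing R] : Type u := R ⧸ maximalIdeal R

/-- the fibre ring `A / 𝔪_R A`. -/
abbrev FibRing (R A : Type u) [CommRing R] [CommRing A] [IsLocalRing R] [Algebra R A] : Type u :=
  A ⧸ (maximalIdeal R).map (algebraMap R A)

set_option maxHeartbeats 1000000 in
/-- separable residue field extension and nonzero maximal ideal of the fibre ring give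
`h ∈ 𝔪` with `dh ∉ 𝔪 Ω`. -/
theorem exists_of_formallySmooth_residue {R A : Type u} [CommRing R] [CommRing A] [IsLocalRing R]
    [IsLocalRing A] [Algebra R A] [IsLocalHom (algebraMap R A)] [Algebra.FormallySmooth R A]
    [Algebra.EssFiniteType R A]
    (hsep : Algebra.FormallySmooth (ResidueField R) (ResidueField A))
    (hgen : ∃ a ∈ maximalIdeal A, a ∉ (maximalIdeal R).map (algebraMap R A)) :
    ∃ h ∈ maximalIdeal A, D R A h ∉ maximalIdeal A • (⊤ : Submodule A (Ω[A⁄R])) := by
  classical
  have hJle : (maximalIdeal R).map (algebraMap R A) ≤ maximalIdeal A :=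
    ((IsLocalRing.local_hom_TFAE (algebraMap R A)).out 0 2).mp
      (inferInstance : IsLocalHom (algebraMap R A))
  letI : Field (Kk R) := Ideal.Quotient.field (maximalIdeal R)
  haveI : Algebra.FormallySmooth (Kk R) (FibRing R A) :=
    Algebra.FormallySmooth.of_equiv
      (Algebra.TensorProduct.quotIdealMapEquivQuotTensor A (maximalIdeal R)).symm
  haveI : IsNoetherianRing (FibRing R A) := Algebra.EssFiniteType.isNoetherianRing (Kk R) _
  letI algkκ : Algebra (Kk R) (ResidueField A) := ResidueField.instAlgebra
  haveI : Algebra.FormallySmooth (Kk R) (ResidueField A) := hsep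
  letI algTκ : Algebra (FibRing R A) (ResidueField A) :=
    (Ideal.Quotient.lift ((maximalIdeal R).map (algebraMap R A)) (residue A) (fun a ha =>
      (residue_eq_zero_iff a).mpr (hJle ha))).toAlgebra
  haveI : IsScalarTower (Kk R) (FibRing R A) (ResidueField A) := by
    refine IsScalarTower.of_algebraMap_eq fun c => ?_
    obtain ⟨r, rfl⟩ := Ideal.Quotient.mk_surjective c
    rfl
  have hsurj : Function.Surjective (algebraMap (FibRing R A) (ResidueField A)) := by
    intro c
    obtain ⟨a, rfl⟩ := residue_surjective c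
    exact ⟨Ideal.Quotient.mk _ a, rfl⟩
  obtain ⟨l, hl⟩ := (Algebra.FormallySmooth.iff_split_injection (R := Kk R) (P := FibRing R A)
    (A := ResidueField A) hsurj).mp inferInstance
  have hinj : Function.Injective (kerCotangentToTensor (Kk R) (FibRing R A) (ResidueField A)) := by
    intro c₁ c₂ hc
    have := congrArg l hc
    rwa [← LinearMap.comp_apply, ← LinearMap.comp_apply, hl] at this
  -- the fibre ring is local, its maximal ideal is not idempotent
  haveI : Nontrivial (FibRing R A) :=
    Ideal.Quotient.nontrivial_iff.mpr (fun htop => (maximalIdeal.isMaximal A).ne_top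
      (top_le_iff.mp (htop ▸ hJle)))
  haveI : IsLocalRing (FibRing R A) :=
    IsLocalRing.of_surjective' (Ideal.Quotient.mk ((maximalIdeal R).map (algebraMap R A)))
      Ideal.Quotient.mk_surjective
  set I : Ideal (FibRing R A) := RingHom.ker (algebraMap (FibRing R A) (ResidueField A)) with hI
  have hIle : I ≤ Ideal.jacobson ⊥ := by
    rw [IsLocalRing.jacobson_eq_maximalIdeal ⊥ bot_ne_top]
    exact IsLocalRing.le_maximalIdeal (RingHom.ker_ne_top _)
  have hnt : ¬ Subsingleton I.Cotangent := by
    intro hss
    have hidem : IsIdempotentElem I := (Ideal.cotangent_subsingleton_iff I).mp hss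
    have hbot : I = ⊥ := by
      refine Submodule.eq_bot_of_le_smul_of_le_jacobson_bot I I (IsNoetherian.noetherian I) ?_ hIle
      have h1 : I * I = I := hidem
      rw [smul_eq_mul, h1]
    obtain ⟨a, ham, haJ⟩ := hgen
    have h2 : Ideal.Quotient.mk ((maximalIdeal R).map (algebraMap R A)) a ∈ I := by
      rw [hI, RingHom.mem_ker]
      exact (residue_eq_zero_iff a).mpr ham
    rw [hbot, Ideal.mem_bot, Ideal.Quotient.eq_zero_iff_mem] at h2
    exact haJ h2
  rw [not_subsingleton_iff_nontrivial] at hnt
  obtain ⟨c, hc⟩ := exists_ne (0 : I.Cotangent)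
  obtain ⟨⟨t₁, ht₁⟩, rfl⟩ := Ideal.toCotangent_surjective _ c
  obtain ⟨h, rfl⟩ := Ideal.Quotient.mk_surjective t₁
  have hm : h ∈ maximalIdeal A := by
    have : algebraMap (FibRing R A) (ResidueField A) (Ideal.Quotient.mk _ h) = 0 := ht₁
    exact (residue_eq_zero_iff h).mp this
  refine ⟨h, hm, fun hmem => hc ?_⟩
  apply hinj
  rw [map_zero, KaehlerDifferential.kerCotangentToTensor_toCotangent]
  refine one_tmul_eq_zero_of_mem' I (fun j hj => hj) _ ?_
  have key : ∀ ω ∈ maximalIdeal A • (⊤ : Submodule A (Ω[A⁄R])),
      KaehlerDifferential.map R (Kk R) A (FibRing R A) ω ∈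
        I • (⊤ : Submodule (FibRing R A) (Ω[FibRing R A⁄Kk R])) := by
    intro ω hω
    refine Submodule.smul_induction_on hω (fun b hb n _ => ?_)
      (fun y z hy hz => by rw [map_add]; exact Submodule.add_mem _ hy hz)
    rw [map_smul, ← algebraMap_smul (FibRing R A) b]
    refine Submodule.smul_mem_smul ?_ Submodule.mem_top
    rw [hI, RingHom.mem_ker]
    exact (residue_eq_zero_iff b).mpr hb
  have := key _ hmem
  rwa [KaehlerDifferential.map_D] at this

/-- the canonical algebra structure on residue fields is the one induced by `ResidueField.map`. -/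
theorem instAlgebra_eq {R A : Type u} [CommRing R] [CommRing A] [IsLocalRing R] [IsLocalRing A]
    [Algebra R A] [IsLocalHom (algebraMap R A)] :
    (ResidueField.instAlgebra : Algebra (ResidueField R) (ResidueField A)) =
      (ResidueField.map (algebraMap R A)).toAlgebra := by
  apply Algebra.algebra_ext
  intro r
  rfl

end Groth.Agent.Lib.SmDivH8
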