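import Mathlib
import Groth.Agent.Lib.SmDiv4b_helper8

/-!
# Smooth effective Cartier divisors through a point: separable residue field
-/

set_option autoImplicit false

namespace Groth.Agent.Lib.SmDivH8

open TensorProduct KaehlerDifferential IsLocalRing AlgebraicGeometry CategoryTheory Limits

universe u

set_option backward.isDefEq.respectTransparency false in
set_option maxHeartbeats 1000000 in
theorem main9724 {X S : Scheme.{u}} (f : X ⟶ S) (x : X) (W : X.Opens) (hxW : x ∈ W)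
    (hW : Smooth (W.ι ≫ f))
    (hsep : letI := (f.residueFieldMap x).hom.toAlgebra
      Algebra.FormallySmooth (S.residueField (f x)) (X.residueField x))
    (hgen : maximalIdeal ↑((f.fiber (f x)).presheaf.stalk (f.asFiber x)) ≠ ⊥) :
    ∃ (U : X.Opens) (hU : IsAffineOpen U) (hx : x ∈ U) (h' : Γ(X, U)),
      h' ∈ nonZeroDivisors Γ(X, U) ∧
      X.presheaf.germ U x hx h' ∈ maximalIdeal ↑(X.presheaf.stalk x) ∧
      Smooth (Spec.map (CommRingCat.ofHom (Ideal.Quotient.mk (Ideal.span {h'}))) ≫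
        hU.fromSpec ≫ f) := by
  haveI : Smooth (W.ι ≫ f) := hW
  letI a1 : Algebra ↑(S.presheaf.stalk (f x)) ↑(X.presheaf.stalk x) :=
    (f.stalkMap x).hom.toAlgebra
  haveI : IsLocalHom (algebraMap ↑(S.presheaf.stalk (f x)) ↑(X.presheaf.stalk x)) :=
    inferInstanceAs (IsLocalHom (f.stalkMap x).hom)
  have hcomp := Scheme.Hom.stalkMap_comp W.ι f (⟨x, hxW⟩ : W.toScheme)
  haveI hiso : @IsIso CommRingCat _ (X.presheaf.stalk x) _ (W.ι.stalkMap (⟨x, hxW⟩ : W.toScheme)) :=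
    (inferInstance : IsIso (W.ι.stalkMap (⟨x, hxW⟩ : W.toScheme)))
  haveI : Algebra.FormallySmooth ↑(S.presheaf.stalk (f x)) ↑(X.presheaf.stalk x) := by
    have h0 : (⟨x, hxW⟩ : W.toScheme) ∈ (W.ι ≫ f).smoothLocus := by
      rw [Scheme.Hom.smoothLocus_eq_top]; trivial
    have h1 : ((W.ι ≫ f).stalkMap ⟨x, hxW⟩).hom.FormallySmooth := h0
    rw [hcomp] at h1
    exact (RingHom.FormallySmooth.respectsIso.cancel_right_isIso (f.stalkMap x)
      (W.ι.stalkMap ⟨x, hxW⟩)).mp h1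
  haveI : Algebra.EssFiniteType ↑(S.presheaf.stalk (f x)) ↑(X.presheaf.stalk x) := by
    have h1 : ((W.ι ≫ f).stalkMap ⟨x, hxW⟩).hom.EssFiniteType :=
      LocallyOfFiniteType.stalkMap (W.ι ≫ f) ⟨x, hxW⟩
    rw [hcomp] at h1
    exact (RingHom.EssFiniteType.respectsIso.cancel_right_isIso (f.stalkMap x)
      (W.ι.stalkMap ⟨x, hxW⟩)).mp h1
  have hsep' : Algebra.FormallySmooth (ResidueField ↑(S.presheaf.stalk (f x)))
      (ResidueField ↑(X.presheaf.stalk x)) := by
    rw [instAlgebra_eq]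
    exact hsep
  have hgen' : ∃ a ∈ maximalIdeal ↑(X.presheaf.stalk x),
      a ∉ (maximalIdeal ↑(S.presheaf.stalk (f x))).map
        (algebraMap ↑(S.presheaf.stalk (f x)) ↑(X.presheaf.stalk x)) := by
    obtain ⟨t, ht, ht0⟩ := Submodule.exists_mem_ne_zero_of_ne_bot hgen
    obtain ⟨a, rfl⟩ := Groth.Agent.FibStalkIso.toFib_surjective f x t
    refine ⟨a, ?_, fun haJ => ht0 ?_⟩
    · rw [mem_maximalIdeal, mem_nonunits_iff] at ht ⊢
      exact fun hu => ht (hu.map _)
    · have : a ∈ RingHom.ker (FibRedH8.toFib f x).hom := by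
        rw [Groth.Agent.FibStalkIso.ker_toFib]
        exact haJ
      exact this
  obtain ⟨h, hm, hd⟩ := exists_of_formallySmooth_residue hsep' hgen'
  obtain ⟨U, hU, hx, h', hg, hnzd, hsm⟩ := main9725 f W x hxW hW h hm hd
  exact ⟨U, hU, hx, h', hnzd, hg ▸ hm, hsm⟩

end Groth.Agent.Lib.SmDivH8
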