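import Mathlib

/-!
# Algebra for "smooth iff lifting along small extensions of Artinian local rings" (helper3)

* `finiteType_of_residue`: a local ring `A` with finitely generated nilpotent maximal ideal whose
  residue field is (a quotient of) a finite type `R`-algebra is of finite type over `R`.
* `exists_generator_of_length_one`: an ideal of length one in a local ring is generated by one
  element killed by the maximal ideal.
APPEND-ONLY once landed.
-/

set_option autoImplicit false
set_option linter.style.haveILetI false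

namespace Groth.Agent.Lib.SmExtSmH3

open IsLocalRing MvPolynomial

theorem finiteType_of_residue {R A K T : Type*} [CommRing R] [CommRing A] [CommRing K] [CommRing T]
    [IsLocalRing A] (ρ : R →+* A) (hfg : (maximalIdeal A).FG)
    (hnil : ∃ N : ℕ, maximalIdeal A ^ N = ⊥)
    (q : A →+* K) (hq : Function.Surjective q) (hker : RingHom.ker q ≤ maximalIdeal A)
    (τ : R →+* T) (hτ : τ.FiniteType) (t : T →+* K) (ht : Function.Surjective t)
    (hcomm : q.comp ρ = t.comp τ) : ρ.FiniteType := by
  classical
  letI algA : Algebra R A := ρ.toAlgebra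
  letI algT : Algebra R T := τ.toAlgebra
  have hτ' : Algebra.FiniteType R T := hτ
  obtain ⟨m, π, hπ⟩ := Algebra.FiniteType.iff_quotient_mvPolynomial''.mp hτ'
  obtain ⟨l, g, hg⟩ := Submodule.fg_iff_exists_fin_generating_family.1 hfg
  have hgm : ∀ j, g j ∈ maximalIdeal A := fun j => hg ▸ Submodule.subset_span ⟨j, rfl⟩
  choose a ha using fun i => hq (t (π (X i)))
  obtain ⟨η, hη⟩ : ∃ η : MvPolynomial (Fin m ⊕ Fin l) R →ₐ[R] A,
      η = MvPolynomial.aeval (Sum.elim a g) := ⟨_, rfl⟩
  have hηl : ∀ i, η (X (Sum.inl i)) = a i := fun i => by rw [hη, aeval_X]; rfl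
  have hηr : ∀ j, η (X (Sum.inr j)) = g j := fun j => by rw [hη, aeval_X]; rfl
  -- step 1: surjectivity modulo the maximal ideal
  have h1 : ∀ y : A, ∃ p, y - η p ∈ maximalIdeal A := by
    intro y
    obtain ⟨u, hu⟩ := ht (q y)
    obtain ⟨P, rfl⟩ := hπ u
    refine ⟨rename Sum.inl P, hker ?_⟩
    have hcomp : (q.comp ((η : _ →+* A).comp (rename Sum.inl : MvPolynomial (Fin m) R →ₐ[R]
        MvPolynomial (Fin m ⊕ Fin l) R).toRingHom)) = t.comp (π : _ →+* T) := by
      apply MvPolynomial.ringHom_ext
      · intro r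
        show q (η (rename Sum.inl (C r))) = t (π (C r))
        rw [rename_C, ← MvPolynomial.algebraMap_eq, ← MvPolynomial.algebraMap_eq,
          AlgHom.commutes, AlgHom.commutes]
        exact RingHom.congr_fun hcomm r
      · intro i
        show q (η (rename Sum.inl (X i))) = t (π (X i))
        rw [rename_X, hηl, ha]
    have h2 : q (η (rename Sum.inl P)) = t (π P) := RingHom.congr_fun hcomp P
    rw [RingHom.mem_ker, map_sub, h2, hu, sub_self]
  -- step 2
  have h2 : ∀ k : ℕ, ∀ y ∈ maximalIdeal A ^ k, ∃ p, y - η p ∈ maximalIdeal A ^ (k + 1) := by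
    intro k
    induction k with
    | zero =>
      intro y _
      obtain ⟨p, hp⟩ := h1 y
      exact ⟨p, by rwa [zero_add, pow_one]⟩
    | succ k ih =>
      intro y hy
      rw [pow_succ'] at hy
      refine Submodule.mul_induction_on hy ?_ ?_
      · intro u hu v hv
        rw [← hg] at hu
        obtain ⟨c, hc⟩ := (Submodule.mem_span_range_iff_exists_fun A).1 hu
        have hcv : ∀ j, ∃ p, c j * v - η p ∈ maximalIdeal A ^ (k + 1) := fun j =>
          ih _ (Ideal.mul_mem_left _ _ hv)
        choose p hp using hcv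
        refine ⟨∑ j, X (Sum.inr j) * p j, ?_⟩
        have h3 : u * v - η (∑ j, X (Sum.inr j) * p j) = ∑ j, g j * (c j * v - η (p j)) := by
          rw [map_sum, ← hc, Finset.sum_mul, ← Finset.sum_sub_distrib]
          refine Finset.sum_congr rfl fun j _ => ?_
          rw [map_mul, hηr, smul_eq_mul]
          ring
        rw [h3]
        refine Ideal.sum_mem _ fun j _ => ?_
        rw [pow_succ' (maximalIdeal A) (k + 1)]
        exact Ideal.mul_mem_mul (hgm j) (hp j)
      · intro y z ⟨p, hp⟩ ⟨p', hp'⟩
        refine ⟨p + p', ?_⟩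
        have h3 : y + z - η (p + p') = (y - η p) + (z - η p') := by rw [map_add]; ring
        rw [h3]
        exact Ideal.add_mem _ hp hp'
  -- step 3
  have h3 : ∀ k : ℕ, ∀ y : A, ∃ p, y - η p ∈ maximalIdeal A ^ k := by
    intro k
    induction k with
    | zero =>
      intro y
      exact ⟨0, by rw [pow_zero, Ideal.one_eq_top]; exact Submodule.mem_top⟩
    | succ k ih =>
      intro y
      obtain ⟨p, hp⟩ := ih y
      obtain ⟨p', hp'⟩ := h2 k _ hp
      refine ⟨p + p', ?_⟩
      have h4 : y - η (p + p') = y - η p - η p' := by rw [map_add]; ring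
      rw [h4]
      exact hp'
  obtain ⟨N, hN⟩ := hnil
  have hsurj : Function.Surjective η := by
    intro y
    obtain ⟨p, hp⟩ := h3 N y
    rw [hN, Ideal.mem_bot, sub_eq_zero] at hp
    exact ⟨p, hp.symm⟩
  exact Algebra.FiniteType.of_surjective η hsurj

theorem exists_generator_of_length_one {A : Type*} [CommRing A] [IsLocalRing A] (J : Ideal A)
    (hlen : Module.length A J = 1) :
    ∃ ε : A, J = Ideal.span {ε} ∧ ∀ m ∈ maximalIdeal A, ε * m = 0 := by
  haveI : IsSimpleModule A J := Module.length_eq_one_iff.1 hlen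
  haveI : Nontrivial J := IsSimpleModule.nontrivial A J
  obtain ⟨⟨ε, hε⟩, hne⟩ := exists_ne (0 : J)
  have hspan : ∀ z : J, z ≠ 0 → ∀ w : J, ∃ c : A, c • z = w := by
    intro z hz w
    have h1 : Submodule.span A {z} = ⊤ :=
      (eq_bot_or_eq_top _).resolve_left (fun h => hz (Submodule.span_singleton_eq_bot.1 h))
    have h2 : w ∈ Submodule.span A {z} := h1 ▸ Submodule.mem_top
    exact Submodule.mem_span_singleton.1 h2
  refine ⟨ε, ?_, ?_⟩
  · apply le_antisymm
    · intro j hj
      obtain ⟨c, hc⟩ := hspan ⟨ε, hε⟩ hne ⟨j, hj⟩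
      rw [Ideal.mem_span_singleton']
      exact ⟨c, congrArg Subtype.val hc⟩
    · rw [Ideal.span_singleton_le_iff_mem]
      exact hε
  · intro m hm
    by_contra hne'
    have hz : (m • ⟨ε, hε⟩ : J) ≠ 0 := by
      intro h0
      apply hne'
      have := congrArg Subtype.val h0
      rw [mul_comm]
      exact this
    obtain ⟨c, hc⟩ := hspan _ hz ⟨ε, hε⟩
    have h1 : c * (m * ε) = ε := congrArg Subtype.val hc
    have h2 : (1 - c * m) * ε = 0 := by
      have : (1 - c * m) * ε = ε - c * (m * ε) := by ring
      rw [this, h1, sub_self]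
    have hu : IsUnit (1 - c * m) := by
      have h3 : c * m ∈ maximalIdeal A := Ideal.mul_mem_left _ _ hm
      by_contra hnu
      have h4 : (1 - c * m) ∈ maximalIdeal A := hnu
      have h5 : (1 : A) ∈ maximalIdeal A := by
        have := Ideal.add_mem _ h4 h3
        rwa [sub_add_cancel] at this
      exact (maximalIdeal.isMaximal A).ne_top ((Ideal.eq_top_iff_one _).2 h5)
    apply hne
    apply Subtype.ext
    show ε = 0
    exact (hu.mul_right_eq_zero).1 h2

end Groth.Agent.Lib.SmExtSmH3
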