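import Mathlib
import Groth.Agent.Lib.SmExtSm1_helper3
import Groth.Agent.Lib.SmallExt2_helper3
import Groth.Agent.Lib.SmoothReg_helper3
import Groth.Agent.Lib.StalkSmooth_helper3
import Groth.Agent.Lib.LocalLift_helper4
import Groth.Agent.Lib.SmoothFib_helper4

/-!
# Smooth iff lifting along small extensions of Artinian local rings of finite type (helper3)

* `fromSpecStalk_cancel`, `exists_of_closedPoint`: morphisms from a local scheme versus local
  homomorphisms from the stalk.
* `smallLift_stalk`: the scheme-level small lifting property gives the small lifting property of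
  `O_{S,f x} → O_{X,x}` at points `x` closed in an affine open.
* `smooth_of_schemeSmallLift`, `main1417`.
APPEND-ONLY once landed.
-/

set_option autoImplicit false
set_option linter.style.haveILetI false

namespace Groth.Agent.Lib.SmExtSmH3

open AlgebraicGeometry CategoryTheory IsLocalRing

universe u

section Cancel

variable {X : Scheme.{u}}

theorem fromSpecStalk_cancel (x : X) {R : CommRingCat.{u}} [IsLocalRing R]
    (φ₁ φ₂ : X.presheaf.stalk x ⟶ R) (h₁ : IsLocalHom φ₁.hom) (h₂ : IsLocalHom φ₂.hom)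
    (h : Spec.map φ₁ ≫ X.fromSpecStalk x = Spec.map φ₂ ≫ X.fromSpecStalk x) : φ₁ = φ₂ := by
  have h0 := (SpecToEquivOfLocalRing X R).symm.injective
    (a₁ := ⟨x, φ₁, h₁⟩) (a₂ := ⟨x, φ₂, h₂⟩) h
  have h2 := (Sigma.mk.inj_iff.1 h0).2
  exact congrArg Subtype.val (eq_of_heq h2)

theorem exists_of_closedPoint (x : X) {R : CommRingCat.{u}} [IsLocalRing R] (γ : Spec R ⟶ X)
    (hγ : γ (closedPoint R) = x) :
    ∃ χ : X.presheaf.stalk x ⟶ R, IsLocalHom χ.hom ∧ Spec.map χ ≫ X.fromSpecStalk x = γ := by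
  subst hγ
  exact ⟨Scheme.stalkClosedPointTo γ, inferInstance,
    Scheme.Spec_stalkClosedPointTo_fromSpecStalk γ⟩

end Cancel

variable {X S : Scheme.{u}} (f : X ⟶ S)

/-- The scheme-level lifting property along small extensions of Artinian local rings of finite
type over the base. -/
def SchemeSmallLift : Prop :=
  ∀ (B B' : Type u) [CommRing B] [CommRing B'] [IsArtinianRing B] [IsArtinianRing B']
    [IsLocalRing B] [IsLocalRing B'] (φ : B' →+* B) (ε : B'), Function.Surjective φ →
    RingHom.ker φ = Ideal.span {ε} → (∀ m ∈ IsLocalRing.maximalIdeal B', ε * m = 0) →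
    ∀ (α : Spec (CommRingCat.of B) ⟶ X) (β : Spec (CommRingCat.of B') ⟶ S),
      LocallyOfFiniteType β →
      Spec.map (CommRingCat.ofHom φ) ≫ β = α ≫ f →
      ∃ γ : Spec (CommRingCat.of B') ⟶ X,
        Spec.map (CommRingCat.ofHom φ) ≫ γ = α ∧ γ ≫ f = β

theorem germ_residue_surjective {U : X.Opens} (hU : IsAffineOpen U) (x : X) (hx : x ∈ U)
    (hmax : (hU.primeIdealOf ⟨x, hx⟩).asIdeal.IsMaximal) (b : X.presheaf.stalk x) :
    ∃ u : Γ(X, U), b - (X.presheaf.germ U x hx).hom u ∈ maximalIdeal (X.presheaf.stalk x) := by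
  letI := X.presheaf.algebra_section_stalk ⟨x, hx⟩
  haveI := hU.isLocalization_stalk ⟨x, hx⟩
  haveI := hmax
  obtain ⟨z, hz⟩ := (IsLocalization.AtPrime.equivQuotMaximalIdeal
    (hU.primeIdealOf ⟨x, hx⟩).asIdeal (X.presheaf.stalk x)).surjective (Ideal.Quotient.mk _ b)
  obtain ⟨u, rfl⟩ := Ideal.Quotient.mk_surjective z
  refine ⟨u, ?_⟩
  rw [IsLocalization.AtPrime.equivQuotMaximalIdeal_apply_mk] at hz
  exact Ideal.Quotient.eq.1 hz.symm

theorem stalkMap_germ_appLE {V : S.Opens} {U : X.Opens} (e : U ≤ f ⁻¹ᵁ V) (x : X) (hx : x ∈ U)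
    (c : Γ(S, V)) :
    (f.stalkMap x).hom ((S.presheaf.germ V (f.base x) (e hx)).hom c) =
      (X.presheaf.germ U x hx).hom ((f.appLE V U e).hom c) := by
  show f.stalkMap x (S.presheaf.germ V (f x) (e hx) c) =
    X.presheaf.germ U x hx ((f.appLE V U e) c)
  rw [Scheme.Hom.germ_stalkMap_apply, Scheme.Hom.appLE, CommRingCat.comp_apply]
  exact (TopCat.Presheaf.germ_res_apply X.presheaf (homOfLE e) x hx _).symm

end Groth.Agent.Lib.SmExtSmH3
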