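import Mathlib
import Groth.Agent.Lib.SmExtSm2_helper3

/-!
# Smooth iff lifting along small extensions of Artinian local rings of finite type, II (helper3)

* `smallLift_stalk`: the scheme-level small lifting property gives the small lifting property of
  `O_{S,f x} → O_{X,x}` at points `x` closed in an affine open.
APPEND-ONLY once landed.
-/

set_option autoImplicit false
set_option linter.style.haveILetI false

namespace Groth.Agent.Lib.SmExtSmH3

open AlgebraicGeometry CategoryTheory IsLocalRing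

universe u

variable {X S : Scheme.{u}} (f : X ⟶ S)

theorem smallLift_stalk [LocallyOfFiniteType f] (H : SchemeSmallLift f) (x : X)
    {V : S.Opens} (hV : IsAffineOpen V) {U : X.Opens} (hU : IsAffineOpen U) (e : U ≤ f ⁻¹ᵁ V)
    (hx : x ∈ U) (hmax : (hU.primeIdealOf ⟨x, hx⟩).asIdeal.IsMaximal) :
    letI : Algebra (S.presheaf.stalk (f.base x)) (X.presheaf.stalk x) :=
      (f.stalkMap x).hom.toAlgebra
    Groth.Agent.Lib.SmallExtH3.SmallLift (S.presheaf.stalk (f.base x)) (X.presheaf.stalk x) := by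
  letI alg : Algebra (S.presheaf.stalk (f.base x)) (X.presheaf.stalk x) :=
    (f.stalkMap x).hom.toAlgebra
  intro A _ _ _ _ _ J hJ hlen _ ψ _ hbij
  obtain ⟨ε, hJε, hεm⟩ := exists_generator_of_length_one J hlen
  have hxV : f.base x ∈ V := e hx
  have hψalg : ∀ a : S.presheaf.stalk (f.base x),
      ψ ((f.stalkMap x).hom a) = Ideal.Quotient.mk J (algebraMap _ A a) := fun a => ψ.commutes a
  -- the structure map of `A` over the chart is of finite type
  obtain ⟨ρ, hρ⟩ : ∃ ρ : Γ(S, V) →+* A, ρ = (algebraMap (S.presheaf.stalk (f.base x)) A).comp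
      (S.presheaf.germ V (f.base x) hxV).hom := ⟨_, rfl⟩
  have hρft : ρ.FiniteType := by
    refine finiteType_of_residue ρ (IsNoetherian.noetherian _) ?_
      ((residue (A ⧸ J)).comp (Ideal.Quotient.mk J)) ?_ ?_ (f.appLE V U e).hom
      (f.finiteType_appLE hV hU e)
      ((residue (A ⧸ J)).comp (ψ.toRingHom.comp (X.presheaf.germ U x hx).hom)) ?_ ?_
    · obtain ⟨N, hN⟩ := IsArtinianRing.isNilpotent_jacobson_bot (R := A)
      rw [IsLocalRing.jacobson_eq_maximalIdeal ⊥ bot_ne_top] at hN
      exact ⟨N, hN⟩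
    · exact (residue_surjective).comp Ideal.Quotient.mk_surjective
    · intro a ha
      rw [RingHom.mem_ker, RingHom.comp_apply, residue_eq_zero_iff] at ha
      rw [mem_maximalIdeal, mem_nonunits_iff] at ha ⊢
      exact fun hu => ha (hu.map _)
    · intro k
      obtain ⟨k', rfl⟩ := hbij.2 k
      obtain ⟨b, rfl⟩ := residue_surjective k'
      obtain ⟨u, hu⟩ := germ_residue_surjective hU x hx hmax b
      refine ⟨u, ?_⟩
      have h1 : residue _ b = residue _ ((X.presheaf.germ U x hx).hom u) := by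
        rw [← sub_eq_zero, ← map_sub, residue_eq_zero_iff]
        exact hu
      rw [h1, ResidueField.map_residue]
      rfl
    · apply RingHom.ext
      intro r
      show residue (A ⧸ J) (Ideal.Quotient.mk J (ρ r)) =
        residue (A ⧸ J) (ψ ((X.presheaf.germ U x hx).hom ((f.appLE V U e).hom r)))
      rw [← stalkMap_germ_appLE f e x hx r, hψalg, hρ]
      rfl
  -- the two morphisms
  obtain ⟨α, hα⟩ : ∃ α : Spec (CommRingCat.of (A ⧸ J)) ⟶ X,
      α = Spec.map (CommRingCat.ofHom ψ.toRingHom) ≫ X.fromSpecStalk x := ⟨_, rfl⟩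
  obtain ⟨β, hβ⟩ : ∃ β : Spec (CommRingCat.of A) ⟶ S,
      β = Spec.map (CommRingCat.ofHom (algebraMap (S.presheaf.stalk (f.base x)) A)) ≫
        S.fromSpecStalk (f.base x) := ⟨_, rfl⟩
  have hβft : LocallyOfFiniteType β := by
    have h1 : β = Spec.map (CommRingCat.ofHom ρ) ≫ hV.fromSpec := by
      rw [hβ, ← hV.fromSpecStalk_eq_fromSpecStalk hxV, IsAffineOpen.fromSpecStalk,
        ← Category.assoc, ← Spec.map_comp, hρ]
      rfl
    rw [h1]
    haveI : LocallyOfFiniteType (Spec.map (CommRingCat.ofHom ρ)) :=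
      (HasRingHomProperty.Spec_iff (P := @LocallyOfFiniteType)).2 hρft
    infer_instance
  have hcomm : Spec.map (CommRingCat.ofHom (Ideal.Quotient.mk J)) ≫ β = α ≫ f := by
    rw [hα, hβ, Category.assoc, ← Scheme.SpecMap_stalkMap_fromSpecStalk, ← Category.assoc,
      ← Category.assoc, ← Spec.map_comp, ← Spec.map_comp]
    congr 2
    ext a
    exact (hψalg a).symm
  obtain ⟨γ, hγ1, hγ2⟩ := H (A ⧸ J) A (Ideal.Quotient.mk J) ε Ideal.Quotient.mk_surjective
    (by rw [Ideal.mk_ker, hJε]) hεm α β hβft hcomm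
  -- the closed point goes to `x`
  have hγx : γ.base (closedPoint A) = x := by
    have h1 : (Spec.map (CommRingCat.ofHom (Ideal.Quotient.mk J))).base (closedPoint (A ⧸ J)) =
        closedPoint A :=
      Groth.Agent.Lib.LocalLiftH4.spec_closedPoint (Ideal.Quotient.mk J)
        Ideal.Quotient.mk_surjective
    have h2 : γ.base (closedPoint A) =
        (Spec.map (CommRingCat.ofHom (Ideal.Quotient.mk J)) ≫ γ).base (closedPoint (A ⧸ J)) := by
      rw [Scheme.Hom.comp_base, TopCat.comp_app, h1]
    rw [h2, hγ1, hα, Scheme.Hom.comp_base, TopCat.comp_app]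
    have h3 : (Spec.map (CommRingCat.ofHom ψ.toRingHom)).base (closedPoint (A ⧸ J)) =
        closedPoint (X.presheaf.stalk x) := IsLocalRing.comap_closedPoint ψ.toRingHom
    rw [h3]
    exact Scheme.fromSpecStalk_closedPoint
  haveI : IsLocalRing (CommRingCat.of A) := ‹IsLocalRing A›
  haveI : IsLocalRing (CommRingCat.of (A ⧸ J)) := ‹IsLocalRing (A ⧸ J)›
  obtain ⟨χ, hχloc, hχ⟩ := exists_of_closedPoint x (R := CommRingCat.of A) γ hγx
  haveI := hχloc
  haveI hmkloc : IsLocalHom (Ideal.Quotient.mk J) :=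
    IsLocalHom.of_surjective _ Ideal.Quotient.mk_surjective
  have h_mk : χ ≫ CommRingCat.ofHom (Ideal.Quotient.mk J) = CommRingCat.ofHom ψ.toRingHom := by
    refine fromSpecStalk_cancel x (R := CommRingCat.of (A ⧸ J)) _ _ ?_ ?_ ?_
    · show IsLocalHom ((Ideal.Quotient.mk J).comp χ.hom)
      exact RingHom.isLocalHom_comp _ _
    · show IsLocalHom ψ.toRingHom
      infer_instance
    · rw [Spec.map_comp, Category.assoc, hχ, hγ1, hα]
  have h_alg : f.stalkMap x ≫ χ =
      CommRingCat.ofHom (algebraMap (S.presheaf.stalk (f.base x)) A) := by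
    refine fromSpecStalk_cancel (f.base x) (R := CommRingCat.of A) _ _ ?_ ?_ ?_
    · show IsLocalHom (χ.hom.comp (f.stalkMap x).hom)
      exact RingHom.isLocalHom_comp _ _
    · show IsLocalHom (algebraMap (S.presheaf.stalk (f.base x)) A)
      infer_instance
    · rw [Spec.map_comp, Category.assoc, Scheme.SpecMap_stalkMap_fromSpecStalk,
        ← Category.assoc, hχ, hγ2, hβ]
  refine ⟨{ χ.hom with commutes' := fun a => ?_ }, ?_⟩
  · exact congrArg (fun g => g.hom a) h_alg
  · apply AlgHom.ext
    intro b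
    exact congrArg (fun g => g.hom b) h_mk

end Groth.Agent.Lib.SmExtSmH3
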