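import Mathlib
import Groth.Agent.Lib.SmExtSm3_helper3

/-!
# Smooth iff lifting along small extensions of Artinian local rings of finite type, III (helper3)

* `mem_smoothLocus_of_closed`, `smooth_of_schemeSmallLift`, `schemeSmallLift_of_smooth`,
  `main1417`.
APPEND-ONLY once landed.
-/

set_option autoImplicit false
set_option linter.style.haveILetI false

namespace Groth.Agent.Lib.SmExtSmH3

open AlgebraicGeometry CategoryTheory IsLocalRing

universe u

variable {X S : Scheme.{u}} (f : X ⟶ S)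

theorem mem_smoothLocus_of_closed [IsLocallyNoetherian S] [LocallyOfFiniteType f]
    (H : SchemeSmallLift f) (x : X)
    {V : S.Opens} (hV : IsAffineOpen V) {U : X.Opens} (hU : IsAffineOpen U) (e : U ≤ f ⁻¹ᵁ V)
    (hx : x ∈ U) (hmax : (hU.primeIdealOf ⟨x, hx⟩).asIdeal.IsMaximal) : x ∈ f.smoothLocus := by
  haveI : IsLocallyNoetherian X := LocallyOfFiniteType.isLocallyNoetherian f
  letI alg : Algebra (S.presheaf.stalk (f.base x)) (X.presheaf.stalk x) :=
    (f.stalkMap x).hom.toAlgebra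
  haveI : IsLocalHom (algebraMap (S.presheaf.stalk (f.base x)) (X.presheaf.stalk x)) :=
    inferInstanceAs (IsLocalHom (f.stalkMap x).hom)
  have hadic := Groth.Agent.Lib.SmallExtH3.adic_of_smallLift
    (smallLift_stalk f H x hV hU e hx hmax)
  obtain ⟨m, g, hg⟩ := Groth.Agent.Lib.StalkSmoothH3.exists_poly_stalk f x
  have hfs : Algebra.FormallySmooth (S.presheaf.stalk (f.base x)) (X.presheaf.stalk x) :=
    Groth.Agent.Lib.SmoothRegH3.formallySmooth_of_adic_of_poly m g hg hadic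
  rw [Scheme.Hom.mem_smoothLocus]
  exact hfs

theorem smooth_of_schemeSmallLift [IsLocallyNoetherian S] [LocallyOfFiniteType f]
    (H : SchemeSmallLift f) : Smooth f := by
  rw [← Scheme.Hom.smoothLocus_eq_top_iff, ← top_le_iff]
  rintro x₀ -
  by_contra hx₀
  obtain ⟨_, ⟨V, hV, rfl⟩, hfxV, -⟩ :=
    S.isBasis_affineOpens.exists_subset_of_mem_open (Set.mem_univ (f.base x₀)) isOpen_univ
  obtain ⟨_, ⟨U, hU, rfl⟩, hx₀U, e⟩ :=
    X.isBasis_affineOpens.exists_subset_of_mem_open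
      (show x₀ ∈ (f ⁻¹ᵁ V : Set X) from hfxV) (f ⁻¹ᵁ V).2
  replace hx₀U : x₀ ∈ U := hx₀U
  replace e : U ≤ f ⁻¹ᵁ V := e
  replace hU : IsAffineOpen U := hU
  replace hV : IsAffineOpen V := hV
  -- the closed set of non-smooth points in `Spec Γ(X, U)`
  obtain ⟨Z, hZ⟩ : ∃ Z : Set (PrimeSpectrum Γ(X, U)),
      Z = hU.fromSpec.base ⁻¹' ((f.smoothLocus : Set X)ᶜ) := ⟨_, rfl⟩
  have hZc : IsClosed Z := by
    rw [hZ]
    exact (f.smoothLocus.2.isClosed_compl).preimage hU.fromSpec.continuous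
  obtain ⟨I, hI⟩ := (PrimeSpectrum.isClosed_iff_zeroLocus_ideal Z).1 hZc
  have hp₀ : hU.primeIdealOf ⟨x₀, hx₀U⟩ ∈ Z := by
    rw [hZ]
    show hU.fromSpec.base (hU.primeIdealOf ⟨x₀, hx₀U⟩) ∈ ((f.smoothLocus : Set X)ᶜ)
    rw [hU.fromSpec_primeIdealOf ⟨x₀, hx₀U⟩]
    exact hx₀
  have hItop : I ≠ ⊤ := by
    intro h
    rw [h] at hI
    rw [hI] at hp₀
    have := PrimeSpectrum.zeroLocus_empty_iff_eq_top.2 (rfl : (⊤ : Ideal Γ(X, U)) = ⊤)
    rw [this] at hp₀
    exact hp₀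
  obtain ⟨𝔫, h𝔫max, hI𝔫⟩ := Ideal.exists_le_maximal I hItop
  obtain ⟨p, hp⟩ : ∃ p : PrimeSpectrum Γ(X, U), p = ⟨𝔫, h𝔫max.isPrime⟩ := ⟨_, rfl⟩
  have hpZ : p ∈ Z := by
    rw [hI, PrimeSpectrum.mem_zeroLocus, hp]
    exact hI𝔫
  obtain ⟨x, hxdef⟩ : ∃ x : X, x = hU.fromSpec.base p := ⟨_, rfl⟩
  have hxU : x ∈ U := by
    have : x ∈ Set.range hU.fromSpec.base := ⟨p, hxdef.symm⟩
    rw [hU.range_fromSpec] at this
    exact this
  have hprime : hU.primeIdealOf ⟨x, hxU⟩ = p := by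
    apply hU.fromSpec.isOpenEmbedding.injective
    rw [hU.fromSpec_primeIdealOf ⟨x, hxU⟩]
    exact hxdef
  have hmax : (hU.primeIdealOf ⟨x, hxU⟩).asIdeal.IsMaximal := by
    rw [hprime, hp]
    exact h𝔫max
  have hxsm := mem_smoothLocus_of_closed f H x hV hU e hxU hmax
  rw [hZ] at hpZ
  have hpZ' : hU.fromSpec.base p ∈ ((f.smoothLocus : Set X)ᶜ) := hpZ
  rw [← hxdef] at hpZ'
  exact hpZ' hxsm

theorem schemeSmallLift_of_smooth [IsLocallyNoetherian S] [LocallyOfFiniteType f] [Smooth f] :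
    SchemeSmallLift f := by
  intro B B' _ _ _ _ _ _ φ ε hφ hker hεm α β _ hcomm
  have hx : α.base (closedPoint B) ∈ f.smoothLocus := by
    rw [Scheme.Hom.smoothLocus_eq_top]
    trivial
  have hεmem : ε ∈ maximalIdeal B' := by
    rw [mem_maximalIdeal, mem_nonunits_iff]
    intro hu
    have h1 : ε ∈ RingHom.ker φ := by rw [hker]; exact Ideal.mem_span_singleton_self ε
    have h2 : IsUnit (φ ε) := hu.map φ
    rw [RingHom.mem_ker.1 h1] at h2
    exact not_isUnit_zero h2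
  have hk : RingHom.ker φ ^ 2 = ⊥ := by
    rw [hker, Ideal.span_singleton_pow, Ideal.span_singleton_eq_bot, pow_two]
    exact hεm ε hεmem
  exact (Groth.Agent.Lib.LocalLiftH4.main5008 f (α.base (closedPoint B))).1 hx B B' φ hφ hk α β rfl
    hcomm

theorem main1417 [IsLocallyNoetherian S] [LocallyOfFiniteType f] :
    Smooth f ↔ SchemeSmallLift f :=
  ⟨fun _ => schemeSmallLift_of_smooth f, smooth_of_schemeSmallLift f⟩

end Groth.Agent.Lib.SmExtSmH3
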