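import Mathlib
import Groth.Agent.Lib.ComplIso_helper5
import Groth.Agent.Lib.CompleteNoeth_lead

set_option autoImplicit false
set_option maxHeartbeats 1000000
set_option linter.unusedVariables false
universe u

open Groth.Agent.Lib

namespace Groth.Agent.Lib.SmLiftFinH5

theorem lift_finite (V : Type u) [CommRing V] (I : Ideal V) (A C : Type u) [CommRing A]
    [Algebra V A] [Algebra.FormallySmooth V A] [IsNoetherianRing A]
    [CommRing C] [Algebra V C] [IsNoetherianRing C]
    (IA : Ideal A) (hIA : IA = I.map (algebraMap V A)) (IC : Ideal C)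
    (hIC : IC = I.map (algebraMap V C))
    (φ₀ : (A ⧸ IA) →ₐ[V] (C ⧸ IC)) (hφ₀ : φ₀.toRingHom.Finite) :
    ∃ φ : AdicCompletion IA A →ₐ[V] AdicCompletion IC C, φ.toRingHom.Finite ∧
      (AdicCompletion.evalOneₐ IC).toRingHom.comp φ.toRingHom =
        φ₀.toRingHom.comp (AdicCompletion.evalOneₐ IA).toRingHom := by
  classical
  have hfgA : IA.FG := IsNoetherian.noetherian _
  have hfgC : IC.FG := IsNoetherian.noetherian _
  -- Step 1: lift by formal smoothness
  obtain ⟨g, hg⟩ := Algebra.FormallySmooth.exists_adicCompletionEvalOneₐ_comp_eq (R := V) (I := IC)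
    (φ₀.comp (Ideal.Quotient.mkₐ V IA))
  have hg' : ∀ a, AdicCompletion.evalOneₐ IC (g a) = φ₀ (Ideal.Quotient.mk IA a) :=
    fun a => AlgHom.congr_fun hg a
  -- Step 2: the ideals upstairs
  obtain ⟨IAh, hIAh⟩ : ∃ IAh : Ideal (AdicCompletion IA A),
      IAh = IA.map (algebraMap A (AdicCompletion IA A)) := ⟨_, rfl⟩
  obtain ⟨ICh, hICh⟩ : ∃ ICh : Ideal (AdicCompletion IC C),
      ICh = IC.map (algebraMap C (AdicCompletion IC C)) := ⟨_, rfl⟩
  haveI : IsAdicComplete IAh (AdicCompletion IA A) := by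
    rw [hIAh]; exact AdicCompletion.isAdicComplete_self IA hfgA
  haveI : IsAdicComplete ICh (AdicCompletion IC C) := by
    rw [hICh]; exact AdicCompletion.isAdicComplete_self IC hfgC
  have hIAhV : IAh = I.map (algebraMap V (AdicCompletion IA A)) := by
    rw [hIAh, hIA, Ideal.map_map]; rfl
  have hIChV : ICh = I.map (algebraMap V (AdicCompletion IC C)) := by
    rw [hICh, hIC, Ideal.map_map]; rfl
  have hmapV : ∀ {X Y : Type u} [CommRing X] [CommRing Y] [Algebra V X] [Algebra V Y]
      (θ : X →ₐ[V] Y), (I.map (algebraMap V X)).map θ ≤ I.map (algebraMap V Y) := by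
    intro X Y _ _ _ _ θ
    rw [Ideal.map_le_iff_le_comap, Ideal.map_le_iff_le_comap]
    intro i hi
    show θ (algebraMap V X i) ∈ I.map (algebraMap V Y)
    rw [θ.commutes]
    exact Ideal.mem_map_of_mem _ hi
  have hgI : IA.map g ≤ ICh := by rw [hIA, hIChV]; exact hmapV g
  -- Step 3: the map of completions
  obtain ⟨φ', hφ'⟩ : ∃ φ' : AdicCompletion IA A →ₐ[V] AdicCompletion ICh (AdicCompletion IC C),
      φ' = ComplIsoH5.complMap g IA ICh hgI := ⟨_, rfl⟩
  have hφ'of : ∀ a, φ' (AdicCompletion.of IA A a) =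
      AdicCompletion.of ICh (AdicCompletion IC C) (g a) := by
    intro a; rw [hφ']; exact ComplIsoH5.complMap_of g IA ICh hgI a
  obtain ⟨φ, hφ⟩ : ∃ φ : AdicCompletion IA A →ₐ[V] AdicCompletion IC C,
      ∀ x, φ x = (AdicCompletion.ofAlgEquiv ICh).symm (φ' x) := by
    refine ⟨{ toRingHom := (AdicCompletion.ofAlgEquiv ICh).symm.toRingEquiv.toRingHom.comp
                φ'.toRingHom
              commutes' := fun v => ?_ }, fun x => rfl⟩
    show (AdicCompletion.ofAlgEquiv ICh).symm (φ' (algebraMap V (AdicCompletion IA A) v)) =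
      algebraMap V (AdicCompletion IC C) v
    rw [φ'.commutes]
    exact AdicCompletion.ofAlgEquiv_symm_of ICh (algebraMap V (AdicCompletion IC C) v)
  have hφof : ∀ a, φ (AdicCompletion.of IA A a) = g a := by
    intro a
    rw [hφ, hφ'of, AdicCompletion.ofAlgEquiv_symm_of]
  have hφI : IAh.map φ ≤ ICh := by rw [hIAhV, hIChV]; exact hmapV φ
  have hkerA : RingHom.ker (AdicCompletion.evalOneₐ IA).toRingHom = IAh := by
    rw [hIAh]; exact AdicCompletion.ker_evalOneₐ_eq_map IA hfgA
  have hkerC : RingHom.ker (AdicCompletion.evalOneₐ IC).toRingHom = ICh := by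
    rw [hICh]; exact AdicCompletion.ker_evalOneₐ_eq_map IC hfgC
  have hmemA : ∀ x, x ∈ IAh ↔ AdicCompletion.evalOneₐ IA x = 0 := by
    intro x; rw [← hkerA, RingHom.mem_ker]; rfl
  have hmemC : ∀ x, x ∈ ICh ↔ AdicCompletion.evalOneₐ IC x = 0 := by
    intro x; rw [← hkerC, RingHom.mem_ker]; rfl
  -- Step 4: compatibility
  have hcompat : ∀ x, AdicCompletion.evalOneₐ IC (φ x) = φ₀ (AdicCompletion.evalOneₐ IA x) := by
    intro x
    obtain ⟨a, ha⟩ := Ideal.Quotient.mk_surjective (AdicCompletion.evalOneₐ IA x)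
    have hx : x - AdicCompletion.of IA A a ∈ IAh := by
      rw [hmemA, map_sub, AdicCompletion.evalOneₐ_of, ← ha, sub_self]
    have h1 : AdicCompletion.evalOneₐ IC (φ (x - AdicCompletion.of IA A a)) = 0 :=
      (hmemC _).1 (hφI (Ideal.mem_map_of_mem φ hx))
    rw [map_sub, map_sub, sub_eq_zero] at h1
    rw [h1, hφof, hg', ha]
  refine ⟨φ, ?_, RingHom.ext fun x => hcompat x⟩
  -- Step 5: finiteness
  letI algAC : Algebra (AdicCompletion IA A) (AdicCompletion IC C) := φ.toRingHom.toAlgebra
  show Module.Finite (AdicCompletion IA A) (AdicCompletion IC C)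
  have hsmul : ∀ (r : AdicCompletion IA A) (m : AdicCompletion IC C), r • m = φ r * m :=
    fun r m => rfl
  have hφpow : ∀ n r, r ∈ IAh ^ n → φ r ∈ ICh ^ n := by
    intro n r hr
    have h1 : (IAh ^ n).map φ ≤ ICh ^ n := by
      rw [Ideal.map_pow]; exact Ideal.pow_right_mono hφI n
    exact h1 (Ideal.mem_map_of_mem φ hr)
  haveI : IsHausdorff IAh (AdicCompletion IC C) := by
    refine ⟨fun x hx => ?_⟩
    apply IsHausdorff.haus (inferInstance : IsHausdorff ICh (AdicCompletion IC C)) x
    intro n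
    have h2 := hx n
    rw [SModEq.zero] at h2 ⊢
    rw [smul_eq_mul, Ideal.mul_top]
    refine Submodule.smul_induction_on h2 ?_ ?_
    · intro r hr m _
      rw [hsmul]
      exact Ideal.mul_mem_right _ _ (hφpow n r hr)
    · intro y z hy hz
      exact Ideal.add_mem _ hy hz
  apply CompleteNoethLead.finite_of_hausdorff IAh
  -- `ICh ⊆ IAh • ⊤`
  have hmulN : ∀ (c x : AdicCompletion IC C),
      x ∈ (IAh • ⊤ : Submodule (AdicCompletion IA A) (AdicCompletion IC C)) →
      c * x ∈ (IAh • ⊤ : Submodule (AdicCompletion IA A) (AdicCompletion IC C)) := by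
    intro c x hx
    refine Submodule.smul_induction_on hx ?_ ?_
    · intro r hr m _
      have : c * (r • m) = r • (c * m) := by rw [hsmul, hsmul]; ring
      rw [this]
      exact Submodule.smul_mem_smul hr Submodule.mem_top
    · intro y z hy hz
      rw [mul_add]
      exact Submodule.add_mem _ hy hz
  have hICN : ∀ x ∈ ICh,
      x ∈ (IAh • ⊤ : Submodule (AdicCompletion IA A) (AdicCompletion IC C)) := by
    intro x hx
    rw [hIChV] at hx
    unfold Ideal.map at hx
    induction hx using Submodule.span_induction with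
    | mem y hy =>
      obtain ⟨i, hi, rfl⟩ := hy
      have h1 : algebraMap V (AdicCompletion IC C) i =
          (algebraMap V (AdicCompletion IA A) i) • (1 : AdicCompletion IC C) := by
        rw [hsmul, φ.commutes, mul_one]
      rw [h1]
      refine Submodule.smul_mem_smul ?_ Submodule.mem_top
      rw [hIAhV]
      exact Ideal.mem_map_of_mem _ hi
    | zero => exact Submodule.zero_mem _
    | add y z _ _ hy hz => exact Submodule.add_mem _ hy hz
    | smul c y _ hy => exact hmulN c y hy
  -- generators of the quotient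
  letI algQ : Algebra (A ⧸ IA) (C ⧸ IC) := φ₀.toRingHom.toAlgebra
  haveI : Module.Finite (A ⧸ IA) (C ⧸ IC) := hφ₀
  obtain ⟨k, c, hc⟩ := Module.Finite.exists_fin (R := A ⧸ IA) (M := C ⧸ IC)
  choose ĉ hĉ using fun i => AdicCompletion.evalOneₐ_surjective IC (c i)
  let F : (Fin k → AdicCompletion IA A) →ₗ[AdicCompletion IA A]
      (AdicCompletion IC C ⧸ (IAh • ⊤ : Submodule (AdicCompletion IA A) (AdicCompletion IC C))) :=
    (Submodule.mkQ _).comp (Fintype.linearCombination (AdicCompletion IA A) ĉ)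
  refine Module.Finite.of_surjective F ?_
  intro q
  obtain ⟨z, rfl⟩ := Submodule.mkQ_surjective _ q
  have hz : AdicCompletion.evalOneₐ IC z ∈ Submodule.span (A ⧸ IA) (Set.range c) := by
    rw [hc]; trivial
  obtain ⟨ā, hā⟩ := (Submodule.mem_span_range_iff_exists_fun (A ⧸ IA)).1 hz
  choose â hâ using fun i => AdicCompletion.evalOneₐ_surjective IA (ā i)
  refine ⟨â, ?_⟩
  show Submodule.mkQ _ (Fintype.linearCombination (AdicCompletion IA A) ĉ â) = Submodule.mkQ _ z
  rw [Submodule.mkQ_apply, Submodule.mkQ_apply, Submodule.Quotient.eq]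
  apply hICN
  rw [hmemC, map_sub, Fintype.linearCombination_apply, map_sum, ← hā, sub_eq_zero]
  refine Finset.sum_congr rfl fun i _ => ?_
  rw [hsmul, map_mul, hcompat, hâ, hĉ]
  rfl

end Groth.Agent.Lib.SmLiftFinH5
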