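import Mathlib

/-!
# The small-diagonal product identity under `h_i^2 + τ h_i = 0` (S14097)
-/

universe u

namespace Groth.Agent.Lib.SmallDiag

open Polynomial

variable {A : Type*} [CommRing A]

/-- `∏_{i<n} (X + h_i)` -/
noncomputable def Q (h : ℕ → A) (n : ℕ) : A[X] := ∏ i ∈ Finset.range n, (X + C (h i))

/-- `(Q(τ) - Q(0)) / τ` -/
noncomputable def E (τ : A) (h : ℕ → A) (n : ℕ) : A := (divX (Q h n)).eval τ

lemma Q_succ (h : ℕ → A) (n : ℕ) : Q h (n + 1) = Q h n * (X + C (h n)) :=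
  Finset.prod_range_succ _ _

lemma divX_mul_X_add_C (p : A[X]) (a : A) : divX (p * (X + C a)) = p + C a * divX p := by
  ext n
  rw [coeff_divX, mul_add, coeff_add, coeff_mul_X, mul_comm p (C a), coeff_C_mul, coeff_add,
    coeff_C_mul, coeff_divX]

lemma E_succ (τ : A) (h : ℕ → A) (n : ℕ) :
    E τ h (n + 1) = (Q h n).eval τ + h n * E τ h n := by
  unfold E
  rw [Q_succ, divX_mul_X_add_C, eval_add, eval_mul, eval_C]

lemma Q_coeff_zero (h : ℕ → A) (n : ℕ) : (Q h n).coeff 0 = ∏ i ∈ Finset.range n, h i := by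
  rw [coeff_zero_eq_eval_zero, Q, eval_prod]
  simp

lemma eval_Q (τ : A) (h : ℕ → A) (n : ℕ) :
    (Q h n).eval τ = τ * E τ h n + ∏ i ∈ Finset.range n, h i := by
  have := congrArg (eval τ) (divX_mul_X_add (Q h n))
  rw [eval_add, eval_mul, eval_X, eval_C, Q_coeff_zero] at this
  rw [← this]
  unfold E
  ring

lemma h_mul_E_succ (τ : A) (h : ℕ → A) (n : ℕ) (hrel : h n ^ 2 + τ * h n = 0) :
    h n * E τ h (n + 1) = ∏ i ∈ Finset.range (n + 1), h i := by
  rw [E_succ, eval_Q, Finset.prod_range_succ]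
  linear_combination (E τ h n) * hrel

lemma E_one (τ : A) (h : ℕ → A) : E τ h 1 = 1 := by
  rw [E_succ]
  simp [E, Q]

lemma prod_eq_E (τ : A) (h : ℕ → A) (k : ℕ)
    (hrel : ∀ i, i < k + 1 → h i ^ 2 + τ * h i = 0) :
    ∏ i ∈ Finset.range k, (h i + h (i + 1) + τ) = E τ h (k + 1) := by
  induction k with
  | zero => rw [Finset.prod_range_zero, E_one]
  | succ k ih =>
    rw [Finset.prod_range_succ, ih (fun i hi => hrel i (by omega)), E_succ τ h (k + 1), eval_Q]
    have := h_mul_E_succ τ h k (hrel k (by omega))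
    linear_combination this

lemma E_eq_sum (τ : A) (h : ℕ → A) (k : ℕ) (hk : 1 ≤ k) :
    E τ h k = ∑ j ∈ Finset.range k,
      τ ^ (k - 1 - j) * (((Finset.range k).val.map h).esymm j) := by
  unfold E
  have hdeg : (Q h k).natDegree ≤ k := by
    unfold Q
    refine (natDegree_prod_le _ _).trans ?_
    have h1 : ∀ i ∈ Finset.range k, (X + C (h i) : A[X]).natDegree ≤ 1 := by
      intro i _
      rw [natDegree_add_C]
      exact natDegree_X_le
    have h2 := Finset.sum_le_sum h1
    rw [Finset.sum_const, Finset.card_range, smul_eq_mul, mul_one] at h2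
    exact h2
  have hdeg' : (divX (Q h k)).natDegree < k := by
    rw [natDegree_divX_eq_natDegree_tsub_one]
    omega
  rw [eval_eq_sum_range' hdeg', ← Finset.sum_range_reflect (fun j =>
    τ ^ (k - 1 - j) * (((Finset.range k).val.map h).esymm j))]
  apply Finset.sum_congr rfl
  intro i hi
  have hi' : i < k := Finset.mem_range.mp hi
  have hc : (Q h k).coeff (i + 1) = ((Finset.range k).val.map h).esymm (k - (i + 1)) := by
    have h1 := Multiset.prod_X_add_C_coeff' (Finset.range k).val h (k := i + 1)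
      (by rw [Finset.card_val, Finset.card_range]; omega)
    rw [Finset.card_val, Finset.card_range] at h1
    exact h1
  rw [coeff_divX, hc]
  have e1 : k - 1 - (k - 1 - i) = i := by omega
  have e2 : k - (i + 1) = k - 1 - i := by omega
  rw [e1, e2, mul_comm]

theorem main (A : Type u) [CommRing A] (k : ℕ) (hk : 2 ≤ k) (τ : A)
    (h : ℕ → A) (hrel : ∀ i, i < k → h i ^ 2 + τ * h i = 0) :
    ∏ i ∈ Finset.range (k - 1), (h i + h (i + 1) + τ) =
      ∑ j ∈ Finset.range k, τ ^ (k - 1 - j) * (((Finset.range k).val.map h).esymm j) := by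
  obtain ⟨m, rfl⟩ : ∃ m, k = m + 1 := ⟨k - 1, by omega⟩
  rw [← E_eq_sum τ h (m + 1) (by omega), Nat.add_sub_cancel]
  exact prod_eq_E τ h m hrel

end Groth.Agent.Lib.SmallDiag
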