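import Mathlib
import Groth.Prelude.Def_ArtFun3

/-!
Helper library (helper1): a finite module over an Artinian local ring whose tensor products with
all small extensions stay exact is free.  APPEND-ONLY once landed.
-/

set_option autoImplicit false

namespace Groth.Agent.Lib.SmallExtFreeH1

open TensorProduct ArtFun

universe u

section Pure

variable {R : Type u} [CommRing R] [IsArtinianRing R] [IsLocalRing R]

theorem pure_small (J' J : Ideal R) (hlt : J' < J)
    (hcov : ∀ I : Ideal R, J' < I → I ≤ J → I = J) (hloc : IsLocalRing (R ⧸ J'))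
    (K : Ideal (R ⧸ J')) (hK : ∀ x, Ideal.Quotient.mk J' x ∈ K ↔ x ∈ J) :
    K ≠ ⊥ ∧ K.IsPrincipal ∧ @IsLocalRing.maximalIdeal (R ⧸ J') _ hloc * K = ⊥ := by
  obtain ⟨x, hxJ, hxJ'⟩ := SetLike.exists_of_lt hlt
  have hJeq : J' ⊔ Ideal.span {x} = J := by
    apply hcov
    · refine lt_of_le_of_ne le_sup_left ?_
      intro h
      apply hxJ'
      rw [h]
      exact Ideal.mem_sup_right (Ideal.subset_span rfl)
    · exact sup_le hlt.le ((Ideal.span_singleton_le_iff_mem _).mpr hxJ)
  have hmJ : IsLocalRing.maximalIdeal R * J ≤ J' := by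
    by_contra hcon
    have h1 : J' ⊔ IsLocalRing.maximalIdeal R * J = J := by
      apply hcov
      · refine lt_of_le_of_ne le_sup_left ?_
        intro h
        apply hcon
        rw [h]
        exact le_sup_right
      · exact sup_le hlt.le Ideal.mul_le_right
    have hfg : (J : Submodule R R).FG := IsNoetherian.noetherian J
    have h2 : J ≤ J' := Submodule.le_of_le_smul_of_le_jacobson_bot hfg
      (IsLocalRing.jacobson_eq_maximalIdeal ⊥ bot_ne_top).ge (by
        rw [Ideal.smul_eq_mul, h1])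
    exact (lt_irrefl _ (lt_of_lt_of_le hlt h2))
  refine ⟨?_, ?_, ?_⟩
  · intro h
    have h1 : Ideal.Quotient.mk J' x ∈ K := (hK x).mpr hxJ
    rw [h] at h1
    exact hxJ' (Ideal.Quotient.eq_zero_iff_mem.mp h1)
  · refine ⟨⟨Ideal.Quotient.mk J' x, ?_⟩⟩
    apply le_antisymm
    · intro y hy
      obtain ⟨y, rfl⟩ := Ideal.Quotient.mk_surjective y
      have hyJ : y ∈ J := (hK y).mp hy
      rw [← hJeq] at hyJ
      obtain ⟨j, hj, w, hw, rfl⟩ := Submodule.mem_sup.mp hyJ
      obtain ⟨r, rfl⟩ := Ideal.mem_span_singleton'.mp hw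
      have e : (Ideal.Quotient.mk J' (j + r * x)) =
          Ideal.Quotient.mk J' r * Ideal.Quotient.mk J' x := by
        rw [map_add, map_mul, Ideal.Quotient.eq_zero_iff_mem.mpr hj, zero_add]
      rw [e]
      exact Ideal.mul_mem_left _ _ (Ideal.subset_span rfl)
    · rw [Ideal.submodule_span_eq, Ideal.span_singleton_le_iff_mem]
      exact (hK x).mpr hxJ
  · refine le_bot_iff.mp (Ideal.mul_le.mpr ?_)
    intro a ha b hb
    obtain ⟨a, rfl⟩ := Ideal.Quotient.mk_surjective a
    obtain ⟨b, rfl⟩ := Ideal.Quotient.mk_surjective b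
    have hbJ : b ∈ J := (hK b).mp hb
    have haM : a ∈ IsLocalRing.maximalIdeal R := by
      rw [IsLocalRing.mem_maximalIdeal, mem_nonunits_iff] at ha ⊢
      intro hu
      exact ha (hu.map (Ideal.Quotient.mk J'))
    have hab : a * b ∈ J' := hmJ (Ideal.mul_mem_mul haM hbJ)
    rw [Ideal.mem_bot, ← map_mul]
    exact Ideal.Quotient.eq_zero_iff_mem.mpr hab

theorem tensor_bot_eq_zero {M : Type u} [AddCommGroup M] [Module R M]
    (z : M ⊗[R] (⊥ : Ideal R)) : z = 0 := by
  induction z using TensorProduct.induction_on with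
  | zero => rfl
  | tmul m x =>
    have hx : x = 0 := Subtype.ext ((Submodule.mem_bot R).mp x.2)
    rw [hx, TensorProduct.tmul_zero]
  | add x y hx hy => rw [hx, hy, add_zero]

theorem lTensor_injective_of_covers {M : Type u} [AddCommGroup M] [Module R M]
    (h : ∀ (J' J : Ideal R), J' < J → J ≤ IsLocalRing.maximalIdeal R →
      (∀ I : Ideal R, J' < I → I ≤ J → I = J) →
      ∃ K : Ideal (R ⧸ J'), (∀ x, Ideal.Quotient.mk J' x ∈ K ↔ x ∈ J) ∧
        Function.Injective (LinearMap.lTensor M ((K.restrictScalars R).subtype)))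
    (J : Ideal R) : ∀ z : M ⊗[R] J, LinearMap.lTensor M J.subtype z = 0 → z = 0 := by
  refine IsArtinian.induction (P := fun J : Ideal R => ∀ z : M ⊗[R] J,
      LinearMap.lTensor M J.subtype z = 0 → z = 0) ?_ J
  intro J IH z hz
  by_cases hbot : J = ⊥
  · subst hbot
    exact tensor_bot_eq_zero z
  by_cases htop : J = ⊤
  · subst htop
    have hinj : Function.Injective (LinearMap.lTensor M (⊤ : Ideal R).subtype) :=
      (LinearEquiv.lTensor M (Submodule.topEquiv : (⊤ : Submodule R R) ≃ₗ[R] R)).injective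
    exact hinj (hz.trans (map_zero _).symm)
  have hJ : J ≤ IsLocalRing.maximalIdeal R := IsLocalRing.le_maximalIdeal htop
  have hne : {I : Ideal R | I < J}.Nonempty := ⟨⊥, bot_lt_iff_ne_bot.mpr hbot⟩
  obtain ⟨J', hJ'lt, hJ'max⟩ :=
    (wellFounded_gt : WellFounded ((· > ·) : Ideal R → Ideal R → Prop)).has_min _ hne
  have hJ'lt' : J' < J := hJ'lt
  have hcov : ∀ I : Ideal R, J' < I → I ≤ J → I = J := by
    intro I h1 h2
    by_contra hne'
    exact hJ'max I (lt_of_le_of_ne h2 hne') h1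
  obtain ⟨K, hK, hinj⟩ := h J' J hJ'lt' hJ hcov
  let π : R →ₗ[R] R ⧸ J' := (Ideal.Quotient.mkₐ R J').toLinearMap
  let g : ↥J →ₗ[R] ↥(K.restrictScalars R) :=
    LinearMap.codRestrict (K.restrictScalars R) (π ∘ₗ J.subtype) (fun x => (hK x).mpr x.2)
  have hcomm : (K.restrictScalars R).subtype ∘ₗ g = π ∘ₗ J.subtype :=
    LinearMap.subtype_comp_codRestrict _ _ _
  let f : ↥J' →ₗ[R] ↥J := Submodule.inclusion hJ'lt'.le
  have hfg : Function.Exact f g := by
    intro y
    constructor
    · intro hy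
      have h0 : Ideal.Quotient.mk J' (y : R) = 0 := congrArg Subtype.val hy
      have hy' : (y : R) ∈ J' := Ideal.Quotient.eq_zero_iff_mem.mp h0
      exact ⟨⟨y, hy'⟩, Subtype.ext rfl⟩
    · rintro ⟨w, rfl⟩
      exact Subtype.ext (Ideal.Quotient.eq_zero_iff_mem.mpr w.2)
  have hg : Function.Surjective g := by
    rintro ⟨y, hy⟩
    obtain ⟨x, rfl⟩ := Ideal.Quotient.mk_surjective y
    exact ⟨⟨x, (hK x).mp hy⟩, Subtype.ext rfl⟩
  have hex := lTensor_exact M hfg hg
  have h1 : LinearMap.lTensor M g z = 0 := by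
    apply hinj
    rw [map_zero, ← LinearMap.comp_apply, ← LinearMap.lTensor_comp, hcomm,
      LinearMap.lTensor_comp, LinearMap.comp_apply, hz, map_zero]
  obtain ⟨z', rfl⟩ := (hex z).mp h1
  have hsub : J.subtype ∘ₗ f = J'.subtype := Submodule.subtype_comp_inclusion _ _ _
  have h2 : LinearMap.lTensor M J'.subtype z' = 0 := by
    rw [← hsub, LinearMap.lTensor_comp, LinearMap.comp_apply]
    exact hz
  rw [IH J' hJ'lt' z' h2, map_zero]

end Pure

section

variable {R : Type u} [CommRing R] [IsArtinianRing R] [IsLocalRing R]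
  {k : Type u} [Field k] [Algebra R k] (hk : Function.Surjective (algebraMap R k))

/-- `R` as an object. -/
noncomputable def C0 : Art R k := Art.of R (Algebra.ofId R k) hk

variable (J' J : Ideal R) (hJ' : J' ≤ IsLocalRing.maximalIdeal R)
  (hJ : J ≤ IsLocalRing.maximalIdeal R) (hle : J' ≤ J)

/-- the projection `R/J' → R/J`. -/
noncomputable def pp : (C0 hk).quot J' hJ' ⟶ (C0 hk).quot J hJ :=
  Art.quotFactor hJ' (Art.quotMk (C0 hk) J hJ) (by
    intro x hx
    rw [RingHom.mem_ker]
    show Ideal.Quotient.mk J x = 0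
    exact Ideal.Quotient.eq_zero_iff_mem.mpr (hle hx))

theorem pp_mk (x : R) :
    (pp hk J' J hJ' hJ hle).toAlgHom (Ideal.Quotient.mk J' x) = Ideal.Quotient.mk J x := rfl

theorem mem_ker_pp (x : R) :
    Ideal.Quotient.mk J' x ∈ RingHom.ker (pp hk J' J hJ' hJ hle).toAlgHom ↔ x ∈ J := by
  constructor
  · intro hx
    have h1 : (pp hk J' J hJ' hJ hle).toAlgHom (Ideal.Quotient.mk J' x) = 0 :=
      RingHom.mem_ker.mp hx
    have h2 : Ideal.Quotient.mk J x = 0 := h1
    exact Ideal.Quotient.eq_zero_iff_mem.mp h2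
  · intro hx
    have h2 : Ideal.Quotient.mk J x = 0 := Ideal.Quotient.eq_zero_iff_mem.mpr hx
    exact RingHom.mem_ker.mpr h2

theorem isSmallExt_pp (hlt : J' < J) (hcov : ∀ I : Ideal R, J' < I → I ≤ J → I = J) :
    Art.IsSmallExt (pp hk J' J hJ' hJ hlt.le) := by
  have hs : Function.Surjective (pp hk J' J hJ' hJ hlt.le) := by
    intro y
    obtain ⟨x, rfl⟩ := Art.quotMk_surjective (C0 hk) J hJ y
    exact ⟨Art.quotMk (C0 hk) J' hJ' x, rfl⟩
  exact ⟨hs, pure_small J' J hlt hcov ((C0 hk).quot J' hJ').isLocalRing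
    (RingHom.ker (pp hk J' J hJ' hJ hlt.le).toAlgHom) (mem_ker_pp hk J' J hJ' hJ hlt.le)⟩

end

theorem main18256
    (R : Type u) [CommRing R] [IsArtinianRing R] [IsLocalRing R]
    (k : Type u) [Field k] [Algebra R k] (hk : Function.Surjective (algebraMap R k))
    (M : Type u) [AddCommGroup M] [Module R M] [Module.Finite R M]
    (h : ∀ (A' A : ArtFun.Art R k) (p : A' ⟶ A), ArtFun.Art.IsSmallExt p →
      Function.Injective
        (LinearMap.lTensor M (((RingHom.ker p.toAlgHom).restrictScalars R).subtype))) :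
    Module.Free R M := by
  have key := lTensor_injective_of_covers (R := R) (M := M) (by
    intro J' J hlt hJ hcov
    have hJ' : J' ≤ IsLocalRing.maximalIdeal R := hlt.le.trans hJ
    exact ⟨RingHom.ker (pp hk J' J hJ' hJ hlt.le).toAlgHom, mem_ker_pp hk J' J hJ' hJ hlt.le,
      h _ _ _ (isSmallExt_pp hk J' J hJ' hJ hlt hcov)⟩)
  haveI : Module.Flat R M := Module.Flat.iff_lTensor_injective'.mpr
    (fun J => (injective_iff_map_eq_zero _).mpr (key J))
  exact Module.free_of_flat_of_isLocalRing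

end Groth.Agent.Lib.SmallExtFreeH1
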