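import Mathlib
import Groth.Prelude
import Groth.Agent.Lib.FibCodim2_helper4
import Groth.Agent.Lib.FibStalkDepth_helper5
import Groth.Agent.Lib.FlatFibDim_helper8
import Groth.Agent.Lib.FibStalkIso_helper5
import Groth.Agent.Lib.FlatCM_helper9

/-!
# Codepth is preserved along smooth morphisms (helper4)
-/

set_option autoImplicit false
set_option linter.unusedVariables false
set_option linter.unusedTactic false
set_option linter.unreachableTactic false
set_option linter.unusedSectionVars false
set_option linter.style.haveILetI false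
set_option maxHeartbeats 800000
set_option backward.isDefEq.respectTransparency false

universe u

open CategoryTheory AlgebraicGeometry Limits TopologicalSpace IsLocalRing

namespace Groth.Agent.Lib.SmoothCodepthH4

/-- dimension formula for a flat morphism of locally Noetherian schemes -/
theorem dim_stalk_eq_add {X S : Scheme.{u}} [IsLocallyNoetherian X] [IsLocallyNoetherian S]
    (f : X ⟶ S) [Flat f] (x : X) :
    ringKrullDim (X.presheaf.stalk x) =
      ringKrullDim (S.presheaf.stalk (f x)) + ringKrullDim (CInt.fiberStalk f x) := by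
  letI : Algebra (S.presheaf.stalk (f x)) (X.presheaf.stalk x) := (f.stalkMap x).hom.toAlgebra
  haveI : IsLocalHom (algebraMap (S.presheaf.stalk (f x)) (X.presheaf.stalk x)) :=
    inferInstanceAs (IsLocalHom (f.stalkMap x).hom)
  haveI : Module.Flat (S.presheaf.stalk (f x)) (X.presheaf.stalk x) := Flat.stalkMap f x
  have hyp : Groth.Agent.FibDim.Hyp (S.presheaf.stalk (f x)) (X.presheaf.stalk x) := by
    apply Groth.Agent.FibDim.hyp_of_flat_module (S.presheaf.stalk (f x))
      (X.presheaf.stalk x) (X.presheaf.stalk x)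
    rw [Module.support_eq_zeroLocus, Module.annihilator_eq_bot.mpr inferInstance]
    simp
  have h := Groth.Agent.FibDim.dim_eq (S.presheaf.stalk (f x)) (X.presheaf.stalk x) hyp
  change ringKrullDim (X.presheaf.stalk x) = ringKrullDim (S.presheaf.stalk (f x)) +
    ringKrullDim (X.presheaf.stalk x ⧸ Groth.Agent.FibStalkDimH8.fibIdeal f x) at h
  rw [h, ringKrullDim_eq_of_ringEquiv (Groth.Agent.FibStalkIso.fibStalkEquiv f x)]

/-- codepth is preserved along a smooth morphism -/
theorem codepth_smooth {Z Y : Scheme.{u}} [IsLocallyNoetherian Y] (g : Z ⟶ Y) [Smooth g] (z : Z) :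
    ringKrullDim (Z.presheaf.stalk z) +
      ((LocCoh.depth (Y.presheaf.stalk (g z)) (Y.presheaf.stalk (g z)) : ℕ∞) : WithBot ℕ∞) =
    ringKrullDim (Y.presheaf.stalk (g z)) +
      ((LocCoh.depth (Z.presheaf.stalk z) (Z.presheaf.stalk z) : ℕ∞) : WithBot ℕ∞) := by
  haveI : IsLocallyNoetherian Z := LocallyOfFiniteType.isLocallyNoetherian g
  have h1 := dim_stalk_eq_add g z
  have h2 := Groth.Agent.FibStalkDepth.depth_stalk_eq_add g z
  have hCM := Groth.Agent.Lib.FibCodim2H4.fiberStalk_cm g z
  have h3 : ringKrullDim (CInt.fiberStalk g z) =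
      ((LocCoh.depth (CInt.fiberStalk g z) (CInt.fiberStalk g z) : ℕ∞) : WithBot ℕ∞) := by
    rw [← Module.supportDim_self_eq_ringKrullDim]
    exact hCM.supportDim_eq_depth
  rw [h1, h2, h3, WithBot.coe_add]
  generalize ringKrullDim (Y.presheaf.stalk (g z)) = dY
  generalize ((LocCoh.depth (Y.presheaf.stalk (g z)) (Y.presheaf.stalk (g z)) : ℕ∞) :
    WithBot ℕ∞) = a
  generalize ((LocCoh.depth (CInt.fiberStalk g z) (CInt.fiberStalk g z) : ℕ∞) : WithBot ℕ∞) = b
  rw [add_assoc, add_comm b a]

theorem main {X Y : Scheme.{u}} (f : X ⟶ Y)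
    [IsLocallyNoetherian Y] [LocallyOfFiniteType f] (x : ↥X)
    (hx : ∃ U : X.Opens, x ∈ U ∧ Smooth (U.ι ≫ f)) :
    ringKrullDim ↑(X.presheaf.stalk x) +
        ((LocCoh.depth ↑(Y.presheaf.stalk (f.base x)) ↑(Y.presheaf.stalk (f.base x)) : ℕ∞) :
          WithBot ℕ∞) =
      ringKrullDim ↑(Y.presheaf.stalk (f.base x)) +
        ((LocCoh.depth ↑(X.presheaf.stalk x) ↑(X.presheaf.stalk x) : ℕ∞) : WithBot ℕ∞) := by
  obtain ⟨U, hxU, hsm⟩ := hx
  haveI := hsm
  haveI : IsLocallyNoetherian X := LocallyOfFiniteType.isLocallyNoetherian f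
  have key : ∀ z : ↥(U : Scheme.{u}),
      ringKrullDim (X.presheaf.stalk (U.ι z)) +
        ((LocCoh.depth (Y.presheaf.stalk (f (U.ι z))) (Y.presheaf.stalk (f (U.ι z))) : ℕ∞) :
          WithBot ℕ∞) =
      ringKrullDim (Y.presheaf.stalk (f (U.ι z))) +
        ((LocCoh.depth (X.presheaf.stalk (U.ι z)) (X.presheaf.stalk (U.ι z)) : ℕ∞) :
          WithBot ℕ∞) := by
    intro z
    have h := codepth_smooth (U.ι ≫ f) z
    have e : X.presheaf.stalk (U.ι z) ≃+* (U : Scheme.{u}).presheaf.stalk z :=
      (asIso (U.ι.stalkMap z)).commRingCatIsoToRingEquiv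
    have hd : ringKrullDim (X.presheaf.stalk (U.ι z)) =
        ringKrullDim ((U : Scheme.{u}).presheaf.stalk z) := ringKrullDim_eq_of_ringEquiv e
    have hp : LocCoh.depth (X.presheaf.stalk (U.ι z)) (X.presheaf.stalk (U.ι z)) =
        LocCoh.depth ((U : Scheme.{u}).presheaf.stalk z) ((U : Scheme.{u}).presheaf.stalk z) :=
      Groth.Agent.FlatCM.depth_ringEquiv e
    rw [hd, hp]
    exact h
  exact key ⟨x, hxU⟩

end Groth.Agent.Lib.SmoothCodepthH4
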