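import Mathlib
import Groth.Prelude.Def_Curv2
import Groth.Agent.S1535
import Groth.Agent.Lib.StalkDict5_helper4
import Groth.Agent.Lib.EtNormal5_helper4

set_option autoImplicit false
set_option linter.style.haveILetI false
set_option linter.unusedSectionVars false
universe u
open scoped TensorProduct
open CategoryTheory CategoryTheory.Limits AlgebraicGeometry

namespace Groth.Agent.Lib.SmoothGeomH4

theorem main1628 (k : Type u) [Field k] (X : Scheme.{u}) [X.Over (Spec (CommRingCat.of k))]
    [Smooth (X ↘ (Spec (CommRingCat.of k)))] :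
    GeometricallyReduced (X ↘ (Spec (CommRingCat.of k))) ∧
      ∀ x : X, Curv2.IsGeomRegularAt k X x := by
  have hsm : ∀ (K : Type u) [Field K] [Algebra k K], Smooth (Curv2.bcSnd k X K) :=
    fun K _ _ => inferInstance
  constructor
  · apply Groth.Agent.Lib.StalkDict5H4.geomRed_of_forall_pts
    intro x K _ _ x' _
    haveI := hsm K
    haveI : _root_.IsReduced
        ((Spec (CommRingCat.of K)).presheaf.stalk ((Curv2.bcSnd k X K) x')) := inferInstance
    exact (Groth.Agent.Lib.EtNormal5H4.stalk_of_smooth (Curv2.bcSnd k X K) x').1 inferInstance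
  · intro x K _ _ _ x' _
    exact @Groth.Agent.S1535.result K _ (Curv2.bc k X K) ⟨Curv2.bcSnd k X K⟩ (hsm K) x'

end Groth.Agent.Lib.SmoothGeomH4
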