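import Groth.Agent.Lib.GenFlatHom_lead
import Groth.Agent.Lib.SmoothFppfDesc_helper7

/-! # Reduced images / orbits of smooth groups are smooth (lead) -/

set_option backward.isDefEq.respectTransparency false
set_option backward.isDefEq.respectTransparency.types false
set_option linter.unusedSimpArgs false
set_option linter.unusedVariables false
set_option linter.unusedSectionVars false
set_option linter.style.longLine false
set_option linter.style.haveILetI false
set_option maxHeartbeats 800000

universe u

open CategoryTheory CategoryTheory.Limits MonoidalCategory CartesianMonoidalCategory MonObj GrpObj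
  AlgebraicGeometry Opposite Topology

namespace Groth.Agent.Lib.SmoothImage

open Groth.Agent.Lib.AssocBundle Groth.Agent.Lib.IsogKernel Groth.Agent.Lib.HomogTower
  Groth.Agent.Lib.TorsorSeq Groth.Agent.Lib.GenFlatHom

/-- maps from reduced schemes factor through immersions containing their image -/
theorem exists_factor_of_reduced {T X O : Scheme.{u}} (t : T ⟶ X) (i : O ⟶ X) [IsImmersion i]
    [IsReduced T] (h : Set.range t.base ⊆ Set.range i.base) : ∃ t' : T ⟶ O, t' ≫ i = t := by
  haveI : Surjective (pullback.fst t i) := ⟨fun x => by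
    obtain ⟨o, ho⟩ := h ⟨x, rfl⟩
    obtain ⟨z, hz, -⟩ := Scheme.Pullback.exists_preimage_pullback (f := t) (g := i) x o ho.symm
    exact ⟨z, hz⟩⟩
  haveI : IsClosedImmersion (pullback.fst t i) :=
    IsClosedImmersion.of_isPreimmersion _ (by
      rw [(pullback.fst t i).surjective.range_eq]
      exact isClosed_univ)
  haveI : IsIso (pullback.fst t i) := isIso_of_isClosedImmersion_of_surjective _
  refine ⟨inv (pullback.fst t i) ≫ pullback.snd t i, ?_⟩
  rw [Category.assoc, ← pullback.condition, IsIso.inv_hom_id_assoc]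

section field

variable {k : Type u} [Field k] {G X : Over (Spec (CommRingCat.of k))} [GrpObj G]
  (act : G ⊗ X ⟶ X)
  (hone : ∀ (T : Over (Spec (CommRingCat.of k))) (x : T ⟶ X), lift (1 : T ⟶ G) x ≫ act = x)
  (hmul : ∀ (T : Over (Spec (CommRingCat.of k))) (g h : T ⟶ G) (x : T ⟶ X),
      lift (g * h) x ≫ act = lift g (lift h x ≫ act) ≫ act)
  (π : G ⟶ X)
  (hπ : ∀ (T : Over (Spec (CommRingCat.of k))) (g h : T ⟶ G),
      (g * h) ≫ π = lift g (h ≫ π) ≫ act)

include hone hmul hπ in
/-- the reduced (locally closed) image of an equivariant map from a smooth group is smooth -/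
theorem smooth_of_reduced_image [Smooth G.hom] [QuasiCompact G.hom] [LocallyOfFiniteType X.hom]
    {O : Scheme.{u}} (i : O ⟶ X.left) [IsImmersion i] [IsReduced O]
    (hO : Set.range i.base = Set.range π.left.base) : Smooth (i ≫ X.hom) := by
  haveI : IsReduced G.left := isReduced_of_smooth G
  let Oo : Over (Spec (CommRingCat.of k)) := Over.mk (i ≫ X.hom)
  let i' : Oo ⟶ X := Over.homMk i rfl
  haveI : Mono i' := by
    haveI : Mono ((Over.forget _).map i') := by
      show Mono i
      infer_instance
    exact (Over.forget _).mono_of_mono_map ‹_›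
  haveI : IsReduced Oo.left := ‹IsReduced O›
  obtain ⟨g, hg⟩ := exists_factor_of_reduced π.left i (by rw [hO])
  let g' : G ⟶ Oo := Over.homMk g (by
    show g ≫ i ≫ X.hom = G.hom
    rw [← Category.assoc, hg, Over.w π])
  have hg' : g' ≫ i' = π := by
    ext1
    exact hg
  haveI : Surjective g'.left := ⟨fun o => by
    obtain ⟨y, hy⟩ : i.base o ∈ Set.range π.left.base := by rw [← hO]; exact ⟨o, rfl⟩
    refine ⟨y, ?_⟩
    apply i.isEmbedding.injective
    have e2 : (g ≫ i).base y = π.left.base y := by rw [hg]
    exact e2.trans hy⟩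
  haveI : Smooth (snd G Oo).left :=
    MorphismProperty.of_isPullback (P := @Smooth)
      (IsPullback.of_hasPullback G.hom Oo.hom :
        IsPullback (fst G Oo).left (snd G Oo).left G.hom Oo.hom) inferInstance
  haveI : IsReduced (G ⊗ Oo).left :=
    Groth.Agent.Lib.EtaleReduced_helper7.isReduced_of_smooth_scheme (snd G Oo).left
  have hwh : G ◁ π = lift (fst G G) (snd G G ≫ π) := by
    apply CartesianMonoidalCategory.hom_ext <;> simp
  have hGπ : (G ◁ π) ≫ act = μ[G] ≫ π := by
    have h := hπ _ (fst G G) (snd G G)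
    rw [Hom.mul_def, lift_fst_snd, Category.id_comp] at h
    rw [h, hwh]
  have hrange : Set.range ((G ◁ i') ≫ act).left.base ⊆ Set.range i.base := by
    rintro _ ⟨z, rfl⟩
    haveI : Surjective (G ◁ g').left :=
      MorphismProperty.of_isPullback (P := @Surjective) (isPullback_whiskerLeft G g').flip
        inferInstance
    obtain ⟨z', rfl⟩ := (G ◁ g').left.surjective z
    rw [hO]
    refine ⟨(μ[G]).left.base z', ?_⟩
    have e : (G ◁ g') ≫ (G ◁ i') ≫ act = μ[G] ≫ π := by
      rw [← Category.assoc, ← MonoidalCategory.whiskerLeft_comp, hg', hGπ]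
    have e' : (G ◁ g').left ≫ ((G ◁ i') ≫ act).left = (μ[G]).left ≫ π.left := by
      rw [← Over.comp_left, e, Over.comp_left]
    have e2 : ((G ◁ g').left ≫ ((G ◁ i') ≫ act).left).base z' =
        ((μ[G]).left ≫ π.left).base z' := by rw [e']
    exact e2.symm
  obtain ⟨a', ha'⟩ := exists_factor_of_reduced ((G ◁ i') ≫ act).left i hrange
  let act' : G ⊗ Oo ⟶ Oo := Over.homMk a' (by
    show a' ≫ i ≫ X.hom = (G ⊗ Oo).hom
    rw [← Category.assoc, ha', Over.w])
  have hact' : act' ≫ i' = (G ◁ i') ≫ act := by
    ext1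
    exact ha'
  have hone' : ∀ (T : Over (Spec (CommRingCat.of k))) (x : T ⟶ Oo),
      lift (1 : T ⟶ G) x ≫ act' = x := by
    intro T x
    rw [← cancel_mono i']
    simp only [Category.assoc, hact', lift_whiskerLeft_assoc]
    exact hone _ _
  have hmul' : ∀ (T : Over (Spec (CommRingCat.of k))) (g h : T ⟶ G) (x : T ⟶ Oo),
      lift (g * h) x ≫ act' = lift g (lift h x ≫ act') ≫ act' := by
    intro T g h x
    rw [← cancel_mono i']
    simp only [Category.assoc, hact', lift_whiskerLeft_assoc]
    exact hmul _ _ _ _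
  have hπ' : ∀ (T : Over (Spec (CommRingCat.of k))) (a b : T ⟶ G),
      (a * b) ≫ g' = lift a (b ≫ g') ≫ act' := by
    intro T a b
    rw [← cancel_mono i']
    simp only [Category.assoc, hact', hg', lift_whiskerLeft_assoc]
    exact hπ _ _ _
  haveI : LocallyOfFiniteType G.hom := inferInstance
  haveI : Flat g'.left := flat_of_equivariant act' hone' hmul' g' hπ'
  haveI : LocallyOfFiniteType Oo.hom := by
    show LocallyOfFiniteType (i ≫ X.hom)
    infer_instance
  haveI : IsNoetherianRing (CommRingCat.of k) := inferInstanceAs (IsNoetherianRing k)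
  haveI : IsLocallyNoetherian Oo.left := LocallyOfFiniteType.isLocallyNoetherian Oo.hom
  haveI : LocallyOfFiniteType g'.left := lft_hom g'
  haveI : LocallyOfFinitePresentation g'.left := inferInstance
  haveI : Smooth (g'.left ≫ (i ≫ X.hom)) := by
    have e : g'.left ≫ (i ≫ X.hom) = G.hom := Over.w g'
    rw [e]; infer_instance
  exact Groth.Agent.Lib.SmoothFppfDescH7.smooth_of_fppf_comp g'.left (i ≫ X.hom)

/-- the reduced image of a homomorphism from a smooth group is smooth -/
theorem smooth_image_hom {G H : Over (Spec (CommRingCat.of k))} [GrpObj G] [GrpObj H] (φ : G ⟶ H)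
    [IsMonHom φ] [Smooth G.hom] [QuasiCompact G.hom] [LocallyOfFiniteType H.hom]
    {O : Scheme.{u}} (i : O ⟶ H.left) [IsImmersion i] [IsReduced O]
    (hO : Set.range i.base = Set.range φ.left.base) : Smooth (i ≫ H.hom) := by
  refine smooth_of_reduced_image ((φ ▷ H) ≫ μ[H]) ?_ ?_ φ ?_ i hO
  · intro T x
    rw [act_pt, MonObj.one_comp, _root_.one_mul]
  · intro T g h x
    rw [act_pt, act_pt, act_pt, MonObj.mul_comp, _root_.mul_assoc]
  · intro T g h
    rw [act_pt, MonObj.mul_comp]

/-- the reduced orbit of a rational point under a smooth group is smooth -/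
theorem smooth_orbit (a : AlgGrp.Action G X) (x₀ : 𝟙_ (Over (Spec (CommRingCat.of k))) ⟶ X)
    [Smooth G.hom] [QuasiCompact G.hom] [LocallyOfFiniteType X.hom]
    {O : Scheme.{u}} (i : O ⟶ X.left) [IsImmersion i] [IsReduced O]
    (hO : Set.range i.base = Set.range (a.orbitMap x₀).left.base) : Smooth (i ≫ X.hom) :=
  smooth_of_reduced_image a.act (fun T x => act_one' a x) (fun T g h x => act_mul' a g h x)
    (a.orbitMap x₀) (fun T g h => orbit_mul a x₀ g h) i hO

end field

end Groth.Agent.Lib.SmoothImage
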