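import Mathlib
import Groth.Agent.Lib.StdEtLift_lead

/-!
# Ring-level lifting lemmas for S10615 (helper7)

* `exists_etale_lift'`: lead's étale lifting along a surjection `A → k` (general `k`).
* `smooth_lift`: a smooth algebra lifts along a surjection with nil kernel.
* `ring_main`: the combined statement used for the scheme-level assembly.
-/

set_option autoImplicit false
open TensorProduct CategoryTheory

namespace Groth.Agent.Lib.SmoothLiftRingH7

universe u

theorem exists_etale_lift' (A k : Type u) [CommRing A] [CommRing k] [Algebra A k]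
    (hπ : Function.Surjective (algebraMap A k))
    (C₀ : Type u) [CommRing C₀] [Algebra k C₀] [Algebra.Etale k C₀]
    (q : Ideal C₀) [q.IsPrime] :
    ∃ (g : C₀) (_ : g ∉ q) (C : Type u) (_ : CommRing C) (_ : Algebra A C),
      Algebra.Etale A C ∧ Nonempty ((k ⊗[A] C) ≃ₐ[k] Localization.Away g) := by
  obtain ⟨g, hg, hstd⟩ := Algebra.IsEtaleAt.exists_isStandardEtale (R := k) q
  obtain ⟨Pres₀⟩ := hstd.nonempty_standardEtalePresentation
  obtain ⟨P, ⟨e₁⟩⟩ := Groth.Agent.Lib.StdEtLift.exists_lift_pair (A := A) (k := k) hπ Pres₀.P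
  refine ⟨g, hg, P.Ring, inferInstance, inferInstance, inferInstance, ⟨?_⟩⟩
  let Pres : StandardEtalePresentation A P.Ring :=
    ⟨P, P.X, P.hasMap_X, by simpa [StandardEtalePair.lift_X_left] using Function.bijective_id⟩
  let e₀ : (k ⊗[A] P.Ring) ≃ₐ[k] (P.map (algebraMap A k)).Ring :=
    (Pres.baseChange (T := k)).equivRing
  exact e₀.trans (e₁.trans Pres₀.equivRing.symm)

theorem smooth_lift {R Cc C L : Type u} [CommRing R] [CommRing Cc] [CommRing C] [CommRing L]
    [Algebra R Cc] [Algebra R C] [Algebra R L] [Algebra.Smooth R Cc]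
    (σ : C →ₐ[R] L) (hσ : Function.Surjective σ) (hnil : ∀ x, σ x = 0 → IsNilpotent x)
    (ψ : Cc →ₐ[R] L) : ∃ φ : Cc →ₐ[R] C, σ.comp φ = ψ := by
  classical
  obtain ⟨n, f, hf, s, hs⟩ := (inferInstance : Algebra.FinitePresentation R Cc).out
  choose c hc using fun j : Fin n => hσ (ψ (f (MvPolynomial.X j)))
  obtain ⟨F, hFdef⟩ : ∃ F : MvPolynomial (Fin n) R →ₐ[R] C, F = MvPolynomial.aeval c := ⟨_, rfl⟩
  have hF : ∀ p, σ (F p) = ψ (f p) := by
    have : σ.comp F = ψ.comp f := by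
      apply MvPolynomial.algHom_ext
      intro j
      simp [hFdef, hc]
    intro p
    exact AlgHom.congr_fun this p
  have hs' : ∀ p, p ∈ (s : Set (MvPolynomial (Fin n) R)) → f p = 0 := by
    intro p hp
    have : p ∈ RingHom.ker f.toRingHom := by rw [← hs]; exact Ideal.subset_span hp
    exact this
  obtain ⟨J, hJdef⟩ : ∃ J : Ideal C,
      J = Ideal.span (F '' (s : Set (MvPolynomial (Fin n) R))) := ⟨_, rfl⟩
  have hJfg : J.FG := ⟨s.image F, by rw [hJdef, Finset.coe_image]⟩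
  have hker : ∀ p, f p = 0 → F p ∈ J := by
    intro p hp
    have h1 : p ∈ RingHom.ker f.toRingHom := hp
    rw [← hs] at h1
    have h2 := Ideal.mem_map_of_mem F h1
    rw [Ideal.map_span] at h2
    rw [hJdef]; exact h2
  have hJσ : ∀ y ∈ J, σ y = 0 := by
    intro y hy
    have : J ≤ RingHom.ker σ.toRingHom := by
      rw [hJdef, Ideal.span_le]
      rintro _ ⟨p', hp', rfl⟩
      show σ (F p') = 0
      rw [hF, hs' p' hp', map_zero]
    exact this hy
  have hJnil : J ≤ nilradical C := fun y hy => hnil y (hJσ y hy)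
  have hJ : IsNilpotent J := (Ideal.FG.isNilpotent_iff_le_nilradical hJfg).2 hJnil
  have H : RingHom.ker f.toRingHom ≤
      RingHom.ker ((Ideal.Quotient.mkₐ R J).comp F).toRingHom := by
    intro p hp
    have h1 : f p = 0 := hp
    show (Ideal.Quotient.mkₐ R J) (F p) = 0
    exact Ideal.Quotient.eq_zero_iff_mem.2 (hker p h1)
  obtain ⟨θ, hθ⟩ : ∃ θ : Cc →ₐ[R] C ⧸ J, ∀ p, θ (f p) = Ideal.Quotient.mk J (F p) :=
    ⟨AlgHom.liftOfSurjective f hf _ H, fun p => by
      rw [AlgHom.liftOfSurjective_apply]; rfl⟩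
  obtain ⟨φ, hφ⟩ := Algebra.FormallySmooth.exists_lift J hJ θ
  refine ⟨φ, ?_⟩
  apply AlgHom.ext
  intro x
  obtain ⟨p, rfl⟩ := hf x
  have h1 : Ideal.Quotient.mk J (φ (f p)) = Ideal.Quotient.mk J (F p) := by
    rw [← hθ p]
    exact AlgHom.congr_fun hφ (f p)
  have h2 : φ (f p) - F p ∈ J := Ideal.Quotient.eq.1 h1
  have h3 := hJσ _ h2
  rw [map_sub, sub_eq_zero] at h3
  show σ (φ (f p)) = ψ (f p)
  rw [h3, hF]

theorem isNilpotent_of_one_tmul_eq_zero {A k C : Type u} [CommRing A] [CommRing k] [CommRing C]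
    [Algebra A k] [Algebra A C] (hπ : Function.Surjective (algebraMap A k))
    (hnil : ∀ x : A, algebraMap A k x = 0 → IsNilpotent x)
    (x : C) (hx : (1 : k) ⊗ₜ[A] x = 0) : IsNilpotent x := by
  rw [nilpotent_iff_mem_prime]
  intro P hP
  haveI := hP
  have H : RingHom.ker (Algebra.ofId A k).toRingHom ≤
      RingHom.ker (Algebra.ofId A (C ⧸ P)).toRingHom := by
    intro a ha
    have h0 : algebraMap A k a = 0 := ha
    have h2 : IsNilpotent (algebraMap A (C ⧸ P) a) := (hnil a h0).map _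
    exact h2.eq_zero
  obtain ⟨χ₁, -⟩ : ∃ χ₁ : k →ₐ[A] C ⧸ P, True :=
    ⟨AlgHom.liftOfSurjective (Algebra.ofId A k) hπ (Algebra.ofId A (C ⧸ P)) H, trivial⟩
  obtain ⟨χ, hχ⟩ : ∃ χ : k ⊗[A] C →ₐ[A] C ⧸ P,
      ∀ y : C, χ ((1 : k) ⊗ₜ[A] y) = Ideal.Quotient.mk P y :=
    ⟨Algebra.TensorProduct.lift χ₁ (Ideal.Quotient.mkₐ A P) (fun _ _ => Commute.all _ _),
      fun y => by simp⟩
  have h3 := hχ x
  rw [hx, map_zero] at h3
  exact Ideal.Quotient.eq_zero_iff_mem.1 h3.symm

theorem ring_main {R Cc A k C₀ : CommRingCat.{u}} (ρ : R ⟶ Cc) (β : R ⟶ A) (π : A ⟶ k)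
    (γ : k ⟶ C₀) (α : Cc ⟶ C₀) (hρ : ρ.hom.Smooth) (hπ : Function.Surjective π.hom)
    (hnil : ∀ x, π.hom x = 0 → IsNilpotent x) (hγ : γ.hom.Etale)
    (hcomm : ρ ≫ α = β ≫ π ≫ γ) (q : PrimeSpectrum C₀) :
    ∃ (C L : CommRingCat.{u}) (ε : A ⟶ C) (lam : C₀ ⟶ L) (σ : C ⟶ L) (φ : Cc ⟶ C)
      (q' : PrimeSpectrum L), ε.hom.Etale ∧ PrimeSpectrum.comap lam.hom q' = q ∧
      IsPushout π ε (γ ≫ lam) σ ∧ ρ ≫ φ = β ≫ ε ∧ φ ≫ σ = α ≫ lam := by
  letI algAk : Algebra A k := π.hom.toAlgebra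
  letI algkC₀ : Algebra k C₀ := γ.hom.toAlgebra
  haveI : Algebra.Etale k C₀ := hγ
  haveI := q.isPrime
  obtain ⟨g, hg, C, instC, algAC, hCet, ⟨e₁⟩⟩ := exists_etale_lift' A k hπ C₀ q.asIdeal
  obtain ⟨σr, hσr⟩ : ∃ σr : C →+* Localization.Away g, ∀ c, σr c = e₁ ((1 : k) ⊗ₜ[A] c) :=
    ⟨(e₁.toAlgHom.toRingHom).comp
      (Algebra.TensorProduct.includeRight : C →ₐ[A] k ⊗[A] C).toRingHom, fun c => rfl⟩
  have hpo : IsPushout π (CommRingCat.ofHom (algebraMap A C))
      (γ ≫ CommRingCat.ofHom (algebraMap C₀ (Localization.Away g))) (CommRingCat.ofHom σr) := by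
    refine (CommRingCat.isPushout_tensorProduct A k C).of_iso (Iso.refl _) (Iso.refl _)
      (Iso.refl _) e₁.toRingEquiv.toCommRingCatIso ?_ ?_ ?_ ?_
    · simp only [Iso.refl_hom, Category.comp_id, Category.id_comp]; rfl
    · simp only [Iso.refl_hom, Category.comp_id, Category.id_comp]
    · simp only [Iso.refl_hom, Category.id_comp]
      ext x
      change e₁ (x ⊗ₜ[A] (1 : C)) = algebraMap C₀ (Localization.Away g) (γ.hom x)
      have h1 : e₁ (x ⊗ₜ[A] (1 : C)) = algebraMap k (Localization.Away g) x := by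
        have := e₁.commutes x
        simpa [Algebra.TensorProduct.algebraMap_apply] using this
      rw [h1]
      exact IsScalarTower.algebraMap_apply k C₀ (Localization.Away g) x
    · simp only [Iso.refl_hom, Category.id_comp]
      ext c
      change e₁ ((1 : k) ⊗ₜ[A] c) = σr c
      exact (hσr c).symm
  -- the lifting
  letI algRCc : Algebra R Cc := ρ.hom.toAlgebra
  letI algRC : Algebra R C := ((algebraMap A C).comp β.hom).toAlgebra
  letI algRL : Algebra R (Localization.Away g) :=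
    ((σr.comp (algebraMap A C)).comp β.hom).toAlgebra
  haveI : Algebra.Smooth R Cc := hρ
  obtain ⟨σ', hσ'⟩ : ∃ σ' : C →ₐ[R] Localization.Away g, ∀ c, σ' c = σr c :=
    ⟨{ σr with commutes' := fun r => rfl }, fun c => rfl⟩
  have hw : ∀ a : A, algebraMap C₀ (Localization.Away g) (γ.hom (π.hom a)) =
      σr (algebraMap A C a) := by
    intro a
    have := congrArg (fun m => m.hom a) hpo.w
    exact this
  have hc : ∀ r : R, α.hom (ρ.hom r) = γ.hom (π.hom (β.hom r)) := by
    intro r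
    have := congrArg (fun m => m.hom r) hcomm
    exact this
  obtain ⟨ψ, hψ⟩ : ∃ ψ : Cc →ₐ[R] Localization.Away g,
      ∀ x, ψ x = algebraMap C₀ (Localization.Away g) (α.hom x) :=
    ⟨{ (algebraMap C₀ (Localization.Away g)).comp α.hom with
        commutes' := fun r => by
          change algebraMap C₀ (Localization.Away g) (α.hom (ρ.hom r)) =
            σr (algebraMap A C (β.hom r))
          rw [hc, hw] }, fun x => rfl⟩
  have hσsurj : Function.Surjective σ' := by
    intro y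
    obtain ⟨c, hc'⟩ := Algebra.TensorProduct.includeRight_surjective (R := A) (S := k) C hπ
      (e₁.symm y)
    refine ⟨c, ?_⟩
    rw [hσ', hσr]
    have : (1 : k) ⊗ₜ[A] c = e₁.symm y := hc'
    rw [this, AlgEquiv.apply_symm_apply]
  have hσnil : ∀ x, σ' x = 0 → IsNilpotent x := by
    intro x hx
    rw [hσ', hσr] at hx
    have h0 : (1 : k) ⊗ₜ[A] x = 0 := (map_eq_zero_iff e₁ e₁.injective).1 hx
    exact isNilpotent_of_one_tmul_eq_zero hπ hnil x h0
  obtain ⟨φ, hφ⟩ := smooth_lift σ' hσsurj hσnil ψ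
  have hdisj : Disjoint (Submonoid.powers g : Set C₀) (q.asIdeal : Set C₀) :=
    (Ideal.disjoint_powers_iff_notMem_of_isPrime g).2 hg
  have hq'prime := IsLocalization.isPrime_of_isPrime_disjoint (Submonoid.powers g)
    (Localization.Away g) q.asIdeal q.isPrime hdisj
  have hq'comap := IsLocalization.under_map_of_isPrime_disjoint (Submonoid.powers g)
    (Localization.Away g) q.isPrime hdisj
  refine ⟨CommRingCat.of C, CommRingCat.of (Localization.Away g),
    CommRingCat.ofHom (algebraMap A C), CommRingCat.ofHom (algebraMap C₀ (Localization.Away g)),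
    CommRingCat.ofHom σr, CommRingCat.ofHom φ.toRingHom,
    ⟨Ideal.map (algebraMap C₀ (Localization.Away g)) q.asIdeal, hq'prime⟩, ?_, ?_, hpo, ?_, ?_⟩
  · exact RingHom.etale_algebraMap.2 hCet
  · apply PrimeSpectrum.ext
    exact hq'comap
  · ext r
    change φ (ρ.hom r) = algebraMap A C (β.hom r)
    exact φ.commutes r
  · ext x
    change σr (φ x) = algebraMap C₀ (Localization.Away g) (α.hom x)
    rw [← hσ', ← hψ]
    exact AlgHom.congr_fun hφ x

end Groth.Agent.Lib.SmoothLiftRingH7
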