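import Mathlib
import Groth.Agent.Lib.SmoothLiftRing_helper7

/-!
# Scheme-level: étale-local lifting for smooth morphisms along thickenings (helper7)
-/

set_option autoImplicit false
open CategoryTheory CategoryTheory.Limits AlgebraicGeometry

namespace Groth.Agent.Lib.SmoothLiftSchH7

universe u

theorem exists_affine_nhd {X : Scheme.{u}} (x : X) (O' : X.Opens) (hx : x ∈ O') :
    ∃ O : X.Opens, IsAffineOpen O ∧ x ∈ O ∧ O ≤ O' := by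
  obtain ⟨_, ⟨O, hO, rfl⟩, hxO, hOO'⟩ :=
    X.isBasis_affineOpens.exists_subset_of_mem_open hx O'.isOpen
  exact ⟨O, hO, hxO, hOO'⟩

/-- Scheme-level statement: `i₀` a thickening, `g` étale, `h` smooth. -/
theorem sch_lift {T₀ V₀ T₁ U W : Scheme.{u}} (i₀ : T₀ ⟶ V₀) [IsClosedImmersion i₀]
    [Surjective i₀] (g : T₁ ⟶ T₀) [Etale g] (h : U ⟶ W) [Smooth h] (a₁ : T₁ ⟶ U) (b₀ : V₀ ⟶ W)
    (comm : a₁ ≫ h = g ≫ i₀ ≫ b₀) (t₁ : T₁) :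
    ∃ (V Z : Scheme.{u}) (e : V ⟶ V₀) (p₁ : Z ⟶ T₁) (p₂ : Z ⟶ V) (ℓ : V ⟶ U) (z : Z),
      Etale e ∧ IsPullback (p₁ ≫ g) p₂ i₀ e ∧ ℓ ≫ h = e ≫ b₀ ∧ p₂ ≫ ℓ = p₁ ≫ a₁ ∧
        p₁ z = t₁ := by
  have hpt : b₀ (i₀ (g t₁)) = h (a₁ t₁) := by
    have := congrArg (fun m : T₁ ⟶ W => m t₁) comm
    simpa using this.symm
  obtain ⟨Wa, hWa, hwWa, -⟩ := exists_affine_nhd (h (a₁ t₁)) ⊤ trivial
  obtain ⟨Ua, hUa, huUa, hUaW⟩ := exists_affine_nhd (a₁ t₁) (h ⁻¹ᵁ Wa) hwWa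
  obtain ⟨Va, hVa, hvVa, hVaW⟩ := exists_affine_nhd (i₀ (g t₁)) (b₀ ⁻¹ᵁ Wa)
    (by show b₀ (i₀ (g t₁)) ∈ Wa; rw [hpt]; exact hwWa)
  have hTa : IsAffineOpen (i₀ ⁻¹ᵁ Va) := hVa.preimage i₀
  obtain ⟨T1a, hT1a, htT1a, hT1le⟩ := exists_affine_nhd t₁
    (g ⁻¹ᵁ (i₀ ⁻¹ᵁ Va) ⊓ a₁ ⁻¹ᵁ Ua) ⟨hvVa, huUa⟩
  have hT1g : T1a ≤ g ⁻¹ᵁ (i₀ ⁻¹ᵁ Va) := hT1le.trans inf_le_left
  have hT1a₁ : T1a ≤ a₁ ⁻¹ᵁ Ua := hT1le.trans inf_le_right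
  have hρ : (h.appLE Wa Ua hUaW).hom.Smooth :=
    HasRingHomProperty.appLE @Smooth h inferInstance ⟨Wa, hWa⟩ ⟨Ua, hUa⟩ hUaW
  have hγ : (g.appLE (i₀ ⁻¹ᵁ Va) T1a hT1g).hom.Etale :=
    HasRingHomProperty.appLE @Etale g inferInstance ⟨_, hTa⟩ ⟨T1a, hT1a⟩ hT1g
  have hπ : Function.Surjective (i₀.appLE Va (i₀ ⁻¹ᵁ Va) le_rfl).hom := by
    rw [Scheme.Hom.appLE_eq_app]; exact i₀.app_surjective Va hVa
  have hnil : ∀ x, (i₀.appLE Va (i₀ ⁻¹ᵁ Va) le_rfl).hom x = 0 → IsNilpotent x := by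
    intro x hx
    rw [Scheme.Hom.appLE_eq_app] at hx
    have hx' : i₀.app Va x = 0 := hx
    rw [Scheme.isNilpotent_iff_basicOpen_eq_bot_of_isCompact hVa.isCompact, eq_bot_iff]
    intro v hv
    obtain ⟨t, rfl⟩ := i₀.surjective v
    have h1 : t ∈ i₀ ⁻¹ᵁ V₀.basicOpen x := hv
    rw [Scheme.preimage_basicOpen, hx', Scheme.basicOpen_zero] at h1
    exact False.elim (by simpa using h1)
  have key : ∀ (m m' : T₁ ⟶ W) (_ : m = m') (e : T1a ≤ m ⁻¹ᵁ Wa) (e' : T1a ≤ m' ⁻¹ᵁ Wa),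
      m.appLE Wa T1a e = m'.appLE Wa T1a e' := by
    intro m m' hm e e'; subst hm; rfl
  have hcommR : h.appLE Wa Ua hUaW ≫ a₁.appLE Ua T1a hT1a₁ =
      b₀.appLE Wa Va hVaW ≫ i₀.appLE Va (i₀ ⁻¹ᵁ Va) le_rfl ≫
        g.appLE (i₀ ⁻¹ᵁ Va) T1a hT1g := by
    rw [Scheme.Hom.appLE_comp_appLE a₁ h, Scheme.Hom.appLE_comp_appLE g i₀,
      Scheme.Hom.appLE_comp_appLE (g ≫ i₀) b₀]
    exact key _ _ (by rw [comm, Category.assoc]) _ _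
  obtain ⟨C, L, ε, lam, σ, φ, q', hε, hq', hpo, hφ1, hφ2⟩ :=
    Groth.Agent.Lib.SmoothLiftRingH7.ring_main (h.appLE Wa Ua hUaW) (b₀.appLE Wa Va hVaW)
      (i₀.appLE Va (i₀ ⁻¹ᵁ Va) le_rfl) (g.appLE (i₀ ⁻¹ᵁ Va) T1a hT1g)
      (a₁.appLE Ua T1a hT1a₁) hρ hπ hnil hγ hcommR (hT1a.primeIdealOf ⟨t₁, htT1a⟩)
  have hright : IsPullback hTa.fromSpec (Spec.map (i₀.appLE Va (i₀ ⁻¹ᵁ Va) le_rfl)) i₀
      hVa.fromSpec :=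
    (IsOpenImmersion.isPullback (Spec.map (i₀.appLE Va (i₀ ⁻¹ᵁ Va) le_rfl)) hTa.fromSpec
      hVa.fromSpec i₀ (IsAffineOpen.SpecMap_appLE_fromSpec i₀ hVa hTa le_rfl).symm
      (by rw [hVa.opensRange_fromSpec, hTa.opensRange_fromSpec])).flip
  have hleft : IsPullback (Spec.map (g.appLE (i₀ ⁻¹ᵁ Va) T1a hT1g ≫ lam)) (Spec.map σ)
      (Spec.map (i₀.appLE Va (i₀ ⁻¹ᵁ Va) le_rfl)) (Spec.map ε) :=
    isPullback_SpecMap_of_isPushout _ _ _ _ hpo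
  have hbig := hleft.paste_horiz hright
  have hp1g : (Spec.map lam ≫ hT1a.fromSpec) ≫ g =
      Spec.map (g.appLE (i₀ ⁻¹ᵁ Va) T1a hT1g ≫ lam) ≫ hTa.fromSpec := by
    rw [Category.assoc, ← IsAffineOpen.SpecMap_appLE_fromSpec g hTa hT1a hT1g, Spec.map_comp,
      Category.assoc]
  haveI : Etale (Spec.map ε) := (HasRingHomProperty.Spec_iff (P := @Etale)).2 hε
  refine ⟨Spec C, Spec L, Spec.map ε ≫ hVa.fromSpec, Spec.map lam ≫ hT1a.fromSpec, Spec.map σ,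
    Spec.map φ ≫ hUa.fromSpec, q', inferInstance, ?_, ?_, ?_, ?_⟩
  · rw [hp1g]; exact hbig
  · calc (Spec.map φ ≫ hUa.fromSpec) ≫ h
        = Spec.map φ ≫ (hUa.fromSpec ≫ h) := Category.assoc _ _ _
      _ = Spec.map φ ≫ (Spec.map (h.appLE Wa Ua hUaW) ≫ hWa.fromSpec) := by
          rw [IsAffineOpen.SpecMap_appLE_fromSpec h hWa hUa hUaW]
      _ = Spec.map (h.appLE Wa Ua hUaW ≫ φ) ≫ hWa.fromSpec := by
          rw [Spec.map_comp, Category.assoc]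
      _ = Spec.map (b₀.appLE Wa Va hVaW ≫ ε) ≫ hWa.fromSpec := by rw [hφ1]
      _ = Spec.map ε ≫ (Spec.map (b₀.appLE Wa Va hVaW) ≫ hWa.fromSpec) := by
          rw [Spec.map_comp, Category.assoc]
      _ = Spec.map ε ≫ (hVa.fromSpec ≫ b₀) := by
          rw [IsAffineOpen.SpecMap_appLE_fromSpec b₀ hWa hVa hVaW]
      _ = (Spec.map ε ≫ hVa.fromSpec) ≫ b₀ := (Category.assoc _ _ _).symm
  · calc Spec.map σ ≫ (Spec.map φ ≫ hUa.fromSpec)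
        = Spec.map (φ ≫ σ) ≫ hUa.fromSpec := by rw [Spec.map_comp, Category.assoc]
      _ = Spec.map (a₁.appLE Ua T1a hT1a₁ ≫ lam) ≫ hUa.fromSpec := by rw [hφ2]
      _ = Spec.map lam ≫ (Spec.map (a₁.appLE Ua T1a hT1a₁) ≫ hUa.fromSpec) := by
          rw [Spec.map_comp, Category.assoc]
      _ = Spec.map lam ≫ (hT1a.fromSpec ≫ a₁) := by
          rw [IsAffineOpen.SpecMap_appLE_fromSpec a₁ hUa hT1a hT1a₁]
      _ = (Spec.map lam ≫ hT1a.fromSpec) ≫ a₁ := (Category.assoc _ _ _).symm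
  · rw [Scheme.Hom.comp_apply]
    have h1 : (Spec.map lam) q' = hT1a.primeIdealOf ⟨t₁, htT1a⟩ := hq'
    rw [h1]
    exact hT1a.fromSpec_primeIdealOf ⟨t₁, htT1a⟩

/-- The same statement for schemes over `S`. -/
theorem sch_lift_over {S : Scheme.{u}} {T₀ V₀ T₁ U W : Over S} (i₀ : T₀ ⟶ V₀)
    [IsClosedImmersion i₀.left] [Surjective i₀.left] (g : T₁ ⟶ T₀) [Etale g.left] (h : U ⟶ W)
    [Smooth h.left] (a₁ : T₁ ⟶ U) (b₀ : V₀ ⟶ W) (comm : a₁ ≫ h = g ≫ i₀ ≫ b₀)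
    (t₁ : T₁.left) :
    ∃ (V Z : Over S) (e : V ⟶ V₀) (p₁ : Z ⟶ T₁) (p₂ : Z ⟶ V) (ℓ : V ⟶ U) (z : Z.left),
      Etale e.left ∧ IsPullback (p₁ ≫ g) p₂ i₀ e ∧ ℓ ≫ h = e ≫ b₀ ∧ p₂ ≫ ℓ = p₁ ≫ a₁ ∧
        p₁.left z = t₁ := by
  have comm' : a₁.left ≫ h.left = g.left ≫ i₀.left ≫ b₀.left := by
    have := congrArg (fun φ => φ.left) comm
    simpa using this
  obtain ⟨V, Z, e, p₁, p₂, ℓ, z, hee, hpb, hℓ1, hℓ2, hz⟩ :=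
    sch_lift i₀.left g.left h.left a₁.left b₀.left comm' t₁
  have hp₁w : p₁ ≫ T₁.hom = p₂ ≫ e ≫ V₀.hom := by
    calc p₁ ≫ T₁.hom = p₁ ≫ (g.left ≫ (i₀.left ≫ V₀.hom)) := by rw [Over.w i₀, Over.w g]
      _ = ((p₁ ≫ g.left) ≫ i₀.left) ≫ V₀.hom := by simp only [Category.assoc]
      _ = (p₂ ≫ e) ≫ V₀.hom := by rw [hpb.w]
      _ = p₂ ≫ e ≫ V₀.hom := Category.assoc _ _ _
  have hℓw : ℓ ≫ U.hom = e ≫ V₀.hom := by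
    calc ℓ ≫ U.hom = ℓ ≫ (h.left ≫ W.hom) := by rw [Over.w h]
      _ = (ℓ ≫ h.left) ≫ W.hom := (Category.assoc _ _ _).symm
      _ = (e ≫ b₀.left) ≫ W.hom := by rw [hℓ1]
      _ = e ≫ (b₀.left ≫ W.hom) := Category.assoc _ _ _
      _ = e ≫ V₀.hom := by rw [Over.w b₀]
  refine ⟨Over.mk (e ≫ V₀.hom), Over.mk (p₂ ≫ e ≫ V₀.hom), Over.homMk e rfl,
    Over.homMk p₁ hp₁w, Over.homMk p₂ rfl, Over.homMk ℓ hℓw, z, hee, ?_, ?_, ?_, hz⟩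
  · refine IsPullback.of_map (Over.forget S) ?_ hpb
    ext
    simpa using hpb.w
  · ext
    simpa using hℓ1
  · ext
    simpa using hℓ2

end Groth.Agent.Lib.SmoothLiftSchH7
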