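import Mathlib
import Groth.Agent.Lib.SmVarReg_helper6
import Groth.Agent.Lib.SmoothRegField_helper3
import Groth.Agent.Lib.PerfectGR_helper3

/-!
# Reduced finite type algebras over a perfect field with projective `Ω` are smooth (helper6)
-/

set_option autoImplicit false
set_option maxHeartbeats 400000
universe u
open TensorProduct IsLocalRing KaehlerDifferential

namespace Groth.Agent.Lib.SmoothPerf_helper6

section Cot

variable (k B : Type u) [Field k] [CommRing B] [Algebra k B] [IsLocalRing B]

theorem kerCotangentToTensor_surjective [Algebra.FormallyUnramified k (ResidueField B)] :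
    Function.Surjective (kerCotangentToTensor k B (ResidueField B)) := by
  intro y
  have hex := KaehlerDifferential.exact_kerCotangentToTensor_mapBaseChange k B (ResidueField B)
    (IsLocalRing.residue_surjective)
  exact (hex y).1 (Subsingleton.elim _ _)

theorem kerCotangentToTensor_injective [Algebra.FormallySmooth k (ResidueField B)] :
    Function.Injective (kerCotangentToTensor k B (ResidueField B)) := by
  have hf : Function.Surjective (algebraMap B (ResidueField B)) := IsLocalRing.residue_surjective
  let φ := (IsScalarTower.toAlgHom k B (ResidueField B)).kerSquareLift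
  have hφs : Function.Surjective φ := by
    intro x
    obtain ⟨b, rfl⟩ := hf x
    exact ⟨Ideal.Quotient.mk _ b, AlgHom.kerSquareLift_mk _ b⟩
  let g := Algebra.FormallySmooth.liftOfSurjective (AlgHom.id k (ResidueField B)) φ hφs
    ⟨2, by
      show RingHom.ker φ.toRingHom ^ 2 = 0
      rw [AlgHom.ker_kerSquareLift, Ideal.cotangentIdeal_square]
      rfl⟩
  have hg : φ.comp g = AlgHom.id k (ResidueField B) :=
    Algebra.FormallySmooth.comp_liftOfSurjective _ _ _ _
  obtain ⟨l, hl⟩ := (retractionKerCotangentToTensorEquivSection (R := k) hf).symm ⟨g, hg⟩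
  intro x y hxy
  have := congrArg l hxy
  rwa [← LinearMap.comp_apply, ← LinearMap.comp_apply, hl] at this

theorem finrank_tensor_eq [Algebra.FormallySmooth k (ResidueField B)]
    [Algebra.FormallyUnramified k (ResidueField B)] :
    Module.finrank (ResidueField B) (ResidueField B ⊗[B] Ω[B⁄k]) =
      Module.finrank (ResidueField B) (CotangentSpace B) :=
  Groth.Agent.Lib.KaehlerRegH3.finrank_eq_of_bijective B _ (IsLocalRing.ker_residue (R := B)) _
    (kerCotangentToTensor k B (ResidueField B))
    ⟨kerCotangentToTensor_injective k B, kerCotangentToTensor_surjective k B⟩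

end Cot

theorem height_map_quotient_le {R : Type*} [CommRing R] (q m : Ideal R) [q.IsPrime] [m.IsPrime]
    (hqm : q ≤ m) : (m.map (Ideal.Quotient.mk q)).height ≤ m.height := by
  have hsurj : Function.Surjective (Ideal.Quotient.mk q) := Ideal.Quotient.mk_surjective
  haveI hmp : (m.map (Ideal.Quotient.mk q)).IsPrime :=
    Ideal.map_isPrime_of_surjective hsurj (by rw [Ideal.mk_ker]; exact hqm)
  let φ : PrimeSpectrum (R ⧸ q) → PrimeSpectrum R := PrimeSpectrum.comap (Ideal.Quotient.mk q)
  have hφ : StrictMono φ := by
    intro a b hab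
    refine lt_of_le_of_ne ?_ ?_
    · show Ideal.comap _ a.asIdeal ≤ Ideal.comap _ b.asIdeal
      exact Ideal.comap_mono hab.le
    · intro h
      exact hab.ne (PrimeSpectrum.comap_injective_of_surjective _ hsurj h)
  have h := Order.height_le_height_apply_of_strictMono φ hφ ⟨m.map (Ideal.Quotient.mk q), hmp⟩
  have e : φ ⟨m.map (Ideal.Quotient.mk q), hmp⟩ = ⟨m, inferInstance⟩ := by
    apply PrimeSpectrum.ext
    show Ideal.comap (Ideal.Quotient.mk q) (m.map (Ideal.Quotient.mk q)) = m
    rw [Ideal.comap_map_of_surjective _ hsurj, ← RingHom.ker_eq_comap_bot, Ideal.mk_ker,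
      sup_eq_left.2 hqm]
  rw [e, ← PrimeSpectrum.height_eq_orderHeight, ← PrimeSpectrum.height_eq_orderHeight] at h
  exact h

section Main

theorem isRegularLocalRing_localization_maximal
    (k A : Type u) [Field k] [PerfectField k] [CommRing A] [Algebra k A]
    [Algebra.FiniteType k A] [IsReduced A] [Module.Projective A Ω[A⁄k]]
    (m : Ideal A) [hm : m.IsMaximal] :
    IsRegularLocalRing (Localization.AtPrime m) := by
  haveI : IsNoetherianRing A := Algebra.FiniteType.isNoetherianRing k A
  haveI hmp : m.IsPrime := hm.isPrime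
  -- the residue field is finite separable over `k`
  letI : Field (A ⧸ m) := Ideal.Quotient.field m
  haveI : Module.Finite k (A ⧸ m) := finite_of_finite_type_of_isJacobsonRing k (A ⧸ m)
  have hbij := m.bijective_algebraMap_quotient_residueField
  let e : (A ⧸ m) ≃ₐ[k] m.ResidueField :=
    AlgEquiv.ofBijective (IsScalarTower.toAlgHom k (A ⧸ m) m.ResidueField) hbij
  haveI : Module.Finite k m.ResidueField := Module.Finite.equiv e.toLinearEquiv
  haveI : Algebra.IsSeparable k m.ResidueField := Algebra.IsAlgebraic.isSeparable_of_perfectField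
  haveI : Algebra.FormallyEtale k m.ResidueField :=
    Algebra.FormallyEtale.of_isSeparable k m.ResidueField
  haveI : Algebra.FormallySmooth k m.ResidueField := inferInstance
  haveI : Algebra.FormallyUnramified k m.ResidueField := inferInstance
  have h1 := finrank_tensor_eq k (Localization.AtPrime m)
  have h2 := Groth.Agent.Lib.SmVarReg_helper6.finrank_fibre_localization k A m
  -- a minimal prime below `m`
  obtain ⟨q, hq, hqm⟩ := Ideal.exists_minimalPrimes_le (bot_le : (⊥ : Ideal A) ≤ m)
  haveI hqp : q.IsPrime := hq.1.1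
  have h3 : Module.finrank q.ResidueField (q.ResidueField ⊗[A] Ω[A⁄k]) =
      Module.finrank m.ResidueField (m.ResidueField ⊗[A] Ω[A⁄k]) :=
    (Ideal.finrank_fiber_eq_rankAtStalk (M := Ω[A⁄k]) q).trans
      ((Module.rankAtStalk_eq_of_le_of_finite_of_flat' (Ω[A⁄k]) hqm).trans
        (Ideal.finrank_fiber_eq_rankAtStalk (M := Ω[A⁄k]) m).symm)
  -- `A → κ(q)` is formally étale
  haveI : Algebra.FormallyEtale A (Localization.AtPrime q) :=
    Algebra.FormallyEtale.of_isLocalization q.primeCompl
  have hrad : (⊥ : Ideal (Localization.AtPrime q)).radical = ⊥ := by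
    rw [eq_bot_iff]
    intro x hx
    obtain ⟨n, hn⟩ := hx
    exact (Ideal.mem_bot).2 (IsNilpotent.eq_zero ⟨n, (Ideal.mem_bot).1 hn⟩)
  have hmax0 : maximalIdeal (Localization.AtPrime q) = ⊥ := by
    have := IsLocalization.AtPrime.radical_map_of_mem_minimalPrimes
      (A := Localization.AtPrime q) q ⊥ hq
    rw [Ideal.map_bot, Localization.AtPrime.map_eq_maximalIdeal, hrad] at this
    exact this.symm
  have hbijq : Function.Bijective (algebraMap (Localization.AtPrime q) q.ResidueField) := by
    refine ⟨?_, IsLocalRing.residue_surjective⟩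
    rw [RingHom.injective_iff_ker_eq_bot]
    show RingHom.ker (IsLocalRing.residue _) = ⊥
    rw [IsLocalRing.ker_residue, hmax0]
  haveI : Algebra.FormallyEtale (Localization.AtPrime q) q.ResidueField :=
    Algebra.FormallyEtale.of_equiv (AlgEquiv.ofBijective (Algebra.ofId _ _) hbijq)
  haveI : Algebra.FormallyEtale A q.ResidueField :=
    Algebra.FormallyEtale.comp A (Localization.AtPrime q) q.ResidueField
  have h4 : Module.finrank q.ResidueField (q.ResidueField ⊗[A] Ω[A⁄k]) =
      Module.finrank q.ResidueField Ω[q.ResidueField⁄k] :=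
    (KaehlerDifferential.tensorKaehlerEquivOfFormallyEtale k A q.ResidueField).finrank_eq
  haveI : Algebra.EssFiniteType A (Localization.AtPrime q) :=
    Algebra.EssFiniteType.of_isLocalization _ q.primeCompl
  haveI : Algebra.EssFiniteType k (Localization.AtPrime q) :=
    Algebra.EssFiniteType.comp k A (Localization.AtPrime q)
  haveI : Algebra.FiniteType (Localization.AtPrime q) q.ResidueField :=
    Algebra.FiniteType.of_surjective (Algebra.ofId (Localization.AtPrime q) q.ResidueField)
      IsLocalRing.residue_surjective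
  haveI : Algebra.EssFiniteType k q.ResidueField :=
    Algebra.EssFiniteType.comp k (Localization.AtPrime q) q.ResidueField
  obtain ⟨-, h5⟩ := Groth.Agent.Lib.KaehlerRegH3.finrank_kaehler_eq_trdeg k q.ResidueField
  obtain ⟨d, hd1, -, -, hd4⟩ := Groth.Agent.DimFTH8.exists_dim_eq k (A ⧸ q)
  have h6 : Algebra.trdeg k q.ResidueField = d := by
    rw [← hd1]
    exact ((FractionRing.algEquiv (A ⧸ q) q.ResidueField).restrictScalars k).trdeg_eq.symm
  -- heights
  have hker : RingHom.ker (Ideal.Quotient.mk q) ≤ m := by rw [Ideal.mk_ker]; exact hqm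
  haveI hmq : (m.map (Ideal.Quotient.mk q)).IsMaximal :=
    Ideal.IsMaximal.map_of_surjective_of_ker_le Ideal.Quotient.mk_surjective hker
  have h7 : (m.map (Ideal.Quotient.mk q)).height = d := hd4 _
  have h8 : (m.map (Ideal.Quotient.mk q)).height ≤ m.height := height_map_quotient_le q m hqm
  have h9 : (d : ℕ∞) ≤ m.height := h7 ▸ h8
  apply IsRegularLocalRing.of_spanFinrank_maximalIdeal_le
  rw [IsLocalRing.spanFinrank_maximalIdeal_eq_finrank_cotangentSpace, ← h1, h2, ← h3, h4, h5, h6,
    Cardinal.toNat_natCast, IsLocalization.AtPrime.ringKrullDim_eq_height m]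
  exact_mod_cast h9

theorem formallySmooth_localization_maximal
    (k A : Type u) [Field k] [PerfectField k] [CommRing A] [Algebra k A]
    [Algebra.FiniteType k A] [IsReduced A] [Module.Projective A Ω[A⁄k]]
    (m : Ideal A) [hm : m.IsMaximal] :
    Algebra.FormallySmooth k (Localization.AtPrime m) := by
  haveI : IsNoetherianRing A := Algebra.FiniteType.isNoetherianRing k A
  haveI := hm.isPrime
  have hreg := isRegularLocalRing_localization_maximal k A m
  obtain ⟨n, f, hf⟩ := Algebra.FiniteType.iff_quotient_mvPolynomial''.1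
    (inferInstance : Algebra.FiniteType k A)
  let g : MvPolynomial (Fin n) k →ₐ[k] Localization.AtPrime m :=
    (IsScalarTower.toAlgHom k A (Localization.AtPrime m)).comp f
  haveI : Algebra.IsGeometricallyReduced k (ResidueField (Localization.AtPrime m)) :=
    Groth.Agent.Lib.PerfectGRH3.isGeometricallyReduced_of_perfectField _ _
  refine Groth.Agent.Lib.SmoothRegFieldH3.formallySmooth_of_regular_of_bijective (k := k) (R₀ := k)
    (fun x => ⟨x, rfl⟩) n g ?_ hreg
  intro s
  obtain ⟨a, t, rfl⟩ := IsLocalization.exists_mk'_eq m.primeCompl s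
  obtain ⟨F, rfl⟩ := hf a
  obtain ⟨G, hG⟩ := hf (t : A)
  refine ⟨F, G, ?_, ?_⟩
  · show IsUnit (algebraMap A (Localization.AtPrime m) (f G))
    rw [hG]
    exact IsLocalization.map_units _ t
  · show IsLocalization.mk' (Localization.AtPrime m) (f F) t *
      algebraMap A (Localization.AtPrime m) (f G) = algebraMap A (Localization.AtPrime m) (f F)
    rw [hG]
    exact IsLocalization.mk'_spec _ _ _

theorem main (k A : Type u) [Field k] [PerfectField k] [CommRing A] [Algebra k A]
    [Algebra.FiniteType k A] [IsReduced A] [Module.Projective A Ω[A⁄k]] :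
    Algebra.Smooth k A := by
  haveI : IsNoetherianRing A := Algebra.FiniteType.isNoetherianRing k A
  haveI : Algebra.FinitePresentation k A := Algebra.FinitePresentation.of_finiteType.mp inferInstance
  refine ⟨?_, ‹_›⟩
  rw [← Algebra.smoothLocus_eq_univ_iff, Set.eq_univ_iff_forall]
  intro p
  obtain ⟨m, hm, hpm⟩ := Ideal.exists_le_maximal p.asIdeal p.2.ne_top
  haveI := hm
  have h1 : (⟨m, hm.isPrime⟩ : PrimeSpectrum A) ∈ Algebra.smoothLocus k A :=
    formallySmooth_localization_maximal k A m
  have h2 : p ⤳ ⟨m, hm.isPrime⟩ := (PrimeSpectrum.le_iff_specializes _ _).1 hpm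
  exact h2.mem_open Algebra.isOpen_smoothLocus h1

end Main

end Groth.Agent.Lib.SmoothPerf_helper6
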