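import Mathlib
import Groth.Agent.Lib.SmoothPerf_helper6
import Groth.Agent.Lib.FSGeomRed_helper3

/-!
# Smoothness over a field via `Ω` and generic geometric reducedness (helper6)
-/

set_option autoImplicit false
set_option maxHeartbeats 400000
universe u
open TensorProduct IsLocalRing KaehlerDifferential

namespace Groth.Agent.Lib.SmoothPerf2_helper6

open Groth.Agent.Lib.SmoothPerf_helper6

/-- At a minimal prime `q` with `A_q` reduced, `A_q → κ(q)` is bijective. -/
theorem bijective_algebraMap_residueField_of_minimal {A : Type u} [CommRing A] (q : Ideal A)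
    [q.IsPrime] (hq : q ∈ minimalPrimes A) [IsReduced (Localization.AtPrime q)] :
    Function.Bijective (algebraMap (Localization.AtPrime q) q.ResidueField) := by
  have hrad : (⊥ : Ideal (Localization.AtPrime q)).radical = ⊥ := by
    rw [eq_bot_iff]
    intro x hx
    obtain ⟨n, hn⟩ := hx
    exact (Ideal.mem_bot).2 (IsNilpotent.eq_zero ⟨n, (Ideal.mem_bot).1 hn⟩)
  have hmax0 : maximalIdeal (Localization.AtPrime q) = ⊥ := by
    have := IsLocalization.AtPrime.radical_map_of_mem_minimalPrimes
      (A := Localization.AtPrime q) q ⊥ hq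
    rw [Ideal.map_bot, Localization.AtPrime.map_eq_maximalIdeal, hrad] at this
    exact this.symm
  refine ⟨?_, IsLocalRing.residue_surjective⟩
  rw [RingHom.injective_iff_ker_eq_bot]
  show RingHom.ker (IsLocalRing.residue _) = ⊥
  rw [IsLocalRing.ker_residue, hmax0]

theorem isRegularLocalRing_localization_maximal
    (k A : Type u) [Field k] [PerfectField k] [CommRing A] [Algebra k A]
    [Algebra.FiniteType k A] [Module.Projective A Ω[A⁄k]]
    (hR0 : ∀ (q : Ideal A) [q.IsPrime], q ∈ minimalPrimes A → IsReduced (Localization.AtPrime q))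
    (m : Ideal A) [hm : m.IsMaximal] :
    IsRegularLocalRing (Localization.AtPrime m) := by
  haveI : IsNoetherianRing A := Algebra.FiniteType.isNoetherianRing k A
  haveI hmp : m.IsPrime := hm.isPrime
  -- the residue field is finite separable over `k`
  letI : Field (A ⧸ m) := Ideal.Quotient.field m
  haveI : Module.Finite k (A ⧸ m) := finite_of_finite_type_of_isJacobsonRing k (A ⧸ m)
  have hbij := m.bijective_algebraMap_quotient_residueField
  let e : (A ⧸ m) ≃ₐ[k] m.ResidueField :=
    AlgEquiv.ofBijective (IsScalarTower.toAlgHom k (A ⧸ m) m.ResidueField) hbij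
  haveI : Module.Finite k m.ResidueField := Module.Finite.equiv e.toLinearEquiv
  haveI : Algebra.IsSeparable k m.ResidueField := Algebra.IsAlgebraic.isSeparable_of_perfectField
  haveI : Algebra.FormallyEtale k m.ResidueField :=
    Algebra.FormallyEtale.of_isSeparable k m.ResidueField
  haveI : Algebra.FormallySmooth k m.ResidueField := inferInstance
  haveI : Algebra.FormallyUnramified k m.ResidueField := inferInstance
  have h1 := finrank_tensor_eq k (Localization.AtPrime m)
  have h2 := Groth.Agent.Lib.SmVarReg_helper6.finrank_fibre_localization k A m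
  -- a minimal prime below `m`
  obtain ⟨q, hq, hqm⟩ := Ideal.exists_minimalPrimes_le (bot_le : (⊥ : Ideal A) ≤ m)
  haveI hqp : q.IsPrime := hq.1.1
  haveI := hR0 q hq
  have h3 : Module.finrank q.ResidueField (q.ResidueField ⊗[A] Ω[A⁄k]) =
      Module.finrank m.ResidueField (m.ResidueField ⊗[A] Ω[A⁄k]) :=
    (Ideal.finrank_fiber_eq_rankAtStalk (M := Ω[A⁄k]) q).trans
      ((Module.rankAtStalk_eq_of_le_of_finite_of_flat' (Ω[A⁄k]) hqm).trans
        (Ideal.finrank_fiber_eq_rankAtStalk (M := Ω[A⁄k]) m).symm)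
  -- `A → κ(q)` is formally étale
  haveI : Algebra.FormallyEtale A (Localization.AtPrime q) :=
    Algebra.FormallyEtale.of_isLocalization q.primeCompl
  have hbijq := bijective_algebraMap_residueField_of_minimal q hq
  haveI : Algebra.FormallyEtale (Localization.AtPrime q) q.ResidueField :=
    Algebra.FormallyEtale.of_equiv (AlgEquiv.ofBijective (Algebra.ofId _ _) hbijq)
  haveI : Algebra.FormallyEtale A q.ResidueField :=
    Algebra.FormallyEtale.comp A (Localization.AtPrime q) q.ResidueField
  have h4 : Module.finrank q.ResidueField (q.ResidueField ⊗[A] Ω[A⁄k]) =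
      Module.finrank q.ResidueField Ω[q.ResidueField⁄k] :=
    (KaehlerDifferential.tensorKaehlerEquivOfFormallyEtale k A q.ResidueField).finrank_eq
  haveI : Algebra.EssFiniteType A (Localization.AtPrime q) :=
    Algebra.EssFiniteType.of_isLocalization _ q.primeCompl
  haveI : Algebra.EssFiniteType k (Localization.AtPrime q) :=
    Algebra.EssFiniteType.comp k A (Localization.AtPrime q)
  haveI : Algebra.FiniteType (Localization.AtPrime q) q.ResidueField :=
    Algebra.FiniteType.of_surjective (Algebra.ofId (Localization.AtPrime q) q.ResidueField)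
      IsLocalRing.residue_surjective
  haveI : Algebra.EssFiniteType k q.ResidueField :=
    Algebra.EssFiniteType.comp k (Localization.AtPrime q) q.ResidueField
  obtain ⟨-, h5⟩ := Groth.Agent.Lib.KaehlerRegH3.finrank_kaehler_eq_trdeg k q.ResidueField
  obtain ⟨d, hd1, -, -, hd4⟩ := Groth.Agent.DimFTH8.exists_dim_eq k (A ⧸ q)
  have h6 : Algebra.trdeg k q.ResidueField = d := by
    rw [← hd1]
    exact ((FractionRing.algEquiv (A ⧸ q) q.ResidueField).restrictScalars k).trdeg_eq.symm
  -- heights
  have hker : RingHom.ker (Ideal.Quotient.mk q) ≤ m := by rw [Ideal.mk_ker]; exact hqm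
  haveI hmq : (m.map (Ideal.Quotient.mk q)).IsMaximal :=
    Ideal.IsMaximal.map_of_surjective_of_ker_le Ideal.Quotient.mk_surjective hker
  have h7 : (m.map (Ideal.Quotient.mk q)).height = d := hd4 _
  have h8 : (m.map (Ideal.Quotient.mk q)).height ≤ m.height := height_map_quotient_le q m hqm
  have h9 : (d : ℕ∞) ≤ m.height := h7 ▸ h8
  apply IsRegularLocalRing.of_spanFinrank_maximalIdeal_le
  rw [IsLocalRing.spanFinrank_maximalIdeal_eq_finrank_cotangentSpace, ← h1, h2, ← h3, h4, h5, h6,
    Cardinal.toNat_natCast, IsLocalization.AtPrime.ringKrullDim_eq_height m]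
  exact_mod_cast h9

theorem formallySmooth_localization_maximal
    (k A : Type u) [Field k] [PerfectField k] [CommRing A] [Algebra k A]
    [Algebra.FiniteType k A] [Module.Projective A Ω[A⁄k]]
    (hR0 : ∀ (q : Ideal A) [q.IsPrime], q ∈ minimalPrimes A → IsReduced (Localization.AtPrime q))
    (m : Ideal A) [hm : m.IsMaximal] :
    Algebra.FormallySmooth k (Localization.AtPrime m) := by
  haveI : IsNoetherianRing A := Algebra.FiniteType.isNoetherianRing k A
  haveI := hm.isPrime
  have hreg := isRegularLocalRing_localization_maximal k A hR0 m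
  obtain ⟨n, f, hf⟩ := Algebra.FiniteType.iff_quotient_mvPolynomial''.1
    (inferInstance : Algebra.FiniteType k A)
  let g : MvPolynomial (Fin n) k →ₐ[k] Localization.AtPrime m :=
    (IsScalarTower.toAlgHom k A (Localization.AtPrime m)).comp f
  haveI : Algebra.IsGeometricallyReduced k (ResidueField (Localization.AtPrime m)) :=
    Groth.Agent.Lib.PerfectGRH3.isGeometricallyReduced_of_perfectField _ _
  refine Groth.Agent.Lib.SmoothRegFieldH3.formallySmooth_of_regular_of_bijective (k := k) (R₀ := k)
    (fun x => ⟨x, rfl⟩) n g ?_ hreg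
  intro s
  obtain ⟨a, t, rfl⟩ := IsLocalization.exists_mk'_eq m.primeCompl s
  obtain ⟨F, rfl⟩ := hf a
  obtain ⟨G, hG⟩ := hf (t : A)
  refine ⟨F, G, ?_, ?_⟩
  · show IsUnit (algebraMap A (Localization.AtPrime m) (f G))
    rw [hG]
    exact IsLocalization.map_units _ t
  · show IsLocalization.mk' (Localization.AtPrime m) (f F) t *
      algebraMap A (Localization.AtPrime m) (f G) = algebraMap A (Localization.AtPrime m) (f F)
    rw [hG]
    exact IsLocalization.mk'_spec _ _ _

/-- Generalisation of `SmoothPerf_helper6.main`: only generic reducedness is needed. -/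
theorem smooth_of_R0 (k A : Type u) [Field k] [PerfectField k] [CommRing A] [Algebra k A]
    [Algebra.FiniteType k A] [Module.Projective A Ω[A⁄k]]
    (hR0 : ∀ (q : Ideal A) [q.IsPrime], q ∈ minimalPrimes A → IsReduced (Localization.AtPrime q)) :
    Algebra.Smooth k A := by
  haveI : IsNoetherianRing A := Algebra.FiniteType.isNoetherianRing k A
  haveI : Algebra.FinitePresentation k A := Algebra.FinitePresentation.of_finiteType.mp inferInstance
  refine ⟨?_, ‹_›⟩
  rw [← Algebra.smoothLocus_eq_univ_iff, Set.eq_univ_iff_forall]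
  intro p
  obtain ⟨m, hm, hpm⟩ := Ideal.exists_le_maximal p.asIdeal p.2.ne_top
  haveI := hm
  have h1 : (⟨m, hm.isPrime⟩ : PrimeSpectrum A) ∈ Algebra.smoothLocus k A :=
    formallySmooth_localization_maximal k A hR0 m
  have h2 : p ⤳ ⟨m, hm.isPrime⟩ := (PrimeSpectrum.le_iff_specializes _ _).1 hpm
  exact h2.mem_open Algebra.isOpen_smoothLocus h1

section BaseChange

attribute [local instance] Algebra.TensorProduct.rightAlgebra

variable (k K A : Type u) [Field k] [Field K] [Algebra k K] [CommRing A] [Algebra k A]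

/-- The kernel of `K ⊗ A → K ⊗ A_q` is killed by elements of `A ∖ q`. -/
theorem exists_mul_eq_zero_of_map_eq_zero (q : Ideal A) [q.IsPrime] (y : K ⊗[k] A)
    (hy : Algebra.TensorProduct.map (AlgHom.id K K)
      (IsScalarTower.toAlgHom k A (Localization.AtPrime q)) y = 0) :
    ∃ u : A, u ∉ q ∧ ((1 : K) ⊗ₜ[k] u) * y = 0 := by
  let f : A →ₗ[k] Localization.AtPrime q :=
    (IsScalarTower.toAlgHom k A (Localization.AtPrime q)).toLinearMap
  have hψ : ∀ y : K ⊗[k] A, Algebra.TensorProduct.map (AlgHom.id K K)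
      (IsScalarTower.toAlgHom k A (Localization.AtPrime q)) y =
      AlgebraTensorModule.lTensor K K f y := by
    intro y
    induction y using TensorProduct.induction_on with
    | zero => simp
    | tmul c a => simp [f]
    | add a b ha hb => rw [map_add, map_add, ha, hb]
  have hmem : y ∈ LinearMap.ker (AlgebraTensorModule.lTensor K K f) := by
    rw [LinearMap.mem_ker, ← hψ, hy]
  rw [Module.Flat.ker_lTensor_eq] at hmem
  clear hy
  obtain ⟨z, rfl⟩ := hmem
  let L : K ⊗[k] (LinearMap.ker f) →ₗ[K] K ⊗[k] A :=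
    AlgebraTensorModule.lTensor K K (LinearMap.ker f).subtype
  show ∃ u : A, u ∉ q ∧ ((1 : K) ⊗ₜ[k] u) * L z = 0
  induction z using TensorProduct.induction_on with
  | zero => exact ⟨1, fun h => Ideal.IsPrime.ne_top inferInstance ((Ideal.eq_top_iff_one q).2 h),
      by simp⟩
  | tmul c a =>
    have ha : algebraMap A (Localization.AtPrime q) (a : A) = 0 := a.2
    obtain ⟨u, hu⟩ := (IsLocalization.map_eq_zero_iff q.primeCompl (Localization.AtPrime q) _).1 ha
    refine ⟨u, u.2, ?_⟩
    simp only [L, AlgebraTensorModule.lTensor_tmul, Submodule.subtype_apply,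
      Algebra.TensorProduct.tmul_mul_tmul, one_mul, hu, tmul_zero]
  | add z₁ z₂ h₁ h₂ =>
    obtain ⟨u₁, hu₁, e₁⟩ := h₁
    obtain ⟨u₂, hu₂, e₂⟩ := h₂
    refine ⟨u₁ * u₂, fun h => (Ideal.IsPrime.mem_or_mem inferInstance h).elim hu₁ hu₂, ?_⟩
    have e : ((1 : K) ⊗ₜ[k] (u₁ * u₂) : K ⊗[k] A) = (1 ⊗ₜ u₁) * (1 ⊗ₜ u₂) := by
      rw [Algebra.TensorProduct.tmul_mul_tmul, one_mul]
    have t1 : (((1 : K) ⊗ₜ[k] u₁ : K ⊗[k] A) * (1 : K) ⊗ₜ[k] u₂) * L z₁ = 0 := by
      rw [mul_comm ((1 : K) ⊗ₜ[k] u₁ : K ⊗[k] A), mul_assoc, e₁, mul_zero]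
    have t2 : (((1 : K) ⊗ₜ[k] u₁ : K ⊗[k] A) * (1 : K) ⊗ₜ[k] u₂) * L z₂ = 0 := by
      rw [mul_assoc, e₂, mul_zero]
    rw [map_add, mul_add, e, t1, t2, add_zero]

/-- Reducedness of `(K ⊗ A)_Q` from reducedness of `K ⊗ A_q`, `q = Q ∩ A`. -/
theorem isReduced_localization_tensor (Q : Ideal (K ⊗[k] A)) [Q.IsPrime] (q : Ideal A) [q.IsPrime]
    (hq : q = Q.comap (algebraMap A (K ⊗[k] A))) [IsReduced (K ⊗[k] Localization.AtPrime q)] :
    IsReduced (Localization.AtPrime Q) := by
  constructor
  intro x hx
  obtain ⟨n, hn⟩ := hx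
  obtain ⟨a', s, rfl⟩ := IsLocalization.exists_mk'_eq Q.primeCompl x
  rw [← IsLocalization.mk'_pow, IsLocalization.mk'_eq_zero_iff] at hn
  obtain ⟨t, ht⟩ := hn
  have hnil : IsNilpotent ((t : K ⊗[k] A) * a') := ⟨n + 1, by
    have : ((t : K ⊗[k] A) * a') ^ (n + 1) = ((t : K ⊗[k] A) ^ n * a') * (t * a' ^ n) := by ring
    rw [this, ht, mul_zero]⟩
  have h0 : Algebra.TensorProduct.map (AlgHom.id K K)
      (IsScalarTower.toAlgHom k A (Localization.AtPrime q)) ((t : K ⊗[k] A) * a') = 0 :=
    (hnil.map _).eq_zero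
  obtain ⟨u, hu, e⟩ := exists_mul_eq_zero_of_map_eq_zero k K A q _ h0
  rw [IsLocalization.mk'_eq_zero_iff]
  have huQ : ((1 : K) ⊗ₜ[k] u : K ⊗[k] A) ∉ Q := by
    intro h
    apply hu
    rw [hq]
    exact h
  refine ⟨⟨((1 : K) ⊗ₜ[k] u : K ⊗[k] A) * (t : K ⊗[k] A), Q.primeCompl.mul_mem huQ t.2⟩, ?_⟩
  show ((1 : K) ⊗ₜ[k] u : K ⊗[k] A) * t * a' = 0
  rw [mul_assoc]
  exact e

theorem smooth_iff (k A : Type u) [Field k] [CommRing A] [Algebra k A] [Algebra.FiniteType k A] :
    Algebra.Smooth k A ↔
      Module.Projective A Ω[A⁄k] ∧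
        ∀ (p : Ideal A) [p.IsPrime], p ∈ minimalPrimes A →
          Algebra.IsGeometricallyReduced k (Localization.AtPrime p) := by
  haveI : IsNoetherianRing A := Algebra.FiniteType.isNoetherianRing k A
  haveI : Algebra.FinitePresentation k A := Algebra.FinitePresentation.of_finiteType.mp inferInstance
  constructor
  · intro hsm
    haveI := hsm.1
    refine ⟨inferInstance, ?_⟩
    intro p hp hpmin
    haveI : Algebra.FormallyEtale A (Localization.AtPrime p) :=
      Algebra.FormallyEtale.of_isLocalization p.primeCompl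
    haveI : Algebra.FormallySmooth A (Localization.AtPrime p) := inferInstance
    haveI : Algebra.FormallySmooth k (Localization.AtPrime p) :=
      Algebra.FormallySmooth.comp k A (Localization.AtPrime p)
    haveI hreg : IsRegularLocalRing (Localization.AtPrime p) :=
      Groth.Agent.Lib.SmoothRegFieldH3.regular_of_formallySmooth_field (k := k)
    haveI : IsDomain (Localization.AtPrime p) := Groth.Agent.RegularLib.isDomain _
    have hbij := bijective_algebraMap_residueField_of_minimal p hpmin
    haveI : Algebra.FormallyEtale (Localization.AtPrime p) p.ResidueField :=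
      Algebra.FormallyEtale.of_equiv (AlgEquiv.ofBijective (Algebra.ofId _ _) hbij)
    haveI : Algebra.FormallySmooth (Localization.AtPrime p) p.ResidueField := inferInstance
    haveI : Algebra.FormallySmooth k p.ResidueField :=
      Algebra.FormallySmooth.comp k (Localization.AtPrime p) p.ResidueField
    haveI : Algebra.IsGeometricallyReduced k p.ResidueField :=
      (Groth.Agent.Lib.FSGRH3.formallySmooth_iff_isGeometricallyReduced k p.ResidueField).1
        inferInstance
    exact Algebra.IsGeometricallyReduced.of_injective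
      (IsScalarTower.toAlgHom k (Localization.AtPrime p) p.ResidueField) hbij.1
  · rintro ⟨hproj, hgr⟩
    haveI := hproj
    let K := AlgebraicClosure k
    haveI : Module.Projective (K ⊗[k] A) Ω[(K ⊗[k] A)⁄K] :=
      Module.Projective.of_equiv (KaehlerDifferential.tensorKaehlerEquiv k K A (K ⊗[k] A))
    haveI : Module.Flat A (K ⊗[k] A) := by
      have h : Algebra.IsPushout k A K (K ⊗[k] A) :=
        (inferInstance : Algebra.IsPushout k K A (K ⊗[k] A)).symm
      exact Module.Flat.isBaseChange (R := k) (S := A) (M := K) (K ⊗[k] A) h.out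
    have hR0 : ∀ (Q : Ideal (K ⊗[k] A)) [Q.IsPrime], Q ∈ minimalPrimes (K ⊗[k] A) →
        IsReduced (Localization.AtPrime Q) := by
      intro Q hQ hQmin
      let q : Ideal A := Q.comap (algebraMap A (K ⊗[k] A))
      haveI hqp : q.IsPrime := Ideal.comap_isPrime _ _
      have hqmin : q ∈ minimalPrimes A := by
        refine ⟨⟨hqp, bot_le⟩, ?_⟩
        rintro q' ⟨hq'p, -⟩ hq'q
        haveI := hq'p
        haveI : Q.LiesOver q := ⟨rfl⟩
        obtain ⟨P, hPQ, hPp, hPlo⟩ :=
          Ideal.exists_ideal_le_liesOver_of_le (p := q') (q := q) Q hq'q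
        have hQP : Q ≤ P := hQmin.2 ⟨hPp, bot_le⟩ hPQ
        have hPeq : P = Q := le_antisymm hPQ hQP
        rw [hPlo.over, hPeq]
      haveI := hgr q hqmin
      exact isReduced_localization_tensor k K A Q q rfl
    haveI hsm' : Algebra.Smooth K (K ⊗[k] A) := smooth_of_R0 K (K ⊗[k] A) hR0
    haveI := hsm'.1
    have hsub : Subsingleton (Algebra.H1Cotangent k A) := by
      haveI : Subsingleton (K ⊗[k] Algebra.H1Cotangent k A) :=
        (Algebra.tensorH1CotangentOfFlat k A K).toEquiv.subsingleton
      exact Module.FaithfullyFlat.lTensor_reflects_triviality k K _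
    exact ⟨⟨hproj, hsub⟩, inferInstance⟩

end BaseChange

end Groth.Agent.Lib.SmoothPerf2_helper6
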