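import Mathlib
import Groth.Agent.Lib.SmoothUnibranch4_helper3

/-!
# Prime elements in strict henselizations of local rings of smooth algebras (helper3)

Generalization of `prime_map_strictHenselization` to an arbitrary local base `A` and an ideal `J`
such that `A ⧸ J` is a geometrically unibranch reduced local ring.
-/

set_option autoImplicit false
set_option maxSynthPendingDepth 3
universe u

namespace Groth.Agent.Lib.SmoothUnibranchH3

open TensorProduct IsLocalRing

section PrimeGen

open Groth.Agent.Lib.BrEtNbhdH3 Groth.Agent.Lib.HensBranchesH3 Groth.Agent.Lib.UnibranchH3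

variable (A : Type u) [CommRing A] [IsLocalRing A]
  (R' : Type u) [CommRing R'] [Algebra A R'] [Algebra.Smooth A R'] (q : Ideal R') [q.IsPrime]
  (Bq : Type u) [CommRing Bq] [IsLocalRing Bq] [Algebra R' Bq] [IsLocalization.AtPrime Bq q]

/-- the quotient of a local ring of a smooth algebra by the extension of an ideal `J` of the base
with `A ⧸ J` reduced and geometrically unibranch is a geometrically unibranch domain -/
theorem quotient_localization_of_smooth (hq : (maximalIdeal A).map (algebraMap A R') ≤ q)
    (J : Ideal A) (hJm : J ≤ maximalIdeal A) [IsLocalRing (A ⧸ J)] [IsReduced (A ⧸ J)]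
    (hgu : CAlg2.IsGeomUnibranch (A ⧸ J))
    [IsLocalRing (Bq ⧸ (J.map (algebraMap A R')).map (algebraMap R' Bq))] :
    IsDomain (Bq ⧸ (J.map (algebraMap A R')).map (algebraMap R' Bq)) ∧
      CAlg2.IsGeomUnibranch (Bq ⧸ (J.map (algebraMap A R')).map (algebraMap R' Bq)) := by
  haveI : Algebra.Smooth (A ⧸ J) (R' ⧸ J.map (algebraMap A R')) :=
    Algebra.Smooth.of_equiv (Algebra.TensorProduct.quotIdealMapEquivQuotTensor R' J).symm
  have hIq : J.map (algebraMap A R') ≤ q := (Ideal.map_mono hJm).trans hq
  obtain ⟨q', hq'def⟩ : ∃ q' : Ideal (R' ⧸ J.map (algebraMap A R')),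
      q' = q.map (Ideal.Quotient.mk (J.map (algebraMap A R'))) := ⟨_, rfl⟩
  haveI hq'p : q'.IsPrime := by
    rw [hq'def]
    exact Ideal.map_isPrime_of_surjective Ideal.Quotient.mk_surjective
      (by rw [Ideal.mk_ker]; exact hIq)
  have hmemq' : ∀ x : R', Ideal.Quotient.mk (J.map (algebraMap A R')) x ∈ q' ↔ x ∈ q := by
    intro x
    rw [hq'def]
    constructor
    · intro hx
      obtain ⟨y, hy, hxy⟩ := (Ideal.mem_map_iff_of_surjective _
        Ideal.Quotient.mk_surjective).mp hx
      have h1 : y - x ∈ J.map (algebraMap A R') := by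
        rw [← Ideal.Quotient.eq_zero_iff_mem, map_sub, hxy, sub_self]
      have h2 : x = y - (y - x) := by ring
      rw [h2]
      exact q.sub_mem hy (hIq h1)
    · intro hx
      exact Ideal.mem_map_of_mem _ hx
  have hq' : (maximalIdeal (A ⧸ J)).map
      (algebraMap (A ⧸ J) (R' ⧸ J.map (algebraMap A R'))) ≤ q' := by
    rw [Ideal.map_le_iff_le_comap]
    intro x hx
    obtain ⟨a, rfl⟩ := Ideal.Quotient.mk_surjective x
    have ha : a ∈ maximalIdeal A := by
      rw [mem_maximalIdeal, mem_nonunits_iff]
      intro hu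
      exact hx (hu.map (Ideal.Quotient.mk J))
    rw [Ideal.mem_comap]
    have h1 : algebraMap (A ⧸ J) (R' ⧸ J.map (algebraMap A R')) (Ideal.Quotient.mk J a) =
        Ideal.Quotient.mk (J.map (algebraMap A R')) (algebraMap A R' a) := rfl
    rw [h1, hmemq']
    exact hq (Ideal.mem_map_of_mem _ ha)
  haveI hloc0 : IsLocalization (Algebra.algebraMapSubmonoid (R' ⧸ J.map (algebraMap A R'))
      q.primeCompl) (Bq ⧸ (J.map (algebraMap A R')).map (algebraMap R' Bq)) :=
    inferInstance
  have hsub : Algebra.algebraMapSubmonoid (R' ⧸ J.map (algebraMap A R')) q.primeCompl =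
      q'.primeCompl := by
    ext z
    constructor
    · rintro ⟨x, hx, rfl⟩
      show _ ∉ q'
      have h1 : algebraMap R' (R' ⧸ J.map (algebraMap A R')) x =
          Ideal.Quotient.mk (J.map (algebraMap A R')) x := rfl
      rw [h1, hmemq']
      exact hx
    · intro hz
      obtain ⟨x, rfl⟩ := Ideal.Quotient.mk_surjective z
      have hz' : Ideal.Quotient.mk (J.map (algebraMap A R')) x ∉ q' := hz
      rw [hmemq'] at hz'
      exact ⟨x, hz', rfl⟩
  haveI hlocP : IsLocalization.AtPrime (Bq ⧸ (J.map (algebraMap A R')).map (algebraMap R' Bq))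
      q' := by
    show IsLocalization q'.primeCompl _
    rw [← hsub]
    exact hloc0
  exact ⟨isDomain_of_isLocalization_of_smooth (A ⧸ J) (R' ⧸ J.map (algebraMap A R')) q'
      (Bq ⧸ (J.map (algebraMap A R')).map (algebraMap R' Bq)) hgu hq',
    isGeomUnibranch_of_isLocalization_of_smooth (A ⧸ J) (R' ⧸ J.map (algebraMap A R')) q'
      (Bq ⧸ (J.map (algebraMap A R')).map (algebraMap R' Bq)) hgu hq'⟩

variable (T : Type u) [CommRing T] [IsLocalRing T] [Algebra Bq T] [IsLocalHom (algebraMap Bq T)]
  [Hensel.IsStrictHenselization Bq T]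

/-- **An element `Δ ≠ 0` of a local ring `A` with `A ⧸ Δ` reduced and geometrically unibranch is a
prime element of every strict henselization of a local ring of a smooth `A`-algebra at a prime
over the closed point.** -/
theorem prime_map_strictHenselization_of_isGeomUnibranch
    (hq : (maximalIdeal A).map (algebraMap A R') ≤ q) (Δ : A) (hΔ0 : Δ ≠ 0)
    (hΔm : Δ ∈ maximalIdeal A) [IsLocalRing (A ⧸ Ideal.span {Δ})]
    [IsReduced (A ⧸ Ideal.span {Δ})] (hgu : CAlg2.IsGeomUnibranch (A ⧸ Ideal.span {Δ})) :
    Prime (algebraMap Bq T (algebraMap R' Bq (algebraMap A R' Δ))) := by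
  obtain ⟨J, hJdef⟩ : ∃ J : Ideal A, J = Ideal.span {Δ} := ⟨_, rfl⟩
  have hJm : J ≤ maximalIdeal A := by
    rw [hJdef, Ideal.span_le, Set.singleton_subset_iff]
    exact hΔm
  have hIq : J.map (algebraMap A R') ≤ q := (Ideal.map_mono hJm).trans hq
  have hPm : (J.map (algebraMap A R')).map (algebraMap R' Bq) ≤ maximalIdeal Bq := by
    rw [Ideal.map_le_iff_le_comap]
    have h0 := IsLocalization.AtPrime.comap_maximalIdeal Bq q
    exact hIq.trans (le_of_eq h0.symm)
  subst hJdef
  haveI : IsLocalRing (Bq ⧸ ((Ideal.span {Δ}).map (algebraMap A R')).map (algebraMap R' Bq)) :=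
    isLocalRing_quotient _ hPm
  obtain ⟨hdomB, hguB⟩ := quotient_localization_of_smooth A R' q Bq hq (Ideal.span {Δ}) hJm hgu
  have hdomT := isDomain_quotient_strictHenselization Bq T
    (((Ideal.span {Δ}).map (algebraMap A R')).map (algebraMap R' Bq)) hdomB hguB
  have hPTp := (Ideal.Quotient.isDomain_iff_prime _).mp hdomT
  have hspan : (((Ideal.span {Δ}).map (algebraMap A R')).map (algebraMap R' Bq)).map
      (algebraMap Bq T) =
      Ideal.span {algebraMap Bq T (algebraMap R' Bq (algebraMap A R' Δ))} := by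
    rw [Ideal.map_span, Ideal.map_span, Ideal.map_span, Set.image_singleton,
      Set.image_singleton, Set.image_singleton]
  rw [hspan] at hPTp
  refine (Ideal.span_singleton_prime ?_).mp hPTp
  -- injectivity
  haveI : Module.Flat R' Bq := IsLocalization.flat _ q.primeCompl
  letI : Algebra A Bq := ((algebraMap R' Bq).comp (algebraMap A R')).toAlgebra
  haveI : IsScalarTower A R' Bq := IsScalarTower.of_algebraMap_eq' rfl
  haveI : Module.Flat A Bq := Module.Flat.trans A R' _
  haveI : IsLocalHom (algebraMap A Bq) := by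
    refine ⟨fun a ha => ?_⟩
    by_contra hna
    have ham : a ∈ maximalIdeal A := hna
    have h1 : algebraMap A R' a ∈ q := hq (Ideal.mem_map_of_mem _ ham)
    rw [IsScalarTower.algebraMap_apply A R' Bq,
      IsLocalization.AtPrime.isUnit_to_map_iff Bq q] at ha
    exact ha h1
  haveI : Module.FaithfullyFlat A Bq := Module.FaithfullyFlat.of_flat_of_isLocalHom
  have hinj1 : Function.Injective (algebraMap A Bq) := FaithfulSMul.algebraMap_injective A _
  haveI hflT := Groth.Agent.Lib.StrictHens.faithfullyFlat_of_isStrictHenselization (R := Bq) T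
  have hinj2 : Function.Injective (algebraMap Bq T) := FaithfulSMul.algebraMap_injective _ T
  intro h0
  rw [← IsScalarTower.algebraMap_apply A R' Bq] at h0
  have h1 := hinj1 (hinj2 (h0.trans (map_zero _).symm) |>.trans (map_zero _).symm)
  exact hΔ0 h1

end PrimeGen

end Groth.Agent.Lib.SmoothUnibranchH3
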