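import Mathlib
import Groth.Agent.Lib.SmoothPrime1_helper3
import Groth.Agent.Lib.FibBranch1_helper3

/-!
# Étale-universally prime elements (helper3)
-/

set_option autoImplicit false
set_option maxSynthPendingDepth 3
universe u

namespace Groth.Agent.Lib.SmoothUnibranchH3

open TensorProduct IsLocalRing

section Facts

open Groth.Agent.Lib.HensBranchesH3 Groth.Agent.Lib.UnibranchH3 Groth.Agent.Lib.FibBranchH3

variable (A : Type u) [CommRing A] [IsLocalRing A] (T₀ : Type u) [CommRing T₀] [IsLocalRing T₀]
  [Algebra A T₀] [IsLocalHom (algebraMap A T₀)] [Hensel.IsStrictHenselization A T₀]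

/-- if `Δ` becomes a prime element of a strict henselization of `A`, then `A ⧸ Δ` is a
geometrically unibranch domain -/
theorem quotient_facts_of_prime_strict (Δ : A) (hΔm : Δ ∈ maximalIdeal A)
    (hΔ : Prime (algebraMap A T₀ Δ)) [IsLocalRing (A ⧸ Ideal.span {Δ})] :
    Δ ≠ 0 ∧ IsDomain (A ⧸ Ideal.span {Δ}) ∧ CAlg2.IsGeomUnibranch (A ⧸ Ideal.span {Δ}) := by
  haveI hS : HenselianLocalRing T₀ := Hensel.IsStrictHenselization.henselian A
  haveI := Groth.Agent.Lib.StrictHens.faithfullyFlat_of_isStrictHenselization (R := A) T₀
  have hie := Groth.Agent.Lib.StrictHens.isIndEtale_of_isStrictHenselization (R := A) T₀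
  haveI hsc : IsSepClosed (ResidueField T₀) :=
    (Hensel.IsStrictHenselization.isSepClosure (R := A) (S := T₀)).sep_closed
  have hJm : Ideal.span {Δ} ≤ maximalIdeal A := by
    rw [Ideal.span_le, Set.singleton_subset_iff]
    exact hΔm
  have hmap : (Ideal.span {Δ}).map (algebraMap A T₀) = Ideal.span {algebraMap A T₀ Δ} := by
    rw [Ideal.map_span, Set.image_singleton]
  have hprime : ((Ideal.span {Δ}).map (algebraMap A T₀)).IsPrime := by
    rw [hmap]
    exact (Ideal.span_singleton_prime hΔ.ne_zero).mpr hΔ
  have hcomap : ((Ideal.span {Δ}).map (algebraMap A T₀)).comap (algebraMap A T₀) =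
      Ideal.span {Δ} := Ideal.comap_map_eq_self_of_faithfullyFlat _
  haveI hJp : (Ideal.span {Δ} : Ideal A).IsPrime := by
    rw [← hcomap]
    exact Ideal.comap_isPrime _ _
  have hdom : IsDomain (A ⧸ Ideal.span {Δ}) := (Ideal.Quotient.isDomain_iff_prime _).mpr hJp
  refine ⟨?_, hdom, ?_⟩
  · rintro rfl
    exact hΔ.ne_zero (map_zero _)
  · rw [← numGeomBranches_eq_one_iff,
      ← card_minimalPrimes_quotient_strict_ideal A T₀ hie
        (exists_monic_eval₂_mem_of_isStrictHenselization A T₀) (Ideal.span {Δ}) hJm]
    haveI : IsDomain (T₀ ⧸ (Ideal.span {Δ}).map (algebraMap A T₀)) :=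
      (Ideal.Quotient.isDomain_iff_prime _).mpr hprime
    rw [ENat.card_coe_set_eq, IsDomain.minimalPrimes_eq_singleton_bot, Set.encard_singleton]

end Facts

section Assembly

attribute [local instance] Algebra.TensorProduct.rightAlgebra

open Groth.Agent.Lib.UnibranchH3

/-- **the key step**: `R'` smooth over `R`, `q` a prime of `R'` over `p`, `Δ ∈ p` an element of `R`
which is prime in a strict henselization of `R_p`; then `Δ` is prime in every strict henselization
of `R'_q`. -/
theorem prime_of_prime_strict_of_smooth {R R' : Type u} [CommRing R] [CommRing R'] [Algebra R R']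
    [Algebra.Smooth R R'] (q : Ideal R') [q.IsPrime] (p : Ideal R) [p.IsPrime]
    (hpq : p = q.comap (algebraMap R R'))
    (T₀ : Type u) [CommRing T₀] [IsLocalRing T₀] [Algebra (Localization.AtPrime p) T₀]
    [IsLocalHom (algebraMap (Localization.AtPrime p) T₀)]
    [Hensel.IsStrictHenselization (Localization.AtPrime p) T₀]
    (T : Type u) [CommRing T] [IsLocalRing T] [Algebra (Localization.AtPrime q) T]
    [IsLocalHom (algebraMap (Localization.AtPrime q) T)]
    [Hensel.IsStrictHenselization (Localization.AtPrime q) T]
    (Δ : R) (hΔp : Δ ∈ p)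
    (hΔ : Prime (algebraMap (Localization.AtPrime p) T₀ (algebraMap R (Localization.AtPrime p) Δ))) :
    Prime (algebraMap (Localization.AtPrime q) T
      (algebraMap R' (Localization.AtPrime q) (algebraMap R R' Δ))) := by
  -- notation
  obtain ⟨δ, hδ⟩ : ∃ δ : Localization.AtPrime p, δ = algebraMap R (Localization.AtPrime p) Δ :=
    ⟨_, rfl⟩
  rw [← hδ] at hΔ
  have hδm : δ ∈ maximalIdeal (Localization.AtPrime p) := by
    rw [hδ]
    exact (IsLocalization.AtPrime.to_map_mem_maximal_iff (Localization.AtPrime p) p Δ).mpr hΔp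
  have hJm : Ideal.span {δ} ≤ maximalIdeal (Localization.AtPrime p) := by
    rw [Ideal.span_le, Set.singleton_subset_iff]
    exact hδm
  haveI : IsLocalRing (Localization.AtPrime p ⧸ Ideal.span {δ}) := isLocalRing_quotient _ hJm
  obtain ⟨hδ0, hdom, hgu⟩ := quotient_facts_of_prime_strict (Localization.AtPrime p) T₀ δ hδm hΔ
  haveI := hdom
  -- algebra structures on the local ring of `R'`
  letI algAB : Algebra (Localization.AtPrime p) (Localization.AtPrime q) :=
    (Localization.localRingHom p q (algebraMap R R') hpq).toAlgebra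
  haveI : IsLocalHom (algebraMap (Localization.AtPrime p) (Localization.AtPrime q)) :=
    Localization.isLocalHom_localRingHom _ _ _ hpq
  haveI tow2 : IsScalarTower R (Localization.AtPrime p) (Localization.AtPrime q) :=
    IsScalarTower.of_algebraMap_eq (fun r => by
      rw [IsScalarTower.algebraMap_apply R R' (Localization.AtPrime q)]
      show algebraMap R' (Localization.AtPrime q) (algebraMap R R' r) =
        Localization.localRingHom p q (algebraMap R R') hpq (algebraMap R _ r)
      rw [Localization.localRingHom_to_map])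
  -- the tensor product
  haveI : IsLocalization (Algebra.algebraMapSubmonoid R' p.primeCompl)
      (Localization.AtPrime p ⊗[R] R') :=
    IsLocalization.tensorRight (R := R) (S := R') (Localization.AtPrime p) p.primeCompl
  let ψ : Localization.AtPrime p ⊗[R] R' →ₐ[Localization.AtPrime p] Localization.AtPrime q :=
    Algebra.TensorProduct.lift (Algebra.ofId _ _) (IsScalarTower.toAlgHom R R' _)
      (fun _ _ => Commute.all _ _)
  letI : Algebra (Localization.AtPrime p ⊗[R] R') (Localization.AtPrime q) :=
    ψ.toRingHom.toAlgebra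
  haveI : IsScalarTower (Localization.AtPrime p) (Localization.AtPrime p ⊗[R] R')
      (Localization.AtPrime q) :=
    IsScalarTower.of_algebraMap_eq' (by
      ext a
      simp [RingHom.algebraMap_toAlgebra, ψ, Algebra.TensorProduct.algebraMap_apply,
        Algebra.ofId_apply])
  have hcompB : algebraMap R' (Localization.AtPrime q) =
      (algebraMap (Localization.AtPrime p ⊗[R] R') (Localization.AtPrime q)).comp
        (algebraMap R' (Localization.AtPrime p ⊗[R] R')) := by
    ext b
    simp [RingHom.algebraMap_toAlgebra, ψ]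
  haveI : IsScalarTower R' (Localization.AtPrime p ⊗[R] R') (Localization.AtPrime q) :=
    IsScalarTower.of_algebraMap_eq' hcompB
  have hle : Algebra.algebraMapSubmonoid R' p.primeCompl ≤ q.primeCompl := by
    rintro _ ⟨r, hr, rfl⟩
    show algebraMap R R' r ∉ q
    intro hmem
    apply hr
    rw [hpq]
    exact hmem
  haveI hlocN : IsLocalization (q.primeCompl.map (algebraMap R' (Localization.AtPrime p ⊗[R] R')))
      (Localization.AtPrime q) :=
    IsLocalization.isLocalization_of_submonoid_le (Localization.AtPrime p ⊗[R] R')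
      (Localization.AtPrime q) (Algebra.algebraMapSubmonoid R' p.primeCompl) q.primeCompl hle
  obtain ⟨p'', hp''⟩ : ∃ p'' : Ideal (Localization.AtPrime p ⊗[R] R'),
      p'' = (maximalIdeal (Localization.AtPrime q)).comap
        (algebraMap (Localization.AtPrime p ⊗[R] R') (Localization.AtPrime q)) := ⟨_, rfl⟩
  haveI : p''.IsPrime := by rw [hp'']; exact Ideal.comap_isPrime _ _
  haveI : IsLocalization.AtPrime (Localization.AtPrime q) p'' := by
    refine IsLocalization.of_le
      (M := q.primeCompl.map (algebraMap R' (Localization.AtPrime p ⊗[R] R'))) p''.primeCompl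
      ?_ ?_
    · rintro _ ⟨b, hb, rfl⟩
      show (algebraMap R' (Localization.AtPrime p ⊗[R] R')) b ∉ p''
      rw [hp'', Ideal.mem_comap, ← IsScalarTower.algebraMap_apply, mem_maximalIdeal,
        mem_nonunits_iff, not_not, IsLocalization.AtPrime.isUnit_to_map_iff _ q]
      exact hb
    · intro r hr
      have hr' : r ∉ p'' := hr
      rw [hp'', Ideal.mem_comap, mem_maximalIdeal, mem_nonunits_iff, not_not] at hr'
      exact hr'
  have hq'' : (maximalIdeal (Localization.AtPrime p)).map
      (algebraMap (Localization.AtPrime p) (Localization.AtPrime p ⊗[R] R')) ≤ p'' := by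
    rw [Ideal.map_le_iff_le_comap]
    intro a ha
    rw [Ideal.mem_comap, hp'', Ideal.mem_comap, ← IsScalarTower.algebraMap_apply,
      mem_maximalIdeal, mem_nonunits_iff]
    intro hu
    exact ha (isUnit_of_map_unit (algebraMap (Localization.AtPrime p) (Localization.AtPrime q)) a
      hu)
  haveI : IsReduced (Localization.AtPrime p ⧸ Ideal.span {δ}) := inferInstance
  have key := prime_map_strictHenselization_of_isGeomUnibranch (Localization.AtPrime p)
    (Localization.AtPrime p ⊗[R] R') p'' (Localization.AtPrime q) T hq'' δ hδ0 hδm hgu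
  have hconv : algebraMap (Localization.AtPrime p ⊗[R] R') (Localization.AtPrime q)
      (algebraMap (Localization.AtPrime p) (Localization.AtPrime p ⊗[R] R') δ) =
      algebraMap R' (Localization.AtPrime q) (algebraMap R R' Δ) := by
    rw [← IsScalarTower.algebraMap_apply, hδ, ← IsScalarTower.algebraMap_apply,
      ← IsScalarTower.algebraMap_apply]
  rw [hconv] at key
  exact key

end Assembly

end Groth.Agent.Lib.SmoothUnibranchH3
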