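import Mathlib

/-!
# Smooth + quasi-finite at a prime implies étale at that prime (lead)

Key lemma: a finite-dimensional formally smooth algebra over a field is formally unramified.
Proof: a nonzero derivation `C → L` to a residue field gives a map `L ⊗ C → L[t]/(t²)`; lifting it
to `L[t]/(t^N)` by formal smoothness produces `N` linearly independent elements of `L ⊗ C`.
-/

set_option autoImplicit false

namespace Groth.Agent.Lib.SmoothQF

open TensorProduct Polynomial

universe u

section LinInd

/-- if the image of `z` is nilpotent of exact order `N`, then `N ≤ dim D` -/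
theorem le_finrank_of_nilpotent_image {K D T : Type*} [Field K] [CommRing D] [CommRing T]
    [Algebra K D] [Algebra K T] [Module.Finite K D] (Φ : D →ₐ[K] T) (z : D) (N : ℕ) (hN : 1 ≤ N)
    (h0 : (Φ z) ^ N = 0) (h1 : (Φ z) ^ (N - 1) ≠ 0) : N ≤ Module.finrank K D := by
  classical
  have hli : LinearIndependent K (fun j : Fin N => z ^ (j : ℕ)) := by
    rw [Fintype.linearIndependent_iff]
    intro a ha
    by_contra hne
    push_neg at hne
    let S : Finset (Fin N) := Finset.univ.filter (fun j => a j ≠ 0)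
    have hS : S.Nonempty := by
      obtain ⟨j, hj⟩ := hne
      exact ⟨j, Finset.mem_filter.mpr ⟨Finset.mem_univ _, hj⟩⟩
    have hj₀ : a (S.min' hS) ≠ 0 := (Finset.mem_filter.mp (S.min'_mem hS)).2
    have hmin : ∀ j, a j ≠ 0 → S.min' hS ≤ j := fun j hj =>
      S.min'_le j (Finset.mem_filter.mpr ⟨Finset.mem_univ _, hj⟩)
    have hlt := (S.min' hS).isLt
    have h2 : (∑ j : Fin N, a j • (Φ z) ^ (j : ℕ)) * (Φ z) ^ (N - 1 - (S.min' hS : ℕ)) = 0 := by
      have := congrArg Φ ha
      simp only [map_sum, map_smul, map_pow, map_zero] at this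
      rw [this, zero_mul]
    rw [Finset.sum_mul, Finset.sum_eq_single (S.min' hS)] at h2
    · rw [smul_mul_assoc, ← pow_add,
        show ((S.min' hS : Fin N) : ℕ) + (N - 1 - (S.min' hS : ℕ)) = N - 1 by omega] at h2
      exact h1 ((smul_eq_zero.mp h2).resolve_left hj₀)
    · intro j _ hj
      by_cases haj : a j = 0
      · rw [haj, zero_smul, zero_mul]
      · have hlt' : S.min' hS < j := lt_of_le_of_ne (hmin j haj) (Ne.symm hj)
        have hle : N ≤ (j : ℕ) + (N - 1 - (S.min' hS : ℕ)) := by
          have := Fin.lt_def.mp hlt'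
          omega
        rw [smul_mul_assoc, ← pow_add, pow_eq_zero_of_le hle h0, smul_zero]
    · intro h
      exact absurd (Finset.mem_univ _) h
  have := hli.fintype_card_le_finrank
  simpa using this

end LinInd

section Trunc

variable (L : Type u) [Field L]

/-- `L[X]/(X^N)` -/
abbrev Tr (N : ℕ) : Type u := L[X] ⧸ Ideal.span {(X : L[X]) ^ N}

theorem span_le (N : ℕ) (hN : 2 ≤ N) :
    Ideal.span {(X : L[X]) ^ N} ≤ Ideal.span {(X : L[X]) ^ 2} := by
  rw [Ideal.span_singleton_le_span_singleton]
  exact pow_dvd_pow X hN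

/-- the projection `L[X]/(X^N) → L[X]/(X^2)` -/
noncomputable def proj (N : ℕ) (hN : 2 ≤ N) : Tr L N →ₐ[L] Tr L 2 :=
  Ideal.Quotient.factorₐ L (span_le L N hN)

theorem proj_mk (N : ℕ) (hN : 2 ≤ N) (g : L[X]) :
    proj L N hN (Ideal.Quotient.mk _ g) = Ideal.Quotient.mk _ g := rfl

theorem proj_surjective (N : ℕ) (hN : 2 ≤ N) : Function.Surjective (proj L N hN) :=
  Ideal.Quotient.factor_surjective (span_le L N hN)

theorem proj_ker_nilpotent (N : ℕ) (hN : 2 ≤ N) :
    IsNilpotent (RingHom.ker (proj L N hN : Tr L N →+* Tr L 2)) := by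
  have hker : RingHom.ker (proj L N hN : Tr L N →+* Tr L 2) ≤
      (Ideal.span {(X : L[X]) ^ 2}).map (Ideal.Quotient.mk (Ideal.span {(X : L[X]) ^ N})) := by
    intro x hx
    obtain ⟨g, rfl⟩ := Ideal.Quotient.mk_surjective x
    have h0 : Ideal.Quotient.mk (Ideal.span {(X : L[X]) ^ 2}) g = 0 := RingHom.mem_ker.mp hx
    exact Ideal.mem_map_of_mem _ (Ideal.Quotient.eq_zero_iff_mem.mp h0)
  refine ⟨N, ?_⟩
  rw [Ideal.zero_eq_bot, eq_bot_iff]
  calc (RingHom.ker (proj L N hN : Tr L N →+* Tr L 2)) ^ N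
      ≤ ((Ideal.span {(X : L[X]) ^ 2}).map
          (Ideal.Quotient.mk (Ideal.span {(X : L[X]) ^ N}))) ^ N := Ideal.pow_right_mono hker N
    _ = ⊥ := by
        rw [← Ideal.map_pow, Ideal.span_singleton_pow, Ideal.map_eq_bot_iff_le_ker, Ideal.mk_ker,
          Ideal.span_singleton_le_span_singleton]
        exact ⟨X ^ N, by ring⟩

theorem pow_ne_zero_of_form (N : ℕ) (hN : 1 ≤ N) (w : L[X]) :
    (Ideal.Quotient.mk (Ideal.span {(X : L[X]) ^ N}) (X * (1 + X * w))) ^ (N - 1) ≠ 0 := by
  rw [← map_pow, Ne, Ideal.Quotient.eq_zero_iff_mem, Ideal.mem_span_singleton, mul_pow]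
  intro hdvd
  have h1 : (X : L[X]) ^ (N - 1) * X ∣ X ^ (N - 1) * (1 + X * w) ^ (N - 1) := by
    rwa [← pow_succ, Nat.sub_add_cancel hN]
  have h2 : (X : L[X]) ∣ (1 + X * w) ^ (N - 1) :=
    (mul_dvd_mul_iff_left (pow_ne_zero _ X_ne_zero)).mp h1
  rw [Polynomial.X_dvd_iff, Polynomial.coeff_zero_eq_eval_zero] at h2
  simp at h2

theorem pow_eq_zero_of_form (N : ℕ) (w : L[X]) :
    (Ideal.Quotient.mk (Ideal.span {(X : L[X]) ^ N}) (X * (1 + X * w))) ^ N = 0 := by
  rw [← map_pow, Ideal.Quotient.eq_zero_iff_mem, Ideal.mem_span_singleton, mul_pow]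
  exact dvd_mul_right _ _

/-- the class of `X` in `L[X]/(X^2)` -/
noncomputable def tt : Tr L 2 := Ideal.Quotient.mk _ X

theorem tt_mul_tt : tt L * tt L = 0 := by
  show Ideal.Quotient.mk (Ideal.span {(X : L[X]) ^ 2}) X * Ideal.Quotient.mk _ X = 0
  rw [← map_mul, Ideal.Quotient.eq_zero_iff_mem, Ideal.mem_span_singleton]
  exact ⟨1, by ring⟩

end Trunc

section LemmaX

variable {k C L : Type u} [Field k] [CommRing C] [Algebra k C] [Field L] [Algebra k L]
  [Algebra C L] [IsScalarTower k C L]

/-- the algebra map `C → L[t]/(t²)`, `c ↦ c̄ + δ(c) t` attached to a derivation -/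
noncomputable def psi (δ : Derivation k C L) : C →ₐ[k] Tr L 2 where
  toFun a := algebraMap L (Tr L 2) (algebraMap C L a) + algebraMap L (Tr L 2) (δ a) * tt L
  map_one' := by
    simp only [map_one, Derivation.map_one_eq_zero, map_zero, zero_mul, add_zero]
  map_mul' a b := by
    simp only [map_mul, Derivation.leibniz, map_add, Algebra.smul_def]
    linear_combination (-(algebraMap L (Tr L 2) (δ a) * algebraMap L (Tr L 2) (δ b))) * tt_mul_tt L
  map_zero' := by simp only [map_zero, zero_mul, add_zero]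
  map_add' a b := by
    simp only [map_add, add_mul]
    ring
  commutes' r := by
    simp only [Derivation.map_algebraMap, map_zero, zero_mul, add_zero]
    rw [← IsScalarTower.algebraMap_apply k C L, ← IsScalarTower.algebraMap_apply k L (Tr L 2)]

theorem psi_apply (δ : Derivation k C L) (a : C) :
    psi δ a = algebraMap L (Tr L 2) (algebraMap C L a) + algebraMap L (Tr L 2) (δ a) * tt L := rfl

theorem false_of_derivation [Module.Finite k C] [Algebra.FormallySmooth k C]
    (δ : Derivation k C L) (c : C) (hc : δ c ≠ 0) : False := by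
  obtain ⟨Ψ, hΨ⟩ : ∃ Ψ : L ⊗[k] C →ₐ[L] Tr L 2,
      ∀ (a : L) (b : C), Ψ (a ⊗ₜ b) = algebraMap L (Tr L 2) a * psi δ b :=
    ⟨Algebra.TensorProduct.lift (Algebra.ofId L (Tr L 2)) (psi δ) (fun _ _ => Commute.all _ _),
      fun a b => by rw [Algebra.TensorProduct.lift_tmul]; rfl⟩
  have hN2 : 2 ≤ Module.finrank k C + 2 := by omega
  obtain ⟨ΨN, hΨN⟩ : ∃ ΨN : L ⊗[k] C →ₐ[L] Tr L (Module.finrank k C + 2),
      ∀ x, proj L _ hN2 (ΨN x) = Ψ x :=
    ⟨Algebra.FormallySmooth.liftOfSurjective Ψ (proj L _ hN2) (proj_surjective L _ hN2)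
      (proj_ker_nilpotent L _ hN2),
      Algebra.FormallySmooth.liftOfSurjective_apply Ψ (proj L _ hN2) (proj_surjective L _ hN2)
        (proj_ker_nilpotent L _ hN2)⟩
  obtain ⟨z, hz⟩ : ∃ z : L ⊗[k] C, Ψ z = tt L := by
    refine ⟨(δ c)⁻¹ • ((1 : L) ⊗ₜ[k] c - (algebraMap C L c) ⊗ₜ[k] (1 : C)), ?_⟩
    rw [map_smul, map_sub, hΨ, hΨ, psi_apply, psi_apply, map_one, one_mul, map_one,
      Derivation.map_one_eq_zero, map_zero, zero_mul, add_zero, map_one, mul_one,
      add_sub_cancel_left]
    rw [Algebra.algebraMap_eq_smul_one, smul_mul_assoc, one_mul, smul_smul, inv_mul_cancel₀ hc,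
      one_smul]
  obtain ⟨g, hg⟩ := Ideal.Quotient.mk_surjective (ΨN z)
  have h3 : Ideal.Quotient.mk (Ideal.span {(X : L[X]) ^ 2}) g = Ideal.Quotient.mk _ X := by
    have := hΨN z
    rw [← hg, hz, proj_mk] at this
    exact this
  rw [Ideal.Quotient.eq, Ideal.mem_span_singleton] at h3
  obtain ⟨w, hw⟩ := h3
  have hgform : g = X * (1 + X * w) := by linear_combination hw
  have hτ : ΨN z = Ideal.Quotient.mk _ (X * (1 + X * w)) := by rw [← hg, hgform]
  have hle := le_finrank_of_nilpotent_image ΨN z (Module.finrank k C + 2) (by omega)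
    (by rw [hτ]; exact pow_eq_zero_of_form L _ w)
    (by rw [hτ]; exact pow_ne_zero_of_form L _ (by omega) w)
  rw [Module.finrank_baseChange] at hle
  omega

variable (k C)

/-- **Key lemma.** A finite-dimensional formally smooth algebra over a field is formally
unramified (hence étale). -/
theorem formallyUnramified_of_finite_of_formallySmooth [Module.Finite k C]
    [Algebra.FormallySmooth k C] : Algebra.FormallyUnramified k C := by
  classical
  by_contra hnot
  haveI hnt : Nontrivial Ω[C⁄k] := by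
    by_contra h
    rw [not_nontrivial_iff_subsingleton] at h
    exact hnot ⟨h⟩
  haveI : Module.Finite C Ω[C⁄k] := inferInstance
  obtain ⟨Nsub, hNsub⟩ := IsCoatomic.exists_coatom (Submodule C Ω[C⁄k])
  have hsimple : IsSimpleModule C (Ω[C⁄k] ⧸ Nsub) := isSimpleModule_iff_isCoatom.mpr hNsub
  obtain ⟨n, hn, ⟨e⟩⟩ := isSimpleModule_iff_quot_maximal.mp hsimple
  haveI := hn
  letI : Field (C ⧸ n) := Ideal.Quotient.field n
  let φ : Ω[C⁄k] →ₗ[C] (C ⧸ n) := e.toLinearMap.comp Nsub.mkQ
  have hφ : Function.Surjective φ := e.surjective.comp (Submodule.mkQ_surjective _)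
  let δ : Derivation k C (C ⧸ n) := φ.compDer (KaehlerDifferential.D k C)
  have hδ : ∀ c, δ c = φ (KaehlerDifferential.D k C c) := fun c => rfl
  obtain ⟨c, hc⟩ : ∃ c, δ c ≠ 0 := by
    by_contra hall
    push_neg at hall
    have hφ0 : φ = 0 := by
      apply LinearMap.ext_on (KaehlerDifferential.span_range_derivation k C)
      rintro _ ⟨c, rfl⟩
      exact hall c
    obtain ⟨x, hx⟩ := hφ 1
    rw [hφ0, LinearMap.zero_apply] at hx
    exact zero_ne_one hx
  exact false_of_derivation δ c hc

end LemmaX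

section Local

open IsLocalRing

attribute [local instance] Algebra.TensorProduct.rightAlgebra

/-- a local, essentially finite type, quasi-finite and formally smooth algebra is formally
unramified -/
theorem formallyUnramified_of_local (A B' : Type u) [CommRing A] [CommRing B'] [Algebra A B']
    [IsLocalRing B'] [Algebra.EssFiniteType A B'] [Algebra.QuasiFinite A B']
    [Algebra.FormallySmooth A B'] : Algebra.FormallyUnramified A B' := by
  let p : Ideal A := (maximalIdeal B').comap (algebraMap A B')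
  haveI : p.IsPrime := Ideal.comap_isPrime _ _
  haveI : Module.Finite p.ResidueField (p.ResidueField ⊗[A] B') :=
    Algebra.QuasiFinite.finite_fiber p
  haveI : Algebra.FormallySmooth p.ResidueField (p.ResidueField ⊗[A] B') := inferInstance
  haveI : Algebra.FormallyUnramified p.ResidueField (p.ResidueField ⊗[A] B') :=
    formallyUnramified_of_finite_of_formallySmooth _ _
  haveI hsub : Subsingleton (p.ResidueField ⊗[A] Ω[B'⁄A]) :=
    (KaehlerDifferential.tensorKaehlerEquivBase A p.ResidueField B'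
      (p.ResidueField ⊗[A] B')).toEquiv.subsingleton
  -- the map of residue fields
  have h₁ : p ≤ RingHom.ker (Algebra.ofId A (ResidueField B')) := by
    intro a ha
    rw [RingHom.mem_ker]
    show algebraMap A (ResidueField B') a = 0
    rw [IsScalarTower.algebraMap_apply A B' (ResidueField B'), ResidueField.algebraMap_eq,
      residue_eq_zero_iff]
    exact ha
  have h₂ : p.primeCompl ≤ Submonoid.comap (Algebra.ofId A (ResidueField B'))
      (IsUnit.submonoid (ResidueField B')) := by
    intro a ha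
    rw [Submonoid.mem_comap, IsUnit.mem_submonoid_iff, isUnit_iff_ne_zero]
    show algebraMap A (ResidueField B') a ≠ 0
    rw [IsScalarTower.algebraMap_apply A B' (ResidueField B'), ResidueField.algebraMap_eq, Ne,
      residue_eq_zero_iff]
    exact ha
  let φ : p.ResidueField →ₐ[A] ResidueField B' :=
    Ideal.ResidueField.liftₐ p (Algebra.ofId A (ResidueField B')) h₁ h₂
  let Θ : p.ResidueField ⊗[A] Ω[B'⁄A] →ₗ[A] ResidueField B' ⊗[B'] Ω[B'⁄A] :=
    (TensorProduct.mapOfCompatibleSMul B' A A (ResidueField B') Ω[B'⁄A]).comp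
      (TensorProduct.map φ.toLinearMap LinearMap.id)
  have h1x : ∀ x : Ω[B'⁄A], (1 : ResidueField B') ⊗ₜ[B'] x = 0 := by
    intro x
    have h := congrArg Θ (Subsingleton.elim ((1 : p.ResidueField) ⊗ₜ[A] x) 0)
    simpa [Θ] using h
  haveI : Subsingleton (ResidueField B' ⊗[B'] Ω[B'⁄A]) := by
    have hall : ∀ y : ResidueField B' ⊗[B'] Ω[B'⁄A], y = 0 := by
      intro y
      induction y using TensorProduct.induction_on with
      | zero => rfl
      | tmul r x =>
        obtain ⟨b, rfl⟩ := residue_surjective r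
        have hb : residue B' b = b • (1 : ResidueField B') := by
          rw [Algebra.smul_def, mul_one]
          rfl
        rw [hb, TensorProduct.smul_tmul, h1x]
      | add y₁ y₂ h₁ h₂ => rw [h₁, h₂, add_zero]
    exact ⟨fun a b => by rw [hall a, hall b]⟩
  haveI : Module.Finite B' Ω[B'⁄A] := inferInstance
  exact ⟨(subsingleton_tensorProduct (R := B') (M := Ω[B'⁄A])).mp inferInstance⟩

/-- **Smooth and quasi-finite at a prime implies étale at that prime.** -/
theorem isEtaleAt_of_isSmoothAt_of_quasiFiniteAt (A B : Type u) [CommRing A] [CommRing B]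
    [Algebra A B] [Algebra.FinitePresentation A B] (q : Ideal B) [q.IsPrime]
    [Algebra.QuasiFiniteAt A q] (h : Algebra.IsSmoothAt A q) : Algebra.IsEtaleAt A q := by
  haveI : Algebra.FormallySmooth A (Localization.AtPrime q) := h
  haveI : Algebra.QuasiFinite A (Localization.AtPrime q) := ‹Algebra.QuasiFiniteAt A q›
  haveI : Algebra.FormallyUnramified A (Localization.AtPrime q) := formallyUnramified_of_local A _
  exact Algebra.FormallyEtale.of_formallyUnramified_and_formallySmooth

end Local

end Groth.Agent.Lib.SmoothQF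

namespace Groth.Agent.Lib.SmoothQF

universe u

/-- ring-level: étale iff smooth and quasi-finite -/
theorem ringHom_etale_iff {R S : Type u} [CommRing R] [CommRing S] (φ : R →+* S) :
    φ.Etale ↔ φ.Smooth ∧ φ.QuasiFinite := by
  letI := φ.toAlgebra
  show Algebra.Etale R S ↔ Algebra.Smooth R S ∧ Algebra.QuasiFinite R S
  constructor
  · intro h
    exact ⟨⟨inferInstance, inferInstance⟩, inferInstance⟩
  · rintro ⟨h1, h2⟩
    rw [← Algebra.etaleLocus_eq_univ_iff_etale, Set.eq_univ_iff_forall]
    intro q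
    haveI : Algebra.QuasiFiniteAt R q.asIdeal := inferInstance
    exact isEtaleAt_of_isSmoothAt_of_quasiFiniteAt R S q.asIdeal inferInstance

end Groth.Agent.Lib.SmoothQF
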