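import Mathlib
import Groth.Agent.Lib.LocIntegral_helper4
import Groth.Agent.Lib.EtNormal5_helper4
import Groth.Agent.Lib.NormSmooth_helper4
import Groth.Agent.Lib.GeomConnPt_helper4
import Groth.Agent.Lib.RatPts_helper4

/-!
# A variety with a smooth rational point is geometrically integral (helper3)
-/

set_option autoImplicit false
set_option linter.all false
set_option maxHeartbeats 1600000

universe u

open CategoryTheory Limits AlgebraicGeometry

namespace Groth.Agent.Lib.SmoothRatPtH3

section Reduced

/-- if `a : W ⟶ X` is flat, `X` integral, and the preimage of a nonempty open of `X` is reduced,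
then `W` is reduced -/
theorem isReduced_of_flat_of_isReduced_preimage {W X : Scheme.{u}} [IsIntegral X] (a : W ⟶ X)
    [Flat a] (U : X.Opens) (hU : (U : Set X).Nonempty)
    (hred : ∀ O : W.Opens, O ≤ a ⁻¹ᵁ U → _root_.IsReduced Γ(W, O)) : IsReduced W := by
  haveI : ∀ w : W, _root_.IsReduced (W.presheaf.stalk w) := fun w => by
    obtain ⟨_, ⟨X₀, hX₀, rfl⟩, hxX₀, -⟩ := X.isBasis_affineOpens.exists_subset_of_mem_open
      (Set.mem_univ (a.base w)) isOpen_univ
    obtain ⟨_, ⟨W₀, hW₀, rfl⟩, hwW₀, hle : W₀ ≤ a ⁻¹ᵁ X₀⟩ :=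
      W.isBasis_affineOpens.exists_subset_of_mem_open hxX₀ (a ⁻¹ᵁ X₀).2
    -- a nonzero function on `X₀` whose nonvanishing locus lies in `U`
    obtain ⟨z, hzX₀, hzU⟩ : ((X₀ : Set X) ∩ (U : Set X)).Nonempty :=
      nonempty_preirreducible_inter X₀.isOpen U.isOpen ⟨_, hxX₀⟩ hU
    obtain ⟨f, hfU, hzf⟩ := hX₀.exists_basicOpen_le (V := U) ⟨z, hzU⟩ hzX₀
    haveI : Nonempty ↥(X₀ : Scheme.{u}) := ⟨⟨z, hzX₀⟩⟩
    haveI : IsDomain Γ(X, X₀) := IsIntegral.component_integral X₀
    have hf0 : f ≠ 0 := by
      rintro rfl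
      rw [Scheme.basicOpen_zero] at hzf
      exact hzf
    have hfreg : IsRegular f := isRegular_of_ne_zero hf0
    have hflat : (a.appLE X₀ W₀ hle).hom.Flat := a.flat_appLE hX₀ hW₀ hle
    algebraize [(a.appLE X₀ W₀ hle).hom]
    set g : Γ(W, W₀) := (a.appLE X₀ W₀ hle).hom f with hg
    have hgreg : IsSMulRegular Γ(W, W₀) f := Module.Flat.isSMulRegular_of_isRegular hfreg
    have hgreg' : g ∈ nonZeroDivisors Γ(W, W₀) := by
      rw [mem_nonZeroDivisors_iff_right]
      intro b hb
      apply hgreg
      show f • b = f • (0 : Γ(W, W₀))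
      rw [smul_zero, Algebra.smul_def, mul_comm]
      exact hb
    have hle' : W.basicOpen g ≤ a ⁻¹ᵁ U := by
      rw [hg, Scheme.basicOpen_appLE]
      exact inf_le_right.trans (fun y hy => hfU hy)
    haveI := hred _ hle'
    haveI := hW₀.isLocalization_basicOpen g
    have hinj : Function.Injective (algebraMap Γ(W, W₀) Γ(W, W.basicOpen g)) :=
      IsLocalization.injective _ (Submonoid.powers_le.mpr hgreg')
    haveI : _root_.IsReduced Γ(W, W₀) := isReduced_of_injective _ hinj
    letI := W.presheaf.algebra_section_stalk ⟨w, hwW₀⟩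
    haveI := hW₀.isLocalization_stalk ⟨w, hwW₀⟩
    exact isReduced_localizationPreserves (hW₀.primeIdealOf ⟨w, hwW₀⟩).asIdeal.primeCompl _
      inferInstance
  exact isReduced_of_isReduced_stalk W

end Reduced

section Main

theorem geomConn_id' (S : Scheme.{u}) : GeometricallyConnected (𝟙 S) := by
  refine ⟨geometrically_iff_of_isClosedUnderIsomorphisms.mpr fun K _ y => ?_⟩
  haveI : IsIso (pullback.snd (𝟙 S) y) := inferInstance
  exact Function.Surjective.connectedSpace
    (pullback.snd (𝟙 S) y).homeomorph.symm.surjective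
    (pullback.snd (𝟙 S) y).homeomorph.symm.continuous

instance isClosedUnderIsomorphisms_isIntegral :
    ObjectProperty.IsClosedUnderIsomorphisms (C := Scheme.{u}) (IsIntegral ·) :=
  ⟨fun {X Y} e hX => by
    haveI : IsIntegral X := hX
    haveI : Nonempty ↥Y := ⟨e.hom.base (Classical.arbitrary _)⟩
    exact isIntegral_of_isOpenImmersion e.inv⟩

variable (k : Type u) [Field k] {X : Scheme.{u}} (p : X ⟶ Spec (CommRingCat.of k))
  [IsIntegral X] [LocallyOfFiniteType p]

/-- an integral scheme locally of finite type over a field with a section through the smooth locus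
is geometrically integral -/
theorem geometricallyIntegral_of_section (σ : Spec (CommRingCat.of k) ⟶ X) (hσ : σ ≫ p = 𝟙 _)
    (hsm : Set.range σ.base ⊆ (p.smoothLocus : Set X)) : GeometricallyIntegral p := by
  set U := p.smoothLocus with hUdef
  obtain ⟨t⟩ : Nonempty ↥(Spec (CommRingCat.of k)) :=
    inferInstanceAs (Nonempty (PrimeSpectrum k))
  have hxU : σ.base t ∈ U := hsm ⟨t, rfl⟩
  have hUne : (U : Set X).Nonempty := ⟨_, hxU⟩
  haveI : Nonempty ↥(U : Scheme.{u}) := ⟨⟨_, hxU⟩⟩
  let q : (U : Scheme.{u}) ⟶ Spec (CommRingCat.of k) := U.ι ≫ p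
  haveI : Smooth q := by
    rw [← Scheme.Hom.smoothLocus_eq_top_iff, ← Scheme.Hom.preimage_smoothLocus_eq]
    exact U.ι_preimage_self
  let σ' : Spec (CommRingCat.of k) ⟶ (U : Scheme.{u}) :=
    IsOpenImmersion.lift U.ι σ (by rw [Scheme.Opens.range_ι]; exact hsm)
  have hσ' : σ' ≫ q = 𝟙 _ := by
    show σ' ≫ U.ι ≫ p = 𝟙 _
    rw [← Category.assoc, IsOpenImmersion.lift_fac, hσ]
  haveI : GeometricallyConnected (σ' ≫ q) := by rw [hσ']; exact geomConn_id' _
  haveI : ConnectedSpace ↥(U : Scheme.{u}) := inferInstance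
  haveI : GeometricallyConnected q := Groth.Agent.Lib.GeomConnPtH4.main2502 σ' q
  refine ⟨(geometrically_iff_of_commRing_of_isClosedUnderIsomorphisms (R := k)).mpr
    fun K _ _ => ?_⟩
  set y := Spec.map (CommRingCat.ofHom (algebraMap k K)) with hy
  set a := pullback.fst p y with ha
  set b := pullback.snd p y with hb
  let c := pullback.fst U.ι a
  let j := pullback.snd U.ι a
  have hpb : IsPullback c (j ≫ b) q y :=
    (IsPullback.of_hasPullback U.ι a).paste_vert (IsPullback.of_hasPullback p y)
  haveI : ConnectedSpace ↥(pullback U.ι a) :=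
    GeometricallyConnected.geometrically_connectedSpace y c (j ≫ b) hpb
  haveI : Smooth (j ≫ b) := MorphismProperty.of_isPullback (P := @Smooth) hpb inferInstance
  haveI : IsNoetherianRing (CommRingCat.of K) := inferInstanceAs (IsNoetherianRing K)
  haveI : IsLocallyNoetherian (pullback U.ι a) :=
    LocallyOfFiniteType.isLocallyNoetherian (j ≫ b)
  have hdom : ∀ v : ↥(pullback U.ι a), IsDomain ((pullback U.ι a).presheaf.stalk v) := fun v =>
    ((Groth.Agent.Lib.EtNormal5H4.stalk_of_smooth (j ≫ b) v).2
      (Groth.Agent.Lib.NormSmoothH4.stalk_Spec_of_isField (CommRingCat.of K)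
        (Field.toIsField K) _)).1
  haveI : IrreducibleSpace ↥(pullback U.ι a) :=
    Groth.Agent.Lib.LocIntegralH4.irreducibleSpace_of_connected _ hdom
  haveI : IsReduced (pullback U.ι a) := by
    haveI : ∀ v : ↥(pullback U.ι a), _root_.IsReduced ((pullback U.ι a).presheaf.stalk v) :=
      fun v => by
        haveI := hdom v
        infer_instance
    exact isReduced_of_isReduced_stalk _
  -- range of `j`
  have hrange : Set.range j.base = a.base ⁻¹' (U : Set X) := by
    have := Scheme.Pullback.range_snd U.ι a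
    rw [Scheme.Opens.range_ι] at this
    exact this
  -- density
  haveI : UniversallyOpen y := inferInstance
  have hdense : Dense (Set.range j.base) := by
    rw [hrange]
    exact (U.isOpen.dense hUne).preimage a.isOpenMap
  -- irreducibility
  haveI : IrreducibleSpace ↥(pullback p y) := by
    have hirr : IsIrreducible (Set.range j.base) := by
      rw [← Set.image_univ]
      exact (IrreducibleSpace.isIrreducible_univ _).image _ j.continuous.continuousOn
    have := hirr.closure
    rw [hdense.closure_eq] at this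
    exact { isPreirreducible_univ := this.isPreirreducible, toNonempty := this.nonempty.to_subtype.map Subtype.val |>.elim fun z => ⟨z⟩ }
  -- reducedness
  haveI : Flat y := by
    rw [hy, HasRingHomProperty.Spec_iff (P := @Flat)]
    exact (RingHom.flat_algebraMap_iff.mpr (inferInstance : Module.Flat k K))
  haveI : IsReduced (pullback p y) := by
    refine isReduced_of_flat_of_isReduced_preimage a U hUne fun O hO => ?_
    have hO' : O ≤ j.opensRange := by
      intro z hz
      show z ∈ Set.range j.base
      rw [hrange]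
      exact hO hz
    have e : j ''ᵁ (j ⁻¹ᵁ O) = O := by
      rw [Scheme.Hom.image_preimage_eq_opensRange_inf]
      exact inf_eq_right.mpr hO'
    rw [← e]
    exact isReduced_of_injective (j.appIso (j ⁻¹ᵁ O)).hom.hom
      (ConcreteCategory.bijective_of_isIso (j.appIso (j ⁻¹ᵁ O)).hom).1
  exact isIntegral_of_irreducibleSpace_of_isReduced _

theorem main (k : Type u) [Field k] (X : Scheme.{u}) [X.Over (Spec (CommRingCat.of k))]
    [IsIntegral X] [LocallyOfFiniteType (X ↘ (Spec (CommRingCat.of k)))]
    (x : ↥X) (hx : Function.Surjective (Curv2.resMap k X x))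
    (hsm : x ∈ (X ↘ (Spec (CommRingCat.of k))).smoothLocus) :
    GeometricallyIntegral (X ↘ (Spec (CommRingCat.of k))) := by
  have hbij : Function.Bijective (Curv2.resMap k X x) := ⟨(Curv2.resMap k X x).injective, hx⟩
  let e : k ≃+* X.residueField x := RingEquiv.ofBijective _ hbij
  let σ : Spec (CommRingCat.of k) ⟶ X :=
    Spec.map (CommRingCat.ofHom (e.symm : X.residueField x →+* k)) ≫ X.fromSpecResidueField x
  refine geometricallyIntegral_of_section k _ σ ?_ ?_
  · show (Spec.map (CommRingCat.ofHom (e.symm : X.residueField x →+* k)) ≫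
      X.fromSpecResidueField x) ≫ (X ↘ (Spec (CommRingCat.of k))) = 𝟙 _
    rw [Category.assoc, Groth.Agent.Lib.RatPtsH4.fromSpecResidueField_comp, ← Spec.map_comp]
    have : CommRingCat.ofHom (Curv2.resMap k X x) ≫
        CommRingCat.ofHom (e.symm : X.residueField x →+* k) = 𝟙 _ := by
      ext r
      exact e.symm_apply_apply r
    rw [this, Spec.map_id]
  · rintro _ ⟨t, rfl⟩
    show (Spec.map (CommRingCat.ofHom (e.symm : X.residueField x →+* k)) ≫
      X.fromSpecResidueField x).base t ∈ _
    rw [Scheme.Hom.comp_apply, Scheme.fromSpecResidueField_apply]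
    exact hsm

end Main

end Groth.Agent.Lib.SmoothRatPtH3
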