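import Mathlib
import Groth.Agent.Lib.PSAdic_helper3

/-!
# The completion of a smooth algebra along a section is a power series ring (helper3)
-/

set_option autoImplicit false
set_option maxSynthPendingDepth 3

namespace Groth.Agent.Lib.SmoothSectionH3

universe u

open MvPowerSeries

section Transfer

/-- Transfer of adic completeness to a smaller ideal defining the same topology. -/
theorem isAdicComplete_of_le_of_pow_le {A : Type*} [CommRing A] (I J : Ideal A) (n : ℕ)
    (h1 : J ≤ I) (h2 : I ^ n ≤ J) [IsAdicComplete I A] : IsAdicComplete J A := by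
  have hJI : ∀ k, (J ^ k • ⊤ : Submodule A A) ≤ I ^ k • ⊤ := fun k =>
    Submodule.smul_mono_left (Ideal.pow_right_mono h1 k)
  have hIJ : ∀ k, (I ^ (n * k) • ⊤ : Submodule A A) ≤ J ^ k • ⊤ := fun k => by
    rw [pow_mul]
    exact Submodule.smul_mono_left (Ideal.pow_right_mono h2 k)
  refine { haus' := ?_, prec' := ?_ }
  · intro x hx
    exact IsHausdorff.haus (inferInstance : IsHausdorff I A) x
      (fun k => SModEq.mono (hJI k) (hx k))
  · intro f hf
    obtain ⟨L, hL⟩ := IsPrecomplete.prec (inferInstance : IsPrecomplete I A) (f := f) (by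
        intro k l hkl
        exact SModEq.mono (hJI k) (hf hkl))
    refine ⟨L, fun k => ?_⟩
    have hN1 : k ≤ max k (n * k) := le_max_left _ _
    have hN2 : n * k ≤ max k (n * k) := le_max_right _ _
    have e1 := hf hN1
    have e2 := hL (max k (n * k))
    have e3 : f (max k (n * k)) ≡ L [SMOD (J ^ k • ⊤ : Submodule A A)] :=
      SModEq.mono ((Submodule.smul_mono_left (Ideal.pow_le_pow_right hN2)).trans (hIJ k)) e2
    exact e1.trans e3

theorem isHausdorff_of_le {A : Type*} [CommRing A] (I J : Ideal A) (h : J ≤ I)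
    [hI : IsHausdorff I A] : IsHausdorff J A :=
  ⟨fun r hr => IsHausdorff.haus hI r
    (fun k => SModEq.mono (Submodule.smul_mono_left (Ideal.pow_right_mono h k)) (hr k))⟩

end Transfer

section Completion

/-- universal property of the adic completion for maps into complete rings -/
theorem exists_algHom_completion {R S B : Type*} [CommRing R] [CommRing S] [CommRing B]
    [Algebra R S] [Algebra R B] (J : Ideal S) (K : Ideal B) [IsAdicComplete K B]
    (ψ : S →ₐ[R] B) (h : J.map ψ.toRingHom ≤ K) :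
    ∃ φ : AdicCompletion J S →ₐ[R] B, ∀ s, φ (AdicCompletion.of J S s) = ψ s := by
  classical
  have hψpow : ∀ n : ℕ, J ^ n ≤ (K ^ n).comap ψ := by
    intro n
    rw [← Ideal.map_le_iff_le_comap]
    show (J ^ n).map ψ.toRingHom ≤ _
    rw [Ideal.map_pow]
    exact Ideal.pow_right_mono h n
  let f : ∀ n : ℕ, AdicCompletion J S →ₐ[R] B ⧸ K ^ n := fun n =>
    (Ideal.quotientMapₐ (K ^ n) ψ (hψpow n)).comp
      ((AdicCompletion.evalₐ J n).restrictScalars R)
  have hfmk : ∀ (n : ℕ) (c : AdicCompletion.AdicCauchySequence J S),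
      f n (AdicCompletion.mk J _ c) = Ideal.Quotient.mk _ (ψ (c.val n)) := by
    intro n c
    show Ideal.quotientMapₐ (K ^ n) ψ (hψpow n)
      (AdicCompletion.evalₐ J n (AdicCompletion.mk J _ c)) = _
    rw [AdicCompletion.evalₐ_mk]
    rfl
  have hcompat : ∀ {m n : ℕ} (hle : m ≤ n),
      (Ideal.Quotient.factorₐ R (Ideal.pow_le_pow_right hle)).comp (f n) = f m := by
    intro m n hle
    ext x
    obtain ⟨c, rfl⟩ := AdicCompletion.mk_surjective J _ x
    rw [AlgHom.comp_apply, hfmk, hfmk]
    show Ideal.Quotient.mk (K ^ m) (ψ (c.val n)) = _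
    rw [Ideal.Quotient.eq, ← map_sub]
    apply hψpow m
    rw [← Ideal.Quotient.eq]
    exact AdicCompletion.Ideal.mk_eq_mk J hle c
  refine ⟨IsAdicComplete.liftAlgHom K f hcompat, fun y => ?_⟩
  rw [← sub_eq_zero]
  apply IsHausdorff.haus (inferInstance : IsHausdorff K B)
  intro n
  rw [SModEq.zero, smul_eq_mul, Ideal.mul_top, ← Ideal.Quotient.eq,
    IsAdicComplete.mk_liftAlgHom]
  show Ideal.quotientMapₐ (K ^ n) ψ (hψpow n)
    (AdicCompletion.evalₐ J n (AdicCompletion.of J _ y)) = _
  rw [AdicCompletion.evalₐ_of]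
  rfl

end Completion

section Endo

variable {R : Type*} [CommRing R] {d : ℕ}

theorem sub_C_mem (f : MvPowerSeries (Fin d) R) :
    f - C (constantCoeff f) ∈
      Ideal.span (Set.range (X : Fin d → MvPowerSeries (Fin d) R)) := by
  classical
  have h1 : f - C (constantCoeff f) ∈
      Ideal.span ((fun i => (X i : MvPowerSeries (Fin d) R) ^ 1) ''
        ((Finset.univ : Finset (Fin d)) : Set (Fin d))) := by
    apply Groth.Agent.Lib.PSEvalH1.mem_span_X_pow_finset 1 Finset.univ
    intro e he
    have he0 : e = 0 := by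
      ext i
      have := he i (Finset.mem_univ i)
      simpa using Nat.lt_one_iff.1 this
    rw [he0, coeff_zero_eq_constantCoeff_apply, map_sub, constantCoeff_C, sub_self]
  have h2 : Ideal.span ((fun i => (X i : MvPowerSeries (Fin d) R) ^ 1) ''
        ((Finset.univ : Finset (Fin d)) : Set (Fin d))) ≤
      Ideal.span (Set.range (X : Fin d → MvPowerSeries (Fin d) R)) := by
    apply Ideal.span_mono
    rintro _ ⟨i, -, rfl⟩
    exact ⟨i, (pow_one _).symm⟩
  exact h2 h1

/-- An `R`-algebra endomorphism of `R[[X]]` which is the identity on the linear terms of the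
variables is injective. -/
theorem injective_of_sub_mem (θ : MvPowerSeries (Fin d) R →ₐ[R] MvPowerSeries (Fin d) R)
    (hθ : ∀ i, θ (X i) - X i ∈
      Ideal.span (Set.range (X : Fin d → MvPowerSeries (Fin d) R)) ^ 2) :
    Function.Injective θ := by
  classical
  set 𝔞 : Ideal (MvPowerSeries (Fin d) R) :=
    Ideal.span (Set.range (X : Fin d → MvPowerSeries (Fin d) R)) with h𝔞
  have hsq : 𝔞 ^ 2 ≤ 𝔞 := Ideal.pow_le_self (by norm_num)
  have hmap : 𝔞.map θ.toRingHom ≤ 𝔞 := by
    rw [h𝔞, Ideal.map_span, Ideal.span_le]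
    rintro _ ⟨_, ⟨i, rfl⟩, rfl⟩
    have h1 : θ (X i) = X i + (θ (X i) - X i) := by ring
    show θ (X i) ∈ 𝔞
    rw [h1]
    exact Ideal.add_mem _ (Ideal.subset_span ⟨i, rfl⟩) (hsq (hθ i))
  have hθ𝔞 : ∀ n : ℕ, ∀ a ∈ 𝔞 ^ n, θ a ∈ 𝔞 ^ n := by
    intro n a ha
    have h1 : (𝔞 ^ n).map θ.toRingHom ≤ 𝔞 ^ n := by
      rw [Ideal.map_pow]
      exact Ideal.pow_right_mono hmap n
    exact h1 (Ideal.mem_map_of_mem _ ha)
  have Q0 : ∀ f, θ f - f ∈ 𝔞 := by
    intro f
    have h1 : θ f - f = θ (f - C (constantCoeff f)) - (f - C (constantCoeff f)) := by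
      rw [map_sub, c_eq_algebraMap, AlgHom.commutes]
      ring
    rw [h1]
    have h2 := sub_C_mem f
    refine Ideal.sub_mem _ ?_ h2
    have := hθ𝔞 1 _ (by rw [pow_one]; exact h2)
    rwa [pow_one] at this
  have Q1 : ∀ a ∈ 𝔞, θ a - a ∈ 𝔞 ^ 2 := by
    intro a ha
    refine Submodule.span_induction (p := fun a _ => θ a - a ∈ 𝔞 ^ 2) ?_ ?_ ?_ ?_ ha
    · rintro _ ⟨i, rfl⟩
      exact hθ i
    · rw [map_zero, sub_zero]
      exact Ideal.zero_mem _
    · intro x y _ _ hx hy
      have : θ (x + y) - (x + y) = (θ x - x) + (θ y - y) := by rw [map_add]; ring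
      rw [this]
      exact Ideal.add_mem _ hx hy
    · intro p x hx hxx
      have h1 : θ (p • x) - p • x = θ p * (θ x - x) + (θ p - p) * x := by
        rw [smul_eq_mul, map_mul]; ring
      rw [h1]
      refine Ideal.add_mem _ (Ideal.mul_mem_left _ _ hxx) ?_
      rw [pow_two]
      exact Ideal.mul_mem_mul (Q0 p) hx
  have Qn : ∀ n : ℕ, ∀ g ∈ 𝔞 ^ n, θ g - g ∈ 𝔞 ^ (n + 1) := by
    intro n
    induction n with
    | zero =>
      intro g _
      rw [zero_add, pow_one]
      exact Q0 g
    | succ n ih =>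
      intro g hg
      rw [pow_succ] at hg
      refine Submodule.mul_induction_on hg ?_ ?_
      · intro m hm a ha
        have h1 : θ (m * a) - m * a = θ m * (θ a - a) + (θ m - m) * a := by
          rw [map_mul]; ring
        rw [h1]
        refine Ideal.add_mem _ ?_ ?_
        · have : 𝔞 ^ (n + 1 + 1) = 𝔞 ^ n * 𝔞 ^ 2 := by rw [← pow_add]
          rw [this]
          exact Ideal.mul_mem_mul (hθ𝔞 n m hm) (Q1 a ha)
        · rw [pow_succ (𝔞) (n + 1)]
          exact Ideal.mul_mem_mul (ih m hm) ha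
      · intro x y hx hy
        have : θ (x + y) - (x + y) = (θ x - x) + (θ y - y) := by rw [map_add]; ring
        rw [this]
        exact Ideal.add_mem _ hx hy
  rw [injective_iff_map_eq_zero]
  intro f hf
  have hall : ∀ n : ℕ, f ∈ 𝔞 ^ n := by
    intro n
    induction n with
    | zero => rw [pow_zero, Ideal.one_eq_top]; trivial
    | succ n ih =>
      have h1 := Qn n f ih
      rw [hf, zero_sub] at h1
      exact (Ideal.neg_mem_iff _).1 h1
  apply IsHausdorff.haus (inferInstance : IsHausdorff 𝔞 (MvPowerSeries (Fin d) R))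
  intro n
  rw [SModEq.zero, smul_eq_mul, Ideal.mul_top]
  exact hall n

end Endo

end Groth.Agent.Lib.SmoothSectionH3

namespace Groth.Agent.Lib.SmoothSectionH3

universe u

open MvPowerSeries

section Main

theorem nonempty_algEquiv {R S : Type u} [CommRing R] [CommRing S] [Algebra R S]
    [Algebra.Smooth R S] (σ : S →ₐ[R] R) (d : ℕ)
    (e : (RingHom.ker σ.toRingHom).Cotangent ≃ₗ[R] (Fin d → R)) :
    Nonempty (AdicCompletion (RingHom.ker σ.toRingHom) S ≃ₐ[R] MvPowerSeries (Fin d) R) := by
  classical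
  obtain ⟨I, hI⟩ : ∃ I : Ideal S, I = RingHom.ker σ.toRingHom := ⟨_, rfl⟩
  subst hI
  set I := RingHom.ker σ.toRingHom with hI
  have hσalg : ∀ r : R, σ (algebraMap R S r) = r := fun r => by
    rw [AlgHom.commutes]; rfl
  have hσsurj : Function.Surjective σ := fun r => ⟨algebraMap R S r, hσalg r⟩
  haveI : Algebra.FinitePresentation R S := Algebra.Smooth.finitePresentation
  have hIfg : I.FG := Algebra.FinitePresentation.ker_fG_of_surjective σ hσsurj
  have hmemI : ∀ s : S, s ∈ I ↔ σ s = 0 := fun s => RingHom.mem_ker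
  have hyI : ∀ s : S, s - algebraMap R S (σ s) ∈ I := fun s => by
    rw [hmemI, map_sub, hσalg, sub_self]
  -- the elements `x i`
  choose x hx using fun i : Fin d => Ideal.toCotangent_surjective I (e.symm (Pi.single i 1))
  -- the linear map `s ↦ s - σ s` into `I`
  let yL : S →ₗ[R] I :=
    { toFun := fun s => ⟨s - algebraMap R S (σ s), hyI s⟩
      map_add' := fun s s' => Subtype.ext (by
        show s + s' - algebraMap R S (σ (s + s')) = (s - algebraMap R S (σ s)) +
          (s' - algebraMap R S (σ s'))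
        rw [map_add, map_add]; ring)
      map_smul' := fun r s => Subtype.ext (by
        show r • s - algebraMap R S (σ (r • s)) = r • (s - algebraMap R S (σ s))
        rw [map_smul, smul_eq_mul, map_mul, smul_sub, Algebra.smul_def, Algebra.smul_def]) }
  let cL : S →ₗ[R] (Fin d → R) :=
    e.toLinearMap.comp ((I.toCotangent.restrictScalars R).comp yL)
  have hcL : ∀ s, cL s = e (I.toCotangent (yL s)) := fun s => rfl
  have hyL_of_mem : ∀ (s : S) (hs : s ∈ I), yL s = ⟨s, hs⟩ := fun s hs => Subtype.ext (by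
    show s - algebraMap R S (σ s) = s
    rw [(hmemI s).1 hs, map_zero, sub_zero])
  have hcx : ∀ i, cL (x i).1 = Pi.single i 1 := fun i => by
    rw [hcL, hyL_of_mem _ (x i).2, Subtype.coe_eta, hx, LinearEquiv.apply_symm_apply]
  have hcmul : ∀ s s', cL (s * s') = σ s • cL s' + σ s' • cL s := by
    intro s s'
    have key : yL (s * s') = ⟨(s - algebraMap R S (σ s)) * (s' - algebraMap R S (σ s')),
        Ideal.mul_mem_left _ _ (hyI s')⟩ + (σ s • yL s' + σ s' • yL s) := Subtype.ext (by
      show s * s' - algebraMap R S (σ (s * s')) =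
        (s - algebraMap R S (σ s)) * (s' - algebraMap R S (σ s')) +
          (σ s • (s' - algebraMap R S (σ s')) + σ s' • (s - algebraMap R S (σ s)))
      rw [map_mul, map_mul, Algebra.smul_def, Algebra.smul_def]; ring)
    have hzero : I.toCotangent ⟨(s - algebraMap R S (σ s)) * (s' - algebraMap R S (σ s')),
        Ideal.mul_mem_left _ _ (hyI s')⟩ = 0 := by
      rw [Ideal.toCotangent_eq_zero, pow_two]
      exact Ideal.mul_mem_mul (hyI s) (hyI s')
    rw [hcL, key, map_add, hzero, zero_add]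
    have h1 : I.toCotangent (σ s • yL s' + σ s' • yL s) =
        σ s • I.toCotangent (yL s') + σ s' • I.toCotangent (yL s) := by
      have := (I.toCotangent.restrictScalars R).map_add (σ s • yL s') (σ s' • yL s)
      rw [LinearMap.map_smul, LinearMap.map_smul] at this
      exact this
    rw [h1, map_add, map_smul, map_smul]
    rfl
  -- the power series side
  set 𝔞 : Ideal (MvPowerSeries (Fin d) R) :=
    Ideal.span (Set.range (X : Fin d → MvPowerSeries (Fin d) R)) with h𝔞
  haveI hT2 : IsAdicComplete (𝔞 ^ 2) (MvPowerSeries (Fin d) R) :=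
    isAdicComplete_of_le_of_pow_le 𝔞 (𝔞 ^ 2) 2 (Ideal.pow_le_self (by norm_num)) le_rfl
  let L : (Fin d → R) →ₗ[R] MvPowerSeries (Fin d) R :=
    Fintype.linearCombination R (X : Fin d → MvPowerSeries (Fin d) R)
  have hL𝔞 : ∀ v, L v ∈ 𝔞 := by
    intro v
    show Fintype.linearCombination R (X : Fin d → MvPowerSeries (Fin d) R) v ∈ 𝔞
    rw [Fintype.linearCombination_apply]
    refine Ideal.sum_mem _ fun i _ => ?_
    rw [Algebra.smul_def]
    exact Ideal.mul_mem_left _ _ (Ideal.subset_span ⟨i, rfl⟩)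
  have hLsingle : ∀ i, L (Pi.single i 1) = X i := fun i => by
    show Fintype.linearCombination R (X : Fin d → MvPowerSeries (Fin d) R) (Pi.single i 1) = X i
    rw [Fintype.linearCombination_apply_single, one_smul]
  let γ₀ : S →ₗ[R] MvPowerSeries (Fin d) R :=
    (Algebra.linearMap R (MvPowerSeries (Fin d) R)).comp σ.toLinearMap + L.comp cL
  have hγ₀ : ∀ s, γ₀ s = algebraMap R (MvPowerSeries (Fin d) R) (σ s) + L (cL s) := fun s => rfl
  let γ : S →ₐ[R] MvPowerSeries (Fin d) R ⧸ 𝔞 ^ 2 :=
    AlgHom.ofLinearMap ((Ideal.Quotient.mkₐ R (𝔞 ^ 2)).toLinearMap.comp γ₀)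
      (by
        show Ideal.Quotient.mk (𝔞 ^ 2) (γ₀ 1) = 1
        have h1 : cL 1 = 0 := by
          have : yL 1 = 0 := Subtype.ext (by
            show (1 : S) - algebraMap R S (σ 1) = 0
            rw [map_one, map_one, sub_self])
          rw [hcL, this, map_zero, map_zero]
        rw [hγ₀, h1, map_zero, add_zero, map_one, map_one, map_one])
      (by
        intro s s'
        show Ideal.Quotient.mk (𝔞 ^ 2) (γ₀ (s * s')) =
          Ideal.Quotient.mk (𝔞 ^ 2) (γ₀ s) * Ideal.Quotient.mk (𝔞 ^ 2) (γ₀ s')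
        rw [← map_mul, Ideal.Quotient.eq, hγ₀, hγ₀, hγ₀, hcmul, map_add, map_smul, map_smul,
          map_mul, map_mul, Algebra.smul_def, Algebra.smul_def]
        have h1 : algebraMap R (MvPowerSeries (Fin d) R) (σ s) *
              algebraMap R (MvPowerSeries (Fin d) R) (σ s') +
            (algebraMap R (MvPowerSeries (Fin d) R) (σ s) * L (cL s') +
              algebraMap R (MvPowerSeries (Fin d) R) (σ s') * L (cL s)) -
            (algebraMap R (MvPowerSeries (Fin d) R) (σ s) + L (cL s)) *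
              (algebraMap R (MvPowerSeries (Fin d) R) (σ s') + L (cL s')) =
            -(L (cL s) * L (cL s')) := by ring
        rw [h1, Ideal.neg_mem_iff, pow_two]
        exact Ideal.mul_mem_mul (hL𝔞 _) (hL𝔞 _))
  have hγ : ∀ s, γ s = Ideal.Quotient.mk (𝔞 ^ 2) (γ₀ s) := fun s => rfl
  obtain ⟨β₀, hβ₀⟩ := Algebra.FormallySmooth.exists_mkₐ_comp_eq_of_isAdicComplete
    (R := R) (A := S) (S := MvPowerSeries (Fin d) R) (I := 𝔞 ^ 2) γ
  have hβ₀γ : ∀ s, β₀ s - γ₀ s ∈ 𝔞 ^ 2 := fun s => by
    rw [← Ideal.Quotient.eq, ← hγ, ← hβ₀]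
    rfl
  have hsq : 𝔞 ^ 2 ≤ 𝔞 := Ideal.pow_le_self (by norm_num)
  have hβ₀I : I.map β₀.toRingHom ≤ 𝔞 := by
    rw [Ideal.map_le_iff_le_comap]
    intro s hs
    rw [Ideal.mem_comap]
    show β₀ s ∈ 𝔞
    have h1 : β₀ s = (β₀ s - γ₀ s) + γ₀ s := by ring
    rw [h1]
    refine Ideal.add_mem _ (hsq (hβ₀γ s)) ?_
    rw [hγ₀, (hmemI s).1 hs, map_zero, zero_add]
    exact hL𝔞 _
  have hβ₀x : ∀ i, β₀ (x i).1 - X i ∈ 𝔞 ^ 2 := fun i => by
    have h1 : γ₀ (x i).1 = X i := by
      rw [hγ₀, (hmemI _).1 (x i).2, map_zero, zero_add, hcx, hLsingle]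
    rw [← h1]
    exact hβ₀γ _
  obtain ⟨β, hβ⟩ := exists_algHom_completion I 𝔞 β₀ hβ₀I
  -- the completion side
  haveI hŜ : IsAdicComplete (I.map (algebraMap S (AdicCompletion I S))) (AdicCompletion I S) :=
    AdicCompletion.isAdicComplete_self I hIfg
  let xhat : Fin d → AdicCompletion I S := fun i => AdicCompletion.of I S (x i).1
  have hxhat : ∀ i, xhat i ∈ I.map (algebraMap S (AdicCompletion I S)) := fun i =>
    Ideal.mem_map_of_mem _ (x i).2
  obtain ⟨α, hα⟩ := Groth.Agent.Lib.PSAdicH3.exists_algHom_X_of_mem (Λ := R)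
    (I.map (algebraMap S (AdicCompletion I S))) xhat hxhat
  -- injectivity
  have hinj : Function.Injective α := by
    have h1 : Function.Injective (β.comp α) := by
      apply injective_of_sub_mem
      intro i
      rw [AlgHom.comp_apply, hα, hβ]
      exact hβ₀x i
    exact fun a b hab => h1 (by rw [AlgHom.comp_apply, AlgHom.comp_apply, hab])
  -- surjectivity
  have hspanI : I ≤ Ideal.span (Set.range fun i => (x i).1) ⊔ I ^ 2 := by
    intro y hy
    have h1 : I.toCotangent ⟨y, hy⟩ =
        I.toCotangent (∑ i, (e (I.toCotangent ⟨y, hy⟩) i) • x i) := by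
      have h2 : e (I.toCotangent ⟨y, hy⟩) =
          e (I.toCotangent (∑ i, (e (I.toCotangent ⟨y, hy⟩) i) • x i)) := by
        have h3 : I.toCotangent (∑ i, (e (I.toCotangent ⟨y, hy⟩) i) • x i) =
            ∑ i, (e (I.toCotangent ⟨y, hy⟩) i) • I.toCotangent (x i) := by
          have := map_sum (I.toCotangent.restrictScalars R)
            (fun i => (e (I.toCotangent ⟨y, hy⟩) i) • x i) Finset.univ
          simp only [LinearMap.map_smul] at this
          exact this
        rw [h3, map_sum]
        simp only [map_smul, hx, LinearEquiv.apply_symm_apply]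
        funext j
        rw [Finset.sum_apply]
        simp [Pi.single_apply]
      exact e.injective h2
    rw [← sub_eq_zero, ← map_sub, Ideal.toCotangent_eq_zero] at h1
    have h4 : y = ((∑ i, (e (I.toCotangent ⟨y, hy⟩) i) • x i : I) : S) +
        (y - ((∑ i, (e (I.toCotangent ⟨y, hy⟩) i) • x i : I) : S)) := by ring
    rw [h4]
    refine Ideal.add_mem _ (Ideal.mem_sup_left ?_) (Ideal.mem_sup_right h1)
    rw [Submodule.coe_sum]
    refine Ideal.sum_mem _ fun i _ => ?_
    rw [Submodule.coe_smul_of_tower, Algebra.smul_def]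
    exact Ideal.mul_mem_left _ _ (Ideal.subset_span ⟨i, rfl⟩)
  have hN : I.map (algebraMap S (AdicCompletion I S)) ≤ Ideal.span (Set.range xhat) := by
    apply Submodule.le_of_le_smul_of_le_jacobson_bot
      (I := I.map (algebraMap S (AdicCompletion I S)))
      (N' := I.map (algebraMap S (AdicCompletion I S)))
      (hIfg.map (algebraMap S (AdicCompletion I S)))
      (IsAdicComplete.le_jacobson_bot (I.map (algebraMap S (AdicCompletion I S))))
    rw [smul_eq_mul, ← pow_two, ← Ideal.map_pow, Ideal.map_le_iff_le_comap]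
    intro y hy
    obtain ⟨u, hu, v, hv, rfl⟩ := Submodule.mem_sup.1 (hspanI hy)
    rw [Ideal.mem_comap, map_add]
    refine Ideal.add_mem _ (Ideal.mem_sup_left ?_) (Ideal.mem_sup_right (Ideal.mem_map_of_mem _ hv))
    have h1 : (Ideal.span (Set.range fun i => (x i).1)).map (algebraMap S (AdicCompletion I S)) ≤
        Ideal.span (Set.range xhat) := by
      rw [Ideal.map_span, ← Set.range_comp]
      exact le_rfl
    exact h1 (Ideal.mem_map_of_mem _ hu)
  have hmapα : 𝔞.map α.toRingHom = Ideal.span (Set.range xhat) := by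
    rw [h𝔞, Ideal.map_span, ← Set.range_comp]
    congr 2
    funext i
    exact hα i
  have hsurj : Function.Surjective α := by
    haveI : IsHausdorff (𝔞.map α.toRingHom) (AdicCompletion I S) := by
      rw [hmapα]
      exact isHausdorff_of_le (I.map (algebraMap S (AdicCompletion I S))) _
        (Ideal.span_le.2 (by rintro _ ⟨i, rfl⟩; exact hxhat i))
    refine surjective_of_mk_map_comp_surjective (I := 𝔞) α.toRingHom ?_
    intro z
    obtain ⟨z₀, rfl⟩ := Ideal.Quotient.mk_surjective z
    obtain ⟨s, hs⟩ := Ideal.Quotient.mk_surjective (AdicCompletion.evalOneₐ I z₀)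
    refine ⟨C (σ s), ?_⟩
    rw [RingHom.comp_apply, Ideal.Quotient.eq, hmapα]
    apply hN
    show α (C (σ s)) - z₀ ∈ _
    rw [c_eq_algebraMap, AlgHom.commutes, AdicCompletion.algebraMap_apply]
    have h1 : AdicCompletion.of I S (algebraMap R S (σ s)) - z₀ =
        -(AdicCompletion.of I S (s - algebraMap R S (σ s))) +
          (AdicCompletion.of I S s - z₀) := by
      rw [map_sub]; ring
    rw [h1]
    refine Ideal.add_mem _ ((Ideal.neg_mem_iff _).2 (Ideal.mem_map_of_mem _ (hyI s))) ?_
    rw [← AdicCompletion.ker_evalOneₐ_eq_map I hIfg, RingHom.mem_ker]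
    show AdicCompletion.evalOneₐ I (AdicCompletion.of I S s - z₀) = 0
    rw [map_sub, AdicCompletion.evalOneₐ_of, hs, sub_self]
  exact ⟨(AlgEquiv.ofBijective α ⟨hinj, hsurj⟩).symm⟩

end Main

end Groth.Agent.Lib.SmoothSectionH3
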