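import Mathlib
import Groth.Prelude
import Groth.Agent.Lib.FlatCM_helper9
import Groth.Agent.Lib.FlatCM2_helper9
import Groth.Agent.Lib.FlatRk_helper9
import Groth.Agent.Lib.TensorSk_helper9
import Groth.Agent.Lib.DepthDescent_helper5
import Groth.Agent.Lib.RkDescent_helper5
import Groth.Agent.Lib.GeomNormal_helper3
import Groth.Agent.Lib.SmoothRegHom_helper3
import Groth.Agent.Lib.RegHomLocal_helper3
import Groth.Agent.Lib.RegFlat_helper3
import Groth.Agent.Lib.FlatPS3_helper3

/-!
# Serre's conditions `(S_n)` and `(R_n)` along smooth morphisms, at a point (helper4)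

* `hasRk_of_ringEquiv` : `(R_k)` is invariant under ring isomorphisms.
* `ring_main` : for a smooth map `R → S` of Noetherian rings and a prime `q` of `S` over `p`,
  `S_q` has `(S_n)` (resp. `(R_n)`) iff `R_p` has.
* `chart_main` : the same for arbitrary localizations at `p`, `q`.
* `smooth_main` : scheme version for a smooth morphism to a locally Noetherian scheme.
* `main` : version for a morphism smooth on an open neighbourhood of the point.
APPEND-ONLY once landed.
-/

set_option autoImplicit false
set_option linter.unusedVariables false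
set_option linter.unusedTactic false
set_option linter.unreachableTactic false
set_option linter.unusedSectionVars false
set_option linter.style.haveILetI false
set_option maxHeartbeats 800000
set_option backward.isDefEq.respectTransparency false

universe u

open CategoryTheory AlgebraicGeometry Limits TopologicalSpace IsLocalRing

namespace Groth.Agent.Lib.SmoothSkRkH4

/-- `(R_k)` is invariant under ring isomorphisms. -/
theorem hasRk_of_ringEquiv (k : ℕ) {R R' : Type u} [CommRing R] [CommRing R'] (e : R ≃+* R')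
    (h : LocCoh.HasRk k R) : LocCoh.HasRk k R' := by
  intro p' hp' hht
  haveI : (p'.comap e).IsPrime := Ideal.comap_isPrime _ _
  have hht' : (p'.comap e).height ≤ k := by
    rw [RingEquiv.height_comap]; exact hht
  haveI := h (p'.comap e) hht'
  exact IsRegularLocalRing.of_ringEquiv (IsLocalization.ringEquivOfRingEquiv
    (Localization.AtPrime (p'.comap e)) (Localization.AtPrime p') e (e.map_primeCompl_comap_eq p'))

/-- `(S_n)` is invariant under ring isomorphisms (helper9). -/
theorem hasSk_of_ringEquiv (n : ℕ) {R R' : Type u} [CommRing R] [CommRing R'] [IsNoetherianRing R]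
    (e : R ≃+* R') (h : LocCoh.HasSk n R R) : LocCoh.HasSk n R' R' :=
  Groth.Agent.TensorCM.hasSk_of_ringEquiv n e h

/-- Smooth ring maps of Noetherian rings: `(S_n)` and `(R_n)` at a prime and at its contraction. -/
theorem ring_main (R S : Type u) [CommRing R] [CommRing S] [Algebra R S] [IsNoetherianRing R]
    [Algebra.Smooth R S] (q : Ideal S) [q.IsPrime] (n : ℕ) :
    (LocCoh.HasSk n (Localization.AtPrime q) (Localization.AtPrime q) ↔
      LocCoh.HasSk n (Localization.AtPrime (q.comap (algebraMap R S)))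
        (Localization.AtPrime (q.comap (algebraMap R S)))) ∧
    (LocCoh.HasRk n (Localization.AtPrime q) ↔
      LocCoh.HasRk n (Localization.AtPrime (q.comap (algebraMap R S)))) := by
  haveI : IsNoetherianRing S := Algebra.FiniteType.isNoetherianRing R S
  haveI hflat : Module.Flat R S := inferInstance
  have hRH : CAlg.IsRegularHom R S := Groth.Agent.Lib.SmoothRegHomH3.isRegularHom_of_smooth R S
  refine ⟨?_, ?_⟩
  · letI alg : Algebra (Localization.AtPrime (Ideal.comap (algebraMap R S) q))
        (Localization.AtPrime q) :=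
      (Localization.localRingHom (Ideal.comap (algebraMap R S) q) q (algebraMap R S) rfl).toAlgebra
    have hloc : CAlg.IsRegularHom (Localization.AtPrime (Ideal.comap (algebraMap R S) q))
        (Localization.AtPrime q) :=
      Groth.Agent.Lib.RegHomLocalH3.isRegularHom_localRingHom R S hRH q
    haveI hN1 : IsNoetherianRing (Localization.AtPrime q) :=
      IsLocalization.isNoetherianRing q.primeCompl _ inferInstance
    haveI hN2 : IsNoetherianRing (Localization.AtPrime (Ideal.comap (algebraMap R S) q)) :=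
      IsLocalization.isNoetherianRing (Ideal.comap (algebraMap R S) q).primeCompl _ inferInstance
    haveI hfl : Module.Flat (Localization.AtPrime (Ideal.comap (algebraMap R S) q))
        (Localization.AtPrime q) := hloc.1
    haveI hlh : IsLocalHom (algebraMap (Localization.AtPrime (Ideal.comap (algebraMap R S) q))
        (Localization.AtPrime q)) :=
      Localization.isLocalHom_localRingHom _ _ _ rfl
    haveI hff : Module.FaithfullyFlat (Localization.AtPrime (Ideal.comap (algebraMap R S) q))
        (Localization.AtPrime q) := Module.FaithfullyFlat.of_flat_of_isLocalHom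
    constructor
    · intro h
      exact Groth.Agent.DepthLib.hasSk_of_faithfullyFlat
        (Localization.AtPrime (Ideal.comap (algebraMap R S) q)) (Localization.AtPrime q) n h
    · intro h
      refine Groth.Agent.FlatCM.hasSk_of_flat
        (Localization.AtPrime (Ideal.comap (algebraMap R S) q)) (Localization.AtPrime q) n h ?_
      intro P hP
      obtain ⟨hN, hG⟩ := hloc.2 P
      haveI := hN
      haveI : IsRegularRing (P.Fiber (Localization.AtPrime q)) :=
        Groth.Agent.Lib.RegFlatH3.isRegularRing_of_isGeometricallyRegular _ _ hG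
      haveI := Groth.Agent.FlatCM.isCMRing_of_isRegularRing (P.Fiber (Localization.AtPrime q))
      exact Groth.Agent.TensorCM.hasSk_of_isCMRing n _
  · constructor
    · intro h
      exact Groth.Agent.RkDescent.main n R S q h
    · intro h
      have hfib : ∀ (Q : Ideal S) [Q.IsPrime], LocCoh.HasRk n (EGA4.FibLocRing R S Q) := by
        intro Q _ P _ _
        haveI : Algebra.Smooth (Q.under R).ResidueField ((Q.under R).Fiber S) :=
          inferInstanceAs (Algebra.Smooth (Q.under R).ResidueField
            (TensorProduct R (Q.under R).ResidueField S))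
        haveI := Groth.Agent.Lib.SmoothRegHomH3.isRegularRing_of_smooth_field
          (Q.under R).ResidueField ((Q.under R).Fiber S)
        haveI := Groth.Agent.Lib.GeomNormalH3.isRegularLocalRing_fibLocRing R S Q
        haveI := Groth.Agent.Lib.FlatPSH3.isRegularRing_of_isRegularLocalRing
          (EGA4.FibLocRing R S Q)
        exact IsRegularRing.isRegularLocalRing_localization P
      exact Groth.Agent.FlatCM.hasRkAt_of_flat R S n hfib q h

/-- The same for arbitrary localizations at `p` and `q`. -/
theorem chart_main (R S : Type u) [CommRing R] [CommRing S] [Algebra R S] [IsNoetherianRing R]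
    [Algebra.Smooth R S] (q : Ideal S) [hq : q.IsPrime] (p : Ideal R) [hp : p.IsPrime]
    (hpq : q.comap (algebraMap R S) = p)
    (A B : Type u) [CommRing A] [CommRing B] [Algebra R A] [Algebra S B]
    [hA : IsLocalization.AtPrime A p] [hB : IsLocalization.AtPrime B q] (n : ℕ) :
    (LocCoh.HasSk n B B ↔ LocCoh.HasSk n A A) ∧ (LocCoh.HasRk n B ↔ LocCoh.HasRk n A) := by
  subst hpq
  haveI : IsNoetherianRing S := Algebra.FiniteType.isNoetherianRing R S
  haveI : IsNoetherianRing (Localization.AtPrime q) :=
    IsLocalization.isNoetherianRing q.primeCompl _ inferInstance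
  haveI : IsNoetherianRing (Localization.AtPrime (q.comap (algebraMap R S))) :=
    IsLocalization.isNoetherianRing (q.comap (algebraMap R S)).primeCompl _ inferInstance
  haveI : IsNoetherianRing A :=
    IsLocalization.isNoetherianRing (q.comap (algebraMap R S)).primeCompl A inferInstance
  haveI : IsNoetherianRing B := IsLocalization.isNoetherianRing q.primeCompl B inferInstance
  let eA : Localization.AtPrime (q.comap (algebraMap R S)) ≃+* A :=
    (IsLocalization.algEquiv (q.comap (algebraMap R S)).primeCompl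
      (Localization.AtPrime (q.comap (algebraMap R S))) A).toRingEquiv
  let eB : Localization.AtPrime q ≃+* B :=
    (IsLocalization.algEquiv q.primeCompl (Localization.AtPrime q) B).toRingEquiv
  obtain ⟨h1, h2⟩ := ring_main R S q n
  refine ⟨⟨fun h => ?_, fun h => ?_⟩, ⟨fun h => ?_, fun h => ?_⟩⟩
  · exact hasSk_of_ringEquiv n eA (h1.mp (hasSk_of_ringEquiv n eB.symm h))
  · exact hasSk_of_ringEquiv n eB (h1.mpr (hasSk_of_ringEquiv n eA.symm h))
  · exact hasRk_of_ringEquiv n eA (h2.mp (hasRk_of_ringEquiv n eB.symm h))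
  · exact hasRk_of_ringEquiv n eB (h2.mpr (hasRk_of_ringEquiv n eA.symm h))

/-- Scheme version: a smooth morphism to a locally Noetherian scheme. -/
theorem smooth_main {Z Y : Scheme.{u}} [IsLocallyNoetherian Y] (g : Z ⟶ Y) [Smooth g] (z : Z)
    (n : ℕ) :
    (LocCoh.HasSk n (Z.presheaf.stalk z) (Z.presheaf.stalk z) ↔
      LocCoh.HasSk n (Y.presheaf.stalk (g z)) (Y.presheaf.stalk (g z))) ∧
    (LocCoh.HasRk n (Z.presheaf.stalk z) ↔ LocCoh.HasRk n (Y.presheaf.stalk (g z))) := by
  obtain ⟨_, ⟨V, hV, rfl⟩, hyV, -⟩ :=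
    Y.isBasis_affineOpens.exists_subset_of_mem_open (Set.mem_univ (g z)) isOpen_univ
  obtain ⟨_, ⟨W, hW, rfl⟩, hzW, hWV⟩ :=
    Z.isBasis_affineOpens.exists_subset_of_mem_open hyV (V.2.preimage g.continuous)
  haveI : IsNoetherianRing Γ(Y, V) := IsLocallyNoetherian.component_noetherian ⟨V, hV⟩
  have hsm : RingHom.Smooth (g.appLE V W hWV).hom :=
    HasRingHomProperty.appLE (P := @Smooth) (f := g) (inferInstance : Smooth g) ⟨V, hV⟩ ⟨W, hW⟩ hWV
  letI alg : Algebra Γ(Y, V) Γ(Z, W) := (g.appLE V W hWV).hom.toAlgebra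
  haveI : Algebra.Smooth Γ(Y, V) Γ(Z, W) := hsm
  have hcomap := IsAffineOpen.comap_primeIdealOf_appLE (f := g) (x := z) V hV W hW hWV hzW
  have hpq : (hW.primeIdealOf ⟨z, hzW⟩).asIdeal.comap (algebraMap Γ(Y, V) Γ(Z, W)) =
      (hV.primeIdealOf ⟨g z, hWV hzW⟩).asIdeal := congrArg PrimeSpectrum.asIdeal hcomap
  letI algZ : Algebra Γ(Z, W) (Z.presheaf.stalk z) :=
    TopCat.Presheaf.algebra_section_stalk Z.presheaf ⟨z, hzW⟩
  letI algY : Algebra Γ(Y, V) (Y.presheaf.stalk (g z)) :=
    TopCat.Presheaf.algebra_section_stalk Y.presheaf ⟨g z, hWV hzW⟩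
  haveI locZ : IsLocalization.AtPrime (Z.presheaf.stalk z)
      (hW.primeIdealOf ⟨z, hzW⟩).asIdeal := hW.isLocalization_stalk ⟨z, hzW⟩
  haveI locY : IsLocalization.AtPrime (Y.presheaf.stalk (g z))
      (hV.primeIdealOf ⟨g z, hWV hzW⟩).asIdeal := hV.isLocalization_stalk ⟨g z, hWV hzW⟩
  exact chart_main Γ(Y, V) Γ(Z, W) (hW.primeIdealOf ⟨z, hzW⟩).asIdeal
    (hV.primeIdealOf ⟨g z, hWV hzW⟩).asIdeal hpq (Y.presheaf.stalk (g z)) (Z.presheaf.stalk z) n

/-- S5024: a morphism which is smooth on an open neighbourhood of `x`. -/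
theorem main {X Y : Scheme.{u}} (f : X ⟶ Y) [IsLocallyNoetherian Y] (x : ↥X)
    (hx : ∃ U : X.Opens, x ∈ U ∧ Smooth (U.ι ≫ f)) (n : ℕ) :
    (LocCoh.HasSk n ↑(X.presheaf.stalk x) ↑(X.presheaf.stalk x) ↔
        LocCoh.HasSk n ↑(Y.presheaf.stalk (f.base x)) ↑(Y.presheaf.stalk (f.base x))) ∧
      (LocCoh.HasRk n ↑(X.presheaf.stalk x) ↔ LocCoh.HasRk n ↑(Y.presheaf.stalk (f.base x))) := by
  obtain ⟨U, hxU, hsm⟩ := hx
  haveI := hsm
  haveI : IsLocallyNoetherian (U : Scheme.{u}) :=
    LocallyOfFiniteType.isLocallyNoetherian (U.ι ≫ f)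
  have key : ∀ z : ↥(U : Scheme.{u}),
      (LocCoh.HasSk n (X.presheaf.stalk (U.ι z)) (X.presheaf.stalk (U.ι z)) ↔
        LocCoh.HasSk n (Y.presheaf.stalk (f (U.ι z))) (Y.presheaf.stalk (f (U.ι z)))) ∧
      (LocCoh.HasRk n (X.presheaf.stalk (U.ι z)) ↔
        LocCoh.HasRk n (Y.presheaf.stalk (f (U.ι z)))) := by
    intro z
    obtain ⟨h1, h2⟩ := smooth_main (U.ι ≫ f) z n
    have e : X.presheaf.stalk (U.ι z) ≃+* (U : Scheme.{u}).presheaf.stalk z :=
      (asIso (U.ι.stalkMap z)).commRingCatIsoToRingEquiv
    haveI : IsNoetherianRing (X.presheaf.stalk (U.ι z)) := isNoetherianRing_of_ringEquiv _ e.symm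
    exact ⟨⟨fun h => h1.mp (hasSk_of_ringEquiv n e h),
        fun h => hasSk_of_ringEquiv n e.symm (h1.mpr h)⟩,
      ⟨fun h => h2.mp (hasRk_of_ringEquiv n e h),
        fun h => hasRk_of_ringEquiv n e.symm (h2.mpr h)⟩⟩
  exact key ⟨x, hxU⟩

end Groth.Agent.Lib.SmoothSkRkH4
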