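import Mathlib
import Groth.Agent.Lib.SmoothUnibranch6_helper3

/-!
# Strict henselizations of `R_p` and `S_q` have the same number of minimal primes for `R → S`
smooth (helper3)
-/

set_option autoImplicit false
set_option maxSynthPendingDepth 3
universe u

namespace Groth.Agent.Lib.SmoothUnibranchH3

open TensorProduct IsLocalRing

section RingL

attribute [local instance] Algebra.TensorProduct.rightAlgebra

open Groth.Agent.Lib.BrEtNbhdH3 in
theorem numGeomBranches_le_of_smooth_localization
    {R B : Type u} [CommRing R] [CommRing B] [Algebra R B] [Algebra.Smooth R B]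
    (q : Ideal B) [q.IsPrime] (Bq : Type u) [CommRing Bq] [IsLocalRing Bq] [Algebra B Bq]
    [IsLocalization.AtPrime Bq q]
    (M : Submonoid R) (A : Type u) [CommRing A] [IsLocalRing A] [Algebra R A] [IsLocalization M A]
    (Ash : Type u) [CommRing Ash] [IsLocalRing Ash] [Algebra A Ash]
    [IsLocalHom (algebraMap A Ash)] [Hensel.IsStrictHenselization A Ash]
    [Algebra A Bq] [Algebra R Bq] [IsScalarTower R A Bq] [IsScalarTower R B Bq]
    (hloc : ∀ a ∈ maximalIdeal A, ¬ IsUnit (algebraMap A Bq a)) :
    Brnch.numGeomBranches Bq ≤ (minimalPrimes Ash).encard := by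
  haveI : IsLocalization (Algebra.algebraMapSubmonoid B M) (A ⊗[R] B) :=
    IsLocalization.tensorRight (R := R) (S := B) A M
  let ψ : A ⊗[R] B →ₐ[A] Bq :=
    Algebra.TensorProduct.lift (Algebra.ofId A Bq) (IsScalarTower.toAlgHom R B Bq)
      (fun _ _ => Commute.all _ _)
  letI : Algebra (A ⊗[R] B) Bq := ψ.toRingHom.toAlgebra
  haveI : IsScalarTower A (A ⊗[R] B) Bq :=
    IsScalarTower.of_algebraMap_eq' (by
      ext a
      simp [RingHom.algebraMap_toAlgebra, ψ, Algebra.TensorProduct.algebraMap_apply,
        Algebra.ofId_apply])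
  have hcompB : algebraMap B Bq = (algebraMap (A ⊗[R] B) Bq).comp (algebraMap B (A ⊗[R] B)) := by
    ext b
    simp [RingHom.algebraMap_toAlgebra, ψ]
  haveI : IsScalarTower B (A ⊗[R] B) Bq := IsScalarTower.of_algebraMap_eq' hcompB
  have hle : Algebra.algebraMapSubmonoid B M ≤ q.primeCompl := by
    rintro _ ⟨r, hr, rfl⟩
    rw [← IsLocalization.AtPrime.isUnit_to_map_iff Bq q]
    have h1 : algebraMap B Bq (algebraMap R B r) = algebraMap A Bq (algebraMap R A r) := by
      rw [← IsScalarTower.algebraMap_apply, ← IsScalarTower.algebraMap_apply]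
    rw [h1]
    exact (IsLocalization.map_units A ⟨r, hr⟩).map _
  haveI hlocN : IsLocalization (q.primeCompl.map (algebraMap B (A ⊗[R] B))) Bq :=
    IsLocalization.isLocalization_of_submonoid_le (A ⊗[R] B) Bq
      (Algebra.algebraMapSubmonoid B M) q.primeCompl hle
  obtain ⟨p'', hp''⟩ : ∃ p'' : Ideal (A ⊗[R] B),
      p'' = (maximalIdeal Bq).comap (algebraMap (A ⊗[R] B) Bq) := ⟨_, rfl⟩
  haveI : p''.IsPrime := by rw [hp'']; exact Ideal.comap_isPrime _ _
  haveI : IsLocalization.AtPrime Bq p'' := by
    refine IsLocalization.of_le (M := q.primeCompl.map (algebraMap B (A ⊗[R] B))) p''.primeCompl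
      ?_ ?_
    · rintro _ ⟨b, hb, rfl⟩
      show (algebraMap B (A ⊗[R] B)) b ∉ p''
      rw [hp'', Ideal.mem_comap, ← IsScalarTower.algebraMap_apply, mem_maximalIdeal,
        mem_nonunits_iff, not_not, IsLocalization.AtPrime.isUnit_to_map_iff Bq q]
      exact hb
    · intro r hr
      have hr' : r ∉ p'' := hr
      rw [hp'', Ideal.mem_comap, mem_maximalIdeal, mem_nonunits_iff, not_not] at hr'
      exact hr'
  apply numGeomBranches_le_of_isLocalization_of_smooth A Ash (A ⊗[R] B) p'' Bq
  rw [Ideal.map_le_iff_le_comap]
  intro a ha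
  rw [Ideal.mem_comap, hp'', Ideal.mem_comap, ← IsScalarTower.algebraMap_apply, mem_maximalIdeal,
    mem_nonunits_iff]
  exact hloc a ha

end RingL

section Final

/-- **smooth local homomorphisms preserve the number of geometric branches** -/
theorem encard_minimalPrimes_strictHenselization_eq_of_smooth
    {R S Ash Bsh : Type u} [CommRing R] [CommRing S] [Algebra R S]
    [Algebra.Smooth R S] (q : Ideal S) [q.IsPrime] (p : Ideal R) [p.IsPrime] [q.LiesOver p]
    [CommRing Ash] [IsLocalRing Ash] [Algebra (Localization.AtPrime p) Ash]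
    [IsLocalHom (algebraMap (Localization.AtPrime p) Ash)]
    [Hensel.IsStrictHenselization (Localization.AtPrime p) Ash]
    [CommRing Bsh] [IsLocalRing Bsh] [Algebra (Localization.AtPrime q) Bsh]
    [IsLocalHom (algebraMap (Localization.AtPrime q) Bsh)]
    [Hensel.IsStrictHenselization (Localization.AtPrime q) Bsh] :
    (minimalPrimes Ash).encard = (minimalPrimes Bsh).encard := by
  have hA : (minimalPrimes Ash).encard = Brnch.numGeomBranches (Localization.AtPrime p) := by
    rw [← Groth.Agent.S9238.result (Localization.AtPrime p) Ash, ENat.card_coe_set_eq]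
  have hB : (minimalPrimes Bsh).encard = Brnch.numGeomBranches (Localization.AtPrime q) := by
    rw [← Groth.Agent.S9238.result (Localization.AtPrime q) Bsh, ENat.card_coe_set_eq]
  have hpq : p = q.comap (algebraMap R S) := q.over_def p
  letI algAB : Algebra (Localization.AtPrime p) (Localization.AtPrime q) :=
    (Localization.localRingHom p q (algebraMap R S) hpq).toAlgebra
  haveI : IsLocalHom (algebraMap (Localization.AtPrime p) (Localization.AtPrime q)) :=
    Localization.isLocalHom_localRingHom _ _ _ hpq
  haveI hflat : Module.Flat (Localization.AtPrime p) (Localization.AtPrime q) :=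
    RingHom.Flat.localRingHom (RingHom.flat_algebraMap_iff.mpr inferInstance) q p hpq
  haveI tow2 : IsScalarTower R (Localization.AtPrime p) (Localization.AtPrime q) :=
    IsScalarTower.of_algebraMap_eq (fun r => by
      rw [IsScalarTower.algebraMap_apply R S (Localization.AtPrime q)]
      show algebraMap S (Localization.AtPrime q) (algebraMap R S r) =
        Localization.localRingHom p q (algebraMap R S) hpq (algebraMap R _ r)
      rw [Localization.localRingHom_to_map])
  rw [hB]
  apply le_antisymm
  · rw [hA]
    exact numGeomBranches_le_of_flat (Localization.AtPrime p) (Localization.AtPrime q)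
  · refine numGeomBranches_le_of_smooth_localization (R := R) (B := S) q (Localization.AtPrime q)
      p.primeCompl (Localization.AtPrime p) Ash ?_
    intro a ha hunit
    exact ha (isUnit_of_map_unit (algebraMap (Localization.AtPrime p) (Localization.AtPrime q)) a
      hunit)

end Final

end Groth.Agent.Lib.SmoothUnibranchH3
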