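import Mathlib
import Groth.Prelude
import Groth.Agent.Lib.Snap9_helper9

/-!
# Euler characteristics of twists modulo lower-dimensional contributions (helper9).
APPEND-ONLY once landed.
-/

set_option autoImplicit false
universe u
open CategoryTheory CategoryTheory.Limits AlgebraicGeometry Opposite TopologicalSpace

open Finset MvPolynomial

namespace Snap9

open Groth.Agent.TensInv Groth.Agent.Lib.GVanH2

section Pull

variable {X Z : Scheme.{u}} (f : Z ⟶ X)

/-- pullback commutes with the multi-twists of the structure sheaf -/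
theorem nonempty_pullback_tensorPows_iso : ∀ (r : ℕ) (L : Fin r → X.Modules)
    (_ : ∀ i, PicF.IsInvertible (L i)) (n : Fin r → ℕ),
    Nonempty ((Scheme.Modules.pullback f).obj (Curv2.tensorPows (Coh.structureModule X) r L n) ≅
      Curv2.tensorPows (Coh.structureModule Z) r
        (fun i => (Scheme.Modules.pullback f).obj (L i)) n) := by
  intro r
  induction r with
  | zero => intro L _ n; exact ⟨PBH8.pullbackUnitIso f⟩
  | succ r ih =>
    intro L hL n
    obtain ⟨e⟩ := ih (fun i => L i.castSucc) (fun i => hL _) (fun j => n j.castSucc)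
    obtain ⟨e'⟩ := DegPull.nonempty_pullback_tensorPow_iso f (hL (Fin.last r)) (n (Fin.last r))
    exact ⟨PullTensH9.pullTensIso f
      (tensorPows_isInvertible r (fun i => L i.castSucc) (fun i => hL _) _)
      (TensH8.isInvertible_tensorPow (hL (Fin.last r)) _) ≪≫ mapR e _ ≪≫ mapL _ e'⟩

end Pull

section Main7650

variable (k : Type u) [Field k] (X : Scheme.{u}) [X.Over (Spec (CommRingCat.of k))]
  [IsProper (X ↘ Spec (CommRingCat.of k))]

/-- the Euler characteristic on a closed subscheme of the restricted multi-twist -/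
theorem euler_subscheme_tensorPows (D : X.IdealSheafData) (r : ℕ) (L : Fin r → X.Modules)
    (hL : ∀ i, PicF.IsInvertible (L i)) (n : Fin r → ℕ) :
    @Curv2.euler k _ D.subscheme ⟨D.subschemeι ≫ (X ↘ Spec (CommRingCat.of k))⟩
      (Curv2.tensorPows (Coh.structureModule D.subscheme) r
        (fun i => (Scheme.Modules.pullback D.subschemeι).obj (L i)) n) =
      Curv2.euler k X (CohB1.tensorMod (ClSub.quotMod D)
        (Curv2.tensorPows (Coh.structureModule X) r L n)) := by
  letI : D.subscheme.Over (Spec (CommRingCat.of k)) :=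
    ⟨D.subschemeι ≫ (X ↘ Spec (CommRingCat.of k))⟩
  haveI : IsProper (D.subscheme ↘ Spec (CommRingCat.of k)) :=
    inferInstanceAs (IsProper (D.subschemeι ≫ (X ↘ Spec (CommRingCat.of k))))
  have hE := tensorPows_isInvertible r L hL n
  have h1 := DegPull.euler_pullback_eq k D.subschemeι rfl
    (Curv2.tensorPows (Coh.structureModule X) r L n)
    (FLFH8.IsFinLocFreeOfRank.isFinLocFree _ (FLFH8.finLocFreeOfRank_one_of_isInvertible hE))
  obtain ⟨e⟩ := nonempty_pullback_tensorPows_iso D.subschemeι r L hL n
  rw [← CurveTens.euler_of_iso k D.subscheme e]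
  exact h1

/-- the twisted Euler characteristic as a homomorphism on `K₀(Coh X)` -/
noncomputable def twHom (E : X.Modules) (hE : PicF.IsInvertible E) :
    KZero.K0sub (fun M : X.Modules => Coh.IsCoh M) →+ ℤ :=
  haveI : IsLocallyNoetherian X :=
    LocallyOfFiniteType.isLocallyNoetherian (X ↘ Spec (CommRingCat.of k))
  Groth.Agent.Lib.KZeroH4.liftSub _ (fun F => Curv2.euler k X (CohB1.tensorMod F E))
    (fun S hS h1 h2 h3 => EulerField.euler_additive k X (S.map (tR E))
      (CurveTens.shortExact_tR hE S hS) (isCoh_tensorMod h1 hE) (isCoh_tensorMod h2 hE)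
      (isCoh_tensorMod h3 hE))

theorem twHom_clSub (E : X.Modules) (hE : PicF.IsInvertible E) (F : X.Modules)
    (hF : Coh.IsCoh F) :
    twHom k X E hE (KZero.clSub (fun M : X.Modules => Coh.IsCoh M) F) =
      Curv2.euler k X (CohB1.tensorMod F E) :=
  Groth.Agent.Lib.KZeroH4.liftSub_clSub _ _ _ F hF

/-- classes of smaller-dimensional support have twisted Euler characteristics of smaller degree -/
theorem exists_poly_of_mem (d r : ℕ) (L : Fin r → X.Modules) (hL : ∀ i, PicF.IsInvertible (L i))
    (c : KZero.K0sub (fun M : X.Modules => Coh.IsCoh M))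
    (hc : c ∈ AddSubgroup.closure {c : KZero.K0sub (fun M : X.Modules => Coh.IsCoh M) |
        ∃ G : X.Modules, Coh.IsCoh G ∧ topologicalKrullDim ↥(CohB1.support G) < d ∧
          c = KZero.clSub (fun M : X.Modules => Coh.IsCoh M) G}) :
    ∃ P : MvPolynomial (Fin r) ℚ, (∀ m ∈ P.support, (m.sum fun _ e => e) < d) ∧
      ∀ n : Fin r → ℕ, ((twHom k X (Curv2.tensorPows (Coh.structureModule X) r L n)
        (tensorPows_isInvertible r L hL n) c : ℤ) : ℚ) =
          MvPolynomial.eval (fun i => (n i : ℚ)) P := by
  haveI : IsLocallyNoetherian X :=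
    LocallyOfFiniteType.isLocallyNoetherian (X ↘ Spec (CommRingCat.of k))
  induction hc using AddSubgroup.closure_induction with
  | mem c hc =>
    obtain ⟨G, hG, hdim, rfl⟩ := hc
    haveI := hG.2
    have hcl : IsClosed (CohB1.support G) := SuppFT.isClosed_support G
    have heq : ∀ n : Fin r → ℕ, twHom k X (Curv2.tensorPows (Coh.structureModule X) r L n)
        (tensorPows_isInvertible r L hL n) (KZero.clSub (fun M : X.Modules => Coh.IsCoh M) G) =
        Curv2.euler k X (Curv2.tensorPows G r L n) := by
      intro n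
      rw [twHom_clSub k X _ _ G hG]
      obtain ⟨e⟩ := tensorPows_tensor G r L n
      exact CurveTens.euler_of_iso k X e
    rcases Nat.eq_zero_or_pos d with rfl | hd
    · refine ⟨0, by simp, fun n => ?_⟩
      rw [heq, map_zero]
      obtain ⟨hc', hs'⟩ := tensorPows_isCoh k X G hG r L hL n
      have h0 := altSum_eq_zero k X [] (by simp) _ hc' ⟨CohB1.support G, hcl⟩ hs'
        (lt_of_le_of_lt (dimC_le_topologicalKrullDim ⟨CohB1.support G, hcl⟩) hdim)
      rw [altSum_nil] at h0
      rw [h0]
      simp
    · obtain ⟨d', rfl⟩ : ∃ d', d = d' + 1 := ⟨d - 1, by omega⟩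
      obtain ⟨h0, hs0⟩ := tensorPows_isCoh k X G hG r L hL 0
      obtain ⟨P, hPd, hPe⟩ := sys_exists_poly k X L hL (fun n => Curv2.tensorPows G r L n)
        (fun n i => tensorPows_step G r L n i) ⟨CohB1.support G, hcl⟩ h0 hs0 d'
        (lt_of_le_of_lt (dimC_le_topologicalKrullDim ⟨CohB1.support G, hcl⟩) hdim)
      refine ⟨P, fun m hm => ?_, fun n => ?_⟩
      · exact lt_of_le_of_lt ((MvPolynomial.le_totalDegree hm).trans hPd) (Nat.lt_succ_self d')
      · rw [heq, hPe]
  | zero =>
    exact ⟨0, by simp, fun n => by simp⟩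
  | add a b _ _ iha ihb =>
    obtain ⟨Pa, hPa, hea⟩ := iha
    obtain ⟨Pb, hPb, heb⟩ := ihb
    refine ⟨Pa + Pb, fun m hm => ?_, fun n => ?_⟩
    · rcases Finset.mem_union.mp (MvPolynomial.support_add hm) with h | h
      · exact hPa m h
      · exact hPb m h
    · rw [map_add, map_add, ← hea, ← heb]
      push_cast
      rfl
  | neg a _ iha =>
    obtain ⟨Pa, hPa, hea⟩ := iha
    refine ⟨-Pa, fun m hm => ?_, fun n => ?_⟩
    · rw [MvPolynomial.support_neg] at hm
      exact hPa m hm
    · rw [map_neg, map_neg, ← hea]
      push_cast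
      rfl

open CycLenH8 in
/-- **S7650** -/
theorem main7650 (F : X.Modules) (hF : Coh.IsCoh F) (d : ℕ)
    (hd : topologicalKrullDim (CohB1.support F) = d)
    (r : ℕ) (L : Fin r → X.Modules) (hL : ∀ i, PicF.IsInvertible (L i)) :
    ∃ P : MvPolynomial (Fin r) ℚ, (∀ m ∈ P.support, (m.sum fun _ e => e) < d) ∧
      ∀ n : Fin r → ℕ,
        (Curv2.euler k X (Curv2.tensorPows F r L n) : ℚ) -
          ∑ᶠ ξ : X, (if topologicalKrullDim (closure ({ξ} : Set X)) = (d : WithBot ℕ∞) then
            ((Module.length (X.presheaf.stalk ξ) (F.presheaf.stalk ξ)).toNat : ℚ) *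
              (@Curv2.euler k _
                (Scheme.IdealSheafData.vanishingIdeal (⟨closure ({ξ} : Set X), isClosed_closure⟩ :
                  TopologicalSpace.Closeds X)).subscheme
                ⟨(Scheme.IdealSheafData.vanishingIdeal (⟨closure ({ξ} : Set X), isClosed_closure⟩ :
                  TopologicalSpace.Closeds X)).subschemeι ≫ (X ↘ (Spec (CommRingCat.of k)))⟩
                (Curv2.tensorPows
                  (Coh.structureModule (Scheme.IdealSheafData.vanishingIdeal
                    (⟨closure ({ξ} : Set X), isClosed_closure⟩ :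
                      TopologicalSpace.Closeds X)).subscheme)
                  r (fun i => (Scheme.Modules.pullback
                    (Scheme.IdealSheafData.vanishingIdeal
                      (⟨closure ({ξ} : Set X), isClosed_closure⟩ :
                        TopologicalSpace.Closeds X)).subschemeι).obj (L i)) n) : ℚ)
            else 0)
          = MvPolynomial.eval (fun i => (n i : ℚ)) P := by
  haveI : IsLocallyNoetherian X :=
    LocallyOfFiniteType.isLocallyNoetherian (X ↘ Spec (CommRingCat.of k))
  haveI : CompactSpace X :=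
    QuasiCompact.compactSpace_of_compactSpace (X ↘ Spec (CommRingCat.of k))
  haveI : IsNoetherian X := {}
  haveI := hF.2
  have hcl : IsClosed (CohB1.support F) := SuppFT.isClosed_support F
  have hmem := clSub_sub_lenSum_mem d F hF hd.le
  obtain ⟨P, hP1, hP2⟩ := exists_poly_of_mem k X d r L hL _ hmem
  refine ⟨P, hP1, fun n => ?_⟩
  rw [← hP2 n, map_sub, twHom_clSub k X _ _ F hF]
  obtain ⟨e⟩ := tensorPows_tensor F r L n
  rw [CurveTens.euler_of_iso k X e]
  push_cast
  congr 1
  rw [lenSum_eq_sum hcl hd.le (fun _ h => h), map_sum]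
  have hterm : ∀ ξ : X, ((twHom k X (Curv2.tensorPows (Coh.structureModule X) r L n)
      (tensorPows_isInvertible r L hL n) (lenTerm d F ξ) : ℤ) : ℚ) =
      (if topologicalKrullDim (closure ({ξ} : Set X)) = (d : WithBot ℕ∞) then
        ((Module.length (X.presheaf.stalk ξ) (F.presheaf.stalk ξ)).toNat : ℚ) *
          (@Curv2.euler k _
            (Scheme.IdealSheafData.vanishingIdeal (⟨closure ({ξ} : Set X), isClosed_closure⟩ :
              TopologicalSpace.Closeds X)).subscheme
            ⟨(Scheme.IdealSheafData.vanishingIdeal (⟨closure ({ξ} : Set X), isClosed_closure⟩ :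
              TopologicalSpace.Closeds X)).subschemeι ≫ (X ↘ (Spec (CommRingCat.of k)))⟩
            (Curv2.tensorPows
              (Coh.structureModule (Scheme.IdealSheafData.vanishingIdeal
                (⟨closure ({ξ} : Set X), isClosed_closure⟩ :
                  TopologicalSpace.Closeds X)).subscheme)
              r (fun i => (Scheme.Modules.pullback
                (Scheme.IdealSheafData.vanishingIdeal
                  (⟨closure ({ξ} : Set X), isClosed_closure⟩ :
                    TopologicalSpace.Closeds X)).subschemeι).obj (L i)) n) : ℚ)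
        else 0) := by
    intro ξ
    unfold lenTerm
    split_ifs with h
    · rw [map_nsmul, twHom_clSub k X _ _ _ (CohDevH8.isCoh_closureStructureSheaf ξ),
        nsmul_eq_mul, euler_subscheme_tensorPows k X _ r L hL n]
      push_cast
      rfl
    · rw [map_zero]
      rfl
  rw [← funext hterm]
  push_cast
  apply finsum_eq_sum_of_support_subset
  rw [Set.Finite.coe_toFinset]
  refine Set.Subset.trans ?_ (lenTerm_support_subset hcl hd.le (fun _ h => h))
  intro ξ hξ
  rw [Function.mem_support] at hξ ⊢
  intro h
  apply hξ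
  rw [h, map_zero]
  rfl

end Main7650

end Snap9
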