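import Mathlib
import Groth.Prelude
import Groth.Agent.Lib.Snap35_helper9
import Groth.Agent.Lib.VAmpPn1_helper5

/-!
# The non-vanishing locus of a section of a globally generated invertible module is affine if it
contains no complete curve (S11372) (helper9).
APPEND-ONLY once landed.
-/

set_option autoImplicit false
universe u
open CategoryTheory CategoryTheory.Limits AlgebraicGeometry Opposite TopologicalSpace TensorProduct

namespace Snap9

open Groth.Agent.TensInv Groth.Agent.Lib.GVanH2 Groth.Agent.ProjFin QcqsLoc QCohExtn GenLocH8 TensH8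
  SerreCrit FLFH8

section Aff

variable (k : Type u) [Field k] (X : Scheme.{u}) [X.Over (Spec (CommRingCat.of k))]
  [IsProper (X ↘ Spec (CommRingCat.of k))]

include k in
/-- **S11372** -/
theorem main11372 [Nonempty X]
    (L : X.Modules) (hL : PicF.IsInvertible L) (hgen : Curv2.IsGloballyGenerated L)
    (s : Coh.structureModule X ⟶ L)
    (hcurves : ∀ C : X.IdealSheafData, IsIntegral C.subscheme →
      topologicalKrullDim (C.support : Set X) = 1 →
        ¬ ((C.support : Set X) ⊆ (CohB1.genLocus L s : Set X))) :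
    IsAffineOpen (CohB1.genLocus L s) := by
  haveI : IsLocallyNoetherian X :=
    LocallyOfFiniteType.isLocallyNoetherian (X ↘ Spec (CommRingCat.of k))
  haveI : CompactSpace X :=
    QuasiCompact.compactSpace_of_compactSpace (X ↘ Spec (CommRingCat.of k))
  have hfin : topologicalKrullDim X < ⊤ :=
    Groth.Agent.WCF9.topDim_lt_top X (X ↘ Spec (CommRingCat.of k))
  have hgg : ∀ x : X, ∃ σ : Coh.structureModule X ⟶ L, CurveLin.GenAt L σ x := fun x => by
    obtain ⟨t, ht⟩ := GGH8.exists_hom_mem_genLocus hL hgen x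
    exact ⟨t, CurvePt.genAt_of_mem_genLocus t ht⟩
  obtain ⟨n, b, hb⟩ := exists_generating_family_one L hgg
  set σ : Fin (n + 1 + 1) → (Coh.structureModule X ⟶ L) := Fin.cons s b with hσ
  have hσ0 : σ 0 = s := rfl
  have hcov : ∀ x : X, ∃ i, x ∈ CohB1.genLocus L (σ i) := fun x => by
    obtain ⟨i, hi⟩ := hb x
    exact ⟨i.succ, (CurvePt.genAt_iff_mem_genLocus _).mp hi⟩
  have hs := Groth.Agent.VAmpPn.generatedBy_of_cover σ hcov
  obtain ⟨r, hr, τ, hτ⟩ := Groth.Agent.S3572.result (n + 1) (X ↘ Spec (CommRingCat.of k)) L hL _ hs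
  have hτ' : ∀ i, τ.hom.app ⊤ (ProjUP.pullSec r
      (Twist.twist (CohB1.polyGrading (n + 1) k) 1)
      (Groth.Agent.ProjUPU.sig (CohB1.polyGrading (n + 1) k) (Groth.Agent.VAmpPn.hX (n + 1) i))) =
        SecTwist.val (σ i) ⊤ := hτ
  set D : (CohB1.ProjSpace (n + 1) k).Opens :=
    Proj.basicOpen (CohB1.polyGrading (n + 1) k) (MvPolynomial.X (0 : Fin (n + 1 + 1))) with hD
  have hU : CohB1.genLocus L s = r ⁻¹ᵁ D :=
    Groth.Agent.VAmpPn.genLocus_eq r τ σ hτ' 0
  have hDaff : IsAffineOpen D :=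
    Proj.isAffineOpen_basicOpen (CohB1.polyGrading (n + 1) k) _
      (Groth.Agent.VAmpPn.hX (n + 1) 0) one_pos
  haveI : IsProper (CohB1.ProjSpace.toSpec (n + 1) k) :=
    Groth.Agent.Lib.ProjSpaceProperH4.isProper_toSpec (n + 1) k
  haveI : IsProper (r ≫ CohB1.ProjSpace.toSpec (n + 1) k) := by rw [hr]; infer_instance
  haveI : IsProper r := IsProper.of_comp r (CohB1.ProjSpace.toSpec (n + 1) k)
  haveI : JacobsonSpace (CohB1.ProjSpace (n + 1) k) :=
    LocallyOfFiniteType.jacobsonSpace (CohB1.ProjSpace.toSpec (n + 1) k)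
  haveI : IsProper (r ∣_ D) := IsZariskiLocalAtTarget.restrict ‹IsProper r› D
  haveI : IsAffine D.toScheme := hDaff
  haveI : CompactSpace (r ⁻¹ᵁ D).toScheme := QuasiCompact.compactSpace_of_compactSpace (r ∣_ D)
  haveI : IsFinite (r ∣_ D) := by
    apply isFinite_of_finite_closed_fibres (r ∣_ D)
    intro y hy
    have hy' : IsClosed ({D.ι y} : Set (CohB1.ProjSpace (n + 1) k)) := by
      have h1 : y ∈ closedPoints D.toScheme := hy
      rw [← D.ι.isOpenEmbedding.preimage_closedPoints] at h1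
      exact h1
    have hcl : IsClosed (r ⁻¹' {D.ι y}) := hy'.preimage r.continuous
    have hsub : r ⁻¹' {D.ι y} ⊆ (CohB1.genLocus L s : Set X) := by
      intro x hx
      rw [hU]
      show r x ∈ D
      rw [Set.mem_preimage, Set.mem_singleton_iff] at hx
      rw [hx]
      exact y.2
    have hfinite : (r ⁻¹' {D.ι y}).Finite := by
      refine TensBasis.finite_of_closed_points _ hcl (fun ξ hξ => ?_)
      by_contra hξcl
      obtain ⟨ξ', hξ', hdim'⟩ := exists_curve_point hfin ξ hξcl
      have hZT : closure ({ξ'} : Set X) ⊆ r ⁻¹' {D.ι y} :=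
        closure_minimal (Set.singleton_subset_iff.mpr
          (closure_minimal (Set.singleton_subset_iff.mpr hξ) hcl hξ')) hcl
      obtain ⟨hint, -⟩ := CohDevH8.exists_isIntegral_subscheme (closure ({ξ'} : Set X))
        isClosed_closure ξ' rfl
      have hsC : ((IntMult.ptIdeal ξ').support : Set X) = closure ({ξ'} : Set X) := by
        unfold IntMult.ptIdeal
        rw [Scheme.IdealSheafData.coe_support_vanishingIdeal]
        rfl
      refine hcurves (IntMult.ptIdeal ξ') hint (by rw [hsC, hdim']; rfl) ?_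
      rw [hsC]
      exact hZT.trans hsub
    have hpre : (r ∣_ D) ⁻¹' {y} ⊆ (r ⁻¹ᵁ D).ι ⁻¹' (r ⁻¹' {D.ι y}) := by
      intro x hx
      rw [Set.mem_preimage, Set.mem_singleton_iff] at hx
      show r ((r ⁻¹ᵁ D).ι x) = D.ι y
      rw [← hx]
      exact (morphismRestrict_base_coe r D x).symm
    exact (hfinite.preimage
      (Set.injOn_of_injective (r ⁻¹ᵁ D).ι.isOpenEmbedding.injective)).subset hpre
  haveI : IsAffine (r ⁻¹ᵁ D).toScheme := isAffine_of_isAffineHom (r ∣_ D)
  rw [hU]
  exact ‹IsAffine (r ⁻¹ᵁ D).toScheme›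

end Aff

end Snap9
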