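import Mathlib
import Groth.Prelude
import Groth.Agent.Lib.Snap43_helper9

/-!
# Big invertible modules: characterisations (S17278, S19806) (helper9).
APPEND-ONLY once landed.
-/

set_option autoImplicit false
universe u
open CategoryTheory CategoryTheory.Limits AlgebraicGeometry Opposite TopologicalSpace TensorProduct

namespace Snap9

open Groth.Agent.TensInv Groth.Agent.Lib.GVanH2 Groth.Agent.ProjFin QcqsLoc QCohExtn GenLocH8 TensH8
  SerreCrit FLFH8

section ENN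

open scoped ENNReal NNReal

theorem ennreal_lt_div_iff (r : ℝ≥0) (h n d : ℕ) (hn : 1 ≤ n) :
    (r : ℝ≥0∞) < (h : ℝ≥0∞) / (n : ℝ≥0∞) ^ d ↔ (r : ℝ) * (n : ℝ) ^ d < (h : ℝ) := by
  have hn0 : ((n : ℝ≥0∞) ^ d) ≠ 0 := by
    apply pow_ne_zero
    exact_mod_cast (by omega : n ≠ 0)
  have hnt : ((n : ℝ≥0∞) ^ d) ≠ ⊤ := ENNReal.pow_ne_top (ENNReal.natCast_ne_top n)
  rw [ENNReal.lt_div_iff_mul_lt (Or.inl hn0) (Or.inl hnt)]
  have e1 : (r : ℝ≥0∞) * (n : ℝ≥0∞) ^ d = ((r * (n : ℝ≥0) ^ d : ℝ≥0) : ℝ≥0∞) := by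
    push_cast
    rfl
  have e2 : (h : ℝ≥0∞) = ((h : ℝ≥0) : ℝ≥0∞) := by simp
  rw [e1, e2, ENNReal.coe_lt_coe, ← NNReal.coe_lt_coe]
  push_cast
  rfl

theorem ofReal_le_div_iff (c : ℝ) (hc : 0 ≤ c) (h n d : ℕ) (hn : 1 ≤ n) :
    ENNReal.ofReal c ≤ (h : ℝ≥0∞) / (n : ℝ≥0∞) ^ d ↔ c * (n : ℝ) ^ d ≤ (h : ℝ) := by
  have hn0 : ((n : ℝ≥0∞) ^ d) ≠ 0 := by
    apply pow_ne_zero
    exact_mod_cast (by omega : n ≠ 0)
  have hnt : ((n : ℝ≥0∞) ^ d) ≠ ⊤ := ENNReal.pow_ne_top (ENNReal.natCast_ne_top n)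
  rw [ENNReal.le_div_iff_mul_le (Or.inl hn0) (Or.inl hnt)]
  have e1 : ENNReal.ofReal c * (n : ℝ≥0∞) ^ d = ENNReal.ofReal (c * (n : ℝ) ^ d) := by
    rw [ENNReal.ofReal_mul hc, ENNReal.ofReal_pow (by positivity), ENNReal.ofReal_natCast]
  have e2 : (h : ℝ≥0∞) = ENNReal.ofReal (h : ℝ) := by simp
  rw [e1, e2, ENNReal.ofReal_le_ofReal_iff (by positivity)]

end ENN

section Lower

variable (k : Type u) [Field k] (X : Scheme.{u}) [X.Over (Spec (CommRingCat.of k))]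
  [IsProper (X ↘ Spec (CommRingCat.of k))]

/-- the sections of the powers of an ample module grow at least like `q^d`, `d = dim X` -/
theorem lower_bound_ample [IsIntegral X] (d : ℕ) (hdim : topologicalKrullDim X = d)
    {A : X.Modules} (hA : CohB1.IsAmple A) :
    ∃ c₀ : ℝ, 0 < c₀ ∧ ∃ q₀ : ℕ, ∀ q, q₀ ≤ q →
      c₀ * (q : ℝ) ^ d ≤ (Module.finrank k (Coh.HH X (CohB1.tensorPow A q) 0) : ℝ) := by
  haveI : IsLocallyNoetherian X :=
    LocallyOfFiniteType.isLocallyNoetherian (X ↘ Spec (CommRingCat.of k))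
  haveI : CompactSpace X :=
    QuasiCompact.compactSpace_of_compactSpace (X ↘ Spec (CommRingCat.of k))
  rcases Nat.eq_zero_or_pos d with hd0 | hdpos
  · subst hd0
    obtain ⟨n₀, -, h₀⟩ := TensH8.exists_isAmple_gg_twist hA
      (TensH8.isInvertible_structureModule (X := X))
    refine ⟨1, one_pos, n₀, fun q hq => ?_⟩
    obtain ⟨hB, hg⟩ := h₀ q hq
    obtain ⟨t, ht⟩ := exists_section_of_gg X hB.1 hg
    have ht' : t ≫ (rightUnit (CohB1.tensorPow A q)).hom ≠ 0 := fun h =>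
      ht ((cancel_mono (rightUnit (CohB1.tensorPow A q)).hom).mp (h.trans zero_comp.symm))
    haveI := nontrivial_HH0_of_hom_ne_zero _ ht'
    haveI := ProperFinH9.finite_HH_of_proper k X _
      (ProperFinH9.isCoh_of_isInvertible (isInvertible_tensorPow hA.1 q)) 0
    have hpos : 0 < Module.finrank k (Coh.HH X (CohB1.tensorPow A q) 0) := Module.finrank_pos
    simp only [pow_zero, mul_one]
    exact_mod_cast hpos
  · obtain ⟨d', rfl⟩ : ∃ d', d = d' + 1 := ⟨d - 1, by omega⟩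
    have hOcoh := CohDevH8.isCoh_structureModule X
    have hOdim : topologicalKrullDim (CohB1.support (Coh.structureModule X)) ≤
        ((d' + 1 : ℕ) : WithBot ℕ∞) :=
      (Topology.IsInducing.subtypeVal.topologicalKrullDim_le).trans hdim.le
    obtain ⟨P, -, hP⟩ := main1528 k X (Coh.structureModule X) hOcoh (d' + 1) hOdim (d' + 1)
      (fun _ => A) (fun _ => hA.1)
    obtain ⟨hpos, C, hC⟩ := main7649 k X (d' + 1) hdim A hA P hP
    set a : ℚ := MvPolynomial.coeff (Finsupp.equivFunOnFinite.symm fun _ : Fin (d' + 1) => 1) P /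
      ((d' + 1).factorial : ℚ) with ha
    have hapos : 0 < a := div_pos hpos (by positivity)
    have hC0 : 0 ≤ C := by
      have h := hC 0
      simp only [Nat.add_sub_cancel, Nat.cast_zero, zero_add, one_pow, mul_one] at h
      exact (abs_nonneg _).trans h
    obtain ⟨q₀, hq₀⟩ := exists_nat_ge (2 ^ (d' + 1) * C / a)
    refine ⟨((a / 2 : ℚ) : ℝ), by exact_mod_cast (half_pos hapos), q₀ + 1, fun q hq => ?_⟩
    have hq1 : (1 : ℚ) ≤ q := by exact_mod_cast (by omega : 1 ≤ q)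
    have h1 := hC q
    simp only [Nat.add_sub_cancel] at h1
    have h2 : a * (q : ℚ) ^ (d' + 1) - C * ((q : ℚ) + 1) ^ d' ≤
        (Module.finrank k (Coh.HH X (CohB1.tensorPow A q) 0) : ℚ) := by
      have := (abs_le.mp h1).1
      linarith
    have h3 : ((q : ℚ) + 1) ^ d' ≤ (2 * (q : ℚ)) ^ d' :=
      pow_le_pow_left₀ (by positivity) (by linarith) _
    have h4 : 2 ^ (d' + 1) * C ≤ a * q := by
      have hqq : (q₀ : ℚ) ≤ q := by exact_mod_cast (by omega : q₀ ≤ q)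
      have := (div_le_iff₀ hapos).mp (hq₀.trans hqq)
      linarith
    have h5 : C * ((q : ℚ) + 1) ^ d' ≤ a / 2 * (q : ℚ) ^ (d' + 1) := by
      calc C * ((q : ℚ) + 1) ^ d' ≤ C * (2 * (q : ℚ)) ^ d' :=
            mul_le_mul_of_nonneg_left h3 hC0
        _ = (2 ^ (d' + 1) * C) / 2 * (q : ℚ) ^ d' := by rw [mul_pow]; ring
        _ ≤ (a * q) / 2 * (q : ℚ) ^ d' := by
            apply mul_le_mul_of_nonneg_right _ (by positivity)
            linarith
        _ = a / 2 * (q : ℚ) ^ (d' + 1) := by ring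
    have h6 : a / 2 * (q : ℚ) ^ (d' + 1) ≤
        (Module.finrank k (Coh.HH X (CohB1.tensorPow A q) 0) : ℚ) := by linarith
    have h7 : (((a / 2 * (q : ℚ) ^ (d' + 1) : ℚ)) : ℝ) ≤
        (((Module.finrank k (Coh.HH X (CohB1.tensorPow A q) 0) : ℚ)) : ℝ) := by
      exact_mod_cast h6
    push_cast at h7 ⊢
    exact h7

end Lower

section Big

variable (k : Type u) [Field k] (X : Scheme.{u}) [X.Over (Spec (CommRingCat.of k))]
  [IsProper (X ↘ Spec (CommRingCat.of k))] [IsIntegral X]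

/-- multiplication by a nonzero section: `h^0(L^n) ≤ h^0(L^{n+r})` if `H^0(L^r) ≠ 0` -/
theorem hh_add_le {L : X.Modules} (hL : PicF.IsInvertible L) (n r : ℕ)
    (hr : Nontrivial (Coh.HH X (CohB1.tensorPow L r) 0)) :
    Module.finrank k (Coh.HH X (CohB1.tensorPow L n) 0) ≤
      Module.finrank k (Coh.HH X (CohB1.tensorPow L (n + r)) 0) := by
  haveI : IsLocallyNoetherian X :=
    LocallyOfFiniteType.isLocallyNoetherian (X ↘ Spec (CommRingCat.of k))
  obtain ⟨w, hw⟩ := Groth.Agent.NegPow.exists_hom_ne_zero _ hr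
  have hLn := isInvertible_tensorPow hL n
  have hLr := isInvertible_tensorPow hL r
  haveI : Mono w := CurveDeg.mono_of_ne_zero TensH8.isInvertible_structureModule hLr w hw
  obtain ⟨j, hj⟩ := exists_mono_mul hLn w
  obtain ⟨e⟩ := TensPowH9.tensorPow_add L n r
  haveI : Mono (j ≫ e.inv) := @mono_comp _ _ _ _ _ j hj e.inv inferInstance
  have hinj : Function.Injective (Canon.HHlin k (j ≫ e.inv) 0) :=
    Groth.Agent.Horrocks.injective_hmap_zero_of_mono (j ≫ e.inv)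
  haveI := ProperFinH9.finite_HH_of_proper k X _
    (ProperFinH9.isCoh_of_isInvertible (isInvertible_tensorPow hL (n + r))) 0
  exact LinearMap.finrank_le_finrank_of_injective hinj

/-- **bigness from Kodaira's decomposition**: if `L^m ≅ A ⊗ E` with `A` ample and `E` effective,
and `H^0(L^n) ≠ 0` for all large `n`, then `h^0(L^n) > c n^d` for all large `n` -/
theorem big_of_sections (d : ℕ) (hdim : topologicalKrullDim X = d) {L : X.Modules}
    (hL : PicF.IsInvertible L) {A A' : X.Modules} (hA : CohB1.IsAmple A)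
    (hA' : PicF.IsInvertible A') (ε : CohB1.tensorMod A A' ≅ Coh.structureModule X)
    (m : ℕ) (hm : 0 < m) (σ : Coh.structureModule X ⟶ CohB1.tensorMod A' (CohB1.tensorPow L m))
    (hσ : σ ≠ 0) (m₁ : ℕ)
    (hm₁ : ∀ n, m₁ ≤ n → Nontrivial (Coh.HH X (CohB1.tensorPow L n) 0)) :
    ∃ c : ℝ, 0 < c ∧ ∀ᶠ n : ℕ in Filter.atTop,
      c * (n : ℝ) ^ d < (Module.finrank k (Coh.HH X (CohB1.tensorPow L n) 0) : ℝ) := by
  obtain ⟨c₀, hc₀, q₀, hq₀⟩ := lower_bound_ample k X d hdim hA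
  have hLm := isInvertible_tensorPow hL m
  have hE : PicF.IsInvertible (CohB1.tensorMod A' (CohB1.tensorPow L m)) :=
    TensH8.isInvertible_tensorMod hA' hLm
  have e1 : CohB1.tensorMod A (CohB1.tensorMod A' (CohB1.tensorPow L m)) ≅
      CohB1.tensorPow L m :=
    (assoc A A' (CohB1.tensorPow L m)).symm ≪≫ mapR ε (CohB1.tensorPow L m) ≪≫
      Groth.Agent.CMMul.unitorL (CohB1.tensorPow L m)
  -- step (ii)
  have hii : ∀ q, Module.finrank k (Coh.HH X (CohB1.tensorPow A q) 0) ≤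
      Module.finrank k (Coh.HH X (CohB1.tensorPow L (m * q)) 0) := by
    intro q
    have h := finrank_HH0_le_of_section k X A hA.1 _ hE σ hσ q
    obtain ⟨e2⟩ := TensPowH9.tensorPow_congr e1 q
    obtain ⟨e3⟩ := TensPowH9.tensorPow_mul L m q
    rw [(Groth.Agent.HypConn.hhEquivOfIso (A := k) (e2 ≪≫ e3) 0).finrank_eq] at h
    exact h
  have hcpos : 0 < c₀ / (2 * (m : ℝ)) ^ d / 2 := by positivity
  refine ⟨c₀ / (2 * (m : ℝ)) ^ d / 2, hcpos, ?_⟩
  filter_upwards [Filter.eventually_ge_atTop (2 * (m₁ + m) + 2 * m * q₀ + 1)] with n hn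
  -- division with remainder
  set q := (n - m₁) / m with hq
  have hmq : m * q ≤ n - m₁ := Nat.mul_div_le (n - m₁) m
  have hmq' : n - m₁ < m * q + m := by
    have := Nat.lt_mul_div_succ (n - m₁) hm
    rw [Nat.mul_succ] at this
    exact this
  set r := n - m * q with hr
  have hnr : n = m * q + r := by omega
  have hrm : m₁ ≤ r := by omega
  have h2mq : n ≤ 2 * (m * q) := by omega
  have hqq : q₀ ≤ q := by
    by_contra hcon
    push Not at hcon
    have : m * q ≤ m * q₀ := Nat.mul_le_mul_left m hcon.le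
    nlinarith
  have h1 := hh_add_le k X hL (m * q) r (hm₁ r hrm)
  rw [← hnr] at h1
  have h2 := hii q
  have h3 := hq₀ q hqq
  have h4 : (Module.finrank k (Coh.HH X (CohB1.tensorPow A q) 0) : ℝ) ≤
      (Module.finrank k (Coh.HH X (CohB1.tensorPow L n) 0) : ℝ) := by
    exact_mod_cast h2.trans h1
  have h5 : (n : ℝ) ≤ 2 * (m : ℝ) * (q : ℝ) := by
    have : ((n : ℕ) : ℝ) ≤ ((2 * (m * q) : ℕ) : ℝ) := by exact_mod_cast h2mq
    push_cast at this
    linarith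
  have hn1 : (1 : ℝ) ≤ n := by exact_mod_cast (by omega : 1 ≤ n)
  have h6 : (n : ℝ) ^ d ≤ (2 * (m : ℝ)) ^ d * (q : ℝ) ^ d := by
    rw [← mul_pow]
    exact pow_le_pow_left₀ (by positivity) h5 _
  have hmpos : (0 : ℝ) < (2 * (m : ℝ)) ^ d := by positivity
  have h7 : c₀ / (2 * (m : ℝ)) ^ d * (n : ℝ) ^ d ≤ c₀ * (q : ℝ) ^ d := by
    rw [div_mul_eq_mul_div, div_le_iff₀ hmpos]
    calc c₀ * (n : ℝ) ^ d ≤ c₀ * ((2 * (m : ℝ)) ^ d * (q : ℝ) ^ d) :=
          mul_le_mul_of_nonneg_left h6 hc₀.le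
      _ = c₀ * (q : ℝ) ^ d * (2 * (m : ℝ)) ^ d := by ring
  have h8 : c₀ / (2 * (m : ℝ)) ^ d / 2 * (n : ℝ) ^ d < c₀ / (2 * (m : ℝ)) ^ d * (n : ℝ) ^ d := by
    apply mul_lt_mul_of_pos_right _ (by positivity)
    exact half_lt_self (by positivity)
  linarith

/-- bigness from frequent maximal growth -/
theorem big_of_freq (H : X.Modules) (hH : CohB1.IsAmple H) (d : ℕ)
    (hdim : topologicalKrullDim X = d) {L : X.Modules} (hL : PicF.IsInvertible L) (c : ℝ)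
    (hc : 0 < c)
    (hfreq : ∃ᶠ n : ℕ in Filter.atTop,
      c * (n : ℝ) ^ d < (Module.finrank k (Coh.HH X (CohB1.tensorPow L n) 0) : ℝ)) :
    (∃ m₁ : ℕ, ∀ n, m₁ ≤ n → Nontrivial (Coh.HH X (CohB1.tensorPow L n) 0)) ∧
    ∃ c' : ℝ, 0 < c' ∧ ∀ᶠ n : ℕ in Filter.atTop,
      c' * (n : ℝ) ^ d < (Module.finrank k (Coh.HH X (CohB1.tensorPow L n) 0) : ℝ) := by
  obtain ⟨m₁, hm₁⟩ := main17587 k X H hH L hL
    (fun A hA => kodaira_mono k X d hdim.le hL c hc hfreq hA)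
  refine ⟨⟨m₁, hm₁⟩, ?_⟩
  obtain ⟨m, φ, hm, hφ⟩ := kodaira_mono k X d hdim.le hL c hc hfreq hH
  haveI := hφ
  obtain ⟨H', hH', ⟨ε⟩⟩ := Groth.Agent.InvTensP.exists_inverse H hH.1
  obtain ⟨σ, hσ⟩ := section_of_mono X (comm H' H ≪≫ ε) φ
  exact big_of_sections k X d hdim hL hH hH' ε m hm σ hσ m₁ hm₁

/-- **S17278** -/
theorem main17278 (A₀ : X.Modules) (hA₀ : CohB1.IsAmple A₀) (d : ℕ)
    (hdim : topologicalKrullDim X = d) (L : X.Modules) (hL : PicF.IsInvertible L) :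
    (∃ c : ℝ, 0 < c ∧ ∀ᶠ n : ℕ in Filter.atTop,
        c * (n : ℝ) ^ d < (Module.finrank k (Coh.HH X (CohB1.tensorPow L n) 0) : ℝ)) ↔
      ∀ (A A' : X.Modules), CohB1.IsAmple A → ClSub.IsInverseOf A' A →
        ∃ m : ℕ, 0 < m ∧ Nontrivial (Coh.HH X (CohB1.tensorMod A' (CohB1.tensorPow L m)) 0) := by
  constructor
  · intro hbig A A' hA hA'
    exact main17278_mp k X d hdim L hL hbig A A' hA hA'
  · intro hyp
    have hbig' : ∀ A : X.Modules, CohB1.IsAmple A →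
        ∃ (m : ℕ) (φ : A ⟶ CohB1.tensorPow L m), 0 < m ∧ Mono φ := by
      intro A hA
      obtain ⟨A', hA', ⟨ε⟩⟩ := Groth.Agent.InvTensP.exists_inverse A hA.1
      obtain ⟨m, hm, hnt⟩ := hyp A A' hA ⟨comm A' A ≪≫ ε⟩
      obtain ⟨σ, hσ⟩ := Groth.Agent.NegPow.exists_hom_ne_zero _ hnt
      obtain ⟨φ, hφ⟩ := mono_of_section X hA.1 hA' (isInvertible_tensorPow hL m) ε σ hσ
      exact ⟨m, φ, hm, hφ⟩
    obtain ⟨m₁, hm₁⟩ := main17587 k X A₀ hA₀ L hL hbig'
    obtain ⟨A₀', hA₀', ⟨ε⟩⟩ := Groth.Agent.InvTensP.exists_inverse A₀ hA₀.1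
    obtain ⟨m, hm, hnt⟩ := hyp A₀ A₀' hA₀ ⟨comm A₀' A₀ ≪≫ ε⟩
    obtain ⟨σ, hσ⟩ := Groth.Agent.NegPow.exists_hom_ne_zero _ hnt
    exact big_of_sections k X d hdim hL hA₀ hA₀' ε m hm σ hσ m₁ hm₁

open scoped ENNReal NNReal in
/-- **S19806** -/
theorem main19806 (hproj : ∃ A : X.Modules, CohB1.IsAmple A) (d : ℕ)
    (hd : topologicalKrullDim X = d) (L : X.Modules) (hL : PicF.IsInvertible L) :
    0 < Filter.liminf (fun m : ℕ =>
        (Module.finrank k (Coh.HH X (CohB1.tensorPow L m) 0) : ℝ≥0∞) / (m : ℝ≥0∞) ^ d)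
        Filter.atTop ↔
      0 < Filter.limsup (fun m : ℕ =>
        (Module.finrank k (Coh.HH X (CohB1.tensorPow L m) 0) : ℝ≥0∞) / (m : ℝ≥0∞) ^ d)
        Filter.atTop := by
  constructor
  · intro h
    exact lt_of_lt_of_le h (Filter.liminf_le_limsup)
  · intro h
    obtain ⟨H, hH⟩ := hproj
    obtain ⟨r, hr0, hr⟩ := ENNReal.lt_iff_exists_nnreal_btwn.mp h
    have hr0' : (0 : ℝ) < r := by exact_mod_cast hr0
    have hf := Filter.frequently_lt_of_lt_limsup (by isBoundedDefault) hr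
    have hfreq : ∃ᶠ n : ℕ in Filter.atTop,
        (r : ℝ) * (n : ℝ) ^ d < (Module.finrank k (Coh.HH X (CohB1.tensorPow L n) 0) : ℝ) := by
      refine (hf.and_eventually (Filter.eventually_ge_atTop 1)).mono ?_
      rintro n ⟨h1, h2⟩
      exact (ennreal_lt_div_iff r _ n d h2).mp h1
    obtain ⟨-, c', hc', hev⟩ := big_of_freq k X H hH d hd hL r hr0' hfreq
    refine lt_of_lt_of_le (ENNReal.ofReal_pos.mpr hc') (Filter.le_liminf_of_le (by isBoundedDefault) ?_)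
    filter_upwards [hev, Filter.eventually_ge_atTop 1] with n h1 h2
    exact (ofReal_le_div_iff c' hc'.le _ n d h2).mpr h1.le

end Big

end Snap9
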