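import Mathlib
import Groth.Prelude
import Groth.Agent.Lib.Snap44_helper9

/-!
# Homogeneity of the volume: `vol(L^a) = a^d vol(L)` (S19805) (helper9).
APPEND-ONLY once landed.
-/

set_option autoImplicit false
universe u
open CategoryTheory CategoryTheory.Limits AlgebraicGeometry Opposite TopologicalSpace TensorProduct

namespace Snap9

open Groth.Agent.TensInv Groth.Agent.Lib.GVanH2 Groth.Agent.ProjFin QcqsLoc QCohExtn GenLocH8 TensH8
  SerreCrit FLFH8

section Seq

open scoped ENNReal NNReal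
open Filter

theorem ennreal_div_eq_ofReal (h n d : ℕ) (hn : 1 ≤ n) :
    (h : ℝ≥0∞) / (n : ℝ≥0∞) ^ d = ENNReal.ofReal ((h : ℝ) / (n : ℝ) ^ d) := by
  have hpos : (0 : ℝ) < (n : ℝ) ^ d := by
    have : (0 : ℝ) < n := by exact_mod_cast (by omega : 0 < n)
    positivity
  rw [ENNReal.ofReal_div_of_pos hpos, ENNReal.ofReal_pow (by positivity), ENNReal.ofReal_natCast,
    ENNReal.ofReal_natCast]

/-- the subsequence of multiples: limsup along multiples is at most the limsup -/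
theorem limsup_mul_le_limsup (u : ℕ → ℝ≥0∞) (a : ℕ) (ha : 0 < a) :
    limsup (fun m => u (a * m)) atTop ≤ limsup u atTop := by
  have h1 : Tendsto (fun m : ℕ => a * m) atTop atTop :=
    tendsto_atTop_atTop.mpr (fun b => ⟨b, fun m hm => le_trans hm (Nat.le_mul_of_pos_left m ha)⟩)
  have h2 := Filter.limsup_comp u (fun m : ℕ => a * m) atTop
  show limsup (u ∘ fun m : ℕ => a * m) atTop ≤ _
  rw [h2]
  exact Filter.limsup_le_limsup_of_le h1

/-- the key comparison -/
theorem limsup_le_limsup_mul (h : ℕ → ℕ) (d a m₁ : ℕ) (ha : 0 < a)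
    (hmono : ∀ n r, m₁ ≤ r → h n ≤ h (n + r)) :
    limsup (fun n : ℕ => (h n : ℝ≥0∞) / (n : ℝ≥0∞) ^ d) atTop ≤
      limsup (fun m : ℕ => (h (a * m) : ℝ≥0∞) / ((a * m : ℕ) : ℝ≥0∞) ^ d) atTop := by
  -- q n := (n + m₁) / a + 1
  set q : ℕ → ℕ := fun n => (n + m₁) / a + 1 with hq
  have hq1 : ∀ n, n + m₁ < a * q n := fun n => by
    have := Nat.lt_mul_div_succ (n + m₁) ha
    simpa [hq, Nat.succ_eq_add_one] using this
  have hq2 : ∀ n, a * q n ≤ n + m₁ + a := fun n => by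
    have := Nat.mul_div_le (n + m₁) a
    simp only [hq]
    rw [Nat.mul_add, Nat.mul_one]
    omega
  set w : ℕ → ℝ≥0∞ := fun m => (h (a * m) : ℝ≥0∞) / ((a * m : ℕ) : ℝ≥0∞) ^ d with hw
  set g : ℕ → ℝ≥0∞ := fun n => ENNReal.ofReal ((((a * q n : ℕ) : ℝ) / (n : ℝ)) ^ d) with hg
  have hqt : Tendsto q atTop atTop := by
    refine tendsto_atTop_atTop.mpr (fun b => ⟨a * b, fun n hn => ?_⟩)
    have h1 := hq1 n
    by_contra hcon
    push Not at hcon
    have : a * q n ≤ a * b := Nat.mul_le_mul_left a hcon.le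
    omega
  have hle : ∀ᶠ n in atTop, (h n : ℝ≥0∞) / (n : ℝ≥0∞) ^ d ≤ ((w ∘ q) * g) n := by
    filter_upwards [eventually_ge_atTop 1] with n hn
    have haq1 : 1 ≤ a * q n := by have := hq1 n; omega
    show _ ≤ w (q n) * g n
    simp only [hw, hg]
    rw [ennreal_div_eq_ofReal _ n d hn, ennreal_div_eq_ofReal _ (a * q n) d haq1,
      ← ENNReal.ofReal_mul (by positivity)]
    apply ENNReal.ofReal_le_ofReal
    have hn0 : (0 : ℝ) < n := by exact_mod_cast (by omega : 0 < n)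
    have haq0 : (0 : ℝ) < ((a * q n : ℕ) : ℝ) := by exact_mod_cast (by omega : 0 < a * q n)
    have hh : (h n : ℝ) ≤ (h (a * q n) : ℝ) := by
      have h1 := hmono n (a * q n - n) (by have := hq1 n; omega)
      have h2 : n + (a * q n - n) = a * q n := by have := hq1 n; omega
      rw [h2] at h1
      exact_mod_cast h1
    rw [div_pow]
    have e : (h (a * q n) : ℝ) / ((a * q n : ℕ) : ℝ) ^ d * (((a * q n : ℕ) : ℝ) ^ d / (n : ℝ) ^ d) =
        (h (a * q n) : ℝ) / (n : ℝ) ^ d := by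
      field_simp
    rw [e]
    exact div_le_div_of_nonneg_right hh (by positivity)
  have hgt : Tendsto g atTop (nhds 1) := by
    have hreal : Tendsto (fun n : ℕ => (((a * q n : ℕ) : ℝ) / (n : ℝ))) atTop (nhds 1) := by
      have hlow : ∀ᶠ n : ℕ in atTop, (1 : ℝ) ≤ ((a * q n : ℕ) : ℝ) / (n : ℝ) := by
        filter_upwards [eventually_ge_atTop 1] with n hn
        have hn0 : (0 : ℝ) < n := by exact_mod_cast (by omega : 0 < n)
        rw [le_div_iff₀ hn0, one_mul]
        exact_mod_cast (by have := hq1 n; omega : n ≤ a * q n)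
      have hup : ∀ᶠ n : ℕ in atTop, ((a * q n : ℕ) : ℝ) / (n : ℝ) ≤ 1 + ((m₁ + a : ℕ) : ℝ) / (n : ℝ) := by
        filter_upwards [eventually_ge_atTop 1] with n hn
        have hn0 : (0 : ℝ) < n := by exact_mod_cast (by omega : 0 < n)
        rw [div_le_iff₀ hn0, add_mul, one_mul, div_mul_cancel₀ _ hn0.ne']
        have := hq2 n
        exact_mod_cast (by omega : a * q n ≤ n + (m₁ + a))
      have hlim : Tendsto (fun n : ℕ => 1 + ((m₁ + a : ℕ) : ℝ) / (n : ℝ)) atTop (nhds 1) := by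
        have := (tendsto_const_div_atTop_nhds_zero_nat (((m₁ + a : ℕ) : ℝ))).const_add 1
        simpa using this
      exact tendsto_of_tendsto_of_tendsto_of_le_of_le' tendsto_const_nhds hlim hlow hup
    have h2 := (hreal.pow d)
    rw [one_pow] at h2
    have h3 := (ENNReal.tendsto_ofReal h2)
    rw [ENNReal.ofReal_one] at h3
    exact h3
  have hg1 : limsup g atTop = 1 := hgt.limsup_eq
  calc limsup (fun n : ℕ => (h n : ℝ≥0∞) / (n : ℝ≥0∞) ^ d) atTop
      ≤ limsup ((w ∘ q) * g) atTop := Filter.limsup_le_limsup hle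
    _ ≤ limsup (w ∘ q) atTop * limsup g atTop :=
        ENNReal.limsup_mul_le' (Or.inr (by rw [hg1]; exact ENNReal.one_ne_top))
          (Or.inr (by rw [hg1]; exact one_ne_zero))
    _ = limsup (w ∘ q) atTop := by rw [hg1, mul_one]
    _ ≤ limsup w atTop := by
        rw [Filter.limsup_comp]
        exact Filter.limsup_le_limsup_of_le hqt

end Seq

section Vol

open scoped ENNReal NNReal

variable (k : Type u) [Field k] (X : Scheme.{u}) [X.Over (Spec (CommRingCat.of k))]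
  [IsProper (X ↘ Spec (CommRingCat.of k))] [IsIntegral X]

/-- **S19805** -/
theorem main19805 (hproj : ∃ A : X.Modules, CohB1.IsAmple A) (d : ℕ)
    (hd : topologicalKrullDim X = d) (L : X.Modules) (hL : PicF.IsInvertible L) (a : ℕ)
    (ha : 0 < a) :
    Filter.limsup (fun m : ℕ =>
        (Module.finrank k (Coh.HH X (CohB1.tensorPow (CohB1.tensorPow L a) m) 0) : ℝ≥0∞) /
          (m : ℝ≥0∞) ^ d) Filter.atTop =
      (a : ℝ≥0∞) ^ d * Filter.limsup (fun m : ℕ =>
        (Module.finrank k (Coh.HH X (CohB1.tensorPow L m) 0) : ℝ≥0∞) / (m : ℝ≥0∞) ^ d)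
        Filter.atTop := by
  set h : ℕ → ℕ := fun n => Module.finrank k (Coh.HH X (CohB1.tensorPow L n) 0) with hh
  set u : ℕ → ℝ≥0∞ := fun n => (h n : ℝ≥0∞) / (n : ℝ≥0∞) ^ d with hu
  have ha0 : ((a : ℝ≥0∞) ^ d) ≠ 0 := by
    apply pow_ne_zero
    exact_mod_cast (by omega : a ≠ 0)
  have hat : ((a : ℝ≥0∞) ^ d) ≠ ⊤ := ENNReal.pow_ne_top (ENNReal.natCast_ne_top a)
  -- step 1 and 2: rewrite the left-hand side
  have h1 : ∀ m : ℕ, (Module.finrank k
      (Coh.HH X (CohB1.tensorPow (CohB1.tensorPow L a) m) 0) : ℝ≥0∞) / (m : ℝ≥0∞) ^ d =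
      (a : ℝ≥0∞) ^ d * u (a * m) := by
    intro m
    obtain ⟨e⟩ := TensPowH9.tensorPow_mul L a m
    rw [(Groth.Agent.HypConn.hhEquivOfIso (A := k) e 0).finrank_eq]
    show (h (a * m) : ℝ≥0∞) / (m : ℝ≥0∞) ^ d =
      (a : ℝ≥0∞) ^ d * ((h (a * m) : ℝ≥0∞) / ((a * m : ℕ) : ℝ≥0∞) ^ d)
    rw [Nat.cast_mul, mul_pow, ← mul_div_assoc, ENNReal.mul_div_mul_left _ _ ha0 hat]
  simp_rw [h1]
  rw [ENNReal.limsup_const_mul_of_ne_top hat]
  congr 1
  -- step 4
  apply le_antisymm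
  · exact limsup_mul_le_limsup u a ha
  · by_cases hpos : 0 < Filter.limsup u Filter.atTop
    swap
    · rw [not_lt, nonpos_iff_eq_zero] at hpos
      rw [hpos]
      exact bot_le
    obtain ⟨H, hH⟩ := hproj
    obtain ⟨r, hr0, hr⟩ := ENNReal.lt_iff_exists_nnreal_btwn.mp hpos
    have hr0' : (0 : ℝ) < r := by exact_mod_cast hr0
    have hf := Filter.frequently_lt_of_lt_limsup (by isBoundedDefault) hr
    have hfreq : ∃ᶠ n : ℕ in Filter.atTop, (r : ℝ) * (n : ℝ) ^ d < (h n : ℝ) := by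
      refine (hf.and_eventually (Filter.eventually_ge_atTop 1)).mono ?_
      rintro n ⟨h1, h2⟩
      exact (ennreal_lt_div_iff r _ n d h2).mp h1
    obtain ⟨⟨m₁, hm₁⟩, -⟩ := big_of_freq k X H hH d hd hL r hr0' hfreq
    exact limsup_le_limsup_mul h d a m₁ ha (fun n r hr => hh_add_le k X hL n r (hm₁ r hr))

end Vol

end Snap9
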