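import Mathlib
import Groth.Prelude
import Groth.Agent.Lib.Snap44_helper9

/-!
# Big invertible modules: further characterisations (S16901, S17586) (helper9).
APPEND-ONLY once landed.
-/

set_option autoImplicit false
universe u
open CategoryTheory CategoryTheory.Limits AlgebraicGeometry Opposite TopologicalSpace TensorProduct

namespace Snap9

open Groth.Agent.TensInv Groth.Agent.Lib.GVanH2 Groth.Agent.ProjFin QcqsLoc QCohExtn GenLocH8 TensH8
  SerreCrit FLFH8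

section Big2

variable (k : Type u) [Field k] (X : Scheme.{u}) [X.Over (Spec (CommRingCat.of k))]
  [IsProper (X ↘ Spec (CommRingCat.of k))] [IsIntegral X]

/-- a monomorphism `A ⟶ L^m` bounds the sections of the powers of `A` by those of the powers of
`L` -/
theorem hh_pow_le_of_mono {L : X.Modules} (hL : PicF.IsInvertible L) {A : X.Modules}
    (hA : PicF.IsInvertible A) (m : ℕ) (φ : A ⟶ CohB1.tensorPow L m) [Mono φ] (q : ℕ) :
    Module.finrank k (Coh.HH X (CohB1.tensorPow A q) 0) ≤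
      Module.finrank k (Coh.HH X (CohB1.tensorPow L (m * q)) 0) := by
  obtain ⟨A', hA', ⟨ε⟩⟩ := Groth.Agent.InvTensP.exists_inverse A hA
  obtain ⟨σ, hσ⟩ := section_of_mono X (comm A' A ≪≫ ε) φ
  have hLm := isInvertible_tensorPow hL m
  have hE : PicF.IsInvertible (CohB1.tensorMod A' (CohB1.tensorPow L m)) :=
    TensH8.isInvertible_tensorMod hA' hLm
  have e1 : CohB1.tensorMod A (CohB1.tensorMod A' (CohB1.tensorPow L m)) ≅
      CohB1.tensorPow L m :=
    (assoc A A' (CohB1.tensorPow L m)).symm ≪≫ mapR ε (CohB1.tensorPow L m) ≪≫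
      Groth.Agent.CMMul.unitorL (CohB1.tensorPow L m)
  have h := finrank_HH0_le_of_section k X A hA _ hE σ hσ q
  obtain ⟨e2⟩ := TensPowH9.tensorPow_congr e1 q
  obtain ⟨e3⟩ := TensPowH9.tensorPow_mul L m q
  rw [(Groth.Agent.HypConn.hhEquivOfIso (A := k) (e2 ≪≫ e3) 0).finrank_eq] at h
  exact h

/-- **S16901** -/
theorem main16901 (n : ℕ) (hn : topologicalKrullDim X = n) (H : X.Modules)
    (hH : CohB1.IsAmple H) (L : X.Modules) (hL : PicF.IsInvertible L) :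
    (∃ ν a : ℕ, 0 < ν ∧ 0 < a ∧ ∀ μ : ℕ, 1 ≤ μ →
        μ ^ n ≤ a * Module.finrank k (Coh.HH X (CohB1.tensorPow L (ν * μ)) 0)) ↔
      ∃ (ν : ℕ) (A : X.Modules) (φ : A ⟶ CohB1.tensorPow L ν),
        0 < ν ∧ CohB1.IsAmple A ∧ Mono φ := by
  constructor
  · rintro ⟨ν, a, hν, ha, hgrow⟩
    have hM := isInvertible_tensorPow hL ν
    have hapos : (0 : ℝ) < a := by exact_mod_cast ha
    have hc : (0 : ℝ) < 1 / (2 * (a : ℝ)) := by positivity
    have hfreq : ∃ᶠ μ : ℕ in Filter.atTop, 1 / (2 * (a : ℝ)) * (μ : ℝ) ^ n <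
        (Module.finrank k (Coh.HH X (CohB1.tensorPow (CohB1.tensorPow L ν) μ) 0) : ℝ) := by
      apply Filter.Eventually.frequently
      filter_upwards [Filter.eventually_ge_atTop 1] with μ hμ
      obtain ⟨e3⟩ := TensPowH9.tensorPow_mul L ν μ
      rw [(Groth.Agent.HypConn.hhEquivOfIso (A := k) e3 0).finrank_eq]
      have h1 := hgrow μ hμ
      have h2 : ((μ : ℝ)) ^ n ≤ (a : ℝ) *
          (Module.finrank k (Coh.HH X (CohB1.tensorPow L (ν * μ)) 0) : ℝ) := by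
        exact_mod_cast h1
      have hμpos : (0 : ℝ) < (μ : ℝ) ^ n := by
        have : (0 : ℝ) < μ := by exact_mod_cast (by omega : 0 < μ)
        positivity
      rw [div_mul_eq_mul_div, one_mul, div_lt_iff₀ (by positivity)]
      nlinarith
    obtain ⟨m, φ, hm, hφ⟩ := kodaira_mono k X n hn.le hM _ hc hfreq hH
    obtain ⟨e3⟩ := TensPowH9.tensorPow_mul L ν m
    exact ⟨ν * m, H, φ ≫ e3.hom, Nat.mul_pos hν hm, hH,
      @mono_comp _ _ _ _ _ φ hφ e3.hom inferInstance⟩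
  · rintro ⟨ν, A, φ, hν, hA, hφ⟩
    haveI := hφ
    obtain ⟨c₀, hc₀, q₀, hq₀⟩ := lower_bound_ample k X n hn hA
    obtain ⟨a, ha⟩ := exists_nat_ge (1 / c₀)
    refine ⟨ν * (q₀ + 1), a + 1, Nat.mul_pos hν (Nat.succ_pos _), Nat.succ_pos _, fun μ hμ => ?_⟩
    have h1 := hh_pow_le_of_mono k X hL hA.1 ν φ ((q₀ + 1) * μ)
    have h2 := hq₀ ((q₀ + 1) * μ) (by nlinarith)
    rw [mul_assoc]
    have h3 : (Module.finrank k (Coh.HH X (CohB1.tensorPow A ((q₀ + 1) * μ)) 0) : ℝ) ≤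
        (Module.finrank k (Coh.HH X (CohB1.tensorPow L (ν * ((q₀ + 1) * μ))) 0) : ℝ) := by
      exact_mod_cast h1
    have h4 : ((μ : ℝ)) ^ n ≤ ((((q₀ + 1) * μ : ℕ)) : ℝ) ^ n := by
      apply pow_le_pow_left₀ (by positivity)
      push_cast
      have : (0 : ℝ) ≤ (q₀ : ℝ) * μ := by positivity
      nlinarith
    have h5 : (1 : ℝ) ≤ ((a + 1 : ℕ) : ℝ) * c₀ := by
      have := (div_le_iff₀ hc₀).mp ha
      push_cast
      nlinarith
    have h6 : ((μ : ℝ)) ^ n ≤ ((a + 1 : ℕ) : ℝ) *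
        (Module.finrank k (Coh.HH X (CohB1.tensorPow L (ν * ((q₀ + 1) * μ))) 0) : ℝ) := by
      have h7 : c₀ * (μ : ℝ) ^ n ≤
          (Module.finrank k (Coh.HH X (CohB1.tensorPow L (ν * ((q₀ + 1) * μ))) 0) : ℝ) :=
        (mul_le_mul_of_nonneg_left h4 hc₀.le).trans (h2.trans h3)
      have hμ0 : (0 : ℝ) ≤ (μ : ℝ) ^ n := by positivity
      have ha0 : (0 : ℝ) ≤ ((a + 1 : ℕ) : ℝ) := by positivity
      calc ((μ : ℝ)) ^ n ≤ (((a + 1 : ℕ) : ℝ) * c₀) * (μ : ℝ) ^ n := by nlinarith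
        _ = ((a + 1 : ℕ) : ℝ) * (c₀ * (μ : ℝ) ^ n) := by ring
        _ ≤ _ := mul_le_mul_of_nonneg_left h7 ha0
    exact_mod_cast h6

/-- **S17586** (over any field) -/
theorem main17586 (H : X.Modules) (hH : CohB1.IsAmple H) (n : ℕ)
    (hn : topologicalKrullDim X = n) (L : X.Modules) (hL : PicF.IsInvertible L) :
    (∀ A : X.Modules, CohB1.IsAmple A →
        ∃ (m : ℕ) (φ : A ⟶ CohB1.tensorPow L m), 0 < m ∧ Mono φ) ↔
      ∃ C : ℝ, 0 < C ∧ ∃ m₁ : ℕ, ∀ m : ℕ, m₁ ≤ m →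
        C * (m : ℝ) ^ n ≤ (Module.finrank k (Coh.HH X (CohB1.tensorPow L m) 0) : ℝ) := by
  constructor
  · intro hbig
    obtain ⟨m₁, hm₁⟩ := main17587 k X H hH L hL hbig
    obtain ⟨m, φ, hm, hφ⟩ := hbig H hH
    haveI := hφ
    obtain ⟨H', hH', ⟨ε⟩⟩ := Groth.Agent.InvTensP.exists_inverse H hH.1
    obtain ⟨σ, hσ⟩ := section_of_mono X (comm H' H ≪≫ ε) φ
    obtain ⟨c, hc, hev⟩ := big_of_sections k X n hn hL hH hH' ε m hm σ hσ m₁ hm₁
    obtain ⟨m₂, hm₂⟩ := Filter.eventually_atTop.mp hev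
    exact ⟨c, hc, m₂, fun m hm => (hm₂ m hm).le⟩
  · rintro ⟨C, hC, m₁, hgrow⟩ A hA
    have hc : (0 : ℝ) < C / 2 := by positivity
    have hfreq : ∃ᶠ μ : ℕ in Filter.atTop, C / 2 * (μ : ℝ) ^ n <
        (Module.finrank k (Coh.HH X (CohB1.tensorPow L μ) 0) : ℝ) := by
      apply Filter.Eventually.frequently
      filter_upwards [Filter.eventually_ge_atTop (m₁ + 1)] with μ hμ
      have h1 := hgrow μ (by omega)
      have hμpos : (0 : ℝ) < (μ : ℝ) ^ n := by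
        have : (0 : ℝ) < μ := by exact_mod_cast (by omega : 0 < μ)
        positivity
      nlinarith
    exact kodaira_mono k X n hn.le hL _ hc hfreq hA

end Big2

end Snap9
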