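import Mathlib
import Groth.Prelude
import Groth.Agent.Lib.Snap47_helper9

/-!
# Genus zero curves: nonnegative degrees give global generation and no `H¹` (S14092) (helper9).
APPEND-ONLY once landed.
-/

set_option autoImplicit false
universe u
open CategoryTheory CategoryTheory.Limits AlgebraicGeometry Opposite TopologicalSpace TensorProduct

namespace Snap9

open Groth.Agent.TensInv Groth.Agent.Lib.GVanH2 Groth.Agent.ProjFin QcqsLoc QCohExtn GenLocH8 TensH8
  SerreCrit FLFH8

section Rat2

variable (k : Type u) [Field k] (X : Scheme.{u}) [X.Over (Spec (CommRingCat.of k))]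
  [IsProper (X ↘ Spec (CommRingCat.of k))]

/-- nefness in the degree form (dimension of the support) implies the sign condition on closures
of points -/
theorem css_nonpos_of_deg_nonneg' (L : X.Modules) (hL : PicF.IsInvertible L)
    (hnef : ∀ C : X.IdealSheafData, IsIntegral C.subscheme →
      topologicalKrullDim (C.support : Set X) = 1 →
      0 ≤ @Curv2.deg k _ C.subscheme ⟨C.subschemeι ≫ (X ↘ Spec (CommRingCat.of k))⟩
        ((Scheme.Modules.pullback C.subschemeι).obj L) 1)
    (ξ : X) (hξ : topologicalKrullDim (closure ({ξ} : Set X)) = ((1 : ℕ) : WithBot ℕ∞)) :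
    altSum k X [L] (Cyc.closureStructureSheaf ξ) ≤ 0 := by
  apply css_nonpos_of_deg_nonneg k X L hL _ ξ hξ
  intro J hJ hdimJ
  apply hnef J hJ
  have hemb := J.subschemeι.isClosedEmbedding
  have hr : Set.range J.subschemeι = (J.support : Set X) := J.range_subschemeι
  rw [← hr, ← (hemb.isEmbedding.toHomeomorph).isHomeomorph.topologicalKrullDim_eq]
  exact hdimJ

/-- **S14092** -/
theorem main14092 (hdim : topologicalKrullDim X = 1) (hg : Curv2.genus k X = 0)
    (L : X.Modules) (hL : PicF.IsInvertible L)
    (hdeg : ∀ C : X.IdealSheafData, IsIntegral C.subscheme →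
      topologicalKrullDim (C.support : Set X) = 1 →
      0 ≤ @Curv2.deg k _ C.subscheme ⟨C.subschemeι ≫ (X ↘ Spec (CommRingCat.of k))⟩
        ((Scheme.Modules.pullback C.subschemeι).obj L) 1) :
    Curv2.IsGloballyGenerated L ∧ Subsingleton (Coh.HH X L 1) := by
  haveI : IsLocallyNoetherian X :=
    LocallyOfFiniteType.isLocallyNoetherian (X ↘ Spec (CommRingCat.of k))
  haveI := ProperFinH9.finite_HH_of_proper k X _ (CohDevH8.isCoh_structureModule X) 1
  have h1 : Subsingleton (Coh.HH X (Coh.structureModule X) 1) :=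
    Module.finrank_zero_iff.mp hg
  have hLc := ProperFinH9.isCoh_of_isInvertible hL
  obtain ⟨h, hje⟩ := rat_core k X hdim.le h1 L hL (css_nonpos_of_deg_nonneg' k X L hL hdeg) _ L hLc
    (𝟙 L) inferInstance rfl
  exact ⟨NodalG0.gg_of_jointlyEpi hje, h⟩

end Rat2

end Snap9
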