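import Mathlib
import Groth.Prelude
import Groth.Agent.Lib.Snap64_helper9
import Groth.Agent.Lib.CurveVan1_helper9
import Groth.Agent.Lib.QCohExact_helper9

/-!
# Sixth power of an ample module with a regular section and `H¹ = 0` on a proper curve is very
ample (helper9)

APPEND-ONLY once landed.
-/

set_option autoImplicit false
universe u
open CategoryTheory CategoryTheory.Limits AlgebraicGeometry Opposite TopologicalSpace

namespace Snap9

open Kosz QcqsLoc QCohExtn GenLocH8 TensH8 FLFH8 CohB1 SerreCrit CurveAmple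

section Loc

variable {X : Scheme.{u}}

/-- the cokernel of multiplication by a section vanishes over the locus of the section -/
theorem section_zero_of_le_genLocus {L : X.Modules} (s : Coh.structureModule X ⟶ L)
    (N : X.Modules) {W : X.Opens} (hW : W ≤ CohB1.genLocus L s)
    (t : Γ(cokernel (mulSec N L s), W)) : t = 0 := by
  apply eq_zero_of_cover (cokernel (mulSec N L s)) t
  intro y hy
  obtain ⟨V, hV, hyV, q, hq⟩ := EpiLoc.exists_local_lift (cokernel.π (mulSec N L s)) t hy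
  refine ⟨V, hV, hyV, ?_⟩
  have he : IsGen L V (SecTwist.val s V) := isGen_val_of_le_genLocus s (hV.trans hW)
  obtain ⟨m, hm⟩ := tmulGen_surjective N L he le_rfl q
  rw [SubExt.rF_self] at hm
  have h1 : ap (mulSec N L s) V m = q := (ap_mulSec N L s V m).trans hm
  have h2 : ap (cokernel.π (mulSec N L s)) V (ap (mulSec N L s) V m) = 0 :=
    congrArg (fun χ => (χ.app V).hom m) (cokernel.condition (mulSec N L s))
  have h3 : rF (cokernel (mulSec N L s)) hV t = ap (cokernel.π (mulSec N L s)) V q := hq.symm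
  rw [h3, ← h1]
  exact h2

/-- the stalks of the cokernel of multiplication by a section vanish on the locus -/
theorem subsingleton_stalk_cokernel_mulSec {L : X.Modules} (s : Coh.structureModule X ⟶ L)
    (N : X.Modules) (x : X) (hx : x ∈ CohB1.genLocus L s) :
    Subsingleton ((cokernel (mulSec N L s)).presheaf.stalk x) := by
  apply CurveVan.subsingleton_stalk_of_locally_zero
  intro V hxV t
  refine ⟨V ⊓ CohB1.genLocus L s, inf_le_left, ⟨hxV, hx⟩, ?_⟩
  exact section_zero_of_le_genLocus s N inf_le_right _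

/-- a point off the locus of a regular section of an invertible module on a scheme of dimension
at most one is closed -/
theorem isClosed_singleton_of_notMem_genLocus (hdim : topologicalKrullDim X ≤ 1)
    {L : X.Modules} (hL : PicF.IsInvertible L) (s : Coh.structureModule X ⟶ L) [Mono s]
    (x : X) (hx : x ∉ CohB1.genLocus L s) : IsClosed ({x} : Set X) := by
  rcases CurveH8.isMin_or_isMax hdim x with h | h
  · exact CurveH8.isClosed_singleton_of_isMin h
  · exfalso
    obtain ⟨W, hW, hxW, e, he⟩ := exists_isGen hL x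
    obtain ⟨a, ha⟩ := he.exists_coef (SecTwist.val s W)
    have hxa : x ∉ X.basicOpen a := by
      intro hxa
      apply hx
      have h1 := genLocus_inf_eq s he a ha
      rw [← h1] at hxa
      exact hxa.1
    -- the prime of `x`
    obtain ⟨𝔭, h𝔭⟩ : ∃ 𝔭 : PrimeSpectrum Γ(X, W), 𝔭 = hW.primeIdealOf ⟨x, hxW⟩ := ⟨_, rfl⟩
    have hfx : hW.fromSpec 𝔭 = x := by rw [h𝔭]; exact hW.fromSpec_primeIdealOf ⟨x, hxW⟩
    have ha𝔭 : a ∈ 𝔭.asIdeal := by
      by_contra hn
      apply hxa
      have h1 : 𝔭 ∈ PrimeSpectrum.basicOpen a := hn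
      rw [← hW.fromSpec_preimage_basicOpen a] at h1
      have h2 : hW.fromSpec 𝔭 ∈ X.basicOpen a := h1
      rwa [hfx] at h2
    obtain ⟨𝔮, h𝔮min, h𝔮le⟩ := Ideal.exists_minimalPrimes_le (bot_le : (⊥ : Ideal Γ(X, W)) ≤ 𝔭.asIdeal)
    haveI h𝔮p : 𝔮.IsPrime := h𝔮min.1.1
    have hspec : (⟨𝔮, h𝔮p⟩ : PrimeSpectrum Γ(X, W)) ⤳ 𝔭 :=
      (PrimeSpectrum.le_iff_specializes _ _).mp h𝔮le
    have hspec' : hW.fromSpec ⟨𝔮, h𝔮p⟩ ⤳ hW.fromSpec 𝔭 := hspec.map hW.fromSpec.continuous
    rw [hfx] at hspec'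
    have h3 : x ⤳ hW.fromSpec ⟨𝔮, h𝔮p⟩ := h (show x ≤ hW.fromSpec ⟨𝔮, h𝔮p⟩ from hspec')
    have h4 : hW.fromSpec ⟨𝔮, h𝔮p⟩ = x := (hspec'.antisymm h3).eq
    have h5 : (⟨𝔮, h𝔮p⟩ : PrimeSpectrum Γ(X, W)) = 𝔭 :=
      hW.fromSpec.isOpenEmbedding.injective (h4.trans hfx.symm)
    have h𝔭min : 𝔭.asIdeal ∈ minimalPrimes Γ(X, W) := by
      rw [← h5]
      exact h𝔮min
    have hnz := notMem_nonZeroDivisors_of_mem_mem_minimalPrimes ha𝔭 h𝔭min
    rw [mem_nonZeroDivisors_iff_right] at hnz
    push Not at hnz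
    obtain ⟨b, hba, hb⟩ := hnz
    -- `b • s = 0`
    have h6 : ap s W (toM b) = ap s W 0 := by
      rw [map_zero]
      have e1 : b • (toM (1 : Γ(X, W))) = toM (b * 1) := rfl
      have e2 : (toM b : Γ(Coh.structureModule X, W)) = b • (toM (1 : Γ(X, W))) := by
        rw [e1, mul_one]
      have h7 : ap s W (toM b) = b • SecTwist.val s W :=
        (congrArg (ap s W) e2).trans (ap_smul s b (toM (1 : Γ(X, W))))
      refine h7.trans ((congrArg (fun q => b • q) ha).trans ((smul_smul b a e).trans ?_))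
      rw [hba, zero_smul]
    exact hb (QCohExact.app_injective_of_mono s W h6)

end Loc

section Coh

variable {X : Scheme.{u}} [IsLocallyNoetherian X]

/-- the cokernel of multiplication by a regular section on a scheme of dimension at most one has
no higher cohomology -/
theorem HH_cokernel_mulSec (hdim : topologicalKrullDim X ≤ 1)
    {L : X.Modules} (hL : PicF.IsInvertible L) (s : Coh.structureModule X ⟶ L) [Mono s]
    (N : X.Modules) (n : ℕ) : Subsingleton (Coh.HH X (cokernel (mulSec N L s)) (n + 1)) :=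
  CurveVan.HH_subsingleton_of_stalks _ ((CohB1.genLocus L s : Set X)ᶜ)
    (fun x hx => subsingleton_stalk_cokernel_mulSec s N x (not_not.mp hx))
    (fun T hT => ZeroDimAcyc.isClosed_of_subset X _ (CohB1.genLocus L s).isOpen.isClosed_compl
      (fun z hz => isClosed_singleton_of_notMem_genLocus hdim hL s z hz) T hT) n

/-- `H¹(N) = 0` implies `H¹(N ⊗ L) = 0` when `L` has a regular section (dimension at most one,
`H²` vanishing on coherent modules) -/
theorem HH1_tensorMod_of_section (hdim : topologicalKrullDim X ≤ 1)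
    (hH2 : ∀ M : X.Modules, Coh.IsCoh M → Subsingleton (Coh.HH X M 2))
    {L : X.Modules} (hL : PicF.IsInvertible L) (s : Coh.structureModule X ⟶ L) [Mono s]
    (N : X.Modules) (hN : Coh.IsCoh N) (hN1 : Subsingleton (Coh.HH X N 1)) :
    Subsingleton (Coh.HH X (CohB1.tensorMod N L) 1) := by
  have hNL : Coh.IsCoh (CohB1.tensorMod N L) :=
    RelAmpleVanH9.isCoh_tensorMod hN (ProperFinH9.isCoh_of_isInvertible hL)
  have hK := hH2 _ (CohKerH8.isCoh_kernel hN hNL (mulSec N L s))
  have hC := HH_cokernel_mulSec hdim hL s N 0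
  exact (CurveAmple.hmap_surjective_of_kernel_cokernel (mulSec N L s) 1 hK hC).subsingleton

set_option maxHeartbeats 800000 in
/-- **a section of `N ⊗ L` generating at a point off the locus of the regular section `s` of `L`**,
when `H¹(N) = 0` -/
theorem exists_section_mem_genLocus (hdim : topologicalKrullDim X ≤ 1)
    (hH2 : ∀ M : X.Modules, Coh.IsCoh M → Subsingleton (Coh.HH X M 2))
    {L : X.Modules} (hL : PicF.IsInvertible L) (s : Coh.structureModule X ⟶ L) [Mono s]
    {N : X.Modules} (hNi : PicF.IsInvertible N) (hN1 : Subsingleton (Coh.HH X N 1))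
    (x : X) (hx : x ∉ CohB1.genLocus L s) :
    ∃ σ : Coh.structureModule X ⟶ CohB1.tensorMod N L,
      x ∈ CohB1.genLocus (CohB1.tensorMod N L) σ := by
  have hNc := ProperFinH9.isCoh_of_isInvertible hNi
  have hNL : Coh.IsCoh (CohB1.tensorMod N L) :=
    RelAmpleVanH9.isCoh_tensorMod hNc (ProperFinH9.isCoh_of_isInvertible hL)
  obtain ⟨μ, hμ⟩ : ∃ μ : N ⟶ CohB1.tensorMod N L, μ = mulSec N L s := ⟨_, rfl⟩
  have hCc : Coh.IsCoh (cokernel μ) := CohKerH8.isCoh_cokernel hNc hNL μ
  have hIc : Coh.IsCoh (kernel (cokernel.π μ)) := CohKerH8.isCoh_kernel hNL hCc _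
  -- surjectivity on global sections
  let S : ShortComplex X.Modules :=
    ShortComplex.mk (kernel.ι (cokernel.π μ)) (cokernel.π μ) (kernel.condition _)
  have hS : S.ShortExact := ShortComplex.ShortExact.mk' (ShortComplex.exact_kernel _)
    (inferInstanceAs (Mono (kernel.ι (cokernel.π μ))))
    (inferInstanceAs (Epi (cokernel.π μ)))
  have hI1 : Subsingleton (Coh.HH X (kernel (cokernel.π μ)) 1) :=
    HH1_of_epi_of_H2 hH2 hNc hIc (Abelian.factorThruImage μ) hN1
  have hsurj : Function.Surjective (ap (cokernel.π μ) ⊤) := sections_surjective_of_H1 S hS hI1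
  -- the opens
  have hxcl : IsClosed ({x} : Set X) := isClosed_singleton_of_notMem_genLocus hdim hL s x hx
  obtain ⟨U, hxU, n₀, e, hn₀, he⟩ := exists_isGen₂ hNi hL x
  have hZ'cl : IsClosed ((CohB1.genLocus L s : Set X)ᶜ \ {x}) :=
    ZeroDimAcyc.isClosed_of_subset X _ (CohB1.genLocus L s).isOpen.isClosed_compl
      (fun z hz => isClosed_singleton_of_notMem_genLocus hdim hL s z hz) _ Set.diff_subset
  obtain ⟨U', hU'⟩ : ∃ U' : X.Opens,
      U' = U ⊓ ⟨((CohB1.genLocus L s : Set X)ᶜ \ {x})ᶜ, hZ'cl.isOpen_compl⟩ := ⟨_, rfl⟩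
  obtain ⟨U₂, hU₂⟩ : ∃ U₂ : X.Opens, U₂ = ⟨({x} : Set X)ᶜ, hxcl.isOpen_compl⟩ := ⟨_, rfl⟩
  have hU'U : U' ≤ U := hU' ▸ inf_le_left
  have hxU' : x ∈ U' := by
    rw [hU']
    exact ⟨hxU, fun h => h.2 rfl⟩
  have hinter : U' ⊓ U₂ ≤ CohB1.genLocus L s := by
    rintro z ⟨hz1, hz2⟩
    rw [hU'] at hz1
    rw [hU₂] at hz2
    by_contra hzs
    exact hz1.2 ⟨hzs, hz2⟩
  have hcov : (⊤ : X.Opens) ≤ U' ⊔ U₂ := by
    intro y _
    by_cases hy : y = x
    · exact Or.inl (hy ▸ hxU')
    · exact Or.inr (by rw [hU₂]; exact hy)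
  obtain ⟨g, hgdef⟩ : ∃ g : Γ(CohB1.tensorMod N L, U'),
      g = SecTwist.tmul N L U' (rF N hU'U n₀) (rF L hU'U e) := ⟨_, rfl⟩
  have hg : IsGen (CohB1.tensorMod N L) U' g :=
    hgdef ▸ isGen_tmul (hn₀.res hU'U) (he.res hU'U)
  obtain ⟨c, hcU, -⟩ := glue₂_mod (cokernel μ) (le_top : U' ≤ ⊤) (le_top : U₂ ≤ ⊤) hcov
    (ap (cokernel.π μ) U' g) 0 (by
      subst hμ
      rw [section_zero_of_le_genLocus s N hinter
        (rF (cokernel (mulSec N L s)) (inf_le_left : U' ⊓ U₂ ≤ U') _),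
        section_zero_of_le_genLocus s N hinter
        (rF (cokernel (mulSec N L s)) (inf_le_right : U' ⊓ U₂ ≤ U₂) 0)])
  obtain ⟨b₀, hb₀⟩ := hsurj c
  refine ⟨homOfSec _ b₀, ?_⟩
  obtain ⟨κ, hκ⟩ := hg.exists_coef (rF (CohB1.tensorMod N L) (le_top : U' ≤ ⊤) b₀)
  have h1 := genLocus_inf_eq (homOfSec _ b₀) hg κ ((val_homOfSec _ b₀ U').trans hκ)
  by_contra hxσ
  have hxκ : x ∉ X.basicOpen κ := by
    intro h
    rw [← h1] at h
    exact hxσ h.1
  -- `π ((1 - κ) • g) = 0`
  have h2 : ap (cokernel.π μ) U' (rF (CohB1.tensorMod N L) (le_top : U' ≤ ⊤) b₀) =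
      ap (cokernel.π μ) U' g := by
    rw [ap_rF, hb₀]
    exact hcU
  have h3 : ap (cokernel.π μ) U' ((1 - κ) • g) = 0 := by
    have e1 : (1 - κ) • g = g - κ • g := by rw [sub_smul, one_smul]
    rw [e1, map_sub, ← hκ, h2, sub_self]
  obtain ⟨y, hy⟩ := QCohExact.app_exact S hS.exact U' ((1 - κ) • g) h3
  have hy' : ap (kernel.ι (cokernel.π μ)) U' y = (1 - κ) • g := hy
  obtain ⟨V, hV, hxV, m, hm⟩ := EpiLoc.exists_local_lift (Abelian.factorThruImage μ) y hxU'
  have hm' : ap (Abelian.factorThruImage μ) V m = rF (kernel (cokernel.π μ)) hV y := hm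
  have hVU : V ≤ U := hV.trans hU'U
  -- `μ m = (1 - κ) • g` on `V`
  have h4 : ap μ V m = rF (CohB1.tensorMod N L) hV ((1 - κ) • g) := by
    have e1 : ap μ V m = ap (kernel.ι (cokernel.π μ)) V (ap (Abelian.factorThruImage μ) V m) := by
      have := congrArg (fun χ => ap χ V m) (Abelian.image.fac μ)
      exact this.symm
    rw [e1, hm', ap_rF, hy']
  obtain ⟨β, hβ⟩ := (hn₀.res hVU).exists_coef m
  obtain ⟨α, hα⟩ := (he.res hVU).exists_coef (SecTwist.val s V)
  have hxα : x ∉ X.basicOpen α := by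
    intro h
    have h5 := genLocus_inf_eq s (he.res hVU) α hα
    rw [← h5] at h
    exact hx h.1
  have hgV : IsGen (CohB1.tensorMod N L) V (SecTwist.tmul N L V (rF N hVU n₀) (rF L hVU e)) :=
    isGen_tmul (hn₀.res hVU) (he.res hVU)
  have h6 : ap μ V m = (β * α) • SecTwist.tmul N L V (rF N hVU n₀) (rF L hVU e) := by
    subst hμ
    refine (ap_mulSec N L s V m).trans ?_
    refine (tmul_congr N L V hβ hα).trans ?_
    refine (tmul_smul_left N L V β _ _).trans ?_
    refine (congrArg (fun q => β • q) (tmul_smul_right N L V α _ _)).trans ?_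
    exact smul_smul β α _
  have h7 : rF (CohB1.tensorMod N L) hV ((1 - κ) • g) =
      (1 - rX hV κ) • SecTwist.tmul N L V (rF N hVU n₀) (rF L hVU e) := by
    rw [rF_smul, hgdef, rF_tmul, rF_rF, rF_rF, map_sub, map_one]
    rfl
  have h8 : β * α = 1 - rX hV κ := IsGen.coef_ext hgV (h6.symm.trans (h4.trans h7))
  have h9 : (1 : Γ(X, V)) = rX hV κ + β * α := by rw [h8]; ring
  have hx1 : x ∈ X.basicOpen (1 : Γ(X, V)) := by
    rw [Scheme.basicOpen_of_isUnit X isUnit_one]
    exact hxV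
  rw [h9] at hx1
  rcases X.basicOpen_add_le _ _ hx1 with h | h
  · have h10 : X.basicOpen (rX hV κ) = V ⊓ X.basicOpen κ := Scheme.basicOpen_res X κ (homOfLE hV).op
    rw [h10] at h
    exact hxκ h.2
  · rw [Scheme.basicOpen_mul] at h
    exact hxα h.2

end Coh

section GGpt

variable {X : Scheme.{u}}

/-- a module generated at every point by some global section is globally generated -/
theorem gg_of_pointwise {L : X.Modules} (hL : PicF.IsInvertible L)
    (h : ∀ x : X, ∃ σ : Coh.structureModule X ⟶ L, x ∈ CohB1.genLocus L σ) :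
    Curv2.IsGloballyGenerated L := by
  apply NodalG0.gg_of_jointlyEpi
  intro C c hc
  apply Kosz.hom_ext_local
  intro U m x hxU
  obtain ⟨σ, hσ⟩ := h x
  obtain ⟨W, hW⟩ : ∃ W : X.Opens, W = U ⊓ CohB1.genLocus L σ := ⟨_, rfl⟩
  have hWU : W ≤ U := hW ▸ inf_le_left
  have hWσ : W ≤ CohB1.genLocus L σ := hW ▸ inf_le_right
  refine ⟨W, hWU, hW ▸ ⟨hxU, hσ⟩, ?_⟩
  have he : IsGen L W (SecTwist.val σ W) := isGen_val_of_le_genLocus σ hWσ
  obtain ⟨a, ha⟩ := he.exists_coef (rF L hWU m)
  have h1 : ap c W (SecTwist.val σ W) = 0 :=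
    congrArg (fun χ => ap χ W (toM (1 : Γ(X, W)))) (hc σ)
  have h2 : ap c W (rF L hWU m) = a • ap c W (SecTwist.val σ W) :=
    (congrArg (ap c W) ha).trans (ap_smul c a _)
  rw [h2, h1, smul_zero]
  rfl

end GGpt

section Field6

variable (k : Type u) [Field k] (X : Scheme.{u}) [X.Over (Spec (CommRingCat.of k))]
  [IsProper (X ↘ Spec (CommRingCat.of k))]

/-- **the sixth power of an ample module with a regular section and `H¹ = 0` on a proper curve is
very ample** -/
theorem main6536 (hdim : topologicalKrullDim X = 1) (L : X.Modules)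
    (hs : ∃ s : Coh.structureModule X ⟶ L, Mono s) (h1 : Subsingleton (Coh.HH X L 1))
    (hample : CohB1.IsAmple L) :
    ∃ (n : ℕ) (i : X ⟶ CohB1.ProjSpace n k), IsClosedImmersion i ∧
      i ≫ CohB1.ProjSpace.toSpec n k = X ↘ (Spec (CommRingCat.of k)) ∧
      Nonempty ((Scheme.Modules.pullback i).obj (Twist.twistProjSpace n k 1) ≅
        CohB1.tensorPow L 6) := by
  haveI : IsLocallyNoetherian X :=
    LocallyOfFiniteType.isLocallyNoetherian (X ↘ Spec (CommRingCat.of k))
  haveI : CompactSpace X :=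
    QuasiCompact.compactSpace_of_compactSpace (X ↘ Spec (CommRingCat.of k))
  have hfib : ∀ y : ↥(Spec (CommRingCat.of k)),
      topologicalKrullDim ↥((X ↘ Spec (CommRingCat.of k)).fiber y) ≤ 1 := by
    intro y
    rw [IsHomeomorph.topologicalKrullDim_eq ((X ↘ Spec (CommRingCat.of k)).fiberHomeo y)
      ((X ↘ Spec (CommRingCat.of k)).fiberHomeo y).isHomeomorph, ← hdim]
    exact topologicalKrullDim_subspace_le _ _
  haveI : IsNoetherianRing k := inferInstance
  have hH2 := subsingleton_HH2_of_fibre_dim (X ↘ Spec (CommRingCat.of k)) hfib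
  have hLi := hample.1
  obtain ⟨s, hsm⟩ := hs
  haveI := hsm
  -- `H¹` of the positive powers vanishes
  have hH1 : ∀ n : ℕ, Subsingleton (Coh.HH X (CohB1.tensorPow L (n + 1)) 1) := by
    intro n
    induction n with
    | zero =>
      exact Groth.Agent.HHVan.subsingleton_of_iso (Groth.Agent.VATens.isoTensorPowOne hLi) 1 h1
    | succ n ih =>
      exact HH1_tensorMod_of_section hdim.le hH2 hLi s (CohB1.tensorPow L (n + 1))
        (ProperFinH9.isCoh_of_isInvertible (isInvertible_tensorPow hLi (n + 1))) ih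
  -- the third power is globally generated
  have hgg : Curv2.IsGloballyGenerated (CohB1.tensorPow L 3) := by
    apply gg_of_pointwise (isInvertible_tensorPow hLi 3)
    intro x
    by_cases hx : x ∈ CohB1.genLocus L s
    · refine ⟨SecTwist.powHom s 3, ?_⟩
      rw [genLocus_powHom_eq hLi s 3 (by norm_num)]
      exact hx
    · exact exists_section_mem_genLocus hdim.le hH2 hLi s (isInvertible_tensorPow hLi 2)
        (hH1 1) x hx
  obtain ⟨n, i, hi, hcomp, ⟨e⟩⟩ := main6537 k X hdim (CohB1.tensorPow L 3) hgg (hH1 2)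
    (isAmple_tensorPow hample 3 (by norm_num))
  obtain ⟨e'⟩ := TensPowH9.tensorPow_mul L 3 2
  exact ⟨n, i, hi, hcomp, ⟨e ≪≫ e'⟩⟩

end Field6

end Snap9
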