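import Mathlib
import Groth.Prelude
import Groth.Agent.Lib.CBCGeo3_helper2
import Groth.Agent.Lib.CBCAsm1_helper2
import Groth.Agent.Lib.Snap50_helper9
import Groth.Agent.Lib.ProperFin9_helper9

/-!
# Flatness of `H⁰` from flatness of the higher cohomology (helper9)

For a quasi-coherent module flat over an affine base on a separated quasi-compact scheme, if all
`H^p`, `p ≥ 1`, are flat over the base then so is `H⁰` (from helper2's induction `tplus_main`).
Application: S19060.

APPEND-ONLY once landed.
-/

set_option autoImplicit false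
set_option backward.isDefEq.respectTransparency false
set_option linter.style.haveILetI false
universe u
open CategoryTheory CategoryTheory.Limits AlgebraicGeometry Opposite TopologicalSpace

namespace Snap9

open Groth.Agent.Lib.CBCH2 Groth.Agent.Lib.FlatBCH2 Groth.Agent.Lib.FormalFnH2
  Groth.Agent.Lib.FormalModPowH4 Groth.Agent.HHVan Groth.Agent.ProjFin Groth.Agent.Lib.PullFnH2
  Groth.Agent.Lib.BCSecH2

section Alg

/-- flatness transports along a ring isomorphism -/
theorem flat_of_ringEquiv_compHom {A S M : Type*} [CommRing A] [CommRing S] [AddCommGroup M]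
    [Module S M] [Module.Flat S M] (φ : A →+* S) (hφ : Function.Bijective φ) :
    @Module.Flat A M _ _ (Module.compHom M φ) := by
  letI : Algebra A S := φ.toAlgebra
  letI : Module A M := Module.compHom M φ
  haveI : IsScalarTower A S M := IsScalarTower.of_algebraMap_smul fun _ _ => rfl
  let e : A ≃ₗ[A] S :=
    { (RingEquiv.ofBijective φ hφ).toAddEquiv with
      map_smul' := fun a b => by
        show φ (a * b) = φ a * φ b
        exact map_mul φ a b }
  haveI : Module.Flat A S := Module.Flat.of_linearEquiv e.symm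
  exact Module.Flat.trans A S M

end Alg

section FlatSec

variable (A : Type u) [CommRing A] {X : Scheme.{u}} [X.Over (Spec (CommRingCat.of A))]

/-- sections over affine opens of a quasi-coherent module flat over `Spec A` are flat over `A` -/
theorem flat_secA (F : X.Modules) [F.IsQuasicoherent]
    (hF : FlatMod.IsFlatOver (X ↘ Spec (CommRingCat.of A)) F) (W : X.Opens)
    (hW : IsAffineOpen W) : Module.Flat A (SecA A F W) := by
  have hWT : W ≤ (X ↘ Spec (CommRingCat.of A)) ⁻¹ᵁ ⊤ := le_top
  have h1 := flat_sections_base (X ↘ Spec (CommRingCat.of A)) ⊤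
    (isAffineOpen_top (Spec (CommRingCat.of A))) F hF W hW hWT
  letI mS : Module Γ(Spec (CommRingCat.of A), ⊤) Γ(F, W) :=
    Module.compHom Γ(F, W) ((X ↘ Spec (CommRingCat.of A)).appLE ⊤ W hWT).hom
  haveI : Module.Flat Γ(Spec (CommRingCat.of A), ⊤) Γ(F, W) := h1
  have hbij : Function.Bijective (Scheme.ΓSpecIso (CommRingCat.of A)).inv.hom :=
    (ConcreteCategory.isIso_iff_bijective (Scheme.ΓSpecIso (CommRingCat.of A)).inv).mp
      inferInstance
  have h2 := flat_of_ringEquiv_compHom (M := Γ(F, W))
    (Scheme.ΓSpecIso (CommRingCat.of A)).inv.hom hbij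
  have hr : rUHom (A := A) W =
      ((X ↘ Spec (CommRingCat.of A)).appLE ⊤ W hWT).hom.comp
        (Scheme.ΓSpecIso (CommRingCat.of A)).inv.hom := by
    have := ofHom_rUHom (A := A) W hWT
    exact congrArg CommRingCat.Hom.hom this
  have hmod : (secMod A F W : Module A Γ(F, W)) =
      Module.compHom Γ(F, W) (Scheme.ΓSpecIso (CommRingCat.of A)).inv.hom := by
    apply Module.ext'
    intro a m
    show rUHom (A := A) W a • m = _
    rw [hr]
    rfl
  show @Module.Flat A Γ(F, W) _ _ (secMod A F W)
  rw [hmod]
  exact h2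

end FlatSec

section Sep

variable (A : Type u) [CommRing A] {X : Scheme.{u}} [X.Over (Spec (CommRingCat.of A))]
  [CompactSpace X] [IsSeparated (X ↘ Spec (CommRingCat.of A))]

/-- `H⁰` is flat when the sections over affine opens and all higher cohomology modules are
flat -/
theorem flat_HH_zero_of_flat_succ (N : X.Modules) [N.IsQuasicoherent]
    (hfl : ∀ W : X.Opens, IsAffineOpen W → Module.Flat A (SecA A N W))
    (hf : ∀ p, Module.Flat A (Coh.HH X N (p + 1))) : Module.Flat A (Coh.HH X N 0) := by
  classical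
  obtain ⟨t, U', hU', hcov'⟩ := Groth.Agent.Lib.BCMainH2.exists_affine_cover X
  have hd : ∀ V W : X.Opens, IsAffineOpen V → IsAffineOpen W → IsAffineOpen (V ⊓ W) :=
    Groth.Agent.Lib.BCMainH2.inf_affine_of_separated (X ↘ Spec (CommRingCat.of A))
  let 𝒰 : ULift.{u} (Fin t) → X.Opens := fun i => U' i.down
  have hcov : ⨆ i, 𝒰 i = ⊤ := by
    rw [eq_top_iff, ← hcov']
    exact iSup_le fun i => le_iSup 𝒰 ⟨i⟩
  have hA : ∀ i, IsAffineOpen (𝒰 i) := fun i => hU' i.down
  have hU : ∀ i, IsAffineHom (𝒰 i).ι := by
    intro i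
    haveI : IsAffine ((𝒰 i : X.Opens) : Scheme.{u}) := hA i
    haveI : IsAffineHom ((𝒰 i).ι ≫ (X ↘ Spec (CommRingCat.of A))) := inferInstance
    exact IsAffineHom.of_comp (f := (𝒰 i).ι) (g := X ↘ Spec (CommRingCat.of A))
  have hfl' : FlSec A 𝒰 N := fun j W hW => hfl _ (hW.image_of_isOpenImmersion (𝒰 j).ι)
  refine (tplus_main (gdata A 𝒰 hcov hA hU) t N ⟨inferInstance, hfl'⟩ hf
    (fun q hq => ⟨?_, ?_⟩)).2
  · exact AffVanish.HH_subsingleton_of_cover X t U' hU' hcov' hd N (q + 1) (by omega)
  · intro B _ _ X' _ g' hsq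
    haveI := isAffineHom_of_hsq g' hsq
    haveI : IsSeparated (X' ↘ Spec (CommRingCat.of B)) :=
      MorphismProperty.of_isPullback (P := @IsSeparated) hsq inferInstance
    haveI : ((Scheme.Modules.pullback g').obj N).IsQuasicoherent :=
      PBH8.isQuasicoherent_pullback g' N
    have hd' : ∀ V W : X'.Opens, IsAffineOpen V → IsAffineOpen W → IsAffineOpen (V ⊓ W) :=
      Groth.Agent.Lib.BCMainH2.inf_affine_of_separated (X' ↘ Spec (CommRingCat.of B))
    refine AffVanish.HH_subsingleton_of_cover X' t (fun i => g' ⁻¹ᵁ (U' i))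
      (fun i => (hU' i).preimage g') ?_ hd' _ (q + 1) (by omega)
    rw [eq_top_iff]
    intro x _
    have hx : g' x ∈ ⨆ i, U' i := by rw [hcov']; trivial
    obtain ⟨i, hi⟩ := Opens.mem_iSup.mp hx
    exact Opens.mem_iSup.mpr ⟨i, hi⟩

end Sep

section Main

variable (R : Type u) [CommRing R] [IsNoetherianRing R]
  (X : Scheme.{u}) [X.Over (Spec (CommRingCat.of R))] [IsProper (X ↘ Spec (CommRingCat.of R))]

/-- **S19060** (fibres of dimension at most one) -/
theorem main19060
    (hdim : ∀ s : Spec (CommRingCat.of R),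
      topologicalKrullDim ↥((X ↘ Spec (CommRingCat.of R)).fiber s) ≤ 1)
    (F : X.Modules) (hF : Coh.IsCoh F)
    (hfl : FlatMod.IsFlatOver (X ↘ Spec (CommRingCat.of R)) F)
    (h1 : Module.Projective R (Coh.HH X F 1)) :
    Module.Projective R (Coh.HH X F 0) := by
  haveI := hF.1
  haveI : CompactSpace X :=
    QuasiCompact.compactSpace_of_compactSpace (X ↘ Spec (CommRingCat.of R))
  have hflat : Module.Flat R (Coh.HH X F 0) := by
    apply flat_HH_zero_of_flat_succ R F (fun W hW => flat_secA R F hfl W hW)
    intro p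
    cases p with
    | zero => exact Module.Flat.of_projective
    | succ p =>
      haveI : Subsingleton (Coh.HH X F (p + 1 + 1)) :=
        subsingleton_HH_of_fibre_dim (X ↘ Spec (CommRingCat.of R)) 1
          (fun y => by simpa using hdim y) F hF (p + 1 + 1) (by omega)
      infer_instance
  haveI := hflat
  haveI : Module.Finite R (Coh.HH X F 0) := ProperFinH9.finite_HH_of_proper R X F hF 0
  haveI : Module.FinitePresentation R (Coh.HH X F 0) :=
    Module.finitePresentation_of_finite R _
  exact Module.Flat.projective_of_finitePresentation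

end Main

end Snap9
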