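import Mathlib
import Groth.Prelude
import Groth.Agent.Lib.Snap75_helper9
import Groth.Agent.Lib.EulerBC2_helper9
import Groth.Agent.Lib.FibAmp5_helper2
import Groth.Agent.Lib.PullTens1_helper9

/-!
# Intersection numbers and extension of the base field (helper9)
APPEND-ONLY once landed.
-/

set_option autoImplicit false
universe u
open AlgebraicGeometry CategoryTheory CategoryTheory.Limits

namespace Snap9

open Groth.Agent.TensInv

section PullList

variable {X Y : Scheme.{u}} (f : X ⟶ Y)

/-- pullback commutes with the tensor product of a list of invertible modules -/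
theorem nonempty_pullback_tensorList (l : List Y.Modules) (hl : ∀ M ∈ l, PicF.IsInvertible M) :
    Nonempty ((Scheme.Modules.pullback f).obj (FGA.tensorList l) ≅
      FGA.tensorList (l.map (Scheme.Modules.pullback f).obj)) := by
  induction l with
  | nil => exact ⟨PBH8.pullbackUnitIso f⟩
  | cons M l ih =>
    have hl' : ∀ N ∈ l, PicF.IsInvertible N := fun N hN => hl N (List.mem_cons_of_mem _ hN)
    obtain ⟨e⟩ := ih hl'
    exact ⟨PullTensH9.pullTensIso f (hl M List.mem_cons_self)
      (isInvertible_tensorList Y l hl') ≪≫ mapL _ e⟩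

/-- pullback commutes with `(⊗ l) ⊗ F` -/
theorem nonempty_pullback_tensorList_tensor (l : List Y.Modules)
    (hl : ∀ M ∈ l, PicF.IsInvertible M) (F : Y.Modules) :
    Nonempty ((Scheme.Modules.pullback f).obj (CohB1.tensorMod (FGA.tensorList l) F) ≅
      CohB1.tensorMod (FGA.tensorList (l.map (Scheme.Modules.pullback f).obj))
        ((Scheme.Modules.pullback f).obj F)) := by
  obtain ⟨e⟩ := nonempty_pullback_tensorList f l hl
  obtain ⟨e'⟩ := Groth.Agent.Lib.FibAmpH2.nonempty_pullback_tensor_iso f F
    (isInvertible_tensorList Y l hl)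
  exact ⟨(Scheme.Modules.pullback f).mapIso (comm _ _) ≪≫ e' ≪≫ comm _ _ ≪≫ mapR e _⟩

end PullList

section BC

variable {k : Type u} [Field k] {X : Scheme.{u}} [X.Over (Spec (CommRingCat.of k))]
  {k' : Type u} [Field k'] [Algebra k k'] {X' : Scheme.{u}} [X'.Over (Spec (CommRingCat.of k'))]
  (g : X' ⟶ X)
  (hpb : IsPullback g (X' ↘ Spec (CommRingCat.of k')) (X ↘ Spec (CommRingCat.of k))
    (Spec.map (CommRingCat.ofHom (algebraMap k k'))))

include hpb in
theorem eulerCharLE_pullback [CompactSpace X] [QuasiSeparatedSpace X] (F : X.Modules)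
    [Coh.IsQCoh F] (d : ℕ) :
    FGA.eulerCharLE k' X' ((Scheme.Modules.pullback g).obj F) d = FGA.eulerCharLE k X F d := by
  unfold FGA.eulerCharLE
  refine Finset.sum_congr rfl (fun i _ => ?_)
  rw [Groth.Agent.EulerBC.finrank_HH_pullback g hpb F i]

theorem eulerCharLE_of_iso {A B : X.Modules} (e : A ≅ B) (d : ℕ) :
    FGA.eulerCharLE k X A d = FGA.eulerCharLE k X B d := by
  unfold FGA.eulerCharLE
  refine Finset.sum_congr rfl (fun i _ => ?_)
  rw [(Groth.Agent.HypConn.hhEquivOfIso (A := k) e i).finrank_eq]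

include hpb in
/-- **intersection numbers are invariant under extension of the base field** -/
theorem intNum_pullback [CompactSpace X] [QuasiSeparatedSpace X] (d : ℕ) {r : ℕ}
    (M : Fin r → X.Modules) (hM : ∀ i, PicF.IsInvertible (M i)) (F : X.Modules)
    [F.IsQuasicoherent] :
    FGA.intNum k' X' d (fun i => (Scheme.Modules.pullback g).obj (M i))
        ((Scheme.Modules.pullback g).obj F) = FGA.intNum k X d M F := by
  unfold FGA.intNum
  refine Finset.sum_congr rfl (fun I _ => ?_)
  congr 1
  have hl : ∀ N ∈ (I.sort (· ≤ ·)).map M, PicF.IsInvertible N := by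
    intro N hN
    obtain ⟨i, _, rfl⟩ := List.mem_map.mp hN
    exact hM i
  obtain ⟨e⟩ := nonempty_pullback_tensorList_tensor g ((I.sort (· ≤ ·)).map M) hl F
  haveI : (FGA.tensorList ((I.sort (· ≤ ·)).map M)).IsQuasicoherent :=
    (ProperFinH9.isCoh_of_isInvertible (isInvertible_tensorList X _ hl)).1
  haveI : Coh.IsQCoh (CohB1.tensorMod (FGA.tensorList ((I.sort (· ≤ ·)).map M)) F) :=
    TensQCH8.isQuasicoherent_tensorMod _ F
  rw [← eulerCharLE_pullback g hpb (CohB1.tensorMod (FGA.tensorList ((I.sort (· ≤ ·)).map M)) F) d,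
    eulerCharLE_of_iso e d, List.map_map]
  rfl

end BC

end Snap9
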