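import Mathlib
import Groth.Prelude
import Groth.Agent.Lib.FibAmp5_helper2
import Groth.Agent.Lib.Tens18_helper8

/-!
# Translates of an invertible module under a connected group are algebraically equivalent (helper9)
**S17474**: the family `act^* L ⊗ pr^* M` on `X × G`.
APPEND-ONLY once landed.
-/

set_option autoImplicit false
universe u
open AlgebraicGeometry CategoryTheory CategoryTheory.Limits TopologicalSpace
open MonoidalCategory CartesianMonoidalCategory MonObj

namespace Snap9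

section Trans

variable (k : Type u) [Field k] (G X : Over (Spec (CommRingCat.of k))) [GrpObj G]
  (a : AlgGrp.Action G X)

/-- the action with the factors swapped, `X × G ⟶ X` -/
noncomputable def swapAct : X ⊗ G ⟶ X := (β_ X G).hom ≫ a.act

theorem lift_swapAct (u : 𝟙_ (Over (Spec (CommRingCat.of k))) ⟶ G) :
    lift (𝟙 X) (toUnit X ≫ u) ≫ swapAct k G X a = lift (toUnit X ≫ u) (𝟙 X) ≫ a.act := by
  unfold swapAct
  rw [← Category.assoc]
  congr 1
  apply CartesianMonoidalCategory.hom_ext <;> simp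

theorem lift_unit_act : lift (toUnit X ≫ η[G]) (𝟙 X) ≫ a.act = 𝟙 X := by
  have h1 : lift (toUnit X ≫ η[G]) (𝟙 X) = (λ_ X).inv ≫ (η[G] ▷ X) := by
    apply CartesianMonoidalCategory.hom_ext <;> simp
  rw [h1, Category.assoc, a.one_act, Iso.inv_hom_id]

omit [GrpObj G] in
theorem sliceAt_eq (u : 𝟙_ (Over (Spec (CommRingCat.of k))) ⟶ G) :
    @Pic13.sliceAt k _ X.left ⟨X.hom⟩ G.left G.hom u.left (Over.w u) =
      (lift (𝟙 X) (toUnit X ≫ u)).left := by
  letI : X.left.Over (Spec (CommRingCat.of k)) := ⟨X.hom⟩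
  unfold Pic13.sliceAt
  apply pullback.hom_ext
  · rw [pullback.lift_fst]
    have h := congrArg (fun φ => φ.left) (lift_fst (𝟙 X) (toUnit X ≫ u))
    exact h.symm
  · rw [pullback.lift_snd]
    have h := congrArg (fun φ => φ.left) (lift_snd (𝟙 X) (toUnit X ≫ u))
    exact h.symm

/-- the family `act^* L ⊗ pr^* M` on `X × G` -/
noncomputable def transFam (L M : X.left.Modules) : (X ⊗ G).left.Modules :=
  CohB1.tensorMod ((Scheme.Modules.pullback (swapAct k G X a).left).obj L)
    ((Scheme.Modules.pullback (pullback.fst X.hom G.hom)).obj M)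

/-- the fibre of the family over a `k`-point `u` of `G` is `t_u^* L ⊗ M` -/
theorem nonempty_fibre_transFam_iso (u : 𝟙_ (Over (Spec (CommRingCat.of k))) ⟶ G)
    (L M : X.left.Modules) (hM : PicF.IsInvertible M) :
    Nonempty (@Pic13.fibreMod k _ X.left ⟨X.hom⟩ G.left G.hom u.left (Over.w u)
        (transFam k G X a L M) ≅
      CohB1.tensorMod
        ((Scheme.Modules.pullback (lift (toUnit X ≫ u) (𝟙 X) ≫ a.act).left).obj L) M) := by
  letI : X.left.Over (Spec (CommRingCat.of k)) := ⟨X.hom⟩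
  unfold Pic13.fibreMod transFam
  rw [sliceAt_eq]
  obtain ⟨e1⟩ := Groth.Agent.Lib.FibAmpH2.nonempty_pullback_tensor_iso
    (lift (𝟙 X) (toUnit X ≫ u)).left
    ((Scheme.Modules.pullback (swapAct k G X a).left).obj L)
    (TensH8.isInvertible_pullback (pullback.fst X.hom G.hom) hM)
  have h1 : (lift (𝟙 X) (toUnit X ≫ u)).left ≫ (swapAct k G X a).left =
      (lift (toUnit X ≫ u) (𝟙 X) ≫ a.act).left := by
    rw [← Over.comp_left, lift_swapAct]
  have h2 : (lift (𝟙 X) (toUnit X ≫ u)).left ≫ pullback.fst X.hom G.hom = 𝟙 X.left := by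
    have h := congrArg (fun φ => φ.left) (lift_fst (𝟙 X) (toUnit X ≫ u))
    exact h
  have e2 : (Scheme.Modules.pullback (lift (𝟙 X) (toUnit X ≫ u)).left).obj
      ((Scheme.Modules.pullback (swapAct k G X a).left).obj L) ≅
      (Scheme.Modules.pullback (lift (toUnit X ≫ u) (𝟙 X) ≫ a.act).left).obj L :=
    (Scheme.Modules.pullbackComp _ _).app L ≪≫ (Scheme.Modules.pullbackCongr h1).app L
  have e3 : (Scheme.Modules.pullback (lift (𝟙 X) (toUnit X ≫ u)).left).obj
      ((Scheme.Modules.pullback (pullback.fst X.hom G.hom)).obj M) ≅ M :=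
    (Scheme.Modules.pullbackComp _ _).app M ≪≫ (Scheme.Modules.pullbackCongr h2).app M ≪≫
      (Scheme.Modules.pullbackId X.left).app M
  exact ⟨e1 ≪≫ Groth.Agent.TensInv.mapR e2 _ ≪≫ Groth.Agent.TensInv.mapL _ e3⟩

/-- **S17474** -/
theorem main17474 [LocallyOfFiniteType G.hom] [QuasiCompact G.hom] [ConnectedSpace ↥G.left]
    (g : 𝟙_ (Over (Spec (CommRingCat.of k))) ⟶ G)
    (L M : X.left.Modules) (hL : PicF.IsInvertible L) (hM : PicF.IsInvertible M)
    (hLM : Nonempty (CohB1.tensorMod L M ≅ Coh.structureModule X.left)) :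
    @Pic13.IsAlgEquivZero k _ X.left ⟨X.hom⟩
      (CohB1.tensorMod
        ((Scheme.Modules.pullback (lift (toUnit X ≫ g) (𝟙 X) ≫ a.act).left).obj L) M) := by
  letI : X.left.Over (Spec (CommRingCat.of k)) := ⟨X.hom⟩
  obtain ⟨ε⟩ := hLM
  obtain ⟨e1⟩ := nonempty_fibre_transFam_iso k G X a g L M hM
  obtain ⟨e2⟩ := nonempty_fibre_transFam_iso k G X a η[G] L M hM
  have h3 : (lift (toUnit X ≫ η[G]) (𝟙 X) ≫ a.act).left = 𝟙 X.left := by
    rw [lift_unit_act]
    rfl
  have e3 : (Scheme.Modules.pullback (lift (toUnit X ≫ η[G]) (𝟙 X) ≫ a.act).left).obj L ≅ L :=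
    (Scheme.Modules.pullbackCongr h3).app L ≪≫ (Scheme.Modules.pullbackId X.left).app L
  refine ⟨G.left, G.hom, inferInstance, inferInstance, inferInstance, transFam k G X a L M,
    ?_, g.left, (η[G] : 𝟙_ (Over (Spec (CommRingCat.of k))) ⟶ G).left, Over.w g, Over.w η[G],
    ⟨e1⟩, ⟨e2 ≪≫ Groth.Agent.TensInv.mapR e3 _ ≪≫ ε⟩⟩
  exact TensH8.isInvertible_tensorMod (TensH8.isInvertible_pullback _ hL)
    (TensH8.isInvertible_pullback _ hM)

end Trans

end Snap9
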