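import Groth.Prelude.Def_W4stktopologysheavesDim
import Mathlib.Topology.Spectral.Basic
import Mathlib.Topology.NoetherianSpace

/-!
# The soberification (lead)
-/

universe u

set_option linter.unusedSectionVars false

namespace Groth.Agent.Lib.Sob_lead

open Set Topology TopologicalSpace PtTop

variable {X : Type u} [TopologicalSpace X]

/-- A point of the soberification as an irreducible closed set. -/
def ic (Z : Sob X) : IrreducibleCloseds X := Z

/-- The basic open of the soberification attached to a subset. -/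
def D (U : Set X) : Set (Sob X) := {Z : IrreducibleCloseds X | ((Z : Set X) ∩ U).Nonempty}

theorem mem_D {U : Set X} {Z : Sob X} :
    Z ∈ D U ↔ ((ic Z : Set X) ∩ U).Nonempty := Iff.rfl

theorem isOpen_D {U : Set X} (hU : IsOpen U) : IsOpen (D U) :=
  TopologicalSpace.isOpen_generateFrom_of_mem ⟨⟨U, hU⟩, rfl⟩

theorem D_univ : D (univ : Set X) = univ := by
  ext Z
  simp only [mem_D, inter_univ, mem_univ, iff_true]
  exact (ic Z).isIrreducible.nonempty

theorem D_inter {U V : Set X} (hU : IsOpen U) (hV : IsOpen V) : D (U ∩ V) = D U ∩ D V := by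
  ext Z
  constructor
  · rintro ⟨x, hxZ, hxU, hxV⟩
    exact ⟨⟨x, hxZ, hxU⟩, ⟨x, hxZ, hxV⟩⟩
  · rintro ⟨h1, h2⟩
    exact (ic Z).isIrreducible.isPreirreducible U V hU hV h1 h2

theorem D_sUnion (S : Set (Set X)) : D (⋃₀ S) = ⋃ s ∈ S, D s := by
  ext Z
  simp only [mem_D, mem_iUnion]
  constructor
  · rintro ⟨x, hxZ, s, hs, hxs⟩
    exact ⟨s, hs, x, hxZ, hxs⟩
  · rintro ⟨s, hs, x, hxZ, hxs⟩
    exact ⟨x, hxZ, s, hs, hxs⟩

theorem D_iUnion {ι : Sort*} (U : ι → Set X) : D (⋃ i, U i) = ⋃ i, D (U i) := by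
  ext Z
  simp only [mem_D, mem_iUnion]
  constructor
  · rintro ⟨x, hxZ, hx⟩
    obtain ⟨i, hi⟩ := mem_iUnion.1 hx
    exact ⟨i, x, hxZ, hi⟩
  · rintro ⟨i, x, hxZ, hxs⟩
    exact ⟨x, hxZ, mem_iUnion.2 ⟨i, hxs⟩⟩

theorem D_mono {U V : Set X} (h : U ⊆ V) : D U ⊆ D V := by
  rintro Z ⟨x, hxZ, hxU⟩
  exact ⟨x, hxZ, h hxU⟩

/-- Every open of the soberification is a `D U`. -/
theorem exists_eq_D_of_isOpen {S : Set (Sob X)} (hS : IsOpen S) :
    ∃ U : Set X, IsOpen U ∧ S = D U := by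
  induction hS with
  | basic s hs =>
    obtain ⟨U, rfl⟩ := hs
    exact ⟨U, U.2, rfl⟩
  | univ => exact ⟨univ, isOpen_univ, D_univ.symm⟩
  | inter s t _ _ ihs iht =>
    obtain ⟨U, hU, rfl⟩ := ihs
    obtain ⟨V, hV, rfl⟩ := iht
    exact ⟨U ∩ V, hU.inter hV, (D_inter hU hV).symm⟩
  | sUnion S _ ih =>
    choose U hU hSU using ih
    refine ⟨⋃ s : S, U s.1 s.2, isOpen_iUnion fun s => hU s.1 s.2, ?_⟩
    rw [D_iUnion, sUnion_eq_iUnion]
    exact iUnion_congr fun s => hSU s.1 s.2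

theorem preimage_toSob_D {U : Set X} (hU : IsOpen U) : toSob X ⁻¹' D U = U := by
  ext x
  change (closure {x} ∩ U).Nonempty ↔ x ∈ U
  constructor
  · rintro ⟨y, hy, hyU⟩
    exact (specializes_iff_mem_closure.2 hy).mem_open hU hyU
  · intro hx
    exact ⟨x, subset_closure rfl, hx⟩

theorem continuous_toSob : Continuous (toSob X) := by
  rw [continuous_def]
  intro S hS
  obtain ⟨U, hU, rfl⟩ := exists_eq_D_of_isOpen hS
  rw [preimage_toSob_D hU]; exact hU

theorem D_injective {U V : Set X} (hU : IsOpen U) (hV : IsOpen V) (h : D U = D V) : U = V := by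
  rw [← preimage_toSob_D hU, ← preimage_toSob_D hV, h]

theorem D_subset_iff {U V : Set X} (hU : IsOpen U) (hV : IsOpen V) : D U ⊆ D V ↔ U ⊆ V := by
  refine ⟨fun h => ?_, D_mono⟩
  rw [← preimage_toSob_D hU, ← preimage_toSob_D hV]
  exact preimage_mono h

theorem bijOn_preimage :
    BijOn (fun U' : Set (Sob X) => toSob X ⁻¹' U') {U' | IsOpen U'} {U : Set X | IsOpen U} := by
  refine ⟨fun U' hU' => hU'.preimage continuous_toSob, ?_, ?_⟩
  · intro S hS T hT h
    obtain ⟨U, hU, rfl⟩ := exists_eq_D_of_isOpen hS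
    obtain ⟨V, hV, rfl⟩ := exists_eq_D_of_isOpen hT
    simp only [preimage_toSob_D hU, preimage_toSob_D hV] at h
    rw [h]
  · intro U hU
    exact ⟨D U, isOpen_D hU, preimage_toSob_D hU⟩

theorem t0Space_sob : T0Space (Sob X) := by
  rw [t0Space_iff_exists_isOpen_xor_mem]
  intro Z Z' hne
  have : ¬ (ic Z : Set X) ⊆ (ic Z' : Set X) ∨
      ¬ (ic Z' : Set X) ⊆ (ic Z : Set X) := by
    by_contra hcon
    push Not at hcon
    exact hne (IrreducibleCloseds.ext (s := ic Z) (t := ic Z') (Subset.antisymm hcon.1 hcon.2))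
  rcases this with h | h
  · obtain ⟨x, hxZ, hxZ'⟩ := not_subset.1 h
    refine ⟨D ((ic Z' : Set X)ᶜ),
      isOpen_D (ic Z').isClosed.isOpen_compl, Or.inl ⟨⟨x, hxZ, hxZ'⟩, ?_⟩⟩
    rintro ⟨y, hy, hy'⟩
    exact hy' hy
  · obtain ⟨x, hxZ', hxZ⟩ := not_subset.1 h
    refine ⟨D ((ic Z : Set X)ᶜ),
      isOpen_D (ic Z).isClosed.isOpen_compl, Or.inr ⟨⟨x, hxZ', hxZ⟩, ?_⟩⟩
    rintro ⟨y, hy, hy'⟩
    exact hy' hy

theorem quasiSober_sob : QuasiSober (Sob X) := by
  constructor
  intro T hTirr hTcl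
  obtain ⟨U, hU, hTU⟩ := exists_eq_D_of_isOpen hTcl.isOpen_compl
  have hT : ∀ Z : Sob X, Z ∈ T ↔ (ic Z : Set X) ⊆ Uᶜ := by
    intro Z
    have : Z ∈ T ↔ Z ∉ D U := by rw [← hTU]; simp
    rw [this, mem_D, not_nonempty_iff_eq_empty, ← disjoint_iff_inter_eq_empty,
      subset_compl_iff_disjoint_right]
  have hCcl : IsClosed Uᶜ := hU.isClosed_compl
  have hmemT : ∀ x ∈ Uᶜ, toSob X x ∈ T := fun x hx =>
    (hT _).2 (closure_minimal (singleton_subset_iff.2 hx) hCcl)
  have hCirr : IsIrreducible Uᶜ := by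
    obtain ⟨Z, hZ⟩ := hTirr.nonempty
    obtain ⟨x, hx⟩ := (ic Z).isIrreducible.nonempty
    refine ⟨⟨x, (hT Z).1 hZ hx⟩, ?_⟩
    rw [isPreirreducible_iff_isClosed_union_isClosed]
    intro z₁ z₂ hz₁ hz₂ hsub
    have hTpre := hTirr.isPreirreducible
    rw [isPreirreducible_iff_isClosed_union_isClosed] at hTpre
    have h1 : IsClosed ((D z₁ᶜ)ᶜ : Set (Sob X)) := (isOpen_D hz₁.isOpen_compl).isClosed_compl
    have h2 : IsClosed ((D z₂ᶜ)ᶜ : Set (Sob X)) := (isOpen_D hz₂.isOpen_compl).isClosed_compl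
    have hmem : ∀ (z : Set X) (Z : Sob X), Z ∈ (D zᶜ)ᶜ ↔ (ic Z : Set X) ⊆ z := by
      intro z Z
      rw [mem_compl_iff, mem_D, not_nonempty_iff_eq_empty, ← disjoint_iff_inter_eq_empty,
        disjoint_compl_right_iff_subset]
    have hcov : T ⊆ (D z₁ᶜ)ᶜ ∪ (D z₂ᶜ)ᶜ := by
      intro Z hZ
      have hZsub : (ic Z : Set X) ⊆ z₁ ∪ z₂ := ((hT Z).1 hZ).trans hsub
      have hZpre := (ic Z).isIrreducible.isPreirreducible
      rw [isPreirreducible_iff_isClosed_union_isClosed] at hZpre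
      rcases hZpre z₁ z₂ hz₁ hz₂ hZsub with h | h
      · exact Or.inl ((hmem z₁ Z).2 h)
      · exact Or.inr ((hmem z₂ Z).2 h)
    rcases hTpre _ _ h1 h2 hcov with h | h
    · left
      intro x hx
      exact (hmem z₁ _).1 (h (hmemT x hx)) (subset_closure rfl)
    · right
      intro x hx
      exact (hmem z₂ _).1 (h (hmemT x hx)) (subset_closure rfl)
  let ζ : Sob X := (⟨Uᶜ, hCirr, hCcl⟩ : IrreducibleCloseds X)
  have hζT : ζ ∈ T := (hT ζ).2 (Subset.refl _)
  refine ⟨ζ, Subset.antisymm (closure_minimal (singleton_subset_iff.2 hζT) hTcl) ?_⟩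
  intro Z hZ
  rw [← specializes_iff_mem_closure, specializes_iff_forall_open]
  intro S hS hZS
  obtain ⟨V, hV, rfl⟩ := exists_eq_D_of_isOpen hS
  obtain ⟨x, hxZ, hxV⟩ := hZS
  exact ⟨x, (hT Z).1 hZ hxZ, hxV⟩

section univ

variable {Y : Type u} [TopologicalSpace Y] [QuasiSober Y] [T0Space Y]

/-- The extension of a continuous map to the soberification. -/
noncomputable def extend (f : X → Y) (hf : Continuous f) (Z : Sob X) : Y :=
  ((ic Z).isIrreducible.image f hf.continuousOn).genericPoint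

theorem isGenericPoint_extend (f : X → Y) (hf : Continuous f) (Z : Sob X) :
    IsGenericPoint (extend f hf Z) (closure (f '' (ic Z : Set X))) :=
  ((ic Z).isIrreducible.image f hf.continuousOn).isGenericPoint_genericPoint_closure

theorem extend_toSob (f : X → Y) (hf : Continuous f) (x : X) :
    extend f hf (toSob X x) = f x := by
  have h1 := isGenericPoint_extend f hf (toSob X x)
  have h2 : closure (f '' (ic (toSob X x) : Set X)) = closure {f x} := by
    change closure (f '' closure {x}) = closure {f x}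
    rw [closure_image_closure hf, image_singleton]
  rw [h2] at h1
  exact h1.eq isGenericPoint_closure

theorem continuous_extend (f : X → Y) (hf : Continuous f) : Continuous (extend f hf) := by
  rw [continuous_def]
  intro V hV
  have : extend f hf ⁻¹' V = D (f ⁻¹' V) := by
    ext Z
    rw [mem_preimage, (isGenericPoint_extend f hf Z).mem_open_set_iff hV,
      closure_inter_open_nonempty_iff hV, mem_D]
    constructor
    · rintro ⟨_, ⟨x, hx, rfl⟩, hxV⟩
      exact ⟨x, hx, hxV⟩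
    · rintro ⟨x, hx, hxV⟩
      exact ⟨f x, ⟨x, hx, rfl⟩, hxV⟩
  rw [this]
  exact isOpen_D (hV.preimage hf)

end univ

theorem isCompact_D_iff {U : Set X} (hU : IsOpen U) : IsCompact (D U) ↔ IsCompact U := by
  constructor
  · intro hc
    apply isCompact_of_finite_subcover
    intro κ V hV hcov
    have hcov' : D U ⊆ ⋃ i, D (V i) := by
      rw [← D_iUnion]; exact D_mono hcov
    obtain ⟨t, ht⟩ := hc.elim_finite_subcover (fun i => D (V i)) (fun i => isOpen_D (hV i)) hcov'
    refine ⟨t, ?_⟩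
    have h1 : (⋃ i ∈ t, D (V i)) = D (⋃ i ∈ t, V i) := by
      rw [D_iUnion]
      exact iUnion_congr fun i => (D_iUnion _).symm
    rw [h1] at ht
    exact (D_subset_iff hU (isOpen_iUnion fun i => isOpen_iUnion fun _ => hV i)).1 ht
  · intro hc
    apply isCompact_of_finite_subcover
    intro κ S hS hcov
    choose V hV hSV using fun i => exists_eq_D_of_isOpen (hS i)
    have hcov' : U ⊆ ⋃ i, V i := by
      rw [← D_subset_iff hU (isOpen_iUnion hV), D_iUnion]
      simpa only [← hSV] using hcov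
    obtain ⟨t, ht⟩ := hc.elim_finite_subcover V hV hcov'
    refine ⟨t, ?_⟩
    have h1 : (⋃ i ∈ t, S i) = D (⋃ i ∈ t, V i) := by
      rw [D_iUnion]
      refine iUnion_congr fun i => ?_
      rw [D_iUnion]
      exact iUnion_congr fun _ => hSV i
    rw [h1]
    exact D_mono ht

theorem compactSpace_sob [CompactSpace X] : CompactSpace (Sob X) := by
  rw [← isCompact_univ_iff, ← D_univ, isCompact_D_iff isOpen_univ]
  exact isCompact_univ

theorem isTopologicalBasis_D_compact [PrespectralSpace X] :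
    IsTopologicalBasis {S : Set (Sob X) | ∃ U : Set X, (IsOpen U ∧ IsCompact U) ∧ S = D U} := by
  apply isTopologicalBasis_of_isOpen_of_nhds
  · rintro _ ⟨U, ⟨hU, -⟩, rfl⟩
    exact isOpen_D hU
  · intro Z S hZS hS
    obtain ⟨V, hV, rfl⟩ := exists_eq_D_of_isOpen hS
    obtain ⟨x, hxZ, hxV⟩ := hZS
    obtain ⟨U, ⟨hUo, hUc⟩, hxU, hUV⟩ :=
      PrespectralSpace.isTopologicalBasis.exists_subset_of_mem_open hxV hV
    exact ⟨D U, ⟨U, ⟨hUo, hUc⟩, rfl⟩, ⟨x, hxZ, hxU⟩, D_mono hUV⟩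

theorem prespectralSpace_sob [PrespectralSpace X] : PrespectralSpace (Sob X) := by
  refine .of_isTopologicalBasis isTopologicalBasis_D_compact ?_
  rintro _ ⟨U, ⟨hU, hUc⟩, rfl⟩
  exact (isCompact_D_iff hU).2 hUc

theorem quasiSeparatedSpace_sob [PrespectralSpace X] [QuasiSeparatedSpace X] :
    QuasiSeparatedSpace (Sob X) := by
  let ι := {U : Set X // IsOpen U ∧ IsCompact U}
  let b : ι → Set (Sob X) := fun U => D U.1
  have hb : range b = {S : Set (Sob X) | ∃ U : Set X, (IsOpen U ∧ IsCompact U) ∧ S = D U} := by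
    ext S
    constructor
    · rintro ⟨U, rfl⟩; exact ⟨U.1, U.2, rfl⟩
    · rintro ⟨U, hU, rfl⟩; exact ⟨⟨U, hU⟩, rfl⟩
  refine QuasiSeparatedSpace.of_isTopologicalBasis (b := b) ?_ ?_
  · rw [hb]; exact isTopologicalBasis_D_compact
  · intro U V
    change IsCompact (D U.1 ∩ D V.1)
    rw [← D_inter U.2.1 V.2.1, isCompact_D_iff (U.2.1.inter V.2.1)]
    exact U.2.2.inter_of_isOpen V.2.2 U.2.1 V.2.1

theorem spectralSpace_sob [CompactSpace X] [PrespectralSpace X] [QuasiSeparatedSpace X] :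
    SpectralSpace (Sob X) :=
  { toT0Space := t0Space_sob
    toCompactSpace := compactSpace_sob
    toQuasiSober := quasiSober_sob
    toQuasiSeparatedSpace := quasiSeparatedSpace_sob
    toPrespectralSpace := prespectralSpace_sob }

theorem noetherianSpace_sob [NoetherianSpace X] : NoetherianSpace (Sob X) := by
  rw [noetherianSpace_iff_opens]
  intro S
  obtain ⟨U, hU, hSU⟩ := exists_eq_D_of_isOpen S.2
  change IsCompact S.carrier
  rw [hSU, isCompact_D_iff hU]
  exact NoetherianSpace.isCompact U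

end Groth.Agent.Lib.Sob_lead
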