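import Mathlib
import Groth.Prelude.Def_AlgGrp
import Groth.Agent.Lib.GenSubgrp2_helper4
import Groth.Agent.Lib.ActZeroDim_helper4

set_option autoImplicit false
set_option linter.unusedVariables false
set_option linter.unusedTactic false
set_option linter.unreachableTactic false
set_option linter.unusedSectionVars false
set_option linter.style.haveILetI false
set_option linter.deprecated false
set_option maxHeartbeats 1600000

universe u

open CategoryTheory CategoryTheory.Limits MonoidalCategory CartesianMonoidalCategory MonObj GrpObj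
  AlgebraicGeometry TensorProduct

namespace Groth.Agent.Lib.SolvPtsH4

open Groth.Agent.Lib Groth.Agent.Lib.GenSubgrpH4
open scoped commutatorElement

variable {k : Type u} [Field k]

set_option maxHeartbeats 6400000 in
/-- Points with values in an algebraically closed extension are dense: a morphism from a reduced
`k`-scheme locally of finite type to a `k`-group which kills all `Ω`-points is trivial. -/
theorem eq_one_of_points (Ω : Type u) [Field Ω] [Algebra k Ω] [IsAlgClosed Ω]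
    (G Y : Over (Spec (CommRingCat.of k))) [GrpObj G] (hlft : LocallyOfFiniteType Y.hom)
    (hred : AlgebraicGeometry.IsReduced Y.left) (W : Y ⟶ G)
    (h : ∀ y : (Over.mk (Spec.map (CommRingCat.ofHom (algebraMap k Ω))) :
      Over (Spec (CommRingCat.of k))) ⟶ Y, y ≫ W = 1) :
    W = 1 := by
  haveI hsub : Subsingleton ↥(Spec (CommRingCat.of k)) :=
    (inferInstance : Subsingleton (PrimeSpectrum k))
  haveI := hlft
  haveI := hred
  haveI hsub' : Subsingleton ↥(𝟙_ (Over (Spec (CommRingCat.of k)))).left := hsub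
  have hw : (η[G]).left ≫ G.hom = 𝟙 _ := Over.w η[G]
  haveI hecl : IsClosedImmersion (η[G]).left :=
    isClosedImmersion_of_comp_eq_id G.hom (η[G]).left hw
  haveI hzcl : IsClosedImmersion (pullback.fst W.left (η[G]).left) := inferInstance
  haveI hJk : JacobsonSpace ↥(Spec (CommRingCat.of k)) := inferInstance
  haveI hJ : JacobsonSpace ↥Y.left := LocallyOfFiniteType.jacobsonSpace Y.hom
  have hcp : closedPoints ↥Y.left ⊆ Set.range (pullback.fst W.left (η[G]).left).base := by
    intro x hx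
    have hxcl : IsClosed ({x} : Set ↥Y.left) := hx
    haveI hci : IsClosedImmersion (Y.left.fromSpecResidueField x) :=
      isClosed_singleton_iff_isClosedImmersion.mp hxcl
    haveI hlft' : LocallyOfFiniteType (Y.left.fromSpecResidueField x ≫ Y.hom) := inferInstance
    have hfin : IsFinite (Y.left.fromSpecResidueField x ≫ Y.hom) :=
      (isFinite_iff_locallyOfFiniteType_of_jacobsonSpace
        (f := Y.left.fromSpecResidueField x ≫ Y.hom)).mpr hlft'
    obtain ⟨φ, hφ⟩ := Spec.map_surjective (Y.left.fromSpecResidueField x ≫ Y.hom)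
    rw [← hφ, IsFinite.SpecMap_iff] at hfin
    letI alg : Algebra k ↑(Y.left.residueField x) := φ.hom.toAlgebra
    haveI hmf : Module.Finite k ↑(Y.left.residueField x) := hfin
    haveI halg : Algebra.IsAlgebraic k ↑(Y.left.residueField x) :=
      Algebra.IsAlgebraic.of_finite k _
    let ψ : ↑(Y.left.residueField x) →ₐ[k] Ω := IsAlgClosed.lift
    let y₀ : Spec (CommRingCat.of Ω) ⟶ Y.left :=
      Spec.map (CommRingCat.ofHom ψ.toRingHom) ≫ Y.left.fromSpecResidueField x
    have hy₀ : y₀ ≫ Y.hom = Spec.map (CommRingCat.ofHom (algebraMap k Ω)) := by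
      have h1 : y₀ ≫ Y.hom = Spec.map (CommRingCat.ofHom ψ.toRingHom) ≫ Spec.map φ := by
        rw [hφ]
        exact Category.assoc _ _ _
      rw [h1, ← Spec.map_comp]
      congr 1
      ext a
      exact ψ.commutes a
    let y : (Over.mk (Spec.map (CommRingCat.ofHom (algebraMap k Ω))) :
        Over (Spec (CommRingCat.of k))) ⟶ Y := Over.homMk y₀ hy₀
    have hyW := h y
    have hyWl : y₀ ≫ W.left =
        (toUnit (Over.mk (Spec.map (CommRingCat.ofHom (algebraMap k Ω))) :
          Over (Spec (CommRingCat.of k)))).left ≫ (η[G]).left :=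
      congrArg (fun m => m.left) hyW
    obtain ⟨q⟩ : Nonempty ↥(Spec (CommRingCat.of Ω)) :=
      (inferInstance : Nonempty (PrimeSpectrum Ω))
    refine ⟨(pullback.lift y₀ _ hyWl).base q, ?_⟩
    have e1 : (pullback.fst W.left (η[G]).left).base ((pullback.lift y₀ _ hyWl).base q) =
        y₀.base q :=
      congrArg (fun m : Spec (CommRingCat.of Ω) ⟶ Y.left => m.base q)
        (pullback.lift_fst y₀ _ hyWl)
    rw [e1]
    exact Scheme.fromSpecResidueField_apply x _
  have hsurj : Set.range (pullback.fst W.left (η[G]).left).base = Set.univ := by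
    apply Set.eq_univ_of_univ_subset
    rw [← closure_closedPoints (X := ↥Y.left)]
    exact closure_minimal hcp (pullback.fst W.left (η[G]).left).isClosedEmbedding.isClosed_range
  haveI hsj : Surjective (pullback.fst W.left (η[G]).left) := ⟨Set.range_eq_univ.mp hsurj⟩
  haveI hiso : IsIso (pullback.fst W.left (η[G]).left) :=
    isIso_of_isClosedImmersion_of_surjective _
  obtain ⟨r, hr⟩ : ∃ r : Y.left ⟶ (𝟙_ (Over (Spec (CommRingCat.of k)))).left,
      r = inv (pullback.fst W.left (η[G]).left) ≫ pullback.snd W.left (η[G]).left := ⟨_, rfl⟩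
  have hWl : W.left = r ≫ (η[G]).left := by
    rw [hr, Category.assoc, ← pullback.condition, IsIso.inv_hom_id_assoc]
  have hr2 : r = Y.hom := by
    have h2 : r ≫ (η[G]).left ≫ G.hom = W.left ≫ G.hom := by
      rw [hWl, Category.assoc]
    rw [hw, Over.w W] at h2
    exact (Category.comp_id r).symm.trans h2
  ext1
  show W.left = (toUnit Y ≫ η[G]).left
  rw [hWl, hr2]
  rfl

/-- Universal representability of a family of subgroups of the groups of points. -/
def Rep (G : Over (Spec (CommRingCat.of k))) [GrpObj G]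
    (F : ∀ T : Over (Spec (CommRingCat.of k)), Subgroup (T ⟶ G)) : Prop :=
  ∀ (T : Over (Spec (CommRingCat.of k))) (g : T ⟶ G), g ∈ F T →
    ∃ (Y : Over (Spec (CommRingCat.of k))) (W : Y ⟶ G) (t : T ⟶ Y),
      GeometricallyReduced Y.hom ∧ LocallyOfFiniteType Y.hom ∧
      (∀ (T' : Over (Spec (CommRingCat.of k))) (s : T' ⟶ Y), s ≫ W ∈ F T') ∧ t ≫ W = g

theorem lft_tensor (A B : Over (Spec (CommRingCat.of k))) (hA : LocallyOfFiniteType A.hom)
    (hB : LocallyOfFiniteType B.hom) : LocallyOfFiniteType (A ⊗ B).hom := by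
  haveI := hA
  haveI := hB
  show LocallyOfFiniteType (pullback.fst A.hom B.hom ≫ A.hom)
  infer_instance

theorem rep_top (G : Over (Spec (CommRingCat.of k))) [GrpObj G]
    (hG : GeometricallyReduced G.hom) (hG' : LocallyOfFiniteType G.hom) :
    Rep G (fun T => (⊤ : Subgroup (T ⟶ G))) := by
  intro T g _
  exact ⟨G, 𝟙 G, g, hG, hG', fun _ _ => Subgroup.mem_top _, Category.comp_id g⟩

set_option maxHeartbeats 6400000 in
theorem rep_comm (G : Over (Spec (CommRingCat.of k))) [GrpObj G]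
    {A B : ∀ T : Over (Spec (CommRingCat.of k)), Subgroup (T ⟶ G)}
    (hA : Rep G A) (hB : Rep G B) : Rep G (fun T => ⁅A T, B T⁆) := by
  intro T g hg
  have hg' : g ∈ Subgroup.closure {g | ∃ g₁ ∈ A T, ∃ g₂ ∈ B T, ⁅g₁, g₂⁆ = g} := hg
  refine Subgroup.closure_induction
    (p := fun g _ => ∃ (Y : Over (Spec (CommRingCat.of k))) (W : Y ⟶ G) (t : T ⟶ Y),
      GeometricallyReduced Y.hom ∧ LocallyOfFiniteType Y.hom ∧
      (∀ (T' : Over (Spec (CommRingCat.of k))) (s : T' ⟶ Y), s ≫ W ∈ ⁅A T', B T'⁆) ∧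
      t ≫ W = g) ?_ ?_ ?_ ?_ hg'
  · rintro x ⟨g₁, h₁, g₂, h₂, rfl⟩
    obtain ⟨Y₁, W₁, t₁, hr₁, hl₁, hu₁, e₁⟩ := hA T g₁ h₁
    obtain ⟨Y₂, W₂, t₂, hr₂, hl₂, hu₂, e₂⟩ := hB T g₂ h₂
    refine ⟨Y₁ ⊗ Y₂, ⁅fst Y₁ Y₂ ≫ W₁, snd Y₁ Y₂ ≫ W₂⁆, lift t₁ t₂,
      geomRed_tensor Y₁ Y₂ hr₁ hr₂, lft_tensor Y₁ Y₂ hl₁ hl₂, ?_, ?_⟩
    · intro T' s
      have e : s ≫ ⁅fst Y₁ Y₂ ≫ W₁, snd Y₁ Y₂ ≫ W₂⁆ =
          ⁅(s ≫ fst Y₁ Y₂) ≫ W₁, (s ≫ snd Y₁ Y₂) ≫ W₂⁆ := by
        simp only [commutatorElement_def, MonObj.comp_mul, GrpObj.comp_inv, Category.assoc]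
      rw [e]
      exact Subgroup.commutator_mem_commutator (hu₁ T' _) (hu₂ T' _)
    · simp only [commutatorElement_def, MonObj.comp_mul, GrpObj.comp_inv, lift_fst_assoc,
        lift_snd_assoc, e₁, e₂]
  · refine ⟨𝟙_ _, 1, toUnit T, ?_, ?_, fun T' s => ?_, MonObj.comp_one _⟩
    · show GeometricallyReduced (𝟙 (Spec (CommRingCat.of k)))
      exact geomRed_id _
    · show LocallyOfFiniteType (𝟙 (Spec (CommRingCat.of k)))
      infer_instance
    · rw [MonObj.comp_one]
      exact Subgroup.one_mem _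
  · rintro x y _ _ ⟨Y₁, W₁, t₁, hr₁, hl₁, hu₁, e₁⟩ ⟨Y₂, W₂, t₂, hr₂, hl₂, hu₂, e₂⟩
    refine ⟨Y₁ ⊗ Y₂, (fst Y₁ Y₂ ≫ W₁) * (snd Y₁ Y₂ ≫ W₂), lift t₁ t₂,
      geomRed_tensor Y₁ Y₂ hr₁ hr₂, lft_tensor Y₁ Y₂ hl₁ hl₂, ?_, ?_⟩
    · intro T' s
      rw [MonObj.comp_mul, ← Category.assoc, ← Category.assoc]
      exact Subgroup.mul_mem _ (hu₁ T' _) (hu₂ T' _)
    · rw [MonObj.comp_mul, lift_fst_assoc, lift_snd_assoc, e₁, e₂]
  · rintro x _ ⟨Y, W, t, hr, hl, hu, e⟩
    refine ⟨Y, W⁻¹, t, hr, hl, ?_, ?_⟩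
    · intro T' s
      rw [GrpObj.comp_inv]
      exact Subgroup.inv_mem _ (hu T' s)
    · rw [GrpObj.comp_inv, e]

theorem bot_of_points (Ω : Type u) [Field Ω] [Algebra k Ω] [IsAlgClosed Ω]
    (G : Over (Spec (CommRingCat.of k))) [GrpObj G]
    (F : ∀ T : Over (Spec (CommRingCat.of k)), Subgroup (T ⟶ G)) (hF : Rep G F)
    (hΩ : F (Over.mk (Spec.map (CommRingCat.ofHom (algebraMap k Ω)))) = ⊥)
    (T : Over (Spec (CommRingCat.of k))) : F T = ⊥ := by
  rw [Subgroup.eq_bot_iff_forall]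
  intro g hg
  obtain ⟨Y, W, t, hr, hl, hu, e⟩ := hF T g hg
  haveI hYred : AlgebraicGeometry.IsReduced Y.left :=
    self_of_isIntegral_of_geometrically hr.geometrically_isReduced
  have hW : W = 1 := eq_one_of_points Ω G Y hl hYred W (fun y => by
    have h0 := hu _ y
    rw [hΩ, Subgroup.mem_bot] at h0
    exact h0)
  rw [← e, hW, MonObj.comp_one]

theorem rep_derived (G : Over (Spec (CommRingCat.of k))) [GrpObj G]
    (hG : GeometricallyReduced G.hom) (hG' : LocallyOfFiniteType G.hom) (n : ℕ) :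
    Rep G (fun T => derivedSeries (T ⟶ G) n) := by
  induction n with
  | zero => exact rep_top G hG hG'
  | succ n ih => exact rep_comm G ih ih

theorem rep_lcs (G : Over (Spec (CommRingCat.of k))) [GrpObj G]
    (hG : GeometricallyReduced G.hom) (hG' : LocallyOfFiniteType G.hom) (n : ℕ) :
    Rep G (fun T => Subgroup.lowerCentralSeries (⊤ : Subgroup (T ⟶ G)) n) := by
  induction n with
  | zero => exact rep_top G hG hG'
  | succ n ih => exact rep_comm G ih (rep_top G hG hG')

theorem main5366 (k : Type u) [Field k] (G : Over (Spec (CommRingCat.of k))) [GrpObj G]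
    [Smooth G.hom] (Ω : Type u) [Field Ω] [Algebra k Ω] [IsAlgClosed Ω] (n : ℕ) :
    ((∀ T : Over (Spec (CommRingCat.of k)), derivedSeries (T ⟶ G) n = ⊥) ↔
      derivedSeries ((Over.mk (Spec.map (CommRingCat.ofHom (algebraMap k Ω))) :
        Over (Spec (CommRingCat.of k))) ⟶ G) n = ⊥) ∧
    ((∀ T : Over (Spec (CommRingCat.of k)),
        Subgroup.lowerCentralSeries (⊤ : Subgroup (T ⟶ G)) n = ⊥) ↔
      Subgroup.lowerCentralSeries (⊤ : Subgroup (((Over.mk (Spec.map (CommRingCat.ofHom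
        (algebraMap k Ω))) : Over (Spec (CommRingCat.of k))) ⟶ G))) n = ⊥) := by
  have hG : GeometricallyReduced G.hom := Groth.Agent.Lib.ActZeroDimH4.geomRed_of_smooth G.hom
  have hG' : LocallyOfFiniteType G.hom := inferInstance
  refine ⟨⟨fun h => h _, fun h T => ?_⟩, ⟨fun h => h _, fun h T => ?_⟩⟩
  · exact bot_of_points Ω G (fun T => derivedSeries (T ⟶ G) n) (rep_derived G hG hG' n) h T
  · exact bot_of_points Ω G (fun T => Subgroup.lowerCentralSeries (⊤ : Subgroup (T ⟶ G)) n)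
      (rep_lcs G hG hG' n) h T

end Groth.Agent.Lib.SolvPtsH4
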