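import Mathlib
import Groth.Prelude.Def_CAlg

/-!
# Chains of systems of parameters (helper5)

In a Noetherian local ring of dimension `d`, any two systems of parameters are connected by a chain
of systems of parameters, consecutive ones differing in only one coordinate.
-/

set_option autoImplicit false
universe u

namespace Groth.Agent.SopChain

open IsLocalRing

variable {A : Type u} [CommRing A] [IsNoetherianRing A] [IsLocalRing A] {d : ℕ}

def Sop (w : Fin d → A) : Prop :=
  (∀ i, w i ∈ maximalIdeal A) ∧ maximalIdeal A ≤ (Ideal.span (Set.range w)).radical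

def Step (x y : Fin d → A) : Prop := ∃ i : Fin d, ∀ i' : Fin d, i' ≠ i → x i' = y i'

def Chain (x y : Fin d → A) : Prop :=
  ∃ (m : ℕ) (w : Fin (m + 1) → Fin d → A), w 0 = x ∧ w (Fin.last m) = y ∧
    (∀ k : Fin (m + 1), Sop (w k)) ∧ ∀ k : Fin m, Step (w k.castSucc) (w k.succ)

omit [IsNoetherianRing A] in
theorem Chain.refl {x : Fin d → A} (hx : Sop x) : Chain x x :=
  ⟨0, fun _ => x, rfl, rfl, fun _ => hx, fun k => k.elim0⟩

omit [IsNoetherianRing A] in
theorem Chain.cons {x y z : Fin d → A} (hx : Sop x) (hxy : Step x y) (h : Chain y z) :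
    Chain x z := by
  obtain ⟨m, w, h0, hl, hs, hst⟩ := h
  refine ⟨m + 1, (Fin.cons x w : Fin (m + 1 + 1) → Fin d → A), ?_, ?_, ?_, ?_⟩
  · rfl
  · rw [← Fin.succ_last, Fin.cons_succ]
    exact hl
  · intro k
    induction k using Fin.cases with
    | zero => rw [Fin.cons_zero]; exact hx
    | succ k' => rw [Fin.cons_succ]; exact hs k'
  · intro k
    induction k using Fin.cases with
    | zero =>
      rw [Fin.castSucc_zero, Fin.cons_zero, Fin.cons_succ, h0]
      exact hxy
    | succ k' =>
      rw [← Fin.succ_castSucc, Fin.cons_succ, Fin.cons_succ]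
      exact hst k'

def R (x y : Fin d → A) : Prop := Sop x ∧ Sop y ∧ Step x y

omit [IsNoetherianRing A] in
theorem chain_of_rtg {x y : Fin d → A} (h : Relation.ReflTransGen R x y) (hy : Sop y) :
    Chain x y := by
  induction h using Relation.ReflTransGen.head_induction_on with
  | refl => exact Chain.refl hy
  | head h1 _ ih => exact Chain.cons h1.1 h1.2.2 ih

omit [IsNoetherianRing A] in
theorem mem_minimalPrimes_of_sop {u : Fin d → A} (hu : Sop u) :
    maximalIdeal A ∈ (Ideal.span (Set.range u)).minimalPrimes := by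
  refine ⟨⟨inferInstance, ?_⟩, ?_⟩
  · rw [Ideal.span_le]
    rintro _ ⟨i, rfl⟩
    exact hu.1 i
  · intro Q hQ _
    exact le_trans hu.2 ((Ideal.IsPrime.radical_le_iff hQ.1).2 hQ.2)

omit [IsNoetherianRing A] [IsLocalRing A] in
theorem insert_image_ne (u : Fin d → A) (jj : Fin d) :
    insert (u jj) (u '' {i | i ≠ jj}) = Set.range u := by
  ext a
  constructor
  · rintro (rfl | ⟨i, _, rfl⟩)
    · exact ⟨jj, rfl⟩
    · exact ⟨i, rfl⟩
  · rintro ⟨i, rfl⟩
    by_cases h : i = jj
    · left; rw [h]
    · right; exact ⟨i, h, rfl⟩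

theorem maximalIdeal_not_mem_minimalPrimes (hd : ringKrullDim A = d) (u : Fin d → A)
    (jj : Fin d) : maximalIdeal A ∉ (Ideal.span (u '' {i | i ≠ jj})).minimalPrimes := by
  intro hmem
  have hfin : (u '' {i | i ≠ jj}).Finite := Set.toFinite _
  have h1 := Ideal.height_le_card_of_mem_minimalPrimes_span hfin hmem
  have h2 : (u '' {i | i ≠ jj}).ncard ≤ ({i : Fin d | i ≠ jj}).ncard :=
    Set.ncard_image_le (Set.toFinite _)
  have h3 : ({i : Fin d | i ≠ jj}).ncard < d := by
    have := Set.ncard_lt_ncard (s := {i : Fin d | i ≠ jj}) (t := Set.univ)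
      ⟨Set.subset_univ _, fun h => (h (Set.mem_univ jj)) rfl⟩ (Set.toFinite _)
    rwa [Set.ncard_univ, Nat.card_fin] at this
  have h4 : (maximalIdeal A).height = (d : ℕ∞) := by
    have h5 := IsLocalRing.maximalIdeal_height_eq_ringKrullDim (R := A)
    rw [hd] at h5
    have h6 : ((d : ℕ) : WithBot ℕ∞) = ((d : ℕ∞) : WithBot ℕ∞) := rfl
    rw [h6] at h5
    exact WithBot.coe_injective h5
  rw [h4] at h1
  have h7 := Nat.cast_le.1 h1
  omega

theorem mem_minimalPrimes_of_ne {u : Fin d → A} (hu : Sop u) (jj : Fin d) (P : Ideal A)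
    [P.IsPrime] (hKP : Ideal.span (u '' {i | i ≠ jj}) ≤ P) (hP : P ≠ maximalIdeal A) :
    P ∈ (Ideal.span (u '' {i | i ≠ jj})).minimalPrimes := by
  have hlt : P < maximalIdeal A :=
    lt_of_le_of_ne (IsLocalRing.le_maximalIdeal Ideal.IsPrime.ne_top') hP
  have hm := mem_minimalPrimes_of_sop hu
  rw [← insert_image_ne u jj] at hm
  exact Ideal.mem_minimalPrimes_span_of_mem_minimalPrimes_span_insert hlt (u jj) _ hm _
    (Ideal.span_le.1 hKP)
    (fun a ha => Ideal.le_radical (Ideal.subset_span (Set.mem_insert_of_mem _ ha)))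

theorem sop_update {u : Fin d → A} (hu : Sop u) (jj : Fin d) (w : A)
    (hw : w ∈ maximalIdeal A)
    (hw' : ∀ P ∈ (Ideal.span (u '' {i | i ≠ jj})).minimalPrimes, w ∉ P) :
    Sop (Function.update u jj w) := by
  constructor
  · intro i
    by_cases h : i = jj
    · subst h
      rw [Function.update_self]
      exact hw
    · rw [Function.update_of_ne h]
      exact hu.1 i
  · rw [Ideal.radical_eq_sInf]
    refine le_sInf ?_
    rintro Q ⟨hQ, hQp⟩
    haveI := hQp
    by_contra hne
    have hQm : Q ≠ maximalIdeal A := fun h => hne h.ge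
    have hK : Ideal.span (u '' {i | i ≠ jj}) ≤ Q := by
      rw [Ideal.span_le]
      rintro _ ⟨i, hi, rfl⟩
      apply hQ
      apply Ideal.subset_span
      exact ⟨i, Function.update_of_ne hi _ _⟩
    have hmin := mem_minimalPrimes_of_ne hu jj Q hK hQm
    apply hw' Q hmin
    apply hQ
    apply Ideal.subset_span
    exact ⟨jj, Function.update_self _ _ _⟩

theorem exists_common (hd : ringKrullDim A = d) {u v : Fin d → A} (hu : Sop u) (hv : Sop v)
    (jj : Fin d) : ∃ w, Sop (Function.update u jj w) ∧ Sop (Function.update v jj w) := by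
  classical
  have hfu : (Ideal.span (u '' {i | i ≠ jj})).minimalPrimes.Finite :=
    Ideal.finite_minimalPrimes_of_isNoetherianRing A _
  have hfv : (Ideal.span (v '' {i | i ≠ jj})).minimalPrimes.Finite :=
    Ideal.finite_minimalPrimes_of_isNoetherianRing A _
  let T : Finset (Ideal A) := hfu.toFinset ∪ hfv.toFinset
  have hT : ∀ P ∈ T, P.IsPrime ∧ P ≠ maximalIdeal A := by
    intro P hP
    rcases Finset.mem_union.1 hP with h | h
    · have h' := hfu.mem_toFinset.1 h
      refine ⟨h'.1.1, fun e => maximalIdeal_not_mem_minimalPrimes hd u jj ?_⟩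
      rw [← e]
      exact h'
    · have h' := hfv.mem_toFinset.1 h
      refine ⟨h'.1.1, fun e => maximalIdeal_not_mem_minimalPrimes hd v jj ?_⟩
      rw [← e]
      exact h'
  have hex : ∃ w ∈ maximalIdeal A, ∀ P ∈ T, w ∉ P := by
    by_contra hcon
    push Not at hcon
    have hsub : ((maximalIdeal A : Ideal A) : Set A) ⊆
        ⋃ P ∈ (T : Set (Ideal A)), ((fun P : Ideal A => P) P : Set A) := by
      intro w hw
      obtain ⟨P, hPT, hwP⟩ := hcon w hw
      exact Set.mem_biUnion hPT hwP
    obtain ⟨P, hPT, hmP⟩ := (Ideal.subset_union_prime (f := fun P : Ideal A => P)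
      (maximalIdeal A) (maximalIdeal A) (fun P hP _ _ => (hT P hP).1)).1 hsub
    have h8 := hT P hPT
    exact h8.2 (le_antisymm (IsLocalRing.le_maximalIdeal h8.1.ne_top) hmP)
  obtain ⟨w, hwm, hwT⟩ := hex
  refine ⟨w, sop_update hu jj w hwm ?_, sop_update hv jj w hwm ?_⟩
  · intro P hP
    exact hwT P (Finset.mem_union_left _ (hfu.mem_toFinset.2 hP))
  · intro P hP
    exact hwT P (Finset.mem_union_right _ (hfv.mem_toFinset.2 hP))

theorem rtg_of_agree (hd : ringKrullDim A = d) :
    ∀ (n j : ℕ), j + n = d → ∀ u v : Fin d → A, Sop u → Sop v →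
      (∀ i : Fin d, i.val < j → u i = v i) → Relation.ReflTransGen R u v := by
  intro n
  induction n with
  | zero =>
    intro j hj u v hu hv hagree
    have huv : u = v := funext fun i => hagree i (by have := i.isLt; omega)
    rw [huv]
  | succ n ih =>
    intro j hj u v hu hv hagree
    have hjd : j < d := by omega
    obtain ⟨w, hu', hv'⟩ := exists_common hd hu hv ⟨j, hjd⟩
    have hstep_u : Step u (Function.update u ⟨j, hjd⟩ w) :=
      ⟨⟨j, hjd⟩, fun i' hi' => (Function.update_of_ne hi' _ _).symm⟩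
    have hstep_v : Step (Function.update v ⟨j, hjd⟩ w) v :=
      ⟨⟨j, hjd⟩, fun i' hi' => Function.update_of_ne hi' _ _⟩
    have hmid := ih (j + 1) (by omega) _ _ hu' hv' (by
      intro i hi
      by_cases h : i = ⟨j, hjd⟩
      · rw [h, Function.update_self, Function.update_self]
      · rw [Function.update_of_ne h, Function.update_of_ne h]
        apply hagree
        have hne : i.val ≠ j := fun e => h (Fin.ext e)
        omega)
    exact (Relation.ReflTransGen.single ⟨hu, hu', hstep_u⟩).trans
      (hmid.trans (Relation.ReflTransGen.single ⟨hv', hv, hstep_v⟩))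

theorem exists_chain (hd : ringKrullDim A = d) (u v : Fin d → A) (hu : Sop u) (hv : Sop v) :
    Chain u v :=
  chain_of_rtg (rtg_of_agree hd d 0 (by omega) u v hu hv
    (fun i hi => absurd hi (Nat.not_lt_zero _))) hv

end Groth.Agent.SopChain
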