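import Mathlib
import Groth.Agent.S5767

/-!
# S5768: extending elements of the Jacobson radical to a system of parameters (lead)
-/

set_option autoImplicit false
universe u

namespace Groth.Agent.Lib.SopExtend

open Pointwise

variable {A : Type u} [CommRing A]

/-! ### arithmetic in `WithBot ℕ∞` -/

theorem add_one_cancel {a : WithBot ℕ∞} (ha : a = ⊥ ∨ ∃ n : ℕ, a = (n : WithBot ℕ∞)) {d : ℕ}
    (h : a + 1 = ((d + 1 : ℕ) : WithBot ℕ∞)) : a = (d : WithBot ℕ∞) := by
  rcases ha with rfl | ⟨n, rfl⟩
  · rw [WithBot.bot_add] at h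
    exact absurd h.symm (WithBot.natCast_ne_bot _)
  · have h1 : n + 1 = d + 1 := by exact_mod_cast h
    have h2 : n = d := by omega
    rw [h2]

theorem sandwich {a : WithBot ℕ∞} (ha : a = ⊥ ∨ ∃ n : ℕ, a = (n : WithBot ℕ∞)) {k l : ℕ}
    (h1 : a ≤ (l : WithBot ℕ∞)) (h2 : ((k + l : ℕ) : WithBot ℕ∞) ≤ a + (k : WithBot ℕ∞)) :
    a + (k : WithBot ℕ∞) = ((k + l : ℕ) : WithBot ℕ∞) := by
  rcases ha with rfl | ⟨n, rfl⟩
  · rw [WithBot.bot_add] at h2
    exact absurd h2 (not_le_of_gt (WithBot.bot_lt_coe _))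
  · have h1' : n ≤ l := by exact_mod_cast h1
    have h2' : k + l ≤ n + k := by exact_mod_cast h2
    have h3 : n = l := by omega
    subst h3
    exact_mod_cast (Nat.add_comm n k)

/-! ### dimension facts -/

theorem dim_eq_of_support_eq {N₁ N₂ : Type*} [AddCommGroup N₁] [Module A N₁] [AddCommGroup N₂]
    [Module A N₂] (h : Module.support A N₁ = Module.support A N₂) :
    Module.supportDim A N₁ = Module.supportDim A N₂ := by
  unfold Module.supportDim
  rw [h]

theorem dim_lt_top (A : Type u) [CommRing A] [IsNoetherianRing A] [Finite (MaximalSpectrum A)] :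
    ringKrullDim A < ⊤ := by
  rcases isEmpty_or_nonempty (MaximalSpectrum A) with hE | hNE
  · refine lt_of_le_of_lt ((ringKrullDim_le_iff_isMaximal_height_le
      (((0 : ℕ) : ℕ∞) : WithBot ℕ∞)).mpr ?_)
      (lt_of_lt_of_eq (WithBot.coe_lt_coe.mpr (ENat.natCast_lt_top 0)) WithBot.coe_top)
    intro m hm
    exact (hE.false ⟨m, hm⟩).elim
  · obtain ⟨m₀, hm₀⟩ := Finite.exists_max (fun m : MaximalSpectrum A => m.asIdeal.height)
    refine lt_of_le_of_lt ((ringKrullDim_le_iff_isMaximal_height_le
      ((m₀.asIdeal.height : ℕ∞) : WithBot ℕ∞)).mpr ?_)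
      (lt_of_lt_of_eq (WithBot.coe_lt_coe.mpr (Ideal.height_lt_top m₀.isMaximal.ne_top))
        WithBot.coe_top)
    intro m hm
    exact WithBot.coe_le_coe.mpr (hm₀ ⟨m, hm⟩)

theorem dim_cases [IsNoetherianRing A] [Finite (MaximalSpectrum A)]
    (N : Type*) [AddCommGroup N] [Module A N] :
    Module.supportDim A N = ⊥ ∨ ∃ n : ℕ, Module.supportDim A N = (n : WithBot ℕ∞) := by
  have hfinM : Module.supportDim A N < ⊤ :=
    lt_of_le_of_lt (Module.supportDim_le_ringKrullDim A N) (dim_lt_top A)
  by_cases hbot : Module.supportDim A N = ⊥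
  · exact Or.inl hbot
  · right
    obtain ⟨e, he⟩ := WithBot.ne_bot_iff_exists.mp hbot
    have : e ≠ ⊤ := by rintro rfl; exact (ne_of_lt hfinM) he.symm
    obtain ⟨n, rfl⟩ := ENat.ne_top_iff_exists.mp this
    exact ⟨n, he.symm⟩

theorem quot_dim_le (N : Type*) [AddCommGroup N] [Module A N] (p : PrimeSpectrum A)
    (hp : p ∈ Module.support A N) :
    ringKrullDim (A ⧸ p.asIdeal) ≤ Module.supportDim A N := by
  rw [ringKrullDim_quotient]
  unfold Module.supportDim
  let f : PrimeSpectrum.zeroLocus (p.asIdeal : Set A) → Module.support A N := fun q =>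
    ⟨q.1, Module.mem_support_mono
      (show p.asIdeal ≤ q.1.asIdeal from fun a ha => (PrimeSpectrum.mem_zeroLocus _ _).mp q.2 ha) hp⟩
  exact Order.krullDim_le_of_strictMono f (fun a b hab => hab)

theorem quot_dim_eq_coheight (p : PrimeSpectrum A) :
    ringKrullDim (A ⧸ p.asIdeal) = (Order.coheight p : WithBot ℕ∞) := by
  rw [ringKrullDim_quotient, Order.coheight_eq_krullDim_Ici]
  have : PrimeSpectrum.zeroLocus (p.asIdeal : Set A) = Set.Ici p := by
    ext x
    rw [PrimeSpectrum.mem_zeroLocus, Set.mem_Ici]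
    rfl
  rw [this]

theorem quot_dim_lt {q p : PrimeSpectrum A} (h : q < p) :
    ringKrullDim (A ⧸ p.asIdeal) + 1 ≤ ringKrullDim (A ⧸ q.asIdeal) := by
  rw [quot_dim_eq_coheight, quot_dim_eq_coheight]
  have := Order.coheight_add_one_le h
  exact_mod_cast this

/-! ### finite length and dimension zero -/

theorem support_isMaximal_of_isFiniteLength {N : Type*} [AddCommGroup N] [Module A N]
    (h : IsFiniteLength A N) : ∀ p ∈ Module.support A N, p.asIdeal.IsMaximal := by
  induction h with
  | of_subsingleton =>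
    intro p hp
    rw [Module.support_eq_empty] at hp
    exact absurd hp (Set.notMem_empty _)
  | @of_simple_quotient N _ _ S _ _ ih =>
    intro p hp
    rw [Module.support_of_exact (LinearMap.exact_subtype_mkQ S) Subtype.val_injective
      (Submodule.mkQ_surjective S)] at hp
    rcases hp with hp | hp
    · exact ih p hp
    · obtain ⟨m, hm, ⟨e⟩⟩ := isSimpleModule_iff_quot_maximal.mp
        (inferInstance : IsSimpleModule A (N ⧸ S))
      rw [e.support_eq] at hp
      have hle : m ≤ p.asIdeal := by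
        refine le_trans ?_ (Module.annihilator_le_of_mem_support hp)
        intro a ha
        rw [Submodule.annihilator_quotient, Submodule.mem_colon]
        intro x _
        exact m.mul_mem_right x ha
      have hmp : m = p.asIdeal := hm.eq_of_le p.isPrime.ne_top hle
      exact hmp ▸ hm

theorem dim_le_zero_of_isFiniteLength (N : Type*) [AddCommGroup N] [Module A N]
    (h : IsFiniteLength A N) : Module.supportDim A N ≤ 0 := by
  have hall := support_isMaximal_of_isFiniteLength h
  unfold Module.supportDim Order.krullDim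
  refine iSup_le fun l => ?_
  rcases Nat.eq_zero_or_pos l.length with h0 | hpos
  · rw [h0]; exact le_of_eq (by norm_cast)
  · exfalso
    have hlt : l 0 < l (Fin.last _) := l.strictMono (by
      rw [Fin.lt_def]; simpa using hpos)
    have hmax := hall (l 0).1 (l 0).2
    have hle : (l 0).1.asIdeal ≤ (l (Fin.last _)).1.asIdeal := hlt.le
    have heq := hmax.eq_of_le (l (Fin.last _)).1.isPrime.ne_top hle
    exact hlt.ne (Subtype.ext (PrimeSpectrum.ext heq))

theorem isFiniteLength_of_dim_le_zero [IsNoetherianRing A] (N : Type*) [AddCommGroup N]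
    [Module A N] [Module.Finite A N] (h : Module.supportDim A N ≤ 0) : IsFiniteLength A N := by
  rw [isFiniteLength_iff_isNoetherian_isArtinian]
  refine ⟨inferInstance, ?_⟩
  rw [Module.supportDim_eq_ringKrullDim_quotient_annihilator] at h
  letI : Module (A ⧸ Module.annihilator A N) N := Module.quotientAnnihilator
  haveI : Ring.KrullDimLE 0 (A ⧸ Module.annihilator A N) := by
    rw [Ring.krullDimLE_iff]; exact_mod_cast h
  haveI : IsArtinianRing (A ⧸ Module.annihilator A N) :=
    isArtinianRing_iff_isNoetherianRing_krullDimLE_zero.mpr ⟨inferInstance, inferInstance⟩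
  haveI : IsScalarTower A (A ⧸ Module.annihilator A N) N :=
    IsScalarTower.of_algebraMap_smul (fun a x => rfl)
  haveI : Module.Finite (A ⧸ Module.annihilator A N) N :=
    Module.Finite.of_restrictScalars_finite A _ _
  haveI : IsArtinian (A ⧸ Module.annihilator A N) N := inferInstance
  exact isArtinian_of_surjective_algebraMap (R := A ⧸ Module.annihilator A N) (S := A) (M := N)
    Ideal.Quotient.mk_surjective

/-! ### one step -/

section Step

variable [IsNoetherianRing A] (M : Type u) [AddCommGroup M] [Module A M] [Module.Finite A M]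

theorem dim_quotSMulTop_eq (I : Ideal A) (y : A) :
    Module.supportDim A (QuotSMulTop y (M ⧸ I • (⊤ : Submodule A M))) =
      Module.supportDim A (M ⧸ (I ⊔ Ideal.span {y}) • (⊤ : Submodule A M)) := by
  apply dim_eq_of_support_eq
  rw [Module.support_quotSMulTop, Module.support_quotient, Module.support_quotient,
    Set.inter_assoc, PrimeSpectrum.zeroLocus_sup, PrimeSpectrum.zeroLocus_span]

theorem dim_le_step (I : Ideal A) (y : A) (hy : y ∈ Ring.jacobson A) :
    Module.supportDim A (M ⧸ I • (⊤ : Submodule A M)) ≤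
      Module.supportDim A (M ⧸ (I ⊔ Ideal.span {y}) • (⊤ : Submodule A M)) + 1 := by
  have h := Module.supportDim_le_supportDim_quotSMulTop_succ_of_mem_jacobson (R := A)
    (M := M ⧸ I • (⊤ : Submodule A M)) (x := y) (Ideal.ringJacobson_le_jacobson hy)
  rwa [dim_quotSMulTop_eq] at h

theorem dim_le_add_length : ∀ (ys : List A), (∀ y ∈ ys, y ∈ Ring.jacobson A) → ∀ I : Ideal A,
    Module.supportDim A (M ⧸ I • (⊤ : Submodule A M)) ≤
      Module.supportDim A (M ⧸ (I ⊔ Ideal.ofList ys) • (⊤ : Submodule A M)) +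
        (ys.length : WithBot ℕ∞) := by
  intro ys
  induction ys with
  | nil =>
    intro _ I
    rw [Ideal.ofList_nil, sup_bot_eq, List.length_nil, Nat.cast_zero, add_zero]
  | cons y ys ih =>
    intro hJ I
    have h1 := dim_le_step M I y (hJ y List.mem_cons_self)
    have h2 := ih (fun z hz => hJ z (List.mem_cons_of_mem _ hz)) (I ⊔ Ideal.span {y})
    rw [Ideal.ofList_cons, ← sup_assoc, List.length_cons, Nat.cast_succ]
    calc Module.supportDim A (M ⧸ I • (⊤ : Submodule A M))
        ≤ Module.supportDim A (M ⧸ (I ⊔ Ideal.span {y}) • (⊤ : Submodule A M)) + 1 := h1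
      _ ≤ (Module.supportDim A (M ⧸ (I ⊔ Ideal.span {y} ⊔ Ideal.ofList ys) •
            (⊤ : Submodule A M)) + (ys.length : WithBot ℕ∞)) + 1 := add_le_add h2 le_rfl
      _ = _ := add_assoc _ _ _

end Step

/-! ### choosing a parameter -/

theorem isMaximal_of_jacobson_le [Finite (MaximalSpectrum A)] (q : Ideal A) [q.IsPrime]
    (h : Ring.jacobson A ≤ q) : q.IsMaximal := by
  classical
  have hfin : {I : Ideal A | I.IsMaximal}.Finite :=
    (Set.finite_range (MaximalSpectrum.asIdeal (R := A))).subset (fun I hI => ⟨⟨I, hI⟩, rfl⟩)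
  have hJ : Ring.jacobson A = hfin.toFinset.inf id := by
    rw [Ring.jacobson_eq_sInf_isMaximal, Finset.inf_id_eq_sInf, Set.Finite.coe_toFinset]
  rw [hJ] at h
  obtain ⟨m, hm, hmq⟩ := (Ideal.IsPrime.inf_le' (inferInstance : q.IsPrime)).mp h
  have hmmax : m.IsMaximal := hfin.mem_toFinset.mp hm
  have hmq' : m = q := hmmax.eq_of_le (Ideal.IsPrime.ne_top inferInstance) hmq
  exact hmq' ▸ hmmax

theorem exists_good_element [IsNoetherianRing A] [Finite (MaximalSpectrum A)]
    (N : Type u) [AddCommGroup N] [Module A N] [Module.Finite A N] (d : ℕ)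
    (h : Module.supportDim A N = ((d + 1 : ℕ) : WithBot ℕ∞)) :
    ∃ y ∈ Ring.jacobson A, Module.supportDim A (QuotSMulTop y N) = (d : WithBot ℕ∞) := by
  classical
  have hTfin : {q : Ideal A | q ∈ (Module.annihilator A N).minimalPrimes ∧
      ¬ q.IsMaximal}.Finite :=
    (Ideal.finite_minimalPrimes_of_isNoetherianRing A _).subset (fun q hq => hq.1)
  have hex : ∃ y ∈ Ring.jacobson A, ∀ q ∈ (Module.annihilator A N).minimalPrimes,
      ¬ q.IsMaximal → y ∉ q := by
    by_contra hcon
    push_neg at hcon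
    have key := (Ideal.subset_union_prime (R := A) (s := hTfin.toFinset)
      (f := fun q : Ideal A => q) ⊥ ⊥
      (fun q hq _ _ => (hTfin.mem_toFinset.mp hq).1.1.1)
      (I := Ring.jacobson A)).mp
      (by
        intro y hy
        obtain ⟨q, hq, hqm, hyq⟩ := hcon y hy
        simp only [Set.mem_iUnion, Finset.mem_coe, Set.Finite.mem_toFinset, Set.mem_setOf_eq,
          SetLike.mem_coe]
        exact ⟨q, ⟨hq, hqm⟩, hyq⟩)
    obtain ⟨q, hqT, hJq⟩ := key
    obtain ⟨hqmin, hqnm⟩ := hTfin.mem_toFinset.mp hqT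
    haveI : q.IsPrime := hqmin.1.1
    exact hqnm (isMaximal_of_jacobson_le q hJq)
  obtain ⟨y, hyJ, hy⟩ := hex
  refine ⟨y, hyJ, ?_⟩
  have h5767 := (Groth.Agent.S5767.result A N y hyJ).mpr ?_
  · rw [h] at h5767
    exact add_one_cancel (dim_cases _) h5767
  · intro p hp hdim hyp
    have hann : Module.annihilator A N ≤ p.asIdeal := Module.mem_support_iff_of_finite.mp hp
    obtain ⟨q, hqmin, hqp⟩ := Ideal.exists_minimalPrimes_le hann
    haveI hqprime : q.IsPrime := hqmin.1.1
    by_cases hqmax : q.IsMaximal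
    · have hqp' : q = p.asIdeal := hqmax.eq_of_le p.isPrime.ne_top hqp
      have h0 : ringKrullDim (A ⧸ p.asIdeal) = 0 := by
        haveI : p.asIdeal.IsMaximal := hqp' ▸ hqmax
        exact @ringKrullDim_eq_zero_of_field (A ⧸ p.asIdeal) (Ideal.Quotient.field p.asIdeal)
      rw [h0, h] at hdim
      have : (0 : ℕ) = d + 1 := by exact_mod_cast hdim
      omega
    · have hyq : y ∉ q := hy q hqmin hqmax
      have hle : (⟨q, hqprime⟩ : PrimeSpectrum A) ≤ p := hqp
      have hlt : (⟨q, hqprime⟩ : PrimeSpectrum A) < p :=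
        lt_of_le_of_ne hle (fun heq => hyq (by
          have : q = p.asIdeal := congrArg PrimeSpectrum.asIdeal heq
          rw [this]; exact hyp))
      have hqs : (⟨q, hqprime⟩ : PrimeSpectrum A) ∈ Module.support A N :=
        Module.mem_support_iff_of_finite.mpr hqmin.1.2
      have h1 := quot_dim_le N _ hqs
      have h2 := quot_dim_lt hlt
      rw [hdim] at h2
      rw [h] at h1 h2
      have h3 := h2.trans h1
      have : d + 1 + 1 ≤ d + 1 := by exact_mod_cast h3
      omega

/-! ### existence of the extension -/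

theorem exists_sop [IsNoetherianRing A] [Finite (MaximalSpectrum A)]
    (M : Type u) [AddCommGroup M] [Module A M] [Module.Finite A M] :
    ∀ (d : ℕ) (I : Ideal A),
      Module.supportDim A (M ⧸ I • (⊤ : Submodule A M)) = (d : WithBot ℕ∞) →
      ∃ ys : List A, (∀ y ∈ ys, y ∈ Ring.jacobson A) ∧ ys.length = d ∧
        Module.supportDim A (M ⧸ (I ⊔ Ideal.ofList ys) • (⊤ : Submodule A M)) ≤ 0 := by
  intro d
  induction d with
  | zero =>
    intro I h
    refine ⟨[], by simp, rfl, ?_⟩
    rw [Ideal.ofList_nil, sup_bot_eq, h]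
    exact le_of_eq (by norm_cast)
  | succ d ih =>
    intro I h
    obtain ⟨y, hyJ, hy⟩ := exists_good_element (M ⧸ I • (⊤ : Submodule A M)) d h
    rw [dim_quotSMulTop_eq] at hy
    obtain ⟨ys, hys, hlen, hdim⟩ := ih (I ⊔ Ideal.span {y}) hy
    refine ⟨y :: ys, ?_, by simp [hlen], ?_⟩
    · intro z hz
      rcases List.mem_cons.mp hz with rfl | hz
      · exact hyJ
      · exact hys z hz
    · rw [Ideal.ofList_cons, ← sup_assoc]; exact hdim

theorem main (A : Type u) [CommRing A]
    [IsNoetherianRing A] [Finite (MaximalSpectrum A)] (M : Type u) [AddCommGroup M] [Module A M]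
    [Module.Finite A M] [Nontrivial M] (xs : List A) (hxs : ∀ x ∈ xs, x ∈ Ring.jacobson A) :
    Module.supportDim A (M ⧸ (Ideal.ofList xs • (⊤ : Submodule A M))) + xs.length =
        Module.supportDim A M ↔
      ∃ ys : List A, (∀ y ∈ ys, y ∈ Ring.jacobson A) ∧
        ((xs ++ ys).length : WithBot ℕ∞) = Module.supportDim A M ∧
        IsFiniteLength A (M ⧸ (Ideal.ofList (xs ++ ys) • (⊤ : Submodule A M))) := by
  have hbotM : Module.supportDim A (M ⧸ ((⊥ : Ideal A) • (⊤ : Submodule A M))) =
      Module.supportDim A M := by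
    apply dim_eq_of_support_eq
    rw [Module.support_quotient, PrimeSpectrum.zeroLocus_bot, Set.inter_univ]
  have hM_le : Module.supportDim A M ≤
      Module.supportDim A (M ⧸ (Ideal.ofList xs • (⊤ : Submodule A M))) +
        (xs.length : WithBot ℕ∞) := by
    have := dim_le_add_length M xs hxs ⊥
    rwa [hbotM, bot_sup_eq] at this
  constructor
  · intro h
    rcases dim_cases (A := A) (M ⧸ (Ideal.ofList xs • (⊤ : Submodule A M))) with hb | ⟨d', hd'⟩
    · exfalso
      rw [hb, WithBot.bot_add] at h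
      exact Module.supportDim_ne_bot_of_nontrivial A M h.symm
    · obtain ⟨ys, hys, hlen, hdim⟩ := exists_sop M d' (Ideal.ofList xs) hd'
      refine ⟨ys, hys, ?_, ?_⟩
      · rw [← h, hd', List.length_append, hlen]
        exact_mod_cast (Nat.add_comm xs.length d')
      · rw [Ideal.ofList_append]
        exact isFiniteLength_of_dim_le_zero _ hdim
  · rintro ⟨ys, hys, hlen, hfl⟩
    have h0 : Module.supportDim A
        (M ⧸ ((Ideal.ofList xs ⊔ Ideal.ofList ys) • (⊤ : Submodule A M))) ≤ 0 := by
      rw [← Ideal.ofList_append]; exact dim_le_zero_of_isFiniteLength _ hfl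
    have h1 : Module.supportDim A (M ⧸ (Ideal.ofList xs • (⊤ : Submodule A M))) ≤
        (ys.length : WithBot ℕ∞) := by
      have := dim_le_add_length M ys hys (Ideal.ofList xs)
      calc _ ≤ _ := this
        _ ≤ 0 + (ys.length : WithBot ℕ∞) := add_le_add h0 le_rfl
        _ = _ := zero_add _
    rw [List.length_append] at hlen
    have h2 : ((xs.length + ys.length : ℕ) : WithBot ℕ∞) ≤
        Module.supportDim A (M ⧸ (Ideal.ofList xs • (⊤ : Submodule A M))) +
          (xs.length : WithBot ℕ∞) := by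
      rw [hlen]; exact hM_le
    rw [sandwich (dim_cases _) h1 h2]
    exact hlen

end Groth.Agent.Lib.SopExtend
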