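import Mathlib
import Groth.Prelude.Def_AlgSp3
import Groth.Agent.Lib.SpCoprod4_helper7

set_option autoImplicit false

/-! Finite coproducts of sheaves finite over a base are finite over it. -/

namespace Groth.Agent.Lib.SpCoprodFinH7
open CategoryTheory CategoryTheory.Limits AlgebraicGeometry Opposite AlgSp TopologicalSpace
open Groth.Agent.Lib.SpCoprodH7 Groth.Agent.Lib.SpCoprod2H7 Groth.Agent.Lib.SpCoprod3H7
  Groth.Agent.Lib.SpCoprod4H7
universe u

section Fin

/-- A finite coproduct of affine schemes finite over an affine scheme is finite over it. -/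
lemma isFinite_sigmaDesc {ι : Type u} [Finite ι] {Z : Scheme.{u}} [IsAffine Z]
    (W : ι → Scheme.{u}) [∀ k, IsAffine (W k)] (f : ∀ k, W k ⟶ Z) (hf : ∀ k, IsFinite (f k)) :
    IsFinite (Sigma.desc f) := by
  classical
  cases nonempty_fintype ι
  rw [IsFinite.iff_isIntegralHom_and_locallyOfFiniteType]
  refine ⟨?_, IsZariskiLocalAtSource.sigmaDesc (fun k => inferInstance)⟩
  rw [HasAffineProperty.iff_of_isAffine (P := @IsIntegralHom)]
  refine ⟨inferInstance, ?_⟩
  intro s
  have hcomp : ∀ k, ((Sigma.ι W k).appTop.hom).comp ((Sigma.desc f).appTop.hom) =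
      (f k).appTop.hom := fun k => by
    rw [← CommRingCat.hom_comp, ← Scheme.Hom.comp_appTop, Sigma.ι_desc]
  have hk : ∀ k, ((f k).appTop.hom).IsIntegralElem ((Sigma.ι W k).appTop.hom s) := fun k => by
    have h1 : IsIntegralHom (f k) := inferInstance
    have h2 := (HasAffineProperty.iff_of_isAffine (P := @IsIntegralHom)).1 h1
    exact h2.2 _
  choose p hp hp0 using hk
  refine ⟨∏ k, p k, Polynomial.monic_prod_of_monic _ _ (fun k _ => hp k), ?_⟩
  have key : ∀ k : ι, (Sigma.ι W k).appTop.hom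
      (Polynomial.eval₂ ((Sigma.desc f).appTop.hom) s (∏ k, p k)) = 0 := fun k => by
    rw [Polynomial.hom_eval₂, hcomp k, Polynomial.eval₂_finset_prod]
    exact Finset.prod_eq_zero (Finset.mem_univ k) (hp0 k)
  exact Scheme.zero_of_zero_cover _ (sigmaOpenCover W) (fun k => key k)

end Fin

section VK

variable {S : Scheme.{u}} {ι : Type u} [HasColimitsOfShape (Discrete ι) (Type (u + 1))]
  {X : ι → Sp S} (c : Cofan X) (hc : IsColimit c) {Y : Sp S} (d : c.pt ⟶ Y) {Z : Over S}
  (g : (yon S).obj Z ⟶ Y) (W : ι → Over S) (j : ∀ k, W k ⟶ Z)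
  (fst : ∀ k, (yon S).obj (W k) ⟶ X k)
  (hfst : ∀ k, IsPullback (fst k) ((yon S).map (j k)) (c.inj k ≫ d) g)

include hc hfst in
/-- The base change of a coproduct of sheaves along a map from a representable sheaf is the
coproduct of the base changes of the summands. -/
theorem exists_isPullback_sigma_desc :
    ∃ fstσ : (yon S).obj (sigmaOver W) ⟶ c.pt,
      IsPullback fstσ ((yon S).map (sigmaOverDesc W j)) d g := by
  obtain ⟨hW⟩ := isColimit_yon_sigma W
  let a : ∀ k, (yon S).obj (W k) ⟶ pullback d g := fun k =>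
    pullback.lift (fst k ≫ c.inj k) ((yon S).map (j k))
      (by rw [Category.assoc]; exact (hfst k).w)
  have ha1 : ∀ k, a k ≫ pullback.fst d g = fst k ≫ c.inj k := fun k => pullback.lift_fst _ _ _
  have ha2 : ∀ k, a k ≫ pullback.snd d g = (yon S).map (j k) := fun k => pullback.lift_snd _ _ _
  have sq : ∀ k, IsPullback (a k) (fst k) (pullback.fst d g) (c.inj k) := fun k => by
    refine IsPullback.of_right ?_ (ha1 k) (IsPullback.of_hasPullback d g).flip
    rw [ha2 k]
    exact (hfst k).flip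
  have hP : Nonempty (IsColimit (Cofan.mk (pullback d g) a)) := by
    refine ((sp_cofan_isVanKampen S c hc) (Cofan.mk (pullback d g) a)
      (Discrete.natTrans (fun k => fst k.as)) (pullback.fst d g) ?_ (.of_discrete _)).2 ?_
    · refine NatTrans.ext ?_
      funext ⟨k⟩
      exact (ha1 k).symm
    · rintro ⟨k⟩
      exact sq k
  obtain ⟨hP⟩ := hP
  let e := hW.coconePointUniqueUpToIso hP
  have he : ∀ k, (yon S).map (sigmaOverι W k) ≫ e.hom = a k := fun k =>
    hW.comp_coconePointUniqueUpToIso_hom hP ⟨k⟩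
  have he2 : e.hom ≫ pullback.snd d g = (yon S).map (sigmaOverDesc W j) := by
    refine Cofan.IsColimit.hom_ext hW _ _ (fun k => ?_)
    show (yon S).map (sigmaOverι W k) ≫ e.hom ≫ pullback.snd d g =
      (yon S).map (sigmaOverι W k) ≫ (yon S).map (sigmaOverDesc W j)
    rw [← Category.assoc, he k, ha2 k, ← Functor.map_comp, sigmaOverι_desc]
  refine ⟨e.hom ≫ pullback.fst d g, ?_⟩
  refine IsPullback.of_iso (IsPullback.of_hasPullback d g) e.symm (Iso.refl _) (Iso.refl _)
    (Iso.refl _) ?_ ?_ ?_ ?_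
  · simp
  · rw [← he2]; simp
  · simp
  · simp

include hc in
theorem isFiniteMor_of_forall_inj [Finite ι] (hg : ∀ k, IsFiniteMor (c.inj k ≫ d)) :
    IsFiniteMor d := by
  intro Z hZ g
  choose W j fst hpb hWaff hfin using fun k => hg k hZ g
  obtain ⟨fstσ, hσ⟩ := exists_isPullback_sigma_desc c hc d g W j fst hpb
  refine ⟨sigmaOver W, sigmaOverDesc W j, fstσ, hσ, ?_, ?_⟩
  · haveI := hWaff
    show IsAffine (∐ fun k => (W k).left)
    infer_instance
  · haveI := hZ
    haveI := hWaff
    show IsFinite (Sigma.desc (fun k => (j k).left))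
    exact isFinite_sigmaDesc _ _ hfin

end VK

/-- The `Fin n`-indexed version. -/
theorem isFiniteMor_of_forall_inj_fin {S : Scheme.{u}} {n : ℕ} {X : Fin n → Sp S}
    (c : Cofan X) (hc : IsColimit c) {Y : Sp S} (d : c.pt ⟶ Y)
    (hg : ∀ k, IsFiniteMor (c.inj k ≫ d)) : IsFiniteMor d := by
  let c' : Cofan (fun k : ULift.{u} (Fin n) => X k.down) := Cofan.mk c.pt (fun k => c.inj k.down)
  have hc' : IsColimit c' :=
    mkCofanColimit _ (fun t => Cofan.IsColimit.desc hc (fun i => t.inj ⟨i⟩))
      (fun t k => by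
        show c.inj k.down ≫ _ = _
        rw [Cofan.IsColimit.fac])
      (fun t m hm => Cofan.IsColimit.hom_ext hc _ _ (fun i => by
        rw [Cofan.IsColimit.fac]; exact hm ⟨i⟩))
  exact isFiniteMor_of_forall_inj c' hc' d (fun k => hg k.down)

end Groth.Agent.Lib.SpCoprodFinH7
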