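import Groth.Statements.S14355

set_option autoImplicit false
set_option linter.unusedSimpArgs false
set_option linter.unusedVariables false
set_option linter.unusedSectionVars false
set_option linter.style.longLine false
set_option linter.unnecessarySimpa false
set_option maxHeartbeats 1600000

universe v u

open CategoryTheory CategoryTheory.Limits

namespace Groth.Agent.Lib.SpSeq14355

variable {C : Type u} [Category.{v} C] [Abelian C]

lemma homologyMap_eq_zero {ι : Type*} {c : ComplexShape ι} {K L : HomologicalComplex C c}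
    (f : K ⟶ L) (i : ι) (h : f.f i = 0) : HomologicalComplex.homologyMap f i = 0 := by
  have h1 : HomologicalComplex.cyclesMap f i = 0 := by
    rw [← cancel_mono (L.iCycles i)]
    rw [HomologicalComplex.cyclesMap_i, h, comp_zero, zero_comp]
  rw [← cancel_epi (K.homologyπ i)]
  rw [HomologicalComplex.homologyπ_naturality, h1, zero_comp, comp_zero]

lemma isZero_page_of_isZero {r₀ : ℤ} (E : CohomologicalSpectralSequence C r₀) (pq : ℤ × ℤ)
    (h : IsZero ((E.page r₀ le_rfl).X pq)) :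
    ∀ (r : ℤ) (hr : r₀ ≤ r), IsZero ((E.page r hr).X pq) := by
  intro r hr
  induction r, hr using Int.le_induction with
  | base => exact h
  | succ r hr ih =>
    refine IsZero.of_iso ?_ (E.iso r (r + 1) pq rfl hr).symm
    have h2 : IsZero ((E.page r hr).sc pq).X₂ := ih
    exact (ShortComplex.exact_iff_isZero_homology _).1 (ShortComplex.exact_of_isZero_X₂ _ h2)

lemma hom_f_eq_zero {r₀ : ℤ} {E E' : CohomologicalSpectralSequence C r₀} (φ : E ⟶ E')
    (pq : ℤ × ℤ) (h : (φ.hom r₀ le_rfl).f pq = 0) :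
    ∀ (r : ℤ) (hr : r₀ ≤ r), (φ.hom r hr).f pq = 0 := by
  intro r hr
  induction r, hr using Int.le_induction with
  | base => exact h
  | succ r hr ih =>
    have hc := φ.comm r (r + 1) pq rfl hr
    have hz : HomologicalComplex.homologyMap (φ.hom r hr) pq = 0 := homologyMap_eq_zero _ _ ih
    rw [hz, zero_comp] at hc
    exact (cancel_epi (E.iso r (r + 1) pq rfl hr).hom).1 (hc.symm.trans comp_zero.symm)

lemma fil_eq_of_isZero_grPiece {X : C} (F : ℤ → Subobject X) (hF : Antitone F) (p : ℤ)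
    (h : IsZero (SpSeq.grPiece F hF p)) : F (p + 1) = F p := by
  have hle : F (p + 1) ≤ F p := hF (Int.le_add_one le_rfl)
  have hepi : Epi ((F (p + 1)).ofLE (F p) hle) := by
    apply Abelian.epi_of_cokernel_π_eq_zero
    exact h.eq_of_tgt _ _
  haveI : IsIso ((F (p + 1)).ofLE (F p) hle) := isIso_of_mono_of_epi _
  refine le_antisymm hle (Subobject.le_of_comm (inv ((F (p + 1)).ofLE (F p) hle)) ?_)
  rw [IsIso.inv_comp_eq, Subobject.ofLE_arrow]

lemma fil_eq_top {X : C} (F : ℤ → Subobject X) (hF : Antitone F) (a₀ : ℤ)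
    (hfin : ∃ a, F a = ⊤) (h : ∀ i, i < a₀ → F (i + 1) = F i) : F a₀ = ⊤ := by
  obtain ⟨a, ha⟩ := hfin
  by_cases hle : a₀ ≤ a
  · exact top_le_iff.1 (by rw [← ha]; exact hF hle)
  · rw [not_le] at hle
    have key : ∀ (n : ℕ), a + (n : ℤ) ≤ a₀ → F (a + (n : ℤ)) = F a := by
      intro n
      induction n with
      | zero => intro _; simp
      | succ n ih =>
        intro hn
        have hn' : a + (n : ℤ) < a₀ := by push_cast at hn; omega
        have h1 := h (a + (n : ℤ)) hn'
        have e : a + ((n + 1 : ℕ) : ℤ) = a + (n : ℤ) + 1 := by push_cast; omega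
        rw [e, h1]
        exact ih hn'.le
    have h2 := key (a₀ - a).toNat (by omega)
    have e : a + ((a₀ - a).toNat : ℤ) = a₀ := by omega
    rw [e] at h2
    rw [h2, ha]

lemma fil_eq_bot {X : C} (F : ℤ → Subobject X) (hF : Antitone F) (a₀ : ℤ)
    (hfin : ∃ b, F b = ⊥) (h : ∀ i, a₀ < i → F (i + 1) = F i) : F (a₀ + 1) = ⊥ := by
  obtain ⟨b, hb⟩ := hfin
  by_cases hle : b ≤ a₀ + 1
  · exact le_bot_iff.1 (by rw [← hb]; exact hF hle)
  · rw [not_le] at hle
    have key : ∀ (n : ℕ), F (a₀ + 1 + (n : ℤ)) = F (a₀ + 1) := by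
      intro n
      induction n with
      | zero => simp
      | succ n ih =>
        have h1 := h (a₀ + 1 + (n : ℤ)) (by omega)
        have e : a₀ + 1 + ((n + 1 : ℕ) : ℤ) = a₀ + 1 + (n : ℤ) + 1 := by push_cast; omega
        rw [e, h1]
        exact ih
    have h2 := key (b - (a₀ + 1)).toNat
    have e : a₀ + 1 + ((b - (a₀ + 1)).toNat : ℤ) = b := by omega
    rw [e] at h2
    rw [← h2, hb]

lemma isZero_of_eq_bot {X : C} (S : Subobject X) (h : S = ⊥) : IsZero (S : C) := by
  subst h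
  exact IsZero.of_iso (isZero_zero C) Subobject.botCoeIsoZero

theorem main14355 (E E' : E₂CohomologicalSpectralSequence C) (φ : E ⟶ E') (H H' : ℤ → C)
    (a : SpSeq.Abutment E H) (a' : SpSeq.Abutment E' H')
    (ha : ∀ n : ℤ, a.IsFinite n) (ha' : ∀ n : ℤ, a'.IsFinite n)
    (f : SpSeqMor.AbutHom φ a a') (l a₀ : ℤ)
    (hE : ∀ i : ℤ, i < a₀ → IsZero ((E.page 2 le_rfl).X (i, l - i)))
    (hE' : ∀ i : ℤ, a₀ < i → IsZero ((E'.page 2 le_rfl).X (i, l - i)))
    (hφ : (φ.hom 2 le_rfl).f (a₀, l - a₀) = 0) :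
    f.hom l = 0 := by
  have key1 : ∀ (pq : ℤ × ℤ) (n : ℤ), pq.1 + pq.2 = n → IsZero ((E.page 2 le_rfl).X pq) →
      a.fil n (pq.1 + 1) = a.fil n pq.1 := by
    intro pq n hn hz
    subst hn
    apply fil_eq_of_isZero_grPiece (a.fil _) (a.anti _) pq.1
    exact IsZero.of_iso (isZero_page_of_isZero E pq hz (a.rk pq) (a.stat pq).1) (a.β pq).symm
  have key1' : ∀ (pq : ℤ × ℤ) (n : ℤ), pq.1 + pq.2 = n → IsZero ((E'.page 2 le_rfl).X pq) →
      a'.fil n (pq.1 + 1) = a'.fil n pq.1 := by
    intro pq n hn hz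
    subst hn
    apply fil_eq_of_isZero_grPiece (a'.fil _) (a'.anti _) pq.1
    exact IsZero.of_iso (isZero_page_of_isZero E' pq hz (a'.rk pq) (a'.stat pq).1) (a'.β pq).symm
  have key2 : ∀ (pq : ℤ × ℤ) (n : ℤ), pq.1 + pq.2 = n → (φ.hom 2 le_rfl).f pq = 0 →
      (f.fil n).gr pq.1 = 0 := by
    intro pq n hn hz
    subst hn
    have hkk : a.rk pq + (((a'.rk pq - a.rk pq).toNat : ℕ) : ℤ)
        = a'.rk pq + (((a.rk pq - a'.rk pq).toNat : ℕ) : ℤ) := by omega
    have hc := f.comm pq (a'.rk pq - a.rk pq).toNat (a.rk pq - a'.rk pq).toNat hkk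
    rw [hom_f_eq_zero φ pq hz] at hc
    simp only [zero_comp, comp_zero] at hc
    exact (cancel_epi (a.β pq).hom).1 (hc.trans comp_zero.symm)
  have hgr : (f.fil l).gr a₀ = 0 := key2 (a₀, l - a₀) l (by simp) hφ
  have htop : a.fil l a₀ = ⊤ :=
    fil_eq_top (a.fil l) (a.anti l) a₀ (ha l).1
      (fun i hi => key1 (i, l - i) l (by simp) (hE i hi))
  have hbot : a'.fil l (a₀ + 1) = ⊥ :=
    fil_eq_bot (a'.fil l) (a'.anti l) a₀ (ha' l).2
      (fun i hi => key1' (i, l - i) l (by simp) (hE' i hi))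
  -- the lift at a₀ vanishes
  have hz : IsZero ((a'.fil l (a₀ + 1) : Subobject (H' l)) : C) := isZero_of_eq_bot _ hbot
  have hk : (f.fil l).lift a₀ ≫
      cokernel.π ((a'.filObj l).stepLE (Int.le_add_one (le_refl a₀))) = 0 := by
    have h1 : cokernel.π ((a.filObj l).stepLE (Int.le_add_one (le_refl a₀))) ≫ (f.fil l).gr a₀
        = (f.fil l).lift a₀ ≫
          cokernel.π ((a'.filObj l).stepLE (Int.le_add_one (le_refl a₀))) := by
      dsimp only [SpSeqMor.FilLift.gr, cokernel.map]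
      exact cokernel.π_desc _ _ _
    rw [← h1, hgr]
    exact comp_zero
  have hex : (ShortComplex.mk ((a'.filObj l).stepLE (Int.le_add_one (le_refl a₀)))
      (cokernel.π ((a'.filObj l).stepLE (Int.le_add_one (le_refl a₀))))
      (cokernel.condition _)).Exact :=
    ShortComplex.exact_of_g_is_cokernel _ (cokernelIsCokernel _)
  haveI : Mono (ShortComplex.mk ((a'.filObj l).stepLE (Int.le_add_one (le_refl a₀)))
      (cokernel.π ((a'.filObj l).stepLE (Int.le_add_one (le_refl a₀))))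
      (cokernel.condition _)).f := by
    dsimp; infer_instance
  have hl : (f.fil l).lift a₀ = 0 := by
    have h3 := hex.lift_f ((f.fil l).lift a₀) hk
    have h4 : hex.lift ((f.fil l).lift a₀) hk = 0 := hz.eq_of_tgt _ _
    rw [h4] at h3
    exact h3.symm.trans zero_comp
  have harr := (f.fil l).lift_arrow a₀
  rw [hl] at harr
  haveI : IsIso ((a.filObj l).fil a₀).arrow := (Subobject.isIso_arrow_iff_eq_top _).2 htop
  exact (cancel_epi ((a.filObj l).fil a₀).arrow).1 (harr.symm.trans (zero_comp.trans comp_zero.symm))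

end Groth.Agent.Lib.SpSeq14355
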