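import Mathlib
import Groth.Prelude.Def_SpSeq
import Groth.Agent.Lib.SpSeq14355_lead

set_option autoImplicit false
set_option linter.unusedSimpArgs false
set_option linter.unusedVariables false
set_option linter.unusedSectionVars false
set_option linter.style.longLine false
set_option linter.unnecessarySimpa false
set_option maxHeartbeats 1600000

universe v u

open CategoryTheory CategoryTheory.Limits Module

namespace Groth.Agent.Lib.SpSeq19322

open Groth.Agent.Lib.SpSeq14355

variable {K : Type u} [Field K]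

lemma finrank_eq_zero_of_isZero (M : ModuleCat.{v} K) (h : IsZero M) : finrank K M = 0 := by
  haveI := ModuleCat.subsingleton_of_isZero h
  exact Module.finrank_zero_of_subsingleton

lemma homology_finrank {ι : Type*} {c : ComplexShape ι}
    (L : HomologicalComplex (ModuleCat.{v} K) c) (j : ι)
    [Module.Finite K (L.X j)] :
    Module.Finite K (L.homology j) ∧ finrank K (L.homology j) ≤ finrank K (L.X j) ∧
    (finrank K (L.homology j) = finrank K (L.X j) →
      (∀ i, L.d i j = 0) ∧ (∀ k, L.d j k = 0)) := by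
  have hi : Function.Injective (L.iCycles j).hom :=
    (ModuleCat.mono_iff_injective (L.iCycles j)).1 inferInstance
  have hp : Function.Surjective (L.homologyπ j).hom :=
    (ModuleCat.epi_iff_surjective (L.homologyπ j)).1 inferInstance
  haveI : Module.Finite K (L.cycles j) := Module.Finite.of_injective (L.iCycles j).hom hi
  haveI : Module.Finite K (L.homology j) := Module.Finite.of_surjective (L.homologyπ j).hom hp
  have h1 : finrank K (L.cycles j) ≤ finrank K (L.X j) :=
    LinearMap.finrank_le_finrank_of_injective hi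
  have h2 : finrank K (L.homology j) ≤ finrank K (L.cycles j) :=
    LinearMap.finrank_le_finrank_of_surjective hp
  refine ⟨inferInstance, h2.trans h1, fun heq => ?_⟩
  have e1 : finrank K (L.cycles j) = finrank K (L.X j) := by omega
  have e2 : finrank K (L.cycles j) = finrank K (L.homology j) := by omega
  have hi' : Function.Surjective (L.iCycles j).hom :=
    (LinearMap.injective_iff_surjective_of_finrank_eq_finrank e1).1 hi
  have hp' : Function.Injective (L.homologyπ j).hom :=
    (LinearMap.injective_iff_surjective_of_finrank_eq_finrank e2).2 hp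
  haveI : Epi (L.iCycles j) := (ModuleCat.epi_iff_surjective (L.iCycles j)).2 hi'
  haveI : Mono (L.homologyπ j) := (ModuleCat.mono_iff_injective (L.homologyπ j)).2 hp'
  constructor
  · intro i
    have h3 : L.toCycles i j = 0 := by
      rw [← cancel_mono (L.homologyπ j), L.toCycles_comp_homologyπ, zero_comp]
    rw [← L.toCycles_i i j, h3, zero_comp]
  · intro k
    rw [← cancel_epi (L.iCycles j), L.iCycles_d, comp_zero]

lemma step {r₀ : ℤ} (E : CohomologicalSpectralSequence (ModuleCat.{v} K) r₀) (pq : ℤ × ℤ)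
    (r : ℤ) (hr : r₀ ≤ r) (hr' : r₀ ≤ r + 1)
    (hf : Module.Finite K ((E.page r hr).X pq)) :
    Module.Finite K ((E.page (r + 1) hr').X pq) ∧
    finrank K ((E.page (r + 1) hr').X pq) ≤ finrank K ((E.page r hr).X pq) ∧
    (finrank K ((E.page (r + 1) hr').X pq) = finrank K ((E.page r hr).X pq) →
      (∀ i, (E.page r hr).d i pq = 0) ∧ (∀ k, (E.page r hr).d pq k = 0)) := by
  obtain ⟨h1, h2, h3⟩ := homology_finrank (E.page r hr) pq
  have e := (E.iso r (r + 1) pq rfl hr).toLinearEquiv
  have he : finrank K ((E.page r hr).homology pq) = finrank K ((E.page (r + 1) hr').X pq) :=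
    e.finrank_eq
  refine ⟨Module.Finite.equiv e, by omega, fun h => h3 (by omega)⟩

lemma mono_pages {r₀ : ℤ} (E : CohomologicalSpectralSequence (ModuleCat.{v} K) r₀) (pq : ℤ × ℤ)
    (r₁ : ℤ) (h₁ : r₀ ≤ r₁) (hf : Module.Finite K ((E.page r₁ h₁).X pq)) :
    ∀ (r₂ : ℤ) (h12 : r₁ ≤ r₂), Module.Finite K ((E.page r₂ (h₁.trans h12)).X pq) ∧
      finrank K ((E.page r₂ (h₁.trans h12)).X pq) ≤ finrank K ((E.page r₁ h₁).X pq) := by
  intro r₂ h12
  induction r₂, h12 using Int.le_induction with
  | base => exact ⟨hf, le_rfl⟩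
  | succ r hr ih =>
    obtain ⟨s1, s2, -⟩ := step E pq r (h₁.trans hr) (by omega) ih.1
    exact ⟨s1, s2.trans ih.2⟩

lemma vanish {r₀ : ℤ} (E : CohomologicalSpectralSequence (ModuleCat.{v} K) r₀) (pq : ℤ × ℤ)
    (hf : Module.Finite K ((E.page r₀ le_rfl).X pq)) (R : ℤ) (hR : r₀ ≤ R)
    (heq : finrank K ((E.page R hR).X pq) = finrank K ((E.page r₀ le_rfl).X pq))
    (r : ℤ) (hr : r₀ ≤ r) (hrR : r < R) :
    (∀ i, (E.page r hr).d i pq = 0) ∧ (∀ k, (E.page r hr).d pq k = 0) := by
  obtain ⟨f1, m1⟩ := mono_pages E pq r₀ le_rfl hf r hr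
  obtain ⟨f2, m2, m3⟩ := step E pq r hr (by omega) f1
  obtain ⟨f3, m4⟩ := mono_pages E pq (r + 1) (by omega) f2 R (by omega)
  exact m3 (by omega)

section Fil

variable {X : ModuleCat.{v} K}

lemma finite_subobject [Module.Finite K X] (S : Subobject X) :
    Module.Finite K ((S : ModuleCat.{v} K)) := by
  have hi : Function.Injective (S.arrow).hom :=
    (ModuleCat.mono_iff_injective S.arrow).1 inferInstance
  exact Module.Finite.of_injective (S.arrow).hom hi

lemma gr_step [Module.Finite K X] (F : ℤ → Subobject X) (hF : Antitone F) (k : ℤ) :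
    finrank K ((F k : Subobject X) : ModuleCat.{v} K) ≤
      finrank K (SpSeq.grPiece F hF k : ModuleCat.{v} K) +
        finrank K ((F (k + 1) : Subobject X) : ModuleCat.{v} K) := by
  haveI := finite_subobject (F k)
  haveI := finite_subobject (F (k + 1))
  have hle : F (k + 1) ≤ F k := hF (Int.le_add_one le_rfl)
  set ι := (F (k + 1)).ofLE (F k) hle with hι
  have hex : (ShortComplex.mk ι (cokernel.π ι) (cokernel.condition ι)).Exact :=
    ShortComplex.exact_of_g_is_cokernel _ (cokernelIsCokernel ι)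
  have hrk := hex.moduleCat_range_eq_ker
  dsimp only at hrk
  have hp : Function.Surjective (cokernel.π ι).hom :=
    (ModuleCat.epi_iff_surjective (cokernel.π ι)).1 inferInstance
  have hrn := LinearMap.finrank_range_add_finrank_ker (cokernel.π ι).hom
  have hr1 : finrank K (LinearMap.range (cokernel.π ι).hom) = finrank K (cokernel ι : ModuleCat.{v} K) := by
    rw [LinearMap.range_eq_top.2 hp, finrank_top]
  have hr2 : finrank K (LinearMap.ker (cokernel.π ι).hom) ≤
      finrank K ((F (k + 1) : Subobject X) : ModuleCat.{v} K) := by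
    rw [← hrk]
    exact LinearMap.finrank_range_le ι.hom
  have hg : (SpSeq.grPiece F hF k : ModuleCat.{v} K) = cokernel ι := rfl
  rw [hg]
  omega

lemma fil_count [Module.Finite K X] (F : ℤ → Subobject X) (hF : Antitone F) :
    ∀ (m : ℤ) (hm : -1 ≤ m), finrank K ((F 0 : Subobject X) : ModuleCat.{v} K) ≤
      ∑ s ∈ Finset.Icc (0 : ℤ) m, finrank K (SpSeq.grPiece F hF s : ModuleCat.{v} K) +
        finrank K ((F (m + 1) : Subobject X) : ModuleCat.{v} K) := by
  intro m hm
  induction m, hm using Int.le_induction with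
  | base =>
    have : Finset.Icc (0 : ℤ) (-1) = ∅ := by
      ext x; simp only [Finset.mem_Icc, Finset.notMem_empty, iff_false]; omega
    rw [this, Finset.sum_empty, zero_add]
    exact le_rfl
  | succ m hm ih =>
    have hins : Finset.Icc (0 : ℤ) (m + 1) = insert (m + 1) (Finset.Icc (0 : ℤ) m) := by
      ext x; simp only [Finset.mem_Icc, Finset.mem_insert]; omega
    have hnot : (m + 1) ∉ Finset.Icc (0 : ℤ) m := by
      simp only [Finset.mem_Icc]; omega
    rw [hins, Finset.sum_insert hnot]
    have h1 := gr_step F hF (m + 1)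
    omega

lemma finrank_of_eq_top (S : Subobject X) (h : S = ⊤) :
    finrank K ((S : Subobject X) : ModuleCat.{v} K) = finrank K X := by
  haveI : IsIso S.arrow := (Subobject.isIso_arrow_iff_eq_top _).2 h
  exact (asIso S.arrow).toLinearEquiv.finrank_eq

lemma finrank_of_eq_bot (S : Subobject X) (h : S = ⊥) :
    finrank K ((S : Subobject X) : ModuleCat.{v} K) = 0 :=
  finrank_eq_zero_of_isZero _ (isZero_of_eq_bot S h)

end Fil

theorem main19322 {r₀ : ℤ}
    (E : CohomologicalSpectralSequence (ModuleCat.{v} K) r₀) (H : ℤ → ModuleCat.{v} K)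
    (a : SpSeq.Abutment E H) (n : ℤ) (hfin : a.IsFinite n)
    (hquad : ∀ pq : ℤ × ℤ, pq.1 < 0 ∨ pq.2 < 0 → IsZero ((E.page r₀ le_rfl).X pq))
    (hfd : ∀ pq : ℤ × ℤ, Module.Finite K ((E.page r₀ le_rfl).X pq))
    (hH : Module.Finite K (H n))
    (hsum : ∑ s ∈ Finset.Icc (0 : ℤ) n, Module.finrank K ((E.page r₀ le_rfl).X (s, n - s)) =
      Module.finrank K (H n)) :
    ∀ s : ℤ, SpSeq.StationaryAt E (s, n - s) r₀ := by
  have hmono : ∀ (pq : ℤ × ℤ) (r : ℤ) (hr : r₀ ≤ r), Module.Finite K ((E.page r hr).X pq) ∧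
      finrank K ((E.page r hr).X pq) ≤ finrank K ((E.page r₀ le_rfl).X pq) :=
    fun pq r hr => mono_pages E pq r₀ le_rfl (hfd pq) r hr
  have hβ : ∀ (pq : ℤ × ℤ) (m : ℤ), pq.1 + pq.2 = m →
      finrank K ((E.page (a.rk pq) (a.stat pq).1).X pq) =
        finrank K (SpSeq.grPiece (a.fil m) (a.anti m) pq.1 : ModuleCat.{v} K) := by
    intro pq m hm
    subst hm
    exact (a.β pq).toLinearEquiv.finrank_eq
  have key1 : ∀ (pq : ℤ × ℤ) (m : ℤ), pq.1 + pq.2 = m → IsZero ((E.page r₀ le_rfl).X pq) →
      a.fil m (pq.1 + 1) = a.fil m pq.1 := by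
    intro pq m hm hz
    subst hm
    apply fil_eq_of_isZero_grPiece (a.fil _) (a.anti _) pq.1
    exact IsZero.of_iso (isZero_page_of_isZero E pq hz (a.rk pq) (a.stat pq).1) (a.β pq).symm
  have hle : ∀ s : ℤ, finrank K ((E.page (a.rk (s, n - s)) (a.stat (s, n - s)).1).X (s, n - s)) ≤
      finrank K ((E.page r₀ le_rfl).X (s, n - s)) := fun s => (hmono _ _ _).2
  have hzero : ∀ s : ℤ, s ∉ Finset.Icc (0 : ℤ) n →
      finrank K ((E.page r₀ le_rfl).X (s, n - s)) = 0 := by
    intro s hs
    apply finrank_eq_zero_of_isZero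
    apply hquad
    simp only [Finset.mem_Icc, not_and_or, not_le] at hs
    rcases hs with hs | hs
    · exact Or.inl hs
    · exact Or.inr (by show n - s < 0; omega)
  have hsumle : ∑ s ∈ Finset.Icc (0 : ℤ) n, finrank K ((E.page r₀ le_rfl).X (s, n - s)) ≤
      ∑ s ∈ Finset.Icc (0 : ℤ) n,
        finrank K ((E.page (a.rk (s, n - s)) (a.stat (s, n - s)).1).X (s, n - s)) := by
    by_cases hn : n < -1
    · have : Finset.Icc (0 : ℤ) n = ∅ := by
        ext x; simp only [Finset.mem_Icc, Finset.notMem_empty, iff_false]; omega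
      rw [this, Finset.sum_empty, Finset.sum_empty]
    · rw [not_lt] at hn
      have hc := fil_count (a.fil n) (a.anti n) n hn
      have htop : a.fil n 0 = ⊤ :=
        fil_eq_top (a.fil n) (a.anti n) 0 hfin.1
          (fun i hi => key1 (i, n - i) n (by simp) (hquad _ (Or.inl hi)))
      have hbot : a.fil n (n + 1) = ⊥ :=
        fil_eq_bot (a.fil n) (a.anti n) n hfin.2
          (fun i hi => key1 (i, n - i) n (by simp)
            (hquad _ (Or.inr (by show n - i < 0; omega))))
      rw [finrank_of_eq_top _ htop, finrank_of_eq_bot _ hbot, add_zero] at hc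
      rw [hsum]
      refine hc.trans (le_of_eq ?_)
      refine Finset.sum_congr rfl (fun s _ => ?_)
      exact (hβ (s, n - s) n (by simp)).symm
  have heq : ∀ s : ℤ, finrank K ((E.page (a.rk (s, n - s)) (a.stat (s, n - s)).1).X (s, n - s)) =
      finrank K ((E.page r₀ le_rfl).X (s, n - s)) := by
    have hsumeq : ∑ s ∈ Finset.Icc (0 : ℤ) n,
        finrank K ((E.page (a.rk (s, n - s)) (a.stat (s, n - s)).1).X (s, n - s)) =
        ∑ s ∈ Finset.Icc (0 : ℤ) n, finrank K ((E.page r₀ le_rfl).X (s, n - s)) :=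
      le_antisymm (Finset.sum_le_sum (fun s _ => hle s)) hsumle
    have hall := (Finset.sum_eq_sum_iff_of_le (fun s _ => hle s)).1 hsumeq
    intro s
    by_cases hs : s ∈ Finset.Icc (0 : ℤ) n
    · exact hall s hs
    · have h0 := hzero s hs
      have h1 := hle s
      omega
  intro s
  refine ⟨le_rfl, fun r' h₀ _ => ?_⟩
  by_cases hlt : r' < a.rk (s, n - s)
  · obtain ⟨v1, v2⟩ := vanish E (s, n - s) (hfd _) (a.rk (s, n - s)) (a.stat (s, n - s)).1
      (heq s) r' h₀ hlt
    exact ⟨v1 _, v2 _⟩
  · exact (a.stat (s, n - s)).2 r' h₀ (not_lt.1 hlt)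

end Groth.Agent.Lib.SpSeq19322
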