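import Mathlib

/-!
# Alternating sums over the first quadrant (helper1; used for S14284 / S14283)
-/

set_option autoImplicit false
set_option linter.unusedVariables false
set_option linter.unusedSectionVars false
set_option linter.style.longLine false
set_option maxHeartbeats 1600000

namespace Groth.Agent.Lib.SpSeqTraceH1

/-- The sign `(-1)^(p+q)` on `ℤ × ℤ`. -/
noncomputable def sgn (pq : ℤ × ℤ) : ℂ := (-1 : ℂ) ^ (pq.1 + pq.2)

theorem sgn_sub (v pq : ℤ × ℤ) (hv : v.1 + v.2 = 1) : sgn (pq - v) = - sgn pq := by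
  unfold sgn
  have h : (pq - v).1 + (pq - v).2 = (pq.1 + pq.2) - 1 := by
    simp only [Prod.fst_sub, Prod.snd_sub]
    omega
  rw [h, zpow_sub_one₀ (by norm_num : (-1 : ℂ) ≠ 0)]
  norm_num

theorem norm_sgn (pq : ℤ × ℤ) : ‖sgn pq‖ = 1 := by
  unfold sgn
  rw [norm_zpow, norm_neg, norm_one, one_zpow]

/-- The embedding of the first quadrant. -/
def emb (pq : ℕ × ℕ) : ℤ × ℤ := ((pq.1 : ℤ), (pq.2 : ℤ))

theorem emb_injective : Function.Injective emb := by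
  intro a b h
  have h1 := congrArg Prod.fst h
  have h2 := congrArg Prod.snd h
  simp only [emb] at h1 h2
  exact Prod.ext (by exact_mod_cast h1) (by exact_mod_cast h2)

theorem neg_of_notMem_range (pq : ℤ × ℤ) (h : pq ∉ Set.range emb) : pq.1 < 0 ∨ pq.2 < 0 := by
  by_contra hcon
  push_neg at hcon
  apply h
  refine ⟨(pq.1.toNat, pq.2.toNat), ?_⟩
  simp only [emb]
  exact Prod.ext (Int.toNat_of_nonneg hcon.1) (Int.toNat_of_nonneg hcon.2)

theorem summable_sgn_mul (t : ℤ × ℤ → ℂ) (h0 : ∀ pq : ℤ × ℤ, pq.1 < 0 ∨ pq.2 < 0 → t pq = 0)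
    (hs : Summable fun pq : ℕ × ℕ => ‖t ((pq.1 : ℤ), (pq.2 : ℤ))‖) :
    Summable fun pq : ℤ × ℤ => sgn pq * t pq := by
  have hz : ∀ pq ∉ Set.range emb, (fun pq : ℤ × ℤ => sgn pq * t pq) pq = 0 := by
    intro pq hpq
    show sgn pq * t pq = 0
    rw [h0 pq (neg_of_notMem_range pq hpq), mul_zero]
  rw [← emb_injective.summable_iff hz]
  apply Summable.of_norm
  refine hs.congr ?_
  intro pq
  simp only [Function.comp_apply, norm_mul, norm_sgn, one_mul, emb]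

theorem tsum_sgn_mul (t : ℤ × ℤ → ℂ) (h0 : ∀ pq : ℤ × ℤ, pq.1 < 0 ∨ pq.2 < 0 → t pq = 0) :
    ∑' pq : ℕ × ℕ, (-1 : ℂ) ^ (pq.1 + pq.2) * t ((pq.1 : ℤ), (pq.2 : ℤ)) =
      ∑' pq : ℤ × ℤ, sgn pq * t pq := by
  have hsupp : Function.support (fun pq : ℤ × ℤ => sgn pq * t pq) ⊆ Set.range emb := by
    intro pq hpq
    by_contra hcon
    apply hpq
    show sgn pq * t pq = 0
    rw [h0 pq (neg_of_notMem_range pq hcon), mul_zero]
  rw [← emb_injective.tsum_eq hsupp]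
  apply tsum_congr
  intro pq
  simp only [emb, sgn]
  rw [← Nat.cast_add, zpow_natCast]

/-- The telescoping identity for alternating sums. -/
theorem alt_sum_eq (v : ℤ × ℤ) (hv : v.1 + v.2 = 1) (x h b : ℤ × ℤ → ℂ)
    (hx0 : ∀ pq : ℤ × ℤ, pq.1 < 0 ∨ pq.2 < 0 → x pq = 0)
    (hh0 : ∀ pq : ℤ × ℤ, pq.1 < 0 ∨ pq.2 < 0 → h pq = 0)
    (hb0 : ∀ pq : ℤ × ℤ, pq.1 < 0 ∨ pq.2 < 0 → b pq = 0)
    (hxs : Summable fun pq : ℕ × ℕ => ‖x ((pq.1 : ℤ), (pq.2 : ℤ))‖)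
    (hhs : Summable fun pq : ℕ × ℕ => ‖h ((pq.1 : ℤ), (pq.2 : ℤ))‖)
    (hbs : Summable fun pq : ℕ × ℕ => ‖b ((pq.1 : ℤ), (pq.2 : ℤ))‖)
    (hid : ∀ pq, x pq = h pq + b (pq - v) + b pq) :
    ∑' pq : ℕ × ℕ, (-1 : ℂ) ^ (pq.1 + pq.2) * h ((pq.1 : ℤ), (pq.2 : ℤ)) =
      ∑' pq : ℕ × ℕ, (-1 : ℂ) ^ (pq.1 + pq.2) * x ((pq.1 : ℤ), (pq.2 : ℤ)) := by
  rw [tsum_sgn_mul h hh0, tsum_sgn_mul x hx0]
  have sx := summable_sgn_mul x hx0 hxs
  have sh := summable_sgn_mul h hh0 hhs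
  have sb := summable_sgn_mul b hb0 hbs
  have sb' : Summable fun pq : ℤ × ℤ => sgn (pq - v) * b (pq - v) :=
    (Equiv.subRight v).summable_iff.2 sb
  have e1 : ∀ pq, sgn pq * x pq =
      sgn pq * h pq + (-(sgn (pq - v) * b (pq - v)) + sgn pq * b pq) := by
    intro pq
    rw [hid pq, sgn_sub v pq hv]
    ring
  have e2 : ∑' pq : ℤ × ℤ, sgn (pq - v) * b (pq - v) = ∑' pq : ℤ × ℤ, sgn pq * b pq :=
    (Equiv.subRight v).tsum_eq (fun pq => sgn pq * b pq)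
  have step1 : ∑' pq : ℤ × ℤ, sgn pq * x pq = ∑' pq : ℤ × ℤ,
      (sgn pq * h pq + (-(sgn (pq - v) * b (pq - v)) + sgn pq * b pq)) := tsum_congr e1
  have step2 : ∑' pq : ℤ × ℤ,
      (sgn pq * h pq + (-(sgn (pq - v) * b (pq - v)) + sgn pq * b pq)) =
      ∑' pq : ℤ × ℤ, sgn pq * h pq +
        ∑' pq : ℤ × ℤ, (-(sgn (pq - v) * b (pq - v)) + sgn pq * b pq) :=
    Summable.tsum_add sh (sb'.neg.add sb)
  have step3 : ∑' pq : ℤ × ℤ, (-(sgn (pq - v) * b (pq - v)) + sgn pq * b pq) =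
      ∑' pq : ℤ × ℤ, -(sgn (pq - v) * b (pq - v)) + ∑' pq : ℤ × ℤ, sgn pq * b pq :=
    Summable.tsum_add sb'.neg sb
  have step4 : ∑' pq : ℤ × ℤ, -(sgn (pq - v) * b (pq - v)) =
      - ∑' pq : ℤ × ℤ, sgn (pq - v) * b (pq - v) := tsum_neg
  rw [step1, step2, step3, step4, e2]
  ring

open Finset Finset.HasAntidiagonal in
/-- Regrouping an absolutely summable family on `ℕ × ℕ` along antidiagonals. -/
theorem tsum_antidiagonal (F : ℕ × ℕ → ℂ) (hF : Summable fun pq => ‖F pq‖) :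
    (Summable fun n : ℕ => ∑ pq ∈ antidiagonal n, ‖F pq‖) ∧
    ∑' n : ℕ, ∑ pq ∈ antidiagonal n, F pq = ∑' pq, F pq := by
  constructor
  · have h : Summable fun x : Σ n : ℕ, antidiagonal n => ‖F (x.2 : ℕ × ℕ)‖ :=
      sigmaAntidiagonalEquivProd.summable_iff.2 hF
    have h2 := h.sigma' fun n => (hasSum_fintype _).summable
    refine h2.congr ?_
    intro n
    exact Finset.tsum_subtype (antidiagonal n) (fun pq => ‖F pq‖)
  · have hF' : Summable F := Summable.of_norm hF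
    have h : Summable fun x : Σ n : ℕ, antidiagonal n => F (x.2 : ℕ × ℕ) :=
      sigmaAntidiagonalEquivProd.summable_iff.2 hF'
    have h3 : ∑' x : Σ n : ℕ, antidiagonal n, F (x.2 : ℕ × ℕ) = ∑' pq, F pq :=
      sigmaAntidiagonalEquivProd.tsum_eq F
    rw [← h3, h.tsum_sigma' (fun n => (hasSum_fintype _).summable)]
    apply tsum_congr
    intro n
    exact (Finset.tsum_subtype (antidiagonal n) F).symm

end Groth.Agent.Lib.SpSeqTraceH1
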