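import Mathlib
import Groth.Prelude.Def_SpSeq
import Groth.Agent.S8355
import Groth.Agent.S14280
import Groth.Agent.Lib.SpSeqTrace1_helper1
import Groth.Agent.Lib.SpSeqTrace2_helper1

/-!
# The alternating sum of traces is the same on consecutive pages (helper1; S14284)
-/

set_option autoImplicit false
set_option linter.unusedVariables false
set_option linter.unusedSectionVars false
set_option linter.style.longLine false
set_option maxHeartbeats 1600000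

universe u

open CategoryTheory CategoryTheory.Limits Polynomial SpSeq

namespace Groth.Agent.Lib.SpSeqTraceH1

/-- Categorical form of S14280: absolute summability of the traces. -/
theorem summable_T (Mf : ℕ → ℕ → ModuleCat.{u} ℂ[X])
    (hfin : ∀ p q, Module.Finite ℂ (FC.obj (Mf p q)))
    (N : ℕ) (a c : ℕ → ℝ) (b d : ℕ → ℕ) (ha : ∀ q, 0 ≤ a q) (hc : ∀ p, 0 ≤ c p)
    (h1 : ∀ p q, N < q → IsZero (Mf p q))
    (h2 : ∀ p q (μ : ℂ), Module.End.HasEigenvalue (PhiC (Mf p q)) μ → ‖μ‖ ≤ a q * c p)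
    (h3 : ∀ p q, Module.finrank ℂ (FC.obj (Mf p q)) ≤ b q * d p)
    (hsum : Summable fun p : ℕ => c p * (d p : ℝ)) :
    Summable fun pq : ℕ × ℕ => ‖T (Mf pq.1 pq.2)‖ := by
  haveI := hfin
  exact Groth.Agent.S14280.result (fun p q => (FC.obj (Mf p q) : Type u))
    (fun p q => PhiC (Mf p q)) N a c b d ha hc
    (fun p q hq => (ModuleCat.subsingleton_of_isZero (h1 p q hq) : Subsingleton (Mf p q)))
    h2 h3 hsum

/-- The boundedness condition of S14284 for the page `E_r`. -/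
def Cond (E : E₂CohomologicalSpectralSequence (ModuleCat.{u} ℂ[X])) (r : ℤ) (hr : 2 ≤ r)
    (N : ℕ) (a c : ℕ → ℝ) (b d : ℕ → ℕ) : Prop :=
  (∀ pq : ℤ × ℤ, pq.1 < 0 ∨ pq.2 < 0 → IsZero ((E.page r hr).X pq)) ∧
    (∀ pq : ℤ × ℤ, Module.Finite ℂ (FC.obj ((E.page r hr).X pq))) ∧
    (∀ p q : ℕ, N < q → IsZero ((E.page r hr).X ((p : ℤ), (q : ℤ)))) ∧
    (∀ (p q : ℕ) (μ : ℂ),
      Module.End.HasEigenvalue (PhiC ((E.page r hr).X ((p : ℤ), (q : ℤ)))) μ →
        ‖μ‖ ≤ a q * c p) ∧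
    (∀ p q : ℕ, Module.finrank ℂ (FC.obj ((E.page r hr).X ((p : ℤ), (q : ℤ)))) ≤ b q * d p)

theorem Cond.summable {E : E₂CohomologicalSpectralSequence (ModuleCat.{u} ℂ[X])} {r : ℤ}
    {hr : 2 ≤ r} {N : ℕ} {a c : ℕ → ℝ} {b d : ℕ → ℕ} (h : Cond E r hr N a c b d)
    (ha : ∀ q, 0 ≤ a q) (hc : ∀ p, 0 ≤ c p)
    (hsum : Summable fun p : ℕ => c p * (d p : ℝ)) :
    Summable fun pq : ℕ × ℕ => ‖T ((E.page r hr).X ((pq.1 : ℤ), (pq.2 : ℤ)))‖ := by
  obtain ⟨hq, hfd, hN, heig, hrk⟩ := h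
  exact summable_T (fun p q => (E.page r hr).X ((p : ℤ), (q : ℤ))) (fun p q => hfd _)
    N a c b d ha hc hN heig hrk hsum

theorem cond_next (E : E₂CohomologicalSpectralSequence (ModuleCat.{u} ℂ[X])) (r : ℤ)
    (hr : 2 ≤ r) (N : ℕ) (a c : ℕ → ℝ) (b d : ℕ → ℕ) (ha : ∀ q, 0 ≤ a q) (hc : ∀ p, 0 ≤ c p)
    (hsum : Summable fun p : ℕ => c p * (d p : ℝ))
    (h : Cond E r hr N a c b d) :
    Cond E (r + 1) (Int.le_add_one hr) N a c b d ∧
      ∑' pq : ℕ × ℕ, (-1 : ℂ) ^ (pq.1 + pq.2) *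
          T ((E.page (r + 1) (Int.le_add_one hr)).X ((pq.1 : ℤ), (pq.2 : ℤ))) =
        ∑' pq : ℕ × ℕ, (-1 : ℂ) ^ (pq.1 + pq.2) *
          T ((E.page r hr).X ((pq.1 : ℤ), (pq.2 : ℤ))) := by
  obtain ⟨hq, hfd, hN, heig, hrk⟩ := h
  have hr' : (2 : ℤ) ≤ r + 1 := Int.le_add_one hr
  have key : ∀ pq : ℤ × ℤ,
      Module.Finite ℂ (FC.obj ((E.page (r + 1) hr').X pq)) ∧
      (∀ μ, Module.End.HasEigenvalue (PhiC ((E.page (r + 1) hr').X pq)) μ →
        Module.End.HasEigenvalue (PhiC ((E.page r hr).X pq)) μ) ∧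
      Module.finrank ℂ (FC.obj ((E.page (r + 1) hr').X pq)) ≤
        Module.finrank ℂ (FC.obj ((E.page r hr).X pq)) := by
    intro pq
    haveI : Module.Finite ℂ (FC.obj ((E.page r hr).sc pq).X₂) := hfd pq
    obtain ⟨f1, e1, r1⟩ := homology_props ((E.page r hr).sc pq)
    haveI : Module.Finite ℂ (FC.obj ((E.page r hr).homology pq)) := f1
    obtain ⟨f2, e2, r2⟩ := iso_props (E.iso r (r + 1) pq rfl hr)
    exact ⟨f2, fun μ hμ => e1 μ (e2 μ hμ), r2.trans r1⟩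
  have hq' : ∀ pq : ℤ × ℤ, pq.1 < 0 ∨ pq.2 < 0 → IsZero ((E.page (r + 1) hr').X pq) :=
    fun pq hneg =>
      (Groth.Agent.S8355.result E r hr pq (hq pq hneg)).1 (r + 1) (Int.le_add_one le_rfl)
  have hN' : ∀ p q : ℕ, N < q → IsZero ((E.page (r + 1) hr').X ((p : ℤ), (q : ℤ))) :=
    fun p q hlt =>
      (Groth.Agent.S8355.result E r hr _ (hN p q hlt)).1 (r + 1) (Int.le_add_one le_rfl)
  have heig' : ∀ (p q : ℕ) (μ : ℂ),
      Module.End.HasEigenvalue (PhiC ((E.page (r + 1) hr').X ((p : ℤ), (q : ℤ)))) μ →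
        ‖μ‖ ≤ a q * c p :=
    fun p q μ hμ => heig p q μ ((key _).2.1 μ hμ)
  have hrk' : ∀ p q : ℕ,
      Module.finrank ℂ (FC.obj ((E.page (r + 1) hr').X ((p : ℤ), (q : ℤ)))) ≤ b q * d p :=
    fun p q => ((key _).2.2).trans (hrk p q)
  have hcond' : Cond E (r + 1) hr' N a c b d := ⟨hq', fun pq => (key pq).1, hN', heig', hrk'⟩
  refine ⟨hcond', ?_⟩
  have hid : ∀ pq : ℤ × ℤ, T ((E.page r hr).X pq) =
      T ((E.page (r + 1) hr').X pq) +
        R ((E.page r hr).d (pq - (r, 1 - r)) (pq - (r, 1 - r) + (r, 1 - r))) +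
        R ((E.page r hr).d pq (pq + (r, 1 - r))) := by
    intro pq
    haveI := hfd pq
    have h1 := T_X_eq (r, 1 - r) (E.page r hr) pq
    rw [T_congr (E.iso r (r + 1) pq rfl hr)] at h1
    exact h1
  refine alt_sum_eq (r, 1 - r) (by show r + (1 - r) = 1; ring)
    (fun pq => T ((E.page r hr).X pq))
    (fun pq => T ((E.page (r + 1) hr').X pq))
    (fun pq => R ((E.page r hr).d pq (pq + (r, 1 - r)))) ?_ ?_ ?_ ?_ ?_ ?_ hid
  · exact fun pq hneg => T_of_isZero (hq pq hneg)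
  · exact fun pq hneg => T_of_isZero (hq' pq hneg)
  · exact fun pq hneg => R_of_isZero _ (hq pq hneg)
  · exact Cond.summable ⟨hq, hfd, hN, heig, hrk⟩ ha hc hsum
  · exact Cond.summable hcond' ha hc hsum
  · exact summable_T
      (fun p q => ModuleCat.of ℂ[X] (LinearMap.range
        ((E.page r hr).d ((p : ℤ), (q : ℤ)) (((p : ℤ), (q : ℤ)) + (r, 1 - r))).hom))
      (fun p q => haveI := hfd ((p : ℤ), (q : ℤ)); (range_props _).1)
      N a c b d ha hc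
      (fun p q hlt => isZero_range_of_isZero _ (hN p q hlt))
      (fun p q μ hμ => haveI := hfd ((p : ℤ), (q : ℤ)); heig p q μ ((range_props _).2.1 μ hμ))
      (fun p q => haveI := hfd ((p : ℤ), (q : ℤ)); ((range_props _).2.2).trans (hrk p q))
      hsum

end Groth.Agent.Lib.SpSeqTraceH1
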