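import Mathlib
import Groth.Prelude.Def_SpSeq
import Groth.Agent.Lib.SpSeqTrace3_helper1
import Groth.Agent.Lib.SpSeq14355_lead

/-!
# The alternating sum of traces on the abutment of a first quadrant spectral sequence
(helper1; S14283)
-/

set_option autoImplicit false
set_option linter.unusedVariables false
set_option linter.unusedSectionVars false
set_option linter.style.longLine false
set_option maxHeartbeats 1600000

universe u v' u'

open CategoryTheory CategoryTheory.Limits Polynomial SpSeq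

namespace Groth.Agent.Lib.SpSeqTraceH1

open Groth.Agent.Lib.SpSeq14355

/-- From a stationary page on, the term at `pq` does not change. -/
theorem page_iso_of_stat {C : Type u'} [Category.{v'} C] [Abelian C] {r₀ : ℤ}
    (E : CohomologicalSpectralSequence C r₀) (pq : ℤ × ℤ) (r : ℤ) (hr0 : r₀ ≤ r)
    (hs : ∀ (r' : ℤ) (h₀ : r₀ ≤ r') (_ : r ≤ r'),
      (E.page r' h₀).d (pq - (r', 1 - r')) pq = 0 ∧ (E.page r' h₀).d pq (pq + (r', 1 - r')) = 0) :
    ∀ (k : ℤ) (hk : r ≤ k) (hk0 : r₀ ≤ k),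
      Nonempty ((E.page k hk0).X pq ≅ (E.page r hr0).X pq) := by
  intro k hk
  refine Int.le_induction (motive := fun k _ => ∀ hk0 : r₀ ≤ k,
    Nonempty ((E.page k hk0).X pq ≅ (E.page r hr0).X pq)) ?_ ?_ k hk
  · intro _
    exact ⟨Iso.refl _⟩
  · intro n hn ih hk0
    have hn0 : r₀ ≤ n := hr0.trans hn
    obtain ⟨e⟩ := ih hn0
    obtain ⟨hd1, hd2⟩ := hs n hn0 hn
    have hrel1 : (ComplexShape.up' ((n, 1 - n) : ℤ × ℤ)).Rel (pq - (n, 1 - n)) pq :=
      sub_add_cancel pq _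
    have hrel2 : (ComplexShape.up' ((n, 1 - n) : ℤ × ℤ)).Rel pq (pq + (n, 1 - n)) := rfl
    have hf : ((E.page n hn0).sc pq).f = 0 := by
      show (E.page n hn0).dTo pq = 0
      rw [(E.page n hn0).dTo_eq hrel1, hd1, Limits.comp_zero]
    have hg : ((E.page n hn0).sc pq).g = 0 := by
      show (E.page n hn0).dFrom pq = 0
      rw [(E.page n hn0).dFrom_eq hrel2, hd2, Limits.zero_comp]
    have e2 : (E.page n hn0).homology pq ≅ (E.page n hn0).X pq :=
      (ShortComplex.LeftHomologyData.ofZeros ((E.page n hn0).sc pq) hf hg).homologyIso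
    exact ⟨(E.iso n (n + 1) pq rfl hn0).symm ≪≫ e2 ≪≫ e⟩

theorem two_le_R0 (N : ℕ) : (2 : ℤ) ≤ (N : ℤ) + 2 := by omega

/-- The condition propagates to all pages, with constant alternating sum. -/
theorem cond_all (E : E₂CohomologicalSpectralSequence (ModuleCat.{u} ℂ[X]))
    (N : ℕ) (a c : ℕ → ℝ) (b d : ℕ → ℕ) (ha : ∀ q, 0 ≤ a q) (hc : ∀ p, 0 ≤ c p)
    (hsum : Summable fun p : ℕ => c p * (d p : ℝ))
    (h2 : Cond E 2 le_rfl N a c b d) :
    ∀ (r : ℤ) (hr : 2 ≤ r), Cond E r hr N a c b d ∧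
      ∑' pq : ℕ × ℕ, (-1 : ℂ) ^ (pq.1 + pq.2) *
          T ((E.page r hr).X ((pq.1 : ℤ), (pq.2 : ℤ))) =
        ∑' pq : ℕ × ℕ, (-1 : ℂ) ^ (pq.1 + pq.2) *
          T ((E.page 2 le_rfl).X ((pq.1 : ℤ), (pq.2 : ℤ))) := by
  intro r hr
  induction r, hr using Int.le_induction with
  | base => exact ⟨h2, rfl⟩
  | succ r hr ih =>
    obtain ⟨hc1, hs1⟩ := ih
    obtain ⟨hc2, hs2⟩ := cond_next E r hr N a c b d ha hc hsum hc1
    exact ⟨hc2, hs2.trans hs1⟩

/-- From page `N + 2` on, all differentials vanish. -/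
theorem d_eq_zero (E : E₂CohomologicalSpectralSequence (ModuleCat.{u} ℂ[X]))
    (N : ℕ) (a c : ℕ → ℝ) (b d : ℕ → ℕ) (r : ℤ) (hr : 2 ≤ r)
    (hcond : Cond E r hr N a c b d) (hrN : (N : ℤ) + 2 ≤ r) (i j : ℤ × ℤ) :
    (E.page r hr).d i j = 0 := by
  by_cases hrel : (ComplexShape.up' ((r, 1 - r) : ℤ × ℤ)).Rel i j
  · obtain ⟨hq, hfd, hN, heig, hrk⟩ := hcond
    by_cases hneg : i.1 < 0 ∨ i.2 < 0
    · exact (hq i hneg).eq_of_src _ _
    · push_neg at hneg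
      obtain ⟨p, hp⟩ := Int.eq_ofNat_of_zero_le hneg.1
      obtain ⟨q, hq2⟩ := Int.eq_ofNat_of_zero_le hneg.2
      have hi : i = ((p : ℤ), (q : ℤ)) := Prod.ext hp hq2
      by_cases hqN : N < q
      · have hz : IsZero ((E.page r hr).X i) := by
          rw [hi]
          exact hN p q hqN
        exact hz.eq_of_src _ _
      · have hj : j.2 < 0 := by
          have h5 : i + (r, 1 - r) = j := hrel
          have h6 : j.2 = i.2 + (1 - r) := by
            rw [← h5]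
            rfl
          rw [h6, hq2]
          push_neg at hqN
          omega
        exact (hq j (Or.inr hj)).eq_of_tgt _ _
  · exact (E.page r hr).shape i j hrel

/-- The graded pieces of the abutment are the terms of the page `N + 2`. -/
theorem T_gr_eq (E : E₂CohomologicalSpectralSequence (ModuleCat.{u} ℂ[X]))
    (H : ℤ → ModuleCat.{u} ℂ[X]) (abut : SpSeq.Abutment E H)
    (N : ℕ) (a c : ℕ → ℝ) (b d : ℕ → ℕ)
    (hall : ∀ (r : ℤ) (hr : 2 ≤ r), Cond E r hr N a c b d) (pq : ℤ × ℤ) :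
    Module.Finite ℂ (FC.obj
      (grPiece (abut.fil (pq.1 + pq.2)) (abut.anti (pq.1 + pq.2)) pq.1)) ∧
    T (grPiece (abut.fil (pq.1 + pq.2)) (abut.anti (pq.1 + pq.2)) pq.1) =
      T ((E.page ((N : ℤ) + 2) (two_le_R0 N)).X pq) := by
  obtain ⟨hs1a, hs1b⟩ := abut.stat pq
  have hm0 : (2 : ℤ) ≤ max (abut.rk pq) ((N : ℤ) + 2) := hs1a.trans (le_max_left _ _)
  obtain ⟨e1⟩ := page_iso_of_stat E pq (abut.rk pq) hs1a hs1b _ (le_max_left _ _) hm0
  obtain ⟨e2⟩ := page_iso_of_stat E pq ((N : ℤ) + 2) (two_le_R0 N)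
    (fun r' h₀ hr' => ⟨d_eq_zero E N a c b d r' h₀ (hall r' h₀) hr' _ _,
      d_eq_zero E N a c b d r' h₀ (hall r' h₀) hr' _ _⟩) _ (le_max_right _ _) hm0
  haveI : Module.Finite ℂ (FC.obj ((E.page (abut.rk pq) (abut.stat pq).1).X pq)) :=
    (hall (abut.rk pq) hs1a).2.1 pq
  refine ⟨(iso_props (abut.β pq)).1, ?_⟩
  rw [← T_congr (abut.β pq)]
  exact ((T_congr e1).symm.trans (T_congr e2))

/-- The short exact sequence `F^{k+1} → F^k → gr^k`. -/
noncomputable def grSC {X : ModuleCat.{u} ℂ[X]} (F : ℤ → Subobject X) (hF : Antitone F) (k : ℤ) :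
    ShortComplex (ModuleCat.{u} ℂ[X]) :=
  ShortComplex.mk ((F (k + 1)).ofLE (F k) (hF (Int.le_add_one le_rfl)))
    (cokernel.π ((F (k + 1)).ofLE (F k) (hF (Int.le_add_one le_rfl))))
    (cokernel.condition _)

theorem grSC_shortExact {X : ModuleCat.{u} ℂ[X]} (F : ℤ → Subobject X) (hF : Antitone F)
    (k : ℤ) : (grSC F hF k).ShortExact :=
  { exact := ShortComplex.exact_cokernel _
    mono_f := by
      show Mono ((F (k + 1)).ofLE (F k) (hF (Int.le_add_one le_rfl)))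
      infer_instance
    epi_g := by
      show Epi (cokernel.π ((F (k + 1)).ofLE (F k) (hF (Int.le_add_one le_rfl))))
      infer_instance }

/-- Telescoping the trace along a finite filtration. -/
theorem fil_telescope {X : ModuleCat.{u} ℂ[X]} (F : ℤ → Subobject X) (hF : Antitone F)
    (hgr : ∀ p, Module.Finite ℂ (FC.obj (grPiece F hF p))) :
    ∀ (j : ℕ) (k : ℤ), F (k + (j : ℤ)) = ⊥ →
      Module.Finite ℂ (FC.obj ((F k : Subobject X) : ModuleCat.{u} ℂ[X])) ∧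
      T ((F k : Subobject X) : ModuleCat.{u} ℂ[X]) =
        ∑ i ∈ Finset.range j, T (grPiece F hF (k + (i : ℤ))) := by
  intro j
  induction j with
  | zero =>
    intro k hk
    rw [Nat.cast_zero, add_zero] at hk
    have hz : IsZero ((F k : Subobject X) : ModuleCat.{u} ℂ[X]) := isZero_of_eq_bot _ hk
    refine ⟨?_, ?_⟩
    · haveI hsub : Subsingleton ((F k : Subobject X) : ModuleCat.{u} ℂ[X]) :=
        ModuleCat.subsingleton_of_isZero hz
      haveI : Subsingleton (FC.obj ((F k : Subobject X) : ModuleCat.{u} ℂ[X])) := hsub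
      infer_instance
    · rw [T_of_isZero hz, Finset.range_zero, Finset.sum_empty]
  | succ j ih =>
    intro k hk
    have hk' : F (k + 1 + (j : ℤ)) = ⊥ := by
      have h5 : k + 1 + (j : ℤ) = k + ((j + 1 : ℕ) : ℤ) := by
        push_cast
        ring
      rw [h5]
      exact hk
    obtain ⟨f1, t1⟩ := ih (k + 1) hk'
    have hS := grSC_shortExact F hF k
    haveI : Module.Finite ℂ (FC.obj (grSC F hF k).X₁) := f1
    haveI : Module.Finite ℂ (FC.obj (grSC F hF k).X₃) := hgr k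
    haveI f2 : Module.Finite ℂ (FC.obj (grSC F hF k).X₂) := fin_of_shortExact _ hS
    have t2 : T (grSC F hF k).X₂ = T (grSC F hF k).X₁ + T (grSC F hF k).X₃ :=
      T_add_of_shortExact _ hS
    refine ⟨f2, ?_⟩
    have e3 : ∀ i : ℕ, T (grPiece F hF (k + ((i + 1 : ℕ) : ℤ))) =
        T (grPiece F hF (k + 1 + (i : ℤ))) := by
      intro i
      have h5 : k + ((i + 1 : ℕ) : ℤ) = k + 1 + (i : ℤ) := by
        push_cast
        ring
      rw [h5]
    have hsum : ∑ i ∈ Finset.range j, T (grPiece F hF (k + ((i + 1 : ℕ) : ℤ))) =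
        ∑ i ∈ Finset.range j, T (grPiece F hF (k + 1 + (i : ℤ))) :=
      Finset.sum_congr rfl (fun i _ => e3 i)
    rw [Finset.sum_range_succ', hsum, ← t1, Nat.cast_zero, add_zero]
    exact t2

/-- The trace on `H^n` is the sum of the traces on the antidiagonal of the page `N + 2`. -/
theorem T_H_eq (E : E₂CohomologicalSpectralSequence (ModuleCat.{u} ℂ[X]))
    (H : ℤ → ModuleCat.{u} ℂ[X]) (abut : SpSeq.Abutment E H) (hfin : ∀ n, abut.IsFinite n)
    (N : ℕ) (a c : ℕ → ℝ) (b d : ℕ → ℕ)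
    (hall : ∀ (r : ℤ) (hr : 2 ≤ r), Cond E r hr N a c b d) (n : ℕ) :
    Module.Finite ℂ (FC.obj (H (n : ℤ))) ∧
    T (H (n : ℤ)) = ∑ pq ∈ Finset.HasAntidiagonal.antidiagonal n,
      T ((E.page ((N : ℤ) + 2) (two_le_R0 N)).X ((pq.1 : ℤ), (pq.2 : ℤ))) := by
  have hquad2 := (hall 2 le_rfl).1
  have hgrz : ∀ (pq : ℤ × ℤ) (m : ℤ), pq.1 + pq.2 = m → (pq.1 < 0 ∨ pq.2 < 0) →
      IsZero (grPiece (abut.fil m) (abut.anti m) pq.1) := by
    intro pq m hm hneg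
    subst hm
    exact IsZero.of_iso (isZero_page_of_isZero E pq (hquad2 pq hneg) (abut.rk pq)
      (abut.stat pq).1) (abut.β pq).symm
  have hgrT : ∀ (pq : ℤ × ℤ) (m : ℤ), pq.1 + pq.2 = m →
      Module.Finite ℂ (FC.obj (grPiece (abut.fil m) (abut.anti m) pq.1)) ∧
      T (grPiece (abut.fil m) (abut.anti m) pq.1) =
        T ((E.page ((N : ℤ) + 2) (two_le_R0 N)).X pq) := by
    intro pq m hm
    subst hm
    exact T_gr_eq E H abut N a c b d hall pq
  have hgr : ∀ p : ℤ,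
      Module.Finite ℂ (FC.obj (grPiece (abut.fil (n : ℤ)) (abut.anti (n : ℤ)) p)) :=
    fun p => (hgrT (p, (n : ℤ) - p) (n : ℤ) (by show p + ((n : ℤ) - p) = n; ring)).1
  have htop : abut.fil (n : ℤ) 0 = ⊤ :=
    fil_eq_top (abut.fil (n : ℤ)) (abut.anti (n : ℤ)) 0 (hfin (n : ℤ)).1
      (fun i hi => fil_eq_of_isZero_grPiece _ _ i
        (hgrz (i, (n : ℤ) - i) (n : ℤ) (by show i + ((n : ℤ) - i) = n; ring) (Or.inl hi)))
  have hbot : abut.fil (n : ℤ) ((n : ℤ) + 1) = ⊥ :=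
    fil_eq_bot (abut.fil (n : ℤ)) (abut.anti (n : ℤ)) (n : ℤ) (hfin (n : ℤ)).2
      (fun i hi => fil_eq_of_isZero_grPiece _ _ i
        (hgrz (i, (n : ℤ) - i) (n : ℤ) (by show i + ((n : ℤ) - i) = n; ring)
          (Or.inr (by show (n : ℤ) - i < 0; omega))))
  have hbot' : abut.fil (n : ℤ) ((0 : ℤ) + ((n + 1 : ℕ) : ℤ)) = ⊥ := by
    have h5 : (0 : ℤ) + ((n + 1 : ℕ) : ℤ) = (n : ℤ) + 1 := by
      push_cast
      ring
    rw [h5]
    exact hbot
  obtain ⟨f0, t0⟩ := fil_telescope (abut.fil (n : ℤ)) (abut.anti (n : ℤ)) hgr (n + 1) 0 hbot'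
  haveI : IsIso (abut.fil (n : ℤ) 0).arrow := (Subobject.isIso_arrow_iff_eq_top _).2 htop
  haveI := f0
  refine ⟨(iso_props (asIso (abut.fil (n : ℤ) 0).arrow)).1, ?_⟩
  have t1 : ∑ i ∈ Finset.range (n + 1),
      T (grPiece (abut.fil (n : ℤ)) (abut.anti (n : ℤ)) ((0 : ℤ) + (i : ℤ))) =
      ∑ i ∈ Finset.range (n + 1),
        T ((E.page ((N : ℤ) + 2) (two_le_R0 N)).X ((i : ℤ), ((n - i : ℕ) : ℤ))) := by
    refine Finset.sum_congr rfl (fun i hi => ?_)
    have hle : i ≤ n := by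
      have := Finset.mem_range.1 hi
      omega
    have hm : (((i : ℤ), ((n - i : ℕ) : ℤ)) : ℤ × ℤ).1 + (((i : ℤ), ((n - i : ℕ) : ℤ)) : ℤ × ℤ).2 =
        (n : ℤ) := by
      show (i : ℤ) + ((n - i : ℕ) : ℤ) = n
      omega
    rw [zero_add]
    exact (hgrT ((i : ℤ), ((n - i : ℕ) : ℤ)) n hm).2
  have h5 : ∑ pq ∈ Finset.HasAntidiagonal.antidiagonal n,
      T ((E.page ((N : ℤ) + 2) (two_le_R0 N)).X ((pq.1 : ℤ), (pq.2 : ℤ))) =
      ∑ k ∈ Finset.range (n + 1),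
        T ((E.page ((N : ℤ) + 2) (two_le_R0 N)).X ((k : ℤ), ((n - k : ℕ) : ℤ))) :=
    Finset.Nat.sum_antidiagonal_eq_sum_range_succ
      (fun p q => T ((E.page ((N : ℤ) + 2) (two_le_R0 N)).X ((p : ℤ), (q : ℤ)))) n
  rw [h5, ← t1, ← t0]
  exact (T_congr (asIso (abut.fil (n : ℤ) 0).arrow)).symm

/-- S14283. -/
theorem main14283 (E : E₂CohomologicalSpectralSequence (ModuleCat.{u} ℂ[X]))
    (H : ℤ → ModuleCat.{u} ℂ[X]) (abut : SpSeq.Abutment E H) (hfin : ∀ n, abut.IsFinite n)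
    (N : ℕ) (a c : ℕ → ℝ) (b d : ℕ → ℕ) (ha : ∀ q, 0 ≤ a q) (hc : ∀ p, 0 ≤ c p)
    (hsum : Summable fun p : ℕ => c p * (d p : ℝ))
    (hc2 : Cond E 2 le_rfl N a c b d) :
    Summable (fun n : ℕ => ‖T (H (n : ℤ))‖) ∧
    ∑' n : ℕ, (-1 : ℂ) ^ n * T (H (n : ℤ)) =
      ∑' pq : ℕ × ℕ, (-1 : ℂ) ^ (pq.1 + pq.2) *
        T ((E.page 2 le_rfl).X ((pq.1 : ℤ), (pq.2 : ℤ))) := by
  have hall := cond_all E N a c b d ha hc hsum hc2
  have hallc : ∀ (r : ℤ) (hr : 2 ≤ r), Cond E r hr N a c b d := fun r hr => (hall r hr).1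
  have hes : Summable fun pq : ℕ × ℕ =>
      ‖T ((E.page ((N : ℤ) + 2) (two_le_R0 N)).X ((pq.1 : ℤ), (pq.2 : ℤ)))‖ :=
    (hallc _ (two_le_R0 N)).summable ha hc hsum
  have hFs : Summable fun pq : ℕ × ℕ => ‖(-1 : ℂ) ^ (pq.1 + pq.2) *
      T ((E.page ((N : ℤ) + 2) (two_le_R0 N)).X ((pq.1 : ℤ), (pq.2 : ℤ)))‖ := by
    refine hes.congr (fun pq => ?_)
    simp only [norm_mul, norm_pow, norm_neg, norm_one, one_pow, one_mul]
  obtain ⟨hA, hB⟩ := tsum_antidiagonal (fun pq : ℕ × ℕ => (-1 : ℂ) ^ (pq.1 + pq.2) *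
      T ((E.page ((N : ℤ) + 2) (two_le_R0 N)).X ((pq.1 : ℤ), (pq.2 : ℤ)))) hFs
  have hTH : ∀ n : ℕ, T (H (n : ℤ)) = ∑ pq ∈ Finset.HasAntidiagonal.antidiagonal n,
      T ((E.page ((N : ℤ) + 2) (two_le_R0 N)).X ((pq.1 : ℤ), (pq.2 : ℤ))) :=
    fun n => (T_H_eq E H abut hfin N a c b d hallc n).2
  have hterm : ∀ n : ℕ, (-1 : ℂ) ^ n * T (H (n : ℤ)) =
      ∑ pq ∈ Finset.HasAntidiagonal.antidiagonal n, (-1 : ℂ) ^ (pq.1 + pq.2) *
        T ((E.page ((N : ℤ) + 2) (two_le_R0 N)).X ((pq.1 : ℤ), (pq.2 : ℤ))) := by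
    intro n
    rw [hTH n, Finset.mul_sum]
    refine Finset.sum_congr rfl (fun pq hpq => ?_)
    rw [Finset.HasAntidiagonal.mem_antidiagonal.1 hpq]
  constructor
  · refine Summable.of_nonneg_of_le (fun n => norm_nonneg _) (fun n => ?_) hA
    rw [hTH n]
    refine (norm_sum_le _ _).trans (le_of_eq ?_)
    refine Finset.sum_congr rfl (fun pq _ => ?_)
    simp only [norm_mul, norm_pow, norm_neg, norm_one, one_pow, one_mul]
  · rw [tsum_congr hterm]
    exact hB.trans (hall _ (two_le_R0 N)).2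

end Groth.Agent.Lib.SpSeqTraceH1
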