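import Mathlib

/-!
# Fully faithfulness from a spanning class (Bridgeland's criterion) (helper9)
-/

open CategoryTheory CategoryTheory.Limits CategoryTheory.Pretriangulated

namespace Groth.Agent.Lib.SpanFF

universe v u v' u'

variable {D : Type u} [Category.{v} D] [Preadditive D] [HasZeroObject D] [HasShift D ℤ]
  [∀ n : ℤ, (shiftFunctor D n).Additive] [Pretriangulated D]
  {D' : Type u'} [Category.{v'} D'] [Preadditive D'] [HasZeroObject D'] [HasShift D' ℤ]
  [∀ n : ℤ, (shiftFunctor D' n).Additive] [Pretriangulated D']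
  (F : D ⥤ D')

/-- bijectivity of `F` on a Hom set -/
def P (X W : D) : Prop := Function.Bijective (fun f : X ⟶ W => F.map f)

omit [Preadditive D] [HasZeroObject D] [HasShift D ℤ] [∀ n : ℤ, (shiftFunctor D n).Additive]
  [Pretriangulated D] [Preadditive D'] [HasZeroObject D'] [HasShift D' ℤ]
  [∀ n : ℤ, (shiftFunctor D' n).Additive] [Pretriangulated D'] in
lemma P_iso {X X₁ W W₁ : D} (a : X ≅ X₁) (b : W ≅ W₁) (h : P F X₁ W₁) : P F X W := by
  have : (fun f : X ⟶ W => F.map f) =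
      (Iso.homCongr (F.mapIso a) (F.mapIso b)).symm ∘ (fun f : X₁ ⟶ W₁ => F.map f) ∘
        (Iso.homCongr a b) := by
    funext f
    simp [Iso.homCongr]
  unfold P
  rw [this]
  exact (Equiv.bijective _).comp (h.comp (Equiv.bijective _))

omit [HasZeroObject D] [∀ n : ℤ, (shiftFunctor D n).Additive]
  [Pretriangulated D] [HasZeroObject D']
  [∀ n : ℤ, (shiftFunctor D' n).Additive] [Pretriangulated D'] [Preadditive D] [Preadditive D'] in
lemma P_shift [F.CommShift ℤ] {X W : D} (j : ℤ) (h : P F X W) : P F (X⟦j⟧) (W⟦j⟧) := by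
  have nat : ∀ g : X ⟶ W, F.map (g⟦j⟧') ≫ (F.commShiftIso j).hom.app W =
      (F.commShiftIso j).hom.app X ≫ (F.map g)⟦j⟧' :=
    fun g => (F.commShiftIso j).hom.naturality g
  constructor
  · intro f₁ f₂ hf
    have hf' : F.map f₁ = F.map f₂ := hf
    obtain ⟨g₁, rfl⟩ := (shiftFunctor D j).map_surjective f₁
    obtain ⟨g₂, rfl⟩ := (shiftFunctor D j).map_surjective f₂
    congr 1
    apply h.1
    show F.map g₁ = F.map g₂
    apply (shiftFunctor D' j).map_injective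
    rw [← cancel_epi ((F.commShiftIso j).hom.app X), ← nat g₁, ← nat g₂, hf']
  · intro y
    obtain ⟨z, hz⟩ := (shiftFunctor D' j).map_surjective
      ((F.commShiftIso j).inv.app X ≫ y ≫ (F.commShiftIso j).hom.app W)
    obtain ⟨g, hg⟩ := h.2 z
    have hg' : F.map g = z := hg
    refine ⟨g⟦j⟧', ?_⟩
    show F.map (g⟦j⟧') = y
    rw [← cancel_mono ((F.commShiftIso j).hom.app W), nat g, hg', hz]
    simp

theorem ff_of_spanning [F.IsLeftAdjoint] [F.IsRightAdjoint] (Sh : D → Prop)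
    (ha : ∀ X W, Sh X → Sh W → P F X W)
    (hb : ∀ X, Sh X → ∃ X₀, Sh X₀ ∧ Nonempty (X ≅ X₀⟦(1 : ℤ)⟧))
    (hc3 : ∀ K : D, (∀ W, Sh W → ∀ f : K ⟶ W, f = 0) → IsZero K)
    (hc2 : ∀ K : D, (∀ X, Sh X → ∀ f : X ⟶ K, f = 0) → IsZero K) :
    F.Full ∧ F.Faithful := by
  let G := F.leftAdjoint
  let adj₂ : G ⊣ F := Adjunction.ofIsRightAdjoint F
  let H := F.rightAdjoint
  let adj₁ : F ⊣ H := Adjunction.ofIsLeftAdjoint F
  have hε : ∀ (X W : D) (f : X ⟶ W),
      (adj₂.homEquiv (F.obj X) W).symm (F.map f) = adj₂.counit.app X ≫ f := by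
    intro X W f
    rw [Adjunction.homEquiv_counit]
    exact adj₂.counit.naturality f
  have step1a : ∀ X W, Sh X → Sh W →
      Function.Bijective (fun f : X ⟶ W => adj₂.counit.app X ≫ f) := by
    intro X W hX hW
    have : (fun f : X ⟶ W => adj₂.counit.app X ≫ f) =
        (adj₂.homEquiv (F.obj X) W).symm ∘ (fun f : X ⟶ W => F.map f) := by
      funext f
      exact (hε X W f).symm
    rw [this]
    exact (Equiv.bijective _).comp (ha X W hX hW)
  have step1 : ∀ X, Sh X → IsIso (adj₂.counit.app X) := by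
    intro X hX
    obtain ⟨Q, p, d, hT⟩ := distinguished_cocone_triangle (adj₂.counit.app X)
    have h12 : adj₂.counit.app X ≫ p = 0 := comp_distTriang_mor_zero₁₂ _ hT
    have h31 : d ≫ (adj₂.counit.app X)⟦(1 : ℤ)⟧' = 0 := comp_distTriang_mor_zero₃₁ _ hT
    have hQ : IsZero Q := by
      apply hc3
      intro W hW q
      have h1 : p ≫ q = 0 := by
        apply (step1a X W hX hW).1
        show adj₂.counit.app X ≫ p ≫ q = adj₂.counit.app X ≫ 0
        rw [← Category.assoc, h12, zero_comp, comp_zero]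
      obtain ⟨y, hy⟩ : ∃ y : (G.obj (F.obj X))⟦(1 : ℤ)⟧ ⟶ W, q = d ≫ y :=
        Triangle.yoneda_exact₃ _ hT q h1
      obtain ⟨W₀, hW₀, ⟨e⟩⟩ := hb W hW
      obtain ⟨y₀, hy₀⟩ := (shiftFunctor D (1 : ℤ)).map_surjective (y ≫ e.hom)
      obtain ⟨y₀', hy₀'⟩ := (step1a X W₀ hX hW₀).2 y₀
      have hy₀'' : adj₂.counit.app X ≫ y₀' = y₀ := hy₀'
      have : y = (adj₂.counit.app X)⟦(1 : ℤ)⟧' ≫ y₀'⟦(1 : ℤ)⟧' ≫ e.inv := by
        rw [← Category.assoc, ← Functor.map_comp, hy₀'', hy₀, Category.assoc, e.hom_inv_id,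
          Category.comp_id]
      rw [hy, this, ← Category.assoc, h31, zero_comp]
    exact (Triangle.isZero₃_iff_isIso₁ _ hT).1 hQ
  have step2 : ∀ X W, Sh X → P F X W := by
    intro X W hX
    haveI := step1 X hX
    have : (fun f : X ⟶ W => F.map f) =
        (adj₂.homEquiv (F.obj X) W) ∘ (fun f : X ⟶ W => adj₂.counit.app X ≫ f) := by
      funext f
      show F.map f = adj₂.homEquiv (F.obj X) W (adj₂.counit.app X ≫ f)
      rw [← hε X W f, Equiv.apply_symm_apply]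
    unfold P
    rw [this]
    refine (Equiv.bijective _).comp ?_
    constructor
    · intro f₁ f₂ h
      exact (cancel_epi (adj₂.counit.app X)).1 h
    · intro g
      exact ⟨inv (adj₂.counit.app X) ≫ g, by simp⟩
  have hη : ∀ (X B : D) (g : X ⟶ B),
      adj₁.homEquiv X (F.obj B) (F.map g) = g ≫ adj₁.unit.app B := by
    intro X B g
    rw [Adjunction.homEquiv_unit]
    exact (adj₁.unit.naturality g).symm
  have step3a : ∀ X B, Sh X →
      Function.Bijective (fun g : X ⟶ B => g ≫ adj₁.unit.app B) := by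
    intro X B hX
    have : (fun g : X ⟶ B => g ≫ adj₁.unit.app B) =
        (adj₁.homEquiv X (F.obj B)) ∘ (fun g : X ⟶ B => F.map g) := by
      funext g
      exact (hη X B g).symm
    rw [this]
    exact (Equiv.bijective _).comp (step2 X B hX)
  have step3 : ∀ B, IsIso (adj₁.unit.app B) := by
    intro B
    obtain ⟨C, p, d, hT⟩ := distinguished_cocone_triangle (adj₁.unit.app B)
    have h31 : d ≫ (adj₁.unit.app B)⟦(1 : ℤ)⟧' = 0 := comp_distTriang_mor_zero₃₁ _ hT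
    have h12 : adj₁.unit.app B ≫ p = 0 := comp_distTriang_mor_zero₁₂ _ hT
    have hC : IsZero C := by
      apply hc2
      intro X hX q
      have h1 : q ≫ d = 0 := by
        obtain ⟨X₀, hX₀, ⟨e⟩⟩ := hb X hX
        obtain ⟨x₀, hx₀⟩ := (shiftFunctor D (1 : ℤ)).map_surjective (e.inv ≫ q ≫ d)
        have hx₀z : x₀ = 0 := by
          apply (step3a X₀ B hX₀).1
          show x₀ ≫ adj₁.unit.app B = 0 ≫ adj₁.unit.app B
          rw [zero_comp]
          apply (shiftFunctor D (1 : ℤ)).map_injective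
          rw [Functor.map_comp, hx₀, Functor.map_zero, Category.assoc, Category.assoc, h31,
            comp_zero, comp_zero]
        rw [hx₀z, Functor.map_zero] at hx₀
        rw [← cancel_epi e.inv, ← hx₀, comp_zero]
      obtain ⟨y, hy⟩ : ∃ y : X ⟶ H.obj (F.obj B), q = y ≫ p :=
        Triangle.coyoneda_exact₃ _ hT q h1
      obtain ⟨y', hy'⟩ := (step3a X B hX).2 y
      have hy'' : y' ≫ adj₁.unit.app B = y := hy'
      rw [hy, ← hy'', Category.assoc, h12, comp_zero]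
    exact (Triangle.isZero₃_iff_isIso₁ _ hT).1 hC
  haveI : ∀ B, IsIso (adj₁.unit.app B) := step3
  haveI : IsIso adj₁.unit := NatIso.isIso_of_isIso_app _
  exact ⟨(adj₁.fullyFaithfulLOfIsIsoUnit).full, (adj₁.fullyFaithfulLOfIsIsoUnit).faithful⟩

theorem main [F.CommShift ℤ] [F.IsLeftAdjoint] [F.IsRightAdjoint] (S : Set D)
    (h2 : ∀ K : D, (∀ E ∈ S, ∀ (i : ℤ) (f : E ⟶ (shiftFunctor D i).obj K), f = 0) → IsZero K)
    (h3 : ∀ K : D, (∀ E ∈ S, ∀ (i : ℤ) (f : K ⟶ (shiftFunctor D i).obj E), f = 0) → IsZero K)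
    (h4 : ∀ E ∈ S, ∀ E' ∈ S, ∀ i : ℤ,
      Function.Bijective (fun f : E ⟶ (shiftFunctor D i).obj E' => F.map f)) :
    F.Full ∧ F.Faithful := by
  apply ff_of_spanning F (fun X => ∃ E ∈ S, ∃ j : ℤ, Nonempty (X ≅ E⟦j⟧))
  · rintro X W ⟨E, hE, j, ⟨a⟩⟩ ⟨E', hE', j', ⟨b⟩⟩
    have h0 : P F E (E'⟦j' - j⟧) := h4 E hE E' hE' (j' - j)
    have h1 := P_shift F j h0
    exact P_iso F a (b ≪≫ (shiftFunctorAdd' D (j' - j) j j' (by omega)).app E') h1
  · rintro X ⟨E, hE, j, ⟨a⟩⟩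
    exact ⟨E⟦j - 1⟧, ⟨E, hE, j - 1, ⟨Iso.refl _⟩⟩,
      ⟨a ≪≫ (shiftFunctorAdd' D (j - 1) 1 j (by omega)).app E⟩⟩
  · intro K hK
    apply h3
    intro E hE i f
    exact hK _ ⟨E, hE, i, ⟨Iso.refl _⟩⟩ f
  · intro K hK
    apply h2
    intro E hE i f
    have h := hK (E⟦-i⟧) ⟨E, hE, -i, ⟨Iso.refl _⟩⟩
      (f⟦-i⟧' ≫ (shiftFunctorCompIsoId D i (-i) (by omega)).hom.app K)
    have h' : f⟦-i⟧' = 0 := by
      rw [← cancel_mono ((shiftFunctorCompIsoId D i (-i) (by omega)).hom.app K), h, zero_comp]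
    exact (shiftFunctor D (-i)).map_injective (by rw [h', Functor.map_zero])

end Groth.Agent.Lib.SpanFF
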