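import Mathlib.Topology.NoetherianSpace
import Mathlib.Topology.Sober
import Mathlib.Topology.Connected.Clopen

/-!
# Specialization chains in connected Noetherian sober spaces (lead)
-/

universe u

namespace Groth.Agent.Lib.SpecChain_lead

open Set Topology TopologicalSpace

variable {X : Type u} [TopologicalSpace X]

theorem eqvGen_of_mem_irreducibleComponents [QuasiSober X] {Z : Set X}
    (hZ : Z ∈ irreducibleComponents X) {x y : X} (hx : x ∈ Z) (hy : y ∈ Z) :
    Relation.EqvGen (fun a b : X => a ⤳ b) x y := by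
  obtain ⟨η, hη⟩ := QuasiSober.sober hZ.1 (isClosed_of_mem_irreducibleComponents Z hZ)
  have h1 : η ⤳ x := hη.specializes hx
  have h2 : η ⤳ y := hη.specializes hy
  exact Relation.EqvGen.trans _ _ _ (Relation.EqvGen.symm _ _ (Relation.EqvGen.rel _ _ h1))
    (Relation.EqvGen.rel _ _ h2)

theorem eqvGen_specializes [NoetherianSpace X] [QuasiSober X] [PreconnectedSpace X] (p q : X) :
    Relation.EqvGen (fun a b : X => a ⤳ b) p q := by
  have hfin : (irreducibleComponents X).Finite := NoetherianSpace.finite_irreducibleComponents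
  have hclosed : ∀ C : Set X,
      (∀ x ∈ C, ∀ y, Relation.EqvGen (fun a b : X => a ⤳ b) x y → y ∈ C) → IsClosed C := by
    intro C hC
    have : C = ⋃ Z ∈ {Z ∈ irreducibleComponents X | (Z ∩ C).Nonempty}, Z := by
      apply Subset.antisymm
      · intro x hx
        exact mem_iUnion₂.2 ⟨irreducibleComponent x,
          ⟨irreducibleComponent_mem_irreducibleComponents x, x, mem_irreducibleComponent, hx⟩,
          mem_irreducibleComponent⟩
      · apply iUnion₂_subset
        rintro Z ⟨hZ, z, hzZ, hzC⟩ y hy
        exact hC z hzC y (eqvGen_of_mem_irreducibleComponents hZ hzZ hy)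
    rw [this]
    exact (hfin.subset fun Z hZ => hZ.1).isClosed_biUnion fun Z hZ =>
      isClosed_of_mem_irreducibleComponents Z hZ.1
  let C : Set X := {x | Relation.EqvGen (fun a b : X => a ⤳ b) p x}
  have hC1 : IsClosed C := hclosed C fun x hx y hxy => Relation.EqvGen.trans _ _ _ hx hxy
  have hC2 : IsClosed Cᶜ := hclosed Cᶜ fun x hx y hxy hy =>
    hx (Relation.EqvGen.trans _ _ _ hy (Relation.EqvGen.symm _ _ hxy))
  have hclopen : IsClopen C := ⟨hC1, isClosed_compl_iff.1 hC2⟩
  have hne : C.Nonempty := ⟨p, Relation.EqvGen.refl p⟩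
  have := hclopen.eq_univ hne
  have hq : q ∈ C := by rw [this]; trivial
  exact hq

end Groth.Agent.Lib.SpecChain_lead
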