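import Mathlib

namespace Groth.Agent.SpecConn

open Topology TopologicalSpace Set

variable {X : Type*} [TopologicalSpace X]

/-- A compact set disjoint from the intersection of all clopen neighbourhoods of `x` is disjoint
from one of them. -/
theorem exists_isClopen_disjoint (x : X) {K : Set X} (hK : IsCompact K)
    (hdisj : ∀ z ∈ K, ∃ Z : Set X, IsClopen Z ∧ x ∈ Z ∧ z ∉ Z) :
    ∃ Z : Set X, IsClopen Z ∧ x ∈ Z ∧ Disjoint K Z := by
  classical
  let ι := {Z : Set X // IsClopen Z ∧ x ∈ Z}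
  have hcov : K ⊆ ⋃ Z : ι, (Z.1)ᶜ := by
    intro z hz
    obtain ⟨Z, hZ, hxZ, hzZ⟩ := hdisj z hz
    exact mem_iUnion.mpr ⟨⟨Z, hZ, hxZ⟩, hzZ⟩
  obtain ⟨t, ht⟩ := hK.elim_finite_subcover (fun Z : ι => (Z.1)ᶜ)
    (fun Z => Z.2.1.isClosed.isOpen_compl) hcov
  refine ⟨⋂ Z ∈ t, (Z : ι).1, isClopen_biInter_finset (fun Z _ => Z.2.1), ?_, ?_⟩
  · exact mem_iInter₂.mpr fun Z _ => Z.2.2
  · rw [Set.disjoint_left]
    intro z hzK hz
    obtain ⟨Z, hZt, hzZ⟩ := mem_iUnion₂.mp (ht hzK)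
    exact hzZ (mem_iInter₂.mp hz Z hZt)

/-- In a compact quasi-separated prespectral space, the connected component of a point is the
intersection of its clopen neighbourhoods. -/
theorem connectedComponent_eq_sInter_isClopen [CompactSpace X] [PrespectralSpace X]
    [QuasiSeparatedSpace X] (x : X) :
    connectedComponent x = ⋂₀ {Z : Set X | IsClopen Z ∧ x ∈ Z} := by
  apply Subset.antisymm
  · intro y hy
    rw [mem_sInter]
    rintro Z ⟨hZ, hxZ⟩
    exact hZ.connectedComponent_subset hxZ hy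
  set S : Set X := ⋂₀ {Z : Set X | IsClopen Z ∧ x ∈ Z} with hS
  have hSclosed : IsClosed S := isClosed_sInter fun Z hZ => hZ.1.isClosed
  have hxS : x ∈ S := mem_sInter.mpr fun Z hZ => hZ.2
  suffices hpre : IsPreconnected S from hpre.subset_connectedComponent hxS
  rw [isPreconnected_iff_subset_of_fully_disjoint_closed hSclosed]
  intro u v hu hv hSuv huv
  have hB : IsCompact (S ∩ u) := (hSclosed.inter hu).isCompact
  have hC : IsCompact (S ∩ v) := (hSclosed.inter hv).isCompact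
  obtain ⟨U, hUc, hUo, hBU, hUv⟩ :=
    PrespectralSpace.exists_isCompact_and_isOpen_between hB hv.isOpen_compl
      (fun z hz hzv => Set.disjoint_left.mp huv hz.2 hzv)
  obtain ⟨V, hVc, hVo, hCV, hVu⟩ :=
    PrespectralSpace.exists_isCompact_and_isOpen_between hC hu.isOpen_compl
      (fun z hz hzu => Set.disjoint_left.mp huv hzu hz.2)
  -- U ∩ V is compact and misses S
  have hK1 : IsCompact (U ∩ V) := hUc.inter_of_isOpen hVc hUo hVo
  have hK1S : ∀ z ∈ U ∩ V, ∃ Z : Set X, IsClopen Z ∧ x ∈ Z ∧ z ∉ Z := by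
    intro z hz
    by_contra hcon
    push Not at hcon
    have hzS : z ∈ S := mem_sInter.mpr fun Z hZ => hcon Z hZ.1 hZ.2
    rcases hSuv hzS with h | h
    · exact hVu hz.2 h
    · exact hUv hz.1 h
  obtain ⟨Z1, hZ1, hxZ1, hd1⟩ := exists_isClopen_disjoint x hK1 hK1S
  have hK2 : IsCompact (U ∪ V)ᶜ := (hUo.union hVo).isClosed_compl.isCompact
  have hK2S : ∀ z ∈ (U ∪ V)ᶜ, ∃ Z : Set X, IsClopen Z ∧ x ∈ Z ∧ z ∉ Z := by
    intro z hz
    by_contra hcon
    push Not at hcon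
    have hzS : z ∈ S := mem_sInter.mpr fun Z hZ => hcon Z hZ.1 hZ.2
    rcases hSuv hzS with h | h
    · exact hz (Or.inl (hBU ⟨hzS, h⟩))
    · exact hz (Or.inr (hCV ⟨hzS, h⟩))
  obtain ⟨Z2, hZ2, hxZ2, hd2⟩ := exists_isClopen_disjoint x hK2 hK2S
  set Z0 := Z1 ∩ Z2 with hZ0
  have hZ0c : IsClopen Z0 := hZ1.inter hZ2
  have hZ0sub : Z0 ⊆ U ∪ V := by
    intro z hz
    by_contra hzn
    exact Set.disjoint_left.mp hd2 hzn hz.2
  have hZ0UV : ∀ z ∈ Z0, z ∈ U → z ∈ V → False := fun z hz hzU hzV =>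
    Set.disjoint_left.mp hd1 ⟨hzU, hzV⟩ hz.1
  have hZU : IsClopen (Z0 ∩ U) := by
    refine ⟨?_, hZ0c.isOpen.inter hUo⟩
    have : Z0 ∩ U = Z0 ∩ Vᶜ := by
      ext z
      constructor
      · rintro ⟨hz, hzU⟩
        exact ⟨hz, fun hzV => hZ0UV z hz hzU hzV⟩
      · rintro ⟨hz, hzV⟩
        exact ⟨hz, (hZ0sub hz).resolve_right hzV⟩
    rw [this]
    exact hZ0c.isClosed.inter hVo.isClosed_compl
  have hZV : IsClopen (Z0 ∩ V) := by
    refine ⟨?_, hZ0c.isOpen.inter hVo⟩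
    have : Z0 ∩ V = Z0 ∩ Uᶜ := by
      ext z
      constructor
      · rintro ⟨hz, hzV⟩
        exact ⟨hz, fun hzU => hZ0UV z hz hzU hzV⟩
      · rintro ⟨hz, hzU⟩
        exact ⟨hz, (hZ0sub hz).resolve_left hzU⟩
    rw [this]
    exact hZ0c.isClosed.inter hUo.isClosed_compl
  have hxZ0 : x ∈ Z0 := ⟨hxZ1, hxZ2⟩
  rcases hSuv hxS with hxu | hxv
  · left
    have hxU : x ∈ U := hBU ⟨hxS, hxu⟩
    have hSsub : S ⊆ Z0 ∩ U := sInter_subset_of_mem ⟨hZU, hxZ0, hxU⟩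
    intro z hz
    exact (hSuv hz).resolve_right (fun hzv => hUv (hSsub hz).2 hzv)
  · right
    have hxV : x ∈ V := hCV ⟨hxS, hxv⟩
    have hSsub : S ⊆ Z0 ∩ V := sInter_subset_of_mem ⟨hZV, hxZ0, hxV⟩
    intro z hz
    exact (hSuv hz).resolve_left (fun hzu => hVu (hSsub hz).2 hzu)

end Groth.Agent.SpecConn
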