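import Mathlib
import Groth.Agent.Lib.RegQuotOpen_helper6
import Groth.Agent.Lib.CoverPrime_helper6

/-!
# Depth along specialisations over quotients of regular rings (helper6)

`depth M_{p'} ≤ depth M_p + dim (A/p)_{p'}` via pointwise dualizing complexes.
-/

set_option autoImplicit false
universe u
open CategoryTheory CategoryTheory.Limits DerivedCategory Pretriangulated ZeroObject
open scoped Pointwise TensorProduct
attribute [local instance] HasDerivedCategory.standard

namespace Groth.Agent.Lib.DMod_helper6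

open DRing Groth.Agent.ExtendScalarsLib Groth.Agent.Lib.DoubleLoc_helper6

section

variable {A : Type u} [CommRing A] [IsNoetherianRing A] (ω : Dual.D A)
  (M : Type u) [AddCommGroup M] [Module A M] [Module.Finite A M]

theorem degrees_at (a : ℤ) [DerivedCategory.IsGE ω a] (p : PrimeSpectrum A)
    (hKp : Dual.IsDualizing (Localization.AtPrime p.asIdeal) (locD ω p.asIdeal)) (ν : ℤ)
    (hν : Dual.IsNormalized (Localization.AtPrime p.asIdeal) ((locD ω p.asIdeal)⟦ν⟧))
    (hM : Nontrivial (LocalizedModule p.asIdeal.primeCompl M)) :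
    ∃ (δp dp : ℕ),
      LocCoh.depth (Localization.AtPrime p.asIdeal)
        (LocalizedModule p.asIdeal.primeCompl M) = δp ∧
      Module.supportDim (Localization.AtPrime p.asIdeal)
        (LocalizedModule p.asIdeal.primeCompl M) = (dp : WithBot ℕ∞) ∧
      p ∈ Module.support A (Dual.inD A M ⟶ ω⟦ν - (δp : ℤ)⟧) ∧
      p ∈ Module.support A (Dual.inD A M ⟶ ω⟦ν - (dp : ℤ)⟧) ∧
      ∀ i : ℤ, p ∈ Module.support A (Dual.inD A M ⟶ ω⟦i⟧) → ν - dp ≤ i ∧ i ≤ ν - δp := by
  haveI := hM
  haveI := isNoetherianRing_atPrime p.asIdeal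
  obtain ⟨δp, hδ, hδnt, hδle⟩ := exists_depth_eq_and_top_degree (locD ω p.asIdeal) hKp ν hν
    (LocalizedModule p.asIdeal.primeCompl M)
  obtain ⟨dp, hd⟩ := exists_nat_supportDim_eq (B := Localization.AtPrime p.asIdeal)
    (LocalizedModule p.asIdeal.primeCompl M)
  obtain ⟨hdnt, hdge⟩ := bottom_degree_of_supportDim_eq (locD ω p.asIdeal) hKp ν hν
    (LocalizedModule p.asIdeal.primeCompl M) dp hd
  refine ⟨δp, dp, hδ, hd, (mem_support_iff_nontrivial_localized' ω M a p _).2 hδnt,
    (mem_support_iff_nontrivial_localized' ω M a p _).2 hdnt, fun i hi => ?_⟩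
  have hi' := (mem_support_iff_nontrivial_localized' ω M a p i).1 hi
  exact ⟨hdge i hi', hδle i hi'⟩

theorem depth_le_depth_add_of_le (a : ℤ) [DerivedCategory.IsGE ω a]
    (hloc : ∀ p : PrimeSpectrum A,
      Dual.IsDualizing (Localization.AtPrime p.asIdeal) (locD ω p.asIdeal))
    (p p' : PrimeSpectrum A) (hpp' : p ≤ p')
    (hM : Nontrivial (LocalizedModule p.asIdeal.primeCompl M)) (h : ℕ)
    (hh : Module.supportDim (Localization.AtPrime p'.asIdeal)
      (LocalizedModule p'.asIdeal.primeCompl (A ⧸ p.asIdeal)) ≤ (h : WithBot ℕ∞)) :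
    LocCoh.depth (Localization.AtPrime p'.asIdeal) (LocalizedModule p'.asIdeal.primeCompl M) ≤
      LocCoh.depth (Localization.AtPrime p.asIdeal)
        (LocalizedModule p.asIdeal.primeCompl M) + h := by
  haveI := isNoetherianRing_atPrime p.asIdeal
  haveI := isNoetherianRing_atPrime p'.asIdeal
  obtain ⟨ν, hν⟩ := exists_isNormalized_shift (locD ω p.asIdeal) (hloc p)
  obtain ⟨ν', hν'⟩ := exists_isNormalized_shift (locD ω p'.asIdeal) (hloc p')
  have hpM : p ∈ Module.support A M := Module.mem_support_iff.2 hM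
  have hM' : Nontrivial (LocalizedModule p'.asIdeal.primeCompl M) :=
    Module.mem_support_iff.1 (Module.mem_support_mono hpp' hpM)
  have hpN : p ∈ Module.support A (A ⧸ p.asIdeal) :=
    (Module.mem_support_iff_of_finite).2 (le_of_eq Ideal.annihilator_quotient)
  have hN : Nontrivial (LocalizedModule p.asIdeal.primeCompl (A ⧸ p.asIdeal)) :=
    Module.mem_support_iff.1 hpN
  have hN' : Nontrivial (LocalizedModule p'.asIdeal.primeCompl (A ⧸ p.asIdeal)) :=
    Module.mem_support_iff.1 (Module.mem_support_mono hpp' hpN)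
  obtain ⟨δ, d, hδ, -, h3, -, -⟩ := degrees_at ω M a p (hloc p) ν hν hM
  obtain ⟨δ', d', hδ', -, -, -, h5'⟩ := degrees_at ω M a p' (hloc p') ν' hν' hM'
  obtain ⟨δN, dN, -, -, -, h4N, -⟩ := degrees_at ω (A ⧸ p.asIdeal) a p (hloc p) ν hν hN
  obtain ⟨δN', dN', -, hdN', -, -, h5N'⟩ :=
    degrees_at ω (A ⧸ p.asIdeal) a p' (hloc p') ν' hν' hN'
  have e1 := (h5' _ (Module.mem_support_mono hpp' h3)).2
  have e2 := (h5N' _ (Module.mem_support_mono hpp' h4N)).1
  have e3 : dN' ≤ h := by
    rw [hdN'] at hh
    exact_mod_cast hh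
  rw [hδ, hδ']
  have e4 : δ' ≤ δ + h := by omega
  exact_mod_cast e4

end

section Regular

theorem depth_le_depth_add_of_le_regular (R : Type u) [CommRing R] [IsRegularRing R]
    (M : Type u) [AddCommGroup M] [Module R M] [Module.Finite R M]
    (P P' : Ideal R) [P.IsPrime] [P'.IsPrime] (hPP' : P ≤ P')
    (hM : Nontrivial (LocalizedModule P.primeCompl M)) (h : ℕ)
    (hh : Module.supportDim (Localization.AtPrime P')
      (LocalizedModule P'.primeCompl (R ⧸ P)) ≤ (h : WithBot ℕ∞)) :
    LocCoh.depth (Localization.AtPrime P') (LocalizedModule P'.primeCompl M) ≤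
      LocCoh.depth (Localization.AtPrime P) (LocalizedModule P.primeCompl M) + h := by
  have hreg : ∀ p : PrimeSpectrum R, IsRegularLocalRing (Localization.AtPrime p.asIdeal) :=
    fun p => inferInstance
  exact depth_le_depth_add_of_le (Dual.inD R R) M 0
    (fun P => isDualizing_locD_inD_self_of_regular hreg P.asIdeal)
    ⟨P, inferInstance⟩ ⟨P', inferInstance⟩ hPP' hM h hh

/-- over a quotient of a regular ring: if `p'` covers `p` then `depth M_{p'} ≤ depth M_p + 1` -/
theorem depth_le_succ_of_cover (R A : Type u) [CommRing R] [CommRing A] [IsRegularRing R]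
    [Algebra R A] (hs : Function.Surjective (algebraMap R A))
    (M : Type u) [AddCommGroup M] [Module A M] [Module.Finite A M]
    (p p' : PrimeSpectrum A) (hpp' : p ≤ p')
    (hcov : ∀ Q : Ideal A, Q.IsPrime → p.asIdeal ≤ Q → Q ≤ p'.asIdeal →
      Q = p.asIdeal ∨ Q = p'.asIdeal) :
    LocCoh.depth (Localization.AtPrime p'.asIdeal) (LocalizedModule p'.asIdeal.primeCompl M) ≤
      LocCoh.depth (Localization.AtPrime p.asIdeal)
        (LocalizedModule p.asIdeal.primeCompl M) + 1 := by
  haveI : IsNoetherianRing A := isNoetherianRing_of_surjective R A (algebraMap R A) hs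
  by_cases hM : Nontrivial (LocalizedModule p.asIdeal.primeCompl M)
  swap
  · rw [not_nontrivial_iff_subsingleton] at hM
    have h0 : LocCoh.depth (Localization.AtPrime p.asIdeal)
        (LocalizedModule p.asIdeal.primeCompl M) = ⊤ := by
      unfold LocCoh.depth LocCoh.idealDepth
      rw [if_pos (Subsingleton.elim _ _)]
    rw [h0, top_add]
    exact le_top
  letI : Module R M := Module.compHom M (algebraMap R A)
  haveI : IsScalarTower R A M := ⟨fun x y z => by
    rw [Algebra.smul_def, mul_smul]
    rfl⟩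
  haveI : Module.Finite R A := Module.Finite.of_surjective (Algebra.linearMap R A) hs
  haveI : Module.Finite R M := Module.Finite.trans A M
  obtain ⟨h1, h2⟩ := depth_dim_transfer hs M p.asIdeal
  obtain ⟨h1', -⟩ := depth_dim_transfer hs M p'.asIdeal
  have hMP : Nontrivial (LocalizedModule (p.asIdeal.comap (algebraMap R A)).primeCompl M) := by
    by_contra hcon
    rw [not_nontrivial_iff_subsingleton] at hcon
    have h3 := Module.supportDim_eq_bot_of_subsingleton
      (Localization.AtPrime (p.asIdeal.comap (algebraMap R A)))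
      (LocalizedModule (p.asIdeal.comap (algebraMap R A)).primeCompl M)
    rw [h2] at h3
    exact Module.supportDim_ne_bot_of_nontrivial _ _ h3
  rw [← h1, ← h1']
  have hpp'I : p.asIdeal ≤ p'.asIdeal := hpp'
  have hh := Groth.Agent.Lib.CoverPrime_helper6.supportDim_quot_le_one
    (p.asIdeal.comap (algebraMap R A)) (p'.asIdeal.comap (algebraMap R A))
    (Groth.Agent.Lib.CoverPrime_helper6.cover_comap (algebraMap R A) hs p.asIdeal p'.asIdeal hcov)
  have h4 := depth_le_depth_add_of_le_regular R M (p.asIdeal.comap (algebraMap R A))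
    (p'.asIdeal.comap (algebraMap R A)) (Ideal.comap_mono hpp'I) hMP 1 (by exact_mod_cast hh)
  exact_mod_cast h4

end Regular

end Groth.Agent.Lib.DMod_helper6
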