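import Groth.Agent.Lib.ProConsTop_helper8

namespace Groth.Agent.SpecGen

open Topology TopologicalSpace Set

variable {X : Type*} [TopologicalSpace X]

/-- The set of generizations of points of `A`. -/
def gen (A : Set X) : Set X := {z | ∃ a ∈ A, z ⤳ a}

theorem subset_gen (A : Set X) : A ⊆ gen A := fun a ha => ⟨a, ha, specializes_rfl⟩

theorem gen_stable {A : Set X} {z z' : X} (h : z' ⤳ z) (hz : z ∈ gen A) : z' ∈ gen A := by
  obtain ⟨a, ha, hza⟩ := hz
  exact ⟨a, ha, h.trans hza⟩

/-- For a compact set `A` in a prespectral space, the complement of `gen A` is the union of the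
complements of the compact opens containing `A`. -/
theorem compl_gen_eq [PrespectralSpace X] {A : Set X} (hA : IsCompact A) :
    (gen A)ᶜ = ⋃₀ {T | ∃ W : Set X, IsOpen W ∧ IsCompact W ∧ A ⊆ W ∧ T = Wᶜ} := by
  ext z
  simp only [mem_compl_iff, mem_sUnion, mem_ofPred_eq]
  constructor
  · intro hz
    -- closure {z} ∩ A = ∅
    have hdisj : A ⊆ (closure {z})ᶜ := by
      intro a ha hza
      exact hz ⟨a, ha, specializes_iff_mem_closure.mpr hza⟩
    obtain ⟨W, hWc, hWo, hAW, hWsub⟩ :=
      PrespectralSpace.exists_isCompact_and_isOpen_between hA isClosed_closure.isOpen_compl hdisj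
    refine ⟨Wᶜ, ⟨W, hWo, hWc, hAW, rfl⟩, ?_⟩
    intro hzW
    exact hWsub hzW (subset_closure rfl)
  · rintro ⟨_, ⟨W, hWo, _, hAW, rfl⟩, hzW⟩ ⟨a, ha, hza⟩
    exact hzW (hza.mem_open hWo (hAW ha))

/-- In a spectral space, if `A` is compact and the complement of `gen A` is stable under
generization, then `gen A` is closed. -/
theorem isClosed_gen [CompactSpace X] [QuasiSober X] [PrespectralSpace X] [QuasiSeparatedSpace X]
    {A : Set X} (hA : IsCompact A)
    (hst : ∀ z z' : X, z' ⤳ z → z ∉ gen A → z' ∉ gen A) : IsClosed (gen A) := by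
  rw [← isOpen_compl_iff, isOpen_iff_mem_nhds]
  intro x hx
  refine Groth.Agent.Lib.ProConsTopH8.mem_nhds_of_sUnion_of_generizations _ ?_ (compl_gen_eq hA) x ?_
  · rintro _ ⟨W, hWo, hWc, -, rfl⟩
    exact (hWc.isConstructible hWo).compl
  · intro x' hx'
    exact hst x x' hx' hx

/-- In a spectral space, if `A` and `B` are compact and every point is a generization of a point of
exactly one of them, then `gen A` is clopen. -/
theorem isClopen_gen [CompactSpace X] [QuasiSober X] [PrespectralSpace X] [QuasiSeparatedSpace X]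
    {A B : Set X} (hA : IsCompact A) (hB : IsCompact B)
    (hcov : gen A ∪ gen B = univ) (hdisj : Disjoint (gen A) (gen B)) :
    IsClopen (gen A) := by
  have hcompl : (gen A)ᶜ = gen B := by
    ext z
    constructor
    · intro hz
      have : z ∈ gen A ∪ gen B := hcov ▸ mem_univ z
      exact this.resolve_left hz
    · intro hz hzA
      exact Set.disjoint_left.mp hdisj hzA hz
  have hcompl' : (gen B)ᶜ = gen A := by rw [← hcompl, compl_compl]
  constructor
  · refine isClosed_gen hA ?_
    intro z z' h hz
    have hz' : z ∈ gen B := hcompl ▸ hz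
    have : z' ∈ gen B := gen_stable h hz'
    rw [← hcompl] at this
    exact this
  · rw [← hcompl', isOpen_compl_iff]
    refine isClosed_gen hB ?_
    intro z z' h hz
    have hz' : z ∈ gen A := hcompl' ▸ hz
    have : z' ∈ gen A := gen_stable h hz'
    rw [← hcompl'] at this
    exact this

end Groth.Agent.SpecGen
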