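import Groth.Agent.Lib.SpecLim_lead

/-!
# Cofiltered limits of spectral spaces are spectral (lead)
-/

universe u

set_option linter.unusedSectionVars false
set_option linter.style.haveILetI false

namespace Groth.Agent.Lib.SpecLim2_lead

open CategoryTheory CategoryTheory.Limits TopologicalSpace Topology Set
open Groth.Agent.Lib.SpecSp_lead Groth.Agent.Lib.SpecSp2_lead Groth.Agent.Lib.SpecLim_lead
open Groth.Agent.Lib.CofLim_lead

section anyJ

variable {J : Type u} [SmallCategory J] (F : J ⥤ TopCat.{u})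
  (hF : ∀ j, SpectralSpace (F.obj j))
  (hFm : ∀ {i j : J} (a : i ⟶ j), IsSpectralMap (F.map a : F.obj i → F.obj j))
  (c : Cone F) (hc : IsLimit c)

include hF hFm hc

/-- Preimages of constructibly closed sets under the projections are compact. -/
theorem isCompact_preimage_proj {j : J} {D : Set (F.obj j)}
    (hD : IsClosed[constructibleTopology (F.obj j)] D) : IsCompact (c.π.app j ⁻¹' D) := by
  let Z : ∀ k, Set (F.obj k) := fun k => ⋂ a : k ⟶ j, F.map a ⁻¹' D
  have hZ : ∀ k, IsClosed[constructibleTopology (F.obj k)] (Z k) := fun k =>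
    @isClosed_iInter _ _ (constructibleTopology (F.obj k)) _ fun a =>
      isClosed_constructibleTopology_preimage_map F hFm a hD
  have hZm : ∀ {k l : J} (b : k ⟶ l), MapsTo (F.map b) (Z k) (Z l) := by
    intro k l b x hx
    simp only [Z, mem_iInter, mem_preimage] at hx ⊢
    intro a
    have := hx (b ≫ a)
    rwa [F.map_comp] at this
  have h := isCompact_limit_subset F hF hFm Z hZ hZm c hc
  have heq : {x : c.pt | ∀ k, c.π.app k x ∈ Z k} = c.π.app j ⁻¹' D := by
    ext x
    simp only [Z, mem_ofPred_eq, mem_iInter, mem_preimage]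
    constructor
    · intro hx
      have := hx j (𝟙 j)
      rwa [F.map_id] at this
    · intro hx k a
      rw [proj_compat F c hc a x]
      exact hx
  rwa [heq] at h

theorem isSpectralMap_proj (j : J) : IsSpectralMap (c.π.app j : c.pt → F.obj j) := by
  refine ⟨(c.π.app j).hom.continuous, fun U hUo hUc => ?_⟩
  exact isCompact_preimage_proj F hF hFm c hc
    (isClosed_constructibleTopology_of_isCompact_isOpen hUc hUo)

theorem compactSpace_pt : CompactSpace c.pt := by
  have h := isCompact_limit_subset F hF hFm (fun _ => univ)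
    (fun j => by
      haveI := hF j
      exact isClosed_constructibleTopology_of_isClosed isClosed_univ)
    (fun _ => mapsTo_univ _ _) c hc
  have heq : {x : c.pt | ∀ j : J, c.π.app j x ∈ (univ : Set (F.obj j))} = univ :=
    eq_univ_of_forall fun x j => mem_univ _
  rw [heq] at h
  exact isCompact_univ_iff.1 h

theorem t0Space_pt : T0Space c.pt := by
  rw [t0Space_iff_exists_isOpen_xor_mem]
  intro x y hxy
  have : ∃ j, c.π.app j x ≠ c.π.app j y := by
    by_contra hcon
    push Not at hcon
    exact hxy (ext_of_proj F c hc hcon)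
  obtain ⟨j, hj⟩ := this
  haveI := hF j
  obtain ⟨U, hU, hxor⟩ := exists_isOpen_xor_mem hj
  exact ⟨c.π.app j ⁻¹' U, hU.preimage (c.π.app j).hom.continuous, hxor⟩

end anyJ

section cofiltered

variable {J : Type u} [SmallCategory J] [IsCofiltered J] (F : J ⥤ TopCat.{u})
  (hF : ∀ j, SpectralSpace (F.obj j))
  (hFm : ∀ {i j : J} (a : i ⟶ j), IsSpectralMap (F.map a : F.obj i → F.obj j))
  (c : Cone F) (hc : IsLimit c)

include hF hFm hc

/-- Preimages of compact opens form a basis of the limit. -/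
theorem isTopologicalBasis_preimage_compact_opens :
    IsTopologicalBasis
      {U : Set c.pt | ∃ (j : J) (V : Set (F.obj j)), V ∈ {V | IsOpen V ∧ IsCompact V} ∧
        U = c.π.app j ⁻¹' V} := by
  refine TopCat.isTopologicalBasis_cofiltered_limit F c hc (fun j => {V | IsOpen V ∧ IsCompact V})
    (fun j => by haveI := hF j; exact PrespectralSpace.isTopologicalBasis)
    (fun i => by haveI := hF i; exact ⟨isOpen_univ, isCompact_univ⟩)
    (fun i U1 U2 h1 h2 => by
      haveI := hF i
      exact ⟨h1.1.inter h2.1, h1.2.inter_of_isOpen h2.2 h1.1 h2.1⟩) ?_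
  intro i j f V hV
  exact ⟨hV.1.preimage (F.map f).hom.continuous, (hFm f).isCompact_preimage_of_isOpen hV.1 hV.2⟩

theorem prespectralSpace_pt : PrespectralSpace c.pt := by
  refine .of_isTopologicalBasis (isTopologicalBasis_preimage_compact_opens F hF hFm c hc) ?_
  rintro _ ⟨j, V, hV, rfl⟩
  exact (isSpectralMap_proj F hF hFm c hc j).isCompact_preimage_of_isOpen hV.1 hV.2

theorem quasiSeparatedSpace_pt : QuasiSeparatedSpace c.pt := by
  let ι := Σ j, {V : Set (F.obj j) // IsOpen V ∧ IsCompact V}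
  let b : ι → Set c.pt := fun s => c.π.app s.1 ⁻¹' s.2.1
  have hb : range b = {U : Set c.pt | ∃ (j : J) (V : Set (F.obj j)),
      V ∈ {V | IsOpen V ∧ IsCompact V} ∧ U = c.π.app j ⁻¹' V} := by
    ext U
    constructor
    · rintro ⟨s, rfl⟩
      exact ⟨s.1, s.2.1, s.2.2, rfl⟩
    · rintro ⟨j, V, hV, rfl⟩
      exact ⟨⟨j, V, hV⟩, rfl⟩
  refine QuasiSeparatedSpace.of_isTopologicalBasis (b := b) ?_ ?_
  · rw [hb]
    exact isTopologicalBasis_preimage_compact_opens F hF hFm c hc
  · rintro ⟨i, U, hU⟩ ⟨j, V, hV⟩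
    change IsCompact (c.π.app i ⁻¹' U ∩ c.π.app j ⁻¹' V)
    let k := IsCofiltered.min i j
    let a : k ⟶ i := IsCofiltered.minToLeft i j
    let b' : k ⟶ j := IsCofiltered.minToRight i j
    have heq : c.π.app i ⁻¹' U ∩ c.π.app j ⁻¹' V =
        c.π.app k ⁻¹' (F.map a ⁻¹' U ∩ F.map b' ⁻¹' V) := by
      rw [preimage_inter, preimage_map_eq F c hc, preimage_map_eq F c hc]
    rw [heq]
    haveI := hF k
    apply (isSpectralMap_proj F hF hFm c hc k).isCompact_preimage_of_isOpen
    · exact (hU.1.preimage (F.map a).hom.continuous).inter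
        (hV.1.preimage (F.map b').hom.continuous)
    · exact ((hFm a).isCompact_preimage_of_isOpen hU.1 hU.2).inter_of_isOpen
        ((hFm b').isCompact_preimage_of_isOpen hV.1 hV.2)
        (hU.1.preimage (F.map a).hom.continuous) (hV.1.preimage (F.map b').hom.continuous)

theorem quasiSober_pt : QuasiSober c.pt := by
  constructor
  intro Z hZirr hZcl
  have hirr : ∀ j, IsIrreducible (closure (c.π.app j '' Z)) := fun j =>
    (hZirr.image _ (c.π.app j).hom.continuous.continuousOn).closure
  have hgen : ∀ j, ∃ ξ : F.obj j, IsGenericPoint ξ (closure (c.π.app j '' Z)) := fun j => by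
    haveI := hF j
    exact QuasiSober.sober (hirr j) isClosed_closure
  choose ξ hξ using hgen
  have hcompat : ∀ {i j : J} (a : i ⟶ j), F.map a (ξ i) = ξ j := by
    intro i j a
    haveI := hF j
    have himg : F.map a '' (c.π.app i '' Z) = c.π.app j '' Z := by
      rw [← image_comp]
      apply image_congr
      intro z _
      exact proj_compat F c hc a z
    have hη : IsGenericPoint (F.map a (ξ i)) (closure (c.π.app j '' Z)) := by
      apply Subset.antisymm
      · apply closure_minimal _ isClosed_closure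
        rw [singleton_subset_iff, ← himg]
        exact image_closure_subset_closure_image (F.map a).hom.continuous
          ⟨ξ i, (hξ i).mem, rfl⟩
      · apply closure_minimal _ isClosed_closure
        rintro _ ⟨z, hz, rfl⟩
        have h1 : ξ i ⤳ c.π.app i z :=
          (hξ i).specializes (subset_closure ⟨z, hz, rfl⟩)
        have h2 := h1.map (F.map a).hom.continuous
        rw [← proj_compat F c hc a z]
        exact specializes_iff_mem_closure.1 h2
    exact hη.eq (hξ j)
  obtain ⟨p, hp⟩ := exists_of_compatible F c hc ξ hcompat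
  have hpZ : p ∈ Z := by
    by_contra hcon
    obtain ⟨j, V, hV, hpV, hVZ⟩ :=
      exists_preimage_subset F c hc hZcl.isOpen_compl (show p ∈ Zᶜ from hcon)
    have hξV : ξ j ∈ V := by rw [← hp j]; exact hpV
    obtain ⟨_, hzV, z, hz, rfl⟩ := mem_closure_iff.1 (hξ j).mem V hV hξV
    exact hVZ (show z ∈ c.π.app j ⁻¹' V from hzV) hz
  refine ⟨p, Subset.antisymm (closure_minimal (singleton_subset_iff.2 hpZ) hZcl) ?_⟩
  intro z hz
  rw [← specializes_iff_mem_closure, specializes_iff_forall_open]
  intro W hW hzW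
  obtain ⟨j, V, hV, hzV, hVW⟩ := exists_preimage_subset F c hc hW hzW
  apply hVW
  change c.π.app j p ∈ V
  rw [hp j]
  have h1 : ξ j ⤳ c.π.app j z := (hξ j).specializes (subset_closure ⟨z, hz, rfl⟩)
  exact h1.mem_open hV hzV

theorem spectralSpace_pt : SpectralSpace c.pt :=
  { toT0Space := t0Space_pt F hF hFm c hc
    toCompactSpace := compactSpace_pt F hF hFm c hc
    toQuasiSober := quasiSober_pt F hF hFm c hc
    toQuasiSeparatedSpace := quasiSeparatedSpace_pt F hF hFm c hc
    toPrespectralSpace := prespectralSpace_pt F hF hFm c hc }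

end cofiltered

section descend

variable {J : Type u} [SmallCategory J] [IsCofiltered J] (F : J ⥤ TopCat.{u})
  (hF : ∀ j, SpectralSpace (F.obj j))
  (hFm : ∀ {i j : J} (a : i ⟶ j), IsSpectralMap (F.map a : F.obj i → F.obj j))
  (c : Cone F) (hc : IsLimit c)

include hF hFm hc

/-- A finite union of preimages of compact opens is the preimage of a compact open. -/
theorem exists_preimage_eq_biUnion_compact (t : Finset (Σ j, Set (F.obj j)))
    (ht : ∀ s ∈ t, IsOpen s.2 ∧ IsCompact s.2) :
    ∃ (i : J) (Ui : Set (F.obj i)), IsOpen Ui ∧ IsCompact Ui ∧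
      (⋃ s ∈ t, c.π.app s.1 ⁻¹' s.2) = c.π.app i ⁻¹' Ui := by
  classical
  obtain ⟨i, hi⟩ := IsCofiltered.inf_objs_exists (t.image Sigma.fst)
  have hg : ∀ s ∈ t, Nonempty (i ⟶ s.1) := fun s hs =>
    hi (Finset.mem_image.2 ⟨s, hs, rfl⟩)
  let g : ∀ s ∈ t, i ⟶ s.1 := fun s hs => (hg s hs).some
  refine ⟨i, ⋃ s : t, F.map (g s.1 s.2) ⁻¹' s.1.2, ?_, ?_, ?_⟩
  · exact isOpen_iUnion fun s => (ht s.1 s.2).1.preimage (F.map (g s.1 s.2)).hom.continuous
  · exact isCompact_iUnion fun s =>
      (hFm (g s.1 s.2)).isCompact_preimage_of_isOpen (ht s.1 s.2).1 (ht s.1 s.2).2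
  · rw [preimage_iUnion]
    ext x
    simp only [mem_iUnion]
    constructor
    · rintro ⟨s, hs, hx⟩
      refine ⟨⟨s, hs⟩, ?_⟩
      rw [preimage_map_eq F c hc]
      exact hx
    · rintro ⟨s, hx⟩
      rw [preimage_map_eq F c hc] at hx
      exact ⟨s.1, s.2, hx⟩

/-- Stacks 0A30 (1). -/
theorem exists_compact_open_preimage_eq {U : Set c.pt} (hU : IsOpen U) (hUc : IsCompact U) :
    ∃ (i : J) (Ui : Set (F.obj i)), IsOpen Ui ∧ IsCompact Ui ∧ c.π.app i ⁻¹' Ui = U := by
  classical
  let S : Set (Σ j, Set (F.obj j)) :=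
    {s | (IsOpen s.2 ∧ IsCompact s.2) ∧ c.π.app s.1 ⁻¹' s.2 ⊆ U}
  have hcov : U ⊆ ⋃ s : S, c.π.app s.1.1 ⁻¹' s.1.2 := by
    intro x hx
    obtain ⟨_, ⟨j, V, hV, rfl⟩, hxV, hVU⟩ :=
      (isTopologicalBasis_preimage_compact_opens F hF hFm c hc).exists_subset_of_mem_open hx hU
    exact mem_iUnion.2 ⟨⟨⟨j, V⟩, hV, hVU⟩, hxV⟩
  obtain ⟨t, ht⟩ := hUc.elim_finite_subcover (fun s : S => c.π.app s.1.1 ⁻¹' s.1.2)
    (fun s => s.2.1.1.preimage (c.π.app s.1.1).hom.continuous) hcov
  obtain ⟨i, Ui, hUi, hUic, hUeq⟩ :=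
    exists_preimage_eq_biUnion_compact F hF hFm c hc (t.image Subtype.val)
    (fun s hs => by
      obtain ⟨s', -, rfl⟩ := Finset.mem_image.1 hs
      exact s'.2.1)
  refine ⟨i, Ui, hUi, hUic, ?_⟩
  rw [← hUeq]
  apply Subset.antisymm
  · intro x hx
    obtain ⟨s, hs, hxs⟩ := mem_iUnion₂.1 hx
    obtain ⟨s', -, rfl⟩ := Finset.mem_image.1 hs
    exact s'.2.2 hxs
  · intro x hx
    obtain ⟨s, hs, hxs⟩ := mem_iUnion₂.1 (ht hx)
    exact mem_iUnion₂.2 ⟨s.1, Finset.mem_image.2 ⟨s, hs, rfl⟩, hxs⟩

/-- If two constructibly clopen sets have the same preimage in the limit, they already have the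
same preimage at some stage. -/
theorem exists_preimage_eq_of_preimage_eq {i : J} {A B : Set (F.obj i)}
    (hA : @IsClopen _ (constructibleTopology (F.obj i)) A)
    (hB : @IsClopen _ (constructibleTopology (F.obj i)) B)
    (h : c.π.app i ⁻¹' A = c.π.app i ⁻¹' B) :
    ∃ (j : J) (a : j ⟶ i), F.map a ⁻¹' A = F.map a ⁻¹' B := by
  haveI := hF i
  have hD : IsClosed[constructibleTopology (F.obj i)] ((A \ B) ∪ (B \ A)) := by
    have h1 : IsClosed[constructibleTopology (F.obj i)] (A \ B) :=
      isClosed_constructibleTopology_inter hA.1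
        (isClosed_constructibleTopology_compl_iff.2 hB.2)
    have h2 : IsClosed[constructibleTopology (F.obj i)] (B \ A) :=
      isClosed_constructibleTopology_inter hB.1
        (isClosed_constructibleTopology_compl_iff.2 hA.2)
    exact @IsClosed.union _ _ _ (constructibleTopology (F.obj i)) h1 h2
  have hempty : c.π.app i ⁻¹' ((A \ B) ∪ (B \ A)) = ∅ := by
    rw [preimage_union, preimage_sdiff, preimage_sdiff, h]
    simp
  obtain ⟨j, a, ha⟩ := exists_preimage_eq_empty F hF hFm c hc hD hempty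
  refine ⟨j, a, ?_⟩
  rw [preimage_union, preimage_sdiff, preimage_sdiff, union_empty_iff, sdiff_eq_empty,
    sdiff_eq_empty] at ha
  exact Subset.antisymm ha.1 ha.2

end descend

end Groth.Agent.Lib.SpecLim2_lead
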