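import Groth.Agent.Lib.SpecSp_lead
import Groth.Agent.Lib.ConstrMore_lead

/-!
# Constructibly closed subsets of spectral spaces are spectral (lead)
-/

universe u

set_option linter.unusedSectionVars false
set_option linter.style.haveILetI false

namespace Groth.Agent.Lib.SpecSp2_lead

open Set Topology Groth.Agent.Lib.SpecSp_lead

variable {X : Type u} [tX : TopologicalSpace X] [SpectralSpace X]

theorem isClosed_constructibleTopology_inter {E F : Set X}
    (hE : IsClosed[constructibleTopology X] E) (hF : IsClosed[constructibleTopology X] F) :
    IsClosed[constructibleTopology X] (E ∩ F) :=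
  @IsClosed.inter X E F (constructibleTopology X) hE hF

/-- A constructibly closed subset is retrocompact. -/
theorem isRetrocompact_of_isClosed_constructibleTopology {E : Set X}
    (hE : IsClosed[constructibleTopology X] E) : IsRetrocompact E := by
  intro U hUc hUo
  exact isCompact_of_isClosed_constructibleTopology
    (isClosed_constructibleTopology_inter hE
      (isClosed_constructibleTopology_of_isCompact_isOpen hUc hUo))

theorem quasiSober_of_isClosed_constructibleTopology {E : Set X}
    (hE : IsClosed[constructibleTopology X] E) : QuasiSober E := by
  constructor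
  intro S hSirr hScl
  obtain ⟨C, hC, rfl⟩ := isClosed_induced_iff.1 hScl
  have himg : (Subtype.val : E → X) '' ((Subtype.val : E → X) ⁻¹' C) = E ∩ C :=
    Subtype.image_preimage_coe E C
  have hZirr : IsIrreducible (closure (E ∩ C)) := by
    rw [← himg]
    exact (hSirr.image _ continuous_subtype_val.continuousOn).closure
  obtain ⟨ξ, hξ⟩ := QuasiSober.sober hZirr isClosed_closure
  have hTc : IsClosed[constructibleTopology X] (E ∩ C) :=
    isClosed_constructibleTopology_inter hE (isClosed_constructibleTopology_of_isClosed hC)
  obtain ⟨e, he, heξ⟩ := exists_specializes_of_mem_closure hTc hξ.mem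
  have hξe : ξ ⤳ e := hξ.specializes (subset_closure he)
  have heq : e = ξ := (heξ.antisymm hξe).eq
  subst heq
  refine ⟨⟨e, he.1⟩, ?_⟩
  rw [IsGenericPoint, IsInducing.subtypeVal.closure_eq_preimage_closure_image, image_singleton]
  have hξ' : closure ({e} : Set X) = closure (E ∩ C) := hξ
  rw [hξ']
  ext z
  constructor
  · intro hz
    exact closure_minimal inter_subset_right hC hz
  · intro hz
    exact subset_closure ⟨z.2, hz⟩

theorem spectralSpace_of_isClosed_constructibleTopology {E : Set X}
    (hE : IsClosed[constructibleTopology X] E) : SpectralSpace E := by
  have hret := isRetrocompact_of_isClosed_constructibleTopology hE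
  have hind : IsInducing (Subtype.val : E → X) := IsInducing.subtypeVal
  have hrange : IsRetrocompact (range (Subtype.val : E → X)) := by
    rwa [Subtype.range_coe]
  have h1 : PrespectralSpace E := ConstrMore_lead.prespectralSpace_of_isInducing hind hrange
  have h2 : CompactSpace E :=
    isCompact_iff_compactSpace.1 (isCompact_of_isClosed_constructibleTopology hE)
  have h3 : QuasiSober E := quasiSober_of_isClosed_constructibleTopology hE
  have h4 : QuasiSeparatedSpace E := by
    constructor
    intro K K' hKo hKc hK'o hK'c
    obtain ⟨W, hWc, hWo, rfl⟩ := ConstrMore_lead.exists_isCompact_isOpen_preimage_eq hind hKc hKo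
    obtain ⟨W', hW'c, hW'o, rfl⟩ :=
      ConstrMore_lead.exists_isCompact_isOpen_preimage_eq hind hK'c hK'o
    rw [← preimage_inter, hind.isCompact_iff, Subtype.image_preimage_coe]
    exact hret (hWc.inter_of_isOpen hW'c hWo hW'o) (hWo.inter hW'o)
  exact { toT0Space := inferInstance, toCompactSpace := h2, toQuasiSober := h3,
          toQuasiSeparatedSpace := h4, toPrespectralSpace := h1 }

/-- Constructible subsets of a spectral space are clopen in the constructible topology. -/
theorem isClopen_constructibleTopology_of_isConstructible {E : Set X} (hE : IsConstructible E) :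
    @IsClopen X (constructibleTopology X) E := by
  induction hE using IsConstructible.empty_union_induction with
  | open_retrocompact U hUo hUr =>
    exact ⟨isClosed_constructibleTopology_of_isCompact_isOpen hUr.isCompact hUo,
      hUr.isCompact.isOpen_constructibleTopology_of_isOpen hUo⟩
  | union s hs t ht ihs iht =>
    exact @IsClopen.union X (constructibleTopology X) s t ihs iht
  | compl s hs ih =>
    exact @IsClopen.compl X (constructibleTopology X) s ih

theorem isClosed_constructibleTopology_sInter {S : Set (Set X)}
    (hS : ∀ s ∈ S, IsClosed[constructibleTopology X] s) :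
    IsClosed[constructibleTopology X] (⋂₀ S) :=
  @isClosed_sInter X (constructibleTopology X) S hS

end Groth.Agent.Lib.SpecSp2_lead
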