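import Mathlib.Topology.Category.TopCat.Limits.Cofiltered
import Mathlib.Topology.Category.TopCat.Limits.Konig
import Mathlib.CategoryTheory.Limits.ConcreteCategory.Basic
import Groth.Agent.Lib.SpecSp2_lead
import Groth.Agent.Lib.CofLim_lead

/-!
# Limits of spectral spaces (lead)
-/

universe u

set_option linter.unusedSectionVars false
set_option linter.style.haveILetI false

namespace Groth.Agent.Lib.SpecLim_lead

open CategoryTheory CategoryTheory.Limits TopologicalSpace Topology Set
open Groth.Agent.Lib.SpecSp_lead Groth.Agent.Lib.SpecSp2_lead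

section general

variable {J : Type u} [SmallCategory J] (F : J ⥤ TopCat.{u}) (c : Cone F) (hc : IsLimit c)

include hc

/-- Points of a limit of spaces are compatible families. -/
theorem exists_of_compatible (x : ∀ j, F.obj j)
    (hx : ∀ {i j : J} (a : i ⟶ j), F.map a (x i) = x j) :
    ∃ p : c.pt, ∀ j, c.π.app j p = x j := by
  let e := IsLimit.conePointUniqueUpToIso hc (TopCat.limitConeIsLimit F)
  let u : (TopCat.limitCone F).pt := ⟨x, fun a => hx a⟩
  refine ⟨e.inv u, fun j => ?_⟩
  have h := IsLimit.conePointUniqueUpToIso_inv_comp hc (TopCat.limitConeIsLimit F) j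
  have h2 := ConcreteCategory.congr_hom h u
  exact h2

theorem ext_of_proj {p q : c.pt} (h : ∀ j, c.π.app j p = c.π.app j q) : p = q :=
  Concrete.isLimit_ext F hc p q h

theorem proj_compat {i j : J} (a : i ⟶ j) (p : c.pt) :
    F.map a (c.π.app i p) = c.π.app j p := by
  have := c.w a
  exact ConcreteCategory.congr_hom this p

end general

section withTop

variable {X Y : Type u} [TopologicalSpace X] [TopologicalSpace Y]

theorem continuous_ofTopology_constructible [PrespectralSpace X] :
    Continuous (WithTopology.ofTopology : WithConstructibleTopology X → X) := by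
  rw [continuous_def]
  intro s hs
  rw [WithTopology.isOpen_iff]
  exact isOpen_constructibleTopology_of_isOpen hs

theorem continuous_withConstructible_map {f : X → Y}
    (hf : Continuous[constructibleTopology X, constructibleTopology Y] f) :
    Continuous (fun y : WithConstructibleTopology X =>
      WithTopology.toTopology (constructibleTopology Y) (f (WithTopology.ofTopology y))) := by
  rw [continuous_def]
  intro s hs
  rw [WithTopology.isOpen_iff] at hs ⊢
  exact (@continuous_def X Y (constructibleTopology X) (constructibleTopology Y) f).1 hf _ hs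

instance t2Space_withConstructibleTopology [T0Space X] [PrespectralSpace X] :
    T2Space (WithConstructibleTopology X) := by
  have hts : TotallySeparatedSpace (WithConstructibleTopology X) := by
    rw [totallySeparatedSpace_iff_exists_isClopen]
    intro x y hxy
    have hxy' : WithTopology.ofTopology x ≠ WithTopology.ofTopology y := fun h =>
      hxy (WithTopology.ofTopology_injective _ h)
    obtain ⟨U, ⟨hUc, hUo⟩, hxU, hyU⟩ := exists_isClopen_constructibleTopology hxy'
    refine ⟨WithTopology.ofTopology ⁻¹' U, ⟨?_, ?_⟩, hxU, hyU⟩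
    · rw [WithTopology.isClosed_iff]; exact hUc
    · rw [WithTopology.isOpen_iff]; exact hUo
  infer_instance

theorem isClosed_preimage_ofTopology {E : Set X} (hE : IsClosed[constructibleTopology X] E) :
    IsClosed ((WithTopology.ofTopology : WithConstructibleTopology X → X) ⁻¹' E) := by
  rw [WithTopology.isClosed_iff]; exact hE

end withTop

section constr

variable {J : Type u} [SmallCategory J] (F : J ⥤ TopCat.{u})
  (hF : ∀ j, SpectralSpace (F.obj j))
  (hFm : ∀ {i j : J} (a : i ⟶ j), IsSpectralMap (F.map a : F.obj i → F.obj j))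
  (Z : ∀ j, Set (F.obj j))
  (hZm : ∀ {i j : J} (a : i ⟶ j), MapsTo (F.map a) (Z i) (Z j))

/-- `Z j` with the constructible topology. -/
abbrev ZObj (j : J) : Type u :=
  {y : WithConstructibleTopology (F.obj j) // WithTopology.ofTopology y ∈ Z j}

/-- The diagram of the `Z j` with their constructible topologies. -/
def Fc : J ⥤ TopCat.{u} where
  obj j := TopCat.of (ZObj F Z j)
  map {i j} a := TopCat.ofHom
    ⟨fun y => ⟨WithTopology.toTopology _ (F.map a (WithTopology.ofTopology y.1)), hZm a y.2⟩,
      Continuous.subtype_mk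
        ((continuous_withConstructible_map
          (continuous_constructibleTopology_of_isSpectralMap (hFm a))).comp
          continuous_subtype_val) _⟩
  map_id j := by
    ext y
    simp
  map_comp a b := by
    ext y
    simp

/-- The natural map from the constructible diagram to the original one. -/
def ιNat : Fc F hFm Z hZm ⟶ F where
  app j := TopCat.ofHom
    ⟨fun y => WithTopology.ofTopology y.1,
      haveI := hF j
      continuous_ofTopology_constructible.comp continuous_subtype_val⟩
  naturality i j a := by
    ext y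
    rfl

end constr

section compact

variable {J : Type u} [SmallCategory J] (F : J ⥤ TopCat.{u})
  (hF : ∀ j, SpectralSpace (F.obj j))
  (hFm : ∀ {i j : J} (a : i ⟶ j), IsSpectralMap (F.map a : F.obj i → F.obj j))
  (Z : ∀ j, Set (F.obj j))
  (hZ : ∀ j, IsClosed[constructibleTopology (F.obj j)] (Z j))
  (hZm : ∀ {i j : J} (a : i ⟶ j), MapsTo (F.map a) (Z i) (Z j))
  (c : Cone F) (hc : IsLimit c)

include hF hZ in
theorem compactSpace_Fc_obj (j : J) : CompactSpace ((Fc F hFm Z hZm).obj j) := by
  haveI := hF j
  exact isCompact_iff_compactSpace.1 (isClosed_preimage_ofTopology (hZ j)).isCompact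

include hF in
theorem t2Space_Fc_obj (j : J) : T2Space ((Fc F hFm Z hZm).obj j) := by
  haveI := hF j
  change T2Space (ZObj F Z j)
  infer_instance

include hF hZ in
theorem compactSpace_limitCone_Fc : CompactSpace (TopCat.limitCone.{u, u} (Fc F hFm Z hZm)).pt := by
  haveI := fun j => compactSpace_Fc_obj F hF hFm Z hZ hZm j
  haveI := fun j => t2Space_Fc_obj F hF hFm Z hZm j
  apply isCompact_iff_compactSpace.1
  apply IsClosed.isCompact
  have : {u : ∀ j : J, (Fc F hFm Z hZm).obj j |
      ∀ {i j : J} (f : i ⟶ j), (Fc F hFm Z hZm).map f (u i) = u j} =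
      ⋂ (i : J) (j : J) (f : i ⟶ j), {u | (Fc F hFm Z hZm).map f (u i) = u j} := by
    ext u
    simp only [mem_ofPred_eq, mem_iInter]
  rw [this]
  refine isClosed_iInter fun i => isClosed_iInter fun j => isClosed_iInter fun f => ?_
  exact isClosed_eq (((Fc F hFm Z hZm).map f).hom.continuous.comp (continuous_apply i))
    (continuous_apply j)

/-- The comparison map from the limit of the constructible diagram to the limit. -/
noncomputable def ψ : (TopCat.limitCone.{u, u} (Fc F hFm Z hZm)).pt ⟶ c.pt :=
  hc.lift ((Cone.postcompose (ιNat F hF hFm Z hZm)).obj (TopCat.limitCone.{u, u} (Fc F hFm Z hZm)))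

theorem proj_ψ (j : J) (u : (TopCat.limitCone.{u, u} (Fc F hFm Z hZm)).pt) :
    c.π.app j (ψ F hF hFm Z hZm c hc u) = WithTopology.ofTopology (u.1 j).1 := by
  have h := hc.fac
    ((Cone.postcompose (ιNat F hF hFm Z hZm)).obj (TopCat.limitCone.{u, u} (Fc F hFm Z hZm))) j
  exact ConcreteCategory.congr_hom h u

include hF hFm hZ hZm hc in
/-- Stacks 0A2W (1). -/
theorem isCompact_limit_subset : IsCompact {x : c.pt | ∀ j, c.π.app j x ∈ Z j} := by
  haveI := compactSpace_limitCone_Fc F hF hFm Z hZ hZm
  have himg : {x : c.pt | ∀ j, c.π.app j x ∈ Z j} = range (ψ F hF hFm Z hZm c hc) := by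
    ext x
    constructor
    · intro hx
      let u : (TopCat.limitCone.{u, u} (Fc F hFm Z hZm)).pt :=
        ⟨fun j => ⟨WithTopology.toTopology _ (c.π.app j x), hx j⟩, by
          intro i j f
          apply Subtype.ext
          change WithTopology.toTopology _ (F.map f (c.π.app i x)) = _
          rw [proj_compat F c hc f x]⟩
      refine ⟨u, ?_⟩
      apply ext_of_proj F c hc
      intro j
      rw [proj_ψ]
    · rintro ⟨u, rfl⟩ j
      rw [proj_ψ]
      exact (u.1 j).2
  rw [himg]
  exact isCompact_range (ψ F hF hFm Z hZm c hc).hom.continuous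

include hF hFm hZ hZm hc in
/-- Stacks 0A2W (1'), cofiltered nonemptiness. -/
theorem exists_mem_limit_subset [IsCofiltered J] (hne : ∀ j, (Z j).Nonempty) :
    ∃ x : c.pt, ∀ j, c.π.app j x ∈ Z j := by
  haveI := fun j => compactSpace_Fc_obj F hF hFm Z hZ hZm j
  haveI := fun j => t2Space_Fc_obj F hF hFm Z hZm j
  haveI : ∀ j, Nonempty ((Fc F hFm Z hZm).obj j) := fun j => by
    obtain ⟨z, hz⟩ := hne j
    exact ⟨⟨WithTopology.toTopology _ z, hz⟩⟩
  obtain ⟨u⟩ := TopCat.nonempty_limitCone_of_compact_t2_cofiltered_system.{u, u}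
    (Fc F hFm Z hZm)
  refine ⟨ψ F hF hFm Z hZm c hc u, fun j => ?_⟩
  rw [proj_ψ]
  exact (u.1 j).2

end compact

section descend

variable {J : Type u} [SmallCategory J] [IsCofiltered J] (F : J ⥤ TopCat.{u})
  (hF : ∀ j, SpectralSpace (F.obj j))
  (hFm : ∀ {i j : J} (a : i ⟶ j), IsSpectralMap (F.map a : F.obj i → F.obj j))
  (c : Cone F) (hc : IsLimit c)

omit [IsCofiltered J] in
include hFm in
theorem isClosed_constructibleTopology_preimage_map {i j : J} (a : j ⟶ i) {D : Set (F.obj i)}
    (hD : IsClosed[constructibleTopology (F.obj i)] D) :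
    IsClosed[constructibleTopology (F.obj j)] (F.map a ⁻¹' D) :=
  @IsClosed.preimage _ _ (constructibleTopology (F.obj j)) (constructibleTopology (F.obj i))
    (F.map a) (continuous_constructibleTopology_of_isSpectralMap (hFm a)) D hD

/-- Finitely many parallel arrows in a cofiltered category are equalized. -/
theorem exists_equalizing {j i : J} (A : Finset (j ⟶ i)) :
    ∃ (j' : J) (b : j' ⟶ j) (a' : j' ⟶ i), ∀ a ∈ A, b ≫ a = a' := by
  classical
  let O : Finset J := {j, i}
  have hj : j ∈ O := by simp [O]
  have hi : i ∈ O := by simp [O]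
  let H : Finset (Σ' (X Y : J) (_ : X ∈ O) (_ : Y ∈ O), X ⟶ Y) :=
    A.image fun a => ⟨j, i, hj, hi, a⟩
  obtain ⟨S, T, hT⟩ := IsCofiltered.inf_exists O H
  exact ⟨S, T hj, T hi, fun a ha => hT hj hi (Finset.mem_image.2 ⟨a, ha, rfl⟩)⟩

include hF hFm hc in
/-- Stacks 0A2X: if the preimage of a constructibly closed set `D` in the limit is empty, then
already some `F.map a ⁻¹' D` is empty. -/
theorem exists_preimage_eq_empty {i : J} {D : Set (F.obj i)}
    (hD : IsClosed[constructibleTopology (F.obj i)] D) (hempty : c.π.app i ⁻¹' D = ∅) :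
    ∃ (j : J) (a : j ⟶ i), F.map a ⁻¹' D = ∅ := by
  by_contra hcon
  push Not at hcon
  let Z : ∀ j, Set (F.obj j) := fun j => ⋂ a : j ⟶ i, F.map a ⁻¹' D
  have hZ : ∀ j, IsClosed[constructibleTopology (F.obj j)] (Z j) := fun j =>
    @isClosed_iInter _ _ (constructibleTopology (F.obj j)) _ fun a =>
      isClosed_constructibleTopology_preimage_map F hFm a hD
  have hZm : ∀ {k j : J} (b : k ⟶ j), MapsTo (F.map b) (Z k) (Z j) := by
    intro k j b x hx
    simp only [Z, mem_iInter, mem_preimage] at hx ⊢
    intro a
    have := hx (b ≫ a)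
    rwa [F.map_comp] at this
  have hne : ∀ j, (Z j).Nonempty := by
    intro j
    haveI := hF j
    have huniv : @IsCompact _ (constructibleTopology (F.obj j)) (univ : Set (F.obj j)) :=
      isCompact_constructibleTopology_of_isClosed
        (isClosed_constructibleTopology_of_isClosed isClosed_univ)
    have hfin : ∀ A : Finset (j ⟶ i), (univ ∩ ⋂ a ∈ A, F.map a ⁻¹' D).Nonempty := by
      intro A
      obtain ⟨j', b, a', hba⟩ := exists_equalizing A
      obtain ⟨x', hx'⟩ := hcon j' a'
      refine ⟨F.map b x', trivial, ?_⟩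
      simp only [mem_iInter, mem_preimage]
      intro a ha
      have h1 : F.map a (F.map b x') = F.map (b ≫ a) x' := by rw [F.map_comp]; rfl
      rw [h1, hba a ha]
      exact hx'
    obtain ⟨x, -, hx⟩ := @IsCompact.inter_iInter_nonempty _ (constructibleTopology (F.obj j))
      univ _ huniv (fun a : j ⟶ i => F.map a ⁻¹' D)
      (fun a => isClosed_constructibleTopology_preimage_map F hFm a hD) hfin
    exact ⟨x, hx⟩
  obtain ⟨x, hx⟩ := exists_mem_limit_subset F hF hFm Z hZ hZm c hc hne
  have hxi := hx i
  simp only [Z, mem_iInter, mem_preimage] at hxi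
  have h1 := hxi (𝟙 i)
  rw [F.map_id] at h1
  have : x ∈ c.π.app i ⁻¹' D := h1
  rw [hempty] at this
  exact this

end descend

end Groth.Agent.Lib.SpecLim_lead
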