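import Mathlib

/-!
# Universal openness of `Spec.map` from openness of all affine base changes (helper1)
-/

set_option autoImplicit false
universe u
open CategoryTheory CategoryTheory.Limits AlgebraicGeometry MorphismProperty
open scoped TensorProduct

namespace Groth.Agent.Lib.SpecOpenH1

theorem isOpenMap_pullback_fst_Spec {A C : Type u} [CommRing A] [CommRing C] [Algebra A C]
    (h : ∀ (A' : Type u) [CommRing A'] [Algebra A A'],
      IsOpenMap (PrimeSpectrum.comap (algebraMap A' (A' ⊗[A] C))))
    (R : CommRingCat.{u}) (k : Spec R ⟶ Spec (.of A)) :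
    topologically @IsOpenMap
      (pullback.fst k (Spec.map (CommRingCat.ofHom (algebraMap A C)))) := by
  obtain ⟨ψ, rfl⟩ : ∃ ψ : CommRingCat.of A ⟶ R, Spec.map ψ = k :=
    ⟨Spec.preimage k, Spec.map_preimage _⟩
  letI : Algebra A R := ψ.hom.toAlgebra
  show topologically @IsOpenMap
    (pullback.fst (Spec.map (CommRingCat.ofHom (algebraMap A R)))
      (Spec.map (CommRingCat.ofHom (algebraMap A C))))
  rw [← pullbackSpecIso_hom_fst', (topologically @IsOpenMap).cancel_left_of_respectsIso]
  exact h R

theorem universallyOpen_SpecMap_of {A C : Type u} [CommRing A] [CommRing C] [Algebra A C]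
    (h : ∀ (A' : Type u) [CommRing A'] [Algebra A A'],
      IsOpenMap (PrimeSpectrum.comap (algebraMap A' (A' ⊗[A] C)))) :
    UniversallyOpen (Spec.map (CommRingCat.ofHom (algebraMap A C))) := by
  rw [UniversallyOpen.eq]
  have key := isOpenMap_pullback_fst_Spec h
  obtain ⟨g, hg⟩ : ∃ g : Spec (.of C) ⟶ Spec (.of A),
      g = Spec.map (CommRingCat.ofHom (algebraMap A C)) := ⟨_, rfl⟩
  rw [← hg] at key ⊢
  apply universally_mk'
  intro T f _
  rw [IsZariskiLocalAtTarget.iff_of_openCover (P := topologically @IsOpenMap)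
    T.affineOpenCover.openCover]
  intro i
  change topologically @IsOpenMap (pullback.snd (pullback.fst f g) (T.affineOpenCover.f i))
  obtain ⟨j, hj⟩ : ∃ j : Spec (T.affineOpenCover.X i) ⟶ T, j = T.affineOpenCover.f i := ⟨_, rfl⟩
  rw [← hj]
  have e1 : pullback.snd (pullback.fst f g) j =
      (pullbackSymmetry _ _).hom ≫ (pullbackRightPullbackFstIso f g j).hom ≫
        pullback.fst (j ≫ f) g := by
    rw [pullbackRightPullbackFstIso_hom_fst, pullbackSymmetry_hom_comp_fst]
  rw [e1, (topologically @IsOpenMap).cancel_left_of_respectsIso,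
    (topologically @IsOpenMap).cancel_left_of_respectsIso]
  exact key _ (j ≫ f)

end Groth.Agent.Lib.SpecOpenH1
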