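import Mathlib
import Groth.Agent.Lib.FibSq_helper5

/-!
# `Spec (B ×_A A')` is the pushout of `Spec B` and `Spec A'` along `Spec A` (for `A' → A` surjective)
-/

open AlgebraicGeometry CategoryTheory Limits

namespace Groth.Agent.SpecPushout

universe u

open Groth.Agent.FibSqLib

/-- `Spec` of a ring homomorphism between types. -/
noncomputable abbrev sp {R S : Type u} [CommRing R] [CommRing S] (f : R →+* S) :
    Spec (CommRingCat.of S) ⟶ Spec (CommRingCat.of R) := Spec.map (CommRingCat.ofHom f)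

theorem sp_comp {R S T : Type u} [CommRing R] [CommRing S] [CommRing T] (f : S →+* T)
    (g : R →+* S) : sp (f.comp g) = sp f ≫ sp g := by
  unfold sp; rw [CommRingCat.ofHom_comp, Spec.map_comp]

/-- the open immersion `Spec R_k → Spec R` -/
noncomputable abbrev ι {R : Type u} [CommRing R] (k : R) :
    Spec (CommRingCat.of (Localization.Away k)) ⟶ Spec (CommRingCat.of R) :=
  sp (algebraMap R (Localization.Away k))

theorem range_ι {R : Type u} [CommRing R] (k : R) :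
    Set.range (ι k) = (PrimeSpectrum.basicOpen k : Set (PrimeSpectrum R)) :=
  PrimeSpectrum.localization_away_comap_range (Localization.Away k) k

theorem mem_range_ι {R : Type u} [CommRing R] (k : R) (x : PrimeSpectrum R) :
    x ∈ Set.range (ι k) ↔ k ∉ x.asIdeal := by
  rw [range_ι]; exact PrimeSpectrum.mem_basicOpen k x

theorem ι_comm {R S : Type u} [CommRing R] [CommRing S] (f : R →+* S) (k : R) :
    sp (Localization.awayMap f k) ≫ ι k = ι (f k) ≫ sp f := by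
  rw [← sp_comp, ← sp_comp]
  congr 1
  exact IsLocalization.map_comp _

theorem exists_basicOpen_subset {R : Type u} [CommRing R] (z : PrimeSpectrum R)
    (U : Set (PrimeSpectrum R)) (hU : IsOpen U) (hz : z ∈ U) :
    ∃ k : R, z ∈ Set.range (ι k) ∧ Set.range (ι k) ⊆ U := by
  obtain ⟨_, ⟨k, rfl⟩, hzk, hkU⟩ :=
    PrimeSpectrum.isTopologicalBasis_basic_opens.exists_subset_of_mem_open hz hU
  exact ⟨k, by rw [range_ι]; exact hzk, by rw [range_ι]; exact hkU⟩

theorem hom_ext_of_openImm {X T : Scheme.{u}} (f g : X ⟶ T)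
    (H : ∀ x : X, ∃ (Z : Scheme.{u}) (m : Z ⟶ X) (_ : IsOpenImmersion m),
      x ∈ Set.range m ∧ m ≫ f = m ≫ g) : f = g := by
  apply Scheme.hom_ext_of_forall
  intro x
  obtain ⟨Z, m, hm, hx, hfg⟩ := H x
  refine ⟨m.opensRange, hx, ?_⟩
  rw [← cancel_epi m.isoOpensRange.hom, ← Category.assoc, ← Category.assoc,
    Scheme.Hom.isoOpensRange_hom_ι]
  exact hfg

theorem exists_affine_nhd {T : Scheme.{u}} (t : T) : ∃ W : T.Opens, IsAffineOpen W ∧ t ∈ W := by
  obtain ⟨_, ⟨W, hW, rfl⟩, htW, -⟩ :=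
    T.isBasis_affineOpens.exists_subset_of_mem_open (Set.mem_univ t) isOpen_univ
  exact ⟨W, hW, htW⟩

/-- factorization through the localized piece -/
theorem factor {P B : Type u} [CommRing P] [CommRing B] (π₁ : P →+* B) (k : P)
    {T Z : Scheme.{u}} (h : Spec (CommRingCat.of (Localization.Away k)) ⟶ T)
    (g : Spec (CommRingCat.of B) ⟶ T)
    (hh : sp (Localization.awayMap π₁ k) ≫ h = ι (π₁ k) ≫ g)
    (c : Z ⟶ Spec (CommRingCat.of (Localization.Away k))) (b : Z ⟶ Spec (CommRingCat.of B))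
    (hcb : c ≫ ι k = b ≫ sp π₁) : c ≫ h = b ≫ g := by
  have hr : Set.range b ⊆ Set.range (ι (π₁ k)) := by
    rintro _ ⟨w, rfl⟩
    refine (mem_range_ι (π₁ k) (b w)).mpr ?_
    have h1 : (sp π₁) (b w) ∈ Set.range (ι k) := by
      rw [← Scheme.Hom.comp_apply, ← hcb, Scheme.Hom.comp_apply]
      exact ⟨_, rfl⟩
    exact (mem_range_ι k _).mp h1
  have hd : IsOpenImmersion.lift (ι (π₁ k)) b hr ≫ ι (π₁ k) = b := IsOpenImmersion.lift_fac _ _ _
  have hdc : IsOpenImmersion.lift (ι (π₁ k)) b hr ≫ sp (Localization.awayMap π₁ k) = c := by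
    rw [← cancel_mono (ι k), Category.assoc, ι_comm, ← Category.assoc, hd, hcb]
  rw [← hdc, Category.assoc, hh, ← Category.assoc, hd]

variable {P B A' A : Type u} [CommRing P] [CommRing B] [CommRing A'] [CommRing A]
  {π₁ : P →+* B} {π₂ : P →+* A'} {q : B →+* A} {p : A' →+* A}

theorem affine_exists (sq : FibSq π₁ π₂ q p) {W : Scheme.{u}} [IsAffine W]
    (f : Spec (CommRingCat.of A') ⟶ W) (g : Spec (CommRingCat.of B) ⟶ W)
    (hfg : sp p ≫ f = sp q ≫ g) :
    ∃ h : Spec (CommRingCat.of P) ⟶ W, sp π₂ ≫ h = f ∧ sp π₁ ≫ h = g := by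
  obtain ⟨φ, hφ⟩ := Spec.map_surjective (f ≫ W.isoSpec.hom)
  obtain ⟨γ, hγ⟩ := Spec.map_surjective (g ≫ W.isoSpec.hom)
  have hc : φ ≫ CommRingCat.ofHom p = γ ≫ CommRingCat.ofHom q := by
    apply Spec.map_injective
    rw [Spec.map_comp, Spec.map_comp, hφ, hγ, ← Category.assoc, ← Category.assoc]
    exact congrArg (· ≫ W.isoSpec.hom) hfg
  obtain ⟨χ, h1, h2⟩ := sq.exists_lift γ.hom φ.hom (fun r => (congr($(hc) r)).symm)
  refine ⟨Spec.map (CommRingCat.ofHom χ) ≫ W.isoSpec.inv, ?_, ?_⟩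
  · have : CommRingCat.ofHom χ ≫ CommRingCat.ofHom π₂ = φ :=
      CommRingCat.hom_ext (RingHom.ext h2)
    rw [← Category.assoc, ← Spec.map_comp, this, hφ, Category.assoc, Iso.hom_inv_id,
      Category.comp_id]
  · have : CommRingCat.ofHom χ ≫ CommRingCat.ofHom π₁ = γ :=
      CommRingCat.hom_ext (RingHom.ext h1)
    rw [← Category.assoc, ← Spec.map_comp, this, hγ, Category.assoc, Iso.hom_inv_id,
      Category.comp_id]

theorem affine_unique (sq : FibSq π₁ π₂ q p) {W : Scheme.{u}} [IsAffine W]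
    (h₁ h₂ : Spec (CommRingCat.of P) ⟶ W) (hA : sp π₂ ≫ h₁ = sp π₂ ≫ h₂)
    (hB : sp π₁ ≫ h₁ = sp π₁ ≫ h₂) : h₁ = h₂ := by
  obtain ⟨χ₁, hχ₁⟩ := Spec.map_surjective (h₁ ≫ W.isoSpec.hom)
  obtain ⟨χ₂, hχ₂⟩ := Spec.map_surjective (h₂ ≫ W.isoSpec.hom)
  have e2 : χ₁ ≫ CommRingCat.ofHom π₂ = χ₂ ≫ CommRingCat.ofHom π₂ := by
    apply Spec.map_injective
    rw [Spec.map_comp, Spec.map_comp, hχ₁, hχ₂, ← Category.assoc, ← Category.assoc]
    exact congrArg (· ≫ W.isoSpec.hom) hA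
  have e1 : χ₁ ≫ CommRingCat.ofHom π₁ = χ₂ ≫ CommRingCat.ofHom π₁ := by
    apply Spec.map_injective
    rw [Spec.map_comp, Spec.map_comp, hχ₁, hχ₂, ← Category.assoc, ← Category.assoc]
    exact congrArg (· ≫ W.isoSpec.hom) hB
  have : χ₁ = χ₂ := by
    apply CommRingCat.hom_ext
    apply RingHom.ext
    intro r
    exact sq.ext _ _ (congr($(e1) r)) (congr($(e2) r))
  rw [← cancel_mono W.isoSpec.hom, ← hχ₁, ← hχ₂, this]

theorem local_exists (sq : FibSq π₁ π₂ q p) {T : Scheme.{u}}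
    (f : Spec (CommRingCat.of A') ⟶ T) (g : Spec (CommRingCat.of B) ⟶ T)
    (hfg : sp p ≫ f = sp q ≫ g) (k : P) (W : T.Opens) (hW : IsAffineOpen W)
    (hf : ∀ x : PrimeSpectrum A', π₂ k ∉ x.asIdeal → f x ∈ W)
    (hg : ∀ y : PrimeSpectrum B, π₁ k ∉ y.asIdeal → g y ∈ W) :
    ∃ h : Spec (CommRingCat.of (Localization.Away k)) ⟶ T,
      sp (Localization.awayMap π₂ k) ≫ h = ι (π₂ k) ≫ f ∧
      sp (Localization.awayMap π₁ k) ≫ h = ι (π₁ k) ≫ g := by
  obtain ⟨pk, hpk, sqk⟩ := sq.exists_away k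
  haveI : IsAffine W := hW
  have rf : Set.range (ι (π₂ k) ≫ f) ⊆ Set.range W.ι := by
    rw [Scheme.Opens.range_ι]
    rintro _ ⟨x, rfl⟩
    rw [Scheme.Hom.comp_apply]
    exact hf _ ((mem_range_ι _ _).mp ⟨x, rfl⟩)
  have rg : Set.range (ι (π₁ k) ≫ g) ⊆ Set.range W.ι := by
    rw [Scheme.Opens.range_ι]
    rintro _ ⟨x, rfl⟩
    rw [Scheme.Hom.comp_apply]
    exact hg _ ((mem_range_ι _ _).mp ⟨x, rfl⟩)
  have hf' : IsOpenImmersion.lift W.ι (ι (π₂ k) ≫ f) rf ≫ W.ι = ι (π₂ k) ≫ f :=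
    IsOpenImmersion.lift_fac _ _ _
  have hg' : IsOpenImmersion.lift W.ι (ι (π₁ k) ≫ g) rg ≫ W.ι = ι (π₁ k) ≫ g :=
    IsOpenImmersion.lift_fac _ _ _
  have e1 : sp pk ≫ ι (π₂ k) = ι (q (π₁ k)) ≫ sp p := by
    rw [← sp_comp, ← sp_comp]
    congr 1
    exact RingHom.ext hpk
  have e2 : sp (Localization.awayMap q (π₁ k)) ≫ ι (π₁ k) = ι (q (π₁ k)) ≫ sp q :=
    ι_comm q (π₁ k)
  have hc : sp pk ≫ IsOpenImmersion.lift W.ι (ι (π₂ k) ≫ f) rf =
      sp (Localization.awayMap q (π₁ k)) ≫ IsOpenImmersion.lift W.ι (ι (π₁ k) ≫ g) rg := by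
    rw [← cancel_mono W.ι, Category.assoc, Category.assoc, hf', hg', ← Category.assoc,
      ← Category.assoc, e1, e2, Category.assoc, Category.assoc, hfg]
  obtain ⟨h', h1, h2⟩ := affine_exists sqk _ _ hc
  refine ⟨h' ≫ W.ι, ?_, ?_⟩
  · rw [← Category.assoc, h1, hf']
  · rw [← Category.assoc, h2, hg']

/-- `Spec B ⊔ Spec A' → Spec P` is jointly epimorphic, even after restriction to opens. -/
theorem jointEpi (sq : FibSq π₁ π₂ q p) (hp : Function.Surjective p) {Y T : Scheme.{u}}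
    (j : Y ⟶ Spec (CommRingCat.of P)) [IsOpenImmersion j] (h₁ h₂ : Y ⟶ T)
    (hB : ∀ (Z : Scheme.{u}) (a : Z ⟶ Y) (b : Z ⟶ Spec (CommRingCat.of B)),
      a ≫ j = b ≫ sp π₁ → a ≫ h₁ = a ≫ h₂)
    (hA : ∀ (Z : Scheme.{u}) (a : Z ⟶ Y) (b : Z ⟶ Spec (CommRingCat.of A')),
      a ≫ j = b ≫ sp π₂ → a ≫ h₁ = a ≫ h₂) : h₁ = h₂ := by
  have hpt : ∀ y : Y, h₁ y = h₂ y := by
    intro y
    rcases sq.exists_comap_eq hp (j y) with ⟨b₀, hb₀⟩ | ⟨_, _, _, a₀, ha₀⟩
    · obtain ⟨w, hw1, hw2⟩ :=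
        Scheme.Pullback.exists_preimage_pullback (f := j) (g := sp π₁) y b₀ hb₀.symm
      have h3 := hB _ (pullback.fst j (sp π₁)) (pullback.snd j (sp π₁)) pullback.condition
      have h4 := congr($(h3) w)
      rw [Scheme.Hom.comp_apply, Scheme.Hom.comp_apply, hw1] at h4
      exact h4
    · obtain ⟨w, hw1, hw2⟩ :=
        Scheme.Pullback.exists_preimage_pullback (f := j) (g := sp π₂) y a₀ ha₀.symm
      have h3 := hA _ (pullback.fst j (sp π₂)) (pullback.snd j (sp π₂)) pullback.condition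
      have h4 := congr($(h3) w)
      rw [Scheme.Hom.comp_apply, Scheme.Hom.comp_apply, hw1] at h4
      exact h4
  apply hom_ext_of_openImm
  intro y
  obtain ⟨W, hW, hyW⟩ := exists_affine_nhd (h₁ y)
  obtain ⟨Ω, hΩ⟩ : ∃ Ω : Y.Opens, Ω = h₁ ⁻¹ᵁ W ⊓ h₂ ⁻¹ᵁ W := ⟨_, rfl⟩
  have hyΩ : y ∈ Ω := by
    rw [hΩ]
    exact ⟨hyW, by show h₂ y ∈ W; rw [← hpt y]; exact hyW⟩
  have hopen : IsOpen (j '' (Ω : Set Y)) := j.isOpenEmbedding.isOpenMap _ Ω.2
  obtain ⟨k, hzk, hkΩ⟩ := exists_basicOpen_subset (j y) (j '' (Ω : Set Y)) hopen ⟨y, hyΩ, rfl⟩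
  have hsub : Set.range (ι k) ⊆ Set.range j := hkΩ.trans (Set.image_subset_range _ _)
  have hm : IsOpenImmersion.lift j (ι k) hsub ≫ j = ι k := IsOpenImmersion.lift_fac _ _ _
  obtain ⟨m, hmdef⟩ : ∃ m, m = IsOpenImmersion.lift j (ι k) hsub := ⟨_, rfl⟩
  rw [← hmdef] at hm
  haveI : IsOpenImmersion (m ≫ j) := by rw [hm]; infer_instance
  haveI : IsOpenImmersion m := IsOpenImmersion.of_comp m j
  have hmΩ : ∀ x, m x ∈ Ω := by
    intro x
    have h5 : j (m x) ∈ j '' (Ω : Set Y) := hkΩ ⟨x, by rw [← hm, Scheme.Hom.comp_apply]⟩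
    obtain ⟨y', hy', hyy'⟩ := h5
    rw [← j.isOpenEmbedding.injective hyy']
    exact hy'
  refine ⟨_, m, inferInstance, ?_, ?_⟩
  · obtain ⟨x, hx⟩ := hzk
    refine ⟨x, j.isOpenEmbedding.injective ?_⟩
    rw [← Scheme.Hom.comp_apply, hm]
    exact hx
  · have r1 : Set.range (m ≫ h₁) ⊆ Set.range W.ι := by
      rw [Scheme.Opens.range_ι]
      rintro _ ⟨x, rfl⟩
      rw [Scheme.Hom.comp_apply]
      have := hmΩ x
      rw [hΩ] at this
      exact this.1
    have r2 : Set.range (m ≫ h₂) ⊆ Set.range W.ι := by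
      rw [Scheme.Opens.range_ι]
      rintro _ ⟨x, rfl⟩
      rw [Scheme.Hom.comp_apply]
      have := hmΩ x
      rw [hΩ] at this
      exact this.2
    haveI : IsAffine W := hW
    obtain ⟨pk, hpk, sqk⟩ := sq.exists_away k
    have key := affine_unique sqk (IsOpenImmersion.lift W.ι (m ≫ h₁) r1)
      (IsOpenImmersion.lift W.ι (m ≫ h₂) r2) ?_ ?_
    · have h6 := congrArg (· ≫ W.ι) key
      simpa only [IsOpenImmersion.lift_fac] using h6
    · rw [← cancel_mono W.ι, Category.assoc, Category.assoc, IsOpenImmersion.lift_fac,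
        IsOpenImmersion.lift_fac, ← Category.assoc, ← Category.assoc]
      exact hA _ (sp (Localization.awayMap π₂ k) ≫ m) (ι (π₂ k))
        (by rw [Category.assoc, hm]; exact ι_comm π₂ k)
    · rw [← cancel_mono W.ι, Category.assoc, Category.assoc, IsOpenImmersion.lift_fac,
        IsOpenImmersion.lift_fac, ← Category.assoc, ← Category.assoc]
      exact hB _ (sp (Localization.awayMap π₁ k) ≫ m) (ι (π₁ k))
        (by rw [Category.assoc, hm]; exact ι_comm π₁ k)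

theorem exists_desc (sq : FibSq π₁ π₂ q p) (hp : Function.Surjective p) {T : Scheme.{u}}
    (f : Spec (CommRingCat.of A') ⟶ T) (g : Spec (CommRingCat.of B) ⟶ T)
    (hfg : sp p ≫ f = sp q ≫ g) :
    ∃ h : Spec (CommRingCat.of P) ⟶ T, sp π₂ ≫ h = f ∧ sp π₁ ≫ h = g := by
  have hloc : ∀ z : PrimeSpectrum P, ∃ (k : P) (W : T.Opens), IsAffineOpen W ∧ k ∉ z.asIdeal ∧
      (∀ x : PrimeSpectrum A', π₂ k ∉ x.asIdeal → f x ∈ W) ∧
      (∀ y : PrimeSpectrum B, π₁ k ∉ y.asIdeal → g y ∈ W) := by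
    intro z
    rcases sq.exists_comap_eq hp z with ⟨y, rfl⟩ | ⟨k₀, hk₀, hk₀z, x, rfl⟩
    · obtain ⟨W, hW, hyW⟩ := exists_affine_nhd (g y)
      have hU : ∀ w : PrimeSpectrum A, PrimeSpectrum.comap q w ∈ (fun y => g y) ⁻¹' (W : Set T) →
          PrimeSpectrum.comap p w ∈ (fun x => f x) ⁻¹' (W : Set T) := by
        intro w hw
        have h1 := congr($(hfg) w)
        rw [Scheme.Hom.comp_apply, Scheme.Hom.comp_apply] at h1
        show f ((sp p) w) ∈ W
        rw [h1]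
        exact hw
      obtain ⟨k, hk, hkf, hkg⟩ := sq.exists_nhd_fst hp ((fun x => f x) ⁻¹' (W : Set T))
        ((fun y => g y) ⁻¹' (W : Set T)) (W.2.preimage f.continuous) (W.2.preimage g.continuous)
        hU y hyW
      exact ⟨k, W, hW, hk, hkf, hkg⟩
    · obtain ⟨W, hW, hxW⟩ := exists_affine_nhd (f x)
      obtain ⟨k, hk, hkf, hk1⟩ := sq.exists_nhd_snd ((fun x => f x) ⁻¹' (W : Set T))
        (W.2.preimage f.continuous) hk₀ x hxW hk₀z
      exact ⟨k, W, hW, hk, hkf, fun y hy => absurd (by rw [hk1]; exact zero_mem _) hy⟩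
  choose k W hW hkz hkf hkg using hloc
  have hex := fun z => local_exists sq f g hfg (k z) (W z) (hW z) (hkf z) (hkg z)
  choose hz hz1 hz2 using hex
  let 𝒰 : (Spec (CommRingCat.of P)).OpenCover :=
    Scheme.Cover.mkOfCovers (PrimeSpectrum P)
      (fun z => Spec (CommRingCat.of (Localization.Away (k z)))) (fun z => ι (k z))
      (fun z => by
        obtain ⟨y, hy⟩ := (mem_range_ι (k z) z).mpr (hkz z)
        exact ⟨z, y, hy⟩)
  have compat : ∀ z z' : PrimeSpectrum P,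
      pullback.fst (ι (k z)) (ι (k z')) ≫ hz z = pullback.snd (ι (k z)) (ι (k z')) ≫ hz z' := by
    intro z z'
    apply jointEpi sq hp (pullback.fst (ι (k z)) (ι (k z')) ≫ ι (k z))
    · intro Z a b hab
      rw [← Category.assoc, ← Category.assoc,
        factor π₁ (k z) (hz z) g (hz2 z) (a ≫ pullback.fst _ _) b
          (by rw [Category.assoc]; exact hab),
        factor π₁ (k z') (hz z') g (hz2 z') (a ≫ pullback.snd _ _) b
          (by rw [Category.assoc, ← pullback.condition]; exact hab)]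
    · intro Z a b hab
      rw [← Category.assoc, ← Category.assoc,
        factor π₂ (k z) (hz z) f (hz1 z) (a ≫ pullback.fst _ _) b
          (by rw [Category.assoc]; exact hab),
        factor π₂ (k z') (hz z') f (hz1 z') (a ≫ pullback.snd _ _) b
          (by rw [Category.assoc, ← pullback.condition]; exact hab)]
  have hglue : ∀ z, ι (k z) ≫ 𝒰.glueMorphisms hz compat = hz z :=
    fun z => 𝒰.ι_glueMorphisms hz compat z
  refine ⟨𝒰.glueMorphisms hz compat, ?_, ?_⟩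
  · apply hom_ext_of_openImm
    intro x
    refine ⟨_, ι (π₂ (k ((sp π₂) x))), inferInstance,
      (mem_range_ι _ _).mpr (hkz ((sp π₂) x)), ?_⟩
    rw [← Category.assoc, ← ι_comm, Category.assoc, hglue, hz1]
  · apply hom_ext_of_openImm
    intro x
    refine ⟨_, ι (π₁ (k ((sp π₁) x))), inferInstance,
      (mem_range_ι _ _).mpr (hkz ((sp π₁) x)), ?_⟩
    rw [← Category.assoc, ← ι_comm, Category.assoc, hglue, hz2]

/-- **Main theorem**: the spectrum of a fibre product ring is a pushout of schemes. -/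
theorem isPushout (sq : FibSq π₁ π₂ q p) (hp : Function.Surjective p) :
    IsPushout (sp p) (sp q) (sp π₂) (sp π₁) := by
  have w : sp p ≫ sp π₂ = sp q ≫ sp π₁ := by
    rw [← sp_comp, ← sp_comp]
    congr 1
    exact RingHom.ext fun x => (sq.comm x).symm
  refine ⟨⟨w⟩, ⟨PushoutCocone.IsColimit.mk w
    (fun s => (exists_desc sq hp s.inl s.inr s.condition).choose)
    (fun s => (exists_desc sq hp s.inl s.inr s.condition).choose_spec.1)
    (fun s => (exists_desc sq hp s.inl s.inr s.condition).choose_spec.2)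
    (fun s m h1 h2 => ?_)⟩⟩
  have hd := (exists_desc sq hp s.inl s.inr s.condition).choose_spec
  apply jointEpi sq hp (𝟙 _)
  · intro Z a b hab
    rw [Category.comp_id] at hab
    rw [hab, Category.assoc, Category.assoc, h2, hd.2]
  · intro Z a b hab
    rw [Category.comp_id] at hab
    rw [hab, Category.assoc, Category.assoc, h1, hd.1]

end Groth.Agent.SpecPushout
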