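import Mathlib.Topology.Spectral.Basic
import Mathlib.Topology.QuasiSeparated
import Mathlib.Topology.Sober

/-!
# Products of spectral spaces (lead)
-/

universe u v

namespace Groth.Agent.Lib.SpecSpProd_lead

open Set Topology TopologicalSpace

variable {X : Type u} {Y : Type v} [TopologicalSpace X] [TopologicalSpace Y]

theorem quasiSober_prod [QuasiSober X] [QuasiSober Y] : QuasiSober (X × Y) := by
  constructor
  intro Z hZirr hZcl
  have h1 : IsIrreducible (closure (Prod.fst '' Z)) :=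
    (hZirr.image _ continuous_fst.continuousOn).closure
  have h2 : IsIrreducible (closure (Prod.snd '' Z)) :=
    (hZirr.image _ continuous_snd.continuousOn).closure
  obtain ⟨ξ, hξ⟩ := QuasiSober.sober h1 isClosed_closure
  obtain ⟨η, hη⟩ := QuasiSober.sober h2 isClosed_closure
  have hmem : (ξ, η) ∈ Z := by
    by_contra hcon
    obtain ⟨U, V, hU, hV, hξU, hηV, hUV⟩ := isOpen_prod_iff.1 hZcl.isOpen_compl ξ η hcon
    obtain ⟨_, hz1U, z1, hz1, rfl⟩ := mem_closure_iff.1 hξ.mem U hU hξU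
    obtain ⟨_, hz2V, z2, hz2, rfl⟩ := mem_closure_iff.1 hη.mem V hV hηV
    obtain ⟨z, hzZ, hz⟩ := hZirr.isPreirreducible (U ×ˢ univ) (univ ×ˢ V)
      (hU.prod isOpen_univ) (isOpen_univ.prod hV) ⟨z1, hz1, hz1U, trivial⟩
      ⟨z2, hz2, trivial, hz2V⟩
    exact hUV (show z ∈ U ×ˢ V from ⟨hz.1.1, hz.2.2⟩) hzZ
  refine ⟨(ξ, η), ?_⟩
  apply Subset.antisymm
  · exact closure_minimal (singleton_subset_iff.2 hmem) hZcl
  · intro z hz
    have : closure ({(ξ, η)} : Set (X × Y)) = closure {ξ} ×ˢ closure {η} := by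
      rw [← closure_prod_eq, singleton_prod_singleton]
    rw [this, hξ.def, hη.def]
    exact ⟨subset_closure ⟨z, hz, rfl⟩, subset_closure ⟨z, hz, rfl⟩⟩

theorem prespectralSpace_prod [PrespectralSpace X] [PrespectralSpace Y] :
    PrespectralSpace (X × Y) := by
  refine .of_isTopologicalBasis
    ((PrespectralSpace.isTopologicalBasis (X := X)).prod
      (PrespectralSpace.isTopologicalBasis (X := Y))) ?_
  rintro _ ⟨U, ⟨-, hU⟩, V, ⟨-, hV⟩, rfl⟩
  exact hU.prod hV

theorem quasiSeparatedSpace_prod [PrespectralSpace X] [PrespectralSpace Y]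
    [QuasiSeparatedSpace X] [QuasiSeparatedSpace Y] : QuasiSeparatedSpace (X × Y) := by
  let ι := {p : Set X × Set Y // (IsOpen p.1 ∧ IsCompact p.1) ∧ (IsOpen p.2 ∧ IsCompact p.2)}
  let b : ι → Set (X × Y) := fun p => p.1.1 ×ˢ p.1.2
  have hb : range b = image2 (· ×ˢ ·) {U : Set X | IsOpen U ∧ IsCompact U}
      {V : Set Y | IsOpen V ∧ IsCompact V} := by
    ext s
    constructor
    · rintro ⟨p, rfl⟩
      exact ⟨p.1.1, p.2.1, p.1.2, p.2.2, rfl⟩
    · rintro ⟨U, hU, V, hV, rfl⟩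
      exact ⟨⟨(U, V), hU, hV⟩, rfl⟩
  refine QuasiSeparatedSpace.of_isTopologicalBasis (b := b) ?_ ?_
  · rw [hb]
    exact (PrespectralSpace.isTopologicalBasis (X := X)).prod
      (PrespectralSpace.isTopologicalBasis (X := Y))
  · intro p q
    change IsCompact ((p.1.1 ×ˢ p.1.2) ∩ (q.1.1 ×ˢ q.1.2))
    rw [prod_inter_prod]
    exact (p.2.1.2.inter_of_isOpen q.2.1.2 p.2.1.1 q.2.1.1).prod
      (p.2.2.2.inter_of_isOpen q.2.2.2 p.2.2.1 q.2.2.1)

theorem spectralSpace_prod [SpectralSpace X] [SpectralSpace Y] : SpectralSpace (X × Y) :=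
  { toT0Space := inferInstance
    toCompactSpace := inferInstance
    toQuasiSober := quasiSober_prod
    toQuasiSeparatedSpace := quasiSeparatedSpace_prod
    toPrespectralSpace := prespectralSpace_prod }

end Groth.Agent.Lib.SpecSpProd_lead
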