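import Mathlib.Topology.Spectral.ConstructibleTopology
import Mathlib.Topology.Spectral.Hom
import Mathlib.Topology.Constructible
import Mathlib.Topology.Separation.Hausdorff
import Mathlib.Topology.Connected.TotallyDisconnected
import Mathlib.Topology.Connected.Separation

/-!
# The constructible topology on a spectral space (lead)
-/

universe u

set_option linter.unusedSectionVars false

set_option linter.style.haveILetI false

namespace Groth.Agent.Lib.SpecSp_lead

open Set Topology

section basic

variable {X : Type u} [tX : TopologicalSpace X]

/-- The constructible topology is finer than the original one on a prespectral space. -/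
theorem isOpen_constructibleTopology_of_isOpen [PrespectralSpace X] {U : Set X} (hU : IsOpen U) :
    IsOpen[constructibleTopology X] U := by
  obtain ⟨S, hS, rfl⟩ := PrespectralSpace.isTopologicalBasis.open_eq_sUnion hU
  have h : ∀ s ∈ S, IsOpen[constructibleTopology X] s := fun s hs =>
    (hS hs).2.isOpen_constructibleTopology_of_isOpen (hS hs).1
  letI : TopologicalSpace X := constructibleTopology X
  exact isOpen_sUnion h

theorem constructibleTopology_le [PrespectralSpace X] :
    constructibleTopology X ≤ tX :=
  fun _ hU => isOpen_constructibleTopology_of_isOpen hU

theorem isClosed_constructibleTopology_of_isClosed [PrespectralSpace X] {Z : Set X}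
    (hZ : IsClosed Z) : IsClosed[constructibleTopology X] Z := by
  have h := isOpen_constructibleTopology_of_isOpen hZ.isOpen_compl
  letI : TopologicalSpace X := constructibleTopology X
  exact isOpen_compl_iff.1 h

/-- Compact opens are closed in the constructible topology. -/
theorem isClosed_constructibleTopology_of_isCompact_isOpen {U : Set X} (hUc : IsCompact U)
    (hU : IsOpen U) : IsClosed[constructibleTopology X] U := by
  have h : IsOpen[constructibleTopology X] Uᶜ :=
    IsCompact.isOpen_constructibleTopology_of_isClosed (by rwa [compl_compl]) hU.isClosed_compl
  letI : TopologicalSpace X := constructibleTopology X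
  exact isOpen_compl_iff.1 h

theorem continuous_id_constructibleTopology [PrespectralSpace X] :
    Continuous[constructibleTopology X, tX] (id : X → X) :=
  continuous_id_of_le constructibleTopology_le

theorem compactSpace_constructibleTopology [CompactSpace X] [QuasiSober X] [PrespectralSpace X]
    [QuasiSeparatedSpace X] : @CompactSpace X (constructibleTopology X) := by
  have h1 : CompactSpace (WithConstructibleTopology X) := inferInstance
  have h2 : Continuous[_, constructibleTopology X]
      (WithTopology.ofTopology : WithConstructibleTopology X → X) :=
    WithTopology.continuous_ofTopology _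
  have h3 : Function.Surjective (WithTopology.ofTopology : WithConstructibleTopology X → X) :=
    WithTopology.ofTopology_surjective _
  letI : TopologicalSpace X := constructibleTopology X
  exact h3.compactSpace h2

/-- Constructibly closed sets are compact in the constructible topology. -/
theorem isCompact_constructibleTopology_of_isClosed [CompactSpace X] [QuasiSober X]
    [PrespectralSpace X] [QuasiSeparatedSpace X] {E : Set X}
    (hE : IsClosed[constructibleTopology X] E) : @IsCompact X (constructibleTopology X) E := by
  have h := compactSpace_constructibleTopology (X := X)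
  letI : TopologicalSpace X := constructibleTopology X
  exact hE.isCompact

/-- Constructibly closed sets are compact. -/
theorem isCompact_of_isClosed_constructibleTopology [CompactSpace X] [QuasiSober X]
    [PrespectralSpace X] [QuasiSeparatedSpace X] {E : Set X}
    (hE : IsClosed[constructibleTopology X] E) : IsCompact E := by
  have h := isCompact_constructibleTopology_of_isClosed hE
  have hc := continuous_id_constructibleTopology (X := X)
  have h' : @IsCompact X tX (id '' E) :=
    @IsCompact.image X X (constructibleTopology X) tX E id h hc
  simpa using h'

/-- The constructible topology of a T0 prespectral space is totally separated. -/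
theorem exists_isClopen_constructibleTopology [T0Space X] [PrespectralSpace X] {x y : X}
    (hxy : x ≠ y) :
    ∃ U : Set X, @IsClopen X (constructibleTopology X) U ∧ x ∈ U ∧ y ∈ Uᶜ := by
  have key : ∀ {a b : X} {V : Set X}, IsOpen V → a ∈ V → b ∉ V →
      ∃ U : Set X, IsOpen U ∧ IsCompact U ∧ a ∈ U ∧ b ∉ U := by
    intro a b V hV ha hb
    obtain ⟨U, ⟨hUo, hUc⟩, haU, hUV⟩ :=
      PrespectralSpace.isTopologicalBasis.exists_subset_of_mem_open ha hV
    exact ⟨U, hUo, hUc, haU, fun h => hb (hUV h)⟩
  have clopen : ∀ {U : Set X}, IsOpen U → IsCompact U → @IsClopen X (constructibleTopology X) U :=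
    fun hUo hUc => ⟨isClosed_constructibleTopology_of_isCompact_isOpen hUc hUo,
      hUc.isOpen_constructibleTopology_of_isOpen hUo⟩
  obtain ⟨V, hV, h⟩ := exists_isOpen_xor_mem hxy
  rcases h with ⟨hx, hy⟩ | ⟨hy, hx⟩
  · obtain ⟨U, hUo, hUc, hxU, hyU⟩ := key hV hx hy
    exact ⟨U, clopen hUo hUc, hxU, hyU⟩
  · obtain ⟨U, hUo, hUc, hyU, hxU⟩ := key hV hy hx
    have h := clopen hUo hUc
    refine ⟨Uᶜ, ?_, hxU, by simpa using hyU⟩
    letI : TopologicalSpace X := constructibleTopology X
    exact h.compl

theorem totallySeparatedSpace_constructibleTopology [T0Space X] [PrespectralSpace X] :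
    @TotallySeparatedSpace X (constructibleTopology X) := by
  have h : ∀ x y : X, x ≠ y →
      ∃ U : Set X, @IsClopen X (constructibleTopology X) U ∧ x ∈ U ∧ y ∈ Uᶜ :=
    fun x y hxy => exists_isClopen_constructibleTopology hxy
  letI : TopologicalSpace X := constructibleTopology X
  exact totallySeparatedSpace_iff_exists_isClopen.2 h

theorem t2Space_constructibleTopology [T0Space X] [PrespectralSpace X] :
    @T2Space X (constructibleTopology X) := by
  have h := totallySeparatedSpace_constructibleTopology (X := X)
  letI : TopologicalSpace X := constructibleTopology X
  infer_instance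

end basic

section spectral

variable {X : Type u} [tX : TopologicalSpace X] [SpectralSpace X]

/-- Stacks 0903 (1): the closure of a constructibly closed set is the set of specializations of
its points. -/
theorem exists_specializes_of_mem_closure {E : Set X}
    (hE : IsClosed[constructibleTopology X] E) {x : X} (hx : x ∈ closure E) :
    ∃ e ∈ E, e ⤳ x := by
  have hEc := isCompact_constructibleTopology_of_isClosed hE
  let ι := {U : Set X // IsOpen U ∧ IsCompact U ∧ x ∈ U}
  have hcl : ∀ i : ι, IsClosed[constructibleTopology X] (i : Set X) := fun i =>
    isClosed_constructibleTopology_of_isCompact_isOpen i.2.2.1 i.2.1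
  have hfin : ∀ u : Finset ι, (E ∩ ⋂ i ∈ u, (i : Set X)).Nonempty := by
    intro u
    have hopen : IsOpen (⋂ i ∈ u, (i : Set X)) :=
      isOpen_biInter_finset fun i _ => i.2.1
    have hmem : x ∈ ⋂ i ∈ u, (i : Set X) := by
      simp only [mem_iInter]
      exact fun i _ => i.2.2.2
    obtain ⟨z, hz1, hz2⟩ := mem_closure_iff.1 hx _ hopen hmem
    exact ⟨z, hz2, hz1⟩
  have hne : (E ∩ ⋂ i : ι, (i : Set X)).Nonempty :=
    @IsCompact.inter_iInter_nonempty X (constructibleTopology X) E ι hEc (fun i => (i : Set X))
      hcl hfin
  obtain ⟨e, heE, he⟩ := hne
  refine ⟨e, heE, specializes_iff_forall_open.2 fun s hs hxs => ?_⟩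
  obtain ⟨U, ⟨hUo, hUc⟩, hxU, hUs⟩ :=
    PrespectralSpace.isTopologicalBasis.exists_subset_of_mem_open hxs hs
  exact hUs (mem_iInter.1 he ⟨U, hUo, hUc, hxU⟩)

/-- Stacks 0903 (2). -/
theorem isClosed_of_isClosed_constructibleTopology {E : Set X}
    (hE : IsClosed[constructibleTopology X] E) (hs : StableUnderSpecialization E) :
    IsClosed E := by
  rw [← closure_subset_iff_isClosed]
  intro x hx
  obtain ⟨e, heE, hex⟩ := exists_specializes_of_mem_closure hE hx
  exact hs hex heE

/-- Stacks 0903 (3). -/
theorem isOpen_of_isOpen_constructibleTopology {E : Set X}
    (hE : IsOpen[constructibleTopology X] E) (hs : StableUnderGeneralization E) :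
    IsOpen E := by
  rw [← isClosed_compl_iff]
  refine isClosed_of_isClosed_constructibleTopology ?_ hs.compl
  letI : TopologicalSpace X := constructibleTopology X
  exact isClosed_compl_iff.2 hE

end spectral

section maps

variable {X Y : Type u} [tX : TopologicalSpace X] [tY : TopologicalSpace Y]

/-- Spectral maps are continuous for the constructible topologies. -/
theorem continuous_constructibleTopology_of_isSpectralMap {f : X → Y} (hf : IsSpectralMap f) :
    Continuous[constructibleTopology X, constructibleTopology Y] f := by
  rw [constructibleTopology, constructibleTopology, continuous_generateFrom_iff]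
  rintro s (⟨hso, hsc⟩ | ⟨hscl, hsc⟩)
  · exact TopologicalSpace.isOpen_generateFrom_of_mem
      (Or.inl ⟨hso.preimage hf.continuous, hf.isCompact_preimage_of_isOpen hso hsc⟩)
  · refine TopologicalSpace.isOpen_generateFrom_of_mem
      (Or.inr ⟨hscl.preimage hf.continuous, ?_⟩)
    rw [← preimage_compl]
    exact hf.isCompact_preimage_of_isOpen hscl.isOpen_compl hsc

variable [SpectralSpace X] [SpectralSpace Y]

theorem isSpectralMap_of_continuous_constructibleTopology {f : X → Y} (hf : Continuous f)
    (hfc : Continuous[constructibleTopology X, constructibleTopology Y] f) :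
    IsSpectralMap f := by
  refine ⟨hf, fun s hso hsc => ?_⟩
  apply isCompact_of_isClosed_constructibleTopology
  have h := isClosed_constructibleTopology_of_isCompact_isOpen hsc hso
  exact @IsClosed.preimage X Y (constructibleTopology X) (constructibleTopology Y) f hfc s h

/-- Fibres of a spectral map are compact. -/
theorem isCompact_fiber_of_isSpectralMap {f : X → Y} (hf : IsSpectralMap f) (y : Y) :
    IsCompact (f ⁻¹' {y}) := by
  apply isCompact_of_isClosed_constructibleTopology
  have hT2 := t2Space_constructibleTopology (X := Y)
  have h : IsClosed[constructibleTopology Y] ({y} : Set Y) := by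
    letI : TopologicalSpace Y := constructibleTopology Y
    exact isClosed_singleton
  exact @IsClosed.preimage X Y (constructibleTopology X) (constructibleTopology Y) f
    (continuous_constructibleTopology_of_isSpectralMap hf) _ h

/-- The image of a constructibly closed set under a spectral map is constructibly closed. -/
theorem isClosed_constructibleTopology_image {f : X → Y} (hf : IsSpectralMap f) {E : Set X}
    (hE : IsClosed[constructibleTopology X] E) : IsClosed[constructibleTopology Y] (f '' E) := by
  have hT2 := t2Space_constructibleTopology (X := Y)
  have hEc := isCompact_constructibleTopology_of_isClosed hE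
  have hc := continuous_constructibleTopology_of_isSpectralMap hf
  have himg : @IsCompact Y (constructibleTopology Y) (f '' E) :=
    @IsCompact.image X Y (constructibleTopology X) (constructibleTopology Y) E f hEc hc
  letI : TopologicalSpace Y := constructibleTopology Y
  exact himg.isClosed

theorem isClosed_constructibleTopology_range {f : X → Y} (hf : IsSpectralMap f) :
    IsClosed[constructibleTopology Y] (range f) := by
  rw [← image_univ]
  refine isClosed_constructibleTopology_image hf ?_
  letI : TopologicalSpace X := constructibleTopology X
  exact isClosed_univ

end maps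

section compl

variable {X : Type u} [tX : TopologicalSpace X]

theorem isClosed_constructibleTopology_compl_iff {s : Set X} :
    IsClosed[constructibleTopology X] sᶜ ↔ IsOpen[constructibleTopology X] s :=
  @isClosed_compl_iff X (constructibleTopology X) s

theorem isOpen_constructibleTopology_compl_iff {s : Set X} :
    IsOpen[constructibleTopology X] sᶜ ↔ IsClosed[constructibleTopology X] s :=
  @isOpen_compl_iff X s (constructibleTopology X)

end compl

end Groth.Agent.Lib.SpecSp_lead
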