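import Mathlib
import Groth.Agent.Lib.GorMor2_helper9

/-!
# Pullback along `Spec (R/m) → Spec R` is the fibre at the closed point (helper9)
APPEND-ONLY once landed.
-/

set_option autoImplicit false
universe u

namespace Groth.Agent.SpecialFibre9

open AlgebraicGeometry CategoryTheory Limits IsLocalRing

section General

variable {P S X T : Scheme.{u}} (f : P ⟶ S) (s : S) (g : T ⟶ S) (i : X ⟶ P) (q : X ⟶ T)
  (e : T ⟶ Spec (S.residueField s)) [IsIso e] (he : e ≫ S.fromSpecResidueField s = g)
  (sq : IsPullback i q f g)

include he sq in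
theorem isPullback_fiber : IsPullback i (q ≫ e) f (S.fromSpecResidueField s) :=
  sq.of_iso (Iso.refl _) (Iso.refl _) (asIso e) (Iso.refl _) (by simp) (by simp) (by simp)
    (by simp [he])

/-- the iso `X ≅ f.fiber s` -/
noncomputable def fiberIso : X ≅ f.fiber s :=
  (isPullback_fiber f s g i q e he sq).isoPullback

theorem fiberIso_hom_fiberι : (fiberIso f s g i q e he sq).hom ≫ f.fiberι s = i :=
  (isPullback_fiber f s g i q e he sq).isoPullback_hom_fst

include he sq in
/-- the local ring of the fibre through `i x` is the local ring of `X` at `x`. -/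
theorem nonempty_fiberStalk_equiv (x : X) :
    Nonempty (CInt.fiberStalk f (i x) ≃+* X.presheaf.stalk x) := by
  set φ := fiberIso f s g i q e he sq with hφ
  have hpt : f.fiberι s (φ.hom x) = i x := by
    rw [← Scheme.Hom.comp_apply, fiberIso_hom_fiberι]
  obtain ⟨e1⟩ := Groth.Agent.FibMapFlat.fiberStalk_transport_equiv f s (φ.hom x) (i x) hpt
  have e2 : (f.fiber s).presheaf.stalk (φ.hom x) ≃+* X.presheaf.stalk x :=
    (asIso (φ.hom.stalkMap x)).commRingCatIsoToRingEquiv
  exact ⟨e1.trans e2⟩

include he sq in
/-- every point of `P` over `s` comes from `X` -/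
theorem exists_of_map_eq (y : P) (hy : f y = s) : ∃ x : X, i x = y := by
  set φ := fiberIso f s g i q e he sq with hφ
  have : y ∈ Set.range (f.fiberι s) := by
    rw [Scheme.Hom.range_fiberι]; exact hy
  obtain ⟨t, ht⟩ := this
  refine ⟨φ.inv t, ?_⟩
  rw [← fiberIso_hom_fiberι f s g i q e he sq, ← Scheme.Hom.comp_apply, Iso.inv_hom_id_assoc, ht]

end General

end Groth.Agent.SpecialFibre9

namespace Groth.Agent.SpecialFibre9

open AlgebraicGeometry CategoryTheory Limits IsLocalRing

section LocalRing

variable (R : Type u) [CommRing R] [IsLocalRing R]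

/-- `R/m ≃ κ(m)` for a local ring -/
noncomputable def quotEquiv : ResidueField R ≃+* (maximalIdeal R).ResidueField :=
  RingEquiv.ofBijective (algebraMap (R ⧸ maximalIdeal R) (maximalIdeal R).ResidueField)
    (Ideal.bijective_algebraMap_quotient_residueField (maximalIdeal R))

theorem quotEquiv_comp :
    (quotEquiv R : ResidueField R →+* _).comp (algebraMap R (ResidueField R)) =
      algebraMap R (maximalIdeal R).ResidueField := by
  ext r
  rfl

/-- the comparison map `Spec (R/m) → Spec κ(s)`, `s` the closed point -/
noncomputable def toSpecResidueField :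
    Spec (CommRingCat.of (ResidueField R)) ⟶
      Spec ((Spec (CommRingCat.of R)).residueField (closedPoint R)) :=
  Spec.map ((Scheme.Spec.residueFieldIso (CommRingCat.of R) (closedPoint R)).hom ≫
    (quotEquiv R).symm.toCommRingCatIso.hom)

instance : IsIso (toSpecResidueField R) := by
  unfold toSpecResidueField
  infer_instance

theorem toSpecResidueField_comp :
    toSpecResidueField R ≫ (Spec (CommRingCat.of R)).fromSpecResidueField (closedPoint R) =
      Spec.map (CommRingCat.ofHom (algebraMap R (ResidueField R))) := by
  rw [← Scheme.Spec.map_residueFieldIso_inv_eq_fromSpecResidueField, toSpecResidueField,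
    ← Spec.map_comp, ← Spec.map_comp]
  congr 1
  rw [Category.assoc, Iso.inv_hom_id_assoc]
  ext r
  show (quotEquiv R).symm (algebraMap R (maximalIdeal R).ResidueField r) = _
  rw [← quotEquiv_comp, RingHom.comp_apply]
  exact (quotEquiv R).symm_apply_apply _

end LocalRing

end Groth.Agent.SpecialFibre9
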