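import Mathlib
set_option autoImplicit false
set_option linter.style.haveILetI false

universe u

open CategoryTheory CategoryTheory.Limits TopologicalSpace Opposite Topology

namespace SpectralLimH4

section finite

lemma quasiSober_of_finite (α : Type*) [TopologicalSpace α] [Finite α] : QuasiSober α := by
  refine ⟨fun {S} hS hSc => ?_⟩
  classical
  have hfin : S.Finite := Set.toFinite S
  let t : Finset (Set α) := hfin.toFinset.image (fun x => closure {x})
  have h1 : ∀ z ∈ t, IsClosed z := by
    intro z hz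
    obtain ⟨x, -, rfl⟩ := Finset.mem_image.1 hz
    exact isClosed_closure
  have h2 : S ⊆ ⋃₀ (↑t : Set (Set α)) := by
    intro x hx
    refine Set.mem_sUnion.2 ⟨closure {x}, ?_, subset_closure (Set.mem_singleton x)⟩
    exact Finset.mem_coe.2 (Finset.mem_image.2 ⟨x, hfin.mem_toFinset.2 hx, rfl⟩)
  obtain ⟨z, hz, hSz⟩ := (isIrreducible_iff_sUnion_isClosed.1 hS) t h1 h2
  obtain ⟨x, hx, rfl⟩ := Finset.mem_image.1 hz
  refine ⟨x, ?_⟩
  exact Set.Subset.antisymm
    (hSc.closure_subset_iff.2 (Set.singleton_subset_iff.2 (hfin.mem_toFinset.1 hx))) hSz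

end finite

section defs

variable (X : Type u) [TopologicalSpace X]

/-- the evaluation map -/
def phi (S : Finset (CompactOpens X)) (x : X) : ↥S → Prop := fun U => x ∈ (U : CompactOpens X)

lemma continuous_phi (S : Finset (CompactOpens X)) : Continuous (phi X S) :=
  continuous_pi fun U => continuous_Prop.2 U.1.isOpen

/-- the finite quotient -/
abbrev Fobj (S : Finset (CompactOpens X)) : Type u := ↥(Set.range (phi X S))

variable {X} in
/-- restriction -/
def res {S S' : Finset (CompactOpens X)} (h : S ≤ S') (v : Fobj X S') : Fobj X S :=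
  ⟨fun U => v.1 ⟨U.1, h U.2⟩, by
    obtain ⟨x, hx⟩ := v.2
    refine ⟨x, ?_⟩
    funext U
    exact congrFun hx ⟨U.1, h U.2⟩⟩

variable {X} in
lemma continuous_res {S S' : Finset (CompactOpens X)} (h : S ≤ S') : Continuous (res h) :=
  continuous_induced_rng.2 (continuous_pi fun U =>
    (continuous_apply (⟨U.1, h U.2⟩ : ↥S')).comp continuous_subtype_val)

/-- the functor -/
def F : (Finset (CompactOpens X))ᵒᵖ ⥤ TopCat.{u} where
  obj S := TopCat.of (Fobj X S.unop)
  map {S S'} f := TopCat.ofHom ⟨res (leOfHom f.unop), continuous_res _⟩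
  map_id S := by
    ext v U
    exact Iff.rfl
  map_comp f g := by
    ext v U
    exact Iff.rfl

/-- the cone -/
def cone : Cone (F X) where
  pt := TopCat.of X
  π :=
    { app := fun S => TopCat.ofHom ⟨fun x => ⟨phi X S.unop x, x, rfl⟩,
        continuous_induced_rng.2 (continuous_phi X _)⟩
      naturality := fun S S' f => by
        ext x
        exact Subtype.ext (funext fun U => rfl) }

end defs

section main

variable {X : Type u} [TopologicalSpace X]

lemma eq_of_forall_mem_iff [T0Space X] [PrespectralSpace X] {x y : X}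
    (h : ∀ U : CompactOpens X, x ∈ U ↔ y ∈ U) : x = y := by
  apply Inseparable.eq
  rw [inseparable_iff_forall_isOpen]
  intro s hs
  constructor
  · intro hx
    obtain ⟨v, hv, hxv, hvs⟩ :=
      PrespectralSpace.isTopologicalBasis.exists_subset_of_mem_open hx hs
    exact hvs ((h ⟨⟨v, hv.2⟩, hv.1⟩).1 hxv)
  · intro hy
    obtain ⟨v, hv, hyv, hvs⟩ :=
      PrespectralSpace.isTopologicalBasis.exists_subset_of_mem_open hy hs
    exact hvs ((h ⟨⟨v, hv.2⟩, hv.1⟩).2 hyv)

lemma exists_point [SpectralSpace X] (w : CompactOpens X → Prop)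
    (hfin : ∀ S : Finset (CompactOpens X), ∃ x : X, ∀ U ∈ S, (x ∈ U ↔ w U)) :
    ∃ x : X, ∀ U : CompactOpens X, (x ∈ U ↔ w U) := by
  let D : CompactOpens X → Set (WithConstructibleTopology X) :=
    fun U => {y | y.ofTopology ∈ U ↔ w U}
  have hclosed : ∀ U, IsClosed (D U) := by
    intro U
    rw [WithConstructibleTopology.isClosed_iff]
    by_cases hw : w U
    · have : WithTopology.toTopology _ ⁻¹' D U = (U : Set X) := by
        ext x
        simp [D, hw]
      rw [this]
      exact @IsClosed.mk X (constructibleTopology X) _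
        (IsCompact.isOpen_constructibleTopology_of_isClosed
          (by rw [compl_compl]; exact U.isCompact) U.isOpen.isClosed_compl)
    · have : WithTopology.toTopology _ ⁻¹' D U = (U : Set X)ᶜ := by
        ext x
        simp [D, hw]
      rw [this]
      exact @IsClosed.mk X (constructibleTopology X) _ (by
        rw [compl_compl]
        exact IsCompact.isOpen_constructibleTopology_of_isOpen U.isCompact U.isOpen)
  have hfip : ∀ S : Finset (CompactOpens X), (⋂ U ∈ S, D U).Nonempty := by
    intro S
    obtain ⟨x, hx⟩ := hfin S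
    exact ⟨WithTopology.toTopology _ x, Set.mem_iInter₂.2 fun U hU => hx U hU⟩
  obtain ⟨y, hy⟩ := CompactSpace.iInter_nonempty hclosed hfip
  exact ⟨y.ofTopology, fun U => Set.mem_iInter.1 hy U⟩

lemma hsec [SpectralSpace X] (s : ∀ j, (F X ⋙ forget TopCat).obj j)
    (hs : s ∈ (F X ⋙ forget TopCat).sections) :
    ∃! x : X, ∀ j, ((forget TopCat).mapCone (cone X)).π.app j x = s j := by
  let s' : ∀ S : Finset (CompactOpens X), Fobj X S := fun S => s (op S)
  have hcompat : ∀ (S S' : Finset (CompactOpens X)) (h : S ≤ S'), res h (s' S') = s' S := by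
    intro S S' h
    exact hs (homOfLE h).op
  let w : CompactOpens X → Prop := fun U => (s' {U}).1 ⟨U, Finset.mem_singleton_self U⟩
  have hw : ∀ (S : Finset (CompactOpens X)) (U : CompactOpens X) (hU : U ∈ S),
      (s' S).1 ⟨U, hU⟩ = w U := by
    intro S U hU
    have := hcompat {U} S (Finset.singleton_subset_iff.2 hU)
    exact congrFun (congrArg Subtype.val this) ⟨U, Finset.mem_singleton_self U⟩
  have hfin : ∀ S : Finset (CompactOpens X), ∃ x : X, ∀ U ∈ S, (x ∈ U ↔ w U) := by
    intro S
    obtain ⟨x, hx⟩ := (s' S).2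
    refine ⟨x, fun U hU => ?_⟩
    have h1 : (x ∈ U) = (s' S).1 ⟨U, hU⟩ := congrFun hx ⟨U, hU⟩
    rw [h1, hw S U hU]
  obtain ⟨x, hx⟩ := exists_point w hfin
  refine ⟨x, fun j => ?_, fun y hy => ?_⟩
  · show (⟨phi X j.unop x, x, rfl⟩ : Fobj X j.unop) = s' j.unop
    apply Subtype.ext
    funext U
    exact propext ((hx U.1).trans (Eq.to_iff (hw j.unop U.1 U.2).symm))
  · apply eq_of_forall_mem_iff
    intro U
    have h1 : (⟨phi X {U} y, y, rfl⟩ : Fobj X {U}) = s' {U} := hy (op {U})
    have h2 : (y ∈ U) = w U :=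
      congrFun (congrArg Subtype.val h1) ⟨U, Finset.mem_singleton_self U⟩
    rw [h2]
    exact (hx U).symm

theorem main (X : Type u) [TopologicalSpace X] [SpectralSpace X] :
    ∃ (J : Type u) (_ : Preorder J) (_ : Nonempty J) (_ : IsDirected J (· ≤ ·))
      (F : Jᵒᵖ ⥤ TopCat.{u}) (c : Cone F), Nonempty (IsLimit c) ∧
        (∀ j : Jᵒᵖ, Finite (F.obj j) ∧ T0Space (F.obj j) ∧ QuasiSober (F.obj j)) ∧
        Nonempty (c.pt ≅ TopCat.of X) := by
  classical
  refine ⟨Finset (CompactOpens X), inferInstance, ⟨∅⟩, inferInstance, F X, cone X, ?_, ?_,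
    ⟨Iso.refl _⟩⟩
  · have hc : IsLimit ((forget TopCat).mapCone (cone X)) :=
      ((Types.isLimit_iff _).2 (fun s hs => hsec s hs)).some
    rw [TopCat.nonempty_isLimit_iff_eq_induced (cone X) hc]
    refine le_antisymm (le_iInf fun j => ?_) ?_
    · exact ((cone X).π.app j).hom.continuous.le_induced
    · have hB := (PrespectralSpace.isTopologicalBasis (X := X)).eq_generateFrom
      refine le_trans (le_generateFrom ?_) (le_of_eq hB.symm)
      rintro U ⟨hUo, hUc⟩
      let U' : CompactOpens X := ⟨⟨U, hUc⟩, hUo⟩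
      have h1 : IsOpen[TopologicalSpace.induced ((cone X).π.app (op {U'}))
          ((F X).obj (op {U'})).str] U := by
        rw [isOpen_induced_iff]
        refine ⟨{v : Fobj X {U'} | v.1 ⟨U', Finset.mem_singleton_self U'⟩}, ?_, ?_⟩
        · exact continuous_Prop.1 ((continuous_apply
            (⟨U', Finset.mem_singleton_self U'⟩ : ↥({U'} : Finset (CompactOpens X)))).comp
            continuous_subtype_val)
        · ext x
          exact Iff.rfl
      exact (iInf_le (fun j => TopologicalSpace.induced ((cone X).π.app j)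
        ((F X).obj j).str) (op {U'})) U h1
  · intro j
    show Finite (Fobj X j.unop) ∧ T0Space (Fobj X j.unop) ∧ QuasiSober (Fobj X j.unop)
    exact ⟨inferInstance, inferInstance, quasiSober_of_finite _⟩

end main

end SpectralLimH4
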