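import Mathlib
import Groth.Agent.S10350
import Groth.Agent.Lib.DecentSober_helper7
import Groth.Agent.Lib.AlgSpT0_helper6
import Groth.Agent.Lib.AlgSpQC2_helper7
import Groth.Agent.Lib.AlgSpChart_helper7
import Groth.Agent.Lib.AlgSpQfFin_helper7
import Groth.Agent.Lib.UBFCover_helper6
import Groth.Agent.Lib.AlgSpFEtDense_helper6

/-!
# The space of points of a quasi-compact quasi-separated algebraic space is spectral (helper7)
-/

set_option autoImplicit false
set_option linter.style.haveILetI false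
universe u
open CategoryTheory CategoryTheory.Limits AlgebraicGeometry Opposite TopologicalSpace

namespace Groth.Agent.Lib.SpectralPtsH7

open AlgSp Groth.Agent.Lib.AlgSpPoints_helper7 Groth.Agent.Lib.AlgSpBasic_helper7
  Groth.Agent.Lib.AlgSpChart_helper7 Groth.Agent.Lib.UBFCoverH6 Groth.Agent.Lib.AlgSpFEtDenseH6
  Groth.Agent.Lib.AlgSpQC2_helper7 Groth.Agent.Lib.AlgSpPullback_helper7

variable {S : Scheme.{u}}

/-- Affine étale charts of a sheaf. -/
structure AffChart (X : Sp S) where
  U : Over S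
  a : (yon S).obj U ⟶ X
  aff : IsAffine U.left
  et : RepWith @Etale a

theorem exists_affChart_in_open (X : Space S) (O : Set (Points X.obj)) (hO : IsOpen O)
    (x : Points X.obj) (hx : x ∈ O) :
    ∃ c : AffChart X.obj, x ∈ Set.range (Points.ofPt c.a) ∧ Set.range (Points.ofPt c.a) ⊆ O := by
  obtain ⟨V, b, v, hVaff, hbe, hbv⟩ :=
    Groth.Agent.Lib.AlgSpQfFinH7.exists_affine_chart X.property x
  have hO' : IsOpen (Points.ofPt b ⁻¹' O) := hO.preimage (Points.continuous_ofPt b)
  obtain ⟨V', hV', hvV', hV'sub⟩ := exists_isAffineOpen_mem_and_subset (X := V.left) (x := v)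
    (U := ⟨_, hO'⟩) (by change Points.ofPt b v ∈ O; rw [hbv]; exact hx)
  let j : opOver V V' ⟶ V := opι V V'
  haveI : IsOpenImmersion j.left := inferInstanceAs (IsOpenImmersion V'.ι)
  obtain ⟨v', hv'⟩ : ∃ v' : ↥(opOver V V').left, j.left v' = v := ⟨⟨v, hvV'⟩, rfl⟩
  refine ⟨⟨opOver V V', (yon S).map j ≫ b, hV',
    repWith_comp _ ((repWith_yon_map_iff @Etale j).2 inferInstance) hbe⟩, ⟨v', ?_⟩, ?_⟩
  · change Points.ofPt ((yon S).map j ≫ b) v' = x
    rw [ofPt_comp, hv']
    exact hbv
  · rintro _ ⟨w, rfl⟩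
    change Points.ofPt ((yon S).map j ≫ b) w ∈ O
    rw [ofPt_comp]
    exact hV'sub w.2

theorem isCompact_inter_range [QuasiSeparatedSpace ↥S] (X : Space S)
    (hqs : IsQuasiSeparatedSp X.obj) (c d : AffChart X.obj) :
    IsCompact (Set.range (Points.ofPt c.a) ∩ Set.range (Points.ofPt d.a)) := by
  haveI := c.aff
  haveI := d.aff
  obtain ⟨P, τ, π, sq⟩ := exists_isPullback_yon c.et.rep d.a
  obtain ⟨W, pU, pV, r, ρ, sqW, hρ1, hρ2, -, -, sqD, -⟩ :=
    exists_fibreProduct_chart c.a d.a τ π sq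
  have hρ : QuasiCompact ρ.left := hqs.property r _ ρ sqD
  haveI : QuasiCompact c.U.hom := inferInstance
  have hpV : QuasiCompact pV.left := MorphismProperty.of_isPullback sqW ‹QuasiCompact c.U.hom›
  have hπ : QuasiCompact π.left := by
    have : π.left = ρ.left ≫ pV.left := by rw [← Over.comp_left, hρ2]
    rw [this]
    infer_instance
  haveI : CompactSpace ↥P.left := QuasiCompact.compactSpace_of_compactSpace π.left
  have himg : Set.range (Points.ofPt c.a) ∩ Set.range (Points.ofPt d.a) =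
      Set.range (Points.ofPt ((yon S).map τ ≫ c.a)) := by
    ext x
    constructor
    · rintro ⟨⟨u, rfl⟩, ⟨v, hv⟩⟩
      obtain ⟨p, hp1, hp2⟩ := exists_ofPt_eq_of_isPullback sq u v hv.symm
      exact ⟨p, by rw [ofPt_comp, hp1]⟩
    · rintro ⟨p, rfl⟩
      refine ⟨⟨τ.left p, (ofPt_comp τ c.a p).symm⟩, ⟨π.left p, ?_⟩⟩
      rw [← ofPt_comp, ← sq.w]
  rw [himg]
  exact isCompact_range (Points.continuous_ofPt _)

theorem main10201 [QuasiSeparatedSpace ↥S] (X : Space S) (hqc : IsQuasiCompactSp X.obj)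
    (hqs : IsQuasiSeparatedSp X.obj) : SpectralSpace (Points X.obj) := by
  have hd : IsDecent X.obj := Groth.Agent.S10350.result X hqs
  haveI : T0Space (Points X.obj) :=
    Groth.Agent.Lib.AlgSpT0_helper6.t0Space_points_of_isDecent X.property hd
  haveI : QuasiSober (Points X.obj) := Groth.Agent.Lib.DecentSoberH7.main10339 X hd
  haveI : CompactSpace (Points X.obj) := compactSpace_of_isQuasiCompactSp hqc
  let b : AffChart X.obj → Set (Points X.obj) := fun c => Set.range (Points.ofPt c.a)
  have hbasis : IsTopologicalBasis (Set.range b) := by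
    refine isTopologicalBasis_of_isOpen_of_nhds ?_ ?_
    · rintro _ ⟨c, rfl⟩
      change IsOpen (Set.range (Points.ofPt c.a))
      rw [← Set.image_univ]
      exact isOpenMap_ofPt_of_etale c.a c.et _ isOpen_univ
    · intro x O hx hO
      obtain ⟨c, hxc, hcO⟩ := exists_affChart_in_open X O hO x hx
      exact ⟨_, ⟨c, rfl⟩, hxc, hcO⟩
  have hinter : ∀ c d, IsCompact (b c ∩ b d) := fun c d => isCompact_inter_range X hqs c d
  haveI : QuasiSeparatedSpace (Points X.obj) :=
    QuasiSeparatedSpace.of_isTopologicalBasis hbasis hinter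
  haveI : PrespectralSpace (Points X.obj) :=
    PrespectralSpace.of_isTopologicalBasis' hbasis (fun c => by simpa using hinter c c)
  exact {}

end Groth.Agent.Lib.SpectralPtsH7
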