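import Mathlib
import Groth.Prelude.Def_FibClv

set_option autoImplicit false
set_option linter.unusedSimpArgs false
set_option linter.unusedVariables false
set_option linter.unusedSectionVars false
set_option linter.style.longLine false
set_option linter.unnecessarySimpa false
set_option linter.style.haveILetI false
set_option maxHeartbeats 1600000
set_option backward.isDefEq.respectTransparency false
set_option backward.isDefEq.respectTransparency.types false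
set_option backward.defeqAttrib.useBackward true

universe v₁ v₂ v₃ u₁ u₂ u₃

open CategoryTheory CategoryTheory.Functor Opposite

namespace Groth.Agent.Lib.Split19866

section transport

variable {𝒮 : Type u₁} [Category.{v₁} 𝒮] {𝒳 : Type u₂} [Category.{v₂} 𝒳]
  {𝒴 : Type u₃} [Category.{v₃} 𝒴]
  (q : 𝒴 ⥤ 𝒮) (Φ : 𝒳 ⥤ 𝒴) (Ψ : 𝒴 ⥤ 𝒳) (h₁ : Φ ⋙ Ψ = 𝟭 𝒳) (h₂ : Ψ ⋙ Φ = 𝟭 𝒴)

lemma isHomLift_comp_iff {R S : 𝒮} {a b : 𝒳} (f : R ⟶ S) (φ : a ⟶ b) :
    (Φ ⋙ q).IsHomLift f φ ↔ q.IsHomLift f (Φ.map φ) := by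
  constructor
  · intro h
    exact IsHomLift.of_fac' q f (Φ.map φ) (IsHomLift.domain_eq (Φ ⋙ q) f φ)
      (IsHomLift.codomain_eq (Φ ⋙ q) f φ) (IsHomLift.fac' (Φ ⋙ q) f φ)
  · intro h
    exact IsHomLift.of_fac' (Φ ⋙ q) f φ (IsHomLift.domain_eq q f (Φ.map φ))
      (IsHomLift.codomain_eq q f (Φ.map φ)) (IsHomLift.fac' q f (Φ.map φ))

include h₁ in
lemma ΨΦ_map {a a' : 𝒳} (φ : a ⟶ a') :
    Ψ.map (Φ.map φ) =
      eqToHom (Functor.congr_obj h₁ a) ≫ φ ≫ eqToHom (Functor.congr_obj h₁ a').symm :=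
  Functor.congr_hom h₁ φ

include h₂ in
lemma ΦΨ_map {b b' : 𝒴} (ψ : b ⟶ b') :
    Φ.map (Ψ.map ψ) =
      eqToHom (Functor.congr_obj h₂ b) ≫ ψ ≫ eqToHom (Functor.congr_obj h₂ b').symm :=
  Functor.congr_hom h₂ ψ

include h₂ in
lemma isCartesian_transport {R S : 𝒮} {a : 𝒳} {b : 𝒴} (f : R ⟶ S) (ψ : b ⟶ Φ.obj a)
    [q.IsCartesian f ψ] :
    (Φ ⋙ q).IsCartesian f (Ψ.map ψ ≫ eqToHom (Functor.congr_obj h₁ a)) := by
  have hΦκ : Φ.map (Ψ.map ψ ≫ eqToHom (Functor.congr_obj h₁ a)) =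
      eqToHom (Functor.congr_obj h₂ b) ≫ ψ := by
    rw [Functor.map_comp, ΦΨ_map Φ Ψ h₂ ψ, eqToHom_map]
    simp
  have hlift : (Φ ⋙ q).IsHomLift f (Ψ.map ψ ≫ eqToHom (Functor.congr_obj h₁ a)) := by
    rw [isHomLift_comp_iff, hΦκ]
    infer_instance
  refine { toIsHomLift := hlift, universal_property := ?_ }
  intro a' φ' hφ'
  haveI : q.IsHomLift f (Φ.map φ') := (isHomLift_comp_iff q Φ f φ').1 hφ'
  obtain ⟨χ₀, ⟨hχ₀lift, hχ₀⟩, huniq⟩ :=
    IsCartesian.universal_property (p := q) (f := f) (φ := ψ) (Φ.map φ')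
  refine ⟨eqToHom (Functor.congr_obj h₁ a').symm ≫ Ψ.map χ₀, ⟨?_, ?_⟩, ?_⟩
  · rw [isHomLift_comp_iff, Functor.map_comp, eqToHom_map, ΦΨ_map Φ Ψ h₂ χ₀]
    infer_instance
  · have h3 : Ψ.map χ₀ ≫ Ψ.map ψ = Ψ.map (Φ.map φ') := by rw [← Functor.map_comp, hχ₀]
    rw [Category.assoc, reassoc_of% h3, ΨΦ_map Φ Ψ h₁ φ']
    simp
  · rintro χ' ⟨hχ'lift, hχ'⟩
    haveI : q.IsHomLift (𝟙 R) (Φ.map χ') := (isHomLift_comp_iff q Φ _ χ').1 hχ'lift
    have h4 : (Φ.map χ' ≫ eqToHom (Functor.congr_obj h₂ b)) = χ₀ := by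
      apply huniq
      refine ⟨inferInstance, ?_⟩
      rw [← hχ', Functor.map_comp, hΦκ, Category.assoc]
    rw [← h4, Functor.map_comp, eqToHom_map, ΨΦ_map Φ Ψ h₁ χ']
    simp

/-- Transport of a cleavage along an isomorphism of categories over the base. -/
def transportCleavage (L : FibCat.Cleavage q) : FibCat.Cleavage (Φ ⋙ q) where
  obj := fun {R S a} ha f => Ψ.obj (L.obj (a := Φ.obj a) ha f)
  lift := fun {R S a} ha f =>
    Ψ.map (L.lift (a := Φ.obj a) ha f) ≫ eqToHom (Functor.congr_obj h₁ a)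
  isCartesian := fun {R S a} ha f =>
    isCartesian_transport q Φ Ψ h₁ h₂ f (L.lift (a := Φ.obj a) ha f)

lemma obj_congr (L : FibCat.Cleavage q) {X X' : 𝒴} (e : X' = X) {R S : 𝒮}
    (h' : q.obj X' = S) (h : q.obj X = S) (g : R ⟶ S) :
    L.obj h' g = L.obj h g := by
  subst e; rfl

lemma lift_congr (L : FibCat.Cleavage q) {X X' : 𝒴} (e : X' = X) {R S : 𝒮}
    (h' : q.obj X' = S) (h : q.obj X = S) (g : R ⟶ S) :
    L.lift h' g = eqToHom (obj_congr q L e h' h g) ≫ L.lift h g ≫ eqToHom e.symm := by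
  subst e; simp

theorem isSplitting_transport (L : FibCat.Cleavage q) (hL : L.IsSplitting) :
    (transportCleavage q Φ Ψ h₁ h₂ L).IsSplitting := by
  refine ⟨?_, ?_⟩
  · intro S a ha
    have hn := hL.1
    obtain ⟨h₀, hl⟩ := @hn S (Φ.obj a) ha
    refine ⟨(congrArg Ψ.obj h₀).trans (Functor.congr_obj h₁ a), ?_⟩
    show Ψ.map (L.lift (a := Φ.obj a) ha (𝟙 S)) ≫ eqToHom _ = eqToHom _
    rw [hl, eqToHom_map, eqToHom_trans]
  · intro S T U f g a ha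
    have hc := hL.2
    obtain ⟨h₀, hl⟩ := @hc S T U f g (Φ.obj a) ha
    have e : Φ.obj (Ψ.obj (L.obj (a := Φ.obj a) ha f)) = L.obj (a := Φ.obj a) ha f :=
      Functor.congr_obj h₂ _
    have hobj := obj_congr q L e
      ((transportCleavage q Φ Ψ h₁ h₂ L).obj_proj ha f) (L.obj_proj (a := Φ.obj a) ha f) g
    have hlift := lift_congr q L e
      ((transportCleavage q Φ Ψ h₁ h₂ L).obj_proj ha f) (L.obj_proj (a := Φ.obj a) ha f) g
    refine ⟨congrArg Ψ.obj (hobj.trans h₀), ?_⟩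
    show (Ψ.map (L.lift (a := Φ.obj (Ψ.obj (L.obj (a := Φ.obj a) ha f)))
        ((transportCleavage q Φ Ψ h₁ h₂ L).obj_proj ha f) g) ≫ eqToHom _) ≫
        (Ψ.map (L.lift (a := Φ.obj a) ha f) ≫ eqToHom _) =
      eqToHom _ ≫ (Ψ.map (L.lift (a := Φ.obj a) ha (g ≫ f)) ≫ eqToHom _)
    rw [hlift]
    simp only [Functor.map_comp, eqToHom_map, Category.assoc, eqToHom_trans_assoc, eqToHom_refl,
      Category.id_comp]
    rw [← Functor.map_comp_assoc, hl, Functor.map_comp_assoc, eqToHom_map, eqToHom_trans_assoc]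

end transport

section coG

open Pseudofunctor Pseudofunctor.CoGrothendieck

variable {𝒮 : Type u₁} [Category.{v₁} 𝒮] (F : 𝒮ᵒᵖ ⥤ Cat.{v₂, u₂})

lemma G_map_toLoc {X Y : 𝒮ᵒᵖ} (f : X ⟶ Y) : F.toPseudofunctor'.map f.toLoc = F.map f := rfl

lemma eqToHom_base' {G : Pseudofunctor (LocallyDiscrete 𝒮ᵒᵖ) Cat.{v₂, u₂}}
    {x y : Pseudofunctor.CoGrothendieck G} (h : x = y) :
    (eqToHom h : x ⟶ y).base = eqToHom (congrArg Pseudofunctor.CoGrothendieck.base h) := by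
  subst h; rfl

lemma id_fiber_eq (x : Pseudofunctor.CoGrothendieck F.toPseudofunctor') :
    ∃ pf : x.fiber = (F.toPseudofunctor'.map (𝟙 x : x ⟶ x).base.op.toLoc).toFunctor.obj x.fiber,
      (𝟙 x : x ⟶ x).fiber = eqToHom pf := by
  have pf : x.fiber =
      (F.toPseudofunctor'.map (𝟙 x : x ⟶ x).base.op.toLoc).toFunctor.obj x.fiber := by
    show x.fiber = (F.map (𝟙 x.base).op).toFunctor.obj x.fiber
    rw [op_id, F.map_id]
    rfl
  refine ⟨pf, ?_⟩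
  simp [Cat.eqToHom_app]

lemma eqToHom_fiber' {x y : Pseudofunctor.CoGrothendieck F.toPseudofunctor'} (h : x = y) :
    ∃ pf : x.fiber =
        (F.toPseudofunctor'.map (eqToHom h : x ⟶ y).base.op.toLoc).toFunctor.obj y.fiber,
      (eqToHom h : x ⟶ y).fiber = eqToHom pf := by
  subst h
  obtain ⟨pf, e⟩ := id_fiber_eq F x
  exact ⟨pf, e⟩

lemma lift_id_eq {S : 𝒮} (x : F.toPseudofunctor'.obj ⟨op S⟩) (u : S ⟶ S) (hu : u = 𝟙 S) :
    ∃ h : (⟨S, (F.toPseudofunctor'.map u.op.toLoc).toFunctor.obj x⟩ :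
        Pseudofunctor.CoGrothendieck F.toPseudofunctor') = ⟨S, x⟩,
      (cartesianLift x u : _ ⟶ (⟨S, x⟩ : Pseudofunctor.CoGrothendieck F.toPseudofunctor')) =
        eqToHom h := by
  subst hu
  have hx : (F.toPseudofunctor'.map (𝟙 S).op.toLoc).toFunctor.obj x = x := by
    show (F.map (𝟙 S).op).toFunctor.obj x = x
    rw [op_id, F.map_id]
    rfl
  refine ⟨congrArg (fun z => (⟨S, z⟩ : Pseudofunctor.CoGrothendieck F.toPseudofunctor')) hx, ?_⟩
  obtain ⟨pf, hfib⟩ := eqToHom_fiber' F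
    (congrArg (fun z => (⟨S, z⟩ : Pseudofunctor.CoGrothendieck F.toPseudofunctor')) hx)
  refine Hom.ext _ _ ?_ ?_
  · rw [eqToHom_base']
    simp
  · rw [hfib]
    simp

lemma lift_comp_eq {S T U : 𝒮} (x : F.toPseudofunctor'.obj ⟨op S⟩) (f' : T ⟶ S) (g' : U ⟶ T)
    (w : U ⟶ S) (hw : w = g' ≫ f') :
    ∃ h : (⟨U, (F.toPseudofunctor'.map g'.op.toLoc).toFunctor.obj
          ((F.toPseudofunctor'.map f'.op.toLoc).toFunctor.obj x)⟩ :
        Pseudofunctor.CoGrothendieck F.toPseudofunctor') =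
        ⟨U, (F.toPseudofunctor'.map w.op.toLoc).toFunctor.obj x⟩,
      (cartesianLift ((F.toPseudofunctor'.map f'.op.toLoc).toFunctor.obj x) g' : _ ⟶
          (⟨T, (F.toPseudofunctor'.map f'.op.toLoc).toFunctor.obj x⟩ :
            Pseudofunctor.CoGrothendieck F.toPseudofunctor')) ≫
        (cartesianLift x f' : _ ⟶ (⟨S, x⟩ : Pseudofunctor.CoGrothendieck F.toPseudofunctor')) =
        eqToHom h ≫ cartesianLift x w := by
  subst hw
  have hx : (F.toPseudofunctor'.map g'.op.toLoc).toFunctor.obj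
      ((F.toPseudofunctor'.map f'.op.toLoc).toFunctor.obj x) =
      (F.toPseudofunctor'.map (g' ≫ f').op.toLoc).toFunctor.obj x := by
    simp only [G_map_toLoc, op_comp, F.map_comp, Cat.Hom.comp_toFunctor, Functor.comp_obj]
  refine ⟨congrArg (fun z => (⟨U, z⟩ : Pseudofunctor.CoGrothendieck F.toPseudofunctor')) hx, ?_⟩
  obtain ⟨pf, hfib⟩ := eqToHom_fiber' F
    (congrArg (fun z => (⟨U, z⟩ : Pseudofunctor.CoGrothendieck F.toPseudofunctor')) hx)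
  refine Hom.ext _ _ ?_ ?_
  · rw [categoryStruct_comp_base, categoryStruct_comp_base, eqToHom_base']
    simp
  · rw [categoryStruct_comp_fiber, categoryStruct_comp_fiber, hfib]
    simp [Cat.eqToHom_app]

theorem ofCoGrothendieck_isSplitting :
    (FibCat.Cleavage.ofCoGrothendieck F.toPseudofunctor').IsSplitting := by
  refine ⟨?_, ?_⟩
  · intro S a ha
    obtain rfl := ha
    exact lift_id_eq F a.fiber (𝟙 _ ≫ eqToHom rfl) (by simp)
  · intro S T U f g a ha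
    obtain rfl := ha
    exact lift_comp_eq F a.fiber (f ≫ eqToHom rfl) (g ≫ eqToHom rfl) ((g ≫ f) ≫ eqToHom rfl)
      (by simp)

end coG

theorem main19866 {𝒮 : Type u₁} [Category.{v₁} 𝒮] {𝒳 : Type u₂} [Category.{v₂} 𝒳]
    (p : 𝒳 ⥤ 𝒮) (F : 𝒮ᵒᵖ ⥤ Cat.{v₂, u₂})
    (Φ : 𝒳 ⥤ Pseudofunctor.CoGrothendieck F.toPseudofunctor')
    (Ψ : Pseudofunctor.CoGrothendieck F.toPseudofunctor' ⥤ 𝒳)
    (h₁ : Φ ⋙ Ψ = 𝟭 𝒳) (h₂ : Ψ ⋙ Φ = 𝟭 _)
    (h₃ : Φ ⋙ Pseudofunctor.CoGrothendieck.forget F.toPseudofunctor' = p) :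
    ∃ K : FibCat.Cleavage p, K.IsSplitting := by
  subst h₃
  exact ⟨transportCleavage _ Φ Ψ h₁ h₂ (FibCat.Cleavage.ofCoGrothendieck _),
    isSplitting_transport _ Φ Ψ h₁ h₂ _ (ofCoGrothendieck_isSplitting F)⟩

end Groth.Agent.Lib.Split19866
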