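import Mathlib
import Groth.Prelude.Def_FibClv
import Groth.Agent.Lib.Split19866_lead

set_option autoImplicit false
set_option linter.unusedSimpArgs false
set_option linter.unusedVariables false
set_option linter.unusedSectionVars false
set_option linter.style.longLine false
set_option linter.unnecessarySimpa false
set_option linter.style.haveILetI false
set_option maxHeartbeats 1600000
set_option backward.isDefEq.respectTransparency false
set_option backward.isDefEq.respectTransparency.types false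
set_option backward.defeqAttrib.useBackward true

universe v₁ v₂ v₃ v₄ u₁ u₂ u₃ u₄

open CategoryTheory CategoryTheory.Functor Opposite

namespace Groth.Agent.Lib.Split12900

noncomputable section

section generic

lemma comp_eq_id_of_injective {A : Type u₃} [Category.{v₃} A] {B : Type u₄} [Category.{v₄} B]
    (Φ : A ⥤ B) (Ψ : B ⥤ A) (h₁ : Φ ⋙ Ψ = 𝟭 A) (hobj : Function.Injective Ψ.obj)
    (hmap : ∀ {x y : B} (m m' : x ⟶ y), Ψ.map m = Ψ.map m' → m = m') : Ψ ⋙ Φ = 𝟭 B := by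
  have ho : ∀ y : B, (Ψ ⋙ Φ).obj y = (𝟭 B).obj y :=
    fun y => hobj (Functor.congr_obj h₁ (Ψ.obj y))
  refine CategoryTheory.Functor.ext ho ?_
  intro x y m
  apply hmap
  have h2 : Ψ.map (Φ.map (Ψ.map m)) =
      eqToHom (Functor.congr_obj h₁ (Ψ.obj x)) ≫ Ψ.map m ≫
        eqToHom (Functor.congr_obj h₁ (Ψ.obj y)).symm := Functor.congr_hom h₁ (Ψ.map m)
  show Ψ.map (Φ.map (Ψ.map m)) = Ψ.map (eqToHom _ ≫ m ≫ eqToHom _)
  rw [h2]
  simp [eqToHom_map]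

lemma isHomLift_unique {𝒮 : Type u₁} [Category.{v₁} 𝒮] {𝒳 : Type u₂} [Category.{v₂} 𝒳]
    (p : 𝒳 ⥤ 𝒮) {R S : 𝒮} {a b : 𝒳} (f f' : R ⟶ S) (φ : a ⟶ b)
    [h1 : p.IsHomLift f φ] [h2 : p.IsHomLift f' φ] : f = f' := by
  rw [IsHomLift.fac p f φ, IsHomLift.fac p f' φ]

lemma mapComp_inv_app' {𝒮 : Type u₁} [Category.{v₁} 𝒮] (F : 𝒮ᵒᵖ ⥤ Cat.{v₂, u₂})
    {a b c : LocallyDiscrete 𝒮ᵒᵖ} (f : a ⟶ b) (g : b ⟶ c) (z : F.toPseudofunctor'.obj a) :
    ∃ pf : (F.toPseudofunctor'.map f ≫ F.toPseudofunctor'.map g).toFunctor.obj z =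
        (F.toPseudofunctor'.map (f ≫ g)).toFunctor.obj z,
      (F.toPseudofunctor'.mapComp f g).inv.toNatTrans.app z = eqToHom pf := by
  have h0 : F.toPseudofunctor'.map (f ≫ g) =
      F.toPseudofunctor'.map f ≫ F.toPseudofunctor'.map g := by
    obtain ⟨f⟩ := f
    obtain ⟨g⟩ := g
    exact F.map_comp f g
  refine ⟨congrArg (fun H => H.toFunctor.obj z) h0.symm, ?_⟩
  rw [Functor.toPseudofunctor'_mapComp, eqToIso.inv, Cat.eqToHom_app]

end generic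

variable {𝒮 : Type u₁} [Category.{v₁} 𝒮] {𝒳 : Type u₂} [Category.{v₂} 𝒳]
  {p : 𝒳 ⥤ 𝒮} (K : FibCat.Cleavage p) (hK : K.IsSplitting)

include hK in
lemma inverseImage_id (S : 𝒮) : K.inverseImage (𝟙 S) = 𝟭 (p.Fiber S) := by
  have hobj : ∀ a : p.Fiber S, (K.inverseImage (𝟙 S)).obj a = (𝟭 (p.Fiber S)).obj a := by
    intro a
    obtain ⟨h, _⟩ := hK.1 a.2
    exact Subtype.ext h
  refine CategoryTheory.Functor.ext hobj ?_
  intro a b φ
  apply Fiber.hom_ext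
  obtain ⟨ha, hla⟩ := hK.1 a.2
  obtain ⟨hb, hlb⟩ := hK.1 b.2
  rw [FibCat.Cleavage.inverseImage_map]
  symm
  apply IsCartesian.map_uniq
  simp only [Functor.map_comp, eqToHom_map, Functor.id_map, Category.assoc]
  show eqToHom ha ≫ Fiber.fiberInclusion.map φ ≫ eqToHom hb.symm ≫ K.lift b.2 (𝟙 S) =
    K.lift a.2 (𝟙 S) ≫ Fiber.fiberInclusion.map φ
  rw [hla, hlb]
  simp

include hK in
lemma inverseImage_comp {S T U : 𝒮} (f : T ⟶ S) (g : U ⟶ T) :
    K.inverseImage (g ≫ f) = K.inverseImage f ⋙ K.inverseImage g := by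
  have hobj : ∀ a : p.Fiber S,
      (K.inverseImage (g ≫ f)).obj a = (K.inverseImage f ⋙ K.inverseImage g).obj a := by
    intro a
    obtain ⟨h, _⟩ := hK.2 f g a.2
    exact Subtype.ext h.symm
  refine CategoryTheory.Functor.ext hobj ?_
  intro a b φ
  apply Fiber.hom_ext
  obtain ⟨ha, hla⟩ := hK.2 f g a.2
  obtain ⟨hb, hlb⟩ := hK.2 f g b.2
  have e1 : Fiber.fiberInclusion.map ((K.inverseImage g).map ((K.inverseImage f).map φ)) ≫
      K.lift (K.obj_proj b.2 f) g =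
      K.lift (K.obj_proj a.2 f) g ≫ Fiber.fiberInclusion.map ((K.inverseImage f).map φ) := by
    rw [FibCat.Cleavage.inverseImage_map]
    exact IsCartesian.fac _ _ _ _
  have e2 : Fiber.fiberInclusion.map ((K.inverseImage f).map φ) ≫ K.lift b.2 f =
      K.lift a.2 f ≫ Fiber.fiberInclusion.map φ := by
    rw [FibCat.Cleavage.inverseImage_map]
    exact IsCartesian.fac _ _ _ _
  rw [FibCat.Cleavage.inverseImage_map]
  symm
  apply IsCartesian.map_uniq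
  simp only [Functor.map_comp, eqToHom_map, Functor.comp_map, Category.assoc]
  show eqToHom ha.symm ≫
      Fiber.fiberInclusion.map ((K.inverseImage g).map ((K.inverseImage f).map φ)) ≫
      eqToHom hb ≫ K.lift b.2 (g ≫ f) = K.lift a.2 (g ≫ f) ≫ Fiber.fiberInclusion.map φ
  rw [← hlb, reassoc_of% e1, e2, reassoc_of% hla]
  simp

/-- The strict functor of fibre categories attached to a splitting. -/
def splitF : 𝒮ᵒᵖ ⥤ Cat.{v₂, u₂} where
  obj X := Cat.of (p.Fiber X.unop)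
  map {X Y} f := (K.inverseImage f.unop).toCatHom
  map_id X := by
    show (K.inverseImage (𝟙 X.unop)).toCatHom = 𝟙 _
    rw [inverseImage_id K hK]
    rfl
  map_comp {X Y Z} f g := by
    show (K.inverseImage (g.unop ≫ f.unop)).toCatHom = _
    rw [inverseImage_comp K hK]
    rfl

/-- the pseudofunctor -/
abbrev GG : Pseudofunctor (LocallyDiscrete 𝒮ᵒᵖ) Cat.{v₂, u₂} :=
  (splitF K hK).toPseudofunctor'

/-- identity cast -/
def toFib {S : 𝒮} (x : (GG K hK).obj ⟨op S⟩) : p.Fiber S := x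

/-- the underlying morphism of a morphism in a fibre -/
def homVal {S : 𝒮} {x y : (GG K hK).obj ⟨op S⟩} (α : x ⟶ y) :
    (toFib K hK x).1 ⟶ (toFib K hK y).1 :=
  Fiber.fiberInclusion.map (show toFib K hK x ⟶ toFib K hK y from α)

instance homVal_isHomLift {S : 𝒮} {x y : (GG K hK).obj ⟨op S⟩} (α : x ⟶ y) :
    p.IsHomLift (𝟙 S) (homVal K hK α) :=
  (show toFib K hK x ⟶ toFib K hK y from α).2

lemma homVal_comp {S : 𝒮} {x y z : (GG K hK).obj ⟨op S⟩} (α : x ⟶ y) (β : y ⟶ z) :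
    homVal K hK (α ≫ β) = homVal K hK α ≫ homVal K hK β := rfl

lemma homVal_eqToHom {S : 𝒮} {x y : (GG K hK).obj ⟨op S⟩} (e : x = y) :
    homVal K hK (eqToHom e) = eqToHom (congrArg (fun t => (toFib K hK t).1) e) := by
  subst e; rfl

lemma homVal_ext {S : 𝒮} {x y : (GG K hK).obj ⟨op S⟩} {α β : x ⟶ y}
    (h : homVal K hK α = homVal K hK β) : α = β :=
  Subtype.ext h

lemma homVal_Gmap {R S : 𝒮} (f : R ⟶ S) {y y' : (GG K hK).obj ⟨op S⟩} (β : y ⟶ y') :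
    homVal K hK (((GG K hK).map f.op.toLoc).toFunctor.map β) =
      IsCartesian.map p f (K.lift (toFib K hK y').2 f)
        (K.lift (toFib K hK y).2 f ≫ homVal K hK β) := rfl

/-- object part of `Ψ` -/
def Ψobj (x : Pseudofunctor.CoGrothendieck (GG K hK)) : 𝒳 := (toFib K hK x.fiber).1

/-- morphism part of `Ψ` -/
def Ψmap {x y : Pseudofunctor.CoGrothendieck (GG K hK)} (m : x ⟶ y) : Ψobj K hK x ⟶ Ψobj K hK y :=
  homVal K hK m.fiber ≫ K.lift (toFib K hK y.fiber).2 m.base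

lemma Ψmap_id (x : Pseudofunctor.CoGrothendieck (GG K hK)) : Ψmap K hK (𝟙 x) = 𝟙 (Ψobj K hK x) := by
  obtain ⟨pf, hfib⟩ := Groth.Agent.Lib.Split19866.id_fiber_eq (splitF K hK) x
  obtain ⟨h, hl⟩ := hK.1 (toFib K hK x.fiber).2
  show homVal K hK (𝟙 x : x ⟶ x).fiber ≫ K.lift (toFib K hK x.fiber).2 (𝟙 x.base) = 𝟙 _
  rw [hfib, hl, homVal_eqToHom]
  simp

lemma Ψmap_comp {x y z : Pseudofunctor.CoGrothendieck (GG K hK)} (m₁ : x ⟶ y) (m₂ : y ⟶ z) :
    Ψmap K hK (m₁ ≫ m₂) = Ψmap K hK m₁ ≫ Ψmap K hK m₂ := by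
  obtain ⟨h, hl⟩ := hK.2 m₂.base m₁.base (toFib K hK z.fiber).2
  obtain ⟨pf, hmc⟩ := mapComp_inv_app' (splitF K hK) m₂.base.op.toLoc m₁.base.op.toLoc z.fiber
  show homVal K hK (m₁.fiber ≫ ((GG K hK).map m₁.base.op.toLoc).toFunctor.map m₂.fiber ≫
        ((GG K hK).mapComp m₂.base.op.toLoc m₁.base.op.toLoc).inv.toNatTrans.app z.fiber) ≫
      K.lift (toFib K hK z.fiber).2 (m₁.base ≫ m₂.base) =
    (homVal K hK m₁.fiber ≫ K.lift (toFib K hK y.fiber).2 m₁.base) ≫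
      (homVal K hK m₂.fiber ≫ K.lift (toFib K hK z.fiber).2 m₂.base)
  rw [hmc, homVal_comp, homVal_comp, homVal_eqToHom, homVal_Gmap]
  simp only [Category.assoc]
  show homVal K hK m₁.fiber ≫
      IsCartesian.map p m₁.base (K.lift (K.obj_proj (toFib K hK z.fiber).2 m₂.base) m₁.base)
        (K.lift (toFib K hK y.fiber).2 m₁.base ≫ homVal K hK m₂.fiber) ≫
      eqToHom h ≫ K.lift (toFib K hK z.fiber).2 (m₁.base ≫ m₂.base) = _
  rw [← hl, IsCartesian.fac_assoc]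
  simp only [Category.assoc]

lemma Ψmap_injective {x y : Pseudofunctor.CoGrothendieck (GG K hK)} (m m' : x ⟶ y)
    (h : Ψmap K hK m = Ψmap K hK m') : m = m' := by
  obtain ⟨f, α⟩ := m
  obtain ⟨f', α'⟩ := m'
  have hl1 : p.IsHomLift f (Ψmap K hK (⟨f, α⟩ : x ⟶ y)) := by
    show p.IsHomLift f (homVal K hK α ≫ K.lift (toFib K hK y.fiber).2 f)
    infer_instance
  have hl2 : p.IsHomLift f' (Ψmap K hK (⟨f', α'⟩ : x ⟶ y)) := by
    show p.IsHomLift f' (homVal K hK α' ≫ K.lift (toFib K hK y.fiber).2 f')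
    infer_instance
  rw [h] at hl1
  have hf : f = f' := @isHomLift_unique _ _ _ _ p _ _ _ _ f f' _ hl1 hl2
  subst hf
  have hα : α = α' := by
    apply homVal_ext K hK
    exact IsCartesian.ext p f (K.lift (toFib K hK y.fiber).2 f) _ _ h
  rw [hα]

lemma Ψobj_injective : Function.Injective (Ψobj K hK) := by
  intro x y h
  obtain ⟨S, xf⟩ := x
  obtain ⟨S', yf⟩ := y
  change (toFib K hK xf).1 = (toFib K hK yf).1 at h
  have hS : S = S' :=
    (toFib K hK xf).2.symm.trans ((congrArg p.obj h).trans (toFib K hK yf).2)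
  subst hS
  have hxy : xf = yf := (Subtype.ext h : toFib K hK xf = toFib K hK yf)
  rw [hxy]

/-- object part of `Φ` -/
def Φobj (a : 𝒳) : Pseudofunctor.CoGrothendieck (GG K hK) :=
  ⟨p.obj a, (Fiber.mk (rfl : p.obj a = p.obj a) : p.Fiber (p.obj a))⟩

/-- morphism part of `Φ` -/
def Φmap {a b : 𝒳} (φ : a ⟶ b) : Φobj K hK a ⟶ Φobj K hK b :=
  ⟨p.map φ, (show (Fiber.mk (rfl : p.obj a = p.obj a) : p.Fiber (p.obj a)) ⟶
      (K.inverseImage (p.map φ)).obj (Fiber.mk (rfl : p.obj b = p.obj b)) from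
    Fiber.homMk p (p.obj a) (IsCartesian.map p (p.map φ) (K.lift rfl (p.map φ)) φ))⟩

lemma Ψmap_Φmap {a b : 𝒳} (φ : a ⟶ b) : Ψmap K hK (Φmap K hK φ) = φ := by
  show IsCartesian.map p (p.map φ) (K.lift rfl (p.map φ)) φ ≫ K.lift rfl (p.map φ) = φ
  exact IsCartesian.fac _ _ _ _

/-- The functor `Ψ : ∫ᶜ F ⥤ 𝒳`. -/
def ΨF : Pseudofunctor.CoGrothendieck (GG K hK) ⥤ 𝒳 where
  obj := Ψobj K hK
  map := Ψmap K hK
  map_id := Ψmap_id K hK
  map_comp := Ψmap_comp K hK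

/-- The functor `Φ : 𝒳 ⥤ ∫ᶜ F`. -/
def ΦF : 𝒳 ⥤ Pseudofunctor.CoGrothendieck (GG K hK) where
  obj := Φobj K hK
  map := Φmap K hK
  map_id a := by
    apply Ψmap_injective K hK
    rw [Ψmap_Φmap, Ψmap_id]
    rfl
  map_comp φ ψ := by
    apply Ψmap_injective K hK
    rw [Ψmap_Φmap, Ψmap_comp, Ψmap_Φmap, Ψmap_Φmap]

theorem main12900 (p : 𝒳 ⥤ 𝒮) [p.IsFibered] (K : FibCat.Cleavage p) (hK : K.IsSplitting) :
    ∃ (F : 𝒮ᵒᵖ ⥤ Cat.{v₂, u₂})
      (Φ : 𝒳 ⥤ Pseudofunctor.CoGrothendieck F.toPseudofunctor')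
      (Ψ : Pseudofunctor.CoGrothendieck F.toPseudofunctor' ⥤ 𝒳),
      Φ ⋙ Ψ = 𝟭 𝒳 ∧ Ψ ⋙ Φ = 𝟭 _ ∧
        Φ ⋙ Pseudofunctor.CoGrothendieck.forget F.toPseudofunctor' = p := by
  have h₁ : ΦF K hK ⋙ ΨF K hK = 𝟭 𝒳 := by
    refine CategoryTheory.Functor.ext (fun a => rfl) ?_
    intro a b φ
    simp only [eqToHom_refl, Category.id_comp, Category.comp_id, Functor.id_map]
    exact Ψmap_Φmap K hK φ
  refine ⟨splitF K hK, ΦF K hK, ΨF K hK, h₁, ?_, ?_⟩
  · exact comp_eq_id_of_injective _ _ h₁ (Ψobj_injective K hK)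
      (fun m m' h => Ψmap_injective K hK m m' h)
  · rfl

end

end Groth.Agent.Lib.Split12900
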