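import Mathlib
import Groth.Prelude.Def_FibCat2
import Groth.Prelude.Def_FibClv
import Groth.Agent.Lib.Split12900_lead
import Groth.Agent.Lib.FibCat3_helper6

set_option autoImplicit false
set_option linter.unusedSimpArgs false
set_option linter.unusedVariables false
set_option linter.unusedSectionVars false
set_option linter.style.longLine false
set_option linter.unnecessarySimpa false
set_option linter.style.haveILetI false
set_option maxHeartbeats 1600000
set_option backward.isDefEq.respectTransparency false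
set_option backward.isDefEq.respectTransparency.types false
set_option backward.defeqAttrib.useBackward true

universe v₁ v₂ u₁ u₂ v u

open CategoryTheory CategoryTheory.Functor Opposite

namespace Groth.Agent.Lib.Split6431

noncomputable section

section generic

variable {𝒮 : Type u₁} [Category.{v₁} 𝒮] {𝒳 : Type u₂} [Category.{v₂} 𝒳]
  {p : 𝒳 ⥤ 𝒮} (K : FibCat.Cleavage p) (hK : K.IsSplitting)

open Groth.Agent.Lib.Split12900

lemma ΦΨ_eq : ΦF K hK ⋙ ΨF K hK = 𝟭 𝒳 := by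
  refine CategoryTheory.Functor.ext (fun a => rfl) ?_
  intro a b φ
  simp only [eqToHom_refl, Category.id_comp, Category.comp_id, Functor.id_map]
  exact Ψmap_Φmap K hK φ

lemma ΨΦ_eq : ΨF K hK ⋙ ΦF K hK = 𝟭 _ :=
  comp_eq_id_of_injective _ _ (ΦΨ_eq K hK) (Ψobj_injective K hK)
    (fun m m' h => Ψmap_injective K hK m m' h)

instance Φ_isEquivalence : (ΦF K hK).IsEquivalence :=
  Functor.IsEquivalence.mk' (ΨF K hK) (eqToIso (ΦΨ_eq K hK).symm) (eqToIso (ΨΦ_eq K hK))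

lemma lift_congr' {R : 𝒮} {a : 𝒳} {f f' : R ⟶ p.obj a} (h : f = f') :
    K.lift (rfl : p.obj a = p.obj a) f =
      eqToHom (by rw [h]) ≫ K.lift (rfl : p.obj a = p.obj a) f' := by
  subst h; simp

end generic

variable {C : Type u} [Category.{v} C] {𝒳 : Type (max u v)} [Category.{v} 𝒳] {p : 𝒳 ⥤ C}

/-- objects of the split model of a cloven fibred category -/
structure W (K : FibCat.Cleavage p) where
  /-- underlying object -/
  a : 𝒳
  /-- base object -/
  U : C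
  /-- structure morphism -/
  f : U ⟶ p.obj a

namespace W

variable {K : FibCat.Cleavage p}

/-- total object -/
def tot (X : W K) : 𝒳 := K.obj (rfl : p.obj X.a = p.obj X.a) X.f

lemma tot_proj (X : W K) : p.obj X.tot = X.U := K.obj_proj rfl X.f

/-- the chosen cartesian arrow -/
def ε (X : W K) : X.tot ⟶ X.a := K.lift (rfl : p.obj X.a = p.obj X.a) X.f

instance ε_isCartesian (X : W K) : p.IsCartesian X.f X.ε := K.isCartesian rfl X.f

/-- morphisms of the split model -/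
@[ext]
structure Hom (X Y : W K) where
  /-- underlying morphism -/
  hom : X.tot ⟶ Y.tot

instance : Category (W K) where
  Hom X Y := Hom X Y
  id X := ⟨𝟙 X.tot⟩
  comp φ ψ := ⟨φ.hom ≫ ψ.hom⟩
  id_comp φ := Hom.ext (Category.id_comp _)
  comp_id φ := Hom.ext (Category.comp_id _)
  assoc φ ψ χ := Hom.ext (Category.assoc _ _ _)

@[simp] lemma id_hom (X : W K) : (𝟙 X : X ⟶ X).hom = 𝟙 X.tot := rfl

@[simp] lemma comp_hom {X Y Z : W K} (φ : X ⟶ Y) (ψ : Y ⟶ Z) :
    (φ ≫ ψ).hom = φ.hom ≫ ψ.hom := rfl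

lemma eqToHom_hom {X Y : W K} (h : X = Y) :
    (eqToHom h : X ⟶ Y).hom = eqToHom (congrArg tot h) := by
  subst h; rfl

end W

variable (K : FibCat.Cleavage p)

/-- the projection of the split model -/
def pW : W K ⥤ C where
  obj X := X.U
  map {X Y} φ := eqToHom X.tot_proj.symm ≫ p.map φ.hom ≫ eqToHom Y.tot_proj
  map_id X := by simp
  map_comp φ ψ := by simp

lemma isHomLift_iff {R S : C} (g : R ⟶ S) {X Y : W K} (φ : X ⟶ Y) :
    (pW K).IsHomLift g φ ↔ p.IsHomLift g φ.hom := by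
  constructor
  · intro h
    obtain ⟨⟩ := h
    exact IsHomLift.of_fac p _ _ X.tot_proj Y.tot_proj rfl
  · intro h
    obtain ⟨⟩ := h
    exact IsHomLift.of_fac' (pW K) _ φ X.tot_proj.symm Y.tot_proj.symm rfl

lemma isCartesian_of_hom {R S : C} (g : R ⟶ S) {X Y : W K} (φ : X ⟶ Y)
    [p.IsCartesian g φ.hom] : (pW K).IsCartesian g φ := by
  haveI h0 : (pW K).IsHomLift g φ := (isHomLift_iff K g φ).2 inferInstance
  refine { universal_property := ?_ }
  intro X' φ' hφ'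
  haveI : p.IsHomLift g φ'.hom := (isHomLift_iff K g φ').1 hφ'
  refine ⟨W.Hom.mk (IsCartesian.map p g φ.hom φ'.hom), ⟨?_, ?_⟩, ?_⟩
  · exact (isHomLift_iff K (𝟙 R) _).2 (IsCartesian.map_isHomLift p g φ.hom φ'.hom)
  · apply W.Hom.ext
    exact IsCartesian.fac p g φ.hom φ'.hom
  · rintro χ ⟨hχ, hχ'⟩
    haveI : p.IsHomLift (𝟙 R) χ.hom := (isHomLift_iff K (𝟙 R) χ).1 hχ
    apply W.Hom.ext
    exact IsCartesian.map_uniq p g φ.hom φ'.hom χ.hom (congrArg W.Hom.hom hχ')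

lemma map_ε (X : W K) : p.map X.ε = eqToHom X.tot_proj ≫ X.f := by
  have := IsHomLift.fac' p X.f X.ε
  simpa using this

/-- the pulled back object -/
abbrev pb (X : W K) {R : C} (g : R ⟶ X.U) : W K := ⟨X.a, R, g ≫ X.f⟩

lemma pb_pb (X : W K) {T U' : C} (f : T ⟶ X.U) (g : U' ⟶ T) (k : U' ⟶ X.U) (hk : k = g ≫ f) :
    pb K (pb K X f) g = pb K X k := by
  subst hk
  show (⟨X.a, U', g ≫ f ≫ X.f⟩ : W K) = ⟨X.a, U', (g ≫ f) ≫ X.f⟩
  rw [Category.assoc]

section fibered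

variable [p.IsFibered]

/-- the chosen lift in the split model -/
def liftW (X : W K) {R : C} (g : R ⟶ X.U) : pb K X g ⟶ X :=
  W.Hom.mk (IsStronglyCartesian.map p X.f X.ε (rfl : g ≫ X.f = g ≫ X.f)
    (K.lift (rfl : p.obj X.a = p.obj X.a) (g ≫ X.f)))

lemma liftW_hom_fac (X : W K) {R : C} (g : R ⟶ X.U) :
    (liftW K X g).hom ≫ X.ε = K.lift (rfl : p.obj X.a = p.obj X.a) (g ≫ X.f) :=
  IsStronglyCartesian.fac p X.f X.ε (rfl : g ≫ X.f = g ≫ X.f)
    (K.lift (rfl : p.obj X.a = p.obj X.a) (g ≫ X.f))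

instance liftW_hom_isHomLift (X : W K) {R : C} (g : R ⟶ X.U) :
    p.IsHomLift g (liftW K X g).hom :=
  IsStronglyCartesian.map_isHomLift p X.f X.ε (rfl : g ≫ X.f = g ≫ X.f)
    (K.lift (rfl : p.obj X.a = p.obj X.a) (g ≫ X.f))

lemma liftW_hom_isStronglyCartesian (X : W K) {R : C} (g : R ⟶ X.U) :
    p.IsStronglyCartesian g (liftW K X g).hom := by
  haveI : p.IsStronglyCartesian (g ≫ X.f) ((liftW K X g).hom ≫ X.ε) := by
    rw [liftW_hom_fac]
    infer_instance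
  exact IsStronglyCartesian.of_comp p (g := X.f) (ψ := X.ε)

instance liftW_isCartesian (X : W K) {R : C} (g : R ⟶ X.U) :
    (pW K).IsCartesian g (liftW K X g) := by
  haveI := liftW_hom_isStronglyCartesian K X g
  exact isCartesian_of_hom K g (liftW K X g)

lemma liftW_id (X : W K) (g : X.U ⟶ X.U) (hg : g = 𝟙 X.U) :
    ∃ h : pb K X g = X, liftW K X g = eqToHom h := by
  subst hg
  have h : pb K X (𝟙 X.U) = X := by
    show (⟨X.a, X.U, 𝟙 X.U ≫ X.f⟩ : W K) = ⟨X.a, X.U, X.f⟩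
    rw [Category.id_comp]
  refine ⟨h, ?_⟩
  apply W.Hom.ext
  rw [W.eqToHom_hom]
  haveI : p.IsHomLift (𝟙 X.U) (eqToHom (congrArg W.tot h)) :=
    IsHomLift.eqToHom_codomain_lift_id _ X.tot_proj
  apply IsStronglyCartesian.ext p X.f X.ε (𝟙 X.U)
  rw [liftW_hom_fac]
  exact lift_congr' K (Category.id_comp X.f)

lemma liftW_comp (X : W K) {T U' : C} (f : T ⟶ X.U) (g : U' ⟶ T) (k : U' ⟶ X.U)
    (hk : k = g ≫ f) (h : pb K (pb K X f) g = pb K X k) :
    liftW K (pb K X f) g ≫ liftW K X f = eqToHom h ≫ liftW K X k := by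
  subst hk
  apply W.Hom.ext
  simp only [W.comp_hom, W.eqToHom_hom]
  have e1 : (liftW K X f).hom ≫ X.ε = (pb K X f).ε := liftW_hom_fac K X f
  have e2 : (liftW K (pb K X f) g).hom ≫ (pb K X f).ε =
      K.lift (rfl : p.obj X.a = p.obj X.a) (g ≫ f ≫ X.f) := liftW_hom_fac K (pb K X f) g
  have e3 : (liftW K X (g ≫ f)).hom ≫ X.ε =
      K.lift (rfl : p.obj X.a = p.obj X.a) ((g ≫ f) ≫ X.f) := liftW_hom_fac K X (g ≫ f)
  have e4 : K.lift (rfl : p.obj X.a = p.obj X.a) (g ≫ f ≫ X.f) =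
      eqToHom (congrArg W.tot h) ≫ K.lift (rfl : p.obj X.a = p.obj X.a) ((g ≫ f) ≫ X.f) :=
    lift_congr' K (Category.assoc g f X.f).symm
  haveI i1 : p.IsHomLift g (liftW K (pb K X f) g).hom := liftW_hom_isHomLift K (pb K X f) g
  haveI i2 : p.IsHomLift f (liftW K X f).hom := liftW_hom_isHomLift K X f
  haveI i3 : p.IsHomLift (g ≫ f) ((liftW K (pb K X f) g).hom ≫ (liftW K X f).hom) :=
    IsHomLift.comp p g f _ _
  apply IsStronglyCartesian.ext p X.f X.ε (g ≫ f)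
  calc ((liftW K (pb K X f) g).hom ≫ (liftW K X f).hom) ≫ X.ε
      = (liftW K (pb K X f) g).hom ≫ ((liftW K X f).hom ≫ X.ε) := Category.assoc _ _ _
    _ = (liftW K (pb K X f) g).hom ≫ (pb K X f).ε :=
        congrArg (fun t => (liftW K (pb K X f) g).hom ≫ t) e1
    _ = K.lift (rfl : p.obj X.a = p.obj X.a) (g ≫ f ≫ X.f) := e2
    _ = eqToHom (congrArg W.tot h) ≫ K.lift (rfl : p.obj X.a = p.obj X.a) ((g ≫ f) ≫ X.f) := e4
    _ = eqToHom (congrArg W.tot h) ≫ ((liftW K X (g ≫ f)).hom ≫ X.ε) :=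
        congrArg (fun t => eqToHom (congrArg W.tot h) ≫ t) e3.symm
    _ = (eqToHom (congrArg W.tot h) ≫ (liftW K X (g ≫ f)).hom) ≫ X.ε :=
        (Category.assoc _ _ _).symm

/-- the splitting cleavage of the split model -/
def K' : FibCat.Cleavage (pW K) where
  obj {R S X} hX g := pb K X (g ≫ eqToHom (show S = X.U from hX.symm))
  lift {R S X} hX g := liftW K X (g ≫ eqToHom (show S = X.U from hX.symm))
  isCartesian {R S X} hX g :=
    FibCat.Cleavage.isCartesian_of_comp_eqToHom (p := pW K) g (show S = X.U from hX.symm) _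

lemma hK' : (K' K).IsSplitting := by
  refine ⟨?_, ?_⟩
  · intro S X hX
    have hX' : X.U = S := hX
    subst hX'
    exact liftW_id K X _ (by simp)
  · intro S T U' f g X hX
    have hX' : X.U = S := hX
    subst hX'
    have hk : (g ≫ f) ≫ eqToHom (rfl : X.U = X.U) =
        (g ≫ eqToHom (rfl : T = T)) ≫ f ≫ eqToHom (rfl : X.U = X.U) := by simp
    exact ⟨pb_pb K X _ _ _ hk, liftW_comp K X _ _ _ hk _⟩

/-- the unit object -/
abbrev Jobj (a : 𝒳) : W K := ⟨a, p.obj a, 𝟙 (p.obj a)⟩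

instance Jobj_ε_isIso (a : 𝒳) : IsIso (Jobj K a).ε := by
  haveI : p.IsCartesian (𝟙 (p.obj a)) (Jobj K a).ε := W.ε_isCartesian (Jobj K a)
  haveI : p.IsStronglyCartesian (𝟙 (p.obj a)) (Jobj K a).ε := inferInstance
  exact IsStronglyCartesian.isIso_of_base_isIso p (𝟙 (p.obj a)) (Jobj K a).ε

lemma map_εJ (a : 𝒳) : p.map (Jobj K a).ε = eqToHom (Jobj K a).tot_proj := by
  rw [map_ε K (Jobj K a)]
  exact Category.comp_id _

/-- the comparison functor -/
def J : 𝒳 ⥤ W K where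
  obj a := Jobj K a
  map {a b} φ := W.Hom.mk ((Jobj K a).ε ≫ φ ≫ inv (Jobj K b).ε)
  map_id a := by apply W.Hom.ext; simp
  map_comp φ ψ := by apply W.Hom.ext; simp

/-- `J` is fully faithful -/
def Jff : (J K).FullyFaithful where
  preimage {a b} χ := inv (Jobj K a).ε ≫ χ.hom ≫ (Jobj K b).ε
  map_preimage χ := by apply W.Hom.ext; simp [J]
  preimage_map φ := by simp [J]

/-- every object is isomorphic to one in the image of `J` -/
def Jiso (X : W K) : (J K).obj X.tot ≅ X where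
  hom := W.Hom.mk (Jobj K X.tot).ε
  inv := W.Hom.mk (inv (Jobj K X.tot).ε)
  hom_inv_id := by apply W.Hom.ext; simp
  inv_hom_id := by apply W.Hom.ext; simp

instance J_isEquivalence : (J K).IsEquivalence where
  faithful := (Jff K).faithful
  full := (Jff K).full
  essSurj := ⟨fun X => ⟨X.tot, ⟨Jiso K X⟩⟩⟩

lemma J_comp_pW : J K ⋙ pW K = p := by
  refine CategoryTheory.Functor.ext (fun a => rfl) ?_
  intro a b φ
  show eqToHom (Jobj K a).tot_proj.symm ≫ p.map ((Jobj K a).ε ≫ φ ≫ inv (Jobj K b).ε) ≫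
    eqToHom (Jobj K b).tot_proj = _
  simp [map_εJ, Functor.map_inv]

end fibered

lemma fiber_isGroupoid (h : FibCat.IsFibGrpd p) (S : C) : IsGroupoid ((pW K).Fiber S) := by
  refine ⟨fun {X Y} ψ => ?_⟩
  have h1 : (pW K).IsHomLift (𝟙 S) ψ.1 := ψ.2
  haveI h2 : p.IsHomLift (𝟙 S) ψ.1.hom := (isHomLift_iff K _ _).1 h1
  haveI : IsIso ψ.1.hom :=
    Groth.Agent.Lib.FibCat_helper6.isIso_of_isFibGrpd_id h (R := S) ψ.1.hom
  have h3 : p.IsHomLift (𝟙 S) (inv ψ.1.hom) := inferInstance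
  have h4 : (pW K).IsHomLift (𝟙 S) (W.Hom.mk (inv ψ.1.hom) : Y.1 ⟶ X.1) :=
    (isHomLift_iff K _ _).2 h3
  refine ⟨⟨⟨W.Hom.mk (inv ψ.1.hom), h4⟩, ?_, ?_⟩⟩
  · apply Subtype.ext
    apply W.Hom.ext
    exact IsIso.hom_inv_id ψ.1.hom
  · apply Subtype.ext
    apply W.Hom.ext
    exact IsIso.inv_hom_id ψ.1.hom

theorem main_aux (𝒴 : BasedCategory.{v, max u v} C) [𝒴.p.IsFibered] (K : FibCat.Cleavage 𝒴.p) :
    ∃ E : 𝒴 ⥤ᵇ BasedCategory.ofFunctor (Pseudofunctor.CoGrothendieck.forget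
        (Groth.Agent.Lib.Split12900.splitF (K' K) (hK' K)).toPseudofunctor'),
      FibCat.IsEquivOver E := by
  have hw : (J K ⋙ Groth.Agent.Lib.Split12900.ΦF (K' K) (hK' K)) ⋙
      Pseudofunctor.CoGrothendieck.forget
        (Groth.Agent.Lib.Split12900.splitF (K' K) (hK' K)).toPseudofunctor' = 𝒴.p :=
    (show _ = J K ⋙ pW K from rfl).trans (J_comp_pW K)
  let E : 𝒴 ⥤ᵇ BasedCategory.ofFunctor (Pseudofunctor.CoGrothendieck.forget
      (Groth.Agent.Lib.Split12900.splitF (K' K) (hK' K)).toPseudofunctor') :=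
    { toFunctor := J K ⋙ Groth.Agent.Lib.Split12900.ΦF (K' K) (hK' K)
      w := hw }
  haveI : E.toFunctor.IsEquivalence := by
    show (J K ⋙ Groth.Agent.Lib.Split12900.ΦF (K' K) (hK' K)).IsEquivalence
    infer_instance
  exact ⟨E, Groth.Agent.Lib.FibCat3_helper6.isEquivOver_of_isEquivalence E⟩

theorem main6431 (𝒴 : BasedCategory.{v, max u v} C) [𝒴.p.IsFibered] :
    ∃ (F : Cᵒᵖ ⥤ Cat.{v, max u v}) (E : 𝒴 ⥤ᵇ BasedCategory.ofFunctor
        (Pseudofunctor.CoGrothendieck.forget F.toPseudofunctor')), FibCat.IsEquivOver E := by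
  obtain ⟨E, hE⟩ := main_aux 𝒴 (FibCat.Cleavage.ofIsPreFibered 𝒴.p)
  exact ⟨_, E, hE⟩

theorem main6432 (𝒴 : BasedCategory.{v, max u v} C) (h𝒴 : FibCat.IsFibGrpd 𝒴.p) :
    ∃ (F : Cᵒᵖ ⥤ Cat.{v, max u v}) (_ : ∀ U : Cᵒᵖ, IsGroupoid (F.obj U))
      (E : 𝒴 ⥤ᵇ BasedCategory.ofFunctor
        (Pseudofunctor.CoGrothendieck.forget F.toPseudofunctor')), FibCat.IsEquivOver E := by
  haveI : 𝒴.p.IsFibered := Groth.Agent.Lib.FibCat_helper6.isFibered_of_isFibGrpd h𝒴
  obtain ⟨E, hE⟩ := main_aux 𝒴 (FibCat.Cleavage.ofIsPreFibered 𝒴.p)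
  refine ⟨_, ?_, E, hE⟩
  intro U
  exact fiber_isGroupoid (FibCat.Cleavage.ofIsPreFibered 𝒴.p) h𝒴 U.unop

end

end Groth.Agent.Lib.Split6431
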