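import Mathlib

/-!
# Acyclic bounded-below complexes of projectives are contractible; splitting quasi-isomorphic
subcomplexes (helper2)
-/

open CategoryTheory Limits HomologicalComplex
open scoped ZeroObject

namespace SplitAcyclicH2

universe v

section Core

variable {C : Type*} [Category C] [Abelian C]

/-- An acyclic ℕ-indexed chain complex with projective terms, as a projective resolution of `0`. -/
noncomputable def resZero (K : ChainComplex C ℕ) (hK : K.Acyclic)
    [∀ n, Projective (K.X n)] : ProjectiveResolution (0 : C) :=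
  { complex := K
    π := 0
    quasiIso := by
      have hz : IsZero ((ChainComplex.single₀ C).obj (0 : C)) :=
        Functor.map_isZero _ (isZero_zero C)
      rw [quasiIso_iff]
      intro i
      rw [quasiIsoAt_iff_exactAt _ _ (hK i)]
      exact acyclic_of_isZero _ hz i }

/-- An acyclic ℕ-indexed chain complex with projective terms is contractible. -/
noncomputable def contraction (K : ChainComplex C ℕ) (hK : K.Acyclic)
    [∀ n, Projective (K.X n)] : Homotopy (𝟙 K) 0 :=
  ProjectiveResolution.liftHomotopyZero (P := resZero K hK) (Q := resZero K hK) (𝟙 K)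
    (by
      have h0 : (resZero K hK).π = 0 := rfl
      rw [h0, comp_zero])

theorem exists_section (S : ShortComplex (ChainComplex C ℕ)) (hS : S.ShortExact)
    [QuasiIso S.f] [∀ q, Projective (S.X₃.X q)] :
    ∃ (h : S.X₃ ⟶ S.X₂) (_ : Homotopy (𝟙 S.X₃) 0), h ≫ S.g = 𝟙 S.X₃ := by
  have hac : S.X₃.Acyclic := hS.acyclic_X₃ inferInstance
  let H := contraction S.X₃ hac
  haveI := hS.epi_g
  let σ : ∀ q, S.X₃.X q ⟶ S.X₂.X q := fun q => Projective.factorThru (𝟙 _) (S.g.f q)
  have hσ : ∀ q, σ q ≫ S.g.f q = 𝟙 _ := fun q => Projective.factorThru_comp _ _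
  refine ⟨Homotopy.nullHomotopicMap (fun i j => H.hom i j ≫ σ j), H, ?_⟩
  rw [Homotopy.nullHomotopicMap_comp]
  have : (fun i j => (H.hom i j ≫ σ j) ≫ S.g.f j) = H.hom := by
    funext i j
    rw [Category.assoc, hσ, Category.comp_id]
  rw [this]
  ext n
  have := H.comm n
  simp only [Homotopy.nullHomotopicMap]
  simpa using this.symm

/-- retraction from a section -/
theorem exists_retraction (S : ShortComplex (ChainComplex C ℕ)) (hS : S.ShortExact)
    [QuasiIso S.f] [∀ q, Projective (S.X₃.X q)] :
    ∃ g : S.X₂ ⟶ S.X₁, S.f ≫ g = 𝟙 S.X₁ := by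
  obtain ⟨h, _, hh⟩ := exists_section S hS
  haveI := hS.mono_f
  have hk : (𝟙 S.X₂ - S.g ≫ h) ≫ S.g = 0 := by
    rw [Preadditive.sub_comp, Category.id_comp, Category.assoc, hh, Category.comp_id, sub_self]
  refine ⟨hS.exact.lift (𝟙 S.X₂ - S.g ≫ h) hk, ?_⟩
  rw [← cancel_mono S.f, Category.assoc, ShortComplex.Exact.lift_f, Preadditive.comp_sub,
    Category.comp_id, ← Category.assoc, S.zero, zero_comp, sub_zero, Category.id_comp]

end Core

section Mod

open ModuleCat

variable (A' A : ChainComplex (ModuleCat.{v} ℤ) ℕ) (f : A' ⟶ A)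

/-- the cokernel short complex -/
noncomputable def cokerSC : ShortComplex (ChainComplex (ModuleCat.{v} ℤ) ℕ) :=
  ShortComplex.mk f (cokernel.π f) (cokernel.condition f)

theorem cokerSC_shortExact (hf : ∀ q, Function.Injective (f.f q).hom) :
    (cokerSC A' A f).ShortExact :=
  { exact := ShortComplex.exact_cokernel f
    mono_f := mono_of_mono_f f (fun q => (ModuleCat.mono_iff_injective _).mpr (hf q))
    epi_g := by dsimp [cokerSC]; infer_instance }

theorem cokerSC_projective
    (hq : ∀ q, Module.Free ℤ ((A.X q) ⧸ LinearMap.range (f.f q).hom)) (q : ℕ) :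
    Projective ((cokerSC A' A f).X₃.X q) := by
  haveI := hq q
  let e1 : (cokernel f).X q ≅ cokernel (f.f q) :=
    PreservesCokernel.iso (HomologicalComplex.eval _ _ q) f
  let e2 := ModuleCat.cokernelIsoRangeQuotient (f.f q)
  have hP : Projective (ModuleCat.of ℤ ((A.X q) ⧸ LinearMap.range (f.f q).hom)) :=
    inferInstance
  refine Projective.of_iso (e1 ≪≫ e2).symm ?_
  convert hP using 2
  exact Subsingleton.elim _ _

end Mod

end SplitAcyclicH2
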