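import Mathlib
import Groth.Prelude.Def_QuadGrp

/-! The product of the `1 - 2 e_{2i} e_{2i+1}` in the Clifford algebra of the split form of even
rank squares to one and anticommutes with the basis vectors. lead. -/

set_option autoImplicit false

namespace Groth.Agent.Lib.SplitCliff

open CliffordAlgebra

section Abstract

variable {A : Type*} [Ring A]

lemma f_idem {x y : A} (hx : x * x = 0) (hxy : x * y + y * x = 1) :
    x * y * (x * y) = x * y := by
  have hyx : y * x = 1 - x * y := eq_sub_of_add_eq' hxy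
  calc x * y * (x * y) = x * (y * x) * y := by simp only [mul_assoc]
    _ = x * (1 - x * y) * y := by rw [hyx]
    _ = x * y - (x * x) * y * y := by simp only [mul_sub, sub_mul, mul_one, mul_assoc]
    _ = x * y := by rw [hx, zero_mul, zero_mul, sub_zero]

lemma z_sq {f : A} (hf : f * f = f) : (1 - 2 * f) * (1 - 2 * f) = 1 := by
  simp only [two_mul, mul_sub, mul_add, sub_mul, add_mul, hf, one_mul, mul_one]
  abel

lemma rel_x {x y : A} (hx : x * x = 0) (hxy : x * y + y * x = 1) :
    x * (1 - 2 * (x * y)) = -((1 - 2 * (x * y)) * x) := by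
  have hyx : y * x = 1 - x * y := eq_sub_of_add_eq' hxy
  have hxf : x * (x * y) = 0 := by rw [← mul_assoc, hx, zero_mul]
  have hfx : x * y * x = x := by rw [mul_assoc, hyx, mul_sub, mul_one, hxf, sub_zero]
  simp only [two_mul, mul_sub, mul_add, sub_mul, add_mul, hxf, hfx, one_mul, mul_one]
  abel

lemma rel_y {x y : A} (hy : y * y = 0) (hxy : x * y + y * x = 1) :
    y * (1 - 2 * (x * y)) = -((1 - 2 * (x * y)) * y) := by
  have hyx : y * x = 1 - x * y := eq_sub_of_add_eq' hxy
  have hfy : x * y * y = 0 := by rw [mul_assoc, hy, mul_zero]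
  have hyf : y * (x * y) = y := by rw [← mul_assoc, hyx, sub_mul, one_mul, hfy, sub_zero]
  simp only [two_mul, mul_sub, mul_add, sub_mul, add_mul, hyf, hfy, one_mul, mul_one]
  abel

lemma one_sub_two_comm {z f : A} (h : z * f = f * z) : z * (1 - 2 * f) = (1 - 2 * f) * z := by
  simp only [two_mul, mul_sub, mul_add, sub_mul, add_mul, h, one_mul, mul_one]

lemma anti_prod {u x y : A} (h1 : u * x = -(x * u)) (h2 : u * y = -(y * u)) :
    u * (x * y) = x * y * u := by
  rw [← mul_assoc, h1, neg_mul, mul_assoc, h2, mul_neg, neg_neg, mul_assoc]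

lemma comm_prod {z x' y' : A} (hx' : x' * z = z * x') (hy' : y' * z = z * y') :
    z * (x' * y') = x' * y' * z := by
  rw [← mul_assoc, ← hx', mul_assoc, ← hy', mul_assoc]

lemma list_prod_sq {L : List A} (h1 : ∀ z ∈ L, z * z = 1)
    (h2 : L.Pairwise (fun a b => a * b = b * a)) : L.prod * L.prod = 1 := by
  induction L with
  | nil => simp
  | cons z L ih =>
    rw [List.pairwise_cons] at h2
    have hc : L.prod * z = z * L.prod := by
      have : Commute z L.prod := Commute.list_prod_right _ _ (fun b hb => h2.1 b hb)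
      exact this.eq.symm
    rw [List.prod_cons]
    calc z * L.prod * (z * L.prod) = z * (L.prod * z) * L.prod := by simp only [mul_assoc]
      _ = z * z * (L.prod * L.prod) := by rw [hc]; simp only [mul_assoc]
      _ = 1 := by
        rw [h1 z (by simp), ih (fun b hb => h1 b (List.mem_cons_of_mem _ hb)) h2.2, mul_one]

lemma list_anti {ι : Type*} [DecidableEq ι] (z : ι → A) (u : A) (a : ι)
    (ha : u * z a = -(z a * u)) (hb : ∀ b, b ≠ a → u * z b = z b * u) :
    ∀ I : List ι, I.Nodup →
      u * (I.map z).prod = if a ∈ I then -((I.map z).prod * u) else (I.map z).prod * u := by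
  intro I
  induction I with
  | nil => intro _; simp
  | cons i I ih =>
    intro hnd
    rw [List.nodup_cons] at hnd
    have ih' := ih hnd.2
    rw [List.map_cons, List.prod_cons]
    by_cases hia : i = a
    · subst hia
      have hni : i ∉ I := hnd.1
      rw [if_neg hni] at ih'
      rw [if_pos (by simp : i ∈ i :: I)]
      rw [← mul_assoc, ha, neg_mul, mul_assoc, ih', mul_assoc]
    · have hiff : (a ∈ i :: I) ↔ a ∈ I := by simp [Ne.symm hia]
      rw [← mul_assoc, hb i hia, mul_assoc, ih']
      by_cases haI : a ∈ I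
      · rw [if_pos haI, if_pos (hiff.2 haI), mul_neg, mul_assoc]
      · rw [if_neg haI, if_neg (fun h => haI (hiff.1 h)), mul_assoc]

end Abstract

section Split

variable (R : Type*) [CommRing R] (m : ℕ)

lemma splitForm_apply (x : Fin (m * 2) → R) :
    QuadGrp.splitForm R (m * 2) x =
      ∑ i : Fin m, x (finProdFinEquiv (i, (0 : Fin 2))) * x (finProdFinEquiv (i, (1 : Fin 2))) := by
  have h2 : (m * 2) % 2 = 0 := Nat.mul_mod_left m 2
  have hm : m * 2 / 2 = m := Nat.mul_div_cancel m (by norm_num)
  unfold QuadGrp.splitForm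
  rw [dif_neg (by omega), add_zero, QuadraticMap.sum_apply]
  refine Fintype.sum_equiv (finCongr hm) _ _ (fun i => ?_)
  rw [QuadraticMap.linMulLin_apply, LinearMap.proj_apply, LinearMap.proj_apply]
  congr 1
  · apply congrArg
    apply Fin.ext
    show 2 * (i : ℕ) + m * 2 % 2 = ((0 : Fin 2) : ℕ) + 2 * ((finCongr hm i : Fin m) : ℕ)
    simp [h2]
  · apply congrArg
    apply Fin.ext
    show 2 * (i : ℕ) + 1 + m * 2 % 2 = ((1 : Fin 2) : ℕ) + 2 * ((finCongr hm i : Fin m) : ℕ)
    simp [h2]
    omega

lemma polar_eq (x y : Fin (m * 2) → R) :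
    QuadraticMap.polar (QuadGrp.splitForm R (m * 2)) x y =
      ∑ i : Fin m, (x (finProdFinEquiv (i, (0 : Fin 2))) * y (finProdFinEquiv (i, (1 : Fin 2))) +
        y (finProdFinEquiv (i, (0 : Fin 2))) * x (finProdFinEquiv (i, (1 : Fin 2)))) := by
  unfold QuadraticMap.polar
  rw [splitForm_apply, splitForm_apply, splitForm_apply, ← Finset.sum_sub_distrib,
    ← Finset.sum_sub_distrib]
  refine Finset.sum_congr rfl fun i _ => ?_
  simp only [Pi.add_apply]
  ring

lemma Q_single (p : Fin m × Fin 2) :
    QuadGrp.splitForm R (m * 2) (Pi.single (finProdFinEquiv p) 1) = 0 := by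
  rw [splitForm_apply]
  refine Finset.sum_eq_zero fun i _ => ?_
  by_cases h0 : finProdFinEquiv (i, (0 : Fin 2)) = finProdFinEquiv p
  · have h1 : finProdFinEquiv (i, (1 : Fin 2)) ≠ finProdFinEquiv p := by
      intro h1
      have := finProdFinEquiv.injective (h0.trans h1.symm)
      simp at this
    rw [Pi.single_apply, Pi.single_apply, if_neg h1, mul_zero]
  · rw [Pi.single_apply, if_neg h0, zero_mul]

lemma polar_pair (a : Fin m) :
    QuadraticMap.polar (QuadGrp.splitForm R (m * 2))
      (Pi.single (finProdFinEquiv (a, (0 : Fin 2))) 1)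
      (Pi.single (finProdFinEquiv (a, (1 : Fin 2))) 1) = 1 := by
  rw [polar_eq, Finset.sum_eq_single a]
  · simp [Pi.single_apply]
  · intro i _ hia
    simp [Pi.single_apply, hia]
  · intro h; exact absurd (Finset.mem_univ a) h

lemma polar_other {a b : Fin m} (hab : a ≠ b) (s t : Fin 2) :
    QuadraticMap.polar (QuadGrp.splitForm R (m * 2))
      (Pi.single (finProdFinEquiv (a, s)) 1) (Pi.single (finProdFinEquiv (b, t)) 1) = 0 := by
  rw [polar_eq]
  refine Finset.sum_eq_zero fun i _ => ?_
  by_cases hia : i = a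
  · subst hia
    simp [Pi.single_apply, hab]
  · simp [Pi.single_apply, hia]

/-- The basis vectors in the Clifford algebra. -/
noncomputable def E (p : Fin m × Fin 2) : CliffordAlgebra (QuadGrp.splitForm R (m * 2)) :=
  ι (QuadGrp.splitForm R (m * 2)) (Pi.single (finProdFinEquiv p) 1)

lemma E_sq (p : Fin m × Fin 2) : E R m p * E R m p = 0 := by
  unfold E
  rw [ι_sq_scalar, Q_single, map_zero]

lemma E_pair (a : Fin m) : E R m (a, 0) * E R m (a, 1) + E R m (a, 1) * E R m (a, 0) = 1 := by
  unfold E
  rw [ι_mul_ι_add_swap, polar_pair, map_one]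

lemma E_anti {a b : Fin m} (hab : a ≠ b) (s t : Fin 2) :
    E R m (a, s) * E R m (b, t) = -(E R m (b, t) * E R m (a, s)) := by
  have h : E R m (a, s) * E R m (b, t) + E R m (b, t) * E R m (a, s) = 0 := by
    unfold E
    rw [ι_mul_ι_add_swap, polar_other R m hab, map_zero]
  exact eq_neg_of_add_eq_zero_left h

/-- The factors `1 - 2 e_{2i} e_{2i+1}`. -/
noncomputable def zz (i : Fin m) : CliffordAlgebra (QuadGrp.splitForm R (m * 2)) :=
  1 - 2 * (E R m (i, 0) * E R m (i, 1))

lemma zz_sq (i : Fin m) : zz R m i * zz R m i = 1 :=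
  z_sq (f_idem (E_sq R m _) (E_pair R m i))

lemma E_zz_comm {a b : Fin m} (hab : a ≠ b) (s : Fin 2) :
    E R m (a, s) * zz R m b = zz R m b * E R m (a, s) :=
  one_sub_two_comm (anti_prod (E_anti R m hab s 0) (E_anti R m hab s 1))

lemma zz_comm {a b : Fin m} (hab : a ≠ b) : zz R m a * zz R m b = zz R m b * zz R m a :=
  one_sub_two_comm (comm_prod (E_zz_comm R m (Ne.symm hab) 0) (E_zz_comm R m (Ne.symm hab) 1))

lemma E_zz_anti (a : Fin m) (s : Fin 2) :
    E R m (a, s) * zz R m a = -(zz R m a * E R m (a, s)) := by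
  fin_cases s
  · exact rel_x (E_sq R m _) (E_pair R m a)
  · exact rel_y (E_sq R m _) (E_pair R m a)

theorem w_sq : ((List.finRange m).map (zz R m)).prod * ((List.finRange m).map (zz R m)).prod = 1 := by
  apply list_prod_sq
  · intro z hz
    obtain ⟨i, _, rfl⟩ := List.mem_map.1 hz
    exact zz_sq R m i
  · rw [List.pairwise_map]
    exact (List.nodup_finRange m).imp (fun hab => zz_comm R m hab)

theorem w_anti (p : Fin m × Fin 2) :
    E R m p * ((List.finRange m).map (zz R m)).prod =
      -(((List.finRange m).map (zz R m)).prod * E R m p) := by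
  obtain ⟨a, s⟩ := p
  have := list_anti (zz R m) (E R m (a, s)) a (E_zz_anti R m a s)
    (fun b hb => E_zz_comm R m (Ne.symm hb) s) (List.finRange m) (List.nodup_finRange m)
  rw [if_pos (List.mem_finRange a)] at this
  exact this

theorem w_anti' (j : Fin (m * 2)) :
    ι (QuadGrp.splitForm R (m * 2)) (Pi.single j 1) * ((List.finRange m).map (zz R m)).prod =
      -(((List.finRange m).map (zz R m)).prod *
        ι (QuadGrp.splitForm R (m * 2)) (Pi.single j 1)) := by
  obtain ⟨p, rfl⟩ := finProdFinEquiv.surjective j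
  exact w_anti R m p

end Split

end Groth.Agent.Lib.SplitCliff
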