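import Mathlib

set_option autoImplicit false
set_option linter.style.haveILetI false

universe w v u

open CategoryTheory Limits Pretriangulated DerivedCategory

namespace Groth.Agent.Lib.SplitExtH4

variable {A : Type u} [Category.{v} A] [Abelian A] [HasDerivedCategory.{w} A]

/-- A morphism into the shift of a finite biproduct vanishes if all its components vanish. -/
lemma eq_zero_of_comp_shift_pi {J : Type} [Fintype J] (G : J → DerivedCategory A)
    {Y : DerivedCategory A} (u : Y ⟶ (⨁ G)⟦(1 : ℤ)⟧)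
    (h : ∀ j, u ≫ (biproduct.π G j)⟦(1 : ℤ)⟧' = 0) : u = 0 := by
  classical
  have h1 : u = u ≫ (𝟙 (⨁ G))⟦(1 : ℤ)⟧' := by
    rw [CategoryTheory.Functor.map_id, Category.comp_id]
  rw [h1, ← biproduct.total, CategoryTheory.Functor.map_sum, Preadditive.comp_sum]
  refine Finset.sum_eq_zero (fun j _ => ?_)
  rw [CategoryTheory.Functor.map_comp, ← Category.assoc, h, zero_comp]

/-- Translating `Ext`-vanishing: maps `M[-b] ⟶ N[-i][1]` vanish when `Ext^{b-i+1}(M,N)` does. -/
lemma ext_lemma (M N : A) (b i : ℤ) (p : ℕ) (hp : (p : ℤ) = b - i + 1)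
    (hz : ∀ f : (singleFunctor A 0).obj M ⟶ ((singleFunctor A 0).obj N)⟦(p : ℤ)⟧, f = 0)
    (v : (singleFunctor A b).obj M ⟶ ((singleFunctor A i).obj N)⟦(1 : ℤ)⟧) : v = 0 := by
  let α : ((singleFunctor A b).obj M)⟦b⟧ ≅ (singleFunctor A 0).obj M :=
    ((singleFunctors A).shiftIso b 0 b (by omega)).app M
  let β1 : ((singleFunctor A i).obj N)⟦(1 : ℤ)⟧ ≅ (singleFunctor A (i - 1)).obj N :=
    ((singleFunctors A).shiftIso 1 (i - 1) i (by omega)).app N
  let β2 : ((singleFunctor A (i - 1)).obj N)⟦b⟧ ≅ (singleFunctor A (-(p : ℤ))).obj N :=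
    ((singleFunctors A).shiftIso b (-(p : ℤ)) (i - 1) (by omega)).app N
  let β3 : ((singleFunctor A 0).obj N)⟦(p : ℤ)⟧ ≅ (singleFunctor A (-(p : ℤ))).obj N :=
    ((singleFunctors A).shiftIso (p : ℤ) (-(p : ℤ)) 0 (by omega)).app N
  let β : (((singleFunctor A i).obj N)⟦(1 : ℤ)⟧)⟦b⟧ ≅ ((singleFunctor A 0).obj N)⟦(p : ℤ)⟧ :=
    (shiftFunctor (DerivedCategory A) b).mapIso β1 ≪≫ β2 ≪≫ β3.symm
  have h1 := hz (α.inv ≫ v⟦b⟧' ≫ β.hom)
  have h2 : v⟦b⟧' = 0 := by
    have h3 : v⟦b⟧' = α.hom ≫ (α.inv ≫ v⟦b⟧' ≫ β.hom) ≫ β.inv := by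
      simp only [Category.assoc, Iso.hom_inv_id, Category.comp_id, Iso.hom_inv_id_assoc]
    rw [h3, h1, zero_comp, comp_zero]
  exact (shiftFunctor (DerivedCategory A) b).map_injective
    (by rw [h2, CategoryTheory.Functor.map_zero])

/-- If each `N i` (`a ≤ i ≤ b`) maps to `K` inducing an iso on `Hⁱ`, then `K` splits. -/
lemma final (N : ℤ → A) (K : DerivedCategory A) (a b : ℤ) [K.IsGE a] [K.IsLE b]
    (hs : ∀ i, a ≤ i → i ≤ b → ∃ s : (singleFunctor A i).obj (N i) ⟶ K,
      IsIso ((homologyFunctor A i).map s)) :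
    Nonempty (K ≅ ⨁ (fun i : Finset.Icc a b => (singleFunctor A (i : ℤ)).obj (N i))) := by
  classical
  have hJ : ∀ j : Finset.Icc a b, a ≤ (j : ℤ) ∧ (j : ℤ) ≤ b := fun j => Finset.mem_Icc.1 j.2
  choose s hs' using fun j : Finset.Icc a b => hs j.1 (hJ j).1 (hJ j).2
  let G' : Finset.Icc a b → DerivedCategory A := fun i => (singleFunctor A (i : ℤ)).obj (N i)
  let φ : ⨁ G' ⟶ K := biproduct.desc s
  have key : ∀ (n : ℤ) (j : Finset.Icc a b), (j : ℤ) ≠ n →
      IsZero ((homologyFunctor A n).obj (G' j)) := by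
    intro n j hj
    rcases lt_or_gt_of_ne hj with h | h
    · exact isZero_of_isLE (G' j) (j : ℤ) n h
    · exact isZero_of_isGE (G' j) (j : ℤ) n h
  have hφ : IsIso φ := by
    rw [isIso_iff]
    intro n
    have hsum : 𝟙 ((homologyFunctor A n).obj (⨁ G')) =
        ∑ j, (homologyFunctor A n).map (biproduct.π G' j) ≫
          (homologyFunctor A n).map (biproduct.ι G' j) := by
      rw [← CategoryTheory.Functor.map_id, ← biproduct.total, CategoryTheory.Functor.map_sum]
      simp only [CategoryTheory.Functor.map_comp]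
    by_cases hn : a ≤ n ∧ n ≤ b
    · let j0 : Finset.Icc a b := ⟨n, Finset.mem_Icc.2 hn⟩
      have h1 : (homologyFunctor A n).map (biproduct.π G' j0) ≫
          (homologyFunctor A n).map (biproduct.ι G' j0) = 𝟙 _ := by
        rw [hsum]
        symm
        apply Finset.sum_eq_single j0
        · intro j _ hj
          have hne : (j : ℤ) ≠ n := fun h => hj (Subtype.ext h)
          rw [(key n j hne).eq_of_tgt ((homologyFunctor A n).map (biproduct.π G' j)) 0, zero_comp]
        · intro h
          exact absurd (Finset.mem_univ _) h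
      have h2 : (homologyFunctor A n).map (biproduct.ι G' j0) ≫
          (homologyFunctor A n).map (biproduct.π G' j0) = 𝟙 _ := by
        rw [← CategoryTheory.Functor.map_comp, biproduct.ι_π_self, CategoryTheory.Functor.map_id]
      haveI : IsIso ((homologyFunctor A n).map (biproduct.ι G' j0)) := ⟨⟨_, h2, h1⟩⟩
      have h3 : (homologyFunctor A n).map (biproduct.ι G' j0) ≫ (homologyFunctor A n).map φ =
          (homologyFunctor A n).map (s j0) := by
        rw [← CategoryTheory.Functor.map_comp, biproduct.ι_desc]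
      have h4 : IsIso ((homologyFunctor A n).map (s j0)) := hs' j0
      exact IsIso.of_isIso_fac_left h3
    · have hz1 : IsZero ((homologyFunctor A n).obj (⨁ G')) := by
        rw [IsZero.iff_id_eq_zero, hsum]
        apply Finset.sum_eq_zero
        intro j _
        have hne : (j : ℤ) ≠ n := fun h => hn (h ▸ hJ j)
        rw [(key n j hne).eq_of_tgt ((homologyFunctor A n).map (biproduct.π G' j)) 0, zero_comp]
      have hz2 : IsZero ((homologyFunctor A n).obj K) := by
        by_cases h : a ≤ n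
        · exact isZero_of_isLE K b n (by omega)
        · exact isZero_of_isGE K a n (by omega)
      exact ⟨⟨0, hz1.eq_of_src _ _, hz2.eq_of_src _ _⟩⟩
  exact ⟨(asIso φ).symm⟩

/-- The inductive claim: sections inducing isomorphisms on each cohomology object. -/
theorem claim (N : ℤ → A)
    (hN : ∀ (i j : ℤ) (p : ℕ), j < i → 2 ≤ p →
      ∀ f : (singleFunctor A 0).obj (N i) ⟶ ((singleFunctor A 0).obj (N j))⟦(p : ℤ)⟧, f = 0) :
    ∀ (n : ℕ) (K : DerivedCategory A) (a b : ℤ), b < a + n → K.IsGE a → K.IsLE b →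
      (∀ i, a ≤ i → i ≤ b → Nonempty ((homologyFunctor A i).obj K ≅ N i)) →
      ∀ i, a ≤ i → i ≤ b → ∃ s : (singleFunctor A i).obj (N i) ⟶ K,
        IsIso ((homologyFunctor A i).map s) := by
  intro n
  induction n with
  | zero =>
    intro K a b hlt _ _ _ i hi1 hi2
    exfalso
    simp only [Nat.cast_zero, add_zero] at hlt
    omega
  | succ n ih =>
    intro K a b hlt hGE hLE hK i hi1 hi2
    haveI := hGE
    haveI := hLE
    obtain ⟨X, Y, hX, hY, f, g, h, hT⟩ := TStructure.t.exists_triangle K (b - 1) b (by omega)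
    haveI hXle : X.IsLE (b - 1) := ⟨hX⟩
    haveI hYge : Y.IsGE b := ⟨hY⟩
    let T := Triangle.mk f g h
    -- F1
    haveI hYle : Y.IsLE b := by
      rw [isLE_iff]
      intro k hk
      refine (HomologySequence.exact₃ T hT k (k + 1) rfl).isZero_of_both_zeros ?_ ?_
      · exact (isZero_of_isLE K b k hk).eq_of_src _ _
      · exact (isZero_of_isLE X (b - 1) (k + 1) (by omega)).eq_of_tgt _ _
    -- F2
    haveI hXge : X.IsGE a := by
      rw [isGE_iff]
      intro k hk
      refine (HomologySequence.exact₁ T hT (k - 1) k (by omega)).isZero_of_both_zeros ?_ ?_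
      · exact (isZero_of_isGE Y b (k - 1) (by omega)).eq_of_src _ _
      · exact (isZero_of_isGE K a k hk).eq_of_tgt _ _
    -- F3
    have hiso1 : ∀ k, k < b → IsIso ((homologyFunctor A k).map f) := by
      intro k hk
      haveI : Mono ((homologyFunctor A k).map f) :=
        (HomologySequence.mono_homologyMap_mor₁_iff T hT (k - 1) k (by omega)).2
          ((isZero_of_isGE Y b (k - 1) (by omega)).eq_of_src _ _)
      haveI : Epi ((homologyFunctor A k).map f) :=
        (HomologySequence.epi_homologyMap_mor₁_iff T hT k).2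
          ((isZero_of_isGE Y b k hk).eq_of_tgt _ _)
      exact isIso_of_mono_of_epi _
    -- F4
    have hiso2 : IsIso ((homologyFunctor A b).map g) := by
      haveI : Mono ((homologyFunctor A b).map g) :=
        (HomologySequence.mono_homologyMap_mor₂_iff T hT b).2
          ((isZero_of_isLE X (b - 1) b (by omega)).eq_of_src _ _)
      haveI : Epi ((homologyFunctor A b).map g) :=
        (HomologySequence.epi_homologyMap_mor₂_iff T hT b (b + 1) rfl).2
          ((isZero_of_isLE X (b - 1) (b + 1) (by omega)).eq_of_tgt _ _)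
      exact isIso_of_mono_of_epi _
    -- F5
    have hab : a ≤ b := le_trans hi1 hi2
    obtain ⟨M, ⟨ψ0⟩⟩ := exists_iso_singleFunctor_obj_of_isGE_of_isLE Y b
    obtain ⟨eKb⟩ := hK b hab (le_refl b)
    let m : M ≅ N b :=
      ((singleFunctorCompHomologyFunctorIso A b).app M).symm ≪≫
        (homologyFunctor A b).mapIso ψ0.symm ≪≫
        (asIso ((homologyFunctor A b).map g)).symm ≪≫ eKb
    let ψ : Y ≅ (singleFunctor A b).obj (N b) := ψ0 ≪≫ (singleFunctor A b).mapIso m
    have hKX : ∀ k, a ≤ k → k ≤ b - 1 → Nonempty ((homologyFunctor A k).obj X ≅ N k) := by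
      intro k h1 h2
      obtain ⟨e⟩ := hK k h1 (by omega)
      haveI := hiso1 k (by omega)
      exact ⟨asIso ((homologyFunctor A k).map f) ≪≫ e⟩
    have ihX := ih X a (b - 1) (by push_cast at hlt; omega) inferInstance inferInstance hKX
    obtain ⟨φX⟩ := final N X a (b - 1) ihX
    have h0 : h = 0 := by
      rw [← cancel_epi ψ.inv,
        ← cancel_mono ((shiftFunctor (DerivedCategory A) (1 : ℤ)).map φX.hom), comp_zero, zero_comp]
      apply eq_zero_of_comp_shift_pi
      intro j
      have hj := Finset.mem_Icc.1 j.2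
      rw [Category.assoc, Category.assoc, ← CategoryTheory.Functor.map_comp]
      have hp : (((b - (j : ℤ) + 1).toNat : ℕ) : ℤ) = b - (j : ℤ) + 1 :=
        Int.toNat_of_nonneg (by omega)
      exact ext_lemma (N b) (N j) b j ((b - (j : ℤ) + 1).toNat) hp
        (hN b j _ (by omega) (by omega)) _
    rcases lt_or_eq_of_le hi2 with hlt' | hib
    · obtain ⟨s', hs'⟩ := ihX i hi1 (by omega)
      haveI := hs'
      haveI := hiso1 i hlt'
      exact ⟨s' ≫ f, by rw [CategoryTheory.Functor.map_comp]; infer_instance⟩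
    · subst hib
      obtain ⟨σ, hσ⟩ : ∃ σ : Y ⟶ K, 𝟙 Y = σ ≫ g := Triangle.coyoneda_exact₃ T hT (𝟙 Y)
        (by show 𝟙 Y ≫ h = 0; rw [h0, comp_zero])
      refine ⟨ψ.inv ≫ σ, ?_⟩
      haveI : IsIso ((homologyFunctor A i).map σ) := by
        have h5 : (homologyFunctor A i).map σ ≫ (homologyFunctor A i).map g = 𝟙 _ := by
          rw [← CategoryTheory.Functor.map_comp]
          have h6 : σ ≫ g = 𝟙 Y := hσ.symm
          rw [h6, CategoryTheory.Functor.map_id]
        haveI := hiso2
        exact IsIso.of_isIso_fac_right h5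
      rw [CategoryTheory.Functor.map_comp]
      infer_instance

/-- Splitting of a bounded object when `Ext^{≥2}` between cohomology objects vanishes. -/
theorem main (K : DerivedCategory A) (a b : ℤ) [K.IsGE a] [K.IsLE b]
    (hExt : ∀ (i j : ℤ) (p : ℕ), j < i → 2 ≤ p →
      ∀ f : (singleFunctor A 0).obj ((homologyFunctor A i).obj K) ⟶
        ((singleFunctor A 0).obj ((homologyFunctor A j).obj K))⟦(p : ℤ)⟧, f = 0) :
    Nonempty (K ≅ ⨁ (fun i : Finset.Icc a b =>
      (singleFunctor A (i : ℤ)).obj ((homologyFunctor A (i : ℤ)).obj K))) := by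
  have hlt : b < a + (((b - a + 1).toNat : ℕ) : ℤ) := by
    have := Int.self_le_toNat (b - a + 1)
    omega
  have hcl := claim (fun i => (homologyFunctor A i).obj K) hExt ((b - a + 1).toNat) K a b hlt
    inferInstance inferInstance (fun i _ _ => ⟨Iso.refl _⟩)
  exact final (fun i => (homologyFunctor A i).obj K) K a b hcl

end Groth.Agent.Lib.SplitExtH4
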