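import Mathlib
import Groth.Agent.Lib.SplitAlg_helper3

namespace Groth.Agent.Lib.SplitFin

open Polynomial TensorProduct

universe u

theorem main (R S : Type u) [CommRing R] [CommRing S] [Algebra R S] [Module.Finite R S] :
    ∃ (R' : Type u) (_ : CommRing R') (_ : Algebra R R'), Module.Finite R R' ∧ Module.Free R R' ∧
      Function.Injective (algebraMap R R') ∧
      ∃ (n : ℕ) (d : Fin n → ℕ) (α : (i : Fin n) → Fin (d i) → R')
        (φ : MvPolynomial (Fin n) R' →ₐ[R'] R' ⊗[R] S), Function.Surjective φ ∧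
          ∀ i, φ (∏ j, (MvPolynomial.X i - MvPolynomial.C (α i j))) = 0 := by
  classical
  obtain ⟨n, s, hs⟩ := Module.Finite.exists_fin (R := R) (M := S)
  have hint : ∀ i, ∃ p : R[X], p.Monic ∧ Polynomial.eval₂ (algebraMap R S) (s i) p = 0 :=
    fun i => IsIntegral.of_finite R (s i)
  choose p hpm hp0 using hint
  let f : R[X] := ∏ i, p i
  have hfm : f.Monic := monic_prod_of_monic _ _ (fun i _ => hpm i)
  have hf0 : ∀ i, Polynomial.aeval (s i) f = 0 := by
    intro i
    rw [map_prod]
    exact Finset.prod_eq_zero (Finset.mem_univ i) (by rw [Polynomial.aeval_def]; exact hp0 i)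
  obtain ⟨R', _, _, hfin, hfree, hff, α, hα⟩ :=
    Groth.Agent.Lib.SplitAlgH3.exists_splitting f.natDegree R f hfm rfl
  haveI := hff
  refine ⟨R', inferInstance, inferInstance, hfin, hfree, FaithfulSMul.algebraMap_injective R R',
    n, fun _ => f.natDegree, fun _ => α,
    MvPolynomial.aeval (fun i => (1 : R') ⊗ₜ[R] s i), ?_, ?_⟩
  · intro y
    induction y using TensorProduct.induction_on with
    | zero => exact ⟨0, map_zero _⟩
    | tmul r x =>
      have hx : x ∈ Submodule.span R (Set.range s) := hs ▸ Submodule.mem_top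
      obtain ⟨c, rfl⟩ := (Submodule.mem_span_range_iff_exists_fun R).mp hx
      refine ⟨∑ i, MvPolynomial.C (r * algebraMap R R' (c i)) * MvPolynomial.X i, ?_⟩
      rw [map_sum, TensorProduct.tmul_sum]
      refine Finset.sum_congr rfl fun i _ => ?_
      have h3 : r ⊗ₜ[R] (c i • s i) = (r * algebraMap R R' (c i)) ⊗ₜ[R] s i := by
        rw [← TensorProduct.smul_tmul, Algebra.smul_def, mul_comm]
      rw [h3, map_mul, MvPolynomial.aeval_C, MvPolynomial.aeval_X]
      simp [Algebra.TensorProduct.algebraMap_apply]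
    | add a b ha hb =>
      obtain ⟨a', rfl⟩ := ha
      obtain ⟨b', rfl⟩ := hb
      exact ⟨a' + b', map_add _ _ _⟩
  · intro i
    simp only [map_prod, map_sub, MvPolynomial.aeval_X, MvPolynomial.aeval_C]
    have h1 : Polynomial.aeval ((1 : R') ⊗ₜ[R] s i) (∏ j, (X - C (α j))) =
        ∏ j, ((1 : R') ⊗ₜ[R] s i - algebraMap R' (R' ⊗[R] S) (α j)) := by
      simp only [map_prod, map_sub, Polynomial.aeval_X, Polynomial.aeval_C]
    rw [← h1, ← hα, Polynomial.aeval_map_algebraMap]
    have h2 : (1 : R') ⊗ₜ[R] s i =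
        (Algebra.TensorProduct.includeRight : S →ₐ[R] R' ⊗[R] S) (s i) := rfl
    rw [h2, Polynomial.aeval_algHom_apply, hf0 i, map_zero]

end Groth.Agent.Lib.SplitFin
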