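import Mathlib

/-!
# Splitting of a finitely generated submodule of a projective module, checked at maximal ideals
(helper1)

`N ≤ Mb` finitely generated, `Mb` projective; if `N ⊓ 𝔪 • ⊤ ≤ 𝔪 • N` for every maximal ideal `𝔪`
(i.e. `N/𝔪N → Mb/𝔪Mb` is injective), then `N` is a direct summand and `Mb ⧸ N` is projective.
No localisation is used: for each `𝔪` one constructs `f ∉ 𝔪` and `ρ : Mb → N` with `ρ|_N = f`.
-/

set_option autoImplicit false

namespace Groth.Agent.Lib.SplitMaxH1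

open Polynomial

section poly

variable {A : Type*} [CommRing A] {N : Type*} [AddCommGroup N] [Module A N] [Module.Finite A N]

theorem exists_inverse_up_to (𝔪 : Ideal A) (h𝔪 : 𝔪 ≠ ⊤) (ψ : N →ₗ[A] N)
    (hψ : ∀ n, ψ n - n ∈ 𝔪 • (⊤ : Submodule A N)) :
    ∃ f : A, f ∉ 𝔪 ∧ ∃ ρ : N →ₗ[A] N, ∀ n, ρ (ψ n) = f • n := by
  have hφ : LinearMap.range (ψ - 1 : Module.End A N) ≤ 𝔪 • ⊤ := by
    rintro _ ⟨n, rfl⟩
    exact hψ n
  obtain ⟨P, hmonic, -, hcoeff, hP⟩ :=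
    LinearMap.exists_monic_and_natDegree_eq_and_coeff_mem_pow_and_aeval_eq_zero A
      (ψ - 1 : Module.End A N) 𝔪 hφ
  obtain ⟨Q, hQdef⟩ : ∃ Q : A[X], Q = P.comp (X - C 1) := ⟨_, rfl⟩
  have hQ : aeval (ψ : Module.End A N) Q = 0 := by
    rw [hQdef, aeval_comp]
    have h1 : aeval (ψ : Module.End A N) (X - C 1 : A[X]) = ψ - 1 := by
      rw [map_sub, aeval_X, aeval_C, map_one]
    rw [h1, hP]
  have hdecomp : aeval (ψ : Module.End A N) Q.divX * ψ +
      algebraMap A (Module.End A N) (Q.coeff 0) = 0 := by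
    rw [← hQ]
    conv_rhs => rw [← divX_mul_X_add Q]
    rw [map_add, map_mul, aeval_X, aeval_C]
  refine ⟨Q.coeff 0, ?_, -(aeval (ψ : Module.End A N) Q.divX), fun n => ?_⟩
  · have hf : Q.coeff 0 = P.eval (-1) := by
      rw [coeff_zero_eq_eval_zero, hQdef, eval_comp]
      congr 1
      simp
    rw [hf, eval_eq_sum_range, Finset.sum_range_succ, hmonic.coeff_natDegree, one_mul]
    intro hmem
    have hS : ∑ i ∈ Finset.range P.natDegree, P.coeff i * (-1 : A) ^ i ∈ 𝔪 := by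
      refine Ideal.sum_mem _ fun i hi => ?_
      rw [Finset.mem_range] at hi
      refine Ideal.mul_mem_right _ _ ?_
      exact Ideal.pow_le_self (by omega) (hcoeff i)
    have h2 : (-1 : A) ^ P.natDegree ∈ 𝔪 := by
      have := 𝔪.sub_mem hmem hS
      rwa [add_sub_cancel_left] at this
    apply h𝔪
    rw [Ideal.eq_top_iff_one]
    have h3 : (1 : A) = (-1 : A) ^ P.natDegree * (-1 : A) ^ P.natDegree := by
      rw [← mul_pow, neg_one_mul, neg_neg, one_pow]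
    rw [h3]
    exact Ideal.mul_mem_left _ _ h2
  · have h := LinearMap.congr_fun hdecomp n
    rw [LinearMap.add_apply, Module.End.mul_apply, Module.algebraMap_end_apply,
      LinearMap.zero_apply] at h
    rw [LinearMap.neg_apply]
    exact neg_eq_of_add_eq_zero_right h

end poly

section retract

variable {A : Type*} [CommRing A] {Mb : Type*} [AddCommGroup Mb] [Module A Mb]

theorem exists_retract_up_to [Module.Projective A Mb] (N : Submodule A Mb) (hN : N.FG)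
    (𝔪 : Ideal A) (h𝔪 : 𝔪.IsMaximal) (hsat : N ⊓ 𝔪 • ⊤ ≤ 𝔪 • N) :
    ∃ f : A, f ∉ 𝔪 ∧ ∃ ρ : Mb →ₗ[A] N, ∀ n : N, ρ n = f • n := by
  classical
  haveI := h𝔪
  letI : Field (A ⧸ 𝔪) := Ideal.Quotient.field 𝔪
  haveI : Module.Finite A N := Module.Finite.iff_fg.2 hN
  have hsat' : ∀ n : N, (n : Mb) ∈ 𝔪 • (⊤ : Submodule A Mb) →
      n ∈ 𝔪 • (⊤ : Submodule A N) := by
    intro n hn
    have h1 : (n : Mb) ∈ 𝔪 • N := hsat ⟨n.2, hn⟩
    have h2 : 𝔪 • N = (𝔪 • (⊤ : Submodule A N)).map N.subtype := by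
      rw [Submodule.map_smul'', Submodule.map_subtype_top]
    rw [h2] at h1
    obtain ⟨n', hn', hnn'⟩ := h1
    have : n' = n := Subtype.ext hnn'
    rwa [this] at hn'
  have hle : (𝔪 • (⊤ : Submodule A N)) ≤ (𝔪 • (⊤ : Submodule A Mb)).comap N.subtype := by
    refine Submodule.smul_le.2 fun a ha n _ => ?_
    rw [Submodule.mem_comap, map_smul]
    exact Submodule.smul_mem_smul ha Submodule.mem_top
  let ιA : (N ⧸ (𝔪 • (⊤ : Submodule A N))) →ₗ[A] (Mb ⧸ (𝔪 • (⊤ : Submodule A Mb))) :=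
    Submodule.mapQ _ _ N.subtype hle
  have hsurj : Function.Surjective (algebraMap A (A ⧸ 𝔪)) := Ideal.Quotient.mk_surjective
  let ι : (N ⧸ (𝔪 • (⊤ : Submodule A N))) →ₗ[A ⧸ 𝔪] (Mb ⧸ (𝔪 • (⊤ : Submodule A Mb))) :=
    LinearMap.extendScalarsOfSurjective hsurj ιA
  have hι : ∀ n : N, ι (Submodule.Quotient.mk n) = Submodule.Quotient.mk (n : Mb) := fun n => rfl
  have hker : LinearMap.ker ι = ⊥ := by
    rw [LinearMap.ker_eq_bot']
    intro z hz
    obtain ⟨n, rfl⟩ := Submodule.Quotient.mk_surjective _ z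
    rw [hι, Submodule.Quotient.mk_eq_zero] at hz
    rw [Submodule.Quotient.mk_eq_zero]
    exact hsat' n hz
  obtain ⟨πb, hπb⟩ := LinearMap.exists_leftInverse_of_injective ι hker
  have hπb' : ∀ z, πb (ι z) = z := fun z => LinearMap.congr_fun hπb z
  let g : Mb →ₗ[A] (N ⧸ (𝔪 • (⊤ : Submodule A N))) :=
    (πb.restrictScalars A) ∘ₗ (𝔪 • (⊤ : Submodule A Mb)).mkQ
  obtain ⟨π, hπ⟩ := Module.projective_lifting_property (𝔪 • (⊤ : Submodule A N)).mkQ g
    (Submodule.mkQ_surjective _)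
  have hπ' : ∀ x, (Submodule.Quotient.mk (π x) : N ⧸ (𝔪 • (⊤ : Submodule A N))) =
      πb (Submodule.Quotient.mk x) := fun x => LinearMap.congr_fun hπ x
  let ψ : N →ₗ[A] N := π ∘ₗ N.subtype
  have hψ : ∀ n, ψ n - n ∈ 𝔪 • (⊤ : Submodule A N) := by
    intro n
    rw [← Submodule.Quotient.mk_eq_zero, Submodule.Quotient.mk_sub, sub_eq_zero]
    show Submodule.Quotient.mk (π (n : Mb)) = _
    rw [hπ', ← hι, hπb']
  obtain ⟨f, hf, ρN, hρN⟩ := exists_inverse_up_to 𝔪 h𝔪.ne_top ψ hψ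
  exact ⟨f, hf, ρN ∘ₗ π, fun n => hρN n⟩

theorem projective_quotient_of_maximal [Module.Projective A Mb] (N : Submodule A Mb) (hN : N.FG)
    (hsat : ∀ 𝔪 : Ideal A, 𝔪.IsMaximal → N ⊓ 𝔪 • ⊤ ≤ 𝔪 • N) :
    Module.Projective A (Mb ⧸ N) := by
  let 𝔞 : Ideal A :=
    { carrier := {f | ∃ ρ : Mb →ₗ[A] N, ∀ n : N, ρ n = f • n}
      zero_mem' := ⟨0, fun n => by rw [zero_smul]; rfl⟩
      add_mem' := by
        rintro f g ⟨ρ₁, h₁⟩ ⟨ρ₂, h₂⟩
        exact ⟨ρ₁ + ρ₂, fun n => by rw [LinearMap.add_apply, h₁, h₂, add_smul]⟩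
      smul_mem' := by
        rintro c f ⟨ρ, h⟩
        exact ⟨c • ρ, fun n => by rw [LinearMap.smul_apply, h, smul_eq_mul, mul_smul]⟩ }
  have h1 : 𝔞 = ⊤ := by
    by_contra h
    obtain ⟨𝔪, h𝔪, hle⟩ := Ideal.exists_le_maximal 𝔞 h
    obtain ⟨f, hf, ρ, hρ⟩ := exists_retract_up_to N hN 𝔪 h𝔪 (hsat 𝔪 h𝔪)
    exact hf (hle ⟨ρ, hρ⟩)
  obtain ⟨ρ, hρ⟩ : (1 : A) ∈ 𝔞 := by rw [h1]; exact Submodule.mem_top
  have hρ' : ∀ x (hx : x ∈ N), ((ρ x : N) : Mb) = x := fun x hx => by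
    have := hρ ⟨x, hx⟩
    rw [one_smul] at this
    exact congrArg Subtype.val this
  let s : (Mb ⧸ N) →ₗ[A] Mb := N.liftQ (LinearMap.id - N.subtype ∘ₗ ρ) (by
    intro x hx
    rw [LinearMap.mem_ker, LinearMap.sub_apply, LinearMap.id_apply, LinearMap.comp_apply,
      Submodule.subtype_apply, hρ' x hx, sub_self])
  refine Module.Projective.of_split s N.mkQ ?_
  refine LinearMap.ext fun y => ?_
  obtain ⟨x, rfl⟩ := Submodule.Quotient.mk_surjective _ y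
  show N.mkQ ((LinearMap.id - N.subtype ∘ₗ ρ : Mb →ₗ[A] Mb) x) = _
  rw [LinearMap.sub_apply, LinearMap.id_apply, map_sub, LinearMap.comp_apply,
    Submodule.subtype_apply, Submodule.mkQ_apply, Submodule.mkQ_apply,
    (Submodule.Quotient.mk_eq_zero N).2 (ρ x).2, sub_zero]
  rfl

end retract

end Groth.Agent.Lib.SplitMaxH1
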