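import Mathlib

/-!
# Split injectivity can be checked modulo powers of an ideal in the Jacobson radical (helper4)

`R` Noetherian, `I ≤ Jac(R)`, `u : N → M` finite modules.  If `u mod Iⁿ` has a left inverse for
arbitrarily large `n` then `u` has a left inverse.  Proof: existence of a left inverse is a linear
system `Φ t = τ` over `N`; it is solvable modulo `Iⁿ` for arbitrarily large `n`, hence solvable by
Krull's intersection theorem applied to `coker Φ`.
-/

set_option autoImplicit false

namespace Groth.Agent.Lib.SplitModPowH4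

open Submodule

universe u

theorem pi_mem_smul_top {R : Type*} [CommRing R] {ι : Type*} [Fintype ι] [DecidableEq ι]
    (J : Ideal R) {N : Type*} [AddCommGroup N] [Module R N] (x : ι → N)
    (hx : ∀ i, x i ∈ J • (⊤ : Submodule R N)) : x ∈ J • (⊤ : Submodule R (ι → N)) := by
  have hsum : x = ∑ i, (LinearMap.single R (fun _ : ι => N) i) (x i) := by
    simp only [LinearMap.coe_single]
    exact (Finset.univ_sum_single x).symm
  rw [hsum]
  refine Submodule.sum_mem _ fun i _ => ?_
  have h1 := Submodule.mem_map_of_mem (f := LinearMap.single R (fun _ : ι => N) i) (hx i)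
  rw [Submodule.map_smul''] at h1
  exact Submodule.smul_mono le_rfl le_top h1

theorem main {R M N : Type u} [CommRing R] [IsNoetherianRing R] (I : Ideal R)
    (hI : I ≤ (⊥ : Ideal R).jacobson) [AddCommGroup M] [Module R M] [Module.Finite R M]
    [AddCommGroup N] [Module R N] [Module.Finite R N] (u : N →ₗ[R] M)
    (h : ∀ n₀ : ℕ, ∃ n, n₀ ≤ n ∧ ∃ s : (M ⧸ (I ^ n) • (⊤ : Submodule R M)) →ₗ[R]
        (N ⧸ (I ^ n) • (⊤ : Submodule R N)),
      ∀ x : N, s (Submodule.Quotient.mk (u x)) = Submodule.Quotient.mk x) :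
    ∃ s : M →ₗ[R] N, s.comp u = LinearMap.id := by
  classical
  obtain ⟨a, gm, hgm⟩ := Module.Finite.exists_fin (R := R) (M := M)
  obtain ⟨c, gn, hgn⟩ := Module.Finite.exists_fin (R := R) (M := N)
  obtain ⟨π, hπdef⟩ : ∃ π : (Fin a → R) →ₗ[R] M, π = Fintype.linearCombination R gm := ⟨_, rfl⟩
  have hπapp : ∀ row, π row = ∑ j, row j • gm j := fun row => by
    rw [hπdef, Fintype.linearCombination_apply]
  have hπ : Function.Surjective π := by
    rw [← LinearMap.range_eq_top, hπdef, Fintype.range_linearCombination, hgm]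
  have hK : (LinearMap.ker π).FG := IsNoetherian.noetherian _
  obtain ⟨b, gk, hgk⟩ := Submodule.fg_iff_exists_fin_generating_family.mp hK
  have hgk0 : ∀ i, π (gk i) = 0 := fun i => by
    have : gk i ∈ LinearMap.ker π := by rw [← hgk]; exact Submodule.subset_span ⟨i, rfl⟩
    exact this
  choose w hw using fun l => hπ (u (gn l))
  let r : Fin b ⊕ Fin c → (Fin a → R) := Sum.elim gk w
  let Φ : (Fin a → N) →ₗ[R] (Fin b ⊕ Fin c → N) :=
    LinearMap.pi fun ρ => ∑ j, (r ρ j) • (LinearMap.proj j : (Fin a → N) →ₗ[R] N)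
  have hΦ : ∀ t ρ, Φ t ρ = ∑ j, r ρ j • t j := by
    intro t ρ
    simp [Φ]
  let τ : Fin b ⊕ Fin c → N := Sum.elim (fun _ => 0) gn
  -- Claim A: a solution of the system gives a left inverse
  have claimA : ∀ t, Φ t = τ → ∃ s : M →ₗ[R] N, s.comp u = LinearMap.id := by
    intro t ht
    obtain ⟨tt, htt⟩ : ∃ tt : (Fin a → R) →ₗ[R] N, ∀ row, tt row = ∑ j, row j • t j :=
      ⟨Fintype.linearCombination R t, fun row => Fintype.linearCombination_apply _ _ _⟩
    have hle : LinearMap.ker π ≤ LinearMap.ker tt := by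
      rw [← hgk, Submodule.span_le]
      rintro _ ⟨i, rfl⟩
      show tt (gk i) = 0
      have h1 := congrFun ht (Sum.inl i)
      rw [hΦ] at h1
      rw [htt]
      exact h1
    let e := LinearMap.quotKerEquivOfSurjective π hπ
    let s : M →ₗ[R] N := ((LinearMap.ker π).liftQ tt hle).comp e.symm.toLinearMap
    have hs : ∀ x, s (π x) = tt x := by
      intro x
      have h1 : e.symm (π x) = Submodule.Quotient.mk x := by
        rw [LinearEquiv.symm_apply_eq]
        exact (LinearMap.quotKerEquivOfSurjective_apply_mk π hπ x).symm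
      show (LinearMap.ker π).liftQ tt hle (e.symm (π x)) = tt x
      rw [h1, Submodule.liftQ_apply]
    refine ⟨s, LinearMap.ext_on hgn ?_⟩
    rintro _ ⟨l, rfl⟩
    show s (u (gn l)) = gn l
    rw [← hw l, hs, htt]
    have h1 := congrFun ht (Sum.inr l)
    rw [hΦ] at h1
    exact h1
  -- Claim B: solvability modulo `I ^ n`
  have claimB : ∀ n (s : (M ⧸ (I ^ n) • (⊤ : Submodule R M)) →ₗ[R]
        (N ⧸ (I ^ n) • (⊤ : Submodule R N))),
      (∀ x : N, s (Submodule.Quotient.mk (u x)) = Submodule.Quotient.mk x) →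
      ∃ t, τ - Φ t ∈ (I ^ n) • (⊤ : Submodule R (Fin b ⊕ Fin c → N)) := by
    intro n s hs
    choose t ht using fun j => Submodule.Quotient.mk_surjective ((I ^ n) • (⊤ : Submodule R N))
      (s (Submodule.Quotient.mk (gm j)))
    have key : ∀ row : Fin a → R,
        ((I ^ n) • (⊤ : Submodule R N)).mkQ (∑ j, row j • t j) =
          s (((I ^ n) • (⊤ : Submodule R M)).mkQ (π row)) := by
      intro row
      rw [hπapp]
      simp only [map_sum, map_smul]
      refine Finset.sum_congr rfl fun j _ => ?_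
      rw [Submodule.mkQ_apply, Submodule.mkQ_apply, ht]
    refine ⟨t, pi_mem_smul_top _ _ ?_⟩
    rintro (i | l)
    · have h1 := key (gk i)
      rw [hgk0, map_zero, map_zero, Submodule.mkQ_apply, Submodule.Quotient.mk_eq_zero] at h1
      show τ (Sum.inl i) - Φ t (Sum.inl i) ∈ _
      rw [hΦ]
      show (0 : N) - ∑ j, gk i j • t j ∈ _
      rw [zero_sub]
      exact Submodule.neg_mem _ h1
    · have h1 := key (w l)
      rw [hw, Submodule.mkQ_apply, Submodule.mkQ_apply, hs] at h1
      show τ (Sum.inr l) - Φ t (Sum.inr l) ∈ _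
      rw [hΦ]
      show gn l - ∑ j, w l j • t j ∈ _
      exact (Submodule.Quotient.eq _).mp h1.symm
  -- Krull intersection
  have hkrull : (⨅ i : ℕ, I ^ i • ⊤ :
      Submodule R ((Fin b ⊕ Fin c → N) ⧸ LinearMap.range Φ)) = ⊥ :=
    Ideal.iInf_pow_smul_eq_bot_of_le_jacobson I hI
  have hmem : (LinearMap.range Φ).mkQ τ ∈ (⨅ i : ℕ, I ^ i • ⊤ :
      Submodule R ((Fin b ⊕ Fin c → N) ⧸ LinearMap.range Φ)) := by
    rw [Submodule.mem_iInf]
    intro n₀
    obtain ⟨n, hn, s, hs⟩ := h n₀
    obtain ⟨t, ht⟩ := claimB n s hs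
    have h0 : (LinearMap.range Φ).mkQ (Φ t) = 0 :=
      (Submodule.Quotient.mk_eq_zero _).mpr (LinearMap.mem_range_self Φ t)
    have h1 : (LinearMap.range Φ).mkQ τ = (LinearMap.range Φ).mkQ (τ - Φ t) := by
      rw [map_sub, h0, sub_zero]
    have h2 : (LinearMap.range Φ).mkQ (τ - Φ t) ∈
        (I ^ n • ⊤ : Submodule R ((Fin b ⊕ Fin c → N) ⧸ LinearMap.range Φ)) := by
      have h3 := Submodule.mem_map_of_mem (f := (LinearMap.range Φ).mkQ) ht
      rw [Submodule.map_smul''] at h3
      exact Submodule.smul_mono le_rfl le_top h3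
    rw [h1]
    exact Submodule.smul_mono_left (Ideal.pow_le_pow_right hn) h2
  rw [hkrull, Submodule.mem_bot, Submodule.mkQ_apply, Submodule.Quotient.mk_eq_zero] at hmem
  obtain ⟨t, ht⟩ := hmem
  exact claimA t ht

end Groth.Agent.Lib.SplitModPowH4
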