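import Mathlib

/-!
# Injective resolutions lying over a morphism, termwise split (helper9)

Given `α : G ⟶ F` and an injective resolution `I` of `F`, we construct an injective resolution `J` of
`G` and `β : J ⟶ I` over `α` with `β^p` a split epimorphism identified with a projection
`I^p ⊞ K^p ⟶ I^p`.  `J = J₀ ⊞ E(I)` where `E(I)^p = I^p ⊞ I^{p-1}` is contractible.
-/

set_option autoImplicit false
universe v u
open CategoryTheory CategoryTheory.Limits

noncomputable section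

namespace Groth.Agent.Lib.SplitRes

variable {C : Type u} [Category.{v} C] [Abelian C]
open ZeroObject

/-- `I^{p-1}`, with `I^{-1} = 0`. -/
def prevX (I : CochainComplex C ℕ) : ℕ → C
  | 0 => 0
  | p + 1 => I.X p

/-- The differential `I^{p-1} ⟶ I^p`. -/
def prevd (I : CochainComplex C ℕ) : ∀ p, prevX I p ⟶ I.X p
  | 0 => 0
  | p + 1 => I.d p (p + 1)

lemma prevd_d (I : CochainComplex C ℕ) : ∀ p, prevd I p ≫ I.d p (p + 1) = 0
  | 0 => zero_comp
  | p + 1 => I.d_comp_d _ _ _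

lemma prevX_zero_isZero (I : CochainComplex C ℕ) : IsZero (prevX I 0) := isZero_zero C

/-- The identification `I^p = prevX (p+1)`. -/
def ιp (I : CochainComplex C ℕ) (p : ℕ) : I.X p ⟶ prevX I (p + 1) := 𝟙 (I.X p)

/-- The identification `prevX (p+1) = I^p`. -/
def ρp (I : CochainComplex C ℕ) (p : ℕ) : prevX I (p + 1) ⟶ I.X p := 𝟙 (I.X p)

@[reassoc (attr := simp)]
lemma ιp_ρp (I : CochainComplex C ℕ) (p : ℕ) : ιp I p ≫ ρp I p = 𝟙 _ := Category.id_comp _

@[reassoc (attr := simp)]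
lemma ρp_ιp (I : CochainComplex C ℕ) (p : ℕ) : ρp I p ≫ ιp I p = 𝟙 _ := Category.id_comp (𝟙 (I.X p))

@[reassoc (attr := simp)]
lemma ιp_prevd (I : CochainComplex C ℕ) (p : ℕ) : ιp I p ≫ prevd I (p + 1) = I.d p (p + 1) :=
  Category.id_comp _

/-- The differential of `E I`. -/
def Ed (I : CochainComplex C ℕ) (p : ℕ) : I.X p ⊞ prevX I p ⟶ I.X (p + 1) ⊞ prevX I (p + 1) :=
  biprod.fst ≫ ιp I p ≫ biprod.inr

lemma Ed_sq (I : CochainComplex C ℕ) (p : ℕ) : Ed I p ≫ Ed I (p + 1) = 0 := by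
  simp [Ed]

/-- The contracting homotopy of `E I`, on clean types. -/
def hmap (I : CochainComplex C ℕ) (p : ℕ) : I.X (p + 1) ⊞ prevX I (p + 1) ⟶ I.X p ⊞ prevX I p :=
  biprod.snd ≫ ρp I p ≫ biprod.inl

lemma Ed_hmap (I : CochainComplex C ℕ) (p : ℕ) : Ed I p ≫ hmap I p = biprod.fst ≫ biprod.inl := by
  simp [Ed, hmap]

lemma hmap_Ed (I : CochainComplex C ℕ) (p : ℕ) : hmap I p ≫ Ed I p = biprod.snd ≫ biprod.inr := by
  simp [Ed, hmap]

lemma Ed_hmap_zero (I : CochainComplex C ℕ) : Ed I 0 ≫ hmap I 0 = 𝟙 _ := by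
  rw [Ed_hmap, ← biprod.total,
    show (biprod.snd : I.X 0 ⊞ prevX I 0 ⟶ prevX I 0) = 0 from (prevX_zero_isZero I).eq_of_tgt _ _,
    zero_comp, add_zero]

lemma Ed_hmap_succ (I : CochainComplex C ℕ) (p : ℕ) :
    Ed I (p + 1) ≫ hmap I (p + 1) + hmap I p ≫ Ed I p = 𝟙 _ := by
  rw [Ed_hmap, hmap_Ed, biprod.total]

/-- Components of the projection `E I ⟶ I`. -/
def πf (I : CochainComplex C ℕ) (p : ℕ) : I.X p ⊞ prevX I p ⟶ I.X p :=
  biprod.fst + biprod.snd ≫ prevd I p

lemma πf_comm (I : CochainComplex C ℕ) (p : ℕ) :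
    πf I p ≫ I.d p (p + 1) = Ed I p ≫ πf I (p + 1) := by
  simp [πf, Ed, prevd_d]

lemma inl_πf (I : CochainComplex C ℕ) (p : ℕ) :
    (biprod.inl : I.X p ⟶ I.X p ⊞ prevX I p) ≫ πf I p = 𝟙 _ := by
  simp [πf]

/-- The contractible complex `E` with `E^p = I^p ⊞ I^{p-1}`. -/
def E (I : CochainComplex C ℕ) : CochainComplex C ℕ :=
  CochainComplex.of (fun p => I.X p ⊞ prevX I p) (Ed I) (Ed_sq I)

lemma E_d (I : CochainComplex C ℕ) (p : ℕ) : (E I).d p (p + 1) = Ed I p :=
  CochainComplex.of_d (fun p => I.X p ⊞ prevX I p) (Ed I) p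

/-- The projection `E I ⟶ I`. -/
def π (I : CochainComplex C ℕ) : E I ⟶ I where
  f p := πf I p
  comm' := by
    intro i j (hij : i + 1 = j)
    subst hij
    rw [E_d]
    exact πf_comm I i

/-- The section of `(π I).f p`. -/
def sec (I : CochainComplex C ℕ) (p : ℕ) : I.X p ⟶ (E I).X p :=
  (biprod.inl : I.X p ⟶ I.X p ⊞ prevX I p)

@[reassoc]
lemma sec_π (I : CochainComplex C ℕ) (p : ℕ) : sec I p ≫ (π I).f p = 𝟙 _ := inl_πf I p

/-- The contracting homotopy of `E I`. -/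
def hE (I : CochainComplex C ℕ) :
    ∀ i j, (ComplexShape.up ℕ).Rel j i → ((E I).X i ⟶ (E I).X j) := fun i j hij => by
  have h : j + 1 = i := hij
  subst h
  exact hmap I j

lemma hE_succ (I : CochainComplex C ℕ) (j : ℕ) (h : (ComplexShape.up ℕ).Rel j (j + 1)) :
    hE I (j + 1) j h = hmap I j := rfl

lemma null_eq (I : CochainComplex C ℕ) : Homotopy.nullHomotopicMap' (hE I) = 𝟙 (E I) := by
  refine HomologicalComplex.hom_ext _ _ (fun p => ?_)
  cases p with
  | zero =>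
    rw [Homotopy.nullHomotopicMap'_f_of_not_rel_right (show (ComplexShape.up ℕ).Rel 0 (0 + 1) from rfl)
      (by intro l hl; exact Nat.succ_ne_zero l hl), E_d, hE_succ]
    exact Ed_hmap_zero I
  | succ p =>
    rw [Homotopy.nullHomotopicMap'_f (show (ComplexShape.up ℕ).Rel p (p + 1) from rfl)
      (show (ComplexShape.up ℕ).Rel (p + 1) (p + 1 + 1) from rfl), E_d, E_d, hE_succ, hE_succ]
    exact Ed_hmap_succ I p

/-- `E I` is contractible. -/
def homotopyId (I : CochainComplex C ℕ) : Homotopy (𝟙 (E I)) 0 :=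
  (Homotopy.ofEq (null_eq I).symm).trans (Homotopy.nullHomotopy' (hE I))

/-- `K ⟶ K ⊞ E I` is a homotopy equivalence. -/
def hEquiv (K I : CochainComplex C ℕ) : HomotopyEquiv K (K ⊞ E I) where
  hom := biprod.inl
  inv := biprod.fst
  homotopyHomInvId := Homotopy.ofEq (by simp)
  homotopyInvHomId := by
    have H : Homotopy ((biprod.snd : K ⊞ E I ⟶ E I) ≫ 𝟙 (E I) ≫ (biprod.inr : E I ⟶ K ⊞ E I))
        ((biprod.snd : K ⊞ E I ⟶ E I) ≫ 0 ≫ (biprod.inr : E I ⟶ K ⊞ E I)) :=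
      ((homotopyId I).compRight (biprod.inr : E I ⟶ K ⊞ E I)).compLeft (biprod.snd : K ⊞ E I ⟶ E I)
    have e : (biprod.fst ≫ biprod.inl : K ⊞ E I ⟶ K ⊞ E I) +
        (biprod.snd : K ⊞ E I ⟶ E I) ≫ 𝟙 (E I) ≫ (biprod.inr : E I ⟶ K ⊞ E I) = 𝟙 _ := by
      rw [Category.id_comp]
      exact biprod.total
    exact (Homotopy.ofEq (by simp)).trans
      (((Homotopy.refl (biprod.fst ≫ biprod.inl)).add H.symm).trans (Homotopy.ofEq e))

instance quasiIso_inl (K I : CochainComplex C ℕ) : QuasiIso (biprod.inl : K ⟶ K ⊞ E I) :=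
  (hEquiv K I).quasiIso_hom

lemma injective_prevX (I : CochainComplex C ℕ) (hI : ∀ p, Injective (I.X p)) :
    ∀ p, Injective (prevX I p)
  | 0 => (inferInstance : Injective (0 : C))
  | p + 1 => hI p

lemma injective_E (I : CochainComplex C ℕ) (hI : ∀ p, Injective (I.X p)) (p : ℕ) :
    Injective ((E I).X p) := by
  haveI := hI p
  haveI := injective_prevX I hI p
  exact (inferInstance : Injective (I.X p ⊞ prevX I p))

/-- A split epimorphism is, up to an isomorphism of the source, a projection from a biproduct. -/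
lemma exists_iso_biprod_of_section {X Y : C} (b : X ⟶ Y) (s : Y ⟶ X) (hs : s ≫ b = 𝟙 Y) :
    ∃ (K : C) (e : X ≅ Y ⊞ K), b = e.hom ≫ biprod.fst := by
  haveI : Epi b := epi_of_epi_fac hs
  let S : ShortComplex C := ShortComplex.mk (kernel.ι b) b (kernel.condition b)
  have hS : S.Exact := ShortComplex.exact_of_f_is_kernel _ (kernelIsKernel b)
  let σ : S.Splitting :=
    ShortComplex.Splitting.ofExactOfSection S hS s hs (inferInstanceAs (Mono (kernel.ι b)))
  refine ⟨kernel b, σ.isoBinaryBiproduct ≪≫ biprod.braiding _ _, ?_⟩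
  simp [ShortComplex.Splitting.isoBinaryBiproduct, S]

variable [EnoughInjectives C]

theorem main {G F : C} (α : G ⟶ F) (I : InjectiveResolution F) :
    ∃ (J : InjectiveResolution G) (β : J.cocomplex ⟶ I.cocomplex),
      J.ι ≫ β = (CochainComplex.single₀ C).map α ≫ I.ι ∧
      ∀ p : ℕ, ∃ (K : C) (e : J.cocomplex.X p ≅ I.cocomplex.X p ⊞ K), β.f p = e.hom ≫ biprod.fst := by
  let J₀ : InjectiveResolution G := InjectiveResolution.of G
  let β₀ : J₀.cocomplex ⟶ I.cocomplex := InjectiveResolution.desc α I J₀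
  have hβ₀ : J₀.ι ≫ β₀ = (CochainComplex.single₀ C).map α ≫ I.ι :=
    InjectiveResolution.desc_commutes α I J₀
  have hinj : ∀ n, Injective ((J₀.cocomplex ⊞ E I.cocomplex).X n) := fun n => by
    haveI := injective_E I.cocomplex I.injective n
    exact Injective.of_iso (HomologicalComplex.biprodXIso J₀.cocomplex (E I.cocomplex) n).symm
      inferInstance
  haveI : QuasiIso (J₀.ι ≫ (biprod.inl : J₀.cocomplex ⟶ J₀.cocomplex ⊞ E I.cocomplex)) :=
    inferInstance
  let J : InjectiveResolution G :=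
    { cocomplex := J₀.cocomplex ⊞ E I.cocomplex
      injective := hinj
      ι := J₀.ι ≫ biprod.inl }
  let β : J₀.cocomplex ⊞ E I.cocomplex ⟶ I.cocomplex := biprod.desc β₀ (π I.cocomplex)
  refine ⟨J, β, ?_, fun p => ?_⟩
  · show (J₀.ι ≫ biprod.inl) ≫ biprod.desc β₀ (π I.cocomplex) = _
    rw [Category.assoc, biprod.inl_desc, hβ₀]
  · refine exists_iso_biprod_of_section (β.f p)
      (sec I.cocomplex p ≫ (biprod.inr : E I.cocomplex ⟶ J₀.cocomplex ⊞ E I.cocomplex).f p) ?_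
    rw [Category.assoc, ← HomologicalComplex.comp_f, biprod.inr_desc, sec_π]

end Groth.Agent.Lib.SplitRes

end
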