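import Mathlib
import Groth.Prelude.Def_Coh
import Groth.Prelude.Def_UnitsSh
import Groth.Agent.Lib.PicRel5_helper8
import Groth.Agent.Lib.ExtSplit_helper8
import Groth.Agent.Lib.Leray_helper9
import Groth.Agent.Lib.RpushVanish_helper9

/-!
# Split square-zero thickenings: `O_{X'}^× ≅ j_* O_Z ⊕ j_* O_Z^×` (helper8)

`j : Z ⟶ X'` with a retraction `ρ : X' ⟶ Z` inverse to `j` on points, and a global function `η`
with `η² = 0`, `j^♯ η = 0`, such that locally every function on `X'` is uniquely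
`ρ^♯ r + η ρ^♯ s`.
APPEND-ONLY once landed.
-/

set_option autoImplicit false
universe u
open CategoryTheory CategoryTheory.Limits AlgebraicGeometry Opposite TopologicalSpace

namespace Groth.Agent.Lib.SplitThickH8

open Groth.Agent.Lib.PicRelH8 Groth.Agent.Lib.Cech Groth.Agent.Lib.PicZarH8

section Algebra

variable {R B : Type*} [CommRing R] [CommRing B] (g : R →+* B) (η : B) (hη : η * η = 0)
  (hS : ∀ u : B, ∃ r s : R, u = g r + η * g s)
  (hI : ∀ r s : R, g r + η * g s = 0 → r = 0 ∧ s = 0)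

include hI in
lemma repr_ext {r s r' s' : R} (h : g r + η * g s = g r' + η * g s') : r = r' ∧ s = s' := by
  have h1 : g (r - r') + η * g (s - s') = 0 := by
    rw [map_sub, map_sub]
    linear_combination h
  obtain ⟨h2, h3⟩ := hI _ _ h1
  exact ⟨sub_eq_zero.1 h2, sub_eq_zero.1 h3⟩

/-- the unit `1 + η g b` -/
def unitOf (b : R) : Bˣ where
  val := 1 + η * g b
  inv := 1 - η * g b
  val_inv := by linear_combination (-(g b * g b)) * hη
  inv_val := by linear_combination (-(g b * g b)) * hη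

lemma unitOf_add (b b' : R) : unitOf g η hη (b + b') = unitOf g η hη b * unitOf g η hη b' := by
  refine Units.ext ?_
  show 1 + η * g (b + b') = (1 + η * g b) * (1 + η * g b')
  rw [map_add]
  linear_combination (-(g b * g b')) * hη

include hS hI in
/-- every unit is `g a (1 + η g b)` -/
lemma unit_decomp (u : Bˣ) : ∃ (a : Rˣ) (b : R), u = Units.map g.toMonoidHom a * unitOf g η hη b := by
  obtain ⟨r, s, hrs⟩ := hS u.val
  obtain ⟨r', s', hrs'⟩ := hS u.inv
  have h1 : g (r * r') + η * g (r * s' + r' * s) = g 1 + η * g 0 := by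
    have h2 : u.val * u.inv = 1 := u.val_inv
    rw [hrs, hrs'] at h2
    rw [map_mul, map_add, map_mul, map_mul, map_one, map_zero]
    linear_combination h2 - (g s * g s') * hη
  obtain ⟨h3, -⟩ := repr_ext g η hI h1
  refine ⟨⟨r, r', h3, (mul_comm _ _).trans h3⟩, s * r', Units.ext ?_⟩
  show u.val = g r * (1 + η * g (s * r'))
  rw [hrs, map_mul]
  have h4 : g r * g r' = 1 := by rw [← map_mul, h3, map_one]
  linear_combination (-(η * g s)) * h4

end Algebra

section ExtKer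

open Abelian

variable {C : Type*} [Category C] [Abelian C] [HasExt C] {A K E : C} (ι : A ⟶ E) (s : K ⟶ E)
  (c : E ⟶ K)

/-- if `E = A ⊕ K` via `(ι, s)` and `c : E → K` is the projection, then the kernel of
`Ext(G, E) → Ext(G, K)` is `Ext(G, A)` -/
theorem nonempty_ker_addEquiv [HasBinaryBiproduct A K] (h : IsIso (biprod.desc ι s))
    (hιc : ι ≫ c = 0) (hsc : s ≫ c = 𝟙 K) (G : C) (n : ℕ) :
    Nonempty (((Ext.mk₀ c).postcomp G (add_zero n)).ker ≃+ Ext G A n) := by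
  let θ : A ⊞ K ≅ E := asIso (biprod.desc ι s)
  have hθ : θ.hom = biprod.desc ι s := rfl
  let r : E ⟶ A := θ.inv ≫ biprod.fst
  have hι : ι = biprod.inl ≫ θ.hom := by rw [hθ, biprod.inl_desc]
  have hs : s = biprod.inr ≫ θ.hom := by rw [hθ, biprod.inr_desc]
  have hc : c = θ.inv ≫ biprod.snd := by
    rw [Iso.eq_inv_comp, hθ]
    apply biprod.hom_ext'
    · rw [biprod.inl_desc_assoc, hιc, biprod.inl_snd]
    · rw [biprod.inr_desc_assoc, hsc, biprod.inr_snd]
  have h1 : ι ≫ r = 𝟙 A := by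
    rw [hι, Category.assoc, Iso.hom_inv_id_assoc, biprod.inl_fst]
  have h5 : r ≫ ι + c ≫ s = 𝟙 E := by
    rw [hι, hs, hc]
    simp only [r, Category.assoc]
    rw [← Preadditive.comp_add, ← Category.assoc biprod.fst, ← Category.assoc biprod.snd,
      ← Preadditive.add_comp, biprod.total, Category.id_comp, Iso.inv_hom_id]
  have hmem : ∀ y : Ext G A n, y.comp (Ext.mk₀ ι) (add_zero n) ∈
      ((Ext.mk₀ c).postcomp G (add_zero n)).ker := by
    intro y
    rw [AddMonoidHom.mem_ker]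
    show (y.comp (Ext.mk₀ ι) (add_zero n)).comp (Ext.mk₀ c) (add_zero n) = 0
    rw [Ext.comp_assoc_of_third_deg_zero, Ext.mk₀_comp_mk₀, hιc, Ext.mk₀_zero, Ext.comp_zero]
  refine ⟨
    { toFun := fun x => x.1.comp (Ext.mk₀ r) (add_zero n)
      invFun := fun y => ⟨y.comp (Ext.mk₀ ι) (add_zero n), hmem y⟩
      left_inv := ?_
      right_inv := ?_
      map_add' := ?_ }⟩
  · rintro ⟨x, hx⟩
    apply Subtype.ext
    show (x.comp (Ext.mk₀ r) (add_zero n)).comp (Ext.mk₀ ι) (add_zero n) = x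
    have hx' : x.comp (Ext.mk₀ c) (add_zero n) = 0 := AddMonoidHom.mem_ker.1 hx
    have h6 : x.comp (Ext.mk₀ (r ≫ ι + c ≫ s)) (add_zero n) = x := by
      rw [h5, Ext.comp_mk₀_id]
    rw [Ext.mk₀_add, Ext.comp_add, ← Ext.mk₀_comp_mk₀ c s, ← Ext.comp_assoc_of_third_deg_zero,
      hx', Ext.zero_comp, add_zero] at h6
    rw [Ext.comp_assoc_of_third_deg_zero, Ext.mk₀_comp_mk₀]
    exact h6
  · intro y
    show (y.comp (Ext.mk₀ ι) (add_zero n)).comp (Ext.mk₀ r) (add_zero n) = y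
    rw [Ext.comp_assoc_of_third_deg_zero, Ext.mk₀_comp_mk₀, h1, Ext.comp_mk₀_id]
  · rintro ⟨x, hx⟩ ⟨y, hy⟩
    show (x + y).comp (Ext.mk₀ r) (add_zero n) =
      x.comp (Ext.mk₀ r) (add_zero n) + y.comp (Ext.mk₀ r) (add_zero n)
    rw [Ext.add_comp]

end ExtKer

section Geom

lemma appLE_of_eq {X Y : Scheme.{u}} {f g : X ⟶ Y} (h : f = g) (U : Y.Opens) (V : X.Opens)
    (e : V ≤ f ⁻¹ᵁ U) : f.appLE U V e = g.appLE U V (h ▸ e) := by
  subst h
  rfl

lemma id_appLE {X : Scheme.{u}} (U V : X.Opens) (e : V ≤ (𝟙 X : X ⟶ X) ⁻¹ᵁ U) :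
    Scheme.Hom.appLE (𝟙 X : X ⟶ X) U V e = X.presheaf.map (homOfLE e).op := by
  simp [Scheme.Hom.appLE]
  exact Category.id_comp _

variable {X' Z : Scheme.{u}} (j : Z ⟶ X') (ρ : X' ⟶ Z) (hjρ : j ≫ ρ = 𝟙 Z)
  (hρj : ∀ y : X', j (ρ y) = y) (η : Γ(X', ⊤)) (hη : η * η = 0)
  (hjη : j.appTop.hom η = 0)

include hρj in
lemma le_pre (U : X'.Opens) : U ≤ ρ ⁻¹ᵁ (j ⁻¹ᵁ U) := fun y hy => by
  show j (ρ y) ∈ U
  rw [hρj]
  exact hy

/-- `ρ^♯` over `U` -/
noncomputable def rhoU (U : X'.Opens) : Γ(Z, j ⁻¹ᵁ U) →+* Γ(X', U) :=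
  (ρ.appLE (j ⁻¹ᵁ U) U (le_pre j ρ hρj U)).hom

/-- `η` restricted to `U` -/
noncomputable def etaU (U : X'.Opens) : Γ(X', U) :=
  (X'.presheaf.map (homOfLE (le_top : U ≤ ⊤)).op).hom η

include hη in
lemma etaU_sq (U : X'.Opens) : etaU η U * etaU η U = 0 := by
  unfold etaU
  rw [← map_mul, hη, map_zero]

lemma etaU_res {U V : X'.Opens} (h : V ≤ U) :
    (X'.presheaf.map (homOfLE h).op).hom (etaU η U) = etaU η V := by
  unfold etaU
  rw [← CommRingCat.comp_apply, ← Functor.map_comp]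
  rfl

lemma rhoU_res {U V : X'.Opens} (h : V ≤ U) (r : Γ(Z, j ⁻¹ᵁ U)) :
    (X'.presheaf.map (homOfLE h).op).hom (rhoU j ρ hρj U r) =
      rhoU j ρ hρj V ((Z.presheaf.map (homOfLE (pre_mono j h)).op).hom r) := by
  have h1 := Scheme.Hom.appLE_map ρ (le_pre j ρ hρj U) (homOfLE h).op
  have h2 := Scheme.Hom.map_appLE ρ (le_pre j ρ hρj V) (homOfLE (pre_mono j h)).op
  have h3 := congrArg (fun φ => φ.hom r) (h1.trans h2.symm)
  exact h3

include hjρ in
lemma j_rhoU (U : X'.Opens) (r : Γ(Z, j ⁻¹ᵁ U)) : (j.app U).hom (rhoU j ρ hρj U r) = r := by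
  have h1 : ρ.appLE (j ⁻¹ᵁ U) U (le_pre j ρ hρj U) ≫ j.app U = 𝟙 _ := by
    rw [Scheme.Hom.app_eq_appLE, Scheme.Hom.appLE_comp_appLE, appLE_of_eq hjρ, id_appLE]
    exact Z.presheaf.map_id _
  exact congrArg (fun φ => φ.hom r) h1

include hjη in
lemma j_etaU (U : X'.Opens) : (j.app U).hom (etaU η U) = 0 := by
  have h1 := j.naturality (homOfLE (le_top : U ≤ ⊤)).op
  have h2 := congrArg (fun φ => φ.hom η) h1
  have h3 : (j.app U).hom (etaU η U) =
      (Z.presheaf.map ((Opens.map j.base).map (homOfLE (le_top : U ≤ ⊤))).op).hom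
        (j.appTop.hom η) := h2
  rw [h3, hjη]
  exact map_zero _

/-- the unit `1 + η ρ^♯ b` over `U` -/
noncomputable def unitU (U : X'.Opens) (b : Γ(Z, j ⁻¹ᵁ U)) : Γ(X', U)ˣ :=
  unitOf (rhoU j ρ hρj U) (etaU η U) (etaU_sq η hη U) b

lemma unitU_val (U : X'.Opens) (b : Γ(Z, j ⁻¹ᵁ U)) :
    (unitU j ρ hρj η hη U b).val = 1 + etaU η U * rhoU j ρ hρj U b := rfl

lemma unitU_add (U : X'.Opens) (b b' : Γ(Z, j ⁻¹ᵁ U)) :
    unitU j ρ hρj η hη U (b + b') = unitU j ρ hρj η hη U b * unitU j ρ hρj η hη U b' :=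
  unitOf_add _ _ _ b b'

lemma unitU_res {U V : X'.Opens} (h : V ≤ U) (b : Γ(Z, j ⁻¹ᵁ U)) :
    unitU j ρ hρj η hη V ((Z.presheaf.map (homOfLE (pre_mono j h)).op).hom b) =
      Units.map (X'.presheaf.map (homOfLE h).op).hom.toMonoidHom (unitU j ρ hρj η hη U b) := by
  refine Units.ext ?_
  show 1 + etaU η V * rhoU j ρ hρj V ((Z.presheaf.map (homOfLE (pre_mono j h)).op).hom b) =
    (X'.presheaf.map (homOfLE h).op).hom (1 + etaU η U * rhoU j ρ hρj U b)
  rw [map_add, map_one, map_mul, etaU_res η h, rhoU_res j ρ hρj h]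

/-- `j_* O_Z` as an abelian sheaf on `X'` -/
noncomputable abbrev OZ : CohTop.Ab X'.toTopCat :=
  (CohTop.push j.base).obj (Coh.toAb (Coh.structureModule Z))

/-- a unit of `Γ(X', U)` as a section of `O_{X'}^×` -/
def sX (U : X'.Opens) (a : Γ(X', U)ˣ) : (UnitsSh.unitsAb X').obj.obj (op U) :=
  UnitsSh.sectOfUnit (X := X'.toTopCat) (O := X'.sheaf.obj) (U := op U) a

/-- a section of `O_{X'}^×` as a unit -/
def uX (U : X'.Opens) (a : (UnitsSh.unitsAb X').obj.obj (op U)) : Γ(X', U)ˣ :=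
  UnitsSh.unitOfSect (X := X'.toTopCat) (O := X'.sheaf.obj) (U := op U) a

/-- components of `ι : j_* O_Z → O_{X'}^×`, `b ↦ 1 + η ρ^♯ b` -/
noncomputable def iotaApp (U : (Opens X')ᵒᵖ) :
    (OZ j).obj.obj U →+ (UnitsSh.unitsAb X').obj.obj U :=
  AddMonoidHom.mk' (fun b => sX U.unop (unitU j ρ hρj η hη U.unop
      (OmegaSh.fnSect Z (j ⁻¹ᵁ U.unop) b)))
    (fun b b' => by
      have h := unitU_add j ρ hρj η hη U.unop (OmegaSh.fnSect Z (j ⁻¹ᵁ U.unop) b)
        (OmegaSh.fnSect Z (j ⁻¹ᵁ U.unop) b')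
      exact (congrArg (fun z => sX U.unop (unitU j ρ hρj η hη U.unop z))
        (map_add (OmegaSh.fnSect Z (j ⁻¹ᵁ U.unop)) b b')).trans (congrArg (sX U.unop) h))

/-- `ι : j_* O_Z → O_{X'}^×`, `b ↦ 1 + η ρ^♯ b` -/
noncomputable def iota : OZ j ⟶ UnitsSh.unitsAb X' :=
  ⟨{ app := fun U => AddCommGrpCat.ofHom (iotaApp j ρ hρj η hη U)
     naturality := by
       intro U V f
       ext t
       have h := unitU_res j ρ hρj η hη (leOfHom f.unop) (OmegaSh.fnSect Z (j ⁻¹ᵁ U.unop) t)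
       exact congrArg (sX V.unop) h }⟩

lemma uX_iota (U : X'.Opens) (b : (OZ j).obj.obj (op U)) :
    uX U (((iota j ρ hρj η hη).hom.app (op U)).hom b) =
      unitU j ρ hρj η hη U (OmegaSh.fnSect Z (j ⁻¹ᵁ U) b) := rfl

/-- components of `s_ρ : j_* O_Z^× → O_{X'}^×` -/
noncomputable def sRhoApp (U : (Opens X')ᵒᵖ) :
    (EZ j).obj.obj U →+ (UnitsSh.unitsAb X').obj.obj U :=
  AddMonoidHom.mk' (fun c => sX U.unop (Units.map (rhoU j ρ hρj U.unop).toMonoidHom (uR j U.unop c)))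
    (fun c c' => by
      have h := map_mul (Units.map (rhoU j ρ hρj U.unop).toMonoidHom) (uR j U.unop c)
        (uR j U.unop c')
      exact congrArg (sX U.unop) h)

/-- `s_ρ : j_* O_Z^× → O_{X'}^×`, `a ↦ ρ^♯ a` -/
noncomputable def sRho : EZ j ⟶ UnitsSh.unitsAb X' :=
  ⟨{ app := fun U => AddCommGrpCat.ofHom (sRhoApp j ρ hρj U)
     naturality := by
       intro U V f
       ext t
       have h : Units.map (rhoU j ρ hρj V.unop).toMonoidHom
           (uR j V.unop (res (EZ j).obj (leOfHom f.unop) t)) =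
           Units.map (X'.presheaf.map (homOfLE (leOfHom f.unop)).op).hom.toMonoidHom
             (Units.map (rhoU j ρ hρj U.unop).toMonoidHom (uR j U.unop t)) := by
         refine Units.ext ?_
         exact (rhoU_res j ρ hρj (leOfHom f.unop) _).symm
       exact congrArg (sX V.unop) h }⟩

lemma uX_sRho (U : X'.Opens) (c : (EZ j).obj.obj (op U)) :
    uX U (((sRho j ρ hρj).hom.app (op U)).hom c) =
      Units.map (rhoU j ρ hρj U).toMonoidHom (uR j U c) := rfl

lemma uR_comap' (V : X'.Opens) (a : (UnitsSh.unitsAb X').obj.obj (op V)) :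
    uR j V (((UnitsSh.comap j).hom.app (op V)).hom a) =
      Units.map (j.app V).hom.toMonoidHom (uX V a) := rfl

include hjρ in
theorem sRho_comap : sRho j ρ hρj ≫ UnitsSh.comap j = 𝟙 (EZ j) := by
  apply Sheaf.hom_ext
  ext U c
  apply uR_injective j U.unop
  show uR j U.unop (((UnitsSh.comap j).hom.app (op U.unop)).hom
    (((sRho j ρ hρj).hom.app (op U.unop)).hom c)) = uR j U.unop c
  rw [uR_comap', uX_sRho]
  refine Units.ext ?_
  exact j_rhoU j ρ hjρ hρj U.unop _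

include hjη in
theorem iota_comap : iota j ρ hρj η hη ≫ UnitsSh.comap j = 0 := by
  apply Sheaf.hom_ext
  ext U b
  apply uR_injective j U.unop
  show uR j U.unop (((UnitsSh.comap j).hom.app (op U.unop)).hom
    (((iota j ρ hρj η hη).hom.app (op U.unop)).hom b)) = 1
  rw [uR_comap', uX_iota]
  refine Units.ext ?_
  show (j.app U.unop).hom (1 + etaU η U.unop * rhoU j ρ hρj U.unop _) = 1
  rw [map_add, map_one, map_mul, j_etaU j η hjη, zero_mul, add_zero]

section Iso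

open Groth.Agent.Lib.ExtSplitH8

variable (hD : ∀ (V : X'.Opens) (x : X'), x ∈ V → ∃ U : X'.Opens, x ∈ U ∧ U ≤ V ∧
  (∀ u : Γ(X', U), ∃ r s : Γ(Z, j ⁻¹ᵁ U),
    u = rhoU j ρ hρj U r + etaU η U * rhoU j ρ hρj U s) ∧
  (∀ r s : Γ(Z, j ⁻¹ᵁ U), rhoU j ρ hρj U r + etaU η U * rhoU j ρ hρj U s = 0 → r = 0 ∧ s = 0))

lemma uX_injective (U : X'.Opens) : Function.Injective (uX (X' := X') U) := fun _ _ h => h

lemma uX_add (U : X'.Opens) (a b : (UnitsSh.unitsAb X').obj.obj (op U)) :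
    uX U (a + b) = uX U a * uX U b := rfl

include hjρ hjη hD in
/-- **`O_{X'}^× = j_* O_Z ⊕ j_* O_Z^×`** -/
theorem isIso_desc : IsIso (biprod.desc (iota j ρ hρj η hη) (sRho j ρ hρj)) := by
  apply isIso_biprod_desc
  · intro V u x hx
    obtain ⟨U, hxU, hle, hS, hI⟩ := hD V x hx
    refine ⟨U, hle, hxU, ?_⟩
    obtain ⟨a, b, hab⟩ := unit_decomp (rhoU j ρ hρj U) (etaU η U) (etaU_sq η hη U) hS hI
      (uX U (res (UnitsSh.unitsAb X').obj hle u))
    refine ⟨OmegaSh.strSect Z (j ⁻¹ᵁ U) b, sR j U a, ?_⟩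
    apply uX_injective
    rw [hab, uX_add, mul_comm]
    rfl
  · intro V a c h
    have hc : c = 0 := by
      have h1 := congrArg (fun z => ((UnitsSh.comap j).hom.app (op V)).hom z) h
      simp only [map_add, map_zero] at h1
      rw [← app_comp'', ← app_comp'', sRho_comap j ρ hjρ hρj, iota_comap j ρ hρj η hη hjη] at h1
      rw [app_id] at h1
      have h0 : (((0 : OZ j ⟶ EZ j).hom.app (op V)).hom a) = 0 := rfl
      rw [h0, zero_add] at h1
      exact h1
    refine ⟨?_, hc⟩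
    rw [hc, map_zero, add_zero] at h
    choose U hxU hle hS hI using hD V
    apply ext_of_cover (OZ j) (fun x : V => U x.1 x.2) V (fun x => hle x.1 x.2)
      (fun x hx => Opens.mem_iSup.2 ⟨⟨x, hx⟩, hxU x hx⟩)
    intro x
    have h1 := congrArg (res (UnitsSh.unitsAb X').obj (hle x.1 x.2)) h
    rw [map_zero, ← res_app] at h1
    have h2 := congrArg (fun z => (uX (U x.1 x.2) z).val) h1
    simp only [uX_iota] at h2
    have h3 : (1 : Γ(X', U x.1 x.2)) + etaU η (U x.1 x.2) * rhoU j ρ hρj (U x.1 x.2)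
        (OmegaSh.fnSect Z (j ⁻¹ᵁ U x.1 x.2) (res (OZ j).obj (hle x.1 x.2) a)) = 1 := h2
    have h4 : rhoU j ρ hρj (U x.1 x.2) 0 + etaU η (U x.1 x.2) * rhoU j ρ hρj (U x.1 x.2)
        (OmegaSh.fnSect Z (j ⁻¹ᵁ U x.1 x.2) (res (OZ j).obj (hle x.1 x.2) a)) = 0 := by
      rw [map_zero, zero_add]
      exact add_left_cancel (h3.trans (add_zero 1).symm)
    rw [map_zero]
    exact (hI x.1 x.2 _ _ h4).2

include hjρ hη hjη hD in
/-- **the kernel of `H^n(X', O^×) → H^n(X', j_* O_Z^×)` is `H^n(Z, O_Z)`** for a split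
square-zero thickening -/
theorem nonempty_ker_H_comap (hj : Topology.IsClosedEmbedding j.base) (n : ℕ) :
    Nonempty ((Sheaf.H.map (UnitsSh.comap j) n).ker ≃+
      Coh.HH Z (Coh.structureModule Z) n) := by
  obtain ⟨e1⟩ := nonempty_ker_addEquiv (iota j ρ hρj η hη) (sRho j ρ hρj) (UnitsSh.comap j)
    (isIso_desc j ρ hjρ hρj η hη hjη hD) (iota_comap j ρ hρj η hη hjη)
    (sRho_comap j ρ hjρ hρj)
    ((constantSheaf (Opens.grothendieckTopology X'.toTopCat) AddCommGrpCat.{u}).obj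
      (AddCommGrpCat.of (ULift.{u} ℤ))) n
  obtain ⟨e2⟩ := _root_.Leray.nonempty_H_addEquiv_push j.base
    (Coh.toAb (Coh.structureModule Z))
    (fun q => _root_.RpushVanish.isZero_Rpush_succ_of_isClosedEmbedding j.base
      hj (Coh.toAb (Coh.structureModule Z)) q) n
  exact ⟨e1.trans e2.symm⟩

end Iso

end Geom

end Groth.Agent.Lib.SplitThickH8
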