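import Mathlib
import Groth.Agent.Lib.SplitThick1_helper8
import Groth.Agent.Lib.DualSch2_helper8
import Groth.Agent.Lib.DualSch3_helper8

/-!
# The dual-number thickening `X₀ ⊂ X₀ ×_k k[ε]` is split (helper8)
APPEND-ONLY once landed.
-/

set_option autoImplicit false
universe u
open CategoryTheory CategoryTheory.Limits AlgebraicGeometry Opposite TopologicalSpace

namespace Groth.Agent.Lib.SplitThickH8

open TrivSqZeroExt DualNumber Groth.Agent.Lib.DualSchH8 Groth.Agent.Lib.PicRelH8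
  Groth.Agent.Lib.Cech

variable (k : Type u) [CommRing k] (X : Scheme.{u}) [X.Over (Spec (CommRingCat.of k))]

/-- the closed fibre `ε = 0` of `X_ε` -/
noncomputable abbrev Zz : Scheme.{u} := pullback (wX k X) (zk k)

/-- its inclusion -/
noncomputable abbrev jz : Zz k X ⟶ Xe k X := pullback.fst (wX k X) (zk k)

/-- `X ≅ Z` -/
noncomputable def tau : X ≅ Zz k X := (isPullback_sigma k X).isoPullback

lemma tau_jz : (tau k X).hom ≫ jz k X = sigma k X :=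
  IsPullback.isoPullback_hom_fst _

/-- the retraction `X_ε → Z` -/
noncomputable def rhoz : Xe k X ⟶ Zz k X := pX k X ≫ (tau k X).hom

lemma jz_rhoz : jz k X ≫ rhoz k X = 𝟙 (Zz k X) := by
  rw [← cancel_epi (tau k X).hom, rhoz, ← Category.assoc, ← Category.assoc, tau_jz, sigma_pX,
    Category.id_comp, Category.comp_id]

lemma rhoz_jz_apply (y : Xe k X) : jz k X (rhoz k X y) = y := by
  have h1 : jz k X (rhoz k X y) = ((tau k X).hom ≫ jz k X) (pX k X y) := rfl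
  rw [h1, tau_jz, pX_sigma_apply]

/-- the global function `ε` on `X_ε` -/
noncomputable def etaz : Γ(Xe k X, ⊤) := eta k (⊤ : X.Opens)

lemma etaz_sq : etaz k X * etaz k X = 0 := eta_sq k ⊤

instance isClosedImmersion_zk : IsClosedImmersion (zk k) := by
  apply IsClosedImmersion.spec_of_surjective
  intro x
  exact ⟨TrivSqZeroExt.inl x, TrivSqZeroExt.fst_inl k x⟩

instance isClosedImmersion_jz : IsClosedImmersion (jz k X) :=
  MorphismProperty.pullback_fst (P := @IsClosedImmersion) _ _ (isClosedImmersion_zk k)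

lemma jz_etaz : (jz k X).appTop.hom (etaz k X) = 0 := by
  have h0 : (wX k X).appLE ⊤ (pX k X ⁻¹ᵁ ⊤) (fun _ _ => trivial) = (wX k X).appTop := by
    rw [Scheme.Hom.appLE]
    show (wX k X).app ⊤ ≫ (Xe k X).presheaf.map (𝟙 _) = _
    rw [CategoryTheory.Functor.map_id, Category.comp_id]
  have h1 : (wX k X).appTop ≫ (jz k X).appTop =
      (zk k).appTop ≫ (pullback.snd (wX k X) (zk k)).appTop := by
    rw [← Scheme.Hom.comp_appTop, ← Scheme.Hom.comp_appTop, pullback.condition]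
  have h2 := Scheme.ΓSpecIso_naturality (CommRingCat.ofHom (TrivSqZeroExt.fstHom k k k).toRingHom)
  have h3 : (Scheme.ΓSpecIso (CommRingCat.of (DualNumber k))).inv ≫ (zk k).appTop =
      CommRingCat.ofHom (TrivSqZeroExt.fstHom k k k).toRingHom ≫
        (Scheme.ΓSpecIso (CommRingCat.of k)).inv := by
    rw [Iso.inv_comp_eq, ← Category.assoc, Iso.eq_comp_inv]
    exact h2
  have h4 : ((Scheme.ΓSpecIso (CommRingCat.of (DualNumber k))).inv ≫
      (wX k X).appTop) ≫ (jz k X).appTop =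
      CommRingCat.ofHom (TrivSqZeroExt.fstHom k k k).toRingHom ≫
        (Scheme.ΓSpecIso (CommRingCat.of k)).inv ≫
          (pullback.snd (wX k X) (zk k)).appTop := by
    rw [Category.assoc, h1, ← Category.assoc, h3, Category.assoc]
  have h5 := congrArg (fun φ => φ.hom (ε : DualNumber k)) h4
  have h6 : etaz k X = ((Scheme.ΓSpecIso (CommRingCat.of (DualNumber k))).inv ≫
      (wX k X).appTop).hom (ε : DualNumber k) :=
    congrArg (fun φ : Γ(Spec (CommRingCat.of (DualNumber k)), ⊤) ⟶ Γ(Xe k X, pX k X ⁻¹ᵁ ⊤) =>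
      ((Scheme.ΓSpecIso (CommRingCat.of (DualNumber k))).inv ≫ φ).hom (ε : DualNumber k)) h0
  rw [h6]
  refine h5.trans ?_
  show ((Scheme.ΓSpecIso (CommRingCat.of k)).inv ≫
    (pullback.snd (wX k X) (zk k)).appTop).hom (TrivSqZeroExt.fst (ε : DualNumber k)) = 0
  rw [DualNumber.fst_eps, map_zero]

section Local

variable {X} (W : X.Opens)

lemma le_tau : W ≤ (tau k X).hom ⁻¹ᵁ (jz k X ⁻¹ᵁ (pX k X ⁻¹ᵁ W)) := fun w hw => by
  show pX k X (((tau k X).hom ≫ jz k X) w) ∈ W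
  rw [tau_jz, sigma_pX_apply]
  exact hw

lemma le_tau_inv : jz k X ⁻¹ᵁ (pX k X ⁻¹ᵁ W) ≤ (tau k X).inv ⁻¹ᵁ W := fun z hz => by
  obtain ⟨w, rfl⟩ : ∃ w, (tau k X).hom w = z := ⟨(tau k X).inv z, by
    have h := congrArg (fun φ : Zz k X ⟶ Zz k X => φ z) (tau k X).inv_hom_id
    exact h⟩
  have h1 : pX k X (((tau k X).hom ≫ jz k X) w) ∈ W := hz
  rw [tau_jz, sigma_pX_apply] at h1
  show (tau k X).inv ((tau k X).hom w) ∈ W
  have h2 : (tau k X).inv ((tau k X).hom w) = w := by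
    have h := congrArg (fun φ : X ⟶ X => φ w) (tau k X).hom_inv_id
    exact h
  rw [h2]
  exact h1

/-- `τ^♯ : Γ(Z, j⁻¹p⁻¹W) → Γ(X, W)` -/
noncomputable def phiW : Γ(Zz k X, jz k X ⁻¹ᵁ (pX k X ⁻¹ᵁ W)) →+* Γ(X, W) :=
  ((tau k X).hom.appLE _ W (le_tau k W)).hom

/-- its inverse -/
noncomputable def psiW : Γ(X, W) →+* Γ(Zz k X, jz k X ⁻¹ᵁ (pX k X ⁻¹ᵁ W)) :=
  ((tau k X).inv.appLE W _ (le_tau_inv k W)).hom

lemma phiW_psiW (r : Γ(X, W)) : phiW k W (psiW k W r) = r := by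
  have h1 : (tau k X).inv.appLE W _ (le_tau_inv k W) ≫ (tau k X).hom.appLE _ W (le_tau k W) =
      𝟙 _ := by
    rw [Scheme.Hom.appLE_comp_appLE, appLE_of_eq (tau k X).hom_inv_id, id_appLE]
    exact X.presheaf.map_id _
  exact congrArg (fun φ => φ.hom r) h1

lemma psiW_phiW (r : Γ(Zz k X, jz k X ⁻¹ᵁ (pX k X ⁻¹ᵁ W))) : psiW k W (phiW k W r) = r := by
  have h1 : (tau k X).hom.appLE _ W (le_tau k W) ≫ (tau k X).inv.appLE W _ (le_tau_inv k W) =
      𝟙 _ := by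
    rw [Scheme.Hom.appLE_comp_appLE, appLE_of_eq (tau k X).inv_hom_id, id_appLE]
    exact (Zz k X).presheaf.map_id _
  exact congrArg (fun φ => φ.hom r) h1

lemma rhoU_eq (r : Γ(Zz k X, jz k X ⁻¹ᵁ (pX k X ⁻¹ᵁ W))) :
    rhoU (jz k X) (rhoz k X) (rhoz_jz_apply k X) (pX k X ⁻¹ᵁ W) r = gW k W (phiW k W r) := by
  have h1 : (tau k X).hom.appLE _ W (le_tau k W) ≫ (pX k X).appLE W (pX k X ⁻¹ᵁ W) le_rfl =
      (rhoz k X).appLE (jz k X ⁻¹ᵁ (pX k X ⁻¹ᵁ W)) (pX k X ⁻¹ᵁ W)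
        (le_pre (jz k X) (rhoz k X) (rhoz_jz_apply k X) _) := by
    rw [Scheme.Hom.appLE_comp_appLE]
    rfl
  rw [Scheme.Hom.appLE_eq_app] at h1
  exact (congrArg (fun φ => φ.hom r) h1).symm

lemma etaU_eq : etaU (etaz k X) (pX k X ⁻¹ᵁ W) = eta k W :=
  eta_res k (le_top : W ≤ ⊤)

end Local

/-- the local decomposition property for the dual-number thickening -/
theorem hD_dual (V : (Xe k X).Opens) (x : Xe k X) (hx : x ∈ V) :
    ∃ U : (Xe k X).Opens, x ∈ U ∧ U ≤ V ∧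
      (∀ u : Γ(Xe k X, U), ∃ r s : Γ(Zz k X, jz k X ⁻¹ᵁ U),
        u = rhoU (jz k X) (rhoz k X) (rhoz_jz_apply k X) U r +
          etaU (etaz k X) U * rhoU (jz k X) (rhoz k X) (rhoz_jz_apply k X) U s) ∧
      (∀ r s : Γ(Zz k X, jz k X ⁻¹ᵁ U),
        rhoU (jz k X) (rhoz k X) (rhoz_jz_apply k X) U r +
          etaU (etaz k X) U * rhoU (jz k X) (rhoz k X) (rhoz_jz_apply k X) U s = 0 →
        r = 0 ∧ s = 0) := by
  obtain ⟨U₀, hxU₀, hle₀⟩ := loc_pX k X x V hx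
  obtain ⟨_, ⟨W, hW : IsAffineOpen W, rfl⟩, hxW, hle⟩ :=
    (X.isBasis_affineOpens).exists_subset_of_mem_open hxU₀ U₀.isOpen
  refine ⟨pX k X ⁻¹ᵁ W, hxW, (pre_mono (pX k X) hle).trans hle₀, ?_, ?_⟩
  · intro u
    obtain ⟨r, s, hrs⟩ := exists_repr_W k hW u
    refine ⟨psiW k W r, psiW k W s, ?_⟩
    rw [rhoU_eq, rhoU_eq, etaU_eq, phiW_psiW, phiW_psiW]
    exact hrs
  · intro r s h
    rw [rhoU_eq, rhoU_eq, etaU_eq] at h
    obtain ⟨h1, h2⟩ := repr_eq_zero_W k hW _ _ h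
    constructor
    · rw [← psiW_phiW k W r, h1, map_zero]
    · rw [← psiW_phiW k W s, h2, map_zero]

/-- **the kernel of `H^n(X_ε, O^×) → H^n(X_ε, j_* O_Z^×)` is `H^n(Z, O_Z)`** -/
theorem nonempty_ker_H_comap_dual (n : ℕ) :
    Nonempty ((Sheaf.H.map (UnitsSh.comap (jz k X)) n).ker ≃+
      Coh.HH (Zz k X) (Coh.structureModule (Zz k X)) n) :=
  nonempty_ker_H_comap (jz k X) (rhoz k X) (jz_rhoz k X) (rhoz_jz_apply k X) (etaz k X)
    (etaz_sq k X) (jz_etaz k X) (hD_dual k X) (jz k X).isClosedEmbedding n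

end Groth.Agent.Lib.SplitThickH8
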