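import Mathlib
import Groth.Prelude.Def_W4c1liftfrobW2
import Groth.Prelude.Def_WittGrp
import Groth.Agent.Lib.QFSplitLift_lead

/-!
# Twisted Witt vectors of a Frobenius splitting are a flat lift over `W₂(k)` (S13147)
-/

set_option autoImplicit false
universe u
open TensorProduct

namespace Groth.Agent.Lib.SplitW2Lift

open Groth.Agent.Lib.QFSplitShift Groth.Agent.Lib.QFSplitLift

/-! ### Flatness over a ring like `W₂(k)` -/

theorem ideal_cases {W : Type*} [CommRing W] (π₀ : W) (h0 : π₀ * π₀ = 0)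
    (hW : ∀ x : W, IsUnit x ∨ ∃ y, x = π₀ * y) (I : Ideal W) :
    I = ⊥ ∨ I = Ideal.span {π₀} ∨ I = ⊤ := by
  by_cases h1 : ∃ x ∈ I, IsUnit x
  · obtain ⟨x, hx, hu⟩ := h1
    right; right
    exact Ideal.eq_top_of_isUnit_mem I hx hu
  · push_neg at h1
    have hsub : I ≤ Ideal.span {π₀} := by
      intro x hx
      rcases hW x with hu | ⟨y, rfl⟩
      · exact absurd hu (h1 x hx)
      · exact Ideal.mul_mem_right _ _ (Ideal.subset_span (Set.mem_singleton π₀))
    by_cases h2 : I = ⊥
    · left; exact h2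
    · right; left
      apply le_antisymm hsub
      rw [Ideal.span_singleton_le_iff_mem]
      obtain ⟨x, hx, hx0⟩ := Submodule.exists_mem_ne_zero_of_ne_bot h2
      rcases hW x with hu | ⟨y, rfl⟩
      · exact absurd hu (h1 x hx)
      · rcases hW y with hyu | ⟨y', rfl⟩
        · obtain ⟨u, rfl⟩ := hyu
          have e : π₀ = (π₀ * (u : W)) * ((u⁻¹ : Wˣ) : W) := by
            rw [mul_assoc, Units.mul_inv, mul_one]
          rw [e]
          exact Ideal.mul_mem_right _ _ hx
        · exfalso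
          apply hx0
          rw [← mul_assoc, h0, zero_mul]

theorem flat_of_criterion {W M : Type*} [CommRing W] [AddCommGroup M] [Module W M] (π₀ : W)
    (h0 : π₀ * π₀ = 0) (hW : ∀ x : W, IsUnit x ∨ ∃ y, x = π₀ * y)
    (hM : ∀ m : M, π₀ • m = 0 → ∃ m', m = π₀ • m') : Module.Flat W M := by
  rw [Module.Flat.iff_rTensor_injective']
  intro I
  rcases ideal_cases π₀ h0 hW I with rfl | rfl | rfl
  · have h : ∀ z : (⊥ : Ideal W) ⊗[W] M, z = 0 := by
      intro z
      induction z using TensorProduct.induction_on with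
      | zero => rfl
      | tmul x m =>
        have hx : x = 0 := Subtype.ext ((Submodule.mem_bot W).mp x.2)
        rw [hx, TensorProduct.zero_tmul]
      | add x y hx hy => rw [hx, hy, add_zero]
    intro a b _
    rw [h a, h b]
  · have hg : π₀ ∈ (Ideal.span {π₀} : Ideal W) := Ideal.subset_span (Set.mem_singleton π₀)
    have hform : ∀ z : (Ideal.span {π₀} : Ideal W) ⊗[W] M,
        ∃ m : M, z = (⟨π₀, hg⟩ : (Ideal.span {π₀} : Ideal W)) ⊗ₜ[W] m := by
      intro z
      induction z using TensorProduct.induction_on with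
      | zero => exact ⟨0, (TensorProduct.tmul_zero _ _).symm⟩
      | tmul x m =>
        obtain ⟨a, ha⟩ := Ideal.mem_span_singleton'.mp x.2
        refine ⟨a • m, ?_⟩
        have hx : x = a • (⟨π₀, hg⟩ : (Ideal.span {π₀} : Ideal W)) :=
          Subtype.ext (by simpa [smul_eq_mul] using ha.symm)
        rw [hx, TensorProduct.smul_tmul]
      | add x y hx hy =>
        obtain ⟨m₁, rfl⟩ := hx
        obtain ⟨m₂, rfl⟩ := hy
        exact ⟨m₁ + m₂, (TensorProduct.tmul_add _ _ _).symm⟩
    rw [injective_iff_map_eq_zero]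
    intro z hz
    obtain ⟨m, rfl⟩ := hform z
    have h1 : π₀ • m = 0 := by
      have := congrArg (TensorProduct.lid W M) hz
      simpa using this
    obtain ⟨m', rfl⟩ := hM m h1
    rw [← TensorProduct.smul_tmul]
    have e : π₀ • (⟨π₀, hg⟩ : (Ideal.span {π₀} : Ideal W)) = 0 :=
      Subtype.ext (by simp [h0])
    rw [e, TensorProduct.zero_tmul]
  · have hcomp : (LinearMap.rTensor M
        ((Submodule.topEquiv : (⊤ : Ideal W) ≃ₗ[W] W).symm : W →ₗ[W] (⊤ : Ideal W))) ∘ₗ
        (LinearMap.rTensor M (Submodule.subtype (⊤ : Ideal W))) = LinearMap.id := by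
      rw [← LinearMap.rTensor_comp]
      have e : ((Submodule.topEquiv : (⊤ : Ideal W) ≃ₗ[W] W).symm : W →ₗ[W] (⊤ : Ideal W)) ∘ₗ
          (Submodule.subtype (⊤ : Ideal W)) = LinearMap.id :=
        LinearMap.ext fun x => Subtype.ext rfl
      rw [e, LinearMap.rTensor_id]
    intro a b hab
    have h := congrArg (LinearMap.rTensor M
        ((Submodule.topEquiv : (⊤ : Ideal W) ≃ₗ[W] W).symm : W →ₗ[W] (⊤ : Ideal W))) hab
    have ha := LinearMap.congr_fun hcomp a
    have hb := LinearMap.congr_fun hcomp b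
    rw [LinearMap.comp_apply, LinearMap.id_apply] at ha hb
    rw [← ha, ← hb, h]

/-! ### Coefficient zero of truncated Witt vectors -/

section coeff
variable (p : ℕ) [Fact p.Prime] (R : Type u) [CommRing R]

theorem coeff_zero_add (n : ℕ) (hn : 0 < n) (x y : TruncatedWittVector p n R) :
    (x + y).coeff ⟨0, hn⟩ = x.coeff ⟨0, hn⟩ + y.coeff ⟨0, hn⟩ := by
  obtain ⟨X, rfl⟩ := WittVector.truncate_surjective p n R x
  obtain ⟨Y, rfl⟩ := WittVector.truncate_surjective p n R y
  rw [← map_add, WittVector.coeff_truncate, WittVector.coeff_truncate,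
    WittVector.coeff_truncate]
  exact WittVector.add_coeff_zero X Y

theorem coeff_zero_mul (n : ℕ) (hn : 0 < n) (x y : TruncatedWittVector p n R) :
    (x * y).coeff ⟨0, hn⟩ = x.coeff ⟨0, hn⟩ * y.coeff ⟨0, hn⟩ := by
  obtain ⟨X, rfl⟩ := WittVector.truncate_surjective p n R x
  obtain ⟨Y, rfl⟩ := WittVector.truncate_surjective p n R y
  rw [← map_mul, WittVector.coeff_truncate, WittVector.coeff_truncate,
    WittVector.coeff_truncate]
  exact WittVector.mul_coeff_zero X Y

theorem coeff_zero_one (n : ℕ) (hn : 0 < n) :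
    (1 : TruncatedWittVector p n R).coeff ⟨0, hn⟩ = 1 := by
  rw [← map_one (WittVector.truncate (p := p) (R := R) n), WittVector.coeff_truncate]
  exact WittVector.one_coeff_zero p R

theorem natCast_W1 (hp : (p : R) = 0) : (p : TruncatedWittVector p 1 R) = 0 := by
  rcases subsingleton_or_nontrivial R with hR | hR
  · exact TruncatedWittVector.ext fun i => Subsingleton.elim _ _
  · haveI : CharP R p := (CharP.charP_iff_prime_eq_zero (Fact.out : p.Prime)).mpr hp
    apply TruncatedWittVector.ext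
    intro i
    rw [← map_natCast (WittVector.truncate (p := p) (R := R) 1) p, WittVector.coeff_truncate,
      WittVector.coeff_p, TruncatedWittVector.coeff_zero]
    have hi : (i : ℕ) ≠ 1 := by have := i.isLt; omega
    rw [if_neg hi]

end coeff

/-! ### The ring `W₂(k)` for a perfect field `k` -/

section W2k
variable (p : ℕ) [Fact p.Prime] (k : Type u) [Field k] [CharP k p] [PerfectRing k p]

theorem p_mul_p : (p : FrobAlg.W2 p k) * (p : FrobAlg.W2 p k) = 0 := by
  rw [natCast_mul p 1 k (CharP.cast_eq_zero k p), map_natCast, map_natCast,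
    natCast_W1 p k (CharP.cast_eq_zero k p), map_zero]

theorem exists_eq_p_mul (x : FrobAlg.W2 p k) (hx0 : x.coeff 0 = 0) :
    ∃ y, x = (p : FrobAlg.W2 p k) * y := by
  obtain ⟨x', rfl⟩ := exists_shift_of_coeff_zero p 1 k x hx0
  refine ⟨TruncatedWittVector.mk p (fun _ => (frobeniusEquiv k p).symm (x'.coeff 0)), ?_⟩
  rw [natCast_mul p 1 k (CharP.cast_eq_zero k p)]
  congr 1
  apply TruncatedWittVector.ext
  intro i
  rw [WittGrp.coeff_frob, TruncatedWittVector.coeff_truncate, TruncatedWittVector.coeff_mk,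
    frobeniusEquiv_symm_pow_p]
  congr 1
  exact Subsingleton.elim _ _

theorem isUnit_or (x : FrobAlg.W2 p k) : IsUnit x ∨ ∃ y, x = (p : FrobAlg.W2 p k) * y := by
  by_cases hx0 : x.coeff 0 = 0
  · right; exact exists_eq_p_mul p k x hx0
  · left
    have hres : FrobAlg.res p k
        (x * TruncatedWittVector.mk p (fun _ => (x.coeff 0)⁻¹) - 1) = 0 := by
      rw [map_sub, map_mul, map_one, FrobAlg.res_apply, FrobAlg.res_apply,
        TruncatedWittVector.coeff_mk, mul_inv_cancel₀ hx0, sub_self]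
    rw [FrobAlg.res_apply] at hres
    obtain ⟨y, hy⟩ := exists_eq_p_mul p k _ hres
    have hnil : IsNilpotent (x * TruncatedWittVector.mk p (fun _ => (x.coeff 0)⁻¹) - 1) := by
      refine ⟨2, ?_⟩
      rw [hy, sq]
      calc (p : FrobAlg.W2 p k) * y * ((p : FrobAlg.W2 p k) * y)
          = ((p : FrobAlg.W2 p k) * (p : FrobAlg.W2 p k)) * (y * y) := by ring
        _ = 0 := by rw [p_mul_p, zero_mul]
    have hu : IsUnit (x * TruncatedWittVector.mk p (fun _ => (x.coeff 0)⁻¹)) := by
      have := hnil.isUnit_add_one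
      simpa using this
    exact isUnit_of_mul_isUnit_left hu

theorem ker_res : RingHom.ker (FrobAlg.res p k) = Ideal.span {(p : FrobAlg.W2 p k)} := by
  ext x
  rw [RingHom.mem_ker, FrobAlg.res_apply, Ideal.mem_span_singleton']
  constructor
  · intro hx0
    obtain ⟨y, hy⟩ := exists_eq_p_mul p k x hx0
    exact ⟨y, by rw [hy, mul_comm]⟩
  · rintro ⟨y, rfl⟩
    rw [mul_comm, natCast_mul p 1 k (CharP.cast_eq_zero k p)]
    exact coeff_shift_zero p 1 k _

end W2k

/-! ### Main theorem -/

theorem main (p : ℕ) [Fact p.Prime] (k : Type u) [Field k] [CharP k p] [PerfectRing k p]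
    (A : Type u) [CommRing A] [Algebra k A] (φ : A →+ A)
    (hφ : ∀ a b : A, φ (a ^ p * b) = a * φ b) (hφ1 : φ 1 = 1) :
    FrobAlg.IsLift p k A (FrobAlg.W2 p A ⧸ FrobAlg.splitIdeal p A φ)
      ((Ideal.Quotient.mk (FrobAlg.splitIdeal p A φ)).comp
        (WittGrp.truncMap p 2 (algebraMap k A)))
      (FrobAlg.splitRes p A φ) := by
  have hpA : (p : A) = 0 := by
    rw [← map_natCast (algebraMap k A), CharP.cast_eq_zero, map_zero]
  let σ : TruncatedWittVector p 1 A →+ A :=
    { toFun := fun x => φ (x.coeff ⟨0, Nat.one_pos⟩)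
      map_zero' := by rw [TruncatedWittVector.coeff_zero, map_zero]
      map_add' := fun x y => by rw [coeff_zero_add, map_add] }
  have hσ : ∀ x, σ x = φ (x.coeff ⟨0, Nat.one_pos⟩) := fun _ => rfl
  have h1 : σ 1 = 1 := by rw [hσ, coeff_zero_one, hφ1]
  have hF : ∀ x y : TruncatedWittVector p 1 A,
      σ (WittGrp.frob p 1 hpA x * y) = x.coeff ⟨0, Nat.one_pos⟩ * σ y := by
    intro x y
    rw [hσ, hσ, coeff_zero_mul, WittGrp.coeff_frob, hφ]
  have hI : FrobAlg.splitIdeal p A φ = Ideal.span (WittGrp.shift p (Nat.le_succ 1) ''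
      {x : TruncatedWittVector p 1 A | σ x = 0}) := by
    unfold FrobAlg.splitIdeal
    congr 1
    ext x
    constructor
    · rintro ⟨hx0, hx1⟩
      rw [FrobAlg.res_apply] at hx0
      obtain ⟨x', rfl⟩ := exists_shift_of_coeff_zero p 1 A x hx0
      refine ⟨x', ?_, rfl⟩
      have h := coeff_shift_succ p 1 A x' 1 ⟨0, Nat.one_pos⟩ rfl
      rw [h] at hx1
      exact hx1
    · rintro ⟨x', hx', rfl⟩
      refine ⟨?_, ?_⟩
      · rw [FrobAlg.res_apply]
        exact coeff_shift_zero p 1 A x'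
      · have h := coeff_shift_succ p 1 A x' 1 ⟨0, Nat.one_pos⟩ rfl
        rw [h]
        exact hx'
  obtain ⟨part1, part2⟩ := Groth.Agent.Lib.QFSplitLift.main p 1 Nat.one_pos A hpA σ h1 hF
    (FrobAlg.splitIdeal p A φ) hI
  have hπ : ∀ w : FrobAlg.W2 p A,
      FrobAlg.splitRes p A φ (Ideal.Quotient.mk _ w) = w.coeff 0 := by
    intro w
    unfold FrobAlg.splitRes
    rw [Ideal.Quotient.lift_mk, FrobAlg.res_apply]
  have hιp : ((Ideal.Quotient.mk (FrobAlg.splitIdeal p A φ)).comp
      (WittGrp.truncMap p 2 (algebraMap k A))) (p : FrobAlg.W2 p k) =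
      (p : FrobAlg.W2 p A ⧸ FrobAlg.splitIdeal p A φ) := map_natCast _ p
  refine ⟨?_, ?_, ?_, ?_⟩
  · -- flat
    letI : Algebra (FrobAlg.W2 p k) (FrobAlg.W2 p A ⧸ FrobAlg.splitIdeal p A φ) :=
      ((Ideal.Quotient.mk (FrobAlg.splitIdeal p A φ)).comp
        (WittGrp.truncMap p 2 (algebraMap k A))).toAlgebra
    show Module.Flat (FrobAlg.W2 p k) (FrobAlg.W2 p A ⧸ FrobAlg.splitIdeal p A φ)
    refine flat_of_criterion (p : FrobAlg.W2 p k) (p_mul_p p k) (isUnit_or p k) ?_
    intro q hq
    rw [Algebra.smul_def, RingHom.algebraMap_toAlgebra, hιp] at hq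
    obtain ⟨a, ha⟩ := Ideal.mem_span_singleton'.mp ((part2 q).mp hq)
    refine ⟨a, ?_⟩
    rw [Algebra.smul_def, RingHom.algebraMap_toAlgebra, hιp, mul_comm, ha]
  · -- surjective
    intro a
    refine ⟨Ideal.Quotient.mk _ (TruncatedWittVector.mk p (fun _ => a)), ?_⟩
    rw [hπ, TruncatedWittVector.coeff_mk]
  · -- kernel
    rw [ker_res p k, Ideal.map_span, Set.image_singleton, hιp]
    ext q
    obtain ⟨w, rfl⟩ := Ideal.Quotient.mk_surjective q
    rw [RingHom.mem_ker, hπ]
    exact (part1 w).symm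
  · -- compatibility
    apply RingHom.ext
    intro x
    rw [RingHom.comp_apply, RingHom.comp_apply, RingHom.comp_apply, hπ, FrobAlg.res_apply,
      WittGrp.coeff_truncMap]

end Groth.Agent.Lib.SplitW2Lift
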