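import Mathlib

/-!
# Spreading out an isomorphism of local rings (helper4)

If `R → S` is finitely presented, `q` a prime of `S` over `p` with `R_p → S_q` bijective, then
there is `f ∉ p` with `S_f ≅ R_f × C`.
-/

namespace Groth.Agent.Lib.SpreadIsoH4

open MvPolynomial

universe u

variable {R S : Type u} [CommRing R] [CommRing S] [Algebra R S]

/-- "rationality" of the image of a polynomial, modulo `c`-torsion. -/
def Rat {n : ℕ} (π : MvPolynomial (Fin n) R →ₐ[R] S) (a : Fin n → R) (b : R) (c : S)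
    (P : MvPolynomial (Fin n) R) : Prop :=
  ∃ (d : ℕ) (ρ : R), c * (algebraMap R S b ^ d * π P - algebraMap R S ρ) = 0 ∧
    ∀ (A : Type u) [CommRing A] [Algebra R A] (β : A), algebraMap R A b * β = 1 →
      algebraMap R A b ^ d * (MvPolynomial.aeval (fun i => algebraMap R A (a i) * β) P)
        = algebraMap R A ρ

theorem rat_all {n : ℕ} (π : MvPolynomial (Fin n) R →ₐ[R] S) (a : Fin n → R) (b : R) (c : S)
    (hc : ∀ i, c * (algebraMap R S b * π (X i) - algebraMap R S (a i)) = 0)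
    (P : MvPolynomial (Fin n) R) : Rat π a b c P := by
  induction P using MvPolynomial.induction_on with
  | C r =>
    refine ⟨0, r, ?_, ?_⟩
    · rw [pow_zero, one_mul, ← MvPolynomial.algebraMap_eq, AlgHom.commutes, sub_self, mul_zero]
    · intro A _ _ β hβ
      rw [pow_zero, one_mul, MvPolynomial.aeval_C]
  | add P Q hP hQ =>
    obtain ⟨d1, ρ1, h1, h1'⟩ := hP
    obtain ⟨d2, ρ2, h2, h2'⟩ := hQ
    refine ⟨d1 + d2, b ^ d2 * ρ1 + b ^ d1 * ρ2, ?_, ?_⟩
    · simp only [map_add, map_mul, map_pow]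
      linear_combination (algebraMap R S b) ^ d2 * h1 + (algebraMap R S b) ^ d1 * h2
    · intro A _ _ β hβ
      have e1 := h1' A β hβ
      have e2 := h2' A β hβ
      simp only [map_add, map_mul, map_pow]
      linear_combination (algebraMap R A b) ^ d2 * e1 + (algebraMap R A b) ^ d1 * e2
  | mul_X P i hP =>
    obtain ⟨d, ρ, h1, h1'⟩ := hP
    refine ⟨d + 1, ρ * a i, ?_, ?_⟩
    · simp only [map_mul]
      linear_combination (algebraMap R S b) ^ d * π P * hc i + algebraMap R S (a i) * h1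
    · intro A _ _ β hβ
      have e1 := h1' A β hβ
      simp only [map_mul, MvPolynomial.aeval_X]
      linear_combination algebraMap R A (a i) * (algebraMap R A b * β) * e1 +
        algebraMap R A ρ * algebraMap R A (a i) * hβ

theorem exists_frac {q : Ideal S} [q.IsPrime] {p : Ideal R} [p.IsPrime] [q.LiesOver p]
    (h : Function.Surjective (Localization.localRingHom p q (algebraMap R S) (q.over_def p)))
    (x : S) : ∃ (a b : R) (c : S), b ∉ p ∧ c ∉ q ∧
      c * (algebraMap R S b * x - algebraMap R S a) = 0 := by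
  obtain ⟨y, hy⟩ := h (algebraMap S (Localization.AtPrime q) x)
  obtain ⟨a, ⟨b, hb⟩, rfl⟩ := IsLocalization.exists_mk'_eq p.primeCompl y
  rw [Localization.localRingHom_mk', IsLocalization.mk'_eq_iff_eq_mul, ← map_mul,
    IsLocalization.eq_iff_exists q.primeCompl] at hy
  obtain ⟨⟨c, hcq⟩, hc⟩ := hy
  refine ⟨a, b, c, hb, hcq, ?_⟩
  simp only at hc
  linear_combination (-1 : S) * hc

theorem exists_tors {q : Ideal S} [q.IsPrime] {p : Ideal R} [p.IsPrime] [q.LiesOver p]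
    (h : Function.Injective (Localization.localRingHom p q (algebraMap R S) (q.over_def p)))
    (ρ : R) (c : S) (hcq : c ∉ q) (hc : c * algebraMap R S ρ = 0) :
    ∃ t : R, t ∉ p ∧ t * ρ = 0 := by
  have h0 : algebraMap R (Localization.AtPrime p) ρ = 0 := by
    apply h
    rw [Localization.localRingHom_to_map, map_zero]
    exact (IsLocalization.map_eq_zero_iff q.primeCompl _ _).mpr ⟨⟨c, hcq⟩, hc⟩
  obtain ⟨⟨t, ht⟩, htρ⟩ := (IsLocalization.map_eq_zero_iff p.primeCompl _ _).mp h0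
  exact ⟨t, ht, htρ⟩

theorem gamma_notMem {q : Ideal S} [hq : q.IsPrime] {p : Ideal R} [p.IsPrime] [q.LiesOver p]
    (b γ : R) (c : S) (m : ℕ) (hb : b ∉ p) (hcq : c ∉ q)
    (hc : c * (algebraMap R S b ^ m * c - algebraMap R S γ) = 0) : γ ∉ p := by
  intro hγ
  have hγq : algebraMap R S γ ∈ q := (Ideal.mem_of_liesOver q p γ).mp hγ
  have hbq : algebraMap R S b ∉ q := fun hbq => hb ((Ideal.mem_of_liesOver q p b).mpr hbq)
  have h1 : c * (algebraMap R S b ^ m * c) ∈ q := by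
    have : c * (algebraMap R S b ^ m * c) = c * algebraMap R S γ := by linear_combination hc
    rw [this]
    exact q.mul_mem_left _ hγq
  rcases hq.mem_or_mem h1 with h2 | h2
  · exact hcq h2
  · rcases hq.mem_or_mem h2 with h3 | h3
    · exact hbq (hq.mem_of_pow_mem _ h3)
    · exact hcq h3

set_option maxHeartbeats 1600000 in
theorem main [Algebra.FinitePresentation R S] (q : Ideal S) [q.IsPrime] (p : Ideal R)
    [hp : p.IsPrime] [q.LiesOver p]
    (h : Function.Bijective (Localization.localRingHom p q (algebraMap R S) (q.over_def p))) :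
    ∃ f : R, f ∉ p ∧ ∀ (Rf Sf : Type u) [CommRing Rf] [CommRing Sf] [Algebra R Rf]
      [IsLocalization.Away f Rf]
      [Algebra S Sf] [IsLocalization.Away (algebraMap R S f) Sf] [Algebra Rf Sf] [Algebra R Sf]
      [IsScalarTower R S Sf] [IsScalarTower R Rf Sf],
      ∃ (C : Type u) (_ : CommRing C) (_ : Algebra Rf C), Nonempty (Sf ≃ₐ[Rf] (Rf × C)) := by
  classical
  obtain ⟨n, π, hπ, hfg⟩ := Algebra.FinitePresentation.out (R := R) (A := S)
  obtain ⟨F, hF⟩ := hfg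
  have hx : ∀ i : Fin n, ∃ (a b : R) (c : S), b ∉ p ∧ c ∉ q ∧
      c * (algebraMap R S b * π (X i) - algebraMap R S a) = 0 :=
    fun i => exists_frac h.2 (π (X i))
  choose a0 b0 c0 hb0 hc0 hbc0 using hx
  obtain ⟨b, hb_def⟩ : ∃ b : R, b = ∏ i, b0 i := ⟨_, rfl⟩
  obtain ⟨c, hc_def⟩ : ∃ c : S, c = ∏ i, c0 i := ⟨_, rfl⟩
  have hbp : b ∉ p := by
    rw [hb_def]
    exact Submonoid.prod_mem p.primeCompl (fun i _ => (hb0 i : b0 i ∈ p.primeCompl))
  have hcq : c ∉ q := by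
    rw [hc_def]
    exact Submonoid.prod_mem q.primeCompl (fun i _ => (hc0 i : c0 i ∈ q.primeCompl))
  obtain ⟨a, ha_def⟩ : ∃ a : Fin n → R, a = fun i => a0 i * ∏ j ∈ Finset.univ.erase i, b0 j :=
    ⟨_, rfl⟩
  have hc : ∀ i, c * (algebraMap R S b * π (X i) - algebraMap R S (a i)) = 0 := by
    intro i
    have hb_i : b = b0 i * ∏ j ∈ Finset.univ.erase i, b0 j := by
      rw [hb_def, Finset.mul_prod_erase _ _ (Finset.mem_univ i)]
    have hc_i : c = c0 i * ∏ j ∈ Finset.univ.erase i, c0 j := by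
      rw [hc_def, Finset.mul_prod_erase _ _ (Finset.mem_univ i)]
    rw [hb_i, hc_i, ha_def]
    simp only [map_mul]
    linear_combination (∏ j ∈ Finset.univ.erase i, c0 j) *
      (algebraMap R S (∏ j ∈ Finset.univ.erase i, b0 j)) * hbc0 i
  have hrat := rat_all π a b c hc
  obtain ⟨c', hc'⟩ := hπ c
  obtain ⟨m, γ, hγ1, hγ2⟩ := hrat c'
  rw [hc'] at hγ1
  have hγp : γ ∉ p := gamma_notMem b γ c m hbp hcq hγ1
  have key : ∀ P : MvPolynomial (Fin n) R, ∃ t : R, π P = 0 → t ∉ p ∧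
      ∀ (A : Type u) [CommRing A] [Algebra R A] (β : A), algebraMap R A b * β = 1 →
        IsUnit (algebraMap R A t) →
          MvPolynomial.aeval (fun i => algebraMap R A (a i) * β) P = 0 := by
    intro P
    by_cases hP : π P = 0
    · obtain ⟨d, ρ, h1, h2⟩ := hrat P
      rw [hP, mul_zero, zero_sub, mul_neg, neg_eq_zero] at h1
      obtain ⟨t, htp, htρ⟩ := exists_tors h.1 ρ c hcq h1
      refine ⟨t, fun _ => ⟨htp, ?_⟩⟩
      intro A _ _ β hβ htu
      have e := h2 A β hβ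
      have hbu : IsUnit (algebraMap R A b) :=
        ⟨⟨algebraMap R A b, β, hβ, by rw [mul_comm]; exact hβ⟩, rfl⟩
      have h3 : algebraMap R A t * (algebraMap R A b ^ d *
          (MvPolynomial.aeval (fun i => algebraMap R A (a i) * β) P)) = 0 := by
        rw [e, ← map_mul, htρ, map_zero]
      exact (hbu.pow d).mul_right_eq_zero.mp (htu.mul_right_eq_zero.mp h3)
    · exact ⟨1, fun h' => absurd h' hP⟩
  choose tt htt using key
  obtain ⟨t, ht_def⟩ : ∃ t : R, t = ∏ P ∈ F, tt P := ⟨_, rfl⟩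
  have hFker : ∀ P ∈ F, π P = 0 := by
    intro P hP
    have h1 : P ∈ RingHom.ker π.toRingHom := by
      rw [← hF]
      exact Ideal.subset_span hP
    exact h1
  have htp : t ∉ p := by
    rw [ht_def]
    exact Submonoid.prod_mem p.primeCompl
      (fun P hP => ((htt P (hFker P hP)).1 : tt P ∈ p.primeCompl))
  refine ⟨b * γ * t, hp.mul_notMem (hp.mul_notMem hbp hγp) htp, ?_⟩
  intro Rf Sf _ _ _ _ _ _ _ _ _ _
  have hfu : IsUnit (algebraMap R Rf (b * γ * t)) := IsLocalization.Away.algebraMap_isUnit _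
  have hbu : IsUnit (algebraMap R Rf b) :=
    isUnit_of_dvd_unit (map_dvd (algebraMap R Rf) ⟨γ * t, by ring⟩) hfu
  have hγu : IsUnit (algebraMap R Rf γ) :=
    isUnit_of_dvd_unit (map_dvd (algebraMap R Rf) ⟨b * t, by ring⟩) hfu
  have htu : IsUnit (algebraMap R Rf t) :=
    isUnit_of_dvd_unit (map_dvd (algebraMap R Rf) ⟨b * γ, by ring⟩) hfu
  obtain ⟨β, hβ⟩ : ∃ β : Rf, algebraMap R Rf b * β = 1 := ⟨↑hbu.unit⁻¹, hbu.mul_val_inv⟩
  obtain ⟨δ, hδ⟩ : ∃ δ : Rf, algebraMap R Rf γ * δ = 1 := ⟨↑hγu.unit⁻¹, hγu.mul_val_inv⟩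
  obtain ⟨u, hu⟩ : ∃ u : Rf, algebraMap R Rf (b * γ * t) * u = 1 :=
    ⟨↑hfu.unit⁻¹, hfu.mul_val_inv⟩
  -- the evaluation map and the retraction `σ`
  obtain ⟨ev, hev⟩ : ∃ ev : MvPolynomial (Fin n) R →ₐ[R] Rf,
      ev = MvPolynomial.aeval (fun i => algebraMap R Rf (a i) * β) := ⟨_, rfl⟩
  have hker : RingHom.ker π.toRingHom ≤ RingHom.ker ev.toRingHom := by
    rw [← hF, Ideal.span_le]
    intro P hP
    have htP : IsUnit (algebraMap R Rf (tt P)) := by
      refine isUnit_of_dvd_unit (map_dvd (algebraMap R Rf) ?_) htu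
      rw [ht_def]
      exact Finset.dvd_prod_of_mem tt hP
    have h1 : ev P = 0 := by
      rw [hev]
      exact (htt P (hFker P hP)).2 Rf β hβ htP
    exact h1
  obtain ⟨σ, hσπ⟩ : ∃ σ : S →ₐ[R] Rf, ∀ P, σ (π P) = ev P :=
    ⟨AlgHom.liftOfSurjective π hπ ev hker, fun P => AlgHom.liftOfSurjective_apply π hπ ev hker P⟩
  have hσc : algebraMap R Rf b ^ m * σ c = algebraMap R Rf γ := by
    rw [← hc', hσπ, hev]
    exact hγ2 Rf β hβ
  have hσf : IsUnit (σ.toRingHom (algebraMap R S (b * γ * t))) := by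
    have h1 : σ.toRingHom (algebraMap R S (b * γ * t)) = algebraMap R Rf (b * γ * t) :=
      σ.commutes _
    rw [h1]
    exact hfu
  obtain ⟨σ', hσ'⟩ : ∃ σ' : Sf →+* Rf, ∀ s : S, σ' (algebraMap S Sf s) = σ s :=
    ⟨IsLocalization.Away.lift (algebraMap R S (b * γ * t)) hσf,
      fun s => IsLocalization.Away.lift_eq _ hσf s⟩
  have hB : ∀ r : R, algebraMap S Sf (algebraMap R S r) = algebraMap Rf Sf (algebraMap R Rf r) := by
    intro r
    rw [← IsScalarTower.algebraMap_apply R S Sf, ← IsScalarTower.algebraMap_apply R Rf Sf]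
  have hσ'R : ∀ r : Rf, σ' (algebraMap Rf Sf r) = r := by
    have h1 : (σ'.comp (algebraMap Rf Sf)) = RingHom.id Rf := by
      apply IsLocalization.ringHom_ext (Submonoid.powers (b * γ * t))
      ext r
      simp only [RingHom.comp_apply, RingHom.id_apply]
      rw [← hB, hσ', AlgHom.commutes]
    intro r
    exact RingHom.congr_fun h1 r
  -- names in `Sf`
  obtain ⟨Cc, hCc⟩ : ∃ Cc : Sf, Cc = algebraMap S Sf c := ⟨_, rfl⟩
  obtain ⟨Bb, hBb⟩ : ∃ Bb : Sf, Bb = algebraMap Rf Sf (algebraMap R Rf b) := ⟨_, rfl⟩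
  obtain ⟨Γ, hΓ⟩ : ∃ Γ : Sf, Γ = algebraMap Rf Sf (algebraMap R Rf γ) := ⟨_, rfl⟩
  obtain ⟨Δ, hΔ⟩ : ∃ Δ : Sf, Δ = algebraMap Rf Sf δ := ⟨_, rfl⟩
  obtain ⟨β', hβ'⟩ : ∃ β' : Sf, β' = algebraMap Rf Sf β := ⟨_, rfl⟩
  obtain ⟨E₁, hE₁⟩ : ∃ E₁ : Sf, E₁ = algebraMap Rf Sf (algebraMap R Rf b ^ m * δ) := ⟨_, rfl⟩
  obtain ⟨e, he_def⟩ : ∃ e : Sf, e = Cc * E₁ := ⟨_, rfl⟩
  have hE₁' : E₁ = Bb ^ m * Δ := by rw [hE₁, map_mul, map_pow, hBb, hΔ]
  have hΓΔ : Γ * Δ = 1 := by rw [hΓ, hΔ, ← map_mul, hδ, map_one]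
  have hBβ : Bb * β' = 1 := by rw [hBb, hβ', ← map_mul, hβ, map_one]
  have hrel : Cc * (Bb ^ m * Cc - Γ) = 0 := by
    have h1 := congrArg (algebraMap S Sf) hγ1
    rw [map_zero, map_mul, map_sub, map_mul, map_pow, hB, hB] at h1
    rw [hCc, hBb, hΓ]
    exact h1
  have he_idem : e * e = e := by
    rw [he_def, hE₁']
    linear_combination (Bb ^ m * Δ * Δ) * hrel + (Cc * Bb ^ m * Δ) * hΓΔ
  have hσ'e : σ' e = 1 := by
    rw [he_def, hCc, hE₁, map_mul, hσ', hσ'R]
    linear_combination δ * hσc + hδ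
  have hF2S : ∀ s₀ : S, ∃ r : Rf, e * algebraMap S Sf s₀ = e * algebraMap Rf Sf r := by
    intro s₀
    obtain ⟨P, rfl⟩ := hπ s₀
    obtain ⟨k, ρ, h1, -⟩ := hrat P
    have h1' : Cc * (Bb ^ k * algebraMap S Sf (π P) - algebraMap Rf Sf (algebraMap R Rf ρ))
        = 0 := by
      have h2 := congrArg (algebraMap S Sf) h1
      rw [map_zero, map_mul, map_sub, map_mul, map_pow, hB, hB] at h2
      rw [hCc, hBb]
      exact h2
    have hpow : Bb ^ k * β' ^ k = 1 := by rw [← mul_pow, hBβ, one_pow]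
    refine ⟨algebraMap R Rf ρ * β ^ k, ?_⟩
    rw [he_def, map_mul, map_pow, ← hβ']
    linear_combination (E₁ * β' ^ k) * h1' - (Cc * E₁ * algebraMap S Sf (π P)) * hpow
  have hF2' : ∀ s : Sf, ∃ r : Rf, e * s = e * algebraMap Rf Sf r := by
    intro s
    obtain ⟨⟨s₀, y⟩, hs⟩ :=
      IsLocalization.surj (Submonoid.powers (algebraMap R S (b * γ * t))) s
    obtain ⟨j, hj⟩ := (Submonoid.mem_powers_iff _ _).mp y.2
    dsimp only at hs
    obtain ⟨r₀, hr₀⟩ := hF2S s₀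
    have hy : algebraMap S Sf (y : S) =
        algebraMap Rf Sf (algebraMap R Rf (b * γ * t) ^ j) := by
      rw [← hj, map_pow, hB, map_pow]
    have hyu : algebraMap S Sf (y : S) * algebraMap Rf Sf (u ^ j) = 1 := by
      rw [hy, ← map_mul, ← mul_pow, hu, one_pow, map_one]
    refine ⟨r₀ * u ^ j, ?_⟩
    rw [map_mul]
    linear_combination (-(e * s)) * hyu + (e * algebraMap Rf Sf (u ^ j)) * hs +
      algebraMap Rf Sf (u ^ j) * hr₀
  have hF2 : ∀ s : Sf, e * s = e * algebraMap Rf Sf (σ' s) := by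
    intro s
    obtain ⟨r, hr⟩ := hF2' s
    have h1 : σ' s = r := by
      have h2 := congrArg σ' hr
      rw [map_mul, map_mul, hσ'e, one_mul, one_mul, hσ'R] at h2
      exact h2
    rw [h1, hr]
  -- the decomposition
  let σA : Sf →ₐ[Rf] Rf := { σ' with commutes' := fun r => hσ'R r }
  have hσA : ∀ s, σA s = σ' s := fun s => rfl
  let Ψ : Sf →ₐ[Rf] Rf × (Sf ⧸ Ideal.span {e}) :=
    AlgHom.prod σA (Ideal.Quotient.mkₐ Rf (Ideal.span {e}))
  have hΨ : ∀ s, Ψ s = (σ' s, Ideal.Quotient.mk (Ideal.span {e}) s) := fun s => rfl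
  refine ⟨Sf ⧸ Ideal.span {e}, inferInstance, inferInstance,
    ⟨AlgEquiv.ofBijective Ψ ⟨?_, ?_⟩⟩⟩
  · rw [injective_iff_map_eq_zero]
    intro s hs
    rw [hΨ] at hs
    have h1 : σ' s = 0 := congrArg Prod.fst hs
    have h2 : Ideal.Quotient.mk (Ideal.span {e}) s = 0 := congrArg Prod.snd hs
    rw [Ideal.Quotient.eq_zero_iff_mem, Ideal.mem_span_singleton'] at h2
    obtain ⟨w, hw⟩ := h2
    have h3 : s = e * s := by
      rw [← hw]
      linear_combination (-w) * he_idem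
    rw [h3, hF2, h1, map_zero, mul_zero]
  · rintro ⟨r, y⟩
    obtain ⟨y, rfl⟩ := Ideal.Quotient.mk_surjective y
    refine ⟨e * algebraMap Rf Sf r + (1 - e) * y, ?_⟩
    rw [hΨ]
    apply Prod.ext
    · show σ' (e * algebraMap Rf Sf r + (1 - e) * y) = r
      rw [map_add, map_mul, map_mul, map_sub, map_one, hσ'e, hσ'R]
      ring
    · show Ideal.Quotient.mk _ (e * algebraMap Rf Sf r + (1 - e) * y) = Ideal.Quotient.mk _ y
      rw [Ideal.Quotient.eq, Ideal.mem_span_singleton']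
      exact ⟨algebraMap Rf Sf r - y, by ring⟩

end Groth.Agent.Lib.SpreadIsoH4
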