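import Mathlib
import Groth.Agent.Lib.SpreadIso_helper4

/-!
# Spreading out an isomorphism of local rings of two finitely presented algebras (helper4)

If `S`, `S'` are finitely presented `R`-algebras and `S_q ≅ S'_{q'}` over `R`, then
`S_g ≅ S'_{g'}` over `R` for some `g ∉ q`, `g' ∉ q'`.
-/

namespace Groth.Agent.Lib.SpreadIso2H4

open MvPolynomial Groth.Agent.Lib.SpreadIsoH4

universe u

/-- A map from a finitely presented algebra to a localization lifts to a principal localization. -/
theorem exists_lift_away {R S T L : Type u} [CommRing R] [CommRing S] [CommRing T] [CommRing L]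
    [Algebra R S] [Algebra R T] [Algebra T L] [Algebra R L] [IsScalarTower R T L]
    (M : Submonoid T) [IsLocalization M L] [Algebra.FinitePresentation R S]
    (φ : S →ₐ[R] L) :
    ∃ (u : T) (_ : u ∈ M) (α : S →ₐ[R] Localization.Away u) (ι : Localization.Away u →+* L),
      (∀ x : T, ι (algebraMap T (Localization.Away u) x) = algebraMap T L x) ∧
      ∀ s : S, ι (α s) = φ s := by
  classical
  obtain ⟨n, π, hπ, hfg⟩ := Algebra.FinitePresentation.out (R := R) (A := S)
  obtain ⟨F, hF⟩ := hfg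
  have hx : ∀ i : Fin n, ∃ (a b : T), b ∈ M ∧
      algebraMap T L b * φ (π (X i)) = algebraMap T L a := by
    intro i
    obtain ⟨⟨a, b⟩, hab⟩ := IsLocalization.surj M (φ (π (X i)))
    exact ⟨a, b, b.2, by rw [mul_comm]; exact hab⟩
  choose a0 b0 hb0 hab0 using hx
  obtain ⟨b, hb_def⟩ : ∃ b : T, b = ∏ i, b0 i := ⟨_, rfl⟩
  have hbM : b ∈ M := by
    rw [hb_def]
    exact Submonoid.prod_mem M (fun i _ => hb0 i)
  obtain ⟨a, ha_def⟩ : ∃ a : Fin n → T, a = fun i => a0 i * ∏ j ∈ Finset.univ.erase i, b0 j :=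
    ⟨_, rfl⟩
  obtain ⟨πT, hπT⟩ : ∃ πT : MvPolynomial (Fin n) T →ₐ[T] L,
      πT = MvPolynomial.aeval (fun i => φ (π (X i))) := ⟨_, rfl⟩
  have hc : ∀ i, (1 : L) * (algebraMap T L b * πT (X i) - algebraMap T L (a i)) = 0 := by
    intro i
    have hb_i : b = b0 i * ∏ j ∈ Finset.univ.erase i, b0 j := by
      rw [hb_def, Finset.mul_prod_erase _ _ (Finset.mem_univ i)]
    rw [hπT, MvPolynomial.aeval_X, hb_i, ha_def]
    simp only [map_mul]
    linear_combination (algebraMap T L (∏ j ∈ Finset.univ.erase i, b0 j)) * hab0 i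
  have hrat := rat_all πT a b 1 hc
  have hπφ : ∀ P : MvPolynomial (Fin n) R,
      πT (MvPolynomial.map (algebraMap R T) P) = φ (π P) := by
    intro P
    rw [hπT, MvPolynomial.aeval_map_algebraMap T]
    have h1 : (MvPolynomial.aeval (fun i => φ (π (X i))) : MvPolynomial (Fin n) R →ₐ[R] L)
        = φ.comp π := by
      apply MvPolynomial.algHom_ext
      intro i
      rw [MvPolynomial.aeval_X, AlgHom.comp_apply]
    rw [h1, AlgHom.comp_apply]
  have key : ∀ P : MvPolynomial (Fin n) R, ∃ t : T, π P = 0 → t ∈ M ∧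
      ∀ (A : Type u) [CommRing A] [Algebra T A] (β : A), algebraMap T A b * β = 1 →
        IsUnit (algebraMap T A t) →
          MvPolynomial.aeval (fun i => algebraMap T A (a i) * β)
            (MvPolynomial.map (algebraMap R T) P) = 0 := by
    intro P
    by_cases hP : π P = 0
    · obtain ⟨d, ρ, h1, h2⟩ := hrat (MvPolynomial.map (algebraMap R T) P)
      rw [hπφ, hP, map_zero, mul_zero, zero_sub, one_mul, neg_eq_zero] at h1
      obtain ⟨⟨t, htM⟩, htρ⟩ := (IsLocalization.map_eq_zero_iff M L ρ).mp h1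
      refine ⟨t, fun _ => ⟨htM, ?_⟩⟩
      intro A _ _ β hβ htu
      have e := h2 A β hβ
      have hbu : IsUnit (algebraMap T A b) :=
        ⟨⟨algebraMap T A b, β, hβ, by rw [mul_comm]; exact hβ⟩, rfl⟩
      have htρ' : t * ρ = 0 := htρ
      have h3 : algebraMap T A t * (algebraMap T A b ^ d *
          (MvPolynomial.aeval (fun i => algebraMap T A (a i) * β)
            (MvPolynomial.map (algebraMap R T) P))) = 0 := by
        rw [e, ← map_mul, htρ', map_zero]
      exact (hbu.pow d).mul_right_eq_zero.mp (htu.mul_right_eq_zero.mp h3)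
    · exact ⟨1, fun h' => absurd h' hP⟩
  choose tt htt using key
  obtain ⟨t, ht_def⟩ : ∃ t : T, t = ∏ P ∈ F, tt P := ⟨_, rfl⟩
  have hFker : ∀ P ∈ F, π P = 0 := by
    intro P hP
    have h1 : P ∈ RingHom.ker π.toRingHom := by
      rw [← hF]
      exact Ideal.subset_span hP
    exact h1
  have htM : t ∈ M := by
    rw [ht_def]
    exact Submonoid.prod_mem M (fun P hP => (htt P (hFker P hP)).1)
  obtain ⟨u, hu_def⟩ : ∃ u : T, u = b * t := ⟨_, rfl⟩
  have huM : u ∈ M := by
    rw [hu_def]
    exact M.mul_mem hbM htM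
  refine ⟨u, huM, ?_⟩
  have huu : IsUnit (algebraMap T (Localization.Away u) u) :=
    IsLocalization.Away.algebraMap_isUnit _
  have hbu : IsUnit (algebraMap T (Localization.Away u) b) :=
    isUnit_of_dvd_unit (map_dvd (algebraMap T (Localization.Away u)) ⟨t, hu_def⟩) huu
  have htu : IsUnit (algebraMap T (Localization.Away u) t) :=
    isUnit_of_dvd_unit (map_dvd (algebraMap T (Localization.Away u))
      ⟨b, by rw [hu_def]; ring⟩) huu
  obtain ⟨β, hβ⟩ : ∃ β : Localization.Away u, algebraMap T (Localization.Away u) b * β = 1 :=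
    ⟨↑hbu.unit⁻¹, hbu.mul_val_inv⟩
  obtain ⟨ev, hev⟩ : ∃ ev : MvPolynomial (Fin n) R →ₐ[R] Localization.Away u,
      ev = MvPolynomial.aeval (fun i => algebraMap T (Localization.Away u) (a i) * β) :=
    ⟨_, rfl⟩
  have hevT : ∀ P : MvPolynomial (Fin n) R, ev P =
      MvPolynomial.aeval (R := T) (fun i => algebraMap T (Localization.Away u) (a i) * β)
        (MvPolynomial.map (algebraMap R T) P) := by
    intro P
    rw [hev, MvPolynomial.aeval_map_algebraMap T]
  have hker : RingHom.ker π.toRingHom ≤ RingHom.ker ev.toRingHom := by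
    rw [← hF, Ideal.span_le]
    intro P hP
    have htP : IsUnit (algebraMap T (Localization.Away u) (tt P)) := by
      refine isUnit_of_dvd_unit (map_dvd (algebraMap T (Localization.Away u)) ?_) htu
      rw [ht_def]
      exact Finset.dvd_prod_of_mem tt hP
    have h1 : ev P = 0 := by
      rw [hevT]
      exact (htt P (hFker P hP)).2 (Localization.Away u) β hβ htP
    exact h1
  obtain ⟨α, hαπ⟩ : ∃ α : S →ₐ[R] Localization.Away u, ∀ P, α (π P) = ev P :=
    ⟨AlgHom.liftOfSurjective π hπ ev hker,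
      fun P => AlgHom.liftOfSurjective_apply π hπ ev hker P⟩
  have huL : IsUnit ((algebraMap T L) u) := IsLocalization.map_units L ⟨u, huM⟩
  obtain ⟨ι, hι⟩ : ∃ ι : Localization.Away u →+* L,
      ∀ x : T, ι (algebraMap T (Localization.Away u) x) = algebraMap T L x :=
    ⟨IsLocalization.Away.lift u huL, fun x => IsLocalization.Away.lift_eq u huL x⟩
  refine ⟨α, ι, hι, ?_⟩
  intro s
  obtain ⟨P, rfl⟩ := hπ s
  rw [hαπ]
  have hιβ : algebraMap T L b * ι β = 1 := by
    rw [← hι, ← map_mul, hβ, map_one]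
  induction P using MvPolynomial.induction_on with
  | C r =>
    rw [← MvPolynomial.algebraMap_eq]
    simp only [AlgHom.commutes]
    rw [IsScalarTower.algebraMap_apply R T (Localization.Away u), hι,
      ← IsScalarTower.algebraMap_apply R T L]
  | add P Q hP hQ =>
    simp only [map_add]
    rw [hP, hQ]
  | mul_X P i hP =>
    simp only [map_mul]
    rw [hP]
    congr 1
    rw [hev, MvPolynomial.aeval_X, map_mul, hι]
    have h1 := hc i
    rw [hπT, MvPolynomial.aeval_X] at h1
    linear_combination (-(ι β)) * h1 + φ (π (X i)) * hιβ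

variable {R S : Type u} [CommRing R] [CommRing S] [Algebra R S]

set_option maxHeartbeats 1600000 in
/-- If `R_p → S_q` is bijective (`S` f.p. over `R`), then `S_{fc} ≅ R_f` for some `f ∉ p`,
`c ∉ q`. -/
theorem core [Algebra.FinitePresentation R S] (q : Ideal S) [q.IsPrime] (p : Ideal R)
    [hp : p.IsPrime] [q.LiesOver p]
    (h : Function.Bijective (Localization.localRingHom p q (algebraMap R S) (q.over_def p))) :
    ∃ (f : R) (c : S), f ∉ p ∧ c ∉ q ∧ ∀ (Rf Sg : Type u) [CommRing Rf] [CommRing Sg]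
      [Algebra R Rf] [IsLocalization.Away f Rf] [Algebra S Sg]
      [IsLocalization.Away (algebraMap R S f * c) Sg],
      ∃ ψ : Sg →+* Rf, Function.Bijective ψ ∧
        ∀ r : R, ψ (algebraMap S Sg (algebraMap R S r)) = algebraMap R Rf r := by
  classical
  obtain ⟨n, π, hπ, hfg⟩ := Algebra.FinitePresentation.out (R := R) (A := S)
  obtain ⟨F, hF⟩ := hfg
  have hx : ∀ i : Fin n, ∃ (a b : R) (c : S), b ∉ p ∧ c ∉ q ∧
      c * (algebraMap R S b * π (X i) - algebraMap R S a) = 0 :=
    fun i => exists_frac h.2 (π (X i))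
  choose a0 b0 c0 hb0 hc0 hbc0 using hx
  obtain ⟨b, hb_def⟩ : ∃ b : R, b = ∏ i, b0 i := ⟨_, rfl⟩
  obtain ⟨c, hc_def⟩ : ∃ c : S, c = ∏ i, c0 i := ⟨_, rfl⟩
  have hbp : b ∉ p := by
    rw [hb_def]
    exact Submonoid.prod_mem p.primeCompl (fun i _ => (hb0 i : b0 i ∈ p.primeCompl))
  have hcq : c ∉ q := by
    rw [hc_def]
    exact Submonoid.prod_mem q.primeCompl (fun i _ => (hc0 i : c0 i ∈ q.primeCompl))
  obtain ⟨a, ha_def⟩ : ∃ a : Fin n → R, a = fun i => a0 i * ∏ j ∈ Finset.univ.erase i, b0 j :=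
    ⟨_, rfl⟩
  have hc : ∀ i, c * (algebraMap R S b * π (X i) - algebraMap R S (a i)) = 0 := by
    intro i
    have hb_i : b = b0 i * ∏ j ∈ Finset.univ.erase i, b0 j := by
      rw [hb_def, Finset.mul_prod_erase _ _ (Finset.mem_univ i)]
    have hc_i : c = c0 i * ∏ j ∈ Finset.univ.erase i, c0 j := by
      rw [hc_def, Finset.mul_prod_erase _ _ (Finset.mem_univ i)]
    rw [hb_i, hc_i, ha_def]
    simp only [map_mul]
    linear_combination (∏ j ∈ Finset.univ.erase i, c0 j) *
      (algebraMap R S (∏ j ∈ Finset.univ.erase i, b0 j)) * hbc0 i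
  have hrat := rat_all π a b c hc
  obtain ⟨c', hc'⟩ := hπ c
  obtain ⟨m, γ, hγ1, hγ2⟩ := hrat c'
  rw [hc'] at hγ1
  have hγp : γ ∉ p := gamma_notMem b γ c m hbp hcq hγ1
  have key : ∀ P : MvPolynomial (Fin n) R, ∃ t : R, π P = 0 → t ∉ p ∧
      ∀ (A : Type u) [CommRing A] [Algebra R A] (β : A), algebraMap R A b * β = 1 →
        IsUnit (algebraMap R A t) →
          MvPolynomial.aeval (fun i => algebraMap R A (a i) * β) P = 0 := by
    intro P
    by_cases hP : π P = 0
    · obtain ⟨d, ρ, h1, h2⟩ := hrat P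
      rw [hP, mul_zero, zero_sub, mul_neg, neg_eq_zero] at h1
      obtain ⟨t, htp, htρ⟩ := exists_tors h.1 ρ c hcq h1
      refine ⟨t, fun _ => ⟨htp, ?_⟩⟩
      intro A _ _ β hβ htu
      have e := h2 A β hβ
      have hbu : IsUnit (algebraMap R A b) :=
        ⟨⟨algebraMap R A b, β, hβ, by rw [mul_comm]; exact hβ⟩, rfl⟩
      have h3 : algebraMap R A t * (algebraMap R A b ^ d *
          (MvPolynomial.aeval (fun i => algebraMap R A (a i) * β) P)) = 0 := by
        rw [e, ← map_mul, htρ, map_zero]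
      exact (hbu.pow d).mul_right_eq_zero.mp (htu.mul_right_eq_zero.mp h3)
    · exact ⟨1, fun h' => absurd h' hP⟩
  choose tt htt using key
  obtain ⟨t, ht_def⟩ : ∃ t : R, t = ∏ P ∈ F, tt P := ⟨_, rfl⟩
  have hFker : ∀ P ∈ F, π P = 0 := by
    intro P hP
    have h1 : P ∈ RingHom.ker π.toRingHom := by
      rw [← hF]
      exact Ideal.subset_span hP
    exact h1
  have htp : t ∉ p := by
    rw [ht_def]
    exact Submonoid.prod_mem p.primeCompl
      (fun P hP => ((htt P (hFker P hP)).1 : tt P ∈ p.primeCompl))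
  obtain ⟨f, hf_def⟩ : ∃ f : R, f = b * γ * t := ⟨_, rfl⟩
  have hfp : f ∉ p := by
    rw [hf_def]
    exact hp.mul_notMem (hp.mul_notMem hbp hγp) htp
  refine ⟨f, c, hfp, hcq, ?_⟩
  intro Rf Sg _ _ _ _ _ _
  have hfu : IsUnit (algebraMap R Rf f) := IsLocalization.Away.algebraMap_isUnit _
  have hbu : IsUnit (algebraMap R Rf b) :=
    isUnit_of_dvd_unit (map_dvd (algebraMap R Rf) ⟨γ * t, by rw [hf_def]; ring⟩) hfu
  have hγu : IsUnit (algebraMap R Rf γ) :=
    isUnit_of_dvd_unit (map_dvd (algebraMap R Rf) ⟨b * t, by rw [hf_def]; ring⟩) hfu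
  have htu : IsUnit (algebraMap R Rf t) :=
    isUnit_of_dvd_unit (map_dvd (algebraMap R Rf) ⟨b * γ, by rw [hf_def]; ring⟩) hfu
  obtain ⟨β, hβ⟩ : ∃ β : Rf, algebraMap R Rf b * β = 1 := ⟨↑hbu.unit⁻¹, hbu.mul_val_inv⟩
  obtain ⟨ev, hev⟩ : ∃ ev : MvPolynomial (Fin n) R →ₐ[R] Rf,
      ev = MvPolynomial.aeval (fun i => algebraMap R Rf (a i) * β) := ⟨_, rfl⟩
  have hker : RingHom.ker π.toRingHom ≤ RingHom.ker ev.toRingHom := by
    rw [← hF, Ideal.span_le]
    intro P hP
    have htP : IsUnit (algebraMap R Rf (tt P)) := by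
      refine isUnit_of_dvd_unit (map_dvd (algebraMap R Rf) ?_) htu
      rw [ht_def]
      exact Finset.dvd_prod_of_mem tt hP
    have h1 : ev P = 0 := by
      rw [hev]
      exact (htt P (hFker P hP)).2 Rf β hβ htP
    exact h1
  obtain ⟨σ, hσπ⟩ : ∃ σ : S →ₐ[R] Rf, ∀ P, σ (π P) = ev P :=
    ⟨AlgHom.liftOfSurjective π hπ ev hker, fun P => AlgHom.liftOfSurjective_apply π hπ ev hker P⟩
  have hσc : algebraMap R Rf b ^ m * σ c = algebraMap R Rf γ := by
    rw [← hc', hσπ, hev]
    exact hγ2 Rf β hβ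
  have hσcu : IsUnit (σ c) := by
    have h1 : IsUnit (algebraMap R Rf b ^ m * σ c) := by
      rw [hσc]
      exact hγu
    exact (IsUnit.mul_iff.mp h1).2
  have hσg : IsUnit (σ.toRingHom (algebraMap R S f * c)) := by
    have h1 : σ.toRingHom (algebraMap R S f * c) = algebraMap R Rf f * σ c := by
      show σ (algebraMap R S f * c) = _
      rw [map_mul, AlgHom.commutes]
    rw [h1]
    exact hfu.mul hσcu
  obtain ⟨ψ, hψ⟩ : ∃ ψ : Sg →+* Rf, ∀ s : S, ψ (algebraMap S Sg s) = σ s :=
    ⟨IsLocalization.Away.lift (algebraMap R S f * c) hσg,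
      fun s => IsLocalization.Away.lift_eq _ hσg s⟩
  have hGu : IsUnit (algebraMap S Sg (algebraMap R S f * c)) :=
    IsLocalization.Away.algebraMap_isUnit _
  refine ⟨ψ, ⟨?_, ?_⟩, ?_⟩
  · -- injectivity
    rw [injective_iff_map_eq_zero]
    intro x hx
    obtain ⟨j, s, hs⟩ := IsLocalization.Away.surj (algebraMap R S f * c) x
    obtain ⟨P, rfl⟩ := hπ s
    have hσs : σ (π P) = 0 := by
      rw [← hψ, ← hs, map_mul, hx, zero_mul]
    obtain ⟨d, ρ, h1, h2⟩ := hrat P
    have e2 := h2 Rf β hβ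
    have h0 : MvPolynomial.aeval (fun i => algebraMap R Rf (a i) * β) P = 0 := by
      rw [← hev, ← hσπ]
      exact hσs
    rw [h0, mul_zero] at e2
    obtain ⟨⟨_, N, rfl⟩, hN⟩ :=
      (IsLocalization.map_eq_zero_iff (Submonoid.powers f) Rf ρ).mp e2.symm
    have hN' : f ^ N * ρ = 0 := hN
    have h3 : algebraMap R S f ^ N * algebraMap R S ρ = 0 := by
      rw [← map_pow, ← map_mul, hN', map_zero]
    have hFs : algebraMap R S f = algebraMap R S b * algebraMap R S (γ * t) := by
      rw [← map_mul, hf_def, mul_assoc]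
    have h4 : algebraMap R S f ^ (N + d) * c * π P = 0 := by
      have h5 : algebraMap R S f ^ (N + d) =
          algebraMap R S f ^ N * (algebraMap R S b * algebraMap R S (γ * t)) ^ d := by
        rw [pow_add, ← hFs]
      rw [h5]
      linear_combination (algebraMap R S f ^ N * algebraMap R S (γ * t) ^ d) * h1 +
        (algebraMap R S (γ * t) ^ d * c) * h3
    have h6 : algebraMap S Sg (π P) = 0 := by
      rw [IsLocalization.map_eq_zero_iff (Submonoid.powers (algebraMap R S f * c)) Sg]
      refine ⟨⟨(algebraMap R S f * c) ^ (N + d + 1), ⟨_, rfl⟩⟩, ?_⟩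
      show (algebraMap R S f * c) ^ (N + d + 1) * π P = 0
      have h7 : (algebraMap R S f * c) ^ (N + d + 1) * π P =
          (algebraMap R S f * c ^ (N + d)) * (algebraMap R S f ^ (N + d) * c * π P) := by ring
      rw [h7, h4, mul_zero]
    rw [h6] at hs
    exact (hGu.pow j).mul_left_eq_zero.mp hs
  · -- surjectivity
    intro y
    obtain ⟨k, a', hk⟩ := IsLocalization.Away.surj f y
    have hFu : IsUnit (algebraMap S Sg (algebraMap R S f)) := by
      rw [map_mul] at hGu
      exact (IsUnit.mul_iff.mp hGu).1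
    obtain ⟨Fi', hFi'⟩ : ∃ Fi' : Sg, algebraMap S Sg (algebraMap R S f) * Fi' = 1 :=
      ⟨↑hFu.unit⁻¹, hFu.mul_val_inv⟩
    refine ⟨algebraMap S Sg (algebraMap R S a') * Fi' ^ k, ?_⟩
    have h1 : ψ (algebraMap S Sg (algebraMap R S f)) = algebraMap R Rf f := by
      rw [hψ, AlgHom.commutes]
    have h2 : algebraMap R Rf f * ψ Fi' = 1 := by
      rw [← h1, ← map_mul, hFi', map_one]
    have h3 : ψ Fi' ^ k * algebraMap R Rf f ^ k = 1 := by
      rw [← mul_pow, mul_comm, h2, one_pow]
    have h4 : ψ (algebraMap S Sg (algebraMap R S a') * Fi' ^ k) * algebraMap R Rf f ^ k =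
        y * algebraMap R Rf f ^ k := by
      rw [hk, map_mul, map_pow, hψ, AlgHom.commutes, mul_assoc, h3, mul_one]
    exact (hfu.pow k).mul_left_injective h4
  · intro r
    rw [hψ, AlgHom.commutes]

/-- Generic assembly. -/
theorem thmB {R₀ S S' T₁ : Type u} [CommRing R₀] [CommRing S] [CommRing S'] [CommRing T₁]
    [Algebra R₀ S] [Algebra R₀ S'] [Algebra R₀ T₁] [Algebra S' T₁] [IsScalarTower R₀ S' T₁]
    [Algebra S T₁] [IsScalarTower R₀ S T₁]
    [Algebra.FinitePresentation R₀ S] [Algebra.FinitePresentation R₀ S']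
    (u : S') [IsLocalization.Away u T₁] (q : Ideal S) [hqp : q.IsPrime] (q' : Ideal S')
    [hq'p : q'.IsPrime]
    (ι : T₁ →+* Localization.AtPrime q')
    (hι : ∀ x : S', ι (algebraMap S' T₁ x) = algebraMap S' (Localization.AtPrime q') x)
    (e : Localization.AtPrime q ≃+* Localization.AtPrime q')
    (he : ∀ s : S, ι (algebraMap S T₁ s) = e (algebraMap S (Localization.AtPrime q) s)) :
    ∃ (g : S) (g' : S'), g ∉ q ∧ g' ∉ q' ∧
      Nonempty (Localization.Away g ≃ₐ[R₀] Localization.Away g') := by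
  classical
  haveI : Algebra.FinitePresentation S' T₁ := IsLocalization.Away.finitePresentation u
  haveI : Algebra.FinitePresentation R₀ T₁ := Algebra.FinitePresentation.trans R₀ S' T₁
  haveI : Algebra.FinitePresentation S T₁ :=
    Algebra.FinitePresentation.of_restrict_scalars_finitePresentation R₀ S T₁
  obtain ⟨q'', hq''⟩ : ∃ q'' : Ideal T₁,
      q'' = (IsLocalRing.maximalIdeal (Localization.AtPrime q')).comap ι := ⟨_, rfl⟩
  haveI hq''p : q''.IsPrime := by
    rw [hq'']
    exact Ideal.comap_isPrime ι _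
  have hmem : ∀ y : T₁, y ∈ q'' ↔ ι y ∈ IsLocalRing.maximalIdeal (Localization.AtPrime q') := by
    intro y
    rw [hq'', Ideal.mem_comap]
  have hunit : ∀ y : T₁, y ∉ q'' → IsUnit (ι y) := by
    intro y hy
    rw [hmem] at hy
    exact IsLocalRing.notMem_maximalIdeal.mp hy
  have heu : ∀ x, IsUnit (e x) ↔ IsUnit x := by
    intro x
    constructor
    · intro hx
      have h1 := hx.map e.symm
      rwa [RingEquiv.symm_apply_apply] at h1
    · intro hx
      exact hx.map e
  haveI hlo : q''.LiesOver q := by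
    constructor
    ext s
    rw [Ideal.mem_under, hmem, he, IsLocalRing.mem_maximalIdeal, mem_nonunits_iff, heu,
      IsLocalization.AtPrime.isUnit_to_map_iff (Localization.AtPrime q) q s,
      Ideal.mem_primeCompl_iff, not_not]
  have huu : IsUnit (algebraMap S' (Localization.AtPrime q') u) := by
    rw [← hι]
    exact (IsLocalization.Away.algebraMap_isUnit u).map ι
  have huq : u ∉ q' := fun hh => Ideal.mem_primeCompl_iff.mp
    ((IsLocalization.AtPrime.isUnit_to_map_iff (Localization.AtPrime q') q' u).mp huu) hh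
  -- the comparison map `τ`
  have hτu : ∀ y : q''.primeCompl, IsUnit (ι (y : T₁)) := fun y => hunit y y.2
  obtain ⟨τ, hτ⟩ : ∃ τ : Localization.AtPrime q'' →+* Localization.AtPrime q',
      ∀ x : T₁, τ (algebraMap T₁ (Localization.AtPrime q'') x) = ι x :=
    ⟨IsLocalization.lift (M := q''.primeCompl) hτu, fun x => IsLocalization.lift_eq hτu x⟩
  have hτinj : Function.Injective τ := by
    rw [injective_iff_map_eq_zero]
    intro x hx
    obtain ⟨t₁, s₁, rfl⟩ := IsLocalization.exists_mk'_eq q''.primeCompl x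
    have h1 : ι t₁ = 0 := by
      have h2 : IsLocalization.mk' (Localization.AtPrime q'') t₁ s₁ *
          algebraMap T₁ (Localization.AtPrime q'') (s₁ : T₁) =
          algebraMap T₁ (Localization.AtPrime q'') t₁ := IsLocalization.mk'_spec _ t₁ s₁
      have h3 := congrArg τ h2
      rw [map_mul, hx, zero_mul, hτ] at h3
      exact h3.symm
    obtain ⟨k, s', hs'⟩ := IsLocalization.Away.surj u t₁
    have h4 : algebraMap S' (Localization.AtPrime q') s' = 0 := by
      rw [← hι, ← hs', map_mul, h1, zero_mul]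
    obtain ⟨⟨c, hc⟩, hcs⟩ := (IsLocalization.map_eq_zero_iff q'.primeCompl _ _).mp h4
    have hcs' : c * s' = 0 := hcs
    have h5 : (algebraMap S' T₁ c * algebraMap S' T₁ u ^ k) * t₁ = 0 := by
      have h6 : algebraMap S' T₁ (c * s') = 0 := by rw [hcs', map_zero]
      rw [map_mul, ← hs'] at h6
      linear_combination h6
    have h6 : algebraMap S' T₁ c * algebraMap S' T₁ u ^ k ∉ q'' := by
      rw [hmem, map_mul, map_pow, hι, hι, IsLocalRing.mem_maximalIdeal, mem_nonunits_iff,
        not_not]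
      exact ((IsLocalization.AtPrime.isUnit_to_map_iff _ q' c).mpr hc).mul (huu.pow k)
    rw [IsLocalization.mk'_eq_zero_iff]
    exact ⟨⟨_, h6⟩, h5⟩
  have hcomp : ∀ x, τ (Localization.localRingHom q q'' (algebraMap S T₁) (q''.over_def q) x)
      = e x := by
    have h1 : (τ.comp (Localization.localRingHom q q'' (algebraMap S T₁) (q''.over_def q)))
        = (e : Localization.AtPrime q →+* Localization.AtPrime q') := by
      apply IsLocalization.ringHom_ext q.primeCompl
      ext s
      simp only [RingHom.comp_apply]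
      rw [Localization.localRingHom_to_map, hτ, he]
      rfl
    intro x
    exact RingHom.congr_fun h1 x
  have hbij : Function.Bijective
      (Localization.localRingHom q q'' (algebraMap S T₁) (q''.over_def q)) := by
    constructor
    · intro x y hxy
      apply e.injective
      rw [← hcomp, ← hcomp, hxy]
    · intro z
      obtain ⟨x, hx⟩ := e.surjective (τ z)
      refine ⟨x, hτinj ?_⟩
      rw [hcomp, hx]
  obtain ⟨f, c, hfq, hcq'', hcore⟩ := core q'' q hbij
  obtain ⟨ψ, hψbij, hψ⟩ := hcore (Localization.Away f)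
    (Localization.Away (algebraMap S T₁ f * c))
  obtain ⟨w, hw⟩ : ∃ w : S', w = (IsLocalization.Away.sec u (algebraMap S T₁ f * c)).1 :=
    ⟨_, rfl⟩
  have hass : Associated (algebraMap S' T₁ w) (algebraMap S T₁ f * c) := by
    rw [hw]
    exact IsLocalization.Away.associated_sec_fst u _
  haveI : IsLocalization.Away (algebraMap S' T₁ w)
      (Localization.Away (algebraMap S T₁ f * c)) :=
    IsLocalization.Away.of_associated hass.symm
  haveI : IsLocalization.Away (u * w) (Localization.Away (algebraMap S T₁ f * c)) :=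
    IsLocalization.Away.mul' T₁ _ u w
  have hwq : w ∉ q' := by
    intro hwq
    have h1 : algebraMap S' T₁ w ∈ q'' := by
      rw [hmem, hι]
      exact (IsLocalization.AtPrime.to_map_mem_maximal_iff _ q' w).mpr hwq
    obtain ⟨v, hv⟩ := hass
    have h2 : algebraMap S T₁ f * c ∈ q'' := by
      rw [← hv]
      exact q''.mul_mem_right _ h1
    rcases hq''p.mem_or_mem h2 with h3 | h3
    · exact hfq ((Ideal.mem_of_liesOver q'' q f).mpr h3)
    · exact hcq'' h3
  obtain ⟨ε, -⟩ : ∃ ε : Localization.Away (u * w) ≃ₐ[S']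
      Localization.Away (algebraMap S T₁ f * c), True :=
    ⟨IsLocalization.algEquiv (Submonoid.powers (u * w)) _ _, trivial⟩
  have hcomm : ∀ r : R₀, ψ (ε (algebraMap R₀ (Localization.Away (u * w)) r)) =
      algebraMap R₀ (Localization.Away f) r := by
    intro r
    rw [IsScalarTower.algebraMap_apply R₀ S' (Localization.Away (u * w)), ε.commutes,
      IsScalarTower.algebraMap_apply S' T₁ (Localization.Away (algebraMap S T₁ f * c)),
      ← IsScalarTower.algebraMap_apply R₀ S' T₁, IsScalarTower.algebraMap_apply R₀ S T₁, hψ,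
      ← IsScalarTower.algebraMap_apply R₀ S (Localization.Away f)]
  let Φ : Localization.Away (u * w) →ₐ[R₀] Localization.Away f :=
    { (ψ.comp (ε : Localization.Away (u * w) →+* Localization.Away (algebraMap S T₁ f * c))) with
      commutes' := fun r => hcomm r }
  have hΦ : Function.Bijective Φ := hψbij.comp ε.bijective
  exact ⟨f, u * w, hfq, hq'p.mul_notMem huq hwq, ⟨(AlgEquiv.ofBijective Φ hΦ).symm⟩⟩

/-- The main theorem. -/
theorem main {R S S' : Type u} [CommRing R] [CommRing S] [CommRing S'] [Algebra R S]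
    [Algebra R S'] [Algebra.FinitePresentation R S] [Algebra.FinitePresentation R S']
    (q : Ideal S) [q.IsPrime] (q' : Ideal S') [q'.IsPrime]
    (e : Localization.AtPrime q ≃ₐ[R] Localization.AtPrime q') :
    ∃ (g : S) (g' : S'), g ∉ q ∧ g' ∉ q' ∧
      Nonempty (Localization.Away g ≃ₐ[R] Localization.Away g') := by
  obtain ⟨u, huM, α, ι, hι, hια⟩ := exists_lift_away (R := R) (S := S) (T := S')
    (L := Localization.AtPrime q') q'.primeCompl
    ((e : Localization.AtPrime q →ₐ[R] Localization.AtPrime q').comp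
      (IsScalarTower.toAlgHom R S (Localization.AtPrime q)))
  letI : Algebra S (Localization.Away u) := α.toRingHom.toAlgebra
  haveI : IsScalarTower R S (Localization.Away u) :=
    IsScalarTower.of_algebraMap_eq (fun r => (α.commutes r).symm)
  exact thmB u q q' ι hι e.toRingEquiv (fun s => hια s)

end Groth.Agent.Lib.SpreadIso2H4
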