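import Mathlib
import Groth.Agent.Lib.NApxO_helper7
import Groth.Agent.Lib.LocAwayLim2_helper7
import Groth.Agent.Lib.SchDescent_helper6
import Groth.Agent.Lib.ConsMor1_helper7

/-!
# Properness spreads out from a local ring (or its completion) to an open neighbourhood (helper7)
-/

set_option autoImplicit false
set_option linter.style.haveILetI false
universe u
open CategoryTheory CategoryTheory.Limits AlgebraicGeometry TopologicalSpace IsLocalRing

namespace Groth.Agent.Lib.SpreadProperH7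

open Groth.Agent.Lib

theorem exists_isPullback_comp {X Y Y' Y'' : Scheme.{u}} (f : X ⟶ Y) (h : Y' ⟶ Y) (a : Y'' ⟶ Y') :
    ∃ b : pullback f (a ≫ h) ⟶ pullback f h,
      b ≫ pullback.fst f h = pullback.fst f (a ≫ h) ∧
      IsPullback b (pullback.snd f (a ≫ h)) (pullback.snd f h) a := by
  have w : pullback.fst f (a ≫ h) ≫ f = (pullback.snd f (a ≫ h) ≫ a) ≫ h := by
    rw [pullback.condition, Category.assoc]
  refine ⟨pullback.lift _ _ w, pullback.lift_fst _ _ _, ?_⟩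
  refine IsPullback.of_right ?_ (pullback.lift_snd _ _ _) (IsPullback.of_hasPullback f h)
  rw [pullback.lift_fst]
  exact IsPullback.of_hasPullback f (a ≫ h)

/-- Properness of a base change descends along an fpqc base change of the base. -/
theorem isProper_of_fpqc_baseChange {X Y S T T' : Scheme.{u}} (f : X ⟶ Y) (g : Y ⟶ S)
    (c₀ : T ⟶ S) (c₁ : T' ⟶ T)
    (hc₁ : (@Surjective ⊓ @Flat ⊓ @QuasiCompact : MorphismProperty Scheme.{u}) c₁)
    (h : IsProper (pullback.snd f (pullback.fst g (c₁ ≫ c₀)))) :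
    IsProper (pullback.snd f (pullback.fst g c₀)) := by
  obtain ⟨a, ha, sqa⟩ := exists_isPullback_comp g c₀ c₁
  have hafpqc := ConsPairH7.fpqc_of_isPullback sqa hc₁
  rw [← ha] at h
  obtain ⟨b, hb, sqb⟩ := exists_isPullback_comp f (pullback.fst g c₀) a
  haveI := SchDescent_helper6.descendsAlong_isProper
  exact MorphismProperty.of_isPullback_of_descendsAlong sqb.flip hafpqc h

open Groth.Agent.Lib.LocAwayLimH7 in
/-- If the base change of `f` to the localization `L = A_𝔭` (of an affine open `Spec A` of the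
base) is proper, then `f` is proper over an open neighbourhood of the image of `Spec L`. -/
theorem exists_open_proper_of_loc {X Y S : Scheme.{u}} (f : X ⟶ Y) (g : Y ⟶ S)
    [QuasiCompact g] [QuasiSeparated g] [QuasiCompact (f ≫ g)] [QuasiSeparated (f ≫ g)]
    [LocallyOfFiniteType f]
    (A : Type u) [CommRing A] (𝔭 : Ideal A) [𝔭.IsPrime] (L : Type u) [CommRing L] [Algebra A L]
    [IsLocalization.AtPrime L 𝔭]
    (φ₀ : Spec (CommRingCat.of A) ⟶ S) [IsOpenImmersion φ₀]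
    (hL : IsProper (pullback.snd f (pullback.fst g
      (Spec.map (CommRingCat.ofHom (algebraMap A L)) ≫ φ₀)))) :
    ∃ W : S.Opens, (∀ t, (Spec.map (CommRingCat.ofHom (algebraMap A L)) ≫ φ₀) t ∈ W) ∧
      IsProper (f ∣_ g ⁻¹ᵁ W) := by
  obtain ⟨e, he⟩ : ∃ e : ∀ i : (Idx A 𝔭)ᵒᵖ, (DS A 𝔭).obj i ⟶ S,
      ∀ i, e i = (toBase A 𝔭).app i ≫ φ₀ := ⟨_, fun _ => rfl⟩
  have hnat : ∀ {i j : (Idx A 𝔭)ᵒᵖ} (φ : i ⟶ j), (DS A 𝔭).map φ ≫ e j = e i := by
    intro i j φ
    rw [he, he, ← Category.assoc, (toBase A 𝔭).naturality φ]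
    simp
  obtain ⟨π, hπ⟩ : ∃ π : ∀ i : (Idx A 𝔭)ᵒᵖ, Spec (CommRingCat.of L) ⟶ (DS A 𝔭).obj i,
      ∀ i, π i = (coneSL A 𝔭 L).π.app i := ⟨fun i => (coneSL A 𝔭 L).π.app i, fun _ => rfl⟩
  have hcone : ∀ i, π i ≫ e i =
      Spec.map (CommRingCat.ofHom (algebraMap A L)) ≫ φ₀ := by
    intro i
    rw [he, hπ, ← Category.assoc]
    exact congrArg (· ≫ φ₀) (coneSL_π_toBase A 𝔭 L i)
  haveI heopen : ∀ i, IsOpenImmersion (e i) := fun i => by
    rw [he]
    show IsOpenImmersion (Spec.map (CommRingCat.ofHom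
      (algebraMap A (Localization.Away i.unop.val))) ≫ φ₀)
    infer_instance
  obtain ⟨i₀, hi₀⟩ : ∃ i₀ : (Idx A 𝔭)ᵒᵖ, i₀ = Opposite.op (one A 𝔭) := ⟨_, rfl⟩
  rw [← hcone i₀] at hL
  obtain ⟨qY, hqY, sqY⟩ := exists_isPullback_comp g (e i₀) (π i₀)
  rw [← hqY] at hL
  obtain ⟨qX, hqX, sqX⟩ := exists_isPullback_comp f (pullback.fst g (e i₀)) qY
  haveI := hL
  haveI : CompactSpace ↥(pullback g (e i₀)) :=
    QuasiCompact.compactSpace_of_compactSpace (pullback.snd g (e i₀))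
  haveI : QuasiSeparatedSpace ↥(pullback g (e i₀)) :=
    quasiSeparatedSpace_of_quasiSeparated (pullback.snd g (e i₀))
  have sq0 : IsPullback (pullback.fst f (pullback.fst g (e i₀)))
      (pullback.snd f (pullback.fst g (e i₀)) ≫ pullback.snd g (e i₀)) (f ≫ g) (e i₀) :=
    (IsPullback.of_hasPullback f (pullback.fst g (e i₀))).paste_vert
      (IsPullback.of_hasPullback g (e i₀))
  haveI : QuasiCompact (pullback.snd f (pullback.fst g (e i₀)) ≫ pullback.snd g (e i₀)) :=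
    MorphismProperty.of_isPullback (P := @QuasiCompact) sq0 inferInstance
  haveI : QuasiSeparated (pullback.snd f (pullback.fst g (e i₀)) ≫ pullback.snd g (e i₀)) :=
    MorphismProperty.of_isPullback (P := @QuasiSeparated) sq0 inferInstance
  haveI : CompactSpace ↥(pullback f (pullback.fst g (e i₀))) :=
    QuasiCompact.compactSpace_of_compactSpace
      (pullback.snd f (pullback.fst g (e i₀)) ≫ pullback.snd g (e i₀))
  haveI : QuasiSeparatedSpace ↥(pullback f (pullback.fst g (e i₀))) :=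
    quasiSeparatedSpace_of_quasiSeparated
      (pullback.snd f (pullback.fst g (e i₀)) ≫ pullback.snd g (e i₀))
  obtain ⟨i, φ, Xi, Yi, fi, gi, pY, pX, h1, h2, hfi⟩ :=
    NApxO_helper7.main2074 (DS A 𝔭) (coneSL A 𝔭 L) (isLimitConeSL A 𝔭 L) i₀
      (pullback.snd f (pullback.fst g (e i₀))) (pullback.snd g (e i₀))
      (pullback.snd f (qY ≫ pullback.fst g (e i₀)))
      (pullback.snd g (π i₀ ≫ e i₀)) qY qX (hπ i₀ ▸ sqY) sqX
  haveI := hfi
  have sqYi : IsPullback (pY ≫ pullback.fst g (e i₀)) gi g (e i) := by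
    have := h1.paste_horiz (IsPullback.of_hasPullback g (e i₀))
    rwa [hnat φ] at this
  have sqXi : IsPullback (pX ≫ pullback.fst f (pullback.fst g (e i₀))) fi f
      (pY ≫ pullback.fst g (e i₀)) :=
    h2.paste_horiz (IsPullback.of_hasPullback f (pullback.fst g (e i₀)))
  obtain ⟨r, hr⟩ : ∃ r : Yi ⟶ Y, r = pY ≫ pullback.fst g (e i₀) := ⟨_, rfl⟩
  rw [← hr] at sqYi sqXi
  haveI : IsOpenImmersion r :=
    MorphismProperty.of_isPullback (P := @IsOpenImmersion) sqYi.flip (heopen i)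
  have hrange : Set.range r = g ⁻¹' Set.range (e i) := by
    have := Scheme.image_preimage_eq_of_isPullback sqYi.flip Set.univ
    rwa [Set.preimage_univ, Set.image_univ, Set.image_univ] at this
  refine ⟨(e i).opensRange, ?_, ?_⟩
  · intro t
    rw [← hcone i, Scheme.Hom.comp_apply]
    exact ⟨_, rfl⟩
  · have hθrange : Set.range (g ⁻¹ᵁ (e i).opensRange).ι = Set.range r := by
      rw [Scheme.Opens.range_ι, hrange]
      rfl
    obtain ⟨θ, hθ⟩ : ∃ θ : (g ⁻¹ᵁ (e i).opensRange : Scheme.{u}) ⟶ Yi,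
        θ ≫ r = (g ⁻¹ᵁ (e i).opensRange).ι :=
      ⟨(IsOpenImmersion.isoOfRangeEq (g ⁻¹ᵁ (e i).opensRange).ι r hθrange).hom,
        IsOpenImmersion.isoOfRangeEq_hom_fac _ _ _⟩
    have w : (f ⁻¹ᵁ g ⁻¹ᵁ (e i).opensRange).ι ≫ f =
        (f ∣_ g ⁻¹ᵁ (e i).opensRange ≫ θ) ≫ r := by
      rw [Category.assoc, hθ, morphismRestrict_ι]
    have big : IsPullback (sqXi.lift _ _ w ≫ pX ≫ pullback.fst f (pullback.fst g (e i₀)))
        (f ∣_ g ⁻¹ᵁ (e i).opensRange) f (θ ≫ r) := by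
      rw [sqXi.lift_fst, hθ]
      exact (isPullback_morphismRestrict f (g ⁻¹ᵁ (e i).opensRange)).flip
    have left := IsPullback.of_right big (sqXi.lift_snd _ _ w) sqXi
    exact MorphismProperty.of_isPullback (P := @IsProper) left hfi

/-- **S18874.** -/
theorem main18874 (S : Scheme.{u}) [CompactSpace S]
    (hS : ∀ U : S.affineOpens, EGA4.IsExcellent Γ(S, U.1))
    {X Y : Scheme.{u}} (f : X ⟶ Y) (g : Y ⟶ S)
    [QuasiCompact g] [QuasiSeparated g] [LocallyOfFinitePresentation g]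
    [QuasiCompact (f ≫ g)] [QuasiSeparated (f ≫ g)] [LocallyOfFinitePresentation (f ≫ g)]
    (s : S)
    (hR : IsProper (Limits.pullback.snd f (Limits.pullback.fst g
      (Spec.map (CommRingCat.ofHom (algebraMap (S.presheaf.stalk s)
        (EGA4.Cpl (S.presheaf.stalk s)))) ≫ S.fromSpecStalk s)))) :
    ∃ W : S.Opens, s ∈ W ∧ IsProper (f ∣_ (g ⁻¹ᵁ W)) := by
  obtain ⟨V, hV, hsV⟩ : ∃ V : S.Opens, IsAffineOpen V ∧ s ∈ V := by
    obtain ⟨_, ⟨V, hV, rfl⟩, hsV, -⟩ :=
      S.isBasis_affineOpens.exists_subset_of_mem_open (Set.mem_univ s) isOpen_univ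
    exact ⟨V, hV, hsV⟩
  letI : Algebra ↑Γ(S, V) ↑(S.presheaf.stalk s) :=
    TopCat.Presheaf.algebra_section_stalk S.presheaf ⟨s, hsV⟩
  haveI : IsLocalization.AtPrime ↑(S.presheaf.stalk s) (hV.primeIdealOf ⟨s, hsV⟩).asIdeal :=
    hV.isLocalization_stalk ⟨s, hsV⟩
  have hσeq : Spec.map (CommRingCat.ofHom (algebraMap ↑Γ(S, V) ↑(S.presheaf.stalk s))) ≫
      hV.fromSpec = S.fromSpecStalk s := hV.fromSpecStalk_eq_fromSpecStalk hsV
  haveI : IsNoetherianRing Γ(S, V) := (hS ⟨V, hV⟩).1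
  haveI : IsNoetherianRing (S.presheaf.stalk s) :=
    IsLocalization.isNoetherianRing (hV.primeIdealOf ⟨s, hsV⟩).asIdeal.primeCompl _ inferInstance
  haveI : Module.FaithfullyFlat (S.presheaf.stalk s) (EGA4.Cpl (S.presheaf.stalk s)) :=
    Module.FaithfullyFlat.of_flat_of_isLocalHom
  have hfpqc : (@Surjective ⊓ @Flat ⊓ @QuasiCompact : MorphismProperty Scheme.{u})
      (Spec.map (CommRingCat.ofHom (algebraMap (S.presheaf.stalk s)
        (EGA4.Cpl (S.presheaf.stalk s))))) := by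
    refine ⟨⟨⟨?_⟩, ?_⟩, inferInstance⟩
    · exact PrimeSpectrum.comap_surjective_of_faithfullyFlat (A := S.presheaf.stalk s)
        (B := EGA4.Cpl (S.presheaf.stalk s))
    · rw [HasRingHomProperty.Spec_iff (P := @Flat)]
      exact RingHom.flat_algebraMap_iff.mpr inferInstance
  have hL : IsProper (pullback.snd f (pullback.fst g (S.fromSpecStalk s))) :=
    isProper_of_fpqc_baseChange f g _ _ hfpqc hR
  rw [← hσeq] at hL
  haveI : LocallyOfFiniteType f := locallyOfFiniteType_of_comp f g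
  obtain ⟨W, hW, hprop⟩ := exists_open_proper_of_loc f g Γ(S, V)
    (hV.primeIdealOf ⟨s, hsV⟩).asIdeal (S.presheaf.stalk s) hV.fromSpec hL
  refine ⟨W, ?_, hprop⟩
  have := hW (closedPoint (S.presheaf.stalk s))
  rw [hσeq, Scheme.fromSpecStalk_closedPoint] at this
  exact this

end Groth.Agent.Lib.SpreadProperH7
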