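import Mathlib
import Groth.Prelude.Def_RegImm
import Groth.Agent.Lib.RelGCI8_helper2

/-!
# Square presentations `R[x_1..x_n]/(F_1..F_n)`, part 1 (helper5)

`SqP R C` : the `R`-algebra `C` is isomorphic to `Synt.RelGCIRing R n n F` for some `n`, `F`.
Closure under isomorphism, re-indexing by a finite type, localization at one element, and
the zero ring.  APPEND-ONLY once landed.
-/

set_option autoImplicit false
set_option linter.style.haveILetI false
universe u

namespace Groth.Agent.Lib.SqPres

open MvPolynomial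

/-- `C` has a square presentation over `R`. -/
def SqP (R C : Type u) [CommRing R] [CommRing C] [Algebra R C] : Prop :=
  ∃ (n : ℕ) (F : Fin n → MvPolynomial (Fin n) R), Nonempty (C ≃ₐ[R] Synt.RelGCIRing R n n F)

variable {R : Type u} [CommRing R]

theorem SqP.of_algEquiv {C C' : Type u} [CommRing C] [CommRing C'] [Algebra R C] [Algebra R C']
    (e : C ≃ₐ[R] C') (h : SqP R C) : SqP R C' := by
  obtain ⟨n, F, ⟨φ⟩⟩ := h
  exact ⟨n, F, ⟨e.symm.trans φ⟩⟩

/-- a square presentation indexed by an arbitrary finite type. -/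
theorem SqP.of_fintype {C : Type u} [CommRing C] [Algebra R C] (ι : Type) [Fintype ι]
    (F : ι → MvPolynomial ι R)
    (e : C ≃ₐ[R] (MvPolynomial ι R ⧸ Ideal.span (Set.range F))) : SqP R C := by
  classical
  let σ : ι ≃ Fin (Fintype.card ι) := Fintype.equivFin ι
  let ρ : MvPolynomial ι R ≃ₐ[R] MvPolynomial (Fin (Fintype.card ι)) R := renameEquiv R σ
  let F' : Fin (Fintype.card ι) → MvPolynomial (Fin (Fintype.card ι)) R :=
    fun j => ρ (F (σ.symm j))
  have hJ : Ideal.span (Set.range F') = (Ideal.span (Set.range F)).map (ρ : _ →+* _) := by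
    rw [Ideal.map_span]
    congr 1
    ext x
    constructor
    · rintro ⟨j, rfl⟩
      exact ⟨F (σ.symm j), ⟨σ.symm j, rfl⟩, rfl⟩
    · rintro ⟨_, ⟨i, rfl⟩, rfl⟩
      exact ⟨σ i, by simp [F']⟩
  refine ⟨Fintype.card ι, F', ⟨e.trans ?_⟩⟩
  exact Ideal.quotientEquivAlg _ _ ρ hJ

/-- the zero ring has a square presentation (`R[x]/(1)`). -/
theorem SqP.of_subsingleton {C : Type u} [CommRing C] [Algebra R C] [Subsingleton C] :
    SqP R C := by
  refine ⟨1, fun _ => 1, ⟨?_⟩⟩
  have h1 : Ideal.span (Set.range (fun _ : Fin 1 => (1 : MvPolynomial (Fin 1) R))) = ⊤ := by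
    rw [Ideal.eq_top_iff_one]
    exact Ideal.subset_span ⟨0, rfl⟩
  haveI : Subsingleton (Synt.RelGCIRing R 1 1 (fun _ => 1)) := by
    unfold Synt.RelGCIRing
    rw [h1]
    exact Ideal.Quotient.subsingleton_iff.mpr rfl
  exact
    { toFun := fun _ => 0
      invFun := fun _ => 0
      left_inv := fun _ => Subsingleton.elim _ _
      right_inv := fun _ => Subsingleton.elim _ _
      map_mul' := fun _ _ => Subsingleton.elim _ _
      map_add' := fun _ _ => Subsingleton.elim _ _
      commutes' := fun _ => Subsingleton.elim _ _ }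

/-- a localization at one element of a square-presented algebra is square-presented. -/
theorem SqP.away {C : Type u} [CommRing C] [Algebra R C] (h : SqP R C) (g : C) :
    SqP R (Localization.Away g) := by
  obtain ⟨n, F, ⟨φ⟩⟩ := h
  obtain ⟨p, hp⟩ := Ideal.Quotient.mk_surjective (φ g)
  have H : Submonoid.map φ (Submonoid.powers g) =
      Submonoid.powers (Ideal.Quotient.mk (Ideal.span (Set.range F)) p) := by
    rw [Submonoid.map_powers, hp]
  let ψ : Localization.Away g ≃ₐ[R]
      Localization.Away (Ideal.Quotient.mk (Ideal.span (Set.range F)) p) :=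
    IsLocalization.algEquivOfAlgEquiv _ _ φ H
  exact ⟨n + 1, Groth.Agent.Lib.RelGCI.Fsnoc R n n F p,
    ⟨ψ.trans (Groth.Agent.Lib.RelGCI.awaySnocEquiv R n n F p)⟩⟩

/-- version of `SqP.away` for any localization away from `g`. -/
theorem SqP.away' {C : Type u} [CommRing C] [Algebra R C] (h : SqP R C) (g : C)
    (D : Type u) [CommRing D] [Algebra C D] [Algebra R D] [IsScalarTower R C D]
    [IsLocalization.Away g D] : SqP R D :=
  (h.away g).of_algEquiv
    ((IsLocalization.algEquiv (Submonoid.powers g) (Localization.Away g) D).restrictScalars R)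

end Groth.Agent.Lib.SqPres
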