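import Mathlib
import Groth.Prelude.Def_RegImm
import Groth.Agent.Lib.SqPres1_helper5

/-!
# Square presentations, part 2 (helper5): the product of two square-presented algebras

`R[x]/(F) × R[y]/(G) ≅ R[e,x,y]/(e²-e, e·F_i + (1-e)·x_i, (1-e)·G_j + e·y_j)`.
APPEND-ONLY once landed.
-/

set_option autoImplicit false
set_option linter.style.haveILetI false
universe u

namespace Groth.Agent.Lib.SqPres

open MvPolynomial

section prod

variable (R : Type u) [CommRing R] (n m : ℕ) (F : Fin n → MvPolynomial (Fin n) R)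
  (G : Fin m → MvPolynomial (Fin m) R)

/-- index type of the variables `e, x_i, y_j`. -/
abbrev PIdx (n m : ℕ) : Type := Option (Fin n ⊕ Fin m)

/-- `i ↦ x_i` -/
def inlV : Fin n → PIdx n m := fun i => some (Sum.inl i)
/-- `j ↦ y_j` -/
def inrV : Fin m → PIdx n m := fun j => some (Sum.inr j)

/-- the equations of the product. -/
noncomputable def HProd : PIdx n m → MvPolynomial (PIdx n m) R
  | none => X none * X none - X none
  | some (Sum.inl i) => X none * rename (inlV n m) (F i) + (1 - X none) * X (inlV n m i)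
  | some (Sum.inr j) => (1 - X none) * rename (inrV n m) (G j) + X none * X (inrV n m j)

/-- the presented ring. -/
abbrev QP : Type u := MvPolynomial (PIdx n m) R ⧸ Ideal.span (Set.range (HProd R n m F G))

/-- images of the variables in the product. -/
noncomputable def vProd : PIdx n m → Synt.RelGCIRing R n n F × Synt.RelGCIRing R m m G
  | none => (1, 0)
  | some (Sum.inl i) => (Ideal.Quotient.mk _ (X i), 0)
  | some (Sum.inr j) => (0, Ideal.Quotient.mk _ (X j))

/-- the map from the polynomial ring to the product. -/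
noncomputable def PhiP : MvPolynomial (PIdx n m) R →ₐ[R]
    Synt.RelGCIRing R n n F × Synt.RelGCIRing R m m G := aeval (vProd R n m F G)

lemma PhiP_X_none : PhiP R n m F G (X none) = (1, 0) := by
  unfold PhiP; rw [aeval_X]; rfl

lemma PhiP_X_inl (i : Fin n) :
    PhiP R n m F G (X (inlV n m i)) = (Ideal.Quotient.mk _ (X i), 0) := by
  unfold PhiP; rw [aeval_X]; rfl

lemma PhiP_X_inr (j : Fin m) :
    PhiP R n m F G (X (inrV n m j)) = (0, Ideal.Quotient.mk _ (X j)) := by
  unfold PhiP; rw [aeval_X]; rfl

lemma PhiP_rename_inl_fst (p : MvPolynomial (Fin n) R) :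
    (PhiP R n m F G (rename (inlV n m) p)).1 = Ideal.Quotient.mk _ p := by
  have h : (AlgHom.fst R _ _).comp ((PhiP R n m F G).comp (rename (inlV n m))) =
      Ideal.Quotient.mkₐ R (Ideal.span (Set.range F)) := by
    apply MvPolynomial.algHom_ext
    intro i
    simp only [AlgHom.coe_comp, Function.comp_apply, rename_X, PhiP_X_inl,
      Ideal.Quotient.mkₐ_eq_mk]
    rfl
  exact DFunLike.congr_fun h p

lemma PhiP_rename_inr_snd (q : MvPolynomial (Fin m) R) :
    (PhiP R n m F G (rename (inrV n m) q)).2 = Ideal.Quotient.mk _ q := by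
  have h : (AlgHom.snd R _ _).comp ((PhiP R n m F G).comp (rename (inrV n m))) =
      Ideal.Quotient.mkₐ R (Ideal.span (Set.range G)) := by
    apply MvPolynomial.algHom_ext
    intro i
    simp only [AlgHom.coe_comp, Function.comp_apply, rename_X, PhiP_X_inr,
      Ideal.Quotient.mkₐ_eq_mk]
    rfl
  exact DFunLike.congr_fun h q

lemma PhiP_HProd (i : PIdx n m) : PhiP R n m F G (HProd R n m F G i) = 0 := by
  rcases i with _ | i | j
  · show PhiP R n m F G (X none * X none - X none) = 0
    rw [map_sub, map_mul, PhiP_X_none]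
    ext <;> simp
  · show PhiP R n m F G
      (X none * rename (inlV n m) (F i) + (1 - X none) * X (inlV n m i)) = 0
    rw [map_add, map_mul, map_mul, map_sub, map_one, PhiP_X_none, PhiP_X_inl]
    have h0 : (Ideal.Quotient.mk (Ideal.span (Set.range F)) (F i)) = 0 :=
      Ideal.Quotient.eq_zero_iff_mem.mpr (Ideal.subset_span ⟨i, rfl⟩)
    ext
    · simp [PhiP_rename_inl_fst, h0]
    · simp
  · show PhiP R n m F G
      ((1 - X none) * rename (inrV n m) (G j) + X none * X (inrV n m j)) = 0
    rw [map_add, map_mul, map_mul, map_sub, map_one, PhiP_X_none, PhiP_X_inr]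
    have h0 : (Ideal.Quotient.mk (Ideal.span (Set.range G)) (G j)) = 0 :=
      Ideal.Quotient.eq_zero_iff_mem.mpr (Ideal.subset_span ⟨j, rfl⟩)
    ext
    · simp
    · simp [PhiP_rename_inr_snd, h0]

/-- the map from the presented ring to the product. -/
noncomputable def PhiBar : QP R n m F G →ₐ[R]
    Synt.RelGCIRing R n n F × Synt.RelGCIRing R m m G :=
  Ideal.Quotient.liftₐ (Ideal.span (Set.range (HProd R n m F G))) (PhiP R n m F G)
    (by
      have hle : Ideal.span (Set.range (HProd R n m F G)) ≤
          RingHom.ker (PhiP R n m F G).toRingHom := by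
        rw [Ideal.span_le]
        rintro _ ⟨i, rfl⟩
        exact PhiP_HProd R n m F G i
      intro a ha
      exact hle ha)

lemma PhiBar_mk (p : MvPolynomial (PIdx n m) R) :
    PhiBar R n m F G (Ideal.Quotient.mk _ p) = PhiP R n m F G p := rfl

/-- the idempotent `e` in the presented ring. -/
noncomputable def eQ : QP R n m F G := Ideal.Quotient.mk _ (X none)

lemma eQ_idem : eQ R n m F G * eQ R n m F G = eQ R n m F G := by
  have h : Ideal.Quotient.mk (Ideal.span (Set.range (HProd R n m F G)))
      (HProd R n m F G none) = 0 :=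
    Ideal.Quotient.eq_zero_iff_mem.mpr (Ideal.subset_span ⟨none, rfl⟩)
  have h2 : Ideal.Quotient.mk (Ideal.span (Set.range (HProd R n m F G)))
      (X none * X none - X none) = 0 := h
  rw [map_sub, map_mul, sub_eq_zero] at h2
  exact h2

/-- `x ↦ x` on the polynomial level. -/
noncomputable def alphaP : MvPolynomial (Fin n) R →ₐ[R] QP R n m F G :=
  (Ideal.Quotient.mkₐ R (Ideal.span (Set.range (HProd R n m F G)))).comp (rename (inlV n m))

/-- `y ↦ y` on the polynomial level. -/
noncomputable def betaP : MvPolynomial (Fin m) R →ₐ[R] QP R n m F G :=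
  (Ideal.Quotient.mkₐ R (Ideal.span (Set.range (HProd R n m F G)))).comp (rename (inrV n m))

lemma alphaP_apply (p : MvPolynomial (Fin n) R) :
    alphaP R n m F G p = Ideal.Quotient.mk _ (rename (inlV n m) p) := rfl

lemma betaP_apply (q : MvPolynomial (Fin m) R) :
    betaP R n m F G q = Ideal.Quotient.mk _ (rename (inrV n m) q) := rfl

lemma rel_inl (i : Fin n) :
    eQ R n m F G * alphaP R n m F G (F i) +
      (1 - eQ R n m F G) * alphaP R n m F G (X i) = 0 := by
  have h : Ideal.Quotient.mk (Ideal.span (Set.range (HProd R n m F G)))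
      (HProd R n m F G (some (Sum.inl i))) = 0 :=
    Ideal.Quotient.eq_zero_iff_mem.mpr (Ideal.subset_span ⟨_, rfl⟩)
  have h2 : Ideal.Quotient.mk (Ideal.span (Set.range (HProd R n m F G)))
      (X none * rename (inlV n m) (F i) + (1 - X none) * X (inlV n m i)) = 0 := h
  rw [map_add, map_mul, map_mul, map_sub, map_one] at h2
  rw [alphaP_apply, alphaP_apply, rename_X]
  exact h2

lemma rel_inr (j : Fin m) :
    (1 - eQ R n m F G) * betaP R n m F G (G j) +
      eQ R n m F G * betaP R n m F G (X j) = 0 := by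
  have h : Ideal.Quotient.mk (Ideal.span (Set.range (HProd R n m F G)))
      (HProd R n m F G (some (Sum.inr j))) = 0 :=
    Ideal.Quotient.eq_zero_iff_mem.mpr (Ideal.subset_span ⟨_, rfl⟩)
  have h2 : Ideal.Quotient.mk (Ideal.span (Set.range (HProd R n m F G)))
      ((1 - X none) * rename (inrV n m) (G j) + X none * X (inrV n m j)) = 0 := h
  rw [map_add, map_mul, map_mul, map_sub, map_one] at h2
  rw [betaP_apply, betaP_apply, rename_X]
  exact h2

lemma eQ_mul_alphaP_F (i : Fin n) : eQ R n m F G * alphaP R n m F G (F i) = 0 := by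
  linear_combination eQ R n m F G * rel_inl R n m F G i -
    (alphaP R n m F G (F i) - alphaP R n m F G (X i)) * eQ_idem R n m F G

lemma one_sub_eQ_mul_alphaP_X (i : Fin n) :
    (1 - eQ R n m F G) * alphaP R n m F G (X i) = 0 := by
  linear_combination (1 - eQ R n m F G) * rel_inl R n m F G i +
    (alphaP R n m F G (F i) - alphaP R n m F G (X i)) * eQ_idem R n m F G

lemma one_sub_eQ_mul_betaP_G (j : Fin m) :
    (1 - eQ R n m F G) * betaP R n m F G (G j) = 0 := by
  linear_combination (1 - eQ R n m F G) * rel_inr R n m F G j -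
    (betaP R n m F G (G j) - betaP R n m F G (X j)) * eQ_idem R n m F G

lemma eQ_mul_betaP_X (j : Fin m) : eQ R n m F G * betaP R n m F G (X j) = 0 := by
  linear_combination eQ R n m F G * rel_inr R n m F G j +
    (betaP R n m F G (G j) - betaP R n m F G (X j)) * eQ_idem R n m F G

lemma a1_kills (p : MvPolynomial (Fin n) R) (hp : p ∈ Ideal.span (Set.range F)) :
    eQ R n m F G * alphaP R n m F G p = 0 := by
  induction hp using Submodule.span_induction with
  | mem x hx =>
    obtain ⟨i, rfl⟩ := hx
    exact eQ_mul_alphaP_F R n m F G i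
  | zero => rw [map_zero, mul_zero]
  | add x y _ _ hx hy => rw [map_add, mul_add, hx, hy, add_zero]
  | smul a x _ hx => rw [smul_eq_mul, map_mul, mul_left_comm, hx, mul_zero]

lemma a2_kills (q : MvPolynomial (Fin m) R) (hq : q ∈ Ideal.span (Set.range G)) :
    (1 - eQ R n m F G) * betaP R n m F G q = 0 := by
  induction hq using Submodule.span_induction with
  | mem x hx =>
    obtain ⟨j, rfl⟩ := hx
    exact one_sub_eQ_mul_betaP_G R n m F G j
  | zero => rw [map_zero, mul_zero]
  | add x y _ _ hx hy => rw [map_add, mul_add, hx, hy, add_zero]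
  | smul a x _ hx => rw [smul_eq_mul, map_mul, mul_left_comm, hx, mul_zero]

/-- `p ↦ e·p(x)` as a linear map on the polynomial ring. -/
noncomputable def a1 : MvPolynomial (Fin n) R →ₗ[R] QP R n m F G :=
  (LinearMap.mulLeft R (eQ R n m F G)).comp (alphaP R n m F G).toLinearMap

/-- `q ↦ (1-e)·q(y)` as a linear map on the polynomial ring. -/
noncomputable def a2 : MvPolynomial (Fin m) R →ₗ[R] QP R n m F G :=
  (LinearMap.mulLeft R (1 - eQ R n m F G)).comp (betaP R n m F G).toLinearMap

/-- `c ↦ e·c` on the first factor. -/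
noncomputable def abar1 : Synt.RelGCIRing R n n F →ₗ[R] QP R n m F G :=
  (Submodule.liftQ ((Ideal.span (Set.range F)).restrictScalars R) (a1 R n m F G)
    (fun p hp => a1_kills R n m F G p hp)).comp
    (Submodule.Quotient.restrictScalarsEquiv R (Ideal.span (Set.range F))).symm.toLinearMap

/-- `c ↦ (1-e)·c` on the second factor. -/
noncomputable def abar2 : Synt.RelGCIRing R m m G →ₗ[R] QP R n m F G :=
  (Submodule.liftQ ((Ideal.span (Set.range G)).restrictScalars R) (a2 R n m F G)
    (fun q hq => a2_kills R n m F G q hq)).comp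
    (Submodule.Quotient.restrictScalarsEquiv R (Ideal.span (Set.range G))).symm.toLinearMap

lemma abar1_mk (p : MvPolynomial (Fin n) R) :
    abar1 R n m F G (Ideal.Quotient.mk _ p) = eQ R n m F G * alphaP R n m F G p := by
  unfold abar1
  rw [LinearMap.comp_apply]
  show Submodule.liftQ _ _ _ ((Submodule.Quotient.restrictScalarsEquiv R
    (Ideal.span (Set.range F))).symm (Submodule.Quotient.mk p)) = _
  rw [Submodule.Quotient.restrictScalarsEquiv_symm_mk, Submodule.liftQ_apply]
  rfl

lemma abar2_mk (q : MvPolynomial (Fin m) R) :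
    abar2 R n m F G (Ideal.Quotient.mk _ q) = (1 - eQ R n m F G) * betaP R n m F G q := by
  unfold abar2
  rw [LinearMap.comp_apply]
  show Submodule.liftQ _ _ _ ((Submodule.Quotient.restrictScalarsEquiv R
    (Ideal.span (Set.range G))).symm (Submodule.Quotient.mk q)) = _
  rw [Submodule.Quotient.restrictScalarsEquiv_symm_mk, Submodule.liftQ_apply]
  rfl

/-- the inverse map, as a linear map. -/
noncomputable def PsiL : (Synt.RelGCIRing R n n F × Synt.RelGCIRing R m m G) →ₗ[R] QP R n m F G :=
  (abar1 R n m F G).coprod (abar2 R n m F G)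

lemma PsiL_mk (p : MvPolynomial (Fin n) R) (q : MvPolynomial (Fin m) R) :
    PsiL R n m F G (Ideal.Quotient.mk _ p, Ideal.Quotient.mk _ q) =
      eQ R n m F G * alphaP R n m F G p + (1 - eQ R n m F G) * betaP R n m F G q := by
  unfold PsiL
  rw [LinearMap.coprod_apply, abar1_mk, abar2_mk]

/-- the inverse map, as an algebra map. -/
noncomputable def PsiP : (Synt.RelGCIRing R n n F × Synt.RelGCIRing R m m G) →ₐ[R] QP R n m F G :=
  AlgHom.ofLinearMap (PsiL R n m F G)
    (by
      have h := PsiL_mk R n m F G 1 1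
      rw [map_one, map_one] at h
      rw [show (1 : Synt.RelGCIRing R n n F × Synt.RelGCIRing R m m G) = (1, 1) from rfl, h,
        map_one, map_one]
      ring)
    (by
      rintro ⟨c₁, c₂⟩ ⟨d₁, d₂⟩
      obtain ⟨p, rfl⟩ := Ideal.Quotient.mk_surjective c₁
      obtain ⟨q, rfl⟩ := Ideal.Quotient.mk_surjective c₂
      obtain ⟨p', rfl⟩ := Ideal.Quotient.mk_surjective d₁
      obtain ⟨q', rfl⟩ := Ideal.Quotient.mk_surjective d₂
      rw [Prod.mk_mul_mk, ← map_mul, ← map_mul, PsiL_mk, PsiL_mk, PsiL_mk, map_mul, map_mul]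
      linear_combination
        (-(alphaP R n m F G p * alphaP R n m F G p') - betaP R n m F G q * betaP R n m F G q'
          + alphaP R n m F G p * betaP R n m F G q' + betaP R n m F G q * alphaP R n m F G p') *
          eQ_idem R n m F G)

lemma PsiP_mk (p : MvPolynomial (Fin n) R) (q : MvPolynomial (Fin m) R) :
    PsiP R n m F G (Ideal.Quotient.mk _ p, Ideal.Quotient.mk _ q) =
      eQ R n m F G * alphaP R n m F G p + (1 - eQ R n m F G) * betaP R n m F G q :=
  PsiL_mk R n m F G p q

lemma PsiP_comp_PhiBar : (PsiP R n m F G).comp (PhiBar R n m F G) = AlgHom.id R _ := by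
  apply Ideal.Quotient.algHom_ext
  apply MvPolynomial.algHom_ext
  intro i
  rcases i with _ | i | j
  · show PsiP R n m F G (PhiBar R n m F G (Ideal.Quotient.mk _ (X none))) =
      Ideal.Quotient.mk _ (X none)
    rw [PhiBar_mk, PhiP_X_none]
    have h := PsiP_mk R n m F G 1 0
    rw [map_one, map_zero] at h
    rw [h, map_one, map_zero, mul_one, mul_zero, add_zero]
    rfl
  · show PsiP R n m F G (PhiBar R n m F G (Ideal.Quotient.mk _ (X (inlV n m i)))) =
      Ideal.Quotient.mk _ (X (inlV n m i))
    rw [PhiBar_mk, PhiP_X_inl]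
    have h := PsiP_mk R n m F G (X i) 0
    rw [map_zero] at h
    rw [h, map_zero, mul_zero, add_zero]
    have h2 : alphaP R n m F G (X i) = Ideal.Quotient.mk _ (X (inlV n m i)) := by
      rw [alphaP_apply, rename_X]
    rw [← h2]
    linear_combination (-1 : QP R n m F G) * one_sub_eQ_mul_alphaP_X R n m F G i
  · show PsiP R n m F G (PhiBar R n m F G (Ideal.Quotient.mk _ (X (inrV n m j)))) =
      Ideal.Quotient.mk _ (X (inrV n m j))
    rw [PhiBar_mk, PhiP_X_inr]
    have h := PsiP_mk R n m F G 0 (X j)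
    rw [map_zero] at h
    rw [h, map_zero, mul_zero, zero_add]
    have h2 : betaP R n m F G (X j) = Ideal.Quotient.mk _ (X (inrV n m j)) := by
      rw [betaP_apply, rename_X]
    rw [← h2]
    linear_combination (-1 : QP R n m F G) * eQ_mul_betaP_X R n m F G j

lemma PhiBar_comp_PsiP : (PhiBar R n m F G).comp (PsiP R n m F G) = AlgHom.id R _ := by
  apply AlgHom.ext
  rintro ⟨c₁, c₂⟩
  obtain ⟨p, rfl⟩ := Ideal.Quotient.mk_surjective c₁
  obtain ⟨q, rfl⟩ := Ideal.Quotient.mk_surjective c₂
  show PhiBar R n m F G (PsiP R n m F G (Ideal.Quotient.mk _ p, Ideal.Quotient.mk _ q)) =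
    (Ideal.Quotient.mk _ p, Ideal.Quotient.mk _ q)
  rw [PsiP_mk, map_add, map_mul, map_mul, map_sub, map_one]
  have h1 : PhiBar R n m F G (eQ R n m F G) = (1, 0) := PhiP_X_none R n m F G
  have h2 : PhiBar R n m F G (alphaP R n m F G p) = PhiP R n m F G (rename (inlV n m) p) := rfl
  have h3 : PhiBar R n m F G (betaP R n m F G q) = PhiP R n m F G (rename (inrV n m) q) := rfl
  rw [h1, h2, h3]
  ext
  · simp [PhiP_rename_inl_fst]
  · simp [PhiP_rename_inr_snd]

/-- **the product of two square presentations**. -/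
noncomputable def prodEquiv : QP R n m F G ≃ₐ[R]
    (Synt.RelGCIRing R n n F × Synt.RelGCIRing R m m G) :=
  AlgEquiv.ofAlgHom (PhiBar R n m F G) (PsiP R n m F G) (PhiBar_comp_PsiP R n m F G)
    (PsiP_comp_PhiBar R n m F G)

end prod

/-- a product of two square-presented algebras is square-presented. -/
theorem SqP.prod {R : Type u} [CommRing R] {C₁ C₂ : Type u} [CommRing C₁] [CommRing C₂]
    [Algebra R C₁] [Algebra R C₂] (h₁ : SqP R C₁) (h₂ : SqP R C₂) : SqP R (C₁ × C₂) := by
  obtain ⟨n, F, ⟨φ₁⟩⟩ := h₁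
  obtain ⟨m, G, ⟨φ₂⟩⟩ := h₂
  refine SqP.of_fintype (PIdx n m) (HProd R n m F G) ?_
  exact (AlgEquiv.prodCongr φ₁ φ₂).trans (prodEquiv R n m F G).symm

end Groth.Agent.Lib.SqPres
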