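import Mathlib
import Groth.Prelude.Def_RegImm
import Groth.Agent.Lib.CIField2_helper2

/-!
# Localisation bookkeeping for S9169 (helper2).  APPEND-ONLY once landed.
-/

set_option autoImplicit false
universe u

namespace Groth.Agent.Lib.SyntLoc

open TensorProduct
open Groth.Agent.Lib.CIField

section AA

variable {R S : Type u} [CommRing R] [CommRing S] [Algebra R S]

/-- a principal localisation of a principal localisation is a principal localisation. -/
theorem exists_away_of_away (q : Ideal S) [q.IsPrime] (g : S) (hg : g ∉ q)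
    (h : Localization.Away g) (hh : h ∉ q.map (algebraMap S (Localization.Away g))) :
    ∃ g' : S, g' ∉ q ∧ Nonempty (Localization.Away g' ≃ₐ[R] Localization.Away h) := by
  obtain ⟨s, ⟨_, m, rfl⟩, rfl⟩ := IsLocalization.exists_mk'_eq (Submonoid.powers g) h
  have hs : s ∉ q := by
    intro hsq
    apply hh
    rw [IsLocalization.mk'_mem_map_algebraMap_iff (Submonoid.powers g)]
    exact ⟨1, one_mem _, by rwa [one_mul]⟩
  refine ⟨g * s, fun hgs => (Ideal.IsPrime.mem_or_mem inferInstance hgs).elim hg hs, ?_⟩
  set h := IsLocalization.mk' (Localization.Away g) s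
    (⟨g ^ m, m, rfl⟩ : Submonoid.powers g) with hh_def
  have hassoc : Associated (algebraMap S (Localization.Away g) s) h := by
    refine Associated.symm ⟨(IsLocalization.map_units (Localization.Away g)
      (⟨g ^ m, m, rfl⟩ : Submonoid.powers g)).unit, ?_⟩
    exact IsLocalization.mk'_spec (Localization.Away g) s (⟨g ^ m, m, rfl⟩ : Submonoid.powers g)
  haveI : IsLocalization.Away (g * s) (Localization.Away h) :=
    IsLocalization.Away.mul_of_associated g s h hassoc
  exact ⟨(IsLocalization.algEquiv (Submonoid.powers (g * s)) (Localization.Away (g * s))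
    (Localization.Away h)).restrictScalars R⟩

/-- the local ring of `S_g` at the extension of `q` is the local ring of `S` at `q`. -/
theorem nonempty_atPrime_away_equiv (q : Ideal S) [hq : q.IsPrime] (g : S) (hg : g ∉ q) :
    ∃ (_ : (q.map (algebraMap S (Localization.Away g))).IsPrime),
      Nonempty (Localization.AtPrime (q.map (algebraMap S (Localization.Away g))) ≃ₐ[R]
        Localization.AtPrime q) := by
  have hdisj : Disjoint (Submonoid.powers g : Set S) (q : Set S) := by
    rw [Ideal.disjoint_powers_iff_notMem _ hq.isRadical]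
    exact hg
  haveI ha : (q.map (algebraMap S (Localization.Away g))).IsPrime :=
    IsLocalization.isPrime_of_isPrime_disjoint (Submonoid.powers g) _ q hq hdisj
  have hcomap : (q.map (algebraMap S (Localization.Away g))).comap
      (algebraMap S (Localization.Away g)) = q :=
    IsLocalization.comap_map_of_isPrime_disjoint (Submonoid.powers g) _ hq hdisj
  obtain ⟨e₂⟩ := algEquiv_atPrime_of_eq q _ hcomap.symm
  let e₃ := IsLocalization.localizationLocalizationAtPrimeIsoLocalization (Submonoid.powers g)
    (q.map (algebraMap S (Localization.Away g)))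
  exact ⟨ha, ⟨((e₂.restrictScalars R).trans (e₃.restrictScalars R)).symm⟩⟩

end AA

section LF

variable {R S : Type u} [CommRing R] [CommRing S] [Algebra R S]
variable (K : Type u) [CommRing K] [Algebra R K]

/-- primes of `K ⊗ S` not containing `1 ⊗ g` correspond to primes of `K ⊗ S_g`, with isomorphic
local rings. -/
theorem exists_fibre_away_prime (g : S) (Q : Ideal (K ⊗[R] S)) [hQ : Q.IsPrime]
    (hg : g ∉ Q.comap (Algebra.TensorProduct.includeRight : S →ₐ[R] K ⊗[R] S).toRingHom) :
    ∃ (Q' : Ideal (K ⊗[R] Localization.Away g)) (_ : Q'.IsPrime),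
      Q'.comap (Algebra.TensorProduct.includeRight :
        Localization.Away g →ₐ[R] K ⊗[R] Localization.Away g).toRingHom =
        (Q.comap (Algebra.TensorProduct.includeRight : S →ₐ[R] K ⊗[R] S).toRingHom).map
          (algebraMap S (Localization.Away g)) ∧
      Nonempty (Localization.AtPrime Q ≃ₐ[K] Localization.AtPrime Q') := by
  set γ : K ⊗[R] S := (1 : K) ⊗ₜ[R] g with hγ
  have hγQ : γ ∉ Q := hg
  let E : K ⊗[R] Localization.Away g ≃ₐ[K] Localization.Away γ :=
    IsLocalization.Away.tensorProductEquivTMulRight R K g (Localization.Away g)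
  have hE : ∀ (x : K) (a : S), E (x ⊗ₜ[R] algebraMap S (Localization.Away g) a) =
      algebraMap (K ⊗[R] S) (Localization.Away γ) (x ⊗ₜ[R] a) :=
    fun x a => IsLocalization.Away.tensorProductEquivTMulRight_tmul S g (Localization.Away g) x a
  have hdisj : Disjoint (Submonoid.powers γ : Set (K ⊗[R] S)) (Q : Set (K ⊗[R] S)) := by
    rw [Ideal.disjoint_powers_iff_notMem _ hQ.isRadical]
    exact hγQ
  set Qγ : Ideal (Localization.Away γ) := Q.map (algebraMap (K ⊗[R] S) (Localization.Away γ))
    with hQγ
  haveI hQγp : Qγ.IsPrime :=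
    IsLocalization.isPrime_of_isPrime_disjoint (Submonoid.powers γ) _ Q hQ hdisj
  have hcomap : Qγ.comap (algebraMap (K ⊗[R] S) (Localization.Away γ)) = Q :=
    IsLocalization.comap_map_of_isPrime_disjoint (Submonoid.powers γ) _ hQ hdisj
  set Q' : Ideal (K ⊗[R] Localization.Away g) :=
    Qγ.comap (E : K ⊗[R] Localization.Away g →+* Localization.Away γ) with hQ'
  haveI hQ'p : Q'.IsPrime := Ideal.comap_isPrime _ _
  refine ⟨Q', hQ'p, ?_, ?_⟩
  · apply le_antisymm
    · intro x hx
      obtain ⟨s, ⟨_, m, rfl⟩, rfl⟩ := IsLocalization.exists_mk'_eq (Submonoid.powers g) x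
      rw [IsLocalization.mk'_mem_map_algebraMap_iff (Submonoid.powers g)]
      refine ⟨1, one_mem _, ?_⟩
      rw [one_mul]
      have h1 : (1 : K) ⊗ₜ[R] (IsLocalization.mk' (Localization.Away g) s
          (⟨g ^ m, m, rfl⟩ : Submonoid.powers g)) ∈ Q' := hx
      have h2 : ((1 : K) ⊗ₜ[R] (IsLocalization.mk' (Localization.Away g) s
          (⟨g ^ m, m, rfl⟩ : Submonoid.powers g))) *
          ((1 : K) ⊗ₜ[R] (algebraMap S (Localization.Away g) (g ^ m))) ∈ Q' :=
        Ideal.mul_mem_right _ _ h1
      rw [Algebra.TensorProduct.tmul_mul_tmul, one_mul] at h2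
      have h3 := IsLocalization.mk'_spec (Localization.Away g) s
        (⟨g ^ m, m, rfl⟩ : Submonoid.powers g)
      rw [h3] at h2
      have h4 : E ((1 : K) ⊗ₜ[R] algebraMap S (Localization.Away g) s) ∈ Qγ := h2
      rw [hE] at h4
      have h5 : ((1 : K) ⊗ₜ[R] s : K ⊗[R] S) ∈
          Qγ.comap (algebraMap (K ⊗[R] S) (Localization.Away γ)) := h4
      rw [hcomap] at h5
      exact h5
    · rw [Ideal.map_le_iff_le_comap]
      intro s hs
      show E ((1 : K) ⊗ₜ[R] algebraMap S (Localization.Away g) s) ∈ Qγ
      rw [hE]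
      exact Ideal.mem_map_of_mem _ hs
  · obtain ⟨e₂⟩ := algEquiv_atPrime_of_eq Q _ hcomap.symm
    let e₃ := IsLocalization.localizationLocalizationAtPrimeIsoLocalization
      (Submonoid.powers γ) Qγ
    have H : Submonoid.map E Q'.primeCompl = Qγ.primeCompl := by
      ext y
      constructor
      · rintro ⟨x, hx, rfl⟩
        exact hx
      · intro hy
        refine ⟨E.symm y, ?_, E.apply_symm_apply y⟩
        show E.symm y ∉ Q'
        intro hc
        apply hy
        have : E (E.symm y) ∈ Qγ := hc
        rwa [E.apply_symm_apply] at this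
    let e₄ : Localization.AtPrime Q' ≃ₐ[K] Localization.AtPrime Qγ :=
      IsLocalization.algEquivOfAlgEquiv (Localization.AtPrime Q') (Localization.AtPrime Qγ) E H
    exact ⟨((e₂.restrictScalars K).trans (e₃.restrictScalars K)).trans e₄.symm⟩

end LF

end Groth.Agent.Lib.SyntLoc
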