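import Mathlib
import Groth.Prelude.Def_RegImm
import Groth.Agent.Lib.SyntLoc1_helper2
import Groth.Agent.Lib.RelGCI7_helper2
import Groth.Agent.Lib.SyntCover_lead
import Groth.Agent.Lib.FlatLocFP1_helper6
import Groth.Agent.S0387

/-!
# S9169 (helper2): syntomic neighbourhoods, relative global complete intersections and the
local conditions.  APPEND-ONLY once landed.
-/

set_option autoImplicit false
universe u

namespace Groth.Agent.Lib.SyntLoc

open TensorProduct CategoryTheory CategoryTheory.Limits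
open Groth.Agent.Lib.CIField Groth.Agent.Lib.SyntTA Groth.Agent.Lib.FibKoszul
  Groth.Agent.Lib.LCIComp Groth.Agent.Lib.RelGCI Groth.Agent.Lib.SyntCover_lead

section flatstep

variable {R S₁ : Type u} [CommRing R] [CommRing S₁] [Algebra R S₁]

theorem flat_localizedModule_iff_atPrime (q : Ideal S₁) [q.IsPrime] :
    Module.Flat R (Localization.AtPrime q) ↔ Module.Flat R (LocalizedModule q.primeCompl S₁) :=
  Groth.Agent.Lib.FlatLocFP1H6.flat_iff_of_isLocalizedModule (A := R) (C := S₁) q.primeCompl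
    (Algebra.linearMap S₁ (Localization.AtPrime q))

/-- openness of the flat locus: flatness of a local ring of a finitely presented algebra spreads
to a principal open. -/
theorem exists_flat_away [Algebra.FinitePresentation R S₁] (q₁ : Ideal S₁) [hq₁ : q₁.IsPrime]
    (hfl : Module.Flat R (Localization.AtPrime q₁)) :
    ∃ h₁ : S₁, h₁ ∉ q₁ ∧ Module.Flat R (Localization.Away h₁) := by
  have hopen := Groth.Agent.S0387.result (R := R) (S := S₁) (M := S₁)
  set Ω : Set (PrimeSpectrum S₁) :=
    {q | Module.Flat R (LocalizedModule q.asIdeal.primeCompl S₁)} with hΩ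
  have hq₁Ω : (⟨q₁, hq₁⟩ : PrimeSpectrum S₁) ∈ Ω := (flat_localizedModule_iff_atPrime q₁).mp hfl
  set J := PrimeSpectrum.vanishingIdeal (Ωᶜ : Set (PrimeSpectrum S₁)) with hJ
  have hZ : PrimeSpectrum.zeroLocus (J : Set S₁) = Ωᶜ := by
    rw [hJ, PrimeSpectrum.zeroLocus_vanishingIdeal_eq_closure, (hopen.isClosed_compl).closure_eq]
  have hnot : ¬ ((J : Set S₁) ⊆ q₁) := by
    intro hsub
    have : (⟨q₁, hq₁⟩ : PrimeSpectrum S₁) ∈ PrimeSpectrum.zeroLocus (J : Set S₁) := hsub
    rw [hZ] at this
    exact this hq₁Ω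
  obtain ⟨h₁, h₁J, h₁q⟩ := Set.not_subset.mp hnot
  refine ⟨h₁, h₁q, ?_⟩
  have hΩ' : ∀ q : PrimeSpectrum S₁, h₁ ∉ q.asIdeal → q ∈ Ω := by
    intro q hq
    by_contra hqΩ
    have h1 : q ∈ PrimeSpectrum.zeroLocus (J : Set S₁) := by
      rw [hZ]
      exact hqΩ
    exact hq (h1 h₁J)
  refine Module.flat_of_isLocalized_maximal (Localization.Away h₁) (Localization.Away h₁)
    (fun P _ => Localization.AtPrime P)
    (fun P _ => Algebra.linearMap (Localization.Away h₁) (Localization.AtPrime P)) ?_
  intro P hP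
  haveI := hP.isPrime
  have hmem : h₁ ∉ P.comap (algebraMap S₁ (Localization.Away h₁)) := by
    intro hc
    have hu : IsUnit (algebraMap S₁ (Localization.Away h₁) h₁) :=
      IsLocalization.Away.algebraMap_isUnit h₁
    exact hP.ne_top (Ideal.eq_top_of_isUnit_mem _ hc hu)
  have h2 := hΩ' ⟨P.comap (algebraMap S₁ (Localization.Away h₁)), inferInstance⟩ hmem
  haveI h3 : Module.Flat R (Localization.AtPrime (P.comap (algebraMap S₁ (Localization.Away h₁)))) :=
    (flat_localizedModule_iff_atPrime _).mpr h2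
  let e := IsLocalization.localizationLocalizationAtPrimeIsoLocalization (Submonoid.powers h₁) P
  exact Module.Flat.of_linearEquiv ((e.restrictScalars R).symm.toLinearEquiv)

end flatstep

section pointwise

variable {R S₂ : Type u} [CommRing R] [CommRing S₂] [Algebra R S₂]

/-- pointwise fibre criterion: a flat finitely presented algebra whose fibre local ring at `Q₂` is
a complete intersection is syntomic on a principal open around the contraction of `Q₂`. -/
theorem exists_syntomic_away_of_fibre (hfl : Module.Flat R S₂)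
    (hfp : Algebra.FinitePresentation R S₂) (p : Ideal R) [p.IsPrime]
    (Q₂ : Ideal (p.Fiber S₂)) [Q₂.IsPrime]
    (hci : Synt.IsCIOver p.ResidueField (Localization.AtPrime Q₂)) :
    ∃ c : S₂, c ∉ Q₂.comap
        (Algebra.TensorProduct.includeRight : S₂ →ₐ[R] p.ResidueField ⊗[R] S₂).toRingHom ∧
      Synt.IsSyntomic R (Localization.Away c) := by
  haveI : Algebra.FiniteType R S₂ := inferInstance
  haveI : Algebra.FiniteType p.ResidueField (p.Fiber S₂) := inferInstance
  obtain ⟨h₂, hh₂, hL⟩ := ((main9144 p.ResidueField (p.Fiber S₂) Q₂).1).mp hci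
  have hL' : LCI.IsLCI p.ResidueField (Localization.Away h₂) := isLCI_of_isLCIOver _ _ hL
  have hcomp : (algebraMap (p.Fiber S₂) (Localization.Away h₂)).comp
      (Algebra.TensorProduct.includeLeftRingHom : p.ResidueField →+* p.ResidueField ⊗[R] S₂) =
      algebraMap p.ResidueField (Localization.Away h₂) :=
    RingHom.ext (fun r => (IsScalarTower.algebraMap_apply p.ResidueField (p.Fiber S₂)
      (Localization.Away h₂) r).symm)
  have hLK : LciAt (Algebra.TensorProduct.includeLeftRingHom :
      p.ResidueField →+* p.ResidueField ⊗[R] S₂) Q₂ := by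
    refine ⟨h₂, hh₂, Localization.Away h₂, inferInstance,
      algebraMap (p.Fiber S₂) (Localization.Away h₂), away_toAlgebra h₂, ?_⟩
    rw [hcomp]
    exact isLCIHom_algebraMap_iff.mpr hL'
  have key := lciAt_of_fibre_hom (Field.toIsField p.ResidueField) (RingHom.id R)
    (algebraMap R S₂) (algebraMap R p.ResidueField) (algebraMap R p.ResidueField)
    (RingHom.id p.ResidueField)
    (Algebra.TensorProduct.includeRight : S₂ →ₐ[R] p.ResidueField ⊗[R] S₂).toRingHom
    (Algebra.TensorProduct.includeLeftRingHom :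
      p.ResidueField →+* p.ResidueField ⊗[R] S₂)
    (isPushout_id R p) (isPushout_fibre R S₂ p) (RingHom.Flat.id R)
    (RingHom.FinitePresentation.id R)
    (by rw [RingHom.comp_id]; exact RingHom.flat_algebraMap_iff.mpr hfl)
    (by rw [RingHom.comp_id]; exact RingHom.finitePresentation_algebraMap.mpr hfp)
    Q₂ hLK
  obtain ⟨c, hc, T, _, ρ, hloc, hl⟩ := key
  refine ⟨c, hc, ?_⟩
  letI := ρ.toAlgebra
  haveI := hloc
  let e : T ≃ₐ[S₂] Localization.Away c := IsLocalization.algEquiv (Submonoid.powers c) T _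
  have hl' : LCI.IsLCI R (Localization.Away c) := by
    refine @isLCI_of_ringEquiv R T (Localization.Away c) _ _ _
      (ρ.comp (algebraMap R S₂)).toAlgebra _ e.toRingEquiv ?_ hl
    intro a
    show e (ρ (algebraMap R S₂ a)) = algebraMap R (Localization.Away c) a
    rw [IsScalarTower.algebraMap_apply R S₂ (Localization.Away c)]
    exact e.commutes (algebraMap R S₂ a)
  haveI := hfl
  exact (main9287 R (Localization.Away c)).mpr ⟨inferInstance, hl'⟩

end pointwise

section main

variable (R S : Type u) [CommRing R] [CommRing S] [Algebra R S]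

theorem main9169 (p : Ideal R) [p.IsPrime] (q : Ideal S) [q.IsPrime] [q.LiesOver p]
    (Q : Ideal (p.Fiber S)) [Q.IsPrime]
    (hQ : Q.comap (Algebra.TensorProduct.includeRight.toRingHom) = q) :
    ((∃ g : S, g ∉ q ∧ Synt.IsSyntomic R (Localization.Away g)) ↔
        ∃ g : S, g ∉ q ∧ ∃ (n c : ℕ) (F : Fin c → MvPolynomial (Fin n) R), Synt.IsRelGCI R n c F ∧
          Nonempty (Localization.Away g ≃ₐ[R] Synt.RelGCIRing R n c F)) ∧
      ((∃ g : S, g ∉ q ∧ Synt.IsSyntomic R (Localization.Away g)) ↔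
        ∃ g : S, g ∉ q ∧ Algebra.FinitePresentation R (Localization.Away g) ∧
          Module.Flat R (Localization.AtPrime q) ∧
          Synt.IsCIOver p.ResidueField (Localization.AtPrime Q)) := by
  refine ⟨⟨?_, ?_⟩, ⟨?_, ?_⟩⟩
  · -- syntomic ⟹ relative global complete intersection
    rintro ⟨g, hg, hs⟩
    obtain ⟨hq₁, -⟩ := nonempty_atPrime_away_equiv (R := R) q g hg
    haveI := hq₁
    obtain ⟨h', hh', n, c, F, hgci, ⟨E⟩⟩ :=
      exists_relGCI_away R (Localization.Away g) hs (q.map (algebraMap S (Localization.Away g)))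
    obtain ⟨g', hg', ⟨e⟩⟩ := exists_away_of_away (R := R) q g hg h' hh'
    exact ⟨g', hg', n, c, F, hgci, ⟨e.trans E⟩⟩
  · rintro ⟨g, hg, n, c, F, hgci, ⟨E⟩⟩
    exact ⟨g, hg, isSyntomic_of_algEquiv E.symm (main9147 R n c F hgci)⟩
  · -- syntomic ⟹ local conditions
    rintro ⟨g, hg, hs⟩
    refine ⟨g, hg, hs.2.1, ?_, ?_⟩
    · obtain ⟨hq₁, ⟨e⟩⟩ := nonempty_atPrime_away_equiv (R := R) q g hg
      haveI := hq₁
      haveI := hs.1
      exact Module.Flat.of_linearEquiv e.symm.toLinearEquiv
    · have hgQ : g ∉ Q.comap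
          (Algebra.TensorProduct.includeRight : S →ₐ[R] p.ResidueField ⊗[R] S).toRingHom := by
        rw [hQ]
        exact hg
      obtain ⟨Q', hQ', -, ⟨e⟩⟩ := exists_fibre_away_prime p.ResidueField g Q hgQ
      haveI := hQ'
      have hL : Synt.IsLCIOver p.ResidueField (p.Fiber (Localization.Away g)) :=
        hs.2.2 ⟨p, inferInstance⟩
      haveI := hL.1
      have h1 := ((main9145 p.ResidueField (p.Fiber (Localization.Away g))).1).mp hL ⟨Q', hQ'⟩
      exact isCIOver_of_algEquiv p.ResidueField e.symm h1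
  · -- local conditions ⟹ syntomic
    rintro ⟨g, hg, hfp, hfl, hci⟩
    haveI := hfp
    obtain ⟨hq₁, ⟨e₁⟩⟩ := nonempty_atPrime_away_equiv (R := R) q g hg
    haveI := hq₁
    haveI := hfl
    have hfl₁ : Module.Flat R (Localization.AtPrime (q.map (algebraMap S (Localization.Away g)))) :=
      Module.Flat.of_linearEquiv e₁.toLinearEquiv
    obtain ⟨h₁, hh₁, hflh⟩ := exists_flat_away (R := R) _ hfl₁
    obtain ⟨g₂, hg₂, ⟨e₂⟩⟩ := exists_away_of_away (R := R) q g hg h₁ hh₁
    haveI := hflh
    have hfl₂ : Module.Flat R (Localization.Away g₂) := Module.Flat.of_linearEquiv e₂.toLinearEquiv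
    haveI : Algebra.FinitePresentation (Localization.Away g) (Localization.Away h₁) :=
      IsLocalization.Away.finitePresentation h₁
    have hfp₁ : Algebra.FinitePresentation R (Localization.Away h₁) :=
      Algebra.FinitePresentation.trans R (Localization.Away g) (Localization.Away h₁)
    have hfp₂ : Algebra.FinitePresentation R (Localization.Away g₂) := hfp₁.equiv e₂.symm
    have hgQ : g₂ ∉ Q.comap
        (Algebra.TensorProduct.includeRight : S →ₐ[R] p.ResidueField ⊗[R] S).toRingHom := by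
      rw [hQ]
      exact hg₂
    obtain ⟨Q₂, hQ₂, hQ₂c, ⟨eQ⟩⟩ := exists_fibre_away_prime p.ResidueField g₂ Q hgQ
    haveI := hQ₂
    have hci₂ : Synt.IsCIOver p.ResidueField (Localization.AtPrime Q₂) :=
      isCIOver_of_algEquiv p.ResidueField eQ hci
    obtain ⟨c, hc, hsc⟩ := exists_syntomic_away_of_fibre hfl₂ hfp₂ p Q₂ hci₂
    rw [hQ₂c, hQ] at hc
    obtain ⟨g₃, hg₃, ⟨e₃⟩⟩ := exists_away_of_away (R := R) q g₂ hg₂ c hc
    exact ⟨g₃, hg₃, isSyntomic_of_algEquiv e₃.symm hsc⟩

end main

end Groth.Agent.Lib.SyntLoc
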