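import Mathlib
import Groth.Prelude.Def_RegImm
import Groth.Agent.Lib.SyntLift12_helper6
import Groth.Agent.Lib.SyntLoc2_helper2
import Groth.Agent.Lib.SyntSplit_helper2
import Groth.Agent.Lib.SyntLocal_helper3
import Groth.Agent.Lib.SyntCover_lead
import Groth.Agent.S9146

/-!
# Lifting syntomic algebras along `R → R/I` (helper6): S6826
-/

set_option autoImplicit false
set_option linter.style.haveILetI false
universe u

open TensorProduct

namespace Groth.Agent.Lib.SyntLiftH6

open Groth.Agent.Lib.SyntTA Groth.Agent.Lib.LCIComp Groth.Agent.Lib.FibKoszul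

/-- Localizations of syntomic algebras are syntomic. -/
theorem isSyntomic_away {R S : Type u} [CommRing R] [CommRing S] [Algebra R S]
    (h : Synt.IsSyntomic R S) (b : S) : Synt.IsSyntomic R (Localization.Away b) := by
  rw [main9287] at h ⊢
  haveI := h.1
  haveI : Module.Flat S (Localization.Away b) := IsLocalization.flat _ (Submonoid.powers b)
  refine ⟨Module.Flat.trans R S _, isLCI_trans h.2 ?_⟩
  rw [← isLCIHom_algebraMap_iff]
  apply Groth.Agent.Lib.SmoothLCI.isLCIHom_of_away _ b
  have : (algebraMap S (Localization.Away b)).toAlgebra =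
      (inferInstance : Algebra S (Localization.Away b)) := Algebra.algebra_ext _ _ (fun r => rfl)
  rw [this]
  infer_instance

/-- The fibres of `A` over the primes containing `I` are local complete intersections. -/
theorem isLCIOver_fiber_of_quotient {R A A₀ : Type u} [CommRing R] [CommRing A] [Algebra R A]
    (I : Ideal R) [CommRing A₀] [Algebra (R ⧸ I) A₀] (h : Synt.IsSyntomic (R ⧸ I) A₀)
    (e : (A ⧸ I.map (algebraMap R A)) ≃ₐ[R ⧸ I] A₀) (p : Ideal R) [p.IsPrime] (hIp : I ≤ p) :
    Synt.IsLCIOver p.ResidueField (p.Fiber A) := by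
  obtain ⟨hfl, hl₀⟩ := (main9287 _ _).mp h
  haveI := hfl
  letI algκ : Algebra (R ⧸ I) p.ResidueField :=
    (Ideal.Quotient.lift I (algebraMap R p.ResidueField) (fun a ha =>
      Ideal.algebraMap_residueField_eq_zero.2 (hIp ha))).toAlgebra
  haveI : IsScalarTower R (R ⧸ I) p.ResidueField := IsScalarTower.of_algebraMap_eq (fun a => rfl)
  have hκ : LCI.IsLCI p.ResidueField (p.ResidueField ⊗[R ⧸ I] A₀) :=
    isLCI_baseChange_rel (R ⧸ I) (R ⧸ I) A₀ p.ResidueField p.ResidueField
      (TensorProduct.lid (R ⧸ I) p.ResidueField).symm hl₀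
  let e_a : (A ⧸ I.map (algebraMap R A)) ≃ₐ[R ⧸ I] (R ⧸ I) ⊗[R] A :=
    Algebra.TensorProduct.quotIdealMapEquivQuotTensor A I
  let e_b : p.ResidueField ⊗[R ⧸ I] ((R ⧸ I) ⊗[R] A) ≃ₐ[p.ResidueField] p.ResidueField ⊗[R] A :=
    Algebra.TensorProduct.cancelBaseChange R (R ⧸ I) p.ResidueField p.ResidueField A
  let e_c : p.ResidueField ⊗[R ⧸ I] A₀ ≃ₐ[p.ResidueField]
      p.ResidueField ⊗[R ⧸ I] ((R ⧸ I) ⊗[R] A) :=
    Algebra.TensorProduct.congr AlgEquiv.refl (e.symm.trans e_a)
  apply isLCIOver_of_isLCI
  exact isLCI_of_ringEquiv (e_c.trans e_b).toRingEquiv (e_c.trans e_b).commutes hκ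

open Groth.Agent.Lib.CIField Groth.Agent.Lib.SyntLoc in
/-- Syntomic neighbourhoods of the primes containing `I A`. -/
theorem exists_syntomic_away_at {R A A₀ : Type u} [CommRing R] [CommRing A] [Algebra R A]
    [hfl : Module.Flat R A] [hfp : Algebra.FinitePresentation R A]
    (I : Ideal R) [CommRing A₀] [Algebra (R ⧸ I) A₀] (h : Synt.IsSyntomic (R ⧸ I) A₀)
    (e : (A ⧸ I.map (algebraMap R A)) ≃ₐ[R ⧸ I] A₀) (q : Ideal A) [q.IsPrime]
    (hIq : I.map (algebraMap R A) ≤ q) :
    ∃ c : A, c ∉ q ∧ Synt.IsSyntomic R (Localization.Away c) := by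
  have hIp : I ≤ q.comap (algebraMap R A) := Ideal.map_le_iff_le_comap.mp hIq
  have hfib := isLCIOver_fiber_of_quotient I h e (q.comap (algebraMap R A)) hIp
  have hqmem : q ∈ (q.comap (algebraMap R A)).primesOver A := ⟨inferInstance, ⟨rfl⟩⟩
  obtain ⟨Q, hQdef⟩ : ∃ Q : PrimeSpectrum ((q.comap (algebraMap R A)).Fiber A),
      Q = PrimeSpectrum.primesOverOrderIsoFiber R A (q.comap (algebraMap R A)) ⟨q, hqmem⟩ :=
    ⟨_, rfl⟩
  have hQ : Q.asIdeal.comap (Algebra.TensorProduct.includeRight :
      A →ₐ[R] (q.comap (algebraMap R A)).ResidueField ⊗[R] A) = q := by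
    have h1 := (PrimeSpectrum.primesOverOrderIsoFiber R A (q.comap (algebraMap R A))).symm_apply_apply
      ⟨q, hqmem⟩
    rw [← hQdef] at h1
    have h2 := congrArg Subtype.val h1
    rw [PrimeSpectrum.coe_primesOverOrderIsoFiber_symm_apply] at h2
    exact h2
  haveI : Algebra.FiniteType R A := inferInstance
  haveI : Algebra.FiniteType (q.comap (algebraMap R A)).ResidueField
      ((q.comap (algebraMap R A)).Fiber A) := inferInstance
  have hci := ((main9145 (q.comap (algebraMap R A)).ResidueField
    ((q.comap (algebraMap R A)).Fiber A)).1.mp hfib) Q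
  obtain ⟨c, hc, hs⟩ := exists_syntomic_away_of_fibre hfl hfp (q.comap (algebraMap R A))
    Q.asIdeal hci
  refine ⟨c, ?_, hs⟩
  intro hcq
  apply hc
  rw [← hQ] at hcq
  exact hcq

/-- A double localization of a syntomic localization is syntomic. -/
theorem isSyntomic_away_away {R A : Type u} [CommRing R] [CommRing A] [Algebra R A] (c g : A)
    (hc : Synt.IsSyntomic R (Localization.Away c)) :
    Synt.IsSyntomic R (Localization.Away (algebraMap A (Localization.Away g) c)) := by
  have h1 : Synt.IsSyntomic R (Localization.Away (algebraMap A (Localization.Away c) g)) :=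
    isSyntomic_away hc _
  haveI i1 : IsLocalization.Away (g * c)
      (Localization.Away (algebraMap A (Localization.Away c) g)) := inferInstance
  haveI i2 : IsLocalization.Away (g * c)
      (Localization.Away (algebraMap A (Localization.Away g) c)) :=
    IsLocalization.Away.mul' (Localization.Away g)
      (Localization.Away (algebraMap A (Localization.Away g) c)) g c
  have hT₁ : ∀ x : R, algebraMap R (Localization.Away (algebraMap A (Localization.Away c) g)) x =
      algebraMap A (Localization.Away (algebraMap A (Localization.Away c) g)) (algebraMap R A x) := by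
    intro x
    rw [IsScalarTower.algebraMap_apply R (Localization.Away c)
        (Localization.Away (algebraMap A (Localization.Away c) g)),
      IsScalarTower.algebraMap_apply R A (Localization.Away c),
      ← IsScalarTower.algebraMap_apply A (Localization.Away c)
        (Localization.Away (algebraMap A (Localization.Away c) g))]
  have hT₂ : ∀ x : R, algebraMap R (Localization.Away (algebraMap A (Localization.Away g) c)) x =
      algebraMap A (Localization.Away (algebraMap A (Localization.Away g) c)) (algebraMap R A x) := by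
    intro x
    rw [IsScalarTower.algebraMap_apply R (Localization.Away g)
        (Localization.Away (algebraMap A (Localization.Away g) c)),
      IsScalarTower.algebraMap_apply R A (Localization.Away g),
      ← IsScalarTower.algebraMap_apply A (Localization.Away g)
        (Localization.Away (algebraMap A (Localization.Away g) c))]
  let e : Localization.Away (algebraMap A (Localization.Away c) g) ≃ₐ[A]
      Localization.Away (algebraMap A (Localization.Away g) c) :=
    IsLocalization.algEquiv (Submonoid.powers (g * c)) _ _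
  let eR : Localization.Away (algebraMap A (Localization.Away c) g) ≃ₐ[R]
      Localization.Away (algebraMap A (Localization.Away g) c) :=
    AlgEquiv.ofRingEquiv (f := e.toRingEquiv) (fun x => by
      show e (algebraMap R _ x) = algebraMap R _ x
      rw [hT₁, e.commutes, ← hT₂])
  exact Groth.Agent.Lib.SyntCover_lead.isSyntomic_of_algEquiv eR h1

/-- Patching syntomic neighbourhoods of the primes containing `𝔨`. -/
theorem exists_syntomic_away_of_pointwise {R A : Type u} [CommRing R] [CommRing A] [Algebra R A]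
    (𝔨 : Ideal A)
    (h : ∀ (q : Ideal A) [q.IsPrime], 𝔨 ≤ q →
      ∃ c : A, c ∉ q ∧ Synt.IsSyntomic R (Localization.Away c)) :
    ∃ g : A, g - 1 ∈ 𝔨 ∧ Synt.IsSyntomic R (Localization.Away g) := by
  classical
  obtain ⟨𝔰, h𝔰⟩ : ∃ 𝔰 : Ideal A,
      𝔰 = Ideal.span {c : A | Synt.IsSyntomic R (Localization.Away c)} := ⟨_, rfl⟩
  have htop : 𝔰 ⊔ 𝔨 = ⊤ := by
    by_contra hne
    obtain ⟨m, hm, hle⟩ := Ideal.exists_le_maximal _ hne
    haveI := hm.isPrime
    obtain ⟨c, hc, hs⟩ := h m (le_sup_right.trans hle)
    apply hc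
    apply hle
    apply Ideal.mem_sup_left
    rw [h𝔰]
    exact Ideal.subset_span hs
  obtain ⟨g, hg, i, hi, hgi⟩ := Submodule.mem_sup.mp (htop ▸ (Submodule.mem_top : (1 : A) ∈ ⊤))
  refine ⟨g, ?_, ?_⟩
  · have : g - 1 = -i := by rw [← hgi]; ring
    rw [this]
    exact neg_mem hi
  rw [h𝔰] at hg
  obtain ⟨n, a, cs, hsum⟩ := Submodule.mem_span_set'.mp hg
  refine Groth.Agent.S9146.result R (Localization.Away g)
    (Finset.univ.image (fun j => algebraMap A (Localization.Away g) (cs j : A))) ?_ ?_
  · rw [Ideal.eq_top_iff_one]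
    have hu : IsUnit (algebraMap A (Localization.Away g) g) :=
      IsLocalization.Away.algebraMap_isUnit g
    have hmem : algebraMap A (Localization.Away g) g ∈ Ideal.span
        ((Finset.univ.image (fun j => algebraMap A (Localization.Away g) (cs j : A)) :
          Finset (Localization.Away g)) : Set (Localization.Away g)) := by
      rw [← hsum, map_sum]
      refine Ideal.sum_mem _ fun j _ => ?_
      rw [smul_eq_mul, map_mul]
      refine Ideal.mul_mem_left _ _ (Ideal.subset_span ?_)
      rw [Finset.mem_coe, Finset.mem_image]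
      exact ⟨j, Finset.mem_univ j, rfl⟩
    have := Ideal.eq_top_of_isUnit_mem _ hmem hu
    rw [this]
    exact Submodule.mem_top
  · intro x hx
    rw [Finset.mem_image] at hx
    obtain ⟨j, -, rfl⟩ := hx
    exact isSyntomic_away_away (cs j : A) g (cs j).2

/-- **S6826**: syntomic algebras lift along `R → R/I`. -/
theorem main6826 {R A₀ : Type u} [CommRing R] (I : Ideal R) [CommRing A₀]
    [Algebra (R ⧸ I) A₀] (h : Synt.IsSyntomic (R ⧸ I) A₀) :
    ∃ (A : Type u) (_ : CommRing A) (_ : Algebra R A), Synt.IsSyntomic R A ∧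
      Nonempty ((A ⧸ I.map (algebraMap R A)) ≃ₐ[R ⧸ I] A₀) := by
  obtain ⟨hfl₀, hl₀⟩ := (main9287 _ _).mp h
  haveI := hfl₀
  obtain ⟨A, _, _, hfl, hfp, ⟨e⟩⟩ := exists_flat_lift I hl₀
  haveI := hfl
  haveI := hfp
  obtain ⟨g, hg, hs⟩ := exists_syntomic_away_of_pointwise (R := R) (I.map (algebraMap R A))
    (fun q _ hq => exists_syntomic_away_at I h e q hq)
  obtain ⟨e'⟩ := nonempty_quotient_away_equiv I g hg
  exact ⟨Localization.Away g, inferInstance, inferInstance, hs, ⟨e'.trans e⟩⟩

end Groth.Agent.Lib.SyntLiftH6
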