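import Mathlib
import Groth.Prelude.Def_RegImm
import Groth.Agent.Lib.SqPres2_helper5
import Groth.Agent.Lib.SyntLift13_helper6
import Groth.Agent.Lib.CIField3_helper2

/-!
# Square presentations, part 3 (helper5): finite local complete intersections over a field

A finite algebra over a field which is a local complete intersection (`Synt.IsLCIOver`) has a
square presentation `k[x_1..x_n]/(f_1..f_n)`.  APPEND-ONLY once landed.
-/

set_option autoImplicit false
set_option linter.style.haveILetI false
universe u

namespace Groth.Agent.Lib.SqPres

open MvPolynomial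

/-- two elements with the same radical define the same localization. -/
lemma away_of_dvd_pow {R S : Type*} [CommRing R] [CommRing S] [Algebra R S] {x y : R}
    [hx : IsLocalization.Away x S] {a b : ℕ} (h1 : x ∣ y ^ a) (h2 : y ∣ x ^ b) :
    IsLocalization.Away y S := by
  let N : Submonoid R := Submonoid.closure {x, y}
  have hxN : Submonoid.powers x ≤ N :=
    Submonoid.powers_le.mpr (Submonoid.subset_closure (by simp))
  have hyN : Submonoid.powers y ≤ N :=
    Submonoid.powers_le.mpr (Submonoid.subset_closure (by simp))
  have hN1 : ∀ n ∈ N, ∃ m ∈ Submonoid.powers x, n ∣ m := by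
    intro n hn
    induction hn using Submonoid.closure_induction with
    | mem z hz =>
      rcases hz with rfl | hz
      · exact ⟨z, Submonoid.mem_powers z, dvd_rfl⟩
      · rw [Set.mem_singleton_iff] at hz
        subst hz
        exact ⟨x ^ b, ⟨b, rfl⟩, h2⟩
    | one => exact ⟨1, Submonoid.one_mem _, dvd_rfl⟩
    | mul u v _ _ hu hv =>
      obtain ⟨m1, hm1, d1⟩ := hu
      obtain ⟨m2, hm2, d2⟩ := hv
      exact ⟨m1 * m2, Submonoid.mul_mem _ hm1 hm2, mul_dvd_mul d1 d2⟩
  have hN2 : ∀ n ∈ N, ∃ m ∈ Submonoid.powers y, n ∣ m := by
    intro n hn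
    induction hn using Submonoid.closure_induction with
    | mem z hz =>
      rcases hz with rfl | hz
      · exact ⟨y ^ a, ⟨a, rfl⟩, h1⟩
      · rw [Set.mem_singleton_iff] at hz
        subst hz
        exact ⟨z, Submonoid.mem_powers z, dvd_rfl⟩
    | one => exact ⟨1, Submonoid.one_mem _, dvd_rfl⟩
    | mul u v _ _ hu hv =>
      obtain ⟨m1, hm1, d1⟩ := hu
      obtain ⟨m2, hm2, d2⟩ := hv
      exact ⟨m1 * m2, Submonoid.mul_mem _ hm1 hm2, mul_dvd_mul d1 d2⟩
  have h3 : IsLocalization N S := (IsLocalization.iff_of_le_of_exists_dvd _ N hxN hN1).mp hx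
  exact (IsLocalization.iff_of_le_of_exists_dvd _ N hyN hN2).mpr h3

section split

variable (k : Type u) [CommRing k] {C : Type u} [CommRing C] [Algebra k C]

lemma algebraMap_away_one_sub (e : C) (he : IsIdempotentElem e) :
    algebraMap C (Localization.Away e) (1 - e) = 0 := by
  rw [IsLocalization.map_eq_zero_iff (Submonoid.powers e)]
  refine ⟨⟨e, Submonoid.mem_powers e⟩, ?_⟩
  show e * (1 - e) = 0
  rw [mul_sub, mul_one, he.eq, sub_self]

lemma algebraMap_away_self (e : C) (he : IsIdempotentElem e) :
    algebraMap C (Localization.Away e) e = 1 := by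
  have h := algebraMap_away_one_sub e he
  rw [map_sub, map_one, sub_eq_zero] at h
  exact h.symm

lemma mul_eq_zero_of_algebraMap_away (e : C) (he : IsIdempotentElem e) (a : C)
    (h : algebraMap C (Localization.Away e) a = 0) : e * a = 0 := by
  rw [IsLocalization.map_eq_zero_iff (Submonoid.powers e)] at h
  obtain ⟨⟨_, n, rfl⟩, hn⟩ := h
  have hn' : e ^ n * a = 0 := hn
  calc e * a = e ^ (n + 1) * a := by rw [he.pow_succ_eq]
    _ = e * (e ^ n * a) := by rw [pow_succ]; ring
    _ = 0 := by rw [hn', mul_zero]

/-- splitting an algebra along an idempotent. -/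
noncomputable def idemSplit (e : C) (he : IsIdempotentElem e) :
    C ≃ₐ[k] (Localization.Away e × Localization.Away (1 - e)) :=
  AlgEquiv.ofBijective
    (AlgHom.prod (IsScalarTower.toAlgHom k C (Localization.Away e))
      (IsScalarTower.toAlgHom k C (Localization.Away (1 - e))))
    (by
      have he' : IsIdempotentElem (1 - e) := he.one_sub
      constructor
      · rw [injective_iff_map_eq_zero]
        intro a ha
        have h1 : algebraMap C (Localization.Away e) a = 0 := congrArg Prod.fst ha
        have h2 : algebraMap C (Localization.Away (1 - e)) a = 0 := congrArg Prod.snd ha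
        have h3 := mul_eq_zero_of_algebraMap_away e he a h1
        have h4 := mul_eq_zero_of_algebraMap_away (1 - e) he' a h2
        calc a = e * a + (1 - e) * a := by ring
          _ = 0 := by rw [h3, h4, add_zero]
      · rintro ⟨u, v⟩
        obtain ⟨a, rfl⟩ :=
          IsLocalization.Away.algebraMap_surjective_of_isIdempotentElem
            (S := Localization.Away e) e he u
        obtain ⟨b, rfl⟩ :=
          IsLocalization.Away.algebraMap_surjective_of_isIdempotentElem
            (S := Localization.Away (1 - e)) (1 - e) he' v
        refine ⟨e * a + (1 - e) * b, ?_⟩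
        have h5 : algebraMap C (Localization.Away (1 - e)) e = 0 := by
          have := algebraMap_away_one_sub (1 - e) he'
          rwa [sub_sub_cancel] at this
        apply Prod.ext
        · show algebraMap C (Localization.Away e) (e * a + (1 - e) * b) = _
          rw [map_add, map_mul, map_mul, algebraMap_away_self e he,
            algebraMap_away_one_sub e he, one_mul, zero_mul, add_zero]
        · show algebraMap C (Localization.Away (1 - e)) (e * a + (1 - e) * b) = _
          rw [map_add, map_mul, map_mul, algebraMap_away_self (1 - e) he', h5, one_mul,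
            zero_mul, zero_add])

end split

/-- a nonzero global complete intersection of dimension zero has a square presentation. -/
lemma sqP_of_isGlobalCI {k S : Type u} [Field k] [CommRing S] [Algebra k S] [Nontrivial S]
    (hdim : ringKrullDim S = 0) (h : Synt.IsGlobalCI k S) : SqP k S := by
  rcases h with hs | ⟨n, c, hcn, φ, r, hsurj, hker, hd⟩
  · exact absurd hs (not_subsingleton S)
  · rw [hdim] at hd
    have hnc : n - c = 0 := by
      have h0 : ((0 : ℕ) : WithBot ℕ∞) = ((n - c : ℕ) : WithBot ℕ∞) := by
        rw [← hd]; rfl
      exact_mod_cast h0.symm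
    have hc : c = n := by omega
    subst hc
    have hker' : Ideal.span (Set.range r) = RingHom.ker φ := hker.symm
    exact ⟨c, r, ⟨((Ideal.quotientEquivAlgOfEq k hker').trans
      (Ideal.quotientKerAlgEquivOfSurjective hsurj)).symm⟩⟩

/-- **finite local complete intersections over a field are square-presented.** -/
theorem sqP_of_finite_of_isLCIOver (k : Type u) [Field k] :
    ∀ (d : ℕ) (C : Type u) [CommRing C] [Algebra k C] [Module.Finite k C],
      Module.finrank k C ≤ d → Synt.IsLCIOver k C → SqP k C := by
  intro d
  induction d with
  | zero =>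
    intro C _ _ _ hd _
    by_cases hC : Subsingleton C
    · exact SqP.of_subsingleton
    · rw [not_subsingleton_iff_nontrivial] at hC
      haveI := hC
      have hpos : 0 < Module.finrank k C := Module.finrank_pos
      omega
  | succ d ih =>
    intro C _ _ _ hd hL
    by_cases hC : Subsingleton C
    · exact SqP.of_subsingleton
    rw [not_subsingleton_iff_nontrivial] at hC
    haveI := hC
    haveI : IsArtinianRing C := IsArtinianRing.of_finite k C
    obtain ⟨𝔫, h𝔫⟩ := Ideal.exists_maximal C
    haveI := h𝔫.isPrime
    obtain ⟨g, hg, hG⟩ := hL.2 ⟨𝔫, h𝔫.isPrime⟩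
    haveI hnt : Nontrivial (Localization.Away g) := by
      rw [← not_subsingleton_iff_nontrivial,
        IsLocalization.subsingleton_iff (M := Submonoid.powers g)]
      rintro ⟨n, hn⟩
      apply hg
      have : g ^ n ∈ 𝔫 := by
        have h0 : g ^ n = 0 := hn
        rw [h0]; exact 𝔫.zero_mem
      exact h𝔫.isPrime.mem_of_pow_mem n this
    have hdim : ringKrullDim (Localization.Away g) = 0 :=
      ringKrullDimZero_iff_ringKrullDim_eq_zero.mp inferInstance
    have hS : SqP k (Localization.Away g) := sqP_of_isGlobalCI hdim hG
    -- the idempotent of `D(g)`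
    have hcl : IsClopen ((PrimeSpectrum.basicOpen g : TopologicalSpace.Opens (PrimeSpectrum C)) :
        Set (PrimeSpectrum C)) := isClopen_discrete _
    obtain ⟨e, he, hbe⟩ := PrimeSpectrum.isClopen_iff.mp hcl
    have hbe' : PrimeSpectrum.basicOpen g = PrimeSpectrum.basicOpen e := SetLike.coe_injective hbe
    have hle1 : PrimeSpectrum.basicOpen g ≤ PrimeSpectrum.basicOpen e := le_of_eq hbe'
    have hle2 : PrimeSpectrum.basicOpen e ≤ PrimeSpectrum.basicOpen g := le_of_eq hbe'.symm
    rw [PrimeSpectrum.basicOpen_le_basicOpen_iff] at hle1 hle2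
    obtain ⟨b, hb⟩ := hle1
    rw [Ideal.mem_span_singleton] at hb
    obtain ⟨a, ha⟩ := hle2
    rw [Ideal.mem_span_singleton] at ha
    haveI : IsLocalization.Away e (Localization.Away g) := away_of_dvd_pow ha hb
    let ψ : Localization.Away g ≃ₐ[k] Localization.Away e :=
      (IsLocalization.algEquiv (Submonoid.powers e) (Localization.Away g)
        (Localization.Away e)).restrictScalars k
    have hSe : SqP k (Localization.Away e) := hS.of_algEquiv ψ
    haveI : Nontrivial (Localization.Away e) := ψ.injective.nontrivial
    have he' : IsIdempotentElem (1 - e) := he.one_sub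
    have hL' : Synt.IsLCIOver k (Localization.Away (1 - e)) := by
      rw [← Groth.Agent.Lib.CIField.isSyntomic_field_iff] at hL ⊢
      exact Groth.Agent.Lib.SyntLiftH6.isSyntomic_away hL (1 - e)
    let φ := idemSplit k e he
    haveI : Module.Finite k (Localization.Away e) :=
      Module.Finite.of_surjective (IsScalarTower.toAlgHom k C (Localization.Away e)).toLinearMap
        (IsLocalization.Away.algebraMap_surjective_of_isIdempotentElem e he)
    haveI : Module.Finite k (Localization.Away (1 - e)) :=
      Module.Finite.of_surjective
        (IsScalarTower.toAlgHom k C (Localization.Away (1 - e))).toLinearMap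
        (IsLocalization.Away.algebraMap_surjective_of_isIdempotentElem (1 - e) he')
    have hrank : Module.finrank k C =
        Module.finrank k (Localization.Away e) + Module.finrank k (Localization.Away (1 - e)) := by
      rw [φ.toLinearEquiv.finrank_eq, Module.finrank_prod]
    have hpos : 0 < Module.finrank k (Localization.Away e) := Module.finrank_pos
    have hS' : SqP k (Localization.Away (1 - e)) := ih _ (by omega) hL'
    exact (hSe.prod hS').of_algEquiv φ.symm

end Groth.Agent.Lib.SqPres
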