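import Mathlib
import Groth.Prelude.Def_RegImm
import Groth.Agent.Lib.SqPres1_helper5

/-!
# Square presentations, part 4 (helper5): lifting a square presentation of the closed fibre

`A` local, `B` a finite flat finitely presented `A`-algebra, `κ` a residue field of `A`
(any field receiving a surjection from `A`): a square presentation of `κ ⊗ B` over `κ`
lifts to a square presentation of `B` over `A` (one more variable, one more equation).
APPEND-ONLY once landed.
-/

set_option autoImplicit false
set_option linter.style.haveILetI false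
universe u

namespace Groth.Agent.Lib.SqPres

open MvPolynomial TensorProduct

section fibre

variable {A : Type u} [CommRing A] (B : Type u) [CommRing B] [Algebra A B]
  (κ : Type u) [CommRing κ] [Algebra A κ]

lemma includeRight_surjective (hsurj : Function.Surjective (algebraMap A κ)) :
    Function.Surjective (Algebra.TensorProduct.includeRight : B →ₐ[A] κ ⊗[A] B) := by
  intro t
  induction t using TensorProduct.induction_on with
  | zero => exact ⟨0, map_zero _⟩
  | tmul c b =>
    obtain ⟨a, rfl⟩ := hsurj c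
    refine ⟨a • b, ?_⟩
    rw [Algebra.TensorProduct.includeRight_apply, TensorProduct.tmul_smul,
      Algebra.algebraMap_eq_smul_one, TensorProduct.smul_tmul']
  | add x y hx hy =>
    obtain ⟨x', rfl⟩ := hx
    obtain ⟨y', rfl⟩ := hy
    exact ⟨x' + y', map_add _ _ _⟩

lemma mem_smul_top_of_one_tmul_eq_zero (hsurj : Function.Surjective (algebraMap A κ))
    (m : Ideal A) (hker : RingHom.ker (algebraMap A κ) = m) (b : B)
    (hb : (1 : κ) ⊗ₜ[A] b = 0) : b ∈ m • (⊤ : Submodule A B) := by
  have hex : Function.Exact m.subtype (Algebra.linearMap A κ) := by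
    rw [LinearMap.exact_iff, Submodule.range_subtype]
    ext x
    rw [LinearMap.mem_ker, Algebra.linearMap_apply, ← hker, RingHom.mem_ker]
  have hs : Function.Surjective (Algebra.linearMap A κ) := hsurj
  have h2 := rTensor_exact B hex hs
  have h3 : (LinearMap.rTensor B (Algebra.linearMap A κ)) ((1 : A) ⊗ₜ[A] b) = 0 := by
    rw [LinearMap.rTensor_tmul, Algebra.linearMap_apply, map_one, hb]
  obtain ⟨t, ht⟩ := (h2 _).mp h3
  have h4 : b = ((TensorProduct.lid A B).toLinearMap.comp (LinearMap.rTensor B m.subtype)) t := by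
    rw [LinearMap.comp_apply, ht]
    simp
  rw [← Ideal.subtype_rTensor_range B m, h4]
  exact LinearMap.mem_range_self _ t

end fibre

/-- an element congruent to `1` modulo `𝔪B` is a unit, for `B` finite over the local ring `A`. -/
lemma isUnit_of_sub_one_mem_smul_top {A B : Type*} [CommRing A] [IsLocalRing A] [CommRing B]
    [Algebra A B] [Module.Finite A B] (u : B)
    (hu : u - 1 ∈ (IsLocalRing.maximalIdeal A) • (⊤ : Submodule A B)) : IsUnit u := by
  have htop : (⊤ : Submodule A B) ≤ (Ideal.span {u}).restrictScalars A := by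
    apply Submodule.le_of_le_smul_of_le_jacobson_bot (I := IsLocalRing.maximalIdeal A)
      (Module.finite_def.mp inferInstance)
      (IsLocalRing.maximalIdeal_le_jacobson _)
    intro b _
    have h1 : b = u * b - (u - 1) * b := by ring
    rw [h1]
    apply Submodule.sub_mem
    · apply Submodule.mem_sup_left
      exact Ideal.mul_mem_right _ _ (Ideal.subset_span rfl)
    · apply Submodule.mem_sup_right
      rw [Ideal.smul_top_eq_map] at hu ⊢
      exact Ideal.mul_mem_right _ _ hu
  have h1 : (1 : B) ∈ Ideal.span {u} := htop (Submodule.mem_top : (1 : B) ∈ ⊤)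
  rw [← Ideal.eq_top_iff_one, Ideal.span_singleton_eq_top] at h1
  exact h1

/-- flatness of `B = A[x]/ker ψ`: `ker ψ ∩ 𝔪A[x] ⊆ 𝔪A[x] · ker ψ`. -/
lemma mem_mul_ker_of_flat {A B : Type*} [CommRing A] [CommRing B] [Algebra A B] [Module.Flat A B]
    {σ : Type*} (ψ : MvPolynomial σ A →ₐ[A] B) (hψ : Function.Surjective ψ) (m : Ideal A)
    (q : MvPolynomial σ A) (hq0 : ψ q = 0) (hqm : q ∈ Ideal.map (C : A →+* _) m) :
    q ∈ Ideal.map (C : A →+* MvPolynomial σ A) m * RingHom.ker ψ := by
  classical
  rw [MvPolynomial.mem_map_C_iff] at hqm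
  have hqsum : q = ∑ d : q.support, (coeff d.1 q) • monomial d.1 (1 : A) := by
    conv_lhs => rw [q.as_sum]
    rw [← Finset.sum_coe_sort q.support]
    refine Finset.sum_congr rfl (fun d _ => ?_)
    rw [smul_monomial, smul_eq_mul, mul_one]
  have hrel : ∑ d : q.support, (coeff d.1 q) • ψ (monomial d.1 (1 : A)) = 0 := by
    rw [← hq0]
    conv_rhs => rw [hqsum]
    rw [map_sum]
    refine Finset.sum_congr rfl (fun d _ => ?_)
    rw [map_smul]
  obtain ⟨k, a, y, hxy, hfa⟩ := Module.Flat.isTrivialRelation_of_sum_smul_eq_zero (R := A) (M := B)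
    (f := fun d : q.support => coeff d.1 q) (x := fun d : q.support => ψ (monomial d.1 (1 : A)))
    hrel
  replace hxy : ∀ i : q.support, ψ (monomial i.1 (1 : A)) = ∑ j, a i j • y j := hxy
  replace hfa : ∀ j : Fin k, ∑ i : q.support, coeff i.1 q * a i j = 0 := hfa
  choose z hz using fun j => hψ (y j)
  have hw : ∀ d : q.support, monomial d.1 (1 : A) - ∑ j, a d j • z j ∈ RingHom.ker ψ := by
    intro d
    rw [RingHom.mem_ker, map_sub, map_sum, hxy d, sub_eq_zero]
    refine Finset.sum_congr rfl (fun j _ => ?_)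
    rw [map_smul, hz]
  have hq2 : q = ∑ d : q.support,
      (coeff d.1 q) • (monomial d.1 (1 : A) - ∑ j, a d j • z j) := by
    have h1 : ∑ d : q.support, (coeff d.1 q) • (∑ j, a d j • z j) = 0 := by
      simp_rw [Finset.smul_sum, smul_smul]
      rw [Finset.sum_comm]
      refine Finset.sum_eq_zero (fun j _ => ?_)
      rw [← Finset.sum_smul, hfa j, zero_smul]
    conv_lhs => rw [hqsum]
    simp_rw [smul_sub]
    rw [Finset.sum_sub_distrib, h1, sub_zero]
  rw [hq2]
  refine Ideal.sum_mem _ (fun d _ => ?_)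
  rw [smul_eq_C_mul]
  exact Ideal.mul_mem_mul (Ideal.mem_map_of_mem _ (hqm d.1)) (hw d)

/-- **lifting a square presentation of the closed fibre** over a local base. -/
theorem sqP_lift (A B κ : Type u) [CommRing A] [IsLocalRing A] [CommRing B] [Algebra A B]
    [Module.Finite A B] [Module.Flat A B] [Algebra.FinitePresentation A B]
    [Field κ] [Algebra A κ] (hsurj : Function.Surjective (algebraMap A κ))
    (h : SqP κ (κ ⊗[A] B)) : SqP A B := by
  classical
  obtain ⟨n, fb, ⟨φ⟩⟩ := h
  have hker : RingHom.ker (algebraMap A κ) = IsLocalRing.maximalIdeal A := by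
    have hmax : (RingHom.ker (algebraMap A κ)).IsMaximal :=
      RingHom.ker_isMaximal_of_surjective _ hsurj
    exact IsLocalRing.eq_maximalIdeal hmax
  let π : B →ₐ[A] κ ⊗[A] B := Algebra.TensorProduct.includeRight
  have hπ : Function.Surjective π := includeRight_surjective B κ hsurj
  have hπker : ∀ b : B, π b = 0 → b ∈ (IsLocalRing.maximalIdeal A) • (⊤ : Submodule A B) :=
    fun b hb => mem_smul_top_of_one_tmul_eq_zero B κ hsurj _ hker b hb
  choose bgen hbgen using fun i : Fin n => hπ (φ.symm (Ideal.Quotient.mk _ (X i)))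
  let ψ : MvPolynomial (Fin n) A →ₐ[A] B := aeval bgen
  let μ : MvPolynomial (Fin n) A →+* MvPolynomial (Fin n) κ := MvPolynomial.map (algebraMap A κ)
  have hμ : Function.Surjective μ := MvPolynomial.map_surjective _ hsurj
  have hμker : RingHom.ker μ = Ideal.map (C : A →+* MvPolynomial (Fin n) A)
      (IsLocalRing.maximalIdeal A) := by
    rw [← hker]; exact MvPolynomial.ker_map _
  -- compatibility of `ψ` with the presentation of the fibre
  have hcomp : ∀ p, φ (π (ψ p)) = Ideal.Quotient.mk (Ideal.span (Set.range fb)) (μ p) := by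
    intro p
    have h1 : ((φ : κ ⊗[A] B →+* Synt.RelGCIRing κ n n fb).comp
        ((π : B →+* κ ⊗[A] B).comp (ψ : MvPolynomial (Fin n) A →+* B))) =
        (Ideal.Quotient.mk (Ideal.span (Set.range fb))).comp μ := by
      apply MvPolynomial.ringHom_ext
      · intro a
        show φ (π (ψ (C a))) = Ideal.Quotient.mk _ (μ (C a))
        have e1 : ψ (C a) = algebraMap A B a := by
          rw [← MvPolynomial.algebraMap_eq, AlgHom.commutes]
        have e2 : μ (C a) = algebraMap κ (MvPolynomial (Fin n) κ) (algebraMap A κ a) := by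
          rw [MvPolynomial.algebraMap_eq]; exact MvPolynomial.map_C _ _
        rw [e1, AlgHom.commutes, IsScalarTower.algebraMap_apply A κ (κ ⊗[A] B), AlgEquiv.commutes,
          e2, Ideal.Quotient.mk_algebraMap]
      · intro i
        show φ (π (ψ (X i))) = Ideal.Quotient.mk _ (μ (X i))
        have e1 : ψ (X i) = bgen i := aeval_X _ _
        have e2 : μ (X i) = X i := MvPolynomial.map_X _ _
        rw [e1, hbgen, AlgEquiv.apply_symm_apply, e2]
    exact RingHom.congr_fun h1 p
  -- `ψ` is surjective (Nakayama)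
  have hψ : Function.Surjective ψ := by
    have hle : (⊤ : Submodule A B) ≤ LinearMap.range ψ.toLinearMap := by
      apply Submodule.le_of_le_smul_of_le_jacobson_bot (I := IsLocalRing.maximalIdeal A)
        (Module.finite_def.mp inferInstance) (IsLocalRing.maximalIdeal_le_jacobson _)
      intro b _
      obtain ⟨pb, hpb⟩ := Ideal.Quotient.mk_surjective (φ (π b))
      obtain ⟨p, rfl⟩ := hμ pb
      have h1 : π (b - ψ p) = 0 := by
        rw [map_sub, sub_eq_zero]
        apply φ.injective
        rw [hcomp, hpb]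
      have h2 := hπker _ h1
      have h3 : b = ψ p + (b - ψ p) := by ring
      rw [h3]
      exact Submodule.add_mem _ (Submodule.mem_sup_left ⟨p, rfl⟩) (Submodule.mem_sup_right h2)
    intro b
    obtain ⟨p, hp⟩ := hle (Submodule.mem_top : b ∈ ⊤)
    exact ⟨p, hp⟩
  have hIfg : (RingHom.ker ψ.toRingHom).FG :=
    Algebra.FinitePresentation.ker_fG_of_surjective ψ hψ
  -- elements of `𝔪B` are images of elements of `𝔪A[x]`
  have hlift : ∀ y ∈ (IsLocalRing.maximalIdeal A) • (⊤ : Submodule A B),
      ∃ q, μ q = 0 ∧ ψ q = y := by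
    intro y hy
    refine Submodule.smul_induction_on hy ?_ ?_
    · intro a ha b _
      obtain ⟨q', rfl⟩ := hψ b
      refine ⟨C a * q', ?_, ?_⟩
      · have ha0 : algebraMap A κ a = 0 := by
          rw [← RingHom.mem_ker, hker]; exact ha
        have e2 : μ (C a) = C (algebraMap A κ a) := MvPolynomial.map_C _ _
        rw [map_mul, e2, ha0, map_zero, zero_mul]
      · have e1 : ψ (C a) = algebraMap A B a := by
          rw [← MvPolynomial.algebraMap_eq, AlgHom.commutes]
        rw [map_mul, e1, Algebra.smul_def]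
    · rintro x y ⟨q1, h1, h1'⟩ ⟨q2, h2, h2'⟩
      exact ⟨q1 + q2, by rw [map_add, h1, h2, add_zero], by rw [map_add, h1', h2']⟩
  -- lifts of the equations
  have hf : ∀ i : Fin n, ∃ f : MvPolynomial (Fin n) A, ψ f = 0 ∧ μ f = fb i := by
    intro i
    obtain ⟨p, hp⟩ := hμ (fb i)
    have h1 : π (ψ p) = 0 := by
      apply φ.injective
      rw [hcomp, hp, map_zero]
      exact Ideal.Quotient.eq_zero_iff_mem.mpr (Ideal.subset_span ⟨i, rfl⟩)
    obtain ⟨q, hq1, hq2⟩ := hlift _ (hπker _ h1)
    refine ⟨p - q, ?_, ?_⟩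
    · rw [map_sub, hq2, sub_self]
    · rw [map_sub, hq1, sub_zero, hp]
  choose f hfI hfμ using hf
  have hspanI : ∀ s ∈ Ideal.span (Set.range f), ψ s = 0 := by
    have hle : Ideal.span (Set.range f) ≤ RingHom.ker ψ.toRingHom := by
      rw [Ideal.span_le]
      rintro _ ⟨i, rfl⟩
      exact hfI i
    intro s hs
    exact hle hs
  -- the key inclusion
  have hkey : ∀ p, ψ p = 0 → p ∈ Ideal.span (Set.range f) ⊔
      Ideal.map (C : A →+* MvPolynomial (Fin n) A) (IsLocalRing.maximalIdeal A) *
        RingHom.ker ψ := by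
    intro p hp0
    have h1 : Ideal.Quotient.mk (Ideal.span (Set.range fb)) (μ p) = 0 := by
      rw [← hcomp, hp0, map_zero, map_zero]
    rw [Ideal.Quotient.eq_zero_iff_mem] at h1
    have h2 : Ideal.span (Set.range fb) = Ideal.map μ (Ideal.span (Set.range f)) := by
      rw [Ideal.map_span]
      congr 1
      ext x
      constructor
      · rintro ⟨i, rfl⟩
        exact ⟨f i, ⟨i, rfl⟩, hfμ i⟩
      · rintro ⟨_, ⟨i, rfl⟩, rfl⟩
        exact ⟨i, (hfμ i).symm⟩
    rw [h2, Ideal.mem_map_iff_of_surjective μ hμ] at h1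
    obtain ⟨s, hs, hsp⟩ := h1
    have h3 : p - s ∈ Ideal.map (C : A →+* MvPolynomial (Fin n) A)
        (IsLocalRing.maximalIdeal A) := by
      rw [← hμker, RingHom.mem_ker, map_sub, hsp, sub_self]
    have h4 : ψ (p - s) = 0 := by
      rw [map_sub, hp0, hspanI s hs, sub_zero]
    have h5 := mem_mul_ker_of_flat ψ hψ _ (p - s) h4 h3
    have h6 : p = s + (p - s) := by ring
    rw [h6]
    exact Ideal.add_mem _ (Ideal.mem_sup_left hs) (Ideal.mem_sup_right h5)
  -- Nakayama in `A[x]/(f)`
  let N : Submodule (MvPolynomial (Fin n) A)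
      (MvPolynomial (Fin n) A ⧸ Ideal.span (Set.range f)) :=
    Submodule.map (Ideal.span (Set.range f)).mkQ (RingHom.ker ψ.toRingHom)
  have hNfg : N.FG := Submodule.FG.map _ hIfg
  have hNle : N ≤ Ideal.map (C : A →+* MvPolynomial (Fin n) A)
      (IsLocalRing.maximalIdeal A) • N := by
    rintro _ ⟨p, hp, rfl⟩
    have hp0 : ψ p = 0 := hp
    obtain ⟨s, hs, t, ht, rfl⟩ := Submodule.mem_sup.mp (hkey p hp0)
    rw [map_add]
    have hs0 : (Ideal.span (Set.range f)).mkQ s = 0 := by
      rw [Submodule.mkQ_apply, Submodule.Quotient.mk_eq_zero]; exact hs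
    rw [hs0, zero_add, ← Submodule.map_smul'']
    exact Submodule.mem_map_of_mem ht
  obtain ⟨r, hr1, hr2⟩ :=
    Submodule.exists_sub_one_mem_and_smul_eq_zero_of_fg_of_le_smul _ N hNfg hNle
  have hr : ∀ p, ψ p = 0 → r * p ∈ Ideal.span (Set.range f) := by
    intro p hp0
    have h1 := hr2 ((Ideal.span (Set.range f)).mkQ p) ⟨p, hp0, rfl⟩
    rw [← map_smul, Submodule.mkQ_apply, Submodule.Quotient.mk_eq_zero, smul_eq_mul] at h1
    exact h1
  have hμr : μ r = 1 := by
    rw [← hμker, RingHom.mem_ker, map_sub, map_one, sub_eq_zero] at hr1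
    exact hr1
  -- `B` is the localization of `A[x]/(f)` at `r`
  let ψ₀ : Synt.RelGCIRing A n n f →ₐ[A] B :=
    Ideal.Quotient.liftₐ (Ideal.span (Set.range f)) ψ (fun a ha => hspanI a ha)
  have hψ₀ : ∀ p, ψ₀ (Ideal.Quotient.mk _ p) = ψ p := fun p => rfl
  letI : Algebra (Synt.RelGCIRing A n n f) B := ψ₀.toRingHom.toAlgebra
  haveI : IsScalarTower A (Synt.RelGCIRing A n n f) B :=
    IsScalarTower.of_algebraMap_eq (fun a => (ψ₀.commutes a).symm)
  have halg : ∀ x, algebraMap (Synt.RelGCIRing A n n f) B x = ψ₀ x := fun x => rfl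
  haveI hloc : IsLocalization.Away (Ideal.Quotient.mk (Ideal.span (Set.range f)) r) B := by
    apply IsLocalization.Away.mk
    · rw [halg, hψ₀]
      apply isUnit_of_sub_one_mem_smul_top (A := A)
      apply hπker
      apply φ.injective
      rw [map_zero, map_sub, map_sub, map_one, map_one, hcomp, hμr, map_one, sub_self]
    · intro s
      obtain ⟨p, rfl⟩ := hψ s
      exact ⟨0, Ideal.Quotient.mk _ p, by rw [pow_zero, mul_one, halg, hψ₀]⟩
    · intro a b hab
      obtain ⟨pa, rfl⟩ := Ideal.Quotient.mk_surjective a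
      obtain ⟨pb, rfl⟩ := Ideal.Quotient.mk_surjective b
      rw [halg, halg, hψ₀, hψ₀] at hab
      have h0 : ψ (pa - pb) = 0 := by rw [map_sub, hab, sub_self]
      refine ⟨1, ?_⟩
      rw [pow_one, ← map_mul, ← map_mul, Ideal.Quotient.eq, ← mul_sub]
      exact hr _ h0
  have hQ : SqP A (Synt.RelGCIRing A n n f) := ⟨n, f, ⟨AlgEquiv.refl⟩⟩
  exact SqP.away' hQ (Ideal.Quotient.mk (Ideal.span (Set.range f)) r) B

end Groth.Agent.Lib.SqPres
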