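import Mathlib
import Groth.Agent.Lib.NilThick2_helper6

set_option autoImplicit false
universe u

open CategoryTheory AlgebraicGeometry Limits

namespace SqZH8

section Alg

/-- Algebra lemma: in a pushout square of commutative rings with `π` surjective and
`(ker π)^2 = 0`, an endomorphism `φ` of `B₁` compatible with `α` and `ψ` is bijective. -/
theorem bijective_of_isPushout {R₁ B₁ R₀ B₀ : CommRingCat.{u}} {α : R₁ ⟶ B₁} {π : R₁ ⟶ R₀}
    {ψ : B₁ ⟶ B₀} {β : R₀ ⟶ B₀} (po : IsPushout α π ψ β)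
    (hπ : Function.Surjective π.hom)
    (hsq : RingHom.ker π.hom * RingHom.ker π.hom = ⊥)
    (φ : B₁ ⟶ B₁) (h1 : α ≫ φ = α) (h2 : φ ≫ ψ = ψ) :
    Function.Bijective φ.hom := by
  obtain ⟨K, hK⟩ : ∃ K : Ideal B₁, K = Ideal.map α.hom (RingHom.ker π.hom) := ⟨_, rfl⟩
  -- step 1: ker ψ ≤ K
  have hker : RingHom.ker ψ.hom ≤ K := by
    -- the quotient map `B₁ → B₁ / K`
    let q : B₁ ⟶ CommRingCat.of (B₁ ⧸ K) := CommRingCat.ofHom (Ideal.Quotient.mk K)
    -- `R₀ → B₁ / K`
    have hle : RingHom.ker π.hom ≤ RingHom.ker ((Ideal.Quotient.mk K).comp α.hom) := by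
      intro x hx
      rw [RingHom.mem_ker, RingHom.comp_apply, Ideal.Quotient.eq_zero_iff_mem, hK]
      exact Ideal.mem_map_of_mem _ hx
    let r : R₀ ⟶ CommRingCat.of (B₁ ⧸ K) :=
      CommRingCat.ofHom (RingHom.liftOfSurjective π.hom hπ
        ⟨(Ideal.Quotient.mk K).comp α.hom, hle⟩)
    have hcomm : α ≫ q = π ≫ r := by
      ext x
      change (Ideal.Quotient.mk K) (α.hom x) = RingHom.liftOfSurjective π.hom hπ
        ⟨(Ideal.Quotient.mk K).comp α.hom, hle⟩ (π.hom x)
      rw [RingHom.liftOfSurjective_comp_apply]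
      rfl
    have hdesc : ψ ≫ po.desc q r hcomm = q := po.inl_desc q r hcomm
    intro x hx
    have h0 : q.hom x = 0 := by
      rw [← hdesc]
      change (po.desc q r hcomm).hom (ψ.hom x) = 0
      rw [RingHom.mem_ker.mp hx, map_zero]
    exact Ideal.Quotient.eq_zero_iff_mem.mp h0
  -- step 2: φ b - b ∈ K
  have hD : ∀ b : B₁, φ.hom b - b ∈ K := by
    intro b
    apply hker
    rw [RingHom.mem_ker, map_sub, sub_eq_zero]
    have := congrArg (fun g => g.hom b) h2
    exact this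
  -- step 3: φ is the identity on K
  have hKK : ∀ x ∈ RingHom.ker π.hom, ∀ y ∈ K, α.hom x * y = 0 := by
    intro x hx y hy
    rw [hK] at hy
    refine Submodule.span_induction (p := fun y _ => α.hom x * y = 0) ?_ ?_ ?_ ?_ hy
    · rintro _ ⟨z, hz, rfl⟩
      have : x * z ∈ RingHom.ker π.hom * RingHom.ker π.hom := Ideal.mul_mem_mul hx hz
      rw [hsq, Ideal.mem_bot] at this
      change α.hom x * α.hom z = 0
      rw [← map_mul, this, map_zero]
    · exact mul_zero _
    · intro a b _ _ ha hb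
      rw [mul_add, ha, hb, add_zero]
    · intro a b _ hb
      rw [smul_eq_mul, mul_left_comm, hb, mul_zero]
  have hα : ∀ x, φ.hom (α.hom x) = α.hom x := fun x => congrArg (fun g => g.hom x) h1
  have hφK : ∀ y ∈ K, φ.hom y = y := by
    intro y hy
    have hy' := hy
    rw [hK] at hy'
    refine Submodule.span_induction (p := fun y _ => φ.hom y = y) ?_ ?_ ?_ ?_ hy'
    · rintro _ ⟨z, hz, rfl⟩
      exact hα z
    · exact map_zero _
    · intro a b _ _ ha hb
      rw [map_add, ha, hb]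
    · intro a b hb' hb
      -- b ∈ span of α(ker π), a arbitrary: φ(a b) = φ(a) b = (a + D a) b = a b
      rw [smul_eq_mul, map_mul, hb]
      have hbK : b ∈ K := by rw [hK]; exact hb'
      have h3 : (φ.hom a - a) * b = 0 := by
        -- (φ a - a) ∈ K and b ∈ K = span α(ker π); product is zero
        have hDa := hD a
        refine Submodule.span_induction (p := fun b _ => (φ.hom a - a) * b = 0) ?_ ?_ ?_ ?_ hb'
        · rintro _ ⟨z, hz, rfl⟩
          rw [mul_comm]
          exact hKK z hz _ hDa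
        · exact mul_zero _
        · intro c d _ _ hc hd
          rw [mul_add, hc, hd, add_zero]
        · intro c d _ hd
          rw [smul_eq_mul, mul_left_comm, hd, mul_zero]
      have : φ.hom a * b = a * b + (φ.hom a - a) * b := by ring
      rw [this, h3, add_zero]
  constructor
  · rw [injective_iff_map_eq_zero]
    intro b hb
    have h3 := hD b
    rw [hb, zero_sub] at h3
    have h4 : b ∈ K := by simpa using K.neg_mem h3
    rw [← hφK b h4, hb]
  · intro c
    refine ⟨c - (φ.hom c - c), ?_⟩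
    rw [map_sub, hφK _ (hD c)]
    ring

end Alg

section Sch

variable {R : Type u} [CommRing R] (J : Ideal R)

theorem surjective_Spec_mk (hJ : J * J = ⊥) :
    Surjective (Spec.map (CommRingCat.ofHom (Ideal.Quotient.mk J))) := by
  constructor
  intro q
  have hle : J ≤ (show PrimeSpectrum R from q).asIdeal := by
    intro x hx
    have : x * x ∈ J * J := Ideal.mul_mem_mul hx hx
    rw [hJ, Ideal.mem_bot] at this
    have h0 : x * x ∈ (show PrimeSpectrum R from q).asIdeal := by rw [this]; exact Ideal.zero_mem _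
    exact ((show PrimeSpectrum R from q).2.mem_or_mem h0).elim id id
  have hr : (show PrimeSpectrum R from q) ∈
      Set.range (PrimeSpectrum.comap (Ideal.Quotient.mk J)) := by
    rw [range_comap_of_surjective _ _ Ideal.Quotient.mk_surjective,
      PrimeSpectrum.mem_zeroLocus, Ideal.mk_ker]
    exact hle
  obtain ⟨q', hq'⟩ := hr
  exact ⟨q', hq'⟩

variable {X : Scheme.{u}} (p : X ⟶ Spec (CommRingCat.of R)) (u : X ⟶ X)

theorem base_eq_of_fst_comp (hJ : J * J = ⊥)
    (h : pullback.fst p (Spec.map (CommRingCat.ofHom (Ideal.Quotient.mk J))) ≫ u =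
      pullback.fst p (Spec.map (CommRingCat.ofHom (Ideal.Quotient.mk J)))) (x : X) :
    u x = x := by
  haveI := surjective_Spec_mk J hJ
  obtain ⟨x₀, rfl⟩ :=
    (pullback.fst p (Spec.map (CommRingCat.ofHom (Ideal.Quotient.mk J)))).surjective x
  have := congrArg (fun g => g.base x₀) h
  simpa using this

theorem isIso_app_of_fst_comp (hJ : J * J = ⊥) (hu : u ≫ p = p)
    (h : pullback.fst p (Spec.map (CommRingCat.ofHom (Ideal.Quotient.mk J))) ≫ u =
      pullback.fst p (Spec.map (CommRingCat.ofHom (Ideal.Quotient.mk J))))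
    (V : X.Opens) (hV : IsAffineOpen V) : IsIso (u.app V) := by
  obtain ⟨i, hi⟩ : ∃ i, i = Spec.map (CommRingCat.ofHom (Ideal.Quotient.mk J)) := ⟨_, rfl⟩
  rw [← hi] at h
  have e : V ≤ u ⁻¹ᵁ V := by
    intro x hx
    change u x ∈ V
    rw [base_eq_of_fst_comp J p u hJ (hi ▸ h) x]
    exact hx
  have e' : u ⁻¹ᵁ V ≤ V := by
    intro x hx
    have : u x ∈ V := hx
    rwa [base_eq_of_fst_comp J p u hJ (hi ▸ h) x] at this
  have eV : u ⁻¹ᵁ V = V := le_antisymm e' e
  -- the pushout square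
  obtain ⟨haff, po⟩ := Groth.Agent.Lib.NilThick_helper6.isPushout_appLE_of_isPullback (IsPullback.of_hasPullback p i)
    (isAffineOpen_top _) (isAffineOpen_top _) hV (le_top : (⊤ : (Spec _).Opens) ≤ i ⁻¹ᵁ ⊤)
    (le_top : V ≤ p ⁻¹ᵁ ⊤)
  -- φ
  have hpV : V ≤ p ⁻¹ᵁ ⊤ := fun _ _ => trivial
  have h1 : p.appLE ⊤ V hpV ≫ u.appLE V V e = p.appLE ⊤ V hpV := by
    rw [Scheme.Hom.appLE_comp_appLE]
    have : ∀ (q : X ⟶ Spec (CommRingCat.of R)) (hq : q = p) (e1 : V ≤ q ⁻¹ᵁ ⊤),
        q.appLE ⊤ V e1 = p.appLE ⊤ V hpV := by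
      rintro _ rfl _; rfl
    exact this _ hu _
  have h2 : u.appLE V V e ≫ (pullback.fst p i).appLE V
        (pullback.fst p i ⁻¹ᵁ V ⊓ pullback.snd p i ⁻¹ᵁ ⊤) inf_le_left =
      (pullback.fst p i).appLE V (pullback.fst p i ⁻¹ᵁ V ⊓ pullback.snd p i ⁻¹ᵁ ⊤) inf_le_left := by
    rw [Scheme.Hom.appLE_comp_appLE]
    have : ∀ (q : pullback p i ⟶ X) (hq : q = pullback.fst p i)
        (e1 : (pullback.fst p i ⁻¹ᵁ V ⊓ pullback.snd p i ⁻¹ᵁ ⊤) ≤ q ⁻¹ᵁ V),
        q.appLE V _ e1 = (pullback.fst p i).appLE V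
          (pullback.fst p i ⁻¹ᵁ V ⊓ pullback.snd p i ⁻¹ᵁ ⊤) inf_le_left := by
      rintro _ rfl _; rfl
    exact this _ h _
  have hiV : (⊤ : (Spec (CommRingCat.of (R ⧸ J))).Opens) ≤ i ⁻¹ᵁ ⊤ := fun _ _ => trivial
  have hi3 : i.appLE ⊤ ⊤ hiV = (Scheme.ΓSpecIso (CommRingCat.of R)).hom ≫
      CommRingCat.ofHom (Ideal.Quotient.mk J) ≫
        (Scheme.ΓSpecIso (CommRingCat.of (R ⧸ J))).inv := by
    subst hi
    rw [← Scheme.ΓSpecIso_naturality_assoc, Iso.hom_inv_id, Category.comp_id]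
    simp [Scheme.Hom.appLE]
  have hπ : Function.Surjective (i.appLE ⊤ ⊤ hiV).hom := by
    intro y
    obtain ⟨x, hx⟩ := Ideal.Quotient.mk_surjective
      ((Scheme.ΓSpecIso (CommRingCat.of (R ⧸ J))).hom y)
    refine ⟨(Scheme.ΓSpecIso (CommRingCat.of R)).inv x, ?_⟩
    rw [hi3]
    change (Scheme.ΓSpecIso (CommRingCat.of (R ⧸ J))).inv (Ideal.Quotient.mk J
      ((Scheme.ΓSpecIso (CommRingCat.of R)).hom ((Scheme.ΓSpecIso (CommRingCat.of R)).inv x))) = y
    rw [Iso.inv_hom_id_apply, hx, Iso.hom_inv_id_apply]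
  have hmemJ : ∀ a, a ∈ RingHom.ker (i.appLE ⊤ ⊤ hiV).hom →
      (Scheme.ΓSpecIso (CommRingCat.of R)).hom a ∈ J := by
    intro a ha
    rw [RingHom.mem_ker, hi3] at ha
    change (Scheme.ΓSpecIso (CommRingCat.of (R ⧸ J))).inv (Ideal.Quotient.mk J
      ((Scheme.ΓSpecIso (CommRingCat.of R)).hom a)) = 0 at ha
    have h3 := congrArg (Scheme.ΓSpecIso (CommRingCat.of (R ⧸ J))).hom ha
    rw [Iso.inv_hom_id_apply, map_zero] at h3
    exact Ideal.Quotient.eq_zero_iff_mem.mp h3
  have hsq : RingHom.ker (i.appLE ⊤ ⊤ hiV).hom * RingHom.ker (i.appLE ⊤ ⊤ hiV).hom = ⊥ := by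
    rw [← le_bot_iff, Ideal.mul_le]
    intro a ha b hb
    have h3 : (Scheme.ΓSpecIso (CommRingCat.of R)).hom a *
        (Scheme.ΓSpecIso (CommRingCat.of R)).hom b ∈ J * J :=
      Ideal.mul_mem_mul (hmemJ a ha) (hmemJ b hb)
    rw [hJ, Ideal.mem_bot, ← map_mul] at h3
    have h4 := congrArg (Scheme.ΓSpecIso (CommRingCat.of R)).inv h3
    rw [Iso.hom_inv_id_apply, map_zero] at h4
    rw [Ideal.mem_bot]
    exact h4
  have hbij := bijective_of_isPushout po hπ hsq (u.appLE V V e) h1 h2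
  haveI : IsIso (u.appLE V V e) := (ConcreteCategory.isIso_iff_bijective _).mpr hbij
  have e3 : u.appLE V V e = u.app V ≫ X.presheaf.map (eqToHom eV.symm).op := rfl
  rw [e3] at this
  exact IsIso.of_isIso_comp_right (u.app V) (X.presheaf.map (eqToHom eV.symm).op)

theorem isIso_of_fst_comp (hJ : J * J = ⊥) (hu : u ≫ p = p)
    (h : pullback.fst p (Spec.map (CommRingCat.ofHom (Ideal.Quotient.mk J))) ≫ u =
      pullback.fst p (Spec.map (CommRingCat.ofHom (Ideal.Quotient.mk J)))) : IsIso u := by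
  have key := isIso_app_of_fst_comp J p u hJ hu h
  have hpre : ∀ V : X.Opens, u ⁻¹ᵁ V = V := by
    intro V
    ext x
    change u x ∈ V ↔ x ∈ V
    rw [base_eq_of_fst_comp J p u hJ h x]
  change MorphismProperty.isomorphisms Scheme u
  rw [HasAffineProperty.iff_of_iSup_eq_top (P := MorphismProperty.isomorphisms Scheme)
    (fun V : X.affineOpens => V) (iSup_affineOpens_eq_top X)]
  intro V
  refine ⟨?_, ?_⟩
  · change IsAffineOpen (u ⁻¹ᵁ V.1)
    rw [hpre]
    exact V.2
  · rw [morphismRestrict_appTop]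
    have hV' : IsAffineOpen (V.1.ι ''ᵁ ⊤) := by
      rw [Scheme.Opens.ι_image_top]
      exact V.2
    have hk := key _ hV'
    have h2 : IsIso (X.presheaf.map (eqToHom (image_morphismRestrict_preimage u V.1 ⊤)).op) := by
      infer_instance
    exact @IsIso.comp_isIso _ _ _ _ _ _ _ hk h2

end Sch

theorem isIso_over {R : Type u} [CommRing R] (J : Ideal R) (hJ : J * J = ⊥)
    (X : Over (Spec (CommRingCat.of R))) (u : X ⟶ X)
    (h : (Over.pullback (Spec.map (CommRingCat.ofHom (Ideal.Quotient.mk J)))).map u = 𝟙 _) :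
    IsIso u := by
  have h1 := congrArg CommaMorphism.left h
  rw [Over.pullback_map_left] at h1
  have h2 := congrArg (fun g => g ≫ pullback.fst X.hom
    (Spec.map (CommRingCat.ofHom (Ideal.Quotient.mk J)))) h1
  simp only [pullback.lift_fst] at h2
  have h3 : pullback.fst X.hom (Spec.map (CommRingCat.ofHom (Ideal.Quotient.mk J))) ≫ u.left =
      pullback.fst X.hom (Spec.map (CommRingCat.ofHom (Ideal.Quotient.mk J))) := by
    rw [h2]
    exact Category.id_comp _
  haveI : IsIso u.left := isIso_of_fst_comp J X.hom u.left hJ (Over.w u) h3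
  haveI : IsIso ((Over.forget (Spec (CommRingCat.of R))).map u) := this
  exact isIso_of_reflects_iso u (Over.forget _)

end SqZH8
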