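import Mathlib
import Groth.Prelude
import Groth.Agent.Lib.TanStr_helper4

set_option autoImplicit false
set_option linter.style.haveILetI false

universe u v

open CategoryTheory ArtFun ArtFun.Art Groth.Agent.Lib.SchlH1 Groth.Agent.Lib.ArtFunH1

namespace Groth.Agent.Lib.SqZeroCmpH4

section Alg

variable {k E : Type u} [Field k] [CommRing E] [IsLocalRing E] [Algebra k E]
  (res : E →+* k) (hres : ∀ a : k, res (algebraMap k E a) = a)
  (hm : ∀ x : E, x ∈ IsLocalRing.maximalIdeal E ↔ res x = 0)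
  (hE : IsLocalRing.maximalIdeal E ^ 2 = ⊥)

include hE in
lemma mul_eq_zero' {x y : E} (hx : x ∈ IsLocalRing.maximalIdeal E)
    (hy : y ∈ IsLocalRing.maximalIdeal E) : x * y = 0 := by
  have h : x * y ∈ IsLocalRing.maximalIdeal E ^ 2 := by
    rw [pow_two]
    exact Ideal.mul_mem_mul hx hy
  rw [hE] at h
  exact (Ideal.mem_bot).1 h

include hres hm in
lemma sub_mem' (e : E) : e - algebraMap k E (res e) ∈ IsLocalRing.maximalIdeal E := by
  rw [hm, map_sub, hres, sub_self]

include hres hm hE in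
lemma mem_span_k (s : Finset E) (hs : Ideal.span (s : Set E) = IsLocalRing.maximalIdeal E) (x : E)
    (hx : x ∈ IsLocalRing.maximalIdeal E) : x ∈ Submodule.span k (s : Set E) := by
  have hx' : x ∈ Submodule.span E (s : Set E) := by
    have h : x ∈ Ideal.span (s : Set E) := by rw [hs]; exact hx
    exact h
  induction hx' using Submodule.span_induction with
  | mem y hy => exact Submodule.subset_span hy
  | zero => exact Submodule.zero_mem _
  | add y z _ _ hy hz =>
    have hyz := hx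
    exact Submodule.add_mem _ (hy (by
      have h : y ∈ Ideal.span (s : Set E) := ‹y ∈ Submodule.span E (s : Set E)›
      rw [hs] at h; exact h)) (hz (by
      have h : z ∈ Ideal.span (s : Set E) := ‹z ∈ Submodule.span E (s : Set E)›
      rw [hs] at h; exact h))
  | smul a y hy hy' =>
    have hym : y ∈ IsLocalRing.maximalIdeal E := by
      have h : y ∈ Ideal.span (s : Set E) := hy
      rw [hs] at h; exact h
    have e : a • y = res a • y + (a - algebraMap k E (res a)) * y := by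
      rw [smul_eq_mul, Algebra.smul_def]; ring
    rw [e, mul_eq_zero' hE (sub_mem' res hres hm a) hym, add_zero]
    exact Submodule.smul_mem _ _ (hy' hym)

include hres hm hE in
lemma finite_E [IsNoetherianRing E] : Module.Finite k E := by
  classical
  obtain ⟨s, hs⟩ := (IsNoetherian.noetherian (IsLocalRing.maximalIdeal E) :
    (IsLocalRing.maximalIdeal E).FG)
  refine ⟨⟨insert 1 s, ?_⟩⟩
  rw [eq_top_iff]
  intro e _
  have h1 : e = res e • (1 : E) + (e - algebraMap k E (res e)) := by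
    rw [Algebra.smul_def, mul_one]; ring
  rw [h1]
  refine Submodule.add_mem _ (Submodule.smul_mem _ _ (Submodule.subset_span ?_)) ?_
  · simp
  · refine Submodule.span_mono ?_ (mem_span_k res hres hm hE s hs _ (sub_mem' res hres hm e))
    simp

include hres hm hE in
theorem exists_g [IsNoetherianRing E] : ∃ (r : ℕ) (g : (Fin r → k) →ₗ[k] E),
    (∀ c, g c ∈ IsLocalRing.maximalIdeal E) ∧
    Function.Bijective (fun x : k × (Fin r → k) => algebraMap k E x.1 + g x.2) := by
  haveI := finite_E res hres hm hE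
  obtain ⟨M, hM⟩ : ∃ M : Submodule k E, ∀ x, x ∈ M ↔ x ∈ IsLocalRing.maximalIdeal E :=
    ⟨(IsLocalRing.maximalIdeal E).restrictScalars k, fun x => Iff.rfl⟩
  obtain ⟨b⟩ : Nonempty (Module.Basis (Fin (Module.finrank k M)) k M) := ⟨Module.finBasis k M⟩
  refine ⟨Module.finrank k M, M.subtype ∘ₗ b.equivFun.symm.toLinearMap, ?_, ?_, ?_⟩
  · intro c
    exact (hM _).1 (b.equivFun.symm c).2
  · intro x y hxy
    have hxy' : algebraMap k E x.1 + (b.equivFun.symm x.2 : E) =
        algebraMap k E y.1 + (b.equivFun.symm y.2 : E) := hxy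
    have h1 : x.1 = y.1 := by
      have h := congrArg res hxy'
      rw [map_add, map_add, hres, hres, (hm _).1 ((hM _).1 (b.equivFun.symm x.2).2),
        (hm _).1 ((hM _).1 (b.equivFun.symm y.2).2), add_zero, add_zero] at h
      exact h
    have h2 : (b.equivFun.symm x.2 : E) = (b.equivFun.symm y.2 : E) := by
      rw [h1] at hxy'
      exact add_left_cancel hxy'
    have h3 : x.2 = y.2 := b.equivFun.symm.injective (Subtype.ext h2)
    exact Prod.ext h1 h3
  · intro e
    refine ⟨(res e, b.equivFun ⟨e - algebraMap k E (res e), (hM _).2 (sub_mem' res hres hm e)⟩), ?_⟩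
    show algebraMap k E (res e) + ((b.equivFun.symm (b.equivFun
      ⟨e - algebraMap k E (res e), (hM _).2 (sub_mem' res hres hm e)⟩) : M) : E) = e
    rw [LinearEquiv.symm_apply_apply]
    show algebraMap k E (res e) + (e - algebraMap k E (res e)) = e
    ring

end Alg

variable {Λ : Type u} {k : Type u} [CommRing Λ] [Field k] [Algebra Λ k]

theorem exists_iso_kV {E : Art Λ k} (σ : base Λ k ⟶ E)
    (hE : IsLocalRing.maximalIdeal E ^ 2 = ⊥) :
    ∃ (r : ℕ) (φ : kV Λ k r ⟶ E) (ψ : E ⟶ kV Λ k r), φ ≫ ψ = 𝟙 _ ∧ ψ ≫ φ = 𝟙 _ := by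
  obtain ⟨f, hf⟩ : ∃ f : k →ₐ[Λ] E, f = σ.toAlgHom := ⟨_, rfl⟩
  letI : Algebra k E := f.toRingHom.toAlgebra
  haveI : IsScalarTower Λ k E := IsScalarTower.of_algebraMap_eq (fun x => (f.commutes x).symm)
  have hres : ∀ a : k, (E.res : E →+* k) (algebraMap k E a) = a := fun a => by
    show E.res (f a) = a
    rw [hf]
    exact Art.res_app σ a
  have hm : ∀ x : E, x ∈ IsLocalRing.maximalIdeal E ↔ (E.res : E →+* k) x = 0 :=
    fun x => Art.mem_maximalIdeal_iff E x
  obtain ⟨r, g, hg1, hg2⟩ := exists_g (E.res : E →+* k) hres hm hE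
  have hgg : ∀ x y, (g.restrictScalars Λ) x * (g.restrictScalars Λ) y = 0 :=
    fun x y => mul_eq_zero' hE (hg1 x) (hg1 y)
  have hfg : ∀ (a : k) (x : Fin r → k), (g.restrictScalars Λ) (a • x) = f a * (g.restrictScalars Λ) x :=
    fun a x => by
      show g (a • x) = f a * g x
      rw [map_smul, Algebra.smul_def]
      rfl
  have hgf : ∀ (a : k) (x : Fin r → k),
      (g.restrictScalars Λ) (MulOpposite.op a • x) = (g.restrictScalars Λ) x * f a :=
    fun a x => by
      show g (MulOpposite.op a • x) = g x * f a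
      rw [op_smul_eq_smul, map_smul, Algebra.smul_def, mul_comm]
      rfl
  obtain ⟨φ₀, hφ₀⟩ : ∃ φ₀ : TrivSqZeroExt k (Fin r → k) →ₐ[Λ] E,
      ∀ x, φ₀ x = f x.fst + g x.snd :=
    ⟨TrivSqZeroExt.lift f (g.restrictScalars Λ) hgg hfg hgf, fun x => rfl⟩
  have hbij : Function.Bijective φ₀ := by
    constructor
    · intro x y hxy
      rw [hφ₀, hφ₀] at hxy
      exact hg2.1 hxy
    · intro e
      obtain ⟨x, hx⟩ := hg2.2 e
      exact ⟨x, (hφ₀ x).trans hx⟩
  have hφres : (E.res).comp φ₀ = (kV Λ k r).res := by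
    apply AlgHom.ext
    intro x
    show E.res (φ₀ x) = x.fst
    rw [hφ₀, map_add, (Art.mem_maximalIdeal_iff E _).1 (hg1 _), add_zero]
    exact hres _
  obtain ⟨ψ₀, hψ₀⟩ : ∃ ψ₀ : E ≃ₐ[Λ] TrivSqZeroExt k (Fin r → k), ∀ x, ψ₀ (φ₀ x) = x :=
    ⟨(AlgEquiv.ofBijective φ₀ hbij).symm, fun x => (AlgEquiv.ofBijective φ₀ hbij).symm_apply_apply x⟩
  have hψ₀' : ∀ e, φ₀ (ψ₀ e) = e := by
    intro e
    obtain ⟨x, rfl⟩ := hbij.2 e
    rw [hψ₀]
  have hψres : ((kV Λ k r).res).comp (ψ₀ : E →ₐ[Λ] TrivSqZeroExt k (Fin r → k)) = E.res := by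
    apply AlgHom.ext
    intro e
    obtain ⟨x, rfl⟩ := hbij.2 e
    show (kV Λ k r).res (ψ₀ (φ₀ x)) = E.res (φ₀ x)
    rw [hψ₀]
    exact (congrArg (fun m : TrivSqZeroExt k (Fin r → k) →ₐ[Λ] k => m x) hφres).symm
  refine ⟨r, ⟨φ₀, hφres⟩, ⟨(ψ₀ : E →ₐ[Λ] TrivSqZeroExt k (Fin r → k)), hψres⟩, ?_, ?_⟩
  · apply Art.hom_ext
    apply AlgHom.ext
    intro x
    exact hψ₀ x
  · apply Art.hom_ext
    apply AlgHom.ext
    intro e
    exact hψ₀' e

theorem paste {B B₁ C C' D : Art Λ k} {u : B ⟶ B₁} {p'' : B ⟶ C'} {pr₂ : B₁ ⟶ C} {π : C' ⟶ C}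
    {δ : C' ⟶ D} (h1 : IsFibreProd u p'' pr₂ π) (h2 : IsFibreProd π δ (toBase C) (toBase D)) :
    IsFibreProd u (p'' ≫ δ) (toBase B₁) (toBase D) where
  w := by rw [eq_toBase (u ≫ toBase B₁), eq_toBase ((p'' ≫ δ) ≫ toBase D)]
  inj b₁ b₂ e1 e2 := by
    have e3 : π (p'' b₁) = π (p'' b₂) :=
      (h1.w_apply b₁).symm.trans ((congrArg (fun t => pr₂ t) e1).trans (h1.w_apply b₂))
    exact h1.inj _ _ e1 (h2.inj _ _ e3 e2)
  surj b d hbd := by
    obtain ⟨c', hc1, hc2⟩ := h2.surj (pr₂ b) d (by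
      show C.res (pr₂ b) = D.res d
      rw [Art.res_app]
      exact hbd)
    obtain ⟨b', hb1, hb2⟩ := h1.surj b c' hc1.symm
    refine ⟨b', hb1, ?_⟩
    show δ (p'' b') = d
    rw [hb2, hc2]

instance isIso_toBase_kV0 : IsIso (toBase (kV Λ k 0)) :=
  ⟨⟨baseToKV Λ k 0, Groth.Agent.Lib.TanStrH4.toBase_baseToKV0, by
    rw [eq_toBase (baseToKV Λ k 0 ≫ toBase (kV Λ k 0))]
    exact (eq_toBase (𝟙 (base Λ k))).symm⟩⟩

section Cmp

variable {F : Art Λ k ⥤ Type v}

theorem cmp_bij_of_isIso {B A A' A'' : Art Λ k} {p' : B ⟶ A'} {p'' : B ⟶ A''} {f' : A' ⟶ A}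
    {f'' : A'' ⟶ A} (h : IsFibreProd p' p'' f' f'') [IsIso f''] :
    Function.Bijective (cmp F h) := by
  obtain ⟨s, hs1, hs2, hs3⟩ := exists_inv_of_isIso h
  constructor
  · rw [cmp_injective_iff h]
    intro z w e1 _
    have hz : ∀ t : F.obj B, t = F.map s (F.map p' t) := fun t => by
      rw [← FunctorToTypes.map_comp_apply, hs2, FunctorToTypes.map_id_apply]
    exact (hz z).trans ((congrArg (F.map s) e1).trans (hz w).symm)
  · rw [cmp_surjective_iff h]
    intro x' x'' hx
    refine ⟨F.map s x', ?_, ?_⟩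
    · rw [← FunctorToTypes.map_comp_apply, hs1, FunctorToTypes.map_id_apply]
    · rw [← FunctorToTypes.map_comp_apply, hs3, FunctorToTypes.map_comp_apply, hx,
        ← FunctorToTypes.map_comp_apply, IsIso.hom_inv_id, FunctorToTypes.map_id_apply]

variable [IsNoetherianRing Λ] [Module.Finite Λ k]

theorem P (hF : Heps F) : ∀ (r : ℕ) ⦃B A : Art Λ k⦄ (p' : B ⟶ A) (p'' : B ⟶ kV Λ k r)
    (h : IsFibreProd p' p'' (toBase A) (toBase (kV Λ k r))), Function.Bijective (cmp F h) := by
  intro r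
  induction r with
  | zero =>
    intro B A p' p'' h
    exact cmp_bij_of_isIso h
  | succ r ih =>
    intro B A p' p'' h
    have hkv := isFibreProd_kV (Λ := Λ) (k := k) r
    have htb : toBase (kV Λ k (r + 1)) = kVMap (initL k r) ≫ toBase (kV Λ k r) :=
      (eq_toBase _).symm
    have h' : IsFibreProd p' p'' (toBase A) (kVMap (initL k r) ≫ toBase (kV Λ k r)) := by
      rw [← htb]
      exact h
    obtain ⟨B₁, pr₁, pr₂, u, hB₁, hu, hup⟩ := exists_mid_square (kVMap (initL k r))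
      (toBase (kV Λ k r)) (kV Λ k r).res_surjective h'
    have h3 := paste hu hkv
    have b1 := ih pr₁ pr₂ hB₁
    have b2 := hF _ _ h3
    have b3 := hF _ _ hkv
    constructor
    · rw [cmp_injective_iff h]
      intro z w e1 e2
      apply (cmp_injective_iff h3).1 b2.1
      · apply (cmp_injective_iff hB₁).1 b1.1
        · rw [← FunctorToTypes.map_comp_apply, ← FunctorToTypes.map_comp_apply, hup, e1]
        · rw [← FunctorToTypes.map_comp_apply, ← FunctorToTypes.map_comp_apply, hu.w,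
            FunctorToTypes.map_comp_apply, FunctorToTypes.map_comp_apply, e2]
      · rw [FunctorToTypes.map_comp_apply, FunctorToTypes.map_comp_apply, e2]
    · rw [cmp_surjective_iff h]
      intro x' x'' hx
      have hx1 : F.map (toBase A) x' =
          F.map (toBase (kV Λ k r)) (F.map (kVMap (initL k r)) x'') := by
        rw [← FunctorToTypes.map_comp_apply, ← htb]
        exact hx
      obtain ⟨b₁, hb1, hb2⟩ := (cmp_surjective_iff hB₁).1 b1.2 x' (F.map (kVMap (initL k r)) x'') hx1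
      have hx2 : F.map (toBase B₁) b₁ = F.map (toBase (dual Λ k))
          (F.map (kVToDual (LinearMap.proj (Fin.last r))) x'') := by
        have e : toBase B₁ = pr₂ ≫ toBase (kV Λ k r) := (eq_toBase _).symm
        have e' : toBase (kV Λ k (r + 1)) =
            kVToDual (LinearMap.proj (Fin.last r)) ≫ toBase (dual Λ k) := (eq_toBase _).symm
        rw [e, FunctorToTypes.map_comp_apply, hb2, ← hx1, hx, e', FunctorToTypes.map_comp_apply]
      obtain ⟨z, hz1, hz2⟩ := (cmp_surjective_iff h3).1 b2.2 b₁ _ hx2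
      refine ⟨z, ?_, ?_⟩
      · rw [← hup, FunctorToTypes.map_comp_apply, hz1, hb1]
      · apply (cmp_injective_iff hkv).1 b3.1
        · rw [← FunctorToTypes.map_comp_apply, ← hu.w, FunctorToTypes.map_comp_apply, hz1, hb2]
        · rw [← FunctorToTypes.map_comp_apply, hz2]

theorem main (hF : Heps F) {E : Art Λ k} (hσ : Nonempty (base Λ k ⟶ E))
    (hE : IsLocalRing.maximalIdeal E ^ 2 = ⊥) ⦃B A : Art Λ k⦄ (p' : B ⟶ A) (p'' : B ⟶ E)
    (h : IsFibreProd p' p'' (toBase A) (toBase E)) : Function.Bijective (cmp F h) := by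
  obtain ⟨σ⟩ := hσ
  obtain ⟨r, φ, ψ, h1, h2⟩ := exists_iso_kV σ hE
  have hψφ : ∀ e : E, φ (ψ e) = e := fun e => congrArg (fun m : E ⟶ E => m.toAlgHom e) h2
  have hφψ : ∀ x : kV Λ k r, ψ (φ x) = x :=
    fun x => congrArg (fun m : kV Λ k r ⟶ kV Λ k r => m.toAlgHom x) h1
  have h' : IsFibreProd p' (p'' ≫ ψ) (toBase A) (toBase (kV Λ k r)) :=
    { w := by rw [eq_toBase (p' ≫ toBase A), eq_toBase ((p'' ≫ ψ) ≫ toBase (kV Λ k r))]
      inj := fun b₁ b₂ e1 e2 => h.inj b₁ b₂ e1
        ((hψφ _).symm.trans ((congrArg (fun t => φ t) e2).trans (hψφ _)))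
      surj := fun a' c hc => by
        obtain ⟨b, hb1, hb2⟩ := h.surj a' (φ c) (by
          show A.res a' = E.res (φ c)
          rw [Art.res_app]
          exact hc)
        refine ⟨b, hb1, ?_⟩
        show ψ (p'' b) = c
        rw [hb2, hφψ] }
  have b := P hF r p' (p'' ≫ ψ) h'
  constructor
  · rw [cmp_injective_iff h]
    intro z w e1 e2
    apply (cmp_injective_iff h').1 b.1 z w e1
    rw [FunctorToTypes.map_comp_apply, FunctorToTypes.map_comp_apply, e2]
  · rw [cmp_surjective_iff h]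
    intro x' x'' hx
    have hx' : F.map (toBase A) x' = F.map (toBase (kV Λ k r)) (F.map ψ x'') := by
      rw [← FunctorToTypes.map_comp_apply, eq_toBase (ψ ≫ toBase (kV Λ k r))]
      exact hx
    obtain ⟨z, hz1, hz2⟩ := (cmp_surjective_iff h').1 b.2 x' (F.map ψ x'') hx'
    refine ⟨z, hz1, ?_⟩
    have e : ∀ t : F.obj E, t = F.map φ (F.map ψ t) := fun t => by
      rw [← FunctorToTypes.map_comp_apply, h2, FunctorToTypes.map_id_apply]
    calc F.map p'' z = F.map φ (F.map ψ (F.map p'' z)) := e _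
      _ = F.map φ (F.map (p'' ≫ ψ) z) := by rw [FunctorToTypes.map_comp_apply]
      _ = F.map φ (F.map ψ x'') := by rw [hz2]
      _ = x'' := (e x'').symm

end Cmp

end Groth.Agent.Lib.SqZeroCmpH4
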