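import Groth.Statements.S8363
import Mathlib

/-! # The kernel of reduction modulo a square-zero ideal is commutative (lead)

Strategy: reduce to `Y = Spec B` with `B` local (morphisms of schemes are determined by their
restrictions to all local schemes `Spec 𝒪_{Y,y}`); for a local ring `B` with a square-zero ideal
`N`, morphisms `Spec B ⟶ Z` congruent modulo `N` form an affine space (`a + b - c`), functorially
in `Z`; then `g * g' = g + g' - 1` is symmetric. -/

set_option backward.isDefEq.respectTransparency false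
set_option backward.isDefEq.respectTransparency.types false
set_option linter.unusedSimpArgs false
set_option linter.unusedVariables false
set_option linter.unusedSectionVars false
set_option linter.style.longLine false
set_option linter.style.haveILetI false
set_option maxHeartbeats 800000

universe u

open CategoryTheory CategoryTheory.Limits MonoidalCategory CartesianMonoidalCategory MonObj GrpObj
  AlgebraicGeometry Opposite

namespace Groth.Agent.Lib.SqZeroComm

/-! ### Ring lemma -/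

theorem ringHom_affine {A B : Type*} [CommRing A] [CommRing B] (N : Ideal B) (hN : N * N = ⊥)
    (p q e : A →+* B) (hp : ∀ t, p t - e t ∈ N) (hq : ∀ t, q t - e t ∈ N) :
    ∃ d : A →+* B, ∀ t, d t = p t + q t - e t := by
  have h0 : ∀ n n' : B, n ∈ N → n' ∈ N → n * n' = 0 := by
    intro n n' hn hn'
    have := Ideal.mul_mem_mul hn hn'
    rw [hN] at this
    simpa using this
  refine ⟨{ toFun := fun t => p t + q t - e t, map_one' := by simp, map_mul' := ?_,
            map_zero' := by simp, map_add' := ?_ }, fun t => rfl⟩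
  · intro x y
    have h3 : (p x - e x) * (q y - e y) = 0 := h0 _ _ (hp x) (hq y)
    have h4 : (q x - e x) * (p y - e y) = 0 := h0 _ _ (hq x) (hp y)
    simp only [map_mul]
    linear_combination (-1 : B) * h3 + (-1 : B) * h4
  · intro x y
    simp only [map_add]
    ring

/-! ### Morphisms are determined on local schemes -/

theorem hom_ext_stalk {Y X : Scheme.{u}} (f₁ f₂ : Y ⟶ X)
    (h : ∀ y : Y, Y.fromSpecStalk y ≫ f₁ = Y.fromSpecStalk y ≫ f₂) : f₁ = f₂ := by
  let e := equalizer.ι f₁ f₂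
  let k : ∀ y : Y, Spec (Y.presheaf.stalk y) ⟶ equalizer f₁ f₂ :=
    fun y => equalizer.lift (Y.fromSpecStalk y) (h y)
  have hk : ∀ y, k y ≫ e = Y.fromSpecStalk y := fun y => equalizer.lift_ι _ _
  have hky : ∀ y, e ((k y) (IsLocalRing.closedPoint (Y.presheaf.stalk y))) = y := by
    intro y
    rw [← Scheme.Hom.comp_apply, hk, Scheme.fromSpecStalk_closedPoint]
  have hinj : Function.Injective e := e.isEmbedding.injective
  have hsurj : Function.Surjective e := fun y => ⟨_, hky y⟩
  have hfs : ∀ y : Y, IsIso ((Y.fromSpecStalk y).stalkMap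
      (IsLocalRing.closedPoint (Y.presheaf.stalk y))) := by
    intro y
    have h2 : (Y.fromSpecStalk y).stalkMap (IsLocalRing.closedPoint (Y.presheaf.stalk y)) ≫
        (stalkClosedPointIso (Y.presheaf.stalk y)).hom = _ :=
      Scheme.stalkClosedPointTo_fromSpecStalk y
    have h3 : IsIso ((Y.fromSpecStalk y).stalkMap (IsLocalRing.closedPoint (Y.presheaf.stalk y)) ≫
        (stalkClosedPointIso (Y.presheaf.stalk y)).hom) := by
      rw [h2]; infer_instance
    exact IsIso.of_isIso_comp_right _ (stalkClosedPointIso (Y.presheaf.stalk y)).hom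
  have hstalk : ∀ z, IsIso (e.stalkMap z) := by
    intro z
    have hz : (k (e z)) (IsLocalRing.closedPoint (Y.presheaf.stalk (e z))) = z :=
      hinj (hky (e z))
    have h1 : IsIso (e.stalkMap ((k (e z)) (IsLocalRing.closedPoint (Y.presheaf.stalk (e z))))) := by
      have hiso : IsIso ((k (e z) ≫ e).stalkMap
          (IsLocalRing.closedPoint (Y.presheaf.stalk (e z)))) := by
        rw [hk]; exact hfs (e z)
      rw [Scheme.Hom.stalkMap_comp] at hiso
      haveI : IsSplitMono (e.stalkMap ((k (e z))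
          (IsLocalRing.closedPoint (Y.presheaf.stalk (e z))))) :=
        IsSplitMono.mk' ⟨(k (e z)).stalkMap (IsLocalRing.closedPoint (Y.presheaf.stalk (e z))) ≫
          inv (e.stalkMap ((k (e z)) (IsLocalRing.closedPoint (Y.presheaf.stalk (e z)))) ≫
            (k (e z)).stalkMap (IsLocalRing.closedPoint (Y.presheaf.stalk (e z)))),
          by rw [← Category.assoc, IsIso.hom_inv_id]⟩
      haveI : Epi (e.stalkMap ((k (e z))
          (IsLocalRing.closedPoint (Y.presheaf.stalk (e z))))) :=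
        ConcreteCategory.epi_of_surjective _ (e.stalkMap_surjective _)
      exact isIso_of_epi_of_isSplitMono _
    exact hz ▸ h1
  have hopen : Topology.IsOpenEmbedding e :=
    { toIsEmbedding := e.isEmbedding
      isOpen_range := by rw [Function.Surjective.range_eq hsurj]; exact isOpen_univ }
  haveI := hstalk
  haveI : IsOpenImmersion e := IsOpenImmersion.of_isIso_stalkMap e hopen
  haveI : IsIso e := (isIso_iff_isOpenImmersion_and_surjective e).mpr ⟨inferInstance, ⟨hsurj⟩⟩
  exact (cancel_epi e).mp (equalizer.condition f₁ f₂)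

/-! ### Local schemes: presentations of morphisms -/

section Local

variable {B : Type u} [CommRing B] [IsLocalRing B]

theorem exists_pres {Z : Scheme.{u}} (a : Spec (CommRingCat.of B) ⟶ Z) (x : Z)
    (hx : a (IsLocalRing.closedPoint B) = x) :
    ∃ φ : Z.presheaf.stalk x ⟶ CommRingCat.of B,
      IsLocalHom φ.hom ∧ a = Spec.map φ ≫ Z.fromSpecStalk x := by
  subst hx
  exact ⟨Scheme.stalkClosedPointTo a, inferInstance,
    (Scheme.Spec_stalkClosedPointTo_fromSpecStalk a).symm⟩

theorem pres_point {Z : Scheme.{u}} (x : Z) (φ : Z.presheaf.stalk x ⟶ CommRingCat.of B)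
    [IsLocalHom φ.hom] :
    (Spec.map φ ≫ Z.fromSpecStalk x) (IsLocalRing.closedPoint B) = x := by
  rw [Scheme.Hom.comp_apply]
  have h1 : (Spec.map φ) (IsLocalRing.closedPoint B) =
      IsLocalRing.closedPoint (Z.presheaf.stalk x) := Spec_closedPoint
  rw [h1, Scheme.fromSpecStalk_closedPoint]

theorem pres_inj {C : CommRingCat.{u}} {Z : Scheme.{u}} (x : Z) (φ ψ : Z.presheaf.stalk x ⟶ C)
    (h : Spec.map φ ≫ Z.fromSpecStalk x = Spec.map ψ ≫ Z.fromSpecStalk x) : φ = ψ :=
  Spec.map_injective ((cancel_mono _).mp h)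

theorem closedPoint_lift (N : Ideal B) (hN : N * N = ⊥) :
    ∃ p' : Spec (CommRingCat.of (B ⧸ N)),
      (Spec.map (CommRingCat.ofHom (Ideal.Quotient.mk N))) p' = IsLocalRing.closedPoint B := by
  have h0 : ∀ n n' : B, n ∈ N → n' ∈ N → n * n' = 0 := by
    intro n n' hn hn'
    have := Ideal.mul_mem_mul hn hn'
    rw [hN] at this
    simpa using this
  have hmem : IsLocalRing.closedPoint B ∈
      Set.range (PrimeSpectrum.comap (Ideal.Quotient.mk N)) := by
    rw [_root_.range_comap_of_surjective (B ⧸ N) (Ideal.Quotient.mk N)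
      Ideal.Quotient.mk_surjective, Ideal.mk_ker, PrimeSpectrum.mem_zeroLocus]
    intro n hn
    have h1 : n * n ∈ (IsLocalRing.closedPoint B).asIdeal := by
      rw [h0 n n hn hn]; exact zero_mem _
    exact ((IsLocalRing.closedPoint B).isPrime.mem_or_mem h1).elim id id
  obtain ⟨p', hp'⟩ := hmem
  exact ⟨p', hp'⟩

theorem pres2 {Z : Scheme.{u}} (N : Ideal B) (hN : N * N = ⊥)
    (a c : Spec (CommRingCat.of B) ⟶ Z)
    (hac : Spec.map (CommRingCat.ofHom (Ideal.Quotient.mk N)) ≫ a =
      Spec.map (CommRingCat.ofHom (Ideal.Quotient.mk N)) ≫ c)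
    (x : Z) (φc : Z.presheaf.stalk x ⟶ CommRingCat.of B) (lc : IsLocalHom φc.hom)
    (hc : c = Spec.map φc ≫ Z.fromSpecStalk x) :
    ∃ φa : Z.presheaf.stalk x ⟶ CommRingCat.of B, IsLocalHom φa.hom ∧
      a = Spec.map φa ≫ Z.fromSpecStalk x ∧ ∀ t, φa.hom t - φc.hom t ∈ N := by
  obtain ⟨p', hp'⟩ := closedPoint_lift N hN
  have hcx : c (IsLocalRing.closedPoint B) = x := by
    haveI := lc
    rw [hc]; exact pres_point x φc
  have hx : a (IsLocalRing.closedPoint B) = x := by
    rw [← hcx, ← hp', ← Scheme.Hom.comp_apply, ← Scheme.Hom.comp_apply, hac]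
  obtain ⟨φa, la, ha⟩ := exists_pres a x hx
  refine ⟨φa, la, ha, ?_⟩
  have ea : φa ≫ CommRingCat.ofHom (Ideal.Quotient.mk N) =
      φc ≫ CommRingCat.ofHom (Ideal.Quotient.mk N) := by
    apply pres_inj x
    rw [Spec.map_comp, Spec.map_comp, Category.assoc, Category.assoc, ← ha, ← hc, hac]
  intro t
  have h1 := congrArg (fun f => f.hom t) ea
  simp only [CommRingCat.hom_comp, CommRingCat.hom_ofHom, RingHom.comp_apply] at h1
  exact Ideal.Quotient.eq.mp h1

/-- `d = a + b - c` for morphisms from a local scheme. -/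
def Aff {Z : Scheme.{u}} (a b c d : Spec (CommRingCat.of B) ⟶ Z) : Prop :=
  ∃ (x : Z) (φa φb φc φd : Z.presheaf.stalk x ⟶ CommRingCat.of B),
    IsLocalHom φa.hom ∧ IsLocalHom φb.hom ∧ IsLocalHom φc.hom ∧
    a = Spec.map φa ≫ Z.fromSpecStalk x ∧ b = Spec.map φb ≫ Z.fromSpecStalk x ∧
    c = Spec.map φc ≫ Z.fromSpecStalk x ∧ d = Spec.map φd ≫ Z.fromSpecStalk x ∧
    ∀ t, φd.hom t = φa.hom t + φb.hom t - φc.hom t

theorem Aff.comp {Z Z' : Scheme.{u}} {a b c d : Spec (CommRingCat.of B) ⟶ Z}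
    (h : Aff a b c d) (f : Z ⟶ Z') : Aff (a ≫ f) (b ≫ f) (c ≫ f) (d ≫ f) := by
  obtain ⟨x, φa, φb, φc, φd, la, lb, lc, rfl, rfl, rfl, rfl, hd⟩ := h
  have hloc : ∀ φ : Z.presheaf.stalk x ⟶ CommRingCat.of B, IsLocalHom φ.hom →
      IsLocalHom (f.stalkMap x ≫ φ).hom := by
    intro φ hφ
    haveI := hφ
    rw [CommRingCat.hom_comp]
    infer_instance
  have hpres : ∀ φ : Z.presheaf.stalk x ⟶ CommRingCat.of B,
      (Spec.map φ ≫ Z.fromSpecStalk x) ≫ f =
        Spec.map (f.stalkMap x ≫ φ) ≫ Z'.fromSpecStalk (f x) := by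
    intro φ
    rw [Spec.map_comp, Category.assoc, Category.assoc, Scheme.SpecMap_stalkMap_fromSpecStalk]
  refine ⟨f x, f.stalkMap x ≫ φa, f.stalkMap x ≫ φb, f.stalkMap x ≫ φc, f.stalkMap x ≫ φd,
    hloc _ la, hloc _ lb, hloc _ lc, hpres _, hpres _, hpres _, hpres _, ?_⟩
  intro t
  simp only [CommRingCat.hom_comp, RingHom.comp_apply]
  exact hd _

theorem Aff.unique {Z : Scheme.{u}} {a b c d d' : Spec (CommRingCat.of B) ⟶ Z}
    (h : Aff a b c d) (h' : Aff a b c d') : d = d' := by
  obtain ⟨x, φa, φb, φc, φd, la, lb, lc, ha, hb, hc, hd, hf⟩ := h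
  obtain ⟨x', ψa, ψb, ψc, ψd, la', lb', lc', ha', hb', hc', hd', hf'⟩ := h'
  have hx : x = x' := by
    haveI := la
    haveI := la'
    have h1 := pres_point x φa
    have h2 := pres_point x' ψa
    rw [← ha] at h1
    rw [← ha'] at h2
    exact h1.symm.trans h2
  subst hx
  have ea : φa = ψa := pres_inj x _ _ (ha.symm.trans ha')
  have eb : φb = ψb := pres_inj x _ _ (hb.symm.trans hb')
  have ec : φc = ψc := pres_inj x _ _ (hc.symm.trans hc')
  have ed : φd = ψd := by
    apply CommRingCat.hom_ext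
    apply RingHom.ext
    intro t
    rw [hf, hf', ea, eb, ec]
  rw [hd, hd', ed]

theorem Aff.symm {Z : Scheme.{u}} {a b c d : Spec (CommRingCat.of B) ⟶ Z}
    (h : Aff a b c d) : Aff b a c d := by
  obtain ⟨x, φa, φb, φc, φd, la, lb, lc, ha, hb, hc, hd, hf⟩ := h
  exact ⟨x, φb, φa, φc, φd, lb, la, lc, hb, ha, hc, hd, fun t => by rw [hf, add_comm]⟩

theorem Aff.exists {Z : Scheme.{u}} (N : Ideal B) (hN : N * N = ⊥)
    (a b c : Spec (CommRingCat.of B) ⟶ Z)
    (hac : Spec.map (CommRingCat.ofHom (Ideal.Quotient.mk N)) ≫ a =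
      Spec.map (CommRingCat.ofHom (Ideal.Quotient.mk N)) ≫ c)
    (hbc : Spec.map (CommRingCat.ofHom (Ideal.Quotient.mk N)) ≫ b =
      Spec.map (CommRingCat.ofHom (Ideal.Quotient.mk N)) ≫ c) :
    ∃ d, Aff a b c d := by
  obtain ⟨φc, lc, hc⟩ := exists_pres c (c (IsLocalRing.closedPoint B)) rfl
  obtain ⟨φa, la, ha, ca⟩ := pres2 N hN a c hac _ φc lc hc
  obtain ⟨φb, lb, hb, cb⟩ := pres2 N hN b c hbc _ φc lc hc
  obtain ⟨d₀, hd₀⟩ := ringHom_affine N hN φa.hom φb.hom φc.hom ca cb
  exact ⟨Spec.map (CommRingCat.ofHom d₀) ≫ Z.fromSpecStalk _, _, φa, φb, φc, CommRingCat.ofHom d₀,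
    la, lb, lc, ha, hb, hc, rfl, hd₀⟩

theorem Aff.self {Z : Scheme.{u}} (N : Ideal B) (hN : N * N = ⊥)
    (a c : Spec (CommRingCat.of B) ⟶ Z)
    (hac : Spec.map (CommRingCat.ofHom (Ideal.Quotient.mk N)) ≫ a =
      Spec.map (CommRingCat.ofHom (Ideal.Quotient.mk N)) ≫ c) :
    Aff a c c a := by
  obtain ⟨φc, lc, hc⟩ := exists_pres c (c (IsLocalRing.closedPoint B)) rfl
  obtain ⟨φa, la, ha, ca⟩ := pres2 N hN a c hac _ φc lc hc
  exact ⟨_, φa, φc, φc, φa, la, lc, lc, ha, hc, hc, ha, fun t => by ring⟩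

/-! ### The local computation -/

theorem mul_aff {S : Scheme.{u}} {X : Over S} [GrpObj X] (N : Ideal B) (hN : N * N = ⊥)
    (s : Spec (CommRingCat.of B) ⟶ S) (g g' : Over.mk s ⟶ X)
    (hg : Spec.map (CommRingCat.ofHom (Ideal.Quotient.mk N)) ≫ g.left =
      Spec.map (CommRingCat.ofHom (Ideal.Quotient.mk N)) ≫ (toUnit (Over.mk s) ≫ η[X]).left)
    (hg' : Spec.map (CommRingCat.ofHom (Ideal.Quotient.mk N)) ≫ g'.left =
      Spec.map (CommRingCat.ofHom (Ideal.Quotient.mk N)) ≫ (toUnit (Over.mk s) ≫ η[X]).left) :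
    Aff (B := B) (Z := X.left) g.left g'.left (toUnit (Over.mk s) ≫ η[X]).left (g * g').left := by
  obtain ⟨u, hu⟩ : ∃ u : Over.mk s ⟶ X, u = toUnit (Over.mk s) ≫ η[X] := ⟨_, rfl⟩
  rw [← hu] at hg hg' ⊢
  have hu1 : u = 1 := by rw [hu]; exact (Hom.one_def).symm
  have key : ∀ v w v' w' : Over.mk s ⟶ X,
      Spec.map (CommRingCat.ofHom (Ideal.Quotient.mk N)) ≫ v.left =
        Spec.map (CommRingCat.ofHom (Ideal.Quotient.mk N)) ≫ v'.left →
      Spec.map (CommRingCat.ofHom (Ideal.Quotient.mk N)) ≫ w.left =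
        Spec.map (CommRingCat.ofHom (Ideal.Quotient.mk N)) ≫ w'.left →
      Spec.map (CommRingCat.ofHom (Ideal.Quotient.mk N)) ≫ (lift v w).left =
        Spec.map (CommRingCat.ofHom (Ideal.Quotient.mk N)) ≫ (lift v' w').left := by
    intro v w v' w' h1 h2
    refine pullback.hom_ext (f := X.hom) (g := X.hom) ?_ ?_
    · show (Spec.map (CommRingCat.ofHom (Ideal.Quotient.mk N)) ≫ (lift v w).left) ≫ (fst X X).left =
        (Spec.map (CommRingCat.ofHom (Ideal.Quotient.mk N)) ≫ (lift v' w').left) ≫ (fst X X).left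
      rw [Category.assoc, Category.assoc, ← Over.comp_left, ← Over.comp_left, lift_fst, lift_fst]
      exact h1
    · show (Spec.map (CommRingCat.ofHom (Ideal.Quotient.mk N)) ≫ (lift v w).left) ≫ (snd X X).left =
        (Spec.map (CommRingCat.ofHom (Ideal.Quotient.mk N)) ≫ (lift v' w').left) ≫ (snd X X).left
      rw [Category.assoc, Category.assoc, ← Over.comp_left, ← Over.comp_left, lift_snd, lift_snd]
      exact h2
  obtain ⟨D, hD⟩ := Aff.exists (B := B) (Z := (X ⊗ X).left) N hN
    (lift g u).left (lift u g').left (lift u u).left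
    (key _ _ _ _ hg rfl) (key _ _ _ _ rfl hg')
  have p1 := hD.comp (fst X X).left
  have p2 := hD.comp (snd X X).left
  have p3 := hD.comp μ[X].left
  have e1 : (lift g u).left ≫ (fst X X).left = g.left := by rw [← Over.comp_left, lift_fst]
  have e2 : (lift u g').left ≫ (fst X X).left = u.left := by rw [← Over.comp_left, lift_fst]
  have e3 : (lift u u).left ≫ (fst X X).left = u.left := by rw [← Over.comp_left, lift_fst]
  have f1 : (lift g u).left ≫ (snd X X).left = u.left := by rw [← Over.comp_left, lift_snd]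
  have f2 : (lift u g').left ≫ (snd X X).left = g'.left := by rw [← Over.comp_left, lift_snd]
  have f3 : (lift u u).left ≫ (snd X X).left = u.left := by rw [← Over.comp_left, lift_snd]
  rw [e1, e2, e3] at p1
  rw [f1, f2, f3] at p2
  have s1 : Aff (B := B) (Z := X.left) g.left u.left u.left g.left := Aff.self N hN _ _ hg
  have s2 : Aff (B := B) (Z := X.left) u.left g'.left u.left g'.left :=
    (Aff.self N hN _ _ hg').symm
  have d1 : D ≫ (fst X X).left = g.left := p1.unique s1
  have d2 : D ≫ (snd X X).left = g'.left := p2.unique s2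
  have hDeq : D = (lift g g').left := by
    refine pullback.hom_ext (f := X.hom) (g := X.hom) ?_ ?_
    · show D ≫ (fst X X).left = (lift g g').left ≫ (fst X X).left
      rw [d1, ← Over.comp_left, lift_fst]
    · show D ≫ (snd X X).left = (lift g g').left ≫ (snd X X).left
      rw [d2, ← Over.comp_left, lift_snd]
  have m1 : (lift g u).left ≫ μ[X].left = g.left := by
    rw [← Over.comp_left, ← Hom.mul_def, hu1, _root_.mul_one]
  have m2 : (lift u g').left ≫ μ[X].left = g'.left := by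
    rw [← Over.comp_left, ← Hom.mul_def, hu1, _root_.one_mul]
  have m3 : (lift u u).left ≫ μ[X].left = u.left := by
    rw [← Over.comp_left, ← Hom.mul_def, hu1, _root_.mul_one]
  have m4 : D ≫ μ[X].left = (g * g').left := by
    rw [hDeq, ← Over.comp_left, ← Hom.mul_def]
  rw [m1, m2, m3, m4] at p3
  exact p3

theorem local_comm {S : Scheme.{u}} {X : Over S} [GrpObj X] (N : Ideal B) (hN : N * N = ⊥)
    (s : Spec (CommRingCat.of B) ⟶ S) (g g' : Over.mk s ⟶ X)
    (hg : Spec.map (CommRingCat.ofHom (Ideal.Quotient.mk N)) ≫ g.left =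
      Spec.map (CommRingCat.ofHom (Ideal.Quotient.mk N)) ≫ (toUnit (Over.mk s) ≫ η[X]).left)
    (hg' : Spec.map (CommRingCat.ofHom (Ideal.Quotient.mk N)) ≫ g'.left =
      Spec.map (CommRingCat.ofHom (Ideal.Quotient.mk N)) ≫ (toUnit (Over.mk s) ≫ η[X]).left) :
    g * g' = g' * g := by
  have h1 := mul_aff N hN s g g' hg hg'
  have h2 := (mul_aff N hN s g' g hg' hg).symm
  exact Over.OverMorphism.ext (h1.unique h2)

end Local

/-! ### The main theorem -/

theorem main (R : Type u) [CommRing R] (J : Ideal R) (hJ : J * J = ⊥)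
    (X : Over (Spec (CommRingCat.of R))) [GrpObj X] (Y : Over (Spec (CommRingCat.of R)))
    (g g' : Y ⟶ X)
    (hg : (Over.pullback (Spec.map (CommRingCat.ofHom (Ideal.Quotient.mk J)))).map g = 1)
    (hg' : (Over.pullback (Spec.map (CommRingCat.ofHom (Ideal.Quotient.mk J)))).map g' = 1) :
    g * g' = g' * g := by
  have nat : ∀ k : Y ⟶ X,
      ((Over.pullback (Spec.map (CommRingCat.ofHom (Ideal.Quotient.mk J)))).map k).left ≫
        pullback.fst X.hom (Spec.map (CommRingCat.ofHom (Ideal.Quotient.mk J))) =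
      pullback.fst Y.hom (Spec.map (CommRingCat.ofHom (Ideal.Quotient.mk J))) ≫ k.left := by
    intro k
    exact pullback.lift_fst _ _ _
  have red : ∀ (h : Y ⟶ X),
      (Over.pullback (Spec.map (CommRingCat.ofHom (Ideal.Quotient.mk J)))).map h = 1 →
      pullback.fst Y.hom (Spec.map (CommRingCat.ofHom (Ideal.Quotient.mk J))) ≫ h.left =
        pullback.fst Y.hom (Spec.map (CommRingCat.ofHom (Ideal.Quotient.mk J))) ≫
          (toUnit Y ≫ η[X]).left := by
    intro h hh
    have h1 : (Over.pullback (Spec.map (CommRingCat.ofHom (Ideal.Quotient.mk J)))).map h =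
        (Over.pullback (Spec.map (CommRingCat.ofHom (Ideal.Quotient.mk J)))).map
          (toUnit Y ≫ η[X]) := by
      rw [hh, Hom.one_def, Functor.map_comp, ← Functor.Monoidal.toUnit_ε_assoc]
      rfl
    rw [← nat, ← nat, h1]
  apply Over.OverMorphism.ext
  apply hom_ext_stalk
  intro y
  obtain ⟨j, hj⟩ : ∃ j : Spec (CommRingCat.of (Y.left.presheaf.stalk y)) ⟶ Y.left,
    j = Y.left.fromSpecStalk y := ⟨_, rfl⟩
  obtain ⟨s, hs⟩ : ∃ s : Spec (CommRingCat.of (Y.left.presheaf.stalk y)) ⟶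
    Spec (CommRingCat.of R), s = j ≫ Y.hom := ⟨_, rfl⟩
  obtain ⟨ψ, hψ⟩ : ∃ ψ : CommRingCat.of R ⟶ CommRingCat.of (Y.left.presheaf.stalk y),
    Spec.map ψ = s := ⟨Spec.preimage s, Spec.map_preimage s⟩
  obtain ⟨N, hNdef⟩ : ∃ N : Ideal (Y.left.presheaf.stalk y), N = Ideal.map ψ.hom J := ⟨_, rfl⟩
  have hN : N * N = ⊥ := by rw [hNdef, ← Ideal.map_mul, hJ, Ideal.map_bot]
  have hle : J ≤ Ideal.comap ψ.hom N := by rw [hNdef]; exact Ideal.le_comap_map
  have hring : ψ ≫ CommRingCat.ofHom (Ideal.Quotient.mk N) =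
      CommRingCat.ofHom (Ideal.Quotient.mk J) ≫
        CommRingCat.ofHom (Ideal.quotientMap N ψ.hom hle) := by
    apply CommRingCat.hom_ext
    apply RingHom.ext
    intro r
    rfl
  have cond : (Spec.map (CommRingCat.ofHom (Ideal.Quotient.mk N)) ≫ j) ≫ Y.hom =
      Spec.map (CommRingCat.ofHom (Ideal.quotientMap N ψ.hom hle)) ≫
        Spec.map (CommRingCat.ofHom (Ideal.Quotient.mk J)) := by
    rw [Category.assoc, ← hs, ← hψ, ← Spec.map_comp, ← Spec.map_comp, hring]
  have hfac : ∀ h₁ h₂ : Y.left ⟶ X.left,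
      pullback.fst Y.hom (Spec.map (CommRingCat.ofHom (Ideal.Quotient.mk J))) ≫ h₁ =
        pullback.fst Y.hom (Spec.map (CommRingCat.ofHom (Ideal.Quotient.mk J))) ≫ h₂ →
      Spec.map (CommRingCat.ofHom (Ideal.Quotient.mk N)) ≫ j ≫ h₁ =
        Spec.map (CommRingCat.ofHom (Ideal.Quotient.mk N)) ≫ j ≫ h₂ := by
    intro h₁ h₂ h
    have e : Spec.map (CommRingCat.ofHom (Ideal.Quotient.mk N)) ≫ j =
        pullback.lift _ _ cond ≫
          pullback.fst Y.hom (Spec.map (CommRingCat.ofHom (Ideal.Quotient.mk J))) :=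
      (pullback.lift_fst _ _ cond).symm
    rw [← Category.assoc, ← Category.assoc, e, Category.assoc, Category.assoc, h]
  have hu : (toUnit (Over.mk s) ≫ η[X]).left = j ≫ (toUnit Y ≫ η[X]).left := by
    show s ≫ η[X].left = j ≫ Y.hom ≫ η[X].left
    rw [hs, Category.assoc]
  have hloc := local_comm (B := Y.left.presheaf.stalk y) N hN s
    ((Over.homMk j hs.symm : Over.mk s ⟶ Y) ≫ g) ((Over.homMk j hs.symm : Over.mk s ⟶ Y) ≫ g')
    (by
      rw [hu]
      show Spec.map (CommRingCat.ofHom (Ideal.Quotient.mk N)) ≫ j ≫ g.left = _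
      exact hfac _ _ (red g hg))
    (by
      rw [hu]
      show Spec.map (CommRingCat.ofHom (Ideal.Quotient.mk N)) ≫ j ≫ g'.left = _
      exact hfac _ _ (red g' hg'))
  rw [← MonObj.comp_mul, ← MonObj.comp_mul] at hloc
  have := congrArg (fun t => t.left) hloc
  rw [← hj]
  exact this

end Groth.Agent.Lib.SqZeroComm
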