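import Mathlib
import Groth.Agent.Lib.FlatLift_helper9
import Groth.Agent.Lib.LocalCrit2_helper9

/-! Lifting étaleness along a nilpotent thickening which is a base change
(flatness, finite presentation, formal unramifiedness). -/

namespace Groth.Agent.Lib.SqZeroEtale

open TensorProduct KaehlerDifferential

universe u


section unram

variable {A' A B' B : Type u} [CommRing A'] [CommRing A] [Algebra A' A]
  [CommRing B'] [Algebra A' B'] [CommRing B] [Algebra B' B] [Algebra A B] [Algebra A' B]
  [IsScalarTower A' A B] [IsScalarTower A' B' B]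

/-- formal unramifiedness lifts along a nilpotent thickening which is a base change. -/
theorem formallyUnramified_of_nilpotent
    (hA : Function.Surjective (algebraMap A' A))
    (hB : Function.Surjective (algebraMap B' B)) {N : ℕ}
    (hJ : RingHom.ker (algebraMap B' B) ^ N = ⊥)
    (hJI : RingHom.ker (algebraMap B' B) = (RingHom.ker (algebraMap A' A)).map (algebraMap A' B'))
    [Algebra.FormallyUnramified A B] : Algebra.FormallyUnramified A' B' := by
  set J := RingHom.ker (algebraMap B' B) with hJdef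
  set I := RingHom.ker (algebraMap A' A) with hIdef
  haveI : Algebra.FormallyUnramified A' A :=
    Algebra.FormallyUnramified.of_surjective (Algebra.ofId A' A) hA
  haveI : Algebra.FormallyUnramified A' B := Algebra.FormallyUnramified.comp A' A B
  haveI hss : Subsingleton (Ω[B⁄A']) := inferInstance
  -- kerCotangentToTensor vanishes
  have hzero : ∀ j ∈ J, (1 : B) ⊗ₜ[B'] (D A' B' j) = 0 := by
    intro j hj
    have hj' : j ∈ Ideal.span (algebraMap A' B' '' (I : Set A')) := by
      rw [hJI] at hj; exact hj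
    refine Submodule.span_induction (p := fun j _ => (1 : B) ⊗ₜ[B'] (D A' B' j) = 0)
      ?_ ?_ ?_ ?_ hj'
    · rintro _ ⟨a, _, rfl⟩
      rw [Derivation.map_algebraMap, tmul_zero]
    · rw [map_zero, tmul_zero]
    · intro x y _ _ hx hy
      rw [map_add, tmul_add, hx, hy, add_zero]
    · intro b x hx ih
      have hxJ : x ∈ J := by rw [hJI]; exact hx
      rw [smul_eq_mul, Derivation.leibniz, tmul_add, tmul_smul, tmul_smul, ih, smul_zero, zero_add,
        TensorProduct.smul_tmul', Algebra.smul_def, mul_one, RingHom.mem_ker.mp hxJ, zero_tmul]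
  have hsub : Subsingleton (B ⊗[B'] Ω[B'⁄A']) := by
    refine ⟨fun x y => ?_⟩
    suffices h : ∀ z : B ⊗[B'] Ω[B'⁄A'], z = 0 by rw [h x, h y]
    intro z
    have hz : mapBaseChange A' B' B z = 0 := Subsingleton.elim _ _
    obtain ⟨c, rfl⟩ := (exact_kerCotangentToTensor_mapBaseChange A' B' B hB z).mp hz
    obtain ⟨⟨j, hj⟩, rfl⟩ := Ideal.toCotangent_surjective _ c
    rw [kerCotangentToTensor_toCotangent]
    exact hzero j hj
  -- Ω = JΩ
  have htop : (⊤ : Submodule B' (Ω[B'⁄A'])) ≤ J • ⊤ := by
    let e1 : (B' ⧸ J) ≃ₗ[B'] B :=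
      (Ideal.quotientKerAlgEquivOfSurjective (f := Algebra.ofId B' B) hB).toLinearEquiv
    let e2 : (B' ⧸ J) ⊗[B'] Ω[B'⁄A'] ≃ₗ[B'] B ⊗[B'] Ω[B'⁄A'] :=
      TensorProduct.congr e1 (LinearEquiv.refl _ _)
    let e3 := TensorProduct.quotTensorEquivQuotSMul (Ω[B'⁄A']) J
    haveI : Subsingleton ((B' ⧸ J) ⊗[B'] Ω[B'⁄A']) := e2.toEquiv.subsingleton
    haveI : Subsingleton (Ω[B'⁄A'] ⧸ (J • ⊤ : Submodule B' (Ω[B'⁄A']))) := e3.symm.toEquiv.subsingleton
    exact (Submodule.Quotient.subsingleton_iff.mp inferInstance).ge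
  have hbot : (⊤ : Submodule B' (Ω[B'⁄A'])) ≤ ⊥ :=
    Groth.Agent.Lib.FlatLift.le_of_le_sup_smul J hJ ⊤ ⊥ (by rw [bot_sup_eq]; exact htop)
  rw [Algebra.formallyUnramified_iff]
  exact ⟨fun x y => by
    have hx : x ∈ (⊥ : Submodule B' (Ω[B'⁄A'])) := hbot trivial
    have hy : y ∈ (⊥ : Submodule B' (Ω[B'⁄A'])) := hbot trivial
    rw [Submodule.mem_bot] at hx hy
    rw [hx, hy]⟩

end unram



section flat

variable {A' A B' B : Type u} [CommRing A'] [CommRing A] [Algebra A' A]
  [CommRing B'] [Algebra A' B'] [CommRing B] [Algebra B' B] [Algebra A B] [Algebra A' B]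
  [IsScalarTower A' A B] [IsScalarTower A' B' B]

theorem flat_of_nilpotent
    (hA : Function.Surjective (algebraMap A' A))
    (hI : IsNilpotent (RingHom.ker (algebraMap A' A)))
    (hB : Function.Surjective (algebraMap B' B))
    (hJI : RingHom.ker (algebraMap B' B) = (RingHom.ker (algebraMap A' A)).map (algebraMap A' B'))
    [Module.Flat A B]
    (hinj : Function.Injective ((RingHom.ker (algebraMap A' A)).subtype.baseChange B')) :
    Module.Flat A' B' := by
  set I := RingHom.ker (algebraMap A' A) with hIdef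
  letI alg : Algebra (A' ⧸ I) A := (RingHom.kerLift (algebraMap A' A)).toAlgebra
  haveI : IsScalarTower A' (A' ⧸ I) A := IsScalarTower.of_algebraMap_eq (fun x => rfl)
  have hbij : Function.Bijective (algebraMap (A' ⧸ I) A) :=
    ⟨RingHom.kerLift_injective _, fun a => by
      obtain ⟨a', rfl⟩ := hA a
      exact ⟨Ideal.Quotient.mk I a', rfl⟩⟩
  letI algB : Algebra (A' ⧸ I) B := ((algebraMap A B).comp (algebraMap (A' ⧸ I) A)).toAlgebra
  haveI : IsScalarTower (A' ⧸ I) A B := IsScalarTower.of_algebraMap_eq (fun x => rfl)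
  haveI : IsScalarTower A' (A' ⧸ I) B := IsScalarTower.of_algebraMap_eq (fun x => by
    rw [IsScalarTower.algebraMap_apply A' A B]; rfl)
  haveI : Module.Flat (A' ⧸ I) A :=
    Module.Flat.of_linearEquiv (LinearEquiv.ofBijective (Algebra.linearMap (A' ⧸ I) A) hbij).symm
  haveI : Module.Flat (A' ⧸ I) B := Module.Flat.trans (A' ⧸ I) A B
  let g : (A' ⧸ I) ⊗[A'] B' →ₗ[A' ⧸ I] B :=
    LinearMap.liftBaseChange (A' ⧸ I) ((Algebra.linearMap B' B).restrictScalars A')
  have hg1 : ∀ b : B', g (1 ⊗ₜ b) = algebraMap B' B b := fun b => by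
    simp [g]
  have hone : ∀ z : (A' ⧸ I) ⊗[A'] B', ∃ b : B', z = 1 ⊗ₜ b := by
    intro z
    induction z using TensorProduct.induction_on with
    | zero => exact ⟨0, (tmul_zero _ _).symm⟩
    | tmul x b =>
      obtain ⟨a, rfl⟩ := Ideal.Quotient.mk_surjective x
      refine ⟨a • b, ?_⟩
      rw [tmul_smul, smul_tmul', ← Ideal.Quotient.algebraMap_eq, Algebra.smul_def, mul_one]
    | add x y hx hy =>
      obtain ⟨b1, rfl⟩ := hx
      obtain ⟨b2, rfl⟩ := hy
      exact ⟨b1 + b2, (tmul_add _ _ _).symm⟩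
  have hgbij : Function.Bijective g := by
    constructor
    · rw [injective_iff_map_eq_zero]
      intro z hz
      obtain ⟨b, rfl⟩ := hone z
      rw [hg1] at hz
      have hb : b ∈ Ideal.span (algebraMap A' B' '' (I : Set A')) := by
        have : b ∈ RingHom.ker (algebraMap B' B) := hz
        rw [hJI] at this; exact this
      refine Submodule.span_induction (p := fun b _ => (1 : A' ⧸ I) ⊗ₜ[A'] b = 0) ?_ ?_ ?_ ?_ hb
      · rintro _ ⟨a, ha, rfl⟩
        rw [Algebra.algebraMap_eq_smul_one, tmul_smul, smul_tmul', Algebra.smul_def, mul_one,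
          Ideal.Quotient.algebraMap_eq, Ideal.Quotient.eq_zero_iff_mem.mpr ha, zero_tmul]
      · exact tmul_zero _ _
      · intro x y _ _ hx hy
        rw [tmul_add, hx, hy, add_zero]
      · intro c x _ hx
        have : (1 : A' ⧸ I) ⊗ₜ[A'] (c • x) =
            (LinearMap.mulLeft A' c).lTensor (A' ⧸ I) ((1 : A' ⧸ I) ⊗ₜ[A'] x) := by
          rw [LinearMap.lTensor_tmul, LinearMap.mulLeft_apply, smul_eq_mul]
        rw [this, hx, map_zero]
    · intro b
      obtain ⟨b', rfl⟩ := hB b
      exact ⟨1 ⊗ₜ b', hg1 b'⟩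
  haveI : Module.Flat (A' ⧸ I) ((A' ⧸ I) ⊗[A'] B') :=
    Module.Flat.of_linearEquiv (LinearEquiv.ofBijective g hgbij)
  have htor : Function.Injective (I.subtype.rTensor B') := by
    rw [← LinearMap.lTensor_inj_iff_rTensor_inj, ← LinearMap.baseChange_eq_ltensor]
    exact hinj
  exact Groth.Agent.Lib.LocalCrit2.flat_of_nilpotent I hI B' htor

end flat



section fp

variable {A' A B' B : Type u} [CommRing A'] [CommRing A] [Algebra A' A]
  [CommRing B'] [Algebra A' B'] [CommRing B] [Algebra B' B] [Algebra A B] [Algebra A' B]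
  [IsScalarTower A' A B] [IsScalarTower A' B' B]

theorem finitePresentation_of_nilpotent
    (hA : Function.Surjective (algebraMap A' A)) {N : ℕ}
    (hI : RingHom.ker (algebraMap A' A) ^ N = ⊥)
    (hB : Function.Surjective (algebraMap B' B))
    (hJI : RingHom.ker (algebraMap B' B) = (RingHom.ker (algebraMap A' A)).map (algebraMap A' B'))
    [Module.Flat A' B'] [Algebra.FinitePresentation A B] : Algebra.FinitePresentation A' B' := by
  set I := RingHom.ker (algebraMap A' A) with hIdef
  letI alg : Algebra (A' ⧸ I) A := (RingHom.kerLift (algebraMap A' A)).toAlgebra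
  haveI : IsScalarTower A' (A' ⧸ I) A := IsScalarTower.of_algebraMap_eq (fun x => rfl)
  have hbij : Function.Bijective (algebraMap (A' ⧸ I) A) :=
    ⟨RingHom.kerLift_injective _, fun a => by
      obtain ⟨a', rfl⟩ := hA a
      exact ⟨Ideal.Quotient.mk I a', rfl⟩⟩
  letI algB : Algebra (A' ⧸ I) B := ((algebraMap A B).comp (algebraMap (A' ⧸ I) A)).toAlgebra
  haveI : IsScalarTower (A' ⧸ I) A B := IsScalarTower.of_algebraMap_eq (fun x => rfl)
  haveI : Algebra.FinitePresentation (A' ⧸ I) A :=
    Algebra.FinitePresentation.equiv (AlgEquiv.ofBijective (Algebra.ofId (A' ⧸ I) A) hbij)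
  haveI : Algebra.FinitePresentation (A' ⧸ I) B := Algebra.FinitePresentation.trans (A' ⧸ I) A B
  obtain ⟨n, g, hg, hgker⟩ := Algebra.FinitePresentation.out (R := A' ⧸ I) (A := B)
  obtain ⟨m, f, hf⟩ := Submodule.fg_iff_exists_fin_generating_family.mp hgker
  have hspan : Ideal.span (Set.range f) = RingHom.ker g.toRingHom := hf
  let ρ : (MvPolynomial (Fin n) (A' ⧸ I) ⧸ Ideal.span (Set.range f)) ≃+* B :=
    (Ideal.quotEquivOfEq hspan).trans (RingHom.quotientKerEquivOfSurjective (f := g.toRingHom) hg)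
  have hρ : ∀ q, ρ (Ideal.Quotient.mk _ q) = g q := fun q => rfl
  let π : B' →+* MvPolynomial (Fin n) (A' ⧸ I) ⧸ Ideal.span (Set.range f) :=
    ρ.symm.toRingHom.comp (algebraMap B' B)
  have hπ : Function.Surjective π := ρ.symm.surjective.comp hB
  have hker : RingHom.ker π = I.map (algebraMap A' B') := by
    rw [← hJI]
    ext x
    simp only [π, RingHom.mem_ker, RingHom.comp_apply, RingEquiv.toRingHom_eq_coe, RingHom.coe_coe,
      EmbeddingLike.map_eq_zero_iff]
  have hcomp : π.comp (algebraMap A' B') =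
      ((Ideal.Quotient.mk (Ideal.span (Set.range f))).comp MvPolynomial.C).comp
        (Ideal.Quotient.mk I) := by
    ext a
    simp only [π, RingHom.comp_apply, RingEquiv.toRingHom_eq_coe, RingHom.coe_coe]
    rw [RingEquiv.symm_apply_eq, hρ, ← MvPolynomial.algebraMap_eq, AlgHom.commutes,
      ← IsScalarTower.algebraMap_apply A' B' B, IsScalarTower.algebraMap_apply A' A B]
    rfl
  obtain ⟨f', ψ, -, hψs, hψk, -⟩ :=
    Groth.Agent.Lib.FlatLift.exists_lifts I hI f π hπ hker hcomp
  refine Algebra.FinitePresentation.of_surjective hψs ?_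
  rw [hψk]
  exact Submodule.fg_span (Set.finite_range f')

end fp


section etale

variable {A' A B' B : Type u} [CommRing A'] [CommRing A] [Algebra A' A]
  [CommRing B'] [Algebra A' B'] [CommRing B] [Algebra B' B] [Algebra A B] [Algebra A' B]
  [IsScalarTower A' A B] [IsScalarTower A' B' B]

/-- étaleness lifts along a nilpotent thickening `B' ⊗ A = B` with `I ⊗ B' → B'` injective. -/
theorem etale_of_nilpotent
    (hA : Function.Surjective (algebraMap A' A)) {N : ℕ}
    (hI : RingHom.ker (algebraMap A' A) ^ N = ⊥)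
    (hB : Function.Surjective (algebraMap B' B))
    (hJI : RingHom.ker (algebraMap B' B) = (RingHom.ker (algebraMap A' A)).map (algebraMap A' B'))
    [Algebra.Etale A B]
    (hinj : Function.Injective ((RingHom.ker (algebraMap A' A)).subtype.baseChange B')) :
    Algebra.Etale A' B' := by
  haveI : Module.Flat A' B' := flat_of_nilpotent hA ⟨N, hI⟩ hB hJI hinj
  haveI : Algebra.FinitePresentation A' B' := finitePresentation_of_nilpotent hA hI hB hJI
  have hJ : RingHom.ker (algebraMap B' B) ^ N = ⊥ := by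
    rw [hJI, ← Ideal.map_pow, hI, Ideal.map_bot]
  haveI : Algebra.FormallyUnramified A' B' := formallyUnramified_of_nilpotent hA hB hJ hJI
  exact Algebra.Etale.of_formallyUnramified_of_flat

end etale

end Groth.Agent.Lib.SqZeroEtale
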