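import Groth.Prelude.Def_W4c6stackyreslrsPsRefl
import Groth.Agent.Lib.CoeffSpace_helper9

/-!
# The stabilizer ideal of an element of a comodule is a Hopf ideal (helper9)

For `f` in a comodule `R` over a commutative Hopf algebra `A` over a field, `stab f` is the ideal
of `A` generated by the coefficients of `ρ f - f ⊗ 1`.  Then `f` is invariant under the closed
subscheme of an ideal `J` iff `stab f ≤ J`, and `stab f` is a Hopf ideal.
-/

set_option autoImplicit false
universe u v w
open TensorProduct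

namespace StabIdeal9

open Groth.Agent.Lib.Comod_helper9 Groth.Agent.Lib.ComodDual_helper9 Groth.Agent.Lib.Subcoalg_helper9
  Groth.Agent.Lib.CoeffSpace_helper9

variable {k : Type u} [Field k] {A : Type v} [CommRing A] [HopfAlgebra k A]
variable {R : Type w} [AddCommGroup R] [Module k R] [HopfRep.Comod k A R]

/-- the coefficient of `ρ f - f ⊗ 1` along `ψ` -/
noncomputable def cf (f : R) (ψ : R →ₗ[k] k) : A :=
  evl A ψ (HopfRep.Comod.coact (k := k) (A := A) f) - ψ f • (1 : A)

/-- the ideal of the stabilizer of `f` -/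
noncomputable def stab (f : R) : Ideal A := Ideal.span (Set.range (cf (k := k) (A := A) f))

theorem cf_mem_stab (f : R) (ψ : R →ₗ[k] k) : cf (k := k) (A := A) f ψ ∈ stab (k := k) (A := A) f :=
  Ideal.subset_span ⟨ψ, rfl⟩

theorem pi_cf (J : Ideal A) (f : R) (ψ : R →ₗ[k] k) :
    (Ideal.Quotient.mkₐ k J).toLinearMap (cf (k := k) (A := A) f ψ) =
      evl (A ⧸ J) ψ (LinearMap.lTensor R (Ideal.Quotient.mkₐ k J).toLinearMap
        (HopfRep.Comod.coact (k := k) (A := A) f) - f ⊗ₜ[k] (1 : A ⧸ J)) := by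
  unfold cf
  rw [map_sub, map_sub, evl_lTensor, evl_tmul, map_smul, AlgHom.toLinearMap_apply,
    AlgHom.toLinearMap_apply, map_one]

theorem mem_quotInvariants_iff (f : R) (J : Ideal A) :
    f ∈ GLin.quotInvariants k A R J ↔ stab (k := k) (A := A) f ≤ J := by
  rw [GLin.mem_quotInvariants_iff]
  constructor
  · intro h
    apply Ideal.span_le.mpr
    rintro _ ⟨ψ, rfl⟩
    have h1 := pi_cf J f ψ
    rw [h, sub_self, map_zero, AlgHom.toLinearMap_apply, Ideal.Quotient.mkₐ_eq_mk,
      Ideal.Quotient.eq_zero_iff_mem] at h1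
    exact h1
  · intro h
    rw [← sub_eq_zero]
    apply eq_zero_of_forall_evl
    intro ψ
    rw [← pi_cf, AlgHom.toLinearMap_apply, Ideal.Quotient.mkₐ_eq_mk, Ideal.Quotient.eq_zero_iff_mem]
    exact h (cf_mem_stab f ψ)

theorem self_mem (f : R) : f ∈ GLin.quotInvariants k A R (stab (k := k) (A := A) f) :=
  (mem_quotInvariants_iff f _).mpr le_rfl

theorem quotInvariants_mono {J J' : Ideal A} (h : J ≤ J') :
    GLin.quotInvariants k A R J ≤ GLin.quotInvariants k A R J' := by
  intro f hf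
  rw [mem_quotInvariants_iff] at hf ⊢
  exact hf.trans h

theorem counit_cf (f : R) (ψ : R →ₗ[k] k) :
    Coalgebra.counit (R := k) (cf (k := k) (A := A) f ψ) = 0 := by
  unfold cf
  rw [map_sub, map_smul, Bialgebra.counit_one, smul_eq_mul, mul_one]
  have h1 : Coalgebra.counit (R := k) (evl A ψ (HopfRep.Comod.coact (k := k) (A := A) f)) =
      evl k ψ ((Coalgebra.counit (R := k) (A := A)).lTensor R
        (HopfRep.Comod.coact (k := k) (A := A) f)) := (evl_lTensor ψ _ _).symm
  rw [h1]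
  have h2 := LinearMap.congr_fun (HopfRep.Comod.counit_comp (k := k) (A := A) (V := R)) f
  simp only [LinearMap.coe_comp, Function.comp_apply, LinearMap.flip_apply,
    TensorProduct.mk_apply] at h2
  rw [h2, evl_tmul, smul_eq_mul, mul_one, sub_self]

theorem coeffMap_eq (f : R) (ψ : R →ₗ[k] k) :
    coeffMap (C := A) ψ f = cf (k := k) (A := A) f ψ + ψ f • (1 : A) := by
  unfold cf
  rw [coeffMap_apply, sub_add_cancel]

theorem map_comul_cf (f : R) (ψ : R →ₗ[k] k) :
    TensorProduct.map (Ideal.Quotient.mkₐ k (stab (k := k) (A := A) f)).toLinearMap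
      (Ideal.Quotient.mkₐ k (stab (k := k) (A := A) f)).toLinearMap
      (Coalgebra.comul (R := k) (cf (k := k) (A := A) f ψ)) = 0 := by
  set π := (Ideal.Quotient.mkₐ k (stab (k := k) (A := A) f)).toLinearMap with hπ
  have hcf : cf (k := k) (A := A) f ψ = coeffMap (C := A) ψ f - ψ f • (1 : A) := by
    rw [coeffMap_eq, add_sub_cancel_right]
  have h1 : Coalgebra.comul (R := k) (coeffMap (C := A) ψ f) =
      (coeffMap (C := A) ψ).rTensor A (HopfRep.Comod.coact (k := k) (A := A) f) :=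
    isComodHom_apply (isComodHom_coeffMap ψ) f
  have h2 : ∀ y : R ⊗[k] A, TensorProduct.map π π ((coeffMap (C := A) ψ).rTensor A y) =
      (π ∘ₗ coeffMap (C := A) ψ).rTensor _ (π.lTensor R y) := by
    intro y
    induction y using TensorProduct.induction_on with
    | zero => simp
    | add x y hx hy => simp only [map_add, hx, hy]
    | tmul r a => simp
  have h3 : π.lTensor R (HopfRep.Comod.coact (k := k) (A := A) f) = f ⊗ₜ[k] (1 : A ⧸ stab f) :=
    (GLin.mem_quotInvariants_iff k A R _ f).mp (self_mem f)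
  have h4 : π (cf (k := k) (A := A) f ψ) = 0 := by
    rw [hπ, AlgHom.toLinearMap_apply, Ideal.Quotient.mkₐ_eq_mk, Ideal.Quotient.eq_zero_iff_mem]
    exact cf_mem_stab f ψ
  have h5 : π (1 : A) = 1 := by rw [hπ, AlgHom.toLinearMap_apply, map_one]
  have h6 : TensorProduct.map π π (Coalgebra.comul (R := k) (ψ f • (1 : A))) =
      (ψ f • (1 : A ⧸ stab f)) ⊗ₜ[k] (1 : A ⧸ stab f) := by
    rw [map_smul, Bialgebra.comul_one, Algebra.TensorProduct.one_def, map_smul,
      TensorProduct.map_tmul, h5, TensorProduct.smul_tmul']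
  rw [hcf, map_sub, map_sub, h6, h1, h2, h3, LinearMap.rTensor_tmul, LinearMap.comp_apply, coeffMap_eq,
    map_add, h4, zero_add, map_smul, h5, sub_self]

omit [HopfRep.Comod k A R] in
/-- `Ψ(r ⊗ b̄) = Σ r₀ ⊗ π(S r₁) b̄` on pure tensors, expressed through `w = ρ r`. -/
theorem antipode_aux (J : Ideal A) (w : R ⊗[k] A) (a : A) :
    LinearMap.lTensor R ((Ideal.Quotient.mkₐ k J).toLinearMap ∘ₗ LinearMap.mul' k A ∘ₗ
        (HopfAlgebra.antipode k (A := A)).rTensor A)
      (TensorProduct.assoc k R A A (w ⊗ₜ[k] a)) =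
    LinearMap.lTensor R (LinearMap.mul' k (A ⧸ J) ∘ₗ
        ((Ideal.Quotient.mkₐ k J).toLinearMap ∘ₗ HopfAlgebra.antipode k (A := A)).rTensor (A ⧸ J))
      (TensorProduct.assoc k R A (A ⧸ J) (w ⊗ₜ[k] (Ideal.Quotient.mkₐ k J a))) := by
  induction w using TensorProduct.induction_on with
  | zero => simp
  | add x y hx hy => simp only [TensorProduct.add_tmul, map_add, hx, hy]
  | tmul r a' => simp

/-- the coaction of `f` composed with `π ∘ S` is still `f ⊗ 1` when `(id ⊗ π) ρ f = f ⊗ 1` -/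
theorem lTensor_pi_antipode (J : Ideal A) (f : R)
    (hf : LinearMap.lTensor R (Ideal.Quotient.mkₐ k J).toLinearMap
      (HopfRep.Comod.coact (k := k) (A := A) f) = f ⊗ₜ[k] (1 : A ⧸ J)) :
    LinearMap.lTensor R ((Ideal.Quotient.mkₐ k J).toLinearMap ∘ₗ HopfAlgebra.antipode k (A := A))
      (HopfRep.Comod.coact (k := k) (A := A) f) = f ⊗ₜ[k] (1 : A ⧸ J) := by
  set π := (Ideal.Quotient.mkₐ k J).toLinearMap with hπ
  set ρ := HopfRep.Comod.coact (k := k) (A := A) (V := R) with hρ
  -- the two maps `R ⊗ A → R ⊗ A/J`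
  let Φ' : (R ⊗[k] A) ⊗[k] A →ₗ[k] R ⊗[k] (A ⧸ J) :=
    LinearMap.lTensor R (π ∘ₗ LinearMap.mul' k A ∘ₗ (HopfAlgebra.antipode k (A := A)).rTensor A) ∘ₗ
      (TensorProduct.assoc k R A A).toLinearMap
  let Ψ : R ⊗[k] (A ⧸ J) →ₗ[k] R ⊗[k] (A ⧸ J) :=
    LinearMap.lTensor R (LinearMap.mul' k (A ⧸ J) ∘ₗ
        (π ∘ₗ HopfAlgebra.antipode k (A := A)).rTensor (A ⧸ J)) ∘ₗ
      (TensorProduct.assoc k R A (A ⧸ J)).toLinearMap ∘ₗ ρ.rTensor (A ⧸ J)
  have hΨΦ : ∀ y : R ⊗[k] A, Ψ (π.lTensor R y) = Φ' (ρ.rTensor A y) := by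
    intro y
    induction y using TensorProduct.induction_on with
    | zero => simp
    | add x y hx hy => simp only [map_add, hx, hy]
    | tmul r a =>
      simp only [Ψ, Φ', LinearMap.comp_apply, LinearMap.lTensor_tmul, LinearMap.rTensor_tmul,
        LinearEquiv.coe_coe]
      exact (antipode_aux J (ρ r) a).symm
  have hΨ1 : Ψ (f ⊗ₜ[k] (1 : A ⧸ J)) = LinearMap.lTensor R (π ∘ₗ HopfAlgebra.antipode k (A := A)) (ρ f) := by
    simp only [Ψ, LinearMap.comp_apply, LinearMap.rTensor_tmul, LinearEquiv.coe_coe]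
    generalize ρ f = w
    induction w using TensorProduct.induction_on with
    | zero => simp
    | add x y hx hy => simp only [TensorProduct.add_tmul, map_add, hx, hy]
    | tmul r a => simp
  have hΦ : Φ' (ρ.rTensor A (ρ f)) = f ⊗ₜ[k] (1 : A ⧸ J) := by
    have hc := LinearMap.congr_fun (HopfRep.Comod.coassoc (k := k) (A := A) (V := R)) f
    simp only [LinearMap.coe_comp, Function.comp_apply, LinearEquiv.coe_coe] at hc
    simp only [Φ', LinearMap.comp_apply, LinearEquiv.coe_coe]
    rw [hc, ← LinearMap.comp_apply (LinearMap.lTensor R _) (LinearMap.lTensor R _),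
      ← LinearMap.lTensor_comp]
    have hant : (π ∘ₗ LinearMap.mul' k A ∘ₗ (HopfAlgebra.antipode k (A := A)).rTensor A) ∘ₗ
        Coalgebra.comul (R := k) = (π ∘ₗ Algebra.linearMap k A) ∘ₗ Coalgebra.counit (R := k) := by
      rw [LinearMap.comp_assoc, LinearMap.comp_assoc, HopfAlgebra.mul_antipode_rTensor_comul,
        LinearMap.comp_assoc]
    rw [hant, LinearMap.lTensor_comp, LinearMap.comp_apply]
    have h2 := LinearMap.congr_fun (HopfRep.Comod.counit_comp (k := k) (A := A) (V := R)) f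
    simp only [LinearMap.coe_comp, Function.comp_apply, LinearMap.flip_apply,
      TensorProduct.mk_apply] at h2
    rw [h2, LinearMap.lTensor_tmul, LinearMap.comp_apply, Algebra.linearMap_apply, map_one, hπ,
      AlgHom.toLinearMap_apply, map_one]
  rw [← hΨ1]
  calc Ψ (f ⊗ₜ[k] (1 : A ⧸ J)) = Ψ (π.lTensor R (ρ f)) := by rw [hf]
    _ = f ⊗ₜ[k] (1 : A ⧸ J) := by rw [hΨΦ, hΦ]

theorem antipode_cf_mem (f : R) (ψ : R →ₗ[k] k) :
    HopfAlgebra.antipode k (cf (k := k) (A := A) f ψ) ∈ stab (k := k) (A := A) f := by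
  rw [← Ideal.Quotient.eq_zero_iff_mem, ← Ideal.Quotient.mkₐ_eq_mk k, ← AlgHom.toLinearMap_apply]
  set π := (Ideal.Quotient.mkₐ k (stab (k := k) (A := A) f)).toLinearMap with hπ
  have h3 : π.lTensor R (HopfRep.Comod.coact (k := k) (A := A) f) = f ⊗ₜ[k] (1 : A ⧸ stab f) :=
    (GLin.mem_quotInvariants_iff k A R _ f).mp (self_mem f)
  have key := lTensor_pi_antipode (stab (k := k) (A := A) f) f h3
  have h5 : π (1 : A) = 1 := by rw [hπ, AlgHom.toLinearMap_apply, map_one]
  unfold cf
  rw [map_sub, map_sub, map_smul, map_smul, HopfAlgebra.antipode_one, h5,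
    ← LinearMap.comp_apply π, ← evl_lTensor, key, evl_tmul, sub_self]

theorem stab_isHopfIdeal (f : R) : (stab (k := k) (A := A) f).IsHopfIdeal k := by
  set J := stab (k := k) (A := A) f with hJ
  set π := (Ideal.Quotient.mkₐ k J).toLinearMap with hπ
  have hex : Function.Exact (J.restrictScalars k).subtype π := by
    intro y
    rw [hπ, AlgHom.toLinearMap_apply, Ideal.Quotient.mkₐ_eq_mk, Ideal.Quotient.eq_zero_iff_mem]
    constructor
    · intro hy; exact ⟨⟨y, hy⟩, rfl⟩
    · rintro ⟨z, rfl⟩; exact z.2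
  have hsurj : Function.Surjective π := Ideal.Quotient.mkₐ_surjective k J
  have hcoideal : (J.restrictScalars k).IsCoideal := by
    rw [Submodule.isCoideal_iff_comul_mem]
    constructor
    · intro x hx
      have hle : J ≤ RingHom.ker (Bialgebra.counitAlgHom k A) :=
        Ideal.span_le.mpr (by rintro _ ⟨ψ, rfl⟩; exact counit_cf f ψ)
      exact hle hx
    · intro x hx
      have hle : J ≤ RingHom.ker ((Algebra.TensorProduct.map (Ideal.Quotient.mkₐ k J)
          (Ideal.Quotient.mkₐ k J)).comp (Bialgebra.comulAlgHom k A)) := by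
        apply Ideal.span_le.mpr
        rintro _ ⟨ψ, rfl⟩
        exact map_comul_cf f ψ
      have h0 : TensorProduct.map π π (Coalgebra.comul (R := k) x) = 0 := hle hx
      rw [← LinearMap.mem_ker, TensorProduct.map_ker hex hsurj hex hsurj] at h0
      exact h0
  refine { toIsCoideal := hcoideal, antipode_mem := ?_ }
  intro x hx
  have hle : J ≤ Ideal.comap (HopfAlgebra.antipodeAlgHom k A) J := by
    apply Ideal.span_le.mpr
    rintro _ ⟨ψ, rfl⟩
    exact antipode_cf_mem f ψ
  exact hle hx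

end StabIdeal9
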