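import Mathlib
import Groth.Prelude.Def_Dyn
import Groth.Prelude.Def_HopfRep
import Groth.Agent.Lib.DynLim_helper1

/-!
# The stabilizer of a subspace of a finite-dimensional comodule is a closed subgroup (helper1)
-/

set_option autoImplicit false
set_option maxHeartbeats 1000000
universe u
open TensorProduct WithConv

namespace StabH1

/-- If an invertible endomorphism of a finite module maps a submodule into itself, so does its inverse. -/
theorem inv_mem {R M : Type*} [CommRing R] [AddCommGroup M] [Module R M] [Module.Finite R M]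
    (N : Submodule R M) (T T' : M →ₗ[R] M) (hTT' : T ∘ₗ T' = LinearMap.id)
    (hN : ∀ x ∈ N, T x ∈ N) : ∀ z ∈ N, T' z ∈ N := by
  have hsurjT : Function.Surjective T := fun y => ⟨T' y, LinearMap.congr_fun hTT' y⟩
  have hle : N ≤ N.comap T := fun x hx => hN x hx
  have hsurj : Function.Surjective (N.mapQ N T hle) := by
    intro y
    obtain ⟨y, rfl⟩ := N.mkQ_surjective y
    obtain ⟨x, rfl⟩ := hsurjT y
    exact ⟨N.mkQ x, by simp⟩
  have hinj : Function.Injective (N.mapQ N T hle) :=
    OrzechProperty.injective_of_surjective_endomorphism (N.mapQ N T hle) hsurj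
  intro z hz
  have h1 : (N.mapQ N T hle) (N.mkQ (T' z)) = 0 := by
    rw [Submodule.mkQ_apply, Submodule.mapQ_apply]
    have h : T (T' z) = z := LinearMap.congr_fun hTT' z
    rw [h]
    exact (Submodule.Quotient.mk_eq_zero N).mpr hz
  have h2 := hinj (h1.trans (map_zero (N.mapQ N T hle)).symm)
  exact (Submodule.Quotient.mk_eq_zero N).mp h2

section main

variable (k A : Type u) [Field k] [CommRing A] [HopfAlgebra k A]
variable (V : Type u) [AddCommGroup V] [Module k V] [HopfRep.Comod k A V]

/-- the coaction -/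
noncomputable abbrev rho : V →ₗ[k] V ⊗[k] A := HopfRep.Comod.coact (k := k) (A := A)

theorem coassoc_apply (v : V) :
    (rho k A V).rTensor A (rho k A V v) =
      (TensorProduct.assoc k V A A).symm
        ((CoalgebraStruct.comul (R := k) (A := A)).lTensor V (rho k A V v)) := by
  have h := LinearMap.congr_fun (HopfRep.Comod.coassoc (k := k) (A := A) (V := V)) v
  simp only [LinearMap.comp_apply, LinearEquiv.coe_coe] at h
  rw [← h, LinearEquiv.symm_apply_apply]

theorem counit_apply (v : V) :
    (CoalgebraStruct.counit (R := k) (A := A)).lTensor V (rho k A V v) = v ⊗ₜ[k] (1 : k) := by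
  have h := LinearMap.congr_fun (HopfRep.Comod.counit_comp (k := k) (A := A) (V := V)) v
  simpa using h

section R

variable (R : Type u) [CommRing R] [Algebra k R]

/-- `v ↦ Σ g(v₁) ⊗ v₀` -/
noncomputable def tau (g : A →ₐ[k] R) : V →ₗ[k] R ⊗[k] V :=
  (TensorProduct.comm k V R).toLinearMap ∘ₗ (g.toLinearMap.lTensor V) ∘ₗ rho k A V

theorem tau_apply (g : A →ₐ[k] R) (v : V) :
    tau k A V R g v = TensorProduct.comm k V R ((g.toLinearMap.lTensor V) (rho k A V v)) := rfl

/-- the action of the point `g` on `R ⊗ V` -/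
noncomputable def T (g : A →ₐ[k] R) : R ⊗[k] V →ₗ[R] R ⊗[k] V :=
  LinearMap.liftBaseChange R (tau k A V R g)

theorem T_tmul (g : A →ₐ[k] R) (r : R) (v : V) :
    T k A V R g (r ⊗ₜ[k] v) = r • tau k A V R g v := rfl

/-- `y ⊗ a ↦ g'(a) • (comm ∘ (id ⊗ g)) y` -/
noncomputable def F (g g' : A →ₐ[k] R) : (V ⊗[k] A) ⊗[k] A →ₗ[k] R ⊗[k] V :=
  TensorProduct.lift (LinearMap.mk₂ k
    (fun (y : V ⊗[k] A) (a : A) =>
      g' a • (TensorProduct.comm k V R ((g.toLinearMap.lTensor V) y)))
    (fun y y' a => by simp only [map_add, smul_add])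
    (fun c y a => by simp only [map_smul]; rw [smul_comm])
    (fun y a a' => by simp only [map_add, add_smul])
    (fun c y a => by simp only [map_smul, smul_assoc]))

theorem F_tmul (g g' : A →ₐ[k] R) (y : V ⊗[k] A) (a : A) :
    F k A V R g g' (y ⊗ₜ[k] a) =
      g' a • (TensorProduct.comm k V R ((g.toLinearMap.lTensor V) y)) := rfl

theorem E1 (g g' : A →ₐ[k] R) (x : V ⊗[k] A) :
    T k A V R g (TensorProduct.comm k V R ((g'.toLinearMap.lTensor V) x)) =
      F k A V R g g' ((rho k A V).rTensor A x) := by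
  induction x using TensorProduct.induction_on with
  | zero => simp
  | add x y hx hy => simp only [map_add, hx, hy]
  | tmul v a =>
    rw [LinearMap.lTensor_tmul, TensorProduct.comm_tmul, T_tmul, LinearMap.rTensor_tmul, F_tmul]
    rfl

theorem E2 (g g' : A →ₐ[k] R) (v : V) (t : A ⊗[k] A) :
    F k A V R g g' ((TensorProduct.assoc k V A A).symm (v ⊗ₜ[k] t)) =
      (LinearMap.mul' k R (TensorProduct.map g.toLinearMap g'.toLinearMap t)) ⊗ₜ[k] v := by
  induction t using TensorProduct.induction_on with
  | zero => simp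
  | add x y hx hy => simp only [map_add, TensorProduct.tmul_add, TensorProduct.add_tmul, hx, hy]
  | tmul a a' =>
    rw [TensorProduct.assoc_symm_tmul, F_tmul, LinearMap.lTensor_tmul, TensorProduct.comm_tmul,
      TensorProduct.smul_tmul', TensorProduct.map_tmul, LinearMap.mul'_apply, smul_eq_mul, mul_comm]
    rfl

theorem conv_apply (g g' : A →ₐ[k] R) (a : A) :
    (ofConv (toConv g * toConv g')) a =
      LinearMap.mul' k R (TensorProduct.map g.toLinearMap g'.toLinearMap
        (CoalgebraStruct.comul (R := k) a)) := by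
  rw [AlgHom.convMul_def]
  show Algebra.TensorProduct.lmul' k (Algebra.TensorProduct.map g g'
    (CoalgebraStruct.comul (R := k) a)) = _
  generalize CoalgebraStruct.comul (R := k) a = t
  induction t using TensorProduct.induction_on with
  | zero => simp
  | add x y hx hy => simp only [map_add, hx, hy]
  | tmul a a' => simp

theorem E3 (g g' : A →ₐ[k] R) (x : V ⊗[k] A) :
    F k A V R g g' ((TensorProduct.assoc k V A A).symm
        ((CoalgebraStruct.comul (R := k) (A := A)).lTensor V x)) =
      TensorProduct.comm k V R (((ofConv (toConv g * toConv g')).toLinearMap.lTensor V) x) := by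
  induction x using TensorProduct.induction_on with
  | zero => simp
  | add x y hx hy => simp only [map_add, hx, hy]
  | tmul v a =>
    rw [LinearMap.lTensor_tmul, E2, LinearMap.lTensor_tmul, TensorProduct.comm_tmul,
      AlgHom.toLinearMap_apply, conv_apply]

theorem T_tau (g g' : A →ₐ[k] R) (v : V) :
    T k A V R g (tau k A V R g' v) = tau k A V R (ofConv (toConv g * toConv g')) v := by
  rw [tau_apply, E1, coassoc_apply, E3]
  rfl

theorem T_comp (g g' : A →ₐ[k] R) (z : R ⊗[k] V) :
    T k A V R g (T k A V R g' z) = T k A V R (ofConv (toConv g * toConv g')) z := by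
  induction z using TensorProduct.induction_on with
  | zero => simp
  | add x y hx hy => simp only [map_add, hx, hy]
  | tmul r v => rw [T_tmul, map_smul, T_tau, T_tmul]

theorem tau_one (v : V) :
    tau k A V R (ofConv (1 : WithConv (A →ₐ[k] R))) v = (1 : R) ⊗ₜ[k] v := by
  have h : (ofConv (1 : WithConv (A →ₐ[k] R))).toLinearMap =
      (Algebra.ofId k R).toLinearMap ∘ₗ (CoalgebraStruct.counit (R := k) (A := A)) := rfl
  rw [tau_apply, h, LinearMap.lTensor_comp_apply, counit_apply, LinearMap.lTensor_tmul,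
    TensorProduct.comm_tmul]
  simp

theorem T_one (z : R ⊗[k] V) : T k A V R (ofConv (1 : WithConv (A →ₐ[k] R))) z = z := by
  induction z using TensorProduct.induction_on with
  | zero => simp
  | add x y hx hy => simp only [map_add, hx, hy]
  | tmul r v => rw [T_tmul, tau_one, TensorProduct.smul_tmul', smul_eq_mul, mul_one]

open scoped DynLimH1 in
theorem T_inv (g : A →ₐ[k] R) :
    T k A V R g ∘ₗ T k A V R (g.comp (HopfAlgebra.antipodeAlgHom k A)) = LinearMap.id := by
  have h : toConv g * toConv (g.comp (HopfAlgebra.antipodeAlgHom k A)) = 1 :=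
    mul_inv_cancel (toConv g)
  apply LinearMap.ext
  intro z
  rw [LinearMap.comp_apply, T_comp, h, T_one]
  rfl

variable (W : Submodule k V)

/-- `W_R ⊆ R ⊗ V` -/
noncomputable def WR : Submodule R (R ⊗[k] V) := LinearMap.range (W.subtype.baseChange R)

/-- the point `g` maps `W` into `W ⊗ R` -/
def P (g : A →ₐ[k] R) : Prop :=
  ∀ w ∈ W, LinearMap.lTensor V g.toLinearMap (HopfRep.Comod.coact (k := k) (A := A) w) ∈
    LinearMap.range (W.subtype.rTensor R)

theorem comm_rTensor (y : W ⊗[k] R) :
    TensorProduct.comm k V R (W.subtype.rTensor R y) =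
      W.subtype.baseChange R (TensorProduct.comm k W R y) := by
  induction y using TensorProduct.induction_on with
  | zero => simp
  | add x y hx hy => simp only [map_add, hx, hy]
  | tmul w r => simp

theorem comm_mem (z : V ⊗[k] R) :
    TensorProduct.comm k V R z ∈ WR k V R W ↔ z ∈ LinearMap.range (W.subtype.rTensor R) := by
  constructor
  · rintro ⟨y, hy⟩
    refine ⟨(TensorProduct.comm k W R).symm y, ?_⟩
    apply (TensorProduct.comm k V R).injective
    rw [comm_rTensor, LinearEquiv.apply_symm_apply, hy]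
  · rintro ⟨y, rfl⟩
    exact ⟨TensorProduct.comm k W R y, (comm_rTensor k V R W y).symm⟩

theorem P_iff (g : A →ₐ[k] R) :
    P k A V R W g ↔ ∀ x ∈ WR k V R W, T k A V R g x ∈ WR k V R W := by
  constructor
  · rintro h x ⟨y, rfl⟩
    induction y using TensorProduct.induction_on with
    | zero => simp
    | add x y hx hy =>
      rw [map_add, map_add]
      exact Submodule.add_mem _ hx hy
    | tmul r w =>
      rw [LinearMap.baseChange_tmul, T_tmul]
      apply Submodule.smul_mem
      rw [tau_apply, comm_mem]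
      exact h w.1 w.2
  · intro h w hw
    have h1 : (1 : R) ⊗ₜ[k] w ∈ WR k V R W := ⟨(1 : R) ⊗ₜ[k] (⟨w, hw⟩ : W), by simp⟩
    have h2 := h _ h1
    rw [T_tmul, one_smul, tau_apply, comm_mem] at h2
    exact h2

theorem P_mul (g g' : A →ₐ[k] R) (h : P k A V R W g) (h' : P k A V R W g') :
    P k A V R W (ofConv (toConv g * toConv g')) := by
  rw [P_iff] at h h' ⊢
  intro x hx
  rw [← T_comp]
  exact h _ (h' _ hx)

theorem P_inv [Module.Finite k V] (g : A →ₐ[k] R) (h : P k A V R W g) :
    P k A V R W (g.comp (HopfAlgebra.antipodeAlgHom k A)) := by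
  rw [P_iff] at h ⊢
  exact inv_mem (WR k V R W) (T k A V R g) _ (T_inv k A V R g) h

end R

variable (W : Submodule k V)

theorem P_one : P k A V k W (Bialgebra.counitAlgHom k A) := by
  intro w hw
  have h : (Bialgebra.counitAlgHom k A).toLinearMap = CoalgebraStruct.counit (R := k) (A := A) := rfl
  rw [h]
  have h2 := counit_apply k A V w
  refine ⟨(⟨w, hw⟩ : W) ⊗ₜ[k] (1 : k), ?_⟩
  rw [LinearMap.rTensor_tmul]
  exact h2.symm

/-- `(q ⊗ id)(ρ w)` -/
noncomputable def uu (w : V) : (V ⧸ W) ⊗[k] A := (W.mkQ.rTensor A) (rho k A V w)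

/-- the ideal of the stabilizer -/
def J : Ideal A :=
  Ideal.span {a | ∃ w ∈ W, ∃ φ : (V ⧸ W) →ₗ[k] k,
    a = TensorProduct.lid k A ((φ.rTensor A) (uu k A V W w))}

theorem L2 (R : Type u) [CommRing R] [Algebra k R] (g : A →ₐ[k] R) (y : V ⊗[k] A) :
    (W.mkQ.rTensor R) ((g.toLinearMap.lTensor V) y) =
      (g.toLinearMap.lTensor (V ⧸ W)) ((W.mkQ.rTensor A) y) := by
  induction y using TensorProduct.induction_on with
  | zero => simp
  | add x y hx hy => simp only [map_add, hx, hy]
  | tmul v a => simp

theorem L3 (R : Type u) [CommRing R] [Algebra k R] (z : (V ⧸ W) ⊗[k] R)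
    (h : ∀ φ : (V ⧸ W) →ₗ[k] k, TensorProduct.lid k R ((φ.rTensor R) z) = 0) : z = 0 := by
  classical
  let b := Module.Basis.ofVectorSpace k (V ⧸ W)
  apply (TensorProduct.equivFinsuppOfBasisLeft b).injective
  ext i
  rw [TensorProduct.equivFinsuppOfBasisLeft_apply, h, map_zero]
  rfl

theorem L4 (R : Type u) [CommRing R] [Algebra k R] (g : A →ₐ[k] R) (φ : (V ⧸ W) →ₗ[k] k)
    (y : (V ⧸ W) ⊗[k] A) :
    g (TensorProduct.lid k A ((φ.rTensor A) y)) =
      TensorProduct.lid k R ((φ.rTensor R) ((g.toLinearMap.lTensor (V ⧸ W)) y)) := by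
  induction y using TensorProduct.induction_on with
  | zero => simp
  | add x y hx hy => simp only [map_add, hx, hy]
  | tmul v a => simp

theorem represents :
    Dyn.Represents k A (J k A V W) (fun R _ _ g => P k A V R W g) := by
  intro R _ _ g
  constructor
  · intro h w hw
    rw [← rTensor_mkQ, LinearMap.mem_ker, L2]
    apply L3
    intro φ
    rw [← L4]
    exact h _ (Ideal.subset_span ⟨w, hw, φ, rfl⟩)
  · intro h a ha
    have hle : J k A V W ≤ RingHom.ker g.toRingHom := by
      apply Ideal.span_le.mpr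
      rintro a ⟨w, hw, φ, rfl⟩
      show g _ = 0
      have h1 := h w hw
      rw [← rTensor_mkQ, LinearMap.mem_ker, L2] at h1
      rw [L4]
      show (TensorProduct.lid k R) ((LinearMap.rTensor R φ)
        ((LinearMap.lTensor (V ⧸ W) g.toLinearMap) ((W.mkQ.rTensor A) (rho k A V w)))) = 0
      rw [h1, map_zero, map_zero]
    exact hle ha

theorem main [Module.Finite k V] :
    ∃ (J : Ideal A) (_ : J.IsHopfIdeal k),
      Dyn.Represents k A J (fun R _ _ g => ∀ w ∈ W,
        LinearMap.lTensor V g.toLinearMap (HopfRep.Comod.coact (k := k) (A := A) w) ∈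
          LinearMap.range (W.subtype.rTensor R)) := by
  refine ⟨J k A V W, ?_, represents k A V W⟩
  exact DynLimH1.hopf_of_represents k A (J k A V W) (fun R _ _ g => P k A V R W g)
    (represents k A V W) (P_one k A V W)
    (fun R _ _ g g' h h' => P_mul k A V R W g g' h h')
    (fun R _ _ g h => P_inv k A V R W g h)

end main

end StabH1
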