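import Mathlib
import Groth.Prelude
import Groth.Agent.Lib.Tens6_helper8
set_option autoImplicit false
set_option linter.style.haveILetI false
set_option linter.unusedVariables false
universe u
open CategoryTheory AlgebraicGeometry TopologicalSpace Opposite
open TensH8 GenLocH8

namespace Groth.Agent.Lib.StableBsH4

variable {X : Scheme.{u}}

/-- The base locus of `L^{⊗ m}`. -/
def Bs (L : X.Modules) (m : ℕ) : Set X :=
  {x | ∀ s : Coh.structureModule X ⟶ CohB1.tensorPow L m,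
    x ∉ CohB1.genLocus (CohB1.tensorPow L m) s}

theorem isClosed_Bs (L : X.Modules) (m : ℕ) : IsClosed (Bs L m) := by
  have h : Bs L m = (⋃ s : Coh.structureModule X ⟶ CohB1.tensorPow L m,
      ((CohB1.genLocus (CohB1.tensorPow L m) s : X.Opens) : Set X))ᶜ := by
    ext x
    constructor
    · intro hx hmem
      obtain ⟨s, hs⟩ := Set.mem_iUnion.mp hmem
      exact hx s hs
    · intro hx s hs
      exact hx (Set.mem_iUnion.mpr ⟨s, hs⟩)
  rw [h]
  exact (isOpen_iUnion fun s => (CohB1.genLocus _ s).2).isClosed_compl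

theorem Bs_mul_subset {L : X.Modules} (hL : PicF.IsInvertible L) (m k : ℕ) (hk : 0 < k) :
    Bs L (m * k) ⊆ Bs L m := by
  intro x hx s hxs
  obtain ⟨s', hs'⟩ := Frame.transfer_pow hL (Frame.pow L m) (Frame.pow L (m * k)) k hk rfl s
  exact hx s' (by rw [hs']; exact hxs)

theorem Bs_mul_subset' {L : X.Modules} (hL : PicF.IsInvertible L) (m k : ℕ) (hk : 0 < k) :
    Bs L (k * m) ⊆ Bs L m := by
  rw [Nat.mul_comm]
  exact Bs_mul_subset hL m k hk

theorem exists_min [NoetherianSpace X] {L : X.Modules} (hL : PicF.IsInvertible L) :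
    ∃ n₀ : ℕ, 0 < n₀ ∧ ∀ m, 0 < m → Bs L n₀ ⊆ Bs L m := by
  let S : Set (Closeds X) := {C | ∃ m : ℕ, 0 < m ∧ (C : Set X) = Bs L m}
  have hne : S.Nonempty := ⟨⟨Bs L 1, isClosed_Bs L 1⟩, 1, Nat.one_pos, rfl⟩
  obtain ⟨C, ⟨n₀, hn₀, hC⟩, hmin⟩ := (wellFounded_lt (α := Closeds X)).has_min S hne
  refine ⟨n₀, hn₀, fun m hm => ?_⟩
  have hD : (⟨Bs L (n₀ * m), isClosed_Bs L _⟩ : Closeds X) ∈ S :=
    ⟨n₀ * m, Nat.mul_pos hn₀ hm, rfl⟩
  have h1 : Bs L (n₀ * m) ⊆ Bs L n₀ := Bs_mul_subset hL n₀ m hm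
  have h2 : Bs L (n₀ * m) ⊆ Bs L m := Bs_mul_subset' hL m n₀ hn₀
  have h3 : ¬ ((⟨Bs L (n₀ * m), isClosed_Bs L _⟩ : Closeds X) < C) := hmin _ hD
  have h4 : Bs L n₀ ⊆ Bs L (n₀ * m) := by
    by_contra hcon
    apply h3
    rw [lt_iff_le_and_ne]
    refine ⟨?_, ?_⟩
    · intro x hx
      have h5 : x ∈ (C : Set X) := by
        rw [hC]
        exact h1 hx
      exact h5
    · intro heq
      have h6 : Bs L (n₀ * m) = Bs L n₀ := by
        rw [← hC, ← heq]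
        rfl
      exact hcon (by rw [h6])
  exact h4.trans h2

theorem stable_eq [NoetherianSpace X] {L : X.Modules} (hL : PicF.IsInvertible L) :
    ∃ n₀ : ℕ, 0 < n₀ ∧ ∀ k : ℕ, 0 < k →
      {x : X | ∀ m : ℕ, 0 < m → x ∈ Bs L m} = Bs L (k * n₀) := by
  obtain ⟨n₀, hn₀, hmin⟩ := exists_min hL
  refine ⟨n₀, hn₀, fun k hk => ?_⟩
  ext x
  constructor
  · intro hx
    exact hx (k * n₀) (Nat.mul_pos hk hn₀)
  · intro hx m hm
    exact hmin m hm (Bs_mul_subset' hL n₀ k hk hx)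

theorem minimal_iff [NoetherianSpace X] {L : X.Modules} (hL : PicF.IsInvertible L) :
    (∃ m : ℕ, 0 < m ∧ Bs L m = {x : X | ∀ m : ℕ, 0 < m → x ∈ Bs L m}) ∧
    ∀ m : ℕ, 0 < m →
      ((∀ m' : ℕ, 0 < m' → Bs L m' ⊆ Bs L m → Bs L m' = Bs L m) ↔
        Bs L m = {x : X | ∀ m : ℕ, 0 < m → x ∈ Bs L m}) := by
  obtain ⟨n₀, hn₀, hmin⟩ := exists_min hL
  have key : Bs L n₀ = {x : X | ∀ m : ℕ, 0 < m → x ∈ Bs L m} := by
    ext x
    constructor
    · intro hx m hm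
      exact hmin m hm hx
    · intro hx
      exact hx n₀ hn₀
  have hsub : ∀ m : ℕ, 0 < m → {x : X | ∀ m : ℕ, 0 < m → x ∈ Bs L m} ⊆ Bs L m :=
    fun m hm x hx => hx m hm
  refine ⟨⟨n₀, hn₀, key⟩, fun m hm => ⟨fun h => ?_, fun h m' hm' hs => ?_⟩⟩
  · rw [← key]
    exact (h n₀ hn₀ (hmin m hm)).symm
  · exact Set.Subset.antisymm hs (h ▸ hsub m' hm')

theorem pow_eq {L : X.Modules} (hL : PicF.IsInvertible L) (p : ℕ) (hp : 0 < p) :
    {x : X | ∀ m : ℕ, 0 < m → ∀ s : Coh.structureModule X ⟶ CohB1.tensorPow (CohB1.tensorPow L p) m, x ∉ CohB1.genLocus (CohB1.tensorPow (CohB1.tensorPow L p) m) s} = {x : X | ∀ m : ℕ, 0 < m → ∀ s : Coh.structureModule X ⟶ CohB1.tensorPow L m, x ∉ CohB1.genLocus (CohB1.tensorPow L m) s} := by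
  ext x
  constructor
  · intro hx m hm s hxs
    obtain ⟨s', hs'⟩ := Frame.transfer_pow hL (Frame.pow L m) ((Frame.pow L p).powOf m) p hp
      (Nat.mul_comm p m) s
    exact hx m hm s' (by rw [hs']; exact hxs)
  · intro hx m hm s hxs
    obtain ⟨s', hs'⟩ := Frame.transfer_pow hL ((Frame.pow L p).powOf m) (Frame.pow L (p * m)) 1
      Nat.one_pos (Nat.mul_one _).symm s
    exact hx (p * m) (Nat.mul_pos hp hm) s' (by rw [hs']; exact hxs)

theorem noeth (X : Scheme.{0}) [X.Over (Spec (CommRingCat.of ℂ))]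
    [IsProper (X ↘ Spec (CommRingCat.of ℂ))] (H : X.Modules) (hH : CohB1.IsAmple H) :
    NoetherianSpace X := by
  haveI : CompactSpace X := hH.2.1
  haveI : IsNoetherianRing (CommRingCat.of ℂ) := inferInstanceAs (IsNoetherianRing ℂ)
  haveI : IsLocallyNoetherian X :=
    LocallyOfFiniteType.isLocallyNoetherian (X ↘ Spec (CommRingCat.of ℂ))
  haveI : IsNoetherian X := {}
  infer_instance

theorem S17580_main (X : Scheme.{0}) [X.Over (Spec (CommRingCat.of ℂ))] [IsIntegral X]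
    [IsProper (X ↘ Spec (CommRingCat.of ℂ))] (H : X.Modules) (hH : CohB1.IsAmple H)
    (L : X.Modules) (hL : PicF.IsInvertible L) :
    ∃ n₀ : ℕ, 0 < n₀ ∧ ∀ k : ℕ, 0 < k →
      {x : X | ∀ m : ℕ, 0 < m → ∀ s : Coh.structureModule X ⟶ CohB1.tensorPow L m, x ∉ CohB1.genLocus (CohB1.tensorPow L m) s} =
        {x : X | ∀ s : Coh.structureModule X ⟶ CohB1.tensorPow L (k * n₀), x ∉ CohB1.genLocus (CohB1.tensorPow L (k * n₀)) s} := by
  haveI := noeth X H hH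
  exact stable_eq hL

theorem S17581_main (X : Scheme.{0}) [X.Over (Spec (CommRingCat.of ℂ))] [IsIntegral X]
    [IsProper (X ↘ Spec (CommRingCat.of ℂ))] (H : X.Modules) (hH : CohB1.IsAmple H)
    (L : X.Modules) (hL : PicF.IsInvertible L) :
    (∃ m : ℕ, 0 < m ∧ {x : X | ∀ s : Coh.structureModule X ⟶ CohB1.tensorPow L m, x ∉ CohB1.genLocus (CohB1.tensorPow L m) s} = {x : X | ∀ m : ℕ, 0 < m → ∀ s : Coh.structureModule X ⟶ CohB1.tensorPow L m, x ∉ CohB1.genLocus (CohB1.tensorPow L m) s}) ∧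
    ∀ m : ℕ, 0 < m →
      ((∀ m' : ℕ, 0 < m' →
          {x : X | ∀ s : Coh.structureModule X ⟶ CohB1.tensorPow L m', x ∉ CohB1.genLocus (CohB1.tensorPow L m') s} ⊆ {x : X | ∀ s : Coh.structureModule X ⟶ CohB1.tensorPow L m, x ∉ CohB1.genLocus (CohB1.tensorPow L m) s} →
          {x : X | ∀ s : Coh.structureModule X ⟶ CohB1.tensorPow L m', x ∉ CohB1.genLocus (CohB1.tensorPow L m') s} = {x : X | ∀ s : Coh.structureModule X ⟶ CohB1.tensorPow L m, x ∉ CohB1.genLocus (CohB1.tensorPow L m) s}) ↔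
        {x : X | ∀ s : Coh.structureModule X ⟶ CohB1.tensorPow L m, x ∉ CohB1.genLocus (CohB1.tensorPow L m) s} = {x : X | ∀ m : ℕ, 0 < m → ∀ s : Coh.structureModule X ⟶ CohB1.tensorPow L m, x ∉ CohB1.genLocus (CohB1.tensorPow L m) s}) := by
  haveI := noeth X H hH
  exact minimal_iff hL

end Groth.Agent.Lib.StableBsH4
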