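import Mathlib
import Groth.Agent.Lib.ProjLift_helper9

/-!
# Lifting stably free modules modulo an ideal in the Jacobson radical (helper9)
-/

set_option autoImplicit false
universe u

open TensorProduct

namespace Groth.Agent.Lib.StablyFreeLift

variable {R : Type u} [CommRing R] (I : Ideal R)

lemma exists_baseChange_eq (F G : Type*) [AddCommGroup F] [Module R F] [AddCommGroup G]
    [Module R G] [Module.Projective R F]
    (π' : (R ⧸ I) ⊗[R] F →ₗ[R ⧸ I] (R ⧸ I) ⊗[R] G) :
    ∃ π : F →ₗ[R] G, π.baseChange (R ⧸ I) = π' := by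
  obtain ⟨p, hp⟩ := Module.projective_lifting_property (TensorProduct.mk R (R ⧸ I) G 1)
    ((π'.restrictScalars R) ∘ₗ TensorProduct.mk R (R ⧸ I) F 1)
    (Groth.Agent.Lib.ProjLift.mk_one_surjective I G)
  refine ⟨p, ?_⟩
  apply TensorProduct.AlgebraTensorModule.ext
  intro a x
  have h1 := LinearMap.congr_fun hp x
  simp only [LinearMap.comp_apply, TensorProduct.mk_apply, LinearMap.restrictScalars_apply] at h1
  rw [LinearMap.baseChange_tmul]
  have : a ⊗ₜ[R] p x = a • ((1 : R ⧸ I) ⊗ₜ[R] p x) := by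
    rw [TensorProduct.smul_tmul', smul_eq_mul, mul_one]
  rw [this, h1, ← map_smul, TensorProduct.smul_tmul', smul_eq_mul, mul_one]

theorem surjective_of_baseChange_surjective (hI : I ≤ Ideal.jacobson ⊥) (F G : Type*)
    [AddCommGroup F] [Module R F] [AddCommGroup G] [Module R G] [Module.Finite R G]
    (π : F →ₗ[R] G) (h : Function.Surjective (π.baseChange (R ⧸ I))) :
    Function.Surjective π := by
  rw [← LinearMap.range_eq_top, eq_top_iff]
  apply Submodule.le_of_le_smul_of_le_jacobson_bot Module.Finite.fg_top hI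
  intro g _
  obtain ⟨z, hz⟩ := h ((1 : R ⧸ I) ⊗ₜ[R] g)
  obtain ⟨x, rfl⟩ := Groth.Agent.Lib.ProjLift.mk_one_surjective I F z
  have h1 : (1 : R ⧸ I) ⊗ₜ[R] (g - π x) = 0 := by
    rw [TensorProduct.tmul_sub, ← hz]
    simp
  rw [Groth.Agent.Lib.ProjLift.one_tmul_eq_zero_iff] at h1
  exact Submodule.mem_sup.mpr ⟨π x, ⟨x, rfl⟩, g - π x, h1, by abel⟩

section split

variable {F G : Type*} [AddCommGroup F] [Module R F] [AddCommGroup G] [Module R G]
  (π : F →ₗ[R] G) (s : G →ₗ[R] F) (hs : π ∘ₗ s = LinearMap.id)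

/-- The retraction `F → ker π` attached to a section `s` of `π`. -/
noncomputable def retr : F →ₗ[R] LinearMap.ker π :=
  (LinearMap.id - s ∘ₗ π).codRestrict (LinearMap.ker π) (fun x => by
    have h1 : π (s (π x)) = π x := LinearMap.congr_fun hs (π x)
    simp [LinearMap.mem_ker, h1])

include hs in
lemma retr_apply_coe (x : F) : (retr π s hs x : F) = x - s (π x) := rfl

lemma retr_subtype (k : LinearMap.ker π) : retr π s hs ((LinearMap.ker π).subtype k) = k := by
  apply Subtype.ext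
  rw [retr_apply_coe]
  have : π (k : F) = 0 := k.2
  simp [this]

/-- `F ≃ ker π × G` for a split surjection. -/
noncomputable def splitEquiv : F ≃ₗ[R] (LinearMap.ker π × G) :=
  LinearEquiv.ofLinearMap ((retr π s hs).prod π) ((LinearMap.ker π).subtype.coprod s)
    (by
      apply LinearMap.ext
      rintro ⟨k, g⟩
      have h1 : π (s g) = g := LinearMap.congr_fun hs g
      have h2 : π (k : F) = 0 := k.2
      apply Prod.ext
      · apply Subtype.ext
        simp [retr_apply_coe, h1, h2]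
      · simp [h1, h2])
    (by
      apply LinearMap.ext
      intro x
      simp [retr_apply_coe])

end split

theorem nonempty_ker_tensor_equiv {F G : Type*} [AddCommGroup F] [Module R F] [AddCommGroup G]
    [Module R G] [Module.Projective R G] (π : F →ₗ[R] G) (hπ : Function.Surjective π)
    {E N' : Type*} [AddCommGroup E] [Module (R ⧸ I) E] [AddCommGroup N'] [Module (R ⧸ I) N']
    (ΦF : (R ⧸ I) ⊗[R] F ≃ₗ[R ⧸ I] E × N') (ΦG : (R ⧸ I) ⊗[R] G ≃ₗ[R ⧸ I] N')
    (hcomm : ∀ z, ΦG (π.baseChange (R ⧸ I) z) = (ΦF z).2) :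
    Nonempty ((R ⧸ I) ⊗[R] (LinearMap.ker π) ≃ₗ[R ⧸ I] E) := by
  obtain ⟨s, hs⟩ := Module.projective_lifting_property π LinearMap.id hπ
  set incl := (LinearMap.ker π).subtype with hincl
  have hri : retr π s hs ∘ₗ incl = LinearMap.id := LinearMap.ext (retr_subtype π s hs)
  have hinclinj : Function.Injective (incl.baseChange (R ⧸ I)) := by
    apply Function.LeftInverse.injective (g := (retr π s hs).baseChange (R ⧸ I))
    intro z
    rw [← LinearMap.comp_apply, ← LinearMap.baseChange_comp, hri, LinearMap.baseChange_id]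
    rfl
  have hzero : ∀ z, π.baseChange (R ⧸ I) (incl.baseChange (R ⧸ I) z) = 0 := by
    intro z
    rw [← LinearMap.comp_apply, ← LinearMap.baseChange_comp]
    have : π ∘ₗ incl = 0 := by
      apply LinearMap.ext
      intro k
      exact k.2
    rw [this, LinearMap.baseChange_zero]
    rfl
  have hex : Function.Exact (incl.baseChange (R ⧸ I)) (π.baseChange (R ⧸ I)) := by
    rw [LinearMap.baseChange_eq_ltensor, LinearMap.baseChange_eq_ltensor]
    exact lTensor_exact (R ⧸ I) (LinearMap.exact_subtype_ker_map π) hπ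
  let ψ : (R ⧸ I) ⊗[R] (LinearMap.ker π) →ₗ[R ⧸ I] E :=
    (LinearMap.fst (R ⧸ I) E N') ∘ₗ ΦF.toLinearMap ∘ₗ incl.baseChange (R ⧸ I)
  have hψ : ∀ z, ψ z = (ΦF (incl.baseChange (R ⧸ I) z)).1 := fun z => rfl
  have hψinj : Function.Injective ψ := by
    rw [injective_iff_map_eq_zero]
    intro z hz
    apply hinclinj
    rw [map_zero]
    apply ΦF.injective
    rw [map_zero]
    apply Prod.ext
    · rw [← hψ, hz]; rfl
    · rw [← hcomm, hzero, map_zero]; rfl
  have hψsurj : Function.Surjective ψ := by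
    intro e
    have h1 : π.baseChange (R ⧸ I) (ΦF.symm (e, 0)) = 0 := by
      apply ΦG.injective
      rw [hcomm, LinearEquiv.apply_symm_apply, map_zero]
    obtain ⟨z, hz⟩ := (hex _).mp h1
    refine ⟨z, ?_⟩
    rw [hψ, hz, LinearEquiv.apply_symm_apply]
  exact ⟨LinearEquiv.ofBijective ψ ⟨hψinj, hψsurj⟩⟩

theorem exists_lift (hI : I ≤ Ideal.jacobson ⊥) (E : Type u) [AddCommGroup E]
    [Module (R ⧸ I) E] [Module.Finite (R ⧸ I) E] [Module.IsStablyFree (R ⧸ I) E] :
    ∃ (M : Type u) (_ : AddCommGroup M) (_ : Module R M), Module.Finite R M ∧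
      Module.IsStablyFree R M ∧ Nonempty ((R ⧸ I) ⊗[R] M ≃ₗ[R ⧸ I] E) := by
  classical
  obtain ⟨N', _, _, hfin, hfree, hfreeprod⟩ := Module.IsStablyFree.exist_free_prod (R ⧸ I) E
  let ι := Module.Free.ChooseBasisIndex (R ⧸ I) (E × N')
  let κ := Module.Free.ChooseBasisIndex (R ⧸ I) N'
  let bEN : Module.Basis ι (R ⧸ I) (E × N') := Module.Free.chooseBasis (R ⧸ I) (E × N')
  let bN : Module.Basis κ (R ⧸ I) N' := Module.Free.chooseBasis (R ⧸ I) N'
  let ΦF : (R ⧸ I) ⊗[R] (ι → R) ≃ₗ[R ⧸ I] E × N' :=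
    ((Pi.basisFun R ι).baseChange (R ⧸ I)).equiv bEN (Equiv.refl ι)
  let ΦG : (R ⧸ I) ⊗[R] (κ → R) ≃ₗ[R ⧸ I] N' :=
    ((Pi.basisFun R κ).baseChange (R ⧸ I)).equiv bN (Equiv.refl κ)
  let π' : (R ⧸ I) ⊗[R] (ι → R) →ₗ[R ⧸ I] (R ⧸ I) ⊗[R] (κ → R) :=
    ΦG.symm.toLinearMap ∘ₗ (LinearMap.snd (R ⧸ I) E N') ∘ₗ ΦF.toLinearMap
  obtain ⟨π, hπ⟩ := exists_baseChange_eq I (ι → R) (κ → R) π'
  have hπ'surj : Function.Surjective π' := by
    intro y
    refine ⟨ΦF.symm (0, ΦG y), ?_⟩
    simp [π']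
  have hπsurj : Function.Surjective π :=
    surjective_of_baseChange_surjective I hI _ _ π (hπ ▸ hπ'surj)
  have hcomm : ∀ z, ΦG (π.baseChange (R ⧸ I) z) = (ΦF z).2 := by
    intro z
    rw [hπ]
    simp [π']
  obtain ⟨eq⟩ := nonempty_ker_tensor_equiv I π hπsurj ΦF ΦG hcomm
  obtain ⟨s, hs⟩ := Module.projective_lifting_property π LinearMap.id hπsurj
  have e := splitEquiv π s hs
  haveI : Module.Free R (LinearMap.ker π × (κ → R)) := Module.Free.of_equiv e
  refine ⟨LinearMap.ker π, inferInstance, inferInstance, ?_, ?_, ⟨eq⟩⟩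
  · exact Module.Finite.of_surjective (retr π s hs) (fun k => ⟨k, retr_subtype π s hs k⟩)
  · exact Module.IsStablyFree.of_free_prod R (LinearMap.ker π) (κ → R)

end Groth.Agent.Lib.StablyFreeLift
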