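import Mathlib

/-!
# Rationality of `exp(Σ F(q^v) t^v / v)` forces `F` to be a Laurent polynomial (S14193)
-/

namespace Groth.Agent.Lib.StackCountRat

open Polynomial

/-- the ring hom `ℤ[X] → ℚ(X)` -/
noncomputable def ι : ℤ[X] →+* RatFunc ℚ :=
  (algebraMap ℚ[X] (RatFunc ℚ)).comp (mapRingHom (Int.castRingHom ℚ))

lemma ι_apply (A : ℤ[X]) :
    ι A = algebraMap ℚ[X] (RatFunc ℚ) (A.map (Int.castRingHom ℚ)) := rfl

lemma ι_X : ι X = RatFunc.X := by
  rw [ι_apply, Polynomial.map_X, RatFunc.algebraMap_X]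

lemma ι_injective : Function.Injective ι := by
  intro a b h
  rw [ι_apply, ι_apply] at h
  exact Polynomial.map_injective _ Int.cast_injective (RatFunc.algebraMap_injective ℚ h)

/-- normal form -/
def NF (F : RatFunc ℚ) : Prop :=
  ∃ (A : ℤ[X]) (a N r : ℕ), 0 < N ∧
    F * RatFunc.X ^ a * ((RatFunc.X : RatFunc ℚ) ^ N - 1) ^ r = ι A

lemma nf_mono {F : RatFunc ℚ} {A : ℤ[X]} {a N r : ℕ}
    (h : F * RatFunc.X ^ a * ((RatFunc.X : RatFunc ℚ) ^ N - 1) ^ r = ι A)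
    {a' N' r' : ℕ} (ha : a ≤ a') (hN : N ∣ N') (hr : r ≤ r') :
    ∃ A' : ℤ[X], F * RatFunc.X ^ a' * ((RatFunc.X : RatFunc ℚ) ^ N' - 1) ^ r' = ι A' := by
  obtain ⟨k, rfl⟩ := hN
  obtain ⟨b, rfl⟩ := Nat.exists_eq_add_of_le ha
  obtain ⟨s, rfl⟩ := Nat.exists_eq_add_of_le hr
  set M : ℤ[X] := ∑ i ∈ Finset.range k, (X ^ N) ^ i with hMdef
  have hM : (X ^ (N * k) - 1 : ℤ[X]) = (X ^ N - 1) * M := by
    rw [pow_mul, hMdef, mul_geom_sum]
  have hM' : ((RatFunc.X : RatFunc ℚ) ^ (N * k) - 1) = (RatFunc.X ^ N - 1) * ι M := by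
    have := congrArg ι hM
    simpa only [map_sub, map_mul, map_pow, ι_X, map_one] using this
  refine ⟨A * X ^ b * (X ^ N - 1) ^ s * M ^ (r + s), ?_⟩
  rw [hM', mul_pow, map_mul, map_mul, map_mul, ← h]
  simp only [map_pow, map_sub, ι_X, map_one]
  ring

lemma nf_of_mem_closure {F : RatFunc ℚ}
    (hF : F ∈ Subring.closure
      (({RatFunc.X, (RatFunc.X : RatFunc ℚ)⁻¹} : Set (RatFunc ℚ)) ∪
        Set.range fun n : ℕ => ((RatFunc.X : RatFunc ℚ) ^ (n + 1) - 1)⁻¹)) : NF F := by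
  have hX0 : (RatFunc.X : RatFunc ℚ) ≠ 0 := RatFunc.X_ne_zero
  induction hF using Subring.closure_induction with
  | mem x hx =>
    rcases hx with hx | ⟨n, rfl⟩
    · rcases hx with rfl | hx
      · exact ⟨X, 0, 1, 0, Nat.one_pos, by simp [ι_X]⟩
      · rw [Set.mem_singleton_iff] at hx
        subst hx
        exact ⟨1, 1, 1, 0, Nat.one_pos, by simp [hX0]⟩
    · refine ⟨1, 0, n + 1, 1, Nat.succ_pos _, ?_⟩
      have hne : ((RatFunc.X : RatFunc ℚ) ^ (n + 1) - 1) ≠ 0 := by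
        intro h0
        have h1 : ι (X ^ (n + 1) - 1) = 0 := by
          simpa only [map_sub, map_pow, ι_X, map_one] using h0
        have h2 : (X ^ (n + 1) - 1 : ℤ[X]) = 0 := ι_injective (by rw [h1, map_zero])
        have h3 : (X ^ (n + 1) - C 1 : ℤ[X]).Monic := monic_X_pow_sub_C 1 (Nat.succ_ne_zero n)
        rw [C_1, h2] at h3
        exact Polynomial.not_monic_zero h3
      simp [hne]
  | zero => exact ⟨0, 0, 1, 0, Nat.one_pos, by simp⟩
  | one => exact ⟨1, 0, 1, 0, Nat.one_pos, by simp⟩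
  | add x y _ _ hx hy =>
    obtain ⟨A₁, a₁, N₁, r₁, hN₁, h₁⟩ := hx
    obtain ⟨A₂, a₂, N₂, r₂, hN₂, h₂⟩ := hy
    obtain ⟨B₁, e₁⟩ := nf_mono h₁ (a' := a₁ + a₂) (N' := N₁ * N₂) (r' := r₁ + r₂)
      (Nat.le_add_right _ _) (dvd_mul_right _ _) (Nat.le_add_right _ _)
    obtain ⟨B₂, e₂⟩ := nf_mono h₂ (a' := a₁ + a₂) (N' := N₁ * N₂) (r' := r₁ + r₂)
      (Nat.le_add_left _ _) (dvd_mul_left _ _) (Nat.le_add_left _ _)
    refine ⟨B₁ + B₂, a₁ + a₂, N₁ * N₂, r₁ + r₂, Nat.mul_pos hN₁ hN₂, ?_⟩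
    rw [map_add, ← e₁, ← e₂]
    ring
  | neg x _ hx =>
    obtain ⟨A₁, a₁, N₁, r₁, hN₁, h₁⟩ := hx
    refine ⟨-A₁, a₁, N₁, r₁, hN₁, ?_⟩
    rw [map_neg, ← h₁]
    ring
  | mul x y _ _ hx hy =>
    obtain ⟨A₁, a₁, N₁, r₁, hN₁, h₁⟩ := hx
    obtain ⟨A₂, a₂, N₂, r₂, hN₂, h₂⟩ := hy
    obtain ⟨B₁, e₁⟩ := nf_mono h₁ (a' := a₁ + a₂) (N' := N₁ * N₂) (r' := r₁ + r₂)
      (Nat.le_add_right _ _) (dvd_mul_right _ _) (Nat.le_add_right _ _)
    obtain ⟨B₂, e₂⟩ := nf_mono h₂ (a' := a₁ + a₂) (N' := N₁ * N₂) (r' := r₁ + r₂)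
      (Nat.le_add_left _ _) (dvd_mul_left _ _) (Nat.le_add_left _ _)
    refine ⟨B₁ * B₂, (a₁ + a₂) + (a₁ + a₂), N₁ * N₂, (r₁ + r₂) + (r₁ + r₂),
      Nat.mul_pos hN₁ hN₂, ?_⟩
    rw [map_mul, ← e₁, ← e₂]
    ring

/-- evaluation of a rational function given as a fraction with non-vanishing denominator. -/
lemma eval_of_eq (F : RatFunc ℚ) (A B : ℚ[X])
    (h : F * algebraMap ℚ[X] (RatFunc ℚ) B = algebraMap ℚ[X] (RatFunc ℚ) A) (x : ℚ)
    (hx : B.eval x ≠ 0) :
    F.eval (RingHom.id ℚ) x = A.eval x / B.eval x := by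
  have hB : B ≠ 0 := by
    rintro rfl
    simp at hx
  have hB' : algebraMap ℚ[X] (RatFunc ℚ) B ≠ 0 := by
    intro h0
    exact hB (RatFunc.algebraMap_injective ℚ (by rw [h0, map_zero]))
  have hF : F = algebraMap ℚ[X] (RatFunc ℚ) A / algebraMap ℚ[X] (RatFunc ℚ) B := by
    rw [eq_div_iff hB', h]
  have hdvd : F.denom ∣ B := by
    exact (RatFunc.denom_dvd hB).mpr ⟨A, hF⟩
  have hden : F.denom.eval x ≠ 0 := by
    intro h0
    exact hx (Polynomial.eval_eq_zero_of_dvd_of_eval_eq_zero hdvd h0)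
  have hd' : algebraMap ℚ[X] (RatFunc ℚ) F.denom ≠ 0 := by
    intro h0
    exact RatFunc.denom_ne_zero F (RatFunc.algebraMap_injective ℚ (by rw [h0, map_zero]))
  have hcross : F.num * B = A * F.denom := by
    apply RatFunc.algebraMap_injective ℚ
    have hF2 : F * algebraMap ℚ[X] (RatFunc ℚ) F.denom = algebraMap ℚ[X] (RatFunc ℚ) F.num := by
      have := RatFunc.num_div_denom F
      rw [div_eq_iff hd'] at this
      exact this.symm
    rw [map_mul, map_mul, ← h, ← hF2]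
    ring
  have hc := congrArg (Polynomial.eval x) hcross
  rw [Polynomial.eval_mul, Polynomial.eval_mul] at hc
  unfold RatFunc.eval
  rw [Polynomial.eval₂_id, Polynomial.eval₂_id, div_eq_div_iff hden hx]
  exact hc

section poly

variable (q : ℚ)

/-- the scaling polynomial `X / q^j` -/
noncomputable def T (j : ℕ) : ℚ[X] := C ((q ^ j)⁻¹) * X

lemma comp_T_dvd {q : ℚ} (hq : q ≠ 0) (j : ℕ) {P R : ℚ[X]} (h : P.comp (T q j) ∣ R.comp (T q j)) :
    P ∣ R := by
  obtain ⟨k, hk⟩ := h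
  have hcc : (T q j).comp (C (q ^ j) * X) = X := by
    unfold T
    rw [mul_comp, C_comp, X_comp, ← mul_assoc, ← C_mul, inv_mul_cancel₀ (pow_ne_zero _ hq), C_1,
      one_mul]
  refine ⟨k.comp (C (q ^ j) * X), ?_⟩
  have h1 := congrArg (fun p => p.comp (C (q ^ j) * X)) hk
  simp only [mul_comp, comp_assoc, hcc, comp_X] at h1
  exact h1

lemma isCoprime_scaled {q : ℚ} (hq : 1 < q) {N : ℕ} (hN : 0 < N) (r : ℕ) {i j : ℕ} (hij : i ≠ j) :
    IsCoprime (((X ^ N - 1) ^ r : ℚ[X]).comp (T q i)) (((X ^ N - 1) ^ r : ℚ[X]).comp (T q j)) := by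
  have hq0 : q ≠ 0 := by linarith
  simp only [pow_comp, sub_comp, X_comp, one_comp]
  apply IsCoprime.pow
  set si : ℚ := ((q ^ i)⁻¹) ^ N with hsi
  set sj : ℚ := ((q ^ j)⁻¹) ^ N with hsj
  have hne : si ≠ sj := by
    rw [hsi, hsj, ← inv_pow, ← inv_pow, ← pow_mul, ← pow_mul]
    intro h
    have h3 := pow_right_injective₀ (inv_pos.mpr (by linarith : (0:ℚ) < q))
      (inv_ne_one.mpr (by linarith : q ≠ 1)) h
    exact hij (Nat.eq_of_mul_eq_mul_right hN h3)
  have hd : si - sj ≠ 0 := sub_ne_zero.mpr hne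
  have e1 : (T q i) ^ N = C si * X ^ N := by
    unfold T
    rw [mul_pow, ← C_pow]
  have e2 : (T q j) ^ N = C sj * X ^ N := by
    unfold T
    rw [mul_pow, ← C_pow]
  rw [e1, e2]
  refine ⟨C (sj / (si - sj)), C (-(si / (si - sj))), ?_⟩
  have : C (sj / (si - sj)) * (C si * X ^ N - 1) + C (-(si / (si - sj))) * (C sj * X ^ N - 1)
      = C ((sj / (si - sj)) * si + (-(si / (si - sj))) * sj) * X ^ N
        + C (-(sj / (si - sj)) + (si / (si - sj))) := by
    simp only [C_add, C_mul, C_neg]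
    ring
  rw [this]
  have h1 : (sj / (si - sj)) * si + (-(si / (si - sj))) * sj = 0 := by
    field_simp
    ring
  have h2 : -(sj / (si - sj)) + (si / (si - sj)) = 1 := by
    field_simp
    ring
  rw [h1, h2, C_0, zero_mul, zero_add, C_1]

theorem dvd_of_recurrence {q : ℚ} (hq : 1 < q) (A : ℚ[X]) (a N r : ℕ) (hN : 0 < N)
    (u : ℕ → ℚ)
    (hu : ∀ v, 1 ≤ v → u v = A.eval (q ^ v) / ((q ^ v) ^ a * ((q ^ v) ^ N - 1) ^ r))
    (W : ℚ[X]) (hW : W ≠ 0) (n0 : ℕ)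
    (hrec : ∀ n, n0 ≤ n →
      ∑ j ∈ Finset.range (W.natDegree + 1), W.coeff j * u (n + 1 - j) = 0) :
    ((X ^ N - 1) ^ r : ℚ[X]) ∣ A := by
  classical
  have hq0 : q ≠ 0 := by linarith
  have hqpos : (0 : ℚ) < q := by linarith
  set d := W.natDegree with hd
  set Dq : ℚ[X] := (X ^ N - 1) ^ r with hDq
  set s := Finset.range (d + 1) with hs
  set E : ℚ[X] := ∑ j ∈ s, C (W.coeff j * q ^ (a * j)) * A.comp (T q j) *
    ∏ i ∈ s.erase j, Dq.comp (T q i) with hE
  -- E vanishes at q^(n+1) for n large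
  have hEroot : ∀ n, max n0 d ≤ n → E.eval (q ^ (n + 1)) = 0 := by
    intro n hn
    have hn0 : n0 ≤ n := le_trans (le_max_left _ _) hn
    have hnd : d ≤ n := le_trans (le_max_right _ _) hn
    have hT : ∀ j ∈ s, (T q j).eval (q ^ (n + 1)) = q ^ (n + 1 - j) := by
      intro j hj
      have hj' : j ≤ n + 1 := by
        have := Finset.mem_range.mp hj
        omega
      unfold T
      rw [eval_mul, eval_C, eval_X, pow_sub₀ q hq0 hj', mul_comm]
    have hDv : ∀ j ∈ s, ((q ^ (n + 1 - j)) ^ N - 1) ^ r ≠ 0 := by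
      intro j hj
      have hj' : j < d + 1 := Finset.mem_range.mp hj
      apply pow_ne_zero
      have h1 : 1 < (q ^ (n + 1 - j)) ^ N := by
        rw [← pow_mul]
        apply one_lt_pow₀ hq
        have : 0 < (n + 1 - j) := by omega
        exact (Nat.mul_pos this hN).ne'
      linarith
    have hDe : ∀ i ∈ s, (Dq.comp (T q i)).eval (q ^ (n + 1)) = ((q ^ (n + 1 - i)) ^ N - 1) ^ r := by
      intro i hi
      rw [eval_comp, hT i hi, hDq]
      simp
    rw [hE, eval_finset_sum]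
    have hterm : ∀ j ∈ s, (C (W.coeff j * q ^ (a * j)) * A.comp (T q j) *
        ∏ i ∈ s.erase j, Dq.comp (T q i)).eval (q ^ (n + 1))
        = (W.coeff j * u (n + 1 - j)) *
          ((q ^ (n + 1)) ^ a * ∏ i ∈ s, ((q ^ (n + 1 - i)) ^ N - 1) ^ r) := by
      intro j hj
      have hj' : j < d + 1 := Finset.mem_range.mp hj
      rw [eval_mul, eval_mul, eval_C, eval_comp, hT j hj, eval_prod]
      rw [Finset.prod_congr rfl (fun i hi => hDe i (Finset.mem_of_mem_erase hi))]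
      rw [hu (n + 1 - j) (by omega), ← Finset.mul_prod_erase s _ hj]
      have hy : (q ^ (n + 1 - j)) ^ a ≠ 0 := pow_ne_zero _ (pow_ne_zero _ hq0)
      have hqq : q ^ (a * j) * (q ^ (n + 1 - j)) ^ a = (q ^ (n + 1)) ^ a := by
        rw [← pow_mul, ← pow_mul, ← pow_add]
        congr 1
        have : j ≤ n + 1 := by omega
        rw [mul_comm a j, ← Nat.add_mul, Nat.add_sub_cancel' this]
      have hDj := hDv j hj
      rw [← hqq]
      field_simp
    rw [Finset.sum_congr rfl hterm, ← Finset.sum_mul, hrec n hn0, zero_mul]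
  have hE0 : E = 0 := by
    apply Polynomial.eq_zero_of_infinite_isRoot
    apply Set.infinite_of_injective_forall_mem (f := fun n : ℕ => q ^ (n + max n0 d + 1))
    · intro x y hxy
      have := pow_right_injective₀ hqpos (by linarith : q ≠ 1) hxy
      omega
    · intro n
      exact hEroot _ (Nat.le_add_left _ _)
  -- divisibility
  have hds : d ∈ s := Finset.mem_range.mpr (Nat.lt_succ_self d)
  have hWd : W.coeff d ≠ 0 := by
    rw [hd]
    exact Polynomial.leadingCoeff_ne_zero.mpr hW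
  have hsplit := Finset.add_sum_erase s (fun j => C (W.coeff j * q ^ (a * j)) * A.comp (T q j) *
    ∏ i ∈ s.erase j, Dq.comp (T q i)) hds
  rw [← hE, hE0] at hsplit
  have hdvd_rest : Dq.comp (T q d) ∣ ∑ j ∈ s.erase d, C (W.coeff j * q ^ (a * j)) *
      A.comp (T q j) * ∏ i ∈ s.erase j, Dq.comp (T q i) := by
    apply Finset.dvd_sum
    intro j hj
    apply Dvd.dvd.mul_left
    exact Finset.dvd_prod_of_mem (fun i => Dq.comp (T q i))
      (Finset.mem_erase.mpr ⟨(Finset.ne_of_mem_erase hj).symm, hds⟩)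
  have hdvd_d : Dq.comp (T q d) ∣ C (W.coeff d * q ^ (a * d)) * A.comp (T q d) *
      ∏ i ∈ s.erase d, Dq.comp (T q i) := by
    have : C (W.coeff d * q ^ (a * d)) * A.comp (T q d) * ∏ i ∈ s.erase d, Dq.comp (T q i)
        = -∑ j ∈ s.erase d, C (W.coeff j * q ^ (a * j)) *
            A.comp (T q j) * ∏ i ∈ s.erase j, Dq.comp (T q i) := by
      exact eq_neg_of_add_eq_zero_left hsplit
    rw [this]
    exact (dvd_neg).mpr hdvd_rest
  have hcop : IsCoprime (Dq.comp (T q d)) (∏ i ∈ s.erase d, Dq.comp (T q i)) := by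
    apply IsCoprime.prod_right
    intro i hi
    exact isCoprime_scaled hq hN r (Finset.ne_of_mem_erase hi).symm
  have h1 : Dq.comp (T q d) ∣ C (W.coeff d * q ^ (a * d)) * A.comp (T q d) :=
    hcop.dvd_of_dvd_mul_right hdvd_d
  have hunit : IsUnit (C (W.coeff d * q ^ (a * d)) : ℚ[X]) :=
    Polynomial.isUnit_C.mpr (IsUnit.mk0 _ (mul_ne_zero hWd (pow_ne_zero _ hq0)))
  have h2 : Dq.comp (T q d) ∣ A.comp (T q d) := (hunit.dvd_mul_left).mp h1
  exact comp_T_dvd hq0 d h2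

end poly

section series

open PowerSeries

theorem rec_of_rational (u : ℕ → ℚ) (P Q : ℚ[X]) (hQ : Q ≠ 0)
    (h : (PowerSeries.exp ℚ).subst
        (PowerSeries.mk fun v : ℕ => if v = 0 then (0 : ℚ) else u v / (v : ℚ))
        * (Q : PowerSeries ℚ) = (P : PowerSeries ℚ)) :
    ∃ W : ℚ[X], W ≠ 0 ∧ ∃ n0 : ℕ, ∀ n, n0 ≤ n →
      ∑ j ∈ Finset.range (W.natDegree + 1), W.coeff j * u (n + 1 - j) = 0 := by
  set G : PowerSeries ℚ := PowerSeries.mk fun v : ℕ => if v = 0 then (0 : ℚ) else u v / (v : ℚ)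
    with hG
  set Z : PowerSeries ℚ := (PowerSeries.exp ℚ).subst G with hZ
  have hG0 : PowerSeries.constantCoeff G = 0 := by
    rw [← PowerSeries.coeff_zero_eq_constantCoeff_apply, hG, PowerSeries.coeff_mk]
    simp
  have hs : PowerSeries.HasSubst G := PowerSeries.HasSubst.of_constantCoeff_zero' hG0
  have hZ' : d⁄dX ℚ Z = Z * d⁄dX ℚ G := by
    rw [hZ, PowerSeries.derivative_subst hs, PowerSeries.derivative_exp]
  have hZ1 : PowerSeries.constantCoeff Z = 1 := by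
    have := PowerSeries.constantCoeff_subst hs (PowerSeries.exp ℚ)
    rw [hZ]
    erw [this]
    rw [finsum_eq_single _ 0]
    · simp
    · intro d hd
      have : MvPowerSeries.constantCoeff (G ^ d) = 0 := by
        rw [map_pow]
        have : MvPowerSeries.constantCoeff G = 0 := hG0
        rw [this, zero_pow hd]
      rw [this, smul_zero]
  have hZne : Z ≠ 0 := by
    intro h0
    rw [h0] at hZ1
    simp at hZ1
  have hQs : (Q : PowerSeries ℚ) ≠ 0 := by
    intro h0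
    exact hQ (Polynomial.coe_injective ℚ (by rw [h0, Polynomial.coe_zero]))
  have hPne : P ≠ 0 := by
    rintro rfl
    rw [Polynomial.coe_zero] at h
    rcases mul_eq_zero.mp h with h1 | h1
    · exact hZne h1
    · exact hQs h1
  -- derivative of the relation
  have e1 : Z * d⁄dX ℚ G * (Q : PowerSeries ℚ) + Z * ((Polynomial.derivative Q : ℚ[X]) : PowerSeries ℚ)
      = ((Polynomial.derivative P : ℚ[X]) : PowerSeries ℚ) := by
    have := congrArg (d⁄dX ℚ) h
    rw [Derivation.leibniz, PowerSeries.derivative_coe, PowerSeries.derivative_coe, hZ',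
      smul_eq_mul, smul_eq_mul] at this
    rw [← this]
    ring
  set W : ℚ[X] := P * Q with hWdef
  set Nn : ℚ[X] := Polynomial.derivative P * Q - P * Polynomial.derivative Q with hNn
  have key : (W : PowerSeries ℚ) * d⁄dX ℚ G = (Nn : PowerSeries ℚ) := by
    rw [hWdef, hNn, Polynomial.coe_mul, Polynomial.coe_sub, Polynomial.coe_mul, Polynomial.coe_mul]
    linear_combination (Q : PowerSeries ℚ) * e1
      - (d⁄dX ℚ G * (Q : PowerSeries ℚ) + ((Polynomial.derivative Q : ℚ[X]) : PowerSeries ℚ)) * h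
  have hcoeffG : ∀ m : ℕ, PowerSeries.coeff m (d⁄dX ℚ G) = u (m + 1) := by
    intro m
    rw [PowerSeries.coeff_derivative, hG, PowerSeries.coeff_mk, if_neg (Nat.succ_ne_zero m)]
    have : ((m + 1 : ℕ) : ℚ) ≠ 0 := Nat.cast_ne_zero.mpr (Nat.succ_ne_zero m)
    push_cast at this ⊢
    field_simp
  refine ⟨W, mul_ne_zero hPne hQ, max (Nn.natDegree + 1) W.natDegree, ?_⟩
  intro n hn
  have hn1 : Nn.natDegree < n := by
    have := le_trans (le_max_left _ _) hn
    omega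
  have hn2 : W.natDegree ≤ n := le_trans (le_max_right _ _) hn
  have hc := congrArg (PowerSeries.coeff n) key
  rw [Polynomial.coeff_coe, Polynomial.coeff_eq_zero_of_natDegree_lt hn1, PowerSeries.coeff_mul,
    Finset.Nat.sum_antidiagonal_eq_sum_range_succ_mk] at hc
  simp only [Polynomial.coeff_coe, hcoeffG] at hc
  rw [← hc]
  have hsub : Finset.range (W.natDegree + 1) ⊆ Finset.range n.succ := by
    intro x hx
    rw [Finset.mem_range] at hx ⊢
    omega
  rw [← Finset.sum_subset hsub]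
  · apply Finset.sum_congr rfl
    intro j hj
    rw [Finset.mem_range] at hj
    have : n - j + 1 = n + 1 - j := by omega
    rw [this]
  · intro x hx hx'
    rw [Finset.mem_range] at hx hx'
    rw [Polynomial.coeff_eq_zero_of_natDegree_lt (by omega), zero_mul]
end series

theorem main (q : ℤ) (hq : 1 < q) (F : RatFunc ℚ)
    (hF : F ∈ Subring.closure
      (({RatFunc.X, (RatFunc.X : RatFunc ℚ)⁻¹} : Set (RatFunc ℚ)) ∪
        Set.range fun n : ℕ => ((RatFunc.X : RatFunc ℚ) ^ (n + 1) - 1)⁻¹))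
    (hrat : ∃ P Q : Polynomial ℚ, Q ≠ 0 ∧
      (PowerSeries.exp ℚ).subst
          (PowerSeries.mk fun v : ℕ => if v = 0 then (0 : ℚ)
            else F.eval (RingHom.id ℚ) ((q : ℚ) ^ v) / (v : ℚ))
        * (Q : PowerSeries ℚ) = (P : PowerSeries ℚ)) :
    ∃ (P : Polynomial ℤ) (a : ℕ),
      F * RatFunc.X ^ a = algebraMap (Polynomial ℚ) (RatFunc ℚ) (P.map (Int.castRingHom ℚ)) := by
  obtain ⟨A, a, N, r, hN, hFA⟩ := nf_of_mem_closure hF
  obtain ⟨P, Q, hQ, hPQ⟩ := hrat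
  have hq' : (1 : ℚ) < (q : ℚ) := by exact_mod_cast hq
  have hq0 : (q : ℚ) ≠ 0 := by linarith
  set Aq : ℚ[X] := A.map (Int.castRingHom ℚ) with hAq
  set B : ℚ[X] := X ^ a * (X ^ N - 1) ^ r with hB
  have hFB : F * algebraMap ℚ[X] (RatFunc ℚ) B = algebraMap ℚ[X] (RatFunc ℚ) Aq := by
    rw [hB, map_mul, map_pow, map_pow, map_sub, map_pow, map_one, RatFunc.algebraMap_X,
      ← mul_assoc, hFA, ι_apply]
  have hu : ∀ v, 1 ≤ v → F.eval (RingHom.id ℚ) ((q : ℚ) ^ v)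
      = Aq.eval ((q : ℚ) ^ v) / (((q : ℚ) ^ v) ^ a * (((q : ℚ) ^ v) ^ N - 1) ^ r) := by
    intro v hv
    have hBe : B.eval ((q : ℚ) ^ v) = ((q : ℚ) ^ v) ^ a * (((q : ℚ) ^ v) ^ N - 1) ^ r := by
      rw [hB]
      simp
    have hne : B.eval ((q : ℚ) ^ v) ≠ 0 := by
      rw [hBe]
      apply mul_ne_zero (pow_ne_zero _ (pow_ne_zero _ hq0))
      apply pow_ne_zero
      have h1 : 1 < ((q : ℚ) ^ v) ^ N := by
        rw [← pow_mul]
        apply one_lt_pow₀ hq'
        exact (Nat.mul_pos (by omega) hN).ne'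
      linarith
    rw [eval_of_eq F Aq B hFB _ hne, hBe]
  obtain ⟨W, hW, n0, hrec⟩ := rec_of_rational (fun v => F.eval (RingHom.id ℚ) ((q : ℚ) ^ v)) P Q hQ hPQ
  have hdvd : ((X ^ N - 1) ^ r : ℚ[X]) ∣ Aq :=
    dvd_of_recurrence hq' Aq a N r hN _ hu W hW n0 hrec
  have hmonic : ((X ^ N - 1) ^ r : ℤ[X]).Monic := by
    apply Polynomial.Monic.pow
    have := monic_X_pow_sub_C (1 : ℤ) hN.ne'
    rwa [C_1] at this
  have hmap : ((X ^ N - 1) ^ r : ℤ[X]).map (Int.castRingHom ℚ) = ((X ^ N - 1) ^ r : ℚ[X]) := by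
    simp
  rw [← hmap, hAq, Polynomial.map_dvd_map (Int.castRingHom ℚ) Int.cast_injective hmonic] at hdvd
  obtain ⟨L, hL⟩ := hdvd
  refine ⟨L, a, ?_⟩
  rw [← ι_apply]
  have hD0 : ι ((X ^ N - 1) ^ r) ≠ 0 := by
    intro h0
    exact hmonic.ne_zero (ι_injective (by rw [h0, map_zero]))
  have hD1 : ι ((X ^ N - 1) ^ r) = ((RatFunc.X : RatFunc ℚ) ^ N - 1) ^ r := by
    simp only [map_pow, map_sub, ι_X, map_one]
  rw [hL, map_mul, hD1] at hFA
  rw [hD1] at hD0
  have : (F * RatFunc.X ^ a - ι L) * ((RatFunc.X : RatFunc ℚ) ^ N - 1) ^ r = 0 := by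
    rw [sub_mul, hFA]
    ring
  rcases mul_eq_zero.mp this with h1 | h1
  · exact sub_eq_zero.mp h1
  · exact absurd h1 hD0

end Groth.Agent.Lib.StackCountRat
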