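import Mathlib
import Groth.Prelude.Def_Curv2
import Groth.Agent.Lib.StalkDict2_helper4
import Groth.Agent.Lib.GeomRedSch2_helper4

set_option autoImplicit false
set_option linter.style.haveILetI false
set_option linter.unusedSectionVars false
universe u
open scoped TensorProduct
open CategoryTheory CategoryTheory.Limits AlgebraicGeometry

attribute [local instance] Curv2.stalkAlgebra

namespace Groth.Agent.Lib.StalkDict3H4

open Groth.Agent.Lib.FlatPtBCH4 Groth.Agent.Lib.StalkDictH4 Groth.Agent.Lib.StalkDict2H4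
  Groth.Agent.Lib.GeomRedSch2H4

/-- affine reduced `k`-scheme times a geometrically reduced algebra is reduced -/
theorem affine_pullback_reduced (k : Type u) [Field k] (U : Scheme.{u}) [IsAffine U]
    [IsReduced U] (a : U ⟶ Spec (CommRingCat.of k))
    (A : Type u) [CommRing A] [Algebra k A] [Algebra.IsGeometricallyReduced k A] :
    IsReduced (pullback a (Spec.map (CommRingCat.ofHom (algebraMap k A)))) := by
  obtain ⟨φ, hφ⟩ : ∃ φ : CommRingCat.of k ⟶ Γ(U, ⊤), Spec.map φ = U.isoSpec.inv ≫ a :=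
    ⟨Spec.preimage _, Spec.map_preimage _⟩
  letI : Algebra k Γ(U, ⊤) := φ.hom.toAlgebra
  have ha : Spec.map (CommRingCat.ofHom (algebraMap k Γ(U, ⊤))) = U.isoSpec.inv ≫ a := hφ
  let e1 : pullback a (Spec.map (CommRingCat.ofHom (algebraMap k A))) ≅
      pullback (Spec.map (CommRingCat.ofHom (algebraMap k Γ(U, ⊤))))
        (Spec.map (CommRingCat.ofHom (algebraMap k A))) :=
    asIso (pullback.map a (Spec.map (CommRingCat.ofHom (algebraMap k A)))
      (Spec.map (CommRingCat.ofHom (algebraMap k Γ(U, ⊤))))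
      (Spec.map (CommRingCat.ofHom (algebraMap k A))) U.isoSpec.hom (𝟙 _) (𝟙 _)
      (by rw [ha, Iso.hom_inv_id_assoc, Category.comp_id])
      (by rw [Category.comp_id, Category.id_comp]))
  let e : pullback a (Spec.map (CommRingCat.ofHom (algebraMap k A))) ≅
      Spec (CommRingCat.of (Γ(U, ⊤) ⊗[k] A)) := e1 ≪≫ pullbackSpecIso k Γ(U, ⊤) A
  haveI : _root_.IsReduced (A ⊗[k] Γ(U, ⊤)) :=
    Groth.Agent.Lib.PerfectRed.isReduced_tensor_of_isGeometricallyReduced_of_isReduced k A Γ(U, ⊤)
  haveI : _root_.IsReduced (Γ(U, ⊤) ⊗[k] A) :=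
    isReduced_of_injective (Algebra.TensorProduct.comm k Γ(U, ⊤) A) (AlgEquiv.injective _)
  haveI : IsReduced (Spec (CommRingCat.of (Γ(U, ⊤) ⊗[k] A))) := inferInstance
  exact isReduced_of_isOpenImmersion e.hom

theorem pullback_right_reduced (k : Type u) [Field k] (Y : Scheme.{u})
    (g : Y ⟶ Spec (CommRingCat.of k)) [IsReduced Y]
    (A : Type u) [CommRing A] [Algebra k A] [Algebra.IsGeometricallyReduced k A] :
    IsReduced (pullback g (Spec.map (CommRingCat.ofHom (algebraMap k A)))) :=
  reduced_of_pieces Y g (Spec.map (CommRingCat.ofHom (algebraMap k A)))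
    (fun i => affine_pullback_reduced k _ (Y.affineCover.f i ≫ g) A)

variable (k : Type u) [Field k] (X : Scheme.{u}) [X.Over (Spec (CommRingCat.of k))]

theorem main7604 (Y : Scheme.{u}) [Y.Over (Spec (CommRingCat.of k))] [IsReduced Y]
    (x : ↥X) (hx : Curv2.IsGeomReducedAt k X x)
    (z : ↥(pullback (X ↘ (Spec (CommRingCat.of k))) (Y ↘ (Spec (CommRingCat.of k)))))
    (hz : pullback.fst (X ↘ (Spec (CommRingCat.of k))) (Y ↘ (Spec (CommRingCat.of k))) z = x) :
    _root_.IsReduced ↥((pullback (X ↘ (Spec (CommRingCat.of k)))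
      (Y ↘ (Spec (CommRingCat.of k)))).presheaf.stalk z) := by
  haveI hA : Algebra.IsGeometricallyReduced k (X.presheaf.stalk x) := (main1541 k X x).mp hx
  haveI h1 : IsReduced (pullback (Y ↘ (Spec (CommRingCat.of k)))
      (Spec.map (CommRingCat.ofHom (algebraMap k (X.presheaf.stalk x))))) :=
    pullback_right_reduced k Y _ (X.presheaf.stalk x)
  haveI hZ : IsReduced (pullback (X.fromSpecStalk x)
      (pullback.fst (X ↘ (Spec (CommRingCat.of k))) (Y ↘ (Spec (CommRingCat.of k))))) :=
    isReduced_of_isOpenImmersion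
      (pullbackRightPullbackFstIso (X ↘ Spec (CommRingCat.of k)) (Y ↘ Spec (CommRingCat.of k))
        (X.fromSpecStalk x) ≪≫
      pullback.congrHom (fromSpecStalk_comp k X x)
        (rfl : (Y ↘ Spec (CommRingCat.of k)) = _) ≪≫
      pullbackSymmetry _ _).hom
  obtain ⟨z', -, hz2⟩ := Scheme.Pullback.exists_preimage_pullback
    (f := X.fromSpecStalk x)
    (g := pullback.fst (X ↘ (Spec (CommRingCat.of k))) (Y ↘ (Spec (CommRingCat.of k))))
    (IsLocalRing.closedPoint _) z (Scheme.fromSpecStalk_closedPoint.trans hz.symm)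
  have hinj := (faithfullyFlat_stalkMap
    (pullback.snd (X.fromSpecStalk x)
      (pullback.fst (X ↘ (Spec (CommRingCat.of k))) (Y ↘ (Spec (CommRingCat.of k))))) z').injective
  have hred : _root_.IsReduced ((pullback (X ↘ (Spec (CommRingCat.of k)))
      (Y ↘ (Spec (CommRingCat.of k)))).presheaf.stalk
      ((pullback.snd (X.fromSpecStalk x)
        (pullback.fst (X ↘ (Spec (CommRingCat.of k))) (Y ↘ (Spec (CommRingCat.of k))))) z')) :=
    isReduced_of_injective _ hinj
  exact hz2 ▸ hred

end Groth.Agent.Lib.StalkDict3H4
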