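import Mathlib
import Groth.Prelude.Def_ModSite2
import Groth.Agent.Lib.ModSite1_helper8

set_option autoImplicit false
set_option linter.style.haveILetI false
set_option linter.unusedSectionVars false

universe u

namespace Groth.Agent.Lib.StalkExactH4

open CategoryTheory Opposite Limits

variable {C : Type u} [SmallCategory C] {J : GrothendieckTopology C}

theorem main9112 (O : Sheaf J CommRingCat.{u}) (S : ShortComplex (ModSite.Mod O))
    (hS : S.ShortExact) (p : GrothendieckTopology.Point.{u} J) :
    Function.Injective (ModSite.stalkMap p S.f).hom ∧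
      Function.Surjective (ModSite.stalkMap p S.g).hom ∧
      LinearMap.range (ModSite.stalkMap p S.f).hom = LinearMap.ker (ModSite.stalkMap p S.g).hom := by
  let Fn : ModSite.Mod O ⥤ AddCommGrpCat.{u} :=
    SheafOfModules.toSheaf (ModSite.ringSh O) ⋙ p.sheafFiber
  haveI h1 : PreservesFiniteLimits (SheafOfModules.toSheaf.{u} (ModSite.ringSh O)) := inferInstance
  haveI h2 : PreservesFiniteColimits (SheafOfModules.toSheaf.{u} (ModSite.ringSh O)) := by
    haveI := Groth.Agent.Lib.ModSiteH8.toSheaf_preservesColimitsOfSize (ModSite.ringSh O)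
    exact PreservesColimitsOfSize.preservesFiniteColimits _
  haveI h3 : PreservesFiniteLimits (p.sheafFiber (A := AddCommGrpCat.{u})) := inferInstance
  haveI h4 : PreservesFiniteColimits (p.sheafFiber (A := AddCommGrpCat.{u})) := inferInstance
  haveI : PreservesFiniteLimits Fn := comp_preservesFiniteLimits _ _
  haveI : PreservesFiniteColimits Fn := comp_preservesFiniteColimits _ _
  haveI : Fn.Additive := by
    haveI : (p.sheafFiber (A := AddCommGrpCat.{u})).Additive :=
      Functor.additive_of_preserves_binary_products _
    infer_instance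
  have hT : (S.map Fn).ShortExact := hS.map_of_exact Fn
  have hinj : Function.Injective (Fn.map S.f) := by
    haveI := hT.mono_f
    exact (AddCommGrpCat.mono_iff_injective (S.map Fn).f).mp inferInstance
  have hsurj : Function.Surjective (Fn.map S.g) := by
    haveI := hT.epi_g
    exact (AddCommGrpCat.epi_iff_surjective (S.map Fn).g).mp inferInstance
  have hex := (S.map Fn).ab_exact_iff.mp hT.exact
  have hzero : ∀ x, (Fn.map S.g) ((Fn.map S.f) x) = 0 := by
    intro x
    have := ConcreteCategory.congr_hom (S.map Fn).zero x
    exact this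
  refine ⟨hinj, hsurj, ?_⟩
  ext x
  constructor
  · rintro ⟨y, rfl⟩
    exact hzero y
  · intro hx
    obtain ⟨y, hy⟩ := hex x hx
    exact ⟨y, hy⟩

end Groth.Agent.Lib.StalkExactH4
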