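import Mathlib
import Groth.Prelude.Def_ModSite
import Groth.Prelude.Def_ModSite2
import Groth.Agent.Lib.JShriek_lead

/-!
# Stalks of the extension by zero on a localised ringed site

The stalk of `j_{U!} G` at a point `p` is the direct sum of the stalks of `G` at the points
`p.over x`, `x` in the fibre of `p` at `U`.
-/

set_option autoImplicit false
set_option linter.unusedSimpArgs false
set_option linter.unusedVariables false
set_option linter.unusedSectionVars false
set_option linter.style.longLine false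
set_option linter.unnecessarySimpa false
set_option linter.deprecated false
set_option maxHeartbeats 1600000
set_option backward.isDefEq.respectTransparency false
set_option backward.isDefEq.respectTransparency.types false
set_option backward.defeqAttrib.useBackward true

noncomputable section

namespace Groth.Agent.Lib.StalkExt
open CategoryTheory Limits Opposite Groth.Agent.Lib.JShriek
open scoped Classical DirectSum

universe u

lemma ab_congr {A B : Ab.{u}} {f g : A ⟶ B} (h : f = g) (y : A) : f.hom y = g.hom y := by rw [h]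

section Main
variable {C : Type u} [SmallCategory C] {J : GrothendieckTopology C} {U : C}
  {R : Cᵒᵖ ⥤ RingCat.{u}}
  (p : GrothendieckTopology.Point.{u} J) (P : PresheafOfModules.{u} (RX U R))

lemma fib_comp {V' V : C} (g : V' ⟶ V) (φ : V ⟶ U) (v' : p.fiber.obj V') :
    p.fiber.map (g ≫ φ) v' = p.fiber.map φ (p.fiber.map g v') := by
  rw [p.fiber.map_comp]
  rfl

/-- a point of the fibre of `p.over x` -/
def mkPt (x : p.fiber.obj U) {V : C} (φ : V ⟶ U) (v : p.fiber.obj V)
    (hv : p.fiber.map φ v = x) : (p.over x).fiber.obj (Over.mk φ) :=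
  show ↥((FunctorToTypes.fromOverSubfunctor p.fiber x).obj (Over.mk φ)) from ⟨v, hv⟩

/-- underlying element of a point of the fibre of `p.over x` -/
def ptVal (x : p.fiber.obj U) (Y : Over U) (y : (p.over x).fiber.obj Y) : p.fiber.obj Y.left :=
  Subtype.val (show ↥((FunctorToTypes.fromOverSubfunctor p.fiber x).obj Y) from y)

lemma ptVal_prop (x : p.fiber.obj U) (Y : Over U) (y : (p.over x).fiber.obj Y) :
    p.fiber.map Y.hom (ptVal p x Y y) = x :=
  Subtype.property (show ↥((FunctorToTypes.fromOverSubfunctor p.fiber x).obj Y) from y)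

/-- the stalk of `P` at the point over `x` -/
abbrev T (x : p.fiber.obj U) : Ab.{u} := (p.over x).presheafFiber.obj P.presheaf

/-- germ into the coproduct of the stalks -/
def gmx {V : C} (φ : V ⟶ U) (v : p.fiber.obj V) (x : p.fiber.obj U)
    (hv : p.fiber.map φ v = x) : Sm P φ →+ ↑(∐ T p P) :=
  (Sigma.ι (T p P) x).hom.comp
    ((p.over x).toPresheafFiber (Over.mk φ) (mkPt p x φ v hv) P.presheaf).hom

lemma gmx_congr {V : C} (φ : V ⟶ U) (v : p.fiber.obj V) (x x' : p.fiber.obj U)
    (hv : p.fiber.map φ v = x) (hv' : p.fiber.map φ v = x') (y : Sm P φ) :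
    gmx p P φ v x hv y = gmx p P φ v x' hv' y := by
  have h : x = x' := hv.symm.trans hv'
  subst h
  rfl

lemma gmx_res {V' V : C} (g : V' ⟶ V) (φ : V ⟶ U) (v' : p.fiber.obj V') (x : p.fiber.obj U)
    (hv' : p.fiber.map (g ≫ φ) v' = x) (hv : p.fiber.map φ (p.fiber.map g v') = x)
    (y : Sm P φ) :
    gmx p P (g ≫ φ) v' x hv' (resS P (kk g φ) y) = gmx p P φ (p.fiber.map g v') x hv y := by
  have h := (p.over x).toPresheafFiber_w (kk g φ) (mkPt p x (g ≫ φ) v' hv') P.presheaf
  have h2 : (p.over x).fiber.map (kk g φ) (mkPt p x (g ≫ φ) v' hv') =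
      mkPt p x φ (p.fiber.map g v') hv := rfl
  rw [h2] at h
  exact congrArg (fun t => (Sigma.ι (T p P) x).hom (AddCommGrpCat.Hom.hom t y)) h

/-- forward map on sections -/
def fwdAdd (V : C) (v : p.fiber.obj V) : (⨁ φ : (V ⟶ U), Sm P φ) →+ ↑(∐ T p P) :=
  DirectSum.toAddMonoid (fun φ => gmx p P φ v (p.fiber.map φ v) rfl)

lemma fwdAdd_of (V : C) (v : p.fiber.obj V) (φ : V ⟶ U) (y : Sm P φ) :
    fwdAdd p P V v (ofS P φ y) = gmx p P φ v (p.fiber.map φ v) rfl y :=
  DirectSum.toAddMonoid_of _ _ _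

/-- forward map -/
def fwd : p.presheafFiber.obj (L0pre P) ⟶ ∐ T p P :=
  p.presheafFiberDesc (P := L0pre P) (fun V v => AddCommGrpCat.ofHom (fwdAdd p P V v)) (by
    intro V' V g v'
    refine AddCommGrpCat.hom_ext (DirectSum.addHom_ext (fun φ y => ?_))
    show fwdAdd p P V' v' (L0map P g (ofS P φ y)) = fwdAdd p P V (p.fiber.map g v') (ofS P φ y)
    rw [L0map_of, fwdAdd_of, fwdAdd_of]
    exact (gmx_congr p P (g ≫ φ) v' _ _ rfl (fib_comp p g φ v') _).trans
      (gmx_res p P g φ v' _ (fib_comp p g φ v') rfl y))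

lemma germ_fwd (V : C) (v : p.fiber.obj V) :
    p.toPresheafFiber V v (L0pre P) ≫ fwd p P = AddCommGrpCat.ofHom (fwdAdd p P V v) := by
  unfold fwd
  exact p.toPresheafFiber_presheafFiberDesc _ _ V v

/-- backward component -/
def bwdC (x : p.fiber.obj U) (Y : Over U) (y : (p.over x).fiber.obj Y) :
    P.presheaf.obj (op Y) ⟶ p.presheafFiber.obj (L0pre P) :=
  (AddCommGrpCat.ofHom (((p.toPresheafFiber Y.left (ptVal p x Y y) (L0pre P)).hom).comp
    (ofS P Y.hom)) : AddCommGrpCat.of (Sm P Y.hom) ⟶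
      AddCommGrpCat.of ↑(p.presheafFiber.obj (L0pre P)))

lemma bwdC_w (x : p.fiber.obj U) {Y' Y : Over U} (k : Y' ⟶ Y)
    (y' : (p.over x).fiber.obj Y') :
    P.presheaf.map k.op ≫ bwdC p P x Y' y' = bwdC p P x Y ((p.over x).fiber.map k y') := by
  refine AddCommGrpCat.hom_ext (AddMonoidHom.ext (fun z => ?_))
  show (p.toPresheafFiber Y'.left (ptVal p x Y' y') (L0pre P)).hom
      (ofS P Y'.hom (resS P (φ := Y.hom) (ψ := Y'.hom) k z)) =
    (p.toPresheafFiber Y.left (p.fiber.map k.left (ptVal p x Y' y')) (L0pre P)).hom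
      (ofS P Y.hom z)
  have hw := p.toPresheafFiber_w k.left (ptVal p x Y' y') (L0pre P)
  have hw' : (p.toPresheafFiber Y.left (p.fiber.map k.left (ptVal p x Y' y')) (L0pre P)).hom
      (ofS P Y.hom z) =
      (p.toPresheafFiber Y'.left (ptVal p x Y' y') (L0pre P)).hom
        (L0map P k.left (ofS P Y.hom z)) := (ab_congr hw (ofS P Y.hom z)).symm
  refine Eq.trans ?_ hw'.symm
  rw [L0map_of]
  exact congrArg _ (ofS_res_ext P (φ := Y.hom) (χ := Y'.hom) (χ' := k.left ≫ Y.hom) k
    (kk k.left Y.hom) rfl z)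

/-- backward map on the summand `x` -/
def bwdx (x : p.fiber.obj U) : T p P x ⟶ p.presheafFiber.obj (L0pre P) :=
  (p.over x).presheafFiberDesc (P := P.presheaf) (fun Y y => bwdC p P x Y y)
    (fun Y' Y k y' => bwdC_w p P x k y')

lemma germ_bwdx (x : p.fiber.obj U) (Y : Over U) (y : (p.over x).fiber.obj Y) :
    (p.over x).toPresheafFiber Y y P.presheaf ≫ bwdx p P x = bwdC p P x Y y := by
  unfold bwdx
  exact (p.over x).toPresheafFiber_presheafFiberDesc _ _ Y y

/-- backward map -/
def bwd : ∐ T p P ⟶ p.presheafFiber.obj (L0pre P) := Sigma.desc (fun x => bwdx p P x)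

lemma ι_bwd (x : p.fiber.obj U) : Sigma.ι (T p P) x ≫ bwd p P = bwdx p P x := by
  unfold bwd
  exact Sigma.ι_desc _ _

lemma fwd_bwd : fwd p P ≫ bwd p P = 𝟙 _ := by
  apply p.presheafFiber_hom_ext
  intro V v
  rw [Category.comp_id, ← Category.assoc, germ_fwd]
  refine AddCommGrpCat.hom_ext (DirectSum.addHom_ext (fun φ y => ?_))
  show (bwd p P).hom (fwdAdd p P V v (ofS P φ y)) =
    (p.toPresheafFiber V v (L0pre P)).hom (ofS P φ y)
  rw [fwdAdd_of]
  have h2 := ι_bwd p P (p.fiber.map φ v)
  have h3 := germ_bwdx p P (p.fiber.map φ v) (Over.mk φ) (mkPt p _ φ v rfl)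
  exact (ab_congr h2 _).trans ((ab_congr h3 y).trans rfl)

lemma bwd_fwd : bwd p P ≫ fwd p P = 𝟙 _ := by
  apply Sigma.hom_ext
  intro x
  rw [Category.comp_id, ← Category.assoc, ι_bwd]
  apply (p.over x).presheafFiber_hom_ext
  intro Y y
  rw [← Category.assoc, germ_bwdx]
  refine AddCommGrpCat.hom_ext (AddMonoidHom.ext (fun z => ?_))
  show (fwd p P).hom ((p.toPresheafFiber Y.left (ptVal p x Y y) (L0pre P)).hom
      (ofS P Y.hom z)) =
    (Sigma.ι (T p P) x).hom (((p.over x).toPresheafFiber Y y P.presheaf).hom z)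
  have h1 := germ_fwd p P Y.left (ptVal p x Y y)
  refine (ab_congr h1 (ofS P Y.hom z)).trans ?_
  show fwdAdd p P Y.left (ptVal p x Y y) (ofS P Y.hom z) = _
  rw [fwdAdd_of]
  exact gmx_congr p P Y.hom (ptVal p x Y y) _ x rfl (ptVal_prop p x Y y) z

/-- the stalk of the presheaf-level extension by zero -/
def mainIso : p.presheafFiber.obj (L0pre P) ≅ ∐ T p P where
  hom := fwd p P
  inv := bwd p P
  hom_inv_id := fwd_bwd p P
  inv_hom_id := bwd_fwd p P

/-- the underlying presheaf of `L0obj P` -/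
def preIso : (L0obj P).presheaf ≅ L0pre P :=
  NatIso.ofComponents
    (fun V => (Iso.refl ((L0pre P).obj V) : (L0obj P).presheaf.obj V ≅ (L0pre P).obj V))
    (fun {V W} f => by
      refine AddCommGrpCat.hom_ext (AddMonoidHom.ext (fun m => ?_))
      rfl)

end Main

section Sheafify
variable {C : Type u} [SmallCategory C] {J : GrothendieckTopology C}
  (p : GrothendieckTopology.Point.{u} J) (A : Sheaf J RingCat.{u})
  (Q : PresheafOfModules.{u} A.obj)

lemma stalk_sheafify :
    Nonempty (p.presheafFiber.obj Q.presheaf ≅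
      (p.sheafFiber (A := AddCommGrpCat.{u})).obj ((SheafOfModules.toSheaf A).obj
        ((PresheafOfModules.sheafification (𝟙 A.obj)).obj Q))) := by
  let η := (PresheafOfModules.sheafificationAdjunction (R₀ := A.obj) (𝟙 A.obj)).unit
  let f : Q.presheaf ⟶ ((SheafOfModules.toSheaf A).obj
      ((PresheafOfModules.sheafification (𝟙 A.obj)).obj Q)).obj :=
    (PresheafOfModules.toPresheaf _).map (η.app Q)
  haveI : Presheaf.IsLocallyInjective J f :=
    inferInstanceAs (Presheaf.IsLocallyInjective J (CategoryTheory.toSheafify J Q.presheaf))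
  haveI : Presheaf.IsLocallySurjective J f :=
    inferInstanceAs (Presheaf.IsLocallySurjective J (CategoryTheory.toSheafify J Q.presheaf))
  have hb := p.toPresheafFiber_map_bijective f
  haveI : IsIso (p.presheafFiber.map f) := (ConcreteCategory.isIso_iff_bijective _).2 hb
  exact ⟨asIso (p.presheafFiber.map f)⟩

end Sheafify

section Final
variable {C : Type u} [SmallCategory C] {J : GrothendieckTopology C}

theorem main (O : Sheaf J CommRingCat.{u}) (U : C) (G : ModSite.Mod (O.over U))
    (p : GrothendieckTopology.Point.{u} J) :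
    Nonempty (ModSite.stalkAb p ((ModSite.extZero O U).obj G) ≅
      ∐ fun x : p.fiber.obj U => ModSite.stalkAb (p.over x) G) := by
  let A : Sheaf J RingCat.{u} := ModSite.ringSh O
  let e : ModSite.extZero O U ≅ Lsh A U :=
    isoL A U (ModSite.extZero O U) (ModSite.extZeroAdj O U)
  let P : PresheafOfModules.{u} (RX U A.obj) := G.val
  let e1 : ModSite.stalkAb p ((ModSite.extZero O U).obj G) ≅
      ModSite.stalkAb p ((Lsh A U).obj G) :=
    (SheafOfModules.toSheaf A ⋙ p.sheafFiber).mapIso (e.app G)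
  obtain ⟨e2⟩ := stalk_sheafify p A (L0obj P)
  have e2' : ModSite.stalkAb p ((Lsh A U).obj G) ≅ p.presheafFiber.obj (L0obj P).presheaf :=
    e2.symm
  let e3 : p.presheafFiber.obj (L0obj P).presheaf ≅ p.presheafFiber.obj (L0pre P) :=
    p.presheafFiber.mapIso (preIso P)
  have e4 : p.presheafFiber.obj (L0pre P) ≅
      ∐ fun x : p.fiber.obj U => ModSite.stalkAb (p.over x) G := mainIso p P
  exact ⟨e1 ≪≫ e2' ≪≫ e3 ≪≫ e4⟩

end Final

end Groth.Agent.Lib.StalkExt
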