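import Mathlib
import Groth.Prelude.Def_ModSite2

set_option autoImplicit false
set_option linter.style.haveILetI false
set_option linter.unusedSectionVars false

universe u

namespace Groth.Agent.Lib.StalkLocalH4

open CategoryTheory Opposite

variable {C : Type u} [SmallCategory C] {J : GrothendieckTopology C}

lemma unit_lift (p : GrothendieckTopology.Point.{u} J) (O : Cᵒᵖ ⥤ CommRingCat.{u}) (U : C)
    (x : p.fiber.obj U) (r : O.obj (op U))
    (hr : IsUnit ((p.toPresheafFiber U x O).hom r)) :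
    ∃ (V : C) (g : V ⟶ U) (y : p.fiber.obj V), p.fiber.map g y = x ∧
      IsUnit ((O.map g.op).hom r) := by
  obtain ⟨b, hb⟩ := hr.exists_right_inv
  obtain ⟨X', x', s, rfl⟩ := p.toPresheafFiber_jointly_surjective (P := O) b
  let W := IsCofiltered.min (Functor.elementsMk p.fiber U x) (Functor.elementsMk p.fiber X' x')
  let gU := IsCofiltered.minToLeft (Functor.elementsMk p.fiber U x)
    (Functor.elementsMk p.fiber X' x')
  let gX := IsCofiltered.minToRight (Functor.elementsMk p.fiber U x)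
    (Functor.elementsMk p.fiber X' x')
  have hU : (p.toPresheafFiber U x O).hom r =
      (p.toPresheafFiber W.1 W.2 O).hom ((O.map gU.1.op).hom r) :=
    ((congrArg (fun t => (p.toPresheafFiber U t O).hom r) gU.2).symm).trans
      (p.toPresheafFiber_w_apply gU.1 W.2 O r).symm
  have hX : (p.toPresheafFiber X' x' O).hom s =
      (p.toPresheafFiber W.1 W.2 O).hom ((O.map gX.1.op).hom s) :=
    ((congrArg (fun t => (p.toPresheafFiber X' t O).hom s) gX.2).symm).trans
      (p.toPresheafFiber_w_apply gX.1 W.2 O s).symm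
  have hb1 : (p.toPresheafFiber W.1 W.2 O).hom
      ((O.map gU.1.op).hom r * (O.map gX.1.op).hom s) = (p.toPresheafFiber W.1 W.2 O).hom 1 := by
    rw [map_mul, map_one, ← hU, ← hX]; exact hb
  obtain ⟨Y, k, y, hy, hk⟩ := (p.toPresheafFiber_eq_iff' W.1 W.2 _ _).mp hb1
  have hk' : (O.map k.op).hom ((O.map gU.1.op).hom r * (O.map gX.1.op).hom s)
      = (O.map k.op).hom 1 := hk
  rw [map_mul, map_one] at hk'
  refine ⟨Y, k ≫ gU.1, y, ?_, ?_⟩
  · refine (FunctorToTypes.map_comp_apply p.fiber k gU.1 y).trans ?_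
    rw [hy]; exact gU.2
  · have e : (O.map (k ≫ gU.1).op).hom r = (O.map k.op).hom ((O.map gU.1.op).hom r) := by
      rw [op_comp, O.map_comp]; rfl
    rw [e]
    exact IsUnit.of_mul_eq_one _ hk'

theorem main9091 (O : Sheaf J CommRingCat.{u}) [GrothendieckTopology.HasEnoughPoints.{u} J]
    (h : ∀ p : GrothendieckTopology.Point.{u} J,
      Subsingleton (ModSite.stalkRing p O) ∨ IsLocalRing (ModSite.stalkRing p O))
    (U : C) (f : O.obj.obj (op U)) :
    ∃ S ∈ J U, ∀ ⦃V : C⦄ (g : V ⟶ U), S g →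
        IsUnit ((O.obj.map g.op).hom f) ∨ IsUnit ((O.obj.map g.op).hom (1 - f)) := by
  obtain ⟨P, hPs, hP⟩ : ∃ (P : ObjectProperty (GrothendieckTopology.Point.{u} J)),
      ObjectProperty.Small.{u} P ∧ P.IsConservativeFamilyOfPoints :=
    GrothendieckTopology.HasEnoughPoints.exists_objectProperty J
  let ι := {q : Σ V : C, (V ⟶ U) //
    IsUnit ((O.obj.map q.2.op).hom f) ∨ IsUnit ((O.obj.map q.2.op).hom (1 - f))}
  let fam : ∀ i : ι, i.1.1 ⟶ U := fun i => i.1.2
  refine ⟨Sieve.ofArrows _ fam, ?_, ?_⟩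
  · haveI := hPs
    rw [hP.jointly_reflect_ofArrows_mem_of_small]
    intro Φ x
    have hu : IsUnit ((Φ.obj.toPresheafFiber U x O.obj).hom f) ∨
        IsUnit ((Φ.obj.toPresheafFiber U x O.obj).hom (1 - f)) := by
      rcases h Φ.obj with hs | hl
      · left
        haveI : Subsingleton ↑(Φ.obj.presheafFiber.obj O.obj) := hs
        exact isUnit_of_subsingleton _
      · haveI : IsLocalRing ↑(Φ.obj.presheafFiber.obj O.obj) := hl
        have := IsLocalRing.isUnit_or_isUnit_one_sub_self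
          ((Φ.obj.toPresheafFiber U x O.obj).hom f)
        rw [map_sub, map_one]; exact this
    rcases hu with hu | hu
    · obtain ⟨V, g, y, hy, hg⟩ := unit_lift Φ.obj O.obj U x f hu
      exact ⟨⟨⟨V, g⟩, Or.inl hg⟩, y, hy⟩
    · obtain ⟨V, g, y, hy, hg⟩ := unit_lift Φ.obj O.obj U x (1 - f) hu
      exact ⟨⟨⟨V, g⟩, Or.inr hg⟩, y, hy⟩
  · intro V g hg
    obtain ⟨_, k, _, ⟨i⟩, rfl⟩ := hg
    have e : ∀ z : O.obj.obj (op U), (O.obj.map (k ≫ fam i).op).hom z
        = (O.obj.map k.op).hom ((O.obj.map (fam i).op).hom z) := by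
      intro z; rw [op_comp, O.obj.map_comp]; rfl
    rcases i.2 with hi | hi
    · left; rw [e]; exact hi.map _
    · right; rw [e]; exact hi.map _

end Groth.Agent.Lib.StalkLocalH4
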