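import Mathlib
import Groth.Prelude
import Groth.Agent.Lib.RpushVanish_helper9

/-!
# Vanishing of stalks of higher direct images (helper8)
APPEND-ONLY once landed.
-/

set_option autoImplicit false

namespace StalkRpushH8

open AlgebraicGeometry CategoryTheory CategoryTheory.Limits TopologicalSpace Opposite
open AffVanish (Sec rs apS)
open RpushVanish (fr ofSec leMap)

universe u

section Top

variable {Y : TopCat.{u}}

/-- The stalk at `y` of the homology of a short complex of abelian sheaves vanishes if cocycles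
defined near `y` are coboundaries near `y`. -/
theorem isZero_stalk_homology (S : ShortComplex (TopCat.Sheaf AddCommGrpCat.{u} Y)) (y : Y)
    (h : ∀ (U : Opens Y) (s : Sec S.X₂ U), y ∈ U → apS S.g U s = 0 →
      ∃ (W : Opens Y) (hW : W ≤ U), y ∈ W ∧ ∃ t : Sec S.X₁ W, apS S.f W t = rs S.X₂ hW s) :
    IsZero (TopCat.Presheaf.stalk S.homology.obj y) := by
  have e : (S.map (TopCat.Sheaf.forget AddCommGrpCat.{u} Y ⋙
      TopCat.Presheaf.stalkFunctor AddCommGrpCat.{u} y)).homology ≅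
      (TopCat.Sheaf.forget AddCommGrpCat.{u} Y ⋙
        TopCat.Presheaf.stalkFunctor AddCommGrpCat.{u} y).obj S.homology :=
    S.mapHomologyIso _
  refine IsZero.of_iso ?_ e.symm
  rw [← ShortComplex.exact_iff_isZero_homology, ShortComplex.ab_exact_iff]
  intro x₂ hx₂
  obtain ⟨U, hyU, s, rfl⟩ := TopCat.Presheaf.exists_germ_eq S.X₂.obj x₂
  have h1 : TopCat.Presheaf.germ S.X₃.obj U y hyU (apS S.g U s) = TopCat.Presheaf.germ S.X₃.obj U y hyU 0 := by
    rw [map_zero]
    have := TopCat.Presheaf.stalkFunctor_map_germ_apply U y hyU S.g.hom s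
    exact this.symm.trans hx₂
  obtain ⟨W', hyW', iU, iV, heq⟩ := TopCat.Presheaf.germ_eq S.X₃.obj y hyU hyU _ _ h1
  have hW'U : W' ≤ U := iU.le
  have hs' : apS S.g W' (rs S.X₂ hW'U s) = 0 := by
    rw [AffVanish.ap_rs]
    have : rs S.X₃ hW'U (apS S.g U s) = rs S.X₃ hW'U 0 := by
      have h2 : iU = homOfLE hW'U := Subsingleton.elim _ _
      have h3 : iV = homOfLE hW'U := Subsingleton.elim _ _
      rw [h2, h3] at heq
      exact heq
    rw [this, map_zero]
  obtain ⟨W, hW, hyW, t, ht⟩ := h W' (rs S.X₂ hW'U s) hyW' hs'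
  refine ⟨TopCat.Presheaf.germ S.X₁.obj W y hyW t, ?_⟩
  have h4 := TopCat.Presheaf.stalkFunctor_map_germ_apply W y hyW S.f.hom t
  refine h4.trans ?_
  have h5 : S.f.hom.app (op W) t = rs S.X₂ (hW.trans hW'U) s := by
    have : apS S.f W t = rs S.X₂ hW (rs S.X₂ hW'U s) := ht
    rw [AffVanish.rs_rs] at this
    exact this
  rw [h5]
  exact TopCat.Presheaf.germ_res_apply S.X₂.obj (homOfLE (hW.trans hW'U)) y hyW s

end Top

section Push

variable {X Y : TopCat.{u}}

/-- A criterion for the vanishing of the stalk of `R^{q+1} f_* F` at `y`. -/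
theorem isZero_stalk_rightDerived_succ (f : X ⟶ Y) (F : CohTop.Ab X) (q : ℕ)
    (R : InjectiveResolution F) (y : Y)
    (h : ∀ (V : Opens Y) (s : Sec (R.cocomplex.X (q + 1)) ((Opens.map f).obj V)), y ∈ V →
      apS (R.cocomplex.d (q + 1) (q + 2)) ((Opens.map f).obj V) s = 0 →
      ∃ (W : Opens Y) (hW : W ≤ V), y ∈ W ∧ ∃ t : Sec (R.cocomplex.X q) ((Opens.map f).obj W),
        apS (R.cocomplex.d q (q + 1)) ((Opens.map f).obj W) t =
          rs (R.cocomplex.X (q + 1)) (leMap f hW) s) :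
    IsZero (TopCat.Presheaf.stalk ((CohTop.Rpush f (q + 1)).obj F).obj y) := by
  have e := R.isoRightDerivedObj (CohTop.push f) (q + 1)
  let K := ((CohTop.push f).mapHomologicalComplex (ComplexShape.up ℕ)).obj R.cocomplex
  have e2 : K.homology (q + 1) ≅ (K.sc' q (q + 1) (q + 2)).homology :=
    K.homologyIsoSc' q (q + 1) (q + 2) (by simp) (by simp only [CochainComplex.next]; rfl)
  refine IsZero.of_iso ?_ ((TopCat.Sheaf.forget AddCommGrpCat.{u} Y ⋙
    TopCat.Presheaf.stalkFunctor AddCommGrpCat.{u} y).mapIso (e ≪≫ e2))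
  exact isZero_stalk_homology (K.sc' q (q + 1) (q + 2)) y (fun V s hyV hs => h V s hyV hs)

/-- The stalk of `R^{q+1} f_* F` at `y` vanishes if `H^{q+1}(f⁻¹ W, F) = 0` for all `W` in a
basis of neighbourhoods of `y`. -/
theorem isZero_stalk_Rpush_succ_of_basis (f : X ⟶ Y) (F : CohTop.Ab X) (q : ℕ) (y : Y)
    (B : Opens Y → Prop)
    (hB : ∀ (V : Opens Y), y ∈ V → ∃ W : Opens Y, B W ∧ y ∈ W ∧ W ≤ V)
    (hext : ∀ W : Opens Y, B W →
      ∀ ξ : Abelian.Ext (fr ((Opens.map f).obj W)) F (q + 1), ξ = 0) :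
    IsZero (TopCat.Presheaf.stalk ((CohTop.Rpush f (q + 1)).obj F).obj y) := by
  refine isZero_stalk_rightDerived_succ f F q (injectiveResolution F) y ?_
  intro V s hy hs
  obtain ⟨W, hBW, hyW, hWV⟩ := hB V hy
  refine ⟨W, hWV, hyW, ?_⟩
  apply RpushVanish.exists_primitive_of_ext_eq_zero F _ _ q (hext W hBW)
  rw [AffVanish.ap_rs, hs, map_zero]

end Push

end StalkRpushH8
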