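import Mathlib
import Groth.Agent.Lib.StalkSub_helper3
import Groth.Agent.Lib.RegHomBC_helper3
import Groth.Agent.Lib.DepthDescent_helper5

/-!
# The stalk ring `A_{S}`: faithful flatness of `A{S⁻¹}`, Noetherianity, flatness over `A` (helper3)
-/

set_option autoImplicit false

namespace Groth.Agent.Lib.StalkSubH3

universe u

open AdicCompletion

variable (A : Type u) [CommRing A] (J 𝔭 : Ideal A) [𝔭.IsPrime]

theorem exists_common {l : ℕ} (t : Fin l → FSch.cAtPrime A J 𝔭)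
    (ht : ∀ i, t i ∈ FSch.stalkSubring A J 𝔭) :
    ∃ (h : A) (hh : h ∉ 𝔭), ∀ i, ∃ y : FSch.cAway A J h,
      FSch.cAwayToAtPrime A J 𝔭 h hh y = t i := by
  choose f hf x hx using fun i => (mem_stalkSubring_iff A J 𝔭 (t i)).1 (ht i)
  have hh : (∏ i, f i) ∈ 𝔭.primeCompl := prod_mem fun i _ => hf i
  refine ⟨∏ i, f i, hh, fun i => ?_⟩
  have hd : f i ∣ ∏ i, f i := Finset.dvd_prod_of_mem f (Finset.mem_univ i)
  exact ⟨cAwayToAway A J hd (x i), by rw [cAwayToAtPrime_cAwayToAway A J 𝔭 hd (hf i) hh, hx]⟩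

variable [IsNoetherianRing A]

theorem flat_cAwayToAtPrime {h : A} (hh : h ∉ 𝔭) : (FSch.cAwayToAtPrime A J 𝔭 h hh).Flat := by
  unfold FSch.cAwayToAtPrime
  refine Groth.Agent.Lib.ComplFlatH3.main A J (Submonoid.powers h) 𝔭.primeCompl ?_
    (FSch.awayToAtPrime A 𝔭 h hh) ?_ (FSch.map_awayToAtPrime_le A J 𝔭 h hh)
  · rw [Submonoid.powers_le]; exact hh
  · exact RingHom.ext fun a => awayToAtPrime_algebraMap A 𝔭 hh a

theorem flat_stalkSubring : Module.Flat (FSch.stalkSubring A J 𝔭) (FSch.cAtPrime A J 𝔭) := by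
  apply Module.Flat.of_forall_isTrivialRelation
  intro l f x hfx
  obtain ⟨h, hh, hy⟩ := exists_common A J 𝔭 (fun i => (f i : FSch.cAtPrime A J 𝔭))
    (fun i => (f i).2)
  choose y hy using hy
  letI : Algebra (FSch.cAway A J h) (FSch.cAtPrime A J 𝔭) :=
    (FSch.cAwayToAtPrime A J 𝔭 h hh).toAlgebra
  haveI : Module.Flat (FSch.cAway A J h) (FSch.cAtPrime A J 𝔭) := flat_cAwayToAtPrime A J 𝔭 hh
  have hsmul : ∀ (r : FSch.cAway A J h) (z : FSch.cAtPrime A J 𝔭),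
      r • z = FSch.cAwayToAtPrime A J 𝔭 h hh r * z := fun r z => by
    rw [Algebra.smul_def]; rfl
  have hrel : ∑ i, y i • x i = 0 := by
    rw [← hfx]
    refine Finset.sum_congr rfl fun i _ => ?_
    rw [hsmul, hy]; rfl
  have key : ∃ (k : ℕ) (a : Fin l → Fin k → FSch.cAway A J h) (z : Fin k → FSch.cAtPrime A J 𝔭),
      (∀ i, x i = ∑ j, a i j • z j) ∧ ∀ j, ∑ i, y i * a i j = 0 :=
    Module.Flat.isTrivialRelation_of_sum_smul_eq_zero
      (R := FSch.cAway A J h) (M := FSch.cAtPrime A J 𝔭) (f := y) (x := x) hrel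
  obtain ⟨k, a, z, hx, ha⟩ := key
  have hmem : ∀ i j, FSch.cAwayToAtPrime A J 𝔭 h hh (a i j) ∈ FSch.stalkSubring A J 𝔭 :=
    fun i j => (mem_stalkSubring_iff A J 𝔭 _).2 ⟨h, hh, a i j, rfl⟩
  refine ⟨k, fun i j => ⟨_, hmem i j⟩, z, fun i => ?_, fun j => ?_⟩
  · rw [hx i]
    refine Finset.sum_congr rfl fun j _ => ?_
    rw [hsmul]; rfl
  · apply Subtype.ext
    have := congrArg (FSch.cAwayToAtPrime A J 𝔭 h hh) (ha j)
    rw [map_sum, _root_.map_zero] at this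
    rw [Subring.coe_zero, ← this]
    push_cast
    refine Finset.sum_congr rfl fun i _ => ?_
    rw [map_mul, hy]

theorem main_S3871 (hJ : J ≤ 𝔭) :
    Module.FaithfullyFlat (FSch.stalkSubring A J 𝔭) (FSch.cAtPrime A J 𝔭) := by
  haveI := isLocalRing_cAtPrime A J 𝔭 hJ
  haveI := isLocalHom_subtype A J 𝔭 hJ
  haveI : IsLocalRing (FSch.stalkSubring A J 𝔭) :=
    RingHom.domain_isLocalRing (FSch.stalkSubring A J 𝔭).subtype
  haveI := flat_stalkSubring A J 𝔭
  haveI : IsLocalHom (algebraMap (FSch.stalkSubring A J 𝔭) (FSch.cAtPrime A J 𝔭)) :=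
    isLocalHom_subtype A J 𝔭 hJ
  exact Module.FaithfullyFlat.of_flat_of_isLocalHom

theorem isNoetherianRing_cAtPrime : IsNoetherianRing (FSch.cAtPrime A J 𝔭) := by
  haveI : IsNoetherianRing (Localization.AtPrime 𝔭) :=
    IsLocalization.isNoetherianRing 𝔭.primeCompl (Localization.AtPrime 𝔭) inferInstance
  exact Groth.Agent.Lib.ComplRegH3.isNoetherianRing_adicCompletion _ _

theorem main_S3870 (hJ : J ≤ 𝔭) : IsNoetherianRing (FSch.stalkSubring A J 𝔭) := by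
  haveI := main_S3871 A J 𝔭 hJ
  haveI := isNoetherianRing_cAtPrime A J 𝔭
  exact Groth.Agent.DepthLib.isNoetherianRing_of_faithfullyFlat (FSch.stalkSubring A J 𝔭)
    (FSch.cAtPrime A J 𝔭)

theorem main_S4358 (hJ : J ≤ 𝔭)
    (h : ∀ a : A, ((algebraMap (Localization.AtPrime 𝔭) (FSch.cAtPrime A J 𝔭)).comp
      (algebraMap A (Localization.AtPrime 𝔭))) a ∈ FSch.stalkSubring A J 𝔭) :
    (((algebraMap (Localization.AtPrime 𝔭) (FSch.cAtPrime A J 𝔭)).comp
      (algebraMap A (Localization.AtPrime 𝔭))).codRestrict (FSch.stalkSubring A J 𝔭) h).Flat := by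
  letI : Algebra A (FSch.stalkSubring A J 𝔭) :=
    (((algebraMap (Localization.AtPrime 𝔭) (FSch.cAtPrime A J 𝔭)).comp
      (algebraMap A (Localization.AtPrime 𝔭))).codRestrict (FSch.stalkSubring A J 𝔭) h).toAlgebra
  show Module.Flat A (FSch.stalkSubring A J 𝔭)
  haveI := main_S3871 A J 𝔭 hJ
  haveI : IsScalarTower A (FSch.stalkSubring A J 𝔭) (FSch.cAtPrime A J 𝔭) :=
    IsScalarTower.of_algebraMap_eq fun a => rfl
  haveI : IsNoetherianRing (Localization.AtPrime 𝔭) :=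
    IsLocalization.isNoetherianRing 𝔭.primeCompl (Localization.AtPrime 𝔭) inferInstance
  haveI : Module.Flat (Localization.AtPrime 𝔭) (FSch.cAtPrime A J 𝔭) :=
    AdicCompletion.flat_of_isNoetherian _
  haveI : Module.Flat A (Localization.AtPrime 𝔭) :=
    IsLocalization.flat (Localization.AtPrime 𝔭) 𝔭.primeCompl
  haveI : IsScalarTower A (Localization.AtPrime 𝔭) (FSch.cAtPrime A J 𝔭) :=
    IsScalarTower.of_algebraMap_eq fun a => rfl
  haveI : Module.Flat A (FSch.cAtPrime A J 𝔭) :=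
    Module.Flat.trans A (Localization.AtPrime 𝔭) (FSch.cAtPrime A J 𝔭)
  exact Groth.Agent.Lib.RegHomBCH3.flat_of_faithfullyFlat_comp A (FSch.stalkSubring A J 𝔭)
    (FSch.cAtPrime A J 𝔭)

end Groth.Agent.Lib.StalkSubH3
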