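import Mathlib

/-!
# Hilbert function of the Stanley–Reisner ring of a finite poset (helper9)
-/

namespace Groth.Agent.Lib.StanleyReisner

open MvPolynomial

universe u v

section alg

variable {K : Type u} [Field K] {L : Type v} [PartialOrder L] [Fintype L]

/-- Exponents of the generators `x_a x_b`, `a`, `b` incomparable. -/
def Gen (L : Type v) [PartialOrder L] : Set (L →₀ ℕ) :=
  {s | ∃ a b : L, ¬ a ≤ b ∧ ¬ b ≤ a ∧ s = Finsupp.single a 1 + Finsupp.single b 1}

omit [Fintype L] in
lemma span_eq :
    Ideal.span {f : MvPolynomial L K | ∃ a b : L, ¬ a ≤ b ∧ ¬ b ≤ a ∧ f = X a * X b} =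
      Ideal.span ((fun s => monomial s (1 : K)) '' Gen L) := by
  congr 1
  ext f
  constructor
  · rintro ⟨a, b, h1, h2, rfl⟩
    exact ⟨_, ⟨a, b, h1, h2, rfl⟩, by simp [X, monomial_mul]⟩
  · rintro ⟨s, ⟨a, b, h1, h2, rfl⟩, rfl⟩
    exact ⟨a, b, h1, h2, by simp [X, monomial_mul]⟩

omit [Fintype L] in
lemma exists_gen_le_iff (d : L →₀ ℕ) :
    (∃ s ∈ Gen L, s ≤ d) ↔ ¬ IsChain (fun a b : L => a ≤ b) (d.support : Set L) := by
  classical
  constructor
  · rintro ⟨_, ⟨a, b, h1, h2, rfl⟩, hle⟩ hch
    have hab : a ≠ b := fun h => h1 (h ▸ le_rfl)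
    have ha : a ∈ d.support := by
      rw [Finsupp.mem_support_iff]
      have := hle a
      simp only [Finsupp.add_apply, Finsupp.single_eq_same] at this
      omega
    have hb : b ∈ d.support := by
      rw [Finsupp.mem_support_iff]
      have := hle b
      simp only [Finsupp.add_apply, Finsupp.single_eq_same] at this
      omega
    rcases hch (Finset.mem_coe.mpr ha) (Finset.mem_coe.mpr hb) hab with h | h
    · exact h1 h
    · exact h2 h
  · intro hch
    unfold IsChain Set.Pairwise at hch
    push Not at hch
    obtain ⟨a, ha, b, hb, hab, h⟩ := hch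
    refine ⟨_, ⟨a, b, h.1, h.2, rfl⟩, ?_⟩
    intro c
    rw [Finset.mem_coe, Finsupp.mem_support_iff] at ha hb
    simp only [Finsupp.add_apply, Finsupp.single_apply]
    by_cases hca : a = c
    · subst hca
      have : ¬ b = a := fun h => hab h.symm
      simp only [this, if_true, if_false]
      omega
    · by_cases hcb : b = c
      · subst hcb
        simp only [hca, if_true, if_false]
        omega
      · simp [hca, hcb]

omit [Fintype L] in
lemma mem_I_iff (p : MvPolynomial L K) :
    p ∈ Ideal.span {f : MvPolynomial L K | ∃ a b : L, ¬ a ≤ b ∧ ¬ b ≤ a ∧ f = X a * X b} ↔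
      ∀ d ∈ p.support, ¬ IsChain (fun a b : L => a ≤ b) (d.support : Set L) := by
  rw [span_eq, mem_ideal_span_monomial_image]
  exact forall₂_congr fun d _ => exists_gen_le_iff d

open Classical in
/-- Chain-supported exponents of degree `m`. -/
noncomputable def chainSet (L : Type v) [PartialOrder L] [Fintype L] (m : ℕ) : Finset (L →₀ ℕ) :=
  (Finset.univ.finsuppAntidiag m).filter
    (fun d => IsChain (fun a b : L => a ≤ b) (d.support : Set L))

lemma mem_chainSet {m : ℕ} {d : L →₀ ℕ} :
    d ∈ chainSet L m ↔ d.degree = m ∧ IsChain (fun a b : L => a ≤ b) (d.support : Set L) := by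
  classical
  simp only [chainSet, Finset.mem_filter, Finset.mem_finsuppAntidiag, Finset.subset_univ, and_true,
    Finsupp.degree_eq_sum]

/-- Coefficients at the chain-supported exponents. -/
noncomputable def T (K : Type u) [Field K] (L : Type v) [PartialOrder L] [Fintype L] (m : ℕ) :
    MvPolynomial L K →ₗ[K] (chainSet L m → K) :=
  LinearMap.pi fun d => lcoeff K d.1

lemma T_apply (m : ℕ) (p : MvPolynomial L K) (d : chainSet L m) : T K L m p d = coeff d.1 p := rfl

lemma mem_I_iff_T {m : ℕ} (p : MvPolynomial L K) (hp : p.IsHomogeneous m) :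
    p ∈ Ideal.span {f : MvPolynomial L K | ∃ a b : L, ¬ a ≤ b ∧ ¬ b ≤ a ∧ f = X a * X b} ↔
      T K L m p = 0 := by
  rw [mem_I_iff]
  constructor
  · intro h
    funext d
    rw [T_apply, Pi.zero_apply]
    by_contra hne
    exact h d.1 (mem_support_iff.mpr hne) (mem_chainSet.mp d.2).2
  · intro h d hd hch
    have hne := mem_support_iff.mp hd
    have hdeg : d.degree = m := by
      by_contra hdeg
      exact hne (hp.coeff_eq_zero hdeg)
    have := congrFun h ⟨d, mem_chainSet.mpr ⟨hdeg, hch⟩⟩
    rw [T_apply, Pi.zero_apply] at this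
    exact hne this

lemma T_surjective (m : ℕ) (f : chainSet L m → K) :
    ∃ p : MvPolynomial L K, p.IsHomogeneous m ∧ T K L m p = f := by
  classical
  refine ⟨∑ d : chainSet L m, monomial d.1 (f d), ?_, ?_⟩
  · apply IsHomogeneous.sum
    intro d _
    exact isHomogeneous_monomial _ (mem_chainSet.mp d.2).1
  · funext d'
    rw [T_apply, coeff_sum]
    rw [Finset.sum_eq_single d']
    · simp
    · intro d _ hne
      rw [coeff_monomial, if_neg]
      exact fun h => hne (Subtype.ext h)
    · intro h
      exact absurd (Finset.mem_univ d') h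

/-- The dimension of the degree `m` piece of the Stanley–Reisner ring. -/
theorem finrank_eq_card (m : ℕ) :
    Module.finrank K ((homogeneousSubmodule L K m).map
        (Ideal.Quotient.mkₐ K (Ideal.span {f : MvPolynomial L K | ∃ a b : L, ¬ a ≤ b ∧ ¬ b ≤ a ∧
          f = X a * X b})).toLinearMap) = (chainSet L m).card := by
  classical
  set I := Ideal.span {f : MvPolynomial L K | ∃ a b : L, ¬ a ≤ b ∧ ¬ b ≤ a ∧ f = X a * X b}
    with hI
  set H := homogeneousSubmodule L K m with hH
  set f := (Ideal.Quotient.mkₐ K I).toLinearMap with hf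
  let f' := f.domRestrict H
  let g := (T K L m).domRestrict H
  have hker : LinearMap.ker f' = LinearMap.ker g := by
    ext ⟨p, hp⟩
    simp only [LinearMap.mem_ker, f', g, LinearMap.domRestrict_apply]
    rw [← mem_I_iff_T p hp, hf]
    exact Ideal.Quotient.eq_zero_iff_mem
  have hg : Function.Surjective g := by
    intro y
    obtain ⟨p, hp, hy⟩ := T_surjective m y
    exact ⟨⟨p, hp⟩, hy⟩
  have e1 := f'.quotKerEquivRange
  have e2 := g.quotKerEquivOfSurjective hg
  have e3 := Submodule.quotEquivOfEq _ _ hker
  have hrange : LinearMap.range f' = H.map f := LinearMap.range_domRestrict _ _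
  rw [← hrange, ← e1.finrank_eq, e3.finrank_eq, e2.finrank_eq, Module.finrank_fintype_fun_eq_card,
    Fintype.card_coe]

end alg


section count

variable {L : Type v} [Fintype L]

open Classical in
/-- The number of exponent vectors of degree `m` with support exactly `C`. -/
lemma card_support_eq (C : Finset L) (hC : C.Nonempty) (m : ℕ) (hm : 1 ≤ m) :
    ((Finset.univ.finsuppAntidiag m).filter (fun d : L →₀ ℕ => d.support = C)).card =
      (m - 1).choose (C.card - 1) := by
  have hCpos : 1 ≤ C.card := Finset.card_pos.mpr hC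
  set ind : L →₀ ℕ := Finsupp.indicator C (fun _ _ => 1) with hind
  have ind_apply : ∀ x, ind x = if x ∈ C then 1 else 0 := fun x => by
    rw [hind, Finsupp.indicator_apply]
    split_ifs <;> rfl
  have sum_ind : ∑ x, ind x = C.card := by
    simp only [ind_apply, Finset.sum_boole, Finset.filter_mem_eq_inter, Finset.univ_inter,
      Nat.cast_id]
  have sum_C_le : ∀ d : L →₀ ℕ, d.support = C → C.card ≤ ∑ x, d x := by
    intro d hd
    calc C.card = ∑ x ∈ C, 1 := by simp
      _ ≤ ∑ x ∈ C, d x := Finset.sum_le_sum fun x hx => by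
          rw [← hd, Finsupp.mem_support_iff] at hx; omega
      _ ≤ ∑ x, d x := Finset.sum_le_sum_of_subset (Finset.subset_univ C)
  by_cases hCm : C.card ≤ m
  · have hcard := Finset.card_finsuppAntidiag_nat_eq_choose (s := C) (m - C.card)
    have : (C.card + (m - C.card) - 1).choose (m - C.card) = (m - 1).choose (C.card - 1) := by
      rw [show C.card + (m - C.card) - 1 = m - 1 by omega]
      exact Nat.choose_symm_of_eq_add (by omega)
    rw [← this, ← hcard]
    symm
    apply Finset.card_nbij' (fun g => g + ind) (fun d => d - ind)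
    · intro g hg
      rw [Finset.mem_coe, Finset.mem_finsuppAntidiag] at hg
      obtain ⟨hsum, hsupp⟩ := hg
      rw [Finset.mem_coe, Finset.mem_filter, Finset.mem_finsuppAntidiag]
      refine ⟨⟨?_, Finset.subset_univ _⟩, ?_⟩
      · simp only [Finsupp.add_apply, Finset.sum_add_distrib, sum_ind]
        have : ∑ x, g x = ∑ x ∈ C, g x := by
          symm
          apply Finset.sum_subset (Finset.subset_univ C)
          intro x _ hx
          exact Finsupp.notMem_support_iff.mp fun h => hx (hsupp h)
        rw [this, hsum]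
        omega
      · ext x
        rw [Finsupp.mem_support_iff, Finsupp.add_apply, ind_apply]
        by_cases hx : x ∈ C
        · simp [hx]
        · have : g x = 0 := Finsupp.notMem_support_iff.mp fun h => hx (hsupp h)
          simp [hx, this]
    · intro d hd
      rw [Finset.mem_coe, Finset.mem_filter, Finset.mem_finsuppAntidiag] at hd
      obtain ⟨⟨hsum, -⟩, hsupp⟩ := hd
      rw [Finset.mem_coe, Finset.mem_finsuppAntidiag]
      refine ⟨?_, ?_⟩
      · have h1 : ∀ x ∈ C, ind x ≤ d x := by
          intro x hx
          rw [ind_apply, if_pos hx]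
          rw [← hsupp, Finsupp.mem_support_iff] at hx
          omega
        have h2 : ∑ x ∈ C, d x = m := by
          rw [← hsum]
          apply Finset.sum_subset (Finset.subset_univ C)
          intro x _ hx
          rw [← hsupp] at hx
          exact Finsupp.notMem_support_iff.mp hx
        have h3 : ∑ x ∈ C, ind x = C.card := by
          rw [Finset.sum_congr rfl fun x hx => by rw [ind_apply, if_pos hx]]
          simp
        simp only [Finsupp.tsub_apply]
        rw [Finset.sum_tsub_distrib C h1, h2, h3]
      · rw [← hsupp]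
        exact Finsupp.support_tsub
    · intro g _
      exact add_tsub_cancel_right g ind
    · intro d hd
      rw [Finset.mem_coe, Finset.mem_filter] at hd
      obtain ⟨-, hsupp⟩ := hd
      apply tsub_add_cancel_of_le
      intro x
      rw [ind_apply]
      split_ifs with hx
      · rw [← hsupp, Finsupp.mem_support_iff] at hx
        omega
      · exact Nat.zero_le _
  · push Not at hCm
    rw [Nat.choose_eq_zero_of_lt (by omega), Finset.card_eq_zero, Finset.filter_eq_empty_iff]
    intro d hd hsupp
    rw [Finset.mem_finsuppAntidiag] at hd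
    have := sum_C_le d hsupp
    have h1 : ∑ x, d x = m := hd.1
    rw [h1] at this
    exact absurd this (by omega)

end count

section total

variable {L : Type v} [PartialOrder L] [Fintype L]

theorem card_chainSet (m : ℕ) (hm : 1 ≤ m) :
    (chainSet L m).card =
      ∑ᶠ C : {C : Finset L // C.Nonempty ∧ IsChain (fun a b : L => a ≤ b) (↑C : Set L)},
        Nat.choose (m - 1) (C.1.card - 1) := by
  classical
  rw [finsum_eq_sum_of_fintype]
  set chains : Finset (Finset L) := Finset.univ.filter
    (fun C => C.Nonempty ∧ IsChain (fun a b : L => a ≤ b) (↑C : Set L)) with hchains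
  rw [← Finset.sum_subtype chains (fun C => by simp [hchains])
    (fun C => Nat.choose (m - 1) (C.card - 1))]
  have hmaps : ((chainSet L m : Finset (L →₀ ℕ)) : Set (L →₀ ℕ)).MapsTo Finsupp.support chains := by
    intro d hd
    rw [Finset.mem_coe, mem_chainSet] at hd
    rw [Finset.mem_coe, hchains, Finset.mem_filter]
    refine ⟨Finset.mem_univ _, ?_, hd.2⟩
    rw [Finset.nonempty_iff_ne_empty, Ne, Finsupp.support_eq_empty]
    rintro rfl
    rw [map_zero] at hd
    omega
  rw [Finset.card_eq_sum_card_fiberwise hmaps]
  apply Finset.sum_congr rfl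
  intro C hC
  rw [hchains, Finset.mem_filter] at hC
  rw [← card_support_eq C hC.2.1 m hm]
  congr 1
  ext d
  simp only [chainSet, Finset.mem_filter]
  constructor
  · rintro ⟨⟨h1, -⟩, h3⟩
    exact ⟨h1, h3⟩
  · rintro ⟨h1, h3⟩
    exact ⟨⟨h1, by rw [h3]; exact hC.2.2⟩, h3⟩

end total

end Groth.Agent.Lib.StanleyReisner
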