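import Mathlib
import Groth.Prelude.Def_GrLC
import Groth.Prelude.Def_Wider
import Groth.Agent.Lib.GrStar4_helper1
import Groth.Agent.Lib.GrExt_helper1
import Groth.Agent.Lib.GrHDec_helper1

/-! A *injective graded module over a Noetherian ℤ-graded ring is injective iff no core `p*` of a
non-graded prime `p` is associated to it (helper1). -/

set_option autoImplicit false

namespace Groth.Agent.Lib.StarInjAssH1

open DirectSum GrLC Groth.Agent.Lib.GrStarH1 Groth.Agent.Lib.GrStar2H1 Groth.Agent.Lib.GrStar3H1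
  Groth.Agent.Lib.GrStar4H1 Groth.Agent.Lib.GrExtH1

universe u

variable {R : Type u} [CommRing R] (𝒜 : ℤ → AddSubgroup R) [GradedRing 𝒜]

/-! ### degrees -/
section degree

variable {X : Type u} [AddCommGroup X] [Module R X] (𝒳 : ℤ → AddSubgroup X) [Decomposition 𝒳]
  [SetLike.GradedSMul 𝒜 𝒳]

theorem eq_zero_of_smul_homog (s : R) (y : X) (a b : ℤ) (hab : a < b)
    (ha : Function.Injective (fun x : X => (decompose 𝒜 s a : R) • x))
    (hb : Function.Injective (fun x : X => (decompose 𝒜 s b : R) • x))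
    (hrange : ∀ l : ℤ, (decompose 𝒜 s l : R) ≠ 0 → a ≤ l ∧ l ≤ b) {g : ℤ}
    (hsy : s • y ∈ 𝒳 g) : y = 0 := by
  classical
  by_contra hy
  obtain ⟨k0, hk0⟩ := exists_decompose_ne_zero 𝒳 hy
  have hmemsupp : ∀ k, (decompose 𝒳 y k : X) ≠ 0 → k ∈ (decompose 𝒳 y).support := by
    intro k hk
    rw [DFinsupp.mem_support_toFun]
    intro h0
    apply hk
    rw [h0]; rfl
  have hne : (decompose 𝒳 y).support.Nonempty := ⟨k0, hmemsupp k0 hk0⟩
  obtain ⟨c, hc⟩ : ∃ c, c = (decompose 𝒳 y).support.min' hne := ⟨_, rfl⟩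
  obtain ⟨d, hd⟩ : ∃ d, d = (decompose 𝒳 y).support.max' hne := ⟨_, rfl⟩
  have hcmem : c ∈ (decompose 𝒳 y).support := hc ▸ Finset.min'_mem _ hne
  have hdmem : d ∈ (decompose 𝒳 y).support := hd ▸ Finset.max'_mem _ hne
  have hlow : ∀ k, k < c → (decompose 𝒳 y k : X) = 0 := by
    intro k hk
    by_contra h0
    have := Finset.min'_le _ _ (hmemsupp k h0)
    rw [← hc] at this
    omega
  have hhigh : ∀ k, d < k → (decompose 𝒳 y k : X) = 0 := by
    intro k hk
    by_contra h0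
    have := Finset.le_max' _ _ (hmemsupp k h0)
    rw [← hd] at this
    omega
  have hcd : c ≤ d := by
    by_contra hcon
    push_neg at hcon
    have := hlow d hcon
    rw [DFinsupp.mem_support_toFun] at hdmem
    exact hdmem (Subtype.ext this)
  have hyc : (decompose 𝒳 y c : X) ≠ 0 := by
    rw [DFinsupp.mem_support_toFun] at hcmem
    intro h0
    exact hcmem (Subtype.ext h0)
  have hyd : (decompose 𝒳 y d : X) ≠ 0 := by
    rw [DFinsupp.mem_support_toFun] at hdmem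
    intro h0
    exact hdmem (Subtype.ext h0)
  have h1 : (decompose 𝒳 (s • y) (a + c) : X) =
      (decompose 𝒜 s a : R) • (decompose 𝒳 y c : X) := by
    rw [GrHDecH1.decompose_smul_eq_sum 𝒜 𝒳, Finset.sum_eq_single a]
    · rw [add_sub_cancel_left]
    · intro l hl hla
      rw [DFinsupp.mem_support_toFun] at hl
      have hl' : (decompose 𝒜 s l : R) ≠ 0 := fun h0 => hl (Subtype.ext h0)
      have := hrange l hl'
      rw [hlow (a + c - l) (by omega), smul_zero]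
    · intro hnot
      rw [DFinsupp.notMem_support_iff] at hnot
      rw [hnot, ZeroMemClass.coe_zero, zero_smul]
  have h2 : (decompose 𝒳 (s • y) (b + d) : X) =
      (decompose 𝒜 s b : R) • (decompose 𝒳 y d : X) := by
    rw [GrHDecH1.decompose_smul_eq_sum 𝒜 𝒳, Finset.sum_eq_single b]
    · rw [add_sub_cancel_left]
    · intro l hl hlb
      rw [DFinsupp.mem_support_toFun] at hl
      have hl' : (decompose 𝒜 s l : R) ≠ 0 := fun h0 => hl (Subtype.ext h0)
      have := hrange l hl'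
      rw [hhigh (b + d - l) (by omega), smul_zero]
    · intro hnot
      rw [DFinsupp.notMem_support_iff] at hnot
      rw [hnot, ZeroMemClass.coe_zero, zero_smul]
  have hac : a + c = g := by
    by_contra hne'
    have h3 := decompose_of_mem_ne 𝒳 hsy (fun h => hne' h.symm)
    rw [h1] at h3
    exact hyc (ha (h3.trans (smul_zero _).symm))
  have hbd : b + d = g := by
    by_contra hne'
    have h3 := decompose_of_mem_ne 𝒳 hsy (fun h => hne' h.symm)
    rw [h2] at h3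
    exact hyd (hb (h3.trans (smul_zero _).symm))
  omega

end degree

/-! ### choosing an element of a non-homogeneous prime -/
section choose

theorem exists_all_comp_notMem (p : Ideal R) (hp : ¬ p.IsHomogeneous 𝒜) :
    ∃ s ∈ p, (∃ i, (decompose 𝒜 s i : R) ∉ p) ∧
      ∀ j, (decompose 𝒜 s j : R) ≠ 0 → (decompose 𝒜 s j : R) ∉ p := by
  classical
  have key : ∀ n : ℕ, ∀ s : R, s ∈ p → (decompose 𝒜 s).support.card = n →
      (∃ i, (decompose 𝒜 s i : R) ∉ p) →
      ∃ s' ∈ p, (∃ i, (decompose 𝒜 s' i : R) ∉ p) ∧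
        ∀ j, (decompose 𝒜 s' j : R) ≠ 0 → (decompose 𝒜 s' j : R) ∉ p := by
    intro n
    refine Nat.strong_induction_on n ?_
    intro n ih s hs hcard hex
    by_cases hall : ∀ j, (decompose 𝒜 s j : R) ≠ 0 → (decompose 𝒜 s j : R) ∉ p
    · exact ⟨s, hs, hex, hall⟩
    · push_neg at hall
      obtain ⟨j, hj0, hjp⟩ := hall
      obtain ⟨i, hi⟩ := hex
      have hij : i ≠ j := by
        rintro rfl
        exact hi hjp
      obtain ⟨t, ht⟩ : ∃ t : R, t = s - (decompose 𝒜 s j : R) := ⟨_, rfl⟩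
      have htp : t ∈ p := ht ▸ p.sub_mem hs hjp
      have hsj_mem : (decompose 𝒜 s j : R) ∈ 𝒜 j := (decompose 𝒜 s j).2
      have htj : (decompose 𝒜 t j : R) = 0 := by
        rw [ht, decompose_sub, DirectSum.sub_apply, AddSubgroup.coe_sub,
          decompose_of_mem_same 𝒜 hsj_mem, sub_self]
      have htk : ∀ k, k ≠ j → (decompose 𝒜 t k : R) = (decompose 𝒜 s k : R) := by
        intro k hk
        rw [ht, decompose_sub, DirectSum.sub_apply, AddSubgroup.coe_sub,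
          decompose_of_mem_ne 𝒜 hsj_mem (Ne.symm hk), sub_zero]
      have hsupp : (decompose 𝒜 t).support ⊆ (decompose 𝒜 s).support.erase j := by
        intro k hk
        rw [DFinsupp.mem_support_toFun] at hk
        have hkj : k ≠ j := by
          rintro rfl
          apply hk
          exact Subtype.ext htj
        rw [Finset.mem_erase, DFinsupp.mem_support_toFun]
        refine ⟨hkj, fun h0 => hk ?_⟩
        apply Subtype.ext
        rw [htk k hkj, h0]
      have hjmem : j ∈ (decompose 𝒜 s).support := by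
        rw [DFinsupp.mem_support_toFun]
        intro h0
        apply hj0
        rw [h0]; rfl
      have hlt : (decompose 𝒜 t).support.card < n := by
        have h1 := Finset.card_le_card hsupp
        rw [Finset.card_erase_of_mem hjmem, hcard] at h1
        have h2 : 0 < n := hcard ▸ Finset.card_pos.2 ⟨j, hjmem⟩
        omega
      exact ih _ hlt t htp rfl ⟨i, by rw [htk i hij]; exact hi⟩
  have hp' : ∃ s ∈ p, ∃ i, (decompose 𝒜 s i : R) ∉ p := by
    by_contra hcon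
    push_neg at hcon
    exact hp (fun i s hs => hcon s hs i)
  obtain ⟨s, hs, hex⟩ := hp'
  exact key _ s hs rfl hex

end choose

/-! ### associated homogeneous primes -/
section ass

variable {M : Type u} [AddCommGroup M] [Module R M] (ℳ : ℤ → AddSubgroup M) [Decomposition ℳ]
  [SetLike.GradedSMul 𝒜 ℳ]

theorem smul_comp_eq_zero (q : Ideal R) (hqh : q.IsHomogeneous 𝒜) (z : M)
    (hz : ∀ c ∈ q, c • z = 0) (j : ℤ) : ∀ c ∈ q, c • (decompose ℳ z j : M) = 0 := by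
  classical
  intro r hr
  rw [← DirectSum.sum_support_decompose 𝒜 r, Finset.sum_smul]
  refine Finset.sum_eq_zero (fun l _ => ?_)
  have hl : (decompose 𝒜 r l : R) ∈ q := hqh l hr
  rw [← decompose_smul_homog 𝒜 ℳ (decompose 𝒜 r l).2 z j, hz _ hl, decompose_zero,
    DirectSum.zero_apply, ZeroMemClass.coe_zero]

theorem exists_homog_ann (q : Ideal R) (hqh : q.IsHomogeneous 𝒜) [hq : q.IsPrime] (x : M)
    (hx : ∀ r : R, r ∈ q ↔ r • x = 0) :
    ∃ (g : ℤ) (m : M), m ∈ ℳ g ∧ ∀ r : R, r • m = 0 ↔ r ∈ q := by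
  classical
  have h1 := smul_comp_eq_zero 𝒜 ℳ q hqh x (fun c hc => (hx c).1 hc)
  have h2 : ∃ i, ∀ r : R, r • (decompose ℳ x i : M) = 0 → r ∈ q := by
    by_contra hcon
    push_neg at hcon
    choose c hc0 hcq using hcon
    obtain ⟨C, hC⟩ : ∃ C : R, C = ∏ i ∈ (decompose ℳ x).support, c i := ⟨_, rfl⟩
    have hCq : C ∉ q := by
      rw [hC, Ideal.IsPrime.prod_mem_iff]
      rintro ⟨i, _, hi⟩
      exact hcq i hi
    apply hCq
    rw [hx]
    have : C • x = C • ∑ i ∈ (decompose ℳ x).support, (decompose ℳ x i : M) := by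
      rw [DirectSum.sum_support_decompose]
    rw [this, Finset.smul_sum]
    refine Finset.sum_eq_zero (fun i hi => ?_)
    obtain ⟨d, hd⟩ := Finset.dvd_prod_of_mem c hi
    rw [hC, hd, mul_comm, mul_smul, hc0 i, smul_zero]
  obtain ⟨i, hi⟩ := h2
  exact ⟨i, (decompose ℳ x i : M), (decompose ℳ x i).2, fun r => ⟨hi r, h1 i r⟩⟩

include ℳ in
theorem exists_homog_killer (q : Ideal R) (hqh : q.IsHomogeneous 𝒜) [hq : q.IsPrime]
    [IsNoetherianRing R] (hass : q ∉ associatedPrimes R M) (z : M) (hz : ∀ c ∈ q, c • z = 0) :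
    ∃ t : R, SetLike.IsHomogeneousElem 𝒜 t ∧ t ∉ q ∧ t • z = 0 := by
  classical
  have h1 := smul_comp_eq_zero 𝒜 ℳ q hqh z hz
  have h2 : ∀ j, ∃ t : R, SetLike.IsHomogeneousElem 𝒜 t ∧ t ∉ q ∧
      t • (decompose ℳ z j : M) = 0 := by
    intro j
    have hne : ∃ c : R, c • (decompose ℳ z j : M) = 0 ∧ c ∉ q := by
      by_contra hcon
      push_neg at hcon
      apply hass
      refine isAssociatedPrime_iff.2 ⟨hq, (decompose ℳ z j : M), ?_⟩
      ext c
      rw [Submodule.mem_colon_singleton, Submodule.mem_bot]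
      exact ⟨h1 j c, hcon c⟩
    obtain ⟨c, hc0, hcq⟩ := hne
    have hcomp : ∃ l, (decompose 𝒜 c l : R) ∉ q := by
      by_contra hcon
      push_neg at hcon
      apply hcq
      rw [← DirectSum.sum_support_decompose 𝒜 c]
      exact sum_mem (fun l _ => hcon l)
    obtain ⟨l, hl⟩ := hcomp
    refine ⟨(decompose 𝒜 c l : R), ⟨l, (decompose 𝒜 c l).2⟩, hl, ?_⟩
    have := decompose_smul_of_mem 𝒜 ℳ (decompose ℳ z j).2 c (l + j)
    rw [add_sub_cancel_right, hc0, decompose_zero, DirectSum.zero_apply,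
      ZeroMemClass.coe_zero] at this
    exact this.symm
  choose t ht1 ht2 ht3 using h2
  obtain ⟨T, hT⟩ : ∃ T : R, T = ∏ j ∈ (decompose ℳ z).support, t j := ⟨_, rfl⟩
  refine ⟨T, ?_, ?_, ?_⟩
  · rw [hT]
    exact prod_mem (S := SetLike.homogeneousSubmonoid 𝒜) (fun j _ => ht1 j)
  · rw [hT, Ideal.IsPrime.prod_mem_iff]
    rintro ⟨j, _, hj⟩
    exact ht2 j hj
  · have : T • z = T • ∑ j ∈ (decompose ℳ z).support, (decompose ℳ z j : M) := by
      rw [DirectSum.sum_support_decompose]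
    rw [this, Finset.smul_sum]
    refine Finset.sum_eq_zero (fun j hj => ?_)
    obtain ⟨d, hd⟩ := Finset.dvd_prod_of_mem t hj
    rw [hT, hd, mul_comm, mul_smul, ht3 j, smul_zero]

include ℳ in
theorem exists_common_killer (q : Ideal R) (hqh : q.IsHomogeneous 𝒜) [hq : q.IsPrime]
    [IsNoetherianRing R] (hass : q ∉ associatedPrimes R M) (N : Type u) [AddCommGroup N]
    [Module R N] [Module.Finite R N] (θ : N →ₗ[R] M) (hθ : ∀ n, ∀ c ∈ q, c • θ n = 0) :
    ∃ t : R, SetLike.IsHomogeneousElem 𝒜 t ∧ t ∉ q ∧ ∀ n, t • θ n = 0 := by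
  classical
  obtain ⟨S, hS⟩ := (Module.Finite.fg_top : (⊤ : Submodule R N).FG)
  have h2 : ∀ n : N, ∃ t : R, SetLike.IsHomogeneousElem 𝒜 t ∧ t ∉ q ∧ t • θ n = 0 :=
    fun n => exists_homog_killer 𝒜 ℳ q hqh hass (θ n) (hθ n)
  choose t ht1 ht2 ht3 using h2
  obtain ⟨T, hT⟩ : ∃ T : R, T = ∏ n ∈ S, t n := ⟨_, rfl⟩
  refine ⟨T, ?_, ?_, ?_⟩
  · rw [hT]
    exact prod_mem (S := SetLike.homogeneousSubmonoid 𝒜) (fun j _ => ht1 j)
  · rw [hT, Ideal.IsPrime.prod_mem_iff]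
    rintro ⟨j, _, hj⟩
    exact ht2 j hj
  · have hker : LinearMap.ker (T • θ) = ⊤ := by
      rw [eq_top_iff, ← hS, Submodule.span_le]
      intro n hn
      rw [SetLike.mem_coe, LinearMap.mem_ker, LinearMap.smul_apply]
      obtain ⟨d, hd⟩ := Finset.dvd_prod_of_mem t (Finset.mem_coe.1 hn)
      rw [hT, hd, mul_comm, mul_smul, ht3 n, smul_zero]
    intro n
    have : n ∈ LinearMap.ker (T • θ) := by rw [hker]; exact Submodule.mem_top
    rwa [LinearMap.mem_ker, LinearMap.smul_apply] at this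

end ass

/-! ### Baer's criterion, step by step -/
section baer

variable {M : Type u} [AddCommGroup M] [Module R M]

omit [GradedRing 𝒜] in
theorem baer_step (I : Ideal R) (φ : I →ₗ[R] M) (t : R) (z : M)
    (hz : ∀ (r : R) (h : r * t ∈ I), φ ⟨r * t, h⟩ = r • z)
    (hB : ∀ J : Ideal R, I ≤ J → t ∈ J → ∀ ψ : J →ₗ[R] M, ∃ x : M, ∀ a : J, ψ a = (a : R) • x) :
    ∃ x : M, ∀ a : I, φ a = (a : R) • x := by
  obtain ⟨σ, hσ⟩ : ∃ σ : (I × R) →ₗ[R] R, ∀ (i : I) (r : R), σ (i, r) = (i : R) + r * t :=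
    ⟨LinearMap.coprod I.subtype (LinearMap.toSpanSingleton R R t), fun i r => rfl⟩
  obtain ⟨Ψ, hΨ⟩ : ∃ Ψ : (I × R) →ₗ[R] M, ∀ (i : I) (r : R), Ψ (i, r) = φ i + r • z :=
    ⟨LinearMap.coprod φ (LinearMap.toSpanSingleton R M z), fun i r => rfl⟩
  have hker : LinearMap.ker σ ≤ LinearMap.ker Ψ := by
    rintro ⟨i, r⟩ hw
    rw [LinearMap.mem_ker, hσ] at hw
    have hrt : r * t = -(i : R) := eq_neg_of_add_eq_zero_right hw
    have hmem : r * t ∈ I := by rw [hrt]; exact I.neg_mem i.2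
    have h1 := hz r hmem
    have h2 : (⟨r * t, hmem⟩ : I) = -i := by
      apply Subtype.ext
      rw [Submodule.coe_neg]
      exact hrt
    rw [h2, map_neg] at h1
    rw [LinearMap.mem_ker, hΨ, ← h1, add_neg_cancel]
  have hψ : ∀ (w : I × R) (h : σ w ∈ LinearMap.range σ),
      ((LinearMap.ker σ).liftQ Ψ hker) (σ.quotKerEquivRange.symm ⟨σ w, h⟩) = Ψ w := by
    intro w h
    rw [LinearMap.quotKerEquivRange_symm_apply_image σ w h, Submodule.mkQ_apply,
      Submodule.liftQ_apply]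
  have hIJ : I ≤ LinearMap.range σ := by
    intro a ha
    exact ⟨(⟨a, ha⟩, 0), by rw [hσ, zero_mul, add_zero]⟩
  have htJ : t ∈ LinearMap.range σ :=
    ⟨(0, 1), by rw [hσ, Submodule.coe_zero, zero_add, one_mul]⟩
  obtain ⟨x, hx⟩ := hB (LinearMap.range σ) hIJ htJ
    (((LinearMap.ker σ).liftQ Ψ hker) ∘ₗ σ.quotKerEquivRange.symm.toLinearMap)
  refine ⟨x, fun a => ?_⟩
  have h3 := hx ⟨σ (a, 0), LinearMap.mem_range_self σ (a, 0)⟩
  rw [LinearMap.comp_apply, LinearEquiv.coe_coe, hψ, hΨ, zero_smul, add_zero] at h3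
  rw [h3]
  have h4 : σ (a, 0) = (a : R) := by rw [hσ, zero_mul, add_zero]
  change σ (a, 0) • x = _
  rw [h4]

omit [GradedRing 𝒜] in
theorem baer_nonprime (I : Ideal R) (hI : I ≠ ⊤) (hnp : ¬ I.IsPrime)
    (ih : ∀ J > I, ∀ ψ : J →ₗ[R] M, ∃ x : M, ∀ a : J, ψ a = (a : R) • x) (φ : I →ₗ[R] M) :
    ∃ x : M, ∀ a : I, φ a = (a : R) • x := by
  rw [Ideal.isPrime_iff, not_and_or] at hnp
  rcases hnp with h | h
  · exact absurd hI h
  push_neg at h
  obtain ⟨a, b, hab, ha, hb⟩ := h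
  obtain ⟨K, hK⟩ : ∃ K : Ideal R, ∀ r, r ∈ K ↔ r * a ∈ I :=
    ⟨Submodule.comap (LinearMap.toSpanSingleton R R a) I, fun r => Iff.rfl⟩
  have hIK : I < K := by
    rw [SetLike.lt_iff_le_and_exists]
    refine ⟨fun r hr => (hK r).2 (I.mul_mem_right a hr), b, (hK b).2 ?_, hb⟩
    rw [mul_comm]
    exact hab
  obtain ⟨φK, hφK⟩ : ∃ φK : K →ₗ[R] M, ∀ (r : R) (hr : r ∈ K),
      φK ⟨r, hr⟩ = φ ⟨r * a, (hK r).1 hr⟩ :=
    ⟨φ ∘ₗ (LinearMap.toSpanSingleton R R a).restrict (fun r hr => (hK r).1 hr),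
      fun r hr => rfl⟩
  obtain ⟨z, hz⟩ := ih K hIK φK
  have hz' : ∀ (r : R) (h : r * a ∈ I), φ ⟨r * a, h⟩ = r • z := by
    intro r h
    have := hz ⟨r, (hK r).2 h⟩
    rw [hφK] at this
    exact this
  exact baer_step I φ a z hz'
    (fun J hIJ haJ => ih J (SetLike.lt_iff_le_and_exists.2 ⟨hIJ, a, haJ, ha⟩))

variable (ℳ : ℤ → AddSubgroup M) [Decomposition ℳ] [SetLike.GradedSMul 𝒜 ℳ]

theorem baer_homog [IsNoetherianRing R] (hM : IsStarInj 𝒜 ℳ) (I : Ideal R)
    (hI : I.IsHomogeneous 𝒜) (φ : I →ₗ[R] M) : ∃ x : M, ∀ a : I, φ a = (a : R) • x := by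
  obtain ⟨ψ, hψ⟩ := exists_extension 𝒜 𝒜 ℳ hM I hI (IsNoetherian.noetherian I) φ
  refine ⟨ψ 1, fun a => ?_⟩
  rw [← hψ, LinearMap.comp_apply, Submodule.subtype_apply, ← ψ.map_smul, smul_eq_mul, mul_one]

theorem baer_prime [IsNoetherianRing R] (hM : IsStarInj 𝒜 ℳ) (p : Ideal R) [hp : p.IsPrime]
    (hass : (p.homogeneousCore 𝒜).toIdeal ∉ associatedPrimes R M)
    (ih : ∀ J > p, ∀ ψ : J →ₗ[R] M, ∃ x : M, ∀ a : J, ψ a = (a : R) • x) (φ : p →ₗ[R] M) :
    ∃ x : M, ∀ a : p, φ a = (a : R) • x := by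
  obtain ⟨q, hq⟩ : ∃ q : Ideal R, q = (p.homogeneousCore 𝒜).toIdeal := ⟨_, rfl⟩
  have hqh : q.IsHomogeneous 𝒜 := hq ▸ (p.homogeneousCore 𝒜).isHomogeneous
  haveI hqprime : q.IsPrime := hq ▸ Ideal.IsPrime.homogeneousCore (𝒜 := 𝒜) hp
  have hqp : q ≤ p := hq ▸ Ideal.toIdeal_homogeneousCore_le 𝒜 p
  rw [← hq] at hass
  obtain ⟨x₀, hx₀⟩ := baer_homog 𝒜 ℳ hM q hqh (φ ∘ₗ Submodule.inclusion hqp)
  obtain ⟨φ', hφ'⟩ : ∃ φ' : p →ₗ[R] M, ∀ a : p, φ' a = φ a - (a : R) • x₀ :=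
    ⟨φ - (LinearMap.toSpanSingleton R M x₀) ∘ₗ p.subtype, fun a => rfl⟩
  have hφ'q : ∀ (c : R) (hc : c ∈ q), φ' ⟨c, hqp hc⟩ = 0 := by
    intro c hc
    rw [hφ']
    have := hx₀ ⟨c, hc⟩
    rw [LinearMap.comp_apply] at this
    exact sub_eq_zero.2 this
  have hkill : ∀ (n : p), ∀ c ∈ q, c • φ' n = 0 := by
    intro n c hc
    rw [← φ'.map_smul]
    have : c • n = (n : R) • (⟨c, hqp hc⟩ : p) := by
      apply Subtype.ext
      rw [Submodule.coe_smul, Submodule.coe_smul, smul_eq_mul, smul_eq_mul]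
      exact mul_comm _ _
    rw [this, φ'.map_smul, hφ'q c hc, smul_zero]
  obtain ⟨t, hth, htq, ht⟩ := exists_common_killer 𝒜 ℳ q hqh hass p φ' hkill
  have htp : t ∉ p := by
    intro h
    apply htq
    rw [hq]
    exact Ideal.mem_homogeneousCore_of_homogeneous_of_mem hth h
  have hz : ∀ (r : R) (h : r * t ∈ p), φ' ⟨r * t, h⟩ = r • (0 : M) := by
    intro r h
    have hr : r ∈ p := (hp.mem_or_mem h).resolve_right htp
    have : (⟨r * t, h⟩ : p) = t • (⟨r, hr⟩ : p) := by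
      apply Subtype.ext
      rw [Submodule.coe_smul, smul_eq_mul]
      exact mul_comm _ _
    rw [this, φ'.map_smul, ht, smul_zero]
  obtain ⟨x', hx'⟩ := baer_step p φ' t 0 hz
    (fun J hpJ htJ => ih J (SetLike.lt_iff_le_and_exists.2 ⟨hpJ, t, htJ, htp⟩))
  refine ⟨x' + x₀, fun a => ?_⟩
  have := hx' a
  rw [hφ'] at this
  rw [smul_add, ← this, sub_add_cancel]

theorem injective_of_forall [IsNoetherianRing R] (hM : IsStarInj 𝒜 ℳ)
    (hAss : ∀ p : Ideal R, p.IsPrime → ¬ p.IsHomogeneous 𝒜 →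
      (p.homogeneousCore 𝒜).toIdeal ∉ associatedPrimes R M) : Module.Injective R M := by
  have hB : ∀ I : Ideal R, ∀ φ : I →ₗ[R] M, ∃ x : M, ∀ a : I, φ a = (a : R) • x := by
    intro I
    refine IsNoetherian.induction (P := fun I : Ideal R => ∀ φ : I →ₗ[R] M,
      ∃ x : M, ∀ a : I, φ a = (a : R) • x) ?_ I
    intro I ih φ
    by_cases hhom : I.IsHomogeneous 𝒜
    · exact baer_homog 𝒜 ℳ hM I hhom φ
    by_cases hprime : Ideal.IsPrime I
    · haveI := hprime
      exact baer_prime 𝒜 ℳ hM I (hAss I hprime hhom) ih φ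
    · exact baer_nonprime I (fun h => hhom (h ▸ Ideal.IsHomogeneous.top 𝒜)) hprime ih φ
  apply Module.Baer.injective
  intro I g
  obtain ⟨x, hx⟩ := hB I g
  refine ⟨LinearMap.toSpanSingleton R M x, fun r hr => ?_⟩
  rw [LinearMap.toSpanSingleton_apply]
  exact (hx ⟨r, hr⟩).symm

end baer

/-! ### the converse -/
section converse

variable {E : Type u} [AddCommGroup E] [Module R E] (𝓔 : ℤ → AddSubgroup E) [Decomposition 𝓔]
  [SetLike.GradedSMul 𝒜 𝓔]

include 𝒜 in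
theorem smul_injective_of_notMem {q : Ideal R} [hq : q.IsPrime] {u : E} {g₀ : ℤ}
    (h : PHull 𝓔 q u g₀) {s : R} (hs : s ∉ q) : Function.Injective (fun x : E => s • x) := by
  intro y y' hyy
  by_contra hne
  have hd : y - y' ≠ 0 := sub_ne_zero.2 hne
  have hsd : s • (y - y') = 0 := by
    rw [smul_sub]
    exact sub_eq_zero.2 hyy
  have hN : Submodule.span R {y - y'} ≠ ⊥ := by
    rw [Ne, Submodule.span_singleton_eq_bot]
    exact hd
  obtain ⟨t, ht1, ht2⟩ := PHull.exists_mem_span 𝒜 𝓔 h hN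
  obtain ⟨r, hr⟩ := Submodule.mem_span_singleton.1 ht1
  have h0 : (s * t) • u = 0 := by
    rw [mul_smul, ← hr, smul_comm, hsd, smul_zero]
  rw [h.ann] at h0
  rcases hq.mem_or_mem h0 with h1 | h1
  · exact hs h1
  · exact ht2 ((h.ann t).2 h1)

variable {M : Type u} [AddCommGroup M] [Module R M] (ℳ : ℤ → AddSubgroup M) [Decomposition ℳ]
  [SetLike.GradedSMul 𝒜 ℳ]

theorem not_injective_of_core_mem [IsNoetherianRing R] (hM : IsStarInj 𝒜 ℳ) (p : Ideal R)
    [hp : p.IsPrime] (hph : ¬ p.IsHomogeneous 𝒜)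
    (hass : (p.homogeneousCore 𝒜).toIdeal ∈ associatedPrimes R M) :
    ¬ Module.Injective R M := by
  classical
  intro hinj
  obtain ⟨q, hq⟩ : ∃ q : HomogeneousIdeal 𝒜, q = p.homogeneousCore 𝒜 := ⟨_, rfl⟩
  rw [← hq] at hass
  have hqp : q.toIdeal ≤ p := hq ▸ Ideal.toIdeal_homogeneousCore_le 𝒜 p
  haveI hqprime : q.toIdeal.IsPrime := IsAssociatedPrime.isPrime hass
  obtain ⟨-, x, hx⟩ := isAssociatedPrime_iff.1 (AssociatedPrimes.mem_iff.1 hass)
  have hx' : ∀ r : R, r ∈ q.toIdeal ↔ r • x = 0 := by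
    intro r
    rw [hx, Submodule.mem_colon_singleton, Submodule.mem_bot]
  obtain ⟨g₀, m, hm, hann⟩ := exists_homog_ann 𝒜 ℳ q.toIdeal q.isHomogeneous x hx'
  have hann' : (Submodule.span R {m}).annihilator = q.toIdeal := by
    ext r
    rw [Submodule.mem_annihilator_span_singleton, hann]
  obtain ⟨X, f, ψ, Q, hhull, hψinj, -, -, -, hcompl⟩ := main13223 𝒜 ℳ hM q g₀ m hm hann'
  obtain ⟨u, hu⟩ : ∃ u : X.carrier, u = f (Ideal.Quotient.mk q.toIdeal 1) := ⟨_, rfl⟩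
  have h1mem : (Ideal.Quotient.mk q.toIdeal 1) ∈ GrLC.quotGr 𝒜 q (g₀ - g₀) := by
    rw [sub_self]
    exact one_mem_quotGr 𝒜 q
  have hph' : PHull X.gr q.toIdeal u g₀ := by
    rw [hu]
    exact phull_of_ess X.gr q.toIdeal hhull.toIsStarEss h1mem
  obtain ⟨π, hπ⟩ : ∃ π : M →ₗ[R] X.carrier, ∀ y, π (ψ y) = y :=
    ⟨LinearMap.linearProjOfIsCompl Q ψ hψinj hcompl,
      LinearMap.linearProjOfIsCompl_apply_left Q ψ hψinj hcompl⟩
  obtain ⟨s, hsp, ⟨i, hi⟩, hall⟩ := exists_all_comp_notMem 𝒜 p hph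
  have hnq : ∀ l, (decompose 𝒜 s l : R) ≠ 0 → (decompose 𝒜 s l : R) ∉ q.toIdeal :=
    fun l hl h => hall l hl (hqp h)
  have hsq : s ∉ q.toIdeal := fun h => hi (hqp (q.isHomogeneous i h))
  have hsinj : Function.Injective (fun y : X.carrier => s • y) :=
    smul_injective_of_notMem 𝒜 X.gr hph' hsq
  have hsinj' : Function.Injective (LinearMap.lsmul R X.carrier s) := fun a b hab => hsinj hab
  obtain ⟨H, hH⟩ := hinj.out (LinearMap.lsmul R X.carrier s) hsinj' ψ
  obtain ⟨y0, hy0⟩ : ∃ y0 : X.carrier, y0 = π (H u) := ⟨_, rfl⟩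
  have hsy0 : s • y0 = u := by
    rw [hy0, ← π.map_smul, ← H.map_smul]
    have := hH u
    rw [LinearMap.lsmul_apply] at this
    rw [this, hπ]
  have hi0 : (decompose 𝒜 s i : R) ≠ 0 := fun h0 => hi (h0 ▸ p.zero_mem)
  have hcoe : ∀ l, l ∈ (decompose 𝒜 s).support → (decompose 𝒜 s l : R) ≠ 0 := by
    intro l hl h0
    rw [DFinsupp.mem_support_toFun] at hl
    exact hl (Subtype.ext h0)
  have hmemsupp : ∀ l, (decompose 𝒜 s l : R) ≠ 0 → l ∈ (decompose 𝒜 s).support := by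
    intro l hl
    rw [DFinsupp.mem_support_toFun]
    intro h0
    apply hl
    rw [h0]; rfl
  have hne : (decompose 𝒜 s).support.Nonempty := ⟨i, hmemsupp i hi0⟩
  obtain ⟨a, ha⟩ : ∃ a, a = (decompose 𝒜 s).support.min' hne := ⟨_, rfl⟩
  obtain ⟨b, hb⟩ : ∃ b, b = (decompose 𝒜 s).support.max' hne := ⟨_, rfl⟩
  have hamem : a ∈ (decompose 𝒜 s).support := ha ▸ Finset.min'_mem _ hne
  have hbmem : b ∈ (decompose 𝒜 s).support := hb ▸ Finset.max'_mem _ hne
  have hrange : ∀ l : ℤ, (decompose 𝒜 s l : R) ≠ 0 → a ≤ l ∧ l ≤ b := by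
    intro l hl
    have := hmemsupp l hl
    exact ⟨ha ▸ Finset.min'_le _ _ this, hb ▸ Finset.le_max' _ _ this⟩
  have hab : a < b := by
    rcases lt_or_eq_of_le (hrange a (hcoe a hamem)).2 with h | h
    · exact h
    exfalso
    have hsum := DirectSum.sum_support_decompose 𝒜 s
    rw [Finset.sum_eq_single a] at hsum
    · apply hall a (hcoe a hamem)
      rw [hsum]
      exact hsp
    · intro l hl hla
      exfalso
      have := hrange l (hcoe l hl)
      omega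
    · intro hnot
      exact absurd hamem hnot
  have hy00 : y0 = 0 := eq_zero_of_smul_homog 𝒜 X.gr s y0 a b hab
    (smul_injective_of_phull 𝒜 X.gr hph' (decompose 𝒜 s a).2 (hnq a (hcoe a hamem)))
    (smul_injective_of_phull 𝒜 X.gr hph' (decompose 𝒜 s b).2 (hnq b (hcoe b hbmem)))
    hrange (g := g₀) (by rw [hsy0]; exact hph'.mem)
  apply hph'.ne_zero X.gr hqprime.ne_top
  rw [← hsy0, hy00, smul_zero]

end converse

theorem main18635 (R : Type u) [CommRing R] [IsNoetherianRing R] (𝒜 : ℤ → AddSubgroup R)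
    [GradedRing 𝒜] (M : Type u) [AddCommGroup M] [Module R M] (ℳ : ℤ → AddSubgroup M)
    [DirectSum.Decomposition ℳ] [SetLike.GradedSMul 𝒜 ℳ] (hM : GrLC.IsStarInj 𝒜 ℳ) :
    ¬ Module.Injective R M ↔ ∃ p : Ideal R, p.IsPrime ∧ ¬ Ideal.IsHomogeneous 𝒜 p ∧
      (Ideal.homogeneousCore 𝒜 p).toIdeal ∈ associatedPrimes R M := by
  constructor
  · intro hni
    by_contra hcon
    exact hni (injective_of_forall 𝒜 ℳ hM (fun p hp hph hass => hcon ⟨p, hp, hph, hass⟩))
  · rintro ⟨p, hp, hph, hass⟩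
    haveI := hp
    exact not_injective_of_core_mem 𝒜 ℳ hM p hph hass

end Groth.Agent.Lib.StarInjAssH1
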