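import Mathlib

/-! # The standard simplex is 1-coskeletal (lead) -/

set_option autoImplicit false
set_option linter.unusedSimpArgs false
set_option linter.unusedVariables false
set_option linter.unusedSectionVars false
set_option linter.style.longLine false
set_option linter.unnecessarySimpa false
set_option maxHeartbeats 1600000
set_option backward.isDefEq.respectTransparency false
set_option backward.isDefEq.respectTransparency.types false
set_option backward.defeqAttrib.useBackward true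

universe u

open CategoryTheory Simplicial SimplexCategory Truncated Opposite Category Functor Limits
  StructuredArrow SSet SSet.Truncated

namespace Groth.Agent.Lib.StdCosk

variable {n : ℕ}

/-- structured arrows from simplices of dimension `≤ 1` -/
abbrev strArrowMk₁ {i m : ℕ} (φ : ⦋i⦌ ⟶ ⦋m⦌) (hi : i ≤ 1 := by lia) :
    StructuredArrow (op ⦋m⦌) (SimplexCategory.Truncated.inclusion 1).op :=
  StructuredArrow.mk (Y := op ⦋i⦌₁) φ.op

variable {m : ℕ}
  (s : Cone (proj (op ⦋m⦌) (SimplexCategory.Truncated.inclusion 1).op ⋙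
    (SimplexCategory.Truncated.inclusion 1).op ⋙ (Δ[n] : SSet.{u})))
  (x : s.pt)

/-- evaluation of a simplex of the standard simplex at a vertex -/
def ev {n i : ℕ} (y : (Δ[n] : SSet.{u}) _⦋i⦌) (t : Fin (i + 1)) : Fin (n + 1) := y t

/-- the `k`-th vertex of the simplex to be constructed -/
def vtx (k : Fin (m + 1)) : Fin (n + 1) :=
  ev (s.π.app (strArrowMk₁ (⦋0⦌.const ⦋m⦌ k)) x) 0

lemma compat {i : ℕ} (hi : i ≤ 1) (φ : ⦋i⦌ ⟶ ⦋m⦌) (t : Fin (i + 1)) :
    ev (s.π.app (strArrowMk₁ φ hi) x) t = vtx s x (φ.toOrderHom t) := by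
  let α : strArrowMk₁ φ hi ⟶ strArrowMk₁ (⦋0⦌.const ⦋m⦌ (φ.toOrderHom t)) :=
    StructuredArrow.homMk ((Hom.tr (⦋0⦌.const _ (by exact t))).op) (by simp; rfl)
  have := ConcreteCategory.congr_hom (s.w α) x
  unfold vtx
  exact congrArg (fun y => ev (n := n) (i := 0) y 0) this

lemma vtx_mono : Monotone (vtx s x) := by
  intro k k' hkk'
  have h0 := compat s x le_rfl (mkOfLe k k' hkk') 0
  have h1 := compat s x le_rfl (mkOfLe k k' hkk') 1
  have hm : ev (s.π.app (strArrowMk₁ (mkOfLe k k' hkk')) x) 0 ≤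
      ev (s.π.app (strArrowMk₁ (mkOfLe k k' hkk')) x) 1 :=
    SSet.stdSimplex.monotone_apply _ (Fin.zero_le 1)
  have e0 : (mkOfLe k k' hkk').toOrderHom 0 = k := rfl
  have e1 : (mkOfLe k k' hkk').toOrderHom 1 = k' := rfl
  rw [e0] at h0
  rw [e1] at h1
  rw [← h0, ← h1]
  exact hm

/-- the simplex with the given vertices -/
noncomputable def lift : (Δ[n] : SSet.{u}) _⦋m⦌ :=
  SSet.stdSimplex.objMk (n := ⦋n⦌) (m := op ⦋m⦌) ⟨vtx s x, vtx_mono s x⟩

lemma lift_apply (k : Fin (m + 1)) : (lift s x) k = vtx s x k := rfl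

lemma map_apply' {i m : ℕ} (f : ⦋i⦌ ⟶ ⦋m⦌) (y : (Δ[n] : SSet.{u}) _⦋m⦌) (t : Fin (i + 1)) :
    ((Δ[n] : SSet.{u}).map f.op y : (Δ[n] : SSet.{u}) _⦋i⦌) t = y (f.toOrderHom t) := rfl

/-- the cone is a limit cone -/
noncomputable def isPointwiseRightKanExtensionAt (m : ℕ) :
    (rightExtensionInclusion (Δ[n] : SSet.{u}) 1).IsPointwiseRightKanExtensionAt ⟨⦋m⦌⟩ where
  lift s := ↾fun x ↦ lift s x
  fac s j := by
    ext x
    obtain ⟨⟨i, hi⟩, ⟨f : _ ⟶ _⟩, rfl⟩ := j.mk_surjective
    obtain ⟨i, rfl⟩ : ∃ j, ⦋j⦌ = i := ⟨_, i.mk_len⟩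
    dsimp at hi ⊢
    refine SSet.stdSimplex.ext _ _ (fun t => ?_)
    exact (map_apply' f (lift s x) t).trans ((lift_apply s x _).trans (compat s x hi f t).symm)
  uniq s m' hm := by
    ext x
    refine SSet.stdSimplex.ext _ _ (fun k => ?_)
    have h := ConcreteCategory.congr_hom (hm (strArrowMk₁ (⦋0⦌.const ⦋m⦌ k))) x
    show ev (m' x) k = vtx s x k
    unfold vtx
    exact congrArg (fun y => ev (n := n) (i := 0) y 0) h

noncomputable def isPointwiseRightKanExtension :
    (rightExtensionInclusion (Δ[n] : SSet.{u}) 1).IsPointwiseRightKanExtension :=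
  fun Δ => isPointwiseRightKanExtensionAt Δ.unop.len

theorem main (n : ℕ) :
    SimplicialObject.IsCoskeletal (SSet.stdSimplex.{u}.obj (SimplexCategory.mk n)) 1 where
  isRightKanExtension :=
    RightExtension.IsPointwiseRightKanExtension.isRightKanExtension
      (isPointwiseRightKanExtension (n := n))

end Groth.Agent.Lib.StdCosk
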