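import Mathlib
import Groth.Prelude

set_option autoImplicit false
set_option linter.style.haveILetI false
set_option linter.unusedVariables false

universe u

open MvPolynomial

namespace Groth.Agent.Lib.StdSmoothVarsH4

variable {A : Type u} [CommRing A] {n : ℕ}

theorem sub_C_eval_mem (v : Fin n → A) (p : MvPolynomial (Fin n) A) :
    p - C (aeval v p) ∈
      Ideal.span (Set.range fun i => (X i - C (v i) : MvPolynomial (Fin n) A)) := by
  induction p using MvPolynomial.induction_on with
  | C a =>
      have h : (aeval v (C a : MvPolynomial (Fin n) A) : A) = a := by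
        rw [MvPolynomial.aeval_C]; rfl
      rw [h, sub_self]
      exact Ideal.zero_mem _
  | add p q hp hq =>
      have h : (p + q) - C (aeval v (p + q)) = (p - C (aeval v p)) + (q - C (aeval v q)) := by
        rw [_root_.map_add, C_add]; ring
      rw [h]
      exact Ideal.add_mem _ hp hq
  | mul_X p i hp =>
      have h : p * X i - C (aeval v (p * X i)) =
          (p - C (aeval v p)) * X i + C (aeval v p) * (X i - C (v i)) := by
        rw [_root_.map_mul, aeval_X, C_mul]; ring
      rw [h]
      exact Ideal.add_mem _ (Ideal.mul_mem_right _ _ hp)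
        (Ideal.mul_mem_left _ _ (Ideal.subset_span ⟨i, rfl⟩))

theorem ker_aeval_eq (v : Fin n → A) :
    RingHom.ker (aeval v : MvPolynomial (Fin n) A →ₐ[A] A) =
      Ideal.span (Set.range fun i => (X i - C (v i) : MvPolynomial (Fin n) A)) := by
  apply le_antisymm
  · intro p hp
    have h0 : (aeval v p : A) = 0 := hp
    have h := sub_C_eval_mem v p
    rw [h0, C_0, sub_zero] at h
    exact h
  · rw [Ideal.span_le]
    rintro _ ⟨i, rfl⟩
    show (aeval v (X i - C (v i) : MvPolynomial (Fin n) A) : A) = 0
    rw [_root_.map_sub, aeval_X, MvPolynomial.aeval_C]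
    exact sub_self _

noncomputable def genQ (v : Fin n → A) : Algebra.Generators A A (Fin n) where
  val := v
  σ' := fun a => C a
  aeval_val_σ' := fun a => by rw [MvPolynomial.aeval_C]; rfl

noncomputable def presQ (v : Fin n → A) : Algebra.Presentation A A (Fin n) (Fin n) where
  toGenerators := genQ v
  relation := fun i => (X i - C (v i) : MvPolynomial (Fin n) A)
  span_range_relation_eq_ker := by
    rw [Algebra.Generators.ker_eq_ker_aeval_val]
    exact (ker_aeval_eq v).symm

noncomputable def preQ (v : Fin n → A) :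
    Algebra.PreSubmersivePresentation A A (Fin n) (Fin n) where
  toPresentation := presQ v
  map := id
  map_inj := Function.injective_id

theorem jacobiMatrix_preQ (v : Fin n → A) : (preQ v).jacobiMatrix = 1 := by
  refine Matrix.ext fun i j => ?_
  rw [Algebra.PreSubmersivePresentation.jacobiMatrix_apply]
  show pderiv i (X j - C (v j) : MvPolynomial (Fin n) A) = (1 : Matrix (Fin n) (Fin n) _) i j
  rw [_root_.map_sub, pderiv_X, pderiv_C, sub_zero, Matrix.one_apply, Pi.single_apply]
  by_cases h : i = j
  · rw [if_pos h, if_pos h.symm]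
  · rw [if_neg h, if_neg (Ne.symm h)]

noncomputable def subQ (v : Fin n → A) :
    Algebra.SubmersivePresentation A A (Fin n) (Fin n) where
  toPreSubmersivePresentation := preQ v
  jacobian_isUnit := by
    rw [Algebra.PreSubmersivePresentation.jacobian_eq_jacobiMatrix_det, jacobiMatrix_preQ,
      Matrix.det_one, _root_.map_one]
    exact isUnit_one

theorem main {R A : Type u} [CommRing R] [CommRing A] [Algebra R A]
    [Algebra.IsStandardSmooth R A] (E : Finset A) :
    ∃ (ι σ : Type) (_ : Finite ι) (_ : Finite σ) (P : Algebra.SubmersivePresentation R A ι σ),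
      (↑E : Set A) ⊆ Set.range (P.val ∘ P.map) := by
  obtain ⟨ι₀, σ₀, hσ₀, hι₀, ⟨P₀⟩⟩ := Algebra.IsStandardSmooth.out (R := R) (S := A)
  let v : Fin E.card → A := fun i => ((E.equivFin.symm i : ↥E) : A)
  refine ⟨Fin E.card ⊕ ι₀, Fin E.card ⊕ σ₀, inferInstance, inferInstance,
    (subQ v).comp P₀, ?_⟩
  intro e he
  refine ⟨Sum.inl (E.equivFin ⟨e, he⟩), ?_⟩
  show v (E.equivFin ⟨e, he⟩) = e
  show ((E.equivFin.symm (E.equivFin ⟨e, he⟩) : ↥E) : A) = e
  rw [Equiv.symm_apply_apply]

end Groth.Agent.Lib.StdSmoothVarsH4
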