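import Mathlib
import Groth.Prelude

/-!
# Etale universally injective surjective morphisms are isomorphisms (helper8)
APPEND-ONLY once landed.
-/

set_option autoImplicit false
set_option linter.all false
set_option maxHeartbeats 1600000

universe u

open CategoryTheory CategoryTheory.Limits AlgebraicGeometry

namespace Groth.Agent.Lib.SteinBCH8

theorem isIso_of_etale_of_universallyInjective {X Y : Scheme.{u}} (ν : X ⟶ Y) [Etale ν]
    [UniversallyInjective ν] [Surjective ν] [QuasiCompact ν] : IsIso ν := by
  haveI : Surjective (pullback.diagonal ν) :=
    (UniversallyInjective.iff_diagonal ν).mp inferInstance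
  haveI : IsOpenImmersion (pullback.diagonal ν) := inferInstance
  haveI : IsIso (pullback.diagonal ν) :=
    (isIso_iff_isOpenImmersion_and_surjective _).mpr ⟨inferInstance, inferInstance⟩
  haveI : Mono ν := (pullback.isIso_diagonal_iff ν).mp inferInstance
  exact Flat.isIso_of_surjective_of_mono ν

end Groth.Agent.Lib.SteinBCH8
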