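import Mathlib
import Groth.Prelude
import Groth.Agent.Lib.SteinNN2_helper8
import Groth.Agent.Lib.SteinUH_helper6

/-!
# Stein factorization and base change (helper4)

The comparison map from the Stein factor of a base change of a proper morphism to the base change
of the Stein factor is a universal homeomorphism.
APPEND-ONLY once landed.
-/

set_option autoImplicit false
set_option linter.all false
set_option maxHeartbeats 1600000

universe u

open CategoryTheory CategoryTheory.Limits AlgebraicGeometry MorphismProperty

namespace Groth.Agent.Lib.SteinBCH4

/-- If `a ≫ b` has geometrically connected fibres and `a` is surjective, then `b` has geometrically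
connected fibres. -/
theorem geometricallyConnected_of_comp {X Y Z : Scheme.{u}} (a : X ⟶ Y) (b : Y ⟶ Z)
    [Surjective a] [GeometricallyConnected (a ≫ b)] : GeometricallyConnected b := by
  refine ⟨geometrically_iff_of_isClosedUnderIsomorphisms.mpr fun K _ y => ?_⟩
  haveI : ConnectedSpace ↥(pullback (a ≫ b) y) :=
    pullback_of_geometrically
      (GeometricallyConnected.geometrically_connectedSpace (f := a ≫ b)) K y
  obtain ⟨m, hm⟩ : ∃ m : pullback (a ≫ b) y ⟶ pullback b y,
      m = pullback.lift (pullback.fst (a ≫ b) y ≫ a) (pullback.snd (a ≫ b) y)
        (by rw [Category.assoc, pullback.condition]) :=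
    ⟨_, rfl⟩
  have hm1 : m ≫ pullback.fst b y = pullback.fst (a ≫ b) y ≫ a := by
    rw [hm]; exact pullback.lift_fst _ _ _
  have hm2 : m ≫ pullback.snd b y = pullback.snd (a ≫ b) y := by
    rw [hm]; exact pullback.lift_snd _ _ _
  have hs : IsPullback (m ≫ pullback.snd b y) (pullback.fst (a ≫ b) y) y (a ≫ b) := by
    rw [hm2]
    exact (IsPullback.of_hasPullback (a ≫ b) y).flip
  have hsq : IsPullback m (pullback.fst (a ≫ b) y) (pullback.fst b y) a :=
    IsPullback.of_right hs hm1 (IsPullback.of_hasPullback b y).flip
  haveI : Surjective m := MorphismProperty.of_isPullback (P := @Surjective) hsq.flip inferInstance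
  have hr : Set.range m = Set.univ := m.surjective.range_eq
  show ConnectedSpace ↥(pullback b y)
  rw [connectedSpace_iff_univ, ← hr, ← Set.image_univ]
  exact isConnected_univ.image _ m.continuous.continuousOn

/-- **Stein factorization and base change**: the canonical morphism from the Stein factor of the
base change to the base change of the Stein factor is a universal homeomorphism. -/
theorem main7845 {X S T : Scheme.{u}} (f : X ⟶ S) [IsProper f] (g : T ⟶ S) :
    FlatMor.IsUnivHomeo (f.normalizationPullback g) := by
  obtain ⟨m, hm⟩ : ∃ m : pullback f g ⟶ pullback f.fromNormalization g,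
      m = pullback.map f g f.fromNormalization g f.toNormalization (𝟙 _) (𝟙 _)
        (by simp) (by simp) := ⟨_, rfl⟩
  have hfac : (pullback.snd f g).toNormalization ≫ f.normalizationPullback g = m := by
    rw [hm]
    exact (pullback.snd f g).toNormalization_normalizationDesc _ _ _
  have hm1 : m ≫ pullback.fst f.fromNormalization g = pullback.fst f g ≫ f.toNormalization := by
    rw [hm]; exact pullback.lift_fst _ _ _
  have hm2 : m ≫ pullback.snd f.fromNormalization g = pullback.snd f g := by
    rw [hm]; exact (pullback.lift_snd _ _ _).trans (Category.comp_id _)
  have hs : IsPullback (m ≫ pullback.snd f.fromNormalization g) (pullback.fst f g) g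
      (f.toNormalization ≫ f.fromNormalization) := by
    rw [hm2, f.toNormalization_fromNormalization]
    exact (IsPullback.of_hasPullback f g).flip
  have hsq : IsPullback m (pullback.fst f g) (pullback.fst f.fromNormalization g)
      f.toNormalization :=
    IsPullback.of_right hs hm1 (IsPullback.of_hasPullback f.fromNormalization g).flip
  haveI : GeometricallyConnected f.toNormalization :=
    Groth.Agent.Lib.SteinNNH8.geometricallyConnected_toNormalization f
  haveI : GeometricallyConnected m :=
    MorphismProperty.of_isPullback (P := @GeometricallyConnected) hsq.flip inferInstance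
  haveI : Surjective (pullback.snd f g).toNormalization :=
    surjective_of_isDominant_of_isClosed_range _
      (pullback.snd f g).toNormalization.isClosedMap.isClosed_range
  haveI : GeometricallyConnected
      ((pullback.snd f g).toNormalization ≫ f.normalizationPullback g) := by
    rw [hfac]; infer_instance
  haveI : GeometricallyConnected (f.normalizationPullback g) :=
    geometricallyConnected_of_comp (pullback.snd f g).toNormalization (f.normalizationPullback g)
  haveI := Groth.Agent.Lib.UnivHomeo.universallyInjective_of_isIntegralHom_of_geometricallyConnected
    (f.normalizationPullback g)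
  rw [Groth.Agent.Lib.UnivHomeo.isUnivHomeo_iff]
  exact ⟨inferInstance, inferInstance, inferInstance⟩

end Groth.Agent.Lib.SteinBCH4
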