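import Mathlib
import Groth.Prelude.Def_FEt
import Groth.Agent.Lib.FEtFull_helper4
import Groth.Agent.Lib.SchemeIdem_helper3

/-! # `O_S ≅ f_* O_X` is stable under finite locally free base change; consequences for finite étale
covers (lead) -/

set_option autoImplicit false
set_option backward.isDefEq.respectTransparency false
set_option linter.unusedSimpArgs false
set_option linter.unusedVariables false
set_option linter.unusedSectionVars false
set_option linter.style.longLine false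
set_option linter.style.haveILetI false
set_option linter.unnecessarySimpa false
set_option maxHeartbeats 1600000

universe u

open CategoryTheory CategoryTheory.Limits AlgebraicGeometry TopologicalSpace Opposite

namespace Groth.Agent.Lib.SteinFEt

section RingLemmas

/-- Dual basis of a finite flat finitely presented ring map, in ring-theoretic terms. -/
theorem exists_dualBasis {A B : Type u} [CommRing A] [CommRing B] (α : A →+* B)
    (hfin : α.Finite) (hflat : α.Flat) (hfp : α.FinitePresentation) :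
    ∃ (n : ℕ) (p : Fin n → B) (lam : Fin n → B → A),
      (∀ l x y, lam l (x + y) = lam l x + lam l y) ∧
      (∀ l a x, lam l (α a * x) = a * lam l x) ∧
      ∀ x, x = ∑ l, α (lam l x) * p l := by
  algebraize [α]
  haveI : Module.FinitePresentation A B := Module.FinitePresentation.of_finite_of_finitePresentation A B
  haveI : Module.Projective A B := Module.Flat.projective_of_finitePresentation
  obtain ⟨n, π, hπ⟩ := Module.Finite.exists_fin' A B
  obtain ⟨σ, hσ⟩ := Module.projective_lifting_property π LinearMap.id hπ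
  refine ⟨n, fun l => π (fun j => if l = j then 1 else 0), fun l x => σ x l, ?_, ?_, ?_⟩
  · intro l x y
    simp
  · intro l a x
    have h1 : α a * x = a • x := (Algebra.smul_def a x).symm
    show σ (α a * x) l = a * σ x l
    rw [h1, map_smul]
    rfl
  · intro x
    have h1 : π (σ x) = x := LinearMap.congr_fun hσ x
    conv_lhs => rw [← h1, LinearMap.pi_apply_eq_sum_univ π (σ x)]
    refine Finset.sum_congr rfl fun l _ => ?_
    rw [Algebra.smul_def]
    rfl

/-- Coordinate functions on a pushout `D = C ⊗_A B` relative to a dual basis of `B` over `A`. -/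
structure Coords {A B C D : CommRingCat.{u}} (α : A ⟶ B) (γ : A ⟶ C) (β : B ⟶ D) (δ : C ⟶ D)
    {n : ℕ} (p : Fin n → B) (lam : Fin n → B → A) where
  Λ : Fin n → D → C
  zero : ∀ l, Λ l 0 = 0
  add : ∀ l d d', Λ l (d + d') = Λ l d + Λ l d'
  mul : ∀ l (c' : C) (d : D), Λ l (δ.hom c' * d) = c' * Λ l d
  beta : ∀ l (x : B), Λ l (β.hom x) = γ.hom (lam l x)
  expand : ∀ d : D, d = ∑ l, δ.hom (Λ l d) * β.hom (p l)
  ind : ∀ (P : D → Prop), P 0 → (∀ x : B, P (β.hom x)) →
    (∀ (c' : C) (d : D), P d → P (δ.hom c' * d)) → (∀ d d', P d → P d' → P (d + d')) → ∀ d, P d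

theorem nonempty_coords {A B C D : CommRingCat.{u}} {α : A ⟶ B} {γ : A ⟶ C} {β : B ⟶ D}
    {δ : C ⟶ D} (h : IsPushout α γ β δ) {n : ℕ} (p : Fin n → B) (lam : Fin n → B → A)
    (hl1 : ∀ l x y, lam l (x + y) = lam l x + lam l y)
    (hl2 : ∀ l a x, lam l (α.hom a * x) = a * lam l x)
    (hl3 : ∀ x, x = ∑ l, α.hom (lam l x) * p l) :
    Nonempty (Coords α γ β δ p lam) := by
  have h' := h.flip
  have hw : ∀ a : A, β.hom (α.hom a) = δ.hom (γ.hom a) := fun a => by
    have := h.w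
    exact congr($(this).hom a)
  algebraize [γ.hom, α.hom, δ.hom, β.hom, δ.hom.comp γ.hom]
  haveI : IsScalarTower A B D := .of_algebraMap_eq' <| congr($(h'.1.1).hom)
  have hP : Algebra.IsPushout A C B D := CommRingCat.isPushout_iff_isPushout.mp h'
  have hBC : IsBaseChange C (IsScalarTower.toAlgHom A B D).toLinearMap := hP.out
  have hsm : ∀ (c' : C) (d : D), c' • d = δ.hom c' * d := fun c' d => Algebra.smul_def c' d
  let lamL : Fin n → (B →ₗ[A] C) := fun l =>
    { toFun := fun x => γ.hom (lam l x)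
      map_add' := fun x y => by rw [hl1, map_add]
      map_smul' := fun a x => by
        have e1 : a • x = α.hom a * x := Algebra.smul_def a x
        have e2 : ∀ y : C, a • y = γ.hom a * y := fun y => Algebra.smul_def a y
        simp only [RingHom.id_apply]
        rw [e1, hl2, map_mul, e2] }
  have hind : ∀ (P : D → Prop), P 0 → (∀ x : B, P (β.hom x)) →
      (∀ (c' : C) (d : D), P d → P (δ.hom c' * d)) → (∀ d d', P d → P d' → P (d + d')) →
      ∀ d, P d := by
    intro P h0 hβ hmul hadd d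
    refine hBC.inductionOn d P h0 (fun x => hβ x) (fun s n hn => ?_) hadd
    rw [hsm]
    exact hmul s n hn
  have hΛβ : ∀ l (x : B), hBC.lift (lamL l) (β.hom x) = γ.hom (lam l x) :=
    fun l x => hBC.lift_eq (lamL l) x
  have hΛmul : ∀ l (c' : C) (d : D),
      hBC.lift (lamL l) (δ.hom c' * d) = c' * hBC.lift (lamL l) d := by
    intro l c' d
    rw [← hsm, map_smul]
    rfl
  refine ⟨⟨fun l d => hBC.lift (lamL l) d, fun l => map_zero _, fun l d d' => map_add _ _ _,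
    hΛmul, hΛβ, ?_, hind⟩⟩
  intro d
  refine hind (fun d => d = ∑ l, δ.hom (hBC.lift (lamL l) d) * β.hom (p l)) ?_ ?_ ?_ ?_ d
  · simp
  · intro x
    simp only [hΛβ]
    conv_lhs => rw [hl3 x]
    rw [map_sum]
    refine Finset.sum_congr rfl fun l _ => ?_
    rw [map_mul, hw]
  · intro c' d hd
    simp only [hΛmul, map_mul]
    conv_lhs => rw [hd, Finset.mul_sum]
    refine Finset.sum_congr rfl fun l _ => ?_
    ring
  · intro d d' hd hd'
    simp only [map_add, add_mul, Finset.sum_add_distrib]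
    rw [← hd, ← hd']

theorem coords_natural {A B C D C' D' : CommRingCat.{u}} {α : A ⟶ B} {γ : A ⟶ C} {β : B ⟶ D}
    {δ : C ⟶ D} {γ' : A ⟶ C'} {β' : B ⟶ D'} {δ' : C' ⟶ D'} {n : ℕ} {p : Fin n → B}
    {lam : Fin n → B → A} (K : Coords α γ β δ p lam) (K' : Coords α γ' β' δ' p lam)
    (ρC : C ⟶ C') (ρD : D ⟶ D') (h1 : γ ≫ ρC = γ') (h2 : β ≫ ρD = β') (h3 : δ ≫ ρD = ρC ≫ δ')
    (l : Fin n) (d : D) : K'.Λ l (ρD.hom d) = ρC.hom (K.Λ l d) := by
  have e1 : ∀ a : A, ρC.hom (γ.hom a) = γ'.hom a := fun a => by rw [← h1]; rfl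
  have e2 : ∀ x : B, ρD.hom (β.hom x) = β'.hom x := fun x => by rw [← h2]; rfl
  have e3 : ∀ c' : C, ρD.hom (δ.hom c') = δ'.hom (ρC.hom c') := fun c' => by
    have := congr($(h3).hom c')
    exact this
  refine K.ind (fun d => K'.Λ l (ρD.hom d) = ρC.hom (K.Λ l d)) ?_ ?_ ?_ ?_ d
  · simp only [map_zero, K.zero, K'.zero]
  · intro x
    rw [e2, K'.beta, K.beta, e1]
  · intro c' d hd
    rw [map_mul, e3, K'.mul, K.mul, map_mul, hd]
  · intro d d' hd hd'
    rw [map_add, K'.add, K.add, map_add, hd, hd']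

end RingLemmas

section Sheaf

theorem res_res {Z : Scheme.{u}} {U V W : Z.Opens} (i : op U ⟶ op V) (j : op V ⟶ op W)
    (k : op U ⟶ op W) (x : Γ(Z, U)) :
    Z.presheaf.map j (Z.presheaf.map i x) = Z.presheaf.map k x := by
  rw [← ConcreteCategory.comp_apply, ← Functor.map_comp]
  rw [show i ≫ j = k from Subsingleton.elim _ _]

theorem exists_affine_nhd (Z : Scheme.{u}) {T : Z.Opens} {z : Z} (hz : z ∈ T) :
    ∃ V : Z.Opens, IsAffineOpen V ∧ z ∈ V ∧ V ≤ T := by
  obtain ⟨V, hV, hzV, hVT⟩ := (Opens.isBasis_iff_nbhd.mp Z.isBasis_affineOpens) hz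
  exact ⟨V, hV, hzV, hVT⟩

theorem glue_of_refinement {Z : Scheme.{u}} {ι : Type u} (O : ι → Z.Opens) (T : Z.Opens)
    (hOT : ∀ i, O i ≤ T) (hcov : T ≤ iSup O)
    (href : ∀ i j (z : Z), z ∈ O i → z ∈ O j → ∃ k, z ∈ O k ∧ O k ≤ O i ∧ O k ≤ O j)
    (s : ∀ i, Γ(Z, O i))
    (hs : ∀ i k (h : O k ≤ O i), Z.presheaf.map (homOfLE h).op (s i) = s k) :
    ∃ σ : Γ(Z, T), ∀ i, Z.presheaf.map (homOfLE (hOT i)).op σ = s i := by
  have hcompat : TopCat.Presheaf.IsCompatible Z.presheaf O s := by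
    intro i j
    refine Z.sheaf.eq_of_locally_eq' (fun p : {k // O k ≤ O i ∧ O k ≤ O j} => O p.1) (O i ⊓ O j)
      (fun p => homOfLE (le_inf p.2.1 p.2.2)) ?_ _ _ (fun p => ?_)
    · intro z hz
      obtain ⟨k, hzk, hki, hkj⟩ := href i j z hz.1 hz.2
      exact Opens.mem_iSup.mpr ⟨⟨k, hki, hkj⟩, hzk⟩
    · have e1 : Z.presheaf.map (homOfLE (le_inf p.2.1 p.2.2)).op
          (Z.presheaf.map (Opens.infLELeft (O i) (O j)).op (s i)) = s p.1 := by
        rw [← hs i p.1 p.2.1]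
        exact res_res _ _ _ _
      have e2 : Z.presheaf.map (homOfLE (le_inf p.2.1 p.2.2)).op
          (Z.presheaf.map (Opens.infLERight (O i) (O j)).op (s j)) = s p.1 := by
        rw [← hs j p.1 p.2.2]
        exact res_res _ _ _ _
      exact e1.trans e2.symm
  obtain ⟨σ, hσ, -⟩ := Z.sheaf.existsUnique_gluing' O T (fun i => homOfLE (hOT i)) hcov s hcompat
  exact ⟨σ, hσ⟩

end Sheaf

section Main

variable {X S W : Scheme.{u}} (f : X ⟶ S) (c : W ⟶ S)

local notation "PR" => pullback.fst c f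
local notation "QQ" => pullback.snd c f

theorem isPushout_sections [IsAffineHom c] {U : S.Opens} (hU : IsAffineOpen U) {V : X.Opens}
    (hV : IsAffineOpen V) (hVU : V ≤ f ⁻¹ᵁ U) :
    IsPushout (c.appLE U (c ⁻¹ᵁ U) le_rfl) (f.appLE U V hVU)
      ((PR).appLE (c ⁻¹ᵁ U) (PR ⁻¹ᵁ (c ⁻¹ᵁ U) ⊓ QQ ⁻¹ᵁ V) inf_le_left)
      ((QQ).appLE V (PR ⁻¹ᵁ (c ⁻¹ᵁ U) ⊓ QQ ⁻¹ᵁ V) inf_le_right) :=
  (isIso_pushoutSection_iff (IsPullback.of_hasPullback c f) hVU le_rfl rfl).mp
    (isIso_pushoutSection_of_isAffineOpen (IsPullback.of_hasPullback c f) hVU le_rfl rfl hU hV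
      (hU.preimage c))

theorem app_bijective_affine [IsAffineHom c]
    (hf : ∀ U : S.Opens, Function.Bijective (f.app U))
    {U : S.Opens} (hU : IsAffineOpen U) {n : ℕ} (p : Fin n → Γ(W, c ⁻¹ᵁ U))
    (lam : Fin n → Γ(W, c ⁻¹ᵁ U) → Γ(S, U))
    (hl1 : ∀ l x y, lam l (x + y) = lam l x + lam l y)
    (hl2 : ∀ l a x, lam l ((c.appLE U (c ⁻¹ᵁ U) le_rfl).hom a * x) = a * lam l x)
    (hl3 : ∀ x, x = ∑ l, (c.appLE U (c ⁻¹ᵁ U) le_rfl).hom (lam l x) * p l) :
    Function.Bijective ((PR).app (c ⁻¹ᵁ U)) := by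
  classical
  let ι := {V : X.Opens // IsAffineOpen V ∧ V ≤ f ⁻¹ᵁ U}
  let OV : ι → (pullback c f).Opens := fun i => PR ⁻¹ᵁ (c ⁻¹ᵁ U) ⊓ QQ ⁻¹ᵁ i.1
  have hpo : ∀ i : ι, IsPushout (c.appLE U (c ⁻¹ᵁ U) le_rfl) (f.appLE U i.1 i.2.2)
      ((PR).appLE (c ⁻¹ᵁ U) (OV i) inf_le_left) ((QQ).appLE i.1 (OV i) inf_le_right) :=
    fun i => isPushout_sections f c hU i.2.1 i.2.2
  have K : ∀ i : ι, Coords (c.appLE U (c ⁻¹ᵁ U) le_rfl) (f.appLE U i.1 i.2.2)
      ((PR).appLE (c ⁻¹ᵁ U) (OV i) inf_le_left) ((QQ).appLE i.1 (OV i) inf_le_right) p lam :=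
    fun i => (nonempty_coords (hpo i) p lam hl1 hl2 hl3).some
  have hOVle : ∀ (i k : ι), k.1 ≤ i.1 → OV k ≤ OV i := fun i k hki y hy => ⟨hy.1, hki hy.2⟩
  have hnat : ∀ (i k : ι) (hki : k.1 ≤ i.1) (l : Fin n) (d : Γ(pullback c f, OV i)),
      (K k).Λ l ((pullback c f).presheaf.map (homOfLE (hOVle i k hki)).op d) =
        X.presheaf.map (homOfLE hki).op ((K i).Λ l d) := by
    intro i k hki l d
    exact coords_natural (K i) (K k) (X.presheaf.map (homOfLE hki).op)
      ((pullback c f).presheaf.map (homOfLE (hOVle i k hki)).op)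
      (Scheme.Hom.appLE_map _ _ _) (Scheme.Hom.appLE_map _ _ _)
      (by rw [Scheme.Hom.appLE_map, Scheme.Hom.map_appLE]) l d
  have hcovX : f ⁻¹ᵁ U ≤ ⨆ i : ι, i.1 := by
    intro z hz
    obtain ⟨V, hV, hzV, hVT⟩ := exists_affine_nhd X hz
    exact Opens.mem_iSup.mpr ⟨⟨V, hV, hVT⟩, hzV⟩
  have hOVtop : ∀ i : ι, OV i ≤ PR ⁻¹ᵁ (c ⁻¹ᵁ U) := fun i => inf_le_left
  have hcovY : PR ⁻¹ᵁ (c ⁻¹ᵁ U) ≤ ⨆ i : ι, OV i := by
    intro y hy
    have hy' : QQ y ∈ f ⁻¹ᵁ U := by
      have h0 : (PR ≫ c) y = (QQ ≫ f) y := by rw [pullback.condition]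
      rw [Scheme.Hom.comp_apply, Scheme.Hom.comp_apply] at h0
      change f (QQ y) ∈ U
      rw [← h0]
      exact hy
    obtain ⟨V, hV, hzV, hVT⟩ := exists_affine_nhd X hy'
    exact Opens.mem_iSup.mpr ⟨⟨V, hV, hVT⟩, ⟨hy, hzV⟩⟩
  have hrefX : ∀ (i j : ι) (z : X), z ∈ i.1 → z ∈ j.1 →
      ∃ k : ι, z ∈ k.1 ∧ k.1 ≤ i.1 ∧ k.1 ≤ j.1 := by
    intro i j z hzi hzj
    obtain ⟨V, hV, hzV, hVT⟩ := exists_affine_nhd X (T := i.1 ⊓ j.1) ⟨hzi, hzj⟩
    exact ⟨⟨V, hV, hVT.trans (inf_le_left.trans i.2.2)⟩, hzV, hVT.trans inf_le_left,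
      hVT.trans inf_le_right⟩
  constructor
  · rw [injective_iff_map_eq_zero]
    intro x hx
    have hal : ∀ l, lam l x = 0 := by
      intro l
      apply (hf U).1
      rw [map_zero]
      refine X.sheaf.eq_of_locally_eq' (fun i : ι => i.1) (f ⁻¹ᵁ U) (fun i => homOfLE i.2.2)
        hcovX _ _ (fun i => ?_)
      rw [map_zero]
      have e1 : X.presheaf.map (homOfLE i.2.2).op ((f.app U) (lam l x)) =
          (f.appLE U i.1 i.2.2).hom (lam l x) := rfl
      have e2 : ((PR).appLE (c ⁻¹ᵁ U) (OV i) inf_le_left).hom x = 0 := by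
        have e3 : ((PR).appLE (c ⁻¹ᵁ U) (OV i) inf_le_left).hom x =
            (pullback c f).presheaf.map (homOfLE (hOVtop i)).op (((PR).app (c ⁻¹ᵁ U)) x) := rfl
        rw [e3, hx, map_zero]
      refine e1.trans ?_
      rw [← (K i).beta l x, e2, (K i).zero]
    rw [hl3 x]
    simp [hal]
  · intro t
    let tI : ∀ i : ι, Γ(pullback c f, OV i) :=
      fun i => (pullback c f).presheaf.map (homOfLE (hOVtop i)).op t
    have htI : ∀ (i k : ι) (hki : k.1 ≤ i.1),
        (pullback c f).presheaf.map (homOfLE (hOVle i k hki)).op (tI i) = tI k := by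
      intro i k hki
      exact res_res _ _ _ t
    have hglue : ∀ l : Fin n, ∃ σ : Γ(X, f ⁻¹ᵁ U),
        ∀ i : ι, X.presheaf.map (homOfLE i.2.2).op σ = (K i).Λ l (tI i) := by
      intro l
      refine glue_of_refinement (fun i : ι => i.1) (f ⁻¹ᵁ U) (fun i => i.2.2) hcovX hrefX
        (fun i => (K i).Λ l (tI i)) ?_
      intro i k hki
      rw [← hnat i k hki l (tI i), htI i k hki]
    choose σ hσ using hglue
    have hsurj : ∀ l, ∃ a : Γ(S, U), (f.app U) a = σ l := fun l => (hf U).2 (σ l)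
    choose a ha using hsurj
    refine ⟨∑ l, (c.appLE U (c ⁻¹ᵁ U) le_rfl).hom (a l) * p l, ?_⟩
    refine (pullback c f).sheaf.eq_of_locally_eq' OV (PR ⁻¹ᵁ (c ⁻¹ᵁ U))
      (fun i => homOfLE (hOVtop i)) hcovY _ _ (fun i => ?_)
    have e1 : (pullback c f).presheaf.map (homOfLE (hOVtop i)).op
        (((PR).app (c ⁻¹ᵁ U)) (∑ l, (c.appLE U (c ⁻¹ᵁ U) le_rfl).hom (a l) * p l)) =
        ((PR).appLE (c ⁻¹ᵁ U) (OV i) inf_le_left).hom
          (∑ l, (c.appLE U (c ⁻¹ᵁ U) le_rfl).hom (a l) * p l) := rfl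
    have e2 : ∀ l, ((PR).appLE (c ⁻¹ᵁ U) (OV i) inf_le_left).hom
        ((c.appLE U (c ⁻¹ᵁ U) le_rfl).hom (a l)) =
        ((QQ).appLE i.1 (OV i) inf_le_right).hom ((K i).Λ l (tI i)) := by
      intro l
      have hw := (hpo i).w
      have hw' := congr($(hw).hom (a l))
      have e3 : (f.appLE U i.1 i.2.2).hom (a l) = (K i).Λ l (tI i) := by
        rw [← hσ l i, ← ha l]
        rfl
      rw [← e3]
      exact hw'
    refine e1.trans ?_
    refine Eq.trans ?_ ((K i).expand (tI i)).symm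
    rw [map_sum]
    refine Finset.sum_congr rfl fun l _ => ?_
    rw [map_mul, e2 l]

theorem app_bijective [IsFinite c] [Flat c] [LocallyOfFinitePresentation c]
    (hf : ∀ U : S.Opens, Function.Bijective (f.app U)) (U : S.Opens) :
    Function.Bijective ((PR).app (c ⁻¹ᵁ U)) := by
  let ι := {U' : S.Opens // IsAffineOpen U' ∧ U' ≤ U}
  have hB : ∀ i : ι, Function.Bijective ((PR).app (c ⁻¹ᵁ i.1)) := by
    intro i
    have h1 : (c.appLE i.1 (c ⁻¹ᵁ i.1) le_rfl).hom.Finite := by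
      rw [Scheme.Hom.appLE_eq_app]
      exact c.finite_app i.1 i.2.1
    have h2 := c.flat_appLE i.2.1 (i.2.1.preimage c) le_rfl
    have h3 := c.finitePresentation_appLE i.2.1 (i.2.1.preimage c) le_rfl
    obtain ⟨n, p, lam, hl1, hl2, hl3⟩ := exists_dualBasis _ h1 h2 h3
    exact app_bijective_affine f c hf i.2.1 p lam hl1 hl2 hl3
  let O : ι → W.Opens := fun i => c ⁻¹ᵁ i.1
  have hOle : ∀ i : ι, O i ≤ c ⁻¹ᵁ U := fun i z hz => i.2.2 hz
  have hcovW : c ⁻¹ᵁ U ≤ ⨆ i, O i := by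
    intro z hz
    obtain ⟨V, hV, hzV, hVT⟩ := exists_affine_nhd S (T := U) (z := c z) hz
    exact Opens.mem_iSup.mpr ⟨⟨V, hV, hVT⟩, hzV⟩
  have hrefW : ∀ (i j : ι) (z : W), z ∈ O i → z ∈ O j →
      ∃ k : ι, z ∈ O k ∧ O k ≤ O i ∧ O k ≤ O j := by
    intro i j z hzi hzj
    obtain ⟨V, hV, hzV, hVT⟩ := exists_affine_nhd S (T := i.1 ⊓ j.1) (z := c z) ⟨hzi, hzj⟩
    exact ⟨⟨V, hV, hVT.trans (inf_le_left.trans i.2.2)⟩, hzV, fun w hw => (hVT hw).1,
      fun w hw => (hVT hw).2⟩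
  let O' : ι → (pullback c f).Opens := fun i => PR ⁻¹ᵁ (O i)
  have hO'le : ∀ i, O' i ≤ PR ⁻¹ᵁ (c ⁻¹ᵁ U) := fun i y hy => hOle i hy
  have hcovY : PR ⁻¹ᵁ (c ⁻¹ᵁ U) ≤ ⨆ i, O' i := by
    intro y hy
    obtain ⟨i, hi⟩ := Opens.mem_iSup.mp (hcovW hy)
    exact Opens.mem_iSup.mpr ⟨i, hi⟩
  have hnatapp : ∀ (i : ι) (x : Γ(W, c ⁻¹ᵁ U)),
      ((PR).app (O i)) (W.presheaf.map (homOfLE (hOle i)).op x) =
        (pullback c f).presheaf.map (homOfLE (hO'le i)).op (((PR).app (c ⁻¹ᵁ U)) x) := by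
    intro i x
    have := (PR).naturality (homOfLE (hOle i)).op
    exact congr($(this).hom x)
  have hnat2 : ∀ (i k : ι) (h : O k ≤ O i) (x : Γ(W, O i)),
      ((PR).app (O k)) (W.presheaf.map (homOfLE h).op x) =
        (pullback c f).presheaf.map
          (homOfLE (show O' k ≤ O' i from fun y hy => h hy)).op (((PR).app (O i)) x) := by
    intro i k h x
    have := (PR).naturality (homOfLE h).op
    exact congr($(this).hom x)
  constructor
  · rw [injective_iff_map_eq_zero]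
    intro x hx
    refine W.sheaf.eq_of_locally_eq' O (c ⁻¹ᵁ U) (fun i => homOfLE (hOle i)) hcovW _ _
      (fun i => ?_)
    rw [map_zero]
    apply (hB i).1
    rw [map_zero]
    refine (hnatapp i x).trans ?_
    rw [hx, map_zero]
  · intro t
    have hx : ∀ i : ι, ∃ x : Γ(W, O i),
        ((PR).app (O i)) x = (pullback c f).presheaf.map (homOfLE (hO'le i)).op t :=
      fun i => (hB i).2 _
    choose xI hxI using hx
    obtain ⟨x, hxres⟩ := glue_of_refinement O (c ⁻¹ᵁ U) hOle hcovW hrefW xI (by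
      intro i k h
      apply (hB k).1
      rw [hnat2 i k h, hxI i, hxI k]
      exact res_res _ _ _ t)
    refine ⟨x, ?_⟩
    refine (pullback c f).sheaf.eq_of_locally_eq' O' (PR ⁻¹ᵁ (c ⁻¹ᵁ U))
      (fun i => homOfLE (hO'le i)) hcovY _ _ (fun i => ?_)
    have h1 := hnatapp i x
    rw [hxres i, hxI i] at h1
    exact h1.symm

theorem exists_clopen [IsFinite c] [Flat c] [LocallyOfFinitePresentation c]
    (hf : ∀ U : S.Opens, Function.Bijective (f.app U))
    (V : Set ↥(pullback c f)) (hV : IsClopen V) :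
    ∃ U : Set W, IsClopen U ∧ (pullback.fst c f).base ⁻¹' U = V := by
  obtain ⟨e, he, heV⟩ := Groth.Agent.Lib.SchemeIdemH3.exists_idem_of_isClopen (pullback c f) V hV
  have hbij : Function.Bijective ((PR).app ⊤) := app_bijective f c hf ⊤
  obtain ⟨e', he'⟩ := hbij.2 e
  have hidem : IsIdempotentElem e' := by
    apply hbij.1
    rw [map_mul, he', he.eq]
  refine ⟨(W.basicOpen e' : Set W), Groth.Agent.Lib.SchemeIdemH3.isClopen_basicOpen W hidem, ?_⟩
  rw [← heV, ← he']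
  have h1 := Scheme.preimage_basicOpen (pullback.fst c f) e'
  exact congrArg (fun O : (pullback c f).Opens => (O : Set ↥(pullback c f))) h1

end Main

theorem main7757 {X S : Scheme.{u}} (f : X ⟶ S)
    (hf : ∀ U : S.Opens, Function.Bijective (f.app U)) :
    (FEt.restrict f).Full ∧ (FEt.restrict f).Faithful := by
  have hD : ∀ U : Set S, IsOpen U → IsClosed U → U.Nonempty →
      (U ∩ Set.range f.base).Nonempty := by
    intro U hUo _ hne
    by_contra hcon
    rw [Set.not_nonempty_iff_eq_empty] at hcon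
    let U' : S.Opens := ⟨U, hUo⟩
    have hbot : f ⁻¹ᵁ U' = ⊥ := by
      apply Opens.ext
      apply Set.eq_empty_of_forall_notMem
      intro x hx
      have h1 : f.base x ∈ U ∩ Set.range f.base := ⟨hx, x, rfl⟩
      rw [hcon] at h1
      exact h1
    haveI : Subsingleton Γ(X, f ⁻¹ᵁ U') := by rw [hbot]; infer_instance
    haveI : Subsingleton Γ(S, U') := (hf U').1.subsingleton
    obtain ⟨x, hx⟩ := hne
    haveI : Nontrivial Γ(S, U') := (S.presheaf.germ U' x hx).hom.domain_nontrivial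
    exact false_of_nontrivial_of_subsingleton Γ(S, U')
  have hL : ∀ (W : Scheme.{u}) (c : W ⟶ S) [IsFinite c] [Etale c] (V : Set ↥(pullback c f)),
      IsClopen V → ∃ U : Set W, IsClopen U ∧ (pullback.fst c f).base ⁻¹' U = V := by
    intro W c _ _ V hV
    exact exists_clopen f c hf V hV
  exact ⟨Groth.Agent.Lib.FEtFullH4.full_of_clopen f hD hL,
    Groth.Agent.Lib.FEtFaithfulH4.faithful_of_clopen f hD⟩

theorem main5670 {X Y Y' : Scheme.{u}} (f : X ⟶ Y)
    (hf : ∀ U : Y.Opens, Function.Bijective (f.app U)) (g : Y' ⟶ Y) [IsFinite g] [Etale g]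
    [ConnectedSpace Y'] : ConnectedSpace ↥(pullback f g) := by
  have hpre : PreconnectedSpace ↥(pullback g f) := by
    rw [preconnectedSpace_iff_clopen]
    intro V hV
    obtain ⟨U, hU, hUV⟩ := exists_clopen f g hf V hV
    rcases isClopen_iff.mp hU with h | h
    · left
      rw [← hUV, h]
      rfl
    · right
      rw [← hUV, h]
      rfl
  have hne : Nonempty ↥(pullback g f) := by
    by_contra hcon
    rw [not_nonempty_iff] at hcon
    have hbij := app_bijective f g hf ⊤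
    haveI : Subsingleton Γ(pullback g f, (pullback.fst g f) ⁻¹ᵁ (g ⁻¹ᵁ ⊤)) := by
      have h0 : (pullback.fst g f) ⁻¹ᵁ (g ⁻¹ᵁ ⊤) = ⊥ := by
        apply Opens.ext
        apply Set.eq_empty_of_forall_notMem
        intro x
        exact (hcon.false x).elim
      rw [h0]
      infer_instance
    haveI : Subsingleton Γ(Y', g ⁻¹ᵁ ⊤) := hbij.1.subsingleton
    obtain ⟨y⟩ := (inferInstance : Nonempty Y')
    haveI : Nontrivial Γ(Y', g ⁻¹ᵁ ⊤) :=
      (Y'.presheaf.germ (g ⁻¹ᵁ ⊤) y (Set.mem_univ _)).hom.domain_nontrivial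
    exact false_of_nontrivial_of_subsingleton Γ(Y', g ⁻¹ᵁ ⊤)
  haveI : ConnectedSpace ↥(pullback g f) := { toPreconnectedSpace := hpre, toNonempty := hne }
  exact ((pullbackSymmetry g f).hom.surjective).connectedSpace (pullbackSymmetry g f).hom.continuous

end Groth.Agent.Lib.SteinFEt
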