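import Mathlib

/-!
# Morphisms with `O_Y = f_* O_X` and Zariski's main theorem (helper7)
-/

set_option autoImplicit false
set_option backward.isDefEq.respectTransparency false
universe u
open CategoryTheory CategoryTheory.Limits AlgebraicGeometry

namespace Groth.Agent.Lib.SteinIsoH7

theorem isIso_of_isAffineHom_of_app {N Y : Scheme.{u}} (g : N ⟶ Y) [IsAffineHom g]
    (h : ∀ U : Y.Opens, IsAffineOpen U → IsIso (g.app U)) : IsIso g := by
  rw [← MorphismProperty.isomorphisms.iff]
  rw [IsZariskiLocalAtTarget.iff_of_iSup_eq_top (P := MorphismProperty.isomorphisms Scheme.{u}) _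
    (iSup_affineOpens_eq_top Y)]
  intro U
  have : IsAffine (U.1 : Scheme.{u}) := U.2
  have : IsAffine ((g ⁻¹ᵁ U.1 : N.Opens) : Scheme.{u}) := U.2.preimage g
  rw [HasAffineProperty.iff_of_isAffine (P := MorphismProperty.isomorphisms Scheme.{u})]
  refine ⟨inferInstance, ?_⟩
  rw [morphismRestrict_appTop]
  have hU' : IsAffineOpen ((U.1).ι ''ᵁ ⊤) := by rw [Scheme.Opens.ι_image_top]; exact U.2
  have h1 := h _ hU'
  exact @IsIso.comp_isIso _ _ _ _ _ _ _ h1 inferInstance

variable {X Y : Scheme.{u}} (f : X ⟶ Y)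

theorem isIso_fromNormalization [QuasiCompact f] [QuasiSeparated f]
    (hO : ∀ U : Y.Opens, Function.Bijective (f.app U)) : IsIso f.fromNormalization := by
  apply isIso_of_isAffineHom_of_app
  intro U hU
  rw [f.fromNormalization_app hU]
  let _ := (f.app U).hom.toAlgebra
  have hbij : Function.Bijective
      (algebraMap Γ(Y, U) (integralClosure Γ(Y, U) Γ(X, f ⁻¹ᵁ U))) := by
    constructor
    · intro a b hab
      apply (hO U).1
      exact congrArg Subtype.val hab
    · intro s
      obtain ⟨t, ht⟩ := (hO U).2 s.1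
      exact ⟨t, Subtype.ext ht⟩
  have : IsIso (CommRingCat.ofHom
      (algebraMap Γ(Y, U) (integralClosure Γ(Y, U) Γ(X, f ⁻¹ᵁ U)))) :=
    (ConcreteCategory.isIso_iff_bijective _).2 hbij
  infer_instance

theorem main11565 [IsSeparated f] [LocallyOfFiniteType f] [QuasiCompact f]
    (hO : ∀ U : Y.Opens, Function.Bijective (f.app U)) :
    ∃ V : Y.Opens, IsIso (f ∣_ V) ∧
      ∀ y : Y, y ∉ (V : Set Y) → ∀ x : ↥(f.fiber y), ¬ IsOpen ({x} : Set ↥(f.fiber y)) := by
  have := isIso_fromNormalization f hO
  obtain ⟨U, hU, e⟩ := f.exists_isIso_morphismRestrict_toNormalization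
  refine ⟨f.fromNormalization ''ᵁ U, ?_, ?_⟩
  · have hpre : f.fromNormalization ⁻¹ᵁ (f.fromNormalization ''ᵁ U) = U :=
      f.fromNormalization.preimage_image_eq U
    have h1 : IsIso (f.toNormalization ∣_
        (f.fromNormalization ⁻¹ᵁ (f.fromNormalization ''ᵁ U))) := by
      rw [hpre]; exact hU
    have h2 : IsIso (f.fromNormalization ∣_ (f.fromNormalization ''ᵁ U)) := inferInstance
    have h3 : IsIso ((f.toNormalization ≫ f.fromNormalization) ∣_
        (f.fromNormalization ''ᵁ U)) := by
      rw [morphismRestrict_comp]; exact @IsIso.comp_isIso _ _ _ _ _ _ _ h1 h2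
    have key : ∀ f' : X ⟶ Y, f' = f → IsIso (f' ∣_ (f.fromNormalization ''ᵁ U)) →
        IsIso (f ∣_ (f.fromNormalization ''ᵁ U)) := by
      rintro _ rfl h; exact h
    exact key _ f.toNormalization_fromNormalization h3
  · intro y hy x hx
    apply hy
    generalize hx'def : f.fiberι y x = x'
    have hx' : f x' = y := by
      rw [← hx'def, ← f.fiberHomeo_apply]; exact (f.fiberHomeo y x).2
    subst hx'
    have hxeq : x = f.asFiber x' := by
      apply (f.fiberι (f x')).isEmbedding.injective
      rw [hx'def, f.fiberι_asFiber]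
    rw [hxeq] at hx
    have hqf : f.QuasiFiniteAt x' :=
      Scheme.Hom.quasiFiniteAt_iff_isOpen_singleton_asFiber.2 hx
    have hmem : x' ∈ (f.toNormalization ⁻¹ᵁ U).1 := by rw [e]; exact hqf
    refine ⟨f.toNormalization x', hmem, ?_⟩
    show f.fromNormalization (f.toNormalization x') = f x'
    rw [← Scheme.Hom.comp_apply, f.toNormalization_fromNormalization]

end Groth.Agent.Lib.SteinIsoH7
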