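import Mathlib
import Groth.Prelude
import Groth.Agent.Lib.ProperLsc_helper8
import Groth.Agent.Lib.GeomConnI_helper8

/-!
# Proper flat morphisms with geometrically connected generic fibres (helper8)
APPEND-ONLY once landed.
-/

set_option autoImplicit false
set_option linter.all false
set_option maxHeartbeats 1600000

universe u

open CategoryTheory CategoryTheory.Limits AlgebraicGeometry TopologicalSpace Opposite

namespace Groth.Agent.Lib.SteinLscH8

theorem isUnivOpenAt_of_universallyOpen {X Y : Scheme.{u}} (f : X ⟶ Y) [UniversallyOpen f]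
    (x : X) : EGA43.IsUnivOpenAt f x := by
  intro Y' g x' _ U hU
  exact (pullback.snd f g).isOpenMap.image_mem_nhds hU

theorem one_le_nGeomConnComp {X Y : Scheme.{u}} (f : X ⟶ Y) [Surjective f] (y : Y) :
    1 ≤ MoreMor.nGeomConnComp f y := by
  obtain ⟨K, _, _, t, ht⟩ := GeomConnH8.exists_sepClosed_point Y y
  rw [← ht, ← GeomConnH8.card_cc_pullback_eq_nGeomConnComp' f K t, ENat.one_le_card_iff_nonempty]
  haveI : Surjective (pullback.snd f t) := MorphismProperty.pullback_snd _ _ inferInstance
  obtain ⟨z, -⟩ := (pullback.snd f t).surjective (IsLocalRing.closedPoint K)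
  exact ⟨ConnectedComponents.mk z⟩

/-- proper, universally open, surjective over a locally Noetherian base, with geometrically
connected fibres over the generic points of the irreducible components: all fibres are
geometrically connected -/
theorem geometricallyConnected_of_generic {X S : Scheme.{u}} (f : X ⟶ S) [IsProper f]
    [UniversallyOpen f] [Surjective f] [IsLocallyNoetherian S]
    (h : ∀ (Z : Set ↑S) (η : ↑S), Z ∈ irreducibleComponents ↑S → IsGenericPoint η Z →
      GeometricallyConnected (f.fiberToSpecResidueField η)) :
    GeometricallyConnected f := by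
  rw [GeomConnH8.geomConn_iff_forall]
  intro y
  obtain ⟨V, hV, hVle⟩ := ProperLscH8.main3415 f y
    (fun x _ => isUnivOpenAt_of_universallyOpen f x)
  have hZ : irreducibleComponent y ∈ irreducibleComponents ↑S :=
    irreducibleComponent_mem_irreducibleComponents y
  obtain ⟨η, hη⟩ := QuasiSober.sober (isIrreducible_irreducibleComponent (x := y))
    isClosed_irreducibleComponent
  have hηy : η ⤳ y := by
    rw [specializes_iff_mem_closure, hη.def]
    exact mem_irreducibleComponent
  have hηV : η ∈ V := by
    obtain ⟨W, hWV, hWo, hyW⟩ := mem_nhds_iff.mp hV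
    exact hWV (hηy.mem_open hWo hyW)
  have h1 : MoreMor.nGeomConnComp f η = 1 :=
    (GeomConnH8.geomConn_fiber_iff f η).mp (h _ η hZ hη)
  have h2 := hVle η hηV
  rw [h1] at h2
  exact le_antisymm h2 (one_le_nGeomConnComp f y)

end Groth.Agent.Lib.SteinLscH8
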