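import Mathlib
import Groth.Prelude
import Groth.Agent.Lib.SteinLsc_helper8
import Groth.Agent.Lib.GeomConnA_helper8

/-!
# Proper flat schemes over a Noetherian domain with geometrically connected generic fibre (helper8)
APPEND-ONLY once landed.
-/

set_option autoImplicit false
set_option linter.all false
set_option maxHeartbeats 1600000

universe u

open CategoryTheory CategoryTheory.Limits AlgebraicGeometry TopologicalSpace Opposite

namespace Groth.Agent.Lib.SteinLscH8

theorem connectedSpace_pullback_congr' {X S T : Scheme.{u}} (p : X ⟶ S) {t t' : T ⟶ S} (h : t = t')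
    (hc : ConnectedSpace ↥(pullback p t)) : ConnectedSpace ↥(pullback p t') := by
  subst h
  exact hc

theorem geometricallyConnected_of_generic_fibre_domain (R : Type u) [CommRing R] [IsDomain R]
    [IsNoetherianRing R] {X C : Scheme.{u}} (p : X ⟶ Spec (CommRingCat.of R)) [IsProper p] [Flat p]
    (f : C ⟶ Spec (CommRingCat.of (FractionRing R))) [GeometricallyConnected f] (g : C ⟶ X)
    (sq : IsPullback g f p (Spec.map (CommRingCat.ofHom (algebraMap R (FractionRing R))))) :
    GeometricallyConnected p := by
  haveI : LocallyOfFinitePresentation p :=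
    LocallyOfFinitePresentation.iff_locallyOfFiniteType.mpr inferInstance
  haveI : UniversallyOpen p := UniversallyOpen.of_flat p
  let η : PrimeSpectrum R := ⟨⊥, Ideal.isPrime_bot⟩
  have hη : IsGenericPoint η (Set.univ : Set (PrimeSpectrum R)) := by
    rw [IsGenericPoint, ← PrimeSpectrum.zeroLocus_vanishingIdeal_eq_closure,
      PrimeSpectrum.vanishingIdeal_singleton]
    show PrimeSpectrum.zeroLocus ((⊥ : Ideal R) : Set R) = Set.univ
    simp
  -- the generic point is in the range
  have hηr : η ∈ Set.range p := by
    obtain ⟨c⟩ : Nonempty ↥C := by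
      obtain ⟨c, -⟩ := f.surjective (Classical.arbitrary _)
      exact ⟨c⟩
    refine ⟨g c, ?_⟩
    rw [← Scheme.Hom.comp_apply, sq.w, Scheme.Hom.comp_apply]
    have hfc : f c = (⟨⊥, Ideal.isPrime_bot⟩ : PrimeSpectrum (FractionRing R)) :=
      Subsingleton.elim (α := PrimeSpectrum (FractionRing R)) _ _
    rw [hfc]
    apply PrimeSpectrum.ext
    show Ideal.comap (algebraMap R (FractionRing R)) ⊥ = ⊥
    exact Ideal.comap_bot_of_injective _ (IsFractionRing.injective R (FractionRing R))
  haveI : Surjective p := by
    refine ⟨fun y => ?_⟩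
    have hcl : IsClosed (Set.range p) := p.isClosedMap.isClosed_range
    have h1 : closure {η} ⊆ Set.range p := hcl.closure_subset_iff.mpr (Set.singleton_subset_iff.mpr hηr)
    rw [hη.def] at h1
    exact h1 (Set.mem_univ y)
  apply geometricallyConnected_of_generic p
  intro Z η' hZ hη'
  have hZu : Z = Set.univ := by
    have h1 : (Set.univ : Set (PrimeSpectrum R)) ∈ irreducibleComponents (PrimeSpectrum R) := by
      refine ⟨hη.isIrreducible, fun T _ _ => Set.subset_univ T⟩
    have h2 : Z ⊆ Set.univ := Set.subset_univ Z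
    exact le_antisymm h2 (hZ.2 h1.1 h2)
  subst hZu
  have hη'η : η' = η := hη'.eq hη
  subst hη'η
  refine ⟨GeomConnH8.geometrically_fiber_of_forall p (ConnectedSpace ·) η (fun L _ t ht => ?_)⟩
  obtain ⟨φ, rfl⟩ := Spec.map_surjective t
  have hφinj : Function.Injective φ.hom := by
    rw [RingHom.injective_iff_ker_eq_bot]
    have h2 := congrArg PrimeSpectrum.asIdeal ht
    have h3 : ((Spec.map φ) (IsLocalRing.closedPoint L)).asIdeal =
        Ideal.comap φ.hom (IsLocalRing.closedPoint L).asIdeal := rfl
    rw [h3] at h2
    have h4 : (IsLocalRing.closedPoint L).asIdeal = ⊥ := by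
      show IsLocalRing.maximalIdeal L = ⊥
      exact IsLocalRing.maximalIdeal_eq_bot
    rw [h4] at h2
    exact h2
  let ψ : FractionRing R →+* L := IsFractionRing.lift (g := φ.hom) hφinj
  have hψ : φ = CommRingCat.ofHom (algebraMap R (FractionRing R)) ≫ CommRingCat.ofHom ψ := by
    ext a
    exact (IsFractionRing.lift_algebraMap hφinj a).symm
  have e := ((IsPullback.of_hasPullback f (Spec.map (CommRingCat.ofHom ψ))).paste_horiz sq).isoPullback
  haveI hc1 : ConnectedSpace ↥(pullback f (Spec.map (CommRingCat.ofHom ψ))) :=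
    pullback_of_geometrically (P := (ConnectedSpace ·))
      (GeometricallyConnected.geometrically_connectedSpace (f := f)) L _
  have hc2 : ConnectedSpace ↥(pullback p (Spec.map (CommRingCat.ofHom ψ) ≫
      Spec.map (CommRingCat.ofHom (algebraMap R (FractionRing R))))) :=
    (e.inv.homeomorph.connectedSpace_iff).mpr hc1
  refine connectedSpace_pullback_congr' p ?_ hc2
  rw [hψ, Spec.map_comp]

end Groth.Agent.Lib.SteinLscH8
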