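import Mathlib
import Groth.Prelude
import Groth.Agent.Lib.SteinNN2_helper8
import Groth.Agent.Lib.GeomConnG_helper8
import Groth.Agent.Lib.FEtComps_helper4

/-!
# Non-Noetherian Stein factorization, part 3: counting geometric connected components (helper8)
APPEND-ONLY once landed.
-/

set_option autoImplicit false
set_option linter.all false
set_option maxHeartbeats 1600000

universe u

open CategoryTheory CategoryTheory.Limits AlgebraicGeometry TopologicalSpace Opposite

namespace Groth.Agent.Lib.SteinNNH8

/-- the spectrum of a ring all of whose primes are maximal is totally separated -/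
theorem totallySeparatedSpace_primeSpectrum (B : Type*) [CommRing B]
    (hB : ∀ p : Ideal B, p.IsPrime → p.IsMaximal) : TotallySeparatedSpace (PrimeSpectrum B) := by
  have hstab : ∀ s : Set (PrimeSpectrum B), StableUnderSpecialization s := by
    intro s x y hxy hx
    have h1 : x.asIdeal ≤ y.asIdeal := (PrimeSpectrum.le_iff_specializes x y).mpr hxy
    have h2 : x.asIdeal = y.asIdeal :=
      (hB x.asIdeal x.2).eq_of_le y.2.ne_top h1
    rw [← PrimeSpectrum.ext h2]
    exact hx
  rw [totallySeparatedSpace_iff_exists_isClopen]
  intro x y hxy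
  have hne : ¬ (y.asIdeal ≤ x.asIdeal) := by
    intro hle
    exact hxy (PrimeSpectrum.ext ((hB y.asIdeal y.2).eq_of_le x.2.ne_top hle)).symm
  obtain ⟨a, hay, hax⟩ := Set.not_subset.mp hne
  refine ⟨(PrimeSpectrum.basicOpen a : Set (PrimeSpectrum B)), ⟨?_, (PrimeSpectrum.basicOpen a).isOpen⟩,
    hax, ?_⟩
  · exact PrimeSpectrum.isClosed_of_stableUnderSpecialization_of_isConstructible (hstab _)
      (PrimeSpectrum.isConstructible_basicOpen (f := a))
  · show y ∈ ((PrimeSpectrum.basicOpen a : Set (PrimeSpectrum B)))ᶜ
    intro h
    exact h hay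

/-- a scheme integral over a field is totally disconnected -/
theorem totallyDisconnectedSpace_of_isIntegralHom {T : Scheme.{u}} (K : Type u) [Field K]
    (g : T ⟶ Spec (CommRingCat.of K)) [IsIntegralHom g] : TotallyDisconnectedSpace ↥T := by
  haveI : IsAffine T := isAffine_of_isAffineHom g
  have hint : (g.appTop).hom.IsIntegral := by
    have h1 := IsIntegralHom.isIntegral_app g ⊤ (isAffineOpen_top _)
    exact h1
  let φ : K →+* Γ(T, ⊤) := (g.appTop).hom.comp
    (Scheme.ΓSpecIso (CommRingCat.of K)).inv.hom
  have hφint : φ.IsIntegral := by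
    apply RingHom.IsIntegral.trans _ _ _ hint
    exact RingHom.isIntegral_of_surjective _
      (ConcreteCategory.bijective_of_isIso (Scheme.ΓSpecIso (CommRingCat.of K)).inv).2
  have hB : ∀ p : Ideal Γ(T, ⊤), p.IsPrime → p.IsMaximal := by
    intro p hp
    letI : Algebra K Γ(T, ⊤) := φ.toAlgebra
    haveI : Algebra.IsIntegral K Γ(T, ⊤) := ⟨hφint⟩
    exact Ideal.isMaximal_of_isIntegral_of_isMaximal_comap (R := K) p
      (by
        have : p.comap (algebraMap K Γ(T, ⊤)) = ⊥ :=
          ((Ideal.eq_bot_or_top _).resolve_right (Ideal.IsPrime.ne_top inferInstance))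
        rw [this]
        exact Ideal.bot_isMaximal)
  haveI := totallySeparatedSpace_primeSpectrum Γ(T, ⊤) hB
  haveI : TotallyDisconnectedSpace (PrimeSpectrum Γ(T, ⊤)) := inferInstance
  let e : ↥T ≃ₜ PrimeSpectrum Γ(T, ⊤) := Scheme.homeoOfIso T.isoSpec
  refine ⟨?_⟩
  have h1 : IsTotallyDisconnected (Set.univ : Set (PrimeSpectrum Γ(T, ⊤))) :=
    isTotallyDisconnected_of_totallyDisconnectedSpace _
  intro t _ ht
  have h2 : _root_.IsPreconnected (e '' t) := ht.image e e.continuous.continuousOn
  have h3 : (e '' t).Subsingleton := h1 (e '' t) (Set.subset_univ _) h2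
  intro a ha b hb
  exact e.injective (h3 ⟨a, ha, rfl⟩ ⟨b, hb, rfl⟩)

end Groth.Agent.Lib.SteinNNH8

namespace Groth.Agent.Lib.SteinNNH8

theorem card_connectedComponents_eq_card_of_totallyDisconnected {P T : Type*} [TopologicalSpace P]
    [TopologicalSpace T] [TotallyDisconnectedSpace T] (g : P → T) (hg : Continuous g)
    (hsurj : Function.Surjective g) (hconn : ∀ τ, _root_.IsPreconnected (g ⁻¹' {τ})) :
    ENat.card (_root_.ConnectedComponents P) = ENat.card T := by
  have hbij : Function.Bijective hg.connectedComponentsLift := by
    constructor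
    · intro a b hab
      obtain ⟨x, rfl⟩ := ConnectedComponents.surjective_coe a
      obtain ⟨x', rfl⟩ := ConnectedComponents.surjective_coe b
      rw [Continuous.connectedComponentsLift_apply_coe,
        Continuous.connectedComponentsLift_apply_coe] at hab
      have hx : x ∈ g ⁻¹' {g x'} := hab
      have hx' : x' ∈ g ⁻¹' {g x'} := rfl
      rw [ConnectedComponents.coe_eq_coe']
      exact (hconn (g x')).subset_connectedComponent hx' hx
    · intro q
      obtain ⟨x, hx⟩ := hsurj q
      exact ⟨(x : _root_.ConnectedComponents _), by
        rw [Continuous.connectedComponentsLift_apply_coe]; exact hx⟩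
  exact ENat.card_congr (Equiv.ofBijective _ hbij)

/-- **S7838** -/
theorem main7838 {X S : Scheme.{u}} (f : X ⟶ S) [IsProper f] (s : S) :
    MoreMor.nGeomConnComp f s < ⊤ ∧
      MoreMor.nGeomConnComp f s = MoreMor.nGeomConnComp f.fromNormalization s := by
  obtain ⟨K, _, _, t, ht⟩ := GeomConnH8.exists_sepClosed_point S s
  rw [← ht, ← GeomConnH8.card_cc_pullback_eq_nGeomConnComp' f K t,
    ← GeomConnH8.card_cc_pullback_eq_nGeomConnComp' f.fromNormalization K t]
  constructor
  · haveI : IsLocallyNoetherian (pullback f t) :=
      LocallyOfFiniteType.isLocallyNoetherian (pullback.snd f t)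
    haveI : CompactSpace ↥(pullback f t) :=
      QuasiCompact.compactSpace_of_compactSpace (pullback.snd f t)
    haveI : IsNoetherian (pullback f t) := {}
    haveI : NoetherianSpace ↥(pullback f t) := inferInstance
    haveI := Groth.Agent.Lib.FEtCompsH4.finite_connectedComponents ↥(pullback f t)
    exact ENat.card_lt_top_of_finite
  · haveI : GeometricallyConnected f.toNormalization := geometricallyConnected_toNormalization f
    let T := pullback f.fromNormalization t
    let P := pullback f.toNormalization (pullback.fst f.fromNormalization t)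
    let g : P ⟶ T := pullback.snd f.toNormalization (pullback.fst f.fromNormalization t)
    haveI : GeometricallyConnected g := inferInstance
    haveI : IsIntegralHom (pullback.snd f.fromNormalization t) :=
      MorphismProperty.pullback_snd _ _ inferInstance
    haveI : TotallyDisconnectedSpace ↥T :=
      totallyDisconnectedSpace_of_isIntegralHom K (pullback.snd f.fromNormalization t)
    have h1 : ENat.card (_root_.ConnectedComponents ↥P) = ENat.card ↥T :=
      card_connectedComponents_eq_card_of_totallyDisconnected g.base g.continuous g.surjective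
        (fun τ => (g.isConnected_preimage_singleton τ).isPreconnected)
    have h2 : ENat.card (_root_.ConnectedComponents ↥T) = ENat.card ↥T :=
      card_connectedComponents_eq_card_of_totallyDisconnected id continuous_id
        Function.surjective_id (fun τ => by
          rw [Set.preimage_id]; exact isPreconnected_singleton)
    let e₁ : P ≅ pullback (f.toNormalization ≫ f.fromNormalization) t :=
      pullbackRightPullbackFstIso f.fromNormalization t f.toNormalization
    let e₂ : pullback (f.toNormalization ≫ f.fromNormalization) t ≅ pullback f t :=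
      pullback.congrHom f.toNormalization_fromNormalization rfl
    have h3 : ENat.card (_root_.ConnectedComponents ↥(pullback f t)) =
        ENat.card (_root_.ConnectedComponents ↥P) :=
      (GeomConnH8.card_connectedComponents_eq_of_homeomorph
        (Scheme.homeoOfIso (e₁ ≪≫ e₂))).symm
    rw [h3, h1, h2]

end Groth.Agent.Lib.SteinNNH8
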