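import Mathlib
import Groth.Prelude
import Groth.Agent.Lib.SteinNN2_helper8
import Groth.Agent.Lib.ZConn3_helper8


/-!
# Proper morphisms to normal schemes with trivial generic H⁰ (helper8)
APPEND-ONLY once landed.
-/

set_option autoImplicit false
set_option linter.all false
set_option maxHeartbeats 1600000

universe u

open CategoryTheory CategoryTheory.Limits AlgebraicGeometry TopologicalSpace Opposite

namespace Groth.Agent.Lib.SteinNNH8

/-- abstract algebra: integral extension `A → B` of an integrally closed domain, with `B`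
embedding into (a copy of) the fraction field compatibly, is bijective -/
theorem bijective_of_integral_of_fractionRing {A B K L : Type*} [CommRing A] [IsDomain A]
    [IsIntegrallyClosed A] [CommRing B] [Field K] [Algebra A K] [IsFractionRing A K]
    [CommRing L] (α : A →+* B) (β : B →+* L) (δ : K →+* L) (hα : α.IsIntegral)
    (hβ : Function.Injective β) (hδ : Function.Bijective δ)
    (hcomm : β.comp α = δ.comp (algebraMap A K)) : Function.Bijective α := by
  have hcomm' : ∀ a, β (α a) = δ (algebraMap A K a) := fun a => by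
    have := congrArg (fun g => g a) hcomm
    simpa using this
  constructor
  · intro a a' haa
    apply IsFractionRing.injective A K
    apply hδ.1
    rw [← hcomm', ← hcomm', haa]
  · intro b
    obtain ⟨k, hk⟩ := hδ.2 (β b)
    obtain ⟨p, hp, hpb⟩ := hα b
    have hint : IsIntegral A k := by
      refine ⟨p, hp, ?_⟩
      apply hδ.1
      rw [map_zero, Polynomial.hom_eval₂, hk, ← hcomm, ← Polynomial.hom_eval₂, hpb, map_zero]
    obtain ⟨a, ha⟩ := IsIntegrallyClosed.algebraMap_eq_of_integral hint
    refine ⟨a, ?_⟩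
    apply hβ
    rw [hcomm', ha, hk]

/-- sections of a reduced scheme vanishing on a fibre containing all generic points vanish -/
theorem fiberι_app_injective {X S : Scheme.{u}} (f : X ⟶ S) [IsReduced X] (s : S)
    (hgen : ∀ Z ∈ irreducibleComponents ↑X, ∀ x : X, IsGenericPoint x Z → f x = s)
    (V : X.Opens) : Function.Injective ((f.fiberι s).app V).hom := by
  rw [injective_iff_map_eq_zero]
  intro b hb
  rw [← AlgebraicGeometry.basicOpen_eq_bot_iff]
  by_contra hne
  obtain ⟨x, hx⟩ : ∃ x, x ∈ X.basicOpen b := by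
    by_contra hcon
    push Not at hcon
    apply hne
    ext y
    simp only [SetLike.mem_coe]
    constructor
    · intro hy; exact (hcon y hy).elim
    · intro hy; exact hy.elim
  have hZ : irreducibleComponent x ∈ irreducibleComponents ↑X :=
    irreducibleComponent_mem_irreducibleComponents x
  obtain ⟨z, hz⟩ := QuasiSober.sober (isIrreducible_irreducibleComponent (x := x))
    isClosed_irreducibleComponent
  have hzx : z ⤳ x := by
    rw [specializes_iff_mem_closure, hz.def]
    exact mem_irreducibleComponent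
  have hzb : z ∈ X.basicOpen b := hzx.mem_open (X.basicOpen b).isOpen hx
  have hfz : f z = s := hgen _ hZ z hz
  have hzr : z ∈ Set.range (f.fiberι s) := by
    rw [Scheme.Hom.range_fiberι]
    exact hfz
  obtain ⟨w, rfl⟩ := hzr
  have hw : w ∈ (f.fiberι s) ⁻¹ᵁ (X.basicOpen b) := hzb
  rw [Scheme.preimage_basicOpen, hb, Scheme.basicOpen_zero] at hw
  exact hw


theorem fromSpecResidueField_appLE_top {S : Scheme.{u}} (s : S) (U : S.Opens) (hs : s ∈ U)
    (e : (⊤ : (Spec (S.residueField s)).Opens) ≤ (S.fromSpecResidueField s) ⁻¹ᵁ U) :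
    (S.fromSpecResidueField s).appLE U ⊤ e =
      S.presheaf.germ U s hs ≫ S.residue s ≫ (Scheme.ΓSpecIso (S.residueField s)).inv := by
  have key : ∀ (g : Spec (S.residueField s) ⟶ S) (hg : g = Spec.map (S.residue s) ≫ S.fromSpecStalk s)
      (e : (⊤ : (Spec (S.residueField s)).Opens) ≤ g ⁻¹ᵁ U)
      (e' : (⊤ : (Spec (S.residueField s)).Opens) ≤
        (Spec.map (S.residue s)) ⁻¹ᵁ (S.fromSpecStalk s) ⁻¹ᵁ U),
      g.appLE U ⊤ e = (S.fromSpecStalk s).app U ≫ (Spec.map (S.residue s)).appLE _ ⊤ e' := by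
    rintro g rfl e e'
    rw [Scheme.Hom.comp_appLE]
  have e' : (⊤ : (Spec (S.residueField s)).Opens) ≤
      (Spec.map (S.residue s)) ⁻¹ᵁ (S.fromSpecStalk s) ⁻¹ᵁ U := by
    intro x _
    show (S.fromSpecStalk s) (Spec.map (S.residue s) x) ∈ U
    rw [Scheme.SpecMap_residue_apply, Scheme.fromSpecStalk_closedPoint]
    exact hs
  rw [key (S.fromSpecResidueField s) rfl e e', Scheme.fromSpecStalk_app hs, Category.assoc,
    Category.assoc, Scheme.Hom.map_appLE]
  congr 1
  have h2 : (Spec.map (S.residue s)).appLE ⊤ ⊤ le_top = (Spec.map (S.residue s)).appTop :=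
    Scheme.Hom.appLE_eq_app (Spec.map (S.residue s))
  rw [h2, ← Scheme.ΓSpecIso_inv_naturality]

theorem app_fiberι_eq {X S : Scheme.{u}} (f : X ⟶ S) (s : S) (U : S.Opens) (hs : s ∈ U) :
    f.app U ≫ (f.fiberι s).app (f ⁻¹ᵁ U) =
      S.presheaf.germ U s hs ≫ S.residue s ≫ (Scheme.ΓSpecIso (S.residueField s)).inv ≫
        (f.fiberToSpecResidueField s).appTop ≫
        (f.fiber s).presheaf.map (homOfLE (le_top : (f.fiberι s) ⁻¹ᵁ f ⁻¹ᵁ U ≤ ⊤)).op := by
  have key : ∀ (g : f.fiber s ⟶ S) (hg : g = f.fiberι s ≫ f)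
      (e : (f.fiberι s) ⁻¹ᵁ f ⁻¹ᵁ U ≤ g ⁻¹ᵁ U),
      g.appLE U ((f.fiberι s) ⁻¹ᵁ f ⁻¹ᵁ U) e = f.app U ≫ (f.fiberι s).app (f ⁻¹ᵁ U) := by
    rintro g rfl e
    rw [Scheme.Hom.comp_appLE, Scheme.Hom.appLE_eq_app]
  have he : (f.fiberι s) ⁻¹ᵁ f ⁻¹ᵁ U ≤
      (f.fiberToSpecResidueField s ≫ S.fromSpecResidueField s) ⁻¹ᵁ U := by
    rw [← Scheme.Hom.fiber_fac]
    exact le_rfl
  have e₁ : (⊤ : (Spec (S.residueField s)).Opens) ≤ (S.fromSpecResidueField s) ⁻¹ᵁ U := by
    intro x _
    show (S.fromSpecResidueField s) x ∈ U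
    rw [Scheme.fromSpecResidueField_apply]
    exact hs
  rw [← key _ (Scheme.Hom.fiber_fac f s).symm he]
  rw [← Scheme.Hom.appLE_comp_appLE (f.fiberToSpecResidueField s) (S.fromSpecResidueField s)
    U ⊤ _ e₁ le_top, fromSpecResidueField_appLE_top s U hs e₁]
  simp only [Category.assoc]
  rfl


theorem restrict_bijective_of_eq {Y : Scheme.{u}} {V W : Y.Opens} (h : V = W) (hle : V ≤ W) :
    Function.Bijective (Y.presheaf.map (homOfLE hle).op).hom := by
  subst h
  have h1 : (homOfLE hle) = 𝟙 _ := rfl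
  rw [h1, op_id, Y.presheaf.map_id]
  exact Function.bijective_id

/-- the key step of EGA III 4.3.12 / Stacks 0AY8: over a nonempty affine open `U` of the
normal integral base, `O_S(U) → O_X(f⁻¹U)` is bijective -/
theorem app_bijective_of_generic {X S : Scheme.{u}} (f : X ⟶ S) [IsProper f] [IsIntegral S]
    (hS : Pi1.IsNormalScheme S) [IsReduced X]
    (hgen : ∀ Z ∈ irreducibleComponents ↑X, ∀ x : X, IsGenericPoint x Z → f x = genericPoint ↑S)
    (h0 : Function.Bijective ((f.fiberToSpecResidueField (genericPoint ↑S)).appTop))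
    (U : S.Opens) (hU : IsAffineOpen U) [Nonempty U] : Function.Bijective (f.app U).hom := by
  have hηU : genericPoint S ∈ U :=
    ((genericPoint_spec S).mem_open_set_iff U.isOpen).mpr
      ⟨_, trivial, (Classical.arbitrary U).2⟩
  haveI : IsIntegrallyClosed Γ(S, U) := ZConnH8.isIntegrallyClosed_sections hS hU
  haveI : IsFractionRing Γ(S, U) S.functionField :=
    functionField_isFractionRing_of_isAffineOpen S U hU
  have htop : (f.fiberι (genericPoint S)) ⁻¹ᵁ f ⁻¹ᵁ U = ⊤ := by
    ext w
    simp only [Opens.coe_top, Set.mem_univ, iff_true]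
    show f ((f.fiberι (genericPoint S)) w) ∈ U
    have h1 : (f.fiberι (genericPoint S)) w ∈ Set.range (f.fiberι (genericPoint S)) := ⟨w, rfl⟩
    rw [Scheme.Hom.range_fiberι] at h1
    rw [h1]
    exact hηU
  let δ : S.functionField →+* Γ(f.fiber (genericPoint S), (f.fiberι (genericPoint S)) ⁻¹ᵁ f ⁻¹ᵁ U) :=
    (S.residue (genericPoint S) ≫ (Scheme.ΓSpecIso (S.residueField (genericPoint S))).inv ≫
      (f.fiberToSpecResidueField (genericPoint S)).appTop ≫
      (f.fiber (genericPoint S)).presheaf.map (homOfLE (le_top :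
        (f.fiberι (genericPoint S)) ⁻¹ᵁ f ⁻¹ᵁ U ≤ ⊤)).op).hom
  refine bijective_of_integral_of_fractionRing (K := S.functionField) (f.app U).hom
    ((f.fiberι (genericPoint S)).app (f ⁻¹ᵁ U)).hom δ
    (SteinSectionsH7.isIntegral_app_of_universallyClosed f U hU)
    (fiberι_app_injective f _ hgen _) ?_ ?_
  · -- δ bijective
    have hres : Function.Bijective (S.residue (genericPoint S)).hom := by
      refine ⟨RingHom.injective _, S.residue_surjective _⟩
    have hΓ : Function.Bijective (Scheme.ΓSpecIso (S.residueField (genericPoint S))).inv.hom :=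
      ConcreteCategory.bijective_of_isIso _
    have hr := restrict_bijective_of_eq htop le_top
    have hδ : (δ : S.functionField → _) =
        (((f.fiber (genericPoint S)).presheaf.map (homOfLE (le_top :
          (f.fiberι (genericPoint S)) ⁻¹ᵁ f ⁻¹ᵁ U ≤ ⊤)).op).hom ∘
        ((f.fiberToSpecResidueField (genericPoint S)).appTop).hom ∘
        (Scheme.ΓSpecIso (S.residueField (genericPoint S))).inv.hom ∘
        (S.residue (genericPoint S)).hom) := by
      funext x
      rfl
    rw [hδ]
    exact hr.comp (h0.comp (hΓ.comp hres))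
  · -- commutation
    have h1 := app_fiberι_eq f (genericPoint S) U hηU
    have h2 := congrArg (fun g => g.hom) h1
    simp only [CommRingCat.hom_comp] at h2
    rw [h2]
    rfl

/-- from the affine opens to all opens (copy of helper2's `CBCH2.isIso_app_of_affine`) -/
theorem isIso_app_of_affine' {X S : Scheme.{u}} (f : X ⟶ S)
    (hb : ∀ T : S.Opens, IsAffineOpen T → IsIso (f.app T))
    (V : S.Opens) : IsIso (f.app V) := by
  let G : TopCat.Sheaf CommRingCat S := (TopCat.Sheaf.pushforward CommRingCat f.base).obj X.sheaf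
  let φ : S.sheaf ⟶ G := ⟨f.c⟩
  have hB : Opens.IsBasis (Set.range (fun T : S.affineOpens => (T : S.Opens))) := by
    rw [Subtype.range_coe]
    exact S.isBasis_affineOpens
  have hφ : IsIso φ := TopCat.Sheaf.isIso_iff_isIso_basis
    (B := fun T : S.affineOpens => (T : S.Opens)) hB (fun T => hb T.1 T.2)
  have h2 : IsIso ((TopCat.Sheaf.forget CommRingCat S).map φ) := inferInstance
  exact (NatTrans.isIso_iff_isIso_app ((TopCat.Sheaf.forget CommRingCat S).map φ)).mp h2 (op V)


theorem app_bijective_of_eq_bot {X S : Scheme.{u}} (f : X ⟶ S) (U : S.Opens) (hU : U = ⊥) :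
    Function.Bijective (f.app U).hom := by
  subst hU
  haveI : Subsingleton Γ(X, f ⁻¹ᵁ ⊥) := by
    have : f ⁻¹ᵁ (⊥ : S.Opens) = ⊥ := rfl
    rw [this]
    infer_instance
  refine ⟨fun a b _ => Subsingleton.elim a b, fun b => ⟨0, Subsingleton.elim _ _⟩⟩

/-- Stacks 0AY8 / EGA III 4.3.12 (statement S1365) -/
theorem main1365 {X S : Scheme.{u}} (f : X ⟶ S) [IsProper f] [IsIntegral S]
    (hS : Pi1.IsNormalScheme S) [IsReduced X]
    (hgen : ∀ Z ∈ irreducibleComponents ↑X, ∀ x : X, IsGenericPoint x Z → f x = genericPoint ↑S)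
    (h0 : Function.Bijective ((f.fiberToSpecResidueField (genericPoint ↑S)).appTop)) :
    (∀ U : S.Opens, IsIso (f.app U)) ∧ GeometricallyConnected f := by
  have hiso : ∀ U : S.Opens, IsIso (f.app U) := by
    apply isIso_app_of_affine' f
    intro T hT
    rw [ConcreteCategory.isIso_iff_bijective]
    by_cases hne : Nonempty T
    · exact app_bijective_of_generic f hS hgen h0 T hT
    · apply app_bijective_of_eq_bot f T
      ext y
      simp only [Opens.coe_bot, Set.mem_empty_iff_false, iff_false]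
      intro hy
      exact hne ⟨⟨y, hy⟩⟩
  exact ⟨hiso, geometricallyConnected_of_isIso_app f hiso⟩

end Groth.Agent.Lib.SteinNNH8
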