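import Mathlib
import Groth.Prelude
import Groth.Agent.Lib.SteinNN3_helper8

/-!
# Fields of functions on geometrically connected schemes are purely inseparable (helper8)
APPEND-ONLY once landed.
-/

set_option autoImplicit false
set_option linter.all false
set_option maxHeartbeats 1600000

universe u

open CategoryTheory CategoryTheory.Limits AlgebraicGeometry TopologicalSpace Opposite TensorProduct

namespace Groth.Agent.Lib.SteinNNH8

/-- ring level: if `Spec (E ⊗_K Ω)` is a single point then `K`-embeddings `E → Ω` coincide -/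
theorem algHom_eq_of_subsingleton_primeSpectrum {K E Ω : Type u} [Field K] [Field E] [Field Ω]
    [Algebra K E] [Algebra K Ω] (hsub : Subsingleton (PrimeSpectrum (E ⊗[K] Ω)))
    (σ τ : E →ₐ[K] Ω) : σ = τ := by
  let sσ : E ⊗[K] Ω →ₐ[K] Ω := Algebra.TensorProduct.productMap σ (AlgHom.id K Ω)
  let sτ : E ⊗[K] Ω →ₐ[K] Ω := Algebra.TensorProduct.productMap τ (AlgHom.id K Ω)
  have hker : RingHom.ker sσ.toRingHom = RingHom.ker sτ.toRingHom := by
    have h1 : (⟨RingHom.ker sσ.toRingHom, RingHom.ker_isPrime _⟩ : PrimeSpectrum (E ⊗[K] Ω)) =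
        ⟨RingHom.ker sτ.toRingHom, RingHom.ker_isPrime _⟩ := Subsingleton.elim _ _
    exact congrArg PrimeSpectrum.asIdeal h1
  ext e
  have h2 : (e ⊗ₜ[K] (1 : Ω) - (1 : E) ⊗ₜ[K] σ e) ∈ RingHom.ker sσ.toRingHom := by
    rw [RingHom.mem_ker]
    simp [sσ, Algebra.TensorProduct.productMap_apply_tmul]
  rw [hker, RingHom.mem_ker] at h2
  simp [sτ, Algebra.TensorProduct.productMap_apply_tmul] at h2
  exact (sub_eq_zero.mp h2).symm


/-- a field of functions, algebraic over the base field, on a geometrically connected scheme is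
purely inseparable over the base field -/
theorem isPurelyInseparable_of_geometricallyConnected {K E : Type u} [Field K] [Field E]
    [Algebra K E] [Algebra.IsAlgebraic K E] {Y : Scheme.{u}}
    (p : Y ⟶ Spec (CommRingCat.of K)) [GeometricallyConnected p]
    (φ : Y ⟶ Spec (CommRingCat.of E))
    (hφ : φ ≫ Spec.map (CommRingCat.ofHom (algebraMap K E)) = p) : IsPurelyInseparable K E := by
  rw [isPurelyInseparable_iff_subsingleton_emb]
  refine ⟨fun σ τ => ?_⟩
  apply algHom_eq_of_subsingleton_primeSpectrum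
  let ε : Spec (CommRingCat.of E) ⟶ Spec (CommRingCat.of K) :=
    Spec.map (CommRingCat.ofHom (algebraMap K E))
  let ω : Spec (CommRingCat.of (AlgebraicClosure E)) ⟶ Spec (CommRingCat.of K) :=
    Spec.map (CommRingCat.ofHom (algebraMap K (AlgebraicClosure E)))
  haveI hc1 : ConnectedSpace ↥(pullback p ω) :=
    pullback_of_geometrically (P := (ConnectedSpace ·))
      (GeometricallyConnected.geometrically_connectedSpace (f := p)) (AlgebraicClosure E) ω
  -- `φ` is surjective
  haveI : Nonempty ↥Y := by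
    obtain ⟨y, -⟩ := p.surjective (Classical.arbitrary _)
    exact ⟨y⟩
  haveI : Surjective φ := by
    refine ⟨fun z => ?_⟩
    obtain ⟨y⟩ := (inferInstance : Nonempty ↥Y)
    exact ⟨y, Subsingleton.elim (α := PrimeSpectrum E) _ _⟩
  haveI : Surjective (pullback.snd φ (pullback.fst ε ω)) :=
    MorphismProperty.pullback_snd _ _ inferInstance
  haveI hc2 : ConnectedSpace ↥(pullback φ (pullback.fst ε ω)) := by
    have e := pullbackRightPullbackFstIso ε ω φ
    have hc3 : ConnectedSpace ↥(pullback (φ ≫ ε) ω) := by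
      have : φ ≫ ε = p := hφ
      rw [this]
      exact hc1
    exact (e.hom.homeomorph.connectedSpace_iff).mpr hc3
  haveI hc4 : ConnectedSpace ↥(pullback ε ω) := by
    have hs := (pullback.snd φ (pullback.fst ε ω)).surjective
    have hcont := (pullback.snd φ (pullback.fst ε ω)).continuous
    exact Function.Surjective.connectedSpace hs hcont
  -- totally disconnected
  haveI : IsIntegralHom ε := by
    rw [IsIntegralHom.SpecMap_iff]
    exact Algebra.IsIntegral.isIntegral (R := K) (A := E)
  haveI : IsIntegralHom (pullback.snd ε ω) := MorphismProperty.pullback_snd _ _ inferInstance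
  haveI htd : TotallyDisconnectedSpace ↥(pullback ε ω) :=
    totallyDisconnectedSpace_of_isIntegralHom (AlgebraicClosure E) (pullback.snd ε ω)
  have hsub : Subsingleton ↥(pullback ε ω) := by
    refine ⟨fun a b => ?_⟩
    have h1 : (Set.univ : Set ↥(pullback ε ω)).Subsingleton :=
      (isPreconnected_univ (α := ↥(pullback ε ω))).subsingleton
    exact h1 (Set.mem_univ a) (Set.mem_univ b)
  have e2 := pullbackSpecIso K E (AlgebraicClosure E)
  have hsub2 : Subsingleton ↥(Spec (CommRingCat.of (E ⊗[K] AlgebraicClosure E))) :=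
    e2.inv.homeomorph.subsingleton
  exact hsub2


/-- a function on a geometrically connected `K`-scheme killed by an irreducible polynomial over
`K` has a `q^n`-th power in `K` -/
theorem exists_pow_eq_of_geometricallyConnected {K : Type u} [Field K] (q : ℕ) [ExpChar K q]
    {Y : Scheme.{u}} (p : Y ⟶ Spec (CommRingCat.of K)) [GeometricallyConnected p]
    (P : Polynomial K) (hP : Irreducible P) (h : Γ(Y, ⊤))
    (hroot : P.eval₂ ((Scheme.ΓSpecIso (CommRingCat.of K)).inv ≫ p.appTop).hom h = 0) :
    ∃ (n : ℕ) (a : K), h ^ q ^ n = ((Scheme.ΓSpecIso (CommRingCat.of K)).inv ≫ p.appTop).hom a := by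
  haveI : Fact (Irreducible P) := ⟨hP⟩
  let ρ : K →+* Γ(Y, ⊤) := ((Scheme.ΓSpecIso (CommRingCat.of K)).inv ≫ p.appTop).hom
  let θ : AdjoinRoot P →+* Γ(Y, ⊤) := AdjoinRoot.lift ρ h hroot
  let φ : Y ⟶ Spec (CommRingCat.of (AdjoinRoot P)) := Y.toSpecΓ ≫ Spec.map (CommRingCat.ofHom θ)
  have hφ : φ ≫ Spec.map (CommRingCat.ofHom (algebraMap K (AdjoinRoot P))) = p := by
    apply ext_of_isAffine
    rw [Scheme.Hom.comp_appTop, Scheme.Hom.comp_appTop, Scheme.toSpecΓ_appTop]
    rw [← cancel_epi (Scheme.ΓSpecIso (CommRingCat.of K)).inv]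
    rw [Scheme.ΓSpecIso_naturality, ← Category.assoc, ← Category.assoc,
      ← Scheme.ΓSpecIso_inv_naturality]
    rw [Category.assoc, Category.assoc, Iso.inv_hom_id_assoc]
    ext a
    show θ (algebraMap K (AdjoinRoot P) a) = ρ a
    rw [AdjoinRoot.algebraMap_eq, AdjoinRoot.lift_of]
  haveI : Module.Finite K (AdjoinRoot P) :=
    (AdjoinRoot.powerBasis hP.ne_zero).finite
  haveI : Algebra.IsAlgebraic K (AdjoinRoot P) := Algebra.IsAlgebraic.of_finite K _
  haveI := isPurelyInseparable_of_geometricallyConnected p φ hφ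
  obtain ⟨n, a, ha⟩ := IsPurelyInseparable.pow_mem K q (AdjoinRoot.root P)
  refine ⟨n, a, ?_⟩
  have h1 := congrArg θ ha
  rw [map_pow, AdjoinRoot.lift_root, AdjoinRoot.algebraMap_eq, AdjoinRoot.lift_of] at h1
  exact h1.symm

end Groth.Agent.Lib.SteinNNH8
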