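import Mathlib
import Groth.Prelude

/-!
# Algebra for S7803: integral elements become purely inseparable (helper8)
APPEND-ONLY once landed.
-/

set_option autoImplicit false
set_option linter.all false
set_option maxHeartbeats 1600000

universe u

open Polynomial

namespace Groth.Agent.Lib.SteinNNH8

theorem exists_pow_mul_eq_aux {A B K H L : Type u} [CommRing A] [IsDomain A] [CommRing B] [IsDomain B]
    [Field K] [Algebra A K] [IsFractionRing A K] [CommRing H] [Field L] [Algebra B L]
    [IsFractionRing B L]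
    (α : A →+* B) (hα : Function.Injective α) (β : B →+* H) (hβ : Function.Injective β)
    (ρ : K →+* H) (hcomm : β.comp α = ρ.comp (algebraMap A K)) (q : ℕ)
    (hPI : ∀ (P : Polynomial K) (hP : Irreducible P) (h : H), P.eval₂ ρ h = 0 →
      ∃ (n : ℕ) (a : K), h ^ q ^ n = ρ a)
    (c : B) (hc : α.IsIntegralElem c) :
    ∃ (n : ℕ) (a s : A), s ≠ 0 ∧ c ^ q ^ n * α s = α a := by
  classical
  let ι : A →+* L := (algebraMap B L).comp α
  have hι : Function.Injective ι := (IsFractionRing.injective B L).comp hα
  let κ : K →+* L := IsFractionRing.lift (g := ι) hι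
  have hκ : κ.comp (algebraMap A K) = ι := by
    ext a
    exact IsFractionRing.lift_algebraMap (A := A) (K := K) hι a
  -- `c` is integral over `K` in `L`
  obtain ⟨p, hp, hpc⟩ := hc
  have hintK : κ.IsIntegralElem (algebraMap B L c) := by
    refine ⟨p.map (algebraMap A K), hp.map _, ?_⟩
    rw [eval₂_map, hκ]
    show eval₂ ((algebraMap B L).comp α) (algebraMap B L c) p = 0
    rw [← hom_eval₂, hpc, map_zero]
  letI : Algebra K L := κ.toAlgebra
  have hint' : IsIntegral K (algebraMap B L c) := hintK
  let P := minpoly K (algebraMap B L c)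
  have hPirr : Irreducible P := minpoly.irreducible hint'
  have hPc : eval₂ κ (algebraMap B L c) P = 0 := minpoly.aeval K (algebraMap B L c)
  -- clear denominators
  obtain ⟨b, hbM, hb⟩ := IsLocalization.integerNormalization_spec (nonZeroDivisors A) P
  have h1 := IsLocalization.integerNormalization_eval₂_eq_zero (nonZeroDivisors A) κ P hPc
  rw [hκ] at h1
  have h2 : eval₂ α c (IsLocalization.integerNormalization (nonZeroDivisors A) P) = 0 := by
    apply IsFractionRing.injective B L
    rw [map_zero, hom_eval₂]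
    exact h1
  have h3 : eval₂ ρ (β c)
      ((IsLocalization.integerNormalization (nonZeroDivisors A) P).map (algebraMap A K)) = 0 := by
    rw [eval₂_map, ← hcomm, ← hom_eval₂, h2, map_zero]
  rw [hb, ← IsScalarTower.algebraMap_smul K b P, eval₂_smul] at h3
  have hb0 : algebraMap A K b ≠ 0 := by
    rw [Ne, map_eq_zero_iff _ (IsFractionRing.injective A K)]
    exact nonZeroDivisors.ne_zero hbM
  have hunit : IsUnit (ρ (algebraMap A K b)) := (IsUnit.mk0 _ hb0).map ρ
  have h4 : eval₂ ρ (β c) P = 0 := by
    have := hunit.mul_left_cancel (b := eval₂ ρ (β c) P) (c := 0) (by rw [h3, mul_zero])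
    exact this
  obtain ⟨n, k, hk⟩ := hPI P hPirr (β c) h4
  obtain ⟨a, s, hs, hk2⟩ := IsFractionRing.div_surjective (A := A) k
  have hs0 : s ≠ 0 := nonZeroDivisors.ne_zero hs
  have hs0' : algebraMap A K s ≠ 0 := by
    rw [Ne, map_eq_zero_iff _ (IsFractionRing.injective A K)]
    exact hs0
  refine ⟨n, a, s, hs0, ?_⟩
  apply hβ
  have hcomm' : ∀ x, β (α x) = ρ (algebraMap A K x) := fun x => by
    have := congrArg (fun g => g x) hcomm
    simpa using this
  rw [map_mul, map_pow, hk, hcomm', hcomm', ← map_mul, ← hk2, div_mul_cancel₀ _ hs0']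


theorem exists_pow_mul_eq {A B K H : Type u} [CommRing A] [IsDomain A] [CommRing B] [IsDomain B]
    [Field K] [Algebra A K] [IsFractionRing A K] [CommRing H]
    (α : A →+* B) (hα : Function.Injective α) (β : B →+* H) (hβ : Function.Injective β)
    (ρ : K →+* H) (hcomm : β.comp α = ρ.comp (algebraMap A K)) (q : ℕ)
    (hPI : ∀ (P : Polynomial K) (hP : Irreducible P) (h : H), P.eval₂ ρ h = 0 →
      ∃ (n : ℕ) (a : K), h ^ q ^ n = ρ a)
    (c : B) (hc : α.IsIntegralElem c) :
    ∃ (n : ℕ) (a s : A), s ≠ 0 ∧ c ^ q ^ n * α s = α a :=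
  exists_pow_mul_eq_aux (L := FractionRing B) α hα β hβ ρ hcomm q hPI c hc

end Groth.Agent.Lib.SteinNNH8
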