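import Mathlib
import Groth.Prelude
import Groth.Agent.Lib.NormUH_helper6

/-!
# Algebra for S7803, part 2: uniqueness of field-valued points for the integral closure (helper8)
APPEND-ONLY once landed.
-/

set_option autoImplicit false
set_option linter.all false
set_option maxHeartbeats 1600000

universe u

open CategoryTheory AlgebraicGeometry

namespace Groth.Agent.Lib.SteinNNH8

open Groth.Agent.Lib.UnivHomeo

/-- the "radical" condition is closed under products -/
theorem rad_mul {A R : Type u} [CommRing A] [IsDomain A] [Field R] [Algebra A R]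
    (hinj : Function.Injective (algebraMap A R)) (q : ℕ) {x y : R}
    (hx : ∃ (n : ℕ) (a s : A), s ≠ 0 ∧ x ^ q ^ n * algebraMap A R s = algebraMap A R a)
    (hy : ∃ (n : ℕ) (a s : A), s ≠ 0 ∧ y ^ q ^ n * algebraMap A R s = algebraMap A R a) :
    ∃ (n : ℕ) (a s : A), s ≠ 0 ∧ (x * y) ^ q ^ n * algebraMap A R s = algebraMap A R a := by
  obtain ⟨n, a, s, hs, h1⟩ := hx
  obtain ⟨m, b, t, ht, h2⟩ := hy
  refine ⟨n + m, a ^ q ^ m * b ^ q ^ n, s ^ q ^ m * t ^ q ^ n,
    mul_ne_zero (pow_ne_zero _ hs) (pow_ne_zero _ ht), ?_⟩
  have e1 : x ^ q ^ (n + m) = (x ^ q ^ n) ^ q ^ m := by rw [← pow_mul, ← pow_add]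
  have e2 : y ^ q ^ (n + m) = (y ^ q ^ m) ^ q ^ n := by rw [← pow_mul, ← pow_add, add_comm]
  rw [mul_pow, e1, e2, map_mul, map_mul, map_pow, map_pow, map_pow, map_pow, ← h1, ← h2]
  ring

/-- the "radical" condition is closed under inverses -/
theorem rad_inv {A R : Type u} [CommRing A] [IsDomain A] [Field R] [Algebra A R]
    (hinj : Function.Injective (algebraMap A R)) (q : ℕ) {x : R}
    (hx : ∃ (n : ℕ) (a s : A), s ≠ 0 ∧ x ^ q ^ n * algebraMap A R s = algebraMap A R a) :
    ∃ (n : ℕ) (a s : A), s ≠ 0 ∧ (x⁻¹) ^ q ^ n * algebraMap A R s = algebraMap A R a := by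
  by_cases hx0 : x = 0
  · subst hx0
    refine ⟨0, 0, 1, one_ne_zero, ?_⟩
    simp
  obtain ⟨n, a, s, hs, h1⟩ := hx
  have ha : a ≠ 0 := by
    rintro rfl
    rw [map_zero] at h1
    rcases mul_eq_zero.mp h1 with h | h
    · exact hx0 (eq_zero_of_pow_eq_zero h)
    · exact hs (hinj (h.trans (map_zero _).symm))
  refine ⟨n, s, a, ha, ?_⟩
  rw [← h1, inv_pow]
  field_simp


/-- descent of `PU` along an injective integral extension of the top ring -/
theorem PU_of_injective_integral {A C C' : Type u} [CommRing A] [CommRing C] [CommRing C']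
    [Algebra A C] [Algebra A C'] (j : C →ₐ[A] C') (hj : Function.Injective j)
    (hint : j.toRingHom.IsIntegral) (hPU : PU A C') : PU A C := by
  have hUI' : UniversallyInjective (Spec.map (CommRingCat.ofHom (algebraMap A C'))) :=
    (universallyInjective_SpecMap_iff _).mpr hPU
  have hcomp : Spec.map (CommRingCat.ofHom (algebraMap A C')) =
      Spec.map (CommRingCat.ofHom j.toRingHom) ≫ Spec.map (CommRingCat.ofHom (algebraMap A C)) := by
    rw [← Spec.map_comp]
    congr 1
    ext a
    exact (j.commutes a).symm
  haveI : Surjective (Spec.map (CommRingCat.ofHom j.toRingHom)) := by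
    rw [surjective_SpecMap_iff_of_isIntegral _ hint]
    intro c hc
    rw [RingHom.mem_ker] at hc
    have : c = 0 := hj (hc.trans (map_zero _).symm)
    rw [this]
    exact Ideal.zero_mem _
  haveI : UniversallyInjective (Spec.map (CommRingCat.ofHom j.toRingHom) ≫
      Spec.map (CommRingCat.ofHom (algebraMap A C))) := hcomp ▸ hUI'
  have hUI := universallyInjective_of_comp_of_surjective
    (Spec.map (CommRingCat.ofHom j.toRingHom)) (Spec.map (CommRingCat.ofHom (algebraMap A C)))
  exact (universallyInjective_SpecMap_iff _).mp hUI


theorem PU_integralClosure_of_rad {A B : Type u} [CommRing A] [IsDomain A] [CommRing B]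
    [IsDomain B] [Algebra A B] (hinj : Function.Injective (algebraMap A B)) (q : ℕ)
    (hq : q = 1 ∨ (q.Prime ∧ (q : A) = 0))
    (hrad : ∀ c : B, IsIntegral A c → ∃ (n : ℕ) (a s : A), s ≠ 0 ∧
      c ^ q ^ n * algebraMap A B s = algebraMap A B a)
    (hGU : ∀ (𝔭 : Ideal A) [𝔭.IsPrime], ∃ (D : Type u) (_ : CommRing D) (_ : IsLocalRing D)
      (_ : Algebra A D), IsLocalization.AtPrime D 𝔭 ∧ CAlg2.IsGeomUnibranch D) :
    PU A (integralClosure A B) := by
  have hinjC : Function.Injective (algebraMap A (integralClosure A B)) := by
    intro a a' h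
    apply hinj
    exact congrArg (fun z : integralClosure A B => (z : B)) h
  have hinjR : Function.Injective (algebraMap A (FractionRing (integralClosure A B))) := by
    rw [IsScalarTower.algebraMap_eq A (integralClosure A B) (FractionRing (integralClosure A B))]
    exact (IsFractionRing.injective (integralClosure A B) _).comp hinjC
  have hradC : ∀ c : integralClosure A B, ∃ (n : ℕ) (a s : A), s ≠ 0 ∧
      (algebraMap (integralClosure A B) (FractionRing (integralClosure A B)) c) ^ q ^ n *
        algebraMap A (FractionRing (integralClosure A B)) s =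
        algebraMap A (FractionRing (integralClosure A B)) a := by
    intro c
    obtain ⟨n, a, s, hs, h⟩ := hrad c.1 c.2
    refine ⟨n, a, s, hs, ?_⟩
    have h' : c ^ q ^ n * algebraMap A (integralClosure A B) s =
        algebraMap A (integralClosure A B) a := Subtype.ext h
    rw [IsScalarTower.algebraMap_eq A (integralClosure A B) (FractionRing (integralClosure A B))]
    simp only [RingHom.comp_apply]
    rw [← map_pow, ← map_mul, h']
  have hradR : ∀ x : FractionRing (integralClosure A B), ∃ (n : ℕ) (a s : A), s ≠ 0 ∧
      x ^ q ^ n * algebraMap A (FractionRing (integralClosure A B)) s =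
        algebraMap A (FractionRing (integralClosure A B)) a := by
    intro x
    obtain ⟨c1, c2, hc2, rfl⟩ := IsFractionRing.div_surjective (A := integralClosure A B) x
    rw [div_eq_mul_inv]
    exact rad_mul hinjR q (hradC c1) (rad_inv hinjR q (hradC c2))
  have hPU' : PU A (integralClosure A (FractionRing (integralClosure A B))) :=
    PU_integralClosure_of_geomUnibranch (Field.toIsField _) hinjR q hq hradR hGU
  -- the inclusion `C → C'`
  let j : integralClosure A B →ₐ[A] integralClosure A (FractionRing (integralClosure A B)) :=
    (IsScalarTower.toAlgHom A (integralClosure A B)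
      (FractionRing (integralClosure A B))).codRestrict _ (fun c => by
        have hc : IsIntegral A c := integralClosure.isIntegral c
        exact hc.map (IsScalarTower.toAlgHom A (integralClosure A B)
          (FractionRing (integralClosure A B))))
  have hj : Function.Injective j := by
    intro c c' h
    apply IsFractionRing.injective (integralClosure A B) (FractionRing (integralClosure A B))
    exact congrArg (fun z : integralClosure A (FractionRing (integralClosure A B)) =>
      (z : FractionRing (integralClosure A B))) h
  have hjint : j.toRingHom.IsIntegral := by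
    intro x
    obtain ⟨p, hp, hpx⟩ := integralClosure.isIntegral x
    refine ⟨p.map (algebraMap A (integralClosure A B)), hp.map _, ?_⟩
    rw [Polynomial.eval₂_map]
    have : j.toRingHom.comp (algebraMap A (integralClosure A B)) =
        algebraMap A (integralClosure A (FractionRing (integralClosure A B))) := by
      ext a
      exact congrArg Subtype.val (j.commutes a)
    rw [this]
    exact hpx
  exact PU_of_injective_integral j hj hjint hPU'

end Groth.Agent.Lib.SteinNNH8
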