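import Mathlib
import Groth.Prelude
import Groth.Agent.Lib.SteinNN4_helper8
import Groth.Agent.Lib.SteinNN5_helper8
import Groth.Agent.Lib.SteinNN6_helper8
import Groth.Agent.Lib.SteinNN7_helper8

/-!
# EGA III 4.3.12: proper dominant morphisms to geometrically unibranch bases with geometrically
connected generic fibre (helper8)
APPEND-ONLY once landed.
-/

set_option autoImplicit false
set_option linter.all false
set_option maxHeartbeats 1600000

universe u

open CategoryTheory CategoryTheory.Limits AlgebraicGeometry TopologicalSpace Opposite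

namespace Groth.Agent.Lib.SteinNNH8

open Groth.Agent.Lib.UnivHomeo

theorem genericPoint_map_of_isDominant {X S : Scheme.{u}} (f : X ⟶ S) [IsDominant f]
    [IrreducibleSpace ↥X] [IrreducibleSpace ↥S] : f (genericPoint ↥X) = genericPoint ↥S := by
  have h1 : IsGenericPoint (f (genericPoint ↥X)) (closure (f '' Set.univ)) :=
    (genericPoint_spec ↥X).image f.continuous
  rw [Set.image_univ, f.denseRange.closure_range] at h1
  exact (h1.eq (genericPoint_spec ↥S))

theorem fiberι_appLE_injective {X S : Scheme.{u}} (f : X ⟶ S) [IsReduced X] (s : S)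
    (hgen : ∀ Z ∈ irreducibleComponents ↑X, ∀ x : X, IsGenericPoint x Z → f x = s)
    (V : X.Opens) (e : ⊤ ≤ (f.fiberι s) ⁻¹ᵁ V) :
    Function.Injective ((f.fiberι s).appLE V ⊤ e).hom := by
  have h1 : ((f.fiberι s).appLE V ⊤ e).hom =
      ((f.fiber s).presheaf.map (homOfLE e).op).hom.comp ((f.fiberι s).app V).hom := rfl
  rw [h1, RingHom.coe_comp]
  exact (restrict_bijective_of_eq (le_antisymm e le_top) e).1.comp
    (fiberι_app_injective f s hgen V)

theorem app_fiberι_appLE_eq {X S : Scheme.{u}} (f : X ⟶ S) (s : S) (U : S.Opens) (hs : s ∈ U)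
    (e : ⊤ ≤ (f.fiberι s) ⁻¹ᵁ f ⁻¹ᵁ U) :
    f.app U ≫ (f.fiberι s).appLE (f ⁻¹ᵁ U) ⊤ e =
      S.presheaf.germ U s hs ≫ S.residue s ≫ (Scheme.ΓSpecIso (S.residueField s)).inv ≫
        (f.fiberToSpecResidueField s).appTop := by
  have key : ∀ (g : f.fiber s ⟶ S) (hg : g = f.fiberι s ≫ f)
      (e' : ⊤ ≤ g ⁻¹ᵁ U),
      g.appLE U ⊤ e' = f.app U ≫ (f.fiberι s).appLE (f ⁻¹ᵁ U) ⊤ e := by
    rintro g rfl e'
    rw [Scheme.Hom.comp_appLE]
  have he : (⊤ : (f.fiber s).Opens) ≤
      (f.fiberToSpecResidueField s ≫ S.fromSpecResidueField s) ⁻¹ᵁ U := by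
    rw [← Scheme.Hom.fiber_fac]
    exact e
  have e₁ : (⊤ : (Spec (S.residueField s)).Opens) ≤ (S.fromSpecResidueField s) ⁻¹ᵁ U := by
    intro x _
    show (S.fromSpecResidueField s) x ∈ U
    rw [Scheme.fromSpecResidueField_apply]
    exact hs
  rw [← key _ (Scheme.Hom.fiber_fac f s).symm he]
  rw [← Scheme.Hom.appLE_comp_appLE (f.fiberToSpecResidueField s) (S.fromSpecResidueField s)
    U ⊤ _ e₁ le_top, fromSpecResidueField_appLE_top s U hs e₁]
  simp only [Category.assoc]
  have h2 : (f.fiberToSpecResidueField s).appLE ⊤ ⊤ le_top =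
      (f.fiberToSpecResidueField s).appTop :=
    Scheme.Hom.appLE_eq_app (f.fiberToSpecResidueField s)
  rw [h2]


/-- the key purely-inseparable statement on a nonempty affine open of the base -/
theorem exists_pow_mul_eq_of_generic {X S : Scheme.{u}} (f : X ⟶ S) [IsProper f] [IsDominant f]
    [IsIntegral X] [IsIntegral S]
    (hη : GeometricallyConnected (f.fiberToSpecResidueField (genericPoint S)))
    (U : S.Opens) (hU : IsAffineOpen U) [Nonempty U] (q : ℕ) [ExpChar S.functionField q]
    (c : Γ(X, f ⁻¹ᵁ U)) (hc : (f.app U).hom.IsIntegralElem c) :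
    ∃ (n : ℕ) (a s : Γ(S, U)), s ≠ 0 ∧ c ^ q ^ n * (f.app U).hom s = (f.app U).hom a := by
  have hηU : genericPoint S ∈ U :=
    ((genericPoint_spec S).mem_open_set_iff U.isOpen).mpr
      ⟨_, trivial, (Classical.arbitrary U).2⟩
  have hfη : f (genericPoint ↥X) = genericPoint ↥S := genericPoint_map_of_isDominant f
  haveI : Nonempty (f ⁻¹ᵁ U) := ⟨⟨genericPoint ↥X, by
    show f (genericPoint ↥X) ∈ U
    rw [hfη]; exact hηU⟩⟩
  haveI : IsFractionRing Γ(S, U) S.functionField :=
    functionField_isFractionRing_of_isAffineOpen S U hU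
  haveI := IsSchemeTheoreticallyDominant.of_isDominant f
  have hα : Function.Injective (f.app U).hom := f.app_injective U
  have hgen : ∀ Z ∈ irreducibleComponents ↑X, ∀ x : X, IsGenericPoint x Z →
      f x = genericPoint ↥S := by
    intro Z hZ x hx
    have hZu : Z = Set.univ := by
      have h1 : (Set.univ : Set ↥X) ∈ irreducibleComponents ↥X := by
        refine ⟨(IrreducibleSpace.isIrreducible_univ ↥X), fun T _ _ => Set.subset_univ T⟩
      have h2 : Z ⊆ Set.univ := Set.subset_univ Z
      exact le_antisymm h2 (hZ.2 h1.1 h2)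
    subst hZu
    rw [← hfη]
    congr 1
    exact hx.eq (genericPoint_spec ↥X)
  have htop : (⊤ : (f.fiber (genericPoint ↥S)).Opens) ≤
      (f.fiberι (genericPoint ↥S)) ⁻¹ᵁ f ⁻¹ᵁ U := by
    intro w _
    show f ((f.fiberι (genericPoint ↥S)) w) ∈ U
    have h1 : (f.fiberι (genericPoint ↥S)) w ∈ Set.range (f.fiberι (genericPoint ↥S)) := ⟨w, rfl⟩
    rw [Scheme.Hom.range_fiberι] at h1
    rw [h1]
    exact hηU
  have hres : Function.Bijective (S.residue (genericPoint ↥S)).hom :=
    ⟨RingHom.injective _, S.residue_surjective _⟩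
  let ρη : S.residueField (genericPoint ↥S) →+* Γ(f.fiber (genericPoint ↥S), ⊤) :=
    ((Scheme.ΓSpecIso (S.residueField (genericPoint ↥S))).inv ≫
      (f.fiberToSpecResidueField (genericPoint ↥S)).appTop).hom
  let ρ : S.functionField →+* Γ(f.fiber (genericPoint ↥S), ⊤) :=
    ρη.comp (S.residue (genericPoint ↥S)).hom
  refine exists_pow_mul_eq (K := S.functionField) (f.app U).hom hα
    ((f.fiberι (genericPoint ↥S)).appLE (f ⁻¹ᵁ U) ⊤ htop).hom
    (fiberι_appLE_injective f _ hgen _ htop) ρ ?_ q ?_ c hc
  · have h1 := app_fiberι_appLE_eq f (genericPoint ↥S) U hηU htop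
    have h2 := congrArg (fun g => g.hom) h1
    simp only [CommRingCat.hom_comp] at h2
    rw [h2]
    rfl
  · intro P hP h hroot
    haveI : ExpChar (S.residueField (genericPoint ↥S)) q :=
      expChar_of_injective_ringHom hres.1 q
    let eres : S.functionField ≃+* S.residueField (genericPoint ↥S) :=
      RingEquiv.ofBijective (S.residue (genericPoint ↥S)).hom hres
    have hP' : Irreducible (P.map (S.residue (genericPoint ↥S)).hom) := by
      have : P.map (S.residue (genericPoint ↥S)).hom = Polynomial.mapEquiv eres P := rfl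
      rw [this]
      exact (MulEquiv.irreducible_iff (Polynomial.mapEquiv eres)).mpr hP
    have hroot' : (P.map (S.residue (genericPoint ↥S)).hom).eval₂ ρη h = 0 := by
      rw [Polynomial.eval₂_map]
      exact hroot
    obtain ⟨n, a', ha'⟩ := exists_pow_eq_of_geometricallyConnected (K := S.residueField (genericPoint ↥S))
      q (f.fiberToSpecResidueField (genericPoint ↥S)) _ hP' h hroot'
    obtain ⟨a, rfl⟩ := hres.2 a'
    exact ⟨n, a, ha'⟩


/-- EGA III 4.3.12, the finite part of the Stein factorization is a universal homeomorphism -/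
theorem isUnivHomeo_fromNormalization_of_generic {X S : Scheme.{u}} (f : X ⟶ S) [IsProper f]
    [IsDominant f] [IsIntegral X] [IsIntegral S]
    (hS : ∀ s : S, CAlg2.IsGeomUnibranch (S.presheaf.stalk s))
    (hη : GeometricallyConnected (f.fiberToSpecResidueField (genericPoint S))) :
    FlatMor.IsUnivHomeo f.fromNormalization := by
  classical
  apply isUnivHomeo_fromNormalization_of_forall
  intro U
  by_cases hne : Nonempty U.1
  swap
  · -- empty affine open
    have hU : U.1 = ⊥ := by
      rw [← TopologicalSpace.Opens.not_nonempty_iff_eq_bot]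
      intro h
      exact hne ⟨⟨h.some, h.some_mem⟩⟩
    have hsub : Subsingleton Γ(S, U.1) := by rw [hU]; infer_instance
    apply isUnivHomeo_SpecMap_normalizationDiagramMap
    · letI := (f.app U.1).hom.toAlgebra
      intro Ω _ ψ₁ ψ₂ _
      exfalso
      have h10 : (1 : Γ(S, U.1)) = 0 := Subsingleton.elim _ _
      have := congrArg (fun a => ψ₁ (algebraMap Γ(S, U.1) _ a)) h10
      simp at this
    · intro a _
      rw [Subsingleton.elim a 0]
      exact Ideal.zero_mem _
  · haveI := hne
    have hηU : genericPoint S ∈ U.1 :=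
      ((genericPoint_spec S).mem_open_set_iff U.1.isOpen).mpr
        ⟨_, trivial, (Classical.arbitrary U.1).2⟩
    have hfη : f (genericPoint ↥X) = genericPoint ↥S := genericPoint_map_of_isDominant f
    haveI : Nonempty (f ⁻¹ᵁ U.1) := ⟨⟨genericPoint ↥X, by
      show f (genericPoint ↥X) ∈ U.1
      rw [hfη]; exact hηU⟩⟩
    haveI := IsSchemeTheoreticallyDominant.of_isDominant f
    have hα : Function.Injective (f.app U.1).hom := f.app_injective U.1
    apply isUnivHomeo_SpecMap_normalizationDiagramMap
    swap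
    · intro a ha
      rw [RingHom.mem_ker] at ha
      have : a = 0 := hα (ha.trans (map_zero _).symm)
      rw [this]
      exact Ideal.zero_mem _
    letI := (f.app U.1).hom.toAlgebra
    haveI : IsFractionRing Γ(S, U.1) S.functionField :=
      functionField_isFractionRing_of_isAffineOpen S U.1 U.2
    have hgerminj : Function.Injective (S.presheaf.germ U.1 (genericPoint S) hηU) :=
      germ_injective_of_isIntegral S _ hηU
    obtain ⟨q, hq⟩ : ∃ q, q = ringExpChar S.functionField := ⟨_, rfl⟩
    haveI hE : ExpChar S.functionField q := hq ▸ ringExpChar.expChar _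
    refine PU_integralClosure_of_rad (A := Γ(S, U.1)) (B := Γ(X, f ⁻¹ᵁ U.1)) hα q ?_ ?_ ?_
    · cases hE with
      | zero => exact Or.inl rfl
      | prime hp =>
        refine Or.inr ⟨hp, ?_⟩
        apply hgerminj
        rw [map_natCast, map_zero]
        exact CharP.cast_eq_zero _ q
    · intro c hc
      exact exists_pow_mul_eq_of_generic f hη U.1 U.2 q c hc
    · intro 𝔭 h𝔭
      obtain ⟨y, rfl⟩ : ∃ y : PrimeSpectrum Γ(S, U.1), y.asIdeal = 𝔭 := ⟨⟨𝔭, h𝔭⟩, rfl⟩
      have hx : U.2.fromSpec y ∈ U.1 := by
        have : U.2.fromSpec y ∈ Set.range U.2.fromSpec := ⟨y, rfl⟩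
        rw [U.2.range_fromSpec] at this
        exact this
      refine ⟨S.presheaf.stalk (U.2.fromSpec y), inferInstance, inferInstance,
        TopCat.Presheaf.algebra_section_stalk S.presheaf ⟨U.2.fromSpec y, hx⟩, ?_, hS _⟩
      exact U.2.isLocalization_stalk' y hx


theorem connectedSpace_pullback_congr {X S T : Scheme.{u}} {f f' : X ⟶ S} (h : f = f') (x : T ⟶ S)
    (hc : ConnectedSpace ↥(pullback f x)) : ConnectedSpace ↥(pullback f' x) := by
  subst h
  exact hc

/-- EGA III 4.3.12 (statement S7803) -/
theorem main7803 {X S : Scheme.{u}} (f : X ⟶ S) [IsProper f] [IsDominant f]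
    [IsIntegral X] [IsIntegral S]
    (hS : ∀ s : S, CAlg2.IsGeomUnibranch (S.presheaf.stalk s))
    (hη : GeometricallyConnected (f.fiberToSpecResidueField (genericPoint S))) :
    GeometricallyConnected f := by
  have hUH := isUnivHomeo_fromNormalization_of_generic f hS hη
  haveI := geometricallyConnected_toNormalization f
  refine ⟨geometrically_iff_of_isClosedUnderIsomorphisms.mpr fun K _ x => ?_⟩
  have hT : IsHomeomorph (pullback.snd f.fromNormalization x) :=
    hUH _ _ _ (IsPullback.of_hasPullback f.fromNormalization x).flip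
  haveI : Subsingleton ↥(pullback f.fromNormalization x) := by
    haveI : Subsingleton ↥(Spec (CommRingCat.of K)) :=
      inferInstanceAs (Subsingleton (PrimeSpectrum K))
    exact hT.injective.subsingleton
  haveI : Nonempty ↥(pullback f.fromNormalization x) := by
    obtain ⟨t, -⟩ := hT.surjective (Classical.arbitrary (PrimeSpectrum K))
    exact ⟨t⟩
  haveI : ConnectedSpace
      ↥(pullback f.toNormalization (pullback.fst f.fromNormalization x)) :=
    GeometricallyConnected.connectedSpace_of_subsingleton
      (pullback.snd f.toNormalization (pullback.fst f.fromNormalization x))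
  have e := pullbackRightPullbackFstIso f.fromNormalization x f.toNormalization
  have hc : ConnectedSpace ↥(pullback (f.toNormalization ≫ f.fromNormalization) x) :=
    (e.inv.homeomorph.connectedSpace_iff).mpr inferInstance
  exact connectedSpace_pullback_congr f.toNormalization_fromNormalization x hc

end Groth.Agent.Lib.SteinNNH8
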