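import Mathlib

/-!
# Steinitz-type lemma over Dedekind domains (helper5)

For nonzero ideals `I`, `J` of a Dedekind domain `R`, `I × J ≃ R × (I * J)` as modules.
Consequently, for an invertible module `N`, `N^(n+1) ≃ T × R^n` for an invertible ideal `T` with class
`[N]^(n+1)`.
-/

set_option autoImplicit false
universe u v

open scoped TensorProduct

namespace Groth.Agent.Lib.Steinitz

/-- For comaximal ideals `I`, `J` (witnessed by `u + v = 1`), `I × J ≃ R × IJ`. -/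
noncomputable def coprimeEquiv {R : Type u} [CommRing R] (I J : Ideal R) (u v : R)
    (hu : u ∈ I) (hv : v ∈ J) (huv : u + v = 1) :
    (I × J) ≃ₗ[R] (R × ↥(I * J)) where
  toFun p := (p.1.1 + p.2.1, ⟨p.1.1 * v - p.2.1 * u,
    sub_mem (Ideal.mul_mem_mul p.1.2 hv) (by
      rw [mul_comm (p.2.1 : R) u]; exact Ideal.mul_mem_mul hu p.2.2)⟩)
  map_add' p q := by
    refine Prod.ext ?_ (Subtype.ext ?_)
    · simp only [Prod.fst_add, Submodule.coe_add, Prod.snd_add]; ring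
    · simp only [Prod.fst_add, Submodule.coe_add, Prod.snd_add]; ring
  map_smul' r p := by
    refine Prod.ext ?_ (Subtype.ext ?_)
    · simp only [Prod.smul_fst, Prod.smul_snd, Submodule.coe_smul, smul_eq_mul, RingHom.id_apply]
      ring
    · simp only [Prod.smul_fst, Prod.smul_snd, Submodule.coe_smul, smul_eq_mul, RingHom.id_apply]
      ring
  invFun q := (⟨q.1 * u + q.2.1, add_mem (I.mul_mem_left _ hu) ((Ideal.mul_le_left : I * J ≤ I) q.2.2)⟩,
    ⟨q.1 * v - q.2.1, sub_mem (J.mul_mem_left _ hv) ((Ideal.mul_le_right : I * J ≤ J) q.2.2)⟩)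
  left_inv p := by
    refine Prod.ext (Subtype.ext ?_) (Subtype.ext ?_)
    · show (p.1.1 + p.2.1) * u + (p.1.1 * v - p.2.1 * u) = p.1.1
      linear_combination p.1.1 * huv
    · show (p.1.1 + p.2.1) * v - (p.1.1 * v - p.2.1 * u) = p.2.1
      linear_combination p.2.1 * huv
  right_inv q := by
    refine Prod.ext ?_ (Subtype.ext ?_)
    · show (q.1 * u + q.2.1) + (q.1 * v - q.2.1) = q.1
      linear_combination q.1 * huv
    · show (q.1 * u + q.2.1) * v - (q.1 * v - q.2.1) * u = q.2.1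
      linear_combination q.2.1 * huv

/-- Multiplication by a nonzero element of a domain: `I ≃ (a) * I`. -/
noncomputable def scaleEquiv {R : Type u} [CommRing R] [IsDomain R] (a : R) (ha : a ≠ 0)
    (I : Ideal R) : I ≃ₗ[R] ↥(Ideal.span {a} * I) :=
  LinearEquiv.ofBijective
    ((LinearMap.mulLeft R a).restrict (p := I) (q := Ideal.span {a} * I)
      (fun x hx => Ideal.mul_mem_mul (Ideal.mem_span_singleton_self a) hx))
    ⟨fun x y h => Subtype.ext (mul_left_cancel₀ ha (congrArg Subtype.val h)),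
     fun ⟨y, hy⟩ => by
       obtain ⟨z, hz, rfl⟩ := Ideal.mem_span_singleton_mul.mp hy
       exact ⟨⟨z, hz⟩, rfl⟩⟩

/-- If `(c) * I = (a) * I'` with `a, c ≠ 0`, then `I ≃ I'`. -/
noncomputable def equivOfSpanMulEq {R : Type u} [CommRing R] [IsDomain R] {a c : R} (ha : a ≠ 0)
    (hc : c ≠ 0) {I I' : Ideal R} (h : Ideal.span {c} * I = Ideal.span {a} * I') : I ≃ₗ[R] I' :=
  scaleEquiv c hc I ≪≫ₗ LinearEquiv.ofEq _ _ h ≪≫ₗ (scaleEquiv a ha I').symm

/-- Moving an ideal in its class to be comaximal with a given nonzero ideal. -/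
theorem exists_coprime_representative {R : Type u} [CommRing R] [IsDedekindDomain R]
    (I J : Ideal R) (hI : I ≠ ⊥) (hJ : J ≠ ⊥) :
    ∃ (I' : Ideal R) (a c : R), a ≠ 0 ∧ c ≠ 0 ∧
      Ideal.span {c} * I = Ideal.span {a} * I' ∧ I' ⊔ J = ⊤ := by
  by_cases hJtop : J = ⊤
  · exact ⟨I, 1, 1, one_ne_zero, one_ne_zero, rfl, by rw [hJtop]; exact sup_top_eq _⟩
  obtain ⟨a, haI, ha0⟩ := Submodule.exists_mem_ne_zero_of_ne_bot hI
  obtain ⟨I₁, hI₁⟩ : I ∣ Ideal.span {a} :=
    Ideal.dvd_iff_le.mpr ((Ideal.span_singleton_le_iff_mem I).mpr haI)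
  have hI₁0 : I₁ ≠ ⊥ := by
    rintro rfl
    rw [Ideal.mul_bot, Ideal.span_singleton_eq_bot] at hI₁
    exact ha0 hI₁
  have hne : I₁ * J ≠ 0 := mul_ne_zero hI₁0 hJ
  obtain ⟨c, hc⟩ := IsDedekindDomain.exists_sup_span_eq (Ideal.mul_le_left : I₁ * J ≤ I₁) hne
  obtain ⟨I', hI'⟩ : I₁ ∣ Ideal.span {c} :=
    Ideal.dvd_iff_le.mpr (by rw [← hc]; exact le_sup_right)
  have hsup : J ⊔ I' = ⊤ := by
    have h1 : I₁ * (J ⊔ I') = I₁ * ⊤ := by
      rw [Ideal.mul_sup, ← hI', hc, Ideal.mul_top]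
    exact mul_left_cancel₀ hI₁0 h1
  have hc0 : c ≠ 0 := by
    rintro rfl
    have h2 : I₁ * I' = ⊥ := by
      rw [← hI']; exact Ideal.span_singleton_eq_bot.mpr rfl
    have h3 : I' = ⊥ := by
      rcases Ideal.mul_eq_bot.mp h2 with h | h
      · exact absurd h hI₁0
      · exact h
    rw [h3, sup_bot_eq] at hsup
    exact hJtop hsup
  refine ⟨I', a, c, ha0, hc0, ?_, by rw [sup_comm]; exact hsup⟩
  rw [hI', hI₁]
  ring

/-- The key lemma: `I × J ≃ R × IJ` for nonzero ideals of a Dedekind domain. -/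
theorem nonempty_prod_equiv {R : Type u} [CommRing R] [IsDedekindDomain R]
    (I J : Ideal R) (hI : I ≠ ⊥) (hJ : J ≠ ⊥) :
    Nonempty ((I × J) ≃ₗ[R] (R × ↥(I * J))) := by
  obtain ⟨I', a, c, ha, hc, h, hsup⟩ := exists_coprime_representative I J hI hJ
  have h1 : (1 : R) ∈ I' ⊔ J := by rw [hsup]; trivial
  obtain ⟨u, hu, v, hv, huv⟩ := Submodule.mem_sup.mp h1
  have e1 : I ≃ₗ[R] I' := equivOfSpanMulEq ha hc h
  have e2 : ↥(I * J) ≃ₗ[R] ↥(I' * J) :=
    equivOfSpanMulEq ha hc (by rw [← mul_assoc, h, mul_assoc])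
  exact ⟨(e1.prodCongr (LinearEquiv.refl R J)) ≪≫ₗ coprimeEquiv I' J u v hu hv huv ≪≫ₗ
    ((LinearEquiv.refl R R).prodCongr e2.symm)⟩

/-- An ideal which is an invertible module over a nontrivial ring is nonzero. -/
theorem ne_bot_of_invertible {R : Type u} [CommRing R] [Nontrivial R] (I : Ideal R)
    [Module.Invertible R I] : I ≠ ⊥ := by
  rintro rfl
  have : (1 : R) = 0 := by
    apply FaithfulSMul.eq_of_smul_eq_smul (α := (⊥ : Ideal R))
    intro x
    exact Subsingleton.elim _ _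
  exact one_ne_zero this

/-- Tensor product of ideals (the second flat) is their product. -/
noncomputable def tensorEquivMul {R : Type u} [CommRing R] (I J : Ideal R) [Module.Flat R J] :
    I ⊗[R] J ≃ₗ[R] ↥(I * J) :=
  (Submodule.LinearDisjoint.of_left_le_one_of_flat (M := I) (N := J)
    (le_top.trans Ideal.one_eq_top.ge)).mulMap

/-- The inductive statement. -/
theorem exists_ideal_equiv {R : Type u} [CommRing R] [IsDedekindDomain R] (I : Ideal R)
    [Module.Invertible R I] (n : ℕ) :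
    ∃ (T : Ideal R) (_ : Module.Invertible R T),
      CommRing.Pic.mk R T = CommRing.Pic.mk R I ^ (n + 1) ∧
      Nonempty ((Fin (n + 1) → I) ≃ₗ[R] (T × (Fin n → R))) := by
  induction n with
  | zero =>
    refine ⟨I, inferInstance, by simp, ⟨?_⟩⟩
    exact LinearEquiv.funUnique (Fin 1) R I ≪≫ₗ (LinearEquiv.prodUnique (R := R)).symm
  | succ n ih =>
    obtain ⟨T, hT, hpic, ⟨e⟩⟩ := ih
    have hI0 : I ≠ ⊥ := ne_bot_of_invertible I
    have hT0 : T ≠ ⊥ := ne_bot_of_invertible T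
    have eT : I ⊗[R] T ≃ₗ[R] ↥(I * T) := tensorEquivMul I T
    have hT' : Module.Invertible R ↥(I * T) := Module.Invertible.congr eT
    obtain ⟨f⟩ := nonempty_prod_equiv I T hI0 hT0
    refine ⟨I * T, hT', ?_, ⟨?_⟩⟩
    · rw [← CommRing.Pic.mk_eq_mk_iff.mpr ⟨eT⟩, CommRing.Pic.mk_tensor, hpic, pow_succ' _ (n + 1)]
    · refine (Fin.consLinearEquiv R (fun _ : Fin (n + 1 + 1) => ↥I)).symm ≪≫ₗ
        ((LinearEquiv.refl R I).prodCongr e) ≪≫ₗ (LinearEquiv.prodAssoc R I T (Fin n → R)).symm ≪≫ₗ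
        (f.prodCongr (LinearEquiv.refl R (Fin n → R))) ≪≫ₗ
        ((LinearEquiv.prodComm R R ↥(I * T)).prodCongr (LinearEquiv.refl R (Fin n → R))) ≪≫ₗ
        (LinearEquiv.prodAssoc R ↥(I * T) R (Fin n → R)) ≪≫ₗ
        ((LinearEquiv.refl R ↥(I * T)).prodCongr (Fin.consLinearEquiv R (fun _ : Fin (n + 1) => R)))

/-- Steinitz: if `[N]^n = 1` in the Picard group of a Dedekind domain then `N^n ≃ R^n`. -/
theorem nonempty_pi_equiv {R : Type u} [CommRing R] [IsDedekindDomain R] (N : Type v)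
    [AddCommGroup N] [Module R N] [Module.Invertible R N] (n : ℕ)
    (h : CommRing.Pic.mk R N ^ n = 1) : Nonempty ((Fin n → N) ≃ₗ[R] (Fin n → R)) := by
  cases n with
  | zero => exact ⟨LinearEquiv.ofSubsingleton _ _⟩
  | succ m =>
    obtain ⟨I, ⟨eI⟩⟩ := Module.Invertible.exists_linearEquiv_ideal R N
    haveI : Module.Invertible R I := Module.Invertible.congr eI
    have hpic : CommRing.Pic.mk R N = CommRing.Pic.mk R I := CommRing.Pic.mk_eq_mk_iff.mpr ⟨eI⟩
    obtain ⟨T, hT, hT1, ⟨e⟩⟩ := exists_ideal_equiv I m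
    rw [← hpic, h] at hT1
    obtain ⟨g⟩ := CommRing.Pic.mk_eq_one_iff.mp hT1
    exact ⟨LinearEquiv.piCongrRight (fun _ => eI) ≪≫ₗ e ≪≫ₗ
      (g.prodCongr (LinearEquiv.refl R (Fin m → R))) ≪≫ₗ
      Fin.consLinearEquiv R (fun _ : Fin (m + 1) => R)⟩

end Groth.Agent.Lib.Steinitz
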