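import Mathlib

/-!
# Big algebraically closed fields and extension of embeddings to automorphisms (helper6)
-/

set_option autoImplicit false
universe u
open Cardinal

namespace Groth.Agent.Lib.SteinitzH6

/-- Every field embeds into an algebraically closed field of strictly bigger infinite cardinality. -/
theorem exists_big_algClosed (K : Type u) [Field K] :
    ∃ (Ω : Type u) (_ : Field Ω) (_ : K →+* Ω), IsAlgClosed Ω ∧ max #K ℵ₀ < #Ω := by
  let I := Set (K ⊕ ℕ)
  let L := FractionRing (MvPolynomial I K)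
  refine ⟨AlgebraicClosure L, inferInstance,
    (algebraMap L (AlgebraicClosure L)).comp
      ((algebraMap (MvPolynomial I K) L).comp MvPolynomial.C), inferInstance, ?_⟩
  have h1 : max #K ℵ₀ ≤ #(K ⊕ ℕ) :=
    max_le (Cardinal.mk_le_of_injective Sum.inl_injective) (Cardinal.aleph0_le_mk _)
  have h2 : #(K ⊕ ℕ) < #I := by
    rw [Cardinal.mk_set]; exact Cardinal.cantor _
  have h3 : #I ≤ #(AlgebraicClosure L) := by
    refine Cardinal.mk_le_of_injective (f := fun i => algebraMap L (AlgebraicClosure L)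
      (algebraMap (MvPolynomial I K) L (MvPolynomial.X i))) ?_
    intro i j hij
    have h4 := (algebraMap L (AlgebraicClosure L)).injective hij
    have h5 := IsFractionRing.injective (MvPolynomial I K) L h4
    exact MvPolynomial.X_injective h5
  exact (h1.trans_lt h2).trans_le h3

/-- **Steinitz**: two embeddings of a field into algebraically closed fields of the same
cardinality, bigger than that of the field and uncountable, differ by an isomorphism. -/
theorem exists_ringEquiv_extending {k K₁ K₂ : Type u} [Field k] [Field K₁] [Field K₂]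
    [IsAlgClosed K₁] [IsAlgClosed K₂] (ι₁ : k →+* K₁) (ι₂ : k →+* K₂)
    (h₁ : max #k ℵ₀ < #K₁) (h₂ : #K₁ = #K₂) :
    ∃ A : K₁ ≃+* K₂, ∀ a, A (ι₁ a) = ι₂ a := by
  letI : Algebra k K₁ := ι₁.toAlgebra
  letI : Algebra k K₂ := ι₂.toAlgebra
  obtain ⟨s₁, hs₁⟩ := exists_isTranscendenceBasis k K₁
  obtain ⟨s₂, hs₂⟩ := exists_isTranscendenceBasis k K₂
  have key : ∀ {K : Type u} [Field K] [IsAlgClosed K] [Algebra k K] (s : Set K)
      (_ : IsTranscendenceBasis k ((↑) : s → K)) (_ : max #k ℵ₀ < #K), #s = #K := by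
    intro K _ _ _ s hs h
    refine le_antisymm (Cardinal.mk_set_le s) ?_
    by_contra hlt
    rw [not_le] at hlt
    have h3 := IsAlgClosed.cardinal_le_max_transcendence_basis' (fun x : s => (x : K)) hs
    have h4 : max (max #k #s) ℵ₀ < #K :=
      max_lt (max_lt ((le_max_left _ _).trans_lt h) hlt) ((le_max_right _ _).trans_lt h)
    exact absurd h3 (not_le.2 h4)
  have e1 := key s₁ hs₁ h₁
  have e2 := key s₂ hs₂ (h₂ ▸ h₁)
  obtain ⟨e⟩ : Nonempty (s₁ ≃ s₂) := Cardinal.eq.1 (e1.trans (h₂.trans e2.symm))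
  haveI := IsAlgClosed.isAlgClosure_of_transcendence_basis _ hs₁
  haveI := IsAlgClosed.isAlgClosure_of_transcendence_basis _ hs₂
  let eA : Algebra.adjoin k (Set.range ((↑) : s₁ → K₁)) ≃ₐ[k]
      Algebra.adjoin k (Set.range ((↑) : s₂ → K₂)) :=
    hs₁.1.aevalEquiv.symm.trans ((MvPolynomial.renameEquiv k e).trans hs₂.1.aevalEquiv)
  refine ⟨IsAlgClosure.equivOfEquiv K₁ K₂ eA.toRingEquiv, fun a => ?_⟩
  have h1 : ι₁ a = algebraMap (Algebra.adjoin k (Set.range ((↑) : s₁ → K₁))) K₁
      (algebraMap k _ a) := rfl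
  rw [h1, IsAlgClosure.equivOfEquiv_algebraMap]
  have h2' : eA.toRingEquiv (algebraMap k _ a) = algebraMap k _ a := eA.commutes a
  rw [h2']
  rfl

end Groth.Agent.Lib.SteinitzH6
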