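import Mathlib
import Groth.Prelude.Def_AlgSt
import Groth.Prelude.Def_FibCat2
import Groth.Agent.Lib.StkFibA_lead

/-!
# Towers of categories fibred in groupoids and restriction functors (lead) — part B

For `𝒴` over `C` and `ℰ` over `𝒴`, `down 𝒴 ℰ` is `ℰ` over `C`.  Two comparison results:
* `restr_isEquivalence_of_down`: restriction of functors over `𝒴` into `ℰ` is an equivalence as
  soon as it is one for functors over `C` into `down 𝒴 ℰ` and fully faithful into `𝒴`;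
* `restr_down_isEquivalence`: restriction of functors over `C` into `down 𝒴 ℰ` is an equivalence
  as soon as it is one into `𝒴` and, over `𝒴`, into `ℰ`.
-/

set_option autoImplicit false
set_option linter.unusedSimpArgs false
set_option linter.unusedVariables false
set_option linter.unusedSectionVars false
set_option linter.style.longLine false
set_option linter.unnecessarySimpa false
set_option linter.style.haveILetI false
set_option maxHeartbeats 1600000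
set_option backward.isDefEq.respectTransparency false
set_option backward.isDefEq.respectTransparency.types false
set_option backward.defeqAttrib.useBackward true

universe v₆ u₆ v₅ u₅ v₄ u₄ v₃ u₃ v₂ u₂ v₁ u₁ v u

open CategoryTheory CategoryTheory.Functor FibCat

namespace Groth.Agent.Lib.StkFib

section Tower

variable {C : Type u} [Category.{v} C] (𝒴 : BasedCategory.{v₂, u₂} C)

/-- A category over `𝒴` viewed as a category over `C`. -/
abbrev down (𝒜 : BasedCategory.{v₃, u₃} 𝒴.obj) : BasedCategory.{v₃, u₃} C :=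
  BasedCategory.ofFunctor (𝒜.p ⋙ 𝒴.p)

variable {𝒴}

/-- A functor over `𝒴` viewed as a functor over `C`. -/
def downMap {𝒜 : BasedCategory.{v₃, u₃} 𝒴.obj} {ℬ : BasedCategory.{v₄, u₄} 𝒴.obj}
    (ι : 𝒜 ⥤ᵇ ℬ) : down 𝒴 𝒜 ⥤ᵇ down 𝒴 ℬ where
  toFunctor := ι.toFunctor
  w := by
    show ι.toFunctor ⋙ (ℬ.p ⋙ 𝒴.p) = 𝒜.p ⋙ 𝒴.p
    rw [← CategoryTheory.Functor.assoc, ι.w]

/-- A 2-morphism over `𝒴` viewed as a 2-morphism over `C`. -/
def downHom {𝒜 : BasedCategory.{v₃, u₃} 𝒴.obj} {ℬ : BasedCategory.{v₄, u₄} 𝒴.obj}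
    {F G : 𝒜 ⥤ᵇ ℬ} (α : F ⟶ G) : downMap F ⟶ downMap G where
  toNatTrans := α.toNatTrans
  isHomLift' := fun a => isHomLift_comp_id ℬ.p 𝒴.p _ (α.isHomLift' a)

/-- The structure functor of a category over `𝒴`, as a functor over `C`. -/
def taut (ℬ : BasedCategory.{v₃, u₃} 𝒴.obj) : down 𝒴 ℬ ⥤ᵇ 𝒴 where
  toFunctor := ℬ.p
  w := rfl

variable {ℰ : BasedCategory.{v₅, u₅} 𝒴.obj}

/-- Composition with the structure functor `ℰ ⥤ 𝒴`. -/
def proj {𝒜' : BasedCategory.{v₃, u₃} C} (K : 𝒜' ⥤ᵇ down 𝒴 ℰ) : 𝒜' ⥤ᵇ 𝒴 where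
  toFunctor := K.toFunctor ⋙ ℰ.p
  w := K.w

/-- Whiskering a 2-morphism with the structure functor `ℰ ⥤ 𝒴`. -/
def projHom {𝒜' : BasedCategory.{v₃, u₃} C} {K K' : 𝒜' ⥤ᵇ down 𝒴 ℰ} (δ : K ⟶ K') :
    proj K ⟶ proj K' where
  toNatTrans := Functor.whiskerRight δ.toNatTrans ℰ.p
  isHomLift' := fun a => isHomLift_of_comp ℰ.p 𝒴.p _ _ (δ.isHomLift' a)

/-- A category over `C` with a functor over `C` to `𝒴`, viewed as a category over `𝒴`. -/
abbrev up {ℬ' : BasedCategory.{v₃, u₃} C} (t : ℬ' ⥤ᵇ 𝒴) : BasedCategory.{v₃, u₃} 𝒴.obj :=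
  BasedCategory.ofFunctor t.toFunctor

/-- A functor over `C`, viewed as a functor over `𝒴`. -/
def upMap {𝒜' : BasedCategory.{v₃, u₃} C} {ℬ' : BasedCategory.{v₄, u₄} C} (ι : 𝒜' ⥤ᵇ ℬ')
    (t : ℬ' ⥤ᵇ 𝒴) : up (BasedFunctor.comp ι t) ⥤ᵇ up t where
  toFunctor := ι.toFunctor
  w := rfl

/-- A functor over `C` into `down 𝒴 ℰ` is a functor over `𝒴` into `ℰ`. -/
def liftUp {ℬ' : BasedCategory.{v₃, u₃} C} (G : ℬ' ⥤ᵇ down 𝒴 ℰ) : up (proj G) ⥤ᵇ ℰ where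
  toFunctor := G.toFunctor
  w := rfl

/-- A functor over `𝒴` into `ℰ` is a functor over `C` into `down 𝒴 ℰ`. -/
def unlift {ℬ' : BasedCategory.{v₃, u₃} C} {t : ℬ' ⥤ᵇ 𝒴} (H : up t ⥤ᵇ ℰ) :
    ℬ' ⥤ᵇ down 𝒴 ℰ where
  toFunctor := H.toFunctor
  w := by
    show H.toFunctor ⋙ (ℰ.p ⋙ 𝒴.p) = ℬ'.p
    rw [← CategoryTheory.Functor.assoc, H.w]
    exact t.w

theorem exists_transport (hℰ : IsFibGrpd ℰ.p) {ℬ' : BasedCategory.{v₃, u₃} C}
    (G : ℬ' ⥤ᵇ down 𝒴 ℰ) (t : ℬ' ⥤ᵇ 𝒴) (βi : proj G ≅ t) :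
    ∃ (G₁ : up t ⥤ᵇ ℰ) (ξ : G₁.toFunctor ≅ G.toFunctor),
      (∀ b, ℰ.p.IsHomLift (βi.inv.toNatTrans.app b) (ξ.hom.app b)) ∧
        (∀ b, ℰ.p.IsHomLift (βi.hom.toNatTrans.app b) (ξ.inv.app b)) := by
  let θ : G.toFunctor ⋙ ℰ.p ≅ t.toFunctor := (BasedNatTrans.forgetful _ _).mapIso βi
  obtain ⟨G₁, hG₁, ξ, hξ⟩ := exists_strictify hℰ t.toFunctor G.toFunctor θ
  refine ⟨⟨G₁, hG₁⟩, ξ, fun b => hξ b, fun b => ?_⟩
  haveI : ℰ.p.IsHomLift (θ.app b).symm.hom (ξ.app b).hom := hξ b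
  exact IsHomLift.inv_lift_inv ℰ.p (θ.app b).symm (ξ.app b)

/-- **Σ**: from descent over `C` to descent over `𝒴`. -/
theorem restr_isEquivalence_of_down {𝒜 : BasedCategory.{v₃, u₃} 𝒴.obj}
    {ℬ : BasedCategory.{v₄, u₄} 𝒴.obj} (ℰ : BasedCategory.{v₅, u₅} 𝒴.obj)
    (hℰ : IsFibGrpd ℰ.p) (ι : 𝒜 ⥤ᵇ ℬ)
    (h1 : (Stk.restr (downMap ι) (down 𝒴 ℰ)).IsEquivalence)
    (h2 : (Stk.restr (downMap ι) 𝒴).Full) (h3 : (Stk.restr (downMap ι) 𝒴).Faithful) :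
    (Stk.restr ι ℰ).IsEquivalence := by
  haveI := h1
  haveI := h2
  haveI := h3
  have hfaith : (Stk.restr ι ℰ).Faithful := by
    refine ⟨fun {G G'} α β h => ?_⟩
    have h' : (Stk.restr (downMap ι) (down 𝒴 ℰ)).map (downHom α) =
        (Stk.restr (downMap ι) (down 𝒴 ℰ)).map (downHom β) := by
      apply BasedNatTrans.ext
      exact congrArg (fun γ => γ.toNatTrans) h
    have h'' := (Stk.restr (downMap ι) (down 𝒴 ℰ)).map_injective h'
    apply BasedNatTrans.ext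
    exact congrArg (fun γ => γ.toNatTrans) h''
  have hfull : (Stk.restr ι ℰ).Full := by
    refine ⟨fun {G G'} γ => ?_⟩
    let γ' : (Stk.restr (downMap ι) (down 𝒴 ℰ)).obj (downMap G) ⟶
        (Stk.restr (downMap ι) (down 𝒴 ℰ)).obj (downMap G') :=
      (⟨γ.toNatTrans, fun a => isHomLift_comp_id ℰ.p 𝒴.p _ (γ.isHomLift' a)⟩ :
        BasedNatTrans (BasedFunctor.comp (downMap ι) (downMap G))
          (BasedFunctor.comp (downMap ι) (downMap G')))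
    obtain ⟨α₀, hα₀⟩ := (Stk.restr (downMap ι) (down 𝒴 ℰ)).map_surjective γ'
    have happ : ∀ a, α₀.toNatTrans.app (ι.toFunctor.obj a) = γ.toNatTrans.app a :=
      fun a => congrArg (fun δ => δ.toNatTrans.app a) hα₀
    have hGG' : (proj (downMap G)).toFunctor = (proj (downMap G')).toFunctor :=
      G.w.trans G'.w.symm
    have hproj : projHom α₀ = eqHom (proj (downMap G)) (proj (downMap G')) hGG' := by
      apply (Stk.restr (downMap ι) 𝒴).map_injective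
      apply BasedNatTrans.ext
      apply NatTrans.ext
      funext a
      show ℰ.p.map (α₀.toNatTrans.app (ι.toFunctor.obj a)) =
        (eqToHom hGG').app (ι.toFunctor.obj a)
      rw [eqToHom_app, happ a]
      exact map_eq_eqToHom_of_lift_id ℰ.p _ (γ.isHomLift' a) _
    have hl : ∀ b, ℰ.p.IsHomLift (𝟙 (ℬ.p.obj b)) (α₀.toNatTrans.app b) := fun b => by
      have h4 : ℰ.p.map (α₀.toNatTrans.app b) = (eqToHom hGG').app b :=
        congrArg (fun δ => δ.toNatTrans.app b) hproj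
      rw [eqToHom_app] at h4
      exact lift_id_of_map_eq_eqToHom ℰ.p _ _ h4 (G.w_obj b)
    refine ⟨(⟨α₀.toNatTrans, hl⟩ : BasedNatTrans G G'), ?_⟩
    apply BasedNatTrans.ext
    exact congrArg (fun δ => δ.toNatTrans) hα₀
  have hess : (Stk.restr ι ℰ).EssSurj := by
    refine ⟨fun K => ?_⟩
    let G₀ : down 𝒴 ℬ ⥤ᵇ down 𝒴 ℰ :=
      (Stk.restr (downMap ι) (down 𝒴 ℰ)).objPreimage (downMap K)
    let σ : (Stk.restr (downMap ι) (down 𝒴 ℰ)).obj G₀ ≅ downMap K :=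
      (Stk.restr (downMap ι) (down 𝒴 ℰ)).objObjPreimageIso (downMap K)
    let σu : ι.toFunctor ⋙ G₀.toFunctor ≅ K.toFunctor :=
      (BasedNatTrans.forgetful _ _).mapIso σ
    have hKι : K.toFunctor ⋙ ℰ.p = ι.toFunctor ⋙ ℬ.p := K.w.trans ι.w.symm
    let τ : (Stk.restr (downMap ι) 𝒴).obj (proj G₀) ≅ (Stk.restr (downMap ι) 𝒴).obj (taut ℬ) :=
      BasedNatIso.mkNatIso (isoWhiskerRight σu ℰ.p ≪≫ eqToIso hKι) (fun a => by
        show 𝒴.p.IsHomLift (𝟙 _) (ℰ.p.map (σ.hom.toNatTrans.app a) ≫ (eqToHom hKι).app a)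
        rw [eqToHom_app]
        exact lift_id_comp 𝒴.p _ _ _ (isHomLift_of_comp ℰ.p 𝒴.p _ _ (σ.hom.isHomLift' a))
          (IsHomLift.eqToHom_domain_lift_id _ (congrArg 𝒴.p.obj (K.w_obj a))))
    let β : proj G₀ ≅ taut ℬ := (Stk.restr (downMap ι) 𝒴).preimageIso τ
    have hβ : (Stk.restr (downMap ι) 𝒴).map β.hom = τ.hom :=
      (Stk.restr (downMap ι) 𝒴).map_preimage τ.hom
    let θ : G₀.toFunctor ⋙ ℰ.p ≅ ℬ.p := (BasedNatTrans.forgetful _ _).mapIso β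
    obtain ⟨G, hG, ξ, hξ⟩ := exists_strictify hℰ ℬ.p G₀.toFunctor θ
    let ζ : ι.toFunctor ⋙ G ≅ K.toFunctor := isoWhiskerLeft ι.toFunctor ξ ≪≫ σu
    have hlift : ∀ a, ℰ.p.IsHomLift (𝟙 (𝒜.p.obj a)) (ζ.hom.app a) := fun a => by
      show ℰ.p.IsHomLift (𝟙 (𝒜.p.obj a))
        (ξ.hom.app (ι.toFunctor.obj a) ≫ σ.hom.toNatTrans.app a)
      have e1 : β.hom.toNatTrans.app (ι.toFunctor.obj a) =
          ℰ.p.map (σ.hom.toNatTrans.app a) ≫ (eqToHom hKι).app a :=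
        congrArg (fun δ => δ.toNatTrans.app a) hβ
      have k1 : ℰ.p.IsHomLift (β.inv.toNatTrans.app (ι.toFunctor.obj a))
          (ξ.hom.app (ι.toFunctor.obj a)) := hξ (ι.toFunctor.obj a)
      have k2 : ℰ.p.IsHomLift (β.hom.toNatTrans.app (ι.toFunctor.obj a))
          (σ.hom.toNatTrans.app a) := by
        rw [e1, eqToHom_app]
        exact lift_comp_eqToHom_of_lift ℰ.p _ _ _ (IsHomLift.map ℰ.p _)
      have e2 : β.inv.toNatTrans.app (ι.toFunctor.obj a) ≫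
          β.hom.toNatTrans.app (ι.toFunctor.obj a) = 𝟙 (ℬ.p.obj (ι.toFunctor.obj a)) :=
        congrArg (fun δ => δ.toNatTrans.app (ι.toFunctor.obj a)) β.inv_hom_id
      exact lift_id_of_eq ℰ.p (ι.w_obj a) _
        (lift_of_eq ℰ.p e2 _ (lift_comp ℰ.p _ _ _ _ k1 k2))
    exact ⟨(⟨G, hG⟩ : ℬ ⥤ᵇ ℰ), ⟨BasedNatIso.mkNatIso ζ hlift⟩⟩
  exact { }

/-- **Σ'**: from descent over `𝒴` (and of `𝒴`) to descent over `C`. -/
theorem restr_down_isEquivalence (h𝒴 : IsFibGrpd 𝒴.p) (ℰ : BasedCategory.{v₅, u₅} 𝒴.obj)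
    (hℰ : IsFibGrpd ℰ.p) {𝒜' : BasedCategory.{v₃, u₃} C} {ℬ' : BasedCategory.{v₄, u₄} C}
    (ι : 𝒜' ⥤ᵇ ℬ') (h1 : (Stk.restr ι 𝒴).IsEquivalence)
    (h2 : ∀ t : ℬ' ⥤ᵇ 𝒴, (Stk.restr (upMap ι t) ℰ).IsEquivalence) :
    (Stk.restr ι (down 𝒴 ℰ)).IsEquivalence := by
  haveI := h1
  have hfaith : (Stk.restr ι (down 𝒴 ℰ)).Faithful := by
    refine ⟨fun {G G'} α α' h => ?_⟩
    have happ : ∀ a, α.toNatTrans.app (ι.toFunctor.obj a) = α'.toNatTrans.app (ι.toFunctor.obj a) :=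
      fun a => congrArg (fun δ => δ.toNatTrans.app a) h
    have hproj : projHom α = projHom α' := by
      apply (Stk.restr ι 𝒴).map_injective
      apply BasedNatTrans.ext
      apply NatTrans.ext
      funext a
      show ℰ.p.map (α.toNatTrans.app (ι.toFunctor.obj a)) =
        ℰ.p.map (α'.toNatTrans.app (ι.toFunctor.obj a))
      rw [happ a]
    haveI : IsIso (projHom α) := isIso_basedNatTrans h𝒴 _
    let βi : proj G ≅ proj G' := asIso (projHom α)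
    obtain ⟨G₁, ξ, hξ1, hξ2⟩ := exists_transport hℰ G (proj G') βi
    have mk : ∀ δ : G ⟶ G', projHom δ = projHom α → ∀ b,
        ℰ.p.IsHomLift (𝟙 ((proj G').toFunctor.obj b)) (ξ.hom.app b ≫ δ.toNatTrans.app b) := by
      intro δ hδ b
      have k2 : ℰ.p.IsHomLift (βi.hom.toNatTrans.app b) (δ.toNatTrans.app b) :=
        lift_of_eq_map ℰ.p (δ.toNatTrans.app b) _ (congrArg (fun ε => ε.toNatTrans.app b) hδ)
      have e2 : βi.inv.toNatTrans.app b ≫ βi.hom.toNatTrans.app b =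
          𝟙 ((proj G').toFunctor.obj b) :=
        congrArg (fun ε => ε.toNatTrans.app b) βi.inv_hom_id
      exact lift_of_eq ℰ.p e2 _ (lift_comp ℰ.p _ _ _ _ (hξ1 b) k2)
    let α₁ : G₁ ⟶ liftUp G' :=
      (⟨ξ.hom ≫ α.toNatTrans, mk α rfl⟩ : BasedNatTrans G₁ (liftUp G'))
    let α₁' : G₁ ⟶ liftUp G' :=
      (⟨ξ.hom ≫ α'.toNatTrans, mk α' hproj.symm⟩ : BasedNatTrans G₁ (liftUp G'))
    haveI := h2 (proj G')
    have hh : (Stk.restr (upMap ι (proj G')) ℰ).map α₁ =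
        (Stk.restr (upMap ι (proj G')) ℰ).map α₁' := by
      apply BasedNatTrans.ext
      apply NatTrans.ext
      funext a
      show ξ.hom.app (ι.toFunctor.obj a) ≫ α.toNatTrans.app (ι.toFunctor.obj a) =
        ξ.hom.app (ι.toFunctor.obj a) ≫ α'.toNatTrans.app (ι.toFunctor.obj a)
      rw [happ a]
    have h11 : α₁ = α₁' := (Stk.restr (upMap ι (proj G')) ℰ).map_injective hh
    apply BasedNatTrans.ext
    apply NatTrans.ext
    funext b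
    have h12 : ξ.hom.app b ≫ α.toNatTrans.app b = ξ.hom.app b ≫ α'.toNatTrans.app b :=
      congrArg (fun ε => ε.toNatTrans.app b) h11
    exact (cancel_epi (ξ.hom.app b)).1 h12
  have hfull : (Stk.restr ι (down 𝒴 ℰ)).Full := by
    refine ⟨fun {G G'} γ => ?_⟩
    let pγ : (Stk.restr ι 𝒴).obj (proj G) ⟶ (Stk.restr ι 𝒴).obj (proj G') := projHom γ
    obtain ⟨β, hβ⟩ := (Stk.restr ι 𝒴).map_surjective pγ
    have hβapp : ∀ a, β.toNatTrans.app (ι.toFunctor.obj a) = ℰ.p.map (γ.toNatTrans.app a) :=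
      fun a => congrArg (fun ε => ε.toNatTrans.app a) hβ
    haveI : IsIso β := isIso_basedNatTrans h𝒴 _
    let βi : proj G ≅ proj G' := asIso β
    obtain ⟨G₁, ξ, hξ1, hξ2⟩ := exists_transport hℰ G (proj G') βi
    haveI := h2 (proj G')
    let γ₁ : (Stk.restr (upMap ι (proj G')) ℰ).obj G₁ ⟶
        (Stk.restr (upMap ι (proj G')) ℰ).obj (liftUp G') :=
      (⟨Functor.whiskerLeft ι.toFunctor ξ.hom ≫ γ.toNatTrans, fun a => by
        show ℰ.p.IsHomLift (𝟙 ((proj G').toFunctor.obj (ι.toFunctor.obj a)))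
          (ξ.hom.app (ι.toFunctor.obj a) ≫ γ.toNatTrans.app a)
        have k2 : ℰ.p.IsHomLift (βi.hom.toNatTrans.app (ι.toFunctor.obj a))
            (γ.toNatTrans.app a) :=
          lift_of_eq_map ℰ.p (γ.toNatTrans.app a) _ (hβapp a).symm
        have e2 : βi.inv.toNatTrans.app (ι.toFunctor.obj a) ≫
            βi.hom.toNatTrans.app (ι.toFunctor.obj a) =
            𝟙 ((proj G').toFunctor.obj (ι.toFunctor.obj a)) :=
          congrArg (fun ε => ε.toNatTrans.app (ι.toFunctor.obj a)) βi.inv_hom_id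
        exact lift_of_eq ℰ.p e2 _
          (lift_comp ℰ.p _ _ _ _ (hξ1 (ι.toFunctor.obj a)) k2)⟩ :
        BasedNatTrans (BasedFunctor.comp (upMap ι (proj G')) G₁)
          (BasedFunctor.comp (upMap ι (proj G')) (liftUp G')))
    obtain ⟨α₁, hα₁⟩ := (Stk.restr (upMap ι (proj G')) ℰ).map_surjective γ₁
    have hα₁app : ∀ a, α₁.toNatTrans.app (ι.toFunctor.obj a) =
        ξ.hom.app (ι.toFunctor.obj a) ≫ γ.toNatTrans.app a :=
      fun a => congrArg (fun ε => ε.toNatTrans.app a) hα₁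
    have hl : ∀ b, (ℰ.p ⋙ 𝒴.p).IsHomLift (𝟙 (ℬ'.p.obj b)) (ξ.inv.app b ≫ α₁.toNatTrans.app b) := by
      intro b
      have m1 : (ℰ.p ⋙ 𝒴.p).IsHomLift (𝟙 (ℬ'.p.obj b)) (ξ.inv.app b) :=
        isHomLift_comp_of ℰ.p 𝒴.p _ _ _ (hξ2 b) (β.isHomLift' b)
      have m2 : (ℰ.p ⋙ 𝒴.p).IsHomLift (𝟙 (ℬ'.p.obj b)) (α₁.toNatTrans.app b) :=
        lift_id_of_eq _ ((proj G').w_obj b) _
          (isHomLift_comp_id ℰ.p 𝒴.p _ (α₁.isHomLift' b))
      exact lift_id_comp _ _ _ _ m1 m2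
    refine ⟨(⟨ξ.inv ≫ α₁.toNatTrans, hl⟩ : BasedNatTrans G G'), ?_⟩
    apply BasedNatTrans.ext
    apply NatTrans.ext
    funext a
    show ξ.inv.app (ι.toFunctor.obj a) ≫ α₁.toNatTrans.app (ι.toFunctor.obj a) =
      γ.toNatTrans.app a
    rw [hα₁app a, Iso.inv_hom_id_app_assoc]
  have hess : (Stk.restr ι (down 𝒴 ℰ)).EssSurj := by
    refine ⟨fun K => ?_⟩
    let t : ℬ' ⥤ᵇ 𝒴 := (Stk.restr ι 𝒴).objPreimage (proj K)
    let σ : BasedFunctor.comp ι t ≅ proj K := (Stk.restr ι 𝒴).objObjPreimageIso (proj K)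
    obtain ⟨K₁, ξ, hξ1, hξ2⟩ := exists_transport hℰ K (BasedFunctor.comp ι t) σ.symm
    haveI := h2 t
    let H : up t ⥤ᵇ ℰ := (Stk.restr (upMap ι t) ℰ).objPreimage K₁
    let ρ : (Stk.restr (upMap ι t) ℰ).obj H ≅ K₁ :=
      (Stk.restr (upMap ι t) ℰ).objObjPreimageIso K₁
    let ρu : ι.toFunctor ⋙ H.toFunctor ≅ K₁.toFunctor := (BasedNatTrans.forgetful _ _).mapIso ρ
    let ζ : ι.toFunctor ⋙ H.toFunctor ≅ K.toFunctor := ρu ≪≫ ξ
    have hlift : ∀ a, (ℰ.p ⋙ 𝒴.p).IsHomLift (𝟙 (𝒜'.p.obj a)) (ζ.hom.app a) := fun a => by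
      show (ℰ.p ⋙ 𝒴.p).IsHomLift (𝟙 (𝒜'.p.obj a)) (ρ.hom.toNatTrans.app a ≫ ξ.hom.app a)
      have m1 : (ℰ.p ⋙ 𝒴.p).IsHomLift (𝟙 (𝒜'.p.obj a)) (ρ.hom.toNatTrans.app a) :=
        lift_id_of_eq _ ((BasedFunctor.comp ι t).w_obj a) _
          (isHomLift_comp_id ℰ.p 𝒴.p _ (ρ.hom.isHomLift' a))
      have m2 : (ℰ.p ⋙ 𝒴.p).IsHomLift (𝟙 (𝒜'.p.obj a)) (ξ.hom.app a) :=
        isHomLift_comp_of ℰ.p 𝒴.p _ _ _ (hξ1 a) (σ.hom.isHomLift' a)
      exact lift_id_comp _ _ _ _ m1 m2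
    exact ⟨unlift H, ⟨BasedNatIso.mkNatIso ζ hlift⟩⟩
  exact { }

end Tower

end Groth.Agent.Lib.StkFib
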