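import Mathlib
import Groth.Prelude.Def_AlgSt
import Groth.Prelude.Def_FibCat2
import Groth.Agent.Lib.StkTop_helper9
import Groth.Agent.Lib.StkFibB_lead

/-!
# Stacks over stacks (lead) — part C

* `main12804`: for stacks `𝒳`, `𝒴` over `(C, J)` and `F : 𝒳 ⥤ 𝒴` fibred in groupoids, `𝒳` is a
  stack over `𝒴` with its inherited topology;
* `main12805`: a stack over a stack (with the inherited topology) is a stack over the base.
-/

set_option autoImplicit false
set_option linter.unusedSimpArgs false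
set_option linter.unusedVariables false
set_option linter.unusedSectionVars false
set_option linter.style.longLine false
set_option linter.unnecessarySimpa false
set_option linter.style.haveILetI false
set_option maxHeartbeats 1600000
set_option backward.isDefEq.respectTransparency false
set_option backward.isDefEq.respectTransparency.types false
set_option backward.defeqAttrib.useBackward true

universe v₆ u₆ v₅ u₅ v₄ u₄ v₃ u₃ v₂ u₂ v₁ u₁ v u

open CategoryTheory CategoryTheory.Functor FibCat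

namespace Groth.Agent.Lib.StkFib

open Groth.Agent.StkTop

section Sub

variable {D : Type u₁} [Category.{v₁} D] {PP : Type u₂} [Category.{v₂} PP]
  {QQ : Type u₃} [Category.{v₃} QQ]

/-- Transfer of "restriction to a full subcategory is an equivalence" along an equivalence of
categories over `D` compatible with the subcategories. -/
theorem restr_sub_isEquivalence (pP : PP ⥤ D) (pQ : QQ ⥤ D) (Φ : PP ⥤ QQ) (hΦw : Φ ⋙ pQ = pP)
    (hΦ : Φ.IsEquivalence) (P : ObjectProperty PP) (Q : ObjectProperty QQ)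
    (h1 : ∀ a : P.FullSubcategory, Q ((P.ι ⋙ Φ).obj a))
    (h2 : ∀ (a : PP) (b : QQ), Q b → (Φ.obj a ≅ b) → P a)
    (𝒵 : BasedCategory.{v₄, u₄} D) (h𝒵 : IsFibGrpd 𝒵.p)
    (hQ : (Stk.restr (⟨Q.ι, rfl⟩ :
      BasedCategory.ofFunctor (Q.ι ⋙ pQ) ⥤ᵇ BasedCategory.ofFunctor pQ) 𝒵).IsEquivalence) :
    (Stk.restr (⟨P.ι, rfl⟩ :
      BasedCategory.ofFunctor (P.ι ⋙ pP) ⥤ᵇ BasedCategory.ofFunctor pP) 𝒵).IsEquivalence := by
  let ΦB : BasedCategory.ofFunctor pP ⥤ᵇ BasedCategory.ofFunctor pQ := ⟨Φ, hΦw⟩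
  let ΦP : BasedCategory.ofFunctor (P.ι ⋙ pP) ⥤ᵇ BasedCategory.ofFunctor (Q.ι ⋙ pQ) :=
    ⟨Q.lift (P.ι ⋙ Φ) h1, by
      show Q.lift (P.ι ⋙ Φ) h1 ⋙ (Q.ι ⋙ pQ) = P.ι ⋙ pP
      rw [← hΦw]
      rfl⟩
  exact restr_isEquivalence_of_square _ ΦB ΦP _ (basedFunctor_ext rfl) 𝒵
    (restr_isEquivalence_of_isEquivalence ΦB hΦ 𝒵 h𝒵)
    (restr_isEquivalence_of_isEquivalence ΦP (lift_isEquivalence Φ hΦ P Q h1 h2) 𝒵 h𝒵) hQ

end Sub

section KLemma

variable {C : Type u} [Category.{v} C] (J : GrothendieckTopology C)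

theorem K_lemma (𝒴 : BasedCategory.{v, max u v} C) (h𝒴 : IsFibGrpd 𝒴.p) {y : 𝒴.obj}
    (S : Sieve y) (hS : S ∈ 𝒴.p.restrictedTopology J y) (𝒵 : BasedCategory.{v₂, u₂} C)
    (h𝒵 : Stk.IsStack J 𝒵) :
    (Stk.restr (downMap (𝒴 := 𝒴) (Stk.sieveIncl S)) 𝒵).IsEquivalence := by
  have hS' : S.functorPushforward 𝒴.p ∈ J (𝒴.p.obj y) :=
    (mem_restrictedTopology_iff 𝒴.p h𝒴 J S).1 hS
  have h1 : ∀ a : ObjectProperty.FullSubcategory (fun f : Over y => S.arrows f.hom),
      (fun g : Over (𝒴.p.obj y) => (S.functorPushforward 𝒴.p).arrows g.hom)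
        ((ObjectProperty.ι _ ⋙ Over.post 𝒴.p).obj a) :=
    fun a => Sieve.image_mem_functorPushforward 𝒴.p S a.property
  have h2 : ∀ (a : Over y) (b : Over (𝒴.p.obj y)),
      (fun g : Over (𝒴.p.obj y) => (S.functorPushforward 𝒴.p).arrows g.hom) b →
        ((Over.post 𝒴.p).obj a ≅ b) → (fun f : Over y => S.arrows f.hom) a := by
    intro a b hb i
    have h3 : (S.functorPushforward 𝒴.p).arrows (i.hom.left ≫ b.hom) :=
      (S.functorPushforward 𝒴.p).downward_closed hb i.hom.left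
    have h4 : i.hom.left ≫ b.hom = 𝒴.p.map a.hom := Over.w i.hom
    rw [h4] at h3
    exact (functorPushforward_map_iff 𝒴.p h𝒴 S a.hom).1 h3
  have := restr_sub_isEquivalence (Over.forget y ⋙ 𝒴.p) (Over.forget (𝒴.p.obj y))
    (Over.post 𝒴.p) rfl (over_post_isEquivalence 𝒴.p h𝒴 y)
    (fun f : Over y => S.arrows f.hom)
    (fun g : Over (𝒴.p.obj y) => (S.functorPushforward 𝒴.p).arrows g.hom) h1 h2 𝒵 h𝒵.1
    (h𝒵.2 _ hS')
  exact this

end KLemma

section Lambda

variable {C : Type u} [Category.{v} C] {𝒴 : BasedCategory.{v, max u v} C} {U : C}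
  (t : FibCat.overCat U ⥤ᵇ 𝒴)

/-- The morphism from an object of `C/U` to the terminal object `𝟙 U`. -/
def toId (f : Over U) : f ⟶ Over.mk (𝟙 U) := Over.homMk f.hom (by simp)

/-- The functor `C/U ⥤ 𝒴/x` induced by `t : C/U ⥤ 𝒴`, where `x = t (𝟙 U)`. -/
def Lam : Over U ⥤ Over (t.toFunctor.obj (Over.mk (𝟙 U))) where
  obj f := Over.mk (t.toFunctor.map (toId f))
  map {f f'} g := Over.homMk (t.toFunctor.map g) (by
    show t.toFunctor.map g ≫ t.toFunctor.map (toId f') = t.toFunctor.map (toId f)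
    rw [← Functor.map_comp]
    congr 1
    apply Over.OverMorphism.ext
    show g.left ≫ f'.hom = f.hom
    exact Over.w g)
  map_id f := by
    apply Over.OverMorphism.ext
    simp
  map_comp g g' := by
    apply Over.OverMorphism.ext
    simp

theorem key_eq (f : Over U) (hx : 𝒴.p.obj (t.toFunctor.obj (Over.mk (𝟙 U))) = U) :
    𝒴.p.map (t.toFunctor.map (toId f)) ≫ eqToHom hx = eqToHom (t.w_obj f) ≫ f.hom :=
  eqToHom_conj_aux _ _ _ _ (based_map_eq t (toId f))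

theorem Lam_isEquivalence (h𝒴 : IsFibGrpd 𝒴.p) : (Lam t).IsEquivalence := by
  have hx : 𝒴.p.obj (t.toFunctor.obj (Over.mk (𝟙 U))) = U := t.w_obj (Over.mk (𝟙 U))
  let i : Lam t ⋙ Over.post 𝒴.p ≅ Over.map (eqToHom hx.symm) :=
    NatIso.ofComponents (fun f => Over.isoMk (eqToIso (t.w_obj f)) (by
        show eqToHom (t.w_obj f) ≫ (f.hom ≫ eqToHom hx.symm) =
          𝒴.p.map (t.toFunctor.map (toId f))
        exact (based_map_eq t (toId f)).symm)) (by
      intro f f' g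
      apply Over.OverMorphism.ext
      show 𝒴.p.map (t.toFunctor.map g) ≫ eqToHom (t.w_obj f') = eqToHom (t.w_obj f) ≫ g.left
      exact eqToHom_conj_aux _ _ _ _ (based_map_eq t g))
  haveI : (Over.post 𝒴.p (X := t.toFunctor.obj (Over.mk (𝟙 U)))).IsEquivalence :=
    over_post_isEquivalence 𝒴.p h𝒴 _
  haveI : (Lam t ⋙ Over.post 𝒴.p).IsEquivalence := Functor.isEquivalence_of_iso i.symm
  exact Functor.isEquivalence_of_comp_right (Lam t) (Over.post 𝒴.p)

theorem Lambda_lemma (J : GrothendieckTopology C) (h𝒴 : IsFibGrpd 𝒴.p)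
    (ℰ : BasedCategory.{v₂, u₂} 𝒴.obj) (hℰ : Stk.IsStack (𝒴.p.restrictedTopology J) ℰ)
    (R : Sieve U) (hR : R ∈ J U) :
    (Stk.restr (upMap (Stk.sieveIncl R) t) ℰ).IsEquivalence := by
  have hx : 𝒴.p.obj (t.toFunctor.obj (Over.mk (𝟙 U))) = U := t.w_obj (Over.mk (𝟙 U))
  have hS : (R.pullback (eqToHom hx)).functorPullback 𝒴.p ∈
      𝒴.p.restrictedTopology J (t.toFunctor.obj (Over.mk (𝟙 U))) := by
    refine (mem_restrictedTopology_iff 𝒴.p h𝒴 J _).2 ?_
    refine J.superset_covering ?_ (J.pullback_stable (eqToHom hx) hR)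
    intro V g hg
    obtain ⟨z, ψ, e, hψ⟩ := exists_lift' h𝒴 (x := t.toFunctor.obj (Over.mk (𝟙 U))) g
    refine ⟨z, ψ, eqToHom e.symm, ?_, ?_⟩
    · show (R.pullback (eqToHom hx)).arrows (𝒴.p.map ψ)
      rw [hψ]
      exact (R.pullback (eqToHom hx)).downward_closed hg (eqToHom e)
    · rw [hψ]
      simp
  have h1 : ∀ a : ObjectProperty.FullSubcategory (fun f : Over U => R.arrows f.hom),
      (fun g : Over (t.toFunctor.obj (Over.mk (𝟙 U))) =>
        ((R.pullback (eqToHom hx)).functorPullback 𝒴.p).arrows g.hom)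
        ((ObjectProperty.ι _ ⋙ Lam t).obj a) := by
    intro a
    show R.arrows (𝒴.p.map (t.toFunctor.map (toId a.obj)) ≫ eqToHom hx)
    rw [key_eq t a.obj hx]
    exact R.downward_closed a.property _
  have h2 : ∀ (a : Over U) (b : Over (t.toFunctor.obj (Over.mk (𝟙 U)))),
      (fun g : Over (t.toFunctor.obj (Over.mk (𝟙 U))) =>
        ((R.pullback (eqToHom hx)).functorPullback 𝒴.p).arrows g.hom) b →
        ((Lam t).obj a ≅ b) → (fun f : Over U => R.arrows f.hom) a := by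
    intro a b hb i
    have h3 : ((R.pullback (eqToHom hx)).functorPullback 𝒴.p).arrows (i.hom.left ≫ b.hom) :=
      ((R.pullback (eqToHom hx)).functorPullback 𝒴.p).downward_closed hb i.hom.left
    have h4 : i.hom.left ≫ b.hom = t.toFunctor.map (toId a) := Over.w i.hom
    rw [h4] at h3
    have h5 : R.arrows (𝒴.p.map (t.toFunctor.map (toId a)) ≫ eqToHom hx) := h3
    rw [key_eq t a hx] at h5
    have h6 := R.downward_closed h5 (eqToHom (t.w_obj a).symm)
    simpa using h6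
  have := restr_sub_isEquivalence t.toFunctor (Over.forget (t.toFunctor.obj (Over.mk (𝟙 U))))
    (Lam t) rfl (Lam_isEquivalence t h𝒴) (fun f : Over U => R.arrows f.hom)
    (fun g : Over (t.toFunctor.obj (Over.mk (𝟙 U))) =>
      ((R.pullback (eqToHom hx)).functorPullback 𝒴.p).arrows g.hom) h1 h2 ℰ hℰ.1
    (hℰ.2 _ hS)
  exact this

end Lambda

section Main

variable {C : Type u} [Category.{v} C] (J : GrothendieckTopology C)

theorem main12804 {𝒳 𝒴 : BasedCategory.{v, max u v} C} (h𝒳 : Stk.IsStack J 𝒳)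
    (h𝒴 : Stk.IsStack J 𝒴) (F : 𝒳 ⥤ᵇ 𝒴) (hF : FibCat.IsFibGrpd F.toFunctor) :
    Stk.IsStack (𝒴.p.restrictedTopology J) (BasedCategory.ofFunctor F.toFunctor) := by
  refine ⟨hF, ?_⟩
  intro y S hS
  have hdown : down 𝒴 (BasedCategory.ofFunctor F.toFunctor) = 𝒳 := by
    show BasedCategory.ofFunctor (F.toFunctor ⋙ 𝒴.p) = 𝒳
    rw [F.w]
    rfl
  have h𝒳' : Stk.IsStack J (down 𝒴 (BasedCategory.ofFunctor F.toFunctor)) := by
    rw [hdown]
    exact h𝒳
  have k1 := K_lemma J 𝒴 h𝒴.1 S hS _ h𝒳'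
  have k2 := K_lemma J 𝒴 h𝒴.1 S hS 𝒴 h𝒴
  haveI := k2
  exact restr_isEquivalence_of_down (BasedCategory.ofFunctor F.toFunctor) hF (Stk.sieveIncl S) k1
    inferInstance inferInstance

theorem main12805 {𝒳 : BasedCategory.{v, max u v} C} (h𝒳 : Stk.IsStack J 𝒳)
    (𝒴 : BasedCategory.{v, max u v} 𝒳.obj)
    (h𝒴 : Stk.IsStack (𝒳.p.restrictedTopology J) 𝒴) :
    Stk.IsStack J (BasedCategory.ofFunctor (𝒴.p ⋙ 𝒳.p)) := by
  refine ⟨comp_isFibGrpd 𝒴.p 𝒳.p h𝒴.1 h𝒳.1, ?_⟩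
  intro U R hR
  exact restr_down_isEquivalence h𝒳.1 𝒴 h𝒴.1 (Stk.sieveIncl R) (h𝒳.2 R hR)
    (fun t => Lambda_lemma t J h𝒳.1 𝒴 h𝒴 R hR)

end Main

end Groth.Agent.Lib.StkFib
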