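import Mathlib
import Groth.Prelude.Def_AlgSt
import Groth.Prelude.Def_FibCat2
import Groth.Agent.Lib.StkTop_helper9
import Groth.Agent.Lib.StkFibC_lead

/-!
# A faithful functor to a stack whose base changes to slices are stacks (lead) — part D

`main12809`: for `F : 𝒮 ⥤ 𝒯` faithful over `C`, `𝒯` a stack, and all `(C/U) ×_𝒯 𝒮` stacks over
`C/U`, the category `𝒮` is a stack.
-/

set_option autoImplicit false
set_option linter.unusedSimpArgs false
set_option linter.unusedVariables false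
set_option linter.unusedSectionVars false
set_option linter.style.longLine false
set_option linter.unnecessarySimpa false
set_option linter.style.haveILetI false
set_option maxHeartbeats 1600000
set_option backward.isDefEq.respectTransparency false
set_option backward.isDefEq.respectTransparency.types false
set_option backward.defeqAttrib.useBackward true

universe v₆ u₆ v₅ u₅ v₄ u₄ v₃ u₃ v₂ u₂ v₁ u₁ v u

open CategoryTheory CategoryTheory.Limits CategoryTheory.Functor FibCat

namespace Groth.Agent.Lib.StkFib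

open Groth.Agent.StkTop Groth.Agent.Lib.FibCat_helper6

section

variable {C : Type u} [Category.{v} C]

theorem over_eq_restricted (J : GrothendieckTopology C) (U : C) :
    J.over U = (Over.forget U).restrictedTopology J := by
  apply GrothendieckTopology.ext
  funext a
  apply Set.ext
  intro S
  show S ∈ J.over U a ↔ S ∈ (Over.forget U).restrictedTopology J a
  rw [GrothendieckTopology.mem_over_iff,
    mem_restrictedTopology_iff (Over.forget U) (isFibGrpd_over_forget U) J S]
  rfl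

variable {𝒪 : BasedCategory.{v₃, u₃} C} {𝒮 : BasedCategory.{v₄, u₄} C}
  {𝒯 : BasedCategory.{v₅, u₅} C}

/-- The 2-fibre product `𝒪 ×_𝒯 𝒮` as a category over `𝒪`. -/
abbrev fpOver (y : 𝒪 ⥤ᵇ 𝒯) (F : 𝒮 ⥤ᵇ 𝒯) : BasedCategory 𝒪.obj :=
  BasedCategory.ofFunctor (fpFst y F).toFunctor

variable {y : 𝒪 ⥤ᵇ 𝒯} {F : 𝒮 ⥤ᵇ 𝒯}

/-- The functor over `𝒪` into `𝒪 ×_𝒯 𝒮` given by `a`, `b` and `e : a ⋙ y ≅ b ⋙ F`. -/
def secOf {𝒲 : BasedCategory.{v₆, u₆} C} (a : 𝒲 ⥤ᵇ 𝒪) (b : 𝒲 ⥤ᵇ 𝒮)
    (e : BasedFunctor.comp a y ≅ BasedFunctor.comp b F) : up a ⥤ᵇ fpOver y F where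
  toFunctor := (fpLift a b e).toFunctor
  w := rfl

/-- The second component of a functor over `𝒪` into `𝒪 ×_𝒯 𝒮`. -/
def toS {𝒲 : BasedCategory.{v₆, u₆} C} {a : 𝒲 ⥤ᵇ 𝒪} (s : up a ⥤ᵇ fpOver y F) : 𝒲 ⥤ᵇ 𝒮 where
  toFunctor := s.toFunctor ⋙ (fpSnd y F).toFunctor
  w := by
    have h1 : (fpSnd y F).toFunctor ⋙ 𝒮.p = (fpFst y F).toFunctor ⋙ 𝒪.p :=
      (fpSnd y F).w.trans (fpFst y F).w.symm
    have h2 : s.toFunctor ⋙ (fpFst y F).toFunctor = a.toFunctor := s.w
    rw [CategoryTheory.Functor.assoc, h1, ← CategoryTheory.Functor.assoc, h2]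
    exact a.w

/-- The second component of a 2-morphism over `𝒪`. -/
def toSHom {𝒲 : BasedCategory.{v₆, u₆} C} {a : 𝒲 ⥤ᵇ 𝒪} {s s' : up a ⥤ᵇ fpOver y F}
    (δ : s ⟶ s') : toS s ⟶ toS s' where
  toNatTrans := Functor.whiskerRight δ.toNatTrans (fpSnd y F).toFunctor
  isHomLift' := fun w => by
    have k1 : (fpFst y F).toFunctor.IsHomLift (𝟙 (a.toFunctor.obj w)) (δ.toNatTrans.app w) :=
      δ.isHomLift' w
    have k2 : ((fpFst y F).toFunctor ⋙ 𝒪.p).IsHomLift (𝟙 (𝒪.p.obj (a.toFunctor.obj w)))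
        (δ.toNatTrans.app w) := isHomLift_comp_id _ _ _ k1
    have k3 : (fp y F).p.IsHomLift (𝟙 (𝒪.p.obj (a.toFunctor.obj w))) (δ.toNatTrans.app w) := k2
    haveI := k3
    have k4 : 𝒮.p.IsHomLift (𝟙 (𝒪.p.obj (a.toFunctor.obj w)))
        ((fpSnd y F).toFunctor.map (δ.toNatTrans.app w)) := inferInstance
    exact lift_id_of_eq 𝒮.p (a.w_obj w) _ k4

end

section Main

variable {C : Type u} [Category.{v} C] (J : GrothendieckTopology C)

theorem main12809 {𝒮 𝒯 : BasedCategory.{v, max u v} C} (h𝒮 : FibCat.IsFibGrpd 𝒮.p)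
    (h𝒯 : Stk.IsStack J 𝒯) (F : 𝒮 ⥤ᵇ 𝒯) [F.toFunctor.Faithful]
    (h3 : ∀ (U : C) (y : FibCat.overCat U ⥤ᵇ 𝒯),
      Stk.IsStack (J.over U) (BasedCategory.ofFunctor
        ((FibCat.fpFst y F).toFunctor : (FibCat.fp y F).obj ⥤ Over U))) :
    Stk.IsStack J 𝒮 := by
  refine ⟨h𝒮, ?_⟩
  intro U R hR
  have hΛ : ∀ y : FibCat.overCat U ⥤ᵇ 𝒯,
      (Stk.restr (upMap (Stk.sieveIncl R) (BasedFunctor.id (FibCat.overCat U)))
        (fpOver y F)).IsEquivalence := by
    intro y
    have h4 : Stk.IsStack ((FibCat.overCat U).p.restrictedTopology J) (fpOver y F) := by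
      have := h3 U y
      rw [over_eq_restricted J U] at this
      exact this
    exact Lambda_lemma (BasedFunctor.id (FibCat.overCat U)) J (isFibGrpd_over_forget U)
      (fpOver y F) h4 R hR
  have h𝒯R : (Stk.restr (Stk.sieveIncl R) 𝒯).IsEquivalence := h𝒯.2 R hR
  haveI := h𝒯R
  show (Stk.restr (Stk.sieveIncl R) 𝒮).IsEquivalence
  -- faithful
  have hfaith : (Stk.restr (Stk.sieveIncl R) 𝒮).Faithful := by
    refine ⟨fun {G G'} α α' h => ?_⟩
    have happ : ∀ a, α.toNatTrans.app ((Stk.sieveIncl R).toFunctor.obj a) =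
        α'.toNatTrans.app ((Stk.sieveIncl R).toFunctor.obj a) :=
      fun a => congrArg (fun δ => δ.toNatTrans.app a) h
    have h1 : BasedCategory.whiskerRight α F = BasedCategory.whiskerRight α' F := by
      apply (Stk.restr (Stk.sieveIncl R) 𝒯).map_injective
      apply BasedNatTrans.ext
      apply NatTrans.ext
      funext a
      show F.toFunctor.map (α.toNatTrans.app ((Stk.sieveIncl R).toFunctor.obj a)) =
        F.toFunctor.map (α'.toNatTrans.app ((Stk.sieveIncl R).toFunctor.obj a))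
      rw [happ a]
    apply BasedNatTrans.ext
    apply NatTrans.ext
    funext b
    have h2 : F.toFunctor.map (α.toNatTrans.app b) = F.toFunctor.map (α'.toNatTrans.app b) :=
      congrArg (fun δ => δ.toNatTrans.app b) h1
    exact F.toFunctor.map_injective h2
  -- full
  have hfull : (Stk.restr (Stk.sieveIncl R) 𝒮).Full := by
    refine ⟨fun {G G'} γ => ?_⟩
    haveI := hΛ (BasedFunctor.comp G' F)
    let Fγ : (Stk.restr (Stk.sieveIncl R) 𝒯).obj (BasedFunctor.comp G F) ⟶
        (Stk.restr (Stk.sieveIncl R) 𝒯).obj (BasedFunctor.comp G' F) :=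
      BasedCategory.whiskerRight γ F
    obtain ⟨β, hβ⟩ := (Stk.restr (Stk.sieveIncl R) 𝒯).map_surjective Fγ
    have hβapp : ∀ a, β.toNatTrans.app ((Stk.sieveIncl R).toFunctor.obj a) =
        F.toFunctor.map (γ.toNatTrans.app a) :=
      fun a => congrArg (fun δ => δ.toNatTrans.app a) hβ
    haveI : IsIso β := isIso_basedNatTrans h𝒯.1 β
    have hinv : ∀ x, (inv β).toNatTrans.app x ≫ β.toNatTrans.app x = 𝟙 _ :=
      fun x => congrArg (fun δ => δ.toNatTrans.app x) (IsIso.inv_hom_id β)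
    let e : BasedFunctor.comp (BasedFunctor.id (FibCat.overCat U)) (BasedFunctor.comp G' F) ≅
        BasedFunctor.comp G F := (asIso β).symm
    let e' : BasedFunctor.comp (BasedFunctor.id (FibCat.overCat U)) (BasedFunctor.comp G' F) ≅
        BasedFunctor.comp G' F := Iso.refl _
    let s : up (BasedFunctor.id (FibCat.overCat U)) ⥤ᵇ fpOver (BasedFunctor.comp G' F) F :=
      secOf (BasedFunctor.id (FibCat.overCat U)) G e
    let s' : up (BasedFunctor.id (FibCat.overCat U)) ⥤ᵇ fpOver (BasedFunctor.comp G' F) F :=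
      secOf (BasedFunctor.id (FibCat.overCat U)) G' e'
    let γ'nt : (Stk.sieveIncl R).toFunctor ⋙ s.toFunctor ⟶
        (Stk.sieveIncl R).toFunctor ⋙ s'.toFunctor :=
      { app := fun a => ObjectProperty.homMk
          { fst := 𝟙 _
            snd := γ.toNatTrans.app a
            w := by
              show (BasedFunctor.comp G' F).toFunctor.map (𝟙 _) ≫ 𝟙 _ =
                (inv β).toNatTrans.app ((Stk.sieveIncl R).toFunctor.obj a) ≫
                  F.toFunctor.map (γ.toNatTrans.app a)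
              rw [← hβapp a, hinv, CategoryTheory.Functor.map_id, Category.comp_id] }
        naturality := by
          intro a a' m
          apply ObjectProperty.hom_ext
          apply CategoricalPullback.hom_ext
          · show (Stk.sieveIncl R).toFunctor.map m ≫ 𝟙 _ = 𝟙 _ ≫ (Stk.sieveIncl R).toFunctor.map m
            rw [Category.comp_id, Category.id_comp]
          · exact γ.toNatTrans.naturality m }
    let γ' : (Stk.restr (upMap (Stk.sieveIncl R) (BasedFunctor.id (FibCat.overCat U)))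
          (fpOver (BasedFunctor.comp G' F) F)).obj s ⟶
        (Stk.restr (upMap (Stk.sieveIncl R) (BasedFunctor.id (FibCat.overCat U)))
          (fpOver (BasedFunctor.comp G' F) F)).obj s' :=
      (⟨γ'nt, fun a => lift_of_eq_map (fpFst (BasedFunctor.comp G' F) F).toFunctor
          (γ'nt.app a) (𝟙 _) rfl⟩ :
        BasedNatTrans
          (BasedFunctor.comp (upMap (Stk.sieveIncl R) (BasedFunctor.id (FibCat.overCat U))) s)
          (BasedFunctor.comp (upMap (Stk.sieveIncl R) (BasedFunctor.id (FibCat.overCat U))) s'))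
    obtain ⟨α', hα'⟩ := (Stk.restr (upMap (Stk.sieveIncl R) (BasedFunctor.id (FibCat.overCat U)))
      (fpOver (BasedFunctor.comp G' F) F)).map_surjective γ'
    refine ⟨(⟨(toSHom α').toNatTrans, (toSHom α').isHomLift'⟩ : BasedNatTrans G G'), ?_⟩
    apply BasedNatTrans.ext
    apply NatTrans.ext
    funext a
    show (fpSnd (BasedFunctor.comp G' F) F).toFunctor.map
      (α'.toNatTrans.app ((Stk.sieveIncl R).toFunctor.obj a)) = γ.toNatTrans.app a
    have h5 : α'.toNatTrans.app ((Stk.sieveIncl R).toFunctor.obj a) = γ'nt.app a :=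
      congrArg (fun δ => δ.toNatTrans.app a) hα'
    rw [h5]
    rfl
  -- essentially surjective
  have hess : (Stk.restr (Stk.sieveIncl R) 𝒮).EssSurj := by
    refine ⟨fun K => ?_⟩
    let y : FibCat.overCat U ⥤ᵇ 𝒯 :=
      (Stk.restr (Stk.sieveIncl R) 𝒯).objPreimage (BasedFunctor.comp K F)
    let σ : BasedFunctor.comp (Stk.sieveIncl R) y ≅ BasedFunctor.comp K F :=
      (Stk.restr (Stk.sieveIncl R) 𝒯).objObjPreimageIso (BasedFunctor.comp K F)
    haveI := hΛ y
    let K' : up (BasedFunctor.comp (Stk.sieveIncl R) (BasedFunctor.id (FibCat.overCat U))) ⥤ᵇ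
        fpOver y F :=
      secOf (BasedFunctor.comp (Stk.sieveIncl R) (BasedFunctor.id (FibCat.overCat U))) K σ
    let s : up (BasedFunctor.id (FibCat.overCat U)) ⥤ᵇ fpOver y F :=
      (Stk.restr (upMap (Stk.sieveIncl R) (BasedFunctor.id (FibCat.overCat U)))
        (fpOver y F)).objPreimage K'
    let ρ : (Stk.restr (upMap (Stk.sieveIncl R) (BasedFunctor.id (FibCat.overCat U)))
        (fpOver y F)).obj s ≅ K' :=
      (Stk.restr (upMap (Stk.sieveIncl R) (BasedFunctor.id (FibCat.overCat U)))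
        (fpOver y F)).objObjPreimageIso K'
    let ρu : (Stk.sieveIncl R).toFunctor ⋙ s.toFunctor ≅ K'.toFunctor :=
      (BasedNatTrans.forgetful _ _).mapIso ρ
    let ζ : (Stk.sieveIncl R).toFunctor ⋙ (toS s).toFunctor ≅ K.toFunctor :=
      isoWhiskerRight ρu (fpSnd y F).toFunctor
    have hlift : ∀ a, 𝒮.p.IsHomLift (𝟙 ((Stk.sieveCat R).p.obj a)) (ζ.hom.app a) :=
      fun a => (toSHom ρ.hom).isHomLift' a
    exact ⟨toS s, ⟨BasedNatIso.mkNatIso ζ hlift⟩⟩
  exact { }

end Main

end Groth.Agent.Lib.StkFib
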