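import Mathlib
import Groth.Prelude.Def_AlgSt
import Groth.Prelude.Def_FibCat2
import Groth.Prelude.Def_StGerb
import Groth.Agent.Lib.StkTop_helper9
import Groth.Agent.Lib.StkEquiv_helper9
import Groth.Agent.Lib.StkFibC_lead

/-!
# A gerbe over a stack is a gerbe over the site of the stack (lead)
-/

set_option autoImplicit false
set_option linter.unusedSimpArgs false
set_option linter.unusedVariables false
set_option linter.unusedSectionVars false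
set_option linter.style.longLine false
set_option linter.unnecessarySimpa false
set_option linter.style.haveILetI false
set_option maxHeartbeats 1600000
set_option backward.isDefEq.respectTransparency false
set_option backward.isDefEq.respectTransparency.types false
set_option backward.defeqAttrib.useBackward true

universe v₆ u₆ v₅ u₅ v₄ u₄ v₃ u₃ v₂ u₂ v₁ u₁ v u

open CategoryTheory CategoryTheory.Functor FibCat

namespace Groth.Agent.Lib.StkGerb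

open Groth.Agent.StkTop Groth.Agent.Lib.StkFib

section

variable {C : Type u} [Category.{v} C]

theorem functorPullback_mem {Yo : Type u₂} [Category.{v₂} Yo] {p : Yo ⥤ C} (hp : IsFibGrpd p)
    (J : GrothendieckTopology C) {y : Yo} {U : C} (hU : p.obj y = U) (R : Sieve U)
    (hR : R ∈ J U) :
    (R.pullback (eqToHom hU)).functorPullback p ∈ p.restrictedTopology J y := by
  refine (mem_restrictedTopology_iff p hp J _).2 ?_
  refine J.superset_covering ?_ (J.pullback_stable (eqToHom hU) hR)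
  intro V g hg
  obtain ⟨z, ψ, e, hψ⟩ := exists_lift' hp (x := y) g
  refine ⟨z, ψ, eqToHom e.symm, ?_, ?_⟩
  · show (R.pullback (eqToHom hU)).arrows (p.map ψ)
    rw [hψ]
    exact (R.pullback (eqToHom hU)).downward_closed hg (eqToHom e)
  · rw [hψ]
    simp

theorem eq_eqToHom_of_lift_id {D : Type u₂} [Category.{v₂} D] {w w' : D} (b : w ⟶ w')
    (hb : (𝟭 D).IsHomLift (𝟙 w) b) : ∃ h : w = w', b = eqToHom h := by
  haveI := hb
  have h1 : w' = w := IsHomLift.codomain_eq (𝟭 D) (𝟙 w) b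
  refine ⟨h1.symm, ?_⟩
  have := IsHomLift.fac' (𝟭 D) (𝟙 w) b
  simpa using this

theorem exists_strict_lift {𝒳' : BasedCategory.{v₃, u₃} C} {𝒴 : BasedCategory.{v₂, u₂} C}
    (h𝒴 : IsFibGrpd 𝒴.p) (F' : 𝒳' ⥤ᵇ 𝒴) (hF' : IsFibGrpd F'.toFunctor) (x' : 𝒳'.obj)
    {z w : 𝒴.obj} (ψ : z ⟶ w) (μ : F'.toFunctor.obj x' ⟶ w)
    (hμ : 𝒴.p.IsHomLift (𝒴.p.map ψ) μ) :
    ∃ (x₀ : 𝒳'.obj) (ω : x₀ ⟶ x') (χ : F'.toFunctor.obj x' ⟶ z) (_ : IsIso χ),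
      χ ≫ ψ = μ ∧ F'.toFunctor.IsHomLift (inv χ) ω := by
  haveI := hμ
  have hd : 𝒴.p.obj (F'.toFunctor.obj x') = 𝒴.p.obj z :=
    IsHomLift.domain_eq 𝒴.p (𝒴.p.map ψ) μ
  have hfac : eqToHom hd ≫ 𝒴.p.map ψ = 𝒴.p.map μ := by
    rw [IsHomLift.fac' 𝒴.p (𝒴.p.map ψ) μ]
    simp
  obtain ⟨χ, ⟨hχ1, hχ2⟩, -⟩ := exists_unique_map h𝒴 ψ μ (eqToHom hd) hfac
  have hχiso : IsIso χ :=
    isIso_of h𝒴 (eqToHom hd) inferInstance χ (lift_of_eq_map 𝒴.p χ _ hχ1)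
  obtain ⟨x₀, ω, hω⟩ := hF'.exists_lift (x := x') (@inv _ _ _ _ χ hχiso)
  exact ⟨x₀, ω, χ, hχiso, hχ2, hω⟩

theorem main16886 (J : GrothendieckTopology C) {𝒳 𝒴 𝒳' : BasedCategory.{v, max u v} C}
    (h𝒳 : Stk.IsStack J 𝒳) (h𝒴 : Stk.IsStack J 𝒴) (F : 𝒳 ⥤ᵇ 𝒴) (hF : Gerb.IsGerbeOver J F)
    (a : 𝒳 ⥤ᵇ 𝒳') (ha : FibCat.IsEquivOver a) (F' : 𝒳' ⥤ᵇ 𝒴)
    (hF' : FibCat.IsFibGrpd F'.toFunctor) (hfac : BasedFunctor.comp a F' = F) :
    Gerb.IsGerbe (𝒴.p.restrictedTopology J) (BasedCategory.ofFunctor F'.toFunctor) := by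
  subst hfac
  have h𝒳' : Stk.IsStack J 𝒳' := (Groth.Agent.StkEquiv.isStack_iff J ha).1 h𝒳
  refine ⟨main12804 J h𝒳' h𝒴 F' hF', ?_, ?_⟩
  · -- objects come from `𝒳'` locally
    intro y
    obtain ⟨R, hR, hR2⟩ := hF.1 y
    refine ⟨(R.pullback (eqToHom rfl)).functorPullback 𝒴.p,
      functorPullback_mem h𝒴.1 J rfl R hR, ?_⟩
    intro z ψ hψ
    have hψ' : R.arrows (𝒴.p.map ψ ≫ eqToHom rfl) := hψ
    rw [eqToHom_refl, Category.comp_id] at hψ'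
    obtain ⟨x, g, hg⟩ := hR2 (𝒴.p.map ψ) hψ'
    obtain ⟨x₀, ω, χ, hχ, h1, hω⟩ :=
      exists_strict_lift h𝒴.1 F' hF' (a.toFunctor.obj x) ψ g hg
    haveI := hω
    have hz : F'.toFunctor.obj x₀ = z :=
      IsHomLift.domain_eq F'.toFunctor (@inv _ _ _ _ χ hχ) ω
    refine ⟨x₀, eqToHom hz ≫ ψ, ?_⟩
    show (𝟭 𝒴.obj).IsHomLift ψ (eqToHom hz ≫ ψ)
    haveI : (𝟭 𝒴.obj).IsHomLift ψ ψ := IsHomLift.map (𝟭 𝒴.obj) ψ
    infer_instance
  · -- morphisms lift locally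
    intro x₁ x₂ b hb
    obtain ⟨G, ⟨η⟩, ⟨ε⟩⟩ := ha
    obtain ⟨hw12, hb_eq⟩ := eq_eqToHom_of_lift_id b hb
    let ε₁ : a.toFunctor.obj (G.toFunctor.obj x₁) ≅ x₁ :=
      ((BasedNatTrans.forgetful _ _).mapIso ε).app x₁
    let ε₂ : a.toFunctor.obj (G.toFunctor.obj x₂) ≅ x₂ :=
      ((BasedNatTrans.forgetful _ _).mapIso ε).app x₂
    have hε₁ : 𝒳'.p.IsHomLift (𝟙 (𝒳'.p.obj x₁)) ε₁.hom := ε.hom.isHomLift' x₁
    have hε₂ : 𝒳'.p.IsHomLift (𝟙 (𝒳'.p.obj x₂)) ε₂.hom := ε.hom.isHomLift' x₂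
    have hε₂i : 𝒳'.p.IsHomLift (𝟙 (𝒳'.p.obj x₂)) ε₂.inv := by
      haveI := hε₂
      infer_instance
    have hp12 : 𝒳'.p.obj x₂ = 𝒳'.p.obj x₁ :=
      (F'.w_obj x₂).symm.trans ((congrArg 𝒴.p.obj hw12.symm).trans (F'.w_obj x₁))
    have k1 : 𝒴.p.IsHomLift (𝟙 (𝒳'.p.obj x₁)) (F'.toFunctor.map ε₁.hom) := by
      haveI := hε₁
      infer_instance
    have k2 : 𝒴.p.IsHomLift (𝟙 (𝒳'.p.obj x₁)) b := by
      rw [hb_eq]
      exact IsHomLift.eqToHom_domain_lift_id _ (F'.w_obj x₁)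
    have k3 : 𝒴.p.IsHomLift (𝟙 (𝒳'.p.obj x₁)) (F'.toFunctor.map ε₂.inv) := by
      haveI := hε₂i
      have : 𝒴.p.IsHomLift (𝟙 (𝒳'.p.obj x₂)) (F'.toFunctor.map ε₂.inv) := inferInstance
      exact lift_id_of_eq 𝒴.p hp12 _ this
    have hbt : 𝒴.p.IsHomLift (𝟙 (𝒳.p.obj (G.toFunctor.obj x₁)))
        (F'.toFunctor.map ε₁.hom ≫ b ≫ F'.toFunctor.map ε₂.inv) :=
      lift_id_of_eq 𝒴.p (G.w_obj x₁).symm _
        (lift_id_comp 𝒴.p _ _ _ k1 (lift_id_comp 𝒴.p _ _ _ k2 k3))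
    obtain ⟨R, hR, hR2⟩ := hF.2 (G.toFunctor.obj x₁) (G.toFunctor.obj x₂)
      (F'.toFunctor.map ε₁.hom ≫ b ≫ F'.toFunctor.map ε₂.inv) hbt
    have hw : 𝒴.p.obj (F'.toFunctor.obj x₁) = 𝒳.p.obj (G.toFunctor.obj x₁) :=
      (F'.w_obj x₁).trans (G.w_obj x₁).symm
    refine ⟨(R.pullback (eqToHom hw)).functorPullback 𝒴.p,
      functorPullback_mem h𝒴.1 J hw R hR, ?_⟩
    intro z ψ hψ
    have hψ' : R.arrows (𝒴.p.map ψ ≫ eqToHom hw) := hψ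
    obtain ⟨x₀, φ, φ', hφ, hφ', hcomm⟩ := hR2 (𝒴.p.map ψ ≫ eqToHom hw) hψ'
    have h2 : F'.toFunctor.map ε₂.inv ≫ F'.toFunctor.map ε₂.hom = 𝟙 _ := by
      rw [← F'.toFunctor.map_comp, ε₂.inv_hom_id, CategoryTheory.Functor.map_id]
    have hcomm' : F'.toFunctor.map (a.toFunctor.map φ ≫ ε₁.hom) ≫ b =
        F'.toFunctor.map (a.toFunctor.map φ' ≫ ε₂.hom) := by
      have h1 : F'.toFunctor.map (a.toFunctor.map φ) ≫
          (F'.toFunctor.map ε₁.hom ≫ b ≫ F'.toFunctor.map ε₂.inv) =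
          F'.toFunctor.map (a.toFunctor.map φ') := hcomm
      rw [F'.toFunctor.map_comp, F'.toFunctor.map_comp, ← h1]
      simp only [Category.assoc, h2]
      erw [Category.comp_id]
    have m1 : 𝒴.p.IsHomLift (𝒴.p.map ψ ≫ eqToHom hw)
        (F'.toFunctor.map (a.toFunctor.map φ)) := by
      haveI := hφ
      haveI : 𝒳'.p.IsHomLift (𝒴.p.map ψ ≫ eqToHom hw) (a.toFunctor.map φ) := inferInstance
      infer_instance
    have m2 : 𝒴.p.IsHomLift (𝟙 (𝒳.p.obj (G.toFunctor.obj x₁))) (F'.toFunctor.map ε₁.hom) :=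
      lift_id_of_eq 𝒴.p (G.w_obj x₁).symm _ k1
    have m3 : 𝒴.p.IsHomLift (𝒴.p.map ψ) (F'.toFunctor.map (a.toFunctor.map φ ≫ ε₁.hom)) := by
      have := lift_comp 𝒴.p _ _ _ _ m1 m2
      rw [Category.comp_id, ← F'.toFunctor.map_comp] at this
      exact lift_of_lift_comp_eqToHom 𝒴.p _ _ _ this
    obtain ⟨x₀', ω, χ, hχ, h1, hω⟩ := exists_strict_lift h𝒴.1 F' hF' (a.toFunctor.obj x₀) ψ
      (F'.toFunctor.map (a.toFunctor.map φ ≫ ε₁.hom)) m3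
    haveI := hχ
    refine ⟨x₀', ω ≫ (a.toFunctor.map φ ≫ ε₁.hom), ω ≫ (a.toFunctor.map φ' ≫ ε₂.hom), ?_, ?_, ?_⟩
    · have n1 : F'.toFunctor.IsHomLift (χ ≫ ψ) (a.toFunctor.map φ ≫ ε₁.hom) :=
        lift_of_eq_map F'.toFunctor _ _ h1.symm
      have n2 := lift_comp F'.toFunctor _ _ _ _ hω n1
      exact lift_of_eq F'.toFunctor (IsIso.inv_hom_id_assoc χ ψ) _ n2
    · have n1 : F'.toFunctor.IsHomLift ((χ ≫ ψ) ≫ b) (a.toFunctor.map φ' ≫ ε₂.hom) :=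
        lift_of_eq_map F'.toFunctor _ _ (by rw [← hcomm', h1])
      have n2 := lift_comp F'.toFunctor _ _ _ _ hω n1
      have e3 : inv χ ≫ (χ ≫ ψ) ≫ b = ψ ≫ eqToHom hw12 := by
        rw [hb_eq]
        simp
      exact lift_of_lift_comp_eqToHom F'.toFunctor _ _ _ (lift_of_eq F'.toFunctor e3 _ n2)
    · show F'.toFunctor.map (ω ≫ (a.toFunctor.map φ ≫ ε₁.hom)) ≫ b =
        F'.toFunctor.map (ω ≫ (a.toFunctor.map φ' ≫ ε₂.hom))
      rw [F'.toFunctor.map_comp, F'.toFunctor.map_comp ω, Category.assoc, hcomm']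

end

end Groth.Agent.Lib.StkGerb
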