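import Mathlib
import Groth.Prelude.Def_AlgSt
import Groth.Agent.Lib.StkEquiv_helper9
import Groth.Agent.Lib.FibCatYoneda_helper6
import Groth.Agent.S6409

/-!
# Fully faithful functors of stacks: local essential surjectivity
-/

set_option autoImplicit false

universe v₆ u₆ v₅ u₅ v₄ u₄ v₃ u₃ v₂ u₂ v u

open CategoryTheory FibCat

namespace Groth.Agent.StkLocEss

open Groth.Agent.StkEquiv
open Groth.Agent.Lib.FibCat_helper6 Groth.Agent.Lib.FibCat3_helper6 Groth.Agent.Lib.FibCat4_helper6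
  Groth.Agent.Lib.FibCatYoneda_helper6

variable {C : Type u} [Category.{v} C]

section Factor

variable {𝒜 : BasedCategory.{v₅, u₅} C} {𝒳 : BasedCategory.{v₂, u₂} C} {𝒴 : BasedCategory.{v₃, u₃} C}

/-- A functor over `C` whose values are pointwise (over identities) in the essential image of a fully
faithful functor over `C` factors through it up to isomorphism. -/
theorem exists_factor (F : 𝒳 ⥤ᵇ 𝒴) [F.toFunctor.Full] [F.toFunctor.Faithful] (Z : 𝒜 ⥤ᵇ 𝒴)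
    (h : ∀ a : 𝒜.obj, ∃ (x : 𝒳.obj) (ε : F.obj x ≅ Z.obj a),
      𝒴.p.IsHomLift (𝟙 (𝒜.p.obj a)) ε.hom) :
    ∃ K : 𝒜 ⥤ᵇ 𝒳, Nonempty (BasedFunctor.comp K F ≅ Z) := by
  choose x ε hε using h
  have hεinv : ∀ a, 𝒴.p.IsHomLift (𝟙 (𝒜.p.obj a)) (ε a).inv := fun a =>
    IsHomLift.lift_id_inv 𝒴.p (𝒜.p.obj a) (ε a)
  let Kf : 𝒜.obj ⥤ 𝒳.obj :=
    { obj := x
      map := fun {a b} g => F.toFunctor.preimage ((ε a).hom ≫ Z.map g ≫ (ε b).inv)
      map_id := fun a => F.toFunctor.map_injective (by simp)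
      map_comp := fun g g' => F.toFunctor.map_injective (by simp) }
  have hmap : ∀ {a b : 𝒜.obj} (g : a ⟶ b),
      F.map (Kf.map g) = (ε a).hom ≫ Z.map g ≫ (ε b).inv := fun g =>
    F.toFunctor.map_preimage _
  have hlift : ∀ {a b : 𝒜.obj} (g : a ⟶ b), 𝒳.p.IsHomLift (𝒜.p.map g) (Kf.map g) := by
    intro a b g
    have h1 : 𝒴.p.IsHomLift (𝒜.p.map g) (Z.map g) := inferInstance
    have h2 : 𝒴.p.IsHomLift (𝒜.p.map g) (Z.map g ≫ (ε b).inv) :=
      IsHomLift.comp_lift_id_right' 𝒴.p (𝒜.p.map g) (Z.map g) (𝒜.p.obj b) (ε b).inv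
    have h3 : 𝒴.p.IsHomLift (𝒜.p.map g) ((ε a).hom ≫ Z.map g ≫ (ε b).inv) :=
      IsHomLift.comp_lift_id_left' 𝒴.p (𝒜.p.obj a) (ε a).hom (𝒜.p.map g) _
    have h4 : 𝒴.p.IsHomLift (𝒜.p.map g) (F.map (Kf.map g)) := by rw [hmap g]; exact h3
    exact BasedFunctor.isHomLift_map F _ _
  have hobj : ∀ a, 𝒳.p.obj (x a) = 𝒜.p.obj a := fun a =>
    (F.w_obj (x a)).symm.trans (IsHomLift.domain_eq 𝒴.p (𝟙 (𝒜.p.obj a)) (ε a).hom)
  let K : 𝒜 ⥤ᵇ 𝒳 :=
    { toFunctor := Kf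
      w := CategoryTheory.Functor.ext hobj (fun a b g => by
        have := hlift g
        exact IsHomLift.fac' 𝒳.p (𝒜.p.map g) (Kf.map g)) }
  refine ⟨K, ⟨BasedNatIso.mkNatIso (NatIso.ofComponents (fun a => ε a) ?_) (fun a => hε a)⟩⟩
  intro a b g
  change F.map (Kf.map g) ≫ (ε b).hom = (ε a).hom ≫ Z.map g
  rw [hmap g]
  simp

end Factor

end Groth.Agent.StkLocEss
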