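import Mathlib
import Groth.Prelude.Def_AlgSt
import Groth.Prelude.Def_FibCat2
import Groth.Agent.Lib.StkFibA_lead

/-!
# A Quillen-A type lemma for functors into categories fibred in groupoids (lead)

`quillenA`: let `π : A ⥤ B` be a functor such that `A` has binary products carried by `π` to
binary products of `B` and every object of `B` maps to an object in the image of `π`.  Then for
`pB : B ⥤ D` and `𝒮` fibred in groupoids over `D`, restriction along `π` from functors `B ⥤ 𝒮`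
over `D` to functors `A ⥤ 𝒮` over `D` is an equivalence.
-/

set_option autoImplicit false
set_option linter.unusedSimpArgs false
set_option linter.unusedVariables false
set_option linter.unusedSectionVars false
set_option linter.style.longLine false
set_option linter.unnecessarySimpa false
set_option linter.style.haveILetI false
set_option maxHeartbeats 1600000
set_option backward.isDefEq.respectTransparency false
set_option backward.isDefEq.respectTransparency.types false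
set_option backward.defeqAttrib.useBackward true

universe v₆ u₆ v₅ u₅ v₄ u₄ v₃ u₃ v₂ u₂ v₁ u₁ v u

open CategoryTheory CategoryTheory.Functor FibCat

namespace Groth.Agent.Lib.StkFib

section Cart

variable {B : Type u₁} [Category.{v₁} B] {E : Type u₂} [Category.{v₂} E] {p : E ⥤ B}

theorem cart_exists (hp : IsFibGrpd p) {R S T : B} (g : R ⟶ S) (f : S ⟶ T) (gf : R ⟶ T)
    (hgf : gf = g ≫ f) {a b c : E} (φ : b ⟶ c) (hφ : p.IsHomLift f φ) (ψ : a ⟶ c)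
    (hψ : p.IsHomLift gf ψ) : ∃ χ : a ⟶ b, p.IsHomLift g χ ∧ χ ≫ φ = ψ := by
  haveI := sc_of hp f φ hφ
  haveI := hψ
  exact ⟨IsStronglyCartesian.map p f φ hgf ψ, IsStronglyCartesian.map_isHomLift p f φ hgf ψ,
    IsStronglyCartesian.fac p f φ hgf ψ⟩

theorem cart_ext (hp : IsFibGrpd p) {R S T : B} (g : R ⟶ S) (f : S ⟶ T) {a b c : E}
    (φ : b ⟶ c) (hφ : p.IsHomLift f φ) (χ χ' : a ⟶ b) (h1 : p.IsHomLift g χ)
    (h2 : p.IsHomLift g χ') (h : χ ≫ φ = χ' ≫ φ) : χ = χ' := by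
  haveI := sc_of hp f φ hφ
  haveI := h1
  haveI := h2
  exact IsStronglyCartesian.ext p f φ g h

theorem lift_of_w {A : Type u₃} [Category.{v₃} A] (G : A ⥤ E) (p : E ⥤ B) (T : A ⥤ B)
    (hw : G ⋙ p = T) {a b : A} (k : a ⟶ b) : p.IsHomLift (T.map k) (G.map k) := by
  subst hw
  exact IsHomLift.map p (G.map k)

theorem exists_lift_of_eq (hp : IsFibGrpd p) {x : E} {V S : B} (f : V ⟶ S) (hS : p.obj x = S) :
    ∃ (y : E) (φ : y ⟶ x), p.IsHomLift f φ := by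
  subst hS
  exact hp.exists_lift f

end Cart

section QuillenA

variable {D : Type u₁} [Category.{v₁} D] {A : Type u₂} [Category.{v₂} A]
  {B : Type u₃} [Category.{v₃} B] {E : Type u₄} [Category.{v₄} E]

/-- Binary products in `A` which `π` carries to binary products of `B`. -/
structure ProdData (π : A ⥤ B) where
  prod : A → A → A
  p₁ : ∀ f₁ f₂, prod f₁ f₂ ⟶ f₁
  p₂ : ∀ f₁ f₂, prod f₁ f₂ ⟶ f₂
  lift : ∀ {f f₁ f₂ : A}, (f ⟶ f₁) → (f ⟶ f₂) → (f ⟶ prod f₁ f₂)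
  lift_p₁ : ∀ {f f₁ f₂ : A} (q₁ : f ⟶ f₁) (q₂ : f ⟶ f₂), lift q₁ q₂ ≫ p₁ f₁ f₂ = q₁
  lift_p₂ : ∀ {f f₁ f₂ : A} (q₁ : f ⟶ f₁) (q₂ : f ⟶ f₂), lift q₁ q₂ ≫ p₂ f₁ f₂ = q₂
  liftB : ∀ {h : B} {f₁ f₂ : A}, (h ⟶ π.obj f₁) → (h ⟶ π.obj f₂) → (h ⟶ π.obj (prod f₁ f₂))
  liftB_p₁ : ∀ {h : B} {f₁ f₂ : A} (k₁ : h ⟶ π.obj f₁) (k₂ : h ⟶ π.obj f₂),
    liftB k₁ k₂ ≫ π.map (p₁ f₁ f₂) = k₁
  liftB_p₂ : ∀ {h : B} {f₁ f₂ : A} (k₁ : h ⟶ π.obj f₁) (k₂ : h ⟶ π.obj f₂),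
    liftB k₁ k₂ ≫ π.map (p₂ f₁ f₂) = k₂
  liftB_uniq : ∀ {h : B} {f₁ f₂ : A} (k k' : h ⟶ π.obj (prod f₁ f₂)),
    k ≫ π.map (p₁ f₁ f₂) = k' ≫ π.map (p₁ f₁ f₂) →
    k ≫ π.map (p₂ f₁ f₂) = k' ≫ π.map (p₂ f₁ f₂) → k = k'

/-- Restriction of product data to full subcategories. -/
def ProdData.restrict {π : A ⥤ B} (PD : ProdData π) (P : ObjectProperty A) (Q : ObjectProperty B)
    (h1 : ∀ a : P.FullSubcategory, Q ((P.ι ⋙ π).obj a))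
    (hP : ∀ f₁ f₂, P f₁ → P f₂ → P (PD.prod f₁ f₂)) : ProdData (Q.lift (P.ι ⋙ π) h1) where
  prod a₁ a₂ := ⟨PD.prod a₁.obj a₂.obj, hP _ _ a₁.property a₂.property⟩
  p₁ a₁ a₂ := ObjectProperty.homMk (PD.p₁ a₁.obj a₂.obj)
  p₂ a₁ a₂ := ObjectProperty.homMk (PD.p₂ a₁.obj a₂.obj)
  lift q₁ q₂ := ObjectProperty.homMk (PD.lift q₁.hom q₂.hom)
  lift_p₁ q₁ q₂ := by
    apply ObjectProperty.hom_ext
    exact PD.lift_p₁ q₁.hom q₂.hom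
  lift_p₂ q₁ q₂ := by
    apply ObjectProperty.hom_ext
    exact PD.lift_p₂ q₁.hom q₂.hom
  liftB k₁ k₂ := ObjectProperty.homMk (PD.liftB k₁.hom k₂.hom)
  liftB_p₁ k₁ k₂ := by
    apply ObjectProperty.hom_ext
    exact PD.liftB_p₁ k₁.hom k₂.hom
  liftB_p₂ k₁ k₂ := by
    apply ObjectProperty.hom_ext
    exact PD.liftB_p₂ k₁.hom k₂.hom
  liftB_uniq k k' e₁ e₂ := by
    apply ObjectProperty.hom_ext
    exact PD.liftB_uniq k.hom k'.hom (congrArg (fun t => t.hom) e₁) (congrArg (fun t => t.hom) e₂)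

variable {π : A ⥤ B} (pB : B ⥤ D) (p : E ⥤ D) (PD : ProdData π)
  (hcov : ∀ h : B, ∃ f : A, Nonempty (h ⟶ π.obj f)) (hp : IsFibGrpd p)

include hcov hp in
theorem qa_uniq {G₁ G₂ : B ⥤ E} (hG₂ : G₂ ⋙ p = pB) (α β : G₁ ⟶ G₂)
    (hα : ∀ h, p.IsHomLift (𝟙 (pB.obj h)) (α.app h))
    (hβ : ∀ h, p.IsHomLift (𝟙 (pB.obj h)) (β.app h))
    (e : ∀ f, α.app (π.obj f) = β.app (π.obj f)) : α = β := by
  apply NatTrans.ext
  funext h
  obtain ⟨f, ⟨k⟩⟩ := hcov h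
  refine cart_ext hp (𝟙 (pB.obj h)) (pB.map k) (G₂.map k) (lift_of_w G₂ p pB hG₂ k) _ _
    (hα h) (hβ h) ?_
  rw [← α.naturality k, ← β.naturality k, e]

include PD hcov hp in
theorem qa_ext_exists {G₁ G₂ : B ⥤ E} (hG₁ : G₁ ⋙ p = pB) (hG₂ : G₂ ⋙ p = pB)
    (γ : π ⋙ G₁ ⟶ π ⋙ G₂) (hγ : ∀ f, p.IsHomLift (𝟙 (pB.obj (π.obj f))) (γ.app f)) (h : B) :
    ∃ a : G₁.obj h ⟶ G₂.obj h, p.IsHomLift (𝟙 (pB.obj h)) a ∧
      ∀ (f : A) (k : h ⟶ π.obj f), a ≫ G₂.map k = G₁.map k ≫ γ.app f := by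
  obtain ⟨f₀, ⟨k₀⟩⟩ := hcov h
  have l₁ : ∀ {x y : B} (k : x ⟶ y), p.IsHomLift (pB.map k) (G₁.map k) :=
    fun k => lift_of_w G₁ p pB hG₁ k
  have l₂ : ∀ {x y : B} (k : x ⟶ y), p.IsHomLift (pB.map k) (G₂.map k) :=
    fun k => lift_of_w G₂ p pB hG₂ k
  have hγn : ∀ {f f' : A} (g : f ⟶ f'),
      G₁.map (π.map g) ≫ γ.app f' = γ.app f ≫ G₂.map (π.map g) := fun g => γ.naturality g
  obtain ⟨a, ha1, ha2⟩ := cart_exists hp (𝟙 (pB.obj h)) (pB.map k₀) (pB.map k₀)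
    (Category.id_comp _).symm (G₂.map k₀) (l₂ k₀) (G₁.map k₀ ≫ γ.app f₀)
    (lift_of_eq p (Category.comp_id _) _ (lift_comp p _ _ _ _ (l₁ k₀) (hγ f₀)))
  refine ⟨a, ha1, fun f k => ?_⟩
  have e1 : PD.liftB k₀ k ≫ π.map (PD.p₁ f₀ f) = k₀ := PD.liftB_p₁ k₀ k
  have e2 : PD.liftB k₀ k ≫ π.map (PD.p₂ f₀ f) = k := PD.liftB_p₂ k₀ k
  have key : a ≫ G₂.map (PD.liftB k₀ k) =
      G₁.map (PD.liftB k₀ k) ≫ γ.app (PD.prod f₀ f) := by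
    refine cart_ext hp (pB.map (PD.liftB k₀ k)) (pB.map (π.map (PD.p₁ f₀ f)))
      (G₂.map (π.map (PD.p₁ f₀ f))) (l₂ _) _ _ ?_ ?_ ?_
    · exact lift_of_eq p (Category.id_comp _) _ (lift_comp p _ _ _ _ ha1 (l₂ _))
    · exact lift_of_eq p (Category.comp_id _) _ (lift_comp p _ _ _ _ (l₁ _) (hγ _))
    · calc (a ≫ G₂.map (PD.liftB k₀ k)) ≫ G₂.map (π.map (PD.p₁ f₀ f))
          = a ≫ G₂.map (PD.liftB k₀ k ≫ π.map (PD.p₁ f₀ f)) := by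
            rw [G₂.map_comp, Category.assoc]
        _ = G₁.map k₀ ≫ γ.app f₀ := by rw [e1, ha2]
        _ = G₁.map (PD.liftB k₀ k ≫ π.map (PD.p₁ f₀ f)) ≫ γ.app f₀ := by rw [e1]
        _ = G₁.map (PD.liftB k₀ k) ≫ G₁.map (π.map (PD.p₁ f₀ f)) ≫ γ.app f₀ := by
            rw [G₁.map_comp, Category.assoc]
        _ = G₁.map (PD.liftB k₀ k) ≫ γ.app (PD.prod f₀ f) ≫ G₂.map (π.map (PD.p₁ f₀ f)) := by
            rw [hγn]
        _ = (G₁.map (PD.liftB k₀ k) ≫ γ.app (PD.prod f₀ f)) ≫ G₂.map (π.map (PD.p₁ f₀ f)) := by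
            rw [Category.assoc]
  calc a ≫ G₂.map k = a ≫ G₂.map (PD.liftB k₀ k ≫ π.map (PD.p₂ f₀ f)) := by rw [e2]
    _ = (a ≫ G₂.map (PD.liftB k₀ k)) ≫ G₂.map (π.map (PD.p₂ f₀ f)) := by
        rw [G₂.map_comp, Category.assoc]
    _ = G₁.map (PD.liftB k₀ k) ≫ (γ.app (PD.prod f₀ f) ≫ G₂.map (π.map (PD.p₂ f₀ f))) := by
        rw [key, Category.assoc]
    _ = G₁.map (PD.liftB k₀ k) ≫ (G₁.map (π.map (PD.p₂ f₀ f)) ≫ γ.app f) := by rw [hγn]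
    _ = G₁.map (PD.liftB k₀ k ≫ π.map (PD.p₂ f₀ f)) ≫ γ.app f := by
        rw [G₁.map_comp, Category.assoc]
    _ = G₁.map k ≫ γ.app f := by rw [e2]

include PD hcov hp in
theorem qa_ext {G₁ G₂ : B ⥤ E} (hG₁ : G₁ ⋙ p = pB) (hG₂ : G₂ ⋙ p = pB)
    (γ : π ⋙ G₁ ⟶ π ⋙ G₂) (hγ : ∀ f, p.IsHomLift (𝟙 (pB.obj (π.obj f))) (γ.app f)) :
    ∃ α : G₁ ⟶ G₂, (∀ h, p.IsHomLift (𝟙 (pB.obj h)) (α.app h)) ∧
      ∀ f, α.app (π.obj f) = γ.app f := by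
  have l₁ : ∀ {x y : B} (k : x ⟶ y), p.IsHomLift (pB.map k) (G₁.map k) :=
    fun k => lift_of_w G₁ p pB hG₁ k
  have l₂ : ∀ {x y : B} (k : x ⟶ y), p.IsHomLift (pB.map k) (G₂.map k) :=
    fun k => lift_of_w G₂ p pB hG₂ k
  choose a ha1 ha2 using qa_ext_exists pB p PD hcov hp hG₁ hG₂ γ hγ
  have hnat : ∀ {h' h : B} (m : h' ⟶ h), G₁.map m ≫ a h = a h' ≫ G₂.map m := by
    intro h' h m
    obtain ⟨f, ⟨k⟩⟩ := hcov h
    refine cart_ext hp (pB.map m) (pB.map k) (G₂.map k) (l₂ k) _ _ ?_ ?_ ?_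
    · exact lift_of_eq p (Category.comp_id _) _ (lift_comp p _ _ _ _ (l₁ m) (ha1 h))
    · exact lift_of_eq p (Category.id_comp _) _ (lift_comp p _ _ _ _ (ha1 h') (l₂ m))
    · calc (G₁.map m ≫ a h) ≫ G₂.map k = G₁.map m ≫ G₁.map k ≫ γ.app f := by
            rw [Category.assoc, ha2 h f k]
        _ = G₁.map (m ≫ k) ≫ γ.app f := by rw [G₁.map_comp, Category.assoc]
        _ = a h' ≫ G₂.map (m ≫ k) := (ha2 h' f (m ≫ k)).symm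
        _ = (a h' ≫ G₂.map m) ≫ G₂.map k := by rw [G₂.map_comp, Category.assoc]
  refine ⟨⟨a, fun {h' h} m => hnat m⟩, ha1, fun f => ?_⟩
  have := ha2 (π.obj f) f (𝟙 _)
  rw [CategoryTheory.Functor.map_id, CategoryTheory.Functor.map_id, Category.comp_id,
    Category.id_comp] at this
  exact this

/-- A "cone" over `h : B`: an object of `E` over `pB h` with compatible maps to all `H f` for
`h ⟶ π f`. -/
structure QCone (π : A ⥤ B) (pB : B ⥤ D) (p : E ⥤ D) (H : A ⥤ E) (h : B) where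
  z : E
  c : ∀ (f : A), (h ⟶ π.obj f) → (z ⟶ H.obj f)
  hc : ∀ (f : A) (k : h ⟶ π.obj f), p.IsHomLift (pB.map k) (c f k)
  compat : ∀ {f f' : A} (k : h ⟶ π.obj f) (g : f ⟶ f'), c f k ≫ H.map g = c f' (k ≫ π.map g)

include PD hcov hp in
theorem qcone_exists (H : A ⥤ E) (hH : H ⋙ p = π ⋙ pB) (h : B) :
    Nonempty (QCone π pB p H h) := by
  obtain ⟨f₀, ⟨k₀⟩⟩ := hcov h
  have hHm : ∀ {f f' : A} (g : f ⟶ f'), p.IsHomLift (pB.map (π.map g)) (H.map g) :=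
    fun g => lift_of_w H p (π ⋙ pB) hH g
  obtain ⟨z, c₀, hc₀⟩ := exists_lift_of_eq hp (x := H.obj f₀) (pB.map k₀)
    (CategoryTheory.Functor.congr_obj hH f₀)
  have hlam : ∀ (f : A) (k : h ⟶ π.obj f), ∃ l : z ⟶ H.obj (PD.prod f₀ f),
      p.IsHomLift (pB.map (PD.liftB k₀ k)) l ∧ l ≫ H.map (PD.p₁ f₀ f) = c₀ := fun f k =>
    cart_exists hp (pB.map (PD.liftB k₀ k)) (pB.map (π.map (PD.p₁ f₀ f))) (pB.map k₀)
      (by rw [← pB.map_comp, PD.liftB_p₁]) (H.map (PD.p₁ f₀ f)) (hHm _) c₀ hc₀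
  choose lam hlam1 hlam2 using hlam
  refine ⟨{ z := z, c := fun f k => lam f k ≫ H.map (PD.p₂ f₀ f), hc := ?_, compat := ?_ }⟩
  · intro f k
    refine lift_of_eq p ?_ _ (lift_comp p _ _ _ _ (hlam1 f k) (hHm (PD.p₂ f₀ f)))
    rw [← pB.map_comp, PD.liftB_p₂]
  · intro f f' k g
    have g1 : PD.lift (PD.p₁ f₀ f) (PD.p₂ f₀ f ≫ g) ≫ PD.p₁ f₀ f' = PD.p₁ f₀ f :=
      PD.lift_p₁ _ _
    have g2 : PD.lift (PD.p₁ f₀ f) (PD.p₂ f₀ f ≫ g) ≫ PD.p₂ f₀ f' = PD.p₂ f₀ f ≫ g :=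
      PD.lift_p₂ _ _
    have hk : PD.liftB k₀ k ≫ π.map (PD.lift (PD.p₁ f₀ f) (PD.p₂ f₀ f ≫ g)) =
        PD.liftB k₀ (k ≫ π.map g) := by
      apply PD.liftB_uniq
      · rw [Category.assoc, ← π.map_comp, g1, PD.liftB_p₁, PD.liftB_p₁]
      · rw [Category.assoc, ← π.map_comp, g2, π.map_comp, ← Category.assoc, PD.liftB_p₂,
          PD.liftB_p₂]
    have hl : lam f k ≫ H.map (PD.lift (PD.p₁ f₀ f) (PD.p₂ f₀ f ≫ g)) =
        lam f' (k ≫ π.map g) := by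
      refine cart_ext hp (pB.map (PD.liftB k₀ (k ≫ π.map g))) (pB.map (π.map (PD.p₁ f₀ f')))
        (H.map (PD.p₁ f₀ f')) (hHm _) _ _ ?_ (hlam1 f' _) ?_
      · refine lift_of_eq p ?_ _ (lift_comp p _ _ _ _ (hlam1 f k) (hHm _))
        rw [← pB.map_comp, hk]
      · rw [Category.assoc, ← H.map_comp, g1, hlam2, hlam2]
    show (lam f k ≫ H.map (PD.p₂ f₀ f)) ≫ H.map g = lam f' (k ≫ π.map g) ≫ H.map (PD.p₂ f₀ f')
    rw [← hl, Category.assoc, Category.assoc, ← H.map_comp, ← H.map_comp, g2]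

include PD hcov hp in
theorem qcone_hom (H : A ⥤ E) (hH : H ⋙ p = π ⋙ pB) {h h' : B} (Z : QCone π pB p H h)
    (Z' : QCone π pB p H h') (m : h' ⟶ h) :
    ∃ ψ : Z'.z ⟶ Z.z, (p.IsHomLift (pB.map m) ψ ∧ ∀ f k, ψ ≫ Z.c f k = Z'.c f (m ≫ k)) ∧
      ∀ ψ' : Z'.z ⟶ Z.z, p.IsHomLift (pB.map m) ψ' →
        (∀ f k, ψ' ≫ Z.c f k = Z'.c f (m ≫ k)) → ψ' = ψ := by
  obtain ⟨f₀, ⟨k₀⟩⟩ := hcov h
  have hHm : ∀ {f f' : A} (g : f ⟶ f'), p.IsHomLift (pB.map (π.map g)) (H.map g) :=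
    fun g => lift_of_w H p (π ⋙ pB) hH g
  obtain ⟨ψ, hψ1, hψ2⟩ := cart_exists hp (pB.map m) (pB.map k₀) (pB.map (m ≫ k₀))
    (pB.map_comp _ _) (Z.c f₀ k₀) (Z.hc f₀ k₀) (Z'.c f₀ (m ≫ k₀)) (Z'.hc f₀ (m ≫ k₀))
  refine ⟨ψ, ⟨hψ1, fun f k => ?_⟩, fun ψ' h1 h2 => ?_⟩
  · have e1 : PD.liftB k₀ k ≫ π.map (PD.p₁ f₀ f) = k₀ := PD.liftB_p₁ k₀ k
    have e2 : PD.liftB k₀ k ≫ π.map (PD.p₂ f₀ f) = k := PD.liftB_p₂ k₀ k
    have c1 : Z.c (PD.prod f₀ f) (PD.liftB k₀ k) ≫ H.map (PD.p₁ f₀ f) = Z.c f₀ k₀ := by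
      rw [Z.compat, e1]
    have c2 : Z.c (PD.prod f₀ f) (PD.liftB k₀ k) ≫ H.map (PD.p₂ f₀ f) = Z.c f k := by
      rw [Z.compat, e2]
    have c1' : Z'.c (PD.prod f₀ f) (m ≫ PD.liftB k₀ k) ≫ H.map (PD.p₁ f₀ f) =
        Z'.c f₀ (m ≫ k₀) := by
      rw [Z'.compat, Category.assoc, e1]
    have c2' : Z'.c (PD.prod f₀ f) (m ≫ PD.liftB k₀ k) ≫ H.map (PD.p₂ f₀ f) =
        Z'.c f (m ≫ k) := by
      rw [Z'.compat, Category.assoc, e2]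
    have key : ψ ≫ Z.c (PD.prod f₀ f) (PD.liftB k₀ k) =
        Z'.c (PD.prod f₀ f) (m ≫ PD.liftB k₀ k) := by
      refine cart_ext hp (pB.map (m ≫ PD.liftB k₀ k)) (pB.map (π.map (PD.p₁ f₀ f)))
        (H.map (PD.p₁ f₀ f)) (hHm _) _ _ ?_ (Z'.hc _ _) ?_
      · exact lift_of_eq p (pB.map_comp _ _).symm _ (lift_comp p _ _ _ _ hψ1 (Z.hc _ _))
      · rw [Category.assoc, c1, hψ2, c1']
    rw [← c2, ← Category.assoc, key, c2']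
  · exact cart_ext hp (pB.map m) (pB.map k₀) (Z.c f₀ k₀) (Z.hc f₀ k₀) _ _ h1 hψ1
      ((h2 f₀ k₀).trans hψ2.symm)

include PD hcov hp in
theorem qa_extend (H : A ⥤ E) (hH : H ⋙ p = π ⋙ pB) :
    ∃ (G' : B ⥤ E) (_ : G' ⋙ p = pB) (ζ : π ⋙ G' ⟶ H),
      ∀ f, p.IsHomLift (𝟙 (pB.obj (π.obj f))) (ζ.app f) := by
  have hZ := fun h => qcone_exists pB p PD hcov hp H hH h
  have Z : ∀ h, QCone π pB p H h := fun h => Classical.choice (hZ h)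
  have hM : ∀ (h' h : B) (m : h' ⟶ h), ∃ ψ : (Z h').z ⟶ (Z h).z,
      (p.IsHomLift (pB.map m) ψ ∧ ∀ f k, ψ ≫ (Z h).c f k = (Z h').c f (m ≫ k)) ∧
      ∀ ψ' : (Z h').z ⟶ (Z h).z, p.IsHomLift (pB.map m) ψ' →
        (∀ f k, ψ' ≫ (Z h).c f k = (Z h').c f (m ≫ k)) → ψ' = ψ :=
    fun h' h m => qcone_hom pB p PD hcov hp H hH (Z h) (Z h') m
  choose M hM1 hM2 using hM
  have hdom : ∀ h, p.obj (Z h).z = pB.obj h := by
    intro h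
    obtain ⟨f₀, ⟨k₀⟩⟩ := hcov h
    haveI := (Z h).hc f₀ k₀
    exact IsHomLift.domain_eq p (pB.map k₀) ((Z h).c f₀ k₀)
  let G' : B ⥤ E :=
    { obj := fun h => (Z h).z
      map := fun {h' h} m => M h' h m
      map_id := fun h => by
        symm
        apply hM2
        · exact lift_of_eq p (pB.map_id h).symm _ (IsHomLift.id (hdom h))
        · intro f k
          rw [Category.id_comp, Category.id_comp]
      map_comp := fun {h'' h' h} m' m => by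
        symm
        apply hM2
        · exact lift_of_eq p (pB.map_comp m' m).symm _
            (lift_comp p _ _ _ _ (hM1 _ _ m').1 (hM1 _ _ m).1)
        · intro f k
          rw [Category.assoc, (hM1 _ _ m).2, (hM1 _ _ m').2, Category.assoc] }
  have hG' : G' ⋙ p = pB := by
    refine CategoryTheory.Functor.ext hdom ?_
    intro h' h m
    haveI := (hM1 h' h m).1
    exact IsHomLift.fac' p (pB.map m) (M h' h m)
  let ζ : π ⋙ G' ⟶ H :=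
    { app := fun f => (Z (π.obj f)).c f (𝟙 _)
      naturality := fun {f f'} g => by
        show M (π.obj f) (π.obj f') (π.map g) ≫ (Z (π.obj f')).c f' (𝟙 _) =
          (Z (π.obj f)).c f (𝟙 _) ≫ H.map g
        rw [(hM1 _ _ (π.map g)).2, (Z (π.obj f)).compat, Category.comp_id, Category.id_comp] }
  refine ⟨G', hG', ζ, fun f => ?_⟩
  exact lift_of_eq p (pB.map_id _) _ ((Z (π.obj f)).hc f (𝟙 _))

include PD hcov in
/-- The Quillen-A type lemma. -/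
theorem quillenA (pA : A ⥤ D) (hpA : π ⋙ pB = pA) (𝒮 : BasedCategory.{v₄, u₄} D)
    (h𝒮 : IsFibGrpd 𝒮.p) :
    (Stk.restr (⟨π, hpA⟩ : BasedCategory.ofFunctor pA ⥤ᵇ BasedCategory.ofFunctor pB)
      𝒮).IsEquivalence := by
  subst hpA
  haveI : (Stk.restr (⟨π, rfl⟩ : BasedCategory.ofFunctor (π ⋙ pB) ⥤ᵇ
      BasedCategory.ofFunctor pB) 𝒮).Faithful := by
    refine ⟨fun {G₁ G₂} α β hαβ => ?_⟩
    apply BasedNatTrans.ext
    exact qa_uniq pB 𝒮.p hcov h𝒮 G₂.w α.toNatTrans β.toNatTrans α.isHomLift' β.isHomLift'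
      (fun f => congrArg (fun γ => γ.toNatTrans.app f) hαβ)
  haveI : (Stk.restr (⟨π, rfl⟩ : BasedCategory.ofFunctor (π ⋙ pB) ⥤ᵇ
      BasedCategory.ofFunctor pB) 𝒮).Full := by
    refine ⟨fun {G₁ G₂} γ => ?_⟩
    obtain ⟨α, hα, e⟩ := qa_ext pB 𝒮.p PD hcov h𝒮 G₁.w G₂.w γ.toNatTrans γ.isHomLift'
    refine ⟨(⟨α, hα⟩ : BasedNatTrans G₁ G₂), ?_⟩
    apply BasedNatTrans.ext
    apply NatTrans.ext
    funext f
    exact e f
  haveI : (Stk.restr (⟨π, rfl⟩ : BasedCategory.ofFunctor (π ⋙ pB) ⥤ᵇ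
      BasedCategory.ofFunctor pB) 𝒮).EssSurj := by
    refine ⟨fun H => ?_⟩
    obtain ⟨G', hG', ζ, hζ⟩ := qa_extend pB 𝒮.p PD hcov h𝒮 H.toFunctor H.w
    let G'' : BasedCategory.ofFunctor pB ⥤ᵇ 𝒮 := ⟨G', hG'⟩
    let ζ' : (Stk.restr (⟨π, rfl⟩ : BasedCategory.ofFunctor (π ⋙ pB) ⥤ᵇ
      BasedCategory.ofFunctor pB) 𝒮).obj G'' ⟶ H := ⟨ζ, hζ⟩
    haveI := isIso_basedNatTrans h𝒮 ζ'
    exact ⟨G'', ⟨asIso ζ'⟩⟩
  exact { }

end QuillenA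

end Groth.Agent.Lib.StkFib
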