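import Mathlib
import Groth.Prelude.Def_AlgSt
import Groth.Prelude.Def_FibCat2
import Groth.Agent.Lib.StkFibA_lead

/-!
# The 2-fibre product `C ×_D 𝒮` (lead)

* `pi1_isFibGrpd`: for `p : E ⥤ D` fibred in groupoids and `u : C ⥤ D`, the first projection
  `C ×_D E ⥤ C` is fibred in groupoids;
* `Phi`: the equivalence between functors `𝒜 ⥤ 𝒮` over `D` (with `𝒜` over `D` through `u`) and
  functors `𝒜 ⥤ C ×_D 𝒮` over `C`;
* `phi_transfer`: restriction along `ι` into `C ×_D 𝒮` is an equivalence if restriction along the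
  pushed-forward `ι` into `𝒮` is.
-/

set_option autoImplicit false
set_option linter.unusedSimpArgs false
set_option linter.unusedVariables false
set_option linter.unusedSectionVars false
set_option linter.style.longLine false
set_option linter.unnecessarySimpa false
set_option linter.style.haveILetI false
set_option maxHeartbeats 1600000
set_option backward.isDefEq.respectTransparency false
set_option backward.isDefEq.respectTransparency.types false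
set_option backward.defeqAttrib.useBackward true

universe v₆ u₆ v₅ u₅ v₄ u₄ v₃ u₃ v₂ u₂ v₁ u₁ v u

open CategoryTheory CategoryTheory.Limits CategoryTheory.Functor FibCat

namespace Groth.Agent.Lib.StkFib

section Aux

variable {C : Type u} [Category.{v} C] {D : Type u₂} [Category.{v₂} D]
  {E : Type u₃} [Category.{v₃} E]

theorem pb_w_aux {X X' Y Y' : D} (v : X ⟶ X') (hX : Y = X) (hX' : Y' = X') (w : Y ⟶ Y')
    (hw : w = eqToHom hX ≫ v ≫ eqToHom hX'.symm) :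
    v ≫ eqToHom hX'.symm = eqToHom hX.symm ≫ w := by
  subst hX hX'
  simp only [eqToHom_refl, Category.id_comp, Category.comp_id] at hw ⊢
  exact hw.symm

theorem eq_eqToHom_of_comp {X Y Z : D} (e : X = Y) (e' : X = Z) (s : Y ⟶ Z)
    (h : eqToHom e' = eqToHom e ≫ s) : s = eqToHom (e.symm.trans e') := by
  subst e e'
  simpa using h.symm

theorem theta_nat_aux2 (u : C ⥤ D) {c c' x x' : C} (φ : c ⟶ c') (hc : c = x) (hc' : c' = x')
    (ψ : x ⟶ x') (hφ : φ = eqToHom hc ≫ ψ ≫ eqToHom hc'.symm) {s s' : D} (σ : s ⟶ s')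
    (j : s ⟶ u.obj c) (j' : s' ⟶ u.obj c') (hw : σ ≫ j' = j ≫ u.map φ) :
    σ ≫ (j' ≫ eqToHom (congrArg u.obj hc')) = (j ≫ eqToHom (congrArg u.obj hc)) ≫ u.map ψ := by
  subst hc hc'
  simp only [eqToHom_refl, Category.id_comp, Category.comp_id] at hφ ⊢
  rw [← hφ]
  exact hw

theorem pb_w_aux3 (u : C ⥤ D) (p : E ⥤ D) {c x : C} (hc : c = x) {s t : E} (ξ : t ⟶ s)
    (j : u.obj c ⟶ p.obj s) (f : u.obj x ⟶ p.obj s)
    (hf : f = eqToHom (congrArg u.obj hc).symm ≫ j) (ht : p.obj t = u.obj x)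
    (hξ : p.IsHomLift f ξ) :
    u.map (eqToHom hc.symm) ≫ j = eqToHom ht.symm ≫ p.map ξ := by
  subst hc
  haveI := hξ
  have h2 := hf.symm.trans (IsHomLift.fac p f ξ)
  simpa using h2

end Aux

section PiOne

variable {C : Type u} [Category.{v} C] {D : Type u₂} [Category.{v₂} D]
  {E : Type u₃} [Category.{v₃} E]

theorem pi1_isFibGrpd (u : C ⥤ D) (p : E ⥤ D) (hp : IsFibGrpd p) :
    IsFibGrpd (CategoricalPullback.π₁ u p) where
  exists_lift := by
    intro x V f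
    change V ⟶ x.fst at f
    obtain ⟨s', σ, e, hσ⟩ := exists_lift' hp (x := x.snd) (u.map f ≫ x.iso.hom)
    let y : CategoricalPullback u p := ⟨V, s', eqToIso e.symm⟩
    have w : u.map f ≫ x.iso.hom = y.iso.hom ≫ p.map σ := by
      show u.map f ≫ x.iso.hom = eqToHom e.symm ≫ p.map σ
      rw [hσ, eqToHom_trans_assoc, eqToHom_refl, Category.id_comp]
    let φ : y ⟶ x := ⟨f, σ, w⟩
    exact ⟨y, φ, lift_of_eq_map (CategoricalPullback.π₁ u p) φ f rfl⟩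
  isStronglyCartesian := by
    intro y x φ
    refine { universal_property' := ?_ }
    intro a' g φ' hφ'
    change a'.fst ⟶ y.fst at g
    have hfac : g ≫ φ.fst = φ'.fst :=
      IsHomLift.eq_of_isHomLift (CategoricalPullback.π₁ u p)
        (g ≫ (CategoricalPullback.π₁ u p).map φ) φ'
    have hγ : (a'.iso.inv ≫ u.map g ≫ y.iso.hom) ≫ p.map φ.snd = p.map φ'.snd := by
      have h1 : u.map φ.fst ≫ x.iso.hom = y.iso.hom ≫ p.map φ.snd := φ.w
      have h2 : u.map φ'.fst ≫ x.iso.hom = a'.iso.hom ≫ p.map φ'.snd := φ'.w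
      calc (a'.iso.inv ≫ u.map g ≫ y.iso.hom) ≫ p.map φ.snd
          = a'.iso.inv ≫ u.map g ≫ (y.iso.hom ≫ p.map φ.snd) := by
            simp only [Category.assoc]
        _ = a'.iso.inv ≫ u.map g ≫ (u.map φ.fst ≫ x.iso.hom) := by rw [h1]
        _ = a'.iso.inv ≫ (u.map (g ≫ φ.fst) ≫ x.iso.hom) := by
            rw [u.map_comp, Category.assoc]
        _ = a'.iso.inv ≫ (a'.iso.hom ≫ p.map φ'.snd) := by rw [hfac, h2]
        _ = p.map φ'.snd := by rw [Iso.inv_hom_id_assoc]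
    obtain ⟨χ₂, ⟨hχ1, hχ2⟩, hχu⟩ := exists_unique_map hp φ.snd φ'.snd
      (a'.iso.inv ≫ u.map g ≫ y.iso.hom) hγ
    have w : u.map g ≫ y.iso.hom = a'.iso.hom ≫ p.map χ₂ := by
      rw [hχ1, Iso.hom_inv_id_assoc]
    let χ : a' ⟶ y := ⟨g, χ₂, w⟩
    refine ⟨χ, ⟨lift_of_eq_map (CategoricalPullback.π₁ u p) χ g rfl,
      CategoricalPullback.hom_ext hfac hχ2⟩, ?_⟩
    rintro χ' ⟨h1, h2⟩
    haveI := h1
    have hs : χ'.fst = g :=
      (IsHomLift.eq_of_isHomLift (CategoricalPullback.π₁ u p) g χ').symm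
    have h3 : χ'.snd ≫ φ.snd = φ'.snd := congrArg CategoricalPullback.Hom.snd h2
    have h4 : p.map χ'.snd = a'.iso.inv ≫ u.map g ≫ y.iso.hom := by
      have h5 : u.map χ'.fst ≫ y.iso.hom = a'.iso.hom ≫ p.map χ'.snd := χ'.w
      rw [← hs, h5, Iso.inv_hom_id_assoc]
    exact CategoricalPullback.hom_ext hs (hχu χ'.snd h4 h3)

end PiOne

section Phi

variable {C : Type u} [Category.{v} C] {D : Type u₂} [Category.{v₂} D] (u : C ⥤ D)
  (𝒮 : BasedCategory.{v₃, u₃} D)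

/-- The 2-fibre product `C ×_D 𝒮` as a category over `C`. -/
abbrev PB := BasedCategory.ofFunctor (CategoricalPullback.π₁ u 𝒮.p)

variable (𝒜 : BasedCategory.{v₄, u₄} C)

/-- `𝒜` pushed forward to a category over `D`. -/
abbrev push : BasedCategory.{v₄, u₄} D := BasedCategory.ofFunctor (𝒜.p ⋙ u)

/-- A functor `𝒜 ⥤ 𝒮` over `D` gives a functor `𝒜 ⥤ C ×_D 𝒮` over `C`. -/
def phiObj (H : push u 𝒜 ⥤ᵇ 𝒮) : 𝒜 ⥤ᵇ PB u 𝒮 where
  toFunctor :=
    { obj := fun a => (⟨𝒜.p.obj a, H.toFunctor.obj a, eqToIso (H.w_obj a).symm⟩ :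
        CategoricalPullback u 𝒮.p)
      map := fun {a b} m => (⟨𝒜.p.map m, H.toFunctor.map m,
        pb_w_aux (u.map (𝒜.p.map m)) (H.w_obj a) (H.w_obj b) _ (based_map_eq H m)⟩ :
        CategoricalPullback.Hom _ _)
      map_id := fun a => by
        apply CategoricalPullback.hom_ext
        · exact 𝒜.p.map_id a
        · exact H.toFunctor.map_id a
      map_comp := fun m n => by
        apply CategoricalPullback.hom_ext
        · exact 𝒜.p.map_comp m n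
        · exact H.toFunctor.map_comp m n }
  w := rfl

/-- The action of `phiObj` on 2-morphisms. -/
def phiMap {H H' : push u 𝒜 ⥤ᵇ 𝒮} (α : H ⟶ H') : phiObj u 𝒮 𝒜 H ⟶ phiObj u 𝒮 𝒜 H' where
  toNatTrans :=
    { app := fun a => CategoricalPullback.Hom.mk (x := (phiObj u 𝒮 𝒜 H).toFunctor.obj a)
        (y := (phiObj u 𝒮 𝒜 H').toFunctor.obj a) (𝟙 (𝒜.p.obj a)) (α.toNatTrans.app a) (by
        show u.map (𝟙 (𝒜.p.obj a)) ≫ eqToHom (H'.w_obj a).symm =
          eqToHom (H.w_obj a).symm ≫ 𝒮.p.map (α.toNatTrans.app a)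
        rw [u.map_id, Category.id_comp, map_eq_eqToHom_of_lift_id 𝒮.p _ (α.isHomLift' a)
          ((H.w_obj a).trans (H'.w_obj a).symm), eqToHom_trans])
      naturality := fun {a b} m => by
        apply CategoricalPullback.hom_ext
        · exact (Category.comp_id _).trans (Category.id_comp _).symm
        · exact α.toNatTrans.naturality m }
  isHomLift' := fun a => lift_of_eq_map _ _ _ rfl

/-- The comparison functor. -/
def Phi : (push u 𝒜 ⥤ᵇ 𝒮) ⥤ (𝒜 ⥤ᵇ PB u 𝒮) where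
  obj := phiObj u 𝒮 𝒜
  map := phiMap u 𝒮 𝒜
  map_id H := by
    apply BasedNatTrans.ext
    apply NatTrans.ext
    funext a
    apply CategoricalPullback.hom_ext
    · rfl
    · rfl
  map_comp α β := by
    apply BasedNatTrans.ext
    apply NatTrans.ext
    funext a
    apply CategoricalPullback.hom_ext
    · exact (Category.id_comp _).symm
    · rfl

theorem phi_faithful : (Phi u 𝒮 𝒜).Faithful := ⟨fun {H H'} α β h => by
  apply BasedNatTrans.ext
  apply NatTrans.ext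
  funext a
  exact congrArg (fun γ => (γ.toNatTrans.app a).snd) h⟩

theorem phi_full : (Phi u 𝒮 𝒜).Full := ⟨fun {H H'} γ => by
  have hfst : ∀ a : 𝒜.obj, (γ.toNatTrans.app a).fst = 𝟙 (𝒜.p.obj a) := fun a =>
    map_eq_eqToHom_of_lift_id (PB u 𝒮).p (γ.toNatTrans.app a) (γ.isHomLift' a) rfl
  have hlift : ∀ a : 𝒜.obj, 𝒮.p.IsHomLift (𝟙 (u.obj (𝒜.p.obj a))) (γ.toNatTrans.app a).snd :=
      fun a => by
    have hw : u.map (γ.toNatTrans.app a).fst ≫ eqToHom (H'.w_obj a).symm =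
        eqToHom (H.w_obj a).symm ≫ 𝒮.p.map (γ.toNatTrans.app a).snd := (γ.toNatTrans.app a).w
    have h0 : u.map (γ.toNatTrans.app a).fst = 𝟙 (u.obj (𝒜.p.obj a)) :=
      (congrArg (fun t => u.map t) (hfst a)).trans (u.map_id _)
    have hw' : eqToHom (H'.w_obj a).symm =
        eqToHom (H.w_obj a).symm ≫ 𝒮.p.map (γ.toNatTrans.app a).snd :=
      ((Category.id_comp _).symm.trans
        (congrArg (fun t => t ≫ eqToHom (H'.w_obj a).symm) h0.symm)).trans hw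
    have h2 := eq_eqToHom_of_comp (H.w_obj a).symm (H'.w_obj a).symm _ hw'
    exact lift_id_of_map_eq_eqToHom 𝒮.p _ _ h2 (H.w_obj a)
  let α : BasedNatTrans H H' :=
    { toNatTrans :=
        { app := fun a => (γ.toNatTrans.app a).snd
          naturality := fun {a b} m =>
            congrArg CategoricalPullback.Hom.snd (γ.toNatTrans.naturality m) }
      isHomLift' := hlift }
  refine ⟨α, ?_⟩
  apply BasedNatTrans.ext
  apply NatTrans.ext
  funext a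
  exact CategoricalPullback.hom_ext (hfst a).symm rfl⟩

theorem phi_essSurj (h𝒮 : IsFibGrpd 𝒮.p) : (Phi u 𝒮 𝒜).EssSurj := ⟨fun G => by
  have hobj : ∀ a, (G.toFunctor.obj a).fst = 𝒜.p.obj a := fun a => G.w_obj a
  have hmap : ∀ {a b : 𝒜.obj} (m : a ⟶ b), (G.toFunctor.map m).fst =
      eqToHom (hobj a) ≫ 𝒜.p.map m ≫ eqToHom (hobj b).symm := fun m => based_map_eq G m
  let G' : 𝒜.obj ⥤ 𝒮.obj := G.toFunctor ⋙ CategoricalPullback.π₂ u 𝒮.p
  let θ : G' ⋙ 𝒮.p ≅ 𝒜.p ⋙ u := NatIso.ofComponents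
    (fun a => (G.toFunctor.obj a).iso.symm ≪≫ eqToIso (congrArg u.obj (hobj a)))
    (fun {a b} m => theta_nat_aux2 u (G.toFunctor.map m).fst (hobj a) (hobj b) (𝒜.p.map m)
      (hmap m) (𝒮.p.map (G.toFunctor.map m).snd) (G.toFunctor.obj a).iso.inv
      (G.toFunctor.obj b).iso.inv (G.toFunctor.map m).w')
  obtain ⟨H₀, hH₀, ξ, hξ⟩ := exists_strictify h𝒮 (𝒜.p ⋙ u) G' θ
  let H : push u 𝒜 ⥤ᵇ 𝒮 := ⟨H₀, hH₀⟩
  have hw : ∀ a, u.map (eqToHom (hobj a).symm) ≫ (G.toFunctor.obj a).iso.hom =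
      eqToHom (H.w_obj a).symm ≫ 𝒮.p.map (ξ.hom.app a) := fun a =>
    pb_w_aux3 u 𝒮.p (hobj a) (ξ.hom.app a) (G.toFunctor.obj a).iso.hom (θ.inv.app a) rfl
      (H.w_obj a) (hξ a)
  let ζ : (phiObj u 𝒮 𝒜 H).toFunctor ≅ G.toFunctor := NatIso.ofComponents
    (fun a => CategoricalPullback.mkIso (eqToIso (hobj a).symm) (ξ.app a) (hw a))
    (fun {a b} m => by
      apply CategoricalPullback.hom_ext
      · show 𝒜.p.map m ≫ eqToHom (hobj b).symm =
          eqToHom (hobj a).symm ≫ (G.toFunctor.map m).fst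
        rw [hmap m]
        simp
      · exact ξ.hom.naturality m)
  have hlift : ∀ a, (PB u 𝒮).p.IsHomLift (𝟙 (𝒜.p.obj a)) (ζ.hom.app a) := fun a =>
    lift_id_of_map_eq_eqToHom (PB u 𝒮).p (ζ.hom.app a) (hobj a).symm rfl rfl
  exact ⟨H, ⟨BasedNatIso.mkNatIso ζ hlift⟩⟩⟩

theorem phi_isEquivalence (h𝒮 : IsFibGrpd 𝒮.p) : (Phi u 𝒮 𝒜).IsEquivalence := by
  haveI := phi_faithful u 𝒮 𝒜
  haveI := phi_full u 𝒮 𝒜
  haveI := phi_essSurj u 𝒮 𝒜 h𝒮
  exact { }

theorem phi_transfer (h𝒮 : IsFibGrpd 𝒮.p) {ℬ : BasedCategory.{v₄, u₄} C} {A : Type u₅}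
    [Category.{v₅} A] (ι₀ : A ⥤ ℬ.obj) (pA : A ⥤ C) (hpA : ι₀ ⋙ ℬ.p = pA)
    (hι : (Stk.restr (⟨ι₀, by rw [← hpA]; rfl⟩ :
      BasedCategory.ofFunctor (pA ⋙ u) ⥤ᵇ BasedCategory.ofFunctor (ℬ.p ⋙ u)) 𝒮).IsEquivalence) :
    (Stk.restr (⟨ι₀, hpA⟩ : BasedCategory.ofFunctor pA ⥤ᵇ ℬ) (PB u 𝒮)).IsEquivalence := by
  subst hpA
  have e : Stk.restr (⟨ι₀, rfl⟩ : BasedCategory.ofFunctor ((ι₀ ⋙ ℬ.p) ⋙ u) ⥤ᵇ
        BasedCategory.ofFunctor (ℬ.p ⋙ u)) 𝒮 ⋙
      Phi u 𝒮 (BasedCategory.ofFunctor (ι₀ ⋙ ℬ.p)) =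
      Phi u 𝒮 ℬ ⋙ Stk.restr (⟨ι₀, rfl⟩ : BasedCategory.ofFunctor (ι₀ ⋙ ℬ.p) ⥤ᵇ ℬ)
        (PB u 𝒮) := rfl
  haveI := hι
  haveI := phi_isEquivalence u 𝒮 ℬ h𝒮
  haveI := phi_isEquivalence u 𝒮 (BasedCategory.ofFunctor (ι₀ ⋙ ℬ.p)) h𝒮
  haveI : (Phi u 𝒮 ℬ ⋙ Stk.restr (⟨ι₀, rfl⟩ : BasedCategory.ofFunctor (ι₀ ⋙ ℬ.p) ⥤ᵇ ℬ)
      (PB u 𝒮)).IsEquivalence := by
    rw [← e]
    infer_instance
  exact Functor.isEquivalence_of_comp_left (Phi u 𝒮 ℬ) _

end Phi

end Groth.Agent.Lib.StkFib
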