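import Mathlib
import Groth.Prelude.Def_AlgSt
import Groth.Prelude.Def_FibCat2
import Groth.Agent.Lib.StkPbA_lead
import Groth.Agent.Lib.StkPbB_lead

/-!
# `C ×_D 𝒮` is a stack over `C` (lead)

`main12808`: for `u : C ⥤ D` cover-preserving and preserving pullbacks (`C` with pullbacks) and a
stack in groupoids `𝒮` over `D`, the 2-fibre product `C ×_D 𝒮` is a stack in groupoids over `C`.
-/

set_option autoImplicit false
set_option linter.unusedSimpArgs false
set_option linter.unusedVariables false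
set_option linter.unusedSectionVars false
set_option linter.style.longLine false
set_option linter.unnecessarySimpa false
set_option linter.style.haveILetI false
set_option maxHeartbeats 1600000
set_option backward.isDefEq.respectTransparency false
set_option backward.isDefEq.respectTransparency.types false
set_option backward.defeqAttrib.useBackward true

universe v₆ u₆ v₅ u₅ v₄ u₄ v₃ u₃ v₂ u₂ v₁ u₁ v u

open CategoryTheory CategoryTheory.Limits CategoryTheory.Functor FibCat

namespace Groth.Agent.Lib.StkFib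

section OverProd

variable {C : Type u} [Category.{v} C] {D : Type u₂} [Category.{v₂} D] [HasPullbacks C]
  (u : C ⥤ D) [PreservesLimitsOfShape WalkingCospan u] (U : C)

theorem isPb_map (f₁ f₂ : Over U) :
    IsPullback (u.map (pullback.fst f₁.hom f₂.hom)) (u.map (pullback.snd f₁.hom f₂.hom))
      (u.map f₁.hom) (u.map f₂.hom) :=
  (IsPullback.of_hasPullback f₁.hom f₂.hom).map u

/-- Binary products in `C/U` (fibre products), preserved by `Over.post u`. -/
noncomputable def overProdData : ProdData (Over.post (X := U) u) where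
  prod f₁ f₂ := Over.mk (pullback.fst f₁.hom f₂.hom ≫ f₁.hom)
  p₁ f₁ f₂ := Over.homMk (pullback.fst f₁.hom f₂.hom) rfl
  p₂ f₁ f₂ := Over.homMk (pullback.snd f₁.hom f₂.hom) pullback.condition.symm
  lift {f f₁ f₂} q₁ q₂ := Over.homMk
    (pullback.lift q₁.left q₂.left ((Over.w q₁).trans (Over.w q₂).symm)) (by
      show pullback.lift q₁.left q₂.left _ ≫ pullback.fst f₁.hom f₂.hom ≫ f₁.hom = f.hom
      rw [pullback.lift_fst_assoc]
      exact Over.w q₁)
  lift_p₁ {f f₁ f₂} q₁ q₂ := by
    apply Over.OverMorphism.ext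
    show pullback.lift q₁.left q₂.left _ ≫ pullback.fst f₁.hom f₂.hom = q₁.left
    exact pullback.lift_fst _ _ _
  lift_p₂ {f f₁ f₂} q₁ q₂ := by
    apply Over.OverMorphism.ext
    show pullback.lift q₁.left q₂.left _ ≫ pullback.snd f₁.hom f₂.hom = q₂.left
    exact pullback.lift_snd _ _ _
  liftB {h f₁ f₂} k₁ k₂ := Over.homMk
    ((isPb_map u U f₁ f₂).lift k₁.left k₂.left ((Over.w k₁).trans (Over.w k₂).symm)) (by
      show (isPb_map u U f₁ f₂).lift k₁.left k₂.left _ ≫
        u.map (pullback.fst f₁.hom f₂.hom ≫ f₁.hom) = h.hom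
      rw [u.map_comp, IsPullback.lift_fst_assoc]
      exact Over.w k₁)
  liftB_p₁ {h f₁ f₂} k₁ k₂ := by
    apply Over.OverMorphism.ext
    show (isPb_map u U f₁ f₂).lift k₁.left k₂.left _ ≫ u.map (pullback.fst f₁.hom f₂.hom) =
      k₁.left
    exact IsPullback.lift_fst _ _ _ _
  liftB_p₂ {h f₁ f₂} k₁ k₂ := by
    apply Over.OverMorphism.ext
    show (isPb_map u U f₁ f₂).lift k₁.left k₂.left _ ≫ u.map (pullback.snd f₁.hom f₂.hom) =
      k₂.left
    exact IsPullback.lift_snd _ _ _ _
  liftB_uniq {h f₁ f₂} k k' e₁ e₂ := by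
    apply Over.OverMorphism.ext
    apply (isPb_map u U f₁ f₂).hom_ext
    · exact congrArg CommaMorphism.left e₁
    · exact congrArg CommaMorphism.left e₂

end OverProd

section Main

variable {C : Type u} [Category.{v} C] {D : Type u₂} [Category.{v₂} D] [HasPullbacks C]

/-- The object property of `C/U` given by a sieve. -/
abbrev sP {U : C} (R : Sieve U) : ObjectProperty (Over U) := fun f => R.arrows f.hom

theorem main12808 (J : GrothendieckTopology C) (K : GrothendieckTopology D) (u : C ⥤ D)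
    [PreservesLimitsOfShape WalkingCospan u] (hu : CoverPreserving J K u)
    (𝒮 : BasedCategory.{v₃, u₃} D) (h𝒮 : Stk.IsStack K 𝒮) :
    Stk.IsStack J (BasedCategory.ofFunctor (CategoricalPullback.π₁ u 𝒮.p)) := by
  refine ⟨pi1_isFibGrpd u 𝒮.p h𝒮.1, fun U R hR => ?_⟩
  have hR' : R.functorPushforward u ∈ K (u.obj U) := hu.cover_preserve hR
  have hst : (Stk.restr (Stk.sieveIncl (R.functorPushforward u)) 𝒮).IsEquivalence :=
    h𝒮.2 _ hR'
  have hA : (Stk.restr (⟨Over.post u, rfl⟩ : BasedCategory.ofFunctor (Over.forget U ⋙ u) ⥤ᵇ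
      BasedCategory.ofFunctor (Over.forget (u.obj U))) 𝒮).IsEquivalence :=
    quillenA (Over.forget (u.obj U)) (overProdData u U)
      (fun h => ⟨Over.mk (𝟙 U), ⟨Over.homMk h.hom (by
        show h.hom ≫ u.map (𝟙 U) = h.hom
        rw [u.map_id, Category.comp_id])⟩⟩) (Over.forget U ⋙ u) rfl 𝒮 h𝒮.1
  have h1 : ∀ a : (sP R).FullSubcategory,
      sP (R.functorPushforward u) (((sP R).ι ⋙ Over.post u).obj a) :=
    fun a => Sieve.image_mem_functorPushforward u R a.property
  have hP : ∀ f₁ f₂, sP R f₁ → sP R f₂ → sP R ((overProdData u U).prod f₁ f₂) :=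
    fun f₁ f₂ hf₁ _ => R.downward_closed hf₁ _
  have hB : (Stk.restr (⟨(sP (R.functorPushforward u)).lift ((sP R).ι ⋙ Over.post u) h1, rfl⟩ :
      BasedCategory.ofFunctor (R.arrows.diagram ⋙ u) ⥤ᵇ
      BasedCategory.ofFunctor (R.functorPushforward u).arrows.diagram) 𝒮).IsEquivalence :=
    quillenA (R.functorPushforward u).arrows.diagram
      ((overProdData u U).restrict (sP R) (sP (R.functorPushforward u)) h1 hP)
      (fun h => by
        have hp : ∃ (V : C) (g : V ⟶ U) (k : h.obj.left ⟶ u.obj V),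
            R.arrows g ∧ h.obj.hom = k ≫ u.map g := h.property
        obtain ⟨V, g, k, hg, e⟩ := hp
        exact ⟨⟨Over.mk g, hg⟩, ⟨ObjectProperty.homMk (Over.homMk k e.symm)⟩⟩)
      (R.arrows.diagram ⋙ u) rfl 𝒮 h𝒮.1
  have hmid : (Stk.restr (⟨(sP R).ι, rfl⟩ : BasedCategory.ofFunctor (R.arrows.diagram ⋙ u) ⥤ᵇ
      BasedCategory.ofFunctor ((FibCat.overCat U).p ⋙ u)) 𝒮).IsEquivalence :=
    restr_isEquivalence_of_square _
      (⟨Over.post u, rfl⟩ : BasedCategory.ofFunctor (Over.forget U ⋙ u) ⥤ᵇ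
        BasedCategory.ofFunctor (Over.forget (u.obj U)))
      (⟨(sP (R.functorPushforward u)).lift ((sP R).ι ⋙ Over.post u) h1, rfl⟩ :
        BasedCategory.ofFunctor (R.arrows.diagram ⋙ u) ⥤ᵇ
        BasedCategory.ofFunctor (R.functorPushforward u).arrows.diagram)
      (Stk.sieveIncl (R.functorPushforward u)) (basedFunctor_ext rfl) 𝒮 hA hB hst
  exact phi_transfer u 𝒮 h𝒮.1 (ℬ := FibCat.overCat U) (sP R).ι R.arrows.diagram rfl hmid

end Main

end Groth.Agent.Lib.StkFib
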