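import Mathlib
import Groth.Prelude.Def_AlgSt
import Groth.Agent.Lib.StkLocal_helper9

/-!
# Refinement of sieves and the gluing condition
-/

set_option autoImplicit false

universe v₆ u₆ v₅ u₅ v₄ u₄ v₃ u₃ v₂ u₂ v u

open CategoryTheory FibCat

namespace Groth.Agent.StkRefine

open Groth.Agent.Lib.FibCat_helper6 Groth.Agent.StkLocal

variable {C : Type u} [Category.{v} C] {U : C}

/-- The inclusion of a smaller sieve into a larger one, as a functor over `C`. -/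
def sieveLE {S R : Sieve U} (h : S ≤ R) : Stk.sieveCat S ⥤ᵇ Stk.sieveCat R where
  toFunctor := ObjectProperty.ιOfLE (fun a ha => h _ ha)
  w := rfl

/-- Composition with an arrow of the sieve `R`, as a functor over `C` from the slice. -/
def overToSieve (R : Sieve U) {V : C} (f : V ⟶ U) (hf : R f) : overCat V ⥤ᵇ Stk.sieveCat R where
  toFunctor := ObjectProperty.lift _ (Over.map f) (fun a => R.downward_closed hf a.hom)
  w := rfl

/-- Composition with `f`, from the pulled-back sieve to the sieve. -/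
def pullbackToSieve (S : Sieve U) {V : C} (f : V ⟶ U) :
    Stk.sieveCat (S.pullback f) ⥤ᵇ Stk.sieveCat S where
  toFunctor := ObjectProperty.lift _ (ObjectProperty.ι _ ⋙ Over.map f) (fun e => e.property)
  w := rfl


section Key

variable {𝒳 : BasedCategory.{v₂, u₂} C} {S R : Sieve U} (hSR : S ≤ R)
  {G G' : Stk.sieveCat R ⥤ᵇ 𝒳}
  (α : (Stk.restr (sieveLE hSR) 𝒳).obj G ⟶ (Stk.restr (sieveLE hSR) 𝒳).obj G')

/-- The component of `α`, with its plain type. -/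
def appS (d : (Stk.sieveCat S).obj) :
    G.obj ((sieveLE hSR).obj d) ⟶ G'.obj ((sieveLE hSR).obj d) := α.toNatTrans.app d

/-- The property characterising the component at `c` of the extension of `α`. -/
def Star (c : (Stk.sieveCat R).obj) (β : G.obj c ⟶ G'.obj c) : Prop :=
  ∀ (d : (Stk.sieveCat S).obj) (u : (sieveLE hSR).obj d ⟶ c),
    G.map u ≫ β = appS hSR α d ≫ G'.map u

lemma map_isHomLift' {𝒜 : BasedCategory.{v₅, u₅} C} (H : 𝒜 ⥤ᵇ 𝒳) {X Y : C} {a b : 𝒜.obj}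
    (f : X ⟶ Y) (φ : a ⟶ b) (h : 𝒜.p.IsHomLift f φ) : 𝒳.p.IsHomLift f (H.map φ) :=
  inferInstance

lemma calc_aux2 {D : Type*} [Category D] {Gd Gc₁ G'c₁ G'c₂ Gc₂ G'd : D}
    (Gu : Gd ⟶ Gc₁) (ξ : Gc₁ ⟶ G'c₁) (G'h : G'c₁ ⟶ G'c₂) (Gh : Gc₁ ⟶ Gc₂) (β₂ : Gc₂ ⟶ G'c₂)
    (αd : Gd ⟶ G'd) (G'u : G'd ⟶ G'c₁) (hfac : ξ ≫ G'h = Gh ≫ β₂)
    (e1 : (Gu ≫ Gh) ≫ β₂ = αd ≫ (G'u ≫ G'h)) :
    (Gu ≫ ξ) ≫ G'h = (αd ≫ G'u) ≫ G'h := by
  rw [Category.assoc, hfac, ← Category.assoc, e1, Category.assoc]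

lemma sieveCat_isHomLift {c c' : (Stk.sieveCat R).obj} (u : c ⟶ c') :
    (Stk.sieveCat R).p.IsHomLift u.hom.left u :=
  IsHomLift.map (R.arrows.diagram) u

include hSR in
lemma star_unique (hfib : IsFibGrpd 𝒳.p)
    (hR : ∀ ⦃V : C⦄ (f : V ⟶ U), R f → Stk.IsPrestackFor (S.pullback f) 𝒳)
    (c : (Stk.sieveCat R).obj) (β β' : G.obj c ⟶ G'.obj c)
    (hβ : 𝒳.p.IsHomLift (𝟙 c.obj.left) β) (hβ' : 𝒳.p.IsHomLift (𝟙 c.obj.left) β')
    (h : Star hSR α c β) (h' : Star hSR α c β') : β = β' := by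
  have hGc : 𝒳.p.obj (G.obj c) = c.obj.left := G.w_obj c
  have hG'c : 𝒳.p.obj (G'.obj c) = c.obj.left := G'.w_obj c
  apply eq_of_locally_eq hfib (S.pullback c.obj.hom) (hR c.obj.hom c.property).2 hGc hG'c β β'
    hβ hβ'
  intro W g hg a' κ hκ
  let d : (Stk.sieveCat S).obj := ⟨Over.mk (g ≫ c.obj.hom), hg⟩
  let u : (sieveLE hSR).obj d ⟶ c := ObjectProperty.homMk (Over.homMk g rfl)
  have hu : (Stk.sieveCat R).p.IsHomLift g u := sieveCat_isHomLift u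
  have hGu : 𝒳.p.IsHomLift g (G.map u) := inferInstance
  have hc : 𝒳.p.IsStronglyCartesian g (G.map u) := isStronglyCartesian_of_isFibGrpd hfib g _
  have hg' : g = 𝟙 W ≫ g := (Category.id_comp g).symm
  let ι := Functor.IsStronglyCartesian.map 𝒳.p g (G.map u) hg' κ
  have hfac : ι ≫ G.map u = κ := Functor.IsStronglyCartesian.fac 𝒳.p g (G.map u) hg' κ
  rw [← hfac, Category.assoc, Category.assoc, h d u, h' d u]

lemma isHomLift_comp_id {𝒴 : Type*} [Category 𝒴] {p : 𝒴 ⥤ C} (R : C) {a b c : 𝒴} (φ : a ⟶ b)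
    (ψ : b ⟶ c) (h1 : p.IsHomLift (𝟙 R) φ) (h2 : p.IsHomLift (𝟙 R) ψ) :
    p.IsHomLift (𝟙 R) (φ ≫ ψ) := inferInstance

lemma calc_aux {D : Type*} [Category D] {Gd Gc Gc₀ G'c₀ G'c Gp G'p G'd : D}
    (Gu : Gd ⟶ Gc) (Gε' : Gc ⟶ Gc₀) (γ₁ : Gc₀ ⟶ G'c₀) (G'ε : G'c₀ ⟶ G'c)
    (Gδ : Gd ⟶ Gp) (GTk : Gp ⟶ Gc₀) (γg : Gp ⟶ G'p) (G'Tk : G'p ⟶ G'c₀)
    (αd : Gd ⟶ G'd) (G'δ : G'd ⟶ G'p) (G'u : G'd ⟶ G'c)
    (h1 : Gu ≫ Gε' = Gδ ≫ GTk) (h2 : GTk ≫ γ₁ = γg ≫ G'Tk) (h3 : Gδ ≫ γg = αd ≫ G'δ)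
    (h4 : G'δ ≫ G'Tk ≫ G'ε = G'u) :
    Gu ≫ Gε' ≫ γ₁ ≫ G'ε = αd ≫ G'u := by
  rw [← h4, ← Category.assoc Gu, h1, Category.assoc, ← Category.assoc GTk, h2, Category.assoc,
    ← Category.assoc Gδ, h3, Category.assoc]

lemma star_exists
    (hR : ∀ ⦃V : C⦄ (f : V ⟶ U), R f → Stk.IsPrestackFor (S.pullback f) 𝒳)
    (c : (Stk.sieveCat R).obj) :
    ∃ β : G.obj c ⟶ G'.obj c, 𝒳.p.IsHomLift (𝟙 c.obj.left) β ∧ Star hSR α c β := by
  have hf : R c.obj.hom := c.property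
  let T : overCat c.obj.left ⥤ᵇ Stk.sieveCat R := overToSieve R c.obj.hom hf
  let pb : Stk.sieveCat (S.pullback c.obj.hom) ⥤ᵇ Stk.sieveCat S := pullbackToSieve S c.obj.hom
  let A : overCat c.obj.left ⥤ᵇ 𝒳 := BasedFunctor.comp T G
  let A' : overCat c.obj.left ⥤ᵇ 𝒳 := BasedFunctor.comp T G'
  let α' : (Stk.resSieve (S.pullback c.obj.hom) 𝒳).obj A ⟶
      (Stk.resSieve (S.pullback c.obj.hom) 𝒳).obj A' :=
    BasedCategory.whiskerLeft pb α
  have hfull : (Stk.resSieve (S.pullback c.obj.hom) 𝒳).Full := (hR c.obj.hom hf).1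
  obtain ⟨γ, hγ⟩ := (Stk.resSieve (S.pullback c.obj.hom) 𝒳).map_surjective α'
  have hγe : ∀ e : (Stk.sieveCat (S.pullback c.obj.hom)).obj,
      γ.toNatTrans.app e.obj = α.toNatTrans.app (pb.obj e) := fun e =>
    congrArg (fun t => t.toNatTrans.app e) hγ
  let c₀ : (Stk.sieveCat R).obj := T.obj (Over.mk (𝟙 c.obj.left))
  have hc₀ : c₀.obj.hom = 𝟙 c.obj.left ≫ c.obj.hom := rfl
  let ε : c₀ ⟶ c := ObjectProperty.homMk (Over.homMk (𝟙 c.obj.left) hc₀.symm)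
  let ε' : c ⟶ c₀ := ObjectProperty.homMk (Over.homMk (𝟙 c.obj.left)
    ((Category.id_comp _).trans (Category.id_comp _)))
  have hεε : ε' ≫ ε = 𝟙 c := by
    apply ObjectProperty.hom_ext
    ext
    change (𝟙 c.obj.left ≫ 𝟙 c.obj.left : c.obj.left ⟶ c.obj.left) = 𝟙 c.obj.left
    exact Category.id_comp _
  have hε : (Stk.sieveCat R).p.IsHomLift (𝟙 c.obj.left) ε := sieveCat_isHomLift ε
  have hε' : (Stk.sieveCat R).p.IsHomLift (𝟙 c.obj.left) ε' := sieveCat_isHomLift ε'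
  refine ⟨G.map ε' ≫ γ.toNatTrans.app (Over.mk (𝟙 c.obj.left)) ≫ G'.map ε, ?_, ?_⟩
  · have h1 : 𝒳.p.IsHomLift (𝟙 c.obj.left) (G.map ε') := inferInstance
    have h2 : 𝒳.p.IsHomLift (𝟙 c.obj.left) (γ.toNatTrans.app (Over.mk (𝟙 c.obj.left))) :=
      Groth.Agent.Lib.FibCatYoneda_helper6.app_isHomLift γ (Over.mk (𝟙 c.obj.left))
    have h3 : 𝒳.p.IsHomLift (𝟙 c.obj.left) (G'.map ε) := inferInstance
    exact isHomLift_comp_id c.obj.left _ _ h1 (isHomLift_comp_id c.obj.left _ _ h2 h3)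
  · intro d u
    have hgf : u.hom.left ≫ c.obj.hom = d.obj.hom := Over.w u.hom
    have hSg : S (u.hom.left ≫ c.obj.hom) := by rw [hgf]; exact d.property
    let e : (Stk.sieveCat (S.pullback c.obj.hom)).obj := ⟨Over.mk u.hom.left, hSg⟩
    have hpbe : (pb.obj e).obj.hom = u.hom.left ≫ c.obj.hom := rfl
    let δ' : d ⟶ pb.obj e := ObjectProperty.homMk (Over.homMk (𝟙 d.obj.left)
      ((Category.id_comp _).trans (hpbe.trans hgf)))
    let k : Over.mk u.hom.left ⟶ Over.mk (𝟙 c.obj.left) :=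
      Over.homMk u.hom.left (Category.comp_id _)
    have hu : u ≫ ε' = (sieveLE hSR).map δ' ≫ T.map k := by
      apply ObjectProperty.hom_ext
      ext
      change u.hom.left ≫ 𝟙 c.obj.left = 𝟙 d.obj.left ≫ u.hom.left
      exact (Category.comp_id _).trans (Category.id_comp _).symm
    have nγ : G.map (T.map k) ≫ γ.toNatTrans.app (Over.mk (𝟙 c.obj.left)) =
        γ.toNatTrans.app (Over.mk u.hom.left) ≫ G'.map (T.map k) := γ.toNatTrans.naturality k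
    have nα : G.map ((sieveLE hSR).map δ') ≫ α.toNatTrans.app (pb.obj e) =
        α.toNatTrans.app d ≫ G'.map ((sieveLE hSR).map δ') := α.toNatTrans.naturality δ'
    have hγe' : γ.toNatTrans.app (Over.mk u.hom.left) = α.toNatTrans.app (pb.obj e) := hγe e
    have h1 : G.map u ≫ G.map ε' = G.map ((sieveLE hSR).map δ') ≫ G.map (T.map k) :=
      (G.map_comp u ε').symm.trans ((congrArg G.map hu).trans (G.map_comp _ _))
    have h4 : G'.map ((sieveLE hSR).map δ') ≫ G'.map (T.map k) ≫ G'.map ε = G'.map u := by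
      have e1 : ((sieveLE hSR).map δ' ≫ T.map k) ≫ ε = u := by
        rw [← hu, Category.assoc, hεε, Category.comp_id]
      have e2 := congrArg G'.map e1
      rw [G'.map_comp, G'.map_comp, Category.assoc] at e2
      exact e2
    exact calc_aux (G.map u) (G.map ε') (γ.toNatTrans.app (Over.mk (𝟙 c.obj.left))) (G'.map ε)
      (G.map ((sieveLE hSR).map δ')) (G.map (T.map k)) (γ.toNatTrans.app (Over.mk u.hom.left))
      (G'.map (T.map k)) (α.toNatTrans.app d) (G'.map ((sieveLE hSR).map δ')) (G'.map u)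
      h1 nγ (hγe' ▸ nα) h4

end Key


section Main

variable {𝒳 : BasedCategory.{v₂, u₂} C} {S R : Sieve U} (hSR : S ≤ R)

lemma restr_sieveLE_faithful (hfib : IsFibGrpd 𝒳.p)
    (hR : ∀ ⦃V : C⦄ (f : V ⟶ U), R f → Stk.IsPrestackFor (S.pullback f) 𝒳) :
    (Stk.restr (sieveLE hSR) 𝒳).Faithful := by
  refine ⟨fun {G G'} β β' h => ?_⟩
  apply BasedNatTrans.homCategory.ext
  ext c
  apply star_unique hSR ((Stk.restr (sieveLE hSR) 𝒳).map β) hfib hR c _ _ (β.isHomLift' c)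
    (β'.isHomLift' c)
  · intro d u
    exact β.toNatTrans.naturality u
  · intro d u
    have hd : ((Stk.restr (sieveLE hSR) 𝒳).map β).toNatTrans.app d =
        β'.toNatTrans.app ((sieveLE hSR).obj d) := congrArg (fun t => t.toNatTrans.app d) h
    have hd' : appS hSR ((Stk.restr (sieveLE hSR) 𝒳).map β) d =
        β'.toNatTrans.app ((sieveLE hSR).obj d) := hd
    change G.map u ≫ β'.toNatTrans.app c =
      appS hSR ((Stk.restr (sieveLE hSR) 𝒳).map β) d ≫ G'.map u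
    rw [hd']
    exact β'.toNatTrans.naturality u

lemma restr_sieveLE_full (hfib : IsFibGrpd 𝒳.p)
    (hR : ∀ ⦃V : C⦄ (f : V ⟶ U), R f → Stk.IsPrestackFor (S.pullback f) 𝒳) :
    (Stk.restr (sieveLE hSR) 𝒳).Full := by
  refine ⟨fun {G G'} α => ?_⟩
  choose β hβ hstar using fun c => star_exists hSR α hR c
  have hnat : ∀ {c₁ c₂ : (Stk.sieveCat R).obj} (h : c₁ ⟶ c₂),
      G.map h ≫ β c₂ = β c₁ ≫ G'.map h := by
    intro c₁ c₂ h
    have hl : (Stk.sieveCat R).p.IsHomLift h.hom.left h := sieveCat_isHomLift h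
    have hG'h : 𝒳.p.IsHomLift h.hom.left (G'.map h) := inferInstance
    have hGh : 𝒳.p.IsHomLift h.hom.left (G.map h) := inferInstance
    have hc : 𝒳.p.IsStronglyCartesian h.hom.left (G'.map h) :=
      isStronglyCartesian_of_isFibGrpd hfib _ _
    have hβ₂ : 𝒳.p.IsHomLift (𝟙 c₂.obj.left) (β c₂) := hβ c₂
    have hcomp : 𝒳.p.IsHomLift h.hom.left (G.map h ≫ β c₂) :=
      IsHomLift.comp_lift_id_right' 𝒳.p h.hom.left (G.map h) c₂.obj.left (β c₂)
    have hh : h.hom.left = 𝟙 c₁.obj.left ≫ h.hom.left := (Category.id_comp _).symm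
    let ξ : G.obj c₁ ⟶ G'.obj c₁ :=
      Functor.IsStronglyCartesian.map 𝒳.p h.hom.left (G'.map h) hh (G.map h ≫ β c₂)
    have hξ : 𝒳.p.IsHomLift (𝟙 c₁.obj.left) ξ :=
      Functor.IsStronglyCartesian.map_isHomLift 𝒳.p h.hom.left (G'.map h) hh (G.map h ≫ β c₂)
    have hfac : ξ ≫ G'.map h = G.map h ≫ β c₂ :=
      Functor.IsStronglyCartesian.fac 𝒳.p h.hom.left (G'.map h) hh (G.map h ≫ β c₂)
    have hξβ : ξ = β c₁ := by
      apply star_unique hSR α hfib hR c₁ ξ (β c₁) hξ (hβ c₁) ?_ (hstar c₁)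
      intro d u
      have hu : (Stk.sieveCat R).p.IsHomLift u.hom.left u := sieveCat_isHomLift u
      have hGu : 𝒳.p.IsHomLift u.hom.left (G.map u) := map_isHomLift' G _ u hu
      have hG'u : 𝒳.p.IsHomLift u.hom.left (G'.map u) := map_isHomLift' G' _ u hu
      have hαd : 𝒳.p.IsHomLift (𝟙 d.obj.left) (appS hSR α d) := α.isHomLift' d
      have l1 : 𝒳.p.IsHomLift u.hom.left (G.map u ≫ ξ) :=
        IsHomLift.comp_lift_id_right' 𝒳.p u.hom.left (G.map u) c₁.obj.left ξ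
      have l2 : 𝒳.p.IsHomLift u.hom.left (appS hSR α d ≫ G'.map u) :=
        IsHomLift.comp_lift_id_left' 𝒳.p d.obj.left (appS hSR α d) u.hom.left (G'.map u)
      apply Functor.IsStronglyCartesian.ext 𝒳.p h.hom.left (G'.map h) u.hom.left
      have e1 : G.map (u ≫ h) ≫ β c₂ = appS hSR α d ≫ G'.map (u ≫ h) :=
        hstar c₂ d (u ≫ h)
      have e1' : (G.map u ≫ G.map h) ≫ β c₂ = appS hSR α d ≫ (G'.map u ≫ G'.map h) := by
        rw [← G.map_comp, ← G'.map_comp]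
        exact e1
      exact calc_aux2 (G.map u) ξ (G'.map h) (G.map h) (β c₂) (appS hSR α d) (G'.map u) hfac e1'
    rw [← hξβ, hfac]
  let βt : G ⟶ G' :=
    { toNatTrans := { app := β, naturality := fun _ _ h => hnat h }
      isHomLift' := fun c => hβ c }
  refine ⟨βt, ?_⟩
  apply BasedNatTrans.homCategory.ext
  ext d
  have h1 := hstar ((sieveLE hSR).obj d) d (𝟙 _)
  have h2 : G.map (𝟙 ((sieveLE hSR).obj d)) = 𝟙 _ := G.map_id _
  have h3 : G'.map (𝟙 ((sieveLE hSR).obj d)) = 𝟙 _ := G'.map_id _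
  rw [h2, h3, Category.id_comp, Category.comp_id] at h1
  exact h1

include hSR in
/-- The refinement lemma: if the gluing functor for `S ≤ R` is an equivalence and `𝒳` is a
prestack for the pullbacks of `S` along the arrows of `R`, the gluing functor for `R` is an
equivalence. -/
theorem isStackFor_of_refine (hfib : IsFibGrpd 𝒳.p) (hS : Stk.IsStackFor S 𝒳)
    (hR : ∀ ⦃V : C⦄ (f : V ⟶ U), R f → Stk.IsPrestackFor (S.pullback f) 𝒳) :
    Stk.IsStackFor R 𝒳 := by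
  have hSe : (Stk.resSieve S 𝒳).IsEquivalence := hS
  have f1 := restr_sieveLE_faithful hSR hfib hR
  have f2 := restr_sieveLE_full hSR hfib hR
  let e : Stk.resSieve R 𝒳 ⋙ Stk.restr (sieveLE hSR) 𝒳 ≅ Stk.resSieve S 𝒳 :=
    NatIso.ofComponents (fun H => Iso.refl _) (by
      intro H H' θ
      apply BasedNatTrans.homCategory.ext
      ext d
      change θ.toNatTrans.app _ ≫ 𝟙 _ = 𝟙 _ ≫ θ.toNatTrans.app _
      simp)
  have hess : (Stk.restr (sieveLE hSR) 𝒳).EssSurj := by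
    refine ⟨fun Z => ?_⟩
    exact ⟨(Stk.resSieve R 𝒳).obj ((Stk.resSieve S 𝒳).objPreimage Z),
      ⟨e.app _ ≪≫ (Stk.resSieve S 𝒳).objObjPreimageIso Z⟩⟩
  have heq : (Stk.restr (sieveLE hSR) 𝒳).IsEquivalence := { }
  have hcomp : (Stk.resSieve R 𝒳 ⋙ Stk.restr (sieveLE hSR) 𝒳).IsEquivalence :=
    Functor.isEquivalence_of_iso e.symm
  change (Stk.resSieve R 𝒳).IsEquivalence
  exact Functor.isEquivalence_of_comp_right _ (Stk.restr (sieveLE hSR) 𝒳)

end Main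

end Groth.Agent.StkRefine
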