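import Mathlib
import Groth.Prelude.Def_AlgSt
import Groth.Agent.Lib.StkPsh_helper9
import Groth.Agent.Lib.StkEquiv_helper9

/-!
# The slice category is the category over `C` of the representable presheaf
-/

set_option autoImplicit false

universe v u

open CategoryTheory FibCat Opposite

namespace Groth.Agent.StkRep

open Groth.Agent.Lib.FibCat3_helper6

variable {C : Type u} [Category.{v} C] (U : C)

/-- The comparison functor `C/U ⟶ ofPsh h_U` over `C`. -/
def toPsh : overCat U ⥤ᵇ Stk.ofPsh (yoneda.obj U) where
  toFunctor :=
    { obj := fun a => ⟨a.left, a.hom⟩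
      map := fun {a b} f => ⟨f.left, Over.w f⟩
      map_id := fun a => Stk.EltObj.hom_ext rfl
      map_comp := fun f g => Stk.EltObj.hom_ext rfl }
  w := rfl

instance : (toPsh U).toFunctor.Faithful where
  map_injective := by
    intro a b f g h
    apply Over.OverMorphism.ext
    exact congrArg Stk.EltObj.Hom.hom h

instance : (toPsh U).toFunctor.Full where
  map_surjective := by
    intro a b m
    exact ⟨Over.homMk m.hom m.map_sec, Stk.EltObj.hom_ext rfl⟩

theorem isEquivOver_toPsh : IsEquivOver (toPsh U) := by
  apply isEquivOver_of_fullyFaithful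
  intro y
  refine ⟨Over.mk y.sec, Iso.refl _, ?_⟩
  exact IsHomLift.id rfl

theorem isStack_overCat_iff (J : GrothendieckTopology C) :
    Stk.IsStack J (overCat U) ↔ Presieve.IsSheaf J (yoneda.obj U) :=
  (Groth.Agent.StkEquiv.isStack_iff J (isEquivOver_toPsh U)).trans
    (Groth.Agent.StkPsh.isStack_ofPsh_iff (yoneda.obj U) J)

end Groth.Agent.StkRep
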