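import Mathlib
import Groth.Prelude.Def_AlgSt
import Groth.Agent.Lib.StkLocEss_helper9
import Groth.Agent.Lib.StkTop_helper9

/-!
# Full subcategories of stacks in groupoids
-/

set_option autoImplicit false

universe v₆ u₆ v₅ u₅ v₄ u₄ v₃ u₃ v₂ u₂ v u

open CategoryTheory FibCat

namespace Groth.Agent.StkSub

open Groth.Agent.StkEquiv Groth.Agent.StkLocEss
open Groth.Agent.Lib.FibCat_helper6 Groth.Agent.Lib.FibCat3_helper6 Groth.Agent.Lib.FibCat4_helper6

section General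

variable {C : Type u} [Category.{v} C] {𝒳' : Type u₃} [Category.{v₃} 𝒳'] {𝒳 : Type u₂}
  [Category.{v₂} 𝒳] (F : 𝒳' ⥤ 𝒳) (p : 𝒳 ⥤ C)

lemma isHomLift_comp_of_map {R S : C} {a b : 𝒳'} (f : R ⟶ S) (φ : a ⟶ b)
    [p.IsHomLift f (F.map φ)] : (F ⋙ p).IsHomLift f φ :=
  IsHomLift.of_commSq (F ⋙ p) f φ (IsHomLift.domain_eq p f (F.map φ))
    (IsHomLift.codomain_eq p f (F.map φ)) (IsHomLift.commSq p f (F.map φ))

/-- A fully faithful functor into a category fibred in groupoids, along which lifts exist, makes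
the source fibred in groupoids. -/
theorem isFibGrpd_comp_of_fullyFaithful [F.Full] [F.Faithful] (hp : IsFibGrpd p)
    (hl : ∀ {x : 𝒳'} {V : C} (f : V ⟶ p.obj (F.obj x)),
      ∃ (y : 𝒳') (φ : y ⟶ x), p.IsHomLift f (F.map φ)) :
    IsFibGrpd (F ⋙ p) := by
  refine ⟨fun {x V} f => ?_, fun {y x} φ => ?_⟩
  · obtain ⟨y, φ, hφ⟩ := hl (x := x) f
    exact ⟨y, φ, isHomLift_comp_of_map F p f φ⟩
  · refine { toIsHomLift := inferInstance, universal_property' := ?_ }
    intro a' g φ' hφ'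
    have hc : p.IsStronglyCartesian (p.map (F.map φ)) (F.map φ) := hp.isStronglyCartesian _
    have h0 : p.IsHomLift (g ≫ (F ⋙ p).map φ) (F.map φ') :=
      Groth.Agent.StkTop.isHomLift_map_of_comp p F _ φ'
    have h1 : p.IsHomLift (g ≫ p.map (F.map φ)) (F.map φ') := h0
    let χ₀ : F.obj a' ⟶ F.obj y :=
      Functor.IsStronglyCartesian.map p (p.map (F.map φ)) (F.map φ) (g := g) rfl (F.map φ')
    have hχ₀ : p.IsHomLift g χ₀ :=
      Functor.IsStronglyCartesian.map_isHomLift p (p.map (F.map φ)) (F.map φ) rfl (F.map φ')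
    have eχ₀ : χ₀ ≫ F.map φ = F.map φ' :=
      Functor.IsStronglyCartesian.fac p (p.map (F.map φ)) (F.map φ) rfl (F.map φ')
    refine ⟨F.preimage χ₀, ⟨?_, ?_⟩, ?_⟩
    · have : p.IsHomLift g (F.map (F.preimage χ₀)) := by rw [F.map_preimage]; exact hχ₀
      exact isHomLift_comp_of_map F p g _
    · apply F.map_injective
      rw [F.map_comp, F.map_preimage, eχ₀]
    · rintro χ' ⟨k1, k2⟩
      apply F.map_injective
      rw [F.map_preimage]
      have : p.IsHomLift g (F.map χ') := Groth.Agent.StkTop.isHomLift_map_of_comp p F g χ'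
      exact Functor.IsStronglyCartesian.map_uniq p (p.map (F.map φ)) (F.map φ) rfl (F.map φ')
        (F.map χ') (by rw [← F.map_comp, k2])

end General

section Post

variable {C : Type u} [Category.{v} C] {𝒜 : BasedCategory.{v₅, u₅} C}
  {𝒳 : BasedCategory.{v₂, u₂} C} {𝒴 : BasedCategory.{v₃, u₃} C} (F : 𝒳 ⥤ᵇ 𝒴)

lemma post_faithful [F.toFunctor.Faithful] : (post 𝒜 F).Faithful := by
  refine ⟨fun {H H'} α β h => ?_⟩
  apply BasedNatTrans.homCategory.ext
  ext a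
  apply F.toFunctor.map_injective
  exact congrArg (fun t => t.toNatTrans.app a) h

lemma post_full [F.toFunctor.Full] [F.toFunctor.Faithful] : (post 𝒜 F).Full := by
  refine ⟨fun {H H'} γ => ?_⟩
  have hnat : ∀ {a b : 𝒜.obj} (g : a ⟶ b),
      F.map (H.map g) ≫ γ.toNatTrans.app b = γ.toNatTrans.app a ≫ F.map (H'.map g) :=
    fun g => γ.toNatTrans.naturality g
  let α : H ⟶ H' :=
    { toNatTrans :=
        { app := fun a => F.toFunctor.preimage (γ.toNatTrans.app a)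
          naturality := fun a b g => by
            apply F.toFunctor.map_injective
            rw [Functor.map_comp, Functor.map_comp, Functor.map_preimage, Functor.map_preimage]
            exact hnat g }
      isHomLift' := fun a => by
        have h1 : 𝒴.p.IsHomLift (𝟙 (𝒜.p.obj a)) (γ.toNatTrans.app a) := γ.isHomLift' a
        have h2 : 𝒴.p.IsHomLift (𝟙 (𝒜.p.obj a))
            (F.map (F.toFunctor.preimage (γ.toNatTrans.app a))) := by
          rw [show F.map (F.toFunctor.preimage (γ.toNatTrans.app a)) = γ.toNatTrans.app a from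
            F.toFunctor.map_preimage _]
          exact h1
        exact BasedFunctor.isHomLift_map F _ _ }
  refine ⟨α, ?_⟩
  apply BasedNatTrans.homCategory.ext
  ext a
  exact F.toFunctor.map_preimage _

end Post

section Sub

variable {C : Type u} [Category.{v} C] (J : GrothendieckTopology C)
  {𝒳 : BasedCategory.{v₂, u₂} C} (Q : ObjectProperty 𝒳.obj)

/-- The full subcategory on `Q` as a category over `C`. -/
abbrev sub : BasedCategory.{v₂, u₂} C := BasedCategory.ofFunctor (Q.ι ⋙ 𝒳.p)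

/-- The inclusion of the full subcategory, a functor over `C`. -/
def subι : sub Q ⥤ᵇ 𝒳 where
  toFunctor := Q.ι
  w := rfl

instance : (subι Q).toFunctor.Full := Q.full_ι
instance : (subι Q).toFunctor.Faithful := Q.faithful_ι

theorem isStack_sub (h𝒳 : Stk.IsStack J 𝒳)
    (h1 : ∀ ⦃y x : 𝒳.obj⦄ (_ : y ⟶ x), Q x →
      ∃ (y' : 𝒳.obj) (e : y ≅ y'), Q y' ∧ 𝒳.p.IsHomLift (𝟙 (𝒳.p.obj y)) e.hom)
    (h3 : ∀ ⦃U : C⦄ (R : Sieve U), R ∈ J U → ∀ (x : 𝒳.obj), 𝒳.p.obj x = U →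
      (∀ ⦃V : C⦄ (f : V ⟶ U), R f → ∀ (y : 𝒳.obj) (φ : y ⟶ x), 𝒳.p.IsHomLift f φ →
        ∃ (y' : 𝒳.obj) (e : y ≅ y'), Q y' ∧ 𝒳.p.IsHomLift (𝟙 V) e.hom) →
      ∃ (x' : 𝒳.obj) (e : x ≅ x'), Q x' ∧ 𝒳.p.IsHomLift (𝟙 U) e.hom) :
    Stk.IsStack J (sub Q) := by
  obtain ⟨hfib, hst⟩ := h𝒳
  have hfibQ : IsFibGrpd (Q.ι ⋙ 𝒳.p) := by
    apply isFibGrpd_comp_of_fullyFaithful Q.ι 𝒳.p hfib
    intro x V f
    obtain ⟨y, φ, hφ⟩ := hfib.exists_lift (x := x.obj) f
    obtain ⟨y', e, hQ, he⟩ := h1 φ x.property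
    have hdom : 𝒳.p.obj y = V := IsHomLift.domain_eq 𝒳.p f φ
    subst hdom
    have he' : 𝒳.p.IsHomLift (𝟙 (𝒳.p.obj y)) e.inv := IsHomLift.lift_id_inv 𝒳.p _ e
    refine ⟨⟨y', hQ⟩, ObjectProperty.homMk (e.inv ≫ φ), ?_⟩
    change 𝒳.p.IsHomLift f (e.inv ≫ φ)
    exact IsHomLift.comp_lift_id_left' 𝒳.p (𝒳.p.obj y) e.inv f φ
  refine ⟨hfibQ, fun U R hR => ?_⟩
  have hst' : (Stk.resSieve R 𝒳).IsEquivalence := hst R hR
  have pf𝒜 : (post (Stk.sieveCat R) (subι Q)).Faithful := post_faithful (subι Q)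
  have pF𝒜 : (post (Stk.sieveCat R) (subι Q)).Full := post_full (subι Q)
  have pfℬ : (post (overCat U) (subι Q)).Faithful := post_faithful (subι Q)
  have pFℬ : (post (overCat U) (subι Q)).Full := post_full (subι Q)
  let e := restrPost (Stk.sieveIncl R) (subι Q)
  have hfaith : (Stk.resSieve R (sub Q)).Faithful := by
    have : (Stk.resSieve R (sub Q) ⋙ post _ (subι Q)).Faithful := Functor.Faithful.of_iso e.symm
    exact Functor.Faithful.of_comp (Stk.resSieve R (sub Q)) (post _ (subι Q))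
  have hfull : (Stk.resSieve R (sub Q)).Full := by
    have : (Stk.resSieve R (sub Q) ⋙ post _ (subι Q)).Full := Functor.Full.of_iso e.symm
    exact Functor.Full.of_comp_faithful (Stk.resSieve R (sub Q)) (post _ (subι Q))
  have hess : (Stk.resSieve R (sub Q)).EssSurj := by
    refine ⟨fun G => ?_⟩
    obtain ⟨H, ⟨eH⟩⟩ : ∃ H, Nonempty ((Stk.resSieve R 𝒳).obj H ≅ (post _ (subι Q)).obj G) :=
      ⟨_, ⟨(Stk.resSieve R 𝒳).objObjPreimageIso _⟩⟩
    let x₀ : 𝒳.obj := H.obj (Over.mk (𝟙 U))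
    have hx₀ : 𝒳.p.obj x₀ = U := H.w_obj (Over.mk (𝟙 U))
    obtain ⟨x', e', hQ', he'⟩ := h3 R hR x₀ hx₀ (by
      intro V f hf y φ hφ
      let a : (Stk.sieveCat R).obj := ⟨Over.mk f, hf⟩
      let m : Over.mk f ⟶ Over.mk (𝟙 U) := Over.homMk f
      have hm : (overCat U).p.IsHomLift f m := by
        change (Over.forget U).IsHomLift ((Over.forget U).map m) m
        infer_instance
      have hHm : 𝒳.p.IsHomLift f (H.map m) := inferInstance
      have c1 : 𝒳.p.IsStronglyCartesian f φ := isStronglyCartesian_of_isFibGrpd hfib f φ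
      have c2 : 𝒳.p.IsStronglyCartesian f (H.map m) :=
        isStronglyCartesian_of_isFibGrpd hfib f (H.map m)
      let i1 : y ≅ H.obj (Over.mk f) := Functor.IsCartesian.domainUniqueUpToIso 𝒳.p f (H.map m) φ
      have hi1 : 𝒳.p.IsHomLift (𝟙 V) i1.hom := inferInstance
      let i2 : H.obj (Over.mk f) ≅ (G.obj a).obj := appIso eH a
      have hi2 : 𝒳.p.IsHomLift (𝟙 V) i2.hom := appIso_isHomLift eH a rfl
      refine ⟨(G.obj a).obj, i1 ≪≫ i2, (G.obj a).property, ?_⟩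
      exact IsHomLift.comp_lift_id_left' 𝒳.p V i1.hom (𝟙 V) i2.hom)
    have hpt : ∀ a : (overCat U).obj, ∃ (x : (sub Q).obj) (ε : (subι Q).obj x ≅ H.obj a),
        𝒳.p.IsHomLift (𝟙 ((overCat U).p.obj a)) ε.hom := by
      intro a
      let m : a ⟶ Over.mk (𝟙 U) := Over.homMk a.hom
      obtain ⟨y', e'', hQ'', he''⟩ := h1 (H.map m ≫ e'.hom) hQ'
      have hobj : 𝒳.p.obj (H.obj a) = (overCat U).p.obj a := H.w_obj a
      rw [hobj] at he''
      exact ⟨⟨y', hQ''⟩, e''.symm, IsHomLift.lift_id_inv 𝒳.p _ e''⟩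
    obtain ⟨K, ⟨eK⟩⟩ := exists_factor (subι Q) H hpt
    let iso : (post _ (subι Q)).obj ((Stk.resSieve R (sub Q)).obj K) ≅ (post _ (subι Q)).obj G :=
      e.app K ≪≫ (Stk.resSieve R 𝒳).mapIso eK ≪≫ eH
    exact ⟨K, ⟨(post _ (subι Q)).preimageIso iso⟩⟩
  change (Stk.resSieve R (sub Q)).IsEquivalence
  exact { }

end Sub

end Groth.Agent.StkSub
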