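import Mathlib
import Groth.Prelude.Def_W4stkalgstUpp
import Groth.Prelude.Def_FibCat2

/-!
# The localisation `u_p 𝒮` of `u_pp 𝒮` (lead)

Right calculus of fractions for `Stk.uppR`, and fibredness of `Stk.up` over `D`.
-/

set_option autoImplicit false
set_option linter.unusedSimpArgs false
set_option linter.unusedVariables false
set_option linter.unusedSectionVars false
set_option linter.style.longLine false
set_option linter.unnecessarySimpa false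
set_option linter.style.haveILetI false
set_option maxHeartbeats 1600000
set_option backward.isDefEq.respectTransparency false
set_option backward.isDefEq.respectTransparency.types false
set_option backward.defeqAttrib.useBackward true

universe v₃ u₃ v₂ u₂ v u w₁ w₂

open CategoryTheory CategoryTheory.Limits CategoryTheory.Functor

namespace Groth.Agent.Lib.StkUp

open Stk

section generic

variable {D : Type u₂} [Category.{v₂} D] {𝒳 : Type w₁} [Category.{w₂} 𝒳]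

theorem sc_map (p : 𝒳 ⥤ D) {R S : D} (f : R ⟶ S) {a b : 𝒳}
    (φ : a ⟶ b) [p.IsStronglyCartesian f φ] : p.IsStronglyCartesian (p.map φ) φ := by
  subst_hom_lift p f φ
  infer_instance

theorem sc_comp_of_eq (p : 𝒳 ⥤ D) {R S T : D} {a b c : 𝒳} (f : R ⟶ S) (g : S ⟶ T) (k : R ⟶ T)
    (hk : k = f ≫ g) (φ : a ⟶ b) (ψ : b ⟶ c) (χ : a ⟶ c) (hχ : χ = φ ≫ ψ)
    (h1 : p.IsStronglyCartesian f φ) (h2 : p.IsStronglyCartesian g ψ) :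
    p.IsStronglyCartesian k χ := by
  subst hk hχ
  infer_instance

theorem sc_of_isIso_map (p : 𝒳 ⥤ D) {a b : 𝒳} (e : a ⟶ b) [IsIso e] :
    p.IsStronglyCartesian (p.map e) e := by
  haveI : p.IsHomLift (p.map e) e := IsHomLift.map p e
  infer_instance

theorem sc_of_isFibGrpd {p : 𝒳 ⥤ D} (h : FibCat.IsFibGrpd p) {R S : D} (f : R ⟶ S) {a b : 𝒳}
    (φ : a ⟶ b) [p.IsHomLift f φ] : p.IsStronglyCartesian f φ := by
  subst_hom_lift p f φ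
  exact h.isStronglyCartesian φ

theorem isFibered_of_isFibGrpd' {p : 𝒳 ⥤ D} (h : FibCat.IsFibGrpd p) : p.IsFibered := by
  apply Functor.IsFibered.of_exists_isStronglyCartesian
  intro a R f
  obtain ⟨y, φ, hφ⟩ := h.exists_lift f
  exact ⟨y, φ, sc_of_isFibGrpd h f φ⟩

end generic

variable {C : Type u} [Category.{v} C] {D : Type u₂} [Category.{v₂} D] (u : C ⥤ D)
  (𝒮 : BasedCategory.{v₃, u₃} C)

theorem uppR_id (a : UppObj u 𝒮) : uppR u 𝒮 (𝟙 a) := by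
  refine ⟨?_, ?_⟩
  · show 𝒮.p.IsStronglyCartesian (𝒮.p.map (𝟙 a.x)) (𝟙 a.x)
    exact sc_of_isIso_map 𝒮.p (𝟙 a.x)
  · show IsIso (𝟙 a.V)
    infer_instance

theorem uppR_comp {a b c : UppObj u 𝒮} (f : a ⟶ b) (g : b ⟶ c) (hf : uppR u 𝒮 f)
    (hg : uppR u 𝒮 g) : uppR u 𝒮 (f ≫ g) := by
  obtain ⟨hf1, hf2⟩ := hf
  obtain ⟨hg1, hg2⟩ := hg
  refine ⟨?_, ?_⟩
  · show 𝒮.p.IsStronglyCartesian (𝒮.p.map (f.top ≫ g.top)) (f.top ≫ g.top)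
    exact sc_comp_of_eq 𝒮.p _ _ _ (Functor.map_comp _ _ _) f.top g.top _ rfl hf1 hg1
  · show IsIso (f.bot ≫ g.bot)
    infer_instance

instance uppR_isMultiplicative : (uppR u 𝒮).IsMultiplicative where
  id_mem a := uppR_id u 𝒮 a
  comp_mem f g hf hg := uppR_comp u 𝒮 f g hf hg

variable {u 𝒮}

theorem ore_aux {a b c : UppObj u 𝒮} (f : a ⟶ c) (s : b ⟶ c) (hs : uppR u 𝒮 s)
    (x' : 𝒮.obj) (τ : x' ⟶ a.x) (hτ : 𝒮.p.IsStronglyCartesian (𝒮.p.map τ) τ)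
    (π₂ : 𝒮.p.obj x' ⟶ 𝒮.p.obj b.x)
    (hw : 𝒮.p.map τ ≫ 𝒮.p.map f.top = π₂ ≫ 𝒮.p.map s.top)
    (hU : IsPullback (u.map (𝒮.p.map τ)) (u.map π₂) (u.map (𝒮.p.map f.top))
      (u.map (𝒮.p.map s.top))) :
    ∃ (a' : UppObj u 𝒮) (t : a' ⟶ a) (g : a' ⟶ b), uppR u 𝒮 t ∧ t ≫ f = g ≫ s := by
  obtain ⟨hs1, hs2⟩ := hs
  haveI : 𝒮.p.IsStronglyCartesian (𝒮.p.map s.top) s.top := hs1
  haveI : IsIso s.bot := hs2
  have hf' : 𝒮.p.map (τ ≫ f.top) = π₂ ≫ 𝒮.p.map s.top := by rw [Functor.map_comp, hw]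
  let gtop : x' ⟶ b.x :=
    IsStronglyCartesian.map 𝒮.p (𝒮.p.map s.top) s.top hf' (τ ≫ f.top)
  have hg1 : gtop ≫ s.top = τ ≫ f.top :=
    IsStronglyCartesian.fac 𝒮.p (𝒮.p.map s.top) s.top hf' (τ ≫ f.top)
  have hg2 : 𝒮.p.map gtop = π₂ := by
    haveI : 𝒮.p.IsHomLift π₂ gtop :=
      IsStronglyCartesian.map_isHomLift 𝒮.p (𝒮.p.map s.top) s.top hf' (τ ≫ f.top)
    exact (IsHomLift.eq_of_isHomLift 𝒮.p π₂ gtop).symm
  have hw' : a.φ ≫ u.map (𝒮.p.map f.top) =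
      (f.bot ≫ inv s.bot ≫ b.φ) ≫ u.map (𝒮.p.map s.top) := by
    rw [f.w]
    simp only [Category.assoc]
    rw [s.w, IsIso.inv_hom_id_assoc]
  let a' : UppObj u 𝒮 := ⟨x', a.V, hU.lift a.φ (f.bot ≫ inv s.bot ≫ b.φ) hw'⟩
  let t : a' ⟶ a := ⟨τ, 𝟙 a.V, by
    show hU.lift _ _ hw' ≫ u.map (𝒮.p.map τ) = 𝟙 a.V ≫ a.φ
    rw [hU.lift_fst, Category.id_comp]⟩
  let g : a' ⟶ b := ⟨gtop, f.bot ≫ inv s.bot, by
    show hU.lift _ _ hw' ≫ u.map (𝒮.p.map gtop) = (f.bot ≫ inv s.bot) ≫ b.φ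
    rw [hg2, hU.lift_snd, Category.assoc]⟩
  refine ⟨a', t, g, ⟨hτ, ?_⟩, ?_⟩
  · show IsIso (𝟙 a.V)
    infer_instance
  · apply UppObj.hom_ext
    · show τ ≫ f.top = gtop ≫ s.top
      exact hg1.symm
    · show 𝟙 a.V ≫ f.bot = (f.bot ≫ inv s.bot) ≫ s.bot
      simp

variable (u 𝒮)

theorem main12812 [𝒮.p.IsFibered]
    (hC : ∀ (I : Type) [SmallCategory I] [FinCategory I], Nonempty I → HasLimitsOfShape I C)
    (hu : ∀ (I : Type) [SmallCategory I] [FinCategory I], Nonempty I → PreservesLimitsOfShape I u) :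
    (uppR u 𝒮).HasRightCalculusOfFractions := by
  haveI : HasLimitsOfShape WalkingCospan C := hC WalkingCospan ⟨WalkingCospan.one⟩
  haveI : PreservesLimitsOfShape WalkingCospan u := hu WalkingCospan ⟨WalkingCospan.one⟩
  haveI : HasLimitsOfShape WalkingParallelPair C :=
    hC WalkingParallelPair ⟨WalkingParallelPair.zero⟩
  haveI : PreservesLimitsOfShape WalkingParallelPair u :=
    hu WalkingParallelPair ⟨WalkingParallelPair.zero⟩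
  refine { exists_rightFraction := ?_, ext := ?_ }
  · intro a b φ
    obtain ⟨P, π₁, π₂, hpb⟩ : ∃ (P : C) (π₁ : P ⟶ 𝒮.p.obj a.x) (π₂ : P ⟶ 𝒮.p.obj b.x),
        IsPullback π₁ π₂ (𝒮.p.map φ.f.top) (𝒮.p.map φ.s.top) :=
      ⟨_, _, _, IsPullback.of_hasPullback _ _⟩
    obtain ⟨x', τ, hτ⟩ := IsPreFibered.exists_isCartesian' (p := 𝒮.p) (a := a.x) π₁
    have hdom : 𝒮.p.obj x' = P := IsHomLift.domain_eq 𝒮.p π₁ τ
    subst hdom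
    have hπ : π₁ = 𝒮.p.map τ := IsHomLift.eq_of_isHomLift 𝒮.p π₁ τ
    subst hπ
    have hτ' : 𝒮.p.IsStronglyCartesian (𝒮.p.map τ) τ := inferInstance
    have hU := hpb.map u
    obtain ⟨a', t, g, ht, hfac⟩ := ore_aux φ.f φ.s φ.hs x' τ hτ' π₂ hpb.w hU
    exact ⟨⟨t, ht, g⟩, hfac⟩
  · intro a b c f₁ f₂ s hs h
    obtain ⟨hs1, hs2⟩ := hs
    haveI : IsIso s.bot := hs2
    haveI : 𝒮.p.IsStronglyCartesian (𝒮.p.map s.top) s.top := hs1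
    have hbot : f₁.bot = f₂.bot := by
      have h1 := congrArg UppObj.Hom.bot h
      change f₁.bot ≫ s.bot = f₂.bot ≫ s.bot at h1
      exact (cancel_mono s.bot).1 h1
    have htop : f₁.top ≫ s.top = f₂.top ≫ s.top := by
      have h1 := congrArg UppObj.Hom.top h
      exact h1
    obtain ⟨E, ι, wι, ⟨hE⟩⟩ : ∃ (E : C) (ι : E ⟶ 𝒮.p.obj a.x)
        (w : ι ≫ 𝒮.p.map f₁.top = ι ≫ 𝒮.p.map f₂.top), Nonempty (IsLimit (Fork.ofι ι w)) :=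
      ⟨_, equalizer.ι _ _, equalizer.condition _ _, ⟨equalizerIsEqualizer _ _⟩⟩
    obtain ⟨x', τ, hτ⟩ := IsPreFibered.exists_isCartesian' (p := 𝒮.p) (a := a.x) ι
    have hdom : 𝒮.p.obj x' = E := IsHomLift.domain_eq 𝒮.p ι τ
    subst hdom
    have hι : ι = 𝒮.p.map τ := IsHomLift.eq_of_isHomLift 𝒮.p ι τ
    subst hι
    have hτ' : 𝒮.p.IsStronglyCartesian (𝒮.p.map τ) τ := inferInstance
    have hUE := isLimitForkMapOfIsLimit u wι hE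
    have hφ : a.φ ≫ u.map (𝒮.p.map f₁.top) = a.φ ≫ u.map (𝒮.p.map f₂.top) := by
      rw [f₁.w, f₂.w, hbot]
    obtain ⟨φ', hφ'⟩ := Fork.IsLimit.lift' hUE a.φ hφ
    simp only [Fork.ι_ofι] at hφ'
    let a' : UppObj u 𝒮 := ⟨x', a.V, φ'⟩
    let t : a' ⟶ a := ⟨τ, 𝟙 a.V, by
      show φ' ≫ u.map (𝒮.p.map τ) = 𝟙 a.V ≫ a.φ
      rw [hφ', Category.id_comp]⟩
    refine ⟨a', t, ⟨hτ', ?_⟩, ?_⟩
    · show IsIso (𝟙 a.V)
      infer_instance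
    · apply UppObj.hom_ext
      · show τ ≫ f₁.top = τ ≫ f₂.top
        have h1 : 𝒮.p.map (τ ≫ f₂.top) = 𝒮.p.map (τ ≫ f₁.top) := by
          rw [Functor.map_comp, Functor.map_comp, wι]
        haveI : 𝒮.p.IsHomLift (𝒮.p.map (τ ≫ f₁.top)) (τ ≫ f₂.top) := by
          rw [← h1]; infer_instance
        exact IsStronglyCartesian.ext 𝒮.p (𝒮.p.map s.top) s.top (𝒮.p.map (τ ≫ f₁.top))
          (by rw [Category.assoc, Category.assoc, htop])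
      · show 𝟙 a.V ≫ f₁.bot = 𝟙 a.V ≫ f₂.bot
        rw [hbot]

/-- The structure functor of `u_p 𝒮`. -/
noncomputable abbrev PP : (uppR u 𝒮).Localization ⥤ D :=
  Localization.Construction.lift (UppObj.forget u 𝒮) (uppR_isInvertedBy u 𝒮)

theorem PP_map_Q {a b : UppObj u 𝒮} (f : a ⟶ b) :
    (PP u 𝒮).map ((uppR u 𝒮).Q.map f) = f.bot := by
  have h := Functor.congr_hom
    (Localization.Construction.fac (UppObj.forget u 𝒮) (uppR_isInvertedBy u 𝒮)) f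
  simp only [Functor.comp_map, eqToHom_refl, Category.id_comp, Category.comp_id,
    UppObj.forget_map] at h
  exact h

variable {u 𝒮}

/-- the standard lift of `h : V' ⟶ a.V` -/
abbrev liftObj (a : UppObj u 𝒮) {V' : D} (h : V' ⟶ a.V) : UppObj u 𝒮 := ⟨a.x, V', h ≫ a.φ⟩

abbrev liftHom (a : UppObj u 𝒮) {V' : D} (h : V' ⟶ a.V) : liftObj a h ⟶ a :=
  ⟨𝟙 a.x, h, by simp⟩

theorem uniq_aux [(uppR u 𝒮).HasRightCalculusOfFractions] (a : UppObj u 𝒮) {V' : D}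
    (h : V' ⟶ a.V) (b : UppObj u 𝒮)
    (χ₁ χ₂ : (uppR u 𝒮).Q.obj b ⟶ (uppR u 𝒮).Q.obj (liftObj a h))
    (hP : (PP u 𝒮).map χ₁ = (PP u 𝒮).map χ₂)
    (hc : χ₁ ≫ (uppR u 𝒮).Q.map (liftHom a h) = χ₂ ≫ (uppR u 𝒮).Q.map (liftHom a h)) :
    χ₁ = χ₂ := by
  obtain ⟨ρ₁, hρ₁⟩ := Localization.exists_rightFraction (uppR u 𝒮).Q (uppR u 𝒮) χ₁
  obtain ⟨ρ₂, hρ₂⟩ := Localization.exists_rightFraction (uppR u 𝒮).Q (uppR u 𝒮) χ₂
  have e₁ : (uppR u 𝒮).Q.map ρ₁.s ≫ χ₁ = (uppR u 𝒮).Q.map ρ₁.f := by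
    rw [hρ₁]; exact ρ₁.map_s_comp_map _ _
  have e₂ : (uppR u 𝒮).Q.map ρ₂.s ≫ χ₂ = (uppR u 𝒮).Q.map ρ₂.f := by
    rw [hρ₂]; exact ρ₂.map_s_comp_map _ _
  obtain ⟨ψ, hψ0⟩ := (MorphismProperty.LeftFraction.mk ρ₁.s ρ₂.s ρ₂.hs).exists_rightFraction
  have hψ : ψ.s ≫ ρ₁.s = ψ.f ≫ ρ₂.s := hψ0
  have hσ : uppR u 𝒮 (ψ.s ≫ ρ₁.s) := (uppR u 𝒮).comp_mem _ _ ψ.hs ρ₁.hs
  haveI : IsIso ((uppR u 𝒮).Q.map (ψ.s ≫ ρ₁.s)) :=
    Localization.inverts (uppR u 𝒮).Q (uppR u 𝒮) _ hσ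
  have E₁ : (uppR u 𝒮).Q.map (ψ.s ≫ ρ₁.s) ≫ χ₁ = (uppR u 𝒮).Q.map (ψ.s ≫ ρ₁.f) := by
    rw [(uppR u 𝒮).Q.map_comp ψ.s ρ₁.s, Category.assoc, e₁, ← (uppR u 𝒮).Q.map_comp]
  have E₂ : (uppR u 𝒮).Q.map (ψ.s ≫ ρ₁.s) ≫ χ₂ = (uppR u 𝒮).Q.map (ψ.f ≫ ρ₂.f) := by
    rw [hψ, (uppR u 𝒮).Q.map_comp ψ.f ρ₂.s, Category.assoc, e₂, ← (uppR u 𝒮).Q.map_comp]
  have hk : (uppR u 𝒮).Q.map ((ψ.s ≫ ρ₁.f) ≫ liftHom a h) =
      (uppR u 𝒮).Q.map ((ψ.f ≫ ρ₂.f) ≫ liftHom a h) := by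
    calc (uppR u 𝒮).Q.map ((ψ.s ≫ ρ₁.f) ≫ liftHom a h)
        = (uppR u 𝒮).Q.map (ψ.s ≫ ρ₁.f) ≫ (uppR u 𝒮).Q.map (liftHom a h) :=
          (uppR u 𝒮).Q.map_comp _ _
      _ = ((uppR u 𝒮).Q.map (ψ.s ≫ ρ₁.s) ≫ χ₁) ≫ (uppR u 𝒮).Q.map (liftHom a h) := by rw [E₁]
      _ = ((uppR u 𝒮).Q.map (ψ.s ≫ ρ₁.s) ≫ χ₂) ≫ (uppR u 𝒮).Q.map (liftHom a h) := by
          simp only [Category.assoc]; rw [hc]
      _ = (uppR u 𝒮).Q.map (ψ.f ≫ ρ₂.f) ≫ (uppR u 𝒮).Q.map (liftHom a h) := by rw [E₂]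
      _ = _ := ((uppR u 𝒮).Q.map_comp _ _).symm
  obtain ⟨Z, t, ht, hteq⟩ :=
    (MorphismProperty.map_eq_iff_precomp (uppR u 𝒮).Q (uppR u 𝒮) _ _).1 hk
  have hbot : (ψ.s ≫ ρ₁.f).bot = (ψ.f ≫ ρ₂.f).bot := by
    have h1 := congrArg (PP u 𝒮).map E₁
    have h2 := congrArg (PP u 𝒮).map E₂
    rw [Functor.map_comp, PP_map_Q, PP_map_Q] at h1 h2
    rw [← h1, ← h2, hP]
  have hteq' : t ≫ (ψ.s ≫ ρ₁.f) = t ≫ (ψ.f ≫ ρ₂.f) := by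
    apply UppObj.hom_ext
    · have h1 := congrArg UppObj.Hom.top hteq
      change t.top ≫ (ψ.s.top ≫ ρ₁.f.top) ≫ 𝟙 a.x = t.top ≫ (ψ.f.top ≫ ρ₂.f.top) ≫ 𝟙 a.x at h1
      rw [Category.comp_id, Category.comp_id] at h1
      exact h1
    · show t.bot ≫ (ψ.s ≫ ρ₁.f).bot = t.bot ≫ (ψ.f ≫ ρ₂.f).bot
      rw [hbot]
  haveI : IsIso ((uppR u 𝒮).Q.map t) := Localization.inverts (uppR u 𝒮).Q (uppR u 𝒮) t ht
  have hQk : (uppR u 𝒮).Q.map (ψ.s ≫ ρ₁.f) = (uppR u 𝒮).Q.map (ψ.f ≫ ρ₂.f) := by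
    rw [← cancel_epi ((uppR u 𝒮).Q.map t), ← Functor.map_comp, ← Functor.map_comp, hteq']
  rw [← cancel_epi ((uppR u 𝒮).Q.map (ψ.s ≫ ρ₁.s)), E₁, E₂, hQk]

theorem lift_isStronglyCartesian [(uppR u 𝒮).HasRightCalculusOfFractions] (a : UppObj u 𝒮)
    {V' : D} (h : V' ⟶ a.V) :
    (PP u 𝒮).IsStronglyCartesian h ((uppR u 𝒮).Q.map (liftHom a h)) := by
  haveI hlift : (PP u 𝒮).IsHomLift h ((uppR u 𝒮).Q.map (liftHom a h)) := by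
    have h0 : (PP u 𝒮).IsHomLift ((PP u 𝒮).map ((uppR u 𝒮).Q.map (liftHom a h)))
        ((uppR u 𝒮).Q.map (liftHom a h)) := IsHomLift.map _ _
    rw [PP_map_Q] at h0
    exact h0
  refine { universal_property' := ?_ }
  intro B g Φ hΦ
  obtain ⟨b, rfl⟩ : ∃ b, B = (uppR u 𝒮).Q.obj b := ⟨B.as.obj, rfl⟩
  have hPΦ : (PP u 𝒮).map Φ = g ≫ h :=
    (IsHomLift.eq_of_isHomLift (a := (uppR u 𝒮).Q.obj b) (b := (uppR u 𝒮).Q.obj a)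
      (PP u 𝒮) (g ≫ h) Φ).symm
  obtain ⟨ρ, hρ⟩ := Localization.exists_rightFraction (uppR u 𝒮).Q (uppR u 𝒮) Φ
  have e1 : (uppR u 𝒮).Q.map ρ.s ≫ Φ = (uppR u 𝒮).Q.map ρ.f := by
    rw [hρ]; exact ρ.map_s_comp_map _ _
  have e2 : ρ.s.bot ≫ g ≫ h = ρ.f.bot := by
    have h1 := congrArg (PP u 𝒮).map e1
    rw [Functor.map_comp, PP_map_Q, PP_map_Q, hPΦ] at h1
    exact h1
  haveI : IsIso ρ.s.bot := ρ.hs.2
  haveI : IsIso ((uppR u 𝒮).Q.map ρ.s) :=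
    Localization.inverts (uppR u 𝒮).Q (uppR u 𝒮) ρ.s ρ.hs
  let f' : ρ.X' ⟶ liftObj a h := ⟨ρ.f.top, ρ.s.bot ≫ g, by
    show ρ.X'.φ ≫ u.map (𝒮.p.map ρ.f.top) = (ρ.s.bot ≫ g) ≫ (h ≫ a.φ)
    rw [ρ.f.w, ← e2]; simp only [Category.assoc]⟩
  have hf' : f' ≫ liftHom a h = ρ.f := by
    apply UppObj.hom_ext
    · show ρ.f.top ≫ 𝟙 a.x = ρ.f.top
      exact Category.comp_id _
    · show (ρ.s.bot ≫ g) ≫ h = ρ.f.bot
      rw [Category.assoc, e2]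
  obtain ⟨χ, hχdef⟩ : ∃ χ, χ = inv ((uppR u 𝒮).Q.map ρ.s) ≫ (uppR u 𝒮).Q.map f' := ⟨_, rfl⟩
  have hχ1 : (uppR u 𝒮).Q.map ρ.s ≫ χ = (uppR u 𝒮).Q.map f' := by
    rw [hχdef, IsIso.hom_inv_id_assoc]
  have hPχ : (PP u 𝒮).map χ = g := by
    rw [← cancel_epi ρ.s.bot]
    have h1 := congrArg (PP u 𝒮).map hχ1
    rw [Functor.map_comp, PP_map_Q, PP_map_Q] at h1
    exact h1
  have hχ2 : χ ≫ (uppR u 𝒮).Q.map (liftHom a h) = Φ := by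
    rw [← cancel_epi ((uppR u 𝒮).Q.map ρ.s), ← Category.assoc, hχ1, ← Functor.map_comp, hf', e1]
  refine ⟨χ, ⟨?_, hχ2⟩, ?_⟩
  · have h0 : (PP u 𝒮).IsHomLift ((PP u 𝒮).map χ) χ := IsHomLift.map _ _
    rw [hPχ] at h0
    exact h0
  · rintro χ' ⟨hχ'1, hχ'2⟩
    refine uniq_aux a h b χ' χ ?_ (hχ'2.trans hχ2.symm)
    rw [hPχ]
    exact (IsHomLift.eq_of_isHomLift (a := (uppR u 𝒮).Q.obj b)
      (b := (uppR u 𝒮).Q.obj (liftObj a h)) (PP u 𝒮) g χ').symm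

variable (u 𝒮)

theorem main12813 [𝒮.p.IsFibered]
    (hC : ∀ (I : Type) [SmallCategory I] [FinCategory I], Nonempty I → HasLimitsOfShape I C)
    (hu : ∀ (I : Type) [SmallCategory I] [FinCategory I], Nonempty I → PreservesLimitsOfShape I u) :
    (Stk.up u 𝒮).p.IsFibered := by
  haveI := main12812 u 𝒮 hC hu
  show (PP u 𝒮).IsFibered
  apply Functor.IsFibered.of_exists_isStronglyCartesian
  intro A R f
  obtain ⟨a, rfl⟩ : ∃ a, A = (uppR u 𝒮).Q.obj a := ⟨A.as.obj, rfl⟩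
  exact ⟨_, (uppR u 𝒮).Q.map (liftHom a f), lift_isStronglyCartesian a f⟩

theorem main12814 (h𝒮 : FibCat.IsFibGrpd 𝒮.p)
    (hC : ∀ (I : Type) [SmallCategory I] [FinCategory I], Nonempty I → HasLimitsOfShape I C)
    (hu : ∀ (I : Type) [SmallCategory I] [FinCategory I], Nonempty I → PreservesLimitsOfShape I u) :
    FibCat.IsFibGrpd (Stk.up u 𝒮).p := by
  haveI : 𝒮.p.IsFibered := isFibered_of_isFibGrpd' h𝒮
  haveI := main12812 u 𝒮 hC hu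
  show FibCat.IsFibGrpd (PP u 𝒮)
  refine { exists_lift := ?_, isStronglyCartesian := ?_ }
  · intro A V f
    obtain ⟨a, rfl⟩ : ∃ a, A = (uppR u 𝒮).Q.obj a := ⟨A.as.obj, rfl⟩
    haveI := lift_isStronglyCartesian a f
    exact ⟨_, (uppR u 𝒮).Q.map (liftHom a f), inferInstance⟩
  · intro B A Φ
    obtain ⟨a, rfl⟩ : ∃ a, A = (uppR u 𝒮).Q.obj a := ⟨A.as.obj, rfl⟩
    obtain ⟨b, rfl⟩ : ∃ b, B = (uppR u 𝒮).Q.obj b := ⟨B.as.obj, rfl⟩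
    obtain ⟨ρ, hρ⟩ := Localization.exists_rightFraction (uppR u 𝒮).Q (uppR u 𝒮) Φ
    have e1 : (uppR u 𝒮).Q.map ρ.s ≫ Φ = (uppR u 𝒮).Q.map ρ.f := by
      rw [hρ]; exact ρ.map_s_comp_map _ _
    haveI : IsIso ((uppR u 𝒮).Q.map ρ.s) :=
      Localization.inverts (uppR u 𝒮).Q (uppR u 𝒮) ρ.s ρ.hs
    let f₁ : ρ.X' ⟶ liftObj a ρ.f.bot := ⟨ρ.f.top, 𝟙 _, by
      show ρ.X'.φ ≫ u.map (𝒮.p.map ρ.f.top) = 𝟙 _ ≫ (ρ.f.bot ≫ a.φ)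
      rw [ρ.f.w, Category.id_comp]⟩
    have hf₁ : uppR u 𝒮 f₁ :=
      ⟨h𝒮.isStronglyCartesian ρ.f.top, by show IsIso (𝟙 ρ.X'.V); infer_instance⟩
    have hfac : f₁ ≫ liftHom a ρ.f.bot = ρ.f := by
      apply UppObj.hom_ext
      · show ρ.f.top ≫ 𝟙 a.x = ρ.f.top
        exact Category.comp_id _
      · show 𝟙 _ ≫ ρ.f.bot = ρ.f.bot
        exact Category.id_comp _
    haveI : IsIso ((uppR u 𝒮).Q.map f₁) :=
      Localization.inverts (uppR u 𝒮).Q (uppR u 𝒮) f₁ hf₁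
    obtain ⟨e, he⟩ : ∃ e, e = inv ((uppR u 𝒮).Q.map ρ.s) ≫ (uppR u 𝒮).Q.map f₁ := ⟨_, rfl⟩
    haveI : IsIso e := by rw [he]; infer_instance
    have hΦ : Φ = e ≫ (uppR u 𝒮).Q.map (liftHom a ρ.f.bot) := by
      rw [← cancel_epi ((uppR u 𝒮).Q.map ρ.s), e1, he]
      simp only [Category.assoc, IsIso.hom_inv_id_assoc]
      rw [← Functor.map_comp, hfac]
    have hPΦ : (PP u 𝒮).map Φ = (PP u 𝒮).map e ≫ ρ.f.bot := by
      rw [hΦ, Functor.map_comp, PP_map_Q]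
    exact sc_comp_of_eq (PP u 𝒮) ((PP u 𝒮).map e) ρ.f.bot _ hPΦ e _ Φ hΦ
      (sc_of_isIso_map (PP u 𝒮) e) (lift_isStronglyCartesian a ρ.f.bot)

end Groth.Agent.Lib.StkUp
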