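import Mathlib.Topology.Constructible
import Mathlib.Topology.LocallyClosed
import Mathlib.Data.Fintype.Powerset
import Mathlib.Data.Fintype.Sigma
import Mathlib.Data.Fintype.Sum

/-!
# Stratification by atoms of a finite family of opens (lead)
-/

universe u

set_option linter.unusedSectionVars false

namespace Groth.Agent.Lib.Strat_lead

open Set Topology

variable {X : Type u} [TopologicalSpace X]

/-- The atom of the family `U` indexed by `J`. -/
def atom {K : Type} (U : K → Set X) (J : Set K) : Set X := {x | ∀ l, x ∈ U l ↔ l ∈ J}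

/-- `T` is a union of atoms of `U`. -/
def Sat {K : Type} (U : K → Set X) (T : Set X) : Prop :=
  ∀ x y, (∀ l, x ∈ U l ↔ y ∈ U l) → x ∈ T → y ∈ T

variable {K : Type} (U : K → Set X)

theorem atom_eq (J : Set K) : atom U J = (⋂ l ∈ J, U l) ∩ (⋂ l ∈ Jᶜ, (U l)ᶜ) := by
  ext x
  simp only [atom, mem_ofPred_eq, mem_inter_iff, mem_iInter, mem_compl_iff]
  constructor
  · intro h; exact ⟨fun l hl => (h l).2 hl, fun l hl hx => hl ((h l).1 hx)⟩
  · rintro ⟨h1, h2⟩ l
    exact ⟨fun hx => by_contra fun hl => h2 l hl hx, h1 l⟩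

theorem isLocallyClosed_atom [Finite K] (hU : ∀ l, IsOpen (U l)) (J : Set K) :
    IsLocallyClosed (atom U J) := by
  rw [atom_eq]
  refine IsLocallyClosed.inter (IsOpen.isLocallyClosed ?_) (IsClosed.isLocallyClosed ?_)
  · exact (toFinite J).isOpen_biInter fun l _ => hU l
  · exact isClosed_biInter fun l _ => (hU l).isClosed_compl

theorem isConstructible_atom [Finite K] (hU : ∀ l, IsOpen (U l)) (hU' : ∀ l, IsRetrocompact (U l))
    (J : Set K) : IsConstructible (atom U J) := by
  rw [atom_eq]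
  refine IsConstructible.inter ?_ ?_
  · exact IsConstructible.biInter (toFinite J) fun l _ => (hU' l).isConstructible (hU l)
  · exact IsConstructible.biInter (toFinite _) fun l _ => ((hU' l).isConstructible (hU l)).compl

theorem iUnion_atom : ⋃ J, atom U J = univ := by
  apply eq_univ_of_forall
  intro x
  exact mem_iUnion.2 ⟨{l | x ∈ U l}, fun l => Iff.rfl⟩

theorem disjoint_atom {J J' : Set K} (h : J ≠ J') : Disjoint (atom U J) (atom U J') := by
  rw [Set.disjoint_left]
  intro x hx hx'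
  apply h
  ext l
  rw [← hx l, hx' l]

theorem closure_atom_subset (hU : ∀ l, IsOpen (U l)) (J : Set K) :
    closure (atom U J) ⊆ ⋃ i ∈ Set.Iic J, atom U i := by
  have hsub : atom U J ⊆ ⋂ l ∈ Jᶜ, (U l)ᶜ := by
    rw [atom_eq]; exact inter_subset_right
  have hcl : IsClosed (⋂ l ∈ Jᶜ, (U l)ᶜ) := isClosed_biInter fun l _ => (hU l).isClosed_compl
  intro x hx
  have hx' := closure_minimal hsub hcl hx
  simp only [mem_iInter, mem_compl_iff] at hx'
  refine mem_iUnion₂.2 ⟨{l | x ∈ U l}, ?_, fun l => Iff.rfl⟩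
  intro l hl
  by_contra hlJ
  exact hx' l hlJ hl

theorem subset_of_sat {T : Set X} (hT : Sat U T) {J : Set K} (h : (atom U J ∩ T).Nonempty) :
    atom U J ⊆ T := by
  obtain ⟨x, hxJ, hxT⟩ := h
  intro y hy
  exact hT x y (fun l => by rw [hxJ l, hy l]) hxT

theorem sat_compl {T : Set X} (hT : Sat U T) : Sat U Tᶜ := by
  intro x y h hx hy
  exact hx (hT y x (fun l => (h l).symm) hy)

theorem sat_union {T T' : Set X} (hT : Sat U T) (hT' : Sat U T') : Sat U (T ∪ T') := by
  rintro x y h (hx | hx)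
  · exact Or.inl (hT x y h hx)
  · exact Or.inr (hT' x y h hx)

theorem sat_inter {T T' : Set X} (hT : Sat U T) (hT' : Sat U T') : Sat U (T ∩ T') := by
  rintro x y h ⟨hx, hx'⟩
  exact ⟨hT x y h hx, hT' x y h hx'⟩

theorem sat_self (l : K) : Sat U (U l) := fun _ _ h hx => (h l).1 hx

theorem sat_comp {K' : Type} (f : K' → K) {T : Set X} (hT : Sat (U ∘ f) T) : Sat U T :=
  fun x y h hx => hT x y (fun l => h (f l)) hx

/-- Every constructible set is a union of atoms of a finite family of retrocompact opens. -/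
theorem exists_sat_of_isConstructible {T : Set X} (hT : IsConstructible T) :
    ∃ (K : Type) (_ : Fintype K) (U : K → Set X),
      (∀ l, IsOpen (U l) ∧ IsRetrocompact (U l)) ∧ Sat U T := by
  induction hT using IsConstructible.empty_union_induction with
  | open_retrocompact V hVo hVr =>
    exact ⟨Unit, inferInstance, fun _ => V, fun _ => ⟨hVo, hVr⟩, sat_self (fun _ : Unit => V) ()⟩
  | union s hs t ht ihs iht =>
    obtain ⟨K₁, _, U₁, h₁, hs₁⟩ := ihs
    obtain ⟨K₂, _, U₂, h₂, hs₂⟩ := iht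
    refine ⟨K₁ ⊕ K₂, inferInstance, Sum.elim U₁ U₂, ?_, ?_⟩
    · rintro (l | l)
      · exact h₁ l
      · exact h₂ l
    · exact sat_union _ (sat_comp (Sum.elim U₁ U₂) Sum.inl hs₁)
        (sat_comp (Sum.elim U₁ U₂) Sum.inr hs₂)
  | compl s hs ih =>
    obtain ⟨K₁, _, U₁, h₁, hs₁⟩ := ih
    exact ⟨K₁, inferInstance, U₁, h₁, sat_compl _ hs₁⟩

end Groth.Agent.Lib.Strat_lead
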