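import Mathlib
import Groth.Prelude
import Groth.Agent.Lib.IndEtale3_helper3
import Groth.Agent.Lib.IndEtale5_helper3
import Groth.Agent.Lib.IndEtaleFib2_helper3

/-!
# Specialization arrows between strict localizations (helper3)
-/

set_option autoImplicit false
universe u

open CategoryTheory AlgebraicGeometry TensorProduct IsLocalRing

namespace Groth.Agent.Lib.StrictArrowsH3

open Groth.Agent.Lib.IndEtaleH3

/-- A faithfully flat ind-étale algebra has a point in every separably closed field over the
base. -/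
theorem nonempty_algHom_of_isSepClosed {O R K : Type u} [CommRing O] [CommRing R] [Algebra O R]
    [Module.FaithfullyFlat O R] (hie : EtPBC.IsIndEtale O R) [Field K] [IsSepClosed K]
    [Algebra O K] : Nonempty (R →ₐ[O] K) := by
  have hE : EtPBC.IsIndEtale K (K ⊗[O] R) := isIndEtale_baseChange O R K hie
  haveI : Nontrivial (K ⊗[O] R) := inferInstance
  obtain ⟨𝔫, h𝔫⟩ := Ideal.exists_maximal (K ⊗[O] R)
  haveI := h𝔫
  letI : Field ((K ⊗[O] R) ⧸ 𝔫) := Ideal.Quotient.field 𝔫
  haveI : Algebra.IsSeparable K ((K ⊗[O] R) ⧸ 𝔫) := ⟨fun l => by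
    obtain ⟨e, rfl⟩ := Ideal.Quotient.mk_surjective l
    obtain ⟨C, _, _, _, f, c, rfl⟩ := exists_of_isIndEtale hE e
    exact isSeparable_algHom_of_etale ((Ideal.Quotient.mkₐ K 𝔫).comp f) c⟩
  have hbij : Function.Bijective (algebraMap K ((K ⊗[O] R) ⧸ 𝔫)) :=
    IsSepClosed.algebraMap_bijective K _
  let e : K ≃ₐ[K] ((K ⊗[O] R) ⧸ 𝔫) := AlgEquiv.ofBijective (Algebra.ofId K _) hbij
  exact ⟨((e.symm.toAlgHom.restrictScalars O).comp
    ((Ideal.Quotient.mkₐ K 𝔫).restrictScalars O)).comp Algebra.TensorProduct.includeRight⟩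

section Scheme

variable {X : Scheme.{u}}

/-- the image of any point under a morphism through `Spec R → Spec O_x → X` is a generization of
`x` -/
theorem comp_specOf_apply_specializes {Z : Scheme.{u}} (x : X) (R : Type u) [CommRing R]
    [Algebra (X.presheaf.stalk x) R] (a : Z ⟶ Spec (CommRingCat.of R)) (z : Z) :
    (a ≫ Hens2.specOf X x R) z ⤳ x := by
  have : (a ≫ Hens2.specOf X x R) z ∈ Set.range (X.fromSpecStalk x) :=
    ⟨(a ≫ Spec.map (CommRingCat.ofHom (algebraMap (X.presheaf.stalk x) R))) z, by
      simp only [Hens2.specOf, Scheme.Hom.comp_apply]⟩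
  rwa [Scheme.range_fromSpecStalk] at this

/-- the closed point of a local algebra over `O_x` maps to `x` -/
theorem specOf_closedPoint (x : X) (R : Type u) [CommRing R] [IsLocalRing R]
    [Algebra (X.presheaf.stalk x) R] [IsLocalHom (algebraMap (X.presheaf.stalk x) R)] :
    (Hens2.specOf X x R) (closedPoint R) = x := by
  have h1 : (Spec.map (CommRingCat.ofHom (algebraMap (X.presheaf.stalk x) R)))
      (closedPoint R) = closedPoint (X.presheaf.stalk x) :=
    IsLocalRing.comap_closedPoint (algebraMap (X.presheaf.stalk x) R)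
  simp only [Hens2.specOf, Scheme.Hom.comp_apply]
  rw [h1]
  exact Scheme.fromSpecStalk_closedPoint

/-- translation of the condition of being an `X`-morphism -/
theorem specMap_comp_specOf_eq_iff {x x' : X} (h : x' ⤳ x) (R : Type u) [CommRing R]
    [Algebra (X.presheaf.stalk x) R] (S : Type u) [CommRing S] (φ : R →+* S)
    (β : X.presheaf.stalk x' →+* S) :
    Spec.map (CommRingCat.ofHom φ) ≫ Hens2.specOf X x R =
        Spec.map (CommRingCat.ofHom β) ≫ X.fromSpecStalk x' ↔
      φ.comp (algebraMap (X.presheaf.stalk x) R) =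
        β.comp (X.presheaf.stalkSpecializes h).hom := by
  rw [← Scheme.SpecMap_stalkSpecializes_fromSpecStalk h]
  simp only [Hens2.specOf]
  rw [← Category.assoc, ← Category.assoc, cancel_mono, ← Spec.map_comp, ← Spec.map_comp,
    Spec.map_inj]
  constructor
  · intro h1
    have := congrArg CommRingCat.Hom.hom h1
    simpa using this
  · intro h1
    ext a
    have := congr($h1 a)
    simpa using this

end Scheme

end Groth.Agent.Lib.StrictArrowsH3
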