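import Mathlib
import Groth.Prelude
import Groth.Agent.Lib.StrictArrows1_helper3
import Groth.Agent.Lib.StrictHens9_lead

/-!
# Specialization arrows between strict localizations, part 2 (helper3)
-/

set_option autoImplicit false
universe u

open CategoryTheory AlgebraicGeometry TensorProduct IsLocalRing

namespace Groth.Agent.Lib.StrictArrowsH3

open Groth.Agent.Lib.IndEtaleH3 Groth.Agent.Lib.StrictHens

variable {X : Scheme.{u}} {x x' : X} (h : x' ⤳ x)
  (R : Type u) [CommRing R] [IsLocalRing R] [Algebra (X.presheaf.stalk x) R]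
  [IsLocalHom (algebraMap (X.presheaf.stalk x) R)]
  [Hensel.IsStrictHenselization (X.presheaf.stalk x) R]
  (R' : Type u) [CommRing R'] [IsLocalRing R'] [Algebra (X.presheaf.stalk x') R']
  [IsLocalHom (algebraMap (X.presheaf.stalk x') R')]
  [Hensel.IsStrictHenselization (X.presheaf.stalk x') R']

/-- maps `R → R'` over `O_x → O_{x'}` correspond bijectively to maps `R → κ(R')` over `O_x` -/
theorem existsUnique_lift (u₀ : R →+* ResidueField R')
    (hu₀ : u₀.comp (algebraMap (X.presheaf.stalk x) R) =
      ((residue R').comp (algebraMap (X.presheaf.stalk x') R')).comp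
        (X.presheaf.stalkSpecializes h).hom) :
    ∃! φ : R →+* R', φ.comp (algebraMap (X.presheaf.stalk x) R) =
        (algebraMap (X.presheaf.stalk x') R').comp (X.presheaf.stalkSpecializes h).hom ∧
      (residue R').comp φ = u₀ := by
  letI aOR' : Algebra (X.presheaf.stalk x) R' :=
    ((algebraMap (X.presheaf.stalk x') R').comp (X.presheaf.stalkSpecializes h).hom).toAlgebra
  letI aOK : Algebra (X.presheaf.stalk x) (ResidueField R') :=
    (((residue R').comp (algebraMap (X.presheaf.stalk x') R')).comp
      (X.presheaf.stalkSpecializes h).hom).toAlgebra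
  let u' : R' →ₐ[X.presheaf.stalk x] ResidueField R' :=
    { residue R' with commutes' := fun r => rfl }
  have hu' : Function.Surjective u' := residue_surjective
  have hku' : RingHom.ker u'.toRingHom = maximalIdeal R' := IsLocalRing.ker_residue
  haveI : HenselianLocalRing R' := Hensel.IsStrictHenselization.henselian (X.presheaf.stalk x')
  have hie : EtPBC.IsIndEtale (X.presheaf.stalk x) R :=
    isIndEtale_of_isStrictHenselization (R := X.presheaf.stalk x) R
  let u : R →ₐ[X.presheaf.stalk x] ResidueField R' :=
    { u₀ with commutes' := fun r => congr($hu₀ r) }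
  obtain ⟨φ, hφ, huniq⟩ := existsUnique_algHom_of_henselian u' hu' hku' hie u
  refine ⟨φ.toRingHom, ⟨φ.comp_algebraMap, ?_⟩, ?_⟩
  · ext r
    exact congr($hφ r)
  · rintro ψ ⟨hψ1, hψ2⟩
    let Ψ : R →ₐ[X.presheaf.stalk x] R' := { ψ with commutes' := fun r => congr($hψ1 r) }
    have h1 : Ψ = φ := huniq Ψ (by
      ext r
      exact congr($hψ2 r))
    rw [← h1]

/-- there is a map `R → κ(R')` over `O_x` -/
theorem exists_compatible_residue :
    ∃ u₀ : R →+* ResidueField R', u₀.comp (algebraMap (X.presheaf.stalk x) R) =
      ((residue R').comp (algebraMap (X.presheaf.stalk x') R')).comp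
        (X.presheaf.stalkSpecializes h).hom := by
  letI aOK : Algebra (X.presheaf.stalk x) (ResidueField R') :=
    (((residue R').comp (algebraMap (X.presheaf.stalk x') R')).comp
      (X.presheaf.stalkSpecializes h).hom).toAlgebra
  haveI : IsSepClosed (ResidueField R') :=
    (Hensel.IsStrictHenselization.isSepClosure (R := X.presheaf.stalk x') (S := R')).sep_closed
  haveI : Module.FaithfullyFlat (X.presheaf.stalk x) R :=
    faithfullyFlat_of_isStrictHenselization (R := X.presheaf.stalk x) R
  have hie : EtPBC.IsIndEtale (X.presheaf.stalk x) R :=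
    isIndEtale_of_isStrictHenselization (R := X.presheaf.stalk x) R
  obtain ⟨u⟩ := nonempty_algHom_of_isSepClosed (K := ResidueField R') hie
  exact ⟨u.toRingHom, u.comp_algebraMap⟩

end Groth.Agent.Lib.StrictArrowsH3
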