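import Mathlib
import Groth.Prelude.Def_Hensel
import Groth.Agent.Lib.StrictHens5_lead

/-!
# The strict henselization is formally étale (lead)
-/

namespace Groth.Agent.Lib.StrictHensFEt

open Groth.Agent.Lib.StrictHens IsLocalRing

universe u

variable {R : Type u} [CommRing R] [IsLocalRing R]
variable {K : Type u} [Field K] [Algebra R K] [Algebra (ResidueField R) K]
  [IsScalarTower R (ResidueField R) K]

instance formallyEtale_idxA (i : Idx R K) : Algebra.FormallyEtale R i.A := by
  haveI : Algebra.FormallyEtale i.C i.A :=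
    Algebra.FormallyEtale.of_isLocalization (RingHom.ker i.pt).primeCompl
  exact Algebra.FormallyEtale.comp R i.C i.A

theorem formallyEtale_sh : Algebra.FormallyEtale R (SH R K) := by
  rw [Algebra.FormallyEtale.iff_comp_bijective]
  intro B _ _ I hI
  have hbij : ∀ i : Idx R K, Function.Bijective
      ((Ideal.Quotient.mkₐ R I).comp : (i.A →ₐ[R] B) → (i.A →ₐ[R] B ⧸ I)) := fun i =>
    Algebra.FormallyEtale.comp_bijective R i.A I hI
  refine ⟨fun g g' h => ?_, fun σ => ?_⟩
  · apply AlgHom.ext
    intro z
    obtain ⟨i, x, rfl⟩ := exists_ofH z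
    have h1 : g.comp (ofHₐ i) = g'.comp (ofHₐ i) := by
      apply (hbij i).1
      show (Ideal.Quotient.mkₐ R I).comp (g.comp (ofHₐ i)) =
        (Ideal.Quotient.mkₐ R I).comp (g'.comp (ofHₐ i))
      rw [← AlgHom.comp_assoc, ← AlgHom.comp_assoc]
      exact congrArg (fun t => AlgHom.comp t (ofHₐ i)) h
    exact DFunLike.congr_fun h1 x
  · choose gs hgs using fun i : Idx R K => (hbij i).2 (σ.comp (ofHₐ i))
    have hcompat : ∀ (i j : Idx R K) (hij : i ≤ j) (x : i.A),
        (gs j).toRingHom (trR i j hij x) = (gs i).toRingHom x := by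
      intro i j hij x
      have h1 : (gs j).comp (tr hij) = gs i := by
        apply (hbij i).1
        show (Ideal.Quotient.mkₐ R I).comp ((gs j).comp (tr hij)) =
          (Ideal.Quotient.mkₐ R I).comp (gs i)
        rw [← AlgHom.comp_assoc, hgs j, hgs i]
        apply AlgHom.ext
        intro y
        show σ (ofH j (tr hij y)) = σ (ofH i y)
        rw [ofH_tr]
      exact DFunLike.congr_fun h1 x
    let g₀ : SH R K →+* B :=
      Ring.DirectLimit.lift (fun i : Idx R K => i.A) (fun i j h => (trR i j h : _ → _)) B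
        (fun i => (gs i).toRingHom) hcompat
    have hg₀ : ∀ i (x : i.A), g₀ (ofH i x) = gs i x := fun i x =>
      Ring.DirectLimit.lift_of _ _ _ _ _
    let g : SH R K →ₐ[R] B :=
      { g₀ with
        commutes' := fun r => by
          show g₀ (algebraMap R (SH R K) r) = algebraMap R B r
          rw [← ofH_algebraMap (Classical.arbitrary (Idx R K)) r, hg₀, AlgHom.commutes] }
    refine ⟨g, ?_⟩
    apply AlgHom.ext
    intro z
    obtain ⟨i, x, rfl⟩ := exists_ofH z
    show Ideal.Quotient.mk I (g₀ (ofH i x)) = σ (ofH i x)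
    rw [hg₀]
    exact DFunLike.congr_fun (hgs i) x

/-- S1962 -/
theorem formallyEtale_of_isStrictHenselization (S : Type u) [CommRing S] [IsLocalRing S]
    [Algebra R S] [IsLocalHom (algebraMap R S)] [Hensel.IsStrictHenselization R S] :
    Algebra.FormallyEtale R S := by
  obtain ⟨e, he⟩ := exists_ringEquiv_shens (R := R) S
  let eA : S ≃ₐ[R] SHens R := AlgEquiv.ofRingEquiv (f := e) he
  haveI := formallyEtale_sh (R := R) (K := SeparableClosure (ResidueField R))
  exact Algebra.FormallyEtale.of_equiv eA.symm

end Groth.Agent.Lib.StrictHensFEt
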