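import Mathlib
import Groth.Agent.Lib.StrictTr3_helper8
import Groth.Agent.Lib.FLF2_helper8
import Groth.Agent.Lib.FLF3_helper8
import Groth.Agent.Lib.FLF6_helper8
import Groth.Agent.Lib.QCohFP2_helper9
import Groth.Prelude.Def_CInt
set_option autoImplicit false
open AlgebraicGeometry CategoryTheory CategoryTheory.Limits TopologicalSpace Opposite
open QcqsLoc QCohExtn FittH8
universe u
namespace StrictTrH8

section
variable {X : Scheme.{u}} (F : X.Modules) [F.IsQuasicoherent]
  [SheafOfModules.IsFiniteType (R := X.ringCatSheaf) F] (U : X.Opens) (r : ℕ)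
  (hfree : FlatMod.IsFinLocFreeOfRank r (F.restrict U.ι))

include hfree in
/-- The lower Fitting ideals vanish when `F` is locally free of rank `r` on a schematically dense
open. -/
theorem fitt_eq_bot_of_dense (hU : CInt.IsSchematicallyDense U) (j : ℕ) (hj : j < r) :
    Fitt.sheafIdeal F j = ⊥ := by
  rw [eq_bot_iff]
  intro V x hx
  show x ∈ (⊥ : Ideal _)
  rw [Ideal.mem_bot]
  apply hU V.1
  refine Eq.trans ?_ (map_zero _).symm
  show rX (inf_le_left : V.1 ⊓ U ≤ V.1) x = 0
  apply ring_eq_zero_of_cover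
  intro y hy
  obtain ⟨W, hyW, hWU, g, hspan, hli⟩ := exists_affine_basis F U r hfree y hy.2
  obtain ⟨_, ⟨W', hW' : IsAffineOpen W', rfl⟩, hyW', hsub⟩ :=
    (X.isBasis_affineOpens).exists_subset_of_mem_open
      (show y ∈ ((V.1 ⊓ W.1 : X.Opens) : Set X) from ⟨hy.1, hyW⟩) (V.1 ⊓ W.1).2
  have h1 : W' ≤ V.1 := fun z hz => (hsub hz).1
  have h2 : W' ≤ W.1 := fun z hz => (hsub hz).2
  have h3 : W' ≤ V.1 ⊓ U := fun z hz => ⟨h1 hz, hWU (h2 hz)⟩
  refine ⟨W', h3, hyW', ?_⟩
  rw [rX_rX]
  have h4 : rX h1 x ∈ (Fitt.sheafIdeal F j).ideal ⟨W', hW'⟩ :=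
    (Fitt.sheafIdeal F j).ideal_le_comap_ideal (U := ⟨W', hW'⟩) (V := V) h1 hx
  have h5 : (Fitt.sheafIdeal F j).ideal ⟨W', hW'⟩ = ⊥ := by
    rw [← (Fitt.sheafIdeal F j).map_ideal (U := ⟨W', hW'⟩) (V := W) h2,
      SDivFittH8.sheafIdeal_ideal, fitt_of_basis_of_lt (Module.Basis.mk hli hspan.ge) j hj,
      Ideal.map_bot]
  rw [h5] at h4
  exact h4

include hfree in
/-- The support of `Fit_r(F)` is disjoint from an open over which `F` is locally free of rank `r`. -/
theorem disjoint_support : Disjoint ((Fitt.sheafIdeal F r).support : Set X) (U : Set X) := by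
  rw [Set.disjoint_left]
  intro x hx hxU
  obtain ⟨W, hxW, hWU, g, hspan, hli⟩ := exists_affine_basis F U r hfree x hxU
  have h1 : (Fitt.sheafIdeal F r).ideal W = ⊤ := by
    rw [SDivFittH8.sheafIdeal_ideal]
    exact fitt_of_basis_of_le (Module.Basis.mk hli hspan.ge) r le_rfl
  have h2 := (Scheme.IdealSheafData.mem_support_iff_of_mem (I := Fitt.sheafIdeal F r) (U := W) hxW).mp hx
  rw [h1, Scheme.mem_zeroLocus_iff] at h2
  refine h2 1 trivial ?_
  rw [Scheme.basicOpen_of_isUnit _ isUnit_one]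
  exact hxW

end

section
variable {S S' : Scheme.{u}} (F : S.Modules) [F.IsQuasicoherent]
  [SheafOfModules.IsFiniteType (R := S.ringCatSheaf) F] (k : ℕ) (b : S' ⟶ S)
  (hb : BlowUp.IsBlowUp b (Fitt.sheafIdeal F k)) (G : S'.Modules)
  (π : (Scheme.Modules.pullback b).obj F ⟶ G)
  (hG : BlowUp.IsStrictTransform b (Fitt.sheafIdeal F k) F G π)
  (hbot : ∀ j : ℕ, j < k → Fitt.sheafIdeal F j = ⊥)

include hb hG hbot in
theorem strict_fitt_eq_bot' (j : ℕ) (hj : j < k) : Fitt.sheafIdeal G j = ⊥ := by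
  haveI := PBH8.isQuasicoherent_pullback b F
  haveI := FpqcH8.isFiniteType_pullback b F
  haveI : Epi π := hG.1
  haveI := strict_isQuasicoherent F k b hb G π hG
  haveI := strict_isFiniteType F k b hb G π hG
  let ι := {V : S'.affineOpens // ∃ f : Γ(S', V.1), f ∈ nonZeroDivisors Γ(S', V.1) ∧
    ((Fitt.sheafIdeal F k).comap b).ideal V = Ideal.span {f}}
  have hcov : ⨆ i : ι, ((i.1 : S'.affineOpens) : S'.Opens) = ⊤ := by
    rw [eq_top_iff]
    intro x _
    obtain ⟨U, hxU, f, hf0, hf⟩ := hb.1 x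
    exact Opens.mem_iSup.mpr ⟨⟨U, f, hf0, hf⟩, hxU⟩
  refine Scheme.IdealSheafData.ext_of_iSup_eq_top (fun i : ι => i.1) hcov ?_
  rintro ⟨V, f, hf0, hf⟩
  show (Fitt.sheafIdeal G j).ideal V = (⊥ : S'.IdealSheafData).ideal V
  rw [SDivFittH8.sheafIdeal_ideal, Scheme.IdealSheafData.ideal_bot]
  show _ = ⊥
  haveI : Module.Finite Γ(S', (V : S'.Opens)) Γ((Scheme.Modules.pullback b).obj F, (V : S'.Opens)) :=
    QCohFT.finite_of_isFiniteType ((Scheme.Modules.pullback b).obj F) V.2
  let φ : Γ((Scheme.Modules.pullback b).obj F, (V : S'.Opens)) →ₗ[Γ(S', (V : S'.Opens))] Γ(G, (V : S'.Opens)) :=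
    { toFun := ap π V
      map_add' := map_add _
      map_smul' := fun r m => ap_smul π r m }
  have hφ : Function.Surjective φ := app_surjective π hG.2 hb.1 V.2
  have hfit : Fitt.ideal Γ(S', (V : S'.Opens)) Γ((Scheme.Modules.pullback b).obj F, (V : S'.Opens)) j = ⊥ := by
    rw [← SDivFittH8.sheafIdeal_ideal, ← ComapIdH8.fitt_comap b F j, hbot j hj,
      Scheme.IdealSheafData.comap_bot]
    rfl
  have hker : LinearMap.ker φ = FlatCA.powTorsion Γ(S', (V : S'.Opens)) f
      Γ((Scheme.Modules.pullback b).obj F, (V : S'.Opens)) := by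
    ext x
    rw [LinearMap.mem_ker, mem_powTorsion_iff]
    show ap π V x = 0 ↔ _
    exact (hG.2 V x).trans (killedByPowerNear_iff _ ((Scheme.Modules.pullback b).obj F) V f hf x)
  have h1 := fitt_quotient_powTorsion_eq_bot (N := Γ((Scheme.Modules.pullback b).obj F, (V : S'.Opens))) j f hf0 hfit
  have h2 := fitt_eq_of_linearEquiv
    ((Submodule.quotEquivOfEq _ _ hker).symm ≪≫ₗ φ.quotKerEquivOfSurjective hφ) j
  rw [← h2]
  exact h1

include hb hG hbot in
theorem strict_finLocFree' : FlatMod.IsFinLocFreeOfRank k G := by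
  haveI := strict_isQuasicoherent F k b hb G π hG
  haveI := strict_isFiniteType F k b hb G π hG
  rw [SDivFreeH8.finLocFree_iff G k]
  refine ⟨fun j hj => strict_fitt_eq_bot' F k b hb G π hG hbot j hj, fun j hj => ?_⟩
  have htop := strict_fitt_eq_top F k b hb G π hG
  rw [eq_top_iff]
  intro V
  rw [SDivFittH8.sheafIdeal_ideal]
  have h3 : (Fitt.sheafIdeal G k).ideal V = ⊤ := by rw [htop]; rfl
  rw [SDivFittH8.sheafIdeal_ideal] at h3
  show (⊤ : Ideal _) ≤ _
  rw [← h3]
  exact fitt_mono hj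

end

theorem finitePresentation_ker_of_projective {R N Q : Type u} [CommRing R] [AddCommGroup N]
    [AddCommGroup Q] [Module R N] [Module R Q] [Module.FinitePresentation R N]
    [Module.Projective R Q] (φ : N →ₗ[R] Q) (hφ : Function.Surjective φ) :
    Module.FinitePresentation R (LinearMap.ker φ) := by
  haveI : Module.Finite R Q := Module.Finite.of_surjective φ hφ
  obtain ⟨s, hs⟩ := Module.projective_lifting_property φ LinearMap.id hφ
  have hs' : ∀ q, φ (s q) = q := fun q => LinearMap.congr_fun hs q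
  let p : N →ₗ[R] LinearMap.ker φ :=
    (LinearMap.id - s.comp φ).codRestrict (LinearMap.ker φ) (fun n => by
      rw [LinearMap.mem_ker]
      simp [hs'])
  have hp : Function.Surjective p := by
    rintro ⟨k, hk⟩
    refine ⟨k, Subtype.ext ?_⟩
    rw [LinearMap.mem_ker] at hk
    simp [p, hk]
  have hker : LinearMap.ker p = LinearMap.range s := by
    ext n
    rw [LinearMap.mem_ker, LinearMap.mem_range]
    constructor
    · intro h
      have h1 : n - s (φ n) = 0 := by
        have := congrArg Subtype.val h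
        simpa [p] using this
      exact ⟨φ n, (sub_eq_zero.mp h1).symm⟩
    · rintro ⟨q, rfl⟩
      apply Subtype.ext
      simp [p, hs']
  refine Module.finitePresentation_of_surjective p hp ?_
  rw [hker, LinearMap.range_eq_map]
  exact Submodule.FG.map _ Module.Finite.fg_top

section
variable {X : Scheme.{u}} {E : X.IdealSheafData} {P : X.Modules}
variable {G : X.Modules} [P.IsQuasicoherent] (π : P ⟶ G)
  (hker : ∀ (V : X.affineOpens) (m : P.presheaf.obj (op V.1)),
    π.app V.1 m = 0 ↔ BlowUp.KilledByPowerNear E P V m)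
  (hE : BlowUp.IsEffCartierIdeal E)

include hker hE in
/-- The kernel of a strict transform map onto a finite locally free module is finitely
presented. -/
theorem isFP_kernel [Epi π] [SheafOfModules.IsFinitePresentation (R := X.ringCatSheaf) P]
    (hfree : FlatMod.IsFinLocFree G) :
    SheafOfModules.IsFinitePresentation (R := X.ringCatSheaf) (kernel π) := by
  haveI := isQuasicoherent_kernel π hker hE
  haveI := isQuasicoherent_target π hker hE
  haveI := FLFH8.isFinitePresentation_of_finLocFree G hfree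
  refine QCohFP2.isFinitePresentation_of_sections_cover (kernel π)
    (fun V : X.affineOpens => (V : X.Opens)) (fun V => V.2) ?_ ?_
  · rw [eq_top_iff]
    intro x _
    obtain ⟨_, ⟨V, hV : IsAffineOpen V, rfl⟩, hxV, -⟩ :=
      (X.isBasis_affineOpens).exists_subset_of_mem_open (Set.mem_univ x) isOpen_univ
    exact Opens.mem_iSup.mpr ⟨⟨V, hV⟩, hxV⟩
  · intro V
    haveI : Module.FinitePresentation Γ(X, (V : X.Opens)) Γ(P, (V : X.Opens)) :=
      QCohFP2.finitePresentation_of_isFinitePresentation P V.2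
    haveI : Module.FinitePresentation Γ(X, (V : X.Opens)) Γ(G, (V : X.Opens)) :=
      QCohFP2.finitePresentation_of_isFinitePresentation G V.2
    haveI : Module.Flat Γ(X, (V : X.Opens)) Γ(G, (V : X.Opens)) :=
      FLFH8.flat_sections_of_flat_stalks G V.2 (fun x _ => by
        haveI := FLFH8.free_stalk_of_finLocFree G hfree x
        infer_instance)
    haveI : Module.Projective Γ(X, (V : X.Opens)) Γ(G, (V : X.Opens)) :=
      Module.Flat.projective_of_finitePresentation
    let φ : Γ(P, (V : X.Opens)) →ₗ[Γ(X, (V : X.Opens))] Γ(G, (V : X.Opens)) :=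
      { toFun := ap π V
        map_add' := map_add _
        map_smul' := fun r m => ap_smul π r m }
    have hφ : Function.Surjective φ := app_surjective π hker hE V.2
    haveI := finitePresentation_ker_of_projective φ hφ
    let ψ₀ : Γ(kernel π, (V : X.Opens)) →ₗ[Γ(X, (V : X.Opens))] Γ(P, (V : X.Opens)) :=
      { toFun := ap (kernel.ι π) V
        map_add' := map_add _
        map_smul' := fun r m => ap_smul (kernel.ι π) r m }
    let ψ : Γ(kernel π, (V : X.Opens)) →ₗ[Γ(X, (V : X.Opens))] LinearMap.ker φ :=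
      LinearMap.codRestrict (LinearMap.ker φ) ψ₀ (fun k => by
        rw [LinearMap.mem_ker]
        exact app_kernel_ι π V k)
    have hψ : Function.Bijective ψ := by
      constructor
      · intro a a' h
        exact kernel_ι_injective π V (congrArg Subtype.val h)
      · rintro ⟨p, hp⟩
        rw [LinearMap.mem_ker] at hp
        obtain ⟨k, hk⟩ := exists_kernel_of_app_eq_zero π V p hp
        exact ⟨k, Subtype.ext hk⟩
    exact Module.FinitePresentation.of_equiv (LinearEquiv.ofBijective ψ hψ).symm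

end

theorem eq_zero_of_nzd_smul {R M ι : Type*} [CommRing R] [AddCommGroup M] [Module R M]
    (B : Module.Basis ι R M) (a : R) (ha : a ∈ nonZeroDivisors R) (m : M) (h : a • m = 0) :
    m = 0 := by
  apply B.repr.injective
  ext i
  have h1 := congrArg (fun z => B.repr z i) h
  simp only [map_smul, Finsupp.smul_apply, smul_eq_mul, map_zero, Finsupp.zero_apply] at h1
  rw [map_zero, Finsupp.zero_apply]
  exact (mem_nonZeroDivisors_iff.mp ha).1 _ h1

/-- Sections of the pullback of a module with a basis over `W` have no torsion for nonzerodivisors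
over affine opens mapping into `W`. -/
theorem pullback_sections_torsionFree {S S' : Scheme.{u}} (b : S' ⟶ S) (F : S.Modules)
    [F.IsQuasicoherent] (U : S'.affineOpens) (W : S.affineOpens) (hUW : U.1 ≤ b ⁻¹ᵁ W.1) {r : ℕ}
    (g : Fin r → Γ(F, W.1)) (hspan : Submodule.span Γ(S, W.1) (Set.range g) = ⊤)
    (hli : LinearIndependent Γ(S, W.1) g) (a : Γ(S', U.1)) (ha : a ∈ nonZeroDivisors Γ(S', U.1))
    (m : Γ((Scheme.Modules.pullback b).obj F, U.1)) (h : a • m = 0) : m = 0 := by
  letI := (b.appLE W.1 U.1 hUW).hom.toAlgebra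
  letI : Module Γ(S, W.1) Γ((Scheme.Modules.pullback b).obj F, U.1) :=
    Module.compHom _ (b.appLE W.1 U.1 hUW).hom
  haveI : IsScalarTower Γ(S, W.1) Γ(S', U.1) Γ((Scheme.Modules.pullback b).obj F, U.1) :=
    IsScalarTower.of_algebraMap_smul fun _ _ => rfl
  have bc := PBH8.isBaseChange_cUV b F hUW U.2 W.2
  exact eq_zero_of_nzd_smul (bc.basis (Module.Basis.mk hli hspan.ge)) a ha m h

section
variable {S S' : Scheme.{u}} (F : S.Modules) [F.IsQuasicoherent] (b : S' ⟶ S)
  (I : S.IdealSheafData) (hE : BlowUp.IsEffCartierIdeal (I.comap b)) (G : S'.Modules)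
  (π : (Scheme.Modules.pullback b).obj F ⟶ G)
  (hker : ∀ (V : S'.affineOpens) (m : ((Scheme.Modules.pullback b).obj F).presheaf.obj (op V.1)),
    π.app V.1 m = 0 ↔ BlowUp.KilledByPowerNear (I.comap b) ((Scheme.Modules.pullback b).obj F) V m)
  (U : S.Opens) (r : ℕ) (hfree : FlatMod.IsFinLocFreeOfRank r (F.restrict U.ι))

include hE hker hfree in
theorem kernel_sections_eq_zero (O : S'.Opens) (hO : O ≤ b ⁻¹ᵁ U) (s : Γ(kernel π, O)) : s = 0 := by
  haveI := PBH8.isQuasicoherent_pullback b F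
  apply QcqsLoc.eq_zero_of_cover
  intro x hx
  obtain ⟨V₀, hxV₀, f, hf0, hf⟩ := hE x
  obtain ⟨W, hbxW, hWU, g, hspan, hli⟩ := exists_affine_basis F U r hfree (b x) (hO hx)
  obtain ⟨a, haO, hxa⟩ := V₀.2.exists_basicOpen_le (V := b ⁻¹ᵁ W.1 ⊓ O) ⟨x, ⟨hbxW, hx⟩⟩ hxV₀
  have hV'O : (S'.affineBasicOpen a).1 ≤ O := fun z hz => (haO hz).2
  have hV'W : (S'.affineBasicOpen a).1 ≤ b ⁻¹ᵁ W.1 := fun z hz => (haO hz).1
  refine ⟨(S'.affineBasicOpen a).1, hV'O, hxa, ?_⟩
  apply kernel_ι_injective π (S'.affineBasicOpen a).1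
  refine Eq.trans ?_ (map_zero _).symm
  have hm : ap π (S'.affineBasicOpen a).1
      (ap (kernel.ι π) (S'.affineBasicOpen a).1 (rF (kernel π) hV'O s)) = 0 :=
    app_kernel_ι π (S'.affineBasicOpen a).1 _
  have hf' := ideal_basicOpen (I.comap b) V₀ f hf a
  obtain ⟨n, hn⟩ := (killedByPowerNear_iff _ _ (S'.affineBasicOpen a) _ hf' _).mp
    ((hker (S'.affineBasicOpen a) _).mp hm)
  have hnzd : rX (S'.basicOpen_le a) f ∈ nonZeroDivisors Γ(S', (S'.affineBasicOpen a).1) := by
    haveI := V₀.2.isLocalization_basicOpen a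
    exact IsLocalization.map_nonZeroDivisors_le (Submonoid.powers a) Γ(S', S'.basicOpen a)
      (Submonoid.mem_map_of_mem _ hf0)
  exact pullback_sections_torsionFree b F (S'.affineBasicOpen a) W hV'W g hspan hli _
    (pow_mem hnzd n) _ hn

include hE hker hfree in
theorem isZero_kernel_restrict : IsZero ((kernel π).restrict (b ⁻¹ᵁ U).ι) := by
  rw [IsZero.iff_id_eq_zero]
  apply Scheme.Modules.hom_ext
  intro O
  ext s
  have h1 : ∀ t : Γ(kernel π, (b ⁻¹ᵁ U).ι ''ᵁ O), t = 0 := fun t =>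
    kernel_sections_eq_zero F b I hE G π hker U r hfree ((b ⁻¹ᵁ U).ι ''ᵁ O) (by
      rintro _ ⟨y, -, rfl⟩
      exact y.2) t
  exact (h1 _).trans (h1 _).symm

end

end StrictTrH8
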