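import Mathlib
import Groth.Agent.Lib.StrictTr3_helper8
import Groth.Agent.Lib.StalkLoc_helper8
import Groth.Agent.Lib.PB10_helper8
set_option autoImplicit false
open AlgebraicGeometry CategoryTheory CategoryTheory.Limits TopologicalSpace Opposite
open QcqsLoc QCohExtn
open Groth.Agent.Lib.QCohLoc_helper4
universe u
namespace StrictTrH8

/-- Pullback preserves flatness at a point. -/
theorem isFlatAt_pullback {X Y : Scheme.{u}} (f : X ⟶ Y) (F : Y.Modules) [F.IsQuasicoherent] (x : X)
    (h : FlatMod.IsFlatAt F (f x)) : FlatMod.IsFlatAt ((Scheme.Modules.pullback f).obj F) x := by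
  letI := (f.stalkMap x).hom.toAlgebra
  letI : Module (Y.presheaf.stalk (f x)) (((Scheme.Modules.pullback f).obj F).presheaf.stalk x) :=
    Module.compHom _ (f.stalkMap x).hom
  haveI : IsScalarTower (Y.presheaf.stalk (f x)) (X.presheaf.stalk x)
      (((Scheme.Modules.pullback f).obj F).presheaf.stalk x) :=
    IsScalarTower.of_algebraMap_smul fun _ _ => rfl
  have bc := PBH8.isBaseChange_cStalk f F x
  haveI : Module.Flat (Y.presheaf.stalk (f x)) (F.presheaf.stalk (f x)) := h
  exact Module.Flat.isBaseChange (R := Y.presheaf.stalk (f x)) (M := F.presheaf.stalk (f x)) (S := X.presheaf.stalk x) _ bc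

/-- A nonzerodivisor acts injectively on the sections over an affine open of a module which is flat
at the points where it vanishes. -/
theorem eq_zero_of_smul_eq_zero_of_flat {X : Scheme.{u}} (P : X.Modules) {V : X.Opens}
    (hV : IsAffineOpen V) (f : Γ(X, V)) (hf0 : f ∈ nonZeroDivisors Γ(X, V))
    (hflat : ∀ x ∈ V, x ∉ X.basicOpen f → FlatMod.IsFlatAt P x) (m : Γ(P, V)) (h : f • m = 0) :
    m = 0 := by
  refine TopCat.Presheaf.section_ext ⟨P.presheaf, P.isSheaf⟩ V m 0 (fun x hx => ?_)
  refine Eq.trans ?_ (map_zero _).symm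
  have h1 : (X.presheaf.germ V x hx).hom f • P.presheaf.germ V x hx m = 0 := by
    have := germ_smul P V x hx f m
    rw [h, map_zero] at this
    exact this.symm
  by_cases hxf : x ∈ X.basicOpen f
  · have hu : IsUnit ((X.presheaf.germ V x hx).hom f) := (Scheme.mem_basicOpen _ _ _ hx).mp hxf
    exact (hu.smul_eq_zero).mp h1
  · haveI : Module.Flat (X.presheaf.stalk x) (P.presheaf.stalk x) := hflat x hx hxf
    letI := TopCat.Presheaf.algebra_section_stalk X.presheaf (⟨x, hx⟩ : V)
    haveI : IsLocalization.AtPrime (X.presheaf.stalk x) (hV.primeIdealOf ⟨x, hx⟩).asIdeal :=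
      hV.isLocalization_stalk ⟨x, hx⟩
    have hnzd : (X.presheaf.germ V x hx).hom f ∈ nonZeroDivisors (X.presheaf.stalk x) :=
      IsLocalization.map_nonZeroDivisors_le (hV.primeIdealOf ⟨x, hx⟩).asIdeal.primeCompl _
        (Submonoid.mem_map_of_mem _ hf0)
    exact (Module.Flat.isSMulRegular_of_nonZeroDivisors hnzd) (h1.trans (smul_zero _).symm)

/-- If `F` is flat along the centre, the pullback `b^*F` is its own strict transform. -/
theorem strict_id {S S' : Scheme.{u}} (𝓘 : S.IdealSheafData) (b : S' ⟶ S)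
    (hb : BlowUp.IsBlowUp b 𝓘) (F : S.Modules) [F.IsQuasicoherent]
    (hflat : ∀ s : S, s ∈ 𝓘.support → FlatMod.IsFlatAt F s) :
    BlowUp.IsStrictTransform b 𝓘 F ((Scheme.Modules.pullback b).obj F) (𝟙 _) := by
  refine ⟨inferInstance, fun V m => ?_⟩
  constructor
  · intro h
    have hm : m = 0 := h
    rw [hm]
    exact ⟨0, fun a _ => smul_zero a⟩
  · rintro ⟨n, hn⟩
    show m = 0
    apply QcqsLoc.eq_zero_of_cover
    intro x hx
    obtain ⟨V₀, hxV₀, f, hf0, hf⟩ := hb.1 x
    obtain ⟨a, haV, hxa⟩ := V₀.2.exists_basicOpen_le (V := V.1) ⟨x, hx⟩ hxV₀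
    refine ⟨(S'.affineBasicOpen a).1, haV, hxa, ?_⟩
    obtain ⟨f', hf'def⟩ : ∃ f' : Γ(S', (S'.affineBasicOpen a).1), f' = rX (S'.basicOpen_le a) f :=
      ⟨_, rfl⟩
    have hf' : (𝓘.comap b).ideal (S'.affineBasicOpen a) = Ideal.span {f'} := by
      rw [hf'def]
      exact ideal_basicOpen (𝓘.comap b) V₀ f hf a
    have hnzd : f' ∈ nonZeroDivisors Γ(S', (S'.affineBasicOpen a).1) := by
      rw [hf'def]
      haveI := V₀.2.isLocalization_basicOpen a
      exact IsLocalization.map_nonZeroDivisors_le (Submonoid.powers a) Γ(S', S'.basicOpen a)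
        (Submonoid.mem_map_of_mem _ hf0)
    have hpow : f' ^ n ∈ ((𝓘.comap b) ^ n).ideal (S'.affineBasicOpen a) := by
      rw [Scheme.IdealSheafData.ideal_pow, Pi.pow_apply, hf', Ideal.span_singleton_pow]
      exact Ideal.mem_span_singleton_self _
    rw [← ((𝓘.comap b) ^ n).map_ideal (U := S'.affineBasicOpen a) (V := V) haV] at hpow
    have key : ∀ c ∈ Ideal.map (S'.presheaf.map (homOfLE haV).op).hom (((𝓘.comap b) ^ n).ideal V),
        c • rF ((Scheme.Modules.pullback b).obj F) haV m = 0 := by
      intro c hc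
      refine Submodule.span_induction ?_ ?_ ?_ ?_ hc
      · rintro _ ⟨a', ha', rfl⟩
        have := rF_smul ((Scheme.Modules.pullback b).obj F) haV a' m
        rw [hn a' ha', map_zero] at this
        exact this.symm
      · exact zero_smul _ _
      · intro y z _ _ hy hz
        rw [add_smul, hy, hz, add_zero]
      · intro r y _ hy
        rw [smul_eq_mul, mul_smul, hy, smul_zero]
    have h0 := key _ hpow
    refine eq_zero_of_smul_eq_zero_of_flat ((Scheme.Modules.pullback b).obj F)
      (S'.affineBasicOpen a).2 _ (pow_mem hnzd n) (fun y hy hyf => ?_) _ h0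
    apply isFlatAt_pullback
    apply hflat
    have hyE : y ∈ (𝓘.comap b).support := by
      rw [Scheme.IdealSheafData.mem_support_iff_of_mem (U := S'.affineBasicOpen a) hy,
        Scheme.mem_zeroLocus_iff]
      intro g hg hyg
      rw [hf'] at hg
      obtain ⟨c, rfl⟩ := Ideal.mem_span_singleton'.mp hg
      apply hyf
      rw [Scheme.mem_basicOpen _ _ _ hy] at hyg ⊢
      rw [map_mul] at hyg
      rw [map_pow]
      exact (isUnit_of_mul_isUnit_right hyg).pow n
    rw [Scheme.IdealSheafData.support_comap] at hyE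
    exact hyE


end StrictTrH8
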