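import Mathlib
import Groth.Agent.Lib.StrictTr5_helper8
import Groth.Agent.Lib.PB9_helper8
import Groth.Agent.Lib.FLF2_helper8
import Groth.Agent.Lib.FLF3_helper8
import Groth.Agent.Lib.FLF6_helper8
import Groth.Agent.Lib.FLF7_helper8
set_option autoImplicit false
open AlgebraicGeometry CategoryTheory CategoryTheory.Limits TopologicalSpace Opposite
open QcqsLoc QCohExtn
universe u
namespace StrictTrH8

section
variable {S S' : Scheme.{u}} (I : S.IdealSheafData) (b : S' ⟶ S) (hb : BlowUp.IsBlowUp b I)
  (F : S.Modules) (G : S'.Modules) (π : (Scheme.Modules.pullback b).obj F ⟶ G)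
  (hG : BlowUp.IsStrictTransform b I F G π)

include hb hG in
/-- Strict transforms of quasi-coherent finite type modules are quasi-coherent of finite type. -/
theorem strict_isCoh (hF : Coh.IsCoh F) : Coh.IsCoh G := by
  haveI : F.IsQuasicoherent := hF.1
  haveI : SheafOfModules.IsFiniteType (R := S.ringCatSheaf) F := hF.2
  haveI := PBH8.isQuasicoherent_pullback b F
  haveI := FpqcH8.isFiniteType_pullback b F
  haveI : Epi π := hG.1
  exact ⟨isQuasicoherent_target π hG.2 hb.1, isFiniteType_target π hG.2 hb.1⟩

include hb hG in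
/-- The strict transform of a finite locally free module is the pullback. -/
theorem strict_isIso_of_finLocFree (hF : FlatMod.IsFinLocFree F) :
    IsIso π ∧ FlatMod.IsFinLocFree G := by
  haveI : F.IsQuasicoherent := FLFH8.isQuasicoherent_of_finLocFree F hF
  haveI := PBH8.isQuasicoherent_pullback b F
  haveI : Epi π := hG.1
  haveI := isQuasicoherent_target π hG.2 hb.1
  have hid := strict_id I b hb F (fun s _ => by
    show Module.Flat _ _
    haveI := FLFH8.free_stalk_of_finLocFree F hF s
    infer_instance)
  have hiso : IsIso π := by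
    refine QCohCrit.isIso_of_bijective_on_cover π (fun V : S'.affineOpens => (V : S'.Opens))
      (fun V => V.2) ?_ ?_
    · rw [eq_top_iff]
      intro x _
      obtain ⟨_, ⟨V, hV : IsAffineOpen V, rfl⟩, hxV, -⟩ :=
        (S'.isBasis_affineOpens).exists_subset_of_mem_open (Set.mem_univ x) isOpen_univ
      exact Opens.mem_iSup.mpr ⟨⟨V, hV⟩, hxV⟩
    · intro V
      refine ⟨?_, app_surjective π hG.2 hb.1 V.2⟩
      rw [injective_iff_map_eq_zero]
      intro m hm
      exact (hid.2 V m).mpr ((hG.2 V m).mp hm)
  refine ⟨hiso, ?_⟩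
  haveI := hiso
  exact FLFH8.IsFinLocFree.of_iso (asIso π) (PBH8.isFinLocFree_pullback b hF)

end
end StrictTrH8
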