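import Mathlib
import Groth.Agent.Lib.CuspJac_lead

namespace Groth.Agent.Lib.StrictTr

open MvPolynomial Groth.Agent.Lib.CuspJac

noncomputable section

variable {R : Type*} [CommRing R]

abbrev rho : MvPolynomial (Fin 2) R →ₐ[R] Polynomial R :=
  MvPolynomial.aeval (![0, Polynomial.X] : Fin 2 → Polynomial R)

theorem w_zero : (![0, Polynomial.X] : Fin 2 → Polynomial R) 0 = 0 := rfl
theorem w_one : (![0, Polynomial.X] : Fin 2 → Polynomial R) 1 = Polynomial.X := rfl

theorem prod1 (u : Fin 2 →₀ ℕ) :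
    u.prod (fun j e => (![0, Polynomial.X] : Fin 2 → Polynomial R) j ^ e) =
      0 ^ u 0 * Polynomial.X ^ u 1 :=
  (Finsupp.prod_fintype u (fun j e => (![0, Polynomial.X] : Fin 2 → Polynomial R) j ^ e)
    (fun j => pow_zero _)).trans (by simp only [Fin.prod_univ_two, w_zero, w_one])

theorem coeff_rho (F : MvPolynomial (Fin 2) R) (j : ℕ) :
    (rho F).coeff j = MvPolynomial.coeff (mon 0 j) F := by
  induction F using MvPolynomial.induction_on' with
  | monomial u a =>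
    rw [MvPolynomial.aeval_monomial, prod1, MvPolynomial.coeff_monomial]
    by_cases h0 : u 0 = 0
    · rw [h0, pow_zero, one_mul, ← Polynomial.C_eq_algebraMap, Polynomial.coeff_C_mul_X_pow]
      by_cases h1 : j = u 1
      · rw [if_pos h1, if_pos]
        rw [mon_eta u, h0, ← h1]
      · rw [if_neg h1, if_neg]
        intro hu; apply h1; rw [hu, mon_one]
    · rw [zero_pow h0, zero_mul, mul_zero, Polynomial.coeff_zero, if_neg]
      intro hu; apply h0; rw [hu, mon_zero]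
  | add p q hp hq => rw [map_add, Polynomial.coeff_add, MvPolynomial.coeff_add, hp, hq]

theorem rho_X0 : rho (X 0 : MvPolynomial (Fin 2) R) = 0 := by
  show MvPolynomial.aeval _ (X 0) = 0
  rw [aeval_X]; rfl

theorem X0_dvd_of_rho_eq_zero (c : MvPolynomial (Fin 2) R) (h : rho c = 0) :
    ∃ c', c = X 0 * c' := by
  have hmem : c ∈ Ideal.span ((fun s => monomial s (1 : R)) '' {Finsupp.single (0 : Fin 2) 1}) := by
    rw [mem_ideal_span_monomial_image]
    intro s hs
    refine ⟨Finsupp.single 0 1, Set.mem_singleton _, single_le_of s 0 1 ?_⟩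
    by_contra hlt
    have h0 : s 0 = 0 := by omega
    apply MvPolynomial.mem_support_iff.mp hs
    rw [mon_eta s, h0, ← coeff_rho, h, Polynomial.coeff_zero]
  rw [Set.image_singleton] at hmem
  obtain ⟨c', hc'⟩ := Ideal.mem_span_singleton.mp hmem
  exact ⟨c', hc'⟩

theorem X0_cancel (p q : MvPolynomial (Fin 2) R) (h : X 0 * p = X 0 * q) : p = q := by
  ext m
  have h1 := congrArg (MvPolynomial.coeff (Finsupp.single 0 1 + m)) h
  rwa [coeff_X_mul, coeff_X_mul] at h1

theorem sat_key (F : MvPolynomial (Fin 2) R) (hF : ∀ c : Polynomial R, c * rho F = 0 → c = 0) :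
    ∀ (n : ℕ) (s : MvPolynomial (Fin 2) R),
      X 0 ^ n * s ∈ Ideal.span ({F} : Set (MvPolynomial (Fin 2) R)) →
      s ∈ Ideal.span ({F} : Set (MvPolynomial (Fin 2) R)) := by
  intro n
  induction n with
  | zero => intro s h; rwa [pow_zero, one_mul] at h
  | succ n ih =>
    intro s h
    apply ih
    obtain ⟨c, hc⟩ := Ideal.mem_span_singleton'.mp h
    have hρ : rho c * rho F = 0 := by
      rw [← map_mul, hc, map_mul, map_pow, rho_X0, zero_pow (Nat.succ_ne_zero n), zero_mul]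
    obtain ⟨c', rfl⟩ := X0_dvd_of_rho_eq_zero c (hF _ hρ)
    apply Ideal.mem_span_singleton'.mpr
    refine ⟨c', ?_⟩
    apply X0_cancel
    rw [← mul_assoc, hc]
    ring

theorem sat_iff (F : MvPolynomial (Fin 2) R) (hF : ∀ c : Polynomial R, c * rho F = 0 → c = 0)
    (s : MvPolynomial (Fin 2) R) :
    (∃ n : ℕ, X 0 ^ n * s ∈ Ideal.span ({X 0 ^ 2 * F} : Set (MvPolynomial (Fin 2) R))) ↔
      s ∈ Ideal.span ({F} : Set (MvPolynomial (Fin 2) R)) := by
  constructor
  · rintro ⟨n, hn⟩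
    apply sat_key F hF n s
    obtain ⟨c, hc⟩ := Ideal.mem_span_singleton'.mp hn
    exact Ideal.mem_span_singleton'.mpr ⟨c * X 0 ^ 2, by rw [← hc]; ring⟩
  · intro hs
    obtain ⟨c, hc⟩ := Ideal.mem_span_singleton'.mp hs
    exact ⟨2, Ideal.mem_span_singleton'.mpr ⟨c, by rw [← hc]; ring⟩⟩

theorem nzd1 (a₁ a₂ : R) : ∀ c : Polynomial R,
    c * rho (1 + C a₁ * X 1 - X 0 * X 1 ^ 3 - C a₂ * X 1 ^ 2 : MvPolynomial (Fin 2) R) = 0 →
      c = 0 := by
  have hρ : rho (1 + C a₁ * X 1 - X 0 * X 1 ^ 3 - C a₂ * X 1 ^ 2 : MvPolynomial (Fin 2) R) =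
      1 + Polynomial.C a₁ * Polynomial.X - Polynomial.C a₂ * Polynomial.X ^ 2 := by
    simp only [map_add, map_sub, map_mul, map_pow, map_one, aeval_X, aeval_C, w_zero, w_one,
      zero_mul, sub_zero]
    rfl
  intro c hc
  rw [hρ] at hc
  have hu : IsUnit ((1 + Polynomial.C a₁ * Polynomial.X - Polynomial.C a₂ * Polynomial.X ^ 2 :
      Polynomial R) : PowerSeries R) := by
    rw [PowerSeries.isUnit_iff_constantCoeff]
    simp
  have h1 : (c : PowerSeries R) * ((1 + Polynomial.C a₁ * Polynomial.X -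
      Polynomial.C a₂ * Polynomial.X ^ 2 : Polynomial R) : PowerSeries R) = 0 := by
    rw [← Polynomial.coe_mul, hc, Polynomial.coe_zero]
  have h2 : (c : PowerSeries R) = 0 := (hu.mul_left_eq_zero).mp h1
  exact Polynomial.coe_injective R (by rw [h2, Polynomial.coe_zero])

theorem nzd2 (a₁ a₂ : R) : ∀ c : Polynomial R,
    c * rho (X 1 ^ 2 + C a₁ * X 1 - X 0 - C a₂ : MvPolynomial (Fin 2) R) = 0 → c = 0 := by
  have hρ : rho (X 1 ^ 2 + C a₁ * X 1 - X 0 - C a₂ : MvPolynomial (Fin 2) R) =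
      Polynomial.X ^ 2 + Polynomial.C a₁ * Polynomial.X - Polynomial.C a₂ := by
    simp only [map_add, map_sub, map_mul, map_pow, aeval_X, aeval_C, w_zero, w_one, sub_zero]
    rfl
  intro c hc
  rw [hρ] at hc
  have hm : (Polynomial.X ^ 2 + Polynomial.C a₁ * Polynomial.X - Polynomial.C a₂ :
      Polynomial R).Monic := by
    apply Polynomial.monic_of_natDegree_le_of_coeff_eq_one 2
    · compute_degree
    · simp [Polynomial.coeff_X, Polynomial.coeff_C]
  exact hm.mul_left_eq_zero_iff.mp hc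

theorem main (R : Type*) [CommRing R] (a₁ a₂ : R) :
    (∀ s : MvPolynomial (Fin 2) R,
      (∃ n : ℕ, X 0 ^ n * s ∈ Ideal.span
        ({X 0 ^ 2 * (1 + C a₁ * X 1 - X 0 * X 1 ^ 3 - C a₂ * X 1 ^ 2)} :
        Set (MvPolynomial (Fin 2) R))) ↔
      s ∈ Ideal.span ({1 + C a₁ * X 1 - X 0 * X 1 ^ 3 - C a₂ * X 1 ^ 2} :
        Set (MvPolynomial (Fin 2) R))) ∧
    (∀ s : MvPolynomial (Fin 2) R,
      (∃ n : ℕ, X 0 ^ n * s ∈ Ideal.span ({X 0 ^ 2 * (X 1 ^ 2 + C a₁ * X 1 - X 0 - C a₂)} :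
        Set (MvPolynomial (Fin 2) R))) ↔
      s ∈ Ideal.span ({X 1 ^ 2 + C a₁ * X 1 - X 0 - C a₂} : Set (MvPolynomial (Fin 2) R))) :=
  ⟨fun s => sat_iff _ (nzd1 a₁ a₂) s, fun s => sat_iff _ (nzd2 a₁ a₂) s⟩

end

end Groth.Agent.Lib.StrictTr
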