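import Mathlib

/-!
# A classical generator of a category with a strong generator is a strong generator (helper9)
-/

open CategoryTheory CategoryTheory.Limits Pretriangulated

namespace StrongGen

universe v u

variable {C : Type u} [Category.{v} C] [HasZeroObject C] [HasShift C ℤ] [Preadditive C]
  [∀ n : ℤ, (shiftFunctor C n).Additive] [Pretriangulated C]

open ObjectProperty

/-- closed under products of pairs -/
def Pr (P : ObjectProperty C) : Prop :=
  ∀ (f : WalkingPair → C), (∀ j, P (f j)) → P (∏ᶜ f)

lemma pr_limitClosure (P : ObjectProperty C) : Pr P.binaryProductsClosure := by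
  intro f hf
  exact ObjectProperty.prop_pi _ f hf

lemma pr_retractClosure {P : ObjectProperty C} (h : Pr P) : Pr P.retractClosure := by
  intro f hf
  choose Y hY r using hf
  have r' : ∀ j, Retract (f j) (Y j) := fun j => (r j).some
  refine ⟨∏ᶜ Y, h Y hY, ⟨⟨Limits.Pi.map (fun j => (r' j).i), Limits.Pi.map (fun j => (r' j).r), ?_⟩⟩⟩
  rw [Limits.Pi.map_comp_map]
  simp

lemma pr_extensionProduct {P Q : ObjectProperty C} (hP : Pr P) (hQ : Pr Q) :
    Pr (extensionProduct P Q) := by
  intro f hf
  choose Y Z a b c hT hY hZ using hf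
  let T : WalkingPair → Triangle C := fun j => Triangle.mk (a j) (b j) (c j)
  have := productTriangle_distinguished T hT
  exact ⟨_, _, _, _, _, this, hP _ hY, hQ _ hZ⟩

lemma pr_extensionProductIter {P : ObjectProperty C} (hP : Pr P) (n : ℕ) :
    Pr (P.extensionProductIter n) := by
  induction n with
  | zero => rwa [extensionProductIter_zero]
  | succ n ih => rw [extensionProductIter_succ]; exact pr_extensionProduct hP ih

lemma pr_triangEnvelopeIter (P : ObjectProperty C) (n : ℕ) : Pr (P.triangEnvelopeIter n) :=
  pr_retractClosure (pr_extensionProductIter (pr_retractClosure (pr_limitClosure _)) n)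

lemma isClosedUnderBinaryProducts_of_pr {P : ObjectProperty C} [P.IsClosedUnderIsomorphisms]
    (h : Pr P) : P.IsClosedUnderBinaryProducts := by
  apply IsClosedUnderLimitsOfShape.mk'
  rintro _ ⟨F, hF⟩
  let e : F ≅ Discrete.functor (fun j => F.obj ⟨j⟩) := Discrete.natIsoFunctor
  exact P.prop_of_iso (HasLimit.isoOfNatIso e).symm (h _ (fun j => hF ⟨j⟩))

theorem main [IsTriangulated C] {P Q : ObjectProperty C} [Q.Nonempty] (m : ℕ)
    (h : P ≤ Q.triangEnvelopeIter m) (n : ℕ) :
    P.triangEnvelopeIter n ≤ Q.triangEnvelopeIter (n * (m + 1) + m) := by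
  haveI : (Q.triangEnvelopeIter m).IsClosedUnderBinaryProducts :=
    isClosedUnderBinaryProducts_of_pr (pr_triangEnvelopeIter Q m)
  haveI : (Q.triangEnvelopeIter m).Nonempty := Nonempty.mono (Q.le_triangEnvelopeIter m)
  have base : (P.shiftClosure ℤ).binaryProductsClosure.retractClosure ≤
      Q.triangEnvelopeIter m := by
    rw [retractClosure_le_iff, binaryProductsClosure_le_iff, shiftClosure_le_iff]
    exact h
  induction n with
  | zero =>
    rw [triangEnvelopeIter_zero]
    simpa using base
  | succ n ih =>
    rw [triangEnvelopeIter_succ]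
    have e : (n + 1) * (m + 1) + m = (m + 1) + (n * (m + 1) + m) := by ring
    rw [e, triangEnvelopeIter_add (P := Q) (n := m + 1) (m := n * (m + 1) + m) (n' := m) rfl]
    exact monotone_retractClosure
      ((monotone_extensionProduct_left _ base).trans (monotone_extensionProduct_right _ ih))

theorem strong_of_classical [IsTriangulated C] (G E : C)
    (hG : ObjectProperty.IsStrongTriangulatedGenerator (fun X : C => X = G))
    (hE : ObjectProperty.IsClassicalTriangulatedGenerator (fun X : C => X = E)) :
    ObjectProperty.IsStrongTriangulatedGenerator (fun X : C => X = E) := by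
  obtain ⟨n, hn⟩ := hG
  have hG' : (ObjectProperty.triangEnvelope (fun X : C => X = E)) G := by
    rw [isClassicalTriangulatedGenerator_iff] at hE
    rw [hE]
    trivial
  rw [prop_triangEnvelope_iff] at hG'
  obtain ⟨m, hm⟩ := hG'
  haveI : ObjectProperty.Nonempty (fun X : C => X = E) := nonempty_of_prop (X := E) rfl
  have h : (fun X : C => X = G) ≤ ObjectProperty.triangEnvelopeIter (fun X : C => X = E) m := by
    intro X hX
    have : X = G := hX
    subst this
    exact hm
  refine ⟨n * (m + 1) + m, ?_⟩
  rw [eq_top_iff, ← hn]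
  exact main m h n

end StrongGen
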