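import Mathlib
import Groth.Agent.Lib.CSADescent_helper6
import Groth.Agent.Lib.PrimaryDecomp3_helper6

/-!
# Descending a finite-dimensional algebra to a subfield containing its structure constants (helper6)
-/

namespace Groth.Agent.Lib.StructConst

open scoped TensorProduct

variable {E F' D : Type*} [Field E] [Field F'] [Algebra E F'] [Ring D] [Algebra F' D]
  [Algebra E D] [IsScalarTower E F' D] {ι : Type*} [Fintype ι] (b : Module.Basis ι F' D)

theorem one_mem (hone : ∀ k, b.repr 1 k ∈ (algebraMap E F').range) :
    (1 : D) ∈ Submodule.span E (Set.range b) := by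
  rw [← b.sum_repr 1]
  refine Submodule.sum_mem _ fun k _ => ?_
  obtain ⟨e, he⟩ := hone k
  rw [← he, algebraMap_smul]
  exact Submodule.smul_mem _ _ (Submodule.subset_span ⟨k, rfl⟩)

theorem mul_mem (hmul : ∀ i j k, b.repr (b i * b j) k ∈ (algebraMap E F').range) :
    ∀ x y : D, x ∈ Submodule.span E (Set.range b) → y ∈ Submodule.span E (Set.range b) →
      x * y ∈ Submodule.span E (Set.range b) := by
  intro x y hx hy
  have h := Submodule.mul_mem_mul hx hy
  rw [Submodule.span_mul_span] at h
  refine (Submodule.span_le.2 ?_) h
  rintro _ ⟨_, ⟨i, rfl⟩, _, ⟨j, rfl⟩, rfl⟩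
  show b i * b j ∈ Submodule.span E (Set.range b)
  rw [← b.sum_repr (b i * b j)]
  refine Submodule.sum_mem _ fun k _ => ?_
  obtain ⟨e, he⟩ := hmul i j k
  rw [← he, algebraMap_smul]
  exact Submodule.smul_mem _ _ (Submodule.subset_span ⟨k, rfl⟩)

/-- the `E`-form of `D` spanned by the basis `b`. -/
noncomputable def sub (hmul : ∀ i j k, b.repr (b i * b j) k ∈ (algebraMap E F').range)
    (hone : ∀ k, b.repr 1 k ∈ (algebraMap E F').range) : Subalgebra E D :=
  Submodule.toSubalgebra (Submodule.span E (Set.range b)) (one_mem b hone) (mul_mem b hmul)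

variable (hmul : ∀ i j k, b.repr (b i * b j) k ∈ (algebraMap E F').range)
    (hone : ∀ k, b.repr 1 k ∈ (algebraMap E F').range)

theorem mem_sub (i : ι) : b i ∈ sub b hmul hone :=
  Submodule.subset_span ⟨i, rfl⟩

/-- the basis of the `E`-form. -/
noncomputable def basis : Module.Basis ι E (sub b hmul hone) :=
  Module.Basis.mk (v := fun i => (⟨b i, mem_sub b hmul hone i⟩ : sub b hmul hone))
    (by
      have h1 : LinearIndependent E (fun i => b i) :=
        b.linearIndependent.restrict_scalars
          (by
            intro x y hxy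
            have : algebraMap E F' x = algebraMap E F' y := by
              simpa [Algebra.smul_def] using hxy
            exact (algebraMap E F').injective this)
      refine LinearIndependent.of_comp (sub b hmul hone).val.toLinearMap ?_
      exact h1)
    (by
      have key : ∀ (x : D) (hx : x ∈ Submodule.span E (Set.range b)),
          (⟨x, hx⟩ : sub b hmul hone) ∈ Submodule.span E
            (Set.range fun i => (⟨b i, mem_sub b hmul hone i⟩ : sub b hmul hone)) := by
        intro x hx
        induction hx using Submodule.span_induction with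
        | mem x h =>
          obtain ⟨i, rfl⟩ := h
          exact Submodule.subset_span ⟨i, rfl⟩
        | zero => exact Submodule.zero_mem _
        | add x y hx hy ihx ihy => exact Submodule.add_mem _ ihx ihy
        | smul a x hx ihx => exact Submodule.smul_mem _ a ihx
      rintro ⟨x, hx⟩ -
      exact key x hx)

theorem basis_apply (i : ι) : ((basis b hmul hone i : sub b hmul hone) : D) = b i := by
  simp [basis]

/-- the comparison map `F' ⊗[E] D₀ → D`. -/
noncomputable def toD : F' ⊗[E] (sub b hmul hone) →ₐ[F'] D :=
  Algebra.TensorProduct.lift (Algebra.ofId F' D) (sub b hmul hone).val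
    (fun x y => (Algebra.commutes x _))

theorem toD_bijective : Function.Bijective (toD b hmul hone) := by
  let e : F' ⊗[E] (sub b hmul hone) ≃ₗ[F'] D :=
    (Algebra.TensorProduct.basis F' (basis b hmul hone)).equiv b (Equiv.refl ι)
  have h : (toD b hmul hone).toLinearMap = e.toLinearMap := by
    refine (Algebra.TensorProduct.basis F' (basis b hmul hone)).ext fun i => ?_
    rw [LinearEquiv.coe_coe, Module.Basis.equiv_apply]
    simp [toD, basis_apply]
  have h2 : ⇑(toD b hmul hone) = ⇑e := by
    ext x
    exact LinearMap.congr_fun h x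
  rw [h2]
  exact e.bijective

/-- the comparison isomorphism `F' ⊗[E] D₀ ≃ D`. -/
noncomputable def equivD : F' ⊗[E] (sub b hmul hone) ≃ₐ[F'] D :=
  AlgEquiv.ofBijective (toD b hmul hone) (toD_bijective b hmul hone)

theorem finite_sub : Module.Finite E (sub b hmul hone) :=
  Module.Finite.of_basis (basis b hmul hone)

theorem isCentral_sub [Algebra.IsCentral F' D] : Algebra.IsCentral E (sub b hmul hone) := by
  haveI : Algebra.IsCentral F' (F' ⊗[E] (sub b hmul hone)) :=
    Groth.Agent.Lib.PrimaryDecomp.isCentral_of_algEquiv F' (equivD b hmul hone).symm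
  exact Groth.Agent.Lib.CSADescent.isCentral_of_baseChange (K := F')

end Groth.Agent.Lib.StructConst
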