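import Mathlib
import Groth.Prelude.Def_HopfRep

/-! Smallest subcomodule containing a submodule, over a projective coalgebra. (helper3) -/

set_option autoImplicit false
universe u

open TensorProduct

namespace Groth.Agent.Lib.SubComodH3

variable {A : Type u} [CommRing A] {C : Type u} [AddCommGroup C] [Module A C] [Coalgebra A C]
variable {V : Type u} [AddCommGroup V] [Module A V] [HopfRep.Comod A C V]

/-- the slice map `(id ⊗ φ) : V ⊗ C → V`. -/
noncomputable def sl (φ : C →ₗ[A] A) : V ⊗[A] C →ₗ[A] V :=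
  (TensorProduct.rid A V).toLinearMap ∘ₗ LinearMap.lTensor V φ

@[simp] lemma sl_tmul (φ : C →ₗ[A] A) (v : V) (c : C) : sl φ (v ⊗ₜ[A] c) = φ c • v := by
  simp [sl]

/-- the coaction. -/
noncomputable abbrev ρ : V →ₗ[A] V ⊗[A] C := HopfRep.Comod.coact (k := A) (A := C)

/-- the candidate smallest subcomodule containing `M`. -/
noncomputable def gen (M : Submodule A V) : Submodule A V :=
  ⨆ φ : C →ₗ[A] A, M.map ((sl φ : V ⊗[A] C →ₗ[A] V) ∘ₗ (ρ (C := C) : V →ₗ[A] V ⊗[A] C))

lemma sl_mem_gen (M : Submodule A V) {m : V} (hm : m ∈ M) (φ : C →ₗ[A] A) :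
    sl φ (ρ (C := C) m) ∈ gen (C := C) M := by
  refine Submodule.mem_iSup_of_mem φ ?_
  exact ⟨m, hm, rfl⟩

lemma le_gen (M : Submodule A V) : M ≤ gen (C := C) M := by
  intro m hm
  have h := sl_mem_gen (C := C) M hm (CoalgebraStruct.counit (R := A) (A := C))
  have h2 : sl (CoalgebraStruct.counit (R := A) (A := C)) (ρ (C := C) m) = m := by
    have := LinearMap.congr_fun (HopfRep.Comod.counit_comp (k := A) (A := C) (V := V)) m
    simp only [LinearMap.comp_apply] at this
    simp only [sl, LinearMap.comp_apply, LinearEquiv.coe_coe]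
    rw [this]
    simp
  rwa [h2] at h

lemma gen_le_of_isSubcomod (M W' : Submodule A V)
    (hW' : HopfRep.IsSubcomod (k := A) (A := C) W') (hM : M ≤ W') : gen (C := C) M ≤ W' := by
  refine iSup_le fun φ => ?_
  rintro _ ⟨m, hm, rfl⟩
  obtain ⟨y, hy⟩ := hW' m (hM hm)
  simp only [LinearMap.comp_apply]
  change sl φ (HopfRep.Comod.coact (k := A) (A := C) m) ∈ W'
  rw [← hy]
  clear hy
  induction y using TensorProduct.induction_on with
  | zero => simp
  | tmul w c =>
    simp only [LinearMap.rTensor_tmul, Submodule.subtype_apply, sl_tmul]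
    exact W'.smul_mem _ w.2
  | add a b ha hb =>
    rw [map_add, map_add]
    exact W'.add_mem ha hb

/-- key consequence of coassociativity -/
lemma sl_coact_sl (φ' φ : C →ₗ[A] A) (m : V) :
    sl φ' (ρ (C := C) (sl φ (ρ (C := C) m))) =
      sl ((LinearMap.mul' A A) ∘ₗ (TensorProduct.map φ' φ) ∘ₗ
        (CoalgebraStruct.comul (R := A) (A := C))) (ρ (C := C) m) := by
  set L : V ⊗[A] (C ⊗[A] C) →ₗ[A] V :=
    (TensorProduct.rid A V).toLinearMap ∘ₗ
      LinearMap.lTensor V ((LinearMap.mul' A A) ∘ₗ (TensorProduct.map φ' φ)) with hL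
  have hco := LinearMap.congr_fun (HopfRep.Comod.coassoc (k := A) (A := C) (V := V)) m
  simp only [LinearMap.comp_apply, LinearEquiv.coe_coe] at hco
  have hR : sl ((LinearMap.mul' A A) ∘ₗ (TensorProduct.map φ' φ) ∘ₗ
        (CoalgebraStruct.comul (R := A) (A := C))) (ρ (C := C) m) =
      L ((CoalgebraStruct.comul (R := A) (A := C)).lTensor V (ρ (C := C) m)) := by
    simp only [sl, hL, LinearMap.comp_apply, LinearEquiv.coe_coe]
    congr 1
    rw [← LinearMap.comp_assoc, LinearMap.lTensor_comp, LinearMap.comp_apply]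
  rw [hR, ← hco]
  -- general statement on z
  have key : ∀ z : V ⊗[A] C, sl φ' (ρ (C := C) (sl φ z)) =
      L ((TensorProduct.assoc A V C C) ((ρ (C := C) : V →ₗ[A] V ⊗[A] C).rTensor C z)) := by
    intro z
    induction z using TensorProduct.induction_on with
    | zero => simp
    | tmul v c =>
      simp only [sl_tmul, LinearMap.rTensor_tmul, map_smul]
      generalize (ρ (A := A) (C := C) v) = y
      induction y using TensorProduct.induction_on with
      | zero => simp
      | tmul v' c' =>
        simp only [sl_tmul, TensorProduct.assoc_tmul, hL, LinearMap.comp_apply,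
          LinearMap.lTensor_tmul, TensorProduct.map_tmul, LinearMap.mul'_apply,
          LinearEquiv.coe_coe, TensorProduct.rid_tmul]
        rw [smul_smul, mul_comm]
      | add a b ha hb =>
        rw [map_add, smul_add, ha, hb, TensorProduct.add_tmul, map_add, map_add]
    | add a b ha hb =>
      simp only [map_add, ha, hb]
  exact key _

variable [Module.Projective A C]

/-- a dual-basis decomposition of elements of `V ⊗ C`. -/
lemma exists_decomp (s : C →ₗ[A] C →₀ A) (hs : Finsupp.linearCombination A id ∘ₗ s = .id)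
    (t : V ⊗[A] C) :
    ∃ S : Finset C, t = ∑ j ∈ S, (sl ((Finsupp.lapply j : (C →₀ A) →ₗ[A] A) ∘ₗ s) t) ⊗ₜ[A] j := by
  classical
  suffices h : ∃ S : Finset C, ∀ S' : Finset C, S ⊆ S' →
      t = ∑ j ∈ S', (sl ((Finsupp.lapply j : (C →₀ A) →ₗ[A] A) ∘ₗ s) t) ⊗ₜ[A] j by
    obtain ⟨S, hS⟩ := h
    exact ⟨S, hS S (Finset.Subset.refl _)⟩
  induction t using TensorProduct.induction_on with
  | zero => exact ⟨∅, fun S' _ => by simp⟩
  | tmul v c =>
    refine ⟨(s c).support, fun S' hS' => ?_⟩
    have hc : c = ∑ j ∈ S', (s c) j • j := by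
      have := LinearMap.congr_fun hs c
      simp only [LinearMap.comp_apply, LinearMap.id_apply] at this
      conv_lhs => rw [← this]
      rw [Finsupp.linearCombination_apply, Finsupp.sum]
      refine Finset.sum_subset hS' ?_
      intro j _ hj
      simp only [Finsupp.mem_support_iff, not_not] at hj
      simp [hj]
    conv_lhs => rw [hc]
    rw [TensorProduct.tmul_sum]
    refine Finset.sum_congr rfl fun j _ => ?_
    simp only [sl_tmul, LinearMap.comp_apply, Finsupp.lapply_apply]
    rw [TensorProduct.tmul_smul, TensorProduct.smul_tmul']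
  | add a b ha hb =>
    obtain ⟨Sa, hSa⟩ := ha
    obtain ⟨Sb, hSb⟩ := hb
    refine ⟨Sa ∪ Sb, fun S' hS' => ?_⟩
    have h1 := hSa S' (Finset.union_subset_left hS')
    have h2 := hSb S' (Finset.union_subset_right hS')
    conv_lhs => rw [h1, h2]
    rw [← Finset.sum_add_distrib]
    refine Finset.sum_congr rfl fun j _ => ?_
    rw [map_add, TensorProduct.add_tmul]

lemma isSubcomod_gen (M : Submodule A V) : HopfRep.IsSubcomod (k := A) (A := C) (gen (C := C) M) := by
  classical
  obtain ⟨s, hs⟩ := (Module.projective_def' (R := A) (P := C)).1 inferInstance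
  -- it suffices to treat generators
  have hgen : ∀ (m : V), m ∈ M → ∀ φ : C →ₗ[A] A,
      ρ (C := C) (sl φ (ρ (C := C) m)) ∈
        LinearMap.range ((gen (C := C) M).subtype.rTensor C) := by
    intro m hm φ
    obtain ⟨S, hS⟩ := exists_decomp (V := V) s hs (ρ (C := C) (sl φ (ρ (C := C) m)))
    rw [hS]
    refine Submodule.sum_mem _ fun j _ => ?_
    rw [sl_coact_sl]
    refine ⟨⟨_, sl_mem_gen (C := C) M hm ((LinearMap.mul' A A) ∘ₗ
      (TensorProduct.map ((Finsupp.lapply j : (C →₀ A) →ₗ[A] A) ∘ₗ s) φ) ∘ₗ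
        (CoalgebraStruct.comul (R := A) (A := C)))⟩ ⊗ₜ[A] j, ?_⟩
    simp
  intro w hw
  change ρ (C := C) w ∈ _
  have : gen (C := C) M ≤ (LinearMap.range ((gen (C := C) M).subtype.rTensor C)).comap
      (ρ (C := C) : V →ₗ[A] V ⊗[A] C) := by
    refine iSup_le fun φ => ?_
    rintro _ ⟨m, hm, rfl⟩
    exact hgen m hm φ
  exact this hw

lemma fg_gen (M : Submodule A V) (hM : M.FG) : (gen (C := C) M).FG := by
  classical
  obtain ⟨s, hs⟩ := (Module.projective_def' (R := A) (P := C)).1 inferInstance
  obtain ⟨T, hT⟩ := hM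
  choose S hS using fun m : V => exists_decomp (V := V) s hs (ρ (C := C) m)
  let G : Finset V := T.biUnion fun m => (S m).image fun j =>
    sl ((Finsupp.lapply j : (C →₀ A) →ₗ[A] A) ∘ₗ s) (ρ (C := C) m)
  refine ⟨G, le_antisymm ?_ ?_⟩
  · rw [Submodule.span_le]
    intro x hx
    simp only [G, Finset.coe_biUnion, Finset.coe_image, Set.mem_iUnion, Set.mem_image,
      Finset.mem_coe] at hx
    obtain ⟨m, hm, j, _, rfl⟩ := hx
    have hmM : m ∈ M := by
      rw [← hT]
      exact Submodule.subset_span hm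
    exact sl_mem_gen (C := C) M hmM _
  · refine iSup_le fun φ => ?_
    rw [← hT, Submodule.map_span, Submodule.span_le]
    rintro _ ⟨m, hm, rfl⟩
    simp only [LinearMap.comp_apply]
    conv =>
      arg 2
      rw [hS m]
    rw [map_sum]
    refine Submodule.sum_mem _ fun j hj => ?_
    rw [sl_tmul]
    refine Submodule.smul_mem _ _ (Submodule.subset_span ?_)
    simp only [G, Finset.coe_biUnion, Finset.coe_image, Set.mem_iUnion, Set.mem_image,
      Finset.mem_coe]
    exact ⟨m, hm, j, hj, rfl⟩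

end Groth.Agent.Lib.SubComodH3
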