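import Mathlib
import Groth.Prelude.Def_CohTop
import Groth.Agent.Lib.ConstIrred_helper2
import Groth.Agent.Lib.ExtZero_helper9

/-!
# Subsheaves of the constant sheaf `ℤ` on an irreducible space

On an irreducible space, a subsheaf `H` of the constant sheaf `ℤ` is, over a suitable nonempty
open `U`, equal to `d ℤ` for some integer `d` (`d` is the smallest positive value taken by a
section of `H`, or `0` if `H = 0`).
-/

universe u

open CategoryTheory CategoryTheory.Limits Opposite TopologicalSpace
open Groth.Agent.Lib.ConstIrred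

namespace SubConst

open AffVanish (Sec rs apS)
open ResCoh (im)

/-- The model of the constant sheaf `ℤ` on an irreducible space. -/
noncomputable abbrev PP (X : TopCat.{u}) [IrreducibleSpace X] : CohTop.Ab X :=
  PcSheaf X (ULift.{u} ℤ)

theorem isIso_of_bijective {Y : TopCat.{u}} {F G : CohTop.Ab Y} (φ : F ⟶ G)
    (h : ∀ W : Opens Y, Function.Bijective (apS φ W)) : IsIso φ := by
  haveI : ∀ W : (Opens Y)ᵒᵖ, IsIso (φ.hom.app W) := fun W => by
    rw [ConcreteCategory.isIso_iff_bijective]
    exact h W.unop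
  haveI : IsIso φ.hom := NatIso.isIso_of_isIso_app _
  haveI : IsIso ((sheafToPresheaf (Opens.grothendieckTopology Y) AddCommGrpCat.{u}).map φ) :=
    (inferInstance : IsIso φ.hom)
  exact isIso_of_reflects_iso φ (sheafToPresheaf (Opens.grothendieckTopology Y) AddCommGrpCat.{u})

variable {X : TopCat.{u}} [IrreducibleSpace X] (H : CohTop.Ab X) (κ : H ⟶ PP X)

/-- The value of a section of `H` over a nonempty open. -/
noncomputable def val (W : Opens X) (hW : Nonempty W) (s : Sec H W) : ℤ :=
  (toFun (X := X) (A := ULift.{u} ℤ) (V := W) (apS κ W s) hW).down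

theorem val_add (W : Opens X) (hW : Nonempty W) (s t : Sec H W) :
    val H κ W hW (s + t) = val H κ W hW s + val H κ W hW t := by
  unfold val
  rw [map_add]
  rfl

/-- `val` as an additive map. -/
noncomputable def valHom (W : Opens X) (hW : Nonempty W) : Sec H W →+ ℤ :=
  AddMonoidHom.mk' (val H κ W hW) (val_add H κ W hW)

theorem val_map {V W : Opens X} (j : op V ⟶ op W) (hW : Nonempty W) (hV : Nonempty V)
    (s : Sec H V) : val H κ W hW ((H.obj.map j).hom s) = val H κ V hV s := by
  unfold val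
  have h1 : apS κ W ((H.obj.map j).hom s) = ((PP X).obj.map j).hom (apS κ V s) :=
    ConcreteCategory.congr_hom (κ.hom.naturality j) s
  rw [h1]
  rfl

theorem val_rs {W V : Opens X} (h : W ≤ V) (hW : Nonempty W) (hV : Nonempty V) (s : Sec H V) :
    val H κ W hW (rs H h s) = val H κ V hV s :=
  val_map H κ (homOfLE h).op hW hV s

theorem ap_eq_zero_of_val (W : Opens X) (s : Sec H W)
    (h : ∀ hW : Nonempty W, val H κ W hW s = 0) : apS κ W s = 0 := by
  refine toFun_injective (X := X) (A := ULift.{u} ℤ) (V := W) ?_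
  funext hW
  exact ULift.ext _ _ (h hW)

theorem eq_zero_of_val [Mono κ] (W : Opens X) (s : Sec H W)
    (h : ∀ hW : Nonempty W, val H κ W hW s = 0) : s = 0 := by
  apply RpushVanish.injective_of_mono κ W
  rw [map_zero]
  exact ap_eq_zero_of_val H κ W s h

/-- A section of the model sheaf from a function. -/
noncomputable def mkSec (W : Opens X) (g : Nonempty W → ℤ) : Sec (PP X) W :=
  fun h => ULift.up (g h.down)

theorem toFun_mkSec (W : Opens X) (g : Nonempty W → ℤ) (hW : Nonempty W) :
    toFun (X := X) (A := ULift.{u} ℤ) (V := W) (mkSec W g) hW = ULift.up (g hW) := rfl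

section Psi

variable (U : Opens X) (d : ℤ)
  (hdvd : ∀ (W : Opens X), W ≤ U → ∀ (hW : Nonempty W) (t : Sec H W), d ∣ val H κ W hW t)

/-- Division by `d` on sections. -/
noncomputable def psiFun (W : Opens X) (hWU : W ≤ U) : Sec H W →+ Sec (PP X) W :=
  AddMonoidHom.mk' (fun t => mkSec W (fun hW => val H κ W hW t / d)) (by
    intro a b
    refine toFun_injective (X := X) (A := ULift.{u} ℤ) (V := W) ?_
    funext hW
    show ULift.up (val H κ W hW (a + b) / d) =
      ULift.up (val H κ W hW a / d) + ULift.up (val H κ W hW b / d)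
    rw [val_add, Int.add_ediv_of_dvd_left (hdvd W hWU hW a)]
    rfl)

theorem toFun_psiFun (W : Opens X) (hWU : W ≤ U) (t : Sec H W) (hW : Nonempty W) :
    toFun (X := X) (A := ULift.{u} ℤ) (V := W) (psiFun H κ U d hdvd W hWU t) hW =
      ULift.up (val H κ W hW t / d) := rfl

/-- Division by `d` as a morphism of sheaves on `U`. -/
noncomputable def psi : CohTop.restr H U ⟶ CohTop.restr (PP X) U :=
  ⟨{ app := fun W' => AddCommGrpCat.ofHom
        (psiFun H κ U d hdvd ((im U).obj W'.unop) (ExtZero.im_le U W'.unop))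
     naturality := fun W₁ W₂ i => by
       ext t
       refine toFun_injective (X := X) (A := ULift.{u} ℤ) (V := (im U).obj W₂.unop) ?_
       funext hW
       by_cases h1 : Nonempty ((im U).obj W₁.unop)
       · show ULift.up (val H κ ((im U).obj W₂.unop) hW
            ((H.obj.map ((im U).op.map i)).hom t) / d) =
            ULift.up (val H κ ((im U).obj W₁.unop) h1 t / d)
         rw [val_map H κ ((im U).op.map i) hW h1 t]
       · exact (h1 (hW.map (fun x => ⟨x.1, (leOfHom ((im U).op.map i).unop) x.2⟩))).elim }⟩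

theorem apS_psi (W' : Opens (TopCat.of U)) (t : Sec H ((im U).obj W')) :
    apS (psi H κ U d hdvd) W' t =
      psiFun H κ U d hdvd ((im U).obj W') (ExtZero.im_le U W') t := rfl

end Psi

/-- Evaluation of a morphism on a section, additive in the morphism. -/
noncomputable def evalHom {Y : TopCat.{u}} (F G : CohTop.Ab Y) (W : Opens Y) (t : Sec F W) :
    (F ⟶ G) →+ Sec G W :=
  AddMonoidHom.mk' (fun φ => apS φ W t) (fun φ φ' => by
    show ((φ + φ').hom.app (op W)).hom t = _
    rw [Sheaf.Hom.add_app]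
    rfl)

theorem main [Mono κ]
    (hne : ∃ (V : Opens X) (hV : Nonempty V) (s : Sec H V), val H κ V hV s ≠ 0) :
    ∃ (U : Opens X) (d : ℤ), U ≠ ⊥ ∧ ∃ ψ : CohTop.restr H U ≅ CohTop.restr (PP X) U,
      ψ.hom ≫ (d • 𝟙 (CohTop.restr (PP X) U)) = (CohTop.restrFunctor U).map κ := by
  classical
  have hpos : ∃ n : ℕ, 0 < n ∧ ∃ (V : Opens X) (hV : Nonempty V) (s : Sec H V),
      val H κ V hV s = (n : ℤ) := by
    obtain ⟨V, hV, s, hs⟩ := hne
    rcases lt_or_gt_of_ne hs with hlt | hgt
    · refine ⟨(-(val H κ V hV s)).toNat, by omega, V, hV, -s, ?_⟩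
      have : val H κ V hV (-s) = -(val H κ V hV s) := map_neg (valHom H κ V hV) s
      rw [this, Int.toNat_of_nonneg (by omega)]
    · refine ⟨(val H κ V hV s).toNat, by omega, V, hV, s, ?_⟩
      rw [Int.toNat_of_nonneg (by omega)]
  obtain ⟨hd0, U, hU, s₀, hs₀⟩ := Nat.find_spec hpos
  have hmin := fun m => Nat.find_min hpos (m := m)
  generalize Nat.find hpos = d at hd0 hs₀ hmin
  have hdZ : (0 : ℤ) < d := by exact_mod_cast hd0
  have hdvd : ∀ (W : Opens X), W ≤ U → ∀ (hW : Nonempty W) (t : Sec H W),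
      (d : ℤ) ∣ val H κ W hW t := by
    intro W hWU hW t
    by_contra hnd
    have hr0 : 0 ≤ val H κ W hW t % (d : ℤ) := Int.emod_nonneg _ (by omega)
    have hr1 : val H κ W hW t % (d : ℤ) < d := Int.emod_lt_of_pos _ hdZ
    have hrne : val H κ W hW t % (d : ℤ) ≠ 0 := fun h => hnd (Int.dvd_of_emod_eq_zero h)
    have hval : val H κ W hW (t - (val H κ W hW t / (d : ℤ)) • rs H hWU s₀) =
        val H κ W hW t % (d : ℤ) := by
      have e1 : val H κ W hW (t - (val H κ W hW t / (d : ℤ)) • rs H hWU s₀) =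
          val H κ W hW t - (val H κ W hW t / (d : ℤ)) • val H κ W hW (rs H hWU s₀) := by
        have := map_sub (valHom H κ W hW) t ((val H κ W hW t / (d : ℤ)) • rs H hWU s₀)
        rw [map_zsmul] at this
        exact this
      rw [e1, val_rs H κ hWU hW hU s₀, hs₀, smul_eq_mul, Int.emod_def, mul_comm]
    refine hmin (val H κ W hW t % (d : ℤ)).toNat (by omega) ⟨by omega, W, hW,
      t - (val H κ W hW t / (d : ℤ)) • rs H hWU s₀, ?_⟩
    rw [hval, Int.toNat_of_nonneg hr0]
  refine ⟨U, d, ?_, ?_⟩
  · intro h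
    obtain ⟨⟨x, hx⟩⟩ := hU
    rw [h] at hx
    exact hx
  have hinj : ∀ W' : Opens (TopCat.of U), Function.Injective (apS (psi H κ U d hdvd) W') := by
    intro W'
    rw [injective_iff_map_eq_zero]
    intro t ht
    refine eq_zero_of_val H κ _ t (fun hW => ?_)
    have h1 := congrArg (fun z => (toFun (X := X) (A := ULift.{u} ℤ) (V := (im U).obj W') z hW).down) ht
    have h2 : val H κ ((im U).obj W') hW t / (d : ℤ) = 0 := h1
    have h3 := Int.ediv_mul_cancel (hdvd _ (ExtZero.im_le U W') hW t)
    rw [h2, zero_mul] at h3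
    exact h3.symm
  have hsurj : ∀ W' : Opens (TopCat.of U), Function.Surjective (apS (psi H κ U d hdvd) W') := by
    intro W' g
    by_cases hW : Nonempty ((im U).obj W')
    · refine ⟨(toFun (X := X) (A := ULift.{u} ℤ) (V := (im U).obj W') g hW).down •
        rs H (ExtZero.im_le U W') s₀, ?_⟩
      refine toFun_injective (X := X) (A := ULift.{u} ℤ) (V := (im U).obj W') ?_
      funext hW'
      rw [apS_psi, toFun_psiFun]
      refine ULift.ext _ _ ?_
      show val H κ ((im U).obj W') hW' _ / (d : ℤ) = _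
      have e1 : val H κ ((im U).obj W') hW'
          ((toFun (X := X) (A := ULift.{u} ℤ) (V := (im U).obj W') g hW).down •
            rs H (ExtZero.im_le U W') s₀) =
          (toFun (X := X) (A := ULift.{u} ℤ) (V := (im U).obj W') g hW).down •
            val H κ ((im U).obj W') hW' (rs H (ExtZero.im_le U W') s₀) :=
        map_zsmul (valHom H κ ((im U).obj W') hW') _ _
      rw [e1, val_rs H κ (ExtZero.im_le U W') hW' hU s₀, hs₀, smul_eq_mul,
        Int.mul_ediv_cancel _ (by omega)]
    · refine ⟨0, ?_⟩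
      refine toFun_injective (X := X) (A := ULift.{u} ℤ) (V := (im U).obj W') ?_
      funext hW'
      exact (hW hW').elim
  haveI : IsIso (psi H κ U d hdvd) := isIso_of_bijective _ (fun W' => ⟨hinj W', hsurj W'⟩)
  refine ⟨asIso (psi H κ U d hdvd), ?_⟩
  rw [asIso_hom, Preadditive.comp_zsmul, Category.comp_id]
  ext : 2
  funext W'
  ext t
  show apS ((d : ℤ) • psi H κ U d hdvd) W'.unop t = apS κ ((im U).obj W'.unop) t
  have e1 : apS ((d : ℤ) • psi H κ U d hdvd) W'.unop t =
      (d : ℤ) • apS (psi H κ U d hdvd) W'.unop t :=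
    map_zsmul (evalHom (CohTop.restr H U) (CohTop.restr (PP X) U) W'.unop t) _ _
  rw [e1]
  refine toFun_injective (X := X) (A := ULift.{u} ℤ) (V := (im U).obj W'.unop) ?_
  funext hW
  refine ULift.ext _ _ ?_
  show (d : ℤ) • (val H κ ((im U).obj W'.unop) hW t / (d : ℤ)) = val H κ ((im U).obj W'.unop) hW t
  rw [smul_eq_mul]
  exact Int.mul_ediv_cancel' (hdvd _ (ExtZero.im_le U W'.unop) hW t)

theorem final (ι : H ⟶ CohTop.const X (ULift.{u} ℤ)) [Mono ι] :
    ∃ (U : Opens X) (d : ℤ), U ≠ ⊥ ∧
      imageSubobject ((CohTop.restrFunctor U).map ι) =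
        imageSubobject ((CohTop.restrFunctor U).map (d • 𝟙 (CohTop.const X (ULift.{u} ℤ)))) := by
  classical
  have hικ : ι = (ι ≫ (constIso X (ULift.{u} ℤ)).hom) ≫ (constIso X (ULift.{u} ℤ)).inv := by
    rw [Category.assoc, Iso.hom_inv_id, Category.comp_id]
  haveI : Mono (ι ≫ (constIso X (ULift.{u} ℤ)).hom) := mono_comp ι _
  by_cases hne : ∃ (V : Opens X) (hV : Nonempty V) (s : Sec H V),
      val H (ι ≫ (constIso X (ULift.{u} ℤ)).hom) V hV s ≠ 0
  · obtain ⟨U, d, hU, ψ, hψ⟩ := main H (ι ≫ (constIso X (ULift.{u} ℤ)).hom) hne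
    refine ⟨U, d, hU, ?_⟩
    have e1 : (CohTop.restrFunctor U).map (d • 𝟙 (CohTop.const X (ULift.{u} ℤ))) =
        d • 𝟙 ((CohTop.restrFunctor U).obj (CohTop.const X (ULift.{u} ℤ))) := by
      rw [Functor.map_zsmul, CategoryTheory.Functor.map_id]
    have e2 : (CohTop.restrFunctor U).map ι =
        (ψ.hom ≫ (CohTop.restrFunctor U).map (constIso X (ULift.{u} ℤ)).inv) ≫
          (d • 𝟙 ((CohTop.restrFunctor U).obj (CohTop.const X (ULift.{u} ℤ)))) := by
      conv_lhs => rw [hικ, Functor.map_comp, ← hψ]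
      simp only [Category.assoc, Preadditive.zsmul_comp, Preadditive.comp_zsmul,
        Category.id_comp, Category.comp_id]
    rw [e1, e2]
    exact imageSubobject_iso_comp _ _
  · push Not at hne
    have hκ : ι ≫ (constIso X (ULift.{u} ℤ)).hom = 0 := by
      ext : 2
      funext W
      ext t
      exact ap_eq_zero_of_val H _ W.unop t (fun hW => hne W.unop hW t)
    have hι : ι = 0 := by rw [hικ, hκ, zero_comp]
    refine ⟨⊤, 0, ?_, ?_⟩
    · intro h
      have hx : (Classical.arbitrary X) ∈ (⊤ : Opens X) := trivial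
      rw [h] at hx
      exact hx
    · rw [hι, zero_smul, Functor.map_zero, Functor.map_zero, imageSubobject_zero,
        imageSubobject_zero]

end SubConst
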