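import Mathlib

set_option autoImplicit false
universe u
open CategoryTheory CategoryTheory.Limits

namespace Groth.Agent.Lib.SubCx_helper6

variable {R : Type u} [CommRing R] (F : CochainComplex (ModuleCat.{u} R) ℤ)
  {I : ℤ → Type u} (B : ∀ n, Module.Basis (I n) R (F.X n)) (T : ∀ n : ℤ, Set (F.X n))

/-- the basis elements needed to contain the sets `T n` and be stable under `d` -/
inductive Mem : (n : ℤ) → I n → Prop
  | base (n : ℤ) (x : F.X n) (hx : x ∈ T n) (e : I n) (he : (B n).repr x e ≠ 0) : Mem n e
  | step (n m : ℤ) (hm : n + 1 = m) (e : I n) (e' : I m) (h : Mem n e)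
      (he : (B m).repr ((F.d n m) ((B n) e)) e' ≠ 0) : Mem m e'

def S (n : ℤ) : Set (I n) := {e | Mem F B T n e}

lemma lower (a : ℤ) (hT : ∀ n, ∀ x ∈ T n, a ≤ n) {n : ℤ} {e : I n} (h : Mem F B T n e) : a ≤ n := by
  induction h with
  | base n x hx e he => exact hT n x hx
  | step n m hm e e' h he ih => omega

lemma step_fin (hTf : ∀ n, (T n).Finite) (n : ℤ) (hfin : (S F B T n).Finite) :
    (S F B T (n + 1)).Finite := by
  refine Set.Finite.subset (Set.Finite.union
    (Set.Finite.biUnion (hTf (n + 1)) fun x _ => Finset.finite_toSet ((B (n + 1)).repr x).support)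
    (Set.Finite.biUnion hfin fun e _ =>
      Finset.finite_toSet ((B (n + 1)).repr ((F.d n (n + 1)) ((B n) e))).support)) ?_
  intro e' he'
  cases he' with
  | base _ x hx _ he =>
    left
    exact Set.mem_biUnion hx (Finset.mem_coe.mpr (Finsupp.mem_support_iff.mpr he))
  | step n' _ hm e _ hmem he =>
    obtain rfl : n' = n := by omega
    right
    exact Set.mem_biUnion (show e ∈ S F B T n' from hmem)
      (Finset.mem_coe.mpr (Finsupp.mem_support_iff.mpr he))

lemma S_empty (a : ℤ) (hT : ∀ n, ∀ x ∈ T n, a ≤ n) (n : ℤ) (hn : n < a) : S F B T n = ∅ :=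
  Set.eq_empty_of_forall_notMem fun e he => by
    have := lower F B T a hT he
    omega

lemma S_fin (a : ℤ) (hT : ∀ n, ∀ x ∈ T n, a ≤ n) (hTf : ∀ n, (T n).Finite) (n : ℤ) :
    (S F B T n).Finite := by
  by_cases h : a - 1 ≤ n
  · refine Int.le_induction (m := a - 1) (motive := fun n _ => (S F B T n).Finite) ?_ ?_ n h
    · rw [S_empty F B T a hT (a - 1) (by omega)]
      exact Set.finite_empty
    · intro n _ ih
      exact step_fin F B T hTf n ih
  · rw [S_empty F B T a hT n (by omega)]
    exact Set.finite_empty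

/-- the submodule spanned by the chosen basis elements -/
noncomputable def Gsub (n : ℤ) : Submodule R (F.X n) :=
  Submodule.span R (Set.range fun e : S F B T n => (B n) e)

lemma mem_Gsub {n : ℤ} (x : F.X n) (h : ∀ e, (B n).repr x e ≠ 0 → Mem F B T n e) :
    x ∈ Gsub F B T n := by
  rw [← (B n).linearCombination_repr x, Finsupp.linearCombination_apply]
  unfold Finsupp.sum
  refine Submodule.sum_mem _ fun e he => Submodule.smul_mem _ _ (Submodule.subset_span ?_)
  exact ⟨⟨e, h e (Finsupp.mem_support_iff.mp he)⟩, rfl⟩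

lemma d_mem (n m : ℤ) (x : F.X n) (hx : x ∈ Gsub F B T n) : (F.d n m) x ∈ Gsub F B T m := by
  by_cases hm : n + 1 = m
  · induction hx using Submodule.span_induction with
    | mem x hx =>
      obtain ⟨⟨e, he⟩, rfl⟩ := hx
      exact mem_Gsub F B T _ fun e' he' => Mem.step n m hm e e' he he'
    | zero => simp
    | add x y _ _ hx hy => rw [map_add]; exact Submodule.add_mem _ hx hy
    | smul r x _ hx => rw [map_smul]; exact Submodule.smul_mem _ _ hx
  · rw [F.shape n m hm]
    simp

/-- the subcomplex -/
noncomputable def G : CochainComplex (ModuleCat.{u} R) ℤ where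
  X n := ModuleCat.of R (Gsub F B T n)
  d n m := ModuleCat.ofHom ((F.d n m).hom.restrict (d_mem F B T n m))
  shape n m h := by
    ext x
    change (F.d n m) x.1 = 0
    rw [F.shape n m h]
    rfl
  d_comp_d' n m k _ _ := by
    ext x
    change (F.d m k) ((F.d n m) x.1) = 0
    have := congrArg (fun φ => φ.hom x.1) (F.d_comp_d n m k)
    exact this

noncomputable def ι : G F B T ⟶ F where
  f n := ModuleCat.ofHom (Gsub F B T n).subtype
  comm' n m _ := by
    ext x
    rfl

lemma ι_inj (n : ℤ) : Function.Injective ((ι F B T).f n) := Subtype.val_injective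

lemma subsingleton_of_S_empty (n : ℤ) (h : S F B T n = ∅) : Subsingleton (Gsub F B T n) := by
  have : Gsub F B T n = ⊥ := by
    unfold Gsub
    haveI : IsEmpty (S F B T n) := by rw [h]; infer_instance
    rw [Set.range_eq_empty, Submodule.span_empty]
  rw [this]
  infer_instance

lemma finite_G (a : ℤ) (hT : ∀ n, ∀ x ∈ T n, a ≤ n) (hTf : ∀ n, (T n).Finite) (n : ℤ) :
    Module.Finite R ((G F B T).X n) := by
  haveI : Finite (S F B T n) := (S_fin F B T a hT hTf n).to_subtype
  change Module.Finite R (Gsub F B T n)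
  exact Module.Finite.span_of_finite R (Set.finite_range _)

lemma free_G (n : ℤ) : Module.Free R ((G F B T).X n) := by
  change Module.Free R (Gsub F B T n)
  have hli : LinearIndependent R (fun e : S F B T n => (B n) e) :=
    (B n).linearIndependent.comp Subtype.val Subtype.val_injective
  exact Module.Free.of_basis (Module.Basis.span hli)

end Groth.Agent.Lib.SubCx_helper6
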