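import Mathlib
import Groth.Prelude.Def_EGA43
import Groth.Agent.Lib.RelDim3_helper8
import Groth.Agent.Lib.EquiComp_helper8

/-! EGA IV 13.3.x: dimension of an irreducible closed subscheme and the dimension formula. -/

universe u
open AlgebraicGeometry CategoryTheory TopologicalSpace IsLocalRing

namespace SubDimH8

open RelDimH8 Equi133H8

variable {X Y : Scheme.{u}}

/-- the induced morphism between the reduced closed subschemes. -/
theorem exists_lift (f : X ⟶ Y) (X' : Closeds X) :
    ∃ g' : (Scheme.IdealSheafData.vanishingIdeal X').subscheme ⟶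
        (Scheme.IdealSheafData.vanishingIdeal
          (⟨closure (f.base '' (X' : Set X)), isClosed_closure⟩ : Closeds Y)).subscheme,
      g' ≫ (Scheme.IdealSheafData.vanishingIdeal
          (⟨closure (f.base '' (X' : Set X)), isClosed_closure⟩ : Closeds Y)).subschemeι =
        (Scheme.IdealSheafData.vanishingIdeal X').subschemeι ≫ f := by
  have h1 := Scheme.IdealSheafData.map_vanishingIdeal f X'
  have h2 : ((Scheme.IdealSheafData.vanishingIdeal X').subschemeι ≫ f).ker =
      (Scheme.IdealSheafData.vanishingIdeal X').map f := rfl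
  have h3 : (Scheme.IdealSheafData.vanishingIdeal
      (⟨closure (f.base '' (X' : Set X)), isClosed_closure⟩ : Closeds Y)).subschemeι.ker ≤
      ((Scheme.IdealSheafData.vanishingIdeal X').subschemeι ≫ f).ker := by
    rw [Scheme.IdealSheafData.ker_subschemeι, h2, h1]
    exact le_of_eq rfl
  exact ⟨IsClosedImmersion.lift _ _ h3, IsClosedImmersion.lift_fac _ _ h3⟩

theorem fibCoh_comp_of_injective {U V T : Scheme.{u}} (h : U ⟶ V) (j : V ⟶ T)
    (hj : Function.Injective j.base) (u : U) :
    FibCohH8.fibCoh (h ≫ j) u = FibCohH8.fibCoh h u := by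
  unfold FibCohH8.fibCoh
  let φ : {u' : U // h u' = h u} → {u' : U // (h ≫ j) u' = (h ≫ j) u} :=
    fun a => ⟨a.1, congrArg j.base a.2⟩
  have hφ : φ ⟨u, rfl⟩ = ⟨u, rfl⟩ := rfl
  rw [← hφ]
  apply FibCohH8.coheight_eq_of_surj_embedding φ
  · intro a a'; rfl
  · rintro ⟨b, hb⟩
    exact ⟨⟨b, hj hb⟩, rfl⟩

theorem fibCoh_comp_le {U V T : Scheme.{u}} (i : U ⟶ V) (hi : Topology.IsEmbedding i.base)
    (f : V ⟶ T) (u : U) :
    FibCohH8.fibCoh (i ≫ f) u ≤ FibCohH8.fibCoh f (i.base u) := by
  unfold FibCohH8.fibCoh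
  let φ : {u' : U // (i ≫ f) u' = (i ≫ f) u} → {v' : V // f v' = f (i.base u)} :=
    fun a => ⟨i.base a.1, a.2⟩
  have hφ : φ ⟨u, rfl⟩ = ⟨i.base u, rfl⟩ := rfl
  rw [← hφ]
  apply Order.coheight_le_coheight_apply_of_strictMono
  intro a a' haa'
  rw [lt_iff_le_not_ge] at haa' ⊢
  constructor
  · exact (hi.isInducing.specializes_iff).mpr haa'.1
  · intro hcon
    exact haa'.2 ((hi.isInducing.specializes_iff).mp hcon)

theorem stalk_congr_dim {T : Scheme.{u}} {t t' : T} (h : t = t') :
    ringKrullDim (T.presheaf.stalk t) = ringKrullDim (T.presheaf.stalk t') := by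
  subst h; rfl

/-- The basic (in)equalities. -/
theorem facts [IsLocallyNoetherian Y] (f : X ⟶ Y) [LocallyOfFiniteType f]
    (X' : Closeds X) (hirr : IsIrreducible (X' : Set X))
    (w : ↥(Scheme.IdealSheafData.vanishingIdeal X').subscheme)
    (v : ↥(Scheme.IdealSheafData.vanishingIdeal
      (⟨closure (f.base '' (X' : Set X)), isClosed_closure⟩ : Closeds Y)).subscheme)
    (hv : (Scheme.IdealSheafData.vanishingIdeal
      (⟨closure (f.base '' (X' : Set X)), isClosed_closure⟩ : Closeds Y)).subschemeι.base v =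
        f.base ((Scheme.IdealSheafData.vanishingIdeal X').subschemeι.base w))
    (η' : Y) (hη' : closure ({η'} : Set Y) = closure (f.base '' (X' : Set X))) :
    ∃ a a' b' c c' n E0 : ℕ,
      ringKrullDim (Y.presheaf.stalk
        (f.base ((Scheme.IdealSheafData.vanishingIdeal X').subschemeι.base w))) = a ∧
      ringKrullDim ((Scheme.IdealSheafData.vanishingIdeal
        (⟨closure (f.base '' (X' : Set X)), isClosed_closure⟩ :
          Closeds Y)).subscheme.presheaf.stalk v) = a' ∧
      ringKrullDim ((Scheme.IdealSheafData.vanishingIdeal X').subscheme.presheaf.stalk w) = b' ∧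
      ringKrullDim ((f.fiber (f.base ((Scheme.IdealSheafData.vanishingIdeal X').subschemeι.base
        w))).presheaf.stalk (f.asFiber ((Scheme.IdealSheafData.vanishingIdeal
          X').subschemeι.base w))) = c ∧
      ringKrullDim ((((Scheme.IdealSheafData.vanishingIdeal X').subschemeι ≫ f).fiber
        (((Scheme.IdealSheafData.vanishingIdeal X').subschemeι ≫ f).base w)).presheaf.stalk
          (((Scheme.IdealSheafData.vanishingIdeal X').subschemeι ≫ f).asFiber w)) = c' ∧
      FlatMor.fibreDimAt ((Scheme.IdealSheafData.vanishingIdeal X').subschemeι ≫ f) w =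
        ((c' + n : ℕ) : WithBot ℕ∞) ∧
      FlatMor.fibreDimAt f ((Scheme.IdealSheafData.vanishingIdeal X').subschemeι.base w) =
        ((c + n : ℕ) : WithBot ℕ∞) ∧
      topologicalKrullDim ↥((X' : Set X) ∩ f.base ⁻¹' {η'}) = ((E0 : ℕ) : WithBot ℕ∞) ∧
      b' ≤ a' + c' ∧ a' ≤ a ∧ c' ≤ c ∧ b' + n ≤ a' + E0 ∧ E0 ≤ c' + n := by
  classical
  set ιX := (Scheme.IdealSheafData.vanishingIdeal X').subschemeι with hιX
  set ιY := (Scheme.IdealSheafData.vanishingIdeal
      (⟨closure (f.base '' (X' : Set X)), isClosed_closure⟩ : Closeds Y)).subschemeι with hιY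
  haveI : IsLocallyNoetherian X := LocallyOfFiniteType.isLocallyNoetherian f
  haveI : IsLocallyNoetherian (Scheme.IdealSheafData.vanishingIdeal X').subscheme :=
    LocallyOfFiniteType.isLocallyNoetherian (ιX ≫ f)
  haveI : IsLocallyNoetherian (Scheme.IdealSheafData.vanishingIdeal
      (⟨closure (f.base '' (X' : Set X)), isClosed_closure⟩ : Closeds Y)).subscheme :=
    LocallyOfFiniteType.isLocallyNoetherian ιY
  obtain ⟨g', hg'⟩ := exists_lift f X'
  haveI : LocallyOfFiniteType (g' ≫ ιY) := by rw [hg']; infer_instance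
  haveI : LocallyOfFiniteType g' := locallyOfFiniteType_of_comp g' ιY
  have hg'w : g'.base w = v := by
    apply ιY.isEmbedding.injective
    rw [hv]
    change (g' ≫ ιY).base w = _
    rw [hg']; rfl
  obtain ⟨a, ha⟩ := exists_nat_ringKrullDim (Y.presheaf.stalk (f.base (ιX.base w)))
  obtain ⟨a', ha'⟩ := exists_nat_ringKrullDim ((Scheme.IdealSheafData.vanishingIdeal
      (⟨closure (f.base '' (X' : Set X)), isClosed_closure⟩ :
        Closeds Y)).subscheme.presheaf.stalk v)
  obtain ⟨b', hb'⟩ := exists_nat_ringKrullDim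
    ((Scheme.IdealSheafData.vanishingIdeal X').subscheme.presheaf.stalk w)
  haveI := Groth.Agent.FibChainH8.isLocallyNoetherian_fiber f (f.base (ιX.base w))
  obtain ⟨c, hc⟩ := exists_nat_ringKrullDim
    ((f.fiber (f.base (ιX.base w))).presheaf.stalk (f.asFiber (ιX.base w)))
  haveI := Groth.Agent.FibChainH8.isLocallyNoetherian_fiber (ιX ≫ f) ((ιX ≫ f).base w)
  obtain ⟨c', hc'⟩ := exists_nat_ringKrullDim
    ((((ιX ≫ f).fiber ((ιX ≫ f).base w)).presheaf.stalk ((ιX ≫ f).asFiber w)))
  obtain ⟨n, hn⟩ := Groth.Agent.ResQuot2H8.exists_trdeg_nat (ιX ≫ f) w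
  have hn' : Dual3.resTrdeg (ιX ≫ f) w = n := hn
  have hnf : Dual3.resTrdeg f (ιX.base w) = n := by
    rw [← OpenAtCompH8.resTrdeg_closedImmersion_comp ιX f w]; exact hn'
  have hng' : Dual3.resTrdeg g' w = n := by
    have h1 := ResTrdegH8.resTrdeg_comp g' ιY w
    rw [ResTrdegH8.resTrdeg_eq_zero_of_lqf ιY, zero_add, ResTrdegH8.resTrdeg_congr hg'] at h1
    rw [← h1]; exact hn'
  -- the generic point
  obtain ⟨ξ, hξ⟩ := QuasiSober.sober hirr X'.isClosed
  have hξcl : closure {ξ} = (X' : Set X) := hξ.def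
  obtain ⟨ξ'', hξ'', hgen⟩ := EquidimIrrH8.exists_generic_subscheme X' ξ hξcl
  have hmax'' : ∀ b, b ⤳ ξ'' → b = ξ'' := fun b hb => (hb.antisymm (hgen b)).eq
  obtain ⟨E0, hE0⟩ := Groth.Agent.ResQuot2H8.exists_trdeg_nat (ιX ≫ f) ξ''
  have hE0' : Dual3.resTrdeg (ιX ≫ f) ξ'' = E0 := hE0
  have hE0f : Dual3.resTrdeg f ξ = E0 := by
    rw [← hξ'', ← OpenAtCompH8.resTrdeg_closedImmersion_comp ιX f ξ'']; exact hE0'
  have hE0g' : Dual3.resTrdeg g' ξ'' = E0 := by
    have h1 := ResTrdegH8.resTrdeg_comp g' ιY ξ''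
    rw [ResTrdegH8.resTrdeg_eq_zero_of_lqf ιY, zero_add, ResTrdegH8.resTrdeg_congr hg'] at h1
    rw [← h1]; exact hE0'
  -- fibre dimensions
  have hfw : FlatMor.fibreDimAt (ιX ≫ f) w = ((c' + n : ℕ) : WithBot ℕ∞) := by
    rw [FibCohH8.fibreDimAt_eq (ιX ≫ f) w, ← FibCohH8.stalk_fiber_eq_fibCoh, hc', hn',
      Cardinal.toENat_nat]
    push_cast; rfl
  have hfx : FlatMor.fibreDimAt f (ιX.base w) = ((c + n : ℕ) : WithBot ℕ∞) := by
    rw [FibCohH8.fibreDimAt_eq f (ιX.base w), ← FibCohH8.stalk_fiber_eq_fibCoh, hc, hnf,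
      Cardinal.toENat_nat]
    push_cast; rfl
  have hfξ : FlatMor.fibreDimAt (ιX ≫ f) ξ'' = ((E0 : ℕ) : WithBot ℕ∞) := by
    rw [FibGenH8.fibreDimAt_of_isMax _ ξ'' hmax'', hE0', Cardinal.toENat_nat]; rfl
  -- e'
  have he' : topologicalKrullDim ↥((X' : Set X) ∩ f.base ⁻¹' {η'}) =
      ((E0 : ℕ) : WithBot ℕ∞) := by
    have hηeq : η' = f.base ξ := by
      rw [← hξcl, EquiCompH8.closure_image_closure] at hη'
      have h3 : η' ⤳ f.base ξ := by
        rw [specializes_iff_mem_closure, hη']; exact subset_closure rfl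
      have h4 : f.base ξ ⤳ η' := by
        rw [specializes_iff_mem_closure, ← hη']; exact subset_closure rfl
      exact (h3.antisymm h4).eq
    rw [hηeq, ← hξcl, FibClosH8.dim_closure_inter_fiber, hE0f, Cardinal.toENat_nat]; rfl
  refine ⟨a, a', b', c, c', n, E0, ha, ha', hb', hc, hc', hfw, hfx, he', ?_, ?_, ?_, ?_, ?_⟩
  · -- F1
    have h1 := dim_stalk_le g' w
    haveI := Groth.Agent.FibChainH8.isLocallyNoetherian_fiber g' (g'.base w)
    rw [FibCohH8.stalk_fiber_eq_fibCoh g' w, ← fibCoh_comp_of_injective g' ιY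
      ιY.isEmbedding.injective w] at h1
    have h2 : FibCohH8.fibCoh (g' ≫ ιY) w = FibCohH8.fibCoh (ιX ≫ f) w := by rw [hg']
    rw [h2, ← FibCohH8.stalk_fiber_eq_fibCoh, hc', stalk_congr_dim hg'w, ha', hb'] at h1
    exact_mod_cast h1
  · -- F2
    have h1 : Function.Surjective (ιY.stalkMap v).hom := ιY.stalkMap_surjective v
    have h2 := ringKrullDim_le_of_surjective _ h1
    rw [stalk_congr_dim hv, ha, ha'] at h2
    exact_mod_cast h2
  · -- F3
    have h1 := fibCoh_comp_le ιX ιX.isEmbedding f w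
    have h2 : ((FibCohH8.fibCoh (ιX ≫ f) w : ℕ∞) : WithBot ℕ∞) ≤
        ((FibCohH8.fibCoh f (ιX.base w) : ℕ∞) : WithBot ℕ∞) := by exact_mod_cast h1
    rw [← FibCohH8.stalk_fiber_eq_fibCoh, ← FibCohH8.stalk_fiber_eq_fibCoh, hc, hc'] at h2
    exact_mod_cast h2
  · -- F4
    have h1 := ineq g' w ξ'' (hgen w) n E0 hng' hE0g'
    obtain ⟨ξ₁, hξ₁w, hξ₁max, hξ₁dim⟩ := exists_max_relDim_eq w
    have hξ₁ : ξ'' = ξ₁ := hξ₁max _ (hgen ξ₁)
    rw [relDim_congr rfl hξ₁ _ hξ₁w, hξ₁dim, hb'] at h1
    have h2 := relDim_le (g'.base w) (g'.base ξ'') ((hgen w).map g'.continuous)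
    rw [stalk_congr_dim hg'w, ha'] at h2
    obtain ⟨r, hr, hra'⟩ := exists_nat_of_le_of_ne_bot _ a' h2 (relDim_ne_bot _ _ _)
    rw [hr] at h1
    have h3 : b' + n ≤ r + E0 := by exact_mod_cast h1
    omega
  · -- F5
    have h1 := FibGenH8.fibreDimAt_le_of_specializes (ιX ≫ f) (hgen w)
    rw [hfξ, hfw] at h1
    exact_mod_cast h1

theorem main85 [IsLocallyNoetherian Y] (f : X ⟶ Y) [LocallyOfFiniteType f]
    (X' : Closeds X) (hirr : IsIrreducible (X' : Set X))
    (w : ↥(Scheme.IdealSheafData.vanishingIdeal X').subscheme)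
    (v : ↥(Scheme.IdealSheafData.vanishingIdeal
      (⟨closure (f.base '' (X' : Set X)), isClosed_closure⟩ : Closeds Y)).subscheme)
    (hv : (Scheme.IdealSheafData.vanishingIdeal
      (⟨closure (f.base '' (X' : Set X)), isClosed_closure⟩ : Closeds Y)).subschemeι.base v =
        f.base ((Scheme.IdealSheafData.vanishingIdeal X').subschemeι.base w))
    (η' : Y) (hη' : closure ({η'} : Set Y) = closure (f.base '' (X' : Set X))) :
    (ringKrullDim ((Scheme.IdealSheafData.vanishingIdeal X').subscheme.presheaf.stalk w) =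
        ringKrullDim (Y.presheaf.stalk
          (f.base ((Scheme.IdealSheafData.vanishingIdeal X').subschemeι.base w))) +
        ringKrullDim ((f.fiber (f.base ((Scheme.IdealSheafData.vanishingIdeal X').subschemeι.base
          w))).presheaf.stalk (f.asFiber ((Scheme.IdealSheafData.vanishingIdeal
            X').subschemeι.base w))) ↔
      (ringKrullDim ((Scheme.IdealSheafData.vanishingIdeal
        (⟨closure (f.base '' (X' : Set X)), isClosed_closure⟩ :
          Closeds Y)).subscheme.presheaf.stalk v) =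
        ringKrullDim (Y.presheaf.stalk
          (f.base ((Scheme.IdealSheafData.vanishingIdeal X').subschemeι.base w))) ∧
      ringKrullDim ((((Scheme.IdealSheafData.vanishingIdeal X').subschemeι ≫ f).fiber
        (((Scheme.IdealSheafData.vanishingIdeal X').subschemeι ≫ f).base w)).presheaf.stalk
          (((Scheme.IdealSheafData.vanishingIdeal X').subschemeι ≫ f).asFiber w)) =
        ringKrullDim ((f.fiber (f.base ((Scheme.IdealSheafData.vanishingIdeal X').subschemeι.base
          w))).presheaf.stalk (f.asFiber ((Scheme.IdealSheafData.vanishingIdeal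
            X').subschemeι.base w))) ∧
      FlatMor.fibreDimAt ((Scheme.IdealSheafData.vanishingIdeal X').subschemeι ≫ f) w =
        topologicalKrullDim ↥((X' : Set X) ∩ f.base ⁻¹' {η'}) ∧
      ringKrullDim ((Scheme.IdealSheafData.vanishingIdeal X').subscheme.presheaf.stalk w) =
        ringKrullDim ((Scheme.IdealSheafData.vanishingIdeal
          (⟨closure (f.base '' (X' : Set X)), isClosed_closure⟩ :
            Closeds Y)).subscheme.presheaf.stalk v) +
        ringKrullDim ((((Scheme.IdealSheafData.vanishingIdeal X').subschemeι ≫ f).fiber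
          (((Scheme.IdealSheafData.vanishingIdeal X').subschemeι ≫ f).base w)).presheaf.stalk
            (((Scheme.IdealSheafData.vanishingIdeal X').subschemeι ≫ f).asFiber w)))) := by
  obtain ⟨a, a', b', c, c', n, E0, ha, ha', hb', hc, hc', hfw, hfx, he', h1, h2, h3, h4, h5⟩ :=
    facts f X' hirr w v hv η' hη'
  rw [ha, ha', hb', hc, hc', hfw, he']
  have key : (b' = a + c ↔ (a' = a ∧ c' = c ∧ c' + n = E0 ∧ b' = a' + c')) := by omega
  constructor
  · intro h
    have h' : b' = a + c := by exact_mod_cast h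
    obtain ⟨k1, k2, k3, k4⟩ := key.mp h'
    refine ⟨by rw [k1], by rw [k2], by rw [k3], ?_⟩
    rw [k4]; push_cast; rfl
  · rintro ⟨k1, k2, k3, k4⟩
    have k1' : a' = a := by exact_mod_cast k1
    have k2' : c' = c := by exact_mod_cast k2
    have k3' : c' + n = E0 := by exact_mod_cast k3
    have k4' : b' = a' + c' := by exact_mod_cast k4
    have := key.mpr ⟨k1', k2', k3', k4'⟩
    rw [this]; push_cast; rfl

theorem main86 [IsLocallyNoetherian Y] (f : X ⟶ Y) [LocallyOfFiniteType f]
    (X' : Closeds X) (hirr : IsIrreducible (X' : Set X))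
    (w : ↥(Scheme.IdealSheafData.vanishingIdeal X').subscheme)
    (hx : (Scheme.IdealSheafData.vanishingIdeal X').subschemeι.base w ∈ X')
    (v : ↥(Scheme.IdealSheafData.vanishingIdeal
      (⟨closure (f.base '' (X' : Set X)), isClosed_closure⟩ : Closeds Y)).subscheme)
    (hv : (Scheme.IdealSheafData.vanishingIdeal
      (⟨closure (f.base '' (X' : Set X)), isClosed_closure⟩ : Closeds Y)).subschemeι.base v =
        f.base ((Scheme.IdealSheafData.vanishingIdeal X').subschemeι.base w))
    (η' : Y) (hη' : closure ({η'} : Set Y) = closure (f.base '' (X' : Set X)))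
    (hform : ringKrullDim (X.presheaf.stalk
        ((Scheme.IdealSheafData.vanishingIdeal X').subschemeι.base w)) =
      ringKrullDim (Y.presheaf.stalk
          (f.base ((Scheme.IdealSheafData.vanishingIdeal X').subschemeι.base w))) +
        ringKrullDim ((f.fiber (f.base ((Scheme.IdealSheafData.vanishingIdeal X').subschemeι.base
          w))).presheaf.stalk (f.asFiber ((Scheme.IdealSheafData.vanishingIdeal
            X').subschemeι.base w)))) :
    ((ringKrullDim ((Scheme.IdealSheafData.vanishingIdeal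
        (⟨closure (f.base '' (X' : Set X)), isClosed_closure⟩ :
          Closeds Y)).subscheme.presheaf.stalk v) =
        ringKrullDim (Y.presheaf.stalk
          (f.base ((Scheme.IdealSheafData.vanishingIdeal X').subschemeι.base w))) ∧
      FlatMor.localDim ↥((X' : Set X) ∩ f.base ⁻¹'
          {f.base ((Scheme.IdealSheafData.vanishingIdeal X').subschemeι.base w)})
          ⟨(Scheme.IdealSheafData.vanishingIdeal X').subschemeι.base w, ⟨hx, rfl⟩⟩ =
        FlatMor.fibreDimAt f ((Scheme.IdealSheafData.vanishingIdeal X').subschemeι.base w) ∧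
      FlatMor.fibreDimAt ((Scheme.IdealSheafData.vanishingIdeal X').subschemeι ≫ f) w =
        topologicalKrullDim ↥((X' : Set X) ∩ f.base ⁻¹' {η'}) ∧
      ringKrullDim ((Scheme.IdealSheafData.vanishingIdeal X').subscheme.presheaf.stalk w) =
        ringKrullDim ((Scheme.IdealSheafData.vanishingIdeal
          (⟨closure (f.base '' (X' : Set X)), isClosed_closure⟩ :
            Closeds Y)).subscheme.presheaf.stalk v) +
        ringKrullDim ((((Scheme.IdealSheafData.vanishingIdeal X').subschemeι ≫ f).fiber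
          (((Scheme.IdealSheafData.vanishingIdeal X').subschemeι ≫ f).base w)).presheaf.stalk
            (((Scheme.IdealSheafData.vanishingIdeal X').subschemeι ≫ f).asFiber w))) ↔
      ringKrullDim ((Scheme.IdealSheafData.vanishingIdeal X').subscheme.presheaf.stalk w) =
        ringKrullDim (X.presheaf.stalk
          ((Scheme.IdealSheafData.vanishingIdeal X').subschemeι.base w))) := by
  haveI : IsLocallyNoetherian X := LocallyOfFiniteType.isLocallyNoetherian f
  obtain ⟨a, a', b', c, c', n, E0, ha, ha', hb', hc, hc', hfw, hfx, he', h1, h2, h3, h4, h5⟩ :=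
    facts f X' hirr w v hv η' hη'
  obtain ⟨b, hb⟩ := exists_nat_ringKrullDim (X.presheaf.stalk
    ((Scheme.IdealSheafData.vanishingIdeal X').subschemeι.base w))
  have hbr := EquidimSubH8.bridge f (Scheme.IdealSheafData.vanishingIdeal X').subschemeι
    (Scheme.IdealSheafData.vanishingIdeal X').subschemeι.isEmbedding w _ rfl (X' : Set X)
    (EquidimSubH8.range_vanishingIdeal_subschemeι X') ⟨hx, rfl⟩
  rw [← hbr, ha, ha', hb', hc', hfw, hfx, he', hb]
  rw [hb, ha, hc] at hform
  have hform' : b = a + c := by exact_mod_cast hform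
  have key : ((a' = a ∧ c' + n = c + n ∧ c' + n = E0 ∧ b' = a' + c') ↔ b' = b) := by omega
  constructor
  · rintro ⟨k1, k2, k3, k4⟩
    have k1' : a' = a := by exact_mod_cast k1
    have k2' : c' + n = c + n := by exact_mod_cast k2
    have k3' : c' + n = E0 := by exact_mod_cast k3
    have k4' : b' = a' + c' := by exact_mod_cast k4
    have := key.mp ⟨k1', k2', k3', k4'⟩
    rw [this]
  · intro h
    have h' : b' = b := by exact_mod_cast h
    obtain ⟨k1, k2, k3, k4⟩ := key.mpr h'
    refine ⟨by rw [k1], by rw [k2], by rw [k3], ?_⟩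
    rw [k4]; push_cast; rfl

end SubDimH8
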