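import Mathlib

/-!
# Localization of a full subcategory (helper9)

If `S` has a right calculus of fractions on `D`, `P` is a property of objects such that every
object `X` of `D` receives a morphism `X' ⟶ X` in `S` with `P X'`, and `Q : D ⥤ E` is a
localization functor for `S`, then `P.ι ⋙ Q` is a localization functor for `S.inverseImage P.ι`.
-/

namespace Groth.Agent.Lib.SubLoc

open CategoryTheory MorphismProperty

universe v u v' u'

lemma map_eq_of {C E : Type*} [Category C] [Category E] {W : MorphismProperty C} {X Y : C}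
    (φ : W.RightFraction X Y) (L : C ⥤ E) (hL : W.IsInvertedBy L) (x : L.obj X ⟶ L.obj Y)
    (h : L.map φ.s ≫ x = L.map φ.f) : x = φ.map L hL := by
  have := hL _ φ.hs
  rw [← cancel_epi (L.map φ.s), RightFraction.map_s_comp_map]
  exact h

lemma full_of_essSurj {C₁ E₁ E₂ : Type*} [Category C₁] [Category E₁] [Category E₂]
    (L : C₁ ⥤ E₁) [L.EssSurj] (G : E₁ ⥤ E₂)
    (h : ∀ (X Y : C₁) (g : G.obj (L.obj X) ⟶ G.obj (L.obj Y)),
      ∃ a : L.obj X ⟶ L.obj Y, G.map a = g) : G.Full := by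
  constructor
  intro A B g
  obtain ⟨a, ha⟩ := h (L.objPreimage A) (L.objPreimage B)
    (G.map (L.objObjPreimageIso A).hom ≫ g ≫ G.map (L.objObjPreimageIso B).inv)
  refine ⟨(L.objObjPreimageIso A).inv ≫ a ≫ (L.objObjPreimageIso B).hom, ?_⟩
  simp [ha]

lemma faithful_of_essSurj {C₁ E₁ E₂ : Type*} [Category C₁] [Category E₁] [Category E₂]
    (L : C₁ ⥤ E₁) [L.EssSurj] (G : E₁ ⥤ E₂)
    (h : ∀ (X Y : C₁) (a b : L.obj X ⟶ L.obj Y), G.map a = G.map b → a = b) : G.Faithful := by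
  constructor
  intro A B a b hab
  have := h (L.objPreimage A) (L.objPreimage B)
    ((L.objObjPreimageIso A).hom ≫ a ≫ (L.objObjPreimageIso B).inv)
    ((L.objObjPreimageIso A).hom ≫ b ≫ (L.objObjPreimageIso B).inv)
    (by simp only [Functor.map_comp, hab])
  simpa using this

variable {D : Type u} [Category.{v} D] (P : ObjectProperty D) (S : MorphismProperty D)

/-- The image in `D` of a right fraction in the full subcategory. -/
abbrev img {X Y : P.FullSubcategory} (φ : (S.inverseImage P.ι).RightFraction X Y) :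
    S.RightFraction X.obj Y.obj :=
  RightFraction.mk φ.s.hom (show S φ.s.hom from φ.hs) φ.f.hom

variable (hP : ∀ X : D, ∃ (X' : D) (s : X' ⟶ X), P X' ∧ S s)

include hP in
lemma hasRight [S.HasRightCalculusOfFractions] :
    (S.inverseImage P.ι).HasRightCalculusOfFractions where
  exists_rightFraction X Y φ := by
    obtain ⟨ψ, hψ⟩ := (LeftFraction.mk (W := S) φ.f.hom φ.s.hom
      (show S φ.s.hom from φ.hs)).exists_rightFraction
    obtain ⟨Z', t, hZ', ht⟩ := hP ψ.X'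
    refine ⟨RightFraction.mk (X' := (⟨Z', hZ'⟩ : P.FullSubcategory))
      (ObjectProperty.homMk (t ≫ ψ.s)) (show S (t ≫ ψ.s) from S.comp_mem _ _ ht ψ.hs)
      (ObjectProperty.homMk (t ≫ ψ.f)), ?_⟩
    apply ObjectProperty.hom_ext
    show (t ≫ ψ.s) ≫ φ.f.hom = (t ≫ ψ.f) ≫ φ.s.hom
    rw [Category.assoc, Category.assoc]
    exact congrArg (t ≫ ·) hψ
  ext X Y Y' f₁ f₂ s hs h := by
    have h' : f₁.hom ≫ s.hom = f₂.hom ≫ s.hom := congrArg (fun g => g.hom) h
    obtain ⟨X'', t, ht, fac⟩ := HasRightCalculusOfFractions.ext f₁.hom f₂.hom s.hom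
      (show S s.hom from hs) h'
    obtain ⟨Z, u, hZ, hu⟩ := hP X''
    refine ⟨(⟨Z, hZ⟩ : P.FullSubcategory), ObjectProperty.homMk (u ≫ t),
      (show S (u ≫ t) from S.comp_mem _ _ hu ht), ?_⟩
    apply ObjectProperty.hom_ext
    show (u ≫ t) ≫ f₁.hom = (u ≫ t) ≫ f₂.hom
    rw [Category.assoc, Category.assoc, fac]

section

variable [S.HasRightCalculusOfFractions] {E : Type u'} [Category.{v'} E] (Q : D ⥤ E)
  [Q.IsLocalization S]
  {E₁ : Type*} [Category E₁] (L₁ : P.FullSubcategory ⥤ E₁)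
  [L₁.IsLocalization (S.inverseImage P.ι)]
  (G : E₁ ⥤ E) (ε : ∀ X : P.FullSubcategory, G.obj (L₁.obj X) ≅ Q.obj X.obj)
  (nat : ∀ {X Y : P.FullSubcategory} (f : X ⟶ Y),
    G.map (L₁.map f) ≫ (ε Y).hom = (ε X).hom ≫ Q.map f.hom)

include nat in
lemma key {X Y : P.FullSubcategory} (φ : (S.inverseImage P.ι).RightFraction X Y) :
    G.map (φ.map L₁ (Localization.inverts L₁ _)) =
      (ε X).hom ≫ (img P S φ).map Q (Localization.inverts Q S) ≫ (ε Y).inv := by
  have h1 : (ε X).inv ≫ G.map (φ.map L₁ (Localization.inverts L₁ _)) ≫ (ε Y).hom =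
      (img P S φ).map Q (Localization.inverts Q S) := by
    apply map_eq_of
    have n1 : Q.map φ.s.hom ≫ (ε X).inv = (ε φ.X').inv ≫ G.map (L₁.map φ.s) := by
      rw [Iso.eq_inv_comp, ← reassoc_of% (nat φ.s), Iso.hom_inv_id, Category.comp_id]
    show Q.map φ.s.hom ≫ (ε X).inv ≫ G.map (φ.map L₁ (Localization.inverts L₁ _)) ≫ (ε Y).hom =
      Q.map φ.f.hom
    rw [reassoc_of% n1, ← G.map_comp_assoc, RightFraction.map_s_comp_map, nat,
      Iso.inv_hom_id_assoc]
  rw [← h1]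
  simp

include nat hP in
lemma full_aux (X Y : P.FullSubcategory) (g : G.obj (L₁.obj X) ⟶ G.obj (L₁.obj Y)) :
    ∃ a : L₁.obj X ⟶ L₁.obj Y, G.map a = g := by
  obtain ⟨ψ, hψ⟩ := Localization.exists_rightFraction Q S ((ε X).inv ≫ g ≫ (ε Y).hom)
  obtain ⟨Z', t, hZ', ht⟩ := hP ψ.X'
  let φ : (S.inverseImage P.ι).RightFraction X Y :=
    RightFraction.mk (X' := (⟨Z', hZ'⟩ : P.FullSubcategory))
      (ObjectProperty.homMk (t ≫ ψ.s)) (show S (t ≫ ψ.s) from S.comp_mem _ _ ht ψ.hs)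
      (ObjectProperty.homMk (t ≫ ψ.f))
  have h2 : ψ.map Q (Localization.inverts Q S) =
      (img P S φ).map Q (Localization.inverts Q S) := by
    apply map_eq_of
    show Q.map (t ≫ ψ.s) ≫ ψ.map Q (Localization.inverts Q S) = Q.map (t ≫ ψ.f)
    rw [Q.map_comp, Category.assoc, RightFraction.map_s_comp_map, ← Q.map_comp]
  refine ⟨φ.map L₁ (Localization.inverts L₁ _), ?_⟩
  rw [key P S Q L₁ G ε nat φ, ← h2, ← hψ]
  simp

include nat hP in
lemma faithful_aux (X Y : P.FullSubcategory) (a b : L₁.obj X ⟶ L₁.obj Y)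
    (h : G.map a = G.map b) : a = b := by
  haveI := hasRight P S hP
  obtain ⟨φ, hφ⟩ := Localization.exists_rightFraction L₁ (S.inverseImage P.ι) a
  obtain ⟨ψ, hψ⟩ := Localization.exists_rightFraction L₁ (S.inverseImage P.ι) b
  rw [hφ, hψ] at h ⊢
  rw [key P S Q L₁ G ε nat φ, key P S Q L₁ G ε nat ψ] at h
  have h' : (img P S φ).map Q (Localization.inverts Q S) =
      (img P S ψ).map Q (Localization.inverts Q S) := by
    have := congrArg (fun m => (ε X).inv ≫ m ≫ (ε Y).hom) h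
    simpa using this
  obtain ⟨Z, t₁, t₂, hst, hft, ht⟩ := (RightFraction.map_eq_iff Q S _ _).1 h'
  obtain ⟨Z', u, hZ', hu⟩ := hP Z
  refine (RightFraction.map_eq_iff L₁ (S.inverseImage P.ι) φ ψ).2
    ⟨(⟨Z', hZ'⟩ : P.FullSubcategory), ObjectProperty.homMk (u ≫ t₁),
      ObjectProperty.homMk (u ≫ t₂), ?_, ?_, ?_⟩
  · apply ObjectProperty.hom_ext
    show (u ≫ t₁) ≫ φ.s.hom = (u ≫ t₂) ≫ ψ.s.hom
    rw [Category.assoc, Category.assoc]
    exact congrArg (u ≫ ·) hst
  · apply ObjectProperty.hom_ext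
    show (u ≫ t₁) ≫ φ.f.hom = (u ≫ t₂) ≫ ψ.f.hom
    rw [Category.assoc, Category.assoc]
    exact congrArg (u ≫ ·) hft
  · show S ((u ≫ t₁) ≫ φ.s.hom)
    rw [Category.assoc]
    exact S.comp_mem _ _ hu ht

include nat hP in
lemma isEquivalence : G.IsEquivalence := by
  haveI := hasRight P S hP
  haveI : L₁.EssSurj := Localization.essSurj L₁ (S.inverseImage P.ι)
  haveI : Q.EssSurj := Localization.essSurj Q S
  haveI : G.Full := full_of_essSurj L₁ G (full_aux P S hP Q L₁ G ε nat)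
  haveI : G.Faithful := faithful_of_essSurj L₁ G (faithful_aux P S hP Q L₁ G ε nat)
  haveI : G.EssSurj := ⟨fun Z => by
    obtain ⟨X', s, hX', hs⟩ := hP (Q.objPreimage Z)
    exact ⟨L₁.obj ⟨X', hX'⟩, ⟨ε ⟨X', hX'⟩ ≪≫ Localization.isoOfHom Q S s hs ≪≫
      Q.objObjPreimageIso Z⟩⟩⟩
  exact { }

end

include hP in
theorem main [S.HasRightCalculusOfFractions] {E : Type u'} [Category.{v'} E] (Q : D ⥤ E)
    [Q.IsLocalization S] : (P.ι ⋙ Q).IsLocalization (S.inverseImage P.ι) := by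
  haveI := hasRight P S hP
  have h : (S.inverseImage P.ι).IsInvertedBy (P.ι ⋙ Q) :=
    fun _ _ f hf => Localization.inverts Q S _ hf
  let L₁ := (S.inverseImage P.ι).Q
  let G := Localization.lift (P.ι ⋙ Q) h L₁
  let e : L₁ ⋙ G ≅ P.ι ⋙ Q := Localization.fac _ h L₁
  haveI : G.IsEquivalence := isEquivalence P S hP Q L₁ G (fun X => e.app X)
    (fun f => e.hom.naturality f)
  exact Functor.IsLocalization.of_equivalence_target L₁ (S.inverseImage P.ι) (P.ι ⋙ Q)
    G.asEquivalence e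

end Groth.Agent.Lib.SubLoc
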