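import Mathlib
import Groth.Prelude
import Groth.Agent.Lib.GV2_helper2

/-!
# Ideal-valued subsheaves of the constant sheaf `ℤ` on a topological space (helper8)
APPEND-ONLY once landed.
-/

set_option autoImplicit false
universe u

open CategoryTheory CategoryTheory.Limits TopologicalSpace Opposite

namespace Groth.Agent.Lib.SubZH8

variable {X : TopCat.{u}}

/-- sections over `W`: locally constant functions `W → ℤ` with `s x ∈ I x` -/
def secSub (I : X → Ideal ℤ) (W : Opens X) : AddSubgroup (W → ℤ) where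
  carrier := {s | IsLocallyConstant s ∧ ∀ x : W, s x ∈ I x.1}
  zero_mem' := ⟨IsLocallyConstant.const 0, fun x => (I x.1).zero_mem⟩
  add_mem' := fun ha hb => ⟨ha.1.add hb.1, fun x => (I x.1).add_mem (ha.2 x) (hb.2 x)⟩
  neg_mem' := fun ha => ⟨ha.1.neg, fun x => (I x.1).neg_mem (ha.2 x)⟩

/-- restriction of functions -/
def resFun {W V : Opens X} (h : V ≤ W) (s : W → ℤ) : V → ℤ := fun x => s ⟨x.1, h x.2⟩

lemma resFun_mem (I : X → Ideal ℤ) {W V : Opens X} (h : V ≤ W) {s : W → ℤ}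
    (hs : s ∈ secSub I W) : resFun h s ∈ secSub I V := by
  refine ⟨?_, fun x => hs.2 ⟨x.1, h x.2⟩⟩
  exact hs.1.comp_continuous (f := fun x : V => (⟨x.1, h x.2⟩ : W))
    (Continuous.subtype_mk continuous_subtype_val _)

/-- the presheaf -/
noncomputable def SIpre (I : X → Ideal ℤ) : (Opens X)ᵒᵖ ⥤ AddCommGrpCat.{u} where
  obj W := AddCommGrpCat.of (secSub I W.unop)
  map {W V} i := AddCommGrpCat.ofHom
    { toFun := fun s => ⟨resFun i.unop.le s.1, resFun_mem I i.unop.le s.2⟩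
      map_zero' := rfl
      map_add' := fun _ _ => rfl }
  map_id := by intro W; rfl
  map_comp := by intros; rfl

/-- view a section as a function -/
def toFn {I : X → Ideal ℤ} {W : Opens X} (s : ToType ((SIpre I).obj (op W))) : W → ℤ := s.1

lemma toFn_injective {I : X → Ideal ℤ} {W : Opens X} :
    Function.Injective (toFn (I := I) (W := W)) := fun _ _ h => Subtype.ext h

lemma toFn_mem {I : X → Ideal ℤ} {W : Opens X} (s : ToType ((SIpre I).obj (op W))) :
    toFn s ∈ secSub I W := s.2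

lemma toFn_map {I : X → Ideal ℤ} {W V : Opens X} (i : V ⟶ W)
    (s : ToType ((SIpre I).obj (op W))) (x : V) :
    toFn ((SIpre I).map i.op s) x = toFn s ⟨x.1, i.le x.2⟩ := rfl

/-- make a section -/
def mkS {I : X → Ideal ℤ} {W : Opens X} (s : W → ℤ) (hs : s ∈ secSub I W) :
    ToType ((SIpre I).obj (op W)) := ⟨s, hs⟩

@[simp] lemma toFn_mkS {I : X → Ideal ℤ} {W : Opens X} (s : W → ℤ) (hs : s ∈ secSub I W) :
    toFn (mkS s hs) = s := rfl

theorem SIpre_isSheaf (I : X → Ideal ℤ) : TopCat.Presheaf.IsSheaf (SIpre I) := by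
  rw [TopCat.Presheaf.isSheaf_iff_isSheafUniqueGluing]
  intro ι U sf hsf
  have key : ∀ i j (x : X) (hi : x ∈ U i) (hj : x ∈ U j),
      toFn (sf i) ⟨x, hi⟩ = toFn (sf j) ⟨x, hj⟩ := by
    intro i j x hi hj
    have h1 := congrArg (fun t : ToType ((SIpre I).obj (op (U i ⊓ U j))) =>
      toFn t ⟨x, ⟨hi, hj⟩⟩) (hsf i j)
    exact h1
  have ex : ∀ x : ↥(iSup U), ∃ i, x.1 ∈ U i := fun x => Opens.mem_iSup.1 x.2
  let s : ↥(iSup U) → ℤ := fun x => toFn (sf (ex x).choose) ⟨x.1, (ex x).choose_spec⟩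
  have hsi : ∀ i (x : X) (hi : x ∈ U i) (hx : x ∈ (iSup U : Opens X)),
      s ⟨x, hx⟩ = toFn (sf i) ⟨x, hi⟩ := fun i x hi hx => key _ _ _ _ _
  have hs : s ∈ secSub I (iSup U) := by
    refine ⟨?_, fun x => ?_⟩
    · rw [IsLocallyConstant.iff_exists_open]
      intro x
      obtain ⟨i, hi⟩ := ex x
      have hlc := (toFn_mem (sf i)).1
      rw [IsLocallyConstant.iff_exists_open] at hlc
      obtain ⟨O, hO, hxO, hOc⟩ := hlc ⟨x.1, hi⟩
      obtain ⟨O', hO', rfl⟩ := isOpen_induced_iff.1 hO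
      refine ⟨Subtype.val ⁻¹' (O' ∩ (U i : Set X)), ?_, ⟨hxO, hi⟩, ?_⟩
      · exact (hO'.inter (U i).2).preimage continuous_subtype_val
      · rintro ⟨y, hy⟩ ⟨hyO, hyi⟩
        rw [hsi i y hyi hy, hsi i x.1 hi x.2]
        exact hOc ⟨y, hyi⟩ hyO
    · obtain ⟨i, hi⟩ := ex x
      rw [show s x = toFn (sf i) ⟨x.1, hi⟩ from hsi i x.1 hi x.2]
      exact (toFn_mem (sf i)).2 ⟨x.1, hi⟩
  refine ⟨mkS s hs, ?_, ?_⟩
  · intro i
    apply toFn_injective
    funext x
    exact hsi i x.1 x.2 _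
  · intro s' hs'
    apply toFn_injective
    funext x
    obtain ⟨i, hi⟩ := ex x
    have h2 := congrArg (fun t : ToType ((SIpre I).obj (op (U i))) => toFn t ⟨x.1, hi⟩) (hs' i)
    rw [toFn_mkS, hsi i x.1 hi x.2]
    exact h2

/-- the sheaf `S_I` -/
noncomputable def SI (I : X → Ideal ℤ) : CohTop.Ab X := ⟨SIpre I, SIpre_isSheaf I⟩

end Groth.Agent.Lib.SubZH8
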