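import Mathlib
import Groth.Prelude
import Groth.Agent.Lib.GV2_helper2

/-!
# Section-wise criteria for short exact sequences of abelian sheaves on a space (helper8)
APPEND-ONLY once landed.
-/

set_option autoImplicit false
universe u

open CategoryTheory CategoryTheory.Limits TopologicalSpace Opposite

namespace Groth.Agent.Lib.SubZH8

variable {X : TopCat.{u}}

/-- restriction of a section -/
noncomputable abbrev rs (F : CohTop.Ab X) {W V : Opens X} (h : V ≤ W) (s : F.obj.obj (op W)) :
    F.obj.obj (op V) := F.obj.map (homOfLE h).op s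

lemma rs_nat {F G : CohTop.Ab X} (φ : F ⟶ G) {W V : Opens X} (h : V ≤ W)
    (s : F.obj.obj (op W)) :
    φ.hom.app (op V) (rs F h s) = rs G h (φ.hom.app (op W) s) :=
  NatTrans.naturality_apply φ.hom (homOfLE h).op s

theorem mono_of_sections {F G : CohTop.Ab X} (φ : F ⟶ G)
    (h : ∀ (W : Opens X) (s : F.obj.obj (op W)), φ.hom.app (op W) s = 0 → s = 0) : Mono φ := by
  haveI : ∀ W : (Opens X)ᵒᵖ, Mono (φ.hom.app W) := by
    intro W
    rw [AddCommGrpCat.mono_iff_injective]
    exact (injective_iff_map_eq_zero _).2 (fun s hs => h W.unop s hs)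
  haveI : Mono φ.hom := NatTrans.mono_of_mono_app _
  exact Sheaf.Hom.mono_of_presheaf_mono _ _ φ

theorem epi_of_locally {F G : CohTop.Ab X} (φ : F ⟶ G)
    (h : ∀ (W : Opens X) (t : G.obj.obj (op W)) (x : X), x ∈ W →
      ∃ (V : Opens X) (hV : V ≤ W), x ∈ V ∧ ∃ s : F.obj.obj (op V),
        φ.hom.app (op V) s = rs G hV t) : Epi φ := by
  refine (TopCat.Sheaf.isLocallySurjective_iff_epi (X := X) (C := AddCommGrpCat.{u})
    (F := F) (G := G) φ).1 ?_
  rw [TopCat.Presheaf.isLocallySurjective_iff]
  intro W t x hx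
  obtain ⟨V, hV, hxV, s, hs⟩ := h W t x hx
  exact ⟨V, hV, ⟨s, hs⟩, hxV⟩

section Exact

variable (S : ShortComplex (CohTop.Ab X))
  (hinj : ∀ (W : Opens X) (s : S.X₁.obj.obj (op W)), S.f.hom.app (op W) s = 0 → s = 0)
  (hex : ∀ (W : Opens X) (s : S.X₂.obj.obj (op W)), S.g.hom.app (op W) s = 0 →
    ∃ t : S.X₁.obj.obj (op W), S.f.hom.app (op W) t = s)

include hinj in
lemma f_injective (W : Opens X) : Function.Injective (S.f.hom.app (op W)) :=
  (injective_iff_map_eq_zero _).2 (fun s hs => hinj W s hs)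

variable {S} in
lemma g_k_zero {T : CohTop.Ab X} (k : T ⟶ S.X₂) (hk : k ≫ S.g = 0) (W : Opens X)
    (t : T.obj.obj (op W)) : S.g.hom.app (op W) (k.hom.app (op W) t) = 0 := by
  have h1 : (k ≫ S.g).hom.app (op W) t = 0 := by rw [hk]; rfl
  exact h1

include hex in
/-- sectionwise lift -/
noncomputable def kl {T : CohTop.Ab X} (k : T ⟶ S.X₂) (hk : k ≫ S.g = 0) (W : (Opens X)ᵒᵖ)
    (t : T.obj.obj W) : S.X₁.obj.obj W :=
  (hex W.unop (k.hom.app W t) (g_k_zero k hk W.unop t)).choose

lemma kl_spec {T : CohTop.Ab X} (k : T ⟶ S.X₂) (hk : k ≫ S.g = 0) (W : (Opens X)ᵒᵖ)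
    (t : T.obj.obj W) : S.f.hom.app W (kl S hex k hk W t) = k.hom.app W t :=
  (hex W.unop (k.hom.app W t) (g_k_zero k hk W.unop t)).choose_spec

include hinj in
/-- the lift for the kernel property -/
noncomputable def kerLift {T : CohTop.Ab X} (k : T ⟶ S.X₂) (hk : k ≫ S.g = 0) : T ⟶ S.X₁ :=
  ⟨{ app := fun W => AddCommGrpCat.ofHom
      { toFun := fun t => kl S hex k hk W t
        map_zero' := by
          apply f_injective S hinj W.unop
          rw [kl_spec, map_zero, map_zero]
        map_add' := fun a b => by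
          apply f_injective S hinj W.unop
          rw [kl_spec, map_add, map_add, kl_spec, kl_spec] }
     naturality := by
      intro W V i
      ext t
      apply f_injective S hinj V.unop
      show S.f.hom.app V (kl S hex k hk V (T.obj.map i t)) =
        S.f.hom.app V (S.X₁.obj.map i (kl S hex k hk W t))
      rw [kl_spec, NatTrans.naturality_apply S.f.hom i, kl_spec]
      exact NatTrans.naturality_apply k.hom i t }⟩

include hinj hex in
lemma kerLift_fac {T : CohTop.Ab X} (k : T ⟶ S.X₂) (hk : k ≫ S.g = 0) :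
    kerLift S hinj hex k hk ≫ S.f = k := by
  ext W t
  exact kl_spec S hex k hk W t

include hinj hex in
theorem exact_of_sections : S.Exact := by
  haveI : Mono S.f := mono_of_sections S.f hinj
  apply ShortComplex.exact_of_f_is_kernel
  exact KernelFork.IsLimit.ofι S.f S.zero (fun k hk => kerLift S hinj hex k hk)
    (fun k hk => kerLift_fac S hinj hex k hk)
    (fun k hk m hm => by
      rw [← cancel_mono S.f, hm, kerLift_fac])

include hinj hex in
theorem shortExact_of_sections
    (hsurj : ∀ (W : Opens X) (t : S.X₃.obj.obj (op W)) (x : X), x ∈ W →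
      ∃ (V : Opens X) (hV : V ≤ W), x ∈ V ∧ ∃ s : S.X₂.obj.obj (op V),
        S.g.hom.app (op V) s = rs S.X₃ hV t) : S.ShortExact := by
  haveI : Mono S.f := mono_of_sections S.f hinj
  haveI : Epi S.g := epi_of_locally S.g hsurj
  exact ShortComplex.ShortExact.mk (exact_of_sections S hinj hex)

end Exact

end Groth.Agent.Lib.SubZH8
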