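import Mathlib
import Groth.Prelude
import Groth.Agent.Lib.SubZ1_helper8
import Groth.Agent.Lib.SubZ2_helper8
import Groth.Agent.Lib.FreeSheaf_helper2

/-!
# Maps between the sheaves `S_I`; the free sheaf on an open is `S_{I_V}` (helper8)
APPEND-ONLY once landed.
-/

set_option autoImplicit false
universe u

open CategoryTheory CategoryTheory.Limits TopologicalSpace Opposite

namespace Groth.Agent.Lib.SubZH8

variable {X : TopCat.{u}}

/-- sections of `SI I` are sections of `SIpre I` -/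
abbrev Sec (I : X → Ideal ℤ) (W : Opens X) : Type u := ToType ((SIpre I).obj (op W))

lemma isLocallyConstant_toFn {I : X → Ideal ℤ} {W : Opens X} (s : Sec I W) :
    IsLocallyConstant (toFn s) := (toFn_mem s).1

lemma toFn_mem_I {I : X → Ideal ℤ} {W : Opens X} (s : Sec I W) (x : W) : toFn s x ∈ I x.1 :=
  (toFn_mem s).2 x

@[simp] lemma toFn_zero {I : X → Ideal ℤ} {W : Opens X} : toFn (0 : Sec I W) = 0 := rfl

@[simp] lemma toFn_add {I : X → Ideal ℤ} {W : Opens X} (s t : Sec I W) :
    toFn (s + t) = toFn s + toFn t := rfl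

@[simp] lemma toFn_neg {I : X → Ideal ℤ} {W : Opens X} (s : Sec I W) :
    toFn (-s) = -toFn s := rfl

lemma toFn_rs {I : X → Ideal ℤ} {W V : Opens X} (h : V ≤ W) (s : Sec I W) (x : V) :
    toFn (rs (SI I) h s : Sec I V) x = toFn s ⟨x.1, h x.2⟩ := rfl

lemma sec_ext {I : X → Ideal ℤ} {W : Opens X} {s t : Sec I W}
    (h : ∀ x : W, toFn s x = toFn t x) : s = t := toFn_injective (funext h)

/-- multiplication by `n`, as a map `S_I ⟶ S_{I'}` -/
noncomputable def smulHom {I I' : X → Ideal ℤ} (n : ℤ) (h : ∀ x, ∀ m ∈ I x, n * m ∈ I' x) :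
    SI I ⟶ SI I' :=
  ⟨{ app := fun W => AddCommGrpCat.ofHom
      { toFun := fun s => mkS (fun x => n * toFn s x)
          ⟨(isLocallyConstant_toFn s).comp (fun m => n * m),
            fun x => h _ _ (toFn_mem_I s x)⟩
        map_zero' := by
          apply toFn_injective
          funext x
          show n * (0 : ℤ) = (0 : ℤ)
          exact mul_zero n
        map_add' := fun a b => by
          apply toFn_injective
          funext x
          show n * (toFn a x + toFn b x) = n * toFn a x + n * toFn b x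
          exact mul_add _ _ _ }
     naturality := by intros; rfl }⟩

lemma toFn_smulHom {I I' : X → Ideal ℤ} (n : ℤ) (h : ∀ x, ∀ m ∈ I x, n * m ∈ I' x)
    {W : Opens X} (s : Sec I W) (x : W) :
    toFn ((smulHom n h).hom.app (op W) s : Sec I' W) x = n * toFn s x := rfl

/-- constant sections -/
def constSec {I : X → Ideal ℤ} (W : Opens X) (c : ℤ) (h : ∀ x ∈ W, c ∈ I x) : Sec I W :=
  mkS (fun _ => c) ⟨IsLocallyConstant.const c, fun x => h x.1 x.2⟩

@[simp] lemma toFn_constSec {I : X → Ideal ℤ} (W : Opens X) (c : ℤ) (h : ∀ x ∈ W, c ∈ I x)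
    (x : W) : toFn (constSec W c h) x = c := rfl

/-- a section is locally constant: around every point there is a smaller open where it is
constant -/
lemma exists_const_nhd {I : X → Ideal ℤ} {W : Opens X} (s : Sec I W) (x : X) (hx : x ∈ W) :
    ∃ V : Opens X, V ≤ W ∧ x ∈ V ∧ ∀ y : X, ∀ _ : y ∈ V, ∀ hy' : y ∈ W,
      toFn s ⟨y, hy'⟩ = toFn s ⟨x, hx⟩ := by
  have hlc := isLocallyConstant_toFn s
  rw [IsLocallyConstant.iff_exists_open] at hlc
  obtain ⟨O, hO, hxO, hOc⟩ := hlc ⟨x, hx⟩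
  obtain ⟨O', hO', rfl⟩ := isOpen_induced_iff.1 hO
  refine ⟨⟨O', hO'⟩ ⊓ W, inf_le_right, ⟨hxO, hx⟩, ?_⟩
  intro y hy hy'
  exact hOc ⟨y, hy'⟩ hy.1

open Classical in
/-- the ideal function of the extension by zero `ℤ_V` -/
noncomputable def IU (V : Opens X) : X → Ideal ℤ := fun x => if x ∈ V then ⊤ else ⊥

lemma mem_IU {V : Opens X} {x : X} {m : ℤ} : m ∈ IU V x ↔ (x ∈ V ∨ m = 0) := by
  unfold IU
  by_cases hx : x ∈ V
  · simp [hx]
  · simp [hx]

lemma IU_of_mem {V : Opens X} {x : X} (hx : x ∈ V) : IU V x = ⊤ := by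
  unfold IU; simp [hx]

lemma IU_of_not_mem {V : Opens X} {x : X} (hx : x ∉ V) : IU V x = ⊥ := by
  unfold IU; simp [hx]

end Groth.Agent.Lib.SubZH8
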