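import Mathlib
import Groth.Prelude
import Groth.Agent.Lib.SubZ3_helper8

set_option autoImplicit false
universe u

open CategoryTheory CategoryTheory.Limits TopologicalSpace Opposite

namespace Groth.Agent.Lib.SubZH8

open Groth.Agent.Lib.FreeSheaf

variable {X : TopCat.{u}}

/-- the unit section of `ℤ_V` over `V` -/
noncomputable def oneV (V : Opens X) : Sec (IU V) V :=
  constSec V 1 (fun x hx => by rw [IU_of_mem hx]; trivial)

/-- the counting map -/
noncomputable def ev {α : Type u} : FreeAbelianGroup α →+ ℤ := FreeAbelianGroup.lift (fun _ => (1 : ℤ))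

/-- the map from the free presheaf, sectionwise -/
noncomputable def phiHom (V W : Opens X) : FreeAbelianGroup (W ⟶ V) →+ ↥(secSub (IU V) W) :=
  FreeAbelianGroup.lift (fun i : (W ⟶ V) => ((SIpre (IU V)).map i.op (oneV V) : Sec (IU V) W))

lemma phiHom_apply (V W : Opens X) (a : FreeAbelianGroup (W ⟶ V)) (x : W) :
    (phiHom V W a).1 x = ev a := by
  induction a using FreeAbelianGroup.induction_on with
  | zero =>
    rw [map_zero, map_zero]; rfl
  | of i =>
    show (FreeAbelianGroup.lift (fun i : (W ⟶ V) =>
        ((SIpre (IU V)).map i.op (oneV V) : Sec (IU V) W)) (FreeAbelianGroup.of i)).1 x =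
      FreeAbelianGroup.lift (fun _ => (1 : ℤ)) (FreeAbelianGroup.of i)
    rw [FreeAbelianGroup.lift_apply_of, FreeAbelianGroup.lift_apply_of]
    rfl
  | neg i h =>
    rw [map_neg, map_neg, ← h]; rfl
  | add a b ha hb =>
    rw [map_add, map_add, ← ha, ← hb]; rfl

/-- the map from the free presheaf -/
noncomputable def phiV (V : Opens X) : freePresheaf V ⟶ SIpre (IU V) where
  app W := AddCommGrpCat.ofHom (phiHom V W.unop)
  naturality := by
    intro W W' j
    ext a
    induction a using FreeAbelianGroup.induction_on with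
    | zero => simp
    | of i =>
      show FreeAbelianGroup.lift (fun i : (W'.unop ⟶ V) =>
            ((SIpre (IU V)).map i.op (oneV V) : Sec (IU V) W'.unop))
          (FreeAbelianGroup.map ((yoneda.obj V).map j) (FreeAbelianGroup.of i)) =
        (SIpre (IU V)).map j (FreeAbelianGroup.lift
          (fun i : (W.unop ⟶ V) => ((SIpre (IU V)).map i.op (oneV V) : Sec (IU V) W.unop))
          (FreeAbelianGroup.of i))
      rw [FreeAbelianGroup.map_of_apply, FreeAbelianGroup.lift_apply_of,
        FreeAbelianGroup.lift_apply_of]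
      rfl
    | neg i h =>
      exact (map_neg _ _).trans ((congrArg Neg.neg h).trans (map_neg _ _).symm)
    | add a b ha hb =>
      exact (map_add _ _ _).trans ((congrArg₂ (· + ·) ha hb).trans (map_add _ _ _).symm)

lemma toFn_phiV (V W : Opens X) (a : FreeAbelianGroup (W ⟶ V)) (x : W) :
    toFn ((phiV V).app (op W) a : Sec (IU V) W) x = ev a := phiHom_apply V W a x

lemma ev_injective {α : Type u} [Subsingleton α] : Function.Injective (ev (α := α)) := by
  rw [injective_iff_map_eq_zero]
  intro a ha
  by_cases hα : Nonempty α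
  · obtain ⟨i₀⟩ := hα
    have key : ∀ b : FreeAbelianGroup α, b = (ev b) • FreeAbelianGroup.of i₀ := by
      intro b
      induction b using FreeAbelianGroup.induction_on with
      | zero => simp
      | of i =>
        have : ev (FreeAbelianGroup.of i) = 1 := FreeAbelianGroup.lift_apply_of _ _
        rw [this, one_smul, Subsingleton.elim i i₀]
      | neg i h =>
        have : ev (FreeAbelianGroup.of i) = 1 := FreeAbelianGroup.lift_apply_of _ _
        rw [map_neg, this, neg_smul, one_smul, Subsingleton.elim i i₀]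
      | add a b ha hb =>
        rw [map_add, add_smul, ← ha, ← hb]
    rw [key a, ha, zero_smul]
  · haveI : IsEmpty α := not_nonempty_iff.1 hα
    have key : ∀ b : FreeAbelianGroup α, b = 0 := by
      intro b
      induction b using FreeAbelianGroup.induction_on with
      | zero => rfl
      | of i => exact isEmptyElim i
      | neg i h => exact isEmptyElim i
      | add a b ha hb => rw [ha, hb, add_zero]
    exact key a

lemma ev_smul_of {α : Type u} (c : ℤ) (i : α) : ev (c • FreeAbelianGroup.of i) = c := by
  rw [map_zsmul]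
  have : ev (FreeAbelianGroup.of i) = 1 := FreeAbelianGroup.lift_apply_of _ _
  rw [this, smul_eq_mul, mul_one]

lemma phiV_locInj (V : Opens X) :
    Presheaf.IsLocallyInjective (Opens.grothendieckTopology X) (phiV V) where
  equalizerSieve_mem {W} a b h := by
    intro p hp
    refine ⟨W.unop, 𝟙 _, ?_, hp⟩
    have hab : a = b := by
      apply ev_injective (α := (W.unop ⟶ V))
      have h1 := toFn_phiV V W.unop a ⟨p, hp⟩
      have h2 := toFn_phiV V W.unop b ⟨p, hp⟩
      rw [← h1, ← h2]
      exact congrArg (fun s : Sec (IU V) W.unop => toFn s ⟨p, hp⟩) h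
    rw [hab]
    rfl

lemma phiV_locSurj (V : Opens X) :
    Presheaf.IsLocallySurjective (Opens.grothendieckTopology X) (phiV V) where
  imageSieve_mem {W} t := by
    intro p hp
    obtain ⟨V₁, hV₁W, hpV₁, hc⟩ := exists_const_nhd (I := IU V) (W := W) t p hp
    by_cases hpV : p ∈ V
    · refine ⟨V₁ ⊓ V, homOfLE (inf_le_left.trans hV₁W), ?_, ⟨hpV₁, hpV⟩⟩
      refine ⟨(toFn t ⟨p, hp⟩) • FreeAbelianGroup.of (homOfLE inf_le_right : V₁ ⊓ V ⟶ V), ?_⟩
      apply toFn_injective (I := IU V) (W := V₁ ⊓ V)
      funext x
      rw [toFn_phiV, ev_smul_of]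
      exact (hc x.1 x.2.1 (hV₁W x.2.1)).symm
    · refine ⟨V₁, homOfLE hV₁W, ?_, hpV₁⟩
      refine ⟨0, ?_⟩
      apply toFn_injective (I := IU V) (W := V₁)
      funext x
      rw [map_zero]
      have h0 : toFn t ⟨p, hp⟩ = 0 := by
        have := toFn_mem_I t ⟨p, hp⟩
        rw [IU_of_not_mem hpV] at this
        exact this
      have := hc x.1 x.2 (hV₁W x.2)
      rw [h0] at this
      exact this.symm

/-- **the free abelian sheaf on an open `V` is `S_{I_V}`** -/
theorem nonempty_freeSheaf_iso (V : Opens X) :
    Nonempty (CohCx.freeSheaf (Opens.grothendieckTopology X) V ≅ SI (IU V)) := by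
  haveI := phiV_locInj V
  haveI := phiV_locSurj V
  have hW : (Opens.grothendieckTopology X).W (phiV V) :=
    GrothendieckTopology.W_of_isLocallyBijective _ (phiV V)
  have h1 : IsIso ((presheafToSheaf (Opens.grothendieckTopology X) AddCommGrpCat.{u}).map
      (phiV V)) := (GrothendieckTopology.W_iff _ (phiV V)).1 hW
  have h2 : IsIso ((sheafificationAdjunction (Opens.grothendieckTopology X)
      AddCommGrpCat.{u}).counit.app (SI (IU V))) :=
    isIso_sheafificationAdjunction_counit (J := Opens.grothendieckTopology X)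
      (D := AddCommGrpCat.{u}) (SI (IU V))
  exact ⟨@asIso _ _ _ _ _ h1 ≪≫ @asIso _ _ _ _ _ h2⟩

end Groth.Agent.Lib.SubZH8
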