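import Mathlib
import Groth.Prelude
import Groth.Agent.Lib.SubZ4_helper8

/-!
# Vanishing for the sheaves `S_I`, `I` constructible (helper8)
APPEND-ONLY once landed.
-/

set_option autoImplicit false
universe u

open CategoryTheory CategoryTheory.Limits TopologicalSpace Opposite

namespace Groth.Agent.Lib.SubZH8

open Groth.Agent.Lib.GVanH2 Groth.Agent.Lib.FreeSheaf

variable {X : TopCat.{u}}

lemma HV_right {S : ShortComplex (CohTop.Ab X)} (hS : S.ShortExact) {p : ℕ} (h₂ : HV S.X₂ p)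
    (h₁ : HV S.X₁ (p + 1)) : HV S.X₃ p := by
  intro x
  obtain ⟨x₂, hx₂⟩ := Abelian.Ext.covariant_sequence_exact₃ _ hS x rfl (h₁ _)
  rw [← hx₂, h₂ x₂, Abelian.Ext.zero_comp]

lemma HV_biprod {A B : CohTop.Ab X} {p : ℕ} (hA : HV A p) (hB : HV B p) : HV (A ⊞ B) p :=
  HV.mid (S := ShortComplex.mk (biprod.inl : A ⟶ A ⊞ B) (biprod.snd : A ⊞ B ⟶ B) (by simp))
    (ShortComplex.Splitting.ofHasBinaryBiproduct A B).shortExact hA hB

/-- hom-extensionality into `S_I` -/
lemma SI_hom_ext {F : CohTop.Ab X} {I : X → Ideal ℤ} (f g : F ⟶ SI I)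
    (h : ∀ (W : Opens X) (s : F.obj.obj (op W)) (x : W),
      toFn (f.hom.app (op W) s : Sec I W) x = toFn (g.hom.app (op W) s : Sec I W) x) : f = g := by
  ext W s
  exact toFn_injective (funext (h W.unop s))

lemma toFn_add_app {F : CohTop.Ab X} {I : X → Ideal ℤ} (f g : F ⟶ SI I) (W : Opens X)
    (s : F.obj.obj (op W)) (x : W) :
    toFn ((f + g).hom.app (op W) s : Sec I W) x =
      toFn (f.hom.app (op W) s : Sec I W) x + toFn (g.hom.app (op W) s : Sec I W) x := rfl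

/-- the colon ideal function `(I : p)` -/
def colonI (p : ℤ) (I : X → Ideal ℤ) : X → Ideal ℤ :=
  fun x => Submodule.comap (LinearMap.mul ℤ ℤ p) (I x)

lemma mem_colonI {p : ℤ} {I : X → Ideal ℤ} {x : X} {m : ℤ} :
    m ∈ colonI p I x ↔ p * m ∈ I x := Iff.rfl

lemma biprod_total_app {A B : CohTop.Ab X} (W : Opens X) (m : (A ⊞ B).obj.obj (op W)) :
    (biprod.inl : A ⟶ A ⊞ B).hom.app (op W) ((biprod.fst : A ⊞ B ⟶ A).hom.app (op W) m) +
      (biprod.inr : B ⟶ A ⊞ B).hom.app (op W) ((biprod.snd : A ⊞ B ⟶ B).hom.app (op W) m) = m := by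
  have h := congrArg (fun f : A ⊞ B ⟶ A ⊞ B => f.hom.app (op W) m)
    (biprod.total (X := A) (Y := B))
  exact h

lemma comp_app_apply {A B C : CohTop.Ab X} (f : A ⟶ B) (g : B ⟶ C) (W : Opens X)
    (m : A.obj.obj (op W)) :
    (f ≫ g).hom.app (op W) m = g.hom.app (op W) (f.hom.app (op W) m) := rfl

section Step

variable (I : X → Ideal ℤ) (p : ℤ) (N' : ℤ) (V : Opens X) (hV : ∀ x, x ∈ V ↔ N' ∈ I x)

include hV in
lemma hα₁ : ∀ x, ∀ m ∈ IU V x, (-N') * m ∈ colonI p I x := by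
  intro x m hm
  rw [mem_colonI]
  rcases mem_IU.1 hm with hx | rfl
  · have : p * (-N' * m) = (-(p * m)) * N' := by ring
    rw [this]
    exact (I x).mul_mem_left _ ((hV x).1 hx)
  · simp

lemma hα₂ : ∀ x, ∀ m ∈ IU V x, p * m ∈ IU V x := fun x _ hm => (IU V x).mul_mem_left _ hm

include hV in
lemma hβ₂ : ∀ x, ∀ m ∈ IU V x, N' * m ∈ I x := by
  intro x m hm
  rcases mem_IU.1 hm with hx | rfl
  · exact (I x).mul_mem_right _ ((hV x).1 hx)
  · simp

/-- `s ↦ -N' s` -/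
noncomputable def α₁ : SI (IU V) ⟶ SI (colonI p I) := smulHom (-N') (hα₁ I p N' V hV)

/-- `s ↦ p s` -/
noncomputable def α₂ : SI (IU V) ⟶ SI (IU V) := smulHom p (hα₂ p V)

/-- `a ↦ p a` -/
noncomputable def β₁ : SI (colonI p I) ⟶ SI I := smulHom p (fun _ _ hm => hm)

/-- `s ↦ N' s` -/
noncomputable def β₂ : SI (IU V) ⟶ SI I := smulHom N' (hβ₂ I N' V hV)

/-- the short complex `0 → ℤ_V → S_{(I:p)} ⊕ ℤ_V → S_I → 0` -/
noncomputable def stepSC : ShortComplex (CohTop.Ab X) :=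
  ShortComplex.mk (biprod.lift (α₁ I p N' V hV) (α₂ p V)) (biprod.desc (β₁ I p) (β₂ I N' V hV))
    (by
      rw [biprod.lift_desc]
      apply SI_hom_ext
      intro W s x
      rw [toFn_add_app]
      show p * (-N' * toFn s x) + N' * (p * toFn s x) = 0
      ring)

end Step

lemma biprod_sec_ext {A B : CohTop.Ab X} (W : Opens X) (m₁ m₂ : (A ⊞ B).obj.obj (op W))
    (h1 : (biprod.fst : A ⊞ B ⟶ A).hom.app (op W) m₁ = (biprod.fst : A ⊞ B ⟶ A).hom.app (op W) m₂)
    (h2 : (biprod.snd : A ⊞ B ⟶ B).hom.app (op W) m₁ = (biprod.snd : A ⊞ B ⟶ B).hom.app (op W) m₂) :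
    m₁ = m₂ := by
  rw [← biprod_total_app W m₁, ← biprod_total_app W m₂, h1, h2]

lemma exists_nhd_mem {I : X → Ideal ℤ} (hopen : ∀ m : ℤ, m ≠ 0 → IsOpen {x | m ∈ I x}) (m : ℤ)
    (x : X) (hm : m ∈ I x) : ∃ U : Opens X, x ∈ U ∧ ∀ y ∈ U, m ∈ I y := by
  by_cases h0 : m = 0
  · subst h0
    exact ⟨⊤, trivial, fun y _ => (I y).zero_mem⟩
  · exact ⟨⟨_, hopen m h0⟩, hm, fun y hy => hy⟩

lemma hopen_IU (V : Opens X) : ∀ m : ℤ, m ≠ 0 → IsOpen {x | m ∈ IU V x} := by
  intro m hm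
  have : {x | m ∈ IU V x} = (V : Set X) := by
    ext x
    show m ∈ IU V x ↔ x ∈ V
    rw [mem_IU]
    simp [hm]
  rw [this]
  exact V.2

/-- the pointwise decomposition used for local surjectivity -/
lemma exists_decomp {I : X → Ideal ℤ} {p N' : ℤ} {V : Opens X} (hV : ∀ x, x ∈ V ↔ N' ∈ I x)
    (hp : Prime p) (hpN : ¬ p ∣ N') (v : ℕ) (hNI : ∀ x, I x ≠ ⊥ → p ^ v * N' ∈ I x)
    (x : X) (m : ℤ) (hm : m ∈ I x) :
    ∃ e c : ℤ, m = p * e + N' * c ∧ p * e ∈ I x ∧ (c ≠ 0 → x ∈ V) := by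
  by_cases hxV : x ∈ V
  · have hcop : IsCoprime p N' := (Prime.coprime_iff_not_dvd hp).2 hpN
    obtain ⟨a, b, hab⟩ := hcop
    refine ⟨a * m, b * m, ?_, ?_, fun _ => hxV⟩
    · have : p * (a * m) + N' * (b * m) = (a * p + b * N') * m := by ring
      rw [this, hab, one_mul]
    · have : p * (a * m) = (p * a) * m := by ring
      rw [this]
      exact (I x).mul_mem_left _ hm
  · by_cases hpm : p ∣ m
    · obtain ⟨e, rfl⟩ := hpm
      exact ⟨e, 0, by ring, hm, fun h => absurd rfl h⟩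
    · exfalso
      apply hxV
      rw [hV]
      have hbot : I x ≠ ⊥ := by
        intro h
        rw [h, Ideal.mem_bot] at hm
        exact hpm (hm ▸ dvd_zero p)
      have hN := hNI x hbot
      have hcop : IsCoprime m (p ^ v) :=
        IsCoprime.pow_right ((Prime.coprime_iff_not_dvd hp).2 hpm).symm
      obtain ⟨a, b, hab⟩ := hcop
      have : N' = (a * N') * m + b * (p ^ v * N') := by
        have : (a * N') * m + b * (p ^ v * N') = (a * m + b * p ^ v) * N' := by ring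
        rw [this, hab, one_mul]
      rw [this]
      exact (I x).add_mem ((I x).mul_mem_left _ hm) ((I x).mul_mem_left _ hN)

lemma desc_app_inl {A B C : CohTop.Ab X} (f : A ⟶ C) (g : B ⟶ C) (W : Opens X)
    (a : A.obj.obj (op W)) :
    (biprod.desc f g).hom.app (op W) ((biprod.inl : A ⟶ A ⊞ B).hom.app (op W) a) =
      f.hom.app (op W) a := by
  rw [← comp_app_apply, biprod.inl_desc]

lemma desc_app_inr {A B C : CohTop.Ab X} (f : A ⟶ C) (g : B ⟶ C) (W : Opens X)
    (b : B.obj.obj (op W)) :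
    (biprod.desc f g).hom.app (op W) ((biprod.inr : B ⟶ A ⊞ B).hom.app (op W) b) =
      g.hom.app (op W) b := by
  rw [← comp_app_apply, biprod.inr_desc]

section StepExact

variable (I : X → Ideal ℤ) (p : ℤ) (N' : ℤ) (V : Opens X) (hV : ∀ x, x ∈ V ↔ N' ∈ I x)
  (hp : Prime p) (hpN : ¬ p ∣ N') (v : ℕ) (hNI : ∀ x, I x ≠ ⊥ → p ^ v * N' ∈ I x)
  (hopen : ∀ m : ℤ, m ≠ 0 → IsOpen {x | m ∈ I x})

include hp in
lemma stepSC_hinj (W : Opens X) (s : (SI (IU V)).obj.obj (op W))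
    (hs : (biprod.lift (α₁ I p N' V hV) (α₂ p V)).hom.app (op W) s = 0) : s = 0 := by
  have h2 := congrArg (fun m => (biprod.snd : SI (colonI p I) ⊞ SI (IU V) ⟶ _).hom.app (op W) m) hs
  simp only [] at h2
  rw [← comp_app_apply, biprod.lift_snd, map_zero] at h2
  apply sec_ext (I := IU V)
  intro x
  have h3 := congrArg (fun t : Sec (IU V) W => toFn t x) h2
  have h4 : p * toFn (s : Sec (IU V) W) x = 0 := h3
  rcases mul_eq_zero.1 h4 with h | h
  · exact absurd h hp.ne_zero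
  · exact h

include hp hpN in
lemma stepSC_hex (W : Opens X) (m : (SI (colonI p I) ⊞ SI (IU V)).obj.obj (op W))
    (hm : (biprod.desc (β₁ I p) (β₂ I N' V hV)).hom.app (op W) m = 0) :
    ∃ t : (SI (IU V)).obj.obj (op W),
      (biprod.lift (α₁ I p N' V hV) (α₂ p V)).hom.app (op W) t = m := by
  have hpt : ∀ x : W, p * toFn ((biprod.fst : SI (colonI p I) ⊞ SI (IU V) ⟶ _).hom.app (op W) m :
      Sec (colonI p I) W) x + N' * toFn ((biprod.snd : SI (colonI p I) ⊞ SI (IU V) ⟶ _).hom.app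
        (op W) m : Sec (IU V) W) x = 0 := by
    intro x
    have h1 := biprod_total_app W m
    rw [← h1, map_add, desc_app_inl, desc_app_inr] at hm
    exact congrArg (fun t : Sec I W => toFn t x) hm
  set a : Sec (colonI p I) W :=
    (biprod.fst : SI (colonI p I) ⊞ SI (IU V) ⟶ _).hom.app (op W) m with ha
  set s : Sec (IU V) W := (biprod.snd : SI (colonI p I) ⊞ SI (IU V) ⟶ _).hom.app (op W) m with hs
  have hdvd : ∀ x : W, p ∣ toFn s x := by
    intro x
    have h1 : p ∣ N' * toFn s x := by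
      have := hpt x
      have h2 : N' * toFn s x = p * (-toFn a x) := by linarith
      exact ⟨_, h2⟩
    exact (hp.dvd_or_dvd h1).resolve_left hpN
  have hs' : (fun x => toFn s x / p) ∈ secSub (IU V) W := by
    refine ⟨(isLocallyConstant_toFn s).comp (fun n => n / p), fun x => ?_⟩
    rw [mem_IU]
    rcases mem_IU.1 (toFn_mem_I s x) with h | h
    · exact Or.inl h
    · right
      show toFn s x / p = 0
      rw [h, Int.zero_ediv]
  refine ⟨mkS (fun x => toFn s x / p) hs', biprod_sec_ext W _ _ ?_ ?_⟩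
  · rw [← comp_app_apply, biprod.lift_fst]
    apply sec_ext (I := colonI p I)
    intro x
    show -N' * (toFn s x / p) = toFn a x
    have h1 := hpt x
    have h2 : p * (toFn s x / p) = toFn s x := Int.mul_ediv_cancel' (hdvd x)
    apply mul_left_cancel₀ hp.ne_zero
    have h3 : p * (-N' * (toFn s x / p)) = -N' * (p * (toFn s x / p)) := by ring
    rw [h3, h2]
    linarith
  · rw [← comp_app_apply, biprod.lift_snd]
    apply sec_ext (I := IU V)
    intro x
    show p * (toFn s x / p) = toFn s x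
    exact Int.mul_ediv_cancel' (hdvd x)

include hp hpN hNI hopen in
lemma stepSC_hsurj (W : Opens X) (t : (SI I).obj.obj (op W)) (x : X) (hx : x ∈ W) :
    ∃ (V' : Opens X) (hV' : V' ≤ W), x ∈ V' ∧
      ∃ s : (SI (colonI p I) ⊞ SI (IU V)).obj.obj (op V'),
        (biprod.desc (β₁ I p) (β₂ I N' V hV)).hom.app (op V') s = rs (SI I) hV' t := by
  obtain ⟨V₁, hV₁W, hxV₁, hconst⟩ := exists_const_nhd (t : Sec I W) x hx
  obtain ⟨e, c, hdec, hpe, hc⟩ := exists_decomp hV hp hpN v hNI x (toFn (t : Sec I W) ⟨x, hx⟩)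
    (toFn_mem_I (t : Sec I W) ⟨x, hx⟩)
  obtain ⟨U₀, hxU₀, hU₀⟩ := exists_nhd_mem hopen (p * e) x hpe
  obtain ⟨U₁, hxU₁, hU₁⟩ := exists_nhd_mem (hopen_IU V) c x (by
    rw [mem_IU]
    by_cases h : c = 0
    · exact Or.inr h
    · exact Or.inl (hc h))
  refine ⟨V₁ ⊓ U₀ ⊓ U₁, le_trans inf_le_left (le_trans inf_le_left hV₁W),
    ⟨⟨hxV₁, hxU₀⟩, hxU₁⟩, ?_⟩
  refine ⟨(biprod.inl : SI (colonI p I) ⟶ SI (colonI p I) ⊞ SI (IU V)).hom.app (op (V₁ ⊓ U₀ ⊓ U₁))
      (constSec (V₁ ⊓ U₀ ⊓ U₁) e (fun y hy => mem_colonI.2 (hU₀ y hy.1.2))) +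
    (biprod.inr : SI (IU V) ⟶ SI (colonI p I) ⊞ SI (IU V)).hom.app (op (V₁ ⊓ U₀ ⊓ U₁))
      (constSec (V₁ ⊓ U₀ ⊓ U₁) c (fun y hy => hU₁ y hy.2)), ?_⟩
  rw [map_add, desc_app_inl, desc_app_inr]
  apply sec_ext (I := I)
  intro y
  show p * e + N' * c = toFn (t : Sec I W) ⟨y.1, _⟩
  rw [hconst y.1 y.2.1.1, ← hdec]

include hp hpN hNI hopen in
theorem stepSC_shortExact : (stepSC I p N' V hV).ShortExact :=
  shortExact_of_sections (stepSC I p N' V hV)
    (stepSC_hinj I p N' V hV hp) (stepSC_hex I p N' V hV hp hpN)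
    (stepSC_hsurj I p N' V hV hp hpN v hNI hopen)

end StepExact


section ThmB

variable (d : ℕ)
  (hfree : ∀ U : Opens X, IsCompact (U : Set X) → ∀ q : ℕ, d < q →
    HV (CohCx.freeSheaf (Opens.grothendieckTopology X) U) q)

include hfree in
lemma HV_SI_IU (V : Opens X) (hV : IsCompact (V : Set X)) (q : ℕ) (hq : d < q) :
    HV (SI (IU V)) q :=
  HV.of_iso (nonempty_freeSheaf_iso V).some (hfree V hV q hq)

lemma eq_IU_of_one {I : X → Ideal ℤ} (V : Opens X) (hV : ∀ x, x ∈ V ↔ (1 : ℤ) ∈ I x)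
    (hI : ∀ x, I x ≠ ⊥ → (1 : ℤ) ∈ I x) : I = IU V := by
  funext x
  by_cases hx : x ∈ V
  · rw [IU_of_mem hx]
    exact (Ideal.eq_top_iff_one _).2 ((hV x).1 hx)
  · rw [IU_of_not_mem hx]
    by_contra h
    exact hx ((hV x).2 (hI x h))

include hfree in
theorem HV_SI_aux : ∀ N : ℕ, 0 < N → ∀ I : X → Ideal ℤ, (∀ m : ℤ, m ≠ 0 → IsOpen {x | m ∈ I x}) →
    (∀ m : ℤ, m ≠ 0 → IsCompact {x | m ∈ I x}) → (∀ x, I x ≠ ⊥ → (N : ℤ) ∈ I x) →
    ∀ q : ℕ, d < q → HV (SI I) q := by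
  intro N
  induction N using Nat.strong_induction_on with
  | _ N ih =>
    intro hN I hopen hcomp hNI q hq
    by_cases hN1 : N = 1
    · subst hN1
      have hI := eq_IU_of_one (I := I) ⟨_, hopen 1 one_ne_zero⟩ (fun x => Iff.rfl)
        (fun x hx => by simpa using hNI x hx)
      rw [hI]
      exact HV_SI_IU d hfree _ (hcomp 1 one_ne_zero) q hq
    · have hp : (N.minFac).Prime := Nat.minFac_prime hN1
      obtain ⟨v, N', hpN', hNeq⟩ := Nat.exists_eq_pow_mul_and_not_dvd hN.ne' N.minFac hp.ne_one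
      set p := N.minFac with hpdef
      have hN'0 : N' ≠ 0 := by
        rintro rfl
        simp at hNeq
        exact hN.ne' hNeq
      have hN'z : (N' : ℤ) ≠ 0 := by exact_mod_cast hN'0
      have hpz : (p : ℤ) ≠ 0 := by exact_mod_cast hp.ne_zero
      let V : Opens X := ⟨{x | (N' : ℤ) ∈ I x}, hopen _ hN'z⟩
      have hV : ∀ x, x ∈ V ↔ (N' : ℤ) ∈ I x := fun x => Iff.rfl
      have hVc : IsCompact (V : Set X) := hcomp _ hN'z
      have hSE := stepSC_shortExact I (p : ℤ) (N' : ℤ) V hV (Nat.prime_iff_prime_int.1 hp)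
        (by rwa [Int.natCast_dvd_natCast]) v
        (fun x hx => by
          have := hNI x hx
          rw [hNeq] at this
          exact_mod_cast this) hopen
      have hdvd : p ∣ N := Nat.minFac_dvd N
      have hNp : N / p < N := Nat.div_lt_self hN hp.one_lt
      have hNp0 : 0 < N / p := Nat.div_pos (Nat.le_of_dvd hN hdvd) hp.pos
      have hcolon : ∀ q : ℕ, d < q → HV (SI (colonI (p : ℤ) I)) q := by
        refine ih (N / p) hNp hNp0 (colonI (p : ℤ) I) ?_ ?_ ?_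
        · intro m hm
          exact hopen ((p : ℤ) * m) (mul_ne_zero hpz hm)
        · intro m hm
          exact hcomp ((p : ℤ) * m) (mul_ne_zero hpz hm)
        · intro x hx
          rw [mem_colonI]
          have hIx : I x ≠ ⊥ := by
            intro h
            apply hx
            rw [eq_bot_iff]
            intro m hm
            rw [mem_colonI, h, Ideal.mem_bot] at hm
            rw [Ideal.mem_bot]
            exact (mul_eq_zero.1 hm).resolve_left hpz
          have := hNI x hIx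
          have h2 : (p : ℤ) * ((N / p : ℕ) : ℤ) = (N : ℤ) := by
            exact_mod_cast Nat.mul_div_cancel' hdvd
          rw [h2]
          exact this
      have hZV : ∀ q : ℕ, d < q → HV (SI (IU V)) q := HV_SI_IU d hfree V hVc
      exact HV_right hSE (HV_biprod (hcolon q hq) (hZV q hq)) (hZV (q + 1) (by omega))

end ThmB

end Groth.Agent.Lib.SubZH8
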