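import Mathlib
import Groth.Prelude
import Groth.Agent.Lib.SubZ5_helper8

/-!
# Admissible ideal functions (helper8)
APPEND-ONLY once landed.
-/

set_option autoImplicit false
universe u

open CategoryTheory CategoryTheory.Limits TopologicalSpace Opposite

namespace Groth.Agent.Lib.SubZH8

open Groth.Agent.Lib.GVanH2 Groth.Agent.Lib.FreeSheaf

variable {X : TopCat.{u}}

/-- admissible ideal functions: constructible and bounded -/
structure Adm (I : X → Ideal ℤ) : Prop where
  isOpen : ∀ m : ℤ, IsOpen {x | m ∈ I x}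
  isCompact : ∀ m : ℤ, IsCompact {x | m ∈ I x}
  bdd : ∃ N : ℕ, 0 < N ∧ ∀ x, I x ≠ ⊥ → (N : ℤ) ∈ I x

theorem HV_SI (d : ℕ)
    (hfree : ∀ U : Opens X, IsCompact (U : Set X) → ∀ q : ℕ, d < q →
      HV (CohCx.freeSheaf (Opens.grothendieckTopology X) U) q)
    {I : X → Ideal ℤ} (hI : Adm I) (q : ℕ) (hq : d < q) : HV (SI I) q := by
  obtain ⟨N, hN, hNI⟩ := hI.bdd
  exact HV_SI_aux d hfree N hN I (fun m _ => hI.isOpen m) (fun m _ => hI.isCompact m) hNI q hq

lemma Adm.bot [CompactSpace X] : Adm (fun _ : X => (⊥ : Ideal ℤ)) where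
  isOpen m := by
    by_cases hm : m = 0
    · subst hm
      simp
    · have : {x : X | m ∈ (⊥ : Ideal ℤ)} = ∅ := by
        ext x
        simp [hm]
      rw [this]
      exact isOpen_empty
  isCompact m := by
    by_cases hm : m = 0
    · subst hm
      have : {x : X | (0 : ℤ) ∈ (⊥ : Ideal ℤ)} = Set.univ := by
        ext x
        simp
      rw [this]
      exact isCompact_univ
    · have : {x : X | m ∈ (⊥ : Ideal ℤ)} = ∅ := by
        ext x
        simp [hm]
      rw [this]
      exact isCompact_empty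
  bdd := ⟨1, one_pos, fun x hx => absurd rfl hx⟩

lemma exists_gen_le (K : Ideal ℤ) (N : ℕ) (hN : 0 < N) (h : K ≠ ⊥ → (N : ℤ) ∈ K) :
    ∃ n : ℕ, n ≤ N ∧ K = Ideal.span {(n : ℤ)} := by
  obtain ⟨g, hg⟩ := (IsPrincipalIdealRing.principal K).principal
  have hK : K = Ideal.span {(g.natAbs : ℤ)} := by
    rw [Int.span_natAbs]
    exact hg
  refine ⟨g.natAbs, ?_, hK⟩
  by_cases h0 : g.natAbs = 0
  · rw [h0]
    exact Nat.zero_le _
  · have hne : K ≠ ⊥ := by
      intro hb
      have : (g.natAbs : ℤ) ∈ K := by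
        rw [hK]
        exact Ideal.subset_span rfl
      rw [hb, Ideal.mem_bot] at this
      exact h0 (by exact_mod_cast this)
    have h1 := h hne
    rw [hK, Ideal.mem_span_singleton, Int.natCast_dvd_natCast] at h1
    exact Nat.le_of_dvd hN h1

lemma Adm.sup [CompactSpace X] [QuasiSeparatedSpace X] {I J : X → Ideal ℤ} (hI : Adm I)
    (hJ : Adm J) : Adm (fun x => I x ⊔ J x) where
  isOpen m := by
    rw [isOpen_iff_forall_mem_open]
    intro x hx
    obtain ⟨a, ha, b, hb, hab⟩ := Submodule.mem_sup.1 hx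
    refine ⟨{y | a ∈ I y} ∩ {y | b ∈ J y}, ?_, (hI.isOpen a).inter (hJ.isOpen b), ⟨ha, hb⟩⟩
    rintro y ⟨h1, h2⟩
    show m ∈ I y ⊔ J y
    rw [← hab]
    exact Submodule.add_mem_sup h1 h2
  isCompact m := by
    obtain ⟨N, hN, hNI⟩ := hI.bdd
    obtain ⟨N', hN', hNJ⟩ := hJ.bdd
    have key : {x | m ∈ I x ⊔ J x} = ⋃ n ∈ Finset.range (N + 1), ⋃ n' ∈ Finset.range (N' + 1),
        (if ((Nat.gcd n n' : ℕ) : ℤ) ∣ m then {x | (n : ℤ) ∈ I x} ∩ {x | (n' : ℤ) ∈ J x}
          else (∅ : Set X)) := by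
      ext x
      simp only [Set.mem_iUnion, Finset.mem_range, exists_prop]
      constructor
      · intro hx
        obtain ⟨n, hn, hIn⟩ := exists_gen_le (I x) N hN (hNI x)
        obtain ⟨n', hn', hJn⟩ := exists_gen_le (J x) N' hN' (hNJ x)
        refine ⟨n, by omega, n', by omega, ?_⟩
        have hdvd : ((Nat.gcd n n' : ℕ) : ℤ) ∣ m := by
          obtain ⟨a, ha, b, hb, hab⟩ := Submodule.mem_sup.1 hx
          rw [hIn, Ideal.mem_span_singleton] at ha
          rw [hJn, Ideal.mem_span_singleton] at hb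
          rw [← hab]
          exact dvd_add ((Int.natCast_dvd_natCast.2 (Nat.gcd_dvd_left n n')).trans ha)
            ((Int.natCast_dvd_natCast.2 (Nat.gcd_dvd_right n n')).trans hb)
        rw [if_pos hdvd]
        refine ⟨?_, ?_⟩
        · show (n : ℤ) ∈ I x
          rw [hIn]
          exact Ideal.subset_span rfl
        · show (n' : ℤ) ∈ J x
          rw [hJn]
          exact Ideal.subset_span rfl
      · rintro ⟨n, -, n', -, hx⟩
        by_cases hdvd : ((Nat.gcd n n' : ℕ) : ℤ) ∣ m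
        · rw [if_pos hdvd] at hx
          obtain ⟨h1, h2⟩ := hx
          obtain ⟨k, rfl⟩ := hdvd
          show _ ∈ I x ⊔ J x
          refine Ideal.mul_mem_right _ _ ?_
          rw [Nat.gcd_eq_gcd_ab]
          exact Submodule.add_mem_sup ((I x).mul_mem_right _ h1) ((J x).mul_mem_right _ h2)
        · rw [if_neg hdvd] at hx
          exact absurd hx (Set.notMem_empty x)
    rw [key]
    refine Finset.isCompact_biUnion _ (fun n _ => Finset.isCompact_biUnion _ (fun n' _ => ?_))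
    split_ifs
    · exact QuasiSeparatedSpace.inter_isCompact _ _ (hI.isOpen _) (hI.isCompact _)
        (hJ.isOpen _) (hJ.isCompact _)
    · exact isCompact_empty
  bdd := by
    obtain ⟨N, hN, hNI⟩ := hI.bdd
    obtain ⟨N', hN', hNJ⟩ := hJ.bdd
    refine ⟨N * N', Nat.mul_pos hN hN', fun x hx => ?_⟩
    have : I x ≠ ⊥ ∨ J x ≠ ⊥ := by
      by_contra h
      push Not at h
      apply hx
      rw [h.1, h.2, bot_sup_eq]
    push_cast
    rcases this with h | h
    · exact Ideal.mul_mem_right _ _ (Submodule.mem_sup_left (hNI x h))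
    · exact Ideal.mul_mem_left _ _ (Submodule.mem_sup_right (hNJ x h))

open Classical in
/-- the ideal function generated by a single function on an open -/
noncomputable def Ising (W : Opens X) (f : W → ℤ) : X → Ideal ℤ :=
  fun x => if h : x ∈ W then Ideal.span {f ⟨x, h⟩} else ⊥

lemma Ising_of_mem {W : Opens X} {f : W → ℤ} {x : X} (hx : x ∈ W) :
    Ising W f x = Ideal.span {f ⟨x, hx⟩} := by
  unfold Ising; rw [dif_pos hx]

lemma Ising_of_not_mem {W : Opens X} {f : W → ℤ} {x : X} (hx : x ∉ W) :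
    Ising W f x = ⊥ := by
  unfold Ising; rw [dif_neg hx]

lemma mem_Ising {W : Opens X} {f : W → ℤ} {x : X} {m : ℤ} :
    m ∈ Ising W f x ↔ (m = 0 ∨ ∃ hx : x ∈ W, f ⟨x, hx⟩ ∣ m) := by
  by_cases hx : x ∈ W
  · rw [Ising_of_mem hx, Ideal.mem_span_singleton]
    constructor
    · intro h
      exact Or.inr ⟨hx, h⟩
    · rintro (rfl | ⟨_, h⟩)
      · exact dvd_zero _
      · exact h
  · rw [Ising_of_not_mem hx, Ideal.mem_bot]
    constructor
    · intro h
      exact Or.inl h
    · rintro (h | ⟨h, _⟩)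
      · exact h
      · exact absurd h hx

lemma setOf_mem_Ising {W : Opens X} {f : W → ℤ} {m : ℤ} (hm : m ≠ 0) :
    {x | m ∈ Ising W f x} = Subtype.val '' (f ⁻¹' {d | d ∣ m}) := by
  ext x
  simp only [Set.mem_image, Set.mem_preimage]
  show m ∈ Ising W f x ↔ _
  rw [mem_Ising]
  constructor
  · rintro (h | ⟨hx, h⟩)
    · exact absurd h hm
    · exact ⟨⟨x, hx⟩, h, rfl⟩
  · rintro ⟨⟨y, hy⟩, h, rfl⟩
    exact Or.inr ⟨hy, h⟩

lemma Adm.single [CompactSpace X] (W : Opens X) (hW : IsCompact (W : Set X)) (f : W → ℤ)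
    (hf : IsLocallyConstant f) : Adm (Ising W f) where
  isOpen m := by
    by_cases hm : m = 0
    · subst hm
      have : {x | (0 : ℤ) ∈ Ising W f x} = Set.univ := by
        ext x
        simp
      rw [this]
      exact isOpen_univ
    · rw [setOf_mem_Ising hm]
      exact W.2.isOpenMap_subtype_val _ (hf _)
  isCompact m := by
    by_cases hm : m = 0
    · subst hm
      have : {x | (0 : ℤ) ∈ Ising W f x} = Set.univ := by
        ext x
        simp
      rw [this]
      exact isCompact_univ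
    · rw [setOf_mem_Ising hm]
      haveI : CompactSpace W := isCompact_iff_compactSpace.1 hW
      have hcl : IsClosed (f ⁻¹' {d | d ∣ m}) := by
        rw [← isOpen_compl_iff, ← Set.preimage_compl]
        exact hf _
      exact hcl.isCompact.image continuous_subtype_val
  bdd := by
    haveI : CompactSpace W := isCompact_iff_compactSpace.1 hW
    have hfin : (Set.range f).Finite := hf.range_finite
    refine ⟨∏ v ∈ hfin.toFinset, (if v = 0 then 1 else v.natAbs), ?_, ?_⟩
    · apply Finset.prod_pos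
      intro v _
      split_ifs with h
      · exact one_pos
      · exact Int.natAbs_pos.2 h
    · intro x hx
      by_cases hxW : x ∈ W
      · rw [Ising_of_mem hxW] at hx ⊢
        have hne : f ⟨x, hxW⟩ ≠ 0 := by
          intro h
          apply hx
          rw [h]
          exact Ideal.span_singleton_eq_bot.2 rfl
        rw [Ideal.mem_span_singleton]
        have hmem : f ⟨x, hxW⟩ ∈ hfin.toFinset := by
          rw [Set.Finite.mem_toFinset]
          exact ⟨_, rfl⟩
        have h1 := Finset.dvd_prod_of_mem (fun v : ℤ => if v = 0 then 1 else v.natAbs) hmem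
        rw [if_neg hne] at h1
        exact Int.natAbs_dvd.1 (Int.natCast_dvd_natCast.2 h1)
      · exact absurd (Ising_of_not_mem hxW) hx

/-- the inclusion `S_I ⟶ S_J` for `I ≤ J` -/
noncomputable def leHom {I J : X → Ideal ℤ} (h : ∀ x, I x ≤ J x) : SI I ⟶ SI J :=
  ⟨{ app := fun W => AddCommGrpCat.ofHom
      { toFun := fun s => mkS (toFn s) ⟨isLocallyConstant_toFn s, fun x => h _ (toFn_mem_I s x)⟩
        map_zero' := rfl
        map_add' := fun _ _ => rfl }
     naturality := by intros; rfl }⟩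

lemma toFn_leHom {I J : X → Ideal ℤ} (h : ∀ x, I x ≤ J x) {W : Opens X} (s : Sec I W) (x : W) :
    toFn ((leHom h).hom.app (op W) s : Sec J W) x = toFn s x := rfl

instance {I J : X → Ideal ℤ} (h : ∀ x, I x ≤ J x) : Mono (leHom h) := by
  apply mono_of_sections
  intro W s hs
  apply sec_ext (I := I)
  intro x
  exact congrArg (fun t : Sec J W => toFn t x) hs

lemma leHom_comp {I J K : X → Ideal ℤ} (h : ∀ x, I x ≤ J x) (h' : ∀ x, J x ≤ K x) :
    leHom h ≫ leHom h' = leHom (fun x => (h x).trans (h' x)) := rfl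

lemma leHom_refl {I : X → Ideal ℤ} : leHom (fun x => le_refl (I x)) = 𝟙 (SI I) := rfl

/-- the locally constant sheaf -/
noncomputable abbrev LC (X : TopCat.{u}) : CohTop.Ab X := SI (fun _ : X => (⊤ : Ideal ℤ))

/-- the inclusion into the locally constant sheaf -/
noncomputable abbrev inclI (I : X → Ideal ℤ) : SI I ⟶ LC X := leHom (fun _ => le_top)

/-- `S_I ⊕ S_J ⟶ S_{I + J}` -/
noncomputable def supHom (I J : X → Ideal ℤ) : SI I ⊞ SI J ⟶ SI (fun x => I x ⊔ J x) :=
  biprod.desc (leHom (fun _ => le_sup_left)) (leHom (fun _ => le_sup_right))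

lemma supHom_incl (I J : X → Ideal ℤ) :
    supHom I J ≫ inclI _ = biprod.desc (inclI I) (inclI J) := by
  unfold supHom
  apply biprod.hom_ext'
  · rw [biprod.inl_desc_assoc, biprod.inl_desc]
    rfl
  · rw [biprod.inr_desc_assoc, biprod.inr_desc]
    rfl

lemma epi_supHom (I J : X → Ideal ℤ) (hI : ∀ m : ℤ, IsOpen {x | m ∈ I x})
    (hJ : ∀ m : ℤ, IsOpen {x | m ∈ J x}) : Epi (supHom I J) := by
  apply epi_of_locally
  intro W t x hx
  obtain ⟨V₁, hV₁W, hxV₁, hconst⟩ := exists_const_nhd (t : Sec _ W) x hx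
  obtain ⟨a, ha, b, hb, hab⟩ := Submodule.mem_sup.1 (toFn_mem_I (t : Sec _ W) ⟨x, hx⟩)
  let U₀ : Opens X := ⟨_, hI a⟩
  let U₁ : Opens X := ⟨_, hJ b⟩
  refine ⟨V₁ ⊓ U₀ ⊓ U₁, le_trans inf_le_left (le_trans inf_le_left hV₁W),
    ⟨⟨hxV₁, ha⟩, hb⟩, ?_⟩
  refine ⟨(biprod.inl : SI I ⟶ SI I ⊞ SI J).hom.app (op (V₁ ⊓ U₀ ⊓ U₁))
      (constSec (V₁ ⊓ U₀ ⊓ U₁) a (fun y hy => hy.1.2)) +
    (biprod.inr : SI J ⟶ SI I ⊞ SI J).hom.app (op (V₁ ⊓ U₀ ⊓ U₁))
      (constSec (V₁ ⊓ U₀ ⊓ U₁) b (fun y hy => hy.2)), ?_⟩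
  unfold supHom
  rw [map_add, desc_app_inl, desc_app_inr]
  apply sec_ext (I := fun x => I x ⊔ J x)
  intro y
  show a + b = toFn (t : Sec _ W) ⟨y.1, _⟩
  rw [hconst y.1 y.2.1.1, hab]

lemma toFn_zsmul {I : X → Ideal ℤ} {W : Opens X} (c : ℤ) (s : Sec I W) (x : W) :
    toFn (c • s) x = c * toFn s x := rfl

section Single

variable (W : Opens X) (s : Sec (fun _ : X => (⊤ : Ideal ℤ)) W)

/-- the section `s` as a section of `S_{I_s}` -/
noncomputable def sIn : Sec (Ising W (toFn s)) W :=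
  mkS (toFn s) ⟨isLocallyConstant_toFn s, fun x => by
    rw [Ising_of_mem x.2]
    exact Ideal.subset_span rfl⟩

/-- the map `ℤ[W] ⟶ S_{I_s}` -/
noncomputable def piS : CohCx.freeSheaf (Opens.grothendieckTopology X) W ⟶ SI (Ising W (toFn s)) :=
  (freeSheafHomEquiv (Opens.grothendieckTopology X) W _).symm (sIn W s)

lemma piS_incl : piS W s ≫ inclI _ =
    (freeSheafHomEquiv (Opens.grothendieckTopology X) W (LC X)).symm s := by
  apply (freeSheafHomEquiv (Opens.grothendieckTopology X) W (LC X)).injective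
  rw [freeSheafHomEquiv_comp, Equiv.apply_symm_apply]
  unfold piS
  rw [Equiv.apply_symm_apply]
  rfl

/-- the generator of the free sheaf -/
noncomputable def genF (W : Opens X) :
    (CohCx.freeSheaf (Opens.grothendieckTopology X) W).obj.obj (op W) :=
  freeSheafHomEquiv (Opens.grothendieckTopology X) W _ (𝟙 _)

lemma app_genF {F : CohTop.Ab X} (W : Opens X)
    (φ : CohCx.freeSheaf (Opens.grothendieckTopology X) W ⟶ F) :
    φ.hom.app (op W) (genF W) = freeSheafHomEquiv (Opens.grothendieckTopology X) W F φ := by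
  unfold genF
  rw [← freeSheafHomEquiv_comp, Category.id_comp]

lemma epi_piS : Epi (piS W s) := by
  apply epi_of_locally
  intro W' t x hx
  obtain ⟨V₁, hV₁W, hxV₁, hconst⟩ := exists_const_nhd (t : Sec _ W') x hx
  by_cases hxW : x ∈ W
  · obtain ⟨V₂, hV₂W, hxV₂, hconst₂⟩ := exists_const_nhd s x hxW
    have hmem := toFn_mem_I (t : Sec _ W') ⟨x, hx⟩
    rw [Ising_of_mem hxW, Ideal.mem_span_singleton'] at hmem
    obtain ⟨c, hc⟩ := hmem
    refine ⟨V₁ ⊓ V₂, le_trans inf_le_left hV₁W, ⟨hxV₁, hxV₂⟩, ?_⟩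
    refine ⟨c • rs (CohCx.freeSheaf (Opens.grothendieckTopology X) W)
      (le_trans inf_le_right hV₂W : V₁ ⊓ V₂ ≤ W) (genF W), ?_⟩
    rw [map_zsmul, rs_nat, app_genF]
    unfold piS
    rw [Equiv.apply_symm_apply]
    apply sec_ext (I := Ising W (toFn s))
    intro y
    show c * toFn s ⟨y.1, _⟩ = toFn (t : Sec _ W') ⟨y.1, _⟩
    rw [hconst y.1 y.2.1, hconst₂ y.1 y.2.2, hc]
  · have h0 : toFn (t : Sec _ W') ⟨x, hx⟩ = 0 := by
      have hmem := toFn_mem_I (t : Sec _ W') ⟨x, hx⟩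
      rw [Ising_of_not_mem hxW, Ideal.mem_bot] at hmem
      exact hmem
    refine ⟨V₁, hV₁W, hxV₁, 0, ?_⟩
    rw [map_zero]
    apply sec_ext (I := Ising W (toFn s))
    intro y
    show (0 : ℤ) = toFn (t : Sec _ W') ⟨y.1, _⟩
    rw [hconst y.1 y.2, h0]

end Single

end Groth.Agent.Lib.SubZH8
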