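import Mathlib
import Groth.Prelude
import Groth.Agent.Lib.SubZ6_helper8
import Groth.Agent.Lib.ColimCoh3_helper9

/-!
# Subsheaves of the locally constant sheaf `ℤ` have no higher cohomology above `d` (helper8)
APPEND-ONLY once landed.
-/

set_option autoImplicit false
universe u

open CategoryTheory CategoryTheory.Limits TopologicalSpace Opposite

namespace Groth.Agent.Lib.SubZH8

open Groth.Agent.Lib.GVanH2 Groth.Agent.Lib.FreeSheaf

variable {X : TopCat.{u}}

lemma HV_of_isColimit [CompactSpace X] [PrespectralSpace X] [QuasiSeparatedSpace X]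
    {ι : Type u} [Preorder ι] [IsDirected ι (· ≤ ·)] [Nonempty ι]
    (D : ι ⥤ CohTop.Ab X) (c : Cocone D) (hc : IsColimit c) (q : ℕ)
    (h : ∀ i, HV (D.obj i) q) : HV c.pt q := by
  intro y
  obtain ⟨hs, _⟩ := ColimCoh.surj_inj (ColimCoh.qcqs_of_prespectral (⊤ : Opens X)) q D c hc ⊤
    (by simpa using (isCompact_univ : IsCompact (Set.univ : Set X))) le_rfl
  obtain ⟨i, x, hx⟩ := hs y
  rw [← hx, h i x, Abelian.Ext.zero_comp]

/-- lifting along an epimorphism against a monomorphism in an abelian category -/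
lemma exists_lift_of_epi {C : Type*} [Category C] [Abelian C] {A B C' D : C} (e : A ⟶ B) [Epi e]
    (m : C' ⟶ D) [Mono m] (t : A ⟶ C') (b : B ⟶ D) (w : t ≫ m = e ≫ b) :
    ∃ l : B ⟶ C', e ≫ l = t ∧ l ≫ m = b := by
  haveI : StrongEpi e := strongEpi_of_epi e
  have sq : CommSq t e m b := ⟨w⟩
  exact ⟨sq.lift, sq.fac_left, sq.fac_right⟩

lemma inclI_bot : inclI (fun _ : X => (⊥ : Ideal ℤ)) = 0 := by
  apply SI_hom_ext
  intro W s x
  have := toFn_mem_I (s : Sec (fun _ : X => (⊥ : Ideal ℤ)) W) x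
  rw [Ideal.mem_bot] at this
  exact this

/-- fast instance (the universe of well-poweredness cannot be found by unification) -/
noncomputable instance instCompleteLatticeSubobject (K : CohTop.Ab X) :
    CompleteLattice (Subobject K) := Subobject.instCompleteLattice.{u}

section ThmC

variable [CompactSpace X] [PrespectralSpace X] [QuasiSeparatedSpace X]
variable {K : CohTop.Ab X} (j : K ⟶ LC X) [Mono j]

/-- the index poset: admissible `I` with `S_I ⊆ K` -/
def PI : Type u := {I : X → Ideal ℤ // Adm I ∧ ∃ k : SI I ⟶ K, k ≫ j = inclI I}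

instance : Preorder (PI j) :=
  inferInstanceAs (Preorder {I : X → Ideal ℤ // Adm I ∧ ∃ k : SI I ⟶ K, k ≫ j = inclI I})

variable {j} in
/-- the factorization -/
noncomputable def kOf (I : PI j) : SI I.1 ⟶ K := I.2.2.choose

variable {j} in
@[reassoc]
lemma kOf_spec (I : PI j) : kOf I ≫ j = inclI I.1 := I.2.2.choose_spec

instance (I : PI j) : Mono (kOf I) := by
  haveI : Mono (kOf I ≫ j) := by
    rw [kOf_spec]
    infer_instance
  exact mono_of_mono (kOf I) j

variable {j} in
lemma PI_le {I J : PI j} (h : I ≤ J) : ∀ x, I.1 x ≤ J.1 x := h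

variable {j} in
@[reassoc]
lemma kOf_le {I J : PI j} (h : I ≤ J) : leHom (PI_le h) ≫ kOf J = kOf I := by
  rw [← cancel_mono j, Category.assoc, kOf_spec, kOf_spec]
  rfl

instance : Nonempty (PI j) :=
  ⟨⟨fun _ => ⊥, Adm.bot, 0, by rw [zero_comp, inclI_bot]⟩⟩

instance : IsDirected (PI j) (· ≤ ·) where
  directed I J := by
    have w : biprod.desc (kOf I) (kOf J) ≫ j = supHom I.1 J.1 ≫ inclI _ := by
      rw [supHom_incl]
      apply biprod.hom_ext'
      · rw [biprod.inl_desc_assoc, biprod.inl_desc, kOf_spec]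
      · rw [biprod.inr_desc_assoc, biprod.inr_desc, kOf_spec]
    haveI := epi_supHom I.1 J.1 I.2.1.isOpen J.2.1.isOpen
    obtain ⟨l, _, hl⟩ := exists_lift_of_epi (supHom I.1 J.1) j _ _ w
    exact ⟨⟨fun x => I.1 x ⊔ J.1 x, I.2.1.sup J.2.1, l, hl⟩, fun x => le_sup_left,
      fun x => le_sup_right⟩

/-- the diagram of the `S_I` as monomorphisms over `K` -/
noncomputable def FI : PI j ⥤ MonoOver K where
  obj I := MonoOver.mk (kOf I)
  map {I J} f := MonoOver.homMk (leHom (PI_le (leOfHom f))) (kOf_le (leOfHom f))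
  map_id _ := Subsingleton.elim _ _
  map_comp _ _ := Subsingleton.elim _ _

lemma FI_obj_hom (I : PI j) : ((FI j).obj I).obj.hom = kOf I := rfl

lemma iSup_FI_eq_top : (⨆ I : PI j, Subobject.mk ((FI j).obj I).obj.hom) = ⊤ := by
  set T : Subobject K := ⨆ I : PI j, Subobject.mk ((FI j).obj I).obj.hom with hT
  have hepi : Epi T.arrow := by
    apply epi_of_locally
    intro W' t x hx
    obtain ⟨W, hWc, hxW, hWW'⟩ :=
      (ColimCoh.qcqs_of_prespectral (⊤ : Opens X)).basis W' le_top x hx
    let s : K.obj.obj (op W) := rs K hWW' t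
    let ŝ : Sec (fun _ : X => (⊤ : Ideal ℤ)) W := j.hom.app (op W) s
    let φ : CohCx.freeSheaf (Opens.grothendieckTopology X) W ⟶ K :=
      (freeSheafHomEquiv (Opens.grothendieckTopology X) W K).symm s
    have hφ : piS W ŝ ≫ inclI _ = φ ≫ j := by
      rw [piS_incl]
      apply (freeSheafHomEquiv (Opens.grothendieckTopology X) W (LC X)).injective
      rw [Equiv.apply_symm_apply, freeSheafHomEquiv_comp, Equiv.apply_symm_apply]
    haveI := epi_piS W ŝ
    obtain ⟨k, hk1, hk2⟩ := exists_lift_of_epi (piS W ŝ) j φ (inclI _) hφ.symm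
    let I₀ : PI j := ⟨Ising W (toFn ŝ), Adm.single W hWc _ (isLocallyConstant_toFn ŝ), k, hk2⟩
    have hkk : kOf I₀ = k := by rw [← cancel_mono j, kOf_spec, hk2]
    have hle : Subobject.mk (kOf I₀) ≤ T :=
      le_iSup (fun I : PI j => Subobject.mk ((FI j).obj I).obj.hom) I₀
    have hfac : Subobject.ofMkLE (kOf I₀) T hle ≫ T.arrow = kOf I₀ := Subobject.ofMkLE_arrow _
    refine ⟨W, hWW', hxW, (Subobject.ofMkLE (kOf I₀) T hle).hom.app (op W)
      ((piS W ŝ).hom.app (op W) (genF W)), ?_⟩
    rw [← comp_app_apply, ← comp_app_apply, hfac, hkk, hk1, app_genF,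
      Equiv.apply_symm_apply]
  haveI : IsIso T.arrow := isIso_of_mono_of_epi _
  exact Subobject.eq_top_of_isIso_arrow T

include j in
/-- **Theorem C**: a subsheaf of the locally constant sheaf `ℤ` has no cohomology above `d`. -/
theorem HV_of_mono_LC (d : ℕ)
    (hfree : ∀ U : Opens X, IsCompact (U : Set X) → ∀ q : ℕ, d < q →
      HV (CohCx.freeSheaf (Opens.grothendieckTopology X) U) q)
    (q : ℕ) (hq : d < q) : HV K q := by
  let c : Cocone (FI j ⋙ MonoOver.forget _) :=
    { pt := Over.mk (𝟙 K)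
      ι :=
        { app := fun I => Over.homMk (kOf I) (by simp [FI_obj_hom])
          naturality := by
            intro I J f
            refine Over.OverMorphism.ext ?_
            exact (kOf_le (leOfHom f)).trans (Category.comp_id _).symm } }
  haveI : Mono c.pt.hom := inferInstanceAs (Mono (𝟙 K))
  have h : Subobject.mk c.pt.hom = ⨆ I, Subobject.mk ((FI j).obj I).obj.hom := by
    rw [iSup_FI_eq_top]
    haveI : IsIso c.pt.hom := inferInstanceAs (IsIso (𝟙 K))
    exact Subobject.mk_eq_top_of_isIso _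
  have hc := IsGrothendieckAbelian.isColimitMapCoconeOfSubobjectMkEqISup (FI j) c h
  exact HV_of_isColimit _ _ hc q (fun I => HV_SI d hfree I.2.1 q hq)

end ThmC

end Groth.Agent.Lib.SubZH8
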