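import Mathlib
import Groth.Prelude
import Groth.Agent.Lib.SubZ7_helper8

/-!
# Vanishing of cohomology above `d` from vanishing on extensions by zero (helper8)
APPEND-ONLY once landed.
-/

set_option autoImplicit false
universe u

open CategoryTheory CategoryTheory.Limits TopologicalSpace Opposite

namespace Groth.Agent.Lib.SubZH8

open Groth.Agent.Lib.GVanH2 Groth.Agent.Lib.FreeSheaf

variable {X : TopCat.{u}}

lemma HV_of_isZero {F : CohTop.Ab X} (hF : IsZero F) (p : ℕ) : HV F p := by
  intro x
  have h0 : 𝟙 F = 0 := hF.eq_of_src _ _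
  have h1 : x = x.comp (Abelian.Ext.mk₀ (𝟙 F)) (add_zero p) := (Abelian.Ext.comp_mk₀_id x).symm
  rw [h1, h0, Abelian.Ext.mk₀_zero, Abelian.Ext.comp_zero]

/-- the join of two subobjects is the image of the sum -/
lemma exists_epi_sup {C : Type*} [Category C] [Abelian C] {G : C} (S S' : Subobject G) :
    ∃ π : (S : C) ⊞ (S' : C) ⟶ ((S ⊔ S' : Subobject G) : C), Epi π ∧
      π ≫ (S ⊔ S').arrow = biprod.desc S.arrow S'.arrow := by
  set f := biprod.desc S.arrow S'.arrow with hf
  have h1 : S ≤ imageSubobject f :=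
    Subobject.le_of_comm (biprod.inl ≫ factorThruImageSubobject f) (by
      rw [Category.assoc, imageSubobject_arrow_comp, hf, biprod.inl_desc])
  have h2 : S' ≤ imageSubobject f :=
    Subobject.le_of_comm (biprod.inr ≫ factorThruImageSubobject f) (by
      rw [Category.assoc, imageSubobject_arrow_comp, hf, biprod.inr_desc])
  have h3 : imageSubobject f ≤ S ⊔ S' :=
    imageSubobject_le f (biprod.desc (Subobject.ofLE S (S ⊔ S') le_sup_left)
      (Subobject.ofLE S' (S ⊔ S') le_sup_right)) (by
        apply biprod.hom_ext'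
        · rw [biprod.inl_desc_assoc, Subobject.ofLE_arrow, hf, biprod.inl_desc]
        · rw [biprod.inr_desc_assoc, Subobject.ofLE_arrow, hf, biprod.inr_desc])
  have hT : imageSubobject f = S ⊔ S' := le_antisymm h3 (sup_le h1 h2)
  refine ⟨factorThruImageSubobject f ≫ Subobject.ofLE _ _ hT.le, ?_, ?_⟩
  · haveI : IsIso (Subobject.ofLE _ _ hT.le) :=
      ⟨Subobject.ofLE _ _ hT.ge, by simp, by simp⟩
    infer_instance
  · rw [Category.assoc, Subobject.ofLE_arrow, imageSubobject_arrow_comp]

section Main

variable [CompactSpace X] [PrespectralSpace X] [QuasiSeparatedSpace X] (d : ℕ)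
  (hfree : ∀ U : Opens X, IsCompact (U : Set X) → ∀ q : ℕ, d < q →
    HV (CohCx.freeSheaf (Opens.grothendieckTopology X) U) q)

include hfree in
/-- **Theorem D**: quotients of `ℤ[U]`, `U` compact open. -/
theorem HV_of_epi_freeSheaf (U : Opens X) (hU : IsCompact (U : Set X)) {Q : CohTop.Ab X}
    (π : CohCx.freeSheaf (Opens.grothendieckTopology X) U ⟶ Q) [Epi π] (q : ℕ) (hq : d < q) :
    HV Q q := by
  let S : ShortComplex (CohTop.Ab X) := ShortComplex.mk (kernel.ι π) π (kernel.condition π)
  have hS : S.ShortExact :=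
    { exact := ShortComplex.exact_of_f_is_kernel _ (kernelIsKernel π)
      mono_f := inferInstanceAs (Mono (kernel.ι π))
      epi_g := inferInstanceAs (Epi π) }
  let e := (nonempty_freeSheaf_iso U).some
  have hK : HV (kernel π) (q + 1) :=
    HV_of_mono_LC (kernel.ι π ≫ e.hom ≫ inclI (IU U)) d hfree (q + 1) (by omega)
  exact HV_right hS (hfree U hU q hq) hK

variable (G : CohTop.Ab X)

/-- the index type of local sections over compact opens -/
def SecIdx : Type u := Σ W : {W : Opens X // IsCompact (W : Set X)}, G.obj.obj (op W.1)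

variable {G} in
/-- the map classifying a local section -/
noncomputable def phiSec (a : SecIdx G) :
    CohCx.freeSheaf (Opens.grothendieckTopology X) a.1.1 ⟶ G :=
  (freeSheafHomEquiv (Opens.grothendieckTopology X) a.1.1 G).symm a.2

/-- the subsheaf generated by finitely many local sections -/
noncomputable def genSub (σ : Finset (SecIdx G)) : Subobject G :=
  σ.sup (fun a => imageSubobject (phiSec a))

lemma genSub_mono : Monotone (genSub G) := fun _ _ h => Finset.sup_mono h

include hfree in
/-- **Theorem E**: finitely generated subsheaves. -/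
theorem HV_genSub (σ : Finset (SecIdx G)) : ∀ q : ℕ, d < q → HV ((genSub G σ : Subobject G) :
    CohTop.Ab X) q := by
  classical
  induction σ using Finset.induction_on with
  | empty =>
    intro q _
    apply HV_of_isZero
    have h0 : genSub G ∅ = ⊥ := Finset.sup_empty
    rw [h0]
    exact IsZero.of_mono_eq_zero (⊥ : Subobject G).arrow Subobject.bot_arrow
  | insert a σ ha ih =>
    intro q hq
    have h0 : genSub G (insert a σ) = imageSubobject (phiSec a) ⊔ genSub G σ :=
      Finset.sup_insert
    rw [h0]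
    set S := genSub G σ with hSdef
    set Sa := imageSubobject (phiSec a) with hSa
    set T := Sa ⊔ S with hT
    let i : (S : CohTop.Ab X) ⟶ (T : CohTop.Ab X) := Subobject.ofLE S T le_sup_right
    let SC : ShortComplex (CohTop.Ab X) := ShortComplex.mk i (cokernel.π i) (cokernel.condition i)
    have hSC : SC.ShortExact :=
      { exact := ShortComplex.exact_of_g_is_cokernel _ (cokernelIsCokernel i)
        mono_f := inferInstanceAs (Mono i)
        epi_g := inferInstanceAs (Epi (cokernel.π i)) }
    obtain ⟨π₂, hπ₂, hπ₂'⟩ := exists_epi_sup Sa S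
    have e1 : biprod.inl ≫ π₂ = Subobject.ofLE Sa T le_sup_left := by
      rw [← cancel_mono T.arrow, Category.assoc, hπ₂', biprod.inl_desc, Subobject.ofLE_arrow]
    have e2 : biprod.inr ≫ π₂ = i := by
      rw [← cancel_mono T.arrow, Category.assoc, hπ₂', biprod.inr_desc, Subobject.ofLE_arrow]
    have e3 : π₂ ≫ cokernel.π i = (biprod.fst : (Sa : CohTop.Ab X) ⊞ (S : CohTop.Ab X) ⟶ _) ≫
        (Subobject.ofLE Sa T le_sup_left ≫ cokernel.π i) := by
      apply biprod.hom_ext'
      · rw [← Category.assoc, e1, biprod.inl_fst_assoc]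
      · rw [← Category.assoc, e2, cokernel.condition, biprod.inr_fst_assoc, zero_comp]
    haveI : Epi ((biprod.fst : (Sa : CohTop.Ab X) ⊞ (S : CohTop.Ab X) ⟶ _) ≫
        (Subobject.ofLE Sa T le_sup_left ≫ cokernel.π i)) := by
      rw [← e3]
      infer_instance
    haveI : Epi (Subobject.ofLE Sa T le_sup_left ≫ cokernel.π i) :=
      epi_of_epi (biprod.fst : (Sa : CohTop.Ab X) ⊞ (S : CohTop.Ab X) ⟶ _) _
    have hQ : HV (cokernel i) q :=
      HV_of_epi_freeSheaf d hfree a.1.1 a.1.2
        (factorThruImageSubobject (phiSec a) ≫ Subobject.ofLE Sa T le_sup_left ≫ cokernel.π i)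
        q hq
    exact HV.mid hSC (ih q hq) hQ

/-- the diagram of finitely generated subsheaves -/
noncomputable def FG : Finset (SecIdx G) ⥤ MonoOver G :=
  (genSub_mono G).functor ⋙ Subobject.representative

lemma mk_FG (σ : Finset (SecIdx G)) : Subobject.mk ((FG G).obj σ).obj.hom = genSub G σ :=
  Subobject.mk_arrow (genSub G σ)

lemma iSup_genSub_eq_top :
    (⨆ σ : Finset (SecIdx G), Subobject.mk ((FG G).obj σ).obj.hom) = ⊤ := by
  have h1 : (fun σ : Finset (SecIdx G) => Subobject.mk ((FG G).obj σ).obj.hom) = genSub G :=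
    funext (mk_FG G)
  rw [h1]
  set T : Subobject G := ⨆ σ, genSub G σ with hT
  have hepi : Epi T.arrow := by
    apply epi_of_locally
    intro W' t x hx
    obtain ⟨W, hWc, hxW, hWW'⟩ :=
      (ColimCoh.qcqs_of_prespectral (⊤ : Opens X)).basis W' le_top x hx
    let a : SecIdx G := ⟨⟨W, hWc⟩, rs G hWW' t⟩
    have hle : imageSubobject (phiSec a) ≤ T := by
      have h2 : genSub G {a} = imageSubobject (phiSec a) := Finset.sup_singleton
      rw [← h2]
      exact le_iSup (genSub G) {a}
    refine ⟨W, hWW', hxW, (factorThruImageSubobject (phiSec a) ≫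
      Subobject.ofLE _ _ hle).hom.app (op W) (genF W), ?_⟩
    rw [← comp_app_apply, Category.assoc, Subobject.ofLE_arrow, imageSubobject_arrow_comp,
      app_genF]
    exact Equiv.apply_symm_apply _ _
  haveI : IsIso T.arrow := isIso_of_mono_of_epi _
  exact Subobject.eq_top_of_isIso_arrow T

include hfree in
/-- **Theorem F**: all abelian sheaves. -/
theorem HV_all (q : ℕ) (hq : d < q) : HV G q := by
  let c : Cocone (FG G ⋙ MonoOver.forget _) :=
    { pt := Over.mk (𝟙 G)
      ι :=
        { app := fun σ => Over.homMk ((FG G).obj σ).obj.hom (by simp)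
          naturality := by
            intro σ τ f
            refine Over.OverMorphism.ext ?_
            exact (MonoOver.w ((FG G).map f)).trans (Category.comp_id _).symm } }
  haveI : Mono c.pt.hom := inferInstanceAs (Mono (𝟙 G))
  have h : Subobject.mk c.pt.hom = ⨆ σ, Subobject.mk ((FG G).obj σ).obj.hom := by
    rw [iSup_genSub_eq_top]
    haveI : IsIso c.pt.hom := inferInstanceAs (IsIso (𝟙 G))
    exact Subobject.mk_eq_top_of_isIso _
  have hc := IsGrothendieckAbelian.isColimitMapCoconeOfSubobjectMkEqISup (FG G) c h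
  exact HV_of_isColimit _ _ hc q (fun σ => HV_genSub d hfree G σ q hq)

end Main

section Conv

open Groth.Agent.Lib.FlasqueAcyclic in
lemma aa_bb (X : TopCat.{u}) : aa X ≫ bb X = 𝟙 _ := by
  apply (freeSheafHomEquiv (Opens.grothendieckTopology X) (⊤ : Opens X) _).injective
  rw [freeSheafHomEquiv_comp]
  have h1 : freeSheafHomEquiv (Opens.grothendieckTopology X) (⊤ : Opens X) _ (aa X) =
      constEquiv (Zc X) (𝟙 (Zc X)) := Equiv.apply_symm_apply _ _
  rw [h1, ← constEquiv_comp, Category.id_comp]
  exact Equiv.apply_symm_apply _ _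

theorem HV_of_subsingleton_H {F : CohTop.Ab X} {p : ℕ} (h : Subsingleton (CohTop.H F p)) :
    HV F p := by
  intro x
  have h1 : x = (Abelian.Ext.mk₀ (aa X)).comp ((Abelian.Ext.mk₀ (bb X)).comp x (zero_add p))
      (zero_add p) := by
    rw [Abelian.Ext.mk₀_comp_mk₀_assoc, aa_bb, Abelian.Ext.mk₀_id_comp]
  have h2 : (Abelian.Ext.mk₀ (bb X)).comp x (zero_add p) = 0 :=
    @Subsingleton.elim (CohTop.H F p) h _ _
  rw [h1, h2, Abelian.Ext.comp_zero]

/-- the final form -/
theorem subsingleton_H_of_freeSheaf [CompactSpace X] [PrespectralSpace X] [QuasiSeparatedSpace X]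
    (d : ℕ)
    (h : ∀ (U : Opens X), IsCompact (U : Set X) → ∀ p : ℕ, d < p →
      Subsingleton (CohTop.H (CohCx.freeSheaf (Opens.grothendieckTopology X) U) p))
    (F : CohTop.Ab X) (p : ℕ) (hp : d < p) : Subsingleton (CohTop.H F p) :=
  subsingleton_H_of_HV (HV_all d (fun U hU q hq => HV_of_subsingleton_H (h U hU q hq)) F p hp)

end Conv

end Groth.Agent.Lib.SubZH8
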