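import Mathlib
import Groth.Statements.S14091

set_option autoImplicit false
universe u

namespace Groth.Agent.Lib.TruncPoly

open Polynomial IsLocalRing

theorem trunc (k B : Type u) [Field k] [CommRing B] [Algebra k B] [Module.Finite k B] (h : B)
    (key : ∀ b : B, ∃ (c : k) (b' : B), b = algebraMap k B c + h * b')
    (hjac : h ∈ Ideal.jacobson (⊥ : Ideal B)) :
    Nonempty (B ≃ₐ[k]
      (Polynomial k ⧸ Ideal.span {(X : Polynomial k) ^ Module.finrank k B})) := by
  haveI : IsArtinianRing B := IsArtinianRing.of_finite k B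
  obtain ⟨N, hN⟩ := IsArtinianRing.isNilpotent_jacobson_bot (R := B)
  have hnil : h ^ N = 0 := by
    have := Ideal.pow_mem_pow hjac N
    rw [hN] at this
    simpa using this
  let ψ : k[X] →ₐ[k] B := Polynomial.aeval h
  have hstep : ∀ j : ℕ, ∀ b : B, ∃ (p : k[X]) (b' : B), b = ψ p + h ^ j * b' := by
    intro j
    induction j with
    | zero => intro b; exact ⟨0, b, by simp⟩
    | succ j ih =>
      intro b
      obtain ⟨p, b', hb⟩ := ih b
      obtain ⟨c, b'', hb'⟩ := key b'
      refine ⟨p + C c * X ^ j, b'', ?_⟩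
      rw [hb, hb']
      simp only [ψ, map_add, map_mul, map_pow, Polynomial.aeval_C, Polynomial.aeval_X]
      ring
  have hsurj : Function.Surjective ψ := by
    intro b
    obtain ⟨p, b', hb⟩ := hstep N b
    exact ⟨p, by rw [hb, hnil, zero_mul, add_zero]⟩
  have hXN : (X : k[X]) ^ N ∈ RingHom.ker ψ := by
    rw [RingHom.mem_ker, map_pow]
    simp only [ψ, Polynomial.aeval_X]
    exact hnil
  haveI := IsPrincipalIdealRing.principal (RingHom.ker ψ)
  obtain ⟨P, hP⟩ : ∃ P : k[X], RingHom.ker ψ = Ideal.span {P} :=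
    ⟨Submodule.IsPrincipal.generator (RingHom.ker ψ), (Ideal.span_singleton_generator _).symm⟩
  have hdvd : P ∣ X ^ N := by
    rw [← Ideal.mem_span_singleton, ← hP]; exact hXN
  obtain ⟨j, -, hj⟩ := (dvd_prime_pow Polynomial.prime_X N).mp hdvd
  have hK : RingHom.ker ψ = Ideal.span {(X : k[X]) ^ j} := by
    rw [hP]; exact Ideal.span_singleton_eq_span_singleton.mpr hj
  let e1 : (k[X] ⧸ RingHom.ker ψ) ≃ₐ[k] B := Ideal.quotientKerAlgEquivOfSurjective hsurj
  let e2 : (k[X] ⧸ RingHom.ker ψ) ≃ₐ[k] (k[X] ⧸ Ideal.span {(X : k[X]) ^ j}) :=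
    Ideal.quotientEquivAlgOfEq k hK
  let e : B ≃ₐ[k] (k[X] ⧸ Ideal.span {(X : k[X]) ^ j}) := e1.symm.trans e2
  have hjn : j = Module.finrank k B := by
    have := e.toLinearEquiv.finrank_eq
    rw [finrank_quotient_span_eq_natDegree, Polynomial.natDegree_X_pow] at this
    exact this.symm
  rw [← hjn]
  exact ⟨e⟩

theorem main (k B : Type u) [Field k] [IsAlgClosed k]
    [CommRing B] [IsLocalRing B] [Algebra k B] [Module.Finite k B]
    (hcurv : Module.finrank (IsLocalRing.ResidueField B) (IsLocalRing.CotangentSpace B) ≤ 1) :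
    Nonempty (B ≃ₐ[k]
      (Polynomial k ⧸ Ideal.span {(X : Polynomial k) ^ Module.finrank k B})) := by
  haveI : IsNoetherianRing B :=
    isNoetherian_of_tower k (isNoetherian_of_isNoetherianRing_of_finite k B)
  obtain ⟨h, hh⟩ := finrank_cotangentSpace_le_one_iff.mp hcurv
  have key : ∀ b : B, ∃ (c : k) (b' : B), b = algebraMap k B c + h * b' := by
    intro b
    haveI : Module.Finite k (ResidueField B) :=
      inferInstanceAs (Module.Finite k (B ⧸ maximalIdeal B))
    haveI : Algebra.IsIntegral k (ResidueField B) := Algebra.IsIntegral.of_finite k _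
    obtain ⟨c, hc⟩ := (IsAlgClosed.algebraMap_bijective_of_isIntegral (k := k)
      (K := ResidueField B)).2 (residue B b)
    have e : algebraMap k (ResidueField B) c = residue B (algebraMap k B c) := rfl
    have hx : b - algebraMap k B c ∈ maximalIdeal B := by
      rw [← residue_eq_zero_iff, map_sub, ← hc, e, sub_self]
    rw [hh] at hx
    obtain ⟨b', hb'⟩ := Submodule.mem_span_singleton.mp hx
    rw [smul_eq_mul] at hb'
    exact ⟨c, b', by linear_combination -hb'⟩
  have hjac : h ∈ Ideal.jacobson (⊥ : Ideal B) := by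
    rw [IsLocalRing.jacobson_eq_maximalIdeal ⊥ bot_ne_top, hh]
    exact Submodule.mem_span_singleton_self h
  exact trunc k B h key hjac

end Groth.Agent.Lib.TruncPoly
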