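import Mathlib
import Groth.Agent.Lib.TruncPoly_lead

set_option autoImplicit false
universe u

namespace Groth.Agent.Lib.SubalgTrunc

open Polynomial

theorem abstract (k R : Type u) [Field k] [CommRing R] [Algebra k R] [Nontrivial R]
    (x : R) (n : ℕ) (hn : 0 < n) (hx : x ^ n = 0)
    (F1 : ∀ r : R, ∃ (c : k) (r' : R), r = algebraMap k R c + x * r')
    (A : Subalgebra k R) [Module.Flat A R] :
    ∃ h : A, (∀ b : A, ∃ (c : k) (b' : A), b = algebraMap k A c + h * b') ∧
      h ∈ Ideal.jacobson (⊥ : Ideal A) := by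
  classical
  -- Step 0 : non-multiples of x are units
  have unitR : ∀ r : R, ¬ x ∣ r → IsUnit r := by
    intro r hr
    obtain ⟨c, r', hcr⟩ := F1 r
    have hc : c ≠ 0 := by
      intro hc
      apply hr
      rw [hcr, hc, map_zero, zero_add]
      exact dvd_mul_right x r'
    have hnil : IsNilpotent (x * r') := ⟨n, by rw [mul_pow, hx, zero_mul]⟩
    have hu : IsUnit (algebraMap k R c) := (IsUnit.mk0 c hc).map (algebraMap k R)
    rw [hcr]
    exact hnil.isUnit_add_left_of_commute hu (Commute.all _ _)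
  have unitA : ∀ a : A, ¬ x ∣ (a : R) → IsUnit a := by
    intro a hr
    obtain ⟨c, r', hcr⟩ := F1 (a : R)
    have hc : c ≠ 0 := by
      intro hc
      apply hr
      rw [hcr, hc, map_zero, zero_add]
      exact dvd_mul_right x r'
    obtain ⟨ν, hν⟩ : ∃ ν : A, (ν : R) = x * r' :=
      ⟨a - algebraMap k A c, by push_cast; rw [hcr]; simp⟩
    have hnil : IsNilpotent ν :=
      ⟨n, Subtype.ext (by push_cast; rw [hν, mul_pow, hx, zero_mul])⟩
    have hu : IsUnit (algebraMap k A c) := (IsUnit.mk0 c hc).map (algebraMap k A)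
    have ha : a = algebraMap k A c + ν := Subtype.ext (by push_cast; rw [hν, hcr])
    rw [ha]
    exact hnil.isUnit_add_left_of_commute hu (Commute.all _ _)
  have h1x : ¬ x ∣ (1 : R) := by
    intro h
    have hu : IsUnit x := isUnit_of_dvd_one h
    have := hu.pow n
    rw [hx] at this
    exact not_isUnit_zero this
  -- Step 2 : choice of h
  obtain ⟨h, hxh, hall⟩ : ∃ h : A, x ∣ (h : R) ∧ ∀ a : A, x ∣ (a : R) → (h : R) ∣ (a : R) := by
    by_cases hP : ∃ j : ℕ, ∃ a : A, x ∣ (a : R) ∧ ¬ x ^ (j + 1) ∣ (a : R)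
    · have hmin := fun m (hm : m < Nat.find hP) => Nat.find_min hP hm
      obtain ⟨h, hxh, hnd⟩ := Nat.find_spec hP
      generalize Nat.find hP = d at hmin hnd
      have hd : ∀ a : A, x ∣ (a : R) → x ^ d ∣ (a : R) := by
        intro a ha
        cases d with
        | zero => rw [pow_zero]; exact one_dvd _
        | succ d' =>
          by_contra hna
          exact hmin d' (Nat.lt_succ_self d') ⟨a, ha, hna⟩
      obtain ⟨s, hs⟩ := hd h hxh
      have hsx : ¬ x ∣ s := by
        rintro ⟨s', rfl⟩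
        apply hnd
        rw [hs, pow_succ]
        exact ⟨s', by ring⟩
      obtain ⟨u, rfl⟩ := unitR s hsx
      refine ⟨h, hxh, fun a ha => ?_⟩
      obtain ⟨t, ht⟩ := hd a ha
      refine ⟨↑u⁻¹ * t, ?_⟩
      rw [hs, ht, mul_assoc, Units.mul_inv_cancel_left]
    · push_neg at hP
      refine ⟨0, dvd_zero _, fun a ha => ?_⟩
      have := hP (n - 1) a ha
      rw [Nat.sub_add_cancel hn, hx, zero_dvd_iff] at this
      rw [this]
      exact dvd_zero _
  -- Step 3 : flatness
  have flat : ∀ a : A, (h : R) ∣ (a : R) → ∃ a' : A, a = h * a' := by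
    intro a ⟨r, hr⟩
    have hsum : ∑ i : Fin 2, (![a, -h] i) • (![1, r] i : R) = 0 := by
      rw [Fin.sum_univ_two]
      show (a : R) * 1 + ((-h : A) : R) * r = 0
      rw [mul_one, hr]; push_cast; ring
    obtain ⟨κ, c, y, hxy, hfc⟩ := Module.Flat.isTrivialRelation_of_sum_smul_eq_zero hsum
    have h1 : (1 : R) = ∑ j, c 0 j • y j := hxy 0
    obtain ⟨j, hj⟩ : ∃ j, ¬ x ∣ (c 0 j : R) := by
      by_contra hcon
      push_neg at hcon
      apply h1x
      rw [h1]
      refine Finset.dvd_sum (fun j _ => ?_)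
      show x ∣ (c 0 j : R) * y j
      exact Dvd.dvd.mul_right (hcon j) _
    obtain ⟨u, hu⟩ := unitA (c 0 j) hj
    have h2 : a * c 0 j + (-h) * c 1 j = 0 := by
      have := hfc j
      rw [Fin.sum_univ_two] at this
      exact this
    refine ⟨c 1 j * ↑u⁻¹, ?_⟩
    have h3 : a * u = h * c 1 j := by rw [hu]; linear_combination h2
    calc a = a * u * ↑u⁻¹ := by rw [mul_assoc, Units.mul_inv, mul_one]
      _ = h * (c 1 j * ↑u⁻¹) := by rw [h3, mul_assoc]
  refine ⟨h, ?_, ?_⟩
  · intro b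
    obtain ⟨c, r', hcr⟩ := F1 (b : R)
    obtain ⟨ν, hν⟩ : ∃ ν : A, (ν : R) = x * r' :=
      ⟨b - algebraMap k A c, by push_cast; rw [hcr]; simp⟩
    have hb : b = algebraMap k A c + ν := Subtype.ext (by push_cast; rw [hν, hcr])
    obtain ⟨a', ha'⟩ := flat ν (hall ν (by rw [hν]; exact dvd_mul_right x r'))
    exact ⟨c, a', by rw [hb, ha']⟩
  · rw [Ideal.mem_jacobson_bot]
    intro y
    obtain ⟨s, hs⟩ := hxh
    have hnil : IsNilpotent (h * y) := by
      refine ⟨n, Subtype.ext ?_⟩
      push_cast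
      rw [hs, mul_pow, mul_pow, hx, zero_mul, zero_mul]
    exact hnil.isUnit_add_one

theorem main (k : Type u) [Field k]
    (n : ℕ) (hn : 0 < n)
    (A : Subalgebra k (Polynomial k ⧸ Ideal.span {(X : Polynomial k) ^ n}))
    [Module.Flat A (Polynomial k ⧸ Ideal.span {(X : Polynomial k) ^ n})] :
    ∃ m : ℕ, Nonempty (A ≃ₐ[k] (Polynomial k ⧸ Ideal.span {(X : Polynomial k) ^ m})) := by
  have hfr : Module.finrank k (Polynomial k ⧸ Ideal.span {(X : Polynomial k) ^ n}) = n := by
    rw [finrank_quotient_span_eq_natDegree, Polynomial.natDegree_X_pow]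
  haveI : Nontrivial (Polynomial k ⧸ Ideal.span {(X : Polynomial k) ^ n}) :=
    Module.nontrivial_of_finrank_pos (R := k) (by rw [hfr]; exact hn)
  haveI : Module.Finite k (Polynomial k ⧸ Ideal.span {(X : Polynomial k) ^ n}) :=
    Module.finite_of_finrank_pos (by rw [hfr]; exact hn)
  haveI : Module.Finite k A := FiniteDimensional.finiteDimensional_subalgebra A
  have hx : (Ideal.Quotient.mk (Ideal.span {(X : Polynomial k) ^ n}) X) ^ n = 0 := by
    rw [← map_pow]
    exact Ideal.Quotient.eq_zero_iff_mem.mpr (Ideal.mem_span_singleton_self _)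
  have F1 : ∀ r : Polynomial k ⧸ Ideal.span {(X : Polynomial k) ^ n}, ∃ (c : k)
      (r' : Polynomial k ⧸ Ideal.span {(X : Polynomial k) ^ n}),
      r = algebraMap k _ c + (Ideal.Quotient.mk (Ideal.span {(X : Polynomial k) ^ n}) X) * r' := by
    intro r
    obtain ⟨p, rfl⟩ := Ideal.Quotient.mk_surjective r
    refine ⟨p.coeff 0, Ideal.Quotient.mk _ p.divX, ?_⟩
    have e : (Ideal.Quotient.mk (Ideal.span {(X : Polynomial k) ^ n})) (C (p.coeff 0)) =
        algebraMap k (Polynomial k ⧸ Ideal.span {(X : Polynomial k) ^ n}) (p.coeff 0) := rfl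
    conv_lhs => rw [← Polynomial.divX_mul_X_add p]
    rw [map_add, map_mul, e]
    ring
  obtain ⟨h, key, hjac⟩ := abstract k _ _ n hn hx F1 A
  exact ⟨_, Groth.Agent.Lib.TruncPoly.trunc k A h key hjac⟩

end Groth.Agent.Lib.SubalgTrunc
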