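import Groth.Agent.Lib.EtCharts_helper7
import Mathlib.AlgebraicGeometry.Morphisms.Flat

/-!
# Flat quasi-compact surjective morphisms of algebraic spaces are universally submersive (helper7)
-/

set_option autoImplicit false
universe u
open CategoryTheory CategoryTheory.Limits AlgebraicGeometry Opposite TopologicalSpace

namespace Groth.Agent.Lib.SubmersiveH7

open AlgSp Groth.Agent.Lib.AlgSpPoints_helper7 Groth.Agent.Lib.AlgSpTop_helper7
  Groth.Agent.Lib.AlgSpPullback_helper7 Groth.Agent.Lib.AlgSpBasic_helper7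
  Groth.Agent.Lib.AlgSpOpen_helper7 Groth.Agent.Lib.AlgSpOpenSub_helper7
  Groth.Agent.Lib.AlgSpSmST_helper7 Groth.Agent.Lib.AlgSpLocP4_helper7
  Groth.Agent.Lib.AlgSpLocP10_helper7 Groth.Agent.Lib.AlgSpLocP7_helper7
  Groth.Agent.Lib.AlgSpEtale_helper7 Groth.Agent.Lib.AlgSpLocP3_helper7
  Groth.Agent.Lib.AlgSpFpqc3_helper7 Groth.Agent.Lib.AlgSpFpqc_helper7
  Groth.Agent.Lib.AlgSpQC_helper7 Groth.Agent.Lib.AlgSpQC2_helper7
  Groth.Agent.Lib.AlgSpLocP_helper7 Groth.Agent.Lib.AlgSpLocP6_helper7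

variable {S : Scheme.{u}}

theorem isQuotientMap_of_flat_qc_surjective {X Y : Sp S} (hX : IsAlgSpace X) (hY : IsAlgSpace Y)
    (f : X ⟶ Y) (hfl : LocP @Flat f) (hqc : IsQuasiCompactMor f) (hs : IsSurjectiveMor f) :
    Topology.IsQuotientMap (Points.map f) := by
  rw [Topology.isQuotientMap_iff]
  refine ⟨.of_isOpen_preimage_iff_isOpen fun T =>
    ⟨fun hT => ?_, fun h => h.preimage (Points.continuous_map f)⟩, hs⟩
  obtain ⟨V, b, hbe, hbs⟩ := hY.atlas
  rw [isOpen_iff_of_atlas b hbe hbs T, isOpen_iff_forall_mem_open]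
  intro v hv
  let 𝒰 := V.left.affineCover
  obtain ⟨k, v', hv'⟩ := 𝒰.exists_eq v
  let Vk : Over S := Over.mk (𝒰.f k ≫ V.hom)
  let ιk : Vk ⟶ V := Over.homMk (𝒰.f k) rfl
  let bk : (yon S).obj Vk ⟶ Y := (yon S).map ιk ≫ b
  have hVk : IsAffine Vk.left := by
    change IsAffine (𝒰.X k)
    infer_instance
  have hbke : RepWith @Etale bk := by
    refine repWith_comp @Etale ((repWith_yon_map_iff @Etale ιk).2 ?_) hbe
    change Etale (𝒰.f k)
    infer_instance
  -- the key claim
  have key : IsOpen (Points.ofPt bk ⁻¹' T) := by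
    have sq := IsPullback.of_hasPullback f bk
    haveI : CompactSpace ↥Vk.left := by
      haveI := hVk
      infer_instance
    have hPqc : IsQuasiCompactSp (pullback f bk) :=
      hqc (IsAlgSpace.yon_obj Vk) (isQuasiCompactSp_yon Vk) bk _ _ sq
    obtain ⟨U, a, hae, has, hU⟩ := hPqc
    obtain ⟨m, hm⟩ := (yon S).map_surjective (a ≫ pullback.snd f bk)
    have hge : RepWith @Etale (pullback.fst f bk) := repWith_fst_of_isPullback @Etale sq hbke
    have comm : (a ≫ pullback.fst f bk) ≫ f = (yon S).map m ≫ bk := by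
      rw [hm, Category.assoc, Category.assoc, pullback.condition]
    haveI hmfl : Flat m.left := hfl (a ≫ pullback.fst f bk) bk m (repWith_comp @Etale hae hge) hbke comm
    haveI : CompactSpace ↥U.left := hU
    haveI hmqc : QuasiCompact m.left := by
      haveI := hVk
      exact (quasiCompact_iff_compactSpace m.left).2 inferInstance
    haveI hmsurj : Surjective m.left := by
      refine ⟨fun w => ?_⟩
      obtain ⟨x, hx⟩ := hs (Points.map bk (Points.ofScheme Vk w))
      obtain ⟨x', -, hx'⟩ := exists_of_isPullback sq x (Points.ofScheme Vk w) hx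
      obtain ⟨u, hu⟩ := ofPt_surjective a has x'
      refine ⟨u, ?_⟩
      apply ofScheme_injective Vk
      rw [← ofPt_yon_map, hm, ← Points.map_ofPt, hu, hx']
    have hq := Flat.isQuotientMap_of_surjective m.left
    rw [← hq.isOpen_preimage]
    have e : (m.left : ↥U.left → ↥Vk.left) ⁻¹' (Points.ofPt bk ⁻¹' T) =
        Points.ofPt (a ≫ pullback.fst f bk) ⁻¹' (Points.map f ⁻¹' T) := by
      ext u
      simp only [Set.mem_preimage]
      rw [← ofPt_comp, ← comm, Points.map_ofPt]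
    rw [e]
    exact hT.preimage (Points.continuous_ofPt _)
  refine ⟨(𝒰.f k) '' (Points.ofPt bk ⁻¹' T), ?_, (𝒰.f k).isOpenEmbedding.isOpenMap _ key,
    ⟨v', ?_, hv'⟩⟩
  · rintro _ ⟨w, hw, rfl⟩
    have : Points.ofPt bk w = Points.ofPt b ((𝒰.f k) w) := ofPt_comp ιk b w
    simp only [Set.mem_preimage] at hw ⊢
    rwa [← this]
  · have : Points.ofPt bk v' = Points.ofPt b ((𝒰.f k) v') := ofPt_comp ιk b v'
    simp only [Set.mem_preimage]
    rw [this, hv']
    exact hv

theorem isUnivSubmersiveMor_of_flat_qc_surjective {X Y : Sp S} (hX : IsAlgSpace X)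
    (hY : IsAlgSpace Y) (f : X ⟶ Y) (hfl : LocP @Flat f) (hqc : IsQuasiCompactMor f)
    (hs : IsSurjectiveMor f) : IsUnivSubmersiveMor f := by
  intro Z Z' hZ g fst snd sq
  have hZ' : IsAlgSpace Z' := isAlgSpace_of_isPullback hY.diag hX hZ sq
  refine isQuotientMap_of_flat_qc_surjective hZ' hZ snd
    (locP_baseChange etLocal_flat hX hY hZ f g fst snd sq hfl)
    (isQuasiCompactMor_of_isPullback sq hqc) (fun z => ?_)
  obtain ⟨x, hx⟩ := hs (Points.map g z)
  obtain ⟨z', -, hz'⟩ := exists_of_isPullback sq x z hx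
  exact ⟨z', hz'⟩

end Groth.Agent.Lib.SubmersiveH7
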