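import Mathlib.Tactic
import Mathlib.RingTheory.Flat.FaithfullyFlat.Basic

/-! Descent of submodules along a flat ring map, given the cocycle condition (lead). -/

open TensorProduct

namespace Groth.Agent.Lib.SubmodDescent_lead

universe u

theorem main (A A' : Type u) [CommRing A] [CommRing A'] [Algebra A A']
    [Module.Flat A A'] (M : Type u) [AddCommGroup M] [Module A M] (N' : Submodule A' (A' ⊗[A] M))
    (h : Submodule.span (A' ⊗[A] A')
          ((N'.restrictScalars A).map
            ((Algebra.TensorProduct.includeLeft : A' →ₐ[A] A' ⊗[A] A').toLinearMap.rTensor M) : Set ((A' ⊗[A] A') ⊗[A] M)) =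
        Submodule.span (A' ⊗[A] A')
          ((N'.restrictScalars A).map
            ((Algebra.TensorProduct.includeRight : A' →ₐ[A] A' ⊗[A] A').toLinearMap.rTensor M) : Set ((A' ⊗[A] A') ⊗[A] M))) :
    ((N'.restrictScalars A).comap (TensorProduct.mk A A' M 1)).baseChange A' = N' := by
  classical
  set πA : A' ⊗[A] M →ₗ[A] (A' ⊗[A] M) ⧸ N' := (N'.mkQ).restrictScalars A with hπA
  have hπ0 : ∀ z, πA z = 0 ↔ z ∈ N' := fun z => by
    simp [hπA]
  set f : M →ₗ[A] (A' ⊗[A] M) ⧸ N' := πA ∘ₗ (TensorProduct.mk A A' M 1) with hf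
  have hN : (N'.restrictScalars A).comap (TensorProduct.mk A A' M 1) = LinearMap.ker f := by
    ext m
    rw [Submodule.mem_comap, Submodule.restrictScalars_mem, LinearMap.mem_ker, hf,
      LinearMap.comp_apply, hπ0]
  rw [hN]
  set Φ : (A' ⊗[A] A') ⊗[A] M →ₗ[A] A' ⊗[A] ((A' ⊗[A] M) ⧸ N') :=
    (LinearMap.lTensor A' πA) ∘ₗ (TensorProduct.assoc A A' A' M).toLinearMap with hΦ
  set ρ : A' ⊗[A] M →ₗ[A] (A' ⊗[A] A') ⊗[A] M :=
    (Algebra.TensorProduct.includeRight : A' →ₐ[A] A' ⊗[A] A').toLinearMap.rTensor M with hρ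
  set lam : A' ⊗[A] M →ₗ[A] (A' ⊗[A] A') ⊗[A] M :=
    (Algebra.TensorProduct.includeLeft : A' →ₐ[A] A' ⊗[A] A').toLinearMap.rTensor M with hlam
  have h1 : Φ ∘ₗ lam = LinearMap.lTensor A' f := by
    ext a m
    simp [hΦ, hlam, hf]
  have h2 : ∀ (a b : A') (z : A' ⊗[A] M), Φ ((a ⊗ₜ[A] b) • ρ z) = a ⊗ₜ[A] πA (b • z) := by
    intro a b z
    induction z using TensorProduct.induction_on with
    | zero => simp
    | tmul c m =>
      simp [hΦ, hρ, TensorProduct.smul_tmul', Algebra.TensorProduct.tmul_mul_tmul]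
    | add x y hx hy => simp only [map_add, smul_add, hx, hy, TensorProduct.tmul_add]
  have h3 : ∀ y ∈ Submodule.span (A' ⊗[A] A')
      ((Submodule.map ρ (N'.restrictScalars A)) : Set ((A' ⊗[A] A') ⊗[A] M)),
      ∀ r : A' ⊗[A] A', Φ (r • y) = 0 := by
    intro y hy
    induction hy using Submodule.span_induction with
    | mem y hy =>
      obtain ⟨n', hn', rfl⟩ := hy
      have hn'' : n' ∈ N' := hn'
      intro r
      induction r using TensorProduct.induction_on with
      | zero => simp
      | tmul a b =>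
        rw [h2, (hπ0 _).mpr (N'.smul_mem b hn''), TensorProduct.tmul_zero]
      | add r1 r2 ih1 ih2 => rw [add_smul, map_add, ih1, ih2, add_zero]
    | zero => intro r; simp
    | add y1 y2 _ _ ih1 ih2 => intro r; rw [smul_add, map_add, ih1, ih2, add_zero]
    | smul r' y _ ih => intro r; rw [smul_smul]; exact ih _
  apply le_antisymm
  · rw [Submodule.baseChange_eq_span, Submodule.span_le]
    rintro _ ⟨m, hm, rfl⟩
    exact (hπ0 _).mp (LinearMap.mem_ker.mp hm)
  · intro x hx
    have hx0 : LinearMap.lTensor A' f x = 0 := by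
      rw [← h1, LinearMap.comp_apply]
      have hmem : lam x ∈ Submodule.span (A' ⊗[A] A')
          ((Submodule.map ρ (N'.restrictScalars A)) : Set ((A' ⊗[A] A') ⊗[A] M)) := by
        rw [← h]
        exact Submodule.subset_span ⟨x, hx, rfl⟩
      have := h3 _ hmem 1
      rwa [one_smul] at this
    have hex : Function.Exact (LinearMap.ker f).subtype f := LinearMap.exact_subtype_ker_map f
    obtain ⟨z, hz⟩ := (Module.Flat.lTensor_exact A' hex x).mp hx0
    refine ⟨z, ?_⟩
    rw [← hz]
    rfl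

end Groth.Agent.Lib.SubmodDescent_lead
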