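import Mathlib
set_option autoImplicit false
set_option linter.style.haveILetI false

universe u

open CategoryTheory CategoryTheory.Limits AlgebraicGeometry

namespace SubobjOpenH4

variable {X : Scheme.{u}}

/-- The subobject of `X` attached to an open subset. -/
noncomputable def ofOpens (U : X.Opens) : Subobject X := Subobject.mk U.ι

lemma isOpenImmersion_arrow_ofOpens (U : X.Opens) : IsOpenImmersion (ofOpens U).arrow := by
  unfold ofOpens
  rw [← Subobject.underlyingIso_hom_comp_eq_mk]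
  infer_instance

lemma eq_ofOpens (Y : Subobject X) (hY : IsOpenImmersion Y.arrow) :
    Y = ofOpens Y.arrow.opensRange := by
  refine Subobject.eq_mk_of_comm _
    (IsOpenImmersion.isoOfRangeEq Y.arrow (Y.arrow.opensRange).ι ?_)
    (IsOpenImmersion.isoOfRangeEq_hom_fac _ _ _)
  rw [Scheme.Opens.range_ι]
  rfl

lemma le_of_mk_le {U V : X.Opens} (h : Subobject.mk U.ι ≤ Subobject.mk V.ι) : U ≤ V := by
  intro x hx
  have hw : Subobject.ofMkLEMk U.ι V.ι h ≫ V.ι = U.ι := Subobject.ofMkLEMk_comp h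
  have e : V.ι ((Subobject.ofMkLEMk U.ι V.ι h) ⟨x, hx⟩) = x := by
    rw [← Scheme.Hom.comp_apply, hw]
    rfl
  rw [← e]
  exact ((Subobject.ofMkLEMk U.ι V.ι h) ⟨x, hx⟩).2

lemma ofOpens_injective : Function.Injective (ofOpens (X := X)) := by
  intro U V h
  exact le_antisymm (le_of_mk_le h.le) (le_of_mk_le h.ge)

lemma pullback_ofOpens {X Y : Scheme.{u}} (g : X ⟶ Y) (U : Y.Opens) :
    (Subobject.pullback g).obj (ofOpens U) = ofOpens (g ⁻¹ᵁ U) :=
  Subobject.pullback_obj_mk (isPullback_morphismRestrict g U)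

theorem main5235 {X X' : Scheme.{u}} (π : X ⟶ X') [Flat π] [Surjective π] [QuasiCompact π] :
    Set.BijOn (Subobject.pullback π).obj
      {Y' : Subobject X' | IsOpenImmersion Y'.arrow}
      {Y : Subobject X | IsOpenImmersion Y.arrow ∧
        (Subobject.pullback (pullback.fst π π)).obj Y =
          (Subobject.pullback (pullback.snd π π)).obj Y} := by
  refine ⟨?_, ?_, ?_⟩
  · intro Y' hY'
    obtain ⟨U', rfl⟩ : ∃ U', Y' = ofOpens U' := ⟨_, eq_ofOpens Y' hY'⟩
    show IsOpenImmersion ((Subobject.pullback π).obj (ofOpens U')).arrow ∧ _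
    rw [pullback_ofOpens]
    refine ⟨isOpenImmersion_arrow_ofOpens _, ?_⟩
    rw [pullback_ofOpens, pullback_ofOpens, ← Scheme.Hom.comp_preimage,
      ← Scheme.Hom.comp_preimage, pullback.condition]
  · intro Y₁ h₁ Y₂ h₂ h
    obtain ⟨U₁, rfl⟩ : ∃ U, Y₁ = ofOpens U := ⟨_, eq_ofOpens Y₁ h₁⟩
    obtain ⟨U₂, rfl⟩ : ∃ U, Y₂ = ofOpens U := ⟨_, eq_ofOpens Y₂ h₂⟩
    rw [pullback_ofOpens, pullback_ofOpens] at h
    have hpre : π ⁻¹ᵁ U₁ = π ⁻¹ᵁ U₂ := ofOpens_injective h
    congr 1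
    ext x
    obtain ⟨y, rfl⟩ := π.surjective x
    have : y ∈ π ⁻¹ᵁ U₁ ↔ y ∈ π ⁻¹ᵁ U₂ := by rw [hpre]
    exact this
  · rintro Y ⟨hY, hst⟩
    obtain ⟨U, rfl⟩ : ∃ U, Y = ofOpens U := ⟨_, eq_ofOpens Y hY⟩
    rw [pullback_ofOpens, pullback_ofOpens] at hst
    have hst' : pullback.fst π π ⁻¹ᵁ U = pullback.snd π π ⁻¹ᵁ U := ofOpens_injective hst
    have hsat : π ⁻¹' (π '' (U : Set X)) = U := by
      apply Set.Subset.antisymm
      · rintro x ⟨y, hy, hxy⟩
        obtain ⟨z, hz1, hz2⟩ := Scheme.Pullback.exists_preimage_pullback y x hxy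
        have h1 : z ∈ pullback.fst π π ⁻¹ᵁ U := by
          show pullback.fst π π z ∈ U
          rw [hz1]
          exact hy
        rw [hst'] at h1
        have h2 : pullback.snd π π z ∈ U := h1
        rwa [hz2] at h2
      · exact Set.subset_preimage_image _ _
    have hopen : IsOpen (π '' (U : Set X)) := by
      rw [← (Flat.isQuotientMap_of_surjective π).isOpen_preimage, hsat]
      exact U.2
    refine ⟨ofOpens ⟨π '' U, hopen⟩, isOpenImmersion_arrow_ofOpens _, ?_⟩
    rw [pullback_ofOpens]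
    congr 1
    exact TopologicalSpace.Opens.ext hsat

end SubobjOpenH4
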