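import Mathlib

set_option autoImplicit false
set_option linter.unusedVariables false
set_option linter.unusedTactic false
set_option linter.unreachableTactic false
set_option linter.unusedSectionVars false
set_option maxHeartbeats 800000

universe u

open Matrix

namespace Groth.Agent.Lib.SubregSlH4

variable {O : Type u} [CommRing O] {n : ℕ}

/-- extension of a matrix to ℕ-indices -/
def ex (M : Matrix (Fin (n+1)) (Fin (n+1)) O) (a b : ℕ) : O :=
  if h : a < n+1 ∧ b < n+1 then M ⟨a, h.1⟩ ⟨b, h.2⟩ else 0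

theorem ex_mk (M : Matrix (Fin (n+1)) (Fin (n+1)) O) (a b : ℕ) (ha : a < n+1) (hb : b < n+1) :
    ex M a b = M ⟨a, ha⟩ ⟨b, hb⟩ := by
  unfold ex
  rw [dif_pos ⟨ha, hb⟩]

theorem ex_fin (M : Matrix (Fin (n+1)) (Fin (n+1)) O) (i j : Fin (n+1)) :
    ex M i.val j.val = M i j := ex_mk M i.val j.val i.isLt j.isLt

def mkM (f : ℕ → ℕ → O) : Matrix (Fin (n+1)) (Fin (n+1)) O := fun i j => f i.val j.val

theorem ex_mkM (f : ℕ → ℕ → O) (a b : ℕ) (ha : a < n+1) (hb : b < n+1) :
    ex (mkM (n := n) f) a b = f a b := (ex_mk _ a b ha hb).trans rfl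

theorem ex_add (M N : Matrix (Fin (n+1)) (Fin (n+1)) O) (a b : ℕ) :
    ex (M + N) a b = ex M a b + ex N a b := by
  by_cases h : a < n+1 ∧ b < n+1
  · rw [ex_mk (M + N) a b h.1 h.2, ex_mk M a b h.1 h.2, ex_mk N a b h.1 h.2]
    try rfl
  · unfold ex
    rw [dif_neg h, dif_neg h, dif_neg h, add_zero]

theorem ex_smul (c : O) (M : Matrix (Fin (n+1)) (Fin (n+1)) O) (a b : ℕ) :
    ex (c • M) a b = c * ex M a b := by
  by_cases h : a < n+1 ∧ b < n+1
  · rw [ex_mk (c • M) a b h.1 h.2, ex_mk M a b h.1 h.2]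
    try rfl
  · unfold ex
    rw [dif_neg h, dif_neg h, mul_zero]

/-- restriction to the upper-left `n × n` block -/
def mB (M : Matrix (Fin (n+1)) (Fin (n+1)) O) (a b : ℕ) : O :=
  if a < n ∧ b < n then ex M a b else 0

theorem mB_pos (M : Matrix (Fin (n+1)) (Fin (n+1)) O) (a b : ℕ) (ha : a < n) (hb : b < n) :
    mB M a b = ex M a b := by
  unfold mB
  rw [if_pos ⟨ha, hb⟩]

theorem mB_neg (M : Matrix (Fin (n+1)) (Fin (n+1)) O) (a b : ℕ) (h : ¬ (a < n ∧ b < n)) :
    mB M a b = 0 := by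
  unfold mB
  rw [if_neg h]

theorem mB_add (M N : Matrix (Fin (n+1)) (Fin (n+1)) O) (a b : ℕ) :
    mB (M + N) a b = mB M a b + mB N a b := by
  unfold mB
  by_cases h : a < n ∧ b < n
  · rw [if_pos h, if_pos h, if_pos h, ex_add]
  · rw [if_neg h, if_neg h, if_neg h, add_zero]

theorem mB_smul (c : O) (M : Matrix (Fin (n+1)) (Fin (n+1)) O) (a b : ℕ) :
    mB (c • M) a b = c * mB M a b := by
  unfold mB
  by_cases h : a < n ∧ b < n
  · rw [if_pos h, if_pos h, ex_smul]
  · rw [if_neg h, if_neg h, mul_zero]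

/-- sum along the diagonal going down-right from `(a, b)` inside the block -/
def G (M : Matrix (Fin (n+1)) (Fin (n+1)) O) (a b : ℕ) : O :=
  ∑ t ∈ Finset.range n, mB M (a + t) (b + t)

theorem G_add (M N : Matrix (Fin (n+1)) (Fin (n+1)) O) (a b : ℕ) :
    G (M + N) a b = G M a b + G N a b := by
  unfold G
  rw [← Finset.sum_add_distrib]
  exact Finset.sum_congr rfl (fun t _ => mB_add M N _ _)

theorem G_smul (c : O) (M : Matrix (Fin (n+1)) (Fin (n+1)) O) (a b : ℕ) :
    G (c • M) a b = c * G M a b := by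
  unfold G
  rw [Finset.mul_sum]
  exact Finset.sum_congr rfl (fun t _ => mB_smul c M _ _)

theorem G_zero_left (M : Matrix (Fin (n+1)) (Fin (n+1)) O) (a b : ℕ) (ha : n ≤ a) :
    G M a b = 0 := by
  unfold G
  refine Finset.sum_eq_zero (fun t _ => ?_)
  have h : ¬ (a + t < n ∧ b + t < n) := by omega
  exact mB_neg M _ _ h

theorem tel (F : ℕ → O) (hF : F n = 0) :
    (∑ t ∈ Finset.range n, F t) - ∑ t ∈ Finset.range n, F (t + 1) = F 0 := by
  have e1 := Finset.sum_range_succ' F n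
  have e2 := Finset.sum_range_succ F n
  linear_combination e1 - e2 - hF

theorem G_sub (M : Matrix (Fin (n+1)) (Fin (n+1)) O) (a b : ℕ) :
    G M a b - G M (a+1) (b+1) = mB M a b := by
  have h3 : mB M (a + n) (b + n) = 0 := by
    have h : ¬ (a + n < n ∧ b + n < n) := by omega
    exact mB_neg M _ _ h
  have key : (∑ t ∈ Finset.range n, mB M (a + t) (b + t))
      - ∑ t ∈ Finset.range n, mB M (a + (t+1)) (b + (t+1)) = mB M a b :=
    tel (fun t => mB M (a + t) (b + t)) h3
  have h4 : G M (a+1) (b+1) = ∑ t ∈ Finset.range n, mB M (a + (t+1)) (b + (t+1)) := by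
    unfold G
    refine Finset.sum_congr rfl (fun t _ => ?_)
    rw [show a + 1 + t = a + (t+1) by omega, show b + 1 + t = b + (t+1) by omega]
  rw [h4]
  exact key

/-- the functionals cutting out the image of `ad x` -/
def PhiFun (M : Matrix (Fin (n+1)) (Fin (n+1)) O) (k : Fin (n+2)) : O :=
  if k.val < n then G M k.val 0 else if k.val = n then ex M (n-1) n else ex M n 0

theorem PhiFun_lt (M : Matrix (Fin (n+1)) (Fin (n+1)) O) (k : Fin (n+2)) (h : k.val < n) :
    PhiFun M k = G M k.val 0 := by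
  unfold PhiFun
  rw [if_pos h]

theorem PhiFun_eq_n (M : Matrix (Fin (n+1)) (Fin (n+1)) O) (k : Fin (n+2)) (h : k.val = n) :
    PhiFun M k = ex M (n-1) n := by
  have h1 : ¬ k.val < n := by omega
  unfold PhiFun
  rw [if_neg h1, if_pos h]

theorem PhiFun_last (M : Matrix (Fin (n+1)) (Fin (n+1)) O) (k : Fin (n+2))
    (h1 : ¬ k.val < n) (h2 : ¬ k.val = n) :
    PhiFun M k = ex M n 0 := by
  unfold PhiFun
  rw [if_neg h1, if_neg h2]

theorem PhiFun_add (M N : Matrix (Fin (n+1)) (Fin (n+1)) O) (k : Fin (n+2)) :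
    PhiFun (M + N) k = PhiFun M k + PhiFun N k := by
  by_cases h1 : k.val < n
  · rw [PhiFun_lt _ k h1, PhiFun_lt _ k h1, PhiFun_lt _ k h1, G_add]
  · by_cases h2 : k.val = n
    · rw [PhiFun_eq_n _ k h2, PhiFun_eq_n _ k h2, PhiFun_eq_n _ k h2, ex_add]
    · rw [PhiFun_last _ k h1 h2, PhiFun_last _ k h1 h2, PhiFun_last _ k h1 h2, ex_add]

theorem PhiFun_smul (c : O) (M : Matrix (Fin (n+1)) (Fin (n+1)) O) (k : Fin (n+2)) :
    PhiFun (c • M) k = c * PhiFun M k := by
  by_cases h1 : k.val < n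
  · rw [PhiFun_lt _ k h1, PhiFun_lt _ k h1, G_smul]
  · by_cases h2 : k.val = n
    · rw [PhiFun_eq_n _ k h2, PhiFun_eq_n _ k h2, ex_smul]
    · rw [PhiFun_last _ k h1 h2, PhiFun_last _ k h1 h2, ex_smul]

/-- entries of `ad x y` in ℕ-indexed form -/
def adN (Y : Matrix (Fin (n+1)) (Fin (n+1)) O) (a b : ℕ) : O :=
  (if a + 1 < n then ex Y (a+1) b else 0) - (if 1 ≤ b ∧ b < n then ex Y a (b-1) else 0)

theorem ex_ad (X Y : Matrix (Fin (n+1)) (Fin (n+1)) O)
    (hX : ∀ i j : Fin (n+1), X i j = if j.val = i.val + 1 ∧ j.val < n then 1 else 0)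
    (a b : ℕ) (ha : a < n+1) (hb : b < n+1) :
    ex (X * Y - Y * X) a b = adN Y a b := by
  have hX' : ∀ (c d : ℕ) (hc : c < n+1) (hd : d < n+1),
      X ⟨c, hc⟩ ⟨d, hd⟩ = if d = c + 1 ∧ d < n then 1 else 0 :=
    fun c d hc hd => hX ⟨c, hc⟩ ⟨d, hd⟩
  rw [ex_mk _ a b ha hb]
  show (∑ k, X ⟨a, ha⟩ k * Y k ⟨b, hb⟩) - (∑ k, Y ⟨a, ha⟩ k * X k ⟨b, hb⟩) = adN Y a b
  unfold adN
  congr 1
  · by_cases h : a + 1 < n
    · rw [if_pos h]
      have hk : a + 1 < n + 1 := by omega
      rw [Finset.sum_eq_single (⟨a+1, hk⟩ : Fin (n+1))]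
      · have hc : (a + 1 = a + 1 ∧ a + 1 < n) := ⟨rfl, h⟩
        rw [hX' a (a+1) ha hk, if_pos hc, one_mul, ex_mk Y (a+1) b hk hb]
      · intro k _ hk'
        have e : X ⟨a, ha⟩ k = if k.val = a + 1 ∧ k.val < n then 1 else 0 :=
          hX' a k.val ha k.isLt
        have hne : ¬ (k.val = a + 1 ∧ k.val < n) := by
          rintro ⟨h1, _⟩
          exact hk' (Fin.ext h1)
        rw [e, if_neg hne, zero_mul]
      · intro h'
        exact absurd (Finset.mem_univ _) h'
    · rw [if_neg h]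
      refine Finset.sum_eq_zero (fun k _ => ?_)
      have e : X ⟨a, ha⟩ k = if k.val = a + 1 ∧ k.val < n then 1 else 0 :=
        hX' a k.val ha k.isLt
      have hne : ¬ (k.val = a + 1 ∧ k.val < n) := by omega
      rw [e, if_neg hne, zero_mul]
  · by_cases h : 1 ≤ b ∧ b < n
    · rw [if_pos h]
      have hk : b - 1 < n + 1 := by omega
      rw [Finset.sum_eq_single (⟨b-1, hk⟩ : Fin (n+1))]
      · have hc : (b = b - 1 + 1 ∧ b < n) := ⟨by omega, h.2⟩
        rw [hX' (b-1) b hk hb, if_pos hc, mul_one, ex_mk Y a (b-1) ha hk]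
      · intro k _ hk'
        have e : X k ⟨b, hb⟩ = if b = k.val + 1 ∧ b < n then 1 else 0 :=
          hX' k.val b k.isLt hb
        have hne : ¬ (b = k.val + 1 ∧ b < n) := by
          rintro ⟨h1, _⟩
          exact hk' (Fin.ext (show k.val = b - 1 by omega))
        rw [e, if_neg hne, mul_zero]
      · intro h'
        exact absurd (Finset.mem_univ _) h'
    · rw [if_neg h]
      refine Finset.sum_eq_zero (fun k _ => ?_)
      have e : X k ⟨b, hb⟩ = if b = k.val + 1 ∧ b < n then 1 else 0 :=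
        hX' k.val b k.isLt hb
      have hne : ¬ (b = k.val + 1 ∧ b < n) := by omega
      rw [e, if_neg hne, mul_zero]

/-- telescoping potential -/
def uT (Y : Matrix (Fin (n+1)) (Fin (n+1)) O) (k t : ℕ) : O :=
  if k + t < n ∧ 1 ≤ t then ex Y (k + t) (t - 1) else 0

theorem adN_tel (Y : Matrix (Fin (n+1)) (Fin (n+1)) O) (k t : ℕ) (hkt : k + t < n) :
    adN Y (k + t) t = uT Y k (t+1) - uT Y k t := by
  unfold adN uT
  congr 1
  · by_cases h2 : k + t + 1 < n
    · have h2' : k + (t+1) < n ∧ 1 ≤ t+1 := ⟨by omega, by omega⟩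
      rw [if_pos h2, if_pos h2', Nat.add_sub_cancel, Nat.add_assoc]
    · have h2' : ¬ (k + (t+1) < n ∧ 1 ≤ t+1) := by omega
      rw [if_neg h2, if_neg h2']
  · by_cases h3 : 1 ≤ t ∧ t < n
    · have h3' : k + t < n ∧ 1 ≤ t := ⟨hkt, h3.1⟩
      rw [if_pos h3, if_pos h3']
    · have h3' : ¬ (k + t < n ∧ 1 ≤ t) := by omega
      rw [if_neg h3, if_neg h3']

theorem G_ad (X Y : Matrix (Fin (n+1)) (Fin (n+1)) O)
    (hX : ∀ i j : Fin (n+1), X i j = if j.val = i.val + 1 ∧ j.val < n then 1 else 0)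
    (k : ℕ) : G (X * Y - Y * X) k 0 = 0 := by
  have hterm : ∀ t ∈ Finset.range n,
      mB (X * Y - Y * X) (k + t) (0 + t) = uT Y k (t+1) - uT Y k t := by
    intro t ht
    have ht' : t < n := Finset.mem_range.1 ht
    rw [Nat.zero_add]
    by_cases hkt : k + t < n
    · have h1 : k + t < n + 1 := by omega
      have h2 : t < n + 1 := by omega
      rw [mB_pos _ _ _ hkt ht', ex_ad X Y hX (k + t) t h1 h2]
      exact adN_tel Y k t hkt
    · have h0 : ¬ (k + t < n ∧ t < n) := by omega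
      have h1 : ¬ (k + (t+1) < n ∧ 1 ≤ t+1) := by omega
      have h2 : ¬ (k + t < n ∧ 1 ≤ t) := by omega
      rw [mB_neg _ _ _ h0]
      unfold uT
      rw [if_neg h1, if_neg h2, sub_zero]
  unfold G
  rw [Finset.sum_congr rfl hterm, Finset.sum_range_sub (uT Y k) n]
  have h1 : ¬ (k + n < n ∧ 1 ≤ n) := by omega
  have h2 : ¬ (k + 0 < n ∧ 1 ≤ 0) := by omega
  unfold uT
  rw [if_neg h1, if_neg h2, sub_zero]

theorem PhiFun_ad (X Y : Matrix (Fin (n+1)) (Fin (n+1)) O) (hn : 1 ≤ n)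
    (hX : ∀ i j : Fin (n+1), X i j = if j.val = i.val + 1 ∧ j.val < n then 1 else 0)
    (k : Fin (n+2)) : PhiFun (X * Y - Y * X) k = 0 := by
  by_cases h1 : k.val < n
  · rw [PhiFun_lt _ k h1]
    exact G_ad X Y hX k.val
  · by_cases h2 : k.val = n
    · have a1 : n - 1 < n + 1 := by omega
      have a2 : n < n + 1 := by omega
      rw [PhiFun_eq_n _ k h2, ex_ad X Y hX (n-1) n a1 a2]
      unfold adN
      have c1 : ¬ (n - 1 + 1 < n) := by omega
      have c2 : ¬ (1 ≤ n ∧ n < n) := by omega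
      rw [if_neg c1, if_neg c2, sub_zero]
    · have a1 : n < n + 1 := by omega
      have a2 : 0 < n + 1 := by omega
      rw [PhiFun_last _ k h1 h2, ex_ad X Y hX n 0 a1 a2]
      unfold adN
      have c1 : ¬ (n + 1 < n) := by omega
      have c2 : ¬ (1 ≤ 0 ∧ 0 < n) := by omega
      rw [if_neg c1, if_neg c2, sub_zero]

/-- the preimage under `ad x` -/
def yN (M : Matrix (Fin (n+1)) (Fin (n+1)) O) (a b : ℕ) : O :=
  if a < n ∧ b < n then - G M a (b+1)
  else if a = n ∧ b = n then ∑ t ∈ Finset.range n, G M t (t+1)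
  else if b = n ∧ 1 ≤ a ∧ a < n then ex M (a-1) n
  else if a = n ∧ b + 1 < n then - ex M n (b+1)
  else 0

theorem yN_blk (M : Matrix (Fin (n+1)) (Fin (n+1)) O) (a b : ℕ) (ha : a < n) (hb : b < n) :
    yN M a b = - G M a (b+1) := by
  unfold yN
  rw [if_pos ⟨ha, hb⟩]

theorem yN_nn (M : Matrix (Fin (n+1)) (Fin (n+1)) O) :
    yN M n n = ∑ t ∈ Finset.range n, G M t (t+1) := by
  have c1 : ¬ (n < n ∧ n < n) := by omega
  have c2 : (n = n ∧ n = n) := ⟨rfl, rfl⟩
  unfold yN
  rw [if_neg c1, if_pos c2]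

theorem yN_col (M : Matrix (Fin (n+1)) (Fin (n+1)) O) (a : ℕ) (ha1 : 1 ≤ a) (ha : a < n) :
    yN M a n = ex M (a-1) n := by
  have c1 : ¬ (a < n ∧ n < n) := by omega
  have c2 : ¬ (a = n ∧ n = n) := by omega
  have c3 : (n = n ∧ 1 ≤ a ∧ a < n) := ⟨rfl, ha1, ha⟩
  unfold yN
  rw [if_neg c1, if_neg c2, if_pos c3]

theorem yN_row (M : Matrix (Fin (n+1)) (Fin (n+1)) O) (b : ℕ) (hb : b + 1 < n) :
    yN M n b = - ex M n (b+1) := by
  have c1 : ¬ (n < n ∧ b < n) := by omega
  have c2 : ¬ (n = n ∧ b = n) := by omega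
  have c3 : ¬ (b = n ∧ 1 ≤ n ∧ n < n) := by omega
  have c4 : (n = n ∧ b + 1 < n) := ⟨rfl, hb⟩
  unfold yN
  rw [if_neg c1, if_neg c2, if_neg c3, if_pos c4]

theorem trace_eq (A : Matrix (Fin (n+1)) (Fin (n+1)) O) :
    Matrix.trace A = ∑ t ∈ Finset.range (n+1), ex A t t := by
  have h : ∑ i : Fin (n+1), ex A i.val i.val = ∑ t ∈ Finset.range (n+1), ex A t t :=
    Fin.sum_univ_eq_sum_range (fun t => ex A t t) (n+1)
  rw [← h]
  show ∑ i : Fin (n+1), A i i = _
  exact Finset.sum_congr rfl (fun i _ => (ex_fin A i i).symm)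

theorem trace_Y (M : Matrix (Fin (n+1)) (Fin (n+1)) O) :
    Matrix.trace (mkM (n := n) (yN M)) = 0 := by
  rw [trace_eq, Finset.sum_range_succ]
  have h1 : ∀ t ∈ Finset.range n, ex (mkM (n := n) (yN M)) t t = - G M t (t+1) := by
    intro t ht
    have ht' : t < n := Finset.mem_range.1 ht
    have a1 : t < n + 1 := by omega
    rw [ex_mkM (n := n) _ t t a1 a1, yN_blk M t t ht' ht']
  have a2 : n < n + 1 := by omega
  rw [Finset.sum_congr rfl h1, ex_mkM (n := n) _ n n a2 a2, yN_nn, Finset.sum_neg_distrib,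
    neg_add_cancel]

theorem ad_Y (X M : Matrix (Fin (n+1)) (Fin (n+1)) O) (hn : 1 ≤ n)
    (hX : ∀ i j : Fin (n+1), X i j = if j.val = i.val + 1 ∧ j.val < n then 1 else 0)
    (hM : ∀ k, PhiFun M k = 0) (htr : Matrix.trace M = 0) :
    X * mkM (n := n) (yN M) - mkM (n := n) (yN M) * X = M := by
  have hG : ∀ a : ℕ, a < n → G M a 0 = 0 := by
    intro a ha
    have h' : a < n + 2 := by omega
    exact (PhiFun_lt M ⟨a, h'⟩ ha).symm.trans (hM ⟨a, h'⟩)
  have hcol : ex M (n-1) n = 0 := by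
    have h' : n < n + 2 := by omega
    exact (PhiFun_eq_n M ⟨n, h'⟩ rfl).symm.trans (hM ⟨n, h'⟩)
  have hrow : ex M n 0 = 0 := by
    have h' : n + 1 < n + 2 := by omega
    have c1 : ¬ ((⟨n+1, h'⟩ : Fin (n+2)).val < n) := by
      show ¬ (n + 1 < n)
      omega
    have c2 : ¬ ((⟨n+1, h'⟩ : Fin (n+2)).val = n) := by
      show ¬ (n + 1 = n)
      omega
    exact (PhiFun_last M ⟨n+1, h'⟩ c1 c2).symm.trans (hM ⟨n+1, h'⟩)
  have hnn : ex M n n = 0 := by
    have h0 : G M 0 0 = ∑ t ∈ Finset.range n, ex M t t := by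
      unfold G
      refine Finset.sum_congr rfl (fun t ht => ?_)
      have ht' : t < n := Finset.mem_range.1 ht
      rw [Nat.zero_add, mB_pos M t t ht' ht']
    have h1 := trace_eq M
    rw [htr, Finset.sum_range_succ, ← h0, hG 0 (by omega), zero_add] at h1
    exact h1.symm
  have key : ∀ a b : ℕ, a < n + 1 → b < n + 1 → adN (mkM (n := n) (yN M)) a b = ex M a b := by
    intro a b ha hb
    unfold adN
    rcases Nat.lt_or_ge a n with ha' | ha'
    · rcases Nat.lt_or_ge b n with hb' | hb'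
      · have t1 : (if a + 1 < n then ex (mkM (n := n) (yN M)) (a+1) b else 0)
            = - G M (a+1) (b+1) := by
          by_cases h : a + 1 < n
          · have a1 : a + 1 < n + 1 := by omega
            rw [if_pos h, ex_mkM (n := n) _ (a+1) b a1 hb, yN_blk M (a+1) b h hb']
          · have a1 : n ≤ a + 1 := by omega
            rw [if_neg h, G_zero_left M (a+1) (b+1) a1, neg_zero]
        rw [t1]
        by_cases hb0 : 1 ≤ b
        · have c : (1 ≤ b ∧ b < n) := ⟨hb0, hb'⟩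
          have a1 : b - 1 < n + 1 := by omega
          have a2 : b - 1 < n := by omega
          rw [if_pos c, ex_mkM (n := n) _ a (b-1) ha a1, yN_blk M a (b-1) ha' a2]
          have e : b - 1 + 1 = b := by omega
          rw [e]
          have h5 := G_sub M a b
          rw [mB_pos M a b ha' hb'] at h5
          rw [← h5]
          ring
        · have c : ¬ (1 ≤ b ∧ b < n) := by omega
          have hb00 : b = 0 := by omega
          rw [if_neg c, sub_zero, hb00]
          have h5 := G_sub M a 0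
          rw [hb00] at hb'
          rw [mB_pos M a 0 ha' hb', hG a ha'] at h5
          rw [← h5]
          ring
      · have hbn : b = n := by omega
        rw [hbn]
        have c : ¬ (1 ≤ n ∧ n < n) := by omega
        rw [if_neg c, sub_zero]
        by_cases h : a + 1 < n
        · have a1 : a + 1 < n + 1 := by omega
          have a2 : n < n + 1 := by omega
          have a3 : 1 ≤ a + 1 := by omega
          rw [if_pos h, ex_mkM (n := n) _ (a+1) n a1 a2, yN_col M (a+1) a3 h]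
          have e : a + 1 - 1 = a := by omega
          rw [e]
        · rw [if_neg h]
          have e : a = n - 1 := by omega
          rw [e, hcol]
    · have han : a = n := by omega
      rw [han]
      have c1 : ¬ (n + 1 < n) := by omega
      rw [if_neg c1, zero_sub]
      by_cases h : 1 ≤ b ∧ b < n
      · have a1 : n < n + 1 := by omega
        have a2 : b - 1 < n + 1 := by omega
        have a3 : b - 1 + 1 < n := by omega
        rw [if_pos h, ex_mkM (n := n) _ n (b-1) a1 a2, yN_row M (b-1) a3]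
        have e : b - 1 + 1 = b := by omega
        rw [e, neg_neg]
      · rw [if_neg h, neg_zero]
        rcases Nat.lt_or_ge b n with hb' | hb'
        · have e : b = 0 := by omega
          rw [e, hrow]
        · have e : b = n := by omega
          rw [e, hnn]
  ext i j
  exact (ex_fin _ i j).symm.trans ((ex_ad X _ hX i.val j.val i.isLt j.isLt).trans
    ((key i.val j.val i.isLt j.isLt).trans (ex_fin M i j)))

/-- section of `PhiFun` -/
def cN (c : Fin (n+2) → O) (k : ℕ) : O := if h : k < n+2 then c ⟨k, h⟩ else 0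

theorem cN_val (c : Fin (n+2) → O) (k : Fin (n+2)) : cN c k.val = c k := by
  unfold cN
  rw [dif_pos k.isLt]

def mN (c : Fin (n+2) → O) (a b : ℕ) : O :=
  if b = 0 ∧ a < n then cN c a
  else if a = n - 1 ∧ b = n then cN c n
  else if a = n ∧ b = 0 then cN c (n+1)
  else if a = n ∧ b = n then - cN c 0
  else 0

theorem mN_col0 (c : Fin (n+2) → O) (a : ℕ) (ha : a < n) : mN c a 0 = cN c a := by
  have c1 : ((0:ℕ) = 0 ∧ a < n) := ⟨rfl, ha⟩
  unfold mN
  rw [if_pos c1]

theorem mN_zero (c : Fin (n+2) → O) (a b : ℕ) (ha : a < n) (hb : b < n) (hb0 : b ≠ 0) :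
    mN c a b = 0 := by
  have c1 : ¬ (b = 0 ∧ a < n) := by omega
  have c2 : ¬ (a = n - 1 ∧ b = n) := by omega
  have c3 : ¬ (a = n ∧ b = 0) := by omega
  have c4 : ¬ (a = n ∧ b = n) := by omega
  unfold mN
  rw [if_neg c1, if_neg c2, if_neg c3, if_neg c4]

theorem mN_nn (hn : 1 ≤ n) (c : Fin (n+2) → O) : mN c n n = - cN c 0 := by
  have c1 : ¬ (n = 0 ∧ n < n) := by omega
  have c2 : ¬ (n = n - 1 ∧ n = n) := by omega
  have c3 : ¬ (n = n ∧ n = 0) := by omega
  have c4 : (n = n ∧ n = n) := ⟨rfl, rfl⟩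
  unfold mN
  rw [if_neg c1, if_neg c2, if_neg c3, if_pos c4]

theorem mN_coln (hn : 1 ≤ n) (c : Fin (n+2) → O) : mN c (n-1) n = cN c n := by
  have c1 : ¬ (n = 0 ∧ n - 1 < n) := by omega
  have c2 : (n - 1 = n - 1 ∧ n = n) := ⟨rfl, rfl⟩
  unfold mN
  rw [if_neg c1, if_pos c2]

theorem mN_row0 (hn : 1 ≤ n) (c : Fin (n+2) → O) : mN c n 0 = cN c (n+1) := by
  have c1 : ¬ ((0:ℕ) = 0 ∧ n < n) := by omega
  have c2 : ¬ (n = n - 1 ∧ (0:ℕ) = n) := by omega
  have c3 : (n = n ∧ (0:ℕ) = 0) := ⟨rfl, rfl⟩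
  unfold mN
  rw [if_neg c1, if_neg c2, if_pos c3]

theorem trace_M (hn : 1 ≤ n) (c : Fin (n+2) → O) :
    Matrix.trace (mkM (n := n) (mN c)) = 0 := by
  have a0 : 0 < n + 1 := by omega
  have a1 : n < n + 1 := by omega
  have a2 : 0 < n := by omega
  rw [trace_eq, Finset.sum_range_succ, Finset.sum_eq_single 0]
  · rw [ex_mkM (n := n) _ 0 0 a0 a0, ex_mkM (n := n) _ n n a1 a1, mN_col0 c 0 a2, mN_nn hn c,
      add_neg_cancel]
  · intro t ht ht0
    have ht' : t < n := Finset.mem_range.1 ht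
    have a3 : t < n + 1 := by omega
    rw [ex_mkM (n := n) _ t t a3 a3, mN_zero c t t ht' ht' ht0]
  · intro h
    exact absurd (Finset.mem_range.2 a2) h

theorem PhiFun_M (hn : 1 ≤ n) (c : Fin (n+2) → O) (k : Fin (n+2)) :
    PhiFun (mkM (n := n) (mN c)) k = c k := by
  have a0 : 0 < n + 1 := by omega
  have a1 : n < n + 1 := by omega
  have a2 : 0 < n := by omega
  by_cases h1 : k.val < n
  · rw [PhiFun_lt _ k h1]
    unfold G
    rw [Finset.sum_eq_single 0]
    · show mB (mkM (n := n) (mN c)) k.val 0 = c k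
      have a3 : k.val < n + 1 := by omega
      rw [mB_pos _ k.val 0 h1 a2, ex_mkM (n := n) _ k.val 0 a3 a0, mN_col0 c k.val h1]
      exact cN_val c k
    · intro t ht ht0
      have ht' : t < n := Finset.mem_range.1 ht
      rw [Nat.zero_add]
      by_cases hkt : k.val + t < n
      · have a3 : k.val + t < n + 1 := by omega
        have a4 : t < n + 1 := by omega
        rw [mB_pos _ _ _ hkt ht', ex_mkM (n := n) _ (k.val + t) t a3 a4,
          mN_zero c (k.val + t) t hkt ht' ht0]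
      · have h0 : ¬ (k.val + t < n ∧ t < n) := by omega
        exact mB_neg _ _ _ h0
    · intro h
      exact absurd (Finset.mem_range.2 a2) h
  · by_cases h2 : k.val = n
    · have a3 : n - 1 < n + 1 := by omega
      rw [PhiFun_eq_n _ k h2, ex_mkM (n := n) _ (n-1) n a3 a1, mN_coln hn c]
      have e : cN c n = cN c k.val := by rw [h2]
      exact e.trans (cN_val c k)
    · have h3 : k.val = n + 1 := by
        have := k.isLt
        omega
      rw [PhiFun_last _ k h1 h2, ex_mkM (n := n) _ n 0 a1 a0, mN_row0 hn c]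
      have e : cN c (n+1) = cN c k.val := by rw [h3]
      exact e.trans (cN_val c k)

/-- the linear map cutting out the image of `ad x` in `sl` -/
noncomputable def Phi (O : Type u) [CommRing O] (n : ℕ) :
    ↥(LieAlgebra.SpecialLinear.sl (Fin (n+1)) O) →ₗ[O] (Fin (n+2) → O) where
  toFun y := PhiFun y.val
  map_add' y z := by
    funext k
    exact PhiFun_add y.val z.val k
  map_smul' c y := by
    funext k
    exact PhiFun_smul c y.val k

theorem Phi_apply (y : ↥(LieAlgebra.SpecialLinear.sl (Fin (n+1)) O)) (k : Fin (n+2)) :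
    Phi O n y k = PhiFun y.val k := rfl

theorem range_eq_ker (hn : 1 ≤ n) (x : LieAlgebra.SpecialLinear.sl (Fin (n + 1)) O)
    (hx : ∀ i j : Fin (n + 1), (x : Matrix (Fin (n + 1)) (Fin (n + 1)) O) i j =
      if j.val = i.val + 1 ∧ j.val < n then 1 else 0) :
    LinearMap.range (LieAlgebra.ad O (LieAlgebra.SpecialLinear.sl (Fin (n + 1)) O) x)
      = LinearMap.ker (Phi O n) := by
  apply le_antisymm
  · rintro _ ⟨y, rfl⟩
    rw [LinearMap.mem_ker]
    funext k
    have e : ((LieAlgebra.ad O (LieAlgebra.SpecialLinear.sl (Fin (n + 1)) O) x y :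
        ↥(LieAlgebra.SpecialLinear.sl (Fin (n+1)) O))).val = x.val * y.val - y.val * x.val := rfl
    rw [Phi_apply, e]
    exact PhiFun_ad x.val y.val hn hx k
  · intro M hM
    rw [LinearMap.mem_ker] at hM
    have hM' : ∀ k, PhiFun M.val k = 0 := fun k => congrFun hM k
    have htr : Matrix.trace M.val = 0 := by
      have h := M.2
      change M.val ∈ LinearMap.ker (Matrix.traceLinearMap (Fin (n+1)) O O) at h
      exact LinearMap.mem_ker.1 h
    have hY : mkM (n := n) (yN M.val) ∈ LieAlgebra.SpecialLinear.sl (Fin (n+1)) O := by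
      show mkM (n := n) (yN M.val) ∈ LinearMap.ker (Matrix.traceLinearMap (Fin (n+1)) O O)
      exact LinearMap.mem_ker.2 (trace_Y M.val)
    refine ⟨⟨mkM (n := n) (yN M.val), hY⟩, ?_⟩
    apply Subtype.ext
    exact ad_Y x.val M.val hn hx hM' htr

theorem Phi_surj (hn : 1 ≤ n) : Function.Surjective (Phi O n) := by
  intro c
  have hmem : mkM (n := n) (mN c) ∈ LieAlgebra.SpecialLinear.sl (Fin (n+1)) O := by
    show mkM (n := n) (mN c) ∈ LinearMap.ker (Matrix.traceLinearMap (Fin (n+1)) O O)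
    exact LinearMap.mem_ker.2 (trace_M hn c)
  refine ⟨⟨mkM (n := n) (mN c), hmem⟩, ?_⟩
  funext k
  exact PhiFun_M hn c k

theorem main16051 (O : Type u) [CommRing O] [Nontrivial O] (n : ℕ) (hn : 1 ≤ n)
    (x : LieAlgebra.SpecialLinear.sl (Fin (n + 1)) O)
    (hx : ∀ i j : Fin (n + 1), (x : Matrix (Fin (n + 1)) (Fin (n + 1)) O) i j =
      if j.val = i.val + 1 ∧ j.val < n then 1 else 0) :
    Module.Free O (LieAlgebra.SpecialLinear.sl (Fin (n + 1)) O ⧸
        LinearMap.range (LieAlgebra.ad O (LieAlgebra.SpecialLinear.sl (Fin (n + 1)) O) x)) ∧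
      Module.finrank O (LieAlgebra.SpecialLinear.sl (Fin (n + 1)) O ⧸
        LinearMap.range (LieAlgebra.ad O (LieAlgebra.SpecialLinear.sl (Fin (n + 1)) O) x)) = n + 2 := by
  have hker := range_eq_ker hn x hx
  have e : (LieAlgebra.SpecialLinear.sl (Fin (n + 1)) O ⧸
        LinearMap.range (LieAlgebra.ad O (LieAlgebra.SpecialLinear.sl (Fin (n + 1)) O) x))
        ≃ₗ[O] (Fin (n+2) → O) :=
    (Submodule.quotEquivOfEq _ _ hker).trans ((Phi O n).quotKerEquivOfSurjective (Phi_surj hn))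
  exact ⟨Module.Free.of_equiv e.symm, by rw [LinearEquiv.finrank_eq e, Module.finrank_fin_fun O]⟩

end Groth.Agent.Lib.SubregSlH4
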