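import Mathlib

/-!
# Filtered families of subschemes exhausting the infinitesimal neighbourhoods of the fibres (helper3)

Let `X` be a Noetherian scheme over `S` and `(X_i)` an increasing filtered family of subschemes of
`X` such that every infinitesimal neighbourhood `X ×_S Spec (𝒪_{S,s}/𝔪^(n+1))` of a fibre is
contained in some `X_i`.  Then `X_i = X` for some `i`.
-/

set_option autoImplicit false
set_option linter.all false
set_option maxHeartbeats 1600000

universe u

open CategoryTheory Limits AlgebraicGeometry IsLocalRing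

namespace Groth.Agent.Lib.SubschFamilyH3

section Algebra

variable {A : Type u} [CommRing A] [IsNoetherianRing A] [IsLocalRing A]

/-- an ideal which vanishes at every non-maximal prime is killed by a power of the maximal ideal -/
theorem exists_pow_mul_eq_bot (I : Ideal A)
    (h : ∀ p : Ideal A, p.IsPrime → p ≠ maximalIdeal A → ∀ a ∈ I, ∃ t, t ∉ p ∧ t * a = 0) :
    ∃ N : ℕ, ∀ r ∈ maximalIdeal A ^ N, ∀ a ∈ I, r * a = 0 := by
  classical
  let K : Ideal A := Submodule.annihilator (I : Submodule A A)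
  have hK : ∀ r, r ∈ K ↔ ∀ a ∈ I, r * a = 0 := fun r => by
    simp only [K, Submodule.mem_annihilator, smul_eq_mul]
  have hrad : maximalIdeal A ≤ K.radical := by
    rw [Ideal.radical_eq_sInf]
    refine le_sInf ?_
    rintro p ⟨hKp, hp⟩
    by_cases hpm : p = maximalIdeal A
    · exact hpm.ge
    exfalso
    obtain ⟨s, hs⟩ := (isNoetherianRing_iff_ideal_fg A).mp inferInstance I
    have key : ∃ t, t ∉ p ∧ ∀ a ∈ s, t * a = 0 := by
      have hsI : ∀ a ∈ s, a ∈ I := fun a ha => hs ▸ Ideal.subset_span ha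
      clear hs
      induction s using Finset.induction_on with
      | empty => exact ⟨1, fun h1 => hp.ne_top ((Ideal.eq_top_iff_one _).mpr h1), by simp⟩
      | insert b s hb ih =>
        obtain ⟨t, ht, hts⟩ := ih (fun a ha => hsI a (Finset.mem_insert_of_mem ha))
        obtain ⟨t', ht', htb⟩ := h p hp hpm b (hsI b (Finset.mem_insert_self _ _))
        refine ⟨t * t', fun hmem => ?_, fun a ha => ?_⟩
        · rcases hp.mem_or_mem hmem with h1 | h1
          · exact ht h1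
          · exact ht' h1
        · rcases Finset.mem_insert.mp ha with rfl | ha
          · rw [mul_assoc, htb, mul_zero]
          · rw [mul_comm t t', mul_assoc, hts a ha, mul_zero]
    obtain ⟨t, ht, hts⟩ := key
    apply ht
    apply hKp
    rw [hK]
    intro a ha
    rw [← hs] at ha
    refine Submodule.span_induction (p := fun a _ => t * a = 0) ?_ ?_ ?_ ?_ ha
    · intro a ha; exact hts a ha
    · exact mul_zero t
    · intro a b _ _ h1 h2; rw [mul_add, h1, h2, add_zero]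
    · intro c a _ h1; rw [smul_eq_mul, mul_left_comm, h1, mul_zero]
  obtain ⟨N, hN⟩ := Ideal.exists_pow_le_of_le_radical_of_fg hrad
    ((isNoetherianRing_iff_ideal_fg A).mp inferInstance _)
  exact ⟨N, fun r hr => (hK r).mp (hN hr)⟩

/-- a decreasing directed family of ideals, one of them killed by a power of the maximal ideal,
which gets arbitrarily small for the adic topology, contains the zero ideal -/
theorem exists_eq_bot {D : Type u} [Preorder D] [IsDirected D (fun a b => a ≤ b)] (I : D → Ideal A)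
    (hanti : ∀ i j, i ≤ j → I j ≤ I i) (i₁ : D) (N : ℕ)
    (htors : ∀ r ∈ maximalIdeal A ^ N, ∀ a ∈ I i₁, r * a = 0)
    (hsmall : ∀ n : ℕ, ∃ i, I i ≤ maximalIdeal A ^ (n + 1)) : ∃ i, I i = ⊥ := by
  obtain ⟨k, hk⟩ := Ideal.exists_pow_inf_eq_pow_smul (maximalIdeal A) (I i₁ : Submodule A A)
  obtain ⟨i, hi⟩ := hsmall (k + N)
  obtain ⟨j, hij, hi₁j⟩ := directed_of (fun a b : D => a ≤ b) i i₁
  refine ⟨j, ?_⟩
  rw [eq_bot_iff]
  intro a ha
  have h1 : a ∈ maximalIdeal A ^ (k + N) :=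
    Ideal.pow_le_pow_right (Nat.le_succ _) (hi (hanti i j hij ha))
  have h2 : a ∈ I i₁ := hanti i₁ j hi₁j ha
  have h3 : a ∈ (maximalIdeal A ^ (k + N) • ⊤ ⊓ (I i₁ : Submodule A A) : Submodule A A) := by
    refine ⟨?_, h2⟩
    rw [Ideal.smul_top_eq_map, Algebra.algebraMap_self, Ideal.map_id]
    exact h1
  rw [hk (k + N) (Nat.le_add_right _ _), Nat.add_sub_cancel_left] at h3
  refine Submodule.smul_induction_on h3 ?_ ?_
  · intro r hr b hb
    rw [smul_eq_mul, htors r hr b hb.2]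
    exact Submodule.zero_mem _
  · intro b c hb hc
    exact Submodule.add_mem _ hb hc

end Algebra

section Topology

/-- a nonempty closed subset of a quasi-sober `T0` space has a maximal point for specialization -/
theorem exists_maximal_point {X : Type u} [TopologicalSpace X] [QuasiSober X] [T0Space X]
    (Z : Set X) (hZ : IsClosed Z) (hne : Z.Nonempty) :
    ∃ ξ ∈ Z, ∀ ξ' ∈ Z, ξ' ⤳ ξ → ξ' = ξ := by
  obtain ⟨z₀, hz₀⟩ := hne
  haveI : QuasiSober ↥Z := hZ.isClosedEmbedding_subtypeVal.quasiSober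
  obtain ⟨t, ht, hzt, hmax⟩ := exists_preirreducible ({⟨z₀, hz₀⟩} : Set ↥Z)
    isIrreducible_singleton.isPreirreducible
  have htne : t.Nonempty := ⟨⟨z₀, hz₀⟩, hzt rfl⟩
  have hcl : IsClosed t := by
    have := hmax (closure t) ht.closure subset_closure
    rw [← this]
    exact isClosed_closure
  obtain ⟨ξ, hξ⟩ := QuasiSober.sober ⟨htne, ht⟩ hcl
  refine ⟨ξ.1, ξ.2, fun ξ' hξ' hsp => ?_⟩
  have hsp' : (⟨ξ', hξ'⟩ : ↥Z) ⤳ ξ := Topology.IsInducing.subtypeVal.specializes_iff.mp hsp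
  have hsub : t ⊆ closure {(⟨ξ', hξ'⟩ : ↥Z)} := by
    rw [← hξ.def]
    exact closure_minimal (Set.singleton_subset_iff.mpr hsp'.mem_closure) isClosed_closure
  have heq := hmax _ isIrreducible_singleton.closure.isPreirreducible hsub
  have hmem : (⟨ξ', hξ'⟩ : ↥Z) ∈ t := heq ▸ subset_closure rfl
  rw [← hξ.def] at hmem
  have hsp2 : ξ ⤳ (⟨ξ', hξ'⟩ : ↥Z) := specializes_iff_mem_closure.mpr hmem
  exact congrArg Subtype.val (hsp'.antisymm hsp2).eq

end Topology

section Lifts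

variable {X : Scheme.{u}} {D : Type u} [Preorder D] (Xi : D → Scheme.{u}) (x : ∀ i, Xi i ⟶ X)

/-- the morphism `g : T ⟶ X` factors through the `i`-th subscheme -/
def Lifts (i : D) {T : Scheme.{u}} (g : T ⟶ X) : Prop := ∃ l : T ⟶ Xi i, l ≫ x i = g

variable {Xi x}

lemma Lifts.mono (hmono : ∀ i j, i ≤ j → ∃ t : Xi i ⟶ Xi j, t ≫ x j = x i) {i j : D}
    (hij : i ≤ j) {T : Scheme.{u}} {g : T ⟶ X} (h : Lifts Xi x i g) : Lifts Xi x j g := by
  obtain ⟨l, hl⟩ := h
  obtain ⟨t, ht⟩ := hmono i j hij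
  exact ⟨l ≫ t, by rw [Category.assoc, ht, hl]⟩

lemma Lifts.precomp {i : D} {T T' : Scheme.{u}} {g : T ⟶ X} (k : T' ⟶ T)
    (h : Lifts Xi x i g) : Lifts Xi x i (k ≫ g) := by
  obtain ⟨l, hl⟩ := h
  exact ⟨k ≫ l, by rw [Category.assoc, hl]⟩

lemma lifts_of_isIso_snd {i : D} {T : Scheme.{u}} (g : T ⟶ X)
    (h : IsIso (pullback.snd (x i) g)) : Lifts Xi x i g :=
  ⟨inv (pullback.snd (x i) g) ≫ pullback.fst (x i) g, by
    rw [Category.assoc, pullback.condition, IsIso.inv_hom_id_assoc]⟩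

lemma Lifts.mem_range {i : D} {T : Scheme.{u}} {g : T ⟶ X} (h : Lifts Xi x i g) (t : T) :
    g.base t ∈ Set.range (x i).base := by
  obtain ⟨l, rfl⟩ := h
  exact ⟨l.base t, by rw [Scheme.Hom.comp_apply]⟩

end Lifts

section LocalTarget

lemma isIso_ι_of_eq_top {Y : Scheme.{u}} (U : Y.Opens) (h : U = ⊤) : IsIso U.ι := by
  subst h
  exact (inferInstance : IsIso Y.topIso.hom)

/-- an immersion into a local scheme whose image contains the closed point is a closed
immersion -/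
theorem isClosedImmersion_of_closedPoint_mem {R : Type u} [CommRing R] [IsLocalRing R]
    {Y : Scheme.{u}} (π : Y ⟶ Spec (CommRingCat.of R)) [IsImmersion π]
    (h : closedPoint R ∈ Set.range π.base) : IsClosedImmersion π := by
  have hmem : closedPoint R ∈ π.coborderRange := subset_coborder h
  have htop : π.coborderRange = ⊤ := IsLocalRing.closed_point_mem_iff.mp hmem
  haveI := isIso_ι_of_eq_top _ htop
  rw [← π.liftCoborder_ι]
  infer_instance

end LocalTarget

section Stalk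

variable {X : Scheme.{u}} {D : Type u} [Preorder D] (Xi : D → Scheme.{u}) (x : ∀ i, Xi i ⟶ X)
  (ξ : X)

/-- the ring map from the local ring at `ξ` to the global sections of the trace of `X_i` on
`Spec 𝒪_{X,ξ}` -/
noncomputable def psi (i : D) :
    X.presheaf.stalk ξ ⟶ Γ(pullback (x i) (X.fromSpecStalk ξ), ⊤) :=
  (Scheme.ΓSpecIso (X.presheaf.stalk ξ)).inv ≫ (pullback.snd (x i) (X.fromSpecStalk ξ)).appTop

/-- the ideal of the trace of `X_i` on `Spec 𝒪_{X,ξ}` -/
noncomputable def idl (i : D) : Ideal (X.presheaf.stalk ξ) := RingHom.ker (psi Xi x ξ i).hom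

variable {Xi x ξ}

lemma idl_le_ker_of_lifts {i : D} {T : Scheme.{u}} (g : T ⟶ Spec (X.presheaf.stalk ξ))
    (h : Lifts Xi x i (g ≫ X.fromSpecStalk ξ)) :
    idl Xi x ξ i ≤ RingHom.ker ((Scheme.ΓSpecIso (X.presheaf.stalk ξ)).inv ≫ g.appTop).hom := by
  obtain ⟨l, hl⟩ := h
  let l' : T ⟶ pullback (x i) (X.fromSpecStalk ξ) := pullback.lift l g hl
  have hl' : l' ≫ pullback.snd (x i) (X.fromSpecStalk ξ) = g := pullback.lift_snd _ _ _
  have key : (Scheme.ΓSpecIso (X.presheaf.stalk ξ)).inv ≫ g.appTop =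
      psi Xi x ξ i ≫ l'.appTop := by
    rw [psi, Category.assoc, ← Scheme.Hom.comp_appTop, hl']
  intro a ha
  rw [RingHom.mem_ker, key, CommRingCat.hom_comp, RingHom.comp_apply]
  have : (psi Xi x ξ i).hom a = 0 := ha
  rw [this, map_zero]

lemma idl_le_ker {i : D} {C : CommRingCat.{u}} (φ : X.presheaf.stalk ξ ⟶ C)
    (h : Lifts Xi x i (Spec.map φ ≫ X.fromSpecStalk ξ)) : idl Xi x ξ i ≤ RingHom.ker φ.hom := by
  refine (idl_le_ker_of_lifts (Spec.map φ) h).trans ?_
  intro a ha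
  rw [RingHom.mem_ker, ← Scheme.ΓSpecIso_inv_naturality, CommRingCat.hom_comp,
    RingHom.comp_apply] at ha
  have hinj : Function.Injective (Scheme.ΓSpecIso C).inv.hom :=
    (ConcreteCategory.bijective_of_isIso (Scheme.ΓSpecIso C).inv).1
  exact hinj (by rw [ha, map_zero])

lemma idl_anti (hmono : ∀ i j, i ≤ j → ∃ t : Xi i ⟶ Xi j, t ≫ x j = x i) {i j : D}
    (hij : i ≤ j) : idl Xi x ξ j ≤ idl Xi x ξ i := by
  refine idl_le_ker_of_lifts (pullback.snd (x i) (X.fromSpecStalk ξ)) ?_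
  refine Lifts.mono hmono hij ⟨pullback.fst (x i) (X.fromSpecStalk ξ), pullback.condition⟩

lemma lifts_of_idl_eq_bot {i : D} [IsImmersion (x i)] (hmem : ξ ∈ Set.range (x i).base)
    (h : idl Xi x ξ i = ⊥) : Lifts Xi x i (X.fromSpecStalk ξ) := by
  obtain ⟨y, hy⟩ := hmem
  have hc : (X.fromSpecStalk ξ).base (closedPoint (X.presheaf.stalk ξ)) = ξ :=
    Scheme.fromSpecStalk_closedPoint
  obtain ⟨z, -, hz⟩ := Scheme.Pullback.exists_preimage_pullback (f := x i)
    (g := X.fromSpecStalk ξ) y _ (hy.trans hc.symm)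
  haveI : IsClosedImmersion (pullback.snd (x i) (X.fromSpecStalk ξ)) :=
    isClosedImmersion_of_closedPoint_mem (R := X.presheaf.stalk ξ) _ ⟨z, hz⟩
  have hinj : Function.Injective (psi Xi x ξ i).hom :=
    (RingHom.injective_iff_ker_eq_bot _).mpr h
  have hinj' : Function.Injective (pullback.snd (x i) (X.fromSpecStalk ξ)).appTop.hom := by
    have hsurj : Function.Surjective (Scheme.ΓSpecIso (X.presheaf.stalk ξ)).inv.hom :=
      (ConcreteCategory.bijective_of_isIso (Scheme.ΓSpecIso (X.presheaf.stalk ξ)).inv).2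
    refine Function.Injective.of_comp_right (g := (Scheme.ΓSpecIso (X.presheaf.stalk ξ)).inv.hom)
      ?_ hsurj
    have : (psi Xi x ξ i).hom = (pullback.snd (x i) (X.fromSpecStalk ξ)).appTop.hom.comp
        (Scheme.ΓSpecIso (X.presheaf.stalk ξ)).inv.hom := by
      rw [psi, CommRingCat.hom_comp]
    rw [this] at hinj
    exact hinj
  exact lifts_of_isIso_snd _ (IsClosedImmersion.isIso_of_injective_of_isAffine hinj')

end Stalk

section LocalStep

variable {X : Scheme.{u}} [IsNoetherian X] {D : Type u} [Preorder D]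
  [IsDirected D (fun a b => a ≤ b)] [Nonempty D] {Xi : D → Scheme.{u}} {x : ∀ i, Xi i ⟶ X}

/-- the generizations of `ξ` inside `Spec 𝒪_{X,ξ}` -/
lemma lifts_localization (ξ : X) (p : PrimeSpectrum (X.presheaf.stalk ξ)) {i : D} (V : X.Opens)
    (hpV : (X.fromSpecStalk ξ).base p ∈ V) (hV : Lifts Xi x i V.ι) :
    Lifts Xi x i (Spec.map (CommRingCat.ofHom
      (algebraMap (X.presheaf.stalk ξ) (Localization.AtPrime p.asIdeal))) ≫ X.fromSpecStalk ξ) := by
  set g := Spec.map (CommRingCat.ofHom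
      (algebraMap (X.presheaf.stalk ξ) (Localization.AtPrime p.asIdeal))) ≫ X.fromSpecStalk ξ
    with hg
  have hrange : Set.range g.base ⊆ Set.range V.ι.base := by
    rintro _ ⟨q, rfl⟩
    rw [Scheme.Opens.range_ι]
    have h1 : (Spec.map (CommRingCat.ofHom
        (algebraMap (X.presheaf.stalk ξ) (Localization.AtPrime p.asIdeal)))).base q ⤳ p := by
      refine (PrimeSpectrum.le_iff_specializes (PrimeSpectrum.comap (algebraMap
        (X.presheaf.stalk ξ) (Localization.AtPrime p.asIdeal)) q) p).mp ?_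
      intro a ha
      by_contra hap
      have hu : IsUnit (algebraMap (X.presheaf.stalk ξ) (Localization.AtPrime p.asIdeal) a) :=
        IsLocalization.map_units (Localization.AtPrime p.asIdeal)
          (⟨a, hap⟩ : p.asIdeal.primeCompl)
      exact q.isPrime.ne_top (Ideal.eq_top_of_isUnit_mem _ ha hu)
    rw [hg, Scheme.Hom.comp_apply]
    exact (h1.map (X.fromSpecStalk ξ).continuous).mem_open V.isOpen hpV
  have hfac : IsOpenImmersion.lift V.ι g hrange ≫ V.ι = g := IsOpenImmersion.lift_fac _ _ _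
  rw [← hfac]
  exact hV.precomp _

theorem good_of_generizations (hx : ∀ i, IsImmersion (x i))
    (hmono : ∀ i j, i ≤ j → ∃ t : Xi i ⟶ Xi j, t ≫ x j = x i) (ξ : X)
    (hgen : ∀ ξ' : X, ξ' ⤳ ξ → ξ' ≠ ξ → ∃ (i : D) (V : X.Opens), ξ' ∈ V ∧ Lifts Xi x i V.ι)
    (hsmall : ∀ n : ℕ, ∃ i, Lifts Xi x i
      (Spec.map (CommRingCat.ofHom
        (Ideal.Quotient.mk (maximalIdeal (X.presheaf.stalk ξ) ^ (n + 1)))) ≫
          X.fromSpecStalk ξ)) :
    ∃ (i : D) (V : X.Opens), ξ ∈ V ∧ Lifts Xi x i V.ι := by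
  classical
  haveI := hx
  set j := X.fromSpecStalk ξ with hj
  have hjc : j.base (closedPoint (X.presheaf.stalk ξ)) = ξ := Scheme.fromSpecStalk_closedPoint
  -- step 1: `ξ` lies in `X_i` for large `i`
  obtain ⟨i₀, hi₀⟩ := hsmall 0
  have hmem₀ : ξ ∈ Set.range (x i₀).base := by
    haveI : Nontrivial (X.presheaf.stalk ξ ⧸ maximalIdeal (X.presheaf.stalk ξ) ^ (0 + 1)) := by
      rw [zero_add, pow_one]
      infer_instance
    obtain ⟨t⟩ : Nonempty (PrimeSpectrum
      (X.presheaf.stalk ξ ⧸ maximalIdeal (X.presheaf.stalk ξ) ^ (0 + 1))) := inferInstance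
    have h1 := hi₀.mem_range t
    rw [Scheme.Hom.comp_apply] at h1
    have h2 : (Spec.map (CommRingCat.ofHom
        (Ideal.Quotient.mk (maximalIdeal (X.presheaf.stalk ξ) ^ (0 + 1))))).base t =
        closedPoint (X.presheaf.stalk ξ) := by
      apply PrimeSpectrum.ext
      refine le_antisymm (IsLocalRing.le_maximalIdeal (PrimeSpectrum.isPrime _).ne_top) ?_
      intro a ha
      show Ideal.Quotient.mk (maximalIdeal (X.presheaf.stalk ξ) ^ (0 + 1)) a ∈ t.asIdeal
      have : Ideal.Quotient.mk (maximalIdeal (X.presheaf.stalk ξ) ^ (0 + 1)) a = 0 := by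
        rw [Ideal.Quotient.eq_zero_iff_mem, zero_add, pow_one]
        exact ha
      rw [this]
      exact t.asIdeal.zero_mem
    rw [h2, hjc] at h1
    exact h1
  have hmem : ∀ i, i₀ ≤ i → ξ ∈ Set.range (x i).base := by
    intro i hi
    obtain ⟨t, ht⟩ := hmono i₀ i hi
    obtain ⟨y, hy⟩ := hmem₀
    exact ⟨t.base y, by rw [← Scheme.Hom.comp_apply, ht, hy]⟩
  -- step 2: the punctured spectrum lifts to `X_i` for large `i`
  have hgood : ∀ p : PrimeSpectrum (X.presheaf.stalk ξ), p ≠ closedPoint (X.presheaf.stalk ξ) →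
      ∃ (i : D) (V : X.Opens), j.base p ∈ V ∧ Lifts Xi x i V.ι := by
    intro p hp
    refine hgen (j.base p) ?_ ?_
    · have : j.base p ∈ Set.range j.base := ⟨p, rfl⟩
      rw [hj, Scheme.range_fromSpecStalk] at this
      exact this
    · intro h
      apply hp
      exact j.isEmbedding.injective (h.trans hjc.symm)
  let U' : Set (PrimeSpectrum (X.presheaf.stalk ξ)) := {p | p ≠ closedPoint (X.presheaf.stalk ξ)}
  let ι := {p : PrimeSpectrum (X.presheaf.stalk ξ) // p ≠ closedPoint (X.presheaf.stalk ξ)}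
  let iD : ι → D := fun p => (hgood p.1 p.2).choose
  let VD : ι → X.Opens := fun p => (hgood p.1 p.2).choose_spec.choose
  have hVD1 : ∀ p : ι, j.base p.1 ∈ VD p := fun p => (hgood p.1 p.2).choose_spec.choose_spec.1
  have hVD2 : ∀ p : ι, Lifts Xi x (iD p) (VD p).ι := fun p =>
    (hgood p.1 p.2).choose_spec.choose_spec.2
  have hcompact : IsCompact U' := TopologicalSpace.NoetherianSpace.isCompact U'
  obtain ⟨T, hT⟩ := hcompact.elim_finite_subcover
    (fun p : ι => (j.base ⁻¹' (VD p : Set X) : Set (PrimeSpectrum (X.presheaf.stalk ξ))))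
    (fun p => (VD p).isOpen.preimage j.continuous)
    (fun p hp => Set.mem_iUnion.mpr ⟨⟨p, hp⟩, hVD1 ⟨p, hp⟩⟩)
  obtain ⟨i₁, hi₁⟩ := (insert i₀ (T.image iD)).exists_le
  have hi₀₁ : i₀ ≤ i₁ := hi₁ i₀ (Finset.mem_insert_self _ _)
  have hloc : ∀ p : PrimeSpectrum (X.presheaf.stalk ξ), p ≠ closedPoint (X.presheaf.stalk ξ) →
      Lifts Xi x i₁ (Spec.map (CommRingCat.ofHom
        (algebraMap (X.presheaf.stalk ξ) (Localization.AtPrime p.asIdeal))) ≫ j) := by
    intro p hp
    obtain ⟨p', hp'T, hpp'⟩ : ∃ p' ∈ T, j.base p ∈ VD p' := by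
      have := hT hp
      simp only [Set.mem_iUnion, Set.mem_preimage] at this
      obtain ⟨p', hp'T, h⟩ := this
      exact ⟨p', hp'T, h⟩
    have hle : iD p' ≤ i₁ :=
      hi₁ _ (Finset.mem_insert_of_mem (Finset.mem_image_of_mem _ hp'T))
    exact (lifts_localization ξ p (VD p') hpp' (hVD2 p')).mono hmono hle
  -- step 3: the ideal of `X_{i₁}` at `ξ` is killed by a power of the maximal ideal
  obtain ⟨N, hN⟩ := exists_pow_mul_eq_bot (idl Xi x ξ i₁) (by
    intro P hP hPm a ha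
    have hne : (⟨P, hP⟩ : PrimeSpectrum (X.presheaf.stalk ξ)) ≠
        closedPoint (X.presheaf.stalk ξ) := fun h => hPm congr(($h).asIdeal)
    have h1 := idl_le_ker _ (hloc ⟨P, hP⟩ hne) ha
    rw [RingHom.mem_ker] at h1
    obtain ⟨t, ht⟩ := (IsLocalization.map_eq_zero_iff P.primeCompl (Localization.AtPrime P) a).mp h1
    exact ⟨t.1, t.2, ht⟩)
  -- step 4: the ideals get small
  have hsm : ∀ n : ℕ, ∃ i, idl Xi x ξ i ≤ maximalIdeal (X.presheaf.stalk ξ) ^ (n + 1) := by
    intro n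
    obtain ⟨i, hi⟩ := hsmall n
    refine ⟨i, (idl_le_ker _ hi).trans ?_⟩
    show RingHom.ker (Ideal.Quotient.mk (maximalIdeal (X.presheaf.stalk ξ) ^ (n + 1))) ≤ _
    rw [Ideal.mk_ker]
  obtain ⟨i₂, hi₂⟩ := exists_eq_bot (idl Xi x ξ) (fun i j hij => idl_anti hmono hij) i₁ N hN hsm
  obtain ⟨i₃, hi₂₃, hi₀₃⟩ := directed_of (fun a b : D => a ≤ b) i₂ i₀
  have hi₃ : idl Xi x ξ i₃ = ⊥ := eq_bot_iff.mpr ((idl_anti hmono hi₂₃).trans hi₂.le)
  -- step 5: spreading out
  obtain ⟨l, hl⟩ := lifts_of_idl_eq_bot (hmem i₃ hi₀₃) hi₃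
  obtain ⟨U, hξU, f, -, hf⟩ := spread_out_of_isGermInjective' (𝟙 X) (x i₃) l
    (by rw [hl, Category.comp_id])
  exact ⟨i₃, U, hξU, f, by rw [hf, Category.comp_id]⟩

end LocalStep

section Main

variable {S X : Scheme.{u}} {D : Type u} [Preorder D] {Xi : D → Scheme.{u}} {x : ∀ i, Xi i ⟶ X}

/-- a monomorphism which admits local sections over an open cover of the target is an
isomorphism -/
theorem isIso_of_lifts (i : D) [Mono (x i)]
    (H : ∀ y : X, ∃ V : X.Opens, y ∈ V ∧ Lifts Xi x i V.ι) : IsIso (x i) := by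
  refine (MorphismProperty.isomorphisms.iff (x i)).mp
    (IsZariskiLocalAtTarget.of_forall_exists_morphismRestrict
      (P := MorphismProperty.isomorphisms Scheme.{u}) fun y => ?_)
  obtain ⟨V, hyV, l, hl⟩ := H y
  refine ⟨V, hyV, (MorphismProperty.isomorphisms.iff _).mpr ?_⟩
  have hpb := isPullback_morphismRestrict (x i) V
  haveI : Mono (x i ∣_ V) := by
    haveI : Mono ((x i ∣_ V) ≫ V.ι) := by
      rw [morphismRestrict_ι]
      infer_instance
    exact mono_of_mono (x i ∣_ V) V.ι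
  let s : (V : Scheme.{u}) ⟶ ((x i) ⁻¹ᵁ V : Scheme.{u}) :=
    hpb.lift (𝟙 _) l (by rw [hl, Category.id_comp])
  have hs : s ≫ (x i ∣_ V) = 𝟙 _ := hpb.lift_fst _ _ _
  haveI : IsSplitEpi (x i ∣_ V) := ⟨⟨⟨s, hs⟩⟩⟩
  exact isIso_of_mono_of_isSplitEpi _

variable [IsNoetherian S] (f : X ⟶ S) [LocallyOfFiniteType f] [QuasiCompact f]

include f in
lemma isNoetherian_source : IsNoetherian X := by
  haveI : IsLocallyNoetherian X := LocallyOfFiniteType.isLocallyNoetherian f
  haveI : CompactSpace X := QuasiCompact.compactSpace_of_compactSpace f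
  exact {}

omit [AlgebraicGeometry.IsNoetherian S] [LocallyOfFiniteType f] [QuasiCompact f] in
lemma hsmall_of
    (h : ∀ (s : S) (n : ℕ), ∃ i : D,
      IsIso (pullback.snd (x i) (pullback.fst f
        (Spec.map (CommRingCat.ofHom (Ideal.Quotient.mk
          (IsLocalRing.maximalIdeal (S.presheaf.stalk s) ^ (n + 1)))) ≫ S.fromSpecStalk s))))
    (ξ : X) (n : ℕ) :
    ∃ i, Lifts Xi x i
      (Spec.map (CommRingCat.ofHom
        (Ideal.Quotient.mk (maximalIdeal (X.presheaf.stalk ξ) ^ (n + 1)))) ≫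
          X.fromSpecStalk ξ) := by
  obtain ⟨i, hi⟩ := h (f ξ) n
  refine ⟨i, ?_⟩
  have h1 : Lifts Xi x i (pullback.fst f (Spec.map (CommRingCat.ofHom (Ideal.Quotient.mk
    (IsLocalRing.maximalIdeal (S.presheaf.stalk (f ξ)) ^ (n + 1)))) ≫
      S.fromSpecStalk (f ξ))) := lifts_of_isIso_snd _ hi
  have hle : maximalIdeal (S.presheaf.stalk (f ξ)) ^ (n + 1) ≤
      (maximalIdeal (X.presheaf.stalk ξ) ^ (n + 1)).comap (f.stalkMap ξ).hom := by
    rw [← Ideal.map_le_iff_le_comap, Ideal.map_pow]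
    exact Ideal.pow_right_mono (map_maximalIdeal_le (f.stalkMap ξ).hom) _
  let θ := Ideal.quotientMap (maximalIdeal (X.presheaf.stalk ξ) ^ (n + 1))
    (f.stalkMap ξ).hom hle
  have hθ : f.stalkMap ξ ≫ CommRingCat.ofHom
      (Ideal.Quotient.mk (maximalIdeal (X.presheaf.stalk ξ) ^ (n + 1))) =
      CommRingCat.ofHom (Ideal.Quotient.mk
        (maximalIdeal (S.presheaf.stalk (f ξ)) ^ (n + 1))) ≫ CommRingCat.ofHom θ := by
    ext a
    show Ideal.Quotient.mk _ ((f.stalkMap ξ).hom a) = θ (Ideal.Quotient.mk _ a)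
    rw [Ideal.quotientMap_mk]
  have e1 : X.fromSpecStalk ξ ≫ f = Spec.map (f.stalkMap ξ) ≫ S.fromSpecStalk (f ξ) :=
    (Scheme.SpecMap_stalkMap_fromSpecStalk f).symm
  have e2 : Spec.map (CommRingCat.ofHom
        (Ideal.Quotient.mk (maximalIdeal (X.presheaf.stalk ξ) ^ (n + 1)))) ≫
      Spec.map (f.stalkMap ξ) = Spec.map (CommRingCat.ofHom θ) ≫
        Spec.map (CommRingCat.ofHom (Ideal.Quotient.mk
          (maximalIdeal (S.presheaf.stalk (f ξ)) ^ (n + 1)))) := by
    rw [← Spec.map_comp, ← Spec.map_comp]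
    exact congrArg Spec.map hθ
  let g : Spec (CommRingCat.of
      (X.presheaf.stalk ξ ⧸ maximalIdeal (X.presheaf.stalk ξ) ^ (n + 1))) ⟶
      pullback f (Spec.map (CommRingCat.ofHom (Ideal.Quotient.mk
        (IsLocalRing.maximalIdeal (S.presheaf.stalk (f ξ)) ^ (n + 1)))) ≫
          S.fromSpecStalk (f ξ)) :=
    pullback.lift (Spec.map (CommRingCat.ofHom
        (Ideal.Quotient.mk (maximalIdeal (X.presheaf.stalk ξ) ^ (n + 1)))) ≫
          X.fromSpecStalk ξ) (Spec.map (CommRingCat.ofHom θ)) (by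
      rw [Category.assoc, e1, ← Category.assoc, e2, Category.assoc])
  have hg : g ≫ pullback.fst f _ = _ := pullback.lift_fst _ _ _
  rw [← hg]
  exact h1.precomp g

theorem main [IsDirected D (fun a b => a ≤ b)] [Nonempty D]
    (hx : ∀ i, IsImmersion (x i))
    (hmono : ∀ i j, i ≤ j → ∃ t : Xi i ⟶ Xi j, t ≫ x j = x i)
    (h : ∀ (s : S) (n : ℕ), ∃ i : D,
      IsIso (pullback.snd (x i) (pullback.fst f
        (Spec.map (CommRingCat.ofHom (Ideal.Quotient.mk
          (IsLocalRing.maximalIdeal (S.presheaf.stalk s) ^ (n + 1)))) ≫ S.fromSpecStalk s)))) :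
    ∃ i : D, IsIso (x i) := by
  classical
  haveI : IsNoetherian X := isNoetherian_source f
  haveI := hx
  let Z : Set X := {ξ | ¬ ∃ (i : D) (V : X.Opens), ξ ∈ V ∧ Lifts Xi x i V.ι}
  have hZ : IsClosed Z := by
    rw [← isOpen_compl_iff, isOpen_iff_forall_mem_open]
    intro ξ hξ
    have hξ' : ∃ (i : D) (V : X.Opens), ξ ∈ V ∧ Lifts Xi x i V.ι := not_not.mp hξ
    obtain ⟨i, V, hV, hl⟩ := hξ'
    exact ⟨V, fun y hy => not_not.mpr ⟨i, V, hy, hl⟩, V.isOpen, hV⟩
  by_cases hne : Z.Nonempty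
  · exfalso
    obtain ⟨ξ, hξZ, hmax⟩ := exists_maximal_point Z hZ hne
    apply hξZ
    refine good_of_generizations hx hmono ξ (fun ξ' hsp hne' => ?_) (fun n => hsmall_of f h ξ n)
    by_contra hbad
    exact hne' (hmax ξ' hbad hsp)
  · rw [Set.not_nonempty_iff_eq_empty] at hne
    have hgood : ∀ ξ : X, ∃ (i : D) (V : X.Opens), ξ ∈ V ∧ Lifts Xi x i V.ι := fun ξ => by
      by_contra hbad
      have : ξ ∈ Z := hbad
      rw [hne] at this
      exact this
    choose iD VD hVD1 hVD2 using hgood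
    obtain ⟨T, hT⟩ := isCompact_univ.elim_finite_subcover (fun ξ => (VD ξ : Set X))
      (fun ξ => (VD ξ).isOpen) (fun ξ _ => Set.mem_iUnion.mpr ⟨ξ, hVD1 ξ⟩)
    obtain ⟨i, hi⟩ := (T.image iD).exists_le
    refine ⟨i, isIso_of_lifts i fun y => ?_⟩
    obtain ⟨ξ, hξT, hy⟩ : ∃ ξ ∈ T, y ∈ VD ξ := by
      have := hT (Set.mem_univ y)
      simp only [Set.mem_iUnion] at this
      obtain ⟨ξ, hξT, hy⟩ := this
      exact ⟨ξ, hξT, hy⟩
    exact ⟨VD ξ, hy, (hVD2 ξ).mono hmono (hi _ (Finset.mem_image_of_mem _ hξT))⟩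

end Main

end Groth.Agent.Lib.SubschFamilyH3
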