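import Mathlib

set_option maxSynthPendingDepth 3
set_option autoImplicit false

/-!
# Direct summand criterion at a maximal ideal via linear forms (helper3)
-/

namespace Groth.Agent.Lib.SummandCritH3

universe u

variable {R : Type u} [CommRing R] {M : Type u} [AddCommGroup M] [Module R M]

/-- A linear form maps `x • ⊤` into `x`. -/
lemma map_mem_of_mem_smul_top (x : Ideal R) (φ : M →ₗ[R] R) {m : M}
    (hm : m ∈ (x • ⊤ : Submodule R M)) : φ m ∈ x := by
  refine Submodule.smul_induction_on hm ?_ ?_
  · intro a ha n _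
    rw [map_smul, smul_eq_mul]
    exact x.mul_mem_right _ ha
  · intro a b ha hb
    rw [map_add]
    exact x.add_mem ha hb

/-- The set `B̃` of elements all of whose linear forms land in `x`. -/
abbrev Btilde (x : Ideal R) : Set M := {m : M | ∀ φ : M →ₗ[R] R, φ m ∈ x}

/-- The subspace `B(x)` of `M/xM`. -/
abbrev Bx (x : Ideal R) : Submodule (R ⧸ x) (M ⧸ (x • ⊤ : Submodule R M)) :=
  Submodule.span (R ⧸ x) ((x • ⊤ : Submodule R M).mkQ '' Btilde (M := M) x)

lemma mem_of_mkQ_mem_span (x : Ideal R) (φ : M →ₗ[R] R)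
    {y : M ⧸ (x • ⊤ : Submodule R M)} (hy : y ∈ Bx (M := M) x) :
    ∀ m : M, (x • ⊤ : Submodule R M).mkQ m = y → φ m ∈ x := by
  induction hy using Submodule.span_induction with
  | mem y hy =>
    obtain ⟨m', hm', rfl⟩ := hy
    intro m hm
    have h1 : m - m' ∈ (x • ⊤ : Submodule R M) := by
      rw [← Submodule.Quotient.mk_eq_zero, Submodule.Quotient.mk_sub, sub_eq_zero]
      exact hm
    have h2 := map_mem_of_mem_smul_top x φ h1
    rw [map_sub] at h2
    have := x.add_mem h2 (hm' φ)
    simpa using this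
  | zero =>
    intro m hm
    exact map_mem_of_mem_smul_top x φ ((Submodule.Quotient.mk_eq_zero _).mp hm)
  | add y1 y2 _ _ h1 h2 =>
    intro m hm
    obtain ⟨m1, rfl⟩ := Submodule.mkQ_surjective _ y1
    have h3 := h1 m1 rfl
    have h4 := h2 (m - m1) (by rw [map_sub, hm]; abel)
    have := x.add_mem h3 h4
    rw [← map_add] at this
    simpa using this
  | smul c y _ h1 =>
    intro m hm
    obtain ⟨a, rfl⟩ := Ideal.Quotient.mk_surjective c
    obtain ⟨m1, rfl⟩ := Submodule.mkQ_surjective _ y
    have h3 := h1 m1 rfl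
    have h5 : (x • ⊤ : Submodule R M).mkQ (m - a • m1) = 0 := by
      rw [map_sub, hm]
      exact sub_self _
    have h4 := map_mem_of_mem_smul_top x φ ((Submodule.Quotient.mk_eq_zero _).mp h5)
    rw [map_sub, map_smul, smul_eq_mul] at h4
    have := x.add_mem h4 (x.mul_mem_left a h3)
    simpa using this

/-- Linearity bookkeeping: the class of `∑ aᵢ sᵢ` in `V(x)`. -/
lemma mkQ_sum_eq (x : Ideal R) {r : ℕ} (s : Fin r → M) (a : Fin r → R) :
    (Bx (M := M) x).mkQ ((x • ⊤ : Submodule R M).mkQ (∑ i, a i • s i)) =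
      ∑ i, Ideal.Quotient.mk x (a i) • (Bx (M := M) x).mkQ ((x • ⊤ : Submodule R M).mkQ (s i)) := by
  rw [map_sum, map_sum]
  refine Finset.sum_congr rfl fun i _ => ?_
  rw [← map_smul]
  rfl

theorem linearIndependent_of_split [Module.FinitePresentation R M] (x : Ideal R) [x.IsMaximal]
    (r : ℕ) (s : Fin r → M) (f : R) (hf : f ∉ x)
    (g : LocalizedModule (Submonoid.powers f) M →ₗ[Localization.Away f]
      (Fin r → Localization.Away f))
    (hg : g ∘ₗ Fintype.linearCombination (Localization.Away f)
            (fun i => LocalizedModule.mkLinearMap (Submonoid.powers f) M (s i)) = LinearMap.id) :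
    LinearIndependent (R ⧸ x)
      (fun i => (Bx (M := M) x).mkQ ((x • ⊤ : Submodule R M).mkQ (s i))) := by
  classical
  have hprime : x.IsPrime := Ideal.IsMaximal.isPrime inferInstance
  rw [Fintype.linearIndependent_iff]
  intro c hc j
  choose a ha using fun i => Ideal.Quotient.mk_surjective (c i)
  have hm0' : (Bx (M := M) x).mkQ ((x • ⊤ : Submodule R M).mkQ (∑ i, a i • s i)) = 0 := by
    rw [mkQ_sum_eq]
    refine Eq.trans ?_ hc
    refine Finset.sum_congr rfl fun i _ => ?_
    rw [ha i]
  have hmem : (x • ⊤ : Submodule R M).mkQ (∑ i, a i • s i) ∈ Bx (M := M) x :=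
    (Submodule.Quotient.mk_eq_zero _).mp hm0'
  let gj : LocalizedModule (Submonoid.powers f) M →ₗ[R] Localization.Away f :=
    ((LinearMap.proj j : (Fin r → Localization.Away f) →ₗ[Localization.Away f]
      Localization.Away f) ∘ₗ g).restrictScalars R
  obtain ⟨φ, t, hφ⟩ := Module.FinitePresentation.exists_lift_of_isLocalizedModule
    (Submonoid.powers f) (Algebra.linearMap R (Localization.Away f))
    (gj ∘ₗ LocalizedModule.mkLinearMap (Submonoid.powers f) M)
  have hφm : φ (∑ i, a i • s i) ∈ x := mem_of_mkQ_mem_span x φ hmem _ rfl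
  have hgs : ∀ i, g (LocalizedModule.mkLinearMap (Submonoid.powers f) M (s i)) =
      Pi.single i 1 := by
    intro i
    have := LinearMap.congr_fun hg (Pi.single i 1)
    simpa [Fintype.linearCombination_apply_single] using this
  have hφs : ∀ i, algebraMap R (Localization.Away f) (φ (s i)) =
      if i = j then algebraMap R (Localization.Away f) (t : R) else 0 := by
    intro i
    have h1 := LinearMap.congr_fun hφ (s i)
    have h2 : gj (LocalizedModule.mkLinearMap (Submonoid.powers f) M (s i)) =
        (Pi.single i (1 : Localization.Away f) : Fin r → Localization.Away f) j := by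
      change g (LocalizedModule.mkLinearMap (Submonoid.powers f) M (s i)) j = _
      rw [hgs i]
    simp only [LinearMap.comp_apply, Algebra.linearMap_apply, LinearMap.smul_apply] at h1
    rw [h1, h2, Submonoid.smul_def, Algebra.smul_def]
    by_cases hij : i = j
    · subst hij
      simp
    · rw [if_neg hij, Pi.single_apply, if_neg (Ne.symm hij), mul_zero]
  have hsum : algebraMap R (Localization.Away f) (φ (∑ i, a i • s i)) =
      algebraMap R (Localization.Away f) (a j * (t : R)) := by
    rw [map_sum, map_sum]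
    simp only [map_smul, smul_eq_mul, map_mul, hφs]
    simp
  obtain ⟨⟨_, n, rfl⟩, hn⟩ :=
    (IsLocalization.eq_iff_exists (Submonoid.powers f) (Localization.Away f)).mp hsum
  have h1 : f ^ n * (a j * (t : R)) ∈ x := by
    rw [← hn]
    exact x.mul_mem_left _ hφm
  have hfn : f ^ n ∉ x := fun h => hf (hprime.mem_of_pow_mem n h)
  have ht : (t : R) ∉ x := by
    obtain ⟨k, hk⟩ := t.2
    rw [← hk]
    exact fun h => hf (hprime.mem_of_pow_mem k h)
  have h2 := (hprime.mem_or_mem h1).resolve_left hfn
  have h3 := (hprime.mem_or_mem h2).resolve_right ht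
  rw [← ha j]
  exact Ideal.Quotient.eq_zero_iff_mem.mpr h3

theorem exists_split_of_linearIndependent (x : Ideal R) [x.IsMaximal] (r : ℕ) (s : Fin r → M)
    (h : LinearIndependent (R ⧸ x)
      (fun i => (Bx (M := M) x).mkQ ((x • ⊤ : Submodule R M).mkQ (s i)))) :
    ∃ f : R, f ∉ x ∧
      ∃ g : LocalizedModule (Submonoid.powers f) M →ₗ[Localization.Away f]
          (Fin r → Localization.Away f),
        g ∘ₗ Fintype.linearCombination (Localization.Away f)
            (fun i => LocalizedModule.mkLinearMap (Submonoid.powers f) M (s i)) =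
          LinearMap.id := by
  classical
  letI : Field (R ⧸ x) := Ideal.Quotient.field x
  rw [Fintype.linearIndependent_iff] at h
  let Ev : (M →ₗ[R] R) → (Fin r → R ⧸ x) := fun φ i => Ideal.Quotient.mk x (φ (s i))
  let U : Submodule (R ⧸ x) (Fin r → R ⧸ x) :=
    { carrier := Set.range Ev
      add_mem' := by
        rintro _ _ ⟨φ, rfl⟩ ⟨ψ, rfl⟩
        exact ⟨φ + ψ, by ext i; simp [Ev]⟩
      zero_mem' := ⟨0, by ext i; simp [Ev]⟩
      smul_mem' := by
        rintro c _ ⟨φ, rfl⟩
        obtain ⟨a, rfl⟩ := Ideal.Quotient.mk_surjective c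
        exact ⟨a • φ, by ext i; simp [Ev]⟩ }
  have hU : U = ⊤ := by
    by_contra hne
    obtain ⟨F, hF0, hFU⟩ := Submodule.exists_le_ker_of_lt_top U (lt_top_iff_ne_top.mpr hne)
    apply hF0
    choose a ha using fun i =>
      Ideal.Quotient.mk_surjective (F (fun k => if i = k then (1 : R ⧸ x) else 0))
    have hm0 : ∀ φ : M →ₗ[R] R, φ (∑ i, a i • s i) ∈ x := by
      intro φ
      have h1 : F (Ev φ) = 0 := LinearMap.mem_ker.mp (hFU ⟨φ, rfl⟩)
      rw [LinearMap.pi_apply_eq_sum_univ F (Ev φ)] at h1
      rw [← Ideal.Quotient.eq_zero_iff_mem, map_sum, map_sum]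
      refine Eq.trans ?_ h1
      refine Finset.sum_congr rfl fun i _ => ?_
      rw [← ha i]
      simp [Ev, mul_comm]
    have hz : ∑ i, Ideal.Quotient.mk x (a i) •
        (Bx (M := M) x).mkQ ((x • ⊤ : Submodule R M).mkQ (s i)) = 0 := by
      rw [← mkQ_sum_eq]
      exact (Submodule.Quotient.mk_eq_zero _).mpr (Submodule.subset_span ⟨_, hm0, rfl⟩)
    have hall := h _ hz
    apply LinearMap.ext
    intro v
    rw [LinearMap.pi_apply_eq_sum_univ F v, LinearMap.zero_apply]
    refine Finset.sum_eq_zero fun i _ => ?_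
    rw [← ha i, hall i, smul_zero]
  have hex : ∀ j : Fin r, ∃ φ : M →ₗ[R] R, Ev φ = Pi.single j 1 := by
    intro j
    have : (Pi.single j 1 : Fin r → R ⧸ x) ∈ U := by
      rw [hU]
      trivial
    exact this
  choose φ hφ using hex
  let Φ : Matrix (Fin r) (Fin r) R := fun j i => φ j (s i)
  have hΦ : Φ.map (Ideal.Quotient.mk x) = 1 := by
    ext j i
    have := congrFun (hφ j) i
    simp only [Ev] at this
    rw [Matrix.map_apply, this, Matrix.one_apply, Pi.single_apply]
    simp [eq_comm]
  have hdet : Φ.det ∉ x := by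
    intro hmem
    have h1 : Ideal.Quotient.mk x Φ.det = 1 := by
      rw [RingHom.map_det, RingHom.mapMatrix_apply, hΦ, Matrix.det_one]
    rw [Ideal.Quotient.eq_zero_iff_mem.mpr hmem] at h1
    exact zero_ne_one h1
  refine ⟨Φ.det, hdet, ?_⟩
  let g1 : M →ₗ[R] (Fin r → R) := (Matrix.toLin' Φ.adjugate) ∘ₗ (LinearMap.pi φ)
  have hg1 : ∀ i, g1 (s i) = Φ.det • (Pi.single i (1 : R) : Fin r → R) := by
    intro i
    have h1 : (LinearMap.pi φ) (s i) = Φ.mulVec (Pi.single i 1) := by
      rw [Matrix.mulVec_single_one]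
      ext j
      simp [Φ]
    simp only [g1, LinearMap.comp_apply, h1, Matrix.toLin'_apply, Matrix.mulVec_mulVec,
      Matrix.adjugate_mul, Matrix.smul_mulVec, Matrix.one_mulVec]
  let u : Localization.Away Φ.det :=
    IsLocalization.mk' (Localization.Away Φ.det) (1 : R)
      (⟨Φ.det, Submonoid.mem_powers _⟩ : Submonoid.powers Φ.det)
  have hu : u * algebraMap R (Localization.Away Φ.det) Φ.det = 1 := by
    simp only [u]
    rw [mul_comm, IsLocalization.mul_mk'_eq_mk'_of_mul, mul_one]
    exact IsLocalization.mk'_self _ (Submonoid.mem_powers _)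
  let g2 : M →ₗ[R] (Fin r → Localization.Away Φ.det) :=
    u • (((Algebra.linearMap R (Localization.Away Φ.det)).compLeft (Fin r)) ∘ₗ g1)
  have hunits : ∀ y : Submonoid.powers Φ.det,
      IsUnit (algebraMap R (Module.End R (Fin r → Localization.Away Φ.det)) y) := by
    have := isLocalizedModule_id (Submonoid.powers Φ.det) (Fin r → Localization.Away Φ.det)
      (Localization.Away Φ.det)
    exact fun y => IsLocalizedModule.map_units
      (LinearMap.id : (Fin r → Localization.Away Φ.det) →ₗ[R] _) y
  let g3 : LocalizedModule (Submonoid.powers Φ.det) M →ₗ[R] (Fin r → Localization.Away Φ.det) :=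
    LocalizedModule.lift (Submonoid.powers Φ.det) g2 hunits
  have hg3 : ∀ m, g3 (LocalizedModule.mkLinearMap (Submonoid.powers Φ.det) M m) = g2 m := by
    intro m
    exact LinearMap.congr_fun (LocalizedModule.lift_comp (Submonoid.powers Φ.det) g2 hunits) m
  refine ⟨g3.extendScalarsOfIsLocalization (Submonoid.powers Φ.det) (Localization.Away Φ.det), ?_⟩
  apply LinearMap.pi_ext
  intro i c
  rw [LinearMap.comp_apply, LinearMap.id_apply, Fintype.linearCombination_apply_single,
    map_smul, LinearMap.extendScalarsOfIsLocalization_apply', hg3]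
  have h4 : g2 (s i) = Pi.single i 1 := by
    simp only [g2, LinearMap.smul_apply, LinearMap.comp_apply, hg1 i]
    ext k
    simp only [LinearMap.compLeft_apply, Function.comp_apply, Pi.smul_apply, Algebra.linearMap_apply,
      smul_eq_mul, map_mul, Pi.single_apply]
    by_cases hk : k = i
    · simp [hk, hu]
    · simp [hk]
  rw [h4]
  ext k
  simp [Pi.single_apply]

end Groth.Agent.Lib.SummandCritH3
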