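import Mathlib

/-!
Helper library (helper1): lifting direct summands along a square-zero ideal, compatibly with a
short exact sequence of free modules; the set of lifts is a torsor.  APPEND-ONLY once landed.
-/

set_option autoImplicit false

namespace Groth.Agent.Lib.SummandLiftH1

open TensorProduct

section Aux

variable {R : Type*} [CommRing R] {M : Type*} [AddCommGroup M] [Module R M]

/-- If `M ⧸ N` is projective then `N ∩ I M = I N`. -/
theorem inf_smul_top_le (N : Submodule R M) [Module.Projective R (M ⧸ N)] (I : Ideal R) :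
    N ⊓ I • (⊤ : Submodule R M) ≤ I • N := by
  obtain ⟨s, hs⟩ := Module.projective_lifting_property N.mkQ LinearMap.id N.mkQ_surjective
  have hs' : ∀ q, N.mkQ (s q) = q := fun q => LinearMap.congr_fun hs q
  let π : M →ₗ[R] M := LinearMap.id - s ∘ₗ N.mkQ
  have hπN : ∀ x, π x ∈ N := by
    intro x
    rw [← Submodule.Quotient.mk_eq_zero]
    show N.mkQ (x - s (N.mkQ x)) = 0
    rw [map_sub, hs', sub_self]
  have hπid : ∀ x ∈ N, π x = x := by
    intro x hx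
    show x - s (N.mkQ x) = x
    rw [Submodule.mkQ_apply, (Submodule.Quotient.mk_eq_zero N).mpr hx, map_zero, sub_zero]
  rintro x ⟨hxN, hxI⟩
  rw [← hπid x hxN]
  have h1 : Submodule.map π (I • (⊤ : Submodule R M)) ≤ I • N := by
    rw [Submodule.map_smul'']
    apply Submodule.smul_mono le_rfl
    rintro _ ⟨z, -, rfl⟩
    exact hπN z
  exact h1 ⟨x, hxI, rfl⟩

theorem map_mem_smul_top {M' : Type*} [AddCommGroup M'] [Module R M'] (φ : M →ₗ[R] M')
    (I : Ideal R) {x : M} (hx : x ∈ I • (⊤ : Submodule R M)) :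
    φ x ∈ I • (⊤ : Submodule R M') := by
  have h1 : Submodule.map φ (I • (⊤ : Submodule R M)) ≤ I • (⊤ : Submodule R M') := by
    rw [Submodule.map_smul'']
    exact Submodule.smul_mono le_rfl le_top
  exact h1 ⟨x, hx, rfl⟩

variable (I : Ideal R)

theorem one_tmul_eq_zero_iff (x : M) :
    ((1 : R ⧸ I) ⊗ₜ[R] x = 0) ↔ x ∈ I • (⊤ : Submodule R M) := by
  rw [← (TensorProduct.quotTensorEquivQuotSMul M I).map_eq_zero_iff,
    TensorProduct.quotTensorEquivQuotSMul_mk_one_tmul, Submodule.Quotient.mk_eq_zero]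

theorem exists_one_tmul_eq (t : (R ⧸ I) ⊗[R] M) : ∃ x : M, (1 : R ⧸ I) ⊗ₜ[R] x = t := by
  obtain ⟨x, hx⟩ := Submodule.Quotient.mk_surjective _
    (TensorProduct.quotTensorEquivQuotSMul M I t)
  refine ⟨x, ?_⟩
  rw [← TensorProduct.quotTensorEquivQuotSMul_symm_mk, hx, LinearEquiv.symm_apply_apply]

theorem mem_baseChange_iff (p : Submodule R M) (t : (R ⧸ I) ⊗[R] M) :
    t ∈ p.baseChange (R ⧸ I) ↔ ∃ x ∈ p, (1 : R ⧸ I) ⊗ₜ[R] x = t := by
  constructor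
  · rintro ⟨z, rfl⟩
    obtain ⟨x, rfl⟩ := exists_one_tmul_eq I z
    exact ⟨x, x.2, rfl⟩
  · rintro ⟨x, hx, rfl⟩
    exact Submodule.tmul_mem_baseChange_of_mem _ hx

theorem exists_sub_mem_of_baseChange_eq {p q : Submodule R M}
    (h : p.baseChange (R ⧸ I) = q.baseChange (R ⧸ I)) {x : M} (hx : x ∈ p) :
    ∃ x₁ ∈ q, x - x₁ ∈ I • (⊤ : Submodule R M) := by
  have h1 : (1 : R ⧸ I) ⊗ₜ[R] x ∈ q.baseChange (R ⧸ I) :=
    h ▸ Submodule.tmul_mem_baseChange_of_mem _ hx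
  obtain ⟨x₁, hx₁, h2⟩ := (mem_baseChange_iff I q _).mp h1
  refine ⟨x₁, hx₁, ?_⟩
  rw [← one_tmul_eq_zero_iff I, tmul_sub, h2, sub_self]

end Aux

section Main

variable {R : Type*} [CommRing R] {H₁ H H₂ : Type*} [AddCommGroup H₁] [Module R H₁]
  [AddCommGroup H] [Module R H] [AddCommGroup H₂] [Module R H₂]
  (f : H₁ →ₗ[R] H) (g : H →ₗ[R] H₂)

/-- The shear `x ↦ x + f (u (g x))`. -/
def shear (u : H₂ →ₗ[R] H₁) : H →ₗ[R] H := LinearMap.id + f ∘ₗ u ∘ₗ g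

theorem shear_apply (u : H₂ →ₗ[R] H₁) (x : H) : shear f g u x = x + f (u (g x)) := rfl

variable (hf : Function.Injective f) (hg : Function.Surjective g) (hfg : Function.Exact f g)

include hfg in
theorem g_shear (u : H₂ →ₗ[R] H₁) (x : H) : g (shear f g u x) = g x := by
  rw [shear_apply, map_add, hfg.apply_apply_eq_zero, add_zero]

include hfg in
theorem shear_neg_shear (u : H₂ →ₗ[R] H₁) (x : H) : shear f g (-u) (shear f g u x) = x := by
  rw [shear_apply, g_shear f g hfg, shear_apply, LinearMap.neg_apply, map_neg]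
  abel

include hfg in
theorem shear_shear_neg (u : H₂ →ₗ[R] H₁) (x : H) : shear f g u (shear f g (-u) x) = x := by
  have h := shear_neg_shear f g hfg (-u) x
  rw [neg_neg] at h
  exact h

include hfg in
theorem shear_f (u : H₂ →ₗ[R] H₁) (z : H₁) : shear f g u (f z) = f z := by
  rw [shear_apply, hfg.apply_apply_eq_zero, map_zero, map_zero, add_zero]

variable (F₁ : Submodule R H₁) (F₂ : Submodule R H₂) (𝔫 : Ideal R)

include hfg in
theorem part1 (F : Submodule R H) (hF1 : ∃ C : Submodule R H, IsCompl F C)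
    (hF2 : F ⊓ LinearMap.range f = Submodule.map f F₁)
    (u : H₂ →ₗ[R] H₁) (hu : ∀ y : H₂, u y ∈ 𝔫 • (⊤ : Submodule R H₁)) :
    (∃ C : Submodule R H, IsCompl (Submodule.map (shear f g u) F) C) ∧
    (Submodule.map (shear f g u) F) ⊓ LinearMap.range f = Submodule.map f F₁ ∧
    Submodule.baseChange (R ⧸ 𝔫) (Submodule.map (shear f g u) F) =
      Submodule.baseChange (R ⧸ 𝔫) F ∧
    Submodule.map g (Submodule.map (shear f g u) F) = Submodule.map g F := by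
  have hinj : Function.Injective (shear f g u) :=
    Function.LeftInverse.injective (shear_neg_shear f g hfg u)
  have hsurj : Function.Surjective (shear f g u) :=
    Function.RightInverse.surjective (shear_shear_neg f g hfg u)
  refine ⟨?_, ?_, ?_, ?_⟩
  · obtain ⟨C, hC⟩ := hF1
    refine ⟨Submodule.map (shear f g u) C, ?_, ?_⟩
    · rw [disjoint_iff, ← Submodule.map_inf _ hinj, hC.inf_eq_bot, Submodule.map_bot]
    · rw [codisjoint_iff, ← Submodule.map_sup, hC.sup_eq_top, Submodule.map_top,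
        LinearMap.range_eq_top]
      exact hsurj
  · apply le_antisymm
    · rintro y ⟨⟨x, hx, rfl⟩, hy⟩
      have h1 : g (shear f g u x) = 0 := by
        obtain ⟨z, hz⟩ := hy
        rw [← hz, hfg.apply_apply_eq_zero]
      rw [g_shear f g hfg] at h1
      have h2 : shear f g u x = x := by
        rw [shear_apply, h1, map_zero, map_zero, add_zero]
      rw [h2, ← hF2]
      exact ⟨hx, (hfg x).mp h1⟩
    · rintro y hy
      have h1 : y ∈ F ⊓ LinearMap.range f := hF2 ▸ hy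
      obtain ⟨z, -, rfl⟩ := hy
      exact ⟨⟨f z, h1.1, shear_f f g hfg u z⟩, ⟨z, rfl⟩⟩
  · have hkey : ∀ x : H, (1 : R ⧸ 𝔫) ⊗ₜ[R] (shear f g u x) = (1 : R ⧸ 𝔫) ⊗ₜ[R] x := by
      intro x
      rw [shear_apply, tmul_add, (one_tmul_eq_zero_iff 𝔫 _).mpr (map_mem_smul_top f 𝔫 (hu _)),
        add_zero]
    ext t
    rw [mem_baseChange_iff, mem_baseChange_iff]
    constructor
    · rintro ⟨_, ⟨x, hx, rfl⟩, rfl⟩
      exact ⟨x, hx, (hkey x).symm⟩
    · rintro ⟨x, hx, rfl⟩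
      exact ⟨shear f g u x, ⟨x, hx, rfl⟩, hkey x⟩
  · ext y
    constructor
    · rintro ⟨_, ⟨x, hx, rfl⟩, rfl⟩
      exact ⟨x, hx, (g_shear f g hfg u x).symm⟩
    · rintro ⟨x, hx, rfl⟩
      exact ⟨shear f g u x, ⟨x, hx, rfl⟩, g_shear f g hfg u x⟩

include hf hfg in
theorem part2 [Module.Projective R (H₁ ⧸ F₁)] (F : Submodule R H)
    (hF2 : F ⊓ LinearMap.range f = Submodule.map f F₁) (hF4 : Submodule.map g F = F₂)
    (u : H₂ →ₗ[R] H₁) (hu : ∀ y : H₂, u y ∈ 𝔫 • (⊤ : Submodule R H₁)) :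
    Submodule.map (shear f g u) F = F ↔ ∀ y ∈ F₂, u y ∈ 𝔫 • F₁ := by
  constructor
  · intro h y hy
    rw [← hF4] at hy
    obtain ⟨x, hx, rfl⟩ := hy
    have h1 : shear f g u x ∈ F := h ▸ ⟨x, hx, rfl⟩
    rw [shear_apply] at h1
    have h2 : f (u (g x)) ∈ F := by
      have h3 := F.sub_mem h1 hx
      rwa [add_sub_cancel_left] at h3
    have h4 : f (u (g x)) ∈ Submodule.map f F₁ := hF2 ▸ ⟨h2, ⟨_, rfl⟩⟩
    obtain ⟨z, hz, hzf⟩ := h4
    have h5 : u (g x) ∈ F₁ := by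
      rw [← hf hzf]
      exact hz
    exact inf_smul_top_le F₁ 𝔫 ⟨h5, hu _⟩
  · intro h
    have key : ∀ v : H₂ →ₗ[R] H₁, (∀ y ∈ F₂, v y ∈ F₁) → Submodule.map (shear f g v) F ≤ F := by
      rintro v hv _ ⟨x, hx, rfl⟩
      rw [shear_apply]
      have h1 : g x ∈ F₂ := hF4 ▸ ⟨x, hx, rfl⟩
      have h2 : f (v (g x)) ∈ F ⊓ LinearMap.range f := hF2 ▸ ⟨_, hv _ h1, rfl⟩
      exact F.add_mem hx h2.1
    apply le_antisymm
    · exact key u fun y hy => Submodule.smul_le_right (h y hy)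
    · intro x hx
      refine ⟨shear f g (-u) x, ?_, shear_shear_neg f g hfg u x⟩
      refine key (-u) (fun y hy => ?_) ⟨x, hx, rfl⟩
      rw [LinearMap.neg_apply]
      exact F₁.neg_mem (Submodule.smul_le_right (h y hy))

include hfg in
theorem stepA [Module.Projective R (H₂ ⧸ F₂)] [Module.Projective R (H ⧸ LinearMap.range f)]
    (F F' : Submodule R H)
    (hbc : Submodule.baseChange (R ⧸ 𝔫) F' = Submodule.baseChange (R ⧸ 𝔫) F)
    (hF4 : Submodule.map g F = F₂) (hF'4 : Submodule.map g F' = F₂)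
    (y : H₂) (hy : y ∈ F₂) :
    ∃ h ∈ 𝔫 • (⊤ : Submodule R H₁), ∃ x ∈ F, ∃ x' ∈ F', g x = y ∧ x' = x + f h := by
  have hy' := hy
  rw [← hF'4] at hy'
  obtain ⟨x', hx', rfl⟩ := hy'
  obtain ⟨x₁, hx₁, hn₀⟩ := exists_sub_mem_of_baseChange_eq 𝔫 hbc hx'
  have hgx₁ : g x₁ ∈ F₂ := hF4 ▸ ⟨x₁, hx₁, rfl⟩
  have h1 : g (x' - x₁) ∈ F₂ ⊓ 𝔫 • (⊤ : Submodule R H₂) := by
    refine ⟨?_, map_mem_smul_top g 𝔫 hn₀⟩
    rw [map_sub]
    exact F₂.sub_mem hy hgx₁
  have h2 : g (x' - x₁) ∈ 𝔫 • F₂ := inf_smul_top_le F₂ 𝔫 h1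
  rw [← hF4, ← Submodule.map_smul''] at h2
  obtain ⟨z, hz, hgz⟩ := h2
  have hzF : z ∈ F := Submodule.smul_le_right hz
  have hz𝔫 : z ∈ 𝔫 • (⊤ : Submodule R H) := Submodule.smul_mono le_rfl le_top hz
  have h3 : x' - x₁ - z ∈ LinearMap.range f ⊓ 𝔫 • (⊤ : Submodule R H) := by
    refine ⟨(hfg _).mp ?_, Submodule.sub_mem _ hn₀ hz𝔫⟩
    rw [map_sub, hgz, sub_self]
  have h4 : x' - x₁ - z ∈ 𝔫 • LinearMap.range f := inf_smul_top_le _ 𝔫 h3
  rw [← Submodule.map_top, ← Submodule.map_smul''] at h4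
  obtain ⟨h, hh, hfh⟩ := h4
  refine ⟨h, hh, x₁ + z, F.add_mem hx₁ hzF, x', hx', ?_, ?_⟩
  · rw [map_add, hgz, map_sub]
    abel
  · rw [hfh]
    abel

include hg hfg in
theorem part3 [Module.Free R H₂] [Module.Finite R H₂] [Module.Projective R (H₂ ⧸ F₂)]
    (F F' : Submodule R H)
    (hF2 : F ⊓ LinearMap.range f = Submodule.map f F₁)
    (hF'2 : F' ⊓ LinearMap.range f = Submodule.map f F₁)
    (hbc : Submodule.baseChange (R ⧸ 𝔫) F' = Submodule.baseChange (R ⧸ 𝔫) F)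
    (hF4 : Submodule.map g F = F₂) (hF'4 : Submodule.map g F' = F₂) :
    ∃ u : H₂ →ₗ[R] H₁, (∀ y : H₂, u y ∈ 𝔫 • (⊤ : Submodule R H₁)) ∧
      F' = Submodule.map (shear f g u) F := by
  classical
  have : Module.Projective R (H ⧸ LinearMap.range f) :=
    Module.Projective.of_equiv (hfg.linearEquivOfSurjective hg).symm
  -- projection of `H₂` onto `F₂`
  obtain ⟨s, hs⟩ := Module.projective_lifting_property F₂.mkQ LinearMap.id F₂.mkQ_surjective
  have hs' : ∀ q, F₂.mkQ (s q) = q := fun q => LinearMap.congr_fun hs q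
  have hπ : ∀ y : H₂, y - s (F₂.mkQ y) ∈ F₂ := by
    intro y
    rw [← Submodule.Quotient.mk_eq_zero]
    show F₂.mkQ (y - s (F₂.mkQ y)) = 0
    rw [map_sub, hs', sub_self]
  have hπid : ∀ y ∈ F₂, y - s (F₂.mkQ y) = y := by
    intro y hy
    rw [Submodule.mkQ_apply, (Submodule.Quotient.mk_eq_zero F₂).mpr hy, map_zero, sub_zero]
  let b := Module.Free.chooseBasis R H₂
  choose h hh x hx x' hx' hgx hxx' using fun k =>
    stepA f g hfg F₂ 𝔫 F F' hbc hF4 hF'4 (b k - s (F₂.mkQ (b k))) (hπ (b k))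
  let u : H₂ →ₗ[R] H₁ := b.constr R h
  have hu_apply : ∀ y, u y = ∑ k, b.repr y k • h k := by
    intro y
    show (b.constr R h) y = _
    rw [Module.Basis.constr_apply_fintype]
    rfl
  have hu : ∀ y : H₂, u y ∈ 𝔫 • (⊤ : Submodule R H₁) := by
    intro y
    rw [hu_apply]
    exact Submodule.sum_mem _ fun k _ => Submodule.smul_mem _ _ (hh k)
  -- decomposition of elements of `F₂`
  have hdec : ∀ y ∈ F₂, y = ∑ k, b.repr y k • (b k - s (F₂.mkQ (b k))) := by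
    intro y hy
    have h1 : y - s (F₂.mkQ y) = ∑ k, b.repr y k • (b k - s (F₂.mkQ (b k))) := by
      conv_lhs => rw [← b.sum_repr y]
      simp only [map_sum, map_smul, smul_sub, Finset.sum_sub_distrib]
    rw [← h1, hπid y hy]
  have hfF : Submodule.map f F₁ ≤ F := hF2 ▸ inf_le_left
  have hfF' : Submodule.map f F₁ ≤ F' := hF'2 ▸ inf_le_left
  -- for `y ∈ F₂`: elements `X ∈ F`, `X' ∈ F'` over `y` with `X' = shear X`
  have hXX' : ∀ y ∈ F₂, ∃ X ∈ F, ∃ X' ∈ F', g X = y ∧ X' = shear f g u X := by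
    intro y hy
    refine ⟨∑ k, b.repr y k • x k, Submodule.sum_mem _ fun k _ => Submodule.smul_mem _ _ (hx k),
      ∑ k, b.repr y k • x' k, Submodule.sum_mem _ fun k _ => Submodule.smul_mem _ _ (hx' k),
      ?_, ?_⟩
    · rw [map_sum]
      conv_rhs => rw [hdec y hy]
      apply Finset.sum_congr rfl
      intro k _
      rw [map_smul, hgx]
    · have hg1 : g (∑ k, b.repr y k • x k) = y := by
        rw [map_sum]
        conv_rhs => rw [hdec y hy]
        apply Finset.sum_congr rfl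
        intro k _
        rw [map_smul, hgx]
      rw [shear_apply, hg1, hu_apply, map_sum, ← Finset.sum_add_distrib]
      apply Finset.sum_congr rfl
      intro k _
      rw [hxx', smul_add, map_smul]
  refine ⟨u, hu, le_antisymm ?_ ?_⟩
  · intro z' hz'
    have hy : g z' ∈ F₂ := hF'4 ▸ ⟨z', hz', rfl⟩
    obtain ⟨X, hX, X', hX', hgX, hXX⟩ := hXX' (g z') hy
    have h1 : z' - X' ∈ F' ⊓ LinearMap.range f := by
      refine ⟨F'.sub_mem hz' hX', (hfg _).mp ?_⟩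
      rw [map_sub, hXX, g_shear f g hfg, hgX, sub_self]
    rw [hF'2] at h1
    obtain ⟨w, hw, hwf⟩ := h1
    refine ⟨f w + X, F.add_mem (hfF ⟨w, hw, rfl⟩) hX, ?_⟩
    rw [map_add, shear_f f g hfg, ← hXX, hwf]
    abel
  · rintro _ ⟨z, hz, rfl⟩
    have hy : g z ∈ F₂ := hF4 ▸ ⟨z, hz, rfl⟩
    obtain ⟨X, hX, X', hX', hgX, hXX⟩ := hXX' (g z) hy
    have h1 : z - X ∈ F ⊓ LinearMap.range f := by
      refine ⟨F.sub_mem hz hX, (hfg _).mp ?_⟩
      rw [map_sub, hgX, sub_self]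
    rw [hF2] at h1
    obtain ⟨w, hw, hwf⟩ := h1
    have h2 : shear f g u z = f w + X' := by
      have h3 : z = f w + X := by
        rw [hwf]
        abel
      rw [h3, map_add, shear_f f g hfg, ← hXX]
    rw [h2]
    exact F'.add_mem (hfF' ⟨w, hw, rfl⟩) hX'

end Main

section Final

universe u v

theorem main16420
    (R : Type u) [CommRing R] [IsArtinianRing R] [IsLocalRing R]
    (H₁ : Type v) (H : Type v) (H₂ : Type v)
    [AddCommGroup H₁] [Module R H₁] [AddCommGroup H] [Module R H] [AddCommGroup H₂] [Module R H₂]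
    [Module.Free R H₁] [Module.Finite R H₁] [Module.Free R H] [Module.Finite R H]
    [Module.Free R H₂] [Module.Finite R H₂]
    (f : H₁ →ₗ[R] H) (g : H →ₗ[R] H₂) (hf : Function.Injective f) (hg : Function.Surjective g)
    (hfg : Function.Exact f g)
    (F₁ : Submodule R H₁) (F₂ : Submodule R H₂) [Module.Free R (H₁ ⧸ F₁)] [Module.Free R (H₂ ⧸ F₂)]
    (𝔫 : Ideal R) (hn : 𝔫 * 𝔫 = ⊥)
    (Fb : Submodule (R ⧸ 𝔫) ((R ⧸ 𝔫) ⊗[R] H))
    [Module.Free (R ⧸ 𝔫) (((R ⧸ 𝔫) ⊗[R] H) ⧸ Fb)]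
    (h1 : Fb ⊓ LinearMap.range (f.baseChange (R ⧸ 𝔫)) =
      Submodule.map (f.baseChange (R ⧸ 𝔫)) (F₁.baseChange (R ⧸ 𝔫)))
    (h2 : Submodule.map (g.baseChange (R ⧸ 𝔫)) Fb = F₂.baseChange (R ⧸ 𝔫))
    (F F' : Submodule R H)
    (hF : (∃ C : Submodule R H, IsCompl (F) C) ∧
      (F) ⊓ LinearMap.range f = Submodule.map f F₁ ∧
      Submodule.baseChange (R ⧸ 𝔫) (F) = Fb ∧ Submodule.map g (F) = F₂)
    (hF' : (∃ C : Submodule R H, IsCompl (F') C) ∧
      (F') ⊓ LinearMap.range f = Submodule.map f F₁ ∧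
      Submodule.baseChange (R ⧸ 𝔫) (F') = Fb ∧ Submodule.map g (F') = F₂) :
    (∀ u : H₂ →ₗ[R] H₁, (∀ y : H₂, u y ∈ 𝔫 • (⊤ : Submodule R H₁)) →
      (∃ C : Submodule R H, IsCompl (Submodule.map (LinearMap.id + f ∘ₗ u ∘ₗ g) F) C) ∧
      (Submodule.map (LinearMap.id + f ∘ₗ u ∘ₗ g) F) ⊓ LinearMap.range f = Submodule.map f F₁ ∧
      Submodule.baseChange (R ⧸ 𝔫) (Submodule.map (LinearMap.id + f ∘ₗ u ∘ₗ g) F) = Fb ∧ Submodule.map g (Submodule.map (LinearMap.id + f ∘ₗ u ∘ₗ g) F) = F₂) ∧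
    (∀ u : H₂ →ₗ[R] H₁, (∀ y : H₂, u y ∈ 𝔫 • (⊤ : Submodule R H₁)) →
      (Submodule.map (LinearMap.id + f ∘ₗ u ∘ₗ g) F = F ↔ ∀ y ∈ F₂, u y ∈ 𝔫 • F₁)) ∧
    (∃ u : H₂ →ₗ[R] H₁, (∀ y : H₂, u y ∈ 𝔫 • (⊤ : Submodule R H₁)) ∧
      F' = Submodule.map (LinearMap.id + f ∘ₗ u ∘ₗ g) F) := by
  obtain ⟨hF1, hF2, hF3, hF4⟩ := hF
  obtain ⟨hF'1, hF'2, hF'3, hF'4⟩ := hF'
  refine ⟨?_, ?_, ?_⟩
  · intro u hu
    obtain ⟨a1, a2, a3, a4⟩ := part1 f g hfg F₁ 𝔫 F hF1 hF2 u hu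
    exact ⟨a1, a2, a3.trans hF3, a4.trans hF4⟩
  · intro u hu
    exact part2 f g hf hfg F₁ F₂ 𝔫 F hF2 hF4 u hu
  · exact part3 f g hg hfg F₁ F₂ 𝔫 F F' hF2 hF'2 (hF'3.trans hF3.symm) hF4 hF'4

end Final

end Groth.Agent.Lib.SummandLiftH1
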