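import Mathlib
import Groth.Agent.Lib.SummandLift_helper1

/-!
Helper library (helper1): existence of a lift of a direct summand along an ideal, compatibly with a
short exact sequence of free modules.  APPEND-ONLY once landed.
-/

set_option autoImplicit false

namespace Groth.Agent.Lib.SummandLift2H1

open TensorProduct Groth.Agent.Lib.SummandLiftH1

universe u v

section Aux

variable {R : Type*} [CommRing R] {M : Type*} [AddCommGroup M] [Module R M]

/-- A submodule with projective quotient is the image of an idempotent-like retraction. -/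
theorem exists_proj (N : Submodule R M) [Module.Projective R (M ⧸ N)] :
    ∃ p : M →ₗ[R] M, (∀ x, p x ∈ N) ∧ ∀ x ∈ N, p x = x := by
  obtain ⟨s, hs⟩ := Module.projective_lifting_property N.mkQ LinearMap.id N.mkQ_surjective
  have hs' : ∀ q, N.mkQ (s q) = q := fun q => LinearMap.congr_fun hs q
  let π : M →ₗ[R] M := LinearMap.id - s ∘ₗ N.mkQ
  refine ⟨π, ?_, ?_⟩
  · intro x
    rw [← Submodule.Quotient.mk_eq_zero]
    show N.mkQ (x - s (N.mkQ x)) = 0
    rw [map_sub, hs', sub_self]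
  · intro x hx
    show x - s (N.mkQ x) = x
    rw [Submodule.mkQ_apply, (Submodule.Quotient.mk_eq_zero N).mpr hx, map_zero, sub_zero]

end Aux

theorem main16419
    (R : Type u) [CommRing R] [IsArtinianRing R] [IsLocalRing R]
    (H₁ : Type v) (H : Type v) (H₂ : Type v)
    [AddCommGroup H₁] [Module R H₁] [AddCommGroup H] [Module R H] [AddCommGroup H₂] [Module R H₂]
    [Module.Free R H₁] [Module.Finite R H₁] [Module.Free R H] [Module.Finite R H]
    [Module.Free R H₂] [Module.Finite R H₂]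
    (f : H₁ →ₗ[R] H) (g : H →ₗ[R] H₂) (hf : Function.Injective f) (hg : Function.Surjective g)
    (hfg : Function.Exact f g)
    (F₁ : Submodule R H₁) (F₂ : Submodule R H₂) [Module.Free R (H₁ ⧸ F₁)] [Module.Free R (H₂ ⧸ F₂)]
    (𝔫 : Ideal R) (hn : 𝔫 * 𝔫 = ⊥)
    (Fb : Submodule (R ⧸ 𝔫) ((R ⧸ 𝔫) ⊗[R] H))
    [Module.Free (R ⧸ 𝔫) (((R ⧸ 𝔫) ⊗[R] H) ⧸ Fb)]
    (h1 : Fb ⊓ LinearMap.range (f.baseChange (R ⧸ 𝔫)) =
      Submodule.map (f.baseChange (R ⧸ 𝔫)) (F₁.baseChange (R ⧸ 𝔫)))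
    (h2 : Submodule.map (g.baseChange (R ⧸ 𝔫)) Fb = F₂.baseChange (R ⧸ 𝔫)) :
    ∃ F : Submodule R H, (∃ C : Submodule R H, IsCompl F C) ∧
      F ⊓ LinearMap.range f = Submodule.map f F₁ ∧
      F.baseChange (R ⧸ 𝔫) = Fb ∧ Submodule.map g F = F₂ := by
  classical
  obtain ⟨p₁, hp₁F, hp₁id⟩ := exists_proj F₁
  obtain ⟨p₂, hp₂F, hp₂id⟩ := exists_proj F₂
  let b := Module.Free.chooseBasis R H₂
  -- every element of `F₂` lifts to an element of `H` whose reduction lies in `Fb`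
  have key : ∀ y ∈ F₂, ∃ x : H, g x = y ∧ (1 : R ⧸ 𝔫) ⊗ₜ[R] x ∈ Fb := by
    intro y hy
    have hy1 : (1 : R ⧸ 𝔫) ⊗ₜ[R] y ∈ F₂.baseChange (R ⧸ 𝔫) :=
      Submodule.tmul_mem_baseChange_of_mem _ hy
    rw [← h2] at hy1
    obtain ⟨t, ht, hty⟩ := hy1
    obtain ⟨x₀, rfl⟩ := exists_one_tmul_eq 𝔫 t
    rw [LinearMap.baseChange_tmul] at hty
    have h3 : g x₀ - y ∈ 𝔫 • (⊤ : Submodule R H₂) := by
      rw [← one_tmul_eq_zero_iff 𝔫, tmul_sub, hty, sub_self]
    have h4 : 𝔫 • (⊤ : Submodule R H₂) = Submodule.map g (𝔫 • (⊤ : Submodule R H)) := by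
      rw [Submodule.map_smul'', Submodule.map_top, LinearMap.range_eq_top.mpr hg]
    rw [h4] at h3
    obtain ⟨z, hz, hgz⟩ := h3
    refine ⟨x₀ - z, ?_, ?_⟩
    · rw [map_sub, hgz, sub_sub_cancel]
    · have hz0 : (1 : R ⧸ 𝔫) ⊗ₜ[R] z = 0 := (one_tmul_eq_zero_iff 𝔫 z).mpr hz
      rw [tmul_sub, hz0, sub_zero]
      exact ht
  choose x hxg hxF using fun k => key (p₂ (b k)) (hp₂F (b k))
  let lam : H₂ →ₗ[R] H := b.constr R x
  have hlam_b : ∀ k, lam (b k) = x k := fun k => b.constr_basis R x k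
  have hglam : g ∘ₗ lam = p₂ := by
    apply b.ext
    intro k
    rw [LinearMap.comp_apply, hlam_b, hxg]
  have hglam' : ∀ y, g (lam y) = p₂ y := fun y => LinearMap.congr_fun hglam y
  have hlamF : ∀ y, (1 : R ⧸ 𝔫) ⊗ₜ[R] lam y ∈ Fb := by
    intro y
    have hspan : (⊤ : Submodule R H₂) ≤
        Submodule.comap ((TensorProduct.mk R (R ⧸ 𝔫) H 1) ∘ₗ lam) (Fb.restrictScalars R) := by
      rw [← b.span_eq, Submodule.span_le]
      rintro _ ⟨k, rfl⟩
      show (1 : R ⧸ 𝔫) ⊗ₜ[R] lam (b k) ∈ Fb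
      rw [hlam_b]
      exact hxF k
    exact hspan Submodule.mem_top
  let F : Submodule R H := Submodule.map f F₁ ⊔ Submodule.map lam F₂
  have hF2 : Submodule.map g F = F₂ := by
    apply le_antisymm
    · rintro _ ⟨x', hx', rfl⟩
      obtain ⟨a, ha, c, hc, rfl⟩ := Submodule.mem_sup.mp hx'
      obtain ⟨a', ha', rfl⟩ := ha
      obtain ⟨y, hy, rfl⟩ := hc
      rw [map_add, hfg.apply_apply_eq_zero, zero_add, hglam']
      exact hp₂F y
    · intro y hy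
      refine ⟨lam y, Submodule.mem_sup_right ⟨y, hy, rfl⟩, ?_⟩
      rw [hglam', hp₂id y hy]
  have hF1 : F ⊓ LinearMap.range f = Submodule.map f F₁ := by
    apply le_antisymm
    · rintro x' ⟨hx', ⟨z, rfl⟩⟩
      obtain ⟨a, ha, c, hc, hac⟩ := Submodule.mem_sup.mp hx'
      obtain ⟨a', ha', rfl⟩ := ha
      obtain ⟨y, hy, rfl⟩ := hc
      have h0 : g (f a' + lam y) = 0 := by rw [hac, hfg.apply_apply_eq_zero]
      rw [map_add, hfg.apply_apply_eq_zero, zero_add, hglam', hp₂id y hy] at h0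
      rw [h0, map_zero, add_zero] at hac
      rw [← hac]
      exact ⟨a', ha', rfl⟩
    · rintro _ ⟨a, ha, rfl⟩
      exact ⟨Submodule.mem_sup_left ⟨a, ha, rfl⟩, ⟨a, rfl⟩⟩
  have hex : Function.Exact (f.baseChange (R ⧸ 𝔫)) (g.baseChange (R ⧸ 𝔫)) := by
    rw [LinearMap.baseChange_eq_ltensor, LinearMap.baseChange_eq_ltensor]
    exact lTensor_exact (R ⧸ 𝔫) hfg hg
  have hF3 : F.baseChange (R ⧸ 𝔫) = Fb := by
    apply le_antisymm
    · intro t ht
      obtain ⟨x', hx', rfl⟩ := (mem_baseChange_iff 𝔫 F t).mp ht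
      obtain ⟨a, ha, c, hc, rfl⟩ := Submodule.mem_sup.mp hx'
      obtain ⟨a', ha', rfl⟩ := ha
      obtain ⟨y, hy, rfl⟩ := hc
      rw [tmul_add]
      refine Fb.add_mem ?_ (hlamF y)
      have h5 : (1 : R ⧸ 𝔫) ⊗ₜ[R] f a' ∈
          Submodule.map (f.baseChange (R ⧸ 𝔫)) (F₁.baseChange (R ⧸ 𝔫)) :=
        ⟨(1 : R ⧸ 𝔫) ⊗ₜ[R] a', Submodule.tmul_mem_baseChange_of_mem _ ha',
          LinearMap.baseChange_tmul _ _ _⟩
      rw [← h1] at h5
      exact h5.1
    · intro t ht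
      obtain ⟨x', rfl⟩ := exists_one_tmul_eq 𝔫 t
      have h6 : g.baseChange (R ⧸ 𝔫) ((1 : R ⧸ 𝔫) ⊗ₜ[R] x') ∈ F₂.baseChange (R ⧸ 𝔫) := by
        rw [← h2]
        exact ⟨_, ht, rfl⟩
      rw [LinearMap.baseChange_tmul] at h6
      obtain ⟨y, hy, hyx⟩ := (mem_baseChange_iff 𝔫 F₂ _).mp h6
      have h7 : (1 : R ⧸ 𝔫) ⊗ₜ[R] (x' - lam y) ∈ Fb := by
        rw [tmul_sub]
        exact Fb.sub_mem ht (hlamF y)
      have h8 : g.baseChange (R ⧸ 𝔫) ((1 : R ⧸ 𝔫) ⊗ₜ[R] (x' - lam y)) = 0 := by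
        rw [LinearMap.baseChange_tmul, map_sub, hglam', hp₂id y hy, tmul_sub, hyx, sub_self]
      obtain ⟨s, hs⟩ := (hex _).mp h8
      have h9 : (1 : R ⧸ 𝔫) ⊗ₜ[R] (x' - lam y) ∈
          Submodule.map (f.baseChange (R ⧸ 𝔫)) (F₁.baseChange (R ⧸ 𝔫)) := by
        rw [← h1]
        exact ⟨h7, ⟨s, hs⟩⟩
      obtain ⟨s', hs', hs'eq⟩ := h9
      obtain ⟨a, ha, rfl⟩ := (mem_baseChange_iff 𝔫 F₁ s').mp hs'
      rw [LinearMap.baseChange_tmul] at hs'eq
      have h10 : (1 : R ⧸ 𝔫) ⊗ₜ[R] x' = (1 : R ⧸ 𝔫) ⊗ₜ[R] (f a + lam y) := by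
        rw [tmul_add, hs'eq, tmul_sub, sub_add_cancel]
      rw [h10]
      exact Submodule.tmul_mem_baseChange_of_mem _
        (Submodule.add_mem_sup ⟨a, ha, rfl⟩ ⟨y, hy, rfl⟩)
  have hF0 : ∃ C : Submodule R H, IsCompl F C := by
    obtain ⟨τ₀, hτ₀⟩ := Module.projective_lifting_property g LinearMap.id hg
    have hτ₀' : ∀ y, g (τ₀ y) = y := fun y => LinearMap.congr_fun hτ₀ y
    let τ : H₂ →ₗ[R] H := lam + τ₀ ∘ₗ (LinearMap.id - p₂)
    have hτdef : ∀ y, τ y = lam y + τ₀ (y - p₂ y) := fun y => rfl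
    have hτg : ∀ y, g (τ y) = y := by
      intro y
      rw [hτdef, map_add, hglam', hτ₀', add_sub_cancel]
    have hτF : ∀ y ∈ F₂, τ y = lam y := by
      intro y hy
      rw [hτdef, hp₂id y hy, sub_self, map_zero, add_zero]
    refine ⟨Submodule.map f (LinearMap.ker p₁) ⊔ Submodule.map τ (LinearMap.ker p₂), ?_, ?_⟩
    · rw [Submodule.disjoint_def]
      intro x' hxF' hxC
      obtain ⟨_, ⟨a, ha, rfl⟩, _, ⟨y, hy, rfl⟩, hxe⟩ := Submodule.mem_sup.mp hxF'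
      obtain ⟨_, ⟨c, hc, rfl⟩, _, ⟨w, hw, rfl⟩, hxe'⟩ := Submodule.mem_sup.mp hxC
      have hgy : g x' = y := by
        rw [← hxe, map_add, hfg.apply_apply_eq_zero, zero_add, hglam', hp₂id y hy]
      have hgw : g x' = w := by
        rw [← hxe', map_add, hfg.apply_apply_eq_zero, zero_add, hτg]
      have hyw : y = w := hgy.symm.trans hgw
      have hy0 : y = 0 := by
        have hw' : p₂ w = 0 := LinearMap.mem_ker.mp hw
        rw [← hp₂id y hy, hyw, hw']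
      have hw0 : w = 0 := by rw [← hyw, hy0]
      rw [hy0, map_zero, add_zero] at hxe
      rw [hw0, map_zero, add_zero] at hxe'
      have hac : a = c := hf (hxe.trans hxe'.symm)
      have ha0 : a = 0 := by
        have hc' : p₁ c = 0 := LinearMap.mem_ker.mp hc
        rw [← hp₁id a ha, hac, hc']
      rw [← hxe, ha0, map_zero]
    · rw [codisjoint_iff, eq_top_iff]
      intro x' _
      obtain ⟨z, hz⟩ := (hfg (x' - τ (g x'))).mp (by rw [map_sub, hτg, sub_self])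
      have hτ2 : τ (p₂ (g x')) = lam (p₂ (g x')) := hτF _ (hp₂F _)
      have hx : x' = (f (p₁ z) + lam (p₂ (g x'))) +
          (f (z - p₁ z) + τ (g x' - p₂ (g x'))) := by
        rw [← hτ2]
        simp only [map_sub]
        rw [hz]
        abel
      rw [hx]
      refine Submodule.add_mem_sup
        (Submodule.add_mem_sup ⟨p₁ z, hp₁F z, rfl⟩ ⟨p₂ (g x'), hp₂F _, rfl⟩)
        (Submodule.add_mem_sup ⟨z - p₁ z, ?_, rfl⟩ ⟨g x' - p₂ (g x'), ?_, rfl⟩)
      · exact LinearMap.mem_ker.mpr (by rw [map_sub, hp₁id _ (hp₁F z), sub_self])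
      · exact LinearMap.mem_ker.mpr (by rw [map_sub, hp₂id _ (hp₂F _), sub_self])
  exact ⟨F, hF0, hF1, hF3, hF2⟩

end Groth.Agent.Lib.SummandLift2H1
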