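import Mathlib
import Groth.Agent.Lib.SuppAcyc_helper2
import Groth.Agent.Lib.DeltaComp_helper2
import Groth.Agent.Lib.ModSite1_helper8

/-!
# Local cohomology sheaves commute with restriction of scalars
-/

set_option autoImplicit false
universe u
open CategoryTheory Limits Opposite Abelian

namespace Groth.Agent.Lib.Supp
open ModSite Groth.Agent.Lib.ModSiteH8

variable {C : Type u} [SmallCategory C] {J : GrothendieckTopology C}

/-- a morphism of sheaves of modules which is surjective on sections is an epimorphism -/
lemma epi_of_sections_surjective (O : Sheaf J CommRingCat.{u}) {M N : Mod O} (φ : M ⟶ N)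
    (h : ∀ W : C, Function.Surjective (φ.val.app (op W))) : Epi φ := by
  haveI : (SheafOfModules.toSheaf (ringSh O)).ReflectsEpimorphisms :=
    Functor.reflectsEpimorphisms_of_faithful _
  apply (SheafOfModules.toSheaf (ringSh O)).epi_of_epi_map
  rw [← Sheaf.isLocallySurjective_iff_epi']
  apply Presheaf.isLocallySurjective_of_surjective
  intro W
  exact h W.unop

section Res

variable {O O' : Sheaf J CommRingCat.{u}} (φ : O ⟶ O') (U : C)

/-- restriction of scalars along `φ` -/
noncomputable abbrev resφ : Mod O' ⥤ Mod O :=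
  SheafOfModules.restrictScalars ((sheafCompose J (forget₂ CommRingCat.{u} RingCat.{u})).map φ)

instance : PreservesFiniteLimits (resφ φ) := by
  haveI := (restrictScalars_all
    ((sheafCompose J (forget₂ CommRingCat.{u} RingCat.{u})).map φ)).1
  exact PreservesLimitsOfSize.preservesFiniteLimits _

instance : PreservesFiniteColimits (resφ φ) := by
  haveI := (restrictScalars_all
    ((sheafCompose J (forget₂ CommRingCat.{u} RingCat.{u})).map φ)).2.1
  exact PreservesColimitsOfSize.preservesFiniteColimits _

variable [HasPushOver O U] [HasPushOver O' U]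

lemma restr_map_res_sectOnι (M : Mod O') :
    (restr O U).map ((resφ φ).map ((sectOnι O' U).app M)) = 0 := by
  rw [restr_map_eq_zero_iff]
  intro V k x
  exact (restr_map_eq_zero_iff O' U ((sectOnι O' U).app M)).1 (restr_map_sectOnι O' U M) k x

/-- the comparison `res (Γ_Z M) ⟶ Γ_Z (res M)` -/
noncomputable def resComparison (M : Mod O') :
    (resφ φ).obj ((sectOn O' U).obj M) ⟶ (sectOn O U).obj ((resφ φ).obj M) :=
  sectOnLift O U ((resφ φ).map ((sectOnι O' U).app M)) (restr_map_res_sectOnι φ U M)

lemma resComparison_ι (M : Mod O') :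
    resComparison φ U M ≫ (sectOnι O U).app ((resφ φ).obj M) =
      (resφ φ).map ((sectOnι O' U).app M) :=
  sectOnLift_ι O U _ _

instance (M : Mod O') : Mono (resComparison φ U M) := by
  haveI : Mono ((resφ φ).map ((sectOnι O' U).app M)) := inferInstance
  haveI : Mono (resComparison φ U M ≫ (sectOnι O U).app ((resφ φ).obj M)) := by
    rw [resComparison_ι]
    infer_instance
  exact mono_of_mono _ ((sectOnι O U).app ((resφ φ).obj M))

instance (M : Mod O') : Epi (resComparison φ U M) := by
  apply epi_of_sections_surjective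
  intro W z
  obtain ⟨y', hy'⟩ := exists_sectOn_of_vanish O' U M
    (((sectOnι O U).app ((resφ φ).obj M)).val.app (op W) z)
    (fun V g hV => sectOnι_map_eq_zero O U ((resφ φ).obj M) z g hV)
  refine ⟨y', ?_⟩
  apply sectOnι_app_injective O U W ((resφ φ).obj M)
  have h1 := congrArg (fun f : (resφ φ).obj ((sectOn O' U).obj M) ⟶ (resφ φ).obj M =>
    f.val.app (op W) y') (resComparison_ι φ U M)
  exact h1.trans hy'

instance (M : Mod O') : IsIso (resComparison φ U M) := isIso_of_mono_of_epi _

/-- `Γ_Z` commutes with restriction of scalars -/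
noncomputable def resSectOnIso : sectOn O' U ⋙ resφ φ ≅ resφ φ ⋙ sectOn O U :=
  NatIso.ofComponents (fun M => asIso (resComparison φ U M)) (by
    intro M M' f
    rw [← cancel_mono ((sectOnι O U).app ((resφ φ).obj M'))]
    have h1 : (sectOn O U).map ((resφ φ).map f) ≫ (sectOnι O U).app ((resφ φ).obj M') =
        (sectOnι O U).app ((resφ φ).obj M) ≫ (resφ φ).map f :=
      (sectOnι O U).naturality ((resφ φ).map f)
    have h2 : (sectOn O' U).map f ≫ (sectOnι O' U).app M' = (sectOnι O' U).app M ≫ f :=
      (sectOnι O' U).naturality f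
    simp only [Functor.comp_map, asIso_hom, Category.assoc, resComparison_ι, h1]
    rw [reassoc_of% (resComparison_ι φ U M), ← Functor.map_comp, ← Functor.map_comp, h2])

/-- S12892 -/
theorem nonempty_HZsh_res_iso [HasInjectiveResolutions (Mod O)]
    [HasInjectiveResolutions (Mod O')] (q : ℕ) :
    Nonempty (HZsh O' U q ⋙ resφ φ ≅ resφ φ ⋙ HZsh O U q) := by
  haveI := Groth.Agent.Lib.FunctorialInjective.isGrothendieckAbelian_sheafOfModules J (ringSh O)
  haveI := Groth.Agent.Lib.FunctorialInjective.isGrothendieckAbelian_sheafOfModules J (ringSh O')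
  haveI : EnoughInjectives (Mod O) := inferInstance
  haveI : EnoughInjectives (Mod O') := inferInstance
  exact DeltaComp.nonempty_rightDerived_baseChange (sectOn O' U) (sectOn O U) (resφ φ) (resφ φ)
    (resSectOnIso φ U)
    (fun I hI n => acyclic_sectOn_of_totallyAcyclic O U ((resφ φ).obj I)
      (ModFree.totallyAcyclic_toSheaf_of_injective (ringSh O') I) (n + 1) (Nat.succ_pos n)) q

end Res

end Groth.Agent.Lib.Supp
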