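import Mathlib
import Groth.Agent.Lib.SuppRes_helper2
import Groth.Agent.Lib.ModSite20_helper8

/-!
# Local cohomology sheaves commute with localisation
-/

set_option autoImplicit false
universe u
open CategoryTheory Limits Opposite Abelian

namespace Groth.Agent.Lib.Supp
open ModSite Groth.Agent.Lib.ModSiteH8

variable {C : Type u} [SmallCategory C] {J : GrothendieckTopology C}
variable (O : Sheaf J CommRingCat.{u}) [HasBinaryProducts C] (U X : C)
  [HasPushOver (O.over X) (Over.mk (Limits.prod.snd : U ⨯ X ⟶ X))]

/-- the object `U × X ⟶ X` of `C/X` -/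
noncomputable abbrev UX : Over X := Over.mk (Limits.prod.snd : U ⨯ X ⟶ X)

lemma restr_map_restr_sectOnι (M : Mod O) :
    (restr (O.over X) (UX U X)).map ((restr O X).map ((sectOnι O U).app M)) = 0 := by
  rw [restr_map_eq_zero_iff]
  intro V k x
  exact (restr_map_eq_zero_iff O U ((sectOnι O U).app M)).1 (restr_map_sectOnι O U M)
    (k.left ≫ (Limits.prod.fst : U ⨯ X ⟶ U)) x

/-- the comparison `(Γ_Z M)|_X ⟶ Γ_{Z/X}(M|_X)` -/
noncomputable def locComparison (M : Mod O) :
    (restr O X).obj ((sectOn O U).obj M) ⟶ (sectOn (O.over X) (UX U X)).obj ((restr O X).obj M) :=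
  sectOnLift (O.over X) (UX U X) ((restr O X).map ((sectOnι O U).app M))
    (restr_map_restr_sectOnι O U X M)

lemma locComparison_ι (M : Mod O) :
    locComparison O U X M ≫ (sectOnι (O.over X) (UX U X)).app ((restr O X).obj M) =
      (restr O X).map ((sectOnι O U).app M) :=
  sectOnLift_ι (O.over X) (UX U X) _ _

instance (M : Mod O) : Mono (locComparison O U X M) := by
  haveI : Mono ((restr O X).map ((sectOnι O U).app M)) := inferInstance
  haveI : Mono (locComparison O U X M ≫
      (sectOnι (O.over X) (UX U X)).app ((restr O X).obj M)) := by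
    rw [locComparison_ι]
    infer_instance
  exact mono_of_mono _ ((sectOnι (O.over X) (UX U X)).app ((restr O X).obj M))

instance (M : Mod O) : Epi (locComparison O U X M) := by
  apply epi_of_sections_surjective
  intro W z
  obtain ⟨y', hy'⟩ := exists_sectOn_of_vanish O U M (W := W.left)
    (((sectOnι (O.over X) (UX U X)).app ((restr O X).obj M)).val.app (op W) z)
    (fun V g hV => by
      obtain ⟨k⟩ := hV
      exact sectOnι_map_eq_zero (O.over X) (UX U X) ((restr O X).obj M) z
        (V := Over.mk (g ≫ W.hom)) (Over.homMk g rfl)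
        ⟨Over.homMk (prod.lift k (g ≫ W.hom)) (prod.lift_snd _ _)⟩)
  refine ⟨y', ?_⟩
  apply sectOnι_app_injective (O.over X) (UX U X) W ((restr O X).obj M)
  have h1 := congrArg (fun f : (restr O X).obj ((sectOn O U).obj M) ⟶ (restr O X).obj M =>
    f.val.app (op W) y') (locComparison_ι O U X M)
  exact h1.trans hy'

instance (M : Mod O) : IsIso (locComparison O U X M) := isIso_of_mono_of_epi _

/-- `Γ_Z` commutes with localisation -/
noncomputable def locSectOnIso :
    sectOn O U ⋙ restr O X ≅ restr O X ⋙ sectOn (O.over X) (UX U X) :=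
  NatIso.ofComponents (fun M => asIso (locComparison O U X M)) (by
    intro M M' f
    rw [← cancel_mono ((sectOnι (O.over X) (UX U X)).app ((restr O X).obj M'))]
    have h1 : (sectOn (O.over X) (UX U X)).map ((restr O X).map f) ≫
        (sectOnι (O.over X) (UX U X)).app ((restr O X).obj M') =
        (sectOnι (O.over X) (UX U X)).app ((restr O X).obj M) ≫ (restr O X).map f :=
      (sectOnι (O.over X) (UX U X)).naturality ((restr O X).map f)
    have h2 : (sectOn O U).map f ≫ (sectOnι O U).app M' = (sectOnι O U).app M ≫ f :=
      (sectOnι O U).naturality f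
    simp only [Functor.comp_map, asIso_hom, Category.assoc, locComparison_ι, h1]
    rw [reassoc_of% (locComparison_ι O U X M), ← Functor.map_comp, ← Functor.map_comp, h2])

/-- S12888 -/
theorem nonempty_HZsh_restr_iso [HasInjectiveResolutions (Mod O)]
    [HasInjectiveResolutions (Mod (O.over X))] (q : ℕ) :
    Nonempty (HZsh O U q ⋙ restr O X ≅ restr O X ⋙ HZsh (O.over X) (UX U X) q) := by
  haveI := Groth.Agent.Lib.FunctorialInjective.isGrothendieckAbelian_sheafOfModules J (ringSh O)
  haveI := Groth.Agent.Lib.FunctorialInjective.isGrothendieckAbelian_sheafOfModules (J.over X)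
    (ringSh (O.over X))
  haveI : EnoughInjectives (Mod O) := inferInstance
  haveI : EnoughInjectives (Mod (O.over X)) := inferInstance
  exact DeltaComp.nonempty_rightDerived_baseChange (sectOn O U) (sectOn (O.over X) (UX U X))
    (restr O X) (restr O X) (locSectOnIso O U X)
    (fun I hI n => by
      haveI : Injective ((restr O X).obj I) := (restr O X).injective_obj I
      exact Functor.isZero_rightDerived_obj_injective_succ _ n _) q

end Groth.Agent.Lib.Supp
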