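import Mathlib
import Groth.Prelude.Def_ExtSupp
import Groth.Agent.Lib.SuppAdj_helper2
import Groth.Agent.Lib.SuppLoc_helper2
import Groth.Agent.Lib.ExtCompare_helper2
import Groth.Agent.Lib.ModSite20_helper8
import Groth.Agent.Lib.ModSite13_helper8
import Groth.Agent.Lib.SheafOfModulesGrothendieck_helper2

/-!
# Excision for Ext with supports on a ringed site

If `U`, `V` cover the site and `V` is subterminal then
`Ext^i(M/M_U, N) ≃ Ext^i_{O|V}((M|_V)/(M|_V)_{U×V}, N|_V)`.  The main point is the gluing of a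
morphism `M|_V ⟶ F|_V` vanishing on `U × V` with the zero morphism on `U`.
-/

set_option autoImplicit false
universe w w' u
open CategoryTheory Limits Opposite Abelian

namespace Groth.Agent.Lib.SuppExc
open ModSite Groth.Agent.Lib.ModSiteH8 Groth.Agent.Lib.FunctorialInjective Groth.Agent.Lib.Supp

variable {C : Type u} [SmallCategory C] {J : GrothendieckTopology C}
variable (O : Sheaf J CommRingCat.{u})

section Glue

variable {U V : C} {M F : Mod O}

/-- the underlying morphism of abelian presheaves on `C/V` of a morphism `M|_V ⟶ F|_V` -/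
noncomputable def psi0 (ψ : (restr O V).obj M ⟶ (restr O V).obj F) :
    (Over.forget V).op ⋙ M.val.presheaf ⟶ (Over.forget V).op ⋙ F.val.presheaf :=
  (PresheafOfModules.toPresheaf _).map ψ.val

lemma psi0_app_apply (ψ : (restr O V).obj M ⟶ (restr O V).obj F) (Y : (Over V)ᵒᵖ)
    (x : M.val.obj (op Y.unop.left)) :
    ((psi0 O ψ).app Y).hom x = (ψ.val.app Y).hom x := rfl

lemma presheafHom_map_app' {P G : Cᵒᵖ ⥤ AddCommGrpCat.{u}} {X Y : C} (f : Y ⟶ X)
    (α : (presheafHom P G).obj (op X)) (T : Over Y) :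
    ((presheafHom P G).map f.op α).app (op T) = α.app (op ((Over.map f).obj T)) := rfl

variable [HasBinaryProducts C]

lemma psi0_app_eq_zero (ψ : (restr O V).obj M ⟶ (restr O V).obj F)
    (hψ : (restr (O.over V) (UX U V)).map ψ = 0) {T : C} (k : T ⟶ V) (f : T ⟶ U) :
    (psi0 O ψ).app (op (Over.mk k)) = 0 := by
  apply AddCommGrpCat.hom_ext
  apply AddMonoidHom.ext
  intro x
  exact (restr_map_eq_zero_iff (O.over V) (UX U V) ψ).1 hψ
    (Over.homMk (prod.lift f k) (prod.lift_snd _ _) : Over.mk k ⟶ UX U V) x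

/-- gluing a morphism on `V` vanishing on `U × V` with the zero morphism on `U` -/
theorem exists_glue (hV : ∀ X : C, Subsingleton (X ⟶ V))
    (hUV : J.CoversTop (fun b : Bool => cond b U V))
    (ψ : (restr O V).obj M ⟶ (restr O V).obj F)
    (hψ : (restr (O.over V) (UX U V)).map ψ = 0) :
    ∃ φ : M ⟶ F, (restr O V).map φ = ψ ∧ (restr O U).map φ = 0 := by
  obtain ⟨P, hP⟩ : ∃ P : Cᵒᵖ ⥤ AddCommGrpCat.{u}, P = M.val.presheaf := ⟨_, rfl⟩
  obtain ⟨G, hG⟩ : ∃ G : Cᵒᵖ ⥤ AddCommGrpCat.{u}, G = F.val.presheaf := ⟨_, rfl⟩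
  subst hP hG
  have hH : Presheaf.IsSheaf J (presheafHom M.val.presheaf F.val.presheaf) :=
    Presheaf.IsSheaf.hom M.val.presheaf F.val.presheaf F.isSheaf
  let x : Presheaf.FamilyOfElementsOnObjects (presheafHom M.val.presheaf F.val.presheaf)
      (fun b : Bool => cond b U V) := fun b =>
    match b with
    | true => (0 : (Over.forget U).op ⋙ M.val.presheaf ⟶ (Over.forget U).op ⋙ F.val.presheaf)
    | false => psi0 O ψ
  have hx : x.IsCompatible := by
    intro Z i j f g
    apply NatTrans.ext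
    funext T
    obtain ⟨T⟩ := T
    cases i <;> cases j
    · have hfg : f = g := (hV Z).elim _ _
      subst hfg
      rfl
    · refine (presheafHom_map_app' f (psi0 O ψ) T).trans ?_
      exact psi0_app_eq_zero O ψ hψ (T.hom ≫ f) (T.hom ≫ g)
    · refine Eq.trans ?_ (presheafHom_map_app' g (psi0 O ψ) T).symm
      exact (psi0_app_eq_zero O ψ hψ (T.hom ≫ g) (T.hom ≫ f)).symm
    · rfl
  obtain ⟨s, hs⟩ : ∃ s : (presheafHom M.val.presheaf F.val.presheaf).sections,
      s = hx.section_ hUV hH := ⟨_, rfl⟩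
  have hs_true : s.1 (op U) =
      (0 : (Over.forget U).op ⋙ M.val.presheaf ⟶ (Over.forget U).op ⋙ F.val.presheaf) := by
    rw [hs]
    exact hx.section_apply hUV hH true
  have hs_false : s.1 (op V) = psi0 O ψ := by
    rw [hs]
    exact hx.section_apply hUV hH false
  obtain ⟨φ₀, hφ₀⟩ : ∃ φ₀ : M.val.presheaf ⟶ F.val.presheaf,
      φ₀ = presheafHomSectionsEquiv M.val.presheaf F.val.presheaf s := ⟨_, rfl⟩
  have key_V : ∀ {T : C} (t : T ⟶ V), φ₀.app (op T) = (psi0 O ψ).app (op (Over.mk t)) := by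
    intro T t
    have h1 : s.1 (op T) = (presheafHom M.val.presheaf F.val.presheaf).map t.op (s.1 (op V)) :=
      (s.2 t.op).symm
    rw [hφ₀]
    show (s.1 (op T)).app (op (Over.mk (𝟙 T))) = _
    rw [h1, hs_false]
    exact presheafHom_map_app (𝟙 T) t t (Category.id_comp t) (psi0 O ψ)
  have key_U : ∀ {T : C} (t : T ⟶ U), φ₀.app (op T) = 0 := by
    intro T t
    have h1 : s.1 (op T) = (presheafHom M.val.presheaf F.val.presheaf).map t.op (s.1 (op U)) :=
      (s.2 t.op).symm
    rw [hφ₀]
    show (s.1 (op T)).app (op (Over.mk (𝟙 T))) = _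
    rw [h1, hs_true]
    rfl
  have hlin : ∀ (X : Cᵒᵖ) (r : (ringSh O).obj.obj X) (m : M.val.obj X),
      φ₀.app X (r • m) = r • φ₀.app X m := by
    intro X r m
    refine (Presheaf.IsSheaf.isSeparated F.isSheaf) X.unop _ (hUV X.unop) _ _ ?_
    rintro T t ⟨b, ⟨k⟩⟩
    have hnat : ∀ y : M.val.obj X, F.val.presheaf.map t.op (φ₀.app X y) =
        φ₀.app (op T) (M.val.presheaf.map t.op y) := fun y =>
      (congrArg (fun z => z.hom y) (φ₀.naturality t.op)).symm
    have hsm : M.val.presheaf.map t.op (r • m) =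
        ((ringSh O).obj.map t.op r) • M.val.presheaf.map t.op m :=
      PresheafOfModules.map_smul M.val t.op r m
    have hsm' : F.val.presheaf.map t.op (r • φ₀.app X m) =
        ((ringSh O).obj.map t.op r) • F.val.presheaf.map t.op (φ₀.app X m) :=
      PresheafOfModules.map_smul F.val t.op r _
    refine (hnat _).trans (Eq.trans ?_ hsm'.symm)
    refine (congrArg (fun z => φ₀.app (op T) z) hsm).trans ?_
    refine Eq.trans ?_ (congrArg (fun z => ((ringSh O).obj.map t.op r) • z) (hnat m).symm)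
    cases b
    · rw [key_V k]
      exact map_smul ((ψ.val.app (op (Over.mk k))).hom) _ _
    · rw [key_U k]
      exact (smul_zero _).symm
  refine ⟨⟨PresheafOfModules.homMk φ₀ hlin⟩, ?_, ?_⟩
  · apply (SheafOfModules.toSheaf _).map_injective
    ext Y m
    obtain ⟨Y⟩ := Y
    exact congrArg (fun z => z.hom m) (key_V Y.hom)
  · rw [restr_map_eq_zero_iff]
    intro T t y
    exact congrArg (fun z => z.hom y) (key_U t)

end Glue

section Exc

variable (U V : C) [HasBinaryProducts C]

lemma restr_restr_eq_zero {M F : Mod O} (φ : M ⟶ F) (h : (restr O U).map φ = 0) :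
    (restr (O.over V) (UX U V)).map ((restr O V).map φ) = 0 := by
  rw [restr_map_eq_zero_iff]
  intro Y k x
  exact (restr_map_eq_zero_iff O U φ).1 h (k.left ≫ (prod.fst : U ⨯ V ⟶ U)) x

omit [HasBinaryProducts C] in
theorem eq_zero_of_restr (hUV : J.CoversTop (fun b : Bool => cond b U V)) {M F : Mod O}
    (φ : M ⟶ F) (hU : (restr O U).map φ = 0) (hV : (restr O V).map φ = 0) : φ = 0 := by
  apply (SheafOfModules.toSheaf _).map_injective
  ext X m
  refine (Presheaf.IsSheaf.isSeparated F.isSheaf) X.unop _ (hUV X.unop) _ _ ?_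
  rintro T t ⟨b, ⟨k⟩⟩
  have h1 := PresheafOfModules.naturality_apply φ.val t.op m
  have h2 : φ.val.app (op T) (M.val.map t.op m) = 0 := by
    cases b
    · exact (restr_map_eq_zero_iff O V φ).1 hV k _
    · exact (restr_map_eq_zero_iff O U φ).1 hU k _
  have h3 : F.val.presheaf.map t.op (φ.val.app X m) = 0 := h1.symm.trans h2
  exact h3.trans (map_zero (F.val.presheaf.map t.op).hom).symm

/-- excision for Ext with supports (S13580) -/
theorem nonempty_excision [HasExt.{w} (Mod O)] [HasExt.{w'} (Mod (O.over V))]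
    (hV : ∀ X : C, Subsingleton (X ⟶ V)) (hUV : J.CoversTop (fun b : Bool => cond b U V))
    (M N : Mod O) (i : ℕ) :
    Nonempty (Abelian.Ext.{w} ((quotOn O U).obj M) N i ≃+
      Abelian.Ext.{w'} ((quotOn (O.over V) (UX U V)).obj ((restr O V).obj M))
        ((restr O V).obj N) i) := by
  haveI := isGrothendieckAbelian_sheafOfModules J (ringSh O)
  haveI : EnoughInjectives (Mod O) := inferInstance
  haveI : HasPushOver (O.over V) (UX U V) := restr_isLeftAdjoint (O.over V) (UX U V)
  let eFun : ∀ F : Mod O, ((quotOn O U).obj M ⟶ F) →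
      ((quotOn (O.over V) (UX U V)).obj ((restr O V).obj M) ⟶ (restr O V).obj F) :=
    fun F f => quotOnDesc (O.over V) (UX U V) ((restr O V).map ((quotOnπ O U).app M ≫ f))
      (restr_restr_eq_zero O U V _
        (restr_map_comp_eq_zero_left O U _ f (restr_map_quotOnπ O U M)))
  have eπ : ∀ (F : Mod O) (f : (quotOn O U).obj M ⟶ F),
      (quotOnπ (O.over V) (UX U V)).app ((restr O V).obj M) ≫ eFun F f =
        (restr O V).map ((quotOnπ O U).app M ≫ f) :=
    fun F f => quotOnπ_desc (O.over V) (UX U V) _ _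
  have eadd : ∀ (F : Mod O) (f g : (quotOn O U).obj M ⟶ F),
      eFun F (f + g) = eFun F f + eFun F g := by
    intro F f g
    rw [← cancel_epi ((quotOnπ (O.over V) (UX U V)).app ((restr O V).obj M))]
    rw [Preadditive.comp_add, eπ, eπ, eπ, Preadditive.comp_add, Functor.map_add]
  have einj : ∀ F : Mod O, Function.Injective (eFun F) := by
    intro F f g hfg
    have h1 : (restr O V).map ((quotOnπ O U).app M ≫ (f - g)) = 0 := by
      rw [Preadditive.comp_sub, Functor.map_sub, ← eπ, ← eπ, hfg, sub_self]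
    have h2 : (restr O U).map ((quotOnπ O U).app M ≫ (f - g)) = 0 :=
      restr_map_comp_eq_zero_left O U _ _ (restr_map_quotOnπ O U M)
    have h3 : (quotOnπ O U).app M ≫ (f - g) = 0 := eq_zero_of_restr O U V hUV _ h2 h1
    have h4 : f - g = 0 := by
      rw [← cancel_epi ((quotOnπ O U).app M), h3, comp_zero]
    exact sub_eq_zero.1 h4
  have esurj : ∀ F : Mod O, Function.Surjective (eFun F) := by
    intro F g
    have hψ : (restr (O.over V) (UX U V)).map
        ((quotOnπ (O.over V) (UX U V)).app ((restr O V).obj M) ≫ g) = 0 :=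
      restr_map_comp_eq_zero_left (O.over V) (UX U V) _ g
        (restr_map_quotOnπ (O.over V) (UX U V) _)
    obtain ⟨φ, hφV, hφU⟩ := exists_glue O hV hUV _ hψ
    refine ⟨quotOnDesc O U φ hφU, ?_⟩
    rw [← cancel_epi ((quotOnπ (O.over V) (UX U V)).app ((restr O V).obj M)), eπ,
      quotOnπ_desc, hφV]
  exact Groth.Agent.Lib.ExtCompare.nonempty_ext_addEquiv (restr O V)
    (fun S hS => hS.map_of_exact (restr O V))
    ((quotOn O U).obj M) ((quotOn (O.over V) (UX U V)).obj ((restr O V).obj M))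
    (fun F => AddEquiv.ofBijective (AddMonoidHom.mk' (eFun F) (eadd F)) ⟨einj F, esurj F⟩)
    (fun {F F'} f φ => by
      show eFun F' (f ≫ φ) = eFun F f ≫ (restr O V).map φ
      rw [← cancel_epi ((quotOnπ (O.over V) (UX U V)).app ((restr O V).obj M)), eπ,
        reassoc_of% (eπ F f), ← Functor.map_comp, Category.assoc])
    (fun I hI n ξ => by
      haveI : Injective ((restr O V).obj I) := (restr O V).injective_obj I
      exact Ext.eq_zero_of_injective ξ) i N

end Exc

end Groth.Agent.Lib.SuppExc
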