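import Mathlib
import Groth.Agent.Lib.MinorIdeal_helper7

/-!
# Support of a finitely presented module: closed with quasi-compact complement (helper7)
-/

set_option autoImplicit false
universe u

namespace Groth.Agent.Lib.SuppFPH7

open Groth.Agent.Lib.MinorIdealH7

variable (R : Type u) [CommRing R] (M : Type u) [AddCommGroup M] [Module R M]
  [Module.FinitePresentation R M]

theorem exists_fg_ideal_zeroLocus :
    ∃ I : Ideal R, I.FG ∧ PrimeSpectrum.zeroLocus (I : Set R) = Module.support R M := by
  classical
  obtain ⟨n, m, f, g, hf, hfg⟩ := Module.FinitePresentation.exists_fin' R M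
  let A : Matrix (Fin n) (Fin m) R := LinearMap.toMatrix' g
  have hA : ∀ v, g v = A.mulVec v := by
    intro v
    have := congrArg (fun φ : (Fin m → R) →ₗ[R] (Fin n → R) => φ v) (Matrix.toLin'_toMatrix' g)
    simp only [Matrix.toLin'_apply] at this
    exact this.symm
  let I : Ideal R := CAlgX.minorIdeal A.transpose n
  have hfg' : I.FG := Submodule.fg_span (Set.finite_range _)
  -- I ≤ Ann M
  have h1 : I ≤ Module.annihilator R M := by
    intro f₀ hf₀
    obtain ⟨B, hB⟩ := part1 A.transpose f₀ hf₀
    have hAB : A * B.transpose = f₀ • (1 : Matrix (Fin n) (Fin n) R) := by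
      have := congrArg Matrix.transpose hB
      rw [Matrix.transpose_mul, Matrix.transpose_transpose, Matrix.transpose_smul,
        Matrix.transpose_one] at this
      exact this
    rw [Module.mem_annihilator]
    intro x
    obtain ⟨y, rfl⟩ := hf x
    rw [← map_smul]
    have h2 : f₀ • y = g (B.transpose.mulVec y) := by
      rw [hA, Matrix.mulVec_mulVec, hAB, Matrix.smul_mulVec, Matrix.one_mulVec]
    rw [h2]
    exact hfg.apply_apply_eq_zero _
  -- Ann M ≤ radical
  have h2 : ∀ f₀ ∈ Module.annihilator R M, f₀ ^ n ∈ I := by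
    intro f₀ hf₀
    rw [Module.mem_annihilator] at hf₀
    have h3 : ∀ i : Fin n, ∃ b : Fin m → R, g b = f₀ • (Pi.single i (1 : R) : Fin n → R) := by
      intro i
      have : f (f₀ • (Pi.single i (1 : R) : Fin n → R)) = 0 := by
        rw [map_smul, hf₀]
      exact (hfg _).mp this
    choose b hb using h3
    let B' : Matrix (Fin m) (Fin n) R := fun j i => b i j
    have hAB : A * B' = f₀ • (1 : Matrix (Fin n) (Fin n) R) := by
      ext k i
      have h4 : (A.mulVec (b i)) k = (f₀ • (Pi.single i (1 : R) : Fin n → R)) k := by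
        rw [← hA, hb]
      rw [Matrix.mul_apply]
      have h5 : (A.mulVec (b i)) k = ∑ j, A k j * B' j i := rfl
      rw [← h5, h4]
      simp [Matrix.one_apply, Pi.single_apply, eq_comm]
    have hB : B'.transpose * A.transpose = f₀ • (1 : Matrix (Fin n) (Fin n) R) := by
      rw [← Matrix.transpose_mul, hAB, Matrix.transpose_smul, Matrix.transpose_one]
    exact part2 A.transpose f₀ B'.transpose hB
  refine ⟨I, hfg', ?_⟩
  rw [Module.support_eq_zeroLocus]
  apply le_antisymm
  · intro p hp
    rw [PrimeSpectrum.mem_zeroLocus] at hp ⊢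
    intro f₀ hf₀
    exact p.isPrime.mem_of_pow_mem n (hp (h2 f₀ hf₀))
  · exact PrimeSpectrum.zeroLocus_anti_mono h1

theorem main : IsClosed (Module.support R M) ∧ IsCompact (Module.support R M)ᶜ := by
  obtain ⟨I, hI, hIs⟩ := exists_fg_ideal_zeroLocus R M
  refine ⟨?_, ?_⟩
  · rw [← hIs]
    exact PrimeSpectrum.isClosed_zeroLocus _
  · rw [← hIs]
    exact (PrimeSpectrum.isCompact_isOpen_iff_ideal.mpr ⟨I, hI, rfl⟩).1

end Groth.Agent.Lib.SuppFPH7
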