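import Mathlib

/-! Going down for supports of flat modules. -/

universe u
open TensorProduct

namespace Groth.Agent.Lib.SuppGDH8

variable {A B M : Type*} [CommRing A] [CommRing B] [Algebra A B]
    [AddCommGroup M] [Module A M] [Module B M] [IsScalarTower A B M]

theorem mem_smul_top_of_mem_map_smul_top (p' : Ideal A) (x : M)
    (hx : x ∈ ((p'.map (algebraMap A B)) • (⊤ : Submodule B M))) :
    x ∈ (p' • (⊤ : Submodule A M)) := by
  have key : ∀ r ∈ p'.map (algebraMap A B), ∀ n : M, r • n ∈ (p' • (⊤ : Submodule A M)) := by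
    intro r hr
    refine Submodule.span_induction (p := fun r _ => ∀ n : M, r • n ∈ (p' • (⊤ : Submodule A M)))
      ?_ ?_ ?_ ?_ hr
    · rintro _ ⟨a, ha, rfl⟩ n
      rw [algebraMap_smul]
      exact Submodule.smul_mem_smul ha trivial
    · intro n
      rw [zero_smul]; exact Submodule.zero_mem _
    · intro r s _ _ h1 h2 n
      rw [add_smul]; exact Submodule.add_mem _ (h1 n) (h2 n)
    · intro b r _ h1 n
      rw [smul_eq_mul, mul_comm, mul_smul]
      exact h1 (b • n)
  refine Submodule.smul_induction_on hx (fun r hr n _ => key r hr n) ?_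
  intro x y hx hy
  exact Submodule.add_mem _ hx hy

theorem mem_map_smul_top_of_smul_mem [Module.Flat A M] (p' : Ideal A) [p'.IsPrime] (t : A)
    (ht : t ∉ p') (m : M)
    (h : t • m ∈ ((p'.map (algebraMap A B)) • (⊤ : Submodule B M))) :
    m ∈ ((p'.map (algebraMap A B)) • (⊤ : Submodule B M)) := by
  have h1 : t • m ∈ (p' • (⊤ : Submodule A M)) := mem_smul_top_of_mem_map_smul_top p' _ h
  have hreg0 : IsSMulRegular (A ⧸ p') t := by
    intro x y hxy
    have hxy' : t • x = t • y := hxy
    have h2 : (Ideal.Quotient.mk p' t) * x = (Ideal.Quotient.mk p' t) * y := by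
      have e : ∀ z : A ⧸ p', t • z = (Ideal.Quotient.mk p' t) * z := fun z => by
        rw [Algebra.smul_def]; rfl
      rw [← e, ← e]
      exact hxy'
    have h3 : (Ideal.Quotient.mk p' t) ≠ 0 := by
      rw [Ne, Ideal.Quotient.eq_zero_iff_mem]; exact ht
    exact mul_left_cancel₀ h3 h2
  have hreg : IsSMulRegular ((A ⧸ p') ⊗[A] M) t := IsSMulRegular.rTensor M hreg0
  have hreg' : IsSMulRegular (M ⧸ (p' • ⊤ : Submodule A M)) t := by
    intro x y hxy
    have hxy' : t • x = t • y := hxy
    apply (TensorProduct.quotTensorEquivQuotSMul M p').symm.injective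
    apply hreg
    show t • _ = t • _
    rw [← map_smul, ← map_smul, hxy']
  have h2 : (Submodule.Quotient.mk m : M ⧸ (p' • ⊤ : Submodule A M)) = 0 := by
    apply hreg'
    show t • _ = t • _
    rw [smul_zero, ← Submodule.Quotient.mk_smul, Submodule.Quotient.mk_eq_zero]
    exact h1
  rw [Submodule.Quotient.mk_eq_zero] at h2
  refine Submodule.smul_induction_on h2 ?_ ?_
  · intro a ha n _
    rw [← algebraMap_smul B a n]
    exact Submodule.smul_mem_smul (Ideal.mem_map_of_mem _ ha) trivial
  · intro x y hx hy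
    exact Submodule.add_mem _ hx hy

/-- going down for the support of a finite `B`-module flat over `A`. -/
theorem exists_le_mem_support_comap [Module.Finite B M]
    [Module.Flat A M] (P : PrimeSpectrum B) (hP : P ∈ Module.support B M) (p' : Ideal A)
    [p'.IsPrime] (hp' : p' ≤ P.asIdeal.comap (algebraMap A B)) :
    ∃ P' : PrimeSpectrum B, P' ≤ P ∧ P' ∈ Module.support B M ∧
      P'.asIdeal.comap (algebraMap A B) = p' := by
  set I' : Ideal B := p'.map (algebraMap A B) with hI'
  set N : Submodule B M := I' • ⊤ with hN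
  have hPq : P ∈ Module.support B (M ⧸ N) := by
    rw [hN, Module.support_quotient]
    refine ⟨hP, ?_⟩
    rw [PrimeSpectrum.mem_zeroLocus]
    exact Ideal.map_le_iff_le_comap.mpr hp'
  obtain ⟨mb, hmb⟩ := Module.mem_support_iff'.mp hPq
  obtain ⟨m, rfl⟩ := Submodule.Quotient.mk_surjective N mb
  -- torsion-freeness
  have htf : ∀ t : A, t ∉ p' → ∀ x : M ⧸ N, (algebraMap A B t) • x = 0 → x = 0 := by
    intro t ht x hx
    obtain ⟨n, rfl⟩ := Submodule.Quotient.mk_surjective N x
    rw [← Submodule.Quotient.mk_smul, Submodule.Quotient.mk_eq_zero, algebraMap_smul] at hx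
    rw [Submodule.Quotient.mk_eq_zero]
    exact mem_map_smul_top_of_smul_mem p' t ht n hx
  set I : Ideal B := Ideal.torsionOf B (M ⧸ N) (Submodule.Quotient.mk m) with hI
  set Sm : Submonoid B := P.asIdeal.primeCompl ⊔ (p'.primeCompl.map (algebraMap A B)) with hSm
  have hdisj : Disjoint (I : Set B) (Sm : Set B) := by
    rw [Set.disjoint_left]
    intro b hbI hbS
    obtain ⟨y, hy, z, ⟨t, ht, rfl⟩, rfl⟩ := Submonoid.mem_sup.mp hbS
    have h0 : (y * algebraMap A B t) • (Submodule.Quotient.mk m : M ⧸ N) = 0 :=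
      (Ideal.mem_torsionOf_iff _ _).mp hbI
    rw [mul_comm, mul_smul] at h0
    exact hmb y hy (htf t ht _ h0)
  obtain ⟨P', hP'prime, hIP', hP'disj⟩ := Ideal.exists_le_prime_disjoint I Sm hdisj
  refine ⟨⟨P', hP'prime⟩, ?_, ?_, ?_⟩
  · intro x hx
    by_contra hxP
    exact Set.disjoint_left.mp hP'disj hx (Submonoid.mem_sup_left hxP)
  · rw [Module.mem_support_iff_of_finite]
    refine le_trans ?_ hIP'
    intro b hb
    rw [hI, Ideal.mem_torsionOf_iff, ← Submodule.Quotient.mk_smul,
      Module.mem_annihilator.mp hb m]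
    rfl
  · apply le_antisymm
    · intro a ha
      by_contra hap
      exact Set.disjoint_left.mp hP'disj ha
        (Submonoid.mem_sup_right (Submonoid.mem_map_of_mem _ hap))
    · intro a ha
      apply hIP'
      rw [hI, Ideal.mem_torsionOf_iff, ← Submodule.Quotient.mk_smul,
        Submodule.Quotient.mk_eq_zero]
      exact Submodule.smul_mem_smul (Ideal.mem_map_of_mem _ ha) trivial

end Groth.Agent.Lib.SuppGDH8
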