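import Mathlib
import Groth.Prelude
import Groth.Agent.Lib.SuppGD_helper8
import Groth.Agent.Lib.FlatSec_helper8
import Groth.Agent.Lib.AnnSh2_helper8
import Groth.Agent.Lib.QCohFT_helper9

/-! Going down for the support of a quasi-coherent module of finite type flat over the base. -/

universe u
open AlgebraicGeometry CategoryTheory CategoryTheory.Limits TopologicalSpace

namespace Groth.Agent.Lib.SuppGDH8

variable {X S : Scheme.{u}} (f : X ⟶ S) (F : X.Modules) [F.IsQuasicoherent]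
  [SheafOfModules.IsFiniteType (R := X.ringCatSheaf) F]

theorem exists_generization_mem_support (hfl : FlatMod.IsFlatOver f F) (x : X)
    (hx : x ∈ CohB1.support F) (s' : S) (hs : s' ⤳ f x) :
    ∃ x' : X, x' ⤳ x ∧ x' ∈ CohB1.support F ∧ f x' = s' := by
  obtain ⟨_, ⟨V, hV : IsAffineOpen V, rfl⟩, hsV, -⟩ :=
    (S.isBasis_affineOpens).exists_subset_of_mem_open (Set.mem_univ (f x)) isOpen_univ
  obtain ⟨_, ⟨U, hU : IsAffineOpen U, rfl⟩, hxU, e⟩ :=
    (X.isBasis_affineOpens).exists_subset_of_mem_open (show x ∈ f ⁻¹ᵁ V from hsV)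
      (f ⁻¹ᵁ V).isOpen
  have hxU : x ∈ U := hxU
  have e : U ≤ f ⁻¹ᵁ V := e
  have hs'V : s' ∈ V := hs.mem_open V.2 hsV
  letI algAB : Algebra Γ(S, V) Γ(X, U) := (f.appLE V U e).hom.toAlgebra
  letI mAM : Module Γ(S, V) Γ(F, U) := Module.compHom Γ(F, U) (f.appLE V U e).hom
  haveI : IsScalarTower Γ(S, V) Γ(X, U) Γ(F, U) :=
    IsScalarTower.of_algebraMap_smul (fun _ _ => rfl)
  haveI : Module.Flat Γ(S, V) Γ(F, U) :=
    FlatSecH8.flat_sections_of_flat_stalks f F hU e
      (fun y hyU => (FlatSecH8.isFlatOverAt_iff_flat_stalk f F hV e hyU).mp (hfl y))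
  haveI : Module.Finite Γ(X, U) Γ(F, U) := QCohFT.finite_of_isFiniteType F hU
  set P : PrimeSpectrum Γ(X, U) := hU.primeIdealOf ⟨x, hxU⟩ with hPdef
  have hP : P ∈ Module.support Γ(X, U) Γ(F, U) := (AnnSh2H8.mem_support_iff F hU hxU).mpr hx
  have hPx : hU.fromSpec P = x := hU.fromSpec_primeIdealOf ⟨x, hxU⟩
  -- compatibility of the prime of `f x`
  have hcompat : ∀ Q : PrimeSpectrum Γ(X, U),
      hV.fromSpec (Spec.map (f.appLE V U e) Q) = f (hU.fromSpec Q) := by
    intro Q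
    have := IsAffineOpen.SpecMap_appLE_fromSpec f hV hU e
    have h2 := congrArg (fun k : Spec Γ(X, U) ⟶ S => k Q) this
    exact h2
  set p' : PrimeSpectrum Γ(S, V) := hV.primeIdealOf ⟨s', hs'V⟩ with hp'def
  have hp's' : hV.fromSpec p' = s' := hV.fromSpec_primeIdealOf ⟨s', hs'V⟩
  have hle : p' ≤ Spec.map (f.appLE V U e) P := by
    rw [PrimeSpectrum.le_iff_specializes]
    apply hV.fromSpec.isOpenEmbedding.isInducing.specializes_iff.mp
    rw [hp's', hcompat P, hPx]
    exact hs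
  have hle' : p'.asIdeal ≤ P.asIdeal.comap (algebraMap Γ(S, V) Γ(X, U)) := hle
  obtain ⟨P', hP'P, hP'supp, hP'comap⟩ :=
    exists_le_mem_support_comap (A := Γ(S, V)) (B := Γ(X, U)) (M := Γ(F, U)) P hP p'.asIdeal hle'
  set x' : X := hU.fromSpec P' with hx'def
  have hx'U : x' ∈ U := by
    have : x' ∈ hU.fromSpec.opensRange := ⟨P', rfl⟩
    rwa [hU.opensRange_fromSpec] at this
  have hprime : hU.primeIdealOf ⟨x', hx'U⟩ = P' := by
    apply hU.fromSpec.isOpenEmbedding.injective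
    rw [hU.fromSpec_primeIdealOf]
  refine ⟨x', ?_, ?_, ?_⟩
  · rw [← hPx]
    exact ((PrimeSpectrum.le_iff_specializes P' P).mp hP'P).map hU.fromSpec.continuous
  · rw [← AnnSh2H8.mem_support_iff F hU hx'U, hprime]
    exact hP'supp
  · rw [hx'def, ← hcompat P']
    have : Spec.map (f.appLE V U e) P' = p' := PrimeSpectrum.ext hP'comap
    rw [this, hp's']

end Groth.Agent.Lib.SuppGDH8
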