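import Mathlib
import Groth.Prelude
import Groth.Agent.Lib.SuppGD2_helper8
import Groth.Agent.Lib.AnnSh_helper8
import Groth.Agent.Lib.SuppTens2_helper8
import Groth.Agent.Lib.FlatBC3_helper8
import Groth.Agent.Lib.PB7_helper8
import Groth.Agent.Lib.Fpqc1_helper8
import Groth.Agent.Lib.GenDim4_helper8
import Groth.Agent.Lib.GenDim1_helper8
import Groth.Agent.Lib.ValFib10_helper8
import Groth.Agent.Lib.EquidimIrr_helper8
import Groth.Agent.Lib.FieldExt3_helper8
import Groth.Agent.Lib.TopDimLoc_helper8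

/-! Support of a flat module of finite type: the bound on the dimension of the fibres of the
support propagates from the generic fibre. -/

universe u
open AlgebraicGeometry CategoryTheory CategoryTheory.Limits TopologicalSpace Topology

namespace Groth.Agent.Lib.SuppGDH8

theorem valuation_core' (R : Type u) [CommRing R] [IsDomain R] [ValuationRing R] {Z : Scheme.{u}}
    (ψ : Z ⟶ Spec (CommRingCat.of R)) [LocallyOfFiniteType ψ]
    (hgd : ∀ z : Z, ∃ ξ : Z, ξ ⤳ z ∧ ψ ξ = (⟨⊥, Ideal.isPrime_bot⟩ : PrimeSpectrum R))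
    (r : WithBot ℕ∞)
    (hgen : ∀ w : Z, ψ w = (⟨⊥, Ideal.isPrime_bot⟩ : PrimeSpectrum R) →
      FlatMor.fibreDimAt ψ w ≤ r)
    (z : Z) : FlatMor.fibreDimAt ψ z ≤ r := by
  obtain ⟨x', h1, h2, h3, h4⟩ := EquidimIrrH8.exists_fibre_max_dim ψ z
  obtain ⟨ξ, hξ1, hξ2⟩ := hgd x'
  obtain ⟨c, hc, -, -⟩ := ValFibH8.toENat_resTrdeg_eq_add R ψ ξ x' hξ1
  have h5 := hgen ξ hξ2
  rw [FibCohH8.fibreDimAt_eq ψ ξ] at h5
  have e1 : ((Cardinal.toENat (Dual3.resTrdeg ψ x') : ℕ∞) : WithBot ℕ∞) ≤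
      ((Cardinal.toENat (Dual3.resTrdeg ψ ξ) : ℕ∞) : WithBot ℕ∞) := by
    rw [hc, ← WithBot.coe_add]
    exact WithBot.coe_le_coe.mpr le_add_self
  have e2 : ((Cardinal.toENat (Dual3.resTrdeg ψ ξ) : ℕ∞) : WithBot ℕ∞) ≤
      ((FibCohH8.fibCoh ψ ξ : ℕ∞) : WithBot ℕ∞) +
        ((Cardinal.toENat (Dual3.resTrdeg ψ ξ) : ℕ∞) : WithBot ℕ∞) := by
    rw [← WithBot.coe_add]
    exact WithBot.coe_le_coe.mpr le_add_self
  exact h4.trans (e1.trans (e2.trans h5))

theorem main1416 {X S : Scheme.{u}} (f : X ⟶ S) [LocallyOfFiniteType f] [IrreducibleSpace ↑S]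
    (F : X.Modules) (hF : Coh.IsCoh F) (hfl : FlatMod.IsFlatOver f F) (r : WithBot ℕ∞)
    (h : topologicalKrullDim ↑(f ⁻¹' {genericPoint ↑S} ∩ CohB1.support F) ≤ r) (s : S) :
    topologicalKrullDim ↑(f ⁻¹' {s} ∩ CohB1.support F) ≤ r := by
  haveI : F.IsQuasicoherent := hF.1
  haveI : SheafOfModules.IsFiniteType (R := X.ringCatSheaf) F := hF.2
  set I := AnnShH8.annIdeal F with hI
  set i : I.subscheme ⟶ X := I.subschemeι with hi
  have hie : IsEmbedding i := i.isEmbedding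
  have hrange : Set.range i = CohB1.support F := by
    rw [hi, Scheme.IdealSheafData.range_subschemeι, AnnShH8.support_annIdeal]
  set g : I.subscheme ⟶ S := i ≫ f with hg
  rw [← hrange, ← GenDimH8.topDim_fiber_comp_embedding i f hie] at h ⊢
  rw [TopDimLocH8.topDim_le_iff_forall_localDim] at h ⊢
  intro z
  rw [FieldExtH8.localDim_fiber_eq_fibreDimAt g s z (g.fiberι s z) rfl]
  have hgz : g (g.fiberι s z) = s := Groth.Agent.FibRes2H8.fiberι_mem g s z
  generalize g.fiberι s z = z₀ at hgz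
  have hgen0 : ∀ w : I.subscheme, g w = genericPoint S → FlatMor.fibreDimAt g w ≤ r := by
    intro w hw
    have := h ((g.fiberHomeo _).symm ⟨w, hw⟩)
    rwa [FieldExtH8.localDim_fiber_eq_fibreDimAt g _ _ w (g.fiberι_fiberHomeo_symm _ _)] at this
  have hsp : genericPoint S ⤳ s := genericPoint_specializes s
  obtain ⟨R, _, _, _, h', hη, hcl⟩ :=
    GenDimH8.exists_valuationRing_of_specializes s (genericPoint S) hsp
  set pr₁ := pullback.fst f h' with hpr₁
  set pr₂ := pullback.snd f h' with hpr₂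
  have hsqX : IsPullback pr₁ pr₂ f h' := IsPullback.of_hasPullback f h'
  set q₁ := pullback.fst pr₁ i with hq₁
  set q₂ := pullback.snd pr₁ i with hq₂
  have hsqZ : IsPullback q₁ q₂ pr₁ i := IsPullback.of_hasPullback _ _
  have big : IsPullback q₂ (q₁ ≫ pr₂) g h' := (hsqZ.paste_horiz hsqX.flip).flip
  haveI : LocallyOfFiniteType (q₁ ≫ pr₂) :=
    MorphismProperty.of_isPullback (P := @LocallyOfFiniteType) big inferInstance
  -- the point
  obtain ⟨xR, hxR1, hxR2⟩ := Scheme.Pullback.exists_preimage_pullback (f := f) (g := h')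
    (i z₀) (IsLocalRing.closedPoint R) (by
      rw [hcl, ← hgz, hg, Scheme.Hom.comp_apply])
  obtain ⟨z', hz'1, hz'2⟩ := Scheme.Pullback.exists_preimage_pullback (f := pr₁) (g := i)
    xR z₀ hxR1
  have hz'2' : q₂ z' = z₀ := hz'2
  rw [← hz'2', ← FieldExtH8.fibreDimAt_baseChange g h' q₂ (q₁ ≫ pr₂) big z']
  -- the pulled back module
  set FR := (Scheme.Modules.pullback pr₁).obj F with hFR
  haveI : SheafOfModules.IsFiniteType (R := (pullback f h').ringCatSheaf) FR :=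
    FpqcH8.isFiniteType_pullback pr₁ F
  have hflR : FlatMod.IsFlatOver pr₂ FR := fun x =>
    FlatBC2H8.isFlatOverAt_pullback hsqX F x (hfl _)
  have hsuppR : CohB1.support FR = pr₁ ⁻¹' CohB1.support F := SuppTensH8.support_pullback pr₁ F
  haveI : IsClosedImmersion q₁ := by rw [hq₁]; infer_instance
  apply valuation_core' R (q₁ ≫ pr₂)
  · intro z₁
    have hx₁ : q₁ z₁ ∈ CohB1.support FR := by
      rw [hsuppR, Set.mem_preimage, ← hrange]
      refine ⟨q₂ z₁, ?_⟩
      rw [← Scheme.Hom.comp_apply, ← Scheme.Hom.comp_apply, hsqZ.w]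
    have hsp' : (⟨⊥, Ideal.isPrime_bot⟩ : PrimeSpectrum R) ⤳ pr₂ (q₁ z₁) :=
      (PrimeSpectrum.le_iff_specializes (⟨⊥, Ideal.isPrime_bot⟩ : PrimeSpectrum R) _).mp bot_le
    obtain ⟨x'', hx''1, hx''2, hx''3⟩ :=
      exists_generization_mem_support pr₂ FR hflR (q₁ z₁) hx₁ _ hsp'
    have hx''r : x'' ∈ Set.range q₁ := by
      rw [hq₁, Scheme.Pullback.range_fst, Set.mem_preimage, hrange]
      rw [hsuppR] at hx''2
      exact hx''2
    obtain ⟨ξ, hξ⟩ := hx''r
    refine ⟨ξ, ?_, ?_⟩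
    · apply q₁.isEmbedding.isInducing.specializes_iff.mp
      rw [hξ]; exact hx''1
    · rw [Scheme.Hom.comp_apply, hξ]; exact hx''3
  · intro w hw
    rw [FieldExtH8.fibreDimAt_baseChange g h' q₂ (q₁ ≫ pr₂) big w]
    apply hgen0
    have : g (q₂ w) = h' ((q₁ ≫ pr₂) w) := by
      rw [← Scheme.Hom.comp_apply, ← Scheme.Hom.comp_apply, big.w]
    rw [this, hw, hη]

end Groth.Agent.Lib.SuppGDH8
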