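import Mathlib
import Groth.Prelude.Def_ExtSupp
import Groth.Prelude.Def_SpSeq
import Groth.Agent.Lib.SuppExact_helper2
import Groth.Agent.Lib.GrothSS_helper2

/-!
# Spectral sequences for Ext with supports on a ringed site
-/

set_option autoImplicit false
universe u
open CategoryTheory Limits Opposite Abelian

namespace Groth.Agent.Lib.Supp
open ModSite

variable {C : Type u} [SmallCategory C] {J : GrothendieckTopology C}
variable (O : Sheaf J CommRingCat.{u}) (U : C) [HasPushOver O U]

/-- `Ext^p(M, ℋ^q_Z N) ⇒ Ext^{p+q}_Z(M, N)` -/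
theorem ss_ext_HZsh [HasInjectiveResolutions (Mod O)] [HasExt.{u} (Mod O)] (M N : Mod O) :
    ∃ (E : E₂CohomologicalSpectralSequence AddCommGrpCat.{u})
      (a : SpSeq.Abutment E (fun n : ℤ =>
        if 0 ≤ n then AddCommGrpCat.of (ExtSupp.ExtZ U M N n.toNat)
          else AddCommGrpCat.of PUnit.{u + 1})),
      (∀ n, a.IsFinite n) ∧ SpSeq.IsBounded E ∧
      ∀ p q : ℤ, Nonempty ((E.page 2 le_rfl).X (p, q) ≅
        (if 0 ≤ p ∧ 0 ≤ q then
          AddCommGrpCat.of (Abelian.Ext.{u} M ((ModSite.HZsh O U q.toNat).obj N) p.toNat)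
         else AddCommGrpCat.of PUnit.{u + 1})) := by
  have hT : ∀ Q : Mod O, Injective Q → ∀ q : ℕ, 0 < q →
      Limits.IsZero (((ExtDer.hom M).rightDerived q).obj ((sectOn O U).obj Q)) := by
    intro Q hQ q hq
    haveI := injective_sectOn O U Q
    obtain ⟨k, rfl⟩ : ∃ k, q = k + 1 := ⟨q - 1, by omega⟩
    exact Functor.isZero_rightDerived_obj_injective_succ _ k _
  apply Groth.Agent.Lib.GrothSS.grothendieck_ss_flex (sectOn O U) (ExtDer.hom M) hT N
  · intro n
    rw [if_pos (by omega)]
    simp only [Int.toNat_natCast]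
    exact ⟨(ExtDer.rightDerivedIso (homQuotIso O U M).symm n).app N ≪≫
      (ExtDer.natIso ((quotOn O U).obj M) n).app N⟩
  · intro n hn
    rw [if_neg (by omega)]
    exact AddCommGrpCat.isZero_of_subsingleton _
  · intro p q
    rw [if_pos ⟨by omega, by omega⟩]
    simp only [Int.toNat_natCast]
    exact ⟨(ExtDer.natIso M p).app _⟩
  · intro p q h
    rw [if_neg (by omega)]
    exact AddCommGrpCat.isZero_of_subsingleton _

end Groth.Agent.Lib.Supp
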