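import Mathlib
import Groth.Prelude.Def_ExtSupp
import Groth.Agent.Lib.SuppHZ_helper2
import Groth.Agent.Lib.SuppSS_helper2

/-!
# `Ext^q_O(O/O_U, -)` is `H^q_Z` of the underlying abelian sheaf; spectral sequences
-/

set_option autoImplicit false
universe u
open CategoryTheory Limits Opposite Abelian

namespace Groth.Agent.Lib.Supp
open ModSite Groth.Agent.Lib.ModFree Groth.Agent.Lib.CechAcyc Groth.Agent.Lib.ExtRes
  Groth.Agent.Lib.FunctorialInjective Groth.Agent.Lib.LerayHU Groth.Agent.Lib.ModSiteH8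

variable {C : Type u} [SmallCategory C] {J : GrothendieckTopology C}
variable (O : Sheaf J CommRingCat.{u}) (U : C) [HasPushOver O U]

/-- `O/O_U` -/
noncomputable abbrev QO : Mod O := (quotOn O U).obj (ModSite.unit O)

lemma κ_comp_eΓ (X : Mod O) (g : QO O U ⟶ X) :
    κ J U ≫ eΓ (ringSh O) X ((quotOnπ O U).app (ModSite.unit O) ≫ g) = 0 := by
  rw [eΓ_comp, ← Category.assoc, κ_comp_eΓ_π, zero_comp]

/-- `Hom_O(O/O_U, X) ≃ Hom(ℤ/ℤ_U, X_ab)` -/
noncomputable def homQuotUnitEquiv (X : Mod O) :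
    (QO O U ⟶ X) ≃+ (cokernel (κ J U) ⟶ toAb X) where
  toFun g := cokernel.desc (κ J U)
    (eΓ (ringSh O) X ((quotOnπ O U).app (ModSite.unit O) ≫ g)) (κ_comp_eΓ O U X g)
  invFun τ := quotOnDesc O U ((eΓ (ringSh O) X).symm (cokernel.π (κ J U) ≫ τ))
    (restr_map_eq_zero_of_κ O U X _ (by
      rw [Equiv.apply_symm_apply, ← Category.assoc, cokernel.condition, zero_comp]))
  left_inv g := by
    rw [← cancel_epi ((quotOnπ O U).app (ModSite.unit O)), quotOnπ_desc, cokernel.π_desc,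
      Equiv.symm_apply_apply]
  right_inv τ := by
    rw [← cancel_epi (cokernel.π (κ J U)), cokernel.π_desc, quotOnπ_desc,
      Equiv.apply_symm_apply]
  map_add' g g' := by
    rw [← cancel_epi (cokernel.π (κ J U)), cokernel.π_desc, Preadditive.comp_add,
      Preadditive.comp_add, cokernel.π_desc, cokernel.π_desc]
    exact (eΓadd (ringSh O) X).map_add _ _

/-- `Hom_O(O/O_U, -) ≅ Hom(ℤ/ℤ_U, (-)_ab)` -/
noncomputable def homQuotUnitIso :
    ExtDer.hom (QO O U) ≅
      SheafOfModules.toSheaf (ringSh O) ⋙ ExtDer.hom (cokernel (κ J U)) :=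
  NatIso.ofComponents (fun X => (homQuotUnitEquiv O U X).toAddCommGrpIso) (by
    intro X X' k
    ext g
    change cokernel.desc (κ J U) (eΓ (ringSh O) X' ((quotOnπ O U).app (ModSite.unit O) ≫ g ≫ k))
      (κ_comp_eΓ O U X' (g ≫ k)) = cokernel.desc (κ J U)
        (eΓ (ringSh O) X ((quotOnπ O U).app (ModSite.unit O) ≫ g)) (κ_comp_eΓ O U X g) ≫
          (SheafOfModules.toSheaf (ringSh O)).map k
    rw [← cancel_epi (cokernel.π (κ J U)), cokernel.π_desc, cokernel.π_desc_assoc,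
      ← Category.assoc, eΓ_comp])

/-- totally acyclic sheaves are acyclic for `Hom(ℤ/ℤ_U, -)` -/
lemma acyclic_homCokerκ_of_totallyAcyclic (F : Sheaf J AddCommGrpCat.{u})
    (hF : CohCx.IsTotallyAcyclic F) : LerayDer.Acyclic (ExtDer.hom (cokernel (κ J U))) F := by
  intro i hi
  obtain ⟨k, rfl⟩ : ∃ k, i = k + 1 := ⟨i - 1, by omega⟩
  apply isZero_of_subsingleton_ext
  exact subsingleton_ext_of_iso F (quotZIso J U).symm (k + 1)
    (subsingleton_ext_quotZ (ToposFin.eps J U) F hF k)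

attribute [local instance] HasDerivedCategory.standard in
/-- the derived functors of `Hom_O(O/O_U, -)` are computed on abelian sheaves -/
theorem nonempty_rightDerived_homQuotUnit_iso [HasInjectiveResolutions (Mod O)]
    (X : Mod O) (n : ℕ) :
    Nonempty (((ExtDer.hom (QO O U)).rightDerived n).obj X ≅
      ((ExtDer.hom (cokernel (κ J U))).rightDerived n).obj (toAb X)) := by
  haveI := isGrothendieckAbelian_sheafOfModules J (ringSh O)
  haveI := Groth.Agent.Lib.ModSiteH8.toSheaf_preservesColimitsOfSize (ringSh O)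
  haveI : PreservesFiniteColimits (SheafOfModules.toSheaf (ringSh O)) :=
    ⟨fun _ _ _ => inferInstance⟩
  obtain ⟨e⟩ := Bridge.comp_acyclic (SheafOfModules.toSheaf (ringSh O))
    (ExtDer.hom (cokernel (κ J U)))
    (fun I hI => acyclic_homCokerκ_of_totallyAcyclic U _
      (totallyAcyclic_toSheaf_of_injective (ringSh O) I)) X
    (acyclic_of_exact _ X) n
  exact ⟨(ExtDer.rightDerivedIso (homQuotUnitIso O U) n).app X ≪≫ e.symm⟩

/-- a module whose underlying abelian sheaf is totally acyclic is acyclic for `Hom_O(O/O_U, -)` -/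
lemma isZero_rightDerived_homQuotUnit_of_totallyAcyclic [HasInjectiveResolutions (Mod O)]
    (X : Mod O) (hX : CohCx.IsTotallyAcyclic (toAb X)) (q : ℕ) (hq : 0 < q) :
    Limits.IsZero (((ExtDer.hom (QO O U)).rightDerived q).obj X) := by
  obtain ⟨e⟩ := nonempty_rightDerived_homQuotUnit_iso O U X q
  exact Limits.IsZero.of_iso (acyclic_homCokerκ_of_totallyAcyclic U _ hX q hq) e

/-- the derived functors of `Hom_O(O/O_U, -)` are the groups `H^n_Z` -/
lemma nonempty_rightDerived_homQuotUnit_iso_HZ [HasInjectiveResolutions (Mod O)]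
    (X : Mod O) (n : ℕ) :
    Nonempty (((ExtDer.hom (QO O U)).rightDerived n).obj X ≅
      AddCommGrpCat.of (ModSite.HZ U X n)) := by
  obtain ⟨e⟩ := nonempty_rightDerived_homQuotUnit_iso O U X n
  exact ⟨e ≪≫ (ExtDer.natIso (cokernel (κ J U)) n).app _ ≪≫
    ((Abelian.extFunctor.{u} n).mapIso (quotZIso J U).op).app (toAb X)⟩

/-- `Hom_O(O, Γ_Z -) ≅ Hom_O(O/O_U, -)` -/
noncomputable def sectOnHomUnitIso :
    sectOn O U ⋙ ExtDer.hom (ModSite.unit O) ≅ ExtDer.hom (QO O U) :=
  (homQuotIso O U (ModSite.unit O)).symm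

/-- `H^p(C, ℋ^q_Z(M)) ⇒ H^{p+q}_Z(M)` -/
theorem ss_HC_HZsh [HasInjectiveResolutions (Mod O)] (M : Mod O) :
    ∃ (E : E₂CohomologicalSpectralSequence AddCommGrpCat.{u})
      (a : SpSeq.Abutment E (fun n : ℤ =>
        if 0 ≤ n then AddCommGrpCat.of (ModSite.HZ U M n.toNat)
          else AddCommGrpCat.of PUnit.{u + 1})),
      (∀ n : ℤ, a.IsFinite n) ∧ SpSeq.IsBounded E ∧
      ∀ p q : ℤ, Nonempty ((E.page 2 le_rfl).X (p, q) ≅
        (if 0 ≤ p ∧ 0 ≤ q then
          AddCommGrpCat.of (ModSite.HC O ((ModSite.HZsh O U q.toNat).obj M) p.toNat)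
          else AddCommGrpCat.of PUnit.{u + 1})) := by
  have hT : ∀ Q : Mod O, Injective Q → ∀ q : ℕ, 0 < q →
      Limits.IsZero (((ExtDer.hom (ModSite.unit O)).rightDerived q).obj ((sectOn O U).obj Q)) := by
    intro Q hQ q hq
    haveI := injective_sectOn O U Q
    obtain ⟨k, rfl⟩ : ∃ k, q = k + 1 := ⟨q - 1, by omega⟩
    exact Functor.isZero_rightDerived_obj_injective_succ _ k _
  apply Groth.Agent.Lib.GrothSS.grothendieck_ss_flex (sectOn O U)
    (ExtDer.hom (ModSite.unit O)) hT M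
  · intro n
    rw [if_pos (by omega)]
    simp only [Int.toNat_natCast]
    obtain ⟨e⟩ := nonempty_rightDerived_homQuotUnit_iso_HZ O U M n
    exact ⟨(ExtDer.rightDerivedIso (sectOnHomUnitIso O U) n).app M ≪≫ e⟩
  · intro n hn
    rw [if_neg (by omega)]
    exact AddCommGrpCat.isZero_of_subsingleton _
  · intro p q
    rw [if_pos ⟨by omega, by omega⟩]
    simp only [Int.toNat_natCast]
    exact nonempty_rightDerived_homUnit_iso_HC O _ p
  · intro p q h
    rw [if_neg (by omega)]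
    exact AddCommGrpCat.isZero_of_subsingleton _

/-- `Hom_O(O/O_U, ℋom(M, -)) ≅ Hom_O(M/M_U, -)` -/
noncomputable def sheafHomHomQuotUnitIso (M : Mod O) [HasSheafHom M] :
    sheafHom M ⋙ ExtDer.hom (QO O U) ≅ ExtDer.hom ((quotOn O U).obj M) :=
  Functor.isoWhiskerLeft (sheafHom M) (sectOnHomUnitIso O U).symm ≪≫ gammaZHomIso O U M

/-- `H^p_Z(ℰxt^q(M, N)) ⇒ Ext^{p+q}_Z(M, N)` -/
theorem ss_HZ_extSh [HasInjectiveResolutions (Mod O)] [HasExt.{u} (Mod O)] (M N : Mod O)
    [HasSheafHom M] :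
    ∃ (E : E₂CohomologicalSpectralSequence AddCommGrpCat.{u})
      (a : SpSeq.Abutment E (fun n : ℤ =>
        if 0 ≤ n then AddCommGrpCat.of (ExtSupp.ExtZ U M N n.toNat)
          else AddCommGrpCat.of PUnit.{u + 1})),
      (∀ n, a.IsFinite n) ∧ SpSeq.IsBounded E ∧
      ∀ p q : ℤ, Nonempty ((E.page 2 le_rfl).X (p, q) ≅
        (if 0 ≤ p ∧ 0 ≤ q then
          AddCommGrpCat.of (ModSite.HZ U ((ModSite.extSh M q.toNat).obj N) p.toNat)
         else AddCommGrpCat.of PUnit.{u + 1})) := by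
  have hT : ∀ Q : Mod O, Injective Q → ∀ q : ℕ, 0 < q →
      Limits.IsZero (((ExtDer.hom (QO O U)).rightDerived q).obj ((sheafHom M).obj Q)) := by
    intro Q hQ q hq
    exact isZero_rightDerived_homQuotUnit_of_totallyAcyclic O U _
      (totallyAcyclic_sheafHom_injective O M Q) q hq
  apply Groth.Agent.Lib.GrothSS.grothendieck_ss_flex (sheafHom M) (ExtDer.hom (QO O U)) hT N
  · intro n
    rw [if_pos (by omega)]
    simp only [Int.toNat_natCast]
    exact ⟨(ExtDer.rightDerivedIso (sheafHomHomQuotUnitIso O U M) n).app N ≪≫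
      (ExtDer.natIso ((quotOn O U).obj M) n).app N⟩
  · intro n hn
    rw [if_neg (by omega)]
    exact AddCommGrpCat.isZero_of_subsingleton _
  · intro p q
    rw [if_pos ⟨by omega, by omega⟩]
    simp only [Int.toNat_natCast]
    exact nonempty_rightDerived_homQuotUnit_iso_HZ O U _ p
  · intro p q h
    rw [if_neg (by omega)]
    exact AddCommGrpCat.isZero_of_subsingleton _

end Groth.Agent.Lib.Supp
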