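import Mathlib
import Groth.Prelude.Def_ExtSupp
import Groth.Agent.Lib.ExtCompare_helper2
import Groth.Agent.Lib.ModSite20_helper8
import Groth.Agent.Lib.ModSite13_helper8
import Groth.Agent.Lib.SheafOfModulesGrothendieck_helper2

/-!
# `Ext^i(j_! j^* M, N) ≃ Ext^i(j^* M, j^* N)`
-/

set_option autoImplicit false
universe w w' u
open CategoryTheory Limits Opposite Abelian

namespace Groth.Agent.Lib.Supp
open ModSite Groth.Agent.Lib.ModSiteH8 Groth.Agent.Lib.FunctorialInjective

variable {C : Type u} [SmallCategory C] {J : GrothendieckTopology C}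
variable (O : Sheaf J CommRingCat.{u}) (U : C)

theorem nonempty_ext_openMod_addEquiv [HasExt.{w} (Mod O)] [HasExt.{w'} (Mod (O.over U))]
    (M N : Mod O) (i : ℕ) :
    Nonempty (Abelian.Ext.{w} (ExtSupp.openMod U M) N i ≃+
      Abelian.Ext.{w'} ((restr O U).obj M) ((restr O U).obj N) i) := by
  haveI := isGrothendieckAbelian_sheafOfModules J (ringSh O)
  haveI : EnoughInjectives (Mod O) := inferInstance
  exact Groth.Agent.Lib.ExtCompare.nonempty_ext_addEquiv (restr O U)
    (fun S hS => hS.map_of_exact (restr O U))
    (ExtSupp.openMod U M) ((restr O U).obj M)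
    (fun F => (extZeroAdj O U).homAddEquiv ((restr O U).obj M) F)
    (fun f φ => (extZeroAdj O U).homEquiv_naturality_right f φ)
    (fun I hI n ξ => by
      haveI : Injective ((restr O U).obj I) := (restr O U).injective_obj I
      exact Ext.eq_zero_of_injective ξ) i N

end Groth.Agent.Lib.Supp
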