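import Mathlib
import Groth.Prelude.Def_LocCohZ
import Groth.Agent.Lib.ExtDer_helper9

/-!
# Sections with supports and direct images (helper2)

`Hom(ℤ_Y/ℤ_V, f_* F) ≅ Hom(ℤ_X/ℤ_{f⁻¹V}, F)`, naturally in `F`.
-/

set_option autoImplicit false
universe u
open CategoryTheory Limits Opposite TopologicalSpace

namespace Groth.Agent.Lib.SuppPush
open LocCohZ

variable {X : TopCat.{u}}

/-- maps out of `ℤ_V/ℤ_W` are the sections over `V` vanishing on `W` -/
noncomputable def homZqEquiv (F : CohTop.Ab X) {W V : Opens X} (h : W ≤ V) :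
    (zq h ⟶ F) ≃+ sectZ F h :=
  Abelian.Ext.addEquiv₀.symm.trans (sect0Equiv F h)

lemma homZqEquiv_apply_coe (F : CohTop.Ab X) {W V : Opens X} (h : W ≤ V) (g : zq h ⟶ F) :
    ((homZqEquiv F h g : sectZ F h) : F.obj.obj (op V)) =
      CohFree.evalGen (Opens.grothendieckTopology X) V F
        (cokernel.π (CohCx.freeSheafMap (Opens.grothendieckTopology X) (homOfLE h)) ≫ g) := by
  change CohFree.evalGen (Opens.grothendieckTopology X) V F
    (cokernel.π _ ≫ Abelian.Ext.addEquiv₀ (Abelian.Ext.addEquiv₀.symm g)) = _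
  rw [AddEquiv.apply_symm_apply]

lemma homZqEquiv_comp {F G : CohTop.Ab X} {W V : Opens X} (h : W ≤ V) (g : zq h ⟶ F)
    (φ : F ⟶ G) :
    ((homZqEquiv G h (g ≫ φ) : sectZ G h) : G.obj.obj (op V)) =
      (φ.hom.app (op V)).hom (homZqEquiv F h g).1 := by
  rw [homZqEquiv_apply_coe, homZqEquiv_apply_coe, ← Category.assoc]
  rfl

variable {Y : TopCat.{u}} (f : X ⟶ Y) (V : Opens Y)

/-- sections of `f_* F` vanishing on `V` are sections of `F` vanishing on `f⁻¹ V` -/
noncomputable def sectZPushEquiv (F : CohTop.Ab X) :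
    sectZ ((CohTop.push f).obj F) (le_top : V ≤ ⊤) ≃+
      sectZ F (le_top : (Opens.map f).obj V ≤ ⊤) :=
  AddEquiv.refl _

/-- `Hom(ℤ_Y/ℤ_V, f_* F) ≃ Hom(ℤ_X/ℤ_{f⁻¹V}, F)` -/
noncomputable def homPushEquiv (F : CohTop.Ab X) :
    (zq (le_top : V ≤ ⊤) ⟶ (CohTop.push f).obj F) ≃+
      (zq (le_top : (Opens.map f).obj V ≤ ⊤) ⟶ F) :=
  ((homZqEquiv ((CohTop.push f).obj F) le_top).trans (sectZPushEquiv f V F)).trans
    (homZqEquiv F le_top).symm

/-- `Hom(ℤ_Y/ℤ_V, f_* -) ≅ Hom(ℤ_X/ℤ_{f⁻¹V}, -)` -/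
noncomputable def pushHomIso :
    CohTop.push f ⋙ ExtDer.hom (zq (le_top : V ≤ ⊤)) ≅
      ExtDer.hom (zq (le_top : (Opens.map f).obj V ≤ ⊤)) :=
  NatIso.ofComponents (fun F => (homPushEquiv f V F).toAddCommGrpIso)
    (by
      intro F G φ
      ext g
      change homPushEquiv f V G (g ≫ (CohTop.push f).map φ) = homPushEquiv f V F g ≫ φ
      apply (homZqEquiv G le_top).injective
      apply Subtype.ext
      rw [homZqEquiv_comp]
      dsimp only [homPushEquiv, AddEquiv.trans_apply]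
      rw [AddEquiv.apply_symm_apply, AddEquiv.apply_symm_apply]
      exact homZqEquiv_comp le_top g ((CohTop.push f).map φ))

end Groth.Agent.Lib.SuppPush
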