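import Mathlib
import Groth.Prelude
import Groth.Agent.Lib.SuppStalk2_helper8
import Groth.Agent.Lib.SupportCoh_helper9
import Groth.Agent.Lib.LocDim2_helper8
import Groth.Agent.Lib.JUC6_helper8

set_option autoImplicit false
universe u

open CategoryTheory AlgebraicGeometry TopologicalSpace Opposite

namespace SuppStalkH8

open Groth.Agent.JUC4H8

/-- The dimension function on a scheme locally of finite type over a Jacobson, universally
catenary base with equidimensional components; it vanishes at closed points. -/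
theorem exists_dimFun (S : Scheme.{u}) [IsLocallyNoetherian S] [JacobsonSpace S]
    (h2 : ∀ s : S, CAlg.IsUniversallyCatenary (S.presheaf.stalk s))
    (h3 : ∀ S' ∈ irreducibleComponents (S : Type u), ∀ s ∈ S', IsClosed ({s} : Set S) →
      topologicalKrullDim (↥S' : Type u) = topologicalKrullDim ↥{t : S | t ∈ S' ∧ t ⤳ s})
    {X : Scheme.{u}} (p : X ⟶ S) [LocallyOfFiniteType p] :
    ∃ δX : X → ℤ, Cyc.IsDimFun X δX ∧ ∀ x : X, IsClosed ({x} : Set X) → δX x = 0 := by
  classical
  haveI : JacobsonSpace X := LocallyOfFiniteType.jacobsonSpace p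
  haveI : IsLocallyNoetherian X := LocallyOfFiniteType.isLocallyNoetherian p
  let N : X → ℕ := fun x => Classical.choose (Groth.Agent.ResQuot2H8.exists_trdeg_nat p x)
  have hN : ∀ x : X, @Algebra.trdeg (S.residueField (p.base x)) (X.residueField x) _ _
      (p.residueFieldMap x).hom.toAlgebra = N x := fun x =>
    Classical.choose_spec (Groth.Agent.ResQuot2H8.exists_trdeg_nat p x)
  let δX : X → ℤ := fun x => δ S (p.base x) + N x
  have hcompat : Cyc.DeltaCompat p δX (δ S) := fun x => ⟨N x, hN x, rfl⟩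
  have hS : Cyc.IsSetup S (δ S) := ⟨inferInstance, h2, isDimFun_δ S h2 h3⟩
  have hX : Cyc.IsDimFun X δX := Groth.Agent.S9684.result p (δ S) hS δX hcompat
  refine ⟨δX, hX, ?_⟩
  intro x₀ hx₀
  have hp : IsClosed ({p.base x₀} : Set S) :=
    Scheme.Hom.closePoints_subset_preimage_closedPoints p hx₀
  obtain ⟨x', hx', -, h0⟩ := Groth.Agent.FibRes3H8.exists_trdeg_zero p x₀
  have hxx : x' = x₀ := by
    have h1 : x' ∈ closure ({x₀} : Set X) := hx'.mem_closure
    rw [hx₀.closure_eq, Set.mem_singleton_iff] at h1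
    exact h1
  subst hxx
  have hN0 : N x' = 0 := by
    have : ((N x' : ℕ) : Cardinal) = ((0 : ℕ) : Cardinal) := by
      rw [← hN x', h0]; simp
    exact_mod_cast this
  change δ S (p.base x') + (N x' : ℤ) = 0
  rw [δ_closed S _ hp, hN0]
  simp

theorem main {X S : Scheme.{u}} [IsLocallyNoetherian S]
    [JacobsonSpace S] (h2 : ∀ s : S, CAlg.IsUniversallyCatenary (S.presheaf.stalk s))
    (h3 : ∀ S' ∈ irreducibleComponents (S : Type u), ∀ s ∈ S', IsClosed ({s} : Set S) →
      topologicalKrullDim (↥S' : Type u) = topologicalKrullDim ↥{t : S | t ∈ S' ∧ t ⤳ s})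
    (g : X ⟶ S) [LocallyOfFiniteType g] (F : X.Modules) (hF : Coh.IsCoh F) (x : X)
    (hx : x ∈ CohB1.support F) :
    topologicalKrullDim ↥(closure ({x} : Set X)) +
        Module.supportDim ↑(X.presheaf.stalk x) ↑(F.presheaf.stalk x) =
      FlatMor.localDim ↥(CohB1.support F) ⟨x, hx⟩ := by
  haveI : JacobsonSpace X := LocallyOfFiniteType.jacobsonSpace g
  haveI : IsLocallyNoetherian X := LocallyOfFiniteType.isLocallyNoetherian g
  haveI : F.IsQuasicoherent := hF.1
  haveI : SheafOfModules.IsFiniteType (R := X.ringCatSheaf) F := hF.2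
  obtain ⟨δX, hδ, h0⟩ := exists_dimFun S h2 h3 g
  have hcl : IsClosed (CohB1.support F) := SupportCoh.isClosed_support F
  have hmain := (Groth.Agent.LocDim2H8.main X δX hδ h0 (CohB1.support F) hcl x hx).1
  rw [hmain, supportDim_eq F x]

end SuppStalkH8
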