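import Mathlib

open MvPolynomial

namespace Groth.Agent.Lib.SurfGenH1

/-- exponents of bidegree `(a, b)` in the Cox ring of `F₁`. -/
def bis (a b : ℕ) : Set (Fin 4 →₀ ℕ) := {e | e 2 + e 3 = a ∧ e 0 + e 1 = b + e 2}

lemma span_eq (k : Type*) [Field k] (a b : ℕ) :
    Submodule.span k {f : MvPolynomial (Fin 4) k | ∃ e : Fin 4 →₀ ℕ, e 2 + e 3 = a ∧
      e 0 + e 1 = b + e 2 ∧ f = MvPolynomial.monomial e 1}
      = restrictSupport k (bis a b) := by
  rw [restrictSupport_eq_span]
  congr 1
  ext f
  constructor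
  · rintro ⟨e, h1, h2, rfl⟩
    exact ⟨e, ⟨h1, h2⟩, rfl⟩
  · rintro ⟨e, ⟨h1, h2⟩, rfl⟩
    exact ⟨e, h1, h2, rfl⟩

theorem core (k : Type*) [Field k]
    (mo : MonomialOrder (Fin 4)) (a b c : ℕ) (W : Submodule k (MvPolynomial (Fin 4) k))
    (hW : W ≤ restrictSupport k (bis a b))
    (h₁ : ∀ i j : ℕ, i ≤ a → j * (c + 1) < b + i → ∃ w ∈ W, w ≠ 0 ∧
      mo.degree w = Finsupp.single 0 (b + i - j * (c + 1)) + Finsupp.single 1 (j * (c + 1)) +
        Finsupp.single 2 i + Finsupp.single 3 (a - i))
    (h₂ : ∀ i : ℕ, i ≤ a → ∃ w ∈ W, w ≠ 0 ∧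
      mo.degree w = Finsupp.single 1 (b + i) + Finsupp.single 2 i + Finsupp.single 3 (a - i)) :
    W * restrictSupport k (bis 0 c) = restrictSupport k (bis a (b + c)) := by
  classical
  apply le_antisymm
  · refine (mul_le_mul' hW le_rfl).trans ?_
    rw [← restrictSupport_add]
    apply restrictSupport_mono
    rw [Set.add_subset_iff]
    rintro x ⟨hx1, hx2⟩ y ⟨hy1, hy2⟩
    refine ⟨?_, ?_⟩ <;> simp only [Finsupp.add_apply] <;> omega
  · have key : ∀ s : mo.syn, ∀ e : Fin 4 →₀ ℕ, mo.toSyn e = s → e ∈ bis a (b + c) →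
        (monomial e (1:k)) ∈ W * restrictSupport k (bis 0 c) := by
      intro s
      induction s using WellFoundedLT.induction with
      | ind s ih =>
        intro e hes he
        obtain ⟨w, hwW, hw0, n, hn, hdeg⟩ :
            ∃ w ∈ W, w ≠ 0 ∧ ∃ n ∈ bis 0 c, mo.degree w + n = e := by
          obtain ⟨he1, he2⟩ := he
          have hi : e 2 ≤ a := by omega
          have hdm : e 1 / (c+1) * (c+1) + e 1 % (c+1) = e 1 := Nat.div_add_mod' _ _
          have hmod : e 1 % (c+1) < c + 1 := Nat.mod_lt _ (Nat.succ_pos c)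
          by_cases hcase : (e 1 / (c + 1)) * (c + 1) < b + e 2
          · obtain ⟨w, hwW, hw0, hdeg⟩ := h₁ (e 2) (e 1 / (c + 1)) hi hcase
            refine ⟨w, hwW, hw0, Finsupp.single 0 (c - e 1 % (c + 1)) +
              Finsupp.single 1 (e 1 % (c + 1)), ?_, ?_⟩
            · generalize e 1 % (c+1) = t at *
              refine ⟨?_, ?_⟩ <;> simp [Finsupp.single_apply] <;> omega
            · rw [hdeg]
              generalize e 1 / (c+1) * (c+1) = J at *
              generalize e 1 % (c+1) = t at *
              ext x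
              fin_cases x <;> simp [Finsupp.single_apply] <;> omega
          · have hcase' := not_lt.1 hcase
            obtain ⟨w, hwW, hw0, hdeg⟩ := h₂ (e 2) hi
            refine ⟨w, hwW, hw0, Finsupp.single 0 (e 0) +
              Finsupp.single 1 (e 1 - (b + e 2)), ?_, ?_⟩
            · generalize e 1 / (c+1) * (c+1) = J at *
              generalize e 1 % (c+1) = t at *
              refine ⟨?_, ?_⟩ <;> simp [Finsupp.single_apply] <;> omega
            · rw [hdeg]
              generalize e 1 / (c+1) * (c+1) = J at *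
              generalize e 1 % (c+1) = t at *
              ext x
              fin_cases x <;> simp [Finsupp.single_apply] <;> omega
        have hg : w * monomial n (1:k) ∈ W * restrictSupport k (bis 0 c) :=
          Submodule.mul_mem_mul hwW (by simp [hn])
        have hexp : w * monomial n (1:k) = ∑ d ∈ w.support, monomial (d + n) (coeff d w) := by
          conv_lhs => rw [w.as_sum]
          rw [Finset.sum_mul]
          refine Finset.sum_congr rfl (fun d _ => ?_)
          rw [monomial_mul, mul_one]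
        have hmem := mo.degree_mem_support hw0
        rw [hexp, ← Finset.add_sum_erase _ _ hmem, hdeg] at hg
        have hrest : ∑ d ∈ w.support.erase (mo.degree w), monomial (d + n) (coeff d w) ∈
            W * restrictSupport k (bis 0 c) := by
          refine Submodule.sum_mem _ (fun d hd => ?_)
          rw [Finset.mem_erase] at hd
          have hdW : d ∈ bis a b := hW hwW (Finset.mem_coe.2 hd.2)
          have hlt : mo.toSyn (d + n) < s := by
            rw [← hes, ← hdeg, map_add, map_add]
            have h1 : mo.toSyn d ≤ mo.toSyn (mo.degree w) := mo.le_degree hd.2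
            have h2 : mo.toSyn d ≠ mo.toSyn (mo.degree w) := fun h => hd.1 (mo.toSyn.injective h)
            exact add_lt_add_of_lt_of_le (lt_of_le_of_ne h1 h2) le_rfl
          have hdn : d + n ∈ bis a (b + c) := by
            obtain ⟨h1, h2⟩ := hdW
            obtain ⟨h3, h4⟩ := hn
            refine ⟨?_, ?_⟩ <;> simp only [Finsupp.add_apply] <;> omega
          have h5 := ih _ hlt (d + n) rfl hdn
          have h3 : monomial (d + n) (coeff d w) = coeff d w • monomial (d + n) (1:k) := by
            rw [smul_monomial, smul_eq_mul, mul_one]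
          rw [h3]
          exact Submodule.smul_mem _ _ h5
        have hlead : monomial e (coeff (mo.degree w) w) ∈ W * restrictSupport k (bis 0 c) := by
          have h6 := Submodule.sub_mem _ hg hrest
          rwa [add_sub_cancel_right] at h6
        have hc : coeff (mo.degree w) w ≠ 0 := mo.coeff_degree_ne_zero_iff.2 hw0
        have h4 : monomial e (1:k) =
            (coeff (mo.degree w) w)⁻¹ • monomial e (coeff (mo.degree w) w) := by
          rw [smul_monomial, smul_eq_mul, inv_mul_cancel₀ hc]
        rw [h4]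
        exact Submodule.smul_mem _ _ hlead
    intro f hf
    rw [mem_restrictSupport_iff] at hf
    rw [f.as_sum]
    refine Submodule.sum_mem _ (fun d hd => ?_)
    have h3 : monomial d (coeff d f) = coeff d f • monomial d (1:k) := by
      rw [smul_monomial, smul_eq_mul, mul_one]
    rw [h3]
    exact Submodule.smul_mem _ _ (key _ d rfl (hf (Finset.mem_coe.2 hd)))

theorem main17658 (k : Type*) [Field k]
    (mo : MonomialOrder (Fin 4)) (a b c : ℕ) (W : Submodule k (MvPolynomial (Fin 4) k))
    (hW : W ≤ Submodule.span k {f : MvPolynomial (Fin 4) k | ∃ e : Fin 4 →₀ ℕ, e 2 + e 3 = a ∧ e 0 + e 1 = b + e 2 ∧ f = MvPolynomial.monomial e 1})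
    (h₁ : ∀ i j : ℕ, i ≤ a → j * (c + 1) < b + i → ∃ w ∈ W, w ≠ 0 ∧
      mo.degree w = Finsupp.single 0 (b + i - j * (c + 1)) + Finsupp.single 1 (j * (c + 1)) +
        Finsupp.single 2 i + Finsupp.single 3 (a - i))
    (h₂ : ∀ i : ℕ, i ≤ a → ∃ w ∈ W, w ≠ 0 ∧
      mo.degree w = Finsupp.single 1 (b + i) + Finsupp.single 2 i + Finsupp.single 3 (a - i)) :
    W * Submodule.span k {f : MvPolynomial (Fin 4) k | ∃ e : Fin 4 →₀ ℕ, e 2 + e 3 = 0 ∧ e 0 + e 1 = c + e 2 ∧ f = MvPolynomial.monomial e 1} =
      Submodule.span k {f : MvPolynomial (Fin 4) k | ∃ e : Fin 4 →₀ ℕ, e 2 + e 3 = a ∧ e 0 + e 1 = (b + c) + e 2 ∧ f = MvPolynomial.monomial e 1} := by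
  rw [span_eq] at hW
  rw [span_eq, span_eq]
  exact core k mo a b c W hW h₁ h₂

end Groth.Agent.Lib.SurfGenH1
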