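import Mathlib
import Groth.Prelude.Def_W4c5suslinpi1abAdj

set_option autoImplicit false
set_option linter.style.haveILetI false
set_option linter.unusedSectionVars false

universe v u

namespace Groth.Agent.Lib.SusAdjH4

open CategoryTheory MonoidalCategory Functor.LaxMonoidal Functor.OplaxMonoidal W4c5suslinpi1ab

section Basic

variable {C : Type u} [Category.{v} C] [MonoidalCategory C]
variable {D : Type u} [Category.{v} D] [MonoidalCategory D]
variable {L : C ⥤ D} {R : D ⥤ C} (adj : L ⊣ R) [L.OplaxMonoidal] [R.LaxMonoidal] [adj.IsMonoidal]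

@[reassoc]
lemma transpose_projR (A : D) (B : C) :
    L.map (projR adj A B) ≫ adj.counit.app (A ⊗ L.obj B) =
      δ L (R.obj A) B ≫ (adj.counit.app A ▷ L.obj B) := by
  dsimp only [projR]
  rw [L.map_comp, Category.assoc, adj.map_μ_comp_counit_app_tensor]
  erw [← δ_natural_right_assoc, whiskerLeft_comp_tensorHom, adj.left_triangle_components,
    tensorHom_id]

@[reassoc]
lemma transpose_projL (A : C) (B : D) :
    L.map (projL adj A B) ≫ adj.counit.app (L.obj A ⊗ B) =
      δ L A (R.obj B) ≫ (L.obj A ◁ adj.counit.app B) := by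
  dsimp only [projL]
  rw [L.map_comp, Category.assoc, adj.map_μ_comp_counit_app_tensor]
  erw [← δ_natural_left_assoc, whiskerRight_comp_tensorHom, adj.left_triangle_components,
    id_tensorHom]
  rfl

omit [L.OplaxMonoidal] [adj.IsMonoidal] in
lemma projR_natural {A A' : D} {B B' : C} (a : A ⟶ A') (b : B ⟶ B') :
    (R.map a ⊗ₘ b) ≫ projR adj A' B' = projR adj A B ≫ R.map (a ⊗ₘ L.map b) := by
  dsimp only [projR]
  rw [tensorHom_comp_whiskerLeft_assoc, ← adj.unit_naturality, Category.assoc, ← μ_natural,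
    whiskerLeft_comp_tensorHom_assoc]

omit [L.OplaxMonoidal] [adj.IsMonoidal] in
lemma projL_natural {A A' : C} {B B' : D} (a : A ⟶ A') (b : B ⟶ B') :
    (a ⊗ₘ R.map b) ≫ projL adj A' B' = projL adj A B ≫ R.map (L.map a ⊗ₘ b) := by
  dsimp only [projL]
  rw [tensorHom_comp_whiskerRight_assoc, ← adj.unit_naturality, Category.assoc, ← μ_natural,
    whiskerRight_comp_tensorHom_assoc]

end Basic

section Square

variable {S₀ : Type u} [Category.{v} S₀] [MonoidalCategory S₀]
variable {Y₁ : Type u} [Category.{v} Y₁] [MonoidalCategory Y₁]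
variable {Y₂ : Type u} [Category.{v} Y₂] [MonoidalCategory Y₂]
variable {X : Type u} [Category.{v} X] [MonoidalCategory X]
variable {fL : S₀ ⥤ Y₁} {fR : Y₁ ⥤ S₀} (adjf : fL ⊣ fR) [fL.OplaxMonoidal] [fR.LaxMonoidal]
  [adjf.IsMonoidal] {gR : Y₂ ⥤ S₀}
  {pL : Y₁ ⥤ X} {pR : X ⥤ Y₁} (adjp : pL ⊣ pR) [pL.OplaxMonoidal] [pR.LaxMonoidal]
  [adjp.IsMonoidal] {qL : Y₂ ⥤ X} {qR : X ⥤ Y₂} (adjq : qL ⊣ qR)
  (ν : qR ⋙ gR ⟶ pR ⋙ fR)

theorem main18591 (A : Y₁) (B : Y₂) :
    ((adjf.comp adjp).homEquiv _ _).symm (extProd adjf adjp adjq ν A B) =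
      δ (fL ⋙ pL) (fR.obj A) (gR.obj B) ≫
        (pL.map (adjf.counit.app A) ⊗ₘ
          (pL.map ((bcMor adjf adjq ν).app B) ≫ adjp.counit.app (qL.obj B))) := by
  have h1 : (adjf.homEquiv _ _).symm (extProd adjf adjp adjq ν A B) =
      δ fL (fR.obj A) (gR.obj B) ≫ (adjf.counit.app A ⊗ₘ (bcMor adjf adjq ν).app B) ≫
        projL adjp A (qL.obj B) := by
    dsimp only [extProd]
    rw [← Category.assoc, Adjunction.homEquiv_naturality_right_symm,
      Adjunction.homEquiv_naturality_right_symm, Adjunction.homEquiv_counit, transpose_projR,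
      MonoidalCategory.tensorHom_def]
    simp only [Category.assoc]
    rfl
  rw [Adjunction.comp_homEquiv]
  simp only [Equiv.symm_trans_apply]
  rw [h1, Adjunction.homEquiv_naturality_left_symm, Adjunction.homEquiv_naturality_left_symm,
    Adjunction.homEquiv_counit, transpose_projL]
  erw [← δ_natural_assoc, tensorHom_comp_whiskerLeft]
  rw [comp_δ, Category.assoc]

lemma extProd_natural {A A' : Y₁} {B B' : Y₂} (a : A ⟶ A') (b : B ⟶ B') :
    (fR.map a ⊗ₘ gR.map b) ≫ extProd adjf adjp adjq ν A' B' =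
      extProd adjf adjp adjq ν A B ≫ fR.map (pR.map (pL.map a ⊗ₘ qL.map b)) := by
  dsimp only [extProd]
  rw [← Category.assoc, projR_natural]
  simp only [Category.assoc]
  congr 1
  simp only [← Functor.map_comp]
  congr 1
  rw [← projL_natural, tensorHom_comp_whiskerLeft_assoc, whiskerLeft_comp_tensorHom_assoc,
    show fL.map (gR.map b) ≫ (bcMor adjf adjq ν).app B' =
      (bcMor adjf adjq ν).app B ≫ pR.map (qL.map b) from (bcMor adjf adjq ν).naturality b]

lemma extProd_natural_assoc' {A A' : Y₁} {B B' : Y₂} (a : A ⟶ A') (b : B ⟶ B') {Z : S₀}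
    (h : fR.obj (pR.obj (pL.obj A' ⊗ qL.obj B')) ⟶ Z) :
    (fR.map a ⊗ₘ gR.map b) ≫ extProd adjf adjp adjq ν A' B' ≫ h =
      extProd adjf adjp adjq ν A B ≫ fR.map (pR.map (pL.map a ⊗ₘ qL.map b)) ≫ h := by
  rw [← Category.assoc, extProd_natural, Category.assoc]

variable {fS : S₀ ⥤ Y₁} (adjf' : fR ⊣ fS) {gS : S₀ ⥤ Y₂} (adjg' : gR ⊣ gS)
  {pS : Y₁ ⥤ X} (adjp' : pR ⊣ pS)
  [∀ (A : Y₁) (B : S₀), IsIso (projR adjf A B)]
  [∀ (A : Y₁) (B : X), IsIso (projL adjp A B)]
  [∀ B : Y₂, IsIso ((bcMor adjf adjq ν).app B)]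

@[reassoc]
lemma map_cupShriek_counit (A B : S₀) :
    fR.map (cupShriek adjf adjf' A B) ≫ adjf'.counit.app (A ⊗ B) =
      inv (projR adjf (fS.obj A) B) ≫ (adjf'.counit.app A ▷ B) := by
  have := (adjf'.homEquiv (fS.obj A ⊗ fL.obj B) (A ⊗ B)).symm_apply_apply
    (inv (projR adjf (fS.obj A) B) ≫ (adjf'.counit.app A ▷ B))
  rw [Adjunction.homEquiv_counit] at this
  exact this

lemma map_prodShriek_counit (A B : S₀) :
    pR.map (prodShriek adjf adjf' adjg' adjp adjp' adjq ν A B) ≫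
        adjp'.counit.app (fS.obj (A ⊗ B)) =
      inv (projL adjp (fS.obj A) (qL.obj (gS.obj B))) ≫
        (fS.obj A ◁ inv ((bcMor adjf adjq ν).app (gS.obj B))) ≫
        cupShriek adjf adjf' A (gR.obj (gS.obj B)) ≫ fS.map (A ◁ adjg'.counit.app B) := by
  have := (adjp'.homEquiv (pL.obj (fS.obj A) ⊗ qL.obj (gS.obj B)) (fS.obj (A ⊗ B))).symm_apply_apply
    (inv (projL adjp (fS.obj A) (qL.obj (gS.obj B))) ≫
        (fS.obj A ◁ inv ((bcMor adjf adjq ν).app (gS.obj B))) ≫
        cupShriek adjf adjf' A (gR.obj (gS.obj B)) ≫ fS.map (A ◁ adjg'.counit.app B))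
  rw [Adjunction.homEquiv_counit] at this
  exact this

@[reassoc]
lemma extProd_comp_rho (A B : S₀) :
    extProd adjf adjp adjq ν (fS.obj A) (gS.obj B) ≫
      fR.map (pR.map (prodShriek adjf adjf' adjg' adjp adjp' adjq ν A B) ≫
        adjp'.counit.app (fS.obj (A ⊗ B))) =
    projR adjf (fS.obj A) (gR.obj (gS.obj B)) ≫
      fR.map (cupShriek adjf adjf' A (gR.obj (gS.obj B))) ≫
      fR.map (fS.map (A ◁ adjg'.counit.app B)) := by
  have hM : (fS.obj A ◁ (bcMor adjf adjq ν).app (gS.obj B)) ≫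
      projL adjp (fS.obj A) (qL.obj (gS.obj B)) ≫
      (inv (projL adjp (fS.obj A) (qL.obj (gS.obj B))) ≫
        (fS.obj A ◁ inv ((bcMor adjf adjq ν).app (gS.obj B))) ≫
        cupShriek adjf adjf' A (gR.obj (gS.obj B)) ≫ fS.map (A ◁ adjg'.counit.app B)) =
      cupShriek adjf adjf' A (gR.obj (gS.obj B)) ≫ fS.map (A ◁ adjg'.counit.app B) := by
    rw [IsIso.hom_inv_id_assoc, ← MonoidalCategory.whiskerLeft_comp_assoc, IsIso.hom_inv_id,
      MonoidalCategory.whiskerLeft_id, Category.id_comp]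
  rw [map_prodShriek_counit]
  dsimp only [extProd]
  simp only [Category.assoc, ← Functor.map_comp]
  rw [hM]

theorem main18592 (A B : S₀) :
    extProd adjf adjp adjq ν (fS.obj A) (gS.obj B) ≫
      ((adjp'.comp adjf').homEquiv _ _).symm
        (prodShriek adjf adjf' adjg' adjp adjp' adjq ν A B) =
      (adjf'.counit.app A ⊗ₘ adjg'.counit.app B) := by
  rw [Adjunction.homEquiv_counit, Adjunction.comp_counit_app]
  dsimp only [Functor.comp_map]
  rw [← fR.map_comp_assoc, extProd_comp_rho_assoc, adjf'.counit_naturality,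
    map_cupShriek_counit_assoc, IsIso.hom_inv_id_assoc, ← MonoidalCategory.tensorHom_def]

lemma cupShriek_natural (A : S₀) {B B' : S₀} (k : B' ⟶ B) :
    cupShriek adjf adjf' A B' ≫ fS.map (A ◁ k) =
      (fS.obj A ◁ fL.map k) ≫ cupShriek adjf adjf' A B := by
  have hnat := projR_natural adjf (𝟙 (fS.obj A)) k
  rw [fR.map_id, id_tensorHom, id_tensorHom] at hnat
  have h2 : inv (projR adjf (fS.obj A) B') ≫ (fR.obj (fS.obj A) ◁ k) =
      fR.map (fS.obj A ◁ fL.map k) ≫ inv (projR adjf (fS.obj A) B) := by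
    rw [IsIso.inv_comp_eq, ← Category.assoc, IsIso.eq_comp_inv, hnat]
  dsimp only [cupShriek]
  rw [← Adjunction.homEquiv_naturality_right, ← Adjunction.homEquiv_naturality_left]
  congr 1
  rw [Category.assoc]
  erw [← whisker_exchange]
  rw [← Category.assoc]
  erw [h2]
  rw [Category.assoc]

theorem main18593 (A B : S₀) :
    extProd adjf adjp adjq ν (fS.obj A) (gS.obj B) ≫
      fR.map (pR.map (prodShriek adjf adjf' adjg' adjp adjp' adjq ν A B)) ≫
        fR.map (adjp'.counit.app (fS.obj (A ⊗ B))) =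
      (fR.obj (fS.obj A) ◁ adjg'.counit.app B) ≫ projR adjf (fS.obj A) B ≫
        fR.map (cupShriek adjf adjf' A B) := by
  have hnat : (fR.obj (fS.obj A) ◁ adjg'.counit.app B) ≫ projR adjf (fS.obj A) B =
      projR adjf (fS.obj A) (gR.obj (gS.obj B)) ≫
        fR.map (fS.obj A ◁ fL.map (adjg'.counit.app B)) := by
    have := projR_natural adjf (𝟙 (fS.obj A)) (adjg'.counit.app B)
    rw [fR.map_id, id_tensorHom, id_tensorHom] at this
    exact this
  rw [← fR.map_comp, extProd_comp_rho,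
    ← Category.assoc (fR.obj (fS.obj A) ◁ adjg'.counit.app B), hnat, Category.assoc,
    ← fR.map_comp, ← fR.map_comp, cupShriek_natural]
  rfl

theorem main18594 (A B : S₀) (A' : Y₁) (B' : Y₂) (C' : X)
    (trA : A' ⟶ fS.obj A) (trB : B' ⟶ gS.obj B) (trC : C' ⟶ pS.obj (fS.obj (A ⊗ B)))
    (m : pL.obj A' ⊗ qL.obj B' ⟶ C') :
    ((pL.map trA ⊗ₘ qL.map trB) ≫ prodShriek adjf adjf' adjg' adjp adjp' adjq ν A B =
        m ≫ trC) ↔
      (((adjf'.homEquiv _ _).symm trA ⊗ₘ (adjg'.homEquiv _ _).symm trB) =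
        extProd adjf adjp adjq ν A' B' ≫ fR.map (pR.map m) ≫
          ((adjp'.comp adjf').homEquiv _ _).symm trC) := by
  haveI : IsIso (extProd adjf adjp adjq ν A' B') := by
    dsimp only [extProd]; infer_instance
  have key : ((adjf'.homEquiv _ _).symm trA ⊗ₘ (adjg'.homEquiv _ _).symm trB) =
      extProd adjf adjp adjq ν A' B' ≫ ((adjp'.comp adjf').homEquiv _ _).symm
        ((pL.map trA ⊗ₘ qL.map trB) ≫ prodShriek adjf adjf' adjg' adjp adjp' adjq ν A B) := by
    rw [Adjunction.homEquiv_naturality_left_symm]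
    dsimp only [Functor.comp_map]
    rw [← extProd_natural_assoc', main18592, tensorHom_comp_tensorHom,
      Adjunction.homEquiv_counit, Adjunction.homEquiv_counit]
  have key2 : fR.map (pR.map m) ≫ ((adjp'.comp adjf').homEquiv _ _).symm trC =
      ((adjp'.comp adjf').homEquiv _ _).symm (m ≫ trC) :=
    ((adjp'.comp adjf').homEquiv_naturality_left_symm m trC).symm
  rw [key, key2]
  constructor
  · intro h; rw [h]
  · intro h
    exact ((adjp'.comp adjf').homEquiv _ _).symm.injective ((cancel_epi _).mp h)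

end Square

end Groth.Agent.Lib.SusAdjH4
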