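import Mathlib

/-!
# Eilenberg swindle and free summands of projective modules
-/

namespace Groth.Agent.Lib.Swindle

universe u

section
variable (R : Type*) [Semiring R] (α : Type*) (M N : Type*) [AddCommMonoid M] [AddCommMonoid N]
  [Module R M] [Module R N]

noncomputable def finsuppProdSplit : (α →₀ M × N) ≃ₗ[R] (α →₀ M) × (α →₀ N) :=
  LinearEquiv.ofLinear
    ((Finsupp.mapRange.linearMap (LinearMap.fst R M N)).prod
      (Finsupp.mapRange.linearMap (LinearMap.snd R M N)))
    ((Finsupp.mapRange.linearMap (LinearMap.inl R M N)).coprod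
      (Finsupp.mapRange.linearMap (LinearMap.inr R M N)))
    (by
      apply LinearMap.ext; rintro ⟨x, y⟩
      refine Prod.ext (Finsupp.ext fun a => ?_) (Finsupp.ext fun a => ?_) <;> simp)
    (by
      apply LinearMap.ext; intro f
      refine Finsupp.ext fun a => ?_
      simp)

end

theorem nonempty_prod_ker_equiv {R : Type*} [Ring R] {P M : Type*} [AddCommGroup P]
    [AddCommGroup M] [Module R P] [Module R M] (i : P →ₗ[R] M) (π : M →ₗ[R] P)
    (h : π.comp i = LinearMap.id) :
    Nonempty ((P × LinearMap.ker π) ≃ₗ[R] M) := by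
  have hπi : ∀ p, π (i p) = p := fun p => LinearMap.congr_fun h p
  let g : M →ₗ[R] LinearMap.ker π :=
    (LinearMap.id - i.comp π).codRestrict (LinearMap.ker π) (fun m => by
      rw [LinearMap.mem_ker, LinearMap.sub_apply, LinearMap.id_apply, LinearMap.comp_apply,
        map_sub, hπi, sub_self])
  have hg : ∀ m, (g m : M) = m - i (π m) := fun m => rfl
  refine ⟨LinearEquiv.ofLinear (i.coprod (LinearMap.ker π).subtype) (π.prod g) ?_ ?_⟩
  · apply LinearMap.ext; intro m
    show i (π m) + (g m : M) = m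
    rw [hg]; abel
  · apply LinearMap.ext; rintro ⟨p, k⟩
    have hk : π k = 0 := k.2
    refine Prod.ext ?_ (Subtype.ext ?_)
    · show π (i p + k) = p
      rw [map_add, hπi, hk, add_zero]
    · show (g (i p + k) : M) = k
      rw [hg, map_add, hπi, hk, add_zero]; abel

/-- Eilenberg swindle -/
theorem swindle (R : Type u) [CommRing R] (P Q : Type u) [AddCommGroup P] [Module R P]
    [AddCommGroup Q] [Module R Q] (ι : Type u) [Infinite ι] (e : (P × Q) ≃ₗ[R] (ι →₀ R)) :
    Nonempty ((P × (ι →₀ R)) ≃ₗ[R] (ι →₀ R)) := by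
  classical
  obtain ⟨eι⟩ : Nonempty (ℕ × ι ≃ ι) := by
    rw [← Cardinal.eq]
    simp [Cardinal.aleph0_mul_eq (Cardinal.aleph0_le_mk ι)]
  let eN : ℕ ≃ ℕ ⊕ PUnit.{1} :=
    (Denumerable.eqv (Option ℕ)).symm.trans (Equiv.optionEquivSumPUnit ℕ)
  let e1 : (ι →₀ R) ≃ₗ[R] (ℕ →₀ (ι →₀ R)) :=
    (Finsupp.domLCongr eι.symm).trans (Finsupp.curryLinearEquiv R)
  let e2 : (ℕ →₀ (ι →₀ R)) ≃ₗ[R] (ℕ →₀ (P × Q)) := Finsupp.mapRange.linearEquiv e.symm
  let e3 : (ℕ →₀ (P × Q)) ≃ₗ[R] ((ℕ →₀ P) × (ℕ →₀ Q)) := finsuppProdSplit R ℕ P Q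
  let e123 : (ι →₀ R) ≃ₗ[R] ((ℕ →₀ P) × (ℕ →₀ Q)) := (e1.trans e2).trans e3
  let e4 : (ℕ →₀ P) ≃ₗ[R] ((ℕ →₀ P) × P) :=
    (Finsupp.domLCongr eN).trans ((Finsupp.sumFinsuppLEquivProdFinsupp R).trans
      (LinearEquiv.prodCongr (LinearEquiv.refl R _) (Finsupp.LinearEquiv.finsuppUnique R P PUnit.{1})))
  exact ⟨((LinearEquiv.prodCongr (LinearEquiv.refl R P) e123).trans
    ((LinearEquiv.prodAssoc R P (ℕ →₀ P) (ℕ →₀ Q)).symm.trans
      (LinearEquiv.prodCongr ((LinearEquiv.prodComm R P (ℕ →₀ P)).trans e4.symm)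
        (LinearEquiv.refl R (ℕ →₀ Q))))).trans e123.symm⟩

/-- a projective module becomes free after adding a free module -/
theorem exists_free_prod (R : Type u) [CommRing R] (P : Type u) [AddCommGroup P] [Module R P]
    [Module.Projective R P] : ∃ ι : Type u, Module.Free R (P × (ι →₀ R)) := by
  classical
  obtain ⟨s, hs⟩ := Module.projective_def'.mp (inferInstance : Module.Projective R P)
  obtain ⟨e₀⟩ := nonempty_prod_ker_equiv s (Finsupp.linearCombination R id) hs
  let e : (P × (LinearMap.ker (Finsupp.linearCombination R (id : P → P)) × (ULift.{u} ℕ →₀ R)))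
      ≃ₗ[R] ((P ⊕ ULift.{u} ℕ) →₀ R) :=
    ((LinearEquiv.prodAssoc R P _ (ULift.{u} ℕ →₀ R)).symm.trans
      (LinearEquiv.prodCongr e₀ (LinearEquiv.refl R (ULift.{u} ℕ →₀ R)))).trans
      (Finsupp.sumFinsuppLEquivProdFinsupp R).symm
  obtain ⟨e'⟩ := swindle R P
    (LinearMap.ker (Finsupp.linearCombination R (id : P → P)) × (ULift.{u} ℕ →₀ R))
    (P ⊕ ULift.{u} ℕ) e
  exact ⟨P ⊕ ULift.{u} ℕ, Module.Free.of_equiv e'.symm⟩

/-- finite free summand of `Rⁿ ⊕ P` containing a given element of `P` -/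
theorem exists_finite_free_summand (R : Type u) [CommRing R] (P : Type u) [AddCommGroup P]
    [Module R P] [Module.Projective R P] (s : P) :
    ∃ (n : ℕ) (K K' : Submodule R ((Fin n → R) × P)), IsCompl K K' ∧ Module.Free R K ∧
      Module.Finite R K ∧ ((0, s) : (Fin n → R) × P) ∈ K := by
  classical
  obtain ⟨i, hi⟩ := Module.projective_def'.mp (inferInstance : Module.Projective R P)
  let π : (P →₀ R) →ₗ[R] P := Finsupp.linearCombination R id
  have hπi : ∀ p, π (i p) = p := fun p => LinearMap.congr_fun hi p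
  let T : Finset P := (i s).support
  let n := T.card
  let t : Fin n ≃ T := T.equivFin.symm
  let j : (Fin n → R) →ₗ[R] (P →₀ R) :=
    Fintype.linearCombination R (fun k => Finsupp.single (t k : P) (1 : R))
  let ρ : (P →₀ R) →ₗ[R] (Fin n → R) := LinearMap.pi (fun k => Finsupp.lapply (t k : P))
  have hjρ : j (ρ (i s)) = i s := by
    show Fintype.linearCombination R (fun k => Finsupp.single (t k : P) (1 : R))
      (fun k => (i s) (t k : P)) = i s
    rw [Fintype.linearCombination_apply]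
    have h1 : ∀ k : Fin n, (i s) (t k : P) • Finsupp.single (t k : P) (1 : R) =
        Finsupp.single (t k : P) ((i s) (t k : P)) := by
      intro k; rw [Finsupp.smul_single, smul_eq_mul, mul_one]
    rw [Finset.sum_congr rfl (fun k _ => h1 k),
      Fintype.sum_equiv t (fun k => Finsupp.single (t k : P) ((i s) (t k : P)))
        (fun p : T => Finsupp.single (p : P) ((i s) (p : P))) (fun k => rfl),
      Finset.sum_coe_sort T (fun p => Finsupp.single p ((i s) p))]
    exact Finsupp.sum_single (i s)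
  let α : (Fin n → R) →ₗ[R] (Fin n → R) × P :=
    (LinearMap.id - ρ.comp (i.comp (π.comp j))).prod (π.comp j)
  let β : (Fin n → R) × P →ₗ[R] (Fin n → R) :=
    LinearMap.coprod LinearMap.id (ρ.comp i)
  have hβα : ∀ x, β (α x) = x := by
    intro x
    show (x - ρ (i (π (j x)))) + ρ (i (π (j x))) = x
    abel
  have hαinj : Function.Injective α := Function.LeftInverse.injective hβα
  have hα0 : α (ρ (i s)) = (0, s) := by
    show (ρ (i s) - ρ (i (π (j (ρ (i s))))), π (j (ρ (i s)))) = (0, s)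
    rw [hjρ, hπi, sub_self]
  let f : (Fin n → R) × P →ₗ[R] LinearMap.range α := α.rangeRestrict.comp β
  have hf : ∀ x : LinearMap.range α, f x = x := by
    rintro ⟨_, y, rfl⟩
    apply Subtype.ext
    show α (β (α y)) = α y
    rw [hβα]
  refine ⟨n, LinearMap.range α, LinearMap.ker f, LinearMap.isCompl_of_proj hf, ?_, ?_, ?_⟩
  · exact Module.Free.of_equiv (LinearEquiv.ofInjective α hαinj)
  · exact Module.Finite.equiv (LinearEquiv.ofInjective α hαinj)
  · exact ⟨ρ (i s), hα0⟩

end Groth.Agent.Lib.Swindle
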