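import Mathlib
import Groth.Prelude.Def_SymProd
import Groth.Agent.Lib.GQuot3_helper6

/-!
# Affine invariant opens of fibre powers (helper6)

`symOpen f d V U = base⁻¹ V ∩ ⋂ pr_i⁻¹ U` is an affine open of the `d`-fold fibre power when `U ⊆ f⁻¹ V` are affine
(it is the fibre power of `U` over `V`), and it is stable under permutations.
-/

set_option backward.isDefEq.respectTransparency false
set_option backward.isDefEq.respectTransparency.types false
set_option autoImplicit false

universe u

open CategoryTheory CategoryTheory.Limits AlgebraicGeometry TopologicalSpace SymProd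

namespace Groth.Agent.Lib.SymAffH6

variable {X S : Scheme.{u}} (f : X ⟶ S) (d : ℕ)

/-- The open `base⁻¹ V ∩ ⋂ pr_i⁻¹ U` of the fibre power. -/
noncomputable def symOpen (V : S.Opens) (U : X.Opens) : (fibPow f d).Opens :=
  (WidePullback.base (fun _ : Fin d => f)) ⁻¹ᵁ V ⊓
    ⨅ i : Fin d, (WidePullback.π (fun _ : Fin d => f) i) ⁻¹ᵁ U

lemma mem_symOpen (V : S.Opens) (U : X.Opens) (x : fibPow f d) :
    x ∈ symOpen f d V U ↔ (WidePullback.base (fun _ : Fin d => f)).base x ∈ V ∧
      ∀ i : Fin d, (WidePullback.π (fun _ : Fin d => f) i).base x ∈ U := by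
  unfold symOpen
  rw [Opens.mem_inf, GQuotH6.mem_iInf_opens]
  rfl

lemma π_base_apply (i : Fin d) (x : fibPow f d) :
    f.base ((WidePullback.π (fun _ : Fin d => f) i).base x) =
      (WidePullback.base (fun _ : Fin d => f)).base x := by
  rw [← WidePullback.π_arrow (fun _ : Fin d => f) i]
  rfl

lemma permHom_preimage_symOpen (V : S.Opens) (U : X.Opens) (σ : Equiv.Perm (Fin d)) :
    (permHom f d σ) ⁻¹ᵁ (symOpen f d V U) = symOpen f d V U := by
  ext x
  change (permHom f d σ).base x ∈ symOpen f d V U ↔ x ∈ symOpen f d V U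
  rw [mem_symOpen, mem_symOpen]
  have hb : (WidePullback.base (fun _ : Fin d => f)).base ((permHom f d σ).base x) =
      (WidePullback.base (fun _ : Fin d => f)).base x := by
    rw [← Scheme.Hom.comp_apply, permHom_base]
  have hp : ∀ i, (WidePullback.π (fun _ : Fin d => f) i).base ((permHom f d σ).base x) =
      (WidePullback.π (fun _ : Fin d => f) (σ.symm i)).base x := by
    intro i
    rw [← Scheme.Hom.comp_apply, permHom_π]
  rw [hb]
  constructor
  · rintro ⟨h1, h2⟩
    refine ⟨h1, fun i => ?_⟩
    have := h2 (σ i)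
    rw [hp, Equiv.symm_apply_apply] at this
    exact this
  · rintro ⟨h1, h2⟩
    refine ⟨h1, fun i => ?_⟩
    rw [hp]
    exact h2 _

lemma symOpen_coe_of_pos (hd : 0 < d) {V : S.Opens} {U : X.Opens} (hUV : U ≤ f ⁻¹ᵁ V) :
    (symOpen f d V U : Set (fibPow f d)) =
      ⋂ i : Fin d, (WidePullback.π (fun _ : Fin d => f) i).base ⁻¹' (U : Set X) := by
  ext x
  rw [SetLike.mem_coe, mem_symOpen]
  simp only [Set.mem_iInter, Set.mem_preimage, SetLike.mem_coe]
  constructor
  · exact fun h => h.2
  · intro h
    refine ⟨?_, h⟩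
    have := hUV (h ⟨0, hd⟩)
    change f.base _ ∈ V at this
    rwa [π_base_apply] at this

theorem isAffineOpen_symOpen {V : S.Opens} (hV : IsAffineOpen V) {U : X.Opens}
    (hU : IsAffineOpen U) (hUV : U ≤ f ⁻¹ᵁ V) : IsAffineOpen (symOpen f d V U) := by
  haveI : IsAffine (V : Scheme) := hV
  haveI : IsAffine (U : Scheme) := hU
  let f' : (U : Scheme) ⟶ V := f.resLE V U hUV
  have hf' : f' ≫ V.ι = U.ι ≫ f := Scheme.Hom.resLE_comp_ι f hUV
  let P' := widePullback (V : Scheme) (fun _ : Fin d => (U : Scheme)) (fun _ => f')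
  haveI : IsAffine P' := by
    haveI : ∀ j, IsAffine ((WidePullbackShape.wideCospan (V : Scheme)
        (fun _ : Fin d => (U : Scheme)) (fun _ => f')).obj j) := by
      intro j
      cases j
      · exact hV
      · exact hU
    exact Scheme.isAffine_of_isLimit _ (limit.isLimit _)
  set W := symOpen f d V U with hW
  let j : P' ⟶ fibPow f d := WidePullback.lift (WidePullback.base _ ≫ V.ι)
    (fun i => WidePullback.π _ i ≫ U.ι) (fun i => by
      rw [Category.assoc, ← hf', WidePullback.π_arrow_assoc])
  have hjπ : ∀ i, j ≫ WidePullback.π _ i = WidePullback.π _ i ≫ U.ι := fun i =>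
    WidePullback.lift_π _ _ _ _ i
  have hjb : j ≫ WidePullback.base _ = WidePullback.base _ ≫ V.ι :=
    WidePullback.lift_base _ _ _ _
  have hjW : Set.range j.base ⊆ Set.range W.ι.base := by
    rintro _ ⟨y, rfl⟩
    rw [Scheme.Opens.range_ι]
    change j.base y ∈ W
    rw [hW, mem_symOpen]
    constructor
    · rw [← Scheme.Hom.comp_apply, hjb]
      exact ((WidePullback.base (fun _ : Fin d => f')).base y).2
    · intro i
      rw [← Scheme.Hom.comp_apply, hjπ]
      exact ((WidePullback.π (fun _ : Fin d => f') i).base y).2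
  let l : P' ⟶ W := IsOpenImmersion.lift W.ι j hjW
  have hl : l ≫ W.ι = j := IsOpenImmersion.lift_fac _ _ _
  have hWV : Set.range (W.ι ≫ WidePullback.base (fun _ : Fin d => f)).base ⊆
      Set.range V.ι.base := by
    rintro _ ⟨y, rfl⟩
    rw [Scheme.Opens.range_ι]
    have := ((mem_symOpen f d V U y.1).mp y.2).1
    exact this
  have hWU : ∀ i, Set.range (W.ι ≫ WidePullback.π (fun _ : Fin d => f) i).base ⊆
      Set.range U.ι.base := by
    intro i
    rintro _ ⟨y, rfl⟩
    rw [Scheme.Opens.range_ι]
    have := ((mem_symOpen f d V U y.1).mp y.2).2 i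
    exact this
  let k : (W : Scheme) ⟶ P' := WidePullback.lift
    (IsOpenImmersion.lift V.ι (W.ι ≫ WidePullback.base (fun _ : Fin d => f)) hWV)
    (fun i => IsOpenImmersion.lift U.ι (W.ι ≫ WidePullback.π (fun _ : Fin d => f) i) (hWU i))
    (fun i => by
      rw [← cancel_mono V.ι, Category.assoc, hf', IsOpenImmersion.lift_fac_assoc,
        IsOpenImmersion.lift_fac, Category.assoc, WidePullback.π_arrow])
  have hkπ : ∀ i, k ≫ WidePullback.π _ i ≫ U.ι = W.ι ≫ WidePullback.π _ i := by
    intro i
    rw [← Category.assoc]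
    erw [WidePullback.lift_π]
    exact IsOpenImmersion.lift_fac _ _ _
  have hkb : k ≫ WidePullback.base _ ≫ V.ι = W.ι ≫ WidePullback.base _ := by
    rw [← Category.assoc]
    erw [WidePullback.lift_base]
    exact IsOpenImmersion.lift_fac _ _ _
  have hkj : k ≫ j = W.ι := by
    apply WidePullback.hom_ext
    · intro i
      rw [Category.assoc, hjπ, hkπ]
    · rw [Category.assoc, hjb, hkb]
  have h1 : k ≫ l = 𝟙 _ := by
    rw [← cancel_mono W.ι, Category.assoc, hl, hkj, Category.id_comp]
  have h2 : l ≫ k = 𝟙 _ := by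
    apply WidePullback.hom_ext
    · intro i
      rw [← cancel_mono U.ι, Category.assoc, Category.assoc, hkπ, ← Category.assoc, hl, hjπ,
        Category.id_comp]
    · rw [← cancel_mono V.ι, Category.assoc, Category.assoc, hkb, ← Category.assoc, hl, hjb,
        Category.id_comp]
  haveI : IsIso k := ⟨l, h1, h2⟩
  exact IsAffine.of_isIso k

end Groth.Agent.Lib.SymAffH6
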