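import Mathlib

/-!
# Invariants and pushouts (ring level) (helper6)

If `A' ⊗[A] R → A' ⊗[A] C` is injective with image the invariants of the base-changed action, the same holds for any
models `R'`, `C'` of the two tensor products.
-/

set_option autoImplicit false

universe u

open TensorProduct

namespace Groth.Agent.Lib.SymBCH6

theorem invariants_pushout {A A' R C R' C' : Type u} [CommRing A] [CommRing A'] [CommRing R]
    [CommRing C] [CommRing R'] [CommRing C']
    [Algebra A A'] [Algebra A R] [Algebra A C]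
    [Algebra A R'] [Algebra A' R'] [Algebra R R'] [IsScalarTower A A' R'] [IsScalarTower A R R']
    [Algebra A C'] [Algebra A' C'] [Algebra C C'] [IsScalarTower A A' C'] [IsScalarTower A C C']
    [Algebra.IsPushout A A' R R'] [Algebra.IsPushout A A' C C']
    {G : Type*} (ι : R →ₐ[A] C) (ι' : R' →ₐ[A'] C')
    (hι : ∀ r, ι' (algebraMap R R' r) = algebraMap C C' (ι r))
    (σ : G → C →ₐ[A] C) (σ' : G → C' →ₐ[A'] C')
    (hσ : ∀ g c, σ' g (algebraMap C C' c) = algebraMap C C' (σ g c))
    (h1 : Function.Injective (ι.toLinearMap.lTensor A'))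
    (h2 : ∀ z : A' ⊗[A] C, (∀ g, (σ g).toLinearMap.lTensor A' z = z) →
      z ∈ LinearMap.range (ι.toLinearMap.lTensor A')) :
    Function.Injective ι' ∧ ∀ c', (∀ g, σ' g c' = c') → c' ∈ Set.range ι' := by
  let eR : A' ⊗[A] R ≃ₐ[A'] R' := Algebra.IsPushout.equiv A A' R R'
  let eC : A' ⊗[A] C ≃ₐ[A'] C' := Algebra.IsPushout.equiv A A' C C'
  have heR : ∀ (a' : A') (r : R), eR (a' ⊗ₜ r) = algebraMap A' R' a' * algebraMap R R' r :=
    fun a' r => Algebra.IsPushout.equiv_tmul A A' R R' a' r
  have heC : ∀ (a' : A') (c : C), eC (a' ⊗ₜ c) = algebraMap A' C' a' * algebraMap C C' c :=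
    fun a' c => Algebra.IsPushout.equiv_tmul A A' C C' a' c
  have key1 : ∀ t : A' ⊗[A] R, ι' (eR t) = eC (ι.toLinearMap.lTensor A' t) := by
    intro t
    induction t using TensorProduct.induction_on with
    | zero => simp
    | tmul a' r =>
      rw [LinearMap.lTensor_tmul, heR, heC, map_mul, ι'.commutes, hι]
      rfl
    | add x y hx hy => rw [map_add, map_add, hx, hy, map_add, map_add]
  have key2 : ∀ (g : G) (t : A' ⊗[A] C), σ' g (eC t) = eC ((σ g).toLinearMap.lTensor A' t) := by
    intro g t
    induction t using TensorProduct.induction_on with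
    | zero => simp
    | tmul a' c =>
      rw [LinearMap.lTensor_tmul, heC, heC, map_mul, (σ' g).commutes, hσ]
      rfl
    | add x y hx hy => rw [map_add, map_add, hx, hy, map_add, map_add]
  constructor
  · intro x y hxy
    obtain ⟨tx, rfl⟩ := eR.surjective x
    obtain ⟨ty, rfl⟩ := eR.surjective y
    rw [key1, key1] at hxy
    rw [h1 (eC.injective hxy)]
  · intro c' hc'
    obtain ⟨t, rfl⟩ := eC.surjective c'
    have hfix : ∀ g, (σ g).toLinearMap.lTensor A' t = t := fun g =>
      eC.injective ((key2 g t).symm.trans (hc' g))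
    obtain ⟨s, hs⟩ := h2 t hfix
    exact ⟨eR s, by rw [key1, hs]⟩

end Groth.Agent.Lib.SymBCH6
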