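import Mathlib
import Groth.Agent.Lib.IsQuot1_helper8

/-!
# Sections over the range of an open immersion from an affine scheme (helper6)

For an open immersion `i : Spec R₀ ⟶ Z` with range `W`, the ring `Γ(Z, W)` is identified with `R₀` (`secHom`), naturally
in commutative squares.
-/

set_option backward.isDefEq.respectTransparency false
set_option backward.isDefEq.respectTransparency.types false
set_option autoImplicit false

universe u

open CategoryTheory CategoryTheory.Limits AlgebraicGeometry TopologicalSpace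

namespace Groth.Agent.Lib.SymBCH6

/-- `appLE` of a commutative square. -/
lemma appLE_square {X Y Y' Z : Scheme.{u}} (f₁ : X ⟶ Y) (f₂ : Y ⟶ Z) (g₁ : X ⟶ Y') (g₂ : Y' ⟶ Z)
    (h : f₁ ≫ f₂ = g₁ ≫ g₂) (U : Z.Opens) (V : Y.Opens) (V' : Y'.Opens) (W : X.Opens)
    (e₁ : V ≤ f₂ ⁻¹ᵁ U) (e₂ : W ≤ f₁ ⁻¹ᵁ V) (e₁' : V' ≤ g₂ ⁻¹ᵁ U) (e₂' : W ≤ g₁ ⁻¹ᵁ V') :
    f₂.appLE U V e₁ ≫ f₁.appLE V W e₂ = g₂.appLE U V' e₁' ≫ g₁.appLE V' W e₂' := by
  rw [Scheme.Hom.appLE_comp_appLE, Scheme.Hom.appLE_comp_appLE]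
  exact IsQuotH8.appLE_congr h _ _ _ _

section secHom

variable {Z : Scheme.{u}} {R₀ : CommRingCat.{u}} (i : Spec R₀ ⟶ Z) [IsOpenImmersion i]

lemma top_le_preimage (W : Z.Opens) (hW : W = i.opensRange) : (⊤ : (Spec R₀).Opens) ≤ i ⁻¹ᵁ W := by
  subst hW
  rw [Scheme.Hom.preimage_opensRange]

/-- The identification of the sections over the range of `i` with `R₀`. -/
noncomputable def secHom (W : Z.Opens) (hW : W = i.opensRange) : Γ(Z, W) ⟶ R₀ :=
  i.appLE W ⊤ (top_le_preimage i W hW) ≫ (Scheme.ΓSpecIso R₀).hom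

instance isIso_secHom (W : Z.Opens) (hW : W = i.opensRange) : IsIso (secHom i W hW) := by
  unfold secHom
  haveI : IsIso (i.appLE W ⊤ (top_le_preimage i W hW)) := by
    subst hW
    rw [Scheme.Hom.appLE]
    haveI := i.isIso_app i.opensRange le_rfl
    have hpre : i ⁻¹ᵁ i.opensRange = ⊤ := Scheme.Hom.preimage_opensRange i
    haveI : IsIso ((Spec R₀).presheaf.map
        (homOfLE (top_le_preimage i i.opensRange rfl)).op) := by
      rw [show homOfLE (top_le_preimage i i.opensRange rfl) = eqToHom hpre.symm from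
        Subsingleton.elim _ _]
      infer_instance
    infer_instance
  infer_instance

end secHom

/-- Naturality of `secHom` in commutative squares. -/
lemma secHom_naturality {Z₁ Z₂ : Scheme.{u}} {R₁ R₂ : CommRingCat.{u}} (i₁ : Spec R₁ ⟶ Z₁)
    (i₂ : Spec R₂ ⟶ Z₂) [IsOpenImmersion i₁] [IsOpenImmersion i₂] (k : Z₂ ⟶ Z₁) (θ : R₁ ⟶ R₂)
    (h : Spec.map θ ≫ i₁ = i₂ ≫ k) (W₁ : Z₁.Opens) (hW₁ : W₁ = i₁.opensRange) (W₂ : Z₂.Opens)
    (hW₂ : W₂ = i₂.opensRange) (e : W₂ ≤ k ⁻¹ᵁ W₁) :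
    k.appLE W₁ W₂ e ≫ secHom i₂ W₂ hW₂ = secHom i₁ W₁ hW₁ ≫ θ := by
  unfold secHom
  have h1 : k.appLE W₁ W₂ e ≫ i₂.appLE W₂ ⊤ (top_le_preimage i₂ W₂ hW₂) =
      i₁.appLE W₁ ⊤ (top_le_preimage i₁ W₁ hW₁) ≫ (Spec.map θ).appLE ⊤ ⊤ le_top :=
    appLE_square i₂ k (Spec.map θ) i₁ h.symm W₁ W₂ ⊤ ⊤ e _ _ _
  have h2 : (Spec.map θ).appLE ⊤ ⊤ le_top = (Spec.map θ).appTop := by
    rw [Scheme.Hom.appTop, Scheme.Hom.app_eq_appLE]
    rfl
  rw [← Category.assoc, h1, Category.assoc, h2, Scheme.ΓSpecIso_naturality, Category.assoc]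

end Groth.Agent.Lib.SymBCH6
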