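import Mathlib
import Groth.Prelude.Def_SymProd
import Groth.Prelude.Def_SymTen
import Groth.Agent.Lib.PiTensorLift_helper6

/-!
# `Spec` of a tensor power is the fibre power of `Spec` (helper6)

For an `A`-algebra `B`, `Spec (⨂[A]^n B) ≅ fibPow (Spec B ⟶ Spec A) n`, with projections `Spec` of the
coordinate inclusions, and the permutation of factors corresponds to `SymTen.perm`.
-/

set_option backward.isDefEq.respectTransparency false
set_option backward.isDefEq.respectTransparency.types false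
set_option autoImplicit false

universe u

open CategoryTheory CategoryTheory.Limits AlgebraicGeometry TopologicalSpace SymProd
open scoped TensorProduct

namespace Groth.Agent.Lib.SymFlatH6

section ringExt

variable {A B : Type u} [CommRing A] [CommRing B] [Algebra A B] {n : ℕ}

theorem ringHom_ext {R : Type u} [CommRing R] (F G : (⨂[A] _ : Fin n, B) →+* R)
    (h1 : ∀ a, F (algebraMap A _ a) = G (algebraMap A _ a))
    (h2 : ∀ i b, F (PiTensorProduct.singleAlgHom (R := A) (A := fun _ : Fin n => B) i b) =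
      G (PiTensorProduct.singleAlgHom (R := A) (A := fun _ : Fin n => B) i b)) : F = G := by
  letI : Algebra A R := (F.comp (algebraMap A _)).toAlgebra
  let F' : (⨂[A] _ : Fin n, B) →ₐ[A] R := ⟨F, fun a => rfl⟩
  let G' : (⨂[A] _ : Fin n, B) →ₐ[A] R := ⟨G, fun a => (h1 a).symm⟩
  have : F' = G' := by
    apply PiTensorProduct.algHom_ext
    intro i
    ext b
    exact h2 i b
  exact congrArg (fun H : (⨂[A] _ : Fin n, B) →ₐ[A] R => (H : (⨂[A] _ : Fin n, B) →+* R)) this

end ringExt

variable (A B : Type u) [CommRing A] [CommRing B] [Algebra A B] (n : ℕ)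

/-- The tensor power. -/
abbrev Tn : Type u := ⨂[A] _ : Fin n, B

/-- `Spec B ⟶ Spec A`. -/
noncomputable def fS : Spec (CommRingCat.of B) ⟶ Spec (CommRingCat.of A) :=
  Spec.map (CommRingCat.ofHom (algebraMap A B))

/-- The `i`-th coordinate inclusion. -/
noncomputable def sgl (i : Fin n) : CommRingCat.of B ⟶ CommRingCat.of (Tn A B n) :=
  CommRingCat.ofHom
    (PiTensorProduct.singleAlgHom (R := A) (A := fun _ : Fin n => B) i).toRingHom

/-- The structure map of the tensor power. -/
noncomputable def alg : CommRingCat.of A ⟶ CommRingCat.of (Tn A B n) :=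
  CommRingCat.ofHom (algebraMap A (Tn A B n))

lemma alg_sgl (i : Fin n) : CommRingCat.ofHom (algebraMap A B) ≫ sgl A B n i = alg A B n := by
  ext a
  exact (PiTensorProduct.singleAlgHom (R := A) (A := fun _ : Fin n => B) i).commutes a

theorem hom_ext_Tn {R : CommRingCat.{u}} (F G : CommRingCat.of (Tn A B n) ⟶ R)
    (h1 : alg A B n ≫ F = alg A B n ≫ G) (h2 : ∀ i, sgl A B n i ≫ F = sgl A B n i ≫ G) :
    F = G := by
  apply CommRingCat.hom_ext
  apply ringHom_ext
  · intro a
    exact congrArg (fun H => H.hom a) h1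
  · intro i b
    exact congrArg (fun H => H.hom b) (h2 i)

/-- `Spec T^n ⟶ fibPow`. -/
noncomputable def toP : Spec (CommRingCat.of (Tn A B n)) ⟶ fibPow (fS A B) n :=
  WidePullback.lift (Spec.map (alg A B n)) (fun i => Spec.map (sgl A B n i)) (fun i => by
    unfold fS
    rw [← Spec.map_comp, alg_sgl])

@[reassoc]
lemma toP_π (i : Fin n) : toP A B n ≫ WidePullback.π (fun _ : Fin n => fS A B) i =
    Spec.map (sgl A B n i) := WidePullback.lift_π _ _ _ _ i

@[reassoc]
lemma toP_base : toP A B n ≫ WidePullback.base (fun _ : Fin n => fS A B) =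
    Spec.map (alg A B n) := WidePullback.lift_base _ _ _ _

/-- coordinate map to global sections of the fibre power. -/
noncomputable def ψ (i : Fin n) : CommRingCat.of B ⟶ Γ(fibPow (fS A B) n, ⊤) :=
  (Scheme.ΓSpecIso (CommRingCat.of B)).inv ≫
    (WidePullback.π (fun _ : Fin n => fS A B) i).appTop

/-- structure map to global sections of the fibre power. -/
noncomputable def ψ₀ : CommRingCat.of A ⟶ Γ(fibPow (fS A B) n, ⊤) :=
  (Scheme.ΓSpecIso (CommRingCat.of A)).inv ≫
    (WidePullback.base (fun _ : Fin n => fS A B)).appTop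

lemma alg_ψ (i : Fin n) : CommRingCat.ofHom (algebraMap A B) ≫ ψ A B n i = ψ₀ A B n := by
  unfold ψ ψ₀
  rw [← Category.assoc, Scheme.ΓSpecIso_inv_naturality, Category.assoc,
    ← Scheme.Hom.comp_appTop]
  congr 2
  exact WidePullback.π_arrow (fun _ : Fin n => fS A B) i

/-- The ring map `T^n ⟶ Γ(fibPow)`. -/
noncomputable def Ψ : Tn A B n →+* Γ(fibPow (fS A B) n, ⊤) :=
  letI : Algebra A Γ(fibPow (fS A B) n, ⊤) := (ψ₀ A B n).hom.toAlgebra
  (PiTensorLift.lift (k := A) (A := fun _ : Fin n => B) (D := Γ(fibPow (fS A B) n, ⊤))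
    (fun i => ⟨(ψ A B n i).hom, fun a => congrArg (fun H => H.hom a) (alg_ψ A B n i)⟩)
    (fun i j _ x y => Commute.all _ _)).toRingHom

lemma Ψ_single (i : Fin n) (b : B) :
    Ψ A B n (PiTensorProduct.singleAlgHom (R := A) (A := fun _ : Fin n => B) i b) =
      (ψ A B n i).hom b := by
  letI : Algebra A Γ(fibPow (fS A B) n, ⊤) := (ψ₀ A B n).hom.toAlgebra
  exact PiTensorLift.lift_single (k := A) (A := fun _ : Fin n => B)
    (D := Γ(fibPow (fS A B) n, ⊤))
    (fun i => ⟨(ψ A B n i).hom, fun a => congrArg (fun H => H.hom a) (alg_ψ A B n i)⟩)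
    (fun i j _ x y => Commute.all _ _) i b

lemma Ψ_alg (a : A) : Ψ A B n (algebraMap A (Tn A B n) a) = (ψ₀ A B n).hom a := by
  letI : Algebra A Γ(fibPow (fS A B) n, ⊤) := (ψ₀ A B n).hom.toAlgebra
  exact (PiTensorLift.lift (k := A) (A := fun _ : Fin n => B) (D := Γ(fibPow (fS A B) n, ⊤))
    (fun i => ⟨(ψ A B n i).hom, fun a => congrArg (fun H => H.hom a) (alg_ψ A B n i)⟩)
    (fun i j _ x y => Commute.all _ _)).commutes a

lemma sgl_Ψ (i : Fin n) : sgl A B n i ≫ CommRingCat.ofHom (Ψ A B n) = ψ A B n i := by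
  ext b
  exact Ψ_single A B n i b

lemma alg_Ψ : alg A B n ≫ CommRingCat.ofHom (Ψ A B n) = ψ₀ A B n := by
  ext a
  exact Ψ_alg A B n a

/-- `fibPow ⟶ Spec T^n`. -/
noncomputable def fromP : fibPow (fS A B) n ⟶ Spec (CommRingCat.of (Tn A B n)) :=
  (fibPow (fS A B) n).toSpecΓ ≫ Spec.map (CommRingCat.ofHom (Ψ A B n))

lemma fromP_toP : fromP A B n ≫ toP A B n = 𝟙 _ := by
  apply WidePullback.hom_ext
  · intro i
    rw [Category.assoc, toP_π, Category.id_comp]
    unfold fromP
    rw [Category.assoc, ← Spec.map_comp, sgl_Ψ]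
    unfold ψ
    rw [Spec.map_comp, ← Category.assoc, ← Scheme.toSpecΓ_naturality, Category.assoc,
      toSpecΓ_SpecMap_ΓSpecIso_inv, Category.comp_id]
  · rw [Category.assoc, toP_base, Category.id_comp]
    unfold fromP
    rw [Category.assoc, ← Spec.map_comp, alg_Ψ]
    unfold ψ₀
    rw [Spec.map_comp, ← Category.assoc, ← Scheme.toSpecΓ_naturality, Category.assoc,
      toSpecΓ_SpecMap_ΓSpecIso_inv, Category.comp_id]

lemma Ψ_toP : CommRingCat.ofHom (Ψ A B n) ≫ (toP A B n).appTop =
    (Scheme.ΓSpecIso (CommRingCat.of (Tn A B n))).inv := by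
  apply hom_ext_Tn
  · rw [← Category.assoc, alg_Ψ]
    unfold ψ₀
    rw [Category.assoc, ← Scheme.Hom.comp_appTop, toP_base, Scheme.ΓSpecIso_inv_naturality]
  · intro i
    rw [← Category.assoc, sgl_Ψ]
    unfold ψ
    rw [Category.assoc, ← Scheme.Hom.comp_appTop, toP_π, Scheme.ΓSpecIso_inv_naturality]

lemma toP_fromP : toP A B n ≫ fromP A B n = 𝟙 _ := by
  unfold fromP
  rw [← Category.assoc, Scheme.toSpecΓ_naturality, Category.assoc, ← Spec.map_comp, Ψ_toP,
    toSpecΓ_SpecMap_ΓSpecIso_inv]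

/-- `Spec T^n ≅ fibPow (Spec B ⟶ Spec A) n`. -/
noncomputable def eT : Spec (CommRingCat.of (Tn A B n)) ≅ fibPow (fS A B) n where
  hom := toP A B n
  inv := fromP A B n
  hom_inv_id := toP_fromP A B n
  inv_hom_id := fromP_toP A B n

/-- the permutation of tensor factors as a morphism of `CommRingCat`. -/
noncomputable def permC (σ : Equiv.Perm (Fin n)) :
    CommRingCat.of (Tn A B n) ⟶ CommRingCat.of (Tn A B n) :=
  CommRingCat.ofHom (SymTen.perm A B n σ).toRingHom

lemma perm_single (σ : Equiv.Perm (Fin n)) (i : Fin n) (b : B) :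
    SymTen.perm A B n σ (PiTensorProduct.singleAlgHom (R := A) (A := fun _ : Fin n => B) i b) =
      PiTensorProduct.singleAlgHom (R := A) (A := fun _ : Fin n => B) (σ i) b := by
  rw [PiTensorProduct.singleAlgHom_apply, PiTensorProduct.singleAlgHom_apply,
    SymTen.perm_tprod]
  congr 1
  funext k
  simp only [MonoidHom.mulSingle_apply]
  by_cases h : k = σ i
  · subst h
    simp
  · rw [Pi.mulSingle_eq_of_ne h, Pi.mulSingle_eq_of_ne]
    intro h'
    apply h
    rw [← h', Equiv.apply_symm_apply]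

lemma sgl_permC (σ : Equiv.Perm (Fin n)) (i : Fin n) :
    sgl A B n i ≫ permC A B n σ = sgl A B n (σ i) := by
  ext b
  exact perm_single A B n σ i b

lemma alg_permC (σ : Equiv.Perm (Fin n)) : alg A B n ≫ permC A B n σ = alg A B n := by
  ext a
  exact (SymTen.perm A B n σ).commutes a

lemma toP_permHom (σ : Equiv.Perm (Fin n)) :
    toP A B n ≫ permHom (fS A B) n σ = Spec.map (permC A B n σ⁻¹) ≫ toP A B n := by
  apply WidePullback.hom_ext
  · intro i
    rw [Category.assoc, permHom_π, toP_π, Category.assoc, toP_π, ← Spec.map_comp, sgl_permC]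
    rfl
  · rw [Category.assoc, permHom_base, toP_base, Category.assoc, toP_base, ← Spec.map_comp,
      alg_permC]

end Groth.Agent.Lib.SymFlatH6
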