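import Mathlib
import Groth.Prelude.Def_SymProd
import Groth.Agent.Lib.SymAff_helper6

/-!
# Fibre powers of open subschemes (helper6)

For open immersions `iU : U₀ ⟶ X`, `iV : V₀ ⟶ S` and `f₀ : U₀ ⟶ V₀` over `f : X ⟶ S`, the induced map of fibre
powers `fibPow f₀ d ⟶ fibPow f d` is an open immersion with range `symOpen f d (range iV) (range iU)`, and it is
equivariant for the permutation actions.
-/

set_option backward.isDefEq.respectTransparency false
set_option backward.isDefEq.respectTransparency.types false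
set_option autoImplicit false

universe u

open CategoryTheory CategoryTheory.Limits AlgebraicGeometry TopologicalSpace SymProd

namespace Groth.Agent.Lib.SymFlatH6

open Groth.Agent.Lib.SymAffH6

variable {X S U₀ V₀ : Scheme.{u}} (f : X ⟶ S) (f₀ : U₀ ⟶ V₀) (iU : U₀ ⟶ X) (iV : V₀ ⟶ S)
  (h : f₀ ≫ iV = iU ≫ f) (d : ℕ)

/-- The induced map of fibre powers. -/
noncomputable def jmap : fibPow f₀ d ⟶ fibPow f d :=
  WidePullback.lift (WidePullback.base _ ≫ iV) (fun i => WidePullback.π _ i ≫ iU) (fun i => by
    rw [Category.assoc, ← h, WidePullback.π_arrow_assoc])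

@[reassoc]
lemma jmap_π (i : Fin d) : jmap f f₀ iU iV h d ≫ WidePullback.π (fun _ : Fin d => f) i =
    WidePullback.π (fun _ : Fin d => f₀) i ≫ iU := WidePullback.lift_π _ _ _ _ i

@[reassoc]
lemma jmap_base : jmap f f₀ iU iV h d ≫ WidePullback.base (fun _ : Fin d => f) =
    WidePullback.base (fun _ : Fin d => f₀) ≫ iV := WidePullback.lift_base _ _ _ _

lemma jmap_permHom (σ : Equiv.Perm (Fin d)) :
    jmap f f₀ iU iV h d ≫ permHom f d σ = permHom f₀ d σ ≫ jmap f f₀ iU iV h d := by
  apply WidePullback.hom_ext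
  · intro i
    rw [Category.assoc, permHom_π, jmap_π, Category.assoc, jmap_π, permHom_π_assoc]
  · rw [Category.assoc, permHom_base, jmap_base, Category.assoc, jmap_base, permHom_base_assoc]

variable [IsOpenImmersion iU] [IsOpenImmersion iV]

theorem jmap_spec : IsOpenImmersion (jmap f f₀ iU iV h d) ∧
    Set.range (jmap f f₀ iU iV h d).base =
      (symOpen f d iV.opensRange iU.opensRange : Set (fibPow f d)) := by
  set W := symOpen f d iV.opensRange iU.opensRange with hW
  set j := jmap f f₀ iU iV h d with hj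
  have hjπ : ∀ i, j ≫ WidePullback.π _ i = WidePullback.π _ i ≫ iU := jmap_π f f₀ iU iV h d
  have hjb : j ≫ WidePullback.base _ = WidePullback.base _ ≫ iV := jmap_base f f₀ iU iV h d
  have hjW' : ∀ y, j.base y ∈ W := by
    intro y
    rw [hW, mem_symOpen]
    constructor
    · rw [← Scheme.Hom.comp_apply, hjb]
      exact ⟨_, rfl⟩
    · intro i
      rw [← Scheme.Hom.comp_apply, hjπ]
      exact ⟨_, rfl⟩
  have hjW : Set.range j.base ⊆ Set.range W.ι.base := by
    rintro _ ⟨y, rfl⟩
    rw [Scheme.Opens.range_ι]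
    exact hjW' y
  let l : fibPow f₀ d ⟶ W := IsOpenImmersion.lift W.ι j hjW
  have hl : l ≫ W.ι = j := IsOpenImmersion.lift_fac _ _ _
  have hWV : Set.range (W.ι ≫ WidePullback.base (fun _ : Fin d => f)).base ⊆
      Set.range iV.base := by
    rintro _ ⟨y, rfl⟩
    exact ((mem_symOpen f d _ _ y.1).mp y.2).1
  have hWU : ∀ i, Set.range (W.ι ≫ WidePullback.π (fun _ : Fin d => f) i).base ⊆
      Set.range iU.base := by
    intro i
    rintro _ ⟨y, rfl⟩
    exact ((mem_symOpen f d _ _ y.1).mp y.2).2 i
  let k : (W : Scheme) ⟶ fibPow f₀ d := WidePullback.lift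
    (IsOpenImmersion.lift iV (W.ι ≫ WidePullback.base (fun _ : Fin d => f)) hWV)
    (fun i => IsOpenImmersion.lift iU (W.ι ≫ WidePullback.π (fun _ : Fin d => f) i) (hWU i))
    (fun i => by
      rw [← cancel_mono iV, Category.assoc, h, IsOpenImmersion.lift_fac_assoc,
        IsOpenImmersion.lift_fac, Category.assoc, WidePullback.π_arrow])
  have hkπ : ∀ i, k ≫ WidePullback.π _ i ≫ iU = W.ι ≫ WidePullback.π _ i := by
    intro i
    rw [← Category.assoc]
    erw [WidePullback.lift_π]
    exact IsOpenImmersion.lift_fac _ _ _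
  have hkb : k ≫ WidePullback.base _ ≫ iV = W.ι ≫ WidePullback.base _ := by
    rw [← Category.assoc]
    erw [WidePullback.lift_base]
    exact IsOpenImmersion.lift_fac _ _ _
  have hkj : k ≫ j = W.ι := by
    apply WidePullback.hom_ext
    · intro i
      rw [Category.assoc, hjπ, hkπ]
    · rw [Category.assoc, hjb, hkb]
  have h1 : k ≫ l = 𝟙 _ := by
    rw [← cancel_mono W.ι, Category.assoc, hl, hkj, Category.id_comp]
  have h2 : l ≫ k = 𝟙 _ := by
    apply WidePullback.hom_ext
    · intro i
      rw [← cancel_mono iU, Category.assoc, Category.assoc, hkπ, ← Category.assoc, hl, hjπ,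
        Category.id_comp]
    · rw [← cancel_mono iV, Category.assoc, Category.assoc, hkb, ← Category.assoc, hl, hjb,
        Category.id_comp]
  haveI : IsIso l := ⟨k, h2, h1⟩
  have hjl : j = l ≫ W.ι := hl.symm
  constructor
  · rw [hjl]
    infer_instance
  · apply Set.Subset.antisymm
    · rintro _ ⟨y, rfl⟩
      exact hjW' y
    · intro x hx
      refine ⟨k.base ⟨x, hx⟩, ?_⟩
      rw [← Scheme.Hom.comp_apply, hkj]
      rfl

end Groth.Agent.Lib.SymFlatH6
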