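import Mathlib
import Groth.Prelude.Def_SymProd
import Groth.Prelude.Def_SymTen
import Groth.Agent.Lib.SymFlat1_helper6
import Groth.Agent.Lib.SymFlat2_helper6
import Groth.Agent.Lib.ProjQuot1_helper6
import Groth.Agent.Lib.GQuot2_helper6
import Groth.Agent.Lib.FlatTS2_helper1
import Groth.Agent.Lib.FinDesc5_helper6

/-!
# Flatness of symmetric products (helper6)

`Spec T^n_A(B) ⟶ Spec TS^n_A(B)` is a quotient by the symmetric group; charts of a symmetric product of an (AF)
morphism are of this form, so a symmetric product of a flat (AF) morphism is flat (by flatness of `TS^n_A(B)` for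
flat `B`, helper1).
-/

set_option backward.isDefEq.respectTransparency false
set_option backward.isDefEq.respectTransparency.types false
set_option autoImplicit false

universe u

open CategoryTheory CategoryTheory.Limits AlgebraicGeometry TopologicalSpace SymProd
open scoped TensorProduct

namespace Groth.Agent.Lib.SymFlatH6

open Groth.Agent.Lib.SymAffH6

section TSquot

variable (A B : Type u) [CommRing A] [CommRing B] [Algebra A B] (n : ℕ)

/-- The inclusion of the symmetric tensors. -/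
noncomputable def θTS : CommRingCat.of (SymTen.TS A B n) ⟶ CommRingCat.of (Tn A B n) :=
  CommRingCat.ofHom (SymTen.TS A B n).val.toRingHom

/-- The structure map of the symmetric tensors. -/
noncomputable def algTS : CommRingCat.of A ⟶ CommRingCat.of (SymTen.TS A B n) :=
  CommRingCat.ofHom (algebraMap A (SymTen.TS A B n))

lemma algTS_θTS : algTS A B n ≫ θTS A B n = alg A B n := by
  ext a
  rfl

/-- The action of the symmetric group on `Spec T^n`. -/
noncomputable def ρT : ULift.{u} (Equiv.Perm (Fin n)) →* Aut (Spec (CommRingCat.of (Tn A B n))) :=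
  ((eT A B n).symm.conjAut.toMonoidHom).comp (permActU (fS A B) n)

lemma ρT_hom (g : ULift.{u} (Equiv.Perm (Fin n))) :
    (ρT A B n g).hom = Spec.map (permC A B n g.down⁻¹) := by
  change toP A B n ≫ permHom (fS A B) n g.down ≫ fromP A B n = _
  rw [← Category.assoc, toP_permHom, Category.assoc, toP_fromP, Category.comp_id]

lemma ρT_inv (g : ULift.{u} (Equiv.Perm (Fin n))) :
    (ρT A B n g).inv = Spec.map (permC A B n g.down) := by
  change toP A B n ≫ permHom (fS A B) n g.down⁻¹ ≫ fromP A B n = _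
  rw [← Category.assoc, toP_permHom, Category.assoc, toP_fromP, Category.comp_id, inv_inv]

theorem isQuot_TS : SGA1.IsQuot (ρT A B n) (Spec.map (θTS A B n)) := by
  have h1 : Function.Injective (θTS A B n).hom := by
    intro x y hxy
    exact Subtype.ext hxy
  have h2 : ∀ g : ULift.{u} (Equiv.Perm (Fin n)),
      θTS A B n ≫ permC A B n g.down = θTS A B n := by
    intro g
    ext t
    change SymTen.perm A B n g.down t.1 = t.1
    rw [SymTen.perm_apply]
    exact t.2 g.down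
  have h3 : ∀ a : CommRingCat.of (Tn A B n),
      (∀ g : ULift.{u} (Equiv.Perm (Fin n)), (permC A B n g.down).hom a = a) →
        a ∈ Set.range (θTS A B n).hom := by
    intro a ha
    refine ⟨⟨a, fun σ => ?_⟩, rfl⟩
    rw [← SymTen.perm_apply]
    exact ha ⟨σ⟩
  have h0 : ∀ g, (ρT A B n g).inv = Spec.map (permC A B n g.down) := ρT_inv A B n
  exact ProjQuotH6.isQuot_Spec (G := ULift.{u} (Equiv.Perm (Fin n)))
    (A' := CommRingCat.of (Tn A B n)) (B' := CommRingCat.of (SymTen.TS A B n))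
    (θTS A B n) (fun g => permC A B n g.down) (ρT A B n) h0 h1 h2 h3

end TSquot

section local_

lemma flat_of_local {Y S : Scheme.{u}} (g : Y ⟶ S)
    (H : ∀ y : Y, ∃ (Z : Scheme.{u}) (m : Z ⟶ Y), IsOpenImmersion m ∧ y ∈ Set.range m.base ∧
      Flat (m ≫ g)) : Flat g := by
  choose Z m hm hy hfl using H
  refine IsZariskiLocalAtSource.of_iSup_eq_top (P := @Flat) (fun y => (m y).opensRange) ?_ ?_
  · rw [eq_top_iff]
    intro y _
    exact Opens.mem_iSup.mpr ⟨y, hy y⟩
  · intro y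
    have e : (m y).opensRange.ι ≫ g = (Scheme.Hom.isoOpensRange (m y)).inv ≫ (m y) ≫ g := by
      rw [← Category.assoc, Scheme.Hom.isoOpensRange_inv_comp]
    rw [e]
    haveI := hfl y
    infer_instance

end local_

section chart

variable {X S Y : Scheme.{u}} (f : X ⟶ S) (n : ℕ) (q : fibPow f n ⟶ Y) (g : Y ⟶ S)

theorem chart_flat (hq : IsSymProd f n q g) {V : S.Opens} (hV : IsAffineOpen V) {U : X.Opens}
    (hU : IsAffineOpen U) (hUV : U ≤ f ⁻¹ᵁ V) (hfl : (f.appLE V U hUV).hom.Flat) :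
    ∃ (Z : Scheme.{u}) (m : Z ⟶ Y), IsOpenImmersion m ∧
      (∀ x ∈ symOpen f n V U, q.base x ∈ Set.range m.base) ∧ Flat (m ≫ g) := by
  letI : Algebra Γ(S, V) Γ(X, U) := (f.appLE V U hUV).hom.toAlgebra
  haveI : Module.Flat Γ(S, V) Γ(X, U) := hfl
  haveI hTSflat : Module.Flat Γ(S, V) (SymTen.TS Γ(S, V) Γ(X, U) n) := FlatTSH1.flat_TS
  have h : fS Γ(S, V) Γ(X, U) ≫ hV.fromSpec = hU.fromSpec ≫ f :=
    IsAffineOpen.SpecMap_appLE_fromSpec f hV hU hUV
  obtain ⟨hjo, hjr⟩ := jmap_spec f (fS Γ(S, V) Γ(X, U)) hU.fromSpec hV.fromSpec h n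
  rw [hV.opensRange_fromSpec, hU.opensRange_fromSpec] at hjr
  set j := jmap f (fS Γ(S, V) Γ(X, U)) hU.fromSpec hV.fromSpec h n with hj
  let J : Spec (CommRingCat.of (Tn Γ(S, V) Γ(X, U) n)) ⟶ fibPow f n := toP Γ(S, V) Γ(X, U) n ≫ j
  haveI : IsIso (toP Γ(S, V) Γ(X, U) n) := (eT Γ(S, V) Γ(X, U) n).isIso_hom
  haveI : IsOpenImmersion J := inferInstance
  have hQ₂ := isQuot_TS Γ(S, V) Γ(X, U) n
  have hi : ∀ σ, (ρT Γ(S, V) Γ(X, U) n σ).hom ≫ J = J ≫ (permActU f n σ).hom := by
    intro σ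
    rw [ρT_hom, permActU_hom]
    change _ ≫ toP Γ(S, V) Γ(X, U) n ≫ j = (toP Γ(S, V) Γ(X, U) n ≫ j) ≫ _
    rw [← Category.assoc, ← toP_permHom, Category.assoc, Category.assoc, hj, jmap_permHom]
  have hinv : ∀ σ, (ρT Γ(S, V) Γ(X, U) n σ).hom ≫ J ≫ q = J ≫ q := by
    intro σ
    rw [← Category.assoc, hi, Category.assoc, hq.isQuot.inv]
  obtain ⟨m, hm, -⟩ := Groth.Agent.S2925.result (ρT Γ(S, V) Γ(X, U) n)
    (Spec.map (θTS Γ(S, V) Γ(X, U) n)) hQ₂ Y (J ≫ q) hinv
  have hmo := (GQuotH6.isOpenImmersion_and_isPullback (permActU f n) q hq.isQuot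
    (ρT Γ(S, V) Γ(X, U) n) (Spec.map (θTS Γ(S, V) Γ(X, U) n)) hQ₂ J hi m hm).1
  refine ⟨_, m, hmo, ?_, ?_⟩
  · intro x hx
    have hx' : x ∈ Set.range j.base := by
      rw [hjr]
      exact hx
    obtain ⟨t, rfl⟩ := hx'
    refine ⟨(Spec.map (θTS Γ(S, V) Γ(X, U) n)).base ((fromP Γ(S, V) Γ(X, U) n).base t), ?_⟩
    rw [← Scheme.Hom.comp_apply, ← Scheme.Hom.comp_apply, hm]
    change ((fromP Γ(S, V) Γ(X, U) n ≫ toP Γ(S, V) Γ(X, U) n ≫ j) ≫ q).base t = _
    rw [← Category.assoc (fromP Γ(S, V) Γ(X, U) n), fromP_toP, Category.id_comp]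
    rfl
  · haveI : Epi (Spec.map (θTS Γ(S, V) Γ(X, U) n)) := IsQuotH8.epi_of_isQuot _ _ hQ₂
    have e : m ≫ g = Spec.map (algTS Γ(S, V) Γ(X, U) n) ≫ hV.fromSpec := by
      rw [← cancel_epi (Spec.map (θTS Γ(S, V) Γ(X, U) n)), ← Category.assoc, hm, Category.assoc,
        hq.over, ← Category.assoc (Spec.map _), ← Spec.map_comp, algTS_θTS]
      change toP Γ(S, V) Γ(X, U) n ≫ j ≫ _ = _
      rw [hj, jmap_base, toP_base_assoc]
    rw [e]
    haveI : Flat (Spec.map (algTS Γ(S, V) Γ(X, U) n)) := by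
      rw [Flat.SpecMap_iff]
      exact RingHom.flat_algebraMap_iff.mpr hTSflat
    infer_instance

end chart

section main

variable {X S Y : Scheme.{u}} (f : X ⟶ S) [Flat f]

theorem flat_symProd (hAF : SymProd.IsAF f) (n : ℕ) (q : fibPow f n ⟶ Y) (g : Y ⟶ S)
    (hq : IsSymProd f n q g) : Flat g := by
  classical
  apply flat_of_local
  intro y
  obtain ⟨hsurj, -, -⟩ := Groth.Agent.S2908.result (permActU f n) q hq.isQuot
  obtain ⟨x, rfl⟩ := hsurj y
  obtain ⟨V, hV, hsV, -⟩ := exists_isAffineOpen_mem_and_subset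
    (x := (WidePullback.base (fun _ : Fin n => f)).base x) (U := ⊤) trivial
  let T : Finset X := Finset.univ.image
    (fun i : Fin n => (WidePullback.π (fun _ : Fin n => f) i).base x)
  have hT : ∀ y ∈ T, f.base y = (WidePullback.base (fun _ : Fin n => f)).base x := by
    intro y hy
    obtain ⟨i, -, rfl⟩ := Finset.mem_image.mp hy
    exact π_base_apply f n i x
  obtain ⟨U₀, hU₀, hTU₀⟩ := hAF _ T hT
  obtain ⟨D, hD, hDV, -, hTD⟩ := Groth.Agent.Lib.FinDescH6.exists_affine_between hU₀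
    (f ⁻¹ᵁ V) (T : Set X) T.finite_toSet
    (by
      intro y hy
      change f.base y ∈ V
      rw [hT y hy]
      exact hsV)
    (fun y hy => hTU₀ y hy)
  have hx : x ∈ symOpen f n V D := by
    rw [mem_symOpen]
    refine ⟨hsV, fun i => hTD ?_⟩
    exact Finset.mem_coe.mpr (Finset.mem_image.mpr ⟨i, Finset.mem_univ _, rfl⟩)
  have hfl : (f.appLE V D hDV).hom.Flat :=
    HasRingHomProperty.appLE @Flat f inferInstance ⟨V, hV⟩ ⟨D, hD⟩ hDV
  obtain ⟨Z, m, hm, hr, hflat⟩ := chart_flat f n q g hq hV hD hDV hfl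
  exact ⟨Z, m, hm, hr x hx, hflat⟩

end main

end Groth.Agent.Lib.SymFlatH6
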