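import Mathlib
import Groth.Prelude.Def_SymTen

/-!
# Invariants of `N ⊗ T^d(L)` for a finite free module `L` (helper6)

For `L = κ → A` and any `A`-module `N`, every element of `N ⊗[A] T^d(L)` fixed by all permutations of the tensor
factors comes from `N ⊗[A] TS^d(L)`.
-/

set_option autoImplicit false

universe u

open scoped TensorProduct
open Module

namespace Groth.Agent.Lib.TSBaseChangeH6

open Classical

section free

variable {A : Type u} [CommRing A] {d : ℕ} {κ : Type} [Fintype κ] [DecidableEq κ]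
variable (N : Type u) [AddCommGroup N] [Module A N]

/-- the basis of the tensor power of `κ → A`. -/
noncomputable def bT : Basis (Fin d → κ) A (⨂[A] _ : Fin d, (κ → A)) :=
  Basis.piTensorProduct (fun _ => Pi.basisFun A κ)

theorem bT_apply (w : Fin d → κ) :
    bT (A := A) (d := d) w = PiTensorProduct.tprod A (fun k => Pi.basisFun A κ (w k)) :=
  Basis.piTensorProduct_apply _ _

theorem reindex_bT (σ : Equiv.Perm (Fin d)) (w : Fin d → κ) :
    PiTensorProduct.reindex A (fun _ : Fin d => κ → A) σ (bT w) = bT (fun i => w (σ.symm i)) := by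
  rw [bT_apply, bT_apply, PiTensorProduct.reindex_tprod]

/-- the orbit relation on words. -/
def orbSetoid (d : ℕ) (κ : Type) : Setoid (Fin d → κ) where
  r w w' := ∃ σ : Equiv.Perm (Fin d), w' = fun i => w (σ.symm i)
  iseqv := by
    refine ⟨fun w => ⟨1, rfl⟩, ?_, ?_⟩
    · rintro w w' ⟨σ, rfl⟩
      refine ⟨σ.symm, ?_⟩
      funext i
      show w i = w (σ.symm (σ i))
      rw [Equiv.symm_apply_apply]
    · rintro w w' w'' ⟨σ, rfl⟩ ⟨τ, rfl⟩
      refine ⟨σ.trans τ, ?_⟩
      funext i
      rfl

/-- the orbit sum. -/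
noncomputable def orbSum (q : Quotient (orbSetoid d κ)) : ⨂[A] _ : Fin d, (κ → A) :=
  ∑ w ∈ Finset.univ.filter (fun w : Fin d → κ => Quotient.mk (orbSetoid d κ) w = q), bT w

theorem orbSum_mem (q : Quotient (orbSetoid d κ)) :
    orbSum (A := A) q ∈ SymTen.TS A (κ → A) d := by
  rw [SymTen.mem_TS_iff]
  intro σ
  unfold orbSum
  rw [map_sum]
  simp only [reindex_bT]
  refine Finset.sum_bij' (fun w _ => fun i => w (σ.symm i)) (fun w _ => fun i => w (σ i))
    ?_ ?_ ?_ ?_ ?_
  · intro w hw
    rw [Finset.mem_filter] at hw ⊢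
    refine ⟨Finset.mem_univ _, ?_⟩
    rw [← hw.2]
    exact (Quotient.sound (s := orbSetoid d κ) ⟨σ, rfl⟩).symm
  · intro w hw
    rw [Finset.mem_filter] at hw ⊢
    refine ⟨Finset.mem_univ _, ?_⟩
    rw [← hw.2]
    refine (Quotient.sound (s := orbSetoid d κ) ⟨σ.symm, ?_⟩).symm
    funext i
    rfl
  · intro w _
    funext i
    show w (σ.symm (σ i)) = w i
    rw [Equiv.symm_apply_apply]
  · intro w _
    funext i
    show w (σ (σ.symm i)) = w i
    rw [Equiv.apply_symm_apply]
  · intro w _
    rfl

theorem coord_reindex (σ : Equiv.Perm (Fin d)) (w' : Fin d → κ) :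
    (bT (A := A) (d := d)).coord w' ∘ₗ
      (PiTensorProduct.reindex A (fun _ : Fin d => κ → A) σ).toLinearMap =
    (bT (A := A) (d := d)).coord (fun i => w' (σ i)) := by
  apply (bT (A := A) (d := d) (κ := κ)).ext
  intro w
  rw [LinearMap.comp_apply, LinearEquiv.coe_coe, reindex_bT, Basis.coord_apply, Basis.coord_apply,
    Basis.repr_self, Basis.repr_self, Finsupp.single_apply, Finsupp.single_apply]
  congr 1
  apply propext
  constructor
  · intro h
    funext i
    rw [← h]
    simp
  · intro h
    rw [h]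
    funext i
    simp

/-- the coefficients of an invariant element are constant on orbits. -/
theorem coeff_invariant (x : N ⊗[A] (⨂[A] _ : Fin d, (κ → A)))
    (hx : ∀ σ : Equiv.Perm (Fin d),
      (PiTensorProduct.reindex A (fun _ : Fin d => κ → A) σ).toLinearMap.lTensor N x = x)
    (σ : Equiv.Perm (Fin d)) (w : Fin d → κ) :
    TensorProduct.equivFinsuppOfBasisRight (bT (A := A) (d := d)) x (fun i => w (σ i)) =
      TensorProduct.equivFinsuppOfBasisRight (bT (A := A) (d := d)) x w := by
  conv_rhs => rw [← hx σ]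
  rw [TensorProduct.equivFinsuppOfBasisRight_apply, TensorProduct.equivFinsuppOfBasisRight_apply,
    ← LinearMap.comp_apply, ← LinearMap.lTensor_comp, coord_reindex]

theorem mem_range_of_invariant_free (x : N ⊗[A] (⨂[A] _ : Fin d, (κ → A)))
    (hx : ∀ σ : Equiv.Perm (Fin d),
      (PiTensorProduct.reindex A (fun _ : Fin d => κ → A) σ).toLinearMap.lTensor N x = x) :
    x ∈ LinearMap.range
      ((Subalgebra.toSubmodule (SymTen.TS A (κ → A) d)).subtype.lTensor N) := by
  set c := TensorProduct.equivFinsuppOfBasisRight (bT (A := A) (d := d) (κ := κ)) x with hc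
  have hxc : x = ∑ w : Fin d → κ, c w ⊗ₜ[A] bT w := by
    have h1 : x = (TensorProduct.equivFinsuppOfBasisRight (bT (A := A) (d := d) (κ := κ))).symm c := by
      rw [hc, LinearEquiv.symm_apply_apply]
    rw [h1, TensorProduct.equivFinsuppOfBasisRight_symm_apply, Finsupp.sum_fintype]
    intro w
    exact TensorProduct.zero_tmul _ _
  have hconst : ∀ w w' : Fin d → κ, Quotient.mk (orbSetoid d κ) w = Quotient.mk (orbSetoid d κ) w' →
      c w = c w' := by
    intro w w' h
    obtain ⟨σ, rfl⟩ := Quotient.exact h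
    exact (coeff_invariant N x hx σ.symm w).symm
  have hsum : x = ∑ q : Quotient (orbSetoid d κ), c q.out ⊗ₜ[A] orbSum (A := A) q := by
    rw [hxc, ← Finset.sum_fiberwise (Finset.univ) (Quotient.mk (orbSetoid d κ))]
    refine Finset.sum_congr rfl fun q _ => ?_
    unfold orbSum
    rw [TensorProduct.tmul_sum]
    refine Finset.sum_congr rfl fun w hw => ?_
    rw [Finset.mem_filter] at hw
    rw [hconst w q.out (by rw [hw.2, Quotient.out_eq])]
  rw [hsum]
  refine Submodule.sum_mem _ fun q _ => ?_
  exact ⟨c q.out ⊗ₜ[A] ⟨orbSum (A := A) q, orbSum_mem q⟩, rfl⟩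

end free

end Groth.Agent.Lib.TSBaseChangeH6
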