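import Mathlib
import Groth.Prelude.Def_SymTen
import Groth.Agent.Lib.TSBaseChange1_helper6
import Groth.Agent.Lib.FlatTS_helper1
import Groth.Agent.Lib.GammaRed_helper1

/-!
# Invariants of `N ⊗ T^d(B)` for flat `B` (helper6)

For a flat `A`-algebra `B` and any `A`-module `N`, every element of `N ⊗[A] T^d(B)` fixed by all permutations of the
tensor factors comes from `N ⊗[A] TS^d(B)` (and `N ⊗ TS^d(B) → N ⊗ T^d(B)` is injective, helper1): symmetric tensors
of a flat algebra commute with arbitrary base change.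
-/

set_option autoImplicit false

universe u

open scoped TensorProduct
open Module

namespace Groth.Agent.Lib.TSBaseChangeH6

open Classical
open Groth.Agent.Lib.FlatTSH1

section flat

variable {A : Type u} [CommRing A] {d : ℕ}

theorem flat_tpow (Y : Type u) [AddCommGroup Y] [Module A Y] [Module.Flat A Y] :
    ∀ d : ℕ, Module.Flat A (⨂[A] _ : Fin d, Y) := by
  intro d
  induction d with
  | zero =>
    exact Module.Flat.of_linearEquiv (PiTensorProduct.isEmptyEquiv (R := A) (s := fun _ : Fin 0 => Y)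
      (Fin 0))
  | succ d ih =>
    haveI := ih
    refine Module.Flat.of_retract (splitL (A := A) Y d) (joinL (A := A) Y d) ?_
    apply LinearMap.ext
    intro t
    exact joinL_splitL Y d t

theorem exists_fin_sum_mod {N M : Type u} [AddCommGroup N] [Module A N] [AddCommGroup M]
    [Module A M] (x : N ⊗[A] M) :
    ∃ (l : ℕ) (n : Fin l → N) (t : Fin l → M), x = ∑ i, n i ⊗ₜ[A] t i := by
  induction x using TensorProduct.induction_on with
  | zero => exact ⟨0, Fin.elim0, Fin.elim0, by simp⟩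
  | tmul s b => exact ⟨1, fun _ => s, fun _ => b, by simp⟩
  | add x y hx hy =>
    obtain ⟨n₁, s₁, b₁, rfl⟩ := hx
    obtain ⟨n₂, s₂, b₂, rfl⟩ := hy
    refine ⟨n₁ + n₂, Fin.append s₁ s₂, Fin.append b₁ b₂, ?_⟩
    rw [Fin.sum_univ_add]
    simp

theorem exists_lift_fintype {X : Type u} [AddCommGroup X] [Module A X] {I : Type} [Fintype I]
    (z : I → ⨂[A] _ : Fin d, X) :
    ∃ (ι : Type) (_ : Fintype ι) (_ : DecidableEq ι) (u : (ι → A) →ₗ[A] X)
      (z₀ : I → ⨂[A] _ : Fin d, (ι → A)), ∀ i, lmap u (z₀ i) = z i := by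
  obtain ⟨ι, i1, i2, u, z₀, h⟩ := exists_lift_family (A := A) (d := d) (X := X) (Fintype.card I)
    (fun k => z ((Fintype.equivFin I).symm k))
  refine ⟨ι, i1, i2, u, fun i => z₀ (Fintype.equivFin I i), fun i => ?_⟩
  rw [h, Equiv.symm_apply_apply]

variable {Y : Type u} [CommRing Y] [Algebra A Y] (N : Type u) [AddCommGroup N] [Module A N]

/-- the map on symmetric tensors induced by a linear map. -/
noncomputable def TSmap {X : Type u} [CommRing X] [Algebra A X] (f : X →ₗ[A] Y) :
    Subalgebra.toSubmodule (SymTen.TS A X d) →ₗ[A] Subalgebra.toSubmodule (SymTen.TS A Y d) :=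
  (lmap (d := d) f ∘ₗ (Subalgebra.toSubmodule (SymTen.TS A X d)).subtype).codRestrict _
    (fun t => lmap_mem_TS f t.1 t.2)

theorem subtype_TSmap {X : Type u} [CommRing X] [Algebra A X] (f : X →ₗ[A] Y) :
    (Subalgebra.toSubmodule (SymTen.TS A Y d)).subtype ∘ₗ TSmap (d := d) f =
      lmap (d := d) f ∘ₗ (Subalgebra.toSubmodule (SymTen.TS A X d)).subtype := by
  apply LinearMap.ext
  intro t
  rfl

theorem mem_range_of_invariant [Module.Flat A Y] (x : N ⊗[A] (⨂[A] _ : Fin d, Y))
    (hx : ∀ σ : Equiv.Perm (Fin d),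
      (PiTensorProduct.reindex A (fun _ : Fin d => Y) σ).toLinearMap.lTensor N x = x) :
    x ∈ LinearMap.range ((Subalgebra.toSubmodule (SymTen.TS A Y d)).subtype.lTensor N) := by
  haveI : Module.Flat A (⨂[A] _ : Fin d, Y) := flat_tpow Y d
  obtain ⟨l, n, t, rfl⟩ := exists_fin_sum_mod x
  -- the relations
  have hrel : ∀ σ : Equiv.Perm (Fin d),
      ∑ i, n i ⊗ₜ[A] (PiTensorProduct.reindex A (fun _ : Fin d => Y) σ (t i) - t i) = 0 := by
    intro σ
    have := hx σ
    rw [map_sum] at this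
    simp only [LinearMap.lTensor_tmul, LinearEquiv.coe_coe] at this
    simp only [TensorProduct.tmul_sub, Finset.sum_sub_distrib]
    rw [this, sub_self]
  have hinj : Function.Injective (LinearMap.rTensor (⨂[A] _ : Fin d, Y)
      (Submodule.span A (Set.range n)).subtype) :=
    Module.Flat.rTensor_preserves_injective_linearMap _ (Submodule.injective_subtype _)
  have hvan := fun σ : Equiv.Perm (Fin d) =>
    TensorProduct.vanishesTrivially_of_sum_tmul_eq_zero_of_rTensor_injective A hinj (hrel σ)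
  choose k a y hy ha using hvan
  -- lift everything to a finite free module
  let I := Fin l ⊕ (Σ σ : Equiv.Perm (Fin d), Fin (k σ))
  let z : I → ⨂[A] _ : Fin d, Y := Sum.elim t (fun p => y p.1 p.2)
  obtain ⟨ι, _, _, u, z₀, hz₀⟩ := exists_lift_fintype (A := A) (d := d) z
  -- the tensors to be killed
  let wf : Equiv.Perm (Fin d) × Fin l → ⨂[A] _ : Fin d, (ι → A) := fun p =>
    PiTensorProduct.reindex A (fun _ : Fin d => ι → A) p.1 (z₀ (Sum.inl p.2)) - z₀ (Sum.inl p.2) -
      ∑ j, a p.1 p.2 j • z₀ (Sum.inr ⟨p.1, j⟩)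
  have hside : ∀ w ∈ (Finset.univ : Finset (Equiv.Perm (Fin d) × Fin l)).toList.map wf,
      PiTensorProduct.map (fun _ => u) w = 0 := by
    intro w hw
    obtain ⟨p, -, rfl⟩ := List.mem_map.1 hw
    show lmap u (wf p) = 0
    simp only [wf, map_sub, map_sum, map_smul, lmap_reindex, hz₀]
    rw [sub_eq_zero]
    exact hy p.1 p.2
  obtain ⟨κ, _, _, a', y', hu, hk⟩ := plist_all (A := A) (M := Y) d ι u _ hside
  have hkill : ∀ (σ : Equiv.Perm (Fin d)) (i : Fin l),
      PiTensorProduct.reindex A (fun _ : Fin d => κ → A) σ (lmap a' (z₀ (Sum.inl i))) -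
        lmap a' (z₀ (Sum.inl i)) = ∑ j, a σ i j • lmap a' (z₀ (Sum.inr ⟨σ, j⟩)) := by
    intro σ i
    have h := hk _ (List.mem_map.2 ⟨(σ, i), Finset.mem_toList.2 (Finset.mem_univ _), rfl⟩)
    have h' : lmap a' (wf (σ, i)) = 0 := h
    simp only [wf, map_sub, map_sum, map_smul, lmap_reindex] at h'
    exact sub_eq_zero.mp h'
  -- the invariant element over the free module
  obtain ⟨x', hx'⟩ : ∃ x' : N ⊗[A] (⨂[A] _ : Fin d, (κ → A)),
      x' = ∑ i, n i ⊗ₜ[A] lmap a' (z₀ (Sum.inl i)) := ⟨_, rfl⟩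
  have hx'inv : ∀ σ : Equiv.Perm (Fin d),
      (PiTensorProduct.reindex A (fun _ : Fin d => κ → A) σ).toLinearMap.lTensor N x' = x' := by
    intro σ
    rw [← sub_eq_zero, hx', map_sum, ← Finset.sum_sub_distrib]
    simp only [LinearMap.lTensor_tmul, LinearEquiv.coe_coe, ← TensorProduct.tmul_sub, hkill]
    simp only [TensorProduct.tmul_sum, TensorProduct.tmul_smul]
    rw [Finset.sum_comm]
    refine Finset.sum_eq_zero fun j _ => ?_
    have e : ∑ i, a σ i j • (n i ⊗ₜ[A] lmap a' (z₀ (Sum.inr ⟨σ, j⟩))) =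
        (∑ i, a σ i j • n i) ⊗ₜ[A] lmap a' (z₀ (Sum.inr ⟨σ, j⟩)) := by
      rw [TensorProduct.sum_tmul]
      simp only [TensorProduct.smul_tmul']
    rw [e, ha σ j, TensorProduct.zero_tmul]
  obtain ⟨x'', hx''⟩ := mem_range_of_invariant_free N x' hx'inv
  have hxx : ∑ i, n i ⊗ₜ[A] t i = (lmap (d := d) y').lTensor N x' := by
    rw [hx', map_sum]
    refine Finset.sum_congr rfl fun i _ => ?_
    rw [LinearMap.lTensor_tmul, ← LinearMap.comp_apply, ← lmap_comp, ← hu, hz₀]
    rfl
  refine ⟨(TSmap (d := d) y').lTensor N x'', ?_⟩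
  rw [hxx, ← hx'', ← LinearMap.comp_apply, ← LinearMap.comp_apply, ← LinearMap.lTensor_comp,
    ← LinearMap.lTensor_comp, subtype_TSmap]

end flat

end Groth.Agent.Lib.TSBaseChangeH6
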