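import Mathlib
import Groth.Prelude.Def_SymProd
import Groth.Prelude.Def_SymTen
import Groth.Agent.Lib.SymFlat3_helper6
import Groth.Agent.Lib.SymBC1_helper6
import Groth.Agent.Lib.SymBC2_helper6
import Groth.Agent.Lib.TSBaseChange2_helper6

/-!
# The local statement for base change of symmetric products (helper6)
-/

set_option backward.isDefEq.respectTransparency false
set_option backward.isDefEq.respectTransparency.types false
set_option autoImplicit false

universe u

open CategoryTheory CategoryTheory.Limits AlgebraicGeometry TopologicalSpace SymProd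
open scoped TensorProduct

namespace Groth.Agent.Lib.SymBCH6

open Groth.Agent.Lib.SymFlatH6

section alg

variable (A B : Type u) [CommRing A] [CommRing B] [Algebra A B] (n : ℕ)

/-- the inclusion of symmetric tensors as an algebra map. -/
noncomputable abbrev ιTS : SymTen.TS A B n →ₐ[A] Tn A B n := (SymTen.TS A B n).val

theorem lTensor_ιTS_injective [Module.Flat A B] (N : Type u) [CommRing N] [Algebra A N] :
    Function.Injective ((ιTS A B n).toLinearMap.lTensor N) :=
  Groth.Agent.Lib.GammaRedH1.lTensor_TS_injective (A := A) (d := n) (Y := B) N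

theorem mem_range_lTensor_ιTS [Module.Flat A B] (N : Type u) [CommRing N] [Algebra A N]
    (z : N ⊗[A] Tn A B n)
    (hz : ∀ g : ULift.{u} (Equiv.Perm (Fin n)),
      (SymTen.perm A B n g.down⁻¹).toLinearMap.lTensor N z = z) :
    z ∈ LinearMap.range ((ιTS A B n).toLinearMap.lTensor N) := by
  refine Groth.Agent.Lib.TSBaseChangeH6.mem_range_of_invariant (A := A) (d := n) (Y := B) N z ?_
  intro σ
  have h := hz ⟨σ⁻¹⟩
  rw [inv_inv] at h
  have e : (SymTen.perm A B n σ).toLinearMap =
      (PiTensorProduct.reindex A (fun _ : Fin n => B) σ).toLinearMap := by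
    apply LinearMap.ext
    intro t
    exact SymTen.perm_apply A B n σ t
  rw [← e]
  exact h

end alg


section geom

variable {A B : Type u} [CommRing A] [CommRing B] [Algebra A B] (n : ℕ)
variable {P Y S P' Y' S' : Scheme.{u}}

/-- the preimage of the range of the chart `m` is the range of `J`. -/
lemma preimage_opensRange_of_isPullback {R₁ R₂ : CommRingCat.{u}} (θ : R₁ ⟶ R₂) (q : P ⟶ Y)
    (m : Spec R₁ ⟶ Y) (J : Spec R₂ ⟶ P) [IsOpenImmersion m] [IsOpenImmersion J]
    (hpb : IsPullback (Spec.map θ) J m q) : q ⁻¹ᵁ m.opensRange = J.opensRange := by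
  apply le_antisymm
  · intro x hx
    obtain ⟨z, hz⟩ := hx
    obtain ⟨t, -, ht⟩ := Scheme.exists_preimage_of_isPullback hpb z x hz
    exact ⟨t, ht⟩
  · rintro x ⟨t, rfl⟩
    refine ⟨(Spec.map θ).base t, ?_⟩
    have := congrArg (fun k => k.base t) hpb.w
    simpa using this

end geom

end Groth.Agent.Lib.SymBCH6
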