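import Mathlib
import Groth.Prelude.Def_SymProd
import Groth.Prelude.Def_SymTen
import Groth.Agent.Lib.SymBC3_helper6
import Groth.Agent.Lib.GQuot6_helper6

/-!
# The local statement for base change of symmetric products, geometric form (helper6)
-/

set_option backward.isDefEq.respectTransparency false
set_option backward.isDefEq.respectTransparency.types false
set_option autoImplicit false

universe u

open CategoryTheory CategoryTheory.Limits AlgebraicGeometry TopologicalSpace SymProd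
open scoped TensorProduct

namespace Groth.Agent.Lib.SymBCH6

open Groth.Agent.Lib.SymFlatH6

section geom

variable {A B : Type u} [CommRing A] [CommRing B] [Algebra A B] [Module.Flat A B] (n : ℕ)
variable {P Y S P' Y' S' : Scheme.{u}}

set_option maxHeartbeats 1600000 in
theorem local_bc (q : P ⟶ Y) (g : Y ⟶ S) (b : S' ⟶ S) (c : P' ⟶ P) (q' : P' ⟶ Y')
    (cY : Y' ⟶ Y) (g' : Y' ⟶ S') (hY' : IsPullback cY g' g b) (hP' : IsPullback c q' q cY)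
    (ρ : ULift.{u} (Equiv.Perm (Fin n)) →* Aut P) (ρ' : ULift.{u} (Equiv.Perm (Fin n)) →* Aut P')
    (hρ₁ : ∀ σ, (ρ' σ).hom ≫ c = c ≫ (ρ σ).hom) (hρ₂ : ∀ σ, (ρ' σ).hom ≫ q' = q')
    (m : Spec (CommRingCat.of (SymTen.TS A B n)) ⟶ Y)
    (J : Spec (CommRingCat.of (Tn A B n)) ⟶ P)
    (iV : Spec (CommRingCat.of A) ⟶ S) [IsOpenImmersion m] [IsOpenImmersion J]
    [IsOpenImmersion iV]
    (hpb : IsPullback (Spec.map (θTS A B n)) J m q)
    (hJρ : ∀ σ : ULift.{u} (Equiv.Perm (Fin n)),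
      Spec.map (permC A B n σ.down⁻¹) ≫ J = J ≫ (ρ σ).hom)
    (hmg : m ≫ g = Spec.map (algTS A B n) ≫ iV)
    (V'S : S'.Opens) (hV'S : IsAffineOpen V'S) (hle : V'S ≤ b ⁻¹ᵁ iV.opensRange) :
    IsAffineOpen (cY ⁻¹ᵁ m.opensRange ⊓ g' ⁻¹ᵁ V'S) ∧
    Function.Injective (q'.app (cY ⁻¹ᵁ m.opensRange ⊓ g' ⁻¹ᵁ V'S)).hom ∧
    ∀ s : Γ(P', q' ⁻¹ᵁ (cY ⁻¹ᵁ m.opensRange ⊓ g' ⁻¹ᵁ V'S)),
      (∀ σ, (IsQuotH8.act ρ' q' hρ₂ σ (cY ⁻¹ᵁ m.opensRange ⊓ g' ⁻¹ᵁ V'S)).hom s = s) →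
      s ∈ Set.range (q'.app (cY ⁻¹ᵁ m.opensRange ⊓ g' ⁻¹ᵁ V'S)).hom := by
  obtain ⟨V, hVdef⟩ : ∃ V : Y.Opens, V = m.opensRange := ⟨_, rfl⟩
  obtain ⟨VS, hVSdef⟩ : ∃ VS : S.Opens, VS = iV.opensRange := ⟨_, rfl⟩
  obtain ⟨W, hWdef⟩ : ∃ W : P.Opens, W = q ⁻¹ᵁ V := ⟨_, rfl⟩
  obtain ⟨V', hV'def⟩ : ∃ V' : Y'.Opens, V' = cY ⁻¹ᵁ V ⊓ g' ⁻¹ᵁ V'S := ⟨_, rfl⟩
  obtain ⟨W', hW'def⟩ : ∃ W' : P'.Opens, W' = q' ⁻¹ᵁ V' := ⟨_, rfl⟩
  rw [← hVdef, ← hV'def]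
  rw [← hVSdef] at hle
  have hWJ : W = J.opensRange := by
    rw [hWdef, hVdef]
    exact preimage_opensRange_of_isPullback (θTS A B n) q m J hpb
  have hVaff : IsAffineOpen V := hVdef ▸ isAffineOpen_opensRange m
  have hVSaff : IsAffineOpen VS := hVSdef ▸ isAffineOpen_opensRange iV
  have hWaff : IsAffineOpen W := hWJ ▸ isAffineOpen_opensRange J
  -- `V ≤ g⁻¹ VS`
  have hVg : V ≤ g ⁻¹ᵁ VS := by
    rw [hVdef, hVSdef]
    rintro y ⟨z, rfl⟩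
    refine ⟨(Spec.map (algTS A B n)).base z, ?_⟩
    have := congrArg (fun k => k.base z) hmg
    simpa using this.symm
  have hWqg : W ≤ (q ≫ g) ⁻¹ᵁ VS := by
    rw [hWdef, Scheme.Hom.comp_preimage]
    exact fun x hx => hVg hx
  -- the first pushout square
  haveI := isIso_pushoutSection_of_isAffineOpen hY' hle hVg hV'def hVSaff hV'S hVaff
  have hpo1 := (isIso_pushoutSection_iff hY' hle hVg hV'def).mp inferInstance
  -- affineness of `V'`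
  have hV'aff : IsAffineOpen V' := by
    haveI : IsAffine VS.toScheme := hVSaff
    haveI : IsAffine V'S.toScheme := hV'S
    haveI : IsAffine V.toScheme := hVaff
    exact .of_isIso (Scheme.Hom.isPullback_resLE hY' hle hVg hV'def).isoPullback.hom
  refine ⟨hV'aff, ?_⟩
  -- the second pushout square
  have H2 : IsPullback c (q' ≫ g') (q ≫ g) b := hP'.paste_vert hY'
  have hW'eq : W' = c ⁻¹ᵁ W ⊓ (q' ≫ g') ⁻¹ᵁ V'S := by
    rw [hW'def, hV'def, hWdef, Scheme.Hom.comp_preimage, ← Scheme.Hom.comp_preimage c q, hP'.w,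
      Scheme.Hom.comp_preimage]
    rfl
  haveI := isIso_pushoutSection_of_isAffineOpen H2 hle hWqg hW'eq hVSaff hV'S hWaff
  have hpo2 := (isIso_pushoutSection_iff H2 hle hWqg hW'eq).mp inferInstance
  subst hW'def
  -- identifications of the rings of sections with `A`, `TS`, `Tn`
  let φA : Γ(S, VS) ≅ CommRingCat.of A := asIso (secHom iV VS hVSdef)
  let φR : Γ(Y, V) ≅ CommRingCat.of (SymTen.TS A B n) := asIso (secHom m V hVdef)
  let φC : Γ(P, W) ≅ CommRingCat.of (Tn A B n) := asIso (secHom J W hWJ)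
  have nR : g.appLE VS V hVg ≫ φR.hom = φA.hom ≫ algTS A B n :=
    secHom_naturality iV m g (algTS A B n) hmg.symm VS hVSdef V hVdef hVg
  have hJqg : Spec.map (alg A B n) ≫ iV = J ≫ q ≫ g := by
    rw [← Category.assoc J, ← hpb.w, Category.assoc, hmg, ← Category.assoc, ← Spec.map_comp,
      algTS_θTS]
  have nC : (q ≫ g).appLE VS W hWqg ≫ φC.hom = φA.hom ≫ alg A B n :=
    secHom_naturality iV J (q ≫ g) (alg A B n) hJqg VS hVSdef W hWJ hWqg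
  have nθ : q.appLE V W hWdef.le ≫ φC.hom = φR.hom ≫ θTS A B n :=
    secHom_naturality m J q (θTS A B n) hpb.w V hVdef W hWJ hWdef.le
  have hWρ : ∀ σ, W ≤ (ρ σ).hom ⁻¹ᵁ W := by
    intro σ
    rw [hWJ]
    rintro x ⟨t, rfl⟩
    refine ⟨(Spec.map (permC A B n σ.down⁻¹)).base t, ?_⟩
    have := congrArg (fun k => k.base t) (hJρ σ)
    simpa using this
  have nσ : ∀ σ, (ρ σ).hom.appLE W W (hWρ σ) ≫ φC.hom = φC.hom ≫ permC A B n σ.down⁻¹ :=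
    fun σ => secHom_naturality J J (ρ σ).hom (permC A B n σ.down⁻¹) (hJρ σ) W hWJ W hWJ (hWρ σ)
  -- the transformed pushout squares
  have hV'cY : V' ≤ cY ⁻¹ᵁ V := hV'def.le.trans inf_le_left
  have hV'g' : V' ≤ g' ⁻¹ᵁ V'S := hV'def.le.trans inf_le_right
  have hW'c : q' ⁻¹ᵁ V' ≤ c ⁻¹ᵁ W := hW'eq.le.trans inf_le_left
  have hW'qg : q' ⁻¹ᵁ V' ≤ (q' ≫ g') ⁻¹ᵁ V'S := hW'eq.le.trans inf_le_right
  have hqg' : (q' ≫ g').appLE V'S (q' ⁻¹ᵁ V') hW'qg = g'.appLE V'S V' hV'g' ≫ q'.app V' := by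
    rw [← Scheme.Hom.appLE_eq_app, Scheme.Hom.appLE_comp_appLE]
  have po1 : IsPushout (algTS A B n) (φA.inv ≫ b.appLE VS V'S hle)
      (φR.inv ≫ cY.appLE V V' hV'cY) (g'.appLE V'S V' hV'g') := by
    refine IsPushout.of_iso hpo1 φA φR (Iso.refl _) (Iso.refl _) nR ?_ ?_ ?_
    · rw [Iso.refl_hom, Category.comp_id, Iso.hom_inv_id_assoc]
    · rw [Iso.refl_hom, Category.comp_id, Iso.hom_inv_id_assoc]
    · rw [Iso.refl_hom, Iso.refl_hom, Category.comp_id, Category.id_comp]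
  have po2 : IsPushout (alg A B n) (φA.inv ≫ b.appLE VS V'S hle)
      (φC.inv ≫ c.appLE W (q' ⁻¹ᵁ V') hW'c) (g'.appLE V'S V' hV'g' ≫ q'.app V') := by
    rw [← hqg']
    refine IsPushout.of_iso hpo2 φA φC (Iso.refl _) (Iso.refl _) nC ?_ ?_ ?_
    · rw [Iso.refl_hom, Category.comp_id, Iso.hom_inv_id_assoc]
    · rw [Iso.refl_hom, Category.comp_id, Iso.hom_inv_id_assoc]
    · rw [Iso.refl_hom, Iso.refl_hom, Category.comp_id, Category.id_comp]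
  -- algebra structures
  letI iAA' : Algebra A Γ(S', V'S) := (φA.inv ≫ b.appLE VS V'S hle).hom.toAlgebra
  letI iA'R' : Algebra Γ(S', V'S) Γ(Y', V') := (g'.appLE V'S V' hV'g').hom.toAlgebra
  letI iRR' : Algebra (SymTen.TS A B n) Γ(Y', V') := (φR.inv ≫ cY.appLE V V' hV'cY).hom.toAlgebra
  letI iAR' : Algebra A Γ(Y', V') :=
    (algTS A B n ≫ φR.inv ≫ cY.appLE V V' hV'cY).hom.toAlgebra
  haveI : IsScalarTower A (SymTen.TS A B n) Γ(Y', V') := IsScalarTower.of_algebraMap_eq' rfl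
  haveI : IsScalarTower A Γ(S', V'S) Γ(Y', V') :=
    IsScalarTower.of_algebraMap_eq' (congrArg CommRingCat.Hom.hom po1.w)
  letI iA'C' : Algebra Γ(S', V'S) Γ(P', q' ⁻¹ᵁ V') :=
    (g'.appLE V'S V' hV'g' ≫ q'.app V').hom.toAlgebra
  letI iCC' : Algebra (Tn A B n) Γ(P', q' ⁻¹ᵁ V') :=
    (φC.inv ≫ c.appLE W (q' ⁻¹ᵁ V') hW'c).hom.toAlgebra
  letI iAC' : Algebra A Γ(P', q' ⁻¹ᵁ V') :=
    (alg A B n ≫ φC.inv ≫ c.appLE W (q' ⁻¹ᵁ V') hW'c).hom.toAlgebra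
  haveI : IsScalarTower A (Tn A B n) Γ(P', q' ⁻¹ᵁ V') := IsScalarTower.of_algebraMap_eq' rfl
  haveI : IsScalarTower A Γ(S', V'S) Γ(P', q' ⁻¹ᵁ V') :=
    IsScalarTower.of_algebraMap_eq' (congrArg CommRingCat.Hom.hom po2.w)
  haveI hpush1 : Algebra.IsPushout A Γ(S', V'S) (SymTen.TS A B n) Γ(Y', V') :=
    (CommRingCat.isPushout_iff_isPushout.mp po1).symm
  haveI hpush2 : Algebra.IsPushout A Γ(S', V'S) (Tn A B n) Γ(P', q' ⁻¹ᵁ V') :=
    (CommRingCat.isPushout_iff_isPushout.mp po2).symm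
  -- the maps
  let ι' : Γ(Y', V') →ₐ[Γ(S', V'S)] Γ(P', q' ⁻¹ᵁ V') :=
    { (q'.app V').hom with commutes' := fun _ => rfl }
  let σ₀ : ULift.{u} (Equiv.Perm (Fin n)) → Tn A B n →ₐ[A] Tn A B n :=
    fun g => SymTen.perm A B n g.down⁻¹
  let σ' : ULift.{u} (Equiv.Perm (Fin n)) →
      Γ(P', q' ⁻¹ᵁ V') →ₐ[Γ(S', V'S)] Γ(P', q' ⁻¹ᵁ V') := fun g =>
    { (IsQuotH8.act ρ' q' hρ₂ g V').hom with
      commutes' := fun a => IsQuotH8.act_app ρ' q' hρ₂ g V' ((g'.appLE V'S V' hV'g').hom a) }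
  have hι : ∀ r : SymTen.TS A B n, ι' (algebraMap (SymTen.TS A B n) Γ(Y', V') r) =
      algebraMap (Tn A B n) Γ(P', q' ⁻¹ᵁ V') (ιTS A B n r) := by
    intro r
    have e1 : (φR.inv ≫ cY.appLE V V' hV'cY) ≫ q'.app V' =
        θTS A B n ≫ φC.inv ≫ c.appLE W (q' ⁻¹ᵁ V') hW'c := by
      have e2 : cY.appLE V V' hV'cY ≫ q'.app V' =
          q.appLE V W hWdef.le ≫ c.appLE W (q' ⁻¹ᵁ V') hW'c := by
        rw [← Scheme.Hom.appLE_eq_app]
        exact appLE_square q' cY c q hP'.w.symm V V' W (q' ⁻¹ᵁ V') hV'cY le_rfl hWdef.le hW'c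
      have e3 : φR.inv ≫ q.appLE V W hWdef.le = θTS A B n ≫ φC.inv := by
        rw [Iso.inv_comp_eq, ← Category.assoc, ← nθ, Category.assoc, Iso.hom_inv_id,
          Category.comp_id]
      rw [Category.assoc, e2, ← Category.assoc, e3, Category.assoc]
    exact congrArg (fun k => k.hom r) e1
  have hσ : ∀ (g : ULift.{u} (Equiv.Perm (Fin n))) (t : Tn A B n),
      σ' g (algebraMap (Tn A B n) Γ(P', q' ⁻¹ᵁ V') t) =
        algebraMap (Tn A B n) Γ(P', q' ⁻¹ᵁ V') (σ₀ g t) := by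
    intro g t
    have e1 : (φC.inv ≫ c.appLE W (q' ⁻¹ᵁ V') hW'c) ≫ IsQuotH8.act ρ' q' hρ₂ g V' =
        permC A B n g.down⁻¹ ≫ φC.inv ≫ c.appLE W (q' ⁻¹ᵁ V') hW'c := by
      have e2 : c.appLE W (q' ⁻¹ᵁ V') hW'c ≫ IsQuotH8.act ρ' q' hρ₂ g V' =
          (ρ g).hom.appLE W W (hWρ g) ≫ c.appLE W (q' ⁻¹ᵁ V') hW'c := by
        unfold IsQuotH8.act
        rw [Scheme.Hom.appLE_comp_appLE, Scheme.Hom.appLE_comp_appLE]
        exact IsQuotH8.appLE_congr (hρ₁ g) _ _ _ _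
      have e3 : φC.inv ≫ (ρ g).hom.appLE W W (hWρ g) = permC A B n g.down⁻¹ ≫ φC.inv := by
        rw [Iso.inv_comp_eq, ← Category.assoc, ← nσ, Category.assoc, Iso.hom_inv_id,
          Category.comp_id]
      rw [Category.assoc, e2, ← Category.assoc, e3, Category.assoc]
    exact congrArg (fun k => k.hom t) e1
  have hmain := invariants_pushout (A := A) (A' := Γ(S', V'S)) (R := SymTen.TS A B n)
    (C := Tn A B n) (R' := Γ(Y', V')) (C' := Γ(P', q' ⁻¹ᵁ V')) (ιTS A B n) ι' hι σ₀ σ' hσ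
    (lTensor_ιTS_injective A B n Γ(S', V'S))
    (fun z hz => mem_range_lTensor_ιTS A B n Γ(S', V'S) z hz)
  exact hmain

end geom

end Groth.Agent.Lib.SymBCH6
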