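import Mathlib
import Groth.Prelude.Def_SymProd
import Groth.Prelude.Def_SymTen
import Groth.Agent.Lib.SymFlat3_helper6

/-!
# Charts of a symmetric product, with all their data (helper6)
-/

set_option backward.isDefEq.respectTransparency false
set_option backward.isDefEq.respectTransparency.types false
set_option autoImplicit false

universe u

open CategoryTheory CategoryTheory.Limits AlgebraicGeometry TopologicalSpace SymProd
open scoped TensorProduct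

namespace Groth.Agent.Lib.SymBCH6

open Groth.Agent.Lib.SymFlatH6 Groth.Agent.Lib.SymAffH6

section chart

variable {X S Y : Scheme.{u}} (f : X ⟶ S) (n : ℕ) (q : fibPow f n ⟶ Y) (g : Y ⟶ S)

theorem chart_data (hq : IsSymProd f n q g) {V : S.Opens} (hV : IsAffineOpen V) {U : X.Opens}
    (hU : IsAffineOpen U) (hUV : U ≤ f ⁻¹ᵁ V) [Algebra Γ(S, V) Γ(X, U)]
    (halg : algebraMap Γ(S, V) Γ(X, U) = (f.appLE V U hUV).hom) :
    ∃ (m : Spec (CommRingCat.of (SymTen.TS Γ(S, V) Γ(X, U) n)) ⟶ Y)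
      (J : Spec (CommRingCat.of (Tn Γ(S, V) Γ(X, U) n)) ⟶ fibPow f n),
      IsOpenImmersion m ∧ IsOpenImmersion J ∧
      IsPullback (Spec.map (θTS Γ(S, V) Γ(X, U) n)) J m q ∧
      (∀ σ : ULift.{u} (Equiv.Perm (Fin n)),
        Spec.map (permC Γ(S, V) Γ(X, U) n σ.down⁻¹) ≫ J = J ≫ (permActU f n σ).hom) ∧
      m ≫ g = Spec.map (algTS Γ(S, V) Γ(X, U) n) ≫ hV.fromSpec ∧
      (∀ x ∈ symOpen f n V U, q.base x ∈ Set.range m.base) := by
  have h : fS Γ(S, V) Γ(X, U) ≫ hV.fromSpec = hU.fromSpec ≫ f := by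
    have e : CommRingCat.ofHom (algebraMap Γ(S, V) Γ(X, U)) = f.appLE V U hUV := by
      rw [halg]
      rfl
    unfold fS
    rw [e]
    exact IsAffineOpen.SpecMap_appLE_fromSpec f hV hU hUV
  obtain ⟨hjo, hjr⟩ := jmap_spec f (fS Γ(S, V) Γ(X, U)) hU.fromSpec hV.fromSpec h n
  rw [hV.opensRange_fromSpec, hU.opensRange_fromSpec] at hjr
  set j := jmap f (fS Γ(S, V) Γ(X, U)) hU.fromSpec hV.fromSpec h n with hj
  let J : Spec (CommRingCat.of (Tn Γ(S, V) Γ(X, U) n)) ⟶ fibPow f n := toP Γ(S, V) Γ(X, U) n ≫ j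
  haveI : IsIso (toP Γ(S, V) Γ(X, U) n) := (eT Γ(S, V) Γ(X, U) n).isIso_hom
  haveI hJo : IsOpenImmersion J := inferInstance
  have hQ₂ := isQuot_TS Γ(S, V) Γ(X, U) n
  have hi : ∀ σ, (ρT Γ(S, V) Γ(X, U) n σ).hom ≫ J = J ≫ (permActU f n σ).hom := by
    intro σ
    rw [ρT_hom, permActU_hom]
    change _ ≫ toP Γ(S, V) Γ(X, U) n ≫ j = (toP Γ(S, V) Γ(X, U) n ≫ j) ≫ _
    rw [← Category.assoc, ← toP_permHom, Category.assoc, Category.assoc, hj, jmap_permHom]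
  have hinv : ∀ σ, (ρT Γ(S, V) Γ(X, U) n σ).hom ≫ J ≫ q = J ≫ q := by
    intro σ
    rw [← Category.assoc, hi, Category.assoc, hq.isQuot.inv]
  obtain ⟨m, hm, -⟩ := Groth.Agent.S2925.result (ρT Γ(S, V) Γ(X, U) n)
    (Spec.map (θTS Γ(S, V) Γ(X, U) n)) hQ₂ Y (J ≫ q) hinv
  obtain ⟨hmo, hpb⟩ := GQuotH6.isOpenImmersion_and_isPullback (permActU f n) q hq.isQuot
    (ρT Γ(S, V) Γ(X, U) n) (Spec.map (θTS Γ(S, V) Γ(X, U) n)) hQ₂ J hi m hm
  refine ⟨m, J, hmo, hJo, hpb, ?_, ?_, ?_⟩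
  · intro σ
    rw [← ρT_hom]
    exact hi σ
  · haveI : Epi (Spec.map (θTS Γ(S, V) Γ(X, U) n)) := IsQuotH8.epi_of_isQuot _ _ hQ₂
    rw [← cancel_epi (Spec.map (θTS Γ(S, V) Γ(X, U) n)), ← Category.assoc, hm, Category.assoc,
      hq.over, ← Category.assoc (Spec.map _), ← Spec.map_comp, algTS_θTS]
    change toP Γ(S, V) Γ(X, U) n ≫ j ≫ _ = _
    rw [hj, jmap_base, toP_base_assoc]
  · intro x hx
    have hx' : x ∈ Set.range j.base := by
      rw [hjr]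
      exact hx
    obtain ⟨t, rfl⟩ := hx'
    refine ⟨(Spec.map (θTS Γ(S, V) Γ(X, U) n)).base ((fromP Γ(S, V) Γ(X, U) n).base t), ?_⟩
    rw [← Scheme.Hom.comp_apply, ← Scheme.Hom.comp_apply, hm]
    change ((fromP Γ(S, V) Γ(X, U) n ≫ toP Γ(S, V) Γ(X, U) n ≫ j) ≫ q).base t = _
    rw [← Category.assoc (fromP Γ(S, V) Γ(X, U) n), fromP_toP, Category.id_comp]
    rfl

end chart

end Groth.Agent.Lib.SymBCH6
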