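import Mathlib
import Groth.Prelude.Def_SymProd
import Groth.Agent.Lib.IsQuot3_helper8

/-!
# Fibre powers and base change; quotients from a good affine cover (helper6)
-/

set_option backward.isDefEq.respectTransparency false
set_option backward.isDefEq.respectTransparency.types false
set_option autoImplicit false

universe u

open CategoryTheory CategoryTheory.Limits AlgebraicGeometry TopologicalSpace SymProd

namespace Groth.Agent.Lib.SymBCH6

section fibPow

variable {X S S' : Scheme.{u}} (f : X ⟶ S) (b : S' ⟶ S) (n : ℕ)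
  (c : fibPow (pullback.snd f b) n ⟶ fibPow f n)
  (hcπ : ∀ i : Fin n, c ≫ WidePullback.π (fun _ => f) i =
    WidePullback.π (fun _ => pullback.snd f b) i ≫ pullback.fst f b)
  (hcb : c ≫ WidePullback.base (fun _ => f) = WidePullback.base (fun _ => pullback.snd f b) ≫ b)

include hcπ hcb

/-- the fibre power of the base change is the base change of the fibre power. -/
theorem isPullback_fibPow : IsPullback c (WidePullback.base (fun _ : Fin n => pullback.snd f b))
    (WidePullback.base (fun _ : Fin n => f)) b := by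
  refine ⟨⟨hcb⟩, ⟨PullbackCone.IsLimit.mk _
    (fun s => WidePullback.lift s.snd
      (fun i => pullback.lift (s.fst ≫ WidePullback.π (fun _ => f) i) s.snd
        (by rw [Category.assoc, WidePullback.π_arrow, s.condition]))
      (fun i => by rw [pullback.lift_snd])) ?_ ?_ ?_⟩⟩
  · intro s
    apply WidePullback.hom_ext
    · intro i
      rw [Category.assoc, hcπ, ← Category.assoc, WidePullback.lift_π, pullback.lift_fst]
    · rw [Category.assoc, hcb, ← Category.assoc, WidePullback.lift_base, s.condition]
  · intro s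
    rw [WidePullback.lift_base]
  · intro s w hw1 hw2
    apply WidePullback.hom_ext
    · intro i
      rw [WidePullback.lift_π]
      apply pullback.hom_ext
      · rw [pullback.lift_fst, Category.assoc, ← hcπ, ← Category.assoc, hw1]
      · rw [pullback.lift_snd, Category.assoc, WidePullback.π_arrow, hw2]
    · rw [WidePullback.lift_base, hw2]

theorem permHom_comp_c (σ : Equiv.Perm (Fin n)) :
    permHom (pullback.snd f b) n σ ≫ c = c ≫ permHom f n σ := by
  apply WidePullback.hom_ext
  · intro i
    rw [Category.assoc, hcπ, permHom_π_assoc, Category.assoc, permHom_π, hcπ]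
  · rw [Category.assoc, hcb, permHom_base_assoc, Category.assoc, permHom_base, hcb]

end fibPow

section cover

variable {X Y : Scheme.{u}} {G : Type u} [Group G] [Finite G]

/-- A `G`-invariant affine morphism is a quotient if the target is covered by affine opens over which sections of the
target are the invariant sections. -/
theorem isQuot_of_good_cover (ρ : G →* Aut X) (p : X ⟶ Y) (haff : IsAffineHom p)
    (hinv : ∀ g : G, (ρ g).hom ≫ p = p)
    (H : ∀ y : Y, ∃ U : Y.Opens, y ∈ U ∧ IsAffineOpen U ∧ Function.Injective (p.app U).hom ∧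
      ∀ s : Γ(X, p ⁻¹ᵁ U), (∀ g, (IsQuotH8.act ρ p hinv g U).hom s = s) →
        s ∈ Set.range (p.app U).hom) : SGA1.IsQuot ρ p := by
  let 𝓑 : Set Y.Opens := {W | ∃ U : Y.Opens, IsAffineOpen U ∧ Function.Injective (p.app U).hom ∧
      (∀ s : Γ(X, p ⁻¹ᵁ U), (∀ g, (IsQuotH8.act ρ p hinv g U).hom s = s) →
        s ∈ Set.range (p.app U).hom) ∧ ∃ f : Γ(Y, U), W = Y.basicOpen f}
  have hB : Opens.IsBasis 𝓑 := by
    rw [Opens.isBasis_iff_nbhd]
    intro O y hy
    obtain ⟨U, hyU, hU, hinj, hrange⟩ := H y
    obtain ⟨f, hf1, hf2⟩ := hU.exists_basicOpen_le (V := O) ⟨y, hy⟩ hyU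
    exact ⟨Y.basicOpen f, ⟨U, hU, hinj, hrange, f, rfl⟩, hf2, hf1⟩
  refine IsQuotH8.isQuot_of_basis ρ p haff hinv 𝓑 hB ?_ ?_
  · rintro _ ⟨U, hU, hinj, hrange, f, rfl⟩
    exact (IsQuotH8.isQuot_basicOpen ρ p hinv hU (hU.preimage p) f hinj hrange).1
  · rintro _ ⟨U, hU, hinj, hrange, f, rfl⟩
    exact (IsQuotH8.isQuot_basicOpen ρ p hinv hU (hU.preimage p) f hinj hrange).2

end cover

end Groth.Agent.Lib.SymBCH6
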