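import Mathlib

/-!
Helper library (helper1): the conormal module of the standard presentation of a symmetric algebra.
APPEND-ONLY once landed.
-/

set_option autoImplicit false

namespace Groth.Agent.Lib.SymCotH1

open Algebra TensorProduct MvPolynomial

universe u

section LF

variable (A : Type u) [CommRing A] (m : ℕ)

/-- The linear form attached to a coefficient vector. -/
noncomputable def lf : (Fin m → A) →ₗ[A] MvPolynomial (Fin m) A where
  toFun v := ∑ j, C (v j) * X j
  map_add' v w := by
    simp only [Pi.add_apply, map_add, add_mul, Finset.sum_add_distrib]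
  map_smul' a v := by
    simp only [Pi.smul_apply, smul_eq_mul, map_mul, RingHom.id_apply, Finset.smul_sum]
    refine Finset.sum_congr rfl fun j _ => ?_
    rw [MvPolynomial.smul_eq_C_mul, mul_assoc]

theorem lf_apply (v : Fin m → A) : lf A m v = ∑ j, C (v j) * X j := rfl

theorem lf_single (j : Fin m) : lf A m (Pi.single j 1) = X j := by
  rw [lf_apply, Finset.sum_eq_single j]
  · rw [Pi.single_eq_same, map_one, one_mul]
  · intro i _ hij
    rw [Pi.single_eq_of_ne hij, map_zero, zero_mul]
  · intro h
    exact absurd (Finset.mem_univ j) h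

theorem pderiv_lf (v : Fin m → A) (j : Fin m) : pderiv j (lf A m v) = C (v j) := by
  rw [lf_apply, map_sum, Finset.sum_eq_single j]
  · rw [pderiv_C_mul, pderiv_X_self, mul_one]
  · intro i _ hij
    rw [pderiv_C_mul, pderiv_X_of_ne hij, mul_zero]
  · intro h
    exact absurd (Finset.mem_univ j) h

theorem sum_smul_single (v : Fin m → A) : ∑ j, v j • (Pi.single j 1 : Fin m → A) = v := by
  funext i
  rw [Finset.sum_apply, Finset.sum_eq_single i]
  · rw [Pi.smul_apply, Pi.single_eq_same, smul_eq_mul, mul_one]
  · intro j _ hji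
    rw [Pi.smul_apply, Pi.single_eq_of_ne hji.symm, smul_zero]
  · intro h
    exact absurd (Finset.mem_univ i) h

end LF

section Main

variable {A : Type u} [CommRing A] {M : Type u} [AddCommGroup M] [Module A M] {m : ℕ}
  (x : Fin m → M) (G : Algebra.Generators A (SymmetricAlgebra A M) (Fin m))
  (hG : ∀ j, G.val j = SymmetricAlgebra.ι A M (x j))

include hG in
theorem aeval_lf (v : Fin m → A) :
    aeval G.val (lf A m v) = SymmetricAlgebra.ι A M (Fintype.linearCombination A x v) := by
  rw [lf_apply, map_sum, Fintype.linearCombination_apply, map_sum]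
  refine Finset.sum_congr rfl fun j _ => ?_
  rw [map_mul, aeval_C, aeval_X, hG, map_smul, Algebra.smul_def]

include hG in
theorem lf_mem_ker (k : LinearMap.ker (Fintype.linearCombination A x)) :
    lf A m k.1 ∈ G.toExtension.ker := by
  have h : lf A m k.1 ∈ G.ker := by
    rw [Generators.ker_eq_ker_aeval_val, RingHom.mem_ker, aeval_lf x G hG,
      LinearMap.mem_ker.mp k.2, map_zero]
  exact h

/-- The `A`-linear map `K → J/J²`. -/
noncomputable def e₀ :
    LinearMap.ker (Fintype.linearCombination A x) →ₗ[A] G.toExtension.Cotangent where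
  toFun k := Extension.Cotangent.mk ⟨lf A m k.1, lf_mem_ker x G hG k⟩
  map_add' k k' := by
    rw [← map_add]
    congr 1
    apply Subtype.ext
    show lf A m (k + k').1 = lf A m k.1 + lf A m k'.1
    rw [Submodule.coe_add, map_add]
  map_smul' a k := by
    rw [RingHom.id_apply, ← algebraMap_smul G.toExtension.Ring a
      (Extension.Cotangent.mk (⟨lf A m k.1, lf_mem_ker x G hG k⟩ : G.toExtension.ker)),
      ← map_smul]
    congr 1
    apply Subtype.ext
    show lf A m (a • k).1 = algebraMap A (MvPolynomial (Fin m) A) a * lf A m k.1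
    rw [Submodule.coe_smul, map_smul, Algebra.smul_def]

theorem e₀_apply (k : LinearMap.ker (Fintype.linearCombination A x)) :
    e₀ x G hG k = Extension.Cotangent.mk ⟨lf A m k.1, lf_mem_ker x G hG k⟩ := rfl

/-- The ideal generated by the linear forms of relations. -/
noncomputable def L : Ideal (MvPolynomial (Fin m) A) :=
  Ideal.span (Set.range fun k : LinearMap.ker (Fintype.linearCombination A x) => lf A m k.1)

/-- `A^m → A[y]/L`. -/
noncomputable def fL : (Fin m → A) →ₗ[A] (MvPolynomial (Fin m) A ⧸ L x) :=
  (Ideal.Quotient.mkₐ A (L x)).toLinearMap ∘ₗ lf A m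

theorem fL_apply (v : Fin m → A) : fL x v = Ideal.Quotient.mk (L x) (lf A m v) := rfl

theorem ker_le_ker_fL : LinearMap.ker (Fintype.linearCombination A x) ≤ LinearMap.ker (fL x) := by
  intro k hk
  rw [LinearMap.mem_ker, fL_apply, Ideal.Quotient.eq_zero_iff_mem]
  exact Ideal.subset_span ⟨⟨k, hk⟩, rfl⟩

variable (hx : Function.Surjective (Fintype.linearCombination A x))

/-- `M → A[y]/L`. -/
noncomputable def gL : M →ₗ[A] (MvPolynomial (Fin m) A ⧸ L x) :=
  (Submodule.liftQ _ (fL x) (ker_le_ker_fL x)) ∘ₗ
    ((Fintype.linearCombination A x).quotKerEquivOfSurjective hx).symm.toLinearMap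

theorem gL_apply (v : Fin m → A) : gL x hx (Fintype.linearCombination A x v) = fL x v := by
  unfold gL
  rw [LinearMap.comp_apply, LinearEquiv.coe_coe, LinearMap.quotKerEquivOfSurjective_symm_apply,
    Submodule.liftQ_apply]

include hG hx in
theorem mem_L_of_aeval_eq_zero (q : MvPolynomial (Fin m) A) (hq : aeval G.val q = 0) :
    q ∈ L x := by
  have hcomp : (SymmetricAlgebra.lift (gL x hx)).comp (aeval G.val) =
      Ideal.Quotient.mkₐ A (L x) := by
    apply MvPolynomial.algHom_ext
    intro j
    rw [AlgHom.comp_apply, aeval_X, hG, SymmetricAlgebra.lift_ι_apply]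
    have h1 : x j = Fintype.linearCombination A x (Pi.single j 1) := by
      rw [Fintype.linearCombination_apply_single, one_smul]
    rw [h1, gL_apply, fL_apply, lf_single]
    rfl
  have h2 : Ideal.Quotient.mkₐ A (L x) q = 0 := by
    rw [← hcomp, AlgHom.comp_apply, hq, map_zero]
  exact Ideal.Quotient.eq_zero_iff_mem.mp h2

include hG hx in
theorem ker_eq_L : G.toExtension.ker = L x := by
  refine le_antisymm ?_ (Ideal.span_le.mpr ?_)
  · intro p hp
    exact mem_L_of_aeval_eq_zero x G hG hx p (Generators.aeval_val_eq_zero hp)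
  · rintro _ ⟨k, rfl⟩
    exact lf_mem_ker x G hG k

/-- The comparison map `C ⊗ K → J/J²`. -/
noncomputable def eMap : SymmetricAlgebra A M ⊗[A] (LinearMap.ker (Fintype.linearCombination A x))
    →ₗ[SymmetricAlgebra A M] G.toExtension.Cotangent :=
  (e₀ x G hG).liftBaseChange (SymmetricAlgebra A M)

theorem eMap_tmul (c : SymmetricAlgebra A M) (k : LinearMap.ker (Fintype.linearCombination A x)) :
    eMap x G hG (c ⊗ₜ k) = c • e₀ x G hG k := rfl

include hx in
theorem eMap_surjective : Function.Surjective (eMap x G hG) := by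
  rw [← LinearMap.range_eq_top]
  unfold eMap
  rw [LinearMap.range_liftBaseChange]
  have h := Extension.Cotangent.span_eq_top_of_span_eq_ker (P := G.toExtension)
    (fun k : LinearMap.ker (Fintype.linearCombination A x) => lf A m k.1)
    (ker_eq_L x G hG hx).symm
  rw [_root_.eq_top_iff, ← h]
  apply Submodule.span_mono
  rintro _ ⟨k, rfl⟩
  exact ⟨k, rfl⟩

include hx in
theorem eMap_injective [Module.Projective A M] : Function.Injective (eMap x G hG) := by
  obtain ⟨s, hs⟩ := Module.projective_lifting_property (Fintype.linearCombination A x)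
    LinearMap.id hx
  have hs' : ∀ y, Fintype.linearCombination A x (s y) = y := fun y => LinearMap.congr_fun hs y
  let r : (Fin m → A) →ₗ[A] LinearMap.ker (Fintype.linearCombination A x) :=
    LinearMap.codRestrict _ (LinearMap.id - s ∘ₗ Fintype.linearCombination A x) (fun v => by
      rw [LinearMap.mem_ker, LinearMap.sub_apply, LinearMap.id_apply, LinearMap.comp_apply,
        map_sub, hs', sub_self])
  have hr : ∀ k : LinearMap.ker (Fintype.linearCombination A x), r k.1 = k := by
    intro k
    apply Subtype.ext
    show k.1 - s (Fintype.linearCombination A x k.1) = k.1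
    rw [LinearMap.mem_ker.mp k.2, map_zero, sub_zero]
  let ρ : G.toExtension.CotangentSpace →ₗ[SymmetricAlgebra A M]
      SymmetricAlgebra A M ⊗[A] (LinearMap.ker (Fintype.linearCombination A x)) :=
    G.cotangentSpaceBasis.constr ℕ (fun j => (1 : SymmetricAlgebra A M) ⊗ₜ[A] r (Pi.single j 1))
  have hρ : ∀ k : LinearMap.ker (Fintype.linearCombination A x),
      ρ (G.toExtension.cotangentComplex (e₀ x G hG k)) = 1 ⊗ₜ k := by
    intro k
    rw [e₀_apply, Extension.cotangentComplex_mk]
    show G.cotangentSpaceBasis.constr ℕ _ _ = _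
    rw [Module.Basis.constr_apply_fintype]
    have h1 : ∀ j, G.cotangentSpaceBasis.equivFun
        ((1 : SymmetricAlgebra A M) ⊗ₜ[G.toExtension.Ring]
          KaehlerDifferential.D A G.toExtension.Ring (lf A m k.1)) j =
        algebraMap A (SymmetricAlgebra A M) (k.1 j) := by
      intro j
      rw [Module.Basis.equivFun_apply]
      refine (Generators.cotangentSpaceBasis_repr_one_tmul G (lf A m k.1) j).trans ?_
      rw [pderiv_lf, aeval_C]
    have h2 : ∀ j ∈ Finset.univ, G.cotangentSpaceBasis.equivFun
        ((1 : SymmetricAlgebra A M) ⊗ₜ[G.toExtension.Ring]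
          KaehlerDifferential.D A G.toExtension.Ring (lf A m k.1)) j •
          ((1 : SymmetricAlgebra A M) ⊗ₜ[A] r (Pi.single j 1)) =
        (1 : SymmetricAlgebra A M) ⊗ₜ[A] r (k.1 j • Pi.single j 1) := by
      intro j _
      rw [h1, algebraMap_smul, map_smul, TensorProduct.tmul_smul]
    rw [Finset.sum_congr rfl h2, ← TensorProduct.tmul_sum, ← map_sum, sum_smul_single, hr]
  have hleft : ∀ z, ρ (G.toExtension.cotangentComplex (eMap x G hG z)) = z := by
    intro z
    induction z using TensorProduct.induction_on with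
    | zero => rw [map_zero, map_zero, map_zero]
    | tmul c k =>
      rw [eMap_tmul, map_smul, map_smul, hρ, TensorProduct.smul_tmul', smul_eq_mul, mul_one]
    | add z1 z2 h1 h2 => rw [map_add, map_add, map_add, h1, h2]
  intro z z' h
  rw [← hleft z, ← hleft z', h]

include hG hx in
theorem main12091 :
    ∃ e : SymmetricAlgebra A M ⊗[A] (LinearMap.ker (Fintype.linearCombination A x))
        →ₗ[SymmetricAlgebra A M] G.toExtension.Cotangent,
      (∀ (k : LinearMap.ker (Fintype.linearCombination A x))
        (hk : (∑ j, C ((k : Fin m → A) j) * X j : MvPolynomial (Fin m) A) ∈ G.toExtension.ker),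
        e (1 ⊗ₜ k) = Algebra.Extension.Cotangent.mk ⟨_, hk⟩) ∧
      Function.Surjective e ∧ (Module.Projective A M → Function.Bijective e) := by
  refine ⟨eMap x G hG, ?_, eMap_surjective x G hG hx, fun hP => ⟨?_, eMap_surjective x G hG hx⟩⟩
  · intro k hk
    rw [eMap_tmul, one_smul, e₀_apply]
    rfl
  · haveI := hP
    exact eMap_injective x G hG hx

end Main

end Groth.Agent.Lib.SymCotH1
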