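import Mathlib
import Groth.Prelude.Def_RelSpec2
import Groth.Prelude.Def_Coh
import Groth.Agent.Lib.SymSum1_helper5

/-!
# `Sym(E)[z] = Sym(E ⊕ O_Y)`  (helper5)
-/

set_option autoImplicit false
universe u

noncomputable section

namespace Groth.Agent.SymPoly

open CategoryTheory Limits AlgebraicGeometry TopologicalSpace Opposite RelSpec
open Groth.Agent.SymAlg Groth.Agent.SymSum

variable {Y : Scheme.{u}} (E : Y.Modules)
  (𝒮 𝒮h : RelProj.QCGrAlg Y) (j : E ⟶ 𝒮.toModule)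
  (ι : 𝒮.toQCAlg ⟶ 𝒮h.toQCAlg) (z : 𝒮h.presheaf.obj (op ⊤))
  (k : Coh.structureModule Y ⟶ 𝒮h.toModule)
  (hk : ∀ U : Y.Opens, (k.app U) (1 : Γ(Y, U)) = RelCone.restrictTop 𝒮h z U)

/-- The map `E ⊕ O_Y → 𝒮[z]`. -/
abbrev JJ : E ⊞ Coh.structureModule Y ⟶ 𝒮h.toModule :=
  biprod.desc (j ≫ RelSpec.QCAlg.Hom.toModuleMap ι) k

theorem JJ_inl (U : Y.Opens) (e : Γ(E, U)) :
    jAdd (E ⊞ Coh.structureModule Y) 𝒮h.toQCAlg (JJ E 𝒮 𝒮h j ι k) U
      ((biprod.inl : E ⟶ E ⊞ Coh.structureModule Y).app U e) =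
      (ι.hom.app (op U)).hom (jAdd E 𝒮.toQCAlg j U e) :=
  congrArg (fun t => (Scheme.Modules.Hom.app t U) e)
    (biprod.inl_desc (j ≫ RelSpec.QCAlg.Hom.toModuleMap ι) k)

include hk in
theorem JJ_inr (U : Y.Opens) (r : Γ(Y, U)) :
    jAdd (E ⊞ Coh.structureModule Y) 𝒮h.toQCAlg (JJ E 𝒮 𝒮h j ι k) U
      ((biprod.inr : Coh.structureModule Y ⟶ E ⊞ Coh.structureModule Y).app U r) =
      (𝒮h.str.app (op U)).hom r * RelCone.restrictTop 𝒮h z U := by
  have h1 : jAdd (E ⊞ Coh.structureModule Y) 𝒮h.toQCAlg (JJ E 𝒮 𝒮h j ι k) U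
      ((biprod.inr : Coh.structureModule Y ⟶ E ⊞ Coh.structureModule Y).app U r) =
      jAdd (Coh.structureModule Y) 𝒮h.toQCAlg k U r :=
    congrArg (fun t => (Scheme.Modules.Hom.app t U) r)
      (biprod.inr_desc (j ≫ RelSpec.QCAlg.Hom.toModuleMap ι) k)
  rw [h1]
  have h3 := jAdd_smul (Coh.structureModule Y) 𝒮h.toQCAlg k U r (1 : Γ(Y, U))
  have h2 : jAdd (Coh.structureModule Y) 𝒮h.toQCAlg k U r =
      jAdd (Coh.structureModule Y) 𝒮h.toQCAlg k U (r • (1 : Γ(Y, U))) :=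
    congrArg (fun x => jAdd (Coh.structureModule Y) 𝒮h.toQCAlg k U x) (mul_one r).symm
  refine h2.trans (h3.trans ?_)
  congr 1
  exact hk U

include hk in
/-- Over affine opens, `𝒮[z]` is the symmetric algebra of `E(U) ⊕ O(U)`. -/
theorem isSymOnAffines_JJ (hσ : IsSymOnAffines E 𝒮.toQCAlg j)
    (hbij : ∀ (U : Y.Opens) (_ : IsAffineOpen U), Function.Bijective
      (Polynomial.eval₂RingHom (ι.hom.app (op U)).hom (RelCone.restrictTop 𝒮h z U))) :
    IsSymOnAffines (E ⊞ Coh.structureModule Y) 𝒮h.toQCAlg (JJ E 𝒮 𝒮h j ι k) := by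
  intro U hU
  have hσU := hσ U hU
  have hP := hbij U hU
  let σ : SymSec E U ≃+* 𝒮.presheaf.obj (op U) := RingEquiv.ofBijective _ hσU
  let P : Polynomial (𝒮.presheaf.obj (op U)) ≃+* 𝒮h.presheaf.obj (op U) :=
    RingEquiv.ofBijective _ hP
  have hσ_apply : ∀ x, σ x = symToA E 𝒮.toQCAlg j U x := fun x => rfl
  have hP_apply : ∀ p, P p =
      Polynomial.eval₂ (ι.hom.app (op U)).hom (RelCone.restrictTop 𝒮h z U) p := fun p => rfl
  let inlS : SymSec E U →+* SymSec (E ⊞ Coh.structureModule Y) U :=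
    symMap (RingHom.id _) ((biprod.inl : E ⟶ E ⊞ Coh.structureModule Y).app U).hom
      (fun a m => Scheme.Modules.Hom.app_smul _ a m)
  have inlS_ι : ∀ m, inlS (SymmetricAlgebra.ι _ _ m) =
      SymmetricAlgebra.ι _ _ ((biprod.inl : E ⟶ E ⊞ Coh.structureModule Y).app U m) :=
    fun m => symMap_ι _ _ _ m
  have inlS_alg : ∀ r, inlS (algebraMap _ _ r) = algebraMap _ _ r :=
    fun r => symMap_algebraMap _ _ _ r
  let g₀ : 𝒮.presheaf.obj (op U) →+* SymSec (E ⊞ Coh.structureModule Y) U :=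
    inlS.comp σ.symm.toRingHom
  have hg₀ : ∀ x, g₀ (symToA E 𝒮.toQCAlg j U x) = inlS x := by
    intro x
    show inlS (σ.symm (symToA E 𝒮.toQCAlg j U x)) = inlS x
    rw [← hσ_apply, RingEquiv.symm_apply_apply]
  let X₀ : SymSec (E ⊞ Coh.structureModule Y) U := SymmetricAlgebra.ι _ _
    ((biprod.inr : Coh.structureModule Y ⟶ E ⊞ Coh.structureModule Y).app U (1 : Γ(Y, U)))
  let g : 𝒮h.presheaf.obj (op U) →+* SymSec (E ⊞ Coh.structureModule Y) U :=
    (Polynomial.eval₂RingHom g₀ X₀).comp P.symm.toRingHom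
  have hg : ∀ p, g (Polynomial.eval₂ (ι.hom.app (op U)).hom (RelCone.restrictTop 𝒮h z U) p) =
      Polynomial.eval₂ g₀ X₀ p := by
    intro p
    show Polynomial.eval₂ g₀ X₀ (P.symm _) = _
    rw [← hP_apply, RingEquiv.symm_apply_apply]
  have hcι : ∀ r, (ι.hom.app (op U)).hom ((𝒮.str.app (op U)).hom r) =
      (𝒮h.str.app (op U)).hom r := fun r => congrArg (fun t => (t.app (op U)).hom r) ι.comm
  -- `τ ∘ inlS = ι ∘ σ`
  have hτinl : (symToA (E ⊞ Coh.structureModule Y) 𝒮h.toQCAlg (JJ E 𝒮 𝒮h j ι k) U).comp inlS =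
      (ι.hom.app (op U)).hom.comp (symToA E 𝒮.toQCAlg j U) := by
    refine ringHom_ext _ _ (fun r => ?_) (fun m => ?_)
    · rw [RingHom.comp_apply, RingHom.comp_apply, inlS_alg, symToA_algebraMap,
        symToA_algebraMap]
      exact (hcι r).symm
    · rw [RingHom.comp_apply, RingHom.comp_apply, inlS_ι, symToA_ι, symToA_ι]
      exact JJ_inl E 𝒮 𝒮h j ι k U m
  -- `g ∘ τ = id`
  have h1 : g.comp (symToA (E ⊞ Coh.structureModule Y) 𝒮h.toQCAlg (JJ E 𝒮 𝒮h j ι k) U) =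
      RingHom.id _ := by
    refine ringHom_ext _ _ (fun r => ?_) (fun w => ?_)
    · rw [RingHom.comp_apply, symToA_algebraMap, RingHom.id_apply, ← hcι r,
        ← Polynomial.eval₂_C (ι.hom.app (op U)).hom (RelCone.restrictTop 𝒮h z U), hg,
        Polynomial.eval₂_C, ← symToA_algebraMap E 𝒮.toQCAlg j U r, hg₀, inlS_alg]
    · rw [RingHom.comp_apply, symToA_ι, RingHom.id_apply]
      have hw := total E (Coh.structureModule Y) U w
      have e1 : (JJ E 𝒮 𝒮h j ι k).app U w = _ :=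
        congrArg (fun x => jAdd (E ⊞ Coh.structureModule Y) 𝒮h.toQCAlg (JJ E 𝒮 𝒮h j ι k) U x)
          hw.symm
      have e2 := map_add (jAdd (E ⊞ Coh.structureModule Y) 𝒮h.toQCAlg (JJ E 𝒮 𝒮h j ι k) U)
        ((biprod.inl : E ⟶ E ⊞ Coh.structureModule Y).app U
          ((biprod.fst : E ⊞ Coh.structureModule Y ⟶ E).app U w))
        ((biprod.inr : Coh.structureModule Y ⟶ E ⊞ Coh.structureModule Y).app U
          ((biprod.snd : E ⊞ Coh.structureModule Y ⟶ Coh.structureModule Y).app U w))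
      rw [JJ_inl, JJ_inr E 𝒮 𝒮h j ι z k hk] at e2
      refine (congrArg g (e1.trans e2)).trans ?_
      set e := (biprod.fst : E ⊞ Coh.structureModule Y ⟶ E).app U w with he
      set r : Γ(Y, U) :=
        (biprod.snd : E ⊞ Coh.structureModule Y ⟶ Coh.structureModule Y).app U w with hr
      have e3 : (ι.hom.app (op U)).hom (jAdd E 𝒮.toQCAlg j U e) +
          (𝒮h.str.app (op U)).hom r * RelCone.restrictTop 𝒮h z U =
          Polynomial.eval₂ (ι.hom.app (op U)).hom (RelCone.restrictTop 𝒮h z U)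
            (Polynomial.C (jAdd E 𝒮.toQCAlg j U e) +
              Polynomial.C ((𝒮.str.app (op U)).hom r) * Polynomial.X) := by
        rw [Polynomial.eval₂_add, Polynomial.eval₂_mul, Polynomial.eval₂_C, Polynomial.eval₂_C,
          Polynomial.eval₂_X, hcι]
      rw [e3, hg, Polynomial.eval₂_add, Polynomial.eval₂_mul, Polynomial.eval₂_C,
        Polynomial.eval₂_C, Polynomial.eval₂_X, jAdd_apply, ← symToA_ι E 𝒮.toQCAlg j U e, hg₀,
        ← symToA_algebraMap E 𝒮.toQCAlg j U r, hg₀, inlS_ι, inlS_alg, ← Algebra.smul_def,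
        ← map_smul, ← map_add]
      congr 1
      refine Eq.trans ?_ hw
      congr 1
      have e4 := Scheme.Modules.Hom.app_smul
        (biprod.inr : Coh.structureModule Y ⟶ E ⊞ Coh.structureModule Y) r (1 : Γ(Y, U))
      refine e4.symm.trans ?_
      exact congrArg (fun x => (biprod.inr : Coh.structureModule Y ⟶
        E ⊞ Coh.structureModule Y).app U x) (mul_one r)
  -- `τ ∘ g = id`
  have h2 : (symToA (E ⊞ Coh.structureModule Y) 𝒮h.toQCAlg (JJ E 𝒮 𝒮h j ι k) U).comp g =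
      RingHom.id _ := by
    refine (RingHom.cancel_right hP.2).mp (Polynomial.ringHom_ext (fun a => ?_) ?_)
    · show symToA _ _ _ U (g (Polynomial.eval₂ _ _ (Polynomial.C a))) =
        Polynomial.eval₂ _ _ (Polynomial.C a)
      rw [hg, Polynomial.eval₂_C, Polynomial.eval₂_C]
      obtain ⟨x, rfl⟩ := hσU.2 a
      rw [hg₀]
      exact congrArg (fun t => t x) hτinl
    · show symToA _ _ _ U (g (Polynomial.eval₂ _ _ Polynomial.X)) =
        Polynomial.eval₂ _ _ Polynomial.X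
      rw [hg, Polynomial.eval₂_X, Polynomial.eval₂_X, symToA_ι]
      have e5 := JJ_inr E 𝒮 𝒮h j ι z k hk U (1 : Γ(Y, U))
      rw [map_one, one_mul] at e5
      exact e5
  refine ⟨fun a b hab => ?_, fun y => ⟨g y, congrArg (fun t => t y) h2⟩⟩
  have ha := congrArg (fun t => t a) h1
  have hb := congrArg (fun t => t b) h1
  simp only [RingHom.comp_apply, RingHom.id_apply] at ha hb
  rw [← ha, ← hb, hab]

include hk in
/-- `𝒮[z]` is the graded symmetric algebra of `E ⊕ O_Y`. -/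
theorem isGrSymAlg_poly [E.IsQuasicoherent] (hS : RelProj.IsGrSymAlg E 𝒮 j)
    (hz : RelCone.IsPolyOver 𝒮 𝒮h ι z) :
    RelProj.IsGrSymAlg (E ⊞ Coh.structureModule Y) 𝒮h (JJ E 𝒮 𝒮h j ι k) := by
  refine ⟨isSymAlg_of_isSymOnAffines _ _ _ (isSymOnAffines_JJ E 𝒮 𝒮h j ι z k hk
    (isSymOnAffines_of_isSymAlg E _ j hS.1) hz.bij), fun U hU w => ?_⟩
  have hw := total E (Coh.structureModule Y) U w
  have e1 : (JJ E 𝒮 𝒮h j ι k).app U w = _ :=
    congrArg (fun x => jAdd (E ⊞ Coh.structureModule Y) 𝒮h.toQCAlg (JJ E 𝒮 𝒮h j ι k) U x)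
      hw.symm
  have e2 := map_add (jAdd (E ⊞ Coh.structureModule Y) 𝒮h.toQCAlg (JJ E 𝒮 𝒮h j ι k) U)
    ((biprod.inl : E ⟶ E ⊞ Coh.structureModule Y).app U
      ((biprod.fst : E ⊞ Coh.structureModule Y ⟶ E).app U w))
    ((biprod.inr : Coh.structureModule Y ⟶ E ⊞ Coh.structureModule Y).app U
      ((biprod.snd : E ⊞ Coh.structureModule Y ⟶ Coh.structureModule Y).app U w))
  rw [JJ_inl, JJ_inr E 𝒮 𝒮h j ι z k hk] at e2
  have e3 := e1.trans e2
  refine e3 ▸ ?_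
  refine AddSubgroup.add_mem _ (hz.graded U hU 1 _ (hS.2 U hU _)) ?_
  have h4 := SetLike.GradedMul.mul_mem (𝒮h.str_mem U hU
    ((biprod.snd : E ⊞ Coh.structureModule Y ⟶ Coh.structureModule Y).app U w))
    (hz.deg_z U hU)
  rwa [zero_add] at h4

end Groth.Agent.SymPoly
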