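import Mathlib
import Groth.Prelude

set_option autoImplicit false
set_option linter.style.haveILetI false
set_option linter.unusedVariables false

universe u

open scoped TensorProduct
open Module

namespace Groth.Agent.Lib.SymPowH4

section comb
variable {ι : Type*} {m : ℕ}

/-- the type (multiplicity vector) of a tuple -/
noncomputable def ty (p : Fin m → ι) : ι →₀ ℕ := ∑ a : Fin m, Finsupp.single (p a) 1

open Classical in
theorem ty_apply (p : Fin m → ι) (i : ι) :
    ty p i = Fintype.card {a : Fin m // p a = i} := by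
  rw [ty, Finsupp.finset_sum_apply, Fintype.card_subtype, Finset.card_filter]
  refine Finset.sum_congr rfl (fun a _ => ?_)
  rw [Finsupp.single_apply]

open Classical in
theorem exists_perm_of_ty_eq (p q : Fin m → ι) (h : ty p = ty q) :
    ∃ σ : Equiv.Perm (Fin m), q = p ∘ σ := by
  have hc : ∀ i, Fintype.card {a : Fin m // q a = i} = Fintype.card {a : Fin m // p a = i} := by
    intro i; rw [← ty_apply, ← ty_apply, h]
  let e : ∀ i, {a : Fin m // q a = i} ≃ {a : Fin m // p a = i} :=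
    fun i => Fintype.equivOfCardEq (hc i)
  refine ⟨(Equiv.sigmaFiberEquiv q).symm.trans
    ((Equiv.sigmaCongrRight e).trans (Equiv.sigmaFiberEquiv p)), ?_⟩
  funext a
  exact ((e (q a) ⟨a, rfl⟩).2).symm

theorem prod_X_eq (k : Type*) [CommSemiring k] (p : Fin m → ι) :
    ∏ a, (MvPolynomial.X (p a) : MvPolynomial ι k) = MvPolynomial.monomial (ty p) 1 :=
  (MvPolynomial.monomial_sum_one _ _).symm

end comb

theorem main (k V : Type u) [Field k] [Infinite k] [AddCommGroup V] [Module k V] (m : ℕ)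
    (x : ⨂[k] _ : Fin m, V)
    (hx : ∀ σ : Equiv.Perm (Fin m), PiTensorProduct.reindex k (fun _ : Fin m => V) σ x = x) :
    x ∈ Submodule.span k (Set.range fun v : V => PiTensorProduct.tprod k (fun _ : Fin m => v)) := by
  classical
  by_contra hxW
  obtain ⟨φ, hφx, hφW⟩ := Submodule.exists_dual_map_eq_bot_of_notMem hxW inferInstance
  have hφ0 : ∀ v : V, φ (PiTensorProduct.tprod k (fun _ : Fin m => v)) = 0 := fun v =>
    (Submodule.eq_bot_iff _).mp hφW _
      (Submodule.mem_map_of_mem (Submodule.subset_span ⟨v, rfl⟩))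
  obtain ⟨ι, ⟨b⟩⟩ : ∃ ι : Type u, Nonempty (Basis ι k V) := ⟨_, ⟨Basis.ofVectorSpace k V⟩⟩
  obtain ⟨B, hB, hBr⟩ : ∃ B : Basis (Fin m → ι) k (⨂[k] _ : Fin m, V),
      (∀ p, B p = PiTensorProduct.tprod k (fun a => b (p a))) ∧
      (∀ (y : Fin m → V) (p : Fin m → ι),
        B.repr (PiTensorProduct.tprod k y) p = ∏ i, b.repr (y i) (p i)) :=
    ⟨Basis.piTensorProduct (fun _ => b), fun p => Basis.piTensorProduct_apply _ p,
      fun y p => Basis.piTensorProduct_repr_tprod_apply _ y p⟩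
  have hsym : ∀ (σ : Equiv.Perm (Fin m)) (q : Fin m → ι),
      B.repr x (q ∘ σ) = B.repr x q := by
    intro σ q
    have hL : (Finsupp.lapply q) ∘ₗ B.repr.toLinearMap ∘ₗ
        (PiTensorProduct.reindex k (fun _ : Fin m => V) σ).toLinearMap
        = (Finsupp.lapply (q ∘ σ)) ∘ₗ B.repr.toLinearMap := by
      refine PiTensorProduct.ext (MultilinearMap.ext (fun y => ?_))
      show B.repr (PiTensorProduct.reindex k (fun _ : Fin m => V) σ
        (PiTensorProduct.tprod k y)) q = B.repr (PiTensorProduct.tprod k y) (q ∘ σ)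
      rw [PiTensorProduct.reindex_tprod, hBr, hBr]
      refine (Equiv.prod_comp σ (fun j => b.repr (y (σ.symm j)) (q j))).symm.trans
        (Finset.prod_congr rfl (fun i _ => ?_))
      show b.repr (y (σ.symm (σ i))) (q (σ i)) = b.repr (y i) ((q ∘ σ) i)
      rw [Equiv.symm_apply_apply]; rfl
    have h2 : B.repr (PiTensorProduct.reindex k (fun _ : Fin m => V) σ x) q
        = B.repr x (q ∘ σ) := LinearMap.congr_fun hL x
    rw [hx σ] at h2; exact h2.symm
  obtain ⟨c, hc⟩ : ∃ c : (Fin m → ι) →₀ k, c = B.repr x := ⟨_, rfl⟩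
  obtain ⟨J, hJ⟩ : ∃ J : Finset ι, ∀ p ∈ c.support, ∀ a, p a ∈ J :=
    ⟨c.support.biUnion (fun p => Finset.univ.image p), fun p hp a =>
      Finset.mem_biUnion.mpr ⟨p, hp, Finset.mem_image.mpr ⟨a, Finset.mem_univ _, rfl⟩⟩⟩
  obtain ⟨PF, hPF⟩ : ∃ PF : Finset (Fin m → ι), PF = Fintype.piFinset (fun _ : Fin m => J) :=
    ⟨_, rfl⟩
  have hsupp : c.support ⊆ PF := by
    intro p hp
    rw [hPF, Fintype.mem_piFinset]
    exact hJ p hp
  have hxsum : x = ∑ p ∈ PF, c p • B p := by
    have h1 : x = ∑ p ∈ c.support, c p • B p := by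
      rw [hc]
      exact ((B.linearCombination_repr x).symm).trans (Finsupp.linearCombination_apply k _)
    rw [h1]
    refine Finset.sum_subset hsupp (fun p _ hp => ?_)
    rw [Finsupp.notMem_support_iff.mp hp, zero_smul]
  obtain ⟨w, hw⟩ : ∃ w : (Fin m → ι) → k, ∀ p, w p = φ (B p) := ⟨fun p => φ (B p), fun _ => rfl⟩
  obtain ⟨P, hPdef⟩ : ∃ P : MvPolynomial ι k,
      P = ∑ p ∈ PF, MvPolynomial.C (w p) * ∏ a, MvPolynomial.X (p a) := ⟨_, rfl⟩
  have heval : ∀ t : ι → k, MvPolynomial.eval t P = 0 := by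
    intro t
    have h1 : MvPolynomial.eval t P = ∑ p ∈ PF, w p * ∏ a, t (p a) := by
      rw [hPdef]
      simp only [map_sum, map_mul, map_prod, MvPolynomial.eval_C, MvPolynomial.eval_X]
    have h2 : PiTensorProduct.tprod k (fun _ : Fin m => ∑ i ∈ J, t i • b i)
        = ∑ r ∈ PF, (∏ a, t (r a)) • B r := by
      rw [hPF]
      refine ((PiTensorProduct.tprod k).map_sum_finset
        (fun (_ : Fin m) (i : ι) => t i • b i) (fun _ => J)).trans
        (Finset.sum_congr rfl (fun r _ => ?_))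
      rw [hB r]
      exact (PiTensorProduct.tprod k).map_smul_univ (fun a => t (r a)) (fun a => b (r a))
    have h3 := hφ0 (∑ i ∈ J, t i • b i)
    rw [h2, map_sum] at h3
    rw [h1, ← h3]
    refine Finset.sum_congr rfl (fun r _ => ?_)
    rw [map_smul, smul_eq_mul, mul_comm, hw r]
  have hP : P = 0 := MvPolynomial.funext (fun t => by rw [heval t, map_zero])
  have hcoef : ∀ μ : ι →₀ ℕ, ∑ p ∈ PF, w p * (if ty p = μ then (1 : k) else 0) = 0 := by
    intro μ
    have h := congrArg (MvPolynomial.coeff μ) hP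
    rw [MvPolynomial.coeff_zero, hPdef, MvPolynomial.coeff_sum] at h
    refine Eq.trans (Finset.sum_congr rfl (fun p _ => ?_)) h
    rw [MvPolynomial.coeff_C_mul, prod_X_eq, MvPolynomial.coeff_monomial]
  have hrep : ∃ c' : (ι →₀ ℕ) → k, ∀ p ∈ PF, c p = c' (ty p) := by
    refine ⟨fun μ => if h : ∃ q ∈ PF, ty q = μ then c h.choose else 0, fun p hp => ?_⟩
    have hex : ∃ q ∈ PF, ty q = ty p := ⟨p, hp, rfl⟩
    show c p = if h : ∃ q ∈ PF, ty q = ty p then c h.choose else 0
    rw [dif_pos hex]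
    obtain ⟨σ, hσ⟩ := exists_perm_of_ty_eq p hex.choose hex.choose_spec.2.symm
    rw [hσ, hc]; exact (hsym σ p).symm
  obtain ⟨c', hc'⟩ := hrep
  have hφx0 : φ x = 0 := by
    rw [hxsum, map_sum]
    have h1 : ∀ p ∈ PF, φ (c p • B p)
        = ∑ μ ∈ PF.image ty, (if ty p = μ then c' μ * w p else 0) := by
      intro p hp
      rw [Finset.sum_ite_eq, if_pos (Finset.mem_image_of_mem ty hp), map_smul, smul_eq_mul,
        hc' p hp, hw p]
    rw [Finset.sum_congr rfl h1, Finset.sum_comm]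
    refine Finset.sum_eq_zero (fun μ _ => ?_)
    have h2 : ∑ p ∈ PF, (if ty p = μ then c' μ * w p else 0)
        = c' μ * ∑ p ∈ PF, w p * (if ty p = μ then (1 : k) else 0) := by
      rw [Finset.mul_sum]
      refine Finset.sum_congr rfl (fun p _ => ?_)
      split_ifs <;> ring
    rw [h2, hcoef μ, mul_zero]
  exact hφx hφx0

end Groth.Agent.Lib.SymPowH4
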