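import Mathlib

/-!
# The "symmetric algebra" of the kernel of an idempotent matrix (helper5), part 1.

For an idempotent `N × N` matrix `S` over a ring `A` we consider the `A`-algebra
`C1 S = A[y_1..y_N]/(y_k - ∑_j S k j y_j)`.  It is a retract of the polynomial algebra (via
`y ↦ S y`), hence smooth over `A`; and it has the zero section `y ↦ 0`.

* `ell`, `KK`, `C1`, `sigBar`, `mem_KK_iff`;
* `smooth_C1`;
* `rho1` : the zero section.
APPEND-ONLY once landed.
-/

set_option autoImplicit false
set_option linter.style.haveILetI false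
universe u

namespace Groth.Agent.Lib.SymRetr

open MvPolynomial

variable {A : Type u} [CommRing A] {N : ℕ} (S : Matrix (Fin N) (Fin N) A)

/-- the linear form `(S y)_j`. -/
noncomputable def lin (j : Fin N) : MvPolynomial (Fin N) A := ∑ l, C (S j l) * X l

/-- the relation `y_k - (S y)_k`. -/
noncomputable def ell (k : Fin N) : MvPolynomial (Fin N) A := X k - lin S k

/-- the ideal of relations. -/
noncomputable def KK : Ideal (MvPolynomial (Fin N) A) := Ideal.span (Set.range (ell S))

/-- the algebra `A[y]/(y - S y)`. -/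
abbrev C1 : Type u := MvPolynomial (Fin N) A ⧸ KK S

/-- the endomorphism `y ↦ S y` of the polynomial algebra. -/
noncomputable def sigBar : MvPolynomial (Fin N) A →ₐ[A] MvPolynomial (Fin N) A :=
  aeval (lin S)

lemma sigBar_X (j : Fin N) : sigBar S (X j) = lin S j := by
  unfold sigBar
  rw [aeval_X]

lemma sigBar_C (a : A) : sigBar S (C a) = C a := by
  unfold sigBar
  rw [aeval_C]
  rfl

lemma sigBar_lin (hS : S * S = S) (k : Fin N) : sigBar S (lin S k) = lin S k := by
  unfold lin
  rw [map_sum]
  simp only [map_mul, sigBar_C, sigBar_X]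
  unfold lin
  simp only [Finset.mul_sum]
  rw [Finset.sum_comm]
  apply Finset.sum_congr rfl
  intro l _
  have h : S k l = ∑ j, S k j * S j l := by
    conv_lhs => rw [← hS]
    rfl
  rw [h, map_sum, Finset.sum_mul]
  apply Finset.sum_congr rfl
  intro j _
  rw [map_mul]
  ring

lemma sigBar_ell (hS : S * S = S) (k : Fin N) : sigBar S (ell S k) = 0 := by
  unfold ell
  rw [map_sub, sigBar_X, sigBar_lin S hS, sub_self]

lemma ell_mem (k : Fin N) : ell S k ∈ KK S := Ideal.subset_span ⟨k, rfl⟩

lemma sigBar_sub_mem (q : MvPolynomial (Fin N) A) : sigBar S q - q ∈ KK S := by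
  induction q using MvPolynomial.induction_on with
  | C a => rw [sigBar_C, sub_self]; exact zero_mem _
  | add p q hp hq =>
    rw [map_add]
    have : sigBar S p + sigBar S q - (p + q) = (sigBar S p - p) + (sigBar S q - q) := by ring
    rw [this]
    exact add_mem hp hq
  | mul_X p i hp =>
    rw [map_mul, sigBar_X]
    have : sigBar S p * lin S i - p * X i =
        (sigBar S p - p) * lin S i - p * ell S i := by
      unfold ell; ring
    rw [this]
    exact sub_mem (Ideal.mul_mem_right _ _ hp) (Ideal.mul_mem_left _ _ (ell_mem S i))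

lemma KK_le_ker (hS : S * S = S) : KK S ≤ RingHom.ker (sigBar S).toRingHom := by
  unfold KK
  rw [Ideal.span_le]
  rintro _ ⟨k, rfl⟩
  exact sigBar_ell S hS k

lemma mem_KK_iff (hS : S * S = S) (q : MvPolynomial (Fin N) A) :
    q ∈ KK S ↔ sigBar S q = 0 := by
  constructor
  · intro h
    exact KK_le_ker S hS h
  · intro h
    have h1 := sigBar_sub_mem S q
    rw [h, zero_sub] at h1
    exact (neg_mem_iff).mp h1

/-- the section `C1 S → A[y]` of the quotient map. -/
noncomputable def sig (hS : S * S = S) : C1 S →ₐ[A] MvPolynomial (Fin N) A :=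
  Ideal.Quotient.liftₐ (KK S) (sigBar S) (fun a ha => KK_le_ker S hS ha)

lemma sig_mk (hS : S * S = S) (q : MvPolynomial (Fin N) A) :
    sig S hS (Ideal.Quotient.mk (KK S) q) = sigBar S q := rfl

lemma mk_sigBar (q : MvPolynomial (Fin N) A) :
    Ideal.Quotient.mk (KK S) (sigBar S q) = Ideal.Quotient.mk (KK S) q :=
  Ideal.Quotient.eq.mpr (sigBar_sub_mem S q)

theorem formallySmooth_C1 (hS : S * S = S) : Algebra.FormallySmooth A (C1 S) := by
  let f : MvPolynomial (Fin N) A →ₐ[A] C1 S := Ideal.Quotient.mkₐ A (KK S)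
  let g : C1 S →ₐ[A] MvPolynomial (Fin N) A ⧸ RingHom.ker f.toRingHom ^ 2 :=
    (Ideal.Quotient.mkₐ A _).comp (sig S hS)
  refine Algebra.FormallySmooth.of_split f g ?_
  apply AlgHom.ext
  intro c
  obtain ⟨q, rfl⟩ := Ideal.Quotient.mk_surjective c
  show f.kerSquareLift (Ideal.Quotient.mk _ (sig S hS (Ideal.Quotient.mk (KK S) q))) = _
  rw [AlgHom.kerSquareLift_mk, sig_mk]
  exact mk_sigBar S q

lemma KK_fg : (KK S).FG := by
  classical
  exact ⟨Finset.univ.image (ell S), by
    unfold KK
    rw [Finset.coe_image, Finset.coe_univ, Set.image_univ]⟩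

instance finitePresentation_C1 : Algebra.FinitePresentation A (C1 S) :=
  Algebra.FinitePresentation.quotient (KK_fg S)

theorem smooth_C1 (hS : S * S = S) : Algebra.Smooth A (C1 S) :=
  ⟨formallySmooth_C1 S hS, finitePresentation_C1 S⟩

/-- the zero section `y ↦ 0`. -/
noncomputable def rho1 : C1 S →ₐ[A] A :=
  Ideal.Quotient.liftₐ (KK S) (aeval (fun _ : Fin N => (0 : A))) (by
    intro a ha
    have hle : KK S ≤ RingHom.ker (aeval (fun _ : Fin N => (0 : A)) :
        MvPolynomial (Fin N) A →ₐ[A] A).toRingHom := by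
      unfold KK
      rw [Ideal.span_le]
      rintro _ ⟨k, rfl⟩
      show aeval (fun _ : Fin N => (0 : A)) (ell S k) = 0
      unfold ell lin
      rw [map_sub, aeval_X, map_sum]
      simp only [map_mul, aeval_X, mul_zero, Finset.sum_const_zero, sub_zero]
    exact hle ha)

lemma rho1_mk (q : MvPolynomial (Fin N) A) :
    rho1 S (Ideal.Quotient.mk (KK S) q) = aeval (fun _ : Fin N => (0 : A)) q := rfl

end Groth.Agent.Lib.SymRetr
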