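import Mathlib
import Groth.Agent.Lib.SymRetr1_helper5

/-!
# The "symmetric algebra" of the conormal module (helper5), part 2: the presentation.

Setting: a surjection `B → A` with kernel `I = (gen_1..gen_N)` and a `B`-linear map
`θ : I → A^N` splitting the canonical surjection `A^N → I/I²` (`Data`).  We get an idempotent
matrix `S` over `A`, a lift `St` over `B` which is idempotent modulo `I²`, the relations
`fk k = gen_k + y_k - ∑_j St k j y_j` in `B[y]` and the surjection `piB : B[y] → C1 S`.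

* `Data`, `Data.S`, `Data.S_mul_S`, `Data.St`, `fk`, `piB`, `JJ`;
* `JJ_eq` : the kernel of `piB` is `I B[y] + (fk)`;
* `exists_g0` : an element `g₀ ∈ 1 + (y) + I B[y]` with `g₀ · JJ ⊆ (fk)`.
APPEND-ONLY once landed.
-/

set_option autoImplicit false
set_option linter.style.haveILetI false
universe u

namespace Groth.Agent.Lib.SymRetr

open MvPolynomial

/-- the data: generators of the kernel `I` of `B → A` and a splitting `θ` of `A^N → I/I²`. -/
structure Data (B A : Type u) [CommRing B] [CommRing A] [Algebra B A] (N : ℕ) where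
  surj : Function.Surjective (algebraMap B A)
  gen : Fin N → B
  gen_mem : ∀ k, gen k ∈ RingHom.ker (algebraMap B A)
  span_gen : Ideal.span (Set.range gen) = RingHom.ker (algebraMap B A)
  θ : RingHom.ker (algebraMap B A) →ₗ[B] (Fin N → A)
  hθ : ∀ (i : RingHom.ker (algebraMap B A)) (b : Fin N → B),
    (∀ k, algebraMap B A (b k) = θ i k) →
      (i : B) - ∑ k, b k * gen k ∈ RingHom.ker (algebraMap B A) ^ 2

variable {B A : Type u} [CommRing B] [CommRing A] [Algebra B A] {N : ℕ} (D : Data B A N)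

namespace Data

/-- the kernel. -/
abbrev I (_D : Data B A N) : Ideal B := RingHom.ker (algebraMap B A)

/-- the idempotent matrix. -/
noncomputable def S : Matrix (Fin N) (Fin N) A := fun k l => D.θ ⟨D.gen k, D.gen_mem k⟩ l

lemma θ_smul (b : B) (i : RingHom.ker (algebraMap B A)) (l : Fin N) :
    D.θ (b • i) l = algebraMap B A b * D.θ i l := by
  rw [map_smul, Pi.smul_apply, Algebra.smul_def]

lemma θ_sq (r : B) (hr : r ∈ RingHom.ker (algebraMap B A) ^ 2) :
    ∃ hr' : r ∈ RingHom.ker (algebraMap B A), D.θ ⟨r, hr'⟩ = 0 := by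
  rw [pow_two] at hr
  refine Submodule.mul_induction_on hr ?_ ?_
  · intro m hm n hn
    refine ⟨Ideal.mul_mem_left _ _ hn, ?_⟩
    have h1 : (⟨m * n, Ideal.mul_mem_left _ _ hn⟩ : RingHom.ker (algebraMap B A)) =
        m • ⟨n, hn⟩ := by
      ext; rfl
    rw [h1]
    ext l
    rw [θ_smul, (RingHom.mem_ker).mp hm, zero_mul]
    rfl
  · intro x y hx hy
    obtain ⟨hx', hx0⟩ := hx
    obtain ⟨hy', hy0⟩ := hy
    refine ⟨add_mem hx' hy', ?_⟩
    have h1 : (⟨x + y, add_mem hx' hy'⟩ : RingHom.ker (algebraMap B A)) =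
        ⟨x, hx'⟩ + ⟨y, hy'⟩ := by
      ext; rfl
    rw [h1, map_add, hx0, hy0, add_zero]

lemma θ_sq' (r : B) (hr : r ∈ RingHom.ker (algebraMap B A) ^ 2)
    (hr' : r ∈ RingHom.ker (algebraMap B A)) : D.θ ⟨r, hr'⟩ = 0 := by
  obtain ⟨_, h⟩ := D.θ_sq r hr
  exact h

/-- `θ(i) · S = θ(i)`. -/
lemma θ_mul_S (i : RingHom.ker (algebraMap B A)) (l : Fin N) :
    ∑ k, D.θ i k * D.S k l = D.θ i l := by
  choose b hb using fun k => D.surj (D.θ i k)
  have hr := D.hθ i b hb
  have hr' : (i : B) - ∑ k, b k * D.gen k ∈ RingHom.ker (algebraMap B A) :=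
    Ideal.pow_le_self two_ne_zero hr
  have h1 : i = ∑ k, b k • (⟨D.gen k, D.gen_mem k⟩ : RingHom.ker (algebraMap B A)) +
      ⟨(i : B) - ∑ k, b k * D.gen k, hr'⟩ := by
    ext
    rw [Submodule.coe_add, Submodule.coe_sum]
    simp only [Submodule.coe_smul, smul_eq_mul]
    ring
  conv_rhs => rw [h1]
  rw [map_add, D.θ_sq' _ hr hr', add_zero, map_sum, Finset.sum_apply]
  apply Finset.sum_congr rfl
  intro k _
  rw [θ_smul, hb k]
  rfl

lemma S_mul_S : D.S * D.S = D.S := by
  ext k l
  rw [Matrix.mul_apply]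
  exact D.θ_mul_S ⟨D.gen k, D.gen_mem k⟩ l

/-- a first lift of `S` to `B`. -/
noncomputable def T0 : Matrix (Fin N) (Fin N) B := fun k l => Classical.choose (D.surj (D.S k l))

lemma T0_spec (k l : Fin N) : algebraMap B A (D.T0 k l) = D.S k l :=
  Classical.choose_spec (D.surj (D.S k l))

/-- a lift of `S` to `B` which is idempotent modulo `I²`. -/
noncomputable def St : Matrix (Fin N) (Fin N) B :=
  3 • (D.T0 * D.T0) - 2 • (D.T0 * D.T0 * D.T0)

lemma map_T0 : (algebraMap B A).mapMatrix D.T0 = D.S := by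
  ext k l
  exact D.T0_spec k l

lemma map_St : (algebraMap B A).mapMatrix D.St = D.S := by
  unfold St
  simp only [map_sub, map_nsmul, map_mul, map_T0, S_mul_S]
  rw [show (3 : ℕ) • D.S = 2 • D.S + D.S from by rw [succ_nsmul]]
  abel

lemma St_spec (k l : Fin N) : algebraMap B A (D.St k l) = D.S k l := by
  have := congrFun (congrFun D.map_St k) l
  exact this

theorem idem_identity {E : Type*} [Ring E] (a : E) :
    (3 • (a * a) - 2 • (a * a * a)) * (3 • (a * a) - 2 • (a * a * a)) -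
      (3 • (a * a) - 2 • (a * a * a)) =
    (a * a - a) * (a * a - a) * (4 • (a * a) - 4 • a - 3) := by
  noncomm_ring

lemma matrix_mul_mem {J₁ J₂ : Ideal B} (x y : Matrix (Fin N) (Fin N) B)
    (hx : ∀ k l, x k l ∈ J₁) (hy : ∀ k l, y k l ∈ J₂) (k l : Fin N) :
    (x * y) k l ∈ J₁ * J₂ := by
  rw [Matrix.mul_apply]
  exact Ideal.sum_mem _ fun j _ => Ideal.mul_mem_mul (hx k j) (hy j l)

lemma T0_sq_sub_mem (k l : Fin N) : (D.T0 * D.T0 - D.T0) k l ∈ RingHom.ker (algebraMap B A) := by
  rw [RingHom.mem_ker]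
  have h : (algebraMap B A).mapMatrix (D.T0 * D.T0 - D.T0) = 0 := by
    rw [map_sub, map_mul, map_T0, S_mul_S, sub_self]
  exact congrFun (congrFun h k) l

/-- `St² - St` has entries in `I²`. -/
lemma St_sq_sub_mem (k l : Fin N) :
    (D.St * D.St - D.St) k l ∈ RingHom.ker (algebraMap B A) ^ 2 := by
  unfold St
  rw [idem_identity, pow_two]
  have h1 := matrix_mul_mem (D.T0 * D.T0 - D.T0) (D.T0 * D.T0 - D.T0)
    D.T0_sq_sub_mem D.T0_sq_sub_mem
  have h2 := matrix_mul_mem (J₂ := ⊤) ((D.T0 * D.T0 - D.T0) * (D.T0 * D.T0 - D.T0))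
    (4 • (D.T0 * D.T0) - 4 • D.T0 - 3) h1 (fun _ _ => trivial) k l
  rw [Ideal.mul_top] at h2
  exact h2

end Data

/-- the linear form `(St y)_j` in `B[y]`. -/
noncomputable def linB (j : Fin N) : MvPolynomial (Fin N) B := ∑ l, C (D.St j l) * X l

/-- the relations `gen_k + y_k - (St y)_k`. -/
noncomputable def fk (k : Fin N) : MvPolynomial (Fin N) B := C (D.gen k) + X k - linB D k

lemma map_linB (j : Fin N) : map (algebraMap B A) (linB D j) = lin D.S j := by
  unfold linB lin
  rw [map_sum]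
  apply Finset.sum_congr rfl
  intro l _
  rw [map_mul, map_C, map_X, D.St_spec]

lemma map_fk (k : Fin N) : map (algebraMap B A) (fk D k) = ell D.S k := by
  unfold fk ell
  rw [map_sub, map_add, map_C, map_X, map_linB, (RingHom.mem_ker).mp (D.gen_mem k), map_zero,
    zero_add]

/-- the surjection `B[y] → C1 S`. -/
noncomputable def piB : MvPolynomial (Fin N) B →+* C1 D.S :=
  (Ideal.Quotient.mk (KK D.S)).comp (map (algebraMap B A))

lemma piB_apply (p : MvPolynomial (Fin N) B) :
    piB D p = Ideal.Quotient.mk (KK D.S) (map (algebraMap B A) p) := rfl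

lemma piB_surjective : Function.Surjective (piB D) :=
  Ideal.Quotient.mk_surjective.comp (map_surjective _ D.surj)

/-- the kernel of `piB`. -/
noncomputable def JJ : Ideal (MvPolynomial (Fin N) B) := RingHom.ker (piB D)

lemma mem_JJ_iff (p : MvPolynomial (Fin N) B) :
    p ∈ JJ D ↔ map (algebraMap B A) p ∈ KK D.S := by
  unfold JJ
  rw [RingHom.mem_ker, piB_apply, Ideal.Quotient.eq_zero_iff_mem]

lemma fk_mem (k : Fin N) : fk D k ∈ JJ D := by
  rw [mem_JJ_iff, map_fk]
  exact ell_mem D.S k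

lemma mapC_le_JJ : Ideal.map (C : B →+* MvPolynomial (Fin N) B) D.I ≤ JJ D := by
  rw [Ideal.map_le_iff_le_comap]
  intro i hi
  rw [Ideal.mem_comap, mem_JJ_iff, map_C, (RingHom.mem_ker).mp hi, map_zero]
  exact zero_mem _

lemma ker_map_eq : RingHom.ker (map (algebraMap B A) : MvPolynomial (Fin N) B →+* _) =
    Ideal.map (C : B →+* MvPolynomial (Fin N) B) D.I :=
  MvPolynomial.ker_map _

theorem JJ_eq : JJ D = Ideal.map (C : B →+* MvPolynomial (Fin N) B) D.I ⊔
    Ideal.span (Set.range (fk D)) := by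
  apply le_antisymm
  · intro p hp
    rw [mem_JJ_iff] at hp
    have h1 : KK D.S = Ideal.map (map (algebraMap B A)) (Ideal.span (Set.range (fk D))) := by
      unfold KK
      rw [Ideal.map_span, ← Set.range_comp]
      congr 2
      funext k
      exact (map_fk D k).symm
    rw [h1, Ideal.mem_map_iff_of_surjective _ (map_surjective _ D.surj)] at hp
    obtain ⟨s, hs, hsp⟩ := hp
    have h2 : p - s ∈ Ideal.map (C : B →+* MvPolynomial (Fin N) B) D.I := by
      rw [← ker_map_eq, RingHom.mem_ker, map_sub, hsp, sub_self]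
    have h3 : p = (p - s) + s := by ring
    rw [h3]
    exact Ideal.add_mem _ (Ideal.mem_sup_left h2) (Ideal.mem_sup_right hs)
  · rw [sup_le_iff]
    refine ⟨mapC_le_JJ D, ?_⟩
    rw [Ideal.span_le]
    rintro _ ⟨k, rfl⟩
    exact fk_mem D k

/-- the ideal `(y) + I B[y]`. -/
noncomputable def aa : Ideal (MvPolynomial (Fin N) B) :=
  Ideal.span (Set.range (X : Fin N → MvPolynomial (Fin N) B)) ⊔
    Ideal.map (C : B →+* MvPolynomial (Fin N) B) D.I

/-- the key inclusion `I ⊆ (fk) + aa · I B[y]`. -/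
lemma C_mem_sup (i : B) (hi : i ∈ D.I) :
    (C i : MvPolynomial (Fin N) B) ∈ Ideal.span (Set.range (fk D)) ⊔
      aa D * Ideal.map (C : B →+* MvPolynomial (Fin N) B) D.I := by
  choose b hb using fun k => D.surj (D.θ ⟨i, hi⟩ k)
  have hr := D.hθ ⟨i, hi⟩ b hb
  set r : B := i - ∑ k, b k * D.gen k with hrdef
  set c : Fin N → B := fun j => b j - ∑ k, b k * D.St k j with hc
  have hcI : ∀ j, c j ∈ D.I := by
    intro j
    rw [RingHom.mem_ker, hc]
    simp only [map_sub, map_sum, map_mul, hb, D.St_spec]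
    rw [D.θ_mul_S, sub_self]
  have hrI : (C r : MvPolynomial (Fin N) B) ∈
      aa D * Ideal.map (C : B →+* MvPolynomial (Fin N) B) D.I := by
    have h1 : (C r : MvPolynomial (Fin N) B) ∈
        Ideal.map (C : B →+* MvPolynomial (Fin N) B) (D.I ^ 2) := Ideal.mem_map_of_mem _ hr
    rw [Ideal.map_pow, pow_two] at h1
    exact Ideal.mul_mono_left le_sup_right h1
  have hkey : (C i : MvPolynomial (Fin N) B) =
      ∑ k, C (b k) * fk D k - ∑ j, X j * C (c j) + C r := by
    have e1 : ∑ k, C (b k) * fk D k =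
        ∑ k, (C (b k * D.gen k) : MvPolynomial (Fin N) B) + ∑ k, C (b k) * X k -
          ∑ k, ∑ j, C (b k * D.St k j) * X j := by
      rw [← Finset.sum_add_distrib, ← Finset.sum_sub_distrib]
      apply Finset.sum_congr rfl
      intro k _
      unfold fk linB
      rw [mul_sub, mul_add, Finset.mul_sum, map_mul]
      congr 1
      apply Finset.sum_congr rfl
      intro j _
      rw [map_mul]
      ring
    have e2 : ∑ j, X j * C (c j) =
        ∑ j, C (b j) * X j - ∑ j, ∑ k, (C (b k * D.St k j) : MvPolynomial (Fin N) B) * X j := by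
      rw [← Finset.sum_sub_distrib]
      apply Finset.sum_congr rfl
      intro j _
      rw [hc]
      simp only [map_sub, map_sum, map_mul]
      rw [mul_sub, Finset.mul_sum]
      congr 1
      · ring
      · apply Finset.sum_congr rfl
        intro k _
        ring
    rw [e1, e2, Finset.sum_comm (f := fun j k => (C (b k * D.St k j) : MvPolynomial (Fin N) B) * X j),
      hrdef]
    simp only [map_sub, map_sum, map_mul]
    ring
  rw [hkey]
  refine Ideal.add_mem _ (Ideal.sub_mem _ ?_ ?_) (Ideal.mem_sup_right hrI)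
  · apply Ideal.mem_sup_left
    exact Ideal.sum_mem _ fun k _ => Ideal.mul_mem_left _ _ (Ideal.subset_span ⟨k, rfl⟩)
  · apply Ideal.mem_sup_right
    refine Ideal.sum_mem _ fun j _ => Ideal.mul_mem_mul ?_ (Ideal.mem_map_of_mem _ (hcI j))
    exact Ideal.mem_sup_left (Ideal.subset_span ⟨j, rfl⟩)

lemma I_fg : (D.I).FG := by
  classical
  refine ⟨Finset.univ.image D.gen, ?_⟩
  rw [Finset.coe_image, Finset.coe_univ, Set.image_univ]
  exact D.span_gen

/-- Nakayama: an element `g₀ ∈ 1 + aa` with `g₀ · JJ ⊆ (fk)`. -/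
theorem exists_g0 : ∃ g₀ : MvPolynomial (Fin N) B, g₀ - 1 ∈ aa D ∧
    ∀ j ∈ JJ D, g₀ * j ∈ Ideal.span (Set.range (fk D)) := by
  let W : Submodule (MvPolynomial (Fin N) B)
      (MvPolynomial (Fin N) B ⧸ Ideal.span (Set.range (fk D))) :=
    Submodule.map (Ideal.span (Set.range (fk D))).mkQ
      (Ideal.map (C : B →+* MvPolynomial (Fin N) B) D.I)
  have hWfg : W.FG := Submodule.FG.map _ (Ideal.FG.map (I_fg D) _)
  have hWle : W ≤ aa D • W := by
    have h1 : Ideal.map (C : B →+* MvPolynomial (Fin N) B) D.I =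
        Submodule.span (MvPolynomial (Fin N) B) ((C : B →+* MvPolynomial (Fin N) B) '' D.I) := rfl
    show Submodule.map _ _ ≤ _
    rw [h1, Submodule.map_span, Submodule.span_le]
    rintro _ ⟨_, ⟨i, hi, rfl⟩, rfl⟩
    obtain ⟨s, hs, t, ht, hst⟩ := Submodule.mem_sup.mp (C_mem_sup D i hi)
    rw [← hst, map_add]
    have hs0 : (Ideal.span (Set.range (fk D))).mkQ s = 0 := by
      rw [Submodule.mkQ_apply, Submodule.Quotient.mk_eq_zero]; exact hs
    rw [hs0, zero_add, ← Submodule.map_smul'']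
    exact Submodule.mem_map_of_mem ht
  obtain ⟨r, hr1, hr2⟩ :=
    Submodule.exists_sub_one_mem_and_smul_eq_zero_of_fg_of_le_smul _ W hWfg hWle
  refine ⟨r, hr1, ?_⟩
  intro j hj
  rw [JJ_eq] at hj
  obtain ⟨s, hs, t, ht, rfl⟩ := Submodule.mem_sup.mp hj
  rw [mul_add]
  refine Ideal.add_mem _ ?_ (Ideal.mul_mem_left _ _ ht)
  have h1 := hr2 ((Ideal.span (Set.range (fk D))).mkQ s) ⟨s, hs, rfl⟩
  rw [← map_smul, Submodule.mkQ_apply, Submodule.Quotient.mk_eq_zero, smul_eq_mul] at h1
  exact h1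

end Groth.Agent.Lib.SymRetr
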