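import Mathlib
import Groth.Agent.Lib.SymRetr2_helper5

/-!
# The "symmetric algebra" of the conormal module (helper5), part 3: independence of the relations.

In the setting of part 2 we construct functionals `Psi l : B[y] → C1 S` which are additive and
`B[y]`-linear on the kernel `JJ` of `piB` and satisfy `Psi l (fk k) = δ_{kl}`.  It follows that the
relations `fk` are linearly independent modulo `𝔔 · JJ` for every ideal `𝔔 ⊇ JJ`.

* `gfun`, `Theta`, `phi`, `Psi`;
* `indep`.
APPEND-ONLY once landed.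
-/

set_option autoImplicit false
set_option linter.style.haveILetI false
universe u

namespace Groth.Agent.Lib.SymRetr

open MvPolynomial

variable {B A : Type u} [CommRing B] [CommRing A] [Algebra B A] {N : ℕ} (D : Data B A N)

/-- the functional `θ_l`, extended by zero outside `I`. -/
noncomputable def gfun (l : Fin N) (b : B) : A := by
  classical
  exact if h : b ∈ RingHom.ker (algebraMap B A) then D.θ ⟨b, h⟩ l else 0

lemma gfun_of_mem (l : Fin N) (b : B) (h : b ∈ RingHom.ker (algebraMap B A)) :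
    gfun D l b = D.θ ⟨b, h⟩ l := by
  unfold gfun
  rw [dif_pos h]

lemma gfun_zero (l : Fin N) : gfun D l 0 = 0 := by
  rw [gfun_of_mem D l 0 (zero_mem _)]
  have : (⟨0, zero_mem _⟩ : RingHom.ker (algebraMap B A)) = 0 := rfl
  rw [this, map_zero]
  rfl

lemma gfun_add (l : Fin N) (b b' : B) (h : b ∈ RingHom.ker (algebraMap B A))
    (h' : b' ∈ RingHom.ker (algebraMap B A)) :
    gfun D l (b + b') = gfun D l b + gfun D l b' := by
  rw [gfun_of_mem D l _ (add_mem h h'), gfun_of_mem D l _ h, gfun_of_mem D l _ h']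
  have : (⟨b + b', add_mem h h'⟩ : RingHom.ker (algebraMap B A)) = ⟨b, h⟩ + ⟨b', h'⟩ := rfl
  rw [this, map_add]
  rfl

lemma gfun_mul (l : Fin N) (c b : B) (h : b ∈ RingHom.ker (algebraMap B A)) :
    gfun D l (c * b) = algebraMap B A c * gfun D l b := by
  rw [gfun_of_mem D l _ (Ideal.mul_mem_left _ c h), gfun_of_mem D l _ h]
  have : (⟨c * b, Ideal.mul_mem_left _ c h⟩ : RingHom.ker (algebraMap B A)) = c • ⟨b, h⟩ := rfl
  rw [this, D.θ_smul]

lemma gfun_sq (l : Fin N) (b : B) (h : b ∈ RingHom.ker (algebraMap B A) ^ 2) :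
    gfun D l b = 0 := by
  have h' : b ∈ RingHom.ker (algebraMap B A) := Ideal.pow_le_self two_ne_zero h
  rw [gfun_of_mem D l _ h', D.θ_sq' b h h']
  rfl

lemma gfun_gen (l k : Fin N) : gfun D l (D.gen k) = D.S k l := by
  rw [gfun_of_mem D l _ (D.gen_mem k)]
  rfl

lemma gfun_sum (l : Fin N) {ι : Type*} (s : Finset ι) (b : ι → B)
    (h : ∀ t ∈ s, b t ∈ RingHom.ker (algebraMap B A)) :
    gfun D l (∑ t ∈ s, b t) = ∑ t ∈ s, gfun D l (b t) := by
  classical
  induction s using Finset.induction_on with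
  | empty => rw [Finset.sum_empty, Finset.sum_empty, gfun_zero]
  | insert a s ha ih =>
    rw [Finset.sum_insert ha, Finset.sum_insert ha,
      gfun_add D l _ _ (h a (Finset.mem_insert_self a s))
        (Ideal.sum_mem _ fun t ht => h t (Finset.mem_insert_of_mem ht)),
      ih (fun t ht => h t (Finset.mem_insert_of_mem ht))]

/-- apply `gfun l` coefficientwise. -/
noncomputable def Theta (l : Fin N) (u : MvPolynomial (Fin N) B) : MvPolynomial (Fin N) A :=
  AddMonoidAlgebra.ofCoeff (Finsupp.mapRange (gfun D l) (gfun_zero D l) (AddMonoidAlgebra.coeff u))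

lemma coeff_Theta (l : Fin N) (u : MvPolynomial (Fin N) B) (α : Fin N →₀ ℕ) :
    coeff α (Theta D l u) = gfun D l (coeff α u) := rfl

/-- polynomials with coefficients in `I`. -/
noncomputable abbrev IY : Ideal (MvPolynomial (Fin N) B) :=
  Ideal.map (C : B →+* MvPolynomial (Fin N) B) (RingHom.ker (algebraMap B A))

lemma mem_IY_iff (u : MvPolynomial (Fin N) B) :
    u ∈ IY (B := B) (A := A) (N := N) ↔ ∀ α, coeff α u ∈ RingHom.ker (algebraMap B A) :=
  MvPolynomial.mem_map_C_iff

lemma Theta_add (l : Fin N) (u v : MvPolynomial (Fin N) B)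
    (hu : u ∈ IY (B := B) (A := A) (N := N)) (hv : v ∈ IY (B := B) (A := A) (N := N)) :
    Theta D l (u + v) = Theta D l u + Theta D l v := by
  ext α
  rw [coeff_add, coeff_Theta, coeff_Theta, coeff_Theta, coeff_add,
    gfun_add D l _ _ ((mem_IY_iff u).mp hu α) ((mem_IY_iff v).mp hv α)]

lemma Theta_zero (l : Fin N) : Theta D l 0 = 0 := by
  ext α
  rw [coeff_Theta, coeff_zero, coeff_zero, gfun_zero]

lemma Theta_sum (l : Fin N) {ι : Type*} (s : Finset ι) (u : ι → MvPolynomial (Fin N) B)
    (h : ∀ t ∈ s, u t ∈ IY (B := B) (A := A) (N := N)) :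
    Theta D l (∑ t ∈ s, u t) = ∑ t ∈ s, Theta D l (u t) := by
  classical
  induction s using Finset.induction_on with
  | empty => rw [Finset.sum_empty, Finset.sum_empty, Theta_zero]
  | insert a s ha ih =>
    rw [Finset.sum_insert ha, Finset.sum_insert ha,
      Theta_add D l _ _ (h a (Finset.mem_insert_self a s))
        (Ideal.sum_mem _ fun t ht => h t (Finset.mem_insert_of_mem ht)),
      ih (fun t ht => h t (Finset.mem_insert_of_mem ht))]

lemma Theta_C_mul (l : Fin N) (b : B) (u : MvPolynomial (Fin N) B)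
    (hu : u ∈ IY (B := B) (A := A) (N := N)) :
    Theta D l (C b * u) = C (algebraMap B A b) * Theta D l u := by
  ext α
  rw [coeff_Theta, coeff_C_mul, coeff_C_mul, coeff_Theta,
    gfun_mul D l _ _ ((mem_IY_iff u).mp hu α)]

lemma Theta_X_mul (l : Fin N) (i : Fin N) (u : MvPolynomial (Fin N) B) :
    Theta D l (X i * u) = X i * Theta D l u := by
  classical
  ext α
  rw [coeff_Theta, coeff_X_mul', coeff_X_mul']
  split_ifs
  · rw [coeff_Theta]
  · rw [gfun_zero]

lemma Theta_C (l : Fin N) (b : B) : Theta D l (C b) = C (gfun D l b) := by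
  classical
  ext α
  rw [coeff_Theta, coeff_C, coeff_C]
  split_ifs
  · rfl
  · rw [gfun_zero]

lemma Theta_mul (l : Fin N) (q : MvPolynomial (Fin N) B) :
    ∀ u ∈ IY (B := B) (A := A) (N := N),
      Theta D l (q * u) = map (algebraMap B A) q * Theta D l u := by
  induction q using MvPolynomial.induction_on with
  | C b =>
    intro u hu
    rw [Theta_C_mul D l b u hu, map_C]
  | add p q hp hq =>
    intro u hu
    rw [add_mul, Theta_add D l _ _ (Ideal.mul_mem_left _ _ hu) (Ideal.mul_mem_left _ _ hu),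
      hp u hu, hq u hu, map_add, add_mul]
  | mul_X p i hp =>
    intro u hu
    rw [mul_assoc, hp (X i * u) (Ideal.mul_mem_left _ _ hu), Theta_X_mul, map_mul, map_X,
      mul_assoc]

/-- the endomorphism `y ↦ St y` of `B[y]`. -/
noncomputable def phi : MvPolynomial (Fin N) B →ₐ[B] MvPolynomial (Fin N) B :=
  aeval (linB D)

lemma phi_X (j : Fin N) : phi D (X j) = linB D j := by
  unfold phi
  rw [aeval_X]

lemma phi_C (b : B) : phi D (C b) = C b := by
  unfold phi
  rw [aeval_C]
  rfl

lemma map_phi (p : MvPolynomial (Fin N) B) :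
    map (algebraMap B A) (phi D p) = sigBar D.S (map (algebraMap B A) p) := by
  induction p using MvPolynomial.induction_on with
  | C b => rw [phi_C, map_C, sigBar_C]
  | add p q hp hq => rw [map_add, map_add, hp, hq, map_add, map_add]
  | mul_X p i hp => rw [map_mul, map_mul, hp, map_mul, map_mul, phi_X, map_X, sigBar_X, map_linB]

lemma phi_mem (p : MvPolynomial (Fin N) B) (hp : p ∈ JJ D) :
    phi D p ∈ IY (B := B) (A := A) (N := N) := by
  rw [mem_JJ_iff, mem_KK_iff D.S D.S_mul_S] at hp
  show phi D p ∈ Ideal.map C (D.I)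
  rw [← ker_map_eq D, RingHom.mem_ker, map_phi, hp]

/-- the functionals. -/
noncomputable def Psi (l : Fin N) (p : MvPolynomial (Fin N) B) : C1 D.S :=
  Ideal.Quotient.mk (KK D.S) (Theta D l (phi D p)) + piB D (pderiv l p)

lemma Psi_add (l : Fin N) (p p' : MvPolynomial (Fin N) B) (hp : p ∈ JJ D) (hp' : p' ∈ JJ D) :
    Psi D l (p + p') = Psi D l p + Psi D l p' := by
  unfold Psi
  rw [map_add, Theta_add D l _ _ (phi_mem D p hp) (phi_mem D p' hp'), map_add, map_add, map_add]
  ring

lemma Psi_mul (l : Fin N) (q p : MvPolynomial (Fin N) B) (hp : p ∈ JJ D) :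
    Psi D l (q * p) = piB D q * Psi D l p := by
  unfold Psi
  have hp0 : piB D p = 0 := hp
  rw [map_mul, Theta_mul D l _ _ (phi_mem D p hp), map_phi, map_mul, mk_sigBar,
    Derivation.leibniz, map_add, smul_eq_mul, smul_eq_mul, map_mul, map_mul, hp0, zero_mul,
    add_zero, piB_apply D q]
  ring

lemma Psi_zero (l : Fin N) : Psi D l 0 = 0 := by
  unfold Psi
  rw [map_zero, Theta_zero, map_zero, map_zero, map_zero, add_zero]

lemma Psi_sum_mul (l : Fin N) {ι : Type*} (s : Finset ι) (q p : ι → MvPolynomial (Fin N) B)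
    (hp : ∀ t ∈ s, p t ∈ JJ D) :
    Psi D l (∑ t ∈ s, q t * p t) = ∑ t ∈ s, piB D (q t) * Psi D l (p t) := by
  classical
  induction s using Finset.induction_on with
  | empty => rw [Finset.sum_empty, Finset.sum_empty, Psi_zero]
  | insert a s ha ih =>
    rw [Finset.sum_insert ha, Finset.sum_insert ha,
      Psi_add D l _ _ (Ideal.mul_mem_left _ _ (hp a (Finset.mem_insert_self a s)))
        (Ideal.sum_mem _ fun t ht => Ideal.mul_mem_left _ _ (hp t (Finset.mem_insert_of_mem ht))),
      ih (fun t ht => hp t (Finset.mem_insert_of_mem ht)),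
      Psi_mul D l _ _ (hp a (Finset.mem_insert_self a s))]

/-- `φ(fk k) = gen_k - ∑_l (St² - St)_{kl} y_l`. -/
lemma phi_fk (k : Fin N) :
    phi D (fk D k) = C (D.gen k) - ∑ l, C ((D.St * D.St - D.St) k l) * X l := by
  unfold fk
  rw [map_sub, map_add, phi_C, phi_X]
  have h1 : phi D (linB D k) = ∑ l, C ((D.St * D.St) k l) * X l := by
    unfold linB
    rw [map_sum]
    simp only [map_mul, phi_C, phi_X]
    unfold linB
    simp only [Finset.mul_sum]
    rw [Finset.sum_comm]
    apply Finset.sum_congr rfl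
    intro l _
    rw [Matrix.mul_apply, map_sum, Finset.sum_mul]
    apply Finset.sum_congr rfl
    intro j _
    rw [map_mul]
    ring
  rw [h1]
  unfold linB
  simp only [Matrix.sub_apply, map_sub, sub_mul, Finset.sum_sub_distrib]
  ring

lemma Psi_fk (l k : Fin N) : Psi D l (fk D k) = if k = l then 1 else 0 := by
  classical
  unfold Psi
  have h1 : Theta D l (phi D (fk D k)) = C (D.S k l) := by
    rw [phi_fk, sub_eq_add_neg, ← Finset.sum_neg_distrib]
    have hmem : ∀ t ∈ (Finset.univ : Finset (Fin N)),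
        -(C ((D.St * D.St - D.St) k t) * X t : MvPolynomial (Fin N) B) ∈
          IY (B := B) (A := A) (N := N) := by
      intro t _
      apply neg_mem
      apply Ideal.mul_mem_right
      exact Ideal.mem_map_of_mem _ (Ideal.pow_le_self two_ne_zero (D.St_sq_sub_mem k t))
    rw [Theta_add D l _ _ (Ideal.mem_map_of_mem _ (D.gen_mem k)) (Ideal.sum_mem _ hmem),
      Theta_sum D l _ _ hmem, Theta_C, gfun_gen]
    have h0 : ∀ t ∈ (Finset.univ : Finset (Fin N)),
        Theta D l (-(C ((D.St * D.St - D.St) k t) * X t : MvPolynomial (Fin N) B)) = 0 := by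
      intro t _
      rw [← neg_mul, ← map_neg, mul_comm, Theta_X_mul, Theta_C,
        gfun_sq D l _ (neg_mem (D.St_sq_sub_mem k t)), map_zero, mul_zero]
    rw [Finset.sum_eq_zero h0, add_zero]
  have h2 : pderiv l (fk D k) = (if k = l then 1 else 0) - C (D.St k l) := by
    unfold fk linB
    rw [map_sub, map_add, pderiv_C, zero_add, pderiv_X, map_sum]
    have h3 : ∀ j ∈ (Finset.univ : Finset (Fin N)),
        pderiv l (C (D.St k j) * X j : MvPolynomial (Fin N) B) =
          if j = l then C (D.St k j) else 0 := by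
      intro j _
      rw [Derivation.leibniz, pderiv_C, smul_zero, add_zero, pderiv_X, smul_eq_mul]
      by_cases hjl : j = l
      · subst hjl
        rw [Pi.single_eq_same, mul_one, if_pos rfl]
      · rw [Pi.single_eq_of_ne hjl, mul_zero, if_neg hjl]
    rw [Finset.sum_congr rfl h3, Finset.sum_ite_eq' Finset.univ l, if_pos (Finset.mem_univ _)]
    congr 1
    by_cases hkl : k = l
    · subst hkl
      rw [Pi.single_eq_same, if_pos rfl]
    · rw [Pi.single_eq_of_ne hkl, if_neg hkl]
  rw [h1, h2, map_sub, piB_apply D (C (D.St k l)), map_C, D.St_spec]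
  split_ifs
  · rw [map_one]; ring
  · rw [map_zero]; ring

/-- **independence** of the relations modulo `𝔔 · JJ`. -/
theorem indep (𝔔 : Ideal (MvPolynomial (Fin N) B)) (hJ : JJ D ≤ 𝔔)
    (lam : Fin N → MvPolynomial (Fin N) B)
    (h : ∑ k, lam k * fk D k ∈ 𝔔 * JJ D) : ∀ k, lam k ∈ 𝔔 := by
  classical
  intro l
  have key : ∀ x ∈ 𝔔 * JJ D, x ∈ JJ D ∧ Psi D l x ∈ Ideal.map (piB D) 𝔔 := by
    intro x hx
    refine Submodule.mul_induction_on hx ?_ ?_
    · intro q hq j hj
      refine ⟨Ideal.mul_mem_left _ _ hj, ?_⟩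
      rw [Psi_mul D l q j hj]
      exact Ideal.mul_mem_right _ _ (Ideal.mem_map_of_mem _ hq)
    · intro x y hx hy
      refine ⟨add_mem hx.1 hy.1, ?_⟩
      rw [Psi_add D l x y hx.1 hy.1]
      exact add_mem hx.2 hy.2
  have h1 := (key _ h).2
  rw [Psi_sum_mul D l _ _ _ (fun t _ => fk_mem D t)] at h1
  simp only [Psi_fk, mul_ite, mul_one, mul_zero] at h1
  rw [Finset.sum_ite_eq' Finset.univ l, if_pos (Finset.mem_univ _),
    Ideal.mem_map_iff_of_surjective _ (piB_surjective D)] at h1
  obtain ⟨q, hq, hql⟩ := h1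
  have h2 : lam l - q ∈ JJ D := by
    show piB D (lam l - q) = 0
    rw [map_sub, hql, sub_self]
  have h3 : lam l = (lam l - q) + q := by ring
  rw [h3]
  exact add_mem (hJ h2) hq

end Groth.Agent.Lib.SymRetr
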