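import Mathlib
import Groth.Prelude.Def_Koszul
import Groth.Prelude.Def_LCI2
import Groth.Agent.Lib.KoszulCancel_helper2
import Groth.Agent.Lib.FpqcKoszul_helper2

/-!
# Koszul-regularity from independence (helper5).

`kreg_away_of_indep`: let `J` be a Koszul-regular ideal of `T`, `F_1..F_c ∈ J` and `G ∈ T` with
`G · J ⊆ (F)`.  If the `F_i` are linearly independent modulo `𝔔 J` for every prime `𝔔 ⊇ J`, then
`F` is a Koszul-regular sequence in `T_G`.
APPEND-ONLY once landed.
-/

set_option autoImplicit false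
set_option linter.style.haveILetI false
universe u

namespace Groth.Agent.Lib.SymRetr

open Groth.Agent.Lib.KRegIdeal Groth.Agent.Lib.KoszulCancel

section

variable {T : Type u} [CommRing T]

lemma ofList_map_ofFn {T' : Type u} [CommRing T'] (ψ : T →+* T') {c : ℕ} (F : Fin c → T) :
    Ideal.ofList ((List.ofFn F).map ψ) = (Ideal.span (Set.range F)).map ψ := by
  rw [Ideal.map_span, ← Set.range_comp]
  unfold Ideal.ofList
  congr 1
  ext x
  simp [List.mem_ofFn]

/-- the localization map `T_g → T_𝔔` for `g ∉ 𝔔` is flat and compatible. -/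
lemma exists_flat_lift (𝔔 : Ideal T) [𝔔.IsPrime] (g : T) (hg : g ∉ 𝔔) (T' : Type u) [CommRing T']
    [Algebra T T'] [IsLocalization.Away g T'] :
    ∃ ψ : T' →+* Localization.AtPrime 𝔔, ψ.Flat ∧
      ψ.comp (algebraMap T T') = algebraMap T (Localization.AtPrime 𝔔) := by
  have hunit : IsUnit (algebraMap T (Localization.AtPrime 𝔔) g) :=
    IsLocalization.map_units (Localization.AtPrime 𝔔) (⟨g, hg⟩ : 𝔔.primeCompl)
  let ψ : T' →+* Localization.AtPrime 𝔔 := IsLocalization.Away.lift g hunit
  have hψ : ψ.comp (algebraMap T T') = algebraMap T (Localization.AtPrime 𝔔) :=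
    IsLocalization.Away.lift_comp g hunit
  refine ⟨ψ, ?_, hψ⟩
  letI : Algebra T' (Localization.AtPrime 𝔔) := ψ.toAlgebra
  haveI : IsScalarTower T T' (Localization.AtPrime 𝔔) :=
    IsScalarTower.of_algebraMap_eq (fun x => by
      show _ = ψ (algebraMap T T' x)
      rw [← RingHom.comp_apply, hψ])
  have hle : Submonoid.powers g ≤ 𝔔.primeCompl := by
    rintro x ⟨n, rfl⟩
    exact fun h => hg (Ideal.IsPrime.mem_of_pow_mem inferInstance n h)
  haveI : IsLocalization (Submonoid.map (algebraMap T T') 𝔔.primeCompl)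
      (Localization.AtPrime 𝔔) :=
    IsLocalization.isLocalization_of_submonoid_le T' (Localization.AtPrime 𝔔)
      (Submonoid.powers g) 𝔔.primeCompl hle
  show Module.Flat T' (Localization.AtPrime 𝔔)
  exact IsLocalization.flat _ (Submonoid.map (algebraMap T T') 𝔔.primeCompl)

theorem kreg_away_of_indep (J : Ideal T) (hKR : KR J) {c : ℕ} (F : Fin c → T) (G : T)
    (hF : ∀ i, F i ∈ J) (hG : ∀ j ∈ J, G * j ∈ Ideal.span (Set.range F))
    (hind : ∀ 𝔔 : Ideal T, 𝔔.IsPrime → J ≤ 𝔔 → ∀ lam : Fin c → T,
      ∑ i, lam i * F i ∈ 𝔔 * J → ∀ i, lam i ∈ 𝔔) :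
    LCI.IsKoszulRegularSeq (Localization.Away G)
      ((List.ofFn F).map (algebraMap T (Localization.Away G))) := by
  intro i hi
  apply Groth.Agent.Lib.FpqcReg.koszul_descent
  intro 𝔪 h𝔪
  haveI := h𝔪.isPrime
  set 𝔔 : Ideal T := 𝔪.comap (algebraMap T (Localization.Away G)) with h𝔔def
  haveI h𝔔 : 𝔔.IsPrime := Ideal.comap_isPrime _ _
  have hG𝔔 : G ∉ 𝔔 := fun hmem =>
    h𝔪.ne_top (Ideal.eq_top_of_isUnit_mem _ hmem (IsLocalization.Away.algebraMap_isUnit G))
  obtain ⟨χ, hχflat, hχ⟩ := exists_flat_lift 𝔔 G hG𝔔 (Localization.Away G)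
  have hχ' : ∀ x, χ (algebraMap T (Localization.Away G) x) =
      algebraMap T (Localization.AtPrime 𝔔) x := fun x => by
    rw [← RingHom.comp_apply, hχ]
  refine ⟨Localization.AtPrime 𝔔, inferInstance, inferInstance, χ, hχflat, ?_, ?_⟩
  · -- locality
    intro z hz
    rw [Ideal.mem_comap]
    obtain ⟨n, a, ha⟩ := IsLocalization.Away.surj G z
    have ha𝔔 : a ∈ 𝔔 := by
      rw [h𝔔def, Ideal.mem_comap, ← ha]
      exact Ideal.mul_mem_right _ _ hz
    have h1 : χ z * χ (algebraMap T (Localization.Away G) G) ^ n =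
        algebraMap T (Localization.AtPrime 𝔔) a := by
      rw [← map_pow, ← map_mul, ha, hχ']
    have h2 : algebraMap T (Localization.AtPrime 𝔔) a ∈
        IsLocalRing.maximalIdeal (Localization.AtPrime 𝔔) :=
      (IsLocalization.AtPrime.to_map_mem_maximal_iff (Localization.AtPrime 𝔔) 𝔔 a).mpr ha𝔔
    rw [← h1] at h2
    have hu : IsUnit (χ (algebraMap T (Localization.Away G) G) ^ n) :=
      ((IsLocalization.Away.algebraMap_isUnit G).map χ).pow n
    rcases (IsLocalRing.maximalIdeal.isMaximal _).isPrime.mem_or_mem h2 with h3 | h3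
    · exact h3
    · exact absurd hu ((IsLocalRing.mem_maximalIdeal _).mp h3)
  · -- vanishing
    have hmapmap : ((List.ofFn F).map (algebraMap T (Localization.Away G))).map χ =
        (List.ofFn F).map (algebraMap T (Localization.AtPrime 𝔔)) := by
      rw [List.map_map, ← hχ]
      rfl
    rw [hmapmap]
    set f' : List (Localization.AtPrime 𝔔) :=
      (List.ofFn F).map (algebraMap T (Localization.AtPrime 𝔔)) with hf'
    have hf'I : Ideal.ofList f' =
        (Ideal.span (Set.range F)).map (algebraMap T (Localization.AtPrime 𝔔)) :=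
      ofList_map_ofFn _ F
    by_cases hJ𝔔 : J ≤ 𝔔
    · -- the interesting case
      obtain ⟨G', hG', T', _, _, _, l, hlK, hlI⟩ :=
        exchange 𝔔 J hJ𝔔 hKR c F hF (hind 𝔔 h𝔔 hJ𝔔)
      obtain ⟨ψ, hψflat, hψ⟩ := exists_flat_lift 𝔔 G' hG' T'
      set fl' : List (Localization.AtPrime 𝔔) :=
        ((List.ofFn F).map (algebraMap T T') ++ l).map ψ with hfl'
      have hfl'K : LCI.IsKoszulRegularSeq (Localization.AtPrime 𝔔) fl' :=
        kreg_map_of_flat ψ hψflat _ hlK
      have hfl'I : Ideal.ofList fl' = J.map (algebraMap T (Localization.AtPrime 𝔔)) := by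
        have h1 : Ideal.ofList fl' =
            (Ideal.ofList ((List.ofFn F).map (algebraMap T T') ++ l)).map ψ := by
          unfold Ideal.ofList
          rw [Ideal.map_span]
          congr 1
          ext x
          simp only [hfl', List.mem_map, Set.mem_ofPred_eq, Set.mem_image]
        rw [h1, ← hlI, Ideal.map_map, hψ]
      have hJne : J.map (algebraMap T (Localization.AtPrime 𝔔)) ≠ ⊤ := by
        intro htop
        have hle : J.map (algebraMap T (Localization.AtPrime 𝔔)) ≤
            IsLocalRing.maximalIdeal (Localization.AtPrime 𝔔) := by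
          rw [Ideal.map_le_iff_le_comap]
          intro x hx
          rw [Ideal.mem_comap]
          exact (IsLocalization.AtPrime.to_map_mem_maximal_iff (Localization.AtPrime 𝔔) 𝔔 x).mpr
            (hJ𝔔 hx)
        rw [htop, top_le_iff] at hle
        exact (IsLocalRing.maximalIdeal.isMaximal _).ne_top hle
      have hf'J : Ideal.ofList f' = J.map (algebraMap T (Localization.AtPrime 𝔔)) := by
        rw [hf'I]
        apply le_antisymm
        · apply Ideal.map_mono
          rw [Ideal.span_le]
          rintro _ ⟨k, rfl⟩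
          exact hF k
        · rw [Ideal.map_le_iff_le_comap]
          intro j hj
          rw [Ideal.mem_comap]
          have h1 : algebraMap T (Localization.AtPrime 𝔔) (G * j) ∈
              (Ideal.span (Set.range F)).map (algebraMap T (Localization.AtPrime 𝔔)) :=
            Ideal.mem_map_of_mem _ (hG j hj)
          rw [map_mul] at h1
          have hu : IsUnit (algebraMap T (Localization.AtPrime 𝔔) G) :=
            IsLocalization.map_units (Localization.AtPrime 𝔔) (⟨G, hG𝔔⟩ : 𝔔.primeCompl)
          obtain ⟨u, hu'⟩ := hu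
          have h2 := Ideal.mul_mem_left _ (↑u⁻¹ : Localization.AtPrime 𝔔) h1
          rw [← hu', ← mul_assoc, Units.inv_mul, one_mul] at h2
          exact h2
      have hmin := (Groth.Agent.Lib.KoszulSplit.main18935 _ hJne fl' hfl'K hfl'I fl' hfl'I).mp
        hfl'K
      have hkr : LCI.IsKoszulRegularSeq (Localization.AtPrime 𝔔) f' := by
        refine (Groth.Agent.Lib.KoszulSplit.main18935 _ hJne fl' hfl'K hfl'I f' hf'J).mpr ?_
        intro h hh
        refine le_trans ?_ (hmin h hh)
        simp only [hf', hfl', List.length_map, List.length_append, List.length_ofFn]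
        omega
      exact hkr i hi
    · -- the ideal becomes the unit ideal
      apply Groth.Agent.Lib.FpqcReg.koszul_of_top
      rw [hf'I]
      obtain ⟨j, hjJ, hj𝔔⟩ := Set.not_subset.mp hJ𝔔
      have h1 : algebraMap T (Localization.AtPrime 𝔔) (G * j) ∈
          (Ideal.span (Set.range F)).map (algebraMap T (Localization.AtPrime 𝔔)) :=
        Ideal.mem_map_of_mem _ (hG j hjJ)
      have hGj : G * j ∉ 𝔔 := fun hmem => by
        rcases h𝔔.mem_or_mem hmem with h | h
        · exact hG𝔔 h
        · exact hj𝔔 h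
      have hu : IsUnit (algebraMap T (Localization.AtPrime 𝔔) (G * j)) :=
        IsLocalization.map_units (Localization.AtPrime 𝔔) (⟨G * j, hGj⟩ : 𝔔.primeCompl)
      exact Ideal.eq_top_of_isUnit_mem _ h1 hu

end

end Groth.Agent.Lib.SymRetr
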