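import Mathlib
import Groth.Prelude.Def_RegImm
import Groth.Agent.Lib.SymRetr2_helper5
import Groth.Agent.Lib.SyntConormal_helper2

/-!
# The "symmetric algebra" of the conormal module (helper5), part 5: existence of the data.

* `cotangent_projective_of_kr` : the conormal module of a Koszul-regular ideal is finite projective;
* `exists_data` : for a surjection `B → A` whose kernel is finitely generated and Koszul-regular
  there is a `Data B A N`.
APPEND-ONLY once landed.
-/

set_option autoImplicit false
set_option linter.style.haveILetI false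
universe u

namespace Groth.Agent.Lib.SymRetr

open Groth.Agent.Lib.KRegIdeal Groth.Agent.Lib.SyntConormal Groth.Agent.Lib.KoszulLow

theorem cotangent_projective_of_kr {P : Type u} [CommRing P] (I : Ideal P) (h : KR I) :
    Module.Finite (P ⧸ I) I.Cotangent ∧ Module.Projective (P ⧸ I) I.Cotangent := by
  apply finite_projective_of_lfd
  intro 𝔪 hmax
  haveI := hmax.isPrime
  have hprime : (𝔪.comap (Ideal.Quotient.mk I)).IsPrime := Ideal.comap_isPrime _ _
  have hle : I ≤ 𝔪.comap (Ideal.Quotient.mk I) := by
    intro x hx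
    rw [Ideal.mem_comap, Ideal.Quotient.eq_zero_iff_mem.mpr hx]
    exact zero_mem _
  obtain ⟨h₀, hh, T, _, _, hloc, l, hkr, hmap⟩ := h _ hprime hle
  have hq : CAlgX.IsQuasiRegular l.get :=
    Groth.Agent.Lib.H1QRegH1.main2103 _ (h1_of_koszulRegular l hkr)
  have hI' : I.map (algebraMap P T) = Ideal.span (Set.range l.get) := by
    rw [hmap, Set.range_list_get]
  obtain ⟨m, hm⟩ := lfd_cotangent I h₀ T l.get hq hI'
  exact ⟨Ideal.Quotient.mk I h₀, hh, l.length, m, hm⟩

theorem exists_data {B A : Type u} [CommRing B] [CommRing A] [Algebra B A]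
    (hsurj : Function.Surjective (algebraMap B A)) (hfg : (RingHom.ker (algebraMap B A)).FG)
    (hKR : KR (RingHom.ker (algebraMap B A))) : ∃ N : ℕ, Nonempty (Data B A N) := by
  classical
  set I : Ideal B := RingHom.ker (algebraMap B A) with hI
  obtain ⟨N, gen, hgen⟩ := Submodule.fg_iff_exists_fin_generating_family.mp hfg
  have hgen_mem : ∀ k, gen k ∈ I := fun k => by
    rw [← hgen]; exact Submodule.subset_span ⟨k, rfl⟩
  obtain ⟨hfin, hproj⟩ := cotangent_projective_of_kr I hKR
  let v : Fin N → I.Cotangent := fun k => I.toCotangent ⟨gen k, hgen_mem k⟩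
  let p : (Fin N → B ⧸ I) →ₗ[B ⧸ I] I.Cotangent := Fintype.linearCombination (B ⧸ I) v
  have hp : ∀ c, p c = ∑ k, c k • v k := fun c => rfl
  have hsm : ∀ (b : B) (x : I.Cotangent), b • x = (Ideal.Quotient.mk I b) • x := fun b x =>
    (algebraMap_smul (B ⧸ I) b x).symm
  have hpsurj : Function.Surjective p := by
    intro x
    obtain ⟨i, rfl⟩ := I.toCotangent_surjective x
    have hi : (i : B) ∈ Submodule.span B (Set.range gen) := by rw [hgen]; exact i.2
    obtain ⟨c, hc⟩ := (Submodule.mem_span_range_iff_exists_fun B).mp hi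
    refine ⟨fun k => Ideal.Quotient.mk I (c k), ?_⟩
    rw [hp]
    have h1 : i = ∑ k, c k • (⟨gen k, hgen_mem k⟩ : I) := by
      ext
      rw [Submodule.coe_sum, ← hc]
      rfl
    conv_rhs => rw [h1]
    rw [map_sum]
    apply Finset.sum_congr rfl
    intro k _
    rw [map_smul, hsm]
  obtain ⟨s, hs⟩ := Module.projective_lifting_property p LinearMap.id hpsurj
  have hs' : ∀ x, p (s x) = x := fun x => by
    have := congrArg (fun f => f x) hs
    exact this
  let e : (B ⧸ I) ≃+* A := RingHom.quotientKerEquivOfSurjective hsurj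
  have he : ∀ b, e (Ideal.Quotient.mk I b) = algebraMap B A b := fun b => rfl
  let θ : I →ₗ[B] (Fin N → A) :=
    { toFun := fun i k => e (s (I.toCotangent i) k)
      map_add' := fun i i' => by
        funext k
        simp only [map_add, Pi.add_apply]
      map_smul' := fun b i => by
        funext k
        simp only [RingHom.id_apply, Pi.smul_apply]
        rw [map_smul, hsm, map_smul, Pi.smul_apply, smul_eq_mul, map_mul, he, Algebra.smul_def] }
  refine ⟨N, ⟨⟨hsurj, gen, hgen_mem, hgen, θ, ?_⟩⟩⟩
  intro i b hb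
  have h1 : ∀ k, Ideal.Quotient.mk I (b k) = s (I.toCotangent i) k := by
    intro k
    apply e.injective
    rw [he, hb k]
    rfl
  have h2 := hs' (I.toCotangent i)
  rw [hp] at h2
  have hmem : (i : B) - ∑ k, b k * gen k ∈ I :=
    sub_mem i.2 (Ideal.sum_mem _ fun k _ => Ideal.mul_mem_left _ _ (hgen_mem k))
  have h3 : I.toCotangent ⟨(i : B) - ∑ k, b k * gen k, hmem⟩ = 0 := by
    have h4 : (⟨(i : B) - ∑ k, b k * gen k, hmem⟩ : I) =
        i - ∑ k, b k • (⟨gen k, hgen_mem k⟩ : I) := by
      ext
      rw [Submodule.coe_sub, Submodule.coe_sum]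
      rfl
    rw [h4, map_sub, map_sum, sub_eq_zero]
    conv_lhs => rw [← h2]
    apply Finset.sum_congr rfl
    intro k _
    rw [map_smul, hsm, h1 k]
  exact (Ideal.toCotangent_eq_zero I _).mp h3

end Groth.Agent.Lib.SymRetr
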