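import Mathlib
import Groth.Prelude.Def_RegImm
import Groth.Agent.Lib.SymRetr3_helper5
import Groth.Agent.Lib.SymRetr4_helper5
import Groth.Agent.Lib.SymRetr5_helper5
import Groth.Agent.Lib.RelGCI7_helper2
import Groth.Agent.Lib.SmoothSynt_helper4
import Groth.Agent.Lib.SyntSplit_helper2

/-!
# A syntomic algebra is a retract of a smooth algebra over it which is a relative global complete
intersection (helper5): S6828.

* `isSyntomic_of_smooth`;
* `exists_relGCI_of_kreg_away` : the global version of `RelGCI.exists_relGCI_away`;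
* `transport_retract`;
* `main6828`.
APPEND-ONLY once landed.
-/

set_option autoImplicit false
set_option linter.style.haveILetI false
universe u

namespace Groth.Agent.Lib.SymRetr

open Groth.Agent.Lib.KRegIdeal Groth.Agent.Lib.SyntTA Groth.Agent.Lib.LCILocal
  Groth.Agent.Lib.RelGCI Groth.Agent.Lib.SyntNoeth Groth.Agent.Lib.FibKoszul Polynomial

theorem isSyntomic_of_smooth (A B : Type u) [CommRing A] [CommRing B] [Algebra A B]
    [Algebra.Smooth A B] : Synt.IsSyntomic A B := by
  refine ⟨inferInstance, inferInstance, fun p => ?_⟩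
  haveI : Algebra.Smooth p.asIdeal.ResidueField (p.asIdeal.Fiber B) := inferInstance
  exact Groth.Agent.Lib.SmoothSyntH4.main9429 _ _

section relgci

variable (R S : Type u) [CommRing R] [CommRing S] [Algebra R S]

/-- the global version of `exists_relGCI_away`. -/
theorem exists_relGCI_of_kreg_away (hflat : Module.Flat R S) (n : ℕ)
    (π : MvPolynomial (Fin n) R →ₐ[R] S) (hπ : Function.Surjective π)
    (G : MvPolynomial (Fin n) R) (l : List (Localization.Away G))
    (hl : LCI.IsKoszulRegularSeq (Localization.Away G) l)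
    (hspan : (RingHom.ker π.toRingHom).map
      (algebraMap (MvPolynomial (Fin n) R) (Localization.Away G)) = Ideal.span {x | x ∈ l}) :
    ∃ (n' c : ℕ) (F : Fin c → MvPolynomial (Fin n') R), Synt.IsRelGCI R n' c F ∧
      Nonempty (Localization.Away (π G) ≃ₐ[R] Synt.RelGCIRing R n' c F) := by
  obtain ⟨bs, hbs⟩ : ∃ bs : List (MvPolynomial (Fin n) R)[X], bs.map (evInv G) = l := by
    refine ⟨l.map (Function.surjInv (evInv_surjective G)), ?_⟩
    rw [List.map_map]
    conv_rhs => rw [← List.map_id l]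
    apply List.map_congr_left
    intro a _
    exact Function.surjInv_eq (evInv_surjective G) a
  have heq : Ideal.ofList (bs.map (evInv G)) =
      (RingHom.ker π.toRingHom).map
        (algebraMap (MvPolynomial (Fin n) R) (Localization.Away G)) := by
    rw [hbs]
    exact hspan.symm
  obtain ⟨φ, hφ, hker⟩ := exists_presentation_away' n π hπ G bs heq
  set eE : (MvPolynomial (Fin n) R)[X] ≃+* MvPolynomial (Fin (n + 1)) R :=
    (MvPolynomial.finSuccEquiv R n).symm.toRingEquiv with heE
  set L' : List (MvPolynomial (Fin (n + 1)) R) :=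
    (((C G * X - 1 : (MvPolynomial (Fin n) R)[X]) :: bs).map eE) with hL'
  have hker' : Ideal.ofList L' = RingHom.ker φ := by
    ext x
    rw [RingHom.mem_ker, hker, hL', mem_ofList_map_ringEquiv]
    rfl
  have hKL : LCI.IsKoszulRegularSeq (MvPolynomial (Fin n) R)[X]
      ((C G * X - 1 : (MvPolynomial (Fin n) R)[X]) :: bs) := by
    apply koszul_cons_CX
    rw [hbs]
    exact hl
  have hKL' : LCI.IsKoszulRegularSeq (MvPolynomial (Fin (n + 1)) R) L' :=
    kreg_map_of_flat (eE : (MvPolynomial (Fin n) R)[X] →+* MvPolynomial (Fin (n + 1)) R)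
      (RingHom.Flat.of_bijective eE.bijective) _ hKL
  have hspanL : Ideal.span (Set.range L'.get) = Ideal.ofList L' := by
    rw [span_range_eq_ofList, List.ofFn_get]
  let Equot : Synt.RelGCIRing R (n + 1) L'.length L'.get ≃ₐ[R] Localization.Away (π G) :=
    ((Ideal.quotientEquivAlgOfEq R hspanL).trans (Ideal.quotientEquivAlgOfEq R hker')).trans
      (Ideal.quotientKerAlgEquivOfSurjective hφ)
  refine ⟨n + 1, L'.length, L'.get, ?_, ⟨Equot.symm⟩⟩
  apply isRelGCI_of_koszul_of_flat
  · rw [List.ofFn_get]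
    exact hKL'
  · haveI : Module.Flat R S := hflat
    haveI : Module.Flat R (Localization.Away (π G)) := Module.Flat.trans R S _
    exact Module.Flat.of_linearEquiv Equot.toLinearEquiv

end relgci

/-- transport of the structure along an isomorphism. -/
theorem transport_retract {R A C C' : Type u} [CommRing R] [CommRing A] [CommRing C] [CommRing C']
    [Algebra R A] [Algebra R C] [Algebra A C] [IsScalarTower R A C] [Algebra R C']
    [Algebra.Smooth A C] (Φ : C ≃ₐ[R] C') (ρ : C →ₐ[R] A)
    (hρ : ∀ a, ρ (algebraMap A C a) = a) :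
    ∃ (_ : Algebra A C') (_ : IsScalarTower R A C'), Algebra.Smooth A C' ∧
      ∃ ρ' : C' →ₐ[R] A, ∀ a : A, ρ' (algebraMap A C' a) = a := by
  letI : Algebra A C' := ((Φ : C →+* C').comp (algebraMap A C)).toAlgebra
  have halg : ∀ a, algebraMap A C' a = Φ (algebraMap A C a) := fun a => rfl
  haveI : IsScalarTower R A C' := IsScalarTower.of_algebraMap_eq (fun r => by
    rw [halg, ← IsScalarTower.algebraMap_apply R A C, Φ.commutes])
  let ΦA : C ≃ₐ[A] C' := { Φ with commutes' := fun a => rfl }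
  refine ⟨inferInstance, inferInstance, Algebra.Smooth.of_equiv ΦA, ρ.comp Φ.symm.toAlgHom, ?_⟩
  intro a
  rw [halg]
  show ρ (Φ.symm (Φ (algebraMap A C a))) = a
  rw [Φ.symm_apply_apply, hρ]

lemma map_eq_map_span_of_isUnit {T T' : Type*} [CommRing T] [CommRing T'] (ψ : T →+* T')
    (J : Ideal T) {c : ℕ} (F : Fin c → T) (G : T) (hF : ∀ i, F i ∈ J)
    (hG : ∀ j ∈ J, G * j ∈ Ideal.span (Set.range F)) (hu : IsUnit (ψ G)) :
    J.map ψ = (Ideal.span (Set.range F)).map ψ := by
  apply le_antisymm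
  · rw [Ideal.map_le_iff_le_comap]
    intro j hj
    rw [Ideal.mem_comap]
    have h1 : ψ (G * j) ∈ (Ideal.span (Set.range F)).map ψ := Ideal.mem_map_of_mem _ (hG j hj)
    rw [map_mul] at h1
    obtain ⟨u, hu'⟩ := hu
    have h2 := Ideal.mul_mem_left _ (↑u⁻¹ : T') h1
    rw [← hu', ← mul_assoc, Units.inv_mul, one_mul] at h2
    exact h2
  · apply Ideal.map_mono
    rw [Ideal.span_le]
    rintro _ ⟨k, rfl⟩
    exact hF k

section main

open MvPolynomial in
/-- `B[y] → C1 S` as an `R`-algebra map. -/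
noncomputable def piBR {R B A : Type u} [CommRing R] [CommRing B] [CommRing A] [Algebra R B]
    [Algebra R A] [Algebra B A] [IsScalarTower R B A] {N : ℕ} (D : Data B A N) :
    MvPolynomial (Fin N) B →ₐ[R] C1 D.S :=
  { piB D with
    commutes' := fun r => by
      show piB D (algebraMap R (MvPolynomial (Fin N) B) r) = algebraMap R (C1 D.S) r
      rw [MvPolynomial.algebraMap_apply, piB_apply, MvPolynomial.map_C,
        ← IsScalarTower.algebraMap_apply R B A]
      rfl }

lemma piBR_apply {R B A : Type u} [CommRing R] [CommRing B] [CommRing A] [Algebra R B]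
    [Algebra R A] [Algebra B A] [IsScalarTower R B A] {N : ℕ} (D : Data B A N)
    (p : MvPolynomial (Fin N) B) : piBR (R := R) D p = piB D p := rfl

open MvPolynomial in
/-- the zero section kills `aa`. -/
lemma rho1_piB_of_sub_one_mem {B A : Type u} [CommRing B] [CommRing A] [Algebra B A] {N : ℕ}
    (D : Data B A N) (g : MvPolynomial (Fin N) B) (hg : g - 1 ∈ aa D) :
    rho1 D.S (piB D g) = 1 := by
  let ψ : MvPolynomial (Fin N) B →+* A :=
    ((rho1 D.S : C1 D.S →+* A)).comp (piB D)
  have hle : aa D ≤ RingHom.ker ψ := by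
    unfold aa
    rw [sup_le_iff]
    constructor
    · rw [Ideal.span_le]
      rintro _ ⟨j, rfl⟩
      show rho1 D.S (piB D (X j)) = 0
      rw [piB_apply, MvPolynomial.map_X, rho1_mk, MvPolynomial.aeval_X]
    · rw [Ideal.map_le_iff_le_comap]
      intro i hi
      show rho1 D.S (piB D (C i)) = 0
      rw [piB_apply, MvPolynomial.map_C, rho1_mk, MvPolynomial.aeval_C, (RingHom.mem_ker).mp hi, map_zero]
  have h1 : ψ (g - 1) = 0 := hle hg
  rw [map_sub, map_one, sub_eq_zero] at h1
  exact h1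

theorem main6828 {R A : Type u} [CommRing R] [CommRing A] [Algebra R A]
    (h : Synt.IsSyntomic R A) :
    ∃ (n c : ℕ) (F : Fin c → MvPolynomial (Fin n) R), Synt.IsRelGCI R n c F ∧
      Module.Flat R (Synt.RelGCIRing R n c F) ∧
      ∃ (_ : Algebra A (Synt.RelGCIRing R n c F)) (_ : IsScalarTower R A (Synt.RelGCIRing R n c F)),
        Algebra.Smooth A (Synt.RelGCIRing R n c F) ∧
        ∃ ρ : Synt.RelGCIRing R n c F →ₐ[R] A,
          ∀ a : A, ρ (algebraMap A (Synt.RelGCIRing R n c F) a) = a := by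
  classical
  obtain ⟨hflat, hlci⟩ := (main9287 R A).mp h
  haveI : Algebra.FinitePresentation R A := h.2.1
  obtain ⟨hft, n, π₀, hπ₀, hKRI⟩ := hlci
  letI algBA : Algebra (MvPolynomial (Fin n) R) A := π₀.toRingHom.toAlgebra
  haveI : IsScalarTower R (MvPolynomial (Fin n) R) A :=
    IsScalarTower.of_algebraMap_eq (fun r => (π₀.commutes r).symm)
  have hsurj : Function.Surjective (algebraMap (MvPolynomial (Fin n) R) A) := hπ₀
  have hfg : (RingHom.ker (algebraMap (MvPolynomial (Fin n) R) A)).FG :=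
    Algebra.FinitePresentation.ker_fG_of_surjective π₀ hπ₀
  have hKR : KR (RingHom.ker (algebraMap (MvPolynomial (Fin n) R) A)) := (kr_iff _).mp hKRI
  obtain ⟨N, ⟨D⟩⟩ := exists_data hsurj hfg hKR
  haveI hsm : Algebra.Smooth A (C1 D.S) := smooth_C1 D.S D.S_mul_S
  have hsynt₁ : Synt.IsSyntomic R (C1 D.S) :=
    Groth.Agent.Lib.SyntSplit.isSyntomic_trans R A (C1 D.S) h (isSyntomic_of_smooth A (C1 D.S))
  obtain ⟨hflat₁, hlci₁⟩ := (main9287 R (C1 D.S)).mp hsynt₁
  -- the flat polynomial ring
  let e : MvPolynomial (Fin (N + n)) R ≃ₐ[R] MvPolynomial (Fin N) (MvPolynomial (Fin n) R) :=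
    (MvPolynomial.renameEquiv R finSumFinEquiv.symm).trans
      (MvPolynomial.sumAlgEquiv R (Fin N) (Fin n))
  let π' : MvPolynomial (Fin (N + n)) R →ₐ[R] C1 D.S := (piBR (R := R) D).comp e.toAlgHom
  have hπ'e : ∀ x, π' x = piB D (e x) := fun x => rfl
  have hπ' : Function.Surjective π' := (piB_surjective D).comp e.surjective
  obtain ⟨g₀, hg₀1, hg₀2⟩ := exists_g0 D
  set G' : MvPolynomial (Fin (N + n)) R := e.symm g₀ with hG'
  set F' : Fin N → MvPolynomial (Fin (N + n)) R := fun k => e.symm (fk D k) with hF'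
  set J' : Ideal (MvPolynomial (Fin (N + n)) R) := RingHom.ker π'.toRingHom with hJ'
  have hmemJ' : ∀ x, x ∈ J' ↔ e x ∈ JJ D := fun x => Iff.rfl
  have hKRJ' : KR J' := by
    have hπeq : π' = MvPolynomial.aeval (fun i => π' (MvPolynomial.X i)) :=
      MvPolynomial.aeval_unique π'
    have h1 := kr_kerOf_of_isLCI hlci₁ (fun i => π' (MvPolynomial.X i)) (by
      rw [← hπeq]; exact hπ')
    have h2 : Groth.Agent.Lib.LCIPres.kerOf (A := R) (fun i => π' (MvPolynomial.X i)) = J' := by
      unfold Groth.Agent.Lib.LCIPres.kerOf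
      rw [← hπeq]
    rw [h2] at h1
    exact h1
  have hF'J : ∀ k, F' k ∈ J' := fun k => by
    rw [hmemJ', hF']
    show e (e.symm (fk D k)) ∈ JJ D
    rw [e.apply_symm_apply]
    exact fk_mem D k
  have hspanF' : Ideal.span (Set.range F') =
      (Ideal.span (Set.range (fk D))).map (e.symm : _ →+* MvPolynomial (Fin (N + n)) R) := by
    rw [Ideal.map_span, ← Set.range_comp]
    rfl
  have hG'J : ∀ j ∈ J', G' * j ∈ Ideal.span (Set.range F') := by
    intro j hj
    rw [hmemJ'] at hj
    have h1 := hg₀2 (e j) hj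
    have h2 : (e.symm : _ →+* MvPolynomial (Fin (N + n)) R) (g₀ * e j) = G' * j := by
      show e.symm (g₀ * e j) = e.symm g₀ * j
      rw [map_mul, e.symm_apply_apply]
    rw [hspanF', ← h2]
    exact Ideal.mem_map_of_mem _ h1
  have hind : ∀ 𝔔 : Ideal (MvPolynomial (Fin (N + n)) R), 𝔔.IsPrime → J' ≤ 𝔔 →
      ∀ lam : Fin N → MvPolynomial (Fin (N + n)) R,
        ∑ i, lam i * F' i ∈ 𝔔 * J' → ∀ i, lam i ∈ 𝔔 := by
    intro 𝔔 _ hJ𝔔 lam hsum i
    set 𝔔₁ : Ideal (MvPolynomial (Fin N) (MvPolynomial (Fin n) R)) :=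
      𝔔.comap (e.symm : _ →+* MvPolynomial (Fin (N + n)) R) with h𝔔₁
    have hJJ𝔔 : JJ D ≤ 𝔔₁ := by
      intro p hp
      rw [h𝔔₁, Ideal.mem_comap]
      apply hJ𝔔
      rw [hmemJ']
      show e (e.symm p) ∈ JJ D
      rw [e.apply_symm_apply]
      exact hp
    have hmap𝔔 : 𝔔.map (e : _ →+* MvPolynomial (Fin N) (MvPolynomial (Fin n) R)) ≤ 𝔔₁ := by
      rw [Ideal.map_le_iff_le_comap]
      intro x hx
      rw [Ideal.mem_comap, h𝔔₁, Ideal.mem_comap]
      show e.symm (e x) ∈ 𝔔
      rw [e.symm_apply_apply]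
      exact hx
    have hmapJ : J'.map (e : _ →+* MvPolynomial (Fin N) (MvPolynomial (Fin n) R)) ≤ JJ D := by
      rw [Ideal.map_le_iff_le_comap]
      intro x hx
      exact (hmemJ' x).mp hx
    have h1 : (e : _ →+* MvPolynomial (Fin N) (MvPolynomial (Fin n) R)) (∑ i, lam i * F' i) ∈
        𝔔₁ * JJ D := by
      have h2 := Ideal.mem_map_of_mem
        (e : _ →+* MvPolynomial (Fin N) (MvPolynomial (Fin n) R)) hsum
      rw [Ideal.map_mul] at h2
      exact Ideal.mul_mono hmap𝔔 hmapJ h2
    have h3 : (e : _ →+* MvPolynomial (Fin N) (MvPolynomial (Fin n) R)) (∑ i, lam i * F' i) =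
        ∑ i, e (lam i) * fk D i := by
      rw [map_sum]
      apply Finset.sum_congr rfl
      intro k _
      rw [map_mul]
      show e (lam k) * e (e.symm (fk D k)) = _
      rw [e.apply_symm_apply]
    rw [h3] at h1
    have h4 := indep D 𝔔₁ hJJ𝔔 (fun i => e (lam i)) h1 i
    rw [h𝔔₁, Ideal.mem_comap] at h4
    have h5 : (e.symm : _ →+* MvPolynomial (Fin (N + n)) R) (e (lam i)) = lam i :=
      e.symm_apply_apply _
    rw [h5] at h4
    exact h4
  have hl := kreg_away_of_indep J' hKRJ' F' G' hF'J hG'J hind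
  have hspan : J'.map (algebraMap (MvPolynomial (Fin (N + n)) R) (Localization.Away G')) =
      Ideal.span {x | x ∈ (List.ofFn F').map
        (algebraMap (MvPolynomial (Fin (N + n)) R) (Localization.Away G'))} := by
    rw [map_eq_map_span_of_isUnit _ J' F' G' hF'J hG'J
      (IsLocalization.Away.algebraMap_isUnit G'), ← ofList_map_ofFn]
  obtain ⟨n', c, F, hrel, ⟨Φ⟩⟩ := exists_relGCI_of_kreg_away R (C1 D.S) hflat₁ (N + n) π' hπ' G'
    _ hl hspan
  -- the localized algebra
  have hG'1 : rho1 D.S (π' G') = 1 := by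
    rw [hπ'e, hG']
    show rho1 D.S (piB D (e (e.symm g₀))) = 1
    rw [e.apply_symm_apply]
    exact rho1_piB_of_sub_one_mem D g₀ hg₀1
  haveI : IsScalarTower R A (Localization.Away (π' G')) :=
    IsScalarTower.of_algebraMap_eq (fun r => by
      rw [IsScalarTower.algebraMap_apply R (C1 D.S) (Localization.Away (π' G')),
        IsScalarTower.algebraMap_apply R A (C1 D.S),
        ← IsScalarTower.algebraMap_apply A (C1 D.S) (Localization.Away (π' G'))])
  haveI : Algebra.Smooth (C1 D.S) (Localization.Away (π' G')) :=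
    Algebra.Smooth.of_isLocalization_Away (π' G')
  haveI : Algebra.Smooth A (Localization.Away (π' G')) :=
    Algebra.Smooth.comp A (C1 D.S) (Localization.Away (π' G'))
  let ρ₀ : Localization.Away (π' G') →ₐ[R] A :=
    IsLocalization.liftAlgHom (M := Submonoid.powers (π' G'))
      (f := (rho1 D.S).restrictScalars R) (by
        rintro ⟨_, k, rfl⟩
        show IsUnit (rho1 D.S (π' G' ^ k))
        rw [map_pow, hG'1, one_pow]
        exact isUnit_one)
  have hρ₀ : ∀ a : A, ρ₀ (algebraMap A (Localization.Away (π' G')) a) = a := by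
    intro a
    rw [IsScalarTower.algebraMap_apply A (C1 D.S) (Localization.Away (π' G'))]
    show IsLocalization.liftAlgHom _ (algebraMap (C1 D.S) _ (algebraMap A (C1 D.S) a)) = a
    rw [IsLocalization.liftAlgHom_apply, IsLocalization.lift_eq]
    show rho1 D.S (algebraMap A (C1 D.S) a) = a
    rw [AlgHom.commutes]
    rfl
  obtain ⟨i1, i2, hsmooth, ρ', hρ'⟩ := transport_retract Φ ρ₀ hρ₀
  refine ⟨n', c, F, hrel, ?_, i1, i2, hsmooth, ρ', hρ'⟩
  haveI : Module.Flat R (C1 D.S) := hflat₁
  haveI : Module.Flat R (Localization.Away (π' G')) := Module.Flat.trans R (C1 D.S) _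
  exact Module.Flat.of_linearEquiv Φ.symm.toLinearEquiv

end main

end Groth.Agent.Lib.SymRetr
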