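import Mathlib

/-!
# Swap-invariants of powers of the diagonal ideal (S19018)
-/

set_option autoImplicit false
open TensorProduct Pointwise
universe u

namespace Groth.Agent.Lib.SymTenDiag

/-- Abstract version: `σ` an involution of `T` with `2` invertible, `S` its fixed subalgebra,
`G` a set of invariant elements.  Then `(span G * span G) ∩ S = ((span G) ∩ S)^2`. -/
theorem comap_sq {k T : Type*} [CommRing k] [CommRing T] [Algebra k T] (σ : T →ₐ[k] T)
    (hσ : ∀ t, σ (σ t) = t) (c : T) (hc : 2 * c = 1) (hcσ : σ c = c)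
    (S : Subalgebra k T) (hS : ∀ x, x ∈ S ↔ σ x = x)
    (G : Set T) (hG : ∀ g ∈ G, σ g = g) :
    Ideal.comap S.val (Ideal.span G * Ideal.span G) =
      (Ideal.comap S.val (Ideal.span G)) ^ 2 := by
  apply le_antisymm
  · intro a ha
    rw [Ideal.mem_comap, Ideal.span_mul_span'] at ha
    have hmemS : ∀ t : T, c * (t + σ t) ∈ S := by
      intro t
      rw [hS, map_mul, map_add, hcσ, hσ, add_comm]
    let π : T → ↥S := fun t => ⟨c * (t + σ t), hmemS t⟩
    have key : ∀ x ∈ Ideal.span (G * G), ∀ t : T,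
        π (t * x) ∈ (Ideal.comap S.val (Ideal.span G)) ^ 2 := by
      intro x hx
      refine Submodule.span_induction
        (p := fun x _ => ∀ t : T, π (t * x) ∈ (Ideal.comap S.val (Ideal.span G)) ^ 2)
        ?_ ?_ ?_ ?_ hx
      · intro h hh t
        obtain ⟨g, hg, g', hg', rfl⟩ := Set.mem_mul.mp hh
        have hgS : g ∈ S := (hS g).mpr (hG g hg)
        have hg'S : g' ∈ S := (hS g').mpr (hG g' hg')
        have e : π (t * (g * g')) = π t * ((⟨g, hgS⟩ : ↥S) * (⟨g', hg'S⟩ : ↥S)) := by
          apply Subtype.ext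
          change c * (t * (g * g') + σ (t * (g * g'))) = c * (t + σ t) * (g * g')
          rw [map_mul, map_mul, hG g hg, hG g' hg']
          ring
        rw [e]
        apply Ideal.mul_mem_left
        rw [sq]
        apply Ideal.mul_mem_mul
        · rw [Ideal.mem_comap]; exact Ideal.subset_span hg
        · rw [Ideal.mem_comap]; exact Ideal.subset_span hg'
      · intro t
        have e : π (t * 0) = 0 := by
          apply Subtype.ext
          change c * (t * 0 + σ (t * 0)) = 0
          simp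
        rw [e]
        exact Ideal.zero_mem _
      · intro x y _ _ ihx ihy t
        have e : π (t * (x + y)) = π (t * x) + π (t * y) := by
          apply Subtype.ext
          change c * (t * (x + y) + σ (t * (x + y))) =
            c * (t * x + σ (t * x)) + c * (t * y + σ (t * y))
          simp only [map_mul, map_add]
          ring
        rw [e]
        exact Ideal.add_mem _ (ihx t) (ihy t)
      · intro r x _ ih t
        rw [smul_eq_mul, ← mul_assoc]
        exact ih (t * r)
    have h1 := key _ ha 1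
    have e : π (1 * S.val a) = a := by
      apply Subtype.ext
      have ha' : σ (a : T) = (a : T) := (hS _).mp a.2
      change c * (1 * (a : T) + σ (1 * (a : T))) = (a : T)
      rw [one_mul, ha']
      calc c * ((a : T) + (a : T)) = (2 * c) * (a : T) := by ring
        _ = (a : T) := by rw [hc, one_mul]
    rw [e] at h1
    exact h1
  · rw [sq]
    exact Ideal.le_comap_mul _

theorem main (k R : Type u) [Field k] [NeZero (2 : k)] [CommRing R] [Algebra k R] :
    Ideal.comap
        (AlgHom.equalizer ((Algebra.TensorProduct.comm k R R : R ⊗[k] R ≃ₐ[k] R ⊗[k] R) :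
            R ⊗[k] R →ₐ[k] R ⊗[k] R)
          (AlgHom.id k (R ⊗[k] R))).val
        (KaehlerDifferential.ideal k R ^ 4) =
      (Ideal.comap
        (AlgHom.equalizer ((Algebra.TensorProduct.comm k R R : R ⊗[k] R ≃ₐ[k] R ⊗[k] R) :
            R ⊗[k] R →ₐ[k] R ⊗[k] R)
          (AlgHom.id k (R ⊗[k] R))).val
        (KaehlerDifferential.ideal k R ^ 2)) ^ 2 := by
  have hI : KaehlerDifferential.ideal k R =
      Ideal.span (Set.range fun s : R => (1 : R) ⊗ₜ[k] s - s ⊗ₜ[k] (1 : R)) :=
    (KaehlerDifferential.span_range_eq_ideal k R).symm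
  have h2 : KaehlerDifferential.ideal k R ^ 2 =
      Ideal.span ((Set.range fun s : R => (1 : R) ⊗ₜ[k] s - s ⊗ₜ[k] (1 : R)) *
        (Set.range fun s : R => (1 : R) ⊗ₜ[k] s - s ⊗ₜ[k] (1 : R))) := by
    rw [sq, hI, Ideal.span_mul_span']
  have h4 : KaehlerDifferential.ideal k R ^ 4 =
      Ideal.span ((Set.range fun s : R => (1 : R) ⊗ₜ[k] s - s ⊗ₜ[k] (1 : R)) *
        (Set.range fun s : R => (1 : R) ⊗ₜ[k] s - s ⊗ₜ[k] (1 : R))) *
      Ideal.span ((Set.range fun s : R => (1 : R) ⊗ₜ[k] s - s ⊗ₜ[k] (1 : R)) *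
        (Set.range fun s : R => (1 : R) ⊗ₜ[k] s - s ⊗ₜ[k] (1 : R))) := by
    rw [← h2, ← pow_add]
  rw [h4, h2]
  refine comap_sq ((Algebra.TensorProduct.comm k R R : R ⊗[k] R ≃ₐ[k] R ⊗[k] R) :
            R ⊗[k] R →ₐ[k] R ⊗[k] R) ?_ (algebraMap k (R ⊗[k] R) 2⁻¹) ?_ ?_ _ ?_ _ ?_
  · intro t
    induction t using TensorProduct.induction_on with
    | zero => simp
    | tmul a b => simp [Algebra.TensorProduct.comm_tmul]
    | add x y hx hy => simp only [map_add, hx, hy]
  · have h : (2 : R ⊗[k] R) = algebraMap k (R ⊗[k] R) 2 := (map_ofNat _ 2).symm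
    rw [h, ← map_mul, mul_inv_cancel₀ (NeZero.ne (2 : k)), map_one]
  · exact AlgHom.commutes _ _
  · intro x
    exact AlgHom.mem_equalizer _ _ x
  · rintro g ⟨d, ⟨r, rfl⟩, d', ⟨s, rfl⟩, rfl⟩
    simp only [map_mul, map_sub, AlgEquiv.coe_algHom, Algebra.TensorProduct.comm_tmul]
    ring

end Groth.Agent.Lib.SymTenDiag
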