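import Mathlib
import Groth.Agent.Lib.EtGlue6_helper4

/-!
# Symbolic powers and flat base change (helper4)

`R → S` flat, `𝔭` prime of `R` with `𝔮 = 𝔭S` prime. Then `𝔭^{(n)} S = 𝔮^{(n)}`.
-/

set_option autoImplicit false
set_option linter.unusedSectionVars false

namespace Groth.Agent.Lib.SymbPowH4

open TensorProduct Groth.Agent.Lib.EtGlueH4

universe u

section Symb

/-- membership in the contraction of the extension to the localization at a prime. -/
lemma mem_symb_iff {X : Type u} [CommRing X] (P : Ideal X) [P.IsPrime] (K : Ideal X) (x : X) :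
    x ∈ (K.map (algebraMap X (Localization.AtPrime P))).comap
      (algebraMap X (Localization.AtPrime P)) ↔ ∃ s : X, s ∉ P ∧ s * x ∈ K := by
  rw [Ideal.mem_comap, IsLocalization.mem_map_algebraMap_iff P.primeCompl]
  constructor
  · rintro ⟨⟨a, m⟩, h⟩
    rw [← map_mul] at h
    obtain ⟨c, hc⟩ := (IsLocalization.eq_iff_exists P.primeCompl _).mp h
    refine ⟨c * m, fun hmem => (Ideal.IsPrime.mem_or_mem ‹_› hmem).elim c.2 m.2, ?_⟩
    have : (c : X) * m * x = c * a := by rw [← hc]; ring
    rw [this]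
    exact K.mul_mem_left _ a.2
  · rintro ⟨s, hs, h⟩
    refine ⟨(⟨s * x, h⟩, ⟨s, hs⟩), ?_⟩
    rw [← map_mul, mul_comm]

variable {R S : Type u} [CommRing R] [CommRing S] [Algebra R S] [Module.Flat R S]
variable (p : Ideal R) [hp : p.IsPrime] [hqp : (p.map (algebraMap R S)).IsPrime]

/-- torsion-freeness with respect to the complement of `p`. -/
def TF (G : Type u) [AddCommGroup G] [Module R G] : Prop :=
  ∀ s : R, s ∉ p → ∀ g : G, s • g = 0 → g = 0

omit hp hqp in
lemma mem_map_of_tmul_eq_zero {G : Type u} [AddCommGroup G] [Module R G] (g : G)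
    (hann : ∀ a : R, a • g = 0 → a ∈ p) (u : S) (h : u ⊗ₜ[R] g = 0) :
    u ∈ p.map (algebraMap R S) := by
  have hex := Module.Flat.lTensor_exact S
    (N := LinearMap.ker (LinearMap.toSpanSingleton R G g))
    (LinearMap.exact_subtype_ker_map (LinearMap.toSpanSingleton R G g))
  have h1 : (LinearMap.toSpanSingleton R G g).lTensor S (u ⊗ₜ[R] (1 : R)) = 0 := by
    rw [LinearMap.lTensor_tmul, LinearMap.toSpanSingleton_apply, one_smul]; exact h
  obtain ⟨z, hz⟩ := (hex _).mp h1
  have key : ∀ z : S ⊗[R] (LinearMap.ker (LinearMap.toSpanSingleton R G g)),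
      TensorProduct.rid R S
        ((LinearMap.ker (LinearMap.toSpanSingleton R G g)).subtype.lTensor S z) ∈
          p.map (algebraMap R S) := by
    intro z
    induction z using TensorProduct.induction_on with
    | zero => simp
    | tmul s a =>
      rw [LinearMap.lTensor_tmul, TensorProduct.rid_tmul, Submodule.subtype_apply,
        Algebra.smul_def]
      have ha : (a : R) ∈ p := hann a (by
        have := a.2
        rwa [LinearMap.mem_ker, LinearMap.toSpanSingleton_apply] at this)
      exact Ideal.mul_mem_right _ _ (Ideal.mem_map_of_mem _ ha)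
    | add x y hx hy => rw [map_add, map_add]; exact Ideal.add_mem _ hx hy
  have := key z
  rw [hz, TensorProduct.rid_tmul, one_smul] at this
  exact this

omit hqp in
lemma quot_killed_self (J : Ideal R) : ∀ a ∈ J, ∀ t : R ⧸ J, a • t = 0 := by
  intro a ha t
  obtain ⟨r, rfl⟩ := Ideal.Quotient.mk_surjective t
  rw [Algebra.smul_def, Ideal.Quotient.algebraMap_eq, ← map_mul, Ideal.Quotient.eq_zero_iff_mem]
  exact J.mul_mem_right _ ha

lemma not_mem_map_of_not_mem {s : R} (hs : s ∉ p) :
    algebraMap R S s ∉ p.map (algebraMap R S) := by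
  intro hmem
  have h0 : (algebraMap R S s) ⊗ₜ[R] (Ideal.Quotient.mk p 1) = 0 :=
    tmul_eq_zero_of_mem_map (quot_killed_self p) hmem _
  have hinj : Function.Injective
      ((s • (LinearMap.id : (R ⧸ p) →ₗ[R] (R ⧸ p))).lTensor S) := by
    apply Module.Flat.lTensor_preserves_injective_linearMap
    intro x y hxy
    obtain ⟨x, rfl⟩ := Ideal.Quotient.mk_surjective x
    obtain ⟨y, rfl⟩ := Ideal.Quotient.mk_surjective y
    simp only [LinearMap.smul_apply, LinearMap.id_apply] at hxy
    rw [← sub_eq_zero, ← smul_sub, ← map_sub, Algebra.smul_def, Ideal.Quotient.algebraMap_eq,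
      ← map_mul, Ideal.Quotient.eq_zero_iff_mem] at hxy
    rcases hp.mem_or_mem hxy with h | h
    · exact absurd h hs
    · rw [← sub_eq_zero, ← map_sub, Ideal.Quotient.eq_zero_iff_mem]; exact h
  have h1 : (1 : S) ⊗ₜ[R] (Ideal.Quotient.mk p 1) = 0 := by
    apply hinj
    rw [map_zero, LinearMap.lTensor_tmul, LinearMap.smul_apply, LinearMap.id_apply, ← h0,
      Algebra.algebraMap_eq_smul_one, smul_tmul]
  have h2 := mem_map_of_tmul_eq_zero p (Ideal.Quotient.mk p 1) (fun a ha => by
    rwa [Algebra.smul_def, map_one, mul_one, Ideal.Quotient.algebraMap_eq,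
      Ideal.Quotient.eq_zero_iff_mem] at ha) 1 h1
  exact hqp.ne_top ((Ideal.eq_top_iff_one _).mpr h2)

omit hp hqp in
lemma smul_injective_tensor {G : Type u} [AddCommGroup G] [Module R G] (hTF : TF p G) {s : R}
    (hs : s ∉ p) : Function.Injective (fun w : S ⊗[R] G => s • w) := by
  have hinj : Function.Injective (s • (LinearMap.id : G →ₗ[R] G)) := by
    intro x y hxy
    simp only [LinearMap.smul_apply, LinearMap.id_apply] at hxy
    have := hTF s hs (x - y) (by rw [smul_sub, hxy, sub_self])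
    exact sub_eq_zero.mp this
  have hflat := Module.Flat.lTensor_preserves_injective_linearMap (M := S) _ hinj
  have e : ⇑((s • (LinearMap.id : G →ₗ[R] G)).lTensor S) = fun w => s • w := by
    funext w
    induction w using TensorProduct.induction_on with
    | zero => simp
    | tmul a x => rw [LinearMap.lTensor_tmul, LinearMap.smul_apply, LinearMap.id_apply, tmul_smul]
    | add x y hx hy => rw [map_add, hx, hy, smul_add]
  rw [← e]; exact hflat

omit hqp in
lemma one_not_mem : (1 : R) ∉ p := (Ideal.ne_top_iff_one p).mp hp.ne_top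

/-- the saturation of `R g₀` with respect to the complement of `p`. -/
def satSpan {G : Type u} [AddCommGroup G] [Module R G] (g₀ : G) : Submodule R G where
  carrier := {h | ∃ s : R, s ∉ p ∧ ∃ r : R, s • h = r • g₀}
  zero_mem' := ⟨1, one_not_mem p, 0, by simp⟩
  add_mem' := by
    rintro h₁ h₂ ⟨s₁, hs₁, r₁, e₁⟩ ⟨s₂, hs₂, r₂, e₂⟩
    refine ⟨s₁ * s₂, fun h => (hp.mem_or_mem h).elim hs₁ hs₂, s₂ * r₁ + s₁ * r₂, ?_⟩
    have : (s₁ * s₂) • (h₁ + h₂) = s₂ • (s₁ • h₁) + s₁ • (s₂ • h₂) := by
      rw [smul_add, mul_smul, mul_smul, smul_comm s₁ s₂ h₁]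
    rw [this, e₁, e₂, add_smul, mul_smul, mul_smul]
  smul_mem' := by
    rintro a h ⟨s, hs, r, e⟩
    exact ⟨s, hs, a * r, by rw [smul_comm, e, mul_smul]⟩

omit hqp in
lemma self_mem_satSpan {G : Type u} [AddCommGroup G] [Module R G] (g₀ : G) :
    g₀ ∈ satSpan p g₀ := ⟨1, one_not_mem p, 1, rfl⟩

omit hqp in
lemma quot_sat_killed {G : Type u} [AddCommGroup G] [Module R G]
    (hk : ∀ a ∈ p, ∀ g : G, a • g = 0) (g₀ : G) :
    ∀ a ∈ p, ∀ q : G ⧸ satSpan p g₀, a • q = 0 := by
  intro a ha q
  obtain ⟨g, rfl⟩ := Submodule.Quotient.mk_surjective _ q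
  rw [← Submodule.Quotient.mk_smul, hk a ha g, Submodule.Quotient.mk_zero]

omit hqp in
lemma quot_sat_TF {G : Type u} [AddCommGroup G] [Module R G] (g₀ : G) :
    TF p (G ⧸ satSpan p g₀) := by
  intro s' hs' q hq
  obtain ⟨g, rfl⟩ := Submodule.Quotient.mk_surjective _ q
  rw [← Submodule.Quotient.mk_smul, Submodule.Quotient.mk_eq_zero] at hq
  obtain ⟨s, hs, r, e⟩ := hq
  rw [Submodule.Quotient.mk_eq_zero]
  exact ⟨s * s', fun h => (hp.mem_or_mem h).elim hs hs', r, by rw [mul_smul, e]⟩

lemma exists_fin_sum {G : Type u} [AddCommGroup G] [Module R G] (w : S ⊗[R] G) :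
    ∃ (m : ℕ) (s : Fin m → S) (g : Fin m → G), w = ∑ i, s i ⊗ₜ[R] g i := by
  induction w using TensorProduct.induction_on with
  | zero => exact ⟨0, Fin.elim0, Fin.elim0, by simp⟩
  | tmul s g => exact ⟨1, fun _ => s, fun _ => g, by simp⟩
  | add x y hx hy =>
    obtain ⟨m₁, s₁, g₁, rfl⟩ := hx
    obtain ⟨m₂, s₂, g₂, rfl⟩ := hy
    exact ⟨m₁ + m₂, Fin.append s₁ s₂, Fin.append g₁ g₂, by
      rw [Fin.sum_univ_add]; simp [Fin.append_left, Fin.append_right]⟩

theorem T_killed (t : S) (ht : t ∉ p.map (algebraMap R S)) :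
    ∀ (m : ℕ) (G : Type u) [AddCommGroup G] [Module R G],
      (∀ a ∈ p, ∀ g : G, a • g = 0) → TF p G →
      ∀ (s : Fin m → S) (g : Fin m → G),
        t • (∑ i, s i ⊗ₜ[R] g i) = 0 → ∑ i, s i ⊗ₜ[R] g i = 0 := by
  intro m
  induction m with
  | zero => intro G _ _ _ _ s g _; simp
  | succ m ih =>
    intro G _ _ hk hTF s g hw
    have hg0 : g 0 ∈ satSpan p (g 0) := self_mem_satSpan p (g 0)
    have hwbar : (satSpan p (g 0)).mkQ.baseChange S (∑ i, s i ⊗ₜ[R] g i) =
        ∑ i : Fin m, s i.succ ⊗ₜ[R] (satSpan p (g 0)).mkQ (g i.succ) := by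
      rw [map_sum, Fin.sum_univ_succ]
      simp only [LinearMap.baseChange_tmul]
      rw [show (satSpan p (g 0)).mkQ (g 0) = 0 from
        (Submodule.Quotient.mk_eq_zero _).mpr hg0, tmul_zero, zero_add]
    have h1 : (satSpan p (g 0)).mkQ.baseChange S (∑ i, s i ⊗ₜ[R] g i) = 0 := by
      rw [hwbar]
      apply ih (G ⧸ satSpan p (g 0)) (quot_sat_killed p hk (g 0)) (quot_sat_TF p (g 0))
      rw [← hwbar, ← map_smul, hw, map_zero]
    have hex : Function.Exact ((satSpan p (g 0)).subtype.lTensor S)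
        ((satSpan p (g 0)).mkQ.lTensor S) :=
      lTensor_exact S (M := satSpan p (g 0)) (LinearMap.exact_subtype_mkQ _)
        (Submodule.mkQ_surjective _)
    have h1' : (satSpan p (g 0)).mkQ.lTensor S (∑ i, s i ⊗ₜ[R] g i) = 0 := by
      rw [← LinearMap.baseChange_eq_ltensor]; exact h1
    obtain ⟨w', hw'⟩ := (hex _).mp h1'
    have hinjH : Function.Injective ((satSpan p (g 0)).subtype.lTensor S) :=
      Module.Flat.lTensor_preserves_injective_linearMap _ (Submodule.injective_subtype _)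
    have htw' : t • w' = 0 := by
      apply hinjH
      rw [map_zero, ← LinearMap.baseChange_eq_ltensor, map_smul,
        LinearMap.baseChange_eq_ltensor, hw', hw]
    have hclaim : ∀ z : S ⊗[R] (satSpan p (g 0)), ∃ s₀ : R, s₀ ∉ p ∧ ∃ u : S,
        s₀ • z = u ⊗ₜ[R] (⟨g 0, hg0⟩ : satSpan p (g 0)) := by
      intro z
      induction z using TensorProduct.induction_on with
      | zero => exact ⟨1, one_not_mem p, 0, by simp⟩
      | tmul a h =>
        obtain ⟨s₀, hs₀, r, e⟩ := h.2
        refine ⟨s₀, hs₀, algebraMap R S r * a, ?_⟩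
        have e' : s₀ • h = r • (⟨g 0, hg0⟩ : satSpan p (g 0)) := Subtype.ext e
        rw [← tmul_smul, e', tmul_smul, smul_tmul', Algebra.smul_def]
      | add x y hx hy =>
        obtain ⟨s₁, hs₁, u₁, e₁⟩ := hx
        obtain ⟨s₂, hs₂, u₂, e₂⟩ := hy
        refine ⟨s₁ * s₂, fun h => (hp.mem_or_mem h).elim hs₁ hs₂, s₂ • u₁ + s₁ • u₂, ?_⟩
        rw [smul_add, mul_smul, mul_smul, smul_comm s₁ s₂ x, e₁, e₂, add_tmul, smul_tmul',
          smul_tmul']
    obtain ⟨s₀, hs₀, u, hu⟩ := hclaim w'
    have h2 : (t * u) ⊗ₜ[R] (⟨g 0, hg0⟩ : satSpan p (g 0)) = 0 := by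
      have : t • (u ⊗ₜ[R] (⟨g 0, hg0⟩ : satSpan p (g 0))) = 0 := by
        rw [← hu, smul_comm, htw', smul_zero]
      rwa [smul_tmul', smul_eq_mul] at this
    have h3 : u ⊗ₜ[R] (⟨g 0, hg0⟩ : satSpan p (g 0)) = 0 := by
      by_cases hg : g 0 = 0
      · have : (⟨g 0, hg0⟩ : satSpan p (g 0)) = 0 := Subtype.ext hg
        rw [this, tmul_zero]
      · have hann : ∀ a : R, a • (⟨g 0, hg0⟩ : satSpan p (g 0)) = 0 → a ∈ p := by
          intro a ha
          by_contra hap
          exact hg (hTF a hap (g 0) (congrArg Subtype.val ha))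
        have h4 := mem_map_of_tmul_eq_zero p _ hann _ h2
        have h5 : u ∈ p.map (algebraMap R S) := (hqp.mem_or_mem h4).resolve_left ht
        exact tmul_eq_zero_of_mem_map (fun a ha h => Subtype.ext (hk a ha h.1)) h5 _
    have h6 : s₀ • w' = 0 := by rw [hu, h3]
    have hTFH : TF p (satSpan p (g 0)) :=
      fun s hs h hh => Subtype.ext (hTF s hs h.1 (congrArg Subtype.val hh))
    have h7 : w' = 0 := smul_injective_tensor p hTFH hs₀ (by simpa using h6)
    rw [← hw', h7, map_zero]

theorem T_bounded (t : S) (ht : t ∉ p.map (algebraMap R S)) :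
    ∀ (n : ℕ) (G : Type u) [AddCommGroup G] [Module R G],
      (∀ a ∈ p ^ n, ∀ g : G, a • g = 0) → TF p G →
      ∀ w : S ⊗[R] G, t • w = 0 → w = 0 := by
  intro n
  induction n with
  | zero =>
    intro G _ _ hk _ w hw
    clear hw
    have h0 : ∀ g : G, g = 0 := fun g => by
      have := hk 1 (by rw [pow_zero, Ideal.one_eq_top]; trivial) g
      rwa [one_smul] at this
    induction w using TensorProduct.induction_on with
    | zero => rfl
    | tmul s g => rw [h0 g, tmul_zero]
    | add x y hx hy => rw [hx, hy, add_zero]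
  | succ n ih =>
    intro G _ _ hk hTF w hw
    have hTFQ : TF p (G ⧸ killedBy p G) := by
      intro s hs q hq
      obtain ⟨g, rfl⟩ := Submodule.Quotient.mk_surjective _ q
      rw [← Submodule.Quotient.mk_smul, Submodule.Quotient.mk_eq_zero, mem_killedBy] at hq
      rw [Submodule.Quotient.mk_eq_zero, mem_killedBy]
      intro a ha
      apply hTF s hs
      rw [smul_comm]; exact hq a ha
    have h1 : (killedBy p G).mkQ.baseChange S w = 0 := by
      apply ih (G ⧸ killedBy p G) (quot_killed hk) hTFQ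
      rw [← map_smul, hw, map_zero]
    have hex : Function.Exact ((killedBy p G).subtype.lTensor S)
        ((killedBy p G).mkQ.lTensor S) :=
      lTensor_exact S (M := killedBy p G) (LinearMap.exact_subtype_mkQ _)
        (Submodule.mkQ_surjective _)
    have h1' : (killedBy p G).mkQ.lTensor S w = 0 := by
      rw [← LinearMap.baseChange_eq_ltensor]; exact h1
    obtain ⟨w', hw'⟩ := (hex w).mp h1'
    have hinjK : Function.Injective ((killedBy p G).subtype.lTensor S) :=
      Module.Flat.lTensor_preserves_injective_linearMap _ (Submodule.injective_subtype _)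
    have htw' : t • w' = 0 := by
      apply hinjK
      rw [map_zero, ← LinearMap.baseChange_eq_ltensor, map_smul,
        LinearMap.baseChange_eq_ltensor, hw', hw]
    obtain ⟨m, s, g, rfl⟩ := exists_fin_sum w'
    have hTFK : TF p (killedBy p G) :=
      fun s hs h hh => Subtype.ext (hTF s hs h.1 (congrArg Subtype.val hh))
    have := T_killed p t ht m (killedBy p G) killedBy_killed hTFK s g htw'
    rw [← hw', this, map_zero]

/-- the `n`-th symbolic power. -/
noncomputable abbrev symb (n : ℕ) : Ideal R :=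
  ((p ^ n).map (algebraMap R (Localization.AtPrime p))).comap
    (algebraMap R (Localization.AtPrime p))

theorem mem_map_symb (n : ℕ) (x t : S) (ht : t ∉ p.map (algebraMap R S))
    (h : t * x ∈ (p ^ n).map (algebraMap R S)) : x ∈ (symb p n).map (algebraMap R S) := by
  have hle : p ^ n ≤ symb p n := Ideal.le_comap_map
  have hk : ∀ a ∈ p ^ n, ∀ g : R ⧸ symb p n, a • g = 0 :=
    fun a ha g => quot_killed_self (symb p n) a (hle ha) g
  have hTF : TF p (R ⧸ symb p n) := by
    intro s hs q hq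
    obtain ⟨r, rfl⟩ := Ideal.Quotient.mk_surjective q
    rw [Algebra.smul_def, Ideal.Quotient.algebraMap_eq, ← map_mul,
      Ideal.Quotient.eq_zero_iff_mem, mem_symb_iff] at hq
    obtain ⟨s', hs', h'⟩ := hq
    rw [Ideal.Quotient.eq_zero_iff_mem, mem_symb_iff]
    exact ⟨s' * s, fun hm => (hp.mem_or_mem hm).elim hs' hs, by rw [mul_assoc]; exact h'⟩
  have h0 : t • (x ⊗ₜ[R] (Ideal.Quotient.mk (symb p n) 1)) = 0 := by
    rw [smul_tmul', smul_eq_mul]
    exact tmul_eq_zero_of_mem_map (quot_killed_self (symb p n)) (Ideal.map_mono hle h) _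
  have h1 := T_bounded p t ht n (R ⧸ symb p n) hk hTF _ h0
  have h2 := congrArg (TensorProduct.tensorQuotEquivQuotSMul S (symb p n)) h1
  rw [TensorProduct.tensorQuotEquivQuotSMul_tmul_mk, one_smul, map_zero,
    Submodule.Quotient.mk_eq_zero, Ideal.smul_top_eq_map] at h2
  exact h2

theorem symb_map_eq (n : ℕ) :
    (symb p n).map (algebraMap R S) =
      (((p.map (algebraMap R S)) ^ n).map
        (algebraMap S (Localization.AtPrime (p.map (algebraMap R S))))).comap
        (algebraMap S (Localization.AtPrime (p.map (algebraMap R S)))) := by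
  apply le_antisymm
  · rw [Ideal.map_le_iff_le_comap]
    intro r hr
    rw [mem_symb_iff] at hr
    obtain ⟨s, hs, h⟩ := hr
    rw [Ideal.mem_comap, mem_symb_iff]
    refine ⟨algebraMap R S s, not_mem_map_of_not_mem p hs, ?_⟩
    rw [← map_mul, ← Ideal.map_pow]
    exact Ideal.mem_map_of_mem _ h
  · intro x hx
    rw [mem_symb_iff] at hx
    obtain ⟨t, ht, h⟩ := hx
    rw [← Ideal.map_pow] at h
    exact mem_map_symb p n x t ht h

end Symb

end Groth.Agent.Lib.SymbPowH4
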