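import Mathlib

/-!
# Transformations preserving a perfect alternating form have determinant one (helper1)

Reduction to `SymplecticGroup.det_eq_one` (standard `J`) by constructing a symplectic family over
local rings and localising.
-/

set_option autoImplicit false
universe u v
open Matrix

namespace Groth.Agent.Lib.SympDetH1

section General

variable {R : Type u} [CommRing R] {n : ℕ}

/-- an alternating matrix gives `x^T A x = 0` -/
theorem alt_self (A : Matrix (Fin n) (Fin n) R) (hdiag : ∀ i, A i i = 0) (hskew : Aᵀ = -A)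
    (x : Fin n → R) : x ⬝ᵥ A *ᵥ x = 0 := by
  classical
  obtain ⟨U, hU⟩ : ∃ U : Matrix (Fin n) (Fin n) R, ∀ i j, U i j = if i < j then A i j else 0 :=
    ⟨Matrix.of fun i j => if i < j then A i j else 0, fun i j => rfl⟩
  have hA : A = U - Uᵀ := by
    ext i j
    rw [Matrix.sub_apply, Matrix.transpose_apply, hU, hU]
    rcases lt_trichotomy i j with h | h | h
    · rw [if_pos h, if_neg (not_lt.mpr h.le), sub_zero]
    · subst h
      rw [if_neg (lt_irrefl _), sub_zero, hdiag]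
    · have h1 : A i j = - A j i := by
        have := congrFun (congrFun hskew j) i
        rw [Matrix.transpose_apply, Matrix.neg_apply] at this
        exact this
      rw [if_neg (not_lt.mpr h.le), if_pos h, zero_sub, h1]
  rw [hA, Matrix.sub_mulVec, dotProduct_sub, Matrix.mulVec_transpose, sub_eq_zero,
    Matrix.dotProduct_mulVec, dotProduct_comm]

theorem skew_apply (A : Matrix (Fin n) (Fin n) R) (hskew : Aᵀ = -A) (x y : Fin n → R) :
    x ⬝ᵥ A *ᵥ y = - (y ⬝ᵥ A *ᵥ x) := by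
  rw [Matrix.dotProduct_mulVec, dotProduct_comm, ← Matrix.mulVec_transpose, hskew,
    Matrix.neg_mulVec, dotProduct_neg]

theorem gram_apply {a b : Type} [Fintype a] [Fintype b] (A : Matrix (Fin n) (Fin n) R)
    (P : Matrix (Fin n) a R) (Q : Matrix (Fin n) b R) (i : a) (j : b) :
    (Pᵀ * A * Q) i j = (fun r => P r i) ⬝ᵥ A *ᵥ (fun r => Q r j) := by
  rw [Matrix.mul_apply]
  simp only [Matrix.mul_apply, Matrix.transpose_apply, dotProduct, Matrix.mulVec, Finset.sum_mul,
    Finset.mul_sum]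
  rw [Finset.sum_comm]
  refine Finset.sum_congr rfl fun r _ => Finset.sum_congr rfl fun s _ => ?_
  ring

theorem mulVec_gram_apply {a : Type} [Fintype a] (A : Matrix (Fin n) (Fin n) R)
    (P : Matrix (Fin n) a R) (x : Fin n → R) (i : a) :
    ((Pᵀ * A) *ᵥ x) i = (fun r => P r i) ⬝ᵥ A *ᵥ x := by
  rw [← Matrix.mulVec_mulVec]
  rfl

end General

section Local

variable {R : Type u} [CommRing R] [IsLocalRing R] {n : ℕ}

theorem exists_ef {l : Type} [Fintype l] [DecidableEq l] (A : Matrix (Fin n) (Fin n) R)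
    (hA : IsUnit A.det)
    (P : Matrix (Fin n) (l ⊕ l) R) (hP : Pᵀ * A * P = J l R) (hlt : Fintype.card (l ⊕ l) < n) :
    ∃ e f : Fin n → R, (Pᵀ * A) *ᵥ e = 0 ∧ (Pᵀ * A) *ᵥ f = 0 ∧ f ⬝ᵥ A *ᵥ e = 1 := by
  classical
  obtain ⟨Y, hY⟩ : ∃ Y : Matrix (l ⊕ l) (Fin n) R, Y = J l R * Pᵀ * A := ⟨_, rfl⟩
  obtain ⟨Pr, hPr⟩ : ∃ Pr : Matrix (Fin n) (Fin n) R, Pr = 1 + P * Y := ⟨_, rfl⟩
  have h0 : Pᵀ * A * Pr = 0 := by
    have h1 : Pᵀ * A * (P * Y) = (Pᵀ * A * P) * J l R * (Pᵀ * A) := by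
      rw [hY]
      simp only [Matrix.mul_assoc]
    rw [hPr, Matrix.mul_add, Matrix.mul_one, h1, hP, J_squared, Matrix.neg_mul, Matrix.one_mul,
      add_neg_cancel]
  -- a unit entry of Pr
  have hunit : ∃ j i, IsUnit (Pr j i) := by
    by_contra hcon
    push_neg at hcon
    have hz : Pr.map (IsLocalRing.residue R) = 0 := by
      ext i j
      rw [Matrix.map_apply, Matrix.zero_apply, IsLocalRing.residue_eq_zero_iff,
        IsLocalRing.mem_maximalIdeal]
      exact hcon i j
    have h1 : P.map (IsLocalRing.residue R) * (-(Y.map (IsLocalRing.residue R))) = 1 := by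
      have h2 : Pr.map (IsLocalRing.residue R) =
          1 + P.map (IsLocalRing.residue R) * Y.map (IsLocalRing.residue R) := by
        rw [hPr, Matrix.map_add _ (map_add _), Matrix.map_one _ (map_zero _) (map_one _),
          Matrix.map_mul]
      rw [hz] at h2
      rw [Matrix.mul_neg]
      exact (eq_neg_of_add_eq_zero_left h2.symm).symm
    have h3 := Matrix.rank_mul_le_left (P.map (IsLocalRing.residue R))
      (-(Y.map (IsLocalRing.residue R)))
    rw [h1, Matrix.rank_one, Fintype.card_fin] at h3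
    have h4 := Matrix.rank_le_card_width (P.map (IsLocalRing.residue R))
    omega
  obtain ⟨j, i, hu⟩ := hunit
  obtain ⟨e, he⟩ : ∃ e : Fin n → R, e = Pr *ᵥ Pi.single i 1 := ⟨_, rfl⟩
  have hej : e j = Pr j i := by
    rw [he, Matrix.mulVec_single_one]
    rfl
  obtain ⟨f0, hf0⟩ : ∃ f0 : Fin n → R, f0 = ((↑(hu.unit⁻¹) : R) • Pi.single j (1 : R)) ᵥ* A⁻¹ :=
    ⟨_, rfl⟩
  have hf0A : f0 ᵥ* A = (↑(hu.unit⁻¹) : R) • Pi.single j (1 : R) := by
    rw [hf0, Matrix.vecMul_vecMul, Matrix.nonsing_inv_mul A hA, Matrix.vecMul_one]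
  have hKe : (Pᵀ * A) *ᵥ e = 0 := by
    rw [he, Matrix.mulVec_mulVec, h0, Matrix.zero_mulVec]
  refine ⟨e, Pr *ᵥ f0, hKe, ?_, ?_⟩
  · rw [Matrix.mulVec_mulVec, h0, Matrix.zero_mulVec]
  · have h5 : Pr *ᵥ f0 = f0 + P *ᵥ (Y *ᵥ f0) := by
      rw [hPr, Matrix.add_mulVec, Matrix.one_mulVec, Matrix.mulVec_mulVec]
    have h6 : (P *ᵥ (Y *ᵥ f0)) ⬝ᵥ A *ᵥ e = 0 := by
      rw [dotProduct_comm, Matrix.dotProduct_mulVec, dotProduct_comm, ← Matrix.mulVec_transpose,
        Matrix.mulVec_mulVec, hKe, dotProduct_zero]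
    rw [h5, add_dotProduct, h6, add_zero, Matrix.dotProduct_mulVec, hf0A, smul_dotProduct,
      single_one_dotProduct, hej, smul_eq_mul, IsUnit.val_inv_mul]

theorem exists_family (A : Matrix (Fin n) (Fin n) R) (hdiag : ∀ i, A i i = 0) (hskew : Aᵀ = -A)
    (hA : IsUnit A.det) (m : ℕ) (hn : n = 2 * m) :
    ∀ k ≤ m, ∃ (l : Type) (_ : Fintype l) (_ : DecidableEq l), Fintype.card l = k ∧
      ∃ P : Matrix (Fin n) (l ⊕ l) R, Pᵀ * A * P = J l R := by
  intro k
  induction k with
  | zero =>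
    intro _
    refine ⟨Fin 0, inferInstance, inferInstance, Fintype.card_fin 0, Matrix.of fun _ s =>
      Sum.elim (fun a => Fin.elim0 a) (fun a => Fin.elim0 a) s, ?_⟩
    ext a b
    rcases a with a | a <;> exact Fin.elim0 a
  | succ k ih =>
    intro hk
    obtain ⟨l, hl1, hl2, hcard, P, hP⟩ := ih (Nat.le_of_succ_le hk)
    have hlt : Fintype.card (l ⊕ l) < n := by
      rw [Fintype.card_sum, hcard, hn]
      omega
    obtain ⟨e, f, he, hf, hfe⟩ := exists_ef A hA P hP hlt
    have he' : ∀ a, (fun r => P r a) ⬝ᵥ A *ᵥ e = 0 := by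
      intro a
      rw [← mulVec_gram_apply, he]
      rfl
    have hf' : ∀ a, (fun r => P r a) ⬝ᵥ A *ᵥ f = 0 := by
      intro a
      rw [← mulVec_gram_apply, hf]
      rfl
    have he'' : ∀ a, e ⬝ᵥ A *ᵥ (fun r => P r a) = 0 := by
      intro a
      rw [skew_apply A hskew, he', neg_zero]
    have hf'' : ∀ a, f ⬝ᵥ A *ᵥ (fun r => P r a) = 0 := by
      intro a
      rw [skew_apply A hskew, hf', neg_zero]
    have hef : e ⬝ᵥ A *ᵥ f = -1 := by
      rw [skew_apply A hskew, hfe]
    have hee : e ⬝ᵥ A *ᵥ e = 0 := alt_self A hdiag hskew e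
    have hff : f ⬝ᵥ A *ᵥ f = 0 := alt_self A hdiag hskew f
    have hold : ∀ a b, (fun r => P r a) ⬝ᵥ A *ᵥ (fun r => P r b) = J l R a b := by
      intro a b
      rw [← gram_apply, hP]
    refine ⟨Option l, inferInstance, inferInstance, by rw [Fintype.card_option, hcard], ?_⟩
    refine ⟨Matrix.of fun r s => Sum.elim (fun a => Option.elim a (e r) (fun a => P r (Sum.inl a)))
      (fun a => Option.elim a (f r) (fun a => P r (Sum.inr a))) s, ?_⟩
    ext a b
    rw [gram_apply]
    rcases a with (_ | a) | (_ | a) <;> rcases b with (_ | b) | (_ | b)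
    · simpa [J] using hee
    · simpa [J] using he'' (Sum.inl b)
    · simpa [J] using hef
    · simpa [J] using he'' (Sum.inr b)
    · simpa [J] using he' (Sum.inl a)
    · simpa [J, Matrix.one_apply] using hold (Sum.inl a) (Sum.inl b)
    · simpa [J] using hf' (Sum.inl a)
    · simpa [J, Matrix.one_apply] using hold (Sum.inl a) (Sum.inr b)
    · simpa [J] using hfe
    · simpa [J] using hf'' (Sum.inl b)
    · simpa [J] using hff
    · simpa [J] using hf'' (Sum.inr b)
    · simpa [J] using he' (Sum.inr a)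
    · simpa [J, Matrix.one_apply] using hold (Sum.inr a) (Sum.inl b)
    · simpa [J] using hf' (Sum.inr a)
    · simpa [J, Matrix.one_apply] using hold (Sum.inr a) (Sum.inr b)

theorem det_eq_one_local (A G : Matrix (Fin n) (Fin n) R) (hdiag : ∀ i, A i i = 0)
    (hskew : Aᵀ = -A) (hA : IsUnit A.det) (m : ℕ) (hn : n = 2 * m) (hG : Gᵀ * A * G = A) :
    G.det = 1 := by
  classical
  obtain ⟨l, hl1, hl2, hcard, P, hP⟩ := exists_family A hdiag hskew hA m hn m le_rfl
  have hc : Fintype.card (l ⊕ l) = Fintype.card (Fin n) := by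
    rw [Fintype.card_sum, hcard, Fintype.card_fin, hn]
    omega
  obtain ⟨ε⟩ : Nonempty (l ⊕ l ≃ Fin n) := ⟨Fintype.equivOfCardEq hc⟩
  obtain ⟨P', hP'⟩ : ∃ P' : Matrix (l ⊕ l) (l ⊕ l) R, P' = P.submatrix ε id := ⟨_, rfl⟩
  obtain ⟨A', hA'⟩ : ∃ A' : Matrix (l ⊕ l) (l ⊕ l) R, A' = A.submatrix ε ε := ⟨_, rfl⟩
  obtain ⟨G', hG'⟩ : ∃ G' : Matrix (l ⊕ l) (l ⊕ l) R, G' = G.submatrix ε ε := ⟨_, rfl⟩
  have h1 : P'ᵀ * A' * P' = J l R := by
    rw [hP', hA', Matrix.transpose_submatrix, Matrix.submatrix_mul_equiv,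
      Matrix.submatrix_mul_equiv, hP, Matrix.submatrix_id_id]
  have h2 : G'ᵀ * A' * G' = A' := by
    rw [hG', hA', Matrix.transpose_submatrix, Matrix.submatrix_mul_equiv,
      Matrix.submatrix_mul_equiv, hG]
  have hdetG : G'.det = G.det := by
    rw [hG', Matrix.det_submatrix_equiv_self]
  have hPu : IsUnit P'.det := by
    have h3 : P'ᵀ.det * A'.det * P'.det = (J l R).det := by
      rw [← Matrix.det_mul, ← Matrix.det_mul, h1]
    have h4 : IsUnit (P'ᵀ.det * A'.det * P'.det) := h3 ▸ isUnit_det_J l R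
    exact isUnit_of_mul_isUnit_right h4
  obtain ⟨Q, hQ⟩ : ∃ Q : Matrix (l ⊕ l) (l ⊕ l) R, Q = P'⁻¹ := ⟨_, rfl⟩
  have hPQ : P' * Q = 1 := by rw [hQ, Matrix.mul_nonsing_inv P' hPu]
  have hQP : Q * P' = 1 := by rw [hQ, Matrix.nonsing_inv_mul P' hPu]
  have hQJQ : Qᵀ * J l R * Q = A' := by
    rw [← h1]
    have : Qᵀ * (P'ᵀ * A' * P') * Q = (P' * Q)ᵀ * A' * (P' * Q) := by
      simp only [Matrix.transpose_mul, Matrix.mul_assoc]
    rw [this, hPQ, Matrix.transpose_one, Matrix.one_mul, Matrix.mul_one]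
  have hH : (Q * G' * P')ᵀ * J l R * (Q * G' * P') = J l R := by
    have : (Q * G' * P')ᵀ * J l R * (Q * G' * P') =
        P'ᵀ * (G'ᵀ * (Qᵀ * J l R * Q) * G') * P' := by
      simp only [Matrix.transpose_mul, Matrix.mul_assoc]
    rw [this, hQJQ, h2, h1]
  have hmem : (Q * G' * P')ᵀ ∈ symplecticGroup l R := by
    rw [SymplecticGroup.mem_iff, Matrix.transpose_transpose]
    exact hH
  have hdet := SymplecticGroup.det_eq_one hmem
  rw [Matrix.det_transpose, Matrix.det_mul, Matrix.det_mul] at hdet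
  have h5 : Q.det * P'.det = 1 := by rw [← Matrix.det_mul, hQP, Matrix.det_one]
  rw [← hdetG]
  calc G'.det = G'.det * (Q.det * P'.det) := by rw [h5, mul_one]
    _ = Q.det * G'.det * P'.det := by ring
    _ = 1 := hdet

end Local

section Global

variable {R : Type u} [CommRing R] {n : ℕ}

/-- A matrix preserving an invertible alternating matrix of even size has determinant one. -/
theorem det_eq_one_of_alt (A G : Matrix (Fin n) (Fin n) R) (hdiag : ∀ i, A i i = 0)
    (hskew : Aᵀ = -A) (hA : IsUnit A.det) (m : ℕ) (hn : n = 2 * m) (hG : Gᵀ * A * G = A) :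
    G.det = 1 := by
  refine sub_eq_zero.1 <| eq_zero_of_localization _ fun p hp => ?_
  have hloc := det_eq_one_local (A.map (algebraMap R (Localization.AtPrime p)))
    (G.map (algebraMap R (Localization.AtPrime p))) ?_ ?_ ?_ m hn ?_
  · rw [map_sub, map_one, RingHom.map_det, RingHom.mapMatrix_apply, hloc, sub_self]
  · intro i
    rw [Matrix.map_apply, hdiag, map_zero]
  · ext i j
    have := congrFun (congrFun hskew i) j
    rw [Matrix.transpose_apply, Matrix.neg_apply] at this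
    rw [Matrix.transpose_apply, Matrix.neg_apply, Matrix.map_apply, Matrix.map_apply, this,
      map_neg]
  · have := hA.map (algebraMap R (Localization.AtPrime p))
    rwa [RingHom.map_det, RingHom.mapMatrix_apply] at this
  · rw [← Matrix.transpose_map, ← Matrix.map_mul, ← Matrix.map_mul, hG]

end Global

end Groth.Agent.Lib.SympDetH1
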