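import Mathlib
import Groth.Agent.Lib.SympDet_helper1

/-!
# Isometries of regular quadratic forms of even rank in characteristic two have determinant one
-/

set_option autoImplicit false
universe u v
open Matrix

namespace Groth.Agent.Lib.SympDetH1

theorem linearEquiv_det_eq_one {R : Type u} [CommRing R] [CharP R 2] {M : Type v} [AddCommGroup M]
    [Module R M] [Module.Free R M] [Module.Finite R M] (m : ℕ)
    (hM : Module.finrank R M = 2 * m) (Q : QuadraticForm R M)
    (hQ : Function.Bijective (QuadraticMap.polarBilin Q)) (g : M ≃ₗ[R] M)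
    (hg : ∀ v, Q (g v) = Q v) : LinearEquiv.det g = 1 := by
  classical
  rcases subsingleton_or_nontrivial R with hsub | hnt
  · exact Subsingleton.elim _ _
  obtain ⟨b⟩ : Nonempty (Module.Basis (Fin (Module.finrank R M)) R M) := ⟨Module.finBasis R M⟩
  obtain ⟨B, hB⟩ : ∃ B : LinearMap.BilinForm R M, B = QuadraticMap.polarBilin Q := ⟨_, rfl⟩
  have hBapp : ∀ x y, B x y = QuadraticMap.polar Q x y := by
    intro x y
    rw [hB]
    rfl
  obtain ⟨A, hA⟩ : ∃ A : Matrix (Fin (Module.finrank R M)) (Fin (Module.finrank R M)) R,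
      A = LinearMap.BilinForm.toMatrix b B := ⟨_, rfl⟩
  have hAapp : ∀ i j, A i j = QuadraticMap.polar Q (b i) (b j) := by
    intro i j
    rw [hA, LinearMap.BilinForm.toMatrix_apply, hBapp]
  obtain ⟨G, hG⟩ : ∃ G : Matrix (Fin (Module.finrank R M)) (Fin (Module.finrank R M)) R,
      G = LinearMap.toMatrix b b (g : M →ₗ[R] M) := ⟨_, rfl⟩
  have hcomp : B.comp (g : M →ₗ[R] M) (g : M →ₗ[R] M) = B := by
    ext x y
    rw [LinearMap.BilinForm.comp_apply, hBapp, hBapp]
    show QuadraticMap.polar Q (g x) (g y) = QuadraticMap.polar Q x y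
    unfold QuadraticMap.polar
    rw [← map_add, hg, hg, hg]
  have hGA : Gᵀ * A * G = A := by
    rw [hG, hA, ← LinearMap.BilinForm.toMatrix_comp b b B, hcomp]
  have hdiag : ∀ i, A i i = 0 := by
    intro i
    rw [hAapp, QuadraticMap.polar_self, two_nsmul, CharTwo.add_self_eq_zero]
  have hskew : Aᵀ = -A := by
    ext i j
    rw [Matrix.transpose_apply, Matrix.neg_apply, hAapp, hAapp, CharTwo.neg_eq,
      QuadraticMap.polar_comm]
  have hAu : IsUnit A.det := by
    have h1 := LinearEquiv.isUnit_det (LinearEquiv.ofBijective (QuadraticMap.polarBilin Q) hQ)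
      b b.dualBasis
    have h2 : LinearMap.toMatrix b b.dualBasis
        ((LinearEquiv.ofBijective (QuadraticMap.polarBilin Q) hQ : M ≃ₗ[R] Module.Dual R M) :
          M →ₗ[R] Module.Dual R M) = Aᵀ := by
      ext i j
      rw [LinearMap.toMatrix_apply, Module.Basis.dualBasis_repr, Matrix.transpose_apply, hAapp]
      rfl
    rw [h2, Matrix.det_transpose] at h1
    exact h1
  have hdet := det_eq_one_of_alt A G hdiag hskew hAu m hM hGA
  apply Units.ext
  rw [LinearEquiv.coe_det, ← LinearMap.det_toMatrix b, ← hG, hdet]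
  rfl

end Groth.Agent.Lib.SympDetH1
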