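import Mathlib
import Groth.Prelude.Def_RegImm

set_option autoImplicit false
universe u

namespace Groth.Agent.Lib.SyntExpand_lead

open MvPolynomial TensorProduct

section Index

variable (m p : ℕ)

/-- exponent vector attached to `e : Fin m → Fin p`. -/
noncomputable def ex (e : Fin m → Fin p) : Fin m →₀ ℕ :=
  Finsupp.equivFunOnFinite.symm (fun i => (e i : ℕ))

theorem ex_apply (e : Fin m → Fin p) (i : Fin m) : ex m p e i = (e i : ℕ) := rfl

theorem nsmul_apply' (a : Fin m →₀ ℕ) (i : Fin m) : (p • a) i = p * a i := by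
  first
    | rfl
    | simp
    | (rw [Finsupp.smul_apply]; rfl)

/-- `(e, a) ↦ p a + e`. -/
noncomputable def gfun : (Σ _ : (Fin m → Fin p), (Fin m →₀ ℕ)) → (Fin m →₀ ℕ) :=
  fun x => p • x.2 + ex m p x.1

theorem gfun_apply (e : Fin m → Fin p) (a : Fin m →₀ ℕ) (i : Fin m) :
    gfun m p ⟨e, a⟩ i = p * a i + (e i : ℕ) := by
  show (p • a + ex m p e) i = _
  rw [Finsupp.add_apply, nsmul_apply', ex_apply]

theorem gfun_bijective (hp : 0 < p) : Function.Bijective (gfun m p) := by
  constructor
  · rintro ⟨e, a⟩ ⟨e', a'⟩ h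
    have hi : ∀ i, p * a i + (e i : ℕ) = p * a' i + (e' i : ℕ) := fun i => by
      have := DFunLike.congr_fun h i
      rwa [gfun_apply, gfun_apply] at this
    have h1 : ∀ i, a i = a' i ∧ (e i : ℕ) = (e' i : ℕ) := fun i => by
      have hlt := (e i).2
      have hlt' := (e' i).2
      have h1 := (Nat.div_mod_unique hp).mpr
        ⟨(Nat.add_comm _ _ : (e i : ℕ) + p * a i = p * a i + e i), hlt⟩
      have h2 := (Nat.div_mod_unique hp).mpr
        ⟨(by rw [hi i]; exact Nat.add_comm _ _ : (e' i : ℕ) + p * a' i = p * a i + e i), hlt'⟩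
      exact ⟨h1.1.symm.trans h2.1, h1.2.symm.trans h2.2⟩
    have ha : a = a' := Finsupp.ext fun i => (h1 i).1
    have he : e = e' := funext fun i => Fin.ext (h1 i).2
    subst ha; subst he; rfl
  · intro c
    refine ⟨⟨fun i => ⟨c i % p, Nat.mod_lt _ hp⟩,
      Finsupp.equivFunOnFinite.symm (fun i => c i / p)⟩, ?_⟩
    ext i
    rw [gfun_apply]
    exact Nat.div_add_mod (c i) p

end Index

section Basis

variable (A : Type u) [CommRing A] (m p : ℕ)

/-- the `A`-linear map `c ↦ ∑_e expand p (c e) * X^e`. -/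
noncomputable def Psi0 :
    ((Fin m → Fin p) →₀ MvPolynomial (Fin m) A) →ₗ[A] MvPolynomial (Fin m) A :=
  Finsupp.lsum A (fun e => (LinearMap.mulRight A (monomial (ex m p e) (1 : A))) ∘ₗ
    (expand p : MvPolynomial (Fin m) A →ₐ[A] MvPolynomial (Fin m) A).toLinearMap)

theorem Psi0_single (e : Fin m → Fin p) (a : Fin m →₀ ℕ) :
    Psi0 A m p (Finsupp.single e (monomial a 1)) = monomial (p • a + ex m p e) 1 := by
  rw [Psi0, Finsupp.lsum_single, LinearMap.comp_apply, AlgHom.toLinearMap_apply, expand_monomial,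
    LinearMap.mulRight_apply, monomial_mul, one_mul]

theorem Psi0_bijective (hp : 0 < p) : Function.Bijective (Psi0 A m p) := by
  let bB : Module.Basis (Fin m →₀ ℕ) A (MvPolynomial (Fin m) A) := basisMonomials (Fin m) A
  let b₁ : Module.Basis (Σ _ : (Fin m → Fin p), (Fin m →₀ ℕ)) A
      ((Fin m → Fin p) →₀ MvPolynomial (Fin m) A) := Finsupp.basis (fun _ => bB)
  let gE := Equiv.ofBijective (gfun m p) (gfun_bijective m p hp)
  have h : Psi0 A m p = (b₁.equiv bB gE).toLinearMap := by
    refine b₁.ext fun x => ?_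
    rw [LinearEquiv.coe_coe, Module.Basis.equiv_apply]
    obtain ⟨e, a⟩ := x
    have h1 : b₁ ⟨e, a⟩ = Finsupp.single e (monomial a 1) := by
      simp only [b₁, bB, Finsupp.coe_basis, coe_basisMonomials]
    have h2 : bB (gE ⟨e, a⟩) = monomial (p • a + ex m p e) 1 := by
      simp only [bB, coe_basisMonomials]
      rfl
    rw [h1, h2, Psi0_single]
  rw [h]
  exact (b₁.equiv bB gE).bijective

/-- `A[T]` as an algebra over itself through `expand p`. -/
@[nolint unusedArguments]
def Tw (A : Type u) [CommRing A] (m _p : ℕ) : Type u := MvPolynomial (Fin m) A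

noncomputable instance : CommRing (Tw A m p) := inferInstanceAs (CommRing (MvPolynomial (Fin m) A))

noncomputable instance : Algebra (MvPolynomial (Fin m) A) (Tw A m p) :=
  ((expand p : MvPolynomial (Fin m) A →ₐ[A] MvPolynomial (Fin m) A).toRingHom).toAlgebra

/-- the identity map. -/
def toTw (x : MvPolynomial (Fin m) A) : Tw A m p := x

theorem algebraMap_Tw (b : MvPolynomial (Fin m) A) :
    algebraMap (MvPolynomial (Fin m) A) (Tw A m p) b = toTw A m p (expand p b) := rfl

/-- the basis elements. -/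
noncomputable def monTw (e : Fin m → Fin p) : Tw A m p := toTw A m p (monomial (ex m p e) (1 : A))

theorem lc_eq (c : (Fin m → Fin p) →₀ MvPolynomial (Fin m) A) :
    Finsupp.linearCombination (MvPolynomial (Fin m) A) (monTw A m p) c =
      toTw A m p (Psi0 A m p c) := by
  rw [Finsupp.linearCombination_apply, Psi0, Finsupp.lsum_apply]
  rfl

theorem lc_bijective (hp : 0 < p) :
    Function.Bijective (Finsupp.linearCombination (MvPolynomial (Fin m) A) (monTw A m p)) := by
  have := Psi0_bijective A m p hp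
  constructor
  · intro c c' h
    rw [lc_eq, lc_eq] at h
    exact this.1 h
  · intro x
    obtain ⟨c, hc⟩ := this.2 x
    exact ⟨c, (lc_eq A m p c).trans hc⟩

/-- the twisted module is free on the monomials `X^e`. -/
noncomputable def twEquiv (hp : 0 < p) :
    ((Fin m → Fin p) →₀ MvPolynomial (Fin m) A) ≃ₗ[MvPolynomial (Fin m) A] Tw A m p :=
  LinearEquiv.ofBijective _ (lc_bijective A m p hp)

theorem free_Tw (hp : 0 < p) : Module.Free (MvPolynomial (Fin m) A) (Tw A m p) :=
  Module.Free.of_equiv (twEquiv A m p hp)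

theorem finite_Tw (hp : 0 < p) : Module.Finite (MvPolynomial (Fin m) A) (Tw A m p) :=
  Module.Finite.equiv (twEquiv A m p hp)

theorem ff_Tw (hp : 0 < p) : Module.FaithfullyFlat (MvPolynomial (Fin m) A) (Tw A m p) := by
  haveI : Nonempty (Fin m → Fin p) := ⟨fun _ => ⟨0, hp⟩⟩
  exact Module.FaithfullyFlat.of_linearEquiv _ _ (twEquiv A m p hp).symm

theorem finrank_Tw (hp : 0 < p) [Nontrivial (MvPolynomial (Fin m) A)] :
    Module.finrank (MvPolynomial (Fin m) A) (Tw A m p) = p ^ m := by
  rw [← (twEquiv A m p hp).finrank_eq, Module.finrank_finsupp_self, Fintype.card_fun,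
    Fintype.card_fin, Fintype.card_fin]

end Basis

section GCI

variable {k : Type u} [Field k] (m p : ℕ)

/-- the relation ideal `(X_i^p - t_i)`. -/
noncomputable def J (t : Fin m → k) : Ideal (MvPolynomial (Fin m) k) :=
  Ideal.span (Set.range fun i => (X i ^ p - C (t i) : MvPolynomial (Fin m) k))

theorem mk_X_pow (t : Fin m → k) (i : Fin m) :
    Ideal.Quotient.mk (J m p t) (X i ^ p) =
      algebraMap k (MvPolynomial (Fin m) k ⧸ J m p t) (t i) := by
  have : Ideal.Quotient.mk (J m p t) (X i ^ p - C (t i)) = 0 :=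
    Ideal.Quotient.eq_zero_iff_mem.mpr (Ideal.subset_span ⟨i, rfl⟩)
  rw [map_sub, sub_eq_zero] at this
  rw [this, ← MvPolynomial.algebraMap_eq, Ideal.Quotient.mk_algebraMap]

theorem mk_expand (t : Fin m → k) (f : MvPolynomial (Fin m) k) :
    Ideal.Quotient.mk (J m p t) (expand p f) =
      algebraMap k (MvPolynomial (Fin m) k ⧸ J m p t) (aeval t f) := by
  have h : (Ideal.Quotient.mkₐ k (J m p t)).comp (expand p) =
      (Algebra.ofId k (MvPolynomial (Fin m) k ⧸ J m p t)).comp (aeval t) := by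
    apply MvPolynomial.algHom_ext
    intro i
    rw [AlgHom.comp_apply, AlgHom.comp_apply, expand_X, aeval_X, Ideal.Quotient.mkₐ_eq_mk,
      Algebra.ofId_apply]
    exact mk_X_pow m p t i
  exact DFunLike.congr_fun h f

theorem mk_monomial_mem (t : Fin m → k) (hp : 0 < p) (a : Fin m →₀ ℕ) :
    Ideal.Quotient.mk (J m p t) (monomial a 1) ∈
      Submodule.span k (Set.range fun e : Fin m → Fin p =>
        Ideal.Quotient.mk (J m p t) (monomial (ex m p e) (1 : k))) := by
  obtain ⟨⟨e, q⟩, hq⟩ := (gfun_bijective m p hp).2 a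
  have ha : a = p • q + ex m p e := hq.symm
  have h1 : (monomial a (1 : k) : MvPolynomial (Fin m) k) =
      expand p (monomial q 1) * monomial (ex m p e) 1 := by
    rw [expand_monomial, monomial_mul, one_mul, ha]
  rw [h1, map_mul, mk_expand, ← Algebra.smul_def]
  exact Submodule.smul_mem _ _ (Submodule.subset_span ⟨e, rfl⟩)

theorem span_eq_top (t : Fin m → k) (hp : 0 < p) :
    Submodule.span k (Set.range fun e : Fin m → Fin p =>
        Ideal.Quotient.mk (J m p t) (monomial (ex m p e) (1 : k))) = ⊤ := by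
  rw [eq_top_iff]
  rintro x -
  obtain ⟨f, rfl⟩ := Ideal.Quotient.mk_surjective x
  induction f using MvPolynomial.induction_on' with
  | monomial a c =>
    have h1 : (monomial a c : MvPolynomial (Fin m) k) = c • monomial a 1 := by
      rw [smul_monomial, smul_eq_mul, mul_one]
    have h2 : Ideal.Quotient.mk (J m p t) (c • monomial a 1) =
        c • Ideal.Quotient.mk (J m p t) (monomial a 1) :=
      map_smul (Ideal.Quotient.mkₐ k (J m p t)) c _
    rw [h1, h2]
    exact Submodule.smul_mem _ _ (mk_monomial_mem m p t hp a)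
  | add f g hf hg =>
    rw [map_add]
    exact Submodule.add_mem _ hf hg

theorem isGlobalCI_of_pow_relations {T : Type u} [CommRing T] [Algebra k T] [Module.Finite k T]
    (hp : 0 < p) (y : Fin m → T) (t : Fin m → k)
    (hy : ∀ i, y i ^ p = algebraMap k T (t i))
    (hsurj : Function.Surjective (aeval y : MvPolynomial (Fin m) k →ₐ[k] T))
    (hrank : Module.finrank k T = p ^ m) : Synt.IsGlobalCI k T := by
  right
  haveI : Nontrivial T :=
    Module.nontrivial_of_finrank_pos (R := k) (by rw [hrank]; exact pow_pos hp m)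
  have hJle : J m p t ≤ RingHom.ker (aeval y : MvPolynomial (Fin m) k →ₐ[k] T).toRingHom := by
    rw [J, Ideal.span_le]
    rintro _ ⟨i, rfl⟩
    rw [SetLike.mem_coe, RingHom.mem_ker]
    show aeval y (X i ^ p - C (t i)) = 0
    rw [map_sub, map_pow, aeval_X, aeval_C, hy, sub_self]
  let ψ : (MvPolynomial (Fin m) k ⧸ J m p t) →ₐ[k] T :=
    Ideal.Quotient.liftₐ (J m p t) (aeval y) (fun x hx => hJle hx)
  have hψmk : ∀ f, ψ (Ideal.Quotient.mk (J m p t) f) = aeval y f := fun f => rfl
  have hψsurj : Function.Surjective ψ := fun x => by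
    obtain ⟨f, rfl⟩ := hsurj x
    exact ⟨Ideal.Quotient.mk _ f, hψmk f⟩
  haveI : Module.Finite k (MvPolynomial (Fin m) k ⧸ J m p t) := by
    rw [Module.finite_def, ← span_eq_top m p t hp]
    exact Submodule.fg_span (Set.finite_range _)
  have hle : Module.finrank k (MvPolynomial (Fin m) k ⧸ J m p t) ≤ p ^ m := by
    have h1 := finrank_range_le_card (R := k) (fun e : Fin m → Fin p =>
      Ideal.Quotient.mk (J m p t) (monomial (ex m p e) (1 : k)))
    rw [Set.finrank, span_eq_top m p t hp, finrank_top, Fintype.card_fun, Fintype.card_fin,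
      Fintype.card_fin] at h1
    exact h1
  have hge : p ^ m ≤ Module.finrank k (MvPolynomial (Fin m) k ⧸ J m p t) := by
    rw [← hrank]
    exact LinearMap.finrank_le_finrank_of_surjective (f := ψ.toLinearMap) hψsurj
  have hψinj : Function.Injective ψ :=
    (LinearMap.injective_iff_surjective_of_finrank_eq_finrank (f := ψ.toLinearMap)
      ((le_antisymm hle hge).trans hrank.symm)).mpr hψsurj
  refine ⟨m, m, le_rfl, aeval y, fun i => X i ^ p - C (t i), hsurj, ?_, ?_⟩
  · show RingHom.ker (aeval y : MvPolynomial (Fin m) k →ₐ[k] T).toRingHom = J m p t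
    refine le_antisymm ?_ hJle
    intro f hf
    rw [RingHom.mem_ker] at hf
    have h0 : ψ (Ideal.Quotient.mk (J m p t) f) = 0 := by rw [hψmk]; exact hf
    have h1 := hψinj (h0.trans (map_zero ψ).symm)
    exact Ideal.Quotient.eq_zero_iff_mem.mp h1
  · haveI : IsArtinianRing T := IsArtinianRing.of_finite k T
    haveI : Ring.KrullDimLE 0 T := (isArtinianRing_iff_isNoetherianRing_krullDimLE_zero.mp ‹_›).2
    have h1 : ringKrullDim T ≤ 0 := by
      have := (Ring.krullDimLE_iff (n := 0) (R := T)).mp ‹_›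
      simpa using this
    have h2 : 0 ≤ ringKrullDim T := ringKrullDim_nonneg_of_nontrivial
    simpa using le_antisymm h1 h2

end GCI

section Fibre

variable (A : Type u) [CommRing A] (m p : ℕ) (κ : Type u) [Field κ]
  [Algebra (MvPolynomial (Fin m) A) κ]

theorem isLCIOver_fibre (hp : 0 < p) :
    Synt.IsLCIOver κ (κ ⊗[MvPolynomial (Fin m) A] Tw A m p) := by
  haveI : Nontrivial (MvPolynomial (Fin m) A) :=
    (algebraMap (MvPolynomial (Fin m) A) κ).domain_nontrivial
  haveI := free_Tw A m p hp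
  haveI := finite_Tw A m p hp
  refine ⟨inferInstance, fun 𝔮 => ⟨1, (Ideal.ne_top_iff_one _).mp 𝔮.isPrime.ne_top, ?_⟩⟩
  let e : (κ ⊗[MvPolynomial (Fin m) A] Tw A m p) ≃ₐ[κ ⊗[MvPolynomial (Fin m) A] Tw A m p]
      Localization.Away (1 : κ ⊗[MvPolynomial (Fin m) A] Tw A m p) :=
    IsLocalization.atUnits _ (Submonoid.powers (1 : κ ⊗[MvPolynomial (Fin m) A] Tw A m p)) (by
      rintro x ⟨n, rfl⟩
      simp [IsUnit.mem_submonoid_iff])
  let eκ : (κ ⊗[MvPolynomial (Fin m) A] Tw A m p) ≃ₐ[κ]
      Localization.Away (1 : κ ⊗[MvPolynomial (Fin m) A] Tw A m p) := e.restrictScalars κ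
  haveI : Module.Finite κ (Localization.Away (1 : κ ⊗[MvPolynomial (Fin m) A] Tw A m p)) :=
    Module.Finite.equiv eκ.toLinearEquiv
  have hrank : Module.finrank κ
      (Localization.Away (1 : κ ⊗[MvPolynomial (Fin m) A] Tw A m p)) = p ^ m := by
    rw [← eκ.toLinearEquiv.finrank_eq, Module.finrank_baseChange, finrank_Tw A m p hp]
  let y : Fin m → κ ⊗[MvPolynomial (Fin m) A] Tw A m p :=
    fun i => (1 : κ) ⊗ₜ[MvPolynomial (Fin m) A] (toTw A m p (X i))
  let t : Fin m → κ := fun i => algebraMap (MvPolynomial (Fin m) A) κ (X i)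
  have hone : ∀ b : MvPolynomial (Fin m) A,
      (1 : κ) ⊗ₜ[MvPolynomial (Fin m) A] (algebraMap (MvPolynomial (Fin m) A) (Tw A m p) b) =
        algebraMap κ (κ ⊗[MvPolynomial (Fin m) A] Tw A m p)
          (algebraMap (MvPolynomial (Fin m) A) κ b) := fun b => by
    rw [Algebra.algebraMap_eq_smul_one (A := Tw A m p) b, ← TensorProduct.smul_tmul,
      ← Algebra.algebraMap_eq_smul_one, Algebra.TensorProduct.algebraMap_apply]
    rfl
  have hX : ∀ i, (toTw A m p (X i)) ^ p =
      algebraMap (MvPolynomial (Fin m) A) (Tw A m p) (X i) := fun i => by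
    rw [algebraMap_Tw, expand_X]
    rfl
  have hy : ∀ i, y i ^ p = algebraMap κ (κ ⊗[MvPolynomial (Fin m) A] Tw A m p) (t i) :=
    fun i => by
    show ((1 : κ) ⊗ₜ[MvPolynomial (Fin m) A] (toTw A m p (X i))) ^ p = _
    rw [Algebra.TensorProduct.tmul_pow, one_pow, hX, hone]
  have hmem : ∀ x : MvPolynomial (Fin m) A,
      (1 : κ) ⊗ₜ[MvPolynomial (Fin m) A] (toTw A m p x) ∈
        (aeval y : MvPolynomial (Fin m) κ →ₐ[κ] κ ⊗[MvPolynomial (Fin m) A] Tw A m p).range := by
    intro x
    induction x using MvPolynomial.induction_on with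
    | C a =>
      have h1 : toTw A m p (C a) = algebraMap (MvPolynomial (Fin m) A) (Tw A m p) (C a) := by
        rw [algebraMap_Tw, expand_C]
      rw [h1, hone]
      exact Subalgebra.algebraMap_mem _ _
    | add x x' hx hx' =>
      have h1 : toTw A m p (x + x') = toTw A m p x + toTw A m p x' := rfl
      rw [h1, TensorProduct.tmul_add]
      exact add_mem hx hx'
    | mul_X x i hx =>
      have h1 : (1 : κ) ⊗ₜ[MvPolynomial (Fin m) A] toTw A m p (x * X i) =
          ((1 : κ) ⊗ₜ[MvPolynomial (Fin m) A] toTw A m p x) * y i := by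
        show _ = ((1 : κ) ⊗ₜ[MvPolynomial (Fin m) A] toTw A m p x) *
          ((1 : κ) ⊗ₜ[MvPolynomial (Fin m) A] toTw A m p (X i))
        rw [Algebra.TensorProduct.tmul_mul_tmul, one_mul]
        rfl
      rw [h1]
      exact mul_mem hx ⟨X i, aeval_X y i⟩
  have hsurj : Function.Surjective
      (aeval y : MvPolynomial (Fin m) κ →ₐ[κ] κ ⊗[MvPolynomial (Fin m) A] Tw A m p) := by
    intro z
    suffices h : z ∈ (aeval y : MvPolynomial (Fin m) κ →ₐ[κ]
        κ ⊗[MvPolynomial (Fin m) A] Tw A m p).range by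
      obtain ⟨g, hg⟩ := h
      exact ⟨g, hg⟩
    induction z using TensorProduct.induction_on with
    | zero => exact zero_mem _
    | tmul c x =>
      have h1 : c ⊗ₜ[MvPolynomial (Fin m) A] x =
          c • ((1 : κ) ⊗ₜ[MvPolynomial (Fin m) A] x) := by
        rw [TensorProduct.smul_tmul', smul_eq_mul, mul_one]
      rw [h1]
      exact Subalgebra.smul_mem _ (hmem x) c
    | add x y hx hy => exact add_mem hx hy
  refine isGlobalCI_of_pow_relations m p hp (fun i => eκ (y i)) t ?_ ?_ hrank
  · intro i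
    rw [← map_pow, hy, AlgEquiv.commutes]
  · have hcomp : (aeval (fun i => eκ (y i)) : MvPolynomial (Fin m) κ →ₐ[κ] _) =
        eκ.toAlgHom.comp (aeval y) := by
      apply MvPolynomial.algHom_ext
      intro i
      rw [AlgHom.comp_apply, aeval_X, aeval_X]
      rfl
    rw [hcomp]
    exact eκ.surjective.comp hsurj

end Fibre

theorem main (p : ℕ) [Fact p.Prime] (A : Type u) [CommRing A] (m : ℕ)
    (φ : MvPolynomial (Fin m) A →ₐ[A] MvPolynomial (Fin m) A)
    (hφ : ∀ i : Fin m, φ (MvPolynomial.X i) = MvPolynomial.X i ^ p) :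
    @Synt.IsSyntomic (MvPolynomial (Fin m) A) _ (MvPolynomial (Fin m) A) _
        φ.toRingHom.toAlgebra ∧
      φ.toRingHom.FaithfullyFlat := by
  have hp : 0 < p := (Fact.out : p.Prime).pos
  obtain rfl : φ = expand p := by
    apply MvPolynomial.algHom_ext
    intro i
    rw [hφ, expand_X]
  have h1 : Synt.IsSyntomic (MvPolynomial (Fin m) A) (Tw A m p) := by
    haveI := free_Tw A m p hp
    haveI := finite_Tw A m p hp
    haveI : Module.FinitePresentation (MvPolynomial (Fin m) A) (Tw A m p) :=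
      Module.finitePresentation_of_projective _ _
    exact ⟨inferInstance, inferInstance,
      fun P => isLCIOver_fibre A m p P.asIdeal.ResidueField hp⟩
  have h2 : Module.FaithfullyFlat (MvPolynomial (Fin m) A) (Tw A m p) := ff_Tw A m p hp
  exact ⟨h1, h2⟩

end Groth.Agent.Lib.SyntExpand_lead
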