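import Mathlib
import Groth.Prelude.Def_RegImm
import Groth.Agent.Lib.SyntTA2_helper2

/-!
# Minimal generators of a complete intersection ideal form a regular sequence (helper2): S12082.
APPEND-ONLY once landed.
-/

set_option autoImplicit false
universe u

namespace Groth.Agent.Lib.SyntTA

open RingTheory.Sequence IsLocalRing

theorem isRegular_of_generators (k : Type u) [Field k] (n : ℕ)
    (I 𝔮 : Ideal (MvPolynomial (Fin n) k)) [𝔮.IsPrime]
    (q : Ideal (MvPolynomial (Fin n) k ⧸ I)) [q.IsPrime]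
    (hq : q.comap (Ideal.Quotient.mk I) = 𝔮) (c : ℕ)
    (hc : (c : ℕ∞) + q.height = 𝔮.height)
    (f : Fin c → Localization.AtPrime 𝔮)
    (hf : ∀ i, f i ∈ I.map (algebraMap _ (Localization.AtPrime 𝔮)))
    (hgen : Ideal.span (Set.range f) ⊔
        IsLocalRing.maximalIdeal (Localization.AtPrime 𝔮) *
          I.map (algebraMap _ (Localization.AtPrime 𝔮)) =
      I.map (algebraMap _ (Localization.AtPrime 𝔮))) :
    RingTheory.Sequence.IsRegular (Localization.AtPrime 𝔮) (List.ofFn f) := by
  haveI : IsNoetherianRing (Localization.AtPrime 𝔮) :=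
    IsLocalization.isNoetherianRing 𝔮.primeCompl _ inferInstance
  have hJle : I.map (algebraMap _ (Localization.AtPrime 𝔮)) ≤ Ideal.span (Set.range f) := by
    apply Submodule.le_of_le_smul_of_le_jacobson_bot
      (IsNoetherian.noetherian (I.map (algebraMap _ (Localization.AtPrime 𝔮))))
      (IsLocalRing.maximalIdeal_le_jacobson ⊥)
    rw [Ideal.smul_eq_mul]
    exact hgen.ge
  have hJ : Ideal.span (Set.range f) = I.map (algebraMap _ (Localization.AtPrime 𝔮)) :=
    le_antisymm (Ideal.span_le.mpr (by rintro _ ⟨i, rfl⟩; exact hf i)) hJle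
  have hof : Ideal.ofList (List.ofFn f) = I.map (algebraMap _ (Localization.AtPrime 𝔮)) := by
    rw [← span_range_eq_ofList, hJ]
  have hdO : ringKrullDim (Localization.AtPrime 𝔮) = ((𝔮.height : ℕ∞) : WithBot ℕ∞) :=
    IsLocalization.AtPrime.ringKrullDim_eq_height 𝔮 (Localization.AtPrime 𝔮)
  have hdOJ : ringKrullDim (Localization.AtPrime 𝔮 ⧸
      I.map (algebraMap _ (Localization.AtPrime 𝔮))) = ((q.height : ℕ∞) : WithBot ℕ∞) :=
    ringKrullDim_quot_atPrime I 𝔮 q hq
  haveI : IsRegularLocalRing (Localization.AtPrime 𝔮) := inferInstance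
  have hCM : LocCoh.IsCohenMacaulayModule (Localization.AtPrime 𝔮) (Localization.AtPrime 𝔮) :=
    RegUCH8.isCM_of_regular (Localization.AtPrime 𝔮)
  have hIq : I ≤ 𝔮 := by
    rw [← hq]
    intro x hx
    show Ideal.Quotient.mk I x ∈ q
    rw [Ideal.Quotient.eq_zero_iff_mem.mpr hx]
    exact zero_mem _
  have hJm : I.map (algebraMap _ (Localization.AtPrime 𝔮)) ≤
      maximalIdeal (Localization.AtPrime 𝔮) := by
    rw [← Localization.AtPrime.map_eq_maximalIdeal]
    exact Ideal.map_mono hIq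
  have hmem : ∀ x ∈ List.ofFn f, x ∈ maximalIdeal (Localization.AtPrime 𝔮) := by
    intro x hx
    rw [List.mem_ofFn] at hx
    obtain ⟨i, rfl⟩ := hx
    exact hJm (hf i)
  have hwr : IsWeaklyRegular (Localization.AtPrime 𝔮) (List.ofFn f) := by
    apply (Groth.Agent.DepthLib.isCM_list (List.ofFn f) (Localization.AtPrime 𝔮) hCM hmem).1.2
    rw [Groth.Agent.DepthLib.supportDim_quot_smul_top_self,
      Module.supportDim_self_eq_ringKrullDim, hof, hdOJ, hdO, List.length_ofFn, ← hc]
    have e : ((c : ℕ) : WithBot ℕ∞) = (((c : ℕ) : ℕ∞) : WithBot ℕ∞) := rfl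
    rw [e, ← WithBot.coe_add, add_comm]
  refine ⟨hwr, ?_⟩
  intro htop
  have h1 : (⊤ : Ideal (Localization.AtPrime 𝔮)) = Ideal.ofList (List.ofFn f) := by
    rw [htop, Ideal.smul_eq_mul, Ideal.mul_top]
  rw [hof] at h1
  exact (maximalIdeal.isMaximal (Localization.AtPrime 𝔮)).ne_top (top_le_iff.mp (h1 ▸ hJm))

theorem main12082 (k : Type u) [Field k] (n : ℕ)
    (I : Ideal (MvPolynomial (Fin n) k)) (q : Ideal (MvPolynomial (Fin n) k ⧸ I)) [q.IsPrime] (c : ℕ)
    (hc : (c : ℕ∞) + q.height = (q.comap (Ideal.Quotient.mk I)).height)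
    (f : Fin c → Localization.AtPrime (q.comap (Ideal.Quotient.mk I)))
    (hf : ∀ i, f i ∈ I.map (algebraMap _ (Localization.AtPrime (q.comap (Ideal.Quotient.mk I)))))
    (hgen : Ideal.span (Set.range f) ⊔
        IsLocalRing.maximalIdeal (Localization.AtPrime (q.comap (Ideal.Quotient.mk I))) *
          I.map (algebraMap _ (Localization.AtPrime (q.comap (Ideal.Quotient.mk I)))) =
      I.map (algebraMap _ (Localization.AtPrime (q.comap (Ideal.Quotient.mk I))))) :
    RingTheory.Sequence.IsRegular (Localization.AtPrime (q.comap (Ideal.Quotient.mk I)))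
      (List.ofFn f) :=
  isRegular_of_generators k n I _ q rfl c hc f hf hgen

end Groth.Agent.Lib.SyntTA
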