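import Mathlib
import Groth.Prelude.Def_RegImm
import Groth.Prelude.Def_CAlg
import Groth.Agent.Lib.SyntCMDesc_helper2
import Groth.Agent.Lib.FlatCM4_helper9

/-!
# Serre's condition `(S_k)` is local in the syntomic topology (helper2): S9863.
APPEND-ONLY once landed.
-/

set_option autoImplicit false
universe u

namespace Groth.Agent.Lib.SyntCMDesc

open AlgebraicGeometry CategoryTheory TopologicalSpace IsLocalRing
open Groth.Agent.Lib.SyntSch Groth.Agent.FlatCM Groth.Agent.Lib.CIField Groth.Agent.DepthLib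

section ring

theorem skLoc_of_isCM (k : ℕ) (T : Type u) [CommRing T] [h : LocCoh.IsCohenMacaulayLocalRing T] :
    SkLoc k T := by
  unfold SkLoc
  rw [(isCMLocalRing_iff T).mp h]
  exact min_le_right _ _

theorem skLoc_atPrime_of_eq {T : Type u} [CommRing T] (k : ℕ) (p p' : Ideal T) [p.IsPrime]
    [p'.IsPrime] (h : p = p') (hs : SkLoc k (Localization.AtPrime p)) :
    SkLoc k (Localization.AtPrime p') := by
  subst h
  exact hs

theorem hasSk_of_ringEquiv (k : ℕ) {R R' : Type u} [CommRing R] [CommRing R']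
    [IsNoetherianRing R] (e : R ≃+* R') (h : LocCoh.HasSk k R R) : LocCoh.HasSk k R' R' := by
  haveI : IsNoetherianRing R' := isNoetherianRing_of_ringEquiv R e
  rw [hasSk_self_iff_skLoc] at h ⊢
  intro p' hp'
  haveI : (p'.comap e).IsPrime := Ideal.comap_isPrime _ _
  have h1 := h (p'.comap e)
  haveI : IsNoetherianRing (Localization.AtPrime (p'.comap e)) :=
    IsLocalization.isNoetherianRing (p'.comap e).primeCompl _ inferInstance
  haveI : IsNoetherianRing (Localization.AtPrime p') :=
    IsLocalization.isNoetherianRing p'.primeCompl _ inferInstance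
  exact skLoc_of_ringEquiv (IsLocalization.ringEquivOfRingEquiv
    (Localization.AtPrime (p'.comap e)) (Localization.AtPrime p') e
    (e.map_primeCompl_comap_eq p')) h1

/-- `(S_k)` for the local ring of `T` at `Q` in terms of the primes contained in `Q`. -/
theorem hasSk_atPrime_iff (k : ℕ) (T : Type u) [CommRing T] [IsNoetherianRing T] (Q : Ideal T)
    [hQ : Q.IsPrime] :
    LocCoh.HasSk k (Localization.AtPrime Q) (Localization.AtPrime Q) ↔
      ∀ (Q' : Ideal T) [Q'.IsPrime], Q' ≤ Q → SkLoc k (Localization.AtPrime Q') := by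
  haveI : IsNoetherianRing (Localization.AtPrime Q) :=
    IsLocalization.isNoetherianRing Q.primeCompl _ inferInstance
  rw [hasSk_self_iff_skLoc]
  constructor
  · intro h Q' hQ' hle
    have hdisj : Disjoint (Q.primeCompl : Set T) (Q' : Set T) :=
      Set.disjoint_left.mpr (fun x hx hx' => hx (hle hx'))
    haveI hp : (Q'.map (algebraMap T (Localization.AtPrime Q))).IsPrime :=
      IsLocalization.isPrime_of_isPrime_disjoint Q.primeCompl _ Q' hQ' hdisj
    have hcomap : (Q'.map (algebraMap T (Localization.AtPrime Q))).comap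
        (algebraMap T (Localization.AtPrime Q)) = Q' :=
      IsLocalization.comap_map_of_isPrime_disjoint Q.primeCompl _ hQ' hdisj
    have h1 := h (Q'.map (algebraMap T (Localization.AtPrime Q)))
    let e := IsLocalization.localizationLocalizationAtPrimeIsoLocalization Q.primeCompl
      (Q'.map (algebraMap T (Localization.AtPrime Q)))
    haveI : IsNoetherianRing (Localization.AtPrime (Q'.map (algebraMap T (Localization.AtPrime Q)))) :=
      IsLocalization.isNoetherianRing
        (Q'.map (algebraMap T (Localization.AtPrime Q))).primeCompl _ inferInstance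
    haveI : IsNoetherianRing (Localization.AtPrime ((Q'.map
        (algebraMap T (Localization.AtPrime Q))).comap (algebraMap T (Localization.AtPrime Q)))) :=
      IsLocalization.isNoetherianRing ((Q'.map
        (algebraMap T (Localization.AtPrime Q))).comap
          (algebraMap T (Localization.AtPrime Q))).primeCompl _ inferInstance
    have h2 := skLoc_of_ringEquiv e.symm.toRingEquiv h1
    exact skLoc_atPrime_of_eq k _ _ hcomap h2
  · intro h p hp
    haveI : (p.comap (algebraMap T (Localization.AtPrime Q))).IsPrime := Ideal.comap_isPrime _ _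
    have hle : p.comap (algebraMap T (Localization.AtPrime Q)) ≤ Q := by
      have h1 : p ≤ maximalIdeal (Localization.AtPrime Q) := IsLocalRing.le_maximalIdeal hp.ne_top
      have h2 := Ideal.comap_mono (f := algebraMap T (Localization.AtPrime Q)) h1
      have h3 : (maximalIdeal (Localization.AtPrime Q)).comap
          (algebraMap T (Localization.AtPrime Q)) = Q :=
        IsLocalization.AtPrime.under_maximalIdeal (Localization.AtPrime Q) Q
      rwa [h3] at h2
    have h1 := h (p.comap (algebraMap T (Localization.AtPrime Q))) hle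
    let e := IsLocalization.localizationLocalizationAtPrimeIsoLocalization Q.primeCompl p
    haveI : IsNoetherianRing (Localization.AtPrime p) :=
      IsLocalization.isNoetherianRing p.primeCompl _ inferInstance
    haveI : IsNoetherianRing (Localization.AtPrime
        (p.comap (algebraMap T (Localization.AtPrime Q)))) :=
      IsLocalization.isNoetherianRing
        (p.comap (algebraMap T (Localization.AtPrime Q))).primeCompl _ inferInstance
    exact skLoc_of_ringEquiv e.toRingEquiv h1

end ring

section flat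

variable (A B : Type u) [CommRing A] [CommRing B] [Algebra A B] [IsNoetherianRing A]
  [IsNoetherianRing B] [Module.Flat A B]

/-- `(S_k)` at the primes below `Q` is equivalent to `(S_k)` at the primes below its contraction,
for a flat map whose fibre local rings satisfy `(S_k)`. -/
theorem sk_flat_iff (k : ℕ)
    (hfib : ∀ (Q' : Ideal B) [Q'.IsPrime], SkLoc k (EGA4.FibLocRing A B Q')) (Q : Ideal B)
    [Q.IsPrime] :
    (∀ (Q' : Ideal B) [Q'.IsPrime], Q' ≤ Q → SkLoc k (Localization.AtPrime Q')) ↔
      ∀ (P' : Ideal A) [P'.IsPrime], P' ≤ Q.comap (algebraMap A B) →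
        SkLoc k (Localization.AtPrime P') := by
  constructor
  · intro h P' hP' hle
    have hmap : P'.map (algebraMap A B) ≤ Q := Ideal.map_le_iff_le_comap.mpr hle
    obtain ⟨Q', hQ'min, hQ'le⟩ := Ideal.exists_minimalPrimes_le hmap
    haveI : Q'.IsPrime := hQ'min.1.1
    have hlo := liesOver_of_mem_minimalPrimes_map A B P' Q' hQ'min
    have hQP : Q'.comap (algebraMap A B) = P' := hlo.over.symm
    have hP'' : Q' ∈ ((Q'.comap (algebraMap A B)).map (algebraMap A B)).minimalPrimes := by
      rw [hQP]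
      exact hQ'min
    have hdim0 := Groth.Agent.FibLocH8.dim_fibLocRing_eq_zero (A := A) Q' hP''
    haveI := isNoetherianRing_fibLocRing A B Q'
    have hdep0 : LocCoh.depth (EGA4.FibLocRing A B Q') (EGA4.FibLocRing A B Q') = 0 := by
      have h1 := depth_le_dim (EGA4.FibLocRing A B Q')
      rw [hdim0] at h1
      have h2 : LocCoh.depth (EGA4.FibLocRing A B Q') (EGA4.FibLocRing A B Q') ≤ 0 := by
        have : ((LocCoh.depth (EGA4.FibLocRing A B Q') (EGA4.FibLocRing A B Q') : ℕ∞) :
            WithBot ℕ∞) ≤ ((0 : ℕ∞) : WithBot ℕ∞) := h1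
        exact WithBot.coe_le_coe.1 this
      exact le_antisymm h2 zero_le
    obtain ⟨hd, hdim⟩ := depth_dim_localization_eq_add A B Q'
    rw [hdep0, add_zero] at hd
    rw [hdim0, add_zero] at hdim
    have h3 : SkLoc k (Localization.AtPrime Q') := h Q' hQ'le
    have h4 : SkLoc k (Localization.AtPrime (Q'.comap (algebraMap A B))) := by
      unfold SkLoc at h3 ⊢
      rw [← hd, ← hdim]
      exact h3
    exact skLoc_atPrime_of_eq k _ _ hQP h4
  · intro h Q' hQ' hle
    exact sk_at_of_flat A B k Q' (h (Q'.comap (algebraMap A B)) (Ideal.comap_mono hle)) (hfib Q')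

end flat

section scheme

variable {X S : Scheme.{u}}

theorem sk_stalk_iff (f : X ⟶ S) (hf : Synt.IsSyntomicMor f) [IsLocallyNoetherian S] (k : ℕ)
    (x : X) :
    LocCoh.HasSk k (X.presheaf.stalk x) (X.presheaf.stalk x) ↔
      LocCoh.HasSk k (S.presheaf.stalk (f x)) (S.presheaf.stalk (f x)) := by
  obtain ⟨V, hV, hxV, -⟩ := (Opens.isBasis_iff_nbhd.mp S.isBasis_affineOpens)
    (show f x ∈ (⊤ : S.Opens) from trivial)
  obtain ⟨U, hU, hxU, e⟩ := (Opens.isBasis_iff_nbhd.mp X.isBasis_affineOpens)
    (show x ∈ f ⁻¹ᵁ V from hxV)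
  letI algAB : Algebra Γ(S, V) Γ(X, U) := (f.appLE V U e).hom.toAlgebra
  have hs : Synt.IsSyntomic Γ(S, V) Γ(X, U) := (main9363 f).mp hf ⟨U, hU⟩ ⟨V, hV⟩ e
  haveI : IsNoetherianRing Γ(S, V) := IsLocallyNoetherian.component_noetherian ⟨V, hV⟩
  haveI := hs.2.1
  haveI : IsNoetherianRing Γ(X, U) := Algebra.FiniteType.isNoetherianRing Γ(S, V) Γ(X, U)
  haveI := hs.1
  set Q : Ideal Γ(X, U) := (hU.primeIdealOf ⟨x, hxU⟩).asIdeal with hQ
  haveI hQp : Q.IsPrime := (hU.primeIdealOf ⟨x, hxU⟩).isPrime
  set P : Ideal Γ(S, V) := (hV.primeIdealOf ⟨f x, hxV⟩).asIdeal with hP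
  haveI hPp : P.IsPrime := (hV.primeIdealOf ⟨f x, hxV⟩).isPrime
  have hcomap : Q.comap (algebraMap Γ(S, V) Γ(X, U)) = P :=
    congrArg PrimeSpectrum.asIdeal (IsAffineOpen.comap_primeIdealOf_appLE V hV U hU e hxU)
  have hfib : ∀ (Q' : Ideal Γ(X, U)) [Q'.IsPrime], SkLoc k (EGA4.FibLocRing Γ(S, V) Γ(X, U) Q') := by
    intro Q' hQ'
    haveI : LocCoh.IsCohenMacaulayRing
        ((Q'.comap (algebraMap Γ(S, V) Γ(X, U))).Fiber Γ(X, U)) :=
      Groth.Agent.Lib.SyntCM.main9142 _ _ (hs.2.2 ⟨Q'.comap (algebraMap Γ(S, V) Γ(X, U)),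
        inferInstance⟩)
    haveI := isCM_fibLocRing_of_fiber Γ(S, V) Γ(X, U) Q'
    exact skLoc_of_isCM k _
  letI : Algebra Γ(X, U) (X.presheaf.stalk x) :=
    TopCat.Presheaf.algebra_section_stalk X.presheaf ⟨x, hxU⟩
  haveI := hU.isLocalization_stalk ⟨x, hxU⟩
  let eX : X.presheaf.stalk x ≃+* Localization.AtPrime Q :=
    (IsLocalization.algEquiv Q.primeCompl (X.presheaf.stalk x) (Localization.AtPrime Q)).toRingEquiv
  letI : Algebra Γ(S, V) (S.presheaf.stalk (f x)) :=
    TopCat.Presheaf.algebra_section_stalk S.presheaf ⟨f x, hxV⟩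
  haveI := hV.isLocalization_stalk ⟨f x, hxV⟩
  let eS : S.presheaf.stalk (f x) ≃+* Localization.AtPrime P :=
    (IsLocalization.algEquiv P.primeCompl (S.presheaf.stalk (f x))
      (Localization.AtPrime P)).toRingEquiv
  haveI : IsNoetherianRing (Localization.AtPrime Q) :=
    IsLocalization.isNoetherianRing Q.primeCompl _ inferInstance
  haveI : IsNoetherianRing (Localization.AtPrime P) :=
    IsLocalization.isNoetherianRing P.primeCompl _ inferInstance
  haveI : IsNoetherianRing (X.presheaf.stalk x) := isNoetherianRing_of_ringEquiv _ eX.symm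
  haveI : IsNoetherianRing (S.presheaf.stalk (f x)) := isNoetherianRing_of_ringEquiv _ eS.symm
  have key : LocCoh.HasSk k (Localization.AtPrime Q) (Localization.AtPrime Q) ↔
      LocCoh.HasSk k (Localization.AtPrime P) (Localization.AtPrime P) := by
    rw [hasSk_atPrime_iff, hasSk_atPrime_iff, sk_flat_iff Γ(S, V) Γ(X, U) k hfib Q, hcomap]
  constructor
  · intro h
    exact hasSk_of_ringEquiv k eS.symm (key.mp (hasSk_of_ringEquiv k eX h))
  · intro h
    exact hasSk_of_ringEquiv k eX.symm (key.mpr (hasSk_of_ringEquiv k eS h))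

theorem main9863 {ι : Type u} {S : Scheme.{u}} {X : ι → Scheme.{u}} (f : ∀ i, X i ⟶ S)
    (hsurj : ∀ s : S, ∃ i, s ∈ Set.range (f i).base) (hsyn : ∀ i, Synt.IsSyntomicMor (f i))
    (k : ℕ) :
    (IsLocallyNoetherian S ∧
        ∀ s : S, LocCoh.HasSk k (S.presheaf.stalk s) (S.presheaf.stalk s)) ↔
      ∀ i, IsLocallyNoetherian (X i) ∧
        ∀ x : X i, LocCoh.HasSk k ((X i).presheaf.stalk x) ((X i).presheaf.stalk x) := by
  constructor
  · rintro ⟨hN, hSk⟩ i
    haveI := hN
    haveI := lfp_of_isSyntomicMor (f i) (hsyn i)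
    exact ⟨LocallyOfFiniteType.isLocallyNoetherian (f i),
      fun x => (sk_stalk_iff (f i) (hsyn i) k x).mpr (hSk _)⟩
  · intro h
    have hN : IsLocallyNoetherian S := by
      have key : ∀ s : S, ∃ U : S.affineOpens, s ∈ U.1 ∧ IsNoetherianRing Γ(S, U.1) := by
        intro s
        obtain ⟨i, x, hx⟩ := hsurj s
        haveI := (h i).1
        haveI := flat_of_isSyntomicMor (f i) (hsyn i)
        haveI := lfp_of_isSyntomicMor (f i) (hsyn i)
        obtain ⟨U, hU1, hU2⟩ := exists_noetherian_affine_nhd (f i) (f i).isOpenMap x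
        exact ⟨U, hx ▸ hU1, hU2⟩
      choose U hU1 hU2 using key
      refine isLocallyNoetherian_of_affine_cover (S := U) ?_ hU2
      rw [eq_top_iff]
      intro v _
      exact Opens.mem_iSup.2 ⟨v, hU1 v⟩
    refine ⟨hN, fun s => ?_⟩
    obtain ⟨i, x, hx⟩ := hsurj s
    haveI := hN
    have := (sk_stalk_iff (f i) (hsyn i) k x).mp ((h i).2 x)
    exact hx ▸ this

end scheme

end Groth.Agent.Lib.SyntCMDesc
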