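import Mathlib
import Groth.Prelude.Def_RegImm
import Groth.Agent.Lib.SyntTA2_helper2

/-!
# The key lemma on complete intersections over a field (S9171) (helper2)
APPEND-ONLY once landed.
-/

set_option autoImplicit false
universe u

namespace Groth.Agent.Lib.SyntTA

open RingTheory.Sequence IsLocalRing
open Groth.Agent.Lib.KRegIdeal Groth.Agent.Lib.LCILocal Groth.Agent.Lib.LCIComp
open Groth.Agent.Lib.FibKoszul

lemma nodup_of_isRegular {R : Type*} [CommRing R] (rs : List R) (h : IsRegular R rs) :
    rs.Nodup := by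
  rw [List.Nodup, List.pairwise_iff_getElem]
  intro i j hi hj hij heq
  have hreg := h.toIsWeaklyRegular.regular_mod_prev j hj
  have hmem : rs[j] ∈ Ideal.ofList (rs.take j) := by
    rw [← heq]
    apply Ideal.subset_span
    show rs[i] ∈ rs.take j
    rw [List.mem_take_iff_getElem]
    exact ⟨i, lt_min hij hi, rfl⟩
  have h1 : rs[j] • (Submodule.Quotient.mk (1 : R) :
      R ⧸ (Ideal.ofList (rs.take j) • (⊤ : Submodule R R))) = rs[j] • 0 := by
    rw [smul_zero, ← Submodule.Quotient.mk_smul, Submodule.Quotient.mk_eq_zero]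
    simp only [smul_eq_mul, mul_one, Ideal.mul_top]
    exact hmem
  have h2 := hreg h1
  rw [Submodule.Quotient.mk_eq_zero, smul_eq_mul, Ideal.mul_top] at h2
  apply h.top_ne_smul
  rw [smul_eq_mul, Ideal.mul_top]
  symm
  rw [Ideal.eq_top_iff_one]
  exact (Ideal.span_mono (fun x hx => List.mem_of_mem_take hx)) h2

theorem main9171 (k : Type u) [Field k] (n : ℕ)
    (I : Ideal (MvPolynomial (Fin n) k)) (q : Ideal (MvPolynomial (Fin n) k ⧸ I)) [q.IsPrime] (c : ℕ)
    (hc : (c : ℕ∞) + q.height = (q.comap (Ideal.Quotient.mk I)).height) :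
    ((∃ g : MvPolynomial (Fin n) k ⧸ I, g ∉ q ∧ Synt.IsGlobalCI k (Localization.Away g)) ↔
        ∃ s : Finset (Localization.AtPrime (q.comap (Ideal.Quotient.mk I))), s.card = c ∧
          Ideal.span (s : Set _) =
            I.map (algebraMap _ (Localization.AtPrime (q.comap (Ideal.Quotient.mk I))))) ∧
      ((∃ g : MvPolynomial (Fin n) k ⧸ I, g ∉ q ∧ Synt.IsGlobalCI k (Localization.Away g)) ↔
        ∃ rs : List (Localization.AtPrime (q.comap (Ideal.Quotient.mk I))),
          RingTheory.Sequence.IsRegular (Localization.AtPrime (q.comap (Ideal.Quotient.mk I))) rs ∧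
          Ideal.ofList rs =
            I.map (algebraMap _ (Localization.AtPrime (q.comap (Ideal.Quotient.mk I))))) := by
  classical
  have hI𝔮 : I ≤ q.comap (Ideal.Quotient.mk I) := by
    intro x hx
    rw [Ideal.mem_comap, Ideal.Quotient.eq_zero_iff_mem.mpr hx]
    exact q.zero_mem
  haveI : IsNoetherianRing (Localization.AtPrime (q.comap (Ideal.Quotient.mk I))) :=
    IsLocalization.isNoetherianRing (q.comap (Ideal.Quotient.mk I)).primeCompl _ inferInstance
  have hJle : I.map (algebraMap (MvPolynomial (Fin n) k)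
      (Localization.AtPrime (q.comap (Ideal.Quotient.mk I)))) ≤
      maximalIdeal (Localization.AtPrime (q.comap (Ideal.Quotient.mk I))) := by
    rw [Ideal.map_le_iff_le_comap]
    intro x hx
    rw [Ideal.mem_comap, IsLocalization.AtPrime.to_map_mem_maximal_iff
      (Localization.AtPrime (q.comap (Ideal.Quotient.mk I))) (q.comap (Ideal.Quotient.mk I))]
    exact hI𝔮 hx
  have hJtop : I.map (algebraMap (MvPolynomial (Fin n) k)
      (Localization.AtPrime (q.comap (Ideal.Quotient.mk I)))) ≠ ⊤ := fun h =>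
    (maximalIdeal.isMaximal (Localization.AtPrime (q.comap (Ideal.Quotient.mk I)))).ne_top
      (top_le_iff.mp (h ▸ hJle))
  -- dimensions
  have hdO : ringKrullDim (Localization.AtPrime (q.comap (Ideal.Quotient.mk I))) =
      (((q.comap (Ideal.Quotient.mk I)).height : ℕ∞) : WithBot ℕ∞) :=
    IsLocalization.AtPrime.ringKrullDim_eq_height (q.comap (Ideal.Quotient.mk I)) _
  have hdOJ : ringKrullDim (Localization.AtPrime (q.comap (Ideal.Quotient.mk I)) ⧸
      I.map (algebraMap (MvPolynomial (Fin n) k)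
        (Localization.AtPrime (q.comap (Ideal.Quotient.mk I))))) =
      ((q.height : ℕ∞) : WithBot ℕ∞) :=
    ringKrullDim_quot_atPrime I (q.comap (Ideal.Quotient.mk I)) q rfl
  have h𝔮fin : (q.comap (Ideal.Quotient.mk I)).height ≠ ⊤ := Ideal.height_ne_top_of_isPrime
  obtain ⟨a, ha⟩ := ENat.ne_top_iff_exists.mp h𝔮fin
  have hqfin : q.height ≠ ⊤ := by
    intro htop
    rw [htop, add_top] at hc
    exact h𝔮fin hc.symm
  obtain ⟨b, hb⟩ := ENat.ne_top_iff_exists.mp hqfin
  have hcba : c + b = a := by
    rw [← ha, ← hb] at hc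
    exact_mod_cast hc
  rw [← ha] at hdO
  rw [← hb] at hdOJ
  set π : MvPolynomial (Fin n) k →ₐ[k] (MvPolynomial (Fin n) k ⧸ I) := Ideal.Quotient.mkₐ k I
    with hπdef
  have hπ : Function.Surjective π := Ideal.Quotient.mkₐ_surjective k I
  have hkerπ : RingHom.ker π.toRingHom = I := Ideal.Quotient.mkₐ_ker k I
  -- (1) ⟹ (5)
  have h15 : (∃ g : MvPolynomial (Fin n) k ⧸ I, g ∉ q ∧
      Synt.IsGlobalCI k (Localization.Away g)) →
      ∃ rs : List (Localization.AtPrime (q.comap (Ideal.Quotient.mk I))),
        RingTheory.Sequence.IsRegular (Localization.AtPrime (q.comap (Ideal.Quotient.mk I))) rs ∧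
        Ideal.ofList rs =
          I.map (algebraMap _ (Localization.AtPrime (q.comap (Ideal.Quotient.mk I)))) := by
    rintro ⟨g, hg, hgci⟩
    obtain ⟨G, rfl⟩ := Ideal.Quotient.mk_surjective g
    have hl : LCI.IsLCI k (Localization.Away (π G)) := isLCI_of_isGlobalCI k _ hgci
    have hkr := kr_at_of_isLCI_away k (MvPolynomial (Fin n) k ⧸ I) n π hπ G hl
      (q.comap (Ideal.Quotient.mk I)) hg (by rw [hkerπ]; exact hI𝔮)
    rw [hkerπ] at hkr
    obtain ⟨g', hg', hg'I⟩ := koszul_local_of_krAt I (q.comap (Ideal.Quotient.mk I)) hkr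
    have hmem : ∀ z ∈ g', z ∈ maximalIdeal (Localization.AtPrime (q.comap (Ideal.Quotient.mk I))) :=
      fun z hz => hJle (hg'I ▸ Ideal.subset_span hz)
    have hW : IsWeaklyRegular (Localization.AtPrime (q.comap (Ideal.Quotient.mk I))) g' := by
      apply Groth.Agent.Lib.KoszulDepth2H7.regular_of_vanishing
        (Localization.AtPrime (q.comap (Ideal.Quotient.mk I))) _ hmem
      intro i hi
      exact Groth.Agent.Lib.KoszulTopH7.isZero_homology_of_eq
        (Groth.Agent.Lib.KoszulTopH7.koszul_eq _).symm i (hg' i (by omega))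
    refine ⟨g', ⟨hW, ?_⟩, hg'I⟩
    rw [smul_eq_mul, Ideal.mul_top, hg'I]
    exact fun h => hJtop h.symm
  -- (5) ⟹ (1)
  have h51 : (∃ rs : List (Localization.AtPrime (q.comap (Ideal.Quotient.mk I))),
      RingTheory.Sequence.IsRegular (Localization.AtPrime (q.comap (Ideal.Quotient.mk I))) rs ∧
      Ideal.ofList rs =
        I.map (algebraMap _ (Localization.AtPrime (q.comap (Ideal.Quotient.mk I))))) →
      ∃ g : MvPolynomial (Fin n) k ⧸ I, g ∉ q ∧ Synt.IsGlobalCI k (Localization.Away g) := by
    rintro ⟨rs, hrs, hrsI⟩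
    have hK := (Groth.Agent.Lib.KoszulTopH7.koszulRegular _ hrs.toIsWeaklyRegular).1
    obtain ⟨G, hG, as, -, hreg, heq⟩ :=
      exists_away_regular_of_koszul_local I (q.comap (Ideal.Quotient.mk I)) hI𝔮 rs hK hrsI
    refine ⟨π G, hG, isGlobalCI_away k n π hπ G as hreg ?_⟩
    rw [hkerπ]
    exact heq
  -- (5) ⟹ (2)
  have h52 : (∃ rs : List (Localization.AtPrime (q.comap (Ideal.Quotient.mk I))),
      RingTheory.Sequence.IsRegular (Localization.AtPrime (q.comap (Ideal.Quotient.mk I))) rs ∧
      Ideal.ofList rs =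
        I.map (algebraMap _ (Localization.AtPrime (q.comap (Ideal.Quotient.mk I))))) →
      ∃ s : Finset (Localization.AtPrime (q.comap (Ideal.Quotient.mk I))), s.card = c ∧
        Ideal.span (s : Set _) =
          I.map (algebraMap _ (Localization.AtPrime (q.comap (Ideal.Quotient.mk I)))) := by
    rintro ⟨rs, hrs, hrsI⟩
    have h1 := ringKrullDim_add_length_eq_ringKrullDim_of_isRegular rs hrs
    have hE : ringKrullDim (Localization.AtPrime (q.comap (Ideal.Quotient.mk I)) ⧸ Ideal.ofList rs) =
        ringKrullDim (Localization.AtPrime (q.comap (Ideal.Quotient.mk I)) ⧸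
          I.map (algebraMap (MvPolynomial (Fin n) k)
            (Localization.AtPrime (q.comap (Ideal.Quotient.mk I))))) :=
      ringKrullDim_eq_of_ringEquiv (Ideal.quotEquivOfEq hrsI)
    rw [hE, hdOJ, hdO] at h1
    have hlen : b + rs.length = a := by exact_mod_cast h1
    refine ⟨rs.toFinset, ?_, ?_⟩
    · rw [List.toFinset_card_of_nodup (nodup_of_isRegular rs hrs)]
      omega
    · rw [← hrsI]
      unfold Ideal.ofList
      congr 1
      ext x
      simp
  -- (2) ⟹ (5)
  have h25 : (∃ s : Finset (Localization.AtPrime (q.comap (Ideal.Quotient.mk I))), s.card = c ∧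
      Ideal.span (s : Set _) =
        I.map (algebraMap _ (Localization.AtPrime (q.comap (Ideal.Quotient.mk I))))) →
      ∃ rs : List (Localization.AtPrime (q.comap (Ideal.Quotient.mk I))),
        RingTheory.Sequence.IsRegular (Localization.AtPrime (q.comap (Ideal.Quotient.mk I))) rs ∧
        Ideal.ofList rs =
          I.map (algebraMap _ (Localization.AtPrime (q.comap (Ideal.Quotient.mk I)))) := by
    rintro ⟨s, hsc, hsI⟩
    have hof : Ideal.ofList s.toList =
        I.map (algebraMap _ (Localization.AtPrime (q.comap (Ideal.Quotient.mk I)))) := by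
      rw [← hsI]
      unfold Ideal.ofList
      congr 1
      ext x
      simp
    haveI : IsRegularLocalRing (Localization.AtPrime (q.comap (Ideal.Quotient.mk I))) :=
      inferInstance
    have hCM := RegUCH8.isCM_of_regular (Localization.AtPrime (q.comap (Ideal.Quotient.mk I)))
    have hmem : ∀ x ∈ s.toList,
        x ∈ maximalIdeal (Localization.AtPrime (q.comap (Ideal.Quotient.mk I))) :=
      fun x hx => hJle (hof ▸ Ideal.subset_span hx)
    have hW : IsWeaklyRegular (Localization.AtPrime (q.comap (Ideal.Quotient.mk I))) s.toList := by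
      apply (Groth.Agent.DepthLib.isCM_list s.toList
        (Localization.AtPrime (q.comap (Ideal.Quotient.mk I))) hCM hmem).1.2
      rw [Groth.Agent.DepthLib.supportDim_quot_smul_top_self,
        Module.supportDim_self_eq_ringKrullDim, hof, hdOJ, hdO, Finset.length_toList, hsc]
      have : b + c = a := by omega
      exact_mod_cast this
    refine ⟨s.toList, ⟨hW, ?_⟩, hof⟩
    rw [smul_eq_mul, Ideal.mul_top, hof]
    exact fun h => hJtop h.symm
  exact ⟨⟨fun h => h52 (h15 h), fun h => h51 (h25 h)⟩, ⟨h15, h51⟩⟩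

end Groth.Agent.Lib.SyntTA
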