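import Mathlib
import Groth.Prelude
import Groth.Agent.Lib.KRRRes4_helper9
import Groth.Agent.Lib.DimGenFib_helper8

/-!
# Syzygies on regular Noetherian schemes of dimension `≤ m` (S16240) (helper9)

In an exact sequence `0 ⟶ G ⟶ E_m ⟶ ⋯ ⟶ E_1 ⟶ F ⟶ 0` with `F` coherent and the `E_i` finite
locally free, `G` is finite locally free.  APPEND-ONLY once landed.
-/

set_option autoImplicit false
set_option linter.style.haveILetI false
set_option linter.unusedSectionVars false

universe u

open CategoryTheory CategoryTheory.Limits AlgebraicGeometry TopologicalSpace Opposite ZeroObject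

namespace Groth.Agent.KRRRes

variable {X : Scheme.{u}}

/-- on a regular Noetherian scheme of dimension `≤ m`, every coherent module has sections of
projective dimension `≤ m` -/
lemma Q_of_regular_of_dim_le [IsNoetherian X]
    (hreg : ∀ x : X, IsRegularLocalRing (X.presheaf.stalk x)) (m : ℕ)
    (hdim : topologicalKrullDim ↥X ≤ (m : WithBot ℕ∞)) (A : X.Modules) (hA : Coh.IsCoh A) :
    Q m A := by
  refine ⟨hA, secPd_of_stalk A hA m (fun x => ?_)⟩
  haveI := hreg x
  obtain ⟨d, hd⟩ := Groth.Agent.GlDim.exists_dim (X.presheaf.stalk x)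
  have hdm : d ≤ m := by
    have h1 := (Groth.Agent.DimGenFibH8.stalk_dim_le_topDim X x).trans hdim
    rw [hd] at h1
    exact_mod_cast h1
  have := Groth.Agent.GlDim.hasProjectiveDimensionLT_of_regular (X.presheaf.stalk x) d hd
    (A.presheaf.stalk x)
  rw [projectiveDimension_le_iff]
  exact hasProjectiveDimensionLT_of_ge _ (d + 1) (m + 1) (by omega)

/-- the kernel of `p : E ⟶ B` epi with `E` a bundle -/
lemma Q_kernel_of_epi [IsLocallyNoetherian X] {E B : X.Modules} (p : E ⟶ B) [Epi p] (e : ℕ)
    (hE : FlatMod.IsFinLocFree E) (hB : Q e B) : Q (e - 1) (kernel p) := by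
  let T : ShortComplex X.Modules := ShortComplex.mk (kernel.ι p) p (kernel.condition p)
  have hT : T.ShortExact := by
    haveI : Mono T.f := inferInstanceAs (Mono (kernel.ι p))
    haveI : Epi T.g := inferInstanceAs (Epi p)
    exact ShortComplex.ShortExact.mk (ShortComplex.exact_of_f_is_kernel _ (kernelIsKernel p))
  exact Q_X₁ T hT e hE hB

/-- **S16240** -/
theorem main16240 (X : Scheme.{u}) [IsNoetherian X]
    (hreg : ∀ x : X, IsRegularLocalRing (X.presheaf.stalk x)) (m : ℕ)
    (hdim : topologicalKrullDim ↥X ≤ (m : WithBot ℕ∞))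
    (S : ComposableArrows X.Modules (m + 1)) (hS : S.Exact)
    (hmono : Mono (S.map' 0 1 (Nat.zero_le 1) (Nat.le_add_left 1 m)))
    (hepi : Epi (S.map' m (m + 1) (Nat.le_succ m) (le_refl (m + 1))))
    (hE : ∀ i : Fin m, FlatMod.IsFinLocFree
      (S.obj ⟨i.1 + 1, Nat.succ_lt_succ (Nat.lt_succ_of_lt i.2)⟩))
    (hF : Coh.IsCoh (S.obj (Fin.last (m + 1)))) :
    FlatMod.IsFinLocFree (S.obj 0) := by
  haveI : IsLocallyNoetherian X := inferInstance
  have hQF : Q m (S.obj (Fin.last (m + 1))) := Q_of_regular_of_dim_le hreg m hdim _ hF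
  rcases Nat.eq_zero_or_pos m with rfl | hm
  · -- `G ≅ F`
    haveI := hmono
    haveI := hepi
    haveI : IsIso (S.map' 0 1 (Nat.zero_le 1) (Nat.le_add_left 1 0)) :=
      isIso_of_mono_of_epi _
    exact vb_of_Q_zero (Q_of_iso (asIso (S.map' 0 1 (Nat.zero_le 1) (Nat.le_add_left 1 0))).symm hQF)
  · -- the kernels of the differentials
    have key : ∀ t j : ℕ, ∀ (h : j + 1 + t = m),
        Q j (kernel (S.map' (j + 1) (j + 2) (by omega) (by omega))) := by
      intro t
      induction t with
      | zero =>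
        intro j h
        have hj : j + 1 = m := by omega
        subst hj
        haveI : Epi (S.map' (j + 1) (j + 2) (by omega) (by omega)) := hepi
        exact Q_kernel_of_epi _ (j + 1) (hE ⟨j, by omega⟩) hQF
      | succ t ih =>
        intro j h
        have h1 := ih (j + 1) (by omega)
        have hex := hS.exact (j + 1) (by omega)
        rw [ShortComplex.exact_iff_epi_kernel_lift] at hex
        haveI := hex
        have hj2 : j + 2 ≤ m + 1 := by omega
        have hj3 : j + 3 ≤ m + 1 := by omega
        set d1 : S.obj' (j + 1) (by omega) ⟶ S.obj' (j + 2) hj2 :=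
          S.map' (j + 1) (j + 2) (by omega) hj2 with hd1
        set d2 : S.obj' (j + 2) hj2 ⟶ S.obj' (j + 3) hj3 :=
          S.map' (j + 2) (j + 3) (by omega) hj3 with hd2
        have hz : d1 ≫ d2 = 0 := hS.toIsComplex.zero (j + 1) (by omega)
        haveI : Epi (kernel.lift d2 d1 hz) := hex
        have h2 := Q_kernel_of_epi (kernel.lift d2 d1 hz) (j + 1) (hE ⟨j, by omega⟩) h1
        have e : kernel (kernel.lift d2 d1 hz) ≅ kernel d1 :=
          (kernelCompMono (kernel.lift d2 d1 hz) (kernel.ι d2)).symm ≪≫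
            kernelIsoOfEq (kernel.lift_ι d2 d1 hz)
        exact Q_of_iso e h2
    have h0 := key (m - 1) 0 (by omega)
    have hex := hS.exact 0 (by omega)
    haveI : Mono (S.sc hS.toIsComplex 0 (by omega)).f := hmono
    have hk := hex.fIsKernel
    have e : S.obj 0 ≅ kernel (S.map' 1 2 (by omega) (by omega)) :=
      IsLimit.conePointUniqueUpToIso hk (limit.isLimit _)
    exact vb_of_Q_zero (Q_of_iso e.symm h0)

end Groth.Agent.KRRRes
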