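import Groth.Agent.Lib.Serre_helper5
import Groth.Agent.Lib.Depth_helper5

/-!
# `k`-th syzygies over a regular local ring are free in codimension `≤ k` (helper5)
-/

set_option autoImplicit false
universe u
open CategoryTheory CategoryTheory.Limits IsLocalRing

namespace Groth.Agent.Syzygy

open Groth.Agent.DepthLib

/-- over a ring of global dimension `≤ k`, a `k`-th syzygy is projective. -/
theorem syzygy_projective (R : Type u) [CommRing R] (k : ℕ) (L : ℕ → Type u)
    [∀ i, AddCommGroup (L i)] [∀ i, Module R (L i)]
    (hproj : ∀ i, 1 ≤ i → i ≤ k → Module.Projective R (L i))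
    (d : ∀ i, L i →ₗ[R] L (i + 1)) (hinj : Function.Injective (d 0))
    (hex : ∀ i, i + 1 < k → Function.Exact (d i) (d (i + 1)))
    (hgl : ∀ (Y : Type u) [AddCommGroup Y] [Module R Y],
      HasProjectiveDimensionLT (ModuleCat.of R Y) (k + 1)) :
    Module.Projective R (L 0) := by
  cases k with
  | zero =>
    haveI := hgl (L 0)
    haveI : Projective (ModuleCat.of R (L 0)) := inferInstance
    exact (IsProjective.iff_projective (L 0)).mpr this
  | succ k =>
    have hLpd : ∀ j, j ≤ k → HasProjectiveDimensionLT (ModuleCat.of R (L (j + 1))) (j + 1) := by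
      intro j hj
      haveI : Module.Projective R (L (j + 1)) := hproj (j + 1) (by omega) (by omega)
      haveI : Projective (ModuleCat.of R (L (j + 1))) :=
        (IsProjective.iff_projective _).mp inferInstance
      exact hasProjectiveDimensionLT_of_ge _ 1 (j + 1) (by omega)
    have hpd : ∀ m j, j + m = k →
        HasProjectiveDimensionLT (ModuleCat.of R (LinearMap.range (d j))) (j + 1) := by
      intro m
      induction m with
      | zero =>
        intro j hj
        have hjk : j = k := by omega
        subst hjk
        have hS := shortComplexOf_shortExact (LinearMap.range (d j)).subtype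
          (LinearMap.range (d j)).mkQ Subtype.val_injective (Submodule.mkQ_surjective _)
          (LinearMap.exact_subtype_mkQ _)
        have h3 : HasProjectiveDimensionLT
            (ModuleCat.of R (L (j + 1) ⧸ LinearMap.range (d j))) (j + 1 + 1) := hgl _
        exact hS.hasProjectiveDimensionLT_X₁ (j + 1) (hLpd j le_rfl) h3
      | succ m ih =>
        intro j hj
        have ih' := ih (j + 1) (by omega)
        have hexj : Function.Exact (d j) (d (j + 1)) := hex j (by omega)
        have hex' : Function.Exact (LinearMap.range (d j)).subtype (d (j + 1)).rangeRestrict := by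
          intro y
          constructor
          · intro hy
            have h1 : d (j + 1) y = 0 := congrArg Subtype.val hy
            obtain ⟨z, hz⟩ := (hexj y).mp h1
            exact ⟨⟨y, ⟨z, hz⟩⟩, rfl⟩
          · rintro ⟨⟨_, z, rfl⟩, rfl⟩
            apply Subtype.ext
            exact (hexj (d j z)).mpr ⟨z, rfl⟩
        have hS := shortComplexOf_shortExact (LinearMap.range (d j)).subtype
          (d (j + 1)).rangeRestrict Subtype.val_injective
          (LinearMap.surjective_rangeRestrict _) hex'
        exact hS.hasProjectiveDimensionLT_X₁ (j + 1) (hLpd j (by omega)) ih'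
    haveI h0 := hpd k 0 (by omega)
    haveI : Projective (ModuleCat.of R (LinearMap.range (d 0))) := inferInstance
    haveI : Module.Projective R (LinearMap.range (d 0)) :=
      (IsProjective.iff_projective _).mpr this
    exact Module.Projective.of_equiv (LinearEquiv.ofInjective (d 0) hinj).symm

/-- S12491. -/
theorem free_localization (A : Type u) [CommRing A] [IsRegularLocalRing A]
    (k : ℕ) (N : ℕ → Type u) [∀ i, AddCommGroup (N i)] [∀ i, Module A (N i)]
    [Module.Finite A (N 0)]
    (hfree : ∀ i, 1 ≤ i → i ≤ k → Module.Free A (N i) ∧ Module.Finite A (N i))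
    (d : ∀ i, N i →ₗ[A] N (i + 1)) (hinj : Function.Injective (d 0))
    (hex : ∀ i, i + 1 < k → LinearMap.range (d i) = LinearMap.ker (d (i + 1)))
    (p : Ideal A) [p.IsPrime] (hp : p.height ≤ k) :
    Module.Free (Localization.AtPrime p) (LocalizedModule p.primeCompl (N 0)) := by
  haveI : IsRegularLocalRing (Localization.AtPrime p) :=
    Groth.Agent.Serre.localization_regular A p
  obtain ⟨h, hh⟩ := Groth.Agent.GlDim.exists_dim (Localization.AtPrime p)
  have hhk : h ≤ k := by
    have h1 := IsLocalization.AtPrime.ringKrullDim_eq_height p (Localization.AtPrime p)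
    rw [hh] at h1
    have h2 : (h : ℕ∞) = p.height := by exact_mod_cast h1
    have h3 : (h : ℕ∞) ≤ (k : ℕ∞) := h2 ▸ hp
    exact_mod_cast h3
  have hgl : ∀ (Y : Type u) [AddCommGroup Y] [Module (Localization.AtPrime p) Y],
      HasProjectiveDimensionLT (ModuleCat.of (Localization.AtPrime p) Y) (k + 1) := by
    intro Y _ _
    haveI := Groth.Agent.GlDim.hasProjectiveDimensionLT_of_regular (Localization.AtPrime p) h hh Y
    exact hasProjectiveDimensionLT_of_ge _ (h + 1) (k + 1) (by omega)
  have hproj : ∀ i, 1 ≤ i → i ≤ k →
      Module.Projective (Localization.AtPrime p) (LocalizedModule p.primeCompl (N i)) := by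
    intro i h1 h2
    haveI := (hfree i h1 h2).1
    haveI : Module.Free (Localization.AtPrime p) (LocalizedModule p.primeCompl (N i)) :=
      Module.free_of_isLocalizedModule p.primeCompl
        (LocalizedModule.mkLinearMap p.primeCompl (N i))
    infer_instance
  have hinjL : Function.Injective (LocalizedModule.map p.primeCompl (d 0)) :=
    IsLocalizedModule.map_injective p.primeCompl (LocalizedModule.mkLinearMap _ _)
      (LocalizedModule.mkLinearMap _ _) (d 0) hinj
  have hexL : ∀ i, i + 1 < k → Function.Exact (LocalizedModule.map p.primeCompl (d i))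
      (LocalizedModule.map p.primeCompl (d (i + 1))) := by
    intro i hi
    exact IsLocalizedModule.map_exact p.primeCompl (LocalizedModule.mkLinearMap _ _)
      (LocalizedModule.mkLinearMap _ _) (LocalizedModule.mkLinearMap _ _) (d i) (d (i + 1))
      (LinearMap.exact_iff.mpr (hex i hi).symm)
  haveI : Module.Projective (Localization.AtPrime p) (LocalizedModule p.primeCompl (N 0)) :=
    syzygy_projective (Localization.AtPrime p) k
      (fun i => LocalizedModule p.primeCompl (N i)) hproj
      (fun i => LocalizedModule.map p.primeCompl (d i)) hinjL hexL hgl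
  exact Module.free_of_flat_of_isLocalRing

end Groth.Agent.Syzygy
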