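import Mathlib

set_option autoImplicit false

namespace Groth.Agent.Lib.T1CIH1

open MvPolynomial

universe u

section relations
variable {R : Type u} [CommRing R]

/-- relations among the members of a weakly regular sequence have coefficients in the ideal. -/
theorem rel_mem : ∀ (n : ℕ) (g : Fin n → R),
    RingTheory.Sequence.IsWeaklyRegular R (List.ofFn g) →
    ∀ (c : Fin n → R), ∑ i, c i * g i = 0 → ∀ i, c i ∈ Ideal.span (Set.range g) := by
  intro n
  induction n with
  | zero => intro g _ c _ i; exact i.elim0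
  | succ n ih =>
    intro g hg c hc
    set g' : Fin n → R := fun i => g i.castSucc with hg'
    have hsplit : List.ofFn g = List.ofFn g' ++ [g (Fin.last n)] := by
      rw [List.ofFn_succ', List.concat_eq_append]
    rw [hsplit, RingTheory.Sequence.isWeaklyRegular_append_iff,
      RingTheory.Sequence.isWeaklyRegular_singleton_iff] at hg
    obtain ⟨hg1, hg2⟩ := hg
    have hI : Ideal.ofList (List.ofFn g') = Ideal.span (Set.range g') :=
      congrArg Ideal.span (Set.ext fun a => List.mem_ofFn' g' a)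
    have hle : Ideal.span (Set.range g') ≤ Ideal.span (Set.range g) :=
      Ideal.span_mono (by rintro _ ⟨i, rfl⟩; exact ⟨i.castSucc, rfl⟩)
    rw [Fin.sum_univ_castSucc] at hc
    have hlast : c (Fin.last n) ∈ Ideal.span (Set.range g') := by
      have h1 : c (Fin.last n) * g (Fin.last n) ∈ Ideal.span (Set.range g') := by
        have : c (Fin.last n) * g (Fin.last n) = - ∑ i : Fin n, c i.castSucc * g' i := by
          rw [eq_neg_iff_add_eq_zero, add_comm]; exact hc
        rw [this]
        exact neg_mem (Ideal.sum_mem _ fun i _ =>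
          Ideal.mul_mem_left _ _ (Ideal.subset_span ⟨i, rfl⟩))
      have h2 : g (Fin.last n) • (Submodule.Quotient.mk (c (Fin.last n)) :
          R ⧸ (Ideal.ofList (List.ofFn g') • ⊤ : Submodule R R)) = g (Fin.last n) • 0 := by
        rw [smul_zero, ← Submodule.Quotient.mk_smul, Submodule.Quotient.mk_eq_zero]
        show g (Fin.last n) • c (Fin.last n) ∈ Ideal.ofList (List.ofFn g') • (⊤ : Ideal R)
        rw [Ideal.smul_eq_mul, Ideal.mul_top, hI, smul_eq_mul, mul_comm]
        exact h1
      have h3 := hg2 h2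
      rw [Submodule.Quotient.mk_eq_zero] at h3
      have h4 : c (Fin.last n) ∈ Ideal.ofList (List.ofFn g') • (⊤ : Ideal R) := h3
      rwa [Ideal.smul_eq_mul, Ideal.mul_top, hI] at h4
    obtain ⟨e, he⟩ := (Ideal.mem_span_range_iff_exists_fun).mp hlast
    have hsum : ∑ i : Fin n, (c i.castSucc + e i * g (Fin.last n)) * g' i = 0 := by
      have : ∑ i : Fin n, (c i.castSucc + e i * g (Fin.last n)) * g' i =
          ∑ i : Fin n, c i.castSucc * g' i + (∑ i, e i * g' i) * g (Fin.last n) := by
        rw [Finset.sum_mul, ← Finset.sum_add_distrib]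
        exact Finset.sum_congr rfl fun i _ => by ring
      rw [this, he]; exact hc
    have hih := ih g' hg1 _ hsum
    intro i
    refine Fin.lastCases ?_ (fun i => ?_) i
    · exact hle hlast
    · have : c i.castSucc = (c i.castSucc + e i * g (Fin.last n)) - e i * g (Fin.last n) := by
        ring
      rw [this]
      exact sub_mem (hle (hih i))
        (Ideal.mul_mem_left _ _ (Ideal.subset_span ⟨Fin.last n, rfl⟩))

end relations

section main
variable {k : Type u} [Field k] {d n : ℕ} (f : Fin n → MvPolynomial (Fin d) k)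

noncomputable abbrev JJ : Ideal (MvPolynomial (Fin d) k) := Ideal.span (Set.range f)

theorem f_mem (i : Fin n) : f i ∈ JJ f := Ideal.subset_span (Set.mem_range_self i)

theorem smul_eq_mk_mul (p : MvPolynomial (Fin d) k) (b : MvPolynomial (Fin d) k ⧸ JJ f) :
    p • b = Ideal.Quotient.mk (JJ f) p * b := by
  obtain ⟨b, rfl⟩ := Ideal.Quotient.mk_surjective b
  rw [← map_mul]; rfl

theorem smul_eq_zero_of_mem {a : MvPolynomial (Fin d) k} (ha : a ∈ JJ f)
    (b : MvPolynomial (Fin d) k ⧸ JJ f) : a • b = 0 := by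
  rw [smul_eq_mk_mul, Ideal.Quotient.eq_zero_iff_mem.mpr ha, zero_mul]

noncomputable def ev :
    (↥(JJ f) →ₗ[MvPolynomial (Fin d) k] (MvPolynomial (Fin d) k ⧸ JJ f)) →ₗ[MvPolynomial (Fin d) k]
      (Fin n → MvPolynomial (Fin d) k ⧸ JJ f) where
  toFun φ := fun i => φ ⟨f i, f_mem f i⟩
  map_add' _ _ := rfl
  map_smul' _ _ := rfl

theorem ev_apply (φ : ↥(JJ f) →ₗ[MvPolynomial (Fin d) k] (MvPolynomial (Fin d) k ⧸ JJ f))
    (i : Fin n) : ev f φ i = φ ⟨f i, f_mem f i⟩ := rfl

theorem ev_injective : Function.Injective (ev f) := by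
  intro φ φ' h
  ext ⟨a, ha⟩
  obtain ⟨c, rfl⟩ := (Ideal.mem_span_range_iff_exists_fun).mp ha
  have hel : (⟨∑ i, c i * f i, ha⟩ : ↥(JJ f)) = ∑ i, c i • (⟨f i, f_mem f i⟩ : ↥(JJ f)) := by
    apply Subtype.ext
    simp [Submodule.coe_sum]
  rw [hel, map_sum, map_sum]
  refine Finset.sum_congr rfl fun i _ => ?_
  rw [map_smul, map_smul]
  exact congrArg _ (congrFun h i)

theorem ev_surjective
    (hreg : RingTheory.Sequence.IsWeaklyRegular (MvPolynomial (Fin d) k) (List.ofFn f)) :
    Function.Surjective (ev f) := by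
  intro b
  let v : Fin n → ↥(JJ f) := fun i => ⟨f i, f_mem f i⟩
  let π : (Fin n → MvPolynomial (Fin d) k) →ₗ[MvPolynomial (Fin d) k] ↥(JJ f) :=
    Fintype.linearCombination (MvPolynomial (Fin d) k) v
  let β : (Fin n → MvPolynomial (Fin d) k) →ₗ[MvPolynomial (Fin d) k]
      (MvPolynomial (Fin d) k ⧸ JJ f) :=
    Fintype.linearCombination (MvPolynomial (Fin d) k) b
  have hπc : ∀ c, ((π c : ↥(JJ f)) : MvPolynomial (Fin d) k) = ∑ i, c i * f i := by
    intro c
    simp [π, v, Fintype.linearCombination_apply, Submodule.coe_sum]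
  have hπ : Function.Surjective π := by
    rintro ⟨a, ha⟩
    obtain ⟨c, rfl⟩ := (Ideal.mem_span_range_iff_exists_fun).mp ha
    exact ⟨c, Subtype.ext (hπc c)⟩
  have hker : LinearMap.ker π ≤ LinearMap.ker β := by
    intro c hc
    rw [LinearMap.mem_ker] at hc ⊢
    have h0 : ∑ i, c i * f i = 0 := by rw [← hπc c, hc]; rfl
    have hmem := rel_mem n f hreg c h0
    simp only [β, Fintype.linearCombination_apply]
    exact Finset.sum_eq_zero fun i _ => smul_eq_zero_of_mem f (hmem i) (b i)
  let φ : ↥(JJ f) →ₗ[MvPolynomial (Fin d) k] (MvPolynomial (Fin d) k ⧸ JJ f) :=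
    ((LinearMap.ker π).liftQ β hker) ∘ₗ (π.quotKerEquivOfSurjective hπ).symm.toLinearMap
  have hφ : ∀ c, φ (π c) = β c := by
    intro c
    have : (π.quotKerEquivOfSurjective hπ).symm (π c) = Submodule.Quotient.mk c := by
      rw [LinearEquiv.symm_apply_eq]; rfl
    simp only [φ, LinearMap.coe_comp, Function.comp_apply, LinearEquiv.coe_coe, this,
      Submodule.liftQ_apply]
  refine ⟨φ, funext fun i => ?_⟩
  have h1 : (⟨f i, f_mem f i⟩ : ↥(JJ f)) = π (Pi.single i 1) := by
    apply Subtype.ext; rw [hπc]; simp [Pi.single_apply]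
  rw [ev_apply, h1, hφ]
  simp [β, Fintype.linearCombination_apply, Pi.single_apply]

theorem der_formula
    (D : Derivation k (MvPolynomial (Fin d) k) (MvPolynomial (Fin d) k ⧸ JJ f))
    (p : MvPolynomial (Fin d) k) :
    D p = ∑ j, (pderiv j p) • D (X j) := by
  induction p using MvPolynomial.induction_on with
  | C a => simp
  | add p q hp hq =>
    rw [map_add, hp, hq, ← Finset.sum_add_distrib]
    exact Finset.sum_congr rfl fun j _ => by rw [map_add, add_smul]
  | mul_X p i hp =>
    rw [Derivation.leibniz]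
    have hX : ∀ j, pderiv j (X i : MvPolynomial (Fin d) k) = if j = i then 1 else 0 := by
      intro j
      rw [pderiv_X, Pi.single_apply]
      by_cases hji : j = i
      · subst hji; simp
      · rw [if_neg hji, if_neg (Ne.symm hji)]
    have h : ∀ j, (pderiv j (p * X i)) • D (X j) =
        (X i : MvPolynomial (Fin d) k) • ((pderiv j p) • D (X j)) +
          (if j = i then p • D (X j) else 0) := by
      intro j
      rw [Derivation.leibniz, hX, add_smul, add_comm]
      congr 1
      · rw [smul_eq_mul, smul_smul]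
      · by_cases hji : j = i
        · subst hji; simp
        · simp [hji]
    simp_rw [h, Finset.sum_add_distrib, ← Finset.smul_sum]
    rw [← hp, Finset.sum_ite_eq' Finset.univ i, if_pos (Finset.mem_univ i), add_comm]

noncomputable abbrev SS : Submodule (MvPolynomial (Fin d) k)
    (↥(JJ f) →ₗ[MvPolynomial (Fin d) k] (MvPolynomial (Fin d) k ⧸ JJ f)) :=
  Submodule.span (MvPolynomial (Fin d) k)
    {ψ | ∃ D : Derivation k (MvPolynomial (Fin d) k) (MvPolynomial (Fin d) k ⧸ JJ f),
      ∀ a : ↥(JJ f), ψ a = D (a : MvPolynomial (Fin d) k)}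

noncomputable abbrev TT : Submodule (MvPolynomial (Fin d) k ⧸ JJ f) (Fin n → MvPolynomial (Fin d) k ⧸ JJ f) :=
  Submodule.span (MvPolynomial (Fin d) k ⧸ JJ f)
    (Set.range fun j : Fin d => fun i : Fin n => Ideal.Quotient.mk (JJ f) (pderiv j (f i)))

theorem ev_mem_TT {ψ : ↥(JJ f) →ₗ[MvPolynomial (Fin d) k] (MvPolynomial (Fin d) k ⧸ JJ f)}
    (hψ : ψ ∈ SS f) : ev f ψ ∈ TT f := by
  induction hψ using Submodule.span_induction with
  | mem ψ h =>
    obtain ⟨D, hD⟩ := h
    have : ev f ψ = ∑ j, D (X j) •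
        (fun i : Fin n => Ideal.Quotient.mk (JJ f) (pderiv j (f i))) := by
      funext i
      rw [ev_apply, hD, der_formula f D (f i), Finset.sum_apply]
      refine Finset.sum_congr rfl fun j _ => ?_
      rw [Pi.smul_apply, smul_eq_mul, smul_eq_mk_mul, mul_comm]
    rw [this]
    exact Submodule.sum_mem _ fun j _ => Submodule.smul_mem _ _ (Submodule.subset_span ⟨j, rfl⟩)
  | zero => rw [map_zero]; exact zero_mem _
  | add x y _ _ hx hy => rw [map_add]; exact add_mem hx hy
  | smul p x _ hx =>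
    rw [map_smul]
    have : p • ev f x = (Ideal.Quotient.mk (JJ f) p) • ev f x := by
      funext i; rw [Pi.smul_apply, Pi.smul_apply, smul_eq_mk_mul, smul_eq_mul]
    rw [this]; exact Submodule.smul_mem _ _ hx

noncomputable def restrD
    (D : Derivation k (MvPolynomial (Fin d) k) (MvPolynomial (Fin d) k ⧸ JJ f)) :
    ↥(JJ f) →ₗ[MvPolynomial (Fin d) k] (MvPolynomial (Fin d) k ⧸ JJ f) where
  toFun a := D (a : MvPolynomial (Fin d) k)
  map_add' a b := by simp
  map_smul' p a := by
    simp only [Submodule.coe_smul, smul_eq_mul, RingHom.id_apply]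
    rw [Derivation.leibniz, smul_eq_zero_of_mem f a.2, add_zero]

theorem mem_SS_of_ev {φ : ↥(JJ f) →ₗ[MvPolynomial (Fin d) k] (MvPolynomial (Fin d) k ⧸ JJ f)}
    (h : ev f φ ∈ TT f) : φ ∈ SS f := by
  obtain ⟨v, hv⟩ := (Submodule.mem_span_range_iff_exists_fun _).mp h
  obtain ⟨D, hDX⟩ : ∃ D : Derivation k (MvPolynomial (Fin d) k) (MvPolynomial (Fin d) k ⧸ JJ f),
      ∀ j, D (X j) = v j := ⟨mkDerivation k v, fun j => mkDerivation_X k v j⟩
  have : φ = restrD f D := by
    apply ev_injective f
    rw [← hv]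
    funext i
    rw [Finset.sum_apply]
    show _ = D (f i)
    rw [der_formula f D (f i)]
    refine Finset.sum_congr rfl fun j _ => ?_
    rw [hDX, Pi.smul_apply, smul_eq_mul, smul_eq_mk_mul, mul_comm]
  rw [this]
  exact Submodule.subset_span ⟨D, fun a => rfl⟩

end main

theorem main11302 (k : Type u) [Field k] [IsAlgClosed k] (d n : ℕ)
    (f : Fin n → MvPolynomial (Fin d) k) (hreg : RingTheory.Sequence.IsWeaklyRegular (MvPolynomial (Fin d) k) (List.ofFn f)) :
    ∃ e : ((↥(Ideal.span (Set.range f)) →ₗ[MvPolynomial (Fin d) k] (MvPolynomial (Fin d) k ⧸ Ideal.span (Set.range f))) ⧸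
            Submodule.span (MvPolynomial (Fin d) k)
              {ψ : ↥(Ideal.span (Set.range f)) →ₗ[MvPolynomial (Fin d) k] (MvPolynomial (Fin d) k ⧸ Ideal.span (Set.range f)) |
                ∃ D : Derivation k (MvPolynomial (Fin d) k) (MvPolynomial (Fin d) k ⧸ Ideal.span (Set.range f)), ∀ a : ↥(Ideal.span (Set.range f)), ψ a = D (a : MvPolynomial (Fin d) k)}) ≃ₗ[MvPolynomial (Fin d) k]
          ((Fin n → MvPolynomial (Fin d) k ⧸ Ideal.span (Set.range f)) ⧸
            Submodule.span (MvPolynomial (Fin d) k ⧸ Ideal.span (Set.range f))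
              (Set.range fun j : Fin d => fun i : Fin n => Ideal.Quotient.mk (Ideal.span (Set.range f)) (pderiv j (f i)))),
      ∀ φ : ↥(Ideal.span (Set.range f)) →ₗ[MvPolynomial (Fin d) k] (MvPolynomial (Fin d) k ⧸ Ideal.span (Set.range f)),
        e (Submodule.Quotient.mk φ) =
          Submodule.Quotient.mk (fun i : Fin n => φ ⟨f i, Ideal.subset_span (Set.mem_range_self i)⟩) := by
  let g0 : (↥(JJ f) →ₗ[MvPolynomial (Fin d) k] (MvPolynomial (Fin d) k ⧸ JJ f)) →ₗ[MvPolynomial (Fin d) k]
      ((Fin n → MvPolynomial (Fin d) k ⧸ JJ f) ⧸ TT f) :=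
    { toFun := fun φ => Submodule.Quotient.mk (ev f φ)
      map_add' := fun a b => by rw [map_add]; rfl
      map_smul' := fun p a => by rw [map_smul]; rfl }
  have hle : SS f ≤ LinearMap.ker g0 := fun ψ hψ => by
    rw [LinearMap.mem_ker]
    exact (Submodule.Quotient.mk_eq_zero _).mpr (ev_mem_TT f hψ)
  let g := (SS f).liftQ g0 hle
  have hinj : Function.Injective g := by
    refine (injective_iff_map_eq_zero g).mpr fun x hx => ?_
    obtain ⟨φ, rfl⟩ := Submodule.Quotient.mk_surjective _ x
    have h1 : g0 φ = 0 := hx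
    have h2 : ev f φ ∈ TT f := (Submodule.Quotient.mk_eq_zero _).mp h1
    exact (Submodule.Quotient.mk_eq_zero _).mpr (mem_SS_of_ev f h2)
  have hsurj : Function.Surjective g := by
    intro y
    obtain ⟨b, rfl⟩ := Submodule.Quotient.mk_surjective _ y
    obtain ⟨φ, rfl⟩ := ev_surjective f hreg b
    exact ⟨Submodule.Quotient.mk φ, rfl⟩
  exact ⟨LinearEquiv.ofBijective g ⟨hinj, hsurj⟩, fun φ => rfl⟩

end Groth.Agent.Lib.T1CIH1
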