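import Mathlib
import Groth.Prelude.Def_W4c5t1liftcy3defoArt

/-!
# Truncated polynomial rings `k[t]/(t^(n+1))`: kernel of the truncation, independence of `t^n`
(helper3)
-/

set_option autoImplicit false
set_option linter.unusedSectionVars false

universe u

open Polynomial

namespace Groth.Agent.Lib.T1LiftH3

open T1Lift

variable (k : Type u) [Field k] (n : ℕ)

theorem αAlg_mk (p : k[X]) :
    αAlg k n (AdjoinRoot.mk ((X : k[X]) ^ (n + 1 + 1)) p) = AdjoinRoot.mk ((X : k[X]) ^ (n + 1)) p := by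
  rw [αAlg, AdjoinRoot.liftAlgHom_mk]
  show Polynomial.eval₂ (algebraMap k (Tr k n)) (t k n) p = _
  rw [← Polynomial.aeval_def, AdjoinRoot.aeval_eq]

theorem αAlg_surjective : Function.Surjective (αAlg k n) := by
  intro y
  induction y using AdjoinRoot.induction_on with
  | ih p => exact ⟨AdjoinRoot.mk _ p, αAlg_mk k n p⟩

theorem ker_αAlg (x : Tr k (n + 1)) (hx : αAlg k n x = 0) :
    ∃ u : Tr k (n + 1), x = t k (n + 1) ^ (n + 1) * u := by
  induction x using AdjoinRoot.induction_on with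
  | ih p =>
    rw [αAlg_mk] at hx
    have hx' : (AdjoinRoot.mk ((X : k[X]) ^ (n + 1)) p : AdjoinRoot ((X : k[X]) ^ (n + 1))) = 0 := hx
    rw [AdjoinRoot.mk_eq_zero] at hx'
    obtain ⟨q, rfl⟩ := hx'
    refine ⟨AdjoinRoot.mk _ q, ?_⟩
    rw [map_mul, map_pow, AdjoinRoot.mk_X]

theorem eq_t_mul_of_res (m : Tr k n) (hm : resA k n m = 0) :
    ∃ b : Tr k n, m = t k n * b := by
  obtain ⟨b, hb⟩ := eq_algebraMap_add_t_mul k n m
  refine ⟨b, ?_⟩
  rw [hb, hm, map_zero, zero_add]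

theorem algebraMap_mul_t_pow_eq_zero (c : k) (h : algebraMap k (Tr k n) c * t k n ^ n = 0) :
    c = 0 := by
  by_contra hc
  have h1 : (AdjoinRoot.mk ((X : k[X]) ^ (n + 1)) (C c * X ^ n) : Tr k n) = 0 := by
    rw [map_mul, map_pow, AdjoinRoot.mk_X, AdjoinRoot.mk_C]
    exact h
  rw [AdjoinRoot.mk_eq_zero] at h1
  have hne : (C c * X ^ n : k[X]) ≠ 0 := mul_ne_zero (C_ne_zero.2 hc) (pow_ne_zero n X_ne_zero)
  have h2 := Polynomial.degree_le_of_dvd h1 hne
  rw [Polynomial.degree_X_pow, Polynomial.degree_C_mul_X_pow n hc] at h2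
  norm_cast at h2
  omega

/-- elements of the kernel of the truncation `A_(n+1) → A_n` are multiples `c t^(n+1)`. -/
theorem ker_αAlg' (x : Tr k (n + 1)) (hx : αAlg k n x = 0) :
    ∃ c : k, x = algebraMap k (Tr k (n + 1)) c * t k (n + 1) ^ (n + 1) := by
  obtain ⟨u, rfl⟩ := ker_αAlg k n x hx
  obtain ⟨b, hb⟩ := eq_algebraMap_add_t_mul k (n + 1) u
  refine ⟨resA k (n + 1) u, ?_⟩
  have h0 : t k (n + 1) ^ (n + 1 + 1) = 0 := t_pow k (n + 1)
  calc t k (n + 1) ^ (n + 1) * u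
      = t k (n + 1) ^ (n + 1) * (algebraMap k _ (resA k (n + 1) u) + t k (n + 1) * b) := by
        rw [← hb]
    _ = algebraMap k _ (resA k (n + 1) u) * t k (n + 1) ^ (n + 1) +
          t k (n + 1) ^ (n + 1 + 1) * b := by ring
    _ = _ := by rw [h0, zero_mul, add_zero]

end Groth.Agent.Lib.T1LiftH3
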