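import Mathlib
import Groth.Prelude.Def_ArtFun3
import Groth.Prelude.Def_W4c5t1liftcy3defoArt
import Groth.Agent.Lib.T1LiftA_helper3

/-!
# The `T¹`-lifting criterion: the auxiliary fibre product `A_(n+1) ×_{A_n} B_n = B_(n+1)/(t^(n+1) y)`
(helper3)
-/

set_option autoImplicit false
set_option linter.unusedSectionVars false

universe u

open Polynomial CategoryTheory

namespace Groth.Agent.Lib.T1LiftH3

open T1Lift ArtFun ArtFun.Art

variable (k : Type u) [Field k] (n : ℕ)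

/-- `t^(n+1) y ∈ B_(n+1)`. -/
noncomputable def e₀ : B k (n + 1) :=
  (TrivSqZeroExt.inr (t k (n + 1) ^ (n + 1)) : DualNumber (Tr k (n + 1)))

/-- `t + y ∈ B_(n+1)`. -/
noncomputable def x₀ : B k (n + 1) :=
  (TrivSqZeroExt.inl (t k (n + 1)) + DualNumber.eps : DualNumber (Tr k (n + 1)))

theorem res_e₀ : (B k (n + 1)).res (e₀ k n) = 0 := by
  show resA k (n + 1) (TrivSqZeroExt.fst (TrivSqZeroExt.inr (t k (n + 1) ^ (n + 1)))) = 0
  rw [TrivSqZeroExt.fst_inr, map_zero]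

noncomputable def K : Ideal (B k (n + 1)) := Ideal.span {e₀ k n}

theorem K_le : K k n ≤ IsLocalRing.maximalIdeal (B k (n + 1)) := by
  rw [K, Ideal.span_singleton_le_iff_mem, Art.mem_maximalIdeal_iff]
  exact res_e₀ k n

/-- `C = B_(n+1)/(t^(n+1) y)`. -/
noncomputable def Cq : Art k k := Art.quot (B k (n + 1)) (K k n) (K_le k n)

noncomputable def ψ : B k (n + 1) ⟶ Cq k n := Art.quotMk (B k (n + 1)) (K k n) (K_le k n)

theorem ψ_surjective : Function.Surjective (ψ k n) := Art.quotMk_surjective _ _ _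

theorem ψ_eq_zero_iff (b : B k (n + 1)) : ψ k n b = 0 ↔ b ∈ K k n :=
  Ideal.Quotient.eq_zero_iff_mem

theorem ψ_e₀ : ψ k n (e₀ k n) = 0 := (ψ_eq_zero_iff k n _).2 (Ideal.subset_span rfl)

theorem β_e₀ : β k (n + 1) (e₀ k n) = 0 := by
  show TrivSqZeroExt.fst (TrivSqZeroExt.inr (t k (n + 1) ^ (n + 1)) : DualNumber (Tr k (n + 1))) = 0
  rw [TrivSqZeroExt.fst_inr]

theorem ξ_e₀ : ξ k n (e₀ k n) = 0 := by
  show ((αAlg k n (TrivSqZeroExt.fst (TrivSqZeroExt.inr (t k (n + 1) ^ (n + 1)) :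
      DualNumber (Tr k (n + 1)))),
    αAlg k n (TrivSqZeroExt.snd (TrivSqZeroExt.inr (t k (n + 1) ^ (n + 1)) :
      DualNumber (Tr k (n + 1))))) : DualNumber (Tr k n)) = 0
  rw [TrivSqZeroExt.fst_inr, TrivSqZeroExt.snd_inr, map_zero, map_pow, αAlg_t, t_pow]
  rfl

theorem K_le_ker_β : K k n ≤ RingHom.ker (β k (n + 1)).toAlgHom := by
  rw [K, Ideal.span_singleton_le_iff_mem, RingHom.mem_ker]
  exact β_e₀ k n

theorem K_le_ker_ξ : K k n ≤ RingHom.ker (ξ k n).toAlgHom := by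
  rw [K, Ideal.span_singleton_le_iff_mem, RingHom.mem_ker]
  exact ξ_e₀ k n

noncomputable def pr₁ : Cq k n ⟶ A k (n + 1) :=
  Art.quotFactor (K_le k n) (β k (n + 1)) (K_le_ker_β k n)

noncomputable def pr₂ : Cq k n ⟶ B k n :=
  Art.quotFactor (K_le k n) (ξ k n) (K_le_ker_ξ k n)

theorem ψ_pr₁ : ψ k n ≫ pr₁ k n = β k (n + 1) := Art.quotMk_quotFactor _ _ _

theorem ψ_pr₂ : ψ k n ≫ pr₂ k n = ξ k n := Art.quotMk_quotFactor _ _ _

theorem pr₁_ψ (b : B k (n + 1)) : pr₁ k n (ψ k n b) = β k (n + 1) b := rfl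

theorem pr₂_ψ (b : B k (n + 1)) : pr₂ k n (ψ k n b) = ξ k n b := rfl

theorem x₀_pow : x₀ k n ^ (n + 1 + 1) = (n + 1 + 1) • e₀ k n := by
  show (TrivSqZeroExt.inl (t k (n + 1)) + DualNumber.eps : DualNumber (Tr k (n + 1))) ^ (n + 1 + 1) =
    (n + 1 + 1) • (TrivSqZeroExt.inr (t k (n + 1) ^ (n + 1)) : DualNumber (Tr k (n + 1)))
  apply TrivSqZeroExt.ext
  · rw [TrivSqZeroExt.fst_pow, TrivSqZeroExt.fst_add, TrivSqZeroExt.fst_inl, DualNumber.fst_eps,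
      add_zero, t_pow, TrivSqZeroExt.fst_smul, TrivSqZeroExt.fst_inr, smul_zero]
  · rw [TrivSqZeroExt.snd_pow, TrivSqZeroExt.fst_add, TrivSqZeroExt.fst_inl, DualNumber.fst_eps,
      add_zero, TrivSqZeroExt.snd_add, TrivSqZeroExt.snd_inl, DualNumber.snd_eps, zero_add,
      TrivSqZeroExt.snd_smul, TrivSqZeroExt.snd_inr, smul_eq_mul, mul_one]
    rfl

theorem ψ_x₀_pow : ψ k n (x₀ k n) ^ (n + 1 + 1) = 0 := by
  rw [← map_pow, x₀_pow, map_nsmul, ψ_e₀, smul_zero]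

noncomputable def gAlg : Tr k (n + 1) →ₐ[k] (Cq k n) :=
  AdjoinRoot.liftAlgHom _ (Algebra.ofId k (Cq k n)) (ψ k n (x₀ k n))
    (by rw [eval₂_X_pow]; exact ψ_x₀_pow k n)

theorem gAlg_t : gAlg k n (t k (n + 1)) = ψ k n (x₀ k n) := AdjoinRoot.liftAlgHom_root _ _ _ _

theorem res_x₀ : (B k (n + 1)).res (x₀ k n) = 0 := by
  show resA k (n + 1) (TrivSqZeroExt.fst
    (TrivSqZeroExt.inl (t k (n + 1)) + DualNumber.eps : DualNumber (Tr k (n + 1)))) = 0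
  rw [TrivSqZeroExt.fst_add, TrivSqZeroExt.fst_inl, DualNumber.fst_eps, add_zero, resA_t]

noncomputable def g : A k (n + 1) ⟶ Cq k n :=
  Art.homMk (gAlg k n) (AdjoinRoot.algHom_ext (by
    show (Cq k n).res (gAlg k n (t k (n + 1))) = resA k (n + 1) (t k (n + 1))
    rw [gAlg_t, Art.res_app, res_x₀, resA_t]))

theorem g_t : g k n (t k (n + 1)) = ψ k n (x₀ k n) := gAlg_t k n

theorem β_x₀ : β k (n + 1) (x₀ k n) = t k (n + 1) := by
  show TrivSqZeroExt.fst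
    (TrivSqZeroExt.inl (t k (n + 1)) + DualNumber.eps : DualNumber (Tr k (n + 1))) = _
  rw [TrivSqZeroExt.fst_add, TrivSqZeroExt.fst_inl, DualNumber.fst_eps, add_zero]

theorem ξ_x₀ : ξ k n (x₀ k n) =
    (TrivSqZeroExt.inl (t k n) + DualNumber.eps : DualNumber (Tr k n)) := by
  show ((αAlg k n (TrivSqZeroExt.fst
      (TrivSqZeroExt.inl (t k (n + 1)) + DualNumber.eps : DualNumber (Tr k (n + 1)))),
    αAlg k n (TrivSqZeroExt.snd
      (TrivSqZeroExt.inl (t k (n + 1)) + DualNumber.eps : DualNumber (Tr k (n + 1))))) :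
      DualNumber (Tr k n)) = _
  rw [TrivSqZeroExt.fst_add, TrivSqZeroExt.fst_inl, DualNumber.fst_eps, add_zero,
    TrivSqZeroExt.snd_add, TrivSqZeroExt.snd_inl, DualNumber.snd_eps, zero_add, αAlg_t, map_one]
  apply TrivSqZeroExt.ext
  · rw [TrivSqZeroExt.fst_add, TrivSqZeroExt.fst_inl, DualNumber.fst_eps, add_zero]
    rfl
  · rw [TrivSqZeroExt.snd_add, TrivSqZeroExt.snd_inl, DualNumber.snd_eps, zero_add]
    rfl

theorem g_pr₁ : g k n ≫ pr₁ k n = 𝟙 (A k (n + 1)) := by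
  apply Art.hom_ext
  apply AdjoinRoot.algHom_ext
  show pr₁ k n (g k n (t k (n + 1))) = t k (n + 1)
  rw [g_t, pr₁_ψ, β_x₀]

theorem g_pr₂ : g k n ≫ pr₂ k n = ε k n := by
  apply Art.hom_ext
  apply AdjoinRoot.algHom_ext
  show pr₂ k n (g k n (t k (n + 1))) = εAlg k n (t k (n + 1))
  rw [g_t, pr₂_ψ, ξ_x₀, εAlg_t]

theorem α_g : α k (n + 1) ≫ g k n = ε k (n + 1) ≫ ψ k n := by
  apply Art.hom_ext
  apply AdjoinRoot.algHom_ext
  show g k n (αAlg k (n + 1) (t k (n + 1 + 1))) = ψ k n (εAlg k (n + 1) (t k (n + 1 + 1)))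
  rw [αAlg_t, g_t, εAlg_t]
  rfl

end Groth.Agent.Lib.T1LiftH3
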