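import Mathlib
import Groth.Prelude.Def_ArtFun3
import Groth.Prelude.Def_W4c5t1liftcy3defoArt
import Groth.Agent.Lib.T1LiftB_helper3

/-!
# The `T¹`-lifting criterion (helper3)
-/

set_option autoImplicit false
set_option linter.unusedSectionVars false

universe u v

open Polynomial CategoryTheory TensorProduct

namespace Groth.Agent.Lib.T1LiftH3

open T1Lift ArtFun ArtFun.Art

variable (k : Type u) [Field k] (n : ℕ)

section Pure

theorem dn_eq_inr_mul_inl (b : DualNumber (Tr k (n + 1))) (hf : TrivSqZeroExt.fst b = 0)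
    (u : Tr k (n + 1)) (hu : TrivSqZeroExt.snd b = t k (n + 1) ^ (n + 1) * u) :
    b = (TrivSqZeroExt.inr (t k (n + 1) ^ (n + 1)) : DualNumber (Tr k (n + 1))) *
      TrivSqZeroExt.inl u := by
  apply TrivSqZeroExt.ext
  · rw [hf, TrivSqZeroExt.fst_mul, TrivSqZeroExt.fst_inr, zero_mul]
  · rw [hu, TrivSqZeroExt.snd_mul, TrivSqZeroExt.fst_inr, TrivSqZeroExt.snd_inr,
      TrivSqZeroExt.snd_inl, TrivSqZeroExt.fst_inl, smul_zero, zero_add]
    show _ = t k (n + 1) ^ (n + 1) * u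
    rfl

theorem dn_mul_inr_eq_zero (m : DualNumber (Tr k (n + 1))) (b : Tr k (n + 1))
    (hb : TrivSqZeroExt.fst m = t k (n + 1) * b) :
    m * (TrivSqZeroExt.inr (t k (n + 1) ^ (n + 1)) : DualNumber (Tr k (n + 1))) = 0 := by
  apply TrivSqZeroExt.ext
  · rw [TrivSqZeroExt.fst_mul, TrivSqZeroExt.fst_inr, mul_zero, TrivSqZeroExt.fst_zero]
  · rw [TrivSqZeroExt.snd_mul, TrivSqZeroExt.fst_inr, TrivSqZeroExt.snd_inr, hb,
      TrivSqZeroExt.snd_zero]
    show t k (n + 1) * b * t k (n + 1) ^ (n + 1) + MulOpposite.op (0 : Tr k (n + 1)) • _ = 0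
    rw [MulOpposite.op_zero, zero_smul, add_zero]
    have h0 : t k (n + 1) ^ (n + 1 + 1) = 0 := t_pow k (n + 1)
    calc t k (n + 1) * b * t k (n + 1) ^ (n + 1) = t k (n + 1) ^ (n + 1 + 1) * b := by ring
      _ = 0 := by rw [h0, zero_mul]

end Pure

theorem β_surjective : Function.Surjective (β k n) := by
  intro a
  exact ⟨(TrivSqZeroExt.inl a : DualNumber (Tr k n)), rfl⟩

theorem mem_K_of (b : B k (n + 1)) (h1 : β k (n + 1) b = 0) (h2 : ξ k n b = 0) : b ∈ K k n := by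
  have hf : TrivSqZeroExt.fst (b : DualNumber (Tr k (n + 1))) = 0 := h1
  have hs : αAlg k n (TrivSqZeroExt.snd (b : DualNumber (Tr k (n + 1)))) = 0 :=
    congrArg TrivSqZeroExt.snd h2
  obtain ⟨u, hu⟩ := ker_αAlg k n _ hs
  obtain ⟨u', hu'⟩ : ∃ u' : B k (n + 1), b = e₀ k n * u' :=
    ⟨(TrivSqZeroExt.inl u : DualNumber (Tr k (n + 1))), dn_eq_inr_mul_inl k n b hf u hu⟩
  rw [hu']
  exact Ideal.mul_mem_right _ _ (Ideal.subset_span rfl)

theorem isFibreProd : Art.IsFibreProd (pr₁ k n) (pr₂ k n) (α k n) (β k n) where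
  w := by
    apply Art.hom_ext
    apply AlgHom.ext
    intro c
    obtain ⟨b, rfl⟩ := ψ_surjective k n c
    show α k n (pr₁ k n (ψ k n b)) = β k n (pr₂ k n (ψ k n b))
    rw [pr₁_ψ, pr₂_ψ]
    rfl
  inj := by
    intro c₁ c₂ h1 h2
    obtain ⟨b₁, rfl⟩ := ψ_surjective k n c₁
    obtain ⟨b₂, rfl⟩ := ψ_surjective k n c₂
    rw [pr₁_ψ, pr₁_ψ] at h1
    rw [pr₂_ψ, pr₂_ψ] at h2
    have hmem : b₁ - b₂ ∈ K k n := by
      apply mem_K_of
      · have : β k (n + 1) (b₁ - b₂) = β k (n + 1) b₁ - β k (n + 1) b₂ :=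
          map_sub (β k (n + 1)).toAlgHom b₁ b₂
        rw [this, h1, sub_self]
      · have : ξ k n (b₁ - b₂) = ξ k n b₁ - ξ k n b₂ := map_sub (ξ k n).toAlgHom b₁ b₂
        rw [this, h2, sub_self]
    have h0 : ψ k n (b₁ - b₂) = 0 := (ψ_eq_zero_iff k n _).2 hmem
    have h3 : ψ k n (b₁ - b₂) = ψ k n b₁ - ψ k n b₂ := map_sub (ψ k n).toAlgHom b₁ b₂
    rw [h3, sub_eq_zero] at h0
    exact h0
  surj := by
    intro a b hab
    obtain ⟨b', hb'⟩ := αAlg_surjective k n (TrivSqZeroExt.snd (b : DualNumber (Tr k n)))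
    refine ⟨ψ k n ((a, b') : DualNumber (Tr k (n + 1))), ?_, ?_⟩
    · rw [pr₁_ψ]
      rfl
    · rw [pr₂_ψ]
      show ((αAlg k n a, αAlg k n b') : DualNumber (Tr k n)) = b
      apply TrivSqZeroExt.ext
      · exact hab
      · exact hb'

theorem α_semismall : Art.IsSemismallExt (α k n) := by
  refine ⟨αAlg_surjective k n, ?_⟩
  rw [eq_bot_iff, Ideal.mul_le]
  intro m hm x hx
  rw [Art.mem_maximalIdeal_iff] at hm
  obtain ⟨b, rfl⟩ := eq_t_mul_of_res k (n + 1) m hm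
  obtain ⟨u, rfl⟩ := ker_αAlg k n x hx
  rw [Ideal.mem_bot]
  have h0 : t k (n + 1) ^ (n + 1 + 1) = 0 := t_pow k (n + 1)
  calc t k (n + 1) * b * (t k (n + 1) ^ (n + 1) * u)
      = t k (n + 1) ^ (n + 1 + 1) * (b * u) := by ring
    _ = 0 := by rw [h0, zero_mul]

theorem ker_ψ : RingHom.ker (ψ k n).toAlgHom = K k n := by
  ext b
  rw [RingHom.mem_ker]
  exact ψ_eq_zero_iff k n b

theorem ψ_semismall : Art.IsSemismallExt (ψ k n) := by
  refine ⟨ψ_surjective k n, ?_⟩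
  rw [eq_bot_iff, Ideal.mul_le, ker_ψ]
  intro m hm x hx
  rw [Art.mem_maximalIdeal_iff] at hm
  obtain ⟨c, rfl⟩ := Ideal.mem_span_singleton'.1 hx
  have hm' : resA k (n + 1) (TrivSqZeroExt.fst (m : DualNumber (Tr k (n + 1)))) = 0 := hm
  obtain ⟨b, hb⟩ := eq_t_mul_of_res k (n + 1) _ hm'
  rw [Ideal.mem_bot]
  have h1 : m * e₀ k n = 0 := dn_mul_inr_eq_zero k n m b hb
  calc m * (c * e₀ k n) = c * (m * e₀ k n) := by ring
    _ = 0 := by rw [h1, mul_zero]

/-- the linear map `ker α_(n+1) → ker ψ` induced by `ε_(n+1)`. -/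
noncomputable def ℓ : ↥(RingHom.ker (α k (n + 1)).toAlgHom) →ₗ[k] ↥(RingHom.ker (ψ k n).toAlgHom) where
  toFun j := ⟨ε k (n + 1) (j : A k (n + 1 + 1)), by
    rw [RingHom.mem_ker]
    have h := congrArg (fun φ : A k (n + 1 + 1) ⟶ Cq k n => φ (j : A k (n + 1 + 1))) (α_g k n)
    have hj : α k (n + 1) (j : A k (n + 1 + 1)) = 0 := j.2
    have h' : g k n (α k (n + 1) (j : A k (n + 1 + 1))) =
        ψ k n (ε k (n + 1) (j : A k (n + 1 + 1))) := h
    rw [hj] at h'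
    rw [← h']
    exact map_zero (g k n).toAlgHom⟩
  map_add' x y := Subtype.ext (map_add (ε k (n + 1)).toAlgHom _ _)
  map_smul' c x := Subtype.ext (map_smul (ε k (n + 1)).toAlgHom c _)

theorem ℓ_coe (j : ↥(RingHom.ker (α k (n + 1)).toAlgHom)) :
    ((ℓ k n j : ↥(RingHom.ker (ψ k n).toAlgHom)) : B k (n + 1)) =
      ε k (n + 1) (j : A k (n + 1 + 1)) := rfl

theorem ℓ_injective [CharZero k] : Function.Injective (ℓ k n) := by
  rw [injective_iff_map_eq_zero]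
  intro j hj
  have h0 : ε k (n + 1) (j : A k (n + 1 + 1)) = 0 := congrArg Subtype.val hj
  have hjk : αAlg k (n + 1) j.1 = 0 := j.2
  obtain ⟨c, hc⟩ := ker_αAlg' k (n + 1) _ hjk
  apply Subtype.ext
  show j.1 = 0
  have h1 : εAlg k (n + 1) j.1 = 0 := h0
  rw [hc, map_mul, map_pow, εAlg_t, AlgHom.commutes] at h1
  have h2 : (TrivSqZeroExt.inl (t k (n + 1)) + DualNumber.eps : DualNumber (Tr k (n + 1))) ^
      (n + 1 + 1) = (n + 1 + 1) • e₀ k n := x₀_pow k n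
  rw [h2] at h1
  have h3 := congrArg TrivSqZeroExt.snd h1
  rw [TrivSqZeroExt.snd_mul, TrivSqZeroExt.snd_zero] at h3
  have h4 : TrivSqZeroExt.fst (algebraMap k (DualNumber (Tr k (n + 1))) c) =
      algebraMap k (Tr k (n + 1)) c := rfl
  have h5 : TrivSqZeroExt.snd (algebraMap k (DualNumber (Tr k (n + 1))) c) = 0 := rfl
  have h6 : TrivSqZeroExt.snd ((n + 1 + 1) • e₀ k n : DualNumber (Tr k (n + 1))) =
      (n + 1 + 1) • t k (n + 1) ^ (n + 1) := rfl
  rw [h4, h5, h6, smul_zero, add_zero] at h3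
  have h7 : algebraMap k (Tr k (n + 1)) (c * ((n + 1 + 1 : ℕ) : k)) * t k (n + 1) ^ (n + 1) = 0 := by
    rw [map_mul, map_natCast]
    rw [smul_eq_mul, nsmul_eq_mul] at h3
    rw [← h3]
    push_cast
    ring
  have h8 := algebraMap_mul_t_pow_eq_zero k (n + 1) _ h7
  have h9 : c = 0 := by
    rcases mul_eq_zero.1 h8 with h | h
    · exact h
    · exact absurd h (Nat.cast_ne_zero.2 (by omega))
  rw [hc, h9, map_zero, zero_mul]
  rfl

end Groth.Agent.Lib.T1LiftH3
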