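import Mathlib
import Groth.Prelude.Def_ArtFun3
import Groth.Prelude.Def_W4c5t1liftcy3defoArt
import Groth.Agent.Lib.T1LiftC_helper3

/-!
# The `T¹`-lifting criterion: main theorem (helper3)
-/

set_option autoImplicit false
set_option linter.unusedSectionVars false

universe u v

open Polynomial CategoryTheory TensorProduct

namespace Groth.Agent.Lib.T1LiftH3

open T1Lift ArtFun ArtFun.Art

variable (k : Type u) [Field k] (n : ℕ)

theorem ε_β : ε k (n + 1) ≫ β k (n + 1) = α k (n + 1) := by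
  apply Art.hom_ext
  apply AdjoinRoot.algHom_ext
  show β k (n + 1) (εAlg k (n + 1) (t k (n + 1 + 1))) = αAlg k (n + 1) (t k (n + 1 + 1))
  rw [εAlg_t, αAlg_t]
  exact β_x₀ k n

theorem ε_ξ : ε k (n + 1) ≫ ξ k n = α k (n + 1) ≫ ε k n := by
  apply Art.hom_ext
  apply AdjoinRoot.algHom_ext
  show ξ k n (εAlg k (n + 1) (t k (n + 1 + 1))) = εAlg k n (αAlg k (n + 1) (t k (n + 1 + 1)))
  rw [εAlg_t, αAlg_t, εAlg_t]
  exact ξ_x₀ k n

theorem main18187 [CharZero k]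
    (F : ArtFun.Art k k ⥤ Type v)
    (hRS : ∀ ⦃P A A' A'' : ArtFun.Art k k⦄ (p' : P ⟶ A') (p'' : P ⟶ A'') (f' : A' ⟶ A) (f'' : A'' ⟶ A)
      (h : ArtFun.Art.IsFibreProd p' p'' f' f''), Function.Surjective f'' → Function.Bijective (ArtFun.cmp F h))
    (V : Type u) [AddCommGroup V] [Module k V] (O : ArtFun.ObsTheory F V)
    (hnat : ∀ ⦃A' A C' C : ArtFun.Art k k⦄ (φ : A' ⟶ A) (hφ : ArtFun.Art.IsSemismallExt φ)
      (ψ : C' ⟶ C) (hψ : ArtFun.Art.IsSemismallExt ψ) (g' : A' ⟶ C') (g : A ⟶ C), φ ≫ g = g' ≫ ψ →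
      ∀ (ℓ : ↥(RingHom.ker φ.toAlgHom) →ₗ[k] ↥(RingHom.ker ψ.toAlgHom)),
        (∀ j : ↥(RingHom.ker φ.toAlgHom), ((ℓ j : ↥(RingHom.ker ψ.toAlgHom)) : C') = g' (j : A')) →
        ∀ u : F.obj A, O.obs ψ hψ (F.map g u) = LinearMap.lTensor V ℓ (O.obs φ hφ u))
    (X : F.obj (T1Lift.A k (n + 1))) :
    (∃ X' : F.obj (T1Lift.A k (n + 1 + 1)), F.map (T1Lift.α k (n + 1)) X' = X) ↔
      ∃ Y : F.obj (T1Lift.B k (n + 1)), F.map (T1Lift.β k (n + 1)) Y = X ∧
        F.map (T1Lift.ξ k n) Y = F.map (T1Lift.ε k n) X := by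
  constructor
  · rintro ⟨X', rfl⟩
    refine ⟨F.map (ε k (n + 1)) X', ?_, ?_⟩
    · rw [← FunctorToTypes.map_comp_apply, ε_β]
    · rw [← FunctorToTypes.map_comp_apply, ← FunctorToTypes.map_comp_apply, ε_ξ]
  · rintro ⟨Y, hY1, hY2⟩
    have hfib := isFibreProd k n
    have hinj := (hRS (pr₁ k n) (pr₂ k n) (α k n) (β k n) hfib (β_surjective k n)).1
    have hYX : F.map (ψ k n) Y = F.map (g k n) X := by
      apply hinj
      apply FibProd.ext
      · show F.map (pr₁ k n) (F.map (ψ k n) Y) = F.map (pr₁ k n) (F.map (g k n) X)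
        rw [← FunctorToTypes.map_comp_apply, ← FunctorToTypes.map_comp_apply, ψ_pr₁, g_pr₁, hY1,
          FunctorToTypes.map_id_apply]
      · show F.map (pr₂ k n) (F.map (ψ k n) Y) = F.map (pr₂ k n) (F.map (g k n) X)
        rw [← FunctorToTypes.map_comp_apply, ← FunctorToTypes.map_comp_apply, ψ_pr₂, g_pr₂, hY2]
    have hα := α_semismall k (n + 1)
    have hψ := ψ_semismall k n
    have h1 := hnat (α k (n + 1)) hα (ψ k n) hψ (ε k (n + 1)) (g k n) (α_g k n) (ℓ k n)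
      (fun j => ℓ_coe k n j) X
    have h2 : O.obs (ψ k n) hψ (F.map (g k n) X) = 0 :=
      (O.obs_eq_zero_iff _ hψ _).2 ⟨Y, hYX⟩
    rw [h2] at h1
    have hinjℓ : Function.Injective (LinearMap.lTensor V (ℓ k n)) :=
      Module.Flat.lTensor_preserves_injective_linearMap _ (ℓ_injective k n)
    have h3 : O.obs (α k (n + 1)) hα X = 0 := hinjℓ (h1.symm.trans (map_zero _).symm)
    exact (O.obs_eq_zero_iff _ hα X).1 h3

end Groth.Agent.Lib.T1LiftH3
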