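import Mathlib
import Groth.Prelude.Def_ArtFun5
import Groth.Agent.Lib.PSEval_helper1
import Groth.Agent.Lib.ObsPS_helper1
import Groth.Agent.Lib.ObsProrep_helper1
import Groth.Agent.S11740

/-!
# The `T¹`-lifting criterion for smoothness of a complete local `k`-algebra, `char k = 0` (helper1)

`R` complete local Noetherian with residue field `k`: `R ≅ k[[x_1..x_n]]` iff derivations of `R`
into `A`-modules lift along surjections (stated with trivial square-zero extensions).
-/

set_option autoImplicit false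
universe u

open CategoryTheory

namespace Groth.Agent.Lib.T1LiftH1

open ArtFun ArtFun.Art MvPowerSeries Groth.Agent.Lib.PSEvalH1 Groth.Agent.Lib.ObsH1
  Groth.Agent.Lib.ArtFunH1

variable {k : Type u} [Field k]

section DerOf

variable {d : ℕ} {A : Type*} [CommRing A] [Algebra k A] {Xm : Type*} [AddCommGroup Xm] [Module A Xm]
  [Module Aᵐᵒᵖ Xm] [IsCentralScalar A Xm] [Module k Xm] [IsScalarTower k A Xm]
  [IsScalarTower k Aᵐᵒᵖ Xm]

/-- The algebra map `h ↦ (ρ h, ∑ ρ(∂ᵢ h) • vᵢ)` into the trivial square-zero extension. -/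
noncomputable def derOf (ρ : MvPowerSeries (Fin d) k →ₐ[k] A) (v : Fin d → Xm) :
    MvPowerSeries (Fin d) k →ₐ[k] TrivSqZeroExt A Xm :=
  AlgHom.ofLinearMap
    { toFun := fun h => TrivSqZeroExt.inl (ρ h) +
        TrivSqZeroExt.inr (∑ i, ρ (pderiv k i h) • v i)
      map_add' := fun h h' => by
        apply TrivSqZeroExt.ext
        · simp
        · simp [add_smul, Finset.sum_add_distrib]
      map_smul' := fun c h => by
        apply TrivSqZeroExt.ext
        · simp
        · simp [Finset.smul_sum] }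
    (by
      apply TrivSqZeroExt.ext
      · simp
      · simp)
    (fun a b => by
      apply TrivSqZeroExt.ext
      · simp
      · simp only [LinearMap.coe_mk, AddHom.coe_mk, TrivSqZeroExt.snd_add, TrivSqZeroExt.snd_inl,
          TrivSqZeroExt.snd_inr, zero_add, TrivSqZeroExt.snd_mul, TrivSqZeroExt.fst_add,
          TrivSqZeroExt.fst_inl, TrivSqZeroExt.fst_inr, add_zero, Derivation.leibniz,
          smul_eq_mul, map_add, map_mul, op_smul_eq_smul, Finset.smul_sum, add_smul, mul_smul,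
          Finset.sum_add_distrib])

theorem fst_derOf (ρ : MvPowerSeries (Fin d) k →ₐ[k] A) (v : Fin d → Xm)
    (h : MvPowerSeries (Fin d) k) : (derOf ρ v h).fst = ρ h := by
  show (TrivSqZeroExt.inl (ρ h) + TrivSqZeroExt.inr (∑ i, ρ (pderiv k i h) • v i)).fst = ρ h
  simp

theorem snd_derOf (ρ : MvPowerSeries (Fin d) k →ₐ[k] A) (v : Fin d → Xm)
    (h : MvPowerSeries (Fin d) k) : (derOf ρ v h).snd = ∑ i, ρ (pderiv k i h) • v i := by
  show (TrivSqZeroExt.inl (ρ h) + TrivSqZeroExt.inr (∑ i, ρ (pderiv k i h) • v i)).snd = _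
  simp

theorem snd_derOf_X (ρ : MvPowerSeries (Fin d) k →ₐ[k] A) (v : Fin d → Xm) (j : Fin d) :
    (derOf ρ v (X j)).snd = v j := by
  classical
  rw [snd_derOf, Finset.sum_eq_single j]
  · rw [pderiv_X_self, map_one, one_smul]
  · intro i _ hij
    rw [pderiv_X_of_ne (Ne.symm hij), map_zero, zero_smul]
  · intro h
    exact absurd (Finset.mem_univ j) h

/-- `TrivSqZeroExt.map` as a `k`-algebra map. -/
noncomputable def mapK {Y : Type*} [AddCommGroup Y] [Module A Y]
    [Module Aᵐᵒᵖ Y] [IsCentralScalar A Y] [Module k Y] [IsScalarTower k A Y]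
    [IsScalarTower k Aᵐᵒᵖ Y] (f : Xm →ₗ[A] Y) : TrivSqZeroExt A Xm →ₐ[k] TrivSqZeroExt A Y :=
  { (TrivSqZeroExt.map f).toRingHom with
    commutes' := fun c => by
      show TrivSqZeroExt.map f (algebraMap k (TrivSqZeroExt A Xm) c) = algebraMap k _ c
      rw [TrivSqZeroExt.algebraMap_eq_inl', TrivSqZeroExt.map_inl]
      rfl }

theorem fst_mapK {Y : Type*} [AddCommGroup Y] [Module A Y]
    [Module Aᵐᵒᵖ Y] [IsCentralScalar A Y] [Module k Y] [IsScalarTower k A Y]
    [IsScalarTower k Aᵐᵒᵖ Y] (f : Xm →ₗ[A] Y) (x : TrivSqZeroExt A Xm) :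
    (mapK (k := k) f x).fst = x.fst := TrivSqZeroExt.fst_map f x

theorem snd_mapK {Y : Type*} [AddCommGroup Y] [Module A Y]
    [Module Aᵐᵒᵖ Y] [IsCentralScalar A Y] [Module k Y] [IsScalarTower k A Y]
    [IsScalarTower k Aᵐᵒᵖ Y] (f : Xm →ₗ[A] Y) (x : TrivSqZeroExt A Xm) :
    (mapK (k := k) f x).snd = f x.snd := TrivSqZeroExt.snd_map f x

theorem isNilpotent_of_fst {x : TrivSqZeroExt A Xm} (hx : IsNilpotent x.fst) : IsNilpotent x := by
  have h1 : x = TrivSqZeroExt.inl x.fst + TrivSqZeroExt.inr x.snd :=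
    (TrivSqZeroExt.inl_fst_add_inr_snd_eq x).symm
  rw [h1]
  refine Commute.isNilpotent_add (Commute.all _ _) (hx.map (TrivSqZeroExt.inlHom A Xm)) ⟨2, ?_⟩
  rw [pow_two, TrivSqZeroExt.inr_mul_inr]

end DerOf

section Local

/-- a `k`-algebra map from a local `k`-algebra to an Artinian local `k`-algebra with residue
field `k` sends the maximal ideal to nilpotents in the maximal ideal -/
theorem map_mem_maximalIdeal {P : Type*} [CommRing P] [IsLocalRing P] [Algebra k P] (C : Art k k)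
    (ρ : P →ₐ[k] C) {x : P} (hx : x ∈ IsLocalRing.maximalIdeal P) :
    ρ x ∈ IsLocalRing.maximalIdeal C := by
  rw [Art.mem_maximalIdeal_iff]
  exact algHom_eq_zero_of_mem_maximalIdeal (C.res.comp ρ) hx

theorem pderiv_mem_of_mem_sq {d : ℕ} (i : Fin d) {g : MvPowerSeries (Fin d) k}
    (hg : g ∈ IsLocalRing.maximalIdeal (MvPowerSeries (Fin d) k) ^ 2) :
    pderiv k i g ∈ IsLocalRing.maximalIdeal (MvPowerSeries (Fin d) k) := by
  rw [pow_two] at hg
  refine Submodule.mul_induction_on hg (fun a ha b hb => ?_) (fun x y hx hy => ?_)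
  · rw [Derivation.leibniz]
    exact Ideal.add_mem _ (Ideal.mul_mem_right _ _ ha) (Ideal.mul_mem_right _ _ hb)
  · rw [map_add]
    exact Ideal.add_mem _ hx hy

end Local

section Stable

variable [CharZero k] {d : ℕ}

/-- in characteristic zero, an ideal of `k[[x]]` inside the maximal ideal and stable under all
partial derivatives is zero -/
theorem eq_bot_of_pderiv_stable (J : Ideal (MvPowerSeries (Fin d) k))
    (hJm : J ≤ IsLocalRing.maximalIdeal (MvPowerSeries (Fin d) k))
    (hJ : ∀ g ∈ J, ∀ i, pderiv k i g ∈ J) : J = ⊥ := by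
  have key : ∀ (N : ℕ) (g : MvPowerSeries (Fin d) k), g ∈ J → ∀ n : Fin d →₀ ℕ,
      n.degree = N → coeff n g = 0 := by
    intro N
    induction N with
    | zero =>
      intro g hg n hn
      have hn0 : n = 0 := (Finsupp.degree_eq_zero_iff n).1 hn
      rw [hn0, coeff_zero_eq_constantCoeff_apply]
      exact (mem_maximalIdeal_iff_constantCoeff g).1 (hJm hg)
    | succ N ih =>
      intro g hg n hn
      have hex : ∃ i, n i ≠ 0 := by
        by_contra hcon
        push Not at hcon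
        have hn0 : n = 0 := Finsupp.ext (fun a => by simpa using hcon a)
        rw [hn0, map_zero] at hn
        exact absurd hn (Nat.succ_ne_zero N).symm
      obtain ⟨i, hi⟩ := hex
      have hcancel := Finsupp.sub_add_single_one_cancel hi
      have hdeg : (n - Finsupp.single i 1).degree = N := by
        have h1 : (n - Finsupp.single i 1 + Finsupp.single i 1).degree = N + 1 := by
          rw [hcancel]; exact hn
        rw [map_add, Finsupp.degree_single] at h1
        exact Nat.add_right_cancel h1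
      have h2 := ih (pderiv k i g) (hJ g hg i) (n - Finsupp.single i 1) hdeg
      rw [coeff_pderiv, hcancel] at h2
      rcases mul_eq_zero.1 h2 with h3 | h3
      · exact h3
      · exact absurd h3 (Nat.cast_add_one_ne_zero _)
  rw [eq_bot_iff]
  intro g hg
  rw [Ideal.mem_bot]
  ext n
  rw [map_zero]
  exact key _ g hg n rfl

end Stable

section Key

/-- the lifting property of the statement -/
def T1Lifting (k : Type u) [Field k] (Rr : Type u) [CommRing Rr] [Algebra k Rr] : Prop :=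
  ∀ (A : ArtFun.Art k k) (M M' : Type u) [AddCommGroup M] [Module (↥A) M] [Module (↥A)ᵐᵒᵖ M]
    [IsCentralScalar (↥A) M] [Module k M] [IsScalarTower k (↥A) M] [IsScalarTower k (↥A)ᵐᵒᵖ M]
    [AddCommGroup M'] [Module (↥A) M'] [Module (↥A)ᵐᵒᵖ M'] [IsCentralScalar (↥A) M'] [Module k M']
    [IsScalarTower k (↥A) M'] [IsScalarTower k (↥A)ᵐᵒᵖ M'] (f : M' →ₗ[↥A] M),
    Function.Surjective f →
      ∀ φ : Rr →ₐ[k] TrivSqZeroExt (↥A) M,
        ∃ ψ : Rr →ₐ[k] TrivSqZeroExt (↥A) M',
          ∀ r : Rr, (ψ r).fst = (φ r).fst ∧ f (ψ r).snd = (φ r).snd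

variable {d : ℕ}

/-- power series rings have the lifting property -/
theorem lifting_of_equiv {Rr : Type u} [CommRing Rr] [Algebra k Rr] {n : ℕ}
    (e : Rr ≃ₐ[k] MvPowerSeries (Fin n) k) : T1Lifting k Rr := by
  intro A M M' _ _ _ _ _ _ _ _ _ _ _ _ _ _ f hf φ
  classical
  obtain ⟨φP, hφP⟩ : ∃ φP : MvPowerSeries (Fin n) k →ₐ[k] TrivSqZeroExt A M,
      ∀ h, φP h = φ (e.symm h) := ⟨φ.comp e.symm.toAlgHom, fun _ => rfl⟩
  have hnil : ∀ i, IsNilpotent (φP (X i)).fst := by
    intro i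
    have h1 := map_mem_maximalIdeal A ((TrivSqZeroExt.fstHom k A M).comp φP) (X_mem_max i)
    exact nilpotent_of_res A _ ((Art.mem_maximalIdeal_iff A _).1 h1)
  choose m' hm' using fun i => hf (φP (X i)).snd
  have ht : ∀ i, IsNilpotent
      (TrivSqZeroExt.inl (φP (X i)).fst + TrivSqZeroExt.inr (m' i) : TrivSqZeroExt A M') := by
    intro i
    apply isNilpotent_of_fst
    simpa using hnil i
  obtain ⟨ψP, hψP⟩ : ∃ ψP : MvPowerSeries (Fin n) k →ₐ[k] TrivSqZeroExt A M',
      ∀ i, ψP (X i) = TrivSqZeroExt.inl (φP (X i)).fst + TrivSqZeroExt.inr (m' i) :=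
    ⟨evalNil _ ht, evalNil_X _ ht⟩
  have hcomp : (mapK (k := k) f).comp ψP = φP := by
    apply algHom_ext_of_nilpotent
    · intro s
      show mapK (k := k) f (ψP (X s)) = φP (X s)
      rw [hψP]
      apply TrivSqZeroExt.ext
      · rw [fst_mapK]; simp
      · rw [snd_mapK]; simp [hm']
    · intro s
      show IsNilpotent (mapK (k := k) f (ψP (X s)))
      rw [hψP]
      exact (ht s).map (mapK (k := k) f)
  refine ⟨ψP.comp e.toAlgHom, fun r => ?_⟩
  have h1 : mapK (k := k) f (ψP (e r)) = φ r := by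
    have h2 := AlgHom.congr_fun hcomp (e r)
    rw [hφP, AlgEquiv.symm_apply_apply] at h2
    exact h2
  constructor
  · show (ψP (e r)).fst = _
    rw [← h1, fst_mapK]
  · show f (ψP (e r)).snd = _
    rw [← h1, snd_mapK]

/-- the key step: under the lifting property the kernel of a minimal presentation is stable under
partial derivatives, seen in any Artinian quotient -/
theorem map_pderiv_eq_zero {Rr : Type u} [CommRing Rr] [Algebra k Rr] (H : T1Lifting k Rr)
    (ψ : MvPowerSeries (Fin d) k →ₐ[k] Rr) (hψ : Function.Surjective ψ)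
    (hJ : RingHom.ker ψ.toRingHom ≤ IsLocalRing.maximalIdeal (MvPowerSeries (Fin d) k) ^ 2)
    (A : Art k k) (π : Rr →ₐ[k] A) {g : MvPowerSeries (Fin d) k} (hg : ψ g = 0) (j : Fin d) :
    π (ψ (pderiv k j g)) = 0 := by
  classical
  obtain ⟨ρ, hρ⟩ : ∃ ρ : MvPowerSeries (Fin d) k →ₐ[k] A, ∀ h, ρ h = π (ψ h) :=
    ⟨π.comp ψ, fun _ => rfl⟩
  obtain ⟨e, he⟩ : ∃ e : Fin d → (Fin d → A), ∀ i j, e i j = if j = i then 1 else 0 :=
    ⟨fun i => Pi.single i 1, fun i j => Pi.single_apply i 1 j⟩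
  have hsndD : ∀ h, (derOf ρ e h).snd = fun j => ρ (pderiv k j h) := by
    intro h
    rw [snd_derOf]
    funext j
    rw [Finset.sum_apply, Finset.sum_eq_single j]
    · rw [Pi.smul_apply, he, if_pos rfl, smul_eq_mul, mul_one]
    · intro i _ hij
      rw [Pi.smul_apply, he, if_neg (Ne.symm hij), smul_zero]
    · intro h
      exact absurd (Finset.mem_univ j) h
  let N : Submodule A (Fin d → A) := Submodule.span A
    {x | ∃ g' : MvPowerSeries (Fin d) k, ψ g' = 0 ∧ x = (derOf ρ e g').snd}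
  have hNm : ∀ x ∈ N, ∀ j, x j ∈ IsLocalRing.maximalIdeal A := by
    intro x hx
    refine Submodule.span_induction
      (p := fun x _ => ∀ j, x j ∈ IsLocalRing.maximalIdeal A) ?_ ?_ ?_ ?_ hx
    · rintro x ⟨g', hg', rfl⟩ j
      rw [hsndD]
      exact map_mem_maximalIdeal A ρ
        (pderiv_mem_of_mem_sq j (hJ ((RingHom.mem_ker (f := ψ.toRingHom)).2 hg')))
    · intro j
      exact Ideal.zero_mem _
    · intro x y _ _ hx hy j
      exact Ideal.add_mem _ (hx j) (hy j)
    · intro a x _ hx j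
      rw [Pi.smul_apply, smul_eq_mul]
      exact Ideal.mul_mem_left _ a (hx j)
  obtain ⟨χ, hχ⟩ : ∃ χ : MvPowerSeries (Fin d) k →ₐ[k] TrivSqZeroExt A ((Fin d → A) ⧸ N),
      ∀ h, χ h = mapK (k := k) N.mkQ (derOf ρ e h) :=
    ⟨(mapK (k := k) N.mkQ).comp (derOf ρ e), fun _ => rfl⟩
  have hχker : RingHom.ker ψ.toRingHom ≤ RingHom.ker χ.toRingHom := by
    intro g' hg'
    have h0 : ψ g' = 0 := RingHom.mem_ker.1 hg'
    rw [RingHom.mem_ker]
    show χ g' = 0
    rw [hχ]
    apply TrivSqZeroExt.ext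
    · rw [fst_mapK, fst_derOf, hρ, h0, map_zero, TrivSqZeroExt.fst_zero]
    · rw [snd_mapK, TrivSqZeroExt.snd_zero, Submodule.mkQ_apply, Submodule.Quotient.mk_eq_zero]
      exact Submodule.subset_span ⟨g', h0, rfl⟩
  obtain ⟨φ, hφ⟩ : ∃ φ : Rr →ₐ[k] TrivSqZeroExt A ((Fin d → A) ⧸ N), ∀ h, φ (ψ h) = χ h :=
    ⟨AlgHom.liftOfSurjective ψ hψ χ hχker, AlgHom.liftOfSurjective_apply ψ hψ χ hχker⟩
  obtain ⟨ψ', hψ'⟩ := H A ((Fin d → A) ⧸ N) (Fin d → A) N.mkQ (Submodule.mkQ_surjective N) φ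
  obtain ⟨δ, hδ⟩ : ∃ δ : MvPowerSeries (Fin d) k →ₐ[k] TrivSqZeroExt A (Fin d → A),
      ∀ h, δ h = ψ' (ψ h) := ⟨ψ'.comp ψ, fun _ => rfl⟩
  obtain ⟨v, hv⟩ : ∃ v : Fin d → (Fin d → A), ∀ i, v i = (δ (X i)).snd := ⟨_, fun _ => rfl⟩
  have hfst : ∀ h, (δ h).fst = ρ h := by
    intro h
    rw [hδ, (hψ' (ψ h)).1, hφ, hχ, fst_mapK, fst_derOf]
  have hδeq : δ = derOf ρ v := by
    apply algHom_ext_of_nilpotent
    · intro s
      apply TrivSqZeroExt.ext
      · rw [hfst, fst_derOf]
      · rw [snd_derOf_X, hv]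
    · intro s
      apply isNilpotent_of_fst
      rw [hfst]
      exact nilpotent_of_res A _
        ((Art.mem_maximalIdeal_iff A _).1 (map_mem_maximalIdeal A ρ (X_mem_max s)))
  have hvN : ∀ i, v i - e i ∈ N := by
    intro i
    have h1 : N.mkQ (v i) = N.mkQ (e i) := by
      rw [hv, hδ, (hψ' (ψ (X i))).2, hφ, hχ, snd_mapK, snd_derOf_X]
    have h2 : N.mkQ (v i - e i) = 0 := by rw [map_sub, h1, sub_self]
    rw [Submodule.mkQ_apply] at h2
    exact (Submodule.Quotient.mk_eq_zero N).1 h2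
  have hsum : ∑ i, ρ (pderiv k i g) • v i = 0 := by
    have h1 : derOf ρ v g = 0 := by
      rw [← hδeq, hδ, hg, map_zero]
    have h2 := congrArg TrivSqZeroExt.snd h1
    rwa [snd_derOf, TrivSqZeroExt.snd_zero] at h2
  have hcj : ∀ j, ρ (pderiv k j g) = ∑ i, (-((v i - e i) j)) * ρ (pderiv k i g) := by
    intro j
    have h1 := congrFun hsum j
    rw [Finset.sum_apply] at h1
    simp only [Pi.smul_apply, smul_eq_mul, Pi.zero_apply] at h1
    have h2 : ∑ i, ρ (pderiv k i g) * e i j = ρ (pderiv k j g) := by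
      rw [Finset.sum_eq_single j]
      · rw [he, if_pos rfl, mul_one]
      · intro i _ hij
        rw [he, if_neg (Ne.symm hij), mul_zero]
      · intro h
        exact absurd (Finset.mem_univ j) h
    calc ρ (pderiv k j g)
        = ∑ i, ρ (pderiv k i g) * e i j - ∑ i, ρ (pderiv k i g) * v i j := by
          rw [h2, h1, sub_zero]
      _ = ∑ i, (-((v i - e i) j)) * ρ (pderiv k i g) := by
          rw [← Finset.sum_sub_distrib]
          refine Finset.sum_congr rfl (fun i _ => ?_)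
          rw [Pi.sub_apply]
          ring
  have hle : Ideal.span (Set.range fun i => ρ (pderiv k i g)) ≤
      IsLocalRing.maximalIdeal A • Ideal.span (Set.range fun i => ρ (pderiv k i g)) := by
    rw [Ideal.span_le]
    rintro _ ⟨j, rfl⟩
    rw [SetLike.mem_coe]
    show ρ (pderiv k j g) ∈ _
    rw [hcj j]
    refine Ideal.sum_mem _ (fun i _ => ?_)
    exact Submodule.smul_mem_smul (neg_mem (hNm _ (hvN i) j)) (Ideal.subset_span ⟨i, rfl⟩)
  have hbot : Ideal.span (Set.range fun i => ρ (pderiv k i g)) = ⊥ :=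
    Submodule.eq_bot_of_le_smul_of_le_jacobson_bot (IsLocalRing.maximalIdeal A) _
      (Submodule.fg_span (Set.finite_range _)) hle
      (by rw [IsLocalRing.jacobson_eq_maximalIdeal ⊥ bot_ne_top])
  have hmem : ρ (pderiv k j g) ∈ Ideal.span (Set.range fun i => ρ (pderiv k i g)) :=
    Ideal.subset_span ⟨j, rfl⟩
  rw [hbot, Ideal.mem_bot, hρ] at hmem
  exact hmem

theorem ker_pderiv_stable (R : CRing k k) (H : T1Lifting k R.carrier)
    (ψ : MvPowerSeries (Fin d) k →ₐ[k] R.carrier) (hψ : Function.Surjective ψ)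
    (hJ : RingHom.ker ψ.toRingHom ≤ IsLocalRing.maximalIdeal (MvPowerSeries (Fin d) k) ^ 2)
    {g : MvPowerSeries (Fin d) k} (hg : ψ g = 0) (j : Fin d) : ψ (pderiv k j g) = 0 := by
  haveI := R.isAdicComplete
  have hH : IsHausdorff (IsLocalRing.maximalIdeal R.carrier) R.carrier := inferInstance
  apply hH.haus
  intro n
  rw [SModEq.zero, smul_eq_mul, Ideal.mul_top]
  have h1 := map_pderiv_eq_zero H ψ hψ hJ (R.trunc n) (R.truncHom n).1 hg j
  have h2 : ψ (pderiv k j g) ∈ IsLocalRing.maximalIdeal R.carrier ^ (n + 1) :=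
    Ideal.Quotient.eq_zero_iff_mem.1 h1
  exact Ideal.pow_le_pow_right (Nat.le_succ n) h2

theorem nonempty_equiv_of_lifting [CharZero k] (R : CRing k k) (H : T1Lifting k R.carrier) :
    Nonempty (R.carrier ≃ₐ[k] MvPowerSeries (Fin (Module.finrank
      (IsLocalRing.ResidueField R.carrier) (IsLocalRing.CotangentSpace R.carrier))) k) := by
  classical
  obtain ⟨d, b, hb, hli, hsp⟩ := exists_cotangent_basis R.carrier
  have hd : Module.finrank (IsLocalRing.ResidueField R.carrier)
      (IsLocalRing.CotangentSpace R.carrier) = d := by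
    rw [Module.finrank_eq_card_basis (Module.Basis.mk hli (le_of_eq hsp.symm)), Fintype.card_fin]
  rw [hd]
  haveI := R.isAdicComplete
  obtain ⟨ψ, hψ⟩ := exists_algHom_of_complete (k := k) (IsLocalRing.maximalIdeal R.carrier) b hb
  have hψm : ∀ i, ψ (X i) ∈ IsLocalRing.maximalIdeal R.carrier := fun i => by
    rw [hψ]; exact hb i
  have hres : Function.Surjective ((IsLocalRing.residue R.carrier).comp
      (algebraMap k R.carrier)) := by
    intro x
    obtain ⟨r, rfl⟩ := IsLocalRing.residue_surjective x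
    refine ⟨R.res r, ?_⟩
    show IsLocalRing.residue R.carrier (algebraMap k R.carrier (R.res r)) =
      IsLocalRing.residue R.carrier r
    apply Ideal.Quotient.eq.2
    rw [CRing.mem_maximalIdeal_iff, map_sub, AlgHom.commutes]
    exact sub_self _
  have hfun : (fun i : Fin d => (IsLocalRing.maximalIdeal R.carrier).toCotangent
      ⟨ψ (X i), hψm i⟩) =
      fun i => (IsLocalRing.maximalIdeal R.carrier).toCotangent ⟨b i, hb i⟩ :=
    funext fun i => congrArg _ (Subtype.ext (hψ i))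
  obtain ⟨hsurj, hker⟩ := Groth.Agent.S11740.result k R.carrier hres d ψ hψm
    (by rw [hfun]; exact hli) (by rw [hfun]; exact hsp)
  have hJbot : RingHom.ker ψ.toRingHom = ⊥ :=
    eq_bot_of_pderiv_stable _ (hker.trans (Ideal.pow_le_self two_ne_zero))
      (fun g hg i => RingHom.mem_ker.2
        (ker_pderiv_stable R H ψ hsurj hker (RingHom.mem_ker.1 hg) i))
  have hinj : Function.Injective ψ := (RingHom.injective_iff_ker_eq_bot ψ.toRingHom).2 hJbot
  exact ⟨(AlgEquiv.ofBijective ψ ⟨hinj, hsurj⟩).symm⟩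

theorem main [CharZero k] (R : CRing k k) :
    Nonempty (R.carrier ≃ₐ[k] MvPowerSeries (Fin (Module.finrank
      (IsLocalRing.ResidueField R.carrier) (IsLocalRing.CotangentSpace R.carrier))) k) ↔
      T1Lifting k R.carrier :=
  ⟨fun ⟨e⟩ => lifting_of_equiv e, nonempty_equiv_of_lifting R⟩

end Key

end Groth.Agent.Lib.T1LiftH1
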