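import Mathlib
import Groth.Prelude.Def_ArtFun5
import Groth.Agent.Lib.T1Lift_helper1
import Groth.Agent.Lib.ArtFunKT_helper1
import Groth.Agent.S12734

/-!
# The `T¹`-lifting criterion for functors of Artin rings, `char k = 0` (helper1)

A deformation functor with (RS) and finite tangent space is pro-representable; the lifting
hypothesis along maps of split square-zero extensions makes the pro-representing ring a power
series ring.
-/

set_option autoImplicit false
universe u v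

open CategoryTheory

namespace Groth.Agent.Lib.T1LiftFunH1

open ArtFun ArtFun.Art MvPowerSeries Groth.Agent.Lib.PSEvalH1 Groth.Agent.Lib.ObsH1
  Groth.Agent.Lib.ArtFunH1 Groth.Agent.Lib.T1LiftH1

variable {k : Type u} [Field k]

section Key

/-- the lifting property, only for quotients of finite free modules -/
def T1LiftingFin (k : Type u) [Field k] (Rr : Type u) [CommRing Rr] [Algebra k Rr] : Prop :=
  ∀ (A : ArtFun.Art k k) (d : ℕ) (N : Submodule A (Fin d → A))
    (φ : Rr →ₐ[k] TrivSqZeroExt A ((Fin d → A) ⧸ N)),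
    ∃ ψ : Rr →ₐ[k] TrivSqZeroExt A (Fin d → A),
      ∀ r : Rr, (ψ r).fst = (φ r).fst ∧ N.mkQ (ψ r).snd = (φ r).snd

variable {d : ℕ}

/-- the key step: under the lifting property the kernel of a minimal presentation is stable under
partial derivatives, seen in any Artinian quotient -/
theorem map_pderiv_eq_zero' {Rr : Type u} [CommRing Rr] [Algebra k Rr] (H : T1LiftingFin k Rr)
    (ψ : MvPowerSeries (Fin d) k →ₐ[k] Rr) (hψ : Function.Surjective ψ)
    (hJ : RingHom.ker ψ.toRingHom ≤ IsLocalRing.maximalIdeal (MvPowerSeries (Fin d) k) ^ 2)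
    (A : Art k k) (π : Rr →ₐ[k] A) {g : MvPowerSeries (Fin d) k} (hg : ψ g = 0) (j : Fin d) :
    π (ψ (pderiv k j g)) = 0 := by
  classical
  obtain ⟨ρ, hρ⟩ : ∃ ρ : MvPowerSeries (Fin d) k →ₐ[k] A, ∀ h, ρ h = π (ψ h) :=
    ⟨π.comp ψ, fun _ => rfl⟩
  obtain ⟨e, he⟩ : ∃ e : Fin d → (Fin d → A), ∀ i j, e i j = if j = i then 1 else 0 :=
    ⟨fun i => Pi.single i 1, fun i j => Pi.single_apply i 1 j⟩
  have hsndD : ∀ h, (derOf ρ e h).snd = fun j => ρ (pderiv k j h) := by
    intro h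
    rw [snd_derOf]
    funext j
    rw [Finset.sum_apply, Finset.sum_eq_single j]
    · rw [Pi.smul_apply, he, if_pos rfl, smul_eq_mul, mul_one]
    · intro i _ hij
      rw [Pi.smul_apply, he, if_neg (Ne.symm hij), smul_zero]
    · intro h
      exact absurd (Finset.mem_univ j) h
  let N : Submodule A (Fin d → A) := Submodule.span A
    {x | ∃ g' : MvPowerSeries (Fin d) k, ψ g' = 0 ∧ x = (derOf ρ e g').snd}
  have hNm : ∀ x ∈ N, ∀ j, x j ∈ IsLocalRing.maximalIdeal A := by
    intro x hx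
    refine Submodule.span_induction
      (p := fun x _ => ∀ j, x j ∈ IsLocalRing.maximalIdeal A) ?_ ?_ ?_ ?_ hx
    · rintro x ⟨g', hg', rfl⟩ j
      rw [hsndD]
      exact map_mem_maximalIdeal A ρ
        (pderiv_mem_of_mem_sq j (hJ ((RingHom.mem_ker (f := ψ.toRingHom)).2 hg')))
    · intro j
      exact Ideal.zero_mem _
    · intro x y _ _ hx hy j
      exact Ideal.add_mem _ (hx j) (hy j)
    · intro a x _ hx j
      rw [Pi.smul_apply, smul_eq_mul]
      exact Ideal.mul_mem_left _ a (hx j)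
  obtain ⟨χ, hχ⟩ : ∃ χ : MvPowerSeries (Fin d) k →ₐ[k] TrivSqZeroExt A ((Fin d → A) ⧸ N),
      ∀ h, χ h = mapK (k := k) N.mkQ (derOf ρ e h) :=
    ⟨(mapK (k := k) N.mkQ).comp (derOf ρ e), fun _ => rfl⟩
  have hχker : RingHom.ker ψ.toRingHom ≤ RingHom.ker χ.toRingHom := by
    intro g' hg'
    have h0 : ψ g' = 0 := RingHom.mem_ker.1 hg'
    rw [RingHom.mem_ker]
    show χ g' = 0
    rw [hχ]
    apply TrivSqZeroExt.ext
    · rw [fst_mapK, fst_derOf, hρ, h0, map_zero, TrivSqZeroExt.fst_zero]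
    · rw [snd_mapK, TrivSqZeroExt.snd_zero, Submodule.mkQ_apply, Submodule.Quotient.mk_eq_zero]
      exact Submodule.subset_span ⟨g', h0, rfl⟩
  obtain ⟨φ, hφ⟩ : ∃ φ : Rr →ₐ[k] TrivSqZeroExt A ((Fin d → A) ⧸ N), ∀ h, φ (ψ h) = χ h :=
    ⟨AlgHom.liftOfSurjective ψ hψ χ hχker, AlgHom.liftOfSurjective_apply ψ hψ χ hχker⟩
  obtain ⟨ψ', hψ'⟩ := H A d N φ
  obtain ⟨δ, hδ⟩ : ∃ δ : MvPowerSeries (Fin d) k →ₐ[k] TrivSqZeroExt A (Fin d → A),
      ∀ h, δ h = ψ' (ψ h) := ⟨ψ'.comp ψ, fun _ => rfl⟩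
  obtain ⟨v, hv⟩ : ∃ v : Fin d → (Fin d → A), ∀ i, v i = (δ (X i)).snd := ⟨_, fun _ => rfl⟩
  have hfst : ∀ h, (δ h).fst = ρ h := by
    intro h
    rw [hδ, (hψ' (ψ h)).1, hφ, hχ, fst_mapK, fst_derOf]
  have hδeq : δ = derOf ρ v := by
    apply algHom_ext_of_nilpotent
    · intro s
      apply TrivSqZeroExt.ext
      · rw [hfst, fst_derOf]
      · rw [snd_derOf_X, hv]
    · intro s
      apply isNilpotent_of_fst
      rw [hfst]
      exact nilpotent_of_res A _
        ((Art.mem_maximalIdeal_iff A _).1 (map_mem_maximalIdeal A ρ (X_mem_max s)))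
  have hvN : ∀ i, v i - e i ∈ N := by
    intro i
    have h1 : N.mkQ (v i) = N.mkQ (e i) := by
      rw [hv, hδ, (hψ' (ψ (X i))).2, hφ, hχ, snd_mapK, snd_derOf_X]
    have h2 : N.mkQ (v i - e i) = 0 := by rw [map_sub, h1, sub_self]
    rw [Submodule.mkQ_apply] at h2
    exact (Submodule.Quotient.mk_eq_zero N).1 h2
  have hsum : ∑ i, ρ (pderiv k i g) • v i = 0 := by
    have h1 : derOf ρ v g = 0 := by
      rw [← hδeq, hδ, hg, map_zero]
    have h2 := congrArg TrivSqZeroExt.snd h1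
    rwa [snd_derOf, TrivSqZeroExt.snd_zero] at h2
  have hcj : ∀ j, ρ (pderiv k j g) = ∑ i, (-((v i - e i) j)) * ρ (pderiv k i g) := by
    intro j
    have h1 := congrFun hsum j
    rw [Finset.sum_apply] at h1
    simp only [Pi.smul_apply, smul_eq_mul, Pi.zero_apply] at h1
    have h2 : ∑ i, ρ (pderiv k i g) * e i j = ρ (pderiv k j g) := by
      rw [Finset.sum_eq_single j]
      · rw [he, if_pos rfl, mul_one]
      · intro i _ hij
        rw [he, if_neg (Ne.symm hij), mul_zero]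
      · intro h
        exact absurd (Finset.mem_univ j) h
    calc ρ (pderiv k j g)
        = ∑ i, ρ (pderiv k i g) * e i j - ∑ i, ρ (pderiv k i g) * v i j := by
          rw [h2, h1, sub_zero]
      _ = ∑ i, (-((v i - e i) j)) * ρ (pderiv k i g) := by
          rw [← Finset.sum_sub_distrib]
          refine Finset.sum_congr rfl (fun i _ => ?_)
          rw [Pi.sub_apply]
          ring
  have hle : Ideal.span (Set.range fun i => ρ (pderiv k i g)) ≤
      IsLocalRing.maximalIdeal A • Ideal.span (Set.range fun i => ρ (pderiv k i g)) := by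
    rw [Ideal.span_le]
    rintro _ ⟨j, rfl⟩
    rw [SetLike.mem_coe]
    show ρ (pderiv k j g) ∈ _
    rw [hcj j]
    refine Ideal.sum_mem _ (fun i _ => ?_)
    exact Submodule.smul_mem_smul (neg_mem (hNm _ (hvN i) j)) (Ideal.subset_span ⟨i, rfl⟩)
  have hbot : Ideal.span (Set.range fun i => ρ (pderiv k i g)) = ⊥ :=
    Submodule.eq_bot_of_le_smul_of_le_jacobson_bot (IsLocalRing.maximalIdeal A) _
      (Submodule.fg_span (Set.finite_range _)) hle
      (by rw [IsLocalRing.jacobson_eq_maximalIdeal ⊥ bot_ne_top])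
  have hmem : ρ (pderiv k j g) ∈ Ideal.span (Set.range fun i => ρ (pderiv k i g)) :=
    Ideal.subset_span ⟨j, rfl⟩
  rw [hbot, Ideal.mem_bot, hρ] at hmem
  exact hmem

theorem ker_pderiv_stable' (R : CRing k k) (H : T1LiftingFin k R.carrier)
    (ψ : MvPowerSeries (Fin d) k →ₐ[k] R.carrier) (hψ : Function.Surjective ψ)
    (hJ : RingHom.ker ψ.toRingHom ≤ IsLocalRing.maximalIdeal (MvPowerSeries (Fin d) k) ^ 2)
    {g : MvPowerSeries (Fin d) k} (hg : ψ g = 0) (j : Fin d) : ψ (pderiv k j g) = 0 := by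
  haveI := R.isAdicComplete
  have hH : IsHausdorff (IsLocalRing.maximalIdeal R.carrier) R.carrier := inferInstance
  apply hH.haus
  intro n
  rw [SModEq.zero, smul_eq_mul, Ideal.mul_top]
  have h1 := map_pderiv_eq_zero' H ψ hψ hJ (R.trunc n) (R.truncHom n).1 hg j
  have h2 : ψ (pderiv k j g) ∈ IsLocalRing.maximalIdeal R.carrier ^ (n + 1) :=
    Ideal.Quotient.eq_zero_iff_mem.1 h1
  exact Ideal.pow_le_pow_right (Nat.le_succ n) h2

theorem nonempty_equiv_of_liftingFin [CharZero k] (R : CRing k k) (H : T1LiftingFin k R.carrier) :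
    Nonempty (R.carrier ≃ₐ[k] MvPowerSeries (Fin (Module.finrank
      (IsLocalRing.ResidueField R.carrier) (IsLocalRing.CotangentSpace R.carrier))) k) := by
  classical
  obtain ⟨d, b, hb, hli, hsp⟩ := exists_cotangent_basis R.carrier
  have hd : Module.finrank (IsLocalRing.ResidueField R.carrier)
      (IsLocalRing.CotangentSpace R.carrier) = d := by
    rw [Module.finrank_eq_card_basis (Module.Basis.mk hli (le_of_eq hsp.symm)), Fintype.card_fin]
  rw [hd]
  haveI := R.isAdicComplete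
  obtain ⟨ψ, hψ⟩ := exists_algHom_of_complete (k := k) (IsLocalRing.maximalIdeal R.carrier) b hb
  have hψm : ∀ i, ψ (X i) ∈ IsLocalRing.maximalIdeal R.carrier := fun i => by
    rw [hψ]; exact hb i
  have hres : Function.Surjective ((IsLocalRing.residue R.carrier).comp
      (algebraMap k R.carrier)) := by
    intro x
    obtain ⟨r, rfl⟩ := IsLocalRing.residue_surjective x
    refine ⟨R.res r, ?_⟩
    show IsLocalRing.residue R.carrier (algebraMap k R.carrier (R.res r)) =
      IsLocalRing.residue R.carrier r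
    apply Ideal.Quotient.eq.2
    rw [CRing.mem_maximalIdeal_iff, map_sub, AlgHom.commutes]
    exact sub_self _
  have hfun : (fun i : Fin d => (IsLocalRing.maximalIdeal R.carrier).toCotangent
      ⟨ψ (X i), hψm i⟩) =
      fun i => (IsLocalRing.maximalIdeal R.carrier).toCotangent ⟨b i, hb i⟩ :=
    funext fun i => congrArg _ (Subtype.ext (hψ i))
  obtain ⟨hsurj, hker⟩ := Groth.Agent.S11740.result k R.carrier hres d ψ hψm
    (by rw [hfun]; exact hli) (by rw [hfun]; exact hsp)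
  have hJbot : RingHom.ker ψ.toRingHom = ⊥ :=
    eq_bot_of_pderiv_stable _ (hker.trans (Ideal.pow_le_self two_ne_zero))
      (fun g hg i => RingHom.mem_ker.2
        (ker_pderiv_stable' R H ψ hsurj hker (RingHom.mem_ker.1 hg) i))
  have hinj : Function.Injective ψ := (RingHom.injective_iff_ker_eq_bot ψ.toRingHom).2 hJbot
  exact ⟨(AlgEquiv.ofBijective ψ ⟨hinj, hsurj⟩).symm⟩

end Key

section Tsze

variable (A : Art k k) (M : Type u) [AddCommGroup M] [Module A M]
  [Module Aᵐᵒᵖ M] [IsCentralScalar A M] [Module k M] [IsScalarTower k A M]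
  [IsScalarTower k Aᵐᵒᵖ M]

theorem isLocalRing_tsze : IsLocalRing (TrivSqZeroExt A M) := by
  refine IsLocalRing.of_isUnit_or_isUnit_one_sub_self fun a => ?_
  rcases IsLocalRing.isUnit_or_isUnit_one_sub_self a.fst with h | h
  · exact Or.inl (TrivSqZeroExt.isUnit_iff_isUnit_fst.2 h)
  · refine Or.inr (TrivSqZeroExt.isUnit_iff_isUnit_fst.2 ?_)
    rwa [TrivSqZeroExt.fst_sub, TrivSqZeroExt.fst_one]

theorem isArtinianRing_tsze [Module.Finite A M] : IsArtinianRing (TrivSqZeroExt A M) :=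
  haveI : Module.Finite A (TrivSqZeroExt A M) := inferInstanceAs (Module.Finite A (A × M))
  IsArtinianRing.of_finite A _

theorem ker_fstHom_sq : RingHom.ker (TrivSqZeroExt.fstHom k A M) *
    RingHom.ker (TrivSqZeroExt.fstHom k A M) = ⊥ := by
  rw [eq_bot_iff, Ideal.mul_le]
  intro x hx y hy
  rw [Ideal.mem_bot]
  have hx0 : x.fst = 0 := RingHom.mem_ker.1 hx
  have hy0 : y.fst = 0 := RingHom.mem_ker.1 hy
  apply TrivSqZeroExt.ext
  · rw [TrivSqZeroExt.fst_mul, hx0, zero_mul, TrivSqZeroExt.fst_zero]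
  · rw [TrivSqZeroExt.snd_mul, hx0, hy0, zero_smul, MulOpposite.op_zero, zero_smul, add_zero,
      TrivSqZeroExt.snd_zero]

/-- the split square-zero extension `A ⊕ M` as an object -/
noncomputable def tszeArt [Module.Finite A M] : Art k k :=
  { carrier := TrivSqZeroExt A M
    isLocalRing := isLocalRing_tsze A M
    isArtinianRing := isArtinianRing_tsze A M
    res := A.res.comp (TrivSqZeroExt.fstHom k A M)
    res_surjective := fun c => by
      obtain ⟨a, ha⟩ := A.res_surjective c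
      exact ⟨TrivSqZeroExt.inl a, ha⟩ }

noncomputable def tszeFst [Module.Finite A M] : tszeArt A M ⟶ A :=
  ⟨TrivSqZeroExt.fstHom k A M, rfl⟩

noncomputable def tszeInl [Module.Finite A M] : A ⟶ tszeArt A M :=
  ⟨TrivSqZeroExt.inlAlgHom k A M, AlgHom.ext fun _ => rfl⟩

theorem tszeInl_fst [Module.Finite A M] : tszeInl A M ≫ tszeFst A M = 𝟙 A :=
  Art.hom_ext (AlgHom.ext fun _ => rfl)

theorem ker_tszeFst_sq [Module.Finite A M] :
    RingHom.ker (tszeFst A M).toAlgHom * RingHom.ker (tszeFst A M).toAlgHom = ⊥ :=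
  ker_fstHom_sq A M

variable {A M} {M' : Type u} [AddCommGroup M'] [Module A M']
  [Module Aᵐᵒᵖ M'] [IsCentralScalar A M'] [Module k M'] [IsScalarTower k A M']
  [IsScalarTower k Aᵐᵒᵖ M'] [Module.Finite A M] [Module.Finite A M']

theorem mapK_surjective (f : M' →ₗ[A] M) (hf : Function.Surjective f) :
    Function.Surjective (mapK (k := k) f) := by
  intro x
  obtain ⟨m', hm'⟩ := hf x.snd
  refine ⟨TrivSqZeroExt.inl x.fst + TrivSqZeroExt.inr m', ?_⟩
  apply TrivSqZeroExt.ext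
  · rw [fst_mapK]; simp
  · rw [snd_mapK]; simp [hm']

noncomputable def tszeMapHom (f : M' →ₗ[A] M) : tszeArt A M' ⟶ tszeArt A M :=
  ⟨mapK (k := k) f, AlgHom.ext fun x => congrArg A.res (fst_mapK (k := k) f x)⟩

theorem tszeMapHom_fst (f : M' →ₗ[A] M) : tszeMapHom f ≫ tszeFst A M = tszeFst A M' := by
  apply Art.hom_ext
  apply AlgHom.ext
  intro x
  exact fst_mapK (k := k) f x

theorem tszeInl_map (f : M' →ₗ[A] M) : tszeInl A M' ≫ tszeMapHom f = tszeInl A M := by
  apply Art.hom_ext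
  apply AlgHom.ext
  intro a
  exact TrivSqZeroExt.map_inl f a

theorem tszeMapHom_surjective (f : M' →ₗ[A] M) (hf : Function.Surjective f) :
    Function.Surjective (tszeMapHom (k := k) f) :=
  mapK_surjective f hf

end Tsze

section Main

theorem res_comp_eq (R : CRing k k) (A : Art k k) (φ : R.carrier →ₐ[k] A) :
    A.res.comp φ = R.res := by
  apply AlgHom.ext
  intro r
  have h1 : r - algebraMap k R.carrier (R.res r) ∈ IsLocalRing.maximalIdeal R.carrier := by
    rw [CRing.mem_maximalIdeal_iff, map_sub, AlgHom.commutes]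
    exact sub_self _
  have h2 := algHom_eq_zero_of_mem_maximalIdeal (A.res.comp φ) h1
  rw [map_sub, AlgHom.commutes, sub_eq_zero] at h2
  exact h2

theorem main13971 [CharZero k] (F : Art k k ⥤ Type v) [TangentStr F] (h0 : H0 F)
    (hRS : (∀ ⦃B A A' A'' : Art k k⦄ (p' : B ⟶ A') (p'' : B ⟶ A'') (f' : A' ⟶ A) (f'' : A'' ⟶ A)
        (h : Art.IsFibreProd p' p'' f' f''), Function.Surjective f'' →
        Function.Bijective (cmp F h)))
    (hfin : Hfin F)
    (hT1 : ∀ ⦃A A' A'' : Art k k⦄ (π' : A' ⟶ A) (i' : A ⟶ A') (π'' : A'' ⟶ A) (i'' : A ⟶ A'')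
        (q : A'' ⟶ A'), i' ≫ π' = 𝟙 A → i'' ≫ π'' = 𝟙 A →
        RingHom.ker π'.toAlgHom * RingHom.ker π'.toAlgHom = ⊥ →
        RingHom.ker π''.toAlgHom * RingHom.ker π''.toAlgHom = ⊥ →
        q ≫ π' = π'' → i'' ≫ q = i' → Function.Surjective q → Function.Surjective (F.map q)) :
    IsSmoothFunctor F := by
  classical
  have hsub : ∀ σ σ' : Art.base k k ⟶ Art.dual k k, σ = σ' := by
    intro σ σ'
    apply Art.hom_ext
    apply AlgHom.ext
    intro c
    have h1 : σ.toAlgHom c = algebraMap k (Art.dual k k) c := σ.toAlgHom.commutes c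
    have h2 : σ'.toAlgHom c = algebraMap k (Art.dual k k) c := σ'.toAlgHom.commutes c
    rw [h1, h2]
  have hpro : IsProrepresentable F :=
    (Groth.Agent.S12734.result F).2 ⟨⟨h0, hRS⟩, hfin, fun x₀ σ σ' _ => hsub σ σ'⟩
  obtain ⟨⟨R, ξ, hξ⟩⟩ := hpro
  have hlift : T1LiftingFin k R.carrier := by
    intro A d N φ
    have hq : Function.Surjective (F.map (tszeMapHom (k := k) (A := A) N.mkQ)) :=
      hT1 (tszeFst A ((Fin d → A) ⧸ N)) (tszeInl A ((Fin d → A) ⧸ N))
        (tszeFst A (Fin d → A)) (tszeInl A (Fin d → A)) (tszeMapHom N.mkQ)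
        (tszeInl_fst A _) (tszeInl_fst A _) (ker_tszeFst_sq A _) (ker_tszeFst_sq A _)
        (tszeMapHom_fst N.mkQ) (tszeInl_map N.mkQ)
        (tszeMapHom_surjective N.mkQ (Submodule.mkQ_surjective N))
    obtain ⟨y, hy⟩ := hq (ξ.app (tszeArt A ((Fin d → A) ⧸ N)) ⟨φ, res_comp_eq R (tszeArt A ((Fin d → A) ⧸ N)) φ⟩)
    obtain ⟨ψ', hψ'⟩ := (hξ (tszeArt A (Fin d → A))).2 y
    have h1 : HomSet.map (tszeMapHom N.mkQ) ψ' = ⟨φ, res_comp_eq R (tszeArt A ((Fin d → A) ⧸ N)) φ⟩ := by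
      apply (hξ _).1
      rw [ξ.natural, hψ', hy]
    refine ⟨ψ'.1, fun r => ?_⟩
    have h2 : mapK (k := k) N.mkQ (ψ'.1 r) = φ r :=
      AlgHom.congr_fun (congrArg Subtype.val h1) r
    constructor
    · exact (fst_mapK (k := k) N.mkQ (ψ'.1 r)).symm.trans (congrArg TrivSqZeroExt.fst h2)
    · exact (snd_mapK (k := k) N.mkQ (ψ'.1 r)).symm.trans (congrArg TrivSqZeroExt.snd h2)
  have hps := nonempty_equiv_of_liftingFin R hlift
  haveI : IsAdicComplete (IsLocalRing.maximalIdeal k) k := by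
    rw [IsLocalRing.isField_iff_maximalIdeal_eq.1 (Field.toIsField k)]
    infer_instance
  have hsm : IsSmoothFunctor (hR R.carrier R.res) :=
    (Groth.Agent.Lib.ArtFunKT.smooth_iff_ps (Λ := k) (k := k) Function.surjective_id R).2
      ⟨_, hps⟩
  intro B A μ hμ x
  obtain ⟨φ, rfl⟩ := (hξ A).2 x
  obtain ⟨ψ, hψ⟩ : ∃ ψ : HomSet R.carrier R.res B, HomSet.map μ ψ = φ := hsm μ hμ φ
  refine ⟨ξ.app B ψ, ?_⟩
  rw [← ξ.natural, hψ]

end Main

end Groth.Agent.Lib.T1LiftFunH1
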