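import Mathlib
import Groth.Agent.Lib.TLineB_helper4

/-!
# Twisted Quillen decomposition (helper4)

Points of a group scheme `G` over `Spec R` with values in rings `Λ` which receive a fixed ring `Cc`
(`ι : Cc →+* Λ`) and a base ring `Θ` (`κ : Θ →+* Λ`).  Given a family `δ D ν ν' ∈ G(D)` attached to
pairs of ring homs `ν ν' : Cc →+* D`, a point `g ∈ G(Λ)` is *twisted invariant* (`InvT`) when for
every pair `μ μ' : Λ →+* D` agreeing on `Θ`, `μ^* g = δ · μ'^* g · δ⁻¹` with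
`δ = δ D (μ ∘ ι) (μ' ∘ ι)`.

* `lemmaU`: two points over `D[Y]` with the same constant term and the same image over `D_s[Y]`
  agree after `Y ↦ s^M Y`.
* `inv_fix`: a point over `D₁[Y]`, trivial at `Y = 0`, whose image over `(D₁)_s[Y]` is twisted
  invariant becomes twisted invariant after `Y ↦ s^M Y`.
* `quillen_tw`: Quillen's decomposition with twisted invariance.
-/

set_option autoImplicit false
set_option linter.style.haveILetI false
set_option linter.unusedSectionVars false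
universe u
open Polynomial CategoryTheory CategoryTheory.Limits AlgebraicGeometry MonoidalCategory
  CartesianMonoidalCategory MonObj TensorProduct

namespace Groth.Agent.Lib.TLineH4

open Groth.Agent.Lib.GlueH4 Groth.Agent.Lib.QLimH4 Groth.Agent.Lib.QGrpH4

section Unique

/-- Two morphisms from `Spec D[Y]` to a scheme locally of finite type over a base, with the same
restriction to `Y = 0` and to `Spec D_s[Y]`, agree after `Y ↦ s^M Y`. -/
theorem stage_unique {D : Type u} [CommRing D] (Ds : Type u) [CommRing Ds] [Algebra D Ds] (s : D)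
    [IsLocalization.Away s Ds] {Xs S : Scheme.{u}} (f : Xs ⟶ S) [LocallyOfFiniteType f]
    (t₀ : Spec (CommRingCat.of D) ⟶ S) (a b : Spec (CommRingCat.of D[X]) ⟶ Xs)
    (ha : a ≫ f = SpM (C : D →+* D[X]) ≫ t₀) (hb : b ≫ f = SpM (C : D →+* D[X]) ≫ t₀)
    (h0 : SpM (constantCoeff : D[X] →+* D) ≫ a = SpM (constantCoeff : D[X] →+* D) ≫ b)
    (hs : SpM (mapRingHom (algebraMap D Ds)) ≫ a = SpM (mapRingHom (algebraMap D Ds)) ≫ b) :
    ∃ M : ℕ, SpM (tau s M) ≫ a = SpM (tau s M) ≫ b := by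
  have hE : SpM (rho Ds s 0) ≫ a = SpM (rho Ds s 0) ≫ b := by
    refine hom_ext_EE Ds s _ _ ?_ ?_
    · rw [← Category.assoc, ← Category.assoc, ← SpM_comp, fstE_comp_rho]
      exact h0
    · rw [← Category.assoc, ← Category.assoc, ← SpM_comp, sndE_comp_rho, sigma_zero]
      exact hs
  obtain ⟨k, hik, heq⟩ := Scheme.exists_hom_comp_eq_comp_of_locallyOfFiniteType
    (DS s) (toBase s t₀) f (coneS Ds s) (isLimitConeS Ds s) (i := Opposite.op ⟨0⟩) a b
    ha.symm hb.symm hE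
  exact ⟨k.unop.down - 0, heq⟩

variable {R : Type u} [CommRing R]

instance {D : Type u} [CommRing D] [Algebra R D] (s : D) (m : ℕ) : RCompat R (tau s m) := by
  unfold tau
  infer_instance

/-- **Uniqueness up to scaling** for points of a scheme locally of finite type over `Spec R`. -/
theorem lemmaU (G : Over (Spec (CommRingCat.of R))) [LocallyOfFiniteType G.hom]
    {D Ds : Type u} [CommRing D] [CommRing Ds] [Algebra R D] [Algebra R Ds] [Algebra D Ds]
    [hDs : RCompat R (algebraMap D Ds)] (s : D) [IsLocalization.Away s Ds]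
    (a b : SpO R D[X] ⟶ G)
    (h0 : SpOMap R (constantCoeff : D[X] →+* D) ≫ a = SpOMap R (constantCoeff : D[X] →+* D) ≫ b)
    (hs : SpOMap R (mapRingHom (algebraMap D Ds)) ≫ a =
      SpOMap R (mapRingHom (algebraMap D Ds)) ≫ b) :
    ∃ M : ℕ, SpOMap R (tau s M) ≫ a = SpOMap R (tau s M) ≫ b := by
  have hw : ∀ c : SpO R D[X] ⟶ G,
      c.left ≫ G.hom = SpM (C : D →+* D[X]) ≫ SpM (algebraMap R D) := by
    intro c
    have h1 : c.left ≫ G.hom = SpM (algebraMap R D[X]) := Over.w c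
    rw [h1, ← SpM_comp]
  obtain ⟨M, hM⟩ := stage_unique Ds s G.hom (SpM (algebraMap R D)) a.left b.left (hw a) (hw b)
    (congrArg CommaMorphism.left h0) (congrArg CommaMorphism.left hs)
  refine ⟨M, ?_⟩
  apply Over.OverMorphism.ext
  exact hM

end Unique

section Inv

variable {R : Type u} [CommRing R] {G : Over (Spec (CommRingCat.of R))} [GrpObj G]
  {Cc : Type u} [CommRing Cc]
  (δ : ∀ (D : Type u) [CommRing D] [Algebra R D], (Cc →+* D) → (Cc →+* D) → (SpO R D ⟶ G))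

/-- Twisted invariance of a point `g ∈ G(Λ)`. -/
def InvT {Θ Λ : Type u} [CommRing Θ] [CommRing Λ] [Algebra R Λ] (ic : Cc →+* Λ) (κ : Θ →+* Λ)
    (g : SpO R Λ ⟶ G) : Prop :=
  ∀ (D : Type u) [CommRing D] [Algebra R D] (ν ν' : Λ →+* D) [RCompat R ν] [RCompat R ν'],
    ν.comp κ = ν'.comp κ →
      SpOMap R ν ≫ g = δ D (ν.comp ic) (ν'.comp ic) * (SpOMap R ν' ≫ g) *
        (δ D (ν.comp ic) (ν'.comp ic))⁻¹

variable {δ}

theorem InvT.pb {Θ Θ' Λ Λ' : Type u} [CommRing Θ] [CommRing Θ'] [CommRing Λ] [CommRing Λ']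
    [Algebra R Λ] [Algebra R Λ'] {ic : Cc →+* Λ} {κ : Θ →+* Λ} {g : SpO R Λ ⟶ G}
    (h : InvT δ ic κ g) (φ : Λ →+* Λ') [RCompat R φ] (φ₀ : Θ →+* Θ') (κ' : Θ' →+* Λ')
    (hφ : φ.comp κ = κ'.comp φ₀) (ic' : Cc →+* Λ') (hic : φ.comp ic = ic') :
    InvT δ ic' κ' (SpOMap R φ ≫ g) := by
  intro D _ _ ν ν' _ _ hν
  have h1 : (ν.comp φ).comp κ = (ν'.comp φ).comp κ := by
    rw [RingHom.comp_assoc, RingHom.comp_assoc, hφ, ← RingHom.comp_assoc, ← RingHom.comp_assoc, hν]
  have h2 := h D (ν.comp φ) (ν'.comp φ) h1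
  rw [SpOMap_comp_assoc, SpOMap_comp_assoc, ← hic]
  exact h2

theorem InvT.mul {Θ Λ : Type u} [CommRing Θ] [CommRing Λ] [Algebra R Λ] {ic : Cc →+* Λ}
    {κ : Θ →+* Λ} {g₁ g₂ : SpO R Λ ⟶ G} (h₁ : InvT δ ic κ g₁) (h₂ : InvT δ ic κ g₂) :
    InvT δ ic κ (g₁ * g₂) := by
  intro D _ _ ν ν' _ _ hν
  rw [pb_mul, pb_mul, h₁ D ν ν' hν, h₂ D ν ν' hν]
  group

theorem InvT.inv {Θ Λ : Type u} [CommRing Θ] [CommRing Λ] [Algebra R Λ] {ic : Cc →+* Λ}
    {κ : Θ →+* Λ} {g : SpO R Λ ⟶ G} (h : InvT δ ic κ g) : InvT δ ic κ g⁻¹ := by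
  intro D _ _ ν ν' _ _ hν
  rw [pb_inv, pb_inv, h D ν ν' hν]
  group

theorem InvT.one {Θ Λ : Type u} [CommRing Θ] [CommRing Λ] [Algebra R Λ] (ic : Cc →+* Λ)
    (κ : Θ →+* Λ) : InvT δ ic κ (1 : SpO R Λ ⟶ G) := by
  intro D _ _ ν ν' _ _ hν
  rw [pb_one, pb_one]
  group

end Inv

section Rings

theorem exists_univ_pair {Θ₁ D₁ : Type u} [CommRing Θ₁] [CommRing D₁] (κ₁ : Θ₁ →+* D₁) :
    ∃ (D₂ : Type u) (_ : CommRing D₂) (inl inr : D₁ →+* D₂), inl.comp κ₁ = inr.comp κ₁ ∧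
      ∀ (D : Type u) [CommRing D] (f f' : D₁ →+* D), f.comp κ₁ = f'.comp κ₁ →
        ∃ F₀ : D₂ →+* D, F₀.comp inl = f ∧ F₀.comp inr = f' := by
  letI : Algebra Θ₁ D₁ := κ₁.toAlgebra
  refine ⟨D₁ ⊗[Θ₁] D₁, inferInstance, Algebra.TensorProduct.includeLeftRingHom,
    (Algebra.TensorProduct.includeRight : D₁ →ₐ[Θ₁] D₁ ⊗[Θ₁] D₁).toRingHom, ?_, ?_⟩
  · refine RingHom.ext fun θ => ?_
    show (κ₁ θ) ⊗ₜ[Θ₁] (1 : D₁) = (1 : D₁) ⊗ₜ[Θ₁] (κ₁ θ)
    have h : κ₁ θ = θ • (1 : D₁) := by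
      rw [Algebra.smul_def, _root_.mul_one]
      rfl
    rw [h, TensorProduct.smul_tmul]
  · intro D _ f f' hff
    letI : Algebra Θ₁ D := (f.comp κ₁).toAlgebra
    let fa : D₁ →ₐ[Θ₁] D := { f with commutes' := fun θ => rfl }
    let fa' : D₁ →ₐ[Θ₁] D :=
      { f' with commutes' := fun θ => (congrArg (fun φ : Θ₁ →+* D => φ θ) hff).symm }
    refine ⟨(Algebra.TensorProduct.productMap fa fa').toRingHom, ?_, ?_⟩
    · refine RingHom.ext fun d => ?_
      show Algebra.TensorProduct.productMap fa fa' (d ⊗ₜ[Θ₁] (1 : D₁)) = f d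
      rw [Algebra.TensorProduct.productMap_left_apply]
      rfl
    · refine RingHom.ext fun d => ?_
      show Algebra.TensorProduct.productMap fa fa' ((1 : D₁) ⊗ₜ[Θ₁] d) = f' d
      rw [Algebra.TensorProduct.productMap_right_apply]
      rfl

theorem map_comp_tau {D D' : Type u} [CommRing D] [CommRing D'] (f : D →+* D') (s : D) (M : ℕ) :
    (mapRingHom f).comp (tau s M) = (tau (f s) M).comp (mapRingHom f) := by
  refine Polynomial.ringHom_ext (fun a => ?_) ?_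
  · rw [RingHom.comp_apply, tau_C, RingHom.comp_apply, coe_mapRingHom, map_C, tau_C]
  · rw [RingHom.comp_apply, tau_X, RingHom.comp_apply, coe_mapRingHom, Polynomial.map_mul, map_C,
      map_X, tau_X, map_pow]

theorem constantCoeff_comp_map {D D' : Type u} [CommRing D] [CommRing D'] (f : D →+* D') :
    (constantCoeff : D'[X] →+* D').comp (mapRingHom f) = f.comp constantCoeff := by
  refine Polynomial.ringHom_ext (fun a => ?_) ?_
  · rw [RingHom.comp_apply, coe_mapRingHom, map_C, constantCoeff_apply, coeff_C_zero,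
      RingHom.comp_apply, constantCoeff_apply, coeff_C_zero]
  · rw [RingHom.comp_apply, coe_mapRingHom, map_X, constantCoeff_apply, coeff_X_zero,
      RingHom.comp_apply, constantCoeff_apply, coeff_X_zero, map_zero]

end Rings

section Fix

variable {R : Type u} [CommRing R] {G : Over (Spec (CommRingCat.of R))} [GrpObj G]
  {Cc K₀ : Type u} [CommRing Cc] [CommRing K₀] [Algebra R Cc]
  (δ : ∀ (D : Type u) [CommRing D] [Algebra R D], (Cc →+* D) → (Cc →+* D) → (SpO R D ⟶ G))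
  (j : K₀ →+* Cc)

/-- Naturality of the twisting family on pairs agreeing on `K₀`. -/
def NatT : Prop :=
  ∀ (D D' : Type u) [CommRing D] [CommRing D'] [Algebra R D] [Algebra R D'] (h : D →+* D')
    [RCompat R h] (ν ν' : Cc →+* D) [RCompat R ν] [RCompat R ν'], ν.comp j = ν'.comp j →
      SpOMap R h ≫ δ D ν ν' = δ D' (h.comp ν) (h.comp ν')

variable {δ j}

theorem conj_one {T : Over (Spec (CommRingCat.of R))} (x : T ⟶ G) : x * 1 * x⁻¹ = 1 := by
  group

theorem inv_fix [LocallyOfFinitePresentation G.hom] (hδ : NatT δ j)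
    {Θ₁ D₁ Ds₁ : Type u} [CommRing Θ₁] [CommRing D₁] [CommRing Ds₁]
    [Algebra R Θ₁] [Algebra R D₁] [Algebra R Ds₁] (κ₁ : Θ₁ →+* D₁) [hκ₁ : RCompat R κ₁]
    (ic₁ : Cc →+* D₁) [RCompat R ic₁] (j₁ : K₀ →+* Θ₁) (hj : ic₁.comp j = κ₁.comp j₁) (s : Θ₁)
    [Algebra D₁ Ds₁] [hDs₁ : RCompat R (algebraMap D₁ Ds₁)] [IsLocalization.Away (κ₁ s) Ds₁]
    (g : SpO R D₁[X] ⟶ G) (hg0 : SpOMap R (constantCoeff : D₁[X] →+* D₁) ≫ g = 1)
    (hinv : InvT δ ((C.comp (algebraMap D₁ Ds₁)).comp ic₁)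
      ((mapRingHom (algebraMap D₁ Ds₁)).comp (mapRingHom κ₁))
      (SpOMap R (mapRingHom (algebraMap D₁ Ds₁)) ≫ g)) :
    ∃ M : ℕ, InvT δ ((C : D₁ →+* D₁[X]).comp ic₁) (mapRingHom κ₁)
      (SpOMap R (tau (κ₁ s) M) ≫ g) := by
  obtain ⟨D₂, _, inl, inr, hlr, huniv⟩ := exists_univ_pair κ₁
  letI : Algebra R D₂ := (inl.comp (algebraMap R D₁)).toAlgebra
  haveI cl : RCompat R inl := ⟨rfl⟩
  haveI cr : RCompat R inr := ⟨by
    show inr.comp (algebraMap R D₁) = inl.comp (algebraMap R D₁)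
    rw [← hκ₁.comp_eq, ← RingHom.comp_assoc, ← RingHom.comp_assoc, hlr]⟩
  obtain ⟨s₂, hs₂⟩ : ∃ s₂ : D₂, s₂ = inl (κ₁ s) := ⟨_, rfl⟩
  have hs₂' : s₂ = inr (κ₁ s) := by
    rw [hs₂]
    exact congrArg (fun φ : Θ₁ →+* D₂ => φ s) hlr
  obtain ⟨Ds₂, hDs₂⟩ : ∃ Ds₂ : Type u, Ds₂ = Localization.Away s₂ := ⟨_, rfl⟩
  subst hDs₂
  haveI ca : RCompat R (algebraMap D₂ (Localization.Away s₂)) := inferInstance
  have hul : IsUnit (((algebraMap D₂ (Localization.Away s₂)).comp inl) (κ₁ s)) := by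
    rw [RingHom.comp_apply, ← hs₂]
    exact IsLocalization.Away.algebraMap_isUnit s₂
  have hur : IsUnit (((algebraMap D₂ (Localization.Away s₂)).comp inr) (κ₁ s)) := by
    rw [RingHom.comp_apply, ← hs₂']
    exact IsLocalization.Away.algebraMap_isUnit s₂
  obtain ⟨ll, hll⟩ : ∃ ll : Ds₁ →+* Localization.Away s₂,
      ll.comp (algebraMap D₁ Ds₁) = (algebraMap D₂ (Localization.Away s₂)).comp inl :=
    ⟨IsLocalization.Away.lift (S := Ds₁) (κ₁ s) hul, IsLocalization.Away.lift_comp _ _⟩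
  obtain ⟨lr, hlr'⟩ : ∃ lr : Ds₁ →+* Localization.Away s₂,
      lr.comp (algebraMap D₁ Ds₁) = (algebraMap D₂ (Localization.Away s₂)).comp inr :=
    ⟨IsLocalization.Away.lift (S := Ds₁) (κ₁ s) hur, IsLocalization.Away.lift_comp _ _⟩
  haveI cll : RCompat R ll := ⟨by
    rw [← hDs₁.comp_eq, ← RingHom.comp_assoc, hll, RingHom.comp_assoc, cl.comp_eq, ca.comp_eq]⟩
  haveI clr : RCompat R lr := ⟨by
    rw [← hDs₁.comp_eq, ← RingHom.comp_assoc, hlr', RingHom.comp_assoc, cr.comp_eq, ca.comp_eq]⟩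
  -- the universal pair
  have hagree : (inl.comp ic₁).comp j = (inr.comp ic₁).comp j := by
    rw [RingHom.comp_assoc, RingHom.comp_assoc, hj, ← RingHom.comp_assoc, ← RingHom.comp_assoc,
      hlr]
  obtain ⟨δ₂, hδ₂⟩ : ∃ δ₂ : SpO R D₂ ⟶ G, δ₂ = δ D₂ (inl.comp ic₁) (inr.comp ic₁) := ⟨_, rfl⟩
  obtain ⟨a, ha⟩ : ∃ a : SpO R D₂[X] ⟶ G, a = SpOMap R (mapRingHom inl) ≫ g := ⟨_, rfl⟩
  obtain ⟨b, hb⟩ : ∃ b : SpO R D₂[X] ⟶ G,
      b = (SpOMap R (C : D₂ →+* D₂[X]) ≫ δ₂) * (SpOMap R (mapRingHom inr) ≫ g) *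
        (SpOMap R (C : D₂ →+* D₂[X]) ≫ δ₂)⁻¹ := ⟨_, rfl⟩
  have h0a : SpOMap R (constantCoeff : D₂[X] →+* D₂) ≫ a = 1 := by
    rw [ha, SpOMap_comp_assoc, SpOMap_congr R (constantCoeff_comp_map inl), ← SpOMap_comp_assoc,
      hg0, pb_one]
  have h0b : SpOMap R (constantCoeff : D₂[X] →+* D₂) ≫ b = 1 := by
    rw [hb, pb_mul, pb_mul, pb_inv, SpOMap_comp_assoc R (mapRingHom inr),
      SpOMap_congr R (constantCoeff_comp_map inr), ← SpOMap_comp_assoc, hg0, pb_one]
    exact conj_one _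
  have e1 : (mapRingHom (algebraMap D₂ (Localization.Away s₂))).comp (mapRingHom inl) =
      (mapRingHom ll).comp (mapRingHom (algebraMap D₁ Ds₁)) := by
    rw [mapRingHom_comp, mapRingHom_comp, hll]
  have e2 : (mapRingHom (algebraMap D₂ (Localization.Away s₂))).comp (mapRingHom inr) =
      (mapRingHom lr).comp (mapRingHom (algebraMap D₁ Ds₁)) := by
    rw [mapRingHom_comp, mapRingHom_comp, hlr']
  have hsab : SpOMap R (mapRingHom (algebraMap D₂ (Localization.Away s₂))) ≫ a =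
      SpOMap R (mapRingHom (algebraMap D₂ (Localization.Away s₂))) ≫ b := by
    have hag : (mapRingHom ll).comp ((mapRingHom (algebraMap D₁ Ds₁)).comp (mapRingHom κ₁)) =
        (mapRingHom lr).comp ((mapRingHom (algebraMap D₁ Ds₁)).comp (mapRingHom κ₁)) := by
      have e : ll.comp ((algebraMap D₁ Ds₁).comp κ₁) = lr.comp ((algebraMap D₁ Ds₁).comp κ₁) := by
        rw [← RingHom.comp_assoc, ← RingHom.comp_assoc, hll, hlr', RingHom.comp_assoc,
          RingHom.comp_assoc, hlr]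
      rw [mapRingHom_comp, mapRingHom_comp, mapRingHom_comp, e]
    have h1 := hinv (Localization.Away s₂)[X] (mapRingHom ll) (mapRingHom lr) hag
    have e3 : (mapRingHom ll).comp ((C.comp (algebraMap D₁ Ds₁)).comp ic₁) =
        ((C : Localization.Away s₂ →+* (Localization.Away s₂)[X]).comp
          (algebraMap D₂ (Localization.Away s₂))).comp (inl.comp ic₁) := by
      refine RingHom.ext fun c => ?_
      have h := congrArg (fun φ : D₁ →+* Localization.Away s₂ => φ (ic₁ c)) hll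
      simp only [RingHom.comp_apply] at h ⊢
      rw [coe_mapRingHom, map_C, h]
    have e4 : (mapRingHom lr).comp ((C.comp (algebraMap D₁ Ds₁)).comp ic₁) =
        ((C : Localization.Away s₂ →+* (Localization.Away s₂)[X]).comp
          (algebraMap D₂ (Localization.Away s₂))).comp (inr.comp ic₁) := by
      refine RingHom.ext fun c => ?_
      have h := congrArg (fun φ : D₁ →+* Localization.Away s₂ => φ (ic₁ c)) hlr'
      simp only [RingHom.comp_apply] at h ⊢
      rw [coe_mapRingHom, map_C, h]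
    rw [e3, e4, ← hδ D₂ (Localization.Away s₂)[X]
      ((C : Localization.Away s₂ →+* (Localization.Away s₂)[X]).comp
          (algebraMap D₂ (Localization.Away s₂))) _ _ hagree, ← hδ₂, SpOMap_comp_assoc,
      SpOMap_comp_assoc, ← SpOMap_congr R e1, ← SpOMap_congr R e2] at h1
    rw [ha, hb, SpOMap_comp_assoc, h1, pb_mul, pb_mul, pb_inv, SpOMap_comp_assoc,
      SpOMap_comp_assoc,
      SpOMap_congr R (mapRingHom_comp_C (algebraMap D₂ (Localization.Away s₂)))]
  obtain ⟨M, hM⟩ := lemmaU G s₂ a b (h0a.trans h0b.symm) hsab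
  refine ⟨M, ?_⟩
  intro D _ _ ν ν' cν cν' hν
  have hff : (ν.comp C).comp κ₁ = (ν'.comp C).comp κ₁ := by
    have h := congrArg (fun φ : Θ₁[X] →+* D => φ.comp (C : Θ₁ →+* Θ₁[X])) hν
    simp only [RingHom.comp_assoc, mapRingHom_comp_C] at h
    exact h
  obtain ⟨F₀, hF1, hF2⟩ := huniv D (ν.comp C) (ν'.comp C) hff
  have hX : ν X = ν' X := by
    have h := congrArg (fun φ : Θ₁[X] →+* D => φ X) hν
    simp only [RingHom.comp_apply, coe_mapRingHom, map_X] at h
    exact h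
  obtain ⟨F, hF⟩ : ∃ F : D₂[X] →+* D, F = eval₂RingHom F₀ (ν X) := ⟨_, rfl⟩
  have hFC : ∀ d : D₂, F (C d) = F₀ d := by
    intro d
    rw [hF, coe_eval₂RingHom, eval₂_C]
  have hFX : F X = ν X := by
    rw [hF, coe_eval₂RingHom, eval₂_X]
  have hFl : F.comp (mapRingHom inl) = ν := by
    refine Polynomial.ringHom_ext (fun d => ?_) ?_
    · rw [RingHom.comp_apply, coe_mapRingHom, map_C, hFC, ← RingHom.comp_apply F₀, hF1,
        RingHom.comp_apply]
    · rw [RingHom.comp_apply, coe_mapRingHom, map_X, hFX]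
  have hFr : F.comp (mapRingHom inr) = ν' := by
    refine Polynomial.ringHom_ext (fun d => ?_) ?_
    · rw [RingHom.comp_apply, coe_mapRingHom, map_C, hFC, ← RingHom.comp_apply F₀, hF2,
        RingHom.comp_apply]
    · rw [RingHom.comp_apply, coe_mapRingHom, map_X, hFX, hX]
  haveI cF : RCompat R F := ⟨by
    refine RingHom.ext fun r => ?_
    have h1 : algebraMap R D₂[X] r = mapRingHom inl (C (algebraMap R D₁ r)) := by
      rw [coe_mapRingHom, map_C]
      rfl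
    rw [RingHom.comp_apply, h1, ← RingHom.comp_apply F, hFl]
    exact RCompat.apply_eq R ν r⟩
  have et1 : ν.comp (tau (κ₁ s) M) = (F.comp (tau s₂ M)).comp (mapRingHom inl) := by
    rw [RingHom.comp_assoc, hs₂, ← map_comp_tau, ← RingHom.comp_assoc, hFl]
  have et2 : ν'.comp (tau (κ₁ s) M) = (F.comp (tau s₂ M)).comp (mapRingHom inr) := by
    rw [RingHom.comp_assoc, hs₂', ← map_comp_tau, ← RingHom.comp_assoc, hFr]
  have ec1 : (F.comp (C : D₂ →+* D₂[X])).comp (inl.comp ic₁) = ν.comp (C.comp ic₁) := by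
    refine RingHom.ext fun c => ?_
    have h := congrArg (fun φ : D₁[X] →+* D => φ (C (ic₁ c))) hFl
    simp only [RingHom.comp_apply, coe_mapRingHom, map_C] at h ⊢
    exact h
  have ec2 : (F.comp (C : D₂ →+* D₂[X])).comp (inr.comp ic₁) = ν'.comp (C.comp ic₁) := by
    refine RingHom.ext fun c => ?_
    have h := congrArg (fun φ : D₁[X] →+* D => φ (C (ic₁ c))) hFr
    simp only [RingHom.comp_apply, coe_mapRingHom, map_C] at h ⊢
    exact h
  have eδ : SpOMap R F ≫ SpOMap R (tau s₂ M) ≫ SpOMap R (C : D₂ →+* D₂[X]) ≫ δ₂ =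
      δ D (ν.comp (C.comp ic₁)) (ν'.comp (C.comp ic₁)) := by
    rw [SpOMap_comp_assoc R C (tau s₂ M), SpOMap_congr R (tau_comp_C s₂ M), SpOMap_comp_assoc,
      hδ₂, hδ D₂ D (F.comp C) _ _ hagree, ec1, ec2]
  rw [SpOMap_comp_assoc, SpOMap_comp_assoc, SpOMap_congr R et1, SpOMap_congr R et2,
    ← SpOMap_comp_assoc R (mapRingHom inl), ← SpOMap_comp_assoc R (mapRingHom inr),
    ← SpOMap_comp_assoc R (tau s₂ M) F, ← SpOMap_comp_assoc R (tau s₂ M) F, ← ha, hM, hb,
    pb_mul, pb_mul, pb_inv, pb_mul, pb_mul, pb_inv, eδ]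

end Fix

section Rings2

theorem addHom_map {K L : Type u} [CommRing K] [CommRing L] (f : K →+* L) :
    (addHom L).comp (mapRingHom f) = (mapRingHom (mapRingHom f)).comp (addHom K) := by
  refine Polynomial.ringHom_ext (fun k => ?_) ?_
  · rw [RingHom.comp_apply, coe_mapRingHom, map_C, addHom_C, RingHom.comp_apply, addHom_C,
      coe_mapRingHom, map_C, coe_mapRingHom, map_C]
  · rw [RingHom.comp_apply, coe_mapRingHom, map_X, addHom_X, RingHom.comp_apply, addHom_X,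
      coe_mapRingHom, Polynomial.map_add, map_C, map_X, coe_mapRingHom, map_X]

theorem tau_C_eq {L : Type u} [CommRing L] (v : L) (N : ℕ) :
    tau (C v : L[X]) N = compRingHom (C (C (v ^ N)) * X) := by
  unfold tau
  rw [← C_pow]

theorem constantCoeff_comp_tau {D : Type u} [CommRing D] (s : D) (m : ℕ) :
    (constantCoeff : D[X] →+* D).comp (tau s m) = constantCoeff :=
  RingHom.ext fun q => constantCoeff_tau s m q

theorem ev2_comp_CC {K : Type u} [CommRing K] (α β : K) :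
    (ev2 α β).comp ((C : K[X] →+* K[X][X]).comp (C : K →+* K[X])) = C := by
  refine RingHom.ext fun k => ?_
  rw [RingHom.comp_apply, RingHom.comp_apply, ev2_C, C_comp]

theorem addHom_comp_C {K : Type u} [CommRing K] :
    (addHom K).comp (C : K →+* K[X]) = (C : K[X] →+* K[X][X]).comp (C : K →+* K[X]) :=
  RingHom.ext fun k => addHom_C k

end Rings2

section Quillen

variable {R : Type u} [CommRing R] {G : Over (Spec (CommRingCat.of R))} [GrpObj G]
  [LocallyOfFinitePresentation G.hom]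
  {Cc K₀ : Type u} [CommRing Cc] [CommRing K₀] [Algebra R Cc]
  {δ : ∀ (D : Type u) [CommRing D] [Algebra R D], (Cc →+* D) → (Cc →+* D) → (SpO R D ⟶ G)}
  {j : K₀ →+* Cc}

theorem InvT.congr {Θ Λ : Type u} [CommRing Θ] [CommRing Λ] [Algebra R Λ] {ic ic' : Cc →+* Λ}
    {κ κ' : Θ →+* Λ} {g g' : SpO R Λ ⟶ G} (h : InvT δ ic κ g) (h1 : ic = ic') (h2 : κ = κ')
    (h3 : g = g') : InvT δ ic' κ' g' := by
  subst h1 h2 h3
  exact h

/-- **Lemma A** with twisted invariance. -/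
theorem lemmaA_poly_tw (hδ : NatT δ j)
    {Θ K L : Type u} [CommRing Θ] [CommRing K] [CommRing L] [Algebra R Θ] [Algebra R K]
    [Algebra R L] [Algebra K L] [IsScalarTower R K L]
    (κ : Θ →+* K) [RCompat R κ] (ic : Cc →+* K) [RCompat R ic] (j' : K₀ →+* Θ)
    (hj : ic.comp j = κ.comp j') (y₀ : Θ) [IsLocalization.Away (κ y₀) L]
    (b : SpO R L[X][X] ⟶ G) (hb : SpOMap R (constantCoeff : L[X][X] →+* L[X]) ≫ b = 1)
    (hinv : InvT δ ((C.comp C).comp ((algebraMap K L).comp ic))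
      (mapRingHom (mapRingHom ((algebraMap K L).comp κ))) b) :
    ∃ (N : ℕ) (g : SpO R K[X][X] ⟶ G),
      SpOMap R (constantCoeff : K[X][X] →+* K[X]) ≫ g = 1 ∧
      SpOMap R (mapRingHom (mapRingHom (algebraMap K L))) ≫ g =
        SpOMap R (compRingHom (C (C (algebraMap K L (κ y₀) ^ N)) * X)) ≫ b ∧
      InvT δ ((C.comp C).comp ic) (mapRingHom (mapRingHom κ)) g := by
  obtain ⟨N₀, g₀, h1, h2⟩ := lemmaA_poly G (κ y₀) b hb
  letI : Algebra K[X] L[X] := Polynomial.algebra K L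
  have eA : algebraMap K[X] L[X] = mapRingHom (algebraMap K L) := Polynomial.algebraMap_def K L
  haveI : RCompat R (algebraMap K[X] L[X]) := by
    rw [eA]
    infer_instance
  haveI : IsLocalization.Away ((mapRingHom κ) (C y₀)) L[X] := by
    rw [coe_mapRingHom, map_C]
    exact away_polynomial (κ y₀)
  have hj₁ : ((C : K →+* K[X]).comp ic).comp j = (mapRingHom κ).comp ((C : Θ →+* Θ[X]).comp j') := by
    rw [RingHom.comp_assoc, hj, ← RingHom.comp_assoc, ← RingHom.comp_assoc, mapRingHom_comp_C]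
  -- invariance of the scaled point
  have hsc : InvT δ ((C.comp C).comp ((algebraMap K L).comp ic))
      (mapRingHom (mapRingHom ((algebraMap K L).comp κ)))
      (SpOMap R (tau (C (algebraMap K L (κ y₀)) : L[X]) N₀) ≫ b) := by
    refine hinv.pb (tau (C (algebraMap K L (κ y₀)) : L[X]) N₀) (tau (C y₀ : Θ[X]) N₀) _ ?_ _ ?_
    · rw [map_comp_tau, coe_mapRingHom, map_C]
      rfl
    · refine RingHom.ext fun c => ?_
      simp only [RingHom.comp_apply, tau_C]
  have hinv₁ : InvT δ ((C.comp (algebraMap K[X] L[X])).comp ((C : K →+* K[X]).comp ic))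
      ((mapRingHom (algebraMap K[X] L[X])).comp (mapRingHom (mapRingHom κ)))
      (SpOMap R (mapRingHom (algebraMap K[X] L[X])) ≫ g₀) := by
    refine hsc.congr ?_ ?_ ?_
    · rw [eA]
      refine RingHom.ext fun c => ?_
      simp only [RingHom.comp_apply, coe_mapRingHom, map_C]
    · rw [eA, mapRingHom_comp, mapRingHom_comp]
    · rw [SpOMap_congr R (tau_C_eq (algebraMap K L (κ y₀)) N₀), ← h2]
      rw [SpOMap_congr R (show mapRingHom (algebraMap K[X] L[X]) =
        mapRingHom (mapRingHom (algebraMap K L)) by rw [eA])]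
  obtain ⟨M, hM⟩ := inv_fix hδ (mapRingHom κ) ((C : K →+* K[X]).comp ic) ((C : Θ →+* Θ[X]).comp j')
    hj₁ (C y₀) g₀ h1 hinv₁
  refine ⟨N₀ + M, SpOMap R (tau ((mapRingHom κ) (C y₀)) M) ≫ g₀, ?_, ?_, ?_⟩
  · rw [SpOMap_comp_assoc, SpOMap_congr R (constantCoeff_comp_tau _ M), h1]
  · have e1 : (mapRingHom (mapRingHom (algebraMap K L))).comp (tau ((mapRingHom κ) (C y₀)) M) =
        (tau (C (algebraMap K L (κ y₀)) : L[X]) M).comp
          (mapRingHom (mapRingHom (algebraMap K L))) := by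
      rw [map_comp_tau]
      simp only [coe_mapRingHom, map_C]
    have e5 : (tau (C (algebraMap K L (κ y₀)) : L[X]) M).comp
        (compRingHom (C (C (algebraMap K L (κ y₀) ^ N₀)) * X)) =
        compRingHom (C (C (algebraMap K L (κ y₀) ^ (N₀ + M))) * X) := by
      rw [← tau_C_eq, ← tau_C_eq, tau_comp]
    rw [SpOMap_comp_assoc, SpOMap_congr R e1, ← SpOMap_comp_assoc, h2, SpOMap_comp_assoc,
      SpOMap_congr R e5]
  · exact hM.congr (RingHom.comp_assoc _ _ _).symm rfl rfl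

theorem InvT.psi {Θ B : Type u} [CommRing Θ] [CommRing B] [Algebra R B] {ic : Cc →+* B}
    {κ : Θ →+* B} {g : SpO R B[X] ⟶ G} (h : InvT δ (C.comp ic) (mapRingHom κ) g) :
    InvT δ ((C.comp C).comp ic) (mapRingHom (mapRingHom κ)) (psi G g) := by
  unfold QGrpH4.psi
  refine InvT.mul ?_ (InvT.inv ?_)
  · refine h.pb (addHom B) (addHom Θ) _ (addHom_map κ) _ ?_
    rw [← RingHom.comp_assoc, addHom_comp_C]
  · refine h.pb (C : B[X] →+* B[X][X]) (C : Θ[X] →+* Θ[X][X]) _ (mapRingHom_comp_C _).symm _ ?_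
    rw [← RingHom.comp_assoc]

/-- **Quillen's decomposition** with twisted invariance. -/
theorem quillen_tw (hδ : NatT δ j)
    {Θ K : Type u} [CommRing Θ] [CommRing K] [Algebra R Θ] [Algebra R K]
    (κ : Θ →+* K) [RCompat R κ] (ic : Cc →+* K) [RCompat R ic] (j' : K₀ →+* Θ)
    (hj : ic.comp j = κ.comp j') (r₀ r₀' : Θ) (hcop : IsCoprime r₀ r₀')
    (A A' B : Type u) [CommRing A] [CommRing A'] [CommRing B]
    [Algebra K A] [Algebra K A'] [Algebra K B] [Algebra R A] [Algebra R A'] [Algebra R B]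
    [IsScalarTower R K A] [IsScalarTower R K A'] [IsScalarTower R K B]
    [IsLocalization.Away (κ r₀) A] [IsLocalization.Away (κ r₀') A']
    [IsLocalization.Away (κ r₀ * κ r₀') B] [Algebra A B] [Algebra A' B] [IsScalarTower K A B]
    [IsScalarTower K A' B] [IsScalarTower R A B] [IsScalarTower R A' B]
    (g : SpO R B[X] ⟶ G) (hg : SpOMap R (evalRingHom (0 : B)) ≫ g = 1)
    (hinv : InvT δ (C.comp ((algebraMap K B).comp ic)) (mapRingHom ((algebraMap K B).comp κ)) g) :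
    ∃ (g₁ : SpO R A[X] ⟶ G) (g₂ : SpO R A'[X] ⟶ G),
      g = (SpOMap R (mapRingHom (algebraMap A B)) ≫ g₁) *
        (SpOMap R (mapRingHom (algebraMap A' B)) ≫ g₂) ∧
      InvT δ (C.comp ((algebraMap K A).comp ic)) (mapRingHom ((algebraMap K A).comp κ)) g₁ ∧
      InvT δ (C.comp ((algebraMap K A').comp ic)) (mapRingHom ((algebraMap K A').comp κ)) g₂ := by
  haveI hB1 : IsLocalization.Away (((algebraMap K A).comp κ) r₀') B :=
    away_of_away_mul (κ r₀) (κ r₀') (inferInstance : IsLocalization.Away (κ r₀ * κ r₀') B)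
  haveI hB2 : IsLocalization.Away (((algebraMap K A').comp κ) r₀) B :=
    away_of_away_mul (κ r₀') (κ r₀)
      (mul_comm (κ r₀) (κ r₀') ▸ (inferInstance : IsLocalization.Away (κ r₀ * κ r₀') B))
  have eAB : (algebraMap A B).comp (algebraMap K A) = algebraMap K B :=
    (IsScalarTower.algebraMap_eq K A B).symm
  have eAB' : (algebraMap A' B).comp (algebraMap K A') = algebraMap K B :=
    (IsScalarTower.algebraMap_eq K A' B).symm
  have hjA : ((algebraMap K A).comp ic).comp j = ((algebraMap K A).comp κ).comp j' := by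
    rw [RingHom.comp_assoc, hj, RingHom.comp_assoc]
  have hjA' : ((algebraMap K A').comp ic).comp j = ((algebraMap K A').comp κ).comp j' := by
    rw [RingHom.comp_assoc, hj, RingHom.comp_assoc]
  have hpsi := hinv.psi
  have hpsiA : InvT δ ((C.comp C).comp ((algebraMap A B).comp ((algebraMap K A).comp ic)))
      (mapRingHom (mapRingHom ((algebraMap A B).comp ((algebraMap K A).comp κ)))) (psi G g) := by
    refine hpsi.congr ?_ ?_ rfl
    · rw [← eAB]
      rfl
    · rw [← eAB]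
      rfl
  have hpsiA' : InvT δ ((C.comp C).comp ((algebraMap A' B).comp ((algebraMap K A').comp ic)))
      (mapRingHom (mapRingHom ((algebraMap A' B).comp ((algebraMap K A').comp κ)))) (psi G g) := by
    refine hpsi.congr ?_ ?_ rfl
    · rw [← eAB']
      rfl
    · rw [← eAB']
      rfl
  obtain ⟨N₂, ψ₂, hψ₂c, hψ₂, hψ₂i⟩ := lemmaA_poly_tw hδ (K := A) (L := B)
    ((algebraMap K A).comp κ) ((algebraMap K A).comp ic) j' hjA r₀' (psi G g) (psi_const g) hpsiA
  obtain ⟨N₁, ψ₁, hψ₁c, hψ₁, hψ₁i⟩ := lemmaA_poly_tw hδ (K := A') (L := B)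
    ((algebraMap K A').comp κ) ((algebraMap K A').comp ic) j' hjA' r₀ (psi G g) (psi_const g) hpsiA'
  obtain ⟨a, b, hab⟩ : IsCoprime (r₀ ^ N₁) (r₀' ^ N₂) := hcop.pow
  obtain ⟨fA, hfA⟩ : ∃ fA : Θ →+* A, fA = (algebraMap K A).comp κ := ⟨_, rfl⟩
  obtain ⟨fA', hfA'⟩ : ∃ fA' : Θ →+* A', fA' = (algebraMap K A').comp κ := ⟨_, rfl⟩
  rw [← hfA] at hψ₂ hψ₂i
  rw [← hfA'] at hψ₁ hψ₁i
  rw [← hfA, ← hfA']
  have hΦ : (algebraMap A B).comp fA = (algebraMap A' B).comp fA' := by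
    rw [hfA, hfA', ← RingHom.comp_assoc, ← RingHom.comp_assoc, eAB, eAB']
  have hΦa : ∀ x : Θ, algebraMap A' B (fA' x) = algebraMap A B (fA x) := fun x =>
    (congrArg (fun φ : Θ →+* B => φ x) hΦ).symm
  refine ⟨SpOMap R (ev2 (fA (a * r₀ ^ N₁)) (fA b)) ≫ ψ₂,
    SpOMap R (ev2 (fA' 0) (fA' a)) ≫ ψ₁, ?_, ?_, ?_⟩
  · rw [pb_ev2_descended g ψ₂ _ hψ₂, pb_ev2_descended g ψ₁ _ hψ₁]
    have e1 : algebraMap A B (fA (a * r₀ ^ N₁)) +
        algebraMap A B (fA r₀') ^ N₂ * algebraMap A B (fA b) = 1 := by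
      rw [← map_pow, ← map_pow, ← map_mul, ← map_mul, ← map_add, ← map_add,
        show a * r₀ ^ N₁ + r₀' ^ N₂ * b = 1 by linear_combination hab, map_one, map_one]
    have e2 : algebraMap A' B (fA' 0) +
        algebraMap A' B (fA' r₀) ^ N₁ * algebraMap A' B (fA' a) =
        algebraMap A B (fA (a * r₀ ^ N₁)) := by
      rw [map_zero, map_zero, zero_add, hΦa, hΦa, ← map_pow, ← map_pow, ← map_mul, ← map_mul,
        mul_comm]
    have e3 : SpOMap R (dil (algebraMap A' B (fA' 0))) ≫ g = 1 := by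
      rw [SpOMap_congr R (show dil (algebraMap A' B (fA' 0)) =
        (C : B →+* B[X]).comp (evalRingHom (0 : B)) by rw [map_zero, map_zero, dil_zero]),
        ← SpOMap_comp_assoc, hg, pb_one]
    rw [SpOMap_congr R (congrArg dil e1), SpOMap_congr R (dil_one (K := B)), pb_id,
      SpOMap_congr R (congrArg dil e2), e3, inv_one, _root_.mul_one, inv_mul_cancel_right]
  · refine hψ₂i.pb (ev2 (fA (a * r₀ ^ N₁)) (fA b)) (ev2 (a * r₀ ^ N₁) b) _
      (map_comp_ev2 fA _ _).symm _ ?_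
    rw [← RingHom.comp_assoc, ev2_comp_CC]
  · refine hψ₁i.pb (ev2 (fA' 0) (fA' a)) (ev2 0 a) _ (map_comp_ev2 fA' _ _).symm _ ?_
    rw [← RingHom.comp_assoc, ev2_comp_CC]

end Quillen

end Groth.Agent.Lib.TLineH4
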