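import Mathlib
import Groth.Agent.Lib.TDescD_helper4

/-!
# Twisted Quillen decomposition in several variables (helper4)

`quillen_tw_mv`: the twisted Quillen decomposition for points over `MvPolynomial n B`, deduced from
the one-variable case `quillen_tw` by the homothety `t_i ↦ t_i T`.
-/

set_option autoImplicit false
set_option linter.style.haveILetI false
set_option linter.unusedSectionVars false
universe u
open Polynomial CategoryTheory CategoryTheory.Limits AlgebraicGeometry MonoidalCategory
  CartesianMonoidalCategory MonObj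

namespace Groth.Agent.Lib.TLineH4

open Groth.Agent.Lib.GlueH4 Groth.Agent.Lib.QLimH4 Groth.Agent.Lib.QGrpH4

section MvRings

variable (n : Type u)

/-- The homothety `t_i ↦ t_i T`. -/
noncomputable def hmt (L : Type u) [CommRing L] : MvPolynomial n L →+* (MvPolynomial n L)[X] :=
  MvPolynomial.eval₂Hom ((C : MvPolynomial n L →+* (MvPolynomial n L)[X]).comp MvPolynomial.C)
    (fun i => C (MvPolynomial.X i) * X)

variable {n} {L L' : Type u} [CommRing L] [CommRing L']

@[simp] theorem hmt_C (l : L) : hmt n L (MvPolynomial.C l) = C (MvPolynomial.C l) := by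
  unfold hmt
  rw [MvPolynomial.coe_eval₂Hom, MvPolynomial.eval₂_C]
  rfl

@[simp] theorem hmt_X (i : n) : hmt n L (MvPolynomial.X i) = C (MvPolynomial.X i) * X := by
  unfold hmt
  rw [MvPolynomial.coe_eval₂Hom, MvPolynomial.eval₂_X]

theorem hmt_comp_C :
    (hmt n L).comp (MvPolynomial.C : L →+* MvPolynomial n L) =
      (C : MvPolynomial n L →+* (MvPolynomial n L)[X]).comp MvPolynomial.C :=
  RingHom.ext fun l => hmt_C l

theorem eval_one_comp_hmt :
    (evalRingHom (1 : MvPolynomial n L)).comp (hmt n L) = RingHom.id _ := by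
  refine MvPolynomial.ringHom_ext (fun l => ?_) (fun i => ?_)
  · rw [RingHom.comp_apply, hmt_C, coe_evalRingHom, eval_C, RingHom.id_apply]
  · rw [RingHom.comp_apply, hmt_X, coe_evalRingHom, eval_mul, eval_C, eval_X, _root_.mul_one,
      RingHom.id_apply]

theorem eval_zero_comp_hmt :
    (evalRingHom (0 : MvPolynomial n L)).comp (hmt n L) =
      (MvPolynomial.C : L →+* MvPolynomial n L).comp MvPolynomial.constantCoeff := by
  refine MvPolynomial.ringHom_ext (fun l => ?_) (fun i => ?_)
  · rw [RingHom.comp_apply, hmt_C, coe_evalRingHom, eval_C, RingHom.comp_apply,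
      MvPolynomial.constantCoeff_C]
  · rw [RingHom.comp_apply, hmt_X, coe_evalRingHom, eval_mul, eval_C, eval_X, mul_zero,
      RingHom.comp_apply, MvPolynomial.constantCoeff_X, map_zero]

theorem hmt_map (φ : L →+* L') :
    (hmt n L').comp (MvPolynomial.map φ) = (mapRingHom (MvPolynomial.map φ)).comp (hmt n L) := by
  refine MvPolynomial.ringHom_ext (fun l => ?_) (fun i => ?_)
  · rw [RingHom.comp_apply, MvPolynomial.map_C, hmt_C, RingHom.comp_apply, hmt_C, coe_mapRingHom,
      map_C, MvPolynomial.map_C]
  · rw [RingHom.comp_apply, MvPolynomial.map_X, hmt_X, RingHom.comp_apply, hmt_X, coe_mapRingHom,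
      Polynomial.map_mul, map_C, map_X, MvPolynomial.map_X]

theorem eval_one_comp_map {D D' : Type u} [CommRing D] [CommRing D'] (f : D →+* D') :
    (evalRingHom (1 : D')).comp (mapRingHom f) = f.comp (evalRingHom (1 : D)) := by
  refine Polynomial.ringHom_ext (fun d => ?_) ?_
  · rw [RingHom.comp_apply, coe_mapRingHom, map_C, coe_evalRingHom, eval_C, RingHom.comp_apply,
      coe_evalRingHom, eval_C]
  · rw [RingHom.comp_apply, coe_mapRingHom, map_X, coe_evalRingHom, eval_X, RingHom.comp_apply,
      coe_evalRingHom, eval_X, map_one]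

theorem mv_map_comp {n : Type u} {D D' D'' : Type u} [CommRing D] [CommRing D'] [CommRing D'']
    (f : D →+* D') (g : D' →+* D'') :
    (MvPolynomial.map (σ := n) g).comp (MvPolynomial.map f) = MvPolynomial.map (g.comp f) :=
  RingHom.ext fun p => MvPolynomial.map_map f g p

theorem eval_comp_C' {D : Type u} [CommRing D] (d : D) :
    (evalRingHom d).comp (C : D →+* D[X]) = RingHom.id D :=
  RingHom.ext fun k => eval_C

end MvRings

section Compat

variable (R : Type u) [CommRing R] (n : Type u) {U U' : Type u} [CommRing U] [CommRing U']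
  [Algebra R U] [Algebra R U']

instance : RCompat R (MvPolynomial.C : U →+* MvPolynomial n U) := ⟨rfl⟩

instance : RCompat R (MvPolynomial.constantCoeff : MvPolynomial n U →+* U) :=
  ⟨RingHom.ext fun r => by
    show MvPolynomial.constantCoeff (MvPolynomial.C (algebraMap R U r)) = algebraMap R U r
    rw [MvPolynomial.constantCoeff_C]⟩

instance (φ : U →+* U') [RCompat R φ] : RCompat R (MvPolynomial.map (σ := n) φ) :=
  ⟨RingHom.ext fun r => by
    show MvPolynomial.map φ (MvPolynomial.C (algebraMap R U r)) =
      MvPolynomial.C (algebraMap R U' r)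
    rw [MvPolynomial.map_C, RCompat.apply_eq]⟩

instance : RCompat R (hmt n U) :=
  ⟨RingHom.ext fun r => by
    show hmt n U (MvPolynomial.C (algebraMap R U r)) = C (MvPolynomial.C (algebraMap R U r))
    rw [hmt_C]⟩

end Compat

section Away

attribute [local instance] MvPolynomial.algebraMvPolynomial

theorem away_mvPolynomial (n : Type u) {L A : Type u} [CommRing L] [CommRing A] [Algebra L A]
    (y : L) [IsLocalization.Away y A] :
    IsLocalization.Away (MvPolynomial.C y : MvPolynomial n L) (MvPolynomial n A) := by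
  have h := MvPolynomial.isLocalization (σ := n) (Submonoid.powers y) A
  rw [Submonoid.map_powers] at h
  exact h

end Away

section QuillenMv

attribute [local instance] MvPolynomial.algebraMvPolynomial

variable {R : Type u} [CommRing R] {G : Over (Spec (CommRingCat.of R))} [GrpObj G]
  [LocallyOfFinitePresentation G.hom]
  {Cc K₀ : Type u} [CommRing Cc] [CommRing K₀] [Algebra R Cc]
  {δ : ∀ (D : Type u) [CommRing D] [Algebra R D], (Cc →+* D) → (Cc →+* D) → (SpO R D ⟶ G)}
  {j : K₀ →+* Cc} (n : Type u)

/-- **Twisted Quillen decomposition** in several variables. -/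
theorem quillen_tw_mv (hδ : NatT δ j) {K₁ L : Type u} [CommRing K₁] [CommRing L] [Algebra R K₁]
    [Algebra R L] [Algebra K₁ L] [IsScalarTower R K₁ L]
    (ic₀ : Cc →+* L) [RCompat R ic₀] (j₀ : K₀ →+* K₁) (hj : ic₀.comp j = (algebraMap K₁ L).comp j₀)
    (a b : K₁) (hab : IsCoprime a b)
    (A A' B : Type u) [CommRing A] [CommRing A'] [CommRing B]
    [Algebra L A] [Algebra L A'] [Algebra L B] [Algebra R A] [Algebra R A'] [Algebra R B]
    [IsScalarTower R L A] [IsScalarTower R L A'] [IsScalarTower R L B]
    [IsLocalization.Away (algebraMap K₁ L a) A] [IsLocalization.Away (algebraMap K₁ L b) A']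
    [IsLocalization.Away (algebraMap K₁ L a * algebraMap K₁ L b) B]
    [Algebra A B] [Algebra A' B] [IsScalarTower L A B] [IsScalarTower L A' B]
    [IsScalarTower R A B] [IsScalarTower R A' B]
    (g : SpO R (MvPolynomial n B) ⟶ G)
    (hg : SpOMap R (MvPolynomial.constantCoeff : MvPolynomial n B →+* B) ≫ g = 1)
    (hinv : InvT δ (MvPolynomial.C.comp ((algebraMap L B).comp ic₀))
      (MvPolynomial.map (σ := n) ((algebraMap L B).comp (algebraMap K₁ L))) g) :
    ∃ (g₁ : SpO R (MvPolynomial n A) ⟶ G) (g₂ : SpO R (MvPolynomial n A') ⟶ G),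
      g = (SpOMap R (MvPolynomial.map (algebraMap A B)) ≫ g₁) *
        (SpOMap R (MvPolynomial.map (algebraMap A' B)) ≫ g₂) ∧
      InvT δ (MvPolynomial.C.comp ((algebraMap L A).comp ic₀))
        (MvPolynomial.map (σ := n) ((algebraMap L A).comp (algebraMap K₁ L))) g₁ ∧
      InvT δ (MvPolynomial.C.comp ((algebraMap L A').comp ic₀))
        (MvPolynomial.map (σ := n) ((algebraMap L A').comp (algebraMap K₁ L))) g₂ := by
  -- towers
  haveI t1 : IsScalarTower R (MvPolynomial n L) (MvPolynomial n A) :=
    IsScalarTower.of_algebraMap_eq' (RingHom.ext fun r => by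
      show MvPolynomial.C (algebraMap R A r) =
        MvPolynomial.map (algebraMap L A) (MvPolynomial.C (algebraMap R L r))
      rw [MvPolynomial.map_C, ← IsScalarTower.algebraMap_apply])
  haveI t2 : IsScalarTower R (MvPolynomial n L) (MvPolynomial n A') :=
    IsScalarTower.of_algebraMap_eq' (RingHom.ext fun r => by
      show MvPolynomial.C (algebraMap R A' r) =
        MvPolynomial.map (algebraMap L A') (MvPolynomial.C (algebraMap R L r))
      rw [MvPolynomial.map_C, ← IsScalarTower.algebraMap_apply])
  haveI t3 : IsScalarTower R (MvPolynomial n L) (MvPolynomial n B) :=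
    IsScalarTower.of_algebraMap_eq' (RingHom.ext fun r => by
      show MvPolynomial.C (algebraMap R B r) =
        MvPolynomial.map (algebraMap L B) (MvPolynomial.C (algebraMap R L r))
      rw [MvPolynomial.map_C, ← IsScalarTower.algebraMap_apply])
  haveI t4 : IsScalarTower R (MvPolynomial n A) (MvPolynomial n B) :=
    IsScalarTower.of_algebraMap_eq' (RingHom.ext fun r => by
      show MvPolynomial.C (algebraMap R B r) =
        MvPolynomial.map (algebraMap A B) (MvPolynomial.C (algebraMap R A r))
      rw [MvPolynomial.map_C, ← IsScalarTower.algebraMap_apply])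
  haveI t5 : IsScalarTower R (MvPolynomial n A') (MvPolynomial n B) :=
    IsScalarTower.of_algebraMap_eq' (RingHom.ext fun r => by
      show MvPolynomial.C (algebraMap R B r) =
        MvPolynomial.map (algebraMap A' B) (MvPolynomial.C (algebraMap R A' r))
      rw [MvPolynomial.map_C, ← IsScalarTower.algebraMap_apply])
  haveI t6 : IsScalarTower (MvPolynomial n L) (MvPolynomial n A) (MvPolynomial n B) :=
    IsScalarTower.of_algebraMap_eq' (by
      show MvPolynomial.map (algebraMap L B) =
        (MvPolynomial.map (algebraMap A B)).comp (MvPolynomial.map (algebraMap L A))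
      rw [mv_map_comp, ← IsScalarTower.algebraMap_eq])
  haveI t7 : IsScalarTower (MvPolynomial n L) (MvPolynomial n A') (MvPolynomial n B) :=
    IsScalarTower.of_algebraMap_eq' (by
      show MvPolynomial.map (algebraMap L B) =
        (MvPolynomial.map (algebraMap A' B)).comp (MvPolynomial.map (algebraMap L A'))
      rw [mv_map_comp, ← IsScalarTower.algebraMap_eq])
  obtain ⟨κ, hκ⟩ : ∃ κ : MvPolynomial n K₁ →+* MvPolynomial n L,
      κ = MvPolynomial.map (algebraMap K₁ L) := ⟨_, rfl⟩
  haveI cκ : RCompat R κ := by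
    rw [hκ]
    infer_instance
  have hκa : κ (MvPolynomial.C a) = MvPolynomial.C (algebraMap K₁ L a) := by
    rw [hκ, MvPolynomial.map_C]
  have hκb : κ (MvPolynomial.C b) = MvPolynomial.C (algebraMap K₁ L b) := by
    rw [hκ, MvPolynomial.map_C]
  haveI l1 : IsLocalization.Away (κ (MvPolynomial.C a)) (MvPolynomial n A) := by
    rw [hκa]
    exact away_mvPolynomial n (algebraMap K₁ L a)
  haveI l2 : IsLocalization.Away (κ (MvPolynomial.C b)) (MvPolynomial n A') := by
    rw [hκb]
    exact away_mvPolynomial n (algebraMap K₁ L b)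
  haveI l3 : IsLocalization.Away (κ (MvPolynomial.C a) * κ (MvPolynomial.C b))
      (MvPolynomial n B) := by
    rw [hκa, hκb, ← map_mul]
    exact away_mvPolynomial n (algebraMap K₁ L a * algebraMap K₁ L b)
  have hcop : IsCoprime (MvPolynomial.C a : MvPolynomial n K₁) (MvPolynomial.C b) := by
    obtain ⟨u, v, huv⟩ := hab
    exact ⟨MvPolynomial.C u, MvPolynomial.C v, by
      rw [← map_mul, ← map_mul, ← map_add, huv, map_one]⟩
  have hj' : ((MvPolynomial.C : L →+* MvPolynomial n L).comp ic₀).comp j =
      κ.comp ((MvPolynomial.C : K₁ →+* MvPolynomial n K₁).comp j₀) := by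
    rw [RingHom.comp_assoc, hj, hκ, ← RingHom.comp_assoc, ← RingHom.comp_assoc,
      MvPolynomial.map_comp_C]
  -- the homothety
  have eB : algebraMap (MvPolynomial n L) (MvPolynomial n B) =
      MvPolynomial.map (algebraMap L B) := rfl
  have eA : algebraMap (MvPolynomial n L) (MvPolynomial n A) =
      MvPolynomial.map (algebraMap L A) := rfl
  have eA' : algebraMap (MvPolynomial n L) (MvPolynomial n A') =
      MvPolynomial.map (algebraMap L A') := rfl
  have eAB : algebraMap (MvPolynomial n A) (MvPolynomial n B) =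
      MvPolynomial.map (algebraMap A B) := rfl
  have eAB' : algebraMap (MvPolynomial n A') (MvPolynomial n B) =
      MvPolynomial.map (algebraMap A' B) := rfl
  have hg' : SpOMap R (evalRingHom (0 : MvPolynomial n B)) ≫ SpOMap R (hmt n B) ≫ g = 1 := by
    rw [SpOMap_comp_assoc, SpOMap_congr R (eval_zero_comp_hmt (n := n) (L := B)),
      ← SpOMap_comp_assoc, hg, pb_one]
  have hinv' : InvT δ
      (C.comp ((algebraMap (MvPolynomial n L) (MvPolynomial n B)).comp
        ((MvPolynomial.C : L →+* MvPolynomial n L).comp ic₀)))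
      (mapRingHom ((algebraMap (MvPolynomial n L) (MvPolynomial n B)).comp κ))
      (SpOMap R (hmt n B) ≫ g) := by
    refine hinv.pb (hmt n B) (hmt n K₁) _ ?_ _ ?_
    · rw [eB, hκ, mv_map_comp, hmt_map]
    · rw [eB]
      refine RingHom.ext fun c => ?_
      simp only [RingHom.comp_apply, MvPolynomial.map_C, hmt_C]
  obtain ⟨g₁, g₂, hdec, hi₁, hi₂⟩ := quillen_tw hδ κ
    ((MvPolynomial.C : L →+* MvPolynomial n L).comp ic₀)
    ((MvPolynomial.C : K₁ →+* MvPolynomial n K₁).comp j₀) hj' (MvPolynomial.C a)
    (MvPolynomial.C b) hcop (MvPolynomial n A) (MvPolynomial n A') (MvPolynomial n B)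
    (SpOMap R (hmt n B) ≫ g) hg' hinv'
  refine ⟨SpOMap R (evalRingHom (1 : MvPolynomial n A)) ≫ g₁,
    SpOMap R (evalRingHom (1 : MvPolynomial n A')) ≫ g₂, ?_, ?_, ?_⟩
  · have h1 : g = SpOMap R (evalRingHom (1 : MvPolynomial n B)) ≫ SpOMap R (hmt n B) ≫ g := by
      rw [SpOMap_comp_assoc, SpOMap_congr R (eval_one_comp_hmt (n := n) (L := B)), pb_id]
    rw [h1, hdec, pb_mul, SpOMap_comp_assoc, SpOMap_comp_assoc, SpOMap_comp_assoc,
      SpOMap_comp_assoc,
      SpOMap_congr R (show (evalRingHom 1).comp
        (mapRingHom (algebraMap (MvPolynomial n A) (MvPolynomial n B))) =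
        (MvPolynomial.map (algebraMap A B)).comp (evalRingHom 1) from eval_one_comp_map _),
      SpOMap_congr R (show (evalRingHom 1).comp
        (mapRingHom (algebraMap (MvPolynomial n A') (MvPolynomial n B))) =
        (MvPolynomial.map (algebraMap A' B)).comp (evalRingHom 1) from eval_one_comp_map _)]
  · refine hi₁.pb (evalRingHom (1 : MvPolynomial n A)) (evalRingHom (1 : MvPolynomial n K₁)) _
      ?_ _ ?_
    · rw [eval_one_comp_map, eA, hκ, mv_map_comp]
    · rw [eA]
      refine RingHom.ext fun c => ?_
      simp only [RingHom.comp_apply, MvPolynomial.map_C, coe_evalRingHom, eval_C]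
  · refine hi₂.pb (evalRingHom (1 : MvPolynomial n A')) (evalRingHom (1 : MvPolynomial n K₁)) _
      ?_ _ ?_
    · rw [eval_one_comp_map, eA', hκ, mv_map_comp]
    · rw [eA']
      refine RingHom.ext fun c => ?_
      simp only [RingHom.comp_apply, MvPolynomial.map_C, coe_evalRingHom, eval_C]

end QuillenMv

end Groth.Agent.Lib.TLineH4
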