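import Mathlib
import Groth.Agent.Lib.TDescC_helper4
import Groth.Agent.Lib.TDescE1_helper4
import Groth.Agent.Lib.TorsorIso_helper7

/-!
# Twisted-invariant points of a torsor over a polynomial ring (helper4)

* `delta`: the twisting family attached to a point `x₂` of `Z₂` over a cover `Spec C ⟶ Spec K`.
* `InvY`: twisted invariance of points of `Z₂`.
* `exists_yU`: from an equivariant map `P ×_U Spec U[t] ⟶ Z₂` and the point `x₂`, a
  twisted-invariant point of `Z₂` over `C_U[t]` normalised at `t = 0`.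
-/

set_option autoImplicit false
set_option linter.style.haveILetI false
set_option linter.unusedSectionVars false
universe u
open CategoryTheory CategoryTheory.Limits AlgebraicGeometry MonoidalCategory
  CartesianMonoidalCategory MonObj

namespace Groth.Agent.Lib.TLineH4

open Groth.Agent.Lib.GlueH4 Groth.Agent.Lib.QLimH4 Groth.Agent.Lib.QGrpH4 SchFpqcCovH7

section Delta

variable {R : Type u} [CommRing R] {G : Over (Spec (CommRingCat.of R))} [GrpObj G]
  {B₂ : Scheme.{u}} (p₂ : B₂ ⟶ Spec (CommRingCat.of R)) {Z₂ : Over B₂}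
  (a₂ : AlgGrp.Action (Red.bc p₂ G) Z₂) (ha₂ : NonAbH1.IsPseudoTorsorSch a₂)
  {K C : Type u} [CommRing K] [CommRing C] [Algebra R K] [Algebra K C] [Algebra R C]
  [IsScalarTower R K C]
  (z : Spec (CommRingCat.of K) ⟶ B₂) (hz : z ≫ p₂ = SpM (algebraMap R K))
  (x₂ : Spec (CommRingCat.of C) ⟶ Z₂.left) (hx₂ : x₂ ≫ Z₂.hom = SpM (algebraMap K C) ≫ z)

include hx₂ in
theorem delta_aux1 {D : Type u} [CommRing D] (ν ν' : C →+* D)
    (h : ν.comp (algebraMap K C) = ν'.comp (algebraMap K C)) :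
    (SpM ν ≫ x₂) ≫ Z₂.hom = (SpM ν' ≫ x₂) ≫ Z₂.hom := by
  rw [Category.assoc, Category.assoc, hx₂, ← Category.assoc, ← Category.assoc, ← SpM_comp,
    ← SpM_comp, h]

include hx₂ hz in
theorem delta_aux2 {D : Type u} [CommRing D] [Algebra R D] (ν' : C →+* D)
    (h : ν'.comp (algebraMap R C) = algebraMap R D) :
    ((SpM ν' ≫ x₂) ≫ Z₂.hom) ≫ p₂ = SpM (algebraMap R D) := by
  calc ((SpM ν' ≫ x₂) ≫ Z₂.hom) ≫ p₂
      = SpM ν' ≫ (x₂ ≫ Z₂.hom) ≫ p₂ := by simp only [Category.assoc]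
    _ = SpM ν' ≫ (SpM (algebraMap K C) ≫ z) ≫ p₂ := by rw [hx₂]
    _ = SpM ν' ≫ SpM (algebraMap K C) ≫ SpM (algebraMap R K) := by rw [Category.assoc, hz]
    _ = SpM (algebraMap R D) := by
      rw [← SpM_comp, ← SpM_comp, ← IsScalarTower.algebraMap_eq, h]

open Classical in
/-- The twisting family attached to the point `x₂`. -/
noncomputable def delta (D : Type u) [CommRing D] [Algebra R D] (ν ν' : C →+* D) :
    SpO R D ⟶ G :=
  if h : ν.comp (algebraMap K C) = ν'.comp (algebraMap K C) ∧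
      ν'.comp (algebraMap R C) = algebraMap R D then
    df p₂ a₂ ha₂ (SpM ν' ≫ x₂) (SpM ν ≫ x₂) (delta_aux1 z x₂ hx₂ ν ν' h.1)
      (delta_aux2 p₂ z hz x₂ hx₂ ν' h.2)
  else 1

theorem delta_spec {D : Type u} [CommRing D] [Algebra R D] (ν ν' : C →+* D)
    (h1 : ν.comp (algebraMap K C) = ν'.comp (algebraMap K C))
    (h2 : ν'.comp (algebraMap R C) = algebraMap R D) :
    Act p₂ a₂ (delta p₂ a₂ ha₂ z hz x₂ hx₂ D ν ν') (SpM ν' ≫ x₂) (SpM ν ≫ x₂) := by
  unfold delta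
  rw [dif_pos ⟨h1, h2⟩]
  exact ⟨_, sm_df p₂ a₂ ha₂ _ _ _ _⟩

theorem natT_delta : NatT (delta p₂ a₂ ha₂ z hz x₂ hx₂) (algebraMap K C) := by
  intro D D' _ _ _ _ h ch ν ν' cν cν' hν
  have A := delta_spec p₂ a₂ ha₂ z hz x₂ hx₂ ν ν' hν cν'.comp_eq
  have hν' : (h.comp ν).comp (algebraMap K C) = (h.comp ν').comp (algebraMap K C) := by
    rw [RingHom.comp_assoc, hν, RingHom.comp_assoc]
  have A' := delta_spec p₂ a₂ ha₂ z hz x₂ hx₂ (h.comp ν) (h.comp ν') hν'
    (RCompat.comp_eq (R := R) (φ := h.comp ν'))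
  have hfs : SpM h ≫ SpM (algebraMap R D) = SpM (algebraMap R D') := by
    rw [← SpM_comp, ch.comp_eq]
  have A2 := A.comp (SpM h) hfs
  refine Act.unique ha₂ (A2.congr rfl ?_ ?_) A'
  · rw [← Category.assoc, ← SpM_comp]
  · rw [← Category.assoc, ← SpM_comp]

end Delta

section InvYDef

variable {R : Type u} [CommRing R] {G : Over (Spec (CommRingCat.of R))} [GrpObj G]
  {B₂ : Scheme.{u}} (p₂ : B₂ ⟶ Spec (CommRingCat.of R)) {Z₂ : Over B₂}
  (a₂ : AlgGrp.Action (Red.bc p₂ G) Z₂) {Cc : Type u} [CommRing Cc]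
  (δ : ∀ (D : Type u) [CommRing D] [Algebra R D], (Cc →+* D) → (Cc →+* D) → (SpO R D ⟶ G))

/-- Twisted invariance of a point of `Z₂`. -/
def InvY {Θ Λ : Type u} [CommRing Θ] [CommRing Λ] [Algebra R Λ] (ic : Cc →+* Λ) (κ : Θ →+* Λ)
    (y : Spec (CommRingCat.of Λ) ⟶ Z₂.left) : Prop :=
  ∀ (D : Type u) [CommRing D] [Algebra R D] (ν ν' : Λ →+* D) [RCompat R ν] [RCompat R ν'],
    ν.comp κ = ν'.comp κ →
      Act p₂ a₂ (δ D (ν.comp ic) (ν'.comp ic)) (SpM ν' ≫ y) (SpM ν ≫ y)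

variable {p₂ a₂ δ}

theorem InvY.pb {Θ Θ' Λ Λ' : Type u} [CommRing Θ] [CommRing Θ'] [CommRing Λ] [CommRing Λ']
    [Algebra R Λ] [Algebra R Λ'] {ic : Cc →+* Λ} {κ : Θ →+* Λ}
    {y : Spec (CommRingCat.of Λ) ⟶ Z₂.left} (h : InvY p₂ a₂ δ ic κ y) (φ : Λ →+* Λ')
    [RCompat R φ] (φ₀ : Θ →+* Θ') (κ' : Θ' →+* Λ') (hφ : φ.comp κ = κ'.comp φ₀)
    (ic' : Cc →+* Λ') (hic : φ.comp ic = ic') : InvY p₂ a₂ δ ic' κ' (SpM φ ≫ y) := by
  intro D _ _ ν ν' _ _ hν
  have h1 : (ν.comp φ).comp κ = (ν'.comp φ).comp κ := by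
    rw [RingHom.comp_assoc, RingHom.comp_assoc, hφ, ← RingHom.comp_assoc, ← RingHom.comp_assoc, hν]
  have h2 := h D (ν.comp φ) (ν'.comp φ) h1
  rw [← hic]
  refine h2.congr rfl ?_ ?_
  · rw [SpM_comp, Category.assoc]
  · rw [SpM_comp, Category.assoc]

theorem InvY.weaken {Θ Θ' Λ : Type u} [CommRing Θ] [CommRing Θ'] [CommRing Λ] [Algebra R Λ]
    {ic : Cc →+* Λ} {κ : Θ →+* Λ} {y : Spec (CommRingCat.of Λ) ⟶ Z₂.left}
    (h : InvY p₂ a₂ δ ic κ y) (κ' : Θ' →+* Λ)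
    (hw : ∀ (D : Type u) [CommRing D] (ν ν' : Λ →+* D), ν.comp κ' = ν'.comp κ' →
      ν.comp κ = ν'.comp κ) : InvY p₂ a₂ δ ic κ' y := by
  intro D _ _ ν ν' _ _ hν
  exact h D ν ν' (hw D ν ν' hν)

theorem pb_hfs {Λ D : Type u} [CommRing Λ] [CommRing D] [Algebra R Λ] [Algebra R D] (ν : Λ →+* D)
    [h : RCompat R ν] : SpM ν ≫ SpM (algebraMap R Λ) = SpM (algebraMap R D) := by
  rw [← SpM_comp, h.comp_eq]

theorem InvY.act {Θ Λ : Type u} [CommRing Θ] [CommRing Λ] [Algebra R Λ]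
    {ic : Cc →+* Λ} {κ : Θ →+* Λ} {y y' : Spec (CommRingCat.of Λ) ⟶ Z₂.left}
    {g : SpO R Λ ⟶ G} (hg : InvT δ ic κ g) (hy : InvY p₂ a₂ δ ic κ y)
    (hA : Act p₂ a₂ g y y') : InvY p₂ a₂ δ ic κ y' := by
  intro D _ _ ν ν' _ _ hν
  have A : Act p₂ a₂ (SpOMap R ν ≫ g) (SpM ν ≫ y) (SpM ν ≫ y') := hA.comp (SpM ν) (pb_hfs ν)
  have A' : Act p₂ a₂ (SpOMap R ν' ≫ g) (SpM ν' ≫ y) (SpM ν' ≫ y') :=
    hA.comp (SpM ν') (pb_hfs ν')
  have B := hy D ν ν' hν
  have h3 := (A'.inv.mul B).mul A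
  refine h3.congr ?_ rfl rfl
  rw [hg D ν ν' hν]
  group

theorem InvT.of_act (ha₂ : NonAbH1.IsPseudoTorsorSch a₂) {Θ Λ : Type u} [CommRing Θ] [CommRing Λ]
    [Algebra R Λ] {ic : Cc →+* Λ} {κ : Θ →+* Λ} {y y' : Spec (CommRingCat.of Λ) ⟶ Z₂.left}
    {g : SpO R Λ ⟶ G} (hy : InvY p₂ a₂ δ ic κ y) (hy' : InvY p₂ a₂ δ ic κ y')
    (hA : Act p₂ a₂ g y' y) : InvT δ ic κ g := by
  intro D _ _ ν ν' _ _ hν
  have A : Act p₂ a₂ (SpOMap R ν ≫ g) (SpM ν ≫ y') (SpM ν ≫ y) := hA.comp (SpM ν) (pb_hfs ν)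
  have A' : Act p₂ a₂ (SpOMap R ν' ≫ g) (SpM ν' ≫ y') (SpM ν' ≫ y) :=
    hA.comp (SpM ν') (pb_hfs ν')
  have B := hy D ν ν' hν
  have B' := hy' D ν ν' hν
  have h3 := Act.unique ha₂ A ((B'.inv.mul A').mul B)
  rw [h3, _root_.mul_assoc]

end InvYDef

section Preimage

variable {S : Scheme.{u}} {G : Over S} [GrpObj G] {B₁ B₂ M : Scheme.{u}}
  {p₁ : B₁ ⟶ S} {p₂ : B₂ ⟶ S} {Z₁ : Over B₁} {Z₂ : Over B₂}
  {a₁ : AlgGrp.Action (Red.bc p₁ G) Z₁} {a₂ : AlgGrp.Action (Red.bc p₂ G) Z₂}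
  {m₁ : M ⟶ B₁} {m₂ : M ⟶ B₂} {d : M ⟶ S} (h₁ : m₁ ≫ p₁ = d) (h₂ : m₂ ≫ p₂ = d)

include h₁ h₂ in
theorem EqMap.isIso_toHom (E : EqMap p₁ p₂ a₁ a₂ m₁ m₂)
    (ht₁ : NonAbH1.IsTorsorFor Scheme.fppfPrecoverage a₁)
    (ht₂ : NonAbH1.IsTorsorFor Scheme.fppfPrecoverage a₂) : IsIso E.toHom := by
  have hq : ∀ {Y : Over M} (a : AlgGrp.Action (Red.bc d G) Y),
      NonAbH1.IsTorsorFor Scheme.fppfPrecoverage a →
        NonAbH1.IsTorsorFor Scheme.fpqcPrecoverage a := by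
    intro Y a ha
    obtain ⟨Rr, hR, hsec⟩ := ha.2
    exact ⟨ha.1, Rr, Scheme.fppfPrecoverage_le_fpqcPrecoverage _ hR, hsec⟩
  exact TorsorIso_helper7.main _ _
    (hq _ (isTorsorFor_pullAct m₁ p₁ h₁ a₁ _ ht₁)) (hq _ (isTorsorFor_pullAct m₂ p₂ h₂ a₂ _ ht₂))
    E.toHom (E.toHom_equivariant h₁ h₂)

include h₁ h₂ in
theorem EqMap.exists_preimage (E : EqMap p₁ p₂ a₁ a₂ m₁ m₂)
    (ht₁ : NonAbH1.IsTorsorFor Scheme.fppfPrecoverage a₁)
    (ht₂ : NonAbH1.IsTorsorFor Scheme.fppfPrecoverage a₂) {T : Scheme.{u}}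
    (w₂ : T ⟶ Z₂.left) (m : T ⟶ M) (hw₂ : w₂ ≫ Z₂.hom = m ≫ m₂) :
    ∃ (w : T ⟶ Z₁.left) (hw : w ≫ Z₁.hom = m ≫ m₁), pullback.lift w m hw ≫ E.φ = w₂ := by
  haveI := E.isIso_toHom h₁ h₂ ht₁ ht₂
  obtain ⟨iv, hiv⟩ : ∃ iv : pullback Z₂.hom m₂ ⟶ pullback Z₁.hom m₁, iv = (inv E.toHom).left :=
    ⟨_, rfl⟩
  have hiv1 : iv ≫ E.toHom.left = 𝟙 _ := by
    rw [hiv]
    exact congrArg CommaMorphism.left (IsIso.inv_hom_id E.toHom)
  have hivs : iv ≫ pullback.snd Z₁.hom m₁ = pullback.snd Z₂.hom m₂ := by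
    rw [hiv]
    exact Over.w (inv E.toHom)
  obtain ⟨v, hv⟩ : ∃ v : T ⟶ pullback Z₁.hom m₁, v = pullback.lift w₂ m hw₂ ≫ iv := ⟨_, rfl⟩
  have hvs : v ≫ pullback.snd Z₁.hom m₁ = m := by
    rw [hv, Category.assoc, hivs, pullback.lift_snd]
  have hw : (v ≫ pullback.fst Z₁.hom m₁) ≫ Z₁.hom = m ≫ m₁ := by
    rw [Category.assoc, pullback.condition, ← Category.assoc, hvs]
  refine ⟨v ≫ pullback.fst Z₁.hom m₁, hw, ?_⟩
  have hvv : pullback.lift (v ≫ pullback.fst Z₁.hom m₁) m hw = v := by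
    apply pullback.hom_ext
    · rw [pullback.lift_fst]
    · rw [pullback.lift_snd, hvs]
  have e1 : v ≫ E.toHom.left = pullback.lift w₂ m hw₂ := by
    rw [hv, Category.assoc, hiv1, Category.comp_id]
  rw [hvv, ← E.toHom_left_fst, ← Category.assoc, e1, pullback.lift_fst]

theorem EqMap.bc_lift (E : EqMap p₁ p₂ a₁ a₂ m₁ m₂) {M' : Scheme.{u}} (k : M' ⟶ M)
    {T : Scheme.{u}} (w : T ⟶ Z₁.left) (m : T ⟶ M') (hw : w ≫ Z₁.hom = m ≫ k ≫ m₁)
    (hw' : w ≫ Z₁.hom = (m ≫ k) ≫ m₁) :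
    pullback.lift w m hw ≫ (E.bc k).φ = pullback.lift w (m ≫ k) hw' ≫ E.φ := by
  show pullback.lift w m hw ≫ pullback.lift (pullback.fst Z₁.hom (k ≫ m₁))
    (pullback.snd Z₁.hom (k ≫ m₁) ≫ k) _ ≫ E.φ = _
  rw [← Category.assoc]
  congr 1
  apply pullback.hom_ext
  · rw [Category.assoc, pullback.lift_fst, pullback.lift_fst, pullback.lift_fst]
  · rw [Category.assoc, pullback.lift_snd, ← Category.assoc, pullback.lift_snd,
      pullback.lift_snd]

end Preimage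

section YU

variable {R : Type u} [CommRing R] {G : Over (Spec (CommRingCat.of R))} [GrpObj G]
  (n : Type u)
  {B₂ : Scheme.{u}} (p₂ : B₂ ⟶ Spec (CommRingCat.of R)) {Z₂ : Over B₂}
  (a₂ : AlgGrp.Action (Red.bc p₂ G) Z₂)
  (c : Spec (CommRingCat.of (MvPolynomial n R)) ⟶ B₂)
  (hc : c ≫ p₂ = SpM (algebraMap R (MvPolynomial n R)))

/-- The chart of the base over an `R`-algebra `U`. -/
noncomputable def tauU (U : Type u) [CommRing U] [Algebra R U] :
    Spec (CommRingCat.of (MvPolynomial n U)) ⟶ B₂ :=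
  SpM (MvPolynomial.map (algebraMap R U)) ≫ c

theorem tauU_res {U U' : Type u} [CommRing U] [CommRing U'] [Algebra R U] [Algebra R U']
    (φ : U →+* U') [h : RCompat R φ] :
    SpM (MvPolynomial.map (σ := n) φ) ≫ tauU n c U = tauU n c U' := by
  unfold tauU
  rw [← Category.assoc, ← SpM_comp, mv_map_comp, h.comp_eq]

include hc in
theorem tauU_comp (U : Type u) [CommRing U] [Algebra R U] :
    tauU n c U ≫ p₂ = SpM (algebraMap R (MvPolynomial n U)) := by
  unfold tauU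
  rw [Category.assoc, hc, ← SpM_comp]
  congr 1
  refine RingHom.ext fun r => ?_
  show MvPolynomial.map (algebraMap R U) (MvPolynomial.C r) = MvPolynomial.C (algebraMap R U r)
  rw [MvPolynomial.map_C]

/-- The zero section of the chart. -/
noncomputable def zsec (K : Type u) [CommRing K] [Algebra R K] :
    Spec (CommRingCat.of K) ⟶ B₂ :=
  SpM (MvPolynomial.constantCoeff : MvPolynomial n K →+* K) ≫ tauU n c K

include hc in
theorem zsec_comp (K : Type u) [CommRing K] [Algebra R K] :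
    zsec n c K ≫ p₂ = SpM (algebraMap R K) := by
  unfold zsec
  rw [Category.assoc, tauU_comp n p₂ c hc]
  exact pb_hfs _

theorem zsec_res {U U' : Type u} [CommRing U] [CommRing U'] [Algebra R U] [Algebra R U']
    (φ : U →+* U') [h : RCompat R φ] :
    SpM φ ≫ zsec n c U = zsec n c U' := by
  unfold zsec
  calc SpM φ ≫ SpM (MvPolynomial.constantCoeff : MvPolynomial n U →+* U) ≫ tauU n c U
      = SpM (φ.comp (MvPolynomial.constantCoeff : MvPolynomial n U →+* U)) ≫ tauU n c U := by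
        rw [← Category.assoc, ← SpM_comp]
    _ = SpM ((MvPolynomial.constantCoeff : MvPolynomial n U' →+* U').comp
          (MvPolynomial.map φ)) ≫ tauU n c U := by
        rw [MvPolynomial.constantCoeff_comp_map]
    _ = SpM (MvPolynomial.constantCoeff : MvPolynomial n U' →+* U') ≫
          SpM (MvPolynomial.map φ) ≫ tauU n c U := by
        rw [SpM_comp, Category.assoc]
    _ = SpM (MvPolynomial.constantCoeff : MvPolynomial n U' →+* U') ≫ tauU n c U' := by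
        rw [tauU_res n c φ]

theorem SpM_id' (U : Type u) [CommRing U] : SpM (RingHom.id U) = 𝟙 (Spec (CommRingCat.of U)) := by
  show Spec.map (CommRingCat.ofHom (RingHom.id U)) = 𝟙 _
  rw [show CommRingCat.ofHom (RingHom.id U) = 𝟙 (CommRingCat.of U) from rfl, Spec.map_id]

theorem cc_C (U : Type u) [CommRing U] :
    SpM (MvPolynomial.constantCoeff : MvPolynomial n U →+* U) ≫
      SpM (MvPolynomial.C : U →+* MvPolynomial n U) = 𝟙 _ := by
  rw [← SpM_comp, MvPolynomial.constantCoeff_comp_C, SpM_id']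

include hc in
/-- From an equivariant map `P ×_U Spec U[t] ⟶ Z₂`, a twisted-invariant point over `C_U[t]`. -/
theorem exists_yU (ht₂ : NonAbH1.IsTorsorFor Scheme.fppfPrecoverage a₂)
    {K C : Type u} [CommRing K] [CommRing C] [Algebra R K] [Algebra K C] [Algebra R C]
    [IsScalarTower R K C] (x₂ : Spec (CommRingCat.of C) ⟶ Z₂.left)
    (hx₂ : x₂ ≫ Z₂.hom = SpM (algebraMap K C) ≫ zsec n c K)
    {U CU : Type u} [CommRing U] [CommRing CU] [Algebra R U] [Algebra R CU]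
    (fU : K →+* U) [RCompat R fU] (gU : U →+* CU) [RCompat R gU] (gC : C →+* CU) [RCompat R gC]
    (hcomp : gU.comp fU = gC.comp (algebraMap K C))
    {P : Over (Spec (CommRingCat.of U))}
    (aP : AlgGrp.Action (Red.bc (SpM (algebraMap R U)) G) P)
    (htP : NonAbH1.IsTorsorFor Scheme.fppfPrecoverage aP)
    (E : EqMap (SpM (algebraMap R U)) p₂ aP a₂
      (SpM (MvPolynomial.C : U →+* MvPolynomial n U)) (tauU n c U)) :
    ∃ y : Spec (CommRingCat.of (MvPolynomial n CU)) ⟶ Z₂.left,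
      y ≫ Z₂.hom = tauU n c CU ∧
      SpM (MvPolynomial.constantCoeff : MvPolynomial n CU →+* CU) ≫ y = SpM gC ≫ x₂ ∧
      InvY p₂ a₂ (delta p₂ a₂ ht₂.1 (zsec n c K) (zsec_comp n p₂ c hc K) x₂ hx₂)
        ((MvPolynomial.C : CU →+* MvPolynomial n CU).comp gC) (MvPolynomial.map (σ := n) gU) y := by
  have hdE : SpM (MvPolynomial.C : U →+* MvPolynomial n U) ≫ SpM (algebraMap R U) =
      tauU n c U ≫ p₂ := by
    rw [tauU_comp n p₂ c hc]
    exact pb_hfs _
  have h₂z : (SpM (MvPolynomial.constantCoeff : MvPolynomial n U →+* U) ≫ tauU n c U) ≫ p₂ =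
      (SpM (MvPolynomial.constantCoeff : MvPolynomial n U →+* U) ≫
        SpM (MvPolynomial.C : U →+* MvPolynomial n U)) ≫ SpM (algebraMap R U) := by
    rw [Category.assoc, Category.assoc, hdE]
  obtain ⟨Ez, hEz⟩ : ∃ Ez : EqMap (SpM (algebraMap R U)) p₂ aP a₂
      (SpM (MvPolynomial.constantCoeff : MvPolynomial n U →+* U) ≫
        SpM (MvPolynomial.C : U →+* MvPolynomial n U))
      (SpM (MvPolynomial.constantCoeff : MvPolynomial n U →+* U) ≫ tauU n c U),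
      Ez = E.bc (SpM (MvPolynomial.constantCoeff : MvPolynomial n U →+* U)) := ⟨_, rfl⟩
  have hw₂ : (SpM gC ≫ x₂) ≫ Z₂.hom =
      SpM gU ≫ SpM (MvPolynomial.constantCoeff : MvPolynomial n U →+* U) ≫ tauU n c U := by
    have e1 : SpM gU ≫ zsec n c U = SpM gC ≫ SpM (algebraMap K C) ≫ zsec n c K := by
      rw [← zsec_res n c fU, ← Category.assoc, ← Category.assoc, ← SpM_comp, ← SpM_comp, hcomp]
    rw [Category.assoc, hx₂]
    exact e1.symm
  obtain ⟨wU, hwU, hφ0⟩ := Ez.exists_preimage rfl h₂z htP ht₂ (SpM gC ≫ x₂) (SpM gU) hw₂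
  have hwU' : wU ≫ P.hom = SpM gU := by
    rw [hwU, cc_C, Category.comp_id]
  have hcond : (SpM (MvPolynomial.C : CU →+* MvPolynomial n CU) ≫ wU) ≫ P.hom =
      SpM (MvPolynomial.map (σ := n) gU) ≫ SpM (MvPolynomial.C : U →+* MvPolynomial n U) := by
    rw [Category.assoc, hwU', ← SpM_comp, ← SpM_comp, MvPolynomial.map_comp_C]
  refine ⟨pullback.lift (SpM (MvPolynomial.C : CU →+* MvPolynomial n CU) ≫ wU)
    (SpM (MvPolynomial.map (σ := n) gU)) hcond ≫ E.φ, ?_, ?_, ?_⟩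
  · rw [Category.assoc, E.hover, ← Category.assoc, pullback.lift_snd, tauU_res]
  · -- normalisation at zero
    have e1 : SpM (MvPolynomial.constantCoeff : MvPolynomial n CU →+* CU) ≫
        pullback.lift (SpM (MvPolynomial.C : CU →+* MvPolynomial n CU) ≫ wU)
          (SpM (MvPolynomial.map (σ := n) gU)) hcond =
        pullback.lift wU (SpM gU ≫ SpM (MvPolynomial.constantCoeff : MvPolynomial n U →+* U))
          (by rw [hwU, Category.assoc]) := by
      apply pullback.hom_ext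
      · rw [Category.assoc, pullback.lift_fst, pullback.lift_fst, ← Category.assoc, cc_C,
          Category.id_comp]
      · rw [Category.assoc, pullback.lift_snd, pullback.lift_snd, ← SpM_comp, ← SpM_comp,
          MvPolynomial.constantCoeff_comp_map]
    rw [← Category.assoc, e1, ← hφ0, hEz]
    exact (EqMap.bc_lift E _ wU (SpM gU) hwU _).symm
  · intro D _ _ ν ν' cν cν' hν
    -- agreement on constants
    have h00 : (ν.comp MvPolynomial.C).comp gU = (ν'.comp MvPolynomial.C).comp gU := by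
      have h := congrArg (fun φ : MvPolynomial n U →+* D => φ.comp MvPolynomial.C) hν
      simp only [RingHom.comp_assoc, MvPolynomial.map_comp_C] at h
      exact h
    have hwP : (SpM (ν.comp MvPolynomial.C) ≫ wU) ≫ P.hom =
        SpM ((ν.comp MvPolynomial.C).comp gU) := by
      rw [Category.assoc, hwU', ← SpM_comp]
    have hwP' : (SpM (ν'.comp MvPolynomial.C) ≫ wU) ≫ P.hom =
        SpM ((ν.comp MvPolynomial.C).comp gU) := by
      rw [Category.assoc, hwU', ← SpM_comp, h00]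
    have hbase : ((SpM (ν'.comp MvPolynomial.C) ≫ wU) ≫ P.hom) ≫ SpM (algebraMap R U) =
        SpM (algebraMap R D) := by
      rw [hwP']
      exact pb_hfs _
    obtain ⟨cP, hcP⟩ := Act.exists htP.1 (SpM (ν'.comp MvPolynomial.C) ≫ wU)
      (SpM (ν.comp MvPolynomial.C) ≫ wU) (hwP.trans hwP'.symm) hbase
    -- the value over `D`
    have hmD : ∀ ν₁ : MvPolynomial n CU →+* D, SpM ν₁ ≫
        pullback.lift (SpM (MvPolynomial.C : CU →+* MvPolynomial n CU) ≫ wU)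
          (SpM (MvPolynomial.map (σ := n) gU)) hcond =
        pullback.lift (SpM (ν₁.comp MvPolynomial.C) ≫ wU) (SpM (ν₁.comp (MvPolynomial.map gU)))
          (by rw [Category.assoc, hwU', ← SpM_comp, ← SpM_comp, RingHom.comp_assoc,
            RingHom.comp_assoc, MvPolynomial.map_comp_C]) := by
      intro ν₁
      apply pullback.hom_ext
      · rw [Category.assoc, pullback.lift_fst, pullback.lift_fst, ← Category.assoc, ← SpM_comp]
      · rw [Category.assoc, pullback.lift_snd, pullback.lift_snd, ← SpM_comp]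
    have hz1 : (SpM (ν'.comp MvPolynomial.C) ≫ wU) ≫ P.hom =
        SpM (ν.comp (MvPolynomial.map gU)) ≫ SpM (MvPolynomial.C : U →+* MvPolynomial n U) := by
      rw [hwP', ← SpM_comp, RingHom.comp_assoc, RingHom.comp_assoc, MvPolynomial.map_comp_C]
    have hz2 : (SpM (ν.comp MvPolynomial.C) ≫ wU) ≫ P.hom =
        SpM (ν.comp (MvPolynomial.map gU)) ≫ SpM (MvPolynomial.C : U →+* MvPolynomial n U) := by
      rw [hwP, ← SpM_comp, RingHom.comp_assoc, RingHom.comp_assoc, MvPolynomial.map_comp_C]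
    have A1 := E.act hdE hcP (SpM (ν.comp (MvPolynomial.map gU))) hz1 hz2
    -- the value at zero
    have hz3 : (SpM (ν'.comp MvPolynomial.C) ≫ wU) ≫ P.hom =
        SpM ((ν.comp MvPolynomial.C).comp gU) ≫
          SpM (MvPolynomial.constantCoeff : MvPolynomial n U →+* U) ≫
          SpM (MvPolynomial.C : U →+* MvPolynomial n U) := by
      rw [hwP', cc_C, Category.comp_id]
    have hz4 : (SpM (ν.comp MvPolynomial.C) ≫ wU) ≫ P.hom =
        SpM ((ν.comp MvPolynomial.C).comp gU) ≫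
          SpM (MvPolynomial.constantCoeff : MvPolynomial n U →+* U) ≫
          SpM (MvPolynomial.C : U →+* MvPolynomial n U) := by
      rw [hwP, cc_C, Category.comp_id]
    have A0 := Ez.act h₂z.symm hcP (SpM ((ν.comp MvPolynomial.C).comp gU)) hz3 hz4
    have hl : ∀ (ν₁ : CU →+* D) (h1 : (SpM ν₁ ≫ wU) ≫ P.hom =
        SpM ((ν.comp MvPolynomial.C).comp gU) ≫
          SpM (MvPolynomial.constantCoeff : MvPolynomial n U →+* U) ≫
          SpM (MvPolynomial.C : U →+* MvPolynomial n U))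
        (h2 : SpM ν₁ ≫ SpM gU = SpM ((ν.comp MvPolynomial.C).comp gU)),
        pullback.lift (SpM ν₁ ≫ wU) (SpM ((ν.comp MvPolynomial.C).comp gU)) h1 ≫ Ez.φ =
          SpM (ν₁.comp gC) ≫ x₂ := by
      intro ν₁ h1 h2
      have e : pullback.lift (SpM ν₁ ≫ wU) (SpM ((ν.comp MvPolynomial.C).comp gU)) h1 =
          SpM ν₁ ≫ pullback.lift wU (SpM gU) hwU := by
        apply pullback.hom_ext
        · rw [Category.assoc, pullback.lift_fst, pullback.lift_fst]
        · rw [Category.assoc, pullback.lift_snd, pullback.lift_snd, h2]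
      rw [e, Category.assoc, hφ0, ← Category.assoc, ← SpM_comp]
    have A0' := A0.congr rfl (hl (ν'.comp MvPolynomial.C) hz3 (by rw [← SpM_comp, h00]))
      (hl (ν.comp MvPolynomial.C) hz4 (by rw [← SpM_comp]))
    have hd1 : (ν.comp ((MvPolynomial.C : CU →+* MvPolynomial n CU).comp gC)).comp
        (algebraMap K C) = (ν'.comp ((MvPolynomial.C : CU →+* MvPolynomial n CU).comp gC)).comp
        (algebraMap K C) := by
      have e : ∀ ν₁ : MvPolynomial n CU →+* D,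
          (ν₁.comp ((MvPolynomial.C : CU →+* MvPolynomial n CU).comp gC)).comp (algebraMap K C) =
            ((ν₁.comp MvPolynomial.C).comp gU).comp fU := by
        intro ν₁
        rw [RingHom.comp_assoc, RingHom.comp_assoc, ← hcomp]
        rfl
      rw [e, e, h00]
    have Ad := delta_spec p₂ a₂ ht₂.1 (zsec n c K) (zsec_comp n p₂ c hc K) x₂ hx₂
      (ν.comp ((MvPolynomial.C : CU →+* MvPolynomial n CU).comp gC))
      (ν'.comp ((MvPolynomial.C : CU →+* MvPolynomial n CU).comp gC)) hd1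
      (RCompat.comp_eq (R := R)
        (φ := ν'.comp ((MvPolynomial.C : CU →+* MvPolynomial n CU).comp gC)))
    have hcd := Act.unique ht₂.1 A0' Ad
    rw [← hcd]
    refine A1.congr rfl ?_ ?_
    · rw [← Category.assoc, hmD ν']
      congr 1
      apply pullback.hom_ext
      · rw [pullback.lift_fst, pullback.lift_fst]
      · rw [pullback.lift_snd, pullback.lift_snd, hν]
    · rw [← Category.assoc, hmD ν]

end YU

end Groth.Agent.Lib.TLineH4
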