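import Mathlib
import Groth.Agent.Lib.TDescE2_helper4

/-!
# Patching twisted-invariant points (helper4)

`patch_y`: twisted-invariant points of the torsor `Z₂` over `C_a[t]` and `C_b[t]` (normalised at
`t = 0`) can be modified and glued to a twisted-invariant point over `C[t]`, when `(a, b) = 1`.
-/

set_option autoImplicit false
set_option linter.style.haveILetI false
set_option linter.unusedSectionVars false
universe u
open CategoryTheory CategoryTheory.Limits AlgebraicGeometry MonoidalCategory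
  CartesianMonoidalCategory MonObj

namespace Groth.Agent.Lib.TLineH4

open Groth.Agent.Lib.GlueH4 Groth.Agent.Lib.QLimH4 Groth.Agent.Lib.QGrpH4 SchFpqcCovH7

section Loc

attribute [local instance] MvPolynomial.algebraMvPolynomial

variable {R : Type u} [CommRing R] {G : Over (Spec (CommRingCat.of R))} [GrpObj G]
  (n : Type u)
  {B₂ : Scheme.{u}} (p₂ : B₂ ⟶ Spec (CommRingCat.of R)) {Z₂ : Over B₂}
  (a₂ : AlgGrp.Action (Red.bc p₂ G) Z₂)
  (c : Spec (CommRingCat.of (MvPolynomial n R)) ⟶ B₂)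
  (hc : c ≫ p₂ = SpM (algebraMap R (MvPolynomial n R)))
  (ha₂ : NonAbH1.IsPseudoTorsorSch a₂)
  {K C : Type u} [CommRing K] [CommRing C] [Algebra R K] [Algebra K C] [Algebra R C]
  [IsScalarTower R K C] (x₂ : Spec (CommRingCat.of C) ⟶ Z₂.left)
  (hx₂ : x₂ ≫ Z₂.hom = SpM (algebraMap K C) ≫ zsec n c K)

include hc in
/-- Twisted invariance can be checked after localising the test ring. -/
theorem invY_loc (f : K) (CA : Type u) [CommRing CA] [Algebra C CA] [Algebra R CA]
    [IsScalarTower R C CA] [IsLocalization.Away (algebraMap K C f) CA]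
    (y : Spec (CommRingCat.of (MvPolynomial n C)) ⟶ Z₂.left)
    (hy : y ≫ Z₂.hom = tauU n c C)
    (hi : InvY p₂ a₂ (delta p₂ a₂ ha₂ (zsec n c K) (zsec_comp n p₂ c hc K) x₂ hx₂)
      ((MvPolynomial.C : CA →+* MvPolynomial n CA).comp (algebraMap C CA))
      (MvPolynomial.map (σ := n) ((algebraMap C CA).comp (algebraMap K C)))
      (SpM (MvPolynomial.map (σ := n) (algebraMap C CA)) ≫ y))
    (D : Type u) [CommRing D] [Algebra R D] (ν ν' : MvPolynomial n C →+* D) [cν : RCompat R ν]
    [cν' : RCompat R ν'] (hν : ν.comp (MvPolynomial.map (algebraMap K C)) =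
      ν'.comp (MvPolynomial.map (algebraMap K C)))
    (hb : ((SpM ν' ≫ y) ≫ Z₂.hom) ≫ p₂ = SpM (algebraMap R D)) :
    SpM (algebraMap D (Localization.Away (ν (MvPolynomial.C (algebraMap K C f))))) ≫
        sm p₂ a₂ (delta p₂ a₂ ha₂ (zsec n c K) (zsec_comp n p₂ c hc K) x₂ hx₂ D
          (ν.comp MvPolynomial.C) (ν'.comp MvPolynomial.C)) (SpM ν' ≫ y) hb =
      SpM (algebraMap D (Localization.Away (ν (MvPolynomial.C (algebraMap K C f))))) ≫
        SpM ν ≫ y := by
  obtain ⟨rD, hrD⟩ : ∃ rD : D, rD = ν (MvPolynomial.C (algebraMap K C f)) := ⟨_, rfl⟩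
  rw [← hrD]
  have hrD' : rD = ν' (MvPolynomial.C (algebraMap K C f)) := by
    rw [hrD]
    have h := congrArg (fun φ : MvPolynomial n K →+* D => φ (MvPolynomial.C f)) hν
    simp only [RingHom.comp_apply, MvPolynomial.map_C] at h
    exact h
  haveI lA : IsLocalization.Away (MvPolynomial.C (algebraMap K C f) : MvPolynomial n C)
      (MvPolynomial n CA) := away_mvPolynomial n (algebraMap K C f)
  have eA : algebraMap (MvPolynomial n C) (MvPolynomial n CA) =
      MvPolynomial.map (algebraMap C CA) := rfl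
  have hu : IsUnit (((algebraMap D (Localization.Away rD)).comp ν)
      (MvPolynomial.C (algebraMap K C f))) := by
    rw [RingHom.comp_apply, ← hrD]
    exact IsLocalization.Away.algebraMap_isUnit rD
  have hu' : IsUnit (((algebraMap D (Localization.Away rD)).comp ν')
      (MvPolynomial.C (algebraMap K C f))) := by
    rw [RingHom.comp_apply, ← hrD']
    exact IsLocalization.Away.algebraMap_isUnit rD
  obtain ⟨νA, hνA⟩ : ∃ νA : MvPolynomial n CA →+* Localization.Away rD,
      νA.comp (MvPolynomial.map (algebraMap C CA)) = (algebraMap D (Localization.Away rD)).comp ν :=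
    ⟨IsLocalization.Away.lift (S := MvPolynomial n CA) (MvPolynomial.C (algebraMap K C f)) hu, by
      rw [← eA]
      exact IsLocalization.Away.lift_comp _ _⟩
  obtain ⟨νA', hνA'⟩ : ∃ νA' : MvPolynomial n CA →+* Localization.Away rD,
      νA'.comp (MvPolynomial.map (algebraMap C CA)) =
        (algebraMap D (Localization.Away rD)).comp ν' :=
    ⟨IsLocalization.Away.lift (S := MvPolynomial n CA) (MvPolynomial.C (algebraMap K C f)) hu', by
      rw [← eA]
      exact IsLocalization.Away.lift_comp _ _⟩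
  haveI cal : RCompat R (algebraMap D (Localization.Away rD)) := inferInstance
  have hRA : algebraMap R (MvPolynomial n CA) =
      (MvPolynomial.map (algebraMap C CA)).comp (algebraMap R (MvPolynomial n C)) :=
    (RCompat.comp_eq (R := R) (φ := MvPolynomial.map (σ := n) (algebraMap C CA))).symm
  haveI cA : RCompat R νA := ⟨by
    rw [hRA, ← RingHom.comp_assoc, hνA, RingHom.comp_assoc, cν.comp_eq, cal.comp_eq]⟩
  haveI cA' : RCompat R νA' := ⟨by
    rw [hRA, ← RingHom.comp_assoc, hνA', RingHom.comp_assoc, cν'.comp_eq, cal.comp_eq]⟩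
  have hag : νA.comp (MvPolynomial.map (σ := n) ((algebraMap C CA).comp (algebraMap K C))) =
      νA'.comp (MvPolynomial.map (σ := n) ((algebraMap C CA).comp (algebraMap K C))) := by
    rw [← mv_map_comp, ← RingHom.comp_assoc, ← RingHom.comp_assoc, hνA, hνA', RingHom.comp_assoc,
      RingHom.comp_assoc, hν]
  have A1 := hi (Localization.Away rD) νA νA' hag
  -- rewrite the twisting element
  have e1 : νA.comp ((MvPolynomial.C : CA →+* MvPolynomial n CA).comp (algebraMap C CA)) =
      (algebraMap D (Localization.Away rD)).comp (ν.comp MvPolynomial.C) := by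
    rw [← MvPolynomial.map_comp_C, ← RingHom.comp_assoc, hνA, RingHom.comp_assoc]
  have e1' : νA'.comp ((MvPolynomial.C : CA →+* MvPolynomial n CA).comp (algebraMap C CA)) =
      (algebraMap D (Localization.Away rD)).comp (ν'.comp MvPolynomial.C) := by
    rw [← MvPolynomial.map_comp_C, ← RingHom.comp_assoc, hνA', RingHom.comp_assoc]
  have hagC : (ν.comp (MvPolynomial.C : C →+* MvPolynomial n C)).comp (algebraMap K C) =
      (ν'.comp (MvPolynomial.C : C →+* MvPolynomial n C)).comp (algebraMap K C) := by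
    have h := congrArg (fun φ : MvPolynomial n K →+* D => φ.comp MvPolynomial.C) hν
    simp only [RingHom.comp_assoc, MvPolynomial.map_comp_C] at h
    exact h
  have hnat := natT_delta p₂ a₂ ha₂ (zsec n c K) (zsec_comp n p₂ c hc K) x₂ hx₂ D
    (Localization.Away rD) (algebraMap D (Localization.Away rD)) (ν.comp MvPolynomial.C)
    (ν'.comp MvPolynomial.C) hagC
  rw [e1, e1', ← hnat] at A1
  have A2 := (Act.of_sm (p := p₂) (a := a₂) (delta p₂ a₂ ha₂ (zsec n c K)
    (zsec_comp n p₂ c hc K) x₂ hx₂ D (ν.comp MvPolynomial.C) (ν'.comp MvPolynomial.C))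
    (SpM ν' ≫ y) hb).comp (SpM (algebraMap D (Localization.Away rD))) (pb_hfs _)
  have e2 : ∀ (ν₁ : MvPolynomial n C →+* D) (νA₁ : MvPolynomial n CA →+* Localization.Away rD),
      νA₁.comp (MvPolynomial.map (algebraMap C CA)) =
        (algebraMap D (Localization.Away rD)).comp ν₁ →
      SpM νA₁ ≫ SpM (MvPolynomial.map (σ := n) (algebraMap C CA)) ≫ y =
        SpM (algebraMap D (Localization.Away rD)) ≫ SpM ν₁ ≫ y := by
    intro ν₁ νA₁ h
    rw [← Category.assoc, ← SpM_comp, h, SpM_comp, Category.assoc]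
  exact A2.functional (A1.congr rfl (e2 ν' νA' hνA') (e2 ν νA hνA))

include hc in
/-- **Patching** twisted-invariant points. -/
theorem patch_y [LocallyOfFinitePresentation G.hom] (a b : K) (hab : IsCoprime a b)
    (CA CA' CB : Type u) [CommRing CA] [CommRing CA'] [CommRing CB]
    [Algebra C CA] [Algebra C CA'] [Algebra C CB] [Algebra R CA] [Algebra R CA'] [Algebra R CB]
    [IsScalarTower R C CA] [IsScalarTower R C CA'] [IsScalarTower R C CB]
    [IsLocalization.Away (algebraMap K C a) CA] [IsLocalization.Away (algebraMap K C b) CA']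
    [IsLocalization.Away (algebraMap K C a * algebraMap K C b) CB]
    [Algebra CA CB] [Algebra CA' CB] [IsScalarTower C CA CB] [IsScalarTower C CA' CB]
    [IsScalarTower R CA CB] [IsScalarTower R CA' CB]
    (yA : Spec (CommRingCat.of (MvPolynomial n CA)) ⟶ Z₂.left)
    (hyA : yA ≫ Z₂.hom = tauU n c CA)
    (hyA0 : SpM (MvPolynomial.constantCoeff : MvPolynomial n CA →+* CA) ≫ yA =
      SpM (algebraMap C CA) ≫ x₂)
    (hiA : InvY p₂ a₂ (delta p₂ a₂ ha₂ (zsec n c K) (zsec_comp n p₂ c hc K) x₂ hx₂)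
      ((MvPolynomial.C : CA →+* MvPolynomial n CA).comp (algebraMap C CA))
      (MvPolynomial.map (σ := n) ((algebraMap C CA).comp (algebraMap K C))) yA)
    (yA' : Spec (CommRingCat.of (MvPolynomial n CA')) ⟶ Z₂.left)
    (hyA' : yA' ≫ Z₂.hom = tauU n c CA')
    (hyA0' : SpM (MvPolynomial.constantCoeff : MvPolynomial n CA' →+* CA') ≫ yA' =
      SpM (algebraMap C CA') ≫ x₂)
    (hiA' : InvY p₂ a₂ (delta p₂ a₂ ha₂ (zsec n c K) (zsec_comp n p₂ c hc K) x₂ hx₂)
      ((MvPolynomial.C : CA' →+* MvPolynomial n CA').comp (algebraMap C CA'))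
      (MvPolynomial.map (σ := n) ((algebraMap C CA').comp (algebraMap K C))) yA') :
    ∃ y : Spec (CommRingCat.of (MvPolynomial n C)) ⟶ Z₂.left, y ≫ Z₂.hom = tauU n c C ∧
      InvY p₂ a₂ (delta p₂ a₂ ha₂ (zsec n c K) (zsec_comp n p₂ c hc K) x₂ hx₂)
        (MvPolynomial.C : C →+* MvPolynomial n C) (MvPolynomial.map (σ := n) (algebraMap K C))
        y := by
  have hδ := natT_delta p₂ a₂ ha₂ (zsec n c K) (zsec_comp n p₂ c hc K) x₂ hx₂
  have eAB : (algebraMap CA CB).comp (algebraMap C CA) = algebraMap C CB :=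
    (IsScalarTower.algebraMap_eq C CA CB).symm
  have eAB' : (algebraMap CA' CB).comp (algebraMap C CA') = algebraMap C CB :=
    (IsScalarTower.algebraMap_eq C CA' CB).symm
  -- restriction to `CB`
  have hyAB : (SpM (MvPolynomial.map (σ := n) (algebraMap CA CB)) ≫ yA) ≫ Z₂.hom =
      tauU n c CB := by
    rw [Category.assoc, hyA, tauU_res]
  have hyAB' : (SpM (MvPolynomial.map (σ := n) (algebraMap CA' CB)) ≫ yA') ≫ Z₂.hom =
      tauU n c CB := by
    rw [Category.assoc, hyA', tauU_res]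
  have hiAB := hiA.pb (MvPolynomial.map (σ := n) (algebraMap CA CB)) (RingHom.id _)
    (MvPolynomial.map (σ := n) ((algebraMap C CB).comp (algebraMap K C)))
    (by rw [mv_map_comp, RingHom.comp_id, ← RingHom.comp_assoc, eAB])
    ((MvPolynomial.C : CB →+* MvPolynomial n CB).comp (algebraMap C CB))
    (by rw [← RingHom.comp_assoc, MvPolynomial.map_comp_C, RingHom.comp_assoc, eAB])
  have hiAB' := hiA'.pb (MvPolynomial.map (σ := n) (algebraMap CA' CB)) (RingHom.id _)
    (MvPolynomial.map (σ := n) ((algebraMap C CB).comp (algebraMap K C)))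
    (by rw [mv_map_comp, RingHom.comp_id, ← RingHom.comp_assoc, eAB'])
    ((MvPolynomial.C : CB →+* MvPolynomial n CB).comp (algebraMap C CB))
    (by rw [← RingHom.comp_assoc, MvPolynomial.map_comp_C, RingHom.comp_assoc, eAB'])
  have hbaseB : ((SpM (MvPolynomial.map (σ := n) (algebraMap CA' CB)) ≫ yA') ≫ Z₂.hom) ≫ p₂ =
      SpM (algebraMap R (MvPolynomial n CB)) := by
    rw [hyAB', tauU_comp n p₂ c hc]
  obtain ⟨gm, hgm⟩ := Act.exists ha₂ (SpM (MvPolynomial.map (σ := n) (algebraMap CA' CB)) ≫ yA')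
    (SpM (MvPolynomial.map (σ := n) (algebraMap CA CB)) ≫ yA) (hyAB.trans hyAB'.symm) hbaseB
  have hgmi := InvT.of_act ha₂ hiAB hiAB' hgm
  -- value at zero
  have e0 : SpM (MvPolynomial.constantCoeff : MvPolynomial n CB →+* CB) ≫
      SpM (MvPolynomial.map (σ := n) (algebraMap CA CB)) ≫ yA = SpM (algebraMap C CB) ≫ x₂ := by
    rw [← Category.assoc, ← SpM_comp, MvPolynomial.constantCoeff_comp_map, SpM_comp,
      Category.assoc, hyA0, ← Category.assoc, ← SpM_comp, eAB]
  have e0' : SpM (MvPolynomial.constantCoeff : MvPolynomial n CB →+* CB) ≫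
      SpM (MvPolynomial.map (σ := n) (algebraMap CA' CB)) ≫ yA' =
      SpM (algebraMap C CB) ≫ x₂ := by
    rw [← Category.assoc, ← SpM_comp, MvPolynomial.constantCoeff_comp_map, SpM_comp,
      Category.assoc, hyA0', ← Category.assoc, ← SpM_comp, eAB']
  have hgm0 : SpOMap R (MvPolynomial.constantCoeff : MvPolynomial n CB →+* CB) ≫ gm = 1 := by
    have A : Act p₂ a₂ (SpOMap R (MvPolynomial.constantCoeff : MvPolynomial n CB →+* CB) ≫ gm)
        _ _ := hgm.comp (SpM (MvPolynomial.constantCoeff : MvPolynomial n CB →+* CB)) (pb_hfs _)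
    have A' := A.congr rfl e0' e0
    exact Act.unique ha₂ A' (Act.one _ A'.base)
  -- the decomposition
  have hgmi' : InvT (delta p₂ a₂ ha₂ (zsec n c K) (zsec_comp n p₂ c hc K) x₂ hx₂)
      (MvPolynomial.C.comp ((algebraMap C CB).comp (RingHom.id C)))
      (MvPolynomial.map (σ := n) ((algebraMap C CB).comp (algebraMap K C))) gm :=
    hgmi.congr (by rw [RingHom.comp_id]) rfl rfl
  obtain ⟨gm₁, gm₂, hdec, hi₁, hi₂⟩ := quillen_tw_mv n hδ (RingHom.id C) (RingHom.id K)
    (by rw [RingHom.id_comp, RingHom.comp_id]) a b hab CA CA' CB gm hgm0 hgmi'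
  have hi₁' : InvT (delta p₂ a₂ ha₂ (zsec n c K) (zsec_comp n p₂ c hc K) x₂ hx₂)
      ((MvPolynomial.C : CA →+* MvPolynomial n CA).comp (algebraMap C CA))
      (MvPolynomial.map (σ := n) ((algebraMap C CA).comp (algebraMap K C))) gm₁⁻¹ :=
    (hi₁.congr (by rw [RingHom.comp_id]) rfl rfl).inv
  have hi₂' : InvT (delta p₂ a₂ ha₂ (zsec n c K) (zsec_comp n p₂ c hc K) x₂ hx₂)
      ((MvPolynomial.C : CA' →+* MvPolynomial n CA').comp (algebraMap C CA'))
      (MvPolynomial.map (σ := n) ((algebraMap C CA').comp (algebraMap K C))) gm₂ :=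
    hi₂.congr (by rw [RingHom.comp_id]) rfl rfl
  have hbA : (yA ≫ Z₂.hom) ≫ p₂ = SpM (algebraMap R (MvPolynomial n CA)) := by
    rw [hyA, tauU_comp n p₂ c hc]
  have hbA' : (yA' ≫ Z₂.hom) ≫ p₂ = SpM (algebraMap R (MvPolynomial n CA')) := by
    rw [hyA', tauU_comp n p₂ c hc]
  obtain ⟨y₁, Y1⟩ : ∃ y₁, Act p₂ a₂ gm₁⁻¹ yA y₁ := ⟨_, Act.of_sm gm₁⁻¹ yA hbA⟩
  obtain ⟨y₂, Y2⟩ : ∃ y₂, Act p₂ a₂ gm₂ yA' y₂ := ⟨_, Act.of_sm gm₂ yA' hbA'⟩
  have hiy₁ := InvY.act hi₁' hiA Y1
  have hiy₂ := InvY.act hi₂' hiA' Y2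
  have hagree : SpM (MvPolynomial.map (σ := n) (algebraMap CA CB)) ≫ y₁ =
      SpM (MvPolynomial.map (σ := n) (algebraMap CA' CB)) ≫ y₂ := by
    have Y1B : Act p₂ a₂ (SpOMap R (MvPolynomial.map (σ := n) (algebraMap CA CB)) ≫ gm₁⁻¹) _ _ :=
      Y1.comp (SpM (MvPolynomial.map (σ := n) (algebraMap CA CB))) (pb_hfs _)
    have Y2B : Act p₂ a₂ (SpOMap R (MvPolynomial.map (σ := n) (algebraMap CA' CB)) ≫ gm₂) _ _ :=
      Y2.comp (SpM (MvPolynomial.map (σ := n) (algebraMap CA' CB))) (pb_hfs _)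
    have h3 := hgm.mul Y1B
    have hgrp : (SpOMap R (MvPolynomial.map (σ := n) (algebraMap CA CB)) ≫ gm₁⁻¹) * gm =
        SpOMap R (MvPolynomial.map (σ := n) (algebraMap CA' CB)) ≫ gm₂ := by
      rw [pb_inv, hdec, inv_mul_cancel_left]
    exact (h3.congr hgrp rfl rfl).functional Y2B
  -- glueing
  haveI l1 : IsLocalization.Away (MvPolynomial.C (algebraMap K C a) : MvPolynomial n C)
      (MvPolynomial n CA) := away_mvPolynomial n (algebraMap K C a)
  haveI l2 : IsLocalization.Away (MvPolynomial.C (algebraMap K C b) : MvPolynomial n C)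
      (MvPolynomial n CA') := away_mvPolynomial n (algebraMap K C b)
  haveI l3 : IsLocalization.Away ((MvPolynomial.C (algebraMap K C a) : MvPolynomial n C) *
      MvPolynomial.C (algebraMap K C b)) (MvPolynomial n CB) := by
    rw [← map_mul]
    exact away_mvPolynomial n (algebraMap K C a * algebraMap K C b)
  haveI t6 : IsScalarTower (MvPolynomial n C) (MvPolynomial n CA) (MvPolynomial n CB) :=
    IsScalarTower.of_algebraMap_eq' (by
      show MvPolynomial.map (algebraMap C CB) =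
        (MvPolynomial.map (algebraMap CA CB)).comp (MvPolynomial.map (algebraMap C CA))
      rw [mv_map_comp, eAB])
  haveI t7 : IsScalarTower (MvPolynomial n C) (MvPolynomial n CA') (MvPolynomial n CB) :=
    IsScalarTower.of_algebraMap_eq' (by
      show MvPolynomial.map (algebraMap C CB) =
        (MvPolynomial.map (algebraMap CA' CB)).comp (MvPolynomial.map (algebraMap C CA'))
      rw [mv_map_comp, eAB'])
  obtain ⟨ua, ub, huab⟩ := hab
  have hspan : Ideal.span ({(MvPolynomial.C (algebraMap K C a) : MvPolynomial n C),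
      MvPolynomial.C (algebraMap K C b)} : Set (MvPolynomial n C)) = ⊤ := by
    rw [Ideal.eq_top_iff_one]
    refine Ideal.mem_span_pair.mpr ⟨MvPolynomial.C (algebraMap K C ua),
      MvPolynomial.C (algebraMap K C ub), ?_⟩
    have h := congrArg (fun t => (MvPolynomial.C (algebraMap K C t) : MvPolynomial n C)) huab
    simpa only [map_add, map_mul, map_one] using h
  obtain ⟨y, hy1, hy2⟩ := glue_away (MvPolynomial.C (algebraMap K C a) : MvPolynomial n C)
    (MvPolynomial.C (algebraMap K C b)) (MvPolynomial n CA) (MvPolynomial n CA')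
    (MvPolynomial n CB) hspan y₁ y₂ hagree
  have hy1' : SpM (MvPolynomial.map (σ := n) (algebraMap C CA)) ≫ y = y₁ := hy1
  have hy2' : SpM (MvPolynomial.map (σ := n) (algebraMap C CA')) ≫ y = y₂ := hy2
  have hy : y ≫ Z₂.hom = tauU n c C := by
    refine hom_ext_away (MvPolynomial.C (algebraMap K C a) : MvPolynomial n C)
      (MvPolynomial.C (algebraMap K C b)) (MvPolynomial n CA) (MvPolynomial n CA') hspan _ _ ?_ ?_
    · rw [← Category.assoc, hy1, Y1.hom, hyA]
      exact (tauU_res n c (algebraMap C CA)).symm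
    · rw [← Category.assoc, hy2, Y2.hom, hyA']
      exact (tauU_res n c (algebraMap C CA')).symm
  refine ⟨y, hy, ?_⟩
  intro D _ _ ν ν' cν cν' hν
  have hb : ((SpM ν' ≫ y) ≫ Z₂.hom) ≫ p₂ = SpM (algebraMap R D) :=
    calc ((SpM ν' ≫ y) ≫ Z₂.hom) ≫ p₂ = SpM ν' ≫ (y ≫ Z₂.hom) ≫ p₂ := by
          simp only [Category.assoc]
      _ = SpM ν' ≫ SpM (algebraMap R (MvPolynomial n C)) := by
          rw [hy, tauU_comp n p₂ c hc]
      _ = _ := pb_hfs _
  refine ⟨hb, ?_⟩
  have hspanD : Ideal.span ({ν (MvPolynomial.C (algebraMap K C a)),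
      ν (MvPolynomial.C (algebraMap K C b))} : Set D) = ⊤ := by
    rw [Ideal.eq_top_iff_one]
    refine Ideal.mem_span_pair.mpr ⟨ν (MvPolynomial.C (algebraMap K C ua)),
      ν (MvPolynomial.C (algebraMap K C ub)), ?_⟩
    have h := congrArg (fun t => ν (MvPolynomial.C (algebraMap K C t) : MvPolynomial n C)) huab
    simpa only [map_add, map_mul, map_one] using h
  refine hom_ext_away (ν (MvPolynomial.C (algebraMap K C a)))
    (ν (MvPolynomial.C (algebraMap K C b)))
    (Localization.Away (ν (MvPolynomial.C (algebraMap K C a))))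
    (Localization.Away (ν (MvPolynomial.C (algebraMap K C b)))) hspanD _ _ ?_ ?_
  · exact invY_loc n p₂ a₂ c hc ha₂ x₂ hx₂ a CA y hy (by rw [hy1']; exact hiy₁) D ν ν' hν hb
  · exact invY_loc n p₂ a₂ c hc ha₂ x₂ hx₂ b CA' y hy (by rw [hy2']; exact hiy₂) D ν ν' hν hb

end Loc

end Groth.Agent.Lib.TLineH4
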