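import Mathlib
import Groth.Agent.Lib.TDescE3_helper4

/-!
# Descent of a torsor over affine space along a two-element Zariski covering of the base (helper4)

* `EqMap.pullSrc`: an equivariant map out of `Z₁ ×_{B₁} M` along `m ≫ f` is one out of the
  pulled back torsor along `m`.
* `DescOver`: the torsor `Z₂` over the chart `c` descends over the `R`-algebra `U`.
* `desc_core`: if it descends over `K_a` and `K_b` with `(a, b) = 1`, it descends over `K`.
-/

set_option autoImplicit false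
set_option linter.style.haveILetI false
set_option linter.unusedSectionVars false
universe u
open CategoryTheory CategoryTheory.Limits AlgebraicGeometry MonoidalCategory
  CartesianMonoidalCategory MonObj

namespace Groth.Agent.Lib.TLineH4

open Groth.Agent.Lib.GlueH4 Groth.Agent.Lib.QLimH4 Groth.Agent.Lib.QGrpH4 SchFpqcCovH7

section PullSrc

variable {S : Scheme.{u}} {G : Over S} [GrpObj G] {B₁ B₁' B₂ M : Scheme.{u}}
  {p₁ : B₁ ⟶ S} {p₂ : B₂ ⟶ S} {Z₁ : Over B₁} {Z₂ : Over B₂}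
  {a₁ : AlgGrp.Action (Red.bc p₁ G) Z₁} {a₂ : AlgGrp.Action (Red.bc p₂ G) Z₂}
  (f : B₁' ⟶ B₁) {d : B₁' ⟶ S} (h : f ≫ p₁ = d)
  {m : M ⟶ B₁'} {m₂ : M ⟶ B₂}

theorem pullSrc_cond :
    (pullback.fst (pullback.snd Z₁.hom f) m ≫ pullback.fst Z₁.hom f) ≫ Z₁.hom =
      pullback.snd (pullback.snd Z₁.hom f) m ≫ m ≫ f := by
  rw [Category.assoc, pullback.condition, ← Category.assoc, pullback.condition, Category.assoc]

theorem pullSrc_lift {T : Scheme.{u}} (z₁ : T ⟶ (Red.bc f Z₁).left) (m' : T ⟶ M)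
    (hz : z₁ ≫ (Red.bc f Z₁).hom = m' ≫ m)
    (hz1 : (z₁ ≫ pullback.fst Z₁.hom f) ≫ Z₁.hom = m' ≫ m ≫ f) :
    pullback.lift z₁ m' hz ≫
      pullback.lift (pullback.fst (pullback.snd Z₁.hom f) m ≫ pullback.fst Z₁.hom f)
        (pullback.snd (pullback.snd Z₁.hom f) m) (pullSrc_cond f) =
      pullback.lift (z₁ ≫ pullback.fst Z₁.hom f) m' hz1 := by
  apply pullback.hom_ext
  · rw [Category.assoc, pullback.lift_fst, pullback.lift_fst, ← Category.assoc]
    congr 1
    exact pullback.lift_fst _ _ _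
  · rw [Category.assoc, pullback.lift_snd, pullback.lift_snd]
    exact pullback.lift_snd _ _ _

/-- An equivariant map out of `Z₁` along `m ≫ f` is one out of `Z₁ ×_{B₁} B₁'` along `m`. -/
noncomputable def EqMap.pullSrc (E : EqMap p₁ p₂ a₁ a₂ (m ≫ f) m₂)
    (hd : (m ≫ f) ≫ p₁ = m₂ ≫ p₂) : EqMap d p₂ (pullAct f p₁ h a₁) a₂ m m₂ :=
  EqMap.mkRel (Z₁ := Red.bc f Z₁)
    (pullback.lift (pullback.fst (pullback.snd Z₁.hom f) m ≫ pullback.fst Z₁.hom f)
        (pullback.snd (pullback.snd Z₁.hom f) m) (pullSrc_cond f) ≫ E.φ)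
    (by
      rw [Category.assoc, E.hover, ← Category.assoc, pullback.lift_snd]
      rfl)
    (by
      intro T s c z₁ z₁' m' hz hz' hA
      have A1 := Act.pull_fst f p₁ h a₁ hA
      have hz1 : (z₁ ≫ pullback.fst Z₁.hom f) ≫ Z₁.hom = m' ≫ m ≫ f := by
        have e : z₁ ≫ pullback.snd Z₁.hom f = m' ≫ m := hz
        rw [Category.assoc, pullback.condition, ← Category.assoc, e, Category.assoc]
      have hz1' : (z₁' ≫ pullback.fst Z₁.hom f) ≫ Z₁.hom = m' ≫ m ≫ f := by
        have e : z₁' ≫ pullback.snd Z₁.hom f = m' ≫ m := hz'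
        rw [Category.assoc, pullback.condition, ← Category.assoc, e, Category.assoc]
      have A2 := E.act hd A1 m' hz1 hz1'
      refine A2.congr rfl ?_ ?_
      · rw [← Category.assoc, pullSrc_lift f z₁ m' hz hz1]
      · rw [← Category.assoc, pullSrc_lift f z₁' m' hz' hz1'])

end PullSrc

section Affine

theorem act_of_affine {S B : Scheme.{u}} {p : B ⟶ S} {G : Over S} [GrpObj G] {Z : Over B}
    {a : AlgGrp.Action (Red.bc p G) Z} {T : Scheme.{u}} {s : T ⟶ S} (c : Over.mk s ⟶ G)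
    (x y : T ⟶ Z.left) (hx : (x ≫ Z.hom) ≫ p = s)
    (h : ∀ (Dr : CommRingCat.{u}) (f : Spec Dr ⟶ T),
      Act p a ((Over.homMk f rfl : Over.mk (f ≫ s) ⟶ Over.mk s) ≫ c) (f ≫ x) (f ≫ y)) :
    Act p a c x y := by
  refine ⟨hx, ?_⟩
  refine Scheme.Cover.hom_ext T.affineOpenCover.openCover _ _ fun i => ?_
  have A1 := (Act.of_sm (p := p) (a := a) c x hx).comp (T.affineOpenCover.f i) rfl
  exact A1.functional (h _ (T.affineOpenCover.f i))

end Affine

section DescOverDef

attribute [local instance] MvPolynomial.algebraMvPolynomial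

variable {R : Type u} [CommRing R] {G : Over (Spec (CommRingCat.of R))} [GrpObj G]
  (n : Type u)
  {B₂ : Scheme.{u}} (p₂ : B₂ ⟶ Spec (CommRingCat.of R)) {Z₂ : Over B₂}
  (a₂ : AlgGrp.Action (Red.bc p₂ G) Z₂)
  (c : Spec (CommRingCat.of (MvPolynomial n R)) ⟶ B₂)
  (hc : c ≫ p₂ = SpM (algebraMap R (MvPolynomial n R)))

/-- The torsor `Z₂` (restricted to the chart `c`) descends over the `R`-algebra `U`. -/
def DescOver (U : Type u) [CommRing U] [Algebra R U] : Prop :=
  ∃ (P : Over (Spec (CommRingCat.of U)))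
    (aP : AlgGrp.Action (Red.bc (SpM (algebraMap R U)) G) P),
    NonAbH1.IsTorsorFor Scheme.fppfPrecoverage aP ∧
    Nonempty (EqMap (SpM (algebraMap R U)) p₂ aP a₂
      (SpM (MvPolynomial.C : U →+* MvPolynomial n U)) (tauU n c U))

include hc in
theorem DescOver.map {U U' : Type u} [CommRing U] [CommRing U'] [Algebra R U] [Algebra R U']
    (φ : U →+* U') [hφ : RCompat R φ] (h : DescOver n p₂ a₂ c U) : DescOver n p₂ a₂ c U' := by
  obtain ⟨P, aP, htP, ⟨E⟩⟩ := h
  refine ⟨Red.bc (SpM φ) P, pullAct (SpM φ) (SpM (algebraMap R U)) (pb_hfs φ) aP,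
    isTorsorFor_pullAct _ _ _ _ _ htP, ?_⟩
  have e1 : SpM (MvPolynomial.map (σ := n) φ) ≫ SpM (MvPolynomial.C : U →+* MvPolynomial n U) =
      SpM (MvPolynomial.C : U' →+* MvPolynomial n U') ≫ SpM φ := by
    rw [← SpM_comp, ← SpM_comp, MvPolynomial.map_comp_C]
  have e2 := tauU_res n c φ
  obtain ⟨E'⟩ : Nonempty (EqMap (SpM (algebraMap R U)) p₂ aP a₂
      (SpM (MvPolynomial.C : U' →+* MvPolynomial n U') ≫ SpM φ) (tauU n c U')) := by
    rw [← e1, ← e2]
    exact ⟨E.bc _⟩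
  have hd : (SpM (MvPolynomial.C : U' →+* MvPolynomial n U') ≫ SpM φ) ≫ SpM (algebraMap R U) =
      tauU n c U' ≫ p₂ := by
    rw [tauU_comp n p₂ c hc, Category.assoc, pb_hfs φ]
    exact pb_hfs _
  exact ⟨E'.pullSrc (SpM φ) (pb_hfs φ) hd⟩

end DescOverDef

section Core

attribute [local instance] MvPolynomial.algebraMvPolynomial

variable {R : Type u} [CommRing R] {G : Over (Spec (CommRingCat.of R))} [GrpObj G]
  (n : Type u)
  {B₂ : Scheme.{u}} (p₂ : B₂ ⟶ Spec (CommRingCat.of R)) {Z₂ : Over B₂}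
  (a₂ : AlgGrp.Action (Red.bc p₂ G) Z₂)
  (c : Spec (CommRingCat.of (MvPolynomial n R)) ⟶ B₂)
  (hc : c ≫ p₂ = SpM (algebraMap R (MvPolynomial n R)))

/-- Change of the comparison map in `InvY` along a localisation. -/
theorem invY_of_away {Cc : Type u} [CommRing Cc]
    {δ : ∀ (D : Type u) [CommRing D] [Algebra R D], (Cc →+* D) → (Cc →+* D) → (SpO R D ⟶ G)}
    {K A Λ : Type u} [CommRing K] [CommRing A] [CommRing Λ] [Algebra K A]
    [Algebra R Λ] (a : K) [IsLocalization.Away a A] (gU : A →+* Λ) (κ₀ : K →+* Λ)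
    (hg : gU.comp (algebraMap K A) = κ₀) {ic : Cc →+* MvPolynomial n Λ}
    {y : Spec (CommRingCat.of (MvPolynomial n Λ)) ⟶ Z₂.left}
    (h : InvY p₂ a₂ δ ic (MvPolynomial.map (σ := n) gU) y) :
    InvY p₂ a₂ δ ic (MvPolynomial.map (σ := n) κ₀) y := by
  refine h.weaken _ ?_
  intro D _ ν ν' hν
  haveI l1 : IsLocalization.Away (MvPolynomial.C a : MvPolynomial n K) (MvPolynomial n A) :=
    away_mvPolynomial n a
  apply IsLocalization.ringHom_ext (Submonoid.powers (MvPolynomial.C a : MvPolynomial n K))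
  show (ν.comp (MvPolynomial.map gU)).comp (MvPolynomial.map (algebraMap K A)) =
    (ν'.comp (MvPolynomial.map gU)).comp (MvPolynomial.map (algebraMap K A))
  rw [RingHom.comp_assoc, RingHom.comp_assoc, mv_map_comp, hg]
  exact hν

include hc in
theorem hinv_ring (ha₂ : NonAbH1.IsPseudoTorsorSch a₂)
    {K C : Type u} [CommRing K] [CommRing C] [Algebra R K] [Algebra K C] [Algebra R C]
    [IsScalarTower R K C] (x₂ : Spec (CommRingCat.of C) ⟶ Z₂.left)
    (hx₂ : x₂ ≫ Z₂.hom = SpM (algebraMap K C) ≫ zsec n c K)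
    (y : Spec (CommRingCat.of (MvPolynomial n C)) ⟶ Z₂.left)
    (hi : InvY p₂ a₂ (delta p₂ a₂ ha₂ (zsec n c K) (zsec_comp n p₂ c hc K) x₂ hx₂)
        (MvPolynomial.C : C →+* MvPolynomial n C) (MvPolynomial.map (σ := n) (algebraMap K C)) y)
    {D : Type u} [CommRing D] [Algebra R D] (ν ν' : MvPolynomial n C →+* D)
    [cν : RCompat R ν] [cν' : RCompat R ν']
    (hν : ν.comp (MvPolynomial.map (algebraMap K C)) =
      ν'.comp (MvPolynomial.map (algebraMap K C)))
    (c₀ : SpO R D ⟶ G)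
    (hA : Act p₂ a₂ c₀ (SpM (ν'.comp MvPolynomial.C) ≫ x₂) (SpM (ν.comp MvPolynomial.C) ≫ x₂)) :
    Act p₂ a₂ c₀ (SpM ν' ≫ y) (SpM ν ≫ y) := by
  have h1 : (ν.comp (MvPolynomial.C : C →+* MvPolynomial n C)).comp (algebraMap K C) =
      (ν'.comp (MvPolynomial.C : C →+* MvPolynomial n C)).comp (algebraMap K C) := by
    have h := congrArg (fun φ : MvPolynomial n K →+* D => φ.comp MvPolynomial.C) hν
    simp only [RingHom.comp_assoc, MvPolynomial.map_comp_C] at h
    exact h
  have Ad := delta_spec p₂ a₂ ha₂ (zsec n c K) (zsec_comp n p₂ c hc K) x₂ hx₂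
    (ν.comp MvPolynomial.C) (ν'.comp MvPolynomial.C) h1
    (RCompat.comp_eq (R := R) (φ := ν'.comp (MvPolynomial.C : C →+* MvPolynomial n C)))
  have e := Act.unique ha₂ hA Ad
  rw [e]
  exact hi D ν ν' hν

include hc in
/-- The core patching step, given a point `x₂` over an affine fpqc covering `Spec C ⟶ Spec K`. -/
theorem desc_core_aux [LocallyOfFinitePresentation G.hom]
    (ht₂ : NonAbH1.IsTorsorFor Scheme.fppfPrecoverage a₂)
    {K C : Type u} [CommRing K] [CommRing C] [Algebra R K] [Algebra K C] [Algebra R C]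
    [IsScalarTower R K C] (hcov : IsCov (SpM (algebraMap K C)))
    (x₂ : Spec (CommRingCat.of C) ⟶ Z₂.left)
    (hx₂ : x₂ ≫ Z₂.hom = SpM (algebraMap K C) ≫ zsec n c K)
    (a b : K) (hab : IsCoprime a b)
    (A A' : Type u) [CommRing A] [CommRing A'] [Algebra K A] [Algebra K A'] [Algebra R A]
    [Algebra R A'] [IsScalarTower R K A] [IsScalarTower R K A']
    [IsLocalization.Away a A] [IsLocalization.Away b A']
    (CA CA' CB : Type u) [CommRing CA] [CommRing CA'] [CommRing CB]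
    [Algebra C CA] [Algebra C CA'] [Algebra C CB] [Algebra R CA] [Algebra R CA'] [Algebra R CB]
    [IsScalarTower R C CA] [IsScalarTower R C CA'] [IsScalarTower R C CB]
    [IsLocalization.Away (algebraMap K C a) CA] [IsLocalization.Away (algebraMap K C b) CA']
    [IsLocalization.Away (algebraMap K C a * algebraMap K C b) CB]
    [Algebra CA CB] [Algebra CA' CB] [IsScalarTower C CA CB] [IsScalarTower C CA' CB]
    [IsScalarTower R CA CB] [IsScalarTower R CA' CB]
    (hA : DescOver n p₂ a₂ c A) (hA' : DescOver n p₂ a₂ c A') : DescOver n p₂ a₂ c K := by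
  obtain ⟨P, aP, htP, ⟨E⟩⟩ := hA
  obtain ⟨P', aP', htP', ⟨E'⟩⟩ := hA'
  -- the comparison maps
  have hu : IsUnit (((algebraMap C CA).comp (algebraMap K C)) a) :=
    IsLocalization.Away.algebraMap_isUnit (algebraMap K C a)
  have hu' : IsUnit (((algebraMap C CA').comp (algebraMap K C)) b) :=
    IsLocalization.Away.algebraMap_isUnit (algebraMap K C b)
  obtain ⟨gU, hgU⟩ : ∃ gU : A →+* CA,
      gU.comp (algebraMap K A) = (algebraMap C CA).comp (algebraMap K C) :=
    ⟨IsLocalization.Away.lift (S := A) a hu, IsLocalization.Away.lift_comp a hu⟩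
  obtain ⟨gU', hgU'⟩ : ∃ gU' : A' →+* CA',
      gU'.comp (algebraMap K A') = (algebraMap C CA').comp (algebraMap K C) :=
    ⟨IsLocalization.Away.lift (S := A') b hu', IsLocalization.Away.lift_comp b hu'⟩
  haveI cg : RCompat R gU := ⟨by
    rw [IsScalarTower.algebraMap_eq R K A, ← RingHom.comp_assoc, hgU, RingHom.comp_assoc,
      ← IsScalarTower.algebraMap_eq R K C, ← IsScalarTower.algebraMap_eq R C CA]⟩
  haveI cg' : RCompat R gU' := ⟨by
    rw [IsScalarTower.algebraMap_eq R K A', ← RingHom.comp_assoc, hgU', RingHom.comp_assoc,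
      ← IsScalarTower.algebraMap_eq R K C, ← IsScalarTower.algebraMap_eq R C CA']⟩
  obtain ⟨yA, hyA, hyA0, hiA⟩ := exists_yU n p₂ a₂ c hc ht₂ x₂ hx₂ (algebraMap K A) gU
    (algebraMap C CA) hgU aP htP E
  obtain ⟨yA', hyA', hyA0', hiA'⟩ := exists_yU n p₂ a₂ c hc ht₂ x₂ hx₂ (algebraMap K A') gU'
    (algebraMap C CA') hgU' aP' htP' E'
  have hiA2 := invY_of_away n p₂ a₂ a gU _ hgU hiA
  have hiA2' := invY_of_away n p₂ a₂ b gU' _ hgU' hiA'
  obtain ⟨y, hy, hiy⟩ := patch_y n p₂ a₂ c hc ht₂.1 x₂ hx₂ a b hab CA CA' CB yA hyA hyA0 hiA2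
    yA' hyA' hyA0' hiA2'
  -- the descended torsor
  have ht₀ := isTorsorFor_pullAct (zsec n c K) p₂ (zsec_comp n p₂ c hc K) a₂
    Scheme.fppfPrecoverage ht₂
  refine ⟨Red.bc (zsec n c K) Z₂, pullAct (zsec n c K) p₂ (zsec_comp n p₂ c hc K) a₂, ht₀, ?_⟩
  have hdE : SpM (MvPolynomial.C : K →+* MvPolynomial n K) ≫ SpM (algebraMap R K) =
      tauU n c K ≫ p₂ := by
    rw [tauU_comp n p₂ c hc]
    exact pb_hfs _
  have hk : IsCov (SpM (MvPolynomial.map (σ := n) (algebraMap K C))) := by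
    have hpo := CommRingCat.isPushout_of_isPushout K C (MvPolynomial n K) (MvPolynomial n C)
    have hpb := isPullback_SpecMap_of_isPushout _ _ _ _ hpo
    exact IsCov.of_isPullback hpb hcov
  obtain ⟨x₀, hx₀⟩ : ∃ x₀ : Spec (CommRingCat.of C) ⟶ (Red.bc (zsec n c K) Z₂).left,
      x₀ = pullback.lift x₂ (SpM (algebraMap K C)) hx₂ := ⟨_, rfl⟩
  have hx₀f : x₀ ≫ pullback.fst Z₂.hom (zsec n c K) = x₂ := by
    rw [hx₀]
    exact pullback.lift_fst _ _ _
  have hx₀s : x₀ ≫ (Red.bc (zsec n c K) Z₂).hom = SpM (algebraMap K C) := by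
    rw [hx₀]
    exact pullback.lift_snd _ _ _
  have hx : (SpM (MvPolynomial.C : C →+* MvPolynomial n C) ≫ x₀) ≫
      (Red.bc (zsec n c K) Z₂).hom = SpM (MvPolynomial.map (σ := n) (algebraMap K C)) ≫
        SpM (MvPolynomial.C : K →+* MvPolynomial n K) := by
    rw [Category.assoc, hx₀s, ← SpM_comp, ← SpM_comp, MvPolynomial.map_comp_C]
  have hy' : y ≫ Z₂.hom = SpM (MvPolynomial.map (σ := n) (algebraMap K C)) ≫ tauU n c K := by
    rw [hy, tauU_res]
  have hxb : ((SpM (MvPolynomial.C : C →+* MvPolynomial n C) ≫ x₀) ≫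
      (Red.bc (zsec n c K) Z₂).hom) ≫ SpM (algebraMap R K) =
      SpM (algebraMap R (MvPolynomial n C)) := by
    rw [hx, Category.assoc, pb_hfs]
    exact pb_hfs _
  have hyb : (y ≫ Z₂.hom) ≫ p₂ = SpM (algebraMap R (MvPolynomial n C)) := by
    rw [hy, tauU_comp n p₂ c hc]
  -- the affine case of the invariance
  have hinv_aff : ∀ (Dr : CommRingCat.{u})
      (t t' : Spec Dr ⟶ Spec (CommRingCat.of (MvPolynomial n C))),
      t ≫ SpM (MvPolynomial.map (σ := n) (algebraMap K C)) =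
        t' ≫ SpM (MvPolynomial.map (σ := n) (algebraMap K C)) →
      ∀ (s : Spec Dr ⟶ Spec (CommRingCat.of R)) (c₀ : Over.mk s ⟶ G),
      Act (SpM (algebraMap R K)) (pullAct (zsec n c K) p₂ (zsec_comp n p₂ c hc K) a₂) c₀
        (t' ≫ SpM (MvPolynomial.C : C →+* MvPolynomial n C) ≫ x₀)
        (t ≫ SpM (MvPolynomial.C : C →+* MvPolynomial n C) ≫ x₀) →
      Act p₂ a₂ c₀ (t' ≫ y) (t ≫ y) := by
    intro Dr t t' htt s c₀ hAct
    obtain ⟨σ, rfl⟩ : ∃ σ : CommRingCat.of R ⟶ Dr, s = Spec.map σ :=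
      ⟨Spec.preimage s, (Spec.map_preimage s).symm⟩
    obtain ⟨τ, rfl⟩ : ∃ τ : CommRingCat.of (MvPolynomial n C) ⟶ Dr, t = Spec.map τ :=
      ⟨Spec.preimage t, (Spec.map_preimage t).symm⟩
    obtain ⟨τ', rfl⟩ : ∃ τ' : CommRingCat.of (MvPolynomial n C) ⟶ Dr, t' = Spec.map τ' :=
      ⟨Spec.preimage t', (Spec.map_preimage t').symm⟩
    letI iD : Algebra R Dr := σ.hom.toAlgebra
    have hcomp : ∀ τ₁ : CommRingCat.of (MvPolynomial n C) ⟶ Dr,
        ((Spec.map τ₁ ≫ SpM (MvPolynomial.C : C →+* MvPolynomial n C) ≫ x₀) ≫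
          (Red.bc (zsec n c K) Z₂).hom) ≫ SpM (algebraMap R K) = Spec.map σ →
        τ₁.hom.comp (algebraMap R (MvPolynomial n C)) = σ.hom := by
      intro τ₁ hb
      have e : Spec.map τ₁ ≫ SpM (algebraMap R (MvPolynomial n C)) = Spec.map σ := by
        rw [← hxb]
        simpa only [Category.assoc] using hb
      have e2 : Spec.map (CommRingCat.ofHom (algebraMap R (MvPolynomial n C)) ≫ τ₁) =
          Spec.map σ := by
        rw [Spec.map_comp]
        exact e
      exact congrArg CommRingCat.Hom.hom (Spec.map_injective e2)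
    haveI cτ : RCompat R τ.hom := ⟨hcomp τ hAct.base'⟩
    haveI cτ' : RCompat R τ'.hom := ⟨hcomp τ' hAct.base⟩
    have hν : τ.hom.comp (MvPolynomial.map (algebraMap K C)) =
        τ'.hom.comp (MvPolynomial.map (algebraMap K C)) := by
      have e2 : Spec.map (CommRingCat.ofHom (MvPolynomial.map (σ := n) (algebraMap K C)) ≫ τ) =
          Spec.map (CommRingCat.ofHom (MvPolynomial.map (σ := n) (algebraMap K C)) ≫ τ') := by
        rw [Spec.map_comp, Spec.map_comp]
        exact htt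
      exact congrArg CommRingCat.Hom.hom (Spec.map_injective e2)
    have hA2 := Act.pull_fst (zsec n c K) p₂ (zsec_comp n p₂ c hc K) a₂ hAct
    have ex : ∀ τ₁ : CommRingCat.of (MvPolynomial n C) ⟶ Dr,
        (Spec.map τ₁ ≫ SpM (MvPolynomial.C : C →+* MvPolynomial n C) ≫ x₀) ≫
          pullback.fst Z₂.hom (zsec n c K) =
        SpM (τ₁.hom.comp (MvPolynomial.C : C →+* MvPolynomial n C)) ≫ x₂ := by
      intro τ₁
      rw [Category.assoc, Category.assoc, hx₀f, SpM_comp, Category.assoc]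
      rfl
    exact hinv_ring n p₂ a₂ c hc ht₂.1 x₂ hx₂ y hiy (D := Dr) τ.hom τ'.hom hν c₀
      (hA2.congr rfl (ex τ') (ex τ))
  have hinv : ∀ (T : Scheme.{u}) (t t' : T ⟶ Spec (CommRingCat.of (MvPolynomial n C))),
      t ≫ SpM (MvPolynomial.map (σ := n) (algebraMap K C)) =
        t' ≫ SpM (MvPolynomial.map (σ := n) (algebraMap K C)) →
      ∀ (s : T ⟶ Spec (CommRingCat.of R)) (c₀ : Over.mk s ⟶ G),
      Act (SpM (algebraMap R K)) (pullAct (zsec n c K) p₂ (zsec_comp n p₂ c hc K) a₂) c₀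
        (t' ≫ SpM (MvPolynomial.C : C →+* MvPolynomial n C) ≫ x₀)
        (t ≫ SpM (MvPolynomial.C : C →+* MvPolynomial n C) ≫ x₀) →
      Act p₂ a₂ c₀ (t' ≫ y) (t ≫ y) := by
    intro T t t' htt s c₀ hAct
    have hbase : ((t' ≫ y) ≫ Z₂.hom) ≫ p₂ = s := by
      have h0 := hAct.base
      calc ((t' ≫ y) ≫ Z₂.hom) ≫ p₂ = t' ≫ (y ≫ Z₂.hom) ≫ p₂ := by simp only [Category.assoc]
        _ = t' ≫ ((SpM (MvPolynomial.C : C →+* MvPolynomial n C) ≫ x₀) ≫
              (Red.bc (zsec n c K) Z₂).hom) ≫ SpM (algebraMap R K) := by rw [hyb, hxb]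
        _ = s := by
            rw [← h0]
            simp only [Category.assoc]
    refine act_of_affine c₀ _ _ hbase ?_
    intro Dr f
    have hAf := hAct.comp f rfl
    exact (hinv_aff Dr (f ≫ t) (f ≫ t') (by rw [Category.assoc, htt, Category.assoc]) (f ≫ s) _
      (hAf.congr rfl (Category.assoc _ _ _).symm (Category.assoc _ _ _).symm)).congr rfl
        (Category.assoc _ _ _) (Category.assoc _ _ _)
  obtain ⟨Ed, -⟩ := descend_eqMap ht₀.1 hdE (SpM (MvPolynomial.map (σ := n) (algebraMap K C))) hk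
    (SpM (MvPolynomial.C : C →+* MvPolynomial n C) ≫ x₀) hx y hy' hinv
  exact ⟨Ed⟩

include hc in
/-- **Patching of descent data**: if `Z₂` descends over `K_a` and `K_b` with `(a, b) = 1`,
it descends over `K`. -/
theorem desc_core [LocallyOfFinitePresentation G.hom]
    (ht₂ : NonAbH1.IsTorsorFor Scheme.fppfPrecoverage a₂)
    (K : Type u) [CommRing K] [Algebra R K] (a b : K) (hab : IsCoprime a b)
    (hA : DescOver n p₂ a₂ c (Localization.Away a))
    (hA' : DescOver n p₂ a₂ c (Localization.Away b)) : DescOver n p₂ a₂ c K := by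
  have ht₀ := isTorsorFor_pullAct (zsec n c K) p₂ (zsec_comp n p₂ c hc K) a₂
    Scheme.fppfPrecoverage ht₂
  obtain ⟨Cr, φ, hcov, x₀, hx₀⟩ := exists_affine_cover ht₀.2
  letI iKC : Algebra K Cr := φ.hom.toAlgebra
  letI iRC : Algebra R Cr := (φ.hom.comp (algebraMap R K)).toAlgebra
  haveI tRKC : IsScalarTower R K Cr := IsScalarTower.of_algebraMap_eq' rfl
  obtain ⟨r, hr⟩ : ∃ r : Cr, r = algebraMap K Cr a := ⟨_, rfl⟩
  obtain ⟨r', hr'⟩ : ∃ r' : Cr, r' = algebraMap K Cr b := ⟨_, rfl⟩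
  letI iAB : Algebra (Localization.Away r) (Localization.Away (r * r')) :=
    (awayTr (Dvd.intro r' rfl : r ∣ r * r')).toAlgebra
  letI iAB' : Algebra (Localization.Away r') (Localization.Away (r * r')) :=
    (awayTr (Dvd.intro_left r rfl : r' ∣ r * r')).toAlgebra
  haveI t1 : IsScalarTower Cr (Localization.Away r) (Localization.Away (r * r')) :=
    IsScalarTower.of_algebraMap_eq' (awayTr_comp (Dvd.intro r' rfl : r ∣ r * r')).symm
  haveI t2 : IsScalarTower Cr (Localization.Away r') (Localization.Away (r * r')) :=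
    IsScalarTower.of_algebraMap_eq' (awayTr_comp (Dvd.intro_left r rfl : r' ∣ r * r')).symm
  haveI t3 : IsScalarTower R (Localization.Away r) (Localization.Away (r * r')) :=
    IsScalarTower.of_algebraMap_eq' (R := R) (S := Localization.Away r)
      (A := Localization.Away (r * r')) (by
      rw [IsScalarTower.algebraMap_eq R Cr (Localization.Away (r * r')),
        IsScalarTower.algebraMap_eq R Cr (Localization.Away r), ← RingHom.comp_assoc]
      congr 1
      exact (awayTr_comp (Dvd.intro r' rfl : r ∣ r * r')).symm)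
  haveI t4 : IsScalarTower R (Localization.Away r') (Localization.Away (r * r')) :=
    IsScalarTower.of_algebraMap_eq' (R := R) (S := Localization.Away r')
      (A := Localization.Away (r * r')) (by
      rw [IsScalarTower.algebraMap_eq R Cr (Localization.Away (r * r')),
        IsScalarTower.algebraMap_eq R Cr (Localization.Away r'), ← RingHom.comp_assoc]
      congr 1
      exact (awayTr_comp (Dvd.intro_left r rfl : r' ∣ r * r')).symm)
  subst hr hr'
  have hx₂ : (x₀ ≫ pullback.fst Z₂.hom (zsec n c K)) ≫ Z₂.hom =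
      SpM (algebraMap K Cr) ≫ zsec n c K := by
    rw [Category.assoc, pullback.condition, ← Category.assoc]
    congr 1
  exact desc_core_aux n p₂ a₂ c hc ht₂ (K := K) (C := Cr) hcov
    (x₀ ≫ pullback.fst Z₂.hom (zsec n c K)) hx₂ a b hab
    (Localization.Away a) (Localization.Away b) (Localization.Away (algebraMap K Cr a))
    (Localization.Away (algebraMap K Cr b))
    (Localization.Away (algebraMap K Cr a * algebraMap K Cr b)) hA hA'

end Core

end Groth.Agent.Lib.TLineH4
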