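import Mathlib
import Groth.Agent.Lib.TDescE4_helper4

/-!
# The ideal of elements over which a torsor over affine space descends (helper4)

`exists_ideal_descOver`: `{r | Z₂ descends over R[1/r]}` is an ideal of `R`.
-/

set_option autoImplicit false
set_option linter.style.haveILetI false
set_option linter.unusedSectionVars false
universe u
open CategoryTheory CategoryTheory.Limits AlgebraicGeometry MonoidalCategory
  CartesianMonoidalCategory MonObj

namespace Groth.Agent.Lib.TLineH4

open Groth.Agent.Lib.GlueH4 Groth.Agent.Lib.QLimH4 Groth.Agent.Lib.QGrpH4 SchFpqcCovH7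

section Ideal

attribute [local instance] MvPolynomial.algebraMvPolynomial

variable {R : Type u} [CommRing R] {G : Over (Spec (CommRingCat.of R))} [GrpObj G]
  (n : Type u)
  {B₂ : Scheme.{u}} (p₂ : B₂ ⟶ Spec (CommRingCat.of R)) {Z₂ : Over B₂}
  (a₂ : AlgGrp.Action (Red.bc p₂ G) Z₂)
  (c : Spec (CommRingCat.of (MvPolynomial n R)) ⟶ B₂)
  (hc : c ≫ p₂ = SpM (algebraMap R (MvPolynomial n R)))

include hc in
theorem descOver_of_subsingleton (ht₂ : NonAbH1.IsTorsorFor Scheme.fppfPrecoverage a₂)
    (U : Type u) [CommRing U] [Algebra R U] [Subsingleton U] : DescOver n p₂ a₂ c U := by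
  haveI hE : IsEmpty (Spec (CommRingCat.of (MvPolynomial n U))) := by
    show IsEmpty (PrimeSpectrum (MvPolynomial n U))
    infer_instance
  refine ⟨Red.bc (zsec n c U) Z₂, pullAct (zsec n c U) p₂ (zsec_comp n p₂ c hc U) a₂,
    isTorsorFor_pullAct _ _ _ _ _ ht₂, ⟨?_⟩⟩
  haveI hE2 : IsEmpty ↥(pullback (Red.bc (zsec n c U) Z₂).hom
      (SpM (MvPolynomial.C : U →+* MvPolynomial n U))) :=
    Function.isEmpty (fun t => (pullback.snd (Red.bc (zsec n c U) Z₂).hom
      (SpM (MvPolynomial.C : U →+* MvPolynomial n U))) t)
  exact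
    { φ := (isInitialOfIsEmpty).to _
      hover := (isInitialOfIsEmpty).hom_ext _ _
      equiv := by
        intro T s c₀ z₁ m hz hs₁ hs₂
        haveI : IsEmpty T := Function.isEmpty (fun t => m t)
        exact (isInitialOfIsEmpty).hom_ext _ _ }

include hc in
theorem descOver_add [LocallyOfFinitePresentation G.hom]
    (ht₂ : NonAbH1.IsTorsorFor Scheme.fppfPrecoverage a₂) (s s' : R)
    (hs : DescOver n p₂ a₂ c (Localization.Away s))
    (hs' : DescOver n p₂ a₂ c (Localization.Away s')) :
    DescOver n p₂ a₂ c (Localization.Away (s + s')) := by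
  obtain ⟨r, hr⟩ : ∃ r : Localization.Away (s + s'), r = algebraMap R _ s := ⟨_, rfl⟩
  obtain ⟨r', hr'⟩ : ∃ r' : Localization.Away (s + s'), r' = algebraMap R _ s' := ⟨_, rfl⟩
  have hrr : IsCoprime r r' := by
    have hu : IsUnit (r + r') := by
      rw [hr, hr', ← map_add]
      exact IsLocalization.Away.algebraMap_isUnit (s + s')
    obtain ⟨w, hw⟩ := hu.exists_left_inv
    exact ⟨w, w, by rw [← mul_add, hw]⟩
  have hu : IsUnit (algebraMap R (Localization.Away r) s) := by
    rw [IsScalarTower.algebraMap_apply R (Localization.Away (s + s')) (Localization.Away r), ← hr]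
    exact IsLocalization.Away.algebraMap_isUnit r
  have hu' : IsUnit (algebraMap R (Localization.Away r') s') := by
    rw [IsScalarTower.algebraMap_apply R (Localization.Away (s + s')) (Localization.Away r'),
      ← hr']
    exact IsLocalization.Away.algebraMap_isUnit r'
  haveI c1 : RCompat R (IsLocalization.Away.lift (S := Localization.Away s) s
      (g := algebraMap R (Localization.Away r)) hu) :=
    ⟨IsLocalization.Away.lift_comp s hu⟩
  haveI c2 : RCompat R (IsLocalization.Away.lift (S := Localization.Away s') s'
      (g := algebraMap R (Localization.Away r')) hu') := ⟨IsLocalization.Away.lift_comp s' hu'⟩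
  exact desc_core n p₂ a₂ c hc ht₂ (Localization.Away (s + s')) r r' hrr
    (hs.map n p₂ a₂ c hc (IsLocalization.Away.lift (S := Localization.Away s) s
      (g := algebraMap R (Localization.Away r)) hu))
    (hs'.map n p₂ a₂ c hc (IsLocalization.Away.lift (S := Localization.Away s') s'
      (g := algebraMap R (Localization.Away r')) hu'))

include hc in
/-- The elements `r` such that `Z₂` descends over `R[1/r]` form an ideal. -/
theorem exists_ideal_descOver [LocallyOfFinitePresentation G.hom]
    (ht₂ : NonAbH1.IsTorsorFor Scheme.fppfPrecoverage a₂) :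
    ∃ I : Ideal R, ∀ r : R, r ∈ I ↔ DescOver n p₂ a₂ c (Localization.Away r) := by
  refine ⟨
    { carrier := {s | DescOver n p₂ a₂ c (Localization.Away s)}
      zero_mem' := by
        show DescOver n p₂ a₂ c (Localization.Away (0 : R))
        haveI : Subsingleton (Localization.Away (0 : R)) :=
          IsLocalization.subsingleton (M := Submonoid.powers (0 : R)) (Submonoid.mem_powers 0)
        exact descOver_of_subsingleton n p₂ a₂ c hc ht₂ _
      add_mem' := fun {s s'} hs hs' => descOver_add n p₂ a₂ c hc ht₂ s s' hs hs'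
      smul_mem' := fun t s hs => by
        show DescOver n p₂ a₂ c (Localization.Away (t • s))
        exact DescOver.map n p₂ a₂ c hc (awayTr (Dvd.intro_left t rfl : s ∣ t • s)) hs },
    fun r => Iff.rfl⟩

end Ideal

end Groth.Agent.Lib.TLineH4
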