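import Mathlib
import Groth.Agent.Lib.TDescF_helper4

/-!
# Torsors over affine space: the ideal of descent (helper4)

`main17850`: for a torsor `X` over `𝔸ⁿ_R` under a group `G` locally of finite presentation over
`R`, the elements `r` such that `X` descends over `R[1/r]` form an ideal.
-/

set_option autoImplicit false
set_option linter.style.haveILetI false
set_option linter.unusedSectionVars false
universe u
open CategoryTheory CategoryTheory.Limits AlgebraicGeometry MonoidalCategory
  CartesianMonoidalCategory MonObj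

namespace Groth.Agent.Lib.TLineH4

open Groth.Agent.Lib.GlueH4 Groth.Agent.Lib.QLimH4 Groth.Agent.Lib.QGrpH4 SchFpqcCovH7

section Cast

variable {S : Scheme.{u}} {G : Over S} [GrpObj G] {B₁ B₂ M : Scheme.{u}}
  {p₁ : B₁ ⟶ S} {p₂ : B₂ ⟶ S} {Z₁ : Over B₁} {Z₂ : Over B₂}
  {a₁ : AlgGrp.Action (Red.bc p₁ G) Z₁} {a₂ : AlgGrp.Action (Red.bc p₂ G) Z₂}
  {m₁ m₁' : M ⟶ B₁} {m₂ m₂' : M ⟶ B₂}

/-- Transport of an equivariant map along equalities of the structure maps. -/
def EqMap.cast (E : EqMap p₁ p₂ a₁ a₂ m₁ m₂) (h₁ : m₁ = m₁') (h₂ : m₂ = m₂') :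
    EqMap p₁ p₂ a₁ a₂ m₁' m₂' := h₁ ▸ h₂ ▸ E

end Cast

section Boundary

variable (R : Type u) [CommRing R] (n : Type u)

/-- The chart of `𝔸ⁿ_R`. -/
noncomputable def chartA : Spec (CommRingCat.of (MvPolynomial n R)) ⟶
    𝔸(n; Spec (CommRingCat.of R)) :=
  (AffineSpace.SpecIso n (CommRingCat.of R)).inv

theorem chartA_comp : chartA R n ≫ (𝔸(n; Spec (CommRingCat.of R)) ↘ Spec (CommRingCat.of R)) =
    SpM (algebraMap R (MvPolynomial n R)) :=
  AffineSpace.SpecIso_inv_over (CommRingCat.of R)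

variable (U : Type u) [CommRing U] [Algebra R U]

/-- `Spec U[t] ≅ 𝔸ⁿ_R ×_R Spec U`. -/
noncomputable def thetaIso : Spec (CommRingCat.of (MvPolynomial n U)) ≅
    pullback (𝔸(n; Spec (CommRingCat.of R)) ↘ Spec (CommRingCat.of R))
      (SpM (algebraMap R U)) :=
  (AffineSpace.SpecIso n (CommRingCat.of U)).symm ≪≫
    (AffineSpace.isPullback_map (n := n) (SpM (algebraMap R U))).isoPullback

theorem thetaIso_hom_fst : (thetaIso R n U).hom ≫ pullback.fst _ _ = tauU n (chartA R n) U := by
  unfold thetaIso tauU chartA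
  rw [Iso.trans_hom, Category.assoc, IsPullback.isoPullback_hom_fst, AffineSpace.map_SpecMap,
    Iso.symm_hom, Iso.inv_hom_id_assoc]

theorem thetaIso_hom_snd : (thetaIso R n U).hom ≫ pullback.snd _ _ =
    SpM (MvPolynomial.C : U →+* MvPolynomial n U) := by
  unfold thetaIso
  rw [Iso.trans_hom, Category.assoc, IsPullback.isoPullback_hom_snd, Iso.symm_hom]
  exact AffineSpace.SpecIso_inv_over (CommRingCat.of U)

theorem thetaIso_inv_fst : (thetaIso R n U).inv ≫ tauU n (chartA R n) U = pullback.fst _ _ := by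
  rw [← thetaIso_hom_fst R n U, Iso.inv_hom_id_assoc]

theorem thetaIso_inv_snd : (thetaIso R n U).inv ≫ SpM (MvPolynomial.C : U →+* MvPolynomial n U) =
    pullback.snd _ _ := by
  rw [← thetaIso_hom_snd R n U, Iso.inv_hom_id_assoc]

variable {R n} in
/-- `DescOver` in terms of the fibre product. -/
theorem descOver_iff {G : Over (Spec (CommRingCat.of R))} [GrpObj G]
    (X : NonAbH1.TorsorSch (Red.bc (𝔸(n; Spec (CommRingCat.of R)) ↘ Spec (CommRingCat.of R)) G)
      Scheme.fppfPrecoverage) :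
    DescOver n (𝔸(n; Spec (CommRingCat.of R)) ↘ Spec (CommRingCat.of R)) X.act (chartA R n) U ↔
      ∃ P : NonAbH1.TorsorSch (Red.bc (SpM (algebraMap R U)) G) Scheme.fppfPrecoverage,
        Nonempty (NonAbH1.EquivIso
          (pullAct (pullback.snd (𝔸(n; Spec (CommRingCat.of R)) ↘ Spec (CommRingCat.of R))
            (SpM (algebraMap R U))) (SpM (algebraMap R U)) rfl P.act)
          (pullAct (pullback.fst (𝔸(n; Spec (CommRingCat.of R)) ↘ Spec (CommRingCat.of R))
            (SpM (algebraMap R U)))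
            (𝔸(n; Spec (CommRingCat.of R)) ↘ Spec (CommRingCat.of R)) pullback.condition
            X.act)) := by
  constructor
  · rintro ⟨P, aP, htP, ⟨E⟩⟩
    refine ⟨⟨P, aP, htP⟩, ?_⟩
    exact EqMap.nonempty_equivIso rfl pullback.condition
      ((E.bc (thetaIso R n U).inv).cast (thetaIso_inv_snd R n U) (thetaIso_inv_fst R n U))
      htP X.isTorsor
  · rintro ⟨P, ⟨e⟩⟩
    obtain ⟨E⟩ := EqMap.nonempty_of_equivIso rfl pullback.condition e
    exact ⟨P.X, P.act, P.isTorsor,
      ⟨(E.bc (thetaIso R n U).hom).cast (thetaIso_hom_snd R n U) (thetaIso_hom_fst R n U)⟩⟩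

/-- **The ideal of descent** for a torsor over affine space. -/
theorem main17850 (G : Over (Spec (CommRingCat.of R))) [GrpObj G]
    [LocallyOfFinitePresentation G.hom]
    (X : NonAbH1.TorsorSch (Red.bc (𝔸(n; Spec (CommRingCat.of R)) ↘ Spec (CommRingCat.of R)) G)
      Scheme.fppfPrecoverage) :
    ∃ I : Ideal R, ∀ r : R, r ∈ I ↔
      ∃ P : NonAbH1.TorsorSch (Red.bc (SpM (algebraMap R (Localization.Away r))) G)
          Scheme.fppfPrecoverage,
        Nonempty (NonAbH1.EquivIso
          (pullAct (pullback.snd (𝔸(n; Spec (CommRingCat.of R)) ↘ Spec (CommRingCat.of R))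
            (SpM (algebraMap R (Localization.Away r)))) (SpM (algebraMap R (Localization.Away r)))
            rfl P.act)
          (pullAct (pullback.fst (𝔸(n; Spec (CommRingCat.of R)) ↘ Spec (CommRingCat.of R))
            (SpM (algebraMap R (Localization.Away r))))
            (𝔸(n; Spec (CommRingCat.of R)) ↘ Spec (CommRingCat.of R)) pullback.condition
            X.act)) := by
  obtain ⟨I, hI⟩ := exists_ideal_descOver n
    (𝔸(n; Spec (CommRingCat.of R)) ↘ Spec (CommRingCat.of R)) X.act (chartA R n)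
    (chartA_comp R n) X.isTorsor
  exact ⟨I, fun r => (hI r).trans (descOver_iff (Localization.Away r) X)⟩

end Boundary

end Groth.Agent.Lib.TLineH4
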