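import Mathlib
import Groth.Agent.Lib.TDescG_helper4

/-!
# Change of the base of the group in pointwise equivariance (helper4)

For `ε : S' ⟶ S`, an `S`-group `G` and `G' = G ×_S S'`, an action of `G ×_S B` on `Z` (for
`p : B ⟶ S`, `p = p' ≫ ε`) is the same as an action of `G' ×_{S'} B`.  `sm_dict` compares the
pointwise actions, `EqMap.toBase`/`EqMap.ofBase` transport equivariant maps.
-/

set_option autoImplicit false
set_option linter.style.haveILetI false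
set_option linter.unusedSectionVars false
universe u
open CategoryTheory CategoryTheory.Limits AlgebraicGeometry MonoidalCategory
  CartesianMonoidalCategory MonObj

namespace Groth.Agent.Lib.TLineH4

section Dict

variable {S S' B : Scheme.{u}} (ε : S' ⟶ S) {G : Over S} [GrpObj G] (p' : B ⟶ S') {p : B ⟶ S}
  (h : p' ≫ ε = p) {Z : Over B}

theorem toBC_dict {T : Scheme.{u}} {s' : T ⟶ S'} (c' : Over.mk s' ⟶ Red.bc ε G) (b : T ⟶ B)
    (hb' : b ≫ p' = s') (hb : b ≫ p = s' ≫ ε) :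
    toBC p' b hb' c' ≫ (ActBC.bcCompIso p' ε G h).hom = toBC p b hb (fromBC ε s' rfl c') := by
  apply Over.OverMorphism.ext
  apply pullback.hom_ext
  · rw [Over.comp_left, Category.assoc, ActBC.bcCompIso_hom_left_fst, ← Category.assoc,
      toBC_left_fst, toBC_left_fst]
    rfl
  · rw [Over.comp_left, Category.assoc, ActBC.bcCompIso_hom_left_snd, toBC_left_snd, toBC_left_snd]

/-- The pointwise action of the restricted action. -/
theorem sm_dict (a : AlgGrp.Action (Red.bc p G) Z) {T : Scheme.{u}} {s' : T ⟶ S'}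
    (c' : Over.mk s' ⟶ Red.bc ε G) (x : T ⟶ Z.left) (hx' : (x ≫ Z.hom) ≫ p' = s')
    (hx : (x ≫ Z.hom) ≫ p = s' ≫ ε) :
    sm p' (a.restrict (ActBC.bcCompIso p' ε G h).hom) c' x hx' =
      sm p a (fromBC ε s' rfl c') x hx := by
  unfold sm smul
  rw [AlgGrp.Action.lift_restrict_act, toBC_dict ε p' h c' (x ≫ Z.hom) hx' hx]

theorem act_dict_fwd (a : AlgGrp.Action (Red.bc p G) Z) {T : Scheme.{u}} {s' : T ⟶ S'}
    (c' : Over.mk s' ⟶ Red.bc ε G) (x y : T ⟶ Z.left)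
    (hA : Act p' (a.restrict (ActBC.bcCompIso p' ε G h).hom) c' x y) :
    Act p a (fromBC ε s' rfl c') x y := by
  obtain ⟨hx', e⟩ := hA
  have hx : (x ≫ Z.hom) ≫ p = s' ≫ ε := by rw [← h, ← Category.assoc, hx']
  exact ⟨hx, by rw [← sm_dict ε p' h a c' x hx' hx]; exact e⟩

theorem act_dict_bwd (a : AlgGrp.Action (Red.bc p G) Z) {T : Scheme.{u}} {s' : T ⟶ S'}
    (c' : Over.mk s' ⟶ Red.bc ε G) (x y : T ⟶ Z.left) (hx' : (x ≫ Z.hom) ≫ p' = s')
    (hA : Act p a (fromBC ε s' rfl c') x y) :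
    Act p' (a.restrict (ActBC.bcCompIso p' ε G h).hom) c' x y := by
  obtain ⟨hx, e⟩ := hA
  exact ⟨hx', by rw [sm_dict ε p' h a c' x hx' hx]; exact e⟩

end Dict

section RestrictIso

variable {S : Scheme.{u}} {G H X : Over S} [GrpObj G] [GrpObj H]

theorem restrict_inv_hom (κ : H ≅ G) [IsMonHom κ.hom] (a' : AlgGrp.Action H X) :
    (a'.restrict κ.inv).restrict κ.hom = a' :=
  AlgGrp.Action.ext' (by
    rw [AlgGrp.Action.restrict_act, AlgGrp.Action.restrict_act, ← comp_whiskerRight_assoc,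
      κ.hom_inv_id, id_whiskerRight, Category.id_comp])

end RestrictIso

section EqDict

variable {S S' : Scheme.{u}} (ε : S' ⟶ S) {G : Over S} [GrpObj G] {B₁ B₂ M : Scheme.{u}}
  (p₁' : B₁ ⟶ S') {p₁ : B₁ ⟶ S} (h₁ : p₁' ≫ ε = p₁) (p₂' : B₂ ⟶ S') {p₂ : B₂ ⟶ S}
  (h₂ : p₂' ≫ ε = p₂) {Z₁ : Over B₁} {Z₂ : Over B₂}
  (a₁ : AlgGrp.Action (Red.bc p₁ G) Z₁) (a₂ : AlgGrp.Action (Red.bc p₂ G) Z₂)
  {m₁ : M ⟶ B₁} {m₂ : M ⟶ B₂}

/-- Transport of an equivariant map to the base-changed group. -/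
noncomputable def EqMap.toBase (E : EqMap p₁ p₂ a₁ a₂ m₁ m₂) (hd : m₁ ≫ p₁' = m₂ ≫ p₂') :
    EqMap p₁' p₂' (a₁.restrict (ActBC.bcCompIso p₁' ε G h₁).hom)
      (a₂.restrict (ActBC.bcCompIso p₂' ε G h₂).hom) m₁ m₂ :=
  EqMap.mkRel E.φ E.hover (by
    intro T s' c' z₁ z₁' m hz hz' hA
    have A1 := act_dict_fwd ε p₁' h₁ a₁ c' _ _ hA
    have hd0 : m₁ ≫ p₁ = m₂ ≫ p₂ := by
      rw [← h₁, ← h₂, ← Category.assoc, hd, Category.assoc]
    have A2 := E.act hd0 A1 m hz hz'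
    refine act_dict_bwd ε p₂' h₂ a₂ c' _ _ ?_ A2
    rw [Category.assoc (pullback.lift z₁ m hz), E.hover, ← Category.assoc, pullback.lift_snd,
      Category.assoc, ← hd, ← Category.assoc, ← hz]
    exact hA.base)

/-- Transport of an equivariant map from the base-changed group. -/
noncomputable def EqMap.ofBase
    (E' : EqMap p₁' p₂' (a₁.restrict (ActBC.bcCompIso p₁' ε G h₁).hom)
      (a₂.restrict (ActBC.bcCompIso p₂' ε G h₂).hom) m₁ m₂) (hd : m₁ ≫ p₁' = m₂ ≫ p₂') :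
    EqMap p₁ p₂ a₁ a₂ m₁ m₂ :=
  EqMap.mkRel E'.φ E'.hover (by
    intro T s c z₁ z₁' m hz hz' hA
    have hb := hA.base
    obtain ⟨s', hs'⟩ : ∃ s' : T ⟶ S', s' = (z₁ ≫ Z₁.hom) ≫ p₁' := ⟨_, rfl⟩
    have hs : s = s' ≫ ε := by
      rw [hs', Category.assoc, h₁]
      exact hb.symm
    subst hs
    have hc : fromBC ε s' rfl (toBC ε s' rfl c) = c := fromBC_toBC ε s' rfl c
    rw [← hc] at hA ⊢
    have A1 := act_dict_bwd ε p₁' h₁ a₁ (toBC ε s' rfl c) _ _ hs'.symm hA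
    have A2 := E'.act hd A1 m hz hz'
    exact act_dict_fwd ε p₂' h₂ a₂ _ _ _ A2)

end EqDict

end Groth.Agent.Lib.TLineH4
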