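import Mathlib
import Groth.Agent.Lib.TDescH_helper4

/-!
# The identification `G ×_S S ≅ G` of groups and the final conversion (helper4)
-/

set_option autoImplicit false
set_option linter.style.haveILetI false
set_option linter.unusedSectionVars false
universe u
open CategoryTheory CategoryTheory.Limits AlgebraicGeometry MonoidalCategory
  CartesianMonoidalCategory MonObj

namespace Groth.Agent.Lib.TLineH4

section IdIso

variable {S : Scheme.{u}} (G : Over S) [GrpObj G]

/-- The projection `G ×_S S ⟶ G`. -/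
noncomputable def idHom : Red.bc (𝟙 S) G ⟶ G :=
  Over.homMk (pullback.fst G.hom (𝟙 S)) (by
    show pullback.fst G.hom (𝟙 S) ≫ G.hom = pullback.snd G.hom (𝟙 S)
    rw [pullback.condition, Category.comp_id])

theorem idHom_left : (idHom G).left = pullback.fst G.hom (𝟙 S) := rfl

instance idHom_isIso : IsIso (idHom G) := by
  haveI : IsIso ((Over.forget S).map (idHom G)) := by
    show IsIso (pullback.fst G.hom (𝟙 S))
    infer_instance
  exact isIso_of_reflects_iso (idHom G) (Over.forget S)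

theorem idHom_mul : μ[Red.bc (𝟙 S) G] ≫ idHom G = (idHom G ⊗ₘ idHom G) ≫ μ[G] := by
  ext
  simp only [Functor.obj.μ_def, Over.comp_left, Category.assoc, idHom_left,
    ActBC.pullback_map_left_fst]
  rw [← Category.assoc]
  congr 1
  apply pullback.hom_ext
  · simp only [Category.assoc]
    rw [ActBC.μ_left_fst_fst, ActBC.tensorHom_left_fst', idHom_left]
  · simp only [Category.assoc]
    rw [ActBC.μ_left_fst_snd, ActBC.tensorHom_left_snd', idHom_left]

instance idHom_isMonHom : IsMonHom (idHom G) where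
  one_hom := by
    have hmul := idHom_mul G
    have h1 : (1 : 𝟙_ (Over S) ⟶ Red.bc (𝟙 S) G) = η := by
      rw [Hom.one_def, toUnit_unique (toUnit _) (𝟙 _), Category.id_comp]
    have h1' : (1 : 𝟙_ (Over S) ⟶ G) = η := by
      rw [Hom.one_def, toUnit_unique (toUnit _) (𝟙 _), Category.id_comp]
    have hx : (η ≫ idHom G) * (η ≫ idHom G) = (η ≫ idHom G) * 1 := by
      rw [_root_.mul_one, Hom.mul_def, ← lift_map_assoc, ← hmul, ← Category.assoc, ← Hom.mul_def,
        ← h1, _root_.mul_one]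
    rw [← h1']
    exact mul_left_cancel hx
  mul_hom := idHom_mul G

/-- The isomorphism of groups `G ×_S S ≅ G`. -/
noncomputable def idIso : Red.bc (𝟙 S) G ≅ G := asIso (idHom G)

instance idIso_hom_isMonHom : IsMonHom (idIso G).hom := idHom_isMonHom G

theorem idIso_hom : (idIso G).hom = idHom G := rfl

end IdIso

section Final

variable {S B : Scheme.{u}} {G : Over S} [GrpObj G] (π : B ⟶ S)

theorem pullback_map_idHom (h₁ : π ≫ 𝟙 S = π) :
    (Over.pullback π).map (idHom G) = (ActBC.bcCompIso π (𝟙 S) G h₁).hom := by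
  ext
  apply pullback.hom_ext
  · rw [ActBC.pullback_map_left_fst, ActBC.bcCompIso_hom_left_fst, idHom_left]
  · exact (Over.w _).trans (Over.w _).symm

theorem pullback_map_inv_idHom (h₁ : π ≫ 𝟙 S = π) :
    (Over.pullback π).map (idIso G).inv = (ActBC.bcCompIso π (𝟙 S) G h₁).inv := by
  rw [← cancel_epi (ActBC.bcCompIso π (𝟙 S) G h₁).hom, Iso.hom_inv_id, ← pullback_map_idHom π h₁,
    ← idIso_hom, ← CategoryTheory.Functor.map_comp, Iso.hom_inv_id, CategoryTheory.Functor.map_id]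

theorem bc_restrict_idHom (h₁ : π ≫ 𝟙 S = π) {P : Over S}
    (a : AlgGrp.Action (Red.bc (𝟙 S) G) P) :
    (a.restrict ((idIso G).inv)).bc π = pullAct π (𝟙 S) h₁ a := by
  rw [AlgGrp.Action.bc_restrict]
  unfold pullAct
  apply AlgGrp.Action.ext'
  rw [AlgGrp.Action.restrict_act, AlgGrp.Action.restrict_act, pullback_map_inv_idHom π h₁]

theorem isEquivariant_comp {S₀ : Scheme.{u}} {G₀ X₁ X₂ X₃ : Over S₀} [GrpObj G₀]
    {a₁ : AlgGrp.Action G₀ X₁} {a₂ : AlgGrp.Action G₀ X₂} {a₃ : AlgGrp.Action G₀ X₃}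
    {u : X₁ ⟶ X₂} {v : X₂ ⟶ X₃} (hu : AlgGrp.Action.IsEquivariant a₁ a₂ u)
    (hv : AlgGrp.Action.IsEquivariant a₂ a₃ v) : AlgGrp.Action.IsEquivariant a₁ a₃ (u ≫ v) := by
  unfold AlgGrp.Action.IsEquivariant at *
  rw [← Category.assoc, hu, Category.assoc, hv, MonoidalCategory.whiskerLeft_comp, Category.assoc]

/-- The projection `X ×_B B ⟶ X`. -/
noncomputable def fstHom (X : Over B) : Red.bc (𝟙 B) X ⟶ X :=
  Over.homMk (pullback.fst X.hom (𝟙 B)) (by
    show pullback.fst X.hom (𝟙 B) ≫ X.hom = pullback.snd X.hom (𝟙 B)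
    rw [pullback.condition, Category.comp_id])

theorem fstHom_equivariant {X : Over B} (aX : AlgGrp.Action (Red.bc π G) X)
    (h₂ : 𝟙 B ≫ π = π) :
    AlgGrp.Action.IsEquivariant (pullAct (𝟙 B) π h₂ aX) aX (fstHom X) := by
  apply equivariant_of_sm π
  intro T s c x hx hx'
  exact sm_pull_fst (𝟙 B) π h₂ aX c x hx hx'

/-- From an equivariant map `P ×_S B ⟶ X` (pointwise form) to the statement form. -/
theorem final_conv {P : Over S} (aP : AlgGrp.Action (Red.bc (𝟙 S) G) P)
    (htP : NonAbH1.IsTorsorFor Scheme.fppfPrecoverage aP) {X : Over B}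
    (aX : AlgGrp.Action (Red.bc π G) X) (htX : NonAbH1.IsTorsorFor Scheme.fppfPrecoverage aX)
    (E : EqMap (𝟙 S) π aP aX π (𝟙 B)) :
    ∃ Q : NonAbH1.TorsorSch G Scheme.fppfPrecoverage,
      Nonempty (NonAbH1.EquivIso (Q.act.bc π) aX) := by
  have h₁ : π ≫ 𝟙 S = π := Category.comp_id _
  have h₂ : 𝟙 B ≫ π = π := Category.id_comp _
  refine ⟨⟨P, aP.restrict ((idIso G).inv), isTorsorFor_restrict _ _ _ htP⟩, ?_⟩
  show Nonempty (NonAbH1.EquivIso ((aP.restrict ((idIso G).inv)).bc π) aX)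
  rw [bc_restrict_idHom π h₁ aP]
  have hu := isEquivariant_comp (E.toHom_equivariant h₁ h₂) (fstHom_equivariant π aX h₂)
  have hq : ∀ {Y : Over B} (a : AlgGrp.Action (Red.bc π G) Y),
      NonAbH1.IsTorsorFor Scheme.fppfPrecoverage a →
        NonAbH1.IsTorsorFor Scheme.fpqcPrecoverage a := by
    intro Y a ha
    obtain ⟨Rr, hR, hsec⟩ := ha.2
    exact ⟨ha.1, Rr, Scheme.fppfPrecoverage_le_fpqcPrecoverage _ hR, hsec⟩
  haveI : IsIso (E.toHom ≫ fstHom X) := TorsorIso_helper7.main _ _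
    (hq _ (isTorsorFor_pullAct π (𝟙 S) h₁ aP _ htP)) (hq _ htX) _ hu
  exact ⟨⟨asIso (E.toHom ≫ fstHom X), hu⟩⟩

end Final

end Groth.Agent.Lib.TLineH4
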