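import Mathlib
import Groth.Agent.Lib.TDescI_helper4

/-!
# Torsors over affine space over an affine base: Zariski-local descent implies descent (helper4)
-/

set_option autoImplicit false
set_option linter.style.haveILetI false
set_option linter.unusedSectionVars false
universe u
open CategoryTheory CategoryTheory.Limits AlgebraicGeometry MonoidalCategory
  CartesianMonoidalCategory MonObj

namespace Groth.Agent.Lib.TLineH4

open Groth.Agent.Lib.GlueH4 Groth.Agent.Lib.QLimH4 Groth.Agent.Lib.QGrpH4 SchFpqcCovH7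

section Setup

attribute [local instance] MvPolynomial.algebraMvPolynomial

variable {S : Scheme.{u}} {R : Type u} [CommRing R] (e : S ≅ Spec (CommRingCat.of R)) (n : Type u)
  {G : Over S} [GrpObj G]
  (X : NonAbH1.TorsorSch (Red.bc (𝔸(n; S) ↘ S) G) Scheme.fppfPrecoverage)

/-- The structure map of `𝔸ⁿ_S` to `Spec R`. -/
noncomputable def p2 : 𝔸(n; S) ⟶ Spec (CommRingCat.of R) := (𝔸(n; S) ↘ S) ≫ e.hom

theorem p2_comp : p2 e n ≫ e.inv = 𝔸(n; S) ↘ S := by
  unfold p2
  rw [Category.assoc, e.hom_inv_id, Category.comp_id]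

/-- The action of the group over `Spec R`. -/
noncomputable def a2 : AlgGrp.Action (Red.bc (p2 e n) (Red.bc e.inv G)) X.X :=
  X.act.restrict (ActBC.bcCompIso (p2 e n) e.inv G (p2_comp e n)).hom

theorem a2_torsor : NonAbH1.IsTorsorFor Scheme.fppfPrecoverage (a2 e n X) :=
  isTorsorFor_restrict _ _ _ X.isTorsor

/-- The chart of `𝔸ⁿ_S`. -/
noncomputable def chartS : Spec (CommRingCat.of (MvPolynomial n R)) ⟶ 𝔸(n; S) :=
  (AffineSpace.SpecIso n (CommRingCat.of R)).inv ≫ AffineSpace.map n e.inv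

theorem chartS_comp : chartS e n ≫ p2 e n = SpM (algebraMap R (MvPolynomial n R)) := by
  unfold chartS p2
  rw [Category.assoc, ← Category.assoc (AffineSpace.map n e.inv), AffineSpace.map_over,
    Category.assoc, e.inv_hom_id, Category.comp_id]
  exact AffineSpace.SpecIso_inv_over (CommRingCat.of R)

theorem tauU_over (A : Type u) [CommRing A] [Algebra R A] :
    tauU n (chartS e n) A ≫ (𝔸(n; S) ↘ S) =
      SpM (MvPolynomial.C : A →+* MvPolynomial n A) ≫ SpM (algebraMap R A) ≫ e.inv := by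
  have h := tauU_comp n (p2 e n) (chartS e n) (chartS_comp e n) A
  rw [← p2_comp e n, ← Category.assoc, h, ← Category.assoc, pb_hfs]

/-- Zariski-local descent data give `DescOver`. -/
theorem descOver_of_open (A : Type u) [CommRing A] [Algebra R A] {U : Scheme.{u}} (j : U ⟶ S)
    [IsOpenImmersion j]
    (hr : Set.range (SpM (algebraMap R A) ≫ e.inv) ⊆ Set.range j)
    (P : NonAbH1.TorsorSch (Red.bc j G) Scheme.fppfPrecoverage)
    (eq : NonAbH1.EquivIso
      (pullAct (pullback.snd (𝔸(n; S) ↘ S) j) j rfl P.act)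
      (pullAct (pullback.fst (𝔸(n; S) ↘ S) j) (𝔸(n; S) ↘ S) pullback.condition X.act)) :
    DescOver n (p2 e n) (a2 e n X) (chartS e n) A := by
  obtain ⟨k, hk⟩ : ∃ k : Spec (CommRingCat.of A) ⟶ U, k ≫ j = SpM (algebraMap R A) ≫ e.inv :=
    ⟨IsOpenImmersion.lift j _ hr, IsOpenImmersion.lift_fac j _ hr⟩
  obtain ⟨E₀⟩ := EqMap.nonempty_of_equivIso rfl pullback.condition eq
  have hθ : tauU n (chartS e n) A ≫ (𝔸(n; S) ↘ S) =
      (SpM (MvPolynomial.C : A →+* MvPolynomial n A) ≫ k) ≫ j := by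
    rw [tauU_over, Category.assoc, hk]
  obtain ⟨θ, hθ1, hθ2⟩ : ∃ θ : Spec (CommRingCat.of (MvPolynomial n A)) ⟶
      pullback (𝔸(n; S) ↘ S) j, θ ≫ pullback.fst _ _ = tauU n (chartS e n) A ∧
      θ ≫ pullback.snd _ _ = SpM (MvPolynomial.C : A →+* MvPolynomial n A) ≫ k :=
    ⟨pullback.lift _ _ hθ, pullback.lift_fst _ _ _, pullback.lift_snd _ _ _⟩
  have E₁ := (E₀.bc θ).cast hθ2 hθ1
  have E₂ := E₁.pullSrc k hk hθ.symm
  have hd : SpM (MvPolynomial.C : A →+* MvPolynomial n A) ≫ SpM (algebraMap R A) =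
      tauU n (chartS e n) A ≫ p2 e n := by
    rw [tauU_comp n (p2 e n) (chartS e n) (chartS_comp e n) A]
    exact pb_hfs _
  have E₃ := EqMap.toBase e.inv (SpM (algebraMap R A)) rfl (p2 e n) (p2_comp e n)
    (pullAct k j hk P.act) X.act E₂ hd
  exact ⟨Red.bc k P.X, _, isTorsorFor_restrict _ _ _
    (isTorsorFor_pullAct k j hk P.act _ P.isTorsor), ⟨E₃⟩⟩

theorem tauU_self : tauU n (chartS e n) R = chartS e n := by
  unfold tauU
  have h : MvPolynomial.map (σ := n) (RingHom.id R) = RingHom.id _ :=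
    RingHom.ext fun q => MvPolynomial.map_id q
  rw [show algebraMap R R = RingHom.id R from rfl, h, SpM_id', Category.id_comp]

/-- The inverse of the chart. -/
noncomputable def rhoS : 𝔸(n; S) ⟶ Spec (CommRingCat.of (MvPolynomial n R)) :=
  AffineSpace.map n e.hom ≫ (AffineSpace.SpecIso n (CommRingCat.of R)).hom

theorem rhoS_chartS : rhoS e n ≫ chartS e n = 𝟙 _ := by
  unfold rhoS chartS
  rw [Category.assoc, Iso.hom_inv_id_assoc, ← AffineSpace.map_comp, e.hom_inv_id, AffineSpace.map_id]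

theorem rhoS_C : rhoS e n ≫ SpM (MvPolynomial.C : R →+* MvPolynomial n R) =
    (𝔸(n; S) ↘ S) ≫ e.hom := by
  unfold rhoS
  have h : (AffineSpace.SpecIso n (CommRingCat.of R)).hom ≫
      SpM (MvPolynomial.C : R →+* MvPolynomial n R) =
      𝔸(n; Spec (CommRingCat.of R)) ↘ Spec (CommRingCat.of R) := by
    rw [← cancel_epi (AffineSpace.SpecIso n (CommRingCat.of R)).inv, Iso.inv_hom_id_assoc]
    exact (AffineSpace.SpecIso_inv_over (CommRingCat.of R)).symm
  rw [Category.assoc, h, AffineSpace.map_over]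

include e in
/-- **Zariski-local descent implies descent** for torsors over affine space over an affine base. -/
theorem main17844_aux [LocallyOfFinitePresentation G.hom]
    (hloc : ∀ s : S, ∃ (U : Scheme.{u}) (j : U ⟶ S) (_ : IsOpenImmersion j),
      s ∈ Set.range j ∧
      ∃ P : NonAbH1.TorsorSch (Red.bc j G) Scheme.fppfPrecoverage,
        Nonempty (NonAbH1.EquivIso (pullAct (pullback.snd (𝔸(n; S) ↘ S) j) j rfl P.act)
          (pullAct (pullback.fst (𝔸(n; S) ↘ S) j) (𝔸(n; S) ↘ S) pullback.condition X.act))) :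
    ∃ P : NonAbH1.TorsorSch G Scheme.fppfPrecoverage,
      Nonempty (NonAbH1.EquivIso (P.act.bc (𝔸(n; S) ↘ S)) X.act) := by
  haveI : LocallyOfFinitePresentation (Red.bc e.inv G).hom := by
    show LocallyOfFinitePresentation (pullback.snd G.hom e.inv)
    infer_instance
  obtain ⟨I, hI⟩ := exists_ideal_descOver n (p2 e n) (a2 e n X) (chartS e n) (chartS_comp e n)
    (a2_torsor e n X)
  have hItop : I = ⊤ := by
    by_contra hne
    obtain ⟨m, hm, hle⟩ := Ideal.exists_le_maximal I hne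
    obtain ⟨y, hy⟩ : ∃ y : Spec (CommRingCat.of R), y.asIdeal = m := ⟨⟨m, hm.isPrime⟩, rfl⟩
    obtain ⟨U, j, hj, hs, P, ⟨eq⟩⟩ := hloc (e.inv y)
    have hopen : IsOpen {z : Spec (CommRingCat.of R) | e.inv z ∈ Set.range j} :=
      j.opensRange.isOpen.preimage e.inv.continuous
    obtain ⟨_, ⟨r, rfl⟩, hyr, hsub⟩ :=
      PrimeSpectrum.isTopologicalBasis_basic_opens.exists_subset_of_mem_open (a := y) hs hopen
    have hrm : r ∉ m := by
      rw [← hy]
      exact hyr
    apply hrm
    apply hle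
    rw [hI r]
    refine descOver_of_open e n X (Localization.Away r) j ?_ P eq
    rintro _ ⟨z, rfl⟩
    have hz : (SpM (algebraMap R (Localization.Away r))) z ∈
        (PrimeSpectrum.basicOpen r : Set (PrimeSpectrum R)) := by
      rw [← PrimeSpectrum.localization_away_comap_range (Localization.Away r) r]
      exact ⟨z, rfl⟩
    rw [Scheme.Hom.comp_apply]
    exact hsub hz
  have h1 : DescOver n (p2 e n) (a2 e n X) (chartS e n) (Localization.Away (1 : R)) := by
    rw [← hI 1, hItop]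
    exact Submodule.mem_top
  haveI c1 : RCompat R (IsLocalization.Away.lift (S := Localization.Away (1 : R)) (1 : R)
      (g := RingHom.id R) isUnit_one) :=
    ⟨IsLocalization.Away.lift_comp (1 : R) isUnit_one⟩
  obtain ⟨P', aP', htP', ⟨E'⟩⟩ := h1.map n (p2 e n) (a2 e n X) (chartS e n) (chartS_comp e n)
    (IsLocalization.Away.lift (S := Localization.Away (1 : R)) (1 : R)
      (g := RingHom.id R) isUnit_one)
  -- back to the group over `S`
  have hid : SpM (algebraMap R R) = 𝟙 (Spec (CommRingCat.of R)) := by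
    rw [show algebraMap R R = RingHom.id R from rfl, SpM_id']
  obtain ⟨j₁, hj₁⟩ : ∃ j₁ : Spec (CommRingCat.of R) ⟶ S, SpM (algebraMap R R) ≫ e.inv = j₁ :=
    ⟨_, rfl⟩
  have hd : SpM (MvPolynomial.C : R →+* MvPolynomial n R) ≫ SpM (algebraMap R R) =
      tauU n (chartS e n) R ≫ p2 e n := by
    rw [tauU_comp n (p2 e n) (chartS e n) (chartS_comp e n) R]
    exact pb_hfs _
  have E'' : EqMap (SpM (algebraMap R R)) (p2 e n)
      ((aP'.restrict (ActBC.bcCompIso (SpM (algebraMap R R)) e.inv G hj₁).inv).restrict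
        (ActBC.bcCompIso (SpM (algebraMap R R)) e.inv G hj₁).hom)
      (X.act.restrict (ActBC.bcCompIso (p2 e n) e.inv G (p2_comp e n)).hom)
      (SpM (MvPolynomial.C : R →+* MvPolynomial n R)) (tauU n (chartS e n) R) := by
    rw [restrict_inv_hom]
    exact E'
  have E := EqMap.ofBase e.inv (SpM (algebraMap R R)) hj₁ (p2 e n) (p2_comp e n)
    (aP'.restrict (ActBC.bcCompIso (SpM (algebraMap R R)) e.inv G hj₁).inv) X.act E'' hd
  have ht₁ : NonAbH1.IsTorsorFor Scheme.fppfPrecoverage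
      (aP'.restrict (ActBC.bcCompIso (SpM (algebraMap R R)) e.inv G hj₁).inv) :=
    isTorsorFor_restrict _ _ _ htP'
  have hw : e.hom ≫ j₁ = 𝟙 S := by
    rw [← hj₁, hid, Category.id_comp, e.hom_inv_id]
  have E₁ := (E.bc (rhoS e n)).cast (rhoS_C e n)
    ((congrArg (fun t => rhoS e n ≫ t) (tauU_self e n)).trans (rhoS_chartS e n))
  have hd' : ((𝔸(n; S) ↘ S) ≫ e.hom) ≫ j₁ = 𝟙 _ ≫ (𝔸(n; S) ↘ S) := by
    rw [Category.assoc, hw, Category.comp_id, Category.id_comp]
  have E₂ := E₁.pullSrc e.hom hw hd'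
  exact final_conv (𝔸(n; S) ↘ S) _ (isTorsorFor_pullAct e.hom j₁ hw _ _ ht₁) X.act X.isTorsor E₂

end Setup

end Groth.Agent.Lib.TLineH4
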