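import Mathlib
import Groth.Agent.Lib.TorBal_helper5

/-!
# Tor of an overring against a torsion-free module close to a free one (helper6)

Helper lemmas for the TFCurv statements S15024, S15025.
-/

set_option autoImplicit false
universe u
open CategoryTheory CategoryTheory.Limits MonoidalCategory TensorProduct

namespace Groth.Agent.Lib.TFCurvTor_helper6

variable {O : Type u} [CommRing O] [IsDomain O]

/-- elements of a finite length module over a domain of nonzero dimension are torsion. -/
lemma exists_smul_eq_zero_of_fl (hdim : ringKrullDim O ≠ 0) (T : Type u) [AddCommGroup T]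
    [Module O T] (hT : IsFiniteLength O T) (t : T) : ∃ a : O, a ≠ 0 ∧ a • t = 0 := by
  by_contra hcon
  push_neg at hcon
  have hinj : Function.Injective (LinearMap.toSpanSingleton O T t) := by
    rw [injective_iff_map_eq_zero]
    intro a ha
    by_contra hne
    exact hcon a hne (by simpa [LinearMap.toSpanSingleton_apply] using ha)
  have hfl : IsFiniteLength O O := hT.of_injective hinj
  haveI : IsArtinian O O := (isFiniteLength_iff_isNoetherian_isArtinian.mp hfl).2
  haveI : IsArtinianRing O := ‹IsArtinian O O›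
  exact hdim (ringKrullDimZero_iff_ringKrullDim_eq_zero.mp inferInstance)

/-- common denominators. -/
lemma exists_smul_mem_of_fg {P : Type u} [AddCommGroup P] [Module O P] [Module.Finite O P]
    (N : Submodule O P) (h : ∀ p : P, ∃ a : O, a ≠ 0 ∧ a • p ∈ N) :
    ∃ a : O, a ≠ 0 ∧ ∀ p : P, a • p ∈ N := by
  classical
  obtain ⟨s, hs⟩ := (Module.Finite.fg_top : (⊤ : Submodule O P).FG)
  choose b hb0 hb using h
  refine ⟨∏ x ∈ s, b x, Finset.prod_ne_zero_iff.mpr (fun x _ => hb0 x), ?_⟩
  have hle : (⊤ : Submodule O P) ≤ N.comap ((∏ x ∈ s, b x) • (LinearMap.id : P →ₗ[O] P)) := by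
    rw [← hs, Submodule.span_le]
    intro x hx
    have hx' : x ∈ s := hx
    show ((∏ x ∈ s, b x) • (LinearMap.id : P →ₗ[O] P)) x ∈ N
    rw [LinearMap.smul_apply, LinearMap.id_apply, ← Finset.prod_erase_mul s b hx', mul_smul]
    exact N.smul_mem _ (hb x)
  intro p
  exact hle (Submodule.mem_top : p ∈ ⊤)

/-- a partial inverse up to a scalar. -/
lemma exists_section {M P : Type u} [AddCommGroup M] [Module O M] [AddCommGroup P] [Module O P]
    (g : M →ₗ[O] P) (hg : Function.Injective g) (a : O)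
    (ha : ∀ p : P, a • p ∈ LinearMap.range g) :
    ∃ h : P →ₗ[O] M, (∀ p, g (h p) = a • p) ∧ (∀ m, h (g m) = a • m) := by
  let e := LinearEquiv.ofInjective g hg
  let h : P →ₗ[O] M := e.symm.toLinearMap ∘ₗ
    LinearMap.codRestrict (LinearMap.range g) (a • (LinearMap.id : P →ₗ[O] P)) ha
  have h1 : ∀ p, g (h p) = a • p := by
    intro p
    have := congrArg Subtype.val (e.apply_symm_apply
      (LinearMap.codRestrict (LinearMap.range g) (a • (LinearMap.id : P →ₗ[O] P)) ha p))
    simpa [e, h, LinearEquiv.ofInjective_apply] using this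
  refine ⟨h, h1, fun m => hg ?_⟩
  rw [h1, map_smul]

/-- the kernel of `Q ⊗ g` is torsion when the cokernel of `g` is. -/
lemma smul_eq_zero_of_lTensor_eq_zero {M P : Type u} [AddCommGroup M] [Module O M]
    [AddCommGroup P] [Module O P] (Q : Type u) [AddCommGroup Q] [Module O Q]
    (g : M →ₗ[O] P) (h : P →ₗ[O] M) (a : O) (hh : ∀ m, h (g m) = a • m)
    (t : Q ⊗[O] M) (ht : LinearMap.lTensor Q g t = 0) : a • t = 0 := by
  have hcomp : h ∘ₗ g = a • (LinearMap.id : M →ₗ[O] M) := by
    ext m
    simp [hh]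
  have h2 : LinearMap.lTensor Q (h ∘ₗ g) t = a • t := by
    rw [hcomp, LinearMap.lTensor_smul, LinearMap.lTensor_id, LinearMap.smul_apply,
      LinearMap.id_apply]
  rw [← h2, LinearMap.lTensor_comp, LinearMap.comp_apply, ht, map_zero]

/-- `Q ⊗ O^n` is torsion-free when `Q` is. -/
lemma noZeroSMulDivisors_tensor_pi (Q : Type u) [AddCommGroup Q] [Module O Q]
    [NoZeroSMulDivisors O Q] (n : ℕ) : NoZeroSMulDivisors O (Q ⊗[O] (Fin n → O)) :=
  Function.Injective.noZeroSMulDivisors (TensorProduct.piScalarRight O O Q (Fin n))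
    (TensorProduct.piScalarRight O O Q (Fin n)).injective (map_zero _) (fun c x => map_smul _ c x)

section tor

variable (Q : Type u) [AddCommGroup Q] [Module O Q]

/-- `Tor_0(Q, Y) ≃ Q ⊗ Y`, naturally in `Y`. -/
noncomputable def e0 (Y : ModuleCat.{u} O) :
    (((Tor (ModuleCat.{u} O) 0).obj (ModuleCat.of O Q)).obj Y) ≃ₗ[O] Q ⊗[O] Y :=
  ((Functor.leftDerivedZeroIsoSelf
    ((tensoringLeft (ModuleCat.{u} O)).obj (ModuleCat.of O Q))).app Y).toLinearEquiv

lemma e0_naturality {Y Y' : ModuleCat.{u} O} (f : Y ⟶ Y')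
    (x : ((Tor (ModuleCat.{u} O) 0).obj (ModuleCat.of O Q)).obj Y) :
    e0 Q Y' ((((Tor (ModuleCat.{u} O) 0).obj (ModuleCat.of O Q)).map f).hom x) =
      LinearMap.lTensor Q f.hom (e0 Q Y x) := by
  have hn := (Functor.leftDerivedZeroIsoSelf
    ((tensoringLeft (ModuleCat.{u} O)).obj (ModuleCat.of O Q))).hom.naturality f
  have h2 := congrArg (fun φ => φ.hom x) hn
  simp only [ModuleCat.hom_comp, LinearMap.comp_apply] at h2
  have h3 : (((tensoringLeft (ModuleCat.{u} O)).obj (ModuleCat.of O Q)).map f).hom =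
      LinearMap.lTensor Q f.hom := ModuleCat.hom_whiskerLeft _ f
  rw [h3] at h2
  exact h2

end tor

end Groth.Agent.Lib.TFCurvTor_helper6
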