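import Groth.Agent.Lib.TFExt1_helper1

/-!
# `Ext¹` between monomial modules over the ring `R_n = k + Xⁿ k⟦X⟧` (helper1)

For `A = R_n` and a monomial module `M ⊆ k⟦X⟧` generated by `1, X^{s₁}, …, X^{s_r}` (`0 < s_j < n`),
the kernel of the presentation `A^{r+1} → M` is a free `k⟦X⟧`-module of rank `r`, and for a
torsion-free `N ⊆ k⟦X⟧` this gives
`Ext¹_A(M, N) ≅ (N : k⟦X⟧)^r / {(Xⁿ μ_j - X^{n+s_j} μ₀)_j}` (`Pres.length_ext`).
-/

set_option autoImplicit false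
set_option maxHeartbeats 1000000
set_option synthInstance.maxHeartbeats 400000

universe u

namespace Groth.Agent.Lib.TFExtH1

open CategoryTheory PowerSeries

noncomputable section

section Shift

variable {k : Type u} [Field k]

/-- the shift `f ↦ (f - low terms)/X^n`. -/
def sh (n : ℕ) : k⟦X⟧ →ₗ[k] k⟦X⟧ where
  toFun f := PowerSeries.mk fun m => coeff (m + n) f
  map_add' f g := by ext m; simp
  map_smul' c f := by ext m; simp

lemma coeff_sh (n m : ℕ) (f : k⟦X⟧) : coeff m (sh n f) = coeff (m + n) f := by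
  change coeff m (PowerSeries.mk fun m => coeff (m + n) f) = _
  rw [coeff_mk]

lemma sh_X_pow_mul (n : ℕ) (b : k⟦X⟧) : sh n (X ^ n * b) = b := by
  ext m
  rw [coeff_sh, coeff_X_pow_mul', if_pos (Nat.le_add_left n m), Nat.add_sub_cancel]

lemma eq_X_pow_mul_sh {n : ℕ} {a : k⟦X⟧} (h : ∀ m, m < n → coeff m a = 0) :
    a = X ^ n * sh n a := by
  ext m
  rw [coeff_X_pow_mul']
  split_ifs with hm
  · rw [coeff_sh, Nat.sub_add_cancel hm]
  · exact h m (by omega)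

lemma trunc_decomp (n : ℕ) (f : k⟦X⟧) :
    f = (∑ m ∈ Finset.range n, C (coeff m f) * X ^ m) + X ^ n * sh n f := by
  ext d
  rw [map_add, map_sum, coeff_X_pow_mul']
  simp_rw [coeff_C_mul_X_pow]
  by_cases hd : n ≤ d
  · rw [if_pos hd, coeff_sh, Nat.sub_add_cancel hd, Finset.sum_eq_zero, zero_add]
    intro m hm
    rw [if_neg]
    have := Finset.mem_range.mp hm
    omega
  · rw [if_neg hd, add_zero, Finset.sum_ite_eq, if_pos (Finset.mem_range.mpr (by omega))]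

lemma X_pow_mul_mem_supp_Ici {e n : ℕ} (h : n ≤ e) (a : k⟦X⟧) :
    X ^ e * a ∈ supp (k := k) (Set.Ici n) := by
  intro m hm
  rw [coeff_X_pow_mul'] at hm
  split_ifs at hm with hem
  · exact Set.mem_Ici.mpr (le_trans h hem)
  · exact absurd rfl hm

lemma eq_X_pow_mul_sh_of_supp {e : ℕ} {g : k⟦X⟧} {S : Set ℕ} (hS : ∀ m ∈ S, e ≤ m)
    (hg : g ∈ supp (k := k) S) : g = X ^ e * sh e g :=
  eq_X_pow_mul_sh fun m hm => by
    by_contra h
    have := hS m (hg m h)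
    omega

lemma supp_Ici_mul {e : ℕ} {g : k⟦X⟧} (hg : g ∈ supp (k := k) (Set.Ici e)) (b : k⟦X⟧) :
    g * b ∈ supp (k := k) (Set.Ici e) := by
  have h := eq_X_pow_mul_sh_of_supp (fun m hm => Set.mem_Ici.mp hm) hg
  have h2 : g * b = X ^ e * (sh e g * b) := by
    conv_lhs => rw [h]
    ring
  rw [h2]
  exact X_pow_mul_mem_supp_Ici le_rfl _

lemma conductor_iff {T : Set ℕ} {e : ℕ} (he : 1 ≤ e) (h1 : Set.Ici e ⊆ T) (h2 : e - 1 ∉ T)
    (g : k⟦X⟧) :
    (∀ b : k⟦X⟧, g * b ∈ supp (k := k) T) ↔ g ∈ supp (k := k) (Set.Ici e) := by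
  constructor
  · intro h m hm
    by_contra hme
    rw [Set.mem_Ici, not_le] at hme
    apply h2
    apply h (X ^ (e - 1 - m)) (e - 1)
    rw [coeff_mul_X_pow', if_pos (by omega)]
    have : e - 1 - (e - 1 - m) = m := by omega
    rw [this]; exact hm
  · intro hg b
    exact supp_mono h1 (supp_Ici_mul hg b)

lemma mem_sing_union_Ici {m a e : ℕ} : m ∈ ({a} ∪ Set.Ici e : Set ℕ) ↔ m = a ∨ e ≤ m := Iff.rfl

lemma mem_Iic_union_Ici {m a e : ℕ} : m ∈ (Set.Iic a ∪ Set.Ici e : Set ℕ) ↔ m ≤ a ∨ e ≤ m :=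
  Iff.rfl

lemma mem_Icc_union_Ici {m a b e : ℕ} :
    m ∈ (Set.Icc a b ∪ Set.Ici e : Set ℕ) ↔ (a ≤ m ∧ m ≤ b) ∨ e ≤ m := Iff.rfl

lemma ncard_finset {S : Set ℕ} (F : Finset ℕ) (h : ∀ m, m ∈ S ↔ m ∈ F) :
    S.Finite ∧ S.ncard = F.card := by
  have : S = ↑F := Set.ext fun m => by rw [h, Finset.mem_coe]
  rw [this]
  exact ⟨F.finite_toSet, Set.ncard_coe_finset F⟩

lemma single_eq_smul {ι : Type*} [DecidableEq ι] {R : Type*} [Semiring R] (l : ι) (c : R) :
    (Pi.single l c : ι → R) = c • Pi.single l (1 : R) := by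
  funext l'
  rw [Pi.smul_apply, Pi.single_apply, Pi.single_apply, smul_eq_mul]
  split_ifs
  · rw [mul_one]
  · rw [mul_zero]

lemma eq_linearCombination {ι : Type*} [Fintype ι] [DecidableEq ι] {R : Type*} [CommRing R]
    {N : Type*} [AddCommGroup N] [Module R N] (G : (ι → R) →ₗ[R] N) :
    G = Fintype.linearCombination R (fun l => G (Pi.single l 1)) := by
  apply LinearMap.pi_ext
  intro l c
  rw [Fintype.linearCombination_apply_single, single_eq_smul l c, map_smul]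

lemma compLeft_surjective {R M₁ M₂ : Type*} [Semiring R] [AddCommMonoid M₁] [Module R M₁]
    [AddCommMonoid M₂] [Module R M₂] (f : M₁ →ₗ[R] M₂) (hf : Function.Surjective f) (ι : Type*) :
    Function.Surjective (f.compLeft ι) := by
  intro e
  choose g hg using fun j => hf (e j)
  exact ⟨g, funext hg⟩

end Shift

section Rn

variable {k : Type u} [Field k]

/-- `A` is the ring `R_n = k + Xⁿ k⟦X⟧`. -/
def IsRn (A : Subalgebra k k⟦X⟧) (n : ℕ) : Prop :=
  ∀ f : k⟦X⟧, f ∈ A ↔ ∀ m : ℕ, coeff m f ≠ 0 → (m = 0 ∨ n ≤ m)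

variable {A : Subalgebra k k⟦X⟧} {n : ℕ}

lemma IsRn.X_pow_mul_mem (hA : IsRn A n) (b : k⟦X⟧) : X ^ n * b ∈ A := by
  rw [hA]
  intro m hm
  right
  by_contra h
  apply hm
  rw [coeff_X_pow_mul']
  exact if_neg h

lemma IsRn.coeff_eq_zero (hA : IsRn A n) {a : k⟦X⟧} (ha : a ∈ A) {m : ℕ} (h0 : m ≠ 0)
    (hm : m < n) : coeff m a = 0 := by
  by_contra h
  rcases (hA a).1 ha m h with h1 | h1
  · exact h0 h1
  · omega

lemma IsRn.eq_X_pow_mul_sh (hA : IsRn A n) {a : k⟦X⟧} (ha : a ∈ A) (h0 : coeff 0 a = 0) :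
    a = X ^ n * sh n a :=
  TFExtH1.eq_X_pow_mul_sh fun m hm => by
    rcases Nat.eq_zero_or_pos m with rfl | hpos
    · exact h0
    · exact hA.coeff_eq_zero ha (by omega) hm

/-- `S` is closed under adding anything `≥ n`. -/
def UpStable (n : ℕ) (S : Set ℕ) : Prop := ∀ s ∈ S, ∀ m, s + n ≤ m → m ∈ S

lemma IsRn.stable (hA : IsRn A n) {S : Set ℕ} (hS : UpStable n S) : Stable A S := by
  intro a ha f hf m hm
  rw [coeff_mul] at hm
  obtain ⟨p, hp, hne⟩ := Finset.exists_ne_zero_of_sum_ne_zero hm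
  have h1 : coeff p.1 a ≠ 0 := left_ne_zero_of_mul hne
  have h2 : coeff p.2 f ≠ 0 := right_ne_zero_of_mul hne
  have hpm : p.1 + p.2 = m := Finset.HasAntidiagonal.mem_antidiagonal.mp hp
  have h3 := hf p.2 h2
  rcases (hA a).1 ha p.1 h1 with h4 | h4
  · have : p.2 = m := by omega
    rw [← this]; exact h3
  · exact hS p.2 h3 m (by omega)

lemma upStable_union_Ici (n : ℕ) (S₀ : Set ℕ) : UpStable n (S₀ ∪ Set.Ici n) :=
  fun s _ m hm => Or.inr (Set.mem_Ici.mpr (by omega))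

lemma upStable_Ici {n e : ℕ} : UpStable n (Set.Ici e) :=
  fun s hs m hm => Set.mem_Ici.mpr (by have := Set.mem_Ici.mp hs; omega)

theorem IsRn.span_eq (hA : IsRn A n) (S₀ : Set ℕ) (h0 : (0 : ℕ) ∈ S₀) :
    Submodule.span ↥A ((fun a : ℕ => (X : k⟦X⟧) ^ a) '' S₀) =
      mkSub A (S₀ ∪ Set.Ici n) (hA.stable (upStable_union_Ici n S₀)) := by
  apply le_antisymm
  · rw [Submodule.span_le]
    rintro _ ⟨s, hs, rfl⟩
    exact X_pow_mem_supp (Or.inl hs)
  · intro f hf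
    have hf' : f ∈ supp (k := k) (S₀ ∪ Set.Ici n) := hf
    rw [trunc_decomp n f]
    refine Submodule.add_mem _ (Submodule.sum_mem _ fun m hm => ?_) ?_
    · by_cases hc : coeff m f = 0
      · rw [hc, map_zero, zero_mul]; exact Submodule.zero_mem _
      · have hmS : m ∈ S₀ := by
          rcases hf' m hc with h | h
          · exact h
          · have h1 := Finset.mem_range.mp hm
            have h2 := Set.mem_Ici.mp h
            omega
        have e1 : C (coeff m f) * X ^ m =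
            (⟨C (coeff m f), C_mem A _⟩ : ↥A) • ((X : k⟦X⟧) ^ m) := rfl
        rw [e1]
        exact Submodule.smul_mem _ _ (Submodule.subset_span ⟨m, hmS, rfl⟩)
    · have e1 : X ^ n * sh n f =
          (⟨X ^ n * sh n f, hA.X_pow_mul_mem _⟩ : ↥A) • ((X : k⟦X⟧) ^ 0) := by
        rw [pow_zero]; exact (mul_one _).symm
      rw [e1]
      exact Submodule.smul_mem _ _ (Submodule.subset_span ⟨0, h0, rfl⟩)

/-- a monomial module with generators `1 = X^{s 0}, X^{s 1}, …, X^{s r}`, `s j < n`. -/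
structure Pres (A : Subalgebra k k⟦X⟧) (n r : ℕ) (M : Type u) [AddCommGroup M]
    [Module ↥A M] where
  s : Fin (r + 1) → ℕ
  hs0 : s 0 = 0
  hsn : ∀ j, s j < n
  hsi : Function.Injective s
  jM : M →ₗ[↥A] k⟦X⟧
  hjM : Function.Injective jM
  gen : Fin (r + 1) → M
  hgen : ∀ j, jM (gen j) = X ^ s j
  hM : ∀ x m, m < n → coeff m (jM x) ≠ 0 → m ∈ Set.range s

namespace Pres

variable {M : Type u} [AddCommGroup M] [Module ↥A M] {r : ℕ} (P : Pres A n r M)

/-- the presentation `A^{r+1} → M`. -/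
def q : (Fin (r + 1) → ↥A) →ₗ[↥A] M := Fintype.linearCombination ↥A P.gen

lemma q_single (l : Fin (r + 1)) (c : ↥A) : P.q (Pi.single l c) = c • P.gen l :=
  Fintype.linearCombination_apply_single ↥A P.gen l c

lemma jM_q (x : Fin (r + 1) → ↥A) : P.jM (P.q x) = ∑ j, (x j : k⟦X⟧) * X ^ P.s j := by
  rw [q, Fintype.linearCombination_apply, map_sum]
  refine Finset.sum_congr rfl fun j _ => ?_
  rw [map_smul, P.hgen]
  rfl

lemma q_surjective (hA : IsRn A n) : Function.Surjective P.q := by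
  classical
  intro y
  obtain ⟨f, hf⟩ : ∃ f, f = P.jM y := ⟨_, rfl⟩
  obtain ⟨g, hg⟩ : ∃ g, g = f - ∑ j, C (coeff (P.s j) f) * X ^ P.s j := ⟨_, rfl⟩
  have hg0 : ∀ m, m < n → coeff m g = 0 := by
    intro m hm
    rw [hg, map_sub, map_sum]
    simp_rw [coeff_C_mul_X_pow]
    by_cases hmr : m ∈ Set.range P.s
    · obtain ⟨j₀, rfl⟩ := hmr
      rw [Finset.sum_eq_single j₀, if_pos rfl, sub_self]
      · intro j _ hj
        rw [if_neg]
        intro h
        exact hj (P.hsi h.symm)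
      · intro h; exact absurd (Finset.mem_univ _) h
    · have hc : coeff m f = 0 := by
        by_contra hc
        apply hmr
        apply P.hM y m hm
        rw [← hf]; exact hc
      rw [hc, zero_sub, neg_eq_zero]
      apply Finset.sum_eq_zero
      intro j _
      rw [if_neg]
      intro h
      exact hmr ⟨j, h.symm⟩
  have hg1 : g = X ^ n * sh n g := TFExtH1.eq_X_pow_mul_sh hg0
  let a₁ : Fin (r + 1) → ↥A := fun j => ⟨C (coeff (P.s j) f), C_mem A _⟩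
  let c₀ : ↥A := ⟨X ^ n * sh n g, hA.X_pow_mul_mem _⟩
  refine ⟨a₁ + Pi.single 0 c₀, ?_⟩
  apply P.hjM
  have e1 : P.jM (P.q a₁) = ∑ j, C (coeff (P.s j) f) * X ^ P.s j := P.jM_q a₁
  have e2 : P.jM (P.q (Pi.single 0 c₀)) = X ^ n * sh n g := by
    rw [P.q_single, map_smul, P.hgen, P.hs0, pow_zero]
    exact mul_one _
  rw [map_add, map_add, e1, e2, ← hg1, hg, ← hf]
  ring

lemma ker_coeff_zero (hA : IsRn A n) (x : Fin (r + 1) → ↥A) (hx : P.q x = 0)
    (j : Fin (r + 1)) : coeff 0 (x j : k⟦X⟧) = 0 := by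
  have h1 : ∑ l, (x l : k⟦X⟧) * X ^ P.s l = 0 := by rw [← P.jM_q, hx, map_zero]
  have h2 := congrArg (coeff (P.s j)) h1
  rw [map_sum, map_zero, Finset.sum_eq_single j] at h2
  · rwa [coeff_mul_X_pow', if_pos le_rfl, Nat.sub_self] at h2
  · intro l _ hlj
    rw [coeff_mul_X_pow']
    split_ifs with hle
    · apply hA.coeff_eq_zero (x l).2
      · intro h0
        apply hlj
        apply P.hsi
        omega
      · have := P.hsn j; omega
    · rfl
  · intro h; exact absurd (Finset.mem_univ j) h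

lemma ker_eq (hA : IsRn A n) (x : Fin (r + 1) → ↥A) (hx : P.q x = 0) (j : Fin (r + 1)) :
    (x j : k⟦X⟧) = X ^ n * sh n (x j : k⟦X⟧) :=
  hA.eq_X_pow_mul_sh (x j).2 (P.ker_coeff_zero hA x hx j)

lemma ker_sum (hA : IsRn A n) (x : Fin (r + 1) → ↥A) (hx : P.q x = 0) :
    ∑ l, sh n ((x l : ↥A) : k⟦X⟧) * X ^ P.s l = 0 := by
  have h1 : ∑ l, ((x l : ↥A) : k⟦X⟧) * X ^ P.s l = 0 := by rw [← P.jM_q, hx, map_zero]
  have h2 : X ^ n * ∑ l, sh n ((x l : ↥A) : k⟦X⟧) * X ^ P.s l = X ^ n * 0 := by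
    rw [mul_zero, ← h1, Finset.mul_sum]
    refine Finset.sum_congr rfl fun l _ => ?_
    conv_rhs => rw [P.ker_eq hA x hx l]
    ring
  exact mul_left_cancel₀ (pow_ne_zero n X_ne_zero) h2

/-- the generators of the kernel, as a `k⟦X⟧`-module. -/
def kap (hA : IsRn A n) (j : Fin r) (b : k⟦X⟧) : Fin (r + 1) → ↥A :=
  Pi.single j.succ ⟨X ^ n * b, hA.X_pow_mul_mem b⟩ -
    Pi.single 0 ⟨X ^ n * (b * X ^ P.s j.succ), hA.X_pow_mul_mem _⟩

lemma kap_mem (hA : IsRn A n) (j : Fin r) (b : k⟦X⟧) : P.kap hA j b ∈ LinearMap.ker P.q := by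
  rw [LinearMap.mem_ker]
  apply P.hjM
  unfold kap
  rw [map_zero, map_sub, map_sub, q_single, q_single, map_smul, map_smul, P.hgen, P.hgen, P.hs0,
    pow_zero]
  change X ^ n * b * X ^ P.s j.succ - X ^ n * (b * X ^ P.s j.succ) * 1 = 0
  ring

lemma kap_zero (hA : IsRn A n) (j : Fin r) (b : k⟦X⟧) :
    ((P.kap hA j b 0 : ↥A) : k⟦X⟧) = -(X ^ n * (b * X ^ P.s j.succ)) := by
  unfold kap
  rw [Pi.sub_apply, Pi.single_eq_of_ne (Fin.succ_ne_zero j).symm, Pi.single_eq_same, zero_sub]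
  rfl

lemma kap_succ (hA : IsRn A n) (j j' : Fin r) (b : k⟦X⟧) :
    ((P.kap hA j b j'.succ : ↥A) : k⟦X⟧) = if j' = j then X ^ n * b else 0 := by
  unfold kap
  rw [Pi.sub_apply, Pi.single_eq_of_ne (Fin.succ_ne_zero j'), sub_zero, Pi.single_apply]
  simp only [Fin.succ_inj]
  split_ifs <;> rfl

lemma ker_ext {x y : ↥(LinearMap.ker P.q)}
    (h : ∀ l, ((x.1 l : ↥A) : k⟦X⟧) = ((y.1 l : ↥A) : k⟦X⟧)) : x = y :=
  Subtype.ext (funext fun l => Subtype.ext (h l))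

/-- the `l`-th coordinate, as a linear map to `k⟦X⟧`. -/
def cB (l : Fin (r + 1)) : ↥(LinearMap.ker P.q) →ₗ[↥A] k⟦X⟧ where
  toFun x := ((x.1 l : ↥A) : k⟦X⟧)
  map_add' _ _ := rfl
  map_smul' _ _ := rfl

lemma cB_apply (l : Fin (r + 1)) (x : ↥(LinearMap.ker P.q)) :
    P.cB l x = ((x.1 l : ↥A) : k⟦X⟧) := rfl

theorem key (hA : IsRn A n) {N : Type u} [AddCommGroup N] [Module ↥A N]
    (jN : N →ₗ[↥A] k⟦X⟧) (f : ↥(LinearMap.ker P.q) →ₗ[↥A] N) (x : ↥(LinearMap.ker P.q)) :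
    jN (f x) = ∑ j : Fin r, sh n ((x.1 j.succ : ↥A) : k⟦X⟧) *
      jN (f ⟨P.kap hA j 1, P.kap_mem hA j 1⟩) := by
  have hx := LinearMap.mem_ker.mp x.2
  have hxe : ∀ l, ((x.1 l : ↥A) : k⟦X⟧) = X ^ n * sh n ((x.1 l : ↥A) : k⟦X⟧) :=
    P.ker_eq hA x.1 hx
  have hsum := P.ker_sum hA x.1 hx
  have step1 : (⟨X ^ n * 1, hA.X_pow_mul_mem 1⟩ : ↥A) • x =
      ∑ j : Fin r, (⟨X ^ n * sh n ((x.1 j.succ : ↥A) : k⟦X⟧), hA.X_pow_mul_mem _⟩ : ↥A) •
        (⟨P.kap hA j 1, P.kap_mem hA j 1⟩ : ↥(LinearMap.ker P.q)) := by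
    apply P.ker_ext
    intro l
    rw [← cB_apply, ← cB_apply, map_smul, map_sum]
    simp_rw [map_smul, cB_apply]
    change (X ^ n * 1) * ((x.1 l : ↥A) : k⟦X⟧) =
      ∑ j : Fin r, (X ^ n * sh n ((x.1 j.succ : ↥A) : k⟦X⟧)) *
        ((P.kap hA j 1 l : ↥A) : k⟦X⟧)
    refine Fin.cases ?_ (fun j' => ?_) l
    · simp_rw [P.kap_zero hA]
      rw [Fin.sum_univ_succ, P.hs0, pow_zero, mul_one] at hsum
      have h0 : ∑ j : Fin r, sh n ((x.1 j.succ : ↥A) : k⟦X⟧) * X ^ P.s j.succ =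
          - sh n ((x.1 0 : ↥A) : k⟦X⟧) := eq_neg_of_add_eq_zero_right hsum
      have h1 : ∑ j : Fin r, (X ^ n * sh n ((x.1 j.succ : ↥A) : k⟦X⟧)) *
          -(X ^ n * (1 * X ^ P.s j.succ)) =
          -(X ^ n * X ^ n) *
            ∑ j : Fin r, sh n ((x.1 j.succ : ↥A) : k⟦X⟧) * X ^ P.s j.succ := by
        rw [Finset.mul_sum]
        exact Finset.sum_congr rfl fun j _ => by ring
      rw [h1, h0]
      conv_lhs => rw [hxe 0]
      ring
    · simp_rw [P.kap_succ hA, mul_ite, mul_zero]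
      rw [Finset.sum_ite_eq, if_pos (Finset.mem_univ _)]
      conv_lhs => rw [hxe j'.succ]
      ring
  have h2 := congrArg (fun y => jN (f y)) step1
  simp only [map_smul, map_sum] at h2
  change (X ^ n * 1) * jN (f x) = ∑ j : Fin r,
    (X ^ n * sh n ((x.1 j.succ : ↥A) : k⟦X⟧)) *
      jN (f ⟨P.kap hA j 1, P.kap_mem hA j 1⟩) at h2
  have h3 : X ^ n * jN (f x) = X ^ n * ∑ j : Fin r, sh n ((x.1 j.succ : ↥A) : k⟦X⟧) *
      jN (f ⟨P.kap hA j 1, P.kap_mem hA j 1⟩) := by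
    rw [mul_one] at h2
    rw [Finset.mul_sum, h2]
    exact Finset.sum_congr rfl fun j _ => by ring
  exact mul_left_cancel₀ (pow_ne_zero n X_ne_zero) h3

lemma key_kap (hA : IsRn A n) {N : Type u} [AddCommGroup N] [Module ↥A N]
    (jN : N →ₗ[↥A] k⟦X⟧) (f : ↥(LinearMap.ker P.q) →ₗ[↥A] N) (j : Fin r) (b : k⟦X⟧) :
    jN (f ⟨P.kap hA j b, P.kap_mem hA j b⟩) =
      b * jN (f ⟨P.kap hA j 1, P.kap_mem hA j 1⟩) := by
  rw [P.key hA jN f ⟨P.kap hA j b, P.kap_mem hA j b⟩]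
  change ∑ j' : Fin r, sh n ((P.kap hA j b j'.succ : ↥A) : k⟦X⟧) *
      jN (f ⟨P.kap hA j' 1, P.kap_mem hA j' 1⟩) = _
  rw [Finset.sum_eq_single j]
  · rw [P.kap_succ hA, if_pos rfl, sh_X_pow_mul]
  · intro j' _ hj'
    rw [P.kap_succ hA, if_neg hj', map_zero, zero_mul]
  · intro h; exact absurd (Finset.mem_univ j) h

/-- **`Ext¹` of a monomial module over `R_n`** into a torsion-free module `N ⊆ k⟦X⟧`. -/
theorem length_ext (hA : IsRn A n) {N : Type u} [AddCommGroup N] [Module ↥A N]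
    (jN : N →ₗ[↥A] k⟦X⟧) (hjN : Function.Injective jN)
    (C' : Submodule ↥A k⟦X⟧)
    (hC' : ∀ g : k⟦X⟧, g ∈ C' ↔ ∀ b : k⟦X⟧, g * b ∈ LinearMap.range jN)
    {E' : Type*} [AddCommGroup E'] [Module ↥A E']
    (ρ : (Fin r → ↥C') →ₗ[↥A] E') (hρs : Function.Surjective ρ)
    (hρk : ∀ g : Fin r → ↥C', ρ g = 0 ↔ ∃ μ : Fin (r + 1) → N, ∀ j : Fin r,
        ((g j : ↥C') : k⟦X⟧) = X ^ n * jN (μ j.succ) - X ^ (n + P.s j.succ) * jN (μ 0)) :
    Module.length ↥A (Abelian.Ext.{u} (ModuleCat.of ↥A M) (ModuleCat.of ↥A N) 1) =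
      Module.length ↥A E' := by
  classical
  let Ξ₀ : (↥(LinearMap.ker P.q) →ₗ[↥A] N) →ₗ[↥A] (Fin r → ↥C') :=
    { toFun := fun f j => ⟨jN (f ⟨P.kap hA j 1, P.kap_mem hA j 1⟩), (hC' _).2 fun b =>
        LinearMap.mem_range.mpr ⟨f ⟨P.kap hA j b, P.kap_mem hA j b⟩, by
          rw [P.key_kap hA jN f j b, mul_comm]⟩⟩
      map_add' := fun f g => by
        funext j; apply Subtype.ext
        show jN ((f + g) _) = jN (f _) + jN (g _)
        rw [LinearMap.add_apply, map_add]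
      map_smul' := fun a f => by
        funext j; apply Subtype.ext
        show jN ((a • f) _) = a • jN (f _)
        rw [LinearMap.smul_apply, map_smul] }
  have hΞ₀ : ∀ f j, ((Ξ₀ f j : ↥C') : k⟦X⟧) = jN (f ⟨P.kap hA j 1, P.kap_mem hA j 1⟩) :=
    fun _ _ => rfl
  have hΞ₀s : Function.Surjective Ξ₀ := by
    intro g
    have hsm : ∀ (a : ↥A) (x : ↥(LinearMap.ker P.q)) (j : Fin r),
        sh n (((a • x : ↥(LinearMap.ker P.q)).1 j.succ : ↥A) : k⟦X⟧) =
          (a : k⟦X⟧) * sh n ((x.1 j.succ : ↥A) : k⟦X⟧) := by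
      intro a x j
      have h1 := P.ker_eq hA x.1 (LinearMap.mem_ker.mp x.2) j.succ
      have h2 : (((a • x : ↥(LinearMap.ker P.q)).1 j.succ : ↥A) : k⟦X⟧) =
          X ^ n * ((a : k⟦X⟧) * sh n ((x.1 j.succ : ↥A) : k⟦X⟧)) := by
        change (a : k⟦X⟧) * ((x.1 j.succ : ↥A) : k⟦X⟧) = _
        conv_lhs => rw [h1]
        ring
      rw [h2, sh_X_pow_mul]
    let f₀ : ↥(LinearMap.ker P.q) →ₗ[↥A] k⟦X⟧ :=
      { toFun := fun x => ∑ j : Fin r, sh n ((x.1 j.succ : ↥A) : k⟦X⟧) * ((g j : ↥C') : k⟦X⟧)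
        map_add' := fun x y => by
          beta_reduce
          rw [← Finset.sum_add_distrib]
          refine Finset.sum_congr rfl fun j _ => ?_
          rw [← add_mul, ← map_add]
          rfl
        map_smul' := fun a x => by
          beta_reduce
          rw [RingHom.id_apply, Finset.smul_sum]
          refine Finset.sum_congr rfl fun j _ => ?_
          rw [hsm a x j]
          change _ = (a : k⟦X⟧) * _
          ring }
    have hf₀v : ∀ x, f₀ x =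
        ∑ j : Fin r, sh n ((x.1 j.succ : ↥A) : k⟦X⟧) * ((g j : ↥C') : k⟦X⟧) := fun _ => rfl
    have hf₀ : ∀ x, f₀ x ∈ LinearMap.range jN := fun x => by
      rw [hf₀v]
      refine Submodule.sum_mem _ fun j _ => ?_
      have := (hC' _).1 (g j).2 (sh n ((x.1 j.succ : ↥A) : k⟦X⟧))
      rwa [mul_comm] at this
    let f : ↥(LinearMap.ker P.q) →ₗ[↥A] N :=
      (LinearEquiv.ofInjective jN hjN).symm.toLinearMap ∘ₗ
        f₀.codRestrict (LinearMap.range jN) hf₀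
    have hjf : ∀ x, jN (f x) = f₀ x := fun x => by
      have := (LinearEquiv.ofInjective jN hjN).apply_symm_apply
        (f₀.codRestrict (LinearMap.range jN) hf₀ x)
      exact congrArg Subtype.val this
    refine ⟨f, ?_⟩
    funext j
    apply Subtype.ext
    rw [hΞ₀, hjf, hf₀v]
    change ∑ j' : Fin r, sh n ((P.kap hA j 1 j'.succ : ↥A) : k⟦X⟧) *
      ((g j' : ↥C') : k⟦X⟧) = _
    rw [Finset.sum_eq_single j]
    · rw [P.kap_succ hA, if_pos rfl, sh_X_pow_mul, one_mul]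
    · intro j' _ hj'
      rw [P.kap_succ hA, if_neg hj', map_zero, zero_mul]
    · intro h; exact absurd (Finset.mem_univ j) h
  have hlc : ∀ (μ : Fin (r + 1) → N) (j : Fin r),
      jN (Fintype.linearCombination ↥A μ (P.kap hA j 1)) =
        X ^ n * jN (μ j.succ) - X ^ (n + P.s j.succ) * jN (μ 0) := by
    intro μ j
    unfold kap
    rw [map_sub, Fintype.linearCombination_apply_single,
      Fintype.linearCombination_apply_single, map_sub, map_smul, map_smul]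
    change X ^ n * 1 * jN (μ j.succ) - X ^ n * (1 * X ^ P.s j.succ) * jN (μ 0) = _
    rw [pow_add]; ring
  apply length_ext_one_eq P.q (P.q_surjective hA) (ρ.comp Ξ₀) (hρs.comp hΞ₀s)
  intro f
  rw [LinearMap.comp_apply, hρk]
  constructor
  · rintro ⟨μ, hμ⟩
    refine ⟨Fintype.linearCombination ↥A μ, fun x => ?_⟩
    apply hjN
    have e1 := P.key hA jN f x
    have e2 := P.key hA jN
      ((Fintype.linearCombination ↥A μ).comp (LinearMap.ker P.q).subtype) x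
    rw [e1]
    refine e2.trans (Finset.sum_congr rfl fun j _ => ?_)
    congr 1
    rw [← hΞ₀ f j, hμ j]
    exact hlc μ j
  · rintro ⟨G, hG⟩
    refine ⟨fun l => G (Pi.single l 1), fun j => ?_⟩
    rw [hΞ₀ f j, ← hG ⟨P.kap hA j 1, P.kap_mem hA j 1⟩]
    have h1 := LinearMap.congr_fun (eq_linearCombination G) (P.kap hA j 1)
    exact (congrArg jN h1).trans (hlc _ j)

/-- the case where the relations form a product `D'^r`. -/
theorem length_ext_prod (hA : IsRn A n) {N : Type u} [AddCommGroup N] [Module ↥A N]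
    (jN : N →ₗ[↥A] k⟦X⟧) (hjN : Function.Injective jN)
    (C' : Submodule ↥A k⟦X⟧)
    (hC' : ∀ g : k⟦X⟧, g ∈ C' ↔ ∀ b : k⟦X⟧, g * b ∈ LinearMap.range jN)
    (D' : Submodule ↥A k⟦X⟧)
    (hD : ∀ g : Fin r → ↥C', (∀ j, ((g j : ↥C') : k⟦X⟧) ∈ D') ↔
      ∃ μ : Fin (r + 1) → N, ∀ j : Fin r,
        ((g j : ↥C') : k⟦X⟧) = X ^ n * jN (μ j.succ) - X ^ (n + P.s j.succ) * jN (μ 0)) :
    Module.length ↥A (Abelian.Ext.{u} (ModuleCat.of ↥A M) (ModuleCat.of ↥A N) 1) =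
      (r : ℕ∞) * Module.length ↥A (relQ D' C') := by
  let ρ : (Fin r → ↥C') →ₗ[↥A] (Fin r → relQ D' C') :=
    { toFun := fun g j => Submodule.Quotient.mk (g j)
      map_add' := fun _ _ => rfl
      map_smul' := fun _ _ => rfl }
  have hρ : ∀ g j, ρ g j = Submodule.Quotient.mk (g j) := fun _ _ => rfl
  have hk : ∀ g : Fin r → ↥C', ρ g = 0 ↔
        ∃ μ : Fin (r + 1) → N, ∀ j : Fin r,
        ((g j : ↥C') : k⟦X⟧) = X ^ n * jN (μ j.succ) - X ^ (n + P.s j.succ) * jN (μ 0) := by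
    intro g
    rw [← hD, funext_iff]
    refine forall_congr' fun j => ?_
    rw [hρ, Pi.zero_apply, Submodule.Quotient.mk_eq_zero, Submodule.mem_comap,
      Submodule.subtype_apply]
  have hρs : Function.Surjective ρ := by
    intro e
    choose g hg using fun j => Submodule.Quotient.mk_surjective _ (e j)
    exact ⟨g, funext hg⟩
  have key := P.length_ext hA jN hjN C' hC' ρ hρs hk
  refine key.trans ?_
  rw [Module.length_pi, ENat.card_eq_coe_fintype_card, Fintype.card_fin]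

end Pres

end Rn

end

end Groth.Agent.Lib.TFExtH1
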