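import Groth.Agent.Lib.TFExt2_helper1

/-!
# `Ext¹(M, M)` for monomial modules over the cubical ring `R_n` (helper1)

`main15031`, `main15032`, `main15033`.
-/

set_option autoImplicit false
set_option maxHeartbeats 1000000
set_option synthInstance.maxHeartbeats 400000

universe u v

namespace Groth.Agent.Lib.TFExtH1

open CategoryTheory PowerSeries

noncomputable section

section Generic

variable {R : Type*} [CommRing R]

theorem length_pi_quot {B : Type*} [AddCommGroup B] [Module R B] (C' D' : Submodule R B)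
    (r : ℕ) :
    Module.length R
        ((Fin r → ↥C') ⧸ Submodule.pi Set.univ (fun _ : Fin r => D'.comap C'.subtype)) =
      (r : ℕ∞) * Module.length R (relQ D' C') := by
  rw [(Submodule.quotientPi (fun _ : Fin r => D'.comap C'.subtype)).length_eq,
    Module.length_pi, ENat.card_eq_coe_fintype_card, Fintype.card_fin]

theorem exists_quot_of_tau {V W : Type*} [AddCommGroup V] [Module R V] [AddCommGroup W]
    [Module R W] (P₀ : Submodule R V) (W₀ : Submodule R W) (τ : W →ₗ[R] V)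
    (hτ : ∀ w, τ w ∈ P₀ ↔ w ∈ W₀) :
    ∃ ρ : V →ₗ[R] (V ⧸ (P₀ ⊔ LinearMap.range τ)), Function.Surjective ρ ∧
      (∀ v, ρ v = 0 ↔ ∃ w, v - τ w ∈ P₀) ∧
      Module.length R (V ⧸ P₀) =
        Module.length R (W ⧸ W₀) + Module.length R (V ⧸ (P₀ ⊔ LinearMap.range τ)) := by
  refine ⟨Submodule.mkQ _, Submodule.mkQ_surjective _, ?_, ?_⟩
  · intro v
    rw [Submodule.mkQ_apply, Submodule.Quotient.mk_eq_zero, Submodule.mem_sup]
    constructor
    · rintro ⟨y, hy, z, ⟨w, rfl⟩, rfl⟩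
      exact ⟨w, by rw [add_sub_cancel_right]; exact hy⟩
    · rintro ⟨w, hw⟩
      exact ⟨v - τ w, hw, τ w, ⟨w, rfl⟩, sub_add_cancel _ _⟩
  · let f : W ⧸ W₀ →ₗ[R] V ⧸ P₀ := W₀.liftQ (P₀.mkQ.comp τ) (fun w hw => by
      rw [LinearMap.mem_ker, LinearMap.comp_apply, Submodule.mkQ_apply,
        Submodule.Quotient.mk_eq_zero]
      exact (hτ w).2 hw)
    let g : V ⧸ P₀ →ₗ[R] V ⧸ (P₀ ⊔ LinearMap.range τ) :=
      Submodule.mapQ _ _ LinearMap.id (fun v hv => Submodule.mem_sup_left hv)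
    have hf : ∀ w : W, f (Submodule.Quotient.mk w) = Submodule.Quotient.mk (τ w) := fun w => rfl
    have hg : ∀ v : V, g (Submodule.Quotient.mk v) = Submodule.Quotient.mk v := fun v => rfl
    apply Module.length_eq_add_of_exact f g
    · rw [injective_iff_map_eq_zero]
      intro y hy
      obtain ⟨w, rfl⟩ := Submodule.Quotient.mk_surjective _ y
      rw [hf, Submodule.Quotient.mk_eq_zero] at hy
      rw [Submodule.Quotient.mk_eq_zero]
      exact (hτ w).1 hy
    · intro y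
      obtain ⟨v, rfl⟩ := Submodule.Quotient.mk_surjective _ y
      exact ⟨Submodule.Quotient.mk v, hg v⟩
    · intro y
      obtain ⟨v, rfl⟩ := Submodule.Quotient.mk_surjective _ y
      rw [hg, Submodule.Quotient.mk_eq_zero, Submodule.mem_sup]
      constructor
      · rintro ⟨y, hy, z, ⟨w, rfl⟩, rfl⟩
        refine ⟨Submodule.Quotient.mk w, ?_⟩
        rw [hf, Submodule.Quotient.eq]
        have : τ w - (y + τ w) = -y := by abel
        rw [this]; exact P₀.neg_mem hy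
      · rintro ⟨z, hz⟩
        obtain ⟨w, rfl⟩ := Submodule.Quotient.mk_surjective _ z
        rw [hf, Submodule.Quotient.eq] at hz
        refine ⟨v - τ w, ?_, τ w, ⟨w, rfl⟩, sub_add_cancel _ _⟩
        have := P₀.neg_mem hz
        rwa [neg_sub] at this

theorem exists_quot_final {B : Type v} [AddCommGroup B] [Module R B] (C' D' : Submodule R B)
    (r : ℕ) {W : Type*} [AddCommGroup W] [Module R W] (W₀ : Submodule R W)
    (τ : W →ₗ[R] (Fin r → ↥C'))
    (hτ : ∀ w, (∀ j, ((τ w j : ↥C') : B) ∈ D') ↔ w ∈ W₀) :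
    ∃ (E' : Type v) (_ : AddCommGroup E') (_ : Module R E') (ρ : (Fin r → ↥C') →ₗ[R] E'),
      Function.Surjective ρ ∧
      (∀ v, ρ v = 0 ↔ ∃ w, ∀ j, ((v j : ↥C') : B) - ((τ w j : ↥C') : B) ∈ D') ∧
      (r : ℕ∞) * Module.length R (relQ D' C') =
        Module.length R (W ⧸ W₀) + Module.length R E' := by
  let P₀ : Submodule R (Fin r → ↥C') :=
    Submodule.pi Set.univ (fun _ : Fin r => D'.comap C'.subtype)
  have hP₀ : ∀ v : Fin r → ↥C', v ∈ P₀ ↔ ∀ j, ((v j : ↥C') : B) ∈ D' := by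
    intro v
    rw [Submodule.mem_pi]
    constructor
    · intro h j; exact h j (Set.mem_univ j)
    · intro h j _; exact h j
  obtain ⟨ρ, hρs, hρk, hlen⟩ := exists_quot_of_tau P₀ W₀ τ (fun w => (hP₀ _).trans (hτ w))
  refine ⟨_, inferInstance, inferInstance, ρ, hρs, ?_, ?_⟩
  · intro v
    rw [hρk]
    refine exists_congr fun w => ?_
    rw [hP₀]
    rfl
  · rw [← length_pi_quot, hlen]

end Generic

section Main

variable {k : Type u} [Field k]

/-- `Ext¹_A(k⟦X⟧, k⟦X⟧)` for `A = R_n`. -/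
theorem main15032 (n : ℕ) (hn : 2 ≤ n) (A : Subalgebra k k⟦X⟧) (hA : IsRn A n) :
    Module.length ↥A (Abelian.Ext.{u} (ModuleCat.of ↥A k⟦X⟧) (ModuleCat.of ↥A k⟦X⟧) 1) =
      (((n - 1) ^ 2 : ℕ) : ℕ∞) + Module.length ↥A ((k⟦X⟧ →ₗ[↥A] k⟦X⟧) ⧸
        LinearMap.range
          (Algebra.lsmul ↥A ↥A k⟦X⟧ : ↥A →ₐ[↥A] Module.End ↥A k⟦X⟧).toLinearMap) := by
  obtain ⟨r, rfl⟩ : ∃ r, n = r + 1 := ⟨n - 1, by omega⟩
  have hSu : Stable A Set.univ := fun _ _ _ _ _ _ => Set.mem_univ _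
  have hSn : Stable A (Set.Ici (r + 1)) := hA.stable upStable_Ici
  have hS0 : Stable A ({0} ∪ Set.Ici (r + 1)) := hA.stable (upStable_union_Ici _ _)
  let P : Pres A (r + 1) r k⟦X⟧ :=
    { s := fun j => j.val
      hs0 := rfl
      hsn := fun j => j.2
      hsi := Fin.val_injective
      jM := LinearMap.id
      hjM := Function.injective_id
      gen := fun j => X ^ j.val
      hgen := fun j => rfl
      hM := fun x m hm _ => ⟨⟨m, hm⟩, rfl⟩ }
  have hC' : ∀ g : k⟦X⟧, g ∈ mkSub A Set.univ hSu ↔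
      ∀ b : k⟦X⟧, g * b ∈ LinearMap.range (LinearMap.id : k⟦X⟧ →ₗ[↥A] k⟦X⟧) := by
    intro g
    constructor
    · intro _ b; rw [LinearMap.range_id]; exact Submodule.mem_top
    · intro _ m _; exact Set.mem_univ m
  have hD : ∀ g : Fin r → ↥(mkSub A Set.univ hSu),
      (∀ j, ((g j : ↥(mkSub A Set.univ hSu)) : k⟦X⟧) ∈ mkSub A (Set.Ici (r + 1)) hSn) ↔
      ∃ μ : Fin (r + 1) → k⟦X⟧, ∀ j : Fin r, ((g j : ↥(mkSub A Set.univ hSu)) : k⟦X⟧) =
        X ^ (r + 1) * (LinearMap.id : k⟦X⟧ →ₗ[↥A] k⟦X⟧) (μ j.succ) -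
          X ^ (r + 1 + P.s j.succ) * (LinearMap.id : k⟦X⟧ →ₗ[↥A] k⟦X⟧) (μ 0) := by
    intro g
    constructor
    · intro h
      refine ⟨(Fin.cons (0 : k⟦X⟧) (fun j : Fin r => sh (r + 1) (g j : k⟦X⟧)) :
        Fin (r + 1) → k⟦X⟧), fun j => ?_⟩
      rw [Fin.cons_succ, Fin.cons_zero, LinearMap.id_apply, LinearMap.id_apply, mul_zero,
        sub_zero]
      exact eq_X_pow_mul_sh_of_supp (fun m hm => Set.mem_Ici.mp hm) ((mem_mkSub A).1 (h j))
    · rintro ⟨μ, hμ⟩ j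
      rw [hμ j]
      exact (mem_mkSub A).2 (supp_sub (X_pow_mul_mem_supp_Ici le_rfl _)
        (X_pow_mul_mem_supp_Ici (Nat.le_add_right _ _) _))
  have h1 := P.length_ext_prod hA LinearMap.id Function.injective_id (mkSub A Set.univ hSu) hC'
    (mkSub A (Set.Ici (r + 1)) hSn) hD
  have hc2 := ncard_finset (S := Set.univ \ Set.Ici (r + 1)) (Finset.range (r + 1)) (fun m => by
    rw [Set.mem_sdiff, Set.mem_Ici, Finset.mem_range]
    constructor
    · intro h; omega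
    · intro h; exact ⟨Set.mem_univ m, by omega⟩)
  have h2 : Module.length ↥A (relQ (mkSub A (Set.Ici (r + 1)) hSn) (mkSub A Set.univ hSu)) =
      ((r + 1 : ℕ) : ℕ∞) := by
    rw [length_mkSub' A Set.univ (Set.Ici (r + 1)) hSu hSn (Set.subset_univ _) hc2.1, hc2.2,
      Finset.card_range]
  -- the endomorphism part
  have hmul : ∀ (f : k⟦X⟧ →ₗ[↥A] k⟦X⟧) (x : k⟦X⟧), f x = x * f 1 := by
    intro f x
    have e1 : f ((⟨X ^ (r + 1) * x, hA.X_pow_mul_mem x⟩ : ↥A) • (1 : k⟦X⟧)) =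
        (⟨X ^ (r + 1) * x, hA.X_pow_mul_mem x⟩ : ↥A) • f 1 := map_smul f _ _
    have e2 : f ((⟨X ^ (r + 1) * 1, hA.X_pow_mul_mem 1⟩ : ↥A) • x) =
        (⟨X ^ (r + 1) * 1, hA.X_pow_mul_mem 1⟩ : ↥A) • f x := map_smul f _ _
    have e3 : (⟨X ^ (r + 1) * x, hA.X_pow_mul_mem x⟩ : ↥A) • (1 : k⟦X⟧) =
        (⟨X ^ (r + 1) * 1, hA.X_pow_mul_mem 1⟩ : ↥A) • x := by
      change X ^ (r + 1) * x * 1 = X ^ (r + 1) * 1 * x
      ring
    rw [e3, e2] at e1
    change X ^ (r + 1) * 1 * f x = X ^ (r + 1) * x * f 1 at e1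
    have e4 : X ^ (r + 1) * f x = X ^ (r + 1) * (x * f 1) := by
      rw [← mul_assoc, ← e1]; ring
    exact mul_left_cancel₀ (pow_ne_zero _ X_ne_zero) e4
  let Φ : (k⟦X⟧ →ₗ[↥A] k⟦X⟧) →ₗ[↥A]
      relQ (mkSub A ({0} ∪ Set.Ici (r + 1)) hS0) (mkSub A Set.univ hSu) :=
    { toFun := fun f => Submodule.Quotient.mk
        (⟨f 1, fun m _ => Set.mem_univ m⟩ : ↥(mkSub A Set.univ hSu))
      map_add' := fun _ _ => rfl
      map_smul' := fun _ _ => rfl }
  have hΦ : ∀ f, Φ f = Submodule.Quotient.mk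
      (⟨f 1, fun m _ => Set.mem_univ m⟩ : ↥(mkSub A Set.univ hSu)) := fun f => rfl
  have hΦs : Function.Surjective Φ := by
    intro y
    obtain ⟨⟨b, hb⟩, rfl⟩ := Submodule.Quotient.mk_surjective _ y
    refine ⟨LinearMap.mulLeft ↥A b, ?_⟩
    rw [hΦ]
    congr 1
    apply Subtype.ext
    exact mul_one b
  have hker : LinearMap.range
      (Algebra.lsmul ↥A ↥A k⟦X⟧ : ↥A →ₐ[↥A] Module.End ↥A k⟦X⟧).toLinearMap =
        LinearMap.ker Φ := by
    ext f
    rw [LinearMap.mem_ker, hΦ, Submodule.Quotient.mk_eq_zero, LinearMap.mem_range]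
    constructor
    · rintro ⟨a, rfl⟩
      change (a : k⟦X⟧) * (1 : k⟦X⟧) ∈ supp ({0} ∪ Set.Ici (r + 1))
      rw [mul_one]
      intro m hm
      exact (hA a).1 a.2 m hm
    · intro hf
      have hf' : f 1 ∈ supp (k := k) ({0} ∪ Set.Ici (r + 1)) := hf
      have hf1 : f 1 ∈ A := by
        rw [hA]
        intro m hm
        exact hf' m hm
      refine ⟨⟨f 1, hf1⟩, ?_⟩
      apply LinearMap.ext
      intro x
      change f 1 * x = f x
      rw [hmul f x, mul_comm]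
  have hc3 := ncard_finset (S := Set.univ \ ({0} ∪ Set.Ici (r + 1))) (Finset.Ico 1 (r + 1))
    (fun m => by
      rw [Set.mem_sdiff, mem_sing_union_Ici, Finset.mem_Ico]
      constructor
      · intro h; omega
      · intro h; exact ⟨Set.mem_univ m, by omega⟩)
  have h3 : Module.length ↥A ((k⟦X⟧ →ₗ[↥A] k⟦X⟧) ⧸ LinearMap.range
      (Algebra.lsmul ↥A ↥A k⟦X⟧ : ↥A →ₐ[↥A] Module.End ↥A k⟦X⟧).toLinearMap) = (r : ℕ∞) := by
    rw [((Submodule.quotEquivOfEq _ _ hker).trans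
      (LinearMap.quotKerEquivOfSurjective Φ hΦs)).length_eq,
      length_mkSub' A Set.univ ({0} ∪ Set.Ici (r + 1)) hSu hS0 (Set.subset_univ _) hc3.1,
      hc3.2, Nat.card_Ico, Nat.add_sub_cancel]
  rw [h1, h2, h3, Nat.add_sub_cancel]
  push_cast
  ring

/-- `Ext¹_A(M, M)` for `M = R_{n-i}`, over `A = R_n`. -/
theorem main15033_aux (n : ℕ) (A : Subalgebra k k⟦X⟧) (hA : IsRn A n) (i : ℕ) (hi : i + 2 ≤ n)
    (Ms : Submodule ↥A k⟦X⟧)
    (hMs : ∀ f, f ∈ Ms ↔ f ∈ supp (k := k) ({0} ∪ Set.Ici (n - i))) :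
    Module.length ↥A (Abelian.Ext.{u} (ModuleCat.of ↥A ↥Ms) (ModuleCat.of ↥A ↥Ms) 1) =
      ((i * (n - 1) : ℕ) : ℕ∞) := by
  have hSC : Stable A (Set.Ici (n - i)) := hA.stable upStable_Ici
  have hSD : Stable A ({n} ∪ Set.Ici (2 * n - i)) := hA.stable (fun s hs m hm => by
    rw [mem_sing_union_Ici] at hs ⊢; omega)
  let P : Pres A n i ↥Ms :=
    { s := fun j => if j.val = 0 then 0 else n - i - 1 + j.val
      hs0 := if_pos rfl
      hsn := fun j => by
        have := j.2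
        show (if j.val = 0 then 0 else n - i - 1 + j.val) < n
        split_ifs <;> omega
      hsi := fun a b hab => by
        apply Fin.ext
        have ha := a.2
        have hb := b.2
        have hab' : (if a.val = 0 then 0 else n - i - 1 + a.val) =
          (if b.val = 0 then 0 else n - i - 1 + b.val) := hab
        split_ifs at hab' <;> omega
      jM := Ms.subtype
      hjM := Subtype.val_injective
      gen := fun j => ⟨X ^ (if j.val = 0 then 0 else n - i - 1 + j.val),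
        (hMs _).2 (X_pow_mem_supp (by
          rw [mem_sing_union_Ici]
          split_ifs <;> omega))⟩
      hgen := fun j => rfl
      hM := fun x m hm hc => by
        have h := (hMs x.1).1 x.2 m hc
        rw [mem_sing_union_Ici] at h
        rcases h with h | h
        · refine ⟨0, ?_⟩
          rw [h]
          exact if_pos rfl
        · refine ⟨⟨m - (n - i - 1), by omega⟩, ?_⟩
          show (if m - (n - i - 1) = 0 then 0 else n - i - 1 + (m - (n - i - 1))) = m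
          rw [if_neg (by omega)]; omega }
  have hsS : ∀ j : Fin i, P.s j.succ = n - i + j.val := by
    intro j
    show (if (j.succ : Fin (i + 1)).val = 0 then 0 else n - i - 1 + (j.succ : Fin (i + 1)).val) = _
    rw [Fin.val_succ, if_neg (Nat.succ_ne_zero _)]
    omega
  have hC' : ∀ g : k⟦X⟧, g ∈ mkSub A (Set.Ici (n - i)) hSC ↔
      ∀ b : k⟦X⟧, g * b ∈ LinearMap.range Ms.subtype := by
    intro g
    rw [Submodule.range_subtype]
    simp_rw [hMs]
    exact (conductor_iff (T := {0} ∪ Set.Ici (n - i)) (by omega) (fun m hm => Or.inr hm) (by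
      rw [mem_sing_union_Ici]; omega) g).symm
  have hD : ∀ g : Fin i → ↥(mkSub A (Set.Ici (n - i)) hSC),
      (∀ j, ((g j : ↥(mkSub A (Set.Ici (n - i)) hSC)) : k⟦X⟧) ∈
        mkSub A ({n} ∪ Set.Ici (2 * n - i)) hSD) ↔
      ∃ μ : Fin (i + 1) → ↥Ms, ∀ j : Fin i,
        ((g j : ↥(mkSub A (Set.Ici (n - i)) hSC)) : k⟦X⟧) =
        X ^ n * Ms.subtype (μ j.succ) - X ^ (n + P.s j.succ) * Ms.subtype (μ 0) := by
    intro g
    constructor
    · intro h
      have hsh : ∀ j, sh n ((g j : ↥(mkSub A (Set.Ici (n - i)) hSC)) : k⟦X⟧) ∈ Ms := by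
        intro j
        rw [hMs]
        intro m hm
        rw [coeff_sh] at hm
        have h1 := (mem_mkSub A).1 (h j) (m + n) hm
        rw [mem_sing_union_Ici] at h1 ⊢
        omega
      refine ⟨(Fin.cons (0 : ↥Ms) (fun j : Fin i => (⟨_, hsh j⟩ : ↥Ms)) : Fin (i + 1) → ↥Ms),
        fun j => ?_⟩
      rw [Fin.cons_succ, Fin.cons_zero, map_zero, mul_zero, sub_zero]
      exact eq_X_pow_mul_sh_of_supp (S := {n} ∪ Set.Ici (2 * n - i)) (fun m hm => by
        rw [mem_sing_union_Ici] at hm; omega) ((mem_mkSub A).1 (h j))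
    · rintro ⟨μ, hμ⟩ j
      rw [hμ j]
      refine (mem_mkSub A).2 (supp_sub ?_ ?_)
      · intro m hm
        rw [coeff_X_pow_mul'] at hm
        split_ifs at hm with hnm
        · have h1 := (hMs _).1 (μ j.succ).2 (m - n) hm
          rw [mem_sing_union_Ici] at h1 ⊢
          omega
        · exact absurd rfl hm
      · rw [hsS j]
        exact supp_mono (fun m hm => Or.inr hm) (X_pow_mul_mem_supp_Ici (by omega) _)
  have key := P.length_ext_prod hA (N := ↥Ms) Ms.subtype Ms.injective_subtype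
  have h1 := key _ hC' _ hD
  have hc := ncard_finset (S := Set.Ici (n - i) \ ({n} ∪ Set.Ici (2 * n - i)))
    ((Finset.Ico (n - i) (2 * n - i)).erase n) (fun m => by
      rw [Set.mem_sdiff, Set.mem_Ici, mem_sing_union_Ici, Finset.mem_erase, Finset.mem_Ico]
      omega)
  rw [h1, length_mkSub' A _ _ hSC hSD (fun m hm => by
      rw [mem_sing_union_Ici] at hm; exact Set.mem_Ici.mpr (by omega)) hc.1, hc.2,
    Finset.card_erase_of_mem (Finset.mem_Ico.mpr ⟨by omega, by omega⟩), Nat.card_Ico,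
    ← Nat.cast_mul]
  congr 2
  omega

theorem main15033 (n : ℕ) (A : Subalgebra k k⟦X⟧) (hA : IsRn A n) (i : ℕ) (hi : i + 2 ≤ n) :
    Module.length ↥A (Abelian.Ext.{u}
      (ModuleCat.of ↥A ↥(Submodule.span ↥A
        ((fun a : ℕ => (X : k⟦X⟧) ^ a) '' ({0} ∪ Set.Icc (n - i) (n - 1)))))
      (ModuleCat.of ↥A ↥(Submodule.span ↥A
        ((fun a : ℕ => (X : k⟦X⟧) ^ a) '' ({0} ∪ Set.Icc (n - i) (n - 1))))) 1) =
      ((i * (n - 1) : ℕ) : ℕ∞) :=
  main15033_aux n A hA i hi _ (fun f => by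
    rw [hA.span_eq _ (Or.inl rfl), mem_mkSub]
    have : (({0} ∪ Set.Icc (n - i) (n - 1)) ∪ Set.Ici n : Set ℕ) = {0} ∪ Set.Ici (n - i) := by
      ext m
      simp only [Set.mem_union, Set.mem_singleton_iff, Set.mem_Icc, Set.mem_Ici]
      omega
    rw [this])

/-- `Ext¹_A(M, M)` for `M = ⟨1, X, …, X^i⟩`, over `A = R_n`. -/
theorem main15031_aux (n : ℕ) (A : Subalgebra k k⟦X⟧) (hA : IsRn A n) (i : ℕ) (hi : i + 2 ≤ n)
    (Ms : Submodule ↥A k⟦X⟧)
    (hMs : ∀ f, f ∈ Ms ↔ f ∈ supp (k := k) (Set.Iic i ∪ Set.Ici n)) :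
    Module.length ↥A (Abelian.Ext.{u} (ModuleCat.of ↥A ↥Ms) (ModuleCat.of ↥A ↥Ms) 1) =
      ((i * (n - 2 - i) : ℕ) : ℕ∞) := by
  have hSM : Stable A (Set.Iic i ∪ Set.Ici n) := hA.stable (upStable_union_Ici n _)
  have hSC : Stable A (Set.Ici n) := hA.stable upStable_Ici
  have hSD : Stable A (Set.Icc n (n + i) ∪ Set.Ici (2 * n)) := hA.stable (fun s hs m hm => by
    rw [mem_Icc_union_Ici] at hs ⊢; omega)
  have hS0 : Stable A ({0} ∪ Set.Ici n) := hA.stable (upStable_union_Ici n _)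
  have hMs' : Ms = mkSub A (Set.Iic i ∪ Set.Ici n) hSM := Submodule.ext hMs
  let P : Pres A n i ↥Ms :=
    { s := fun j => j.val
      hs0 := rfl
      hsn := fun j => by have := j.2; omega
      hsi := Fin.val_injective
      jM := Ms.subtype
      hjM := Subtype.val_injective
      gen := fun j => ⟨X ^ j.val, (hMs _).2 (X_pow_mem_supp (Or.inl (Set.mem_Iic.mpr (by
        have := j.2; omega))))⟩
      hgen := fun j => rfl
      hM := fun x m hm hc => by
        have h := (hMs x.1).1 x.2 m hc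
        rw [mem_Iic_union_Ici] at h
        exact ⟨⟨m, by omega⟩, rfl⟩ }
  have hsS : ∀ j : Fin i, P.s j.succ = j.val + 1 := fun j => Fin.val_succ j
  have hC' : ∀ g : k⟦X⟧, g ∈ mkSub A (Set.Ici n) hSC ↔
      ∀ b : k⟦X⟧, g * b ∈ LinearMap.range Ms.subtype := by
    intro g
    rw [Submodule.range_subtype]
    simp_rw [hMs]
    exact (conductor_iff (T := Set.Iic i ∪ Set.Ici n) (by omega) (fun m hm => Or.inr hm) (by
      rw [mem_Iic_union_Ici]; omega) g).symm
  let C' := mkSub A (Set.Ici n) hSC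
  let D' := mkSub A (Set.Icc n (n + i) ∪ Set.Ici (2 * n)) hSD
  let A' := mkSub A ({0} ∪ Set.Ici n) hS0
  have hC'm : ∀ f, f ∈ C' ↔ f ∈ supp (k := k) (Set.Ici n) := fun _ => Iff.rfl
  have hD'm : ∀ f, f ∈ D' ↔ f ∈ supp (k := k) (Set.Icc n (n + i) ∪ Set.Ici (2 * n)) :=
    fun _ => Iff.rfl
  have hA'm : ∀ f, f ∈ A' ↔ f ∈ supp (k := k) ({0} ∪ Set.Ici n) := fun _ => Iff.rfl
  have hτmem : ∀ (w : ↥Ms) (j : Fin i), -(X ^ (n + (j.val + 1)) * (w : k⟦X⟧)) ∈ C' :=
    fun w j => (hC'm _).2 (supp_neg (X_pow_mul_mem_supp_Ici (Nat.le_add_right _ _) _))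
  let τ : ↥Ms →ₗ[↥A] (Fin i → ↥C') :=
    { toFun := fun w j => ⟨-(X ^ (n + (j.val + 1)) * (w : k⟦X⟧)), hτmem w j⟩
      map_add' := fun w w' => by
        funext j; apply Subtype.ext
        show -(X ^ (n + (j.val + 1)) * ((w : k⟦X⟧) + (w' : k⟦X⟧))) =
          -(X ^ (n + (j.val + 1)) * (w : k⟦X⟧)) + -(X ^ (n + (j.val + 1)) * (w' : k⟦X⟧))
        ring
      map_smul' := fun a w => by
        funext j; apply Subtype.ext
        show -(X ^ (n + (j.val + 1)) * ((a : k⟦X⟧) * (w : k⟦X⟧))) =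
          (a : k⟦X⟧) * -(X ^ (n + (j.val + 1)) * (w : k⟦X⟧))
        ring }
  have hτv : ∀ w j, ((τ w j : ↥C') : k⟦X⟧) = -(X ^ (n + (j.val + 1)) * (w : k⟦X⟧)) :=
    fun w j => rfl
  let W₀ : Submodule ↥A ↥Ms := A'.comap Ms.subtype
  have hW₀ : ∀ w : ↥Ms, w ∈ W₀ ↔ (w : k⟦X⟧) ∈ supp (k := k) ({0} ∪ Set.Ici n) :=
    fun _ => Iff.rfl
  have hτ : ∀ w : ↥Ms, (∀ j, ((τ w j : ↥C') : k⟦X⟧) ∈ D') ↔ w ∈ W₀ := by
    intro w
    rw [hW₀]
    constructor
    · intro h m hm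
      have hm' := (hMs _).1 w.2 m hm
      rw [mem_Iic_union_Ici] at hm'
      rw [mem_sing_union_Ici]
      by_contra hcon
      have hj : i - m < i := by omega
      have h1 := (hD'm _).1 (h ⟨i - m, hj⟩) (n + i + 1)
      rw [hτv, mem_Icc_union_Ici] at h1
      have h2 : coeff (n + i + 1) (-(X ^ (n + (i - m + 1)) * (w : k⟦X⟧))) ≠ 0 := by
        rw [map_neg, coeff_X_pow_mul', if_pos (by omega), neg_ne_zero]
        have : n + i + 1 - (n + (i - m + 1)) = m := by omega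
        rw [this]; exact hm
      have := h1 h2
      omega
    · intro h j
      rw [hD'm, hτv]
      apply supp_neg
      intro m hm
      rw [coeff_X_pow_mul'] at hm
      split_ifs at hm with hle
      · have h3 := h (m - (n + (j.val + 1))) hm
        rw [mem_sing_union_Ici] at h3
        rw [mem_Icc_union_Ici]
        have := j.2
        omega
      · exact absurd rfl hm
  obtain ⟨E', _, _, ρ, hρs, hρk, hlen⟩ := exists_quot_final (R := ↥A) (W := ↥Ms) C' D' i W₀ τ hτ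
  have hρk' : ∀ g : Fin i → ↥C', ρ g = 0 ↔ ∃ μ : Fin (i + 1) → ↥Ms, ∀ j : Fin i,
      ((g j : ↥C') : k⟦X⟧) =
        X ^ n * Ms.subtype (μ j.succ) - X ^ (n + P.s j.succ) * Ms.subtype (μ 0) := by
    intro g
    rw [hρk]
    constructor
    · rintro ⟨w, hw⟩
      have hsh : ∀ j, sh n (((g j : ↥C') : k⟦X⟧) - ((τ w j : ↥C') : k⟦X⟧)) ∈ Ms := by
        intro j
        rw [hMs]
        intro m hm
        rw [coeff_sh] at hm
        have h1 := (hD'm _).1 (hw j) (m + n) hm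
        rw [mem_Icc_union_Ici] at h1
        rw [mem_Iic_union_Ici]
        omega
      refine ⟨(Fin.cons w (fun j : Fin i => (⟨_, hsh j⟩ : ↥Ms)) : Fin (i + 1) → ↥Ms),
        fun j => ?_⟩
      rw [Fin.cons_succ, Fin.cons_zero, hsS]
      change _ = X ^ n * sh n (((g j : ↥C') : k⟦X⟧) - ((τ w j : ↥C') : k⟦X⟧)) -
        X ^ (n + (j.val + 1)) * (w : k⟦X⟧)
      rw [← eq_X_pow_mul_sh_of_supp (S := Set.Icc n (n + i) ∪ Set.Ici (2 * n)) (fun m hm => by
        rw [mem_Icc_union_Ici] at hm; omega) ((hD'm _).1 (hw j)), hτv]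
      ring
    · rintro ⟨μ, hμ⟩
      refine ⟨μ 0, fun j => ?_⟩
      rw [hμ j, hτv, hsS]
      have e1 : X ^ n * Ms.subtype (μ j.succ) - X ^ (n + (j.val + 1)) * Ms.subtype (μ 0) -
          -(X ^ (n + (j.val + 1)) * ((μ 0 : ↥Ms) : k⟦X⟧)) =
          X ^ n * ((μ j.succ : ↥Ms) : k⟦X⟧) := by
        simp only [Submodule.subtype_apply]; ring
      rw [e1, hD'm]
      intro m hm
      rw [coeff_X_pow_mul'] at hm
      split_ifs at hm with hle
      · have h3 := (hMs _).1 (μ j.succ).2 (m - n) hm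
        rw [mem_Iic_union_Ici] at h3
        rw [mem_Icc_union_Ici]
        omega
      · exact absurd rfl hm
  have key := P.length_ext hA (N := ↥Ms) Ms.subtype Ms.injective_subtype
  have h1 := key C' hC' ρ hρs hρk'
  have hcD := ncard_finset (S := Set.Ici n \ (Set.Icc n (n + i) ∪ Set.Ici (2 * n)))
    (Finset.Ioo (n + i) (2 * n)) (fun m => by
      rw [Set.mem_sdiff, Set.mem_Ici, mem_Icc_union_Ici, Finset.mem_Ioo]; omega)
  have h2 : Module.length ↥A (relQ D' C') = ((n - i - 1 : ℕ) : ℕ∞) := by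
    refine (length_mkSub' A _ _ hSC hSD (fun m hm => by
      rw [mem_Icc_union_Ici] at hm; exact Set.mem_Ici.mpr (by omega)) hcD.1).trans ?_
    rw [hcD.2, Nat.card_Ioo]
    congr 1
    omega
  have hcA := ncard_finset (S := (Set.Iic i ∪ Set.Ici n) \ ({0} ∪ Set.Ici n))
    (Finset.Ioc 0 i) (fun m => by
      rw [Set.mem_sdiff, mem_Iic_union_Ici, mem_sing_union_Ici, Finset.mem_Ioc]; omega)
  have h4 : ∀ Ms' : Submodule ↥A k⟦X⟧, Ms' = mkSub A (Set.Iic i ∪ Set.Ici n) hSM →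
      Module.length ↥A (relQ A' Ms') = (i : ℕ∞) := by
    rintro _ rfl
    refine (length_mkSub' A _ _ hSM hS0 (fun m hm => by
      rw [mem_sing_union_Ici] at hm; rw [mem_Iic_union_Ici]; omega) hcA.1).trans ?_
    rw [hcA.2, Nat.card_Ioc, Nat.sub_zero]
  have hlen' : (i : ℕ∞) * Module.length ↥A (relQ D' C') =
      Module.length ↥A (relQ A' Ms) + Module.length ↥A E' := hlen
  rw [h2, h4 Ms hMs'] at hlen'
  rw [h1]
  apply ENat.add_right_injective_of_ne_top (ENat.coe_ne_top i)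
  show (i : ℕ∞) + Module.length ↥A E' = (i : ℕ∞) + ((i * (n - 2 - i) : ℕ) : ℕ∞)
  rw [← hlen', ← Nat.cast_mul, ← Nat.cast_add]
  congr 1
  have : n - i - 1 = (n - 2 - i) + 1 := by omega
  rw [this]
  ring

theorem main15031 (n : ℕ) (A : Subalgebra k k⟦X⟧) (hA : IsRn A n) (i : ℕ) (hi : i + 2 ≤ n) :
    Module.length ↥A (Abelian.Ext.{u}
      (ModuleCat.of ↥A ↥(Submodule.span ↥A ((fun a : ℕ => (X : k⟦X⟧) ^ a) '' Set.Iic i)))
      (ModuleCat.of ↥A ↥(Submodule.span ↥A ((fun a : ℕ => (X : k⟦X⟧) ^ a) '' Set.Iic i))) 1) =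
      ((i * (n - 2 - i) : ℕ) : ℕ∞) :=
  main15031_aux n A hA i hi _ (fun f => by
    rw [hA.span_eq _ (Set.mem_Iic.mpr (Nat.zero_le i)), mem_mkSub])

end Main

end

end Groth.Agent.Lib.TFExtH1
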