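import Groth.Agent.Lib.TFExt2_helper1

/-!
# `Ext¹` of two-generator monomial modules over a monomial ring `A ⊆ k⟦X⟧` (helper1)

For `M = A + A·X^t` and torsion-free `N ⊆ k⟦X⟧`, with `X^e` a generator of the `k⟦X⟧`-ideal
generated by `(A : X^t) = {b ∈ A | b X^t ∈ A}`:
`Ext¹_A(M, N) ≅ (N : J) / (X^e N + X^{e+t} N)`, `J = X^{-e} (A : X^t)` (`Pres2.length_ext`), and the
purely combinatorial version `length_ext_mono` for monomial `A` and `N`.
-/

set_option autoImplicit false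
set_option maxHeartbeats 1000000
set_option synthInstance.maxHeartbeats 400000

universe u

namespace Groth.Agent.Lib.TFExtH1

open CategoryTheory PowerSeries

noncomputable section

section Lin2

variable {R : Type*} [CommRing R] {N : Type*} [AddCommGroup N] [Module R N]

/-- the linear map `R² → N` with given values on the basis. -/
def lin2 (ν₀ ν₁ : N) : (R × R) →ₗ[R] N where
  toFun x := x.1 • ν₀ + x.2 • ν₁
  map_add' x y := by
    simp only [Prod.fst_add, Prod.snd_add, add_smul]; abel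
  map_smul' a x := by
    simp only [Prod.smul_fst, Prod.smul_snd, smul_eq_mul, mul_smul, RingHom.id_apply, smul_add]

lemma lin2_apply (ν₀ ν₁ : N) (x : R × R) : lin2 ν₀ ν₁ x = x.1 • ν₀ + x.2 • ν₁ := rfl

lemma eq_lin2 (G : (R × R) →ₗ[R] N) : G = lin2 (G (1, 0)) (G (0, 1)) := by
  apply LinearMap.ext
  rintro ⟨a₀, a₁⟩
  rw [lin2_apply, ← map_smul, ← map_smul, ← map_add]
  congr 1
  ext <;> simp

end Lin2

section Mono2

variable {k : Type u} [Field k]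

open Classical in
/-- restriction of a series to a set of exponents. -/
def restr (S : Set ℕ) (f : k⟦X⟧) : k⟦X⟧ :=
  PowerSeries.mk fun m => if m ∈ S then coeff m f else 0

open Classical in
lemma coeff_restr_of_mem {S : Set ℕ} (f : k⟦X⟧) {m : ℕ} (h : m ∈ S) :
    coeff m (restr S f) = coeff m f := by
  rw [restr, coeff_mk, if_pos h]

open Classical in
lemma coeff_restr_of_not_mem {S : Set ℕ} (f : k⟦X⟧) {m : ℕ} (h : m ∉ S) :
    coeff m (restr S f) = 0 := by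
  rw [restr, coeff_mk, if_neg h]

lemma restr_mem_supp (S : Set ℕ) (f : k⟦X⟧) : restr S f ∈ supp (k := k) S := by
  intro m hm
  by_contra h
  exact hm (coeff_restr_of_not_mem f h)

lemma restr_mem_supp' {S T : Set ℕ} {f : k⟦X⟧} (hf : f ∈ supp (k := k) T) :
    restr S f ∈ supp (k := k) T := by
  intro m hm
  by_cases h : m ∈ S
  · rw [coeff_restr_of_mem f h] at hm; exact hf m hm
  · exact absurd (coeff_restr_of_not_mem f h) hm

lemma sub_restr_mem_supp {S T : Set ℕ} {f : k⟦X⟧}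
    (hf : ∀ m, coeff m f ≠ 0 → m ∈ S ∨ m ∈ T) : f - restr S f ∈ supp (k := k) T := by
  intro m hm
  rw [map_sub] at hm
  by_cases h : m ∈ S
  · rw [coeff_restr_of_mem f h, sub_self] at hm; exact absurd rfl hm
  · rw [coeff_restr_of_not_mem f h, sub_zero] at hm
    rcases hf m hm with h' | h'
    · exact absurd h' h
    · exact h'

/-- the translate `e + T`. -/
def shiftSet (e : ℕ) (T : Set ℕ) : Set ℕ := {m | e ≤ m ∧ m - e ∈ T}

lemma mem_shiftSet {e m : ℕ} {T : Set ℕ} : m ∈ shiftSet e T ↔ e ≤ m ∧ m - e ∈ T := Iff.rfl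

lemma X_pow_mul_mem_shift {e : ℕ} {T : Set ℕ} {a : k⟦X⟧} (ha : a ∈ supp (k := k) T) :
    X ^ e * a ∈ supp (k := k) (shiftSet e T) := by
  intro m hm
  rw [coeff_X_pow_mul'] at hm
  split_ifs at hm with h
  · exact ⟨h, ha _ hm⟩
  · exact absurd rfl hm

lemma sh_mem_of_shift {e : ℕ} {T : Set ℕ} {g : k⟦X⟧} (hg : g ∈ supp (k := k) (shiftSet e T)) :
    sh e g ∈ supp (k := k) T := by
  intro m hm
  rw [coeff_sh] at hm
  have := (hg _ hm).2
  rwa [Nat.add_sub_cancel] at this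

lemma eq_of_shift {e : ℕ} {T : Set ℕ} {g : k⟦X⟧} (hg : g ∈ supp (k := k) (shiftSet e T)) :
    g = X ^ e * sh e g :=
  eq_X_pow_mul_sh_of_supp (fun _ hm => hm.1) hg

lemma one_mem_supp {S : Set ℕ} (h0 : 0 ∈ S) : (1 : k⟦X⟧) ∈ supp (k := k) S := by
  intro m hm
  rw [coeff_one] at hm
  split_ifs at hm with h
  · rw [h]; exact h0
  · exact absurd rfl hm

/-- `A` consists of the series supported in `Γ`. -/
def IsMono (A : Subalgebra k k⟦X⟧) (Γ : Set ℕ) : Prop :=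
  ∀ f : k⟦X⟧, f ∈ A ↔ f ∈ supp (k := k) Γ

/-- `S + Γ ⊆ S`. -/
def GStable (Γ S : Set ℕ) : Prop := ∀ s ∈ S, ∀ g ∈ Γ, s + g ∈ S

variable {A : Subalgebra k k⟦X⟧} {Γ : Set ℕ}

lemma IsMono.stable (hA : IsMono A Γ) {S : Set ℕ} (hS : GStable Γ S) : Stable A S := by
  intro a ha f hf m hm
  rw [coeff_mul] at hm
  obtain ⟨p, hp, hne⟩ := Finset.exists_ne_zero_of_sum_ne_zero hm
  have h1 : coeff p.1 a ≠ 0 := left_ne_zero_of_mul hne
  have h2 : coeff p.2 f ≠ 0 := right_ne_zero_of_mul hne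
  have hpm : p.1 + p.2 = m := Finset.HasAntidiagonal.mem_antidiagonal.mp hp
  have := hS p.2 (hf p.2 h2) p.1 ((hA a).1 ha p.1 h1)
  rwa [add_comm, hpm] at this

lemma IsMono.zero_mem (hA : IsMono A Γ) : 0 ∈ Γ := by
  have h1 : (1 : k⟦X⟧) ∈ supp (k := k) Γ := (hA 1).1 A.one_mem
  exact h1 0 (by rw [coeff_zero_one]; exact one_ne_zero)

lemma IsMono.gstable (hA : IsMono A Γ) : GStable Γ Γ := by
  intro s hs g hg
  have h1 : (X : k⟦X⟧) ^ s ∈ A := (hA _).2 (X_pow_mem_supp hs)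
  have h2 : (X : k⟦X⟧) ^ g ∈ A := (hA _).2 (X_pow_mem_supp hg)
  have h3 := (hA _).1 (A.mul_mem h1 h2) (s + g)
  apply h3
  rw [← pow_add, coeff_X_pow, if_pos rfl]
  exact one_ne_zero

lemma gstable_union_shift (hΓ : GStable Γ Γ) (t : ℕ) : GStable Γ (Γ ∪ shiftSet t Γ) := by
  intro s hs g hg
  rcases hs with hs | hs
  · exact Or.inl (hΓ s hs g hg)
  · refine Or.inr ⟨by have := hs.1; omega, ?_⟩
    have := hΓ _ hs.2 g hg
    have e1 : s - t + g = s + g - t := by have := hs.1; omega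
    rwa [e1] at this

theorem IsMono.span_pair (hA : IsMono A Γ) (t : ℕ) :
    Submodule.span ↥A ({1, X ^ t} : Set k⟦X⟧) =
      mkSub A (Γ ∪ shiftSet t Γ) (hA.stable (gstable_union_shift hA.gstable t)) := by
  apply le_antisymm
  · rw [Submodule.span_le]
    intro x hx
    rcases hx with rfl | hx
    · exact supp_mono Set.subset_union_left (one_mem_supp hA.zero_mem)
    · have hx' : x = X ^ t := hx
      rw [hx']
      exact X_pow_mem_supp (Or.inr ⟨le_rfl, by rw [Nat.sub_self]; exact hA.zero_mem⟩)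
  · intro f hf
    have hf' : f ∈ supp (k := k) (Γ ∪ shiftSet t Γ) := hf
    have h1 : restr Γ f ∈ A := (hA _).2 (restr_mem_supp Γ f)
    have h2 : f - restr Γ f ∈ supp (k := k) (shiftSet t Γ) := sub_restr_mem_supp hf'
    have h3 : sh t (f - restr Γ f) ∈ A := (hA _).2 (sh_mem_of_shift h2)
    rw [Submodule.mem_span_pair]
    refine ⟨⟨_, h1⟩, ⟨_, h3⟩, ?_⟩
    change restr Γ f * 1 + sh t (f - restr Γ f) * X ^ t = f
    rw [mul_comm (sh t _), ← eq_of_shift h2]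
    ring

/-- a module generated by `1` and `X^t`, with `X^e` generating the conductor of `X^t` into `A`. -/
structure Pres2 (A : Subalgebra k k⟦X⟧) (M : Type u) [AddCommGroup M] [Module ↥A M] where
  t : ℕ
  e : ℕ
  heA : (X : k⟦X⟧) ^ e ∈ A
  hetA : (X : k⟦X⟧) ^ e * X ^ t ∈ A
  hdiv : ∀ b ∈ A, b * X ^ t ∈ A → ∀ m, m < e → coeff m b = 0
  jM : M →ₗ[↥A] k⟦X⟧
  hjM : Function.Injective jM
  g0 : M
  g1 : M
  hg0 : jM g0 = 1
  hg1 : jM g1 = X ^ t
  hgen : ∀ x : M, ∃ a₀ a₁ : ↥A, a₀ • g0 + a₁ • g1 = x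

namespace Pres2

variable {M : Type u} [AddCommGroup M] [Module ↥A M] (P : Pres2 A M)

/-- the presentation `A² → M`. -/
def q : (↥A × ↥A) →ₗ[↥A] M := lin2 P.g0 P.g1

lemma q_apply (x : ↥A × ↥A) : P.q x = x.1 • P.g0 + x.2 • P.g1 := rfl

lemma jM_q (x : ↥A × ↥A) : P.jM (P.q x) = (x.1 : k⟦X⟧) + (x.2 : k⟦X⟧) * X ^ P.t := by
  rw [q_apply, map_add, map_smul, map_smul, P.hg0, P.hg1]
  change (x.1 : k⟦X⟧) * 1 + (x.2 : k⟦X⟧) * X ^ P.t = _
  rw [mul_one]

lemma q_surjective : Function.Surjective P.q := by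
  intro y
  obtain ⟨a₀, a₁, h⟩ := P.hgen y
  exact ⟨(a₀, a₁), h⟩

lemma mem_ker_iff (x : ↥A × ↥A) :
    x ∈ LinearMap.ker P.q ↔ (x.1 : k⟦X⟧) + (x.2 : k⟦X⟧) * X ^ P.t = 0 := by
  rw [LinearMap.mem_ker, ← P.jM_q]
  constructor
  · intro h; rw [h, map_zero]
  · intro h; exact P.hjM (by rw [h, map_zero])

lemma ker_fst (x : ↥A × ↥A) (hx : x ∈ LinearMap.ker P.q) :
    (x.1 : k⟦X⟧) = -((x.2 : k⟦X⟧) * X ^ P.t) :=
  eq_neg_of_add_eq_zero_left ((P.mem_ker_iff x).1 hx)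

lemma ker_snd (x : ↥A × ↥A) (hx : x ∈ LinearMap.ker P.q) :
    (x.2 : k⟦X⟧) = X ^ P.e * sh P.e (x.2 : k⟦X⟧) := by
  have h := (P.mem_ker_iff x).1 hx
  apply TFExtH1.eq_X_pow_mul_sh
  apply P.hdiv _ x.2.2
  have : (x.2 : k⟦X⟧) * X ^ P.t = -(x.1 : k⟦X⟧) := eq_neg_of_add_eq_zero_right h
  rw [this]
  exact A.neg_mem x.1.2

/-- the kernel element attached to `u ∈ J`. -/
def xu (u : k⟦X⟧) (h1 : X ^ P.e * u ∈ A) (h2 : X ^ P.e * u * X ^ P.t ∈ A) : ↥A × ↥A :=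
  (⟨-(X ^ P.e * u * X ^ P.t), A.neg_mem h2⟩, ⟨X ^ P.e * u, h1⟩)

lemma xu_mem (u : k⟦X⟧) (h1 : X ^ P.e * u ∈ A) (h2 : X ^ P.e * u * X ^ P.t ∈ A) :
    P.xu u h1 h2 ∈ LinearMap.ker P.q := by
  rw [mem_ker_iff]
  change -(X ^ P.e * u * X ^ P.t) + X ^ P.e * u * X ^ P.t = 0
  exact neg_add_cancel _

lemma h1one : X ^ P.e * (1 : k⟦X⟧) ∈ A := by rw [mul_one]; exact P.heA

lemma h2one : X ^ P.e * (1 : k⟦X⟧) * X ^ P.t ∈ A := by rw [mul_one]; exact P.hetA

theorem key {N : Type u} [AddCommGroup N] [Module ↥A N] (jN : N →ₗ[↥A] k⟦X⟧)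
    (f : ↥(LinearMap.ker P.q) →ₗ[↥A] N) (x : ↥(LinearMap.ker P.q)) :
    jN (f x) = sh P.e ((x.1.2 : ↥A) : k⟦X⟧) *
      jN (f ⟨P.xu 1 P.h1one P.h2one, P.xu_mem 1 P.h1one P.h2one⟩) := by
  have hx2 := P.ker_snd x.1 x.2
  have hx1 := P.ker_fst x.1 x.2
  have step1 : (⟨X ^ P.e, P.heA⟩ : ↥A) • x = (x.1.2 : ↥A) •
      (⟨P.xu 1 P.h1one P.h2one, P.xu_mem 1 P.h1one P.h2one⟩ : ↥(LinearMap.ker P.q)) := by
    apply Subtype.ext
    apply Prod.ext
    · apply Subtype.ext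
      change X ^ P.e * ((x.1.1 : ↥A) : k⟦X⟧) =
        ((x.1.2 : ↥A) : k⟦X⟧) * -(X ^ P.e * 1 * X ^ P.t)
      rw [hx1]; ring
    · apply Subtype.ext
      change X ^ P.e * ((x.1.2 : ↥A) : k⟦X⟧) = ((x.1.2 : ↥A) : k⟦X⟧) * (X ^ P.e * 1)
      ring
  have h2 := congrArg (fun y => jN (f y)) step1
  simp only [map_smul] at h2
  change X ^ P.e * jN (f x) = ((x.1.2 : ↥A) : k⟦X⟧) *
    jN (f ⟨P.xu 1 P.h1one P.h2one, P.xu_mem 1 P.h1one P.h2one⟩) at h2
  have h3 : X ^ P.e * jN (f x) = X ^ P.e * (sh P.e ((x.1.2 : ↥A) : k⟦X⟧) *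
      jN (f ⟨P.xu 1 P.h1one P.h2one, P.xu_mem 1 P.h1one P.h2one⟩)) := by
    rw [h2]
    conv_lhs => rw [hx2]
    ring
  exact mul_left_cancel₀ (pow_ne_zero _ X_ne_zero) h3

/-- **`Ext¹` of a two-generator module** `A + A·X^t` into a torsion-free `N ⊆ k⟦X⟧`. -/
theorem length_ext {N : Type u} [AddCommGroup N] [Module ↥A N]
    (jN : N →ₗ[↥A] k⟦X⟧) (hjN : Function.Injective jN)
    (C' : Submodule ↥A k⟦X⟧)
    (hC' : ∀ h : k⟦X⟧, h ∈ C' ↔ ∀ u : k⟦X⟧, X ^ P.e * u ∈ A → X ^ P.e * u * X ^ P.t ∈ A →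
      u * h ∈ LinearMap.range jN)
    {E' : Type*} [AddCommGroup E'] [Module ↥A E'] (ρ : ↥C' →ₗ[↥A] E')
    (hρs : Function.Surjective ρ)
    (hρk : ∀ h : ↥C', ρ h = 0 ↔ ∃ ν₀ ν₁ : N,
      (h : k⟦X⟧) = X ^ P.e * jN ν₁ - X ^ P.e * X ^ P.t * jN ν₀) :
    Module.length ↥A (Abelian.Ext.{u} (ModuleCat.of ↥A M) (ModuleCat.of ↥A N) 1) =
      Module.length ↥A E' := by
  classical
  have hκ := P.xu_mem 1 P.h1one P.h2one
  let Ξ₀ : (↥(LinearMap.ker P.q) →ₗ[↥A] N) →ₗ[↥A] ↥C' :=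
    { toFun := fun f => ⟨jN (f ⟨P.xu 1 P.h1one P.h2one, hκ⟩), (hC' _).2 fun u h1 h2 =>
        LinearMap.mem_range.mpr ⟨f ⟨P.xu u h1 h2, P.xu_mem u h1 h2⟩, by
          rw [P.key jN f ⟨P.xu u h1 h2, P.xu_mem u h1 h2⟩]
          change sh P.e (X ^ P.e * u) * _ = _
          rw [sh_X_pow_mul]⟩⟩
      map_add' := fun f g => by
        apply Subtype.ext
        show jN ((f + g) _) = jN (f _) + jN (g _)
        rw [LinearMap.add_apply, map_add]
      map_smul' := fun a f => by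
        apply Subtype.ext
        show jN ((a • f) _) = a • jN (f _)
        rw [LinearMap.smul_apply, map_smul] }
  have hΞ₀ : ∀ f, ((Ξ₀ f : ↥C') : k⟦X⟧) = jN (f ⟨P.xu 1 P.h1one P.h2one, hκ⟩) := fun _ => rfl
  have hΞ₀s : Function.Surjective Ξ₀ := by
    intro h
    have hsm : ∀ (a : ↥A) (x : ↥(LinearMap.ker P.q)),
        sh P.e (((a • x : ↥(LinearMap.ker P.q)).1.2 : ↥A) : k⟦X⟧) =
          (a : k⟦X⟧) * sh P.e ((x.1.2 : ↥A) : k⟦X⟧) := by
      intro a x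
      have h1 := P.ker_snd x.1 x.2
      have h2 : (((a • x : ↥(LinearMap.ker P.q)).1.2 : ↥A) : k⟦X⟧) =
          X ^ P.e * ((a : k⟦X⟧) * sh P.e ((x.1.2 : ↥A) : k⟦X⟧)) := by
        change (a : k⟦X⟧) * ((x.1.2 : ↥A) : k⟦X⟧) = _
        conv_lhs => rw [h1]
        ring
      rw [h2, sh_X_pow_mul]
    let f₀ : ↥(LinearMap.ker P.q) →ₗ[↥A] k⟦X⟧ :=
      { toFun := fun x => sh P.e ((x.1.2 : ↥A) : k⟦X⟧) * (h : k⟦X⟧)
        map_add' := fun x y => by
          beta_reduce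
          rw [← add_mul, ← map_add]
          rfl
        map_smul' := fun a x => by
          beta_reduce
          rw [RingHom.id_apply, hsm a x]
          change _ = (a : k⟦X⟧) * _
          ring }
    have hf₀v : ∀ x, f₀ x = sh P.e ((x.1.2 : ↥A) : k⟦X⟧) * (h : k⟦X⟧) := fun _ => rfl
    have hf₀ : ∀ x, f₀ x ∈ LinearMap.range jN := fun x => by
      rw [hf₀v]
      have hx2 := P.ker_snd x.1 x.2
      have hx1 := P.ker_fst x.1 x.2
      apply (hC' _).1 h.2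
      · rw [← hx2]; exact x.1.2.2
      · rw [← hx2]
        have : ((x.1.2 : ↥A) : k⟦X⟧) * X ^ P.t = -((x.1.1 : ↥A) : k⟦X⟧) := by
          rw [hx1, neg_neg]
        rw [this]; exact A.neg_mem x.1.1.2
    let f : ↥(LinearMap.ker P.q) →ₗ[↥A] N :=
      (LinearEquiv.ofInjective jN hjN).symm.toLinearMap ∘ₗ
        f₀.codRestrict (LinearMap.range jN) hf₀
    have hjf : ∀ x, jN (f x) = f₀ x := fun x => by
      have := (LinearEquiv.ofInjective jN hjN).apply_symm_apply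
        (f₀.codRestrict (LinearMap.range jN) hf₀ x)
      exact congrArg Subtype.val this
    refine ⟨f, ?_⟩
    apply Subtype.ext
    rw [hΞ₀, hjf, hf₀v]
    change sh P.e (X ^ P.e * 1) * (h : k⟦X⟧) = _
    rw [sh_X_pow_mul, one_mul]
  have hG : ∀ (ν₀ ν₁ : N), jN (lin2 ν₀ ν₁ (P.xu 1 P.h1one P.h2one)) =
      X ^ P.e * jN ν₁ - X ^ P.e * X ^ P.t * jN ν₀ := by
    intro ν₀ ν₁
    rw [lin2_apply, map_add, map_smul, map_smul]
    change -(X ^ P.e * 1 * X ^ P.t) * jN ν₀ + X ^ P.e * 1 * jN ν₁ = _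
    ring
  apply length_ext_one_eq P.q P.q_surjective (ρ.comp Ξ₀) (hρs.comp hΞ₀s)
  intro f
  rw [LinearMap.comp_apply, hρk]
  constructor
  · rintro ⟨ν₀, ν₁, hν⟩
    refine ⟨lin2 ν₀ ν₁, fun x => ?_⟩
    apply hjN
    have e1 := P.key jN f x
    have e2 := P.key jN ((lin2 ν₀ ν₁).comp (LinearMap.ker P.q).subtype) x
    rw [e1]
    refine e2.trans ?_
    congr 1
    rw [← hΞ₀ f, hν]
    exact hG ν₀ ν₁
  · rintro ⟨G, hG'⟩
    refine ⟨G (1, 0), G (0, 1), ?_⟩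
    rw [hΞ₀ f, ← hG' ⟨P.xu 1 P.h1one P.h2one, hκ⟩]
    have h2 := LinearMap.congr_fun (eq_lin2 G) (P.xu 1 P.h1one P.h2one)
    exact (congrArg jN h2).trans (hG _ _)

end Pres2

/-- **combinatorial formula** for `Ext¹_A(A + A X^t, N)`, `A` and `N` monomial. -/
theorem length_ext_mono (hA : IsMono A Γ)
    (t e : ℕ) (heΓ : e ∈ Γ) (hetΓ : e + t ∈ Γ) (hmin : ∀ m ∈ Γ, m + t ∈ Γ → e ≤ m)
    (T : Set ℕ) (hT : GStable Γ T) (Ns : Submodule ↥A k⟦X⟧)
    (hNs : ∀ f, f ∈ Ns ↔ f ∈ supp (k := k) T)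
    (SC SD : Set ℕ)
    (hSC : ∀ m, m ∈ SC ↔ ∀ u, e + u ∈ Γ → e + u + t ∈ Γ → m + u ∈ T)
    (hSD : ∀ m, m ∈ SD ↔ (e ≤ m ∧ m - e ∈ T) ∨ (e + t ≤ m ∧ m - (e + t) ∈ T))
    (hfin : (SC \ SD).Finite) :
    Module.length ↥A (Abelian.Ext.{u}
      (ModuleCat.of ↥A ↥(Submodule.span ↥A ({1, X ^ t} : Set k⟦X⟧)))
      (ModuleCat.of ↥A ↥Ns) 1) = ((SC \ SD).ncard : ℕ∞) := by
  have hstC : GStable Γ SC := by
    intro s hs g hg
    rw [hSC] at hs ⊢
    intro u h1 h2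
    have := hT _ (hs u h1 h2) g hg
    rwa [add_right_comm] at this
  have hstD : GStable Γ SD := by
    intro s hs g hg
    rw [hSD] at hs ⊢
    rcases hs with ⟨h1, h2⟩ | ⟨h1, h2⟩
    · refine Or.inl ⟨by omega, ?_⟩
      have := hT _ h2 g hg
      have e1 : s - e + g = s + g - e := by omega
      rwa [e1] at this
    · refine Or.inr ⟨by omega, ?_⟩
      have := hT _ h2 g hg
      have e1 : s - (e + t) + g = s + g - (e + t) := by omega
      rwa [e1] at this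
  have hDC : SD ⊆ SC := by
    intro m hm
    rw [hSD] at hm; rw [hSC]
    intro u h1 h2
    rcases hm with ⟨h3, h4⟩ | ⟨h3, h4⟩
    · have := hT _ h4 _ h1
      have e1 : m - e + (e + u) = m + u := by omega
      rwa [e1] at this
    · have := hT _ h4 _ h2
      have e1 : m - (e + t) + (e + u + t) = m + u := by omega
      rwa [e1] at this
  let P : Pres2 A ↥(Submodule.span ↥A ({1, X ^ t} : Set k⟦X⟧)) :=
    { t := t
      e := e
      heA := (hA _).2 (X_pow_mem_supp heΓ)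
      hetA := by rw [← pow_add]; exact (hA _).2 (X_pow_mem_supp hetΓ)
      hdiv := fun b hb hbt m hm => by
        by_contra hc
        have h1 : m ∈ Γ := (hA b).1 hb m hc
        have h2 : m + t ∈ Γ := (hA _).1 hbt (m + t) (by
          rw [coeff_mul_X_pow]; exact hc)
        have := hmin m h1 h2
        omega
      jM := (Submodule.span ↥A ({1, X ^ t} : Set k⟦X⟧)).subtype
      hjM := Subtype.val_injective
      g0 := ⟨1, Submodule.subset_span (Set.mem_insert _ _)⟩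
      g1 := ⟨X ^ t, Submodule.subset_span (Set.mem_insert_of_mem _ rfl)⟩
      hg0 := rfl
      hg1 := rfl
      hgen := fun x => by
        obtain ⟨a₀, a₁, h⟩ := Submodule.mem_span_pair.1 x.2
        exact ⟨a₀, a₁, Subtype.ext h⟩ }
  have hC' : ∀ h : k⟦X⟧, h ∈ mkSub A SC (hA.stable hstC) ↔ ∀ u : k⟦X⟧,
      X ^ P.e * u ∈ A → X ^ P.e * u * X ^ P.t ∈ A → u * h ∈ LinearMap.range Ns.subtype := by
    intro h
    rw [Submodule.range_subtype]
    simp_rw [hNs]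
    constructor
    · intro hh u h1 h2 m hm
      rw [coeff_mul] at hm
      obtain ⟨p, hp, hne⟩ := Finset.exists_ne_zero_of_sum_ne_zero hm
      have hu : coeff p.1 u ≠ 0 := left_ne_zero_of_mul hne
      have hq : coeff p.2 h ≠ 0 := right_ne_zero_of_mul hne
      have hpm : p.1 + p.2 = m := Finset.HasAntidiagonal.mem_antidiagonal.mp hp
      have h3 : e + p.1 ∈ Γ := (hA _).1 h1 (e + p.1) (by
        rw [coeff_X_pow_mul', if_pos (Nat.le_add_right _ _), Nat.add_sub_cancel_left]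
        exact hu)
      have h4 : e + p.1 + t ∈ Γ := (hA _).1 h2 (e + p.1 + t) (by
        rw [coeff_mul_X_pow, coeff_X_pow_mul', if_pos (Nat.le_add_right _ _),
          Nat.add_sub_cancel_left]
        exact hu)
      have := (hSC _).1 (hh p.2 hq) p.1 h3 h4
      rw [add_comm, hpm] at this
      exact this
    · intro hh q hq
      rw [hSC]
      intro u₀ h1 h2
      exact hh (X ^ u₀) (by rw [← pow_add]; exact (hA _).2 (X_pow_mem_supp h1))
        (by rw [← pow_add, ← pow_add]; exact (hA _).2 (X_pow_mem_supp h2)) (q + u₀) (by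
          rw [coeff_X_pow_mul]; exact hq)
  let C' := mkSub A SC (hA.stable hstC)
  let D' := mkSub A SD (hA.stable hstD)
  let ρ : ↥C' →ₗ[↥A] relQ D' C' :=
    { toFun := fun h => Submodule.Quotient.mk h
      map_add' := fun _ _ => rfl
      map_smul' := fun _ _ => rfl }
  have hρs : Function.Surjective ρ := fun y => Submodule.Quotient.mk_surjective _ y
  have hρk : ∀ h : ↥C', ρ h = 0 ↔ ∃ ν₀ ν₁ : ↥Ns,
      (h : k⟦X⟧) = X ^ P.e * Ns.subtype ν₁ - X ^ P.e * X ^ P.t * Ns.subtype ν₀ := by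
    intro h
    have e0 : ρ h = 0 ↔ (h : k⟦X⟧) ∈ supp (k := k) SD := by
      change Submodule.Quotient.mk h = 0 ↔ _
      rw [Submodule.Quotient.mk_eq_zero]
      rfl
    rw [e0]
    constructor
    · intro hh
      obtain ⟨h₁, hh₁⟩ : ∃ h₁, h₁ = restr (shiftSet e T) (h : k⟦X⟧) := ⟨_, rfl⟩
      have m1 : h₁ ∈ supp (k := k) (shiftSet e T) := by rw [hh₁]; exact restr_mem_supp _ _
      have m2 : (h : k⟦X⟧) - h₁ ∈ supp (k := k) (shiftSet (e + t) T) := by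
        rw [hh₁]
        apply sub_restr_mem_supp
        intro m hm
        exact (hSD m).1 (hh m hm)
      refine ⟨⟨-sh (e + t) ((h : k⟦X⟧) - h₁), (hNs _).2 (supp_neg (sh_mem_of_shift m2))⟩,
        ⟨sh e h₁, (hNs _).2 (sh_mem_of_shift m1)⟩, ?_⟩
      change (h : k⟦X⟧) = X ^ e * sh e h₁ - X ^ e * X ^ t * -sh (e + t) ((h : k⟦X⟧) - h₁)
      rw [← eq_of_shift m1, ← pow_add, mul_neg, sub_neg_eq_add, ← eq_of_shift m2]
      ring
    · rintro ⟨ν₀, ν₁, hν⟩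
      rw [hν]
      apply supp_sub
      · exact supp_mono (fun m hm => (hSD m).2 (Or.inl hm))
          (X_pow_mul_mem_shift ((hNs _).1 ν₁.2))
      · change X ^ e * X ^ t * _ ∈ _
        rw [← pow_add]
        exact supp_mono (fun m hm => (hSD m).2 (Or.inr hm))
          (X_pow_mul_mem_shift ((hNs _).1 ν₀.2))
  have key := P.length_ext (N := ↥Ns) Ns.subtype Ns.injective_subtype
  have h1 := key C' hC' ρ hρs hρk
  rw [h1]
  exact length_mkSub' A SC SD (hA.stable hstC) (hA.stable hstD) hDC hfin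

end Mono2

end

end Groth.Agent.Lib.TFExtH1
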