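import Groth.Agent.Lib.TFExt4_helper1

/-!
# `Ext¹` between rank one modules over the `A_{2δ}` singularity `k⟦t², t^{2δ+1}⟧` (helper1)
-/

set_option autoImplicit false
set_option maxHeartbeats 1000000
set_option synthInstance.maxHeartbeats 400000

universe u

namespace Groth.Agent.Lib.TFExtH1

open CategoryTheory PowerSeries

noncomputable section

variable {k : Type u} [Field k]

/-- the semigroup `⟨2, 2δ+1⟩`. -/
def GamA (δ : ℕ) : Set ℕ := {m | m % 2 = 0 ∨ 2 * δ + 1 ≤ m}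

lemma mem_GamA {δ m : ℕ} : m ∈ GamA δ ↔ (m % 2 = 0 ∨ 2 * δ + 1 ≤ m) := Iff.rfl

lemma closure_pair_eq (δ n : ℕ) :
    n ∈ AddSubmonoid.closure ({2, 2 * δ + 1} : Set ℕ) ↔ n ∈ GamA δ := by
  constructor
  · intro h
    induction h using AddSubmonoid.closure_induction with
    | mem x hx =>
      rcases hx with rfl | hx
      · exact Or.inl rfl
      · have : x = 2 * δ + 1 := hx
        exact Or.inr (by omega)
    | zero => exact Or.inl rfl
    | add x y _ _ hx hy =>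
      rw [mem_GamA] at hx hy ⊢
      omega
  · intro h
    rw [mem_GamA] at h
    have h2 : (2 : ℕ) ∈ AddSubmonoid.closure ({2, 2 * δ + 1} : Set ℕ) :=
      AddSubmonoid.subset_closure (Set.mem_insert _ _)
    have h3 : 2 * δ + 1 ∈ AddSubmonoid.closure ({2, 2 * δ + 1} : Set ℕ) :=
      AddSubmonoid.subset_closure (Set.mem_insert_of_mem _ rfl)
    by_cases hpar : n % 2 = 0
    · have := AddSubmonoid.nsmul_mem _ h2 (n / 2)
      have e1 : (n / 2) • 2 = n := by rw [smul_eq_mul]; omega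
      rwa [e1] at this
    · have h4 : 2 * δ + 1 ≤ n := by omega
      have := add_mem h3 (AddSubmonoid.nsmul_mem _ h2 ((n - (2 * δ + 1)) / 2))
      have e1 : 2 * δ + 1 + ((n - (2 * δ + 1)) / 2) • 2 = n := by rw [smul_eq_mul]; omega
      rwa [e1] at this

theorem main15030 (δ : ℕ) (A : Subalgebra k k⟦X⟧)
    (hmono : ∀ f : k⟦X⟧, f ∈ A ↔ ∀ n : ℕ, coeff n f ≠ 0 →
      n ∈ AddSubmonoid.closure ({2, 2 * δ + 1} : Set ℕ))
    (i j : ℕ) (hi : i ≤ δ) (hj : j ≤ δ) :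
    Module.length ↥A (Abelian.Ext.{u}
      (ModuleCat.of ↥A ↥(Submodule.span ↥A
        ({1, (X : k⟦X⟧) ^ (2 * δ + 1 - 2 * i)} : Set k⟦X⟧)))
      (ModuleCat.of ↥A ↥(Submodule.span ↥A
        ({1, (X : k⟦X⟧) ^ (2 * δ + 1 - 2 * j)} : Set k⟦X⟧))) 1) =
      ((2 * min i j : ℕ) : ℕ∞) := by
  have hA : IsMono A (GamA δ) := fun f => by
    rw [hmono]
    constructor
    · intro h m hm; exact (closure_pair_eq δ m).1 (h m hm)
    · intro h m hm; exact (closure_pair_eq δ m).2 (h m hm)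
  obtain ⟨T, hTdef⟩ : ∃ T : Set ℕ, T = GamA δ ∪ shiftSet (2 * δ + 1 - 2 * j) (GamA δ) :=
    ⟨_, rfl⟩
  have hTm : ∀ m, m ∈ T ↔ (m % 2 = 0 ∨ 2 * δ + 1 ≤ m + 2 * j) := by
    intro m
    rw [hTdef, Set.mem_union, mem_shiftSet, mem_GamA, mem_GamA]
    omega
  have hT : GStable (GamA δ) T := by rw [hTdef]; exact gstable_union_shift hA.gstable _
  have hNs : ∀ f, f ∈ Submodule.span ↥A ({1, (X : k⟦X⟧) ^ (2 * δ + 1 - 2 * j)} : Set k⟦X⟧) ↔
      f ∈ supp (k := k) T := by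
    intro f
    rw [hA.span_pair, mem_mkSub, hTdef]
  obtain ⟨SC, hSCdef⟩ : ∃ SC : Set ℕ, SC = {m | (m % 2 = 0 ∧ 2 * i ≤ m + 2 * j) ∨
      (m % 2 = 1 ∧ 2 * δ + 1 ≤ m + 2 * j)} := ⟨_, rfl⟩
  obtain ⟨SD, hSDdef⟩ : ∃ SD : Set ℕ, SD = {m | (2 * i ≤ m ∧ m - 2 * i ∈ T) ∨
      (2 * i + (2 * δ + 1 - 2 * i) ≤ m ∧ m - (2 * i + (2 * δ + 1 - 2 * i)) ∈ T)} := ⟨_, rfl⟩
  have hSC : ∀ m, m ∈ SC ↔ ∀ u, 2 * i + u ∈ GamA δ →
      2 * i + u + (2 * δ + 1 - 2 * i) ∈ GamA δ → m + u ∈ T := by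
    intro m
    rw [hSCdef, Set.mem_setOf_eq]
    constructor
    · intro hm u h1 h2
      rw [mem_GamA] at h1 h2
      rw [hTm]
      omega
    · intro h
      have a := h 0 (by rw [mem_GamA]; omega) (by rw [mem_GamA]; omega)
      have b := h (2 * δ + 1 - 2 * i) (by rw [mem_GamA]; omega) (by rw [mem_GamA]; omega)
      rw [hTm] at a b
      omega
  have hSD : ∀ m, m ∈ SD ↔ (2 * i ≤ m ∧ m - 2 * i ∈ T) ∨
      (2 * i + (2 * δ + 1 - 2 * i) ≤ m ∧ m - (2 * i + (2 * δ + 1 - 2 * i)) ∈ T) := by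
    intro m; rw [hSDdef]; exact Iff.rfl
  have hcount := ncard_finset (S := SC \ SD)
    ((Finset.Ico (i - min i j) i).image (fun a => 2 * a) ∪
      (Finset.Ico (δ - j) (δ - j + min i j)).image (fun a => 2 * a + 1))
    (fun m => by
      rw [Set.mem_sdiff, hSD, hTm, hTm, hSCdef, Set.mem_setOf_eq]
      simp only [Finset.mem_union, Finset.mem_image, Finset.mem_Ico]
      constructor
      · rintro ⟨h1, h2⟩
        by_cases hpar : m % 2 = 0
        · left
          exact ⟨m / 2, ⟨by omega, by omega⟩, by omega⟩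
        · right
          exact ⟨m / 2, ⟨by omega, by omega⟩, by omega⟩
      · rintro (⟨a, ⟨ha1, ha2⟩, rfl⟩ | ⟨a, ⟨ha1, ha2⟩, rfl⟩)
        · constructor <;> omega
        · constructor <;> omega)
  have hcard : ((Finset.Ico (i - min i j) i).image (fun a => 2 * a) ∪
      (Finset.Ico (δ - j) (δ - j + min i j)).image (fun a => 2 * a + 1)).card =
      2 * min i j := by
    rw [Finset.card_union_of_disjoint,
      Finset.card_image_of_injective _ (fun a b (h : 2 * a = 2 * b) => by omega),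
      Finset.card_image_of_injective _ (fun a b (h : 2 * a + 1 = 2 * b + 1) => by omega),
      Nat.card_Ico, Nat.card_Ico]
    · omega
    · rw [Finset.disjoint_left]
      intro m h1 h2
      simp only [Finset.mem_image] at h1 h2
      obtain ⟨a, _, rfl⟩ := h1
      obtain ⟨b, _, hb⟩ := h2
      omega
  have h := length_ext_mono hA (2 * δ + 1 - 2 * i) (2 * i) (by rw [mem_GamA]; omega)
    (by rw [mem_GamA]; omega)
    (fun m h1 h2 => by rw [mem_GamA] at h1 h2; omega) T hT _ hNs SC SD hSC hSD hcount.1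
  rw [h, hcount.2, hcard]

end

end Groth.Agent.Lib.TFExtH1
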