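import Groth.Agent.Lib.TFExt4_helper1

/-!
# `Ext¹(M, M)` for the rank one modules over the `E₆` singularity `k⟦t³, t⁴⟧` (helper1)
-/

set_option autoImplicit false
set_option maxHeartbeats 1000000
set_option synthInstance.maxHeartbeats 400000

universe u

namespace Groth.Agent.Lib.TFExtH1

open CategoryTheory PowerSeries

noncomputable section

section Lin3

variable {R : Type*} [CommRing R] {N : Type*} [AddCommGroup N] [Module R N]

/-- the linear map `R³ → N` with given values on the basis. -/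
def lin3 (ν₀ ν₁ ν₂ : N) : (R × R × R) →ₗ[R] N where
  toFun x := x.1 • ν₀ + x.2.1 • ν₁ + x.2.2 • ν₂
  map_add' x y := by
    simp only [Prod.fst_add, Prod.snd_add, add_smul]; abel
  map_smul' a x := by
    simp only [Prod.smul_fst, Prod.smul_snd, smul_eq_mul, mul_smul, RingHom.id_apply, smul_add]

lemma lin3_apply (ν₀ ν₁ ν₂ : N) (x : R × R × R) :
    lin3 ν₀ ν₁ ν₂ x = x.1 • ν₀ + x.2.1 • ν₁ + x.2.2 • ν₂ := rfl

lemma eq_lin3 (G : (R × R × R) →ₗ[R] N) :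
    G = lin3 (G (1, 0, 0)) (G (0, 1, 0)) (G (0, 0, 1)) := by
  apply LinearMap.ext
  rintro ⟨a₀, a₁, a₂⟩
  rw [lin3_apply, ← map_smul, ← map_smul, ← map_smul, ← map_add, ← map_add]
  congr 1
  ext <;> simp

end Lin3

variable {k : Type u} [Field k]

/-- the semigroup `⟨3, 4⟩`. -/
def GamE : Set ℕ := {m | m = 0 ∨ m = 3 ∨ m = 4 ∨ 6 ≤ m}

lemma mem_GamE {m : ℕ} : m ∈ GamE ↔ (m = 0 ∨ m = 3 ∨ m = 4 ∨ 6 ≤ m) := Iff.rfl

lemma closure_E6 (n : ℕ) : n ∈ AddSubmonoid.closure ({3, 4} : Set ℕ) ↔ n ∈ GamE := by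
  constructor
  · intro h
    induction h using AddSubmonoid.closure_induction with
    | mem x hx =>
      rcases hx with rfl | hx
      · exact Or.inr (Or.inl rfl)
      · have : x = 4 := hx
        exact Or.inr (Or.inr (Or.inl this))
    | zero => exact Or.inl rfl
    | add x y _ _ hx hy =>
      rw [mem_GamE] at hx hy ⊢
      omega
  · intro h
    rw [mem_GamE] at h
    have h3 : (3 : ℕ) ∈ AddSubmonoid.closure ({3, 4} : Set ℕ) :=
      AddSubmonoid.subset_closure (Set.mem_insert _ _)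
    have h4 : (4 : ℕ) ∈ AddSubmonoid.closure ({3, 4} : Set ℕ) :=
      AddSubmonoid.subset_closure (Set.mem_insert_of_mem _ rfl)
    have key : ∀ a b : ℕ, a • 3 + b • 4 ∈ AddSubmonoid.closure ({3, 4} : Set ℕ) := fun a b =>
      add_mem (AddSubmonoid.nsmul_mem _ h3 a) (AddSubmonoid.nsmul_mem _ h4 b)
    rcases h with rfl | rfl | rfl | h
    · exact zero_mem _
    · exact h3
    · exact h4
    · have hn : ∃ a b : ℕ, a • 3 + b • 4 = n := by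
        have : n % 3 = 0 ∨ n % 3 = 1 ∨ n % 3 = 2 := by omega
        rcases this with h0 | h1 | h2
        · exact ⟨n / 3, 0, by simp only [smul_eq_mul]; omega⟩
        · exact ⟨(n - 4) / 3, 1, by simp only [smul_eq_mul]; omega⟩
        · exact ⟨(n - 8) / 3, 2, by simp only [smul_eq_mul]; omega⟩
      obtain ⟨a, b, rfl⟩ := hn
      exact key a b

variable {A : Subalgebra k k⟦X⟧} {Γ : Set ℕ}

/-- `length_ext_mono` for `N = M`, with an explicit count. -/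
theorem length_ext_mono_self (hA : IsMono A Γ)
    (t e : ℕ) (heΓ : e ∈ Γ) (hetΓ : e + t ∈ Γ) (hmin : ∀ m ∈ Γ, m + t ∈ Γ → e ≤ m)
    (T : Set ℕ) (hTeq : T = Γ ∪ shiftSet t Γ)
    (SC SD : Set ℕ)
    (hSC : ∀ m, m ∈ SC ↔ ∀ u, e + u ∈ Γ → e + u + t ∈ Γ → m + u ∈ T)
    (hSD : ∀ m, m ∈ SD ↔ (e ≤ m ∧ m - e ∈ T) ∨ (e + t ≤ m ∧ m - (e + t) ∈ T))
    (F : Finset ℕ) (hF : ∀ m, m ∈ SC \ SD ↔ m ∈ F) :
    Module.length ↥A (Abelian.Ext.{u}
      (ModuleCat.of ↥A ↥(Submodule.span ↥A ({1, X ^ t} : Set k⟦X⟧)))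
      (ModuleCat.of ↥A ↥(Submodule.span ↥A ({1, X ^ t} : Set k⟦X⟧))) 1) = (F.card : ℕ∞) := by
  subst hTeq
  have hT := gstable_union_shift hA.gstable t
  have hNs : ∀ f, f ∈ Submodule.span ↥A ({1, X ^ t} : Set k⟦X⟧) ↔
      f ∈ supp (k := k) (Γ ∪ shiftSet t Γ) := fun f => by rw [hA.span_pair, mem_mkSub]
  have hc := ncard_finset F hF
  rw [length_ext_mono hA t e heΓ hetΓ hmin _ hT _ hNs SC SD hSC hSD hc.1, hc.2]

/-- `Ext¹_A(B, B)` for `B = k⟦X⟧ = A + A X + A X²` over `A = k⟦X³, X⁴⟧`. -/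
theorem length_ext_E6_top {M : Type u} [AddCommGroup M] [Module ↥A M] (hA : IsMono A GamE)
    (jM : M →ₗ[↥A] k⟦X⟧) (hjM : Function.Injective jM) (hsurj : Function.Surjective jM)
    (g0 g1 g2 : M) (hg0 : jM g0 = 1) (hg1 : jM g1 = X) (hg2 : jM g2 = X ^ 2)
    (hgen : ∀ x : M, ∃ a₀ a₁ a₂ : ↥A, a₀ • g0 + a₁ • g1 + a₂ • g2 = x) :
    Module.length ↥A (Abelian.Ext.{u} (ModuleCat.of ↥A M) (ModuleCat.of ↥A M) 1) = 6 := by
  classical
  have hX3 : (X : k⟦X⟧) ^ 3 ∈ A := (hA _).2 (X_pow_mem_supp (by rw [mem_GamE]; omega))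
  have hX4 : (X : k⟦X⟧) ^ 4 ∈ A := (hA _).2 (X_pow_mem_supp (by rw [mem_GamE]; omega))
  have hX6 : ∀ b : k⟦X⟧, X ^ 6 * b ∈ A := fun b =>
    (hA _).2 (supp_mono (fun m hm => Or.inr (Or.inr (Or.inr hm)))
      (X_pow_mul_mem_supp_Ici le_rfl b))
  have hAz : ∀ a ∈ A, ∀ m, m ∉ GamE → coeff m a = 0 := fun a ha m hm => by
    by_contra h; exact hm ((hA a).1 ha m h)
  have hx3 : ∀ a ∈ A, coeff 0 a = 0 → a = X ^ 3 * sh 3 a := fun a ha h0 =>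
    TFExtH1.eq_X_pow_mul_sh fun m hm => by
      rcases Nat.eq_zero_or_pos m with rfl | hpos
      · exact h0
      · exact hAz a ha m (by rw [mem_GamE]; omega)
  obtain ⟨q, hq⟩ : ∃ q : (↥A × ↥A × ↥A) →ₗ[↥A] M, q = lin3 g0 g1 g2 := ⟨_, rfl⟩
  have hjq : ∀ x : ↥A × ↥A × ↥A, jM (q x) =
      (x.1 : k⟦X⟧) + (x.2.1 : k⟦X⟧) * X + (x.2.2 : k⟦X⟧) * X ^ 2 := by
    intro x
    rw [hq, lin3_apply, map_add, map_add, map_smul, map_smul, map_smul, hg0, hg1, hg2]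
    change (x.1 : k⟦X⟧) * 1 + (x.2.1 : k⟦X⟧) * X + (x.2.2 : k⟦X⟧) * X ^ 2 = _
    rw [mul_one]
  have hqs : Function.Surjective q := fun y => by
    obtain ⟨a₀, a₁, a₂, h⟩ := hgen y
    exact ⟨(a₀, a₁, a₂), by rw [hq]; exact h⟩
  have hker : ∀ x : ↥A × ↥A × ↥A, x ∈ LinearMap.ker q ↔
      (x.1 : k⟦X⟧) + (x.2.1 : k⟦X⟧) * X + (x.2.2 : k⟦X⟧) * X ^ 2 = 0 := by
    intro x
    rw [LinearMap.mem_ker, ← hjq]
    constructor
    · intro h; rw [h, map_zero]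
    · intro h; exact hjM (by rw [h, map_zero])
  have hz : ∀ x : ↥A × ↥A × ↥A, x ∈ LinearMap.ker q → coeff 0 (x.1 : k⟦X⟧) = 0 ∧
      coeff 0 (x.2.1 : k⟦X⟧) = 0 ∧ coeff 0 (x.2.2 : k⟦X⟧) = 0 := by
    intro x hx
    have E := (hker x).1 hx
    have E' : (x.1 : k⟦X⟧) + (x.2.1 : k⟦X⟧) * X ^ 1 + (x.2.2 : k⟦X⟧) * X ^ 2 = 0 := by
      rw [pow_one]; exact E
    have e0 := congrArg (coeff 0) E'
    have e1 := congrArg (coeff 1) E'
    have e2 := congrArg (coeff 2) E'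
    rw [map_add, map_add, coeff_mul_X_pow', coeff_mul_X_pow',
      if_neg (by norm_num : ¬ (1 : ℕ) ≤ 0), if_neg (by norm_num : ¬ (2 : ℕ) ≤ 0), add_zero,
      add_zero, map_zero] at e0
    rw [map_add, map_add, coeff_mul_X_pow', coeff_mul_X_pow',
      if_pos (le_refl 1), if_neg (by norm_num : ¬ (2 : ℕ) ≤ 1), add_zero, Nat.sub_self,
      map_zero] at e1
    rw [map_add, map_add, coeff_mul_X_pow', coeff_mul_X_pow',
      if_pos (by norm_num : (1 : ℕ) ≤ 2), if_pos (le_refl 2), Nat.sub_self, map_zero] at e2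
    have a1 := hAz _ x.1.2 1 (by rw [mem_GamE]; omega)
    have a2 := hAz _ x.1.2 2 (by rw [mem_GamE]; omega)
    have b1 := hAz _ x.2.1.2 1 (by rw [mem_GamE]; omega)
    rw [a1, zero_add] at e1
    have e21 : (2 : ℕ) - 1 = 1 := rfl
    rw [e21, a2, b1, zero_add, zero_add] at e2
    exact ⟨e0, e1, e2⟩
  obtain ⟨κ₁, hκ₁d⟩ : ∃ κ₁ : ↥A × ↥A × ↥A,
      κ₁ = (⟨-X ^ 4, A.neg_mem hX4⟩, ⟨X ^ 3, hX3⟩, 0) := ⟨_, rfl⟩
  obtain ⟨κ₂, hκ₂d⟩ : ∃ κ₂ : ↥A × ↥A × ↥A,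
      κ₂ = (0, ⟨-X ^ 4, A.neg_mem hX4⟩, ⟨X ^ 3, hX3⟩) := ⟨_, rfl⟩
  have hκ₁ : κ₁ ∈ LinearMap.ker q := by
    rw [hker, hκ₁d]
    change -X ^ 4 + X ^ 3 * X + (0 : k⟦X⟧) * X ^ 2 = 0
    ring
  have hκ₂ : κ₂ ∈ LinearMap.ker q := by
    rw [hker, hκ₂d]
    change (0 : k⟦X⟧) + -X ^ 4 * X + X ^ 3 * X ^ 2 = 0
    ring
  have key : ∀ (f : ↥(LinearMap.ker q) →ₗ[↥A] M) (x : ↥(LinearMap.ker q)),
      jM (f x) = (sh 3 ((x.1.2.1 : ↥A) : k⟦X⟧) + X * sh 3 ((x.1.2.2 : ↥A) : k⟦X⟧)) *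
        jM (f ⟨κ₁, hκ₁⟩) + sh 3 ((x.1.2.2 : ↥A) : k⟦X⟧) * jM (f ⟨κ₂, hκ₂⟩) := by
    intro f x
    obtain ⟨z0, z1, z2⟩ := hz x.1 x.2
    have E := (hker x.1).1 x.2
    have h1 := hx3 _ x.1.2.1.2 z1
    have h2 := hx3 _ x.1.2.2.2 z2
    have h0 : ((x.1.1 : ↥A) : k⟦X⟧) =
        -(((x.1.2.1 : ↥A) : k⟦X⟧) * X + ((x.1.2.2 : ↥A) : k⟦X⟧) * X ^ 2) := by
      linear_combination E
    have step1 : (⟨X ^ 6 * 1, hX6 1⟩ : ↥A) • x =
        (⟨X ^ 6 * (sh 3 ((x.1.2.1 : ↥A) : k⟦X⟧) + X * sh 3 ((x.1.2.2 : ↥A) : k⟦X⟧)),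
          hX6 _⟩ : ↥A) • (⟨κ₁, hκ₁⟩ : ↥(LinearMap.ker q)) +
        (⟨X ^ 6 * sh 3 ((x.1.2.2 : ↥A) : k⟦X⟧), hX6 _⟩ : ↥A) •
          (⟨κ₂, hκ₂⟩ : ↥(LinearMap.ker q)) := by
      apply Subtype.ext
      subst hκ₁d hκ₂d
      apply Prod.ext
      · apply Subtype.ext
        change X ^ 6 * 1 * ((x.1.1 : ↥A) : k⟦X⟧) =
          X ^ 6 * (sh 3 ((x.1.2.1 : ↥A) : k⟦X⟧) + X * sh 3 ((x.1.2.2 : ↥A) : k⟦X⟧)) *
            (-X ^ 4) + X ^ 6 * sh 3 ((x.1.2.2 : ↥A) : k⟦X⟧) * 0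
        rw [h0]
        conv_lhs => rw [h1, h2]
        ring
      · apply Prod.ext
        · apply Subtype.ext
          change X ^ 6 * 1 * ((x.1.2.1 : ↥A) : k⟦X⟧) =
            X ^ 6 * (sh 3 ((x.1.2.1 : ↥A) : k⟦X⟧) + X * sh 3 ((x.1.2.2 : ↥A) : k⟦X⟧)) *
              X ^ 3 + X ^ 6 * sh 3 ((x.1.2.2 : ↥A) : k⟦X⟧) * (-X ^ 4)
          conv_lhs => rw [h1]
          ring
        · apply Subtype.ext
          change X ^ 6 * 1 * ((x.1.2.2 : ↥A) : k⟦X⟧) =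
            X ^ 6 * (sh 3 ((x.1.2.1 : ↥A) : k⟦X⟧) + X * sh 3 ((x.1.2.2 : ↥A) : k⟦X⟧)) *
              0 + X ^ 6 * sh 3 ((x.1.2.2 : ↥A) : k⟦X⟧) * X ^ 3
          conv_lhs => rw [h2]
          ring
    have h3 := congrArg (fun y => jM (f y)) step1
    simp only [map_add, map_smul] at h3
    change X ^ 6 * 1 * jM (f x) =
      X ^ 6 * (sh 3 ((x.1.2.1 : ↥A) : k⟦X⟧) + X * sh 3 ((x.1.2.2 : ↥A) : k⟦X⟧)) *
        jM (f ⟨κ₁, hκ₁⟩) + X ^ 6 * sh 3 ((x.1.2.2 : ↥A) : k⟦X⟧) * jM (f ⟨κ₂, hκ₂⟩) at h3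
    have h4 : X ^ 6 * jM (f x) =
        X ^ 6 * ((sh 3 ((x.1.2.1 : ↥A) : k⟦X⟧) + X * sh 3 ((x.1.2.2 : ↥A) : k⟦X⟧)) *
          jM (f ⟨κ₁, hκ₁⟩) + sh 3 ((x.1.2.2 : ↥A) : k⟦X⟧) * jM (f ⟨κ₂, hκ₂⟩)) := by
      rw [mul_one] at h3
      rw [h3]; ring
    exact mul_left_cancel₀ (pow_ne_zero _ X_ne_zero) h4
  -- the target
  have hSu : Stable A Set.univ := fun _ _ _ _ _ _ => Set.mem_univ _
  have hS3 : Stable A (Set.Ici 3) := hA.stable (fun s hs g _ =>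
    Set.mem_Ici.mpr (by have := Set.mem_Ici.mp hs; omega))
  have hCu : ∀ b : k⟦X⟧, b ∈ mkSub A Set.univ hSu := fun b m _ => Set.mem_univ m
  let Ξ₀ : (↥(LinearMap.ker q) →ₗ[↥A] M) →ₗ[↥A]
      (↥(mkSub A Set.univ hSu) × ↥(mkSub A Set.univ hSu)) :=
    { toFun := fun f => (⟨jM (f ⟨κ₁, hκ₁⟩), hCu _⟩, ⟨jM (f ⟨κ₂, hκ₂⟩), hCu _⟩)
      map_add' := fun f g => by
        apply Prod.ext
        · apply Subtype.ext
          show jM ((f + g) _) = jM (f _) + jM (g _)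
          rw [LinearMap.add_apply, map_add]
        · apply Subtype.ext
          show jM ((f + g) _) = jM (f _) + jM (g _)
          rw [LinearMap.add_apply, map_add]
      map_smul' := fun a f => by
        apply Prod.ext
        · apply Subtype.ext
          show jM ((a • f) _) = a • jM (f _)
          rw [LinearMap.smul_apply, map_smul]
        · apply Subtype.ext
          show jM ((a • f) _) = a • jM (f _)
          rw [LinearMap.smul_apply, map_smul] }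
  have hΞ₁ : ∀ f, (((Ξ₀ f).1 : ↥(mkSub A Set.univ hSu)) : k⟦X⟧) = jM (f ⟨κ₁, hκ₁⟩) :=
    fun _ => rfl
  have hΞ₂ : ∀ f, (((Ξ₀ f).2 : ↥(mkSub A Set.univ hSu)) : k⟦X⟧) = jM (f ⟨κ₂, hκ₂⟩) :=
    fun _ => rfl
  have hΞ₀s : Function.Surjective Ξ₀ := by
    rintro ⟨h₁, h₂⟩
    have hsm : ∀ (a : ↥A) (x : ↥(LinearMap.ker q)),
        sh 3 (((a • x : ↥(LinearMap.ker q)).1.2.1 : ↥A) : k⟦X⟧) =
          (a : k⟦X⟧) * sh 3 ((x.1.2.1 : ↥A) : k⟦X⟧) ∧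
        sh 3 (((a • x : ↥(LinearMap.ker q)).1.2.2 : ↥A) : k⟦X⟧) =
          (a : k⟦X⟧) * sh 3 ((x.1.2.2 : ↥A) : k⟦X⟧) := by
      intro a x
      obtain ⟨z0, z1, z2⟩ := hz x.1 x.2
      have h1 := hx3 _ x.1.2.1.2 z1
      have h2 := hx3 _ x.1.2.2.2 z2
      constructor
      · have e : (((a • x : ↥(LinearMap.ker q)).1.2.1 : ↥A) : k⟦X⟧) =
            X ^ 3 * ((a : k⟦X⟧) * sh 3 ((x.1.2.1 : ↥A) : k⟦X⟧)) := by
          change (a : k⟦X⟧) * ((x.1.2.1 : ↥A) : k⟦X⟧) = _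
          conv_lhs => rw [h1]
          ring
        rw [e, sh_X_pow_mul]
      · have e : (((a • x : ↥(LinearMap.ker q)).1.2.2 : ↥A) : k⟦X⟧) =
            X ^ 3 * ((a : k⟦X⟧) * sh 3 ((x.1.2.2 : ↥A) : k⟦X⟧)) := by
          change (a : k⟦X⟧) * ((x.1.2.2 : ↥A) : k⟦X⟧) = _
          conv_lhs => rw [h2]
          ring
        rw [e, sh_X_pow_mul]
    let f₀ : ↥(LinearMap.ker q) →ₗ[↥A] k⟦X⟧ :=
      { toFun := fun x => (sh 3 ((x.1.2.1 : ↥A) : k⟦X⟧) + X * sh 3 ((x.1.2.2 : ↥A) : k⟦X⟧)) *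
          (h₁ : k⟦X⟧) + sh 3 ((x.1.2.2 : ↥A) : k⟦X⟧) * (h₂ : k⟦X⟧)
        map_add' := fun x y => by
          beta_reduce
          have e1 : sh 3 (((x + y : ↥(LinearMap.ker q)).1.2.1 : ↥A) : k⟦X⟧) =
              sh 3 ((x.1.2.1 : ↥A) : k⟦X⟧) + sh 3 ((y.1.2.1 : ↥A) : k⟦X⟧) := by
            rw [← map_add]; rfl
          have e2 : sh 3 (((x + y : ↥(LinearMap.ker q)).1.2.2 : ↥A) : k⟦X⟧) =
              sh 3 ((x.1.2.2 : ↥A) : k⟦X⟧) + sh 3 ((y.1.2.2 : ↥A) : k⟦X⟧) := by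
            rw [← map_add]; rfl
          rw [e1, e2]; ring
        map_smul' := fun a x => by
          beta_reduce
          rw [RingHom.id_apply, (hsm a x).1, (hsm a x).2]
          change _ = (a : k⟦X⟧) * _
          ring }
    have hf₀v : ∀ x, f₀ x = (sh 3 ((x.1.2.1 : ↥A) : k⟦X⟧) +
        X * sh 3 ((x.1.2.2 : ↥A) : k⟦X⟧)) * (h₁ : k⟦X⟧) +
          sh 3 ((x.1.2.2 : ↥A) : k⟦X⟧) * (h₂ : k⟦X⟧) := fun _ => rfl
    let eM := LinearEquiv.ofBijective jM ⟨hjM, hsurj⟩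
    let f : ↥(LinearMap.ker q) →ₗ[↥A] M := eM.symm.toLinearMap ∘ₗ f₀
    have hjf : ∀ x, jM (f x) = f₀ x := fun x => eM.apply_symm_apply (f₀ x)
    refine ⟨f, ?_⟩
    subst hκ₁d hκ₂d
    apply Prod.ext
    · apply Subtype.ext
      rw [hΞ₁, hjf, hf₀v]
      change (sh 3 (X ^ 3) + X * sh 3 (0 : k⟦X⟧)) * (h₁ : k⟦X⟧) +
        sh 3 (0 : k⟦X⟧) * (h₂ : k⟦X⟧) = (h₁ : k⟦X⟧)
      have e3 : sh 3 ((X : k⟦X⟧) ^ 3) = 1 := by
        have := sh_X_pow_mul 3 (1 : k⟦X⟧)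
        rwa [mul_one] at this
      rw [map_zero, e3]
      ring
    · apply Subtype.ext
      rw [hΞ₂, hjf, hf₀v]
      change (sh 3 (-X ^ 4) + X * sh 3 ((X : k⟦X⟧) ^ 3)) * (h₁ : k⟦X⟧) +
        sh 3 ((X : k⟦X⟧) ^ 3) * (h₂ : k⟦X⟧) = (h₂ : k⟦X⟧)
      have e3 : sh 3 ((X : k⟦X⟧) ^ 3) = 1 := by
        have := sh_X_pow_mul 3 (1 : k⟦X⟧)
        rwa [mul_one] at this
      have e4 : sh 3 (-(X : k⟦X⟧) ^ 4) = -X := by
        have := sh_X_pow_mul 3 (X : k⟦X⟧)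
        rw [map_neg, show (X : k⟦X⟧) ^ 4 = X ^ 3 * X by ring, this]
      rw [e3, e4]
      ring
  let ρ : (↥(mkSub A Set.univ hSu) × ↥(mkSub A Set.univ hSu)) →ₗ[↥A]
      (relQ (mkSub A (Set.Ici 3) hS3) (mkSub A Set.univ hSu) ×
        relQ (mkSub A (Set.Ici 3) hS3) (mkSub A Set.univ hSu)) :=
    { toFun := fun p => (Submodule.Quotient.mk p.1, Submodule.Quotient.mk p.2)
      map_add' := fun _ _ => rfl
      map_smul' := fun _ _ => rfl }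
  have hρs : Function.Surjective ρ := by
    rintro ⟨y₁, y₂⟩
    obtain ⟨p₁, rfl⟩ := Submodule.Quotient.mk_surjective _ y₁
    obtain ⟨p₂, rfl⟩ := Submodule.Quotient.mk_surjective _ y₂
    exact ⟨(p₁, p₂), rfl⟩
  have hρk : ∀ p : ↥(mkSub A Set.univ hSu) × ↥(mkSub A Set.univ hSu), ρ p = 0 ↔
      ((p.1 : k⟦X⟧) ∈ supp (k := k) (Set.Ici 3) ∧ (p.2 : k⟦X⟧) ∈ supp (k := k) (Set.Ici 3)) := by
    intro p
    have e0 : ρ p = 0 ↔ (Submodule.Quotient.mk p.1 =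
        (0 : relQ (mkSub A (Set.Ici 3) hS3) (mkSub A Set.univ hSu)) ∧
        Submodule.Quotient.mk p.2 =
          (0 : relQ (mkSub A (Set.Ici 3) hS3) (mkSub A Set.univ hSu))) := Prod.ext_iff
    rw [e0, Submodule.Quotient.mk_eq_zero, Submodule.Quotient.mk_eq_zero]
    rfl
  have hlin : ∀ (ν₀ ν₁ ν₂ : M),
      jM (lin3 ν₀ ν₁ ν₂ κ₁) = -X ^ 4 * jM ν₀ + X ^ 3 * jM ν₁ ∧
      jM (lin3 ν₀ ν₁ ν₂ κ₂) = -X ^ 4 * jM ν₁ + X ^ 3 * jM ν₂ := by
    intro ν₀ ν₁ ν₂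
    subst hκ₁d hκ₂d
    constructor
    · rw [lin3_apply, map_add, map_add, map_smul, map_smul, map_smul]
      change -X ^ 4 * jM ν₀ + X ^ 3 * jM ν₁ + (0 : k⟦X⟧) * jM ν₂ = _
      ring
    · rw [lin3_apply, map_add, map_add, map_smul, map_smul, map_smul]
      change (0 : k⟦X⟧) * jM ν₀ + -X ^ 4 * jM ν₁ + X ^ 3 * jM ν₂ = _
      ring
  have hmain : Module.length ↥A (Abelian.Ext.{u} (ModuleCat.of ↥A M) (ModuleCat.of ↥A M) 1) =
      Module.length ↥A (relQ (mkSub A (Set.Ici 3) hS3) (mkSub A Set.univ hSu) ×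
        relQ (mkSub A (Set.Ici 3) hS3) (mkSub A Set.univ hSu)) := by
    apply length_ext_one_eq q hqs (ρ.comp Ξ₀) (hρs.comp hΞ₀s)
    intro f
    rw [LinearMap.comp_apply, hρk, hΞ₁, hΞ₂]
    constructor
    · rintro ⟨m1, m2⟩
      obtain ⟨ν₁, hν₁⟩ := hsurj (sh 3 (jM (f ⟨κ₁, hκ₁⟩)))
      obtain ⟨ν₂, hν₂⟩ := hsurj (sh 3 (jM (f ⟨κ₂, hκ₂⟩)) + X * sh 3 (jM (f ⟨κ₁, hκ₁⟩)))
      have d1 := eq_X_pow_mul_sh_of_supp (fun m hm => Set.mem_Ici.mp hm) m1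
      have d2 := eq_X_pow_mul_sh_of_supp (fun m hm => Set.mem_Ici.mp hm) m2
      refine ⟨lin3 0 ν₁ ν₂, fun x => ?_⟩
      apply hjM
      have e1 := key f x
      have e2 := key ((lin3 0 ν₁ ν₂).comp (LinearMap.ker q).subtype) x
      rw [e1]
      refine e2.trans ?_
      have c1 : jM (((lin3 0 ν₁ ν₂).comp (LinearMap.ker q).subtype) ⟨κ₁, hκ₁⟩) =
          jM (f ⟨κ₁, hκ₁⟩) := by
        refine ((hlin 0 ν₁ ν₂).1).trans ?_
        rw [map_zero, hν₁, mul_zero, zero_add, ← d1]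
      have c2 : jM (((lin3 0 ν₁ ν₂).comp (LinearMap.ker q).subtype) ⟨κ₂, hκ₂⟩) =
          jM (f ⟨κ₂, hκ₂⟩) := by
        refine ((hlin 0 ν₁ ν₂).2).trans ?_
        rw [hν₁, hν₂]
        conv_rhs => rw [d2]
        ring
      rw [c1, c2]
    · rintro ⟨G, hG⟩
      have e1 := LinearMap.congr_fun (eq_lin3 G) κ₁
      have e2 := LinearMap.congr_fun (eq_lin3 G) κ₂
      have l := hlin (G (1, 0, 0)) (G (0, 1, 0)) (G (0, 0, 1))
      constructor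
      · rw [← hG ⟨κ₁, hκ₁⟩]
        change jM (G κ₁) ∈ _
        rw [e1, l.1]
        have : -X ^ 4 * jM (G (1, 0, 0)) + X ^ 3 * jM (G (0, 1, 0)) =
            X ^ 3 * (jM (G (0, 1, 0)) - X * jM (G (1, 0, 0))) := by ring
        rw [this]
        exact X_pow_mul_mem_supp_Ici le_rfl _
      · rw [← hG ⟨κ₂, hκ₂⟩]
        change jM (G κ₂) ∈ _
        rw [e2, l.2]
        have : -X ^ 4 * jM (G (0, 1, 0)) + X ^ 3 * jM (G (0, 0, 1)) =
            X ^ 3 * (jM (G (0, 0, 1)) - X * jM (G (0, 1, 0))) := by ring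
        rw [this]
        exact X_pow_mul_mem_supp_Ici le_rfl _
  have hc := ncard_finset (S := Set.univ \ Set.Ici 3) (Finset.range 3) (fun m => by
    rw [Set.mem_sdiff, Set.mem_Ici, Finset.mem_range]
    constructor
    · intro h; omega
    · intro h; exact ⟨Set.mem_univ m, by omega⟩)
  rw [hmain, Module.length_prod,
    length_mkSub' A Set.univ (Set.Ici 3) hSu hS3 (Set.subset_univ _) hc.1, hc.2,
    Finset.card_range]
  norm_num

theorem main15041 (A : Subalgebra k k⟦X⟧)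
    (hmono : ∀ f : k⟦X⟧, f ∈ A ↔ ∀ n : ℕ, coeff n f ≠ 0 →
      n ∈ AddSubmonoid.closure ({3, 4} : Set ℕ)) :
    Module.length ↥A (Abelian.Ext.{u}
      (ModuleCat.of ↥A ↥(Submodule.span ↥A ({1, (X : k⟦X⟧) ^ 5} : Set k⟦X⟧)))
      (ModuleCat.of ↥A ↥(Submodule.span ↥A ({1, (X : k⟦X⟧) ^ 5} : Set k⟦X⟧))) 1) = 2 ∧
    Module.length ↥A (Abelian.Ext.{u}
      (ModuleCat.of ↥A ↥(Submodule.span ↥A ({1, (X : k⟦X⟧)} : Set k⟦X⟧)))
      (ModuleCat.of ↥A ↥(Submodule.span ↥A ({1, (X : k⟦X⟧)} : Set k⟦X⟧))) 1) = 2 ∧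
    Module.length ↥A (Abelian.Ext.{u}
      (ModuleCat.of ↥A ↥(Submodule.span ↥A ({1, (X : k⟦X⟧) ^ 2} : Set k⟦X⟧)))
      (ModuleCat.of ↥A ↥(Submodule.span ↥A ({1, (X : k⟦X⟧) ^ 2} : Set k⟦X⟧))) 1) = 4 ∧
    Module.length ↥A (Abelian.Ext.{u}
      (ModuleCat.of ↥A ↥(Submodule.span ↥A ({1, (X : k⟦X⟧), (X : k⟦X⟧) ^ 2} : Set k⟦X⟧)))
      (ModuleCat.of ↥A ↥(Submodule.span ↥A ({1, (X : k⟦X⟧), (X : k⟦X⟧) ^ 2} : Set k⟦X⟧)))
      1) = 6 := by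
  have hA : IsMono A GamE := fun f => by
    rw [hmono]
    constructor
    · intro h m hm; exact (closure_E6 m).1 (h m hm)
    · intro h m hm; exact (closure_E6 m).2 (h m hm)
  refine ⟨?_, ?_, ?_, ?_⟩
  · have h := length_ext_mono_self hA 5 3 (by rw [mem_GamE]; omega) (by rw [mem_GamE]; omega)
      (fun m h1 h2 => by rw [mem_GamE] at h1 h2; omega)
      {m | m = 0 ∨ 3 ≤ m}
      (Set.ext fun m => by
        rw [Set.mem_setOf_eq, Set.mem_union, mem_shiftSet, mem_GamE, mem_GamE]; omega)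
      {m | 3 ≤ m}
      {m | (3 ≤ m ∧ m - 3 ∈ {m | m = 0 ∨ 3 ≤ m}) ∨
        (3 + 5 ≤ m ∧ m - (3 + 5) ∈ {m | m = 0 ∨ 3 ≤ m})}
      (fun m => by
        rw [Set.mem_setOf_eq]
        constructor
        · intro hm u _ _
          rw [Set.mem_setOf_eq]; omega
        · intro h
          have a := h 0 (by rw [mem_GamE]; omega) (by rw [mem_GamE]; omega)
          have b := h 1 (by rw [mem_GamE]; omega) (by rw [mem_GamE]; omega)
          rw [Set.mem_setOf_eq] at a b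
          omega)
      (fun m => Iff.rfl)
      {4, 5}
      (fun m => by
        simp only [Set.mem_sdiff, Set.mem_setOf_eq, Finset.mem_insert, Finset.mem_singleton]
        omega)
    rw [h, show ({4, 5} : Finset ℕ).card = 2 by decide]
    norm_num
  · have e : ({1, (X : k⟦X⟧)} : Set k⟦X⟧) = {1, X ^ 1} := by rw [pow_one]
    rw [e]
    have h := length_ext_mono_self hA 1 3 (by rw [mem_GamE]; omega) (by rw [mem_GamE]; omega)
      (fun m h1 h2 => by rw [mem_GamE] at h1 h2; omega)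
      {m | m ≠ 2}
      (Set.ext fun m => by
        rw [Set.mem_setOf_eq, Set.mem_union, mem_shiftSet, mem_GamE, mem_GamE]; omega)
      {m | m ≠ 2}
      {m | (3 ≤ m ∧ m - 3 ∈ {m | m ≠ 2}) ∨ (3 + 1 ≤ m ∧ m - (3 + 1) ∈ {m | m ≠ 2})}
      (fun m => by
        rw [Set.mem_setOf_eq]
        constructor
        · intro hm u h1 h2
          rw [mem_GamE] at h1 h2
          rw [Set.mem_setOf_eq]; omega
        · intro h
          have a := h 0 (by rw [mem_GamE]; omega) (by rw [mem_GamE]; omega)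
          rw [Set.mem_setOf_eq] at a
          omega)
      (fun m => Iff.rfl)
      {0, 1}
      (fun m => by
        simp only [Set.mem_sdiff, Set.mem_setOf_eq, Finset.mem_insert, Finset.mem_singleton]
        omega)
    rw [h, show ({0, 1} : Finset ℕ).card = 2 by decide]
    norm_num
  · have h := length_ext_mono_self hA 2 4 (by rw [mem_GamE]; omega) (by rw [mem_GamE]; omega)
      (fun m h1 h2 => by rw [mem_GamE] at h1 h2; omega)
      {m | m ≠ 1}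
      (Set.ext fun m => by
        rw [Set.mem_setOf_eq, Set.mem_union, mem_shiftSet, mem_GamE, mem_GamE]; omega)
      {m | m ≠ 1}
      {m | (4 ≤ m ∧ m - 4 ∈ {m | m ≠ 1}) ∨ (4 + 2 ≤ m ∧ m - (4 + 2) ∈ {m | m ≠ 1})}
      (fun m => by
        rw [Set.mem_setOf_eq]
        constructor
        · intro hm u h1 h2
          rw [mem_GamE] at h1 h2
          rw [Set.mem_setOf_eq]; omega
        · intro h
          have a := h 0 (by rw [mem_GamE]; omega) (by rw [mem_GamE]; omega)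
          rw [Set.mem_setOf_eq] at a
          omega)
      (fun m => Iff.rfl)
      {0, 2, 3, 5}
      (fun m => by
        simp only [Set.mem_sdiff, Set.mem_setOf_eq, Finset.mem_insert, Finset.mem_singleton]
        omega)
    rw [h, show ({0, 2, 3, 5} : Finset ℕ).card = 4 by decide]
    norm_num
  · have hall : ∀ b : k⟦X⟧, b ∈ Submodule.span ↥A ({1, X, X ^ 2} : Set k⟦X⟧) := by
      intro b
      obtain ⟨g, hg⟩ : ∃ g, g = b - restr GamE b := ⟨_, rfl⟩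
      have hgz : ∀ m, m ∈ GamE → coeff m g = 0 := fun m hm => by
        rw [hg, map_sub, coeff_restr_of_mem b hm, sub_self]
      have hgexp : g = C (coeff 1 g) * X ^ 1 + C (coeff 2 g) * X ^ 2 +
          C (coeff 5 g) * X ^ 5 := by
        ext m
        rw [map_add, map_add, coeff_C_mul_X_pow, coeff_C_mul_X_pow, coeff_C_mul_X_pow]
        by_cases h1 : m = 1
        · subst h1; simp
        by_cases h2 : m = 2
        · subst h2; simp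
        by_cases h5 : m = 5
        · subst h5; simp
        rw [if_neg h1, if_neg h2, if_neg h5, add_zero, add_zero]
        exact hgz m (by rw [mem_GamE]; omega)
      have ha0 : restr GamE b ∈ A := (hA _).2 (restr_mem_supp _ _)
      have ha1 : C (coeff 1 g) + C (coeff 5 g) * X ^ 4 ∈ A :=
        A.add_mem (C_mem A _) (A.mul_mem (C_mem A _)
          ((hA _).2 (X_pow_mem_supp (by rw [mem_GamE]; omega))))
      have ha2 : C (coeff 2 g) ∈ A := C_mem A _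
      rw [Submodule.mem_span_triple]
      refine ⟨⟨_, ha0⟩, ⟨_, ha1⟩, ⟨_, ha2⟩, ?_⟩
      change restr GamE b * 1 + (C (coeff 1 g) + C (coeff 5 g) * X ^ 4) * X +
        C (coeff 2 g) * X ^ 2 = b
      have hb : b = restr GamE b + g := by rw [hg]; ring
      conv_rhs => rw [hb, hgexp]
      ring
    have key := length_ext_E6_top
      (M := ↥(Submodule.span ↥A ({1, X, X ^ 2} : Set k⟦X⟧))) hA
      (Submodule.span ↥A ({1, X, X ^ 2} : Set k⟦X⟧)).subtype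
      (Submodule.span ↥A ({1, X, X ^ 2} : Set k⟦X⟧)).injective_subtype
    exact key (fun b => ⟨⟨b, hall b⟩, rfl⟩)
      ⟨1, Submodule.subset_span (by simp)⟩ ⟨X, Submodule.subset_span (by simp)⟩
      ⟨X ^ 2, Submodule.subset_span (by simp)⟩ rfl rfl rfl
      (fun x => by
        obtain ⟨a, b, c, h⟩ := Submodule.mem_span_triple.1 x.2
        exact ⟨a, b, c, Subtype.ext h⟩)

end

end Groth.Agent.Lib.TFExtH1
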