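import Groth.Agent.Lib.TFExt4_helper1

/-!
# `Ext¹` between rank one modules over the two-branch singularity `A_{2δ-1}` (helper1)

`O = {(f, g) ∈ k⟦X⟧² | f ≡ g mod X^δ}`, `I_j = O·(X^j, X^j) + O·(X^δ, 0)`;
`length Ext¹_O(I_i, I_j) = 2 min(i, j)`.
-/

set_option autoImplicit false
set_option maxHeartbeats 1000000
set_option synthInstance.maxHeartbeats 400000

universe u

namespace Groth.Agent.Lib.TFExtH1

open CategoryTheory PowerSeries

noncomputable section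

section DvSec

variable {k : Type u} [Field k]

/-- divisibility by `X^e`, coefficientwise. -/
def Dv (e : ℕ) (f : k⟦X⟧) : Prop := ∀ m, m < e → coeff m f = 0

lemma Dv.eq {e : ℕ} {f : k⟦X⟧} (h : Dv e f) : f = X ^ e * sh e f := eq_X_pow_mul_sh h

lemma dv_X_pow_mul {e' e : ℕ} (h : e' ≤ e) (a : k⟦X⟧) : Dv e' (X ^ e * a) := by
  intro m hm
  rw [coeff_X_pow_mul', if_neg (by omega)]

lemma dv_X_pow {e' e : ℕ} (h : e' ≤ e) : Dv e' ((X : k⟦X⟧) ^ e) := by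
  have := dv_X_pow_mul h (1 : k⟦X⟧)
  rwa [mul_one] at this

lemma dv_zero (e : ℕ) : Dv e (0 : k⟦X⟧) := fun _ _ => map_zero _

lemma Dv.mono {e' e : ℕ} {f : k⟦X⟧} (h : e' ≤ e) (hf : Dv e f) : Dv e' f :=
  fun m hm => hf m (by omega)

lemma Dv.add {e : ℕ} {f g : k⟦X⟧} (hf : Dv e f) (hg : Dv e g) : Dv e (f + g) :=
  fun m hm => by rw [map_add, hf m hm, hg m hm, add_zero]

lemma Dv.neg {e : ℕ} {f : k⟦X⟧} (hf : Dv e f) : Dv e (-f) :=
  fun m hm => by rw [map_neg, hf m hm, neg_zero]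

lemma Dv.sub {e : ℕ} {f g : k⟦X⟧} (hf : Dv e f) (hg : Dv e g) : Dv e (f - g) :=
  fun m hm => by rw [map_sub, hf m hm, hg m hm, sub_zero]

lemma Dv.mul_left {e : ℕ} {f : k⟦X⟧} (a : k⟦X⟧) (hf : Dv e f) : Dv e (a * f) := by
  have : a * f = X ^ e * (a * sh e f) := by
    conv_lhs => rw [hf.eq]
    ring
  rw [this]
  exact dv_X_pow_mul le_rfl _

lemma Dv.mul {a b : ℕ} {f g : k⟦X⟧} (hf : Dv a f) (hg : Dv b g) : Dv (a + b) (f * g) := by
  have e1 := hf.eq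
  have e2 := hg.eq
  have : f * g = X ^ (a + b) * (sh a f * sh b g) := by
    calc f * g = (X ^ a * sh a f) * (X ^ b * sh b g) := by rw [← e1, ← e2]
      _ = X ^ (a + b) * (sh a f * sh b g) := by ring
  rw [this]
  exact dv_X_pow_mul le_rfl _

lemma Dv.of_X_pow_mul {e a : ℕ} {f : k⟦X⟧} (h : Dv (a + e) (X ^ e * f)) : Dv a f := by
  intro m hm
  have := h (m + e) (by omega)
  rwa [coeff_X_pow_mul] at this

lemma Dv.succ {a : ℕ} {f : k⟦X⟧} (h : Dv a f) (h0 : coeff a f = 0) : Dv (a + 1) f := by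
  intro m hm
  rcases Nat.lt_succ_iff_lt_or_eq.mp hm with h1 | rfl
  · exact h m h1
  · exact h0

lemma Dv.sh {a e : ℕ} {f : k⟦X⟧} (h : Dv (a + e) f) : Dv a (sh e f) :=
  fun m hm => by rw [coeff_sh]; exact h (m + e) (by omega)

lemma dv_order_iff (e : ℕ) (f : k⟦X⟧) : (e : ℕ∞) ≤ order f ↔ Dv e f := by
  constructor
  · intro h m hm
    exact coeff_of_lt_order m (lt_of_lt_of_le (by exact_mod_cast hm) h)
  · intro h
    exact nat_le_order f e h

/-- a one-step quotient cut out by a `k`-linear functional has length one. -/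
theorem length_relQ_eq_one {W : Type*} [CommRing W] [Algebra k W] (O : Subalgebra k W)
    (P P' : Submodule ↥O W) (φ : W →ₗ[k] k) (hP : ∀ x ∈ P', x ∈ P ↔ φ x = 0)
    (x₀ : W) (hx₀ : x₀ ∈ P') (hφ : φ x₀ ≠ 0) : Module.length ↥O (relQ P P') = 1 := by
  rw [Module.length_eq_one_iff, isSimpleModule_iff_toSpanSingleton_surjective]
  refine ⟨⟨⟨Submodule.Quotient.mk ⟨x₀, hx₀⟩, 0, ?_⟩⟩, ?_⟩
  · intro h0
    rw [Submodule.Quotient.mk_eq_zero] at h0
    exact hφ ((hP x₀ hx₀).1 h0)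
  · intro x hx y
    obtain ⟨⟨f, hf⟩, rfl⟩ := Submodule.Quotient.mk_surjective _ x
    obtain ⟨⟨g, hg⟩, rfl⟩ := Submodule.Quotient.mk_surjective _ y
    have hc : φ f ≠ 0 := by
      intro h0
      apply hx
      rw [Submodule.Quotient.mk_eq_zero]
      exact (hP f hf).2 h0
    refine ⟨⟨algebraMap k W (φ g / φ f), O.algebraMap_mem _⟩, ?_⟩
    show (⟨algebraMap k W (φ g / φ f), O.algebraMap_mem _⟩ : ↥O) •
      (Submodule.Quotient.mk (⟨f, hf⟩ : ↥P') : relQ P P') = Submodule.Quotient.mk ⟨g, hg⟩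
    rw [← Submodule.Quotient.mk_smul, Submodule.Quotient.eq]
    have hmem : algebraMap k W (φ g / φ f) * f - g ∈ P' :=
      P'.sub_mem (P'.smul_mem (⟨algebraMap k W (φ g / φ f), O.algebraMap_mem _⟩ : ↥O) hf) hg
    show algebraMap k W (φ g / φ f) * f - g ∈ P
    rw [hP _ hmem, map_sub, ← Algebra.smul_def, map_smul, smul_eq_mul, div_mul_cancel₀ _ hc,
      sub_self]

end DvSec

section TwoBranch

variable {k : Type u} [Field k]

/-- `O = {(f, g) | f ≡ g mod X^δ}`. -/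
def IsO (O : Subalgebra k (k⟦X⟧ × k⟦X⟧)) (δ : ℕ) : Prop :=
  ∀ f : k⟦X⟧ × k⟦X⟧, f ∈ O ↔ Dv δ (f.1 - f.2)

/-- `{(f, g) | X^a ∣ f, g, f ≡ g mod X^b}` (with `b` truncated at `a + δ`). -/
def Lset (δ a b : ℕ) : Set (k⟦X⟧ × k⟦X⟧) :=
  {p | Dv a p.1 ∧ Dv a p.2 ∧ Dv (min b (a + δ)) (p.1 - p.2)}

variable {O : Subalgebra k (k⟦X⟧ × k⟦X⟧)} {δ : ℕ}

lemma diag_mem (hO : IsO O δ) (x : k⟦X⟧) : (x, x) ∈ O :=
  (hO _).2 (by show Dv δ (x - x); rw [sub_self]; exact dv_zero _)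

/-- the `O`-module `L(a, b)`. -/
def Lsub (hO : IsO O δ) (a b : ℕ) : Submodule ↥O (k⟦X⟧ × k⟦X⟧) where
  carrier := Lset δ a b
  add_mem' := fun {p p'} hp hp' => ⟨hp.1.add hp'.1, hp.2.1.add hp'.2.1, by
    have : (p + p').1 - (p + p').2 = (p.1 - p.2) + (p'.1 - p'.2) := by
      simp only [Prod.fst_add, Prod.snd_add]; ring
    rw [this]; exact hp.2.2.add hp'.2.2⟩
  zero_mem' := ⟨dv_zero _, dv_zero _, by
    simp only [Prod.fst_zero, Prod.snd_zero, sub_zero]; exact dv_zero _⟩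
  smul_mem' := fun u p hp => by
    have hu : Dv δ ((u : k⟦X⟧ × k⟦X⟧).1 - (u : k⟦X⟧ × k⟦X⟧).2) := (hO _).1 u.2
    refine ⟨hp.1.mul_left _, hp.2.1.mul_left _, ?_⟩
    have e : (u • p).1 - (u • p).2 = (u : k⟦X⟧ × k⟦X⟧).1 * (p.1 - p.2) +
        ((u : k⟦X⟧ × k⟦X⟧).1 - (u : k⟦X⟧ × k⟦X⟧).2) * p.2 := by
      change (u : k⟦X⟧ × k⟦X⟧).1 * p.1 - (u : k⟦X⟧ × k⟦X⟧).2 * p.2 = _
      ring
    rw [e]
    refine (hp.2.2.mul_left _).add ?_
    exact (hu.mul hp.2.1).mono (by omega)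

lemma mem_Lsub (hO : IsO O δ) {a b : ℕ} {p : k⟦X⟧ × k⟦X⟧} :
    p ∈ Lsub hO a b ↔ Dv a p.1 ∧ Dv a p.2 ∧ Dv (min b (a + δ)) (p.1 - p.2) := Iff.rfl

lemma Lsub_mono (hO : IsO O δ) {a a' b b' : ℕ} (h1 : a ≤ a')
    (h2 : min b (a + δ) ≤ min b' (a' + δ)) : Lsub hO a' b' ≤ Lsub hO a b :=
  fun _ hp => ⟨hp.1.mono h1, hp.2.1.mono h1, hp.2.2.mono h2⟩

theorem length_Lpsi (hO : IsO O δ) (a b : ℕ) (hab : a < b) (hb : b ≤ a + δ) :
    Module.length ↥O (relQ (Lsub hO (a + 1) b) (Lsub hO a b)) = 1 := by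
  refine length_relQ_eq_one O _ _ ((coeff a).comp (LinearMap.snd k k⟦X⟧ k⟦X⟧)) ?_
    (X ^ a, X ^ a) ?_ ?_
  · intro p hp
    have e1 : min b (a + δ) = b := by omega
    have e2 : min b (a + 1 + δ) = b := by omega
    change (Dv (a + 1) p.1 ∧ Dv (a + 1) p.2 ∧ Dv (min b (a + 1 + δ)) (p.1 - p.2)) ↔
      coeff a p.2 = 0
    obtain ⟨h1, h2, h3⟩ := hp
    rw [e1] at h3
    rw [e2]
    constructor
    · intro h; exact h.2.1 a (by omega)
    · intro h0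
      refine ⟨h1.succ ?_, h2.succ h0, h3⟩
      have : p.1 = p.2 + (p.1 - p.2) := by ring
      rw [this, map_add, h0, h3 a hab, add_zero]
  · refine ⟨dv_X_pow le_rfl, dv_X_pow le_rfl, ?_⟩
    show Dv _ ((X : k⟦X⟧) ^ a - X ^ a)
    rw [sub_self]; exact dv_zero _
  · change coeff a ((X : k⟦X⟧) ^ a) ≠ 0
    rw [coeff_X_pow_self]; exact one_ne_zero

theorem length_Lphi (hO : IsO O δ) (a b : ℕ) (hab : a ≤ b) (hb : b + 1 ≤ a + δ) :
    Module.length ↥O (relQ (Lsub hO a (b + 1)) (Lsub hO a b)) = 1 := by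
  refine length_relQ_eq_one O _ _
    ((coeff b).comp (LinearMap.fst k k⟦X⟧ k⟦X⟧ - LinearMap.snd k k⟦X⟧ k⟦X⟧)) ?_
    (X ^ b, 0) ?_ ?_
  · intro p hp
    have e1 : min b (a + δ) = b := by omega
    have e2 : min (b + 1) (a + δ) = b + 1 := by omega
    change (Dv a p.1 ∧ Dv a p.2 ∧ Dv (min (b + 1) (a + δ)) (p.1 - p.2)) ↔
      coeff b (p.1 - p.2) = 0
    obtain ⟨h1, h2, h3⟩ := hp
    rw [e1] at h3
    rw [e2]
    constructor
    · intro h; exact h.2.2 b (by omega)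
    · intro h0; exact ⟨h1, h2, h3.succ h0⟩
  · refine ⟨dv_X_pow hab, dv_zero _, ?_⟩
    show Dv _ ((X : k⟦X⟧) ^ b - 0)
    rw [sub_zero]; exact dv_X_pow (Nat.min_le_left _ _)
  · change coeff b ((X : k⟦X⟧) ^ b - 0) ≠ 0
    rw [sub_zero, coeff_X_pow_self]; exact one_ne_zero

theorem length_L_two (hO : IsO O δ) (hδ : 1 ≤ δ) (a b : ℕ) (hab : a ≤ b) (hb : b ≤ a + δ) :
    Module.length ↥O (relQ (Lsub hO (a + 1) (b + 1)) (Lsub hO a b)) = 2 := by
  rcases Nat.lt_or_ge a b with h | h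
  · rw [length_chain (Lsub hO (a + 1) (b + 1)) (Lsub hO (a + 1) b) (Lsub hO a b)
      (Lsub_mono hO le_rfl (by omega)) (Lsub_mono hO (by omega) (by omega)),
      length_Lphi hO (a + 1) b (by omega) (by omega), length_Lpsi hO a b h hb]
    norm_num
  · have : a = b := le_antisymm hab h
    subst this
    rw [length_chain (Lsub hO (a + 1) (a + 1)) (Lsub hO a (a + 1)) (Lsub hO a a)
      (Lsub_mono hO (by omega) (by omega)) (Lsub_mono hO le_rfl (by omega)),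
      length_Lpsi hO a (a + 1) (by omega) (by omega), length_Lphi hO a a le_rfl (by omega)]
    norm_num

theorem length_L (hO : IsO O δ) (hδ : 1 ≤ δ) (a b : ℕ) (hab : a ≤ b) (hb : b ≤ a + δ) (t : ℕ) :
    Module.length ↥O (relQ (Lsub hO (a + t) (b + t)) (Lsub hO a b)) = ((2 * t : ℕ) : ℕ∞) := by
  induction t with
  | zero =>
    refine (length_relQ_self_le _ _ le_rfl).trans ?_
    simp
  | succ t ih =>
    have e2 : Module.length ↥O (relQ (Lsub hO (a + (t + 1)) (b + (t + 1)))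
        (Lsub hO (a + t) (b + t))) = 2 :=
      length_L_two hO hδ (a + t) (b + t) (by omega) (by omega)
    rw [length_chain (Lsub hO (a + (t + 1)) (b + (t + 1))) (Lsub hO (a + t) (b + t))
      (Lsub hO a b) (Lsub_mono hO (by omega) (by omega)) (Lsub_mono hO (by omega) (by omega)),
      e2, ih]
    push_cast
    ring

theorem span_eq_Lsub (hO : IsO O δ) (j : ℕ) (hj : j ≤ δ) :
    Submodule.span ↥O ({((X : k⟦X⟧) ^ j, (X : k⟦X⟧) ^ j), ((X : k⟦X⟧) ^ δ, (0 : k⟦X⟧))} :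
      Set (k⟦X⟧ × k⟦X⟧)) = Lsub hO j δ := by
  apply le_antisymm
  · rw [Submodule.span_le]
    intro p hp
    rcases hp with rfl | hp
    · refine ⟨dv_X_pow le_rfl, dv_X_pow le_rfl, ?_⟩
      show Dv _ ((X : k⟦X⟧) ^ j - X ^ j)
      rw [sub_self]; exact dv_zero _
    · have hp' : p = (X ^ δ, 0) := hp
      rw [hp']
      refine ⟨dv_X_pow hj, dv_zero _, ?_⟩
      show Dv _ ((X : k⟦X⟧) ^ δ - 0)
      rw [sub_zero]; exact dv_X_pow (Nat.min_le_left _ _)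
  · intro p hp
    obtain ⟨h1, h2, h3⟩ := hp
    have e1 : min δ (j + δ) = δ := by omega
    rw [e1] at h3
    rw [Submodule.mem_span_pair]
    refine ⟨⟨_, diag_mem hO (sh j p.2)⟩, ⟨_, diag_mem hO (sh δ (p.1 - p.2))⟩, ?_⟩
    have e2 := h2.eq
    have e3 := h3.eq
    apply Prod.ext
    · change sh j p.2 * X ^ j + sh δ (p.1 - p.2) * X ^ δ = p.1
      linear_combination (-1 : k⟦X⟧) * e2 - e3
    · change sh j p.2 * X ^ j + sh δ (p.1 - p.2) * 0 = p.2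
      linear_combination (-1 : k⟦X⟧) * e2

local notation "VV" => (k⟦X⟧ × k⟦X⟧)

/-- **`Ext¹` of `I_i` into a torsion-free module `N ⊆ k⟦X⟧²`**, over the ring `O` of `A_{2δ-1}`. -/
theorem length_ext_twoBranch (hO : IsO O δ) (i : ℕ) (hi : i ≤ δ)
    {M : Type u} [AddCommGroup M] [Module ↥O M] (jM : M →ₗ[↥O] VV)
    (hjM : Function.Injective jM) (g0 g1 : M) (hg0 : jM g0 = (X ^ i, X ^ i))
    (hg1 : jM g1 = (X ^ δ, 0)) (hgen : ∀ x : M, ∃ a c : ↥O, a • g0 + c • g1 = x)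
    {N : Type u} [AddCommGroup N] [Module ↥O N] (jN : N →ₗ[↥O] VV)
    (hjN : Function.Injective jN) (C' : Submodule ↥O VV)
    (hC' : ∀ h : VV, h ∈ C' ↔ ∀ u : VV, ((X : k⟦X⟧) ^ i * u.1, (X : k⟦X⟧) ^ i * u.2) ∈ O →
      u * h ∈ LinearMap.range jN)
    {E' : Type*} [AddCommGroup E'] [Module ↥O E'] (ρ : ↥C' →ₗ[↥O] E')
    (hρs : Function.Surjective ρ)
    (hρk : ∀ h : ↥C', ρ h = 0 ↔ ∃ ν₀ ν₁ : N,
      (h : VV) = ((X : k⟦X⟧) ^ i, (X : k⟦X⟧) ^ i) * jN ν₁ + ((-X ^ δ : k⟦X⟧), (0 : k⟦X⟧)) * jN ν₀) :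
    Module.length ↥O (Abelian.Ext.{u} (ModuleCat.of ↥O M) (ModuleCat.of ↥O N) 1) =
      Module.length ↥O E' := by
  classical
  have hdiag : ∀ x : k⟦X⟧, (x, x) ∈ O := diag_mem hO
  have hXδ0 : ((-X ^ δ : k⟦X⟧), (0 : k⟦X⟧)) ∈ O := (hO _).2 (by
    show Dv δ (-X ^ δ - 0)
    rw [sub_zero]; exact (dv_X_pow le_rfl).neg)
  obtain ⟨q, hq⟩ : ∃ q : (↥O × ↥O) →ₗ[↥O] M, q = lin2 g0 g1 := ⟨_, rfl⟩
  have hjq : ∀ x : ↥O × ↥O, jM (q x) =
      (x.1 : VV) * (X ^ i, X ^ i) + (x.2 : VV) * (X ^ δ, 0) := by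
    intro x
    rw [hq, lin2_apply, map_add, map_smul, map_smul, hg0, hg1]
    rfl
  have hqs : Function.Surjective q := fun y => by
    obtain ⟨a, c, h⟩ := hgen y
    exact ⟨(a, c), by rw [hq]; exact h⟩
  have hker : ∀ x : ↥O × ↥O, x ∈ LinearMap.ker q ↔
      (x.1 : VV) * (X ^ i, X ^ i) + (x.2 : VV) * (X ^ δ, 0) = 0 := by
    intro x
    rw [LinearMap.mem_ker, ← hjq]
    constructor
    · intro h; rw [h, map_zero]
    · intro h; exact hjM (by rw [h, map_zero])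
  have hK : ∀ x : ↥O × ↥O, x ∈ LinearMap.ker q →
      (x.1 : VV).2 = 0 ∧ (x.1 : VV).1 = -(sh i (x.2 : VV).1 * X ^ δ) ∧
        Dv i (x.2 : VV).1 ∧ Dv i (x.2 : VV).2 := by
    intro x hx
    have E := (hker x).1 hx
    have E1 : (x.1 : VV).1 * X ^ i + (x.2 : VV).1 * X ^ δ = 0 := congrArg Prod.fst E
    have E2 : (x.1 : VV).2 * X ^ i + (x.2 : VV).2 * 0 = 0 := congrArg Prod.snd E
    have a2 : (x.1 : VV).2 = 0 := by
      rw [mul_zero, add_zero] at E2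
      exact (mul_eq_zero.mp E2).resolve_right (pow_ne_zero _ X_ne_zero)
    have ha : Dv δ ((x.1 : VV).1 - (x.1 : VV).2) := (hO _).1 x.1.2
    rw [a2, sub_zero] at ha
    have hc : Dv δ ((x.2 : VV).1 - (x.2 : VV).2) := (hO _).1 x.2.2
    have e1 := ha.eq
    have c1 : (x.2 : VV).1 = -(sh δ (x.1 : VV).1 * X ^ i) := by
      have h3 : X ^ δ * (x.2 : VV).1 = X ^ δ * -(sh δ (x.1 : VV).1 * X ^ i) := by
        linear_combination E1 - X ^ i * e1
      exact mul_left_cancel₀ (pow_ne_zero _ X_ne_zero) h3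
    have d1 : Dv i (x.2 : VV).1 := by
      rw [c1]
      have : -(sh δ (x.1 : VV).1 * X ^ i) = X ^ i * -(sh δ (x.1 : VV).1) := by ring
      rw [this]
      exact dv_X_pow_mul le_rfl _
    have d2 : Dv i (x.2 : VV).2 := by
      have : (x.2 : VV).2 = (x.2 : VV).1 - ((x.2 : VV).1 - (x.2 : VV).2) := by ring
      rw [this]
      exact d1.sub (hc.mono hi)
    refine ⟨a2, ?_, d1, d2⟩
    have h4 : X ^ i * (x.1 : VV).1 = X ^ i * -(sh i (x.2 : VV).1 * X ^ δ) := by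
      linear_combination E1 - X ^ δ * d1.eq
    exact mul_left_cancel₀ (pow_ne_zero _ X_ne_zero) h4
  obtain ⟨κ, hκd⟩ : ∃ κ : ↥O × ↥O,
      κ = (⟨((-X ^ δ : k⟦X⟧), (0 : k⟦X⟧)), hXδ0⟩, ⟨(X ^ i, X ^ i), hdiag _⟩) := ⟨_, rfl⟩
  have hκ : κ ∈ LinearMap.ker q := by
    rw [hker, hκd]
    apply Prod.ext
    · change -X ^ δ * X ^ i + X ^ i * X ^ δ = (0 : k⟦X⟧); ring
    · change (0 : k⟦X⟧) * X ^ i + X ^ i * 0 = (0 : k⟦X⟧); ring
  have hxuO : ∀ u : VV, ((-(X ^ δ * u.1) : k⟦X⟧), (0 : k⟦X⟧)) ∈ O := fun u => (hO _).2 (by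
    show Dv δ (-(X ^ δ * u.1) - 0)
    rw [sub_zero]; exact (dv_X_pow_mul le_rfl _).neg)
  have hxu : ∀ (u : VV) (hu : ((X : k⟦X⟧) ^ i * u.1, (X : k⟦X⟧) ^ i * u.2) ∈ O),
      ((⟨((-(X ^ δ * u.1) : k⟦X⟧), (0 : k⟦X⟧)), hxuO u⟩,
        ⟨(X ^ i * u.1, X ^ i * u.2), hu⟩) : ↥O × ↥O) ∈ LinearMap.ker q := by
    intro u hu
    rw [hker]
    apply Prod.ext
    · change -(X ^ δ * u.1) * X ^ i + X ^ i * u.1 * X ^ δ = (0 : k⟦X⟧); ring
    · change (0 : k⟦X⟧) * X ^ i + X ^ i * u.2 * 0 = (0 : k⟦X⟧); ring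
  have key : ∀ (f : ↥(LinearMap.ker q) →ₗ[↥O] N) (x : ↥(LinearMap.ker q)),
      jN (f x) = (sh i ((x.1.2 : ↥O) : VV).1, sh i ((x.1.2 : ↥O) : VV).2) * jN (f ⟨κ, hκ⟩) := by
    intro f x
    obtain ⟨a2, a1, d1, d2⟩ := hK x.1 x.2
    have hs' : (X ^ δ * sh i ((x.1.2 : ↥O) : VV).1, X ^ δ * sh i ((x.1.2 : ↥O) : VV).2) ∈ O :=
      (hO _).2 (by
        show Dv δ (X ^ δ * sh i ((x.1.2 : ↥O) : VV).1 - X ^ δ * sh i ((x.1.2 : ↥O) : VV).2)
        rw [← mul_sub]; exact dv_X_pow_mul le_rfl _)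
    have step1 : (⟨(X ^ δ, X ^ δ), hdiag _⟩ : ↥O) • x =
        (⟨_, hs'⟩ : ↥O) • (⟨κ, hκ⟩ : ↥(LinearMap.ker q)) := by
      apply Subtype.ext
      subst hκd
      apply Prod.ext
      · apply Subtype.ext
        apply Prod.ext
        · change X ^ δ * ((x.1.1 : ↥O) : VV).1 = X ^ δ * sh i ((x.1.2 : ↥O) : VV).1 * (-X ^ δ)
          rw [a1]; ring
        · change X ^ δ * ((x.1.1 : ↥O) : VV).2 = X ^ δ * sh i ((x.1.2 : ↥O) : VV).2 * 0
          rw [a2]; ring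
      · apply Subtype.ext
        apply Prod.ext
        · change X ^ δ * ((x.1.2 : ↥O) : VV).1 = X ^ δ * sh i ((x.1.2 : ↥O) : VV).1 * X ^ i
          conv_lhs => rw [d1.eq]
          ring
        · change X ^ δ * ((x.1.2 : ↥O) : VV).2 = X ^ δ * sh i ((x.1.2 : ↥O) : VV).2 * X ^ i
          conv_lhs => rw [d2.eq]
          ring
    have h3 := congrArg (fun y => jN (f y)) step1
    simp only [map_smul] at h3
    apply Prod.ext
    · have h4 := congrArg Prod.fst h3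
      change X ^ δ * (jN (f x)).1 =
        X ^ δ * sh i ((x.1.2 : ↥O) : VV).1 * (jN (f ⟨κ, hκ⟩)).1 at h4
      change (jN (f x)).1 = sh i ((x.1.2 : ↥O) : VV).1 * (jN (f ⟨κ, hκ⟩)).1
      rw [mul_assoc] at h4
      exact mul_left_cancel₀ (pow_ne_zero _ X_ne_zero) h4
    · have h4 := congrArg Prod.snd h3
      change X ^ δ * (jN (f x)).2 =
        X ^ δ * sh i ((x.1.2 : ↥O) : VV).2 * (jN (f ⟨κ, hκ⟩)).2 at h4
      change (jN (f x)).2 = sh i ((x.1.2 : ↥O) : VV).2 * (jN (f ⟨κ, hκ⟩)).2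
      rw [mul_assoc] at h4
      exact mul_left_cancel₀ (pow_ne_zero _ X_ne_zero) h4
  let Ξ₀ : (↥(LinearMap.ker q) →ₗ[↥O] N) →ₗ[↥O] ↥C' :=
    { toFun := fun f => ⟨jN (f ⟨κ, hκ⟩), (hC' _).2 fun u hu =>
        LinearMap.mem_range.mpr ⟨f ⟨_, hxu u hu⟩, by
          rw [key f ⟨_, hxu u hu⟩]
          change (sh i (X ^ i * u.1), sh i (X ^ i * u.2)) * _ = u * _
          rw [sh_X_pow_mul, sh_X_pow_mul]⟩⟩
      map_add' := fun f g => by
        apply Subtype.ext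
        show jN ((f + g) _) = jN (f _) + jN (g _)
        rw [LinearMap.add_apply, map_add]
      map_smul' := fun a f => by
        apply Subtype.ext
        show jN ((a • f) _) = a • jN (f _)
        rw [LinearMap.smul_apply, map_smul] }
  have hΞ₀ : ∀ f, ((Ξ₀ f : ↥C') : VV) = jN (f ⟨κ, hκ⟩) := fun _ => rfl
  have hΞ₀s : Function.Surjective Ξ₀ := by
    intro h
    have hsm : ∀ (a : ↥O) (x : ↥(LinearMap.ker q)),
        sh i (((a • x : ↥(LinearMap.ker q)).1.2 : ↥O) : VV).1 =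
          (a : VV).1 * sh i ((x.1.2 : ↥O) : VV).1 ∧
        sh i (((a • x : ↥(LinearMap.ker q)).1.2 : ↥O) : VV).2 =
          (a : VV).2 * sh i ((x.1.2 : ↥O) : VV).2 := by
      intro a x
      obtain ⟨_, _, d1, d2⟩ := hK x.1 x.2
      constructor
      · have e : (((a • x : ↥(LinearMap.ker q)).1.2 : ↥O) : VV).1 =
            X ^ i * ((a : VV).1 * sh i ((x.1.2 : ↥O) : VV).1) := by
          change (a : VV).1 * ((x.1.2 : ↥O) : VV).1 = _
          conv_lhs => rw [d1.eq]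
          ring
        rw [e, sh_X_pow_mul]
      · have e : (((a • x : ↥(LinearMap.ker q)).1.2 : ↥O) : VV).2 =
            X ^ i * ((a : VV).2 * sh i ((x.1.2 : ↥O) : VV).2) := by
          change (a : VV).2 * ((x.1.2 : ↥O) : VV).2 = _
          conv_lhs => rw [d2.eq]
          ring
        rw [e, sh_X_pow_mul]
    let f₀ : ↥(LinearMap.ker q) →ₗ[↥O] VV :=
      { toFun := fun x => (sh i ((x.1.2 : ↥O) : VV).1, sh i ((x.1.2 : ↥O) : VV).2) * (h : VV)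
        map_add' := fun x y => by
          beta_reduce
          rw [← add_mul]
          congr 1
        map_smul' := fun a x => by
          beta_reduce
          rw [RingHom.id_apply, (hsm a x).1, (hsm a x).2]
          apply Prod.ext
          · change (a : VV).1 * sh i ((x.1.2 : ↥O) : VV).1 * (h : VV).1 =
              (a : VV).1 * (sh i ((x.1.2 : ↥O) : VV).1 * (h : VV).1)
            ring
          · change (a : VV).2 * sh i ((x.1.2 : ↥O) : VV).2 * (h : VV).2 =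
              (a : VV).2 * (sh i ((x.1.2 : ↥O) : VV).2 * (h : VV).2)
            ring }
    have hf₀v : ∀ x, f₀ x =
        (sh i ((x.1.2 : ↥O) : VV).1, sh i ((x.1.2 : ↥O) : VV).2) * (h : VV) := fun _ => rfl
    have hf₀ : ∀ x, f₀ x ∈ LinearMap.range jN := fun x => by
      rw [hf₀v]
      obtain ⟨_, _, d1, d2⟩ := hK x.1 x.2
      apply (hC' _).1 h.2
      show (X ^ i * sh i ((x.1.2 : ↥O) : VV).1, X ^ i * sh i ((x.1.2 : ↥O) : VV).2) ∈ O
      rw [← d1.eq, ← d2.eq]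
      exact x.1.2.2
    let f : ↥(LinearMap.ker q) →ₗ[↥O] N :=
      (LinearEquiv.ofInjective jN hjN).symm.toLinearMap ∘ₗ
        f₀.codRestrict (LinearMap.range jN) hf₀
    have hjf : ∀ x, jN (f x) = f₀ x := fun x => by
      have := (LinearEquiv.ofInjective jN hjN).apply_symm_apply
        (f₀.codRestrict (LinearMap.range jN) hf₀ x)
      exact congrArg Subtype.val this
    refine ⟨f, ?_⟩
    apply Subtype.ext
    rw [hΞ₀, hjf, hf₀v]
    subst hκd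
    change (sh i ((X : k⟦X⟧) ^ i), sh i ((X : k⟦X⟧) ^ i)) * (h : VV) = _
    have e3 : sh i ((X : k⟦X⟧) ^ i) = 1 := by
      have := sh_X_pow_mul i (1 : k⟦X⟧)
      rwa [mul_one] at this
    rw [e3]
    exact one_mul _
  have hG : ∀ (ν₀ ν₁ : N), jN (lin2 ν₀ ν₁ κ) =
      ((X : k⟦X⟧) ^ i, (X : k⟦X⟧) ^ i) * jN ν₁ + ((-X ^ δ : k⟦X⟧), (0 : k⟦X⟧)) * jN ν₀ := by
    intro ν₀ ν₁
    subst hκd
    rw [lin2_apply, map_add, map_smul, map_smul, add_comm]
    rfl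
  apply length_ext_one_eq q hqs (ρ.comp Ξ₀) (hρs.comp hΞ₀s)
  intro f
  rw [LinearMap.comp_apply, hρk]
  constructor
  · rintro ⟨ν₀, ν₁, hν⟩
    refine ⟨lin2 ν₀ ν₁, fun x => ?_⟩
    apply hjN
    have e1 := key f x
    have e2 := key ((lin2 ν₀ ν₁).comp (LinearMap.ker q).subtype) x
    rw [e1]
    refine e2.trans ?_
    congr 1
    rw [← hΞ₀ f, hν]
    exact hG ν₀ ν₁
  · rintro ⟨G, hG'⟩
    refine ⟨G (1, 0), G (0, 1), ?_⟩
    rw [hΞ₀ f, ← hG' ⟨κ, hκ⟩]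
    have h2 := LinearMap.congr_fun (eq_lin2 G) κ
    exact (congrArg jN h2).trans (hG _ _)

/-- `length Ext¹_O(I_i, I_j) = 2 min(i, j)`. -/
theorem main19532 (δ : ℕ) (hδ : 1 ≤ δ) (O : Subalgebra k VV)
    (hO' : ∀ f : VV, f ∈ O ↔ (δ : ℕ∞) ≤ PowerSeries.order (f.1 - f.2))
    (i j : ℕ) (hi : i ≤ δ) (hj : j ≤ δ) :
    Module.length ↥O (Abelian.Ext.{u}
      (ModuleCat.of ↥O ↥(Submodule.span ↥O ({((X : k⟦X⟧) ^ i, (X : k⟦X⟧) ^ i),
        ((X : k⟦X⟧) ^ δ, (0 : k⟦X⟧))} : Set VV)))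
      (ModuleCat.of ↥O ↥(Submodule.span ↥O ({((X : k⟦X⟧) ^ j, (X : k⟦X⟧) ^ j),
        ((X : k⟦X⟧) ^ δ, (0 : k⟦X⟧))} : Set VV))) 1) = ((2 * min i j : ℕ) : ℕ∞) := by
  have hO : IsO O δ := fun f => (hO' f).trans (dv_order_iff δ _)
  obtain ⟨Ns, hNsd⟩ : ∃ Ns : Submodule ↥O VV, Ns = Submodule.span ↥O
      ({((X : k⟦X⟧) ^ j, (X : k⟦X⟧) ^ j), ((X : k⟦X⟧) ^ δ, (0 : k⟦X⟧))} : Set VV) := ⟨_, rfl⟩
  rw [← hNsd]
  have hNs : ∀ p : VV, p ∈ Ns ↔ Dv j p.1 ∧ Dv j p.2 ∧ Dv δ (p.1 - p.2) := by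
    intro p
    rw [hNsd, span_eq_Lsub hO j hj, mem_Lsub]
    have : min δ (j + δ) = δ := by omega
    rw [this]
  obtain ⟨Ms, hMsd⟩ : ∃ Ms : Submodule ↥O VV, Ms = Submodule.span ↥O
      ({((X : k⟦X⟧) ^ i, (X : k⟦X⟧) ^ i), ((X : k⟦X⟧) ^ δ, (0 : k⟦X⟧))} : Set VV) := ⟨_, rfl⟩
  rw [← hMsd]
  have hg0 : ((X : k⟦X⟧) ^ i, (X : k⟦X⟧) ^ i) ∈ Ms := by
    rw [hMsd]; exact Submodule.subset_span (Set.mem_insert _ _)
  have hg1 : ((X : k⟦X⟧) ^ δ, (0 : k⟦X⟧)) ∈ Ms := by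
    rw [hMsd]; exact Submodule.subset_span (Set.mem_insert_of_mem _ rfl)
  have hgen : ∀ x : ↥Ms, ∃ a c : ↥O, a • (⟨_, hg0⟩ : ↥Ms) + c • (⟨_, hg1⟩ : ↥Ms) = x := by
    intro x
    obtain ⟨x, hx⟩ := x
    have hx' : x ∈ Submodule.span ↥O
        ({((X : k⟦X⟧) ^ i, (X : k⟦X⟧) ^ i), ((X : k⟦X⟧) ^ δ, (0 : k⟦X⟧))} : Set VV) := by
      rw [← hMsd]; exact hx
    obtain ⟨a, c, h⟩ := Submodule.mem_span_pair.1 hx'
    exact ⟨a, c, Subtype.ext h⟩
  -- the modules C' and D'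
  have e_max : i + j = max i j + min i j := by omega
  have hC' : ∀ h : VV, h ∈ Lsub hO (max i j) δ ↔ ∀ u : VV,
      ((X : k⟦X⟧) ^ i * u.1, (X : k⟦X⟧) ^ i * u.2) ∈ O → u * h ∈ LinearMap.range Ns.subtype := by
    intro h
    rw [Submodule.range_subtype, mem_Lsub]
    have em : min δ (max i j + δ) = δ := by omega
    rw [em]
    constructor
    · rintro ⟨h1, h2, h3⟩ u hu
      have hu' : Dv δ (X ^ i * u.1 - X ^ i * u.2) := (hO _).1 hu
      have hu2 : Dv (δ - i) (u.1 - u.2) := by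
        apply Dv.of_X_pow_mul (e := i)
        rw [mul_sub]
        exact hu'.mono (by omega)
      rw [hNs]
      refine ⟨(h1.mono (by omega)).mul_left _, (h2.mono (by omega)).mul_left _, ?_⟩
      have e : (u * h).1 - (u * h).2 = u.1 * (h.1 - h.2) + (u.1 - u.2) * h.2 := by
        change u.1 * h.1 - u.2 * h.2 = _
        ring
      rw [e]
      refine (h3.mul_left _).add ?_
      exact (hu2.mul h2).mono (by omega)
    · intro hh
      have a1 := hh (1, 1) (by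
        show ((X : k⟦X⟧) ^ i * 1, (X : k⟦X⟧) ^ i * 1) ∈ O
        exact diag_mem hO _)
      rw [show (((1 : k⟦X⟧), (1 : k⟦X⟧)) : VV) = (1 : VV) from rfl, one_mul, hNs] at a1
      have a2 := hh (X ^ (δ - i), 0) (by
        show ((X : k⟦X⟧) ^ i * X ^ (δ - i), (X : k⟦X⟧) ^ i * 0) ∈ O
        rw [(hO _)]
        show Dv δ ((X : k⟦X⟧) ^ i * X ^ (δ - i) - X ^ i * 0)
        rw [mul_zero, sub_zero, ← pow_add]
        exact dv_X_pow (by omega))
      rw [hNs] at a2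
      have b1 : Dv i h.1 := by
        apply Dv.of_X_pow_mul (e := δ - i)
        have := a2.2.2
        change Dv δ (X ^ (δ - i) * h.1 - 0 * h.2) at this
        rw [zero_mul, sub_zero] at this
        exact this.mono (by omega)
      have b2 : Dv i h.2 := by
        have : h.2 = h.1 - (h.1 - h.2) := by ring
        rw [this]
        exact b1.sub (a1.2.2.mono hi)
      refine ⟨?_, ?_, a1.2.2⟩
      · rcases le_total i j with hij | hij
        · rw [max_eq_right hij]; exact a1.1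
        · rw [max_eq_left hij]; exact b1
      · rcases le_total i j with hij | hij
        · rw [max_eq_right hij]; exact a1.2.1
        · rw [max_eq_left hij]; exact b2
  obtain ⟨C', hC'd⟩ : ∃ C' : Submodule ↥O VV, C' = Lsub hO (max i j) δ := ⟨_, rfl⟩
  obtain ⟨D', hD'd⟩ : ∃ D' : Submodule ↥O VV,
      D' = Lsub hO (max i j + min i j) (δ + min i j) := ⟨_, rfl⟩
  let ρ : ↥C' →ₗ[↥O] relQ D' C' :=
    { toFun := fun h => Submodule.Quotient.mk h
      map_add' := fun _ _ => rfl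
      map_smul' := fun _ _ => rfl }
  have hρs : Function.Surjective ρ := fun y => Submodule.Quotient.mk_surjective _ y
  have hρk : ∀ h : ↥C', ρ h = 0 ↔ ∃ ν₀ ν₁ : ↥Ns,
      (h : VV) = ((X : k⟦X⟧) ^ i, (X : k⟦X⟧) ^ i) * Ns.subtype ν₁ +
        ((-X ^ δ : k⟦X⟧), (0 : k⟦X⟧)) * Ns.subtype ν₀ := by
    intro h
    have e0 : ρ h = 0 ↔ (h : VV) ∈ D' := by
      change Submodule.Quotient.mk h = 0 ↔ _
      rw [Submodule.Quotient.mk_eq_zero]
      rfl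
    rw [e0, hD'd, mem_Lsub]
    have em : min (δ + min i j) (max i j + min i j + δ) = δ + min i j := by omega
    rw [em, ← e_max]
    constructor
    · rintro ⟨h1, h2, h3⟩
      rcases le_total i j with hij | hij
      · -- min = i
        rw [min_eq_left hij] at h3
        have m1 : Dv j (sh i (h : VV).1) := Dv.sh (by rw [add_comm]; exact h1)
        have m2 : Dv j (sh i (h : VV).2) := Dv.sh (by rw [add_comm]; exact h2)
        have m3 : Dv δ (sh i (h : VV).1 - sh i (h : VV).2) := by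
          rw [← map_sub]; exact Dv.sh h3
        refine ⟨0, ⟨(sh i (h : VV).1, sh i (h : VV).2), (hNs _).2 ⟨m1, m2, m3⟩⟩, ?_⟩
        rw [map_zero, mul_zero, add_zero]
        apply Prod.ext
        · change (h : VV).1 = X ^ i * sh i (h : VV).1
          exact (h1.mono (by omega)).eq
        · change (h : VV).2 = X ^ i * sh i (h : VV).2
          exact (h2.mono (by omega)).eq
      · -- min = j
        rw [min_eq_right hij] at h3
        have m2 : Dv j (sh i (h : VV).2) := Dv.sh (by rw [add_comm]; exact h2)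
        have m0 : Dv j (sh δ ((h : VV).1 - (h : VV).2)) := Dv.sh (by rw [add_comm]; exact h3)
        refine ⟨⟨(-sh δ ((h : VV).1 - (h : VV).2), -sh δ ((h : VV).1 - (h : VV).2)),
          (hNs _).2 ⟨m0.neg, m0.neg, by show Dv δ (_ - _); rw [sub_self]; exact dv_zero _⟩⟩,
          ⟨(sh i (h : VV).2, sh i (h : VV).2),
          (hNs _).2 ⟨m2, m2, by show Dv δ (_ - _); rw [sub_self]; exact dv_zero _⟩⟩, ?_⟩
        have e2 := (h2.mono (Nat.le_add_right i j)).eq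
        have e3 := (h3.mono (Nat.le_add_right δ j)).eq
        apply Prod.ext
        · change (h : VV).1 = X ^ i * sh i (h : VV).2 +
            -X ^ δ * -sh δ ((h : VV).1 - (h : VV).2)
          linear_combination e2 + e3
        · change (h : VV).2 = X ^ i * sh i (h : VV).2 +
            0 * -sh δ ((h : VV).1 - (h : VV).2)
          linear_combination e2
    · rintro ⟨ν₀, ν₁, hν⟩
      obtain ⟨p1, p2, p3⟩ := (hNs _).1 ν₁.2
      obtain ⟨r1, r2, r3⟩ := (hNs _).1 ν₀.2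
      rw [hν]
      refine ⟨?_, ?_, ?_⟩
      · change Dv (i + j) (X ^ i * (ν₁ : VV).1 + -X ^ δ * (ν₀ : VV).1)
        refine ((dv_X_pow le_rfl).mul p1).add ?_
        exact (((dv_X_pow le_rfl).neg.mul r1).mono (by omega))
      · change Dv (i + j) (X ^ i * (ν₁ : VV).2 + 0 * (ν₀ : VV).2)
        rw [zero_mul, add_zero]
        exact (dv_X_pow le_rfl).mul p2
      · change Dv (δ + min i j) ((X ^ i * (ν₁ : VV).1 + -X ^ δ * (ν₀ : VV).1) -
          (X ^ i * (ν₁ : VV).2 + 0 * (ν₀ : VV).2))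
        have e : (X ^ i * (ν₁ : VV).1 + -X ^ δ * (ν₀ : VV).1) -
            (X ^ i * (ν₁ : VV).2 + 0 * (ν₀ : VV).2) =
            X ^ i * ((ν₁ : VV).1 - (ν₁ : VV).2) + -X ^ δ * (ν₀ : VV).1 := by ring
        rw [e]
        refine (((dv_X_pow le_rfl).mul p3).mono (by omega)).add ?_
        exact (((dv_X_pow le_rfl).neg.mul r1).mono (by omega))
  have key := length_ext_twoBranch hO i hi (M := ↥Ms) Ms.subtype Ms.injective_subtype
    ⟨_, hg0⟩ ⟨_, hg1⟩ rfl rfl hgen (N := ↥Ns) Ns.subtype Ns.injective_subtype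
  have h1 := key C' (by rw [hC'd]; exact hC') ρ hρs hρk
  rw [h1, hC'd, hD'd]
  exact length_L hO hδ (max i j) δ (by omega) (by omega) (min i j)

end TwoBranch

end

end Groth.Agent.Lib.TFExtH1
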