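import Mathlib
import Groth.Prelude
import Groth.Agent.Lib.FinSurj1_helper8
import Groth.Agent.Lib.ProjAff2_helper8
import Groth.Agent.Lib.FCompl1_helper8
import Groth.Agent.Lib.QCohPb_helper9
import Groth.Agent.Lib.QCAlgMod_helper9
import Groth.Agent.Lib.LimModDict_helper2
import Groth.Agent.Lib.QCohFT_helper9
import Groth.Agent.Lib.QCohExact_helper9
import Groth.Agent.Lib.CechShQC_helper9
import Groth.Agent.Lib.CohOpen2_helper8
import Groth.Agent.Lib.SubExt_helper9
import Groth.Agent.Lib.QCohLoc_helper4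

/-!
# Coherent modules as quotients of torsion-free coherent modules (helper8)
APPEND-ONLY once landed.
-/

set_option autoImplicit false

namespace Groth.Agent.Lib.TFQuotH8

open AlgebraicGeometry CategoryTheory CategoryTheory.Limits TopologicalSpace Opposite
open QcqsLoc QCohExtn SerreCrit FLFH8 SDivGenH8 Groth.Agent.Lib.SubIdGenH8 Groth.Agent.Lib.FinSurjH8

universe u
variable {Y : Scheme.{u}} {ι : Type} [Fintype ι] (U : ι → Y.Opens) (F : Y.Modules)

/-- the restriction of `F` to `U i` -/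
noncomputable def RF (i : ι) : (U i : Scheme.{u}).Modules :=
  (Scheme.Modules.restrictFunctor (U i).ι).obj F

/-- `j_* j^* F` -/
noncomputable def HU (i : ι) : Y.Modules := (Scheme.Modules.pushforward (U i).ι).obj (RF U F i)

/-- the unit `F ⟶ j_* j^* F` -/
noncomputable def ηU (i : ι) : F ⟶ HU U F i :=
  (Scheme.Modules.restrictAdjunction (U i).ι).unit.app F

/-- sections of `j_* j^* F` as sections of `F` -/
def hfn {i : ι} {W : Y.Opens} (s : Γ(HU U F i, W)) : Γ(F, wo (U i) W) := s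

theorem hfn_ηU (i : ι) (W : Y.Opens) (s : Γ(F, W)) :
    hfn U F (ap (ηU U F i) W s) = rF F (wo_le (U i) W) s := rfl

/-- all the units together -/
noncomputable def ηAll : F ⟶ ⨁ (HU U F) := biproduct.lift (ηU U F)

theorem mono_ηAll (hcov : ⨆ i, U i = ⊤) : Mono (ηAll U F) := by
  apply FComplH8.mono_of_app_injective
  intro W
  rw [injective_iff_map_eq_zero]
  intro s hs
  have h1 : ∀ i, ap (ηU U F i) W s = 0 := by
    intro i
    have h2 : ηAll U F ≫ biproduct.π _ i = ηU U F i := biproduct.lift_π _ _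
    rw [← h2]
    show ap (biproduct.π (HU U F) i) W (ap (ηAll U F) W s) = 0
    rw [hs, map_zero]
  apply eq_zero_of_cover F s
  intro x hx
  have hx' : x ∈ ⨆ i, U i := by rw [hcov]; trivial
  obtain ⟨i, hi⟩ := Opens.mem_iSup.mp hx'
  refine ⟨wo (U i) W, wo_le (U i) W, ⟨⟨x, hi⟩, hx, rfl⟩, ?_⟩
  have h3 := congrArg (hfn U F) (h1 i)
  rw [hfn_ηU] at h3
  exact h3

section Pull

theorem isAffineHom_ι (hd : ∀ V W : Y.Opens, IsAffineOpen V → IsAffineOpen W → IsAffineOpen (V ⊓ W))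
    (V : Y.Opens) (hV : IsAffineOpen V) : IsAffineHom V.ι := by
  refine ⟨fun W hW => ?_⟩
  rw [← V.ι.isAffineOpen_iff_of_isOpenImmersion, Scheme.Hom.image_preimage_eq_opensRange_inf,
    Scheme.Opens.opensRange_ι]
  exact hd V W hV hW

variable (n : ι → ℕ) (e : ∀ i, FlatMod.freeMod (U i : Scheme.{u}) (n i) ⟶ RF U F i)

/-- `j_* O^n` -/
noncomputable def GU (i : ι) : Y.Modules :=
  (Scheme.Modules.pushforward (U i).ι).obj (FlatMod.freeMod (U i : Scheme.{u}) (n i))

noncomputable def qU (i : ι) : GU U n i ⟶ HU U F i := (Scheme.Modules.pushforward (U i).ι).map (e i)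

noncomputable def qAll : (⨁ (GU U n)) ⟶ ⨁ (HU U F) := biproduct.map (qU U F n e)

/-- the fibre product -/
noncomputable def PP : Y.Modules := pullback (ηAll U F) (qAll U F n e)

noncomputable def πP : PP U F n e ⟶ F := pullback.fst _ _

noncomputable def σP : PP U F n e ⟶ ⨁ (GU U n) := pullback.snd _ _

variable [F.IsQuasicoherent]

instance isQuasicoherent_RF (i : ι) : (RF U F i).IsQuasicoherent := by
  unfold RF
  infer_instance

theorem epi_qU (hd : ∀ V W : Y.Opens, IsAffineOpen V → IsAffineOpen W → IsAffineOpen (V ⊓ W))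
    (hUaff : ∀ i, IsAffineOpen (U i)) [∀ i, Epi (e i)] (i : ι) : Epi (qU U F n e i) := by
  haveI := isAffineHom_ι hd (U i) (hUaff i)
  haveI := SDivGenH8.isQuasicoherent_freeMod (Y := (U i : Scheme.{u})) (n i)
  exact ProjAffH8.epi_pushforward_map (U i).ι (e i)

theorem epi_πP (hd : ∀ V W : Y.Opens, IsAffineOpen V → IsAffineOpen W → IsAffineOpen (V ⊓ W))
    (hUaff : ∀ i, IsAffineOpen (U i)) [∀ i, Epi (e i)] : Epi (πP U F n e) := by
  haveI : ∀ i, Epi (qU U F n e i) := epi_qU U F n e hd hUaff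
  haveI : Epi (qAll U F n e) := by unfold qAll; infer_instance
  exact Abelian.epi_pullback_of_epi_g _ _

theorem mono_σP (hcov : ⨆ i, U i = ⊤) : Mono (σP U F n e) := by
  haveI := mono_ηAll U F hcov
  exact inferInstanceAs (Mono (pullback.snd (ηAll U F) (qAll U F n e)))

end Pull

section FtSub

theorem exists_finite_affine_cover (Y : Scheme.{u}) [CompactSpace Y] :
    ∃ Tf : Finset Y.affineOpens, ∀ y : Y, ∃ V ∈ Tf, y ∈ V.1 := by
  have key : ∀ y : Y, ∃ V : Y.affineOpens, y ∈ V.1 := fun y => by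
    obtain ⟨_, ⟨V, hV, rfl⟩, hyV, -⟩ := Y.isBasis_affineOpens.exists_subset_of_mem_open
      (Set.mem_univ y) isOpen_univ
    exact ⟨⟨V, hV⟩, hyV⟩
  choose V hV using key
  obtain ⟨Tf, hTf⟩ := isCompact_univ.elim_finite_subcover
    (fun V : Y.affineOpens => ((V.1 : Y.Opens) : Set Y)) (fun V => V.1.isOpen)
    (fun y _ => Set.mem_iUnion.mpr ⟨V y, hV y⟩)
  refine ⟨Tf, fun y => ?_⟩
  obtain ⟨V', hV'T, hyV'⟩ := Set.mem_iUnion₂.mp (hTf (Set.mem_univ y))
  exact ⟨V', hV'T, hyV'⟩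

/-- a quasi-coherent module mapping onto a finite type quasi-coherent module on a qcqs scheme
contains a finite type quasi-coherent submodule still mapping onto it. -/
theorem exists_ft_sub_epi' [CompactSpace Y] [QuasiSeparatedSpace Y] (P F : Y.Modules)
    [P.IsQuasicoherent] [F.IsQuasicoherent] [SheafOfModules.IsFiniteType (R := Y.ringCatSheaf) F]
    (p : P ⟶ F) [Epi p] :
    ∃ (P' : Y.Modules) (i : P' ⟶ P), Mono i ∧ P'.IsQuasicoherent ∧
      SheafOfModules.IsFiniteType (R := Y.ringCatSheaf) P' ∧ Epi (i ≫ p) := by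
  classical
  obtain ⟨Tf, hTf⟩ := exists_finite_affine_cover Y
  have hT : ∀ V : Y.affineOpens, ∃ T : Finset Γ(P, V.1),
      Submodule.span Γ(Y, V.1) ((fun t => ap p V.1 t) '' (T : Set Γ(P, V.1))) = ⊤ := by
    intro V
    haveI := QCohFT.finite_of_isFiniteType F V.2
    obtain ⟨S, hS⟩ := (Module.Finite.fg_top : (⊤ : Submodule Γ(Y, V.1) Γ(F, V.1)).FG)
    have hsurj := QCohExact.app_surjective_of_epi p V.2
    choose lift hlift using hsurj
    refine ⟨S.image lift, ?_⟩
    rw [Finset.coe_image, Set.image_image]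
    have h1 : (fun t => ap p V.1 (lift t)) = id := funext hlift
    rw [h1, Set.image_id]
    exact hS
  choose T hT using hT
  let L : List (Σ V : Y.affineOpens, Γ(P, (V : Y.Opens))) :=
    Tf.toList.flatMap (fun V => (T V).toList.map (fun t => ⟨V, t⟩))
  obtain ⟨G, i, hi, hG, hft, hL⟩ := QCAlgMod.exists_ft_sub_family P L
  refine ⟨G, i, hi, hG, hft, ?_⟩
  apply Groth.Agent.Lib.LimMod.epi_of_affine_cover
  intro x
  obtain ⟨V, hVT, hxV⟩ := hTf x
  refine ⟨V.1, V.2, hxV, ?_⟩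
  -- the range of `(i ≫ p).app V` is a submodule containing the generators
  intro m
  have hm : m ∈ Submodule.span Γ(Y, V.1) ((fun t => ap p V.1 t) '' (T V : Set Γ(P, V.1))) := by
    rw [hT V]; trivial
  refine Submodule.span_induction (p := fun m _ => ∃ z : Γ(G, V.1), ap (i ≫ p) V.1 z = m)
    ?_ ?_ ?_ ?_ hm
  · rintro _ ⟨t, ht, rfl⟩
    have hmem : (⟨V, t⟩ : Σ V : Y.affineOpens, Γ(P, (V : Y.Opens))) ∈ L := by
      rw [List.mem_flatMap]
      exact ⟨V, Finset.mem_toList.mpr hVT, List.mem_map.mpr ⟨t, Finset.mem_toList.mpr ht, rfl⟩⟩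
    obtain ⟨g, hg⟩ := hL _ hmem
    refine ⟨g, ?_⟩
    show ap p V.1 (ap i V.1 g) = ap p V.1 t
    rw [hg]
  · exact ⟨0, map_zero _⟩
  · rintro a b _ _ ⟨za, hza⟩ ⟨zb, hzb⟩
    exact ⟨za + zb, by rw [map_add, hza, hzb]⟩
  · rintro c a _ ⟨za, hza⟩
    exact ⟨c • za, by rw [ap_smul, hza]⟩

end FtSub

section TorsionFree

variable {U}

theorem ap_finset_sum {M N : Y.Modules} {κ : Type} (s : Finset κ) (φ : κ → (M ⟶ N)) (W : Y.Opens)
    (e : Γ(M, W)) : ap (∑ j ∈ s, φ j) W e = ∑ j ∈ s, ap (φ j) W e := by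
  classical
  induction s using Finset.induction_on with
  | empty => simp only [Finset.sum_empty]; rfl
  | insert a s ha ih =>
    rw [Finset.sum_insert ha, Finset.sum_insert ha, ← ih]
    rfl

/-- sections of `j_* O^n` over `W` are torsion-free -/
theorem tf_GU [IsIntegral Y] (n : ι → ℕ) (i : ι) (W : Y.Opens)
    (hne : ((wo (U i) W : Y.Opens) : Set Y).Nonempty)
    (c : Γ(Y, W)) (hc : c ≠ 0) (t : Γ(GU U n i, W)) (ht : c • t = 0) : t = 0 := by
  classical
  let O : (U i : Scheme.{u}).Opens := (U i).ι ⁻¹ᵁ W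
  let c' : Γ((U i : Scheme.{u}), O) := ((U i).ι.app W).hom c
  let t' : Γ(FlatMod.freeMod (U i : Scheme.{u}) (n i), O) := t
  have ht' : c' • t' = 0 := ht
  haveI hne' : Nonempty ↥(wo (U i) W) := ⟨⟨hne.some, hne.some_mem⟩⟩
  haveI : IsDomain Γ((U i : Scheme.{u}), O) :=
    @IsIntegral.component_integral Y _ (wo (U i) W) hne'
  have hc' : c' ≠ 0 := by
    intro h0
    apply hc
    have hinj := map_injective_of_isIntegral Y (homOfLE (wo_le (U i) W)) (H := hne')
    apply hinj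
    rw [map_zero]
    exact h0
  have hsum := section_eq_sum_stdSec (Y := (U i : Scheme.{u})) (n i) O t'
  rw [hsum, Finset.smul_sum] at ht'
  have h1 : ∑ k, (c' * ofM ((SDivFreeH8.projM k).app O t')) • stdSec (n i) O k = 0 := by
    rw [← ht']
    apply Finset.sum_congr rfl
    intro k _
    rw [mul_smul]
  have h2 := Fintype.linearIndependent_iff.mp (stdSec_li (Y := (U i : Scheme.{u})) (n i) O) _ h1
  show t' = 0
  rw [hsum]
  apply Finset.sum_eq_zero
  intro k _
  have h3 := h2 k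
  rcases mul_eq_zero.mp h3 with h4 | h4
  · exact absurd h4 hc'
  · rw [h4, zero_smul]

theorem tf_sections [IsIntegral Y] (n : ι → ℕ) (hUne : ∀ i, ((U i : Y.Opens) : Set Y).Nonempty)
    {P' : Y.Modules} (k : P' ⟶ ⨁ (GU U n)) [Mono k] (W : Y.Opens)
    (c : Γ(Y, W)) (hc : c ≠ 0) (s : Γ(P', W)) (hs : c • s = 0) : s = 0 := by
  classical
  have hWne : ((W : Y.Opens) : Set Y).Nonempty := by
    by_contra hW
    apply hc
    have hbot : W = ⊥ := by
      ext x
      simp only [Opens.coe_bot, Set.mem_empty_iff_false, iff_false]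
      intro hx
      exact hW ⟨x, hx⟩
    subst hbot
    exact Subsingleton.elim _ _
  apply QCohExact.app_injective_of_mono k W
  rw [map_zero]
  set s' := ap k W s with hs'
  have hcs' : c • s' = 0 := by rw [hs', ← ap_smul, hs, map_zero]
  have hcomp : ∀ i, ap (biproduct.π (GU U n) i) W s' = 0 := by
    intro i
    have hne : ((wo (U i) W : Y.Opens) : Set Y).Nonempty := by
      obtain ⟨x, -, hx1, hx2⟩ := (PreirreducibleSpace.isPreirreducible_univ (X := Y)) (U i : Set Y) W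
        (U i).isOpen W.isOpen (by simpa using hUne i) (by simpa using hWne)
      exact ⟨x, ⟨⟨x, hx1⟩, hx2, rfl⟩⟩
    apply tf_GU n i W hne c hc
    rw [← ap_smul, hcs', map_zero]
  have htot : s' = ap (∑ j, biproduct.π (GU U n) j ≫ biproduct.ι (GU U n) j) W s' := by
    rw [biproduct.total]
    rfl
  show s' = 0
  rw [htot, ap_finset_sum]
  apply Finset.sum_eq_zero
  intro j _
  show ap (biproduct.ι (GU U n) j) W (ap (biproduct.π (GU U n) j) W s') = 0
  rw [hcomp j, map_zero]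

end TorsionFree

section Main

theorem isQuasicoherent_biproduct' {J : Type} [Fintype J] (f : J → Y.Modules)
    (h : ∀ j, (f j).IsQuasicoherent) : (⨁ f).IsQuasicoherent := by
  obtain ⟨n, ⟨ε⟩⟩ := Finite.exists_equiv_fin J
  have h1 := CechShQC.isQuasicoherent_pi_fin n (f ∘ ε.symm) (fun k => h _)
  exact CechShQC.qc_of_iso (biproduct.isoProduct f ≪≫ (Pi.reindex ε.symm f).symm) h1

theorem exists_epi_freeMod_affine {Z : Scheme.{u}} [IsAffine Z] (G : Z.Modules)
    [G.IsQuasicoherent] [SheafOfModules.IsFiniteType (R := Z.ringCatSheaf) G] :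
    ∃ (n : ℕ) (p : FlatMod.freeMod Z n ⟶ G), Epi p := by
  haveI := QCohFT.finite_of_isFiniteType G (isAffineOpen_top Z)
  obtain ⟨n, t, ht⟩ := Module.Finite.exists_fin (R := Γ(Z, ⊤)) (M := Γ(G, ⊤))
  refine ⟨n, freeHom G t, ?_⟩
  apply Groth.Agent.Lib.LimMod.epi_of_affine_cover
  intro x
  refine ⟨⊤, isAffineOpen_top Z, trivial, ?_⟩
  intro m
  have hm : m ∈ Submodule.span Γ(Z, ⊤) (Set.range t) := by rw [ht]; trivial
  obtain ⟨c, hc⟩ := (Submodule.mem_span_range_iff_exists_fun _).mp hm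
  refine ⟨∑ i, c i • stdSec n ⊤ i, ?_⟩
  show ap (freeHom G t) ⊤ _ = m
  rw [map_sum, ← hc]
  apply Finset.sum_congr rfl
  intro i _
  rw [freeHom_app_smul_stdSec]
  congr 1
  exact SubExt.rF_self G _ _

theorem noZeroSMulDivisors_stalk {F' : Y.Modules}
    (htf : ∀ (W : Y.Opens) (c : Γ(Y, W)), c ≠ 0 → ∀ s : Γ(F', W), c • s = 0 → s = 0) (y : Y) :
    NoZeroSMulDivisors ↥(Y.presheaf.stalk y) ↥(F'.presheaf.stalk y) := by
  refine ⟨fun {a z} haz => ?_⟩
  obtain ⟨W₁, hy₁, c₁, rfl⟩ := TopCat.Presheaf.exists_germ_eq Y.presheaf (x := y) a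
  obtain ⟨W₂, hy₂, s₂, rfl⟩ := TopCat.Presheaf.exists_germ_eq F'.presheaf (x := y) z
  let W : Y.Opens := W₁ ⊓ W₂
  have hy : y ∈ W := ⟨hy₁, hy₂⟩
  let c : Γ(Y, W) := rX (inf_le_left : W ≤ W₁) c₁
  let s : Γ(F', W) := rF F' (inf_le_right : W ≤ W₂) s₂
  have hc : Y.presheaf.germ W y hy c = Y.presheaf.germ W₁ y hy₁ c₁ :=
    TopCat.Presheaf.germ_res_apply Y.presheaf (homOfLE (inf_le_left : W ≤ W₁)) y hy c₁
  have hs : F'.presheaf.germ W y hy s = F'.presheaf.germ W₂ y hy₂ s₂ :=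
    TopCat.Presheaf.germ_res_apply F'.presheaf (homOfLE (inf_le_right : W ≤ W₂)) y hy s₂
  rw [← hc, ← hs] at haz ⊢
  rw [← Groth.Agent.Lib.QCohLoc_helper4.germ_smul] at haz
  have haz' : F'.presheaf.germ W y hy (c • s) = F'.presheaf.germ W y hy 0 :=
    haz.trans (map_zero _).symm
  obtain ⟨W', hy', i₁, i₂, he⟩ := TopCat.Presheaf.germ_eq F'.presheaf y hy hy _ _ haz'
  have hle : W' ≤ W := leOfHom i₁
  have he' : rF F' hle (c • s) = 0 := by
    have h1 : rF F' hle (c • s) = (F'.presheaf.map i₁.op).hom (c • s) := rfl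
    rw [h1, he]
    exact map_zero _
  rw [rF_smul] at he'
  by_cases h0 : rX hle c = 0
  · left
    have h2 := TopCat.Presheaf.germ_res_apply Y.presheaf (homOfLE hle) y hy' c
    rw [← h2]
    have h3 : (Y.presheaf.map (homOfLE hle).op).hom c = 0 := h0
    rw [h3, map_zero]
  · right
    have h4 := htf W' (rX hle c) h0 (rF F' hle s) he'
    have h2 := TopCat.Presheaf.germ_res_apply F'.presheaf (homOfLE hle) y hy' s
    rw [← h2]
    have h3 : (F'.presheaf.map (homOfLE hle).op).hom s = 0 := h4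
    rw [h3, map_zero]

end Main

section Final

theorem main14989 (Y : Scheme.{u}) [IsNoetherian Y] [IsIntegral Y]
    (hd : ∀ V W : Y.Opens, IsAffineOpen V → IsAffineOpen W → IsAffineOpen (V ⊓ W))
    (F : Y.Modules) (hF : Coh.IsCoh F) :
    ∃ (F' : Y.Modules) (π : F' ⟶ F), Coh.IsCoh F' ∧
      (∀ y : Y, NoZeroSMulDivisors ↥(Y.presheaf.stalk y) ↥(F'.presheaf.stalk y)) ∧ Epi π := by
  classical
  haveI := hF.1
  haveI := hF.2
  obtain ⟨Tf, hTf⟩ := exists_finite_affine_cover Y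
  let Tf' : Finset Y.affineOpens := Tf.filter (fun V => ((V.1 : Y.Opens) : Set Y).Nonempty)
  let U : Fin Tf'.card → Y.Opens := fun k => (Tf'.equivFin.symm k).1.1
  have hUaff : ∀ k, IsAffineOpen (U k) := fun k => (Tf'.equivFin.symm k).1.2
  have hUne : ∀ k, ((U k : Y.Opens) : Set Y).Nonempty := fun k =>
    (Finset.mem_filter.mp (Tf'.equivFin.symm k).2).2
  have hcov : ⨆ k, U k = ⊤ := by
    rw [eq_top_iff]
    intro y _
    obtain ⟨V, hVT, hyV⟩ := hTf y
    have hV' : V ∈ Tf' := Finset.mem_filter.mpr ⟨hVT, ⟨y, hyV⟩⟩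
    refine Opens.mem_iSup.mpr ⟨Tf'.equivFin ⟨V, hV'⟩, ?_⟩
    show y ∈ (Tf'.equivFin.symm (Tf'.equivFin ⟨V, hV'⟩)).1.1
    rw [Equiv.symm_apply_apply]
    exact hyV
  -- free presentations on the affine pieces
  have hex : ∀ k, ∃ (n : ℕ) (e : FlatMod.freeMod (U k : Scheme.{u}) n ⟶ RF U F k), Epi e := by
    intro k
    haveI : IsAffine (U k : Scheme.{u}) := hUaff k
    haveI : SheafOfModules.IsFiniteType (R := (U k : Scheme.{u}).ringCatSheaf) (RF U F k) :=
      CohOpenH8.isFiniteType_restrict (U k).ι F hF.2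
    exact exists_epi_freeMod_affine (RF U F k)
  choose n e he using hex
  haveI : ∀ k, Epi (e k) := he
  -- quasi-coherence
  haveI hH : ∀ k, (HU U F k).IsQuasicoherent := fun k => by
    haveI : QuasiCompact (U k).ι := inferInstance
    exact isQuasicoherent_pushforward_qcqs (U k).ι (RF U F k)
  haveI hG : ∀ k, (GU U n k).IsQuasicoherent := fun k => by
    haveI : QuasiCompact (U k).ι := inferInstance
    haveI := SDivGenH8.isQuasicoherent_freeMod (Y := (U k : Scheme.{u})) (n k)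
    exact isQuasicoherent_pushforward_qcqs (U k).ι (FlatMod.freeMod (U k : Scheme.{u}) (n k))
  haveI hP : (PP U F n e).IsQuasicoherent :=
    QCohPb.isQuasicoherent_pullback (ηAll U F) (qAll U F n e) inferInstance
      (isQuasicoherent_biproduct' _ hG) (isQuasicoherent_biproduct' _ hH)
  haveI := epi_πP U F n e hd hUaff
  obtain ⟨P', i, hi, hP', hft, hepi⟩ := exists_ft_sub_epi' (PP U F n e) F (πP U F n e)
  haveI := hi
  haveI := mono_σP U F n e hcov
  haveI : Mono (i ≫ σP U F n e) := mono_comp _ _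
  refine ⟨P', i ≫ πP U F n e, ⟨hP', hft⟩, ?_, hepi⟩
  intro y
  apply noZeroSMulDivisors_stalk
  intro W c hc s hs
  exact tf_sections n hUne (i ≫ σP U F n e) W c hc s hs

end Final

end Groth.Agent.Lib.TFQuotH8
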