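import Mathlib
import Groth.Prelude.Def_ega3
import Groth.Agent.Lib.TFunUC_helper5
import Groth.Agent.Lib.TFunEW2_helper7

/-!
# Generic exactness of the functors `T_p` over a domain (helper5)
-/

set_option autoImplicit false

open CategoryTheory CategoryTheory.Limits TensorProduct

universe u

namespace Groth.Agent.TFunGen5

theorem s4486 {A : Type u} [CommRing A] [IsDomain A]
    (P : ChainComplex (ModuleCat.{u} A) ℤ) (hP : ∀ i, Module.Flat A (P.X i)) (i₀ : ℤ)
    (hb : ∀ i < i₀, IsZero (P.X i))
    (hfp : ∀ n : ℤ, Module.FinitePresentation A (CohIII.T P n (ModuleCat.of A A))) (N : ℤ) :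
    ∃ f : A, f ≠ 0 ∧ ∀ p ≤ N,
      (CohIII.TFun (CohIII.bcCx (algebraMap A (Localization.Away f)) P) p).PreservesMonomorphisms ∧
        (CohIII.TFun (CohIII.bcCx (algebraMap A (Localization.Away f)) P) p).PreservesEpimorphisms := by
  have hfpH : ∀ n, Module.FinitePresentation A (P.homology n) := fun n =>
    haveI : Module.FinitePresentation A ↑((CohIII.TFun P n).obj (ModuleCat.of A A)) := hfp n
    Module.FinitePresentation.of_equiv (TFunPi5.homologyEquivTA P n).symm
  let U : Set (PrimeSpectrum A) := ⋂ q ∈ Finset.Icc i₀ N, Module.freeLocus A (P.homology q)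
  have hUo : IsOpen U := isOpen_biInter_finset (fun q _ => by
    haveI := hfpH q
    exact Module.isOpen_freeLocus)
  have hUm : (⟨⊥, Ideal.isPrime_bot⟩ : PrimeSpectrum A) ∈ U := by
    simp only [U, Set.mem_iInter]
    intro q _
    exact TFunBC5.generic_mem_freeLocus _
  obtain ⟨_, ⟨f, rfl⟩, hmem, hsub⟩ :=
    PrimeSpectrum.isTopologicalBasis_basic_opens.exists_subset_of_mem_open hUm hUo
  have hf : f ≠ 0 := by
    intro h0
    rw [h0] at hmem
    simp at hmem
  refine ⟨f, hf, ?_⟩
  have hPf := TFunBC5.flat_bc_X (B := Localization.Away f) P hP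
  have hbf : ∀ i < i₀, IsZero ((CohIII.bcCx (algebraMap A (Localization.Away f)) P).X i) :=
    fun i hi => Functor.map_isZero (ModuleCat.extendScalars (algebraMap A (Localization.Away f)))
      (hb i hi)
  rw [Groth.Agent.Lib.TFunEWH7.s2446 _ hPf i₀ hbf N]
  intro q hq
  have hflatH : Module.Flat (Localization.Away f) (Localization.Away f ⊗[A] (P.homology q)) := by
    by_cases hqi : q < i₀
    · haveI : Subsingleton (P.homology q) :=
        ModuleCat.subsingleton_of_isZero (ShortComplex.isZero_homology_of_isZero_X₂ _ (hb q hqi))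
      haveI : Module.Flat A (P.homology q) := inferInstance
      infer_instance
    · have hq' : q ∈ Finset.Icc i₀ N := Finset.mem_Icc.mpr ⟨not_lt.mp hqi, hq⟩
      haveI := hfpH q
      have hsubq : (PrimeSpectrum.basicOpen f : Set (PrimeSpectrum A)) ⊆
          Module.freeLocus A (P.homology q) := fun y hy => by
        have := hsub hy
        simp only [U, Set.mem_iInter] at this
        exact this q hq'
      have hproj := Module.basicOpen_subset_freeLocus_iff.mp hsubq
      haveI : Module.Flat (Localization.Away f) (LocalizedModule.Away f (P.homology q)) :=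
        @Module.Flat.of_projective _ _ _ _ _ hproj
      exact Module.Flat.of_linearEquiv (IsLocalizedModule.isBaseChange (Submonoid.powers f)
        (Localization.Away f)
        (LocalizedModule.mkLinearMap (Submonoid.powers f) (P.homology q))).equiv
  exact Module.Flat.of_linearEquiv ((TFunPi5.homologyEquivTA _ q).symm ≪≫ₗ
    TFunUC5.homologyBcEquivOfFlat (B := Localization.Away f) P q)

end Groth.Agent.TFunGen5
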