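import Mathlib
import Groth.Prelude.Def_ega3
import Groth.Agent.Lib.TFunCmp_helper5
import Groth.Agent.Lib.TFunGen_helper5
import Groth.Agent.Lib.FiberRank_helper9

/-!
# Generic local constancy of `x ↦ dim H_p(P ⊗ k(x))` (helper5)
-/

set_option autoImplicit false

open CategoryTheory CategoryTheory.Limits TensorProduct

universe u

namespace Groth.Agent.TFunDense5

section FG

variable {A : Type u} [CommRing A] (P : ChainComplex (ModuleCat.{u} A) ℤ)

lemma finite_T_free (n : ℤ) (r : ℕ) (h : Module.Finite A (CohIII.T P n (ModuleCat.of A A))) :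
    Module.Finite A (CohIII.T P n (ModuleCat.of A (Fin r → A))) := by
  haveI : Module.Finite A ((CohIII.TFun P n).obj (ModuleCat.of A A)) := h
  let f : Fin r → ModuleCat.{u} A := fun _ => ModuleCat.of A A
  let e1 : ModuleCat.of A (Fin r → A) ≅ ⨁ f := (ModuleCat.biproductIsoPi f).symm
  let e2 : (CohIII.TFun P n).obj (⨁ f) ≅ ⨁ ((CohIII.TFun P n).obj ∘ f) :=
    (CohIII.TFun P n).mapBiproduct f
  let e3 : (⨁ ((CohIII.TFun P n).obj ∘ f) : ModuleCat.{u} A) ≅
      ModuleCat.of A (∀ j, ((CohIII.TFun P n).obj ∘ f) j) :=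
    ModuleCat.biproductIsoPi _
  haveI : ∀ j, Module.Finite A ↑(((CohIII.TFun P n).obj ∘ f) j) := fun _ => h
  haveI : Module.Finite A (∀ j, ((CohIII.TFun P n).obj ∘ f) j) :=
    Module.Finite.pi (M := fun j => ((CohIII.TFun P n).obj ∘ f) j)
  exact Module.Finite.equiv
    ((CohIII.TFun P n).mapIso e1 ≪≫ e2 ≪≫ e3).toLinearEquiv.symm

variable [IsNoetherianRing A]

theorem finite_T_of_finite (hP : ∀ i, Module.Flat A (P.X i)) (i₀ : ℤ)
    (hb : ∀ i < i₀, IsZero (P.X i))
    (hfg : ∀ n : ℤ, Module.Finite A (CohIII.T P n (ModuleCat.of A A))) :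
    ∀ (n : ℤ) (M : ModuleCat.{u} A), Module.Finite A M → Module.Finite A (CohIII.T P n M) := by
  have key : ∀ k : ℕ, ∀ n : ℤ, n < i₀ + k → ∀ M : ModuleCat.{u} A, Module.Finite A M →
      Module.Finite A (CohIII.T P n M) := by
    intro k
    induction k with
    | zero =>
      intro n hn M _
      have h1 : IsZero ((CohIII.tensorObj P M).X n) :=
        Functor.map_isZero (MonoidalCategory.tensorRight M) (hb n (by simpa using hn))
      haveI : Subsingleton ↑(CohIII.T P n M) := ModuleCat.subsingleton_of_isZero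
        (((CohIII.tensorObj P M).sc n).isZero_homology_of_isZero_X₂ h1)
      haveI : Finite ↑(CohIII.T P n M) := Finite.of_subsingleton
      exact Module.Finite.of_finite
    | succ k ih =>
      intro n hn M hM
      by_cases hlt : n < i₀ + k
      · exact ih n hlt M hM
      · haveI := hM
        obtain ⟨r, g, hg⟩ := Module.Finite.exists_fin' A M
        let S : ShortComplex (ModuleCat.{u} A) :=
          ShortComplex.moduleCatMk (LinearMap.ker g).subtype g
            (LinearMap.exact_subtype_ker_map g).linearMap_comp_eq_zero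
        have hS : S.ShortExact :=
          ModuleCat.shortComplex_shortExact _ (LinearMap.exact_subtype_ker_map g)
            (Submodule.subtype_injective _) hg
        have hS' := Groth.Agent.Lib.TFunLESH7.tensorSC_shortExact P hP S hS
        have hrel : (ComplexShape.down ℤ).Rel n (n - 1) := by simp
        have ex3 := hS'.homology_exact₃ n (n - 1) hrel
        have hF : Module.Finite A (CohIII.T P n (ModuleCat.of A (Fin r → A))) :=
          finite_T_free P n r (hfg n)
        have hK : Module.Finite A (CohIII.T P (n - 1) (ModuleCat.of A (LinearMap.ker g))) :=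
          ih (n - 1) (by push_cast at hn; omega) _
            (inferInstanceAs (Module.Finite A (LinearMap.ker g)))
        exact @ConeDVR5.finite_of_exact A _ _ _ ex3 hF hK
  intro n M hM
  exact key (n - i₀ + 1).toNat n (by omega) M hM

end FG

section Core

variable {A : Type u} [CommRing A] (P : ChainComplex (ModuleCat.{u} A) ℤ)

/-- If the homology modules `H_q(P)`, `i₀ ≤ q ≤ N`, are free at all points of `D(f)`, all `T_p`,
`p ≤ N`, are exact over `A_f`. -/
theorem exact_away_of_subset (hP : ∀ i, Module.Flat A (P.X i)) (i₀ : ℤ)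
    (hb : ∀ i < i₀, IsZero (P.X i)) (hfpH : ∀ n, Module.FinitePresentation A (P.homology n))
    (N : ℤ) (f : A)
    (hsub : ∀ q ∈ Finset.Icc i₀ N, (PrimeSpectrum.basicOpen f : Set (PrimeSpectrum A)) ⊆
      Module.freeLocus A (P.homology q)) :
    ∀ p ≤ N,
      (CohIII.TFun (CohIII.bcCx (algebraMap A (Localization.Away f)) P) p).PreservesMonomorphisms ∧
        (CohIII.TFun (CohIII.bcCx (algebraMap A (Localization.Away f)) P)
          p).PreservesEpimorphisms := by
  have hPf := TFunBC5.flat_bc_X (B := Localization.Away f) P hP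
  have hbf : ∀ i < i₀, IsZero ((CohIII.bcCx (algebraMap A (Localization.Away f)) P).X i) :=
    fun i hi => Functor.map_isZero (ModuleCat.extendScalars (algebraMap A (Localization.Away f)))
      (hb i hi)
  rw [Groth.Agent.Lib.TFunEWH7.s2446 _ hPf i₀ hbf N]
  intro q hq
  have hflatH : Module.Flat (Localization.Away f) (Localization.Away f ⊗[A] (P.homology q)) := by
    by_cases hqi : q < i₀
    · haveI : Subsingleton (P.homology q) :=
        ModuleCat.subsingleton_of_isZero (ShortComplex.isZero_homology_of_isZero_X₂ _ (hb q hqi))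
      haveI : Module.Flat A (P.homology q) := inferInstance
      infer_instance
    · have hq' : q ∈ Finset.Icc i₀ N := Finset.mem_Icc.mpr ⟨not_lt.mp hqi, hq⟩
      haveI := hfpH q
      have hproj := Module.basicOpen_subset_freeLocus_iff.mp (hsub q hq')
      haveI : Module.Flat (Localization.Away f) (LocalizedModule.Away f (P.homology q)) :=
        @Module.Flat.of_projective _ _ _ _ _ hproj
      exact Module.Flat.of_linearEquiv (IsLocalizedModule.isBaseChange (Submonoid.powers f)
        (Localization.Away f)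
        (LocalizedModule.mkLinearMap (Submonoid.powers f) (P.homology q))).equiv
  exact Module.Flat.of_linearEquiv ((TFunPi5.homologyEquivTA _ q).symm ≪≫ₗ
    TFunUC5.homologyBcEquivOfFlat (B := Localization.Away f) P q)

end Core

section Red

variable {A : Type u} [CommRing A] [IsNoetherianRing A] [IsReduced A]

lemma minimal_mem_freeLocus (M : Type u) [AddCommGroup M] [Module A M] (y : PrimeSpectrum A)
    (hy : y.asIdeal ∈ minimalPrimes A) : y ∈ Module.freeLocus A M := by
  rw [Module.mem_freeLocus_iff_tensor y (Localization.AtPrime y.asIdeal)]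
  haveI := Ring.KrullDimLE.of_isLocalization y.asIdeal hy (Localization.AtPrime y.asIdeal)
  have hF : IsField (Localization.AtPrime y.asIdeal) := Ring.KrullDimLE.isField_of_isReduced
  letI := hF.toField
  exact Module.Free.of_divisionRing _ _

theorem red_case (P : ChainComplex (ModuleCat.{u} A) ℤ) (hP : ∀ i, Module.Flat A (P.X i))
    (i₀ : ℤ) (hb : ∀ i < i₀, IsZero (P.X i)) (hfin : ∀ n, Module.Finite A (P.homology n))
    (N : ℤ) :
    ∃ U : Set (PrimeSpectrum A), IsOpen U ∧ Dense U ∧ ∀ p ≤ N, ∀ x ∈ U,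
      ∃ W : Set (PrimeSpectrum A), IsOpen W ∧ x ∈ W ∧ W ⊆ U ∧
        ∀ y ∈ W, CohIII.dRank P p y = CohIII.dRank P p x := by
  have hfpH : ∀ n, Module.FinitePresentation A (P.homology n) := fun n =>
    haveI := hfin n
    Module.finitePresentation_of_finite A _
  let U : Set (PrimeSpectrum A) := ⋂ q ∈ Finset.Icc i₀ N, Module.freeLocus A (P.homology q)
  have hUo : IsOpen U := isOpen_biInter_finset (fun q _ => by
    haveI := hfpH q
    exact Module.isOpen_freeLocus)
  have hUmin : ∀ y : PrimeSpectrum A, y.asIdeal ∈ minimalPrimes A → y ∈ U := by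
    intro y hy
    simp only [U, Set.mem_iInter]
    intro q _
    exact minimal_mem_freeLocus _ y hy
  refine ⟨U, hUo, ?_, ?_⟩
  · rw [dense_iff_inter_open]
    rintro V hV ⟨y, hy⟩
    obtain ⟨𝔭, h𝔭, hle⟩ := Ideal.exists_minimalPrimes_le (I := ⊥) (J := y.asIdeal) bot_le
    have h𝔭' : 𝔭 ∈ minimalPrimes A := h𝔭
    let z : PrimeSpectrum A := ⟨𝔭, h𝔭.1.1⟩
    have hz : z ⤳ y := (PrimeSpectrum.le_iff_specializes z y).mp hle
    exact ⟨z, hz.mem_open hV hy, hUmin z h𝔭'⟩
  · intro p hp x hx
    obtain ⟨_, ⟨f, rfl⟩, hmem, hsub⟩ :=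
      PrimeSpectrum.isTopologicalBasis_basic_opens.exists_subset_of_mem_open hx hUo
    have hsub' : ∀ q ∈ Finset.Icc i₀ N, (PrimeSpectrum.basicOpen f : Set (PrimeSpectrum A)) ⊆
        Module.freeLocus A (P.homology q) := fun q hq y hy => by
      have := hsub hy
      simp only [U, Set.mem_iInter] at this
      exact this q hq
    have hex := exact_away_of_subset P hP i₀ hb hfpH N f hsub' p hp
    have hPf := TFunBC5.flat_bc_X (B := Localization.Away f) P hP
    haveI := hfin p
    haveI : Module.Finite (Localization.Away f)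
        (CohIII.T (CohIII.bcCx (algebraMap A (Localization.Away f)) P) p
          (ModuleCat.of (Localization.Away f) (Localization.Away f))) :=
      Module.Finite.equiv ((TFunPi5.homologyEquivTA _ p).symm ≪≫ₗ
        TFunUC5.homologyBcEquivOfFlat (B := Localization.Away f) P p).symm
    have hfp : Module.FinitePresentation (Localization.Away f)
        (CohIII.T (CohIII.bcCx (algebraMap A (Localization.Away f)) P) p
          (ModuleCat.of (Localization.Away f) (Localization.Away f))) :=
      Module.finitePresentation_of_finite _ _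
    have hlc := TFunBCH5.s4485 (CohIII.bcCx (algebraMap A (Localization.Away f)) P) hPf p hex hfp
    have hrange := PrimeSpectrum.localization_away_comap_range (Localization.Away f) f
    have hxr : x ∈ Set.range (PrimeSpectrum.comap (algebraMap A (Localization.Away f))) := by
      rw [hrange]; exact hmem
    obtain ⟨x'', rfl⟩ := hxr
    obtain ⟨V'', hV''o, hxV'', hV''⟩ := (IsLocallyConstant.iff_exists_open _).mp hlc x''
    refine ⟨PrimeSpectrum.comap (algebraMap A (Localization.Away f)) '' V'',
      (PrimeSpectrum.localization_away_isOpenEmbedding (Localization.Away f) f).isOpenMap _ hV''o,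
      ⟨x'', hxV'', rfl⟩, ?_, ?_⟩
    · rintro _ ⟨y'', -, rfl⟩
      apply hsub
      show PrimeSpectrum.comap (algebraMap A (Localization.Away f)) y'' ∈
        (PrimeSpectrum.basicOpen f : Set (PrimeSpectrum A))
      rw [← hrange]
      exact ⟨y'', rfl⟩
    · rintro _ ⟨y'', hy'', rfl⟩
      rw [← FiberRank9.dRank_baseChange, ← FiberRank9.dRank_baseChange]
      exact hV'' y'' hy''

end Red

section Main

lemma isLocallyConstant_of_pointwise {X : Type*} [TopologicalSpace X] (U : Set X) (g : X → ℕ)
    (h : ∀ x ∈ U, ∃ W : Set X, IsOpen W ∧ x ∈ W ∧ ∀ y ∈ W, y ∈ U → g y = g x) :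
    IsLocallyConstant (fun x : U => g x) := by
  rw [IsLocallyConstant.iff_exists_open]
  intro x
  obtain ⟨W, hWo, hxW, hW⟩ := h x x.2
  exact ⟨Subtype.val ⁻¹' W, hWo.preimage continuous_subtype_val, hxW, fun y hy => hW y hy y.2⟩

theorem s4487 {A : Type u} [CommRing A] [IsNoetherianRing A]
    (P : ChainComplex (ModuleCat.{u} A) ℤ) (hP : ∀ i, Module.Flat A (P.X i)) (i₀ : ℤ)
    (hb : ∀ i < i₀, IsZero (P.X i))
    (hfg : ∀ n : ℤ, Module.Finite A (CohIII.T P n (ModuleCat.of A A))) (N : ℤ) :
    ∃ U : Set (PrimeSpectrum A), IsOpen U ∧ Dense U ∧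
      ∀ p ≤ N, IsLocallyConstant (fun x : U => CohIII.dRank P p x) := by
  haveI : IsReduced (A ⧸ nilradical A) :=
    (Ideal.isRadical_iff_quotient_reduced _).mp (Ideal.radical_isRadical ⊥)
  have hPR := TFunBC5.flat_bc_X (B := A ⧸ nilradical A) P hP
  have hbR : ∀ i < i₀, IsZero ((CohIII.bcCx (algebraMap A (A ⧸ nilradical A)) P).X i) :=
    fun i hi => Functor.map_isZero (ModuleCat.extendScalars (algebraMap A (A ⧸ nilradical A)))
      (hb i hi)
  have hfinR : ∀ n, Module.Finite (A ⧸ nilradical A)
      ((CohIII.bcCx (algebraMap A (A ⧸ nilradical A)) P).homology n) := fun n =>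
    TFunCmp5.finite_bc_of_finite (A ⧸ nilradical A) P n
      (finite_T_of_finite P hP i₀ hb hfg n _
        (inferInstanceAs (Module.Finite A (A ⧸ nilradical A))))
  obtain ⟨U', hU'o, hU'd, hU'⟩ := red_case _ hPR i₀ hbR hfinR N
  have hhom : IsHomeomorph (PrimeSpectrum.comap (algebraMap A (A ⧸ nilradical A))) := by
    apply PrimeSpectrum.isHomeomorph_comap
    · intro x
      obtain ⟨a, rfl⟩ := Ideal.Quotient.mk_surjective x
      exact ⟨1, Nat.one_pos, ⟨a, by simp⟩⟩
    · rw [Ideal.Quotient.algebraMap_eq, Ideal.mk_ker]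
  refine ⟨PrimeSpectrum.comap (algebraMap A (A ⧸ nilradical A)) '' U',
    hhom.isOpenMap _ hU'o, ?_, ?_⟩
  · exact hhom.surjective.denseRange.dense_image hhom.continuous hU'd
  · intro p hp
    apply isLocallyConstant_of_pointwise
    rintro _ ⟨x', hx', rfl⟩
    obtain ⟨W', hW'o, hxW', hW'U, hW'⟩ := hU' p hp x' hx'
    refine ⟨PrimeSpectrum.comap (algebraMap A (A ⧸ nilradical A)) '' W',
      hhom.isOpenMap _ hW'o, ⟨x', hxW', rfl⟩, ?_⟩
    rintro _ ⟨y', hy', rfl⟩ -
    rw [← FiberRank9.dRank_baseChange, ← FiberRank9.dRank_baseChange]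
    exact hW' y' hy'

end Main

end Groth.Agent.TFunDense5
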