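import Mathlib
import Groth.Agent.Lib.TFunEW_helper7
import Groth.Agent.Lib.EW2_helper7

set_option autoImplicit false
universe u
open CategoryTheory CategoryTheory.Limits MonoidalCategory
open scoped TensorProduct

namespace Groth.Agent.Lib.TFunEWH7

variable {A : Type u} [CommRing A] {ι : Type} {c : ComplexShape ι}
  (P : HomologicalComplex (ModuleCat.{u} A) c) (hP : ∀ i, Module.Flat A (P.X i)) (p : ι)

lemma epi_of_pfc (T : ModuleCat.{u} A ⥤ ModuleCat.{u} A) [T.Additive]
    (h : PreservesFiniteColimits T) : T.PreservesEpimorphisms := by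
  refine ⟨fun {M N} g hg => ?_⟩
  have h1 : ∀ S : ShortComplex (ModuleCat.{u} A), S.Exact ∧ Epi S.g →
      (S.map T).Exact ∧ Epi (T.map S.g) :=
    ((Functor.preservesFiniteColimits_tfae T).out 3 1).mp h
  exact (h1 (ShortComplex.mk (kernel.ι g) g (by simp)) ⟨ShortComplex.exact_kernel g, hg⟩).2

include hP in
theorem s4502 [IsArtinianRing A] [IsLocalRing A] :
    (CohIII.TFun P p).PreservesEpimorphisms ↔
      Function.Surjective ((CohIII.TFun P p).map
        (ModuleCat.ofHom (Algebra.linearMap A (IsLocalRing.ResidueField A)))).hom := by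
  constructor
  · intro h
    exact ((Groth.Agent.Lib.EWH7.s2449 (CohIII.TFun P p)).mp (pfc_of_epi P hP p h)).2
  · intro h
    exact epi_of_pfc _ ((Groth.Agent.Lib.EWH7.s2449 (CohIII.TFun P p)).mpr
      ⟨fun S hS => halfExact P hP p S hS, h⟩)

end Groth.Agent.Lib.TFunEWH7
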