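import Mathlib
import Groth.Prelude.Def_ega3
import Groth.Agent.Lib.TFunCmp_helper5
import Groth.Agent.Lib.TFunUC_helper5
import Groth.Agent.Lib.TFunLocal_helper5
import Groth.Agent.Lib.TFunBC_helper5

/-!
# Projectivity of the truncation of a complex of projectives with vanishing fibre cohomology (helper5)
-/

set_option autoImplicit false

open CategoryTheory CategoryTheory.Limits TensorProduct

universe u

namespace Groth.Agent.TFunTrunc5

section Comp

variable {A A' k L : Type u} [CommRing A] [CommRing A'] [CommRing k] [CommRing L]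
  {ι : Type} {c : ComplexShape ι}

/-- Base change in two steps, along two factorizations of the same ring map. -/
noncomputable def bcCompIso (φ₁ : A →+* A') (φ₂ : A' →+* L) (ψ₁ : A →+* k) (ψ₂ : k →+* L)
    (hcomp : φ₂.comp φ₁ = ψ₂.comp ψ₁) (P : HomologicalComplex (ModuleCat.{u} A) c) :
    CohIII.bcCx φ₂ (CohIII.bcCx φ₁ P) ≅ CohIII.bcCx ψ₂ (CohIII.bcCx ψ₁ P) :=
  let iso1 : ModuleCat.extendScalars.{u, u, u} φ₁ ⋙ ModuleCat.extendScalars.{u, u, u} φ₂ ≅
      ModuleCat.extendScalars.{u, u, u} ψ₁ ⋙ ModuleCat.extendScalars.{u, u, u} ψ₂ :=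
    (ModuleCat.extendScalarsComp φ₁ φ₂).symm ≪≫ eqToIso (by rw [hcomp]) ≪≫
      ModuleCat.extendScalarsComp ψ₁ ψ₂
  HomologicalComplex.Hom.isoOfComponents (fun i => iso1.app (P.X i))
    (fun i j _ => (iso1.hom.naturality (P.d i j)).symm)

end Comp

theorem s14611 (A : Type u) [CommRing A] [IsNoetherianRing A]
    (Q : CochainComplex (ModuleCat.{u} A) ℤ)
    (hQ : ∀ i, Module.Finite A (Q.X i) ∧ Module.Projective A (Q.X i)) (d : ℤ)
    (h2 : ∀ (m : Ideal A) [m.IsMaximal], ∀ p < d,
      IsZero ((CohIII.tensorObj Q (ModuleCat.of A (A ⧸ m))).homology p)) :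
    Module.Projective A (Q.opcycles d) := by
  have hQ' : ∀ i, Module.Finite A (Q.X i) ∧ Module.Flat A (Q.X i) := fun i =>
    ⟨(hQ i).1, haveI := (hQ i).2; inferInstance⟩
  have hfl : ∀ i, Module.Flat A (Q.X i) := fun i => (hQ' i).2
  haveI := (hQ d).1
  haveI : Module.Finite A (Q.opcycles d) := Module.Finite.of_surjective (Q.pOpcycles d).hom
    ((ModuleCat.epi_iff_surjective _).mp inferInstance)
  haveI : Module.FinitePresentation A (Q.opcycles d) := Module.finitePresentation_of_finite A _
  have hrel : (ComplexShape.up ℤ).Rel (d - 1) d := by simp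
  -- maximal ideals lie in the free locus
  have hmax : ∀ (m : Ideal A) (hm : m.IsMaximal),
      (⟨m, hm.isPrime⟩ : PrimeSpectrum A) ∈ Module.freeLocus A (Q.opcycles d) := by
    intro m hm
    haveI := hm
    rw [← TFunBC5.mono_loc_iff Q hQ' d ⟨m, hm.isPrime⟩]
    show (CohIII.TFun (CohIII.bcCx (algebraMap A (Localization.AtPrime m)) Q)
      d).PreservesMonomorphisms
    have hflB := TFunBC5.flat_bc_X (B := Localization.AtPrime m) Q hfl
    have hQB : ∀ i, Module.Finite (Localization.AtPrime m)
        ((CohIII.bcCx (algebraMap A (Localization.AtPrime m)) Q).X i) ∧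
        Module.Flat (Localization.AtPrime m)
          ((CohIII.bcCx (algebraMap A (Localization.AtPrime m)) Q).X i) := fun i =>
      ⟨by
        haveI := (hQ i).1
        exact Module.Finite.equiv (Groth.Agent.ExtendScalarsLib.extendScalarsEquivTensor
          (S := Localization.AtPrime m) (Q.X i)).symm, hflB i⟩
    rw [← Groth.Agent.Lib.TFunLESH7.main _ hflB (d - 1) d hrel]
    -- vanishing of T^{d-1}(k) over the local ring
    have hzA := (TFunCmp5.isZero_bc_iff (A ⧸ m) Q (d - 1)).mpr (h2 m (d - 1) (by omega))
    let ψ₂ : A ⧸ m →+* IsLocalRing.ResidueField (Localization.AtPrime m) :=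
      Ideal.Quotient.lift m ((IsLocalRing.residue (Localization.AtPrime m)).comp
        (algebraMap A (Localization.AtPrime m))) (fun a ha => by
          rw [RingHom.comp_apply, IsLocalRing.residue_eq_zero_iff]
          exact (IsLocalization.AtPrime.to_map_mem_maximal_iff _ m a).mpr ha)
    letI : Field (A ⧸ m) := Ideal.Quotient.field m
    letI : Algebra (A ⧸ m) (IsLocalRing.ResidueField (Localization.AtPrime m)) := ψ₂.toAlgebra
    have hz1 : IsZero ((CohIII.bcCx (algebraMap (A ⧸ m)
        (IsLocalRing.ResidueField (Localization.AtPrime m)))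
        (CohIII.bcCx (algebraMap A (A ⧸ m)) Q)).homology (d - 1)) :=
      IsZero.of_iso (Functor.map_isZero _ hzA)
        (TFunUC5.homologyBcIsoOfFlat
          (B := IsLocalRing.ResidueField (Localization.AtPrime m))
          (CohIII.bcCx (algebraMap A (A ⧸ m)) Q) (d - 1))
    have hcomp : (algebraMap (Localization.AtPrime m)
        (IsLocalRing.ResidueField (Localization.AtPrime m))).comp
        (algebraMap A (Localization.AtPrime m)) =
        (algebraMap (A ⧸ m) (IsLocalRing.ResidueField (Localization.AtPrime m))).comp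
          (algebraMap A (A ⧸ m)) := by
      ext a
      rfl
    have hz2 : IsZero ((CohIII.bcCx (algebraMap (Localization.AtPrime m)
        (IsLocalRing.ResidueField (Localization.AtPrime m)))
        (CohIII.bcCx (algebraMap A (Localization.AtPrime m)) Q)).homology (d - 1)) :=
      IsZero.of_iso hz1 ((HomologicalComplex.homologyFunctor _ _ (d - 1)).mapIso
        (bcCompIso _ _ _ _ hcomp Q))
    have hzB := (TFunCmp5.isZero_bc_iff (IsLocalRing.ResidueField (Localization.AtPrime m))
      (CohIII.bcCx (algebraMap A (Localization.AtPrime m)) Q) (d - 1)).mp hz2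
    haveI : Subsingleton ((CohIII.TFun (CohIII.bcCx (algebraMap A (Localization.AtPrime m)) Q)
        (d - 1)).obj (ModuleCat.of (Localization.AtPrime m)
          (IsLocalRing.ResidueField (Localization.AtPrime m)))) :=
      ModuleCat.subsingleton_of_isZero hzB
    apply TFunLocal5.epi_of_injective _ hQB (d - 1) d hrel
    apply TFunLocal5.lTensor_subtype_injective _ (d - 1) d hrel
      (ModuleCat.of (Localization.AtPrime m) (Localization.AtPrime m))
      (ModuleCat.ofHom (Algebra.linearMap (Localization.AtPrime m)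
        (IsLocalRing.ResidueField (Localization.AtPrime m))))
    · intro z
      exact ⟨0, Subsingleton.elim _ _⟩
    · intro v hv
      exact TFunLocal5.hstar_self _ _ v hv
  -- all primes lie in the free locus
  have huniv : Module.freeLocus A (Q.opcycles d) = Set.univ := by
    rw [Set.eq_univ_iff_forall]
    intro y
    obtain ⟨m, hm, hle⟩ := Ideal.exists_le_maximal y.asIdeal y.2.ne_top
    have hspec : y ⤳ (⟨m, hm.isPrime⟩ : PrimeSpectrum A) :=
      (PrimeSpectrum.le_iff_specializes y _).mp hle
    exact hspec.mem_open Module.isOpen_freeLocus (hmax m hm)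
  exact Module.freeLocus_eq_univ_iff.mp huniv

end Groth.Agent.TFunTrunc5
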