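import Mathlib
import Groth.Agent.Lib.TLineB_helper4
import Groth.Agent.Lib.TLineC_helper4

/-!
# Ring-level lemmas for the point at infinity of the affine line (helper4)

`Lr K = K[u, 1/u]`, `kap K : K[t] → K[u, 1/u]`, `t ↦ 1/u`, its naturality (`lrMap`), evaluation at
`u = 1` (`evL`), the reverse polynomial (`kap_eq_reverse`, `theta`, `ev0s`, `cover_X_reverse`),
localisation squares (`isPullback_awayTr`), shifts (`sh`, `shInv`), monic elements of ideals with
finite quotient (`exists_monic_mem`).
-/

set_option autoImplicit false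
set_option linter.style.haveILetI false
set_option linter.unusedSectionVars false
universe u
open Polynomial CategoryTheory CategoryTheory.Limits AlgebraicGeometry

namespace Groth.Agent.Lib.TLineH4

open Groth.Agent.Lib.GlueH4 Groth.Agent.Lib.QLimH4 Groth.Agent.Lib.QGrpH4

theorem SpM_id (A : Type u) [CommRing A] : SpM (RingHom.id A) = 𝟙 _ := by
  have h := SpM_id_comp (𝟙 (Spec (CommRingCat.of A)))
  rwa [Category.comp_id] at h

theorem inv_unique {S : Type*} [CommRing S] {a b c : S} (h1 : a * c = 1) (h2 : b * c = 1) :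
    a = b := by
  calc a = a * (b * c) := by rw [h2, mul_one]
    _ = b * (a * c) := by ring
    _ = b := by rw [h1, mul_one]

section Kap

variable (K : Type u) [CommRing K]

/-- `K[u, 1/u]`. -/
abbrev Lr : Type u := Localization.Away (X : K[X])

/-- `1/u`. -/
noncomputable def vL : Lr K := IsLocalization.Away.invSelf (S := Lr K) (X : K[X])

theorem X_mul_vL : algebraMap K[X] (Lr K) X * vL K = 1 :=
  IsLocalization.Away.mul_invSelf (S := Lr K) (X : K[X])

theorem vL_mul_X : vL K * algebraMap K[X] (Lr K) X = 1 := by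
  rw [mul_comm]
  exact X_mul_vL K

/-- `t ↦ 1/u`. -/
noncomputable def kap : K[X] →+* Lr K :=
  eval₂RingHom ((algebraMap K[X] (Lr K)).comp C) (vL K)

theorem kap_apply (p : K[X]) :
    kap K p = eval₂ ((algebraMap K[X] (Lr K)).comp C) (vL K) p := rfl

theorem kap_C (a : K) : kap K (C a) = algebraMap K[X] (Lr K) (C a) := by
  rw [kap_apply, eval₂_C]
  rfl

theorem kap_X : kap K X = vL K := by
  rw [kap_apply, eval₂_X]

theorem kap_comp_alg :
    (kap K).comp (algebraMap K K[X]) = (algebraMap K[X] (Lr K)).comp (algebraMap K K[X]) := by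
  refine RingHom.ext fun a => ?_
  show kap K (algebraMap K K[X] a) = algebraMap K[X] (Lr K) (algebraMap K K[X] a)
  rw [← Polynomial.C_eq_algebraMap, kap_C]

theorem evL_unit : IsUnit ((evalRingHom (1 : K)) (X : K[X])) := by
  show IsUnit (eval 1 (X : K[X]))
  rw [eval_X]
  exact isUnit_one

/-- Evaluation at `u = 1`. -/
noncomputable def evL : Lr K →+* K :=
  IsLocalization.Away.lift (S := Lr K) (X : K[X]) (g := evalRingHom (1 : K)) (evL_unit K)

theorem evL_alg (p : K[X]) : evL K (algebraMap K[X] (Lr K) p) = eval 1 p :=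
  IsLocalization.Away.lift_eq (S := Lr K) (X : K[X]) (evL_unit K) p

theorem evL_kap : (evL K).comp (kap K) = evalRingHom (1 : K) := by
  refine Polynomial.ringHom_ext (fun a => ?_) ?_
  · show evL K (kap K (C a)) = eval 1 (C a)
    rw [kap_C, evL_alg]
  · show evL K (kap K X) = eval 1 (X : K[X])
    rw [kap_X, eval_X]
    apply inv_unique (c := evL K (algebraMap K[X] (Lr K) X))
    · rw [← map_mul, vL_mul_X, map_one]
    · rw [one_mul, evL_alg, eval_X]

variable {K} {K' : Type u} [CommRing K'] (φ : K →+* K')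

theorem lrMap_unit :
    IsUnit (((algebraMap K'[X] (Lr K')).comp (mapRingHom φ)) (X : K[X])) := by
  show IsUnit (algebraMap K'[X] (Lr K') ((X : K[X]).map φ))
  rw [Polynomial.map_X]
  exact IsLocalization.Away.algebraMap_isUnit (X : K'[X])

/-- Functoriality of `K[u, 1/u]`. -/
noncomputable def lrMap : Lr K →+* Lr K' :=
  IsLocalization.Away.lift (S := Lr K) (X : K[X])
    (g := (algebraMap K'[X] (Lr K')).comp (mapRingHom φ)) (lrMap_unit φ)

theorem lrMap_comp :
    (lrMap φ).comp (algebraMap K[X] (Lr K)) = (algebraMap K'[X] (Lr K')).comp (mapRingHom φ) :=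
  IsLocalization.Away.lift_comp (S := Lr K) (X : K[X]) (lrMap_unit φ)

theorem lrMap_alg (p : K[X]) :
    lrMap φ (algebraMap K[X] (Lr K) p) = algebraMap K'[X] (Lr K') (p.map φ) :=
  IsLocalization.Away.lift_eq (S := Lr K) (X : K[X]) (lrMap_unit φ) p

theorem lrMap_vL : lrMap φ (vL K) = vL K' := by
  apply inv_unique (c := algebraMap K'[X] (Lr K') X)
  · have h := lrMap_alg φ (X : K[X])
    rw [Polynomial.map_X] at h
    rw [← h, ← map_mul, vL_mul_X, map_one]
  · exact vL_mul_X K'

theorem lrMap_kap : (lrMap φ).comp (kap K) = (kap K').comp (mapRingHom φ) := by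
  refine Polynomial.ringHom_ext (fun a => ?_) ?_
  · show lrMap φ (kap K (C a)) = kap K' ((C a).map φ)
    rw [kap_C, lrMap_alg, map_C, kap_C]
  · show lrMap φ (kap K X) = kap K' ((X : K[X]).map φ)
    rw [kap_X, Polynomial.map_X, kap_X, lrMap_vL]

end Kap

section Shift

variable (K : Type u) [CommRing K]

/-- `t ↦ t + 1`. -/
noncomputable def sh : K[X] →+* K[X] := compRingHom (X + 1)

/-- `t ↦ t - 1`. -/
noncomputable def shInv : K[X] →+* K[X] := compRingHom (X - 1)

theorem sh_comp_alg : (sh K).comp (algebraMap K K[X]) = algebraMap K K[X] := by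
  refine RingHom.ext fun a => ?_
  show (algebraMap K K[X] a).comp (X + 1) = algebraMap K K[X] a
  rw [← Polynomial.C_eq_algebraMap, C_comp]

theorem ev0_sh : (evalRingHom (0 : K)).comp (sh K) = evalRingHom 1 := by
  refine RingHom.ext fun p => ?_
  show eval 0 (p.comp (X + 1)) = eval 1 p
  rw [eval_comp, eval_add, eval_X, eval_one, zero_add]

theorem shInv_sh : (shInv K).comp (sh K) = RingHom.id _ := by
  refine RingHom.ext fun p => ?_
  show (p.comp (X + 1)).comp (X - 1) = p
  rw [comp_assoc, add_comp, X_comp, one_comp, sub_add_cancel, comp_X]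

variable {K} {K' : Type u} [CommRing K'] (φ : K →+* K')

theorem sh_map : (sh K').comp (mapRingHom φ) = (mapRingHom φ).comp (sh K) := by
  refine RingHom.ext fun p => ?_
  show (p.map φ).comp (X + 1) = (p.comp (X + 1)).map φ
  rw [Polynomial.map_comp, Polynomial.map_add, Polynomial.map_X, Polynomial.map_one]

end Shift

section Reverse

variable {R : Type u} [CommRing R] (f : R[X])

theorem kap_eq_reverse :
    kap R f = algebraMap R[X] (Lr R) f.reverse * vL R ^ f.natDegree := by
  letI : Invertible (vL R) := ⟨algebraMap R[X] (Lr R) X, X_mul_vL R, vL_mul_X R⟩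
  have h := Polynomial.eval₂_reverse_mul_pow ((algebraMap R[X] (Lr R)).comp C) (vL R) f
  have h2 : eval₂ ((algebraMap R[X] (Lr R)).comp C) (algebraMap R[X] (Lr R) X) f.reverse =
      algebraMap R[X] (Lr R) f.reverse := by
    rw [← Polynomial.hom_eval₂, eval₂_C_X]
  have h3 : eval₂ ((algebraMap R[X] (Lr R)).comp C) (⅟(vL R)) f.reverse =
      algebraMap R[X] (Lr R) f.reverse := h2
  rw [kap_apply, ← h, h3]

theorem isUnit_vL : IsUnit (vL R) := ⟨⟨vL R, algebraMap R[X] (Lr R) X, vL_mul_X R, X_mul_vL R⟩, rfl⟩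

theorem theta_unit :
    IsUnit (((awayTr (Dvd.intro f.reverse rfl : (X : R[X]) ∣ X * f.reverse)).comp (kap R)) f) := by
  show IsUnit (awayTr (Dvd.intro f.reverse rfl : (X : R[X]) ∣ X * f.reverse) (kap R f))
  rw [kap_eq_reverse, map_mul, map_pow]
  refine IsUnit.mul ?_ (IsUnit.pow _ ?_)
  · have e : awayTr (Dvd.intro f.reverse rfl : (X : R[X]) ∣ X * f.reverse)
        (algebraMap R[X] (Lr R) f.reverse) =
        algebraMap R[X] (Localization.Away (X * f.reverse)) f.reverse :=
      RingHom.congr_fun (awayTr_comp (Dvd.intro f.reverse rfl : (X : R[X]) ∣ X * f.reverse))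
        f.reverse
    rw [e]
    exact IsLocalization.Away.isUnit_of_dvd (S := Localization.Away (X * f.reverse))
      (X * f.reverse) (Dvd.intro_left X rfl)
  · exact IsUnit.map _ (isUnit_vL (R := R))

/-- `R[t][1/f] → R[u][1/(u f*)]`, `t ↦ 1/u`. -/
noncomputable def theta : Localization.Away f →+* Localization.Away (X * f.reverse) :=
  IsLocalization.Away.lift (S := Localization.Away f) f
    (g := (awayTr (Dvd.intro f.reverse rfl : (X : R[X]) ∣ X * f.reverse)).comp (kap R))
    (theta_unit f)

theorem theta_comp :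
    (theta f).comp (algebraMap R[X] (Localization.Away f)) =
      (awayTr (Dvd.intro f.reverse rfl : (X : R[X]) ∣ X * f.reverse)).comp (kap R) :=
  IsLocalization.Away.lift_comp (S := Localization.Away f) f (theta_unit f)

theorem ev0s_unit (hf : f.Monic) : IsUnit ((evalRingHom (0 : R)) f.reverse) := by
  show IsUnit (eval 0 f.reverse)
  rw [← Polynomial.coeff_zero_eq_eval_zero, coeff_zero_reverse, hf.leadingCoeff]
  exact isUnit_one

/-- Evaluation at `u = 0` on `R[u][1/f*]`. -/
noncomputable def ev0s (hf : f.Monic) : Localization.Away f.reverse →+* R :=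
  IsLocalization.Away.lift (S := Localization.Away f.reverse) f.reverse
    (g := evalRingHom (0 : R)) (ev0s_unit f hf)

theorem ev0s_comp (hf : f.Monic) :
    (ev0s f hf).comp (algebraMap R[X] (Localization.Away f.reverse)) = evalRingHom (0 : R) :=
  IsLocalization.Away.lift_comp (S := Localization.Away f.reverse) f.reverse (ev0s_unit f hf)

theorem cover_X_reverse (hf : f.Monic) (x : PrimeSpectrum R[X]) :
    x ∈ (PrimeSpectrum.basicOpen (X : R[X]) : Set (PrimeSpectrum R[X])) ∨
      x ∈ (PrimeSpectrum.basicOpen f.reverse : Set (PrimeSpectrum R[X])) := by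
  by_contra hx
  rw [not_or] at hx
  have h1 : (X : R[X]) ∈ x.asIdeal := by
    by_contra h
    exact hx.1 h
  have h2 : f.reverse ∈ x.asIdeal := by
    by_contra h
    exact hx.2 h
  have hg0 : f.reverse.coeff 0 = 1 := by rw [coeff_zero_reverse, hf.leadingCoeff]
  have e : f.reverse - divX f.reverse * X = 1 := by
    have h3 := Polynomial.divX_mul_X_add f.reverse
    rw [hg0, C_1] at h3
    exact sub_eq_of_eq_add' h3.symm
  have h4 : (1 : R[X]) ∈ x.asIdeal := by
    rw [← e]
    exact Ideal.sub_mem _ h2 (Ideal.mul_mem_left _ _ h1)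
  exact x.isPrime.ne_top ((Ideal.eq_top_iff_one _).mpr h4)

variable {K' : Type u} [CommRing K'] (φ : R →+* K')

theorem awayMap_unit :
    IsUnit (((algebraMap K'[X] (Localization.Away (f.map φ))).comp (mapRingHom φ)) f) :=
  IsLocalization.Away.algebraMap_isUnit (f.map φ)

/-- `R[t][1/f] → K'[t][1/f]`. -/
noncomputable def awayMap : Localization.Away f →+* Localization.Away (f.map φ) :=
  IsLocalization.Away.lift (S := Localization.Away f) f
    (g := (algebraMap K'[X] (Localization.Away (f.map φ))).comp (mapRingHom φ)) (awayMap_unit f φ)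

theorem awayMap_comp :
    (awayMap f φ).comp (algebraMap R[X] (Localization.Away f)) =
      (algebraMap K'[X] (Localization.Away (f.map φ))).comp (mapRingHom φ) :=
  IsLocalization.Away.lift_comp (S := Localization.Away f) f (awayMap_unit f φ)

theorem exists_monic_mem (I : Ideal R[X]) (hI : Module.Finite R (R[X] ⧸ I)) :
    ∃ f ∈ I, f.Monic := by
  haveI := hI
  have hint : IsIntegral R (Ideal.Quotient.mk I (X : R[X])) :=
    Algebra.IsIntegral.isIntegral _
  obtain ⟨p, hp, hp0⟩ := hint
  refine ⟨p, ?_, hp⟩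
  rw [← Ideal.Quotient.eq_zero_iff_mem]
  have h1 := Polynomial.hom_eval₂ p (C : R →+* R[X]) (Ideal.Quotient.mk I) X
  rw [Polynomial.eval₂_C_X] at h1
  rw [h1]
  exact hp0

end Reverse

section Squares

theorem isPullback_awayTr {K : Type u} [CommRing K] (r r' : K) :
    IsPullback (SpM (awayTr (Dvd.intro r' rfl : r ∣ r * r')))
      (SpM (awayTr (Dvd.intro_left r rfl : r' ∣ r * r')))
      (SpM (algebraMap K (Localization.Away r))) (SpM (algebraMap K (Localization.Away r'))) := by
  letI iAB : Algebra (Localization.Away r) (Localization.Away (r * r')) :=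
    (awayTr (Dvd.intro r' rfl : r ∣ r * r')).toAlgebra
  letI iAB' : Algebra (Localization.Away r') (Localization.Away (r * r')) :=
    (awayTr (Dvd.intro_left r rfl : r' ∣ r * r')).toAlgebra
  haveI t1 : IsScalarTower K (Localization.Away r) (Localization.Away (r * r')) :=
    IsScalarTower.of_algebraMap_eq' (awayTr_comp (Dvd.intro r' rfl : r ∣ r * r')).symm
  haveI t2 : IsScalarTower K (Localization.Away r') (Localization.Away (r * r')) :=
    IsScalarTower.of_algebraMap_eq' (awayTr_comp (Dvd.intro_left r rfl : r' ∣ r * r')).symm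
  exact isPullback_away r r' (Localization.Away r) (Localization.Away r')
    (Localization.Away (r * r'))

end Squares

end Groth.Agent.Lib.TLineH4
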