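import Mathlib
import Groth.Agent.Lib.TLineI_helper4
import Groth.Agent.Lib.TLineJ_helper4

/-!
# Torsors over the affine line trivial away from a finite closed subscheme (helper4)

`main_line`: the local-global principle S17851, by glueing the torsor to a torsor over the
projective line minus a finite set (here: over the affine line with coordinate `u = 1/t`), Quillen
patching for sections of torsors (`patch_main`) and the local hypothesis (`L_loc`).
-/

set_option autoImplicit false
set_option linter.style.haveILetI false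
set_option linter.unusedSectionVars false
universe u
open Polynomial CategoryTheory CategoryTheory.Limits AlgebraicGeometry MonoidalCategory
  CartesianMonoidalCategory MonObj

namespace Groth.Agent.Lib.TLineH4

open Groth.Agent.Lib.GlueH4 Groth.Agent.Lib.QLimH4 Groth.Agent.Lib.QGrpH4

section Assembly

variable {R : Type u} [CommRing R] {G : Over (Spec (CommRingCat.of R))} [GrpObj G]

theorem lfp_bc [LocallyOfFinitePresentation G.hom] {B : Scheme.{u}}
    (p : B ⟶ Spec (CommRingCat.of R)) : LocallyOfFinitePresentation (Red.bc p G).hom := by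
  show LocallyOfFinitePresentation (pullback.snd G.hom p)
  infer_instance

theorem kap_base :
    SpM (kap R) ≫ SpM (algebraMap R R[X]) =
      SpM (algebraMap R[X] (Lr R)) ≫ SpM (algebraMap R R[X]) := by
  rw [← SpM_comp, ← SpM_comp, kap_comp_alg]

/-- Glueing at infinity. -/
theorem glue_infty
    (P : NonAbH1.TorsorSch (Red.bc (SpM (algebraMap R R[X])) G) Scheme.fppfPrecoverage)
    (f : R[X]) (hf : f.Monic)
    (τf : Spec (CommRingCat.of (Localization.Away f)) ⟶ P.X.left)
    (hτf : τf ≫ P.X.hom = SpM (algebraMap R[X] (Localization.Away f))) :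
    ∃ (E : Over (Spec (CommRingCat.of R[X])))
      (act : AlgGrp.Action (Red.bc (SpM (algebraMap R R[X])) G) E)
      (ε₀ : pullback P.X.hom (SpM (kap R)) ⟶ E.left)
      (ρ : Spec (CommRingCat.of R) ⟶ E.left),
      NonAbH1.IsTorsorFor Scheme.fppfPrecoverage act ∧
      IsPullback (pullback.snd P.X.hom (SpM (kap R))) ε₀ (SpM (algebraMap R[X] (Lr R))) E.hom ∧
      ρ ≫ E.hom = SpM (evalRingHom (0 : R)) := by
  haveI i0 : IsOpenImmersion (SpM (algebraMap R[X] (Lr R))) :=
    IsOpenImmersion.of_isLocalization (S := Lr R) (X : R[X])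
  haveI i1 : IsOpenImmersion (SpM (algebraMap R[X] (Localization.Away f.reverse))) :=
    IsOpenImmersion.of_isLocalization (S := Localization.Away f.reverse) f.reverse
  have hcond : (SpM (theta f) ≫ τf) ≫ P.X.hom =
      SpM (awayTr (Dvd.intro f.reverse rfl : (X : R[X]) ∣ X * f.reverse)) ≫ SpM (kap R) := by
    rw [Category.assoc, hτf, ← SpM_comp, ← SpM_comp, theta_comp]
  have hsurj : ∀ x : Spec (CommRingCat.of R[X]),
      x ∈ Set.range (SpM (algebraMap R[X] (Lr R))) ∨
        x ∈ Set.range (SpM (algebraMap R[X] (Localization.Away f.reverse))) := by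
    intro x
    rw [range_away (X : R[X]) (Lr R), range_away f.reverse (Localization.Away f.reverse)]
    exact cover_X_reverse f hf x
  obtain ⟨E, act, ε₀, s₁, htors, hpb, hs₁⟩ :=
    glue_two_torsor (SpM (algebraMap R[X] (Lr R)))
      (SpM (algebraMap R[X] (Localization.Away f.reverse)))
      (SpM (awayTr (Dvd.intro f.reverse rfl : (X : R[X]) ∣ X * f.reverse)))
      (SpM (awayTr (Dvd.intro_left X rfl : f.reverse ∣ X * f.reverse)))
      (isPullback_awayTr (X : R[X]) f.reverse)
      (Red.bc (SpM (algebraMap R R[X])) G)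
      (rebase (SpM (kap R)) (SpM (algebraMap R R[X])) (SpM (algebraMap R[X] (Lr R)))
        (SpM (algebraMap R R[X])) kap_base P).X
      (rebase (SpM (kap R)) (SpM (algebraMap R R[X])) (SpM (algebraMap R[X] (Lr R)))
        (SpM (algebraMap R R[X])) kap_base P).act
      (pullback.lift (SpM (theta f) ≫ τf)
        (SpM (awayTr (Dvd.intro f.reverse rfl : (X : R[X]) ∣ X * f.reverse))) hcond)
      (pullback.lift_snd _ _ _) hsurj
      (rebase (SpM (kap R)) (SpM (algebraMap R R[X])) (SpM (algebraMap R[X] (Lr R)))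
        (SpM (algebraMap R R[X])) kap_base P).isTorsor
  refine ⟨E, act, ε₀, SpM (ev0s f hf) ≫ s₁, htors, hpb, ?_⟩
  rw [Category.assoc, hs₁, ← SpM_comp, ev0s_comp]

/-- Sections near infinity. -/
theorem sigma_infty {E : Over (Spec (CommRingCat.of R[X]))} (X : Over (Spec (CommRingCat.of R[X])))
    (ε₀ : pullback X.hom (SpM (kap R)) ⟶ E.left)
    (hpb : IsPullback (pullback.snd X.hom (SpM (kap R))) ε₀ (SpM (algebraMap R[X] (Lr R))) E.hom)
    (K : Type u) [CommRing K] (φ : R →+* K)
    (x : Spec (CommRingCat.of K[X]) ⟶ X.left) (hx : x ≫ X.hom = SpM (mapRingHom φ)) :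
    ∃ σ : Spec (CommRingCat.of (Lr K)) ⟶ E.left,
      σ ≫ E.hom = SpM (algebraMap K[X] (Lr K)) ≫ SpM (mapRingHom φ) := by
  have hcond : (SpM (kap K) ≫ x) ≫ X.hom = SpM (lrMap φ) ≫ SpM (kap R) := by
    rw [Category.assoc, hx, ← SpM_comp, ← SpM_comp, lrMap_kap]
  refine ⟨pullback.lift (SpM (kap K) ≫ x) (SpM (lrMap φ)) hcond ≫ ε₀, ?_⟩
  rw [Category.assoc, ← hpb.w, ← Category.assoc, pullback.lift_snd, ← SpM_comp, ← SpM_comp,
    lrMap_comp]

/-- A point over `t = 1`. -/
theorem point_one {E : Over (Spec (CommRingCat.of R[X]))} (X : Over (Spec (CommRingCat.of R[X])))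
    (ε₀ : pullback X.hom (SpM (kap R)) ⟶ E.left)
    (hpb : IsPullback (pullback.snd X.hom (SpM (kap R))) ε₀ (SpM (algebraMap R[X] (Lr R))) E.hom)
    (s : Spec (CommRingCat.of R[X]) ⟶ E.left) (hs : s ≫ E.hom = 𝟙 _) :
    ∃ ρ' : Spec (CommRingCat.of R) ⟶ X.left, ρ' ≫ X.hom = SpM (evalRingHom (1 : R)) := by
  have hcond : SpM (evL R) ≫ SpM (algebraMap R[X] (Lr R)) =
      (SpM (evL R) ≫ SpM (algebraMap R[X] (Lr R)) ≫ s) ≫ E.hom := by
    rw [Category.assoc, Category.assoc, hs, Category.comp_id]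
  refine ⟨hpb.lift (SpM (evL R)) (SpM (evL R) ≫ SpM (algebraMap R[X] (Lr R)) ≫ s) hcond ≫
    pullback.fst X.hom (SpM (kap R)), ?_⟩
  rw [Category.assoc, pullback.condition, ← Category.assoc, hpb.lift_fst, ← SpM_comp, evL_kap]

/-- From a point over `t = 1` and local sections to a global section. -/
theorem shift_patch [LocallyOfFinitePresentation G.hom]
    (P : NonAbH1.TorsorSch (Red.bc (SpM (algebraMap R R[X])) G) Scheme.fppfPrecoverage)
    (ρ' : Spec (CommRingCat.of R) ⟶ P.X.left) (hρ' : ρ' ≫ P.X.hom = SpM (evalRingHom (1 : R)))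
    (hloc : ∀ (m : Ideal R) [m.IsMaximal],
      ∃ x : Spec (CommRingCat.of (Localization.AtPrime m)[X]) ⟶ P.X.left,
        x ≫ P.X.hom = SpM (mapRingHom (algebraMap R (Localization.AtPrime m)))) :
    ∃ x : Spec (CommRingCat.of R[X]) ⟶ P.X.left, x ≫ P.X.hom = 𝟙 _ := by
  haveI : LocallyOfFinitePresentation (Red.bc (SpM (algebraMap R R[X])) G).hom := lfp_bc _
  haveI : LocallyOfFinitePresentation P.X.hom := lfp_of_torsor P.act P.isTorsor
  have hc : SpM (sh R) ≫ SpM (algebraMap R R[X]) = SpM (algebraMap R R[X]) := by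
    rw [← SpM_comp, sh_comp_alg]
  have hρ : ρ' ≫ P.X.hom = SpM (evalRingHom (0 : R)) ≫ SpM (sh R) := by
    rw [hρ', ← SpM_comp, ev0_sh]
  obtain ⟨x, hx⟩ := patch_main (SpM (algebraMap R R[X])) P.act (SpM (sh R)) P.isTorsor.1 hc ρ' hρ
    (fun m _ => by
      obtain ⟨xm, hxm⟩ := hloc m
      refine ⟨SpM (sh (Localization.AtPrime m)) ≫ xm, ?_⟩
      show (SpM (sh (Localization.AtPrime m)) ≫ xm) ≫ P.X.hom =
        SpM (mapRingHom (algebraMap R (Localization.AtPrime m))) ≫ SpM (sh R)
      rw [Category.assoc, hxm, ← SpM_comp, ← SpM_comp, sh_map])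
  refine ⟨SpM (shInv R) ≫ x, ?_⟩
  rw [Category.assoc, hx, ← SpM_comp, shInv_sh, SpM_id]

/-- **S17851.** -/
theorem main_line [LocallyOfFinitePresentation G.hom] (hloc : LocHyp G)
    (P : NonAbH1.TorsorSch (Red.bc (SpM (algebraMap R R[X])) G) Scheme.fppfPrecoverage)
    (I : Ideal R[X]) (hI : Module.Finite R (R[X] ⧸ I))
    (hX : NonAbH1.HasSectionOver P.X (Scheme.Opens.ι
      (⟨(PrimeSpectrum.zeroLocus (I : Set R[X]))ᶜ,
        (PrimeSpectrum.isClosed_zeroLocus _).isOpen_compl⟩ :
        (Spec (CommRingCat.of R[X])).Opens))) :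
    NonAbH1.HasSectionOver P.X (𝟙 (Spec (CommRingCat.of R[X]))) := by
  haveI : LocallyOfFinitePresentation (Red.bc (SpM (algebraMap R R[X])) G).hom := lfp_bc _
  obtain ⟨f, hfI, hf⟩ := exists_monic_mem I hI
  obtain ⟨sU, hsU⟩ := hX
  have hrange : Set.range (SpM (algebraMap R[X] (Localization.Away f))) ⊆
      Set.range (Scheme.Opens.ι
        (⟨(PrimeSpectrum.zeroLocus (I : Set R[X]))ᶜ,
          (PrimeSpectrum.isClosed_zeroLocus _).isOpen_compl⟩ :
          (Spec (CommRingCat.of R[X])).Opens)) := by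
    rw [Scheme.Opens.range_ι, range_away f (Localization.Away f)]
    intro x hx
    show x ∉ PrimeSpectrum.zeroLocus (I : Set R[X])
    intro hxI
    exact hx ((PrimeSpectrum.mem_zeroLocus (x : PrimeSpectrum R[X]) _).mp hxI hfI)
  obtain ⟨j, hj⟩ : ∃ j : Spec (CommRingCat.of (Localization.Away f)) ⟶
      ((⟨(PrimeSpectrum.zeroLocus (I : Set R[X]))ᶜ,
        (PrimeSpectrum.isClosed_zeroLocus _).isOpen_compl⟩ :
        (Spec (CommRingCat.of R[X])).Opens) : Scheme.{u}),
      j ≫ Scheme.Opens.ι _ = SpM (algebraMap R[X] (Localization.Away f)) :=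
    ⟨IsOpenImmersion.lift _ _ hrange, IsOpenImmersion.lift_fac _ _ _⟩
  have hτf : (j ≫ sU) ≫ P.X.hom = SpM (algebraMap R[X] (Localization.Away f)) := by
    rw [Category.assoc, hsU, hj]
  -- local sections of `X`
  have hXloc : ∀ (m : Ideal R) [m.IsMaximal],
      ∃ x : Spec (CommRingCat.of (Localization.AtPrime m)[X]) ⟶ P.X.left,
        x ≫ P.X.hom = SpM (mapRingHom (algebraMap R (Localization.AtPrime m))) := by
    intro m _
    refine L_loc hloc P m (f.map (algebraMap R (Localization.AtPrime m))) (hf.map _)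
      (SpM (awayMap f (algebraMap R (Localization.AtPrime m))) ≫ j ≫ sU) ?_
    rw [Category.assoc, hτf, ← SpM_comp, ← SpM_comp, awayMap_comp]
  -- glueing at infinity
  obtain ⟨E, act, ε₀, ρ, htors, hpb, hρ⟩ := glue_infty P f hf (j ≫ sU) hτf
  haveI : LocallyOfFinitePresentation E.hom := lfp_of_torsor act htors
  have hEloc : ∀ (m : Ideal R) [m.IsMaximal],
      Sec (Z := E) (𝟙 (Spec (CommRingCat.of R[X]))) (Localization.AtPrime m) := by
    intro m _
    obtain ⟨xm, hxm⟩ := hXloc m
    obtain ⟨σ, hσ⟩ := sigma_infty P.X ε₀ hpb (Localization.AtPrime m)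
      (algebraMap R (Localization.AtPrime m)) xm hxm
    obtain ⟨y, hy⟩ := L_loc hloc ⟨E, act, htors⟩ m (X : (Localization.AtPrime m)[X])
      Polynomial.monic_X σ hσ
    refine ⟨y, ?_⟩
    show y ≫ E.hom = SpM (mapRingHom (algebraMap R (Localization.AtPrime m))) ≫ 𝟙 _
    rw [Category.comp_id]
    exact hy
  obtain ⟨s, hs⟩ := patch_main (SpM (algebraMap R R[X])) act (𝟙 (Spec (CommRingCat.of R[X])))
    htors.1 (Category.id_comp _) ρ (by rw [hρ, Category.comp_id]) hEloc
  obtain ⟨ρ', hρ'⟩ := point_one P.X ε₀ hpb s hs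
  exact shift_patch P ρ' hρ' hXloc

end Assembly

end Groth.Agent.Lib.TLineH4
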