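import Groth.Agent.Lib.TLoc_helper5

/-!
# Exactness of a linear functor commuting with filtered colimits is local (helper5)
-/

set_option autoImplicit false
universe u
open CategoryTheory CategoryTheory.Limits

namespace Groth.Agent.TLocEx5

variable {A : Type u} [CommRing A]

section general

variable (T : ModuleCat.{u} A ⥤ ModuleCat.{u} A) [T.Additive] [T.Linear A]
  (hT : ∀ (J : Type u) [SmallCategory J] [IsFiltered J], PreservesColimitsOfShape J T)

include hT in
/-- `T` carries every localization map to a localization map. -/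
theorem isLocalizedModule_map (S : Submonoid A) {M M' : ModuleCat.{u} A} (φ : M ⟶ M')
    (hφ : IsLocalizedModule S φ.hom) : IsLocalizedModule S (T.map φ).hom := by
  let L : ModuleCat.{u} A := ModuleCat.of A (LocalizedModule S M)
  let mk : M ⟶ L := ModuleCat.ofHom (LocalizedModule.mkLinearMap S M)
  let e : L ≅ M' := (IsLocalizedModule.iso S φ.hom).toModuleIso
  have hfac : φ = mk ≫ e.hom := by
    apply ModuleCat.hom_ext
    apply LinearMap.ext
    intro x
    show φ.hom x = IsLocalizedModule.iso S φ.hom (LocalizedModule.mkLinearMap S M x)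
    rw [LocalizedModule.mkLinearMap_apply, IsLocalizedModule.iso_mk_one]
  rw [hfac, T.map_comp, ModuleCat.hom_comp]
  haveI : IsLocalizedModule S (T.map mk).hom := TLoc5.main T hT S M
  have hbij : Function.Bijective (T.map e.hom).hom :=
    ConcreteCategory.bijective_of_isIso (T.map e.hom)
  exact (IsLocalizedModule.comp_iff_of_bijective_left (S := S) (f := (T.map mk).hom)
    (T.map e.hom).hom hbij).mpr inferInstance

end general

section local_

variable (m : Ideal A) [m.IsMaximal]

/-- restriction of scalars from `A_m` to `A`. -/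
noncomputable abbrev Rm : ModuleCat.{u} (Localization.AtPrime m) ⥤ ModuleCat.{u} A :=
  ModuleCat.restrictScalars.{u} (algebraMap A (Localization.AtPrime m))

/-- localization at `m`. -/
noncomputable abbrev Fm : ModuleCat.{u} A ⥤ ModuleCat.{u} (Localization.AtPrime m) :=
  ModuleCat.localizedModuleFunctor.{u} m.primeCompl

/-- the identity, as an `A`-linear equivalence between the two `A`-module structures on `M_m`. -/
noncomputable def idEquiv (M : ModuleCat.{u} A) :
    (M.localizedModule m.primeCompl) ≃ₗ[A] ((Rm m).obj ((Fm m).obj M)) where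
  toFun x := x
  invFun x := x
  left_inv _ := rfl
  right_inv _ := rfl
  map_add' _ _ := rfl
  map_smul' a x :=
    (algebraMap_smul (Localization.AtPrime m) a (x : M.localizedModule m.primeCompl)).symm

/-- the localization map `M ⟶ M_m` with `M_m` regarded as an `A`-module by restriction. -/
noncomputable def η (M : ModuleCat.{u} A) : M ⟶ (Rm m).obj ((Fm m).obj M) :=
  ModuleCat.ofHom (X := M) (Y := ((Rm m).obj ((Fm m).obj M) : ModuleCat.{u} A))
    ((idEquiv m M).toLinearMap ∘ₗ M.localizedModuleMkLinearMap m.primeCompl)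

theorem η_apply (M : ModuleCat.{u} A) (x : M) :
    (η m M).hom x = M.localizedModuleMkLinearMap m.primeCompl x := rfl

instance (M : ModuleCat.{u} A) : IsLocalizedModule m.primeCompl (η m M).hom := by
  show IsLocalizedModule m.primeCompl
    ((idEquiv m M).toLinearMap ∘ₗ M.localizedModuleMkLinearMap m.primeCompl)
  infer_instance

theorem Fm_map_apply {M N : ModuleCat.{u} A} (g : M ⟶ N) (x : M) :
    ((Fm m).map g).hom (M.localizedModuleMkLinearMap m.primeCompl x) =
      N.localizedModuleMkLinearMap m.primeCompl (g.hom x) :=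
  (ModuleCat.localizedModuleMap_hom_apply m.primeCompl g _).trans
    (IsLocalizedModule.map_apply _ _ _ _ _)

theorem η_naturality {M N : ModuleCat.{u} A} (g : M ⟶ N) :
    η m M ≫ (Rm m).map ((Fm m).map g) = g ≫ η m N := by
  apply ModuleCat.hom_ext
  apply LinearMap.ext
  intro x
  exact Fm_map_apply m g x

variable (T : ModuleCat.{u} A ⥤ ModuleCat.{u} A) [T.Additive] [T.Linear A]
  (hT : ∀ (J : Type u) [SmallCategory J] [IsFiltered J], PreservesColimitsOfShape J T)

include hT in
theorem isLoc_Tη (M : ModuleCat.{u} A) : IsLocalizedModule m.primeCompl (T.map (η m M)).hom :=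
  isLocalizedModule_map T hT m.primeCompl (η m M) inferInstance

include hT in
/-- the localization of `T g` is `T (g_m)`. -/
theorem map_eq {M N : ModuleCat.{u} A} (g : M ⟶ N) :
    haveI := isLoc_Tη m T hT M
    haveI := isLoc_Tη m T hT N
    IsLocalizedModule.map m.primeCompl (T.map (η m M)).hom (T.map (η m N)).hom (T.map g).hom =
      (T.map ((Rm m).map ((Fm m).map g))).hom := by
  haveI := isLoc_Tη m T hT M
  haveI := isLoc_Tη m T hT N
  apply IsLocalizedModule.linearMap_ext m.primeCompl (T.map (η m M)).hom (T.map (η m N)).hom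
  rw [IsLocalizedModule.map_comp]
  have h1 : T.map (η m M) ≫ T.map ((Rm m).map ((Fm m).map g)) = T.map g ≫ T.map (η m N) := by
    rw [← T.map_comp, ← T.map_comp, η_naturality]
  exact (congrArg ModuleCat.Hom.hom h1).symm

end local_

variable (T : ModuleCat.{u} A ⥤ ModuleCat.{u} A) [T.Additive] [T.Linear A]
  (hT : ∀ (J : Type u) [SmallCategory J] [IsFiltered J], PreservesColimitsOfShape J T)

include hT in
theorem part1
    (h : ∀ (m : Ideal A) [m.IsMaximal],
      PreservesFiniteLimits (ModuleCat.restrictScalars (algebraMap A (Localization.AtPrime m)) ⋙ T)) :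
    PreservesFiniteLimits T := by
  rw [Functor.preservesFiniteLimits_iff_forall_exact_map_and_mono]
  intro S hS
  haveI h1 : ∀ (m : Ideal A) [m.IsMaximal],
      IsLocalizedModule.AtPrime m (T.map (η m S.X₁)).hom := fun m _ => isLoc_Tη m T hT _
  haveI h2 : ∀ (m : Ideal A) [m.IsMaximal],
      IsLocalizedModule.AtPrime m (T.map (η m S.X₂)).hom := fun m _ => isLoc_Tη m T hT _
  haveI h3 : ∀ (m : Ideal A) [m.IsMaximal],
      IsLocalizedModule.AtPrime m (T.map (η m S.X₃)).hom := fun m _ => isLoc_Tη m T hT _
  have key : ∀ (m : Ideal A) [m.IsMaximal],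
      Function.Exact
        (IsLocalizedModule.map m.primeCompl (T.map (η m S.X₁)).hom (T.map (η m S.X₂)).hom
          (T.map S.f).hom)
        (IsLocalizedModule.map m.primeCompl (T.map (η m S.X₂)).hom (T.map (η m S.X₃)).hom
          (T.map S.g).hom) ∧
      Function.Injective
        (IsLocalizedModule.map m.primeCompl (T.map (η m S.X₁)).hom (T.map (η m S.X₂)).hom
          (T.map S.f).hom) := by
    intro m _
    have hS' := hS.map_of_exact (Fm m)
    obtain ⟨hex, hmono⟩ := (Functor.preservesFiniteLimits_iff_forall_exact_map_and_mono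
      (Rm m ⋙ T)).mp (h m) _ hS'
    rw [map_eq m T hT S.f, map_eq m T hT S.g]
    constructor
    · exact (ShortComplex.ShortExact.moduleCat_exact_iff_function_exact _).mp hex
    · exact (ModuleCat.mono_iff_injective _).mp hmono
  constructor
  · rw [ShortComplex.ShortExact.moduleCat_exact_iff_function_exact]
    exact exact_of_isLocalized_maximal _ (fun m _ => (T.map (η m S.X₁)).hom)
      _ (fun m _ => (T.map (η m S.X₂)).hom) _ (fun m _ => (T.map (η m S.X₃)).hom)
      (T.map S.f).hom (T.map S.g).hom (fun m _ => (key m).1)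
  · rw [ModuleCat.mono_iff_injective]
    exact injective_of_isLocalized_maximal _ (fun m _ => (T.map (η m S.X₁)).hom)
      _ (fun m _ => (T.map (η m S.X₂)).hom) (T.map S.f).hom (fun m _ => (key m).2)

include hT in
theorem part2
    (h : ∀ (m : Ideal A) [m.IsMaximal],
      PreservesFiniteColimits
        (ModuleCat.restrictScalars (algebraMap A (Localization.AtPrime m)) ⋙ T)) :
    PreservesFiniteColimits T := by
  rw [Functor.preservesFiniteColimits_iff_forall_exact_map_and_epi]
  intro S hS
  haveI h1 : ∀ (m : Ideal A) [m.IsMaximal],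
      IsLocalizedModule.AtPrime m (T.map (η m S.X₁)).hom := fun m _ => isLoc_Tη m T hT _
  haveI h2 : ∀ (m : Ideal A) [m.IsMaximal],
      IsLocalizedModule.AtPrime m (T.map (η m S.X₂)).hom := fun m _ => isLoc_Tη m T hT _
  haveI h3 : ∀ (m : Ideal A) [m.IsMaximal],
      IsLocalizedModule.AtPrime m (T.map (η m S.X₃)).hom := fun m _ => isLoc_Tη m T hT _
  have key : ∀ (m : Ideal A) [m.IsMaximal],
      Function.Exact
        (IsLocalizedModule.map m.primeCompl (T.map (η m S.X₁)).hom (T.map (η m S.X₂)).hom
          (T.map S.f).hom)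
        (IsLocalizedModule.map m.primeCompl (T.map (η m S.X₂)).hom (T.map (η m S.X₃)).hom
          (T.map S.g).hom) ∧
      Function.Surjective
        (IsLocalizedModule.map m.primeCompl (T.map (η m S.X₂)).hom (T.map (η m S.X₃)).hom
          (T.map S.g).hom) := by
    intro m _
    have hS' := hS.map_of_exact (Fm m)
    obtain ⟨hex, hepi⟩ := (Functor.preservesFiniteColimits_iff_forall_exact_map_and_epi
      (Rm m ⋙ T)).mp (h m) _ hS'
    rw [map_eq m T hT S.f, map_eq m T hT S.g]
    constructor
    · exact (ShortComplex.ShortExact.moduleCat_exact_iff_function_exact _).mp hex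
    · exact (ModuleCat.epi_iff_surjective _).mp hepi
  constructor
  · rw [ShortComplex.ShortExact.moduleCat_exact_iff_function_exact]
    exact exact_of_isLocalized_maximal _ (fun m _ => (T.map (η m S.X₁)).hom)
      _ (fun m _ => (T.map (η m S.X₂)).hom) _ (fun m _ => (T.map (η m S.X₃)).hom)
      (T.map S.f).hom (T.map S.g).hom (fun m _ => (key m).1)
  · rw [ModuleCat.epi_iff_surjective]
    exact surjective_of_isLocalized_maximal _ (fun m _ => (T.map (η m S.X₂)).hom)
      _ (fun m _ => (T.map (η m S.X₃)).hom) (T.map S.g).hom (fun m _ => (key m).2)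

end Groth.Agent.TLocEx5
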