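import Mathlib

/-!
# Linear functors commuting with filtered colimits commute with localization (helper5)
-/

set_option autoImplicit false
universe u
open CategoryTheory CategoryTheory.Limits

namespace Groth.Agent.TLoc5

variable {A : Type u} [CommRing A]

/-- the index category: objects are the elements of `S`, morphisms `a ⟶ b` are the `v ∈ S`
with `a * v = b`. -/
structure Idx (S : Submonoid A) : Type u where
  /-- the underlying element -/
  s : S

namespace Idx

variable {S : Submonoid A}

instance : Category.{u} (Idx S) where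
  Hom a b := {v : S // a.s * v = b.s}
  id a := ⟨1, mul_one _⟩
  comp {a b c} f g := ⟨f.1 * g.1, by rw [← mul_assoc, f.2, g.2]⟩
  id_comp f := Subtype.ext (one_mul _)
  comp_id f := Subtype.ext (mul_one _)
  assoc f g h := Subtype.ext (mul_assoc _ _ _)

theorem comp_val {a b c : Idx S} (f : a ⟶ b) (g : b ⟶ c) : (f ≫ g).1 = f.1 * g.1 := rfl

theorem id_val (a : Idx S) : (𝟙 a : a ⟶ a).1 = 1 := rfl

instance : IsFilteredOrEmpty (Idx S) where
  cocone_objs a b := ⟨⟨a.s * b.s⟩, ⟨b.s, rfl⟩, ⟨a.s, mul_comm _ _⟩, trivial⟩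
  cocone_maps a b f g := ⟨⟨b.s * a.s⟩, ⟨a.s, rfl⟩, Subtype.ext (by
    rw [comp_val, comp_val]
    show f.1 * a.s = g.1 * a.s
    rw [mul_comm f.1, mul_comm g.1, f.2, g.2])⟩

instance : IsFiltered (Idx S) where
  nonempty := ⟨⟨1⟩⟩

end Idx

variable (S : Submonoid A) (N : ModuleCat.{u} A)

/-- the diagram `s ↦ N` with transition maps multiplication by `v`. -/
noncomputable def diag : Idx S ⥤ ModuleCat.{u} A where
  obj _ := N
  map {a b} f := ((f.1 : S) : A) • 𝟙 N
  map_id a := by
    rw [Idx.id_val, Submonoid.coe_one, one_smul]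
  map_comp {a b c} f g := by
    rw [Idx.comp_val, Linear.smul_comp, Linear.comp_smul, Category.comp_id, smul_smul,
      Submonoid.coe_mul]

theorem diag_map_apply {a b : Idx S} (f : a ⟶ b) (n : N) :
    ((diag S N).map f).hom n = ((f.1 : S) : A) • n := rfl

/-- `n ↦ n / s`. -/
noncomputable def leg (s : S) : N →ₗ[A] LocalizedModule S N :=
  (LocalizedModule.divBy s).comp (LocalizedModule.mkLinearMap S N)

theorem leg_apply (s : S) (n : N) : leg S N s n = LocalizedModule.mk n s := by
  show LocalizedModule.divBy s (LocalizedModule.mkLinearMap S N n) = _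
  rw [LocalizedModule.mkLinearMap_apply, LocalizedModule.divBy_apply, LocalizedModule.liftOn_mk,
    one_mul]

theorem leg_one : leg S N 1 = LocalizedModule.mkLinearMap S N := by
  ext n
  rw [leg_apply, LocalizedModule.mkLinearMap_apply]

/-- the cocone with vertex `S⁻¹N`. -/
noncomputable def cocone : Cocone (diag S N) where
  pt := ModuleCat.of A (LocalizedModule S N)
  ι :=
    { app := fun a => ModuleCat.ofHom (leg S N a.s)
      naturality := fun a b f => by
        apply ModuleCat.hom_ext
        apply LinearMap.ext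
        intro n
        show leg S N b.s (((f.1 : S) : A) • n) = leg S N a.s n
        rw [leg_apply, leg_apply]
        exact (congrArg (LocalizedModule.mk (((f.1 : S) : A) • (n : N))) f.2.symm).trans
          (LocalizedModule.mk_cancel_common_right a.s f.1 n) }

theorem cocone_ι_apply (a : Idx S) (n : N) :
    ((cocone S N).ι.app a).hom n = LocalizedModule.mk n a.s := leg_apply S N a.s n

/-- `S⁻¹N` is the filtered colimit of the diagram. -/
noncomputable def isColimitCocone : IsColimit (cocone S N) := by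
  haveI : ReflectsColimitsOfShape (Idx S) (forget (ModuleCat.{u} A)) :=
    ReflectsFilteredColimitsOfSize.reflects_filtered_colimits (Idx S)
  apply isColimitOfReflects (forget (ModuleCat.{u} A))
  apply Types.FilteredColimit.isColimitOf
  · intro x
    induction x using LocalizedModule.induction_on with
    | h m s => exact ⟨⟨s⟩, m, (leg_apply S N s m).symm⟩
  · intro i j xi xj h
    have h' : LocalizedModule.mk xi i.s = LocalizedModule.mk xj j.s :=
      (leg_apply S N i.s xi).symm.trans (h.trans (leg_apply S N j.s xj))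
    obtain ⟨v, hv⟩ := LocalizedModule.mk_eq.mp h'
    refine ⟨⟨i.s * j.s * v⟩, ⟨j.s * v, by rw [mul_assoc]⟩,
      ⟨i.s * v, by rw [← mul_assoc, mul_comm j.s i.s]⟩, ?_⟩
    show ((j.s * v : S) : A) • xi = ((i.s * v : S) : A) • xj
    have hv' : ((v : S) : A) • ((j.s : S) : A) • xi = ((v : S) : A) • ((i.s : S) : A) • xj := hv
    rw [Submonoid.coe_mul, Submonoid.coe_mul, mul_comm ((j.s : S) : A), mul_comm ((i.s : S) : A),
      mul_smul, mul_smul, hv']

variable {S N} in
theorem main (T : ModuleCat.{u} A ⥤ ModuleCat.{u} A) [T.Additive] [T.Linear A]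
    (hT : ∀ (J : Type u) [SmallCategory J] [IsFiltered J], PreservesColimitsOfShape J T)
    (S : Submonoid A) (M : ModuleCat.{u} A) :
    IsLocalizedModule S (T.map (ModuleCat.ofHom (LocalizedModule.mkLinearMap S M) :
      M ⟶ ModuleCat.of A (LocalizedModule S M))).hom := by
  haveI := hT (Idx S)
  haveI : PreservesColimitsOfShape (Idx S) (forget (ModuleCat.{u} A)) :=
    PreservesFilteredColimitsOfSize.preserves_filtered_colimits (Idx S)
  have hc := isColimitOfPreserves T (isColimitCocone S M)
  have hc' := isColimitOfPreserves (forget (ModuleCat.{u} A)) hc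
  -- `T` of multiplication by `a` is multiplication by `a`
  have hTsmul : ∀ (a : A) (X : ModuleCat.{u} A) (x : T.obj X),
      (T.map (a • 𝟙 X)).hom x = a • x := by
    intro a X x
    rw [Functor.map_smul, T.map_id]
    rfl
  let L : ModuleCat.{u} A := ModuleCat.of A (LocalizedModule S M)
  have hw : ∀ j : Idx S, (((j.s : S) : A) • 𝟙 M : M ⟶ M) ≫
      (ModuleCat.ofHom (leg S M j.s) : M ⟶ L) =
      (ModuleCat.ofHom (LocalizedModule.mkLinearMap S M) : M ⟶ L) := by
    intro j
    apply ModuleCat.hom_ext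
    apply LinearMap.ext
    intro n
    show leg S M j.s (((j.s : S) : A) • n) = LocalizedModule.mkLinearMap S M n
    rw [leg_apply, LocalizedModule.mkLinearMap_apply]
    exact LocalizedModule.mk_cancel j.s n
  -- the legs after applying `T`
  have hrel : ∀ (j : Idx S) (x : T.obj M),
      (T.map (ModuleCat.ofHom (LocalizedModule.mkLinearMap S M) : M ⟶ L)).hom x =
        ((j.s : S) : A) • (T.map (ModuleCat.ofHom (leg S M j.s) : M ⟶ L)).hom x := by
    intro j x
    have h2 : (T.map ((((j.s : S) : A) • 𝟙 M : M ⟶ M) ≫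
        (ModuleCat.ofHom (leg S M j.s) : M ⟶ L))).hom x =
        (T.map (ModuleCat.ofHom (LocalizedModule.mkLinearMap S M) : M ⟶ L)).hom x := by
      rw [hw j]
    rw [T.map_comp] at h2
    have h3 : (T.map (ModuleCat.ofHom (leg S M j.s) : M ⟶ L)).hom
        ((T.map (((j.s : S) : A) • 𝟙 M : M ⟶ M)).hom x) =
        (T.map (ModuleCat.ofHom (LocalizedModule.mkLinearMap S M) : M ⟶ L)).hom x := h2
    rw [hTsmul, map_smul] at h3
    exact h3.symm
  refine ⟨?_, ?_, ?_⟩
  · intro s
    rw [Module.End.isUnit_iff]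
    have hbij : Function.Bijective (((s : A) • 𝟙 L : L ⟶ L)).hom := by
      have := (Module.End.isUnit_iff _).mp
        (IsLocalizedModule.map_units (S := S) (LocalizedModule.mkLinearMap S M) s)
      exact this
    haveI : IsIso ((s : A) • 𝟙 L : L ⟶ L) :=
      (ConcreteCategory.isIso_iff_bijective _).mpr hbij
    have hiso : IsIso (T.map ((s : A) • 𝟙 L : L ⟶ L)) := inferInstance
    have hb := (ConcreteCategory.isIso_iff_bijective _).mp hiso
    have heq : ∀ x : T.obj L, (algebraMap A (Module.End A (T.obj L)) (s : A)) x =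
        (T.map ((s : A) • 𝟙 L : L ⟶ L)).hom x := by
      intro x
      rw [hTsmul]
      rfl
    constructor
    · intro x y hxy
      apply hb.1
      show (T.map ((s : A) • 𝟙 L : L ⟶ L)).hom x = (T.map ((s : A) • 𝟙 L : L ⟶ L)).hom y
      rw [← heq, ← heq]
      exact hxy
    · intro y
      obtain ⟨x, hx⟩ := hb.2 y
      refine ⟨x, ?_⟩
      rw [heq]
      exact hx
  · intro y
    obtain ⟨j, x, hx⟩ := Types.jointly_surjective_of_isColimit hc' y
    refine ⟨(x, j.s), ?_⟩
    have hx' : (T.map (ModuleCat.ofHom (leg S M j.s) : M ⟶ L)).hom x = y := hx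
    show (j.s : S) • y = _
    rw [hrel j x, hx']
    rfl
  · intro x₁ x₂ h
    have h1 : (T.map (ModuleCat.ofHom (leg S M 1) : M ⟶ L)).hom x₁ =
        (T.map (ModuleCat.ofHom (leg S M 1) : M ⟶ L)).hom x₂ := by
      rw [leg_one]
      exact h
    obtain ⟨j, f, hf⟩ := (Types.FilteredColimit.isColimit_eq_iff' hc' (i := (⟨1⟩ : Idx S)) x₁ x₂).mp h1
    refine ⟨f.1, ?_⟩
    have hf' : (T.map (((f.1 : S) : A) • 𝟙 M : M ⟶ M)).hom x₁ =
        (T.map (((f.1 : S) : A) • 𝟙 M : M ⟶ M)).hom x₂ := hf
    rw [hTsmul, hTsmul] at hf'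
    exact hf'

end Groth.Agent.TLoc5
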