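import Mathlib
import Groth.Agent.Lib.AzumayaTensor_helper6

/-!
# Tensor powers `⨂[R] _ : ι, A` as algebras: reindexing, sums of index types (helper6)
-/

set_option autoImplicit false

namespace Groth.Agent.Lib.TPowH6

open PiTensorProduct TensorProduct

universe u v

section algequivs

variable (R : Type u) [CommRing R] (A : Type v) [Ring A] [Algebra R A]

/-- reindexing of a constant tensor power, as an algebra isomorphism. -/
noncomputable def reindexAlg {ι ι₂ : Type*} (e : ι ≃ ι₂) :
    (⨂[R] _ : ι, A) ≃ₐ[R] (⨂[R] _ : ι₂, A) :=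
  AlgEquiv.ofLinearEquiv (reindex R (fun _ => A) e)
    (by
      rw [PiTensorProduct.one_def, reindex_tprod]
      rfl)
    (by
      have h := (LinearMap.map_mul_iff (reindex R (fun _ : ι => A) e).toLinearMap).mpr (by
        ext x y
        simp only [LinearMap.compMultilinearMap_apply, LinearMap.compr₂_apply,
          LinearMap.mul_apply', LinearMap.compl₂_apply, LinearMap.comp_apply,
          LinearEquiv.coe_coe, tprod_mul_tprod, reindex_tprod]
        rfl)
      exact h)

@[simp] theorem reindexAlg_tprod {ι ι₂ : Type*} (e : ι ≃ ι₂) (a : ι → A) :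
    reindexAlg R A e (tprod R a) = tprod R (fun i => a (e.symm i)) := by
  show reindex R (fun _ => A) e (tprod R a) = _
  rw [reindex_tprod]

/-- `(⨂_ι A) ⊗ (⨂_ι₂ A) ≃ₐ ⨂_{ι ⊕ ι₂} A`. -/
noncomputable def tmulAlg (ι ι₂ : Type*) :
    ((⨂[R] _ : ι, A) ⊗[R] (⨂[R] _ : ι₂, A)) ≃ₐ[R] (⨂[R] _ : ι ⊕ ι₂, A) :=
  AlgEquiv.ofLinearEquiv (tmulEquiv R A)
    (by
      rw [Algebra.TensorProduct.one_def, PiTensorProduct.one_def, PiTensorProduct.one_def,
        tmulEquiv_apply, PiTensorProduct.one_def]
      congr 1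
      funext i
      cases i <;> rfl)
    (by
      have h := (LinearMap.map_mul_iff (tmulEquiv (ι := ι) (ι₂ := ι₂) R A).toLinearMap).mpr (by
        ext a b a' b'
        simp only [LinearMap.compMultilinearMap_apply, LinearMap.compr₂_apply,
          LinearMap.mul_apply', LinearMap.compl₂_apply, LinearMap.comp_apply,
          LinearEquiv.coe_coe, tprod_mul_tprod, AlgebraTensorModule.curry_apply,
          TensorProduct.curry_apply, LinearMap.coe_restrictScalars,
          Algebra.TensorProduct.tmul_mul_tmul, tmulEquiv_apply]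
        congr 1
        funext i
        cases i <;> rfl)
      exact h)

@[simp] theorem tmulAlg_tmul (ι ι₂ : Type*) (a : ι → A) (b : ι₂ → A) :
    tmulAlg R A ι ι₂ (tprod R a ⊗ₜ[R] tprod R b) = tprod R (Sum.elim a b) := by
  show tmulEquiv R A (tprod R a ⊗ₜ[R] tprod R b) = _
  rw [tmulEquiv_apply]

/-- `⨂_ι A ≃ₐ A` for a one-element index type. -/
noncomputable def uniqueAlg (ι : Type*) [Unique ι] : (⨂[R] _ : ι, A) ≃ₐ[R] A :=
  AlgEquiv.ofLinearEquiv (subsingletonEquiv (R := R) (s := fun _ : ι => A) (default : ι))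
    (by
      rw [PiTensorProduct.one_def, subsingletonEquiv_apply_tprod]
      rfl)
    (by
      have h := (LinearMap.map_mul_iff
        (subsingletonEquiv (R := R) (s := fun _ : ι => A) (default : ι)).toLinearMap).mpr (by
        ext x y
        simp only [LinearMap.compMultilinearMap_apply, LinearMap.compr₂_apply,
          LinearMap.mul_apply', LinearMap.compl₂_apply, LinearMap.comp_apply,
          LinearEquiv.coe_coe, tprod_mul_tprod, subsingletonEquiv_apply_tprod]
        rfl)
      exact h)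

/-- `⨂_ι A ≃ₐ R` for an empty index type. -/
noncomputable def emptyAlg (ι : Type*) [IsEmpty ι] : (⨂[R] _ : ι, A) ≃ₐ[R] R :=
  AlgEquiv.ofLinearEquiv (isEmptyEquiv (R := R) (s := fun _ : ι => A) ι)
    (by
      rw [PiTensorProduct.one_def, isEmptyEquiv_apply_tprod])
    (by
      have h := (LinearMap.map_mul_iff
        (isEmptyEquiv (R := R) (s := fun _ : ι => A) ι).toLinearMap).mpr (by
        ext x y
        simp only [LinearMap.compMultilinearMap_apply, LinearMap.compr₂_apply,
          LinearMap.mul_apply', LinearMap.compl₂_apply, LinearMap.comp_apply,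
          LinearEquiv.coe_coe, tprod_mul_tprod, isEmptyEquiv_apply_tprod, mul_one])
      exact h)

end algequivs

section azumaya

open Module Groth.Agent.Lib.AzumayaTensor

variable (R : Type u) [CommRing R] (A : Type v) [Ring A] [Algebra R A]

/-- `⨂_{Fin (m+1)} A ≃ₐ (⨂_{Fin m} A) ⊗ (⨂_{Fin 1} A)`. -/
noncomputable def succAlg (m : ℕ) :
    ((⨂[R] _ : Fin m, A) ⊗[R] (⨂[R] _ : Fin 1, A)) ≃ₐ[R] (⨂[R] _ : Fin (m + 1), A) :=
  (tmulAlg R A (Fin m) (Fin 1)).trans (reindexAlg R A finSumFinEquiv)

theorem isAzumaya_tpow_fin [IsAzumaya R A] : ∀ m : ℕ, IsAzumaya R (⨂[R] _ : Fin m, A)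
  | 0 => IsAzumaya.of_AlgEquiv (e := (emptyAlg R A (Fin 0)).symm)
  | m + 1 => by
      haveI := isAzumaya_tpow_fin m
      haveI : IsAzumaya R (⨂[R] _ : Fin 1, A) :=
        IsAzumaya.of_AlgEquiv (e := (uniqueAlg R A (Fin 1)).symm)
      haveI : IsAzumaya R ((⨂[R] _ : Fin m, A) ⊗[R] (⨂[R] _ : Fin 1, A)) :=
        isAzumaya_tensor R _ _
      exact IsAzumaya.of_AlgEquiv (e := succAlg R A m)

theorem rankAtStalk_tpow_fin [IsAzumaya R A] (p : PrimeSpectrum R) :
    ∀ m : ℕ, rankAtStalk (⨂[R] _ : Fin m, A) p = (rankAtStalk A p) ^ m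
  | 0 => by
      haveI : Nontrivial R := p.nontrivial
      rw [rankAtStalk_eq_of_equiv (emptyAlg R A (Fin 0)).toLinearEquiv, rankAtStalk_self,
        pow_zero, Pi.one_apply]
  | m + 1 => by
      haveI := isAzumaya_tpow_fin R A m
      haveI : IsAzumaya R (⨂[R] _ : Fin 1, A) :=
        IsAzumaya.of_AlgEquiv (e := (uniqueAlg R A (Fin 1)).symm)
      haveI : Module.Finite R (⨂[R] _ : Fin m, A) := IsAzumaya.toFinite
      haveI : Module.Projective R (⨂[R] _ : Fin m, A) := IsAzumaya.toProjective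
      haveI : Module.Finite R (⨂[R] _ : Fin 1, A) := IsAzumaya.toFinite
      haveI : Module.Projective R (⨂[R] _ : Fin 1, A) := IsAzumaya.toProjective
      rw [← rankAtStalk_eq_of_equiv (succAlg R A m).toLinearEquiv, rankAtStalk_tensorProduct,
        Pi.mul_apply, rankAtStalk_tpow_fin p m,
        rankAtStalk_eq_of_equiv (uniqueAlg R A (Fin 1)).toLinearEquiv, pow_succ]

end azumaya

end Groth.Agent.Lib.TPowH6
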