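import Mathlib

/-!
# Faithfully flat descent of elements of a module (helper6)
-/

set_option autoImplicit false

namespace Groth.Agent.Lib.TPowH6

open TensorProduct

universe u v w

section descent

variable (R : Type u) [CommRing R] (S : Type v) [CommRing S] [Algebra R S]
  [Module.FaithfullyFlat R S] (M : Type w) [AddCommGroup M] [Module R M]

/-- exactness of the Amitsur complex in degree zero: an element of `S ⊗ M` whose two pullbacks to
`(S ⊗ S) ⊗ M` agree comes from `M`. -/
theorem exists_of_rTensor_eq (x : S ⊗[R] M)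
    (h : LinearMap.rTensor M (Algebra.TensorProduct.includeLeft : S →ₐ[R] S ⊗[R] S).toLinearMap x =
      LinearMap.rTensor M (Algebra.TensorProduct.includeRight : S →ₐ[R] S ⊗[R] S).toLinearMap x) :
    ∃ m : M, (1 : S) ⊗ₜ[R] m = x := by
  have hex : Function.Exact (TensorProduct.mk R S M 1)
      (LinearMap.range (TensorProduct.mk R S M 1)).mkQ := LinearMap.exact_map_mkQ_range _
  have hsurj := Submodule.mkQ_surjective (LinearMap.range (TensorProduct.mk R S M 1))
  have hex' := lTensor_exact S hex hsurj
  have h1 : ∀ y : S ⊗[R] M, TensorProduct.assoc R S S M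
      (LinearMap.rTensor M (Algebra.TensorProduct.includeLeft : S →ₐ[R] S ⊗[R] S).toLinearMap y) =
      LinearMap.lTensor S (TensorProduct.mk R S M 1) y := by
    intro y
    induction y using TensorProduct.induction_on with
    | zero => simp
    | tmul s m => simp
    | add a b ha hb => rw [map_add, map_add, map_add, ha, hb]
  have h2 : ∀ y : S ⊗[R] M, TensorProduct.assoc R S S M
      (LinearMap.rTensor M (Algebra.TensorProduct.includeRight : S →ₐ[R] S ⊗[R] S).toLinearMap y) =
      (1 : S) ⊗ₜ[R] y := by
    intro y
    induction y using TensorProduct.induction_on with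
    | zero => simp
    | tmul s m => simp
    | add a b ha hb => rw [map_add, map_add, ha, hb, tmul_add]
  have h3 : (1 : S) ⊗ₜ[R] x = LinearMap.lTensor S (TensorProduct.mk R S M 1) x := by
    rw [← h1, ← h2, h]
  have h4 : LinearMap.lTensor S (LinearMap.range (TensorProduct.mk R S M 1)).mkQ
      ((1 : S) ⊗ₜ[R] x) = 0 := (hex' _).2 ⟨x, h3.symm⟩
  rw [LinearMap.lTensor_tmul] at h4
  have h5 : (LinearMap.range (TensorProduct.mk R S M 1)).mkQ x = 0 :=
    Module.FaithfullyFlat.tensorProduct_mk_injective (A := R) (B := S) _ (by simpa using h4)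
  obtain ⟨m, hm⟩ := (Submodule.Quotient.mk_eq_zero _).1 h5
  exact ⟨m, hm⟩

end descent

end Groth.Agent.Lib.TPowH6
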