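import Mathlib
import Groth.Agent.Lib.TPow1_helper6
import Groth.Agent.Lib.TPow2_helper6
import Groth.Agent.Lib.TPow6_helper6
import Groth.Agent.Lib.TPow7_helper6

/-!
# The global antisymmetrizer of an Azumaya algebra of constant rank `n²` (helper6)
-/

set_option autoImplicit false

namespace Groth.Agent.Lib.TPowH6

open PiTensorProduct TensorProduct Module
open Groth.Agent.Lib.AzumayaBaseChange

universe u

section

variable {R : Type u} [CommRing R] {A : Type u} [Ring A] [Algebra R A] [IsAzumaya R A] {n : ℕ}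

theorem chiS_bijective (hrk : ∀ p : PrimeSpectrum R, rankAtStalk (R := R) A p = n ^ 2)
    {S : Type u} [CommRing S] [Algebra R S] (Φ : A →ₐ[R] Matrix (Fin n) (Fin n) S) (m : ℕ) :
    Function.Bijective (chiS (m := m) Φ) := by
  haveI : IsAzumaya R (⨂[R] _ : Fin m, A) := isAzumaya_tpow_fin R A m
  haveI : IsAzumaya S (S ⊗[R] (⨂[R] _ : Fin m, A)) := isAzumaya_baseChange R S _
  haveI : Module.Finite R (⨂[R] _ : Fin m, A) := IsAzumaya.toFinite
  haveI : Module.Projective R (⨂[R] _ : Fin m, A) := IsAzumaya.toProjective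
  refine azumaya_hom_bijective S (S ⊗[R] (⨂[R] _ : Fin m, A))
    (Matrix (Fin m → Fin n) (Fin m → Fin n) S) ?_ (chiS Φ)
  intro q
  haveI : Nontrivial S := q.nontrivial
  rw [rankAtStalk_baseChange, rankAtStalk_tpow_fin, hrk, rankAtStalk_eq_finrank_of_free,
    Module.finrank_matrix]
  simp only [Fintype.card_pi, Fintype.card_fin, Finset.prod_const, Finset.card_univ,
    Module.finrank_self, mul_one, Pi.natCast_apply, Nat.cast_id]
  ring

theorem rTensor_eq_map {S S' : Type u} [CommRing S] [Algebra R S] [CommRing S'] [Algebra R S']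
    (j : S →ₐ[R] S') (m : ℕ) (y : S ⊗[R] (⨂[R] _ : Fin m, A)) :
    LinearMap.rTensor (⨂[R] _ : Fin m, A) j.toLinearMap y =
      Algebra.TensorProduct.map j (AlgHom.id R (⨂[R] _ : Fin m, A)) y := by
  induction y using TensorProduct.induction_on with
  | zero => simp
  | tmul s t => simp
  | add a b ha hb => rw [map_add, map_add, ha, hb]

/-- the global antisymmetrizer. -/
theorem exists_global_asym (hn : 0 < n)
    (hrk : ∀ p : PrimeSpectrum R, rankAtStalk (R := R) A p = n ^ 2)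
    {S : Type u} [CommRing S] [Algebra R S] [Module.FaithfullyFlat R S]
    (Φ : A →ₐ[R] Matrix (Fin n) (Fin n) S) :
    ∃ s : ⨂[R] _ : Fin n, A, chi Φ s = asym S n := by
  obtain ⟨x, hx⟩ := (chiS_bijective hrk Φ n).2 (asym S n)
  -- the two pullbacks
  obtain ⟨ι₁, hι₁⟩ : ∃ ι₁ : S →ₐ[R] S ⊗[R] S, ι₁ = Algebra.TensorProduct.includeLeft := ⟨_, rfl⟩
  obtain ⟨ι₂, hι₂⟩ : ∃ ι₂ : S →ₐ[R] S ⊗[R] S, ι₂ = Algebra.TensorProduct.includeRight := ⟨_, rfl⟩
  have h1 : chiS (ι₁.mapMatrix.comp Φ)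
      (Algebra.TensorProduct.map ι₁ (AlgHom.id R (⨂[R] _ : Fin n, A)) x) = asym (S ⊗[R] S) n := by
    rw [chiS_map, hx]
    exact asym_map (ι₁ : S →+* S ⊗[R] S)
  have h2 : chiS (ι₂.mapMatrix.comp Φ)
      (Algebra.TensorProduct.map ι₂ (AlgHom.id R (⨂[R] _ : Fin n, A)) x) = asym (S ⊗[R] S) n := by
    rw [chiS_map, hx]
    exact asym_map (ι₂ : S →+* S ⊗[R] S)
  have h3 := chiS_eq_asym_of_chiS_eq_asym hn (ι₂.mapMatrix.comp Φ) (ι₁.mapMatrix.comp Φ) _ h2
  have h4 : Algebra.TensorProduct.map ι₁ (AlgHom.id R (⨂[R] _ : Fin n, A)) x =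
      Algebra.TensorProduct.map ι₂ (AlgHom.id R (⨂[R] _ : Fin n, A)) x :=
    (chiS_bijective hrk (ι₁.mapMatrix.comp Φ) n).1 (h1.trans h3.symm)
  obtain ⟨s, hs⟩ := exists_of_rTensor_eq R S (⨂[R] _ : Fin n, A) x (by
    rw [← hι₁, ← hι₂, rTensor_eq_map, rTensor_eq_map]
    exact h4)
  refine ⟨s, ?_⟩
  rw [← hs, chiS_tmul, one_smul] at hx
  exact hx

end

end Groth.Agent.Lib.TPowH6
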