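import Mathlib

/-!
# A principal left ideal which becomes "regular" after a faithfully flat base change is a
projective direct summand (helper6)
-/

set_option autoImplicit false

namespace Groth.Agent.Lib.TPowH6

open TensorProduct

universe u v

section regular

variable {R : Type u} [CommRing R] {B : Type v} [Ring B] [Algebra R B]
  (S : Type*) [CommRing S] [Algebra R S]

/-- the principal left ideal `B b`, as an `R`-submodule. -/
def lideal (R : Type u) [CommRing R] {B : Type v} [Ring B] [Algebra R B] (b : B) :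
    Submodule R B := LinearMap.range (LinearMap.mulRight R b)

theorem mem_lideal {b x : B} : x ∈ lideal R b ↔ ∃ t, t * b = x := Iff.rfl

theorem baseChange_mkQ_mul (b : B) (z : S ⊗[R] B) :
    LinearMap.baseChange S (lideal R b).mkQ (z * ((1 : S) ⊗ₜ[R] b)) = 0 := by
  induction z using TensorProduct.induction_on with
  | zero => simp
  | tmul σ t =>
    rw [Algebra.TensorProduct.tmul_mul_tmul, mul_one, LinearMap.baseChange_tmul]
    have : (lideal R b).mkQ (t * b) = 0 := by
      rw [Submodule.mkQ_apply, Submodule.Quotient.mk_eq_zero]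
      exact ⟨t, rfl⟩
    rw [this, tmul_zero]
  | add x y hx hy => rw [add_mul, map_add, hx, hy, add_zero]

variable [Module.Finite R B] [Module.Projective R B]

/-- if `1 ⊗ b` is von Neumann regular in `S ⊗ B`, then `S ⊗ (B / B b)` is projective. -/
theorem projective_baseChange_quot (b : B) (v : S ⊗[R] B)
    (hv : ((1 : S) ⊗ₜ[R] b) * v * ((1 : S) ⊗ₜ[R] b) = (1 : S) ⊗ₜ[R] b) :
    Module.Projective S (S ⊗[R] (B ⧸ lideal R b)) := by
  -- `i₀ : t ↦ (1 ⊗ t) (1 - v (1 ⊗ b))`
  let i₀ : B →ₗ[R] S ⊗[R] B :=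
    ((LinearMap.mulRight S ((1 : S ⊗[R] B) - v * ((1 : S) ⊗ₜ[R] b))).restrictScalars R) ∘ₗ
      (TensorProduct.mk R S B 1)
  have hi₀ : ∀ t, i₀ t = ((1 : S) ⊗ₜ[R] t) * ((1 : S ⊗[R] B) - v * ((1 : S) ⊗ₜ[R] b)) :=
    fun t => rfl
  have hker : lideal R b ≤ LinearMap.ker i₀ := by
    rintro _ ⟨t, rfl⟩
    rw [LinearMap.mem_ker, hi₀]
    show ((1 : S) ⊗ₜ[R] (t * b)) * _ = 0
    have h1 : ((1 : S) ⊗ₜ[R] (t * b) : S ⊗[R] B) = ((1 : S) ⊗ₜ[R] t) * ((1 : S) ⊗ₜ[R] b) := by
      rw [Algebra.TensorProduct.tmul_mul_tmul, mul_one]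
    rw [h1, mul_assoc, mul_sub, mul_one, ← mul_assoc ((1 : S) ⊗ₜ[R] b), hv, sub_self, mul_zero]
  let i₁ : (B ⧸ lideal R b) →ₗ[R] S ⊗[R] B := (lideal R b).liftQ i₀ hker
  let i : S ⊗[R] (B ⧸ lideal R b) →ₗ[S] S ⊗[R] B := LinearMap.liftBaseChange S i₁
  let p : S ⊗[R] B →ₗ[S] S ⊗[R] (B ⧸ lideal R b) := LinearMap.baseChange S (lideal R b).mkQ
  have hpi : p ∘ₗ i = LinearMap.id := by
    apply TensorProduct.AlgebraTensorModule.curry_injective
    refine LinearMap.ext fun σ => ?_
    refine LinearMap.ext fun q => ?_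
    obtain ⟨t, rfl⟩ := (lideal R b).mkQ_surjective q
    show p (i (σ ⊗ₜ[R] (lideal R b).mkQ t)) = σ ⊗ₜ[R] (lideal R b).mkQ t
    have h1 : i (σ ⊗ₜ[R] (lideal R b).mkQ t) = σ • i₀ t := by
      show LinearMap.liftBaseChange S i₁ (σ ⊗ₜ[R] (lideal R b).mkQ t) = _
      rw [LinearMap.liftBaseChange_tmul]
      rfl
    rw [h1, map_smul, hi₀, mul_sub, mul_one, map_sub, ← mul_assoc]
    have h2 := baseChange_mkQ_mul S b (((1 : S) ⊗ₜ[R] t) * v)
    show σ • (p ((1 : S) ⊗ₜ[R] t) - p (((1 : S) ⊗ₜ[R] t) * v * ((1 : S) ⊗ₜ[R] b))) = _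
    rw [show p (((1 : S) ⊗ₜ[R] t) * v * ((1 : S) ⊗ₜ[R] b)) = 0 from h2, sub_zero]
    show σ • (LinearMap.baseChange S (lideal R b).mkQ ((1 : S) ⊗ₜ[R] t)) = _
    rw [LinearMap.baseChange_tmul, TensorProduct.smul_tmul', smul_eq_mul, mul_one]
  exact Module.Projective.of_split i p hpi

end regular

section descent

variable {R : Type u} [CommRing R] {B : Type v} [Ring B] [Algebra R B]
  [Module.Finite R B] [Module.Projective R B]
  (S : Type*) [CommRing S] [Algebra R S] [Module.FaithfullyFlat R S]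

theorem projective_quot (b : B) (v : S ⊗[R] B)
    (hv : ((1 : S) ⊗ₜ[R] b) * v * ((1 : S) ⊗ₜ[R] b) = (1 : S) ⊗ₜ[R] b) :
    Module.Projective R (B ⧸ lideal R b) := by
  haveI := projective_baseChange_quot S b v hv
  haveI : Module.Flat R (B ⧸ lideal R b) := Module.Flat.of_flat_tensorProduct R _ S
  haveI : Module.FinitePresentation R B := Module.finitePresentation_of_projective R B
  haveI : Module.FinitePresentation R (B ⧸ lideal R b) := by
    refine Module.finitePresentation_of_surjective (lideal R b).mkQ (lideal R b).mkQ_surjective ?_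
    rw [Submodule.ker_mkQ, lideal, LinearMap.range_eq_map]
    exact Submodule.FG.map _ Module.Finite.fg_top
  exact Module.Flat.projective_of_finitePresentation

/-- the retraction of `B` onto the left ideal `B b`. -/
theorem exists_retraction_lideal (b : B) (v : S ⊗[R] B)
    (hv : ((1 : S) ⊗ₜ[R] b) * v * ((1 : S) ⊗ₜ[R] b) = (1 : S) ⊗ₜ[R] b) :
    ∃ π : B →ₗ[R] lideal R b, π ∘ₗ (lideal R b).subtype = LinearMap.id := by
  haveI := projective_quot S b v hv
  obtain ⟨σ, hσ⟩ := Module.projective_lifting_property (lideal R b).mkQ LinearMap.id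
    (lideal R b).mkQ_surjective
  have hmem : ∀ t : B, t - σ ((lideal R b).mkQ t) ∈ lideal R b := by
    intro t
    have h0 : (lideal R b).mkQ (t - σ ((lideal R b).mkQ t)) = 0 := by
      rw [map_sub]
      have := congrArg (fun f => f ((lideal R b).mkQ t)) hσ
      simp only [LinearMap.comp_apply, LinearMap.id_apply] at this
      rw [this, sub_self]
    rw [Submodule.mkQ_apply, Submodule.Quotient.mk_eq_zero] at h0
    exact h0
  refine ⟨LinearMap.codRestrict (lideal R b) (LinearMap.id - σ ∘ₗ (lideal R b).mkQ) hmem, ?_⟩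
  refine LinearMap.ext fun x => Subtype.ext ?_
  rw [LinearMap.comp_apply, LinearMap.codRestrict_apply, LinearMap.sub_apply, LinearMap.id_apply,
    LinearMap.comp_apply, Submodule.subtype_apply, LinearMap.id_apply]
  have : (lideal R b).mkQ (x : B) = 0 := by
    rw [Submodule.mkQ_apply, Submodule.Quotient.mk_eq_zero]
    exact x.2
  rw [this, map_zero, sub_zero]

theorem projective_lideal (b : B) (v : S ⊗[R] B)
    (hv : ((1 : S) ⊗ₜ[R] b) * v * ((1 : S) ⊗ₜ[R] b) = (1 : S) ⊗ₜ[R] b) :
    Module.Projective R (lideal R b) := by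
  obtain ⟨π, hπ⟩ := exists_retraction_lideal S b v hv
  exact Module.Projective.of_split (lideal R b).subtype π hπ

omit [Module.Projective R B] in
theorem finite_lideal (b : B) : Module.Finite R (lideal R b) := by
  rw [lideal]
  exact Module.Finite.range _

end descent

end Groth.Agent.Lib.TPowH6
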