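import Mathlib
import Groth.Agent.Lib.TPow8_helper6
import Groth.Agent.Lib.TPow9_helper6
import Groth.Agent.Lib.LGAz7_helper6
import Groth.Agent.Lib.AzumayaDescent_helper6

/-!
# `A^{⊗ n} ≃ End(E)` from a faithfully flat splitting (helper6)
-/

set_option autoImplicit false

namespace Groth.Agent.Lib.TPowH6

open PiTensorProduct TensorProduct Module Matrix
open Groth.Agent.Lib.AzumayaBaseChange

universe u

section matrix

variable (S : Type*) [CommRing S] (n : ℕ)

/-- the basis vector `e_id`. -/
def delta : (Fin n → Fin n) → S := Pi.single id 1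

theorem omega_dot_delta : omega S n ⬝ᵥ delta S n = 1 := by
  rw [delta, dotProduct_single_one, omega_id]

theorem delta_dot_omega : delta S n ⬝ᵥ omega S n = 1 := by
  rw [delta, single_one_dotProduct, omega_id]

theorem asym_regular :
    asym S n * vecMulVec (delta S n) (delta S n) * asym S n = asym S n := by
  rw [asym, vecMulVec_mul_vecMulVec, omega_dot_delta, one_smul, vecMulVec_mul_vecMulVec,
    delta_dot_omega, one_smul]

theorem asym_mulVec_delta : asym S n *ᵥ delta S n = omega S n := by
  rw [asym, vecMulVec_mulVec, omega_dot_delta]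
  simp

end matrix

section leftaction

variable {R : Type u} [CommRing R] {B : Type u} [Ring B] [Algebra R B] (b : B)

/-- left multiplication of `B` on the left ideal `B b`. -/
def lidealLeft : B →ₐ[R] Module.End R (lideal R b) :=
  AlgHom.ofLinearMap
    { toFun := fun a =>
        { toFun := fun y => ⟨a * y.1, by
            obtain ⟨t, ht⟩ := y.2
            exact ⟨a * t, by rw [LinearMap.mulRight_apply] at ht ⊢; rw [mul_assoc, ht]⟩⟩
          map_add' := fun y z => Subtype.ext (by simp [mul_add])
          map_smul' := fun r y => Subtype.ext (by simp) }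
      map_add' := fun a a' => LinearMap.ext fun y => Subtype.ext (by simp [add_mul])
      map_smul' := fun r a => LinearMap.ext fun y => Subtype.ext (by simp) }
    (LinearMap.ext fun y => Subtype.ext (by simp))
    (fun a a' => LinearMap.ext fun y => Subtype.ext (by simp [mul_assoc]))

end leftaction

section main

variable {R : Type u} [CommRing R] {A : Type u} [Ring A] [Algebra R A] [IsAzumaya R A] {n : ℕ}

theorem exists_end_of_splitting (hn : 0 < n)
    (hrk : ∀ p : PrimeSpectrum R, rankAtStalk (R := R) A p = n ^ 2)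
    {S : Type u} [CommRing S] [Algebra R S] [Module.FaithfullyFlat R S]
    (Φ : A →ₐ[R] Matrix (Fin n) (Fin n) S) :
    ∃ (E : Type u) (_ : AddCommGroup E) (_ : Module R E), Module.Finite R E ∧
      Module.Projective R E ∧ (∀ p : PrimeSpectrum R, rankAtStalk (R := R) E p = n ^ n) ∧
      Nonempty ((⨂[R] _ : Fin n, A) ≃ₐ[R] Module.End R E) := by
  classical
  haveI hTaz : IsAzumaya R (⨂[R] _ : Fin n, A) := isAzumaya_tpow_fin R A n
  haveI : Module.Finite R (⨂[R] _ : Fin n, A) := IsAzumaya.toFinite
  haveI : Module.Projective R (⨂[R] _ : Fin n, A) := IsAzumaya.toProjective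
  obtain ⟨s, hs⟩ := exists_global_asym hn hrk Φ
  have hbij := chiS_bijective hrk Φ n
  -- regularity
  obtain ⟨v, hv⟩ := hbij.2 (vecMulVec (delta S n) (delta S n))
  have hreg : ((1 : S) ⊗ₜ[R] s) * v * ((1 : S) ⊗ₜ[R] s) = (1 : S) ⊗ₜ[R] s := by
    apply hbij.1
    rw [map_mul, map_mul, hv, chiS_tmul, one_smul, hs]
    exact asym_regular S n
  haveI hEproj := projective_lideal S s v hreg
  haveI hEfin := finite_lideal (R := R) s
  -- the rank
  obtain ⟨ρ', hρ'⟩ : ∃ ρ' : (⨂[R] _ : Fin n, A) →ₗ[R] lideal R s, ∀ t, (ρ' t).1 = t * s :=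
    ⟨(LinearMap.mulRight R s).rangeRestrict, fun t => rfl⟩
  have hρ'surj : Function.Surjective ρ' := by
    rintro ⟨_, t, rfl⟩
    exact ⟨t, Subtype.ext (hρ' t)⟩
  obtain ⟨F₀, hF₀⟩ : ∃ F₀ : lideal R s →ₗ[R] ((Fin n → Fin n) → S),
      ∀ e, F₀ e = chi Φ e.1 *ᵥ delta S n :=
    ⟨((Matrix.mulVecBilin R S).flip (delta S n)) ∘ₗ (chi Φ).toLinearMap ∘ₗ
      (lideal R s).subtype, fun e => rfl⟩
  have hF : ∀ z : S ⊗[R] (⨂[R] _ : Fin n, A),
      LinearMap.liftBaseChange S F₀ (LinearMap.baseChange S ρ' z) =
        (chiS Φ z * asym S n) *ᵥ delta S n := by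
    intro z
    induction z using TensorProduct.induction_on with
    | zero => simp
    | tmul σ t =>
      rw [LinearMap.baseChange_tmul, LinearMap.liftBaseChange_tmul, hF₀, hρ', map_mul, hs,
        chiS_tmul, Matrix.smul_mul, Matrix.smul_mulVec]
    | add x y hx hy => rw [map_add, map_add, hx, hy, map_add, Matrix.add_mul, Matrix.add_mulVec]
  have hsub : ∀ z : S ⊗[R] (⨂[R] _ : Fin n, A),
      LinearMap.baseChange S (lideal R s).subtype (LinearMap.baseChange S ρ' z) =
        z * ((1 : S) ⊗ₜ[R] s) := by
    intro z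
    induction z using TensorProduct.induction_on with
    | zero => simp
    | tmul σ t =>
      rw [LinearMap.baseChange_tmul, LinearMap.baseChange_tmul, Submodule.subtype_apply, hρ',
        Algebra.TensorProduct.tmul_mul_tmul, mul_one]
    | add x y hx hy => rw [map_add, map_add, hx, hy, add_mul]
  have hsubinj : Function.Injective (LinearMap.baseChange S (lideal R s).subtype) :=
    Module.Flat.lTensor_preserves_injective_linearMap (M := S) (lideal R s).subtype
      (lideal R s).injective_subtype
  have hμsurj : Function.Surjective (LinearMap.baseChange S ρ') :=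
    LinearMap.lTensor_surjective S hρ'surj
  have hFbij : Function.Bijective (LinearMap.liftBaseChange S F₀) := by
    constructor
    · rw [injective_iff_map_eq_zero]
      intro y hy
      obtain ⟨z, rfl⟩ := hμsurj y
      rw [hF, ← Matrix.mulVec_mulVec, asym_mulVec_delta] at hy
      have h1 : chiS Φ z * asym S n = 0 := by
        rw [asym, mul_vecMulVec, hy]
        ext f g
        simp [vecMulVec_apply]
      apply hsubinj
      rw [map_zero, hsub]
      apply hbij.1
      rw [map_mul, chiS_tmul, one_smul, hs, h1, map_zero]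
    · intro w
      obtain ⟨z, hz⟩ := hbij.2 (vecMulVec w (delta S n))
      refine ⟨LinearMap.baseChange S ρ' z, ?_⟩
      rw [hF, hz, asym, vecMulVec_mul_vecMulVec, delta_dot_omega, one_smul, vecMulVec_mulVec,
        omega_dot_delta]
      simp
  have hrankE : ∀ p : PrimeSpectrum R, rankAtStalk (R := R) (lideal R s) p = n ^ n := by
    intro p
    obtain ⟨q, rfl⟩ := PrimeSpectrum.comap_surjective_of_faithfullyFlat (A := R) (B := S) p
    haveI : Nontrivial S := q.nontrivial
    rw [← rankAtStalk_baseChange (S := S) (M := lideal R s) q,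
      rankAtStalk_eq_of_equiv (LinearEquiv.ofBijective _ hFbij), rankAtStalk_eq_finrank_of_free,
      Module.finrank_pi]
    simp
  -- the isomorphism
  haveI : Module.Finite R (Module.End R (lideal R s)) :=
    Groth.Agent.Lib.AzumayaDescent.finite_end R _
  haveI : Module.Projective R (Module.End R (lideal R s)) :=
    Groth.Agent.Lib.AzumayaDescent.projective_end R _
  have hLbij : Function.Bijective (lidealLeft (R := R) s) := by
    refine azumaya_hom_bijective R (⨂[R] _ : Fin n, A) (Module.End R (lideal R s)) ?_ _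
    intro p
    rw [Groth.Agent.Lib.LGAzH6.rankAtStalk_end, hrankE, rankAtStalk_tpow_fin, hrk]
    ring
  exact ⟨lideal R s, inferInstance, inferInstance, hEfin, hEproj, hrankE,
    ⟨AlgEquiv.ofBijective _ hLbij⟩⟩

end main

end Groth.Agent.Lib.TPowH6
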