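import Mathlib
import Groth.Agent.Lib.TPow10_helper6
import Groth.Agent.Lib.TPow11_helper6

/-!
# `A^{⊗ n} ≃ End(E)` for an Azumaya algebra of constant rank `n²` (helper6)
-/

set_option autoImplicit false

namespace Groth.Agent.Lib.TPowH6

open PiTensorProduct TensorProduct Module

universe u

theorem tensorPower_algEquiv_end (R : Type u) [CommRing R] (A : Type u) [Ring A] [Algebra R A]
    [IsAzumaya R A] (n : ℕ)
    (hrk : ∀ p : PrimeSpectrum R, Module.rankAtStalk (R := R) A p = n ^ 2) :
    ∃ (E : Type u) (_ : AddCommGroup E) (_ : Module R E), Module.Finite R E ∧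
      Module.Projective R E ∧
      (∀ p : PrimeSpectrum R, Module.rankAtStalk (R := R) E p = n ^ n) ∧
      Nonempty ((⨂[R] _ : Fin n, A) ≃ₐ[R] Module.End R E) := by
  rcases Nat.eq_zero_or_pos n with rfl | hn
  · haveI : Module.Finite R A := IsAzumaya.toFinite
    haveI : Module.Projective R A := IsAzumaya.toProjective
    have hsub : Subsingleton R := by
      by_contra hns
      rw [not_subsingleton_iff_nontrivial] at hns
      obtain ⟨p⟩ : Nonempty (PrimeSpectrum R) := inferInstance
      have h1 := Groth.Agent.Lib.LGAzH6.rankAtStalk_pos_of_faithful A p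
      rw [hrk p] at h1
      simp at h1
    haveI : Subsingleton (⨂[R] _ : Fin 0, A) := Module.subsingleton R _
    haveI : Subsingleton (Module.End R PUnit.{u + 1}) := Module.subsingleton R _
    refine ⟨PUnit.{u + 1}, inferInstance, inferInstance, inferInstance, inferInstance, ?_, ?_⟩
    · intro p
      haveI := p.nontrivial
      exact absurd hsub (not_subsingleton R)
    · exact ⟨(emptyAlg R A (Fin 0)).trans (AlgEquiv.ofBijective
        (Algebra.ofId R (Module.End R PUnit.{u + 1}))
        ⟨Function.injective_of_subsingleton _, fun y => ⟨0, Subsingleton.elim _ _⟩⟩)⟩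
  · obtain ⟨S, _, _, hff, ⟨Φ⟩⟩ := exists_splitting R A n hrk
    exact exists_end_of_splitting hn hrk Φ

end Groth.Agent.Lib.TPowH6
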