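import Groth.Agent.Lib.ComodKit_helper1
import Groth.Agent.Lib.GLnIntegral_helper1

/-!
# Homogeneous representations of `GL_r` are summands of twisted tensor powers (helper1)
-/

set_option autoImplicit false
set_option maxHeartbeats 1000000

open TensorProduct

namespace Groth.Agent.Lib.TPowGLnH1

open ComodTens Groth.Agent.Lib.ComodKitH1 CoordGrp

universe u v w

section TPow

variable {k : Type u} [CommRing k] {A : Type v} [CommRing A] [Bialgebra k A]
  {V₀ : Type w} [AddCommGroup V₀] [Module k V₀]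

/-- the product of `a` linear maps into the algebra `A`, on the `a`-th tensor power -/
noncomputable def PhiT : (a : ℕ) → (Fin a → (V₀ →ₗ[k] A)) → (TensorPower k a V₀ →ₗ[k] A)
  | 0, _ => Algebra.linearMap k A ∘ₗ
      ((PiTensorProduct.isEmptyEquiv (Fin 0) (R := k) (s := fun _ : Fin 0 => V₀)).symm.symm :
        TensorPower k 0 V₀ →ₗ[k] k)
  | a + 1, g => (LinearMap.mul' k A ∘ₗ TensorProduct.map (PhiT a (fun t => g t.castSucc))
      (g (Fin.last a) ∘ₗ
        ((PiTensorProduct.subsingletonEquiv (R := k) (s := fun _ : Fin 1 => V₀) (0 : Fin 1)).symm.symm :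
          TensorPower k 1 V₀ →ₗ[k] V₀))) ∘ₗ
      ((TensorPower.mulEquiv (R := k) (M := V₀) (n := a) (m := 1)).symm :
        TensorPower k (a + 1) V₀ →ₗ[k] TensorPower k a V₀ ⊗[k] TensorPower k 1 V₀)

theorem CH_PhiT (c₀ : HopfRep.Comod k A V₀) :
    ∀ (a : ℕ) (g : Fin a → (V₀ →ₗ[k] A)), (∀ t, CH c₀ (reg k A) (g t)) →
      CH (Comod.tpow c₀ a) (reg k A) (PhiT a g)
  | 0, _, _ =>
    CH_ofEquiv_symm (PiTensorProduct.isEmptyEquiv (Fin 0) (R := k) (s := fun _ : Fin 0 => V₀)).symm
      (HopfRep.Comod.trivial k A k) (reg k A) (Algebra.linearMap k A) CH_algebraMap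
  | a + 1, g, hg => by
    have h1 := CH_PhiT c₀ a (fun t => g t.castSucc) (fun t => hg _)
    have h2 : CH (Comod.tpowOne c₀) (reg k A) (g (Fin.last a) ∘ₗ
        ((PiTensorProduct.subsingletonEquiv (R := k) (s := fun _ : Fin 1 => V₀) (0 : Fin 1)).symm.symm :
          TensorPower k 1 V₀ →ₗ[k] V₀)) :=
      CH_ofEquiv_symm
        (PiTensorProduct.subsingletonEquiv (R := k) (s := fun _ : Fin 1 => V₀) (0 : Fin 1)).symm
        c₀ (reg k A) (g (Fin.last a)) (hg _)
    have h3 := CH_mul _ _ _ _ h1 h2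
    exact CH_ofEquiv_symm (TensorPower.mulEquiv (R := k) (M := V₀) (n := a) (m := 1)) _ (reg k A) _ h3

theorem exists_PhiT_eq : ∀ (a : ℕ) (g : Fin a → (V₀ →ₗ[k] A)) (v : Fin a → V₀),
    ∃ t, PhiT a g t = ∏ s, g s (v s)
  | 0, _, _ => by
    refine ⟨(PiTensorProduct.isEmptyEquiv (Fin 0) (R := k) (s := fun _ : Fin 0 => V₀)).symm 1, ?_⟩
    simp [PhiT]
  | a + 1, g, v => by
    obtain ⟨t', ht'⟩ := exists_PhiT_eq a (fun t => g t.castSucc) (fun t => v t.castSucc)
    refine ⟨TensorPower.mulEquiv (R := k) (M := V₀) (n := a) (m := 1)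
      (t' ⊗ₜ[k] (PiTensorProduct.subsingletonEquiv (R := k) (s := fun _ : Fin 1 => V₀)
        (0 : Fin 1)).symm (v (Fin.last a))), ?_⟩
    rw [Fin.prod_univ_castSucc, ← ht']
    simp [PhiT]

end TPow

section Words

variable {k : Type u} [Field k] {r : ℕ}

/-- the coordinate functions of the `i`-th row: `v ↦ Σ_j v_j X i j` -/
noncomputable def phiRow (r : ℕ) (k : Type u) [Field k] (i : Fin r) : (Fin r → k) →ₗ[k] GLn r k :=
  ∑ j, (LinearMap.proj j : (Fin r → k) →ₗ[k] k).smulRight (GLn.X i j : GLn r k)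

theorem phiRow_single (i j : Fin r) : phiRow r k i (Pi.single j 1) = GLn.X i j := by
  classical
  rw [phiRow, LinearMap.sum_apply, Finset.sum_eq_single j]
  · simp
  · intro b _ hb; simp [Pi.single_eq_of_ne hb]
  · intro h; exact absurd (Finset.mem_univ j) h

/-- the standard comodule of `GL_r` -/
noncomputable abbrev stdG (r : ℕ) (k : Type u) [Field k] : HopfRep.Comod k (GLn r k) (Fin r → k) :=
  GLin.comodAlong (Mat.toGLn r k) (ComodTens.stdVec r k)

theorem CH_phiRow (i : Fin r) : CH (stdG r k) (reg k (GLn r k)) (phiRow r k i) := by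
  have h : (reg k (GLn r k)).coact ∘ₗ phiRow r k i =
      (phiRow r k i).rTensor (GLn r k) ∘ₗ (stdG r k).coact := by
    apply (Pi.basisFun k (Fin r)).ext
    intro j
    simp only [LinearMap.comp_apply, Pi.basisFun_apply]
    rw [phiRow_single, reg_coact, GLn.comul_X, GLin.comodAlong_coact, stdVec_coact_single, map_sum,
      map_sum]
    refine Finset.sum_congr rfl fun l _ => ?_
    rw [TensorProduct.map_tmul, LinearMap.rTensor_tmul, LinearMap.id_apply, phiRow_single]
    congr 1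
    exact (Mat.toGLn_X l j).symm
  intro v
  exact LinearMap.congr_fun h v

/-- a word of length `d` in the matrix entries -/
noncomputable def wordG {d : ℕ} (I J : Fin d → Fin r) : GLn r k := ∏ t, GLn.X (I t) (J t)

theorem exists_PhiT_word {d : ℕ} (I J : Fin d → Fin r) :
    ∃ t, PhiT d (fun s => phiRow r k (I s)) t = wordG (k := k) I J := by
  obtain ⟨t, ht⟩ := exists_PhiT_eq d (fun s => phiRow r k (I s)) (fun s => Pi.single (J s) 1)
  refine ⟨t, ?_⟩
  rw [ht, wordG]
  exact Finset.prod_congr rfl fun s _ => phiRow_single _ _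

/-- the span of the words of length `d` times `Dinv ^ q` -/
noncomputable def Wd (r : ℕ) (k : Type u) [Field k] (d q : ℕ) : Submodule k (GLn r k) :=
  Submodule.span k {x | ∃ I J : Fin d → Fin r, x = wordG I J * GLn.Dinv ^ q}

theorem word_mem_Wd {d : ℕ} (I J : Fin d → Fin r) (q : ℕ) :
    wordG (k := k) I J * GLn.Dinv ^ q ∈ Wd r k d q :=
  Submodule.subset_span ⟨I, J, rfl⟩

theorem Wd_mul_X (d q : ℕ) (i j : Fin r) (x : GLn r k) (hx : x ∈ Wd r k d q) :
    x * GLn.X i j ∈ Wd r k (d + 1) q := by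
  have : Wd r k d q ≤ (Wd r k (d + 1) q).comap (LinearMap.mulRight k (GLn.X i j : GLn r k)) := by
    apply Submodule.span_le.mpr
    rintro _ ⟨I, J, rfl⟩
    show wordG I J * GLn.Dinv ^ q * GLn.X i j ∈ Wd r k (d + 1) q
    have h : wordG I J * GLn.Dinv ^ q * GLn.X i j =
        wordG (k := k) (Fin.snoc I i : Fin (d + 1) → Fin r) (Fin.snoc J j) * GLn.Dinv ^ q := by
      rw [wordG, wordG, Fin.prod_univ_castSucc]
      simp only [Fin.snoc_castSucc, Fin.snoc_last]
      ring
    rw [h]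
    exact word_mem_Wd _ _ _
  exact this hx

/-- all the `Wd` together -/
noncomputable def Wall (r : ℕ) (k : Type u) [Field k] : Submodule k (GLn r k) :=
  ⨆ p : ℕ × ℕ, Wd r k p.1 p.2

theorem Wd_le_Wall (d q : ℕ) : Wd r k d q ≤ Wall r k :=
  le_iSup (fun p : ℕ × ℕ => Wd r k p.1 p.2) (d, q)

open Groth.Agent.Lib.GLnIntH1 in
theorem mem_Wall (a : GLn r k) : a ∈ Wall r k := by
  revert a
  apply GLn_induction
  · intro f q
    induction f using MvPolynomial.induction_on with
    | C c =>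
      have h : iotaQ r k (MvPolynomial.C c) * GLn.Dinv ^ q =
          c • (wordG (k := k) (Fin.elim0 : Fin 0 → Fin r) Fin.elim0 * GLn.Dinv ^ q) := by
        have h1 : iotaQ r k (MvPolynomial.C c) = algebraMap k (GLn r k) c :=
          (iotaQ r k).commutes c
        rw [h1, wordG, Finset.univ_eq_empty, Finset.prod_empty, one_mul, Algebra.smul_def]
      rw [h]
      exact Submodule.smul_mem _ _ (Wd_le_Wall 0 q (word_mem_Wd _ _ _))
    | add p₁ p₂ h₁ h₂ =>
      rw [map_add, add_mul]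
      exact Submodule.add_mem _ h₁ h₂
    | mul_X p s hp =>
      obtain ⟨i, j⟩ := s
      have hcl : Wall r k ≤ (Wall r k).comap (LinearMap.mulRight k (GLn.X i j : GLn r k)) := by
        apply iSup_le
        intro pq x hx
        exact Wd_le_Wall _ _ (Wd_mul_X pq.1 pq.2 i j x hx)
      have h : iotaQ r k (p * MvPolynomial.X (i, j)) * GLn.Dinv ^ q =
          (iotaQ r k p * GLn.Dinv ^ q) * GLn.X i j := by
        rw [map_mul, iotaQ_X]; ring
      rw [h]
      exact hcl hp
  · intro a b ha hb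
    exact Submodule.add_mem _ ha hb

/-! ### the scalar torus -/

open LaurentPolynomial in
/-- the coaction of the scalar torus on the coordinate ring, by right translation -/
noncomputable def tauA (r : ℕ) (k : Type u) [Field k] :
    GLn r k →ₐ[k] GLn r k ⊗[k] LaurentPolynomial k :=
  (Algebra.TensorProduct.map (AlgHom.id k (GLn r k))
    ((GLn.diag r k (fun _ => 1) : GLn r k →ₐc[k] LaurentPolynomial k) :
      GLn r k →ₐ[k] LaurentPolynomial k)).comp (Bialgebra.comulAlgHom k (GLn r k))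

theorem tauA_apply (x : GLn r k) : tauA r k x =
    TensorProduct.map (LinearMap.id : GLn r k →ₗ[k] GLn r k)
      ((GLn.diag r k (fun _ => 1) : GLn r k →ₐc[k] LaurentPolynomial k) :
        GLn r k →ₗ[k] LaurentPolynomial k) (CoalgebraStruct.comul (R := k) x) := rfl

theorem tauA_X (i j : Fin r) :
    tauA r k (GLn.X i j) = (GLn.X i j : GLn r k) ⊗ₜ[k] LaurentPolynomial.T 1 := by
  classical
  have hd : ∀ a b : Fin r, ((GLn.diag r k (fun _ => 1) : GLn r k →ₐc[k] LaurentPolynomial k) :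
      GLn r k →ₐ[k] LaurentPolynomial k) (GLn.X a b) =
      if a = b then LaurentPolynomial.T 1 else 0 := fun a b => GLn.diag_X _ a b
  simp only [tauA, AlgHom.comp_apply, Bialgebra.comulAlgHom_apply, GLn.comul_X, map_sum,
    Algebra.TensorProduct.map_tmul, AlgHom.id_apply]
  rw [Finset.sum_eq_single j]
  · rw [hd, if_pos rfl]
  · intro l _ hl; rw [hd, if_neg hl, TensorProduct.tmul_zero]
  · intro h; exact absurd (Finset.mem_univ j) h

theorem tauA_Dinv :
    tauA r k GLn.Dinv = (GLn.Dinv : GLn r k) ⊗ₜ[k] LaurentPolynomial.T (-(r : ℤ)) := by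
  simp only [tauA, AlgHom.comp_apply, Bialgebra.comulAlgHom_apply, GLn.comul_Dinv,
    Algebra.TensorProduct.map_tmul, AlgHom.id_apply, AlgHom.coe_coe, GLn.diag_Dinv]
  simp

theorem prod_tmul {B C : Type*} [CommRing B] [Algebra k B] [CommRing C] [Algebra k C] {ι : Type*}
    (s : Finset ι) (a : ι → B) (b : ι → C) :
    ∏ i ∈ s, (a i ⊗ₜ[k] b i) = (∏ i ∈ s, a i) ⊗ₜ[k] (∏ i ∈ s, b i) := by
  classical
  induction s using Finset.induction_on with
  | empty => simp [Algebra.TensorProduct.one_def]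
  | insert x s hx ih =>
    rw [Finset.prod_insert hx, Finset.prod_insert hx, Finset.prod_insert hx, ih,
      Algebra.TensorProduct.tmul_mul_tmul]

theorem tauA_word {d : ℕ} (I J : Fin d → Fin r) (q : ℕ) :
    tauA r k (wordG I J * GLn.Dinv ^ q) =
      (wordG I J * GLn.Dinv ^ q : GLn r k) ⊗ₜ[k] LaurentPolynomial.T ((d : ℤ) - r * q) := by
  rw [map_mul, map_pow, tauA_Dinv, wordG, map_prod]
  simp only [tauA_X]
  rw [prod_tmul, Finset.prod_const, Finset.card_univ, Fintype.card_fin,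
    Algebra.TensorProduct.tmul_pow, Algebra.TensorProduct.tmul_mul_tmul, LaurentPolynomial.T_pow,
    LaurentPolynomial.T_pow, ← LaurentPolynomial.T_add]
  congr 2
  ring

theorem tauA_of_mem {d q : ℕ} {x : GLn r k} (hx : x ∈ Wd r k d q) :
    tauA r k x = x ⊗ₜ[k] LaurentPolynomial.T ((d : ℤ) - r * q) := by
  induction hx using Submodule.span_induction with
  | mem x hx =>
    obtain ⟨I, J, rfl⟩ := hx
    exact tauA_word I J q
  | zero => rw [map_zero, TensorProduct.zero_tmul]
  | add x y _ _ hx hy => rw [map_add, hx, hy, TensorProduct.add_tmul]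
  | smul c x _ hx => rw [map_smul, hx, TensorProduct.smul_tmul']

/-- the coefficient of `T^h` -/
noncomputable def coefh (k : Type u) [Field k] (h : ℤ) : LaurentPolynomial k →ₗ[k] k :=
  Finsupp.lapply h ∘ₗ (AddMonoidAlgebra.coeffLinearEquiv k).toLinearMap

theorem coefh_T (h n : ℤ) : coefh k h (LaurentPolynomial.T n) = if n = h then 1 else 0 := by
  classical
  show (LaurentPolynomial.T n : LaurentPolynomial k).coeff h = _
  rw [LaurentPolynomial.T, AddMonoidAlgebra.coeff_single, Finsupp.single_apply]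

/-- the projection onto the part of degree `h` -/
noncomputable def pih (r : ℕ) (k : Type u) [Field k] (h : ℤ) : GLn r k →ₗ[k] GLn r k :=
  (TensorProduct.rid k (GLn r k)).toLinearMap ∘ₗ (coefh k h).lTensor (GLn r k) ∘ₗ
    (tauA r k).toLinearMap

theorem pih_of_mem (h : ℤ) {d q : ℕ} {x : GLn r k} (hx : x ∈ Wd r k d q) :
    pih r k h x = if (d : ℤ) - r * q = h then x else 0 := by
  simp only [pih, LinearMap.comp_apply, AlgHom.toLinearMap_apply, tauA_of_mem hx,
    LinearMap.lTensor_tmul, coefh_T, LinearEquiv.coe_coe, TensorProduct.rid_tmul]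
  split_ifs <;> simp

theorem pih_of_tau (h : ℤ) {x : GLn r k}
    (hx : tauA r k x = x ⊗ₜ[k] LaurentPolynomial.T h) : pih r k h x = x := by
  simp only [pih, LinearMap.comp_apply, AlgHom.toLinearMap_apply, hx, LinearMap.lTensor_tmul,
    coefh_T, LinearEquiv.coe_coe, TensorProduct.rid_tmul]
  simp

/-- the span of the words of degree `h` -/
noncomputable def Hh (r : ℕ) (k : Type u) [Field k] (h : ℤ) : Submodule k (GLn r k) :=
  ⨆ (p : ℕ × ℕ) (_ : (p.1 : ℤ) - r * p.2 = h), Wd r k p.1 p.2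

theorem pih_mem_Hh (h : ℤ) (x : GLn r k) : pih r k h x ∈ Hh r k h := by
  have hx : x ∈ ⨆ p : ℕ × ℕ, Wd r k p.1 p.2 := mem_Wall x
  induction hx using Submodule.iSup_induction' with
  | mem p x hx =>
    rw [pih_of_mem h hx]
    split_ifs with hp
    · exact (le_iSup₂ (f := fun (p : ℕ × ℕ) (_ : (p.1 : ℤ) - r * p.2 = h) => Wd r k p.1 p.2) p hp) hx
    · exact Submodule.zero_mem _
  | zero => rw [map_zero]; exact Submodule.zero_mem _
  | add x y _ _ hx hy => rw [map_add]; exact Submodule.add_mem _ hx hy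

theorem Wd_le_succ (d q : ℕ) : Wd r k d q ≤ Wd r k (d + r) (q + 1) := by
  apply Submodule.span_le.mpr
  rintro _ ⟨I, J, rfl⟩
  have hdet : (GLn.det : GLn r k) = ∑ σ : Equiv.Perm (Fin r),
      ((Equiv.Perm.sign σ : ℤ) : GLn r k) * ∏ l, GLn.X (σ l) l := by
    rw [GLn.det_eq, Matrix.det_apply']; rfl
  have h1 : wordG I J * GLn.Dinv ^ q = ∑ σ : Equiv.Perm (Fin r),
      ((Equiv.Perm.sign σ : ℤ) : k) • (wordG (k := k) (Fin.append I (fun l => σ l))
        (Fin.append J id) * GLn.Dinv ^ (q + 1)) := by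
    have h2 : wordG I J * GLn.Dinv ^ q = wordG I J * GLn.det * (GLn.Dinv : GLn r k) ^ (q + 1) := by
      have h3 := GLn.det_mul_Dinv (n := r) (k := k)
      rw [pow_succ]
      calc wordG I J * GLn.Dinv ^ q = wordG I J * GLn.Dinv ^ q * (GLn.det * GLn.Dinv) := by
            rw [h3, mul_one]
        _ = _ := by ring
    rw [h2, hdet, Finset.mul_sum, Finset.sum_mul]
    refine Finset.sum_congr rfl fun σ _ => ?_
    rw [wordG, wordG, Fin.prod_univ_add]
    simp only [Fin.append_left, Fin.append_right, id]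
    rw [Algebra.smul_def, map_intCast]; ring
  show wordG I J * GLn.Dinv ^ q ∈ Wd r k (d + r) (q + 1)
  rw [h1]
  exact Submodule.sum_mem _ fun σ _ => Submodule.smul_mem _ _ (word_mem_Wd _ _ _)

/-- the increasing family exhausting the degree `h` part -/
noncomputable def Gc (r : ℕ) (k : Type u) [Field k] (h : ℤ) (c : ℕ) : Submodule k (GLn r k) :=
  if 0 ≤ h + r * c then Wd r k (h + r * c).toNat c else ⊥

theorem Gc_le_Wd (h : ℤ) (c : ℕ) : Gc r k h c ≤ Wd r k (h + r * c).toNat c := by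
  unfold Gc; split_ifs
  · exact le_rfl
  · exact bot_le

theorem Gc_mono (h : ℤ) : Monotone (Gc r k h) := by
  apply monotone_nat_of_le_succ
  intro c
  unfold Gc
  by_cases hc : 0 ≤ h + r * c
  · have hc' : 0 ≤ h + (r : ℤ) * ((c + 1 : ℕ) : ℤ) := by push_cast; nlinarith [Int.natCast_nonneg r]
    rw [if_pos hc, if_pos hc']
    have e : (h + (r : ℤ) * ((c + 1 : ℕ) : ℤ)).toNat = (h + r * c).toNat + r := by
      have : h + (r : ℤ) * ((c + 1 : ℕ) : ℤ) = (h + r * c) + (r : ℤ) := by push_cast; ring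
      rw [this, Int.toNat_add hc (Int.natCast_nonneg r), Int.toNat_natCast]
    rw [e]
    exact Wd_le_succ _ _
  · rw [if_neg hc]; exact bot_le

theorem Wd_le_Gc {h : ℤ} {d q : ℕ} (hd : (d : ℤ) - r * q = h) : Wd r k d q ≤ Gc r k h q := by
  unfold Gc
  have e : h + (r : ℤ) * q = d := by rw [← hd]; ring
  rw [e, if_pos (Int.natCast_nonneg d), Int.toNat_natCast]

theorem exists_Gc (h : ℤ) {x : GLn r k}
    (hx : tauA r k x = x ⊗ₜ[k] LaurentPolynomial.T h) : ∃ c, x ∈ Gc r k h c := by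
  have h1 : x ∈ Hh r k h := pih_of_tau h hx ▸ pih_mem_Hh h x
  have h2 : Hh r k h ≤ ⨆ c, Gc r k h c :=
    iSup₂_le fun p hp => le_trans (Wd_le_Gc hp) (le_iSup (Gc r k h) p.2)
  exact (Submodule.mem_iSup_of_directed _ (Gc_mono h).directed_le).mp (h2 h1)

theorem exists_common_Gc (h : ℤ) {ι : Type*} (s : Finset ι) (x : ι → GLn r k)
    (hx : ∀ i ∈ s, tauA r k (x i) = x i ⊗ₜ[k] LaurentPolynomial.T h) :
    ∃ c : ℕ, 0 < c ∧ ∀ i ∈ s, x i ∈ Gc r k h c := by
  classical
  induction s using Finset.induction_on with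
  | empty => exact ⟨1, Nat.one_pos, fun i hi => absurd hi (Finset.notMem_empty i)⟩
  | insert a s ha ih =>
    obtain ⟨c', hc', h'⟩ := ih fun i hi => hx i (Finset.mem_insert_of_mem hi)
    obtain ⟨c₀, h₀⟩ := exists_Gc h (hx a (Finset.mem_insert_self a s))
    refine ⟨max c' c₀, lt_of_lt_of_le hc' (le_max_left _ _), ?_⟩
    intro i hi
    rcases Finset.mem_insert.mp hi with rfl | hi
    · exact Gc_mono h (le_max_right _ _) h₀
    · exact Gc_mono h (le_max_left _ _) (h' i hi)

theorem exists_common (h : ℤ) {ι : Type*} (s : Finset ι) (x : ι → GLn r k)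
    (hx : ∀ i ∈ s, tauA r k (x i) = x i ⊗ₜ[k] LaurentPolynomial.T h) :
    ∃ c : ℕ, 0 < c ∧ ∀ i ∈ s, x i ∈ Wd r k (h + r * c).toNat c := by
  obtain ⟨c, hc, h'⟩ := exists_common_Gc h s x hx
  exact ⟨c, hc, fun i hi => Gc_le_Wd h c (h' i hi)⟩

end Words

section Main

open Groth.Agent.Lib.GLnIntH1 Groth.Agent.Lib.Integral_helper9
  Groth.Agent.Lib.Cosemisimple_helper9 Groth.Agent.Lib.Subcoalg_helper9
  Groth.Agent.Lib.CoeffSpace_helper9

variable {k : Type u} [Field k] {r : ℕ} {V : Type w} [AddCommGroup V] [Module k V]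

theorem tauA_of_CH (ρ : HopfRep.Comod k (GLn r k) V) (h : ℤ)
    (hh : ∀ v, (GLin.comodAlong (GLn.diag r k (fun _ => 1)) ρ).coact v =
      v ⊗ₜ[k] LaurentPolynomial.T h)
    (f : V →ₗ[k] GLn r k) (hf : CH ρ (reg k (GLn r k)) f) (v : V) :
    tauA r k (f v) = f v ⊗ₜ[k] LaurentPolynomial.T h := by
  rw [tauA_apply, ← reg_coact, hf]
  have key : ∀ t : V ⊗[k] GLn r k,
      TensorProduct.map (LinearMap.id : GLn r k →ₗ[k] GLn r k)
        ((GLn.diag r k (fun _ => 1) : GLn r k →ₐc[k] LaurentPolynomial k) :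
          GLn r k →ₗ[k] LaurentPolynomial k) (f.rTensor (GLn r k) t) =
      f.rTensor (LaurentPolynomial k)
        (TensorProduct.map (LinearMap.id : V →ₗ[k] V)
          ((GLn.diag r k (fun _ => 1) : GLn r k →ₐc[k] LaurentPolynomial k) :
            GLn r k →ₗ[k] LaurentPolynomial k) t) := by
    intro t
    induction t using TensorProduct.induction_on with
    | zero => simp
    | tmul x a => simp
    | add x y hx hy => simp only [map_add, hx, hy]
  rw [key, ← GLin.comodAlong_coact, hh, LinearMap.rTensor_tmul]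

theorem sum_basis_tmul_evl {m : ℕ} (bV : Module.Basis (Fin m) k V) (A : Type v) [AddCommGroup A]
    [Module k A] (x : V ⊗[k] A) : ∑ j, bV j ⊗ₜ[k] evl A (bV.coord j) x = x := by
  induction x using TensorProduct.induction_on with
  | zero => simp
  | tmul v a =>
    simp only [evl_tmul, Module.Basis.coord_apply, TensorProduct.tmul_smul]
    simp only [TensorProduct.smul_tmul', ← TensorProduct.sum_tmul]
    rw [bV.sum_repr]
  | add x y hx hy =>
    simp only [map_add, TensorProduct.tmul_add, Finset.sum_add_distrib, hx, hy]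

/-- the sum over the row words of the twisted products -/
noncomputable def Theta2 (r : ℕ) (k : Type u) [Field k] (a c : ℕ) :
    ((Fin a → Fin r) → TensorPower k a (Fin r → k)) →ₗ[k] GLn r k :=
  ∑ I : Fin a → Fin r, (LinearMap.mulRight k ((GLn.Dinv : GLn r k) ^ c) ∘ₗ
    PhiT a (fun s => phiRow r k (I s))) ∘ₗ LinearMap.proj I

theorem Wd_le_range (a c : ℕ) : Wd r k a c ≤ LinearMap.range (Theta2 r k a c) := by
  classical
  apply Submodule.span_le.mpr
  rintro _ ⟨I, J, rfl⟩
  obtain ⟨t, ht⟩ := exists_PhiT_word (k := k) I J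
  refine ⟨Pi.single I t, ?_⟩
  rw [Theta2, LinearMap.sum_apply, Finset.sum_eq_single I]
  · simp [ht]
  · intro I' _ hI'
    simp [Pi.single_eq_of_ne hI']
  · intro h; exact absurd (Finset.mem_univ I) h

variable [CharZero k] [Module.Finite k V]

theorem main (ρ : HopfRep.Comod k (GLn r k) V) (h : ℤ)
    (hh : ∀ v, (GLin.comodAlong (GLn.diag r k (fun _ => 1)) ρ).coact v =
      v ⊗ₜ[k] LaurentPolynomial.T h) :
    ∃ (a b c : ℕ), 0 < c ∧
      ∃ (i : V →ₗ[k] (Fin b → TensorPower k a (Fin r → k)))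
        (p : (Fin b → TensorPower k a (Fin r → k)) →ₗ[k] V),
        p ∘ₗ i = LinearMap.id ∧
        CH ρ (Comod.twist (Comod.pi fun _ : Fin b => Comod.tpow (stdG r k) a)
            ((GLn.Dinv : GLn r k) ^ c)
            (IsGroupLikeElem.pow ⟨GLn.counit_Dinv, GLn.comul_Dinv⟩)) i ∧
        CH (Comod.twist (Comod.pi fun _ : Fin b => Comod.tpow (stdG r k) a)
            ((GLn.Dinv : GLn r k) ^ c)
            (IsGroupLikeElem.pow ⟨GLn.counit_Dinv, GLn.comul_Dinv⟩)) ρ p := by
  classical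
  letI := ρ
  -- a basis and the coefficient maps
  let m := Module.finrank k V
  let bV : Module.Basis (Fin m) k V := Module.finBasis k V
  let κc : Fin m → V →ₗ[k] GLn r k := fun j => coeffMap (C := GLn r k) (bV.coord j)
  have hκc : ∀ j, CH ρ (reg k (GLn r k)) (κc j) := fun j =>
    (CH_iff ρ (reg k (GLn r k)) _).mpr (isComodHom_coeffMap (bV.coord j))
  -- a common denominator
  obtain ⟨c, hc, hmem⟩ := exists_common (r := r) (k := k) h
    (Finset.univ : Finset (Fin m × Fin m)) (fun p => κc p.1 (bV p.2))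
    (fun p _ => tauA_of_CH ρ h hh (κc p.1) (hκc p.1) (bV p.2))
  set a := (h + (r : ℤ) * c).toNat with ha
  have hmem' : ∀ j v, κc j v ∈ Wd r k a c := by
    intro j v
    rw [← bV.sum_repr v, map_sum]
    refine Submodule.sum_mem _ fun l _ => ?_
    rw [map_smul]
    exact Submodule.smul_mem _ _ (hmem (j, l) (Finset.mem_univ _))
  -- the big comodule
  let ι := Fin m × (Fin a → Fin r)
  let b := Fintype.card ι
  let e : ι ≃ Fin b := Fintype.equivFin ι
  let γ : GLn r k := GLn.Dinv ^ c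
  have hγ : IsGroupLikeElem k γ := IsGroupLikeElem.pow ⟨GLn.counit_Dinv, GLn.comul_Dinv⟩
  let cT : HopfRep.Comod k (GLn r k) (TensorPower k a (Fin r → k)) := Comod.tpow (stdG r k) a
  let dE : HopfRep.Comod k (GLn r k) (Fin b → TensorPower k a (Fin r → k)) :=
    Comod.twist (Comod.pi fun _ : Fin b => cT) γ hγ
  have hE : @HopfRep.IsSemisimpleComod k (GLn r k) _ _ _ _
      (Fin b → TensorPower k a (Fin r → k)) _ _ dE := by
    letI := dE
    exact isSemisimpleComod_of_integral k (GLn r k) (alphaGL r k)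
      (Fin b → TensorPower k a (Fin r → k)) alphaGL_integral alphaGL_one
  -- the map to the cofree comodule
  let Θ : (Fin b → TensorPower k a (Fin r → k)) →ₗ[k] Hoch.Ind k (GLn r k) V :=
    ∑ p : ι, mkInd (k := k) (C := GLn r k) (bV p.1) ∘ₗ (LinearMap.mulRight k γ ∘ₗ
      (PhiT a (fun s => phiRow r k (p.2 s)) ∘ₗ LinearMap.proj (e p)))
  have hΘ : CH dE (Hoch.Ind.comod k (GLn r k) V) Θ := by
    apply CH.sum
    intro p _
    have h1 : CH (Comod.pi fun _ : Fin b => cT) (reg k (GLn r k))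
        (PhiT a (fun s => phiRow r k (p.2 s)) ∘ₗ LinearMap.proj (e p)) :=
      (CH_proj (fun _ : Fin b => cT) (e p)).comp
        (CH_PhiT (stdG r k) a _ (fun t => CH_phiRow _))
    have h2 := CH_twist _ _ h1 γ hγ
    have h3 : CH (reg k (GLn r k)) (Hoch.Ind.comod k (GLn r k) V)
        (mkInd (k := k) (C := GLn r k) (bV p.1)) :=
      (CH_iff _ _ _).mpr (isComodHom_mkInd (bV p.1))
    exact h2.comp h3
  have hκ : CH ρ (Hoch.Ind.comod k (GLn r k) V) (coactInd ρ) :=
    (CH_iff _ _ _).mpr (isComodHom_coactInd ρ)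
  have hrange : LinearMap.range (coactInd ρ) ≤ LinearMap.range Θ := by
    rintro _ ⟨v, rfl⟩
    have hex : ∀ j, ∃ wj, Theta2 r k a c wj = κc j v := fun j => Wd_le_range a c (hmem' j v)
    choose wj hwj using hex
    refine ⟨fun s => wj (e.symm s).1 (e.symm s).2, ?_⟩
    have hsum : Θ (fun s => wj (e.symm s).1 (e.symm s).2) =
        ∑ j, mkInd (k := k) (C := GLn r k) (bV j) (Theta2 r k a c (wj j)) := by
      simp only [Θ, LinearMap.sum_apply, LinearMap.comp_apply, LinearMap.proj_apply,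
        Equiv.symm_apply_apply, Theta2, map_sum]
      rw [Fintype.sum_prod_type]
    rw [hsum]
    simp only [hwj]
    rw [coactInd_apply, ← sum_basis_tmul_evl bV (GLn r k) (ρ.coact v), map_sum]
    rfl
  obtain ⟨i, hi, hΘi⟩ := exists_lift ρ dE (Hoch.Ind.comod k (GLn r k) V) hE Θ hΘ (coactInd ρ) hκ
    hrange
  have hinj : Function.Injective i := by
    intro x y hxy
    apply injective_coactInd ρ
    rw [← hΘi, LinearMap.comp_apply, LinearMap.comp_apply, hxy]
  obtain ⟨p, hp, hpi⟩ := exists_retraction ρ dE hE i hi hinj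
  exact ⟨a, b, c, hc, i, p, hpi, hi, hp⟩

end Main

end Groth.Agent.Lib.TPowGLnH1
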