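import Mathlib

set_option autoImplicit false
set_option linter.style.haveILetI false
set_option linter.unusedSectionVars false

universe v u v' u'

open CategoryTheory CategoryTheory.Limits CategoryTheory.Pretriangulated CategoryTheory.Triangulated

namespace Groth.Agent.Lib.TQuotH4

section Ext

variable {E : Type u'} [Category.{v'} E] [Preadditive E] [HasZeroObject E] [HasShift E ℤ]
  [∀ n : ℤ, (shiftFunctor E n).Additive] [Pretriangulated E]

lemma tStructure_ext (t₁ t₂ : TStructure E) (hle : t₁.le = t₂.le) (hge : t₁.ge = t₂.ge) :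
    t₁ = t₂ := by
  cases t₁
  cases t₂
  simp only at hle hge
  subst hle hge
  rfl

lemma isIso₁_of_zero (t'' : TStructure E) (T : Triangle E) (hT : T ∈ distTriang E) (n : ℤ)
    [t''.IsLE T.obj₁ n] [t''.IsLE T.obj₂ n] [t''.IsGE T.obj₃ (n + 1)] : IsIso T.mor₁ := by
  have h2 : T.mor₂ = 0 := t''.zero _ n (n + 1)
  obtain ⟨r, hr⟩ := Triangle.yoneda_exact₃ T hT (𝟙 T.obj₃) (by rw [h2, zero_comp])
  haveI : t''.IsLE (T.obj₁⟦(1 : ℤ)⟧) (n - 1) := t''.isLE_shift T.obj₁ n 1 (n - 1)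
  have hr0 : r = 0 := t''.zero r (n - 1) (n + 1)
  rw [← Triangle.isZero₃_iff_isIso₁ T hT, IsZero.iff_id_eq_zero, hr, hr0, comp_zero]

lemma isIso₂_of_zero (t'' : TStructure E) (T : Triangle E) (hT : T ∈ distTriang E) (n : ℤ)
    [t''.IsLE T.obj₁ (n - 1)] [t''.IsGE T.obj₂ n] [t''.IsGE T.obj₃ n] : IsIso T.mor₂ := by
  have h1 : T.mor₁ = 0 := t''.zero _ (n - 1) n
  obtain ⟨g, hg⟩ := Triangle.coyoneda_exact₂ _ (inv_rot_of_distTriang _ hT) (𝟙 T.obj₁) (by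
    show 𝟙 T.obj₁ ≫ T.mor₁ = 0
    rw [h1, comp_zero])
  haveI : t''.IsGE T.invRotate.obj₁ (n + 1) := t''.isGE_shift T.obj₃ n (-1) (n + 1)
  haveI : t''.IsLE T.invRotate.obj₂ (n - 1) := inferInstanceAs (t''.IsLE T.obj₁ (n - 1))
  have hg0 : g = 0 := t''.zero g (n - 1) (n + 1)
  have hid : 𝟙 T.obj₁ = 0 := hg.trans (by rw [hg0]; exact zero_comp)
  exact (Triangle.isZero₁_iff_isIso₂ T hT).1 ((IsZero.iff_id_eq_zero _).2 hid)

end Ext

section

variable {C : Type u} [Category.{v} C] [Preadditive C] [HasZeroObject C] [HasShift C ℤ]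
  [∀ n : ℤ, (shiftFunctor C n).Additive] [Pretriangulated C] [IsTriangulated C]
  (t : TStructure C) (hb : ∀ X : C, t.bounded X)
  (D : ObjectProperty C) [D.IsTriangulated] [D.IsClosedUnderIsomorphisms]
  (h1 : ∀ X : C, D X → ∀ n : ℤ, D ((t.truncGELE n n).obj X))
  (h2 : ∀ (X Y Z : C) (f : X ⟶ Y) (g : Y ⟶ Z) (h : Z ⟶ X⟦(1 : ℤ)⟧),
    Triangle.mk f g h ∈ distTriang C → t.heart X → t.heart Y → t.heart Z → D Y → D X ∧ D Z)

include hb h1 in
lemma truncLT_mem (N : C) (hN : D N) (n : ℤ) : D ((t.truncLT n).obj N) := by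
  obtain ⟨_, ⟨b, hb'⟩⟩ := hb N
  have hGELT : ∀ m : ℤ, D ((t.truncGELT m (m + 1)).obj N) := fun m =>
    D.prop_of_iso ((t.truncGELEIsoTruncGELT m m (m + 1) rfl).app N) (h1 N hN m)
  have key : ∀ (k : ℕ) (m : ℤ), m + k = b + 1 → D ((t.truncLT m).obj N) := by
    intro k
    induction k with
    | zero =>
      intro m hm
      obtain rfl : m = b + 1 := by simpa using hm
      haveI : IsIso ((t.truncLTι (b + 1)).app N) :=
        (t.isLE_iff_isIso_truncLTι_app b (b + 1) rfl N).1 hb'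
      exact D.prop_of_iso (asIso ((t.truncLTι (b + 1)).app N)).symm hN
    | succ k ih =>
      intro m hm
      have h' : D ((t.truncLT (m + 1)).obj N) := ih (m + 1) (by push_cast at hm; omega)
      have h'' := D.ext_of_isTriangulatedClosed₁ _
        (t.triangleLTLTGELT_distinguished m (m + 1) (by omega) N) h' (hGELT m)
      exact h''
  by_cases hn : n ≤ b + 1
  · exact key (b + 1 - n).toNat n (by
      have := Int.toNat_of_nonneg (show 0 ≤ b + 1 - n by omega)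
      omega)
  · haveI := hb'
    haveI : t.IsLE N (n - 1) := t.isLE_of_le N b (n - 1) (by omega)
    haveI : IsIso ((t.truncLTι n).app N) :=
      (t.isLE_iff_isIso_truncLTι_app (n - 1) n (by omega) N).1 inferInstance
    exact D.prop_of_iso (asIso ((t.truncLTι n).app N)).symm hN

include hb h1 h2 in
lemma truncLT_one_mem {X₂ X' N : C} (s : X₂ ⟶ X') (p : X' ⟶ N) (δ : N ⟶ X₂⟦(1 : ℤ)⟧)
    (hT : Triangle.mk s p δ ∈ distTriang C) [t.IsGE X₂ 1] (hN : D N) :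
    D ((t.truncLT 1).obj X') := by
  have hTN : D ((t.truncLT 1).obj N) := truncLT_mem t hb D h1 N hN 1
  haveI hT0 : t.IsLE ((t.truncLT 1).obj X') 0 := t.isLE_truncLT_obj X' 1 0
  haveI hTN0 : t.IsLE ((t.truncLT 1).obj N) 0 := t.isLE_truncLT_obj N 1 0
  -- first octahedron
  obtain ⟨Q, v₁₃, w₁₃, mem₁₃⟩ := distinguished_cocone_triangle ((t.truncLTι 1).app X' ≫ p)
  have H₁ := someOctahedron rfl (t.triangleLTGE_distinguished 1 X') (rot_of_distTriang _ hT) mem₁₃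
  haveI hQ : t.IsGE Q 0 :=
    t.isGE₂ _ H₁.mem 0 (t.isGE_truncGE_obj X' 1 0) (t.isGE_shift X₂ 1 1 0)
  -- the comparison map of truncations
  obtain ⟨u, hu⟩ : ∃ u : (t.truncLT 1).obj X' ⟶ (t.truncLT 1).obj N,
      u ≫ (t.truncLTι 1).app N = (t.truncLTι 1).app X' ≫ p :=
    ⟨t.liftTruncLT ((t.truncLTι 1).app X' ≫ p) 0 1 (by omega), t.liftTruncLT_ι _ 0 1 (by omega)⟩
  obtain ⟨c, v, w, mem₁₂⟩ := distinguished_cocone_triangle u
  have H₂ := someOctahedron hu mem₁₂ (t.triangleLTGE_distinguished 1 N) mem₁₃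
  haveI hc0 : t.IsGE c 0 := by
    haveI : t.IsGE (((t.truncGE 1).obj N)⟦(-1 : ℤ)⟧) 0 := by
      haveI := t.isGE_shift ((t.truncGE 1).obj N) 1 (-1) 2
      exact t.isGE_of_ge _ 0 2
    exact t.isGE₂ _ (inv_rot_of_distTriang _ H₂.mem) 0 this hQ
  haveI hc0' : t.IsLE c 0 := by
    haveI : t.IsLE (((t.truncLT 1).obj X')⟦(1 : ℤ)⟧) 0 := by
      haveI := t.isLE_shift ((t.truncLT 1).obj X') 0 1 (-1)
      exact t.isLE_of_le _ (-1) 0
    exact t.isLE₂ _ (rot_of_distTriang _ mem₁₂) 0 hTN0 this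
  -- third octahedron
  obtain ⟨vb, hvb⟩ : ∃ vb : (t.truncGE 0).obj ((t.truncLT 1).obj N) ⟶ c,
      (t.truncGEπ 0).app ((t.truncLT 1).obj N) ≫ vb = v :=
    ⟨t.descTruncGE v 0, t.π_descTruncGE v 0⟩
  obtain ⟨k, i, w', memk⟩ := distinguished_cocone_triangle₁ vb
  have H₃ := someOctahedron' hvb (t.triangleLTGE_distinguished 0 ((t.truncLT 1).obj N)) memk mem₁₂
  haveI hk0 : t.IsLE k 0 := by
    haveI : t.IsLE (((t.truncLT 0).obj ((t.truncLT 1).obj N))⟦(1 : ℤ)⟧) 0 := by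
      haveI := t.isLE_truncLT_obj ((t.truncLT 1).obj N) 0 0
      haveI := t.isLE_shift ((t.truncLT 0).obj ((t.truncLT 1).obj N)) 0 1 (-1)
      exact t.isLE_of_le _ (-1) 0
    exact t.isLE₂ _ (rot_of_distTriang _ H₃.mem) 0 hT0 this
  haveI hh0 : t.IsGE ((t.truncGE 0).obj ((t.truncLT 1).obj N)) 0 := inferInstance
  haveI hh0' : t.IsLE ((t.truncGE 0).obj ((t.truncLT 1).obj N)) 0 := inferInstance
  haveI hk0' : t.IsGE k 0 := by
    haveI : t.IsGE (c⟦(-1 : ℤ)⟧) 0 := by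
      haveI := t.isGE_shift c 0 (-1) 1
      exact t.isGE_of_ge _ 0 1
    exact t.isGE₂ _ (inv_rot_of_distTriang _ memk) 0 this hh0
  have hDh : D ((t.truncGE 0).obj ((t.truncLT 1).obj N)) := h1 N hN 0
  have hDc : D c := (h2 k _ c i vb w' memk ((t.mem_heart_iff _).2 ⟨hk0, hk0'⟩)
    ((t.mem_heart_iff _).2 ⟨hh0', hh0⟩) ((t.mem_heart_iff _).2 ⟨hc0', hc0⟩) hDh).2
  have hfin := D.ext_of_isTriangulatedClosed₁ _ mem₁₂ hTN hDc
  exact hfin

section Quot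

variable {E : Type u'} [Category.{v'} E] [Preadditive E] [HasZeroObject E] [HasShift E ℤ]
  [∀ n : ℤ, (shiftFunctor E n).Additive] [Pretriangulated E]
  (q : C ⥤ E) [q.CommShift ℤ] [q.IsTriangulated] [q.IsLocalization D.trW]

include hb h1 h2 in
lemma hom_eq_zero (X₁ X₂ : C) [t.IsLE X₁ 0] [t.IsGE X₂ 1] (f : q.obj X₁ ⟶ q.obj X₂) : f = 0 := by
  obtain ⟨φ, hφ⟩ := Localization.exists_leftFraction q D.trW f
  obtain ⟨N, p, δ, hT, hN⟩ := φ.hs
  have hDT := truncLT_one_mem t hb D h1 h2 φ.s p δ hT hN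
  have hs' : D.trW ((t.truncGEπ 1).app φ.Y') :=
    ObjectProperty.trW.mk' (P := D) (t.triangleLTGE_distinguished 1 φ.Y') hDT
  have hz : φ.f ≫ (t.truncGEπ 1).app φ.Y' = 0 := t.zero _ 0 1
  haveI : IsIso (q.map ((t.truncGEπ 1).app φ.Y')) := Localization.inverts q D.trW _ hs'
  haveI : IsIso (q.map φ.s) := Localization.inverts q D.trW _ φ.hs
  have h0 : q.map φ.f = 0 := by
    rw [← cancel_mono (q.map ((t.truncGEπ 1).app φ.Y')), zero_comp, ← q.map_comp, hz, q.map_zero]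
  rw [hφ, ← cancel_mono (q.map φ.s), MorphismProperty.LeftFraction.map_comp_map_s, zero_comp, h0]

/-- The essential image of `t.le n`. -/
def leQ (n : ℤ) : ObjectProperty E := fun Y => ∃ X : C, t.IsLE X n ∧ Nonempty (q.obj X ≅ Y)

/-- The essential image of `t.ge n`. -/
def geQ (n : ℤ) : ObjectProperty E := fun Y => ∃ X : C, t.IsGE X n ∧ Nonempty (q.obj X ≅ Y)

include hb h1 h2 in
lemma exists_tQ : ∃ t' : TStructure E, t'.le = leQ t q ∧ t'.ge = geQ t q := by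
  haveI : q.EssSurj := Localization.essSurj q D.trW
  refine ⟨{
    le := leQ t q
    ge := geQ t q
    le_isClosedUnderIsomorphisms := fun n => ⟨fun e ⟨X, hX, ⟨e'⟩⟩ => ⟨X, hX, ⟨e' ≪≫ e⟩⟩⟩
    ge_isClosedUnderIsomorphisms := fun n => ⟨fun e ⟨X, hX, ⟨e'⟩⟩ => ⟨X, hX, ⟨e' ≪≫ e⟩⟩⟩
    le_shift := ?_
    ge_shift := ?_
    zero' := ?_
    le_zero_le := ?_
    ge_one_le := ?_
    exists_triangle_zero_one := ?_ }, rfl, rfl⟩
  · rintro n a n' h Y ⟨X, hX, ⟨e⟩⟩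
    haveI := hX
    exact ⟨X⟦a⟧, t.isLE_shift X n a n' h,
      ⟨(q.commShiftIso a).app X ≪≫ (shiftFunctor E a).mapIso e⟩⟩
  · rintro n a n' h Y ⟨X, hX, ⟨e⟩⟩
    haveI := hX
    exact ⟨X⟦a⟧, t.isGE_shift X n a n' h,
      ⟨(q.commShiftIso a).app X ≪≫ (shiftFunctor E a).mapIso e⟩⟩
  · rintro Y₁ Y₂ f ⟨X₁, hX₁, ⟨e₁⟩⟩ ⟨X₂, hX₂, ⟨e₂⟩⟩
    haveI := hX₁
    haveI := hX₂
    have h0 := hom_eq_zero t hb D h1 h2 q X₁ X₂ (e₁.hom ≫ f ≫ e₂.inv)
    have : f = e₁.inv ≫ (e₁.hom ≫ f ≫ e₂.inv) ≫ e₂.hom := by simp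
    rw [this, h0, zero_comp, comp_zero]
  · rintro Y ⟨X, hX, e⟩
    haveI := hX
    exact ⟨X, t.isLE_of_le X 0 1, e⟩
  · rintro Y ⟨X, hX, e⟩
    haveI := hX
    exact ⟨X, t.isGE_of_ge X 0 1, e⟩
  · intro A
    obtain ⟨X₀, X₁, hX₀, hX₁, f, g, h, mem⟩ := t.exists_triangle_zero_one (q.objPreimage A)
    refine ⟨q.obj X₀, q.obj X₁, ⟨X₀, ⟨hX₀⟩, ⟨Iso.refl _⟩⟩, ⟨X₁, ⟨hX₁⟩, ⟨Iso.refl _⟩⟩,
      q.map f ≫ (q.objObjPreimageIso A).hom, (q.objObjPreimageIso A).inv ≫ q.map g,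
      q.map h ≫ (q.commShiftIso (1 : ℤ)).hom.app X₀, ?_⟩
    refine isomorphic_distinguished _ (q.map_distinguished _ mem) _ ?_
    exact Triangle.isoMk _ _ (Iso.refl _) (q.objObjPreimageIso A).symm (Iso.refl _)
      (show (q.map f ≫ (q.objObjPreimageIso A).hom) ≫ (q.objObjPreimageIso A).inv =
        𝟙 (q.obj X₀) ≫ q.map f by
          rw [Category.assoc, Iso.hom_inv_id, Category.comp_id, Category.id_comp])
      (show ((q.objObjPreimageIso A).inv ≫ q.map g) ≫ 𝟙 (q.obj X₁) =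
        (q.objObjPreimageIso A).inv ≫ q.map g from Category.comp_id _)
      (show (q.map h ≫ (q.commShiftIso (1 : ℤ)).hom.app X₀) ≫
          (shiftFunctor E (1 : ℤ)).map (𝟙 (q.obj X₀)) =
        𝟙 (q.obj X₁) ≫ (q.map h ≫ (q.commShiftIso (1 : ℤ)).hom.app X₀) by
          simp)

lemma le_ge_eq_of_exact [q.EssSurj] (t'' : TStructure E)
    (hle : ∀ (X : C) (n : ℤ), t.IsLE X n → t''.IsLE (q.obj X) n)
    (hge : ∀ (X : C) (n : ℤ), t.IsGE X n → t''.IsGE (q.obj X) n) :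
    t''.le = leQ t q ∧ t''.ge = geQ t q := by
  constructor
  · funext n Y
    apply propext
    constructor
    · intro hY
      haveI : t''.IsLE Y n := ⟨hY⟩
      have hT := q.map_distinguished _ (t.triangleLTGE_distinguished (n + 1) (q.objPreimage Y))
      haveI : t''.IsLE (q.mapTriangle.obj ((t.triangleLTGE (n + 1)).obj (q.objPreimage Y))).obj₁ n :=
        hle _ n (inferInstanceAs (t.IsLE ((t.truncLT (n + 1)).obj (q.objPreimage Y)) n))
      haveI : t''.IsLE (q.mapTriangle.obj ((t.triangleLTGE (n + 1)).obj (q.objPreimage Y))).obj₂ n :=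
        t''.isLE_of_iso (q.objObjPreimageIso Y).symm n
      haveI : t''.IsGE (q.mapTriangle.obj ((t.triangleLTGE (n + 1)).obj (q.objPreimage Y))).obj₃
          (n + 1) :=
        hge _ (n + 1) (inferInstanceAs (t.IsGE ((t.truncGE (n + 1)).obj (q.objPreimage Y)) (n + 1)))
      haveI : IsIso (q.map ((t.truncLTι (n + 1)).app (q.objPreimage Y))) :=
        isIso₁_of_zero t'' _ hT n
      exact ⟨(t.truncLT (n + 1)).obj (q.objPreimage Y), inferInstance,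
        ⟨asIso (q.map ((t.truncLTι (n + 1)).app (q.objPreimage Y))) ≪≫ q.objObjPreimageIso Y⟩⟩
    · rintro ⟨X, hX, ⟨e⟩⟩
      exact (t''.le n).prop_of_iso e (hle X n hX).le
  · funext n Y
    apply propext
    constructor
    · intro hY
      haveI : t''.IsGE Y n := ⟨hY⟩
      have hT := q.map_distinguished _ (t.triangleLTGE_distinguished n (q.objPreimage Y))
      haveI : t''.IsLE (q.mapTriangle.obj ((t.triangleLTGE n).obj (q.objPreimage Y))).obj₁ (n - 1) :=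
        hle _ (n - 1) (inferInstanceAs (t.IsLE ((t.truncLT n).obj (q.objPreimage Y)) (n - 1)))
      haveI : t''.IsGE (q.mapTriangle.obj ((t.triangleLTGE n).obj (q.objPreimage Y))).obj₂ n :=
        t''.isGE_of_iso (q.objObjPreimageIso Y).symm n
      haveI : t''.IsGE (q.mapTriangle.obj ((t.triangleLTGE n).obj (q.objPreimage Y))).obj₃ n :=
        hge _ n (inferInstanceAs (t.IsGE ((t.truncGE n).obj (q.objPreimage Y)) n))
      haveI : IsIso (q.map ((t.truncGEπ n).app (q.objPreimage Y))) :=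
        isIso₂_of_zero t'' _ hT n
      exact ⟨(t.truncGE n).obj (q.objPreimage Y), inferInstance,
        ⟨(asIso (q.map ((t.truncGEπ n).app (q.objPreimage Y)))).symm ≪≫ q.objObjPreimageIso Y⟩⟩
    · rintro ⟨X, hX, ⟨e⟩⟩
      exact (t''.ge n).prop_of_iso e (hge X n hX).ge

include hb h1 h2 in
theorem main19131 :
    ∃ t' : TStructure E,
      (∀ (X : C) (n : ℤ), t.IsLE X n → t'.IsLE (q.obj X) n) ∧
      (∀ (X : C) (n : ℤ), t.IsGE X n → t'.IsGE (q.obj X) n) ∧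
      (∀ (Y : E) (n : ℤ), t'.IsLE Y n ↔ ∃ X : C, t.IsLE X n ∧ Nonempty (q.obj X ≅ Y)) ∧
      (∀ (Y : E) (n : ℤ), t'.IsGE Y n ↔ ∃ X : C, t.IsGE X n ∧ Nonempty (q.obj X ≅ Y)) ∧
      ∀ t'' : TStructure E,
        (∀ (X : C) (n : ℤ), t.IsLE X n → t''.IsLE (q.obj X) n) →
        (∀ (X : C) (n : ℤ), t.IsGE X n → t''.IsGE (q.obj X) n) → t'' = t' := by
  obtain ⟨t', hle', hge'⟩ := exists_tQ t hb D h1 h2 q
  have hl : ∀ (Y : E) (n : ℤ), t'.IsLE Y n ↔ leQ t q n Y := fun Y n =>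
    ⟨fun h => by rw [← hle']; exact h.le, fun h => ⟨by rw [hle']; exact h⟩⟩
  have hg : ∀ (Y : E) (n : ℤ), t'.IsGE Y n ↔ geQ t q n Y := fun Y n =>
    ⟨fun h => by rw [← hge']; exact h.ge, fun h => ⟨by rw [hge']; exact h⟩⟩
  refine ⟨t', fun X n hX => (hl _ n).2 ⟨X, hX, ⟨Iso.refl _⟩⟩,
    fun X n hX => (hg _ n).2 ⟨X, hX, ⟨Iso.refl _⟩⟩, hl, hg, ?_⟩
  intro t'' h₁ h₂
  haveI : q.EssSurj := Localization.essSurj q D.trW
  obtain ⟨e₁, e₂⟩ := le_ge_eq_of_exact t q t'' h₁ h₂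
  exact tStructure_ext t'' t' (e₁.trans hle'.symm) (e₂.trans hge'.symm)

end Quot

end

end Groth.Agent.Lib.TQuotH4
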