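import Mathlib
import Groth.Prelude.Def_PolLaw2
import Groth.Prelude.Def_SymTen
import Groth.Agent.Lib.FlatTS_helper1

/-!
# `TS^n(A)` is generated by the elementary symmetric tensors (flat case) (helper1)

For a flat `R`-algebra `A`, the algebra of symmetric tensors `TS^n_R(A)` is generated by the
elementary symmetric tensors `σ_j(a)`.  Proof: `TS^n(A)` is spanned by the coefficients of
`w^{⊗ n}`, `w ∈ S ⊗ A`; in a test algebra with a nilpotent ideal `N`, `1 + w` (`w ∈ N(S ⊗ A)`)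
factors as a product of elements `1 + s ⊗ a`, and `(1 + s ⊗ a)^{⊗ n} = Σ s^j ⊗ σ_j(a)`.
-/

set_option autoImplicit false
universe u
open scoped TensorProduct

namespace Groth.Agent.Lib.TSGenH1

open Groth.Agent.Lib.GammaSpanH1 Groth.Agent.Lib.FreeFactH1 Groth.Agent.Lib.SymNormH1
  Groth.Agent.Lib.PolarH1 Groth.Agent.Lib.FlatTSH1

variable (R : Type u) [CommRing R] (A : Type u) [CommRing A] [Algebra R A] (n : ℕ)

/-- the `j`-th elementary symmetric tensor in `a` -/
noncomputable def sig (a : A) (j : ℕ) : ⨂[R] _ : Fin n, A :=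
  ∑ I ∈ (Finset.univ : Finset (Fin n)).powersetCard j,
    PiTensorProduct.tprod R (fun i : Fin n => if i ∈ I then a else (1 : A))

/-- the subalgebra generated by the elementary symmetric tensors -/
noncomputable def Bs : Subalgebra R (⨂[R] _ : Fin n, A) :=
  Algebra.adjoin R {t : ⨂[R] _ : Fin n, A | ∃ (a : A) (j : ℕ), t = sig R A n a j}

theorem sig_mem_Bs (a : A) (j : ℕ) : sig R A n a j ∈ Bs R A n :=
  Algebra.subset_adjoin ⟨a, j, rfl⟩

theorem sig_mem_TS (a : A) (j : ℕ) : sig R A n a j ∈ SymTen.TS R A n := by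
  rw [SymTen.mem_TS_iff]
  intro σ
  unfold sig
  rw [map_sum]
  simp only [PiTensorProduct.reindex_tprod]
  refine Finset.sum_bij' (fun I _ => I.map σ.toEmbedding) (fun I _ => I.map σ.symm.toEmbedding)
    ?_ ?_ ?_ ?_ ?_
  · intro I hI
    rw [Finset.mem_powersetCard] at hI ⊢
    exact ⟨Finset.subset_univ _, by rw [Finset.card_map]; exact hI.2⟩
  · intro I hI
    rw [Finset.mem_powersetCard] at hI ⊢
    exact ⟨Finset.subset_univ _, by rw [Finset.card_map]; exact hI.2⟩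
  · intro I _
    ext i
    simp [Finset.mem_map_equiv]
  · intro I _
    ext i
    simp [Finset.mem_map_equiv]
  · intro I _
    congr 1
    funext i
    simp only [Finset.mem_map_equiv]

section test

variable (S : Type u) [CommRing S] [Algebra R S]

/-- the image of `S ⊗ Bs` in `S ⊗ T^n(A)` -/
noncomputable def EE : Subalgebra S (S ⊗[R] (⨂[R] _ : Fin n, A)) :=
  (Algebra.TensorProduct.map (AlgHom.id S S) (Bs R A n).val).range

theorem tmul_mem_EE (s : S) {b : ⨂[R] _ : Fin n, A} (hb : b ∈ Bs R A n) :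
    s ⊗ₜ[R] b ∈ EE R A n S :=
  ⟨s ⊗ₜ[R] ⟨b, hb⟩, by simp⟩

theorem ev_mem_of_mem_EE (ℓ : S →ₗ[R] R) {z : S ⊗[R] (⨂[R] _ : Fin n, A)}
    (hz : z ∈ EE R A n S) : ev (⨂[R] _ : Fin n, A) ℓ z ∈ Bs R A n := by
  obtain ⟨y, rfl⟩ := hz
  induction y using TensorProduct.induction_on with
  | zero =>
    simp only [map_zero]
    exact zero_mem _
  | tmul s b =>
    have : (Algebra.TensorProduct.map (AlgHom.id S S) (Bs R A n).val).toRingHom (s ⊗ₜ[R] b) =
        s ⊗ₜ[R] (b : ⨂[R] _ : Fin n, A) := by simp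
    rw [this, ev_tmul]
    exact (Bs R A n).smul_mem b.2 _
  | add x y hx hy =>
    have : (Algebra.TensorProduct.map (AlgHom.id S S) (Bs R A n).val).toRingHom (x + y) =
        (Algebra.TensorProduct.map (AlgHom.id S S) (Bs R A n).val).toRingHom x +
          (Algebra.TensorProduct.map (AlgHom.id S S) (Bs R A n).val).toRingHom y := map_add _ _ _
    rw [this, map_add]
    exact add_mem hx hy

theorem tpow_one_add_tmul (s : S) (a : A) :
    (SymTen.tpowLaw R A n).law.toFun' S (1 + s ⊗ₜ[R] a) =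
      ∑ I ∈ (Finset.univ : Finset (Fin n)).powerset, (s ^ I.card) ⊗ₜ[R]
        PiTensorProduct.tprod R (fun i : Fin n => if i ∈ I then a else (1 : A)) := by
  show ∏ j, Algebra.TensorProduct.map (AlgHom.id S S)
    (PiTensorProduct.singleAlgHom (R := R) (A := fun _ : Fin n => A) j) (1 + s ⊗ₜ[R] a) = _
  simp only [map_add, map_one, Algebra.TensorProduct.map_tmul, AlgHom.id_apply]
  rw [Finset.prod_one_add]
  refine Finset.sum_congr rfl fun I _ => ?_
  rw [prod_tmul, Finset.prod_const]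
  congr 1
  rw [← Groth.Agent.Lib.GammaDetH1.prod_single]
  rw [← Finset.prod_subset (Finset.subset_univ I)]
  · exact Finset.prod_congr rfl fun j hj => by rw [if_pos hj]
  · intro j _ hj
    rw [if_neg hj, map_one]

theorem tpow_one_add_tmul_mem (s : S) (a : A) :
    (SymTen.tpowLaw R A n).law.toFun' S (1 + s ⊗ₜ[R] a) ∈ EE R A n S := by
  have hmaps : ∀ I ∈ (Finset.univ : Finset (Fin n)).powerset, I.card ∈ Finset.range (n + 1) := by
    intro I _
    rw [Finset.mem_range]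
    have := Finset.card_le_univ I
    rw [Fintype.card_fin] at this
    omega
  rw [tpow_one_add_tmul, ← Finset.sum_fiberwise_of_maps_to hmaps]
  refine Subalgebra.sum_mem _ fun j _ => ?_
  have : ∑ I ∈ (Finset.univ : Finset (Fin n)).powerset with I.card = j, (s ^ I.card) ⊗ₜ[R]
      PiTensorProduct.tprod R (fun i : Fin n => if i ∈ I then a else (1 : A)) =
        (s ^ j) ⊗ₜ[R] sig R A n a j := by
    unfold sig
    rw [TensorProduct.tmul_sum, Finset.powersetCard_eq_filter]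
    exact Finset.sum_congr rfl fun I hI => by rw [(Finset.mem_filter.1 hI).2]
  rw [this]
  exact tmul_mem_EE R A n S _ (sig_mem_Bs R A n a j)

variable {S}

/-- tensors with left components in `N ^ j` -/
def JJ (N : Ideal S) (j : ℕ) : AddSubmonoid (S ⊗[R] A) :=
  AddSubmonoid.closure {x | ∃ s ∈ N ^ j, ∃ a : A, x = s ⊗ₜ[R] a}

theorem JJ_top (N : Ideal S) (y : S ⊗[R] A) : y ∈ JJ R A N 0 := by
  induction y using TensorProduct.induction_on with
  | zero => exact zero_mem _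
  | tmul s a => exact AddSubmonoid.subset_closure ⟨s, by simp, a, rfl⟩
  | add x y hx hy => exact add_mem hx hy

theorem JJ_mul (N : Ideal S) {j j' : ℕ} {x y : S ⊗[R] A} (hx : x ∈ JJ R A N j)
    (hy : y ∈ JJ R A N j') : x * y ∈ JJ R A N (j + j') := by
  refine AddSubmonoid.closure_induction (motive := fun x _ => x * y ∈ JJ R A N (j + j'))
    ?_ ?_ ?_ hx
  · rintro x ⟨s, hs, a, rfl⟩
    refine AddSubmonoid.closure_induction
      (motive := fun y _ => (s ⊗ₜ[R] a) * y ∈ JJ R A N (j + j')) ?_ ?_ ?_ hy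
    · rintro y ⟨s', hs', a', rfl⟩
      rw [Algebra.TensorProduct.tmul_mul_tmul]
      exact AddSubmonoid.subset_closure
        ⟨s * s', by rw [pow_add]; exact Ideal.mul_mem_mul hs hs', a * a', rfl⟩
    · rw [mul_zero]; exact zero_mem _
    · intro y y' _ _ h h'
      rw [mul_add]; exact add_mem h h'
  · rw [zero_mul]; exact zero_mem _
  · intro x x' _ _ h h'
    rw [add_mul]; exact add_mem h h'

theorem JJ_mono (N : Ideal S) {j j' : ℕ} (h : j ≤ j') : JJ R A N j' ≤ JJ R A N j := by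
  apply AddSubmonoid.closure_mono
  rintro x ⟨s, hs, a, rfl⟩
  exact ⟨s, Ideal.pow_le_pow_right h hs, a, rfl⟩

theorem JJ_neg (N : Ideal S) {j : ℕ} {x : S ⊗[R] A} (hx : x ∈ JJ R A N j) :
    -x ∈ JJ R A N j := by
  refine AddSubmonoid.closure_induction (motive := fun x _ => -x ∈ JJ R A N j) ?_ ?_ ?_ hx
  · rintro x ⟨s, hs, a, rfl⟩
    rw [← TensorProduct.neg_tmul]
    exact AddSubmonoid.subset_closure ⟨-s, neg_mem hs, a, rfl⟩
  · rw [neg_zero]; exact zero_mem _
  · intro x x' _ _ h h'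
    rw [neg_add]; exact add_mem h h'

theorem JJ_eq_zero (N : Ideal S) {k j : ℕ} (hN : N ^ k = ⊥) (hkj : k ≤ j) {x : S ⊗[R] A}
    (hx : x ∈ JJ R A N j) : x = 0 := by
  refine AddSubmonoid.closure_induction (motive := fun x _ => x = 0) ?_ ?_ ?_ hx
  · rintro x ⟨s, hs, a, rfl⟩
    have : s ∈ N ^ k := Ideal.pow_le_pow_right hkj hs
    rw [hN, Ideal.mem_bot] at this
    rw [this, TensorProduct.zero_tmul]
  · rfl
  · intro x x' _ _ h h'
    rw [h, h', add_zero]

theorem JJ_pow (N : Ideal S) {j : ℕ} {x : S ⊗[R] A} (hx : x ∈ JJ R A N j) (m : ℕ) :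
    x ^ m ∈ JJ R A N (j * m) := by
  induction m with
  | zero => rw [pow_zero, Nat.mul_zero]; exact JJ_top R A N 1
  | succ m ih => rw [pow_succ, Nat.mul_succ]; exact JJ_mul R A N ih hx

theorem JJ_isUnit (N : Ideal S) {k j : ℕ} (hN : N ^ k = ⊥) (hj : 1 ≤ j) {x : S ⊗[R] A}
    (hx : x ∈ JJ R A N j) : IsUnit (1 + x) := by
  have hnil : IsNilpotent x :=
    ⟨k, JJ_eq_zero R A N hN (Nat.le_mul_of_pos_left k hj) (JJ_pow R A N hx k)⟩
  exact hnil.isUnit_one_add

theorem lemF (N : Ideal S) {k : ℕ} (hN : N ^ k = ⊥) :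
    ∀ d j : ℕ, 1 ≤ j → k ≤ j + d → ∀ w ∈ JJ R A N j,
      (SymTen.tpowLaw R A n).law.toFun' S (1 + w) ∈ EE R A n S := by
  intro d
  induction d with
  | zero =>
    intro j hj hk w hw
    rw [JJ_eq_zero R A N hN (by omega) hw, add_zero, ((SymTen.tpowLaw R A n).mult S).1]
    exact one_mem _
  | succ d ih =>
    intro j hj hk w hw
    refine AddSubmonoid.closure_induction
      (motive := fun w _ => (SymTen.tpowLaw R A n).law.toFun' S (1 + w) ∈ EE R A n S) ?_ ?_ ?_ hw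
    · rintro w ⟨s, hs, a, rfl⟩
      exact tpow_one_add_tmul_mem R A n S s a
    · rw [add_zero, ((SymTen.tpowLaw R A n).mult S).1]
      exact one_mem _
    · intro w₁ w₂ h₁ h₂ ih₁ ih₂
      have h12 : w₁ * w₂ ∈ JJ R A N (j + j) := JJ_mul R A N h₁ h₂
      have hx : w₁ + w₂ + w₁ * w₂ ∈ JJ R A N j :=
        add_mem (add_mem h₁ h₂) (JJ_mono R A N (by omega) h12)
      have hu : IsUnit (1 + (w₁ + w₂ + w₁ * w₂)) := JJ_isUnit R A N hN hj hx
      obtain ⟨v, hv⟩ := hu.exists_right_inv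
      have hw'' : v * -(w₁ * w₂) ∈ JJ R A N (j + j) := by
        have := JJ_mul R A N (JJ_top R A N v) (JJ_neg R A N h12)
        rwa [zero_add] at this
      have ih'' := ih (j + j) (by omega) (by omega) _ hw''
      have e : 1 + (w₁ + w₂) = (1 + w₁) * (1 + w₂) * (1 + v * -(w₁ * w₂)) := by
        linear_combination (w₁ * w₂) * hv
      rw [e, ((SymTen.tpowLaw R A n).mult S).2, ((SymTen.tpowLaw R A n).mult S).2]
      exact mul_mem (mul_mem ih₁ ih₂) ih''

end test

section poly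

open MvPolynomial

theorem coeff_mem (m : ℕ) (a : Fin m → A) (α : Fin m →₀ ℕ) :
    ev (⨂[R] _ : Fin n, A) (MvPolynomial.lcoeff R α)
      ((SymTen.tpowLaw R A n).law.toFun' (MvPolynomial (Fin m) R)
        (1 + ∑ i, (X i : MvPolynomial (Fin m) R) ⊗ₜ[R] a i)) ∈ Bs R A n := by
  obtain ⟨k, hk⟩ : ∃ k, k = α.degree + 1 := ⟨_, rfl⟩
  obtain ⟨I, hI⟩ : ∃ I : Ideal (MvPolynomial (Fin m) R),
      I = MvPolynomial.idealOfVars (Fin m) R ^ k := ⟨_, rfl⟩
  obtain ⟨π, hπ⟩ : ∃ π : MvPolynomial (Fin m) R →ₐ[R] (MvPolynomial (Fin m) R ⧸ I),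
      π = Ideal.Quotient.mkₐ R I := ⟨_, rfl⟩
  obtain ⟨N, hNdef⟩ : ∃ N : Ideal (MvPolynomial (Fin m) R ⧸ I),
      N = (MvPolynomial.idealOfVars (Fin m) R).map (Ideal.Quotient.mk I) := ⟨_, rfl⟩
  have hN : N ^ k = ⊥ := by
    rw [hNdef, ← Ideal.map_pow, ← hI, Ideal.map_quotient_self]
  -- the coefficient functional on the quotient
  obtain ⟨cb, hcb⟩ : ∃ cb : (MvPolynomial (Fin m) R ⧸ I) →ₗ[R] R,
      ∀ p, cb (Ideal.Quotient.mk I p) = MvPolynomial.coeff α p := by
    have hker : (I.restrictScalars R) ≤ LinearMap.ker (MvPolynomial.lcoeff R α) := by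
      intro p hp
      rw [LinearMap.mem_ker]
      have hp' : p ∈ MvPolynomial.idealOfVars (Fin m) R ^ k := by rw [← hI]; exact hp
      exact (MvPolynomial.mem_pow_idealOfVars_iff' k p).1 hp' α (by rw [hk]; exact Nat.lt_succ_self _)
    refine ⟨((I.restrictScalars R).liftQ (MvPolynomial.lcoeff R α) hker) ∘ₗ
      (Submodule.Quotient.restrictScalarsEquiv R I).symm.toLinearMap, fun p => ?_⟩
    rfl
  have hcomp : MvPolynomial.lcoeff R α = cb ∘ₗ π.toLinearMap := by
    apply LinearMap.ext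
    intro p
    rw [LinearMap.comp_apply, AlgHom.toLinearMap_apply, hπ]
    exact (hcb p).symm
  have hw : ∑ i, π (X i) ⊗ₜ[R] a i ∈ JJ R A N 1 := by
    refine sum_mem fun i _ => AddSubmonoid.subset_closure ⟨π (X i), ?_, a i, rfl⟩
    rw [pow_one, hNdef, hπ]
    exact Ideal.mem_map_of_mem _ (Ideal.subset_span ⟨i, rfl⟩)
  have e1 : π.toLinearMap.rTensor A (1 + ∑ i, (X i : MvPolynomial (Fin m) R) ⊗ₜ[R] a i) =
      1 + ∑ i, π (X i) ⊗ₜ[R] a i := by
    simp only [map_add, map_sum, LinearMap.rTensor_tmul, AlgHom.toLinearMap_apply,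
      Algebra.TensorProduct.one_def, map_one]
  rw [hcomp, ← ev_rTensor, PolynomialLaw.isCompat_apply', e1]
  exact ev_mem_of_mem_EE R A n _ cb (lemF R A n N hN k 1 le_rfl (by omega) _ hw)

theorem tpow_mem_EE_poly (m : ℕ) (a : Fin m → A) :
    (SymTen.tpowLaw R A n).law.toFun' (MvPolynomial (Fin m) R)
      (1 + ∑ i, (X i : MvPolynomial (Fin m) R) ⊗ₜ[R] a i) ∈ EE R A n (MvPolynomial (Fin m) R) := by
  obtain ⟨s₀, hs₀⟩ := exists_decomp (⨂[R] _ : Fin n, A)
    ((SymTen.tpowLaw R A n).law.toFun' (MvPolynomial (Fin m) R)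
      (1 + ∑ i, (X i : MvPolynomial (Fin m) R) ⊗ₜ[R] a i))
  rw [hs₀ s₀ subset_rfl]
  exact Subalgebra.sum_mem _ fun α _ => tmul_mem_EE R A n _ _ (coeff_mem R A n m a α)

theorem ev_tpow_mem (S : Type u) [CommRing S] [Algebra R S] (w : S ⊗[R] A) (ℓ : S →ₗ[R] R) :
    ev (⨂[R] _ : Fin n, A) ℓ ((SymTen.tpowLaw R A n).law.toFun' S w) ∈ Bs R A n := by
  obtain ⟨m, s, a, hw⟩ := exists_fin_sum (w - 1)
  obtain ⟨φ, hφ⟩ : ∃ φ : MvPolynomial (Fin m) R →ₐ[R] S, φ = MvPolynomial.aeval s := ⟨_, rfl⟩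
  have e1 : φ.toLinearMap.rTensor A (1 + ∑ i, (X i : MvPolynomial (Fin m) R) ⊗ₜ[R] a i) = w := by
    have : w = 1 + ∑ i, s i ⊗ₜ[R] a i := by rw [← hw]; ring
    rw [this]
    simp only [map_add, map_sum, LinearMap.rTensor_tmul, AlgHom.toLinearMap_apply,
      Algebra.TensorProduct.one_def, map_one, hφ, MvPolynomial.aeval_X]
  rw [← e1, ← PolynomialLaw.isCompat_apply', ev_rTensor]
  exact ev_mem_of_mem_EE R A n _ _ (tpow_mem_EE_poly R A n m a)

end poly

theorem TS_le_Bs [Module.Flat R A] : SymTen.TS R A n ≤ Bs R A n := by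
  intro x hx
  have htop : (⟨x, hx⟩ : SymTen.TS R A n) ∈ Submodule.span R (coeffSetOn (tauTS R A n) ⊤) := by
    rw [span_coeff_of_flat]; exact Submodule.mem_top
  have hle : Submodule.span R (coeffSetOn (tauTS R A n) ⊤) ≤
      Submodule.comap (SymTen.TS R A n).val.toLinearMap (Subalgebra.toSubmodule (Bs R A n)) := by
    apply Submodule.span_le.2
    rintro c ⟨S, _, _, z, ℓ, -, rfl⟩
    show ((ev (SymTen.TS R A n) ℓ ((tauTS R A n).law.toFun' S z) : SymTen.TS R A n) :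
      ⨂[R] _ : Fin n, A) ∈ Bs R A n
    rw [coeff_tauTS]
    exact ev_tpow_mem R A n S z ℓ
  exact hle htop

theorem main14673 (R : Type u) [CommRing R] (A : Type u) [CommRing A] [Algebra R A]
    [Module.Flat R A] (n : ℕ) :
    SymTen.TS R A n = Algebra.adjoin R {t : ⨂[R] _ : Fin n, A | ∃ (a : A) (j : ℕ),
      t = ∑ I ∈ (Finset.univ : Finset (Fin n)).powersetCard j,
        PiTensorProduct.tprod R (fun i : Fin n => if i ∈ I then a else (1 : A))} := by
  apply le_antisymm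
  · exact TS_le_Bs R A n
  · exact Algebra.adjoin_le (by rintro _ ⟨a, j, rfl⟩; exact sig_mem_TS R A n a j)

end Groth.Agent.Lib.TSGenH1
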