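import Mathlib
import Groth.Prelude.Def_PolLaw2
import Groth.Prelude.Def_SymTen
import Groth.Agent.Lib.FlatTS_helper1
import Groth.Agent.Lib.FlatTS2_helper1

/-!
# Symmetric tensors of flat modules (helper1): module versions of the results of `FlatTS_helper1`
-/

set_option autoImplicit false
universe u
open scoped TensorProduct
open Module

namespace Groth.Agent.Lib.TSModH1

open Groth.Agent.Lib.FlatTSH1
open Classical

variable {A : Type u} [CommRing A] {d : ℕ}

theorem exists_sym_lift_family_mod {Y : Type u} [AddCommGroup Y] [Module A Y] [Module.Flat A Y]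
    (l : ℕ) (z : Fin l → ⨂[A] _ : Fin d, Y)
    (hz : ∀ i σ, PiTensorProduct.reindex A (fun _ : Fin d => Y) σ (z i) = z i) :
    ∃ (κ : Type) (_ : Fintype κ) (_ : DecidableEq κ) (y : (κ → A) →ₗ[A] Y)
      (z' : Fin l → ⨂[A] _ : Fin d, (κ → A)),
      (∀ i σ, PiTensorProduct.reindex A (fun _ : Fin d => κ → A) σ (z' i) = z' i) ∧
        ∀ i, lmap y (z' i) = z i := by
  obtain ⟨ι, _, _, u, z₀, hz₀⟩ := exists_lift_family l z
  have hside : ∀ w ∈ (Finset.univ : Finset (Fin l × Equiv.Perm (Fin d))).toList.map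
      (fun p => PiTensorProduct.reindex A (fun _ : Fin d => ι → A) p.2 (z₀ p.1) - z₀ p.1),
      PiTensorProduct.map (fun _ => u) w = 0 := by
    intro w hw
    obtain ⟨p, -, rfl⟩ := List.mem_map.1 hw
    show lmap u _ = 0
    rw [map_sub, lmap_reindex, hz₀, sub_eq_zero]
    exact hz p.1 p.2
  obtain ⟨κ, _, _, a, y, hu, hk⟩ := plist_all (A := A) (M := Y) d ι u _ hside
  refine ⟨κ, inferInstance, inferInstance, y, fun i => lmap a (z₀ i), ?_, ?_⟩
  · intro i σ
    have h := hk _ (List.mem_map.2 ⟨(i, σ), Finset.mem_toList.2 (Finset.mem_univ _), rfl⟩)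
    have h' : lmap a (PiTensorProduct.reindex A (fun _ : Fin d => ι → A) σ (z₀ i) - z₀ i) = 0 := h
    rw [map_sub, sub_eq_zero, lmap_reindex] at h'
    exact h'
  · intro i
    rw [← LinearMap.comp_apply, ← lmap_comp, ← hu, hz₀]

theorem main14672 (M N : Type u) [AddCommGroup M] [Module A M]
    [AddCommGroup N] [Module A N] [Module.Flat A N] (f : M →ₗ[A] N) (hf : Function.Surjective f)
    (n : ℕ) (t : ⨂[A] _ : Fin n, N)
    (ht : ∀ σ : Equiv.Perm (Fin n), PiTensorProduct.reindex A (fun _ : Fin n => N) σ t = t) :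
    ∃ s : ⨂[A] _ : Fin n, M,
      (∀ σ : Equiv.Perm (Fin n), PiTensorProduct.reindex A (fun _ : Fin n => M) σ s = s) ∧
      PiTensorProduct.map (fun _ : Fin n => f) s = t := by
  obtain ⟨κ, _, _, y, z', h1, h2⟩ := exists_sym_lift_family_mod (A := A) (d := n) 1 (fun _ => t)
    (fun _ σ => ht σ)
  choose g hg using fun i : κ => hf (y (Pi.basisFun A κ i))
  obtain ⟨yt, hyt⟩ : ∃ yt : (κ → A) →ₗ[A] M, f ∘ₗ yt = y := by
    refine ⟨(Pi.basisFun A κ).constr A g, ?_⟩
    apply (Pi.basisFun A κ).ext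
    intro i
    rw [LinearMap.comp_apply, Basis.constr_basis, hg]
  refine ⟨lmap yt (z' 0), fun σ => ?_, ?_⟩
  · rw [← lmap_reindex, h1 0 σ]
  · show lmap f (lmap yt (z' 0)) = t
    rw [← LinearMap.comp_apply, ← lmap_comp, hyt, h2 0]

/-- the module of symmetric tensors -/
noncomputable abbrev TSm (A : Type u) [CommRing A] (M : Type u) [AddCommGroup M] [Module A M] (n : ℕ) :
    Submodule A (⨂[A] _ : Fin n, M) :=
  ⨅ σ : Equiv.Perm (Fin n),
    LinearMap.eqLocus (PiTensorProduct.reindex A (fun _ : Fin n => M) σ).toLinearMap LinearMap.id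

theorem mem_TSm {M : Type u} [AddCommGroup M] [Module A M] {n : ℕ} (t : ⨂[A] _ : Fin n, M) :
    t ∈ TSm A M n ↔
      ∀ σ : Equiv.Perm (Fin n), PiTensorProduct.reindex A (fun _ : Fin n => M) σ t = t := by
  rw [Submodule.mem_iInf]
  rfl

theorem main14671 (M : Type u) [AddCommGroup M] [Module A M] [Module.Flat A M] (n : ℕ) :
    Module.Flat A ↥(TSm A M n) := by
  apply Module.Flat.of_forall_isTrivialRelation
  intro l f x hfx
  obtain ⟨κ, _, _, y, x', hx', hyx⟩ := exists_sym_lift_family_mod (A := A) (d := n) l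
    (fun i => ((x i : TSm A M n) : ⨂[A] _ : Fin n, M)) (fun i => (mem_TSm _).1 (x i).2)
  have hr : PiTensorProduct.map (fun _ => y) (∑ i, f i • x' i) = 0 := by
    show lmap y _ = 0
    rw [map_sum]
    simp only [map_smul, hyx]
    have := congrArg Subtype.val hfx
    simpa using this
  obtain ⟨κ₂, _, _, a, y₂, hu, hk⟩ := plist_all (A := A) (M := M) n κ y [∑ i, f i • x' i] (by
    intro w hw
    rw [List.mem_singleton] at hw
    rw [hw]
    exact hr)
  have hk' : ∑ i, f i • lmap a (x' i) = 0 := by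
    have h' : lmap a (∑ i, f i • x' i) = 0 := hk _ (List.mem_singleton_self _)
    rw [map_sum] at h'
    simpa only [map_smul] using h'
  have hmem : ∀ i, lmap a (x' i) ∈ SymTen.TS A (κ₂ → A) n := fun i => by
    rw [SymTen.mem_TS_iff]
    intro σ
    rw [← lmap_reindex, hx' i σ]
  haveI : Module.Flat A (SymTen.TS A (κ₂ → A) n) := flat_TS_free
  have hrel : ∑ i, f i • (⟨lmap a (x' i), hmem i⟩ : SymTen.TS A (κ₂ → A) n) = 0 := by
    apply Subtype.ext
    simpa using hk'
  obtain ⟨k, c, y', h1, h2⟩ := Module.Flat.isTrivialRelation_of_sum_smul_eq_zero hrel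
  have hmem2 : ∀ j, lmap y₂ ((y' j : SymTen.TS A (κ₂ → A) n) : ⨂[A] _ : Fin n, (κ₂ → A)) ∈
      TSm A M n := fun j => by
    rw [mem_TSm]
    intro σ
    rw [← lmap_reindex, (SymTen.mem_TS_iff A (κ₂ → A) n _).1 (y' j).2 σ]
  refine ⟨k, c, fun j => ⟨_, hmem2 j⟩, fun i => Subtype.ext ?_, h2⟩
  have h3 := congrArg (fun t : SymTen.TS A (κ₂ → A) n =>
    lmap y₂ (t : ⨂[A] _ : Fin n, (κ₂ → A))) (h1 i)
  simp only at h3
  rw [← LinearMap.comp_apply, ← lmap_comp, ← hu, hyx] at h3
  rw [h3]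
  simp [map_sum]

end Groth.Agent.Lib.TSModH1
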