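import Mathlib

set_option autoImplicit false
set_option linter.style.haveILetI false

universe v u

open CategoryTheory CategoryTheory.Limits CategoryTheory.Pretriangulated CategoryTheory.Triangulated

namespace Groth.Agent.Lib.TStrKaroubiH4

section Ring

/-- Two idempotents of a ring whose difference squares to zero are conjugate. -/
lemma ring_conj {R : Type*} [Ring R] (e p : R) (he : e * e = e) (hp : p * p = p)
    (hd : (e - p) * (e - p) = 0) :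
    ∃ g g' : R, g * g' = 1 ∧ g' * g = 1 ∧ p * g = g * e := by
  obtain ⟨d, rfl⟩ : ∃ d, e = p + d := ⟨e - p, (add_sub_cancel p e).symm⟩
  rw [add_sub_cancel_left] at hd
  have hexp : (p + d) * (p + d) = p * p + (p * d + d * p) + d * d := by noncomm_ring
  rw [hexp, hp, hd, add_zero] at he
  have h1 : p * d + d * p = d := add_left_cancel he
  have h2 : p * d * p = 0 := by
    have h : p * (p * d + d * p) = p * d := by rw [h1]
    rw [mul_add, ← mul_assoc, hp, ← mul_assoc] at h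
    exact add_left_cancel (a := p * d) (by rw [h, add_zero])
  have h3 : d * p * d = 0 := by
    have h : d * (p * d + d * p) = d * d := by rw [h1]
    rw [mul_add, ← mul_assoc, ← mul_assoc, hd, zero_mul, add_zero] at h
    exact h
  have e1 : d - d * p = p * d := sub_eq_of_eq_add h1.symm
  have hn : (d * p - p * d) * (d * p - p * d) = 0 := by
    have : (d * p - p * d) * (d * p - p * d)
        = (d * p * d) * p - d * (p * p) * d - p * (d * d) * p + (p * d * p) * d := by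
      noncomm_ring
    rw [this, h3, hp, h3, hd, h2]
    simp
  refine ⟨1 - (d * p - p * d), 1 + (d * p - p * d), ?_, ?_, ?_⟩
  · have : (1 - (d * p - p * d)) * (1 + (d * p - p * d))
        = 1 - (d * p - p * d) * (d * p - p * d) := by noncomm_ring
    rw [this, hn, sub_zero]
  · have : (1 + (d * p - p * d)) * (1 - (d * p - p * d))
        = 1 - (d * p - p * d) * (d * p - p * d) := by noncomm_ring
    rw [this, hn, sub_zero]
  · have hL : p * (1 - (d * p - p * d)) = p - p * d * p + p * p * d := by noncomm_ring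
    have hR : (1 - (d * p - p * d)) * (p + d)
        = p + (d - d * (p * p)) - d * p * d + p * d * p + p * (d * d) := by noncomm_ring
    rw [hL, hR, h2, hp, h3, hd, e1]
    simp

end Ring

variable {C : Type u} [Category.{v} C] [Preadditive C]

/-- If `e`, `p` are idempotents on `X` with `(e - p)² = 0` and `p` splits, then `e` splits. -/
lemma split_of_sqzero {X : C} (e p : X ⟶ X) (he : e ≫ e = e) (hp : p ≫ p = p)
    (hd : (e - p) ≫ (e - p) = 0)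
    (hsp : ∃ (Y : C) (i : Y ⟶ X) (r : X ⟶ Y), i ≫ r = 𝟙 Y ∧ r ≫ i = p) :
    ∃ (Y : C) (i : Y ⟶ X) (r : X ⟶ Y), i ≫ r = 𝟙 Y ∧ r ≫ i = e := by
  obtain ⟨Y, i, r, hir, hri⟩ := hsp
  obtain ⟨g, g', h1, h2, h3⟩ := ring_conj (R := End X) e p he hp hd
  have k1 : g' ≫ g = 𝟙 X := h1
  have k2 : g ≫ g' = 𝟙 X := h2
  have k3 : g ≫ p = e ≫ g := h3
  refine ⟨Y, i ≫ g', g ≫ r, ?_, ?_⟩
  · rw [Category.assoc, ← Category.assoc g', k1, Category.id_comp, hir]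
  · rw [Category.assoc, ← Category.assoc r, hri, ← Category.assoc, k3, Category.assoc, k2,
      Category.comp_id]

variable [HasZeroObject C] [HasShift C ℤ] [∀ n : ℤ, (shiftFunctor C n).Additive]
  [Pretriangulated C]

lemma sq_zero_of_triangle (T : Triangle C) (hT : T ∈ distTriang C)
    (hz : ∀ f : (T.obj₁)⟦(1 : ℤ)⟧ ⟶ T.obj₃, f = 0)
    (d : T.obj₂ ⟶ T.obj₂) (h1 : T.mor₁ ≫ d = 0) (h2 : d ≫ T.mor₂ = 0) : d ≫ d = 0 := by
  obtain ⟨α, hα⟩ := Triangle.yoneda_exact₂ T hT d h1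
  have h2' : T.mor₂ ≫ (α ≫ T.mor₂) = 0 := by rw [← Category.assoc, ← hα, h2]
  obtain ⟨β, hβ⟩ := Triangle.yoneda_exact₃ T hT (α ≫ T.mor₂) h2'
  have h3 : α ≫ T.mor₂ = 0 := by rw [hβ, hz β, comp_zero]
  calc d ≫ d = (T.mor₂ ≫ α) ≫ (T.mor₂ ≫ α) := by rw [← hα]
    _ = T.mor₂ ≫ (α ≫ T.mor₂) ≫ α := by simp only [Category.assoc]
    _ = 0 := by rw [h3, zero_comp, comp_zero]

lemma split_of_triangle (T : Triangle C) (hT : T ∈ distTriang C)
    (hz : ∀ f : (T.obj₁)⟦(1 : ℤ)⟧ ⟶ T.obj₃, f = 0)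
    (e₁ : T.obj₁ ⟶ T.obj₁) (e₂ : T.obj₂ ⟶ T.obj₂) (e₃ : T.obj₃ ⟶ T.obj₃)
    (c₁ : T.mor₁ ≫ e₂ = e₁ ≫ T.mor₁) (c₂ : T.mor₂ ≫ e₃ = e₂ ≫ T.mor₂)
    (c₃ : T.mor₃ ≫ e₁⟦(1 : ℤ)⟧' = e₃ ≫ T.mor₃)
    (he₂ : e₂ ≫ e₂ = e₂)
    (s₁ : ∃ (Y : C) (i : Y ⟶ T.obj₁) (r : T.obj₁ ⟶ Y), i ≫ r = 𝟙 Y ∧ r ≫ i = e₁)
    (s₃ : ∃ (Y : C) (i : Y ⟶ T.obj₃) (r : T.obj₃ ⟶ Y), i ≫ r = 𝟙 Y ∧ r ≫ i = e₃) :
    ∃ (Y : C) (i : Y ⟶ T.obj₂) (r : T.obj₂ ⟶ Y), i ≫ r = 𝟙 Y ∧ r ≫ i = e₂ := by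
  obtain ⟨Y₁, i₁, r₁, hir₁, hri₁⟩ := s₁
  obtain ⟨Y₃, i₃, r₃, hir₃, hri₃⟩ := s₃
  have hi₃e : i₃ ≫ e₃ = i₃ := by rw [← hri₃, ← Category.assoc, hir₃, Category.id_comp]
  have he₁r : e₁ ≫ r₁ = r₁ := by rw [← hri₁, Category.assoc, hir₁, Category.comp_id]
  obtain ⟨w, hw⟩ : ∃ w : Y₃ ⟶ Y₁⟦(1 : ℤ)⟧, w = i₃ ≫ T.mor₃ ≫ r₁⟦(1 : ℤ)⟧' := ⟨_, rfl⟩
  obtain ⟨Y, uY, vY, hTY⟩ := distinguished_cocone_triangle₂ w
  have ci : w ≫ i₁⟦(1 : ℤ)⟧' = i₃ ≫ T.mor₃ := by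
    rw [hw, Category.assoc, Category.assoc, ← Functor.map_comp, hri₁, c₃, ← Category.assoc, hi₃e]
  have cr : T.mor₃ ≫ r₁⟦(1 : ℤ)⟧' = r₃ ≫ w := by
    rw [hw, ← Category.assoc r₃, hri₃, ← Category.assoc e₃, ← c₃, Category.assoc,
      ← Functor.map_comp, he₁r]
  obtain ⟨iY, hiY₁, hiY₂⟩ : ∃ iY : Y ⟶ T.obj₂,
      uY ≫ iY = i₁ ≫ T.mor₁ ∧ vY ≫ i₃ = iY ≫ T.mor₂ :=
    complete_distinguished_triangle_morphism₂ _ _ hTY hT i₁ i₃ ci
  obtain ⟨rY, hrY₁, hrY₂⟩ : ∃ rY : T.obj₂ ⟶ Y,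
      T.mor₁ ≫ rY = r₁ ≫ uY ∧ T.mor₂ ≫ r₃ = rY ≫ vY :=
    complete_distinguished_triangle_morphism₂ _ _ hT hTY r₁ r₃ cr
  obtain ⟨d', hd'⟩ : ∃ d' : Y ⟶ Y, d' = iY ≫ rY - 𝟙 Y := ⟨_, rfl⟩
  have hq : iY ≫ rY = 𝟙 Y + d' := by rw [hd']; abel
  have hu : uY ≫ d' = 0 := by
    rw [hd', Preadditive.comp_sub, ← Category.assoc, hiY₁, Category.assoc, hrY₁,
      ← Category.assoc, hir₁, Category.id_comp, Category.comp_id, sub_self]
  have hv : d' ≫ vY = 0 := by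
    rw [hd', Preadditive.sub_comp, Category.assoc, ← hrY₂, ← Category.assoc, ← hiY₂,
      Category.assoc, hir₃, Category.comp_id, Category.id_comp, sub_self]
  have hzY : ∀ f : Y₁⟦(1 : ℤ)⟧ ⟶ Y₃, f = 0 := by
    intro f
    have h0 := hz (r₁⟦(1 : ℤ)⟧' ≫ f ≫ i₃)
    have hf : f = i₁⟦(1 : ℤ)⟧' ≫ (r₁⟦(1 : ℤ)⟧' ≫ f ≫ i₃) ≫ r₃ := by
      rw [Category.assoc, Category.assoc, hir₃, Category.comp_id, ← Category.assoc,
        ← Functor.map_comp, hir₁, CategoryTheory.Functor.map_id, Category.id_comp]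
    rw [hf, h0, zero_comp, comp_zero]
  have hdd : d' ≫ d' = 0 := sq_zero_of_triangle (Triangle.mk uY vY w) hTY hzY d' hu hv
  obtain ⟨r, hr⟩ : ∃ r : T.obj₂ ⟶ Y, r = rY ≫ (𝟙 Y - d') := ⟨_, rfl⟩
  have hir : iY ≫ r = 𝟙 Y := by
    rw [hr, ← Category.assoc, hq]
    simp only [Preadditive.add_comp, Preadditive.comp_sub, Category.id_comp, Category.comp_id,
      hdd, add_zero, add_sub_cancel_right]
  have hup : T.mor₁ ≫ r ≫ iY = T.mor₁ ≫ e₂ := by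
    have hu' : uY ≫ (𝟙 Y - d') = uY := by
      rw [Preadditive.comp_sub, hu, Category.comp_id, sub_zero]
    rw [hr, Category.assoc, ← Category.assoc T.mor₁, hrY₁, Category.assoc, ← Category.assoc uY,
      hu', hiY₁, ← Category.assoc, hri₁, c₁]
  have hpv : (r ≫ iY) ≫ T.mor₂ = e₂ ≫ T.mor₂ := by
    have hv' : (𝟙 Y - d') ≫ vY = vY := by
      rw [Preadditive.sub_comp, hv, Category.id_comp, sub_zero]
    rw [hr]
    simp only [Category.assoc]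
    rw [← hiY₂, ← Category.assoc (𝟙 Y - d'), hv', ← Category.assoc, ← hrY₂,
      Category.assoc, hri₃, c₂]
  have hp : (r ≫ iY) ≫ (r ≫ iY) = r ≫ iY := by
    rw [Category.assoc, ← Category.assoc iY, hir, Category.id_comp]
  have hd1 : T.mor₁ ≫ (e₂ - r ≫ iY) = 0 := by rw [Preadditive.comp_sub, hup, sub_self]
  have hd2 : (e₂ - r ≫ iY) ≫ T.mor₂ = 0 := by rw [Preadditive.sub_comp, hpv, sub_self]
  have hd : (e₂ - r ≫ iY) ≫ (e₂ - r ≫ iY) = 0 := sq_zero_of_triangle T hT hz _ hd1 hd2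
  exact split_of_sqzero e₂ (r ≫ iY) he₂ hp hd ⟨Y, iY, r, hir, rfl⟩

variable (t : TStructure C)

/-- Objects concentrated in degree `n`. -/
abbrev P (n : ℤ) : ObjectProperty C := fun X => t.IsGE X n ∧ t.IsLE X n

lemma heart_hι (n : ℤ) : ∀ ⦃X Y : (P t n).FullSubcategory⦄ ⦃m : ℤ⦄
    (f : (P t n).ι.obj X ⟶ ((P t n).ι.obj Y)⟦m⟧), m < 0 → f = 0 := by
  intro X Y m f hm
  have h1 : t.IsLE ((P t n).ι.obj X) n := X.property.2
  have h2 : t.IsGE ((P t n).ι.obj Y) n := Y.property.1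
  have h3 : t.IsGE (((P t n).ι.obj Y)⟦m⟧) (n - m) := t.isGE_shift _ n m (n - m) (by omega)
  exact t.zero f n (n - m) (by omega)

variable [IsTriangulated C]

lemma heart_admissible (n : ℤ) {X₁ X₂ : (P t n).FullSubcategory} (f₁ : X₁ ⟶ X₂) :
    AbelianSubcategory.admissibleMorphism (P t n).ι f₁ := by
  intro X₃ f₂ f₃ hT
  have hX₁L : t.IsLE ((P t n).ι.obj X₁) n := X₁.property.2
  have hX₁G : t.IsGE ((P t n).ι.obj X₁) n := X₁.property.1
  have hX₂L : t.IsLE ((P t n).ι.obj X₂) n := X₂.property.2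
  have hX₂G : t.IsGE ((P t n).ι.obj X₂) n := X₂.property.1
  have hs1L : t.IsLE (((P t n).ι.obj X₁)⟦(1 : ℤ)⟧) (n - 1) :=
    t.isLE_shift _ n 1 (n - 1) (by omega)
  have hs1G : t.IsGE (((P t n).ι.obj X₁)⟦(1 : ℤ)⟧) (n - 1) :=
    t.isGE_shift _ n 1 (n - 1) (by omega)
  have hs1L' : t.IsLE (((P t n).ι.obj X₁)⟦(1 : ℤ)⟧) n := t.isLE_of_le _ (n - 1) n (by omega)
  have hX₂G' : t.IsGE ((P t n).ι.obj X₂) (n - 1) := t.isGE_of_ge _ (n - 1) n (by omega)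
  have hT' := rot_of_distTriang _ hT
  have h₃L : t.IsLE X₃ n := t.isLE₂ _ hT' n hX₂L hs1L'
  have h₃G : t.IsGE X₃ (n - 1) := t.isGE₂ _ hT' (n - 1) hX₂G' hs1G
  obtain ⟨s, -⟩ : ∃ _ : ((t.truncLT n).obj X₃)⟦(-1 : ℤ)⟧⟦(1 : ℤ)⟧ ≅ (t.truncLT n).obj X₃, True :=
    ⟨shiftNegShift _ (1 : ℤ), trivial⟩
  refine ⟨⟨((t.truncLT n).obj X₃)⟦(-1 : ℤ)⟧,
      ⟨t.isGE_shift _ (n - 1) (-1) n (by omega), t.isLE_shift _ (n - 1) (-1) n (by omega)⟩⟩,
    ⟨(t.truncGE n).obj X₃, ⟨inferInstance, inferInstance⟩⟩,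
    s.hom ≫ (t.truncLTι n).app X₃,
    (t.truncGEπ n).app X₃,
    (t.truncGEδLT n).app X₃ ≫ (s.inv)⟦(1 : ℤ)⟧', ?_⟩
  refine isomorphic_distinguished _ (t.triangleLTGE_distinguished n X₃) _ ?_
  refine Triangle.isoMk _ _ s (Iso.refl _) (Iso.refl _) ?_ ?_ ?_
  · exact Category.comp_id _
  · exact (Category.comp_id _).trans (Category.id_comp _).symm
  · change ((t.truncGEδLT n).app X₃ ≫ (s.inv)⟦(1 : ℤ)⟧') ≫ (s.hom)⟦(1 : ℤ)⟧' =
      𝟙 _ ≫ (t.truncGEδLT n).app X₃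
    rw [Category.assoc, ← Functor.map_comp, Iso.inv_hom_id, CategoryTheory.Functor.map_id]
    exact (Category.comp_id _).trans (Category.id_comp _).symm

lemma split_heart (n : ℤ) (X : C) [t.IsGE X n] [t.IsLE X n] (e : X ⟶ X) (he : e ≫ e = e) :
    ∃ (Y : C) (i : Y ⟶ X) (r : X ⟶ Y), i ≫ r = 𝟙 Y ∧ r ≫ i = e := by
  have hA : IsIdempotentComplete (P t n).FullSubcategory := by
    rw [Idempotents.isIdempotentComplete_iff_idempotents_have_kernels]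
    intro Z p _
    exact AbelianSubcategory.hasKernel_of_admissibleMorphism (heart_hι t n) p
      (heart_admissible t n p)
  let X' : (P t n).FullSubcategory := ⟨X, ⟨inferInstance, inferInstance⟩⟩
  obtain ⟨Y, i, r, hir, hri⟩ := hA.idempotents_split X' (ObjectProperty.homMk e)
    (by ext; exact he)
  exact ⟨Y.obj, i.hom, r.hom, congrArg InducedCategory.Hom.hom hir,
    congrArg InducedCategory.Hom.hom hri⟩

lemma split_of_amplitude (N : ℕ) : ∀ (X : C) (a b : ℤ), t.IsGE X a → t.IsLE X b →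
    b < a + (N : ℤ) → ∀ (e : X ⟶ X), e ≫ e = e →
    ∃ (Y : C) (i : Y ⟶ X) (r : X ⟶ Y), i ≫ r = 𝟙 Y ∧ r ≫ i = e := by
  induction N with
  | zero =>
    intro X a b hG hL hab e he
    have hX : IsZero X := t.isZero X b a (by simpa using hab)
    exact ⟨X, 𝟙 X, 𝟙 X, Category.comp_id _, hX.eq_of_src _ _⟩
  | succ N ih =>
    intro X a b hG hL hab e he
    have h1L : t.IsLE ((t.truncLT (a + 1)).obj X) a := inferInstance
    have h1G : t.IsGE ((t.truncLT (a + 1)).obj X) a := inferInstance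
    have h3G : t.IsGE ((t.truncGE (a + 1)).obj X) (a + 1) := inferInstance
    have h3L : t.IsLE ((t.truncGE (a + 1)).obj X) b := inferInstance
    have hz : ∀ f : ((t.truncLT (a + 1)).obj X)⟦(1 : ℤ)⟧ ⟶ (t.truncGE (a + 1)).obj X,
        f = 0 := by
      intro f
      have : t.IsLE (((t.truncLT (a + 1)).obj X)⟦(1 : ℤ)⟧) (a - 1) :=
        t.isLE_shift _ a 1 (a - 1) (by omega)
      exact t.zero f (a - 1) (a + 1) (by omega)
    have he₁ : (t.truncLT (a + 1)).map e ≫ (t.truncLT (a + 1)).map e =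
        (t.truncLT (a + 1)).map e := by rw [← Functor.map_comp, he]
    have he₃ : (t.truncGE (a + 1)).map e ≫ (t.truncGE (a + 1)).map e =
        (t.truncGE (a + 1)).map e := by rw [← Functor.map_comp, he]
    refine split_of_triangle ((t.triangleLTGE (a + 1)).obj X)
      (t.triangleLTGE_distinguished (a + 1) X) hz
      ((t.truncLT (a + 1)).map e) e ((t.truncGE (a + 1)).map e) ?_ ?_ ?_ he ?_ ?_
    · exact ((t.truncLTι (a + 1)).naturality e).symm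
    · exact ((t.truncGEπ (a + 1)).naturality e).symm
    · exact ((t.truncGEδLT (a + 1)).naturality e).symm
    · exact split_heart t a ((t.truncLT (a + 1)).obj X) ((t.truncLT (a + 1)).map e) he₁
    · exact ih ((t.truncGE (a + 1)).obj X) (a + 1) b h3G h3L (by push_cast at hab; omega)
        ((t.truncGE (a + 1)).map e) he₃

theorem main (hb : ∀ X : C, t.bounded X) : IsIdempotentComplete C := by
  refine ⟨fun X e he => ?_⟩
  obtain ⟨⟨a, ha⟩, ⟨b, hb'⟩⟩ := hb X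
  have hN : b < a + ((b - a + 1).toNat : ℤ) := by
    have := Int.self_le_toNat (b - a + 1)
    omega
  exact split_of_amplitude t _ X a b ha hb' hN e he

end Groth.Agent.Lib.TStrKaroubiH4
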