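import Mathlib

/-! Graded prime ideals determined by their components of large degree (EGA II 2.1.9). -/

open DirectSum

namespace Groth.Agent.Lib.TailPrime_helper3

section
variable {R A : Type*} [CommRing R] [CommRing A] [Algebra R A] (𝒜 : ℕ → Submodule R A) [GradedAlgebra 𝒜]
  (n₀ : ℕ) (p : ℕ → AddSubgroup A)
  (h1 : ∀ m n : ℕ, n₀ ≤ n → ∀ a ∈ 𝒜 m, ∀ b ∈ p n, a * b ∈ p (m + n))
  (N : ℕ) (hN : n₀ ≤ N) (f : A)

/-- The additive subgroup of elements `x` with `f xₘ ∈ p (N + m)` for all `m`. -/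
def tailSet : AddSubgroup A where
  carrier := {x | ∀ m : ℕ, f * (decompose 𝒜 x m : A) ∈ p (N + m)}
  zero_mem' := fun m => by simp [zero_mem]
  add_mem' := fun {x y} hx hy m => by
    rw [decompose_add, DirectSum.add_apply, Submodule.coe_add, mul_add]
    exact add_mem (hx m) (hy m)
  neg_mem' := fun {x} hx m => by
    have := neg_mem (hx m)
    rw [decompose_neg]
    change f * (((-(decompose 𝒜 x m) : 𝒜 m)) : A) ∈ p (N + m)
    rwa [NegMemClass.coe_neg, mul_neg]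

include h1 hN in
theorem mul_mem_tailSet_of_homogeneous {i : ℕ} {a x : A} (ha : a ∈ 𝒜 i) (hx : x ∈ tailSet 𝒜 p N f) :
    a * x ∈ tailSet 𝒜 p N f := by
  classical
  intro m
  rw [coe_decompose_mul_of_left_mem 𝒜 m ha]
  split_ifs with him
  · have := h1 i (N + (m - i)) (by omega) a ha _ (hx (m - i))
    rw [show i + (N + (m - i)) = N + m by omega] at this
    rw [show f * (a * (decompose 𝒜 x (m - i) : A)) = a * (f * (decompose 𝒜 x (m - i) : A)) by ring]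
    exact this
  · rw [mul_zero]; exact zero_mem _

include h1 hN in
theorem mul_mem_tailSet (a : A) {x : A} (hx : x ∈ tailSet 𝒜 p N f) : a * x ∈ tailSet 𝒜 p N f := by
  classical
  rw [← sum_support_decompose 𝒜 a, Finset.sum_mul]
  exact sum_mem fun i _ => mul_mem_tailSet_of_homogeneous 𝒜 n₀ p h1 N hN f (SetLike.coe_mem _) hx

/-- The ideal with underlying set `tailSet`. -/
def tailIdeal : Ideal A where
  carrier := tailSet 𝒜 p N f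
  zero_mem' := zero_mem _
  add_mem' := add_mem
  smul_mem' := fun a _ hx => mul_mem_tailSet 𝒜 n₀ p h1 N hN f a hx

theorem mem_tailIdeal {x : A} : x ∈ tailIdeal 𝒜 n₀ p h1 N hN f ↔
    ∀ m : ℕ, f * (decompose 𝒜 x m : A) ∈ p (N + m) := Iff.rfl

theorem mem_tailIdeal_of_mem {m : ℕ} {x : A} (hx : x ∈ 𝒜 m) :
    x ∈ tailIdeal 𝒜 n₀ p h1 N hN f ↔ f * x ∈ p (N + m) := by
  classical
  rw [mem_tailIdeal]
  constructor
  · intro h
    have := h m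
    rwa [decompose_of_mem_same 𝒜 hx] at this
  · intro h k
    by_cases hk : k = m
    · subst hk; rwa [decompose_of_mem_same 𝒜 hx]
    · rw [decompose_of_mem_ne 𝒜 hx (Ne.symm hk), mul_zero]; exact zero_mem _

theorem tailIdeal_isHomogeneous : (tailIdeal 𝒜 n₀ p h1 N hN f).IsHomogeneous 𝒜 := by
  intro k x hx
  rw [mem_tailIdeal_of_mem 𝒜 n₀ p h1 N hN f (SetLike.coe_mem _)]
  exact hx k

end

end Groth.Agent.Lib.TailPrime_helper3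

namespace Groth.Agent.Lib.TailPrime_helper3

section
variable {R A : Type*} [CommRing R] [CommRing A] [Algebra R A] (𝒜 : ℕ → Submodule R A) [GradedAlgebra 𝒜]
  (n₀ : ℕ) (hn₀ : 0 < n₀) (p : ℕ → AddSubgroup A) (hp : ∀ n : ℕ, n₀ ≤ n → (p n : Set A) ⊆ 𝒜 n)

include hn₀ hp in
theorem exists_prime_of_conditions
    (h1 : ∀ m n : ℕ, n₀ ≤ n → ∀ a ∈ 𝒜 m, ∀ b ∈ p n, a * b ∈ p (m + n))
    (h2 : ∀ m n : ℕ, n₀ ≤ m → n₀ ≤ n → ∀ f ∈ 𝒜 m, ∀ g ∈ 𝒜 n, f * g ∈ p (m + n) → f ∈ p m ∨ g ∈ p n)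
    (h3 : ∃ n : ℕ, n₀ ≤ n ∧ (p n : Set A) ≠ 𝒜 n) :
    ∃ 𝔭 : HomogeneousIdeal 𝒜, 𝔭.toIdeal.IsPrime ∧ ¬ HomogeneousIdeal.irrelevant 𝒜 ≤ 𝔭 ∧
        ∀ n : ℕ, n₀ ≤ n → (𝔭.toIdeal : Set A) ∩ 𝒜 n = p n := by
  classical
  obtain ⟨N, hN, hne⟩ := h3
  obtain ⟨f, hf, hfp⟩ : ∃ f ∈ 𝒜 N, f ∉ p N := by
    by_contra hcon
    push Not at hcon
    exact hne (Set.Subset.antisymm (hp N hN) fun x hx => hcon x hx)
  have hI := tailIdeal_isHomogeneous 𝒜 n₀ p h1 N hN f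
  have hmem : ∀ {m : ℕ} {x : A}, x ∈ 𝒜 m → (x ∈ tailIdeal 𝒜 n₀ p h1 N hN f ↔ f * x ∈ p (N + m)) :=
    fun hx => mem_tailIdeal_of_mem 𝒜 n₀ p h1 N hN f hx
  refine ⟨⟨tailIdeal 𝒜 n₀ p h1 N hN f, hI⟩, ?_, ?_, ?_⟩
  · change (tailIdeal 𝒜 n₀ p h1 N hN f).IsPrime
    refine hI.isPrime_of_homogeneous_mem_or_mem ?_ ?_
    · intro htop
      have h1mem : (1 : A) ∈ tailIdeal 𝒜 n₀ p h1 N hN f := htop ▸ Submodule.mem_top
      rw [hmem (SetLike.GradedOne.one_mem : (1 : A) ∈ 𝒜 0), mul_one, add_zero] at h1mem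
      exact hfp h1mem
    · rintro x y ⟨m, hx⟩ ⟨n, hy⟩ hxy
      rw [hmem (SetLike.mul_mem_graded hx hy)] at hxy
      have h4 := h1 N (N + (m + n)) (by omega) f hf _ hxy
      have h5 : f * (f * (x * y)) = (f * x) * (f * y) := by ring
      rw [h5, show N + (N + (m + n)) = (N + m) + (N + n) by omega] at h4
      rcases h2 (N + m) (N + n) (by omega) (by omega) _ (SetLike.mul_mem_graded hf hx) _
        (SetLike.mul_mem_graded hf hy) h4 with h | h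
      · exact Or.inl ((hmem hx).mpr h)
      · exact Or.inr ((hmem hy).mpr h)
  · intro hle
    have hfirr : f ∈ HomogeneousIdeal.irrelevant 𝒜 :=
      HomogeneousIdeal.mem_irrelevant_of_mem 𝒜 (by omega : 0 < N) hf
    have hfI : f ∈ tailIdeal 𝒜 n₀ p h1 N hN f := hle hfirr
    rw [hmem hf] at hfI
    rcases h2 N N hN hN f hf f hf hfI with h | h <;> exact hfp h
  · intro n hn
    ext x
    change (x ∈ tailIdeal 𝒜 n₀ p h1 N hN f ∧ x ∈ 𝒜 n) ↔ x ∈ p n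
    constructor
    · rintro ⟨hxI, hx⟩
      rw [hmem hx] at hxI
      rcases h2 N n hN hn f hf x hx hxI with h | h
      · exact absurd h hfp
      · exact h
    · intro hx
      have hx' : x ∈ 𝒜 n := hp n hn hx
      exact ⟨(hmem hx').mpr (h1 N n hn f hf x hx), hx'⟩

theorem conditions_of_prime (𝔭 : HomogeneousIdeal 𝒜) (hprime : 𝔭.toIdeal.IsPrime)
    (hirr : ¬ HomogeneousIdeal.irrelevant 𝒜 ≤ 𝔭)
    (htail : ∀ n : ℕ, n₀ ≤ n → (𝔭.toIdeal : Set A) ∩ 𝒜 n = p n) :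
    (∀ m n : ℕ, n₀ ≤ n → ∀ a ∈ 𝒜 m, ∀ b ∈ p n, a * b ∈ p (m + n)) ∧
    (∀ m n : ℕ, n₀ ≤ m → n₀ ≤ n → ∀ f ∈ 𝒜 m, ∀ g ∈ 𝒜 n, f * g ∈ p (m + n) → f ∈ p m ∨ g ∈ p n) ∧
    ∃ n : ℕ, n₀ ≤ n ∧ (p n : Set A) ≠ 𝒜 n := by
  have hmem : ∀ {n : ℕ} {x : A}, n₀ ≤ n → (x ∈ p n ↔ x ∈ 𝔭.toIdeal ∧ x ∈ 𝒜 n) := by
    intro n x hn
    rw [← SetLike.mem_coe, ← htail n hn]
    rfl
  refine ⟨?_, ?_, ?_⟩
  · intro m n hn a ha b hb
    rw [hmem hn] at hb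
    rw [hmem (by omega)]
    exact ⟨Ideal.mul_mem_left _ _ hb.1, SetLike.mul_mem_graded ha hb.2⟩
  · intro m n hm hn f hf g hg hfg
    rw [hmem (by omega)] at hfg
    rcases hprime.mem_or_mem hfg.1 with h | h
    · exact Or.inl ((hmem hm).mpr ⟨h, hf⟩)
    · exact Or.inr ((hmem hn).mpr ⟨h, hg⟩)
  · by_contra hcon
    push Not at hcon
    apply hirr
    rw [HomogeneousIdeal.irrelevant_le]
    intro i hi x hx
    have hx' : x ∈ 𝒜 i := hx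
    have hpow : x ^ n₀ ∈ 𝒜 (n₀ • i) := SetLike.pow_mem_graded n₀ hx'
    have hle : n₀ ≤ n₀ • i := by
      rw [smul_eq_mul]; exact Nat.le_mul_of_pos_right _ hi
    have h1 : x ^ n₀ ∈ (p (n₀ • i) : Set A) := by rw [hcon _ hle]; exact hpow
    have h2 := ((hmem hle).mp h1).1
    exact hprime.mem_of_pow_mem _ h2

theorem prime_le_of_tail_eq (𝔭 𝔮 : HomogeneousIdeal 𝒜) (hq : 𝔮.toIdeal.IsPrime)
    (hirr : ¬ HomogeneousIdeal.irrelevant 𝒜 ≤ 𝔮)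
    (hp' : ∀ n : ℕ, n₀ ≤ n → (𝔭.toIdeal : Set A) ∩ 𝒜 n = p n)
    (hq' : ∀ n : ℕ, n₀ ≤ n → (𝔮.toIdeal : Set A) ∩ 𝒜 n = p n) : 𝔭 ≤ 𝔮 := by
  classical
  rw [HomogeneousIdeal.irrelevant_le] at hirr
  push Not at hirr
  obtain ⟨i, hi, hnot⟩ := hirr
  obtain ⟨g, hg, hgq⟩ := SetLike.not_le_iff_exists.mp hnot
  have hg' : g ∈ 𝒜 i := hg
  have hgq' : g ∉ 𝔮.toIdeal := hgq
  intro x hx
  have hx' : x ∈ 𝔭.toIdeal := hx
  change x ∈ 𝔮.toIdeal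
  rw [← sum_support_decompose 𝒜 x]
  refine sum_mem fun m _ => ?_
  have hxm : (decompose 𝒜 x m : A) ∈ 𝔭.toIdeal := 𝔭.isHomogeneous m hx'
  have hdeg : g ^ n₀ * (decompose 𝒜 x m : A) ∈ 𝒜 (n₀ • i + m) :=
    SetLike.mul_mem_graded (SetLike.pow_mem_graded n₀ hg') (SetLike.coe_mem _)
  have hle : n₀ ≤ n₀ • i + m := by
    rw [smul_eq_mul]
    have := Nat.le_mul_of_pos_right n₀ hi
    omega
  have h1 : g ^ n₀ * (decompose 𝒜 x m : A) ∈ (𝔭.toIdeal : Set A) ∩ 𝒜 (n₀ • i + m) :=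
    ⟨Ideal.mul_mem_left _ _ hxm, hdeg⟩
  rw [hp' _ hle, ← hq' _ hle] at h1
  rcases hq.mem_or_mem h1.1 with h | h
  · exact absurd (hq.mem_of_pow_mem _ h) hgq'
  · exact h

end

end Groth.Agent.Lib.TailPrime_helper3
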