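import Groth.Agent.Lib.AffFin_lead
import Groth.Statements.S14059

/-! # Group schemes with trivial tangent space at the unit (lead) -/

set_option backward.isDefEq.respectTransparency false
set_option backward.isDefEq.respectTransparency.types false
set_option linter.unusedSimpArgs false
set_option linter.unusedVariables false
set_option linter.unusedSectionVars false
set_option linter.style.longLine false
set_option linter.style.haveILetI false
set_option linter.unnecessarySimpa false
set_option maxHeartbeats 800000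

universe u

open CategoryTheory CategoryTheory.Limits MonoidalCategory CartesianMonoidalCategory MonObj GrpObj
  AlgebraicGeometry Opposite Topology TopologicalSpace

namespace Groth.Agent.Lib.TanZero

open Groth.Agent.Lib.AffFin

/-- naturality of the structure maps to the stalks -/
theorem sigma_nat {k : Type u} [Field k] {X Y : Scheme.{u}} (f : X ⟶ Spec (CommRingCat.of k))
    (fY : Y ⟶ Spec (CommRingCat.of k)) (h : Y ⟶ X) (hh : h ≫ f = fY) (y : Y) (c : k) :
    (h.stalkMap y).hom ((X.presheaf.germ ⊤ (h y) trivial).hom (Coh.toGlobal f c)) =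
      (Y.presheaf.germ ⊤ y trivial).hom (Coh.toGlobal fY c) := by
  subst hh
  have h1 := Scheme.Hom.germ_stalkMap_apply h ⊤ y trivial (Coh.toGlobal f c)
  have h2 : Coh.toGlobal (h ≫ f) c = h.appTop.hom (Coh.toGlobal f c) := rfl
  rw [h2]
  exact h1

theorem bij_of_point {k : Type u} [Field k] {X : Scheme.{u}} (f : X ⟶ Spec (CommRingCat.of k))
    (x₀ : Spec (CommRingCat.of k) ⟶ X) (hx₀ : x₀ ≫ f = 𝟙 _) (g : X)
    (hg : x₀ (IsLocalRing.closedPoint k) = g) (hF : IsField (X.presheaf.stalk g)) :
    Function.Bijective ((X.presheaf.germ ⊤ g trivial).hom.comp (Coh.toGlobal f)) := by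
  subst hg
  have hnat : ∀ c : k, (x₀.stalkMap (IsLocalRing.closedPoint k)).hom
      ((X.presheaf.germ ⊤ (x₀ (IsLocalRing.closedPoint k)) trivial).hom (Coh.toGlobal f c)) =
      ((Spec (CommRingCat.of k)).presheaf.germ ⊤ (IsLocalRing.closedPoint k) trivial).hom
        (Coh.toGlobal (𝟙 (Spec (CommRingCat.of k))) c) :=
    fun c => sigma_nat f (𝟙 _) x₀ hx₀ (IsLocalRing.closedPoint k) c
  have h1 : ∀ c : k, ((Spec (CommRingCat.of k)).presheaf.germ ⊤ (IsLocalRing.closedPoint k)
      trivial).hom (Coh.toGlobal (𝟙 (Spec (CommRingCat.of k))) c) =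
      (stalkClosedPointIso (CommRingCat.of k)).inv.hom c := by
    intro c
    rw [← ΓSpecIso_hom_stalkClosedPointIso_inv]
    simp [Coh.toGlobal]
    congr 1
    have h0 := congrArg (fun f => f.hom c) (Scheme.ΓSpecIso (CommRingCat.of k)).inv_hom_id
    exact h0
  have hbij : Function.Bijective (stalkClosedPointIso (CommRingCat.of k)).inv.hom :=
    (ConcreteCategory.isIso_iff_bijective _).mp inferInstance
  have hinj : Function.Injective (x₀.stalkMap (IsLocalRing.closedPoint k)).hom := by
    rw [injective_iff_map_eq_zero]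
    intro a ha
    by_contra hne
    obtain ⟨b, hb⟩ := hF.mul_inv_cancel hne
    have h0 : (x₀.stalkMap (IsLocalRing.closedPoint k)).hom 1 = 0 := by
      rw [← hb, map_mul, ha, zero_mul]
    rw [map_one] at h0
    exact one_ne_zero h0
  constructor
  · exact RingHom.injective _
  · intro s
    obtain ⟨c, hc⟩ := hbij.2 ((x₀.stalkMap (IsLocalRing.closedPoint k)).hom s)
    refine ⟨c, ?_⟩
    apply hinj
    exact (hnat c).trans ((h1 c).trans hc)

theorem isField_stalk_of_closed (k : Type u) [Field k] [IsAlgClosed k]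
    (G : Over (Spec (CommRingCat.of k))) [GrpObj G] [LocallyOfFiniteType G.hom]
    (e : G.left) (he : e ∈ Set.range (η[G]).left.base) (hF : IsField (G.left.presheaf.stalk e))
    (g : G.left) (hg : IsClosed ({g} : Set G.left)) : IsField (G.left.presheaf.stalk g) := by
  obtain ⟨pt₁, rfl⟩ := he
  obtain ⟨x, hx⟩ : ∃ x : 𝟙_ (Over (Spec (CommRingCat.of k))) ⟶ G, ∀ t, x.left t = g :=
    ⟨Over.homMk (pointOfClosedPoint G.hom g hg)
      (by simpa using pointOfClosedPoint_comp G.hom g hg),
      fun t => pointOfClosedPoint_apply G.hom g hg t⟩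
  obtain ⟨L, hL⟩ : ∃ L : G ⟶ G, L = (toUnit G ≫ x) * 𝟙 G := ⟨_, rfl⟩
  obtain ⟨L', hL'⟩ : ∃ L' : G ⟶ G, L' = (toUnit G ≫ x)⁻¹ * 𝟙 G := ⟨_, rfl⟩
  have hconst : ∀ (f : G ⟶ G), f ≫ (toUnit G ≫ x) = toUnit G ≫ x := by
    intro f
    rw [← Category.assoc, toUnit_unique (f ≫ toUnit G) (toUnit G)]
  have hLL' : L ≫ L' = 𝟙 G := by
    rw [hL', MonObj.comp_mul, Category.comp_id, GrpObj.comp_inv, hconst, hL,
      _root_.inv_mul_cancel_left]
  have hL'L : L' ≫ L = 𝟙 G := by
    rw [hL, MonObj.comp_mul, Category.comp_id, hconst, hL', _root_.mul_inv_cancel_left]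
  haveI : IsIso L.left :=
    ⟨⟨L'.left, by rw [← Over.comp_left, hLL']; rfl, by rw [← Over.comp_left, hL'L]; rfl⟩⟩
  have hLe : L.left ((η[G]).left.base pt₁) = g := by
    have h1 : η[G] ≫ L = x := by
      rw [hL, MonObj.comp_mul, Category.comp_id, ← Category.assoc,
        toUnit_unique (η[G] ≫ toUnit G) (𝟙 _), Category.id_comp]
      have h3 : η[G] = (1 : 𝟙_ (Over (Spec (CommRingCat.of k))) ⟶ G) := by
        rw [Hom.one_def, toUnit_unique (toUnit (𝟙_ (Over (Spec (CommRingCat.of k))))) (𝟙 _),
          Category.id_comp]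
      rw [h3, _root_.mul_one]
    have h2 : (η[G] ≫ L).left pt₁ = g := by rw [h1]; exact hx pt₁
    exact h2
  have hF' : IsField (G.left.presheaf.stalk (L.left ((η[G]).left.base pt₁))) :=
    MulEquiv.isField hF
      (asIso (L.left.stalkMap ((η[G]).left.base pt₁))).commRingCatIsoToRingEquiv.toMulEquiv
  rw [hLe] at hF'
  exact hF'

theorem main14059 (k : Type u) [Field k] [IsAlgClosed k]
    (G : Over (Spec (CommRingCat.of k))) [GrpObj G] [LocallyOfFiniteType G.hom] [QuasiCompact G.hom]
    (e : G.left) (he : e ∈ Set.range (η[G]).left.base) :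
    letI : G.left.Over (Spec (CommRingCat.of k)) := ⟨G.hom⟩
    Subsingleton (IsLocalRing.CotangentSpace (G.left.presheaf.stalk e)) ↔
      (Finite G.left ∧ DiscreteTopology G.left ∧
        ∀ g : G.left, Function.Bijective (Curv2.stalkMap k G.left g)) := by
  letI : G.left.Over (Spec (CommRingCat.of k)) := ⟨G.hom⟩
  haveI : IsLocallyNoetherian G.left := LocallyOfFiniteType.isLocallyNoetherian G.hom
  haveI : JacobsonSpace ↥G.left := LocallyOfFiniteType.jacobsonSpace G.hom
  show Subsingleton (IsLocalRing.CotangentSpace (G.left.presheaf.stalk e)) ↔ _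
  rw [IsLocalRing.subsingleton_cotangentSpace_iff]
  have huniq : ∀ (x : G.left) (Z1 Z2 : Set G.left), Z1 ∈ irreducibleComponents G.left →
      Z2 ∈ irreducibleComponents G.left → x ∈ Z1 → x ∈ Z2 → Z1 = Z2 :=
    fun x Z1 Z2 h1 h2 hx1 hx2 => GrpPtIrrH4.unique_comp_through G x Z1 Z2 h1 h2 hx1 hx2
  constructor
  · intro hF
    have hfield : ∀ g, IsClosed ({g} : Set G.left) → IsField (G.left.presheaf.stalk g) :=
      isField_stalk_of_closed k G e he hF
    have hopen : ∀ g, IsClosed ({g} : Set G.left) → IsOpen ({g} : Set G.left) := by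
      intro g hg
      have hFg := hfield g hg
      have hmax : IsLocalRing.maximalIdeal (G.left.presheaf.stalk g) = ⊥ :=
        IsLocalRing.isField_iff_maximalIdeal_eq.mp hFg
      have hgen : ∀ y : G.left, y ⤳ g → y = g := by
        intro y hy
        have hyr : y ∈ Set.range (G.left.fromSpecStalk g) := by
          rw [Scheme.range_fromSpecStalk]; exact hy
        obtain ⟨p, rfl⟩ := hyr
        have hp : p = IsLocalRing.closedPoint _ := by
          apply PrimeSpectrum.ext
          have h1 : p.asIdeal ≤ IsLocalRing.maximalIdeal _ :=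
            IsLocalRing.le_maximalIdeal p.2.ne_top
          rw [hmax, le_bot_iff] at h1
          rw [h1]
          exact hmax.symm
        rw [hp]
        exact Scheme.fromSpecStalk_closedPoint
      have hZ := irreducibleComponent_mem_irreducibleComponents g
      obtain ⟨ζ, hζ⟩ := QuasiSober.sober (isIrreducible_irreducibleComponent (x := g))
        isClosed_irreducibleComponent
      have hζg : ζ ⤳ g := by
        rw [specializes_iff_mem_closure, hζ.def]; exact mem_irreducibleComponent
      have hζeq := hgen ζ hζg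
      rw [hζeq] at hζ
      have hZeq : irreducibleComponent g = {g} := by rw [← hζ.def, hg.closure_eq]
      rw [← hZeq]
      exact isOpen_irrComp huniq _ hZ
    have hall : ∀ y : G.left, IsOpen ({y} : Set G.left) := by
      intro y
      obtain ⟨g, hgcl, hgpt⟩ := nonempty_inter_closedPoints (Z := closure ({y} : Set G.left))
        ⟨y, subset_closure rfl⟩ isClosed_closure.isLocallyClosed
      have hgo := hopen g hgpt
      obtain ⟨z, hz1, hz2⟩ := mem_closure_iff.mp hgcl {g} hgo rfl
      have hyg : y = g :=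
        (Set.mem_singleton_iff.mp hz2).symm.trans (Set.mem_singleton_iff.mp hz1)
      rw [hyg]; exact hgo
    haveI hdisc : DiscreteTopology G.left := discreteTopology_iff_isOpen_singleton.mpr hall
    haveI : CompactSpace G.left := (quasiCompact_iff_compactSpace G.hom).mp inferInstance
    refine ⟨finite_of_compact_of_discrete, hdisc, ?_⟩
    intro g
    have hgcl : IsClosed ({g} : Set G.left) := isClosed_discrete _
    exact bij_of_point G.hom (pointOfClosedPoint G.hom g hgcl)
      (pointOfClosedPoint_comp G.hom g hgcl) g (pointOfClosedPoint_apply G.hom g hgcl _)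
      (hfield g hgcl)
  · rintro ⟨-, -, hbij⟩
    exact MulEquiv.isField (Field.toIsField k)
      (RingEquiv.ofBijective _ (hbij e)).symm.toMulEquiv

end Groth.Agent.Lib.TanZero
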