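import Mathlib
import Groth.Prelude.Def_LefPen

set_option autoImplicit false
set_option maxHeartbeats 1000000

/-! Codimension of the space of forms tangent to two linear spaces at two points (helper1). -/

namespace Groth.Agent.Lib.TangFormsH1

universe u
open Module MvPolynomial

variable {k : Type u} [Field k] {r : ℕ}

/-- the linear form `∑ a_i X_i` -/
noncomputable def lin (a : Fin (r + 1) → k) : MvPolynomial (Fin (r + 1)) k :=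
  ∑ i, C (a i) * X i

lemma lin_hom (a : Fin (r + 1) → k) : (lin a).IsHomogeneous 1 :=
  IsHomogeneous.sum _ _ _ (fun i _ => isHomogeneous_C_mul_X _ _)

lemma aeval_lin (a v : Fin (r + 1) → k) : aeval v (lin a) = a ⬝ᵥ v := by
  rw [lin, map_sum, dotProduct]
  refine Finset.sum_congr rfl (fun i _ => ?_)
  rw [map_mul, aeval_C, aeval_X]
  rfl

lemma pderiv_lin (a : Fin (r + 1) → k) (j : Fin (r + 1)) : pderiv j (lin a) = C (a j) := by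
  classical
  rw [lin, map_sum, Finset.sum_eq_single j]
  · rw [pderiv_C_mul, pderiv_X_self, mul_one]
  · intro i _ hij
    rw [pderiv_C_mul, pderiv_X_of_ne hij, mul_zero]
  · intro h; exact absurd (Finset.mem_univ j) h

/-- directional derivative of `G` at `v` in the direction `w` -/
noncomputable def D (w v : Fin (r + 1) → k) (G : MvPolynomial (Fin (r + 1)) k) : k :=
  ∑ i, w i * aeval v (pderiv i G)

lemma D_add (w v : Fin (r + 1) → k) (G H : MvPolynomial (Fin (r + 1)) k) :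
    D w v (G + H) = D w v G + D w v H := by
  unfold D
  rw [← Finset.sum_add_distrib]
  refine Finset.sum_congr rfl (fun i _ => ?_)
  rw [map_add, map_add, mul_add]

lemma D_smul (w v : Fin (r + 1) → k) (c : k) (G : MvPolynomial (Fin (r + 1)) k) :
    D w v (c • G) = c * D w v G := by
  unfold D
  rw [Finset.mul_sum]
  refine Finset.sum_congr rfl (fun i _ => ?_)
  rw [(pderiv i).map_smul, map_smul, smul_eq_mul]
  ring

lemma D_mul (w v : Fin (r + 1) → k) (G H : MvPolynomial (Fin (r + 1)) k) :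
    D w v (G * H) = D w v G * aeval v H + aeval v G * D w v H := by
  unfold D
  rw [Finset.sum_mul, Finset.mul_sum, ← Finset.sum_add_distrib]
  refine Finset.sum_congr rfl (fun i _ => ?_)
  rw [pderiv_mul, map_add, map_mul, map_mul]
  ring

lemma D_pow (w v : Fin (r + 1) → k) (G : MvPolynomial (Fin (r + 1)) k) (n : ℕ) :
    D w v (G ^ (n + 1)) = ((n : k) + 1) * (aeval v G) ^ n * D w v G := by
  induction n with
  | zero => simp
  | succ n ih =>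
    rw [pow_succ, D_mul, ih, map_pow]
    push_cast
    ring

lemma D_lin (w v a : Fin (r + 1) → k) : D w v (lin a) = a ⬝ᵥ w := by
  unfold D
  rw [dotProduct]
  refine Finset.sum_congr rfl (fun i _ => ?_)
  rw [pderiv_lin, aeval_C, mul_comm]
  rfl

lemma aeval_prod (a μ v : Fin (r + 1) → k) (e : ℕ) :
    aeval v (lin a ^ (e + 1) * lin μ) = (a ⬝ᵥ v) ^ (e + 1) * (μ ⬝ᵥ v) := by
  rw [map_mul, map_pow, aeval_lin, aeval_lin]

lemma D_prod (a μ w v : Fin (r + 1) → k) (e : ℕ) :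
    D w v (lin a ^ (e + 1) * lin μ) =
      ((e : k) + 1) * (a ⬝ᵥ v) ^ e * (a ⬝ᵥ w) * (μ ⬝ᵥ v) + (a ⬝ᵥ v) ^ (e + 1) * (μ ⬝ᵥ w) := by
  rw [D_mul, D_pow, D_lin, D_lin, map_pow, aeval_lin, aeval_lin]

lemma prod_hom (a μ : Fin (r + 1) → k) (e : ℕ) :
    (lin a ^ (e + 1) * lin μ).IsHomogeneous (e + 2) := by
  have h := ((lin_hom a).pow (e + 1)).mul (lin_hom μ)
  convert h using 1
  omega

/-- Euler's identity -/
lemma D_euler {G : MvPolynomial (Fin (r + 1)) k} {d : ℕ} (hG : G.IsHomogeneous d)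
    (v : Fin (r + 1) → k) : D v v G = (d : k) * aeval v G := by
  have h := congrArg (aeval v) hG.sum_X_mul_pderiv
  rw [map_sum] at h
  simp only [map_mul, aeval_X, nsmul_eq_mul, map_natCast] at h
  unfold D
  exact h

lemma pderiv_comm (i j : Fin (r + 1)) (p : MvPolynomial (Fin (r + 1)) k) :
    pderiv i (pderiv j p) = pderiv j (pderiv i p) := by
  by_cases h : i = j
  · subst h; rfl
  · ext m
    have e : m + Finsupp.single i 1 + Finsupp.single j 1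
        = m + Finsupp.single j 1 + Finsupp.single i 1 := add_right_comm _ _ _
    rw [coeff_pderiv, coeff_pderiv, coeff_pderiv, coeff_pderiv, e]
    have h1 : (m + Finsupp.single i 1 : Fin (r + 1) →₀ ℕ) j = m j := by simp [Finsupp.single_apply, h]
    have h2 : (m + Finsupp.single j 1 : Fin (r + 1) →₀ ℕ) i = m i := by simp [Finsupp.single_apply, Ne.symm h]
    rw [h1, h2]; ring

lemma aeval_of_hom_zero {H : MvPolynomial (Fin (r + 1)) k} (hH : H.IsHomogeneous 0)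
    (v : Fin (r + 1) → k) : aeval v H = coeff 0 H := by
  have h0 : H.totalDegree = 0 := (totalDegree_zero_iff_isHomogeneous _).mpr hH
  rw [totalDegree_eq_zero_iff_eq_C] at h0
  rw [h0]
  simp

/-- symmetry of the polar form of a quadratic form -/
lemma D_symm {G : MvPolynomial (Fin (r + 1)) k} (hG : G.IsHomogeneous 2)
    (w v : Fin (r + 1) → k) : D w v G = D v w G := by
  have key : ∀ (x y : Fin (r + 1) → k),
      D x y G = ∑ i, ∑ j, x i * y j * coeff 0 (pderiv j (pderiv i G)) := by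
    intro x y
    unfold D
    refine Finset.sum_congr rfl (fun i _ => ?_)
    have h1 : (pderiv i G).IsHomogeneous 1 := hG.pderiv
    have h2 := congrArg (aeval y) h1.sum_X_mul_pderiv
    rw [one_smul, map_sum] at h2
    rw [← h2, Finset.mul_sum]
    refine Finset.sum_congr rfl (fun j _ => ?_)
    have h3 : (pderiv j (pderiv i G)).IsHomogeneous 0 := h1.pderiv
    rw [map_mul, aeval_X, aeval_of_hom_zero h3]
    ring
  rw [key w v, key v w, Finset.sum_comm]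
  refine Finset.sum_congr rfl (fun j _ => Finset.sum_congr rfl (fun i _ => ?_))
  rw [pderiv_comm]
  ring

/-! ### functionals -/

/-- dot product with `b` as a functional -/
noncomputable def dotL (b : Fin (r + 1) → k) : Module.Dual k (Fin (r + 1) → k) where
  toFun w := b ⬝ᵥ w
  map_add' x y := dotProduct_add b x y
  map_smul' c x := by simp [dotProduct_smul]

lemma dotL_apply (b w : Fin (r + 1) → k) : dotL b w = b ⬝ᵥ w := rfl

/-- restriction of the dot product with `b` to `W` -/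
noncomputable def rdot (W : Submodule k (Fin (r + 1) → k)) (b : Fin (r + 1) → k) :
    Module.Dual k W := W.dualRestrict (dotL b)

lemma rdot_apply (W : Submodule k (Fin (r + 1) → k)) (b : Fin (r + 1) → k) (w : W) :
    rdot W b w = b ⬝ᵥ w.1 := rfl

lemma exists_coeff (f : Module.Dual k (Fin (r + 1) → k)) :
    ∃ c : Fin (r + 1) → k, ∀ y, f y = c ⬝ᵥ y := by
  refine ⟨fun i => f (fun j => if i = j then 1 else 0), fun y => ?_⟩
  rw [LinearMap.pi_apply_eq_sum_univ f y, dotProduct]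
  exact Finset.sum_congr rfl (fun i _ => by rw [smul_eq_mul, mul_comm])

lemma sep' (W : Submodule k (Fin (r + 1) → k)) {x : Fin (r + 1) → k} (hx : x ∉ W) :
    ∃ c : Fin (r + 1) → k, c ⬝ᵥ x = 1 ∧ ∀ w ∈ W, c ⬝ᵥ w = 0 := by
  obtain ⟨f, hf1, hf2⟩ := Submodule.exists_le_ker_of_notMem hx
  obtain ⟨c, hc⟩ := exists_coeff f
  refine ⟨(f x)⁻¹ • c, ?_, fun w hw => ?_⟩
  · rw [smul_dotProduct, ← hc, smul_eq_mul, inv_mul_cancel₀ hf1]
  · rw [smul_dotProduct, ← hc, LinearMap.mem_ker.mp (hf2 hw), smul_zero]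

lemma exists_ext (W : Submodule k (Fin (r + 1) → k)) (φ : Module.Dual k W) :
    ∃ b : Fin (r + 1) → k, ∀ w : W, φ w = b ⬝ᵥ w.1 := by
  obtain ⟨Φ, hΦ⟩ := LinearMap.exists_extend φ
  obtain ⟨b, hb⟩ := exists_coeff Φ
  refine ⟨b, fun w => ?_⟩
  rw [← hb, ← hΦ]
  rfl

lemma exists_ext_val (W : Submodule k (Fin (r + 1) → k)) (φ : Module.Dual k W)
    {x : Fin (r + 1) → k} (hx : x ∉ W) (s : k) :
    ∃ b : Fin (r + 1) → k, (∀ w : W, φ w = b ⬝ᵥ w.1) ∧ b ⬝ᵥ x = s := by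
  obtain ⟨Φ, hΦ, hΦx⟩ := LinearMap.exists_extend_of_notMem φ hx s
  obtain ⟨b, hb⟩ := exists_coeff Φ
  refine ⟨b, fun w => ?_, ?_⟩
  · rw [← hb, ← hΦ]
    rfl
  · rw [← hb, hΦx]

lemma exists_dual_pair {v₁ v₂ : Fin (r + 1) → k} (hv : LinearIndependent k ![v₁, v₂]) :
    ∃ a₁ a₂ : Fin (r + 1) → k,
      a₁ ⬝ᵥ v₁ = 1 ∧ a₁ ⬝ᵥ v₂ = 0 ∧ a₂ ⬝ᵥ v₁ = 0 ∧ a₂ ⬝ᵥ v₂ = 1 := by
  rw [LinearIndependent.pair_iff] at hv
  have h1 : v₁ ∉ Submodule.span k {v₂} := by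
    intro hmem
    obtain ⟨t, ht⟩ := Submodule.mem_span_singleton.mp hmem
    have := hv 1 (-t) (by rw [one_smul, neg_smul, ht, add_neg_cancel])
    exact one_ne_zero this.1
  have h2 : v₂ ∉ Submodule.span k {v₁} := by
    intro hmem
    obtain ⟨t, ht⟩ := Submodule.mem_span_singleton.mp hmem
    have := hv (-t) 1 (by rw [one_smul, neg_smul, ht, neg_add_cancel])
    exact one_ne_zero this.2
  obtain ⟨c₁, hc1, hc1'⟩ := sep' _ h1
  obtain ⟨c₂, hc2, hc2'⟩ := sep' _ h2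
  exact ⟨c₁, c₂, hc1, hc1' v₂ (Submodule.mem_span_singleton_self v₂),
    hc2' v₁ (Submodule.mem_span_singleton_self v₁), hc2⟩

/-! ### the model forms -/

/-- the model form -/
noncomputable def GG (e : ℕ) (a₁ μ₁ a₂ μ₂ : Fin (r + 1) → k) : MvPolynomial (Fin (r + 1)) k :=
  lin a₁ ^ (e + 1) * lin μ₁ + lin a₂ ^ (e + 1) * lin μ₂

lemma GG_hom (e : ℕ) (a₁ μ₁ a₂ μ₂ : Fin (r + 1) → k) :
    (GG e a₁ μ₁ a₂ μ₂).IsHomogeneous (e + 2) :=
  (prod_hom a₁ μ₁ e).add (prod_hom a₂ μ₂ e)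

lemma aeval_GG (e : ℕ) (a₁ μ₁ a₂ μ₂ v : Fin (r + 1) → k) :
    aeval v (GG e a₁ μ₁ a₂ μ₂) =
      (a₁ ⬝ᵥ v) ^ (e + 1) * (μ₁ ⬝ᵥ v) + (a₂ ⬝ᵥ v) ^ (e + 1) * (μ₂ ⬝ᵥ v) := by
  rw [GG, map_add, aeval_prod, aeval_prod]

lemma D_GG (e : ℕ) (a₁ μ₁ a₂ μ₂ w v : Fin (r + 1) → k) :
    D w v (GG e a₁ μ₁ a₂ μ₂) =
      (((e : k) + 1) * (a₁ ⬝ᵥ v) ^ e * (a₁ ⬝ᵥ w) * (μ₁ ⬝ᵥ v) + (a₁ ⬝ᵥ v) ^ (e + 1) * (μ₁ ⬝ᵥ w)) +
      (((e : k) + 1) * (a₂ ⬝ᵥ v) ^ e * (a₂ ⬝ᵥ w) * (μ₂ ⬝ᵥ v) + (a₂ ⬝ᵥ v) ^ (e + 1) * (μ₂ ⬝ᵥ w)) := by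
  rw [GG, D_add, D_prod, D_prod]

theorem exists_form (e : ℕ) {a₁ a₂ v₁ v₂ : Fin (r + 1) → k}
    (h11 : a₁ ⬝ᵥ v₁ = 1) (h12 : a₁ ⬝ᵥ v₂ = 0) (h21 : a₂ ⬝ᵥ v₁ = 0) (h22 : a₂ ⬝ᵥ v₂ = 1)
    (c₁ c₂ : k) (b₁ b₂ : Fin (r + 1) → k)
    (hb₁ : b₁ ⬝ᵥ v₁ = ((e : k) + 2) * c₁) (hb₂ : b₂ ⬝ᵥ v₂ = ((e : k) + 2) * c₂)
    (hs : e = 0 → b₁ ⬝ᵥ v₂ = b₂ ⬝ᵥ v₁) :
    ∃ G : MvPolynomial (Fin (r + 1)) k, G.IsHomogeneous (e + 2) ∧
      aeval v₁ G = c₁ ∧ aeval v₂ G = c₂ ∧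
      (∀ w, D w v₁ G = b₁ ⬝ᵥ w) ∧ (∀ w, D w v₂ G = b₂ ⬝ᵥ w) := by
  rcases Nat.eq_zero_or_pos e with he | he
  · subst he
    have hs' := hs rfl
    refine ⟨GG 0 a₁ (b₁ - c₁ • a₁ - (b₁ ⬝ᵥ v₂) • a₂) a₂ (b₂ - c₂ • a₂), GG_hom _ _ _ _ _,
      ?_, ?_, fun w => ?_, fun w => ?_⟩
    · rw [aeval_GG]
      simp only [sub_dotProduct, smul_dotProduct, smul_eq_mul, h11, h12, h21, h22, hb₁, hb₂]
      push_cast
      ring
    · rw [aeval_GG]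
      simp only [sub_dotProduct, smul_dotProduct, smul_eq_mul, h11, h12, h21, h22, hb₁, hb₂]
      push_cast
      ring
    · rw [D_GG]
      simp only [sub_dotProduct, smul_dotProduct, smul_eq_mul, h11, h12, h21, h22, hb₁, hb₂, ← hs']
      push_cast
      ring
    · rw [D_GG]
      simp only [sub_dotProduct, smul_dotProduct, smul_eq_mul, h11, h12, h21, h22, hb₁, hb₂]
      push_cast
      ring
  · obtain ⟨e', rfl⟩ : ∃ e', e = e' + 1 := ⟨e - 1, by omega⟩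
    refine ⟨GG (e' + 1) a₁ (b₁ - ((((e' + 1 : ℕ) : k) + 1) * c₁) • a₁) a₂
      (b₂ - ((((e' + 1 : ℕ) : k) + 1) * c₂) • a₂), GG_hom _ _ _ _ _,
      ?_, ?_, fun w => ?_, fun w => ?_⟩
    · rw [aeval_GG]
      simp only [sub_dotProduct, smul_dotProduct, smul_eq_mul, h11, h12, h21, h22, hb₁, hb₂,
        pow_succ, one_pow, mul_zero, zero_mul, mul_one, one_mul, add_zero, zero_add]
      push_cast
      ring
    · rw [aeval_GG]
      simp only [sub_dotProduct, smul_dotProduct, smul_eq_mul, h11, h12, h21, h22, hb₁, hb₂,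
        pow_succ, one_pow, mul_zero, zero_mul, mul_one, one_mul, add_zero, zero_add]
      push_cast
      ring
    · rw [D_GG]
      simp only [sub_dotProduct, smul_dotProduct, smul_eq_mul, h11, h12, h21, h22, hb₁, hb₂,
        pow_succ, one_pow, mul_zero, zero_mul, mul_one, one_mul, add_zero, zero_add]
      push_cast
      ring
    · rw [D_GG]
      simp only [sub_dotProduct, smul_dotProduct, smul_eq_mul, h11, h12, h21, h22, hb₁, hb₂,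
        pow_succ, one_pow, mul_zero, zero_mul, mul_one, one_mul, add_zero, zero_add]
      push_cast
      ring

/-! ### jets -/

lemma dotL_pderiv (v w : Fin (r + 1) → k) (G : MvPolynomial (Fin (r + 1)) k) :
    dotL (fun i => aeval v (pderiv i G)) w = D w v G := by
  rw [dotL_apply, dotProduct, D]
  exact Finset.sum_congr rfl (fun i _ => mul_comm _ _)

/-- the differential of `G` at `v` as a functional, linear in `G` -/
noncomputable def dGL (v : Fin (r + 1) → k) :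
    MvPolynomial (Fin (r + 1)) k →ₗ[k] Module.Dual k (Fin (r + 1) → k) where
  toFun G := dotL (fun i => aeval v (pderiv i G))
  map_add' G H := by
    apply LinearMap.ext; intro w
    rw [LinearMap.add_apply, dotL_pderiv, dotL_pderiv, dotL_pderiv, D_add]
  map_smul' c G := by
    apply LinearMap.ext; intro w
    rw [LinearMap.smul_apply, dotL_pderiv, dotL_pderiv, D_smul, RingHom.id_apply, smul_eq_mul]

lemma dGL_apply (v w : Fin (r + 1) → k) (G : MvPolynomial (Fin (r + 1)) k) :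
    dGL v G w = D w v G := dotL_pderiv v w G

section jets

variable (d : ℕ) (W : Submodule k (Fin (r + 1) → k)) (v : Fin (r + 1) → k)

/-- the 1-jet at `v` restricted to `W` -/
noncomputable def jet : LefPen.Form r k d →ₗ[k] k × Module.Dual k W :=
  LinearMap.prod ((aeval v).toLinearMap ∘ₗ (CohB1.polyGrading r k d).subtype)
    (W.dualRestrict ∘ₗ dGL v ∘ₗ (CohB1.polyGrading r k d).subtype)

lemma jet_fst (G : LefPen.Form r k d) : (jet d W v G).1 = aeval v G.1 := rfl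

lemma jet_snd (G : LefPen.Form r k d) (w : W) : (jet d W v G).2 w = D w.1 v G.1 :=
  dGL_apply v w.1 G.1

lemma tangLin_fst (G : LefPen.Form r k d) : (LefPen.tangLin k W v G).1 = aeval v G.1 := rfl

lemma tangLin_snd (G : LefPen.Form r k d) (w : W) :
    (LefPen.tangLin k W v G).2 w = D w.1 v G.1 := by
  show (LinearMap.pi (fun w : ↥W => ∑ i, (w.1 i) • ((aeval v).toLinearMap ∘ₗ
      (pderiv i).toLinearMap ∘ₗ (CohB1.polyGrading r k d).subtype)) G) w = _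
  rw [LinearMap.pi_apply, LinearMap.sum_apply]
  unfold D
  refine Finset.sum_congr rfl (fun i _ => ?_)
  rfl

lemma mem_ker_jet (G : LefPen.Form r k d) :
    G ∈ LinearMap.ker (jet d W v) ↔ aeval v G.1 = 0 ∧ ∀ w : W, D w.1 v G.1 = 0 := by
  rw [LinearMap.mem_ker]
  constructor
  · intro h
    refine ⟨?_, fun w => ?_⟩
    · rw [← jet_fst d W v G, h]; rfl
    · rw [← jet_snd d W v G w, h]; rfl
  · rintro ⟨h1, h2⟩
    refine Prod.ext h1 (LinearMap.ext fun w => ?_)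
    exact (jet_snd d W v G w).trans (h2 w)

lemma mem_ker_tangLin (G : LefPen.Form r k d) :
    G ∈ LinearMap.ker (LefPen.tangLin k W v (d := d)) ↔
      aeval v G.1 = 0 ∧ ∀ w : W, D w.1 v G.1 = 0 := by
  rw [LinearMap.mem_ker]
  constructor
  · intro h
    refine ⟨?_, fun w => ?_⟩
    · rw [← tangLin_fst d W v G, h]; rfl
    · rw [← tangLin_snd d W v G w, h]; rfl
  · rintro ⟨h1, h2⟩
    refine Prod.ext h1 (funext fun w => ?_)
    exact (tangLin_snd d W v G w).trans (h2 w)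

lemma ker_jet : LinearMap.ker (jet d W v) = LinearMap.ker (LefPen.tangLin k W v (d := d)) := by
  ext G
  rw [mem_ker_jet, mem_ker_tangLin]

end jets

/-- the pair of jets -/
noncomputable def T2 (d : ℕ) (W₁ W₂ : Submodule k (Fin (r + 1) → k)) (v₁ v₂ : Fin (r + 1) → k) :
    LefPen.Form r k d →ₗ[k] (k × Module.Dual k W₁) × (k × Module.Dual k W₂) :=
  LinearMap.prod (jet d W₁ v₁) (jet d W₂ v₂)

lemma tangentForms_eq (d : ℕ) (W₁ W₂ : Submodule k (Fin (r + 1) → k))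
    (v₁ v₂ : Fin (r + 1) → k) :
    LefPen.tangentForms k d W₁ v₁ W₂ v₂ = LinearMap.ker (T2 d W₁ W₂ v₁ v₂) := by
  rw [T2, LinearMap.ker_prod, ker_jet, ker_jet]
  rfl

/-- the Euler constraints -/
noncomputable def Ψ₂ (d : ℕ) {W₁ W₂ : Submodule k (Fin (r + 1) → k)} (x₁ : W₁) (x₂ : W₂) :
    (k × Module.Dual k W₁) × (k × Module.Dual k W₂) →ₗ[k] k × k where
  toFun p := (p.1.2 x₁ - (d : k) * p.1.1, p.2.2 x₂ - (d : k) * p.2.1)
  map_add' p q := by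
    simp only [Prod.fst_add, Prod.snd_add, LinearMap.add_apply, Prod.mk_add_mk]
    congr 1 <;> ring
  map_smul' c p := by
    simp only [Prod.smul_fst, Prod.smul_snd, LinearMap.smul_apply, smul_eq_mul, RingHom.id_apply,
      Prod.smul_mk]
    congr 1 <;> ring

/-- the Euler constraints and the symmetry constraint -/
noncomputable def Ψ₃ (d : ℕ) {W₁ W₂ : Submodule k (Fin (r + 1) → k)} (x₁ y₁ : W₁) (x₂ y₂ : W₂) :
    (k × Module.Dual k W₁) × (k × Module.Dual k W₂) →ₗ[k] k × k × k where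
  toFun p := (p.1.2 x₁ - (d : k) * p.1.1, p.2.2 x₂ - (d : k) * p.2.1, p.1.2 y₁ - p.2.2 y₂)
  map_add' p q := by
    simp only [Prod.fst_add, Prod.snd_add, LinearMap.add_apply, Prod.mk_add_mk]
    congr 1
    · ring
    · congr 1 <;> ring
  map_smul' c p := by
    simp only [Prod.smul_fst, Prod.smul_snd, LinearMap.smul_apply, smul_eq_mul, RingHom.id_apply,
      Prod.smul_mk]
    congr 1
    · ring
    · congr 1 <;> ring

section main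

variable {d : ℕ} {W₁ W₂ : Submodule k (Fin (r + 1) → k)} {v₁ v₂ : Fin (r + 1) → k}

lemma exists_preimage (hd : 2 ≤ d) (hv : LinearIndependent k ![v₁, v₂])
    (h₁ : v₁ ∈ W₁) (h₂ : v₂ ∈ W₂)
    (c₁ c₂ : k) (φ₁ : Module.Dual k W₁) (φ₂ : Module.Dual k W₂)
    (hp1 : φ₁ ⟨v₁, h₁⟩ = (d : k) * c₁) (hp2 : φ₂ ⟨v₂, h₂⟩ = (d : k) * c₂)
    (hb : ∃ b₁ b₂ : Fin (r + 1) → k, (∀ w : W₁, φ₁ w = b₁ ⬝ᵥ w.1) ∧
      (∀ w : W₂, φ₂ w = b₂ ⬝ᵥ w.1) ∧ (d = 2 → b₁ ⬝ᵥ v₂ = b₂ ⬝ᵥ v₁)) :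
    ((c₁, φ₁), (c₂, φ₂)) ∈ LinearMap.range (T2 d W₁ W₂ v₁ v₂) := by
  obtain ⟨b₁, b₂, hb₁, hb₂, hs⟩ := hb
  obtain ⟨a₁, a₂, h11, h12, h21, h22⟩ := exists_dual_pair hv
  obtain ⟨e, rfl⟩ : ∃ e, d = e + 2 := ⟨d - 2, by omega⟩
  obtain ⟨G, hG, hG1, hG2, hG3, hG4⟩ := exists_form e h11 h12 h21 h22 c₁ c₂ b₁ b₂
    ((hb₁ ⟨v₁, h₁⟩).symm.trans (hp1.trans (by push_cast; ring)))
    ((hb₂ ⟨v₂, h₂⟩).symm.trans (hp2.trans (by push_cast; ring)))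
    (fun he => hs (by omega))
  refine ⟨⟨G, (mem_homogeneousSubmodule _ _).mpr hG⟩, ?_⟩
  refine Prod.ext (Prod.ext hG1 (LinearMap.ext fun w => ?_))
    (Prod.ext hG2 (LinearMap.ext fun w => ?_))
  · exact (jet_snd _ _ _ _ w).trans ((hG3 w.1).trans (hb₁ w).symm)
  · exact (jet_snd _ _ _ _ w).trans ((hG4 w.1).trans (hb₂ w).symm)

theorem range_generic (hd : 2 ≤ d) (hv : LinearIndependent k ![v₁, v₂])
    (h₁ : v₁ ∈ W₁) (h₂ : v₂ ∈ W₂) (hgen : 3 ≤ d ∨ ¬ (v₂ ∈ W₁ ∧ v₁ ∈ W₂)) :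
    LinearMap.range (T2 d W₁ W₂ v₁ v₂) =
      LinearMap.ker (Ψ₂ d (⟨v₁, h₁⟩ : W₁) (⟨v₂, h₂⟩ : W₂)) := by
  apply le_antisymm
  · rintro _ ⟨G, rfl⟩
    rw [LinearMap.mem_ker]
    have hG : G.1.IsHomogeneous d := (mem_homogeneousSubmodule _ _).mp G.2
    refine Prod.ext ?_ ?_
    · show (jet d W₁ v₁ G).2 ⟨v₁, h₁⟩ - (d : k) * (jet d W₁ v₁ G).1 = 0
      rw [jet_snd, jet_fst]
      exact sub_eq_zero.mpr (D_euler hG v₁)
    · show (jet d W₂ v₂ G).2 ⟨v₂, h₂⟩ - (d : k) * (jet d W₂ v₂ G).1 = 0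
      rw [jet_snd, jet_fst]
      exact sub_eq_zero.mpr (D_euler hG v₂)
  · rintro ⟨⟨c₁, φ₁⟩, ⟨c₂, φ₂⟩⟩ hp
    rw [LinearMap.mem_ker] at hp
    have hp1 : φ₁ ⟨v₁, h₁⟩ = (d : k) * c₁ := sub_eq_zero.mp (congrArg Prod.fst hp)
    have hp2 : φ₂ ⟨v₂, h₂⟩ = (d : k) * c₂ := sub_eq_zero.mp (congrArg Prod.snd hp)
    refine exists_preimage hd hv h₁ h₂ c₁ c₂ φ₁ φ₂ hp1 hp2 ?_
    rcases hgen with h3 | hnot
    · obtain ⟨b₁, hb₁⟩ := exists_ext W₁ φ₁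
      obtain ⟨b₂, hb₂⟩ := exists_ext W₂ φ₂
      exact ⟨b₁, b₂, hb₁, hb₂, fun he => by omega⟩
    · by_cases hm : v₂ ∈ W₁
      · have hm' : v₁ ∉ W₂ := fun h => hnot ⟨hm, h⟩
        obtain ⟨b₁, hb₁⟩ := exists_ext W₁ φ₁
        obtain ⟨b₂, hb₂, hb₂'⟩ := exists_ext_val W₂ φ₂ hm' (b₁ ⬝ᵥ v₂)
        exact ⟨b₁, b₂, hb₁, hb₂, fun _ => hb₂'.symm⟩
      · obtain ⟨b₂, hb₂⟩ := exists_ext W₂ φ₂
        obtain ⟨b₁, hb₁, hb₁'⟩ := exists_ext_val W₁ φ₁ hm (b₂ ⬝ᵥ v₁)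
        exact ⟨b₁, b₂, hb₁, hb₂, fun _ => hb₁'⟩

theorem range_special (hv : LinearIndependent k ![v₁, v₂])
    (h₁ : v₁ ∈ W₁) (h₂ : v₂ ∈ W₂) (hm₁ : v₂ ∈ W₁) (hm₂ : v₁ ∈ W₂) :
    LinearMap.range (T2 2 W₁ W₂ v₁ v₂) =
      LinearMap.ker (Ψ₃ 2 (⟨v₁, h₁⟩ : W₁) (⟨v₂, hm₁⟩ : W₁) (⟨v₂, h₂⟩ : W₂) (⟨v₁, hm₂⟩ : W₂)) := by
  apply le_antisymm
  · rintro _ ⟨G, rfl⟩
    rw [LinearMap.mem_ker]
    have hG : G.1.IsHomogeneous 2 := (mem_homogeneousSubmodule _ _).mp G.2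
    refine Prod.ext ?_ (Prod.ext ?_ ?_)
    · show (jet 2 W₁ v₁ G).2 ⟨v₁, h₁⟩ - ((2 : ℕ) : k) * (jet 2 W₁ v₁ G).1 = 0
      rw [jet_snd, jet_fst]
      exact sub_eq_zero.mpr (D_euler hG v₁)
    · show (jet 2 W₂ v₂ G).2 ⟨v₂, h₂⟩ - ((2 : ℕ) : k) * (jet 2 W₂ v₂ G).1 = 0
      rw [jet_snd, jet_fst]
      exact sub_eq_zero.mpr (D_euler hG v₂)
    · show (jet 2 W₁ v₁ G).2 ⟨v₂, hm₁⟩ - (jet 2 W₂ v₂ G).2 ⟨v₁, hm₂⟩ = 0
      rw [jet_snd, jet_snd]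
      exact sub_eq_zero.mpr (D_symm hG v₂ v₁)
  · rintro ⟨⟨c₁, φ₁⟩, ⟨c₂, φ₂⟩⟩ hp
    rw [LinearMap.mem_ker] at hp
    have hp1 : φ₁ ⟨v₁, h₁⟩ = ((2 : ℕ) : k) * c₁ := sub_eq_zero.mp (congrArg Prod.fst hp)
    have hp2 : φ₂ ⟨v₂, h₂⟩ = ((2 : ℕ) : k) * c₂ :=
      sub_eq_zero.mp (congrArg (fun p => p.2.1) hp)
    have hp3 : φ₁ ⟨v₂, hm₁⟩ = φ₂ ⟨v₁, hm₂⟩ := sub_eq_zero.mp (congrArg (fun p => p.2.2) hp)
    refine exists_preimage le_rfl hv h₁ h₂ c₁ c₂ φ₁ φ₂ hp1 hp2 ?_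
    obtain ⟨b₁, hb₁⟩ := exists_ext W₁ φ₁
    obtain ⟨b₂, hb₂⟩ := exists_ext W₂ φ₂
    exact ⟨b₁, b₂, hb₁, hb₂,
      fun _ => ((hb₁ ⟨v₂, hm₁⟩).symm.trans hp3).trans (hb₂ ⟨v₁, hm₂⟩)⟩

lemma Ψ₂_surj (hv : LinearIndependent k ![v₁, v₂]) (h₁ : v₁ ∈ W₁) (h₂ : v₂ ∈ W₂) :
    LinearMap.range (Ψ₂ d (⟨v₁, h₁⟩ : W₁) (⟨v₂, h₂⟩ : W₂)) = ⊤ := by
  obtain ⟨a₁, a₂, h11, h12, h21, h22⟩ := exists_dual_pair hv
  rw [LinearMap.range_eq_top]
  rintro ⟨x, y⟩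
  refine ⟨((0, x • rdot W₁ a₁), (0, y • rdot W₂ a₂)), ?_⟩
  refine Prod.ext ?_ ?_
  · show (x • rdot W₁ a₁) ⟨v₁, h₁⟩ - (d : k) * 0 = x
    simp only [LinearMap.smul_apply, rdot_apply, smul_eq_mul, h11, mul_zero, sub_zero, mul_one]
  · show (y • rdot W₂ a₂) ⟨v₂, h₂⟩ - (d : k) * 0 = y
    simp only [LinearMap.smul_apply, rdot_apply, smul_eq_mul, h22, mul_zero, sub_zero, mul_one]

lemma Ψ₃_surj (hv : LinearIndependent k ![v₁, v₂]) (h₁ : v₁ ∈ W₁) (h₂ : v₂ ∈ W₂)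
    (hm₁ : v₂ ∈ W₁) (hm₂ : v₁ ∈ W₂) :
    LinearMap.range (Ψ₃ d (⟨v₁, h₁⟩ : W₁) (⟨v₂, hm₁⟩ : W₁) (⟨v₂, h₂⟩ : W₂) (⟨v₁, hm₂⟩ : W₂))
      = ⊤ := by
  obtain ⟨a₁, a₂, h11, h12, h21, h22⟩ := exists_dual_pair hv
  rw [LinearMap.range_eq_top]
  rintro ⟨x, y, z⟩
  refine ⟨((0, x • rdot W₁ a₁ + z • rdot W₁ a₂), (0, y • rdot W₂ a₂)), ?_⟩
  refine Prod.ext ?_ (Prod.ext ?_ ?_)
  · show (x • rdot W₁ a₁ + z • rdot W₁ a₂) ⟨v₁, h₁⟩ - (d : k) * 0 = x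
    simp only [LinearMap.add_apply, LinearMap.smul_apply, rdot_apply, smul_eq_mul, h11, h21,
      mul_zero, sub_zero, mul_one, add_zero]
  · show (y • rdot W₂ a₂) ⟨v₂, h₂⟩ - (d : k) * 0 = y
    simp only [LinearMap.smul_apply, rdot_apply, smul_eq_mul, h22, mul_zero, sub_zero, mul_one]
  · show (x • rdot W₁ a₁ + z • rdot W₁ a₂) ⟨v₂, hm₁⟩ - (y • rdot W₂ a₂) ⟨v₁, hm₂⟩ = z
    simp only [LinearMap.add_apply, LinearMap.smul_apply, rdot_apply, smul_eq_mul, h12, h22, h21,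
      mul_zero, sub_zero, mul_one, zero_add]

instance finite_form (d : ℕ) : Module.Finite k (LefPen.Form r k d) :=
  Module.Finite.iff_fg.mpr (homogeneousSubmodule_fg _ _ d)

theorem count_generic (hd : 2 ≤ d) (hv : LinearIndependent k ![v₁, v₂])
    (h₁ : v₁ ∈ W₁) (h₂ : v₂ ∈ W₂) (hgen : 3 ≤ d ∨ ¬ (v₂ ∈ W₁ ∧ v₁ ∈ W₂)) :
    Module.finrank k (LefPen.Form r k d) =
      Module.finrank k ↥(LefPen.tangentForms k d W₁ v₁ W₂ v₂) +
        (Module.finrank k ↥W₁ + Module.finrank k ↥W₂) := by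
  have h1 := LinearMap.finrank_range_add_finrank_ker (T2 d W₁ W₂ v₁ v₂)
  have h2 := LinearMap.finrank_range_add_finrank_ker (Ψ₂ d (⟨v₁, h₁⟩ : W₁) (⟨v₂, h₂⟩ : W₂))
  rw [range_generic hd hv h₁ h₂ hgen] at h1
  rw [Ψ₂_surj hv h₁ h₂, finrank_top] at h2
  rw [tangentForms_eq]
  simp only [Module.finrank_prod, Module.finrank_self, Subspace.dual_finrank_eq] at h2
  omega

theorem count_special (hv : LinearIndependent k ![v₁, v₂])
    (h₁ : v₁ ∈ W₁) (h₂ : v₂ ∈ W₂) (hm₁ : v₂ ∈ W₁) (hm₂ : v₁ ∈ W₂) :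
    Module.finrank k (LefPen.Form r k 2) + 1 =
      Module.finrank k ↥(LefPen.tangentForms k 2 W₁ v₁ W₂ v₂) +
        (Module.finrank k ↥W₁ + Module.finrank k ↥W₂) := by
  have h1 := LinearMap.finrank_range_add_finrank_ker (T2 2 W₁ W₂ v₁ v₂)
  have h2 := LinearMap.finrank_range_add_finrank_ker
    (Ψ₃ 2 (⟨v₁, h₁⟩ : W₁) (⟨v₂, hm₁⟩ : W₁) (⟨v₂, h₂⟩ : W₂) (⟨v₁, hm₂⟩ : W₂))
  rw [range_special hv h₁ h₂ hm₁ hm₂] at h1
  rw [Ψ₃_surj hv h₁ h₂ hm₁ hm₂, finrank_top] at h2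
  rw [tangentForms_eq]
  simp only [Module.finrank_prod, Module.finrank_self, Subspace.dual_finrank_eq] at h2
  omega

end main

theorem main4024 (k : Type u) [Field k] (r d : ℕ) (hd : 2 ≤ d)
    (W₁ W₂ : Submodule k (Fin (r + 1) → k)) (v₁ v₂ : Fin (r + 1) → k) (h₁ : v₁ ∈ W₁) (h₂ : v₂ ∈ W₂)
    (hv : LinearIndependent k ![v₁, v₂]) :
    ((3 ≤ d ∨ ¬ (v₂ ∈ W₁ ∧ v₁ ∈ W₂)) →
      Module.finrank k (LefPen.Form r k d) =
        Module.finrank k ↥(LefPen.tangentForms k d W₁ v₁ W₂ v₂) + (Module.finrank k ↥W₁ + Module.finrank k ↥W₂)) ∧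
    ((d = 2 ∧ v₂ ∈ W₁ ∧ v₁ ∈ W₂) →
      Module.finrank k (LefPen.Form r k d) + 1 =
        Module.finrank k ↥(LefPen.tangentForms k d W₁ v₁ W₂ v₂) + (Module.finrank k ↥W₁ + Module.finrank k ↥W₂)) := by
  refine ⟨fun hgen => count_generic hd hv h₁ h₂ hgen, ?_⟩
  rintro ⟨hd2, hm₁, hm₂⟩
  subst hd2
  exact count_special hv h₁ h₂ hm₁ hm₂

end Groth.Agent.Lib.TangFormsH1
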