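import Mathlib
import Groth.Agent.Lib.TateRes_helper2

/-! Block operators on finite products and Tate residues (helper2). -/

namespace TateRes

section Block

variable {k : Type*} [Field k] {U : Type*} [AddCommGroup U] [Module k U]
variable {ι : Type*} [Fintype ι]

/-- The operator on `ι → U` given by a matrix of operators. -/
def matEnd (a : ι → ι → Module.End k U) : Module.End k (ι → U) where
  toFun c := fun i => ∑ j, a i j (c j)
  map_add' c d := by
    funext i
    simp only [Pi.add_apply, map_add, Finset.sum_add_distrib]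
  map_smul' r c := by
    funext i
    simp only [Pi.smul_apply, map_smul, Finset.smul_sum, RingHom.id_apply]

theorem matEnd_apply (a : ι → ι → Module.End k U) (c : ι → U) (i : ι) :
    matEnd a c i = ∑ j, a i j (c j) := rfl

omit [Fintype ι] in
/-- The componentwise operator. -/
def diagEnd (d : ι → Module.End k U) : Module.End k (ι → U) where
  toFun c := fun i => d i (c i)
  map_add' c e := by
    funext i
    simp only [Pi.add_apply, map_add]
  map_smul' r c := by
    funext i
    simp only [Pi.smul_apply, map_smul, RingHom.id_apply]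

omit [Fintype ι] in
theorem diagEnd_apply (d : ι → Module.End k U) (c : ι → U) (i : ι) :
    diagEnd d c i = d i (c i) := rfl

omit [Fintype ι] in
theorem diagEnd_mul (d d' : ι → Module.End k U) :
    diagEnd d * diagEnd d' = diagEnd (fun i => d i * d' i) := by
  refine LinearMap.ext fun c => funext fun i => ?_
  rfl

omit [Fintype ι] in
theorem diagEnd_sub (d d' : ι → Module.End k U) :
    diagEnd d - diagEnd d' = diagEnd (fun i => d i - d' i) := by
  refine LinearMap.ext fun c => funext fun i => ?_
  rfl

omit [Fintype ι] in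
theorem diagEnd_one : diagEnd (fun _ : ι => (1 : Module.End k U)) = 1 := by
  refine LinearMap.ext fun c => funext fun i => ?_
  rfl

theorem diagEnd_mul_matEnd (d : ι → Module.End k U) (a : ι → ι → Module.End k U) :
    diagEnd d * matEnd a = matEnd (fun i j => d i * a i j) := by
  refine LinearMap.ext fun c => funext fun i => ?_
  rw [Module.End.mul_apply, diagEnd_apply, matEnd_apply, matEnd_apply, map_sum]
  rfl

theorem matEnd_mul_diagEnd (a : ι → ι → Module.End k U) (d : ι → Module.End k U) :
    matEnd a * diagEnd d = matEnd (fun i j => a i j * d j) := by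
  refine LinearMap.ext fun c => funext fun i => ?_
  rfl

theorem matEnd_sub (a b : ι → ι → Module.End k U) :
    matEnd a - matEnd b = matEnd (fun i j => a i j - b i j) := by
  refine LinearMap.ext fun c => funext fun i => ?_
  rw [LinearMap.sub_apply, Pi.sub_apply, matEnd_apply, matEnd_apply, matEnd_apply,
    ← Finset.sum_sub_distrib]
  rfl

open scoped Classical in
theorem diagEnd_eq_matEnd (d : ι → Module.End k U) :
    diagEnd d = matEnd (fun i j => if i = j then d i else 0) := by
  refine LinearMap.ext fun c => funext fun i => ?_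
  rw [diagEnd_apply, matEnd_apply, Finset.sum_eq_single i]
  · rw [if_pos rfl]
  · intro j _ hj
    rw [if_neg (Ne.symm hj), LinearMap.zero_apply]
  · intro h
    exact absurd (Finset.mem_univ _) h

open scoped Classical in
theorem matEnd_eq_sum (a : ι → ι → Module.End k U) :
    matEnd a = ∑ i, ∑ j,
      (LinearMap.single k (fun _ : ι => U) i) ∘ₗ (a i j) ∘ₗ (LinearMap.proj j) := by
  refine LinearMap.ext fun c => funext fun i₀ => ?_
  have h : ∀ i, ((∑ j, (LinearMap.single k (fun _ : ι => U) i) ∘ₗ (a i j) ∘ₗ
      (LinearMap.proj j)) c) i₀ = if i = i₀ then ∑ j, a i j (c j) else 0 := by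
    intro i
    rw [LinearMap.sum_apply, Finset.sum_apply]
    split_ifs with hi
    · subst hi
      refine Finset.sum_congr rfl fun j _ => ?_
      show (Pi.single i (a i j (c j)) : ι → U) i = a i j (c j)
      rw [Pi.single_eq_same]
    · refine Finset.sum_eq_zero fun j _ => ?_
      show (Pi.single i (a i j (c j)) : ι → U) i₀ = 0
      rw [Pi.single_eq_of_ne (Ne.symm hi)]
  rw [matEnd_apply, LinearMap.sum_apply, Finset.sum_apply]
  simp only [h]
  rw [Finset.sum_ite_eq', if_pos (Finset.mem_univ _)]

theorem FR_matEnd {a : ι → ι → Module.End k U} (h : ∀ i j, FR (a i j)) : FR (matEnd a) := by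
  classical
  rw [matEnd_eq_sum]
  exact FR.sum _ _ fun i _ => FR.sum _ _ fun j _ => ((h i j).comp_right _).comp_left _

theorem frTrace_matEnd {a : ι → ι → Module.End k U} (h : ∀ i j, FR (a i j)) :
    frTrace (matEnd a) = ∑ i, frTrace (a i i) := by
  classical
  rw [matEnd_eq_sum, frTrace_sum _ _
    (fun i _ => FR.sum _ _ fun j _ => ((h i j).comp_right _).comp_left _)]
  refine Finset.sum_congr rfl fun i _ => ?_
  rw [frTrace_sum _ _ (fun j _ => ((h i j).comp_right _).comp_left _), Finset.sum_eq_single i]
  · rw [frTrace_comp_comm ((a i i) ∘ₗ LinearMap.proj i) (LinearMap.single k (fun _ : ι => U) i)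
      ((h i i).comp_right _)]
    congr 1
    refine LinearMap.ext fun x => ?_
    show a i i ((Pi.single i x : ι → U) i) = a i i x
    rw [Pi.single_eq_same]
  · intro j _ hj
    rw [frTrace_comp_comm ((a i j) ∘ₗ LinearMap.proj j) (LinearMap.single k (fun _ : ι => U) i)
      ((h i j).comp_right _)]
    have h0 : ((a i j) ∘ₗ LinearMap.proj j) ∘ₗ (LinearMap.single k (fun _ : ι => U) i) = 0 := by
      refine LinearMap.ext fun x => ?_
      show a i j ((Pi.single i x : ι → U) j) = 0
      rw [Pi.single_eq_of_ne hj, map_zero]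
    rw [h0, frTrace_zero]
  · intro h'
    exact absurd (Finset.mem_univ _) h'

theorem FR_diagEnd {d : ι → Module.End k U} (h : ∀ i, FR (d i)) : FR (diagEnd d) := by
  classical
  rw [diagEnd_eq_matEnd]
  refine FR_matEnd fun i j => ?_
  split_ifs
  exacts [h i, FR.zero]

theorem frTrace_diagEnd {d : ι → Module.End k U} (h : ∀ i, FR (d i)) :
    frTrace (diagEnd d) = ∑ i, frTrace (d i) := by
  classical
  rw [diagEnd_eq_matEnd, frTrace_matEnd (fun i j => by split_ifs; exacts [h i, FR.zero])]
  refine Finset.sum_congr rfl fun i _ => ?_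
  rw [if_pos rfl]

theorem comm2_diag_mat_const (p g : Module.End k U) (a : ι → ι → Module.End k U) :
    comm2 (diagEnd fun _ : ι => p) (matEnd a) (diagEnd fun _ : ι => g) =
      matEnd (fun i j => comm2 p (a i j) g) := by
  unfold comm2 toep
  rw [diagEnd_mul_matEnd, matEnd_mul_diagEnd, diagEnd_mul, diagEnd_mul, matEnd_mul_diagEnd,
    diagEnd_mul_matEnd, matEnd_sub]

omit [Fintype ι] in
theorem comm2_diag (P f g : ι → Module.End k U) :
    comm2 (diagEnd P) (diagEnd f) (diagEnd g) =
      diagEnd (fun i => comm2 (P i) (f i) (g i)) := by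
  unfold comm2 toep
  simp only [diagEnd_mul, diagEnd_sub]

theorem NS_diag_mat_const {p : Module.End k U} {a : ι → ι → Module.End k U}
    (h : ∀ i j, NS p (a i j)) : NS (diagEnd fun _ : ι => p) (matEnd a) := by
  unfold NS
  have e : (1 - diagEnd fun _ : ι => p) * matEnd a * (diagEnd fun _ : ι => p) =
      matEnd (fun i j => (1 - p) * a i j * p) := by
    rw [← diagEnd_one, diagEnd_sub, diagEnd_mul_matEnd, matEnd_mul_diagEnd]
  rw [e]
  exact FR_matEnd h

theorem NS_diag {P f : ι → Module.End k U} (h : ∀ i, NS (P i) (f i)) :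
    NS (diagEnd P) (diagEnd f) := by
  unfold NS
  have e : (1 - diagEnd P) * diagEnd f * diagEnd P =
      diagEnd (fun i => (1 - P i) * f i * P i) := by
    rw [← diagEnd_one, diagEnd_sub, diagEnd_mul, diagEnd_mul]
  rw [e]
  exact FR_diagEnd h

theorem tres_diag_mat_const (p g : Module.End k U) (a : ι → ι → Module.End k U)
    (hFR : ∀ i j, FR (comm2 p (a i j) g)) :
    tres (diagEnd fun _ : ι => p) (matEnd a) (diagEnd fun _ : ι => g) =
      ∑ i, tres p (a i i) g := by
  unfold tres
  rw [comm2_diag_mat_const, frTrace_matEnd hFR]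

theorem tres_diag (P f g : ι → Module.End k U) (hFR : ∀ i, FR (comm2 (P i) (f i) (g i))) :
    tres (diagEnd P) (diagEnd f) (diagEnd g) = ∑ i, tres (P i) (f i) (g i) := by
  unfold tres
  rw [comm2_diag, frTrace_diagEnd hFR]

end Block

section Lift

variable {k : Type*} [Field k] {V V' : Type*} [AddCommGroup V] [Module k V]
  [AddCommGroup V'] [Module k V']

theorem exists_lift_proj_of_dense (j : V →ₗ[k] V') (P' : Module.End k V')
    (hP' : P' * P' = P') (p : Module.End k V) (hp : p * p = p)
    (h1 : ∀ v, P' (j (p v)) = j (p v)) (h2 : ∀ v, P' (j v) = j v → p v = v)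
    (hdense : ∀ w, ∃ v, P' (w - j v) = w - j v) :
    ∃ P'' : Module.End k V', P'' * P'' = P'' ∧ P'' * P' = P' ∧ P' * P'' = P'' ∧
      (∀ v, j (p v) = P'' (j v)) ∧ ∀ w, ∃ v, P'' (w - j v) = w - j v := by
  obtain ⟨A', hA'⟩ : ∃ A' : Submodule k V', A' = LinearMap.range P' := ⟨_, rfl⟩
  obtain ⟨C', hC'⟩ : ∃ C' : Submodule k V', C' = (LinearMap.ker p).map j := ⟨_, rfl⟩
  have hP'x : ∀ x, P' (P' x) = P' x := fun x => by rw [← Module.End.mul_apply, hP']
  have hmemA : ∀ x : V', x ∈ A' ↔ P' x = x := by
    intro x
    rw [hA']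
    constructor
    · rintro ⟨y, rfl⟩
      exact hP'x y
    · intro hx
      exact ⟨x, hx⟩
  have hpp : ∀ v, p (p v) = p v := fun v => by rw [← Module.End.mul_apply, hp]
  have hkerC : ∀ v, j (v - p v) ∈ C' := by
    intro v
    rw [hC']
    refine ⟨v - p v, ?_, rfl⟩
    show p (v - p v) = 0
    rw [map_sub, hpp, sub_self]
  have hc : IsCompl A' C' := by
    refine ⟨Submodule.disjoint_def.mpr ?_, codisjoint_iff.mpr (eq_top_iff.mpr ?_)⟩
    · intro x hxA hxC
      rw [hC'] at hxC
      obtain ⟨c, hc, rfl⟩ := hxC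
      have hc' : p c = 0 := hc
      have h3 := h2 c ((hmemA _).mp hxA)
      rw [hc'] at h3
      rw [← h3, map_zero]
    · intro x _
      obtain ⟨v, hv⟩ := hdense x
      have e : x = (x - j v + j (p v)) + j (v - p v) := by
        rw [map_sub]
        abel
      rw [e]
      refine Submodule.add_mem_sup ?_ (hkerC v)
      exact A'.add_mem ((hmemA _).mpr hv) ((hmemA _).mpr (h1 v))
  refine ⟨A'.projection C' hc, (Submodule.isIdempotentElem_projection hc).eq, ?_, ?_, ?_, ?_⟩
  · refine LinearMap.ext fun v => ?_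
    rw [Module.End.mul_apply]
    exact Submodule.projection_apply_of_mem_left hc ((hmemA _).mpr (hP'x v))
  · refine LinearMap.ext fun v => ?_
    rw [Module.End.mul_apply]
    exact (hmemA _).mp (Submodule.projection_apply_mem hc v)
  · intro v
    have e : j v = j (p v) + j (v - p v) := by
      rw [← map_add]
      congr 1
      abel
    rw [e, map_add, Submodule.projection_apply_of_mem_left hc ((hmemA _).mpr (h1 v)),
      Submodule.projection_apply_of_mem_right hc (hkerC v), add_zero]
  · intro x
    obtain ⟨v, hv⟩ := hdense x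
    exact ⟨v, Submodule.projection_apply_of_mem_left hc ((hmemA _).mpr hv)⟩

theorem tres_eq_of_dense_range (j : V →ₗ[k] V') (hj : Function.Injective j)
    {p f g : Module.End k V} {P' f' g' : Module.End k V'}
    (hP' : P' * P' = P') (hp : p * p = p)
    (h1 : ∀ v, P' (j (p v)) = j (p v)) (h2 : ∀ v, P' (j v) = j v → p v = v)
    (hdense : ∀ w, ∃ v, P' (w - j v) = w - j v)
    (hjf : ∀ v, j (f v) = f' (j v)) (hjg : ∀ v, j (g v) = g' (j v))
    (hf'g' : f' * g' = g' * f') (hf' : NS P' f') (hg' : NS P' g') :
    tres p f g = tres P' f' g' := by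
  obtain ⟨P'', hP'', hPP', hP'P, hjP, hd⟩ :=
    exists_lift_proj_of_dense j P' hP' p hp h1 h2 hdense
  have hf'' := NS_of_range_eq hPP' hP'P hf'
  have hg'' := NS_of_range_eq hPP' hP'P hg'
  rw [tres_eq_of_dense j hj hjP hjf hjg hf'g' hd (FR_comm2 hP'' hf'g' hf'' hg''),
    tres_eq_of_range_eq hP' hP'' hPP' hP'P hf'g' hf' hg']

end Lift

end TateRes
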