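import Mathlib
import Groth.Prelude.Def_LocRes
import Groth.Agent.Lib.TateLaurent_helper2

/-! `Res(f^(n-1) df) = 0` for `n ≠ 0`, in every characteristic (helper2). -/

namespace TateRes

open HahnSeries

section Abstract

variable {k : Type*} [Field k] {V : Type*} [AddCommGroup V] [Module k V]

theorem FR_toep_pow {P f : Module.End k V} (hP : P * P = P) (hf : NS P f) :
    ∀ m : ℕ, FR (toep P (f ^ (m + 1)) - (toep P f) ^ (m + 1)) := by
  intro m
  induction m with
  | zero =>
    rw [zero_add, pow_one, pow_one, sub_self]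
    exact FR.zero
  | succ m ih =>
    have e : toep P (f ^ (m + 1 + 1)) - (toep P f) ^ (m + 1 + 1) =
        (toep P (f ^ (m + 1)) - (toep P f) ^ (m + 1)) * toep P f +
          defect P (f ^ (m + 1)) f := by
      rw [pow_succ f (m + 1), pow_succ (toep P f) (m + 1), sub_mul, toep_mul hP]
      abel
    rw [e]
    exact (ih.mul_right _).add (FR_defect hf)

theorem tres_pow_self {P f : Module.End k V} (hP : P * P = P) (hf : NS P f) (m : ℕ) :
    tres P (f ^ (m + 1)) f = 0 := by
  obtain ⟨d, hd⟩ : ∃ d, d = toep P (f ^ (m + 1)) - (toep P f) ^ (m + 1) := ⟨_, rfl⟩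
  have hFd : FR d := hd ▸ FR_toep_pow hP hf m
  have e : toep P (f ^ (m + 1)) = (toep P f) ^ (m + 1) + d := by rw [hd]; abel
  have hc : (toep P f) ^ (m + 1) * toep P f - toep P f * (toep P f) ^ (m + 1) = 0 := by
    rw [← pow_succ, ← pow_succ', sub_self]
  unfold tres comm2
  rw [e, frTrace_comm_add_left (by rw [hc]; exact FR.zero) hFd, hc]
  exact frTrace_zero

variable {R : Type*} [CommRing R] {μ : R →+* Module.End k V} {P : Module.End k V}

theorem res_pow_self (hP : P * P = P) (hNS : ∀ r, NS P (μ r)) (y : R) (m : ℕ) :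
    res μ P (y ^ m) y = 0 := by
  cases m with
  | zero => rw [pow_zero, res_swap hP hNS y 1, res_one_right hP hNS, neg_zero]
  | succ m =>
    unfold res
    rw [map_pow]
    exact tres_pow_self hP (hNS y) m

theorem res_inv_pow (hP : P * P = P) (hNS : ∀ r, NS P (μ r)) (y y' : R) (hy : y * y' = 1)
    (j : ℕ) : res μ P (y' ^ (j + 2)) y = 0 := by
  have h := res_inv hP hNS y y' hy (y' ^ j)
  have e : y' ^ j * y' * y' = y' ^ (j + 2) := by ring
  rw [e, res_pow_self hP hNS] at h
  exact neg_eq_zero.mp h.symm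

end Abstract

theorem resExp_zpow_self {k : Type*} {K : Type*} {F : Type*} [CommRing k] [Field K] [Field F]
    [Algebra k K] [Algebra k F] (φ : K →ₐ[k] LaurentSeries F) (f : K) (n : ℤ) (hn : n ≠ 0) :
    LocRes.resExp φ (f ^ (n - 1)) f = 0 := by
  by_cases hf : f = 0
  · unfold LocRes.resExp
    rw [hf, map_zero, map_zero, mul_zero, map_zero]
  have key : ∀ u g : LaurentSeries F,
      res (mulL F F) (Preg F F) u g = (u * LocRes.D F g).coeff (-1) := fun u g => by
    rw [res_laurent, Algebra.trace_self_apply]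
  unfold LocRes.resExp
  rw [LocRes.res_apply, ← key]
  rcases lt_or_gt_of_ne hn with h | h
  · obtain ⟨j, hj⟩ : ∃ j : ℕ, n - 1 = -((j + 2 : ℕ) : ℤ) := by
      refine ⟨(-n - 1).toNat, ?_⟩
      have := Int.toNat_of_nonneg (show 0 ≤ -n - 1 by omega)
      push_cast
      omega
    rw [hj, zpow_neg, zpow_natCast, ← inv_pow, map_pow]
    exact res_inv_pow Preg_idem NS_Preg_all (φ f) (φ f⁻¹)
      (by rw [← map_mul, mul_inv_cancel₀ hf, map_one]) j
  · obtain ⟨m, hm⟩ : ∃ m : ℕ, n - 1 = (m : ℤ) :=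
      ⟨(n - 1).toNat, (Int.toNat_of_nonneg (by omega)).symm⟩
    rw [hm, zpow_natCast, map_pow]
    exact res_pow_self Preg_idem NS_Preg_all (φ f) m

end TateRes
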