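import Mathlib
import Groth.Agent.Lib.TateBlock_helper2
import Groth.Agent.Lib.TateFunFld_helper2
import Groth.Agent.Lib.TateWeil_helper2
import Groth.Agent.Lib.FunFldIntCl_helper2

/-! The trace formula for residues: `Res_P(Tr y dx) = ∑_{Q | P} Res_Q(y dx)` (helper2). -/

open HahnSeries WithZero Module

namespace FunFld

open TateRes

universe u v w

section Trace

variable {k : Type u} {K K' : Type v} [Field k] [Field K] [Field K'] [Algebra k K]
  [Algebra K K'] [Algebra k K'] [IsScalarTower k K K'] [FiniteDimensional K K']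

theorem locRes_sum_left {F : Type w} [Field F] [Algebra k F] (φ : K →ₐ[k] LaurentSeries F)
    {ι : Type*} (s : Finset ι) (f : ι → K) (x : K) :
    LocRes.locRes φ (∑ i ∈ s, f i) x = ∑ i ∈ s, LocRes.locRes φ (f i) x := by
  classical
  induction s using Finset.induction_on with
  | empty => rw [Finset.sum_empty, Finset.sum_empty, locRes_zero_left]
  | insert a s ha ih => rw [Finset.sum_insert ha, Finset.sum_insert ha, locRes_add_left, ih]

/-- S12578. -/
theorem locRes_trace_eq_sum (hK : IsFunctionField k K) (P : Place k K)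
    {F : Type w} [Field F] [Algebra k F] [FiniteDimensional k F]
    {φ : K →ₐ[k] LaurentSeries F} (hφ : LocRes.IsExpansionAt P.1 φ)
    (Qs : Finset (Place k K')) (hQs : ∀ Q, Q ∈ Qs ↔ IsOver Q P)
    (F' : Place k K' → Type w) [∀ Q, Field (F' Q)] [∀ Q, Algebra k (F' Q)]
    [∀ Q, FiniteDimensional k (F' Q)]
    (ψ : ∀ Q, K' →ₐ[k] LaurentSeries (F' Q)) (hψ : ∀ Q ∈ Qs, LocRes.IsExpansionAt Q.1 (ψ Q))
    (y : K') (x : K) :
    LocRes.locRes φ (Algebra.trace K K' y) x =
      ∑ Q ∈ Qs, LocRes.locRes (ψ Q) y (algebraMap K K' x) := by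
  classical
  have hmcK : ∀ a b : K, mulK k K a * mulK k K b = mulK k K b * mulK k K a :=
    fun a b => mu_comm (mulK k K) a b
  have hmcK' : ∀ a b : K', mulK k K' a * mulK k K' b = mulK k K' b * mulK k K' a :=
    fun a b => mu_comm (mulK k K') a b
  have hlocP := local_main hφ (locProj P) (locProj_idem P) (locProj_le P) (locProj_fix P)
  have hlocQ := fun (Q : Place k K') (hQ : Q ∈ Qs) =>
    local_main (hψ Q hQ) (locProj Q) (locProj_idem Q) (locProj_le Q) (locProj_fix Q)
  have hne : Qs.Nonempty := by
    have h := sum_ramIdx_mul_deg hK P Qs hQs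
    have hpos : 0 < Module.finrank K K' * P.deg :=
      Nat.mul_pos Module.finrank_pos (Place.deg_pos hK P)
    by_contra hempty
    rw [Finset.not_nonempty_iff_eq_empty] at hempty
    rw [hempty, Finset.sum_empty] at h
    omega
  obtain ⟨z, hzli, hz1, -, hz2⟩ := exists_integral_basis (K' := K') hK P
  haveI : Nonempty (Fin (Module.finrank K K')) := ⟨⟨0, Module.finrank_pos⟩⟩
  let b : Basis (Fin (Module.finrank K K')) K K' :=
    basisOfLinearIndependentOfCardEqFinrank hzli (Fintype.card_fin _)
  have hb : ∀ i, b i = z i := fun i => by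
    show (basisOfLinearIndependentOfCardEqFinrank hzli (Fintype.card_fin _)) i = z i
    rw [coe_basisOfLinearIndependentOfCardEqFinrank]
  let e : K' ≃ₗ[k] (Fin (Module.finrank K K') → K) := b.equivFun.restrictScalars k
  have he_apply : ∀ v i, e v i = b.repr v i := fun v i => rfl
  have hesymm : ∀ c, e.symm c = ∑ i, algebraMap K K' (c i) * z i := by
    intro c
    show b.equivFun.symm c = _
    rw [Basis.equivFun_symm_apply]
    refine Finset.sum_congr rfl fun i _ => ?_
    rw [hb, Algebra.smul_def]
  let PV : Module.End k (Fin (Module.finrank K K') → K) := diagEnd (fun _ => locProj P)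
  have hPV : PV * PV = PV := by
    show diagEnd _ * diagEnd _ = diagEnd _
    rw [diagEnd_mul]
    congr 1
    funext i
    exact locProj_idem P
  let pR : Module.End k K' := e.symm.toLinearMap ∘ₗ PV ∘ₗ e.toLinearMap
  have hpRa : ∀ v, pR v = e.symm (PV (e v)) := fun v => rfl
  have hepR : ∀ v, e (pR v) = PV (e v) := fun v => by rw [hpRa, e.apply_symm_apply]
  have hpR : pR * pR = pR := by
    refine LinearMap.ext fun v => ?_
    rw [Module.End.mul_apply, hpRa (pR v), hepR, ← Module.End.mul_apply, hPV]
    rfl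
  have hpR_mem : ∀ v, pR v ∈ RO K' P := by
    intro v
    rw [hpRa, hesymm]
    refine Submodule.sum_mem _ fun i _ => ?_
    exact alg_mul_mem_RO P (show P.1 (locProj P (e v i)) ≤ 1 from locProj_le P _) (hz1 i)
  have hpR_fix : ∀ v, v ∈ RO K' P → pR v = v := by
    intro v hv
    obtain ⟨c, hc, hvc⟩ := hz2 v hv
    have h1 : v = e.symm c := by rw [hesymm]; exact hvc
    have h2 : e v = c := by rw [h1, e.apply_symm_apply]
    have h3 : PV c = c := funext fun i => locProj_fix P (c i) (hc i)
    rw [hpRa, h2, h3, ← h1]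
  -- the matrix of multiplication by `y`
  obtain ⟨M, hM⟩ : ∃ M : Matrix (Fin (Module.finrank K K')) (Fin (Module.finrank K K')) K,
      M = Algebra.leftMulMatrix b y := ⟨_, rfl⟩
  have hMrepr : ∀ v i, e (y * v) i = ∑ j, M i j * e v j := by
    intro v i
    have h := LinearMap.toMatrix_mulVec_repr b b (Algebra.lmul K K' y) v
    rw [← Algebra.leftMulMatrix_apply, ← hM] at h
    have h' : ∑ j, M i j * (b.repr v) j = (b.repr (y * v)) i := congrFun h i
    rw [he_apply]
    exact h'.symm
  have hNSP := hlocP.1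
  have hFRV : ∀ i j, FR (comm2 (locProj P) (mulK k K (M i j)) (mulK k K x)) := fun i j =>
    FR_comm2 (locProj_idem P) (hmcK _ _) (hNSP _) (hNSP _)
  have hV : tres pR (mulK k K' y) (mulK k K' (algebraMap K K' x)) =
      ∑ i, tres (locProj P) (mulK k K (M i i)) (mulK k K x) := by
    rw [← tres_diag_mat_const (locProj P) (mulK k K x) (fun i j => mulK k K (M i j)) hFRV]
    refine tres_eq_of_dense e.toLinearMap e.injective hepR ?_ ?_ ?_ ?_ ?_
    · intro v
      funext i
      show e (y * v) i = ∑ j, mulK k K (M i j) (e v j)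
      rw [hMrepr]
      rfl
    · intro v
      funext i
      show e (algebraMap K K' x * v) i = x * e v i
      rw [← Algebra.smul_def]
      show b.equivFun (x • v) i = x * b.equivFun v i
      rw [map_smul]
      rfl
    · rw [matEnd_mul_diagEnd, diagEnd_mul_matEnd]
      congr 1
      funext i j
      exact hmcK _ _
    · intro w
      refine ⟨e.symm w, ?_⟩
      rw [LinearEquiv.coe_coe, e.apply_symm_apply, sub_self, map_zero]
    · rw [comm2_diag_mat_const]
      exact FR_matEnd hFRV
  -- the semilocal side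
  obtain ⟨Q₀, hQ₀⟩ := hne
  let jW : K' →ₗ[k] (↥Qs → K') := LinearMap.pi (fun _ => LinearMap.id)
  have hjWinj : Function.Injective jW := fun v v' h => congrFun h ⟨Q₀, hQ₀⟩
  let PW : Module.End k (↥Qs → K') := diagEnd (fun i => locProj i.1)
  have hPW : PW * PW = PW := by
    show diagEnd _ * diagEnd _ = diagEnd _
    rw [diagEnd_mul]
    congr 1
    funext i
    exact locProj_idem i.1
  have hW : tres pR (mulK k K' y) (mulK k K' (algebraMap K K' x)) =
      ∑ i : ↥Qs, tres (locProj i.1) (mulK k K' y) (mulK k K' (algebraMap K K' x)) := by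
    rw [← tres_diag (fun i : ↥Qs => locProj i.1) (fun _ => mulK k K' y)
      (fun _ => mulK k K' (algebraMap K K' x))
      (fun i => FR_comm2 (locProj_idem i.1) (hmcK' _ _) ((hlocQ i.1 i.2).1 _)
        ((hlocQ i.1 i.2).1 _))]
    refine tres_eq_of_dense_range jW hjWinj hPW hpR ?_ ?_ ?_ ?_ ?_ ?_ ?_ ?_
    · intro v
      funext i
      show locProj i.1 (pR v) = pR v
      exact locProj_fix i.1 _ ((mem_RO.mp (hpR_mem v)) i.1 ((hQs i.1).mp i.2))
    · intro v hv
      apply hpR_fix
      intro Q hQ
      have h : locProj Q v = v := congrFun hv ⟨Q, (hQs Q).mpr hQ⟩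
      rw [← h]
      exact locProj_le Q v
    · intro w
      obtain ⟨zz, hzz⟩ := exists_approx (fun i : ↥Qs => i.1) Subtype.val_injective w 0
      refine ⟨zz, funext fun i => ?_⟩
      show locProj i.1 (w i - zz) = w i - zz
      apply locProj_fix
      rw [Valuation.map_sub_swap]
      have := hzz i
      rwa [neg_zero, exp_zero] at this
    · intro v
      rfl
    · intro v
      rfl
    · rw [diagEnd_mul, diagEnd_mul]
      congr 1
      funext i
      exact hmcK' _ _
    · exact NS_diag fun i => (hlocQ i.1 i.2).1 _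
    · exact NS_diag fun i => (hlocQ i.1 i.2).1 _
  have hsumV : ∑ i, tres (locProj P) (mulK k K (M i i)) (mulK k K x) =
      LocRes.locRes φ (Algebra.trace K K' y) x := by
    rw [Algebra.trace_eq_matrix_trace b y, ← hM, Matrix.trace]
    simp only [Matrix.diag_apply]
    rw [locRes_sum_left]
    exact Finset.sum_congr rfl fun i _ => hlocP.2 _ _
  rw [← hsumV, ← hV, hW, ← Finset.sum_coe_sort Qs]
  exact Finset.sum_congr rfl fun i _ => (hlocQ i.1 i.2).2 _ _

end Trace

end FunFld
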