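import Mathlib
import Groth.Prelude
import Groth.Agent.Lib.TauEq2_helper9
import Groth.Agent.Lib.DegPull5_helper9
import Groth.Agent.Lib.BirCurve3_helper9
import Groth.Agent.Lib.CohDev11_helper8

/-!
# τ-equivalent to zero implies numerically equivalent to zero (helper9)
**S4278**.
APPEND-ONLY once landed.
-/

set_option autoImplicit false
universe u
open AlgebraicGeometry CategoryTheory CategoryTheory.Limits TopologicalSpace

namespace TauEq

open Groth.Agent.Lib.GVanH2 Groth.Agent.TensInv CohB1

section Num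

variable (k : Type u) [Field k] (X : Scheme.{u}) [X.Over (Spec (CommRingCat.of k))]
  [IsProper (X ↘ Spec (CommRingCat.of k))]

/-- `χ(Y, i^*L) = χ(Y, O_Y)` for a closed subscheme `i : Y → X` and `L` τ-equivalent to zero -/
theorem euler_pullback_of_tauEquivZero {L : X.Modules} (hL : PicF.IsInvertible L)
    (hτ : Pic13.IsTauEquivZero k X L) {Y : Scheme.{u}} (i : Y ⟶ X) [IsClosedImmersion i] :
    @Curv2.euler k _ Y ⟨i ≫ (X ↘ Spec (CommRingCat.of k))⟩ ((Scheme.Modules.pullback i).obj L) =
      @Curv2.euler k _ Y ⟨i ≫ (X ↘ Spec (CommRingCat.of k))⟩ (Coh.structureModule Y) := by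
  letI : Y.Over (Spec (CommRingCat.of k)) := ⟨i ≫ (X ↘ Spec (CommRingCat.of k))⟩
  have hcoh : Coh.IsCoh ((Scheme.Modules.pushforward i).obj (Coh.structureModule Y)) :=
    CohDevH8.isCoh_pushforward_of_isFinite i (CohDevH8.isCoh_structureModule Y)
  haveI : (Coh.structureModule Y).IsQuasicoherent := (CohDevH8.isCoh_structureModule Y).1
  have h1 := DegPull.euler_pullback_eq k i rfl L (TensH8.isFinLocFree_of_isInvertible hL)
  have h2 := euler_tensor_of_tauEquivZero k X hL hτ _ hcoh
  have h3 := BirCurve.euler_push k i rfl (Coh.structureModule Y)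
  exact h1.trans (h2.trans h3)

/-- **S4278** -/
theorem main4278 (L : X.Modules) (hL : PicF.IsInvertible L)
    (hτ : Pic13.IsTauEquivZero k X L) : Pic13.IsNumEquivZero k X L := by
  intro Y i _ hint hdim
  unfold Pic13.curveDeg
  rw [sub_eq_zero]
  letI : Y.Over (Spec (CommRingCat.of k)) := ⟨i ≫ (X ↘ Spec (CommRingCat.of k))⟩
  haveI : IsProper (Y ↘ Spec (CommRingCat.of k)) := by
    show IsProper (i ≫ (X ↘ Spec (CommRingCat.of k)))
    infer_instance
  have hd : topologicalKrullDim Y ≤ ((1 : ℕ) : WithBot ℕ∞) := by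
    rw [hdim]
    exact_mod_cast le_rfl
  have h := euler_pullback_of_tauEquivZero k X hL hτ i
  rw [Snap9.euler_eq_eulerCharLE k Y 1 hd, Snap9.euler_eq_eulerCharLE k Y 1 hd] at h
  exact h

end Num

end TauEq
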