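import Mathlib
import Groth.Prelude
import Groth.Agent.Lib.TauEq3_helper9
import Groth.Agent.Lib.Snap32_helper9
import Groth.Agent.Lib.NegPow_helper5
import Groth.Agent.Lib.InvTens2_helper8
import Groth.Agent.Lib.InvTensP2_helper5

/-!
# Twisting an ample module by a module τ-equivalent to zero (helper9)
**S4280**, via the Nakai–Moishezon criterion.
APPEND-ONLY once landed.
-/

set_option autoImplicit false
universe u
open AlgebraicGeometry CategoryTheory CategoryTheory.Limits TopologicalSpace

namespace TauEq

open Groth.Agent.Lib.GVanH2 Groth.Agent.TensInv CohB1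

section Ample

variable (k : Type u) [Field k] (X : Scheme.{u}) [X.Over (Spec (CommRingCat.of k))]
  [IsProper (X ↘ Spec (CommRingCat.of k))]

/-- tensoring with `N` preserves Euler characteristics of coherent modules -/
def ChiInv (N : X.Modules) : Prop :=
  ∀ G : X.Modules, Coh.IsCoh G → Curv2.euler k X (tensorMod G N) = Curv2.euler k X G

theorem chiInv_of_tau {L : X.Modules} (hL : PicF.IsInvertible L)
    (hτ : Pic13.IsTauEquivZero k X L) : ChiInv k X L :=
  fun G hG => euler_tensor_of_tauEquivZero k X hL hτ G hG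

theorem chiInv_inverse {L L' : X.Modules} (hL' : PicF.IsInvertible L')
    (ε : tensorMod L L' ≅ Coh.structureModule X) (h : ChiInv k X L) : ChiInv k X L' := by
  intro G hG
  haveI : IsLocallyNoetherian X :=
    LocallyOfFiniteType.isLocallyNoetherian (X ↘ Spec (CommRingCat.of k))
  have h1 := h (tensorMod G L') (Snap9.isCoh_tensorMod hG hL')
  exact h1.symm.trans (CurveTens.euler_of_iso k X
    (assoc G L' L ≪≫ mapL G (comm L' L ≪≫ ε) ≪≫ rightUnit G))

theorem chiInv_pow {N : X.Modules} (hN : PicF.IsInvertible N) (h : ChiInv k X N) (m : ℕ) :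
    ChiInv k X (tensorPow N m) := by
  haveI : IsLocallyNoetherian X :=
    LocallyOfFiniteType.isLocallyNoetherian (X ↘ Spec (CommRingCat.of k))
  induction m with
  | zero => intro G hG; exact CurveTens.euler_of_iso k X (rightUnit G)
  | succ m ih =>
    intro G hG
    have h1 := h (tensorMod G (tensorPow N m))
      (Snap9.isCoh_tensorMod hG (TensH8.isInvertible_tensorPow hN m))
    have h2 := ih G hG
    exact (CurveTens.euler_of_iso k X (assoc G (tensorPow N m) N).symm).trans (h1.trans h2)

theorem altSum_chiInv {N : X.Modules} (hN : PicF.IsInvertible N) (h : ChiInv k X N) :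
    ∀ (l : List X.Modules), (∀ M ∈ l, PicF.IsInvertible M) → ∀ G : X.Modules, Coh.IsCoh G →
      Snap9.altSum k X l (tensorMod G N) = Snap9.altSum k X l G := by
  haveI : IsLocallyNoetherian X :=
    LocallyOfFiniteType.isLocallyNoetherian (X ↘ Spec (CommRingCat.of k))
  intro l
  induction l with
  | nil => intro _ G hG; exact h G hG
  | cons M l ih =>
    intro hl G hG
    have hM := hl M List.mem_cons_self
    have hl' : ∀ M' ∈ l, PicF.IsInvertible M' := fun M' hM' => hl M' (List.mem_cons_of_mem _ hM')
    rw [Snap9.altSum_cons, Snap9.altSum_cons, ih hl' G hG]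
    congr 1
    rw [← ih hl' (tensorMod G M) (Snap9.isCoh_tensorMod hG hM)]
    exact Snap9.altSum_of_iso k X l (assoc G N M ≪≫ mapL G (comm N M) ≪≫ (assoc G M N).symm)

theorem altSum_cons_chiInv {M N : X.Modules} (hM : PicF.IsInvertible M)
    (hN : PicF.IsInvertible N) (h : ChiInv k X N) (l : List X.Modules)
    (hl : ∀ M ∈ l, PicF.IsInvertible M) (G : X.Modules) (hG : Coh.IsCoh G) :
    Snap9.altSum k X (tensorMod M N :: l) G = Snap9.altSum k X (M :: l) G := by
  haveI : IsLocallyNoetherian X :=
    LocallyOfFiniteType.isLocallyNoetherian (X ↘ Spec (CommRingCat.of k))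
  rw [Snap9.altSum_cons, Snap9.altSum_cons]
  congr 1
  rw [← altSum_chiInv k X hN h l hl (tensorMod G M) (Snap9.isCoh_tensorMod hG hM)]
  exact Snap9.altSum_of_iso k X l (assoc G M N).symm

theorem altSum_replicate_chiInv {M N : X.Modules} (hM : PicF.IsInvertible M)
    (hN : PicF.IsInvertible N) (h : ChiInv k X N) : ∀ (d : ℕ) (G : X.Modules), Coh.IsCoh G →
      Snap9.altSum k X (List.replicate d (tensorMod M N)) G =
        Snap9.altSum k X (List.replicate d M) G := by
  haveI : IsLocallyNoetherian X :=
    LocallyOfFiniteType.isLocallyNoetherian (X ↘ Spec (CommRingCat.of k))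
  intro d
  induction d with
  | zero => intro G _; rfl
  | succ d ih =>
    intro G hG
    have hMN : PicF.IsInvertible (tensorMod M N) := TensH8.isInvertible_tensorMod hM hN
    have hrep : ∀ M' ∈ List.replicate d M, PicF.IsInvertible M' := by
      intro M' hM'
      rw [List.eq_of_mem_replicate hM']
      exact hM
    rw [List.replicate_succ, Snap9.altSum_cons, ih G hG,
      ih _ (Snap9.isCoh_tensorMod hG hMN), ← Snap9.altSum_cons,
      altSum_cons_chiInv k X hM hN h _ hrep G hG, List.replicate_succ]

/-- twisting an ample module by an invertible module whose inverse preserves Euler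
characteristics gives an ample module -/
theorem isAmple_tensor_of_chiInv {H P P' : X.Modules} (hH : IsAmple H)
    (hP : PicF.IsInvertible P) (hP' : PicF.IsInvertible P')
    (ε : tensorMod P P' ≅ Coh.structureModule X) (h : ChiInv k X P') :
    IsAmple (tensorMod P H) := by
  obtain ⟨H', hH', ⟨εH⟩⟩ := Groth.Agent.InvTensP.exists_inverse H hH.1
  have hpos : Snap9.NMPos k X H' := Snap9.nmPos_of_isAmple k X hH εH
  have ε' : tensorMod (tensorMod P H) (tensorMod H' P') ≅ Coh.structureModule X :=
    assoc P H _ ≪≫ mapL P ((assoc H H' P').symm ≪≫ mapR εH P' ≪≫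
      Groth.Agent.CMMul.unitorL P') ≪≫ ε
  refine Snap9.isAmple_of_nmPos k X (TensH8.isInvertible_tensorMod hP hH.1) ε' ?_
  intro F hF d hd hdim
  rw [altSum_replicate_chiInv k X hH' hP' h d F hF]
  exact hpos F hF d hd hdim

/-- **S4280** -/
theorem main4280 (H : X.Modules) (hH : IsAmple H) (L L' : X.Modules)
    (hL : PicF.IsInvertible L)
    (hLL' : Nonempty (tensorMod L L' ≅ Coh.structureModule X))
    (hτ : Pic13.IsTauEquivZero k X L) (m : ℕ) :
    IsAmple (tensorMod (tensorPow L m) H) ∧ IsAmple (tensorMod (tensorPow L' m) H) := by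
  obtain ⟨ε⟩ := hLL'
  have hL' : PicF.IsInvertible L' := InvTensH8.isInvertible_of_tensor_iso (comm L' L ≪≫ ε)
  have hχ : ChiInv k X L := chiInv_of_tau k X hL hτ
  have hχ' : ChiInv k X L' := chiInv_inverse k X hL' ε hχ
  obtain ⟨εm⟩ := Groth.Agent.NegPow.tensorPow_inverse ε m
  constructor
  · exact isAmple_tensor_of_chiInv k X hH (TensH8.isInvertible_tensorPow hL m)
      (TensH8.isInvertible_tensorPow hL' m) εm (chiInv_pow k X hL' hχ' m)
  · exact isAmple_tensor_of_chiInv k X hH (TensH8.isInvertible_tensorPow hL' m)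
      (TensH8.isInvertible_tensorPow hL m) (comm _ _ ≪≫ εm) (chiInv_pow k X hL hχ m)

end Ample

end TauEq
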