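import Mathlib
import Groth.Prelude
import Groth.Agent.Lib.TauEq4_helper9

/-!
# Euler characteristics of twists by powers of a module τ-equivalent to zero (helper9)
**S4305**.
APPEND-ONLY once landed.
-/

set_option autoImplicit false
universe u
open AlgebraicGeometry CategoryTheory CategoryTheory.Limits TopologicalSpace

namespace TauEq

open Groth.Agent.Lib.GVanH2 Groth.Agent.TensInv CohB1

section Chi

variable (k : Type u) [Field k] (X : Scheme.{u}) [X.Over (Spec (CommRingCat.of k))]
  [IsProper (X ↘ Spec (CommRingCat.of k))]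

theorem eulerCharLE_tensorPow_of_chiInv (d : ℕ) (hd : topologicalKrullDim X ≤ d)
    {P : X.Modules} (hP : PicF.IsInvertible P) (h : ChiInv k X P) (m : ℕ) (G : X.Modules)
    (hG : Coh.IsCoh G) :
    FGA.eulerCharLE k X (tensorMod (tensorPow P m) G) d = FGA.eulerCharLE k X G d := by
  rw [← Snap9.euler_eq_eulerCharLE k X d hd, ← Snap9.euler_eq_eulerCharLE k X d hd]
  rw [CurveTens.euler_of_iso k X (comm (tensorPow P m) G)]
  exact chiInv_pow k X hP h m G hG

/-- **S4305** -/
theorem main4305 (d : ℕ) (hd : topologicalKrullDim X ≤ d) (H H' L L' : X.Modules)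
    (hH : IsAmple H) (hL : PicF.IsInvertible L)
    (hHH' : Nonempty (tensorMod H H' ≅ Coh.structureModule X))
    (hLL' : Nonempty (tensorMod L L' ≅ Coh.structureModule X))
    (hτ : Pic13.IsTauEquivZero k X L) :
    ∀ m n : ℕ,
      FGA.eulerCharLE k X (tensorMod (tensorPow L m) (tensorPow H n)) d =
        FGA.eulerCharLE k X (tensorPow H n) d ∧
      FGA.eulerCharLE k X (tensorMod (tensorPow L m) (tensorPow H' n)) d =
        FGA.eulerCharLE k X (tensorPow H' n) d ∧
      FGA.eulerCharLE k X (tensorMod (tensorPow L' m) (tensorPow H n)) d =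
        FGA.eulerCharLE k X (tensorPow H n) d ∧
      FGA.eulerCharLE k X (tensorMod (tensorPow L' m) (tensorPow H' n)) d =
        FGA.eulerCharLE k X (tensorPow H' n) d := by
  haveI : IsLocallyNoetherian X :=
    LocallyOfFiniteType.isLocallyNoetherian (X ↘ Spec (CommRingCat.of k))
  obtain ⟨ε⟩ := hLL'
  obtain ⟨εH⟩ := hHH'
  have hL' : PicF.IsInvertible L' := InvTensH8.isInvertible_of_tensor_iso (comm L' L ≪≫ ε)
  have hH' : PicF.IsInvertible H' := InvTensH8.isInvertible_of_tensor_iso (comm H' H ≪≫ εH)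
  have hχ : ChiInv k X L := chiInv_of_tau k X hL hτ
  have hχ' : ChiInv k X L' := chiInv_inverse k X hL' ε hχ
  intro m n
  have c1 : Coh.IsCoh (tensorPow H n) :=
    ProperFinH9.isCoh_of_isInvertible (TensH8.isInvertible_tensorPow hH.1 n)
  have c2 : Coh.IsCoh (tensorPow H' n) :=
    ProperFinH9.isCoh_of_isInvertible (TensH8.isInvertible_tensorPow hH' n)
  exact ⟨eulerCharLE_tensorPow_of_chiInv k X d hd hL hχ m _ c1,
    eulerCharLE_tensorPow_of_chiInv k X d hd hL hχ m _ c2,
    eulerCharLE_tensorPow_of_chiInv k X d hd hL' hχ' m _ c1,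
    eulerCharLE_tensorPow_of_chiInv k X d hd hL' hχ' m _ c2⟩

end Chi

end TauEq
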