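import Mathlib
import Groth.Prelude.Def_W4c3tautjacobianRel

/-!
# The sl₂-relation `[F, E] = g - (first degree)` in the formal relation ring (helper1)
-/

set_option autoImplicit false
set_option maxHeartbeats 1000000

namespace Groth.Agent.Lib.TautJacH1

open W4c3tautjacobian MvPolynomial

variable (g : ℕ)

/-- first-degree weights in `ℤ` -/
def wZ : Var g → ℤ := fun v => ((wt g v).1 : ℤ)

/-- first-degree weights in `ℕ` -/
def wN : Var g → ℕ := fun v => (wt g v).1

theorem weight_map {σ M N : Type*} [AddCommMonoid M] [AddCommMonoid N] (φ : M →+ N) (w : σ → M)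
    (f : σ →₀ ℕ) : φ (Finsupp.weight w f) = Finsupp.weight (fun i => φ (w i)) f := by
  rw [Finsupp.weight_apply, Finsupp.weight_apply, Finsupp.sum, Finsupp.sum, map_sum]
  refine Finset.sum_congr rfl fun i _ => ?_
  rw [map_nsmul]

theorem weight_wZ (m : Var g →₀ ℕ) :
    Finsupp.weight (wZ g) m = ((Finsupp.weight (wN g) m : ℕ) : ℤ) :=
  (weight_map (Nat.castAddMonoidHom ℤ) (wN g) m).symm

theorem weight_wN (m : Var g →₀ ℕ) :
    Finsupp.weight (wN g) m = (Finsupp.weight (wt g) m).1 :=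
  (weight_map (AddMonoidHom.fst ℕ ℕ) (wt g) m).symm

variable {g}

theorem isWH_wZ_of_wN {P : RelRing g} {n : ℕ} (h : IsWeightedHomogeneous (wN g) P n) :
    IsWeightedHomogeneous (wZ g) P (n : ℤ) := by
  intro d hd
  rw [weight_wZ, h hd]

theorem isWH_wN_of_wZ {P : RelRing g} {n : ℕ} (h : IsWeightedHomogeneous (wZ g) P (n : ℤ)) :
    IsWeightedHomogeneous (wN g) P n := by
  intro d hd
  have := h hd
  rw [weight_wZ] at this
  exact_mod_cast this

theorem isWH_wN_of_wt {P : RelRing g} {a b : ℕ}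
    (h : IsWeightedHomogeneous (wt g) P ((a, b) : ℕ × ℕ)) :
    IsWeightedHomogeneous (wN g) P a := by
  intro d hd
  rw [weight_wN, h hd]

theorem eq_zero_of_neg {P : RelRing g} {d : ℤ} (h : IsWeightedHomogeneous (wZ g) P d)
    (hd : d < 0) : P = 0 := by
  apply h.eq_zero_of_no_monomials
  intro m hm
  rw [weight_wZ] at hm
  have : (0 : ℤ) ≤ ((Finsupp.weight (wN g) m : ℕ) : ℤ) := Int.natCast_nonneg _
  omega

theorem isWH_cast {P : RelRing g} {a b : ℤ} (h : IsWeightedHomogeneous (wZ g) P a)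
    (hab : a = b) : IsWeightedHomogeneous (wZ g) P b := hab ▸ h

variable (g)

theorem xv_isWH (i j : ℤ) : IsWeightedHomogeneous (wZ g) (xv g i j) i := by
  unfold xv
  split_ifs with h1 h2
  · obtain ⟨rfl, rfl⟩ := h1
    rw [← map_natCast (C : ℚ →+* RelRing g)]
    exact isWeightedHomogeneous_C _ _
  · have := isWeightedHomogeneous_X ℚ (wZ g) (some ⟨(i.toNat, j.toNat), h2.2.2⟩)
    refine isWH_cast this ?_
    show ((i.toNat : ℕ) : ℤ) = i
    exact Int.toNat_of_nonneg h2.1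
  · exact isWeightedHomogeneous_zero ℚ _ _

theorem xv_nat (a b : ℕ) (h : Valid g (a, b)) :
    xv g (a : ℤ) (b : ℤ) = X (some ⟨(a, b), h⟩) := by
  unfold xv
  have h0 : ¬((a : ℤ) = 0 ∧ (b : ℤ) = 0) := by
    rintro ⟨ha, hb⟩
    apply h.2.2.2
    have ha' : a = 0 := by exact_mod_cast ha
    have hb' : b = 0 := by exact_mod_cast hb
    rw [ha', hb']
  rw [if_neg h0]
  have h1 : 0 ≤ (a : ℤ) ∧ 0 ≤ (b : ℤ) ∧ Valid g ((a : ℤ).toNat, (b : ℤ).toNat) := by
    refine ⟨Int.natCast_nonneg a, Int.natCast_nonneg b, ?_⟩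
    rw [Int.toNat_natCast, Int.toNat_natCast]; exact h
  rw [dif_pos h1]
  simp only [Int.toNat_natCast]

theorem xv_of_neg_right (i j : ℤ) (hj : j < 0) : xv g i j = 0 := by
  unfold xv
  rw [if_neg (fun h => by omega), dif_neg (fun h => absurd h.2.1 (by omega))]

theorem valid20 (hg : 1 ≤ g) : Valid g (2, 0) := by
  unfold Valid
  refine ⟨by norm_num, by simp only []; omega, by norm_num, by simp⟩

theorem mem_idx_of_valid {p : ℕ × ℕ} (h : Valid g p) : p ∈ idx g := by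
  unfold idx
  rw [Finset.mem_product, Finset.mem_range, Finset.mem_range]
  have h1 := h.1
  have h2 := h.2.1
  constructor <;> omega

/-- the variable `x 2 0` -/
def v20 (hg : 1 ≤ g) : Var g := some ⟨(2, 0), valid20 g hg⟩

theorem xv20 (hg : 1 ≤ g) : xv g 2 0 = X (v20 g hg) := by
  have := xv_nat g 2 0 (valid20 g hg)
  exact_mod_cast this

/-- `dv` as a derivation -/
noncomputable def dvD (p : ℕ × ℕ) : Derivation ℚ (RelRing g) (RelRing g) :=
  if h : Valid g p then pderiv (some ⟨p, h⟩) else 0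

theorem dv_eq (p : ℕ × ℕ) (P : RelRing g) : dv g p P = dvD g p P := by
  unfold dv dvD
  split_ifs
  · rfl
  · rfl

theorem dv_add (p : ℕ × ℕ) (P Q : RelRing g) : dv g p (P + Q) = dv g p P + dv g p Q := by
  rw [dv_eq, dv_eq, dv_eq, map_add]

theorem dv_smul (p : ℕ × ℕ) (c : ℚ) (P : RelRing g) : dv g p (c • P) = c • dv g p P := by
  rw [dv_eq, dv_eq, Derivation.map_smul]

theorem dv_zero (p : ℕ × ℕ) : dv g p 0 = 0 := by
  rw [dv_eq, map_zero]

theorem dv_mul (p : ℕ × ℕ) (P Q : RelRing g) :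
    dv g p (P * Q) = P * dv g p Q + Q * dv g p P := by
  rw [dv_eq, dv_eq, dv_eq, Derivation.leibniz, smul_eq_mul, smul_eq_mul]

/-- Kronecker delta at `(2, 0)` -/
noncomputable def delta (q : ℕ × ℕ) : RelRing g := if q = (2, 0) then 1 else 0

theorem dv_X20 (hg : 1 ≤ g) (q : ℕ × ℕ) : dv g q (X (v20 g hg)) = delta g q := by
  unfold dv delta
  by_cases hv : Valid g q
  · rw [dif_pos hv, pderiv_X]
    by_cases hq : q = (2, 0)
    · subst hq
      rw [if_pos rfl]
      exact Pi.single_eq_same _ _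
    · rw [if_neg hq]
      apply Pi.single_eq_of_ne
      intro h
      apply hq
      have := Option.some.inj h
      exact (congrArg Subtype.val this).symm
  · rw [dif_neg hv, if_neg]
    rintro rfl
    exact hv (valid20 g hg)

theorem dv_delta_mul (p q : ℕ × ℕ) (P : RelRing g) :
    dv g p (delta g q * P) = delta g q * dv g p P := by
  unfold delta
  split_ifs
  · rw [one_mul, one_mul]
  · rw [zero_mul, zero_mul, dv_zero]

theorem dv_x20_mul (hg : 1 ≤ g) (q : ℕ × ℕ) (P : RelRing g) :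
    dv g q (X (v20 g hg) * P) = delta g q * P + X (v20 g hg) * dv g q P := by
  rw [dv_mul, dv_X20]
  ring

theorem dv_dv_x20_mul (hg : 1 ≤ g) (p q : ℕ × ℕ) (P : RelRing g) :
    dv g p (dv g q (X (v20 g hg) * P)) =
      delta g q * dv g p P + (delta g p * dv g q P + X (v20 g hg) * dv g p (dv g q P)) := by
  rw [dv_x20_mul, dv_add, dv_delta_mul, dv_x20_mul]

/-- the second-order coefficient of `F` -/
noncomputable def A (p q : ℕ × ℕ) : RelRing g :=
  X none * xv g ((p.1 : ℤ) - 1) ((p.2 : ℤ) - 1) * xv g ((q.1 : ℤ) - 1) ((q.2 : ℤ) - 1)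
    - (mergeCoeff p.1 q.1 : RelRing g) * xv g ((p.1 : ℤ) + q.1 - 2) ((p.2 : ℤ) + q.2)

/-- the first-order coefficient of `F` -/
noncomputable def B (p : ℕ × ℕ) : RelRing g := xv g ((p.1 : ℤ) - 2) (p.2 : ℤ)

theorem F_eq (P : RelRing g) :
    F g P = (1 / 2 : ℚ) • (∑ p ∈ idx g, ∑ q ∈ idx g, A g p q * dv g p (dv g q P))
      + ∑ p ∈ idx g, B g p * dv g p P := rfl

theorem mergeCoeff_two_right (i : ℕ) : mergeCoeff i 2 = i := by
  unfold mergeCoeff
  rcases i with _ | i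
  · simp
  · rw [if_neg (by omega)]
    have : i + 1 + 2 - 2 = i + 1 := by omega
    rw [this, Nat.add_sub_cancel, Nat.choose_succ_self_right]

theorem mergeCoeff_two_left (k : ℕ) : mergeCoeff 2 k = k := by
  unfold mergeCoeff
  rcases k with _ | k
  · simp
  · rw [if_neg (by omega)]
    have : 2 + (k + 1) - 2 = k + 1 := by omega
    rw [this]
    simp

theorem A_right (p : ℕ × ℕ) : A g p (2, 0) = -((p.1 : RelRing g) * xv g p.1 p.2) := by
  unfold A
  show X none * xv g ((p.1 : ℤ) - 1) ((p.2 : ℤ) - 1) * xv g (((2 : ℕ) : ℤ) - 1) (((0 : ℕ) : ℤ) - 1)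
    - (mergeCoeff p.1 2 : RelRing g) * xv g ((p.1 : ℤ) + ((2 : ℕ) : ℤ) - 2) ((p.2 : ℤ) + ((0 : ℕ) : ℤ))
    = _
  rw [xv_of_neg_right g (((2 : ℕ) : ℤ) - 1) (((0 : ℕ) : ℤ) - 1) (by norm_num), mergeCoeff_two_right]
  have e1 : (p.1 : ℤ) + ((2 : ℕ) : ℤ) - 2 = p.1 := by push_cast; ring
  have e2 : (p.2 : ℤ) + ((0 : ℕ) : ℤ) = p.2 := by simp
  rw [e1, e2]
  ring

theorem A_left (q : ℕ × ℕ) : A g (2, 0) q = -((q.1 : RelRing g) * xv g q.1 q.2) := by
  unfold A
  show X none * xv g (((2 : ℕ) : ℤ) - 1) (((0 : ℕ) : ℤ) - 1) * xv g ((q.1 : ℤ) - 1) ((q.2 : ℤ) - 1)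
    - (mergeCoeff 2 q.1 : RelRing g) * xv g (((2 : ℕ) : ℤ) + (q.1 : ℤ) - 2) (((0 : ℕ) : ℤ) + (q.2 : ℤ))
    = _
  rw [xv_of_neg_right g (((2 : ℕ) : ℤ) - 1) (((0 : ℕ) : ℤ) - 1) (by norm_num), mergeCoeff_two_left]
  have e1 : ((2 : ℕ) : ℤ) + (q.1 : ℤ) - 2 = q.1 := by push_cast; ring
  have e2 : ((0 : ℕ) : ℤ) + (q.2 : ℤ) = q.2 := by simp
  rw [e1, e2]
  ring

theorem B_20 : B g (2, 0) = (g : RelRing g) := by
  unfold B
  show xv g (((2 : ℕ) : ℤ) - 2) (((0 : ℕ) : ℤ)) = _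
  have e1 : ((2 : ℕ) : ℤ) - 2 = 0 := by norm_num
  have e2 : ((0 : ℕ) : ℤ) = 0 := by simp
  rw [e1, e2]
  unfold xv
  rw [if_pos ⟨rfl, rfl⟩]

/-- the first-degree Euler operator -/
noncomputable def D1 (P : RelRing g) : RelRing g :=
  ∑ p ∈ idx g, (p.1 : RelRing g) * (xv g p.1 p.2 * dv g p P)

theorem mem_idx20 (hg : 1 ≤ g) : ((2, 0) : ℕ × ℕ) ∈ idx g := mem_idx_of_valid g (valid20 g hg)

theorem F_x20_mul (hg : 1 ≤ g) (P : RelRing g) :
    F g (X (v20 g hg) * P) = X (v20 g hg) * F g P + (g : RelRing g) * P - D1 g P := by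
  rw [F_eq, F_eq]
  have hm := mem_idx20 g hg
  have ha : ∑ p ∈ idx g, ∑ q ∈ idx g, A g p q * (delta g q * dv g p P) = -(D1 g P) := by
    unfold D1
    rw [← Finset.sum_neg_distrib]
    refine Finset.sum_congr rfl fun p _ => ?_
    rw [Finset.sum_eq_single (2, 0)]
    · rw [A_right]
      unfold delta
      rw [if_pos rfl]
      ring
    · intro q _ hq
      unfold delta
      rw [if_neg hq]
      ring
    · intro h; exact absurd hm h
  have hb : ∑ p ∈ idx g, ∑ q ∈ idx g, A g p q * (delta g p * dv g q P) = -(D1 g P) := by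
    rw [Finset.sum_eq_single (2, 0)]
    · unfold D1
      rw [← Finset.sum_neg_distrib]
      refine Finset.sum_congr rfl fun q _ => ?_
      rw [A_left]
      unfold delta
      rw [if_pos rfl]
      ring
    · intro p _ hp
      refine Finset.sum_eq_zero fun q _ => ?_
      unfold delta
      rw [if_neg hp]
      ring
    · intro h; exact absurd hm h
  have hc : ∑ p ∈ idx g, ∑ q ∈ idx g, A g p q * (X (v20 g hg) * dv g p (dv g q P)) =
      X (v20 g hg) * ∑ p ∈ idx g, ∑ q ∈ idx g, A g p q * dv g p (dv g q P) := by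
    rw [Finset.mul_sum]
    refine Finset.sum_congr rfl fun p _ => ?_
    rw [Finset.mul_sum]
    refine Finset.sum_congr rfl fun q _ => ?_
    ring
  have hS1 : ∑ p ∈ idx g, ∑ q ∈ idx g, A g p q * dv g p (dv g q (X (v20 g hg) * P)) =
      -(D1 g P) + -(D1 g P) +
        X (v20 g hg) * ∑ p ∈ idx g, ∑ q ∈ idx g, A g p q * dv g p (dv g q P) := by
    have hexp : ∑ p ∈ idx g, ∑ q ∈ idx g, A g p q * dv g p (dv g q (X (v20 g hg) * P)) =
        ∑ p ∈ idx g, ∑ q ∈ idx g, A g p q * (delta g q * dv g p P) +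
        ∑ p ∈ idx g, ∑ q ∈ idx g, A g p q * (delta g p * dv g q P) +
        ∑ p ∈ idx g, ∑ q ∈ idx g, A g p q * (X (v20 g hg) * dv g p (dv g q P)) := by
      rw [← Finset.sum_add_distrib, ← Finset.sum_add_distrib]
      refine Finset.sum_congr rfl fun p _ => ?_
      rw [← Finset.sum_add_distrib, ← Finset.sum_add_distrib]
      refine Finset.sum_congr rfl fun q _ => ?_
      rw [dv_dv_x20_mul]
      ring
    rw [hexp, ha, hb, hc]
  have hS2 : ∑ p ∈ idx g, B g p * dv g p (X (v20 g hg) * P) =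
      (g : RelRing g) * P + X (v20 g hg) * ∑ p ∈ idx g, B g p * dv g p P := by
    have h1 : ∑ p ∈ idx g, B g p * (delta g p * P) = (g : RelRing g) * P := by
      rw [Finset.sum_eq_single (2, 0)]
      · rw [B_20]
        unfold delta
        rw [if_pos rfl, one_mul]
      · intro p _ hp
        unfold delta
        rw [if_neg hp]
        ring
      · intro h; exact absurd hm h
    rw [← h1, Finset.mul_sum, ← Finset.sum_add_distrib]
    refine Finset.sum_congr rfl fun p _ => ?_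
    rw [dv_x20_mul]
    ring
  have hC : (C (1 / 2 : ℚ) : RelRing g) * 2 = 1 := by
    rw [← map_ofNat (C : ℚ →+* RelRing g) 2, ← map_mul]
    norm_num
  rw [hS1, hS2, smul_eq_C_mul, smul_eq_C_mul]
  linear_combination (-(D1 g P)) * hC

theorem D1_eq (P : RelRing g) (n : ℕ) (h : IsWeightedHomogeneous (wN g) P n) :
    D1 g P = (n : ℚ) • P := by
  haveI : Finite {p : ℕ × ℕ // Valid g p} :=
    (Set.Finite.subset (idx g).finite_toSet (t := {p | Valid g p})
      (fun p hp => mem_idx_of_valid g hp)).to_subtype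
  letI : Fintype {p : ℕ × ℕ // Valid g p} := Fintype.ofFinite _
  have hE := h.sum_weight_X_mul_pderiv
  rw [Fintype.sum_option] at hE
  have h0 : wN g none = 0 := rfl
  rw [h0, zero_smul, zero_add, ← Nat.cast_smul_eq_nsmul ℚ n P] at hE
  rw [← hE]
  unfold D1
  have hf : ∀ p ∈ idx g, (p.1 : RelRing g) * (xv g p.1 p.2 * dv g p P) ≠ 0 → Valid g p := by
    intro p _ hne
    by_contra hv
    apply hne
    unfold dv
    rw [dif_neg hv, mul_zero, mul_zero]
  rw [← Finset.sum_filter_of_ne hf]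
  rw [Finset.sum_subtype ((idx g).filter (fun p => Valid g p)) (p := fun p => Valid g p)
    (fun x => by
      rw [Finset.mem_filter]
      exact ⟨fun h => h.2, fun h => ⟨mem_idx_of_valid g h, h⟩⟩)]
  refine Finset.sum_congr rfl fun a _ => ?_
  obtain ⟨⟨a1, a2⟩, ha⟩ := a
  show (a1 : RelRing g) * (xv g (a1 : ℤ) (a2 : ℤ) * dv g (a1, a2) P) =
    a1 • (X (some ⟨(a1, a2), ha⟩) * pderiv (some ⟨(a1, a2), ha⟩) P)
  rw [xv_nat g a1 a2 ha, nsmul_eq_mul]
  unfold dv
  rw [dif_pos ha]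

theorem F_add (P Q : RelRing g) : F g (P + Q) = F g P + F g Q := by
  simp only [F_eq, dv_add, mul_add, Finset.sum_add_distrib, smul_add]
  abel

theorem F_smul (c : ℚ) (P : RelRing g) : F g (c • P) = c • F g P := by
  simp only [F_eq, dv_smul, mul_smul_comm, ← Finset.smul_sum, smul_add]
  rw [smul_comm]

theorem F_zero : F g 0 = 0 := by
  have := F_smul g 0 0
  rwa [zero_smul, zero_smul] at this

theorem natCast_smul' (P : RelRing g) (n : ℕ) : (n : ℚ) • P = (n : RelRing g) * P := by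
  rw [smul_eq_C_mul, map_natCast]

theorem FE_comm (hg : 1 ≤ g) (P : RelRing g) (d : ℤ)
    (hP : IsWeightedHomogeneous (wZ g) P d) :
    F g (E g P) = E g (F g P) + ((g : ℚ) - (d : ℚ)) • P := by
  by_cases hd : d < 0
  · have := eq_zero_of_neg hP hd
    subst this
    unfold E
    rw [mul_zero, F_zero, mul_zero, smul_zero, add_zero]
  · push_neg at hd
    obtain ⟨n, rfl⟩ := Int.eq_ofNat_of_zero_le hd
    have hN := isWH_wN_of_wZ hP
    unfold E
    rw [xv20 g hg, F_x20_mul g hg P, D1_eq g P n hN, Int.cast_natCast, sub_smul,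
      natCast_smul' g P g]
    abel

theorem dv_isWH (p : ℕ × ℕ) {P : RelRing g} {d : ℤ} (h : IsWeightedHomogeneous (wZ g) P d) :
    IsWeightedHomogeneous (wZ g) (dv g p P) (d - p.1) := by
  unfold dv
  split_ifs with hv
  · refine h.pderiv ?_
    show d - (p.1 : ℤ) + ((p.1 : ℕ) : ℤ) = d
    ring
  · exact isWeightedHomogeneous_zero ℚ _ _

theorem A_isWH (p q : ℕ × ℕ) :
    IsWeightedHomogeneous (wZ g) (A g p q) ((p.1 : ℤ) + q.1 - 2) := by
  unfold A
  have hw : wZ g none = 0 := by simp [wZ, wt]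
  refine IsWeightedHomogeneous.sub ?_ ?_
  · have h1 := ((isWeightedHomogeneous_X ℚ (wZ g) none).mul
      (xv_isWH g ((p.1 : ℤ) - 1) ((p.2 : ℤ) - 1))).mul (xv_isWH g ((q.1 : ℤ) - 1) ((q.2 : ℤ) - 1))
    refine isWH_cast h1 ?_
    rw [hw]; ring
  · have : (mergeCoeff p.1 q.1 : RelRing g) = C (mergeCoeff p.1 q.1 : ℚ) := (map_natCast C _).symm
    rw [this]
    exact (xv_isWH g _ _).C_mul _

theorem F_isWH {P : RelRing g} {d : ℤ} (h : IsWeightedHomogeneous (wZ g) P d) :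
    IsWeightedHomogeneous (wZ g) (F g P) (d - 2) := by
  rw [F_eq]
  refine IsWeightedHomogeneous.add ?_ ?_
  · rw [smul_eq_C_mul]
    refine IsWeightedHomogeneous.C_mul ?_ _
    refine IsWeightedHomogeneous.sum _ _ _ fun p _ =>
      IsWeightedHomogeneous.sum _ _ _ fun q _ => ?_
    refine isWH_cast ((A_isWH g p q).mul (dv_isWH g p (dv_isWH g q h))) ?_
    ring
  · refine IsWeightedHomogeneous.sum _ _ _ fun p _ => ?_
    unfold B
    refine isWH_cast ((xv_isWH g _ _).mul (dv_isWH g p h)) ?_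
    ring

theorem iter_isWH {P : RelRing g} {d : ℤ} (h : IsWeightedHomogeneous (wZ g) P d) (k : ℕ) :
    IsWeightedHomogeneous (wZ g) ((F g)^[k] P) (d - 2 * k) := by
  induction k with
  | zero => simpa using h
  | succ k ih =>
    rw [Function.iterate_succ_apply']
    refine isWH_cast (F_isWH g ih) ?_
    push_cast; ring

theorem main (hg : 1 ≤ g) (n : ℕ) (β : RelRing g)
    (hβ : IsWeightedHomogeneous (wt g) β ((2 * g, n) : ℕ × ℕ)) :
    (F g)^[g + 1] (E g β) = 0 := by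
  have hZ : IsWeightedHomogeneous (wZ g) β ((2 * g : ℕ) : ℤ) := isWH_wZ_of_wN (isWH_wN_of_wt hβ)
  obtain ⟨b, hbdef⟩ : ∃ b : ℕ → RelRing g, ∀ k, b k = (F g)^[k] β := ⟨_, fun _ => rfl⟩
  obtain ⟨e, hedef⟩ : ∃ e : ℕ → RelRing g, ∀ k, e k = (F g)^[k] (E g β) := ⟨_, fun _ => rfl⟩
  have hb : ∀ k, b (k + 1) = F g (b k) := fun k => by
    rw [hbdef, hbdef, Function.iterate_succ_apply']
  have he : ∀ k, e (k + 1) = F g (e k) := fun k => by
    rw [hedef, hedef, Function.iterate_succ_apply']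
  have hbW : ∀ k : ℕ, IsWeightedHomogeneous (wZ g) (b k) (((2 * g : ℕ) : ℤ) - 2 * k) := fun k => by
    rw [hbdef]; exact iter_isWH g hZ k
  have hb0 : b 0 = β := by rw [hbdef]; rfl
  have he0 : e 0 = E g β := by rw [hedef]; rfl
  have key : ∀ k : ℕ, e (k + 1) = E g (b (k + 1)) + (((k : ℚ) + 1) * ((k : ℚ) - g)) • b k := by
    intro k
    induction k with
    | zero =>
      rw [he, he0, hb, hb0, FE_comm g hg β _ hZ]
      have hc : ((g : ℚ) - (((2 * g : ℕ) : ℤ) : ℚ)) = (((0 : ℕ) : ℚ) + 1) * (((0 : ℕ) : ℚ) - g) := by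
        push_cast; ring
      rw [hc]
    | succ k ih =>
      rw [he (k + 1), ih, F_add, F_smul, FE_comm g hg (b (k + 1)) _ (hbW (k + 1)), ← hb (k + 1),
        ← hb k, add_assoc, ← add_smul]
      have hc : ((g : ℚ) - ((((2 * g : ℕ) : ℤ) - 2 * ((k + 1 : ℕ) : ℤ) : ℤ) : ℚ)) +
          ((k : ℚ) + 1) * ((k : ℚ) - g) = (((k + 1 : ℕ) : ℚ) + 1) * (((k + 1 : ℕ) : ℚ) - g) := by
        push_cast; ring
      rw [hc]
  rw [← hedef, key g]
  have hz : b (g + 1) = 0 := by
    apply eq_zero_of_neg (hbW (g + 1))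
    push_cast; omega
  rw [hz]
  unfold E
  rw [mul_zero, sub_self, mul_zero, zero_smul, add_zero]

end Groth.Agent.Lib.TautJacH1
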