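import Mathlib

/-!
# Divisibility of Witt components versus ghost components (S14856)
-/

universe u

namespace Groth.Agent.Lib.WittGhostDvd

open MvPolynomial

lemma ghost_eq_sum (p : ℕ) [Fact p.Prime] (S : Type u) [CommRing S] (x : WittVector p S) (n : ℕ) :
    WittVector.ghostComponent n x
      = ∑ i ∈ Finset.range (n + 1), (p : S) ^ i * x.coeff i ^ p ^ (n - i) := by
  rw [WittVector.ghostComponent_apply, wittPolynomial_eq_sum_C_mul_X_pow, map_sum]
  apply Finset.sum_congr rfl
  intro i _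
  simp [map_mul, map_pow, aeval_X]

lemma key_ineq (p : ℕ) (hp : 2 ≤ p) (s : ℕ) (hs : 1 ≤ s) (n i : ℕ) (hi : i ≤ n) :
    n + s ≤ i + s * p ^ (n - i) := by
  have h1 : (n - i) + 1 ≤ p ^ (n - i) := Nat.lt_pow_self (by omega)
  have h2 : s * ((n - i) + 1) ≤ s * p ^ (n - i) := Nat.mul_le_mul_left s h1
  have h3 : (n - i) + s ≤ s * ((n - i) + 1) := by
    have : (n - i) ≤ s * (n - i) := Nat.le_mul_of_pos_left _ (by omega)
    calc (n - i) + s ≤ s * (n - i) + s := by omega
      _ = s * ((n - i) + 1) := by ring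
  omega

lemma term_dvd (p : ℕ) [Fact p.Prime] (S : Type u) [CommRing S] (s : ℕ) (hs : 1 ≤ s)
    (n i : ℕ) (hi : i ≤ n) (a : S) (ha : (p : S) ^ s ∣ a) :
    (p : S) ^ (n + s) ∣ (p : S) ^ i * a ^ p ^ (n - i) := by
  obtain ⟨c, rfl⟩ := ha
  have h1 : (p : S) ^ i * ((p : S) ^ s * c) ^ p ^ (n - i)
      = (p : S) ^ (i + s * p ^ (n - i)) * c ^ p ^ (n - i) := by
    rw [mul_pow, ← pow_mul, pow_add]; ring
  rw [h1]
  exact Dvd.dvd.mul_right
    (pow_dvd_pow _ (key_ineq p (Fact.out : p.Prime).two_le s hs n i hi)) _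

lemma pow_cancel (p : ℕ) (S : Type u) [CommRing S]
    (hS : ∀ y : S, (p : S) * y = 0 → y = 0) (i : ℕ) : ∀ y : S, (p : S) ^ i * y = 0 → y = 0 := by
  induction i with
  | zero => intro y hy; simpa using hy
  | succ i ih =>
    intro y hy
    apply hS
    apply ih
    rw [← mul_assoc, ← pow_succ]; exact hy

theorem main (p : ℕ) [Fact p.Prime] (S : Type u) [CommRing S]
    (hS : ∀ y : S, (p : S) * y = 0 → y = 0) (x : WittVector p S) (m s : ℕ) (hs : 1 ≤ s) :
    (∀ i ≤ m, (p : S) ^ s ∣ x.coeff i) ↔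
      (∀ n ≤ m, (p : S) ^ (n + s) ∣ WittVector.ghostComponent n x) := by
  constructor
  · intro h n hn
    rw [ghost_eq_sum]
    apply Finset.dvd_sum
    intro i hi
    have hi' : i ≤ n := Nat.lt_succ_iff.mp (Finset.mem_range.mp hi)
    exact term_dvd p S s hs n i hi' _ (h i (hi'.trans hn))
  · intro h
    intro i
    induction i using Nat.strong_induction_on with
    | _ i ih =>
      intro him
      have h1 := h i him
      rw [ghost_eq_sum, Finset.sum_range_succ] at h1
      have h2 : (p : S) ^ (i + s) ∣ ∑ j ∈ Finset.range i, (p : S) ^ j * x.coeff j ^ p ^ (i - j) := by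
        apply Finset.dvd_sum
        intro j hj
        have hj' : j < i := Finset.mem_range.mp hj
        exact term_dvd p S s hs i j hj'.le _ (ih j hj' (hj'.le.trans him))
      have h3 : (p : S) ^ (i + s) ∣ (p : S) ^ i * x.coeff i ^ p ^ (i - i) :=
        (dvd_add_right h2).mp h1
      rw [Nat.sub_self, pow_zero, pow_one] at h3
      obtain ⟨c, hc⟩ := h3
      refine ⟨c, ?_⟩
      have h4 : (p : S) ^ i * (x.coeff i - (p : S) ^ s * c) = 0 := by
        rw [mul_sub, hc, pow_add]; ring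
      exact sub_eq_zero.mp (pow_cancel p S hS i _ h4)

end Groth.Agent.Lib.WittGhostDvd
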