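import Mathlib
import Groth.Agent.Lib.WittGhostDvd_helper1

/-!
# `[p^p]` is divisible by `p` in `W(ℤ_p)` (S14857)
-/

namespace Groth.Agent.Lib.TeichPP

open WittVector

lemma E1 (p : ℕ) (hp2 : 2 ≤ p) (n : ℕ) : n + 1 ≤ p ^ (n + 1) - 1 := by
  have := Nat.lt_pow_self (show 1 < p by omega) (n := n + 1)
  omega

lemma E2 (p : ℕ) (hp2 : 2 ≤ p) (n i : ℕ) (hi : i ≤ n) : n + 1 ≤ i + p ^ (n - i) := by
  have := Nat.lt_pow_self (show 1 < p by omega) (n := n - i)
  omega

theorem main (p : ℕ) [hp : Fact p.Prime] :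
    (p : WittVector p ℤ_[p]) ∣ WittVector.teichmuller p ((p : ℤ_[p]) ^ p) := by
  have hp2 : 2 ≤ p := hp.out.two_le
  have hpQ : (p : ℚ_[p]) ≠ 0 := by exact_mod_cast hp.out.ne_zero
  letI : Invertible (p : ℚ_[p]) := invertibleOfNonzero hpQ
  obtain ⟨Y, hY⟩ : ∃ Y : WittVector p ℚ_[p], Y = (WittVector.ghostEquiv p ℚ_[p]).symm
      (fun n => (p : ℚ_[p]) ^ (p ^ (n + 1) - 1)) := ⟨_, rfl⟩
  have hghost : ∀ n, WittVector.ghostComponent n Y = (p : ℚ_[p]) ^ (p ^ (n + 1) - 1) := by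
    intro n
    have h1 : WittVector.ghostEquiv p ℚ_[p] Y = fun n => (p : ℚ_[p]) ^ (p ^ (n + 1) - 1) := by
      rw [hY]; exact RingEquiv.apply_symm_apply _ _
    have h2 := congrFun h1 n
    rw [← h2]
    rfl
  have hsum : ∀ n, ∑ i ∈ Finset.range (n + 1), (p : ℚ_[p]) ^ i * Y.coeff i ^ p ^ (n - i)
      = (p : ℚ_[p]) ^ (p ^ (n + 1) - 1) := fun n => by
    rw [← Groth.Agent.Lib.WittGhostDvd.ghost_eq_sum, hghost]
  have H : ∀ n, ∃ d : ℤ_[p], Y.coeff n = (p : ℚ_[p]) * (d : ℚ_[p]) := by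
    intro n
    induction n using Nat.strong_induction_on with
    | _ n ih =>
      choose! d hd using ih
      refine ⟨(p : ℤ_[p]) ^ ((p ^ (n + 1) - 1) - (n + 1))
        - ∑ i ∈ Finset.range n, (p : ℤ_[p]) ^ ((i + p ^ (n - i)) - (n + 1)) * d i ^ p ^ (n - i), ?_⟩
      have hpn : (p : ℚ_[p]) ^ n ≠ 0 := pow_ne_zero _ hpQ
      apply mul_left_cancel₀ hpn
      have h1 := hsum n
      rw [Finset.sum_range_succ, Nat.sub_self, pow_zero, pow_one] at h1
      have h2 : (p : ℚ_[p]) ^ n * Y.coeff n = (p : ℚ_[p]) ^ (p ^ (n + 1) - 1)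
          - ∑ i ∈ Finset.range n, (p : ℚ_[p]) ^ i * Y.coeff i ^ p ^ (n - i) := by
        rw [← h1]; ring
      rw [h2]
      push_cast [PadicInt.coe_sum]
      have hterm : ∀ i ∈ Finset.range n, (p : ℚ_[p]) ^ i * Y.coeff i ^ p ^ (n - i)
          = (p : ℚ_[p]) ^ (n + 1)
            * ((p : ℚ_[p]) ^ ((i + p ^ (n - i)) - (n + 1)) * (d i : ℚ_[p]) ^ p ^ (n - i)) := by
        intro i hi
        have hi' : i < n := Finset.mem_range.mp hi
        rw [hd i hi', mul_pow, ← mul_assoc, ← pow_add, ← mul_assoc, ← pow_add]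
        congr 2
        have := E2 p hp2 n i hi'.le
        omega
      have hlead : (p : ℚ_[p]) ^ (p ^ (n + 1) - 1)
          = (p : ℚ_[p]) ^ (n + 1) * (p : ℚ_[p]) ^ ((p ^ (n + 1) - 1) - (n + 1)) := by
        rw [← pow_add]
        congr 1
        have := E1 p hp2 n
        omega
      rw [Finset.sum_congr rfl hterm, ← Finset.mul_sum, hlead]
      ring
  choose d hd using H
  let y : WittVector p ℤ_[p] := WittVector.mk p (fun n => (p : ℤ_[p]) * d n)
  have hmap : WittVector.map (PadicInt.Coe.ringHom) y = Y := by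
    ext n
    rw [WittVector.map_coeff, WittVector.coeff_mk, hd n, map_mul, map_natCast]
    rfl
  have hinj : Function.Injective (PadicInt.Coe.ringHom : ℤ_[p] →+* ℚ_[p]) :=
    Subtype.coe_injective
  have hkey : (p : WittVector p ℤ_[p]) * y = WittVector.teichmuller p ((p : ℤ_[p]) ^ p) := by
    apply WittVector.map_injective _ hinj
    rw [map_mul, map_natCast, hmap, WittVector.map_teichmuller]
    apply (WittVector.ghostMap.bijective_of_invertible p ℚ_[p]).1
    funext n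
    rw [WittVector.ghostMap_apply, WittVector.ghostMap_apply, map_mul, map_natCast, hghost,
      WittVector.ghostComponent_teichmuller]
    have h3 : (PadicInt.Coe.ringHom : ℤ_[p] →+* ℚ_[p]) ((p : ℤ_[p]) ^ p) = (p : ℚ_[p]) ^ p := by
      simp
    rw [h3, ← pow_succ', ← pow_mul]
    congr 1
    have : 1 ≤ p ^ (n + 1) := Nat.one_le_pow _ _ hp.out.pos
    rw [Nat.sub_add_cancel this, pow_succ, mul_comm]
  exact Dvd.intro y hkey

end Groth.Agent.Lib.TeichPP
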