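import Mathlib
import Groth.Prelude
import Groth.Agent.Lib.Tens24_helper8
import Groth.Agent.Lib.Tens19_helper8
import Groth.Agent.Lib.GenLoc2_helper8
import Groth.Agent.Lib.PB9_helper8

/-!
# External tensor products of relatively ample modules (helper8)
APPEND-ONLY once landed.
-/

set_option autoImplicit false

namespace TensH8

open AlgebraicGeometry CategoryTheory CategoryTheory.Limits TopologicalSpace Opposite TensorProduct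
open QcqsLoc MonoidalCategory GenLocH8 FLFH8 QCohExtn

universe u

/-- A module bi-framed with weights `(1, 1)` by two invertible modules is ample as soon as the
affine opens `X_s ∩ X_{s'}` cover. -/
theorem isAmple_of_frame₂_inf {Z : Scheme.{u}} [CompactSpace Z] {L L' M : Z.Modules}
    (hL : PicF.IsInvertible L) (hL' : PicF.IsInvertible L') (Ψ : Frame₂ L L' M 1 1)
    (h : ∀ x : Z, ∃ (k n : ℕ) (M₁ M₂ : Z.Modules) (_ : Frame L M₁ (k + 1))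
      (_ : Frame L' M₂ (n + 1)) (s : Coh.structureModule Z ⟶ M₁) (s' : Coh.structureModule Z ⟶ M₂),
      x ∈ CohB1.genLocus M₁ s ⊓ CohB1.genLocus M₂ s' ∧
        IsAffineOpen (CohB1.genLocus M₁ s ⊓ CohB1.genLocus M₂ s')) :
    CohB1.IsAmple M := by
  refine ⟨Ψ.isInvertible hL hL', inferInstance, fun x => ?_⟩
  obtain ⟨k, n, M₁, M₂, Φ, Φ', s, s', hx, haff⟩ := h x
  obtain ⟨t, ht⟩ := Frame₂.exists_hom_genLocus_inf hL hL' Φ s Φ' s' (Nat.succ_pos n)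
    (Nat.succ_pos k) (Ψ.powOf (k * n + k + n + 1))
    (show 1 * (k * n + k + n + 1) = (k + 1) * (n + 1) by ring)
    (show 1 * (k * n + k + n + 1) = (n + 1) * (k + 1) by ring)
  exact ⟨k * n + k + n, t, ht ▸ hx, ht ▸ haff⟩

/-- Restriction of a pullback along a commutative square of open immersions. -/
noncomputable def restrictPullbackIsoSq {X X₁ Z' X' : Scheme.{u}} (p : X ⟶ X₁) (j : Z' ⟶ X)
    [IsOpenImmersion j] (ι' : X' ⟶ X₁) [IsOpenImmersion ι'] (v : Z' ⟶ X')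
    (h : j ≫ p = v ≫ ι') (K : X₁.Modules) :
    ((Scheme.Modules.pullback p).obj K).restrict j ≅
      (Scheme.Modules.pullback v).obj (K.restrict ι') :=
  (Scheme.Modules.restrictFunctorIsoPullback j).app _ ≪≫
  (Scheme.Modules.pullbackComp j p).app K ≪≫
  (Scheme.Modules.pullbackCongr h).app K ≪≫
  ((Scheme.Modules.pullbackComp v ι').app K).symm ≪≫
  (Scheme.Modules.pullback v).mapIso
    ((Scheme.Modules.restrictFunctorIsoPullback ι').app K).symm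


/-- External tensor products of relatively ample modules, abstract form. -/
theorem isRelAmple_externalTensor_aux {X X₁ X₂ Y Y₁ Y₂ S : Scheme.{u}}
    (p₁ : X ⟶ X₁) (p₂ : X ⟶ X₂) (q₁ : Y ⟶ Y₁) (q₂ : Y ⟶ Y₂) (h : X ⟶ Y) [QuasiCompact h]
    (f₁ : X₁ ⟶ Y₁) (f₂ : X₂ ⟶ Y₂) (a₁ : Y₁ ⟶ S) (a₂ : Y₂ ⟶ S)
    (h₁ : h ≫ q₁ = p₁ ≫ f₁) (h₂ : h ≫ q₂ = p₂ ≫ f₂) (hq : q₁ ≫ a₁ = q₂ ≫ a₂)
    (haffX : ∀ (U₁ : X₁.Opens) (U₂ : X₂.Opens) (W : S.Opens), IsAffineOpen U₁ → IsAffineOpen U₂ →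
      IsAffineOpen W → U₁ ≤ (f₁ ≫ a₁) ⁻¹ᵁ W → U₂ ≤ (f₂ ≫ a₂) ⁻¹ᵁ W →
      IsAffineOpen (p₁ ⁻¹ᵁ U₁ ⊓ p₂ ⁻¹ᵁ U₂))
    (haffY : ∀ (V₁ : Y₁.Opens) (V₂ : Y₂.Opens) (W : S.Opens), IsAffineOpen V₁ → IsAffineOpen V₂ →
      IsAffineOpen W → V₁ ≤ a₁ ⁻¹ᵁ W → V₂ ≤ a₂ ⁻¹ᵁ W →
      IsAffineOpen (q₁ ⁻¹ᵁ V₁ ⊓ q₂ ⁻¹ᵁ V₂))
    {L₁ : X₁.Modules} {L₂ : X₂.Modules}
    (hL₁ : RelAmple.IsRelAmple f₁ L₁) (hL₂ : RelAmple.IsRelAmple f₂ L₂) :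
    RelAmple.IsRelAmple h
      (CohB1.tensorMod ((Scheme.Modules.pullback p₁).obj L₁)
        ((Scheme.Modules.pullback p₂).obj L₂)) := by
  have hi₁ := isInvertible_of_isRelAmple f₁ hL₁
  have hi₂ := isInvertible_of_isRelAmple f₂ hL₂
  have hi₁' := isInvertible_pullback p₁ hi₁
  have hi₂' := isInvertible_pullback p₂ hi₂
  have hMi := isInvertible_tensorMod hi₁' hi₂'
  apply isRelAmple_of_local h hMi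
  intro y
  obtain ⟨_, ⟨W, hW : IsAffineOpen W, rfl⟩, hyW, -⟩ :=
    (S.isBasis_affineOpens).exists_subset_of_mem_open (Set.mem_univ ((q₁ ≫ a₁) y)) isOpen_univ
  have hy1 : q₁ y ∈ (a₁ ⁻¹ᵁ W : Y₁.Opens) := by
    show a₁ (q₁ y) ∈ W
    rw [← Scheme.Hom.comp_apply]
    exact hyW
  have hy2 : q₂ y ∈ (a₂ ⁻¹ᵁ W : Y₂.Opens) := by
    show a₂ (q₂ y) ∈ W
    rw [← Scheme.Hom.comp_apply, ← hq]
    exact hyW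
  obtain ⟨_, ⟨V₁, hV₁ : IsAffineOpen V₁, rfl⟩, hyV₁, hV₁W⟩ :=
    (Y₁.isBasis_affineOpens).exists_subset_of_mem_open hy1 (a₁ ⁻¹ᵁ W).isOpen
  obtain ⟨_, ⟨V₂, hV₂ : IsAffineOpen V₂, rfl⟩, hyV₂, hV₂W⟩ :=
    (Y₂.isBasis_affineOpens).exists_subset_of_mem_open hy2 (a₂ ⁻¹ᵁ W).isOpen
  have hV₁W' : V₁ ≤ a₁ ⁻¹ᵁ W := hV₁W
  have hV₂W' : V₂ ≤ a₂ ⁻¹ᵁ W := hV₂W
  refine ⟨q₁ ⁻¹ᵁ V₁ ⊓ q₂ ⁻¹ᵁ V₂, ⟨hyV₁, hyV₂⟩, fun V' hV' => ?_⟩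
  obtain ⟨A, hAdef⟩ : ∃ A : X.Opens, A = p₁ ⁻¹ᵁ (f₁ ⁻¹ᵁ V₁) ⊓ p₂ ⁻¹ᵁ (f₂ ⁻¹ᵁ V₂) := ⟨_, rfl⟩
  have hA1 : A ≤ p₁ ⁻¹ᵁ (f₁ ⁻¹ᵁ V₁) := hAdef ▸ inf_le_left
  have hA2 : A ≤ p₂ ⁻¹ᵁ (f₂ ⁻¹ᵁ V₂) := hAdef ▸ inf_le_right
  have hmem₁ : ∀ x : X, f₁ (p₁ x) = q₁ (h x) := by
    intro x
    rw [← Scheme.Hom.comp_apply, ← Scheme.Hom.comp_apply, h₁]
  have hmem₂ : ∀ x : X, f₂ (p₂ x) = q₂ (h x) := by
    intro x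
    rw [← Scheme.Hom.comp_apply, ← Scheme.Hom.comp_apply, h₂]
  have hAeq : A = h ⁻¹ᵁ (q₁ ⁻¹ᵁ V₁ ⊓ q₂ ⁻¹ᵁ V₂) := by
    rw [hAdef]
    ext x
    show (f₁ (p₁ x) ∈ V₁ ∧ f₂ (p₂ x) ∈ V₂) ↔ (q₁ (h x) ∈ V₁ ∧ q₂ (h x) ∈ V₂)
    rw [hmem₁, hmem₂]
  have hAc : IsCompact (A : Set X) := by
    rw [hAeq]
    exact QuasiCompact.isCompact_preimage (f := h) _ (Opens.isOpen _)
      (haffY V₁ V₂ W hV₁ hV₂ hW hV₁W' hV₂W').isCompact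
  have hA : IsAmpleOn (CohB1.tensorMod ((Scheme.Modules.pullback p₁).obj L₁)
      ((Scheme.Modules.pullback p₂).obj L₂)) A := by
    rw [← isAmple_restrict_ι_iff hMi A]
    haveI : CompactSpace A.toScheme := isCompact_iff_compactSpace.mp hAc
    obtain ⟨v₁, hv₁⟩ : ∃ v₁ : A.toScheme ⟶ (f₁ ⁻¹ᵁ V₁).toScheme, v₁ = p₁.resLE _ _ hA1 :=
      ⟨_, rfl⟩
    obtain ⟨v₂, hv₂⟩ : ∃ v₂ : A.toScheme ⟶ (f₂ ⁻¹ᵁ V₂).toScheme, v₂ = p₂.resLE _ _ hA2 :=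
      ⟨_, rfl⟩
    have hsq₁ : A.ι ≫ p₁ = v₁ ≫ (f₁ ⁻¹ᵁ V₁).ι := by rw [hv₁, Scheme.Hom.resLE_comp_ι]
    have hsq₂ : A.ι ≫ p₂ = v₂ ≫ (f₂ ⁻¹ᵁ V₂).ι := by rw [hv₂, Scheme.Hom.resLE_comp_ι]
    have hR₁ : PicF.IsInvertible (L₁.restrict (f₁ ⁻¹ᵁ V₁).ι) := isInvertible_restrict _ hi₁
    have hR₂ : PicF.IsInvertible (L₂.restrict (f₂ ⁻¹ᵁ V₂).ι) := isInvertible_restrict _ hi₂
    refine isAmple_of_frame₂_inf (isInvertible_pullback v₁ hR₁) (isInvertible_pullback v₂ hR₂)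
      (((Frame₂.tmul (Frame.self ((Scheme.Modules.pullback p₁).obj L₁))
        (Frame.self ((Scheme.Modules.pullback p₂).obj L₂))).restrict A.ι).changeBase
        (restrictPullbackIsoSq p₁ A.ι (f₁ ⁻¹ᵁ V₁).ι v₁ hsq₁ L₁)
        (restrictPullbackIsoSq p₂ A.ι (f₂ ⁻¹ᵁ V₂).ι v₂ hsq₂ L₂)) (fun x => ?_)
    obtain ⟨k, s₁, hx₁, haff₁⟩ := (hL₁.2 ⟨V₁, hV₁⟩).2.2 (v₁ x)
    obtain ⟨n, s₂, hx₂, haff₂⟩ := (hL₂.2 ⟨V₂, hV₂⟩).2.2 (v₂ x)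
    have hg₁ := genLocus_pullback v₁ _ (isInvertible_tensorPow hR₁ (k + 1)) s₁
      (PBH8.pullbackUnitIso v₁).symm
    have hg₂ := genLocus_pullback v₂ _ (isInvertible_tensorPow hR₂ (n + 1)) s₂
      (PBH8.pullbackUnitIso v₂).symm
    refine ⟨k, n, _, _, (Frame.pow _ (k + 1)).pullback v₁ hR₁, (Frame.pow _ (n + 1)).pullback v₂ hR₂,
      (PBH8.pullbackUnitIso v₁).symm.hom ≫ (Scheme.Modules.pullback v₁).map s₁,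
      (PBH8.pullbackUnitIso v₂).symm.hom ≫ (Scheme.Modules.pullback v₂).map s₂, ?_, ?_⟩
    · rw [hg₁, hg₂]
      exact ⟨hx₁, hx₂⟩
    · rw [hg₁, hg₂]
      have hO₁ : (f₁ ⁻¹ᵁ V₁).ι ''ᵁ CohB1.genLocus _ s₁ ≤ (f₁ ≫ a₁) ⁻¹ᵁ W := by
        rintro _ ⟨z, -, rfl⟩
        exact hV₁W' z.2
      have hO₂ : (f₂ ⁻¹ᵁ V₂).ι ''ᵁ CohB1.genLocus _ s₂ ≤ (f₂ ≫ a₂) ⁻¹ᵁ W := by
        rintro _ ⟨z, -, rfl⟩
        exact hV₂W' z.2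
      have hB := haffX _ _ W (haff₁.image_of_isOpenImmersion (f₁ ⁻¹ᵁ V₁).ι)
        (haff₂.image_of_isOpenImmersion (f₂ ⁻¹ᵁ V₂).ι) hW hO₁ hO₂
      have hBA : p₁ ⁻¹ᵁ ((f₁ ⁻¹ᵁ V₁).ι ''ᵁ CohB1.genLocus _ s₁) ⊓
          p₂ ⁻¹ᵁ ((f₂ ⁻¹ᵁ V₂).ι ''ᵁ CohB1.genLocus _ s₂) ≤ A.ι.opensRange := by
        rw [Scheme.Opens.opensRange_ι, hAdef]
        rintro w ⟨⟨z₁, -, hz₁⟩, ⟨z₂, -, hz₂⟩⟩
        refine ⟨?_, ?_⟩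
        · show p₁ w ∈ (f₁ ⁻¹ᵁ V₁ : X₁.Opens)
          rw [← hz₁]
          exact z₁.2
        · show p₂ w ∈ (f₂ ⁻¹ᵁ V₂ : X₂.Opens)
          rw [← hz₂]
          exact z₂.2
      have hpre := hB.preimage_of_isOpenImmersion A.ι hBA
      have hEq : A.ι ⁻¹ᵁ (p₁ ⁻¹ᵁ ((f₁ ⁻¹ᵁ V₁).ι ''ᵁ CohB1.genLocus _ s₁) ⊓
          p₂ ⁻¹ᵁ ((f₂ ⁻¹ᵁ V₂).ι ''ᵁ CohB1.genLocus _ s₂)) =
          v₁ ⁻¹ᵁ CohB1.genLocus _ s₁ ⊓ v₂ ⁻¹ᵁ CohB1.genLocus _ s₂ := by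
        ext z
        have e₁ : p₁ (A.ι z) = (f₁ ⁻¹ᵁ V₁).ι (v₁ z) := by
          rw [← Scheme.Hom.comp_apply, ← Scheme.Hom.comp_apply, hsq₁]
        have e₂ : p₂ (A.ι z) = (f₂ ⁻¹ᵁ V₂).ι (v₂ z) := by
          rw [← Scheme.Hom.comp_apply, ← Scheme.Hom.comp_apply, hsq₂]
        constructor
        · rintro ⟨⟨z₁, hz₁, hz₁'⟩, ⟨z₂, hz₂, hz₂'⟩⟩
          refine ⟨?_, ?_⟩
          · have : z₁ = v₁ z := (f₁ ⁻¹ᵁ V₁).ι.isOpenEmbedding.injective (hz₁'.trans e₁)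
            show v₁ z ∈ CohB1.genLocus _ s₁
            rw [← this]
            exact hz₁
          · have : z₂ = v₂ z := (f₂ ⁻¹ᵁ V₂).ι.isOpenEmbedding.injective (hz₂'.trans e₂)
            show v₂ z ∈ CohB1.genLocus _ s₂
            rw [← this]
            exact hz₂
        · rintro ⟨hz₁, hz₂⟩
          exact ⟨⟨v₁ z, hz₁, e₁.symm⟩, ⟨v₂ z, hz₂, e₂.symm⟩⟩
      rw [← hEq]
      exact hpre
  refine IsAmpleOn.mono hMi hA ?_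
    (QuasiCompact.isCompact_preimage (f := h) _ V'.1.isOpen V'.2.isCompact)
  rw [hAeq]
  intro x hx
  exact hV' hx

/-- EGA II 4.6.13 (iv): external tensor products of relatively ample modules. -/
theorem isRelAmple_externalTensor {X₁ X₂ Y₁ Y₂ S : Scheme.{u}} (a₁ : Y₁ ⟶ S) (a₂ : Y₂ ⟶ S)
    (f₁ : X₁ ⟶ Y₁) (f₂ : X₂ ⟶ Y₂) [QuasiCompact f₁] [QuasiCompact f₂]
    {L₁ : X₁.Modules} {L₂ : X₂.Modules}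
    (hL₁ : RelAmple.IsRelAmple f₁ L₁) (hL₂ : RelAmple.IsRelAmple f₂ L₂) :
    RelAmple.IsRelAmple
      (pullback.map (f₁ ≫ a₁) (f₂ ≫ a₂) a₁ a₂ f₁ f₂ (𝟙 S) (Category.comp_id (f₁ ≫ a₁))
        (Category.comp_id (f₂ ≫ a₂)))
      (CohB1.tensorMod ((Scheme.Modules.pullback (pullback.fst (f₁ ≫ a₁) (f₂ ≫ a₂))).obj L₁)
        ((Scheme.Modules.pullback (pullback.snd (f₁ ≫ a₁) (f₂ ≫ a₂))).obj L₂)) := by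
  haveI : QuasiCompact (pullback.map (f₁ ≫ a₁) (f₂ ≫ a₂) a₁ a₂ f₁ f₂ (𝟙 S)
      (Category.comp_id (f₁ ≫ a₁)) (Category.comp_id (f₂ ≫ a₂))) :=
    MorphismProperty.pullbackMap (P := @QuasiCompact) (f := f₁ ≫ a₁) (g := f₂ ≫ a₂)
      (f' := a₁) (g' := a₂) (i₁ := f₁) (i₂ := f₂) inferInstance inferInstance rfl rfl
  exact isRelAmple_externalTensor_aux (pullback.fst (f₁ ≫ a₁) (f₂ ≫ a₂))
    (pullback.snd (f₁ ≫ a₁) (f₂ ≫ a₂)) (pullback.fst a₁ a₂) (pullback.snd a₁ a₂) _ f₁ f₂ a₁ a₂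
    (pullback.lift_fst _ _ _) (pullback.lift_snd _ _ _) pullback.condition
    (fun U₁ U₂ W h1 h2 hW hU1 hU2 => isAffineOpen_pullback_inf h1 h2 hW hU1 hU2)
    (fun V₁ V₂ W h1 h2 hW hV1 hV2 => isAffineOpen_pullback_inf h1 h2 hW hV1 hV2) hL₁ hL₂

end TensH8
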