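import Mathlib

/-!
Helper library (helper1): first homology of the tensor product of a chain complex with a free
resolution (S16332).
-/

set_option autoImplicit false

open CategoryTheory MonoidalCategory Limits HomologicalComplex

universe v

namespace Groth.Agent.Lib.TensH1

variable {R : Type v} [CommRing R]

/-! ### 1. the summands of `K ⊗ L` in low degrees -/

section summands

variable (K L : ChainComplex (ModuleCat.{v} R) ℕ)

local notation "ι" => HomologicalComplex.ιTensorObj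
local notation "cc" => ComplexShape.down ℕ

lemma rel10 : (ComplexShape.down ℕ).Rel 1 0 := by simp
lemma rel21 : (ComplexShape.down ℕ).Rel 2 1 := by simp

lemma ι_d_10 : ι K L 1 0 1 rfl ≫ (K ⊗ L).d 1 0 = (K.d 1 0 ▷ L.X 0) ≫ ι K L 0 0 0 rfl := by
  change ιMapBifunctor K L (curriedTensor _) cc 1 0 1 rfl ≫
    (mapBifunctor K L (curriedTensor _) cc).d 1 0 = _
  rw [mapBifunctor.d_eq, Preadditive.comp_add, mapBifunctor.ι_D₁, mapBifunctor.ι_D₂,
    mapBifunctor.d₁_eq K L _ _ rel10 0 0 rfl, mapBifunctor.d₂_eq_zero]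
  · simp
  · simp

lemma ι_d_01 : ι K L 0 1 1 rfl ≫ (K ⊗ L).d 1 0 = (K.X 0 ◁ L.d 1 0) ≫ ι K L 0 0 0 rfl := by
  change ιMapBifunctor K L (curriedTensor _) cc 0 1 1 rfl ≫
    (mapBifunctor K L (curriedTensor _) cc).d 1 0 = _
  rw [mapBifunctor.d_eq, Preadditive.comp_add, mapBifunctor.ι_D₁, mapBifunctor.ι_D₂,
    mapBifunctor.d₂_eq K L _ _ 0 rel10 0 rfl, mapBifunctor.d₁_eq_zero]
  · simp
  · simp

lemma ι_d_20 : ι K L 2 0 2 rfl ≫ (K ⊗ L).d 2 1 = (K.d 2 1 ▷ L.X 0) ≫ ι K L 1 0 1 rfl := by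
  change ιMapBifunctor K L (curriedTensor _) cc 2 0 2 rfl ≫
    (mapBifunctor K L (curriedTensor _) cc).d 2 1 = _
  rw [mapBifunctor.d_eq, Preadditive.comp_add, mapBifunctor.ι_D₁, mapBifunctor.ι_D₂,
    mapBifunctor.d₁_eq K L _ _ rel21 0 1 rfl, mapBifunctor.d₂_eq_zero]
  · simp
  · simp

lemma ι_d_02 : ι K L 0 2 2 rfl ≫ (K ⊗ L).d 2 1 = (K.X 0 ◁ L.d 2 1) ≫ ι K L 0 1 1 rfl := by
  change ιMapBifunctor K L (curriedTensor _) cc 0 2 2 rfl ≫
    (mapBifunctor K L (curriedTensor _) cc).d 2 1 = _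
  rw [mapBifunctor.d_eq, Preadditive.comp_add, mapBifunctor.ι_D₁, mapBifunctor.ι_D₂,
    mapBifunctor.d₂_eq K L _ _ 0 rel21 1 rfl, mapBifunctor.d₁_eq_zero]
  · simp
  · simp

lemma ι_d_11 : ι K L 1 1 2 rfl ≫ (K ⊗ L).d 2 1 =
    (K.d 1 0 ▷ L.X 1) ≫ ι K L 0 1 1 rfl - (K.X 1 ◁ L.d 1 0) ≫ ι K L 1 0 1 rfl := by
  change ιMapBifunctor K L (curriedTensor _) cc 1 1 2 rfl ≫
    (mapBifunctor K L (curriedTensor _) cc).d 2 1 = _
  rw [mapBifunctor.d_eq, Preadditive.comp_add, mapBifunctor.ι_D₁, mapBifunctor.ι_D₂,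
    mapBifunctor.d₁_eq K L _ _ rel10 1 1 rfl, mapBifunctor.d₂_eq K L _ _ 1 rel10 1 rfl]
  simp [sub_eq_add_neg]

variable {L} in
lemma ι_map {L' : ChainComplex (ModuleCat.{v} R) ℕ} (g : L ⟶ L') (p q n : ℕ) (h : p + q = n) :
    ι K L p q n h ≫ (K ◁ g).f n = (K.X p ◁ g.f q) ≫ ι K L' p q n h := by
  have := HomologicalComplex.ι_mapBifunctorMap (𝟙 K) g (curriedTensor _) cc p q n h
  change ιMapBifunctor K L (curriedTensor _) cc p q n h ≫
    (mapBifunctorMap (𝟙 K) g (curriedTensor _) cc).f n = _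
  rw [this]
  simp

/-- retraction onto the `(p,q)` summand -/
noncomputable def pr (p q n : ℕ) (_h : p + q = n) : (K ⊗ L).X n ⟶ K.X p ⊗ L.X q :=
  mapBifunctorDesc (K₁ := K) (K₂ := L) (F := curriedTensor (ModuleCat R)) (c := cc) (j := n)
    (fun i₁ i₂ _ => if h' : i₁ = p ∧ i₂ = q then eqToHom (by rw [h'.1, h'.2]; rfl) else 0)

lemma ι_pr (p q n : ℕ) (h : p + q = n) : ι K L p q n h ≫ pr K L p q n h = 𝟙 _ := by
  unfold pr
  change ιMapBifunctor K L (curriedTensor _) cc p q n h ≫ _ = _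
  rw [ι_mapBifunctorDesc, dif_pos ⟨rfl, rfl⟩, eqToHom_refl]
  rfl

lemma ι_injective (p q n : ℕ) (h : p + q = n) : Function.Injective (ι K L p q n h).hom := by
  intro x y hxy
  have h1 := congrArg (fun f => ModuleCat.Hom.hom f x) (ι_pr K L p q n h)
  have h2 := congrArg (fun f => ModuleCat.Hom.hom f y) (ι_pr K L p q n h)
  simp only [ModuleCat.hom_comp, LinearMap.comp_apply, ModuleCat.hom_id, LinearMap.id_apply]
    at h1 h2
  rw [← h1, ← h2, hxy]

lemma app_comp2 {X Y Z W : ModuleCat.{v} R} {f : X ⟶ Y} {g : Y ⟶ Z} {f' : X ⟶ W} {g' : W ⟶ Z}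
    (e : f ≫ g = f' ≫ g') (x : X) : g.hom (f.hom x) = g'.hom (f'.hom x) :=
  congrArg (fun t => ModuleCat.Hom.hom t x) e

lemma app_comp0 {X Y Z : ModuleCat.{v} R} {f : X ⟶ Y} {g : Y ⟶ Z}
    (e : f ≫ g = 0) (x : X) : g.hom (f.hom x) = 0 :=
  congrArg (fun t => ModuleCat.Hom.hom t x) e

lemma el_d10 (a : (K.X 1 ⊗ L.X 0 : ModuleCat.{v} R)) :
    ((K ⊗ L).d 1 0).hom ((ι K L 1 0 1 rfl).hom a) =
      (ι K L 0 0 0 rfl).hom ((K.d 1 0 ▷ L.X 0).hom a) := app_comp2 (ι_d_10 K L) a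

lemma el_d01 (b : (K.X 0 ⊗ L.X 1 : ModuleCat.{v} R)) :
    ((K ⊗ L).d 1 0).hom ((ι K L 0 1 1 rfl).hom b) =
      (ι K L 0 0 0 rfl).hom ((K.X 0 ◁ L.d 1 0).hom b) := app_comp2 (ι_d_01 K L) b

lemma el_d20 (c : (K.X 2 ⊗ L.X 0 : ModuleCat.{v} R)) :
    ((K ⊗ L).d 2 1).hom ((ι K L 2 0 2 rfl).hom c) =
      (ι K L 1 0 1 rfl).hom ((K.d 2 1 ▷ L.X 0).hom c) := app_comp2 (ι_d_20 K L) c

lemma el_d02 (w : (K.X 0 ⊗ L.X 2 : ModuleCat.{v} R)) :
    ((K ⊗ L).d 2 1).hom ((ι K L 0 2 2 rfl).hom w) =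
      (ι K L 0 1 1 rfl).hom ((K.X 0 ◁ L.d 2 1).hom w) := app_comp2 (ι_d_02 K L) w

lemma el_d11 (u : (K.X 1 ⊗ L.X 1 : ModuleCat.{v} R)) :
    ((K ⊗ L).d 2 1).hom ((ι K L 1 1 2 rfl).hom u) =
      (ι K L 0 1 1 rfl).hom ((K.d 1 0 ▷ L.X 1).hom u) -
        (ι K L 1 0 1 rfl).hom ((K.X 1 ◁ L.d 1 0).hom u) := by
  have h := congrArg (fun t => ModuleCat.Hom.hom t u) (ι_d_11 K L)
  simp only [ModuleCat.hom_comp, ModuleCat.hom_sub, LinearMap.sub_apply,
    LinearMap.comp_apply] at h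
  exact h

variable {L} in
lemma el_map {L' : ChainComplex (ModuleCat.{v} R) ℕ} (g : L ⟶ L') (p q n : ℕ) (h : p + q = n)
    (t : (K.X p ⊗ L.X q : ModuleCat.{v} R)) :
    ((K ◁ g).f n).hom ((ι K L p q n h).hom t) =
      (ι K L' p q n h).hom ((K.X p ◁ g.f q).hom t) := app_comp2 (ι_map K g p q n h) t

lemma dec1 (x : (K ⊗ L).X 1) :
    ∃ (a : (K.X 1 ⊗ L.X 0 : ModuleCat.{v} R)) (b : (K.X 0 ⊗ L.X 1 : ModuleCat.{v} R)),
      x = (ι K L 1 0 1 rfl).hom a + (ι K L 0 1 1 rfl).hom b := by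
  obtain ⟨S, hS⟩ : ∃ S : Submodule R ((K ⊗ L).X 1), S = LinearMap.range
      (LinearMap.coprod (ι K L 1 0 1 rfl).hom (ι K L 0 1 1 rfl).hom) := ⟨_, rfl⟩
  have hq : (ModuleCat.ofHom S.mkQ : (K ⊗ L).X 1 ⟶ ModuleCat.of R (((K ⊗ L).X 1) ⧸ S)) = 0 := by
    apply mapBifunctor.hom_ext (K₁ := K) (K₂ := L) (F := curriedTensor (ModuleCat R))
      (c := ComplexShape.down ℕ)
    intro i₁ i₂ h
    have h' : i₁ + i₂ = 1 := h
    obtain ⟨rfl, rfl⟩ | ⟨rfl, rfl⟩ : (i₁ = 1 ∧ i₂ = 0) ∨ (i₁ = 0 ∧ i₂ = 1) := by omega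
    · refine Eq.trans ?_ comp_zero.symm
      refine ModuleCat.hom_ext (LinearMap.ext fun y => ?_)
      show S.mkQ ((ι K L 1 0 1 rfl).hom y) = 0
      rw [Submodule.mkQ_apply, Submodule.Quotient.mk_eq_zero, hS]
      exact ⟨(y, 0), by simp⟩
    · refine Eq.trans ?_ comp_zero.symm
      refine ModuleCat.hom_ext (LinearMap.ext fun y => ?_)
      show S.mkQ ((ι K L 0 1 1 rfl).hom y) = 0
      rw [Submodule.mkQ_apply, Submodule.Quotient.mk_eq_zero, hS]
      exact ⟨(0, y), by simp⟩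
  have hx : x ∈ S := by
    have h2 := congrArg (fun f => ModuleCat.Hom.hom f x) hq
    have h3 : S.mkQ x = 0 := h2
    rwa [Submodule.mkQ_apply, Submodule.Quotient.mk_eq_zero] at h3
  rw [hS] at hx
  obtain ⟨⟨a, b⟩, hab⟩ := hx
  exact ⟨a, b, by rw [← hab, LinearMap.coprod_apply]⟩

lemma dec2 (x : (K ⊗ L).X 2) :
    ∃ (a : (K.X 2 ⊗ L.X 0 : ModuleCat.{v} R)) (b : (K.X 1 ⊗ L.X 1 : ModuleCat.{v} R))
      (c : (K.X 0 ⊗ L.X 2 : ModuleCat.{v} R)),
      x = (ι K L 2 0 2 rfl).hom a + ((ι K L 1 1 2 rfl).hom b + (ι K L 0 2 2 rfl).hom c) := by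
  obtain ⟨S, hS⟩ : ∃ S : Submodule R ((K ⊗ L).X 2), S = LinearMap.range
      (LinearMap.coprod (ι K L 2 0 2 rfl).hom
        (LinearMap.coprod (ι K L 1 1 2 rfl).hom (ι K L 0 2 2 rfl).hom)) := ⟨_, rfl⟩
  have hq : (ModuleCat.ofHom S.mkQ : (K ⊗ L).X 2 ⟶ ModuleCat.of R (((K ⊗ L).X 2) ⧸ S)) = 0 := by
    apply mapBifunctor.hom_ext (K₁ := K) (K₂ := L) (F := curriedTensor (ModuleCat R))
      (c := ComplexShape.down ℕ)
    intro i₁ i₂ h
    have h' : i₁ + i₂ = 2 := h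
    obtain ⟨rfl, rfl⟩ | ⟨rfl, rfl⟩ | ⟨rfl, rfl⟩ :
      (i₁ = 2 ∧ i₂ = 0) ∨ (i₁ = 1 ∧ i₂ = 1) ∨ (i₁ = 0 ∧ i₂ = 2) := by omega
    · refine Eq.trans ?_ comp_zero.symm
      refine ModuleCat.hom_ext (LinearMap.ext fun y => ?_)
      show S.mkQ ((ι K L 2 0 2 rfl).hom y) = 0
      rw [Submodule.mkQ_apply, Submodule.Quotient.mk_eq_zero, hS]
      exact ⟨(y, (0, 0)), by simp⟩
    · refine Eq.trans ?_ comp_zero.symm
      refine ModuleCat.hom_ext (LinearMap.ext fun y => ?_)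
      show S.mkQ ((ι K L 1 1 2 rfl).hom y) = 0
      rw [Submodule.mkQ_apply, Submodule.Quotient.mk_eq_zero, hS]
      exact ⟨(0, (y, 0)), by simp⟩
    · refine Eq.trans ?_ comp_zero.symm
      refine ModuleCat.hom_ext (LinearMap.ext fun y => ?_)
      show S.mkQ ((ι K L 0 2 2 rfl).hom y) = 0
      rw [Submodule.mkQ_apply, Submodule.Quotient.mk_eq_zero, hS]
      exact ⟨(0, (0, y)), by simp⟩
  have hx : x ∈ S := by
    have h2 := congrArg (fun f => ModuleCat.Hom.hom f x) hq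
    have h3 : S.mkQ x = 0 := h2
    rwa [Submodule.mkQ_apply, Submodule.Quotient.mk_eq_zero] at h3
  rw [hS] at hx
  obtain ⟨⟨a, b, c⟩, hab⟩ := hx
  exact ⟨a, b, c, by rw [← hab, LinearMap.coprod_apply, LinearMap.coprod_apply]⟩

lemma eq_zero_of_isZero_right (p q : ℕ) (hq : IsZero (L.X q))
    (t : (K.X p ⊗ L.X q : ModuleCat.{v} R)) : t = 0 := by
  haveI : Subsingleton (L.X q) := ModuleCat.subsingleton_of_isZero hq
  exact @Subsingleton.elim (TensorProduct R (K.X p) (L.X q)) inferInstance t 0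

end summands

/-! ### 2. a criterion for `H_1` -/

section criterion

variable {T T' : ChainComplex (ModuleCat.{v} R) ℕ} (φ : T ⟶ T')

lemma hexH (K : ChainComplex (ModuleCat.{v} R) ℕ) (z : K.cycles 1)
    (hz : (K.homologyπ 1).hom z = 0) : ∃ y : K.X 2, (K.toCycles 2 1).hom y = z := by
  have hex : (ShortComplex.mk (K.toCycles 2 1) (K.homologyπ 1)
      (K.toCycles_comp_homologyπ 2 1)).Exact :=
    ShortComplex.exact_of_g_is_cokernel _ (K.homologyIsCokernel 2 1 (by simp))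
  exact (ShortComplex.moduleCat_exact_iff _).mp hex z hz

lemma hexZ (K : ChainComplex (ModuleCat.{v} R) ℕ) (x : K.X 1)
    (hx : (K.d 1 0).hom x = 0) : ∃ z : K.cycles 1, (K.iCycles 1).hom z = x := by
  have hex : (ShortComplex.mk (K.iCycles 1) (K.d 1 0) (K.iCycles_d 1 0)).Exact :=
    ShortComplex.exact_of_f_is_kernel _ (K.cyclesIsKernel 1 0 (by simp))
  exact (ShortComplex.moduleCat_exact_iff _).mp hex x hx

lemma iCycles_injective (K : ChainComplex (ModuleCat.{v} R) ℕ) :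
    Function.Injective (K.iCycles 1).hom :=
  (ModuleCat.mono_iff_injective _).mp inferInstance

lemma homologyπ_surjective (K : ChainComplex (ModuleCat.{v} R) ℕ) :
    Function.Surjective (K.homologyπ 1).hom :=
  (ModuleCat.epi_iff_surjective _).mp inferInstance

theorem isIso_homologyMap_one
    (hS : ∀ x' : T'.X 1, (T'.d 1 0).hom x' = 0 →
      ∃ x : T.X 1, (T.d 1 0).hom x = 0 ∧ (φ.f 1).hom x = x')
    (hI : ∀ x : T.X 1, (T.d 1 0).hom x = 0 →
      (∃ y' : T'.X 2, (T'.d 2 1).hom y' = (φ.f 1).hom x) → ∃ y : T.X 2, (T.d 2 1).hom y = x) :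
    IsIso (HomologicalComplex.homologyMap φ 1) := by
  have hnat : ∀ z : T.cycles 1, (HomologicalComplex.homologyMap φ 1).hom ((T.homologyπ 1).hom z) =
      (T'.homologyπ 1).hom ((HomologicalComplex.cyclesMap φ 1).hom z) :=
    fun z => app_comp2 (HomologicalComplex.homologyπ_naturality φ 1) z
  have hci : ∀ z : T.cycles 1, (T'.iCycles 1).hom ((HomologicalComplex.cyclesMap φ 1).hom z) =
      (φ.f 1).hom ((T.iCycles 1).hom z) :=
    fun z => app_comp2 (HomologicalComplex.cyclesMap_i φ 1) z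
  have hti : ∀ (K : ChainComplex (ModuleCat.{v} R) ℕ) (y : K.X 2),
      (K.iCycles 1).hom ((K.toCycles 2 1).hom y) = (K.d 2 1).hom y := by
    intro K y
    have h := congrArg (fun t => ModuleCat.Hom.hom t y) (K.toCycles_i 2 1)
    exact h
  have hid : ∀ (K : ChainComplex (ModuleCat.{v} R) ℕ) (z : K.cycles 1),
      (K.d 1 0).hom ((K.iCycles 1).hom z) = 0 :=
    fun K z => app_comp0 (K.iCycles_d 1 0) z
  have htπ : ∀ (K : ChainComplex (ModuleCat.{v} R) ℕ) (y : K.X 2),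
      (K.homologyπ 1).hom ((K.toCycles 2 1).hom y) = 0 :=
    fun K y => app_comp0 (K.toCycles_comp_homologyπ 2 1) y
  rw [ConcreteCategory.isIso_iff_bijective]
  constructor
  · have : ∀ h : T.homology 1, (HomologicalComplex.homologyMap φ 1).hom h = 0 → h = 0 := by
      intro h hh
      obtain ⟨z, rfl⟩ := homologyπ_surjective T h
      rw [hnat] at hh
      obtain ⟨y', hy'⟩ := hexH T' _ hh
      have h1 : (T'.d 2 1).hom y' = (φ.f 1).hom ((T.iCycles 1).hom z) := by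
        rw [← hci, ← hy', hti]
      obtain ⟨y, hy⟩ := hI ((T.iCycles 1).hom z) (hid T z) ⟨y', h1⟩
      have h2 : (T.toCycles 2 1).hom y = z := by
        apply iCycles_injective T
        rw [hti, hy]
      rw [← h2, htπ]
    exact (injective_iff_map_eq_zero (HomologicalComplex.homologyMap φ 1).hom).mpr this
  · intro h'
    obtain ⟨z', rfl⟩ := homologyπ_surjective T' h'
    obtain ⟨x, hx, hφx⟩ := hS ((T'.iCycles 1).hom z') (hid T' z')
    obtain ⟨z, hz⟩ := hexZ T x hx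
    refine ⟨(T.homologyπ 1).hom z, ?_⟩
    show (HomologicalComplex.homologyMap φ 1).hom ((T.homologyπ 1).hom z) = _
    rw [hnat]
    congr 1
    apply iCycles_injective T'
    rw [hci, hz, hφx]

end criterion

/-! ### 3. the main statement -/

section main

local notation "ι" => HomologicalComplex.ιTensorObj

/-- the data `(P, π)` as a projective resolution -/
noncomputable def mkPR (P : ChainComplex (ModuleCat.{v} R) ℕ) (G : ModuleCat.{v} R)
    [∀ q, Module.Free R (P.X q)]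
    (π : P ⟶ (ChainComplex.single₀ (ModuleCat.{v} R)).obj G) [QuasiIso π] :
    ProjectiveResolution G :=
  { complex := P
    projective := fun n => (inferInstance : Projective (ModuleCat.of R (P.X n)))
    π := π }

theorem main (C P : ChainComplex (ModuleCat.{v} R) ℕ) (G : ModuleCat.{v} R)
    [Module.Free R (C.X 0)] [∀ q, Module.Free R (P.X q)]
    (π : P ⟶ (ChainComplex.single₀ (ModuleCat.{v} R)).obj G) [QuasiIso π] :
    IsIso (HomologicalComplex.homologyMap (C ◁ π) 1) := by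
  obtain ⟨G0, hG0⟩ : ∃ G0 : ChainComplex (ModuleCat.{v} R) ℕ,
      G0 = (ChainComplex.single₀ (ModuleCat.{v} R)).obj G := ⟨_, rfl⟩
  have hE0 : Function.Exact (P.d 1 0).hom (π.f 0).hom := by
    intro x
    constructor
    · intro hx
      exact (ShortComplex.moduleCat_exact_iff _).mp (mkPR P G π).exact₀ x hx
    · rintro ⟨y, rfl⟩
      exact app_comp0 (mkPR P G π).complex_d_comp_π_f_zero y
  have hS0 : Function.Surjective (π.f 0).hom :=
    (ModuleCat.epi_iff_surjective _).mp (inferInstance : Epi ((mkPR P G π).π.f 0))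
  have hE1 : Function.Exact (P.d 2 1).hom (P.d 1 0).hom := by
    intro x
    constructor
    · intro hx
      exact (ShortComplex.moduleCat_exact_iff _).mp ((mkPR P G π).exact_succ 0) x hx
    · rintro ⟨y, rfl⟩
      exact app_comp0 (P.d_comp_d 2 1 0) y
  subst hG0
  have hX0 : ∀ X : ModuleCat.{v} R, Function.Exact (X ◁ P.d 1 0).hom (X ◁ π.f 0).hom :=
    fun X => lTensor_exact X hE0 hS0
  have hXs : ∀ X : ModuleCat.{v} R, Function.Surjective (X ◁ π.f 0).hom :=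
    fun X => LinearMap.lTensor_surjective X hS0
  have hflat : Function.Exact (C.X 0 ◁ P.d 2 1).hom (C.X 0 ◁ P.d 1 0).hom :=
    Module.Flat.lTensor_exact (C.X 0) hE1
  have hG1 : IsZero (((ChainComplex.single₀ (ModuleCat.{v} R)).obj G).X 1) :=
    HomologicalComplex.isZero_single_obj_X (ComplexShape.down ℕ) 0 G 1 (by norm_num)
  have hG2 : IsZero (((ChainComplex.single₀ (ModuleCat.{v} R)).obj G).X 2) :=
    HomologicalComplex.isZero_single_obj_X (ComplexShape.down ℕ) 0 G 2 (by norm_num)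
  -- whisker exchange, elementwise
  have hex1 : ∀ (a : (C.X 1 ⊗ P.X 0 : ModuleCat.{v} R)),
      (C.X 0 ◁ π.f 0).hom ((C.d 1 0 ▷ P.X 0).hom a) =
        (C.d 1 0 ▷ ((ChainComplex.single₀ (ModuleCat.{v} R)).obj G).X 0).hom
          ((C.X 1 ◁ π.f 0).hom a) :=
    fun a => app_comp2 (whisker_exchange (C.d 1 0) (π.f 0)).symm a
  have hex2 : ∀ (c : (C.X 2 ⊗ P.X 0 : ModuleCat.{v} R)),
      (C.X 1 ◁ π.f 0).hom ((C.d 2 1 ▷ P.X 0).hom c) =
        (C.d 2 1 ▷ ((ChainComplex.single₀ (ModuleCat.{v} R)).obj G).X 0).hom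
          ((C.X 2 ◁ π.f 0).hom c) :=
    fun c => app_comp2 (whisker_exchange (C.d 2 1) (π.f 0)).symm c
  have hex3 : ∀ (u : (C.X 1 ⊗ P.X 1 : ModuleCat.{v} R)),
      (C.X 0 ◁ P.d 1 0).hom ((C.d 1 0 ▷ P.X 1).hom u) =
        (C.d 1 0 ▷ P.X 0).hom ((C.X 1 ◁ P.d 1 0).hom u) :=
    fun u => app_comp2 (whisker_exchange (C.d 1 0) (P.d 1 0)).symm u
  have hdd : ∀ (c : (C.X 2 ⊗ P.X 0 : ModuleCat.{v} R)),
      (C.d 1 0 ▷ P.X 0).hom ((C.d 2 1 ▷ P.X 0).hom c) = 0 := by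
    intro c
    apply app_comp0 _ c
    rw [← comp_whiskerRight, C.d_comp_d, MonoidalPreadditive.zero_whiskerRight]
  apply isIso_homologyMap_one
  · -- surjectivity
    intro x' hx'
    obtain ⟨a', b', rfl⟩ := dec1 C _ x'
    have hb' : b' = 0 := eq_zero_of_isZero_right C _ 0 1 hG1 b'
    subst hb'
    simp only [map_zero, add_zero] at hx' ⊢
    rw [el_d10] at hx'
    have hu : (C.d 1 0 ▷ ((ChainComplex.single₀ (ModuleCat.{v} R)).obj G).X 0).hom a' = 0 := by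
      apply ι_injective C _ 0 0 0 rfl
      rw [hx', map_zero]
    obtain ⟨a, ha⟩ := hXs (C.X 1) a'
    have h1 : (C.X 0 ◁ π.f 0).hom ((C.d 1 0 ▷ P.X 0).hom a) = 0 := by
      rw [hex1, ha, hu]
    obtain ⟨b, hb⟩ := (hX0 (C.X 0) _).mp h1
    refine ⟨(ι C P 1 0 1 rfl).hom a - (ι C P 0 1 1 rfl).hom b, ?_, ?_⟩
    · rw [map_sub, el_d10, el_d01, hb, sub_self]
    · rw [map_sub, el_map, el_map, ha,
        eq_zero_of_isZero_right C _ 0 1 hG1 ((C.X 0 ◁ π.f 1).hom b), map_zero, sub_zero]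
  · -- injectivity
    intro x hx hy
    obtain ⟨y', hy'⟩ := hy
    obtain ⟨a, b, rfl⟩ := dec1 C P x
    obtain ⟨c', e', f', rfl⟩ := dec2 C _ y'
    have he' : e' = 0 := eq_zero_of_isZero_right C _ 1 1 hG1 e'
    have hf' : f' = 0 := eq_zero_of_isZero_right C _ 0 2 hG2 f'
    subst he' hf'
    simp only [map_zero, add_zero] at hy'
    rw [el_d20, map_add, el_map, el_map,
      eq_zero_of_isZero_right C _ 0 1 hG1 ((C.X 0 ◁ π.f 1).hom b)] at hy'
    simp only [map_zero, add_zero] at hy'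
    have hR2 : (C.d 2 1 ▷ ((ChainComplex.single₀ (ModuleCat.{v} R)).obj G).X 0).hom c' =
        (C.X 1 ◁ π.f 0).hom a := ι_injective C _ 1 0 1 rfl hy'
    rw [map_add, el_d10, el_d01, ← map_add] at hx
    have hR1 : (C.d 1 0 ▷ P.X 0).hom a + (C.X 0 ◁ P.d 1 0).hom b = 0 := by
      apply ι_injective C P 0 0 0 rfl
      rw [hx, map_zero]
    obtain ⟨c, hc⟩ := hXs (C.X 2) c'
    have h1 : (C.X 1 ◁ π.f 0).hom (a - (C.d 2 1 ▷ P.X 0).hom c) = 0 := by
      rw [map_sub, hex2, hc, hR2, sub_self]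
    obtain ⟨u, hu⟩ := (hX0 (C.X 1) _).mp h1
    have hw : (C.X 0 ◁ P.d 1 0).hom (b + (C.d 1 0 ▷ P.X 1).hom u) = 0 := by
      rw [map_add, hex3, hu, map_sub, hdd, sub_zero, add_comm]
      exact hR1
    obtain ⟨w, hw'⟩ := (hflat _).mp hw
    refine ⟨(ι C P 2 0 2 rfl).hom c - (ι C P 1 1 2 rfl).hom u + (ι C P 0 2 2 rfl).hom w, ?_⟩
    rw [map_add, map_sub, el_d20, el_d11, el_d02, hw', hu, map_add, map_sub]
    abel

end main

end Groth.Agent.Lib.TensH1
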