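import Mathlib

/-!
# Lengths of localisations at minimal primes: basic transport lemmas (helper6)

`PL p Φ` : every localisation of `Φ` at a minimal prime has length a power of `p`.
-/

set_option autoImplicit false

namespace Groth.Agent.Lib.TensLenH6

open TensorProduct

universe u v

/-- Every localisation of `Φ` at a minimal prime has length (over itself) a power of `p`. -/
def PL (p : ℕ) (Φ : Type u) [CommRing Φ] : Prop :=
  ∀ (r : Ideal Φ) [r.IsPrime], r ∈ minimalPrimes Φ →
    ∃ n : ℕ, Module.length (Localization.AtPrime r) (Localization.AtPrime r) = (p ^ n : ℕ)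

/-- The length of a ring over itself is invariant under ring isomorphisms. -/
theorem length_self_of_ringEquiv {A : Type u} {B : Type v} [CommRing A] [CommRing B]
    (e : A ≃+* B) : Module.length A A = Module.length B B := by
  apply WithBot.coe_injective
  rw [Module.coe_length, Module.coe_length]
  exact Order.krullDim_eq_of_orderIso e.symm.idealComapOrderIso

theorem PL.of_ringEquiv {p : ℕ} {Φ Φ' : Type u} [CommRing Φ] [CommRing Φ'] (e : Φ ≃+* Φ')
    (h : PL p Φ) : PL p Φ' := by
  intro r' hr' hmin
  have hmin' : r'.comap (e : Φ →+* Φ') ∈ minimalPrimes Φ := by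
    have := Ideal.minimalPrimes_comap_of_surjective (f := (e : Φ →+* Φ')) e.surjective hmin
    rwa [show (⊥ : Ideal Φ').comap (e : Φ →+* Φ') = ⊥ from by
      rw [← RingHom.ker_eq_comap_bot]; exact (RingHom.injective_iff_ker_eq_bot _).mp e.injective]
      at this
  haveI : (r'.comap (e : Φ →+* Φ')).IsPrime := hmin'.1.1
  obtain ⟨n, hn⟩ := h (r'.comap (e : Φ →+* Φ')) hmin'
  refine ⟨n, ?_⟩
  rw [← hn]
  exact (length_self_of_ringEquiv (IsLocalization.ringEquivOfRingEquiv
    (Localization.AtPrime (r'.comap e)) (Localization.AtPrime r') e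
    (e.map_primeCompl_comap_eq r'))).symm

/-- A localisation at a minimal prime has Krull dimension `≤ 0`. -/
theorem krullDimLE_zero_of_minimal {Φ : Type u} [CommRing Φ] (r : Ideal Φ) [r.IsPrime]
    (hr : r ∈ minimalPrimes Φ) : Ring.KrullDimLE 0 (Localization.AtPrime r) := by
  refine Ring.KrullDimLE.mk₀ fun P hP => ?_
  have h1 : P.comap (algebraMap Φ (Localization.AtPrime r)) ≤ r := by
    intro x hx
    by_contra hxr
    exact hP.ne_top (Ideal.eq_top_of_isUnit_mem _ hx
      (IsLocalization.map_units (Localization.AtPrime r) (⟨x, hxr⟩ : r.primeCompl)))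
  have h2 : P.comap (algebraMap Φ (Localization.AtPrime r)) = r :=
    le_antisymm h1 (hr.2 ⟨hP.comap _, bot_le⟩ h1)
  have h3 : P = IsLocalRing.maximalIdeal (Localization.AtPrime r) := by
    rw [← Localization.AtPrime.map_eq_maximalIdeal]
    have h4 := IsLocalization.map_comap r.primeCompl (Localization.AtPrime r) P
    rw [Ideal.under_def, h2] at h4
    exact h4.symm
  rw [h3]
  infer_instance

/-- A reduced ring has `PL p` for every `p`. -/
theorem PL.of_isReduced (p : ℕ) (Φ : Type u) [CommRing Φ] [IsReduced Φ] : PL p Φ := by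
  intro r hr hmin
  haveI := krullDimLE_zero_of_minimal r hmin
  haveI : IsReduced (Localization.AtPrime r) := inferInstance
  have hf : IsField (Localization.AtPrime r) := Ring.KrullDimLE.isField_of_isReduced
  letI := hf.toField
  refine ⟨0, ?_⟩
  rw [Module.length_eq_finrank]
  simp

end Groth.Agent.Lib.TensLenH6
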