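import Mathlib
import Groth.Agent.Lib.TensLen1_helper6

/-!
# Lengths of localisations at minimal primes along flat maps (helper6)
-/

set_option autoImplicit false

namespace Groth.Agent.Lib.TensLenH6

open TensorProduct IsLocalRing

universe u

section core

variable {T T' : Type u} [CommRing T] [CommRing T'] [Algebra T T'] [Module.Flat T T']

/-- Multiplicativity of lengths: for a prime `qf` of the fibre `κ(q) ⊗ T'` with contraction `r`
to `T'`, `ℓ(T'_r) = ℓ(T_q) · ℓ((κ(q) ⊗ T')_qf)`. -/
theorem length_localization_fiber (q : Ideal T) [q.IsPrime] (qf : Ideal (q.Fiber T'))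
    [qf.IsPrime] :
    Module.length (Localization.AtPrime (qf.comap Algebra.TensorProduct.includeRight))
        (Localization.AtPrime (qf.comap Algebra.TensorProduct.includeRight)) =
      Module.length (Localization.AtPrime q) (Localization.AtPrime q) *
        Module.length (Localization.AtPrime qf) (Localization.AtPrime qf) := by
  set r : Ideal T' := qf.comap Algebra.TensorProduct.includeRight with hr
  letI : Algebra (Localization.AtPrime q) (Localization.AtPrime r) :=
    Localization.AtPrime.algebraOfLiesOver q r
  haveI : IsLocalHom (algebraMap (Localization.AtPrime q) (Localization.AtPrime r)) := by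
    rw [Localization.AtPrime.IsLiesOverAlgebra.algebraMap_eq (p := q) (P := r)]
    infer_instance
  have h1 := IsLocalRing.length_baseChange (Localization.AtPrime q) (Localization.AtPrime r)
    (Localization.AtPrime q)
  have h2 : Module.length (Localization.AtPrime r)
      (Localization.AtPrime r ⊗[Localization.AtPrime q] Localization.AtPrime q) =
      Module.length (Localization.AtPrime r) (Localization.AtPrime r) :=
    (TensorProduct.AlgebraTensorModule.rid (Localization.AtPrime q) (Localization.AtPrime r)
      (Localization.AtPrime r)).length_eq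
  have e := Ideal.Fiber.localizationAlgEquivQuotient q qf
  have h3 : (maximalIdeal (Localization.AtPrime q)).map
      (algebraMap (Localization.AtPrime q) (Localization.AtPrime r)) =
      q.map (algebraMap T (Localization.AtPrime r)) := by
    rw [← Localization.AtPrime.map_eq_maximalIdeal, Ideal.map_map, ← IsScalarTower.algebraMap_eq]
  have h4 : Module.length (Localization.AtPrime r)
      (Localization.AtPrime r ⧸ q.map (algebraMap T (Localization.AtPrime r))) =
      Module.length (Localization.AtPrime r ⧸ q.map (algebraMap T (Localization.AtPrime r)))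
        (Localization.AtPrime r ⧸ q.map (algebraMap T (Localization.AtPrime r))) :=
    Module.length_eq_of_surjective Ideal.Quotient.mk_surjective
  have e' : Localization.AtPrime qf ≃+*
      (Localization.AtPrime r ⧸ q.map (algebraMap T (Localization.AtPrime r))) := e.toRingEquiv
  have h5 := length_self_of_ringEquiv (A := Localization.AtPrime qf)
    (B := Localization.AtPrime r ⧸ q.map (algebraMap T (Localization.AtPrime r))) e'
  rw [← h2, h1, h3, h4, ← h5]

/-- Contraction of a minimal prime along a flat map is a minimal prime. -/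
theorem under_mem_minimalPrimes (q' : Ideal T') [q'.IsPrime] (hmin : q' ∈ minimalPrimes T') :
    q'.under T ∈ minimalPrimes T := by
  refine ⟨⟨inferInstance, bot_le⟩, fun p₀ hp₀ hle => ?_⟩
  haveI : p₀.IsPrime := hp₀.1
  obtain ⟨P, hPle, hP, hPover⟩ := Ideal.exists_ideal_le_liesOver_of_le (p := p₀)
    (q := q'.under T) q' hle
  have hP' : P = q' := le_antisymm hPle (hmin.2 ⟨hP, bot_le⟩ hPle)
  rw [← hP', ← hPover.over]

/-- The step: `PL` passes along a flat ring map whose fibres over minimal primes have `PL`. -/
theorem PL.step {p : ℕ} (hT : PL p T)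
    (hfib : ∀ (q : Ideal T) [q.IsPrime], q ∈ minimalPrimes T → PL p (q.Fiber T')) :
    PL p T' := by
  intro q' hq' hmin
  have hqmin := under_mem_minimalPrimes (T := T) q' hmin
  obtain ⟨q, hq⟩ : ∃ q : Ideal T, q = q'.under T := ⟨_, rfl⟩
  rw [← hq] at hqmin
  haveI : q.IsPrime := hqmin.1.1
  haveI : q'.LiesOver q := ⟨hq⟩
  obtain ⟨qf, hqf⟩ : ∃ qf : PrimeSpectrum (q.Fiber T'),
      qf.asIdeal.comap Algebra.TensorProduct.includeRight = q' := by
    let Q : q.primesOver T' := ⟨q', hq', inferInstance⟩
    refine ⟨PrimeSpectrum.primesOverOrderIsoFiber T T' q Q, ?_⟩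
    have := (PrimeSpectrum.primesOverOrderIsoFiber T T' q).symm_apply_apply Q
    exact congrArg Subtype.val this
  -- minimality of `qf`
  have hqfmin : qf.asIdeal ∈ minimalPrimes (q.Fiber T') := by
    refine ⟨⟨qf.2, bot_le⟩, fun P hP hle => ?_⟩
    haveI : P.IsPrime := hP.1
    have h1 : P.comap Algebra.TensorProduct.includeRight = q' := by
      refine le_antisymm ?_ (hmin.2 ⟨inferInstance, bot_le⟩ ?_)
      · rw [← hqf]; exact Ideal.comap_mono hle
      · rw [← hqf]; exact Ideal.comap_mono hle
    have h2 : (PrimeSpectrum.primesOverOrderIsoFiber T T' q).symm ⟨P, hP.1⟩ =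
        (PrimeSpectrum.primesOverOrderIsoFiber T T' q).symm qf := by
      apply Subtype.ext
      change P.comap Algebra.TensorProduct.includeRight =
        qf.asIdeal.comap Algebra.TensorProduct.includeRight
      rw [h1, hqf]
    have h3 := (PrimeSpectrum.primesOverOrderIsoFiber T T' q).symm.injective h2
    rw [← h3]
  obtain ⟨a, ha⟩ := hT q hqmin
  haveI := qf.2
  obtain ⟨b, hb⟩ := hfib q hqmin qf.asIdeal hqfmin
  subst hqf
  refine ⟨a + b, ?_⟩
  rw [length_localization_fiber q qf.asIdeal, ha, hb, pow_add]
  push_cast
  rfl

end core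

end Groth.Agent.Lib.TensLenH6
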