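import Mathlib
import Groth.Agent.Lib.TensLen2_helper6
import Groth.Agent.Lib.LengthPurelyInsep_lead

/-!
# `PL` for base changes along field extensions (helper6)
-/

set_option autoImplicit false

namespace Groth.Agent.Lib.TensLenH6

open TensorProduct IsLocalRing

universe u

/-- `PL` passes to `R ⊗[M] M'` if all `κ ⊗[M] M'` (`κ` a field over `M`) have `PL`. -/
theorem PL.baseChange {p : ℕ} (M : Type u) [Field M] (R : Type u) [CommRing R] [Algebra M R]
    (M' : Type u) [Field M'] [Algebra M M'] (hR : PL p R)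
    (hfib : ∀ (κ : Type u) [Field κ] [Algebra M κ], PL p (κ ⊗[M] M')) :
    PL p (R ⊗[M] M') := by
  refine PL.step (T := R) (T' := R ⊗[M] M') hR fun q _ _ => ?_
  exact PL.of_ringEquiv
    (Algebra.TensorProduct.cancelBaseChange M R R q.ResidueField M').symm.toRingEquiv
    (hfib q.ResidueField)

/-- separable case: the fibres are reduced. -/
theorem PL_tensor_of_isSeparable (p : ℕ) (M : Type u) [Field M] (M' : Type u) [Field M']
    [Algebra M M'] [Algebra.IsSeparable M M'] [Algebra.EssFiniteType M M']
    (κ : Type u) [Field κ] [Algebra M κ] : PL p (κ ⊗[M] M') := by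
  haveI : Algebra.FormallyUnramified M M' := Algebra.FormallyUnramified.of_isSeparable M M'
  haveI : IsReduced (κ ⊗[M] M') := Algebra.FormallyUnramified.isReduced_of_field κ (κ ⊗[M] M')
  exact PL.of_isReduced p _

/-- purely inseparable case (uses lead's `LengthPurelyInsep`). -/
theorem PL_tensor_of_isPurelyInseparable (p : ℕ) (M : Type u) [Field M] [ExpChar M p]
    (M' : Type u) [Field M'] [Algebra M M'] [FiniteDimensional M M'] [IsPurelyInseparable M M']
    (κ : Type u) [Field κ] [Algebra M κ] : PL p (κ ⊗[M] M') := by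
  intro r hr hmin
  haveI : IsLocalRing (κ ⊗[M] M') :=
    Groth.Agent.Lib.LengthPurelyInsep.isLocalRing_tensor (k := M) (K := κ) (k' := M') p
  obtain ⟨n, hn⟩ := Groth.Agent.Lib.LengthPurelyInsep.main (k := M) (K := κ) (k' := M') p
  haveI : Module.Finite κ (κ ⊗[M] M') := inferInstance
  haveI : IsArtinianRing (κ ⊗[M] M') := IsArtinianRing.of_finite κ _
  have hr' : r = maximalIdeal (κ ⊗[M] M') :=
    IsLocalRing.eq_maximalIdeal (Ideal.IsPrime.isMaximal' (I := r) hr)
  refine ⟨n, ?_⟩
  rw [← hn]
  have hu : r.primeCompl ≤ IsUnit.submonoid (κ ⊗[M] M') := by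
    intro x hx
    have hx' : x ∉ maximalIdeal (κ ⊗[M] M') := by
      rw [← hr']; exact hx
    exact (IsLocalRing.notMem_maximalIdeal.mp hx')
  exact (length_self_of_ringEquiv
    (IsLocalization.atUnits (κ ⊗[M] M') r.primeCompl (S := Localization.AtPrime r)
      hu).toRingEquiv).symm

end Groth.Agent.Lib.TensLenH6
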