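import Mathlib
import Groth.Agent.Lib.TensLen3_helper6

/-!
# `PL` for base changes along purely transcendental extensions (helper6)
-/

set_option autoImplicit false

namespace Groth.Agent.Lib.TensLenH6

open TensorProduct IsLocalRing

universe u w

theorem isDomain_tensor_fractionRing_mvPolynomial (M : Type u) [Field M] (ι : Type w)
    (κ : Type u) [Field κ] [Algebra M κ] :
    IsDomain (κ ⊗[M] FractionRing (MvPolynomial ι M)) := by
  letI alg : Algebra (κ ⊗[M] MvPolynomial ι M) (κ ⊗[M] FractionRing (MvPolynomial ι M)) :=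
    (Algebra.TensorProduct.map (AlgHom.id κ κ)
      (IsScalarTower.toAlgHom M (MvPolynomial ι M) (FractionRing (MvPolynomial ι M)))).toRingHom.toAlgebra
  have halg : ∀ x, algebraMap (κ ⊗[M] MvPolynomial ι M)
      (κ ⊗[M] FractionRing (MvPolynomial ι M)) x =
      Algebra.TensorProduct.map (AlgHom.id κ κ)
      (IsScalarTower.toAlgHom M (MvPolynomial ι M) (FractionRing (MvPolynomial ι M))) x :=
    fun _ => rfl
  haveI : IsScalarTower κ (κ ⊗[M] MvPolynomial ι M)
      (κ ⊗[M] FractionRing (MvPolynomial ι M)) := by
    refine IsScalarTower.of_algebraMap_eq (R := κ) (S := κ ⊗[M] MvPolynomial ι M)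
      (A := κ ⊗[M] FractionRing (MvPolynomial ι M)) fun x => ?_
    simp [halg, Algebra.TensorProduct.algebraMap_apply]
  have H : (algebraMap (κ ⊗[M] MvPolynomial ι M)
      (κ ⊗[M] FractionRing (MvPolynomial ι M))).comp
        (Algebra.TensorProduct.includeRight (R := M) (A := κ)).toRingHom =
      (Algebra.TensorProduct.includeRight (R := M) (A := κ)).toRingHom.comp
        (algebraMap (MvPolynomial ι M) (FractionRing (MvPolynomial ι M))) := by
    refine RingHom.ext fun a => ?_
    simp [halg]
  have hloc := IsLocalization.tensorProduct_tensorProduct_right M κ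
    (nonZeroDivisors (MvPolynomial ι M)) (FractionRing (MvPolynomial ι M)) H
  haveI : IsDomain (κ ⊗[M] MvPolynomial ι M) :=
    (MvPolynomial.algebraTensorAlgEquiv (σ := ι) M κ).toRingEquiv.toMulEquiv.isDomain _
  have hinj : Function.Injective
      (Algebra.TensorProduct.includeRight (R := M) (A := κ) (B := MvPolynomial ι M)) :=
    Algebra.TensorProduct.includeRight_injective (algebraMap M κ).injective
  have hle : (nonZeroDivisors (MvPolynomial ι M)).map
      (Algebra.TensorProduct.includeRight (R := M) (A := κ)) ≤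
      nonZeroDivisors (κ ⊗[M] MvPolynomial ι M) := by
    rintro _ ⟨a, ha, rfl⟩
    refine mem_nonZeroDivisors_of_ne_zero ?_
    intro h0
    have := hinj (h0.trans (map_zero _).symm)
    exact (nonZeroDivisors.ne_zero ha) this
  exact IsLocalization.isDomain_of_le_nonZeroDivisors
    (κ ⊗[M] FractionRing (MvPolynomial ι M)) hle

/-- purely transcendental case: the fibres are domains. -/
theorem PL_tensor_of_equiv_fractionRing (p : ℕ) (M : Type u) [Field M] (M' : Type u) [Field M']
    [Algebra M M'] (ι : Type w) (e : FractionRing (MvPolynomial ι M) ≃ₐ[M] M')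
    (κ : Type u) [Field κ] [Algebra M κ] : PL p (κ ⊗[M] M') := by
  haveI := isDomain_tensor_fractionRing_mvPolynomial M ι κ
  haveI : IsDomain (κ ⊗[M] M') :=
    (Algebra.TensorProduct.congr (AlgEquiv.refl (R := M) (A₁ := κ))
      e).symm.toRingEquiv.toMulEquiv.isDomain _
  exact PL.of_isReduced p _

end Groth.Agent.Lib.TensLenH6
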