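import Mathlib
import Groth.Agent.Lib.TensLen4_helper6

/-!
# Multiplicities of `K ⊗[k] L` for `L/k` finitely generated are powers of `p` (helper6)
-/

set_option autoImplicit false

namespace Groth.Agent.Lib.TensLenH6

open TensorProduct IsLocalRing

universe u

/-- left-handed version of `PL.baseChange`. -/
theorem PL.baseChange' {p : ℕ} (M : Type u) [Field M] (R : Type u) [CommRing R] [Algebra M R]
    (M' : Type u) [Field M'] [Algebra M M'] (hR : PL p R)
    (hfib : ∀ (κ : Type u) [Field κ] [Algebra M κ], PL p (κ ⊗[M] M')) :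
    PL p (M' ⊗[M] R) :=
  PL.of_ringEquiv (Algebra.TensorProduct.comm M R M').toRingEquiv (PL.baseChange M R M' hR hfib)

/-- abstract tower version -/
theorem PL_tensor_of_tower (k K F Fs L : Type u) [Field k] [Field K] [Field F] [Field Fs]
    [Field L] [Algebra k K] [Algebra k F] [Algebra F Fs] [Algebra k Fs] [IsScalarTower k F Fs]
    [Algebra Fs L] [Algebra k L] [IsScalarTower k Fs L]
    (p : ℕ) [ExpChar k p] (ι : Type u) (e : FractionRing (MvPolynomial ι k) ≃ₐ[k] F)
    [Algebra.IsSeparable F Fs] [Algebra.EssFiniteType F Fs]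
    [FiniteDimensional Fs L] [IsPurelyInseparable Fs L] :
    PL p (K ⊗[k] L) := by
  haveI : ExpChar F p := expChar_of_injective_algebraMap (algebraMap k F).injective p
  haveI : ExpChar Fs p := expChar_of_injective_algebraMap (algebraMap F Fs).injective p
  have h0 : PL p K := PL.of_isReduced p K
  have h1 : PL p (F ⊗[k] K) :=
    PL.baseChange' k K F h0 fun κ _ _ => PL_tensor_of_equiv_fractionRing p k F ι e κ
  have h2 : PL p (Fs ⊗[F] (F ⊗[k] K)) :=
    PL.baseChange' F (F ⊗[k] K) Fs h1 fun κ _ _ => PL_tensor_of_isSeparable p F Fs κ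
  have h2' : PL p (Fs ⊗[k] K) :=
    PL.of_ringEquiv (Algebra.TensorProduct.cancelBaseChange k F F Fs K).toRingEquiv h2
  have h3 : PL p (L ⊗[Fs] (Fs ⊗[k] K)) :=
    PL.baseChange' Fs (Fs ⊗[k] K) L h2' fun κ _ _ =>
      PL_tensor_of_isPurelyInseparable p Fs L κ
  have h3' : PL p (L ⊗[k] K) :=
    PL.of_ringEquiv (Algebra.TensorProduct.cancelBaseChange k Fs Fs L K).toRingEquiv h3
  exact PL.of_ringEquiv (Algebra.TensorProduct.comm k L K).toRingEquiv h3'

theorem PL_tensor_of_fg (k K L : Type u) [Field k] [Field K] [Field L] [Algebra k K]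
    [Algebra k L] (hL : (⊤ : IntermediateField k L).FG) (p : ℕ) [ExpChar k p] :
    PL p (K ⊗[k] L) := by
  obtain ⟨ι, x, hx⟩ := exists_isTranscendenceBasis' k L
  -- the tower `k ⊆ F ⊆ Fs ⊆ L`
  set F : IntermediateField k L := IntermediateField.adjoin k (Set.range x) with hF
  haveI : Algebra.IsAlgebraic F L := hx.isAlgebraic_field
  haveI : Algebra.EssFiniteType k L := IntermediateField.fg_top_iff.mp hL
  haveI : Algebra.EssFiniteType F L := Algebra.EssFiniteType.of_comp k F L
  haveI : Module.Finite F L := Algebra.finite_of_essFiniteType_of_isAlgebraic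
  set Fs : IntermediateField F L := separableClosure F L with hFs
  haveI : IsScalarTower k Fs L := IsScalarTower.of_algebraMap_eq fun _ => rfl
  haveI : IsScalarTower k F Fs := IsScalarTower.of_algebraMap_eq fun _ => rfl
  exact PL_tensor_of_tower k K F Fs L p ι hx.1.aevalEquivField

end Groth.Agent.Lib.TensLenH6
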