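import Groth.Agent.Lib.TensorAssoc_helper2
import Groth.Agent.Lib.KFlatGen10_helper2
import Groth.Agent.Lib.KFlatSite13_helper2
import Groth.Prelude.Def_DCoh4

/-!
# `- ⊗^L (K ⊗ L) ≅ (- ⊗^L K) ⊗^L L` on a ringed site, for `L` K-flat (helper2)
-/

set_option autoImplicit false
universe u
open CategoryTheory Limits ModSite

namespace Groth.Agent.Lib.TensorAssoc

attribute [local instance] HasDerivedCategory.standard

variable {C : Type u} [SmallCategory C] {J : GrothendieckTopology C} (O : Sheaf J CommRingCat.{u})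

open Groth.Agent.Lib.ModSiteH8 Groth.Agent.Lib.ResSite Groth.Agent.Lib.KFlatGen
  Groth.Agent.Lib.KFlatSite

/-- **`- ⊗^L (K ⊗ L) ≅ (- ⊗^L K) ⊗^L L` for `L` K-flat** -/
theorem nonempty_LTensorCx_comp_iso (K L : CochainComplex (Mod O) ℤ) (hL : ModSite.IsKFlat L)
    [ModSite.HasLTensorCx K] [ModSite.HasLTensorCx L]
    [ModSite.HasLTensorCx (((tensorCx O).obj K).obj L)] :
    Nonempty (ModSite.LTensorCx (((tensorCx O).obj K).obj L) ≅
      ModSite.LTensorCx K ⋙ ModSite.LTensorCx L) := by
  haveI := hasExactColimitsOfShape_filtered O ℕ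
  let α3 : DerivedCategory.Q ⋙ ModSite.LTensorCx (((tensorCx O).obj K).obj L) ⟶
      (tensorBi O).map₂CochainComplex.flip.obj
        (HomologicalComplex.mapBifunctor K L (tensorBi O) (ComplexShape.up ℤ)) ⋙
          DerivedCategory.Q := counitCx O (((tensorCx O).obj K).obj L)
  haveI h3 : (ModSite.LTensorCx (((tensorCx O).obj K).obj L)).IsLeftDerivedFunctor α3
      (HomologicalComplex.quasiIso (Mod O) (ComplexShape.up ℤ)) :=
    inferInstanceAs ((ModSite.LTensorCx (((tensorCx O).obj K).obj L)).IsLeftDerivedFunctor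
      (counitCx O (((tensorCx O).obj K).obj L)) _)
  exact KFlatGen.nonempty_derived_comp_iso (tensorBi O) (associator O) (sigmaNatIso O)
    (flatClass O) (resClass O) K L ((isKFlat_iff_gen O L).1 hL)
    (ModSite.LTensorCx K) (ModSite.LTensorCx L) (ModSite.LTensorCx (((tensorCx O).obj K).obj L))
    (counitCx O K) (counitCx O L) α3

end Groth.Agent.Lib.TensorAssoc
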