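import Mathlib
import Groth.Agent.Lib.TensorInsep_helper3

/-!
# Tensor products of local rings with purely inseparable residue extension, II (helper3)
-/

set_option autoImplicit false
set_option maxSynthPendingDepth 3
universe u

namespace Groth.Agent.Lib.TensorInsepH3

open IsLocalRing TensorProduct

variable (R₀ R' S : Type u) [CommRing R₀] [IsLocalRing R₀] [CommRing R'] [IsLocalRing R']
  [CommRing S] [IsLocalRing S] [Algebra R₀ R'] [Algebra R₀ S]
  [IsLocalHom (algebraMap R₀ R')] [IsLocalHom (algebraMap R₀ S)]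

theorem subsingleton_primeSpectrum'
    [IsPurelyInseparable (ResidueField R₀) (ResidueField R')] :
    Subsingleton (PrimeSpectrum (ResidueField R' ⊗[ResidueField R₀] ResidueField S)) := by
  have h := PrimeSpectrum.isHomeomorph_comap_of_isPurelyInseparable (ResidueField R₀)
    (ResidueField R') (ResidueField S)
  haveI : Subsingleton (PrimeSpectrum (ResidueField S ⊗[ResidueField R₀] ResidueField R')) :=
    h.injective.subsingleton
  exact (PrimeSpectrum.comapEquiv (Algebra.TensorProduct.comm (ResidueField R₀)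
    (ResidueField R') (ResidueField S)).toRingEquiv).injective.subsingleton

theorem eq_of_J_le'
    (hsub : Subsingleton (PrimeSpectrum (ResidueField R' ⊗[ResidueField R₀] ResidueField S)))
    (P₁ P₂ : Ideal (R' ⊗[R₀] S)) [P₁.IsPrime] [P₂.IsPrime] (h₁ : J R₀ R' S ≤ P₁)
    (h₂ : J R₀ R' S ≤ P₂) : P₁ = P₂ := by
  obtain ⟨π, hπ⟩ := exists_surjection R₀ R' S
  haveI := hsub
  have hmk : Function.Surjective (Ideal.Quotient.mk (J R₀ R' S)) := Ideal.Quotient.mk_surjective
  have key : ∀ P : Ideal (R' ⊗[R₀] S), P.IsPrime → J R₀ R' S ≤ P →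
      (P.map (Ideal.Quotient.mk (J R₀ R' S))).IsPrime ∧
        (P.map (Ideal.Quotient.mk (J R₀ R' S))).comap (Ideal.Quotient.mk (J R₀ R' S)) = P := by
    intro P hP hle
    have hker : RingHom.ker (Ideal.Quotient.mk (J R₀ R' S)) ≤ P := by rwa [Ideal.mk_ker]
    refine ⟨Ideal.map_isPrime_of_surjective hmk hker, ?_⟩
    rw [Ideal.comap_map_of_surjective _ hmk, ← RingHom.ker_eq_comap_bot, sup_eq_left.mpr hker]
  obtain ⟨hp₁, hc₁⟩ := key P₁ inferInstance h₁
  obtain ⟨hp₂, hc₂⟩ := key P₂ inferInstance h₂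
  have h3 : (⟨(P₁.map (Ideal.Quotient.mk (J R₀ R' S))).comap π, Ideal.comap_isPrime _ _⟩ :
      PrimeSpectrum _) = ⟨(P₂.map (Ideal.Quotient.mk (J R₀ R' S))).comap π,
        Ideal.comap_isPrime _ _⟩ := Subsingleton.elim _ _
  have h4 := Ideal.comap_injective_of_surjective π hπ (congrArg PrimeSpectrum.asIdeal h3)
  rw [← hc₁, ← hc₂, h4]

theorem nontrivial_tensor : Nontrivial (R' ⊗[R₀] S) := by
  haveI : Nontrivial (ResidueField R' ⊗[ResidueField R₀] ResidueField S) :=
    Algebra.TensorProduct.nontrivial_of_algebraMap_injective_of_isDomain _ _ _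
      (algebraMap (ResidueField R₀) (ResidueField R')).injective
      (algebraMap (ResidueField R₀) (ResidueField S)).injective
  let f : R' ⊗[R₀] S →ₐ[R₀] (ResidueField R' ⊗[ResidueField R₀] ResidueField S) :=
    Algebra.TensorProduct.lift
      (((Algebra.TensorProduct.includeLeft :
        ResidueField R' →ₐ[ResidueField R₀] _).restrictScalars R₀).comp
        (IsScalarTower.toAlgHom R₀ R' (ResidueField R')))
      (((Algebra.TensorProduct.includeRight :
        ResidueField S →ₐ[ResidueField R₀] _).restrictScalars R₀).comp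
        (IsScalarTower.toAlgHom R₀ S (ResidueField S)))
      (fun _ _ => Commute.all _ _)
  exact f.toRingHom.domain_nontrivial

/-- `R' ⊗[R₀] S` is local, and both structure maps are local. -/
theorem isLocalRing_tensor' [Algebra.IsIntegral R₀ S]
    (hsub : Subsingleton (PrimeSpectrum (ResidueField R' ⊗[ResidueField R₀] ResidueField S))) :
    IsLocalRing (R' ⊗[R₀] S) ∧
      IsLocalHom (Algebra.TensorProduct.includeLeft : R' →ₐ[R₀] R' ⊗[R₀] S).toRingHom ∧
      IsLocalHom (Algebra.TensorProduct.includeRight : S →ₐ[R₀] R' ⊗[R₀] S).toRingHom := by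
  haveI := nontrivial_tensor R₀ R' S
  have hloc : IsLocalRing (R' ⊗[R₀] S) := by
    obtain ⟨N₀, hN₀⟩ := Ideal.exists_maximal (R' ⊗[R₀] S)
    refine IsLocalRing.of_unique_max_ideal ⟨N₀, hN₀, fun N hN => ?_⟩
    haveI := hN₀
    haveI := hN
    exact eq_of_J_le' R₀ R' S hsub N N₀ (J_le R₀ R' S N) (J_le R₀ R' S N₀)
  haveI := hloc
  refine ⟨hloc, ?_, ?_⟩
  · refine ((local_hom_TFAE _).out 0 4).mpr ?_
    exact comap_algebraMap_eq R₀ R' S (maximalIdeal (R' ⊗[R₀] S))
  · refine ((local_hom_TFAE _).out 0 4).mpr ?_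
    exact comap_includeRight_eq R₀ R' S (maximalIdeal (R' ⊗[R₀] S))

end Groth.Agent.Lib.TensorInsepH3
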