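import Mathlib

/-!
# Joint injectivity of tensor products of jointly injective families of functionals
-/

set_option autoImplicit false

open TensorProduct

namespace Groth.Agent.Lib.TensorJointInj_helper3

universe u v w

/-- Over a field, if `(f i)` and `(g j)` are jointly injective families of functionals on `V` and `W`,
then `(f i ⊗ g j)` is jointly injective on `V ⊗ W`. -/
theorem joint_inj {k : Type u} {V : Type v} {W : Type w} [Field k] [AddCommGroup V] [Module k V]
    [AddCommGroup W] [Module k W] {ι ι' : Type*} (f : ι → V →ₗ[k] k) (g : ι' → W →ₗ[k] k)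
    (hf : ∀ v, (∀ i, f i v = 0) → v = 0) (hg : ∀ w, (∀ j, g j w = 0) → w = 0)
    (t : V ⊗[k] W)
    (ht : ∀ i j, LinearMap.mul' k k (TensorProduct.map (f i) (g j) t) = 0) : t = 0 := by
  classical
  let b := Module.Free.chooseBasis k W
  let e := TensorProduct.equivFinsuppOfBasisRight (M := V) b
  apply e.injective
  rw [map_zero]
  ext m
  rw [Finsupp.zero_apply]
  apply hf
  intro i
  -- the element `w_i = (f i ⊗ id) t ∈ W`
  let wi : W := TensorProduct.lid k W (TensorProduct.map (f i) LinearMap.id t)
  have h1 : ∀ s : V ⊗[k] W, b.repr (TensorProduct.lid k W (TensorProduct.map (f i) LinearMap.id s)) m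
      = f i (e s m) := by
    intro s
    induction s using TensorProduct.induction_on with
    | zero => simp
    | tmul v w =>
      rw [TensorProduct.map_tmul, TensorProduct.lid_tmul, LinearMap.id_apply, map_smul,
        Finsupp.smul_apply, TensorProduct.equivFinsuppOfBasisRight_apply_tmul_apply, map_smul,
        smul_eq_mul, smul_eq_mul, mul_comm]
    | add x y hx hy =>
      simp only [map_add, Finsupp.add_apply, hx, hy]
  have h2 : ∀ (j : ι') (s : V ⊗[k] W),
      g j (TensorProduct.lid k W (TensorProduct.map (f i) LinearMap.id s)) =
        LinearMap.mul' k k (TensorProduct.map (f i) (g j) s) := by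
    intro j s
    induction s using TensorProduct.induction_on with
    | zero => simp
    | tmul v w =>
      rw [TensorProduct.map_tmul, TensorProduct.lid_tmul, LinearMap.id_apply, map_smul,
        TensorProduct.map_tmul, LinearMap.mul'_apply, smul_eq_mul]
    | add x y hx hy =>
      simp only [map_add, hx, hy]
  have h3 : wi = 0 := by
    apply hg
    intro j
    rw [h2 j t, ht i j]
  rw [← h1 t]
  change b.repr wi m = 0
  rw [h3, map_zero, Finsupp.zero_apply]

end Groth.Agent.Lib.TensorJointInj_helper3
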