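import Mathlib
set_option autoImplicit false
set_option linter.style.haveILetI false
set_option linter.unusedSectionVars false

universe u v

open scoped TensorProduct

namespace Groth.Agent.Lib.TensorPowSummandH4

variable {R : Type u} [CommRing R] {M : Type v} [AddCommGroup M] [Module R M]

def I₀ (F₁ : Submodule R M) : Set R := {c | ∃ (φ : M →ₗ[R] R) (x : M), x ∈ F₁ ∧ φ x = c}

def AA (F₁ : Submodule R M) (π' : M →ₗ[R] M) : Set R :=
  {c | ∀ x ∈ F₁, ∀ θ : M →ₗ[R] R, c * θ (π' x) = 0}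

def PP (F₁ : Submodule R M) (π' : M →ₗ[R] M) (j : ℕ) : Prop :=
  ∀ c : Fin j → R, (∀ i, c i ∈ I₀ F₁) → ∏ i, c i ∈ AA F₁ π'

lemma PP_step (F₁ : Submodule R M) (π' p₁ : M →ₗ[R] M) (hp₁mem : ∀ m, p₁ m ∈ F₁)
    (hp₁id : ∀ x ∈ F₁, p₁ x = x) (s : M →ₗ[R] M →₀ R)
    (hs : Finsupp.linearCombination R id ∘ₗ s = LinearMap.id) (j : ℕ)
    (h : PP F₁ π' (j + 1)) : PP F₁ π' j := by
  intro c hc x hx θ
  have h1 : Finsupp.linearCombination R id (s x) = x := LinearMap.congr_fun hs x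
  have hℓ : ∀ ℓ : M →ₗ[R] R, ℓ x = (s x).sum fun m r => r * ℓ (p₁ m) := by
    intro ℓ
    have e1 : ℓ x = (ℓ ∘ₗ p₁) (Finsupp.linearCombination R id (s x)) := by
      rw [h1, LinearMap.comp_apply, hp₁id x hx]
    rw [e1, Finsupp.linearCombination_apply, map_finsuppSum]
    refine Finsupp.sum_congr fun m _ => ?_
    simp
  show (∏ i, c i) * θ (π' x) = 0
  have e2 : θ (π' x) = (θ ∘ₗ π') x := rfl
  rw [e2, hℓ (θ ∘ₗ π'), Finsupp.sum, Finset.mul_sum]
  refine Finset.sum_eq_zero fun m _ => ?_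
  have hmem : ∀ i, (Fin.cons ((s x) m) c : Fin (j + 1) → R) i ∈ I₀ F₁ := by
    intro i
    refine Fin.cases ?_ (fun i => ?_) i
    · rw [Fin.cons_zero]
      exact ⟨Finsupp.lapply m ∘ₗ s, x, hx, rfl⟩
    · rw [Fin.cons_succ]
      exact hc i
  have hm := h (Fin.cons ((s x) m) c : Fin (j + 1) → R) hmem (p₁ m) (hp₁mem m) θ
  rw [Fin.prod_univ_succ] at hm
  simp only [Fin.cons_zero, Fin.cons_succ] at hm
  rw [LinearMap.comp_apply]
  calc (∏ i, c i) * ((s x) m * θ (π' (p₁ m)))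
      = (s x) m * (∏ i, c i) * θ (π' (p₁ m)) := by ring
    _ = 0 := hm

lemma PP_top (F₁ F₂ : Submodule R M) (π' : M →ₗ[R] M) (hπ0 : ∀ z ∈ F₂, π' z = 0) (k' : ℕ)
    (hle : LinearMap.range (PiTensorProduct.map (R := R) (fun _ : Fin (k' + 1) => F₁.subtype)) ≤
      LinearMap.range (PiTensorProduct.map (R := R) (fun _ : Fin (k' + 1) => F₂.subtype))) :
    PP F₁ π' k' := by
  intro c hc x₀ hx₀ θ
  have hc' : ∀ i, ∃ (φ : M →ₗ[R] R) (x : M), x ∈ F₁ ∧ φ x = c i := hc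
  choose φ x hx hφx using hc'
  obtain ⟨y, hy0, hys⟩ : ∃ y : Fin (k' + 1) → M, y 0 = x₀ ∧ ∀ i : Fin k', y i.succ = x i :=
    ⟨Fin.cons x₀ x, Fin.cons_zero _ _, fun i => Fin.cons_succ _ _ i⟩
  have hy : ∀ i, y i ∈ F₁ := by
    intro i
    refine Fin.cases ?_ (fun i => ?_) i
    · rw [hy0]; exact hx₀
    · rw [hys]; exact hx i
  obtain ⟨Φ, hΦ0, hΦs⟩ : ∃ Φ : Fin (k' + 1) → (M →ₗ[R] R), Φ 0 = θ ∘ₗ π' ∧
      ∀ i : Fin k', Φ i.succ = φ i :=
    ⟨Fin.cons (θ ∘ₗ π') φ, Fin.cons_zero _ _, fun i => Fin.cons_succ _ _ i⟩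
  obtain ⟨Λ, hΛ⟩ : ∃ Λ : (⨂[R] _ : Fin (k' + 1), M) →ₗ[R] R,
      ∀ v : Fin (k' + 1) → M, Λ (PiTensorProduct.tprod R v) = ∏ i, Φ i (v i) :=
    ⟨PiTensorProduct.lift ((MultilinearMap.mkPiAlgebra R (Fin (k' + 1)) R).compLinearMap Φ),
      fun v => by
        rw [PiTensorProduct.lift.tprod, MultilinearMap.compLinearMap_apply,
          MultilinearMap.mkPiAlgebra_apply]⟩
  have hmem : PiTensorProduct.tprod R y ∈
      LinearMap.range (PiTensorProduct.map (R := R) (fun _ : Fin (k' + 1) => F₁.subtype)) :=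
    ⟨PiTensorProduct.tprod R (fun i => (⟨y i, hy i⟩ : F₁)), by
      rw [PiTensorProduct.map_tprod]
      rfl⟩
  obtain ⟨u, hu⟩ := hle hmem
  have hzero : ∀ u : ⨂[R] _ : Fin (k' + 1), F₂,
      Λ (PiTensorProduct.map (R := R) (fun _ : Fin (k' + 1) => F₂.subtype) u) = 0 := by
    intro u
    induction u using PiTensorProduct.induction_on with
    | smul_tprod r z =>
      rw [map_smul, PiTensorProduct.map_tprod, map_smul, hΛ]
      have h0 : Φ 0 (F₂.subtype (z 0)) = 0 := by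
        rw [hΦ0, LinearMap.comp_apply, Submodule.subtype_apply, hπ0 _ (z 0).2, map_zero]
      rw [Finset.prod_eq_zero (Finset.mem_univ 0) h0, smul_zero]
    | add a b ha hb => rw [map_add, map_add, ha, hb, add_zero]
  have h0 : Λ (PiTensorProduct.tprod R y) = 0 := by
    rw [← hu]
    exact hzero u
  rw [hΛ, Fin.prod_univ_succ, hΦ0, hy0] at h0
  simp only [hΦs, hys, hφx, LinearMap.comp_apply] at h0
  show (∏ i, c i) * θ (π' x₀) = 0
  rw [mul_comm]
  exact h0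

theorem key [Module.Projective R M] (F₁ F₂ : Submodule R M)
    (h₁ : ∃ C : Submodule R M, IsCompl F₁ C) (h₂ : ∃ C : Submodule R M, IsCompl F₂ C) (k : ℕ)
    (hk : 1 ≤ k)
    (hle : LinearMap.range (PiTensorProduct.map (R := R) (fun _ : Fin k => F₁.subtype)) ≤
      LinearMap.range (PiTensorProduct.map (R := R) (fun _ : Fin k => F₂.subtype))) :
    F₁ ≤ F₂ := by
  obtain ⟨k', rfl⟩ : ∃ k', k = k' + 1 := ⟨k - 1, by omega⟩
  obtain ⟨C₁, hC₁⟩ := h₁
  obtain ⟨C₂, hC₂⟩ := h₂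
  obtain ⟨s, hs⟩ := (Module.projective_def' (R := R) (P := M)).1 inferInstance
  obtain ⟨π', hπ'⟩ : ∃ π' : M →ₗ[R] M, ∀ z, π' z = 0 ↔ z ∈ F₂ := by
    refine ⟨C₂.subtype ∘ₗ C₂.projectionOnto F₂ hC₂.symm, fun z => ?_⟩
    rw [LinearMap.comp_apply, Submodule.subtype_apply, Submodule.coe_eq_zero,
      Submodule.projectionOnto_apply_eq_zero_iff]
  obtain ⟨p₁, hp₁mem, hp₁id⟩ : ∃ p₁ : M →ₗ[R] M, (∀ m, p₁ m ∈ F₁) ∧ ∀ x ∈ F₁, p₁ x = x := by
    refine ⟨F₁.subtype ∘ₗ F₁.projectionOnto C₁ hC₁, fun m => Submodule.coe_mem _, fun x hx => ?_⟩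
    rw [LinearMap.comp_apply, Submodule.projectionOnto_apply_of_mem_left hC₁ hx]
    rfl
  have hP : ∀ d, PP F₁ π' (k' - d) := by
    intro d
    induction d with
    | zero => exact PP_top F₁ F₂ π' (fun z hz => (hπ' z).2 hz) k' hle
    | succ d ih =>
      by_cases hd : k' - d = 0
      · have e : k' - (d + 1) = k' - d := by omega
        rw [e]
        exact ih
      · have e : k' - d = (k' - (d + 1)) + 1 := by omega
        rw [e] at ih
        exact PP_step F₁ π' p₁ hp₁mem hp₁id s hs _ ih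
  have hP0 : PP F₁ π' 0 := by
    have := hP k'
    rwa [Nat.sub_self] at this
  intro x hx
  rw [← hπ']
  have h1 : ∀ θ : M →ₗ[R] R, θ (π' x) = 0 := by
    intro θ
    have := hP0 (fun i => i.elim0) (fun i => i.elim0) x hx θ
    simpa using this
  have h2 : s (π' x) = 0 := Finsupp.ext fun m => h1 (Finsupp.lapply m ∘ₗ s)
  have h3 := LinearMap.congr_fun hs (π' x)
  rw [LinearMap.comp_apply, h2, map_zero, LinearMap.id_apply] at h3
  exact h3.symm

theorem main19148 [Module.Finite R M] [Module.Projective R M] (F₁ F₂ : Submodule R M)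
    (h₁ : ∃ C : Submodule R M, IsCompl F₁ C) (h₂ : ∃ C : Submodule R M, IsCompl F₂ C) (k : ℕ)
    (hk : 1 ≤ k) :
    LinearMap.range (PiTensorProduct.map (R := R) (fun _ : Fin k => F₁.subtype)) =
      LinearMap.range (PiTensorProduct.map (R := R) (fun _ : Fin k => F₂.subtype)) ↔ F₁ = F₂ := by
  constructor
  · intro h
    exact le_antisymm (key F₁ F₂ h₁ h₂ k hk h.le) (key F₂ F₁ h₂ h₁ k hk h.ge)
  · rintro rfl
    rfl

end Groth.Agent.Lib.TensorPowSummandH4
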