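import Mathlib.Algebra.Homology.Embedding.CochainComplex
import Mathlib.Algebra.Homology.HomotopyCategory.MappingCone
import Mathlib.Algebra.Homology.HomotopyCategory.MappingCocone
import Mathlib.Algebra.Homology.HomologicalComplexBiprod

/-!
# Termwise split factorizations of morphisms of cochain complexes (helper2)

Shared helper for S6598 / S6599.
-/

set_option autoImplicit false
universe v u
open CategoryTheory CategoryTheory.Limits

namespace Groth.Agent.Lib.TermwiseSplit_helper2

section Shear

variable {C : Type u} [Category.{v} C] [Preadditive C] [HasBinaryBiproducts C]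

/-- The shear automorphism `(a, c) ↦ (a, c - t a)` of `A ⊞ B`. -/
noncomputable def shear {A B : C} (t : A ⟶ B) : A ⊞ B ≅ A ⊞ B where
  hom := biprod.lift biprod.fst (biprod.snd - biprod.fst ≫ t)
  inv := biprod.lift biprod.fst (biprod.snd + biprod.fst ≫ t)
  hom_inv_id := by
    apply biprod.hom_ext <;> simp
  inv_hom_id := by
    apply biprod.hom_ext <;> simp

/-- If `i : A ⟶ B` becomes a section of the first projection under an isomorphism
`B ≅ A ⊞ C'`, then after a shear it becomes the first inclusion. -/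
lemma exists_iso_inl {A B C' : C} (e₀ : B ≅ A ⊞ C') (i : A ⟶ B)
    (h : i ≫ e₀.hom ≫ biprod.fst = 𝟙 A) :
    ∃ e : B ≅ A ⊞ C', i ≫ e.hom = biprod.inl := by
  refine ⟨e₀ ≪≫ shear (i ≫ e₀.hom ≫ biprod.snd), ?_⟩
  apply biprod.hom_ext
  · simp [shear, h]
  · simp [shear, reassoc_of% h]

/-- The shear automorphism `(a, b) ↦ (a, b + t a)` of `A ⊞ B`, written with `desc`. -/
noncomputable def shear' {A B : C} (t : A ⟶ B) : A ⊞ B ≅ A ⊞ B where
  hom := biprod.desc (biprod.inl + t ≫ biprod.inr) biprod.inr
  inv := biprod.desc (biprod.inl - t ≫ biprod.inr) biprod.inr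
  hom_inv_id := by
    apply biprod.hom_ext' <;> simp
  inv_hom_id := by
    apply biprod.hom_ext' <;> simp

/-- If `p : B ⟶ A` becomes a retraction of the second inclusion under an isomorphism
`B ≅ C' ⊞ A`, then after a shear it becomes the second projection. -/
lemma exists_iso_snd {A B C' : C} (e₀ : B ≅ C' ⊞ A) (p : B ⟶ A)
    (h : biprod.inr ≫ e₀.inv ≫ p = 𝟙 A) :
    ∃ e : B ≅ C' ⊞ A, e.inv ≫ p = biprod.snd := by
  refine ⟨e₀ ≪≫ (shear' (biprod.inl ≫ e₀.inv ≫ p)), ?_⟩
  apply biprod.hom_ext'
  · simp [shear', h]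
  · simp [shear', h]

end Shear

end Groth.Agent.Lib.TermwiseSplit_helper2
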