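import Mathlib

open MvPolynomial

namespace Groth.Agent.Lib.TernBasis

universe u

theorem single_add_tsub {σ : Type*} (j : σ) (m : σ →₀ ℕ) (h : 2 ≤ m j) :
    Finsupp.single j 2 + (m - Finsupp.single j 2) = m :=
  add_tsub_cancel_of_le (Finsupp.single_le_iff.mpr h)

theorem degree_tsub {σ : Type*} (j : σ) (m : σ →₀ ℕ) (h : 2 ≤ m j) :
    (m - Finsupp.single j 2).degree + 2 = m.degree := by
  conv_rhs => rw [← single_add_tsub j m h]
  rw [map_add, Finsupp.degree_single, add_comm]

theorem le_one_of_degree_two {σ : Type*} (j : σ) (d : σ →₀ ℕ) (hd : d.degree = 2)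
    (hne : d ≠ Finsupp.single j 2) : d j ≤ 1 := by
  by_contra hcon
  push_neg at hcon
  have h2 : 2 ≤ d j := hcon
  have h3 := degree_tsub j d h2
  rw [hd] at h3
  have h4 : (d - Finsupp.single j 2).degree = 0 := by omega
  have h5 : d - Finsupp.single j 2 = 0 := (Finsupp.degree_eq_zero_iff _).mp h4
  apply hne
  rw [← single_add_tsub j d h2, h5, add_zero]

variable {R : Type u} [CommRing R] (j : Fin 3) (q : MvPolynomial (Fin 3) R) (n : ℕ)

noncomputable abbrev fam : ({m : Fin 3 →₀ ℕ // m.degree = n ∧ m j < 2} ⊕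
    {m : Fin 3 →₀ ℕ // m.degree + 2 = n}) → MvPolynomial (Fin 3) R :=
  Sum.elim (fun m : {m : Fin 3 →₀ ℕ // m.degree = n ∧ m j < 2} => monomial m.1 (1 : R))
    (fun m : {m : Fin 3 →₀ ℕ // m.degree + 2 = n} => q * monomial m.1 (1 : R))

theorem mono_mem (hq : q.IsHomogeneous 2) (hu : IsUnit (q.coeff (Finsupp.single j 2))) :
    ∀ N : ℕ, ∀ m : Fin 3 →₀ ℕ, m.degree = n → m j ≤ N →
      monomial m (1:R) ∈ Submodule.span R (Set.range (fam j q n)) := by
  classical
  intro N
  induction N with
  | zero =>
    intro m hm hmj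
    exact Submodule.subset_span ⟨Sum.inl ⟨m, hm, by omega⟩, rfl⟩
  | succ N ih =>
    intro m hm hmj
    by_cases h2 : m j < 2
    · exact Submodule.subset_span ⟨Sum.inl ⟨m, hm, h2⟩, rfl⟩
    push_neg at h2
    obtain ⟨m', hm'⟩ : ∃ m', m' = m - Finsupp.single j 2 := ⟨_, rfl⟩
    have hm'deg : m'.degree + 2 = n := by rw [← hm, hm']; exact degree_tsub j m h2
    have hmm' : Finsupp.single j 2 + m' = m := by rw [hm']; exact single_add_tsub j m h2
    obtain ⟨u, hu_def⟩ : ∃ u, u = q.coeff (Finsupp.single j 2) := ⟨_, rfl⟩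
    rw [← hu_def] at hu
    obtain ⟨q', hq'⟩ : ∃ q', q' = q - monomial (Finsupp.single j 2) u := ⟨_, rfl⟩
    have h1 : q * monomial m' (1:R) ∈ Submodule.span R (Set.range (fam j q n)) :=
      Submodule.subset_span ⟨Sum.inr ⟨m', hm'deg⟩, rfl⟩
    have h2' : q' * monomial m' (1:R) ∈ Submodule.span R (Set.range (fam j q n)) := by
      rw [← support_sum_monomial_coeff q', Finset.sum_mul]
      refine Submodule.sum_mem _ fun d hd => ?_
      rw [monomial_mul, mul_one]
      have hcd : coeff d q' ≠ 0 := mem_support_iff.mp hd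
      have hd_ne : d ≠ Finsupp.single j 2 := by
        intro hdeq
        apply hcd
        rw [hdeq, hq', coeff_sub, coeff_monomial, if_pos rfl, hu_def, sub_self]
      have hcq : coeff d q ≠ 0 := by
        intro h0
        apply hcd
        rw [hq', coeff_sub, coeff_monomial, if_neg (Ne.symm hd_ne), h0, sub_zero]
      have hdd : d.degree = 2 := by rw [Finsupp.degree_eq_weight_one]; exact hq hcq
      have hdj : d j ≤ 1 := le_one_of_degree_two j d hdd hd_ne
      have hmem := ih (d + m') (by rw [map_add, hdd]; omega) (by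
        rw [Finsupp.add_apply, hm', Finsupp.tsub_apply, Finsupp.single_eq_same]; omega)
      have hsm : monomial (d + m') (coeff d q') = coeff d q' • monomial (d + m') (1:R) := by
        rw [smul_monomial, smul_eq_mul, mul_one]
      rw [hsm]
      exact Submodule.smul_mem _ _ hmem
    have h3 : monomial m u = q * monomial m' (1:R) - q' * monomial m' (1:R) := by
      rw [← sub_mul, hq', sub_sub_cancel, monomial_mul, mul_one, hmm']
    have h4 : monomial m u ∈ Submodule.span R (Set.range (fam j q n)) := by
      rw [h3]; exact Submodule.sub_mem _ h1 h2'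
    obtain ⟨v, hv⟩ := hu.exists_left_inv
    have h5 : monomial m (1:R) = v • monomial m u := by
      rw [smul_monomial, smul_eq_mul, hv]
    rw [h5]; exact Submodule.smul_mem _ _ h4

theorem span_eq (hq : q.IsHomogeneous 2) (hu : IsUnit (q.coeff (Finsupp.single j 2))) :
    Submodule.span R (Set.range (fam j q n)) = homogeneousSubmodule (Fin 3) R n := by
  apply le_antisymm
  · rw [Submodule.span_le]
    rintro _ ⟨s, rfl⟩
    rcases s with ⟨m, hm, _⟩ | ⟨m, hm⟩
    · show (monomial m (1:R)).IsHomogeneous n
      exact isHomogeneous_monomial _ hm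
    · show (q * monomial m (1:R)).IsHomogeneous n
      have h1 := hq.mul (isHomogeneous_monomial (1:R) (rfl : m.degree = m.degree))
      have h2 : 2 + m.degree = n := by omega
      rw [h2] at h1
      exact h1
  · intro p hp
    have hp' : p.IsHomogeneous n := hp
    rw [← support_sum_monomial_coeff p]
    refine Submodule.sum_mem _ fun d hd => ?_
    have hdd : d.degree = n := by rw [Finsupp.degree_eq_weight_one]; exact hp' (mem_support_iff.mp hd)
    have hsm : monomial d (coeff d p) = coeff d p • monomial d (1:R) := by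
      rw [smul_monomial, smul_eq_mul, mul_one]
    rw [hsm]
    exact Submodule.smul_mem _ _ (mono_mem j q n hq hu (d j) d hdd le_rfl)

noncomputable def idx : ({m : Fin 3 →₀ ℕ // m.degree = n ∧ m j < 2} ⊕
    {m : Fin 3 →₀ ℕ // m.degree + 2 = n}) → (Fin 3 →₀ ℕ) :=
  Sum.elim (fun m => m.1) (fun m => Finsupp.single j 2 + m.1)

theorem idx_injective : Function.Injective (idx j n) := by
  rintro (⟨a, ha, ha2⟩ | ⟨a, ha⟩) (⟨b, hb, hb2⟩ | ⟨b, hb⟩) h
  · simp only [idx, Sum.elim_inl] at h; subst h; rfl
  · exfalso
    simp only [idx, Sum.elim_inl, Sum.elim_inr] at h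
    have h1 := congrArg (fun f => f j) h
    simp only [Finsupp.add_apply, Finsupp.single_eq_same] at h1
    omega
  · exfalso
    simp only [idx, Sum.elim_inl, Sum.elim_inr] at h
    have h1 := congrArg (fun f => f j) h
    simp only [Finsupp.add_apply, Finsupp.single_eq_same] at h1
    omega
  · simp only [idx, Sum.elim_inr, add_right_inj] at h; subst h; rfl

theorem idx_degree (s) : (idx j n s).degree = n := by
  rcases s with ⟨a, ha, _⟩ | ⟨a, ha⟩
  · exact ha
  · simp only [idx, Sum.elim_inr, map_add, Finsupp.degree_single]; omega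

theorem linInd (hq : q.IsHomogeneous 2) (hu : IsUnit (q.coeff (Finsupp.single j 2))) :
    LinearIndependent R (fam j q n) := by
  classical
  haveI : Module.Finite R (homogeneousSubmodule (Fin 3) R n) :=
    Module.Finite.iff_fg.mpr (homogeneousSubmodule_fg (Fin 3) R n)
  let v : ({m : Fin 3 →₀ ℕ // m.degree = n ∧ m j < 2} ⊕
      {m : Fin 3 →₀ ℕ // m.degree + 2 = n}) → homogeneousSubmodule (Fin 3) R n :=
    fun s => ⟨monomial (idx j n s) (1:R), isHomogeneous_monomial _ (idx_degree j n s)⟩
  have hv : LinearIndependent R v := by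
    apply LinearIndependent.of_comp (homogeneousSubmodule (Fin 3) R n).subtype
    have h1 : ((homogeneousSubmodule (Fin 3) R n).subtype ∘ v) =
        (basisMonomials (Fin 3) R) ∘ (idx j n) := by
      funext s; rfl
    rw [h1]
    exact (basisMonomials (Fin 3) R).linearIndependent.comp _ (idx_injective j n)
  have hfamH : ∀ s, fam j q n s ∈ homogeneousSubmodule (Fin 3) R n := fun s => by
    rw [← span_eq j q n hq hu]; exact Submodule.subset_span ⟨s, rfl⟩
  let Φ' : ({m : Fin 3 →₀ ℕ // m.degree = n ∧ m j < 2} ⊕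
      {m : Fin 3 →₀ ℕ // m.degree + 2 = n}) → homogeneousSubmodule (Fin 3) R n :=
    fun s => ⟨fam j q n s, hfamH s⟩
  have hspan : Submodule.span R (Set.range Φ') = ⊤ := by
    apply Submodule.map_injective_of_injective
      (homogeneousSubmodule (Fin 3) R n).injective_subtype
    rw [Submodule.map_span, ← Set.range_comp, Submodule.map_subtype_top]
    exact span_eq j q n hq hu
  have hsurj : Function.Surjective (Finsupp.linearCombination R Φ') := by
    rw [← LinearMap.range_eq_top, Finsupp.range_linearCombination, hspan]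
  have hinj := OrzechProperty.injective_of_surjective_of_injective
    (Finsupp.linearCombination R v) (Finsupp.linearCombination R Φ') hv hsurj
  have hΦ' : LinearIndependent R Φ' := hinj
  exact hΦ'.map' (homogeneousSubmodule (Fin 3) R n).subtype (Submodule.ker_subtype _)

theorem main (R : Type u) [CommRing R] (j : Fin 3) (q : MvPolynomial (Fin 3) R)
    (hq : q.IsHomogeneous 2) (hqj : IsUnit (q.coeff (Finsupp.single j 2))) (n : ℕ) :
    LinearIndependent R (fam j q n) ∧
      Submodule.span R (Set.range (fam j q n)) = homogeneousSubmodule (Fin 3) R n :=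
  ⟨linInd j q n hq hqj, span_eq j q n hq hqj⟩

end Groth.Agent.Lib.TernBasis
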