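import Mathlib
import Groth.Prelude
import Groth.Agent.Lib.TTGen2_lead
import Groth.Agent.Lib.DualSch2_helper3
import Groth.Agent.Lib.LpullAdj_helper3
import Groth.Agent.Lib.RpushPCUnb_helper3

/-!
# Testing isomorphisms in `D_QCoh` with `Rf_* RHom(F, -)` (helper3; S11113)

* `bijective_of_adj`: if `Φ(φ)` is an isomorphism for a right adjoint `Φ` of `Ψ`, then `φ` induces
  bijections on `Hom(Ψ Z, -)`;
* `noHom_cone_of_bijective`, `isIso_of_bijective_perfect`: a morphism of `D_QCoh` of a qcqs scheme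
  inducing bijections on `Hom(P, -)` for all perfect `P` is an isomorphism (perfect generator);
* `main11113`.
-/

set_option autoImplicit false
set_option linter.all false
set_option maxHeartbeats 1600000
set_option backward.isDefEq.respectTransparency false
set_option backward.isDefEq.respectTransparency.types false
set_option backward.defeqAttrib.useBackward true

universe u

open CategoryTheory CategoryTheory.Limits AlgebraicGeometry TopologicalSpace Opposite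
open DerivedCategory CategoryTheory.Pretriangulated

attribute [local instance] HasDerivedCategory.standard

namespace Groth.Agent.Lib.TestIsoH3

open Groth.Agent.Lib Groth.Agent.Lib.DCohLocLead Groth.Agent.Lib.PerfLocL
open Groth.Agent.Lib.HomVanL Groth.Agent.Lib.CompQL Groth.Agent.Lib.SerreHomL
open Groth.Agent.Lib.TTLiftL Groth.Agent.Lib.TTApxL Groth.Agent.Lib.TTSuppL
open Groth.Agent.Lib.TTGlueL Groth.Agent.Lib.TTGenL

noncomputable section

attribute [local instance] rpushI lpullI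

theorem bijective_of_adj {C D : Type*} [Category C] [Category D] {Ψ : C ⥤ D} {Φ : D ⥤ C}
    (adj : Ψ ⊣ Φ) {A₁ A₂ : D} (φ : A₁ ⟶ A₂) (hφ : IsIso (Φ.map φ)) (Z : C) :
    Function.Bijective (fun w : Ψ.obj Z ⟶ A₁ => w ≫ φ) := by
  haveI := hφ
  constructor
  · intro w w' hww
    have h1 : adj.homEquiv Z A₁ w ≫ Φ.map φ = adj.homEquiv Z A₁ w' ≫ Φ.map φ := by
      rw [← adj.homEquiv_naturality_right, ← adj.homEquiv_naturality_right]
      exact congrArg _ hww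
    exact (adj.homEquiv Z A₁).injective ((cancel_mono (Φ.map φ)).1 h1)
  · intro x
    refine ⟨(adj.homEquiv Z A₁).symm (adj.homEquiv Z A₂ x ≫ inv (Φ.map φ)), ?_⟩
    apply (adj.homEquiv Z A₂).injective
    show adj.homEquiv Z A₂ ((adj.homEquiv Z A₁).symm (adj.homEquiv Z A₂ x ≫ inv (Φ.map φ)) ≫ φ) = _
    rw [adj.homEquiv_naturality_right, Equiv.apply_symm_apply, Category.assoc, IsIso.inv_hom_id,
      Category.comp_id]

theorem noHom_cone_of_bijective {X : Scheme.{u}} {F G C : DCoh.D X} (φ : F ⟶ G) (q : G ⟶ C)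
    (δ : C ⟶ F⟦(1 : ℤ)⟧) (hT : Triangle.mk φ q δ ∈ distTriang (DCoh.D X)) (P : DCoh.D X)
    (h0 : Function.Surjective (fun w : P ⟶ F => w ≫ φ))
    (h1 : Function.Injective (fun w : P⟦(-1 : ℤ)⟧ ⟶ F => w ≫ φ)) : NoHom P C := by
  intro x
  -- `x ≫ δ = 0`
  have hy : x ≫ δ = 0 := by
    have hy0 : (x ≫ δ) ≫ φ⟦(1 : ℤ)⟧' = 0 := by
      have h2 : δ ≫ φ⟦(1 : ℤ)⟧' = 0 := comp_distTriang_mor_zero₃₁ _ hT
      rw [Category.assoc, h2, comp_zero]
    let ιF := (shiftFunctorCompIsoId (DCoh.D X) (1 : ℤ) (-1 : ℤ) (by omega)).app F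
    let ιG := (shiftFunctorCompIsoId (DCoh.D X) (1 : ℤ) (-1 : ℤ) (by omega)).app G
    have hnat : ((φ⟦(1 : ℤ)⟧')⟦(-1 : ℤ)⟧') ≫ ιG.hom = ιF.hom ≫ φ :=
      (shiftFunctorCompIsoId (DCoh.D X) (1 : ℤ) (-1 : ℤ) (by omega)).hom.naturality φ
    have h3 : ((x ≫ δ)⟦(-1 : ℤ)⟧' ≫ ιF.hom) ≫ φ = (0 : P⟦(-1 : ℤ)⟧ ⟶ F) ≫ φ := by
      rw [Category.assoc, ← hnat, ← Category.assoc, ← Functor.map_comp, hy0, Functor.map_zero,
        zero_comp, zero_comp]
    have h4 : (x ≫ δ)⟦(-1 : ℤ)⟧' ≫ ιF.hom = 0 := h1 h3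
    have h5 : (x ≫ δ)⟦(-1 : ℤ)⟧' = 0 := by
      rw [← cancel_mono ιF.hom, h4, zero_comp]
    exact (shiftFunctor (DCoh.D X) (-1 : ℤ)).map_injective (h5.trans (Functor.map_zero _ _ _).symm)
  obtain ⟨z, hz⟩ := Triangle.coyoneda_exact₃ _ hT x hy
  obtain ⟨w, hw⟩ := h0 z
  have hw' : w ≫ φ = z := hw
  have h6 : φ ≫ q = 0 := comp_distTriang_mor_zero₁₂ _ hT
  have hz' : x = z ≫ q := hz
  rw [hz', ← hw', Category.assoc, h6, comp_zero]

theorem isIso_of_bijective_perfect (X : Scheme.{u}) [CompactSpace X] [QuasiSeparatedSpace X]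
    {F G : DCoh.D X} (hF : DCoh.IsQCohD F) (hG : DCoh.IsQCohD G) (φ : F ⟶ G)
    (h : ∀ P : DCoh.D X, DCoh.IsPerfect P → Function.Bijective (fun w : P ⟶ F => w ≫ φ)) :
    IsIso φ := by
  obtain ⟨C, q, δ, hT⟩ := distinguished_cocone_triangle φ
  have hCq : DCoh.IsQCohD C := RpushQCL.isQCohD_obj₃ _ hT hF hG
  obtain ⟨Gen, hGen, -, hgen⟩ := exists_generator X ⊥ (by simp)
  haveI : IsEmpty ((⊥ : X.Opens) : Scheme.{u}) := ⟨fun x => x.2⟩
  have hCz : IsZero C := by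
    refine hgen C hCq (isZero_of_isEmpty _ _) (fun m => ?_)
    refine NoHom.shift_right m (-m) (by omega) ?_
    have hP : DCoh.IsPerfect (Gen⟦-m⟧) := isPerfect_shift hGen (-m)
    exact noHom_cone_of_bijective φ q δ hT (Gen⟦-m⟧) (h _ hP).2
      (h _ (isPerfect_shift hP (-1))).1
  exact (Triangle.isZero₃_iff_isIso₁ _ hT).1 hCz

/-- `O_X ⊗^L F ≅ F` -/
theorem nonempty_LTensorCx_unit_iso' {X : Scheme.{u}} (F : CochainComplex X.Modules ℤ)
    [∀ F : CochainComplex X.Modules ℤ, DCoh.HasLTensorCx F] :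
    Nonempty ((DCoh.LTensorCx F).obj (sgl X 0 (Coh.structureModule X)) ≅ Q.obj F) := by
  obtain ⟨F', π, hF', hπ⟩ := Groth.Agent.Lib.DTorCmp.exists_kflat_resolution' F
  haveI := hπ
  haveI : IsIso (Q.map π) := by rw [DerivedCategory.isIso_Q_map_iff_quasiIso]; infer_instance
  obtain ⟨γ⟩ := DualSchH3.nonempty_LTensorCx_iso_of_Q_iso F F' (asIso (Q.map π)).symm
  obtain ⟨ε⟩ := DualSchH3.nonempty_LTensorCx_unit_iso F' hF'
  exact ⟨γ.app _ ≪≫ ε ≪≫ asIso (Q.map π)⟩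

/-- **S11113** -/
theorem main11113 {X Y : Scheme.{u}} [CompactSpace X] [QuasiSeparatedSpace X]
    (f : X ⟶ Y) [DCoh.HasRpush f]
    [hT : ∀ F : CochainComplex X.Modules ℤ, DCoh.HasLTensorCx F]
    [hR : ∀ F : CochainComplex X.Modules ℤ, DCoh.HasRSheafHom F]
    {A₁ A₂ : DCoh.D X} (h₁ : DCoh.IsQCohD A₁) (h₂ : DCoh.IsQCohD A₂) (φ : A₁ ⟶ A₂)
    (h : ∀ F : CochainComplex X.Modules ℤ,
      (∀ m : ℤ, DCoh.IsPseudoCoherentD m (DCoh.toD X F)) →
      IsIso ((DCoh.Rpush f).map ((DCoh.RSheafHom F).map φ))) :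
    IsIso φ := by
  apply isIso_of_bijective_perfect X h₁ h₂ φ
  intro P hP
  obtain ⟨F₀, ⟨e⟩⟩ : ∃ F₀ : CochainComplex X.Modules ℤ, Nonempty (Q.obj F₀ ≅ P) :=
    ⟨Q.objPreimage P, ⟨Q.objObjPreimageIso P⟩⟩
  have hpc : ∀ m : ℤ, DCoh.IsPseudoCoherentD m (DCoh.toD X F₀) := fun m =>
    isPC_of_iso e.symm (isPC_of_isPerfect hP m)
  have hiso := h F₀ hpc
  obtain ⟨adj1⟩ := LpullAdjH3.nonempty_adj f
  let adj := adj1.comp (DCoh.RSheafHomAdj F₀)
  have hiso' : IsIso ((DCoh.RSheafHom F₀ ⋙ DCoh.Rpush f).map φ) := hiso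
  have hbij := bijective_of_adj adj φ hiso' (sgl Y 0 (Coh.structureModule Y))
  obtain ⟨c1⟩ := lpull_sgl_unit f 0 (sgl Y 0 (Coh.structureModule Y)) ⟨Iso.refl _⟩
  obtain ⟨c2⟩ := nonempty_LTensorCx_unit_iso' F₀
  let ψ : (DCoh.Lpull f ⋙ DCoh.LTensorCx F₀).obj (sgl Y 0 (Coh.structureModule Y)) ≅ P :=
    (DCoh.LTensorCx F₀).mapIso c1 ≪≫ c2 ≪≫ e
  constructor
  · intro w w' hww
    have h3 : (ψ.hom ≫ w) ≫ φ = (ψ.hom ≫ w') ≫ φ := by
      rw [Category.assoc, Category.assoc]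
      exact congrArg (fun t => ψ.hom ≫ t) hww
    exact (cancel_epi ψ.hom).1 (hbij.1 h3)
  · intro x
    obtain ⟨w, hw⟩ := hbij.2 (ψ.hom ≫ x)
    refine ⟨ψ.inv ≫ w, ?_⟩
    have hw' : w ≫ φ = ψ.hom ≫ x := hw
    show (ψ.inv ≫ w) ≫ φ = x
    rw [Category.assoc, hw', Iso.inv_hom_id_assoc]

end

end Groth.Agent.Lib.TestIsoH3
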