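import Mathlib
import Groth.Prelude.Def_CAlg

/-!
# Kollár's tetrachotomy for Noetherian local rings  (helper3)
-/

universe u

open IsLocalRing

namespace Groth.Agent.Lib.TetrachotomyH3

section Ass

variable {R : Type u} [CommRing R] [IsLocalRing R] [IsNoetherianRing R]

theorem exists_killed_of_forall_zero_divisor (N : Type*) [AddCommGroup N] [Module R N]
    [Module.Finite R N]
    (h : ∀ a ∈ maximalIdeal R, ∃ x : N, x ≠ 0 ∧ a • x = 0) :
    ∃ y : N, y ≠ 0 ∧ ∀ a ∈ maximalIdeal R, a • y = 0 := by
  classical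
  have hfin : (associatedPrimes R N).Finite := associatedPrimes.finite R N
  have hsub : ((maximalIdeal R : Ideal R) : Set R) ⊆
      ⋃ p ∈ ((hfin.toFinset : Finset (Ideal R)) : Set (Ideal R)), (p : Set R) := by
    intro a ha
    have h1 : a ∈ { r : R | ∃ x : N, x ≠ 0 ∧ r • x = 0 } := h a ha
    rw [← biUnion_associatedPrimes_eq_zero_divisors R N] at h1
    simpa using h1
  have hp : ∀ p ∈ hfin.toFinset, p ≠ (⊥ : Ideal R) → p ≠ (⊥ : Ideal R) → Ideal.IsPrime p := by
    intro p hp _ _
    rw [Set.Finite.mem_toFinset] at hp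
    exact hp.1
  obtain ⟨p, hpmem, hle⟩ := (Ideal.subset_union_prime (f := fun p : Ideal R => p) ⊥ ⊥ hp).1 hsub
  rw [Set.Finite.mem_toFinset] at hpmem
  have hpprime : p.IsPrime := hpmem.1
  have hpeq : p = maximalIdeal R :=
    ((maximalIdeal.isMaximal R).eq_of_le hpprime.ne_top hle).symm
  obtain ⟨_, y, hy⟩ := (Submodule.isAssociatedPrime_iff).1 hpmem
  refine ⟨y, ?_, ?_⟩
  · rintro rfl
    apply hpprime.ne_top
    rw [hy, Ideal.eq_top_iff_one, Submodule.mem_colon_singleton]
    simp
  · intro a ha
    have : a ∈ p := hpeq ▸ ha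
    rw [hy, Submodule.mem_colon_singleton] at this
    simpa using this

theorem not_regular_of_depth_le_one (h3 : LocCoh.depth R R ≤ 1) (f g : R)
    (hf : f ∈ maximalIdeal R) (hg : g ∈ maximalIdeal R) (hfreg : IsSMulRegular R f) :
    ¬ IsSMulRegular (QuotSMulTop f R) g := by
  intro hgreg
  have hw : RingTheory.Sequence.IsWeaklyRegular R [f, g] := by
    rw [RingTheory.Sequence.isWeaklyRegular_cons_iff, RingTheory.Sequence.isWeaklyRegular_cons_iff]
    exact ⟨hfreg, hgreg, RingTheory.Sequence.IsWeaklyRegular.nil _ _⟩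
  have hne : ¬ (maximalIdeal R • (⊤ : Submodule R R) = ⊤) := by
    rw [smul_eq_mul, Ideal.mul_top]
    exact (maximalIdeal.isMaximal R).ne_top
  have h2 : (2 : ℕ∞) ≤ LocCoh.depth R R := by
    unfold LocCoh.depth LocCoh.idealDepth
    rw [if_neg hne]
    refine le_iSup₂_of_le [f, g] ⟨hw, ?_⟩ ?_
    · intro r hr
      simp only [List.mem_cons, List.not_mem_nil, or_false] at hr
      rcases hr with rfl | rfl
      · exact hf
      · exact hg
    · simp
  have := h2.trans h3
  exact absurd this (by norm_num)

theorem withBot_eq_one {x : WithBot ℕ∞} (h0 : ¬ x ≤ 0) (h1 : x ≤ 1) : x = 1 := by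
  induction x using WithBot.recBotCoe with
  | bot => exact absurd bot_le h0
  | coe n =>
    induction n using ENat.recTopCoe with
    | top =>
      exfalso
      have : ((⊤ : ℕ∞) : WithBot ℕ∞) ≤ ((1 : ℕ∞) : WithBot ℕ∞) := h1
      rw [WithBot.coe_le_coe] at this
      simp at this
    | coe m =>
      have h1' : ((m : ℕ∞) : WithBot ℕ∞) ≤ ((1 : ℕ) : ℕ∞) := by simpa using h1
      have h0' : ¬ ((m : ℕ∞) : WithBot ℕ∞) ≤ ((0 : ℕ) : ℕ∞) := by simpa using h0
      rw [WithBot.coe_le_coe, Nat.cast_le] at h1' h0'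
      have : m = 1 := by omega
      subst this
      rfl

end Ass


section CaseA

variable {R : Type u} [CommRing R] [IsLocalRing R] [IsNoetherianRing R]

/-- the elements killed by `m ^ n` -/
def J (R : Type u) [CommRing R] [IsLocalRing R] (n : ℕ) : Ideal R where
  carrier := {x | ∀ a ∈ maximalIdeal R ^ n, a * x = 0}
  add_mem' := fun {x y} hx hy a ha => by rw [mul_add, hx a ha, hy a ha, add_zero]
  zero_mem' := fun a _ => mul_zero a
  smul_mem' := fun c x hx a ha => by
    rw [smul_eq_mul, mul_left_comm, hx a ha, mul_zero]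

theorem mem_J {n : ℕ} {x : R} : x ∈ J R n ↔ ∀ a ∈ maximalIdeal R ^ n, a * x = 0 := Iff.rfl

theorem J_mono : Monotone (J R) := by
  intro n k hnk x hx a ha
  exact hx a (Ideal.pow_le_pow_right hnk ha)

theorem caseA (h1 : ¬ IsArtinianRing R)
    (hA : ∀ f ∈ maximalIdeal R, ¬ IsSMulRegular R f) :
    ∃ (R' : Type u) (_ : CommRing R') (_ : Algebra R R'), Nontrivial R' ∧ Module.Finite R R' ∧
      ¬ Function.Bijective (algebraMap R R') ∧
      (∃ n : ℕ, (∀ x : R, algebraMap R R' x = 0 → ∀ a ∈ maximalIdeal R ^ n, a * x = 0) ∧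
        (∀ y : R', ∀ a ∈ maximalIdeal R ^ n, a • y ∈ Set.range (algebraMap R R'))) ∧
      maximalIdeal R ∉ associatedPrimes R R' := by
  -- a nonzero element killed by `m`
  obtain ⟨z, hz0, hz⟩ := exists_killed_of_forall_zero_divisor (R := R) R (by
    intro a ha
    have := hA a ha
    rw [IsSMulRegular, Function.Injective] at this
    push Not at this
    obtain ⟨x, y, hxy, hne⟩ := this
    refine ⟨x - y, sub_ne_zero.2 hne, ?_⟩
    rw [smul_sub]
    exact sub_eq_zero.2 hxy)
  -- stabilization
  obtain ⟨n₀, hn₀⟩ := monotone_stabilizes_iff_noetherian.2 (inferInstance : IsNoetherian R R)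
    ⟨J R, J_mono⟩
  have hstab : ∀ k, n₀ + 1 ≤ k → J R k = J R (n₀ + 1) := by
    intro k hk
    have e1 : J R n₀ = J R k := hn₀ k (by omega)
    have e2 : J R n₀ = J R (n₀ + 1) := hn₀ (n₀ + 1) (by omega)
    rw [← e1, e2]
  set I : Ideal R := J R (n₀ + 1) with hI
  have hzI : z ∈ I := by
    intro a ha
    have : a ∈ maximalIdeal R := Ideal.pow_le_self (by omega) ha
    have := hz a this
    rwa [smul_eq_mul] at this
  have hIne : I ≠ ⊤ := by
    intro htop
    have h1I : (1 : R) ∈ I := htop ▸ Submodule.mem_top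
    apply h1
    rw [isArtinianRing_iff_isNilpotent_maximalIdeal]
    refine ⟨n₀ + 1, ?_⟩
    rw [Ideal.zero_eq_bot, eq_bot_iff]
    intro a ha
    have := h1I a ha
    rw [mul_one] at this
    exact this
  refine ⟨R ⧸ I, inferInstance, inferInstance, Ideal.Quotient.nontrivial_iff.2 hIne, inferInstance, ?_,
    ⟨n₀ + 1, ?_, ?_⟩, ?_⟩
  · intro hbij
    apply hz0
    apply hbij.1
    rw [map_zero]
    exact Ideal.Quotient.eq_zero_iff_mem.2 hzI
  · intro x hx a ha
    have : x ∈ I := Ideal.Quotient.eq_zero_iff_mem.1 hx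
    exact this a ha
  · intro y a _
    obtain ⟨r, rfl⟩ := Ideal.Quotient.mk_surjective y
    exact ⟨a * r, by rw [Algebra.smul_def]; rfl⟩
  · intro hass
    obtain ⟨hprime, ybar, hy⟩ := (Submodule.isAssociatedPrime_iff).1 hass
    obtain ⟨y, rfl⟩ := Ideal.Quotient.mk_surjective ybar
    have hyI : y ∈ J R (n₀ + 1 + 1) := by
      intro c hc
      rw [pow_succ] at hc
      refine Submodule.mul_induction_on hc ?_ ?_
      · intro b hb a ha
        have h2 : a ∈ (⊥ : Submodule R (R ⧸ I)).colon {Ideal.Quotient.mk I y} := hy ▸ ha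
        rw [Submodule.mem_colon_singleton, Submodule.mem_bot] at h2
        have h3 : a * y ∈ I := by
          apply Ideal.Quotient.eq_zero_iff_mem.1
          rw [map_mul]
          rw [Algebra.smul_def] at h2
          exact h2
        have := h3 b hb
        rw [mul_assoc]
        exact this
      · intro x₁ x₂ h₁ h₂
        rw [add_mul, h₁, h₂, add_zero]
    rw [hstab (n₀ + 1 + 1) (by omega)] at hyI
    apply hprime.ne_top
    rw [hy, Ideal.eq_top_iff_one, Submodule.mem_colon_singleton, one_smul, Submodule.mem_bot]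
    exact Ideal.Quotient.eq_zero_iff_mem.2 hyI

end CaseA


section CaseB

variable {R : Type u} [CommRing R] [IsLocalRing R] [IsNoetherianRing R]

theorem caseB (h1 : ¬ IsArtinianRing R)
    (h2 : ¬ (IsRegularLocalRing R ∧ ringKrullDim R = 1)) (h3 : LocCoh.depth R R ≤ 1)
    (f : R) (hf : f ∈ maximalIdeal R) (hfreg : IsSMulRegular R f) :
    ∃ (R' : Type u) (_ : CommRing R') (_ : Algebra R R'), Nontrivial R' ∧ Module.Finite R R' ∧
      ¬ Function.Bijective (algebraMap R R') ∧
      (∃ n : ℕ, (∀ x : R, algebraMap R R' x = 0 → ∀ a ∈ maximalIdeal R ^ n, a * x = 0) ∧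
        (∀ y : R', ∀ a ∈ maximalIdeal R ^ n, a • y ∈ Set.range (algebraMap R R'))) ∧
      maximalIdeal R ∉ associatedPrimes R R' := by
  have hzd : ∀ a ∈ maximalIdeal R, ∃ x : QuotSMulTop f R, x ≠ 0 ∧ a • x = 0 := by
    intro a ha
    have := not_regular_of_depth_le_one h3 f a hf ha hfreg
    rw [IsSMulRegular, Function.Injective] at this
    push Not at this
    obtain ⟨x, y, hxy, hne⟩ := this
    exact ⟨x - y, sub_ne_zero.2 hne, by rw [smul_sub]; exact sub_eq_zero.2 hxy⟩
  obtain ⟨ybar, hy0, hy⟩ := exists_killed_of_forall_zero_divisor (R := R) (QuotSMulTop f R) hzd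
  obtain ⟨g, rfl⟩ := Submodule.Quotient.mk_surjective _ ybar
  have hgnot : ¬ ∃ b, g = f * b := by
    rintro ⟨b, rfl⟩
    apply hy0
    rw [Submodule.Quotient.mk_eq_zero, Submodule.mem_smul_pointwise_iff_exists]
    exact ⟨b, trivial, rfl⟩
  have hmg : ∀ a ∈ maximalIdeal R, ∃ b, a * g = f * b := by
    intro a ha
    have := hy a ha
    rw [← Submodule.Quotient.mk_smul, Submodule.Quotient.mk_eq_zero,
      Submodule.mem_smul_pointwise_iff_exists] at this
    obtain ⟨b, -, hb⟩ := this
    exact ⟨b, by rw [← smul_eq_mul, ← hb, smul_eq_mul]⟩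
  -- the localization
  have hfmem : f ∈ nonZeroDivisors R := by
    rw [mem_nonZeroDivisors_iff_right]
    intro x hx
    apply hfreg
    simp only [smul_eq_mul, mul_zero]
    rw [mul_comm]
    exact hx
  have hιinj : Function.Injective (algebraMap R (Localization.Away f)) :=
    IsLocalization.injective (Localization.Away f) (Submonoid.powers_le.2 hfmem)
  obtain ⟨invf, hinv⟩ : ∃ invf : Localization.Away f,
      algebraMap R (Localization.Away f) f * invf = 1 :=
    ⟨IsLocalization.Away.invSelf f, IsLocalization.Away.mul_invSelf f⟩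
  obtain ⟨y, hydef⟩ : ∃ y, y = algebraMap R (Localization.Away f) g * invf := ⟨_, rfl⟩
  have hrel : ∀ a b : R, a * g = f * b →
      algebraMap R (Localization.Away f) a * y = algebraMap R (Localization.Away f) b := by
    intro a b hab
    calc algebraMap R (Localization.Away f) a * y
        = algebraMap R (Localization.Away f) (a * g) * invf := by rw [hydef, map_mul]; ring
      _ = algebraMap R (Localization.Away f) b *
            (algebraMap R (Localization.Away f) f * invf) := by rw [hab, map_mul]; ring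
      _ = _ := by rw [hinv, mul_one]
  by_cases hB1 : ∀ a ∈ maximalIdeal R, ∀ b, a * g = f * b → b ∈ maximalIdeal R
  · -- the finite extension `R[y]`
    have hP : ∀ w ∈ Algebra.adjoin R ({y} : Set (Localization.Away f)),
        ∀ a ∈ maximalIdeal R, ∃ a' ∈ maximalIdeal R,
          algebraMap R (Localization.Away f) a * w = algebraMap R (Localization.Away f) a' := by
      intro w hw
      induction hw using Algebra.adjoin_induction with
      | mem x hx =>
        rw [Set.mem_singleton_iff] at hx
        subst hx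
        intro a ha
        obtain ⟨b, hb⟩ := hmg a ha
        exact ⟨b, hB1 a ha b hb, hrel a b hb⟩
      | algebraMap r =>
        intro a ha
        exact ⟨a * r, Ideal.mul_mem_right _ _ ha, by rw [map_mul]⟩
      | add x₁ x₂ _ _ hx₁ hx₂ =>
        intro a ha
        obtain ⟨a₁, ha₁, e₁⟩ := hx₁ a ha
        obtain ⟨a₂, ha₂, e₂⟩ := hx₂ a ha
        exact ⟨a₁ + a₂, Ideal.add_mem _ ha₁ ha₂, by rw [mul_add, e₁, e₂, map_add]⟩
      | mul x₁ x₂ _ _ hx₁ hx₂ =>
        intro a ha
        obtain ⟨a₁, ha₁, e₁⟩ := hx₁ a ha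
        obtain ⟨a₂, ha₂, e₂⟩ := hx₂ a₁ ha₁
        exact ⟨a₂, ha₂, by rw [← mul_assoc, e₁, e₂]⟩
    haveI : Nontrivial (Localization.Away f) := hιinj.nontrivial
    have hfin : Module.Finite R (Algebra.adjoin R ({y} : Set (Localization.Away f))) := by
      let ψ : R →ₗ[R] Localization.Away f := LinearMap.toSpanSingleton R _ invf
      have hWfg : (Submodule.map ψ (maximalIdeal R)).FG :=
        Submodule.FG.map ψ (IsNoetherian.noetherian (maximalIdeal R))
      have hle : Subalgebra.toSubmodule (Algebra.adjoin R ({y} : Set (Localization.Away f))) ≤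
          Submodule.map ψ (maximalIdeal R) := by
        intro w hw
        obtain ⟨a', ha', e⟩ := hP w hw f hf
        refine ⟨a', ha', ?_⟩
        show a' • invf = w
        rw [Algebra.smul_def, ← e]
        calc algebraMap R (Localization.Away f) f * w * invf
            = (algebraMap R (Localization.Away f) f * invf) * w := by ring
          _ = w := by rw [hinv, one_mul]
      haveI : IsNoetherian R (Submodule.map ψ (maximalIdeal R)) := isNoetherian_of_fg_of_noetherian _ hWfg
      exact Module.Finite.iff_fg.2 ((isNoetherian_submodule.1 inferInstance) _ hle)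
    refine ⟨Algebra.adjoin R ({y} : Set (Localization.Away f)), inferInstance, inferInstance,
      ⟨⟨0, 1, fun h => zero_ne_one (congrArg Subtype.val h)⟩⟩, hfin, ?_, ⟨1, ?_, ?_⟩, ?_⟩
    · intro hbij
      obtain ⟨r, hr⟩ := hbij.2 ⟨y, Algebra.subset_adjoin rfl⟩
      have hr' : algebraMap R (Localization.Away f) r = y := congrArg Subtype.val hr
      apply hgnot
      refine ⟨r, ?_⟩
      apply hιinj
      rw [map_mul, hr', hydef]
      calc algebraMap R (Localization.Away f) g
          = algebraMap R (Localization.Away f) g *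
              (algebraMap R (Localization.Away f) f * invf) := by rw [hinv, mul_one]
        _ = _ := by ring
    · intro x hx a _
      have hx' : algebraMap R (Localization.Away f) x = 0 := congrArg Subtype.val hx
      rw [hιinj (hx'.trans (map_zero _).symm), mul_zero]
    · intro w a ha
      rw [pow_one] at ha
      obtain ⟨a', -, e⟩ := hP w.1 w.2 a ha
      refine ⟨a', ?_⟩
      apply Subtype.ext
      show algebraMap R (Localization.Away f) a' = a • (w : Localization.Away f)
      rw [Algebra.smul_def, e]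
    · intro hass
      obtain ⟨hprime, w, hw⟩ := (Submodule.isAssociatedPrime_iff).1 hass
      have h4 : f ∈ (⊥ : Submodule R _).colon {w} := hw ▸ hf
      rw [Submodule.mem_colon_singleton, Submodule.mem_bot] at h4
      have h5 : algebraMap R (Localization.Away f) f * (w : Localization.Away f) = 0 := by
        have := congrArg Subtype.val h4
        rwa [Algebra.smul_def] at this
      have h6 : (w : Localization.Away f) = 0 := by
        calc (w : Localization.Away f)
            = (algebraMap R (Localization.Away f) f * invf) * w := by rw [hinv, one_mul]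
          _ = invf * (algebraMap R (Localization.Away f) f * w) := by ring
          _ = 0 := by rw [h5, mul_zero]
      have h7 : w = 0 := Subtype.ext h6
      apply hprime.ne_top
      rw [hw, h7, Ideal.eq_top_iff_one, Submodule.mem_colon_singleton, smul_zero]
      exact Submodule.zero_mem _
  · -- the maximal ideal is principal: excluded
    exfalso
    push Not at hB1
    obtain ⟨a₀, ha₀, b₀, hab₀, hb₀⟩ := hB1
    have hb₀u : IsUnit b₀ := by
      by_contra h
      exact hb₀ ((mem_maximalIdeal b₀).2 h)
    obtain ⟨u, rfl⟩ := hb₀u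
    set a₁ : R := a₀ * ↑u⁻¹ with ha₁def
    have ha₁ : a₁ ∈ maximalIdeal R := Ideal.mul_mem_right _ _ ha₀
    have ha₁g : a₁ * g = f := by
      calc a₁ * g = (a₀ * g) * ↑u⁻¹ := by rw [ha₁def]; ring
        _ = f * (↑u * ↑u⁻¹) := by rw [hab₀]; ring
        _ = f := by rw [Units.mul_inv, mul_one]
    have hgreg : ∀ x : R, g * x = 0 → x = 0 := by
      intro x hx
      apply hfreg
      simp only [smul_eq_mul, mul_zero]
      rw [← ha₁g, mul_assoc, hx, mul_zero]
    have hm : maximalIdeal R = Ideal.span {a₁} := by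
      apply le_antisymm
      · intro a ha
        obtain ⟨b, hb⟩ := hmg a ha
        have : a = a₁ * b := by
          have h0 : g * (a - a₁ * b) = 0 := by
            calc g * (a - a₁ * b) = a * g - (a₁ * g) * b := by ring
              _ = 0 := by rw [hb, ha₁g, sub_self]
          exact sub_eq_zero.1 (hgreg _ h0)
        rw [this]
        exact Ideal.mul_mem_right _ _ (Ideal.subset_span rfl)
      · rw [Ideal.span_le]
        rintro _ rfl
        exact ha₁
    have hspan : (maximalIdeal R).spanFinrank ≤ 1 := by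
      have := Submodule.spanFinrank_span_le_ncard_of_finite (R := R) (Set.finite_singleton a₁)
      rw [Set.ncard_singleton] at this
      rw [hm]
      exact this
    have hdim_le : ringKrullDim R ≤ 1 := by
      refine (ringKrullDim_le_spanFinrank_maximalIdeal R).trans ?_
      exact_mod_cast hspan
    have hdim_not : ¬ ringKrullDim R ≤ 0 := by
      intro h
      apply h1
      rw [isArtinianRing_iff_krullDimLE_zero, Ring.krullDimLE_iff]
      exact_mod_cast h
    have hdim : ringKrullDim R = 1 := withBot_eq_one hdim_not hdim_le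
    refine h2 ⟨IsRegularLocalRing.of_spanFinrank_maximalIdeal_le R ?_, hdim⟩
    rw [hdim]
    exact_mod_cast hspan

end CaseB

theorem main {R : Type u} [CommRing R] [IsLocalRing R] [IsNoetherianRing R]
    (h1 : ¬ IsArtinianRing R) (h2 : ¬ (IsRegularLocalRing R ∧ ringKrullDim R = 1))
    (h3 : LocCoh.depth R R ≤ 1) :
    ∃ (R' : Type u) (_ : CommRing R') (_ : Algebra R R'), Nontrivial R' ∧ Module.Finite R R' ∧
      ¬ Function.Bijective (algebraMap R R') ∧
      (∃ n : ℕ, (∀ x : R, algebraMap R R' x = 0 → ∀ a ∈ IsLocalRing.maximalIdeal R ^ n, a * x = 0) ∧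
        (∀ y : R', ∀ a ∈ IsLocalRing.maximalIdeal R ^ n, a • y ∈ Set.range (algebraMap R R'))) ∧
      IsLocalRing.maximalIdeal R ∉ associatedPrimes R R' := by
  by_cases hreg : ∃ f ∈ maximalIdeal R, IsSMulRegular R f
  · obtain ⟨f, hf, hfreg⟩ := hreg
    exact caseB h1 h2 h3 f hf hfreg
  · push Not at hreg
    exact caseA h1 hreg

end Groth.Agent.Lib.TetrachotomyH3
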