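import Mathlib

/-!
# Lagrangian subgroups of a Heisenberg-type group (helper3)

`Γ` a group whose commutators are central, with an injective character `θ` of its centre
into `kˣ` and centre of finite index.  For `center Γ ≤ H`:
`[C(H) : Z] * [H : Z] = [Γ : Z]`, and the TFAE characterisation of Lagrangian subgroups.
-/

namespace Groth.Agent.Lib.ThetaLagrH3

open Subgroup
open scoped commutatorElement

section LemmaA

variable {k : Type*} [Field k] {G : Type*} [Group G]

/-- Dedekind: a set of characters `G → kˣ` trivial on `N` has at most `[G : N]` elements. -/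
theorem card_le_index (N : Subgroup G) [N.FiniteIndex]
    (S : Set (G →* kˣ)) (hS : ∀ φ ∈ S, ∀ n ∈ N, φ n = 1) : Nat.card S ≤ N.index := by
  classical
  haveI : Finite (G ⧸ N) := Subgroup.finite_quotient_of_finiteIndex
  haveI := Fintype.ofFinite (G ⧸ N)
  let F : S → (G ⧸ N → k) := fun φ => Quotient.lift (fun g => ((φ.1 g : kˣ) : k)) (by
    intro a b hab
    have h1 : a⁻¹ * b ∈ N := QuotientGroup.leftRel_apply.mp hab
    have h2 : φ.1 (a⁻¹ * b) = 1 := hS φ.1 φ.2 _ h1
    have h3 : φ.1 b = φ.1 a := by
      have : b = a * (a⁻¹ * b) := by group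
      rw [this, map_mul, h2, mul_one]
    show ((φ.1 a : kˣ) : k) = ((φ.1 b : kˣ) : k)
    rw [h3])
  have hF : LinearIndependent k F := by
    let f : (G ⧸ N → k) →ₗ[k] (G → k) := LinearMap.funLeft k k (QuotientGroup.mk : G → G ⧸ N)
    apply LinearIndependent.of_comp f
    let j : S → (G →* k) := fun φ => (Units.coeHom k).comp φ.1
    have hj : Function.Injective j := by
      intro φ ψ h
      apply Subtype.ext
      ext g
      have := DFunLike.congr_fun h g
      simpa [j] using this
    have := (linearIndependent_monoidHom G k).comp j hj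
    exact this
  haveI : Finite S := hF.finite
  haveI := Fintype.ofFinite S
  have h1 := hF.fintype_card_le_finrank
  rw [Module.finrank_pi, ← Nat.card_eq_fintype_card, ← Nat.card_eq_fintype_card] at h1
  exact h1

end LemmaA

section Pairing

variable {k : Type*} [Field k] {Γ : Type*} [Group Γ]
  (θ : Subgroup.center Γ →* kˣ) (hθ : Function.Injective θ)
  (hcomm : commutator Γ ≤ Subgroup.center Γ)

/-- The commutator, as an element of the centre. -/
def cz (x y : Γ) : Subgroup.center Γ :=
  ⟨⁅x, y⁆, hcomm (by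
    rw [_root_.commutator_def]
    exact Subgroup.commutator_mem_commutator (Subgroup.mem_top x) (Subgroup.mem_top y))⟩

theorem cz_mul_left (x x' y : Γ) : cz hcomm (x * x') y = cz hcomm x y * cz hcomm x' y := by
  apply Subtype.ext
  show ⁅x * x', y⁆ = ⁅x, y⁆ * ⁅x', y⁆
  have hc : ∀ g, g * ⁅x', y⁆ = ⁅x', y⁆ * g :=
    fun g => (Subgroup.mem_center_iff.1 (cz hcomm x' y).2 g)
  calc ⁅x * x', y⁆ = x * ⁅x', y⁆ * (y * x⁻¹ * y⁻¹) := by
        simp only [commutatorElement_def]; group
    _ = ⁅x', y⁆ * x * (y * x⁻¹ * y⁻¹) := by rw [hc x]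
    _ = ⁅x', y⁆ * ⁅x, y⁆ := by simp only [commutatorElement_def]; group
    _ = ⁅x, y⁆ * ⁅x', y⁆ := (hc _).symm

theorem cz_mul_right (x y y' : Γ) : cz hcomm x (y * y') = cz hcomm x y * cz hcomm x y' := by
  apply Subtype.ext
  show ⁅x, y * y'⁆ = ⁅x, y⁆ * ⁅x, y'⁆
  have hc : ∀ g, g * ⁅x, y'⁆ = ⁅x, y'⁆ * g :=
    fun g => (Subgroup.mem_center_iff.1 (cz hcomm x y').2 g)
  calc ⁅x, y * y'⁆ = x * y * x⁻¹ * (⁅x, y'⁆ * y⁻¹) := by
        simp only [commutatorElement_def]; group
    _ = x * y * x⁻¹ * (y⁻¹ * ⁅x, y'⁆) := by rw [hc y⁻¹]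
    _ = ⁅x, y⁆ * ⁅x, y'⁆ := by simp only [commutatorElement_def]; group

theorem cz_eq_one_iff (x y : Γ) : cz hcomm x y = 1 ↔ x * y = y * x := by
  rw [← commutatorElement_eq_one_iff_mul_comm]
  constructor
  · intro h; exact congrArg Subtype.val h
  · intro h; exact Subtype.ext h

/-- The commutator pairing as a bicharacter. -/
def χ : Γ →* (Γ →* kˣ) where
  toFun x :=
    { toFun := fun y => θ (cz hcomm x y)
      map_one' := by
        have : cz hcomm x 1 = 1 := (cz_eq_one_iff hcomm x 1).2 (by simp)
        rw [this, map_one]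
      map_mul' := fun y y' => by rw [cz_mul_right, map_mul] }
  map_one' := by
    ext y
    have : cz hcomm 1 y = 1 := (cz_eq_one_iff hcomm 1 y).2 (by simp)
    show ((θ (cz hcomm 1 y) : kˣ) : k) = _
    rw [this, map_one]; rfl
  map_mul' := fun x x' => by
    ext y
    show ((θ (cz hcomm (x * x') y) : kˣ) : k) = ((θ (cz hcomm x y) * θ (cz hcomm x' y) : kˣ) : k)
    rw [cz_mul_left, map_mul]

theorem χ_apply (x y : Γ) : χ θ hcomm x y = θ (cz hcomm x y) := rfl

include hθ in
theorem χ_eq_one_iff (x y : Γ) : χ θ hcomm x y = 1 ↔ x * y = y * x := by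
  rw [χ_apply, map_eq_one_iff θ hθ, cz_eq_one_iff]

include hθ hcomm in
theorem index_centralizer_le (H : Subgroup Γ) [(center Γ).FiniteIndex] :
    (centralizer (H : Set Γ)).index ≤ (center Γ).relIndex H := by
  let R1 : Γ →* (H →* kˣ) :=
    { toFun := fun x => (χ θ hcomm x).comp H.subtype
      map_one' := by rw [map_one]; rfl
      map_mul' := fun x x' => by rw [map_mul]; rfl }
  have hR1 : ∀ x (y : H), R1 x y = χ θ hcomm x y.1 := fun x y => rfl
  have hker : R1.ker = centralizer (H : Set Γ) := by
    ext x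
    rw [MonoidHom.mem_ker, Subgroup.mem_centralizer_iff]
    constructor
    · intro h y hy
      have h1 := DFunLike.congr_fun h ⟨y, hy⟩
      rw [hR1] at h1
      exact ((χ_eq_one_iff θ hθ hcomm x y).1 h1).symm
    · intro h
      ext y
      rw [hR1]
      rw [(χ_eq_one_iff θ hθ hcomm x y.1).2 (h y.1 y.2).symm]
      rfl
  rw [← hker, Subgroup.index_ker]
  have := card_le_index ((center Γ).subgroupOf H) (R1.range : Set (H →* kˣ)) (by
    rintro _ ⟨x, rfl⟩ n hn
    rw [hR1]
    rw [Subgroup.mem_subgroupOf, Subgroup.mem_center_iff] at hn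
    exact (χ_eq_one_iff θ hθ hcomm x n.1).2 (hn x))
  exact this

include hθ hcomm in
theorem relIndex_centralizer_le (H : Subgroup Γ) [H.FiniteIndex] :
    (center Γ).relIndex (centralizer (H : Set Γ)) ≤ H.index := by
  let C := centralizer (H : Set Γ)
  let R2 : C →* (Γ →* kˣ) := (χ θ hcomm).comp C.subtype
  have hR2 : ∀ (x : C) (y : Γ), R2 x y = χ θ hcomm x.1 y := fun x y => rfl
  have hker : R2.ker = (center Γ).subgroupOf C := by
    ext x
    rw [MonoidHom.mem_ker, Subgroup.mem_subgroupOf, Subgroup.mem_center_iff]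
    constructor
    · intro h g
      have h1 := DFunLike.congr_fun h g
      rw [hR2] at h1
      exact ((χ_eq_one_iff θ hθ hcomm x.1 g).1 h1).symm
    · intro h
      ext g
      rw [hR2, (χ_eq_one_iff θ hθ hcomm x.1 g).2 (h g).symm]
      rfl
  show ((center Γ).subgroupOf C).index ≤ _
  rw [← hker, Subgroup.index_ker]
  have := card_le_index H (R2.range : Set (Γ →* kˣ)) (by
    rintro _ ⟨x, rfl⟩ h hh
    rw [hR2]
    have hx := x.2
    rw [Subgroup.mem_centralizer_iff] at hx
    exact (χ_eq_one_iff θ hθ hcomm x.1 h).2 (hx h hh).symm)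
  exact this

include hθ hcomm in
theorem key (H : Subgroup Γ) (hZH : center Γ ≤ H) [(center Γ).FiniteIndex] :
    (center Γ).relIndex (centralizer (H : Set Γ)) * (center Γ).relIndex H =
      (center Γ).index := by
  haveI : H.FiniteIndex := Subgroup.finiteIndex_of_le hZH
  have hZC : center Γ ≤ centralizer (H : Set Γ) := Subgroup.center_le_centralizer _
  have h1 := index_centralizer_le θ hθ hcomm H
  have h2 := relIndex_centralizer_le θ hθ hcomm H
  have e1 : (center Γ).relIndex (centralizer (H : Set Γ)) * (centralizer (H : Set Γ)).index =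
      (center Γ).index := Subgroup.relIndex_mul_index hZC
  have e2 : (center Γ).relIndex H * H.index = (center Γ).index :=
    Subgroup.relIndex_mul_index hZH
  apply le_antisymm
  · calc (center Γ).relIndex (centralizer (H : Set Γ)) * (center Γ).relIndex H
        ≤ H.index * (center Γ).relIndex H := Nat.mul_le_mul_right _ h2
      _ = (center Γ).index := by rw [mul_comm, e2]
  · calc (center Γ).index
        = (center Γ).relIndex (centralizer (H : Set Γ)) * (centralizer (H : Set Γ)).index :=
          e1.symm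
      _ ≤ (center Γ).relIndex (centralizer (H : Set Γ)) * (center Γ).relIndex H :=
          Nat.mul_le_mul_left _ h1

include hθ hcomm in
theorem tfae (H : Subgroup Γ) (hZH : center Γ ≤ H) [(center Γ).FiniteIndex] :
    List.TFAE [
      IsMulCommutative H ∧ ∀ H' : Subgroup Γ, IsMulCommutative H' → H ≤ H' → H' = H,
      IsMulCommutative H ∧ ((center Γ).relIndex H) ^ 2 = (center Γ).index,
      H = Subgroup.centralizer (H : Set Γ)] := by
  have hkey := key θ hθ hcomm H hZH
  have hne : (center Γ).index ≠ 0 := Subgroup.FiniteIndex.index_ne_zero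
  tfae_have 3 → 1 := by
    intro h3
    have hc : IsMulCommutative H := Subgroup.le_centralizer_iff_isMulCommutative.1 h3.le
    refine ⟨hc, fun H' hH' hle => le_antisymm ?_ hle⟩
    intro x hx
    suffices hx' : x ∈ centralizer (H : Set Γ) by rw [h3]; exact hx'
    rw [Subgroup.mem_centralizer_iff]
    intro h hh
    have := hH'.is_comm.comm ⟨h, hle hh⟩ ⟨x, hx⟩
    exact congrArg Subtype.val this
  tfae_have 1 → 3 := by
    rintro ⟨hc, hmax⟩
    apply le_antisymm (Subgroup.le_centralizer_iff_isMulCommutative.2 hc)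
    intro x hx
    rw [Subgroup.mem_centralizer_iff] at hx
    have hH' : IsMulCommutative (Subgroup.closure ((H : Set Γ) ∪ {x})) :=
      Subgroup.isMulCommutative_closure (by
        rintro a (ha | ha) b (hb | hb)
        · exact congrArg Subtype.val (hc.is_comm.comm ⟨a, ha⟩ ⟨b, hb⟩)
        · rw [Set.mem_singleton_iff.1 hb]; exact (hx a ha)
        · rw [Set.mem_singleton_iff.1 ha]; exact (hx b hb).symm
        · rw [Set.mem_singleton_iff.1 ha, Set.mem_singleton_iff.1 hb])
    have hle : H ≤ Subgroup.closure ((H : Set Γ) ∪ {x}) :=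
      fun a ha => Subgroup.subset_closure (Or.inl ha)
    have := hmax _ hH' hle
    rw [← this]
    exact Subgroup.subset_closure (Or.inr rfl)
  tfae_have 3 → 2 := by
    intro h3
    refine ⟨Subgroup.le_centralizer_iff_isMulCommutative.1 h3.le, ?_⟩
    rw [← h3] at hkey
    rw [sq]; exact hkey
  tfae_have 2 → 3 := by
    rintro ⟨hc, hsq⟩
    have hle : H ≤ centralizer (H : Set Γ) :=
      Subgroup.le_centralizer_iff_isMulCommutative.2 hc
    apply le_antisymm hle
    rw [← Subgroup.relIndex_eq_one]
    have h0 : (center Γ).relIndex H ≠ 0 := by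
      intro h
      rw [h] at hsq
      exact hne (by simpa using hsq.symm)
    have e1 : (center Γ).relIndex H * H.relIndex (centralizer (H : Set Γ)) =
        (center Γ).relIndex (centralizer (H : Set Γ)) :=
      Subgroup.relIndex_mul_relIndex _ _ _ hZH hle
    rw [← e1, ← hsq, sq] at hkey
    have h5 : (center Γ).relIndex H * ((center Γ).relIndex H *
        H.relIndex (centralizer (H : Set Γ))) =
        (center Γ).relIndex H * ((center Γ).relIndex H * 1) := by
      rw [mul_one]; linarith
    exact Nat.eq_of_mul_eq_mul_left (Nat.pos_of_ne_zero h0)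
      (Nat.eq_of_mul_eq_mul_left (Nat.pos_of_ne_zero h0) h5)
  tfae_finish

end Pairing

end Groth.Agent.Lib.ThetaLagrH3
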