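import Mathlib

/-!
# Representations of theta groups: pairing, averaging, Fourier inversion

Helper library for S17506 / S17507.  `Γ` is a group with an injective homomorphism
`ι : kˣ →* Γ` onto its centre, with `Γ / ι(kˣ)` finite commutative.
-/

set_option autoImplicit false
set_option maxHeartbeats 1000000

universe u

namespace Groth.Agent.Lib.ThetaRepH1

open Representation
open scoped commutatorElement

noncomputable section

variable {k : Type u} [Field k] {Γ : Type u} [Group Γ] (ι : kˣ →* Γ)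

/-- weight one -/
def W1 {V : Type*} [AddCommGroup V] [Module k V] (ρ : Representation k Γ V) : Prop :=
  ∀ (z : kˣ) (v : V), ρ (ι z) v = (z : k) • v

section Pairing

variable (hι : Function.Injective ι) (hcent : ι.range = Subgroup.center Γ)
  (hcomm : commutator Γ ≤ ι.range)

include hcomm in
lemma comm_mem (g h : Γ) : ⁅g, h⁆ ∈ ι.range := by
  apply hcomm
  rw [commutator_def]
  exact Subgroup.commutator_mem_commutator (Subgroup.mem_top g) (Subgroup.mem_top h)

/-- the commutator pairing -/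
def beta (g h : Γ) : kˣ :=
  Classical.choose (MonoidHom.mem_range.mp (comm_mem ι hcomm g h))

lemma iota_beta (g h : Γ) : ι (beta ι hcomm g h) = ⁅g, h⁆ :=
  Classical.choose_spec (MonoidHom.mem_range.mp (comm_mem ι hcomm g h))

include hcent in
lemma iota_comm (z : kˣ) (g : Γ) : ι z * g = g * ι z := by
  have hz : ι z ∈ Subgroup.center Γ := hcent ▸ (⟨z, rfl⟩ : ι z ∈ ι.range)
  exact ((Subgroup.mem_center_iff.mp hz) g).symm

include hcent in
lemma mem_range_comm {c : Γ} (hc : c ∈ ι.range) (g : Γ) : c * g = g * c := by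
  obtain ⟨z, rfl⟩ := hc
  exact iota_comm ι hcent z g

include hι hcent in
lemma beta_mul_left (h h' g : Γ) :
    beta ι hcomm (h * h') g = beta ι hcomm h g * beta ι hcomm h' g := by
  apply hι
  rw [map_mul, iota_beta, iota_beta, iota_beta]
  set c := ⁅h', g⁆ with hcdef
  have hcm : c ∈ ι.range := comm_mem ι hcomm h' g
  have hc : h' * g * h'⁻¹ = c * g := by
    rw [hcdef, commutatorElement_def]; group
  have hhc : h * c = c * h := (mem_range_comm ι hcent hcm h).symm
  have hcc : ⁅h, g⁆ * c = c * ⁅h, g⁆ := (mem_range_comm ι hcent hcm _).symm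
  rw [hcc]
  calc ⁅h * h', g⁆ = h * (h' * g * h'⁻¹) * h⁻¹ * g⁻¹ := by
        rw [commutatorElement_def]; group
    _ = (h * c) * g * h⁻¹ * g⁻¹ := by rw [hc]; group
    _ = (c * h) * g * h⁻¹ * g⁻¹ := by rw [hhc]
    _ = c * ⁅h, g⁆ := by rw [commutatorElement_def]; group

include hι hcent in
lemma beta_of_mem_left {h : Γ} (hh : h ∈ ι.range) (g : Γ) : beta ι hcomm h g = 1 := by
  apply hι
  rw [iota_beta, map_one, commutatorElement_eq_one_iff_mul_comm]
  exact mem_range_comm ι hcent hh g

include hι hcent in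
lemma beta_of_mem_right (h : Γ) {g : Γ} (hg : g ∈ ι.range) : beta ι hcomm h g = 1 := by
  apply hι
  rw [iota_beta, map_one, commutatorElement_eq_one_iff_mul_comm]
  exact (mem_range_comm ι hcent hg h).symm

include hι hcent in
lemma beta_mul_iota (h : Γ) (z : kˣ) (g : Γ) :
    beta ι hcomm (h * ι z) g = beta ι hcomm h g := by
  rw [beta_mul_left ι hι hcent hcomm, beta_of_mem_left ι hι hcent hcomm ⟨z, rfl⟩, mul_one]

include hcent in
lemma exists_beta_ne_one {g : Γ} (hg : g ∉ ι.range) : ∃ h, beta ι hcomm h g ≠ 1 := by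
  rw [hcent, Subgroup.mem_center_iff] at hg
  push_neg at hg
  obtain ⟨h, hh⟩ := hg
  refine ⟨h, fun h1 => hh ?_⟩
  have := iota_beta ι hcomm h g
  rw [h1, map_one] at this
  exact commutatorElement_eq_one_iff_mul_comm.mp this.symm

lemma conj_eq (h g : Γ) : h * g * h⁻¹ = ι (beta ι hcomm h g) * g := by
  rw [iota_beta, commutatorElement_def]; group

variable {ι} in
lemma W1.conj {V : Type*} [AddCommGroup V] [Module k V] {ρ : Representation k Γ V}
    (hρ : W1 ι ρ) (h g : Γ) (v : V) :
    ρ h (ρ g (ρ h⁻¹ v)) = ((beta ι hcomm h g : kˣ) : k) • ρ g v := by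
  calc ρ h (ρ g (ρ h⁻¹ v)) = ρ (h * g * h⁻¹) v := by
        rw [map_mul, map_mul]; rfl
    _ = ρ (ι (beta ι hcomm h g)) (ρ g v) := by
        rw [conj_eq ι hcomm, map_mul]; rfl
    _ = _ := hρ _ _

end Pairing

section Sums

variable [Fintype (Γ ⧸ ι.range)]

lemma eq_of_mk_eq {E : Type*} (F : Γ → E) (hF : ∀ g (z : kˣ), F (g * ι z) = F g) {a b : Γ}
    (h : (QuotientGroup.mk a : Γ ⧸ ι.range) = QuotientGroup.mk b) : F a = F b := by
  rw [QuotientGroup.eq] at h
  obtain ⟨z, hz⟩ := h
  have hb : b = a * ι z := by rw [hz]; group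
  rw [hb, hF]

lemma sum_mul_left {E : Type*} [AddCommMonoid E] (F : Γ → E)
    (hF : ∀ g (z : kˣ), F (g * ι z) = F g) (g₀ : Γ) :
    ∑ x : Γ ⧸ ι.range, F (g₀ * Quotient.out x) = ∑ x : Γ ⧸ ι.range, F (Quotient.out x) := by
  rw [← Equiv.sum_comp (MulAction.toPerm g₀ : Equiv.Perm (Γ ⧸ ι.range))
    (fun x => F (Quotient.out x))]
  refine Finset.sum_congr rfl fun x _ => ?_
  apply eq_of_mk_eq ι F hF
  rw [QuotientGroup.out_eq']
  conv_rhs => rw [← QuotientGroup.out_eq' x]
  rfl

lemma out_inv_mem_iff (y : Γ ⧸ ι.range) :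
    (Quotient.out y)⁻¹ ∈ ι.range ↔ y = QuotientGroup.mk 1 := by
  constructor
  · intro h
    rw [← QuotientGroup.out_eq' y, QuotientGroup.eq, mul_one]
    exact h
  · intro h
    have := QuotientGroup.out_eq' y
    rw [h, QuotientGroup.eq, mul_one] at this
    rw [h]
    exact this

variable (hι : Function.Injective ι) (hcent : ι.range = Subgroup.center Γ)
  (hcomm : commutator Γ ≤ ι.range)

open Classical in
include hι hcent in
lemma char_sum (g : Γ) :
    ∑ x : Γ ⧸ ι.range, ((beta ι hcomm (Quotient.out x) g : kˣ) : k) =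
      if g ∈ ι.range then (Fintype.card (Γ ⧸ ι.range) : k) else 0 := by
  classical
  by_cases hg : g ∈ ι.range
  · rw [if_pos hg]
    have : ∀ x : Γ ⧸ ι.range, ((beta ι hcomm (Quotient.out x) g : kˣ) : k) = 1 := fun x => by
      rw [beta_of_mem_right ι hι hcent hcomm _ hg, Units.val_one]
    rw [Finset.sum_congr rfl fun x _ => this x, Finset.sum_const, Finset.card_univ,
      nsmul_eq_mul, mul_one]
  · rw [if_neg hg]
    obtain ⟨h₀, hh₀⟩ := exists_beta_ne_one ι hcent hcomm hg
    set S := ∑ x : Γ ⧸ ι.range, ((beta ι hcomm (Quotient.out x) g : kˣ) : k) with hS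
    have h1 := sum_mul_left ι (fun h => ((beta ι hcomm h g : kˣ) : k))
      (fun h z => by rw [beta_mul_iota ι hι hcent hcomm]) h₀
    have h2 : ∑ x : Γ ⧸ ι.range, ((beta ι hcomm (h₀ * Quotient.out x) g : kˣ) : k) =
        ((beta ι hcomm h₀ g : kˣ) : k) * S := by
      rw [hS, Finset.mul_sum]
      refine Finset.sum_congr rfl fun x _ => ?_
      rw [beta_mul_left ι hι hcent hcomm, Units.val_mul]
    rw [h2] at h1
    have h3 : (((beta ι hcomm h₀ g : kˣ) : k) - 1) * S = 0 := by
      rw [sub_mul, one_mul, h1, sub_self]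
    rcases mul_eq_zero.mp h3 with h4 | h4
    · exfalso
      apply hh₀
      apply Units.ext
      rw [Units.val_one]
      exact sub_eq_zero.mp h4
    · exact h4

end Sums

end

end Groth.Agent.Lib.ThetaRepH1
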