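import Groth.Agent.Lib.ThetaRep1_helper1

/-!
# Representations of theta groups: averaging operator, Fourier inversion, uniqueness
-/

set_option autoImplicit false
set_option maxHeartbeats 1000000

universe u

namespace Groth.Agent.Lib.ThetaRepH1

open Representation
open scoped commutatorElement

noncomputable section

variable {k : Type u} [Field k] {Γ : Type u} [Group Γ] (ι : kˣ →* Γ) [Fintype (Γ ⧸ ι.range)]
  (hι : Function.Injective ι) (hcent : ι.range = Subgroup.center Γ)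
  (hcomm : commutator Γ ≤ ι.range)

variable {V W : Type*} [AddCommGroup V] [Module k V] [AddCommGroup W] [Module k W]
  (ρ : Representation k Γ V) (σ : Representation k Γ W)

/-- the cardinality of the quotient as a scalar -/
abbrev nK : k := (Fintype.card (Γ ⧸ ι.range) : k)

/-- the averaging operator -/
def avg (T : V →ₗ[k] W) : V →ₗ[k] W :=
  (nK ι)⁻¹ • ∑ x : Γ ⧸ ι.range, σ (Quotient.out x) ∘ₗ T ∘ₗ ρ (Quotient.out x)⁻¹

lemma avg_apply (T : V →ₗ[k] W) (v : V) :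
    avg ι ρ σ T v =
      (nK ι)⁻¹ • ∑ x : Γ ⧸ ι.range, σ (Quotient.out x) (T (ρ (Quotient.out x)⁻¹ v)) := by
  simp [avg, LinearMap.sum_apply]

omit [Fintype (Γ ⧸ ι.range)] in
lemma rho_inv_apply (h : Γ) (v : V) : ρ h⁻¹ (ρ h v) = v := by
  rw [← Module.End.mul_apply, ← map_mul, inv_mul_cancel, map_one]
  rfl

omit [Fintype (Γ ⧸ ι.range)] in
lemma term_inv (hρ : W1 ι ρ) (hσ : W1 ι σ) (T : V →ₗ[k] W) (w : V) (g : Γ) (z : kˣ) :
    σ (g * ι z) (T (ρ (g * ι z)⁻¹ w)) = σ g (T (ρ g⁻¹ w)) := by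
  have h1 : (g * ι z)⁻¹ = ι z⁻¹ * g⁻¹ := by rw [mul_inv_rev, map_inv]
  rw [h1, map_mul, map_mul]
  change σ g (σ (ι z) (T (ρ (ι z⁻¹) (ρ g⁻¹ w)))) = _
  rw [hρ, hσ]
  simp only [map_smul, smul_smul]
  rw [← Units.val_mul, mul_inv_cancel, Units.val_one, one_smul]

lemma avg_comm (hρ : W1 ι ρ) (hσ : W1 ι σ) (T : V →ₗ[k] W) (h : Γ) (v : V) :
    σ h (avg ι ρ σ T v) = avg ι ρ σ T (ρ h v) := by
  rw [avg_apply, avg_apply, map_smul, map_sum]
  congr 1
  have := sum_mul_left ι (fun g => σ g (T (ρ g⁻¹ (ρ h v))))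
    (fun g z => term_inv ι ρ σ hρ hσ T _ g z) h
  rw [← this]
  refine Finset.sum_congr rfl fun x _ => ?_
  rw [map_mul, mul_inv_rev, map_mul]
  change _ = σ h (σ (Quotient.out x) (T (ρ (Quotient.out x)⁻¹ (ρ h⁻¹ (ρ h v)))))
  rw [rho_inv_apply]

open Classical in
include hι hcent hcomm in
lemma avg_rho (hρ : W1 ι ρ) (g : Γ) (v : V) :
    ∑ x : Γ ⧸ ι.range, ρ (Quotient.out x) (ρ g (ρ (Quotient.out x)⁻¹ v)) =
      if g ∈ ι.range then nK ι • ρ g v else 0 := by
  have : ∀ x : Γ ⧸ ι.range, ρ (Quotient.out x) (ρ g (ρ (Quotient.out x)⁻¹ v)) =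
      ((beta ι hcomm (Quotient.out x) g : kˣ) : k) • ρ g v := fun x => hρ.conj hcomm _ _ _
  rw [Finset.sum_congr rfl fun x _ => this x, ← Finset.sum_smul, char_sum ι hι hcent hcomm]
  split_ifs
  · rfl
  · rw [zero_smul]

include hι hcent hcomm in
lemma inversion (hn : nK ι ≠ 0) (hρ : W1 ι ρ) (hσ : W1 ι σ) (T : V →ₗ[k] W) (v : V) :
    ∑ x : Γ ⧸ ι.range, avg ι ρ σ (T ∘ₗ ρ (Quotient.out x)) (ρ (Quotient.out x)⁻¹ v) = T v := by
  classical
  have h1 : ∀ x : Γ ⧸ ι.range,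
      avg ι ρ σ (T ∘ₗ ρ (Quotient.out x)) (ρ (Quotient.out x)⁻¹ v) =
      (nK ι)⁻¹ • ∑ y : Γ ⧸ ι.range, σ (Quotient.out y)
        (T (ρ (Quotient.out x) (ρ (Quotient.out y)⁻¹ (ρ (Quotient.out x)⁻¹ v)))) := fun x => by
    rw [avg_apply]; rfl
  rw [Finset.sum_congr rfl fun x _ => h1 x, ← Finset.smul_sum, Finset.sum_comm]
  have h2 : ∀ y : Γ ⧸ ι.range, ∑ x : Γ ⧸ ι.range, σ (Quotient.out y)
        (T (ρ (Quotient.out x) (ρ (Quotient.out y)⁻¹ (ρ (Quotient.out x)⁻¹ v)))) =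
      if y = QuotientGroup.mk 1 then nK ι • T v else 0 := fun y => by
    rw [← map_sum, ← map_sum, avg_rho ι hι hcent hcomm ρ hρ]
    by_cases hy : y = QuotientGroup.mk 1
    · rw [if_pos hy, if_pos ((out_inv_mem_iff ι y).mpr hy)]
      obtain ⟨z, hz⟩ := (out_inv_mem_iff ι y).mpr hy
      have hout : Quotient.out y = ι z⁻¹ := by rw [map_inv, hz, inv_inv]
      rw [← hz, hρ, hout, hσ, map_smul, map_smul, smul_smul, smul_smul]
      congr 1
      rw [Units.val_inv_eq_inv_val, mul_comm, ← mul_assoc, mul_inv_cancel₀ z.ne_zero, one_mul]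
    · rw [if_neg hy, if_neg (fun h => hy ((out_inv_mem_iff ι y).mp h)), map_zero, map_zero]
  rw [Finset.sum_congr rfl fun y _ => h2 y, Finset.sum_ite_eq', if_pos (Finset.mem_univ _),
    smul_smul, inv_mul_cancel₀ hn, one_smul]

/-! ### Schur's lemma -/

omit [Fintype (Γ ⧸ ι.range)] in
lemma nontrivial_of_irreducible [IsIrreducible ρ] : Nontrivial V := by
  by_contra hnt
  rw [not_nontrivial_iff_subsingleton] at hnt
  have : (⊥ : Subrepresentation ρ) = ⊤ := by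
    apply Subrepresentation.toSubmodule_injective
    exact Submodule.ext fun x => by
      simp [Subsingleton.elim x 0]
  exact bot_ne_top this

omit [Fintype (Γ ⧸ ι.range)] in
lemma schur [IsAlgClosed k] [FiniteDimensional k V] [IsIrreducible ρ] (A : V →ₗ[k] V)
    (hA : ∀ g v, A (ρ g v) = ρ g (A v)) : ∃ c : k, ∀ v, A v = c • v := by
  haveI : Nontrivial V := nontrivial_of_irreducible ρ
  obtain ⟨c, hc⟩ := Module.End.exists_eigenvalue A
  obtain ⟨w, hw⟩ := hc.exists_hasEigenvector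
  let S : Subrepresentation ρ := ⟨Module.End.eigenspace A c, fun g v hv => by
    rw [Module.End.mem_eigenspace_iff] at hv ⊢
    rw [hA, hv, map_smul]⟩
  have hS : S ≠ ⊥ := fun h => by
    have hw' : w ∈ S.toSubmodule := Module.End.mem_eigenspace_iff.mpr hw.apply_eq_smul
    rw [h] at hw'
    exact hw.2 ((Submodule.mem_bot k).mp hw')
  have hST : S = ⊤ := (eq_bot_or_eq_top S).resolve_left hS
  refine ⟨c, fun v => ?_⟩
  have hv : v ∈ S.toSubmodule := by
    rw [hST]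
    exact Submodule.mem_top
  exact Module.End.mem_eigenspace_iff.mp hv

/-! ### the basis of `End V` -/

/-- the map `a ↦ Σ a_x ρ(x⁻¹)` -/
def Phi : ((Γ ⧸ ι.range) → k) →ₗ[k] (V →ₗ[k] V) :=
  ∑ x : Γ ⧸ ι.range,
    (LinearMap.proj x : ((Γ ⧸ ι.range) → k) →ₗ[k] k).smulRight (ρ (Quotient.out x)⁻¹)

lemma Phi_apply (a : (Γ ⧸ ι.range) → k) (v : V) :
    Phi ι ρ a v = ∑ x : Γ ⧸ ι.range, a x • ρ (Quotient.out x)⁻¹ v := by
  simp [Phi, LinearMap.sum_apply]

include hι hcent hcomm in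
lemma Phi_surjective [IsAlgClosed k] [FiniteDimensional k V] [IsIrreducible ρ]
    (hn : nK ι ≠ 0) (hρ : W1 ι ρ) : Function.Surjective (Phi ι ρ) := by
  intro T
  have hex : ∀ x : Γ ⧸ ι.range, ∃ c : k, ∀ v, avg ι ρ ρ (T ∘ₗ ρ (Quotient.out x)) v = c • v :=
    fun x => schur ρ _ fun g v => (avg_comm ι ρ ρ hρ hρ _ g v).symm
  choose c hc using hex
  refine ⟨c, LinearMap.ext fun v => ?_⟩
  rw [Phi_apply, ← inversion ι hι hcent hcomm ρ ρ hn hρ hρ T v]
  exact Finset.sum_congr rfl fun x _ => (hc x _).symm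

include hι hcent hcomm in
lemma Phi_injective [Nontrivial V] (hn : nK ι ≠ 0) (hρ : W1 ι ρ) :
    Function.Injective (Phi ι ρ) := by
  classical
  rw [← LinearMap.ker_eq_bot, LinearMap.ker_eq_bot']
  intro a ha
  obtain ⟨v, hv⟩ := exists_ne (0 : V)
  funext y
  have h0 : ∑ z : Γ ⧸ ι.range, ρ (Quotient.out z)
      (Phi ι ρ a (ρ (Quotient.out y) (ρ (Quotient.out z)⁻¹ v))) = 0 := by
    rw [ha]
    simp
  have h1 : ∀ z : Γ ⧸ ι.range, ρ (Quotient.out z)
      (Phi ι ρ a (ρ (Quotient.out y) (ρ (Quotient.out z)⁻¹ v))) =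
      ∑ x : Γ ⧸ ι.range, a x • ρ (Quotient.out z)
        (ρ ((Quotient.out x)⁻¹ * Quotient.out y) (ρ (Quotient.out z)⁻¹ v)) := fun z => by
    rw [Phi_apply, map_sum]
    refine Finset.sum_congr rfl fun x _ => ?_
    rw [map_smul, map_mul]
    rfl
  rw [Finset.sum_congr rfl fun z _ => h1 z, Finset.sum_comm] at h0
  have h2 : ∀ x : Γ ⧸ ι.range, ∑ z : Γ ⧸ ι.range, a x • ρ (Quotient.out z)
        (ρ ((Quotient.out x)⁻¹ * Quotient.out y) (ρ (Quotient.out z)⁻¹ v)) =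
      if x = y then (a y * nK ι) • v else 0 := fun x => by
    rw [← Finset.smul_sum, avg_rho ι hι hcent hcomm ρ hρ]
    have hiff : (Quotient.out x)⁻¹ * Quotient.out y ∈ ι.range ↔ x = y := by
      rw [← QuotientGroup.eq, QuotientGroup.out_eq', QuotientGroup.out_eq']
    by_cases hxy : x = y
    · rw [if_pos hxy, if_pos (hiff.mpr hxy), hxy, inv_mul_cancel, map_one, smul_smul]
      rfl
    · rw [if_neg hxy, if_neg (fun h => hxy (hiff.mp h)), smul_zero]
  rw [Finset.sum_congr rfl fun x _ => h2 x, Finset.sum_ite_eq', if_pos (Finset.mem_univ _)] at h0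
  rcases smul_eq_zero.mp h0 with h3 | h3
  · rcases mul_eq_zero.mp h3 with h4 | h4
    · exact h4
    · exact absurd h4 hn
  · exact absurd h3 hv

include hι hcent hcomm in
theorem finrank_sq [IsAlgClosed k] [FiniteDimensional k V] [IsIrreducible ρ]
    (hn : nK ι ≠ 0) (hρ : W1 ι ρ) :
    Module.finrank k V ^ 2 = Fintype.card (Γ ⧸ ι.range) := by
  haveI : Nontrivial V := nontrivial_of_irreducible ρ
  have e : ((Γ ⧸ ι.range) → k) ≃ₗ[k] (V →ₗ[k] V) :=
    LinearEquiv.ofBijective (Phi ι ρ)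
      ⟨Phi_injective ι hι hcent hcomm ρ hn hρ, Phi_surjective ι hι hcent hcomm ρ hn hρ⟩
  have h := e.finrank_eq
  rw [Module.finrank_fintype_fun_eq_card, Module.finrank_linearMap] at h
  rw [h, sq]

/-! ### uniqueness -/

include hι hcent hcomm in
theorem equiv_of_irreducible [FiniteDimensional k V] [FiniteDimensional k W]
    [IsIrreducible ρ] [IsIrreducible σ] (hn : nK ι ≠ 0) (hρ : W1 ι ρ) (hσ : W1 ι σ) :
    Nonempty (Representation.Equiv ρ σ) := by
  classical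
  haveI : Nontrivial V := nontrivial_of_irreducible ρ
  haveI : Nontrivial W := nontrivial_of_irreducible σ
  have hpos : 0 < Module.finrank k (V →ₗ[k] W) := by
    rw [Module.finrank_linearMap]
    exact Nat.mul_pos Module.finrank_pos Module.finrank_pos
  obtain ⟨T, hT⟩ := (Module.finrank_pos_iff_exists_ne_zero (R := k)).mp hpos
  obtain ⟨v₀, hv₀⟩ : ∃ v₀, T v₀ ≠ 0 := by
    by_contra hcon
    push_neg at hcon
    exact hT (LinearMap.ext hcon)
  rw [← inversion ι hι hcent hcomm ρ σ hn hρ hσ T v₀] at hv₀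
  obtain ⟨x, _, hx⟩ := Finset.exists_ne_zero_of_sum_ne_zero hv₀
  set A := avg ι ρ σ (T ∘ₗ ρ (Quotient.out x)) with hA
  have hA0 : A ≠ 0 := fun h => hx (by rw [h]; rfl)
  have hint : ∀ g, A ∘ₗ ρ g = σ g ∘ₗ A := fun g =>
    LinearMap.ext fun v => (avg_comm ι ρ σ hρ hσ _ g v).symm
  let f : IntertwiningMap ρ σ := ⟨A, hint⟩
  rcases IsIrreducible.bijective_or_eq_zero f with hb | h0
  · exact ⟨Representation.Equiv.mk (LinearEquiv.ofBijective A hb) hint⟩
  · exfalso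
    apply hA0
    have := congrArg IntertwiningMap.toLinearMap h0
    exact this

end

end Groth.Agent.Lib.ThetaRepH1
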