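import Groth.Agent.Lib.ThetaRep2_helper1

/-!
# Representations of theta groups: existence and the main theorem S17506
-/

set_option autoImplicit false
set_option maxHeartbeats 1000000

universe u

namespace Groth.Agent.Lib.ThetaRepH1

open Representation
open scoped commutatorElement

noncomputable section

lemma natCast_ne_zero_of_coprime (k : Type*) [Field k] (n : ℕ) (hn0 : n ≠ 0)
    (hcop : n.Coprime (ringExpChar k)) : (n : k) ≠ 0 := by
  obtain ⟨p, hp⟩ := CharP.exists k
  rcases CharP.char_is_prime_or_zero k p with hpp | hp0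
  · have hexp : ringExpChar k = p := by
      rw [ringExpChar, ringChar.eq k p]
      exact max_eq_left hpp.one_lt.le
    rw [hexp] at hcop
    intro h0
    have hdvd : p ∣ n := (CharP.cast_eq_zero_iff k p n).mp h0
    have := Nat.Coprime.eq_one_of_dvd hcop.symm hdvd
    exact hpp.one_lt.ne' this
  · subst hp0
    haveI := CharP.charP_to_charZero k
    exact Nat.cast_ne_zero.mpr hn0

variable {k : Type u} [Field k] {Γ : Type u} [Group Γ] (ι : kˣ →* Γ)

/-- the scalar representation of `kˣ` on `k` -/
def scalarRep (k : Type u) [Field k] : Representation k kˣ k where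
  toFun z := (z : k) • LinearMap.id
  map_one' := by ext; simp
  map_mul' a b := by ext; simp [mul_comm]

lemma scalarRep_apply (z : kˣ) (a : k) : scalarRep k z a = (z : k) * a := by
  simp [scalarRep]

section Exist

variable [Fintype (Γ ⧸ ι.range)]
  (hι : Function.Injective ι) (hcent : ι.range = Subgroup.center Γ)

omit [Fintype (Γ ⧸ ι.range)] in
include hcent in
lemma coind_W1 : W1 ι (Representation.coind ι (scalarRep k)) := by
  intro z f
  apply Subtype.ext
  funext g
  change f.1 (g * ι z) = (z : k) • f.1 g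
  rw [← iota_comm ι hcent z g, f.2 z g, scalarRep_apply, smul_eq_mul]

omit [Fintype (Γ ⧸ ι.range)] in
include hcent in
lemma exists_cz (g : Γ) :
    ∃ z : kˣ, g = ι z * Quotient.out (QuotientGroup.mk g : Γ ⧸ ι.range) := by
  have h := QuotientGroup.out_eq' (QuotientGroup.mk g : Γ ⧸ ι.range)
  rw [QuotientGroup.eq] at h
  obtain ⟨z, hz⟩ := h
  refine ⟨z, ?_⟩
  rw [iota_comm ι hcent, hz]
  group

/-- the scalar `z` with `g = ι z * out (mk g)` -/
def cz (g : Γ) : kˣ := Classical.choose (exists_cz ι hcent g)

omit [Fintype (Γ ⧸ ι.range)] in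
lemma cz_spec (g : Γ) :
    g = ι (cz ι hcent g) * Quotient.out (QuotientGroup.mk g : Γ ⧸ ι.range) :=
  Classical.choose_spec (exists_cz ι hcent g)

omit [Fintype (Γ ⧸ ι.range)] in
include hι in
lemma cz_mul (z' : kˣ) (g : Γ) : cz ι hcent (ι z' * g) = z' * cz ι hcent g := by
  have hmk : (QuotientGroup.mk (ι z' * g) : Γ ⧸ ι.range) = QuotientGroup.mk g := by
    rw [QuotientGroup.eq]
    refine ⟨z'⁻¹, ?_⟩
    rw [map_inv, iota_comm ι hcent z' g]
    group
  have h1 := cz_spec ι hcent (ι z' * g)
  rw [hmk] at h1
  have h2 := cz_spec ι hcent g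
  apply hι
  apply mul_right_cancel (b := Quotient.out (QuotientGroup.mk g : Γ ⧸ ι.range))
  rw [← h1, map_mul, mul_assoc, ← h2]

/-- a nonzero element of the coinduced module -/
def f0 : Representation.coindV ι (scalarRep k) :=
  ⟨fun g => ((cz ι hcent g : kˣ) : k), fun z g => by
    change ((cz ι hcent (ι z * g) : kˣ) : k) = scalarRep k z ((cz ι hcent g : kˣ) : k)
    rw [cz_mul ι hι hcent, scalarRep_apply, Units.val_mul]⟩

omit [Fintype (Γ ⧸ ι.range)] in
include hι hcent in
lemma coind_nontrivial : Nontrivial (Representation.coindV ι (scalarRep k)) := by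
  refine ⟨⟨f0 ι hι hcent, 0, fun h => ?_⟩⟩
  have h1 : (f0 ι hι hcent).1 1 = 0 := by rw [h]; rfl
  exact (cz ι hcent 1).ne_zero h1

include hcent in
lemma coind_finite : FiniteDimensional k (Representation.coindV ι (scalarRep k)) := by
  let L : Representation.coindV ι (scalarRep k) →ₗ[k] ((Γ ⧸ ι.range) → k) :=
    (LinearMap.funLeft k k (fun x : Γ ⧸ ι.range => Quotient.out x)).comp (Submodule.subtype _)
  have hL : Function.Injective L := by
    rw [← LinearMap.ker_eq_bot, LinearMap.ker_eq_bot']
    intro f hf
    apply Subtype.ext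
    funext g
    obtain ⟨z, hz⟩ := exists_cz ι hcent g
    have h1 : f.1 (Quotient.out (QuotientGroup.mk g : Γ ⧸ ι.range)) = 0 := congrFun hf _
    change f.1 g = 0
    conv_lhs => rw [hz]
    rw [f.2 z, h1, map_zero]
  exact FiniteDimensional.of_injective L hL

end Exist

/-- every nonzero finite-dimensional weight-one representation contains an irreducible one -/
theorem exists_irreducible_sub : ∀ (d : ℕ) (V : Type u) [AddCommGroup V] [Module k V]
    [FiniteDimensional k V] (ρ : Representation k Γ V), Nontrivial V → W1 ι ρ →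
    Module.finrank k V = d →
    ∃ U : FDRep k Γ, IsIrreducible U.ρ ∧ ∀ (z : kˣ) (v : U), U.ρ (ι z) v = (z : k) • v := by
  intro d
  induction d using Nat.strong_induction_on with
  | _ d ih =>
    intro V _ _ _ ρ hnt hρ hd
    by_cases hirr : IsIrreducible ρ
    · exact ⟨FDRep.of ρ, hirr, hρ⟩
    · have hbt : (⊥ : Subrepresentation ρ) ≠ ⊤ := fun h => by
        have h' : (⊥ : Submodule k V) = ⊤ := congrArg Subrepresentation.toSubmodule h
        exact bot_ne_top h'
      have hex : ∃ a : Subrepresentation ρ, a ≠ ⊥ ∧ a ≠ ⊤ := by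
        by_contra hcon
        push_neg at hcon
        apply hirr
        exact { exists_pair_ne := ⟨⊥, ⊤, hbt⟩
                eq_bot_or_eq_top := fun a => by
                  by_cases ha : a = ⊥
                  · exact Or.inl ha
                  · exact Or.inr (hcon a ha) }
      obtain ⟨a, ha0, ha1⟩ := hex
      have hlt : Module.finrank k a.toSubmodule < d := by
        rw [← hd]
        apply Submodule.finrank_lt
        intro h
        apply ha1
        apply Subrepresentation.toSubmodule_injective
        exact h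
      have hnt' : Nontrivial a.toSubmodule := by
        rw [Submodule.nontrivial_iff_ne_bot]
        intro h
        apply ha0
        apply Subrepresentation.toSubmodule_injective
        exact h
      exact ih _ hlt a.toSubmodule a.toRepresentation hnt'
        (fun z v => Subtype.ext (hρ z v.1)) rfl

theorem main17506 (k : Type u) [Field k] [IsAlgClosed k]
    (Γ : Type u) [Group Γ] (ι : kˣ →* Γ) (hι : Function.Injective ι)
    (hcent : ι.range = Subgroup.center Γ) (hcomm : commutator Γ ≤ ι.range)
    [Finite (Γ ⧸ ι.range)] (hcop : (Nat.card (Γ ⧸ ι.range)).Coprime (ringExpChar k)) :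
    (∃ V : FDRep k Γ, Representation.IsIrreducible V.ρ ∧
      ∀ (z : kˣ) (v : V), V.ρ (ι z) v = (z : k) • v) ∧
    (∀ V W : FDRep k Γ, Representation.IsIrreducible V.ρ → Representation.IsIrreducible W.ρ →
      (∀ (z : kˣ) (v : V), V.ρ (ι z) v = (z : k) • v) →
      (∀ (z : kˣ) (w : W), W.ρ (ι z) w = (z : k) • w) →
      Nonempty (Representation.Equiv V.ρ W.ρ)) ∧
    (∀ V : FDRep k Γ, Representation.IsIrreducible V.ρ →
      (∀ (z : kˣ) (v : V), V.ρ (ι z) v = (z : k) • v) →
      Module.finrank k V ^ 2 = Nat.card (Γ ⧸ ι.range)) := by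
  haveI : Fintype (Γ ⧸ ι.range) := Fintype.ofFinite _
  have hcard : Nat.card (Γ ⧸ ι.range) = Fintype.card (Γ ⧸ ι.range) := Nat.card_eq_fintype_card
  have hn : nK ι ≠ 0 :=
    natCast_ne_zero_of_coprime k _ Fintype.card_ne_zero (hcard ▸ hcop)
  refine ⟨?_, ?_, ?_⟩
  · haveI := coind_finite ι hcent
    exact exists_irreducible_sub ι _ _ (Representation.coind ι (scalarRep k))
      (coind_nontrivial ι hι hcent) (coind_W1 ι hcent) rfl
  · intro V W hV hW hV1 hW1
    haveI := hV
    haveI := hW
    exact equiv_of_irreducible ι hι hcent hcomm V.ρ W.ρ hn hV1 hW1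
  · intro V hV hV1
    haveI := hV
    rw [hcard]
    exact finrank_sq ι hι hcent hcomm V.ρ hn hV1

end

end Groth.Agent.Lib.ThetaRepH1
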