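import Groth.Agent.Lib.ThetaRep3_helper1

/-!
# Representations of theta groups: Maschke, irreducible subrepresentations, invariants
-/

set_option autoImplicit false
set_option maxHeartbeats 1000000

universe u

namespace Groth.Agent.Lib.ThetaRepH1

open Representation
open scoped commutatorElement

noncomputable section

variable {k : Type u} [Field k] {Γ : Type u} [Group Γ] (ι : kˣ →* Γ) [Fintype (Γ ⧸ ι.range)]

section Maschke

variable {W : Type*} [AddCommGroup W] [Module k W] (σ : Representation k Γ W)

/-- Maschke's theorem for weight-one representations -/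
theorem exists_compl (hn : nK ι ≠ 0) (hσ : W1 ι σ) (a : Subrepresentation σ) :
    ∃ b : Subrepresentation σ, a.toSubmodule ⊓ b.toSubmodule = ⊥ ∧
      a.toSubmodule ⊔ b.toSubmodule = ⊤ := by
  obtain ⟨c, hc⟩ := Submodule.exists_isCompl a.toSubmodule
  set π : W →ₗ[k] W :=
    a.toSubmodule.subtype ∘ₗ Submodule.linearProjOfIsCompl a.toSubmodule c hc with hπ
  have hπmem : ∀ w, π w ∈ a.toSubmodule := fun w =>
    (Submodule.linearProjOfIsCompl _ _ hc w).2
  have hπid : ∀ u ∈ a.toSubmodule, π u = u := fun u hu => by
    rw [hπ, LinearMap.comp_apply, Submodule.subtype_apply]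
    exact congrArg Subtype.val (Submodule.linearProjOfIsCompl_apply_left hc ⟨u, hu⟩)
  set P := avg ι σ σ π with hP
  have hPmem : ∀ w, P w ∈ a.toSubmodule := fun w => by
    rw [hP, avg_apply]
    exact Submodule.smul_mem _ _
      (Submodule.sum_mem _ fun x _ => a.apply_mem_toSubmodule _ (hπmem _))
  have hPid : ∀ u ∈ a.toSubmodule, P u = u := fun u hu => by
    rw [hP, avg_apply]
    have : ∀ x : Γ ⧸ ι.range, σ (Quotient.out x) (π (σ (Quotient.out x)⁻¹ u)) = u := fun x => by
      rw [hπid _ (a.apply_mem_toSubmodule _ hu)]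
      have := rho_inv_apply σ (Quotient.out x)⁻¹ u
      rwa [inv_inv] at this
    rw [Finset.sum_congr rfl fun x _ => this x, Finset.sum_const, Finset.card_univ,
      ← Nat.cast_smul_eq_nsmul k, smul_smul, inv_mul_cancel₀ hn, one_smul]
  have hPcomm : ∀ g v, σ g (P v) = P (σ g v) := fun g v => avg_comm ι σ σ hσ hσ π g v
  refine ⟨⟨LinearMap.ker P, fun g v hv => ?_⟩, ?_, ?_⟩
  · rw [LinearMap.mem_ker] at hv ⊢
    rw [← hPcomm, hv, map_zero]
  · rw [Submodule.eq_bot_iff]
    rintro v ⟨hva, hvk⟩
    have hv0 : P v = 0 := hvk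
    rw [← hPid v hva, hv0]
  · rw [Submodule.eq_top_iff']
    intro v
    refine Submodule.mem_sup.mpr ⟨P v, hPmem v, v - P v, ?_, by abel⟩
    change P (v - P v) = 0
    rw [map_sub, hPid _ (hPmem v), sub_self]

theorem semisimple (hn : nK ι ≠ 0) (hσ : W1 ι σ) : IsSemisimpleRepresentation σ := by
  refine ⟨fun a => ?_⟩
  obtain ⟨b, h1, h2⟩ := exists_compl ι σ hn hσ a
  refine ⟨b, IsCompl.of_eq ?_ ?_⟩
  · apply Subrepresentation.toSubmodule_injective
    exact h1
  · apply Subrepresentation.toSubmodule_injective
    exact h2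

end Maschke

section Irr

variable {W : Type*} [AddCommGroup W] [Module k W] (σ : Representation k Γ W)

omit [Fintype (Γ ⧸ ι.range)] in
theorem exists_irreducible_subrep [FiniteDimensional k W] [Nontrivial W] :
    ∃ a : Subrepresentation σ, IsIrreducible a.toRepresentation := by
  classical
  have hex : ∃ m, ∃ a : Subrepresentation σ, a ≠ ⊥ ∧ Module.finrank k a.toSubmodule = m :=
    ⟨_, ⊤, fun h => by
      have h' : (⊤ : Submodule k W) = ⊥ := congrArg Subrepresentation.toSubmodule h
      exact top_ne_bot h', rfl⟩
  obtain ⟨a, ha0, ham⟩ := Nat.find_spec hex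
  have hmin : ∀ a' : Subrepresentation σ, a' ≠ ⊥ →
      Nat.find hex ≤ Module.finrank k a'.toSubmodule :=
    fun a' h => Nat.find_min' hex ⟨a', h, rfl⟩
  refine ⟨a, ?_⟩
  have hAne : a.toSubmodule ≠ ⊥ := fun h => ha0 (Subrepresentation.toSubmodule_injective h)
  haveI : Nontrivial a.toSubmodule := (Submodule.nontrivial_iff_ne_bot).mpr hAne
  refine { exists_pair_ne := ⟨⊥, ⊤, fun h => ?_⟩, eq_bot_or_eq_top := fun c => ?_ }
  · have h' : (⊥ : Submodule k a.toSubmodule) = ⊤ := congrArg Subrepresentation.toSubmodule h
    exact bot_ne_top h'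
  · by_cases hc : c = ⊥
    · exact Or.inl hc
    · right
      let c' : Subrepresentation σ := ⟨c.toSubmodule.map a.toSubmodule.subtype, fun g w hw => by
        obtain ⟨u, hu, rfl⟩ := Submodule.mem_map.mp hw
        exact Submodule.mem_map.mpr
          ⟨a.toRepresentation g u, c.apply_mem_toSubmodule g hu, rfl⟩⟩
      have hfr : Module.finrank k c'.toSubmodule = Module.finrank k c.toSubmodule :=
        Submodule.finrank_map_subtype_eq _ _
      have hcne : c.toSubmodule ≠ ⊥ := fun h => hc (Subrepresentation.toSubmodule_injective h)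
      have hc' : c' ≠ ⊥ := fun h => by
        have h1 : c'.toSubmodule = ⊥ := congrArg Subrepresentation.toSubmodule h
        have h2 : Module.finrank k c'.toSubmodule = 0 := by rw [h1, finrank_bot]
        rw [hfr] at h2
        exact hcne (Submodule.finrank_eq_zero.mp h2)
      have hle := hmin c' hc'
      rw [hfr, ← ham] at hle
      have hge := Submodule.finrank_le c.toSubmodule
      apply Subrepresentation.toSubmodule_injective
      exact Submodule.eq_top_of_finrank_eq (le_antisymm hge hle)

end Irr

section Inv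

variable {W : Type*} [AddCommGroup W] [Module k W] (σ : Representation k Γ W) (H : Subgroup Γ)

omit [Fintype (Γ ⧸ ι.range)] in
lemma finrank_invariants_sub [FiniteDimensional k W] (a : Subrepresentation σ) :
    Module.finrank k (invariants (a.toRepresentation.comp H.subtype)) =
      Module.finrank k ↥(a.toSubmodule ⊓ invariants (σ.comp H.subtype)) := by
  have h1 : invariants (a.toRepresentation.comp H.subtype) =
      Submodule.comap a.toSubmodule.subtype (invariants (σ.comp H.subtype)) := by
    ext u
    simp only [mem_invariants, Submodule.mem_comap, Submodule.subtype_apply]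
    constructor
    · intro h g
      exact congrArg Subtype.val (h g)
    · intro h g
      exact Subtype.ext (h g)
  rw [h1, ← Submodule.finrank_map_subtype_eq, Submodule.map_comap_subtype]

omit [Fintype (Γ ⧸ ι.range)] in
lemma finrank_invariants_add [FiniteDimensional k W] (a b : Subrepresentation σ)
    (h1 : a.toSubmodule ⊓ b.toSubmodule = ⊥) (h2 : a.toSubmodule ⊔ b.toSubmodule = ⊤) :
    Module.finrank k ↥(invariants (σ.comp H.subtype)) =
      Module.finrank k ↥(a.toSubmodule ⊓ invariants (σ.comp H.subtype)) +
        Module.finrank k ↥(b.toSubmodule ⊓ invariants (σ.comp H.subtype)) := by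
  set I := invariants (σ.comp H.subtype) with hI
  have hsup : (a.toSubmodule ⊓ I) ⊔ (b.toSubmodule ⊓ I) = I := by
    apply le_antisymm (sup_le inf_le_right inf_le_right)
    intro v hv
    have hvt : v ∈ a.toSubmodule ⊔ b.toSubmodule := by
      rw [h2]
      exact Submodule.mem_top
    obtain ⟨u, hu, w, hw, rfl⟩ := Submodule.mem_sup.mp hvt
    have key : ∀ g : H, σ (g : Γ) u - u = 0 ∧ σ (g : Γ) w - w = 0 := fun g => by
      have hg : σ (g : Γ) (u + w) = u + w := (mem_invariants _ _).mp hv g
      have hA : σ (g : Γ) u - u ∈ a.toSubmodule :=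
        Submodule.sub_mem _ (a.apply_mem_toSubmodule _ hu) hu
      have hB : σ (g : Γ) w - w ∈ b.toSubmodule :=
        Submodule.sub_mem _ (b.apply_mem_toSubmodule _ hw) hw
      have hsum : σ (g : Γ) u - u = -(σ (g : Γ) w - w) := by
        rw [map_add] at hg
        have : σ (g : Γ) u - u + (σ (g : Γ) w - w) = 0 := by
          rw [sub_add_sub_comm, hg, sub_self]
        exact eq_neg_of_add_eq_zero_left this
      have hin : σ (g : Γ) u - u ∈ a.toSubmodule ⊓ b.toSubmodule :=
        ⟨hA, by rw [hsum]; exact Submodule.neg_mem _ hB⟩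
      rw [h1, Submodule.mem_bot] at hin
      refine ⟨hin, ?_⟩
      rw [hin] at hsum
      exact neg_eq_zero.mp hsum.symm
    refine Submodule.mem_sup.mpr ⟨u, ⟨hu, ?_⟩, w, ⟨hw, ?_⟩, rfl⟩
    · exact (mem_invariants _ _).mpr fun g => sub_eq_zero.mp (key g).1
    · exact (mem_invariants _ _).mpr fun g => sub_eq_zero.mp (key g).2
  have hinf : (a.toSubmodule ⊓ I) ⊓ (b.toSubmodule ⊓ I) = ⊥ := by
    apply le_bot_iff.mp
    calc (a.toSubmodule ⊓ I) ⊓ (b.toSubmodule ⊓ I) ≤ a.toSubmodule ⊓ b.toSubmodule :=
          inf_le_inf inf_le_left inf_le_left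
      _ = ⊥ := h1
  have := Submodule.finrank_sup_add_finrank_inf_eq (a.toSubmodule ⊓ I) (b.toSubmodule ⊓ I)
  rw [hsup, hinf, finrank_bot, add_zero] at this
  exact this

end Inv

/-- the dimension formula by induction, given the irreducible case -/
theorem finrank_eq_invariants_mul (hn : nK ι ≠ 0) (H : Subgroup Γ) (d : ℕ)
    (hd : ∀ (U : Type u) [AddCommGroup U] [Module k U] [FiniteDimensional k U]
      (τ : Representation k Γ U), IsIrreducible τ → W1 ι τ →
      Module.finrank k U = d ∧ Module.finrank k (invariants (τ.comp H.subtype)) = 1) :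
    ∀ (m : ℕ) (W : Type u) [AddCommGroup W] [Module k W] [FiniteDimensional k W]
      (σ : Representation k Γ W), W1 ι σ → Module.finrank k W = m →
      Module.finrank k W = Module.finrank k (invariants (σ.comp H.subtype)) * d := by
  intro m
  induction m using Nat.strong_induction_on with
  | _ m ih =>
    intro W _ _ _ σ hσ hm
    by_cases hW : Subsingleton W
    · have h0 : Module.finrank k W = 0 := Module.finrank_zero_of_subsingleton
      have h1 := Submodule.finrank_le (invariants (σ.comp H.subtype))
      rw [h0] at h1 ⊢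
      rw [Nat.le_zero.mp h1, zero_mul]
    · rw [not_subsingleton_iff_nontrivial] at hW
      obtain ⟨a, ha⟩ := exists_irreducible_subrep σ
      obtain ⟨b, h1, h2⟩ := exists_compl ι σ hn hσ a
      have hWa : W1 ι a.toRepresentation := fun z v => Subtype.ext (hσ z v.1)
      have hWb : W1 ι b.toRepresentation := fun z v => Subtype.ext (hσ z v.1)
      obtain ⟨hda, hia⟩ := hd a.toSubmodule a.toRepresentation ha hWa
      have hsum := Submodule.finrank_sup_add_finrank_inf_eq a.toSubmodule b.toSubmodule
      rw [h2, h1, finrank_bot, add_zero, finrank_top] at hsum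
      haveI : Nontrivial a.toSubmodule := nontrivial_of_irreducible a.toRepresentation
      have hapos : 0 < Module.finrank k a.toSubmodule := Module.finrank_pos
      have hlt : Module.finrank k b.toSubmodule < m := by omega
      have hb := ih _ hlt b.toSubmodule b.toRepresentation hWb rfl
      have hadd := finrank_invariants_add σ H a b h1 h2
      rw [← finrank_invariants_sub σ H a, ← finrank_invariants_sub σ H b, hia] at hadd
      rw [hadd, hsum, hda, hb, add_mul, one_mul]

end

end Groth.Agent.Lib.ThetaRepH1
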