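import Groth.Agent.Lib.ThetaRep4_helper1

/-!
# Representations of theta groups: invariants of a maximal level subgroup, S17507
-/

set_option autoImplicit false
set_option maxHeartbeats 1000000

universe u

namespace Groth.Agent.Lib.ThetaRepH1

open Representation
open scoped commutatorElement

noncomputable section

section Adjoin

variable {Γ : Type u} [Group Γ] (H : Subgroup Γ)

/-- the subgroup generated by `H` and an element `x` commuting with `H` -/
def levelAdjoin (x : Γ) (hx : ∀ h ∈ H, h * x = x * h) : Subgroup Γ where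
  carrier := {y | ∃ h ∈ H, ∃ i : ℤ, y = h * x ^ i}
  one_mem' := ⟨1, H.one_mem, 0, by simp⟩
  mul_mem' := by
    rintro _ _ ⟨h1, hh1, i, rfl⟩ ⟨h2, hh2, j, rfl⟩
    refine ⟨h1 * h2, H.mul_mem hh1 hh2, i + j, ?_⟩
    have hc : h2 * x ^ i = x ^ i * h2 := (Commute.zpow_right (hx h2 hh2) i).eq
    rw [zpow_add]
    calc h1 * x ^ i * (h2 * x ^ j) = h1 * (x ^ i * h2) * x ^ j := by simp only [mul_assoc]
      _ = h1 * (h2 * x ^ i) * x ^ j := by rw [hc]
      _ = h1 * h2 * (x ^ i * x ^ j) := by simp only [mul_assoc]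
  inv_mem' := by
    rintro _ ⟨h1, hh1, i, rfl⟩
    refine ⟨h1⁻¹, H.inv_mem hh1, -i, ?_⟩
    have hc : h1⁻¹ * x ^ (-i) = x ^ (-i) * h1⁻¹ :=
      (Commute.zpow_right (hx h1⁻¹ (H.inv_mem hh1)) (-i)).eq
    rw [hc, zpow_neg, mul_inv_rev]

lemma mem_levelAdjoin {x : Γ} {hx : ∀ h ∈ H, h * x = x * h} {y : Γ} :
    y ∈ levelAdjoin H x hx ↔ ∃ h ∈ H, ∃ i : ℤ, y = h * x ^ i := Iff.rfl

end Adjoin

variable {k : Type u} [Field k] {Γ : Type u} [Group Γ] (ι : kˣ →* Γ)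
  (hι : Function.Injective ι) (hcent : ι.range = Subgroup.center Γ)
  (hcomm : commutator Γ ≤ ι.range)
  (H : Subgroup Γ) (hH : H ⊓ ι.range = ⊥)

section Level

include hH in
lemma level_mk_injective :
    Function.Injective (fun h : H => (QuotientGroup.mk (h : Γ) : Γ ⧸ ι.range)) := by
  intro a b hab
  have h1 : (a : Γ)⁻¹ * (b : Γ) ∈ ι.range := QuotientGroup.eq.mp hab
  have h2 : (a : Γ)⁻¹ * (b : Γ) ∈ H ⊓ ι.range :=
    Subgroup.mem_inf.mpr ⟨H.mul_mem (H.inv_mem a.2) b.2, h1⟩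
  rw [hH, Subgroup.mem_bot] at h2
  apply Subtype.ext
  exact inv_mul_eq_one.mp h2

include hH in
lemma level_finite [Finite (Γ ⧸ ι.range)] : Finite H :=
  Finite.of_injective _ (level_mk_injective ι H hH)

include hcent hH in
lemma level_card_dvd [Finite (Γ ⧸ ι.range)] : Nat.card H ∣ Nat.card (Γ ⧸ ι.range) := by
  haveI : ι.range.Normal := by rw [hcent]; infer_instance
  refine Subgroup.card_dvd_of_injective ((QuotientGroup.mk' ι.range).comp H.subtype) ?_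
  intro a b hab
  exact level_mk_injective ι H hH hab

include hcent hH in
lemma level_card_ne_zero [Fintype (Γ ⧸ ι.range)] (hn : nK ι ≠ 0) :
    ((Nat.card H : ℕ) : k) ≠ 0 := by
  obtain ⟨m, hm⟩ := level_card_dvd ι hcent H hH
  intro h0
  apply hn
  have h1 : Fintype.card (Γ ⧸ ι.range) = Nat.card H * m := by
    rw [← hm, Nat.card_eq_fintype_card]
  change ((Fintype.card (Γ ⧸ ι.range) : ℕ) : k) = 0
  rw [h1, Nat.cast_mul, h0, zero_mul]

include hcomm in
lemma sup_normal : (H ⊔ ι.range).Normal := by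
  refine ⟨fun n hn x => ?_⟩
  have h1 : x * n * x⁻¹ = ⁅x, n⁆ * n := by rw [commutatorElement_def]; group
  rw [h1]
  exact (H ⊔ ι.range).mul_mem
    ((le_sup_right : ι.range ≤ H ⊔ ι.range) (comm_mem ι hcomm x n)) hn

include hι hcent hcomm hH in
/-- the centraliser of a maximal level subgroup is `H · ι(kˣ)` -/
theorem centralizer_level [IsAlgClosed k] [Fintype (Γ ⧸ ι.range)]
    (hmax : ∀ H' : Subgroup Γ, H' ⊓ ι.range = ⊥ → H ≤ H' → H' = H)
    (g : Γ) (hg : ∀ h ∈ H, h * g = g * h) : ∃ h ∈ H, ∃ z : kˣ, g = h * ι z := by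
  haveI hnZ : ι.range.Normal := by rw [hcent]; infer_instance
  haveI hnN : (H ⊔ ι.range).Normal := sup_normal ι hcomm H
  have hmemN : ∀ x : Γ, x ∈ H ⊔ ι.range ↔ ∃ y ∈ H, ∃ z ∈ ι.range, y * z = x := fun x =>
    Subgroup.mem_sup_of_normal_right
  have hHN : H ≤ H ⊔ ι.range := le_sup_left
  have hZN : ι.range ≤ H ⊔ ι.range := le_sup_right
  have hfin : IsOfFinOrder (QuotientGroup.mk g : Γ ⧸ (H ⊔ ι.range)) := by
    have h1 : IsOfFinOrder (QuotientGroup.mk g : Γ ⧸ ι.range) := isOfFinOrder_of_finite _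
    obtain ⟨n, hn0, hn1⟩ := isOfFinOrder_iff_pow_eq_one.mp h1
    refine isOfFinOrder_iff_pow_eq_one.mpr ⟨n, hn0, ?_⟩
    rw [← QuotientGroup.mk_pow, QuotientGroup.eq_one_iff] at hn1
    rw [← QuotientGroup.mk_pow, QuotientGroup.eq_one_iff]
    exact hZN hn1
  set r := orderOf (QuotientGroup.mk g : Γ ⧸ (H ⊔ ι.range)) with hr
  have hr0 : 0 < r := hfin.orderOf_pos
  have hdvd : ∀ i : ℤ, g ^ i ∈ H ⊔ ι.range → (r : ℤ) ∣ i := fun i hi => by
    rw [hr, orderOf_dvd_iff_zpow_eq_one, ← QuotientGroup.mk_zpow, QuotientGroup.eq_one_iff]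
    exact hi
  have hgr : g ^ r ∈ H ⊔ ι.range := by
    rw [← QuotientGroup.eq_one_iff, QuotientGroup.mk_pow, hr]
    exact pow_orderOf_eq_one _
  obtain ⟨h₀, hh₀, c', ⟨c₀, rfl⟩, hc⟩ := (hmemN _).mp hgr
  obtain ⟨c1, hc1⟩ := IsAlgClosed.exists_pow_nat_eq ((c₀⁻¹ : kˣ) : k) hr0
  have hc1ne : c1 ≠ 0 := by
    intro h0
    rw [h0, zero_pow hr0.ne'] at hc1
    exact (c₀⁻¹).ne_zero hc1.symm
  set c : kˣ := Units.mk0 c1 hc1ne with hcdef
  have hcr : c ^ r = c₀⁻¹ := by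
    apply Units.ext
    rw [Units.val_pow_eq_pow_val, hcdef, Units.val_mk0, hc1]
  have hcm : Commute g (ι c) := (iota_comm ι hcent c g).symm
  set x := g * ι c with hx
  have hxH : ∀ h ∈ H, h * x = x * h := fun h hh => by
    rw [hx]
    calc h * (g * ι c) = (h * g) * ι c := (mul_assoc _ _ _).symm
      _ = (g * h) * ι c := by rw [hg h hh]
      _ = g * (h * ι c) := mul_assoc _ _ _
      _ = g * (ι c * h) := by rw [iota_comm ι hcent c h]
      _ = (g * ι c) * h := (mul_assoc _ _ _).symm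
  have hxr : x ^ r = h₀ := by
    rw [hx, hcm.mul_pow, ← map_pow, hcr, ← hc, map_inv, mul_assoc, mul_inv_cancel, mul_one]
  have hle : H ≤ levelAdjoin H x hxH := fun h hh => ⟨h, hh, 0, by simp⟩
  have hxmem : x ∈ levelAdjoin H x hxH := ⟨1, H.one_mem, 1, by simp⟩
  have hbot : levelAdjoin H x hxH ⊓ ι.range = ⊥ := by
    rw [eq_bot_iff]
    intro y hy0
    obtain ⟨hy1, hy⟩ := Subgroup.mem_inf.mp hy0
    obtain ⟨h, hh, i, rfl⟩ := hy1
    rw [Subgroup.mem_bot]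
    have hxi : x ^ i ∈ H ⊔ ι.range := by
      have h1 : x ^ i = h⁻¹ * (h * x ^ i) := by group
      rw [h1]
      exact (H ⊔ ι.range).mul_mem (hHN (H.inv_mem hh)) (hZN hy)
    have hgi : g ^ i ∈ H ⊔ ι.range := by
      have h1 : g ^ i = x ^ i * (ι c ^ i)⁻¹ := by
        rw [hx, hcm.mul_zpow, mul_assoc, mul_inv_cancel, mul_one]
      rw [h1]
      refine (H ⊔ ι.range).mul_mem hxi ((H ⊔ ι.range).inv_mem (hZN ?_))
      exact ι.range.zpow_mem ⟨c, rfl⟩ i
    obtain ⟨q, rfl⟩ := hdvd i hgi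
    have h2 : x ^ ((r : ℤ) * q) = h₀ ^ q := by
      rw [zpow_mul, zpow_natCast, hxr]
    rw [h2] at hy ⊢
    have hm : h * h₀ ^ q ∈ H ⊓ ι.range :=
      Subgroup.mem_inf.mpr ⟨H.mul_mem hh (H.zpow_mem hh₀ q), hy⟩
    rw [hH] at hm
    exact Subgroup.mem_bot.mp hm
  have heq := hmax _ hbot hle
  have hxin : x ∈ H := by
    rw [← heq]
    exact hxmem
  refine ⟨x, hxin, c⁻¹, ?_⟩
  rw [hx, map_inv, mul_assoc, mul_inv_cancel, mul_one]

end Level

section CharSum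

variable [Fintype H]

include hι hcent in
lemma level_char_sum_zero (g : Γ) (h₀ : H) (hne : beta ι hcomm (h₀ : Γ) g ≠ 1) :
    ∑ h : H, ((beta ι hcomm (h : Γ) g : kˣ) : k) = 0 := by
  set S := ∑ h : H, ((beta ι hcomm (h : Γ) g : kˣ) : k) with hS
  have h1 : ∑ h : H, ((beta ι hcomm ((h₀ * h : H) : Γ) g : kˣ) : k) = S := by
    rw [hS]
    exact Equiv.sum_comp (Equiv.mulLeft h₀) (fun h : H => ((beta ι hcomm (h : Γ) g : kˣ) : k))
  have h2 : ∑ h : H, ((beta ι hcomm ((h₀ * h : H) : Γ) g : kˣ) : k) =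
      ((beta ι hcomm (h₀ : Γ) g : kˣ) : k) * S := by
    rw [hS, Finset.mul_sum]
    refine Finset.sum_congr rfl fun h _ => ?_
    rw [Subgroup.coe_mul, beta_mul_left ι hι hcent hcomm, Units.val_mul]
  rw [h2] at h1
  have h3 : (((beta ι hcomm (h₀ : Γ) g : kˣ) : k) - 1) * S = 0 := by
    rw [sub_mul, one_mul, h1, sub_self]
  rcases mul_eq_zero.mp h3 with h4 | h4
  · exfalso
    apply hne
    apply Units.ext
    rw [Units.val_one]
    exact sub_eq_zero.mp h4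
  · exact h4

end CharSum

section Operator

variable [Fintype H] {U : Type*} [AddCommGroup U] [Module k U] (ρ : Representation k Γ U)

/-- the sum of the operators of the level subgroup -/
def EH : U →ₗ[k] U := ∑ h : H, ρ (h : Γ)

lemma EH_apply (v : U) : EH H ρ v = ∑ h : H, ρ (h : Γ) v := by
  simp [EH, LinearMap.sum_apply]

lemma rho_EH (h : Γ) (hh : h ∈ H) (v : U) : ρ h (EH H ρ v) = EH H ρ v := by
  rw [EH_apply, map_sum]
  have h1 := Equiv.sum_comp (Equiv.mulLeft (⟨h, hh⟩ : H)) (fun h' : H => ρ (h' : Γ) v)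
  rw [← h1]
  refine Finset.sum_congr rfl fun h' _ => ?_
  change ρ h (ρ (h' : Γ) v) = ρ (((⟨h, hh⟩ : H) * h' : H) : Γ) v
  rw [Subgroup.coe_mul, map_mul]
  rfl

lemma EH_of_invariant (v : U) (hv : v ∈ invariants (ρ.comp H.subtype)) :
    EH H ρ v = ((Nat.card H : ℕ) : k) • v := by
  rw [EH_apply]
  have h1 : ∀ h : H, ρ (h : Γ) v = v := fun h => (mem_invariants _ _).mp hv h
  rw [Finset.sum_congr rfl fun h _ => h1 h, Finset.sum_const, Finset.card_univ,
    ← Nat.cast_smul_eq_nsmul k, Nat.card_eq_fintype_card]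

lemma EH_mem_invariants (v : U) : EH H ρ v ∈ invariants (ρ.comp H.subtype) :=
  (mem_invariants _ _).mpr fun h => rho_EH H ρ h h.2 v

lemma EH_EH (v : U) : EH H ρ (EH H ρ v) = ((Nat.card H : ℕ) : k) • EH H ρ v :=
  EH_of_invariant H ρ _ (EH_mem_invariants H ρ v)

lemma EH_rho_EH (hρ : W1 ι ρ) (g : Γ) (v : U) :
    EH H ρ (ρ g (EH H ρ v)) =
      (∑ h : H, ((beta ι hcomm (h : Γ) g : kˣ) : k)) • ρ g (EH H ρ v) := by
  rw [EH_apply, Finset.sum_smul]
  refine Finset.sum_congr rfl fun h _ => ?_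
  have h1 := hρ.conj hcomm (h : Γ) g (ρ (h : Γ) (EH H ρ v))
  rw [rho_inv_apply, rho_EH H ρ (h : Γ) h.2 v] at h1
  exact h1

include hι hcent hcomm hH in
lemma exists_scalar_g [IsAlgClosed k] [Fintype (Γ ⧸ ι.range)]
    (hmax : ∀ H' : Subgroup Γ, H' ⊓ ι.range = ⊥ → H ≤ H' → H' = H)
    (hρ : W1 ι ρ) (g : Γ) :
    ∃ c : k, ∀ v, EH H ρ (ρ g (EH H ρ v)) = c • EH H ρ v := by
  by_cases hg : ∀ h ∈ H, h * g = g * h
  · obtain ⟨h₁, hh₁, z, hgz⟩ := centralizer_level ι hι hcent hcomm H hH hmax g hg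
    refine ⟨(z : k) * ((Nat.card H : ℕ) : k), fun v => ?_⟩
    have h1 : ρ g (EH H ρ v) = (z : k) • EH H ρ v := by
      rw [hgz, map_mul]
      change ρ h₁ (ρ (ι z) (EH H ρ v)) = _
      rw [hρ, map_smul, rho_EH H ρ h₁ hh₁]
    rw [h1, map_smul, EH_EH, smul_smul]
  · push_neg at hg
    obtain ⟨h₀, hh₀, hne⟩ := hg
    have hbeta : beta ι hcomm ((⟨h₀, hh₀⟩ : H) : Γ) g ≠ 1 := by
      intro h1
      apply hne
      have h2 := iota_beta ι hcomm h₀ g
      change beta ι hcomm h₀ g = 1 at h1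
      rw [h1, map_one] at h2
      exact commutatorElement_eq_one_iff_mul_comm.mp h2.symm
    refine ⟨0, fun v => ?_⟩
    rw [EH_rho_EH ι hcomm H ρ hρ, level_char_sum_zero ι hι hcent hcomm H g ⟨h₀, hh₀⟩ hbeta,
      zero_smul, zero_smul]

include hι hcent hcomm hH in
lemma exists_scalar_T [IsAlgClosed k] [Fintype (Γ ⧸ ι.range)] [FiniteDimensional k U]
    [IsIrreducible ρ] (hn : nK ι ≠ 0)
    (hmax : ∀ H' : Subgroup Γ, H' ⊓ ι.range = ⊥ → H ≤ H' → H' = H)
    (hρ : W1 ι ρ) (T : U →ₗ[k] U) :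
    ∃ c : k, ∀ v, EH H ρ (T (EH H ρ v)) = c • EH H ρ v := by
  obtain ⟨a, rfl⟩ := Phi_surjective ι hι hcent hcomm ρ hn hρ T
  choose cg hcg using fun g => exists_scalar_g ι hι hcent hcomm H hH ρ hmax hρ g
  refine ⟨∑ x : Γ ⧸ ι.range, a x * cg (Quotient.out x)⁻¹, fun v => ?_⟩
  rw [Phi_apply, map_sum, Finset.sum_smul]
  refine Finset.sum_congr rfl fun x _ => ?_
  rw [map_smul, hcg, smul_smul]

include hι hcent hcomm hH in
lemma EH_ne_zero [Fintype (Γ ⧸ ι.range)] [Nontrivial U] (hn : nK ι ≠ 0) (hρ : W1 ι ρ) :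
    ∃ v, EH H ρ v ≠ 0 := by
  classical
  by_contra hcon
  push_neg at hcon
  obtain ⟨v, hv⟩ := exists_ne (0 : U)
  apply hv
  have h0 : ∑ x : Γ ⧸ ι.range, ρ (Quotient.out x) (EH H ρ (ρ (Quotient.out x)⁻¹ v)) = 0 := by
    simp [hcon]
  have h1 : ∀ x : Γ ⧸ ι.range, ρ (Quotient.out x) (EH H ρ (ρ (Quotient.out x)⁻¹ v)) =
      ∑ h : H, ρ (Quotient.out x) (ρ (h : Γ) (ρ (Quotient.out x)⁻¹ v)) := fun x => by
    rw [EH_apply, map_sum]
  rw [Finset.sum_congr rfl fun x _ => h1 x, Finset.sum_comm] at h0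
  have h2 : ∀ h : H,
      ∑ x : Γ ⧸ ι.range, ρ (Quotient.out x) (ρ (h : Γ) (ρ (Quotient.out x)⁻¹ v)) =
      if h = 1 then nK ι • v else 0 := fun h => by
    rw [avg_rho ι hι hcent hcomm ρ hρ]
    have hiff : (h : Γ) ∈ ι.range ↔ h = 1 := by
      constructor
      · intro hm
        have h3 : (h : Γ) ∈ H ⊓ ι.range := Subgroup.mem_inf.mpr ⟨h.2, hm⟩
        rw [hH, Subgroup.mem_bot] at h3
        exact Subtype.ext h3
      · intro h1
        rw [h1]
        exact ι.range.one_mem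
    by_cases hh : h = 1
    · rw [if_pos hh, if_pos (hiff.mpr hh), hh]
      simp
    · rw [if_neg hh, if_neg (fun hm => hh (hiff.mp hm))]
  rw [Finset.sum_congr rfl fun h _ => h2 h, Finset.sum_ite_eq', if_pos (Finset.mem_univ _)] at h0
  rcases smul_eq_zero.mp h0 with h3 | h3
  · exact absurd h3 hn
  · exact h3

end Operator

section Main

variable {U : Type*} [AddCommGroup U] [Module k U] (ρ : Representation k Γ U)

include hι hcent hcomm hH in
theorem finrank_invariants_eq_one [IsAlgClosed k] [Fintype (Γ ⧸ ι.range)]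
    [FiniteDimensional k U] [IsIrreducible ρ] (hn : nK ι ≠ 0)
    (hmax : ∀ H' : Subgroup Γ, H' ⊓ ι.range = ⊥ → H ≤ H' → H' = H) (hρ : W1 ι ρ) :
    Module.finrank k (invariants (ρ.comp H.subtype)) = 1 := by
  haveI : Nontrivial U := nontrivial_of_irreducible ρ
  haveI : Finite H := level_finite ι H hH
  haveI : Fintype H := Fintype.ofFinite _
  have hcard : ((Nat.card H : ℕ) : k) ≠ 0 := level_card_ne_zero ι hcent H hH hn
  obtain ⟨v₀, hv₀⟩ := EH_ne_zero ι hι hcent hcomm H hH ρ hn hρ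
  set v := EH H ρ v₀ with hv
  have hvI : v ∈ invariants (ρ.comp H.subtype) := EH_mem_invariants H ρ v₀
  apply le_antisymm
  · apply finrank_le_one (⟨v, hvI⟩ : invariants (ρ.comp H.subtype))
    rintro ⟨w, hw⟩
    obtain ⟨T, -, hT⟩ := LinearMap.exists_extend_of_notMem (K := k)
      (0 : (⊥ : Submodule k U) →ₗ[k] U) (show v ∉ (⊥ : Submodule k U) by
        rw [Submodule.mem_bot]; exact hv₀) w
    obtain ⟨c, hc⟩ := exists_scalar_T ι hι hcent hcomm H hH ρ hn hmax hρ T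
    have h1 := hc v
    rw [EH_of_invariant H ρ v hvI, map_smul, hT, map_smul, EH_of_invariant H ρ w hw,
      smul_smul, smul_smul] at h1
    refine ⟨(((Nat.card H : ℕ) : k) * ((Nat.card H : ℕ) : k))⁻¹ *
      (c * ((Nat.card H : ℕ) : k)), Subtype.ext ?_⟩
    change ((((Nat.card H : ℕ) : k) * ((Nat.card H : ℕ) : k))⁻¹ *
      (c * ((Nat.card H : ℕ) : k))) • v = w
    rw [← smul_smul, ← h1, smul_smul, inv_mul_cancel₀ (mul_ne_zero hcard hcard), one_smul]
  · have hpos : 0 < Module.finrank k ↥(invariants (ρ.comp H.subtype)) :=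
      (Module.finrank_pos_iff_exists_ne_zero (R := k)).mpr
        ⟨⟨v, hvI⟩, fun h => hv₀ (congrArg Subtype.val h)⟩
    exact hpos

end Main

theorem main17507 (k : Type u) [Field k] [IsAlgClosed k]
    (Γ : Type u) [Group Γ] (ι : kˣ →* Γ) (hι : Function.Injective ι)
    (hcent : ι.range = Subgroup.center Γ) (hcomm : commutator Γ ≤ ι.range)
    [Finite (Γ ⧸ ι.range)] (hcop : (Nat.card (Γ ⧸ ι.range)).Coprime (ringExpChar k))
    (V : FDRep k Γ) (hV : Representation.IsIrreducible V.ρ)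
    (hV1 : ∀ (z : kˣ) (v : V), V.ρ (ι z) v = (z : k) • v)
    (W : FDRep k Γ) (hW1 : ∀ (z : kˣ) (w : W), W.ρ (ι z) w = (z : k) • w)
    (H : Subgroup Γ) (hH : H ⊓ ι.range = ⊥)
    (hmax : ∀ H' : Subgroup Γ, H' ⊓ ι.range = ⊥ → H ≤ H' → H' = H) :
    Representation.IsSemisimpleRepresentation W.ρ ∧
      Module.finrank k W =
        Module.finrank k (Representation.invariants (W.ρ.comp H.subtype)) *
          Module.finrank k V := by
  haveI : Fintype (Γ ⧸ ι.range) := Fintype.ofFinite _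
  have hcard : Nat.card (Γ ⧸ ι.range) = Fintype.card (Γ ⧸ ι.range) := Nat.card_eq_fintype_card
  have hn : nK ι ≠ 0 :=
    natCast_ne_zero_of_coprime k _ Fintype.card_ne_zero (hcard ▸ hcop)
  refine ⟨semisimple ι W.ρ hn hW1, ?_⟩
  refine finrank_eq_invariants_mul ι hn H (Module.finrank k V) ?_ _ W W.ρ hW1 rfl
  intro U _ _ _ τ hτ hτ1
  haveI := hτ
  haveI := hV
  refine ⟨?_, finrank_invariants_eq_one ι hι hcent hcomm H hH τ hn hmax hτ1⟩
  have h1 := finrank_sq ι hι hcent hcomm τ hn hτ1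
  have h2 := finrank_sq ι hι hcent hcomm V.ρ hn hV1
  exact Nat.pow_left_injective two_ne_zero (h1.trans h2.symm)

end

end Groth.Agent.Lib.ThetaRepH1
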