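import Mathlib
import Groth.Agent.Lib.ChevGen_helper7

/-!
# Quasi-affineness along nil-thickenings (helper7)

If `i : Z ⟶ X` is a closed immersion and a homeomorphism and `Z` is quasi-affine, then `X` is
quasi-affine.  The key point is an elementary lifting of powers of sections: if `g` is a global
section of `Z` with `Z_g` affine then some power `g ^ m` (up to nilpotents) lifts to a global section
`F` of `X` with `X_F` the open subscheme of `X` supported on `Z_g`.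
-/

set_option autoImplicit false
universe u
open CategoryTheory CategoryTheory.Limits AlgebraicGeometry TopologicalSpace Opposite

namespace Groth.Agent.Lib.ThickQAffH7

section Algebra

theorem pow_eq_pow_of_nilpotent_sub {R : Type*} [CommRing R] (a b : R) (T e : ℕ)
    (hT : (a - b) ^ T = 0) (he : b ^ e * (a - b) = 0) (K : ℕ) (hK : e + T ≤ K) :
    a ^ K = b ^ K := by
  obtain ⟨δ, hδ⟩ : ∃ δ, δ = a - b := ⟨_, rfl⟩
  have ha : a = δ + b := by rw [hδ]; ring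
  rw [← hδ] at hT he
  rw [ha, add_pow, Finset.sum_eq_single 0]
  · simp
  · intro t ht ht0
    rw [Finset.mem_range] at ht
    by_cases htT : T ≤ t
    · rw [pow_eq_zero_of_le htT hT]; simp
    · rw [not_le] at htT
      obtain ⟨t', rfl⟩ : ∃ t', t = t' + 1 := ⟨t - 1, by omega⟩
      obtain ⟨q, hq⟩ : ∃ q, K - (t' + 1) = q + e := ⟨K - (t' + 1) - e, by omega⟩
      rw [hq, pow_succ, pow_add]
      have h3 : δ ^ t' * δ * (b ^ q * b ^ e) = δ ^ t' * b ^ q * (b ^ e * δ) := by ring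
      rw [h3, he]; simp
  · intro h; exact absurd (Finset.mem_range.mpr (Nat.succ_pos K)) h

theorem exists_lift_pow {A R A₀ : Type*} [CommRing A] [CommRing R] [CommRing A₀]
    (φ : A →+* R) (ψ : A →+* A₀) (a ν : A) (n : R) (T r : ℕ) (hTpos : 0 < T)
    (hψν : ψ ν = 0) (hn : n ^ T = 0) (hν : φ ν = φ a ^ r * n) (m : ℕ) (hm : T * (r + 1) ≤ m) :
    ∃ F : A, φ F = (φ a + n) ^ m ∧ ψ F = ψ a ^ m := by
  refine ⟨∑ t ∈ Finset.range T, a ^ (m - t * (r + 1)) * ν ^ t * (m.choose t : A), ?_, ?_⟩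
  · rw [map_sum, show φ a + n = n + φ a from add_comm _ _, add_pow]
    have hTm : T ≤ m + 1 := by
      have : T * 1 ≤ T * (r + 1) := Nat.mul_le_mul_left _ (by omega)
      omega
    have hsub : Finset.range T ⊆ Finset.range (m + 1) := Finset.range_subset_range.2 hTm
    rw [← Finset.sum_subset hsub]
    · apply Finset.sum_congr rfl
      intro t ht
      rw [Finset.mem_range] at ht
      simp only [map_mul, map_pow, map_natCast, hν]
      have h1 : t * (r + 1) ≤ m := le_trans (Nat.mul_le_mul_right _ ht.le) hm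
      have h2 : m - t = (m - t * (r + 1)) + r * t := by
        have : t * (r + 1) = r * t + t := by ring
        omega
      rw [h2, pow_add, mul_pow, ← pow_mul]
      ring
    · intro t _ ht
      rw [Finset.mem_range, not_lt] at ht
      rw [pow_eq_zero_of_le ht hn]; simp
  · rw [map_sum, Finset.sum_eq_single 0]
    · simp
    · intro t _ ht0
      simp only [map_mul, map_pow, hψν]
      rw [zero_pow ht0]; simp
    · intro h; exact absurd (Finset.mem_range.mpr hTpos) h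

end Algebra

section Res

/-- Restriction of sections as a ring homomorphism. -/
noncomputable abbrev res (X : Scheme.{u}) {D W : X.Opens} (h : D ≤ W) : Γ(X, W) →+* Γ(X, D) :=
  (X.presheaf.map (homOfLE h).op).hom

theorem res_res (X : Scheme.{u}) {D W W' : X.Opens} (h : D ≤ W) (h' : W ≤ W') (s : Γ(X, W')) :
    res X h (res X h' s) = res X (h.trans h') s := by
  have := congrArg (fun φ => φ.hom s) (X.presheaf.map_comp (homOfLE h').op (homOfLE h).op)
  exact this.symm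

theorem res_eq_zero_of_eq (X : Scheme.{u}) {D D' W : X.Opens} (e : D = D') (h : D ≤ W)
    (h' : D' ≤ W) (s : Γ(X, W)) (hs : res X h s = 0) : res X h' s = 0 := by
  subst e; exact hs

theorem eq_of_res_eq₂ (X : Scheme.{u}) {D D₁ D₂ : X.Opens} (h₁ : D₁ ≤ D) (h₂ : D₂ ≤ D)
    (hc : D ≤ D₁ ⊔ D₂) (s t : Γ(X, D)) (e₁ : res X h₁ s = res X h₁ t)
    (e₂ : res X h₂ s = res X h₂ t) : s = t :=
  X.sheaf.eq_of_locally_eq₂ (homOfLE h₁) (homOfLE h₂) hc s t e₁ e₂

theorem exists_glue₂ (X : Scheme.{u}) (S V : X.Opens) (a : Γ(X, S)) (b : Γ(X, V))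
    (h : res X (inf_le_left : S ⊓ V ≤ S) a = res X (inf_le_right : S ⊓ V ≤ V) b) :
    ∃ c : Γ(X, S ⊔ V), res X le_sup_left c = a ∧ res X le_sup_right c = b := by
  have hmem : ((a, b) : Γ(X, S) × Γ(X, V)) ∈ RingHom.eqLocus
      (RingHom.comp (X.sheaf.obj.map (homOfLE inf_le_left : S ⊓ V ⟶ S).op).hom
        (RingHom.fst (X.sheaf.obj.obj <| op S) (X.sheaf.obj.obj <| op V)))
      (RingHom.comp (X.sheaf.obj.map (homOfLE inf_le_right : S ⊓ V ⟶ V).op).hom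
        (RingHom.snd (X.sheaf.obj.obj <| op S) (X.sheaf.obj.obj <| op V))) := h
  refine ⟨(X.sheaf.objSupIsoProdEqLocus S V).inv ⟨(a, b), hmem⟩, ?_, ?_⟩
  · exact X.sheaf.objSupIsoProdEqLocus_inv_fst S V ⟨(a, b), hmem⟩
  · exact X.sheaf.objSupIsoProdEqLocus_inv_snd S V ⟨(a, b), hmem⟩

variable {Z X : Scheme.{u}} (i : Z ⟶ X)

/-- The comorphism on sections as a ring homomorphism. -/
noncomputable abbrev app (W : X.Opens) : Γ(X, W) →+* Γ(Z, i ⁻¹ᵁ W) := (i.app W).hom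

theorem app_res {D W : X.Opens} (h : D ≤ W) (s : Γ(X, W)) :
    app i D (res X h s) = res Z (i.preimage_mono h) (app i W s) := by
  have := congrArg (fun φ => φ.hom s) (i.naturality (homOfLE h).op)
  exact this

theorem isNilpotent_of_app_eq_zero (hs : Function.Surjective i) {W : X.Opens}
    (hW : IsCompact (W : Set X)) (s : Γ(X, W)) (h : app i W s = 0) : IsNilpotent s := by
  rw [Scheme.isNilpotent_iff_basicOpen_eq_bot_of_isCompact hW, eq_bot_iff]
  intro x hx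
  obtain ⟨z, rfl⟩ := hs x
  have hz : z ∈ i ⁻¹ᵁ X.basicOpen s := hx
  rw [Scheme.preimage_basicOpen] at hz
  have h' : i.app W s = 0 := h
  rw [h', Scheme.basicOpen_zero] at hz
  exact hz

theorem opens_ext_of_preimage (hs : Function.Surjective i) {A B : X.Opens}
    (h : i ⁻¹ᵁ A = i ⁻¹ᵁ B) : A = B := by
  ext x
  obtain ⟨z, rfl⟩ := hs x
  have := congrArg (fun O : Z.Opens => z ∈ O) h
  exact Iff.of_eq this

theorem basicOpen_eq (hs : Function.Surjective i) (g : Γ(Z, ⊤)) (U : X.Opens)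
    (hU : i ⁻¹ᵁ U = Z.basicOpen g) {W : X.Opens} (F : Γ(X, W)) (m : ℕ) (hm : 0 < m)
    (hF : app i W F = res Z (le_top : i ⁻¹ᵁ W ≤ ⊤) (g ^ m)) : X.basicOpen F = W ⊓ U := by
  apply opens_ext_of_preimage i hs
  rw [Scheme.preimage_basicOpen]
  have hF' : i.app W F = Z.presheaf.map (homOfLE (le_top : i ⁻¹ᵁ W ≤ ⊤)).op (g ^ m) := hF
  rw [hF', Scheme.basicOpen_res, Scheme.basicOpen_pow _ _ hm, ← hU]
  rfl

end Res

section Main

variable {Z X : Scheme.{u}} (i : Z ⟶ X)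

/-- The inductive statement: a lift over `W` of a power of `g`, compatible with `G` over `U`. -/
def P (g : Γ(Z, ⊤)) (U : X.Opens) (G : Γ(X, U)) (W : X.Opens) : Prop :=
  ∃ m : ℕ, 0 < m ∧ ∃ F : Γ(X, W),
    (∀ (D : X.Opens) (h₁ : D ≤ W) (h₂ : D ≤ U), res X h₁ F = res X h₂ (G ^ m)) ∧
    app i W F = res Z (le_top : i ⁻¹ᵁ W ≤ ⊤) (g ^ m)

theorem exists_affine_lift [IsClosedImmersion i] (hs : Function.Surjective i) (g : Γ(Z, ⊤))
    (U : X.Opens) (hU : i ⁻¹ᵁ U = Z.basicOpen g) (G : Γ(X, U))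
    (hG : app i U G = res Z (le_top : i ⁻¹ᵁ U ≤ ⊤) g) {V : X.Opens} (hV : IsAffineOpen V) :
    ∃ m₀ : ℕ, ∀ m, m₀ ≤ m → ∃ F : Γ(X, V),
      (∀ (D : X.Opens) (h₁ : D ≤ V) (h₂ : D ≤ U), res X h₁ F = res X h₂ (G ^ m)) ∧
      app i V F = res Z (le_top : i ⁻¹ᵁ V ≤ ⊤) (g ^ m) := by
  obtain ⟨gV, hgV⟩ := i.app_surjective V hV (res Z (le_top : i ⁻¹ᵁ V ≤ ⊤) g)
  have hgV' : app i V gV = res Z (le_top : i ⁻¹ᵁ V ≤ ⊤) g := hgV
  have hD₀ : X.basicOpen gV = V ⊓ U :=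
    basicOpen_eq i hs g U hU gV 1 one_pos (by rw [pow_one]; exact hgV')
  have hD₀V : X.basicOpen gV ≤ V := X.basicOpen_le gV
  have hD₀U : X.basicOpen gV ≤ U := hD₀.le.trans inf_le_right
  have hD₀aff : IsAffineOpen (X.basicOpen gV) := hV.basicOpen gV
  have hn0 : app i (X.basicOpen gV) (res X hD₀U G - res X hD₀V gV) = 0 := by
    rw [map_sub, app_res, app_res, hG, hgV', res_res, res_res, sub_self]
  obtain ⟨T, hT⟩ := isNilpotent_of_app_eq_zero i hs hD₀aff.isCompact _ hn0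
  obtain ⟨r, ν₀, hν₀⟩ := exists_eq_pow_mul_of_isAffineOpen X V hV gV
    (res X hD₀U G - res X hD₀V gV)
  have hν₀' : res X hD₀V ν₀ = res X hD₀V gV ^ r * (res X hD₀U G - res X hD₀V gV) := hν₀
  have hcompact : IsCompact ((i ⁻¹ᵁ V : Z.Opens) : Set Z) := (hV.preimage i).isCompact
  have hz0 : res Z (i.preimage_mono hD₀V) (app i V ν₀) = 0 := by
    rw [← app_res i hD₀V, hν₀', map_mul, hn0, mul_zero]
  have hz : res Z (Z.basicOpen_le (i.app V gV)) (app i V ν₀) = 0 :=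
    res_eq_zero_of_eq Z (Scheme.preimage_basicOpen i gV) _ _ _ hz0
  obtain ⟨s, hs'⟩ := exists_pow_mul_eq_zero_of_res_basicOpen_eq_zero_of_isCompact Z hcompact
    (i.app V ν₀) (i.app V gV) hz
  have hs'' : app i V gV ^ s * app i V ν₀ = 0 := hs'
  have hψν : app i V (gV ^ s * ν₀) = 0 := by rw [map_mul, map_pow, hs'']
  have hν : res X hD₀V (gV ^ s * ν₀) =
      res X hD₀V gV ^ (s + r) * (res X hD₀U G - res X hD₀V gV) := by
    rw [map_mul, map_pow, hν₀', pow_add, mul_assoc]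
  refine ⟨(T + 1) * (s + r + 1), fun m hm => ?_⟩
  obtain ⟨F, hF1, hF2⟩ := exists_lift_pow (res X hD₀V) (app i V) gV (gV ^ s * ν₀)
    (res X hD₀U G - res X hD₀V gV) (T + 1) (s + r) (Nat.succ_pos T) hψν
    (by rw [pow_succ, hT, zero_mul]) hν m hm
  have hsum : res X hD₀V gV + (res X hD₀U G - res X hD₀V gV) = res X hD₀U G := by ring
  rw [hsum] at hF1
  refine ⟨F, fun D h₁ h₂ => ?_, ?_⟩
  · have hDD₀ : D ≤ X.basicOpen gV := (le_inf h₁ h₂).trans hD₀.ge
    rw [← res_res X hDD₀ hD₀V, hF1, ← map_pow, res_res]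
  · rw [hF2, hgV', map_pow]

theorem P_bot (g : Γ(Z, ⊤)) (U : X.Opens) (G : Γ(X, U)) : P i g U G ⊥ := by
  refine ⟨1, one_pos, 0, fun D h₁ h₂ => ?_, ?_⟩
  · have hD : D = ⊥ := le_bot_iff.mp h₁
    subst hD
    exact Subsingleton.elim _ _
  · have : Subsingleton Γ(Z, i ⁻¹ᵁ ⊥) := (inferInstance : Subsingleton Γ(Z, ⊥))
    exact Subsingleton.elim _ _

theorem step [IsClosedImmersion i] [QuasiSeparatedSpace X] (hs : Function.Surjective i)
    (g : Γ(Z, ⊤)) (U : X.Opens) (hU : i ⁻¹ᵁ U = Z.basicOpen g) (G : Γ(X, U))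
    (hG : app i U G = res Z (le_top : i ⁻¹ᵁ U ≤ ⊤) g) (S : X.Opens)
    (hS : IsCompact (S : Set X)) (V : X.Opens) (hV : IsAffineOpen V) (hP : P i g U G S) :
    P i g U G (S ⊔ V) := by
  obtain ⟨m₁, hm₁, F₁, hF₁, hF₁'⟩ := hP
  obtain ⟨m₀, hm₀⟩ := exists_affine_lift i hs g U hU G hG hV
  have hmm₀ : m₀ ≤ m₁ * (m₀ + 1) :=
    le_trans (Nat.le_succ m₀) (Nat.le_mul_of_pos_left _ hm₁)
  obtain ⟨F₂, hF₂, hF₂'⟩ := hm₀ (m₁ * (m₀ + 1)) hmm₀
  have hmpos : 0 < m₁ * (m₀ + 1) := Nat.mul_pos hm₁ (Nat.succ_pos _)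
  have ha₀ : ∀ (D : X.Opens) (h₁ : D ≤ S) (h₂ : D ≤ U),
      res X h₁ (F₁ ^ (m₀ + 1)) = res X h₂ (G ^ (m₁ * (m₀ + 1))) := by
    intro D h₁ h₂
    rw [map_pow, hF₁ D h₁ h₂, ← map_pow, ← pow_mul]
  have ha₀' : app i S (F₁ ^ (m₀ + 1)) =
      res Z (le_top : i ⁻¹ᵁ S ≤ ⊤) (g ^ (m₁ * (m₀ + 1))) := by
    rw [map_pow, hF₁', ← map_pow, ← pow_mul]
  have hW' : IsCompact ((S ⊓ V : X.Opens) : Set X) :=
    hS.inter_of_isOpen hV.isCompact S.2 V.2
  obtain ⟨m, hmdef⟩ : ∃ m, m = m₁ * (m₀ + 1) := ⟨_, rfl⟩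
  rw [← hmdef] at ha₀ ha₀' hF₂ hF₂' hmpos
  obtain ⟨a₀, ha₀def⟩ : ∃ a₀, a₀ = F₁ ^ (m₀ + 1) := ⟨_, rfl⟩
  rw [← ha₀def] at ha₀ ha₀'
  have hδ0 : app i (S ⊓ V) (res X inf_le_left a₀ - res X inf_le_right F₂) = 0 := by
    rw [map_sub, app_res, app_res, ha₀', hF₂', res_res, res_res, sub_self]
  obtain ⟨T, hT⟩ := isNilpotent_of_app_eq_zero i hs hW' _ hδ0
  have hb : app i (S ⊓ V) (res X inf_le_right F₂) =
      res Z (le_top : i ⁻¹ᵁ (S ⊓ V) ≤ ⊤) (g ^ m) := by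
    rw [app_res, hF₂', res_res]
  have hbo : X.basicOpen (res X (inf_le_right : S ⊓ V ≤ V) F₂) = (S ⊓ V) ⊓ U :=
    basicOpen_eq i hs g U hU _ m hmpos hb
  have hz : res X (X.basicOpen_le (res X (inf_le_right : S ⊓ V ≤ V) F₂))
      (res X inf_le_left a₀ - res X inf_le_right F₂) = 0 := by
    rw [map_sub, res_res, res_res, ha₀ _ _ (hbo.le.trans inf_le_right),
      hF₂ _ _ (hbo.le.trans inf_le_right), sub_self]
  obtain ⟨e, he⟩ := exists_pow_mul_eq_zero_of_res_basicOpen_eq_zero_of_isCompact X hW'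
    (res X inf_le_left a₀ - res X inf_le_right F₂) (res X inf_le_right F₂) hz
  have hab := pow_eq_pow_of_nilpotent_sub (res X (inf_le_left : S ⊓ V ≤ S) a₀)
    (res X (inf_le_right : S ⊓ V ≤ V) F₂) T e hT he (e + T + 1) (by omega)
  obtain ⟨c, hc₁, hc₂⟩ := exists_glue₂ X S V (a₀ ^ (e + T + 1)) (F₂ ^ (e + T + 1))
    (by rw [map_pow, map_pow]; exact hab)
  refine ⟨m * (e + T + 1), Nat.mul_pos hmpos (Nat.succ_pos _), c, fun D h₁ h₂ => ?_, ?_⟩
  · refine eq_of_res_eq₂ X (inf_le_left : D ⊓ S ≤ D) (inf_le_left : D ⊓ V ≤ D) ?_ _ _ ?_ ?_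
    · rw [← inf_sup_left]; exact le_inf le_rfl h₁
    · rw [res_res, res_res, ← res_res X (inf_le_right : D ⊓ S ≤ S) le_sup_left, hc₁, map_pow,
        ha₀ _ _ (inf_le_left.trans h₂), ← map_pow, ← pow_mul]
    · rw [res_res, res_res, ← res_res X (inf_le_right : D ⊓ V ≤ V) le_sup_right, hc₂, map_pow,
        hF₂ _ _ (inf_le_left.trans h₂), ← map_pow, ← pow_mul]
  · refine eq_of_res_eq₂ Z (i.preimage_mono (le_sup_left : S ≤ S ⊔ V))
      (i.preimage_mono (le_sup_right : V ≤ S ⊔ V)) ?_ _ _ ?_ ?_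
    · intro z hz; exact hz
    · rw [← app_res i (le_sup_left : S ≤ S ⊔ V), hc₁, map_pow, ha₀', ← map_pow, ← pow_mul,
        res_res]
    · rw [← app_res i (le_sup_right : V ≤ S ⊔ V), hc₂, map_pow, hF₂', ← map_pow, ← pow_mul,
        res_res]

theorem exists_global_lift [IsClosedImmersion i] [CompactSpace X] [QuasiSeparatedSpace X]
    (hs : Function.Surjective i) (g : Γ(Z, ⊤)) (U : X.Opens) (hU : i ⁻¹ᵁ U = Z.basicOpen g)
    (hUaff : IsAffineOpen U) : ∃ F : Γ(X, ⊤), X.basicOpen F = U := by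
  obtain ⟨G, hG⟩ := i.app_surjective U hUaff (res Z (le_top : i ⁻¹ᵁ U ≤ ⊤) g)
  have hP : P i g U G ⊤ := by
    refine compact_open_induction_on (P := P i g U G) ⊤ isCompact_univ (P_bot i g U G) ?_
    intro S hS V hPS
    exact step i hs g U hU G hG S hS V.1 V.2 hPS
  obtain ⟨m, hm, F, -, hF⟩ := hP
  refine ⟨F, ?_⟩
  rw [basicOpen_eq i hs g U hU F m hm hF, top_inf_eq]

/-- If `Z ⟶ X` is a closed immersion and a homeomorphism and `Z` is quasi-affine then so is `X`. -/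
theorem isQuasiAffine_of_thickening [IsClosedImmersion i] (hi : IsHomeomorph i.base)
    [Z.IsQuasiAffine] : X.IsQuasiAffine := by
  have hs : Function.Surjective i := hi.surjective
  have : CompactSpace X := hi.homeomorph.compactSpace
  have : QuasiSeparatedSpace X := (quasiSeparatedSpace_congr hi.homeomorph).1 inferInstance
  refine Scheme.IsQuasiAffine.of_forall_exists_mem_basicOpen X fun x => ?_
  obtain ⟨z, rfl⟩ := hs x
  obtain ⟨_, ⟨_, ⟨g, hg, rfl⟩, rfl⟩, hzg, -⟩ :=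
    (Scheme.IsQuasiAffine.isBasis_basicOpen Z).exists_subset_of_mem_open
      (Set.mem_univ z) isOpen_univ
  let U : X.Opens := ⟨i '' (Z.basicOpen g : Set Z), hi.isOpenMap _ (Z.basicOpen g).2⟩
  have hU : i ⁻¹ᵁ U = Z.basicOpen g := by
    ext w
    exact ⟨fun ⟨w', hw', e⟩ => hi.injective e ▸ hw', fun hw => ⟨w, hw, rfl⟩⟩
  have hUaff : IsAffineOpen U := by
    have : IsAffine ((i ⁻¹ᵁ U : Z.Opens) : Scheme.{u}) := by rw [hU]; exact hg
    have : IsClosedImmersion (i ∣_ U) :=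
      IsZariskiLocalAtTarget.restrict (P := @IsClosedImmersion) inferInstance U
    have : Surjective (i ∣_ U) :=
      IsZariskiLocalAtTarget.restrict (P := @Surjective) ⟨hs⟩ U
    exact ChevGenH7.isAffine_of_surjective_universallyClosed (i ∣_ U)
  obtain ⟨F, hF⟩ := exists_global_lift i hs g U hU hUaff
  exact ⟨F, hF ▸ hUaff, hF ▸ ⟨z, hzg, rfl⟩⟩

theorem isQuasiAffine_iff_of_thickening [IsClosedImmersion i] (hi : IsHomeomorph i.base) :
    X.IsQuasiAffine ↔ Z.IsQuasiAffine :=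
  ⟨fun _ => Scheme.IsQuasiAffine.of_isAffineHom i, fun _ => isQuasiAffine_of_thickening i hi⟩

end Main

end Groth.Agent.Lib.ThickQAffH7
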