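import Mathlib

/-! # Ring lemmas for thickenings: finite type / formally unramified modulo a nil ideal (helper7) -/

set_option autoImplicit false
universe u
open TensorProduct

namespace Groth.Agent.Lib.ThickRing_helper7

/-- nilpotent Nakayama for `A`-submodules. -/
theorem eq_top_of_sup_smul {A M : Type*} [CommRing A] [AddCommGroup M] [Module A M]
    (I : Ideal A) (N : Submodule A M) (n : ℕ) (hn : I ^ n = ⊥)
    (h : (⊤ : Submodule A M) ≤ N ⊔ I • (⊤ : Submodule A M)) : N = ⊤ := by
  have key : ∀ k : ℕ, (⊤ : Submodule A M) ≤ N ⊔ (I ^ k) • (⊤ : Submodule A M) := by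
    intro k
    induction k with
    | zero => simp [Ideal.one_eq_top]
    | succ k ih =>
      calc (⊤ : Submodule A M) ≤ N ⊔ (I ^ k) • (⊤ : Submodule A M) := ih
        _ ≤ N ⊔ (I ^ k) • (N ⊔ I • (⊤ : Submodule A M)) :=
            sup_le_sup_left (Submodule.smul_mono le_rfl h) _
        _ = N ⊔ ((I ^ k) • N ⊔ (I ^ k) • I • (⊤ : Submodule A M)) := by rw [Submodule.smul_sup]
        _ ≤ N ⊔ (I ^ (k + 1)) • (⊤ : Submodule A M) := by
            rw [pow_succ, Submodule.mul_smul]
            exact sup_le le_sup_left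
              (sup_le (le_trans Submodule.smul_le_right le_sup_left) le_sup_right)
  have h1 := key n
  rw [hn, Submodule.bot_smul, sup_bot_eq] at h1
  exact top_le_iff.1 h1

theorem finiteType_of_quotient {A C : Type*} [CommRing A] [CommRing C] [Algebra A C]
    (I : Ideal A) (n : ℕ) (hn : I ^ n = ⊥)
    (h : Algebra.FiniteType A (C ⧸ I.map (algebraMap A C))) : Algebra.FiniteType A C := by
  classical
  obtain ⟨s, hs⟩ := h.out
  have hsurj : Function.Surjective (Ideal.Quotient.mk (I.map (algebraMap A C))) :=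
    Ideal.Quotient.mk_surjective
  choose lift hlift using hsurj
  refine ⟨⟨s.image lift, ?_⟩⟩
  have hmap : (Algebra.adjoin A ((s.image lift : Finset C) : Set C)).map
      (Ideal.Quotient.mkₐ A (I.map (algebraMap A C))) = ⊤ := by
    rw [AlgHom.map_adjoin, ← hs]
    congr 1
    rw [Finset.coe_image, Set.image_image]
    have : (fun x => (Ideal.Quotient.mkₐ A (I.map (algebraMap A C))) (lift x)) = id := by
      funext x; exact hlift x
    rw [this, Set.image_id]
  have h1 : (⊤ : Submodule A C) ≤
      Subalgebra.toSubmodule (Algebra.adjoin A ((s.image lift : Finset C) : Set C)) ⊔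
        I • (⊤ : Submodule A C) := by
    intro c _
    have hc : Ideal.Quotient.mkₐ A (I.map (algebraMap A C)) c ∈
        (Algebra.adjoin A ((s.image lift : Finset C) : Set C)).map
          (Ideal.Quotient.mkₐ A (I.map (algebraMap A C))) := by rw [hmap]; trivial
    obtain ⟨a', ha', hac⟩ := Subalgebra.mem_map.1 hc
    rw [Ideal.smul_top_eq_map]
    refine Submodule.mem_sup.2 ⟨a', ha', c - a', ?_, by ring⟩
    have h0 : Ideal.Quotient.mk (I.map (algebraMap A C)) (c - a') = 0 := by
      rw [map_sub]; exact sub_eq_zero.2 hac.symm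
    exact Ideal.Quotient.eq_zero_iff_mem.1 h0
  have h2 := eq_top_of_sup_smul I _ n hn h1
  exact Algebra.toSubmodule_eq_top.1 h2

attribute [local instance] Algebra.TensorProduct.rightAlgebra

theorem formallyUnramified_of_quotient {A C : Type u} [CommRing A] [CommRing C] [Algebra A C]
    [Algebra.FiniteType A C] (I : Ideal A) (hI : I ≤ nilradical A)
    (h : Algebra.FormallyUnramified (A ⧸ I) (C ⊗[A] (A ⧸ I))) :
    Algebra.FormallyUnramified A C := by
  rw [Algebra.formallyUnramified_iff] at h ⊢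
  have e := KaehlerDifferential.tensorKaehlerEquivBase A (A ⧸ I) C (C ⊗[A] (A ⧸ I))
  haveI : Subsingleton ((A ⧸ I) ⊗[A] Ω[C⁄A]) := e.toEquiv.subsingleton
  have e2 := TensorProduct.quotTensorEquivQuotSMul Ω[C⁄A] I
  haveI : Subsingleton (Ω[C⁄A] ⧸ (I • ⊤ : Submodule A Ω[C⁄A])) := e2.symm.toEquiv.subsingleton
  have h1 : (I • ⊤ : Submodule A Ω[C⁄A]) = ⊤ :=
    Submodule.Quotient.subsingleton_iff.1 inferInstance
  have h2 : (⊤ : Submodule C Ω[C⁄A]) ≤
      (I.map (algebraMap A C)) • (⊤ : Submodule C Ω[C⁄A]) := by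
    intro ω _
    have hω : ω ∈ (I • ⊤ : Submodule A Ω[C⁄A]) := by rw [h1]; trivial
    refine Submodule.smul_induction_on hω ?_ ?_
    · intro i hi m _
      rw [← algebraMap_smul C i m]
      exact Submodule.smul_mem_smul (Ideal.mem_map_of_mem _ hi) trivial
    · intro x y hx hy
      exact add_mem hx hy
  have h3 : I.map (algebraMap A C) ≤ Ideal.jacobson ⊥ := by
    refine le_trans ?_ Ideal.radical_le_jacobson
    rw [Ideal.map_le_iff_le_comap]
    intro x hx
    show algebraMap A C x ∈ nilradical C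
    exact mem_nilradical.2 ((mem_nilradical.1 (hI hx)).map (algebraMap A C))
  have h4 := Submodule.eq_bot_of_le_smul_of_le_jacobson_bot _ (⊤ : Submodule C Ω[C⁄A])
    Module.Finite.fg_top h2 h3
  refine ⟨fun a b => ?_⟩
  have ha : a ∈ (⊤ : Submodule C Ω[C⁄A]) := trivial
  have hb : b ∈ (⊤ : Submodule C Ω[C⁄A]) := trivial
  rw [h4] at ha hb
  rw [(Submodule.mem_bot C).1 ha, (Submodule.mem_bot C).1 hb]

theorem ring_main {A C : Type u} [CommRing A] [CommRing C] [Algebra A C] (I : Ideal A)
    (hI : I ≤ nilradical A) (hor : Algebra.FiniteType A C ∨ I.FG)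
    (hft : Algebra.FiniteType (A ⧸ I) (C ⊗[A] (A ⧸ I)))
    (hunr : Algebra.FormallyUnramified (A ⧸ I) (C ⊗[A] (A ⧸ I))) :
    Algebra.FiniteType A C ∧ Algebra.FormallyUnramified A C := by
  have hft1 : Algebra.FiniteType A C := by
    rcases hor with h | h
    · exact h
    · obtain ⟨n, hn⟩ := (h.isNilpotent_iff_le_nilradical).2 hI
      have h1 : Algebra.FiniteType A (A ⧸ I) := inferInstance
      have h2 : Algebra.FiniteType A (C ⊗[A] (A ⧸ I)) := Algebra.FiniteType.trans h1 hft
      have e := (Algebra.TensorProduct.quotIdealMapEquivTensorQuot C I).symm.restrictScalars A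
      exact finiteType_of_quotient I n (by rw [hn, Ideal.zero_eq_bot]) (h2.equiv e)
  haveI := hft1
  exact ⟨hft1, formallyUnramified_of_quotient I hI hunr⟩

/-- ring hom version -/
theorem ring_main' {A C : Type u} [CommRing A] [CommRing C] (φ : A →+* C) (I : Ideal A)
    (hI : I ≤ nilradical A) (hor : φ.FiniteType ∨ I.FG) :
    letI := φ.toAlgebra
    (RingHomClass.toRingHom (Algebra.TensorProduct.includeRight :
      (A ⧸ I) →ₐ[A] (C ⊗[A] (A ⧸ I)))).FiniteType →
    (RingHomClass.toRingHom (Algebra.TensorProduct.includeRight :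
      (A ⧸ I) →ₐ[A] (C ⊗[A] (A ⧸ I)))).FormallyUnramified →
    φ.FiniteType ∧ φ.FormallyUnramified := by
  letI := φ.toAlgebra
  intro h1 h2
  exact ring_main I hI hor h1 h2

theorem fg_of_finitePresentation_mk {A : Type u} [CommRing A] (I : Ideal A)
    (h : (Ideal.Quotient.mk I).FinitePresentation) : I.FG := by
  letI : Algebra A (A ⧸ I) := (Ideal.Quotient.mk I).toAlgebra
  haveI : Algebra.FinitePresentation A (A ⧸ I) := h
  have h1 := Algebra.FinitePresentation.ker_fG_of_surjective (Algebra.ofId A (A ⧸ I))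
    (fun x => Ideal.Quotient.mk_surjective x)
  have hk : RingHom.ker (Algebra.ofId A (A ⧸ I)).toRingHom = I := by
    ext x
    rw [RingHom.mem_ker]
    show Ideal.Quotient.mk I x = 0 ↔ _
    exact Ideal.Quotient.eq_zero_iff_mem
  rwa [hk] at h1

end Groth.Agent.Lib.ThickRing_helper7
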