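import Mathlib
import Groth.Prelude
import Groth.Agent.Lib.ThickSq3_helper2
import Groth.Agent.Lib.Tens29_helper8
import Groth.Agent.Lib.SerreCrit3_helper9
import Groth.Agent.S10945

/-!
# Uniform global generation on a tower of thickenings (helper2)

* `IsGloballyGenerated` ⟺ the global sections are jointly epimorphic (`JE`);
* pushforward along a closed immersion whose unit is an epimorphism preserves global generation;
* uniform global generation of `F k ⊗ (L k)^n` on an adic system of schemes (`main5743`).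
APPEND-ONLY once landed.
-/

set_option autoImplicit false
universe u
open CategoryTheory CategoryTheory.Limits AlgebraicGeometry TopologicalSpace Opposite

namespace Groth.Agent.Lib.ThickH2

open Formal Groth.Agent.Lib.FormalModPowH4 Groth.Agent.HHVan Groth.Agent.Lib.FormalFnH2
  Groth.Agent.Lib.AmpleFinH2 Groth.Agent.TensInv CohB1 Groth.Agent.Lib.FibAmpH2

section JE

variable {X : Scheme.{u}}

/-- the global sections of `N` are jointly epimorphic -/
def JE (N : X.Modules) : Prop :=
  ∀ ⦃Z : X.Modules⦄ (g : N ⟶ Z), (∀ s : Coh.structureModule X ⟶ N, s ≫ g = 0) → g = 0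

theorem je_of_isGloballyGenerated {N : X.Modules} (h : Curv2.IsGloballyGenerated N) : JE N := by
  obtain ⟨ι, p, hp⟩ := h
  intro Z g hg
  have h1 : p ≫ g = 0 := by
    refine Cofan.IsColimit.hom_ext (SheafOfModules.isColimitFreeCofan ι) _ _ (fun j => ?_)
    exact (Category.assoc _ _ _).symm.trans ((hg _).trans comp_zero.symm)
  exact (cancel_epi p).mp (h1.trans comp_zero.symm)

theorem je_cancel {N : X.Modules} (h : JE N) {Z : X.Modules} (g g' : N ⟶ Z)
    (hgg : ∀ s : Coh.structureModule X ⟶ N, s ≫ g = s ≫ g') : g = g' := by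
  have h0 : g - g' = 0 := h (g - g') (fun s => by rw [Preadditive.comp_sub, hgg s, sub_self])
  exact sub_eq_zero.mp h0

theorem isGloballyGenerated_of_je {N : X.Modules} (h : JE N) : Curv2.IsGloballyGenerated N := by
  let q : (SheafOfModules.free (R := X.ringCatSheaf) (Coh.structureModule X ⟶ N) : X.Modules) ⟶ N :=
    Cofan.IsColimit.desc (SheafOfModules.isColimitFreeCofan (Coh.structureModule X ⟶ N))
      (fun t : Coh.structureModule X ⟶ N => t)
  have hq : ∀ s : Coh.structureModule X ⟶ N, SheafOfModules.ιFree s ≫ q = s := fun s =>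
    Cofan.IsColimit.fac (SheafOfModules.isColimitFreeCofan (Coh.structureModule X ⟶ N)) _ s
  refine ⟨(Coh.structureModule X ⟶ N), q, ?_⟩
  constructor
  intro Z g g' hgg'
  refine je_cancel h g g' (fun s => ?_)
  exact (congrArg (fun t => t ≫ g) (hq s)).symm.trans ((Category.assoc _ _ _).trans
    ((congrArg (fun t => SheafOfModules.ιFree s ≫ t) hgg').trans
      ((Category.assoc _ _ _).symm.trans (congrArg (fun t => t ≫ g') (hq s)))))

theorem je_of_epi {M N : X.Modules} (e : M ⟶ N) [Epi e] (h : JE M) : JE N := by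
  intro Z g hg
  have h1 : e ≫ g = 0 := by
    apply h
    intro s
    rw [← Category.assoc]
    exact hg _
  exact (cancel_epi e).mp (h1.trans comp_zero.symm)

theorem je_of_iso {M N : X.Modules} (e : M ≅ N) (h : JE M) : JE N := je_of_epi e.hom h

theorem je_of_isZero {N : X.Modules} (h : IsZero N) : JE N := fun _ g _ => h.eq_of_src g 0

/-- a finite coproduct of copies, after applying an additive functor -/
theorem je_map_sigma {σ : Type u} [Fintype σ] (G : X.Modules ⥤ X.Modules) [G.Additive]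
    (N : X.Modules) (h : JE (G.obj N)) : JE (G.obj (∐ fun _ : σ => N)) := by
  classical
  intro Z g hg
  have htot := sigma_total (fun _ : σ => N)
  have h1 : ∀ s : σ, G.map (Sigma.ι (fun _ : σ => N) s) ≫ g = 0 := by
    intro s
    apply h
    intro t
    rw [← Category.assoc]
    exact hg _
  have h2 : G.map (𝟙 (∐ fun _ : σ => N)) ≫ g = 0 := by
    rw [← htot, Functor.map_sum, Preadditive.sum_comp]
    refine Finset.sum_eq_zero (fun s _ => ?_)
    rw [Functor.map_comp, Category.assoc, h1 s, comp_zero]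
  rwa [CategoryTheory.Functor.map_id, Category.id_comp] at h2

end JE

section PushGG

variable {X Z : Scheme.{u}} (i : Z ⟶ X) [IsClosedImmersion i]

instance isQuasicoherent_free (ι : Type u) :
    (SheafOfModules.free (R := X.ringCatSheaf) ι : X.Modules).IsQuasicoherent := by
  have : ∀ _ : ι, (SheafOfModules.unit X.ringCatSheaf).IsQuasicoherent := fun _ => inferInstance
  exact Groth.Agent.Lib.BModH6.isQuasicoherent_sigma (fun _ : ι => SheafOfModules.unit X.ringCatSheaf)

set_option backward.isDefEq.respectTransparency false in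
/-- pushforward along a closed immersion preserves global generation, provided the unit is an
epimorphism on quasi-coherent modules -/
theorem isGloballyGenerated_pushforward
    (hunit : ∀ (M : X.Modules) [M.IsQuasicoherent],
      Epi ((Scheme.Modules.pullbackPushforwardAdjunction i).unit.app M))
    (G : Z.Modules) (hG : Curv2.IsGloballyGenerated G) :
    Curv2.IsGloballyGenerated ((Scheme.Modules.pushforward i).obj G) := by
  obtain ⟨ι, p, hp⟩ := hG
  haveI : PreservesColimitsOfSize.{u, u} (Scheme.Modules.pullback i) := inferInstance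
  haveI : PreservesColimitsOfShape (Discrete ι) (Scheme.Modules.pullback i) := inferInstance
  let e : (SheafOfModules.free (R := Z.ringCatSheaf) ι : Z.Modules) ≅
      (Scheme.Modules.pullback i).obj (SheafOfModules.free ι) :=
    SheafOfModules.mapFreeIso (Scheme.Modules.pullback i) ι (PBH8.pullbackUnitIso i).symm
  let q : (Scheme.Modules.pullback i).obj (SheafOfModules.free (R := X.ringCatSheaf) ι) ⟶ G :=
    e.inv ≫ p
  haveI : Epi q := epi_comp e.inv p
  haveI h1 := @hunit (SheafOfModules.free (R := X.ringCatSheaf) ι) (isQuasicoherent_free ι)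
  haveI h2 : Epi ((Scheme.Modules.pushforward i).map q) := inferInstance
  exact ⟨ι, (Scheme.Modules.pullbackPushforwardAdjunction i).unit.app
    (SheafOfModules.free (R := X.ringCatSheaf) ι) ≫
      (Scheme.Modules.pushforward i).map q, epi_comp _ _⟩

/-- projection formula for powers of an invertible module -/
theorem nonempty_push_tensor_iso {X Y : Scheme.{u}} (f : Y ⟶ X) [IsAffineHom f] {L : X.Modules}
    (hL : PicF.IsInvertible L) (N : Y.Modules) (n : ℕ) :
    Nonempty (tensorMod ((Scheme.Modules.pushforward f).obj N) (tensorPow L n) ≅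
      (Scheme.Modules.pushforward f).obj
        (tensorMod N (tensorPow ((Scheme.Modules.pullback f).obj L) n))) := by
  obtain ⟨ep⟩ := pullback_tensorPow f hL n
  have e1 := (PFormH9.projIso f (tensorPow L n) (TensH8.isFinLocFree_of_isInvertible
    (TensH8.isInvertible_tensorPow hL n))).app N
  exact ⟨comm _ _ ≪≫ e1 ≪≫ (Scheme.Modules.pushforward f).mapIso (mapR ep.symm N ≪≫ comm _ _)⟩

end PushGG

section TowerGG

variable {A : Type u} [CommRing A] (J : Ideal A)
  (Y : ℕ → Scheme.{u}) [∀ k, (Y k).Over (Spec (CommRingCat.of A))]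
  (i : ∀ k, Y k ⟶ Y (k + 1)) [∀ k, IsClosedImmersion (i k)]
  (hi : ∀ k, i k ≫ (Y (k + 1) ↘ Spec (CommRingCat.of A)) = (Y k ↘ Spec (CommRingCat.of A)))
  (hker : ∀ k (N : (Y (k + 1)).Modules), Formal.KilledBy (J ^ (k + 1)) N →
    ClSub.KilledByIdeal (i k).ker N)
  (hkill : ∀ k (N : (Y k).Modules), Formal.KilledBy (J ^ (k + 1)) N)
  (hkerι : ∀ k (N : (Y k).Modules), Formal.KilledBy J N →
    ClSub.KilledByIdeal (iota Y i k).ker N)
  (F : ∀ k, (Y k).Modules) [∀ k, (F k).IsQuasicoherent]
  (ψ : ∀ k, (Scheme.Modules.pullback (i k)).obj (F (k + 1)) ≅ F k)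
  (L : ∀ k, (Y k).Modules) (hL : ∀ k, PicF.IsInvertible (L k))
  (φ : ∀ k, Nonempty ((Scheme.Modules.pullback (i k)).obj (L (k + 1)) ≅ L k))

include hi hker hkill in
theorem epi_unit_i (k : ℕ) (M : (Y (k + 1)).Modules) [M.IsQuasicoherent] :
    Epi ((Scheme.Modules.pullbackPushforwardAdjunction (i k)).unit.app M) := by
  obtain ⟨c, hc⟩ := exists_modPow_iso (i k) (hi k) J (k + 1) (hker k) (hkill k) M
  have h : Epi (Formal.modPowπ J (k + 1) M ≫ c.hom) := inferInstance
  rwa [hc] at h

include hi hkill hkerι in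
theorem epi_unit_iota (k : ℕ) (M : (Y k).Modules) [M.IsQuasicoherent] :
    Epi ((Scheme.Modules.pullbackPushforwardAdjunction (iota Y i k)).unit.app M) := by
  obtain ⟨c, hc⟩ := exists_modPow_iso (iota Y i k) (iota_over Y i hi k) J 1
    (fun N hN => hkerι k N (fun a ha => hN a (by simpa using ha)))
    (fun N' a ha => hkill 0 N' a (by simpa using ha)) M
  have h : Epi (Formal.modPowπ J 1 M ≫ c.hom) := inferInstance
  rwa [hc] at h

variable {σ : Type u} [Fintype σ] (a : σ → A) (ha : ∀ s, a s ∈ J)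

set_option backward.isDefEq.respectTransparency false in
include ha hi hker hkill ψ in
/-- uniform global generation of the top graded pieces -/
theorem je_QQ (hspan : Ideal.span (Set.range a) = J) (T : (Y 0).Modules)
    (hT : PicF.IsInvertible T) (h0 : JE (tensorMod (F 0) T)) (n : ℕ) :
    JE (tensorMod (QQ J Y i F n) T) := by
  obtain ⟨T', -, hT'⟩ := Groth.Agent.InvTensP.exists_inverse T hT
  haveI := isEquivalence_tR hT'
  induction n with
  | zero =>
    have hiso : IsIso (pwIn J (F 0) 0 1 (by simp)) := by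
      refine ⟨pwι J (F 0) 0, ?_, ?_⟩
      · rw [pwIn_ι, smulMod_one]
      · rw [← cancel_mono (pwι J (F 0) 0), Category.assoc, pwIn_ι, smulMod_one, Category.comp_id,
          Category.id_comp]
    let e0 : F 0 ⟶ QQ J Y i F 0 :=
      (pwIn J (F 0) 0 1 (by simp) ≫ grπ J (F 0) 0) ≫
        (Scheme.Modules.pullbackId (Y 0)).inv.app (gr J (F 0) 0)
    haveI := hiso
    haveI : Epi (pwIn J (F 0) 0 1 (by simp) ≫ grπ J (F 0) 0) := epi_comp _ _
    haveI : Epi e0 := epi_comp _ _
    haveI : Epi ((tR T).map e0) := inferInstance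
    exact je_of_epi ((tR T).map e0) h0
  | succ n ih =>
    haveI := epi_muSum_mm J Y i hi hker hkill F ψ a ha hspan n
    haveI : Epi ((tR T).map (muSum (QQ J Y i F)
      (fun s n => mm J Y i hi hker hkill F ψ (a s) (ha s) n) n)) := inferInstance
    exact je_of_epi ((tR T).map (muSum (QQ J Y i F)
      (fun s n => mm J Y i hi hker hkill F ψ (a s) (ha s) n) n))
      (je_map_sigma (tR T) (QQ J Y i F n) ih)

set_option backward.isDefEq.respectTransparency false in
theorem isGG_of_iso {X : Scheme.{u}} {M N : X.Modules} (e : M ≅ N)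
    (h : Curv2.IsGloballyGenerated M) : Curv2.IsGloballyGenerated N := by
  obtain ⟨ι, p, hp⟩ := h
  exact ⟨ι, p ≫ e.hom, epi_comp _ _⟩

set_option backward.isDefEq.respectTransparency false in
/-- extension of globally generated modules, when `H¹` of the kernel vanishes -/
theorem isGG_mid {X : Scheme.{u}} (S : ShortComplex X.Modules) (hS : S.ShortExact)
    (hH : Subsingleton (Coh.HH X S.X₁ 1))
    (h1 : Curv2.IsGloballyGenerated S.X₁) (h3 : Curv2.IsGloballyGenerated S.X₃) :
    Curv2.IsGloballyGenerated S.X₂ := by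
  refine Groth.Agent.S10945.result X S hS ?_ h1 h3
  intro c
  obtain ⟨b, hb⟩ := SerreCrit.surj_of_H1 S hS (fun x => Subsingleton.elim _ _) c
  exact ⟨b, hb⟩

include hi hkill hkerι hL φ in
theorem gg_top (K d : ℕ) (h : JE (tensorMod (QQ J Y i F K) (tensorPow (L 0) d))) :
    Curv2.IsGloballyGenerated (tensorMod (gr J (F K) K) (tensorPow (L K) d)) := by
  have hk := hkerι K (gr J (F K) K) (fun a ha => smulMod_gr J (F K) a ha K)
  haveI := ClPushH8.isIso_unit (iota Y i K) (gr J (F K) K) hk
  have e : gr J (F K) K ≅ (Scheme.Modules.pushforward (iota Y i K)).obj (QQ J Y i F K) :=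
    asIso ((Scheme.Modules.pullbackPushforwardAdjunction (iota Y i K)).unit.app (gr J (F K) K))
  obtain ⟨eL⟩ := nonempty_Phi_L Y i L φ K
  obtain ⟨eP⟩ := TensPowH9.tensorPow_congr eL d
  obtain ⟨e2⟩ := nonempty_push_tensor_iso (iota Y i K) (hL K) (QQ J Y i F K) d
  have hg0 : Curv2.IsGloballyGenerated (tensorMod (QQ J Y i F K)
      (tensorPow ((Scheme.Modules.pullback (iota Y i K)).obj (L K)) d)) :=
    isGloballyGenerated_of_je (je_of_iso (mapL (QQ J Y i F K) eP.symm) h)
  have hg1 := isGloballyGenerated_pushforward (iota Y i K)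
    (fun M _ => epi_unit_iota J Y i hi hkill hkerι K M) _ hg0
  exact isGG_of_iso (e2.symm ≪≫ mapR e.symm (tensorPow (L K) d)) hg1

include hkill hL in
theorem gg_step (K d : ℕ)
    (hH : Subsingleton (Coh.HH (Y K) (tensorMod (gr J (F K) K) (tensorPow (L K) d)) 1))
    (h1 : Curv2.IsGloballyGenerated (tensorMod (gr J (F K) K) (tensorPow (L K) d)))
    (h3 : Curv2.IsGloballyGenerated
      (tensorMod (Formal.modPow J K (F K)) (tensorPow (L K) d))) :
    Curv2.IsGloballyGenerated (tensorMod (F K) (tensorPow (L K) d)) := by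
  obtain ⟨K', -, hK'⟩ := Groth.Agent.InvTensP.exists_inverse (tensorPow (L K) d)
    (TensH8.isInvertible_tensorPow (hL K) d)
  have hS := shortExact_tR hK' _ (pwSC_shortExact J (F K) K)
  obtain ⟨e⟩ := nonempty_pw_iso_gr J (F K) K (hkill K (F K))
  have hH' : Subsingleton (Coh.HH (Y K) (tensorMod (pw J (F K) K) (tensorPow (L K) d)) 1) :=
    Groth.Agent.HHVan.subsingleton_of_iso (mapR e.symm (tensorPow (L K) d)) 1 hH
  have h1' : Curv2.IsGloballyGenerated (tensorMod (pw J (F K) K) (tensorPow (L K) d)) :=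
    isGG_of_iso (mapR e.symm (tensorPow (L K) d)) h1
  exact isGG_mid _ hS hH' h1' h3

include hi hker hkill hkerι hL φ ψ in
/-- uniform global generation along the tower -/
theorem tower_gg (d₀ : ℕ)
    (hQ : ∀ n d, d₀ ≤ d →
      Subsingleton (Coh.HH (Y 0) (tensorMod (QQ J Y i F n) (tensorPow (L 0) d)) 1))
    (hG : ∀ n d, d₀ ≤ d → JE (tensorMod (QQ J Y i F n) (tensorPow (L 0) d))) :
    ∀ K d, d₀ ≤ d → Curv2.IsGloballyGenerated (tensorMod (F K) (tensorPow (L K) d)) := by
  intro K
  induction K with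
  | zero =>
    intro d hd
    refine gg_step J Y hkill F L hL 0 d
      (subsingleton_top J Y i hkerι F L hL φ 0 d 1 (hQ 0 d hd))
      (gg_top J Y i hi hkill hkerι F L hL φ 0 d (hG 0 d hd)) ?_
    exact isGloballyGenerated_of_je (je_of_isZero
      (Functor.map_isZero (tR (tensorPow (L 0) d)) (isZero_modPow_zero J (F 0))))
  | succ k ih =>
    intro d hd
    refine gg_step J Y hkill F L hL (k + 1) d
      (subsingleton_top J Y i hkerι F L hL φ (k + 1) d 1 (hQ (k + 1) d hd))
      (gg_top J Y i hi hkill hkerι F L hL φ (k + 1) d (hG (k + 1) d hd)) ?_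
    obtain ⟨c, -⟩ := exists_tt_iso J Y i hi hker hkill F ψ k
    obtain ⟨eφ⟩ := φ k
    obtain ⟨eP⟩ := TensPowH9.tensorPow_congr eφ d
    obtain ⟨e2⟩ := nonempty_push_tensor_iso (i k) (hL (k + 1)) (F k) d
    have hg0 : Curv2.IsGloballyGenerated (tensorMod (F k)
        (tensorPow ((Scheme.Modules.pullback (i k)).obj (L (k + 1))) d)) :=
      isGG_of_iso (mapL (F k) eP.symm) (ih d hd)
    have hg1 := isGloballyGenerated_pushforward (i k)
      (fun M _ => epi_unit_i J Y i hi hker hkill k M) _ hg0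
    exact isGG_of_iso (e2.symm ≪≫ mapR c.symm (tensorPow (L (k + 1)) d)) hg1

end TowerGG

section Main

variable (A : Type u) [CommRing A] [IsNoetherianRing A] (J : Ideal A)

/-- **S5743**. -/
theorem main5743
    (Xs : ℕ → Scheme.{u}) (p : (k : ℕ) → (Xs k ⟶ Spec (CommRingCat.of (A ⧸ J ^ (k + 1)))))
    (i : (k : ℕ) → (Xs k ⟶ Xs (k + 1)))
    (hcart : ∀ k, IsPullback (i k) (p k) (p (k + 1)) (CohB1.specQuotTrans J k)) (hp : IsProper (p 0))
    (L : (k : ℕ) → (Xs k).Modules) (hL : ∀ k, PicF.IsInvertible (L k))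
    (φ : ∀ k, Nonempty ((Scheme.Modules.pullback (i k)).obj (L (k + 1)) ≅ L k))
    (ha : CohB1.IsAmple (L 0))
    (F : (k : ℕ) → (Xs k).Modules) (hF : ∀ k, Coh.IsCoh (F k))
    (ψ : ∀ k, Nonempty ((Scheme.Modules.pullback (i k)).obj (F (k + 1)) ≅ F k)) :
    ∃ N : ℕ, ∀ n : ℕ, N ≤ n → ∀ k : ℕ,
      Curv2.IsGloballyGenerated (CohB1.tensorMod (F k) (CohB1.tensorPow (L k) n)) := by
  letI inst : ∀ k, (Xs k).Over (Spec (CommRingCat.of A)) :=
    fun k => ⟨p k ≫ CohB1.specQuot J k⟩
  have hKK : ∀ k : ℕ, J ^ (k + 1 + 1) ≤ J ^ (k + 1) :=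
    fun k => Ideal.pow_le_pow_right (Nat.le_succ (k + 1))
  haveI hcl : ∀ k, IsClosedImmersion (i k) := fun k =>
    isClosedImmersion_of_sq (hKK k) (p (k + 1)) (p k) (i k) (hcart k)
  have hi : ∀ k, i k ≫ (Xs (k + 1) ↘ Spec (CommRingCat.of A)) =
      (Xs k ↘ Spec (CommRingCat.of A)) := fun k =>
    over_of_sq (hKK k) (p (k + 1)) (p k) rfl rfl (i k) (hcart k)
  have hker : ∀ k (N : (Xs (k + 1)).Modules), Formal.KilledBy (J ^ (k + 1)) N →
      ClSub.KilledByIdeal (i k).ker N := fun k N hN =>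
    killedByIdeal_of_sq (hKK k) (p (k + 1)) (p k) rfl (i k) (hcart k) N hN
  have hkill : ∀ k (N : (Xs k).Modules), Formal.KilledBy (J ^ (k + 1)) N := fun k N =>
    killedBy_of_sq (p k) rfl N
  have hkerι : ∀ k (N : (Xs k).Modules), Formal.KilledBy J N →
      ClSub.KilledByIdeal (iota Xs i k).ker N := fun k N hN =>
    killedByIdeal_of_sq (Ideal.pow_le_pow_right (Nat.succ_le_succ (Nat.zero_le k)))
      (p k) (p 0) rfl (iota Xs i k) (isPullback_iota A J Xs p i hcart k) N
      (fun a ha' => hN a (by simpa using ha'))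
  haveI : ∀ k, (F k).IsQuasicoherent := fun k => (hF k).1
  let ψ' : ∀ k, (Scheme.Modules.pullback (i k)).obj (F (k + 1)) ≅ F k := fun k => (ψ k).some
  haveI : IsClosedImmersion (CohB1.specQuot J 0) :=
    IsClosedImmersion.spec_of_surjective _ Ideal.Quotient.mk_surjective
  haveI : IsProper (Xs 0 ↘ Spec (CommRingCat.of A)) :=
    inferInstanceAs (IsProper (p 0 ≫ CohB1.specQuot J 0))
  haveI : IsLocallyNoetherian (Xs 0) :=
    LocallyOfFiniteType.isLocallyNoetherian (Xs 0 ↘ Spec (CommRingCat.of A))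
  haveI : QuasiSeparatedSpace (Xs 0) := inferInstance
  obtain ⟨σ, _, a, haJ, hspan⟩ := exists_generators A J
  have h0 : SheafOfModules.IsFiniteType (R := (Xs 0).ringCatSheaf) (QQ J Xs i F 0) := by
    haveI := (isCoh_gr J (F 0) (hF 0) 0).2
    exact FpqcH8.isFiniteType_pullback (iota Xs i 0) (gr J (F 0) 0)
  obtain ⟨d₀, hd₀⟩ := stageA_ample A (Xs 0) (QQ J Xs i F)
    (fun s n => mm J Xs i hi hker hkill F ψ' (a s) (haJ s) n)
    (fun s t n => mm_comm J Xs i hi hker hkill F ψ' (a s) (a t) (haJ s) (haJ t) n) h0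
    (fun n => epi_muSum_mm J Xs i hi hker hkill F ψ' a haJ hspan n) ha
  obtain ⟨N₀, hN₀⟩ := TensH8.exists_isGloballyGenerated_twist ha (F 0) (hF 0)
  refine ⟨max d₀ N₀, fun n hn k => ?_⟩
  exact tower_gg J Xs i hi hker hkill hkerι F ψ' L hL φ (max d₀ N₀)
    (fun n d hd => hd₀ n d (le_trans (le_max_left _ _) hd) 1 Nat.one_pos)
    (fun n d hd => je_QQ J Xs i hi hker hkill F ψ' a haJ hspan (tensorPow (L 0) d)
      (TensH8.isInvertible_tensorPow (hL 0) d)
      (je_of_isGloballyGenerated (hN₀ d (le_trans (le_max_right _ _) hd))) n) k n hn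

end Main

end Groth.Agent.Lib.ThickH2
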