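import Mathlib
import Groth.Prelude.Def_CohTop
import Groth.Agent.Lib.CechConcrete_helper2
import Groth.Agent.Lib.RestrOpen_helper2

/-!
# One step of a flat thickening: algebra and abstract sheaf theory (helper8)
APPEND-ONLY once landed.
-/

set_option autoImplicit false
universe u
open CategoryTheory CategoryTheory.Limits Opposite Abelian TopologicalSpace

namespace Groth.Agent.Lib.ThickStepH8

open Groth.Agent.Lib.Cech

section Algebra

/-- flat base change commutes with colon ideals `(J' : t)` -/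
theorem mem_map_of_mul_mem {A R : Type*} [CommRing A] [CommRing R] [Algebra A R] [Module.Flat A R]
    (J' 𝔞 : Ideal A) (t : A) (h𝔞 : ∀ x, t * x ∈ J' → x ∈ 𝔞) (r : R)
    (h : algebraMap A R t * r ∈ J'.map (algebraMap A R)) : r ∈ 𝔞.map (algebraMap A R) := by
  rw [Ideal.map, Submodule.mem_span_set'] at h
  obtain ⟨n, f, g, hfg⟩ := h
  have hg : ∀ i, ∃ j ∈ J', algebraMap A R j = (g i : R) := fun i => (g i).2
  choose j hjJ hj using hg
  let c : Option (Fin n) → A := fun o => o.elim t (fun i => - j i)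
  let x : Option (Fin n) → R := fun o => o.elim r f
  have hrel : ∑ o, c o • x o = 0 := by
    rw [Fintype.sum_option]
    show t • r + ∑ i, (- j i) • f i = 0
    have h1 : ∑ i, (- j i) • f i = - ∑ i, f i • (g i : R) := by
      rw [← Finset.sum_neg_distrib]
      refine Finset.sum_congr rfl (fun i _ => ?_)
      rw [Algebra.smul_def, map_neg, hj i, smul_eq_mul]
      ring
    rw [h1, hfg, Algebra.smul_def]
    ring
  obtain ⟨k, a, y, hxy, hca⟩ := Module.Flat.isTrivialRelation_of_sum_smul_eq_zero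
    (R := A) (M := R) (f := c) (x := x) hrel
  have hr : r = ∑ l, a none l • y l := hxy none
  rw [hr]
  refine Ideal.sum_mem _ (fun l _ => ?_)
  rw [Algebra.smul_def]
  refine Ideal.mul_mem_right _ _ (Ideal.mem_map_of_mem _ (h𝔞 _ ?_))
  have h2 := hca l
  rw [Fintype.sum_option] at h2
  have h3 : t * a none l = ∑ i, j i * a (some i) l := by
    have h4 : t * a none l + ∑ i, (- j i) * a (some i) l = 0 := h2
    have h5 : ∑ i, (- j i) * a (some i) l = - ∑ i, j i * a (some i) l := by
      rw [← Finset.sum_neg_distrib]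
      exact Finset.sum_congr rfl (fun i _ => by ring)
    rw [h5] at h4
    linear_combination h4
  rw [h3]
  exact Ideal.sum_mem _ (fun i _ => Ideal.mul_mem_right _ _ (hjJ i))

section RingStep

variable {A R P' P P₀ : Type*} [CommRing A] [CommRing R] [CommRing P'] [CommRing P] [CommRing P₀]
  [Algebra A R] (g' : R →+* P') (g : R →+* P) (g₀ : R →+* P₀) (J' J 𝔞 : Ideal A) (t : A)
  (hg' : RingHom.ker g' = J'.map (algebraMap A R)) (hg : RingHom.ker g = J.map (algebraMap A R))
  (hg₀ : RingHom.ker g₀ = 𝔞.map (algebraMap A R))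
  (hJ'J : J' ≤ J) (hJ : J ≤ J' ⊔ Ideal.span {t}) (htJ : t ∈ J) (ht2 : t * t ∈ J')
  (h𝔞 : ∀ x, x ∈ 𝔞 ↔ t * x ∈ J')

include hg' hg hJ'J in
lemma ker_le_ker {u : R} (h : g' u = 0) : g u = 0 := by
  have h1 : u ∈ RingHom.ker g' := h
  rw [hg'] at h1
  have h2 : u ∈ RingHom.ker g := by
    rw [hg]
    exact Ideal.map_mono hJ'J h1
  exact h2

include hg htJ in
lemma g_t : g (algebraMap A R t) = 0 := by
  have h2 : algebraMap A R t ∈ RingHom.ker g := by
    rw [hg]
    exact Ideal.mem_map_of_mem _ htJ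
  exact h2

include hg' ht2 in
lemma g'_t_sq : g' (algebraMap A R t) * g' (algebraMap A R t) = 0 := by
  have h2 : algebraMap A R (t * t) ∈ RingHom.ker g' := by
    rw [hg']
    exact Ideal.mem_map_of_mem _ ht2
  have h3 : g' (algebraMap A R (t * t)) = 0 := h2
  rw [map_mul, map_mul] at h3
  exact h3

include hg' hg hJ'J htJ in
/-- (B) -/
lemma step_B {u f : R} (h : g' u = 1 + g' (algebraMap A R t) * g' f) : g u = 1 := by
  have h1 : g' (u - 1 - algebraMap A R t * f) = 0 := by
    rw [map_sub, map_sub, map_one, map_mul, h]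
    ring
  have h2 := ker_le_ker g' g J' J hg' hg hJ'J h1
  rw [map_sub, map_sub, map_one, map_mul, g_t g J t hg htJ, zero_mul, sub_zero] at h2
  exact sub_eq_zero.1 h2

include hg' hg hJ in
/-- (C) -/
lemma step_C {u : R} (h : g u = 1) : ∃ f : R, g' u = 1 + g' (algebraMap A R t) * g' f := by
  have h1 : u - 1 ∈ RingHom.ker g := by
    rw [RingHom.mem_ker, map_sub, h, map_one, sub_self]
  rw [hg] at h1
  have h2 := Ideal.map_mono (f := algebraMap A R) hJ h1
  rw [Ideal.map_sup, Ideal.map_span, Set.image_singleton] at h2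
  obtain ⟨z, hz, w, hw, hzw⟩ := Submodule.mem_sup.1 h2
  obtain ⟨f, rfl⟩ := Ideal.mem_span_singleton'.1 hw
  refine ⟨f, ?_⟩
  have hz' : g' z = 0 := by
    have : z ∈ RingHom.ker g' := by rw [hg']; exact hz
    exact this
  have h3 : u = 1 + (z + f * algebraMap A R t) := by rw [hzw]; ring
  rw [h3, map_add, map_one, map_add, hz', zero_add, map_mul]
  ring

include hg' hg₀ h𝔞 in
/-- (D) -/
lemma step_D [Module.Flat A R] (f : R) : g₀ f = 0 ↔ g' (algebraMap A R t) * g' f = 0 := by
  rw [← map_mul]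
  constructor
  · intro h
    have h1 : f ∈ RingHom.ker g₀ := h
    rw [hg₀] at h1
    have h2 : algebraMap A R t * f ∈ RingHom.ker g' := by
      rw [hg']
      have h3 : algebraMap A R t * f ∈ (𝔞.map (algebraMap A R)) := Ideal.mul_mem_left _ _ h1
      have h4 : ∀ z ∈ 𝔞.map (algebraMap A R),
          algebraMap A R t * z ∈ J'.map (algebraMap A R) := by
        intro z hz
        rw [Ideal.map] at hz
        refine Submodule.span_induction ?_ ?_ ?_ ?_ hz
        · rintro _ ⟨x, hx, rfl⟩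
          rw [← map_mul]
          exact Ideal.mem_map_of_mem _ ((h𝔞 x).1 hx)
        · rw [mul_zero]; exact Ideal.zero_mem _
        · intro a b _ _ ha hb
          rw [mul_add]; exact Ideal.add_mem _ ha hb
        · intro a b _ hb
          rw [smul_eq_mul, mul_left_comm]
          exact Ideal.mul_mem_left _ _ hb
      exact h4 f h1
    exact h2
  · intro h
    have h1 : algebraMap A R t * f ∈ RingHom.ker g' := h
    rw [hg'] at h1
    have h2 := mem_map_of_mul_mem J' 𝔞 t (fun x hx => (h𝔞 x).2 hx) f h1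
    have h3 : f ∈ RingHom.ker g₀ := by rw [hg₀]; exact h2
    exact h3

end RingStep

section UnitLift

variable {R P : Type*} [CommRing R] [CommRing P] (g : R →+* P) (hs : Function.Surjective g)
  (hn : ∀ x, g x = 0 → IsNilpotent x)

include hs hn in
/-- units lift along a surjection with nil kernel -/
lemma exists_unit_lift (v : Pˣ) : ∃ u : Rˣ, Units.map g.toMonoidHom u = v := by
  obtain ⟨x, hx⟩ := hs v.val
  obtain ⟨y, hy⟩ := hs v.inv
  have h1 : g (x * y - 1) = 0 := by
    rw [map_sub, map_mul, hx, hy, map_one, v.val_inv, sub_self]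
  have h2 : IsUnit (x * y) := by
    have h3 : x * y = 1 + (x * y - 1) := by ring
    rw [h3]
    exact (hn _ h1).isUnit_one_add
  have h4 : IsUnit x := isUnit_of_mul_isUnit_left h2
  exact ⟨h4.unit, Units.ext hx⟩

end UnitLift

end Algebra

section Abstract

/-- two quotients of `O` with the same kernel are isomorphic -/
theorem nonempty_iso_of_epi {C : Type*} [Category C] [Abelian C] {O P N : C} (π : O ⟶ P)
    (ν : O ⟶ N) [Epi π] [Epi ν] (h1 : kernel.ι π ≫ ν = 0) (h2 : kernel.ι ν ≫ π = 0) :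
    Nonempty (N ≅ P) := by
  refine ⟨⟨Abelian.epiDesc ν π h2, Abelian.epiDesc π ν h1, ?_, ?_⟩⟩
  · rw [← cancel_epi ν, Abelian.comp_epiDesc_assoc, Abelian.comp_epiDesc, Category.comp_id]
  · rw [← cancel_epi π, Abelian.comp_epiDesc_assoc, Abelian.comp_epiDesc, Category.comp_id]

variable {Y : TopCat.{u}} {O E U' U P₀ : CohTop.Ab Y}
  (p' : E ⟶ U') (p : E ⟶ U) (ν' : O ⟶ U') (π₀ : O ⟶ P₀)
  [Epi p'] [Epi p] [Epi π₀]
  (hK : ∀ (V : Opens Y) (u : E.obj.obj (op V)),
    (p'.hom.app (op V)).hom u = 0 → (p.hom.app (op V)).hom u = 0)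
  (hB : ∀ (V : Opens Y) (f : O.obj.obj (op V)) (u : E.obj.obj (op V)),
    (p'.hom.app (op V)).hom u = (ν'.hom.app (op V)).hom f → (p.hom.app (op V)).hom u = 0)
  (hC : ∀ (V : Opens Y) (u : E.obj.obj (op V)), (p.hom.app (op V)).hom u = 0 → ∀ x ∈ V,
    ∃ (W : Opens Y) (hW : W ≤ V), x ∈ W ∧ ∃ f : O.obj.obj (op W),
      (p'.hom.app (op W)).hom (res E.obj hW u) = (ν'.hom.app (op W)).hom f)
  (hD : ∀ (V : Opens Y) (f : O.obj.obj (op V)),
    (π₀.hom.app (op V)).hom f = 0 ↔ (ν'.hom.app (op V)).hom f = 0)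

lemma app_comp3 {F G H : CohTop.Ab Y} (f : F ⟶ G) (g : G ⟶ H) (V : Opens Y)
    (a : F.obj.obj (op V)) :
    ((f ≫ g).hom.app (op V)).hom a = (g.hom.app (op V)).hom ((f.hom.app (op V)).hom a) := rfl

lemma app_zero {F G : CohTop.Ab Y} (V : Opens Y) (a : F.obj.obj (op V)) :
    ((0 : F ⟶ G).hom.app (op V)).hom a = 0 := rfl

lemma hom_eq_zero_of_app {F G : CohTop.Ab Y} (φ : F ⟶ G)
    (h : ∀ (V : Opens Y) (a : F.obj.obj (op V)), (φ.hom.app (op V)).hom a = 0) : φ = 0 := by
  apply Sheaf.hom_ext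
  ext V a
  exact h V.unop a

lemma kernel_condition_app {F G : CohTop.Ab Y} (φ : F ⟶ G) (V : Opens Y)
    (s : (kernel φ).obj.obj (op V)) :
    (φ.hom.app (op V)).hom (((kernel.ι φ).hom.app (op V)).hom s) = 0 := by
  rw [← app_comp3, kernel.condition]
  rfl

include hK in
lemma kernel_comp_eq_zero : kernel.ι p' ≫ p = 0 := by
  apply hom_eq_zero_of_app
  intro V s
  rw [app_comp3]
  exact hK V _ (kernel_condition_app p' V s)

/-- the transition map `c : U' → U` -/
noncomputable def cMap : U' ⟶ U := Abelian.epiDesc p' p (kernel_comp_eq_zero p' p hK)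

lemma p'_cMap : p' ≫ cMap p' p hK = p := Abelian.comp_epiDesc _ _ _

instance epi_cMap : Epi (cMap p' p hK) := epi_of_epi_fac (p'_cMap p' p hK)

lemma eq_zero_of_local {F : CohTop.Ab Y} {V : Opens Y} (a : F.obj.obj (op V))
    (h : ∀ x ∈ V, ∃ (W : Opens Y) (hW : W ≤ V), x ∈ W ∧ res F.obj hW a = 0) : a = 0 := by
  choose W hW hxW ha using h
  apply ext_of_cover F (fun x : V => W x.1 x.2) V (fun x => hW x.1 x.2)
    (fun x hx => Opens.mem_iSup.2 ⟨⟨x, hx⟩, hxW x hx⟩)
  intro x
  rw [ha, map_zero]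

include hB in
lemma nu_cMap : ν' ≫ cMap p' p hK = 0 := by
  apply hom_eq_zero_of_app
  intro V f
  apply eq_zero_of_local
  intro x hx
  obtain ⟨W, hW, hxW, u, hu⟩ := exists_local_lift p' ((ν'.hom.app (op V)).hom f) x hx
  refine ⟨W, hW, hxW, ?_⟩
  have h1 : (ν'.hom.app (op W)).hom (res O.obj hW f) = (p'.hom.app (op W)).hom u := by
    rw [hu, res_app]
  rw [← res_app, app_comp3, h1, ← app_comp3, p'_cMap]
  exact hB W (res O.obj hW f) u h1.symm

/-- `ν'' : O → ker c` -/
noncomputable def nuK : O ⟶ kernel (cMap p' p hK) :=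
  kernel.lift _ ν' (nu_cMap p' p ν' hK hB)

lemma nuK_ι : nuK p' p ν' hK hB ≫ kernel.ι (cMap p' p hK) = ν' := kernel.lift_ι _ _ _

include hB hC in
lemma epi_nuK : Epi (nuK p' p ν' hK hB) := by
  refine Groth.Agent.Lib.RestrOpen.epi_of_local _ ?_
  intro V n x hx
  set u' := ((kernel.ι (cMap p' p hK)).hom.app (op V)).hom n with hu'
  have hcu' : ((cMap p' p hK).hom.app (op V)).hom u' = 0 := kernel_condition_app _ V n
  obtain ⟨W₁, hW₁, hxW₁, u, hu⟩ := exists_local_lift p' u' x hx
  have hpu : (p.hom.app (op W₁)).hom u = 0 := by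
    rw [← p'_cMap p' p hK, app_comp3, hu, res_app, hcu', map_zero]
  obtain ⟨W₂, hW₂, hxW₂, f, hf⟩ := hC W₁ u hpu x hxW₁
  refine ⟨W₂, hW₂.trans hW₁, hxW₂, f, ?_⟩
  apply app_injective (kernel.ι (cMap p' p hK)) W₂
  rw [← app_comp3, nuK_ι, ← hf, res_app, hu, res_app, res_res]

include hB hC hD in
/-- the kernel of the transition map is `P₀` -/
theorem nonempty_kernel_iso : Nonempty (kernel (cMap p' p hK) ≅ P₀) := by
  haveI := epi_nuK p' p ν' hK hB hC
  apply nonempty_iso_of_epi π₀ (nuK p' p ν' hK hB)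
  · apply hom_eq_zero_of_app
    intro V s
    rw [app_comp3]
    apply app_injective (kernel.ι (cMap p' p hK)) V
    rw [← app_comp3, nuK_ι, map_zero]
    exact (hD V _).1 (kernel_condition_app π₀ V s)
  · apply hom_eq_zero_of_app
    intro V s
    rw [app_comp3]
    apply (hD V _).2
    have h1 : (ν'.hom.app (op V)).hom (((kernel.ι (nuK p' p ν' hK hB)).hom.app (op V)).hom s) =
        ((kernel.ι (cMap p' p hK)).hom.app (op V)).hom (((nuK p' p ν' hK hB).hom.app (op V)).hom
          (((kernel.ι (nuK p' p ν' hK hB)).hom.app (op V)).hom s)) := by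
      rw [← app_comp3 (nuK p' p ν' hK hB), nuK_ι]
    rw [h1, kernel_condition_app, map_zero]

end Abstract

section Coh

variable {C : Type*} [Category C] [Abelian C]

/-- `0 → ker p' → ker (p' ≫ c) → ker c → 0` for an epimorphism `p'` -/
theorem shortExact_kernel_comp {E U' U : C} (p' : E ⟶ U') [Epi p'] (c : U' ⟶ U) :
    (kernelCokernelCompSequence.snakeInput p' c).L₀.ShortExact := by
  have h1 : (kernelCokernelCompSequence.snakeInput p' c).L₀.Exact :=
    (kernelCokernelCompSequence.snakeInput p' c).L₀_exact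
  haveI : Mono (kernelCokernelCompSequence.snakeInput p' c).L₁.f := by
    show Mono (biprod.inl : E ⟶ E ⊞ U')
    infer_instance
  haveI : Mono (kernelCokernelCompSequence.snakeInput p' c).L₀.f := inferInstance
  have hz : IsZero (kernelCokernelCompSequence.snakeInput p' c).L₃.X₁ := by
    show IsZero (cokernel p')
    exact isZero_cokernel_of_epi p'
  haveI : Epi (kernelCokernelCompSequence.snakeInput p' c).L₀.g :=
    ((kernelCokernelCompSequence.snakeInput p' c).L₁'_exact).epi_f (hz.eq_of_tgt _ _)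
  exact ShortComplex.ShortExact.mk' h1 inferInstance inferInstance

variable [HasExt C]

/-- `Ext^n(G, ker p) = 0` if `Ext^n(G, ker p') = 0 = Ext^n(G, ker c)`, `p = p' ≫ c`, `p'` epi -/
theorem subsingleton_ext_kernel_comp {E U' U : C} (p' : E ⟶ U') [Epi p'] (c : U' ⟶ U)
    (p : E ⟶ U) (hp : p' ≫ c = p) (G : C) (n : ℕ)
    (h1 : Subsingleton (Ext G (kernel p') n)) (h2 : Subsingleton (Ext G (kernel c) n)) :
    Subsingleton (Ext G (kernel p) n) := by
  subst hp
  have hS := shortExact_kernel_comp p' c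
  refine ⟨fun x y => ?_⟩
  have key : ∀ z : Ext G (kernel (p' ≫ c)) n, z = 0 := by
    intro z
    haveI : Subsingleton
        (Ext G (kernelCokernelCompSequence.snakeInput p' c).L₀.X₃ n) := h2
    haveI : Subsingleton
        (Ext G (kernelCokernelCompSequence.snakeInput p' c).L₀.X₁ n) := h1
    obtain ⟨x₁, hx₁⟩ := Ext.covariant_sequence_exact₂ G hS z (Subsingleton.elim _ _)
    have h3 : x₁ = 0 := Subsingleton.elim _ _
    rw [← hx₁, h3, Ext.zero_comp]
    rfl
  rw [key x, key y]

/-- `Ext^n(G, U') → Ext^n(G, U)` is surjective if `Ext^{n+1}(G, ker c) = 0`, `c` epi -/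
theorem surjective_postcomp_of_subsingleton {U' U : C} (c : U' ⟶ U) [Epi c] (G : C) (n : ℕ)
    (h : Subsingleton (Ext G (kernel c) (n + 1))) :
    Function.Surjective ((Ext.mk₀ c).postcomp G (add_zero n)) := by
  have hS : (ShortComplex.mk (kernel.ι c) c (kernel.condition c)).ShortExact :=
    ShortComplex.ShortExact.mk' (ShortComplex.exact_kernel c) inferInstance inferInstance
  intro y
  obtain ⟨x₂, hx₂⟩ := Ext.covariant_sequence_exact₃ G hS y (rfl : n + 1 = n + 1)
    (Subsingleton.elim _ _)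
  exact ⟨x₂, hx₂⟩

end Coh

end Groth.Agent.Lib.ThickStepH8
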