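import Mathlib
import Groth.Prelude.Def_Coh
import Groth.Prelude.Def_UnitsSh
import Groth.Agent.Lib.ThickStep1_helper8
import Groth.Agent.Lib.SplitThick1_helper8
import Groth.Agent.Lib.DualSch1_helper8
import Groth.Agent.Lib.AdicPic1_helper7

/-!
# One step of a flat thickening: geometry (helper8)
APPEND-ONLY once landed.
-/

set_option autoImplicit false
universe u
open CategoryTheory CategoryTheory.Limits AlgebraicGeometry Opposite TopologicalSpace

namespace Groth.Agent.Lib.ThickStepH8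

open Groth.Agent.Lib.PicRelH8 Groth.Agent.Lib.Cech Groth.Agent.Lib.SplitThickH8
  Groth.Agent.Lib.DualSchH8

section AbstractBasis

variable {Y : TopCat.{u}} {O E U' U P₀ : CohTop.Ab Y}
  (p' : E ⟶ U') (p : E ⟶ U) (ν' : O ⟶ U') (π₀ : O ⟶ P₀)
  (B : Set (Opens Y))
  (hBasis : ∀ (V : Opens Y) (x : Y), x ∈ V → ∃ W ∈ B, x ∈ W ∧ W ≤ V)

include hBasis in
lemma hK_of_basis
    (hK : ∀ V ∈ B, ∀ u : E.obj.obj (op V),
      (p'.hom.app (op V)).hom u = 0 → (p.hom.app (op V)).hom u = 0)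
    (V : Opens Y) (u : E.obj.obj (op V)) (h : (p'.hom.app (op V)).hom u = 0) :
    (p.hom.app (op V)).hom u = 0 := by
  apply eq_zero_of_local
  intro x hx
  obtain ⟨W, hWB, hxW, hWV⟩ := hBasis V x hx
  refine ⟨W, hWV, hxW, ?_⟩
  rw [← res_app]
  apply hK W hWB
  rw [res_app, h, map_zero]

include hBasis in
lemma hB_of_basis
    (hB : ∀ V ∈ B, ∀ (f : O.obj.obj (op V)) (u : E.obj.obj (op V)),
      (p'.hom.app (op V)).hom u = (ν'.hom.app (op V)).hom f → (p.hom.app (op V)).hom u = 0)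
    (V : Opens Y) (f : O.obj.obj (op V)) (u : E.obj.obj (op V))
    (h : (p'.hom.app (op V)).hom u = (ν'.hom.app (op V)).hom f) :
    (p.hom.app (op V)).hom u = 0 := by
  apply eq_zero_of_local
  intro x hx
  obtain ⟨W, hWB, hxW, hWV⟩ := hBasis V x hx
  refine ⟨W, hWV, hxW, ?_⟩
  rw [← res_app]
  apply hB W hWB (res O.obj hWV f)
  rw [res_app, h, res_app]

include hBasis in
lemma hD_of_basis
    (hD : ∀ V ∈ B, ∀ f : O.obj.obj (op V),
      (π₀.hom.app (op V)).hom f = 0 ↔ (ν'.hom.app (op V)).hom f = 0)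
    (V : Opens Y) (f : O.obj.obj (op V)) :
    (π₀.hom.app (op V)).hom f = 0 ↔ (ν'.hom.app (op V)).hom f = 0 := by
  constructor
  · intro h
    apply eq_zero_of_local
    intro x hx
    obtain ⟨W, hWB, hxW, hWV⟩ := hBasis V x hx
    refine ⟨W, hWV, hxW, ?_⟩
    rw [← res_app]
    apply (hD W hWB _).1
    rw [res_app, h, map_zero]
  · intro h
    apply eq_zero_of_local
    intro x hx
    obtain ⟨W, hWB, hxW, hWV⟩ := hBasis V x hx
    refine ⟨W, hWV, hxW, ?_⟩
    rw [← res_app]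
    apply (hD W hWB _).2
    rw [res_app, h, map_zero]

end AbstractBasis

section Maps

variable {X' Z : Scheme.{u}} (i : Z ⟶ X')

/-- components of `O_{X'} → i_* O_Z` -/
noncomputable def piApp (U : (Opens X')ᵒᵖ) :
    (Coh.toAb (Coh.structureModule X')).obj.obj U →+ (OZ i).obj.obj U :=
  ((OmegaSh.strSect Z (i ⁻¹ᵁ U.unop)).comp ((i.app U.unop).hom.toAddMonoidHom)).comp
    (OmegaSh.fnSect X' U.unop)

/-- `i^♯ : O_{X'} → i_* O_Z` as a map of abelian sheaves -/
noncomputable def piMap : Coh.toAb (Coh.structureModule X') ⟶ OZ i :=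
  ⟨{ app := fun U => AddCommGrpCat.ofHom (piApp i U)
     naturality := by
       intro U V f
       ext s
       have h := i.naturality f
       exact (congrArg (fun φ => φ.hom (OmegaSh.fnSect X' U.unop s)) h) }⟩

lemma fnSect_piMap (U : X'.Opens) (f : (Coh.toAb (Coh.structureModule X')).obj.obj (op U)) :
    OmegaSh.fnSect Z (i ⁻¹ᵁ U) (((piMap i).hom.app (op U)).hom f) =
      (i.app U).hom (OmegaSh.fnSect X' U f) := rfl

end Maps

section Nu

variable (A : Type u) [CommRing A] {X' Z' : Scheme.{u}} [X'.Over (Spec (CommRingCat.of A))]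
  (i' : Z' ⟶ X') (t : A)

lemma aW_res {U V : X'.Opens} (h : V ≤ U) (x : A) :
    (X'.presheaf.map (homOfLE h).op).hom (aW A U x) = aW A V x := by
  have h1 := Scheme.Hom.appLE_map (fX A X') (U := ⊤) (V := U) (fun _ _ => trivial)
    (homOfLE h).op
  have h2 := congrArg (fun φ => φ.hom ((Scheme.ΓSpecIso (CommRingCat.of A)).inv.hom x)) h1
  exact h2

/-- `τ_U = i'^♯ (t)` -/
noncomputable def tauU (U : X'.Opens) : Γ(Z', i' ⁻¹ᵁ U) := (i'.app U).hom (aW A U t)

lemma app_res {U V : X'.Opens} (h : V ≤ U) (f : Γ(X', U)) :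
    (Z'.presheaf.map (homOfLE (pre_mono i' h)).op).hom ((i'.app U).hom f) =
      (i'.app V).hom ((X'.presheaf.map (homOfLE h).op).hom f) := by
  have h1 := i'.naturality (homOfLE h).op
  exact (congrArg (fun φ => φ.hom f) h1).symm

lemma tauU_res {U V : X'.Opens} (h : V ≤ U) :
    (Z'.presheaf.map (homOfLE (pre_mono i' h)).op).hom (tauU A i' t U) = tauU A i' t V := by
  unfold tauU
  rw [app_res i' h, aW_res A h]

variable (ht2 : ∀ U : X'.Opens, tauU A i' t U * tauU A i' t U = 0)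

/-- the unit `1 + τ i'^♯ f` -/
noncomputable def nuUnit (U : X'.Opens) (f : Γ(X', U)) : Γ(Z', i' ⁻¹ᵁ U)ˣ :=
  unitOf (i'.app U).hom (tauU A i' t U) (ht2 U) f

lemma nuUnit_val (U : X'.Opens) (f : Γ(X', U)) :
    (nuUnit A i' t ht2 U f).val = 1 + tauU A i' t U * (i'.app U).hom f := rfl

lemma nuUnit_res {U V : X'.Opens} (h : V ≤ U) (f : Γ(X', U)) :
    nuUnit A i' t ht2 V ((X'.presheaf.map (homOfLE h).op).hom f) =
      Units.map (Z'.presheaf.map (homOfLE (pre_mono i' h)).op).hom.toMonoidHom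
        (nuUnit A i' t ht2 U f) := by
  refine Units.ext ?_
  show 1 + tauU A i' t V * (i'.app V).hom ((X'.presheaf.map (homOfLE h).op).hom f) =
    (Z'.presheaf.map (homOfLE (pre_mono i' h)).op).hom (1 + tauU A i' t U * (i'.app U).hom f)
  rw [map_add, map_one, map_mul, tauU_res A i' t h, app_res i' h]

/-- components of `ν' : O_{X'} → i'_* O_{Z'}^×` -/
noncomputable def nuApp (U : (Opens X')ᵒᵖ) :
    (Coh.toAb (Coh.structureModule X')).obj.obj U →+ (EZ i').obj.obj U :=
  AddMonoidHom.mk' (fun f => sR i' U.unop (nuUnit A i' t ht2 U.unop (OmegaSh.fnSect X' U.unop f)))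
    (fun f f' => by
      have h := unitOf_add (i'.app U.unop).hom (tauU A i' t U.unop) (ht2 U.unop)
        (OmegaSh.fnSect X' U.unop f) (OmegaSh.fnSect X' U.unop f')
      exact (congrArg (fun z => sR i' U.unop (nuUnit A i' t ht2 U.unop z))
        (map_add (OmegaSh.fnSect X' U.unop) f f')).trans (congrArg (sR i' U.unop) h))

/-- `ν' : O_{X'} → i'_* O_{Z'}^×`, `f ↦ 1 + t f` -/
noncomputable def nuMap : Coh.toAb (Coh.structureModule X') ⟶ EZ i' :=
  ⟨{ app := fun U => AddCommGrpCat.ofHom (nuApp A i' t ht2 U)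
     naturality := by
       intro U V f
       ext s
       have h := nuUnit_res A i' t ht2 (leOfHom f.unop) (OmegaSh.fnSect X' U.unop s)
       exact congrArg (sR i' V.unop) h }⟩

lemma uR_nuMap (U : X'.Opens) (f : (Coh.toAb (Coh.structureModule X')).obj.obj (op U)) :
    uR i' U (((nuMap A i' t ht2).hom.app (op U)).hom f) =
      nuUnit A i' t ht2 U (OmegaSh.fnSect X' U f) := rfl

end Nu

section Cut

variable (A : Type u) [CommRing A] {X' : Scheme.{u}} [X'.Over (Spec (CommRingCat.of A))]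

/-- `i : Z ⟶ X'` is cut out by the ideal `J ⊆ A` (affine-locally) -/
def IsCut {Z : Scheme.{u}} (i : Z ⟶ X') (J : Ideal A) : Prop :=
  ∀ W : X'.Opens, IsAffineOpen W → Function.Surjective (i.app W).hom ∧
    RingHom.ker (i.app W).hom = J.map (aW A W)

theorem isCut_id : IsCut A (𝟙 X') ⊥ := by
  intro W _
  have h1 : ((𝟙 X' : X' ⟶ X').app W).hom = RingHom.id _ := by
    rw [Scheme.Hom.id_app]
    rfl
  rw [h1, Ideal.map_bot]
  exact ⟨Function.surjective_id, RingHom.ker_eq_bot_iff_eq_zero _ |>.2 (fun x hx => hx)⟩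

lemma rUHom_eq_aW (W : X'.Opens) :
    Groth.Agent.Lib.FormalFnH2.rUHom (A := A) W = aW A W := by
  have h := Groth.Agent.Lib.FormalFnH2.ofHom_rUHom (A := A) W (fun _ _ => trivial)
  exact congrArg CommRingCat.Hom.hom h

theorem isCut_of_isPullback {B : Type u} [CommRing B] (φ : A →+* B)
    (hφ : Function.Surjective φ) {Z : Scheme.{u}} (j : Z ⟶ X')
    (g : Z ⟶ Spec (CommRingCat.of B))
    (H : IsPullback j g (X' ↘ Spec (CommRingCat.of A)) (Spec.map (CommRingCat.ofHom φ))) :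
    IsCut A j (RingHom.ker φ) := by
  haveI : IsClosedImmersion j :=
    Groth.Agent.Lib.AdicPicH7.isClosedImmersion_of_isPullback φ hφ j g H
  intro W hW
  refine ⟨j.app_surjective W hW, ?_⟩
  have h1 := Groth.Agent.Lib.AdicPicH7.ker_ideal_eq_map φ hφ j g H W hW
  rw [Scheme.Hom.ker_apply, rUHom_eq_aW] at h1
  exact h1

theorem flat_aW [Flat (X' ↘ Spec (CommRingCat.of A))] (W : X'.Opens) (hW : IsAffineOpen W) :
    (aW A W).Flat := by
  have h1 : ((fX A X').appLE ⊤ W (fun _ _ => trivial)).hom.Flat :=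
    HasRingHomProperty.appLE (P := @Flat) (fX A X') inferInstance ⟨⊤, isAffineOpen_top _⟩
      ⟨W, hW⟩ _
  have h2 : ((Scheme.ΓSpecIso (CommRingCat.of A)).inv).hom.Flat :=
    RingHom.Flat.of_bijective
      (ConcreteCategory.bijective_of_isIso (Scheme.ΓSpecIso (CommRingCat.of A)).inv)
  exact RingHom.Flat.comp h2 h1

end Cut

section Step

variable (A : Type u) [CommRing A] {X' : Scheme.{u}} [X'.Over (Spec (CommRingCat.of A))]

lemma affine_basis (V : X'.Opens) (x : X') (hx : x ∈ V) :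
    ∃ W ∈ {W : X'.Opens | IsAffineOpen W}, x ∈ W ∧ W ≤ V := by
  obtain ⟨_, ⟨W, hW : IsAffineOpen W, rfl⟩, hxW, hle⟩ :=
    (X'.isBasis_affineOpens).exists_subset_of_mem_open hx V.isOpen
  exact ⟨W, hW, hxW, hle⟩

lemma res_strSect {U W : X'.Opens} (h : W ≤ U) (f : Γ(X', U)) :
    res (Coh.toAb (Coh.structureModule X')).obj h (OmegaSh.strSect X' U f) =
      OmegaSh.strSect X' W ((X'.presheaf.map (homOfLE h).op).hom f) := rfl

variable {Z : Scheme.{u}} (i : Z ⟶ X') (J : Ideal A) (hi : IsCut A i J)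

include hi in
lemma app_eq_zero_of_mem_map {W : X'.Opens} (hW : IsAffineOpen W) {r : Γ(X', W)}
    (hr : r ∈ J.map (aW A W)) : (i.app W).hom r = 0 := by
  have h1 : r ∈ RingHom.ker (i.app W).hom := by
    rw [(hi W hW).2]
    exact hr
  exact h1

include hi in
lemma app_aW_eq_zero (U : X'.Opens) {s : A} (hs : s ∈ J) : (i.app U).hom (aW A U s) = 0 := by
  have key : ((piMap i).hom.app (op U)).hom (OmegaSh.strSect X' U (aW A U s)) = 0 := by
    apply eq_zero_of_local
    intro x hx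
    obtain ⟨W, hW, hxW, hWU⟩ := affine_basis U x hx
    refine ⟨W, hWU, hxW, ?_⟩
    rw [← res_app, res_strSect, aW_res A hWU]
    have h2 : (i.app W).hom (aW A W s) = 0 :=
      app_eq_zero_of_mem_map A i J hi hW (Ideal.mem_map_of_mem _ hs)
    exact (congrArg (OmegaSh.strSect Z (i ⁻¹ᵁ W)) h2).trans (map_zero _)
  exact key

include hi in
theorem epi_piMap : Epi (piMap i) := by
  refine Groth.Agent.Lib.RestrOpen.epi_of_local _ ?_
  intro V s x hx
  obtain ⟨W, hW, hxW, hWV⟩ := affine_basis V x hx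
  refine ⟨W, hWV, hxW, ?_⟩
  obtain ⟨r, hr⟩ := (hi W hW).1 (OmegaSh.fnSect Z (i ⁻¹ᵁ W) (res (OZ i).obj hWV s))
  exact ⟨OmegaSh.strSect X' W r, congrArg (OmegaSh.strSect Z (i ⁻¹ᵁ W)) hr⟩

include hi in
lemma isNilpotent_of_app_eq_zero (hnil : ∀ x ∈ J, IsNilpotent x) {W : X'.Opens}
    (hW : IsAffineOpen W) (r : Γ(X', W)) (hr : (i.app W).hom r = 0) : IsNilpotent r := by
  have h1 : r ∈ RingHom.ker (i.app W).hom := hr
  rw [(hi W hW).2] at h1
  have h2 : J.map (aW A W) ≤ nilradical Γ(X', W) := by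
    rw [Ideal.map_le_iff_le_comap]
    intro x hx
    rw [Ideal.mem_comap, mem_nilradical]
    exact (hnil x hx).map (aW A W)
  exact mem_nilradical.1 (h2 h1)

include hi in
theorem epi_comap (hnil : ∀ x ∈ J, IsNilpotent x) : Epi (UnitsSh.comap i) := by
  refine Groth.Agent.Lib.RestrOpen.epi_of_local _ ?_
  intro V s x hx
  obtain ⟨W, hW, hxW, hWV⟩ := affine_basis V x hx
  refine ⟨W, hWV, hxW, ?_⟩
  obtain ⟨u, hu⟩ := exists_unit_lift (i.app W).hom (hi W hW).1
    (fun r hr => isNilpotent_of_app_eq_zero A i J hi hnil hW r hr)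
    (uR i W (res (EZ i).obj hWV s))
  refine ⟨sX W u, ?_⟩
  apply uR_injective i W
  rw [uR_comap']
  exact hu

lemma comap_eq_zero_iff (W : X'.Opens) (u : (UnitsSh.unitsAb X').obj.obj (op W)) :
    ((UnitsSh.comap i).hom.app (op W)).hom u = 0 ↔ (i.app W).hom (uX W u).val = 1 := by
  constructor
  · intro h
    have h1 := congrArg (fun z => (uR i W z).val) h
    exact h1
  · intro h
    apply uR_injective i W
    rw [uR_comap']
    exact Units.ext h

end Step

section Main

variable (A : Type u) [CommRing A] {X' : Scheme.{u}} [X'.Over (Spec (CommRingCat.of A))]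
  {Z' Z Z₀ : Scheme.{u}} (i' : Z' ⟶ X') (i : Z ⟶ X') (i₀ : Z₀ ⟶ X') (J' J 𝔞 : Ideal A) (t : A)
  (hi' : IsCut A i' J') (hi : IsCut A i J) (hi₀ : IsCut A i₀ 𝔞)
  (hJ'J : J' ≤ J) (hJ : J ≤ J' ⊔ Ideal.span {t}) (htJ : t ∈ J) (ht2 : t * t ∈ J')
  (h𝔞 : ∀ x, x ∈ 𝔞 ↔ t * x ∈ J') (hnil : ∀ x ∈ J, IsNilpotent x)

include hi' ht2 in
lemma tau_sq (U : X'.Opens) : tauU A i' t U * tauU A i' t U = 0 := by
  unfold tauU
  rw [← map_mul, ← map_mul]
  exact app_aW_eq_zero A i' J' hi' U ht2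

include hi' hi hi₀ hJ'J hJ htJ ht2 h𝔞 hnil in
/-- **one step of a flat thickening**: the transition map `c : i'_* O_{Z'}^× → i_* O_Z^×` is an
epimorphism with kernel `i₀_* O_{Z₀}` -/
theorem exists_step [Flat (X' ↘ Spec (CommRingCat.of A))] :
    ∃ c : EZ i' ⟶ EZ i, UnitsSh.comap i' ≫ c = UnitsSh.comap i ∧ Epi c ∧
      Nonempty (kernel c ≅ OZ i₀) := by
  haveI : Epi (UnitsSh.comap i') :=
    epi_comap A i' J' hi' (fun x hx => hnil x (hJ'J hx))
  haveI : Epi (UnitsSh.comap i) := epi_comap A i J hi hnil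
  haveI : Epi (piMap i₀) := epi_piMap A i₀ 𝔞 hi₀
  have hsq := tau_sq A i' J' t hi' ht2
  -- ring-level facts on affine opens
  have ringK : ∀ (W : X'.Opens), IsAffineOpen W → ∀ r : Γ(X', W),
      (i'.app W).hom r = 0 → (i.app W).hom r = 0 := by
    intro W hW r hr
    letI : Algebra A Γ(X', W) := (aW A W).toAlgebra
    exact ker_le_ker (i'.app W).hom (i.app W).hom J' J (hi' W hW).2 (hi W hW).2 hJ'J hr
  have hK : ∀ V ∈ {W : X'.Opens | IsAffineOpen W}, ∀ u : (UnitsSh.unitsAb X').obj.obj (op V),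
      ((UnitsSh.comap i').hom.app (op V)).hom u = 0 →
        ((UnitsSh.comap i).hom.app (op V)).hom u = 0 := by
    intro W hW u h
    rw [comap_eq_zero_iff] at h ⊢
    have h1 : (i'.app W).hom ((uX W u).val - 1) = 0 := by rw [map_sub, h, map_one, sub_self]
    have h2 := ringK W hW _ h1
    rw [map_sub, map_one] at h2
    exact sub_eq_zero.1 h2
  have hB : ∀ V ∈ {W : X'.Opens | IsAffineOpen W},
      ∀ (f : (Coh.toAb (Coh.structureModule X')).obj.obj (op V))
        (u : (UnitsSh.unitsAb X').obj.obj (op V)),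
      ((UnitsSh.comap i').hom.app (op V)).hom u = ((nuMap A i' t hsq).hom.app (op V)).hom f →
        ((UnitsSh.comap i).hom.app (op V)).hom u = 0 := by
    intro W hW f u h
    rw [comap_eq_zero_iff]
    letI : Algebra A Γ(X', W) := (aW A W).toAlgebra
    have h1 := congrArg (fun z => (uR i' W z).val) h
    have h2 : (i'.app W).hom (uX W u).val =
        1 + (i'.app W).hom (aW A W t) * (i'.app W).hom (OmegaSh.fnSect X' W f) := h1
    exact step_B (i'.app W).hom (i.app W).hom J' J t (hi' W hW).2 (hi W hW).2 hJ'J htJ h2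
  have hC : ∀ (V : X'.Opens) (u : (UnitsSh.unitsAb X').obj.obj (op V)),
      ((UnitsSh.comap i).hom.app (op V)).hom u = 0 → ∀ x ∈ V,
      ∃ (W : X'.Opens) (hW : W ≤ V), x ∈ W ∧
        ∃ f : (Coh.toAb (Coh.structureModule X')).obj.obj (op W),
          ((UnitsSh.comap i').hom.app (op W)).hom (res (UnitsSh.unitsAb X').obj hW u) =
            ((nuMap A i' t hsq).hom.app (op W)).hom f := by
    intro V u h x hx
    obtain ⟨W, hW, hxW, hWV⟩ := affine_basis V x hx
    refine ⟨W, hWV, hxW, ?_⟩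
    have h1 : ((UnitsSh.comap i).hom.app (op W)).hom (res (UnitsSh.unitsAb X').obj hWV u) = 0 := by
      rw [res_app, h, map_zero]
    rw [comap_eq_zero_iff] at h1
    letI : Algebra A Γ(X', W) := (aW A W).toAlgebra
    obtain ⟨f, hf⟩ := step_C (i'.app W).hom (i.app W).hom J' J t (hi' W hW).2 (hi W hW).2 hJ h1
    refine ⟨OmegaSh.strSect X' W f, ?_⟩
    apply uR_injective i' W
    rw [uR_comap', uR_nuMap]
    exact Units.ext hf
  have hD : ∀ V ∈ {W : X'.Opens | IsAffineOpen W},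
      ∀ f : (Coh.toAb (Coh.structureModule X')).obj.obj (op V),
      ((piMap i₀).hom.app (op V)).hom f = 0 ↔ ((nuMap A i' t hsq).hom.app (op V)).hom f = 0 := by
    intro W hW f
    letI : Algebra A Γ(X', W) := (aW A W).toAlgebra
    haveI : Module.Flat A Γ(X', W) := flat_aW A W hW
    have h1 := step_D (i'.app W).hom (i₀.app W).hom J' 𝔞 t (hi' W hW).2 (hi₀ W hW).2 h𝔞
      (OmegaSh.fnSect X' W f)
    constructor
    · intro h
      have h2 : (i₀.app W).hom (OmegaSh.fnSect X' W f) = 0 := h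
      apply uR_injective i' W
      rw [uR_nuMap]
      refine Units.ext ?_
      show 1 + tauU A i' t W * (i'.app W).hom (OmegaSh.fnSect X' W f) = 1
      rw [show tauU A i' t W * (i'.app W).hom (OmegaSh.fnSect X' W f) = 0 from h1.1 h2, add_zero]
    · intro h
      have h2 := congrArg (fun z => (uR i' W z).val) h
      have h3 : 1 + tauU A i' t W * (i'.app W).hom (OmegaSh.fnSect X' W f) = 1 := h2
      have h4 : tauU A i' t W * (i'.app W).hom (OmegaSh.fnSect X' W f) = 0 :=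
        add_left_cancel (h3.trans (add_zero 1).symm)
      exact congrArg (OmegaSh.strSect Z₀ (i₀ ⁻¹ᵁ W)) (h1.2 h4) |>.trans (map_zero _)
  have hK' := hK_of_basis (UnitsSh.comap i') (UnitsSh.comap i) _ (affine_basis (X' := X')) hK
  have hB' := hB_of_basis (UnitsSh.comap i') (UnitsSh.comap i) (nuMap A i' t hsq) _
    (affine_basis (X' := X')) hB
  have hD' := hD_of_basis (nuMap A i' t hsq) (piMap i₀) _ (affine_basis (X' := X')) hD
  exact ⟨cMap (UnitsSh.comap i') (UnitsSh.comap i) hK', p'_cMap _ _ hK', inferInstance,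
    nonempty_kernel_iso (UnitsSh.comap i') (UnitsSh.comap i) (nuMap A i' t hsq) (piMap i₀)
      hK' hB' hC hD'⟩

end Main

end Groth.Agent.Lib.ThickStepH8
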