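import Mathlib
import Groth.Agent.Lib.ThickStep2_helper8
import Groth.Agent.Lib.Leray_helper9
import Groth.Agent.Lib.RpushVanish_helper9

/-!
# Flat thickenings over Artinian local rings: units and cohomology (helper8)
APPEND-ONLY once landed.
-/

set_option autoImplicit false
universe u
open CategoryTheory CategoryTheory.Limits AlgebraicGeometry Opposite TopologicalSpace

namespace Groth.Agent.Lib.ThickStepH8

open Groth.Agent.Lib.PicRelH8 Groth.Agent.Lib.Cech Groth.Agent.Lib.SplitThickH8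
  Groth.Agent.Lib.DualSchH8

section Alg

variable {A : Type*} [CommRing A] [IsLocalRing A]

lemma mem_maximalIdeal_iff_of_socle (I' : Ideal A) (t : A) (ht : t ∉ I')
    (hmt : ∀ x ∈ IsLocalRing.maximalIdeal A, t * x ∈ I') (x : A) :
    x ∈ IsLocalRing.maximalIdeal A ↔ t * x ∈ I' := by
  refine ⟨hmt x, fun h => ?_⟩
  by_contra hx
  have hu : IsUnit x := by
    rwa [IsLocalRing.mem_maximalIdeal, mem_nonunits_iff, not_not] at hx
  obtain ⟨y, hy⟩ := hu.exists_right_inv
  apply ht
  have h1 : t = t * x * y := by rw [mul_assoc, hy, mul_one]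
  rw [h1]
  exact Ideal.mul_mem_right _ _ h

theorem exists_maximal_sub [IsArtinianRing A] (I : Ideal A) (hI : I ≠ ⊥) :
    ∃ (I' : Ideal A) (t : A), I' < I ∧ t ∈ I ∧ t ∉ I' ∧ I ≤ I' ⊔ Ideal.span {t} ∧
      (∀ x ∈ IsLocalRing.maximalIdeal A, t * x ∈ I') := by
  haveI : IsNoetherianRing A := inferInstance
  obtain ⟨I', hI'I, hmax⟩ := (set_has_maximal_iff_noetherian (R := A) (M := A)).2 inferInstance
    {K : Ideal A | K < I} ⟨⊥, bot_lt_iff_ne_bot.2 hI⟩
  have hI'I' : I' < I := hI'I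
  obtain ⟨t, htI, htI'⟩ := SetLike.exists_of_lt hI'I'
  have key : ∀ s ∈ I, s ∉ I' → I ≤ I' ⊔ Ideal.span {s} := by
    intro s hsI hsI'
    by_contra hcon
    have h1 : I' ⊔ Ideal.span {s} ≤ I :=
      sup_le hI'I'.le ((Ideal.span_singleton_le_iff_mem _).2 hsI)
    have h2 : I' ⊔ Ideal.span {s} < I := lt_of_le_of_ne h1 (fun h => hcon h.ge)
    have h3 : I' < I' ⊔ Ideal.span {s} := by
      refine lt_of_le_of_ne le_sup_left (fun h => hsI' ?_)
      rw [h]
      exact Ideal.mem_sup_right (Ideal.mem_span_singleton_self s)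
    exact hmax _ h2 h3
  refine ⟨I', t, hI'I', htI, htI', key t htI htI', ?_⟩
  intro x hx
  by_contra hcon
  have h1 := key (t * x) (Ideal.mul_mem_right _ _ htI) hcon htI
  obtain ⟨y, hy, w, hw, hyw⟩ := Submodule.mem_sup.1 h1
  obtain ⟨a, rfl⟩ := Ideal.mem_span_singleton'.1 hw
  have h2 : t * (1 - a * x) = y := by
    linear_combination (-1 : A) * hyw
  have hu : IsUnit (1 - a * x) := by
    have h3 : a * x ∈ IsLocalRing.maximalIdeal A := Ideal.mul_mem_left _ _ hx
    by_contra hnu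
    have h4 : 1 - a * x ∈ IsLocalRing.maximalIdeal A := hnu
    have h5 : (1 : A) ∈ IsLocalRing.maximalIdeal A := by
      have := Ideal.add_mem _ h4 h3
      rwa [sub_add_cancel] at this
    exact (Ideal.ne_top_iff_one _).1 (IsLocalRing.maximalIdeal.isMaximal A).ne_top h5
  obtain ⟨z, hz⟩ := hu.exists_right_inv
  apply htI'
  have h6 : t = y * z := by rw [← h2, mul_assoc, hz, mul_one]
  rw [h6]
  exact Ideal.mul_mem_right _ _ hy

lemma isNilpotent_of_mem_maximalIdeal [IsArtinianRing A] {x : A}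
    (hx : x ∈ IsLocalRing.maximalIdeal A) : IsNilpotent x := by
  obtain ⟨n, hn⟩ := IsArtinianRing.isNilpotent_jacobson_bot (R := A)
  rw [IsLocalRing.jacobson_eq_maximalIdeal ⊥ bot_ne_top] at hn
  refine ⟨n, ?_⟩
  have h1 : x ^ n ∈ IsLocalRing.maximalIdeal A ^ n := Ideal.pow_mem_pow hx n
  rw [hn] at h1
  exact h1

end Alg

section ExtLemmas

open Abelian

variable {C : Type*} [Category C] [Abelian C] [HasExt C]

lemma subsingleton_ext_of_iso {K P : C} (e : K ≅ P) (G : C) (n : ℕ)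
    (h : Subsingleton (Ext G P n)) : Subsingleton (Ext G K n) := by
  refine ⟨fun x y => ?_⟩
  have key : ∀ z : Ext G K n, z = 0 := by
    intro z
    have h1 : (z.comp (Ext.mk₀ e.hom) (add_zero n)).comp (Ext.mk₀ e.inv) (add_zero n) = z := by
      rw [Ext.comp_assoc_of_third_deg_zero, Ext.mk₀_comp_mk₀, e.hom_inv_id, Ext.comp_mk₀_id]
    rw [← h1, Subsingleton.elim (z.comp (Ext.mk₀ e.hom) (add_zero n)) 0, Ext.zero_comp]
  rw [key x, key y]

lemma subsingleton_ext_of_isZero {K : C} (hK : IsZero K) (G : C) (n : ℕ) :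
    Subsingleton (Ext G K n) := by
  refine ⟨fun x y => ?_⟩
  have key : ∀ z : Ext G K n, z = 0 := by
    intro z
    have h1 : z.comp (Ext.mk₀ (𝟙 K)) (add_zero n) = z := Ext.comp_mk₀_id z
    rw [← h1, hK.eq_of_src (𝟙 K) 0, Ext.mk₀_zero, Ext.comp_zero]
  rw [key x, key y]

lemma surjective_postcomp_of_isIso {K P : C} (f : K ⟶ P) [IsIso f] (G : C) (n : ℕ) :
    Function.Surjective ((Ext.mk₀ f).postcomp G (add_zero n)) := by
  intro y
  refine ⟨y.comp (Ext.mk₀ (inv f)) (add_zero n), ?_⟩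
  show (y.comp (Ext.mk₀ (inv f)) (add_zero n)).comp (Ext.mk₀ f) (add_zero n) = y
  rw [Ext.comp_assoc_of_third_deg_zero, Ext.mk₀_comp_mk₀, IsIso.inv_hom_id, Ext.comp_mk₀_id]

lemma surjective_postcomp_comp {K P Q : C} (f : K ⟶ P) (g : P ⟶ Q) (h : K ⟶ Q) (hfg : f ≫ g = h)
    (G : C) (n : ℕ)
    (hf : Function.Surjective ((Ext.mk₀ f).postcomp G (add_zero n)))
    (hg : Function.Surjective ((Ext.mk₀ g).postcomp G (add_zero n))) :
    Function.Surjective ((Ext.mk₀ h).postcomp G (add_zero n)) := by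
  subst hfg
  intro y
  obtain ⟨x, hx⟩ := hg y
  obtain ⟨w, hw⟩ := hf x
  refine ⟨w, ?_⟩
  have hx' : x.comp (Ext.mk₀ g) (add_zero n) = y := hx
  have hw' : w.comp (Ext.mk₀ f) (add_zero n) = x := hw
  show w.comp (Ext.mk₀ (f ≫ g)) (add_zero n) = y
  rw [← Ext.mk₀_comp_mk₀, ← Ext.comp_assoc_of_third_deg_zero, hw', hx']

end ExtLemmas

section Geo

variable (A : Type u) [CommRing A] {X' : Scheme.{u}} [X'.Over (Spec (CommRingCat.of A))]

theorem isIso_comap_of_isCut_bot {Z : Scheme.{u}} (i : Z ⟶ X') (hi : IsCut A i ⊥) :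
    IsIso (UnitsSh.comap i) := by
  haveI : Epi (UnitsSh.comap i) := epi_comap A i ⊥ hi (fun x hx => by
    rw [Ideal.mem_bot] at hx
    subst hx
    exact IsNilpotent.zero)
  haveI : Mono (UnitsSh.comap i) := by
    haveI : ∀ U, Mono ((UnitsSh.comap i).hom.app U) := fun U => by
      refine (AddCommGrpCat.mono_iff_injective _).mpr ?_
      refine (injective_iff_map_eq_zero ((UnitsSh.comap i).hom.app U).hom).mpr (fun u hu => ?_)
      have hu' : ((UnitsSh.comap i).hom.app (op U.unop)).hom u = 0 := hu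
      apply eq_zero_of_local (F := UnitsSh.unitsAb X') (V := U.unop)
      intro x hx
      obtain ⟨W, hW, hxW, hWU⟩ := affine_basis U.unop x hx
      refine ⟨W, hWU, hxW, ?_⟩
      have h1 : ((UnitsSh.comap i).hom.app (op W)).hom
          (res (UnitsSh.unitsAb X').obj hWU u) = 0 := by
        rw [res_app, hu', map_zero]
      rw [comap_eq_zero_iff] at h1
      have h2 : (i.app W).hom ((uX W (res (UnitsSh.unitsAb X').obj hWU u)).val - 1) = 0 := by
        rw [map_sub, h1, map_one, sub_self]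
      have h3 : (uX W (res (UnitsSh.unitsAb X').obj hWU u)).val - 1 ∈
          RingHom.ker (i.app W).hom := h2
      rw [(hi W hW).2, Ideal.map_bot, Ideal.mem_bot] at h3
      apply uX_injective W
      exact Units.ext (sub_eq_zero.1 h3)
    exact (sheafToPresheaf _ _).mono_of_mono_map (NatTrans.mono_of_mono_app (UnitsSh.comap i).hom)
  exact isIso_of_mono_of_epi _

variable {Z₀ : Scheme.{u}} (i₀ : Z₀ ⟶ X') (hcl : Topology.IsClosedEmbedding i₀.base)

include hcl in
lemma subsingleton_H_OZ (n : ℕ)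
    (h : Subsingleton (Coh.HH Z₀ (Coh.structureModule Z₀) n)) :
    Subsingleton (Sheaf.H (OZ i₀) n) := by
  obtain ⟨e⟩ := _root_.Leray.nonempty_H_addEquiv_push i₀.base
    (Coh.toAb (Coh.structureModule Z₀))
    (fun q => _root_.RpushVanish.isZero_Rpush_succ_of_isClosedEmbedding i₀.base
      hcl (Coh.toAb (Coh.structureModule Z₀)) q) n
  exact e.symm.toEquiv.subsingleton

variable {Z' Z : Scheme.{u}} (i' : Z' ⟶ X') (i : Z ⟶ X') (J' J 𝔞 : Ideal A) (t : A)
  (hi' : IsCut A i' J') (hi : IsCut A i J) (hi₀ : IsCut A i₀ 𝔞)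
  (hJ'J : J' ≤ J) (hJ : J ≤ J' ⊔ Ideal.span {t}) (htJ : t ∈ J) (ht2 : t * t ∈ J')
  (h𝔞 : ∀ x, x ∈ 𝔞 ↔ t * x ∈ J') (hnil : ∀ x ∈ J, IsNilpotent x)

include hcl hi' hi hi₀ hJ'J hJ htJ ht2 h𝔞 hnil in
theorem step_surjective [Flat (X' ↘ Spec (CommRingCat.of A))] (q : ℕ)
    (hvan : Subsingleton (Coh.HH Z₀ (Coh.structureModule Z₀) (q + 1)))
    (h : Function.Surjective (Sheaf.H.map (UnitsSh.comap i') q)) :
    Function.Surjective (Sheaf.H.map (UnitsSh.comap i) q) := by
  obtain ⟨c, hc, hce, ⟨e⟩⟩ := exists_step A i' i i₀ J' J 𝔞 t hi' hi hi₀ hJ'J hJ htJ ht2 h𝔞 hnil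
  have h1 : Subsingleton (Abelian.Ext (GX X') (kernel c) (q + 1)) :=
    subsingleton_ext_of_iso e (GX X') (q + 1) (subsingleton_H_OZ i₀ hcl (q + 1) hvan)
  have h2 := surjective_postcomp_of_subsingleton c (GX X') q h1
  exact surjective_postcomp_comp (UnitsSh.comap i') c (UnitsSh.comap i) hc (GX X') q h h2

include hcl hi' hi hi₀ hJ'J hJ htJ ht2 h𝔞 hnil in
theorem step_vanish [Flat (X' ↘ Spec (CommRingCat.of A))] (q : ℕ)
    (hvan : Subsingleton (Coh.HH Z₀ (Coh.structureModule Z₀) q))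
    (h : Subsingleton (Sheaf.H (kernel (UnitsSh.comap i')) q)) :
    Subsingleton (Sheaf.H (kernel (UnitsSh.comap i)) q) := by
  obtain ⟨c, hc, hce, ⟨e⟩⟩ := exists_step A i' i i₀ J' J 𝔞 t hi' hi hi₀ hJ'J hJ htJ ht2 h𝔞 hnil
  haveI : Epi (UnitsSh.comap i') :=
    epi_comap A i' J' hi' (fun x hx => hnil x (hJ'J hx))
  have h1 : Subsingleton (Abelian.Ext (GX X') (kernel c) q) :=
    subsingleton_ext_of_iso e (GX X') q (subsingleton_H_OZ i₀ hcl q hvan)
  exact subsingleton_ext_kernel_comp (UnitsSh.comap i') c (UnitsSh.comap i) hc (GX X') q h h1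

end Geo

section Induction

variable (A : Type u) [CommRing A] [IsLocalRing A] {X' : Scheme.{u}}
  [X'.Over (Spec (CommRingCat.of A))] [Flat (X' ↘ Spec (CommRingCat.of A))]
  {Z₀ : Scheme.{u}} (i₀ : Z₀ ⟶ X') (hcl : Topology.IsClosedEmbedding i₀.base)
  (hi₀ : IsCut A i₀ (IsLocalRing.maximalIdeal A))

omit [IsLocalRing A] [Flat (X' ↘ Spec (CommRingCat.of A))] in
/-- the base change along `A → A/I` is cut out by `I` -/
lemma isCut_quot (I : Ideal A) :
    IsCut A (pullback.fst (X' ↘ Spec (CommRingCat.of A))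
      (Spec.map (CommRingCat.ofHom (Ideal.Quotient.mk I)))) I := by
  have h := isCut_of_isPullback A (Ideal.Quotient.mk I) Ideal.Quotient.mk_surjective _ _
    (IsPullback.of_hasPullback (X' ↘ Spec (CommRingCat.of A))
      (Spec.map (CommRingCat.ofHom (Ideal.Quotient.mk I))))
  rwa [Ideal.mk_ker] at h

include hcl hi₀ in
theorem surjective_H_comap_of_artinian [IsArtinianRing A] (q : ℕ)
    (hvan : Subsingleton (Coh.HH Z₀ (Coh.structureModule Z₀) (q + 1))) (I : Ideal A) :
    I ≤ IsLocalRing.maximalIdeal A → ∀ {Z : Scheme.{u}} (i : Z ⟶ X'), IsCut A i I →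
      Function.Surjective (Sheaf.H.map (UnitsSh.comap i) q) := by
  refine IsArtinian.induction (R := A) (M := A)
    (P := fun I => I ≤ IsLocalRing.maximalIdeal A → ∀ {Z : Scheme.{u}} (i : Z ⟶ X'),
      IsCut A i I → Function.Surjective (Sheaf.H.map (UnitsSh.comap i) q)) ?_ I
  intro I ih hIm Z i hi
  by_cases hI : I = ⊥
  · subst hI
    haveI := isIso_comap_of_isCut_bot A i hi
    exact surjective_postcomp_of_isIso (UnitsSh.comap i) (GX X') q
  · obtain ⟨I', t, hI'I, htI, htI', hle, hmt⟩ := exists_maximal_sub I hI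
    have h1 := ih I' hI'I (hI'I.le.trans hIm) _ (isCut_quot A I')
    exact step_surjective A i₀ hcl _ i I' I (IsLocalRing.maximalIdeal A) t (isCut_quot A I') hi hi₀
      hI'I.le hle htI (hmt t (hIm htI)) (mem_maximalIdeal_iff_of_socle I' t htI' hmt)
      (fun x hx => isNilpotent_of_mem_maximalIdeal (hIm hx)) q hvan h1

include hcl hi₀ in
theorem subsingleton_H_kernel_comap_of_artinian [IsArtinianRing A] (q : ℕ)
    (hvan : Subsingleton (Coh.HH Z₀ (Coh.structureModule Z₀) q)) (I : Ideal A) :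
    I ≤ IsLocalRing.maximalIdeal A → ∀ {Z : Scheme.{u}} (i : Z ⟶ X'), IsCut A i I →
      Subsingleton (Sheaf.H (kernel (UnitsSh.comap i)) q) := by
  refine IsArtinian.induction (R := A) (M := A)
    (P := fun I => I ≤ IsLocalRing.maximalIdeal A → ∀ {Z : Scheme.{u}} (i : Z ⟶ X'),
      IsCut A i I → Subsingleton (Sheaf.H (kernel (UnitsSh.comap i)) q)) ?_ I
  intro I ih hIm Z i hi
  by_cases hI : I = ⊥
  · subst hI
    haveI := isIso_comap_of_isCut_bot A i hi
    exact subsingleton_ext_of_isZero (isZero_kernel_of_mono (UnitsSh.comap i)) (GX X') q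
  · obtain ⟨I', t, hI'I, htI, htI', hle, hmt⟩ := exists_maximal_sub I hI
    have h1 := ih I' hI'I (hI'I.le.trans hIm) _ (isCut_quot A I')
    exact step_vanish A i₀ hcl _ i I' I (IsLocalRing.maximalIdeal A) t (isCut_quot A I') hi hi₀
      hI'I.le hle htI (hmt t (hIm htI)) (mem_maximalIdeal_iff_of_socle I' t htI' hmt)
      (fun x hx => isNilpotent_of_mem_maximalIdeal (hIm hx)) q hvan h1

include hcl hi₀ in
/-- one small extension over any local ring -/
theorem surjective_H_comap_of_socle (t : A) (ht0 : t ≠ 0) (ht : t ∈ IsLocalRing.maximalIdeal A)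
    (hmt : ∀ x ∈ IsLocalRing.maximalIdeal A, x * t = 0) (q : ℕ)
    (hvan : Subsingleton (Coh.HH Z₀ (Coh.structureModule Z₀) (q + 1)))
    {Z : Scheme.{u}} (i : Z ⟶ X') (hi : IsCut A i (Ideal.span {t})) :
    Function.Surjective (Sheaf.H.map (UnitsSh.comap i) q) := by
  have hmt' : ∀ x ∈ IsLocalRing.maximalIdeal A, t * x ∈ (⊥ : Ideal A) := fun x hx => by
    rw [Ideal.mem_bot, mul_comm]
    exact hmt x hx
  have ht' : t ∉ (⊥ : Ideal A) := fun h => ht0 ((Ideal.mem_bot).1 h)
  have htt : t * t = 0 := hmt t ht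
  haveI := isIso_comap_of_isCut_bot A (𝟙 X') (isCut_id A)
  have h1 := surjective_postcomp_of_isIso (UnitsSh.comap (𝟙 X')) (GX X') q
  refine step_surjective A i₀ hcl (𝟙 X') i ⊥ (Ideal.span {t}) (IsLocalRing.maximalIdeal A) t
    (isCut_id A) hi hi₀ bot_le le_sup_right (Ideal.mem_span_singleton_self t)
    (by rw [htt]; exact Ideal.zero_mem _) (mem_maximalIdeal_iff_of_socle ⊥ t ht' hmt')
    (fun x hx => ?_) q hvan h1
  obtain ⟨a, rfl⟩ := Ideal.mem_span_singleton'.1 hx
  refine ⟨2, ?_⟩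
  rw [pow_two]
  linear_combination (a * a) * htt

end Induction

section Final

variable (A : Type u) [CommRing A] [IsLocalRing A] (X' : Scheme.{u})
  [X'.Over (Spec (CommRingCat.of A))]

lemma isCut_residue :
    IsCut A (pullback.fst (X' ↘ Spec (CommRingCat.of A))
      (Spec.map (CommRingCat.ofHom (IsLocalRing.residue A)))) (IsLocalRing.maximalIdeal A) := by
  have h := isCut_of_isPullback A (IsLocalRing.residue A) (IsLocalRing.residue_surjective) _ _
    (IsPullback.of_hasPullback (X' ↘ Spec (CommRingCat.of A))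
      (Spec.map (CommRingCat.ofHom (IsLocalRing.residue A))))
  rwa [IsLocalRing.ker_residue] at h

lemma isClosedEmbedding_residue :
    Topology.IsClosedEmbedding (pullback.fst (X' ↘ Spec (CommRingCat.of A))
      (Spec.map (CommRingCat.ofHom (IsLocalRing.residue A)))).base := by
  haveI : IsClosedImmersion (pullback.fst (X' ↘ Spec (CommRingCat.of A))
      (Spec.map (CommRingCat.ofHom (IsLocalRing.residue A)))) :=
    Groth.Agent.Lib.AdicPicH7.isClosedImmersion_of_isPullback (IsLocalRing.residue A)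
      (IsLocalRing.residue_surjective) _ _
      (IsPullback.of_hasPullback (X' ↘ Spec (CommRingCat.of A))
        (Spec.map (CommRingCat.ofHom (IsLocalRing.residue A))))
  exact (pullback.fst (X' ↘ Spec (CommRingCat.of A))
      (Spec.map (CommRingCat.ofHom (IsLocalRing.residue A)))).isClosedEmbedding

variable [Flat (X' ↘ Spec (CommRingCat.of A))]

theorem main18257 (t : A) (ht0 : t ≠ 0) (ht : t ∈ IsLocalRing.maximalIdeal A)
    (hmt : ∀ x ∈ IsLocalRing.maximalIdeal A, x * t = 0) (q : ℕ)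
    (hvan : Subsingleton (Coh.HH
      (pullback (X' ↘ Spec (CommRingCat.of A))
        (Spec.map (CommRingCat.ofHom (IsLocalRing.residue A))))
      (Coh.structureModule _) (q + 1))) :
    Function.Surjective (Sheaf.H.map (UnitsSh.comap
      (pullback.fst (X' ↘ Spec (CommRingCat.of A))
        (Spec.map (CommRingCat.ofHom (Ideal.Quotient.mk (Ideal.span ({t} : Set A))))))) q) :=
  surjective_H_comap_of_socle A _ (isClosedEmbedding_residue A X') (isCut_residue A X') t ht0 ht
    hmt q hvan _ (isCut_quot A (Ideal.span {t}))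

theorem main18259 [IsArtinianRing A] (J : Ideal A) (hJ : J ≤ IsLocalRing.maximalIdeal A) (q : ℕ)
    (hvan : Subsingleton (Coh.HH
      (pullback (X' ↘ Spec (CommRingCat.of A))
        (Spec.map (CommRingCat.ofHom (IsLocalRing.residue A))))
      (Coh.structureModule _) (q + 1))) :
    Function.Surjective (Sheaf.H.map (UnitsSh.comap
      (pullback.fst (X' ↘ Spec (CommRingCat.of A))
        (Spec.map (CommRingCat.ofHom (Ideal.Quotient.mk J))))) q) :=
  surjective_H_comap_of_artinian A _ (isClosedEmbedding_residue A X') (isCut_residue A X') q hvan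
    J hJ _ (isCut_quot A J)

theorem main18260 [IsArtinianRing A] (q : ℕ)
    (hvan : Subsingleton (Coh.HH
      (pullback (X' ↘ Spec (CommRingCat.of A))
        (Spec.map (CommRingCat.ofHom (IsLocalRing.residue A))))
      (Coh.structureModule _) q)) :
    Subsingleton (Sheaf.H (kernel (UnitsSh.comap
      (pullback.fst (X' ↘ Spec (CommRingCat.of A))
        (Spec.map (CommRingCat.ofHom (IsLocalRing.residue A)))))) q) :=
  subsingleton_H_kernel_comap_of_artinian A _ (isClosedEmbedding_residue A X')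
    (isCut_residue A X') q hvan (IsLocalRing.maximalIdeal A) le_rfl _ (isCut_residue A X')

end Final

end Groth.Agent.Lib.ThickStepH8
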