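import Groth.Statements.S6056
import Groth.Agent.Lib.NeronTorsorGen_lead
import Groth.Agent.S0114
import Groth.Agent.S1128

/-! # The third isomorphism theorem for fppf quotients of group schemes (lead) -/

set_option backward.isDefEq.respectTransparency false
set_option backward.isDefEq.respectTransparency.types false
set_option linter.unusedSimpArgs false
set_option linter.unusedVariables false
set_option linter.unusedSectionVars false
set_option linter.style.longLine false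
set_option linter.style.haveILetI false
set_option maxHeartbeats 800000

universe u

open CategoryTheory CategoryTheory.Limits MonoidalCategory CartesianMonoidalCategory MonObj GrpObj
  AlgebraicGeometry Opposite Topology

namespace Groth.Agent.Lib.ThirdIso

open Groth.Agent.Lib.AssocBundle Groth.Agent.Lib.GeomQuotSep Groth.Agent.Lib.BundleStages
  Groth.Agent.Lib.TorsorSeq SchFpqcCovH7 Groth.Agent.Lib.NeronTorsorGen Groth.Agent.Lib.BalProdFix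

variable {S : Scheme.{u}}

section quot

variable {H G Q : Over S} [GrpObj G] (i : H ⟶ G) (q : G ⟶ Q)

theorem mulr_pt {T : Over S} (g : T ⟶ G) (n : T ⟶ H) :
    lift g n ≫ (G ◁ i) ≫ μ[G] = g * (n ≫ i) := by
  rw [lift_whiskerLeft_assoc, Hom.mul_def]

theorem quot_eq (hq : RedSub.IsQuotient i q) {T : Over S} (g : T ⟶ G) (n : T ⟶ H) :
    (g * (n ≫ i)) ≫ q = g ≫ q := by
  obtain ⟨-, -, -, sq⟩ := hq
  calc (g * (n ≫ i)) ≫ q = (lift g n ≫ (G ◁ i) ≫ μ[G]) ≫ q := by rw [mulr_pt]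
    _ = lift g n ≫ ((G ◁ i) ≫ μ[G]) ≫ q := by simp only [Category.assoc]
    _ = lift g n ≫ fst G H ≫ q := by rw [sq.w]
    _ = g ≫ q := by rw [lift_fst_assoc]

theorem quot_diff (sq : IsPullback (fst G H) ((G ◁ i) ≫ μ[G]) q q) {T : Over S} (g₁ g₂ : T ⟶ G)
    (h : g₁ ≫ q = g₂ ≫ q) : ∃ n : T ⟶ H, g₂ = g₁ * (n ≫ i) := by
  obtain ⟨z, e1, e2⟩ : ∃ z : T ⟶ G ⊗ H, z ≫ fst G H = g₁ ∧ z ≫ (G ◁ i) ≫ μ[G] = g₂ :=
    ⟨sq.lift g₁ g₂ h, sq.lift_fst _ _ _, sq.lift_snd _ _ _⟩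
  refine ⟨z ≫ snd G H, ?_⟩
  have e3 := mulr_pt i (z ≫ fst G H) (z ≫ snd G H)
  rw [← lift_eta z, e2, e1] at e3
  exact e3

theorem quot_cov (hq : RedSub.IsQuotient i q) : IsCov q.left := by
  obtain ⟨hs, hf, hp, -⟩ := hq
  haveI := hs
  haveI := hf
  haveI := hp
  exact isCov_of_fppf q.left

end quot

section third

variable {H K G QH Kb : Over S} [GrpObj H] [GrpObj K] [GrpObj G] [GrpObj Kb]
  (h : H ⟶ K) (k : K ⟶ G) [Mono k] [IsMonHom k]
  (qH : G ⟶ QH) (hqH : RedSub.IsQuotient (h ≫ k) qH)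
  (qKb : K ⟶ Kb) (hqKb : RedSub.IsQuotient h qKb)
  (act : QH ⊗ Kb ⟶ QH) (hact : (qH ⊗ₘ qKb) ≫ act = (G ◁ k) ≫ μ[G] ≫ qH)

include hact in
theorem act_pt {T : Over S} (g : T ⟶ G) (κ : T ⟶ K) :
    lift (g ≫ qH) (κ ≫ qKb) ≫ act = (g * (κ ≫ k)) ≫ qH := by
  calc lift (g ≫ qH) (κ ≫ qKb) ≫ act = lift g κ ≫ (qH ⊗ₘ qKb) ≫ act := by rw [lift_map_assoc]
    _ = lift g κ ≫ (G ◁ k) ≫ μ[G] ≫ qH := by rw [hact]
    _ = (lift g κ ≫ (G ◁ k) ≫ μ[G]) ≫ qH := by simp only [Category.assoc]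
    _ = (g * (κ ≫ k)) ≫ qH := by rw [mulr_pt]

include hqH hqKb hact in
theorem free_act {T : Over S} (x : T ⟶ QH) (d₁ d₂ : T ⟶ Kb)
    (hd : lift x d₁ ≫ act = lift x d₂ ≫ act) : d₁ = d₂ := by
  have cH := quot_cov (h ≫ k) qH hqH
  have cK := quot_cov h qKb hqKb
  obtain ⟨-, -, -, sqH⟩ := hqH
  obtain ⟨T₁, c₁, g, hc₁, e₁⟩ := exists_lift_cov qH cH x
  obtain ⟨T₂, c₂, κ₁, hc₂, e₂⟩ := exists_lift_cov qKb cK (c₁ ≫ d₁)
  obtain ⟨T₃, c₃, κ₂, hc₃, e₃⟩ := exists_lift_cov qKb cK (c₂ ≫ c₁ ≫ d₂)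
  haveI : Epi c₁ := epi_of_isCov _ hc₁
  haveI : Epi c₂ := epi_of_isCov _ hc₂
  haveI : Epi c₃ := epi_of_isCov _ hc₃
  obtain ⟨C, hC⟩ : ∃ C : T₃ ⟶ T, C = c₃ ≫ c₂ ≫ c₁ := ⟨_, rfl⟩
  haveI : Epi C := by rw [hC]; infer_instance
  have E1 : C ≫ x = (c₃ ≫ c₂ ≫ g) ≫ qH := by
    rw [hC]; simp only [Category.assoc]; rw [e₁]
  have E2 : C ≫ d₁ = (c₃ ≫ κ₁) ≫ qKb := by
    rw [hC]; simp only [Category.assoc]; rw [e₂]
  have E3 : C ≫ d₂ = κ₂ ≫ qKb := by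
    rw [hC]; simp only [Category.assoc]; exact e₃
  have hd' : lift (C ≫ x) (C ≫ d₁) ≫ act = lift (C ≫ x) (C ≫ d₂) ≫ act := by
    rw [← comp_lift_assoc, ← comp_lift_assoc, hd]
  rw [E1, E2, E3, act_pt k qH qKb act hact, act_pt k qH qKb act hact] at hd'
  obtain ⟨n, hn⟩ := quot_diff (h ≫ k) qH sqH _ _ hd'
  rw [_root_.mul_assoc] at hn
  have h5 : κ₂ ≫ k = (c₃ ≫ κ₁) ≫ k * n ≫ h ≫ k := _root_.mul_left_cancel hn
  have h6 : κ₂ = (c₃ ≫ κ₁) * (n ≫ h) := by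
    rw [← cancel_mono k, MonObj.mul_comp, Category.assoc n h k]
    exact h5
  rw [← cancel_epi C, E2, E3, h6]
  exact (quot_eq h qKb hqKb _ _).symm

include hqH hqKb hact in
theorem cart_i {QK : Over S} (qK : G ⟶ QK) (hqK : RedSub.IsQuotient k qK) (qbar : QH ⟶ QK)
    (hbar : qH ≫ qbar = qK) : IsPullback (fst QH Kb) act qbar qbar := by
  obtain ⟨-, -, -, sqK⟩ := hqK
  have cH := quot_cov (h ≫ k) qH hqH
  have cK := quot_cov h qKb hqKb
  apply isPullback_of_exists_unique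
  · haveI : Epi (qH ⊗ₘ qKb) := epi_of_isCov _ (isCov_tensorHom qH qKb cH cK)
    rw [← cancel_epi (qH ⊗ₘ qKb)]
    calc (qH ⊗ₘ qKb) ≫ fst QH Kb ≫ qbar = fst G K ≫ qH ≫ qbar := by rw [tensorHom_fst_assoc]
      _ = fst G K ≫ qK := by rw [hbar]
      _ = ((G ◁ k) ≫ μ[G]) ≫ qK := sqK.w
      _ = ((G ◁ k) ≫ μ[G] ≫ qH) ≫ qbar := by rw [← hbar]; simp only [Category.assoc]
      _ = (qH ⊗ₘ qKb) ≫ act ≫ qbar := by rw [← hact, Category.assoc]
  · intro T a b hab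
    obtain ⟨T₁, c₁, ga, hc₁, e₁⟩ := exists_lift_cov qH cH a
    obtain ⟨T₂, c₂, gb, hc₂, e₂⟩ := exists_lift_cov qH cH (c₁ ≫ b)
    obtain ⟨C, hC⟩ : ∃ C : T₂ ⟶ T, C = c₂ ≫ c₁ := ⟨_, rfl⟩
    have hCcov : IsCov C.left := by
      rw [hC]
      exact IsCov.comp hc₂ hc₁
    haveI : Epi C := epi_of_isCov _ hCcov
    have Ea : C ≫ a = (c₂ ≫ ga) ≫ qH := by
      rw [hC]; simp only [Category.assoc]; rw [e₁]
    have Eb : C ≫ b = gb ≫ qH := by
      rw [hC]; simp only [Category.assoc]; exact e₂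
    have hK : (c₂ ≫ ga) ≫ qK = gb ≫ qK := by
      calc (c₂ ≫ ga) ≫ qK = ((c₂ ≫ ga) ≫ qH) ≫ qbar := by rw [← hbar]; simp only [Category.assoc]
        _ = C ≫ a ≫ qbar := by rw [← Ea, Category.assoc]
        _ = C ≫ b ≫ qbar := by rw [hab]
        _ = (gb ≫ qH) ≫ qbar := by rw [← Eb, Category.assoc]
        _ = gb ≫ qK := by rw [← hbar]; simp only [Category.assoc]
    obtain ⟨κ, hκ⟩ := quot_diff k qK sqK _ _ hK
    have hloc : lift (C ≫ a) (κ ≫ qKb) ≫ act = C ≫ b := by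
      rw [Ea, act_pt k qH qKb act hact, ← hκ, Eb]
    obtain ⟨cT, hcT⟩ := desc_of_isCov C hCcov (κ ≫ qKb) (by
      intro T' a₁ a₂ ha
      apply free_act h k qH hqH qKb hqKb act hact (a₁ ≫ C ≫ a)
      calc lift (a₁ ≫ C ≫ a) (a₁ ≫ κ ≫ qKb) ≫ act
          = a₁ ≫ lift (C ≫ a) (κ ≫ qKb) ≫ act := by rw [comp_lift_assoc]
        _ = a₁ ≫ C ≫ b := by rw [hloc]
        _ = a₂ ≫ C ≫ b := by rw [← Category.assoc, ha, Category.assoc]
        _ = a₂ ≫ lift (C ≫ a) (κ ≫ qKb) ≫ act := by rw [hloc]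
        _ = lift (a₂ ≫ C ≫ a) (a₂ ≫ κ ≫ qKb) ≫ act := by rw [comp_lift_assoc]
        _ = lift (a₁ ≫ C ≫ a) (a₂ ≫ κ ≫ qKb) ≫ act := by
            rw [← Category.assoc a₂ C a, ← ha, Category.assoc])
    refine ⟨lift a cT, lift_fst _ _, ?_⟩
    rw [← cancel_epi C, comp_lift_assoc, hcT, hloc]
  · intro T l l' h1 h2
    have e : ∀ z : T ⟶ QH ⊗ Kb, lift (z ≫ fst QH Kb) (z ≫ snd QH Kb) ≫ act = z ≫ act :=
      fun z => by rw [← lift_eta z]
    have hs : l ≫ snd QH Kb = l' ≫ snd QH Kb := by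
      apply free_act h k qH hqH qKb hqKb act hact (l ≫ fst QH Kb)
      rw [e l, h1, e l']
      exact h2
    exact CartesianMonoidalCategory.hom_ext _ _ h1 hs

include hqH hqKb hact in
theorem part_i {QK : Over S} (qK : G ⟶ QK) (hqK : RedSub.IsQuotient k qK) (qbar : QH ⟶ QK)
    (hbar : qH ≫ qbar = qK) :
    Surjective qbar.left ∧ Flat qbar.left ∧ LocallyOfFinitePresentation qbar.left ∧
      IsPullback (fst QH Kb) act qbar qbar := by
  have hc := cart_i h k qH hqH qKb hqKb act hact qK hqK qbar hbar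
  obtain ⟨hsK, hfK, hpK, -⟩ := hqK
  obtain ⟨hsH, hfH, hpH, -⟩ := hqH
  haveI := hsH
  haveI := hfH
  haveI := hpH
  have hl : qH.left ≫ qbar.left = qK.left := congrArg (fun z => z.left) hbar
  haveI : Surjective (qH.left ≫ qbar.left) := by rw [hl]; exact hsK
  haveI : Flat (qH.left ≫ qbar.left) := by rw [hl]; exact hfK
  haveI : LocallyOfFinitePresentation (qH.left ≫ qbar.left) := by rw [hl]; exact hpK
  exact ⟨Surjective.of_comp qH.left qbar.left, Groth.Agent.S1128.result qH.left qbar.left,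
    Groth.Agent.S0114.result qH.left qbar.left, hc⟩

include hqH hqKb hact in
theorem part_ii {Y : Over S} (p : QH ⟶ Y) (hs : Surjective p.left) (hf : Flat p.left)
    (hp : LocallyOfFinitePresentation p.left) (sq : IsPullback (fst QH Kb) act p p) :
    RedSub.IsQuotient k (qH ≫ p) := by
  have cK := quot_cov h qKb hqKb
  obtain ⟨hsH, hfH, hpH, sqH⟩ := hqH
  haveI := hs
  haveI := hf
  haveI := hp
  haveI := hsH
  haveI := hfH
  haveI := hpH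
  refine ⟨?_, ?_, ?_, ?_⟩
  · show Surjective (qH.left ≫ p.left)
    infer_instance
  · show Flat (qH.left ≫ p.left)
    infer_instance
  · show LocallyOfFinitePresentation (qH.left ≫ p.left)
    infer_instance
  · apply isPullback_of_exists_unique
    · calc fst G K ≫ qH ≫ p = (qH ⊗ₘ qKb) ≫ fst QH Kb ≫ p := by rw [tensorHom_fst_assoc]
        _ = (qH ⊗ₘ qKb) ≫ act ≫ p := by rw [sq.w]
        _ = ((G ◁ k) ≫ μ[G] ≫ qH) ≫ p := by rw [← hact, Category.assoc]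
        _ = ((G ◁ k) ≫ μ[G]) ≫ qH ≫ p := by simp only [Category.assoc]
    · intro T a b hab
      have hab' : (a ≫ qH) ≫ p = (b ≫ qH) ≫ p := by simpa only [Category.assoc] using hab
      obtain ⟨z, hz1, hz2⟩ : ∃ z : T ⟶ QH ⊗ Kb, z ≫ fst QH Kb = a ≫ qH ∧ z ≫ act = b ≫ qH :=
        ⟨sq.lift _ _ hab', sq.lift_fst _ _ _, sq.lift_snd _ _ _⟩
      have hd : lift (a ≫ qH) (z ≫ snd QH Kb) ≫ act = b ≫ qH := by
        rw [← hz1, ← lift_eta z]
        exact hz2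
      obtain ⟨T₁, c, κ₁, hc, e⟩ := exists_lift_cov qKb cK (z ≫ snd QH Kb)
      have h1 : ((c ≫ a) * (κ₁ ≫ k)) ≫ qH = (c ≫ b) ≫ qH := by
        calc ((c ≫ a) * (κ₁ ≫ k)) ≫ qH = lift ((c ≫ a) ≫ qH) (κ₁ ≫ qKb) ≫ act :=
              (act_pt k qH qKb act hact _ _).symm
          _ = lift (c ≫ a ≫ qH) (c ≫ z ≫ snd QH Kb) ≫ act := by rw [e, Category.assoc]
          _ = c ≫ lift (a ≫ qH) (z ≫ snd QH Kb) ≫ act := by rw [comp_lift_assoc]
          _ = (c ≫ b) ≫ qH := by rw [hd, Category.assoc]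
      obtain ⟨n, hn⟩ := quot_diff (h ≫ k) qH sqH _ _ h1
      have h2 : (κ₁ * (n ≫ h)) ≫ k = c ≫ (a⁻¹ * b) := by
        rw [MonObj.mul_comp, Category.assoc, MonObj.comp_mul, GrpObj.comp_inv, hn,
          _root_.mul_assoc, _root_.inv_mul_cancel_left]
      obtain ⟨κ, hκ⟩ := factors_of_local k c hc (a⁻¹ * b) (κ₁ * (n ≫ h)) h2
      refine ⟨lift a κ, lift_fst _ _, ?_⟩
      rw [mulr_pt, hκ, _root_.mul_inv_cancel_left]
    · intro T l l' h1 h2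
      have e1 := mulr_pt k (l ≫ fst G K) (l ≫ snd G K)
      rw [← lift_eta l] at e1
      have e2 := mulr_pt k (l' ≫ fst G K) (l' ≫ snd G K)
      rw [← lift_eta l'] at e2
      rw [e1, e2, h1] at h2
      have h3 : (l ≫ snd G K) ≫ k = (l' ≫ snd G K) ≫ k := _root_.mul_left_cancel h2
      exact CartesianMonoidalCategory.hom_ext _ _ h1 ((cancel_mono k).1 h3)

end third

end Groth.Agent.Lib.ThirdIso
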