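import Groth.Statements.S6119
import Groth.Agent.Lib.ThirdIso_lead

/-! # `G/H ≅ (G/D)/(H/D)` for the preimage `H` of a subgroup of `G/D` (lead) -/

set_option backward.isDefEq.respectTransparency false
set_option backward.isDefEq.respectTransparency.types false
set_option linter.unusedSimpArgs false
set_option linter.unusedVariables false
set_option linter.unusedSectionVars false
set_option linter.style.longLine false
set_option linter.style.haveILetI false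
set_option maxHeartbeats 800000

universe u

open CategoryTheory CategoryTheory.Limits MonoidalCategory CartesianMonoidalCategory MonObj GrpObj
  AlgebraicGeometry Opposite Topology

namespace Groth.Agent.Lib.ThirdIso2

open Groth.Agent.Lib.AssocBundle Groth.Agent.Lib.GeomQuotSep Groth.Agent.Lib.BundleStages
  Groth.Agent.Lib.TorsorSeq SchFpqcCovH7 Groth.Agent.Lib.NeronTorsorGen Groth.Agent.Lib.BalProdFix
  Groth.Agent.Lib.ThirdIso

variable {S : Scheme.{u}}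

variable {G D C T'' H Q : Over S} [GrpObj G] [GrpObj C] [GrpObj T''] [GrpObj H]
  (d : D ⟶ G) (f₀ : G ⟶ C) [IsMonHom f₀] (hquot : RedSub.IsQuotient d f₀)
  (t : T'' ⟶ C) [IsMonHom t] [Mono t] (k : H ⟶ G) (g : H ⟶ T'')
  (hsq : IsPullback k g f₀ t) (q : G ⟶ Q) (hq : RedSub.IsQuotient k q)

include hquot hsq hq in
theorem desc_q : ∃ q' : C ⟶ Q, f₀ ≫ q' = q := by
  have c₀ := quot_cov d f₀ hquot
  have hquot' := hquot
  obtain ⟨-, -, -, sq₀⟩ := hquot'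
  apply desc_of_isCov f₀ c₀ q
  intro T a₁ a₂ ha
  obtain ⟨n, hn⟩ := quot_diff d f₀ sq₀ a₁ a₂ ha
  have h1 : (n ≫ d) ≫ f₀ = 1 := by
    have := quot_eq d f₀ hquot (1 : T ⟶ G) n
    rwa [_root_.one_mul, MonObj.one_comp] at this
  have h2 : (n ≫ d) ≫ f₀ = (1 : T ⟶ T'') ≫ t := by rw [h1, MonObj.one_comp]
  obtain ⟨e, he⟩ : ∃ e : T ⟶ H, e ≫ k = n ≫ d := ⟨hsq.lift _ _ h2, hsq.lift_fst _ _ _⟩
  rw [hn, ← he]
  exact (quot_eq k q hq a₁ e).symm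

include hsq in
theorem mul_compat {T : Over S} (x : T ⟶ G) (y : T ⟶ H) :
    (x * (y ≫ k)) ≫ f₀ = (x ≫ f₀) * ((y ≫ g) ≫ t) := by
  rw [MonObj.mul_comp, Category.assoc, Category.assoc, hsq.w]

include hsq in
theorem w_compat : (f₀ ⊗ₘ g) ≫ (C ◁ t) ≫ μ[C] = ((G ◁ k) ≫ μ[G]) ≫ f₀ := by
  have e1 : ∀ {T : Over S} (x : T ⟶ G) (y : T ⟶ H),
      lift x y ≫ (f₀ ⊗ₘ g) ≫ (C ◁ t) ≫ μ[C] = lift x y ≫ ((G ◁ k) ≫ μ[G]) ≫ f₀ := by
    intro T x y
    calc lift x y ≫ (f₀ ⊗ₘ g) ≫ (C ◁ t) ≫ μ[C]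
        = lift (x ≫ f₀) (y ≫ g) ≫ (C ◁ t) ≫ μ[C] := by rw [lift_map_assoc]
      _ = (x ≫ f₀) * ((y ≫ g) ≫ t) := mulr_pt t _ _
      _ = (x * (y ≫ k)) ≫ f₀ := (mul_compat f₀ t k g hsq x y).symm
      _ = (lift x y ≫ (G ◁ k) ≫ μ[G]) ≫ f₀ := by rw [mulr_pt]
      _ = lift x y ≫ ((G ◁ k) ≫ μ[G]) ≫ f₀ := by simp only [Category.assoc]
  have := e1 (fst G H) (snd G H)
  rwa [lift_fst_snd, Category.id_comp, Category.id_comp] at this

include hquot hsq hq in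
theorem quot_t (q' : C ⟶ Q) (hq' : f₀ ≫ q' = q) : RedSub.IsQuotient t q' := by
  have c₀ := quot_cov d f₀ hquot
  have cg : IsCov g.left :=
    IsCov.of_isPullback
      (show IsPullback k.left g.left f₀.left t.left from hsq.map (Over.forget S)) c₀
  have hquot' := hquot
  have hq2 := hq
  obtain ⟨hs₀, hf₀, hp₀, sq₀⟩ := hquot'
  obtain ⟨hsq', hfq, hpq, sqq⟩ := hq2
  haveI := hs₀
  haveI := hf₀
  haveI := hp₀
  have hl : f₀.left ≫ q'.left = q.left := congrArg (fun z => z.left) hq'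
  haveI : Surjective (f₀.left ≫ q'.left) := by rw [hl]; exact hsq'
  haveI : Flat (f₀.left ≫ q'.left) := by rw [hl]; exact hfq
  haveI : LocallyOfFinitePresentation (f₀.left ≫ q'.left) := by rw [hl]; exact hpq
  refine ⟨Surjective.of_comp f₀.left q'.left, Groth.Agent.S1128.result f₀.left q'.left,
    Groth.Agent.S0114.result f₀.left q'.left, ?_⟩
  apply isPullback_of_exists_unique
  · haveI : Epi (f₀ ⊗ₘ g) := epi_of_isCov _ (isCov_tensorHom f₀ g c₀ cg)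
    rw [← cancel_epi (f₀ ⊗ₘ g)]
    calc (f₀ ⊗ₘ g) ≫ fst C T'' ≫ q' = fst G H ≫ f₀ ≫ q' := by rw [tensorHom_fst_assoc]
      _ = fst G H ≫ q := by rw [hq']
      _ = ((G ◁ k) ≫ μ[G]) ≫ q := sqq.w
      _ = (((G ◁ k) ≫ μ[G]) ≫ f₀) ≫ q' := by rw [← hq']; simp only [Category.assoc]
      _ = ((f₀ ⊗ₘ g) ≫ (C ◁ t) ≫ μ[C]) ≫ q' := by rw [w_compat f₀ t k g hsq]
      _ = (f₀ ⊗ₘ g) ≫ ((C ◁ t) ≫ μ[C]) ≫ q' := by simp only [Category.assoc]
  · intro T a b hab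
    obtain ⟨T₁, c₁, ga, hc₁, e₁⟩ := exists_lift_cov f₀ c₀ a
    obtain ⟨T₂, c₂, gb, hc₂, e₂⟩ := exists_lift_cov f₀ c₀ (c₁ ≫ b)
    obtain ⟨Cc, hC⟩ : ∃ Cc : T₂ ⟶ T, Cc = c₂ ≫ c₁ := ⟨_, rfl⟩
    have hCcov : IsCov Cc.left := by
      rw [hC]
      exact IsCov.comp hc₂ hc₁
    have Ea : Cc ≫ a = (c₂ ≫ ga) ≫ f₀ := by
      rw [hC]; simp only [Category.assoc]; rw [e₁]
    have Eb : Cc ≫ b = gb ≫ f₀ := by
      rw [hC]; simp only [Category.assoc]; exact e₂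
    have hK : (c₂ ≫ ga) ≫ q = gb ≫ q := by
      calc (c₂ ≫ ga) ≫ q = ((c₂ ≫ ga) ≫ f₀) ≫ q' := by rw [← hq']; simp only [Category.assoc]
        _ = Cc ≫ a ≫ q' := by rw [← Ea, Category.assoc]
        _ = Cc ≫ b ≫ q' := by rw [hab]
        _ = (gb ≫ f₀) ≫ q' := by rw [← Eb, Category.assoc]
        _ = gb ≫ q := by rw [← hq']; simp only [Category.assoc]
    obtain ⟨y, hy⟩ := quot_diff k q sqq _ _ hK
    have h2 : (y ≫ g) ≫ t = Cc ≫ (a⁻¹ * b) := by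
      rw [MonObj.comp_mul, GrpObj.comp_inv, Ea, Eb, hy, mul_compat f₀ t k g hsq,
        _root_.inv_mul_cancel_left]
    obtain ⟨τ, hτ⟩ := factors_of_local t Cc hCcov (a⁻¹ * b) (y ≫ g) h2
    refine ⟨lift a τ, lift_fst _ _, ?_⟩
    rw [mulr_pt, hτ, _root_.mul_inv_cancel_left]
  · intro T l l' h1 h2
    have e1 := mulr_pt t (l ≫ fst C T'') (l ≫ snd C T'')
    rw [← lift_eta l] at e1
    have e2 := mulr_pt t (l' ≫ fst C T'') (l' ≫ snd C T'')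
    rw [← lift_eta l'] at e2
    rw [e1, e2, h1] at h2
    have h3 : (l ≫ snd C T'') ≫ t = (l' ≫ snd C T'') ≫ t := _root_.mul_left_cancel h2
    exact CartesianMonoidalCategory.hom_ext _ _ h1 ((cancel_mono t).1 h3)

include hquot hsq hq in
theorem main : ∃! q' : C ⟶ Q, f₀ ≫ q' = q ∧ RedSub.IsQuotient t q' := by
  obtain ⟨q', hq'⟩ := desc_q d f₀ hquot t k g hsq q hq
  refine ⟨q', ⟨hq', quot_t d f₀ hquot t k g hsq q hq q' hq'⟩, ?_⟩
  rintro q'' ⟨h1, -⟩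
  haveI : Epi f₀ := epi_of_isCov _ (quot_cov d f₀ hquot)
  rw [← cancel_epi f₀, h1, hq']

end Groth.Agent.Lib.ThirdIso2
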