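import Mathlib
import Groth.Prelude.Def_W4c1stackycurvesGalP1

set_option autoImplicit false
set_option maxHeartbeats 1000000

/-!
Strong 3-transitivity of `GL₂` on the projective line, with Galois descent:
a Galois-equivariant bijection between Galois-stable sets of at most three `K`-points of `ℙ¹`
is induced by an element of `GL₂(k)`.
-/

namespace Groth.Agent.Lib.ThreeTransH1

open W4c1stackycurves

universe u

section vec

variable {K : Type u} [Field K]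

/-- The `2 × 2` determinant of two vectors. -/
def cr (v w : Fin 2 → K) : K := v 0 * w 1 - v 1 * w 0

theorem cr_self (v : Fin 2 → K) : cr v v = 0 := by unfold cr; ring

theorem cr_swap (v w : Fin 2 → K) : cr w v = - cr v w := by unfold cr; ring

theorem cr_smul_left (c : K) (v w : Fin 2 → K) : cr (c • v) w = c * cr v w := by
  unfold cr; simp only [Pi.smul_apply, smul_eq_mul]; ring

theorem cr_smul_right (c : K) (v w : Fin 2 → K) : cr v (c • w) = c * cr v w := by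
  unfold cr; simp only [Pi.smul_apply, smul_eq_mul]; ring

theorem ext2 {v w : Fin 2 → K} (h0 : v 0 = w 0) (h1 : v 1 = w 1) : v = w := by
  ext i; fin_cases i
  · exact h0
  · exact h1

theorem exists_coord_ne_zero {v : Fin 2 → K} (hv : v ≠ 0) : v 0 ≠ 0 ∨ v 1 ≠ 0 := by
  by_contra h
  rcases not_or.mp h with ⟨h0, h1⟩
  exact hv (ext2 (not_not.mp h0) (not_not.mp h1))

theorem exists_smul_of_cr_eq_zero {v w : Fin 2 → K} (hv : v ≠ 0) (h : cr v w = 0) :
    ∃ c : K, w = c • v := by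
  unfold cr at h
  rcases exists_coord_ne_zero hv with h0 | h1
  · refine ⟨w 0 / v 0, ext2 ?_ ?_⟩
    · simp only [Pi.smul_apply, smul_eq_mul]
      rw [div_mul_eq_mul_div, eq_div_iff h0]
    · simp only [Pi.smul_apply, smul_eq_mul]
      rw [div_mul_eq_mul_div, eq_div_iff h0]
      linear_combination h
  · refine ⟨w 1 / v 1, ext2 ?_ ?_⟩
    · simp only [Pi.smul_apply, smul_eq_mul]
      rw [div_mul_eq_mul_div, eq_div_iff h1]
      linear_combination (-1 : K) * h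
    · simp only [Pi.smul_apply, smul_eq_mul]
      rw [div_mul_eq_mul_div, eq_div_iff h1]

theorem mk_congr {v w : Fin 2 → K} (h : v = w) (hv : v ≠ 0) (hw : w ≠ 0) :
    Projectivization.mk K v hv = Projectivization.mk K w hw := by
  subst h; rfl

theorem mk_eq_mk_iff_cr (v w : Fin 2 → K) (hv : v ≠ 0) (hw : w ≠ 0) :
    Projectivization.mk K v hv = Projectivization.mk K w hw ↔ cr v w = 0 := by
  rw [Projectivization.mk_eq_mk_iff']
  constructor
  · rintro ⟨a, ha⟩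
    rw [← ha, cr_smul_left, cr_self, mul_zero]
  · intro h
    have h' : cr w v = 0 := by rw [cr_swap, h, neg_zero]
    obtain ⟨c, hc⟩ := exists_smul_of_cr_eq_zero hw h'
    exact ⟨c, hc.symm⟩

theorem cr_mulVec (M : Matrix (Fin 2) (Fin 2) K) (v w : Fin 2 → K) :
    cr (M.mulVec v) (M.mulVec w) = M.det * cr v w := by
  simp only [cr, Matrix.mulVec, dotProduct, Fin.sum_univ_two, Matrix.det_fin_two]
  ring

theorem mulVec_ne_zero {M : Matrix (Fin 2) (Fin 2) K} (hM : M.det ≠ 0) {v : Fin 2 → K}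
    (hv : v ≠ 0) : M.mulVec v ≠ 0 := by
  intro h
  have key : ∀ w : Fin 2 → K, cr v w = 0 := by
    intro w
    have h1 := cr_mulVec M v w
    rw [h] at h1
    have h0 : cr (0 : Fin 2 → K) (M.mulVec w) = 0 := by simp [cr]
    rw [h0] at h1
    rcases mul_eq_zero.mp h1.symm with h2 | h2
    · exact absurd h2 hM
    · exact h2
  apply hv
  apply ext2
  · have := key ![0, 1]; simpa [cr] using this
  · have := key ![1, 0]; simpa [cr] using this

theorem plucker (u₁ u₂ u₃ : Fin 2 → K) :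
    cr u₁ u₂ • u₃ = cr u₃ u₂ • u₁ + cr u₁ u₃ • u₂ := by
  apply ext2 <;> simp only [cr, Pi.add_apply, Pi.smul_apply, smul_eq_mul] <;> ring

theorem eq_zero_of_mulVec_eq_zero {M : Matrix (Fin 2) (Fin 2) K} {u₁ u₂ : Fin 2 → K}
    (h : cr u₁ u₂ ≠ 0) (h1 : M.mulVec u₁ = 0) (h2 : M.mulVec u₂ = 0) : M = 0 := by
  have e1 : ∀ i, M i 0 * u₁ 0 + M i 1 * u₁ 1 = 0 := by
    intro i
    have := congrFun h1 i
    simpa only [Matrix.mulVec, dotProduct, Fin.sum_univ_two, Pi.zero_apply] using this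
  have e2 : ∀ i, M i 0 * u₂ 0 + M i 1 * u₂ 1 = 0 := by
    intro i
    have := congrFun h2 i
    simpa only [Matrix.mulVec, dotProduct, Fin.sum_univ_two, Pi.zero_apply] using this
  have c0 : ∀ i, M i 0 = 0 := by
    intro i
    have : M i 0 * cr u₁ u₂ = 0 := by
      unfold cr; linear_combination u₂ 1 * e1 i - u₁ 1 * e2 i
    exact (mul_eq_zero.mp this).resolve_right h
  have c1 : ∀ i, M i 1 = 0 := by
    intro i
    have : M i 1 * cr u₁ u₂ = 0 := by
      unfold cr; linear_combination u₁ 0 * e2 i - u₂ 0 * e1 i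
    exact (mul_eq_zero.mp this).resolve_right h
  apply Matrix.ext; intro i j
  fin_cases j
  · exact c0 i
  · exact c1 i

theorem lin_indep {a b : Fin 2 → K} (h : cr a b ≠ 0) {p q : K} (e : p • a + q • b = 0) :
    p = 0 ∧ q = 0 := by
  have h0 : p * a 0 + q * b 0 = 0 := by
    have := congrFun e 0
    simpa only [Pi.add_apply, Pi.smul_apply, smul_eq_mul, Pi.zero_apply] using this
  have h1 : p * a 1 + q * b 1 = 0 := by
    have := congrFun e 1
    simpa only [Pi.add_apply, Pi.smul_apply, smul_eq_mul, Pi.zero_apply] using this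
  constructor
  · have : p * cr a b = 0 := by unfold cr; linear_combination b 1 * h0 - b 0 * h1
    exact (mul_eq_zero.mp this).resolve_right h
  · have : q * cr a b = 0 := by unfold cr; linear_combination a 0 * h1 - a 1 * h0
    exact (mul_eq_zero.mp this).resolve_right h

/-- Rigidity: a matrix agreeing projectively with an invertible one on three pairwise independent
vectors is a scalar multiple of it. -/
theorem rigid {g g' : Matrix (Fin 2) (Fin 2) K} (hg : g.det ≠ 0) {u₁ u₂ u₃ : Fin 2 → K}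
    (h12 : cr u₁ u₂ ≠ 0) (h13 : cr u₁ u₃ ≠ 0) (h23 : cr u₂ u₃ ≠ 0) {c₁ c₂ c₃ : K}
    (e1 : g'.mulVec u₁ = c₁ • g.mulVec u₁) (e2 : g'.mulVec u₂ = c₂ • g.mulVec u₂)
    (e3 : g'.mulVec u₃ = c₃ • g.mulVec u₃) : g' = c₃ • g := by
  have P := plucker u₁ u₂ u₃
  have A : cr u₁ u₂ • c₃ • g.mulVec u₃
      = cr u₃ u₂ • c₁ • g.mulVec u₁ + cr u₁ u₃ • c₂ • g.mulVec u₂ := by
    have := congrArg (fun v => g'.mulVec v) P
    simp only [Matrix.mulVec_add, Matrix.mulVec_smul, e1, e2, e3] at this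
    exact this
  have B : cr u₁ u₂ • g.mulVec u₃ = cr u₃ u₂ • g.mulVec u₁ + cr u₁ u₃ • g.mulVec u₂ := by
    have := congrArg (fun v => g.mulVec v) P
    simp only [Matrix.mulVec_add, Matrix.mulVec_smul] at this
    exact this
  have hab : cr (g.mulVec u₁) (g.mulVec u₂) ≠ 0 := by
    rw [cr_mulVec]; exact mul_ne_zero hg h12
  have E : (cr u₃ u₂ * (c₁ - c₃)) • g.mulVec u₁ + (cr u₁ u₃ * (c₂ - c₃)) • g.mulVec u₂ = 0 := by
    have e : (cr u₃ u₂ * (c₁ - c₃)) • g.mulVec u₁ + (cr u₁ u₃ * (c₂ - c₃)) • g.mulVec u₂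
        = (cr u₃ u₂ • c₁ • g.mulVec u₁ + cr u₁ u₃ • c₂ • g.mulVec u₂)
          - c₃ • (cr u₃ u₂ • g.mulVec u₁ + cr u₁ u₃ • g.mulVec u₂) := by
      ext i
      simp only [Pi.add_apply, Pi.sub_apply, Pi.smul_apply, smul_eq_mul]
      ring
    rw [e, ← A, ← B]
    ext i
    simp only [Pi.sub_apply, Pi.smul_apply, smul_eq_mul, Pi.zero_apply]
    ring
  obtain ⟨p0, q0⟩ := lin_indep hab E
  have h32 : cr u₃ u₂ ≠ 0 := by rw [cr_swap]; exact neg_ne_zero.mpr h23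
  have hc1 : c₁ = c₃ := by
    rcases mul_eq_zero.mp p0 with h | h
    · exact absurd h h32
    · exact sub_eq_zero.mp h
  have hc2 : c₂ = c₃ := by
    rcases mul_eq_zero.mp q0 with h | h
    · exact absurd h h13
    · exact sub_eq_zero.mp h
  have Z : g' - c₃ • g = 0 := by
    apply eq_zero_of_mulVec_eq_zero h12
    · rw [Matrix.sub_mulVec, Matrix.smul_mulVec, e1, hc1, sub_self]
    · rw [Matrix.sub_mulVec, Matrix.smul_mulVec, e2, hc2, sub_self]
  exact sub_eq_zero.mp Z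

/-- The matrix sending `(1,0), (0,1), (1,1)` to multiples of `u₁, u₂, u₃`. -/
def Nm (u₁ u₂ u₃ : Fin 2 → K) : Matrix (Fin 2) (Fin 2) K :=
  !![cr u₃ u₂ * u₁ 0, cr u₁ u₃ * u₂ 0; cr u₃ u₂ * u₁ 1, cr u₁ u₃ * u₂ 1]

/-- The adjugate of `Nm`. -/
def Na (u₁ u₂ u₃ : Fin 2 → K) : Matrix (Fin 2) (Fin 2) K :=
  !![cr u₁ u₃ * u₂ 1, -(cr u₁ u₃ * u₂ 0); -(cr u₃ u₂ * u₁ 1), cr u₃ u₂ * u₁ 0]

theorem Nm_00 (u₁ u₂ u₃ : Fin 2 → K) : Nm u₁ u₂ u₃ 0 0 = cr u₃ u₂ * u₁ 0 := rfl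
theorem Nm_01 (u₁ u₂ u₃ : Fin 2 → K) : Nm u₁ u₂ u₃ 0 1 = cr u₁ u₃ * u₂ 0 := rfl
theorem Nm_10 (u₁ u₂ u₃ : Fin 2 → K) : Nm u₁ u₂ u₃ 1 0 = cr u₃ u₂ * u₁ 1 := rfl
theorem Nm_11 (u₁ u₂ u₃ : Fin 2 → K) : Nm u₁ u₂ u₃ 1 1 = cr u₁ u₃ * u₂ 1 := rfl
theorem Na_00 (u₁ u₂ u₃ : Fin 2 → K) : Na u₁ u₂ u₃ 0 0 = cr u₁ u₃ * u₂ 1 := rfl
theorem Na_01 (u₁ u₂ u₃ : Fin 2 → K) : Na u₁ u₂ u₃ 0 1 = -(cr u₁ u₃ * u₂ 0) := rfl
theorem Na_10 (u₁ u₂ u₃ : Fin 2 → K) : Na u₁ u₂ u₃ 1 0 = -(cr u₃ u₂ * u₁ 1) := rfl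
theorem Na_11 (u₁ u₂ u₃ : Fin 2 → K) : Na u₁ u₂ u₃ 1 1 = cr u₃ u₂ * u₁ 0 := rfl

theorem det_Nm (u₁ u₂ u₃ : Fin 2 → K) :
    (Nm u₁ u₂ u₃).det = cr u₃ u₂ * cr u₁ u₃ * cr u₁ u₂ := by
  rw [Matrix.det_fin_two, Nm_00, Nm_01, Nm_10, Nm_11]
  unfold cr; ring

theorem det_Na (u₁ u₂ u₃ : Fin 2 → K) :
    (Na u₁ u₂ u₃).det = cr u₃ u₂ * cr u₁ u₃ * cr u₁ u₂ := by
  rw [Matrix.det_fin_two, Na_00, Na_01, Na_10, Na_11]
  unfold cr; ring

theorem exists_mat {u₁ u₂ u₃ w₁ w₂ w₃ : Fin 2 → K}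
    (h12 : cr u₁ u₂ ≠ 0) (h13 : cr u₁ u₃ ≠ 0) (h23 : cr u₂ u₃ ≠ 0)
    (k12 : cr w₁ w₂ ≠ 0) (k13 : cr w₁ w₃ ≠ 0) (k23 : cr w₂ w₃ ≠ 0) :
    ∃ M : Matrix (Fin 2) (Fin 2) K, M.det ≠ 0 ∧ cr (M.mulVec u₁) w₁ = 0 ∧
      cr (M.mulVec u₂) w₂ = 0 ∧ cr (M.mulVec u₃) w₃ = 0 := by
  have h32 : cr u₃ u₂ ≠ 0 := by rw [cr_swap]; exact neg_ne_zero.mpr h23
  have k32 : cr w₃ w₂ ≠ 0 := by rw [cr_swap]; exact neg_ne_zero.mpr k23
  refine ⟨Nm w₁ w₂ w₃ * Na u₁ u₂ u₃, ?_, ?_, ?_, ?_⟩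
  · rw [Matrix.det_mul, det_Nm, det_Na]
    exact mul_ne_zero (mul_ne_zero (mul_ne_zero k32 k13) k12)
      (mul_ne_zero (mul_ne_zero h32 h13) h12)
  · simp only [cr, Matrix.mulVec, dotProduct, Fin.sum_univ_two, Matrix.mul_apply,
      Nm_00, Nm_01, Nm_10, Nm_11, Na_00, Na_01, Na_10, Na_11]
    ring
  · simp only [cr, Matrix.mulVec, dotProduct, Fin.sum_univ_two, Matrix.mul_apply,
      Nm_00, Nm_01, Nm_10, Nm_11, Na_00, Na_01, Na_10, Na_11]
    ring
  · simp only [cr, Matrix.mulVec, dotProduct, Fin.sum_univ_two, Matrix.mul_apply,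
      Nm_00, Nm_01, Nm_10, Nm_11, Na_00, Na_01, Na_10, Na_11]
    ring

end vec

section galois

variable {k K : Type u} [Field k] [Field K] [Algebra k K]

theorem cr_map (σ : K ≃ₐ[k] K) (v w : Fin 2 → K) :
    cr (fun i => σ (v i)) (fun i => σ (w i)) = σ (cr v w) := by
  simp only [cr, map_sub, map_mul]

theorem map_mulVec (σ : K ≃ₐ[k] K) (M : Matrix (Fin 2) (Fin 2) K) (v : Fin 2 → K) :
    (M.map σ).mulVec (fun i => σ (v i)) = fun i => σ ((M.mulVec v) i) := by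
  ext i
  simp only [Matrix.mulVec, dotProduct, Fin.sum_univ_two, Matrix.map_apply, map_add, map_mul]

theorem det_map (σ : K ≃ₐ[k] K) (M : Matrix (Fin 2) (Fin 2) K) :
    (M.map σ).det = σ M.det := by
  simp only [Matrix.det_fin_two, Matrix.map_apply, map_sub, map_mul]

theorem map_ne_zero' (σ : K ≃ₐ[k] K) {v : Fin 2 → K} (hv : v ≠ 0) :
    (fun i => σ (v i)) ≠ 0 := by
  intro h
  apply hv
  ext i
  have := congrFun h i
  simpa using this

/-- Galois descent for matrices up to scalars. -/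
theorem exists_descent [FiniteDimensional k K] [IsGalois k K]
    (M : Matrix (Fin 2) (Fin 2) K) (hM : M.det ≠ 0)
    (h : ∀ σ : K ≃ₐ[k] K, ∃ c : K, M.map σ = c • M) :
    ∃ (M₀ : Matrix (Fin 2) (Fin 2) k) (c : K), M₀.det ≠ 0 ∧
      M₀.map (algebraMap k K) = c • M := by
  have hne : ∃ i j, M i j ≠ 0 := by
    by_contra hcon
    apply hM
    have h0 : M = 0 := by
      apply Matrix.ext; intro i j
      by_contra hij
      exact hcon ⟨i, j, hij⟩
    rw [h0, Matrix.det_fin_two]; simp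
  obtain ⟨i, j, hij⟩ := hne
  have fixed : ∀ a b (σ : K ≃ₐ[k] K), σ ((M i j)⁻¹ * M a b) = (M i j)⁻¹ * M a b := by
    intro a b σ
    obtain ⟨c, hc⟩ := h σ
    have e1 : σ (M i j) = c * M i j := by
      have := congrFun (congrFun hc i) j
      simpa only [Matrix.map_apply, Matrix.smul_apply, smul_eq_mul] using this
    have e2 : σ (M a b) = c * M a b := by
      have := congrFun (congrFun hc a) b
      simpa only [Matrix.map_apply, Matrix.smul_apply, smul_eq_mul] using this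
    have hc0 : c ≠ 0 := by
      rintro rfl
      rw [zero_mul] at e1
      exact hij (EmbeddingLike.map_eq_zero_iff.mp e1)
    rw [map_mul, map_inv₀, e1, e2, mul_inv, mul_mul_mul_comm, inv_mul_cancel₀ hc0, one_mul]
  have mem : ∀ a b, ∃ m : k, algebraMap k K m = (M i j)⁻¹ * M a b := by
    intro a b
    have h1 : (M i j)⁻¹ * M a b ∈ (⊥ : IntermediateField k K) :=
      (IsGalois.mem_bot_iff_fixed _).mpr (fun σ => fixed a b σ)
    rw [IntermediateField.mem_bot] at h1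
    exact h1
  choose m hm using mem
  have e : (Matrix.of m).map (algebraMap k K) = (M i j)⁻¹ • M := by
    apply Matrix.ext; intro a b
    simp only [Matrix.map_apply, Matrix.of_apply, Matrix.smul_apply, smul_eq_mul]
    exact hm a b
  refine ⟨Matrix.of m, (M i j)⁻¹, ?_, e⟩
  intro h0
  have d2 : ((M i j)⁻¹ • M).det ≠ 0 := by
    rw [Matrix.det_smul]
    exact mul_ne_zero (pow_ne_zero _ (inv_ne_zero hij)) hM
  have d1 : ((Matrix.of m).map (algebraMap k K)).det = algebraMap k K (Matrix.of m).det :=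
    (RingHom.map_det (algebraMap k K) (Matrix.of m)).symm
  rw [e] at d1
  rw [h0, map_zero] at d1
  exact d2 d1

end galois

section points

variable {k K : Type u} [Field k] [Field K] [Algebra k K]

/-- The projective line over `K`. -/
abbrev PP (K : Type u) [Field K] := Projectivization K (Fin 2 → K)

theorem exists_rep (x : PP K) :
    ∃ (v : Fin 2 → K) (hv : v ≠ 0), x = Projectivization.mk K v hv :=
  ⟨x.rep, x.rep_nonzero, (Projectivization.mk_rep x).symm⟩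

/-- The action of `GL₂(K)` on the projective line. -/
noncomputable def act (G : Matrix.GeneralLinearGroup (Fin 2) K) (x : PP K) : PP K :=
  (Matrix.GeneralLinearGroup.toLin G) • x

theorem GL_det_ne_zero (G : Matrix.GeneralLinearGroup (Fin 2) K) :
    (G : Matrix (Fin 2) (Fin 2) K).det ≠ 0 :=
  Matrix.GeneralLinearGroup.det_ne_zero G

theorem act_mk (G : Matrix.GeneralLinearGroup (Fin 2) K) (v : Fin 2 → K) (hv : v ≠ 0) :
    act G (Projectivization.mk K v hv) =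
      Projectivization.mk K ((G : Matrix (Fin 2) (Fin 2) K).mulVec v)
        (mulVec_ne_zero (GL_det_ne_zero G) hv) := by
  unfold act
  rw [Projectivization.smul_mk]
  exact mk_congr rfl _ _

theorem act_eq_of_smul {G G' : Matrix.GeneralLinearGroup (Fin 2) K} {c : K}
    (h : (G' : Matrix (Fin 2) (Fin 2) K) = c • (G : Matrix (Fin 2) (Fin 2) K)) (x : PP K) :
    act G' x = act G x := by
  obtain ⟨v, hv, rfl⟩ := exists_rep x
  rw [act_mk, act_mk, Projectivization.mk_eq_mk_iff']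
  exact ⟨c, by rw [h, Matrix.smul_mulVec]⟩

theorem rigid_pts {G G' : Matrix.GeneralLinearGroup (Fin 2) K} {x₁ x₂ x₃ : PP K}
    (h12 : x₁ ≠ x₂) (h13 : x₁ ≠ x₃) (h23 : x₂ ≠ x₃)
    (e1 : act G' x₁ = act G x₁) (e2 : act G' x₂ = act G x₂) (e3 : act G' x₃ = act G x₃) :
    ∃ c : K, (G' : Matrix (Fin 2) (Fin 2) K) = c • (G : Matrix (Fin 2) (Fin 2) K) := by
  obtain ⟨u₁, hu₁, rfl⟩ := exists_rep x₁
  obtain ⟨u₂, hu₂, rfl⟩ := exists_rep x₂
  obtain ⟨u₃, hu₃, rfl⟩ := exists_rep x₃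
  rw [act_mk, act_mk, Projectivization.mk_eq_mk_iff'] at e1 e2 e3
  obtain ⟨c₁, e1⟩ := e1
  obtain ⟨c₂, e2⟩ := e2
  obtain ⟨c₃, e3⟩ := e3
  have k12 : cr u₁ u₂ ≠ 0 := fun h => h12 ((mk_eq_mk_iff_cr _ _ hu₁ hu₂).mpr h)
  have k13 : cr u₁ u₃ ≠ 0 := fun h => h13 ((mk_eq_mk_iff_cr _ _ hu₁ hu₃).mpr h)
  have k23 : cr u₂ u₃ ≠ 0 := fun h => h23 ((mk_eq_mk_iff_cr _ _ hu₂ hu₃).mpr h)
  exact ⟨c₃, rigid (GL_det_ne_zero G) k12 k13 k23 e1.symm e2.symm e3.symm⟩

theorem galP_mk (σ : K ≃ₐ[k] K) (v : Fin 2 → K) (hv : v ≠ 0) (h : (fun i => σ (v i)) ≠ 0) :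
    galP σ (Projectivization.mk K v hv) = Projectivization.mk K (fun i => σ (v i)) h := rfl

theorem galP_symm (σ : K ≃ₐ[k] K) (x : PP K) : galP σ (galP σ.symm x) = x := by
  obtain ⟨v, hv, rfl⟩ := exists_rep x
  rw [galP_mk σ.symm v hv (map_ne_zero' σ.symm hv),
    galP_mk σ _ _ (map_ne_zero' σ (map_ne_zero' σ.symm hv))]
  exact mk_congr (by ext i; simp) _ _

theorem galP_act (σ : K ≃ₐ[k] K) (G Gσ : Matrix.GeneralLinearGroup (Fin 2) K)
    (h : (Gσ : Matrix (Fin 2) (Fin 2) K) = (G : Matrix (Fin 2) (Fin 2) K).map σ) (x : PP K) :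
    galP σ (act G x) = act Gσ (galP σ x) := by
  obtain ⟨v, hv, rfl⟩ := exists_rep x
  rw [act_mk, galP_mk σ v hv (map_ne_zero' σ hv), act_mk,
    galP_mk σ _ _ (map_ne_zero' σ (mulVec_ne_zero (GL_det_ne_zero G) hv))]
  exact mk_congr (by rw [h]; exact (map_mulVec σ _ v).symm) _ _

theorem v10_ne : (![1, 0] : Fin 2 → K) ≠ 0 := by
  intro h; have := congrFun h 0; simp at this

theorem v01_ne : (![0, 1] : Fin 2 → K) ≠ 0 := by
  intro h; have := congrFun h 1; simp at this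

theorem v11_ne : (![1, 1] : Fin 2 → K) ≠ 0 := by
  intro h; have := congrFun h 0; simp at this

/-- The rational point `[1 : 0]`. -/
def p1 : PP K := Projectivization.mk K ![1, 0] v10_ne
/-- The rational point `[0 : 1]`. -/
def p2 : PP K := Projectivization.mk K ![0, 1] v01_ne
/-- The rational point `[1 : 1]`. -/
def p3 : PP K := Projectivization.mk K ![1, 1] v11_ne

theorem p1_ne_p2 : (p1 : PP K) ≠ p2 := by
  unfold p1 p2
  rw [Ne, mk_eq_mk_iff_cr]
  simp [cr]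

theorem p1_ne_p3 : (p1 : PP K) ≠ p3 := by
  unfold p1 p3
  rw [Ne, mk_eq_mk_iff_cr]
  simp [cr]

theorem p2_ne_p3 : (p2 : PP K) ≠ p3 := by
  unfold p2 p3
  rw [Ne, mk_eq_mk_iff_cr]
  simp [cr]

theorem p1_fix (σ : K ≃ₐ[k] K) : galP σ (p1 : PP K) = p1 := by
  unfold p1
  rw [galP_mk σ _ _ (map_ne_zero' σ v10_ne)]
  exact mk_congr (by ext i; fin_cases i <;> simp) _ _

theorem p2_fix (σ : K ≃ₐ[k] K) : galP σ (p2 : PP K) = p2 := by
  unfold p2
  rw [galP_mk σ _ _ (map_ne_zero' σ v01_ne)]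
  exact mk_congr (by ext i; fin_cases i <;> simp) _ _

theorem p3_fix (σ : K ≃ₐ[k] K) : galP σ (p3 : PP K) = p3 := by
  unfold p3
  rw [galP_mk σ _ _ (map_ne_zero' σ v11_ne)]
  exact mk_congr (by ext i; fin_cases i <;> simp) _ _

theorem exists_fix_notMem (k : Type u) {K : Type u} [Field k] [Field K] [Algebra k K]
    (F : Set (PP K)) (hF : F.Finite) (h2 : F.ncard ≤ 2) :
    ∃ p : PP K, (∀ σ : K ≃ₐ[k] K, galP σ p = p) ∧ p ∉ F := by
  by_contra hcon
  have m : ∀ p : PP K, (∀ σ : K ≃ₐ[k] K, galP σ p = p) → p ∈ F := by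
    intro p hp
    by_contra hpF
    exact hcon ⟨p, hp, hpF⟩
  have m1 := m p1 p1_fix
  have m2 := m p2 p2_fix
  have m3 := m p3 p3_fix
  have hsub : ({p1, p2, p3} : Set (PP K)) ⊆ F := by
    intro x hx
    rcases hx with h | h | h
    · rw [h]; exact m1
    · rw [h]; exact m2
    · rw [h]; exact m3
  have h3 : ({p1, p2, p3} : Set (PP K)).ncard = 3 :=
    Set.ncard_eq_three.mpr ⟨p1, p2, p3, p1_ne_p2, p1_ne_p3, p2_ne_p3, rfl⟩
  have := Set.ncard_le_ncard hsub hF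
  omega

/-- The core case: three points. -/
theorem core [FiniteDimensional k K] [IsGalois k K] {x₁ x₂ x₃ : PP K}
    (h12 : x₁ ≠ x₂) (h13 : x₁ ≠ x₃) (h23 : x₂ ≠ x₃)
    (β : PP K → PP K) (hinj : Set.InjOn β ({x₁, x₂, x₃} : Set (PP K)))
    (hT : ∀ (σ : K ≃ₐ[k] K) (x : PP K), x ∈ ({x₁, x₂, x₃} : Set (PP K)) →
      galP σ x ∈ ({x₁, x₂, x₃} : Set (PP K)))
    (hβ : ∀ (σ : K ≃ₐ[k] K) (x : PP K), x ∈ ({x₁, x₂, x₃} : Set (PP K)) →
      β (galP σ x) = galP σ (β x)) :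
    ∃ g : Matrix.GeneralLinearGroup (Fin 2) k, ∀ x ∈ ({x₁, x₂, x₃} : Set (PP K)),
      act (Matrix.GeneralLinearGroup.map (algebraMap k K) g) x = β x := by
  have m1 : x₁ ∈ ({x₁, x₂, x₃} : Set (PP K)) := by simp
  have m2 : x₂ ∈ ({x₁, x₂, x₃} : Set (PP K)) := by simp
  have m3 : x₃ ∈ ({x₁, x₂, x₃} : Set (PP K)) := by simp
  obtain ⟨u₁, hu₁, e1⟩ := exists_rep x₁
  obtain ⟨u₂, hu₂, e2⟩ := exists_rep x₂
  obtain ⟨u₃, hu₃, e3⟩ := exists_rep x₃
  obtain ⟨w₁, hw₁, f1⟩ := exists_rep (β x₁)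
  obtain ⟨w₂, hw₂, f2⟩ := exists_rep (β x₂)
  obtain ⟨w₃, hw₃, f3⟩ := exists_rep (β x₃)
  have k12 : cr u₁ u₂ ≠ 0 := fun h => h12 (by
    rw [e1, e2]; exact (mk_eq_mk_iff_cr _ _ hu₁ hu₂).mpr h)
  have k13 : cr u₁ u₃ ≠ 0 := fun h => h13 (by
    rw [e1, e3]; exact (mk_eq_mk_iff_cr _ _ hu₁ hu₃).mpr h)
  have k23 : cr u₂ u₃ ≠ 0 := fun h => h23 (by
    rw [e2, e3]; exact (mk_eq_mk_iff_cr _ _ hu₂ hu₃).mpr h)
  have l12 : cr w₁ w₂ ≠ 0 := fun h => h12 (hinj m1 m2 (by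
    rw [f1, f2]; exact (mk_eq_mk_iff_cr _ _ hw₁ hw₂).mpr h))
  have l13 : cr w₁ w₃ ≠ 0 := fun h => h13 (hinj m1 m3 (by
    rw [f1, f3]; exact (mk_eq_mk_iff_cr _ _ hw₁ hw₃).mpr h))
  have l23 : cr w₂ w₃ ≠ 0 := fun h => h23 (hinj m2 m3 (by
    rw [f2, f3]; exact (mk_eq_mk_iff_cr _ _ hw₂ hw₃).mpr h))
  obtain ⟨M, hM, c1, c2, c3⟩ := exists_mat k12 k13 k23 l12 l13 l23
  have a1 : act (Matrix.GeneralLinearGroup.mkOfDetNeZero M hM) x₁ = β x₁ := by
    rw [f1, e1, act_mk]; exact (mk_eq_mk_iff_cr _ _ _ hw₁).mpr c1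
  have a2 : act (Matrix.GeneralLinearGroup.mkOfDetNeZero M hM) x₂ = β x₂ := by
    rw [f2, e2, act_mk]; exact (mk_eq_mk_iff_cr _ _ _ hw₂).mpr c2
  have a3 : act (Matrix.GeneralLinearGroup.mkOfDetNeZero M hM) x₃ = β x₃ := by
    rw [f3, e3, act_mk]; exact (mk_eq_mk_iff_cr _ _ _ hw₃).mpr c3
  have hG : ∀ x ∈ ({x₁, x₂, x₃} : Set (PP K)),
      act (Matrix.GeneralLinearGroup.mkOfDetNeZero M hM) x = β x := by
    intro x hx
    rcases hx with h | h | h
    · rw [h]; exact a1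
    · rw [h]; exact a2
    · rw [h]; exact a3
  have hdesc : ∀ σ : K ≃ₐ[k] K, ∃ c : K, M.map σ = c • M := by
    intro σ
    have dσ : (M.map σ).det ≠ 0 := by
      rw [det_map]
      exact fun h0 => hM (EmbeddingLike.map_eq_zero_iff.mp h0)
    have key : ∀ x ∈ ({x₁, x₂, x₃} : Set (PP K)),
        act (Matrix.GeneralLinearGroup.mkOfDetNeZero (M.map σ) dσ) x
          = act (Matrix.GeneralLinearGroup.mkOfDetNeZero M hM) x := by
      intro x hx
      have hx' := hT σ.symm x hx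
      have e : galP σ (galP σ.symm x) = x := galP_symm σ x
      calc act (Matrix.GeneralLinearGroup.mkOfDetNeZero (M.map σ) dσ) x
          = act (Matrix.GeneralLinearGroup.mkOfDetNeZero (M.map σ) dσ)
              (galP σ (galP σ.symm x)) := by rw [e]
        _ = galP σ (act (Matrix.GeneralLinearGroup.mkOfDetNeZero M hM) (galP σ.symm x)) :=
            (galP_act σ _ _ rfl _).symm
        _ = galP σ (β (galP σ.symm x)) := by rw [hG _ hx']
        _ = β (galP σ (galP σ.symm x)) := (hβ σ _ hx').symm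
        _ = β x := by rw [e]
        _ = act (Matrix.GeneralLinearGroup.mkOfDetNeZero M hM) x := (hG x hx).symm
    obtain ⟨c, hc⟩ := rigid_pts h12 h13 h23 (key x₁ m1) (key x₂ m2) (key x₃ m3)
    exact ⟨c, hc⟩
  obtain ⟨M₀, c, hM₀, hc⟩ := exists_descent M hM hdesc
  refine ⟨Matrix.GeneralLinearGroup.mkOfDetNeZero M₀ hM₀, ?_⟩
  intro x hx
  have hcoe : ((Matrix.GeneralLinearGroup.map (algebraMap k K)
      (Matrix.GeneralLinearGroup.mkOfDetNeZero M₀ hM₀) :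
        Matrix.GeneralLinearGroup (Fin 2) K) : Matrix (Fin 2) (Fin 2) K)
      = c • ((Matrix.GeneralLinearGroup.mkOfDetNeZero M hM :
        Matrix.GeneralLinearGroup (Fin 2) K) : Matrix (Fin 2) (Fin 2) K) := hc
  rw [act_eq_of_smul hcoe x]
  exact hG x hx

theorem main_prop [FiniteDimensional k K] [IsGalois k K] (n : ℕ) :
    ∀ (S : Set (PP K)) (β : PP K → PP K), S.Finite → S.ncard + n = 3 →
      (∀ (σ : K ≃ₐ[k] K) (x : PP K), x ∈ S → galP σ x ∈ S) → Set.InjOn β S →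
      (∀ (σ : K ≃ₐ[k] K) (x : PP K), x ∈ S → β (galP σ x) = galP σ (β x)) →
      ∃ g : Matrix.GeneralLinearGroup (Fin 2) k, ∀ x ∈ S,
        act (Matrix.GeneralLinearGroup.map (algebraMap k K) g) x = β x := by
  induction n with
  | zero =>
    intro S β hfin hn hS hinj hβ
    have h3 : S.ncard = 3 := by omega
    obtain ⟨x₁, x₂, x₃, h12, h13, h23, rfl⟩ := Set.ncard_eq_three.mp h3
    exact core h12 h13 h23 β hinj hS hβ
  | succ n ih =>
    intro S β hfin hn hS hinj hβ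
    classical
    have h2 : S.ncard ≤ 2 := by omega
    have h2' : (β '' S).ncard ≤ 2 := le_trans (Set.ncard_image_le hfin) h2
    obtain ⟨p, hp, hpS⟩ := exists_fix_notMem k S hfin h2
    obtain ⟨q, hq, hqS⟩ := exists_fix_notMem k (β '' S) (hfin.image β) h2'
    have hβ' : ∀ x ∈ S, Function.update β p q x = β x := by
      intro x hx
      have hne : x ≠ p := by rintro rfl; exact hpS hx
      exact Function.update_of_ne hne q β
    have hpq : Function.update β p q p = q := Function.update_self p q β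
    have hcard : (insert p S).ncard + n = 3 := by
      rw [Set.ncard_insert_of_notMem hpS hfin]; omega
    have hS' : ∀ (σ : K ≃ₐ[k] K) (x : PP K), x ∈ insert p S → galP σ x ∈ insert p S := by
      intro σ x hx
      rcases hx with h | h
      · rw [h, hp σ]; exact Set.mem_insert p S
      · exact Set.mem_insert_of_mem p (hS σ x h)
    have hinj' : Set.InjOn (Function.update β p q) (insert p S) := by
      intro x hx y hy hxy
      rcases hx with hx | hx <;> rcases hy with hy | hy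
      · rw [hx, hy]
      · exfalso
        rw [hx, hpq, hβ' y hy] at hxy
        exact hqS ⟨y, hy, hxy.symm⟩
      · exfalso
        rw [hy, hpq, hβ' x hx] at hxy
        exact hqS ⟨x, hx, hxy⟩
      · rw [hβ' x hx, hβ' y hy] at hxy
        exact hinj hx hy hxy
    have hβ'' : ∀ (σ : K ≃ₐ[k] K) (x : PP K), x ∈ insert p S →
        Function.update β p q (galP σ x) = galP σ (Function.update β p q x) := by
      intro σ x hx
      rcases hx with h | h
      · rw [h, hp σ, hpq, hq σ]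
      · rw [hβ' _ (hS σ x h), hβ' x h]; exact hβ σ x h
    obtain ⟨g, hg⟩ := ih (insert p S) (Function.update β p q) (hfin.insert p) hcard hS' hinj' hβ''
    exact ⟨g, fun x hx => by rw [hg x (Set.mem_insert_of_mem p hx), hβ' x hx]⟩

theorem main13783 (k K : Type u) [Field k] [Field K]
    [Algebra k K] [FiniteDimensional k K] [IsGalois k K]
    (S S' : Set (Projectivization K (Fin 2 → K))) (hfin : S.Finite) (h3 : S.ncard ≤ 3)
    (hS : ∀ (σ : K ≃ₐ[k] K) (x : Projectivization K (Fin 2 → K)), x ∈ S →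
      W4c1stackycurves.galP σ x ∈ S)
    (b : S ≃ S')
    (hb : ∀ (σ : K ≃ₐ[k] K) (x : S),
      (b ⟨W4c1stackycurves.galP σ x.1, hS σ x.1 x.2⟩ : Projectivization K (Fin 2 → K)) =
        W4c1stackycurves.galP σ (b x).1) :
    ∃ g : Matrix.GeneralLinearGroup (Fin 2) k,
      (fun x => (Matrix.GeneralLinearGroup.toLin
        ((Matrix.GeneralLinearGroup.map (algebraMap k K)) g)) • x) '' S = S' := by
  classical
  obtain ⟨n, hn⟩ : ∃ n, S.ncard + n = 3 := ⟨3 - S.ncard, by omega⟩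
  let β : PP K → PP K := fun x => if h : x ∈ S then (b ⟨x, h⟩ : PP K) else x
  have hβS : ∀ (x : PP K) (h : x ∈ S), β x = (b ⟨x, h⟩ : PP K) := by
    intro x h; simp only [β, dif_pos h]
  have hinj : Set.InjOn β S := by
    intro x hx y hy hxy
    rw [hβS x hx, hβS y hy] at hxy
    have := b.injective (Subtype.ext hxy)
    exact congrArg Subtype.val this
  have hβ : ∀ (σ : K ≃ₐ[k] K) (x : PP K), x ∈ S → β (galP σ x) = galP σ (β x) := by
    intro σ x hx
    rw [hβS _ (hS σ x hx), hβS x hx]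
    exact hb σ ⟨x, hx⟩
  obtain ⟨g, hg⟩ := main_prop n S β hfin hn hS hinj hβ
  refine ⟨g, ?_⟩
  apply Set.Subset.antisymm
  · rintro _ ⟨x, hx, rfl⟩
    have h1 := hg x hx
    show act _ x ∈ S'
    rw [h1, hβS x hx]
    exact (b ⟨x, hx⟩).2
  · intro y hy
    refine ⟨(b.symm ⟨y, hy⟩ : PP K), (b.symm ⟨y, hy⟩).2, ?_⟩
    show act _ _ = y
    rw [hg _ (b.symm ⟨y, hy⟩).2, hβS _ (b.symm ⟨y, hy⟩).2]
    simp

end points

end Groth.Agent.Lib.ThreeTransH1
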