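import Mathlib
import Groth.Prelude
import Groth.Agent.Lib.PB7_helper8

set_option autoImplicit false

namespace TildeProjH8

open CategoryTheory AlgebraicGeometry Opposite TopologicalSpace PBH8 TensorProduct

universe u

section Alg

variable {R S N : Type*} [CommRing R] [CommRing S] [Algebra R S] [AddCommGroup N] [Module R N]
  [Module S N] [IsScalarTower R S N]

/-- Projectivity does not change along a bijective algebra map. -/
theorem projective_iff_of_bijective (h : Function.Bijective (algebraMap R S)) :
    Module.Projective R N ↔ Module.Projective S N := by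
  let e : R ≃+* S := RingEquiv.ofBijective (algebraMap R S) h
  haveI : RingHomInvPair (e : R →+* S) (e.symm : S →+* R) := RingHomInvPair.of_ringEquiv e
  haveI : RingHomInvPair (e.symm : S →+* R) (e : R →+* S) := RingHomInvPair.of_ringEquiv_symm e
  let e₁ : N ≃ₛₗ[(e : R →+* S)] N :=
    { AddEquiv.refl N with
      map_smul' := fun r x => (algebraMap_smul S r x).symm }
  constructor
  · intro _
    exact Module.Projective.of_equiv e₁
  · intro _
    exact Module.Projective.of_equiv e₁.symm

end Alg

end TildeProjH8

namespace TildeProjH8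

open CategoryTheory AlgebraicGeometry Opposite TopologicalSpace PBH8 TensorProduct

universe u

section Main

variable (A : CommRingCat.{u}) (M : ModuleCat.{u} A)

theorem bijective_algebraMap_top : Function.Bijective (algebraMap A Γ(Spec A, ⊤)) := by
  rw [IsAffineOpen.algebraMap_Spec_obj]
  have h1 : (homOfLE (le_top : (⊤ : (Spec A).Opens) ≤ ⊤)) = 𝟙 _ := Subsingleton.elim _ _
  rw [h1, op_id, CategoryTheory.Functor.map_id, Category.comp_id]
  exact ConcreteCategory.bijective_of_isIso (Scheme.ΓSpecIso A).inv

/-- sections of an isomorphism of modules, as a linear equivalence. -/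
noncomputable def secEquiv {X : Scheme.{u}} {P F : X.Modules} (φ : P ≅ F) (U : X.Opens) :
    Γ(P, U) ≃ₗ[Γ(X, U)] Γ(F, U) where
  toFun := (φ.hom.app U).hom
  invFun := (φ.inv.app U).hom
  map_add' := map_add _
  map_smul' := fun r x => Scheme.Modules.Hom.app_smul φ.hom r x
  left_inv := fun m => by
    have := congrArg (fun ψ => Scheme.Modules.Hom.app ψ U m) φ.hom_inv_id
    exact this
  right_inv := fun m => by
    have := congrArg (fun ψ => Scheme.Modules.Hom.app ψ U m) φ.inv_hom_id
    exact this

theorem projective_of_sections (h : Module.Projective Γ(Spec A, ⊤) Γ(tilde M, ⊤)) :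
    Module.Projective A M := by
  have h1 : Module.Projective A Γ(tilde M, ⊤) :=
    (projective_iff_of_bijective (bijective_algebraMap_top A)).2 h
  let e : M ≃ₗ[A] Γ(tilde M, ⊤) := (tilde.isoTop M).toLinearEquiv
  exact Module.Projective.of_equiv' e.symm

theorem projective_sections (hM : Module.Projective A M) (U : (Spec A).Opens)
    (hU : IsAffineOpen U) : Module.Projective Γ(Spec A, U) Γ(tilde M, U) := by
  let e : M ≃ₗ[A] Γ(tilde M, ⊤) := (tilde.isoTop M).toLinearEquiv
  have h0 : Module.Projective A Γ(tilde M, ⊤) := Module.Projective.of_equiv' e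
  have h1 : Module.Projective Γ(Spec A, ⊤) Γ(tilde M, ⊤) :=
    (projective_iff_of_bijective (bijective_algebraMap_top A)).1 h0
  have hle : U ≤ (𝟙 (Spec A)) ⁻¹ᵁ ⊤ := le_top
  letI := (Scheme.Hom.appLE (𝟙 (Spec A)) ⊤ U hle).hom.toAlgebra
  letI : Module Γ(Spec A, ⊤) Γ((Scheme.Modules.pullback (𝟙 (Spec A))).obj (tilde M), U) :=
    Module.compHom _ (Scheme.Hom.appLE (𝟙 (Spec A)) ⊤ U hle).hom
  haveI : IsScalarTower Γ(Spec A, ⊤) Γ(Spec A, U)
      Γ((Scheme.Modules.pullback (𝟙 (Spec A))).obj (tilde M), U) :=
    IsScalarTower.of_algebraMap_smul fun _ _ => rfl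
  have hbc := isBaseChange_cUV (𝟙 (Spec A)) (tilde M) hle hU (isAffineOpen_top (Spec A))
  have h2 : Module.Projective Γ(Spec A, U)
      Γ((Scheme.Modules.pullback (𝟙 (Spec A))).obj (tilde M), U) :=
    Module.Projective.of_equiv' hbc.equiv
  exact Module.Projective.of_equiv'
    (secEquiv ((Scheme.Modules.pullbackId (Spec A)).app (tilde M)) U)

/-- S7392. -/
theorem projective_iff :
    (∀ U : (Spec A).Opens, IsAffineOpen U →
      Module.Projective ((Spec A).ringCatSheaf.obj.obj (op U)) ((tilde M).val.obj (op U))) ↔
      Module.Projective A M := by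
  constructor
  · intro h
    exact projective_of_sections A M (h ⊤ (isAffineOpen_top (Spec A)))
  · intro hM U hU
    exact projective_sections A M hM U hU

end Main

end TildeProjH8
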