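import Mathlib
import Groth.Prelude.Def_GrMod2
import Groth.Agent.Lib.TildeZero_helper1

/-!
# The stalk of `M(n)~` at a point of `Proj` (helper1)
-/

namespace Groth.Agent.Lib.TildeStalkH1

universe u

open CategoryTheory CategoryTheory.Limits AlgebraicGeometry TopologicalSpace Opposite DirectSum

section
variable {R A : Type u} [CommRing R] [CommRing A] [Algebra R A] (𝒜 : ℕ → Submodule R A) [GradedAlgebra 𝒜]
    {M : Type u} [AddCommGroup M] [Module R M] [Module A M] [IsScalarTower R A M] (ℳ : ℕ → Submodule R M) [DirectSum.Decomposition ℳ] [SetLike.GradedSMul 𝒜 ℳ]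

/-- every element of `tildeAt` is a single homogeneous fraction -/
theorem tildeAt_eq_frac (n : ℤ) (p : ProjectiveSpectrum 𝒜) (q : GrTilde.LocMod 𝒜 (M := M) p)
    (hq : q ∈ GrTilde.tildeAt 𝒜 ℳ n p) :
    ∃ (i j : ℕ) (m : M) (s : A) (_ : m ∈ ℳ i) (_ : s ∈ 𝒜 j) (hs : s ∉ p.asHomogeneousIdeal),
      ((i : ℤ) = j + n ∨ m = 0) ∧ q = LocalizedModule.mk m ⟨s, hs⟩ := by
  unfold GrTilde.tildeAt at hq
  induction hq using Submodule.span_induction with
  | mem q hq =>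
    obtain ⟨i, j, m, s, hs, hij, rfl⟩ := hq
    exact ⟨i, j, m.1, s.1, m.2, s.2, hs, Or.inl hij, rfl⟩
  | zero =>
    exact ⟨0, 0, 0, 1, zero_mem _, SetLike.GradedOne.one_mem,
      fun h => p.isPrime.ne_top ((Ideal.eq_top_iff_one _).mpr h), Or.inr rfl,
      (LocalizedModule.zero_mk _).symm⟩
  | add x y _ _ hx hy =>
    obtain ⟨i, j, m, s, hm, hs, hsp, c, rfl⟩ := hx
    obtain ⟨i', j', m', s', hm', hs', hsp', c', rfl⟩ := hy
    have nin : s * s' ∉ p.asHomogeneousIdeal := fun h =>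
      (p.isPrime.mem_or_mem h).elim hsp hsp'
    have key : (LocalizedModule.mk m ⟨s, hsp⟩ : GrTilde.LocMod 𝒜 (M := M) p) +
        LocalizedModule.mk m' ⟨s', hsp'⟩ = LocalizedModule.mk (s' • m + s • m') ⟨s * s', nin⟩ := by
      rw [LocalizedModule.mk_add_mk]
      rfl
    have h1 : s' • m ∈ ℳ (j' + i) := by
      simpa [vadd_eq_add] using SetLike.GradedSMul.smul_mem (A := 𝒜) (B := ℳ) hs' hm
    have h2 : s • m' ∈ ℳ (j + i') := by
      simpa [vadd_eq_add] using SetLike.GradedSMul.smul_mem (A := 𝒜) (B := ℳ) hs hm'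
    have hss : s * s' ∈ 𝒜 (j + j') := SetLike.mul_mem_graded hs hs'
    rcases c with c | c
    · rcases c' with c' | c'
      · have e : j' + i = j + i' := by omega
        rw [e] at h1
        exact ⟨j + i', j + j', _, _, add_mem h1 h2, hss, nin, Or.inl (by push_cast; omega), key⟩
      · refine ⟨j' + i, j + j', _, _, ?_, hss, nin, Or.inl (by push_cast; omega), key⟩
        rw [c', smul_zero, add_zero]
        exact h1
    · refine ⟨j + i', j + j', _, _, ?_, hss, nin, ?_, key⟩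
      · rw [c, smul_zero, zero_add]
        exact h2
      · rcases c' with c' | c'
        · exact Or.inl (by push_cast; omega)
        · exact Or.inr (by rw [c, c', smul_zero, smul_zero, add_zero])
  | smul c x _ hx =>
    obtain ⟨i, j, m, s, hm, hs, hsp, cnd, rfl⟩ := hx
    have nin : c.den * s ∉ p.asHomogeneousIdeal := fun h =>
      (p.isPrime.mem_or_mem h).elim c.den_mem hsp
    have key : c • (LocalizedModule.mk m ⟨s, hsp⟩ : GrTilde.LocMod 𝒜 (M := M) p) =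
        LocalizedModule.mk (c.num • m) ⟨c.den * s, nin⟩ := by
      rw [GrTilde.a0_smul_def, c.eq_num_div_den, LocalizedModule.mk_smul_mk]
      rfl
    have h1 : c.num • m ∈ ℳ (c.deg + i) := by
      simpa [vadd_eq_add] using SetLike.GradedSMul.smul_mem (A := 𝒜) (B := ℳ) c.num_mem_deg hm
    refine ⟨c.deg + i, c.deg + j, _, _, h1, SetLike.mul_mem_graded c.den_mem_deg hs, nin, ?_, key⟩
    rcases cnd with cnd | cnd
    · exact Or.inl (by push_cast; omega)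
    · exact Or.inr (by rw [cnd, smul_zero])

omit [IsScalarTower R A M] [DirectSum.Decomposition ℳ] [SetLike.GradedSMul 𝒜 ℳ] in
theorem mk_mem_tildeAt' (n : ℤ) (P : ProjectiveSpectrum 𝒜) (i j : ℕ) (w : M) (hw : w ∈ ℳ i) (t : A)
    (ht : t ∈ 𝒜 j) (hij : (i : ℤ) = j + n ∨ w = 0) (hg : t ∉ P.asHomogeneousIdeal) :
    (LocalizedModule.mk w ⟨t, hg⟩ : GrTilde.LocMod 𝒜 (M := M) P) ∈ GrTilde.tildeAt 𝒜 ℳ n P := by
  rcases hij with hij | hij
  · exact TildeZeroH1.mk_mem_tildeAt 𝒜 ℳ n P i j w hw t ht hij hg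
  · rw [hij, LocalizedModule.zero_mk]
    exact zero_mem _

theorem stalkToFiber_surj (n : ℤ) (p : ProjectiveSpectrum 𝒜) :
    Function.Surjective (TopCat.stalkToFiber (GrTilde.isLocFrac 𝒜 ℳ n) p) := by
  apply TopCat.stalkToFiber_surjective
  intro t
  obtain ⟨i, j, m, s, hm, hs, hsp, cnd, hq⟩ := tildeAt_eq_frac 𝒜 ℳ n p t.1 t.2
  refine ⟨⟨ProjectiveSpectrum.basicOpen 𝒜 s, hsp⟩,
    fun y => ⟨LocalizedModule.mk m ⟨s, y.2⟩, mk_mem_tildeAt' 𝒜 ℳ n y.1 i j m hm s hs cnd y.2⟩,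
    ?_, ?_⟩
  · intro y
    exact ⟨ProjectiveSpectrum.basicOpen 𝒜 s, y.2, 𝟙 _, i, j, ⟨m, hm⟩, ⟨s, hs⟩, fun z => z.2, cnd,
      fun _ => rfl⟩
  · exact Subtype.ext hq.symm

theorem stalkToFiber_inj (n : ℤ) (p : ProjectiveSpectrum 𝒜) :
    Function.Injective (TopCat.stalkToFiber (GrTilde.isLocFrac 𝒜 ℳ n) p) := by
  classical
  apply TopCat.stalkToFiber_injective
  intro U V fU hU fV hV hp
  obtain ⟨U', hpU', iU', i, j, ⟨a, ha⟩, ⟨s, hs⟩, nins, ca, wa⟩ := hU ⟨p, U.2⟩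
  obtain ⟨V', hpV', iV', i', j', ⟨b, hb⟩, ⟨t, ht⟩, nint, cb, wb⟩ := hV ⟨p, V.2⟩
  replace ca : (i : ℤ) = j + n ∨ a = 0 := ca
  replace cb : (i' : ℤ) = j' + n ∨ b = 0 := cb
  have e1 := wa ⟨p, hpU'⟩
  have e2 := wb ⟨p, hpV'⟩
  have e3 : ((fU ⟨p, U.2⟩ : GrTilde.tildeAt 𝒜 ℳ n p) : GrTilde.LocMod 𝒜 (M := M) p) =
      ((fV ⟨p, V.2⟩ : GrTilde.tildeAt 𝒜 ℳ n p) : GrTilde.LocMod 𝒜 (M := M) p) := by rw [hp]
  have e4 : (LocalizedModule.mk a ⟨s, nins ⟨p, hpU'⟩⟩ : GrTilde.LocMod 𝒜 (M := M) p) =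
      LocalizedModule.mk b ⟨t, nint ⟨p, hpV'⟩⟩ := e1.symm.trans (e3.trans e2)
  rw [LocalizedModule.mk_eq] at e4
  obtain ⟨u, hu⟩ := e4
  have hu' : (u : A) • (t • a - s • b) = 0 := by
    rw [smul_sub, sub_eq_zero]
    exact hu
  -- homogeneity of w
  have h1 : t • a ∈ ℳ (j' + i) := by
    simpa [vadd_eq_add] using SetLike.GradedSMul.smul_mem (A := 𝒜) (B := ℳ) ht ha
  have h2 : s • b ∈ ℳ (j + i') := by
    simpa [vadd_eq_add] using SetLike.GradedSMul.smul_mem (A := 𝒜) (B := ℳ) hs hb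
  obtain ⟨dg, hw⟩ : ∃ dg, t • a - s • b ∈ ℳ dg := by
    rcases ca with ca | ca
    · rcases cb with cb | cb
      · have e : j' + i = j + i' := by omega
        rw [e] at h1
        exact ⟨_, sub_mem h1 h2⟩
      · refine ⟨j' + i, ?_⟩
        rw [cb, smul_zero, sub_zero]
        exact h1
    · refine ⟨j + i', ?_⟩
      rw [ca, smul_zero, zero_sub]
      exact neg_mem h2
  have hI := GrAnnH1.ann_homogeneous 𝒜 ℳ _ dg hw
  have huI : (u : A) ∈ (Submodule.span A {t • a - s • b}).annihilator := by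
    rw [Submodule.mem_annihilator_span_singleton]
    exact hu'
  obtain ⟨l, hl⟩ : ∃ l, (DirectSum.decompose 𝒜 (u : A) l : A) ∉ p.asHomogeneousIdeal := by
    by_contra hcon
    push Not at hcon
    exact u.2 ((p.asHomogeneousIdeal.isHomogeneous.mem_iff).mpr hcon)
  have hulI := hI l huI
  rw [Submodule.mem_annihilator_span_singleton] at hulI
  generalize (DirectSum.decompose 𝒜 (u : A) l : A) = ul at hl hulI
  let W : TopologicalSpace.OpenNhds (X := ProjectiveSpectrum.top 𝒜) p :=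
    ⟨U' ⊓ V' ⊓ ProjectiveSpectrum.basicOpen 𝒜 ul, ⟨⟨hpU', hpV'⟩, hl⟩⟩
  have hWU : W.1 ≤ U.1 := fun y hy => iU'.le hy.1.1
  have hWV : W.1 ≤ V.1 := fun y hy => iV'.le hy.1.2
  refine ⟨W, @homOfLE _ (TopologicalSpace.OpenNhds.partialOrder
      (X := ProjectiveSpectrum.top 𝒜) p).toPreorder W U hWU,
    @homOfLE _ (TopologicalSpace.OpenNhds.partialOrder
      (X := ProjectiveSpectrum.top 𝒜) p).toPreorder W V hWV, fun y => ?_⟩
  apply Subtype.ext
  have f1 := wa ⟨y.1, y.2.1.1⟩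
  have f2 := wb ⟨y.1, y.2.1.2⟩
  refine f1.trans (Eq.trans ?_ f2.symm)
  rw [LocalizedModule.mk_eq]
  refine ⟨⟨ul, y.2.2⟩, ?_⟩
  show ul • t • a = ul • s • b
  rw [← sub_eq_zero, ← smul_sub]
  exact hulI

theorem stalkToFiber_bij (n : ℤ) (p : ProjectiveSpectrum 𝒜) :
    Function.Bijective (TopCat.stalkToFiber (GrTilde.isLocFrac 𝒜 ℳ n) p) :=
  ⟨stalkToFiber_inj 𝒜 ℳ n p, stalkToFiber_surj 𝒜 ℳ n p⟩

end

end Groth.Agent.Lib.TildeStalkH1
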