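import Mathlib
import Groth.Prelude
import Groth.Agent.Lib.BiratQF_helper7
import Groth.Agent.Lib.NormalizationNormal_helper7
import Groth.Agent.Lib.Norm1_helper8
import Groth.Agent.Lib.PushforwardNormal_helper7

set_option autoImplicit false
set_option linter.style.haveILetI false
set_option linter.unusedVariables false
universe u
open CategoryTheory CategoryTheory.Limits AlgebraicGeometry TopologicalSpace Opposite

namespace Groth.Agent.Lib.ToNormLocIsoH4

/-- For a quasi-finite extension of the fraction field of `A`, every element has a nonzero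
`A`-multiple that is integral over `A`. -/
theorem exists_mul_integral {A KY KX : Type*} [CommRing A] [Field KY] [Field KX]
    (φ : A →+* KY) (ι : KY →+* KX)
    (hfrac : @IsFractionRing A _ KY _ φ.toAlgebra) (hqf : ι.QuasiFinite) (b : KX) :
    ∃ a : A, a ≠ 0 ∧ (ι.comp φ).IsIntegralElem (ι (φ a) * b) := by
  letI : Algebra A KY := φ.toAlgebra
  letI : Algebra KY KX := ι.toAlgebra
  letI : Algebra A KX := (ι.comp φ).toAlgebra
  haveI : IsScalarTower A KY KX := IsScalarTower.of_algebraMap_eq' rfl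
  haveI : IsFractionRing A KY := hfrac
  haveI : Algebra.QuasiFinite KY KX := hqf
  haveI : Module.Finite KY KX := Module.Finite.of_quasiFinite
  haveI : IsDomain A :=
    Function.Injective.isDomain (algebraMap A KY) (IsFractionRing.injective A KY)
  have hint : IsIntegral KY b := Algebra.IsIntegral.isIntegral b
  have halg : IsAlgebraic KY b := hint.isAlgebraic
  have halg' : IsAlgebraic A b := (IsFractionRing.isAlgebraic_iff A KY KX).mpr halg
  obtain ⟨a, ha, hab⟩ := halg'.exists_integral_multiple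
  refine ⟨a, ha, ?_⟩
  have e1 : a • b = ι (φ a) * b := by
    rw [Algebra.smul_def]; rfl
  rw [← e1]
  exact hab

theorem map_genericPoint_of_isDominant {X Y : Scheme.{u}} [IsIntegral X] [IsIntegral Y]
    (f : X ⟶ Y) [IsDominant f] : f (genericPoint X) = genericPoint Y := by
  have h1 : IsGenericPoint (f (genericPoint X)) (closure (f '' Set.univ)) :=
    (genericPoint_spec X).image f.continuous
  rw [Set.image_univ, f.denseRange.closure_range] at h1
  exact h1.eq (genericPoint_spec Y)

theorem bijective_stalkSpecializes_of_eq {Y : Scheme.{u}} {y y' : Y} (e : y = y')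
    (hs : y ⤳ y') : Function.Bijective (Y.presheaf.stalkSpecializes hs).hom := by
  subst e
  have h1 : Y.presheaf.stalkSpecializes hs = 𝟙 _ :=
    TopCat.Presheaf.stalkSpecializes_refl Y.presheaf y
  rw [h1, CommRingCat.hom_id]
  exact Function.bijective_id

theorem isField_stalk_of_eq_genericPoint {N : Scheme.{u}} [IsIntegral N] (y : N)
    (e : y = genericPoint N) : IsField (N.presheaf.stalk y) := by
  subst e
  exact Field.toIsField N.functionField

/-- The key birationality statement, in abstract form. -/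
theorem isIso_stalkMap_genericPoint {X N Y : Scheme.{u}} [IsIntegral X] [IsIntegral N]
    [IsIntegral Y] (hNX : ∀ x : X, IsIntegrallyClosed (X.presheaf.stalk x))
    (f : X ⟶ Y) (h : X ⟶ N) (p : N ⟶ Y) (hfac : h ≫ p = f) [IsDominant h] [IsDominant f]
    [LocallyQuasiFinite f]
    (U : Y.Opens) (hU : IsAffineOpen U) (hξU : f (genericPoint X) ∈ U)
    (hle : f ⁻¹ᵁ U ≤ h ⁻¹ᵁ (p ⁻¹ᵁ U))
    (H : ∀ c₀ : Γ(X, f ⁻¹ᵁ U), (f.app U).hom.IsIntegralElem c₀ →
      ∃ c' : Γ(N, p ⁻¹ᵁ U), (h.appLE (p ⁻¹ᵁ U) (f ⁻¹ᵁ U) hle).hom c' = c₀) :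
    IsIso (h.stalkMap (genericPoint X)) := by
  subst hfac
  have hη : h (genericPoint X) = genericPoint N := map_genericPoint_of_isDominant h
  have hζ : (h ≫ p) (genericPoint X) = genericPoint Y := map_genericPoint_of_isDominant (h ≫ p)
  have hdom : (h ≫ p) (genericPoint X) ⤳ genericPoint Y := specializes_of_eq hζ
  have hF : IsField (N.presheaf.stalk (h (genericPoint X))) :=
    isField_stalk_of_eq_genericPoint _ hη
  have hηU : genericPoint Y ∈ U := NormH8.genericPoint_mem hξU
  have hξNV : h (genericPoint X) ∈ p ⁻¹ᵁ U := hξU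
  haveI : Nonempty U := ⟨⟨genericPoint Y, hηU⟩⟩
  haveI : Nonempty ((h ≫ p) ⁻¹ᵁ U) := ⟨⟨genericPoint X, hξU⟩⟩
  have happ : h.appLE (p ⁻¹ᵁ U) ((h ≫ p) ⁻¹ᵁ U) hle = h.app (p ⁻¹ᵁ U) :=
    (Scheme.Hom.app_eq_appLE h).symm
  apply (ConcreteCategory.isIso_iff_bijective _).2
  refine ⟨?_, ?_⟩
  · -- injective: source is a field
    refine (injective_iff_map_eq_zero (h.stalkMap (genericPoint X)).hom).mpr ?_
    intro a ha
    by_contra hne
    obtain ⟨a', ha'⟩ := hF.mul_inv_cancel hne
    have h1 := congrArg (h.stalkMap (genericPoint X)).hom ha'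
    rw [map_mul, ha, zero_mul, map_one] at h1
    exact zero_ne_one h1
  · intro b
    obtain ⟨φ, hφ⟩ : ∃ φ : Γ(Y, U) →+* Y.functionField,
        φ = (Y.presheaf.germ U (genericPoint Y) hηU).hom := ⟨_, rfl⟩
    obtain ⟨ι, hι⟩ : ∃ ι : Y.functionField →+* X.functionField,
        ι = ((h ≫ p).stalkMap (genericPoint X)).hom.comp
          (Y.presheaf.stalkSpecializes hdom).hom := ⟨_, rfl⟩
    have hfrac : @IsFractionRing Γ(Y, U) _ Y.functionField _ φ.toAlgebra := by
      rw [hφ]; exact functionField_isFractionRing_of_isAffineOpen Y U hU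
    have hqf : ι.QuasiFinite := by
      rw [hι]
      exact RingHom.QuasiFinite.comp ((h ≫ p).quasiFiniteAt (genericPoint X))
        (RingHom.QuasiFinite.of_finite
          (RingHom.Finite.of_surjective _ (bijective_stalkSpecializes_of_eq hζ hdom).2))
    have hφinj : Function.Injective φ := by
      rw [hφ]; exact germ_injective_of_isIntegral Y (genericPoint Y) hηU
    obtain ⟨a, ha0, haint⟩ := exists_mul_integral φ ι hfrac hqf b
    have hgae : ∀ a' : Γ(Y, U),
        (X.presheaf.germ ((h ≫ p) ⁻¹ᵁ U) (genericPoint X) hξU).hom (((h ≫ p).app U).hom a') =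
          ι (φ a') := by
      intro a'
      rw [hφ]
      exact Groth.Agent.Lib.PushforwardNormalH7.germ_app_eq (h ≫ p) hdom ι hι U hξU hηU a'
    have hcomp : ι.comp φ = (X.presheaf.germ ((h ≫ p) ⁻¹ᵁ U) (genericPoint X) hξU).hom.comp
        ((h ≫ p).app U).hom := by
      ext a'
      exact (hgae a').symm
    rw [hcomp] at haint
    have h1 : IsIntegral Γ(X, (h ≫ p) ⁻¹ᵁ U) (ι (φ a) * b) :=
      RingHom.IsIntegralElem.of_comp haint
    have h2 : ∀ x ∈ (h ≫ p) ⁻¹ᵁ U, ∃ r : X.presheaf.stalk x,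
        algebraMap (X.presheaf.stalk x) X.functionField r = ι (φ a) * b := by
      intro x hx
      letI := TopCat.Presheaf.algebra_section_stalk X.presheaf (U := (h ≫ p) ⁻¹ᵁ U) ⟨x, hx⟩
      haveI := functionField_isScalarTower X ((h ≫ p) ⁻¹ᵁ U) ⟨x, hx⟩
      have h3 : IsIntegral (X.presheaf.stalk x) (ι (φ a) * b) := IsIntegral.tower_top h1
      exact (isIntegrallyClosed_iff X.functionField).1 (hNX x) h3
    obtain ⟨c₀, hc₀⟩ :=
      NormH8.exists_section_of_forall_stalk ((h ≫ p) ⁻¹ᵁ U) (ι (φ a) * b) h2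
    have h5 : (X.presheaf.germ ((h ≫ p) ⁻¹ᵁ U) (genericPoint X) hξU).hom c₀ = ι (φ a) * b := hc₀
    have hc₀int : ((h ≫ p).app U).hom.IsIntegralElem c₀ := by
      obtain ⟨P, hP, hPe⟩ := haint
      refine ⟨P, hP, ?_⟩
      have hinj : Function.Injective
          (X.presheaf.germ ((h ≫ p) ⁻¹ᵁ U) (genericPoint X) hξU).hom :=
        germ_injective_of_isIntegral X (genericPoint X) hξU
      apply hinj
      have h4 := Polynomial.hom_eval₂ P ((h ≫ p).app U).hom
        (X.presheaf.germ ((h ≫ p) ⁻¹ᵁ U) (genericPoint X) hξU).hom c₀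
      refine (h4.trans ?_).trans (map_zero _).symm
      rw [h5]
      exact hPe
    obtain ⟨c', hc'⟩ := H c₀ hc₀int
    rw [happ] at hc'
    have hc'' : (h.app (p ⁻¹ᵁ U)).hom c' = c₀ := hc'
    obtain ⟨d, hd⟩ : ∃ d : N.presheaf.stalk (h (genericPoint X)),
        d = (N.presheaf.germ (p ⁻¹ᵁ U) (h (genericPoint X)) hξNV).hom ((p.app U).hom a) :=
      ⟨_, rfl⟩
    have hsd : (h.stalkMap (genericPoint X)).hom d = ι (φ a) := by
      rw [hd]
      have e1 := Scheme.Hom.germ_stalkMap_apply h (p ⁻¹ᵁ U) (genericPoint X) hξNV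
        ((p.app U).hom a)
      exact e1.trans (hgae a)
    have hιφa : ι (φ a) ≠ 0 := by
      intro h0
      have h6 : φ a = 0 := ι.injective (h0.trans (map_zero ι).symm)
      have h7 : a = 0 := hφinj (h6.trans (map_zero φ).symm)
      exact ha0 h7
    have hd0 : d ≠ 0 := by
      intro h0
      apply hιφa
      rw [← hsd, h0, map_zero]
    obtain ⟨d', hd'⟩ := hF.mul_inv_cancel hd0
    have hsc : (h.stalkMap (genericPoint X)).hom
        ((N.presheaf.germ (p ⁻¹ᵁ U) (h (genericPoint X)) hξNV).hom c') = ι (φ a) * b := by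
      have e2 := Scheme.Hom.germ_stalkMap_apply h (p ⁻¹ᵁ U) (genericPoint X) hξNV c'
      have e3 : (X.presheaf.germ (h ⁻¹ᵁ (p ⁻¹ᵁ U)) (genericPoint X) hξNV).hom
          ((h.app (p ⁻¹ᵁ U)).hom c') = ι (φ a) * b := by
        rw [hc'']; exact hc₀
      exact e2.trans e3
    refine ⟨(N.presheaf.germ (p ⁻¹ᵁ U) (h (genericPoint X)) hξNV).hom c' * d', ?_⟩
    change (h.stalkMap (genericPoint X)).hom
      ((N.presheaf.germ (p ⁻¹ᵁ U) (h (genericPoint X)) hξNV).hom c' * d') = b
    rw [map_mul, hsc, ← hsd, mul_comm ((h.stalkMap (genericPoint X)).hom d) b, mul_assoc,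
      ← map_mul, hd', map_one, mul_one]

/-- Integral sections over the preimage of an affine open come from the normalization. -/
theorem exists_preimage_of_isIntegralElem {X Y : Scheme.{u}} (f : X ⟶ Y) [QuasiCompact f]
    [QuasiSeparated f] {U : Y.Opens} (hU : IsAffineOpen U)
    (hle : f ⁻¹ᵁ U ≤ f.toNormalization ⁻¹ᵁ (f.fromNormalization ⁻¹ᵁ U))
    (c₀ : Γ(X, f ⁻¹ᵁ U)) (hc₀ : (f.app U).hom.IsIntegralElem c₀) :
    ∃ c' : Γ(f.normalization, f.fromNormalization ⁻¹ᵁ U),
      (f.toNormalization.appLE (f.fromNormalization ⁻¹ᵁ U) (f ⁻¹ᵁ U) hle).hom c' = c₀ := by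
  letI := (f.app U).hom.toAlgebra
  have hval : (f.normalizationObjIso hU).hom ≫ CommRingCat.ofHom (Subalgebra.val _).toRingHom =
      f.toNormalization.appLE (f.fromNormalization ⁻¹ᵁ U) (f ⁻¹ᵁ U) hle :=
    f.normalizationObjIso_hom_val hU
  obtain ⟨c₀'', hc₀''⟩ : ∃ c₀'' : integralClosure Γ(Y, U) Γ(X, f ⁻¹ᵁ U),
      (c₀'' : Γ(X, f ⁻¹ᵁ U)) = c₀ := ⟨⟨c₀, hc₀⟩, rfl⟩
  refine ⟨(f.normalizationObjIso hU).inv.hom c₀'', ?_⟩
  have h2 : (f.normalizationObjIso hU).hom.hom ((f.normalizationObjIso hU).inv.hom c₀'') =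
      c₀'' := by
    have := congrArg (fun m => m.hom c₀'') (f.normalizationObjIso hU).inv_hom_id
    exact this
  have h3 := congrArg (fun m => m.hom ((f.normalizationObjIso hU).inv.hom c₀'')) hval
  refine h3.symm.trans ?_
  change ((f.normalizationObjIso hU).hom.hom ((f.normalizationObjIso hU).inv.hom c₀'') :
    Γ(X, f ⁻¹ᵁ U)) = c₀
  rw [h2]
  exact hc₀''

theorem main4810 {X Y : Scheme.{u}} [IsIntegral X] [IsIntegral Y]
    (hN : ∀ x : X, IsIntegrallyClosed (X.presheaf.stalk x)) (f : X ⟶ Y) [IsDominant f]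
    [LocallyQuasiFinite f] [LocallyOfFiniteType f] [QuasiCompact f] [QuasiSeparated f] :
    IsLocalIso f.toNormalization ∧ (IsOpenImmersion f.toNormalization ↔ IsSeparated f) := by
  have hfac : f.toNormalization ≫ f.fromNormalization = f := f.toNormalization_fromNormalization
  haveI : LocallyQuasiFinite (f.toNormalization ≫ f.fromNormalization) := by
    rw [hfac]; infer_instance
  haveI : LocallyOfFiniteType (f.toNormalization ≫ f.fromNormalization) := by
    rw [hfac]; infer_instance
  haveI : LocallyQuasiFinite f.toNormalization :=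
    LocallyQuasiFinite.of_comp f.toNormalization f.fromNormalization
  haveI : LocallyOfFiniteType f.toNormalization :=
    locallyOfFiniteType_of_comp f.toNormalization f.fromNormalization
  have hT : ∀ W : X.Opens, Nontrivial Γ(X, W) →
      IsDomain Γ(X, W) ∧ IsIntegrallyClosed Γ(X, W) := by
    intro W hW
    have hne : (W : Set X).Nonempty := by
      refine (Opens.ne_bot_iff_nonempty W).mp (fun hbot => ?_)
      subst hbot
      haveI := hW
      exact false_of_nontrivial_of_subsingleton Γ(X, ⊥)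
    haveI : Nonempty W := ⟨⟨hne.some, hne.some_mem⟩⟩
    exact ⟨inferInstance, NormH8.isIntegrallyClosed_sections hN W⟩
  have hNN := Groth.Agent.Lib.NormalizationNormalH7.isNormalScheme_normalization f hT
  have hNN' : ∀ y : f.normalization,
      IsIntegrallyClosed (f.normalization.presheaf.stalk y) := fun y => (hNN y).2
  have hgen : f.toNormalization (genericPoint X) = genericPoint f.normalization :=
    map_genericPoint_of_isDominant f.toNormalization
  obtain ⟨_, ⟨U, hU, rfl⟩, hξU, -⟩ := Y.isBasis_affineOpens.exists_subset_of_mem_open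
    (Set.mem_univ (f (genericPoint X))) isOpen_univ
  have hle : f ⁻¹ᵁ U ≤ f.toNormalization ⁻¹ᵁ (f.fromNormalization ⁻¹ᵁ U) := by
    rw [← Scheme.Hom.comp_preimage, hfac]
  have hbir : IsIso (f.toNormalization.stalkMap (genericPoint X)) :=
    isIso_stalkMap_genericPoint hN f f.toNormalization f.fromNormalization hfac U hU hξU hle
      (fun c₀ hc₀ => exists_preimage_of_isIntegralElem f hU hle c₀ hc₀)
  obtain ⟨hli, hoi⟩ := Groth.Agent.Lib.BiratQFH7.isLocalIso_and_isOpenImmersion hNN'
    f.toNormalization hgen hbir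
  refine ⟨hli, ⟨fun hopen => ?_, fun hsep => ?_⟩⟩
  · haveI := hopen
    have hs : IsSeparated (f.toNormalization ≫ f.fromNormalization) := inferInstance
    rw [hfac] at hs
    exact hs
  · haveI := hsep
    haveI : IsSeparated (f.toNormalization ≫ f.fromNormalization) := by
      rw [hfac]; infer_instance
    haveI : IsSeparated f.toNormalization :=
      IsSeparated.of_comp f.toNormalization f.fromNormalization
    exact hoi inferInstance

end Groth.Agent.Lib.ToNormLocIsoH4
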