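import Mathlib

namespace Groth.Agent.Lib.Todd

open PowerSeries

noncomputable section

local notation "𝐃" => PowerSeries.derivative ℚ

lemma pow_mul_pow_g (u v : ℚ⟦X⟧) (huv : u * v = 1) (m j : ℕ) :
    v ^ (m + j) * (X * u) ^ m = X ^ m * v ^ j := by
  have h1 : v ^ m * u ^ m = 1 := by rw [← mul_pow, mul_comm, huv, one_pow]
  rw [pow_add, mul_pow]
  linear_combination (X ^ m * v ^ j) * h1

lemma deriv_g (u : ℚ⟦X⟧) : 𝐃 (X * u) = u + X * 𝐃 u := by
  rw [Derivation.leibniz, derivative_X, smul_eq_mul, smul_eq_mul, mul_one, add_comm]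

lemma coeff_step (u v : ℚ⟦X⟧) (huv : u * v = 1) (k : ℕ) (hk : 1 ≤ k) :
    coeff k (v ^ (k + 1) * 𝐃 (X * u)) = 0 := by
  have hDv : 𝐃 v = - v ^ 2 * 𝐃 u := by
    have h := congrArg (𝐃) huv
    rw [Derivation.leibniz, Derivation.map_one_eq_zero, smul_eq_mul, smul_eq_mul] at h
    linear_combination v * h - (𝐃 v) * huv
  obtain ⟨j, rfl⟩ : ∃ j, k = j + 1 := ⟨k - 1, by omega⟩
  have key : ((j + 1 : ℕ) : ℚ⟦X⟧) * (v ^ (j + 1 + 1) * 𝐃 (X * u)) =
      ((j + 1 : ℕ) : ℚ⟦X⟧) * v ^ (j + 1) - X * 𝐃 (v ^ (j + 1)) := by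
    rw [deriv_g, derivative_pow, hDv, Nat.add_sub_cancel]
    linear_combination (((j + 1 : ℕ) : ℚ⟦X⟧) * v ^ (j + 1)) * huv
  have hc : ((j + 1 : ℕ) : ℚ⟦X⟧) = C ((j + 1 : ℕ) : ℚ) := (map_natCast C _).symm
  have h2 := congrArg (coeff (j + 1)) key
  rw [hc, coeff_C_mul, map_sub, coeff_C_mul, coeff_succ_X_mul, coeff_derivative] at h2
  have hne : ((j + 1 : ℕ) : ℚ) ≠ 0 := by positivity
  have h3 : ((j + 1 : ℕ) : ℚ) * coeff (j + 1) (v ^ (j + 1 + 1) * 𝐃 (X * u)) = 0 := by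
    rw [h2]; push_cast; ring
  exact (mul_eq_zero.mp h3).resolve_left hne

lemma coeff_step0 (u v : ℚ⟦X⟧) (huv : u * v = 1) :
    coeff 0 (v ^ (0 + 1) * 𝐃 (X * u)) = 1 := by
  have h : v ^ (0 + 1) * 𝐃 (X * u) = 1 + X * (v * 𝐃 u) := by
    rw [deriv_g]; linear_combination huv
  rw [h, map_add, coeff_zero_X_mul, add_zero, coeff_zero_one]

lemma coeff_pow_eq_one (u v : ℚ⟦X⟧) (huv : u * v = 1) (hg : 𝐃 (X * u) = 1 - X * u) (n : ℕ) :
    coeff n (v ^ (n + 1)) = 1 := by
  have hgeom : (∑ m ∈ Finset.range (n + 1), (X * u) ^ m) * (1 - X * u) = 1 - (X * u) ^ (n + 1) :=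
    geom_sum_mul_neg (X * u) (n + 1)
  have h1 : v ^ (n + 1) - X ^ (n + 1) =
      ∑ m ∈ Finset.range (n + 1), X ^ m * (v ^ (n - m + 1) * 𝐃 (X * u)) := by
    have h2 : v ^ (n + 1) * (X * u) ^ (n + 1) = X ^ (n + 1) := by
      have := pow_mul_pow_g u v huv (n + 1) 0
      simpa using this
    calc v ^ (n + 1) - X ^ (n + 1) = v ^ (n + 1) * (1 - (X * u) ^ (n + 1)) := by
          rw [mul_sub, mul_one, h2]
      _ = v ^ (n + 1) * ((∑ m ∈ Finset.range (n + 1), (X * u) ^ m) * 𝐃 (X * u)) := by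
          rw [hg, hgeom]
      _ = ∑ m ∈ Finset.range (n + 1), v ^ (n + 1) * (X * u) ^ m * 𝐃 (X * u) := by
          rw [Finset.sum_mul, Finset.mul_sum]
          refine Finset.sum_congr rfl fun m _ => by ring
      _ = _ := by
          refine Finset.sum_congr rfl fun m hm => ?_
          have hm' : m ≤ n := Nat.lt_succ_iff.mp (Finset.mem_range.mp hm)
          have := pow_mul_pow_g u v huv m (n - m + 1)
          have e : m + (n - m + 1) = n + 1 := by omega
          rw [e] at this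
          rw [this]; ring
  have h3 := congrArg (coeff n) h1
  rw [map_sub, map_sum] at h3
  have hX : coeff n (X ^ (n + 1) : ℚ⟦X⟧) = 0 := by
    rw [coeff_X_pow, if_neg (by omega)]
  rw [hX, sub_zero] at h3
  rw [h3, Finset.sum_eq_single n]
  · rw [coeff_X_pow_mul', if_pos le_rfl, Nat.sub_self]
    exact coeff_step0 u v huv
  · intro m hm hmn
    have hm' : m < n := lt_of_le_of_ne (Nat.lt_succ_iff.mp (Finset.mem_range.mp hm)) hmn
    rw [coeff_X_pow_mul', if_pos hm'.le]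
    exact coeff_step u v huv (n - m) (by omega)
  · intro h; exact absurd (Finset.mem_range.mpr (Nat.lt_succ_self n)) h

lemma unique_of_coeff (f T : ℚ⟦X⟧) (hf : ∀ n, coeff n (f ^ (n + 1)) = 1)
    (hT : ∀ n, coeff n (T ^ (n + 1)) = 1) : f = T := by
  have hf0 : constantCoeff f = 1 := by have := hf 0; simpa using this
  have hT0 : constantCoeff T = 1 := by have := hT 0; simpa using this
  ext n
  induction n using Nat.strong_induction_on with
  | _ n ih =>
    have hdvd : (X : ℚ⟦X⟧) ^ n ∣ f - T := by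
      rw [X_pow_dvd_iff]; intro m hm; rw [map_sub, ih m hm, sub_self]
    obtain ⟨h, hh⟩ := hdvd
    have hgs := geom_sum₂_mul f T (n + 1)
    have hS0 : constantCoeff (∑ i ∈ Finset.range (n + 1), f ^ i * T ^ (n + 1 - 1 - i)) =
        (n + 1 : ℚ) := by
      rw [map_sum]; simp [hf0, hT0]
    have h1 : coeff n ((∑ i ∈ Finset.range (n + 1), f ^ i * T ^ (n + 1 - 1 - i)) * (f - T)) = 0 := by
      rw [hgs, map_sub, hf n, hT n, sub_self]
    rw [hh] at h1
    have h2 : (∑ i ∈ Finset.range (n + 1), f ^ i * T ^ (n + 1 - 1 - i)) * (X ^ n * h) =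
        X ^ n * ((∑ i ∈ Finset.range (n + 1), f ^ i * T ^ (n + 1 - 1 - i)) * h) := by ring
    rw [h2, coeff_X_pow_mul', if_pos le_rfl, Nat.sub_self, coeff_zero_eq_constantCoeff_apply,
      map_mul, hS0] at h1
    have hh0 : constantCoeff h = 0 := by
      rcases mul_eq_zero.mp h1 with h' | h'
      · exfalso
        have : (0 : ℚ) < n + 1 := by positivity
        linarith
      · exact h'
    have h4 : coeff n (f - T) = 0 := by
      rw [hh, coeff_X_pow_mul', if_pos le_rfl, Nat.sub_self, coeff_zero_eq_constantCoeff_apply,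
        hh0]
    rw [map_sub] at h4
    exact sub_eq_zero.mp h4

def w : ℚ⟦X⟧ := PowerSeries.mk fun n => 1 / ((n + 1).factorial : ℚ)

lemma X_mul_w : X * w = exp ℚ - 1 := by
  ext n
  cases n with
  | zero => simp [w, coeff_exp]
  | succ n =>
    rw [coeff_succ_X_mul, map_sub, coeff_exp, w, coeff_mk]
    simp [coeff_one]

lemma constantCoeff_w : constantCoeff w = 1 := by
  rw [← coeff_zero_eq_constantCoeff_apply, w, coeff_mk]; simp

theorem main (f : PowerSeries ℚ) :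
    (∀ n : ℕ, PowerSeries.coeff n (f ^ (n + 1)) = 1) ↔
      f * (PowerSeries.exp ℚ - 1) = PowerSeries.X * PowerSeries.exp ℚ := by
  have he0 : constantCoeff (exp ℚ) ≠ 0 := by rw [constantCoeff_exp]; exact one_ne_zero
  have hw0 : constantCoeff w ≠ 0 := by rw [constantCoeff_w]; exact one_ne_zero
  have hee : (exp ℚ)⁻¹ * exp ℚ = 1 := PowerSeries.inv_mul_cancel _ he0
  have hww : w * w⁻¹ = 1 := PowerSeries.mul_inv_cancel w hw0
  have hXw : X * w = exp ℚ - 1 := X_mul_w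
  have hDe : 𝐃 (exp ℚ) = exp ℚ := derivative_exp ℚ
  have huv : (w * (exp ℚ)⁻¹) * (exp ℚ * w⁻¹) = 1 := by
    linear_combination (w * w⁻¹) * hee + hww
  have hg : 𝐃 (X * (w * (exp ℚ)⁻¹)) = 1 - X * (w * (exp ℚ)⁻¹) := by
    have h1 : X * (w * (exp ℚ)⁻¹) = 1 - (exp ℚ)⁻¹ := by
      linear_combination (exp ℚ)⁻¹ * hXw + hee
    rw [h1, map_sub, Derivation.map_one_eq_zero, derivative_inv', hDe]
    linear_combination (exp ℚ)⁻¹ * hee
  have hTprop : ∀ n, coeff n ((exp ℚ * w⁻¹) ^ (n + 1)) = 1 :=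
    coeff_pow_eq_one _ _ huv hg
  have hTeq : (exp ℚ * w⁻¹) * (exp ℚ - 1) = X * exp ℚ := by
    rw [← hXw]; linear_combination (X * exp ℚ) * hww
  constructor
  · intro hf
    have : f = exp ℚ * w⁻¹ := unique_of_coeff f _ hf hTprop
    rw [this]; exact hTeq
  · intro hf
    have hfw : f * w = exp ℚ := by
      have h1 : X * (f * w) = X * exp ℚ := by rw [← hf, ← hXw]; ring
      exact mul_left_cancel₀ X_ne_zero h1
    have : f = exp ℚ * w⁻¹ := by rw [← hfw]; linear_combination (-f) * hww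
    rw [this]; exact hTprop

end

end Groth.Agent.Lib.Todd
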