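import Mathlib
import Groth.Agent.Lib.Todd_lead

namespace Groth.Agent.Lib.ToddBinom

open PowerSeries

lemma Rb (m : ℤ) (n : ℕ) :
    Ring.choose (m + 1 + ((n + 1 : ℕ) : ℤ)) (n + 1) =
      Ring.choose (m + ((n + 1 : ℕ) : ℤ)) (n + 1) + Ring.choose (m + 1 + (n : ℤ)) n := by
  have e1 : m + 1 + ((n + 1 : ℕ) : ℤ) = (m + 1 + (n : ℤ)) + 1 := by omega
  have e2 : m + ((n + 1 : ℕ) : ℤ) = m + 1 + (n : ℤ) := by omega
  rw [e1, e2, Ring.choose_succ_succ]
  exact add_comm _ _

lemma Ra (f : ℚ⟦X⟧) (hf : f * (exp ℚ - 1) = X * exp ℚ) (m : ℤ) (n : ℕ) :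
    coeff (n + 1) (rescale ((m + 1 : ℤ) : ℚ) (exp ℚ) * f ^ (n + 1 + 1)) =
      coeff (n + 1) (rescale (m : ℚ) (exp ℚ) * f ^ (n + 1 + 1)) +
        coeff n (rescale ((m + 1 : ℤ) : ℚ) (exp ℚ) * f ^ (n + 1)) := by
  have hE : rescale ((m + 1 : ℤ) : ℚ) (exp ℚ) = rescale (m : ℚ) (exp ℚ) * exp ℚ := by
    have h : rescale (m : ℚ) (exp ℚ) * rescale (1 : ℚ) (exp ℚ) =
        rescale ((m : ℚ) + 1) (exp ℚ) := exp_mul_exp_eq_exp_add _ _
    rw [rescale_one, RingHom.id_apply] at h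
    rw [Int.cast_add, Int.cast_one]
    exact h.symm
  have key : rescale ((m + 1 : ℤ) : ℚ) (exp ℚ) * f ^ (n + 1 + 1) =
      rescale (m : ℚ) (exp ℚ) * f ^ (n + 1 + 1) +
        X * (rescale ((m + 1 : ℤ) : ℚ) (exp ℚ) * f ^ (n + 1)) := by
    rw [hE]
    linear_combination (rescale (m : ℚ) (exp ℚ) * f ^ (n + 1)) * hf
  rw [key, map_add, coeff_succ_X_mul]

theorem main (f : PowerSeries ℚ)
    (hf : f * (PowerSeries.exp ℚ - 1) = PowerSeries.X * PowerSeries.exp ℚ) (m : ℤ) (n : ℕ) :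
    PowerSeries.coeff n (PowerSeries.rescale (m : ℚ) (PowerSeries.exp ℚ) * f ^ (n + 1)) =
      ((Ring.choose (m + n : ℤ) n : ℤ) : ℚ) := by
  have htodd : ∀ n : ℕ, coeff n (f ^ (n + 1)) = 1 := (Groth.Agent.Lib.Todd.main f).mpr hf
  have hf0 : constantCoeff f = 1 := by
    have h := htodd 0
    rw [zero_add, pow_one, coeff_zero_eq_constantCoeff_apply] at h
    exact h
  have hA0 : ∀ a : ℚ, constantCoeff (rescale a (exp ℚ)) = 1 := by
    intro a
    rw [← coeff_zero_eq_constantCoeff_apply, coeff_rescale, pow_zero, one_mul,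
      coeff_zero_eq_constantCoeff_apply, constantCoeff_exp]
  have hall : ∀ (n : ℕ) (m : ℤ),
      coeff n (rescale (m : ℚ) (exp ℚ) * f ^ (n + 1)) =
        ((Ring.choose (m + (n : ℤ)) n : ℤ) : ℚ) := by
    intro n
    induction n with
    | zero =>
      intro m
      rw [coeff_zero_eq_constantCoeff_apply, map_mul, map_pow, hA0, hf0, one_pow, one_mul,
        Ring.choose_zero_right, Int.cast_one]
    | succ n ih =>
      intro m
      induction m using Int.induction_on with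
      | zero =>
        rw [Int.cast_zero, rescale_zero_apply, constantCoeff_exp, map_one, one_mul, htodd,
          zero_add, Ring.choose_natCast, Nat.choose_self, Nat.cast_one, Int.cast_one]
      | succ k hk =>
        rw [Ra f hf (k : ℤ) n, hk, ih, Rb, Int.cast_add]
      | pred k hk =>
        have h1 := Ra f hf (-(k : ℤ) - 1) n
        rw [sub_add_cancel] at h1
        rw [hk, ih] at h1
        have h2 := Rb (-(k : ℤ) - 1) n
        rw [sub_add_cancel] at h2
        have h3 := congrArg (Int.cast : ℤ → ℚ) h2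
        rw [Int.cast_add] at h3
        linarith
  exact hall n m

end Groth.Agent.Lib.ToddBinom
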