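import Mathlib.NumberTheory.Bernoulli
import Mathlib.RingTheory.PowerSeries.Inverse
import Mathlib.Tactic.LinearCombination
import Mathlib.Tactic.Ring
import Mathlib.Tactic.Linarith

/-!
# Low-order coefficients ("jets") of power series and the Todd-class integrand

helper2's library for the `MoretBailly` statements: coefficient formulas for products and inverses
in low degree, the functional equation `B(-y) e^y = B(y)` of the Bernoulli series, and the
decomposition of the Todd integrand `B(-dx)⁻¹ B(-dpx) B(x)^(n+1) e^((dp-d-n-1+s)x)` as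
`B(dpx) · C(x)` with `C` independent of `p`.
-/

set_option autoImplicit false

namespace Groth.Agent.Todd

open PowerSeries

section jets
variable {R : Type*} [CommRing R]

lemma coeff_zero_mul' (f g : R⟦X⟧) : coeff 0 (f * g) = coeff 0 f * coeff 0 g := by
  rw [coeff_mul, Finset.Nat.sum_antidiagonal_eq_sum_range_succ_mk]
  simp [Finset.sum_range_succ]

lemma coeff_one_mul' (f g : R⟦X⟧) :
    coeff 1 (f * g) = coeff 0 f * coeff 1 g + coeff 1 f * coeff 0 g := by
  rw [coeff_mul, Finset.Nat.sum_antidiagonal_eq_sum_range_succ_mk]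
  simp [Finset.sum_range_succ]

lemma coeff_two_mul' (f g : R⟦X⟧) :
    coeff 2 (f * g) = coeff 0 f * coeff 2 g + coeff 1 f * coeff 1 g + coeff 2 f * coeff 0 g := by
  rw [coeff_mul, Finset.Nat.sum_antidiagonal_eq_sum_range_succ_mk]
  simp [Finset.sum_range_succ]

lemma coeff_three_mul' (f g : R⟦X⟧) :
    coeff 3 (f * g) = coeff 0 f * coeff 3 g + coeff 1 f * coeff 2 g + coeff 2 f * coeff 1 g
      + coeff 3 f * coeff 0 g := by
  rw [coeff_mul, Finset.Nat.sum_antidiagonal_eq_sum_range_succ_mk]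
  simp [Finset.sum_range_succ]

end jets

lemma inv_jets {k : Type*} [Field k] (f : k⟦X⟧) (h0 : coeff 0 f = 1) :
    coeff 0 f⁻¹ = 1 ∧ coeff 1 f⁻¹ = -coeff 1 f ∧ coeff 2 f⁻¹ = (coeff 1 f) ^ 2 - coeff 2 f ∧
    coeff 3 f⁻¹ = -coeff 3 f + 2 * coeff 1 f * coeff 2 f - (coeff 1 f) ^ 3 := by
  have hc : constantCoeff f ≠ 0 := by
    rw [← coeff_zero_eq_constantCoeff_apply, h0]; exact one_ne_zero
  have hmul : f * f⁻¹ = 1 := PowerSeries.mul_inv_cancel f hc
  have e0 := congrArg (coeff 0) hmul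
  have e1 := congrArg (coeff 1) hmul
  have e2 := congrArg (coeff 2) hmul
  have e3 := congrArg (coeff 3) hmul
  rw [coeff_zero_mul', h0, one_mul] at e0
  rw [coeff_one_mul', h0] at e1
  rw [coeff_two_mul', h0] at e2
  rw [coeff_three_mul', h0] at e3
  have o0 : coeff 0 (1 : k⟦X⟧) = 1 := by simp
  have o1 : coeff 1 (1 : k⟦X⟧) = 0 := by simp [coeff_one]
  have o2 : coeff 2 (1 : k⟦X⟧) = 0 := by simp [coeff_one]
  have o3 : coeff 3 (1 : k⟦X⟧) = 0 := by simp [coeff_one]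
  rw [o0] at e0; rw [o1] at e1; rw [o2] at e2; rw [o3] at e3
  have g0 : coeff 0 f⁻¹ = 1 := e0
  have g1 : coeff 1 f⁻¹ = -coeff 1 f := by rw [g0] at e1; linear_combination e1
  have g2 : coeff 2 f⁻¹ = (coeff 1 f) ^ 2 - coeff 2 f := by
    rw [g0, g1] at e2; linear_combination e2
  have g3 : coeff 3 f⁻¹ = -coeff 3 f + 2 * coeff 1 f * coeff 2 f - (coeff 1 f) ^ 3 := by
    rw [g0, g1, g2] at e3; linear_combination e3
  exact ⟨g0, g1, g2, g3⟩

/-- coefficients of the Bernoulli series -/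
lemma coeff_bernoulli' (n : ℕ) :
    coeff n (bernoulli'PowerSeries ℚ) = bernoulli' n / (n.factorial : ℚ) := by
  simp [bernoulli'PowerSeries]

lemma coeff_zero_bern : coeff 0 (bernoulli'PowerSeries ℚ) = 1 := by
  rw [coeff_bernoulli']; simp
lemma coeff_one_bern : coeff 1 (bernoulli'PowerSeries ℚ) = 1 / 2 := by
  rw [coeff_bernoulli']; simp
lemma coeff_two_bern : coeff 2 (bernoulli'PowerSeries ℚ) = 1 / 12 := by
  rw [coeff_bernoulli', bernoulli'_two]; norm_num [Nat.factorial]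
lemma coeff_three_bern : coeff 3 (bernoulli'PowerSeries ℚ) = 0 := by
  rw [coeff_bernoulli', bernoulli'_three]; simp

lemma coeff_zero_exp : coeff 0 (exp ℚ) = 1 := by rw [coeff_exp]; simp
lemma coeff_one_exp : coeff 1 (exp ℚ) = 1 := by rw [coeff_exp]; simp
lemma coeff_two_exp : coeff 2 (exp ℚ) = 1 / 2 := by rw [coeff_exp]; norm_num [Nat.factorial]
lemma coeff_three_exp : coeff 3 (exp ℚ) = 1 / 6 := by rw [coeff_exp]; norm_num [Nat.factorial]

/-- `B(-y) e^y = B(y)`. -/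
lemma bern_neg_mul_exp :
    rescale (-1 : ℚ) (bernoulli'PowerSeries ℚ) * exp ℚ = bernoulli'PowerSeries ℚ := by
  have h1 := bernoulli'PowerSeries_mul_exp_sub_one ℚ
  have h2 := congrArg (rescale (-1 : ℚ)) h1
  rw [map_mul, map_sub, map_one, map_mul, rescale_neg_one_X] at h2
  have h3 : exp ℚ * rescale (-1 : ℚ) (exp ℚ) = 1 := exp_mul_exp_neg_eq_one (A := ℚ)
  set Bm := rescale (-1 : ℚ) (bernoulli'PowerSeries ℚ) with hBm
  set Em := rescale (-1 : ℚ) (exp ℚ) with hEm
  have hne : (exp ℚ - 1 : ℚ⟦X⟧) ≠ 0 := by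
    intro h
    have h' := congrArg (coeff 1) h
    rw [map_sub, coeff_one_exp] at h'
    simp [coeff_one] at h'
  apply mul_right_cancel₀ hne
  rw [h1]
  have h4 : Bm * (1 - exp ℚ) = -X := by
    have h5 := congrArg (· * exp ℚ) h2
    calc Bm * (1 - exp ℚ) = Bm * (Em - 1) * exp ℚ := by
          rw [mul_assoc, sub_mul, mul_comm Em (exp ℚ), h3, one_mul]
      _ = -X * Em * exp ℚ := h5
      _ = -X := by rw [mul_assoc, mul_comm Em (exp ℚ), h3, mul_one]
  linear_combination (-(exp ℚ)) * h4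

lemma bern_rescale_neg_mul_exp (a : ℚ) :
    rescale (-a) (bernoulli'PowerSeries ℚ) * rescale a (exp ℚ)
      = rescale a (bernoulli'PowerSeries ℚ) := by
  have h := congrArg (rescale a) bern_neg_mul_exp
  rw [map_mul, rescale_rescale, neg_one_mul] at h
  exact h

/-- the `p`-independent factor of the Todd integrand -/
noncomputable def Cfac (n d : ℕ) (s : ℤ) : ℚ⟦X⟧ :=
  (rescale (-(d : ℚ)) (bernoulli'PowerSeries ℚ))⁻¹ * bernoulli'PowerSeries ℚ ^ (n + 1) *
    rescale (-(d : ℚ) - n - 1 + s) (exp ℚ)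

lemma todd_eq (n d p : ℕ) (s : ℤ) :
    (rescale (-(d : ℚ)) (bernoulli'PowerSeries ℚ))⁻¹ *
        rescale (-((d : ℚ) * p)) (bernoulli'PowerSeries ℚ) * bernoulli'PowerSeries ℚ ^ (n + 1) *
        rescale ((d : ℚ) * p - d - n - 1 + s) (exp ℚ)
      = rescale ((d : ℚ) * p) (bernoulli'PowerSeries ℚ) * Cfac n d s := by
  have e : (d : ℚ) * p - d - n - 1 + s = (d : ℚ) * p + (-(d : ℚ) - n - 1 + s) := by ring
  rw [e, ← exp_mul_exp_eq_exp_add, ← bern_rescale_neg_mul_exp ((d : ℚ) * p)]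
  unfold Cfac
  ring

lemma coeff_rescale_bern_mul (a : ℚ) (C : ℚ⟦X⟧) (n : ℕ) :
    coeff n (rescale a (bernoulli'PowerSeries ℚ) * C)
      = ∑ k ∈ Finset.range (n + 1),
          a ^ k * (bernoulli' k / (k.factorial : ℚ)) * coeff (n - k) C := by
  rw [coeff_mul, Finset.Nat.sum_antidiagonal_eq_sum_range_succ_mk]
  refine Finset.sum_congr rfl (fun k _ => ?_)
  rw [coeff_rescale, coeff_bernoulli']

lemma coeff_zero_rescale_bern (a : ℚ) : coeff 0 (rescale a (bernoulli'PowerSeries ℚ)) = 1 := by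
  rw [coeff_rescale, coeff_zero_bern]; simp
lemma coeff_one_rescale_bern (a : ℚ) :
    coeff 1 (rescale a (bernoulli'PowerSeries ℚ)) = a / 2 := by
  rw [coeff_rescale, coeff_one_bern]; ring
lemma coeff_two_rescale_bern (a : ℚ) :
    coeff 2 (rescale a (bernoulli'PowerSeries ℚ)) = a ^ 2 / 12 := by
  rw [coeff_rescale, coeff_two_bern]; ring
lemma coeff_three_rescale_bern (a : ℚ) :
    coeff 3 (rescale a (bernoulli'PowerSeries ℚ)) = 0 := by
  rw [coeff_rescale, coeff_three_bern]; ring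

lemma coeff_zero_rescale_exp (a : ℚ) : coeff 0 (rescale a (exp ℚ)) = 1 := by
  rw [coeff_rescale, coeff_zero_exp]; simp
lemma coeff_one_rescale_exp (a : ℚ) : coeff 1 (rescale a (exp ℚ)) = a := by
  rw [coeff_rescale, coeff_one_exp]; ring
lemma coeff_two_rescale_exp (a : ℚ) : coeff 2 (rescale a (exp ℚ)) = a ^ 2 / 2 := by
  rw [coeff_rescale, coeff_two_exp]; ring
lemma coeff_three_rescale_exp (a : ℚ) : coeff 3 (rescale a (exp ℚ)) = a ^ 3 / 6 := by
  rw [coeff_rescale, coeff_three_exp]; ring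

lemma inv_rescale_bern_jets (a : ℚ) :
    coeff 0 (rescale a (bernoulli'PowerSeries ℚ))⁻¹ = 1 ∧
    coeff 1 (rescale a (bernoulli'PowerSeries ℚ))⁻¹ = -a / 2 ∧
    coeff 2 (rescale a (bernoulli'PowerSeries ℚ))⁻¹ = a ^ 2 / 6 ∧
    coeff 3 (rescale a (bernoulli'PowerSeries ℚ))⁻¹ = -a ^ 3 / 24 := by
  obtain ⟨g0, g1, g2, g3⟩ := inv_jets (rescale a (bernoulli'PowerSeries ℚ))
    (coeff_zero_rescale_bern a)
  rw [coeff_one_rescale_bern] at g1
  rw [coeff_one_rescale_bern, coeff_two_rescale_bern] at g2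
  rw [coeff_one_rescale_bern, coeff_two_rescale_bern, coeff_three_rescale_bern] at g3
  refine ⟨g0, ?_, ?_, ?_⟩
  · rw [g1]; ring
  · rw [g2]; ring
  · rw [g3]; ring

lemma coeff_zero_bern_pow (m : ℕ) : coeff 0 (bernoulli'PowerSeries ℚ ^ m) = 1 := by
  rw [coeff_zero_eq_constantCoeff_apply, map_pow, ← coeff_zero_eq_constantCoeff_apply,
    coeff_zero_bern, one_pow]

lemma coeff_one_bern_pow (m : ℕ) : coeff 1 (bernoulli'PowerSeries ℚ ^ m) = (m : ℚ) / 2 := by
  rw [coeff_one_pow, ← coeff_zero_eq_constantCoeff_apply, coeff_zero_bern, coeff_one_bern, one_pow]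
  ring

lemma coeff_zero_Cfac (n d : ℕ) (s : ℤ) : coeff 0 (Cfac n d s) = 1 := by
  unfold Cfac
  rw [coeff_zero_mul', coeff_zero_mul', (inv_rescale_bern_jets _).1, coeff_zero_bern_pow,
    coeff_zero_rescale_exp]
  norm_num

lemma coeff_one_Cfac (n d : ℕ) (s : ℤ) :
    coeff 1 (Cfac n d s) = (2 * (s : ℚ) - d - n - 1) / 2 := by
  unfold Cfac
  rw [coeff_one_mul', coeff_zero_mul', coeff_one_mul', (inv_rescale_bern_jets _).1,
    (inv_rescale_bern_jets _).2.1, coeff_zero_bern_pow, coeff_one_bern_pow,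
    coeff_zero_rescale_exp, coeff_one_rescale_exp]
  push_cast
  ring

/-- The coefficient of `x^(m+2)` of the Todd integrand, as a polynomial in `p`. -/
theorem todd_coeff_poly (m d : ℕ) (s : ℤ) :
    ∃ P : Polynomial ℚ, P.natDegree ≤ m ∧ ∀ p : ℕ,
      coeff (m + 2) (rescale ((d : ℚ) * p) (bernoulli'PowerSeries ℚ) * Cfac (m + 2) d s) =
        bernoulli' (m + 2) * ((d : ℚ) * p) ^ (m + 2) / ((m + 2).factorial : ℚ) +
          (2 * (s : ℚ) - d - ((m + 2 : ℕ) : ℚ) - 1) / 2 * bernoulli' (m + 1) *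
            ((d : ℚ) * p) ^ (m + 1) / ((m + 1).factorial : ℚ) +
          P.eval (p : ℚ) := by
  refine ⟨∑ k ∈ Finset.range (m + 1),
      Polynomial.C ((d : ℚ) ^ k * (bernoulli' k / (k.factorial : ℚ)) *
        coeff (m + 2 - k) (Cfac (m + 2) d s)) * Polynomial.X ^ k, ?_, ?_⟩
  · refine Polynomial.natDegree_sum_le_of_forall_le _ _ (fun k hk => ?_)
    refine (Polynomial.natDegree_C_mul_X_pow_le _ _).trans ?_
    have := Finset.mem_range.mp hk
    omega
  · intro p
    rw [coeff_rescale_bern_mul, Finset.sum_range_succ, Finset.sum_range_succ]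
    have e1 : m + 2 - (m + 1) = 1 := by omega
    have e2 : m + 2 - (m + 2) = 0 := by omega
    rw [e1, e2, coeff_zero_Cfac, coeff_one_Cfac, Polynomial.eval_finsetSum]
    have e3 : ∀ k ∈ Finset.range (m + 1),
        ((d : ℚ) * p) ^ k * (bernoulli' k / (k.factorial : ℚ)) *
            coeff (m + 2 - k) (Cfac (m + 2) d s)
          = Polynomial.eval (p : ℚ) (Polynomial.C ((d : ℚ) ^ k * (bernoulli' k / (k.factorial : ℚ)) *
              coeff (m + 2 - k) (Cfac (m + 2) d s)) * Polynomial.X ^ k) := by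
      intro k _
      rw [Polynomial.eval_mul, Polynomial.eval_C, Polynomial.eval_pow, Polynomial.eval_X, mul_pow]
      ring
    rw [Finset.sum_congr rfl e3]
    ring

/-- eventual negativity of `c p^(m+1) + P(p)` for `c < 0`, `deg P ≤ m`. -/
lemma eventually_neg (c : ℚ) (hc : c < 0) (m : ℕ) (P : Polynomial ℚ) (hP : P.natDegree ≤ m) :
    ∃ N : ℕ, ∀ p : ℕ, N ≤ p → c * (p : ℚ) ^ (m + 1) + P.eval (p : ℚ) < 0 := by
  set K : ℚ := ∑ i ∈ Finset.range (m + 1), |P.coeff i| with hK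
  have hK0 : 0 ≤ K := Finset.sum_nonneg (fun i _ => abs_nonneg _)
  obtain ⟨N, hN⟩ := exists_nat_gt (K / (-c))
  refine ⟨max N 1, fun p hp => ?_⟩
  have hp1 : (1 : ℚ) ≤ (p : ℚ) := by
    have : 1 ≤ p := le_trans (le_max_right N 1) hp
    exact_mod_cast this
  have hpN : K / (-c) < (p : ℚ) := by
    have : N ≤ p := le_trans (le_max_left N 1) hp
    have : (N : ℚ) ≤ (p : ℚ) := by exact_mod_cast this
    linarith
  have hpos : (0 : ℚ) < (p : ℚ) ^ m := by positivity
  have heval : P.eval (p : ℚ) ≤ K * (p : ℚ) ^ m := by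
    rw [Polynomial.eval_eq_sum_range' (Nat.lt_succ_of_le hP), hK, Finset.sum_mul]
    refine Finset.sum_le_sum (fun i hi => ?_)
    have hi' : i ≤ m := Nat.lt_succ_iff.mp (Finset.mem_range.mp hi)
    calc P.coeff i * (p : ℚ) ^ i ≤ |P.coeff i| * (p : ℚ) ^ i :=
          mul_le_mul_of_nonneg_right (le_abs_self _) (by positivity)
      _ ≤ |P.coeff i| * (p : ℚ) ^ m :=
          mul_le_mul_of_nonneg_left (pow_le_pow_right₀ hp1 hi') (abs_nonneg _)
  have hlin : c * (p : ℚ) + K < 0 := by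
    have hc' : 0 < -c := by linarith
    have := (div_lt_iff₀ hc').mp hpN
    linarith
  have : c * (p : ℚ) ^ (m + 1) + K * (p : ℚ) ^ m = (c * (p : ℚ) + K) * (p : ℚ) ^ m := by ring
  have h2 : (c * (p : ℚ) + K) * (p : ℚ) ^ m < 0 := mul_neg_of_neg_of_pos hlin hpos
  linarith

lemma coeff_zero_inv_rescale_bern (a : ℚ) :
    coeff 0 (rescale a (bernoulli'PowerSeries ℚ))⁻¹ = 1 := (inv_rescale_bern_jets a).1
lemma coeff_one_inv_rescale_bern (a : ℚ) :
    coeff 1 (rescale a (bernoulli'PowerSeries ℚ))⁻¹ = -a / 2 := (inv_rescale_bern_jets a).2.1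
lemma coeff_two_inv_rescale_bern (a : ℚ) :
    coeff 2 (rescale a (bernoulli'PowerSeries ℚ))⁻¹ = a ^ 2 / 6 := (inv_rescale_bern_jets a).2.2.1
lemma coeff_three_inv_rescale_bern (a : ℚ) :
    coeff 3 (rescale a (bernoulli'PowerSeries ℚ))⁻¹ = -a ^ 3 / 24 := (inv_rescale_bern_jets a).2.2.2

end Groth.Agent.Todd
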