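import Mathlib

/-!
# Colimits in `TopCommRingCat` (lead)
-/

open CategoryTheory CategoryTheory.Limits

namespace Groth.Agent.TopCommRingColim

universe u

noncomputable section

variable {J : Type u} [Category.{u} J] (F : J ⥤ TopCommRingCat.{u})

/-- the underlying diagram of rings -/
abbrev G : J ⥤ CommRingCat.{u} := F ⋙ forget₂ TopCommRingCat.{u} CommRingCat.{u}

/-- underlying ring of the colimit -/
abbrev C : CommRingCat.{u} := colimit (G F)

/-- structure maps as ring homs -/
def ιr (j : J) : F.obj j →+* C F := (colimit.ι (G F) j).hom

/-- the ring topologies making all structure maps continuous -/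
def S : Set (TopologicalSpace (C F)) :=
  {t | @IsTopologicalRing (C F) t _ ∧
    ∀ j, @Continuous _ _ (F.obj j).isTopologicalSpace t (ιr F j)}

/-- the finest ring topology making all structure maps continuous -/
def topo : TopologicalSpace (C F) := sInf (S F)

theorem isTopRing : @IsTopologicalRing (C F) (topo F) _ :=
  let _ := topo F
  { toContinuousAdd := continuousAdd_sInf fun _ ht => ht.1.toContinuousAdd
    toContinuousMul := continuousMul_sInf fun _ ht => ht.1.toContinuousMul
    toContinuousNeg := continuousNeg_sInf fun _ ht => ht.1.toContinuousNeg }

def colimPt : TopCommRingCat.{u} :=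
  @TopCommRingCat.of (C F) _ (topo F) (isTopRing F)

theorem continuous_ιr (j : J) :
    @Continuous _ _ (F.obj j).isTopologicalSpace (topo F) (ιr F j) :=
  continuous_sInf_rng.2 fun _ ht => ht.2 j

def colimCocone : Cocone F where
  pt := colimPt F
  ι :=
    { app := fun j => ⟨ιr F j, continuous_ιr F j⟩
      naturality := fun j j' f => by
        apply Subtype.ext
        refine RingHom.ext fun x => ?_
        exact ConcreteCategory.congr_hom (colimit.w (G F) f) x }

def descRing (s : Cocone F) : C F →+* s.pt :=
  (colimit.desc (G F) ((forget₂ TopCommRingCat.{u} CommRingCat.{u}).mapCocone s)).hom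

theorem descRing_ι (s : Cocone F) (j : J) (x : F.obj j) :
    descRing F s (ιr F j x) = (s.ι.app j).val x :=
  ConcreteCategory.congr_hom
    (colimit.ι_desc ((forget₂ TopCommRingCat.{u} CommRingCat.{u}).mapCocone s) j) x

theorem continuous_descRing (s : Cocone F) :
    @Continuous _ _ (topo F) s.pt.isTopologicalSpace (descRing F s) := by
  rw [continuous_iff_le_induced]
  apply sInf_le
  refine ⟨?_, fun j => ?_⟩
  · letI : TopologicalSpace (C F) :=
      TopologicalSpace.induced (descRing F s) s.pt.isTopologicalSpace
    have hind : Topology.IsInducing (descRing F s) := ⟨rfl⟩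
    haveI : ContinuousAdd (C F) := Topology.IsInducing.continuousAdd (descRing F s) hind
    haveI : ContinuousMul (C F) := Topology.IsInducing.continuousMul (descRing F s) hind
    haveI : ContinuousNeg (C F) :=
      Topology.IsInducing.continuousNeg hind (map_neg (descRing F s))
    exact { continuous_add := continuous_add, continuous_mul := continuous_mul,
            continuous_neg := continuous_neg }
  · apply continuous_induced_rng.2
    have : (descRing F s) ∘ (ιr F j) = (s.ι.app j).val := funext (descRing_ι F s j)
    rw [this]
    exact (s.ι.app j).2

def colimIsColimit : IsColimit (colimCocone F) where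
  desc s := ⟨descRing F s, continuous_descRing F s⟩
  fac s j := by
    apply Subtype.ext
    exact RingHom.ext fun x => descRing_ι F s j x
  uniq s m h := by
    apply Subtype.ext
    have key : (CommRingCat.ofHom m.val : colimit (G F) ⟶ CommRingCat.of s.pt) =
        colimit.desc (G F) ((forget₂ TopCommRingCat.{u} CommRingCat.{u}).mapCocone s) := by
      apply colimit.hom_ext
      intro j
      refine Eq.trans ?_ (colimit.ι_desc
        ((forget₂ TopCommRingCat.{u} CommRingCat.{u}).mapCocone s) j).symm
      apply ConcreteCategory.hom_ext
      intro x
      exact congrArg (fun g : F.obj j ⟶ s.pt => g.val x) (h j)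
    exact congrArg CommRingCat.Hom.hom key

def colimIsColimitRing :
    IsColimit ((forget₂ TopCommRingCat.{u} CommRingCat.{u}).mapCocone (colimCocone F)) :=
  IsColimit.ofIsoColimit (colimit.isColimit (G F))
    (Cocone.ext (Iso.refl _) (fun j => (Category.comp_id _).trans rfl))

theorem hasColimits_and_preserves :
    HasColimits TopCommRingCat.{u} ∧
    PreservesColimits (forget₂ TopCommRingCat.{u} CommRingCat.{u}) := by
  refine ⟨?_, ?_⟩
  · exact { has_colimits_of_shape := fun J _ =>
      { has_colimit := fun F => HasColimit.mk ⟨colimCocone F, colimIsColimit F⟩ } }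
  · exact { preservesColimitsOfShape :=
      { preservesColimit := preservesColimit_of_preserves_colimit_cocone (colimIsColimit _)
          (colimIsColimitRing _) } }

end

end Groth.Agent.TopCommRingColim
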