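import Mathlib

/-!
# Limits and colimits in `TopCommRingCat` (lead)
-/

open CategoryTheory CategoryTheory.Limits

namespace Groth.Agent.TopCommRingLim

universe u

variable {J : Type u} [Category.{u} J] (F : J ⥤ TopCommRingCat.{u})

/-- compatible families, as a subring of the product ring -/
def sections : Subring (∀ j, F.obj j) where
  carrier := {x | ∀ (j j' : J) (f : j ⟶ j'), (F.map f).val (x j) = x j'}
  mul_mem' := by
    intro a b ha hb j j' f
    show (F.map f).val (a j * b j) = a j' * b j'
    rw [map_mul, ha j j' f, hb j j' f]
  one_mem' := by
    intro j j' f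
    show (F.map f).val 1 = 1
    exact map_one _
  add_mem' := by
    intro a b ha hb j j' f
    show (F.map f).val (a j + b j) = a j' + b j'
    rw [map_add, ha j j' f, hb j j' f]
  zero_mem' := by
    intro j j' f
    show (F.map f).val 0 = 0
    exact map_zero _
  neg_mem' := by
    intro a ha j j' f
    show (F.map f).val (-(a j)) = -(a j')
    rw [map_neg, ha j j' f]

theorem mem_sections (x : ∀ j, F.obj j) :
    x ∈ sections F ↔ ∀ (j j' : J) (f : j ⟶ j'), (F.map f).val (x j) = x j' := Iff.rfl

def limPt : TopCommRingCat.{u} := TopCommRingCat.of (sections F)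

def limCone : Cone F where
  pt := limPt F
  π :=
    { app := fun j => ⟨(Pi.evalRingHom (fun j => F.obj j) j).comp (sections F).subtype,
        (continuous_apply j).comp continuous_subtype_val⟩
      naturality := fun j j' f => by
        apply Subtype.ext
        refine RingHom.ext fun x => ?_
        exact ((mem_sections F x.1).1 x.2 j j' f).symm }

def limLift (s : Cone F) : s.pt ⟶ limPt F :=
  ⟨RingHom.codRestrict (RingHom.pi fun j => (s.π.app j).val) (sections F)
      (fun x => (mem_sections F (fun j => (s.π.app j).val x)).2 fun j j' f =>
        congrArg (fun g : s.pt ⟶ F.obj j' => g.val x) (s.w f)),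
    by
      apply continuous_induced_rng.2
      exact continuous_pi fun j => (s.π.app j).2⟩

def limIsLimit : IsLimit (limCone F) where
  lift s := limLift F s
  fac s j := by
    apply Subtype.ext
    refine RingHom.ext fun x => ?_
    rfl
  uniq s m h := by
    apply Subtype.ext
    refine RingHom.ext fun x => ?_
    apply Subtype.ext
    funext j
    exact congrArg (fun g : s.pt ⟶ F.obj j => g.val x) (h j)

def limIsLimitTop :
    IsLimit ((forget₂ TopCommRingCat.{u} TopCat.{u}).mapCone (limCone F)) where
  lift s := TopCat.ofHom ⟨fun x => ⟨fun j => (s.π.app j) x,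
      (mem_sections F _).2 fun j j' f => ConcreteCategory.congr_hom (s.w f) x⟩,
    by
      apply continuous_induced_rng.2
      exact continuous_pi fun j => (s.π.app j).hom.continuous⟩
  fac s j := by
    apply ConcreteCategory.hom_ext
    intro x
    rfl
  uniq s m h := by
    apply ConcreteCategory.hom_ext
    intro x
    apply Subtype.ext
    funext j
    exact ConcreteCategory.congr_hom (h j) x

def limIsLimitRing :
    IsLimit ((forget₂ TopCommRingCat.{u} CommRingCat.{u}).mapCone (limCone F)) where
  lift s := CommRingCat.ofHom (RingHom.codRestrict
      (RingHom.pi fun j => ((s.π.app j).hom : s.pt →+* F.obj j)) (sections F)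
      (fun x => (mem_sections F (fun j => ((s.π.app j).hom : s.pt →+* F.obj j) x)).2
        fun j j' f => ConcreteCategory.congr_hom (s.w f) x))
  fac s j := by
    apply ConcreteCategory.hom_ext
    intro x
    rfl
  uniq s m h := by
    apply ConcreteCategory.hom_ext
    intro x
    apply Subtype.ext
    funext j
    exact ConcreteCategory.congr_hom (h j) x

theorem hasLimits_and_preserves :
    HasLimits TopCommRingCat.{u} ∧
    PreservesLimits (forget₂ TopCommRingCat.{u} TopCat.{u}) ∧
    PreservesLimits (forget₂ TopCommRingCat.{u} CommRingCat.{u}) := by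
  refine ⟨?_, ?_, ?_⟩
  · exact { has_limits_of_shape := fun J _ =>
      { has_limit := fun F => HasLimit.mk ⟨limCone F, limIsLimit F⟩ } }
  · exact { preservesLimitsOfShape :=
      { preservesLimit := preservesLimit_of_preserves_limit_cone (limIsLimit _)
          (limIsLimitTop _) } }
  · exact { preservesLimitsOfShape :=
      { preservesLimit := preservesLimit_of_preserves_limit_cone (limIsLimit _)
          (limIsLimitRing _) } }

end Groth.Agent.TopCommRingLim
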