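import Mathlib
import Groth.Prelude.Def_CohTop
import Groth.Agent.Lib.PBCTop3_helper2
import Groth.Agent.Lib.Leray_helper9
import Groth.Agent.Lib.FlasqueAcyclic_helper2

/-!
# Descent along closed finite covers of topological spaces, part A (helper7)

General facts on abelian sheaves on topological spaces: inverse image along a surjective map
reflects zero objects; sheaves on discrete spaces are flasque; higher direct images along a proper
separated map with finite fibres vanish, hence `H^q(X, b_* G) ≅ H^q(W, G)`.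
-/

set_option autoImplicit false
set_option backward.isDefEq.respectTransparency false
set_option backward.isDefEq.respectTransparency.types false
set_option linter.style.haveILetI false
set_option linter.unusedSectionVars false
universe u
open CategoryTheory CategoryTheory.Limits TopologicalSpace Opposite

namespace Groth.Agent.Lib.TopDescH7

open Groth.Agent.Lib.TopPullStalk_helper7 Groth.Agent.Lib.SoftCompact_helper7
  Groth.Agent.Lib.SoftCompact2_helper7 Groth.Agent.Lib.SoftH2

/-! ### Exactness of the inverse image -/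

theorem pfl_pull {Z Y : TopCat.{u}} (f : Z ⟶ Y) : PreservesFiniteLimits (CohTop.pull f) :=
  Leray.preservesFiniteLimits_pull f

theorem pfc_pull {Z Y : TopCat.{u}} (f : Z ⟶ Y) : PreservesFiniteColimits (CohTop.pull f) := by
  haveI : PreservesColimitsOfSize.{0, 0} (CohTop.pull f) :=
    (pbAdj f).leftAdjoint_preservesColimits
  exact PreservesColimitsOfSize.preservesFiniteColimits _

/-! ### Sections -/

lemma sec_bot {Y : TopCat.{u}} (G : CohTop.Ab Y) (V : Opens Y) (hV : V ≤ ⊥)
    (s t : G.obj.obj (op V)) : s = t :=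
  TopCat.Sheaf.eq_of_locally_eq' (F := G) (fun k : PEmpty.{1} => k.elim) V (fun k => k.elim)
    (hV.trans bot_le) s t (fun k => k.elim)

lemma sec_eq_zero_of_isZero {Y : TopCat.{u}} (G : CohTop.Ab Y) (h : IsZero G) (U : Opens Y)
    (s : G.obj.obj (op U)) : s = 0 := by
  have h0 : IsZero (((sheafToPresheaf (Opens.grothendieckTopology Y) AddCommGrpCat.{u}) ⋙
      (evaluation _ _).obj (op U)).obj G) :=
    Functor.map_isZero _ h
  haveI : Subsingleton (G.obj.obj (op U)) := AddCommGrpCat.subsingleton_of_isZero h0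
  exact Subsingleton.elim _ _

/-! ### `f⁻¹` reflects zero objects for surjective `f` -/

theorem isZero_of_isZero_pull {Z Y : TopCat.{u}} (f : Z ⟶ Y) (hf : Function.Surjective f)
    (A : CohTop.Ab Y) (h : IsZero ((CohTop.pull f).obj A)) : IsZero A := by
  apply Groth.Agent.Lib.PBCTopH2.isZero_of_stalks
  intro y
  obtain ⟨z, rfl⟩ := hf y
  have hb := (c_bijective f A z).1
  have key : ∀ t : ToType ((P f A).presheaf.stalk z), t = 0 := by
    intro t
    obtain ⟨U, hU, s, rfl⟩ := TopCat.Presheaf.exists_germ_eq (P f A).presheaf t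
    have hs : s = 0 := sec_eq_zero_of_isZero ((CohTop.pull f).obj A) h U s
    rw [hs, map_zero]
  haveI : Subsingleton (CohTop.stalk A (f z)) := by
    refine ⟨fun a b => hb ?_⟩
    rw [key (c f A z a), key (c f A z b)]
  exact AddCommGrpCat.isZero_of_subsingleton _

/-! ### Sheaves on discrete spaces are flasque -/

theorem isFlasque_of_discrete (Z : TopCat.{u}) [DiscreteTopology Z] (G : CohTop.Ab Z) :
    TopCat.Sheaf.IsFlasque G := by
  refine ⟨fun {U V} i => ?_⟩
  rw [AddCommGrpCat.epi_iff_surjective]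
  intro t
  have hle : V.unop ≤ U.unop := leOfHom i.unop
  let C : Opens Z := ⟨(U.unop : Set Z) \ (V.unop : Set Z), isOpen_discrete _⟩
  have hinf : V.unop ⊓ C ≤ ⊥ := by
    intro x hx
    exact hx.2.2 hx.1
  have hsup : U.unop ≤ V.unop ⊔ C := by
    intro x hx
    by_cases hxV : x ∈ V.unop
    · exact Or.inl hxV
    · exact Or.inr ⟨hx, hxV⟩
  obtain ⟨s, hs1, -⟩ := glue2 G t (0 : G.obj.obj (op C)) (sec_bot G _ hinf _ _)
  refine ⟨rs G hsup s, ?_⟩
  have h1 : G.obj.map i (rs G hsup s) = rs G hle (rs G hsup s) := rfl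
  rw [h1, rs_rs]
  exact hs1

/-! ### Vanishing of higher direct images along proper maps with finite fibres -/

theorem isZero_Rpush_succ {W X : TopCat.{u}} (b : W ⟶ X) (hb : IsProperMap b)
    (hs : ∀ x x' : W, b x = b x' → x ≠ x' →
      ∃ U V : Set W, IsOpen U ∧ IsOpen V ∧ x ∈ U ∧ x' ∈ V ∧ Disjoint U V)
    (hfin : ∀ x : X, (b ⁻¹' {x}).Finite) (G : CohTop.Ab W) (q : ℕ) :
    IsZero ((CohTop.Rpush b (q + 1)).obj G) := by
  apply Groth.Agent.Lib.PBCTopH2.isZero_of_stalks
  intro y
  obtain ⟨e⟩ := Groth.Agent.Lib.StalkRpushH2.main b hb hs y G (q + 1)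
  refine IsZero.of_iso ?_ e
  haveI : Finite ↑(TopCat.of (b ⁻¹' {y})) := (hfin y).to_subtype
  haveI : T2Space ↑(TopCat.of (b ⁻¹' {y})) := ⟨fun a c hac => by
    have h1 : b a.1 = b c.1 := a.2.trans c.2.symm
    obtain ⟨U, V, hU, hV, haU, hcV, hUV⟩ := hs a.1 c.1 h1 (fun h => hac (Subtype.ext h))
    exact ⟨Subtype.val ⁻¹' U, Subtype.val ⁻¹' V, hU.preimage continuous_subtype_val,
      hV.preimage continuous_subtype_val, haU, hcV, hUV.preimage _⟩⟩
  haveI : DiscreteTopology ↑(TopCat.of (b ⁻¹' {y})) := inferInstance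
  haveI := isFlasque_of_discrete (TopCat.of (b ⁻¹' {y})) ((CohTop.pull (iK (b ⁻¹' {y}))).obj G)
  haveI : Subsingleton (Psi (iK (b ⁻¹' {y})) G (q + 1)) :=
    ⟨fun a c => (Groth.Agent.Lib.FlasqueAcyclic.H_eq_zero_of_isFlasque _ q a).trans
      (Groth.Agent.Lib.FlasqueAcyclic.H_eq_zero_of_isFlasque _ q c).symm⟩
  exact AddCommGrpCat.isZero_of_subsingleton _

theorem nonempty_H_push_iso {W X : TopCat.{u}} (b : W ⟶ X) (hb : IsProperMap b)
    (hs : ∀ x x' : W, b x = b x' → x ≠ x' →
      ∃ U V : Set W, IsOpen U ∧ IsOpen V ∧ x ∈ U ∧ x' ∈ V ∧ Disjoint U V)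
    (hfin : ∀ x : X, (b ⁻¹' {x}).Finite) (G : CohTop.Ab W) (q : ℕ) :
    Nonempty (AddCommGrpCat.of (CohTop.H ((CohTop.push b).obj G) q) ≅
      AddCommGrpCat.of (CohTop.H G q)) := by
  obtain ⟨e⟩ := Leray.nonempty_H_addEquiv_push b G
    (fun q => isZero_Rpush_succ b hb hs hfin G q) q
  exact ⟨e.symm.toAddCommGrpIso⟩

end Groth.Agent.Lib.TopDescH7
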