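import Mathlib
import Groth.Prelude.Def_CohTop
import Groth.Agent.Lib.TopDescA_helper7
import Groth.Agent.Lib.PiDelta_helper7
import Groth.Agent.Lib.DeltaComp_helper2
import Groth.Agent.Lib.ExtDer_helper9

/-!
# Descent along closed finite covers of topological spaces, part B (helper7)

The cohomology of a disjoint union is the product of the cohomologies of the pieces:
`H^q(∐_j W_j, G) ≅ ∏_j H^q(W_j, ι_j⁻¹ G)`, by the universality of effaceable δ-functors.
-/

set_option autoImplicit false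
set_option backward.isDefEq.respectTransparency false
set_option backward.isDefEq.respectTransparency.types false
set_option linter.style.haveILetI false
set_option linter.unusedSectionVars false
universe u
open CategoryTheory CategoryTheory.Limits TopologicalSpace Opposite DeltaF

namespace Groth.Agent.Lib.TopDescH7

open Groth.Agent.Lib.PiDeltaH7

/-- global sections -/
noncomputable abbrev gs (X : TopCat.{u}) : CohTop.Ab X ⥤ AddCommGrpCat.{u} :=
  sheafToPresheaf (Opens.grothendieckTopology X) AddCommGrpCat.{u} ⋙ (evaluation _ _).obj (op ⊤)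

/-- `Hom(ℤ, -)` is the global sections functor -/
noncomputable def homGsIso (X : TopCat.{u}) : ExtDer.hom (Leray.KK X) ≅ gs X :=
  NatIso.ofComponents (fun G => (Leray.constAddEquiv G).toAddCommGrpIso)
    (fun {G G'} φ => by
      ext a
      exact Leray.constAddEquiv_comp a φ)

/-- `R^q Γ ≅ Ext^q(ℤ, -)` -/
noncomputable def gsDerivedIso (X : TopCat.{u}) (q : ℕ) :
    (gs X).rightDerived q ≅ (Abelian.extFunctor q).obj (op (Leray.KK X)) :=
  ExtDer.rightDerivedIso (homGsIso X).symm q ≪≫ ExtDer.natIso (Leray.KK X) q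

theorem nonempty_gsDerived_iso (X : TopCat.{u}) (G : CohTop.Ab X) (q : ℕ) :
    Nonempty (((gs X).rightDerived q).obj G ≅ AddCommGrpCat.of (CohTop.H G q)) :=
  ⟨(gsDerivedIso X q).app G⟩

lemma isFlasque_of_iso {Y : TopCat.{u}} {F G : CohTop.Ab Y} (e : F ≅ G)
    [TopCat.Sheaf.IsFlasque F] : TopCat.Sheaf.IsFlasque G := by
  refine ⟨fun {U V} i => ?_⟩
  rw [AddCommGrpCat.epi_iff_surjective]
  intro t
  have hF : Function.Surjective (F.obj.map i) :=
    (AddCommGrpCat.epi_iff_surjective _).1 (TopCat.Presheaf.IsFlasque.epi (F := F.obj) i)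
  obtain ⟨s, hs⟩ := hF ((e.inv.hom.app V).hom t)
  refine ⟨(e.hom.hom.app U).hom s, ?_⟩
  have h1 : (G.obj.map i).hom ((e.hom.hom.app U).hom s) =
      (e.hom.hom.app V).hom ((F.obj.map i).hom s) :=
    (NatTrans.naturality_apply e.hom.hom i s).symm
  have h2 : (e.hom.hom.app V).hom ((e.inv.hom.app V).hom t) = t :=
    congrArg (fun ψ : G ⟶ G => (ψ.hom.app V).hom t) e.inv_hom_id
  exact h1.trans ((congrArg (e.hom.hom.app V).hom hs).trans h2)

section Cover

variable {J : Type u} {Wc : J → TopCat.{u}} {W : TopCat.{u}} (ι : ∀ j, Wc j ⟶ W)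
  (hι : ∀ j, Topology.IsOpenEmbedding (ι j))

/-- the naive restriction functor -/
noncomputable abbrev SP (j : J) : CohTop.Ab W ⥤ CohTop.Ab (Wc j) :=
  (hι j).sheafPullback AddCommGrpCat.{u}

/-- the inverse image is the naive restriction -/
noncomputable def spIso (j : J) : CohTop.pull (ι j) ≅ SP ι hι j :=
  (hι j).sheafPullbackIso AddCommGrpCat.{u}

/-- the image of the `j`-th piece -/
noncomputable abbrev Vj (j : J) : Opens W := (hι j).isOpenMap.functor.obj ⊤

lemma mem_Vj (j : J) (x : W) : x ∈ Vj ι hι j ↔ x ∈ Set.range (ι j) := by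
  constructor
  · rintro ⟨y, -, rfl⟩
    exact ⟨y, rfl⟩
  · rintro ⟨y, rfl⟩
    exact ⟨y, trivial, rfl⟩

variable (hd : ∀ j j' : J, j ≠ j' → Disjoint (Set.range (ι j)) (Set.range (ι j')))
  (hc : ∀ x : W, ∃ j, x ∈ Set.range (ι j))

include hd in
lemma Vj_disjoint (j j' : J) (h : j ≠ j') : Vj ι hι j ⊓ Vj ι hι j' ≤ ⊥ := by
  intro x hx
  exact Set.disjoint_left.1 (hd j j' h) ((mem_Vj ι hι j x).1 hx.1) ((mem_Vj ι hι j' x).1 hx.2)

include hc in
lemma Vj_cover : (⊤ : Opens W) ≤ iSup (Vj ι hι) := by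
  intro x _
  rw [Opens.mem_iSup]
  obtain ⟨j, hj⟩ := hc x
  exact ⟨j, (mem_Vj ι hι j x).2 hj⟩

/-- restriction to the pieces -/
noncomputable def resPi (G : CohTop.Ab W) :
    (gs W).obj G ⟶ (piFunctor (fun j => SP ι hι j ⋙ gs (Wc j))).obj G :=
  AddCommGrpCat.ofHom (AddMonoidHom.pi
    (fun j => (G.obj.map (homOfLE (le_top : Vj ι hι j ≤ ⊤)).op).hom))

include hd hc in
theorem resPi_bijective (G : CohTop.Ab W) : Function.Bijective (resPi ι hι G).hom := by
  constructor
  · intro s t h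
    exact TopCat.Sheaf.eq_of_locally_eq' (F := G) (Vj ι hι) ⊤ (fun j => homOfLE le_top)
      (Vj_cover ι hι hc) s t (fun j => congrFun h j)
  · intro sf
    have hcomp : TopCat.Presheaf.IsCompatible G.obj (Vj ι hι)
        (fun j => (sf j : ToType (G.obj.obj (op (Vj ι hι j))))) := by
      intro j j'
      by_cases h : j = j'
      · subst h
        rfl
      · exact sec_bot G _ (Vj_disjoint ι hι hd j j' h) _ _
    obtain ⟨s, hs, -⟩ := TopCat.Sheaf.existsUnique_gluing' G (Vj ι hι) ⊤
      (fun j => homOfLE le_top)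
      (Vj_cover ι hι hc) (fun j => (sf j : ToType (G.obj.obj (op (Vj ι hι j))))) hcomp
    exact ⟨s, funext hs⟩

lemma resPi_natural {G G' : CohTop.Ab W} (φ : G ⟶ G') :
    (gs W).map φ ≫ resPi ι hι G' =
      resPi ι hι G ≫ (piFunctor (fun j => SP ι hι j ⋙ gs (Wc j))).map φ := by
  ext s
  funext j
  exact (NatTrans.naturality_apply φ.hom (homOfLE (le_top : Vj ι hι j ≤ ⊤)).op s).symm

/-- global sections of a disjoint union -/
noncomputable def gsPiIso : gs W ≅ piFunctor (fun j => SP ι hι j ⋙ gs (Wc j)) :=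
  haveI : ∀ G, IsIso (resPi ι hι G) := fun G =>
    (ConcreteCategory.isIso_iff_bijective _).2 (resPi_bijective ι hι hd hc G)
  NatIso.ofComponents (fun G => asIso (resPi ι hι G)) (fun φ => resPi_natural ι hι φ)

attribute [local instance] pfl_pull pfc_pull

/-- the derived functors of global sections on the disjoint union -/
noncomputable def TW (W : TopCat.{u}) : CohDeltaFunctor (CohTop.Ab W) AddCommGrpCat.{u} ℕ :=
  (Groth.Agent.Lib.Horseshoe0.derivedLES (gs W)).toCohDeltaFunctor

/-- the derived functors of global sections on a piece, restricted -/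
noncomputable def Tj (j : J) : CohDeltaFunctor (CohTop.Ab W) AddCommGrpCat.{u} ℕ :=
  Groth.Agent.Lib.DeltaComp.precomp (CohTop.pull (ι j))
    (Groth.Agent.Lib.Horseshoe0.derivedLES (gs (Wc j))).toCohDeltaFunctor

/-- their product -/
noncomputable def TP : CohDeltaFunctor (CohTop.Ab W) AddCommGrpCat.{u} ℕ :=
  piDelta (Tj ι)

lemma TW_eff : (TW W).IsEffaceable :=
  Groth.Agent.Lib.DeltaComp.isEffaceable_of_isZero _ (fun n I hI => by
    haveI := hI
    exact Functor.isZero_rightDerived_obj_injective_succ (gs W) n I)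

include hι in
lemma isZero_gsDerived_pull (j : J) (I : CohTop.Ab W) [Injective I] (n : ℕ) :
    IsZero (((gs (Wc j)).rightDerived (n + 1)).obj ((CohTop.pull (ι j)).obj I)) := by
  obtain ⟨e⟩ := nonempty_gsDerived_iso (Wc j) ((CohTop.pull (ι j)).obj I) (n + 1)
  refine IsZero.of_iso ?_ e
  haveI := Groth.Agent.Lib.FlasqueAcyclic.isFlasque_of_injective I
  haveI : TopCat.Sheaf.IsFlasque ((SP ι hι j).obj I) := ⟨fun {V W} i =>
    TopCat.Presheaf.IsFlasque.epi (F := I.obj) ((hι j).isOpenMap.functor.map i.unop).op⟩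
  haveI : TopCat.Sheaf.IsFlasque ((CohTop.pull (ι j)).obj I) :=
    isFlasque_of_iso ((spIso ι hι j).app I).symm
  haveI : Subsingleton (CohTop.H ((CohTop.pull (ι j)).obj I) (n + 1)) :=
    ⟨fun a c => (Groth.Agent.Lib.FlasqueAcyclic.H_eq_zero_of_isFlasque _ n a).trans
      (Groth.Agent.Lib.FlasqueAcyclic.H_eq_zero_of_isFlasque _ n c).symm⟩
  exact AddCommGrpCat.isZero_of_subsingleton _

include hι in
lemma TP_eff : (TP ι).IsEffaceable :=
  Groth.Agent.Lib.DeltaComp.isEffaceable_of_isZero _ (fun n I hI => by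
    haveI := hI
    exact isZero_pi (fun j => isZero_gsDerived_pull ι hι j I n))

/-- the comparison in degree zero -/
noncomputable def e0 : (TW W).F 0 ≅ (TP ι).F 0 :=
  (gs W).rightDerivedZeroIsoSelf ≪≫ gsPiIso ι hι hd hc ≪≫
    piFunctorIso (fun j => (Functor.isoWhiskerRight (spIso ι hι j) (gs (Wc j))).symm ≪≫
      Functor.isoWhiskerLeft (CohTop.pull (ι j)) ((gs (Wc j)).rightDerivedZeroIsoSelf).symm)

include hι hd hc in
/-- **The cohomology of a disjoint union is the product of the cohomologies of the pieces.** -/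
theorem nonempty_H_cover_iso (G : CohTop.Ab W) (q : ℕ) :
    Nonempty (AddCommGrpCat.of (CohTop.H G q) ≅
      AddCommGrpCat.of (∀ j, CohTop.H ((CohTop.pull (ι j)).obj G) q)) := by
  obtain ⟨e⟩ := Groth.Agent.Lib.DeltaComp.nonempty_iso_of_effaceable (TW W) (TP ι)
    TW_eff (TP_eff ι hι) (e0 ι hι hd hc) q
  have e1 : ((gs W).rightDerived q).obj G ≅
      AddCommGrpCat.of (∀ j, ((gs (Wc j)).rightDerived q).obj ((CohTop.pull (ι j)).obj G)) :=
    e.app G
  have e2 : ((gs W).rightDerived q).obj G ≅ AddCommGrpCat.of (CohTop.H G q) :=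
    (gsDerivedIso W q).app G
  have e3 : AddCommGrpCat.of
        (∀ j, ((gs (Wc j)).rightDerived q).obj ((CohTop.pull (ι j)).obj G)) ≅
      AddCommGrpCat.of (∀ j, CohTop.H ((CohTop.pull (ι j)).obj G) q) :=
    piIso (fun j => (gsDerivedIso (Wc j) q).app ((CohTop.pull (ι j)).obj G))
  exact ⟨e2.symm ≪≫ e1 ≪≫ e3⟩

end Cover

end Groth.Agent.Lib.TopDescH7
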