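import Mathlib
import Groth.Prelude.Def_CohTop

/-!
# Descent along closed finite covers of topological spaces, part C (helper7)

For a locally finite family `U i` of closed subsets of `X`, the disjoint unions
`W_p = ∐_σ ⋂_k U (σ k)` (`σ : Fin (p + 1) → I`), modelled as subspaces of `(Fin (p+1) → I) × X`
with the discrete topology on the first factor; the projections `b_p : W_p ⟶ X` are proper, with
finite fibres, separated, and `W_{p+1} = W_p ×_X W_0`.
-/

set_option autoImplicit false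
set_option backward.isDefEq.respectTransparency false
set_option backward.isDefEq.respectTransparency.types false
set_option linter.style.haveILetI false
set_option linter.unusedSectionVars false
universe u
open CategoryTheory CategoryTheory.Limits TopologicalSpace Opposite

namespace Groth.Agent.Lib.TopDescH7

/-! ### A pullback criterion in `TopCat` -/

theorem isPullback_of_inv {A B C D : TopCat.{u}} (g' : A ⟶ B) (f' : A ⟶ C) (f : B ⟶ D) (g : C ⟶ D)
    (w : g' ≫ f = f' ≫ g) (inv : {q : B × C // f q.1 = g q.2} → A) (hinv : Continuous inv)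
    (h1 : ∀ (a : A) (h : f (g' a) = g (f' a)), inv ⟨(g' a, f' a), h⟩ = a)
    (h2 : ∀ q, g' (inv q) = q.1.1) (h3 : ∀ q, f' (inv q) = q.1.2) : IsPullback g' f' f g := by
  have hw : ∀ a : A, f (g' a) = g (f' a) := fun a => ConcreteCategory.congr_hom w a
  let Φ : A ≃ₜ {q : B × C // f q.1 = g q.2} :=
    { toFun := fun a => ⟨(g' a, f' a), hw a⟩
      invFun := inv
      left_inv := fun a => h1 a _
      right_inv := fun q => Subtype.ext (Prod.ext (h2 q) (h3 q))
      continuous_toFun :=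
        Continuous.subtype_mk (g'.hom.continuous.prodMk f'.hom.continuous) _
      continuous_invFun := hinv }
  let i : A ≅ pullback f g := TopCat.isoOfHomeo Φ ≪≫ (TopCat.pullbackIsoProdSubtype f g).symm
  refine IsPullback.of_iso_pullback ⟨w⟩ i ?_ ?_
  · show (TopCat.isoOfHomeo Φ).hom ≫ (TopCat.pullbackIsoProdSubtype f g).inv ≫
      pullback.fst f g = g'
    rw [TopCat.pullbackIsoProdSubtype_inv_fst]
    rfl
  · show (TopCat.isoOfHomeo Φ).hom ≫ (TopCat.pullbackIsoProdSubtype f g).inv ≫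
      pullback.snd f g = f'
    rw [TopCat.pullbackIsoProdSubtype_inv_snd]
    rfl

/-! ### The spaces -/

/-- index tuples, with the discrete topology -/
def DI (I : Type u) (p : ℕ) : Type u := Fin (p + 1) → I

instance (I : Type u) (p : ℕ) : TopologicalSpace (DI I p) := ⊥

instance (I : Type u) (p : ℕ) : DiscreteTopology (DI I p) := ⟨rfl⟩

variable {X : TopCat.{u}} {I : Type u} (U : I → Set X)

/-- the underlying type of the disjoint union of the `(p+1)`-fold intersections -/
abbrev WpT (p : ℕ) : Type u := {w : DI I p × X // w.2 ∈ ⋂ k, U (w.1 k)}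

/-- the disjoint union of the `(p+1)`-fold intersections -/
def Wp (p : ℕ) : TopCat.{u} := TopCat.of (WpT U p)

/-- the projection to `X` -/
def bp (p : ℕ) : Wp U p ⟶ X :=
  (TopCat.ofHom ⟨fun w : WpT U p => w.1.2, continuous_snd.comp continuous_subtype_val⟩ :
    TopCat.of (WpT U p) ⟶ X)

lemma bp_apply (p : ℕ) (w : WpT U p) : bp U p w = w.1.2 := rfl

/-- the inclusion of a closed piece into `X` -/
abbrev incl {p : ℕ} (σ : Fin (p + 1) → I) : TopCat.of (⋂ k, U (σ k) : Set X) ⟶ X :=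
  TopCat.ofHom ⟨((↑) : (⋂ k, U (σ k) : Set X) → X), continuous_subtype_val⟩

/-- the inclusion of a piece into the disjoint union, on points -/
def ιpT (p : ℕ) (σ : Fin (p + 1) → I) (x : (⋂ k, U (σ k) : Set X)) : WpT U p :=
  ⟨((σ : DI I p), x.1), x.2⟩

lemma continuous_ιpT (p : ℕ) (σ : Fin (p + 1) → I) : Continuous (ιpT U p σ) :=
  Continuous.subtype_mk (continuous_const.prodMk continuous_subtype_val) _

/-- the inclusion of a piece into the disjoint union -/
def ιp (p : ℕ) (σ : Fin (p + 1) → I) : TopCat.of (⋂ k, U (σ k) : Set X) ⟶ Wp U p :=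
  (TopCat.ofHom ⟨ιpT U p σ, continuous_ιpT U p σ⟩ :
    TopCat.of (⋂ k, U (σ k) : Set X) ⟶ TopCat.of (WpT U p))

lemma ιp_apply (p : ℕ) (σ : Fin (p + 1) → I) (x : (⋂ k, U (σ k) : Set X)) :
    ιp U p σ x = ιpT U p σ x := rfl

lemma ιp_bp (p : ℕ) (σ : Fin (p + 1) → I) : ιp U p σ ≫ bp U p = incl U σ := rfl

lemma range_ιpT (p : ℕ) (σ : Fin (p + 1) → I) :
    Set.range (ιpT U p σ) = {w : WpT U p | w.1.1 = σ} := by
  ext w
  constructor
  · rintro ⟨x, rfl⟩
    rfl
  · intro h
    obtain ⟨⟨τ, x⟩, hx⟩ := w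
    obtain rfl : τ = σ := h
    exact ⟨⟨x, hx⟩, rfl⟩

lemma isOpenEmbedding_ιpT (p : ℕ) (σ : Fin (p + 1) → I) :
    Topology.IsOpenEmbedding (ιpT U p σ) := by
  have hemb : Topology.IsEmbedding (ιpT U p σ) := by
    refine Topology.IsEmbedding.of_comp (continuous_ιpT U p σ) continuous_subtype_val ?_
    exact (isEmbedding_prodMkRight (X := DI I p) (Y := X) σ).comp Topology.IsEmbedding.subtypeVal
  refine ⟨hemb, ?_⟩
  rw [range_ιpT]
  exact (isOpen_discrete ({σ} : Set (DI I p))).preimage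
    (continuous_fst.comp continuous_subtype_val)

lemma isOpenEmbedding_ιp (p : ℕ) (σ : Fin (p + 1) → I) :
    Topology.IsOpenEmbedding (ιp U p σ) := isOpenEmbedding_ιpT U p σ

lemma range_ιp (p : ℕ) (σ : Fin (p + 1) → I) :
    Set.range (ιp U p σ) = {w : WpT U p | w.1.1 = σ} := range_ιpT U p σ

lemma disjoint_range_ιp (p : ℕ) (σ σ' : Fin (p + 1) → I) (h : σ ≠ σ') :
    Disjoint (Set.range (ιp U p σ)) (Set.range (ιp U p σ')) := by
  rw [range_ιp, range_ιp, Set.disjoint_left]
  intro w hw hw'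
  exact h (hw.symm.trans hw')

lemma cover_range_ιp (p : ℕ) (w : Wp U p) : ∃ σ : Fin (p + 1) → I, w ∈ Set.range (ιp U p σ) := by
  refine ⟨(w : WpT U p).1.1, ?_⟩
  rw [range_ιp]
  rfl

/-! ### Properness -/

lemma locallyFinite_Us (hlf : LocallyFinite U) (p : ℕ) :
    LocallyFinite (fun σ : Fin (p + 1) → I => ⋂ k, U (σ k)) := by
  intro x
  obtain ⟨N, hN, hfin⟩ := hlf x
  refine ⟨N, hN, (Set.Finite.pi' (fun _ : Fin (p + 1) => hfin)).subset ?_⟩
  rintro σ ⟨y, hy1, hy2⟩ k
  exact ⟨y, Set.mem_iInter.1 hy1 k, hy2⟩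

lemma isClosedMap_bp (hU : ∀ i, IsClosed (U i)) (hlf : LocallyFinite U) (p : ℕ) :
    IsClosedMap (bp U p) := by
  intro C hC
  have himg : (bp U p) '' C =
      ⋃ σ : Fin (p + 1) → I, (Subtype.val '' ((ιpT U p σ) ⁻¹' C) : Set X) := by
    ext x
    constructor
    · rintro ⟨w, hw, rfl⟩
      refine Set.mem_iUnion.2 ⟨(w : WpT U p).1.1, ⟨⟨(w : WpT U p).1.2, (w : WpT U p).2⟩, ?_, rfl⟩⟩
      exact hw
    · intro hx
      obtain ⟨σ, ⟨y, hy, rfl⟩⟩ := Set.mem_iUnion.1 hx
      exact ⟨ιpT U p σ y, hy, rfl⟩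
  rw [himg]
  refine LocallyFinite.isClosed_iUnion ((locallyFinite_Us U hlf p).subset ?_) ?_
  · intro σ
    rintro _ ⟨y, -, rfl⟩
    exact y.2
  · intro σ
    have hcl : IsClosed (⋂ k, U (σ k) : Set X) := isClosed_iInter (fun k => hU _)
    exact hcl.isClosedEmbedding_subtypeVal.isClosedMap _ (hC.preimage (continuous_ιpT U p σ))

lemma finite_fibre_bp (hlf : LocallyFinite U) (p : ℕ) (x : X) : ((bp U p) ⁻¹' {x}).Finite := by
  have hfin : {σ : Fin (p + 1) → I | ∀ k, σ k ∈ {i | x ∈ U i}}.Finite :=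
    Set.Finite.pi' (fun _ => hlf.point_finite x)
  refine Set.Finite.of_injOn (f := fun w : WpT U p => (w.1.1 : Fin (p + 1) → I)) ?_ ?_ hfin
  · intro w hw k
    have hwx : w.1.2 = x := hw
    show x ∈ U (w.1.1 k)
    rw [← hwx]
    exact Set.mem_iInter.1 w.2 k
  · intro w hw w' hw' h
    have hwx : w.1.2 = x := hw
    have hwx' : w'.1.2 = x := hw'
    exact Subtype.ext (Prod.ext h (hwx.trans hwx'.symm))

lemma isProperMap_bp (hU : ∀ i, IsClosed (U i)) (hlf : LocallyFinite U) (p : ℕ) :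
    IsProperMap (bp U p) :=
  isProperMap_iff_isClosedMap_and_compact_fibers.2
    ⟨(bp U p).hom.continuous, isClosedMap_bp U hU hlf p,
      fun x => (finite_fibre_bp U hlf p x).isCompact⟩

lemma sep_bp (p : ℕ) : ∀ w w' : Wp U p, bp U p w = bp U p w' → w ≠ w' →
    ∃ A B : Set (Wp U p), IsOpen A ∧ IsOpen B ∧ w ∈ A ∧ w' ∈ B ∧ Disjoint A B := by
  intro w w' h hne
  have hσ : (w : WpT U p).1.1 ≠ (w' : WpT U p).1.1 := fun h' =>
    hne (Subtype.ext (Prod.ext h' h))
  have hc : Continuous (fun v : WpT U p => v.1.1) := continuous_fst.comp continuous_subtype_val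
  refine ⟨(fun v : WpT U p => v.1.1) ⁻¹' {(w : WpT U p).1.1},
    (fun v : WpT U p => v.1.1) ⁻¹' {(w' : WpT U p).1.1},
    (isOpen_discrete _).preimage hc, (isOpen_discrete _).preimage hc, rfl, rfl, ?_⟩
  rw [Set.disjoint_left]
  intro v hv hv'
  exact hσ (hv.symm.trans hv')

lemma surjective_bp0 (hcov : ⋃ i, U i = Set.univ) : Function.Surjective (bp U 0) := by
  intro x
  have hx : x ∈ ⋃ i, U i := hcov ▸ Set.mem_univ x
  obtain ⟨i, hi⟩ := Set.mem_iUnion.1 hx
  exact ⟨(⟨((fun _ => i : DI I 0), x), Set.mem_iInter.2 (fun _ => hi)⟩ : WpT U 0), rfl⟩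

/-! ### The fibre product squares -/

/-- forget the last index, on tuples -/
def dropI (p : ℕ) (σ : DI I (p + 1)) : DI I p := fun k => σ k.castSucc

/-- keep the last index, on tuples -/
def lastI (p : ℕ) (σ : DI I (p + 1)) : DI I 0 := fun _ => σ (Fin.last (p + 1))

/-- append an index, on tuples -/
def snocI (p : ℕ) (a : DI I p × DI I 0) : DI I (p + 1) :=
  Fin.snoc (α := fun _ => I) a.1 (a.2 0)

/-- forget the last index -/
def dropT (p : ℕ) (w : WpT U (p + 1)) : WpT U p :=
  ⟨((fun k => w.1.1 k.castSucc : DI I p), w.1.2),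
    Set.mem_iInter.2 (fun k => Set.mem_iInter.1 w.2 k.castSucc)⟩

/-- keep the last index -/
def lastT (p : ℕ) (w : WpT U (p + 1)) : WpT U 0 :=
  ⟨((fun _ => w.1.1 (Fin.last (p + 1)) : DI I 0), w.1.2),
    Set.mem_iInter.2 (fun _ => Set.mem_iInter.1 w.2 (Fin.last (p + 1)))⟩

lemma continuous_dropT (p : ℕ) : Continuous (dropT U p) :=
  Continuous.subtype_mk
    (((continuous_of_discreteTopology
        (f := dropI (I := I) p)).comp
      (continuous_fst.comp continuous_subtype_val)).prodMk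
      (continuous_snd.comp continuous_subtype_val)) _

lemma continuous_lastT (p : ℕ) : Continuous (lastT U p) :=
  Continuous.subtype_mk
    (((continuous_of_discreteTopology
        (f := lastI (I := I) p)).comp
      (continuous_fst.comp continuous_subtype_val)).prodMk
      (continuous_snd.comp continuous_subtype_val)) _

/-- forget the last index -/
def drop (p : ℕ) : Wp U (p + 1) ⟶ Wp U p :=
  (TopCat.ofHom ⟨dropT U p, continuous_dropT U p⟩ :
    TopCat.of (WpT U (p + 1)) ⟶ TopCat.of (WpT U p))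

/-- keep the last index -/
def last (p : ℕ) : Wp U (p + 1) ⟶ Wp U 0 :=
  (TopCat.ofHom ⟨lastT U p, continuous_lastT U p⟩ :
    TopCat.of (WpT U (p + 1)) ⟶ TopCat.of (WpT U 0))

lemma drop_bp (p : ℕ) : drop U p ≫ bp U p = bp U (p + 1) := rfl

lemma last_bp (p : ℕ) : last U p ≫ bp U 0 = bp U (p + 1) := rfl

/-- glue a tuple and an index -/
def glueT (p : ℕ) (q : {q : WpT U p × WpT U 0 // q.1.1.2 = q.2.1.2}) : WpT U (p + 1) :=
  ⟨((Fin.snoc (α := fun _ => I) q.1.1.1.1 (q.1.2.1.1 0) : DI I (p + 1)), q.1.1.1.2), by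
    refine Set.mem_iInter.2 (fun k => ?_)
    refine Fin.lastCases ?_ (fun j => ?_) k
    · show q.1.1.1.2 ∈ U (Fin.snoc (α := fun _ => I) q.1.1.1.1 (q.1.2.1.1 0) (Fin.last (p + 1)))
      rw [Fin.snoc_last, q.2]
      exact Set.mem_iInter.1 q.1.2.2 0
    · show q.1.1.1.2 ∈ U (Fin.snoc (α := fun _ => I) q.1.1.1.1 (q.1.2.1.1 0) j.castSucc)
      rw [Fin.snoc_castSucc]
      exact Set.mem_iInter.1 q.1.1.2 j⟩

lemma continuous_glueT (p : ℕ) : Continuous (glueT U p) := by
  refine Continuous.subtype_mk (Continuous.prodMk ?_ ?_) _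
  · have h1 : Continuous (fun q : {q : WpT U p × WpT U 0 // q.1.1.2 = q.2.1.2} =>
        ((q.1.1.1.1, q.1.2.1.1) : DI I p × DI I 0)) :=
      ((continuous_fst.comp continuous_subtype_val).comp
        (continuous_fst.comp continuous_subtype_val)).prodMk
      ((continuous_fst.comp continuous_subtype_val).comp
        (continuous_snd.comp continuous_subtype_val))
    exact (continuous_of_discreteTopology (f := snocI (I := I) p)).comp h1
  · exact (continuous_snd.comp continuous_subtype_val).comp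
      (continuous_fst.comp continuous_subtype_val)

theorem isPullback_drop_last (p : ℕ) : IsPullback (drop U p) (last U p) (bp U p) (bp U 0) := by
  refine isPullback_of_inv (drop U p) (last U p) (bp U p) (bp U 0)
    ((drop_bp U p).trans (last_bp U p).symm) (glueT U p) (continuous_glueT U p) ?_ ?_ ?_
  · intro a h
    obtain ⟨⟨σ, x⟩, hx⟩ := a
    refine Subtype.ext (Prod.ext ?_ rfl)
    show Fin.snoc (α := fun _ => I) (fun k => σ k.castSucc) (σ (Fin.last (p + 1))) = σ
    funext k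
    refine Fin.lastCases ?_ (fun j => ?_) k
    · rw [Fin.snoc_last]
    · rw [Fin.snoc_castSucc]
  · intro q
    refine Subtype.ext (Prod.ext ?_ rfl)
    show (fun k : Fin (p + 1) =>
      Fin.snoc (α := fun _ => I) q.1.1.1.1 (q.1.2.1.1 0) k.castSucc) = q.1.1.1.1
    funext k
    rw [Fin.snoc_castSucc]
  · intro q
    refine Subtype.ext (Prod.ext ?_ q.2)
    show (fun _ : Fin 1 =>
      Fin.snoc (α := fun _ => I) q.1.1.1.1 (q.1.2.1.1 0) (Fin.last (p + 1))) = q.1.2.1.1
    funext k
    rw [Fin.snoc_last]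
    have hk : (0 : Fin (0 + 1)) = k := by
      apply Fin.ext
      have := k.2
      simp only [Fin.val_zero]
      omega
    exact congrArg q.1.2.1.1 hk

end Groth.Agent.Lib.TopDescH7
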