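import Mathlib
import Groth.Prelude.Def_CohPull
import Groth.Prelude.Def_SpSeq
import Groth.Agent.Lib.DegenSS_helper7
import Groth.Agent.Lib.ExtRetract_helper7

/-!
# The descent spectral sequence of a continuous map with a section (helper7)
-/

set_option autoImplicit false
universe u
open CategoryTheory CategoryTheory.Limits TopologicalSpace Opposite

namespace Groth.Agent.Lib.TopDescentSec_helper7

attribute [local instance] CohPull.preservesFiniteLimits_pull CohPull.preservesFiniteColimits_pull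
  CohPull.additive_pull

section Basic

variable {X Y : TopCat.{u}}

/-- global sections -/
noncomputable abbrev gsec (X : TopCat.{u}) : CohTop.Ab X ⥤ AddCommGrpCat.{u} :=
  (sheafSections (Opens.grothendieckTopology X) AddCommGrpCat.{u}).obj (op ⊤)

noncomputable abbrev constAdj (X : TopCat.{u}) :
    constantSheaf (Opens.grothendieckTopology X) AddCommGrpCat.{u} ⊣ gsec X :=
  constantSheafAdj (Opens.grothendieckTopology X) AddCommGrpCat.{u} isTerminalTop

noncomputable abbrev adj (f : X ⟶ Y) : CohTop.pull f ⊣ CohTop.push f :=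
  TopCat.Sheaf.pullbackPushforwardAdjunction AddCommGrpCat.{u} f

noncomputable def pushGsecIso (f : X ⟶ Y) : CohTop.push f ⋙ gsec Y ≅ gsec X :=
  NatIso.ofComponents
    (fun F => (F.obj.mapIso (eqToIso (TopologicalSpace.Opens.map_top f)).op).symm)
    (fun {F G} φ => by
      simp only [Functor.comp_map, Iso.symm_hom, Functor.mapIso_inv, Iso.op_inv]
      exact (φ.hom.naturality _).symm)

/-- the inverse image of a constant sheaf is constant -/
noncomputable def pullConstIso (f : X ⟶ Y) :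
    constantSheaf (Opens.grothendieckTopology Y) AddCommGrpCat.{u} ⋙ CohTop.pull f ≅
      constantSheaf (Opens.grothendieckTopology X) AddCommGrpCat.{u} :=
  Adjunction.leftAdjointUniq (((constAdj Y).comp (adj f)).ofNatIsoRight (pushGsecIso f))
    (constAdj X)

/-- direct images compose -/
noncomputable def pushComp {Z : TopCat.{u}} (f : X ⟶ Y) (g : Z ⟶ X) :
    CohTop.push g ⋙ CohTop.push f ≅ CohTop.push (g ≫ f) :=
  Functor.sheafPushforwardContinuousComp' (F := Opens.map f) (G := Opens.map g)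
    (FG := Opens.map (g ≫ f)) (Opens.mapComp g f).symm AddCommGrpCat.{u}
    (Opens.grothendieckTopology Y) (Opens.grothendieckTopology X) (Opens.grothendieckTopology Z)

/-- inverse images compose -/
noncomputable def pullComp {Z : TopCat.{u}} (g : Z ⟶ X) (f : X ⟶ Y) :
    CohTop.pull (g ≫ f) ≅ CohTop.pull f ⋙ CohTop.pull g :=
  Adjunction.leftAdjointUniq (adj (g ≫ f)) (((adj f).comp (adj g)).ofNatIsoRight (pushComp f g))

noncomputable def pullCongr {f f' : X ⟶ Y} (h : f = f') : CohTop.pull f ≅ CohTop.pull f' :=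
  eqToIso (by rw [h])

/-- direct image along a retraction pair -/
noncomputable def pushCompId (π : X ⟶ Y) (σ : Y ⟶ X) (h : σ ≫ π = 𝟙 Y) :
    CohTop.push σ ⋙ CohTop.push π ≅ 𝟭 (CohTop.Ab Y) :=
  Functor.sheafPushforwardContinuousComp' (F := Opens.map π) (G := Opens.map σ)
    (FG := 𝟭 (Opens Y)) ((Opens.mapComp σ π).symm ≪≫ Opens.mapIso _ _ h ≪≫ Opens.mapId Y)
    AddCommGrpCat.{u} (Opens.grothendieckTopology Y) (Opens.grothendieckTopology X)
    (Opens.grothendieckTopology Y) ≪≫
    Functor.sheafPushforwardContinuousId _ _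

/-- the retraction isomorphism -/
noncomputable def thetaOf (π : X ⟶ Y) (σ : Y ⟶ X) (h : σ ≫ π = 𝟙 Y) :
    CohTop.pull π ⋙ CohTop.pull σ ≅ 𝟭 (CohTop.Ab Y) :=
  Adjunction.leftAdjointUniq ((adj π).comp (adj σ))
    (Adjunction.id.ofNatIsoRight (pushCompId π σ h).symm)

theorem exists_retract_top (π : X ⟶ Y) (σ : Y ⟶ X) (h : σ ≫ π = 𝟙 Y)
    (G : CohTop.Ab Y) (G' : CohTop.Ab X) (g : (CohTop.pull π).obj G ≅ G') (q : ℕ) :
    ∃ (i : AddCommGrpCat.of (CohTop.H G q) ⟶ AddCommGrpCat.of (CohTop.H G' q))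
      (r : AddCommGrpCat.of (CohTop.H G' q) ⟶ AddCommGrpCat.of (CohTop.H G q)),
      i ≫ r = 𝟙 _ := by
  have hh : ∃ (i : CohTop.H G q →+ CohTop.H G' q) (r : CohTop.H G' q →+ CohTop.H G q),
      ∀ e, r (i e) = e :=
    ExtRetract_helper7.exists_retract (CohTop.pull π) (CohTop.pull σ) (thetaOf π σ h)
      ((pullConstIso π).app (AddCommGrpCat.of (ULift ℤ))) g q
  obtain ⟨i, r, hir⟩ := hh
  refine ⟨AddCommGrpCat.ofHom i, AddCommGrpCat.ofHom r, ?_⟩
  ext e
  exact hir e

end Basic

/-! ### The Čech nerve of a map with a section -/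

section Nerve

variable {X Y : TopCat.{u}} (f : X ⟶ Y) (s : Y ⟶ X) (hs : s ≫ f = 𝟙 Y)

/-- the `(n+1)`-fold fibre product -/
noncomputable abbrev Xn (n : ℕ) : TopCat.{u} :=
  widePullback Y (fun _ : Fin (n + 1) => X) (fun _ => f)

/-- its projection to the base -/
noncomputable abbrev bn (n : ℕ) : Xn f n ⟶ Y := WidePullback.base (fun _ : Fin (n + 1) => f)

/-- forget the last coordinate -/
noncomputable def πn (n : ℕ) : Xn f (n + 1) ⟶ Xn f n :=
  WidePullback.lift (bn f (n + 1))
    (fun i => WidePullback.π (fun _ : Fin (n + 1 + 1) => f) i.castSucc)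
    (fun _ => WidePullback.π_arrow _ _)

/-- add the section as last coordinate -/
noncomputable def σn (n : ℕ) : Xn f n ⟶ Xn f (n + 1) :=
  WidePullback.lift (bn f n)
    (fun i => Fin.lastCases (bn f n ≫ s) (fun j => WidePullback.π (fun _ : Fin (n + 1) => f) j) i)
    (fun i => by
      induction i using Fin.lastCases with
      | last => simp [hs]
      | cast j => simp)

lemma π_b (n : ℕ) : πn f n ≫ bn f n = bn f (n + 1) :=
  WidePullback.lift_base _ _ _ _

lemma σ_π (n : ℕ) : σn f s hs n ≫ πn f n = 𝟙 _ := by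
  apply WidePullback.hom_ext
  · intro j
    rw [Category.assoc, Category.id_comp]
    refine (congrArg (fun t => σn f s hs n ≫ t) (WidePullback.lift_π _ _ _ _ j)).trans ?_
    refine (WidePullback.lift_π _ _ _ _ _).trans ?_
    exact Fin.lastCases_castSucc _
  · rw [Category.assoc, Category.id_comp]
    refine (congrArg (fun t => σn f s hs n ≫ t) (π_b f n)).trans ?_
    exact WidePullback.lift_base _ _ _ _

/-- the section at level zero -/
noncomputable def σ0 : Y ⟶ Xn f 0 :=
  WidePullback.lift (𝟙 Y) (fun _ => s) (fun _ => hs)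

lemma σ0_b : σ0 f s hs ≫ bn f 0 = 𝟙 Y :=
  WidePullback.lift_base _ _ _ _

variable (F : CohTop.Ab Y)

/-- the terms of the first page -/
noncomputable def T (p q : ℕ) : AddCommGrpCat.{u} :=
  AddCommGrpCat.of (CohTop.H ((CohTop.pull (bn f p)).obj F) q)

include s hs in
lemma retr0 (q : ℕ) :
    ∃ (i : AddCommGrpCat.of (CohTop.H F q) ⟶ T f F 0 q)
      (r : T f F 0 q ⟶ AddCommGrpCat.of (CohTop.H F q)), i ≫ r = 𝟙 _ :=
  exists_retract_top (bn f 0) (σ0 f s hs) (σ0_b f s hs) F _ (Iso.refl _) q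

include s hs in
lemma retr (p q : ℕ) :
    ∃ (i : T f F p q ⟶ T f F (p + 1) q) (r : T f F (p + 1) q ⟶ T f F p q), i ≫ r = 𝟙 _ :=
  exists_retract_top (πn f p) (σn f s hs p) (σ_π f s hs p) _ _
    (((pullComp (πn f p) (bn f p)).symm ≪≫ pullCongr (π_b f p)).app F) q

/-- the split data in cohomological degree `q` -/
noncomputable def splitData (q : ℕ) : DegenSS_helper7.SplitData AddCommGrpCat.{u} where
  H := AddCommGrpCat.of (CohTop.H F q)
  A p := T f F p q
  ι0 := (retr0 f s hs F q).choose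
  ρ0 := (retr0 f s hs F q).choose_spec.choose
  h0 := (retr0 f s hs F q).choose_spec.choose_spec
  ι p := (retr f s hs F p q).choose
  ρ p := (retr f s hs F p q).choose_spec.choose
  h p := (retr f s hs F p q).choose_spec.choose_spec

include hs in
theorem main :
    ∃ (E : CohomologicalSpectralSequence AddCommGrpCat.{u} 1)
      (a : SpSeq.Abutment E (fun n : ℤ =>
        if 0 ≤ n then AddCommGrpCat.of (CohTop.H F n.toNat) else AddCommGrpCat.of PUnit.{u + 1})),
      (∀ n, a.IsFinite n) ∧ SpSeq.IsBounded E ∧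
      ∀ p q : ℤ, Nonempty ((E.page 1 le_rfl).X (p, q) ≅
        (if 0 ≤ p ∧ 0 ≤ q then T f F p.toNat q.toNat else AddCommGrpCat.of PUnit.{u + 1})) := by
  refine DegenSS_helper7.exists_ss (splitData f s hs F)
    (fun n : ℤ =>
      if 0 ≤ n then AddCommGrpCat.of (CohTop.H F n.toNat) else AddCommGrpCat.of PUnit.{u + 1})
    ?_ ?_
    (fun p q : ℤ =>
      if 0 ≤ p ∧ 0 ≤ q then T f F p.toNat q.toNat else AddCommGrpCat.of PUnit.{u + 1}) ?_ ?_
  · intro n
    rw [if_pos (Int.natCast_nonneg n)]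
    simp only [Int.toNat_natCast]
    exact ⟨Iso.refl _⟩
  · intro n hn
    rw [if_neg (by omega)]
    exact AddCommGrpCat.isZero_of_subsingleton _
  · intro p q
    rw [if_pos ⟨Int.natCast_nonneg p, Int.natCast_nonneg q⟩]
    simp only [Int.toNat_natCast]
    exact ⟨Iso.refl _⟩
  · intro p q h
    rw [if_neg (by omega)]
    exact AddCommGrpCat.isZero_of_subsingleton _

end Nerve

end Groth.Agent.Lib.TopDescentSec_helper7
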