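import Mathlib
import Groth.Prelude.Def_CohTop
import Groth.Prelude.Def_SpSeq
import Groth.Agent.Lib.TopDescA_helper7
import Groth.Agent.Lib.TopDescB_helper7
import Groth.Agent.Lib.TopDescC_helper7
import Groth.Agent.Lib.CxGrothSS_helper7
import Groth.Agent.Lib.CobarRes_helper7
import Groth.Agent.Lib.TopDescentSec_helper7

/-!
# Descent along closed finite covers of topological spaces, part D (helper7)

The descent spectral sequence of a locally finite closed cover: the cobar resolution of `F` for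
the adjunction `b₀⁻¹ ⊣ b₀_*` (`b₀ : ∐ U_i ⟶ X`) has terms `b_{p*} b_p⁻¹ F` (proper base change),
`H^q(X, b_{p*} G) ≅ H^q(W_p, G)` and `H^q(W_p, G) ≅ ∏_σ H^q(U_σ, G|U_σ)`.
-/

set_option autoImplicit false
set_option backward.isDefEq.respectTransparency false
set_option backward.isDefEq.respectTransparency.types false
set_option linter.style.haveILetI false
set_option linter.unusedSectionVars false
universe u
open CategoryTheory CategoryTheory.Limits TopologicalSpace Opposite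

namespace Groth.Agent.Lib.TopDescH7

open Groth.Agent.Lib.TopDescentSec_helper7 Groth.Agent.Lib.PiDeltaH7

attribute [local instance] pfl_pull pfc_pull

/-! ### One step of the cobar construction -/

theorem nonempty_step {V W W' Xb : TopCat.{u}} (f : V ⟶ Xb) (b : W ⟶ Xb) (hb : IsProperMap b)
    (hsb : ∀ x x' : W, b x = b x' → x ≠ x' →
      ∃ A B : Set W, IsOpen A ∧ IsOpen B ∧ x ∈ A ∧ x' ∈ B ∧ Disjoint A B)
    (g' : W' ⟶ W) (f' : W' ⟶ V) (h : IsPullback g' f' b f) (b' : W' ⟶ Xb) (hb' : f' ≫ f = b')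
    (F : CohTop.Ab Xb) :
    Nonempty ((CohTop.pull f ⋙ CohTop.push f).obj ((CohTop.push b).obj ((CohTop.pull b).obj F)) ≅
      (CohTop.push b').obj ((CohTop.pull b').obj F)) := by
  subst hb'
  have e1 : (CohTop.pull f).obj ((CohTop.push b).obj ((CohTop.pull b).obj F)) ≅
      (CohTop.push f').obj ((CohTop.pull g').obj ((CohTop.pull b).obj F)) :=
    (Groth.Agent.Lib.PBCTopH2.bcIso h hb hsb).app ((CohTop.pull b).obj F)
  have e2 : (CohTop.pull g').obj ((CohTop.pull b).obj F) ≅ (CohTop.pull (f' ≫ f)).obj F :=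
    ((pullComp g' b).symm ≪≫ pullCongr h.w).app F
  exact ⟨(CohTop.push f).mapIso (e1 ≪≫ (CohTop.push f').mapIso e2) ≪≫ (pushComp f f').app _⟩

/-! ### The terms of the cobar resolution -/

section Main

variable {X : TopCat.{u}} {I : Type u} (U : I → Set X)
  (hU : ∀ i, IsClosed (U i)) (hlf : LocallyFinite U)

include hU hlf in
theorem nonempty_X_iso (F : CohTop.Ab X) : ∀ n : ℕ,
    Nonempty (Groth.Agent.Lib.CobarH7.X (CohTop.pull (bp U 0)) (CohTop.push (bp U 0)) F (n + 1) ≅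
      (CohTop.push (bp U n)).obj ((CohTop.pull (bp U n)).obj F))
  | 0 => ⟨Iso.refl _⟩
  | n + 1 => by
    obtain ⟨e0⟩ := nonempty_X_iso F n
    obtain ⟨e1⟩ := nonempty_step (bp U 0) (bp U n) (isProperMap_bp U hU hlf n) (sep_bp U n)
      (drop U n) (last U n) (isPullback_drop_last U n) (bp U (n + 1)) (last_bp U n) F
    exact ⟨(CohTop.pull (bp U 0) ⋙ CohTop.push (bp U 0)).mapIso e0 ≪≫ e1⟩

/-- the `E_1` term -/
noncomputable def T (F : CohTop.Ab X) (p q : ℕ) : AddCommGrpCat.{u} :=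
  AddCommGrpCat.of (∀ σ : Fin (p + 1) → I, CohTop.H ((CohTop.pull (incl U σ)).obj F) q)

/-- isomorphic sheaves have isomorphic cohomology -/
noncomputable def HIso {Y : TopCat.{u}} {G G' : CohTop.Ab Y} (e : G ≅ G') (q : ℕ) :
    AddCommGrpCat.of (CohTop.H G q) ≅ AddCommGrpCat.of (CohTop.H G' q) :=
  ((Abelian.extFunctor q).obj (op (Leray.KK Y))).mapIso e

include hU hlf in
theorem nonempty_term_iso (F : CohTop.Ab X) (p q : ℕ) :
    Nonempty (((gs X).rightDerived q).obj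
      (Groth.Agent.Lib.CobarH7.X (CohTop.pull (bp U 0)) (CohTop.push (bp U 0)) F (p + 1)) ≅
        T U F p q) := by
  obtain ⟨e1⟩ := nonempty_X_iso U hU hlf F p
  have e2 := ((gs X).rightDerived q).mapIso e1
  obtain ⟨e3⟩ := nonempty_gsDerived_iso X ((CohTop.push (bp U p)).obj ((CohTop.pull (bp U p)).obj F)) q
  obtain ⟨e4⟩ := nonempty_H_push_iso (bp U p) (isProperMap_bp U hU hlf p) (sep_bp U p)
    (finite_fibre_bp U hlf p) ((CohTop.pull (bp U p)).obj F) q
  obtain ⟨e5⟩ := nonempty_H_cover_iso (ιp U p) (isOpenEmbedding_ιp U p)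
    (disjoint_range_ιp U p) (cover_range_ιp U p) ((CohTop.pull (bp U p)).obj F) q
  have e6 : AddCommGrpCat.of (∀ σ : Fin (p + 1) → I,
        CohTop.H ((CohTop.pull (ιp U p σ)).obj ((CohTop.pull (bp U p)).obj F)) q) ≅ T U F p q :=
    piIso (fun σ => HIso (((pullComp (ιp U p σ) (bp U p)).symm ≪≫
      pullCongr (ιp_bp U p σ)).app F) q)
  exact ⟨e2 ≪≫ e3 ≪≫ e4 ≪≫ e5 ≪≫ e6⟩

/-! ### The spectral sequence -/

/-- the abutment -/
noncomputable def Hab (F : CohTop.Ab X) (n : ℤ) : AddCommGrpCat.{u} :=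
  if 0 ≤ n then AddCommGrpCat.of (CohTop.H F n.toNat) else AddCommGrpCat.of PUnit.{u + 1}

/-- the first page -/
noncomputable def E1 (F : CohTop.Ab X) (p q : ℤ) : AddCommGrpCat.{u} :=
  if 0 ≤ p ∧ 0 ≤ q then T U F p.toNat q.toNat else AddCommGrpCat.of PUnit.{u + 1}

lemma Hab_natCast (F : CohTop.Ab X) (n : ℕ) :
    Hab F (n : ℤ) = AddCommGrpCat.of (CohTop.H F n) := by
  unfold Hab
  rw [if_pos (Int.natCast_nonneg n), Int.toNat_natCast]

lemma E1_natCast (F : CohTop.Ab X) (p q : ℕ) : E1 U F (p : ℤ) (q : ℤ) = T U F p q := by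
  unfold E1
  rw [if_pos ⟨Int.natCast_nonneg p, Int.natCast_nonneg q⟩, Int.toNat_natCast, Int.toNat_natCast]

lemma nonempty_Hab_iso (F : CohTop.Ab X) (n : ℕ) :
    Nonempty (((gs X).rightDerived n).obj F ≅ Hab F (n : ℤ)) := by
  rw [Hab_natCast]
  exact nonempty_gsDerived_iso X F n

lemma isZero_Hab (F : CohTop.Ab X) (n : ℤ) (hn : n < 0) : IsZero (Hab F n) := by
  unfold Hab
  rw [if_neg (by omega)]
  exact AddCommGrpCat.isZero_of_subsingleton _

lemma isZero_E1 (F : CohTop.Ab X) (p q : ℤ) (h : p < 0 ∨ q < 0) : IsZero (E1 U F p q) := by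
  unfold E1
  rw [if_neg (by omega)]
  exact AddCommGrpCat.isZero_of_subsingleton _

include hU hlf in
lemma nonempty_E1_iso (F : CohTop.Ab X) (p q : ℕ) :
    Nonempty (((gs X).rightDerived q).obj
      (Groth.Agent.Lib.CobarH7.X (CohTop.pull (bp U 0)) (CohTop.push (bp U 0)) F (p + 1)) ≅
        E1 U F (p : ℤ) (q : ℤ)) := by
  rw [E1_natCast]
  exact nonempty_term_iso U hU hlf F p q

variable (hcov : ⋃ i, U i = Set.univ)

include hU hlf hcov in
set_option maxHeartbeats 400000 in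
theorem main' (F : CohTop.Ab X) :
    ∃ (E : CohomologicalSpectralSequence AddCommGrpCat.{u} 1)
      (a : SpSeq.Abutment E (Hab F)),
      (∀ n, a.IsFinite n) ∧ SpSeq.IsBounded E ∧
      ∀ p q : ℤ, Nonempty ((E.page 1 le_rfl).X (p, q) ≅ E1 U F p q) := by
  have hL : ∀ A : CohTop.Ab X, IsZero ((CohTop.pull (bp U 0)).obj A) → IsZero A :=
    isZero_of_isZero_pull (bp U 0) (surjective_bp0 U hcov)
  obtain ⟨e⟩ := Groth.Agent.Lib.CobarH7.nonempty_iso_cycles (Groth.Agent.Lib.SoftH2.pbAdj (bp U 0)) hL F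
  have h1 := Groth.Agent.Lib.CobarH7.isZero_homology_K (Groth.Agent.Lib.SoftH2.pbAdj (bp U 0)) hL F
  have h2 := @Groth.Agent.Lib.CxGrothSSH7.exists_ss (CohTop.Ab X) _ _ AddCommGrpCat.{u} _ _
    (gs X) _ _ _ _ _
    (Groth.Agent.Lib.CobarH7.K (Groth.Agent.Lib.SoftH2.pbAdj (bp U 0)) F)
  have h3 := h2 h1 e
  have h4 := h3 (Hab F)
  have h5 := h4 (nonempty_Hab_iso F)
  have h6 := h5 (isZero_Hab F)
  have h7 := h6 (E1 U F)
  have h8 := h7 (nonempty_E1_iso U hU hlf F)
  exact h8 (isZero_E1 U F)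

include hU hlf hcov in
set_option maxHeartbeats 400000 in
theorem main (F : CohTop.Ab X) :
    ∃ (E : CohomologicalSpectralSequence AddCommGrpCat.{u} 1)
      (a : SpSeq.Abutment E (fun n : ℤ =>
        if 0 ≤ n then AddCommGrpCat.of (CohTop.H F n.toNat) else AddCommGrpCat.of PUnit.{u + 1})),
      (∀ n, a.IsFinite n) ∧ SpSeq.IsBounded E ∧
      ∀ p q : ℤ, Nonempty ((E.page 1 le_rfl).X (p, q) ≅
        (if 0 ≤ p ∧ 0 ≤ q then T U F p.toNat q.toNat else AddCommGrpCat.of PUnit.{u + 1})) := by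
  have h := main' U hU hlf hcov F
  have hH : Hab F = (fun n : ℤ =>
      if 0 ≤ n then AddCommGrpCat.of (CohTop.H F n.toNat) else AddCommGrpCat.of PUnit.{u + 1}) :=
    rfl
  have hE : E1 U F = (fun p q : ℤ =>
      if 0 ≤ p ∧ 0 ≤ q then T U F p.toNat q.toNat else AddCommGrpCat.of PUnit.{u + 1}) := rfl
  rw [hH, hE] at h
  exact h

end Main

end Groth.Agent.Lib.TopDescH7
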