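import Mathlib
import Groth.Agent.Lib.ExtKer1_helper9

/-!
Top exterior power of `R^n / R a` (helper9).  APPEND-ONLY once landed.
-/

set_option autoImplicit false
universe u

open exteriorPower

namespace Groth.Agent.TopExt9

variable {R : Type*} [CommRing R]

/-- expansion of an alternating map along a basis in one slot -/
theorem alt_update_basis {M N : Type*} [AddCommGroup M] [Module R M] [AddCommGroup N] [Module R N]
    {n : ℕ} (f : M [⋀^Fin n]→ₗ[R] N) (e : Module.Basis (Fin n) R M) (m : Fin n → M) (i : Fin n)
    (x : M) : f (Function.update m i x) = ∑ k, e.repr x k • f (Function.update m i (e k)) := by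
  conv_lhs => rw [← e.sum_repr x]
  rw [AlternatingMap.map_update_sum]
  refine Finset.sum_congr rfl fun k _ => ?_
  rw [AlternatingMap.map_update_smul]

variable (R) (n : ℕ)

/-- the standard basis of `R^n` -/
noncomputable abbrev eb : Module.Basis (Fin n) R (Fin n → R) := Pi.basisFun R (Fin n)

/-- the generator `e_1 ∧ … ∧ e_n` -/
noncomputable def omega : ⋀[R]^n (Fin n → R) := ιMulti R n (fun i => eb R n i)

/-- the determinant as a linear form on the top exterior power -/
noncomputable def D : ⋀[R]^n (Fin n → R) →ₗ[R] R := alternatingMapLinearEquiv (eb R n).det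

theorem D_ιMulti (v : Fin n → (Fin n → R)) : D R n (ιMulti R n v) = (eb R n).det v := by
  unfold D
  rw [alternatingMapLinearEquiv_apply_ιMulti]

theorem D_omega : D R n (omega R n) = 1 := by
  unfold omega
  rw [D_ιMulti]
  exact (eb R n).det_self

theorem ιMulti_eq_det_smul (v : Fin n → (Fin n → R)) :
    ιMulti R n v = (eb R n).det v • omega R n := by
  have h : (ιMulti R n : (Fin n → R) [⋀^Fin n]→ₗ[R] _) =
      (LinearMap.toSpanSingleton R _ (omega R n)).compAlternatingMap (eb R n).det := by
    apply Module.Basis.ext_alternating (eb R n)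
    intro σ hσ
    have hbij : Function.Bijective σ := Finite.injective_iff_bijective.1 hσ
    let σ' : Equiv.Perm (Fin n) := Equiv.ofBijective σ hbij
    have e1 : (fun i => eb R n (σ i)) = (fun i => eb R n i) ∘ σ' := rfl
    rw [e1, AlternatingMap.map_perm, LinearMap.compAlternatingMap_apply, AlternatingMap.map_perm]
    rw [LinearMap.toSpanSingleton_apply]
    have : (eb R n).det (fun i => eb R n i) = 1 := (eb R n).det_self
    rw [this, smul_assoc, one_smul]
    rfl
  have := congrArg (fun f => f v) h
  simpa [LinearMap.compAlternatingMap_apply, LinearMap.toSpanSingleton_apply] using this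

theorem eq_D_smul (x : ⋀[R]^n (Fin n → R)) : x = D R n x • omega R n := by
  have hx : x ∈ Submodule.span R (Set.range (ιMulti R n (M := Fin n → R))) := by
    rw [ιMulti_span]; trivial
  induction hx using Submodule.span_induction with
  | mem y hy =>
    obtain ⟨v, rfl⟩ := hy
    rw [D_ιMulti]
    exact ιMulti_eq_det_smul R n v
  | zero => simp
  | add y z _ _ hy hz => rw [map_add, add_smul, ← hy, ← hz]
  | smul c y _ hy => rw [map_smul, smul_assoc, ← hy]

variable {R n}

/-- `a_i • ω = e_1 ∧ … ∧ a ∧ … ∧ e_n` -/
theorem smul_omega_eq (a : Fin n → R) (i : Fin n) :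
    a i • omega R n = ιMulti R n (Function.update (fun k => eb R n k) i a) := by
  classical
  rw [alt_update_basis (ιMulti R n) (eb R n) (fun k => eb R n k) i a]
  rw [Finset.sum_eq_single i]
  · rw [Function.update_eq_self]
    rfl
  · intro k _ hki
    have : ιMulti R n (Function.update (fun k => eb R n k) i (eb R n k)) = 0 := by
      refine AlternatingMap.map_eq_zero_of_eq _ _ (i := i) (j := k) ?_ (Ne.symm hki)
      rw [Function.update_self, Function.update_of_ne hki]
    rw [this, smul_zero]
  · intro h; exact absurd (Finset.mem_univ i) h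

/-- determinants with one column a multiple of `a` lie in the ideal of the coordinates of `a` -/
theorem det_mem_span (a : Fin n → R) (m : Fin n → (Fin n → R)) (i : Fin n) (c : R)
    (hm : m i = c • a) : (eb R n).det m ∈ Ideal.span (Set.range a) := by
  classical
  have h1 : m = Function.update m i (c • a) := by rw [← hm, Function.update_eq_self]
  rw [h1, AlternatingMap.map_update_smul, alt_update_basis (eb R n).det (eb R n) m i a]
  refine Ideal.mul_mem_left _ _ ?_
  refine Ideal.sum_mem _ fun k _ => ?_
  have : (eb R n).repr a k = a k := rfl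
  rw [this, smul_eq_mul]
  exact Ideal.mul_mem_right _ _ (Ideal.subset_span ⟨k, rfl⟩)

end Groth.Agent.TopExt9
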