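import Mathlib
import Groth.Agent.Lib.TopExt1_helper9

set_option autoImplicit false
universe u

open exteriorPower

namespace Groth.Agent.TopExt9

variable {R : Type*} [CommRing R]

theorem annihilator_top_ext (q : ℕ) (a : Fin (q + 1) → R) :
    (⋀[R]^(q + 1) ((Fin (q + 1) → R) ⧸ Submodule.span R {a})).annihilator
      = Ideal.span (Set.range a) := by
  classical
  set π := (Submodule.span R {a}).mkQ with hπdef
  have hπ : Function.Surjective π := Submodule.mkQ_surjective _
  have hπa : π a = 0 := by
    rw [hπdef, Submodule.mkQ_apply, Submodule.Quotient.mk_eq_zero]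
    exact Submodule.mem_span_singleton_self a
  apply le_antisymm
  · -- ⊆
    intro r hr
    have h1 : r • exteriorPower.map (q + 1) π (omega R (q + 1)) = 0 :=
      Module.mem_annihilator.1 hr _
    rw [← map_smul] at h1
    have h2 : r • omega R (q + 1) ∈ Groth.Agent.ExtKer9.K π q :=
      Groth.Agent.ExtKer9.ker_map_le (π := π) q hπ (LinearMap.mem_ker.2 h1)
    have h3 : ∀ x ∈ Groth.Agent.ExtKer9.K π q, D R (q + 1) x ∈ Ideal.span (Set.range a) := by
      intro x hx
      induction hx using Submodule.span_induction with
      | mem y hy =>
        obtain ⟨m, hm, rfl⟩ := hy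
        rw [D_ιMulti]
        have hm0 : m 0 ∈ Submodule.span R {a} := by
          rw [← Submodule.Quotient.mk_eq_zero]
          exact hm
        obtain ⟨c, hc⟩ := Submodule.mem_span_singleton.1 hm0
        exact det_mem_span a m 0 c hc.symm
      | zero => rw [map_zero]; exact Ideal.zero_mem _
      | add y z _ _ hy hz => rw [map_add]; exact Ideal.add_mem _ hy hz
      | smul c y _ hy => rw [map_smul]; exact Ideal.mul_mem_left _ _ hy
    have h4 := h3 _ h2
    rw [map_smul, D_omega, smul_eq_mul, mul_one] at h4
    exact h4
  · -- ⊇
    rw [Ideal.span_le]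
    rintro _ ⟨i, rfl⟩
    rw [SetLike.mem_coe, Module.mem_annihilator]
    intro y
    have hy : y ∈ Submodule.span R (Set.range (ιMulti R (q + 1)
        (M := (Fin (q + 1) → R) ⧸ Submodule.span R {a}))) := by
      rw [ιMulti_span]; trivial
    have hω : a i • exteriorPower.map (q + 1) π (omega R (q + 1)) = 0 := by
      rw [← map_smul, smul_omega_eq a i, exteriorPower.map_apply_ιMulti]
      refine AlternatingMap.map_coord_zero _ i ?_
      simp only [Function.comp_apply, Function.update_self]
      exact hπa
    induction hy using Submodule.span_induction with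
    | mem z hz =>
      obtain ⟨w, rfl⟩ := hz
      choose v hv using fun j => hπ (w j)
      have : w = π ∘ v := funext fun j => (hv j).symm
      rw [this, ← exteriorPower.map_apply_ιMulti, ιMulti_eq_det_smul, map_smul, smul_comm, hω,
        smul_zero]
    | zero => rw [smul_zero]
    | add z z' _ _ hz hz' => rw [smul_add, hz, hz', add_zero]
    | smul c z _ hz => rw [smul_comm, hz, smul_zero]

end Groth.Agent.TopExt9
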