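import Mathlib
import Groth.Agent.Lib.TopExt2_helper9

set_option autoImplicit false
universe u

namespace Groth.Agent.TopExt9

variable {R : Type u} [CommRing R] (S : Submonoid R) (Rp : Type u) [CommRing Rp] [Algebra R Rp]
  [IsLocalization S Rp] {n : ℕ} (a : Fin n → R) (i : Fin n) (hai : a i ∈ S)

/-- the inverse of the image of `a i` -/
noncomputable def uinv : Rp := ((IsLocalization.map_units Rp (⟨a i, hai⟩ : S)).unit⁻¹ : Rpˣ)

theorem alg_mul_uinv : algebraMap R Rp (a i) * uinv S Rp a i hai = 1 := by
  unfold uinv
  exact (IsLocalization.map_units Rp (⟨a i, hai⟩ : S)).mul_val_inv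

/-- the projection `R^n → R_p^{n-1}` killing `a` -/
noncomputable def psi : (Fin n → R) →ₗ[R] ({j : Fin n // j ≠ i} → Rp) :=
  LinearMap.pi fun j =>
    (Algebra.linearMap R Rp ∘ₗ LinearMap.proj j.1) -
      (algebraMap R Rp (a j.1) * uinv S Rp a i hai) •
        (Algebra.linearMap R Rp ∘ₗ (LinearMap.proj i : (Fin n → R) →ₗ[R] R))

theorem psi_apply (v : Fin n → R) (j : {j : Fin n // j ≠ i}) :
    psi S Rp a i hai v j = algebraMap R Rp (v j.1)
      - algebraMap R Rp (a j.1) * uinv S Rp a i hai * algebraMap R Rp (v i) := rfl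

theorem psi_a : psi S Rp a i hai a = 0 := by
  funext j
  rw [psi_apply, mul_assoc, mul_comm (uinv S Rp a i hai), alg_mul_uinv, mul_one, sub_self]
  rfl

/-- the induced map on the quotient -/
noncomputable def psiBar : ((Fin n → R) ⧸ Submodule.span R {a}) →ₗ[R] ({j : Fin n // j ≠ i} → Rp) :=
  (Submodule.span R {a}).liftQ (psi S Rp a i hai) (by
    rw [Submodule.span_le, Set.singleton_subset_iff]
    exact LinearMap.mem_ker.2 (psi_a S Rp a i hai))

theorem psiBar_mk (v : Fin n → R) :
    psiBar S Rp a i hai ((Submodule.span R {a}).mkQ v) = psi S Rp a i hai v := rfl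

instance psiBar_isLocalizedModule : IsLocalizedModule S (psiBar S Rp a i hai) where
  map_units := by
    intro s
    have hs : IsUnit (algebraMap R Rp s) := IsLocalization.map_units Rp s
    rw [Module.End.isUnit_iff]
    constructor
    · intro x y hxy
      simp only [Module.algebraMap_end_apply] at hxy
      funext j
      have := congr_fun hxy j
      simp only [Pi.smul_apply, Algebra.smul_def] at this
      exact hs.mul_left_cancel this
    · intro y
      refine ⟨fun j => (hs.unit⁻¹ : Rpˣ) * y j, ?_⟩
      funext j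
      simp only [Module.algebraMap_end_apply, Pi.smul_apply, Algebra.smul_def]
      rw [← mul_assoc, hs.mul_val_inv, one_mul]
  surj := by
    intro y
    obtain ⟨b, hb⟩ := IsLocalization.exist_integer_multiples_of_finite S y
    choose r hr using hb
    refine ⟨⟨(Submodule.span R {a}).mkQ (fun j => if h : j ≠ i then r ⟨j, h⟩ else 0), b⟩, ?_⟩
    rw [psiBar_mk]
    funext j
    rw [psi_apply]
    simp only [ne_eq, not_true_eq_false, dite_false, map_zero, mul_zero, sub_zero]
    rw [dif_pos j.2]
    change (b : R) • y j = _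
    rw [← hr j]
  exists_of_eq := by
    classical
    intro x₁ x₂ h
    obtain ⟨v₁, rfl⟩ := Submodule.mkQ_surjective _ x₁
    obtain ⟨v₂, rfl⟩ := Submodule.mkQ_surjective _ x₂
    set v := v₁ - v₂ with hv
    have hψ : psi S Rp a i hai v = 0 := by
      rw [hv, map_sub, sub_eq_zero]
      exact h
    -- clear denominators
    have hex : ∀ j : {j : Fin n // j ≠ i}, ∃ t : S, (t : R) * (a i * v j.1) = (t : R) * (a j.1 * v i) := by
      intro j
      have h1 := congr_fun hψ j
      rw [psi_apply, Pi.zero_apply, sub_eq_zero] at h1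
      have h2 : algebraMap R Rp (a i * v j.1) = algebraMap R Rp (a j.1 * v i) := by
        rw [map_mul, map_mul, h1]
        have := alg_mul_uinv S Rp a i hai
        calc algebraMap R Rp (a i) * (algebraMap R Rp (a j.1) * uinv S Rp a i hai * algebraMap R Rp (v i))
            = (algebraMap R Rp (a i) * uinv S Rp a i hai) * (algebraMap R Rp (a j.1) * algebraMap R Rp (v i)) := by ring
          _ = _ := by rw [this, one_mul]
      obtain ⟨t, ht⟩ := (IsLocalization.eq_iff_exists S Rp).1 h2
      exact ⟨t, ht⟩
    choose t ht using hex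
    let T : S := ∏ j, t j
    have hT : ∀ j : {j : Fin n // j ≠ i}, (T : R) * (a i * v j.1) = (T : R) * (a j.1 * v i) := by
      intro j
      have hdvd : ((t j : S) : R) ∣ (T : R) := by
        have : (T : R) = ∏ j, ((t j : S) : R) := by
          simp [T]
        rw [this]
        exact Finset.dvd_prod_of_mem _ (Finset.mem_univ j)
      obtain ⟨e, he⟩ := hdvd
      rw [he, mul_comm ((t j : S) : R) e, mul_assoc, mul_assoc, ht j]
    refine ⟨T * ⟨a i, hai⟩, ?_⟩
    have key : ((T : R) * a i) • v ∈ Submodule.span R {a} := by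
      rw [Submodule.mem_span_singleton]
      refine ⟨(T : R) * v i, ?_⟩
      funext k
      change (T : R) * v i * a k = ((T : R) * a i) * v k
      by_cases hk : k = i
      · subst hk; ring
      · have := hT ⟨k, hk⟩
        simp only at this
        linear_combination -this
    rw [Submonoid.smul_def, Submonoid.smul_def]
    have hcoe : ((T * ⟨a i, hai⟩ : S) : R) = (T : R) * a i := rfl
    rw [hcoe, ← sub_eq_zero, ← smul_sub, ← map_sub, ← hv, ← map_smul, Submodule.mkQ_apply,
      Submodule.Quotient.mk_eq_zero]
    exact key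

end Groth.Agent.TopExt9
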