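import Mathlib
import Groth.Agent.Lib.TopInv_helper4

/-!
# Topological invariance of étale morphisms: Hom-sets along universal homeomorphisms (helper4)
-/

open AlgebraicGeometry CategoryTheory Limits MorphismProperty

universe u

set_option autoImplicit false
set_option linter.style.haveILetI false

namespace Groth.Agent.Lib.TopInvH4

theorem isHomeomorph_of_integral {X Y : Scheme.{u}} (j : X ⟶ Y) [IsIntegralHom j]
    [UniversallyInjective j] [Surjective j] : IsHomeomorph j := by
  rw [isHomeomorph_iff_continuous_isClosedMap_bijective]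
  exact ⟨j.continuous, j.isClosedMap, j.injective, j.surjective⟩

set_option maxHeartbeats 800000 in
/-- Existence of the lift along a universal homeomorphism. -/
theorem exists_lift' {S X Y Y₀ : Scheme.{u}} (p : X ⟶ S) [Etale p] (q : Y ⟶ S) (j : Y₀ ⟶ Y)
    [IsIntegralHom j] [UniversallyInjective j] [Surjective j] (γ : Y₀ ⟶ X)
    (hγ : γ ≫ p = j ≫ q) :
    ∃ φ : Y ⟶ X, φ ≫ p = q ∧ j ≫ φ = γ := by
  let π : pullback p q ⟶ Y := pullback.snd p q
  let γ' : Y₀ ⟶ pullback p q := pullback.lift γ j hγ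
  have hγ'π : γ' ≫ π = j := pullback.lift_snd _ _ _
  have hγ'fst : γ' ≫ pullback.fst p q = γ := pullback.lift_fst _ _ _
  let j' : pullback π j ⟶ pullback p q := pullback.fst π j
  let π₀ : pullback π j ⟶ Y₀ := pullback.snd π j
  let σ : Y₀ ⟶ pullback π j := pullback.lift γ' (𝟙 Y₀) (by rw [hγ'π, Category.id_comp])
  have hσπ₀ : σ ≫ π₀ = 𝟙 Y₀ := pullback.lift_snd _ _ _
  have hσj' : σ ≫ j' = γ' := pullback.lift_fst _ _ _
  haveI : IsOpenImmersion σ := isOpenImmersion_of_section σ π₀ hσπ₀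
  haveI : UniversallyInjective j' :=
    MorphismProperty.pullback_fst (P := @UniversallyInjective) π j ‹_›
  haveI : Surjective j' := MorphismProperty.pullback_fst (P := @Surjective) π j ‹_›
  have hj'homeo : IsHomeomorph j' := isHomeomorph_of_integral j'
  have hj'inj : Function.Injective j' := hj'homeo.injective
  have hj'open : IsOpenMap j' := hj'homeo.isOpenMap
  have hrange : Set.range γ' = j' '' Set.range σ := by
    rw [← Set.range_comp, ← hσj']
    rfl
  let Γ : (pullback p q).Opens := ⟨Set.range γ', by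
    rw [hrange]; exact hj'open _ σ.isOpenEmbedding.isOpen_range⟩
  let Γ₀ : (pullback π j).Opens := j' ⁻¹ᵁ Γ
  have hsq : IsPullback (Γ₀.ι ≫ π₀) (j' ∣_ Γ) j (Γ.ι ≫ π) :=
    ((isPullback_morphismRestrict j' Γ).paste_vert (IsPullback.of_hasPullback π j)).flip
  have hσΓ₀ : Set.range σ ⊆ Set.range Γ₀.ι := by
    rintro _ ⟨y₀, rfl⟩
    rw [Scheme.Opens.range_ι]
    change j' (σ y₀) ∈ Set.range γ'
    exact ⟨y₀, by rw [← hσj']; rfl⟩
  let σ' : Y₀ ⟶ Γ₀ := IsOpenImmersion.lift Γ₀.ι σ hσΓ₀
  have hσ' : σ' ≫ Γ₀.ι = σ := IsOpenImmersion.lift_fac _ _ _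
  haveI : IsOpenImmersion (σ' ≫ Γ₀.ι) := by rw [hσ']; infer_instance
  haveI : IsOpenImmersion σ' := IsOpenImmersion.of_comp σ' Γ₀.ι
  haveI : Surjective σ' := ⟨fun z => by
    have hz : j' (Γ₀.ι z) ∈ Set.range γ' := z.2
    obtain ⟨y₀, hy₀⟩ := hz
    refine ⟨y₀, Γ₀.ι.isOpenEmbedding.injective (hj'inj ?_)⟩
    change j' ((σ' ≫ Γ₀.ι) y₀) = _
    rw [hσ', ← hy₀, ← hσj']
    rfl⟩
  haveI : IsIso σ' :=
    (isIso_iff_isOpenImmersion_and_surjective σ').mpr ⟨inferInstance, inferInstance⟩
  haveI : IsIso (Γ₀.ι ≫ π₀) := by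
    have : Γ₀.ι ≫ π₀ = inv σ' := by
      rw [← cancel_epi σ', IsIso.hom_inv_id, ← Category.assoc, hσ', hσπ₀]
    rw [this]; infer_instance
  let f : (Γ : Scheme.{u}) ⟶ Y := Γ.ι ≫ π
  obtain ⟨hfs, hfu⟩ := surjective_and_universallyInjective_of_isPullback hsq
  haveI : Surjective f := hfs
  haveI : UniversallyInjective f := hfu
  haveI : IsIso f := isIso_of_etale_of_universallyInjective f
  have hγ'Γ : Set.range γ' ⊆ Set.range Γ.ι := by
    rw [Scheme.Opens.range_ι]
    exact subset_rfl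
  let γ'' : Y₀ ⟶ Γ := IsOpenImmersion.lift Γ.ι γ' hγ'Γ
  have hγ'' : γ'' ≫ Γ.ι = γ' := IsOpenImmersion.lift_fac _ _ _
  have hjf : γ'' ≫ f = j := by
    change γ'' ≫ Γ.ι ≫ π = j
    rw [← Category.assoc, hγ'', hγ'π]
  refine ⟨inv f ≫ Γ.ι ≫ pullback.fst p q, ?_, ?_⟩
  · rw [Category.assoc, Category.assoc, pullback.condition]
    change inv f ≫ Γ.ι ≫ π ≫ q = q
    rw [← Category.assoc Γ.ι, IsIso.inv_hom_id_assoc]
  · have : j ≫ inv f = γ'' := by
      rw [← hjf, Category.assoc, IsIso.hom_inv_id, Category.comp_id]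
    rw [← Category.assoc, this, ← Category.assoc, hγ'', hγ'fst]

set_option maxHeartbeats 800000 in
theorem main0076 {S S' : Scheme.{u}} (i : S' ⟶ S) [IsIntegralHom i] [UniversallyInjective i]
    [Surjective i]
    (X Y : Over S) [Etale X.hom] :
    Function.Bijective (fun φ : Y ⟶ X => (Over.pullback i).map φ) := by
  let p : X.left ⟶ S := X.hom
  let q : Y.left ⟶ S := Y.hom
  haveI : Etale p := ‹_›
  let j : pullback q i ⟶ Y.left := pullback.fst q i
  haveI : UniversallyInjective j :=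
    MorphismProperty.pullback_fst (P := @UniversallyInjective) q i ‹_›
  haveI : Surjective j := MorphismProperty.pullback_fst (P := @Surjective) q i ‹_›
  have hmap : ∀ φ : Y ⟶ X,
      ((Over.pullback i).map φ).left ≫ pullback.fst p i = j ≫ φ.left := by
    intro φ
    change pullback.lift (pullback.fst Y.hom i ≫ φ.left) (pullback.snd Y.hom i) _ ≫
      pullback.fst X.hom i = pullback.fst Y.hom i ≫ φ.left
    exact pullback.lift_fst _ _ _
  constructor
  · intro φ ψ h
    have h' : ((Over.pullback i).map φ).left = ((Over.pullback i).map ψ).left :=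
      congrArg (fun α => α.left) h
    have h2 : j ≫ φ.left = j ≫ ψ.left := by rw [← hmap, ← hmap, h']
    apply Over.OverMorphism.ext
    exact unique_lift p q j φ.left ψ.left (Over.w φ) (Over.w ψ) h2
  · intro ψ
    let γ : pullback q i ⟶ X.left := ψ.left ≫ pullback.fst p i
    have hψ : ψ.left ≫ pullback.snd p i = pullback.snd q i := Over.w ψ
    have hγ : γ ≫ p = j ≫ q := by
      change (ψ.left ≫ pullback.fst p i) ≫ p = pullback.fst q i ≫ q
      rw [Category.assoc, pullback.condition, ← Category.assoc, hψ, pullback.condition]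
    obtain ⟨φ, hφ1, hφ2⟩ := exists_lift' p q j γ hγ
    refine ⟨Over.homMk φ hφ1, ?_⟩
    apply Over.OverMorphism.ext
    apply pullback.hom_ext
    · change ((Over.pullback i).map (Over.homMk φ hφ1)).left ≫ pullback.fst p i =
        ψ.left ≫ pullback.fst p i
      rw [hmap]
      exact hφ2
    · change ((Over.pullback i).map (Over.homMk φ hφ1)).left ≫ pullback.snd p i =
        ψ.left ≫ pullback.snd p i
      rw [hψ]
      change pullback.lift (pullback.fst Y.hom i ≫ φ) (pullback.snd Y.hom i) _ ≫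
        pullback.snd X.hom i = pullback.snd Y.hom i
      exact pullback.lift_snd _ _ _

end Groth.Agent.Lib.TopInvH4
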