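import Mathlib
import Groth.Prelude.Def_Wider
import Groth.Agent.Lib.TopLC1_helper1
import Groth.Agent.Lib.HLVT6_helper3
import Groth.Agent.Lib.NonVan3_helper7
import Groth.Agent.Lib.InjHull3_helper3
import Groth.Agent.Lib.LocCohBaseIndep_helper7
import Groth.Agent.Lib.LocCohTopVan2_helper7

/-!
# Coassociated primes of the top local cohomology module (helper1)

`Ass Hom(H^n_I(M), E) = {p ⊇ Ann M : dim R/p = n, rad(I + p) = m}` over a complete local ring.
-/

set_option autoImplicit false
set_option maxSynthPendingDepth 3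
universe u

open CategoryTheory IsLocalRing

namespace Groth.Agent.Lib.TopLCH1

section general

variable {R : Type u} [CommRing R]

theorem wb_one_le_of_pos (x : WithBot ℕ∞) (h : 0 < x) : 1 ≤ x := by
  induction x using WithBot.recBotCoe with
  | bot => exact absurd h not_lt_bot
  | coe a =>
    have ha : 0 < a := by exact_mod_cast h
    have h1 : 1 ≤ a := Order.one_le_iff_ne_zero.2 ha.ne'
    exact_mod_cast h1

theorem dim_pos_of_radical_ne [IsLocalRing R] (J : Ideal R) (hJ : J ≠ ⊤)
    (hrad : J.radical ≠ maximalIdeal R) : 0 < ringKrullDim (R ⧸ J) := by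
  have hJm : J ≤ maximalIdeal R := le_maximalIdeal hJ
  have hex : ∃ q : Ideal R, q.IsPrime ∧ J ≤ q ∧ q ≠ maximalIdeal R := by
    by_contra hcon
    push_neg at hcon
    apply hrad
    apply le_antisymm
    · exact (Ideal.IsPrime.radical_le_iff (inferInstance : (maximalIdeal R).IsPrime)).2 hJm
    · rw [Ideal.radical_eq_sInf]
      apply le_sInf
      rintro q ⟨hJq, hq⟩
      rw [hcon q hq hJq]
  obtain ⟨q, hq, hJq, hqm⟩ := hex
  have hlt : q < maximalIdeal R := lt_of_le_of_ne (le_maximalIdeal hq.ne_top) hqm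
  rw [ringKrullDim_quotient, Order.krullDim_pos_iff]
  exact ⟨⟨⟨q, hq⟩, (PrimeSpectrum.mem_zeroLocus _ _).2 hJq⟩,
    ⟨⟨maximalIdeal R, inferInstance⟩, (PrimeSpectrum.mem_zeroLocus _ _).2 hJm⟩, hlt⟩

theorem eq_of_le_of_dim_eq [IsNoetherianRing R] (p q : Ideal R) [p.IsPrime] [q.IsPrime]
    (hpq : p ≤ q) (n : ℕ) (hp : ringKrullDim (R ⧸ p) = n) (hq : ringKrullDim (R ⧸ q) = n) :
    p = q := by
  by_contra hne
  have hlt : p < q := lt_of_le_of_ne hpq hne
  have h := Groth.Agent.Lib.LocCohTopVanH7.supportDim_quot_succ_le p q hlt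
  rw [Module.supportDim_quotient_eq_ringKrullDim, Module.supportDim_quotient_eq_ringKrullDim,
    hp, hq] at h
  exact Groth.Agent.Lib.LocCohTopVanH7.wb_e n (by exact_mod_cast h)

end general

section main

variable {R : Type u} [CommRing R] [IsNoetherianRing R] [IsLocalRing R]
  (E : Type u) [AddCommGroup E] [Module R E]
  (I : Ideal R) (M : Type u) [AddCommGroup M] [Module R M] [Module.Finite R M] (n : ℕ)

theorem dual_eq_zero_of_subsingleton (hn : Module.supportDim R M ≤ (n : WithBot ℕ∞))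
    (p : Ideal R) (φ : LocCoh.H I n M →ₗ[R] E) (hp : ∀ r ∈ p, r • φ = 0)
    (hsub : Subsingleton (LocCoh.H I n (M ⧸ p • (⊤ : Submodule R M)))) : φ = 0 := by
  apply LinearMap.ext
  intro t
  show φ t = 0
  have ht := mem_smul_top_of_subsingleton I n M hn p hsub t
  refine Submodule.smul_induction_on ht (fun r hr s _ => ?_) (fun x y hx hy => ?_)
  · rw [map_smul, ← LinearMap.smul_apply, hp r hr, LinearMap.zero_apply]
  · rw [map_add, hx, hy, add_zero]

theorem forward [IsAdicComplete (maximalIdeal R) R] (hn : Module.supportDim R M = n)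
    (p : Ideal R) (hp : p ∈ associatedPrimes R (LocCoh.H I n M →ₗ[R] E)) :
    p.IsPrime ∧ Module.annihilator R M ≤ p ∧ ringKrullDim (R ⧸ p) = n ∧
      (I ⊔ p).radical = maximalIdeal R := by
  obtain ⟨hpp, φ, hφ⟩ := (isAssociatedPrime_iff).1 hp
  haveI := hpp
  have hmem : ∀ r, r ∈ p ↔ r • φ = 0 := fun r => by
    rw [hφ, Submodule.mem_colon_singleton, Submodule.mem_bot]
  have hφ0 : φ ≠ 0 := by
    rintro rfl
    exact hpp.ne_top ((Ideal.eq_top_iff_one p).2 ((hmem 1).2 (smul_zero 1)))
  have hNT : Nontrivial (LocCoh.H I n (M ⧸ p • (⊤ : Submodule R M))) := by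
    by_contra hcon
    rw [not_nontrivial_iff_subsingleton] at hcon
    exact hφ0 (dual_eq_zero_of_subsingleton E I M n hn.le p φ (fun r hr => (hmem r).1 hr) hcon)
  have hann : Module.annihilator R M ≤ p := by
    intro a ha
    rw [hmem]
    apply LinearMap.ext
    intro t
    rw [LinearMap.smul_apply, ← map_smul, smul_eq_zero_of_mem_annihilator I n M a ha t, map_zero,
      LinearMap.zero_apply]
  have hpN := le_annihilator_quot M p
  have h1 : (n : WithBot ℕ∞) ≤ Module.supportDim R (M ⧸ p • (⊤ : Submodule R M)) := by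
    by_contra hlt
    rw [not_le] at hlt
    haveI := Groth.Agent.Lib.LocCohGVH7.GV I (M ⧸ p • (⊤ : Submodule R M)) n hlt
    exact false_of_nontrivial_of_subsingleton (LocCoh.H I n (M ⧸ p • (⊤ : Submodule R M)))
  have h2 := supportDim_le_dim_quot (M ⧸ p • (⊤ : Submodule R M)) p hpN
  have h3 : ringKrullDim (R ⧸ p) ≤ (n : WithBot ℕ∞) := by
    rw [← hn]
    exact dim_quot_le_supportDim M p hann
  have hdim : ringKrullDim (R ⧸ p) = n := le_antisymm h3 (h1.trans h2)
  refine ⟨hpp, hann, hdim, ?_⟩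
  by_contra hrad
  apply not_subsingleton (LocCoh.H I n (M ⧸ p • (⊤ : Submodule R M)))
  haveI : Nontrivial (R ⧸ p) := Ideal.Quotient.nontrivial_iff.2 hpp.ne_top
  haveI : IsLocalRing (R ⧸ p) :=
    IsLocalRing.of_surjective' (Ideal.Quotient.mk p) Ideal.Quotient.mk_surjective
  haveI := Groth.Agent.Lib.MonomialCharPH3.isAdicComplete_quotient R p
  haveI : IsScalarTower R (R ⧸ p) (M ⧸ p • (⊤ : Submodule R M)) :=
    Module.IsTorsionBySet.isScalarTower (Module.isTorsionBySet_quotient_ideal_smul M p)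
  obtain ⟨ψ, -⟩ := Groth.Agent.Lib.LocCohBaseIndepH7.main (R ⧸ p) I n
    (M ⧸ p • (⊤ : Submodule R M))
  suffices hs : Subsingleton (LocCoh.H (I.map (algebraMap R (R ⧸ p))) n
      (M ⧸ p • (⊤ : Submodule R M))) from ψ.symm.injective.subsingleton
  by_cases htop : I ⊔ p = ⊤
  · have hmap : I.map (algebraMap R (R ⧸ p)) = ⊤ := by
      have h1 : (I ⊔ p).map (Ideal.Quotient.mk p) = I.map (Ideal.Quotient.mk p) := by
        rw [Ideal.map_sup, Ideal.map_quotient_self, sup_bot_eq]
      rw [Ideal.Quotient.algebraMap_eq, ← h1, htop, Ideal.map_top]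
    rw [hmap]
    exact subsingleton_H_top n _
  · rcases n with _ | n'
    · exfalso
      apply hrad
      have hpm : p = maximalIdeal R := by
        by_contra hne
        have hpos := dim_pos_of_radical_ne p hpp.ne_top (by rw [hpp.radical]; exact hne)
        rw [hdim, Nat.cast_zero] at hpos
        exact lt_irrefl _ hpos
      have hle : I ⊔ p ≤ maximalIdeal R := le_maximalIdeal htop
      have heq : I ⊔ p = maximalIdeal R := le_antisymm hle (by rw [← hpm]; exact le_sup_right)
      rw [heq]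
      exact (inferInstance : (maximalIdeal R).IsPrime).radical
    · have hpos := dim_pos_of_radical_ne (I ⊔ p) htop hrad
      haveI : Module.Finite (R ⧸ p) (M ⧸ p • (⊤ : Submodule R M)) :=
        Module.Finite.of_restrictScalars_finite R (R ⧸ p) _
      haveI : IsDomain (R ⧸ p) := Ideal.Quotient.isDomain p
      apply Groth.Agent.Lib.HLVTH3.subsingleton_H_of_complete (R ⧸ p) n' hdim
        (I.map (algebraMap R (R ⧸ p))) ?_ (M ⧸ p • (⊤ : Submodule R M))
      intro P hP _
      rw [IsDomain.minimalPrimes_eq_singleton_bot (R ⧸ p), Set.mem_singleton_iff] at hP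
      rw [hP, sup_bot_eq, Groth.Agent.Lib.HLVTH3.dim_quot_sup]
      exact wb_one_le_of_pos _ hpos

theorem backward [IsAdicComplete (maximalIdeal R) R] (f : ResidueField R →ₗ[R] E)
    (hf : InjHull.IsInjectiveHull f) (hn : Module.supportDim R M = n) (p : Ideal R)
    (hpp : p.IsPrime) (hann : Module.annihilator R M ≤ p) (hdim : ringKrullDim (R ⧸ p) = n)
    (hrad : (I ⊔ p).radical = maximalIdeal R) :
    p ∈ associatedPrimes R (LocCoh.H I n M →ₗ[R] E) := by
  haveI := hpp
  haveI hMnt : Nontrivial M := by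
    rw [← Module.supportDim_ne_bot_iff_nontrivial (R := R), hn]
    exact WithBot.natCast_ne_bot n
  have hpM : p • (⊤ : Submodule R M) ≠ ⊤ := by
    intro htop
    have hjac : p ≤ (⊥ : Ideal R).jacobson := by
      rw [IsLocalRing.jacobson_eq_maximalIdeal ⊥ bot_ne_top]
      exact le_maximalIdeal hpp.ne_top
    have h0 := Submodule.eq_bot_of_le_smul_of_le_jacobson_bot p (⊤ : Submodule R M)
      Module.Finite.fg_top (le_of_eq htop.symm) hjac
    exact top_ne_bot h0
  haveI hNnt : Nontrivial (M ⧸ p • (⊤ : Submodule R M)) :=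
    Submodule.Quotient.nontrivial_iff.2 hpM
  have hpN := le_annihilator_quot M p
  have hNsupp : Module.annihilator R (M ⧸ p • (⊤ : Submodule R M)) ≤ p := by
    have hmemS : (⟨p, hpp⟩ : PrimeSpectrum R) ∈
        Module.support R (M ⧸ p • (⊤ : Submodule R M)) := by
      rw [Module.support_quotient]
      exact ⟨Module.mem_support_iff_of_finite.2 hann,
        (PrimeSpectrum.mem_zeroLocus _ _).2 (le_refl p)⟩
    exact Module.mem_support_iff_of_finite.1 hmemS
  have hNdim : Module.supportDim R (M ⧸ p • (⊤ : Submodule R M)) = n := by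
    apply le_antisymm
    · rw [← hn]
      exact Module.supportDim_le_of_surjective _ (Submodule.mkQ_surjective _)
    · rw [← hdim]
      exact dim_quot_le_supportDim _ p hNsupp
  haveI hnv : Nontrivial (LocCoh.H (maximalIdeal R) n (M ⧸ p • (⊤ : Submodule R M))) :=
    Groth.Agent.Lib.NonVan3H7.nonvanishing_module _ n hNdim
  haveI : Nontrivial (R ⧸ p) := Ideal.Quotient.nontrivial_iff.2 hpp.ne_top
  haveI : IsScalarTower R (R ⧸ p) (M ⧸ p • (⊤ : Submodule R M)) :=
    Module.IsTorsionBySet.isScalarTower (Module.isTorsionBySet_quotient_ideal_smul M p)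
  have hker : RingHom.ker (Ideal.Quotient.mk p) ≤ I ⊔ p := by
    rw [Ideal.mk_ker]
    exact le_sup_right
  have hkerm : RingHom.ker (Ideal.Quotient.mk p) ≤ maximalIdeal R := by
    rw [Ideal.mk_ker]
    exact le_maximalIdeal hpp.ne_top
  have h1 : (I ⊔ p).map (Ideal.Quotient.mk p) = I.map (Ideal.Quotient.mk p) := by
    rw [Ideal.map_sup, Ideal.map_quotient_self, sup_bot_eq]
  have hradmap : (I.map (algebraMap R (R ⧸ p))).radical =
      ((maximalIdeal R).map (algebraMap R (R ⧸ p))).radical := by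
    rw [Ideal.Quotient.algebraMap_eq, ← h1,
      ← Ideal.map_radical_of_surjective Ideal.Quotient.mk_surjective hker,
      ← Ideal.map_radical_of_surjective Ideal.Quotient.mk_surjective hkerm, hrad,
      (inferInstance : (maximalIdeal R).IsPrime).radical]
  obtain ⟨φ₁, -⟩ := Groth.Agent.Lib.LocCohBaseIndepH7.main (R ⧸ p) I n
    (M ⧸ p • (⊤ : Submodule R M))
  obtain ⟨φ₂, -⟩ := Groth.Agent.Lib.LocCohBaseIndepH7.main (R ⧸ p) (maximalIdeal R) n
    (M ⧸ p • (⊤ : Submodule R M))
  let i1 := (localCohomology.isoOfSameRadical hradmap n).app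
    (ModuleCat.of (R ⧸ p) (M ⧸ p • (⊤ : Submodule R M)))
  haveI h4 : Nontrivial (LocCoh.H ((maximalIdeal R).map (algebraMap R (R ⧸ p))) n
      (M ⧸ p • (⊤ : Submodule R M))) := φ₂.toEquiv.nontrivial
  haveI h5 : Nontrivial (LocCoh.H (I.map (algebraMap R (R ⧸ p))) n
      (M ⧸ p • (⊤ : Submodule R M))) := i1.toLinearEquiv.toEquiv.nontrivial
  haveI h6 : Nontrivial (LocCoh.H I n (M ⧸ p • (⊤ : Submodule R M))) :=
    φ₁.symm.toEquiv.nontrivial
  haveI : IsNoetherian R M := isNoetherian_of_isNoetherianRing_of_finite R M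
  have hKdim : Module.supportDim R ↥(p • (⊤ : Submodule R M)) ≤ (n : WithBot ℕ∞) := by
    rw [← hn]
    exact Module.supportDim_le_of_injective _ (Submodule.injective_subtype _)
  have hK : Subsingleton (LocCoh.H I (n + 1) ↥(p • (⊤ : Submodule R M))) :=
    Groth.Agent.Lib.LocCohGVH7.GV_fin I n _ hKdim (n + 1) (Nat.lt_succ_self n)
  have hπ : Function.Surjective (Hmap I n (p • (⊤ : Submodule R M)).mkQ) :=
    Hmap_surjective I n (Submodule.injective_subtype _) (Submodule.mkQ_surjective _)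
      (LinearMap.exact_subtype_mkQ _) hK
  obtain ⟨x, hx⟩ := exists_ne (0 : LocCoh.H I n (M ⧸ p • (⊤ : Submodule R M)))
  obtain ⟨ψ, hψ⟩ := Groth.Agent.Lib.InjHull3_helper3.exists_hom_ne_zero f hf x hx
  obtain ⟨t, ht⟩ := hπ x
  let φ : LocCoh.H I n M →ₗ[R] E := ψ ∘ₗ Hmap I n (p • (⊤ : Submodule R M)).mkQ
  have hφ0 : φ ≠ 0 := by
    intro h0
    apply hψ
    have h7 : φ t = 0 := LinearMap.congr_fun h0 t
    rw [← ht]
    exact h7
  have hpφ : ∀ r ∈ p, r • φ = 0 := by
    intro r hr
    apply LinearMap.ext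
    intro s
    show r • ψ (Hmap I n (p • (⊤ : Submodule R M)).mkQ s) = 0
    rw [← map_smul, smul_eq_zero_of_mem_annihilator I n _ r (hpN hr), map_zero]
  obtain ⟨q, hq, hle⟩ := exists_le_isAssociatedPrime_of_isNoetherianRing R φ hφ0
  have hpq : p ≤ q := fun r hr => hle (by
    rw [Submodule.mem_colon_singleton, Submodule.mem_bot]
    exact hpφ r hr)
  obtain ⟨hqp, -, hqdim, -⟩ := forward E I M n hn q hq
  haveI := hqp
  rw [eq_of_le_of_dim_eq p q hpq n hdim hqdim]
  exact hq

end main

/-- S17759 -/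
theorem main17759 (R : Type u) [CommRing R] [IsNoetherianRing R] [IsLocalRing R]
    [IsAdicComplete (maximalIdeal R) R] (E : Type u) [AddCommGroup E] [Module R E]
    (f : ResidueField R →ₗ[R] E) (hf : InjHull.IsInjectiveHull f) (I : Ideal R) (M : Type u)
    [AddCommGroup M] [Module R M] [Module.Finite R M] (n : ℕ)
    (hn : Module.supportDim R M = n) :
    associatedPrimes R (LocCoh.H I n M →ₗ[R] E) =
      {p : Ideal R | p.IsPrime ∧ Module.annihilator R M ≤ p ∧ ringKrullDim (R ⧸ p) = n ∧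
        (I ⊔ p).radical = maximalIdeal R} := by
  ext p
  constructor
  · exact forward E I M n hn p
  · rintro ⟨h1, h2, h3, h4⟩
    exact backward E I M n f hf hn p h1 h2 h3 h4

end Groth.Agent.Lib.TopLCH1
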