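import Mathlib
import Groth.Agent.Lib.Depth_helper5
import Groth.Agent.S14020

/-!
# `Ext` from a finite module to an Artinian module (helper1)

Artinianness, and finite length when a power of the maximal ideal kills one of the arguments.
-/

set_option autoImplicit false
universe u

open CategoryTheory Abelian IsLocalRing

namespace Groth.Agent.Lib.TopLCH1

section Art

variable {R : Type u} [CommRing R]

theorem isArtinian_hom (N T : Type u) [AddCommGroup N] [Module R N] [AddCommGroup T] [Module R T]
    [Module.Finite R N] [IsArtinian R T] : IsArtinian R (N →ₗ[R] T) := by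
  obtain ⟨k, f, hf⟩ := Module.Finite.exists_fin' R N
  let φ : (N →ₗ[R] T) →ₗ[R] ((Fin k → R) →ₗ[R] T) := LinearMap.lcomp R T f
  have hφ : Function.Injective φ := by
    intro a b hab
    apply LinearMap.ext
    intro y
    obtain ⟨w, rfl⟩ := hf y
    exact LinearMap.congr_fun hab w
  let P := Module.piEquiv (Fin k) R T
  exact isArtinian_of_injective (P.symm.toLinearMap ∘ₗ φ) (P.symm.injective.comp hφ)

theorem isArtinian_ext [IsNoetherianRing R] (T : Type u) [AddCommGroup T] [Module R T]
    [IsArtinian R T] (i : ℕ) :
    ∀ (N : Type u) [AddCommGroup N] [Module R N] [Module.Finite R N],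
      IsArtinian R (Ext (ModuleCat.of R N) (ModuleCat.of R T) i) := by
  induction i with
  | zero =>
    intro N _ _ _
    haveI := isArtinian_hom (R := R) N T
    let e : Ext (ModuleCat.of R N) (ModuleCat.of R T) 0 ≃ₗ[R] (N →ₗ[R] T) :=
      (Ext.linearEquiv₀ (R := R)).trans (ModuleCat.homLinearEquiv (S := R))
    exact isArtinian_of_injective e.toLinearMap e.injective
  | succ n ih =>
    intro N _ _ _
    obtain ⟨P, _, _, _, _, f, surjf⟩ := Module.exists_finite_presentation R N
    let exac := LinearMap.shortExact_shortComplexKer surjf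
    haveI : IsNoetherian R P := isNoetherian_of_isNoetherianRing_of_finite R P
    haveI := ih ↥(LinearMap.ker f)
    exact isArtinian_of_surjective _
      (exac.extClass.precompOfLinear R (ModuleCat.of R T) (add_comm 1 n))
      (precomp_extClass_surjective_of_projective_X₂ (ModuleCat.of R T) exac n)

theorem ext_smul_eq_zero_of_tgt {N M : ModuleCat.{u} R} (a : R) (ha : ∀ m : M, a • m = 0) (n : ℕ)
    (x : Ext N M n) : a • x = 0 := by
  have h0 : a • 𝟙 M = 0 := by
    ext y
    exact ha y
  rw [Ext.smul_eq_comp_mk₀, h0]
  simp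

end Art

section FL

variable (A : Type u) [CommRing A] [IsLocalRing A] [IsNoetherianRing A]

/-- an Artinian module killed by a power of the maximal ideal has finite length
(after helper2's `LocSupp1`) -/
theorem isFiniteLength_of_isArtinian_of_pow_kills {H : Type*} [AddCommGroup H] [Module A H]
    [IsArtinian A H] (k : ℕ)
    (hk : ∀ a ∈ maximalIdeal A ^ k, ∀ x : H, a • x = 0) : IsFiniteLength A H := by
  have htors : Module.IsTorsionBySet A H ((maximalIdeal A ^ k : Ideal A) : Set A) :=
    fun x a => hk a.1 a.2 x
  letI : Module (A ⧸ maximalIdeal A ^ k) H := htors.module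
  haveI : IsScalarTower A (A ⧸ maximalIdeal A ^ k) H :=
    Module.IsTorsionBySet.isScalarTower htors
  haveI : IsArtinianRing (A ⧸ maximalIdeal A ^ k) := by
    letI := Ideal.Quotient.field (maximalIdeal A)
    exact Groth.Agent.S14020.result A (maximalIdeal A) (IsNoetherian.noetherian _) k
  have hArt : IsArtinian (A ⧸ maximalIdeal A ^ k) H :=
    isArtinian_of_tower A inferInstance
  have h1 : IsFiniteLength (A ⧸ maximalIdeal A ^ k) H :=
    ((IsArtinianRing.tfae (R := A ⧸ maximalIdeal A ^ k) (M := H)).out 2 3).1 hArt
  rw [← Module.length_ne_top_iff] at h1 ⊢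
  rwa [Module.length_eq_of_surjective
    (R := A ⧸ maximalIdeal A ^ k) Ideal.Quotient.mk_surjective]

variable {A}

theorem isFiniteLength_ext (X T : Type u) [AddCommGroup X] [Module A X] [AddCommGroup T]
    [Module A T] [Module.Finite A X] [IsArtinian A T] (k : ℕ)
    (hk : maximalIdeal A ^ k ≤ Module.annihilator A X ⊔ Module.annihilator A T) (i : ℕ) :
    IsFiniteLength A (Ext (ModuleCat.of A X) (ModuleCat.of A T) i) := by
  haveI := isArtinian_ext (R := A) T i X
  apply isFiniteLength_of_isArtinian_of_pow_kills A k
  intro r hr z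
  obtain ⟨x, hx, y, hy, rfl⟩ := Submodule.mem_sup.1 (hk hr)
  rw [add_smul,
    Groth.Agent.DepthLib.ext_smul_eq_zero_of_src x (fun w => Module.mem_annihilator.1 hx w) i z,
    ext_smul_eq_zero_of_tgt y (fun w => Module.mem_annihilator.1 hy w) i z, add_zero]

end FL

end Groth.Agent.Lib.TopLCH1
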