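import Mathlib
import Groth.Prelude.Def_Wider
import Groth.Agent.Lib.TopLC2_helper1
import Groth.Agent.Lib.TopLC3_helper1
import Groth.Agent.Lib.LocCohArt2_helper7
import Groth.Agent.Lib.Matlis5_helper5
import Groth.Agent.Lib.InjHull6_helper3
import Groth.Agent.Lib.ExtBC_helper5
import Groth.Agent.Lib.ExtBridge_helper5
import Groth.Agent.Lib.LocCohFlatBC_helper7
import Groth.Agent.Lib.ComplDim_helper3
import Groth.Agent.Lib.FFlatLength_helper9
import Groth.Agent.Lib.AnUnram_helper3

/-!
# Cofiniteness of the top local cohomology module (helper1)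

`Ext^i(R/I, H^n_I(M))` has finite length for `n = dim M` (Delfino–Marley), via the description of
the coassociated primes over the completion and faithfully flat descent.
-/

set_option autoImplicit false
set_option maxSynthPendingDepth 3
universe u

open CategoryTheory IsLocalRing TensorProduct Opposite

namespace Groth.Agent.Lib.TopLCH1

section complete

variable {R : Type u} [CommRing R] [IsNoetherianRing R] [IsLocalRing R]

theorem annihilator_dual_le (E : Type u) [AddCommGroup E] [Module R E]
    (f : ResidueField R →ₗ[R] E) (hf : InjHull.IsInjectiveHull f) (T : Type u) [AddCommGroup T]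
    [Module R T] (r : R) (hr : r ∈ Module.annihilator R (T →ₗ[R] E)) (t : T) : r • t = 0 := by
  by_contra hne
  obtain ⟨φ, hφ⟩ := Groth.Agent.Lib.InjHull3_helper3.exists_hom_ne_zero f hf (r • t) hne
  apply hφ
  have h0 : r • φ = 0 := Module.mem_annihilator.1 hr φ
  rw [map_smul, ← LinearMap.smul_apply, h0, LinearMap.zero_apply]

variable [IsAdicComplete (maximalIdeal R) R] (I : Ideal R) (M : Type u) [AddCommGroup M]
  [Module R M] [Module.Finite R M] (n : ℕ) (hn : Module.supportDim R M = n)

include hn in
theorem exists_pow_le_sup_annihilator :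
    ∃ k : ℕ, maximalIdeal R ^ k ≤ I ⊔ Module.annihilator R (LocCoh.H I n M) := by
  obtain ⟨E, _, _, f, hf⟩ :=
    Groth.Agent.Lib.InjHull6_helper3.exists_injective_hull (R := R) (ResidueField R)
  haveI hart : IsArtinian R (LocCoh.H I n M) :=
    Groth.Agent.Lib.LocCohArtH7.main3262 R I n M hn.le
  obtain ⟨hfin, -⟩ := Groth.Agent.Matlis.matlis_artinian f hf (LocCoh.H I n M)
  haveI := hfin
  have hle : Module.annihilator R (LocCoh.H I n M →ₗ[R] E) ≤
      Module.annihilator R (LocCoh.H I n M) := fun r hr =>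
    Module.mem_annihilator.2 (annihilator_dual_le E f hf _ r hr)
  suffices h : ∃ k : ℕ, maximalIdeal R ^ k ≤
      I ⊔ Module.annihilator R (LocCoh.H I n M →ₗ[R] E) by
    obtain ⟨k, hk⟩ := h
    exact ⟨k, hk.trans (sup_le_sup_left hle I)⟩
  by_cases htop : I ⊔ Module.annihilator R (LocCoh.H I n M →ₗ[R] E) = ⊤
  · exact ⟨0, by rw [htop]; exact le_top⟩
  · have hall : ∀ q : Ideal R, q.IsPrime →
        I ⊔ Module.annihilator R (LocCoh.H I n M →ₗ[R] E) ≤ q → q = maximalIdeal R := by
      intro q hq hle'
      haveI := hq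
      obtain ⟨p, hpmin, hpq⟩ := Ideal.exists_minimalPrimes_le (le_sup_right.trans hle')
      have hpass : p ∈ associatedPrimes R (LocCoh.H I n M →ₗ[R] E) :=
        Module.associatedPrimes.minimalPrimes_annihilator_subset_associatedPrimes R _ hpmin
      obtain ⟨-, -, -, hrad⟩ := forward E I M n hn p hpass
      have h1 : I ⊔ p ≤ q := sup_le (le_sup_left.trans hle') hpq
      have h2 : maximalIdeal R ≤ q := by
        rw [← hrad]
        exact (hq.radical_le_iff).2 h1
      exact ((maximalIdeal.isMaximal R).eq_of_le hq.ne_top h2).symm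
    have hrad : (I ⊔ Module.annihilator R (LocCoh.H I n M →ₗ[R] E)).radical =
        maximalIdeal R := by
      rw [Ideal.radical_eq_sInf]
      apply le_antisymm
      · exact sInf_le ⟨le_maximalIdeal htop, inferInstance⟩
      · apply le_sInf
        rintro q ⟨hle', hq⟩
        rw [hall q hq hle']
    exact Ideal.exists_pow_le_of_le_radical_of_fg hrad.ge (IsNoetherian.noetherian _)

include hn in
theorem cofinite_complete (X T : Type u) [AddCommGroup X] [Module R X] [AddCommGroup T]
    [Module R T] (eX : X ≃ₗ[R] R ⧸ I) (eT : T ≃ₗ[R] LocCoh.H I n M) (i : ℕ) :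
    IsFiniteLength R (Abelian.Ext (ModuleCat.of R X) (ModuleCat.of R T) i) := by
  obtain ⟨k, hk⟩ := exists_pow_le_sup_annihilator I M n hn
  haveI : IsArtinian R (LocCoh.H I n M) := Groth.Agent.Lib.LocCohArtH7.main3262 R I n M hn.le
  haveI : IsArtinian R T := isArtinian_of_injective eT.toLinearMap eT.injective
  haveI : Module.Finite R X := Module.Finite.equiv eX.symm
  refine isFiniteLength_ext X T k (hk.trans (sup_le_sup ?_ ?_)) i
  · intro r hr
    rw [Module.mem_annihilator]
    intro x
    apply eX.injective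
    rw [map_smul, map_zero]
    obtain ⟨y, hy⟩ := Ideal.Quotient.mk_surjective (eX x)
    rw [← hy, Groth.Agent.Lib.LocCohTopVanH7.smul_mk]
    exact Ideal.Quotient.eq_zero_iff_mem.2 (I.mul_mem_right y hr)
  · intro r hr
    rw [Module.mem_annihilator] at hr ⊢
    intro t
    apply eT.injective
    rw [map_smul, hr, map_zero]

end complete

/-- descent of cofiniteness along a faithfully flat complete local extension -/
theorem cofinite_of_faithfullyFlat (R : Type u) [CommRing R] [IsNoetherianRing R] [IsLocalRing R]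
    (S : Type u) [CommRing S] [Algebra R S] [IsLocalRing S] [IsNoetherianRing S]
    [IsAdicComplete (maximalIdeal S) S] [Module.FaithfullyFlat R S] (I : Ideal R) (M : Type u)
    [AddCommGroup M] [Module R M] [Module.Finite R M] (n : ℕ)
    (hdimS : Module.supportDim S (S ⊗[R] M) = n) (i : ℕ) :
    IsFiniteLength R
      (Abelian.Ext (ModuleCat.of R (R ⧸ I)) (ModuleCat.of R (LocCoh.H I n M)) i) := by
  obtain ⟨e1⟩ := Groth.Agent.ExtBC.main R S (LocCoh.H I n M) i (R ⧸ I)
  obtain ⟨e2⟩ := Groth.Agent.Lib.LocCohFlatBCH7.main S I n M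
  have hfl := cofinite_complete (I.map (algebraMap R S)) (S ⊗[R] M) n hdimS
    (S ⊗[R] (R ⧸ I)) (S ⊗[R] LocCoh.H I n M)
    (Ideal.qoutMapEquivTensorQout S (I := I)).symm e2 i
  have hfl' := e1.symm.isFiniteLength hfl
  rw [← Module.length_ne_top_iff] at hfl' ⊢
  exact ne_top_of_le_ne_top hfl'
    (Groth.Agent.FFlatLength.length_le_length_tensor (A := R) (B := S) (N := S))

/-- S17760 -/
theorem main17760 (R : Type u) [CommRing R] [IsNoetherianRing R] [IsLocalRing R] (I : Ideal R)
    (M : Type u) [AddCommGroup M] [Module R M] [Module.Finite R M] (n : ℕ)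
    (hn : Module.supportDim R M = n) (i : ℕ) :
    IsFiniteLength R (((Ext R (ModuleCat.{u} R) i).obj (op (ModuleCat.of R (R ⧸ I)))).obj
      (ModuleCat.of R (LocCoh.H I n M))) := by
  obtain ⟨e⟩ := Groth.Agent.ExtBridge.bridge (ModuleCat.of R (R ⧸ I))
    (ModuleCat.of R (LocCoh.H I n M)) i
  refine e.symm.isFiniteLength ?_
  obtain ⟨hloc, hnoeth, hcompl, hff, -, -⟩ := Groth.Agent.Lib.AnUnramH3.completion_facts R
  haveI := hloc
  haveI := hnoeth
  haveI := hcompl
  haveI := hff
  have hjac : maximalIdeal R ≤ Ring.jacobson R :=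
    le_of_eq (IsLocalRing.ringJacobson_eq_maximalIdeal (R := R)).symm
  have hdimS : Module.supportDim (AdicCompletion (maximalIdeal R) R)
      (AdicCompletion (maximalIdeal R) R ⊗[R] M) = n :=
    (Groth.Agent.Lib.ComplDimH3.supportDim_baseChange
      (Groth.Agent.Lib.ComplDimH3.compl_h1 R (maximalIdeal R))
      (Groth.Agent.Lib.ComplDimH3.compl_h2 R (maximalIdeal R) hjac) M).trans hn
  exact cofinite_of_faithfullyFlat R (AdicCompletion (maximalIdeal R) R) I M n hdimS i

end Groth.Agent.Lib.TopLCH1
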