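import Mathlib
import Groth.Prelude.Def_CohTop
import Groth.Agent.Lib.TopPullStalk_helper7
import Groth.Agent.Lib.SoftCompact_helper7
import Groth.Agent.Lib.SoftCompact2_helper7
import Groth.Agent.Lib.FlasqueAcyclic_helper2

/-!
# Inverse images along local homeomorphisms, part 1 (helper7)

* `θ_bijective`: if `k : Z ⟶ X` is injective and open on an open `N ⊆ Z`, then
  `F(k N') ⟶ (k⁻¹F)(N')`, `s ↦ η(s)|N'`, is bijective for every open `N' ⊆ N`.
* `isFlasque_of_local`: a locally flasque sheaf is flasque.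
* `isFlasque_pull`: the inverse image of a flasque sheaf along a local homeomorphism is flasque.
-/

set_option autoImplicit false
set_option backward.isDefEq.respectTransparency false
set_option backward.isDefEq.respectTransparency.types false
set_option linter.style.haveILetI false
set_option linter.unusedSectionVars false
universe u
open CategoryTheory CategoryTheory.Limits TopologicalSpace Opposite

namespace Groth.Agent.Lib.TopLocHomeoH7

open Groth.Agent.Lib.TopPullStalk_helper7 Groth.Agent.Lib.SoftCompact_helper7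
  Groth.Agent.Lib.SoftCompact2_helper7

/-! ### Gluing in `rs` form -/

section Glue

variable {Y : TopCat.{u}} (G : TopCat.Sheaf AddCommGrpCat.{u} Y)

lemma sepFam {ι : Type*} (U : ι → Opens Y) (V : Opens Y) (hle : ∀ i, U i ≤ V)
    (hV : V ≤ iSup U) (s t : G.obj.obj (op V)) (h : ∀ i, rs G (hle i) s = rs G (hle i) t) :
    s = t :=
  G.eq_of_locally_eq' U V (fun i => homOfLE (hle i)) hV s t h

lemma sepPt (V : Opens Y) (s t : G.obj.obj (op V))
    (h : ∀ y : V, ∃ U' : Opens Y, y.1 ∈ U' ∧ ∃ hle : U' ≤ V, rs G hle s = rs G hle t) : s = t := by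
  choose U' hy hle e using h
  exact sepFam G U' V hle (fun y hyV => Opens.mem_iSup.2 ⟨⟨y, hyV⟩, hy ⟨y, hyV⟩⟩) s t e

lemma glueFam {ι : Type*} (U : ι → Opens Y) (sf : ∀ i, G.obj.obj (op (U i)))
    (h : ∀ i j, rs G (inf_le_left : U i ⊓ U j ≤ U i) (sf i) =
      rs G (inf_le_right : U i ⊓ U j ≤ U j) (sf j))
    (V : Opens Y) (hle : ∀ i, U i ≤ V) (hV : V ≤ iSup U) :
    ∃ s : G.obj.obj (op V), ∀ i, rs G (hle i) s = sf i := by
  have hcomp : TopCat.Presheaf.IsCompatible G.obj U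
      (fun i => (sf i : ToType (G.obj.obj (op (U i))))) := fun i j => h i j
  obtain ⟨s, hs, -⟩ := G.existsUnique_gluing' U V (fun i => homOfLE (hle i)) hV
    (fun i => (sf i : ToType (G.obj.obj (op (U i))))) hcomp
  exact ⟨s, hs⟩

lemma rs_congr {U V : Opens Y} (h h' : V ≤ U) (s : G.obj.obj (op U)) : rs G h s = rs G h' s := rfl

end Glue

/-! ### Sections of the inverse image over small opens -/

section Small

variable {Z X : TopCat.{u}} (k : Z ⟶ X) (F : TopCat.Sheaf AddCommGrpCat.{u} X)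

/-- an open on which `k` is injective and open -/
structure Small (N : Opens Z) : Prop where
  inj : Set.InjOn k (N : Set Z)
  isOpen : ∀ N' : Opens Z, N' ≤ N → IsOpen (k '' (N' : Set Z))

variable {k} {N : Opens Z} (hN : Small k N)

/-- the image of an open contained in a small open -/
def img (N' : Opens Z) (h : N' ≤ N) : Opens X := ⟨k '' (N' : Set Z), hN.isOpen N' h⟩

lemma mem_img {N' : Opens Z} {h : N' ≤ N} {x : X} : x ∈ img hN N' h ↔ ∃ z ∈ N', k z = x :=
  Iff.rfl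

lemma le_map_img (N' : Opens Z) (h : N' ≤ N) : N' ≤ (Opens.map k).obj (img hN N' h) :=
  fun z hz => ⟨z, hz, rfl⟩

lemma img_mono {N' N'' : Opens Z} (h : N' ≤ N) (h' : N'' ≤ N') :
    img hN N'' (h'.trans h) ≤ img hN N' h := by
  rintro _ ⟨z, hz, rfl⟩
  exact ⟨z, h' hz, rfl⟩

include hN in
lemma small_of_le {N' : Opens Z} (h : N' ≤ N) : Small k N' :=
  ⟨hN.inj.mono h, fun N'' h'' => hN.isOpen N'' (h''.trans h)⟩

/-- sections over the image give sections of the inverse image -/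
noncomputable def θ (N' : Opens Z) (h : N' ≤ N) (s : F.obj.obj (op (img hN N' h))) :
    (P k F).obj.obj (op N') :=
  rs (P k F) (le_map_img hN N' h) ((η k F).hom.app (op (img hN N' h)) s)

lemma θ_rs {N' N'' : Opens Z} (h : N' ≤ N) (h' : N'' ≤ N') (s : F.obj.obj (op (img hN N' h))) :
    θ F hN N'' (h'.trans h) (rs F (img_mono hN h h') s) = rs (P k F) h' (θ F hN N' h s) := by
  unfold θ
  rw [η_nat, rs_rs, rs_rs]

theorem θ_injective (N' : Opens Z) (h : N' ≤ N) : Function.Injective (θ F hN N' h) := by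
  intro s₁ s₂ e
  refine sepPt F _ s₁ s₂ ?_
  rintro ⟨x, z, hz, rfl⟩
  obtain ⟨U', hU', hle, e'⟩ := unit_inj' k F (img hN N' h) s₁ s₂ z ⟨z, hz, rfl⟩ N' hz
    (le_map_img hN N' h) e
  exact ⟨U', hU', hle, e'⟩

theorem θ_surjective (N' : Opens Z) (h : N' ≤ N) : Function.Surjective (θ F hN N' h) := by
  intro t
  have hloc : ∀ z : N', ∃ (U : Opens X) (_ : k z.1 ∈ U) (s : F.obj.obj (op U)) (W' : Opens Z)
      (_ : z.1 ∈ W') (h1 : W' ≤ N') (h2 : W' ≤ (Opens.map k).obj U),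
      rs (P k F) h2 ((η k F).hom.app (op U) s) = rs (P k F) h1 t :=
    fun z => unit_surj' k F N' t z.1 z.2
  choose U hkU s W' hzW' h1 h2 e using hloc
  have hWN : ∀ z, W' z ≤ N := fun z => (h1 z).trans h
  have hVU : ∀ z, img hN (W' z) (hWN z) ≤ U z := fun z => by
    rintro _ ⟨w, hw, rfl⟩
    exact h2 z hw
  have hVle : ∀ z, img hN (W' z) (hWN z) ≤ img hN N' h := fun z => img_mono hN h (h1 z)
  obtain ⟨σ, hσdef⟩ : ∃ σ : ∀ z, F.obj.obj (op (img hN (W' z) (hWN z))),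
      ∀ z, σ z = rs F (hVU z) (s z) := ⟨_, fun _ => rfl⟩
  have hσ : ∀ z, θ F hN (W' z) (hWN z) (σ z) = rs (P k F) (h1 z) t := by
    intro z
    rw [hσdef]
    unfold θ
    rw [η_nat, rs_rs]
    exact e z
  have hcomp : ∀ z z', rs F (inf_le_left : img hN (W' z) (hWN z) ⊓ img hN (W' z') (hWN z') ≤ _)
      (σ z) = rs F (inf_le_right : img hN (W' z) (hWN z) ⊓
        img hN (W' z') (hWN z') ≤ _) (σ z') := by
    intro z z'
    refine sepPt F _ _ _ ?_
    rintro ⟨x, ⟨w, hw, rfl⟩, ⟨w', hw', hww'⟩⟩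
    have hw'w : w' = w := hN.inj (hWN z' hw') (hWN z hw) hww'
    subst hw'w
    have h2' : W' z ⊓ W' z' ≤ (Opens.map k).obj
        (img hN (W' z) (hWN z) ⊓ img hN (W' z') (hWN z')) :=
      fun y hy => ⟨⟨y, hy.1, rfl⟩, ⟨y, hy.2, rfl⟩⟩
    have key : rs (P k F) h2' ((η k F).hom.app (op _)
        (rs F (inf_le_left : img hN (W' z) (hWN z) ⊓ img hN (W' z') (hWN z') ≤ _) (σ z))) =
        rs (P k F) h2' ((η k F).hom.app (op _)
        (rs F (inf_le_right : img hN (W' z) (hWN z) ⊓ img hN (W' z') (hWN z') ≤ _)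
          (σ z'))) := by
      rw [η_nat, η_nat, rs_rs, rs_rs]
      have a := congrArg (rs (P k F) (inf_le_left : W' z ⊓ W' z' ≤ W' z)) (hσ z)
      have b := congrArg (rs (P k F) (inf_le_right : W' z ⊓ W' z' ≤ W' z')) (hσ z')
      unfold θ at a b
      rw [rs_rs, rs_rs] at a b
      exact a.trans b.symm
    obtain ⟨U'', hU'', hle, e''⟩ := unit_inj' k F
      (img hN (W' z) (hWN z) ⊓ img hN (W' z') (hWN z')) _ _ w'
      ⟨⟨w', hw, rfl⟩, ⟨w', hw', rfl⟩⟩ (W' z ⊓ W' z') ⟨hw, hw'⟩ h2' key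
    exact ⟨U'', hU'', hle, e''⟩
  obtain ⟨s0, hs0⟩ := glueFam F (fun z => img hN (W' z) (hWN z)) σ hcomp (img hN N' h) hVle (by
      rintro _ ⟨y, hy, rfl⟩
      exact Opens.mem_iSup.2 ⟨⟨y, hy⟩, ⟨y, hzW' ⟨y, hy⟩, rfl⟩⟩)
  refine ⟨s0, ?_⟩
  refine sepFam (P k F) W' N' h1 (fun y hy => Opens.mem_iSup.2 ⟨⟨y, hy⟩, hzW' ⟨y, hy⟩⟩) _ _
    (fun z => ?_)
  rw [← hσ z, ← hs0 z]
  exact (θ_rs F hN h (h1 z) s0).symm

theorem θ_bijective (N' : Opens Z) (h : N' ≤ N) : Function.Bijective (θ F hN N' h) :=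
  ⟨θ_injective F hN N' h, θ_surjective F hN N' h⟩

end Small

/-! ### Locally flasque sheaves are flasque -/

section Flasque

variable {Y : TopCat.{u}} (G : TopCat.Sheaf AddCommGrpCat.{u} Y)

/-- partial extensions of a section -/
structure PExt (V : Opens Y) (t : G.obj.obj (op V)) where
  W : Opens Y
  le : V ≤ W
  s : G.obj.obj (op W)
  hs : rs G le s = t

variable {G} {V : Opens Y} {t : G.obj.obj (op V)}

instance : Preorder (PExt G V t) where
  le a b := ∃ h : a.W ≤ b.W, rs G h b.s = a.s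
  le_refl a := ⟨le_rfl, rs_refl G _ _⟩
  le_trans a b c := fun ⟨h1, e1⟩ ⟨h2, e2⟩ => ⟨h1.trans h2, by rw [← e1, ← e2, rs_rs]⟩

instance : Nonempty (PExt G V t) := ⟨⟨V, le_rfl, t, rs_refl G _ _⟩⟩

lemma PExt.bddAbove (c : Set (PExt G V t)) (hc : IsChain (· ≤ ·) c) (hne : c.Nonempty) :
    BddAbove c := by
  obtain ⟨a0, ha0⟩ := hne
  have hcomp : ∀ i j : c, rs G (inf_le_left : i.1.W ⊓ j.1.W ≤ i.1.W) i.1.s =
      rs G (inf_le_right : i.1.W ⊓ j.1.W ≤ j.1.W) j.1.s := by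
    intro i j
    rcases hc.total i.2 j.2 with ⟨h, e⟩ | ⟨h, e⟩
    · rw [← e, rs_rs]
    · rw [← e, rs_rs]
  obtain ⟨s0, hs0⟩ := glueFam G (fun i : c => i.1.W) (fun i => i.1.s) hcomp
    (iSup fun i : c => i.1.W) (fun i => le_iSup (fun i : c => i.1.W) i) le_rfl
  have hle0 : V ≤ iSup fun i : c => i.1.W :=
    a0.le.trans (le_iSup (fun i : c => i.1.W) ⟨a0, ha0⟩)
  refine ⟨⟨iSup fun i : c => i.1.W, hle0, s0, ?_⟩, ?_⟩
  · have := hs0 ⟨a0, ha0⟩
    exact ((rs_rs G _ a0.le s0).symm.trans (congrArg (rs G a0.le) this)).trans a0.hs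
  · intro a ha
    exact ⟨le_iSup (fun i : c => i.1.W) ⟨a, ha⟩, hs0 ⟨a, ha⟩⟩

variable (G)

/-- a section of a locally flasque sheaf extends to a global section -/
theorem exists_extension
    (hloc : ∀ y : Y, ∃ N : Opens Y, y ∈ N ∧ ∀ (N' : Opens Y) (h : N' ≤ N),
      Function.Surjective (rs G h : G.obj.obj (op N) → G.obj.obj (op N')))
    (V : Opens Y) (t : G.obj.obj (op V)) :
    ∃ s : G.obj.obj (op ⊤), rs G (le_top : V ≤ ⊤) s = t := by
  obtain ⟨m, hm⟩ := zorn_le_nonempty (α := PExt G V t) PExt.bddAbove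
  have htop : (⊤ : Opens Y) ≤ m.W := by
    intro y _
    by_contra hy
    obtain ⟨N, hyN, hN⟩ := hloc y
    obtain ⟨r, hr⟩ := hN (m.W ⊓ N) inf_le_right (rs G inf_le_left m.s)
    obtain ⟨s', hs1, hs2⟩ := glue2 G m.s r hr.symm
    let m' : PExt G V t := ⟨m.W ⊔ N, m.le.trans le_sup_left, s',
      ((rs_rs G le_sup_left m.le s').symm.trans (congrArg (rs G m.le) hs1)).trans m.hs⟩
    have hmm' : m ≤ m' := ⟨le_sup_left, hs1⟩
    obtain ⟨h', -⟩ := hm hmm'
    exact hy (h' (Or.inr hyN))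
  refine ⟨rs G htop m.s, ?_⟩
  rw [rs_rs]
  exact m.hs

theorem isFlasque_of_local
    (hloc : ∀ y : Y, ∃ N : Opens Y, y ∈ N ∧ ∀ (N' : Opens Y) (h : N' ≤ N),
      Function.Surjective (rs G h : G.obj.obj (op N) → G.obj.obj (op N'))) :
    TopCat.Sheaf.IsFlasque G := by
  refine ⟨fun {U V} i => ?_⟩
  rw [AddCommGrpCat.epi_iff_surjective]
  intro t
  obtain ⟨s, hs⟩ := exists_extension G hloc V.unop t
  refine ⟨rs G (le_top : U.unop ≤ ⊤) s, ?_⟩
  have h1 : (G.obj.map i) (rs G (le_top : U.unop ≤ ⊤) s) =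
      rs G (leOfHom i.unop) (rs G (le_top : U.unop ≤ ⊤) s) := rfl
  rw [h1, rs_rs]
  exact hs

end Flasque

/-! ### Inverse images of flasque sheaves along local homeomorphisms -/

section Pull

variable {Y S : TopCat.{u}} (f : Y ⟶ S)

/-- a local homeomorphism is injective and open near every point -/
theorem exists_small (hf : IsLocalHomeomorph f) (y : Y) : ∃ N : Opens Y, y ∈ N ∧ Small f N := by
  obtain ⟨e, hy, he⟩ := hf y
  refine ⟨⟨e.source, e.open_source⟩, hy, ⟨?_, ?_⟩⟩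
  · intro a ha b hb hab
    rw [he] at hab
    exact e.injOn ha hb hab
  · intro N' hN'
    have : (f : Y → S) '' (N' : Set Y) = e '' (N' : Set Y) := by rw [he]
    rw [this]
    exact e.isOpen_image_of_subset_source N'.isOpen hN'

/-- every point has a small open neighbourhood -/
def LocSmall : Prop := ∀ y : Y, ∃ N : Opens Y, y ∈ N ∧ Small f N

theorem locSmall_of_isLocalHomeomorph (hf : IsLocalHomeomorph f) : LocSmall f :=
  fun y => exists_small f hf y

theorem isFlasque_pull (hf : LocSmall f) (I : CohTop.Ab S) [TopCat.Sheaf.IsFlasque I] :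
    TopCat.Sheaf.IsFlasque ((CohTop.pull f).obj I) := by
  refine isFlasque_of_local (P f I) (fun y => ?_)
  obtain ⟨N, hyN, hN⟩ := hf y
  refine ⟨N, hyN, fun N' h t' => ?_⟩
  obtain ⟨s', hs'⟩ := θ_surjective I hN N' h t'
  have hI : Function.Surjective (I.obj.map (homOfLE (img_mono hN le_rfl h)).op) :=
    (AddCommGrpCat.epi_iff_surjective _).1
      (TopCat.Presheaf.IsFlasque.epi (F := I.obj) (homOfLE (img_mono hN le_rfl h)).op)
  obtain ⟨s, hs⟩ := hI s'
  refine ⟨θ I hN N le_rfl s, ?_⟩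
  rw [← θ_rs I hN le_rfl h s, ← hs']
  exact congrArg (θ I hN N' h) hs

theorem subsingleton_H_pull (hf : LocSmall f) (I : CohTop.Ab S)
    [TopCat.Sheaf.IsFlasque I] (n : ℕ) :
    Subsingleton (CohTop.H ((CohTop.pull f).obj I) (n + 1)) := by
  haveI := isFlasque_pull f hf I
  exact ⟨fun a c => (Groth.Agent.Lib.FlasqueAcyclic.H_eq_zero_of_isFlasque _ n a).trans
    (Groth.Agent.Lib.FlasqueAcyclic.H_eq_zero_of_isFlasque _ n c).symm⟩

end Pull

end Groth.Agent.Lib.TopLocHomeoH7
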