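import Mathlib
import Groth.Prelude.Def_CohTop
import Groth.Agent.Lib.PBCTop2_helper2
import Groth.Agent.Lib.TopLocHomeo1_helper7

/-!
# Inverse images along local homeomorphisms, part 2: base change (helper7)

For a pullback square of topological spaces with `g` a local homeomorphism, the base change map
`g⁻¹ f_* F ⟶ f'_* g'⁻¹ F` is an isomorphism, naturally in `F` (`bcIsoLH`).
-/

set_option autoImplicit false
set_option backward.isDefEq.respectTransparency false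
set_option backward.isDefEq.respectTransparency.types false
set_option linter.style.haveILetI false
set_option linter.unusedSectionVars false
universe u
open CategoryTheory CategoryTheory.Limits TopologicalSpace Opposite

namespace Groth.Agent.Lib.TopLocHomeoH7

open Groth.Agent.Lib.TopPullStalk_helper7 Groth.Agent.Lib.SoftCompact_helper7
  Groth.Agent.Lib.SoftCompact2_helper7 Groth.Agent.Lib.PBCTopH2

section BC

variable {X Y X' Y' : TopCat.{u}} {f : X ⟶ Y} {g : Y' ⟶ Y} {f' : X' ⟶ Y'} {g' : X' ⟶ X}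
  (sq : IsPullback g' f' f g)

include sq in
/-- the preimage of a small open is small for the base change -/
theorem small_pullback {N₀ : Opens Y'} (hN₀ : Small g N₀) :
    Small g' ((Opens.map f').obj N₀) := by
  refine ⟨?_, ?_⟩
  · intro a ha b hb hab
    have h1 : g (f' a) = g (f' b) := by rw [← w_apply sq, ← w_apply sq, hab]
    exact lift_unique sq a b hab (hN₀.inj ha hb h1)
  · intro M hM
    rw [isOpen_iff_forall_mem_open]
    rintro _ ⟨m, hm, rfl⟩
    obtain ⟨T, hT, hTM⟩ := (isInducing_pair sq).isOpen_iff.1 M.isOpen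
    have hmT : (g' m, f' m) ∈ T := by
      have : m ∈ (fun x' : X' => (g' x', f' x')) ⁻¹' T := by rw [hTM]; exact hm
      exact this
    obtain ⟨A, B, hA, hB, hmA, hmB, hAB⟩ := isOpen_prod_iff.1 hT (g' m) (f' m) hmT
    let B₀ : Opens Y' := (⟨B, hB⟩ : Opens Y') ⊓ N₀
    have hgB : IsOpen (g '' (B₀ : Set Y')) := hN₀.isOpen B₀ inf_le_right
    refine ⟨A ∩ f ⁻¹' (g '' (B₀ : Set Y')), ?_, hA.inter (hgB.preimage f.hom.continuous),
      ⟨hmA, f' m, ⟨hmB, hM hm⟩, (w_apply sq m).symm⟩⟩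
    rintro x₁ ⟨hx₁A, b, ⟨hbB, -⟩, hb⟩
    obtain ⟨x', h1, h2⟩ := exists_lift sq x₁ b hb.symm
    refine ⟨x', ?_, h1⟩
    have hT' : (g' x', f' x') ∈ T := hAB ⟨by rw [h1]; exact hx₁A, by rw [h2]; exact hbB⟩
    have : x' ∈ (fun x' : X' => (g' x', f' x')) ⁻¹' T := hT'
    rw [hTM] at this
    exact this

variable {N₀ : Opens Y'} (hN₀ : Small g N₀) (hM : Small g' ((Opens.map f').obj N₀))

include sq in
lemma img_le_map {N' : Opens Y'} (h : N' ≤ N₀) :
    img hM ((Opens.map f').obj N') (pm f' h) ≤ (Opens.map f).obj (img hN₀ N' h) := by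
  rintro _ ⟨m, hm, rfl⟩
  exact ⟨f' m, hm, (w_apply sq m).symm⟩

include sq in
lemma map_le_img {N' : Opens Y'} (h : N' ≤ N₀) :
    (Opens.map f).obj (img hN₀ N' h) ≤ img hM ((Opens.map f').obj N') (pm f' h) := by
  rintro x ⟨n, hn, hx⟩
  obtain ⟨x', h1, h2⟩ := exists_lift sq x n hx.symm
  refine ⟨x', ?_, h1⟩
  show f' x' ∈ N'
  rw [h2]
  exact hn

variable (F : CohTop.Ab X) (y' : Y')

lemma θ_zero {Z X₀ : TopCat.{u}} {k : Z ⟶ X₀} (G : TopCat.Sheaf AddCommGrpCat.{u} X₀)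
    {N : Opens Z} (hN : Small k N) (N' : Opens Z) (h : N' ≤ N) : θ G hN N' h 0 = 0 := by
  unfold θ
  rw [map_zero]
  exact map_zero (AffVanish.rs (P k G) (le_map_img hN N' h))

include sq in
theorem Ξ_injective_LH (hg : LocSmall g) : Function.Injective (Ξ sq F y') := by
  rw [injective_iff_map_eq_zero]
  intro σ hσ
  obtain ⟨V, hV, s, rfl⟩ := TopCat.Presheaf.exists_germ_eq (shA (f := f) F).presheaf σ
  rw [Ξ_germ] at hσ
  have h0 : (shB f' g' F).presheaf.germ ((Opens.map g).obj V) y' hV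
      (0 : (shB f' g' F).presheaf.obj (op ((Opens.map g).obj V))) = 0 := map_zero _
  obtain ⟨W', hW', iU, iV, e⟩ := TopCat.Presheaf.germ_eq (shB f' g' F).presheaf y' hV hV _ _
    (hσ.trans h0.symm)
  have e' : rs (P g' F) (pm f' iU.le)
      (rs (P g' F) (hle sq V) ((η g' F).hom.app (op ((Opens.map f).obj V)) s)) = 0 :=
    e.trans (map_zero _)
  rw [rs_rs] at e'
  obtain ⟨N₀, hyN₀, hN₀⟩ := hg y'
  have hM := small_pullback sq hN₀
  have hN' : W' ⊓ N₀ ≤ N₀ := inf_le_right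
  have hUV : img hN₀ (W' ⊓ N₀) hN' ≤ V := by
    rintro _ ⟨n, hn, rfl⟩
    exact iU.le hn.1
  have hyU : g y' ∈ img hN₀ (W' ⊓ N₀) hN' := ⟨y', ⟨hW', hyN₀⟩, rfl⟩
  have hAB := img_le_map sq hN₀ hM hN'
  have hBA := map_le_img sq hN₀ hM hN'
  -- the restriction of `s` vanishes
  have hsA : rs F hAB (rs F (pm f hUV) s) = 0 := by
    apply θ_injective F hM _ (pm f' hN')
    rw [θ_zero]
    unfold θ
    rw [rs_rs, η_nat, rs_rs]
    have := congrArg (rs (P g' F) (pm f' (inf_le_left : W' ⊓ N₀ ≤ W'))) e'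
    rw [rs_rs] at this
    exact this.trans (map_zero (AffVanish.rs (P g' F) (pm f' (inf_le_left : W' ⊓ N₀ ≤ W'))))
  have hsB : rs F (pm f hUV) s = 0 := by
    apply rs_cancel F hAB hBA
    rw [hsA]
    exact (map_zero (AffVanish.rs F hAB)).symm
  have hres := TopCat.Presheaf.germ_res_apply (shA (f := f) F).presheaf
    (homOfLE hUV) (g y') hyU s
  rw [← hres]
  have hz : (shA (f := f) F).presheaf.map (homOfLE hUV).op s = 0 := hsB
  rw [hz, map_zero]

include sq in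
theorem Ξ_surjective_LH (hg : LocSmall g) : Function.Surjective (Ξ sq F y') := by
  intro τ
  obtain ⟨W', hW', t, rfl⟩ := TopCat.Presheaf.exists_germ_eq (shB f' g' F).presheaf τ
  obtain ⟨N₀, hyN₀, hN₀⟩ := hg y'
  have hM := small_pullback sq hN₀
  have hN' : W' ⊓ N₀ ≤ N₀ := inf_le_right
  have hyN' : y' ∈ W' ⊓ N₀ := ⟨hW', hyN₀⟩
  have hyU : g y' ∈ img hN₀ (W' ⊓ N₀) hN' := ⟨y', hyN', rfl⟩
  have hAB := img_le_map sq hN₀ hM hN'
  have hBA := map_le_img sq hN₀ hM hN'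
  have ht : ∀ t' : (P g' F).obj.obj (op ((Opens.map f').obj W')),
      ∃ sA, θ F hM _ (pm f' hN') sA =
        rs (P g' F) (pm f' (inf_le_left : W' ⊓ N₀ ≤ W')) t' :=
    fun t' => θ_surjective F hM _ (pm f' hN') _
  obtain ⟨sA, hsA⟩ := ht t
  refine ⟨(shA (f := f) F).presheaf.germ (img hN₀ (W' ⊓ N₀) hN') (g y') hyU (rs F hBA sA), ?_⟩
  rw [Ξ_germ]
  have hle' : W' ⊓ N₀ ≤ (Opens.map g).obj (img hN₀ (W' ⊓ N₀) hN') := le_map_img hN₀ _ hN'
  have r1 := TopCat.Presheaf.germ_res_apply (shB f' g' F).presheaf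
    (homOfLE hle') y' hyN'
    (rs (P g' F) (hle sq (img hN₀ (W' ⊓ N₀) hN'))
      ((η g' F).hom.app (op ((Opens.map f).obj (img hN₀ (W' ⊓ N₀) hN'))) (rs F hBA sA)))
  have r2 := TopCat.Presheaf.germ_res_apply (shB f' g' F).presheaf
    (homOfLE (inf_le_left : W' ⊓ N₀ ≤ W')) y' hyN' t
  rw [← r1, ← r2]
  refine congrArg _ ?_
  show rs (P g' F) (pm f' hle') (rs (P g' F) (hle sq (img hN₀ (W' ⊓ N₀) hN'))
      ((η g' F).hom.app (op ((Opens.map f).obj (img hN₀ (W' ⊓ N₀) hN'))) (rs F hBA sA))) =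
    rs (P g' F) (pm f' (inf_le_left : W' ⊓ N₀ ≤ W')) t
  rw [← hsA]
  unfold θ
  rw [η_nat, rs_rs, rs_rs]

include sq in
theorem stalk_bijective_LH (hg : LocSmall g) :
    Function.Bijective ((TopCat.Presheaf.stalkFunctor AddCommGrpCat.{u} y').map (BC sq F).hom) := by
  have hc := c_bijective g (shA (f := f) F) y'
  have hΞ : Function.Bijective (Ξ sq F y') :=
    ⟨Ξ_injective_LH sq F y' hg, Ξ_surjective_LH sq F y' hg⟩
  have hcomp : ∀ σ, Ξ sq F y' σ = (TopCat.Presheaf.stalkFunctor AddCommGrpCat.{u} y').map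
      (BC sq F).hom (c g (shA (f := f) F) y' σ) := fun σ => rfl
  constructor
  · intro a b hab
    obtain ⟨a₀, rfl⟩ := hc.2 a
    obtain ⟨b₀, rfl⟩ := hc.2 b
    rw [← hcomp, ← hcomp] at hab
    rw [hΞ.1 hab]
  · intro t
    obtain ⟨σ, rfl⟩ := hΞ.2 t
    exact ⟨c g (shA (f := f) F) y' σ, (hcomp σ).symm⟩

include sq in
theorem isIso_BC_LH (hg : LocSmall g) : IsIso (BC sq F) := by
  haveI : ∀ y' : Y', IsIso ((TopCat.Presheaf.stalkFunctor AddCommGrpCat.{u} y').map
      (BC sq F).hom) := fun y' =>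
    (ConcreteCategory.isIso_iff_bijective _).2 (stalk_bijective_LH sq F y' hg)
  exact TopCat.Presheaf.isIso_of_stalkFunctor_map_iso (BC sq F)

/-- base change along a local homeomorphism -/
noncomputable def bcIsoLH (hg : LocSmall g) :
    CohTop.push f ⋙ CohTop.pull g ≅ CohTop.pull g' ⋙ CohTop.push f' :=
  haveI := fun F => isIso_BC_LH sq F hg
  NatIso.ofComponents (fun F => asIso (BC sq F)) (fun a => BC_natural sq a)

end BC

end Groth.Agent.Lib.TopLocHomeoH7
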