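import Mathlib
import Groth.Prelude.Def_CohTop
import Groth.Agent.Lib.TopLocHomeo2_helper7
import Groth.Agent.Lib.TopDescentSec_helper7
import Groth.Agent.Lib.CobarFun_helper7

/-!
# Inverse images along local homeomorphisms, part 3: the Čech nerve (helper7)

The iterated fibre products `X_n` of a locally small map `f : X ⟶ Y`: the pullback squares
`X_{n+1} = X_n ×_Y X_0`, the projections `b_n : X_n ⟶ Y` are locally small, and
`(b_{0*} b_0⁻¹)^{n+1} ≅ b_{n*} b_n⁻¹` as functors.
-/

set_option autoImplicit false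
set_option backward.isDefEq.respectTransparency false
set_option backward.isDefEq.respectTransparency.types false
set_option linter.style.haveILetI false
set_option linter.unusedSectionVars false
universe u
open CategoryTheory CategoryTheory.Limits TopologicalSpace Opposite

namespace Groth.Agent.Lib.TopLocHomeoH7

open Groth.Agent.Lib.PBCTopH2 Groth.Agent.Lib.TopDescentSec_helper7 Groth.Agent.Lib.CobarFunH7

/-! ### Stability of local smallness -/

section Stab

theorem locSmall_pullback {X Y X' Y' : TopCat.{u}} {f : X ⟶ Y} {g : Y' ⟶ Y} {f' : X' ⟶ Y'}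
    {g' : X' ⟶ X} (sq : IsPullback g' f' f g) (hg : LocSmall g) : LocSmall g' := by
  intro x'
  obtain ⟨N₀, hy, hN₀⟩ := hg (f' x')
  exact ⟨(Opens.map f').obj N₀, hy, small_pullback sq hN₀⟩

theorem locSmall_comp {Z X W : TopCat.{u}} (k₁ : Z ⟶ X) (k₂ : X ⟶ W) (h₁ : LocSmall k₁)
    (h₂ : LocSmall k₂) : LocSmall (k₁ ≫ k₂) := by
  intro z
  obtain ⟨N₂, hz₂, hN₂⟩ := h₂ (k₁ z)
  obtain ⟨N₁, hz₁, hN₁⟩ := h₁ z
  refine ⟨N₁ ⊓ (Opens.map k₁).obj N₂, ⟨hz₁, hz₂⟩, ⟨?_, ?_⟩⟩
  · intro a ha b hb hab
    have hab' : k₂ (k₁ a) = k₂ (k₁ b) := hab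
    exact hN₁.inj ha.1 hb.1 (hN₂.inj ha.2 hb.2 hab')
  · intro N' hN'
    have h1 : IsOpen (k₁ '' (N' : Set Z)) := hN₁.isOpen N' (hN'.trans inf_le_left)
    have h2 := hN₂.isOpen ⟨k₁ '' (N' : Set Z), h1⟩ (by
      rintro _ ⟨a, ha, rfl⟩
      exact (hN' ha).2)
    have h3 : ((k₁ ≫ k₂ : Z ⟶ W) : Z → W) '' (N' : Set Z) = k₂ '' (k₁ '' (N' : Set Z)) := by
      rw [Set.image_image]
      rfl
    rw [h3]
    exact h2

end Stab

/-! ### The Čech nerve -/

section Nerve

variable {X Y : TopCat.{u}} (f : X ⟶ Y)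

/-- the last projection -/
noncomputable def lastπ (n : ℕ) : Xn f n ⟶ X :=
  WidePullback.π (fun _ : Fin (n + 1) => f) (Fin.last n)

lemma lastπ_f (n : ℕ) : lastπ f n ≫ f = bn f n := WidePullback.π_arrow _ _

lemma isPullback_zero : IsPullback (bn f 0) (lastπ f 0) (𝟙 Y) f := by
  have w : bn f 0 ≫ 𝟙 Y = lastπ f 0 ≫ f := by rw [Category.comp_id, lastπ_f]
  refine ⟨⟨w⟩, ⟨PullbackCone.IsLimit.mk w
    (fun s => WidePullback.lift s.fst (fun _ => s.snd) (fun _ => by
      rw [← s.condition, Category.comp_id])) ?_ ?_ ?_⟩⟩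
  · intro s
    exact WidePullback.lift_base _ _ _ _
  · intro s
    exact WidePullback.lift_π _ _ _ _ _
  · intro s m h1 h2
    apply WidePullback.hom_ext
    · intro j
      have hj : j = Fin.last 0 :=
        @Subsingleton.elim _ (inferInstanceAs (Subsingleton (Fin 1))) _ _
      subst hj
      rw [WidePullback.lift_π]
      exact h2
    · rw [WidePullback.lift_base]
      exact h1

/-- the last coordinate, as a point of `X_0` -/
noncomputable def lastn (n : ℕ) : Xn f (n + 1) ⟶ Xn f 0 :=
  WidePullback.lift (bn f (n + 1)) (fun _ => lastπ f (n + 1)) (fun _ => lastπ_f f (n + 1))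

lemma lastn_b (n : ℕ) : lastn f n ≫ bn f 0 = bn f (n + 1) := WidePullback.lift_base _ _ _ _

lemma lastn_π (n : ℕ) (j : Fin (0 + 1)) :
    lastn f n ≫ WidePullback.π (fun _ : Fin (0 + 1) => f) j = lastπ f (n + 1) :=
  WidePullback.lift_π _ _ _ _ _

lemma πn_π (n : ℕ) (j : Fin (n + 1)) :
    πn f n ≫ WidePullback.π (fun _ : Fin (n + 1) => f) j =
      WidePullback.π (fun _ : Fin (n + 1 + 1) => f) j.castSucc :=
  WidePullback.lift_π _ _ _ _ _

lemma isPullback_succ0 (n : ℕ) : IsPullback (πn f n) (lastn f n) (bn f n) (bn f 0) := by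
  have w : πn f n ≫ bn f n = lastn f n ≫ bn f 0 := by rw [π_b, lastn_b]
  refine ⟨⟨w⟩, ⟨PullbackCone.IsLimit.mk w
    (fun s => WidePullback.lift (s.fst ≫ bn f n)
      (fun i => Fin.lastCases (s.snd ≫ WidePullback.π (fun _ : Fin (0 + 1) => f) 0)
        (fun j => s.fst ≫ WidePullback.π (fun _ : Fin (n + 1) => f) j) i)
      (fun i => by
        induction i using Fin.lastCases with
        | last =>
          rw [Fin.lastCases_last, Category.assoc, WidePullback.π_arrow]
          exact s.condition.symm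
        | cast j =>
          rw [Fin.lastCases_castSucc, Category.assoc, WidePullback.π_arrow])) ?_ ?_ ?_⟩⟩
  · intro s
    apply WidePullback.hom_ext
    · intro j
      rw [Category.assoc, πn_π, WidePullback.lift_π, Fin.lastCases_castSucc]
    · rw [Category.assoc, π_b, WidePullback.lift_base]
  · intro s
    apply WidePullback.hom_ext
    · intro j
      have hj : j = 0 := @Subsingleton.elim _ (inferInstanceAs (Subsingleton (Fin 1))) _ _
      subst hj
      rw [Category.assoc, lastn_π]
      exact (WidePullback.lift_π _ _ _ _ _).trans (Fin.lastCases_last ..)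
    · rw [Category.assoc, lastn_b, WidePullback.lift_base]
      exact s.condition
  · intro s m h1 h2
    apply WidePullback.hom_ext
    · intro i
      induction i using Fin.lastCases with
      | last =>
        rw [WidePullback.lift_π, Fin.lastCases_last, ← h2, Category.assoc, lastn_π]
        rfl
      | cast j =>
        rw [WidePullback.lift_π, Fin.lastCases_castSucc, ← h1, Category.assoc, πn_π]
    · rw [WidePullback.lift_base, ← h1, Category.assoc, π_b]

variable (hf : LocSmall f)

include hf in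
lemma locSmall_bn : ∀ n : ℕ, LocSmall (bn f n)
  | 0 => locSmall_pullback (isPullback_zero f) hf
  | n + 1 => by
    have h0 := locSmall_bn 0
    have hn := locSmall_bn n
    have hπ : LocSmall (πn f n) := locSmall_pullback (isPullback_succ0 f n) h0
    rw [← π_b]
    exact locSmall_comp _ _ hπ hn

lemma surjective_bn0 (hs : Function.Surjective f) : Function.Surjective (bn f 0) := by
  intro y
  obtain ⟨x, hx⟩ := hs y
  obtain ⟨x', h1, -⟩ := exists_lift (isPullback_zero f) y x hx.symm
  exact ⟨x', h1⟩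

/-! ### The terms of the cobar resolution -/

/-- direct images along equal maps -/
noncomputable def pushCongr {A B : TopCat.{u}} {a a' : A ⟶ B} (h : a = a') :
    CohTop.push a ≅ CohTop.push a' :=
  eqToIso (by rw [h])

/-- one step of the identification of the cobar terms -/
noncomputable def stepIso (n : ℕ) :
    (CohTop.pull (bn f n) ⋙ CohTop.push (bn f n)) ⋙
        (CohTop.pull (bn f 0) ⋙ CohTop.push (bn f 0)) ≅
      CohTop.pull (bn f (n + 1)) ⋙ CohTop.push (bn f (n + 1)) :=
  Functor.associator _ _ _ ≪≫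
    Functor.isoWhiskerLeft (CohTop.pull (bn f n))
      ((Functor.associator _ _ _).symm ≪≫
        Functor.isoWhiskerRight (bcIsoLH (isPullback_succ0 f n) (locSmall_bn f hf 0))
          (CohTop.push (bn f 0)) ≪≫
        Functor.associator _ _ _ ≪≫
        Functor.isoWhiskerLeft (CohTop.pull (πn f n))
          (pushComp (bn f 0) (lastn f n) ≪≫ pushCongr (lastn_b f n))) ≪≫
    (Functor.associator _ _ _).symm ≪≫
    Functor.isoWhiskerRight ((pullComp (πn f n) (bn f n)).symm ≪≫ pullCongr (π_b f n))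
      (CohTop.push (bn f (n + 1)))

include hf in
theorem nonempty_termIso : ∀ n : ℕ,
    Nonempty (Xf (CohTop.pull (bn f 0)) (CohTop.push (bn f 0)) (n + 1) ≅
      CohTop.pull (bn f n) ⋙ CohTop.push (bn f n))
  | 0 => ⟨XfSuccIso _ _ 0 ≪≫ Functor.isoWhiskerRight (XfZeroIso _ _) _ ≪≫ Functor.leftUnitor _⟩
  | n + 1 => by
    obtain ⟨e⟩ := nonempty_termIso n
    exact ⟨XfSuccIso _ _ (n + 1) ≪≫ Functor.isoWhiskerRight e _ ≪≫ stepIso f hf n⟩

end Nerve

end Groth.Agent.Lib.TopLocHomeoH7
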