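import Mathlib
import Groth.Prelude.Def_CohTop
import Groth.Prelude.Def_SpSeq
import Groth.Agent.Lib.TopDescD_helper7
import Groth.Agent.Lib.TopLocHomeo3_helper7
import Groth.Agent.Lib.CobarSS_helper7

/-!
# The descent spectral sequence of a surjective local homeomorphism (helper7)

For a surjective local homeomorphism `f : X ⟶ S` and an abelian sheaf `F` on `S` there is a
spectral sequence `E₁^{p,q} = H^q(X_p, F|X_p) ⇒ H^{p+q}(S, F)`, `X_p` the `(p+1)`-fold fibre
product.  It is the spectral sequence of the complex of functors `Γ(S, (b_{0*} b_0⁻¹)^{p+1} -)`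
given by the cobar construction.
-/

set_option autoImplicit false
set_option backward.isDefEq.respectTransparency false
set_option backward.isDefEq.respectTransparency.types false
set_option linter.style.haveILetI false
set_option linter.unusedSectionVars false
universe u
open CategoryTheory CategoryTheory.Limits TopologicalSpace Opposite

namespace Groth.Agent.Lib.TopLocHomeoH7

open Groth.Agent.Lib.TopDescentSec_helper7 Groth.Agent.Lib.TopDescH7 Groth.Agent.Lib.CobarFunH7

attribute [local instance] pfl_pull pfc_pull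

/-- direct images preserve finite limits -/
theorem pfl_push {A B : TopCat.{u}} (b : A ⟶ B) : PreservesFiniteLimits (CohTop.push b) := by
  haveI : PreservesLimitsOfSize.{0, 0} (CohTop.push b) :=
    (Groth.Agent.Lib.SoftH2.pbAdj b).rightAdjoint_preservesLimits
  exact PreservesLimitsOfSize.preservesFiniteLimits _

attribute [local instance] pfl_push

/-- global sections of a direct image -/
noncomputable def pushGsIso {A B : TopCat.{u}} (b : A ⟶ B) : CohTop.push b ⋙ gs B ≅ gs A :=
  NatIso.ofComponents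
    (fun F => (F.obj.mapIso (eqToIso (TopologicalSpace.Opens.map_top b)).op).symm)
    (fun {F G} φ => by
      simp only [Functor.comp_map, Iso.symm_hom, Functor.mapIso_inv, Iso.op_inv]
      exact (φ.hom.naturality _).symm)

section Main

variable {X S : TopCat.{u}} (f : X ⟶ S) (hf : LocSmall f)

include hf in
/-- `H^q(X_p, b_p⁻¹ I) = 0` for `I` injective and `q > 0` -/
lemma isZero_gsDerived_pull_bn (p : ℕ) (I : CohTop.Ab S) (hI : Injective I) (n : ℕ) :
    IsZero (((gs (Xn f p)).rightDerived (n + 1)).obj ((CohTop.pull (bn f p)).obj I)) := by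
  obtain ⟨e⟩ := nonempty_gsDerived_iso (Xn f p) ((CohTop.pull (bn f p)).obj I) (n + 1)
  refine IsZero.of_iso ?_ e
  haveI := hI
  haveI := Groth.Agent.Lib.FlasqueAcyclic.isFlasque_of_injective I
  haveI := subsingleton_H_pull (bn f p) (locSmall_bn f hf p) I n
  exact AddCommGrpCat.isZero_of_subsingleton _

include hf in
/-- the `E₁`-terms -/
theorem nonempty_E1_iso (F : CohTop.Ab S) (p q : ℕ) :
    Nonempty (((Xf (CohTop.pull (bn f 0)) (CohTop.push (bn f 0)) (p + 1) ⋙ gs S).rightDerived q).obj F ≅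
      T f F p q) := by
  obtain ⟨e0⟩ := nonempty_termIso f hf p
  have e1 : Xf (CohTop.pull (bn f 0)) (CohTop.push (bn f 0)) (p + 1) ⋙ gs S ≅
      CohTop.pull (bn f p) ⋙ gs (Xn f p) :=
    Functor.isoWhiskerRight e0 (gs S) ≪≫ Functor.associator _ _ _ ≪≫
      Functor.isoWhiskerLeft (CohTop.pull (bn f p)) (pushGsIso (bn f p))
  have e2 := (ExtDer.rightDerivedIso e1 q).app F
  obtain ⟨e3⟩ := Groth.Agent.Lib.DeltaComp.nonempty_rightDerived_baseChange
    (CohTop.pull (bn f p) ⋙ gs (Xn f p)) (gs (Xn f p)) (CohTop.pull (bn f p))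
    (𝟭 AddCommGrpCat.{u}) (Functor.rightUnitor _)
    (fun I hI n => isZero_gsDerived_pull_bn f hf p I hI n) q
  obtain ⟨e4⟩ := nonempty_gsDerived_iso (Xn f p) ((CohTop.pull (bn f p)).obj F) q
  exact ⟨e2 ≪≫ e3.app F ≪≫ e4⟩

/-- the first page -/
noncomputable def E1 (F : CohTop.Ab S) (p q : ℤ) : AddCommGrpCat.{u} :=
  if 0 ≤ p ∧ 0 ≤ q then T f F p.toNat q.toNat else AddCommGrpCat.of PUnit.{u + 1}

lemma E1_natCast (F : CohTop.Ab S) (p q : ℕ) : E1 f F (p : ℤ) (q : ℤ) = T f F p q := by
  unfold E1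
  rw [if_pos ⟨Int.natCast_nonneg p, Int.natCast_nonneg q⟩, Int.toNat_natCast, Int.toNat_natCast]

lemma isZero_E1 (F : CohTop.Ab S) (p q : ℤ) (h : p < 0 ∨ q < 0) : IsZero (E1 f F p q) := by
  unfold E1
  rw [if_neg (by omega)]
  exact AddCommGrpCat.isZero_of_subsingleton _

include hf in
set_option maxHeartbeats 400000 in
theorem main' (hs : Function.Surjective f) (F : CohTop.Ab S) :
    ∃ (E : CohomologicalSpectralSequence AddCommGrpCat.{u} 1)
      (a : SpSeq.Abutment E (Hab F)),
      (∀ n, a.IsFinite n) ∧ SpSeq.IsBounded E ∧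
      ∀ p q : ℤ, Nonempty ((E.page 1 le_rfl).X (p, q) ≅ E1 f F p q) := by
  have hL : ∀ A : CohTop.Ab S, IsZero ((CohTop.pull (bn f 0)).obj A) → IsZero A :=
    isZero_of_isZero_pull (bn f 0) (surjective_bn0 f hs)
  have h2 := @Groth.Agent.Lib.CobarSSH7.exists_ss (CohTop.Ab S) _ _ (CohTop.Ab (Xn f 0)) _ _
    (CohTop.pull (bn f 0)) (CohTop.push (bn f 0)) (Groth.Agent.Lib.SoftH2.pbAdj (bn f 0))
    _ _ _ _ _ hL AddCommGrpCat.{u} _ _ (gs S) _ _ _ _ F
  have h4 := h2 (Hab F)
  have h5 := h4 (nonempty_Hab_iso F)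
  have h6 := h5 (isZero_Hab F)
  have h7 := h6 (E1 f F)
  have h8 := h7 (fun p q => by
    rw [E1_natCast]
    exact nonempty_E1_iso f hf F p q)
  exact h8 (isZero_E1 f F)

include hf in
set_option maxHeartbeats 400000 in
theorem main (hs : Function.Surjective f) (F : CohTop.Ab S) :
    ∃ (E : CohomologicalSpectralSequence AddCommGrpCat.{u} 1)
      (a : SpSeq.Abutment E (fun n : ℤ =>
        if 0 ≤ n then AddCommGrpCat.of (CohTop.H F n.toNat) else AddCommGrpCat.of PUnit.{u + 1})),
      (∀ n, a.IsFinite n) ∧ SpSeq.IsBounded E ∧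
      ∀ p q : ℤ, Nonempty ((E.page 1 le_rfl).X (p, q) ≅
        (if 0 ≤ p ∧ 0 ≤ q then T f F p.toNat q.toNat else AddCommGrpCat.of PUnit.{u + 1})) := by
  have h := main' f hf hs F
  have hH : Hab F = (fun n : ℤ =>
      if 0 ≤ n then AddCommGrpCat.of (CohTop.H F n.toNat) else AddCommGrpCat.of PUnit.{u + 1}) :=
    rfl
  have hE : E1 f F = (fun p q : ℤ =>
      if 0 ≤ p ∧ 0 ≤ q then T f F p.toNat q.toNat else AddCommGrpCat.of PUnit.{u + 1}) := rfl
  rw [hH, hE] at h
  exact h

end Main

end Groth.Agent.Lib.TopLocHomeoH7
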