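import Mathlib
import Groth.Prelude.Def_SGA4c
import Groth.Prelude.Def_ToposFin2
import Groth.Agent.Lib.ToposFin13_helper8

/-!
# Finitely presented objects of a locally coherent topos (helper8)
-/

set_option autoImplicit false

open CategoryTheory Limits Opposite

attribute [-instance] CategoryTheory.hasColimitsEssentiallySmallSite

namespace Groth.Agent.Lib.ToposFinH8

universe u
variable {C : Type u} [SmallCategory C] {J : GrothendieckTopology C}

theorem injective_post_iff {X : Sheaf J (Type u)} {I : Type u} [SmallCategory I] [IsFiltered I]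
    (D : I ⥤ Sheaf J (Type u)) :
    Function.Injective (colimit.post D (coyoneda.obj (op X))) ↔
      ∀ (i : I) (f g : X ⟶ D.obj i), f ≫ colimit.ι D i = g ≫ colimit.ι D i →
        ∃ (k : I) (ψ : i ⟶ k), f ≫ D.map ψ = g ≫ D.map ψ := by
  constructor
  · intro h i f g hfg
    have h1 : colimit.ι (D ⋙ coyoneda.obj (op X)) i f = colimit.ι (D ⋙ coyoneda.obj (op X)) i g := by
      apply h
      rw [post_ι_apply, post_ι_apply]
      exact hfg
    obtain ⟨k, φ, ψ, hk⟩ := (Types.FilteredColimit.colimit_eq_iff _).1 h1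
    have hk' : f ≫ D.map φ = g ≫ D.map ψ := hk
    refine ⟨IsFiltered.coeq φ ψ, φ ≫ IsFiltered.coeqHom φ ψ, ?_⟩
    have e := IsFiltered.coeq_condition φ ψ
    calc f ≫ D.map (φ ≫ IsFiltered.coeqHom φ ψ)
        = (f ≫ D.map φ) ≫ D.map (IsFiltered.coeqHom φ ψ) := by
          rw [D.map_comp, Category.assoc]
      _ = (g ≫ D.map ψ) ≫ D.map (IsFiltered.coeqHom φ ψ) := by rw [hk']
      _ = g ≫ D.map (ψ ≫ IsFiltered.coeqHom φ ψ) := by rw [D.map_comp, Category.assoc]
      _ = g ≫ D.map (φ ≫ IsFiltered.coeqHom φ ψ) := by rw [e]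
  · intro h p q hpq
    obtain ⟨i, a, rfl⟩ := Types.jointly_surjective' p
    obtain ⟨j, b, rfl⟩ := Types.jointly_surjective' q
    have hpq' : (a : X ⟶ D.obj i) ≫ colimit.ι D i = (b : X ⟶ D.obj j) ≫ colimit.ι D j :=
      (post_ι_apply D i a).symm.trans (hpq.trans (post_ι_apply D j b))
    let k := IsFiltered.max i j
    have h' : ((a : X ⟶ D.obj i) ≫ D.map (IsFiltered.leftToMax i j)) ≫ colimit.ι D k =
        ((b : X ⟶ D.obj j) ≫ D.map (IsFiltered.rightToMax i j)) ≫ colimit.ι D k := by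
      rw [Category.assoc, Category.assoc, colimit.w, colimit.w]
      exact hpq'
    obtain ⟨k', ψ, hψ⟩ := h k _ _ h'
    refine (Types.FilteredColimit.colimit_eq_iff _).2
      ⟨k', IsFiltered.leftToMax i j ≫ ψ, IsFiltered.rightToMax i j ≫ ψ, ?_⟩
    show (a : X ⟶ D.obj i) ≫ D.map (IsFiltered.leftToMax i j ≫ ψ) =
      (b : X ⟶ D.obj j) ≫ D.map (IsFiltered.rightToMax i j ≫ ψ)
    rw [D.map_comp, D.map_comp, ← Category.assoc, ← Category.assoc]
    exact hψ

theorem surjective_post_iff {X : Sheaf J (Type u)} {I : Type u} [SmallCategory I]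
    (D : I ⥤ Sheaf J (Type u)) :
    Function.Surjective (colimit.post D (coyoneda.obj (op X))) ↔
      ∀ t : X ⟶ colimit D, ∃ (i : I) (a : X ⟶ D.obj i), a ≫ colimit.ι D i = t := by
  constructor
  · intro h t
    obtain ⟨p, hp⟩ := h t
    obtain ⟨i, a, rfl⟩ := Types.jointly_surjective' p
    exact ⟨i, a, (post_ι_apply D i a).symm.trans hp⟩
  · intro h t
    obtain ⟨i, a, ha⟩ := h t
    exact ⟨colimit.ι (D ⋙ coyoneda.obj (op X)) i a, (post_ι_apply D i a).trans ha⟩

/-- The coequalizer of a pair `X₁ ⇉ X₀` with `X₀` finitely presented and `X₁` quasi-compact is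
finitely presented. -/
theorem isFP_coequalizer {X₀ X₁ : Sheaf J (Type u)} (a b : X₁ ⟶ X₀) (h₀ : ToposFin.IsFP X₀)
    (h₁ : ∀ (I : Type u) [SmallCategory I] [IsFiltered I] (D : I ⥤ Sheaf J (Type u)),
      Function.Injective (colimit.post D (coyoneda.obj (op X₁)))) :
    ToposFin.IsFP (coequalizer a b) := by
  intro I _ _ D
  constructor
  · rw [injective_post_iff]
    intro i f g hfg
    have h2 : (coequalizer.π a b ≫ f) ≫ colimit.ι D i = (coequalizer.π a b ≫ g) ≫ colimit.ι D i := by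
      rw [Category.assoc, Category.assoc, hfg]
    obtain ⟨k, ψ, hψ⟩ := (injective_post_iff D).1 (h₀ I D).1 i _ _ h2
    refine ⟨k, ψ, ?_⟩
    rw [← cancel_epi (coequalizer.π a b), ← Category.assoc, ← Category.assoc]
    exact hψ
  · rw [surjective_post_iff]
    intro t
    obtain ⟨i, l, hl⟩ := (surjective_post_iff D).1 (h₀ I D).2 (coequalizer.π a b ≫ t)
    have h2 : (a ≫ l) ≫ colimit.ι D i = (b ≫ l) ≫ colimit.ι D i := by
      rw [Category.assoc, Category.assoc, hl, ← Category.assoc, ← Category.assoc,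
        coequalizer.condition]
    obtain ⟨k, ψ, hψ⟩ := (injective_post_iff D).1 (h₁ I D) i _ _ h2
    have h3 : a ≫ (l ≫ D.map ψ) = b ≫ (l ≫ D.map ψ) := by
      rw [← Category.assoc, ← Category.assoc]
      exact hψ
    refine ⟨k, coequalizer.desc (l ≫ D.map ψ) h3, ?_⟩
    apply coequalizer.hom_ext
    rw [← Category.assoc, coequalizer.π_desc, Category.assoc, colimit.w, hl]

theorem isFP_of_retract {X Q : Sheaf J (Type u)} (i : X ⟶ Q) (p : Q ⟶ X) (h : i ≫ p = 𝟙 X)
    (hQ : ToposFin.IsFP Q) : ToposFin.IsFP X := by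
  intro I _ _ D
  constructor
  · rw [injective_post_iff]
    intro j f g hfg
    have h2 : (p ≫ f) ≫ colimit.ι D j = (p ≫ g) ≫ colimit.ι D j := by
      rw [Category.assoc, Category.assoc, hfg]
    obtain ⟨k, ψ, hψ⟩ := (injective_post_iff D).1 (hQ I D).1 j _ _ h2
    refine ⟨k, ψ, ?_⟩
    have h3 := congrArg (fun t => i ≫ t) hψ
    simp only [← Category.assoc, h, Category.id_comp] at h3
    exact h3
  · rw [surjective_post_iff]
    intro t
    obtain ⟨j, l, hl⟩ := (surjective_post_iff D).1 (hQ I D).2 (p ≫ t)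
    refine ⟨j, i ≫ l, ?_⟩
    rw [Category.assoc, hl, ← Category.assoc, h, Category.id_comp]

theorem isCoherent_of_retract {X Q : Sheaf J (Type u)} (i : X ⟶ Q) (p : Q ⟶ X) (h : i ≫ p = 𝟙 X)
    (hQ : ToposFin.IsCoherent Q) : ToposFin.IsCoherent X := by
  haveI : IsSplitMono i := IsSplitMono.mk' ⟨p, h⟩
  haveI : IsSplitEpi p := IsSplitEpi.mk' ⟨i, h⟩
  exact ⟨isQC_of_epi p hQ.1, isQS_of_mono i hQ.2⟩

theorem isQC_of_isFP {X : Sheaf J (Type u)} (h : ToposFin.IsFP X) : ToposFin.IsQC X :=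
  isQC_of_injective_post (fun I _ _ D => (h I D).1)

theorem isQS_sigma {ι : Type u} (F : ι → Sheaf J (Type u)) (h : ∀ i, ToposFin.IsQS (F i)) :
    ToposFin.IsQS (∐ F) :=
  isQS_of_cover F (Sigma.ι F) (je_inj (coproductIsCoproduct F)) h
    (fun i => isQCHom_inj (goodCofan_of_small (Cofan.mk (∐ F) (Sigma.ι F))
      (coproductIsCoproduct F)) i)

theorem isCoherent_sigma_finite {ι : Type u} [Finite ι] (F : ι → Sheaf J (Type u))
    (h : ∀ i, ToposFin.IsCoherent (F i)) : ToposFin.IsCoherent (∐ F) :=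
  ⟨isQC_of_finite_je F (Sigma.ι F) (je_inj (coproductIsCoproduct F)) (fun i => (h i).1),
    isQS_sigma F (fun i => (h i).2)⟩

theorem hasQCGenerators_of_coherent (hE : ToposFin.HasCoherentGenerators J) :
    ToposFin.HasQCGenerators J := fun X => by
  obtain ⟨ι, F, π, h1, h2⟩ := hE X
  exact ⟨ι, F, π, fun i => (h1 i).1, h2⟩

theorem hasCohGen_je (hE : ToposFin.HasCoherentGenerators J) (X : Sheaf J (Type u)) :
    ∃ (ι : Type u) (F : ι → Sheaf J (Type u)) (π : ∀ i, F i ⟶ X),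
      (∀ i, ToposFin.IsCoherent (F i)) ∧ JE π := by
  obtain ⟨ι, F, π, h1, h2⟩ := hE X
  exact ⟨ι, F, π, h1, (epi_sigmaDesc_iff π).1 h2⟩

section Retract

variable {X₀ : Sheaf J (Type u)} {κ : Type u} (H : κ → Sheaf J (Type u)) (u v : ∀ k, H k ⟶ X₀)

/-- the partial coproduct maps -/
noncomputable def su (r : Finset κ) : (∐ fun k : r => H k) ⟶ X₀ := Sigma.desc (fun k : r => u k)

/-- the partial coequalizers -/
noncomputable def cq (r : Finset κ) : Sheaf J (Type u) := coequalizer (su H u r) (su H v r)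

noncomputable def cqπ (r : Finset κ) : X₀ ⟶ cq H u v r := coequalizer.π _ _

instance (r : Finset κ) : Epi (cqπ H u v r) :=
  coequalizer.π_epi

lemma cq_cond {r : Finset κ} (k : κ) (hk : k ∈ r) : u k ≫ cqπ H u v r = v k ≫ cqπ H u v r := by
  have h1 : Sigma.ι (fun k : r => H k) ⟨k, hk⟩ ≫ su H u r = u k :=
    Sigma.ι_desc (fun k : r => u k) ⟨k, hk⟩
  have h2 : Sigma.ι (fun k : r => H k) ⟨k, hk⟩ ≫ su H v r = v k :=
    Sigma.ι_desc (fun k : r => v k) ⟨k, hk⟩
  have h3 : su H u r ≫ cqπ H u v r = su H v r ≫ cqπ H u v r := coequalizer.condition _ _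
  rw [← h1, ← h2, Category.assoc, Category.assoc, h3]

lemma su_le {r r' : Finset κ} (h : r ≤ r') :
    su H u r ≫ cqπ H u v r' = su H v r ≫ cqπ H u v r' := by
  apply Sigma.hom_ext
  intro k
  have h1 : Sigma.ι (fun k : r => H k) k ≫ su H u r = u k := Sigma.ι_desc (fun k : r => u k) k
  have h2 : Sigma.ι (fun k : r => H k) k ≫ su H v r = v k := Sigma.ι_desc (fun k : r => v k) k
  rw [← Category.assoc, ← Category.assoc, h1, h2]
  exact cq_cond H u v k (h k.2)

noncomputable def cqMap {r r' : Finset κ} (h : r ≤ r') : cq H u v r ⟶ cq H u v r' :=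
  coequalizer.desc (cqπ H u v r') (su_le H u v h)

lemma cqπ_map {r r' : Finset κ} (h : r ≤ r') : cqπ H u v r ≫ cqMap H u v h = cqπ H u v r' :=
  coequalizer.π_desc _ _

@[reducible] noncomputable def cqFunctor : Finset κ ⥤ Sheaf J (Type u) where
  obj := cq H u v
  map f := cqMap H u v (leOfHom f)
  map_id r := by
    rw [← cancel_epi (cqπ H u v r), cqπ_map, Category.comp_id]
  map_comp {r s t} f g := by
    rw [← cancel_epi (cqπ H u v r), cqπ_map, ← Category.assoc, cqπ_map, cqπ_map]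

variable {X : Sheaf J (Type u)} (ρ : X₀ ⟶ X)

lemma su_ρ (huv : ∀ k, u k ≫ ρ = v k ≫ ρ) (r : Finset κ) : su H u r ≫ ρ = su H v r ≫ ρ := by
  apply Sigma.hom_ext
  intro k
  have h1 : Sigma.ι (fun k : r => H k) k ≫ su H u r = u k := Sigma.ι_desc (fun k : r => u k) k
  have h2 : Sigma.ι (fun k : r => H k) k ≫ su H v r = v k := Sigma.ι_desc (fun k : r => v k) k
  rw [← Category.assoc, ← Category.assoc, h1, h2]
  exact huv k

noncomputable def cqDesc (huv : ∀ k, u k ≫ ρ = v k ≫ ρ) (r : Finset κ) : cq H u v r ⟶ X :=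
  coequalizer.desc ρ (su_ρ H u v ρ huv r)

lemma cqπ_desc (huv : ∀ k, u k ≫ ρ = v k ≫ ρ) (r : Finset κ) :
    cqπ H u v r ≫ cqDesc H u v ρ huv r = ρ := coequalizer.π_desc _ _

theorem exists_retract_of_surj [Epi ρ] (huv : ∀ k, u k ≫ ρ = v k ≫ ρ)
    (hje : JE (fun k => pullback.lift (u k) (v k) (huv k)))
    (hX : Function.Surjective (colimit.post (cqFunctor H u v) (coyoneda.obj (op X)))) :
    ∃ (r : Finset κ) (i : X ⟶ cq H u v r), i ≫ cqDesc H u v ρ huv r = 𝟙 X := by
  classical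
  let D := cqFunctor H u v
  have hπι : ∀ r : Finset κ, cqπ H u v r ≫ colimit.ι D r = cqπ H u v ∅ ≫ colimit.ι D ∅ := by
    intro r
    have hle : (∅ : Finset κ) ≤ r := Finset.empty_subset r
    have hw : cqMap H u v hle ≫ colimit.ι D r = colimit.ι D ∅ := colimit.w D (homOfLE hle)
    rw [← hw, ← Category.assoc, cqπ_map]
  have hkey : pullback.fst ρ ρ ≫ cqπ H u v ∅ ≫ colimit.ι D ∅ =
      pullback.snd ρ ρ ≫ cqπ H u v ∅ ≫ colimit.ι D ∅ := by
    apply hje
    intro k
    show pullback.lift (u k) (v k) (huv k) ≫ pullback.fst ρ ρ ≫ cqπ H u v ∅ ≫ colimit.ι D ∅ =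
      pullback.lift (u k) (v k) (huv k) ≫ pullback.snd ρ ρ ≫ cqπ H u v ∅ ≫ colimit.ι D ∅
    have e1 : pullback.lift (u k) (v k) (huv k) ≫ pullback.fst ρ ρ = u k := pullback.lift_fst _ _ _
    have e2 : pullback.lift (u k) (v k) (huv k) ≫ pullback.snd ρ ρ = v k := pullback.lift_snd _ _ _
    calc pullback.lift (u k) (v k) (huv k) ≫ pullback.fst ρ ρ ≫ cqπ H u v ∅ ≫ colimit.ι D ∅
        = u k ≫ cqπ H u v ∅ ≫ colimit.ι D ∅ := by rw [← Category.assoc, e1]
      _ = u k ≫ cqπ H u v {k} ≫ colimit.ι D {k} := by rw [hπι {k}]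
      _ = v k ≫ cqπ H u v {k} ≫ colimit.ι D {k} := by
          rw [← Category.assoc, cq_cond H u v k (Finset.mem_singleton_self k), Category.assoc]
      _ = v k ≫ cqπ H u v ∅ ≫ colimit.ι D ∅ := by rw [hπι {k}]
      _ = pullback.lift (u k) (v k) (huv k) ≫ pullback.snd ρ ρ ≫ cqπ H u v ∅ ≫ colimit.ι D ∅ := by
          rw [← Category.assoc _ (pullback.snd ρ ρ), e2]
  obtain ⟨σ, hσ⟩ := epi_desc ρ (cqπ H u v ∅ ≫ colimit.ι D ∅) hkey
  obtain ⟨r, a, ha⟩ := (surjective_post_iff D).1 hX σ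
  let c : Cocone D := ⟨X, { app := fun r => cqDesc H u v ρ huv r,
                             naturality := fun r r' f => by
                               rw [← cancel_epi (cqπ H u v r)]
                               show cqπ H u v r ≫ cqMap H u v (leOfHom f) ≫ cqDesc H u v ρ huv r' =
                                 cqπ H u v r ≫ cqDesc H u v ρ huv r ≫ 𝟙 X
                               rw [← Category.assoc, cqπ_map, cqπ_desc, Category.comp_id, cqπ_desc] }⟩
  have hq : ∀ r, colimit.ι D r ≫ colimit.desc D c = cqDesc H u v ρ huv r := fun r =>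
    colimit.ι_desc c r
  refine ⟨r, a, ?_⟩
  rw [← cancel_epi ρ, ← hq r, ← Category.assoc, ← Category.assoc, Category.assoc ρ, ha, hσ,
    Category.assoc, hq, cqπ_desc, Category.comp_id]

end Retract

/-- SGA4 VI 1.24-type: a finitely presented object is a retract of a coequalizer of a pair of maps
between coherent objects. -/
theorem exists_retract_of_isFP (hE : ToposFin.HasCoherentGenerators J) {X : Sheaf J (Type u)}
    (hX : ToposFin.IsFP X) :
    ∃ (X₀ X₁ : Sheaf J (Type u)) (a b : X₁ ⟶ X₀) (i : X ⟶ coequalizer a b)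
      (p : coequalizer a b ⟶ X), ToposFin.IsCoherent X₀ ∧ ToposFin.IsCoherent X₁ ∧ i ≫ p = 𝟙 X := by
  classical
  obtain ⟨ι, F, π, hF, hπ⟩ := hasCohGen_je hE X
  obtain ⟨s, hs⟩ := (isQC_iff X).1 (isQC_of_isFP hX) ι F π hπ
  let Fs : s → Sheaf J (Type u) := fun i => F i
  let ρ : ∐ Fs ⟶ X := Sigma.desc (fun i : s => π i)
  haveI : Epi ρ := (epi_sigmaDesc_iff _).2 hs
  have hX₀ : ToposFin.IsCoherent (∐ Fs) := isCoherent_sigma_finite Fs (fun i => hF i)
  obtain ⟨κ, H, e, hH, he⟩ := hasCohGen_je hE (pullback ρ ρ)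
  let u : ∀ k, H k ⟶ ∐ Fs := fun k => e k ≫ pullback.fst ρ ρ
  let v : ∀ k, H k ⟶ ∐ Fs := fun k => e k ≫ pullback.snd ρ ρ
  have huv : ∀ k, u k ≫ ρ = v k ≫ ρ := fun k => by
    simp only [u, v, Category.assoc, pullback.condition]
  have hlift : (fun k => pullback.lift (u k) (v k) (huv k)) = e := by
    funext k
    apply pullback.hom_ext
    · exact pullback.lift_fst _ _ _
    · exact pullback.lift_snd _ _ _
  have hje : JE (fun k => pullback.lift (u k) (v k) (huv k)) := by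
    rw [hlift]
    exact he
  obtain ⟨r, i, hi⟩ := exists_retract_of_surj H u v ρ huv hje (hX _ _).2
  exact ⟨∐ Fs, ∐ (fun k : r => H k), su H u r, su H v r, i, cqDesc H u v ρ huv r, hX₀,
    isCoherent_sigma_finite _ (fun k => hH k), hi⟩

theorem isFP_iff_retract (hE : ToposFin.HasCoherentGenerators J) (X : Sheaf J (Type u)) :
    ToposFin.IsFP X ↔ ∃ (X₀ X₁ : Sheaf J (Type u)) (a b : X₁ ⟶ X₀) (i : X ⟶ coequalizer a b)
      (p : coequalizer a b ⟶ X), ToposFin.IsCoherent X₀ ∧ ToposFin.IsCoherent X₁ ∧ i ≫ p = 𝟙 X := by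
  constructor
  · exact exists_retract_of_isFP hE
  · rintro ⟨X₀, X₁, a, b, i, p, h₀, h₁, hip⟩
    exact isFP_of_retract i p hip (isFP_coequalizer a b
      (isFP_of_isCoherent (hasQCGenerators_of_coherent hE) h₀)
      (fun I _ _ D => injective_post_of_isQC h₁.1 I D))

end Groth.Agent.Lib.ToposFinH8
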