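import Mathlib
import Groth.Prelude.Def_ToposFin2
import Groth.Agent.Lib.CechTot_helper2
import Groth.Agent.Lib.ShForget1_helper8
import Groth.Agent.Lib.ToposFin13_helper8
import Groth.Agent.Lib.ToposFin14_helper8

/-!
# Maps out of free abelian sheaves on coherent objects and filtered colimits (helper7)

For a quasi-compact (resp. coherent) sheaf of sets `X` on a small site, `Hom(ℤ[X], -)` on abelian
sheaves is injective (resp. bijective) on filtered colimits, in elementwise form.
-/

set_option backward.isDefEq.respectTransparency false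
set_option backward.isDefEq.respectTransparency.types false
set_option linter.style.haveILetI false
set_option linter.unusedSectionVars false
set_option linter.unusedVariables false
set_option autoImplicit false
set_option maxHeartbeats 1600000

universe u
open CategoryTheory Limits Opposite

namespace Groth.Agent.Lib.ToposColimH7

open Groth.Agent.Lib.CechAcyc Groth.Agent.Lib.CechTot Groth.Agent.Lib.ToposFinH8

variable {C : Type u} [SmallCategory C] {J : GrothendieckTopology C}
  {I : Type u} [SmallCategory I] [IsFiltered I]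
  (D : I ⥤ Sheaf J AddCommGrpCat.{u}) (c : Cocone D) (hc : IsColimit c)

/-- the underlying sheaf of sets -/
noncomputable abbrev Uf : Sheaf J AddCommGrpCat.{u} ⥤ Sheaf J (Type u) :=
  sheafCompose J (forget AddCommGrpCat.{u})

/-- the image of a filtered colimit cocone in sheaves of sets is a colimit -/
noncomputable def hcU : IsColimit ((Uf (J := J)).mapCocone c) := by
  haveI := ShForgetH8.preservesColimit_sheafCompose_forget J D
  exact isColimitOfPreserves (sheafCompose J (forget AddCommGrpCat.{u})) hc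

include hc in
/-- maps from `ℤ[X]`, `X` quasi-compact, to a stage which agree in the colimit agree at a later
stage -/
theorem homA_eq (X : Sheaf J (Type u)) (hX : ToposFin.IsQC X) {i : I}
    (φ ψ : (G (J := J)).obj X ⟶ D.obj i) (h : φ ≫ c.ι.app i = ψ ≫ c.ι.app i) :
    ∃ (j : I) (f : i ⟶ j), φ ≫ D.map f = ψ ≫ D.map f := by
  let a : X ⟶ (Uf (J := J)).obj (D.obj i) := (adjG (J := J)).homEquiv X (D.obj i) φ
  let b : X ⟶ (Uf (J := J)).obj (D.obj i) := (adjG (J := J)).homEquiv X (D.obj i) ψ
  have hab : a ≫ ((Uf (J := J)).mapCocone c).ι.app i = b ≫ ((Uf (J := J)).mapCocone c).ι.app i := by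
    have e1 : (adjG (J := J)).homEquiv X c.pt (φ ≫ c.ι.app i) =
        a ≫ (Uf (J := J)).map (c.ι.app i) :=
      Adjunction.homEquiv_naturality_right _ _ _
    have e2 : (adjG (J := J)).homEquiv X c.pt (ψ ≫ c.ι.app i) =
        b ≫ (Uf (J := J)).map (c.ι.app i) :=
      Adjunction.homEquiv_naturality_right _ _ _
    show a ≫ (Uf (J := J)).map (c.ι.app i) = b ≫ (Uf (J := J)).map (c.ι.app i)
    rw [← e1, ← e2, h]
  obtain ⟨j, f, hf⟩ := exists_eq_of_comp_ι_eq_of_isQC (D ⋙ Uf (J := J))
    ((Uf (J := J)).mapCocone c) (hcU D c hc) hX a b hab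
  refine ⟨j, f, ?_⟩
  apply ((adjG (J := J)).homEquiv X (D.obj j)).injective
  have e1 : (adjG (J := J)).homEquiv X (D.obj j) (φ ≫ D.map f) =
      a ≫ (Uf (J := J)).map (D.map f) :=
    Adjunction.homEquiv_naturality_right _ _ _
  have e2 : (adjG (J := J)).homEquiv X (D.obj j) (ψ ≫ D.map f) =
      b ≫ (Uf (J := J)).map (D.map f) :=
    Adjunction.homEquiv_naturality_right _ _ _
  rw [e1, e2]
  exact hf

include hc in
/-- a map from `ℤ[X]`, `X` quasi-compact, to a stage which dies in the colimit dies at a later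
stage -/
theorem homA_inj (X : Sheaf J (Type u)) (hX : ToposFin.IsQC X) {i : I}
    (φ : (G (J := J)).obj X ⟶ D.obj i) (h : φ ≫ c.ι.app i = 0) :
    ∃ (j : I) (f : i ⟶ j), φ ≫ D.map f = 0 := by
  obtain ⟨j, f, hf⟩ := homA_eq D c hc X hX φ 0 (by rw [h, zero_comp])
  exact ⟨j, f, by rw [hf, zero_comp]⟩

include hc in
/-- every map from `ℤ[X]`, `X` coherent, to the colimit comes from a stage -/
theorem homA_surj (hE : ToposFin.HasQCGenerators J) (X : Sheaf J (Type u))
    (hX : ToposFin.IsCoherent X) (φ : (G (J := J)).obj X ⟶ c.pt) :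
    ∃ (i : I) (φi : (G (J := J)).obj X ⟶ D.obj i), φi ≫ c.ι.app i = φ := by
  let D' := D ⋙ Uf (J := J)
  let c' := (Uf (J := J)).mapCocone c
  have hc' : IsColimit c' := hcU D c hc
  let e : colimit D' ≅ c'.pt := (colimit.isColimit D').coconePointUniqueUpToIso hc'
  have he : ∀ i, colimit.ι D' i ≫ e.hom = c'.ι.app i := fun i =>
    (colimit.isColimit D').comp_coconePointUniqueUpToIso_hom hc' i
  let a : X ⟶ c'.pt := (adjG (J := J)).homEquiv X c.pt φ
  obtain ⟨i, b, hb⟩ := (surjective_post_iff D').1
    (surjective_post_of_isCoherent hE hX I D') (a ≫ e.inv)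
  have hb' : b ≫ c'.ι.app i = a := by
    rw [← he i, ← Category.assoc, hb, Category.assoc, e.inv_hom_id, Category.comp_id]
  refine ⟨i, ((adjG (J := J)).homEquiv X (D.obj i)).symm b, ?_⟩
  apply ((adjG (J := J)).homEquiv X c.pt).injective
  have e1 : (adjG (J := J)).homEquiv X c.pt
      (((adjG (J := J)).homEquiv X (D.obj i)).symm b ≫ c.ι.app i) =
      (adjG (J := J)).homEquiv X (D.obj i) (((adjG (J := J)).homEquiv X (D.obj i)).symm b) ≫
        (Uf (J := J)).map (c.ι.app i) :=
    Adjunction.homEquiv_naturality_right _ _ _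
  rw [e1, Equiv.apply_symm_apply]
  exact hb'

end Groth.Agent.Lib.ToposColimH7
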