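import Mathlib
import Groth.Prelude.Def_ToposFin2
import Groth.Agent.Lib.ToposColim1_helper7
import Groth.Agent.Lib.ToposFin8_helper8
import Groth.Agent.Lib.ToposFin9_helper8
import Groth.Agent.Lib.CompactBB2_helper7

/-!
# Finite coproducts of members of a generating class of a topos (helper7)

`FinPlus S X`: the sheaf of sets `X` is isomorphic to a finite coproduct of members of `S`.  For `S`
stable under fibre products, the terms of the Čech nerve of a map `X ⟶ K` with `X` in `FinPlus S`
and `K ∈ S` are in `FinPlus S`; members of `FinPlus S` are coherent when `S` is a generating set of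
quasi-compact objects stable under fibre products; `Ext`-vanishing passes from `S` to `FinPlus S`.
-/

set_option backward.isDefEq.respectTransparency false
set_option backward.isDefEq.respectTransparency.types false
set_option linter.style.haveILetI false
set_option linter.unusedSectionVars false
set_option linter.unusedVariables false
set_option autoImplicit false
set_option maxHeartbeats 1600000

universe w u
open CategoryTheory Limits Opposite Simplicial

namespace Groth.Agent.Lib.ToposColimH7

open Groth.Agent.Lib.CechAcyc Groth.Agent.Lib.CechTot Groth.Agent.Lib.ToposFinH8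

section WidePb

variable {𝒞 : Type*} [Category 𝒞] [HasPullbacks 𝒞] {B X : 𝒞} (f : X ⟶ B)

/-- the wide pullback of `n+1` copies of `f` -/
noncomputable abbrev Wn (n : ℕ) [HasWidePullback B (fun _ : Fin (n + 1) => X) (fun _ => f)] : 𝒞 :=
  widePullback B (fun _ : Fin (n + 1) => X) (fun _ => f)

/-- `W_0 ≅ X` -/
noncomputable def wZero [HasWidePullback B (fun _ : Fin (0 + 1) => X) (fun _ => f)] :
    Wn f 0 ≅ X where
  hom := WidePullback.π (fun _ : Fin (0 + 1) => f) 0
  inv := WidePullback.lift f (fun _ => 𝟙 X) (fun _ => Category.id_comp f)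
  hom_inv_id := by
    apply WidePullback.hom_ext
    · intro j
      obtain rfl : j = 0 := Fin.ext (by have := j.2; omega)
      rw [Category.assoc, WidePullback.lift_π, Category.comp_id, Category.id_comp]
    · rw [Category.assoc, WidePullback.lift_base, Category.id_comp, WidePullback.π_arrow]
  inv_hom_id := by
    rw [WidePullback.lift_π]

variable (n : ℕ) [HasWidePullback B (fun _ : Fin (n + 1) => X) (fun _ => f)]
  [HasWidePullback B (fun _ : Fin (n + 1 + 1) => X) (fun _ => f)]

/-- the map `X ×_B W_n ⟶ W_{n+1}` -/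
noncomputable def wSuccInv :
    pullback f (WidePullback.base (fun _ : Fin (n + 1) => f)) ⟶ Wn f (n + 1) :=
  WidePullback.lift (pullback.fst _ _ ≫ f)
    (fun i => Fin.cases
      (motive := fun _ => pullback f (WidePullback.base (fun _ : Fin (n + 1) => f)) ⟶ X)
      (pullback.fst _ _)
      (fun k => pullback.snd _ _ ≫ WidePullback.π (fun _ : Fin (n + 1) => f) k) i)
    (by
      intro i
      refine Fin.cases ?_ (fun k => ?_) i
      · rfl
      · simp only [Fin.cases_succ, Category.assoc, WidePullback.π_arrow]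
        exact pullback.condition.symm)

lemma wSuccInv_π_zero :
    wSuccInv f n ≫ WidePullback.π (fun _ : Fin (n + 1 + 1) => f) 0 = pullback.fst _ _ := by
  unfold wSuccInv
  rw [WidePullback.lift_π]
  rfl

lemma wSuccInv_π_succ (k : Fin (n + 1)) :
    wSuccInv f n ≫ WidePullback.π (fun _ : Fin (n + 1 + 1) => f) k.succ =
      pullback.snd _ _ ≫ WidePullback.π (fun _ : Fin (n + 1) => f) k := by
  unfold wSuccInv
  rw [WidePullback.lift_π]
  rfl

lemma wSuccInv_base :
    wSuccInv f n ≫ WidePullback.base (fun _ : Fin (n + 1 + 1) => f) = pullback.fst _ _ ≫ f := by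
  unfold wSuccInv
  rw [WidePullback.lift_base]

/-- the map `W_{n+1} ⟶ X ×_B W_n` -/
noncomputable def wSuccHom :
    Wn f (n + 1) ⟶ pullback f (WidePullback.base (fun _ : Fin (n + 1) => f)) :=
  pullback.lift (WidePullback.π (fun _ : Fin (n + 1 + 1) => f) 0)
    (WidePullback.lift (WidePullback.base (fun _ : Fin (n + 1 + 1) => f))
      (fun k => WidePullback.π (fun _ : Fin (n + 1 + 1) => f) k.succ)
      (fun k => WidePullback.π_arrow _ _))
    (by rw [WidePullback.π_arrow, WidePullback.lift_base])

/-- `W_{n+1} ≅ X ×_B W_n` -/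
noncomputable def wSucc :
    Wn f (n + 1) ≅ pullback f (WidePullback.base (fun _ : Fin (n + 1) => f)) where
  hom := wSuccHom f n
  inv := wSuccInv f n
  hom_inv_id := by
    apply WidePullback.hom_ext
    · intro j
      refine Fin.cases ?_ (fun k => ?_) j
      · rw [Category.assoc, wSuccInv_π_zero, Category.id_comp]
        exact pullback.lift_fst _ _ _
      · rw [Category.assoc, wSuccInv_π_succ, Category.id_comp]
        unfold wSuccHom
        rw [pullback.lift_snd_assoc, WidePullback.lift_π]
    · rw [Category.assoc, wSuccInv_base, Category.id_comp]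
      unfold wSuccHom
      rw [pullback.lift_fst_assoc, WidePullback.π_arrow]
  inv_hom_id := by
    apply pullback.hom_ext
    · rw [Category.assoc, Category.id_comp]
      unfold wSuccHom
      rw [pullback.lift_fst, wSuccInv_π_zero]
    · rw [Category.assoc, Category.id_comp]
      unfold wSuccHom
      rw [pullback.lift_snd]
      apply WidePullback.hom_ext
      · intro k
        rw [Category.assoc, WidePullback.lift_π, wSuccInv_π_succ]
      · rw [Category.assoc, WidePullback.lift_base, wSuccInv_base]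
        exact pullback.condition

end WidePb

variable {C : Type u} [SmallCategory C] {J : GrothendieckTopology C}

/-- finite coproducts of members of `S`, up to isomorphism -/
def FinPlus (S : Set (Sheaf J (Type u))) (X : Sheaf J (Type u)) : Prop :=
  ∃ (A : Type u) (_ : Finite A) (L : A → Sheaf J (Type u)), (∀ a, L a ∈ S) ∧ Nonempty (X ≅ ∐ L)

variable {S : Set (Sheaf J (Type u))}

lemma finPlus_of_iso {X Y : Sheaf J (Type u)} (e : X ≅ Y) (h : FinPlus S X) : FinPlus S Y := by
  obtain ⟨A, hA, L, hL, ⟨e'⟩⟩ := h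
  exact ⟨A, hA, L, hL, ⟨e.symm ≪≫ e'⟩⟩

/-- fibre products over a member of `S` of finite coproducts of members of `S` -/
theorem finPlus_pullback (hpb : ToposFin.ClosedUnderPullbacks S) {K X Y : Sheaf J (Type u)}
    (hK : K ∈ S) (hX : FinPlus S X) (hY : FinPlus S Y) (x : X ⟶ K) (y : Y ⟶ K) :
    FinPlus S (pullback x y) := by
  obtain ⟨A, hA, L, hL, ⟨e₁⟩⟩ := hX
  obtain ⟨A', hA', L', hL', ⟨e₂⟩⟩ := hY
  haveI := hA
  haveI := hA'
  let f : ∀ a, L a ⟶ K := fun a => Sigma.ι L a ≫ e₁.inv ≫ x
  let g : ∀ b, L' b ⟶ K := fun b => Sigma.ι L' b ≫ e₂.inv ≫ y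
  have hf : Sigma.desc f = e₁.inv ≫ x := by
    apply Sigma.hom_ext
    intro a
    rw [Sigma.ι_desc]
  have hg : Sigma.desc g = e₂.inv ≫ y := by
    apply Sigma.hom_ext
    intro b
    rw [Sigma.ι_desc]
  have h1 := FinitaryPreExtensive.isPullback_sigmaDesc f g
  have h2 : IsPullback (pullback.fst x y ≫ e₁.hom) (pullback.snd x y ≫ e₂.hom)
      (Sigma.desc f) (Sigma.desc g) := by
    rw [hf, hg]
    refine IsPullback.of_iso (IsPullback.of_hasPullback x y) (Iso.refl _) e₁ e₂ (Iso.refl _)
      ?_ ?_ ?_ ?_
    · simp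
    · simp
    · simp
    · simp
  let e : pullback x y ≅ ∐ fun p : A × A' => pullback (f p.1) (g p.2) :=
    h2.isoIsPullback _ _ h1
  have hP : ∀ p : A × A', ∃ P : Sheaf J (Type u), P ∈ S ∧
      Nonempty (pullback (f p.1) (g p.2) ≅ P) := fun p => by
    obtain ⟨P, p₁, p₂, hP, H⟩ := hpb (f p.1) (g p.2) (hL p.1) (hL' p.2) hK
    exact ⟨P, hP, ⟨H.isoPullback.symm⟩⟩
  choose P hPS hPiso using hP
  exact ⟨A × A', inferInstance, P, hPS, ⟨e ≪≫ Sigma.mapIso (fun p => (hPiso p).some)⟩⟩

/-- the terms of the Čech nerve of a map from a finite coproduct of members of `S` to a member of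
`S` are finite coproducts of members of `S` -/
theorem finPlus_nerve (hpb : ToposFin.ClosedUnderPullbacks S) {K X : Sheaf J (Type u)}
    (hK : K ∈ S) (hX : FinPlus S X) (f : X ⟶ K) (n : ℕ) :
    FinPlus S ((Arrow.mk f).cechNerve.obj (op ⦋n⦌)) := by
  show FinPlus S (Wn f n)
  induction n with
  | zero => exact finPlus_of_iso (wZero f).symm hX
  | succ n ih =>
    exact finPlus_of_iso (wSucc f n).symm (finPlus_pullback hpb hK hX ih f _)

/-- finite coproducts of members of a generating set of quasi-compact objects stable under fibre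
products are coherent -/
theorem isCoherent_of_finPlus (hqc : ∀ K ∈ S, ToposFin.IsQC K) (hgen : ToposFin.IsGenerating S)
    (hpb : ToposFin.ClosedUnderPullbacks S) {X : Sheaf J (Type u)} (hX : FinPlus S X) :
    ToposFin.IsCoherent X := by
  obtain ⟨A, hA, L, hL, ⟨e⟩⟩ := hX
  haveI := hA
  have h := isCoherent_sigma_finite L (fun a => isCoherent_of_mem hqc hgen hpb (hL a))
  exact ⟨isQC_of_iso e.symm h.1, isQS_of_iso J e.symm h.2⟩

/-- every epimorphism onto a quasi-compact object is refined by a finite coproduct of members of a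
generating set -/
theorem exists_refinement (hgen : ToposFin.IsGenerating S) {K E : Sheaf J (Type u)}
    (hK : ToposFin.IsQC K) (e : E ⟶ K) [Epi e] :
    ∃ (X : Sheaf J (Type u)) (g : X ⟶ E), FinPlus S X ∧ Epi (g ≫ e) := by
  obtain ⟨ι, F, π, hF, hπ⟩ := hgen E
  have hje : JE (fun i => π i ≫ e) := by
    intro Z a b hab
    rw [← cancel_epi e]
    apply hπ
    intro i
    have := hab i
    rwa [Category.assoc, Category.assoc] at this
  obtain ⟨s, hs⟩ := (isQC_iff K).1 hK ι F (fun i => π i ≫ e) hje
  refine ⟨∐ fun i : s => F i, Sigma.desc (fun i : s => π i),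
    ⟨s, inferInstance, fun i => F i, fun i => hF i, ⟨Iso.refl _⟩⟩, ?_⟩
  have h1 : Sigma.desc (fun i : s => π i) ≫ e = Sigma.desc (fun i : s => π i ≫ e) := by
    apply Sigma.hom_ext
    intro i
    rw [Sigma.ι_desc_assoc, Sigma.ι_desc]
  rw [h1]
  exact (epi_sigmaDesc_iff _).2 hs

section ExtAdd

open Abelian Groth.Agent.Lib.CompactBB

variable {𝒜 : Type*} [Category 𝒜] [Abelian 𝒜] [HasExt.{w} 𝒜]

/-- `Ext`-vanishing out of a finite coproduct -/
lemma subsingleton_ext_of_cofan {A : Type*} [Finite A] {Y : A → 𝒜} (c : Cofan Y)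
    (hc : IsColimit c) (F : 𝒜) (i : ℕ) (h : ∀ a, Subsingleton (Ext.{w} (Y a) F i)) :
    Subsingleton (Ext.{w} c.pt F i) := by
  classical
  cases nonempty_fintype A
  have hid : 𝟙 c.pt = idem hc Finset.univ := by
    apply Cofan.IsColimit.hom_ext hc
    intro b
    rw [Category.comp_id, inj_idem hc (Finset.mem_univ b)]
  refine ⟨fun x y => ?_⟩
  have key : ∀ z : Ext.{w} c.pt F i, z = 0 := by
    intro z
    let Φ : (c.pt ⟶ c.pt) →+ Ext.{w} c.pt F i :=
      AddMonoidHom.mk' (fun g => (Ext.mk₀ g).comp z (zero_add i)) (by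
        intro g g'
        rw [Ext.mk₀_add, Ext.add_comp])
    have h1 : Φ (𝟙 c.pt) = z := by
      show (Ext.mk₀ (𝟙 c.pt)).comp z (zero_add i) = z
      rw [Ext.mk₀_id_comp]
    have h2 : Φ (idem hc Finset.univ) = 0 := by
      unfold idem
      rw [map_sum]
      apply Finset.sum_eq_zero
      intro a _
      show (Ext.mk₀ (pr hc a ≫ c.inj a)).comp z (zero_add i) = 0
      rw [← Ext.mk₀_comp_mk₀, Ext.comp_assoc_of_second_deg_zero]
      have h3 : (Ext.mk₀ (c.inj a)).comp z (zero_add i) = 0 := (h a).elim _ _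
      rw [h3, Ext.comp_zero]
    rw [← h1, hid, h2]
  rw [key x, key y]

end ExtAdd

open Abelian in
/-- `Ext`-vanishing out of free abelian sheaves passes from `S` to finite coproducts -/
theorem subsingleton_ext_of_finPlus (F : Sheaf J AddCommGrpCat.{u}) (i : ℕ)
    (h : ∀ L ∈ S, Subsingleton (Ext.{u} ((G (J := J)).obj L) F i))
    {X : Sheaf J (Type u)} (hX : FinPlus S X) :
    Subsingleton (Ext.{u} ((G (J := J)).obj X) F i) := by
  obtain ⟨A, hA, L, hL, ⟨e⟩⟩ := hX
  haveI := hA
  haveI : PreservesColimitsOfSize.{u, u} (G (J := J)) :=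
    (adjG (J := J)).leftAdjoint_preservesColimits
  have hc := isColimitCofanMkObjOfIsColimit (G (J := J)) L (Sigma.ι L) (coproductIsCoproduct L)
  have h1 : Subsingleton (Ext.{u} ((G (J := J)).obj (∐ L)) F i) :=
    subsingleton_ext_of_cofan (Cofan.mk ((G (J := J)).obj (∐ L))
      (fun a => (G (J := J)).map (Sigma.ι L a))) hc F i (fun a => h _ (hL a))
  exact Groth.Agent.Lib.ExtRes.subsingleton_ext_of_iso F ((G (J := J)).mapIso e) i h1

end Groth.Agent.Lib.ToposColimH7
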