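import Mathlib
import Groth.Prelude.Def_ToposFin2
import Groth.Agent.Lib.ToposColim2_helper7
import Groth.Agent.Lib.ColimExt1_helper9
import Groth.Agent.Lib.FunctorialInjective_helper2
import Groth.Agent.Lib.ColimSite3_helper7

/-!
# Cartan's criterion and Leray's theorem relative to a generating class of a topos, and
cohomology of filtered colimits (helper7)

`S` is a generating set of quasi-compact objects of the topos of sheaves of sets on a small site,
stable under fibre products.
* `leray_S`: an abelian sheaf which is acyclic for the members of `S` is Čech-exact for the coverings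
  of members of `S` by finite coproducts of members of `S`.
* `cartan_S`: conversely.
* `cechExact_colim`, `sAcyclic_colim`: these properties pass to filtered colimits.
* `surj_inj_topos`, `preservesColimit_HK`: `H^q(K, -)` commutes with filtered colimits for `K ∈ S`.
-/

set_option backward.isDefEq.respectTransparency false
set_option backward.isDefEq.respectTransparency.types false
set_option linter.style.haveILetI false
set_option linter.unusedSectionVars false
set_option linter.unusedVariables false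
set_option autoImplicit false
set_option maxHeartbeats 1600000

universe u
open CategoryTheory Limits Opposite Simplicial AlgebraicTopology SimplicialObject Abelian

namespace Groth.Agent.Lib.ToposColimH7

open Groth.Agent.Lib.CechAcyc Groth.Agent.Lib.CechTot Groth.Agent.Lib.ToposFinH8
  Groth.Agent.Lib.CechRes Groth.Agent.Lib.ExtRes ColimExt Groth.Agent.Lib.ColimSiteH7

variable {C : Type u} [SmallCategory C] {J : GrothendieckTopology C}

/-- the first differential of the augmented Čech chain complex -/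
lemma aug_d_one_zero {K' K : Sheaf J (Type u)} (f : K' ⟶ K) :
    (aug (Lf f) (εf f)).d 1 0 =
      (G (J := J)).map (WidePullback.π (fun _ : Fin (0 + 1) => (Arrow.mk f).hom) 0) ≫
        (G (J := J)).map f := by
  rw [← Functor.map_comp]
  have : WidePullback.π (fun _ : Fin (0 + 1) => (Arrow.mk f).hom) 0 ≫ f =
      WidePullback.base (fun _ : Fin (0 + 1) => (Arrow.mk f).hom) :=
    WidePullback.π_arrow _ _
  rw [this]
  change (εf f).f 0 = _
  rw [AlternatingFaceMapComplex.ε_app_f_zero]
  change (G (J := J)).map ((Arrow.mk f).augmentedCechNerve.hom.app (op ⦋0⦌)) ≫ 𝟙 _ = _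
  rw [Category.comp_id]
  rfl

variable (S : Set (Sheaf J (Type u)))

/-- `F` is acyclic for the members of `S` -/
def SAcyclic (F : Sheaf J AddCommGrpCat.{u}) : Prop :=
  ∀ L ∈ S, ∀ p : ℕ, Subsingleton (Ext.{u} ((G (J := J)).obj L) F (p + 1))

/-- Čech-exactness of `F` for the coverings of members of `S` by finite coproducts of members -/
def CechExact (F : Sheaf J AddCommGrpCat.{u}) : Prop :=
  ∀ (K X : Sheaf J (Type u)) (f : X ⟶ K), K ∈ S → FinPlus S X → Epi f →
    ∀ (q : ℕ) (φ : (Lf f).X (q + 1) ⟶ F), (Lf f).d (q + 2) (q + 1) ≫ φ = 0 →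
      ∃ ψ : (Lf f).X q ⟶ F, (Lf f).d (q + 1) q ≫ ψ = φ

variable {S}

theorem leray_S (hpb : ToposFin.ClosedUnderPullbacks S) (F : Sheaf J AddCommGrpCat.{u})
    (hF : SAcyclic S F) : CechExact S F := by
  intro K X f hK hX hf q φ hφ
  haveI := hf
  have hN := aug_exactAt (Lf f) (εf f)
  have hXv : ∀ k i, 1 ≤ i → Subsingleton (Ext.{u} ((aug (Lf f) (εf f)).X k) F i) := by
    intro k i hi
    obtain ⟨p, rfl⟩ : ∃ p, i = p + 1 := ⟨i - 1, by omega⟩
    cases k with
    | zero => exact hF K hK p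
    | succ k =>
      exact subsingleton_ext_of_finPlus F (p + 1) (fun L hL => hF L hL p)
        (finPlus_nerve hpb hK hX f k)
  exact cech_exact (aug (Lf f) (εf f)) hN F hXv (q + 1) φ hφ

theorem cartan_S (hqc : ∀ K ∈ S, ToposFin.IsQC K) (hgen : ToposFin.IsGenerating S)
    (hpb : ToposFin.ClosedUnderPullbacks S) (F : Sheaf J AddCommGrpCat.{u})
    (hC : CechExact S F) : SAcyclic S F := by
  have main : ∀ (n : ℕ) (K : Sheaf J (Type u)), K ∈ S →
      Subsingleton (Ext.{u} ((G (J := J)).obj K) F (n + 1)) := by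
    intro n
    induction n using Nat.strong_induction_on with
    | _ n ih =>
      intro K hK
      refine subsingleton_of_forall_eq 0 fun ξ => ?_
      obtain ⟨K', f', hf', hξ⟩ := local_triv n F K ξ
      haveI := hf'
      obtain ⟨X, g, hX, hgf⟩ := exists_refinement hgen (hqc K hK) f'
      haveI := hgf
      have hξ' : (Ext.mk₀ ((G (J := J)).map (g ≫ f'))).comp ξ (zero_add (n + 1)) = 0 := by
        rw [Functor.map_comp]
        refine (Ext.mk₀_comp_mk₀_assoc _ _ ξ).symm.trans ?_
        rw [hξ, Ext.comp_zero]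
      have hN := aug_exactAt (Lf (g ≫ f')) (εf (g ≫ f'))
      refine ext_injective (aug (Lf (g ≫ f')) (εf (g ≫ f'))) hN F (n + 1) (by omega) ?_ ?_ ξ ?_
      · intro k hk i hi hin
        obtain ⟨k', rfl⟩ : ∃ k', k = k' + 1 := ⟨k - 1, by omega⟩
        obtain ⟨i', rfl⟩ : ∃ i', i = i' + 1 := ⟨i - 1, by omega⟩
        exact subsingleton_ext_of_finPlus F (i' + 1) (fun L hL => ih i' (by omega) L hL)
          (finPlus_nerve hpb hK hX (g ≫ f') k')
      · intro k hk φ hφ
        obtain ⟨q, rfl⟩ : ∃ q, k = q + 1 := ⟨k - 1, by omega⟩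
        exact hC K X (g ≫ f') hK hX inferInstance q φ hφ
      · rw [aug_d_one_zero]
        refine (Ext.mk₀_comp_mk₀_assoc _ _ ξ).symm.trans ?_
        rw [hξ', Ext.comp_zero]
  intro K hK p
  exact main p K hK

section Colim

variable {I : Type u} [SmallCategory I] [IsFiltered I]
  (D : I ⥤ Sheaf J AddCommGrpCat.{u}) (c : Cocone D) (hc : IsColimit c)

include hc in
theorem cechExact_colim (hqc : ∀ K ∈ S, ToposFin.IsQC K) (hgen : ToposFin.IsGenerating S)
    (hpb : ToposFin.ClosedUnderPullbacks S) (hD : ∀ i, CechExact S (D.obj i)) :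
    CechExact S c.pt := by
  intro K X f hK hX hf q φ hφ
  have hE := hasQCGenerators_of_genSet hqc hgen
  have hcoh : ∀ n, ToposFin.IsCoherent ((Arrow.mk f).cechNerve.obj (op ⦋n⦌)) := fun n =>
    isCoherent_of_finPlus hqc hgen hpb (finPlus_nerve hpb hK hX f n)
  obtain ⟨i, φi, hφi⟩ := homA_surj D c hc hE ((Arrow.mk f).cechNerve.obj (op ⦋q + 1⦌))
    (hcoh (q + 1)) φ
  have h0 : ((Lf f).d (q + 2) (q + 1) ≫ φi) ≫ c.ι.app i = 0 := by
    rw [Category.assoc, hφi, hφ]
  obtain ⟨j, g, hg⟩ := homA_inj D c hc ((Arrow.mk f).cechNerve.obj (op ⦋q + 2⦌))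
    (hcoh (q + 2)).1 ((Lf f).d (q + 2) (q + 1) ≫ φi) h0
  obtain ⟨ψj, hψj⟩ := hD j K X f hK hX hf q (φi ≫ D.map g) (by
    rw [← Category.assoc, hg])
  refine ⟨ψj ≫ c.ι.app j, ?_⟩
  rw [← Category.assoc, hψj, Category.assoc, c.w g, hφi]

include hc in
/-- a filtered colimit of `S`-acyclic abelian sheaves is `S`-acyclic -/
theorem sAcyclic_colim (hqc : ∀ K ∈ S, ToposFin.IsQC K) (hgen : ToposFin.IsGenerating S)
    (hpb : ToposFin.ClosedUnderPullbacks S) (hD : ∀ i, SAcyclic S (D.obj i)) :
    SAcyclic S c.pt :=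
  cartan_S hqc hgen hpb _
    (cechExact_colim D c hc hqc hgen hpb (fun i => leray_S hpb _ (hD i)))

end Colim

section Induction

variable {κ : Type u} [Preorder κ] [IsDirected κ (· ≤ ·)] [Nonempty κ]
  (hqc : ∀ K ∈ S, ToposFin.IsQC K) (hgen : ToposFin.IsGenerating S)
  (hpb : ToposFin.ClosedUnderPullbacks S)
  (Gi : Sheaf J AddCommGrpCat.{u} ⥤ Sheaf J AddCommGrpCat.{u}) (η : 𝟭 _ ⟶ Gi)
  (hGi : ∀ F, Injective (Gi.obj F) ∧ Mono (η.app F))

include hqc hgen hpb in
theorem surj_zeroT (D : κ ⥤ Sheaf J AddCommGrpCat.{u}) (c : Cocone D) (hc : IsColimit c)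
    (K : Sheaf J (Type u)) (hK : K ∈ S) : Surj ((G (J := J)).obj K) 0 D c := by
  intro y
  obtain ⟨φ, rfl⟩ := (Ext.mk₀_bijective _ _).2 y
  obtain ⟨i, φi, h⟩ := homA_surj D c hc (hasQCGenerators_of_genSet hqc hgen) K
    (isCoherent_of_mem hqc hgen hpb hK) φ
  refine ⟨i, Ext.mk₀ φi, ?_⟩
  rw [Ext.mk₀_comp_mk₀, h]

include hqc in
theorem inj_zeroT (D : κ ⥤ Sheaf J AddCommGrpCat.{u}) (c : Cocone D) (hc : IsColimit c)
    (K : Sheaf J (Type u)) (hK : K ∈ S) : Inj ((G (J := J)).obj K) 0 D c := by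
  intro i x hx
  obtain ⟨φ, rfl⟩ := (Ext.mk₀_bijective _ _).2 x
  rw [Ext.mk₀_comp_mk₀, Ext.mk₀_eq_zero_iff] at hx
  obtain ⟨j, f, hf⟩ := homA_inj D c hc K (hqc K hK) φ hx
  refine ⟨j, leOfHom f, ?_⟩
  rw [Ext.mk₀_comp_mk₀, Ext.mk₀_eq_zero_iff]
  have : f = homOfLE (leOfHom f) := Subsingleton.elim _ _
  rw [← this]
  exact hf

include hqc hgen hpb hGi in
theorem surj_inj_topos (q : ℕ) : ∀ (D : κ ⥤ Sheaf J AddCommGrpCat.{u}) (c : Cocone D)
    (_ : IsColimit c) (K : Sheaf J (Type u)) (_ : K ∈ S),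
    Surj ((G (J := J)).obj K) q D c ∧ Inj ((G (J := J)).obj K) q D c := by
  induction q with
  | zero =>
    intro D c hc K hK
    exact ⟨surj_zeroT hqc hgen hpb D c hc K hK, inj_zeroT hqc D c hc K hK⟩
  | succ q ih =>
    intro D c hc K hK
    let T := injSCG Gi η D
    have hT : T.ShortExact := injSCG_shortExact Gi η hGi D
    let c₂ := colimit.cocone T.X₂
    have hc₂ : IsColimit c₂ := colimit.isColimit _
    let c₃ := colimit.cocone T.X₃
    have hc₃ : IsColimit c₃ := colimit.isColimit _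
    have h2a : ∀ (i : κ) (x : Ext ((G (J := J)).obj K) (T.X₂.obj i) (q + 1)), x = 0 := by
      intro i x
      haveI : Injective (T.X₂.obj i) := (hGi (D.obj i)).1
      exact Ext.eq_zero_of_injective x
    have h2' : ∀ x : Ext ((G (J := J)).obj K) c₂.pt (q + 1), x = 0 := by
      intro x
      have hacyc : SAcyclic S c₂.pt := by
        refine sAcyclic_colim T.X₂ c₂ hc₂ hqc hgen hpb ?_
        intro i L hL p
        haveI : Injective (T.X₂.obj i) := (hGi (D.obj i)).1
        exact ⟨fun a b => (Ext.eq_zero_of_injective a).trans (Ext.eq_zero_of_injective b).symm⟩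
      haveI := hacyc K hK q
      exact Subsingleton.elim _ _
    have ih₂ := ih T.X₂ c₂ hc₂ K hK
    have ih₃ := ih T.X₃ c₃ hc₃ K hK
    exact ⟨surj_succ _ q T hT (c₁ := c) hc hc₂ hc₃ h2' ih₃.1,
      inj_succ _ q T hT (c₁ := c) hc hc₂ hc₃ h2a ih₂.1 ih₃.2⟩

end Induction

/-- `H^q(K, -)` commutes with filtered colimits for `K` in a generating set of quasi-compact
objects stable under fibre products -/
theorem preservesColimit_ext_topos (hqc : ∀ K ∈ S, ToposFin.IsQC K)
    (hgen : ToposFin.IsGenerating S) (hpb : ToposFin.ClosedUnderPullbacks S)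
    (K : Sheaf J (Type u)) (hK : K ∈ S) (q : ℕ) (Λ : Type u) [SmallCategory Λ] [IsFiltered Λ] :
    PreservesColimitsOfShape Λ (Abelian.extFunctorObj ((G (J := J)).obj K) q) := by
  obtain ⟨Gi, η, hGi⟩ :=
    Groth.Agent.Lib.FunctorialInjective.exists_functorial_injective_embedding.{u}
      (A := Sheaf J AddCommGrpCat.{u})
  obtain ⟨α, _, _, _, Φ, _⟩ := IsFiltered.exists_directed Λ
  constructor
  intro F
  haveI : PreservesColimit (Φ ⋙ F) (Abelian.extFunctorObj ((G (J := J)).obj K) q) := by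
    constructor
    intro c hc
    obtain ⟨s1, s2⟩ := surj_inj_topos hqc hgen hpb Gi η hGi q (Φ ⋙ F) c hc K hK
    exact isColimit_mapCocone s1 s2
  exact preservesColimit_of_final Φ F _

end Groth.Agent.Lib.ToposColimH7
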