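import Mathlib
import Groth.Prelude.Def_ToposFin2
import Groth.Agent.Lib.ToposColim3_helper7
import Groth.Agent.Lib.ToposFin11_helper8
import Groth.Agent.Lib.SuppHZ_helper2

/-!
# Cohomology of coherent objects of an algebraic topos commutes with filtered colimits (helper7)
-/

set_option backward.isDefEq.respectTransparency false
set_option backward.isDefEq.respectTransparency.types false
set_option linter.style.haveILetI false
set_option linter.unusedSectionVars false
set_option linter.unusedVariables false
set_option autoImplicit false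
set_option maxHeartbeats 1600000

universe u
open CategoryTheory Limits Opposite Abelian

namespace Groth.Agent.Lib.ToposColimH7

open Groth.Agent.Lib.CechAcyc Groth.Agent.Lib.ToposFinH8 Groth.Agent.Lib.ModFree
  Groth.Agent.Lib.Supp

variable {C : Type u} [SmallCategory C] {J : GrothendieckTopology C}

/-- in an algebraic topos the coherent objects form a generating class of quasi-compact objects
stable under fibre products -/
theorem coh_class (hE : ToposFin.IsAlgebraic J) :
    (∀ K ∈ {K : Sheaf J (Type u) | ToposFin.IsCoherent K}, ToposFin.IsQC K) ∧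
    ToposFin.IsGenerating {K : Sheaf J (Type u) | ToposFin.IsCoherent K} ∧
    ToposFin.ClosedUnderPullbacks {K : Sheaf J (Type u) | ToposFin.IsCoherent K} := by
  have hE' := hE
  obtain ⟨S, hqc, hgen, hpb, heq⟩ := hE
  refine ⟨fun K hK => hK.1, ?_, ?_⟩
  · intro X
    obtain ⟨ι, F, π, hF, hπ⟩ := hgen X
    exact ⟨ι, F, π, fun i => isCoherent_of_mem hqc hgen hpb (hF i), hπ⟩
  · intro K L M f g hK hL hM
    refine ⟨pullback f g, pullback.fst f g, pullback.snd f g, ?_, IsPullback.of_hasPullback f g⟩
    have hf : ToposFin.IsCohHom f := ((algebraic_qs_coh hE' f).2 hM).1 hK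
    have H : IsPullback (pullback.snd f g) (pullback.fst f g) g f :=
      (IsPullback.of_hasPullback f g).flip
    have hsnd : ToposFin.IsCohHom (pullback.snd f g) :=
      ⟨isQCHom_baseChange H hf.1, isQSHom_baseChange H hf.2⟩
    exact ((algebraic_qs_coh hE' (pullback.snd f g)).2 hL).2 hsnd

theorem main3876 (hE : ToposFin.IsAlgebraic J) (K : Sheaf J (Type u))
    (hK : ToposFin.IsCoherent K) (Λ : Type u) [SmallCategory Λ] [IsFiltered Λ] (q : ℕ) :
    PreservesColimitsOfShape Λ (ToposFin.HKFunctor K q) := by
  obtain ⟨h1, h2, h3⟩ := coh_class hE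
  exact preservesColimit_ext_topos h1 h2 h3 K hK q Λ

/-- the free abelian sheaf on the final object is the constant sheaf `ℤ` -/
noncomputable def GtopIso : (G (J := J)).obj (⊤_ (Sheaf J (Type u))) ≅ cZ J :=
  (G (J := J)).mapIso (terminalIsTerminal.uniqueUpToIso isTerminalPtSheaf) ≪≫ L₂ptIso J

theorem main3877 (hE : ToposFin.IsAlgebraic J)
    (hT : ToposFin.IsCoherent (⊤_ (Sheaf J (Type u))))
    (Λ : Type u) [SmallCategory Λ] [IsFiltered Λ] (q : ℕ) :
    PreservesColimitsOfShape Λ
      (Sheaf.functorH J q : Sheaf J AddCommGrpCat.{u} ⥤ AddCommGrpCat.{u}) := by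
  haveI := main3876 hE (⊤_ (Sheaf J (Type u))) hT Λ q
  have e : ToposFin.HKFunctor (⊤_ (Sheaf J (Type u))) q ≅
      (Sheaf.functorH J q : Sheaf J AddCommGrpCat.{u} ⥤ AddCommGrpCat.{u}) :=
    (Abelian.extFunctor.{u} q).mapIso (GtopIso (J := J)).symm.op
  exact preservesColimitsOfShape_of_natIso e

end Groth.Agent.Lib.ToposColimH7
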