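import Mathlib
import Groth.Prelude.Def_ToposFin2
import Groth.Prelude.Def_CohSite
import Groth.Agent.Lib.ToposColim4_helper7
import Groth.Agent.Lib.RpushColim_helper7

/-!
# Higher direct images commute with filtered colimits (coherent case) (helper7)
-/

set_option backward.isDefEq.respectTransparency false
set_option backward.isDefEq.respectTransparency.types false
set_option linter.style.haveILetI false
set_option linter.unusedSectionVars false
set_option linter.unusedVariables false
set_option autoImplicit false
set_option maxHeartbeats 1600000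

universe u
open CategoryTheory Limits Opposite Abelian

namespace Groth.Agent.Lib.ToposColimH7

open Groth.Agent.Lib.CechAcyc Groth.Agent.Lib.RpushColim_helper7

variable {C : Type u} [SmallCategory C] (J : GrothendieckTopology C)

/-- the free abelian sheaf on the sheaf associated to a representable presheaf is the
free abelian sheaf on the representable presheaf -/
noncomputable def GepsIso (X : C) :
    (G (J := J)).obj (ToposFin.eps J X) ≅ (RpushSite.frF J).obj X :=
  (presheafToSheafCompComposeAndSheafifyIso J AddCommGrpCat.free.{u}).app (yoneda.obj X)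

/-- `H^q(ε X, -)` is Mathlib's `H^q(X, -)` -/
noncomputable def HKepsIso (X : C) (q : ℕ) :
    ToposFin.HKFunctor (ToposFin.eps J X) q ≅
      (Sheaf.cohomologyPresheafFunctor J q).flip.obj (op X) :=
  (Abelian.extFunctor.{u} q).mapIso (GepsIso J X).symm.op

theorem main3878 {D : Type u} [SmallCategory D] (K : GrothendieckTopology D)
    (hE : ToposFin.IsAlgebraic J) (w : D ⥤ C) [w.IsContinuous K J]
    (hu : ∀ V : D, ToposFin.IsCoherent (ToposFin.eps J (w.obj V)))
    (Λ : Type u) [SmallCategory Λ] [IsFiltered Λ] (q : ℕ) :
    PreservesColimitsOfShape Λ (CohSite.Rpush J K w q) := by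
  constructor
  intro F
  refine preservesColimit_Rpush J K w q F ?_
  intro V
  refine ⟨PUnit.{u + 1}, fun _ => V, fun _ => 𝟙 V, ?_, fun _ => ?_⟩
  · have h : Sieve.ofArrows (fun _ : PUnit.{u + 1} => V) (fun _ => 𝟙 V) = ⊤ := by
      rw [← Sieve.id_mem_iff_eq_top]
      exact Sieve.ofArrows_mk _ _ PUnit.unit
    rw [h]
    exact K.top_mem V
  · haveI := main3876 hE (ToposFin.eps J (w.obj V)) (hu V) Λ q
    haveI : PreservesColimitsOfShape Λ
        ((Sheaf.cohomologyPresheafFunctor J q).flip.obj (op (w.obj V))) :=
      preservesColimitsOfShape_of_natIso (HKepsIso J (w.obj V) q)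
    infer_instance

end Groth.Agent.Lib.ToposColimH7
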