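import Mathlib
import Groth.Prelude.Def_ToposFin2
import Groth.Agent.Lib.ToposColim4_helper7
import Groth.Agent.Lib.ColimExtFive_helper7
import Groth.Agent.Lib.TotMono_helper2

/-!
# Cohomology with supports in the complement of a coherent open commutes with filtered colimits
(helper7)
-/

set_option backward.isDefEq.respectTransparency false
set_option backward.isDefEq.respectTransparency.types false
set_option linter.style.haveILetI false
set_option linter.unusedSectionVars false
set_option linter.unusedVariables false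
set_option autoImplicit false
set_option maxHeartbeats 1600000

universe u
open CategoryTheory Limits Opposite Abelian

namespace Groth.Agent.Lib.ToposColimH7

open Groth.Agent.Lib.CechAcyc Groth.Agent.Lib.ToposFinH8 ColimExt Groth.Agent.Lib.ColimSiteH7
  Groth.Agent.Lib.ColimExtFiveH7

variable {C : Type u} [SmallCategory C] {J : GrothendieckTopology C}

/-- the short complex `ℤ[U] ⟶ ℤ[X] ⟶ ℤ[X]/ℤ[U]` -/
noncomputable def quotSC {U X : Sheaf J (Type u)} (t : U ⟶ X) :
    ShortComplex (Sheaf J AddCommGrpCat.{u}) :=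
  ShortComplex.mk ((G (J := J)).map t) (cokernel.π ((G (J := J)).map t)) (cokernel.condition _)

lemma quotSC_shortExact {U X : Sheaf J (Type u)} (t : U ⟶ X) [Mono t] :
    (quotSC t).ShortExact := by
  haveI : Mono ((G (J := J)).map t) := Groth.Agent.Lib.TotMono.G_map_mono t
  exact
    { exact := ShortComplex.exact_of_g_is_cokernel _ (cokernelIsCokernel _)
      mono_f := inferInstanceAs (Mono ((G (J := J)).map t))
      epi_g := inferInstanceAs (Epi (cokernel.π ((G (J := J)).map t))) }

/-- `Ext^q(ℤ[X]/ℤ[U], -)` commutes with filtered colimits for `U ⊆ X` in a generating class of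
quasi-compact objects stable under fibre products -/
theorem preservesColimit_ext_quot {S : Set (Sheaf J (Type u))}
    (hqc : ∀ K ∈ S, ToposFin.IsQC K)
    (hgen : ToposFin.IsGenerating S) (hpb : ToposFin.ClosedUnderPullbacks S)
    {U X : Sheaf J (Type u)} (hU : U ∈ S) (hX : X ∈ S) (t : U ⟶ X) [Mono t]
    (q : ℕ) (Λ : Type u) [SmallCategory Λ] [IsFiltered Λ] :
    PreservesColimitsOfShape Λ
      (Abelian.extFunctorObj (cokernel ((G (J := J)).map t)) q) := by
  obtain ⟨Gi, η, hGi⟩ :=
    Groth.Agent.Lib.FunctorialInjective.exists_functorial_injective_embedding.{u}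
      (A := Sheaf J AddCommGrpCat.{u})
  obtain ⟨α, _, _, _, Φ, _⟩ := IsFiltered.exists_directed Λ
  constructor
  intro F
  haveI : PreservesColimit (Φ ⋙ F)
      (Abelian.extFunctorObj (cokernel ((G (J := J)).map t)) q) := by
    constructor
    intro c hc
    have hS := quotSC_shortExact t
    have hUq := fun n => surj_inj_topos hqc hgen hpb Gi η hGi n (Φ ⋙ F) c hc U hU
    have hXq := fun n => surj_inj_topos hqc hgen hpb Gi η hGi n (Φ ⋙ F) c hc X hX
    have s1 : Surj (quotSC t).X₃ q (Φ ⋙ F) c :=
      surj_three hS (Φ ⋙ F) c q (hXq q).1 (hUq q).2 (fun n _ => (hUq n).1)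
    have s2 : Inj (quotSC t).X₃ q (Φ ⋙ F) c :=
      inj_three hS (Φ ⋙ F) c q (hXq q).2 (fun n _ => (hXq n).1) (fun n _ => (hUq n).2)
    exact isColimit_mapCocone s1 s2
  exact preservesColimit_of_final Φ F _

theorem main3898 (hE : ToposFin.IsAlgebraic J)
    (hT : ToposFin.IsCoherent (⊤_ (Sheaf J (Type u))))
    (U : Sheaf J (Type u)) [Mono (terminal.from U)] (hU : ToposFin.IsCoherent U)
    (Λ : Type u) [SmallCategory Λ] [IsFiltered Λ] (q : ℕ) :
    PreservesColimitsOfShape Λ (ToposFin.HZFunctor U q) := by
  obtain ⟨h1, h2, h3⟩ := coh_class hE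
  exact preservesColimit_ext_quot h1 h2 h3 hU hT (terminal.from U) q Λ

end Groth.Agent.Lib.ToposColimH7
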