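import Mathlib
import Groth.Prelude.Def_SGA4c
import Groth.Prelude.Def_ToposFin2
import Groth.Agent.Lib.ToposFin14_helper8

/-!
# Locally coherent topoi: the coherent objects (helper8)
-/

set_option autoImplicit false

open CategoryTheory Limits Opposite

attribute [-instance] CategoryTheory.hasColimitsEssentiallySmallSite

namespace Groth.Agent.Lib.ToposFinH8

universe u
variable {C : Type u} [SmallCategory C] {J : GrothendieckTopology C}

/-- An epimorphism is the coequalizer of any cover of its kernel pair. -/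
noncomputable def coeqIsoOfEpi {K X L : Sheaf J (Type u)} (p : K ⟶ X) [Epi p]
    (e : L ⟶ pullback p p) [Epi e] :
    coequalizer (e ≫ pullback.fst p p) (e ≫ pullback.snd p p) ≅ X := by
  have w : (e ≫ pullback.fst p p) ≫ p = (e ≫ pullback.snd p p) ≫ p := by
    rw [Category.assoc, Category.assoc, pullback.condition]
  have h : pullback.fst p p ≫ coequalizer.π (e ≫ pullback.fst p p) (e ≫ pullback.snd p p) =
      pullback.snd p p ≫ coequalizer.π (e ≫ pullback.fst p p) (e ≫ pullback.snd p p) := by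
    rw [← cancel_epi e, ← Category.assoc, ← Category.assoc]
    exact coequalizer.condition _ _
  refine ⟨coequalizer.desc p w, (epi_desc p _ h).choose, ?_, ?_⟩
  · rw [← cancel_epi (coequalizer.π (e ≫ pullback.fst p p) (e ≫ pullback.snd p p)),
      ← Category.assoc, coequalizer.π_desc, (epi_desc p _ h).choose_spec, Category.comp_id]
  · rw [← cancel_epi p, ← Category.assoc, (epi_desc p _ h).choose_spec, coequalizer.π_desc,
      Category.comp_id]

section Gen

variable {S : Set (Sheaf J (Type u))}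

theorem exists_epi_of_mem (hgen : ToposFin.IsGenerating S)
    (hcolim : ∀ (K : Type) [SmallCategory K] [FinCategory K] (D : K ⥤ Sheaf J (Type u)),
      (∀ k, D.obj k ∈ S) → colimit D ∈ S) {X : Sheaf J (Type u)} (hX : ToposFin.IsQC X) :
    ∃ (K : Sheaf J (Type u)) (p : K ⟶ X), K ∈ S ∧ Epi p := by
  obtain ⟨κ, _, G, π, hG, hπ⟩ := exists_finite_cover_of_genSet hgen X hX
  obtain ⟨n, ⟨e⟩⟩ := Finite.exists_equiv_fin κ
  let G' : Fin n → Sheaf J (Type u) := fun k => G (e.symm k)
  let π' : ∀ k, G' k ⟶ X := fun k => π (e.symm k)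
  have hπ' : JE π' := je_reindex π e.symm e.symm.surjective hπ
  exact ⟨∐ G', Sigma.desc π', hcolim (Discrete (Fin n)) (Discrete.functor G') (fun k => hG _),
    (epi_sigmaDesc_iff π').2 hπ'⟩

theorem mem_of_isCoherent (hqc : ∀ K ∈ S, ToposFin.IsQC K)
    (hiso : ∀ ⦃K L : Sheaf J (Type u)⦄, K ∈ S → Nonempty (K ≅ L) → L ∈ S)
    (hgen : ToposFin.IsGenerating S)
    (hcolim : ∀ (K : Type) [SmallCategory K] [FinCategory K] (D : K ⥤ Sheaf J (Type u)),
      (∀ k, D.obj k ∈ S) → colimit D ∈ S) {X : Sheaf J (Type u)} (hX : ToposFin.IsCoherent X) :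
    X ∈ S := by
  obtain ⟨K, p, hK, hp⟩ := exists_epi_of_mem hgen hcolim hX.1
  have hR : ToposFin.IsQC (pullback p p) := hX.2 _ _ p p (hqc K hK) (hqc K hK)
  obtain ⟨L, e, hL, he⟩ := exists_epi_of_mem hgen hcolim hR
  have hco : coequalizer (e ≫ pullback.fst p p) (e ≫ pullback.snd p p) ∈ S :=
    hcolim WalkingParallelPair (parallelPair _ _) (by
      rintro (_ | _)
      · exact hL
      · exact hK)
  exact hiso hco ⟨coeqIsoOfEpi p e⟩

/-- SGA4 VI 2.?: (ii) ⟹ (i). -/
theorem coherent_eq_of_closed (hqc : ∀ K ∈ S, ToposFin.IsQC K)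
    (hiso : ∀ ⦃K L : Sheaf J (Type u)⦄, K ∈ S → Nonempty (K ≅ L) → L ∈ S)
    (hgen : ToposFin.IsGenerating S) (hpb : ToposFin.ClosedUnderPullbacks S)
    (hcolim : ∀ (K : Type) [SmallCategory K] [FinCategory K] (D : K ⥤ Sheaf J (Type u)),
      (∀ k, D.obj k ∈ S) → colimit D ∈ S) :
    (∀ X : Sheaf J (Type u), X ∈ S ↔ ToposFin.IsCoherent X) ∧
    (∀ X : Sheaf J (Type u), ToposFin.IsFP X → ToposFin.IsCoherent X) := by
  have h1 : ∀ X : Sheaf J (Type u), X ∈ S ↔ ToposFin.IsCoherent X := fun X =>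
    ⟨fun h => isCoherent_of_mem hqc hgen hpb h, mem_of_isCoherent hqc hiso hgen hcolim⟩
  refine ⟨h1, fun X hX => ?_⟩
  have hE : ToposFin.HasCoherentGenerators J := fun X => by
    obtain ⟨ι, G, π, hG, hπ⟩ := hgen X
    exact ⟨ι, G, π, fun i => (h1 _).1 (hG i),
      (epi_sigmaDesc_iff π).2 (fun Z a b h => hπ Z a b h)⟩
  obtain ⟨X₀, X₁, a, b, i, p, h₀, h₁, hip⟩ := exists_retract_of_isFP hE hX
  have hco : coequalizer a b ∈ S :=
    hcolim WalkingParallelPair (parallelPair a b) (by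
      rintro (_ | _)
      · exact (h1 _).2 h₁
      · exact (h1 _).2 h₀)
  exact isCoherent_of_retract i p hip ((h1 _).1 hco)

end Gen

end Groth.Agent.Lib.ToposFinH8
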