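import Mathlib
import Groth.Prelude.Def_SGA4c
import Groth.Prelude.Def_ToposFin2
import Groth.Agent.Lib.ToposFin15_helper8

/-!
# Locally coherent topoi are locally finitely presentable (helper8)
-/

set_option autoImplicit false

open CategoryTheory Limits Opposite

attribute [-instance] CategoryTheory.hasColimitsEssentiallySmallSite

namespace Groth.Agent.Lib.ToposFinH8

universe u
variable {C : Type u} [SmallCategory C] {J : GrothendieckTopology C}

attribute [local instance] Cardinal.fact_isRegular_aleph0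

theorem isFP_iff_isFinitelyPresentable (X : Sheaf J (Type u)) :
    ToposFin.IsFP X ↔ IsFinitelyPresentable.{u} X := by
  rw [isFinitelyPresentable_iff_preservesFilteredColimitsOfSize]
  constructor
  · intro h
    refine ⟨fun I _ _ => ⟨fun {D} => ?_⟩⟩
    haveI : IsIso (colimit.post D (coyoneda.obj (op X))) := (isIso_iff_bijective _).2 (h I D)
    exact preservesColimit_of_isIso_post _ D
  · intro h I _ _ D
    exact (isIso_iff_bijective _).1 inferInstance

theorem extremalEpi_of_epi {X Y : Sheaf J (Type u)} (f : X ⟶ Y) [Epi f] : ExtremalEpi f where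
  isIso {Z} p i fac _ := by
    haveI : Epi (p ≫ i) := by rw [fac]; infer_instance
    haveI : Epi i := epi_of_epi p i
    exact isIso_of_mono_of_epi i

/-- In a topos with enough coherent objects in which finitely presented objects are coherent, every
object is a small filtered colimit of coherent objects. -/
theorem exists_filtered_colimit_of_coherent (hE : ToposFin.HasCoherentGenerators J)
    (h : ∀ X : Sheaf J (Type u), ToposFin.IsFP X → ToposFin.IsCoherent X) (X : Sheaf J (Type u)) :
    ∃ (I : Type u) (_ : SmallCategory I) (_ : IsFiltered I) (D : I ⥤ Sheaf J (Type u)),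
        (∀ i, ToposFin.IsCoherent (D.obj i)) ∧ Nonempty (X ≅ colimit D) := by
  choose ιU FU πU hFU hπU using fun U : C => hasCohGen_je hE (ToposFin.eps J U)
  let G : (Σ U : C, ιU U) → Sheaf J (Type u) := fun p => FU p.1 p.2
  let P : ObjectProperty (Sheaf J (Type u)) := ObjectProperty.ofObj G
  have hS₁ : P.IsStrongGenerator := by
    apply ObjectProperty.IsStrongGenerator.mk_of_exists_extremalEpi.{u}
    intro Y
    let ι := Σ q : (Σ V : C, Y.obj.obj (op V)), ιU q.1
    let s : ι → Sheaf J (Type u) := fun i => FU i.1.1 i.2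
    have hje := je_comp _ (fun q : (Σ V : C, Y.obj.obj (op V)) => πU q.1) (je_eps_gen J Y)
      (fun q => hπU q.1)
    haveI : Epi (Sigma.desc (fun i : ι => πU i.1.1 i.2 ≫
        (Groth.Agent.Lib.ShRepH8.homEquiv J i.1.1 Y).symm i.1.2)) :=
      (epi_sigmaDesc_iff _).2 hje
    exact ⟨ι, s, fun i => ObjectProperty.ofObj_apply G ⟨i.1.1, i.2⟩, Cofan.mk (∐ s) (Sigma.ι s), coproductIsCoproduct s,
      Sigma.desc (fun i : ι => πU i.1.1 i.2 ≫
        (Groth.Agent.Lib.ShRepH8.homEquiv J i.1.1 Y).symm i.1.2), extremalEpi_of_epi _⟩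
  have hS₂ : P ≤ isCardinalPresentable (Sheaf J (Type u)) Cardinal.aleph0.{u} := by
    rintro _ ⟨p⟩
    exact (isFP_iff_isFinitelyPresentable _).1
      (isFP_of_isCoherent (hasQCGenerators_of_coherent hE) (hFU p.1 p.2))
  have hdense := hS₁.isDense_colimitsCardinalClosure_ι hS₂
  have hgen : (P.colimitsCardinalClosure Cardinal.aleph0.{u}).IsCardinalFilteredGenerator
      Cardinal.aleph0.{u} :=
    IsCardinalFilteredGenerator.of_isDense_ι _ _
      (P.colimitsCardinalClosure_le_isCardinalPresentable hS₂)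
  obtain ⟨I, hI1, hI2, ⟨p⟩⟩ := hgen.exists_colimitsOfShape X
  haveI : IsFiltered I := isFiltered_of_isCardinalFiltered I Cardinal.aleph0.{u}
  refine ⟨I, hI1, inferInstance, p.diag, fun i => ?_, ⟨?_⟩⟩
  · apply h
    rw [isFP_iff_isFinitelyPresentable]
    exact hgen.le_isCardinalPresentable _ (p.prop_diag_obj i)
  · exact IsColimit.coconePointUniqueUpToIso p.isColimit (colimit.isColimit p.diag)

/-- SGA4 VI 1.24/2.x-type: equivalent conditions on a topos with enough coherent objects. -/
theorem coherent_fp_equivalences (hE : ToposFin.HasCoherentGenerators J) :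
    ((∀ (X₀ X₁ : Sheaf J (Type u)) (a b : X₁ ⟶ X₀), ToposFin.IsCoherent X₀ →
        ToposFin.IsCoherent X₁ → ToposFin.IsCoherent (coequalizer a b)) ↔
      (∀ X : Sheaf J (Type u), ToposFin.IsFP X → ToposFin.IsCoherent X)) ∧
    ((∀ X : Sheaf J (Type u), ∃ (I : Type u) (_ : SmallCategory I) (_ : IsFiltered I)
        (D : I ⥤ Sheaf J (Type u)),
        (∀ i, ToposFin.IsCoherent (D.obj i)) ∧ Nonempty (X ≅ colimit D)) ↔
      (∀ X : Sheaf J (Type u), ToposFin.IsFP X → ToposFin.IsCoherent X)) := by
  refine ⟨⟨?_, ?_⟩, ⟨?_, ?_⟩⟩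
  · intro hco X hX
    obtain ⟨X₀, X₁, a, b, i, p, h₀, h₁, hip⟩ := exists_retract_of_isFP hE hX
    exact isCoherent_of_retract i p hip (hco X₀ X₁ a b h₀ h₁)
  · intro h X₀ X₁ a b h₀ h₁
    exact h _ (isFP_coequalizer a b (isFP_of_isCoherent (hasQCGenerators_of_coherent hE) h₀)
      (fun I _ _ D => injective_post_of_isQC h₁.1 I D))
  · intro hcol X hX
    obtain ⟨I, hI1, hI2, D, hD, ⟨e⟩⟩ := hcol X
    obtain ⟨i, a, ha⟩ := (surjective_post_iff D).1 (hX I D).2 e.hom
    exact isCoherent_of_retract a (colimit.ι D i ≫ e.inv)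
      (by rw [← Category.assoc, ha, e.hom_inv_id]) (hD i)
  · exact exists_filtered_colimit_of_coherent hE

end Groth.Agent.Lib.ToposFinH8
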