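import Mathlib
import Groth.Prelude.Def_ToposFin2
import Groth.Prelude.Def_CohCx
import Groth.Agent.Lib.ToposColim1_helper7

/-!
# Maps out of quasi-compact objects with quasi-compact refinements into filtered colimits (helper7)

If `X` is a quasi-compact sheaf of sets such that every epimorphism onto `X` is refined by an
epimorphism `ρ : K' ⟶ X` with `K' ×_X K'` quasi-compact, then every map from `X` to a filtered
colimit of sheaves of sets factors through a stage; similarly for maps from `ℤ[X]` to filtered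
colimits of abelian sheaves.  No generators are needed.
-/

set_option backward.isDefEq.respectTransparency false
set_option backward.isDefEq.respectTransparency.types false
set_option linter.style.haveILetI false
set_option linter.unusedSectionVars false
set_option linter.unusedVariables false
set_option autoImplicit false
set_option maxHeartbeats 1600000

universe u
open CategoryTheory Limits Opposite

namespace Groth.Agent.Lib.ToposRefH7

open Groth.Agent.Lib.CechAcyc Groth.Agent.Lib.CechTot Groth.Agent.Lib.ToposFinH8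
  Groth.Agent.Lib.ToposColimH7

variable {C : Type u} [SmallCategory C] {J : GrothendieckTopology C}

/-- the two notions of quasi-compact object agree -/
theorem isQC_of_isQcObject {K : Sheaf J (Type u)} (hK : CohCx.IsQcObject K) : ToposFin.IsQC K := by
  rw [isQC_iff]
  intro ι F π hπ
  have h := (je_iff_ljs π).1 hπ
  obtain ⟨t, ht⟩ := hK ι F π (fun U s => by
    obtain ⟨S, hS, h'⟩ := h U s
    exact ⟨S, hS, fun V g hg => h' g hg⟩)
  refine ⟨t, (je_iff_ljs _).2 ?_⟩
  intro U s
  obtain ⟨S, hS, h'⟩ := ht U s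
  exact ⟨S, hS, fun V g hg => h' V g hg⟩

/-- the refinement hypothesis on a quasi-compact object -/
def HasQCRef (X : Sheaf J (Type u)) : Prop :=
  ∀ (F : Sheaf J (Type u)) (g : F ⟶ X), Epi g →
    ∃ (K' : Sheaf J (Type u)) (k : K' ⟶ F), Epi (k ≫ g) ∧
      ToposFin.IsQC (pullback (k ≫ g) (k ≫ g))

theorem exists_factor_of_cover {X K' : Sheaf J (Type u)} {I : Type u} [SmallCategory I]
    [IsFiltered I] (D : I ⥤ Sheaf J (Type u)) (t : X ⟶ colimit D) (ρ : K' ⟶ X) [Epi ρ]
    (hQ : ToposFin.IsQC (pullback ρ ρ)) {k0 : I} (l : K' ⟶ D.obj k0)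
    (hl : l ≫ colimit.ι D k0 = ρ ≫ t) :
    ∃ (k1 : I) (a : X ⟶ D.obj k1), a ≫ colimit.ι D k1 = t := by
  have h' : (pullback.fst ρ ρ ≫ l) ≫ colimit.ι D k0 =
      (pullback.snd ρ ρ ≫ l) ≫ colimit.ι D k0 := by
    rw [Category.assoc, Category.assoc, hl, ← Category.assoc, ← Category.assoc, pullback.condition]
  obtain ⟨k1, χ, hχ⟩ := exists_eq_of_comp_ι_eq_of_isQC D (colimit.cocone D) (colimit.isColimit D)
    hQ _ _ h'
  obtain ⟨a, ha⟩ := epi_desc ρ (l ≫ D.map χ) (by
    rw [← Category.assoc, ← Category.assoc]; exact hχ)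
  refine ⟨k1, a, ?_⟩
  rw [← cancel_epi ρ, ← Category.assoc, ha, Category.assoc, colimit.w, hl]

theorem surjective_post_of_ref {X : Sheaf J (Type u)} (hX : ToposFin.IsQC X)
    (href : HasQCRef X) (I : Type u) [SmallCategory I] [IsFiltered I]
    (D : I ⥤ Sheaf J (Type u)) :
    Function.Surjective (colimit.post D (coyoneda.obj (op X))) := by
  classical
  intro t
  change X ⟶ colimit D at t
  have hjeι : JE (fun i => colimit.ι D i) := fun Z a b h => colimit.hom_ext h
  have hfst : JE (fun i => pullback.fst t (colimit.ι D i)) :=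
    je_pullback (fun i => colimit.ι D i) t (fun i => pullback.fst t (colimit.ι D i))
      (fun i => pullback.snd t (colimit.ι D i))
      (fun i => IsPullback.of_hasPullback t (colimit.ι D i)) hjeι
  obtain ⟨s, hs⟩ := (isQC_iff X).1 hX I (fun i => pullback t (colimit.ι D i)) _ hfst
  obtain ⟨k0, hk0⟩ := IsFiltered.sup_objs_exists s
  let φ : ∀ m : s, m.1 ⟶ k0 := fun m => (hk0 m.2).some
  let Gs : s → Sheaf J (Type u) := fun m => pullback t (colimit.ι D m.1)
  let ρ0 : ∐ Gs ⟶ X := Sigma.desc (fun m : s => pullback.fst t (colimit.ι D m.1))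
  let l0 : ∐ Gs ⟶ D.obj k0 :=
    Sigma.desc (fun m : s => pullback.snd t (colimit.ι D m.1) ≫ D.map (φ m))
  haveI : Epi ρ0 := (epi_sigmaDesc_iff _).2 hs
  have hl0 : l0 ≫ colimit.ι D k0 = ρ0 ≫ t := by
    apply Sigma.hom_ext
    intro m
    rw [Sigma.ι_desc_assoc, Sigma.ι_desc_assoc, Category.assoc, colimit.w, pullback.condition]
  obtain ⟨K', k, hk, hQ⟩ := href (∐ Gs) ρ0 inferInstance
  haveI : Epi (k ≫ ρ0) := hk
  have hl : (k ≫ l0) ≫ colimit.ι D k0 = (k ≫ ρ0) ≫ t := by
    rw [Category.assoc, hl0, Category.assoc]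
  obtain ⟨k1, a, hat⟩ := exists_factor_of_cover D t (k ≫ ρ0) hQ (k ≫ l0) hl
  exact ⟨colimit.ι (D ⋙ coyoneda.obj (op X)) k1 a, (post_ι_apply D k1 a).trans hat⟩

variable {I : Type u} [SmallCategory I] [IsFiltered I]
  (D : I ⥤ Sheaf J AddCommGrpCat.{u}) (c : Cocone D) (hc : IsColimit c)

include hc in
/-- every map from `ℤ[X]` to the colimit comes from a stage -/
theorem homA_surj_ref (X : Sheaf J (Type u))
    (hX : ToposFin.IsQC X) (href : HasQCRef X) (φ : (G (J := J)).obj X ⟶ c.pt) :
    ∃ (i : I) (φi : (G (J := J)).obj X ⟶ D.obj i), φi ≫ c.ι.app i = φ := by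
  let D' := D ⋙ Uf (J := J)
  let c' := (Uf (J := J)).mapCocone c
  have hc' : IsColimit c' := hcU D c hc
  let e : colimit D' ≅ c'.pt := (colimit.isColimit D').coconePointUniqueUpToIso hc'
  have he : ∀ i, colimit.ι D' i ≫ e.hom = c'.ι.app i := fun i =>
    (colimit.isColimit D').comp_coconePointUniqueUpToIso_hom hc' i
  let a : X ⟶ c'.pt := (adjG (J := J)).homEquiv X c.pt φ
  obtain ⟨i, b, hb⟩ := (surjective_post_iff D').1
    (surjective_post_of_ref hX href I D') (a ≫ e.inv)
  have hb' : b ≫ c'.ι.app i = a := by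
    rw [← he i, ← Category.assoc, hb, Category.assoc, e.inv_hom_id, Category.comp_id]
  refine ⟨i, ((adjG (J := J)).homEquiv X (D.obj i)).symm b, ?_⟩
  apply ((adjG (J := J)).homEquiv X c.pt).injective
  have e1 : (adjG (J := J)).homEquiv X c.pt
      (((adjG (J := J)).homEquiv X (D.obj i)).symm b ≫ c.ι.app i) =
      (adjG (J := J)).homEquiv X (D.obj i) (((adjG (J := J)).homEquiv X (D.obj i)).symm b) ≫
        (Uf (J := J)).map (c.ι.app i) :=
    Adjunction.homEquiv_naturality_right _ _ _
  rw [e1, Equiv.apply_symm_apply]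
  exact hb'

end Groth.Agent.Lib.ToposRefH7
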