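import Mathlib
import Groth.Prelude.Def_ToposFin2
import Groth.Agent.Lib.ToposRef1_helper7
import Groth.Agent.Lib.ToposColim3_helper7

/-!
# Cartan–Leray and filtered colimits relative to a class of quasi-compact objects with refinements
(helper7)

`P` is a class of quasi-compact sheaves of sets, stable under fibre products and isomorphisms, such
that every epimorphism onto a member of `P` is refined by a member of `P` (`RefClass P`).  No
generation hypothesis.  Then `H^q(K, -)` commutes with filtered colimits for `K ∈ P`.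
-/

set_option backward.isDefEq.respectTransparency false
set_option backward.isDefEq.respectTransparency.types false
set_option linter.style.haveILetI false
set_option linter.unusedSectionVars false
set_option linter.unusedVariables false
set_option autoImplicit false
set_option maxHeartbeats 1600000

universe u
open CategoryTheory Limits Opposite Simplicial AlgebraicTopology SimplicialObject Abelian

namespace Groth.Agent.Lib.ToposRefH7

open Groth.Agent.Lib.CechAcyc Groth.Agent.Lib.CechTot Groth.Agent.Lib.ToposFinH8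
  Groth.Agent.Lib.CechRes Groth.Agent.Lib.ExtRes ColimExt Groth.Agent.Lib.ColimSiteH7
  Groth.Agent.Lib.ToposColimH7

variable {C : Type u} [SmallCategory C] {J : GrothendieckTopology C}

/-- a class of quasi-compact objects stable under fibre products, with refinements -/
structure RefClass (P : Set (Sheaf J (Type u))) : Prop where
  qc : ∀ K ∈ P, ToposFin.IsQC K
  pb : ∀ {K X Y : Sheaf J (Type u)} (x : X ⟶ K) (y : Y ⟶ K), K ∈ P → X ∈ P → Y ∈ P →
    pullback x y ∈ P
  iso : ∀ {X Y : Sheaf J (Type u)} (e : X ≅ Y), X ∈ P → Y ∈ P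
  ref : ∀ K ∈ P, ∀ (F : Sheaf J (Type u)) (g : F ⟶ K), Epi g →
    ∃ X ∈ P, ∃ k : X ⟶ F, Epi (k ≫ g)

variable {P : Set (Sheaf J (Type u))}

theorem RefClass.nerve_mem (h : RefClass P) {K X : Sheaf J (Type u)} (hK : K ∈ P) (hX : X ∈ P)
    (f : X ⟶ K) (n : ℕ) : (Arrow.mk f).cechNerve.obj (op ⦋n⦌) ∈ P := by
  show Wn f n ∈ P
  induction n with
  | zero => exact h.iso (wZero f).symm hX
  | succ n ih => exact h.iso (wSucc f n).symm (h.pb f _ hK hX ih)

theorem RefClass.hasQCRef (h : RefClass P) {X : Sheaf J (Type u)} (hX : X ∈ P) : HasQCRef X := by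
  intro F g hg
  obtain ⟨X', hX', k, hk⟩ := h.ref X hX F g hg
  exact ⟨X', k, hk, h.qc _ (h.pb (k ≫ g) (k ≫ g) hX hX' hX')⟩

variable (P) in
/-- Čech-exactness of `F` for the coverings of members of `P` by members of `P` -/
def CechExactR (F : Sheaf J AddCommGrpCat.{u}) : Prop :=
  ∀ (K X : Sheaf J (Type u)) (f : X ⟶ K), K ∈ P → X ∈ P → Epi f →
    ∀ (q : ℕ) (φ : (Lf f).X (q + 1) ⟶ F), (Lf f).d (q + 2) (q + 1) ≫ φ = 0 →
      ∃ ψ : (Lf f).X q ⟶ F, (Lf f).d (q + 1) q ≫ ψ = φ

theorem leray_R (h : RefClass P) (F : Sheaf J AddCommGrpCat.{u})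
    (hF : SAcyclic P F) : CechExactR P F := by
  intro K X f hK hX hf q φ hφ
  haveI := hf
  have hN := aug_exactAt (Lf f) (εf f)
  have hXv : ∀ k i, 1 ≤ i → Subsingleton (Ext.{u} ((aug (Lf f) (εf f)).X k) F i) := by
    intro k i hi
    obtain ⟨p, rfl⟩ : ∃ p, i = p + 1 := ⟨i - 1, by omega⟩
    cases k with
    | zero => exact hF K hK p
    | succ k => exact hF _ (h.nerve_mem hK hX f k) p
  exact cech_exact (aug (Lf f) (εf f)) hN F hXv (q + 1) φ hφ

theorem cartan_R (h : RefClass P) (F : Sheaf J AddCommGrpCat.{u})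
    (hC : CechExactR P F) : SAcyclic P F := by
  have main : ∀ (n : ℕ) (K : Sheaf J (Type u)), K ∈ P →
      Subsingleton (Ext.{u} ((G (J := J)).obj K) F (n + 1)) := by
    intro n
    induction n using Nat.strong_induction_on with
    | _ n ih =>
      intro K hK
      refine subsingleton_of_forall_eq 0 fun ξ => ?_
      obtain ⟨K', f', hf', hξ⟩ := local_triv n F K ξ
      haveI := hf'
      obtain ⟨X, hX, g, hgf⟩ := h.ref K hK K' f' hf'
      haveI := hgf
      have hξ' : (Ext.mk₀ ((G (J := J)).map (g ≫ f'))).comp ξ (zero_add (n + 1)) = 0 := by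
        rw [Functor.map_comp]
        refine (Ext.mk₀_comp_mk₀_assoc _ _ ξ).symm.trans ?_
        rw [hξ, Ext.comp_zero]
      have hN := aug_exactAt (Lf (g ≫ f')) (εf (g ≫ f'))
      refine ext_injective (aug (Lf (g ≫ f')) (εf (g ≫ f'))) hN F (n + 1) (by omega) ?_ ?_ ξ ?_
      · intro k hk i hi hin
        obtain ⟨k', rfl⟩ : ∃ k', k = k' + 1 := ⟨k - 1, by omega⟩
        obtain ⟨i', rfl⟩ : ∃ i', i = i' + 1 := ⟨i - 1, by omega⟩
        exact ih i' (by omega) _ (h.nerve_mem hK hX (g ≫ f') k')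
      · intro k hk φ hφ
        obtain ⟨q, rfl⟩ : ∃ q, k = q + 1 := ⟨k - 1, by omega⟩
        exact hC K X (g ≫ f') hK hX inferInstance q φ hφ
      · rw [aug_d_one_zero]
        refine (Ext.mk₀_comp_mk₀_assoc _ _ ξ).symm.trans ?_
        rw [hξ', Ext.comp_zero]
  intro K hK p
  exact main p K hK

section Colim

variable {I : Type u} [SmallCategory I] [IsFiltered I]
  (D : I ⥤ Sheaf J AddCommGrpCat.{u}) (c : Cocone D) (hc : IsColimit c)

include hc in
theorem cechExactR_colim (h : RefClass P) (hD : ∀ i, CechExactR P (D.obj i)) :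
    CechExactR P c.pt := by
  intro K X f hK hX hf q φ hφ
  have hmem : ∀ n, (Arrow.mk f).cechNerve.obj (op ⦋n⦌) ∈ P := fun n => h.nerve_mem hK hX f n
  obtain ⟨i, φi, hφi⟩ := homA_surj_ref D c hc ((Arrow.mk f).cechNerve.obj (op ⦋q + 1⦌))
    (h.qc _ (hmem (q + 1))) (h.hasQCRef (hmem (q + 1))) φ
  have h0 : ((Lf f).d (q + 2) (q + 1) ≫ φi) ≫ c.ι.app i = 0 := by
    rw [Category.assoc, hφi, hφ]
  obtain ⟨j, g, hg⟩ := homA_inj D c hc ((Arrow.mk f).cechNerve.obj (op ⦋q + 2⦌))
    (h.qc _ (hmem (q + 2))) ((Lf f).d (q + 2) (q + 1) ≫ φi) h0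
  obtain ⟨ψj, hψj⟩ := hD j K X f hK hX hf q (φi ≫ D.map g) (by
    rw [← Category.assoc, hg])
  refine ⟨ψj ≫ c.ι.app j, ?_⟩
  rw [← Category.assoc, hψj, Category.assoc, c.w g, hφi]

include hc in
/-- a filtered colimit of `P`-acyclic abelian sheaves is `P`-acyclic -/
theorem sAcyclicR_colim (h : RefClass P) (hD : ∀ i, SAcyclic P (D.obj i)) :
    SAcyclic P c.pt :=
  cartan_R h _ (cechExactR_colim D c hc h (fun i => leray_R h _ (hD i)))

end Colim

section Induction

variable {κ : Type u} [Preorder κ] [IsDirected κ (· ≤ ·)] [Nonempty κ]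
  (h : RefClass P)
  (Gi : Sheaf J AddCommGrpCat.{u} ⥤ Sheaf J AddCommGrpCat.{u}) (η : 𝟭 _ ⟶ Gi)
  (hGi : ∀ F, Injective (Gi.obj F) ∧ Mono (η.app F))

include h in
theorem surj_zeroR (D : κ ⥤ Sheaf J AddCommGrpCat.{u}) (c : Cocone D) (hc : IsColimit c)
    (K : Sheaf J (Type u)) (hK : K ∈ P) : Surj ((G (J := J)).obj K) 0 D c := by
  intro y
  obtain ⟨φ, rfl⟩ := (Ext.mk₀_bijective _ _).2 y
  obtain ⟨i, φi, hh⟩ := homA_surj_ref D c hc K (h.qc K hK) (h.hasQCRef hK) φ
  refine ⟨i, Ext.mk₀ φi, ?_⟩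
  rw [Ext.mk₀_comp_mk₀, hh]

include h hGi in
theorem surj_inj_ref (q : ℕ) : ∀ (D : κ ⥤ Sheaf J AddCommGrpCat.{u}) (c : Cocone D)
    (_ : IsColimit c) (K : Sheaf J (Type u)) (_ : K ∈ P),
    Surj ((G (J := J)).obj K) q D c ∧ Inj ((G (J := J)).obj K) q D c := by
  induction q with
  | zero =>
    intro D c hc K hK
    exact ⟨surj_zeroR h D c hc K hK, inj_zeroT h.qc D c hc K hK⟩
  | succ q ih =>
    intro D c hc K hK
    let T := injSCG Gi η D
    have hT : T.ShortExact := injSCG_shortExact Gi η hGi D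
    let c₂ := colimit.cocone T.X₂
    have hc₂ : IsColimit c₂ := colimit.isColimit _
    let c₃ := colimit.cocone T.X₃
    have hc₃ : IsColimit c₃ := colimit.isColimit _
    have h2a : ∀ (i : κ) (x : Ext ((G (J := J)).obj K) (T.X₂.obj i) (q + 1)), x = 0 := by
      intro i x
      haveI : Injective (T.X₂.obj i) := (hGi (D.obj i)).1
      exact Ext.eq_zero_of_injective x
    have h2' : ∀ x : Ext ((G (J := J)).obj K) c₂.pt (q + 1), x = 0 := by
      intro x
      have hacyc : SAcyclic P c₂.pt := by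
        refine sAcyclicR_colim T.X₂ c₂ hc₂ h ?_
        intro i L hL p
        haveI : Injective (T.X₂.obj i) := (hGi (D.obj i)).1
        exact ⟨fun a b => (Ext.eq_zero_of_injective a).trans (Ext.eq_zero_of_injective b).symm⟩
      haveI := hacyc K hK q
      exact Subsingleton.elim _ _
    have ih₂ := ih T.X₂ c₂ hc₂ K hK
    have ih₃ := ih T.X₃ c₃ hc₃ K hK
    exact ⟨surj_succ _ q T hT (c₁ := c) hc hc₂ hc₃ h2' ih₃.1,
      inj_succ _ q T hT (c₁ := c) hc hc₂ hc₃ h2a ih₂.1 ih₃.2⟩

end Induction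

/-- `H^q(K, -)` commutes with filtered colimits for `K` in a class of quasi-compact objects stable
under fibre products and with refinements -/
theorem preservesColimit_ext_ref (h : RefClass P)
    (K : Sheaf J (Type u)) (hK : K ∈ P) (q : ℕ) (Λ : Type u) [SmallCategory Λ] [IsFiltered Λ] :
    PreservesColimitsOfShape Λ (Abelian.extFunctorObj ((G (J := J)).obj K) q) := by
  obtain ⟨Gi, η, hGi⟩ :=
    Groth.Agent.Lib.FunctorialInjective.exists_functorial_injective_embedding.{u}
      (A := Sheaf J AddCommGrpCat.{u})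
  obtain ⟨α, _, _, _, Φ, _⟩ := IsFiltered.exists_directed Λ
  constructor
  intro F
  haveI : PreservesColimit (Φ ⋙ F) (Abelian.extFunctorObj ((G (J := J)).obj K) q) := by
    constructor
    intro c hc
    obtain ⟨s1, s2⟩ := surj_inj_ref h Gi η hGi q (Φ ⋙ F) c hc K hK
    exact isColimit_mapCocone s1 s2
  exact preservesColimit_of_final Φ F _

end Groth.Agent.Lib.ToposRefH7
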