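import Mathlib
import Groth.Prelude.Def_ToposFin2
import Groth.Prelude.Def_CohCx
import Groth.Agent.Lib.ToposRef2_helper7
import Groth.Agent.Lib.ToposColim4_helper7

/-!
# The class of `S`-coherent objects attached to a class `S` of quasi-compact objects with
refinements, coverings of products and of equalizers (helper7)

Application: cohomology commutes with filtered colimits on such a topos (Stacks, Tag 0739-type
statement), without hypercoverings.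
-/

set_option backward.isDefEq.respectTransparency false
set_option backward.isDefEq.respectTransparency.types false
set_option linter.style.haveILetI false
set_option linter.unusedSectionVars false
set_option linter.unusedVariables false
set_option autoImplicit false
set_option maxHeartbeats 1600000

universe u
open CategoryTheory Limits Opposite Abelian

namespace Groth.Agent.Lib.ToposRefH7

open Groth.Agent.Lib.CechAcyc Groth.Agent.Lib.CechTot Groth.Agent.Lib.ToposFinH8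
  Groth.Agent.Lib.ToposColimH7

section Gen

variable {𝒞 : Type*} [Category 𝒞]

lemma exists_pb_lift {W X Y Z : 𝒞} {f : X ⟶ Z} {g : Y ⟶ Z} [HasPullback f g] (a : W ⟶ X)
    (b : W ⟶ Y) (h : a ≫ f = b ≫ g) :
    ∃ l : W ⟶ pullback f g, l ≫ pullback.fst f g = a ∧ l ≫ pullback.snd f g = b :=
  ⟨pullback.lift a b h, pullback.lift_fst _ _ _, pullback.lift_snd _ _ _⟩

lemma exists_eq_lift {W X Y : 𝒞} {f g : X ⟶ Y} [HasEqualizer f g] (k : W ⟶ X)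
    (h : k ≫ f = k ≫ g) : ∃ l : W ⟶ equalizer f g, l ≫ equalizer.ι f g = k :=
  ⟨equalizer.lift k h, equalizer.lift_ι _ _⟩

/-- generalized-element criterion for epimorphisms -/
lemma epi_of_lift {A B T : 𝒞} (ψ : A ⟶ B) (e : T ⟶ B) [Epi e] (z : T ⟶ A)
    (h : z ≫ ψ = e) : Epi ψ := by
  haveI : Epi (z ≫ ψ) := by rw [h]; infer_instance
  exact epi_of_epi z ψ

end Gen

variable {C : Type u} [SmallCategory C] {J : GrothendieckTopology C}

/-- cover of a generalized element along an epimorphism -/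
lemma exists_cover {T B E : Sheaf J (Type u)} (t : T ⟶ B) (p : E ⟶ B) [Epi p] :
    ∃ (T' : Sheaf J (Type u)) (e : T' ⟶ T) (k : T' ⟶ E), Epi e ∧ k ≫ p = e ≫ t :=
  ⟨pullback t p, pullback.fst t p, pullback.snd t p, epi_pullback_fst t p,
    pullback.condition.symm⟩

variable (S : Set (Sheaf J (Type u)))

/-- quotients of members of `S` -/
def Q (X : Sheaf J (Type u)) : Prop := ∃ K ∈ S, ∃ p : K ⟶ X, Epi p

/-- the class of `S`-coherent objects -/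
def Cc : Set (Sheaf J (Type u)) :=
  {X | Q S X ∧ ∀ K ∈ S, ∀ K' ∈ S, ∀ (a : K ⟶ X) (b : K' ⟶ X), Q S (pullback a b)}

variable {S}

lemma Q_of_epi {X Y : Sheaf J (Type u)} (e : X ⟶ Y) [Epi e] (h : Q S X) : Q S Y := by
  obtain ⟨K, hK, p, hp⟩ := h
  haveI := hp
  exact ⟨K, hK, p ≫ e, epi_comp p e⟩

section

variable
  (h2 : ∀ (F : Sheaf J (Type u)) (K : Sheaf J (Type u)) (g : F ⟶ K), K ∈ S → Epi g →
    ∃ (K' : Sheaf J (Type u)) (k : K' ⟶ F), K' ∈ S ∧ Epi (k ≫ g))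
  (h3 : ∀ K ∈ S, ∀ K' ∈ S, ∃ (K'' : Sheaf J (Type u)) (g : K'' ⟶ K ⨯ K'), K'' ∈ S ∧ Epi g)
  (h4 : ∀ K ∈ S, ∀ K' ∈ S, ∀ (a b : K ⟶ K'),
    ∃ (K'' : Sheaf J (Type u)) (g : K'' ⟶ equalizer a b), K'' ∈ S ∧ Epi g)

include h2 in
lemma Q_ref {X : Sheaf J (Type u)} (hX : Q S X) (F : Sheaf J (Type u)) (g : F ⟶ X) [Epi g] :
    ∃ K' ∈ S, ∃ k : K' ⟶ F, Epi (k ≫ g) := by
  obtain ⟨K, hK, p, hp⟩ := hX
  haveI := hp
  obtain ⟨T', e, k0, he, hk0⟩ := exists_cover p g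
  haveI := he
  obtain ⟨K', k', hK', hk'⟩ := h2 T' K e hK he
  haveI := hk'
  refine ⟨K', hK', k' ≫ k0, ?_⟩
  have e1 : (k' ≫ k0) ≫ g = (k' ≫ e) ≫ p := by
    rw [Category.assoc, Category.assoc, hk0]
  rw [e1]
  exact epi_comp _ _

include h3 h4 in
lemma Q_pb_S {K K' K0 : Sheaf J (Type u)} (hK : K ∈ S) (hK' : K' ∈ S) (hK0 : K0 ∈ S)
    (a : K ⟶ K0) (b : K' ⟶ K0) : Q S (pullback a b) := by
  obtain ⟨K'', g, hK'', hg⟩ := h3 K hK K' hK'
  haveI := hg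
  obtain ⟨K3, m, hK3, hm⟩ := h4 K'' hK'' K0 hK0 (g ≫ prod.fst ≫ a) (g ≫ prod.snd ≫ b)
  haveI := hm
  obtain ⟨ψ, hψ1, hψ2⟩ := exists_pb_lift (f := a) (g := b)
    (equalizer.ι (g ≫ prod.fst ≫ a) (g ≫ prod.snd ≫ b) ≫ g ≫ prod.fst)
    (equalizer.ι (g ≫ prod.fst ≫ a) (g ≫ prod.snd ≫ b) ≫ g ≫ prod.snd) (by
      simp only [Category.assoc]
      exact equalizer.condition _ _)
  obtain ⟨T', e, z, he, hz⟩ := exists_cover
    (prod.lift (pullback.fst a b) (pullback.snd a b)) g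
  haveI := he
  have hz1 : z ≫ g ≫ prod.fst = e ≫ pullback.fst a b := by
    rw [← Category.assoc, hz, Category.assoc, prod.lift_fst]
  have hz2 : z ≫ g ≫ prod.snd = e ≫ pullback.snd a b := by
    rw [← Category.assoc, hz, Category.assoc, prod.lift_snd]
  have hzeq : z ≫ (g ≫ prod.fst ≫ a) = z ≫ (g ≫ prod.snd ≫ b) := by
    calc z ≫ (g ≫ prod.fst ≫ a) = (z ≫ g ≫ prod.fst) ≫ a := by simp only [Category.assoc]
      _ = (e ≫ pullback.fst a b) ≫ a := by rw [hz1]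
      _ = e ≫ (pullback.fst a b ≫ a) := Category.assoc _ _ _
      _ = e ≫ (pullback.snd a b ≫ b) := by rw [pullback.condition]
      _ = (e ≫ pullback.snd a b) ≫ b := (Category.assoc _ _ _).symm
      _ = (z ≫ g ≫ prod.snd) ≫ b := by rw [hz2]
      _ = z ≫ (g ≫ prod.snd ≫ b) := by simp only [Category.assoc]
  obtain ⟨z', hz'⟩ := exists_eq_lift z hzeq
  have hfac : z' ≫ ψ = e := by
    apply pullback.hom_ext
    · rw [Category.assoc, hψ1, ← Category.assoc, hz', hz1]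
    · rw [Category.assoc, hψ2, ← Category.assoc, hz', hz2]
  haveI : Epi ψ := epi_of_lift ψ e z' hfac
  exact ⟨K3, hK3, m ≫ ψ, epi_comp m ψ⟩

include h3 h4 in
lemma mem_Cc_of_mem {K0 : Sheaf J (Type u)} (hK0 : K0 ∈ S) : K0 ∈ Cc S :=
  ⟨⟨K0, hK0, 𝟙 K0, inferInstance⟩, fun K hK K' hK' a b => Q_pb_S h3 h4 hK hK' hK0 a b⟩

lemma Q_pb_of_Q {X Y Z : Sheaf J (Type u)} (hZ : Z ∈ Cc S) (hX : Q S X) (hY : Q S Y)
    (x : X ⟶ Z) (y : Y ⟶ Z) : Q S (pullback x y) := by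
  obtain ⟨K, hK, p, hp⟩ := hX
  obtain ⟨K', hK', p', hp'⟩ := hY
  haveI := hp
  haveI := hp'
  have hQ := hZ.2 K hK K' hK' (p ≫ x) (p' ≫ y)
  obtain ⟨ψ, hψ1, hψ2⟩ := exists_pb_lift (f := x) (g := y)
    (pullback.fst (p ≫ x) (p' ≫ y) ≫ p) (pullback.snd (p ≫ x) (p' ≫ y) ≫ p') (by
      simp only [Category.assoc]
      exact pullback.condition)
  obtain ⟨T1, e1, k1, he1, hk1⟩ := exists_cover (pullback.fst x y) p
  haveI := he1
  obtain ⟨T2, e2, k2, he2, hk2⟩ := exists_cover (e1 ≫ pullback.snd x y) p'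
  haveI := he2
  obtain ⟨z', hz1, hz2⟩ := exists_pb_lift (f := p ≫ x) (g := p' ≫ y) (e2 ≫ k1) k2 (by
    calc (e2 ≫ k1) ≫ p ≫ x = e2 ≫ (k1 ≫ p) ≫ x := by simp only [Category.assoc]
      _ = e2 ≫ (e1 ≫ pullback.fst x y) ≫ x := by rw [hk1]
      _ = e2 ≫ e1 ≫ (pullback.fst x y ≫ x) := by simp only [Category.assoc]
      _ = e2 ≫ e1 ≫ (pullback.snd x y ≫ y) := by rw [pullback.condition]
      _ = (e2 ≫ e1 ≫ pullback.snd x y) ≫ y := by simp only [Category.assoc]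
      _ = (k2 ≫ p') ≫ y := by rw [hk2]
      _ = k2 ≫ p' ≫ y := Category.assoc _ _ _)
  have hfac : z' ≫ ψ = e2 ≫ e1 := by
    apply pullback.hom_ext
    · calc (z' ≫ ψ) ≫ pullback.fst x y = z' ≫ (ψ ≫ pullback.fst x y) := Category.assoc _ _ _
        _ = (z' ≫ pullback.fst (p ≫ x) (p' ≫ y)) ≫ p := by rw [hψ1, Category.assoc]
        _ = (e2 ≫ k1) ≫ p := by rw [hz1]
        _ = e2 ≫ (k1 ≫ p) := Category.assoc _ _ _
        _ = e2 ≫ (e1 ≫ pullback.fst x y) := by rw [hk1]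
        _ = (e2 ≫ e1) ≫ pullback.fst x y := (Category.assoc _ _ _).symm
    · calc (z' ≫ ψ) ≫ pullback.snd x y = z' ≫ (ψ ≫ pullback.snd x y) := Category.assoc _ _ _
        _ = (z' ≫ pullback.snd (p ≫ x) (p' ≫ y)) ≫ p' := by rw [hψ2, Category.assoc]
        _ = k2 ≫ p' := by rw [hz2]
        _ = e2 ≫ e1 ≫ pullback.snd x y := hk2
        _ = (e2 ≫ e1) ≫ pullback.snd x y := (Category.assoc _ _ _).symm
  haveI : Epi (e2 ≫ e1) := epi_comp e2 e1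
  haveI : Epi ψ := epi_of_lift ψ (e2 ≫ e1) z' hfac
  exact Q_of_epi ψ hQ

include h4 in
lemma Q_eq_of_Q {P Y : Sheaf J (Type u)} (hP : Q S P) (hY : Y ∈ Cc S) (u v : P ⟶ Y) :
    Q S (equalizer u v) := by
  obtain ⟨K1, hK1, r, hr⟩ := hP
  haveI := hr
  obtain ⟨K2, hK2, s, hs⟩ := hY.2 K1 hK1 K1 hK1 (r ≫ u) (r ≫ v)
  haveI := hs
  obtain ⟨K3, m, hK3, hm⟩ := h4 K2 hK2 K1 hK1 (s ≫ pullback.fst (r ≫ u) (r ≫ v))
    (s ≫ pullback.snd (r ≫ u) (r ≫ v))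
  haveI := hm
  obtain ⟨ι2, hι2⟩ : ∃ ι2 : equalizer (s ≫ pullback.fst (r ≫ u) (r ≫ v))
      (s ≫ pullback.snd (r ≫ u) (r ≫ v)) ⟶ K2, ι2 = equalizer.ι _ _ := ⟨_, rfl⟩
  have hι2c : ι2 ≫ s ≫ pullback.fst (r ≫ u) (r ≫ v) = ι2 ≫ s ≫ pullback.snd (r ≫ u) (r ≫ v) := by
    rw [hι2]
    exact equalizer.condition _ _
  obtain ⟨ψ, hψ⟩ := exists_eq_lift (f := u) (g := v)
    (ι2 ≫ s ≫ pullback.fst (r ≫ u) (r ≫ v) ≫ r) (by
    calc (ι2 ≫ s ≫ pullback.fst (r ≫ u) (r ≫ v) ≫ r) ≫ u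
        = ι2 ≫ s ≫ (pullback.fst (r ≫ u) (r ≫ v) ≫ r ≫ u) := by simp only [Category.assoc]
      _ = ι2 ≫ s ≫ (pullback.snd (r ≫ u) (r ≫ v) ≫ r ≫ v) := by rw [pullback.condition]
      _ = (ι2 ≫ s ≫ pullback.snd (r ≫ u) (r ≫ v)) ≫ r ≫ v := by simp only [Category.assoc]
      _ = (ι2 ≫ s ≫ pullback.fst (r ≫ u) (r ≫ v)) ≫ r ≫ v := by rw [hι2c]
      _ = (ι2 ≫ s ≫ pullback.fst (r ≫ u) (r ≫ v) ≫ r) ≫ v := by simp only [Category.assoc])
  obtain ⟨T1, e1, k1, he1, hk1⟩ := exists_cover (equalizer.ι u v) r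
  haveI := he1
  obtain ⟨ρ, hρ1, hρ2⟩ := exists_pb_lift (f := r ≫ u) (g := r ≫ v) k1 k1 (by
    calc k1 ≫ r ≫ u = (k1 ≫ r) ≫ u := (Category.assoc _ _ _).symm
      _ = (e1 ≫ equalizer.ι u v) ≫ u := by rw [hk1]
      _ = e1 ≫ (equalizer.ι u v ≫ u) := Category.assoc _ _ _
      _ = e1 ≫ (equalizer.ι u v ≫ v) := by rw [equalizer.condition]
      _ = (e1 ≫ equalizer.ι u v) ≫ v := (Category.assoc _ _ _).symm
      _ = (k1 ≫ r) ≫ v := by rw [hk1]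
      _ = k1 ≫ r ≫ v := Category.assoc _ _ _)
  obtain ⟨T2, e2, k2, he2, hk2⟩ := exists_cover ρ s
  haveI := he2
  have hk2a : k2 ≫ s ≫ pullback.fst (r ≫ u) (r ≫ v) = e2 ≫ k1 := by
    rw [← Category.assoc, hk2, Category.assoc, hρ1]
  have hk2b : k2 ≫ s ≫ pullback.snd (r ≫ u) (r ≫ v) = e2 ≫ k1 := by
    rw [← Category.assoc, hk2, Category.assoc, hρ2]
  obtain ⟨z', hz'⟩ := exists_eq_lift (f := s ≫ pullback.fst (r ≫ u) (r ≫ v))
    (g := s ≫ pullback.snd (r ≫ u) (r ≫ v)) k2 (hk2a.trans hk2b.symm)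
  rw [← hι2] at hz'
  have hfac : z' ≫ ψ = e2 ≫ e1 := by
    apply equalizer.hom_ext
    calc (z' ≫ ψ) ≫ equalizer.ι u v = z' ≫ (ψ ≫ equalizer.ι u v) := Category.assoc _ _ _
      _ = z' ≫ (ι2 ≫ s ≫ pullback.fst (r ≫ u) (r ≫ v) ≫ r) := by rw [hψ]
      _ = ((z' ≫ ι2) ≫ s ≫ pullback.fst (r ≫ u) (r ≫ v)) ≫ r := by simp only [Category.assoc]
      _ = (k2 ≫ s ≫ pullback.fst (r ≫ u) (r ≫ v)) ≫ r := by rw [hz']
      _ = (e2 ≫ k1) ≫ r := by rw [hk2a]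
      _ = e2 ≫ (k1 ≫ r) := Category.assoc _ _ _
      _ = e2 ≫ (e1 ≫ equalizer.ι u v) := by rw [hk1]
      _ = (e2 ≫ e1) ≫ equalizer.ι u v := (Category.assoc _ _ _).symm
  haveI : Epi (e2 ≫ e1) := epi_comp e2 e1
  haveI : Epi ψ := epi_of_lift ψ (e2 ≫ e1) z' hfac
  exact ⟨K3, hK3, m ≫ ψ, epi_comp m ψ⟩

include h4 in
lemma Cc_pb {X Y Z : Sheaf J (Type u)} (hZ : Z ∈ Cc S) (hX : X ∈ Cc S) (hY : Y ∈ Cc S)
    (x : X ⟶ Z) (y : Y ⟶ Z) : pullback x y ∈ Cc S := by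
  refine ⟨Q_pb_of_Q hZ hX.1 hY.1 x y, ?_⟩
  intro K hK K' hK' a b
  obtain ⟨aX, haX⟩ : ∃ aX : K ⟶ X, aX = a ≫ pullback.fst x y := ⟨_, rfl⟩
  obtain ⟨bX, hbX⟩ : ∃ bX : K' ⟶ X, bX = b ≫ pullback.fst x y := ⟨_, rfl⟩
  obtain ⟨aY, haY⟩ : ∃ aY : K ⟶ Y, aY = a ≫ pullback.snd x y := ⟨_, rfl⟩
  obtain ⟨bY, hbY⟩ : ∃ bY : K' ⟶ Y, bY = b ≫ pullback.snd x y := ⟨_, rfl⟩
  have hP : Q S (pullback aX bX) := hX.2 K hK K' hK' aX bX
  have hE : Q S (equalizer (pullback.fst aX bX ≫ aY) (pullback.snd aX bX ≫ bY)) :=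
    Q_eq_of_Q h4 hP hY _ _
  obtain ⟨ι, hι⟩ : ∃ ι : equalizer (pullback.fst aX bX ≫ aY) (pullback.snd aX bX ≫ bY) ⟶
      pullback aX bX, ι = equalizer.ι _ _ := ⟨_, rfl⟩
  have hιc : ι ≫ pullback.fst aX bX ≫ aY = ι ≫ pullback.snd aX bX ≫ bY := by
    rw [hι]
    exact equalizer.condition _ _
  obtain ⟨φ, hφ1, hφ2⟩ := exists_pb_lift (f := a) (g := b)
    (ι ≫ pullback.fst aX bX) (ι ≫ pullback.snd aX bX) (by
    apply pullback.hom_ext
    · calc ((ι ≫ pullback.fst aX bX) ≫ a) ≫ pullback.fst x y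
          = ι ≫ (pullback.fst aX bX ≫ (a ≫ pullback.fst x y)) := by simp only [Category.assoc]
        _ = ι ≫ (pullback.fst aX bX ≫ aX) := by rw [← haX]
        _ = ι ≫ (pullback.snd aX bX ≫ bX) := by rw [pullback.condition]
        _ = ι ≫ (pullback.snd aX bX ≫ (b ≫ pullback.fst x y)) := by rw [← hbX]
        _ = ((ι ≫ pullback.snd aX bX) ≫ b) ≫ pullback.fst x y := by simp only [Category.assoc]
    · calc ((ι ≫ pullback.fst aX bX) ≫ a) ≫ pullback.snd x y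
          = ι ≫ (pullback.fst aX bX ≫ (a ≫ pullback.snd x y)) := by simp only [Category.assoc]
        _ = ι ≫ pullback.fst aX bX ≫ aY := by rw [← haY]
        _ = ι ≫ pullback.snd aX bX ≫ bY := hιc
        _ = ι ≫ (pullback.snd aX bX ≫ (b ≫ pullback.snd x y)) := by rw [← hbY]
        _ = ((ι ≫ pullback.snd aX bX) ≫ b) ≫ pullback.snd x y := by
            simp only [Category.assoc])
  obtain ⟨t1, ht1a, ht1b⟩ := exists_pb_lift (f := aX) (g := bX)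
    (pullback.fst a b) (pullback.snd a b) (by
    rw [haX, hbX, ← Category.assoc, ← Category.assoc, pullback.condition])
  have ht1 : t1 ≫ (pullback.fst aX bX ≫ aY) = t1 ≫ (pullback.snd aX bX ≫ bY) := by
    rw [← Category.assoc, ← Category.assoc, ht1a, ht1b, haY, hbY, ← Category.assoc,
      ← Category.assoc, pullback.condition]
  obtain ⟨z', hz'⟩ := exists_eq_lift (f := pullback.fst aX bX ≫ aY)
    (g := pullback.snd aX bX ≫ bY) t1 ht1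
  rw [← hι] at hz'
  have hfac : z' ≫ φ = 𝟙 _ := by
    apply pullback.hom_ext
    · rw [Category.assoc, hφ1, ← Category.assoc, hz', ht1a, Category.id_comp]
    · rw [Category.assoc, hφ2, ← Category.assoc, hz', ht1b, Category.id_comp]
  haveI : Epi φ := epi_of_lift φ (𝟙 _) z' hfac
  exact Q_of_epi φ hE

lemma Cc_iso {X Y : Sheaf J (Type u)} (e : X ≅ Y) (hX : X ∈ Cc S) : Y ∈ Cc S := by
  refine ⟨Q_of_epi e.hom hX.1, fun K hK K' hK' a b => ?_⟩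
  have h := hX.2 K hK K' hK' (a ≫ e.inv) (b ≫ e.inv)
  obtain ⟨φ, hφ1, hφ2⟩ := exists_pb_lift (f := a) (g := b)
    (pullback.fst (a ≫ e.inv) (b ≫ e.inv)) (pullback.snd (a ≫ e.inv) (b ≫ e.inv)) (by
    have hc := pullback.condition (f := a ≫ e.inv) (g := b ≫ e.inv)
    rw [← cancel_mono e.inv, Category.assoc, Category.assoc]
    exact hc)
  obtain ⟨z', hz1, hz2⟩ := exists_pb_lift (f := a ≫ e.inv) (g := b ≫ e.inv)
    (pullback.fst a b) (pullback.snd a b) (by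
    rw [← Category.assoc, ← Category.assoc, pullback.condition])
  have hfac : z' ≫ φ = 𝟙 _ := by
    apply pullback.hom_ext
    · rw [Category.assoc, hφ1, hz1, Category.id_comp]
    · rw [Category.assoc, hφ2, hz2, Category.id_comp]
  haveI : Epi φ := epi_of_lift φ (𝟙 _) z' hfac
  exact Q_of_epi φ h

include h3 in
lemma top_mem_Cc (h1 : ∃ K ∈ S, Epi (terminal.from K)) :
    (⊤_ (Sheaf J (Type u))) ∈ Cc S := by
  obtain ⟨K0, hK0, hepi⟩ := h1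
  refine ⟨⟨K0, hK0, terminal.from K0, hepi⟩, fun K hK K' hK' a b => ?_⟩
  obtain ⟨K'', g, hK'', hg⟩ := h3 K hK K' hK'
  haveI := hg
  obtain ⟨φ, hφ1, hφ2⟩ := exists_pb_lift (f := a) (g := b)
    (prod.fst : K ⨯ K' ⟶ K) (prod.snd : K ⨯ K' ⟶ K') (Subsingleton.elim _ _)
  have hfac : prod.lift (pullback.fst a b) (pullback.snd a b) ≫ φ = 𝟙 _ := by
    apply pullback.hom_ext
    · rw [Category.assoc, hφ1, prod.lift_fst, Category.id_comp]
    · rw [Category.assoc, hφ2, prod.lift_snd, Category.id_comp]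
  haveI : Epi φ := epi_of_lift φ (𝟙 _) _ hfac
  exact ⟨K'', hK'', g ≫ φ, epi_comp g φ⟩

include h2 h3 h4 in
theorem refClass_Cc (h5 : ∀ K ∈ S, ToposFin.IsQC K) : RefClass (Cc S) where
  qc X hX := by
    obtain ⟨K, hK, p, hp⟩ := hX.1
    haveI := hp
    exact isQC_of_epi p (h5 K hK)
  pb x y hK hX hY := Cc_pb h4 hK hX hY x y
  iso e hX := Cc_iso e hX
  ref K hK F g hg := by
    haveI := hg
    obtain ⟨K', hK', k, hk⟩ := Q_ref h2 hK.1 F g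
    exact ⟨K', mem_Cc_of_mem h3 h4 hK', k, hk⟩

end

/-- cohomology commutes with filtered colimits if `H^p(⊤, -)` does -/
theorem preservesColimitsOfShape_functorH (Λ : Type u) [SmallCategory Λ] (p : ℕ)
    [PreservesColimitsOfShape Λ
      (Abelian.extFunctorObj ((G (J := J)).obj (⊤_ (Sheaf J (Type u)))) p)] :
    PreservesColimitsOfShape Λ
      (Sheaf.functorH J p : Sheaf J AddCommGrpCat.{u} ⥤ AddCommGrpCat.{u}) := by
  have e : Abelian.extFunctorObj ((G (J := J)).obj (⊤_ (Sheaf J (Type u)))) p ≅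
      (Sheaf.functorH J p : Sheaf J AddCommGrpCat.{u} ⥤ AddCommGrpCat.{u}) :=
    (Abelian.extFunctor.{u} p).mapIso (GtopIso (J := J)).symm.op
  exact preservesColimitsOfShape_of_natIso e

theorem main948 (S : Set (Sheaf J (Type u)))
    (h1 : ∃ K ∈ S, Epi (terminal.from K))
    (h2 : ∀ (F : Sheaf J (Type u)) (K : Sheaf J (Type u)) (g : F ⟶ K), K ∈ S → Epi g →
      ∃ (K' : Sheaf J (Type u)) (k : K' ⟶ F), K' ∈ S ∧ Epi (k ≫ g))
    (h3 : ∀ K ∈ S, ∀ K' ∈ S, ∃ (K'' : Sheaf J (Type u)) (g : K'' ⟶ K ⨯ K'), K'' ∈ S ∧ Epi g)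
    (h4 : ∀ K ∈ S, ∀ K' ∈ S, ∀ (a b : K ⟶ K'),
      ∃ (K'' : Sheaf J (Type u)) (g : K'' ⟶ equalizer a b), K'' ∈ S ∧ Epi g)
    (h5 : ∀ K ∈ S, CohCx.IsQcObject K)
    (Λ : Type u) [SmallCategory Λ] [IsFiltered Λ] (p : ℕ) :
    PreservesColimitsOfShape Λ
      (Sheaf.functorH J p : Sheaf J AddCommGrpCat.{u} ⥤ AddCommGrpCat.{u}) := by
  have hR := refClass_Cc h2 h3 h4 (fun K hK => isQC_of_isQcObject (h5 K hK))
  haveI := preservesColimit_ext_ref hR (⊤_ (Sheaf J (Type u))) (top_mem_Cc h3 h1) p Λ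
  exact preservesColimitsOfShape_functorH Λ p

end Groth.Agent.Lib.ToposRefH7
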