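import Mathlib

/-! Uniform vanishing of `Tor_p(IⁿM, N) → Tor_p(M, N)` for `N` killed by `I` (helper1).
Elementary proof: induction on the number of generators of `I`; the principal case uses the
stabilisation of `ker aʲ` and the fact that `a` acts by zero on `Tor(-, N)`. -/

set_option autoImplicit false

universe u

namespace Groth.Agent.Lib.TorARH1

open CategoryTheory MonoidalCategory CategoryTheory.Limits

variable {A : Type u} [CommRing A]

section tor

variable {N : ModuleCat.{u} A} (P : ProjectiveResolution N)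

/-- `X ⊗ P_•`. -/
noncomputable abbrev Cx (X : ModuleCat.{u} A) :
    HomologicalComplex (ModuleCat.{u} A) (ComplexShape.down ℕ) :=
  (((tensoringLeft (ModuleCat.{u} A)).obj X).mapHomologicalComplex
    (ComplexShape.down ℕ)).obj P.complex

/-- `f ⊗ P_•`. -/
noncomputable def cmap {X Y : ModuleCat.{u} A} (f : X ⟶ Y) : Cx P X ⟶ Cx P Y :=
  (NatTrans.mapHomologicalComplex ((tensoringLeft (ModuleCat.{u} A)).map f)
    (ComplexShape.down ℕ)).app P.complex

theorem cmap_f {X Y : ModuleCat.{u} A} (f : X ⟶ Y) (j : ℕ) :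
    (cmap P f).f j = f ▷ (P.complex.X j) := rfl

theorem cmap_comp {X Y Z : ModuleCat.{u} A} (f : X ⟶ Y) (g : Y ⟶ Z) :
    cmap P (f ≫ g) = cmap P f ≫ cmap P g := by
  apply HomologicalComplex.hom_ext
  intro j
  rw [HomologicalComplex.comp_f, cmap_f, cmap_f, cmap_f, comp_whiskerRight]
  rfl

theorem cmap_zero {X Y : ModuleCat.{u} A} : cmap P (0 : X ⟶ Y) = 0 := by
  apply HomologicalComplex.hom_ext
  intro j
  rw [cmap_f, HomologicalComplex.zero_f, MonoidalPreadditive.zero_whiskerRight]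
  rfl

theorem tor_map_zero {X Y : ModuleCat.{u} A} (f : X ⟶ Y) (p : ℕ)
    (h : HomologicalComplex.homologyMap (cmap P f) p = 0) :
    ((Tor (ModuleCat.{u} A) p).map f).app N = 0 := by
  rw [Tor_map, ProjectiveResolution.leftDerived_app_eq _ P p]
  have h' : (HomologicalComplex.homologyFunctor (ModuleCat.{u} A) (ComplexShape.down ℕ) p).map
      ((NatTrans.mapHomologicalComplex ((tensoringLeft (ModuleCat.{u} A)).map f)
        (ComplexShape.down ℕ)).app P.complex) = 0 := h
  rw [h', zero_comp, comp_zero]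
  rfl

/-- `f` induces zero on all `Tor_p(-, N)`. -/
def TZ {X Y : ModuleCat.{u} A} (f : X ⟶ Y) : Prop :=
  ∀ p : ℕ, HomologicalComplex.homologyMap (cmap P f) p = 0

/-- `f` induces monomorphisms on all `Tor_p(-, N)`. -/
def TM {X Y : ModuleCat.{u} A} (f : X ⟶ Y) : Prop :=
  ∀ p : ℕ, Mono (HomologicalComplex.homologyMap (cmap P f) p)

theorem TM_comp {X Y Z : ModuleCat.{u} A} (f : X ⟶ Y) (g : Y ⟶ Z) (hf : TM P f) (hg : TM P g) :
    TM P (f ≫ g) := fun p => by
  rw [cmap_comp, HomologicalComplex.homologyMap_comp]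
  haveI := hf p
  haveI := hg p
  exact mono_comp _ _

theorem TM_of_comp {X Y Z : ModuleCat.{u} A} (f : X ⟶ Y) (g : Y ⟶ Z) (h : TM P (f ≫ g)) :
    TM P f := fun p => by
  have := h p
  rw [cmap_comp, HomologicalComplex.homologyMap_comp] at this
  exact mono_of_mono _ (HomologicalComplex.homologyMap (cmap P g) p)

theorem shortExact_whisker (S : ShortComplex (ModuleCat.{u} A)) (hS : S.ShortExact)
    (Q : ModuleCat.{u} A) [Projective Q] :
    (ShortComplex.mk (S.f ▷ Q) (S.g ▷ Q)
      (by rw [← comp_whiskerRight, S.zero, MonoidalPreadditive.zero_whiskerRight])).ShortExact := by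
  have h1 : Function.Exact S.f.hom S.g.hom :=
    (ShortComplex.ShortExact.moduleCat_exact_iff_function_exact S).mp hS.exact
  apply ModuleCat.shortComplex_shortExact
  · exact rTensor_exact Q h1 hS.moduleCat_surjective_g
  · exact Module.Flat.rTensor_preserves_injective_linearMap S.f.hom hS.moduleCat_injective_f
  · exact LinearMap.rTensor_surjective Q hS.moduleCat_surjective_g

theorem cx_shortExact (S : ShortComplex (ModuleCat.{u} A)) (hS : S.ShortExact) :
    (ShortComplex.mk (cmap P S.f) (cmap P S.g)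
      (by rw [← cmap_comp, S.zero, cmap_zero])).ShortExact := by
  apply HomologicalComplex.shortExact_of_degreewise_shortExact
  intro j
  exact shortExact_whisker S hS (P.complex.X j)

theorem TM_of_TZ (S : ShortComplex (ModuleCat.{u} A)) (hS : S.ShortExact) (h : TZ P S.f) :
    TM P S.g := by
  intro p
  have hex := (cx_shortExact P S hS).homology_exact₂ p
  exact hex.mono_g (h p)

theorem TZ_of_TM (S : ShortComplex (ModuleCat.{u} A)) (h : TM P S.g) : TZ P S.f := by
  intro p
  haveI := h p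
  have h0 : HomologicalComplex.homologyMap (cmap P S.f) p ≫
      HomologicalComplex.homologyMap (cmap P S.g) p = 0 := by
    rw [← HomologicalComplex.homologyMap_comp, ← cmap_comp, S.zero, cmap_zero,
      HomologicalComplex.homologyMap_zero]
  exact zero_of_comp_mono _ h0

theorem TZ_smul (a : A) (ha : ∀ y : N, a • y = 0) {X Y : ModuleCat.{u} A} (φ : X ⟶ Y) :
    TZ P (a • φ) := by
  intro p
  have hG : Homotopy (a • 𝟙 P.complex) 0 := by
    apply ProjectiveResolution.liftHomotopy (0 : N ⟶ N)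
    · rw [Functor.map_zero, comp_zero]
      apply HomologicalComplex.to_single_hom_ext
      rw [HomologicalComplex.comp_f, HomologicalComplex.zero_f, HomologicalComplex.smul_f_apply,
        HomologicalComplex.id_f, Linear.smul_comp, Category.id_comp]
      apply ModuleCat.hom_ext
      apply LinearMap.ext
      intro x
      exact ha _
    · rw [Functor.map_zero, comp_zero, zero_comp]
  have hfac : cmap P (a • φ) =
      ((((tensoringLeft (ModuleCat.{u} A)).obj X).mapHomologicalComplex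
        (ComplexShape.down ℕ)).map (a • 𝟙 P.complex)) ≫ cmap P φ := by
    apply HomologicalComplex.hom_ext
    intro j
    rw [HomologicalComplex.comp_f, cmap_f, cmap_f]
    show (a • φ) ▷ P.complex.X j = X ◁ ((a • 𝟙 P.complex).f j) ≫ φ ▷ P.complex.X j
    rw [HomologicalComplex.smul_f_apply, HomologicalComplex.id_f]
    apply ModuleCat.hom_ext
    apply TensorProduct.ext'
    intro x v
    simp only [ModuleCat.hom_comp, LinearMap.comp_apply, ModuleCat.hom_whiskerRight,
      ModuleCat.hom_whiskerLeft, LinearMap.rTensor_tmul, LinearMap.lTensor_tmul,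
      ModuleCat.hom_smul, LinearMap.smul_apply, ModuleCat.hom_id, LinearMap.id_apply]
    exact TensorProduct.smul_tmul a _ v
  rw [hfac, HomologicalComplex.homologyMap_comp]
  have h1 := (Functor.mapHomotopy ((tensoringLeft (ModuleCat.{u} A)).obj X) hG).homologyMap_eq p
  rw [h1, Functor.map_zero, HomologicalComplex.homologyMap_zero, zero_comp]

end tor

section alg

variable {N : ModuleCat.{u} A} (P : ProjectiveResolution N)

/-- Inclusion of a submodule as a morphism of `ModuleCat`. -/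
noncomputable def inclM {M : Type u} [AddCommGroup M] [Module A M] (M' : Submodule A M) :
    ModuleCat.of A M' ⟶ ModuleCat.of A M := ModuleCat.ofHom M'.subtype

/-- Quotient map as a morphism of `ModuleCat`. -/
noncomputable def projM {M : Type u} [AddCommGroup M] [Module A M] (M' : Submodule A M) :
    ModuleCat.of A M ⟶ ModuleCat.of A (M ⧸ M') := ModuleCat.ofHom M'.mkQ

theorem incl_proj {M : Type u} [AddCommGroup M] [Module A M] (M' : Submodule A M) :
    inclM M' ≫ projM M' = 0 := by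
  apply ModuleCat.hom_ext
  apply LinearMap.ext
  intro x
  show Submodule.Quotient.mk (x : M) = 0
  exact (Submodule.Quotient.mk_eq_zero _).mpr x.2

theorem sub_shortExact {M : Type u} [AddCommGroup M] [Module A M] (M' : Submodule A M) :
    (ShortComplex.mk (inclM M') (projM M') (incl_proj M')).ShortExact :=
  ModuleCat.shortComplex_shortExact _ (LinearMap.exact_subtype_mkQ M') M'.injective_subtype
    M'.mkQ_surjective

theorem exists_factor {M M2 M3 : Type*} [AddCommGroup M] [Module A M] [AddCommGroup M2]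
    [Module A M2] [AddCommGroup M3] [Module A M3] (g : M →ₗ[A] M2)
    (hg : Function.Surjective g) (χ : M →ₗ[A] M3) (h : LinearMap.ker g ≤ LinearMap.ker χ) :
    ∃ φ : M2 →ₗ[A] M3, ∀ m, φ (g m) = χ m := by
  refine ⟨((LinearMap.ker g).liftQ χ h).comp
    (LinearMap.quotKerEquivOfSurjective g hg).symm.toLinearMap, fun m => ?_⟩
  have h1 : (LinearMap.quotKerEquivOfSurjective g hg).symm (g m) = Submodule.Quotient.mk m := by
    rw [LinearEquiv.symm_apply_eq, LinearMap.quotKerEquivOfSurjective_apply_mk]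
  rw [LinearMap.comp_apply, LinearEquiv.coe_coe, h1, Submodule.liftQ_apply]

theorem principal [IsNoetherianRing A] (a : A) (ha : ∀ y : N, a • y = 0) (M : Type u)
    [AddCommGroup M] [Module A M] [Module.Finite A M] :
    ∃ n : ℕ, 0 < n ∧ TM P (projM ((Ideal.span {a}) ^ n • (⊤ : Submodule A M))) := by
  haveI : IsNoetherian A M := isNoetherian_of_isNoetherianRing_of_finite A M
  have hmono : Monotone (fun j : ℕ => LinearMap.ker ((a ^ j) • (LinearMap.id : M →ₗ[A] M))) := by
    apply monotone_nat_of_le_succ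
    intro j m hm
    rw [LinearMap.mem_ker, LinearMap.smul_apply, LinearMap.id_apply] at hm ⊢
    rw [pow_succ', mul_smul, hm, smul_zero]
  obtain ⟨c, hc⟩ := monotone_stabilizes_iff_noetherian.mpr ‹IsNoetherian A M› ⟨_, hmono⟩
  refine ⟨c + 1, Nat.succ_pos c, ?_⟩
  apply TM_of_TZ P _ (sub_shortExact _)
  show TZ P (inclM ((Ideal.span {a}) ^ (c + 1) • (⊤ : Submodule A M)))
  have hmem : ∀ m : M, (a ^ (c + 1)) • m ∈ (Ideal.span {a}) ^ (c + 1) • (⊤ : Submodule A M) :=
    fun m => Submodule.smul_mem_smul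
      (Ideal.pow_mem_pow (Ideal.mem_span_singleton_self a) _) trivial
  let g : M →ₗ[A] ↥((Ideal.span {a}) ^ (c + 1) • (⊤ : Submodule A M)) :=
    ((a ^ (c + 1)) • (LinearMap.id : M →ₗ[A] M)).codRestrict _ hmem
  have hg : Function.Surjective g := by
    rintro ⟨z, hz⟩
    have : ∃ m : M, (a ^ (c + 1)) • m = z := by
      refine Submodule.smul_induction_on (p := fun z => ∃ m : M, (a ^ (c + 1)) • m = z) hz ?_ ?_
      · intro r hr m _
        rw [Ideal.span_singleton_pow, Ideal.mem_span_singleton'] at hr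
        obtain ⟨s, rfl⟩ := hr
        exact ⟨s • m, by rw [smul_smul, mul_comm]⟩
      · rintro x y ⟨m, rfl⟩ ⟨m', rfl⟩
        exact ⟨m + m', smul_add _ _ _⟩
    obtain ⟨m, hm⟩ := this
    exact ⟨m, Subtype.ext hm⟩
  have hker : LinearMap.ker g ≤ LinearMap.ker ((a ^ c) • (LinearMap.id : M →ₗ[A] M)) := by
    intro m hm
    rw [LinearMap.ker_codRestrict] at hm
    have h2 := hc (c + 1) (Nat.le_succ c)
    have h3 : m ∈ LinearMap.ker ((a ^ c) • (LinearMap.id : M →ₗ[A] M)) := by
      have : m ∈ (⟨_, hmono⟩ : ℕ →o Submodule A M) c := by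
        rw [h2]; exact hm
      exact this
    exact h3
  obtain ⟨φ, hφ⟩ := exists_factor g hg _ hker
  have hincl : inclM ((Ideal.span {a}) ^ (c + 1) • (⊤ : Submodule A M))
      = a • ModuleCat.ofHom φ := by
    apply ModuleCat.hom_ext
    apply LinearMap.ext
    intro z
    obtain ⟨m, rfl⟩ := hg z
    show ((g m : ↥((Ideal.span {a}) ^ (c + 1) • (⊤ : Submodule A M))) : M) = a • φ (g m)
    rw [hφ]
    show (a ^ (c + 1)) • m = a • ((a ^ c) • m)
    rw [pow_succ', mul_smul]
  rw [hincl]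
  exact TZ_smul P a ha _

theorem sup_step (I₁ I₂ : Ideal A) (M : Type u) [AddCommGroup M] [Module A M] (n₁ n₂ : ℕ)
    (h₁ : TM P (projM (I₁ ^ n₁ • (⊤ : Submodule A M))))
    (h₂ : TM P (projM (I₂ ^ n₂ • (⊤ : Submodule A (M ⧸ (I₁ ^ n₁ • (⊤ : Submodule A M))))))) :
    TM P (projM ((I₁ ⊔ I₂) ^ (n₁ + n₂) • (⊤ : Submodule A M))) := by
  have hcomp := TM_comp P _ _ h₁ h₂
  have hS : (I₁ ⊔ I₂) ^ (n₁ + n₂) • (⊤ : Submodule A M) ≤
      LinearMap.ker ((Submodule.mkQ (I₂ ^ n₂ • (⊤ : Submodule A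
        (M ⧸ (I₁ ^ n₁ • (⊤ : Submodule A M)))))).comp
        (Submodule.mkQ (I₁ ^ n₁ • (⊤ : Submodule A M)))) := by
    rw [Submodule.smul_le]
    intro r hr m _
    have hr' := Ideal.sup_pow_add_le_pow_sup_pow hr
    obtain ⟨r₁, hr₁, r₂, hr₂, rfl⟩ := Submodule.mem_sup.mp hr'
    rw [LinearMap.mem_ker, LinearMap.comp_apply, add_smul, map_add, map_add]
    have e1 : Submodule.mkQ (I₁ ^ n₁ • (⊤ : Submodule A M)) (r₁ • m) = 0 :=
      (Submodule.Quotient.mk_eq_zero _).mpr (Submodule.smul_mem_smul hr₁ trivial)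
    have e2 : Submodule.mkQ (I₂ ^ n₂ • (⊤ : Submodule A (M ⧸ (I₁ ^ n₁ • (⊤ : Submodule A M)))))
        (Submodule.mkQ (I₁ ^ n₁ • (⊤ : Submodule A M)) (r₂ • m)) = 0 := by
      rw [map_smul]
      exact (Submodule.Quotient.mk_eq_zero _).mpr (Submodule.smul_mem_smul hr₂ trivial)
    rw [e1, map_zero, zero_add, e2]
  have hfac : projM (I₁ ^ n₁ • (⊤ : Submodule A M)) ≫
      projM (I₂ ^ n₂ • (⊤ : Submodule A (M ⧸ (I₁ ^ n₁ • (⊤ : Submodule A M)))))
      = projM ((I₁ ⊔ I₂) ^ (n₁ + n₂) • (⊤ : Submodule A M)) ≫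
        ModuleCat.ofHom (Submodule.liftQ _ _ hS) := by
    apply ModuleCat.hom_ext
    apply LinearMap.ext
    intro m
    rfl
  rw [hfac] at hcomp
  exact TM_of_comp P _ _ hcomp

theorem main_ind [IsNoetherianRing A] (I : Ideal A) (hI : I.FG) :
    (∀ a ∈ I, ∀ y : N, a • y = 0) →
    ∀ (M : Type u) [AddCommGroup M] [Module A M] [Module.Finite A M],
      ∃ n : ℕ, 0 < n ∧ TM P (projM (I ^ n • (⊤ : Submodule A M))) := by
  refine Submodule.fg_induction (R := A) (M := A)
    (motive := fun (I : Submodule A A) _ => (∀ a ∈ I, ∀ y : N, a • y = 0) →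
      ∀ (M : Type u) [AddCommGroup M] [Module A M] [Module.Finite A M],
        ∃ n : ℕ, 0 < n ∧ TM P (projM ((I : Ideal A) ^ n • (⊤ : Submodule A M)))) ?_ ?_ I hI
  · intro a hN M _ _ _
    exact principal P a (hN a (Ideal.mem_span_singleton_self a)) M
  · intro I₁ I₂ _ _ ih₁ ih₂ hN M _ _ _
    obtain ⟨n₁, hn₁, h₁⟩ := ih₁ (fun a ha => hN a (Submodule.mem_sup_left ha)) M
    obtain ⟨n₂, hn₂, h₂⟩ := ih₂ (fun a ha => hN a (Submodule.mem_sup_right ha))
      (M ⧸ ((I₁ : Ideal A) ^ n₁ • (⊤ : Submodule A M)))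
    exact ⟨n₁ + n₂, by omega, sup_step P I₁ I₂ M n₁ n₂ h₁ h₂⟩

end alg

theorem main7161 (A : Type u) [CommRing A] [IsNoetherianRing A] (I : Ideal A)
    (M N : Type u) [AddCommGroup M] [Module A M] [Module.Finite A M] [AddCommGroup N] [Module A N]
    (hN : ∀ a ∈ I, ∀ y : N, a • y = 0) :
    ∃ n : ℕ, 0 < n ∧ ∀ p : ℕ,
      ((CategoryTheory.Tor (ModuleCat.{u} A) p).map (ModuleCat.ofHom (I ^ n • ⊤ : Submodule A M).subtype)).app
        (ModuleCat.of A N) = 0 := by
  let P := projectiveResolution (ModuleCat.of A N)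
  obtain ⟨n, hn, hTM⟩ := main_ind P I (IsNoetherian.noetherian I) hN M
  refine ⟨n, hn, fun p => ?_⟩
  have hTZ := TZ_of_TM P (ShortComplex.mk (inclM (I ^ n • (⊤ : Submodule A M)))
    (projM (I ^ n • (⊤ : Submodule A M))) (incl_proj _)) hTM
  have h0 : HomologicalComplex.homologyMap
      (cmap P (inclM (I ^ n • (⊤ : Submodule A M)))) p = 0 := hTZ p
  exact tor_map_zero P _ p h0

end Groth.Agent.Lib.TorARH1
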