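import Mathlib
import Groth.Prelude
import Groth.Agent.Lib.DMod6_helper6
import Groth.Agent.Lib.DMod24_helper6
import Groth.Agent.Lib.DMod28_helper6
import Groth.Agent.Lib.DMod36_helper6
import Groth.Agent.Lib.DMod41_helper6
import Groth.Agent.Lib.DMod42_helper6
import Groth.Agent.Lib.Henselization12_helper3
import Groth.Agent.Lib.IndEtale4_helper3
import Groth.Agent.Lib.FlatIndEtale_helper3
import Groth.Agent.Lib.StrictHens9_lead

/-!
# Tor amplitude over ind-étale algebras, henselizations and strict henselizations (lead; S1292)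
-/

set_option autoImplicit false
set_option linter.all false
set_option maxHeartbeats 1600000
set_option backward.isDefEq.respectTransparency false
set_option backward.isDefEq.respectTransparency.types false
set_option backward.defeqAttrib.useBackward true

universe u
open CategoryTheory CategoryTheory.Limits DerivedCategory
attribute [local instance] HasDerivedCategory.standard

namespace Groth.Agent.Lib.TorAmpIndEtL

open DRing Groth.Agent.Lib.DMod_helper6

noncomputable section

variable {A B : Type u} [CommRing A] [CommRing B] [Algebra A B]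

/-- a cokernel of `B`-modules which is flat over `A` is flat over the ind-étale `A`-algebra `B` -/
lemma flat_quot_of_restrict (h : EtPBC.IsIndEtale A B) {M N : ModuleCat.{u} B} (f : M ⟶ N)
    (hf : Module.Flat A (((ModuleCat.restrictScalars (algebraMap A B)).obj N) ⧸
      LinearMap.range ((ModuleCat.restrictScalars (algebraMap A B)).map f).hom)) :
    Module.Flat B (N ⧸ LinearMap.range f.hom) := by
  letI : Module A N := Module.compHom N (algebraMap A B)
  haveI : IsScalarTower A B N := IsScalarTower.of_algebraMap_smul fun _ _ => rfl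
  let e0 : ((ModuleCat.restrictScalars (algebraMap A B)).obj N) ≃ₗ[A] N :=
    { toFun := fun x => x
      invFun := fun x => x
      map_add' := fun _ _ => rfl
      map_smul' := fun _ _ => rfl
      left_inv := fun _ => rfl
      right_inv := fun _ => rfl }
  have hmap : Submodule.map e0.toLinearMap
      (LinearMap.range ((ModuleCat.restrictScalars (algebraMap A B)).map f).hom) =
      (LinearMap.range f.hom).restrictScalars A := by
    ext x
    constructor
    · rintro ⟨y, ⟨z, rfl⟩, rfl⟩
      exact ⟨z, rfl⟩
    · rintro ⟨z, rfl⟩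
      exact ⟨((ModuleCat.restrictScalars (algebraMap A B)).map f).hom z, ⟨z, rfl⟩, rfl⟩
  let e1 := Submodule.Quotient.equiv _ _ e0 hmap
  let e2 := Submodule.Quotient.restrictScalarsEquiv A (LinearMap.range f.hom)
  haveI := hf
  haveI : Module.Flat A (N ⧸ LinearMap.range f.hom) :=
    Module.Flat.of_linearEquiv (e1.trans e2).symm
  exact Groth.Agent.Lib.IndEtaleH3.flat_of_flat_of_isIndEtale h (N ⧸ LinearMap.range f.hom)

/-- over an ind-étale algebra, tor amplitude can be tested after restriction of scalars -/
theorem hasTorAmplitudeIn_of_restrictD_succ (h : EtPBC.IsIndEtale A B) (K : Dual.D B) (c b : ℤ)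
    (hK : HasTorAmplitudeIn A (c + 1) b ((restrictD (algebraMap A B)).obj K)) :
    HasTorAmplitudeIn B (c + 1) b K := by
  haveI : Module.Flat A B := Groth.Agent.Lib.IndEtaleH3.flat_of_isIndEtale h
  haveI hKle : DerivedCategory.IsLE K b := by
    apply isLE_of_isLE_restrictD (algebraMap A B) K b
    obtain ⟨E, hE, -, ⟨e⟩⟩ := hK
    haveI := isLE_toD_of_vanishesAbove E b (fun i hi => hE i (Or.inr hi))
    exact TStructure.t.isLE_of_iso e b
  obtain ⟨P, hPfree, hPb, ⟨eP⟩⟩ := exists_free_resolution K b
  have hPflat : TermwiseFlat P := fun i => by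
    haveI := hPfree i
    exact Module.Flat.of_free
  let C : Cx A := (restrictCx (algebraMap A B)).obj P
  have hCb : VanishesAbove C b := fun i hi =>
    (ModuleCat.restrictScalars (algebraMap A B)).map_isZero (hPb i hi)
  have hCflat : TermwiseFlat C := fun i => flat_restrictScalars (P.X i) (hPflat i)
  have eC : (restrictD (algebraMap A B)).obj K ≅ toD C :=
    (restrictD (algebraMap A B)).mapIso eP.symm ≪≫ restrictDIso P
  have hCamp : HasTorAmplitudeIn A (c + 1) b (toD C) := hasTorAmplitudeIn_of_iso eC _ _ hK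
  have hCex : ∀ i, i ≤ c → C.ExactAt i := by
    intro i hi
    obtain ⟨E, hE, -, ⟨e⟩⟩ := hCamp
    exact exactAt_of_iso_toD C E e.symm i
      (exactAt_of_isZero_X E i (hE i (Or.inl (by omega))))
  have hPex : ∀ i, i ≤ c → P.ExactAt i := fun i hi =>
    exactAt_of_exactAt_restrictCx (algebraMap A B) P i (hCex i hi)
  have hTN : ∀ N : ModuleCat.{u} A, ((TN N).obj C).ExactAt c := fun N =>
    exactAt_TN_of_hasTorAmplitudeIn C b hCb hCflat (c + 1) b hCamp N c (by omega)
  have hcokA : Module.Flat A (C.X (c + 1) ⧸ LinearMap.range (C.d c (c + 1)).hom) :=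
    flat_coker_of_TN_exact C c (c + 1) rfl (hCflat (c + 1)) hTN
  have hcokB : Module.Flat B (P.X (c + 1) ⧸ LinearMap.range (P.d c (c + 1)).hom) :=
    flat_quot_of_restrict h (P.d c (c + 1)) hcokA
  obtain ⟨T, π, hπ, hT0, hTf, hTz⟩ := exists_flat_trunc P c hPex hPflat hcokB
  haveI := hπ
  refine ⟨T, ?_, hTf, ⟨(asIso (Q.map π)).symm ≪≫ eP⟩⟩
  intro i hi
  rcases hi with hi | hi
  · exact hT0 i (by omega)
  · exact hTz i (hPb i hi)

theorem hasTorAmplitudeIn_restrictD_iff (h : EtPBC.IsIndEtale A B) (K : Dual.D B) (a b : ℤ) :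
    HasTorAmplitudeIn A a b ((restrictD (algebraMap A B)).obj K) ↔ HasTorAmplitudeIn B a b K := by
  haveI : Module.Flat A B := Groth.Agent.Lib.IndEtaleH3.flat_of_isIndEtale h
  obtain ⟨c, rfl⟩ : ∃ c, a = c + 1 := ⟨a - 1, by ring⟩
  exact ⟨hasTorAmplitudeIn_of_restrictD_succ h K c b, hasTorAmplitudeIn_restrictD K (c + 1) b⟩

/-- a henselization is ind-étale (no noetherian hypothesis) -/
theorem isIndEtale_of_isHenselization' {R : Type u} [CommRing R] [IsLocalRing R] (S : Type u)
    [CommRing S] [IsLocalRing S] [Algebra R S] [IsLocalHom (algebraMap R S)]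
    [Hensel.IsHenselization R S] : EtPBC.IsIndEtale R S := by
  obtain ⟨e, he⟩ := Groth.Agent.Lib.HenselizationH3.exists_ringEquiv_hens (R := R) S
  exact Groth.Agent.Lib.IndEtaleH3.isIndEtale_of_ringEquiv e.symm (fun r => by
    rw [← he r, RingEquiv.symm_apply_apply]) Groth.Agent.Lib.HenselizationH3.isIndEtale_hens

/-- S1292 -/
theorem main1292 {A : Type u} [CommRing A] (p : Ideal A) [p.IsPrime]
    (Ah Ash : Type u) [CommRing Ah] [IsLocalRing Ah] [CommRing Ash] [IsLocalRing Ash]
    [Algebra (Localization.AtPrime p) Ah] [IsLocalHom (algebraMap (Localization.AtPrime p) Ah)]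
    [Hensel.IsHenselization (Localization.AtPrime p) Ah]
    [Algebra (Localization.AtPrime p) Ash] [IsLocalHom (algebraMap (Localization.AtPrime p) Ash)]
    [Hensel.IsStrictHenselization (Localization.AtPrime p) Ash]
    [Algebra Ah Ash] [IsScalarTower (Localization.AtPrime p) Ah Ash]
    (a b : ℤ) (K : Dual.D Ash) (L : Dual.D Ah) :
    [DRing.HasTorAmplitudeIn (Localization.AtPrime p) a b
        ((DRing.restrictD (algebraMap (Localization.AtPrime p) Ash)).obj K),
     DRing.HasTorAmplitudeIn Ah a b ((DRing.restrictD (algebraMap Ah Ash)).obj K),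
     DRing.HasTorAmplitudeIn Ash a b K].TFAE ∧
    (DRing.HasTorAmplitudeIn (Localization.AtPrime p) a b
        ((DRing.restrictD (algebraMap (Localization.AtPrime p) Ah)).obj L) ↔
      DRing.HasTorAmplitudeIn Ah a b L) := by
  have hsh : EtPBC.IsIndEtale (Localization.AtPrime p) Ash :=
    Groth.Agent.Lib.StrictHens.isIndEtale_of_isStrictHenselization Ash
  have hh : EtPBC.IsIndEtale (Localization.AtPrime p) Ah := isIndEtale_of_isHenselization' Ah
  have key2 : ∀ L' : Dual.D Ah, HasTorAmplitudeIn (Localization.AtPrime p) a b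
      ((restrictD (algebraMap (Localization.AtPrime p) Ah)).obj L') ↔
      HasTorAmplitudeIn Ah a b L' := fun L' => hasTorAmplitudeIn_restrictD_iff hh L' a b
  refine ⟨?_, key2 L⟩
  have h13 := hasTorAmplitudeIn_restrictD_iff hsh K a b
  have hcomp : algebraMap (Localization.AtPrime p) Ash =
      (algebraMap Ah Ash).comp (algebraMap (Localization.AtPrime p) Ah) :=
    IsScalarTower.algebraMap_eq (Localization.AtPrime p) Ah Ash
  have h12 : HasTorAmplitudeIn (Localization.AtPrime p) a b
      ((restrictD (algebraMap (Localization.AtPrime p) Ash)).obj K) ↔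
      HasTorAmplitudeIn Ah a b ((restrictD (algebraMap Ah Ash)).obj K) := by
    rw [← key2 ((restrictD (algebraMap Ah Ash)).obj K)]
    exact ⟨fun hx => hasTorAmplitudeIn_of_iso
        (restrictDCompIso (algebraMap (Localization.AtPrime p) Ah) (algebraMap Ah Ash)
          (algebraMap (Localization.AtPrime p) Ash) hcomp K) a b hx,
      fun hx => hasTorAmplitudeIn_of_iso
        (restrictDCompIso (algebraMap (Localization.AtPrime p) Ah) (algebraMap Ah Ash)
          (algebraMap (Localization.AtPrime p) Ash) hcomp K).symm a b hx⟩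
  tfae_have 1 ↔ 3 := h13
  tfae_have 1 ↔ 2 := h12
  tfae_finish

end

end Groth.Agent.Lib.TorAmpIndEtL
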