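import Mathlib
import Groth.Prelude.Def_DRing2
import Groth.Prelude.Def_DDual2
import Groth.Agent.Lib.DMod61_helper6
import Groth.Agent.Lib.DMod7_helper6
import Groth.Agent.Lib.DMod29_helper6

/-!
# Tor amplitude of an algebra over a localization of a polynomial ring (helper8)
-/

set_option autoImplicit false
universe u
open CategoryTheory CategoryTheory.Limits Pretriangulated DerivedCategory ZeroObject
open scoped TensorProduct
attribute [local instance] HasDerivedCategory.standard

namespace Groth.Agent.Lib.TorAmpLocH8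

open DRing Groth.Agent.Lib.DMod_helper6

attribute [local instance] MvPolynomial.algebraMvPolynomial

/-- tor amplitude of an algebra over a polynomial ring mapping to it (no surjectivity needed) -/
theorem torAmp_mvPoly (R U : Type u) [CommRing R] [CommRing U] [Algebra R U] (n e : ℕ)
    (h : HasTorAmplitudeIn R (-(e : ℤ)) 0 (Dual.inD R U))
    (φ : MvPolynomial (Fin n) R →ₐ[R] U) :
    letI := φ.toRingHom.toAlgebra
    HasTorAmplitudeIn (MvPolynomial (Fin n) R) (-((e + n : ℕ) : ℤ)) 0
      (Dual.inD (MvPolynomial (Fin n) R) U) := by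
  letI : Algebra (MvPolynomial (Fin n) R) U := φ.toRingHom.toAlgebra
  have he : HasTorDimLE R e U := hasTorDimLE_of_hasTorAmplitudeIn U (-(e : ℤ)) 0 e le_rfl h
  let b : Fin n → U := fun i => φ (MvPolynomial.X i)
  have hB := resTA_map R U n e he
  have hK : HasTorAmplitudeIn (MvPolynomial (Fin n) U) (-(n : ℤ)) 0
      ((restrictD (MvPolynomial.eval b)).obj (Dual.inD U U)) := resTA_eval n U b
  have h3 := hasTorAmplitudeIn_restrictD_of_torDim e hB _ (-(n : ℤ)) 0 hK
  have hgf : φ.toRingHom = (MvPolynomial.eval b).comp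
      (algebraMap (MvPolynomial (Fin n) R) (MvPolynomial (Fin n) U)) := by
    apply MvPolynomial.ringHom_ext
    · intro a
      show φ (MvPolynomial.C a) = MvPolynomial.eval b
        (MvPolynomial.map (algebraMap R U) (MvPolynomial.C a))
      rw [MvPolynomial.map_C, MvPolynomial.eval_C]
      exact φ.commutes a
    · intro i
      show φ (MvPolynomial.X i) = MvPolynomial.eval b
        (MvPolynomial.map (algebraMap R U) (MvPolynomial.X i))
      rw [MvPolynomial.map_X, MvPolynomial.eval_X]
  have h4 := hasTorAmplitudeIn_of_iso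
    (restrictDCompIso _ _ φ.toRingHom hgf (Dual.inD U U)).symm _ _ h3
  have h5 := hasTorAmplitudeIn_of_iso
    (restrictDInDSelfIso (A := MvPolynomial (Fin n) R) (B := U)) _ _ h4
  have hab : (-(n : ℤ) - (e : ℤ)) = -((e + n : ℕ) : ℤ) := by push_cast; ring
  rw [hab] at h5
  exact h5

/-- tor amplitude passes to a localization of the base through which the module structure
factors -/
theorem torAmp_of_isLocalization (P W U : Type u) [CommRing P] [CommRing W] [CommRing U]
    [Algebra P W] [Algebra W U] [Algebra P U] [IsScalarTower P W U] (S : Submonoid P)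
    [IsLocalization S W] (a b : ℤ)
    (h : HasTorAmplitudeIn P a b (Dual.inD P U)) : HasTorAmplitudeIn W a b (Dual.inD W U) := by
  haveI : Module.Flat P W := IsLocalization.flat W S
  have h2 := hasTorAmplitudeIn_baseChange (A := P) (B := W) a b U h
  haveI : IsLocalizedModule S (LinearMap.id : U →ₗ[P] U) := isLocalizedModule_id S U W
  have hbc : IsBaseChange W (LinearMap.id : U →ₗ[P] U) :=
    (isLocalizedModule_iff_isBaseChange S W _).mp inferInstance
  let eq : W ⊗[P] U ≃ₗ[W] U := hbc.equiv
  exact hasTorAmplitudeIn_of_iso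
    ((DerivedCategory.singleFunctor (ModuleCat.{u} W) 0).mapIso eq.toModuleIso) _ _ h2

set_option maxHeartbeats 1600000 in
/-- ring-level key lemma for S17643: tor amplitude over a local ring of `A[x₁..xₙ]` from tor amplitude
over a local ring of `A`. -/
theorem key {A : Type u} [CommRing A] (n : ℕ) {RY RW RU : Type u} [CommRing RY] [CommRing RW]
    [CommRing RU]
    (α : A →+* RY) (β : MvPolynomial (Fin n) A →+* RW) (γ : RY →+* RW) (δ : RW →+* RU)
    (hcomm : γ.comp α = β.comp MvPolynomial.C)
    (p : Ideal A) [p.IsPrime] (hα : letI := α.toAlgebra; IsLocalization.AtPrime RY p)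
    (Q : Ideal (MvPolynomial (Fin n) A)) [Q.IsPrime]
    (hβ : letI := β.toAlgebra; IsLocalization.AtPrime RW Q)
    (e : ℕ) (h : letI := (δ.comp γ).toAlgebra; HasTorAmplitudeIn RY (-(e:ℤ)) 0 (Dual.inD RY RU)) :
    letI := δ.toAlgebra; HasTorAmplitudeIn RW (-((e + n : ℕ) : ℤ)) 0 (Dual.inD RW RU) := by
  letI algAY : Algebra A RY := α.toAlgebra
  letI algAxW : Algebra (MvPolynomial (Fin n) A) RW := β.toAlgebra
  letI algWU : Algebra RW RU := δ.toAlgebra
  letI algYU : Algebra RY RU := (δ.comp γ).toAlgebra
  haveI : IsLocalization.AtPrime RY p := hα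
  haveI : IsLocalization.AtPrime RW Q := hβ
  -- the polynomial ring over `RY` and its maps
  let θ : MvPolynomial (Fin n) RY →+* RW :=
    MvPolynomial.eval₂Hom γ (fun i => β (MvPolynomial.X i))
  letI algPW : Algebra (MvPolynomial (Fin n) RY) RW := θ.toAlgebra
  let φ : MvPolynomial (Fin n) RY →ₐ[RY] RU :=
    MvPolynomial.aeval (fun i => δ (β (MvPolynomial.X i)))
  letI algPU : Algebra (MvPolynomial (Fin n) RY) RU := φ.toRingHom.toAlgebra
  haveI : IsScalarTower (MvPolynomial (Fin n) RY) RW RU := IsScalarTower.of_algebraMap_eq' (by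
    show φ.toRingHom = δ.comp θ
    apply MvPolynomial.ringHom_ext
    · intro r
      show φ (MvPolynomial.C r) = δ (θ (MvPolynomial.C r))
      rw [MvPolynomial.aeval_C]
      show δ (γ r) = δ (MvPolynomial.eval₂Hom γ (fun i => β (MvPolynomial.X i)) (MvPolynomial.C r))
      rw [MvPolynomial.eval₂Hom_C]
    · intro i
      show φ (MvPolynomial.X i) = δ (θ (MvPolynomial.X i))
      rw [MvPolynomial.aeval_X]
      show _ = δ (MvPolynomial.eval₂Hom γ (fun i => β (MvPolynomial.X i)) (MvPolynomial.X i))
      rw [MvPolynomial.eval₂Hom_X'])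
  haveI : IsScalarTower (MvPolynomial (Fin n) A) (MvPolynomial (Fin n) RY) RW :=
    IsScalarTower.of_algebraMap_eq' (by
      show β = θ.comp (MvPolynomial.map α)
      apply MvPolynomial.ringHom_ext
      · intro a
        show β (MvPolynomial.C a) = θ (MvPolynomial.map α (MvPolynomial.C a))
        rw [MvPolynomial.map_C]
        show _ = MvPolynomial.eval₂Hom γ (fun i => β (MvPolynomial.X i)) (MvPolynomial.C (α a))
        rw [MvPolynomial.eval₂Hom_C]
        exact (RingHom.congr_fun hcomm a).symm
      · intro i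
        show β (MvPolynomial.X i) = θ (MvPolynomial.map α (MvPolynomial.X i))
        rw [MvPolynomial.map_X]
        show _ = MvPolynomial.eval₂Hom γ (fun i => β (MvPolynomial.X i)) (MvPolynomial.X i)
        rw [MvPolynomial.eval₂Hom_X'])
  -- `RY[x]` is the localization of `A[x]` at the image of `A ∖ p`
  haveI hloc1 : IsLocalization (p.primeCompl.map (MvPolynomial.C (σ := Fin n)))
      (MvPolynomial (Fin n) RY) := MvPolynomial.isLocalization p.primeCompl RY
  have hle : p.primeCompl.map (MvPolynomial.C (σ := Fin n)) ≤ Q.primeCompl := by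
    rintro _ ⟨a, ha, rfl⟩
    show MvPolynomial.C a ∉ Q
    intro hQ
    have hu : IsUnit (α a) := IsLocalization.map_units RY (⟨a, ha⟩ : p.primeCompl)
    have hu2 : IsUnit (β (MvPolynomial.C a)) := by
      have := hu.map γ
      rwa [show γ (α a) = β (MvPolynomial.C a) from RingHom.congr_fun hcomm a] at this
    haveI : IsLocalRing RW := IsLocalization.AtPrime.isLocalRing RW Q
    have hmem : β (MvPolynomial.C a) ∈ IsLocalRing.maximalIdeal RW := by
      rw [← IsLocalization.AtPrime.map_eq_maximalIdeal Q RW]
      exact Ideal.mem_map_of_mem _ hQ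
    exact (IsLocalRing.mem_maximalIdeal _).mp hmem hu2
  haveI hloc2 : IsLocalization (Q.primeCompl.map (algebraMap (MvPolynomial (Fin n) A)
      (MvPolynomial (Fin n) RY))) RW :=
    IsLocalization.isLocalization_of_submonoid_le (MvPolynomial (Fin n) RY) RW _ _ hle
  have h1 := torAmp_mvPoly RY RU n e h φ
  exact torAmp_of_isLocalization (MvPolynomial (Fin n) RY) RW RU
    (Q.primeCompl.map (algebraMap (MvPolynomial (Fin n) A) (MvPolynomial (Fin n) RY))) _ _ h1

end Groth.Agent.Lib.TorAmpLocH8
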