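import Mathlib
import Groth.Agent.Lib.TorAR_helper5
import Groth.Agent.Lib.HomologyColim_helper5

/-!
# Uniform vanishing of the transition maps `Tor_i(M, R/I^a) → Tor_i(M, R/I^b)` (helper6), part 1

Additivity of `Tor` in the first variable, the predicate `ZM`, dimension shifting and the case of
finite modules.
-/

set_option autoImplicit false
universe u
open CategoryTheory CategoryTheory.Limits MonoidalCategory TensorProduct

namespace Groth.Agent.Lib.TorUnifH6

open Groth.Agent.TorLES Groth.Agent.TorNat Groth.Agent.TorAR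

variable {R : Type u} [CommRing R]

section additivity

lemma cxMap_add {X X' : ModuleCat.{u} R} (g g' : X ⟶ X')
    (C : ChainComplex (ModuleCat.{u} R) ℕ) :
    cxMap (g + g') C = cxMap g C + cxMap g' C := by
  apply HomologicalComplex.hom_ext
  intro i
  rw [HomologicalComplex.add_f_apply, cxMap_f, cxMap_f, cxMap_f]
  exact MonoidalPreadditive.add_whiskerRight ..

lemma tor_map_add_app {X X' : ModuleCat.{u} R} (g g' : X ⟶ X') (Y : ModuleCat.{u} R) (n : ℕ) :
    ((Tor (ModuleCat.{u} R) n).map (g + g')).app Y =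
      ((Tor (ModuleCat.{u} R) n).map g).app Y + ((Tor (ModuleCat.{u} R) n).map g').app Y := by
  rw [tor_map_app_eq, tor_map_app_eq, tor_map_app_eq, cxMap_add,
    HomologicalComplex.homologyMap_add, Preadditive.add_comp, Preadditive.comp_add]

instance tor_additive (n : ℕ) : (Tor (ModuleCat.{u} R) n).Additive where
  map_add {X X' g g'} := by
    ext Y : 2
    rw [NatTrans.app_add]
    exact tor_map_add_app g g' Y n

end additivity

section transition

variable (I : Ideal R)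

/-- the transition map `R/I^a → R/I^b`. -/
noncomputable def q (a b : ℕ) (h : b ≤ a) :
    ModuleCat.of R (R ⧸ I ^ a) ⟶ ModuleCat.of R (R ⧸ I ^ b) :=
  ModuleCat.ofHom (Submodule.mapQ (I ^ a) (I ^ b) LinearMap.id (Ideal.pow_le_pow_right h))

lemma q_comp (a b c : ℕ) (h : b ≤ a) (h' : c ≤ b) :
    q I a b h ≫ q I b c h' = q I a c (h'.trans h) := by
  unfold q
  rw [← ModuleCat.ofHom_comp]
  congr 1
  apply LinearMap.ext
  intro x
  obtain ⟨x, rfl⟩ := Submodule.Quotient.mk_surjective _ x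
  rfl

/-- `ZM I i X c`: all transition maps `Tor_i(X, R/I^a) → Tor_i(X, R/I^b)` with `b + c ≤ a`
vanish. -/
def ZM (i : ℕ) (X : ModuleCat.{u} R) (c : ℕ) : Prop :=
  ∀ (a b : ℕ) (h : b + c ≤ a),
    ((Tor (ModuleCat.{u} R) i).obj X).map (q I a b (le_trans (Nat.le_add_right b c) h)) = 0

variable {I}

lemma ZM.apply {i : ℕ} {X : ModuleCat.{u} R} {c : ℕ} (hz : ZM I i X c) (a b : ℕ) (h : b + c ≤ a)
    (h' : b ≤ a) : ((Tor (ModuleCat.{u} R) i).obj X).map (q I a b h') = 0 :=
  hz a b h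

lemma ZM.mono {i : ℕ} {X : ModuleCat.{u} R} {c c' : ℕ} (hz : ZM I i X c) (hc : c ≤ c') :
    ZM I i X c' := by
  intro a b h
  have h1 : b + c ≤ a := by omega
  exact hz a b h1

/-- `ZM` passes to a module `G` which is a finite "sum" of copies of `X`. -/
lemma ZM.of_decomp {i : ℕ} {X G : ModuleCat.{u} R} {c : ℕ} (hz : ZM I i X c)
    {J : Type*} (s : Finset J) (p : J → (G ⟶ X)) (ι : J → (X ⟶ G))
    (hsum : ∑ j ∈ s, p j ≫ ι j = 𝟙 G) : ZM I i G c := by
  intro a b h
  set π := q I a b (le_trans (Nat.le_add_right b c) h) with hπ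
  have h1 : ((Tor (ModuleCat.{u} R) i).obj G).map π =
      ((Tor (ModuleCat.{u} R) i).map (𝟙 G)).app _ ≫ ((Tor (ModuleCat.{u} R) i).obj G).map π := by
    rw [CategoryTheory.Functor.map_id, NatTrans.id_app, Category.id_comp]
  rw [h1, ← hsum, Functor.map_sum, NatTrans.app_sum, Preadditive.sum_comp]
  apply Finset.sum_eq_zero
  intro j _
  rw [Functor.map_comp, NatTrans.comp_app, Category.assoc,
    ← ((Tor (ModuleCat.{u} R) i).map (ι j)).naturality π, hz a b h, zero_comp, comp_zero]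

lemma ZM.pi {i : ℕ} {X : Type u} [AddCommGroup X] [Module R X] {c : ℕ}
    (hz : ZM I i (ModuleCat.of R X) c) (k : ℕ) : ZM I i (ModuleCat.of R (Fin k → X)) c := by
  refine hz.of_decomp Finset.univ (fun j => ModuleCat.ofHom (LinearMap.proj j))
    (fun j => ModuleCat.ofHom (LinearMap.single R (fun _ => X) j)) ?_
  apply ModuleCat.hom_ext
  rw [ModuleCat.hom_sum]
  apply LinearMap.ext
  intro v
  rw [LinearMap.sum_apply]
  simp only [ModuleCat.hom_comp, ModuleCat.hom_ofHom, LinearMap.comp_apply, LinearMap.proj_apply,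
    LinearMap.single_apply, ModuleCat.hom_id, LinearMap.id_apply]
  funext l
  rw [Finset.sum_apply]
  simp [Pi.single_apply]

end transition

section shift

variable (S : ShortComplex (ModuleCat.{u} R)) (hS : S.ShortExact)

/-- exactness at `Tor_{n+1}(X₃, Y)`. -/
lemma exists_tor_map_g_eq (n : ℕ) (Y : ModuleCat.{u} R)
    (x : ((Tor (ModuleCat.{u} R) (n + 1)).obj S.X₃).obj Y) (hx : torδ S hS n Y x = 0) :
    ∃ y, ((Tor (ModuleCat.{u} R) (n + 1)).map S.g).app Y y = x := by
  unfold torδ at hx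
  have hx1 : (torIsoH S.X₁ Y n).inv (δH S hS n Y ((torIsoH S.X₃ Y (n + 1)).hom x)) = 0 := hx
  have hx2 : δH S hS n Y ((torIsoH S.X₃ Y (n + 1)).hom x) = 0 := by
    have := congrArg (torIsoH S.X₁ Y n).hom hx1
    rwa [map_zero, ← ConcreteCategory.comp_apply, Iso.inv_hom_id, ConcreteCategory.id_apply]
      at this
  obtain ⟨w, hw⟩ := (ShortComplex.moduleCat_exact_iff _).mp
    ((sE S hS Y).homology_exact₃ (n + 1) n (by simp)) _ hx2
  refine ⟨(torIsoH S.X₂ Y (n + 1)).inv w, ?_⟩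
  rw [tor_map_app_eq]
  change (torIsoH S.X₃ Y (n + 1)).inv (HomologicalComplex.homologyMap
    (cxMap S.g (ProjectiveResolution.of Y).complex) (n + 1)
      ((torIsoH S.X₂ Y (n + 1)).hom ((torIsoH S.X₂ Y (n + 1)).inv w))) = x
  rw [← ConcreteCategory.comp_apply (torIsoH S.X₂ Y (n + 1)).inv, Iso.inv_hom_id,
    ConcreteCategory.id_apply]
  have hw' : HomologicalComplex.homologyMap
      (cxMap S.g (ProjectiveResolution.of Y).complex) (n + 1) w =
      (torIsoH S.X₃ Y (n + 1)).hom x := hw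
  rw [hw', ← ConcreteCategory.comp_apply, Iso.hom_inv_id, ConcreteCategory.id_apply]

/-- general two-step vanishing: if `Tor_n(X₁, π₁)` kills the image of the connecting map and
`Tor_{n+1}(X₂, π₂) = 0` then `Tor_{n+1}(X₃, π₁ ≫ π₂) = 0`. -/
lemma tor_map_comp_eq_zero (n : ℕ) {Y Y' Y'' : ModuleCat.{u} R} (π₁ : Y ⟶ Y') (π₂ : Y' ⟶ Y'')
    (h1 : torδ S hS n Y ≫ ((Tor (ModuleCat.{u} R) n).obj S.X₁).map π₁ = 0)
    (h2 : ((Tor (ModuleCat.{u} R) (n + 1)).obj S.X₂).map π₂ = 0) :
    ((Tor (ModuleCat.{u} R) (n + 1)).obj S.X₃).map (π₁ ≫ π₂) = 0 := by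
  apply ModuleCat.hom_ext
  apply LinearMap.ext
  intro x
  rw [Functor.map_comp]
  change (((Tor (ModuleCat.{u} R) (n + 1)).obj S.X₃).map π₂)
    ((((Tor (ModuleCat.{u} R) (n + 1)).obj S.X₃).map π₁) x) = 0
  set x' := (((Tor (ModuleCat.{u} R) (n + 1)).obj S.X₃).map π₁) x with hx'
  have hδ : torδ S hS n Y' x' = 0 := by
    have := congrArg (fun g => g.hom x) (torδ_naturality S hS n π₁)
    have h3 : torδ S hS n Y' x' =
        (((Tor (ModuleCat.{u} R) n).obj S.X₁).map π₁) (torδ S hS n Y x) := this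
    rw [h3]
    exact congrArg (fun g => g.hom x) h1
  obtain ⟨y, hy⟩ := exists_tor_map_g_eq S hS n Y' x' hδ
  rw [← hy]
  have hnat := congrArg (fun g => g.hom y)
    (((Tor (ModuleCat.{u} R) (n + 1)).map S.g).naturality π₂)
  have h4 : (((Tor (ModuleCat.{u} R) (n + 1)).obj S.X₃).map π₂)
      (((Tor (ModuleCat.{u} R) (n + 1)).map S.g).app Y' y) =
      ((Tor (ModuleCat.{u} R) (n + 1)).map S.g).app Y''
        ((((Tor (ModuleCat.{u} R) (n + 1)).obj S.X₂).map π₂) y) := hnat.symm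
  rw [h4, h2]
  exact map_zero _

include hS in
/-- dimension shifting for vanishing of a map: if `Tor_{n+1}(X₂, Y') = 0`, then vanishing of
`Tor_n(X₁, π)` implies vanishing of `Tor_{n+1}(X₃, π)`. -/
lemma tor_map_eq_zero_of_shift (n : ℕ) {Y Y' : ModuleCat.{u} R} (π : Y ⟶ Y')
    (h2 : IsZero (((Tor (ModuleCat.{u} R) (n + 1)).obj S.X₂).obj Y'))
    (h1 : ((Tor (ModuleCat.{u} R) n).obj S.X₁).map π = 0) :
    ((Tor (ModuleCat.{u} R) (n + 1)).obj S.X₃).map π = 0 := by
  have := mono_torδ S hS n Y' h2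
  rw [← cancel_mono (torδ S hS n Y'), torδ_naturality, h1, comp_zero, zero_comp]

end shift

section torZero

variable {K G M : Type u} [AddCommGroup K] [Module R K] [AddCommGroup G] [Module R G]
  [AddCommGroup M] [Module R M] (i : K →ₗ[R] G) (p : G →ₗ[R] M)
  (hi : Function.Injective i) (hip : Function.Exact i p) (hp : Function.Surjective p)

include hi hp in
/-- the degree zero step: an Artin–Rees type condition on `K ⊆ G` forces the composite
`Tor_1(M, R/I^a) → Tor_0(K, R/I^a) → Tor_0(K, R/I^b)` to vanish. -/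
lemma torδ_zero_comp_eq_zero (I : Ideal R) (a b : ℕ) (hab : b ≤ a)
    (hAR : ∀ x : K, i x ∈ (I ^ a • ⊤ : Submodule R G) → x ∈ (I ^ b • ⊤ : Submodule R K)) :
    torδ (ShortComplex.moduleCatMk i p hip.linearMap_comp_eq_zero)
        (mk_shortExact i p hi hip hp) 0 (ModuleCat.of R (R ⧸ I ^ a)) ≫
      ((Tor (ModuleCat.{u} R) 0).obj (ModuleCat.of R K)).map (q I a b hab) = 0 := by
  have hS := mk_shortExact i p hi hip hp
  set S := ShortComplex.moduleCatMk i p hip.linearMap_comp_eq_zero with hSdef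
  let Ym := ModuleCat.of R (R ⧸ I ^ a)
  let Yn := ModuleCat.of R (R ⧸ I ^ b)
  let π : Ym ⟶ Yn := q I a b hab
  have hτinj : Function.Injective (τ S.X₁ Yn).hom :=
    (ModuleCat.mono_iff_injective _).mp inferInstance
  apply ModuleCat.hom_ext
  apply LinearMap.ext
  intro x
  change ((Tor (ModuleCat.{u} R) 0).obj S.X₁).map π (torδ S hS 0 Ym x) = 0
  apply hτinj
  refine Eq.trans ?_ (map_zero _).symm
  have hnat2 : (τ S.X₁ Yn).hom (((Tor (ModuleCat.{u} R) 0).obj S.X₁).map π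
      (torδ S hS 0 Ym x)) = (S.X₁ ◁ π) ((τ S.X₁ Ym).hom (torδ S hS 0 Ym x)) :=
    congrArg (fun g => g.hom (torδ S hS 0 Ym x)) (τ_naturality_right S.X₁ π)
  refine hnat2.trans ?_
  set v := (τ S.X₁ Ym).hom (torδ S hS 0 Ym x) with hv
  have hv0 : (S.f ▷ Ym) v = 0 := by
    have h1 := torδ_comp S hS 0 Ym
    have h2 := τ_naturality_left S.f Ym
    have h3 : (torδ S hS 0 Ym ≫ ((Tor (ModuleCat.{u} R) 0).map S.f).app Ym ≫ (τ S.X₂ Ym).hom) x =
        0 := by
      rw [reassoc_of% h1, zero_comp]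
      rfl
    rw [h2] at h3
    exact h3
  change K ⊗[R] (R ⧸ I ^ a) at v
  obtain ⟨y, hy⟩ := exists_tmul_one (I ^ a) v
  have hy1 : (i y) ⊗ₜ[R] (1 : R ⧸ I ^ a) = 0 := by
    have h4 : (S.f ▷ Ym) v = (i y) ⊗ₜ[R] (1 : R ⧸ I ^ a) := by
      rw [hy]
      exact ModuleCat.MonoidalCategory.whiskerRight_apply (L := S.X₁) (M := S.X₂) S.f Ym y
        (1 : R ⧸ I ^ a)
    exact h4.symm.trans hv0
  rw [tmul_one_eq_zero_iff] at hy1
  have hy2 := hAR y hy1
  have h5 : (S.X₁ ◁ π) v = y ⊗ₜ[R] (1 : R ⧸ I ^ b) := by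
    rw [hy]
    refine (ModuleCat.MonoidalCategory.whiskerLeft_apply S.X₁ π y (1 : R ⧸ I ^ a)).trans ?_
    rfl
  refine h5.trans ?_
  exact (tmul_one_eq_zero_iff (I ^ b) y).mpr hy2

end torZero

section finite

variable [IsNoetherianRing R] (I : Ideal R)

/-- Artin–Rees for `Tor_1(M, -)`, `M` finite, with a uniform shift. -/
theorem exists_ZM_one (M : Type u) [AddCommGroup M] [Module R M] [Module.Finite R M] :
    ∃ c, ZM I 1 (ModuleCat.of R M) c := by
  obtain ⟨k, f, hf⟩ := Module.Finite.exists_fin' R M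
  obtain ⟨c, hc⟩ := Ideal.exists_pow_inf_eq_pow_smul I (LinearMap.ker f)
  refine ⟨c, fun a b h => ?_⟩
  have hab : b ≤ a := le_trans (Nat.le_add_right b c) h
  have hAR : ∀ x : LinearMap.ker f,
      (LinearMap.ker f).subtype x ∈ (I ^ a • ⊤ : Submodule R (Fin k → R)) →
      x ∈ (I ^ b • ⊤ : Submodule R (LinearMap.ker f)) := by
    intro x hx
    have h1 : (x : Fin k → R) ∈ I ^ a • (⊤ : Submodule R (Fin k → R)) ⊓ LinearMap.ker f :=
      ⟨hx, x.2⟩
    rw [hc a (by omega)] at h1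
    have h2 : I ^ (a - c) • (I ^ c • (⊤ : Submodule R (Fin k → R)) ⊓ LinearMap.ker f) ≤
        Submodule.map (LinearMap.ker f).subtype (I ^ b • ⊤) := by
      rw [Submodule.map_smul'', Submodule.map_subtype_top]
      exact Submodule.smul_mono (Ideal.pow_le_pow_right (by omega)) inf_le_right
    obtain ⟨y, hy, hyx⟩ := h2 h1
    have : y = x := Subtype.val_injective hyx
    rwa [← this]
  have h1 := torδ_zero_comp_eq_zero (LinearMap.ker f).subtype f Subtype.val_injective
    (LinearMap.exact_subtype_ker_map f) hf I a b hab hAR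
  have h2 : ((Tor (ModuleCat.{u} R) 1).obj (ModuleCat.of R (Fin k → R))).map
      (𝟙 (ModuleCat.of R (R ⧸ I ^ b))) = 0 :=
    (isZero_tor_succ_of_flat_left (ModuleCat.of R (Fin k → R)) _ 0).eq_of_src _ _
  have h3 := tor_map_comp_eq_zero _ (mk_shortExact (LinearMap.ker f).subtype f
    Subtype.val_injective (LinearMap.exact_subtype_ker_map f) hf) 0 (q I a b hab) (𝟙 _) h1 h2
  rwa [Category.comp_id] at h3

/-- Artin–Rees for `Tor_{i+1}(M, -)`, `M` finite, with a uniform shift. -/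
theorem exists_ZM_succ : ∀ (i : ℕ) (M : Type u) [AddCommGroup M] [Module R M]
    [Module.Finite R M], ∃ c, ZM I (i + 1) (ModuleCat.of R M) c
  | 0, M, _, _, _ => exists_ZM_one I M
  | i + 1, M, _, _, _ => by
    obtain ⟨k, f, hf⟩ := Module.Finite.exists_fin' R M
    obtain ⟨c, hc⟩ := exists_ZM_succ i (LinearMap.ker f)
    refine ⟨c, fun a b h => ?_⟩
    exact tor_map_eq_zero_of_shift _ (mk_shortExact (LinearMap.ker f).subtype f
      Subtype.val_injective (LinearMap.exact_subtype_ker_map f) hf) (i + 1) _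
      (isZero_tor_succ_of_flat_left (ModuleCat.of R (Fin k → R)) _ (i + 1)) (hc a b h)

end finite

end Groth.Agent.Lib.TorUnifH6
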