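import Mathlib
import Groth.Agent.Lib.TorBal2_helper5
import Groth.Agent.Lib.TorUnif1_helper6

/-!
# `Tor_i(M, A/I^q)` for `i` larger than the number of generators of `I` (helper6), part 1

Linearity of `Tor_n(X, -)` (`tor_map_smul`), the predicate `TZ n f`
(`Tor_n(X, f) = 0` for all `X`).
-/

set_option autoImplicit false
universe u
open CategoryTheory CategoryTheory.Limits MonoidalCategory TensorProduct

namespace Groth.Agent.Lib.TorAnnH6

open Groth.Agent.TorLES Groth.Agent.TorNat Groth.Agent.TorAR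

variable {R : Type u} [CommRing R]

section linear

lemma whiskerLeft_smul_id (a : R) (X Y : ModuleCat.{u} R) :
    X ◁ (a • 𝟙 Y) = a • 𝟙 (X ⊗ Y) := by
  apply ModuleCat.MonoidalCategory.tensor_ext
  intro x y
  rw [ModuleCat.MonoidalCategory.whiskerLeft_apply]
  change x ⊗ₜ[R] (a • y) = a • (x ⊗ₜ[R] y)
  rw [TensorProduct.tmul_smul]

/-- the standard short exact sequence `0 → K → (X →₀ R) → X → 0`. -/
noncomputable abbrev stdS (X : Type u) [AddCommGroup X] [Module R X] :
    ShortComplex (ModuleCat.{u} R) :=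
  ShortComplex.moduleCatMk (R := R) (X₁ := LinearMap.ker (presG (R := R) X)) (X₂ := (X →₀ R))
    (X₃ := X) (Submodule.subtype (LinearMap.ker (presG (R := R) X))) (presG (R := R) X)
    (LinearMap.exact_subtype_ker_map (presG (R := R) X)).linearMap_comp_eq_zero

lemma stdS_shortExact (X : Type u) [AddCommGroup X] [Module R X] :
    (stdS (R := R) X).ShortExact :=
  @mk_shortExact R _ (LinearMap.ker (presG (R := R) X)) (X →₀ R) X _ _ _ _ _ _
    (Submodule.subtype (LinearMap.ker (presG (R := R) X))) (presG (R := R) X)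
    (Submodule.injective_subtype _) (LinearMap.exact_subtype_ker_map (presG (R := R) X))
    (presG_surjective X)

lemma isZero_tor_succ_stdS_X₂ (X : Type u) [AddCommGroup X] [Module R X] (Y : ModuleCat.{u} R)
    (n : ℕ) : IsZero (((Tor (ModuleCat.{u} R) (n + 1)).obj (stdS (R := R) X).X₂).obj Y) :=
  isZero_tor_succ_of_flat_left (ModuleCat.of R (X →₀ R)) Y n

/-- `Tor_n(X, -)` is additive. -/
theorem tor_map_add (n : ℕ) : ∀ (X : Type u) [AddCommGroup X] [Module R X]
    {Y Y' : ModuleCat.{u} R} (f g : Y ⟶ Y'),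
    ((Tor (ModuleCat.{u} R) n).obj (ModuleCat.of R X)).map (f + g) =
      ((Tor (ModuleCat.{u} R) n).obj (ModuleCat.of R X)).map f +
        ((Tor (ModuleCat.{u} R) n).obj (ModuleCat.of R X)).map g := by
  induction n with
  | zero =>
    intro X _ _ Y Y' f g
    rw [← cancel_mono (τ (ModuleCat.of R X) Y').hom, Preadditive.add_comp,
      τ_naturality_right, τ_naturality_right, τ_naturality_right,
      MonoidalPreadditive.whiskerLeft_add, Preadditive.comp_add]
  | succ n ih =>
    intro X _ _ Y Y' f g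
    have hS := stdS_shortExact (R := R) X
    have hmono : Mono (torδ (stdS (R := R) X) hS n Y') :=
      mono_torδ _ hS n Y' (isZero_tor_succ_stdS_X₂ X Y' n)
    change ((Tor (ModuleCat.{u} R) (n + 1)).obj (stdS (R := R) X).X₃).map (f + g) =
      ((Tor (ModuleCat.{u} R) (n + 1)).obj (stdS (R := R) X).X₃).map f +
        ((Tor (ModuleCat.{u} R) (n + 1)).obj (stdS (R := R) X).X₃).map g
    rw [← cancel_mono (torδ (stdS (R := R) X) hS n Y'), Preadditive.add_comp,
      torδ_naturality, torδ_naturality, torδ_naturality]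
    change _ ≫ ((Tor (ModuleCat.{u} R) n).obj (ModuleCat.of R _)).map (f + g) = _
    rw [ih, Preadditive.comp_add]
    rfl

/-- `Tor_n(X, -)` is `R`-linear. -/
theorem tor_map_smul (a : R) (n : ℕ) : ∀ (X : Type u) [AddCommGroup X] [Module R X]
    (Y : ModuleCat.{u} R),
    ((Tor (ModuleCat.{u} R) n).obj (ModuleCat.of R X)).map (a • 𝟙 Y) = a • 𝟙 _ := by
  induction n with
  | zero =>
    intro X _ _ Y
    have h := τ_naturality_right (ModuleCat.of R X) (a • 𝟙 Y)
    rw [whiskerLeft_smul_id, Linear.comp_smul, Category.comp_id] at h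
    rw [← cancel_mono (τ (ModuleCat.of R X) Y).hom, h, Linear.smul_comp, Category.id_comp]
  | succ n ih =>
    intro X _ _ Y
    have hS := stdS_shortExact (R := R) X
    have hmono : Mono (torδ (stdS (R := R) X) hS n Y) :=
      mono_torδ _ hS n Y (isZero_tor_succ_stdS_X₂ X Y n)
    have h := torδ_naturality (stdS (R := R) X) hS n (a • 𝟙 Y)
    rw [ih] at h
    change ((Tor (ModuleCat.{u} R) (n + 1)).obj (stdS (R := R) X).X₃).map (a • 𝟙 Y) =
      a • 𝟙 (((Tor (ModuleCat.{u} R) (n + 1)).obj (stdS (R := R) X).X₃).obj Y)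
    rw [← cancel_mono (torδ (stdS (R := R) X) hS n Y), h, Linear.comp_smul, Category.comp_id,
      Linear.smul_comp, Category.id_comp]

lemma tor_map_smul_apply (a : R) (n : ℕ) (X : Type u) [AddCommGroup X] [Module R X]
    (Y : ModuleCat.{u} R)
    (x : ((Tor (ModuleCat.{u} R) n).obj (ModuleCat.of R X)).obj Y) :
    ((Tor (ModuleCat.{u} R) n).obj (ModuleCat.of R X)).map (a • 𝟙 Y) x = a • x := by
  rw [tor_map_smul]
  rfl

end linear

section TZ

/-- `Tor_n(X, f) = 0` for every module `X`. -/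
def TZ (n : ℕ) {Y Y' : ModuleCat.{u} R} (f : Y ⟶ Y') : Prop :=
  ∀ (X : Type u) [AddCommGroup X] [Module R X],
    ((Tor (ModuleCat.{u} R) n).obj (ModuleCat.of R X)).map f = 0

lemma TZ.comp_right {n : ℕ} {Y Y' Y'' : ModuleCat.{u} R} {f : Y ⟶ Y'} (h : TZ n f)
    (g : Y' ⟶ Y'') : TZ n (f ≫ g) := by
  intro X _ _
  rw [Functor.map_comp, h X, zero_comp]

lemma TZ.comp_left {n : ℕ} {Y Y' Y'' : ModuleCat.{u} R} {g : Y' ⟶ Y''} (h : TZ n g)
    (f : Y ⟶ Y') : TZ n (f ≫ g) := by
  intro X _ _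
  rw [Functor.map_comp, h X, comp_zero]

lemma TZ.add {n : ℕ} {Y Y' : ModuleCat.{u} R} {f g : Y ⟶ Y'} (hf : TZ n f) (hg : TZ n g) :
    TZ n (f + g) := by
  intro X _ _
  rw [tor_map_add, hf X, hg X, add_zero]

lemma TZ.of_isZero_src {n : ℕ} {Y Y' : ModuleCat.{u} R} (f : Y ⟶ Y')
    (h : ∀ (X : Type u) [AddCommGroup X] [Module R X],
      IsZero (((Tor (ModuleCat.{u} R) n).obj (ModuleCat.of R X)).obj Y)) : TZ n f := by
  intro X _ _
  exact (h X).eq_of_src _ _

end TZ

end Groth.Agent.Lib.TorAnnH6
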