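import Mathlib
import Groth.Agent.Lib.TorAnn1_helper6

/-!
# `Tor_i(M, A/I^q)` for `i` larger than the number of generators of `I` (helper6), part 2

Change of rings along `R → R' = R/(θ)` with `θ` a nonzerodivisor: the modules `X →₀ R'`
over `R`.
-/

set_option autoImplicit false
universe u
open CategoryTheory CategoryTheory.Limits MonoidalCategory TensorProduct

namespace Groth.Agent.Lib.TorAnnH6

open Groth.Agent.TorLES Groth.Agent.TorNat Groth.Agent.TorAR

section shift

variable {R : Type u} [CommRing R]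

/-- dimension shifting for `Tor_{k+1}(X, f) = 0` (first variable). -/
lemma tor_map_eq_zero_succ (S : ShortComplex (ModuleCat.{u} R)) (hS : S.ShortExact) (k : ℕ)
    {Y Y₂ : ModuleCat.{u} R} (f : Y ⟶ Y₂)
    (h2 : IsZero (((Tor (ModuleCat.{u} R) (k + 1)).obj S.X₂).obj Y₂))
    (h : ((Tor (ModuleCat.{u} R) k).obj S.X₁).map f = 0) :
    ((Tor (ModuleCat.{u} R) (k + 1)).obj S.X₃).map f = 0 := by
  have hmono : Mono (torδ S hS k Y₂) := mono_torδ S hS k Y₂ h2
  rw [← cancel_mono (torδ S hS k Y₂), torδ_naturality, h, comp_zero, zero_comp]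

/-- dimension shifting downwards for `Tor_k(X₁, f) = 0`. -/
lemma tor_map_eq_zero_pred (S : ShortComplex (ModuleCat.{u} R)) (hS : S.ShortExact) (k : ℕ)
    {Y Y₂ : ModuleCat.{u} R} (f : Y ⟶ Y₂)
    (h2 : IsZero (((Tor (ModuleCat.{u} R) k).obj S.X₂).obj Y))
    (h : ((Tor (ModuleCat.{u} R) (k + 1)).obj S.X₃).map f = 0) :
    ((Tor (ModuleCat.{u} R) k).obj S.X₁).map f = 0 := by
  have hepi : Epi (torδ S hS k Y) := epi_torδ S hS k Y h2
  rw [← cancel_epi (torδ S hS k Y), ← torδ_naturality, h, comp_zero, zero_comp]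

end shift

section quot

variable {R R' : Type u} [CommRing R] [CommRing R'] [Algebra R R']
variable (θ : R) (hθ : IsSMulRegular R θ)
  (hker : RingHom.ker (algebraMap R R') = Ideal.span {θ})
  (hsurj : Function.Surjective (algebraMap R R'))

/-- reduction of the coefficients `(X →₀ R) → (X →₀ R')`. -/
noncomputable def red (X : Type u) : (X →₀ R) →ₗ[R] (X →₀ R') :=
  Finsupp.mapRange.linearMap (Algebra.linearMap R R')

lemma red_apply (X : Type u) (v : X →₀ R) (x : X) : red (R' := R') X v x = algebraMap R R' (v x) :=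
  rfl

include hsurj in
lemma red_surjective (X : Type u) : Function.Surjective (red (R := R) (R' := R') X) := by
  intro w
  obtain ⟨v, hv⟩ := Finsupp.mapRange_surjective (algebraMap R R') (map_zero _) hsurj w
  exact ⟨v, hv⟩

include hθ hker in
lemma red_exact (X : Type u) :
    Function.Exact (LinearMap.lsmul R (X →₀ R) θ) (red (R := R) (R' := R') X) := by
  classical
  intro v
  constructor
  · intro hv
    have hmem : ∀ x, v x ∈ Ideal.span {θ} := by
      intro x
      rw [← hker, RingHom.mem_ker, ← red_apply, hv]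
      rfl
    obtain ⟨g, hg⟩ : ∃ g : R → R, ∀ r, r ∈ Ideal.span {θ} → θ * g r = r := by
      refine ⟨fun r => if h : r ∈ Ideal.span {θ} then (Ideal.mem_span_singleton'.mp h).choose
        else 0, fun r hr => ?_⟩
      change θ * (if h : r ∈ Ideal.span {θ} then (Ideal.mem_span_singleton'.mp h).choose
        else 0) = r
      rw [dif_pos hr, mul_comm]
      exact (Ideal.mem_span_singleton'.mp hr).choose_spec
    have hg0 : g 0 = 0 := by
      apply hθ
      change θ • g 0 = θ • 0
      rw [smul_eq_mul, smul_eq_mul, mul_zero]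
      exact hg 0 (zero_mem _)
    refine ⟨v.mapRange g hg0, ?_⟩
    ext x
    rw [LinearMap.lsmul_apply, Finsupp.smul_apply, Finsupp.mapRange_apply, smul_eq_mul]
    exact hg _ (hmem x)
  · rintro ⟨w, rfl⟩
    ext x
    rw [red_apply, LinearMap.lsmul_apply, Finsupp.smul_apply, smul_eq_mul, map_mul]
    have : algebraMap R R' θ = 0 := by
      rw [← RingHom.mem_ker, hker]
      exact Ideal.mem_span_singleton_self θ
    rw [this, zero_mul]
    rfl

include hker in
lemma algebraMap_theta : algebraMap R R' θ = 0 := by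
  rw [← RingHom.mem_ker, hker]
  exact Ideal.mem_span_singleton_self θ

lemma red_comp_lsmul (h0 : algebraMap R R' θ = 0) (X : Type u) :
    red (R := R) (R' := R') X ∘ₗ LinearMap.lsmul R (X →₀ R) θ = 0 := by
  apply LinearMap.ext
  intro v
  ext y
  rw [LinearMap.comp_apply, red_apply, LinearMap.lsmul_apply, Finsupp.smul_apply, smul_eq_mul,
    map_mul, h0, zero_mul]
  rfl

/-- the short exact sequence `0 → (X →₀ R) → (X →₀ R) → (X →₀ R') → 0` of `R`-modules. -/
noncomputable abbrev redS (h0 : algebraMap R R' θ = 0) (X : Type u) :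
    ShortComplex (ModuleCat.{u} R) :=
  ShortComplex.moduleCatMk (R := R) (X₁ := (X →₀ R)) (X₂ := (X →₀ R)) (X₃ := (X →₀ R'))
    (LinearMap.lsmul R (X →₀ R) θ) (red (R := R) (R' := R') X) (red_comp_lsmul θ h0 X)

include hθ hker hsurj in
lemma redS_shortExact (X : Type u) :
    (redS (R' := R') θ (algebraMap_theta θ hker) X).ShortExact :=
  @mk_shortExact R _ (X →₀ R) (X →₀ R) (X →₀ R') _ _ _ _ _ _
    (LinearMap.lsmul R (X →₀ R) θ) (red (R := R) (R' := R') X)
    (isSMulRegular_finsupp θ X hθ) (red_exact θ hθ hker X) (red_surjective hsurj X)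

end quot

section free

variable {R R' : Type u} [CommRing R] [CommRing R'] [Algebra R R']
variable (θ : R) (hθ : IsSMulRegular R θ)
  (hker : RingHom.ker (algebraMap R R') = Ideal.span {θ})
  (hsurj : Function.Surjective (algebraMap R R'))

include hθ hker hsurj in
/-- `Tor_k^R(X →₀ R', Y) = 0` for `k ≥ 2`. -/
lemma isZero_tor_free (X : Type u) (Y : ModuleCat.{u} R) (n : ℕ) :
    IsZero (((Tor (ModuleCat.{u} R) (n + 2)).obj (ModuleCat.of R (X →₀ R'))).obj Y) :=
  isZero_tor_succ_right Y _ (redS_shortExact θ hθ hker hsurj X) (n + 1)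
    (isZero_tor_succ_of_flat_left (ModuleCat.of R (X →₀ R)) Y (n + 1))
    (isZero_tor_succ_of_flat_left (ModuleCat.of R (X →₀ R)) Y n)

lemma finsuppScalarLeft_rTensor_lsmul (X : Type u) [DecidableEq X] (Y : Type u) [AddCommGroup Y]
    [Module R Y]
    (v : (X →₀ R) ⊗[R] Y) :
    TensorProduct.finsuppScalarLeft R Y X ((LinearMap.lsmul R (X →₀ R) θ).rTensor Y v) =
      θ • TensorProduct.finsuppScalarLeft R Y X v := by
  induction v using TensorProduct.induction_on with
  | zero => rw [map_zero, map_zero, smul_zero]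
  | tmul p y =>
    rw [LinearMap.rTensor_tmul, LinearMap.lsmul_apply, ← TensorProduct.smul_tmul', map_smul]
  | add a b ha hb => rw [map_add, map_add, ha, hb, map_add, smul_add]

lemma finsuppScalarLeft_lTensor (X : Type u) [DecidableEq X] {Y Y₁ : Type u} [AddCommGroup Y]
    [Module R Y]
    [AddCommGroup Y₁] [Module R Y₁] (φ : Y →ₗ[R] Y₁) (v : (X →₀ R) ⊗[R] Y) (x : X) :
    TensorProduct.finsuppScalarLeft R Y₁ X (φ.lTensor (X →₀ R) v) x =
      φ (TensorProduct.finsuppScalarLeft R Y X v x) := by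
  induction v using TensorProduct.induction_on with
  | zero => rw [map_zero, map_zero, Finsupp.zero_apply, map_zero, Finsupp.zero_apply, map_zero]
  | tmul p y =>
    rw [LinearMap.lTensor_tmul, TensorProduct.finsuppScalarLeft_apply_tmul_apply,
      TensorProduct.finsuppScalarLeft_apply_tmul_apply, map_smul]
  | add a b ha hb =>
    rw [map_add, map_add, Finsupp.add_apply, ha, hb, map_add, Finsupp.add_apply, map_add]

/-- a map killing the `θ`-torsion kills the `θ`-torsion of `(X →₀ R) ⊗ Y`. -/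
lemma lTensor_eq_zero_of_rTensor_lsmul (X : Type u) {Y Y₁ : Type u} [AddCommGroup Y] [Module R Y]
    [AddCommGroup Y₁] [Module R Y₁] (φ : Y →ₗ[R] Y₁) (hφ : ∀ y : Y, θ • y = 0 → φ y = 0)
    (v : (X →₀ R) ⊗[R] Y) (hv : (LinearMap.lsmul R (X →₀ R) θ).rTensor Y v = 0) :
    φ.lTensor (X →₀ R) v = 0 := by
  classical
  apply (TensorProduct.finsuppScalarLeft R Y₁ X).injective
  rw [map_zero]
  ext x
  rw [finsuppScalarLeft_lTensor, Finsupp.zero_apply]
  apply hφ
  have h1 := finsuppScalarLeft_rTensor_lsmul θ X Y v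
  rw [hv, map_zero] at h1
  have h2 := DFunLike.congr_fun h1 x
  rw [Finsupp.zero_apply, Finsupp.smul_apply] at h2
  exact h2.symm

include hθ hker hsurj in
/-- a map killing the `θ`-torsion induces zero on `Tor_1^R(X →₀ R', -)`. -/
lemma tor_one_free_map_eq_zero (X : Type u) {Y Y₁ : ModuleCat.{u} R} (φ : Y ⟶ Y₁)
    (hφ : ∀ y : Y, θ • y = 0 → φ y = 0) :
    ((Tor (ModuleCat.{u} R) 1).obj (ModuleCat.of R (X →₀ R'))).map φ = 0 := by
  have hT := redS_shortExact θ hθ hker hsurj X
  obtain ⟨T, hTdef⟩ : ∃ T : ShortComplex (ModuleCat.{u} R),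
      T = redS (R' := R') θ (algebraMap_theta θ hker) X := ⟨_, rfl⟩
  rw [← hTdef] at hT
  have hmono : Mono (torδ T hT 0 Y₁) := mono_torδ T hT 0 Y₁ (by
    rw [hTdef]
    exact isZero_tor_succ_of_flat_left (ModuleCat.of R (X →₀ R)) Y₁ 0)
  change ((Tor (ModuleCat.{u} R) 1).obj
    (redS (R' := R') θ (algebraMap_theta θ hker) X).X₃).map φ = 0
  rw [← hTdef, ← cancel_mono (torδ T hT 0 Y₁), torδ_naturality, zero_comp]
  ext z
  rw [ModuleCat.hom_comp, LinearMap.comp_apply]
  have hτinj : Function.Injective (τ T.X₁ Y₁).hom :=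
    (ModuleCat.mono_iff_injective _).mp inferInstance
  apply hτinj
  have hnat : (τ T.X₁ Y₁).hom (((Tor (ModuleCat.{u} R) 0).obj T.X₁).map φ (torδ T hT 0 Y z)) =
      (T.X₁ ◁ φ) ((τ T.X₁ Y).hom (torδ T hT 0 Y z)) :=
    congrArg (fun g => g.hom (torδ T hT 0 Y z)) (τ_naturality_right T.X₁ φ)
  refine hnat.trans ?_
  refine Eq.trans ?_ (map_zero _).symm
  have hv0 : (T.f ▷ Y) ((τ T.X₁ Y).hom (torδ T hT 0 Y z)) = 0 := by
    have h1 := torδ_comp T hT 0 Y
    have h2 := τ_naturality_left T.f Y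
    have h3 : (torδ T hT 0 Y ≫ ((Tor (ModuleCat.{u} R) 0).map T.f).app Y ≫ (τ T.X₂ Y).hom) z =
        0 := by
      rw [reassoc_of% h1, zero_comp]
      rfl
    rw [h2] at h3
    exact h3
  subst hTdef
  exact lTensor_eq_zero_of_rTensor_lsmul θ X φ.hom hφ _ hv0

end free

end Groth.Agent.Lib.TorAnnH6
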