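import Mathlib
import Groth.Agent.Lib.TorAnn2_helper6

/-!
# `Tor_i(M, A/I^q)` for `i` larger than the number of generators of `I` (helper6), part 3

The change of rings step along `R → R' = R/(θ)`, `θ` a nonzerodivisor.
-/

set_option autoImplicit false
universe u
open CategoryTheory CategoryTheory.Limits MonoidalCategory TensorProduct

namespace Groth.Agent.Lib.TorAnnH6

open Groth.Agent.TorLES Groth.Agent.TorNat Groth.Agent.TorAR

variable {R R' : Type u} [CommRing R] [CommRing R'] [Algebra R R']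

section bc

/-- base change of a module to `R'`. -/
noncomputable abbrev bcObj (Y : ModuleCat.{u} R) : ModuleCat.{u} R' :=
  ModuleCat.of R' (R' ⊗[R] Y)

/-- base change of a linear map to `R'`. -/
noncomputable def bcMap {Y Y₂ : ModuleCat.{u} R} (g : Y ⟶ Y₂) :
    bcObj (R' := R') Y ⟶ bcObj (R' := R') Y₂ :=
  ModuleCat.ofHom (g.hom.baseChange R')

lemma bcMap_apply_tmul {Y Y₂ : ModuleCat.{u} R} (g : Y ⟶ Y₂) (r : R') (y : Y) :
    (bcMap (R' := R') g) (r ⊗ₜ[R] y) = r ⊗ₜ[R] g y := rfl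

lemma bcMap_comp {Y Y₁ Y₂ : ModuleCat.{u} R} (f : Y ⟶ Y₁) (g : Y₁ ⟶ Y₂) :
    bcMap (R' := R') (f ≫ g) = bcMap f ≫ bcMap g := by
  unfold bcMap
  rw [← ModuleCat.ofHom_comp, ModuleCat.hom_comp, LinearMap.baseChange_comp]

end bc

section kappa

variable (X : Type u) [AddCommGroup X] [Module R' X] [Module R X] [IsScalarTower R R' X]

/-- `X ⊗_{R'} (R' ⊗_R Y) ≃ X ⊗_R Y`. -/
noncomputable def kap (Y : Type u) [AddCommGroup Y] [Module R Y] :
    X ⊗[R'] (R' ⊗[R] Y) ≃ₗ[R'] X ⊗[R] Y :=
  TensorProduct.AlgebraTensorModule.cancelBaseChange R R' R' X Y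

lemma kap_tmul (Y : Type u) [AddCommGroup Y] [Module R Y] (x : X) (r : R') (y : Y) :
    kap (R := R) X Y (x ⊗ₜ[R'] (r ⊗ₜ[R] y)) = (r • x) ⊗ₜ[R] y :=
  TensorProduct.AlgebraTensorModule.cancelBaseChange_tmul ..

/-- naturality of `kap` in the second variable. -/
lemma kap_whiskerLeft {Y Y₂ : ModuleCat.{u} R} (g : Y ⟶ Y₂)
    (v : X ⊗[R'] (R' ⊗[R] Y)) :
    kap (R := R) X Y₂ ((ModuleCat.of R' X ◁ bcMap (R' := R') g) v) =
      (ModuleCat.of R X ◁ g) (kap (R := R) X Y v) := by
  induction v using TensorProduct.induction_on with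
  | zero => rw [map_zero, map_zero, map_zero, map_zero]
  | tmul x t =>
    induction t using TensorProduct.induction_on with
    | zero => rw [TensorProduct.tmul_zero, map_zero, map_zero, map_zero, map_zero]
    | tmul r y =>
      rw [kap_tmul]
      erw [ModuleCat.MonoidalCategory.whiskerLeft_apply, ModuleCat.MonoidalCategory.whiskerLeft_apply]
      rw [bcMap_apply_tmul, kap_tmul]
    | add a b ha hb =>
      rw [TensorProduct.tmul_add, map_add, map_add, map_add, map_add, ha, hb]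
  | add a b ha hb => rw [map_add, map_add, map_add, map_add, ha, hb]

/-- naturality of `kap` in the first variable. -/
lemma kap_whiskerRight {X₂ : Type u} [AddCommGroup X₂] [Module R' X₂] [Module R X₂]
    [IsScalarTower R R' X₂] (f : X →ₗ[R'] X₂) (Y : ModuleCat.{u} R)
    (v : X ⊗[R'] (R' ⊗[R] Y)) :
    kap (R := R) X₂ Y (((ModuleCat.ofHom f : ModuleCat.of R' X ⟶ ModuleCat.of R' X₂) ▷
        bcObj (R' := R') Y) v) =
      ((ModuleCat.ofHom (f.restrictScalars R) : ModuleCat.of R X ⟶ ModuleCat.of R X₂) ▷ Y)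
        (kap (R := R) X Y v) := by
  induction v using TensorProduct.induction_on with
  | zero => rw [map_zero, map_zero, map_zero, map_zero]
  | tmul x t =>
    induction t using TensorProduct.induction_on with
    | zero => rw [TensorProduct.tmul_zero, map_zero, map_zero, map_zero, map_zero]
    | tmul r y =>
      rw [kap_tmul]
      erw [ModuleCat.MonoidalCategory.whiskerRight_apply,
        ModuleCat.MonoidalCategory.whiskerRight_apply]
      erw [kap_tmul]
      change (r • f x) ⊗ₜ[R] y = (f (r • x)) ⊗ₜ[R] y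
      rw [map_smul]
    | add a b ha hb =>
      rw [TensorProduct.tmul_add, map_add, map_add, map_add, map_add, ha, hb]
  | add a b ha hb => rw [map_add, map_add, map_add, map_add, ha, hb]

end kappa

section core

variable (X : Type u) [AddCommGroup X] [Module R' X] [Module R X] [IsScalarTower R R' X]

variable (R R') in
/-- the standard presentation of the `R'`-module `X`, viewed over `R`. -/
noncomputable abbrev stdSR : ShortComplex (ModuleCat.{u} R) :=
  ShortComplex.moduleCatMk (R := R) (X₁ := LinearMap.ker (presG (R := R') X)) (X₂ := (X →₀ R'))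
    (X₃ := X) ((Submodule.subtype (LinearMap.ker (presG (R := R') X))).restrictScalars R)
    ((presG (R := R') X).restrictScalars R)
    (by
      apply LinearMap.ext
      intro v
      exact v.2)

lemma stdSR_shortExact : (stdSR R R' X).ShortExact :=
  @mk_shortExact R _ (LinearMap.ker (presG (R := R') X)) (X →₀ R') X _ _ _ _ _ _
    ((Submodule.subtype (LinearMap.ker (presG (R := R') X))).restrictScalars R)
    ((presG (R := R') X).restrictScalars R)
    (Submodule.injective_subtype _) (LinearMap.exact_subtype_ker_map (presG (R := R') X))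
    (presG_surjective X)

/-- the comparison of `Tor_1` over `R` and over `R'`: vanishing of a map passes to `R'`. -/
theorem core {Y Y₂ : ModuleCat.{u} R} (g : Y ⟶ Y₂)
    (hg : ((Tor (ModuleCat.{u} R) 1).obj (ModuleCat.of R X)).map g = 0) :
    ((Tor (ModuleCat.{u} R') 1).obj (ModuleCat.of R' X)).map (bcMap (R' := R') g) = 0 := by
  have hS' := stdS_shortExact (R := R') X
  have hS := stdSR_shortExact (R := R) (R' := R') X
  have hmono : Mono (torδ (stdS (R := R') X) hS' 0 (bcObj (R' := R') Y₂)) :=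
    mono_torδ _ hS' 0 _ (isZero_tor_succ_stdS_X₂ X _ 0)
  change ((Tor (ModuleCat.{u} R') 1).obj (stdS (R := R') X).X₃).map (bcMap (R' := R') g) = 0
  rw [← cancel_mono (torδ (stdS (R := R') X) hS' 0 (bcObj (R' := R') Y₂)), torδ_naturality,
    zero_comp]
  ext z'
  rw [ModuleCat.hom_comp, LinearMap.comp_apply]
  have hτinj : Function.Injective (τ (stdS (R := R') X).X₁ (bcObj (R' := R') Y₂)).hom :=
    (ModuleCat.mono_iff_injective _).mp inferInstance
  apply hτinj
  have hnat : (τ (stdS (R := R') X).X₁ (bcObj (R' := R') Y₂)).hom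
      (((Tor (ModuleCat.{u} R') 0).obj (stdS (R := R') X).X₁).map (bcMap (R' := R') g)
        (torδ (stdS (R := R') X) hS' 0 (bcObj (R' := R') Y) z')) =
      ((stdS (R := R') X).X₁ ◁ bcMap (R' := R') g)
        ((τ (stdS (R := R') X).X₁ (bcObj (R' := R') Y)).hom
          (torδ (stdS (R := R') X) hS' 0 (bcObj (R' := R') Y) z')) :=
    congrArg (fun h => h.hom (torδ (stdS (R := R') X) hS' 0 (bcObj (R' := R') Y) z'))
      (τ_naturality_right (stdS (R := R') X).X₁ (bcMap (R' := R') g))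
  refine hnat.trans ?_
  refine Eq.trans ?_ (map_zero _).symm
  obtain ⟨v', hv'⟩ : ∃ v' : (LinearMap.ker (presG (R := R') X)) ⊗[R'] (R' ⊗[R] Y),
      v' = (τ (stdS (R := R') X).X₁ (bcObj (R' := R') Y)).hom
        (torδ (stdS (R := R') X) hS' 0 (bcObj (R' := R') Y) z') := ⟨_, rfl⟩
  rw [← hv']
  have hv0' : ((stdS (R := R') X).f ▷ bcObj (R' := R') Y) v' = 0 := by
    have h1 := torδ_comp (stdS (R := R') X) hS' 0 (bcObj (R' := R') Y)
    have h2 := τ_naturality_left (stdS (R := R') X).f (bcObj (R' := R') Y)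
    have h3 : (torδ (stdS (R := R') X) hS' 0 (bcObj (R' := R') Y) ≫
        ((Tor (ModuleCat.{u} R') 0).map (stdS (R := R') X).f).app (bcObj (R' := R') Y) ≫
          (τ (stdS (R := R') X).X₂ (bcObj (R' := R') Y)).hom) z' = 0 := by
      rw [reassoc_of% h1, zero_comp]
      rfl
    rw [h2] at h3
    rw [hv']
    exact h3
  -- pass to `R`
  apply (kap (R := R) (R' := R') (LinearMap.ker (presG (R := R') X)) Y₂).injective
  refine Eq.trans ?_ (map_zero _).symm
  refine (kap_whiskerLeft (R := R) (R' := R') (LinearMap.ker (presG (R := R') X)) g v').trans ?_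
  obtain ⟨v, hv⟩ : ∃ v, v = kap (R := R) (R' := R') (LinearMap.ker (presG (R := R') X)) Y v' :=
    ⟨_, rfl⟩
  rw [← hv]
  have hv0 : ((stdSR R R' X).f ▷ Y) v = 0 := by
    have h := kap_whiskerRight (R := R) (R' := R') (LinearMap.ker (presG (R := R') X))
      (Submodule.subtype (LinearMap.ker (presG (R := R') X))) Y v'
    rw [hv]
    refine h.symm.trans ?_
    refine Eq.trans ?_ (map_zero (kap (R := R) (R' := R') (X →₀ R') Y))
    exact congrArg _ hv0'
  -- lift to `Tor_1` over `R`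
  obtain ⟨w, hw⟩ : ∃ w, (τ (stdSR R R' X).X₁ Y).hom w = v :=
    ⟨(τ (stdSR R R' X).X₁ Y).inv v, by
      change ((τ (stdSR R R' X).X₁ Y).inv ≫ (τ (stdSR R R' X).X₁ Y).hom) v = v
      rw [Iso.inv_hom_id]
      rfl⟩
  have hw0 : ((Tor (ModuleCat.{u} R) 0).map (stdSR R R' X).f).app Y w = 0 := by
    have hτinj2 : Function.Injective (τ (stdSR R R' X).X₂ Y).hom :=
      (ModuleCat.mono_iff_injective _).mp inferInstance
    apply hτinj2
    have h2 := congrArg (fun h => h.hom w) (τ_naturality_left (stdSR R R' X).f Y)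
    refine h2.trans ?_
    rw [map_zero]
    change ((stdSR R R' X).f ▷ Y) ((τ (stdSR R R' X).X₁ Y).hom w) = 0
    rw [hw]
    exact hv0
  obtain ⟨z, hz⟩ := exists_torδ_eq (stdSR R R' X) hS 0 Y w hw0
  have hfin : ((Tor (ModuleCat.{u} R) 0).obj (stdSR R R' X).X₁).map g w = 0 := by
    rw [← hz]
    have h3 := congrArg (fun h => h.hom z) (torδ_naturality (stdSR R R' X) hS 0 g)
    refine h3.symm.trans ?_
    change torδ (stdSR R R' X) hS 0 Y₂
      (((Tor (ModuleCat.{u} R) 1).obj (ModuleCat.of R X)).map g z) = 0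
    rw [hg]
    exact map_zero _
  have h4 := congrArg (fun h => h.hom w) (τ_naturality_right (stdSR R R' X).X₁ g)
  rw [← hw]
  refine h4.symm.trans ?_
  change (τ (stdSR R R' X).X₁ Y₂).hom
    (((Tor (ModuleCat.{u} R) 0).obj (stdSR R R' X).X₁).map g w) = 0
  rw [hfin]
  exact map_zero _

end core

section step

variable (θ : R) (hθ : IsSMulRegular R θ)
  (hker : RingHom.ker (algebraMap R R') = Ideal.span {θ})
  (hsurj : Function.Surjective (algebraMap R R'))

include hθ hker hsurj in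
/-- on the first syzygy: a map killing `θ`-torsion followed by a map killing `Tor_2(X, -)`
kills `Tor_1(ΩX, -)`. -/
theorem tor_one_syz_map_eq_zero (X : Type u) [AddCommGroup X] [Module R' X] [Module R X]
    [IsScalarTower R R' X] {Y Y₁ Y₂ : ModuleCat.{u} R} (φ : Y ⟶ Y₁) (ψ : Y₁ ⟶ Y₂)
    (hφ : ∀ y : Y, θ • y = 0 → φ y = 0)
    (hψ : ((Tor (ModuleCat.{u} R) 2).obj (ModuleCat.of R X)).map ψ = 0) :
    ((Tor (ModuleCat.{u} R) 1).obj
      (ModuleCat.of R (LinearMap.ker (presG (R := R') X)))).map (φ ≫ ψ) = 0 := by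
  have hS := stdSR_shortExact (R := R) (R' := R') X
  ext z
  rw [Functor.map_comp, ModuleCat.hom_comp, LinearMap.comp_apply]
  obtain ⟨y, hy⟩ : ∃ y, y = ((Tor (ModuleCat.{u} R) 1).obj (stdSR R R' X).X₁).map φ z :=
    ⟨_, rfl⟩
  have hy0 : ((Tor (ModuleCat.{u} R) 1).map (stdSR R R' X).f).app Y₁ y = 0 := by
    rw [hy]
    have hnat := congrArg (fun h => h.hom z)
      (((Tor (ModuleCat.{u} R) 1).map (stdSR R R' X).f).naturality φ)
    refine hnat.trans ?_
    change ((Tor (ModuleCat.{u} R) 1).obj (ModuleCat.of R (X →₀ R'))).map φ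
      (((Tor (ModuleCat.{u} R) 1).map (stdSR R R' X).f).app Y z) = 0
    rw [tor_one_free_map_eq_zero θ hθ hker hsurj X φ hφ]
    rfl
  obtain ⟨x, hx⟩ := exists_torδ_eq (stdSR R R' X) hS 1 Y₁ y hy0
  change ((Tor (ModuleCat.{u} R) 1).obj (stdSR R R' X).X₁).map ψ
    (((Tor (ModuleCat.{u} R) 1).obj (stdSR R R' X).X₁).map φ z) = 0
  rw [← hy, ← hx]
  have h3 := congrArg (fun h => h.hom x) (torδ_naturality (stdSR R R' X) hS 1 ψ)
  refine h3.symm.trans ?_
  change torδ (stdSR R R' X) hS 1 Y₂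
    (((Tor (ModuleCat.{u} R) 2).obj (ModuleCat.of R X)).map ψ x) = 0
  rw [hψ]
  exact map_zero _

include hθ hker hsurj in
/-- the change of rings step, in degrees `≥ 2`. -/
theorem step_succ_succ {Y Y₁ Y₂ : ModuleCat.{u} R} (φ : Y ⟶ Y₁) (ψ : Y₁ ⟶ Y₂)
    (hφ : ∀ y : Y, θ • y = 0 → φ y = 0) (n : ℕ) :
    ∀ (X : Type u) [AddCommGroup X] [Module R' X] [Module R X] [IsScalarTower R R' X],
      ((Tor (ModuleCat.{u} R) (n + 2)).obj (ModuleCat.of R X)).map ψ = 0 →
      ((Tor (ModuleCat.{u} R') (n + 2)).obj (ModuleCat.of R' X)).map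
        (bcMap (R' := R') (φ ≫ ψ)) = 0 := by
  induction n with
  | zero =>
    intro X _ _ _ _ hψ
    have h1 := tor_one_syz_map_eq_zero θ hθ hker hsurj X φ ψ hφ hψ
    have h2 := core (R := R) (R' := R') (LinearMap.ker (presG (R := R') X)) (φ ≫ ψ) h1
    exact tor_map_eq_zero_succ (stdS (R := R') X) (stdS_shortExact X) 1
      (bcMap (R' := R') (φ ≫ ψ)) (isZero_tor_succ_stdS_X₂ X _ 1) h2
  | succ n ih =>
    intro X _ _ _ _ hψ
    have h1 : ((Tor (ModuleCat.{u} R) (n + 2)).obj
        (ModuleCat.of R (LinearMap.ker (presG (R := R') X)))).map ψ = 0 :=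
      tor_map_eq_zero_pred (stdSR R R' X) (stdSR_shortExact X) (n + 2) ψ
        (isZero_tor_free θ hθ hker hsurj X Y₁ n) hψ
    have h2 := ih (LinearMap.ker (presG (R := R') X)) h1
    exact tor_map_eq_zero_succ (stdS (R := R') X) (stdS_shortExact X) (n + 2)
      (bcMap (R' := R') (φ ≫ ψ)) (isZero_tor_succ_stdS_X₂ X _ (n + 2)) h2

include hθ hker hsurj in
/-- the change of rings step along `R → R' = R/(θ)`. -/
theorem step {Y Y₁ Y₂ : ModuleCat.{u} R} (φ : Y ⟶ Y₁) (ψ : Y₁ ⟶ Y₂)
    (hφ : ∀ y : Y, θ • y = 0 → φ y = 0) (k : ℕ) (hk : 1 ≤ k)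
    (X : Type u) [AddCommGroup X] [Module R' X] [Module R X] [IsScalarTower R R' X]
    (hψ : ((Tor (ModuleCat.{u} R) k).obj (ModuleCat.of R X)).map ψ = 0) :
    ((Tor (ModuleCat.{u} R') k).obj (ModuleCat.of R' X)).map (bcMap (R' := R') (φ ≫ ψ)) = 0 := by
  obtain ⟨k, rfl⟩ : ∃ j, k = j + 1 := ⟨k - 1, by omega⟩
  rcases k with _ | n
  · apply core
    rw [Functor.map_comp, hψ, comp_zero]
  · exact step_succ_succ θ hθ hker hsurj φ ψ hφ n X hψ

end step

end Groth.Agent.Lib.TorAnnH6
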