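import Mathlib
import Groth.Agent.Lib.TorAnn3_helper6

/-!
# `Tor_i(M, A/I^q)` for `i` larger than the number of generators of `I` (helper6), part 4

Flat base change for the vanishing of `Tor_i(N, -)`, transport along isomorphisms, and the
short exact sequence `0 → P/𝔞 --x--> P/𝔟 → P/(𝔟 + x) → 0` when `(𝔟 : x) = 𝔞`.
-/

set_option autoImplicit false
universe u
open CategoryTheory CategoryTheory.Limits MonoidalCategory TensorProduct

namespace Groth.Agent.Lib.TorAnnH6

open Groth.Agent.TorLES Groth.Agent.TorNat Groth.Agent.TorAR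

section transport

variable {R : Type u} [CommRing R]

lemma torZero_of_equiv_left {X X' : Type u} [AddCommGroup X] [Module R X] [AddCommGroup X']
    [Module R X'] (e : X ≃ₗ[R] X') (Y : Type u) [AddCommGroup Y] [Module R Y] (n : ℕ)
    (h : TorZero R n X Y) : TorZero R n X' Y :=
  h.of_iso (((Tor (ModuleCat.{u} R) n).mapIso e.toModuleIso).app (ModuleCat.of R Y)).symm

lemma torZero_of_subsingleton_left (X : Type u) [AddCommGroup X] [Module R X] [Subsingleton X]
    (Y : Type u) [AddCommGroup Y] [Module R Y] (n : ℕ) : TorZero R (n + 1) X Y :=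
  torZero_succ_of_flat_left Y X n

end transport

section flatBC

variable {A B : Type u} [CommRing A] [CommRing B] [Algebra A B]

/-- `(B ⊗_A K) ⊗_B M' ≃ K ⊗_A M'`. -/
noncomputable def bcEquiv (K : Type u) [AddCommGroup K] [Module A K] (M' : Type u)
    [AddCommGroup M'] [Module B M'] [Module A M'] [IsScalarTower A B M'] :
    (B ⊗[A] K) ⊗[B] M' ≃+ K ⊗[A] M' :=
  ((TensorProduct.comm B (B ⊗[A] K) M').toAddEquiv.trans
    (TensorProduct.AlgebraTensorModule.cancelBaseChange A B B M' K).toAddEquiv).trans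
      (TensorProduct.comm A M' K).toAddEquiv

lemma bcEquiv_tmul (K : Type u) [AddCommGroup K] [Module A K] (M' : Type u)
    [AddCommGroup M'] [Module B M'] [Module A M'] [IsScalarTower A B M'] (b : B) (k : K)
    (m : M') : bcEquiv K M' ((b ⊗ₜ[A] k) ⊗ₜ[B] m) = k ⊗ₜ[A] (b • m) := by
  change (TensorProduct.comm A M' K)
    ((TensorProduct.AlgebraTensorModule.cancelBaseChange A B B M' K)
      ((TensorProduct.comm B (B ⊗[A] K) M') ((b ⊗ₜ[A] k) ⊗ₜ[B] m))) = _
  rw [TensorProduct.comm_tmul, TensorProduct.AlgebraTensorModule.cancelBaseChange_tmul,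
    TensorProduct.comm_tmul]

lemma bcEquiv_natural {K F : Type u} [AddCommGroup K] [Module A K] [AddCommGroup F] [Module A F]
    (f : K →ₗ[A] F) (M' : Type u)
    [AddCommGroup M'] [Module B M'] [Module A M'] [IsScalarTower A B M']
    (v : (B ⊗[A] K) ⊗[B] M') :
    bcEquiv F M' ((f.baseChange B).rTensor M' v) = f.rTensor M' (bcEquiv K M' v) := by
  induction v using TensorProduct.induction_on with
  | zero => rw [map_zero, map_zero, map_zero, map_zero]
  | tmul t m =>
    induction t using TensorProduct.induction_on with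
    | zero => rw [TensorProduct.zero_tmul, map_zero, map_zero, map_zero, map_zero]
    | tmul b k =>
      rw [LinearMap.rTensor_tmul, LinearMap.baseChange_tmul, bcEquiv_tmul, bcEquiv_tmul,
        LinearMap.rTensor_tmul]
    | add a b ha hb =>
      rw [TensorProduct.add_tmul, map_add, map_add, map_add, map_add, ha, hb]
  | add a b ha hb => rw [map_add, map_add, map_add, map_add, ha, hb]

variable [Module.Flat A B]

omit [Module.Flat A B] in
lemma baseChange_exact {X₁ X₂ X₃ : Type u} [AddCommGroup X₁] [Module A X₁] [AddCommGroup X₂]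
    [Module A X₂] [AddCommGroup X₃] [Module A X₃] (i : X₁ →ₗ[A] X₂) (p : X₂ →ₗ[A] X₃)
    (hip : Function.Exact i p) (hp : Function.Surjective p) :
    Function.Exact (i.baseChange B) (p.baseChange B) := by
  have h : Function.Exact (i.lTensor B) (p.lTensor B) := lTensor_exact B hip hp
  intro x
  exact h x

omit [Module.Flat A B] in
lemma baseChange_surjective {X₂ X₃ : Type u} [AddCommGroup X₂]
    [Module A X₂] [AddCommGroup X₃] [Module A X₃] (p : X₂ →ₗ[A] X₃)
    (hp : Function.Surjective p) : Function.Surjective (p.baseChange B) := by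
  have h : Function.Surjective (p.lTensor B) := LinearMap.lTensor_surjective B hp
  intro x
  exact h x

lemma baseChange_injective {X₁ X₂ : Type u} [AddCommGroup X₁] [Module A X₁] [AddCommGroup X₂]
    [Module A X₂] (i : X₁ →ₗ[A] X₂) (hi : Function.Injective i) :
    Function.Injective (i.baseChange B) := by
  have h : Function.Injective (i.lTensor B) :=
    Module.Flat.lTensor_preserves_injective_linearMap i hi
  intro x y hxy
  exact h hxy

/-- flat base change for the vanishing of `Tor_i(N, -)`, `i ≥ 1`. -/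
theorem torZero_baseChange (i : ℕ) : ∀ (N : Type u) [AddCommGroup N] [Module A N],
    (∀ (M : Type u) [AddCommGroup M] [Module A M], TorZero A (i + 1) N M) →
    ∀ (M' : Type u) [AddCommGroup M'] [Module B M'], TorZero B (i + 1) (B ⊗[A] N) M' := by
  induction i with
  | zero =>
    intro N _ _ h M' _ _
    letI : Module A M' := Module.compHom M' (algebraMap A B)
    haveI : IsScalarTower A B M' := IsScalarTower.of_algebraMap_smul (fun _ _ => rfl)
    have hiff := @torZero_one_iff_left A _ (LinearMap.ker (presG (R := A) N)) (N →₀ A) N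
      _ _ _ _ _ _
      (Submodule.subtype (LinearMap.ker (presG (R := A) N)))
      (presG (R := A) N) M' _ _ _ (Submodule.injective_subtype _)
      (LinearMap.exact_subtype_ker_map _) (presG_surjective (R := A) N)
    have hinjA := hiff.mp (h M')
    have hi := baseChange_injective (B := B) (X₁ := LinearMap.ker (presG (R := A) N))
      (X₂ := (N →₀ A))
      (Submodule.subtype (LinearMap.ker (presG (R := A) N))) (Submodule.injective_subtype _)
    have hex := baseChange_exact (B := B) (X₁ := LinearMap.ker (presG (R := A) N))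
      (X₂ := (N →₀ A)) (X₃ := N) (Submodule.subtype (LinearMap.ker (presG (R := A) N)))
      (presG (R := A) N) (LinearMap.exact_subtype_ker_map _) (presG_surjective (R := A) N)
    have hsurj := baseChange_surjective (B := B) (X₂ := (N →₀ A)) (X₃ := N) (presG (R := A) N)
      (presG_surjective (R := A) N)
    refine (@torZero_one_iff_left B _ (B ⊗[A] LinearMap.ker (presG (R := A) N))
      (B ⊗[A] (N →₀ A)) (B ⊗[A] N) _ _ _ _ _ _ _ _ M' _ _ _ hi hex hsurj).mpr ?_
    intro v w hvw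
    apply (bcEquiv (LinearMap.ker (presG (R := A) N)) M').injective
    apply hinjA
    have e1 := bcEquiv_natural (B := B) (K := LinearMap.ker (presG (R := A) N)) (F := (N →₀ A))
      (Submodule.subtype (LinearMap.ker (presG (R := A) N))) M' v
    have e2 := bcEquiv_natural (B := B) (K := LinearMap.ker (presG (R := A) N)) (F := (N →₀ A))
      (Submodule.subtype (LinearMap.ker (presG (R := A) N))) M' w
    rw [← e1, ← e2, hvw]
  | succ i ih =>
    intro N _ _ h M' _ _
    have hK : ∀ (M : Type u) [AddCommGroup M] [Module A M],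
        TorZero A (i + 1) (LinearMap.ker (presG (R := A) N)) M := by
      intro M _ _
      exact (@torZero_shift A _ (LinearMap.ker (presG (R := A) N)) (N →₀ A) N
        _ _ _ _ _ _
        (Submodule.subtype (LinearMap.ker (presG (R := A) N)))
        (presG (R := A) N) M _ _ _ (Submodule.injective_subtype _)
        (LinearMap.exact_subtype_ker_map _) (presG_surjective (R := A) N) i).mp (h M)
    have h1 := ih (LinearMap.ker (presG (R := A) N)) hK M'
    have hi := baseChange_injective (B := B) (X₁ := LinearMap.ker (presG (R := A) N))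
      (X₂ := (N →₀ A))
      (Submodule.subtype (LinearMap.ker (presG (R := A) N))) (Submodule.injective_subtype _)
    have hex := baseChange_exact (B := B) (X₁ := LinearMap.ker (presG (R := A) N))
      (X₂ := (N →₀ A)) (X₃ := N) (Submodule.subtype (LinearMap.ker (presG (R := A) N)))
      (presG (R := A) N) (LinearMap.exact_subtype_ker_map _) (presG_surjective (R := A) N)
    have hsurj := baseChange_surjective (B := B) (X₂ := (N →₀ A)) (X₃ := N) (presG (R := A) N)
      (presG_surjective (R := A) N)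
    exact (@torZero_shift B _ (B ⊗[A] LinearMap.ker (presG (R := A) N))
      (B ⊗[A] (N →₀ A)) (B ⊗[A] N) _ _ _ _ _ _ _ _ M' _ _ _ hi hex hsurj i).mpr h1

end flatBC

section colon

variable {P : Type u} [CommRing P] (𝔞 𝔟 : Ideal P) (x : P)

/-- multiplication by `x` as a map `P/𝔞 → P/𝔟`. -/
noncomputable def mulQ (h : ∀ p, p ∈ 𝔞 → x * p ∈ 𝔟) : (P ⧸ 𝔞) →ₗ[P] (P ⧸ 𝔟) :=
  Submodule.mapQ 𝔞 𝔟 (LinearMap.lsmul P P x) (fun p hp => h p hp)

lemma mulQ_mk (h : ∀ p, p ∈ 𝔞 → x * p ∈ 𝔟) (p : P) :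
    mulQ 𝔞 𝔟 x h (Submodule.Quotient.mk p) = Submodule.Quotient.mk (x * p) := rfl

/-- the projection `P/𝔟 → P/(𝔟 + x)`. -/
noncomputable def projQ : (P ⧸ 𝔟) →ₗ[P] (P ⧸ (𝔟 ⊔ Ideal.span {x})) :=
  Submodule.mapQ 𝔟 (𝔟 ⊔ Ideal.span {x}) LinearMap.id (fun _ hp => Submodule.mem_sup_left hp)

lemma projQ_mk (p : P) :
    projQ 𝔟 x (Submodule.Quotient.mk p) = Submodule.Quotient.mk p := rfl

lemma projQ_surjective : Function.Surjective (projQ 𝔟 x) := by
  intro y
  obtain ⟨p, rfl⟩ := Submodule.Quotient.mk_surjective _ y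
  exact ⟨Submodule.Quotient.mk p, rfl⟩

lemma mulQ_injective (h : ∀ p, x * p ∈ 𝔟 ↔ p ∈ 𝔞) :
    Function.Injective (mulQ 𝔞 𝔟 x (fun p hp => (h p).mpr hp)) := by
  rw [injective_iff_map_eq_zero]
  intro y hy
  obtain ⟨p, rfl⟩ := Submodule.Quotient.mk_surjective _ y
  rw [mulQ_mk, Submodule.Quotient.mk_eq_zero] at hy
  rw [Submodule.Quotient.mk_eq_zero]
  exact (h p).mp hy

lemma mulQ_projQ_exact (h : ∀ p, p ∈ 𝔞 → x * p ∈ 𝔟) :
    Function.Exact (mulQ 𝔞 𝔟 x h) (projQ 𝔟 x) := by
  intro y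
  obtain ⟨p, rfl⟩ := Submodule.Quotient.mk_surjective _ y
  constructor
  · intro hy
    rw [projQ_mk, Submodule.Quotient.mk_eq_zero] at hy
    obtain ⟨b, hb, z, hz, rfl⟩ := Submodule.mem_sup.mp hy
    obtain ⟨r, rfl⟩ := Ideal.mem_span_singleton'.mp hz
    refine ⟨Submodule.Quotient.mk r, ?_⟩
    rw [mulQ_mk]
    symm
    rw [Submodule.Quotient.eq]
    have : b + r * x - x * r = b := by ring
    rw [this]
    exact hb
  · rintro ⟨z, hz⟩
    obtain ⟨r, rfl⟩ := Submodule.Quotient.mk_surjective _ z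
    rw [← hz, mulQ_mk, projQ_mk, Submodule.Quotient.mk_eq_zero]
    exact Submodule.mem_sup_right (Ideal.mem_span_singleton'.mpr ⟨r, mul_comm r x⟩)

/-- from `P/𝔞` and `P/𝔟` to `P/(𝔟 + x)` when `(𝔟 : x) = 𝔞`. -/
theorem torZero_quot_sup (h : ∀ p, x * p ∈ 𝔟 ↔ p ∈ 𝔞) (Y : Type u) [AddCommGroup Y]
    [Module P Y] (n : ℕ) (h𝔟 : TorZero P (n + 1) (P ⧸ 𝔟) Y) (h𝔞 : TorZero P n (P ⧸ 𝔞) Y) :
    TorZero P (n + 1) (P ⧸ (𝔟 ⊔ Ideal.span {x})) Y :=
  @torZero_succ_right P _ (P ⧸ 𝔞) (P ⧸ 𝔟) (P ⧸ (𝔟 ⊔ Ideal.span {x})) _ _ _ _ _ _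
    (mulQ 𝔞 𝔟 x (fun p hp => (h p).mpr hp)) (projQ 𝔟 x) Y _ _ (mulQ_injective 𝔞 𝔟 x h)
    (mulQ_projQ_exact 𝔞 𝔟 x _) (projQ_surjective 𝔟 x) n h𝔟 h𝔞

/-- from `P/𝔞` and `P/(𝔟 + x)` to `P/𝔟` when `(𝔟 : x) = 𝔞`. -/
theorem torZero_quot_mid (h : ∀ p, x * p ∈ 𝔟 ↔ p ∈ 𝔞) (Y : Type u) [AddCommGroup Y]
    [Module P Y] (n : ℕ) (h𝔞 : TorZero P n (P ⧸ 𝔞) Y)
    (h3 : TorZero P n (P ⧸ (𝔟 ⊔ Ideal.span {x})) Y) : TorZero P n (P ⧸ 𝔟) Y :=
  @torZero_mid P _ (P ⧸ 𝔞) (P ⧸ 𝔟) (P ⧸ (𝔟 ⊔ Ideal.span {x})) _ _ _ _ _ _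
    (mulQ 𝔞 𝔟 x (fun p hp => (h p).mpr hp)) (projQ 𝔟 x) Y _ _ (mulQ_injective 𝔞 𝔟 x h)
    (mulQ_projQ_exact 𝔞 𝔟 x _) (projQ_surjective 𝔟 x) n h𝔞 h3

end colon

end Groth.Agent.Lib.TorAnnH6
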