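import Mathlib
import Groth.Agent.Lib.TorAnn4_helper6

/-!
# `Tor_i(M, A/I^q)` for `i` larger than the number of generators of `I` (helper6), part 5

Adding a polynomial variable: if `Tor_i^A(A/K^q, -) = 0` for `i > s` then
`Tor_i^{A[X]}(A[X]/(K, X)^q, -) = 0` for `i > s + 1`.
-/

set_option autoImplicit false
universe u
open CategoryTheory CategoryTheory.Limits MonoidalCategory TensorProduct Polynomial

namespace Groth.Agent.Lib.TorAnnH6

open Groth.Agent.TorLES Groth.Agent.TorNat Groth.Agent.TorAR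

section poly

variable {A : Type u} [CommRing A] (K : Ideal A)

/-- the ideal `(K, X)` of `A[X]`. -/
noncomputable abbrev addX : Ideal A[X] := K.map (C : A →+* A[X]) ⊔ Ideal.span {(X : A[X])}

/-- polynomials whose `j`-th coefficient lies in `K^(q-j)`. -/
def Lq (q : ℕ) : Ideal A[X] where
  carrier := {p | ∀ j, p.coeff j ∈ K ^ (q - j)}
  add_mem' := by
    intro a b ha hb j
    rw [coeff_add]
    exact Ideal.add_mem _ (ha j) (hb j)
  zero_mem' := by
    intro j
    rw [coeff_zero]
    exact zero_mem _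
  smul_mem' := by
    intro r p hp j
    rw [smul_eq_mul, coeff_mul]
    refine Ideal.sum_mem _ ?_
    intro ab hab
    have hle : ab.2 ≤ j := by
      have := Finset.HasAntidiagonal.mem_antidiagonal.mp hab
      omega
    exact Ideal.mul_mem_left _ _ (Ideal.pow_le_pow_right (by omega) (hp ab.2))

lemma mem_Lq {q : ℕ} {p : A[X]} : p ∈ Lq K q ↔ ∀ j, p.coeff j ∈ K ^ (q - j) := Iff.rfl

lemma Lq_mul_le (a b : ℕ) : Lq K a * Lq K b ≤ Lq K (a + b) := by
  rw [Ideal.mul_le]
  intro p hp r hr j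
  rw [coeff_mul]
  refine Ideal.sum_mem _ ?_
  intro ab hab
  have hsum : ab.1 + ab.2 = j := Finset.HasAntidiagonal.mem_antidiagonal.mp hab
  have h1 : p.coeff ab.1 * r.coeff ab.2 ∈ K ^ (a - ab.1) * K ^ (b - ab.2) :=
    Ideal.mul_mem_mul (hp ab.1) (hr ab.2)
  rw [← pow_add] at h1
  exact Ideal.pow_le_pow_right (by omega) h1

lemma addX_le_Lq_one : addX K ≤ Lq K 1 := by
  refine sup_le ?_ ?_
  · rw [Ideal.map_le_iff_le_comap]
    intro k hk j
    rw [coeff_C]
    split_ifs with h
    · subst h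
      simpa using hk
    · exact zero_mem _
  · rw [Ideal.span_le]
    intro p hp
    rw [Set.mem_singleton_iff] at hp
    subst hp
    intro j
    rw [coeff_X]
    split_ifs with h
    · subst h
      simp
    · exact zero_mem _

lemma addX_pow_le_Lq (q : ℕ) : addX K ^ q ≤ Lq K q := by
  induction q with
  | zero =>
    intro p _ j
    simp
  | succ q ih =>
    rw [pow_succ]
    exact (Ideal.mul_mono ih (addX_le_Lq_one K)).trans (Lq_mul_le K q 1)

lemma C_mem_addX_pow {a : A} {n : ℕ} (ha : a ∈ K ^ n) : C a ∈ addX K ^ n := by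
  have h1 : C a ∈ (K ^ n).map (C : A →+* A[X]) := Ideal.mem_map_of_mem _ ha
  rw [Ideal.map_pow] at h1
  exact Ideal.pow_right_mono le_sup_left n h1

lemma X_mem_addX : (X : A[X]) ∈ addX K :=
  Submodule.mem_sup_right (Ideal.subset_span rfl)

/-- the coefficientwise description of `(K, X)^q`. -/
theorem mem_addX_pow_iff (q : ℕ) (p : A[X]) :
    p ∈ addX K ^ q ↔ ∀ j, p.coeff j ∈ K ^ (q - j) := by
  constructor
  · intro hp
    exact addX_pow_le_Lq K q hp
  · intro hp
    rw [as_sum_range_C_mul_X_pow p]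
    refine Ideal.sum_mem _ ?_
    intro j _
    have h1 : C (p.coeff j) * X ^ j ∈ addX K ^ (q - j) * addX K ^ j :=
      Ideal.mul_mem_mul (C_mem_addX_pow K (hp j)) (Ideal.pow_mem_pow (X_mem_addX K) j)
    rw [← pow_add] at h1
    exact Ideal.pow_le_pow_right (by omega) h1

lemma X_mul_mem_addX_pow_iff (q : ℕ) (p : A[X]) :
    X * p ∈ addX K ^ (q + 1) ↔ p ∈ addX K ^ q := by
  rw [mem_addX_pow_iff, mem_addX_pow_iff]
  constructor
  · intro h j
    have := h (j + 1)
    rw [coeff_X_mul] at this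
    have e : q + 1 - (j + 1) = q - j := by omega
    rwa [e] at this
  · intro h j
    rcases j with _ | j
    · rw [coeff_X_mul_zero]
      exact zero_mem _
    · rw [coeff_X_mul]
      have e : q + 1 - (j + 1) = q - j := by omega
      rw [e]
      exact h j

lemma addX_pow_sup_span_X (q : ℕ) :
    addX K ^ (q + 1) ⊔ Ideal.span {(X : A[X])} =
      (K ^ (q + 1)).map (C : A →+* A[X]) ⊔ Ideal.span {(X : A[X])} := by
  apply le_antisymm
  · refine sup_le ?_ le_sup_right
    intro p hp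
    have h0 : p.coeff 0 ∈ K ^ (q + 1) := by
      have := (mem_addX_pow_iff K (q + 1) p).mp hp 0
      simpa using this
    rw [← divX_mul_X_add p]
    refine Ideal.add_mem _ (Submodule.mem_sup_right ?_) (Submodule.mem_sup_left ?_)
    · exact Ideal.mem_span_singleton'.mpr ⟨_, rfl⟩
    · exact Ideal.mem_map_of_mem _ h0
  · refine sup_le (le_sup_of_le_left ?_) le_sup_right
    rw [Ideal.map_pow]
    exact Ideal.pow_right_mono le_sup_left _

lemma X_mul_mem_map_C_iff (J : Ideal A) (p : A[X]) :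
    X * p ∈ J.map (C : A →+* A[X]) ↔ p ∈ J.map (C : A →+* A[X]) := by
  rw [Ideal.mem_map_C_iff, Ideal.mem_map_C_iff]
  constructor
  · intro h j
    have := h (j + 1)
    rwa [coeff_X_mul] at this
  · intro h j
    rcases j with _ | j
    · rw [coeff_X_mul_zero]
      exact zero_mem _
    · rw [coeff_X_mul]
      exact h j

end poly

section addVar

variable (A : Type u) [CommRing A]

/-- `Tor_i^A(A/K^q, M) = 0` for all `q`, all `M` and all `i > s`. -/
def Van (K : Ideal A) (s : ℕ) : Prop :=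
  ∀ (q i : ℕ), s < i → ∀ (M : Type u) [AddCommGroup M] [Module A M], TorZero A i (A ⧸ K ^ q) M

variable {A}

lemma van_map_C (K : Ideal A) (s : ℕ) (h : Van A K s) (m i : ℕ) (hi : s < i) (M' : Type u)
    [AddCommGroup M'] [Module A[X] M'] :
    TorZero A[X] i (A[X] ⧸ (K ^ m).map (C : A →+* A[X])) M' := by
  obtain ⟨n, rfl⟩ : ∃ n, i = n + 1 := ⟨i - 1, by omega⟩
  have h1 := torZero_baseChange (A := A) (B := A[X]) n (A ⧸ K ^ m)
    (fun M _ _ => h m (n + 1) hi M) M'
  have e1 : A[X] ⊗[A] (A ⧸ K ^ m) ≃ₗ[A[X]] A[X] ⧸ (K ^ m).map (algebraMap A A[X]) :=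
    (Algebra.TensorProduct.quotIdealMapEquivTensorQuot A[X] (K ^ m)).symm.toLinearEquiv
  have e2 : (K ^ m).map (algebraMap A A[X]) = (K ^ m).map (C : A →+* A[X]) := by
    rw [Polynomial.algebraMap_eq]
  exact torZero_of_equiv_left (e1.trans (Submodule.quotEquivOfEq _ _ e2)) M' (n + 1) h1

lemma van_map_C_sup (K : Ideal A) (s : ℕ) (h : Van A K s) (m i : ℕ) (hi : s + 1 < i) (M' : Type u)
    [AddCommGroup M'] [Module A[X] M'] :
    TorZero A[X] i (A[X] ⧸ ((K ^ m).map (C : A →+* A[X]) ⊔ Ideal.span {(X : A[X])})) M' := by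
  obtain ⟨n, rfl⟩ : ∃ n, i = n + 1 := ⟨i - 1, by omega⟩
  exact torZero_quot_sup _ _ X (X_mul_mem_map_C_iff (K ^ m)) M' n
    (van_map_C K s h m (n + 1) (by omega) M') (van_map_C K s h m n (by omega) M')

/-- adding a polynomial variable. -/
theorem van_addX (K : Ideal A) (s : ℕ) (h : Van A K s) : Van A[X] (addX K) (s + 1) := by
  intro q
  induction q with
  | zero =>
    intro i hi M' _ _
    obtain ⟨n, rfl⟩ : ∃ n, i = n + 1 := ⟨i - 1, by omega⟩
    haveI : Subsingleton (A[X] ⧸ addX K ^ 0) :=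
      Ideal.Quotient.subsingleton_iff.mpr (by rw [pow_zero, Ideal.one_eq_top])
    exact torZero_of_subsingleton_left _ M' n
  | succ q ih =>
    intro i hi M' _ _
    refine torZero_quot_mid (addX K ^ q) (addX K ^ (q + 1)) X (X_mul_mem_addX_pow_iff K q) M' i
      (ih i hi M') ?_
    rw [addX_pow_sup_span_X]
    exact van_map_C_sup K s h (q + 1) i hi M'

/-- the base case: `K = ⊥`. -/
theorem van_bot : Van A (⊥ : Ideal A) 0 := by
  intro q i hi M _ _
  obtain ⟨n, rfl⟩ : ∃ n, i = n + 1 := ⟨i - 1, by omega⟩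
  rcases q with _ | q
  · haveI : Subsingleton (A ⧸ (⊥ : Ideal A) ^ 0) :=
      Ideal.Quotient.subsingleton_iff.mpr (by rw [pow_zero, Ideal.one_eq_top])
    exact torZero_of_subsingleton_left _ M n
  · have e : (⊥ : Ideal A) ^ (q + 1) = ⊥ := by
      rw [← Ideal.zero_eq_bot]
      exact zero_pow (Nat.succ_ne_zero q)
    rw [e]
    exact torZero_of_equiv_left (Submodule.quotEquivOfEqBot (⊥ : Ideal A) rfl).symm M (n + 1)
      (torZero_succ_of_flat_left M A n)

end addVar

end Groth.Agent.Lib.TorAnnH6
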