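import Mathlib
import Groth.Agent.Lib.TorAnn5_helper6

/-!
# `Tor_i(M, A/I^q)` for `i` larger than the number of generators of `I` (helper6), part 6

The Artin–Rees bound for colon ideals, the predicates `PAnn` (uniform annihilation) and `PMap`
(uniform vanishing of transition maps), and their behaviour under `R → R/(θ)`.
-/

set_option autoImplicit false
universe u
open CategoryTheory CategoryTheory.Limits MonoidalCategory TensorProduct Polynomial

namespace Groth.Agent.Lib.TorAnnH6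

open Groth.Agent.TorLES Groth.Agent.TorNat Groth.Agent.TorAR Groth.Agent.TorBal
open Groth.Agent.Lib.TorUnifH6 (q q_comp)

section AR

/-- Artin–Rees for colon ideals by a nonzerodivisor. -/
theorem exists_colon_bound {R : Type u} [CommRing R] [IsNoetherianRing R] (θ : R)
    (hθ : IsSMulRegular R θ) (J : Ideal R) :
    ∃ c₁ : ℕ, ∀ (n : ℕ) (x : R), θ * x ∈ J ^ n → x ∈ J ^ (n - c₁) := by
  obtain ⟨k, hk⟩ := Ideal.exists_pow_inf_eq_pow_smul J (Ideal.span {θ} : Submodule R R)
  refine ⟨k, fun n x hx => ?_⟩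
  by_cases hn : k ≤ n
  · have h1 : θ * x ∈ J ^ n • (⊤ : Submodule R R) ⊓ (Ideal.span {θ} : Submodule R R) := by
      refine ⟨?_, Ideal.mem_span_singleton'.mpr ⟨x, mul_comm x θ⟩⟩
      have e : J ^ n • (⊤ : Submodule R R) = J ^ n := by
        rw [Ideal.smul_eq_mul, Ideal.mul_top]
      rw [e]
      exact hx
    rw [hk n hn] at h1
    have h2 : θ * x ∈ J ^ (n - k) • (Ideal.span {θ} : Submodule R R) :=
      Submodule.smul_mono le_rfl inf_le_right h1
    obtain ⟨y, hy, hyx⟩ := Submodule.mem_smul_span_singleton.mp h2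
    have hxy : y = x := by
      apply hθ
      change θ • y = θ • x
      rw [smul_eq_mul, smul_eq_mul, ← hyx, smul_eq_mul, mul_comm]
    rw [← hxy]
    exact hy
  · have e : n - k = 0 := by omega
    rw [e, pow_zero, Ideal.one_eq_top]
    trivial

end AR

section preds

variable (R : Type u) [CommRing R]

/-- `J^c` kills `Tor_i(X, R/J^k)` for all `X`, `k` and `i > s`. -/
def PAnn (J : Ideal R) (s c : ℕ) : Prop :=
  ∀ (i k : ℕ), s < i → ∀ r ∈ J ^ c, TZ i (r • 𝟙 (ModuleCat.of R (R ⧸ J ^ k)))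

/-- `Tor_i(X, R/J^n) → Tor_i(X, R/J^m)` vanishes for all `X`, `i > s` and `m + c ≤ n`. -/
def PMap (J : Ideal R) (s c : ℕ) : Prop :=
  ∀ (i n m : ℕ) (h : m + c ≤ n), s < i → TZ i (q J n m (le_trans (Nat.le_add_right m c) h))

variable {R}

lemma pann_pmap_of_van (J : Ideal R) (s : ℕ) (h : Van R J s) : PAnn R J s 0 ∧ PMap R J s 0 := by
  have hz : ∀ (i k : ℕ), s < i → ∀ (X : Type u) [AddCommGroup X] [Module R X],
      IsZero (((Tor (ModuleCat.{u} R) i).obj (ModuleCat.of R X)).obj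
        (ModuleCat.of R (R ⧸ J ^ k))) := by
    intro i k hi X _ _
    exact (torZero_symm i (R ⧸ J ^ k) X).mp (h k i hi X)
  constructor
  · intro i k hi r _
    exact TZ.of_isZero_src _ (hz i k hi)
  · intro i n m hnm hi
    exact TZ.of_isZero_src _ (hz i n hi)

/-- `Tor_n(X, a • 𝟙) = 0` iff `a` annihilates `Tor_n(X, Y)`. -/
lemma tor_map_smul_eq_zero_iff (a : R) (n : ℕ) (X : Type u) [AddCommGroup X] [Module R X]
    (Y : ModuleCat.{u} R) :
    ((Tor (ModuleCat.{u} R) n).obj (ModuleCat.of R X)).map (a • 𝟙 Y) = 0 ↔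
      a ∈ Module.annihilator R (((Tor (ModuleCat.{u} R) n).obj (ModuleCat.of R X)).obj Y) := by
  rw [Module.mem_annihilator]
  constructor
  · intro h x
    rw [← tor_map_smul_apply, h]
    rfl
  · intro h
    ext x
    rw [tor_map_smul_apply, h]
    rfl

end preds

section eQ

variable {R R' : Type u} [CommRing R] [CommRing R'] [Algebra R R'] (J : Ideal R)

/-- `R' ⊗_R R/J^k ≃ R'/(JR')^k`. -/
noncomputable def eQ (k : ℕ) :
    R' ⊗[R] (R ⧸ J ^ k) ≃ₗ[R'] R' ⧸ (J.map (algebraMap R R')) ^ k :=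
  (Algebra.TensorProduct.quotIdealMapEquivTensorQuot R' (J ^ k)).symm.toLinearEquiv ≪≫ₗ
    Submodule.quotEquivOfEq _ _ (Ideal.map_pow _ _ _)

lemma eQ_tmul (k : ℕ) (r' : R') (a : R) :
    eQ (R' := R') J k (r' ⊗ₜ[R] (Submodule.Quotient.mk a)) = Submodule.Quotient.mk (a • r') :=
  rfl

/-- the isomorphism `eQ` in `ModuleCat`. -/
noncomputable def EQ (k : ℕ) :
    bcObj (R' := R') (ModuleCat.of R (R ⧸ J ^ k)) ≅
      ModuleCat.of R' (R' ⧸ (J.map (algebraMap R R')) ^ k) :=
  (eQ (R' := R') J k).toModuleIso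

lemma bcMap_q (n m : ℕ) (h : m ≤ n) :
    bcMap (R' := R') (q J n m h) ≫ (EQ (R' := R') J m).hom =
      (EQ (R' := R') J n).hom ≫ q (J.map (algebraMap R R')) n m h := by
  apply ModuleCat.hom_ext
  apply LinearMap.ext
  intro v
  obtain ⟨v', rfl⟩ : ∃ v' : R' ⊗[R] (R ⧸ J ^ n), v' = v := ⟨_, rfl⟩
  induction v' using TensorProduct.induction_on with
  | zero => rw [map_zero, map_zero]
  | tmul r' y =>
    obtain ⟨a, rfl⟩ := Submodule.Quotient.mk_surjective _ y
    rfl
  | add a b ha hb => rw [map_add, map_add, ha, hb]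

lemma q_map_eq (n m : ℕ) (h : m ≤ n) :
    q (J.map (algebraMap R R')) n m h =
      (EQ (R' := R') J n).inv ≫ bcMap (R' := R') (q J n m h) ≫ (EQ (R' := R') J m).hom := by
  rw [bcMap_q, Iso.inv_hom_id_assoc]

end eQ

section stepApp

variable {R R' : Type u} [CommRing R] [CommRing R'] [Algebra R R']
variable (θ : R) (hθ : IsSMulRegular R θ)
  (hker : RingHom.ker (algebraMap R R') = Ideal.span {θ})
  (hsurj : Function.Surjective (algebraMap R R'))
  (J : Ideal R) (c₁ : ℕ) (hcol : ∀ (n : ℕ) (x : R), θ * x ∈ J ^ n → x ∈ J ^ (n - c₁))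

include hθ hker hsurj hcol in
/-- uniform vanishing of the transition maps passes to `R/(θ)`. -/
theorem pmap_step (s c : ℕ) (h : PMap R J s c) :
    PMap R' (J.map (algebraMap R R')) s (c + c₁) := by
  intro i n m hnm hi X _ _
  letI : Module R X := Module.compHom X (algebraMap R R')
  haveI : IsScalarTower R R' X := IsScalarTower.of_algebraMap_smul (fun _ _ => rfl)
  have hmc : m + c ≤ n := by omega
  have hφ : ∀ y : (ModuleCat.of R (R ⧸ J ^ n)), θ • y = 0 → (q J n (m + c) hmc) y = 0 := by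
    intro y hy
    obtain ⟨x, rfl⟩ := Submodule.Quotient.mk_surjective _ y
    rw [← Submodule.Quotient.mk_smul, Submodule.Quotient.mk_eq_zero, smul_eq_mul] at hy
    have hx := hcol n x hy
    change (Submodule.Quotient.mk x : R ⧸ J ^ (m + c)) = 0
    rw [Submodule.Quotient.mk_eq_zero]
    exact Ideal.pow_le_pow_right (by omega) hx
  have hψ := h i (m + c) m le_rfl hi X
  have key := step θ hθ hker hsurj (q J n (m + c) hmc) (q J (m + c) m (Nat.le_add_right m c)) hφ
    i (by omega) X hψ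
  rw [q_comp] at key
  rw [q_map_eq (R' := R') J n m, Functor.map_comp, Functor.map_comp, key, Limits.zero_comp, Limits.comp_zero]

lemma bcMap_smul_smul (a b : R) (Y : ModuleCat.{u} R) :
    bcMap (R' := R') ((a • 𝟙 Y) ≫ (b • 𝟙 Y)) =
      (algebraMap R R' (b * a)) • 𝟙 (bcObj (R' := R') Y) := by
  apply ModuleCat.hom_ext
  apply LinearMap.ext
  intro v
  obtain ⟨v', rfl⟩ : ∃ v' : R' ⊗[R] Y, v' = v := ⟨_, rfl⟩
  induction v' using TensorProduct.induction_on with
  | zero => rw [map_zero, map_zero]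
  | tmul r' y =>
    change r' ⊗ₜ[R] (b • (a • y)) = (algebraMap R R' (b * a)) • (r' ⊗ₜ[R] y)
    rw [TensorProduct.smul_tmul', smul_eq_mul, ← Algebra.smul_def, TensorProduct.smul_tmul,
      mul_smul]
  | add a b ha hb => rw [map_add, map_add, ha, hb]

include hθ hker hsurj hcol in
/-- uniform annihilation passes to `R/(θ)`. -/
theorem pann_step (s c : ℕ) (h : PAnn R J s c) :
    PAnn R' (J.map (algebraMap R R')) s (c + c₁) := by
  intro i k hi r' hr' X _ _
  letI : Module R X := Module.compHom X (algebraMap R R')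
  haveI : IsScalarTower R R' X := IsScalarTower.of_algebraMap_smul (fun _ _ => rfl)
  rw [tor_map_smul_eq_zero_iff]
  -- the annihilator of `Tor_i(X, R' ⊗ R/J^k)`
  have hann : (J.map (algebraMap R R')) ^ (c + c₁) ≤
      Module.annihilator R' (((Tor (ModuleCat.{u} R') i).obj (ModuleCat.of R' X)).obj
        (bcObj (R' := R') (ModuleCat.of R (R ⧸ J ^ k)))) := by
    rw [← Ideal.map_pow, Ideal.map_le_iff_le_comap, pow_add, Ideal.mul_le]
    intro b hb a ha
    rw [Ideal.mem_comap, ← tor_map_smul_eq_zero_iff, ← bcMap_smul_smul]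
    have hφ : ∀ y : (ModuleCat.of R (R ⧸ J ^ k)), θ • y = 0 →
        (a • 𝟙 (ModuleCat.of R (R ⧸ J ^ k))) y = 0 := by
      intro y hy
      obtain ⟨x, rfl⟩ := Submodule.Quotient.mk_surjective _ y
      rw [← Submodule.Quotient.mk_smul, Submodule.Quotient.mk_eq_zero, smul_eq_mul] at hy
      have hx := hcol k x hy
      change a • (Submodule.Quotient.mk x : R ⧸ J ^ k) = 0
      rw [← Submodule.Quotient.mk_smul, Submodule.Quotient.mk_eq_zero, smul_eq_mul]
      have h1 : a * x ∈ J ^ c₁ * J ^ (k - c₁) := Ideal.mul_mem_mul ha hx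
      rw [← pow_add] at h1
      exact Ideal.pow_le_pow_right (by omega) h1
    exact step θ hθ hker hsurj (a • 𝟙 (ModuleCat.of R (R ⧸ J ^ k)))
      (b • 𝟙 (ModuleCat.of R (R ⧸ J ^ k))) hφ i (by omega) X (h i k hi b hb X)
  have e := (((Tor (ModuleCat.{u} R') i).obj (ModuleCat.of R' X)).mapIso
    (EQ (R' := R') J k)).toLinearEquiv.annihilator_eq
  rw [← e]
  exact hann hr'

end stepApp

end Groth.Agent.Lib.TorAnnH6
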