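import Mathlib
import Groth.Agent.Lib.TorAnn6_helper6

/-!
# `Tor_i(M, A/I^q)` for `i` larger than the number of generators of `I` (helper6), part 7

The main theorem: for `I` generated by `t` elements in a Noetherian ring `A` there is `c` such
that `I^c` kills `Tor_i(M, A/I^q)` for all `M`, `q`, `i > t`, and the transition maps
`Tor_i(M, A/I^n) → Tor_i(M, A/I^m)`, `m + c ≤ n`, vanish.
-/

set_option autoImplicit false
universe u
open CategoryTheory CategoryTheory.Limits MonoidalCategory TensorProduct Polynomial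

namespace Groth.Agent.Lib.TorAnnH6

open Groth.Agent.TorLES Groth.Agent.TorNat Groth.Agent.TorAR Groth.Agent.TorBal
open Groth.Agent.Lib.TorUnifH6 (q q_comp)

section evalStep

variable {A : Type u} [CommRing A] [IsNoetherianRing A]

/-- specializing the variable `X ↦ a`. -/
theorem pann_pmap_eval (a : A) (J : Ideal A[X]) (s c : ℕ) (h1 : PAnn A[X] J s c)
    (h2 : PMap A[X] J s c) :
    ∃ c' : ℕ, PAnn A (J.map (evalRingHom a)) s c' ∧ PMap A (J.map (evalRingHom a)) s c' := by
  letI : Algebra A[X] A := (evalRingHom a).toAlgebra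
  have hθ : IsSMulRegular A[X] (X - C a) := (monic_X_sub_C a).isRegular.left.isSMulRegular
  have hker : RingHom.ker (algebraMap A[X] A) = Ideal.span {X - C a} := ker_evalRingHom a
  have hsurj : Function.Surjective (algebraMap A[X] A) := by
    intro b
    exact ⟨C b, eval_C⟩
  obtain ⟨c₁, hcol⟩ := exists_colon_bound (X - C a) hθ J
  exact ⟨c + c₁, pann_step (X - C a) hθ hker hsurj J c₁ hcol s c h1,
    pmap_step (X - C a) hθ hker hsurj J c₁ hcol s c h2⟩

lemma map_eval_addX_sup (K : Ideal A) {t : ℕ} (g : Fin (t + 1) → A) :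
    (addX K ⊔ Ideal.span (Set.range (fun j : Fin t => (C (g j.succ) : A[X])))).map
      (evalRingHom (g 0)) = K ⊔ Ideal.span (Set.range g) := by
  have e1 : (evalRingHom (g 0)).comp (C : A →+* A[X]) = RingHom.id A := by
    ext b
    simp
  have e2 : (evalRingHom (g 0)) '' {(X : A[X])} = {g 0} := by
    rw [Set.image_singleton]
    simp
  have e3 : (evalRingHom (g 0)) '' (Set.range (fun j : Fin t => (C (g j.succ) : A[X]))) =
      Set.range (Fin.tail g) := by
    rw [← Set.range_comp]
    congr 1
    funext j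
    simp [Fin.tail]
  rw [Ideal.map_sup, Ideal.map_sup, Ideal.map_map, e1, Ideal.map_id, Ideal.map_span,
    Ideal.map_span, e2, e3, sup_assoc, ← Ideal.span_union, Fin.range_fin_succ g,
    Set.insert_eq]

end evalStep

/-- the main theorem, in inductive form. -/
theorem main (t : ℕ) : ∀ (A : Type u) [CommRing A] [IsNoetherianRing A] (K : Ideal A) (s : ℕ),
    Van A K s → ∀ g : Fin t → A,
      ∃ c : ℕ, PAnn A (K ⊔ Ideal.span (Set.range g)) (s + t) c ∧
        PMap A (K ⊔ Ideal.span (Set.range g)) (s + t) c := by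
  induction t with
  | zero =>
    intro A _ _ K s h g
    have e : K ⊔ Ideal.span (Set.range g) = K := by
      rw [Set.range_eq_empty, Ideal.span_empty, sup_bot_eq]
    rw [e]
    exact ⟨0, pann_pmap_of_van K s h⟩
  | succ t ih =>
    intro A _ _ K s h g
    obtain ⟨c, hc1, hc2⟩ := ih A[X] (addX K) (s + 1) (van_addX K s h)
      (fun j => C (g j.succ))
    have e : s + 1 + t = s + (t + 1) := by omega
    rw [e] at hc1 hc2
    obtain ⟨c', h1, h2⟩ := pann_pmap_eval (g 0) _ (s + (t + 1)) c hc1 hc2
    rw [map_eval_addX_sup] at h1 h2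
    exact ⟨c', h1, h2⟩

/-- the main theorem for an ideal generated by a finite set. -/
theorem main_finset {A : Type u} [CommRing A] [IsNoetherianRing A] (I : Ideal A) (t : ℕ)
    (s : Finset A) (hs : I = Ideal.span (s : Set A)) (ht : s.card ≤ t) :
    ∃ c : ℕ, PAnn A I t c ∧ PMap A I t c := by
  obtain ⟨c, h1, h2⟩ := main s.card A ⊥ 0 van_bot (fun j => (s.equivFin.symm j : A))
  have e : (⊥ : Ideal A) ⊔ Ideal.span (Set.range (fun j => (s.equivFin.symm j : A))) = I := by
    rw [bot_sup_eq, hs]
    congr 1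
    ext x
    constructor
    · rintro ⟨j, rfl⟩
      exact (s.equivFin.symm j).2
    · intro hx
      exact ⟨s.equivFin ⟨x, hx⟩, by simp⟩
  rw [e, zero_add] at h1 h2
  refine ⟨c, ?_, ?_⟩
  · intro i k hi
    exact h1 i k (by omega)
  · intro i n m hnm hi
    exact h2 i n m hnm (by omega)

end Groth.Agent.Lib.TorAnnH6
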