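import Groth.Agent.Lib.TorFun2_helper2
import Groth.Agent.Lib.CyclesFlat_helper2
import Groth.Agent.Lib.DTorCmp3_helper2
import Groth.Agent.Lib.DCohLoc4_lead

/-!
# The functors `T^i(M) = H^i(F(M, P^•))` only depend on an approximation of `P` (helper3)

Generic setting of `TorFun_helper2`/`KFlatGen*_helper2`: a bifunctor `F : 𝒜 ⥤ 𝒜 ⥤ 𝒜` with a class
`Fl` of flat objects.

* `SPmap`, `Tmap`: functoriality of `SP F K` and of `T F K i` in the complex `K`.
* `exactAt_tensor_of_exact_ge`: if `K` is a bounded above complex of flat objects, exact in degrees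
  `≥ m`, and `L` is concentrated in degrees `≤ 0`, then `Tot F(L, K)` is exact in degrees `≥ m`.
* `isApprox_tensor_map`: if `a : P ⟶ R` is an `m`-approximation between bounded above complexes of
  flat objects, so is `Tot F(L, a)`.
* `isIso_Tmap_app`, `TIso`: `T F P i ≅ T F R i` for `i > m`.
* `flat_coker_iff`: `F(-, coker(P^j → P^i))` is left exact iff `F(-, coker(R^j → R^i))` is.
-/

set_option autoImplicit false
set_option linter.all false
set_option maxHeartbeats 1600000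

universe w v u
open CategoryTheory Limits

namespace Groth.Agent.Lib.TorApproxH3

open Groth.Agent.Lib.KFlatGen Groth.Agent.Lib.BifSingleL Groth.Agent.Lib.BifCone
  Groth.Agent.Lib.TorFun Groth.Agent.Lib.DCohLocLead DerivedCategory

variable {𝒜 : Type u} [Category.{v} 𝒜] [Abelian 𝒜]
  (F : 𝒜 ⥤ 𝒜 ⥤ 𝒜) [F.Additive] [∀ X, (F.obj X).Additive]
  [∀ (K₁ K₂ : CochainComplex 𝒜 ℤ), CochainComplex.HasMapBifunctor K₁ K₂ F]

/-- functoriality of `SP F K` in `K` -/
noncomputable def SPmap {K K' : CochainComplex 𝒜 ℤ} (a : K ⟶ K') : SP F K ⟶ SP F K' where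
  app M := ((F.obj M).mapHomologicalComplex (ComplexShape.up ℤ)).map a
  naturality M M' f := by
    refine HomologicalComplex.hom_ext _ _ (fun i => ?_)
    exact ((F.map f).naturality (a.f i)).symm

lemma SPmap_app_f {K K' : CochainComplex 𝒜 ℤ} (a : K ⟶ K') (M : 𝒜) (i : ℤ) :
    ((SPmap F a).app M).f i = (F.obj M).map (a.f i) := rfl

/-- functoriality of `T F K i` in `K` -/
noncomputable def Tmap {K K' : CochainComplex 𝒜 ℤ} (a : K ⟶ K') (i : ℤ) : T F K i ⟶ T F K' i :=
  Functor.whiskerRight (SPmap F a) (HomologicalComplex.homologyFunctor 𝒜 (ComplexShape.up ℤ) i)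

lemma Tmap_app {K K' : CochainComplex 𝒜 ℤ} (a : K ⟶ K') (i : ℤ) (M : 𝒜) :
    (Tmap F a i).app M = HomologicalComplex.homologyMap ((SPmap F a).app M) i := rfl

/-- naturality of `xiApp` in the complex -/
lemma xiApp_naturality {K K' : CochainComplex 𝒜 ℤ} (a : K ⟶ K') (M : 𝒜) :
    (SPmap F a).app M ≫ xiApp F M K' = xiApp F M K ≫
      HomologicalComplex.mapBifunctorMap
        (𝟙 ((HomologicalComplex.single 𝒜 (ComplexShape.up ℤ) 0).obj M)) a F
        (ComplexShape.up ℤ) := by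
  refine HomologicalComplex.hom_ext _ _ (fun q => ?_)
  change (F.obj M).map (a.f q) ≫ θ F M K' q = θ F M K q ≫
    (HomologicalComplex.mapBifunctorMap
      (𝟙 ((HomologicalComplex.single 𝒜 (ComplexShape.up ℤ) 0).obj M)) a F
      (ComplexShape.up ℤ)).f q
  dsimp only [θ]
  rw [Category.assoc]
  erw [HomologicalComplex.ι_mapBifunctorMap]
  rw [HomologicalComplex.id_f, CategoryTheory.Functor.map_id, NatTrans.id_app, Category.id_comp,
    ← Category.assoc, ← Category.assoc]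
  congr 1
  exact (F.map (HomologicalComplex.singleObjXSelf (ComplexShape.up ℤ) 0 M).inv).naturality
    (a.f q)

/-- a term of the total complex all of whose summands vanish is zero -/
theorem isZero_mapBifunctor_X' (L K : CochainComplex 𝒜 ℤ) (n : ℤ)
    (h : ∀ p q : ℤ, p + q = n → IsZero ((F.obj (L.X p)).obj (K.X q))) :
    IsZero ((HomologicalComplex.mapBifunctor L K F (ComplexShape.up ℤ)).X n) := by
  rw [IsZero.iff_id_eq_zero]
  apply HomologicalComplex.mapBifunctor.hom_ext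
  intro p q hpq
  exact (h p q hpq).eq_of_src _ _

variable [HasDerivedCategory.{w} 𝒜]
variable (σ : F ≅ F.flip) {Fl P : 𝒜 → Prop} (hFl : FlatClass F Fl) (hP : ResClass Fl P)
  [HasCoproducts.{0} 𝒜]
  [∀ n : ℤ, HasExactColimitsOfShape (Discrete (BifSES.Idx n)) 𝒜]
  [HasColimitsOfShape ℕ 𝒜] [HasExactColimitsOfShape ℕ 𝒜]
  [∀ X : 𝒜, PreservesColimitsOfShape ℕ (F.obj X)]
  (hker : ∀ S : ShortComplex 𝒜, S.ShortExact → Fl S.X₂ → Fl S.X₃ → Fl S.X₁)

include σ hFl hP hker in
/-- a bounded above complex of flat objects which is exact in degrees `≥ m` stays so after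
tensoring with a complex concentrated in degrees `≤ 0` -/
theorem exactAt_tensor_of_exact_ge (K : CochainComplex 𝒜 ℤ) (b : ℤ) [K.IsStrictlyLE b]
    (hK : ∀ i, Fl (K.X i)) (m : ℤ) (hex : ∀ i, m ≤ i → K.ExactAt i)
    (L : CochainComplex 𝒜 ℤ) (hL : ∀ i, 0 < i → IsZero (L.X i)) (i : ℤ) (hi : m ≤ i) :
    (HomologicalComplex.mapBifunctor L K F (ComplexShape.up ℤ)).ExactAt i := by
  haveI : K.IsLE (m - 1) := by
    rw [CochainComplex.isLE_iff]
    intro j hj
    exact hex j (by omega)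
  have hτfl : ∀ j : ℤ, Fl ((K.truncLE (m - 1)).X j) :=
    Groth.Agent.Lib.CyclesFlat.truncLE_mem hFl.of_isZero (fun e h => hFl.of_iso e h) hker K b hK
      (m - 1)
  have hτ : IsKFlat F (K.truncLE (m - 1)) :=
    isKFlat_of_isStrictlyLE hFl (K.truncLE (m - 1)) (m - 1) hτfl
  have hK' : IsKFlat F K := isKFlat_of_isStrictlyLE hFl K b hK
  haveI : QuasiIso (HomologicalComplex.mapBifunctorMap (𝟙 L) (K.ιTruncLE (m - 1)) F
      (ComplexShape.up ℤ)) :=
    quasiIso_tensor_left_of_kflat σ hFl hP (K.truncLE (m - 1)) K hτ hK' (K.ιTruncLE (m - 1)) L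
  rw [← Groth.Agent.Lib.DTorCmp.exactAt_iff_of_quasiIso
    (HomologicalComplex.mapBifunctorMap (𝟙 L) (K.ιTruncLE (m - 1)) F (ComplexShape.up ℤ)) i,
    HomologicalComplex.exactAt_iff_isZero_homology]
  apply Groth.Agent.Lib.DTorCmp.isZero_homology_of_isZero_X
  apply isZero_mapBifunctor_X' F
  intro p q hpq
  by_cases hp : 0 < p
  · exact Functor.map_isZero (F.flip.obj ((K.truncLE (m - 1)).X q)) (hL p hp)
  · exact Functor.map_isZero (F.obj (L.X p))
      ((K.truncLE (m - 1)).isZero_of_isStrictlyLE (m - 1) q (by omega))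

omit [HasDerivedCategory.{w} 𝒜] in
include hFl hP in
lemma fl_mappingCone_X {P' R : CochainComplex 𝒜 ℤ} (a : P' ⟶ R) (hP' : ∀ i, Fl (P'.X i))
    (hR : ∀ i, Fl (R.X i)) (i : ℤ) : Fl ((CochainComplex.mappingCone a).X i) :=
  hFl.of_iso (HomologicalComplex.homotopyCofiber.XIsoBiprod a i (i + 1) rfl).symm
    (hP.flat_biprod (hP' (i + 1)) (hR i))

omit [HasDerivedCategory.{w} 𝒜] in
lemma isStrictlyLE_mappingCone {P' R : CochainComplex 𝒜 ℤ} (a : P' ⟶ R) (b : ℤ)
    [P'.IsStrictlyLE b] [R.IsStrictlyLE b] : (CochainComplex.mappingCone a).IsStrictlyLE b := by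
  rw [CochainComplex.isStrictlyLE_iff]
  intro i hi
  refine IsZero.of_iso ?_ (HomologicalComplex.homotopyCofiber.XIsoBiprod a i (i + 1) rfl)
  rw [IsZero.iff_id_eq_zero]
  apply biprod.hom_ext
  · exact (P'.isZero_of_isStrictlyLE b (i + 1) (by omega)).eq_of_tgt _ _
  · exact (R.isZero_of_isStrictlyLE b i hi).eq_of_tgt _ _

omit [HasCoproducts.{0} 𝒜]
  [∀ n : ℤ, HasExactColimitsOfShape (Discrete (BifSES.Idx n)) 𝒜]
  [HasColimitsOfShape ℕ 𝒜] [HasExactColimitsOfShape ℕ 𝒜]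
  [∀ X : 𝒜, PreservesColimitsOfShape ℕ (F.obj X)]
  [F.Additive] [∀ X, (F.obj X).Additive]
  [∀ (K₁ K₂ : CochainComplex 𝒜 ℤ), CochainComplex.HasMapBifunctor K₁ K₂ F] in
lemma exactAt_of_Lt (C : CochainComplex 𝒜 ℤ) (m : ℤ) (h : Lt m (Q.obj C)) (i : ℤ) (hi : m ≤ i) :
    C.ExactAt i := by
  rw [HomologicalComplex.exactAt_iff_isZero_homology]
  exact (h i hi).of_iso ((homologyFunctorFactors 𝒜 i).app C).symm

omit [HasCoproducts.{0} 𝒜]
  [∀ n : ℤ, HasExactColimitsOfShape (Discrete (BifSES.Idx n)) 𝒜]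
  [HasColimitsOfShape ℕ 𝒜] [HasExactColimitsOfShape ℕ 𝒜]
  [∀ X : 𝒜, PreservesColimitsOfShape ℕ (F.obj X)]
  [F.Additive] [∀ X, (F.obj X).Additive]
  [∀ (K₁ K₂ : CochainComplex 𝒜 ℤ), CochainComplex.HasMapBifunctor K₁ K₂ F] in
lemma Lt_of_exactAt (C : CochainComplex 𝒜 ℤ) (m : ℤ) (h : ∀ i, m ≤ i → C.ExactAt i) :
    Lt m (Q.obj C) := by
  intro i hi
  exact ((HomologicalComplex.exactAt_iff_isZero_homology _ _).1 (h i hi)).of_iso
    ((homologyFunctorFactors 𝒜 i).app C)

include σ hFl hP hker in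
/-- tensoring an `m`-approximation between bounded above complexes of flat objects with a complex
concentrated in degrees `≤ 0` gives an `m`-approximation -/
theorem isApprox_tensor_map {P' R : CochainComplex 𝒜 ℤ} (a : P' ⟶ R) (b : ℤ)
    [P'.IsStrictlyLE b] [R.IsStrictlyLE b] (hP' : ∀ i, Fl (P'.X i)) (hR : ∀ i, Fl (R.X i))
    (m : ℤ) (ha : IsApprox m (Q.map a))
    (L : CochainComplex 𝒜 ℤ) (hL : ∀ i, 0 < i → IsZero (L.X i)) :
    IsApprox m (Q.map (HomologicalComplex.mapBifunctorMap (𝟙 L) a F (ComplexShape.up ℤ))) := by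
  have h1 : Lt m (Q.obj (CochainComplex.mappingCone a)) :=
    Lt_of_isApprox m _ (DerivedCategory.mappingCone_triangle_distinguished a) ha
  haveI := isStrictlyLE_mappingCone a b
  have h2 : ∀ i, m ≤ i → (HomologicalComplex.mapBifunctor L (CochainComplex.mappingCone a) F
      (ComplexShape.up ℤ)).ExactAt i :=
    exactAt_tensor_of_exact_ge F σ hFl hP hker (CochainComplex.mappingCone a) b
      (fl_mappingCone_X F hFl hP a hP' hR) m (exactAt_of_Lt _ m h1) L hL
  have h3 : Lt m (Q.obj (CochainComplex.mappingCone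
      (HomologicalComplex.mapBifunctorMap (𝟙 L) a F (ComplexShape.up ℤ)))) :=
    (Lt_of_exactAt _ m h2).of_iso (Q.mapIso (mapBifunctorConeIso₂ F L a))
  exact isApprox_of_Lt m _ (DerivedCategory.mappingCone_triangle_distinguished
    (HomologicalComplex.mapBifunctorMap (𝟙 L) a F (ComplexShape.up ℤ))) h3

include σ hFl hP hker in
/-- **`T^i(P) ⟶ T^i(R)` is an isomorphism for `i > m`** if `P ⟶ R` is an `m`-approximation -/
theorem isIso_Tmap_app {P' R : CochainComplex 𝒜 ℤ} (a : P' ⟶ R) (b : ℤ)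
    [P'.IsStrictlyLE b] [R.IsStrictlyLE b] (hP' : ∀ i, Fl (P'.X i)) (hR : ∀ i, Fl (R.X i))
    (m : ℤ) (ha : IsApprox m (Q.map a)) (i : ℤ) (hi : m < i) (M : 𝒜) :
    IsIso ((Tmap F a i).app M) := by
  have h := isApprox_tensor_map F σ hFl hP hker a b hP' hR m ha
    ((HomologicalComplex.single 𝒜 (ComplexShape.up ℤ) 0).obj M)
    (fun j hj => HomologicalComplex.isZero_single_obj_X (ComplexShape.up ℤ) _ _ _ (by omega))
  have h1 : IsIso (HomologicalComplex.homologyMap (HomologicalComplex.mapBifunctorMap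
      (𝟙 ((HomologicalComplex.single 𝒜 (ComplexShape.up ℤ) 0).obj M)) a F
      (ComplexShape.up ℤ)) i) :=
    (NatIso.isIso_map_iff (homologyFunctorFactors 𝒜 i) _).1 (h.1 i hi)
  let eP := @asIso _ _ _ _ (xiApp F M P') (isIso_xiApp F M P')
  let eR := @asIso _ _ _ _ (xiApp F M R) (isIso_xiApp F M R)
  have h2 : (SPmap F a).app M = eP.hom ≫
      HomologicalComplex.mapBifunctorMap
        (𝟙 ((HomologicalComplex.single 𝒜 (ComplexShape.up ℤ) 0).obj M)) a F
        (ComplexShape.up ℤ) ≫ eR.inv := by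
    rw [← Category.assoc, Iso.eq_comp_inv]
    exact xiApp_naturality F a M
  have h3 : (Tmap F a i).app M =
      (HomologicalComplex.homologyFunctor 𝒜 (ComplexShape.up ℤ) i).map ((SPmap F a).app M) := rfl
  rw [h3, h2, Functor.map_comp, Functor.map_comp]
  let e1 := (HomologicalComplex.homologyFunctor 𝒜 (ComplexShape.up ℤ) i).mapIso eP
  let e2 := @asIso _ _ _ _ _ h1
  let e3 := (HomologicalComplex.homologyFunctor 𝒜 (ComplexShape.up ℤ) i).mapIso eR.symm
  exact (e1 ≪≫ e2 ≪≫ e3).isIso_hom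

include σ hFl hP hker in
/-- `T^i(P) ≅ T^i(R)` for `i > m` -/
theorem nonempty_TIso {P' R : CochainComplex 𝒜 ℤ} (a : P' ⟶ R) (b : ℤ)
    [P'.IsStrictlyLE b] [R.IsStrictlyLE b] (hP' : ∀ i, Fl (P'.X i)) (hR : ∀ i, Fl (R.X i))
    (m : ℤ) (ha : IsApprox m (Q.map a)) (i : ℤ) (hi : m < i) :
    Nonempty (T F P' i ≅ T F R i) := by
  haveI : ∀ M, IsIso ((Tmap F a i).app M) := fun M =>
    isIso_Tmap_app F σ hFl hP hker a b hP' hR m ha i hi M
  haveI : IsIso (Tmap F a i) := NatIso.isIso_of_isIso_app _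
  exact ⟨asIso (Tmap F a i)⟩

include σ hFl hP hker in
/-- **flatness of the cokernels of the differentials only depends on an approximation** -/
theorem flat_coker_iff [∀ M, PreservesFiniteColimits (F.obj M)]
    [∀ N, PreservesFiniteColimits (F.flip.obj N)]
    {P' R : CochainComplex 𝒜 ℤ} (a : P' ⟶ R) (b : ℤ)
    [P'.IsStrictlyLE b] [R.IsStrictlyLE b] (hP' : ∀ i, Fl (P'.X i)) (hR : ∀ i, Fl (R.X i))
    (m : ℤ) (ha : IsApprox m (Q.map a)) (j i : ℤ) (hji : j + 1 = i) (hi : m < i) :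
    PreservesFiniteLimits (F.flip.obj (cokernel (P'.d j i))) ↔
      PreservesFiniteLimits (F.flip.obj (cokernel (R.d j i))) := by
  obtain ⟨e⟩ := nonempty_TIso F σ hFl hP hker a b hP' hR m ha i hi
  rw [← preservesFiniteLimits_T_iff F P' (fun q => hFl.preservesFiniteLimits _ (hP' q)) j i hji,
    ← preservesFiniteLimits_T_iff F R (fun q => hFl.preservesFiniteLimits _ (hR q)) j i hji]
  exact ⟨fun _ => preservesFiniteLimits_of_natIso e,
    fun _ => preservesFiniteLimits_of_natIso e.symm⟩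

end Groth.Agent.Lib.TorApproxH3
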