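import Mathlib
import Groth.Agent.Lib.LocalCrit2_helper9

/-!
# Surjectivity of `Tor₁^R(R/I, M) ⊗ R' → Tor₁^{R'}(R'/IR', M ⊗ R')` when `M/IM` is `R/I`-flat

(Stacks 10.99.12/10.99.13, in kernel-of-multiplication form.)
-/

set_option autoImplicit false
set_option maxHeartbeats 1000000

noncomputable section

namespace Groth.Agent.Lib.TorBCH1

open TensorProduct

section mu

variable {A : Type*} [CommRing A] (J : Ideal A) (Y : Type*) [AddCommGroup Y] [Module A Y]

/-- multiplication map `J ⊗ Y → Y` -/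
def mu : J ⊗[A] Y →ₗ[A] Y :=
  (TensorProduct.lid A Y).toLinearMap ∘ₗ J.subtype.rTensor Y

@[simp] lemma mu_tmul (x : J) (y : Y) : mu J Y (x ⊗ₜ y) = (x : A) • y := by
  simp [mu]

lemma mu_eq_zero_iff (t : J ⊗[A] Y) : mu J Y t = 0 ↔ J.subtype.rTensor Y t = 0 := by
  simp [mu]

variable {Y} in
lemma mu_nat {Y' : Type*} [AddCommGroup Y'] [Module A Y'] (h : Y →ₗ[A] Y') (t : J ⊗[A] Y) :
    h (mu J Y t) = mu J Y' (h.lTensor J t) := by
  induction t using TensorProduct.induction_on with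
  | zero => simp
  | tmul x y => simp
  | add a b ha hb => simp only [map_add, ha, hb]

lemma range_mu : LinearMap.range (mu J Y) = J • (⊤ : Submodule A Y) := by
  rw [mu, LinearMap.range_comp]
  exact Submodule.map_range_rTensor_subtype_lid

lemma mu_injective_iff :
    Function.Injective (mu J Y) ↔ Function.Injective (J.subtype.rTensor Y) := by
  have h : ⇑(mu J Y) = (TensorProduct.lid A Y) ∘ (J.subtype.rTensor Y) := rfl
  rw [h]
  exact (TensorProduct.lid A Y).injective.of_comp_iff _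

lemma mu_injective [Module.Flat A Y] : Function.Injective (mu J Y) := by
  rw [mu_injective_iff]
  exact Module.Flat.rTensor_preserves_injective_linearMap J.subtype J.injective_subtype

end mu

section Phi

variable {R : Type*} [CommRing R] {R' : Type*} [CommRing R'] [Algebra R R'] (I : Ideal R)
variable {M : Type*} [AddCommGroup M] [Module R M]
variable {Y : Type*} [AddCommGroup Y] [Module R' Y] [Module R Y] [IsScalarTower R R' Y]

/-- `I ⊗_R M → IR' ⊗_{R'} Y`, `x ⊗ m ↦ x ⊗ j m`. -/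
def Phi (R' : Type*) [CommRing R'] [Algebra R R'] (I : Ideal R)
    {Y : Type*} [AddCommGroup Y] [Module R' Y] [Module R Y] [IsScalarTower R R' Y]
    (j : M →ₗ[R] Y) : I ⊗[R] M →ₗ[R] (I.map (algebraMap R R')) ⊗[R'] Y :=
  (TensorProduct.mapOfCompatibleSMul R' R R (I.map (algebraMap R R')) Y) ∘ₗ
    (TensorProduct.map (Algebra.idealMap R' I) j)

@[simp] lemma Phi_tmul (j : M →ₗ[R] Y) (x : I) (m : M) :
    Phi R' I j (x ⊗ₜ m) = (Algebra.idealMap R' I x) ⊗ₜ[R'] (j m) := rfl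

lemma Phi_lTensor {M₁ : Type*} [AddCommGroup M₁] [Module R M₁] (p : M₁ →ₗ[R] M) (j : M →ₗ[R] Y)
    (t : I ⊗[R] M₁) : Phi R' I j (p.lTensor I t) = Phi R' I (j ∘ₗ p) t := by
  induction t using TensorProduct.induction_on with
  | zero => simp
  | tmul x m => simp
  | add a b ha hb => simp only [map_add, ha, hb]

lemma lTensor_Phi {Y' : Type*} [AddCommGroup Y'] [Module R' Y'] [Module R Y']
    [IsScalarTower R R' Y'] (h : Y →ₗ[R'] Y') (j : M →ₗ[R] Y) (t : I ⊗[R] M) :
    h.lTensor (I.map (algebraMap R R')) (Phi R' I j t) = Phi R' I ((h.restrictScalars R) ∘ₗ j) t := by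
  induction t using TensorProduct.induction_on with
  | zero => simp
  | tmul x m => simp
  | add a b ha hb => simp only [map_add, ha, hb]

lemma mu_Phi (j : M →ₗ[R] Y) (t : I ⊗[R] M) :
    mu (I.map (algebraMap R R')) Y (Phi R' I j t) = j (mu I M t) := by
  induction t using TensorProduct.induction_on with
  | zero => simp
  | tmul x m =>
    rw [Phi_tmul, mu_tmul, mu_tmul, map_smul]
    show (algebraMap R R' (x : R)) • j m = (x : R) • j m
    rw [algebraMap_smul]
  | add a b ha hb => simp only [map_add, ha, hb]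

end Phi

section LemmaT

variable {R : Type*} [CommRing R] (k : Type*) [CommRing k] [Algebra R k]
variable {N F M : Type*} [AddCommGroup N] [Module R N] [AddCommGroup F] [Module R F]
  [AddCommGroup M] [Module R M]

/-- pure tensors `p ⊗ n` with `i n` dying in `k ⊗ F` -/
@[reducible] def genSet (i : N →ₗ[R] F) (P : Type*) [AddCommGroup P] [Module R P] :
    Set (P ⊗[R] N) :=
  {y | ∃ (p : P) (n : N), (1 : k) ⊗ₜ[R] i n = (0 : k ⊗[R] F) ∧ y = p ⊗ₜ[R] n}

theorem lemmaK {k : Type*} [CommRing k] {Nk Fk Mk : Type*} [AddCommGroup Nk] [Module k Nk]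
    [AddCommGroup Fk] [Module k Fk] [AddCommGroup Mk] [Module k Mk] [Module.Flat k Mk]
    (ib : Nk →ₗ[k] Fk) (πb : Fk →ₗ[k] Mk) (hexb : Function.Exact ib πb)
    (hπb : Function.Surjective πb)
    (P : Type*) [AddCommGroup P] [Module k P] (w : P ⊗[k] Nk) (hw : ib.lTensor P w = 0) :
    w ∈ LinearMap.range ((LinearMap.ker ib).subtype.lTensor P) := by
  have hinj : Function.Injective ((LinearMap.ker πb).subtype.lTensor P) :=
    LinearMap.lTensor_injective_of_exact_of_flat πb hπb _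
      (Submodule.injective_subtype _) (LinearMap.exact_subtype_ker_map _) P
  obtain ⟨q, hq⟩ : ∃ q : Nk →ₗ[k] LinearMap.ker πb,
      ∀ y, ((q y : LinearMap.ker πb) : Fk) = ib y :=
    ⟨ib.codRestrict _
      (fun y => LinearMap.mem_ker.mpr (hexb.apply_apply_eq_zero y)), fun y => rfl⟩
  have hqsurj : Function.Surjective q := by
    rintro ⟨y, hy⟩
    obtain ⟨x, hx⟩ := (hexb y).mp (LinearMap.mem_ker.mp hy)
    exact ⟨x, Subtype.ext ((hq x).trans hx)⟩
  have hfac : ∀ t : P ⊗[k] Nk,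
      (LinearMap.ker πb).subtype.lTensor P (q.lTensor P t) = ib.lTensor P t := by
    intro t
    induction t using TensorProduct.induction_on with
    | zero => simp
    | tmul p y => simp [hq]
    | add a b ha hb => simp only [map_add, ha, hb]
  have hexq : Function.Exact ((LinearMap.ker q).subtype.lTensor P) (q.lTensor P) :=
    lTensor_exact P (LinearMap.exact_subtype_ker_map q) hqsurj
  have h2 : q.lTensor P w = 0 := hinj (by rw [hfac, hw, map_zero])
  obtain ⟨t, rfl⟩ := (hexq w).mp h2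
  have hker : LinearMap.ker q = LinearMap.ker ib := by
    ext y
    rw [LinearMap.mem_ker, LinearMap.mem_ker, ← hq]
    exact ⟨fun h => by rw [h]; rfl, fun h => Subtype.ext h⟩
  clear h2 hw
  induction t using TensorProduct.induction_on with
  | zero => simp
  | add a b ha hb => rw [map_add]; exact add_mem ha hb
  | tmul p y =>
    refine LinearMap.mem_range.mpr ⟨p ⊗ₜ ⟨y.1, hker ▸ y.2⟩, ?_⟩
    simp

theorem lemmaT (hk : Function.Surjective (algebraMap R k))
    (i : N →ₗ[R] F) (π : F →ₗ[R] M) [Module.Flat k (k ⊗[R] M)]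
    (hex : Function.Exact i π) (hπ : Function.Surjective π)
    (P : Type*) [AddCommGroup P] [Module k P] [Module R P] [IsScalarTower R k P]
    (w : P ⊗[R] N) (hw : i.lTensor P w = 0) : w ∈ Submodule.span R (genSet k i P) := by
  have hexb : Function.Exact (i.baseChange k) (π.baseChange k) := by
    intro y
    rw [LinearMap.baseChange_eq_ltensor, LinearMap.baseChange_eq_ltensor]
    exact lTensor_exact k hex hπ y
  have hπb : Function.Surjective (π.baseChange k) := by
    rw [LinearMap.baseChange_eq_ltensor]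
    exact LinearMap.lTensor_surjective k hπ
  obtain ⟨w', rfl⟩ := (AlgebraTensorModule.cancelBaseChange R k k P N).surjective w
  have h1 : (i.baseChange k).lTensor P w' = 0 := by
    apply (AlgebraTensorModule.cancelBaseChange R k k P F).injective
    rw [Groth.Agent.Lib.LocalCrit2.cancel_nat_right k i P w', hw, map_zero]
  have h2 := lemmaK (i.baseChange k) (π.baseChange k) hexb hπb P w' h1
  obtain ⟨t, rfl⟩ := LinearMap.mem_range.mp h2
  clear h1 h2 hw
  induction t using TensorProduct.induction_on with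
  | zero => simp
  | add a b ha hb => rw [map_add, map_add]; exact add_mem ha hb
  | tmul p y =>
    obtain ⟨y, hy⟩ := y
    obtain ⟨n, rfl⟩ := TensorProduct.mk_surjective (R := R) (M := N) (S := k) hk y
    apply Submodule.subset_span
    refine ⟨p, n, ?_, ?_⟩
    · have h1 : i.baseChange k ((1 : k) ⊗ₜ[R] n) = 0 := LinearMap.mem_ker.mp hy
      rw [LinearMap.baseChange_tmul] at h1
      exact h1
    · simp

theorem lemmaT' (hk : Function.Surjective (algebraMap R k))
    (i : N →ₗ[R] F) (π : F →ₗ[R] M) [Module.Flat k (k ⊗[R] M)]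
    (hex : Function.Exact i π) (hπ : Function.Surjective π)
    (P : Type*) [AddCommGroup P] [Module k P] [Module R P] [IsScalarTower R k P]
    {P₀ : Type*} [AddCommGroup P₀] [Module R P₀] (ρ : P₀ →ₗ[R] P) (hρ : Function.Surjective ρ)
    (n₁ : P₀ ⊗[R] N) (h : i.lTensor P (ρ.rTensor N n₁) = 0) :
    ∃ n₂ ∈ Submodule.span R (genSet k i P₀),
      n₁ - n₂ ∈ LinearMap.range ((LinearMap.ker ρ).subtype.rTensor N) := by
  have hw := lemmaT k hk i π hex hπ P _ h
  have hle : Submodule.span R (genSet k i P) ≤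
      (Submodule.span R (genSet k i P₀)).map (ρ.rTensor N) := by
    rw [Submodule.span_le]
    rintro _ ⟨p, n, hn, rfl⟩
    obtain ⟨r, rfl⟩ := hρ p
    exact Submodule.mem_map.mpr ⟨r ⊗ₜ n, Submodule.subset_span ⟨r, n, hn, rfl⟩, rfl⟩
  obtain ⟨n₂, hn₂, hn₂eq⟩ := Submodule.mem_map.mp (hle hw)
  refine ⟨n₂, hn₂, ?_⟩
  have hex' : Function.Exact ((LinearMap.ker ρ).subtype.rTensor N) (ρ.rTensor N) :=
    rTensor_exact N (LinearMap.exact_subtype_ker_map ρ) hρ
  obtain ⟨y, hy⟩ := (hex' (n₁ - n₂)).mp (by rw [map_sub, hn₂eq, sub_self])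
  exact LinearMap.mem_range.mpr ⟨y, hy⟩

end LemmaT

section L2

variable {R : Type*} [CommRing R] {R' : Type*} [CommRing R'] [Algebra R R'] (I : Ideal R)
variable {N F M : Type*} [AddCommGroup N] [Module R N] [AddCommGroup F] [Module R F]
  [AddCommGroup M] [Module R M]
variable {X : Type*} [AddCommGroup X] [Module R' X] [Module R X] [IsScalarTower R R' X]

local notation "𝔦" => Ideal.map (algebraMap R R') I

/-- base-changed `π` landing in `X` -/
def pi1 (π : F →ₗ[R] M) (ι : M →ₗ[R] X) (hι : IsBaseChange R' ι) : R' ⊗[R] F →ₗ[R'] X :=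
  hι.equiv.toLinearMap ∘ₗ π.baseChange R'

lemma pi1_tmul (π : F →ₗ[R] M) (ι : M →ₗ[R] X) (hι : IsBaseChange R' ι) (r' : R') (f : F) :
    pi1 π ι hι (r' ⊗ₜ f) = r' • ι (π f) := by
  simp [pi1, IsBaseChange.equiv_tmul]

lemma pi1_surjective (π : F →ₗ[R] M) (ι : M →ₗ[R] X) (hι : IsBaseChange R' ι)
    (hπ : Function.Surjective π) : Function.Surjective (pi1 π ι hι) := by
  have h : ⇑(pi1 π ι hι) = hι.equiv ∘ (π.baseChange R') := rfl
  rw [h]
  refine hι.equiv.surjective.comp ?_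
  rw [LinearMap.baseChange_eq_ltensor]
  exact LinearMap.lTensor_surjective R' hπ

lemma pi1_exact (i : N →ₗ[R] F) (π : F →ₗ[R] M) (ι : M →ₗ[R] X) (hι : IsBaseChange R' ι)
    (hex : Function.Exact i π) (hπ : Function.Surjective π) :
    Function.Exact (i.baseChange R') (pi1 π ι hι) := by
  intro y
  have h1 : pi1 π ι hι y = 0 ↔ π.baseChange R' y = 0 := by
    show hι.equiv (π.baseChange R' y) = 0 ↔ _
    exact LinearEquiv.map_eq_zero_iff _
  rw [h1]
  have := lTensor_exact R' hex hπ y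
  rw [LinearMap.baseChange_eq_ltensor, LinearMap.baseChange_eq_ltensor]
  exact this

/-- target span in `I' ⊗ X` -/
def Vspan (ι : M →ₗ[R] X) : Submodule R' (𝔦 ⊗[R'] X) :=
  Submodule.span R' (Phi R' I ι '' {t | mu I M t = 0})

/-- auxiliary span in `I' ⊗ F₁` -/
def Uspan (i : N →ₗ[R] F) (π : F →ₗ[R] M) : Submodule R' (𝔦 ⊗[R'] (R' ⊗[R] F)) :=
  Submodule.span R'
    ({u | ∃ t : I ⊗[R] F, π (mu I F t) = 0 ∧ u = Phi R' I (TensorProduct.mk R R' F 1) t} ∪
     {u | ∃ (x : 𝔦) (ν : R' ⊗[R] N), u = x ⊗ₜ[R'] (i.baseChange R' ν)})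

lemma Uspan_le (i : N →ₗ[R] F) (π : F →ₗ[R] M) (ι : M →ₗ[R] X) (hι : IsBaseChange R' ι)
    (hex : Function.Exact i π) (hπ : Function.Surjective π) :
    Uspan I i π ≤ (Vspan I ι).comap ((pi1 π ι hι).lTensor 𝔦) := by
  rw [Uspan, Submodule.span_le]
  rintro u (⟨t, ht, rfl⟩ | ⟨x, ν, rfl⟩)
  · show (pi1 π ι hι).lTensor _ (Phi R' I (TensorProduct.mk R R' F 1) t) ∈ Vspan I ι
    rw [lTensor_Phi]
    have hcomp : ((pi1 π ι hι).restrictScalars R) ∘ₗ (TensorProduct.mk R R' F 1) = ι ∘ₗ π := by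
      refine LinearMap.ext fun f => ?_
      simp [pi1_tmul]
    rw [hcomp, ← Phi_lTensor]
    apply Submodule.subset_span
    refine ⟨π.lTensor I t, ?_, rfl⟩
    show mu I M (π.lTensor I t) = 0
    rw [← mu_nat, ht]
  · show (pi1 π ι hι).lTensor _ (x ⊗ₜ[R'] (i.baseChange R' ν)) ∈ Vspan I ι
    rw [LinearMap.lTensor_tmul, (pi1_exact i π ι hι hex hπ).apply_apply_eq_zero, tmul_zero]
    exact zero_mem _

lemma g1 (i : N →ₗ[R] F) (π : F →ₗ[R] M) (hex : Function.Exact i π) (r' : R') (n : N)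
    (hn : i n ∈ I • (⊤ : Submodule R F)) :
    i.baseChange R' (r' ⊗ₜ n) ∈ (Uspan I i π).map (mu 𝔦 (R' ⊗[R] F)) := by
  have hn' : i n ∈ LinearMap.range (mu I F) := by rw [range_mu]; exact hn
  obtain ⟨t, ht⟩ := LinearMap.mem_range.mp hn'
  refine Submodule.mem_map.mpr ⟨r' • Phi R' I (TensorProduct.mk R R' F 1) t, ?_, ?_⟩
  · refine Submodule.smul_mem _ _ (Submodule.subset_span (Or.inl ⟨t, ?_, rfl⟩))
    rw [ht]
    exact hex.apply_apply_eq_zero n
  · rw [map_smul, mu_Phi, ht, LinearMap.baseChange_tmul]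
    show r' • ((1 : R') ⊗ₜ[R] i n) = r' ⊗ₜ[R] i n
    rw [TensorProduct.smul_tmul', smul_eq_mul, mul_one]

lemma g2 (i : N →ₗ[R] F) (π : F →ₗ[R] M) (J : Submodule R R') (hJ : ∀ x ∈ J, x ∈ 𝔦)
    (y : J ⊗[R] N) :
    i.baseChange R' (J.subtype.rTensor N y) ∈ (Uspan I i π).map (mu 𝔦 (R' ⊗[R] F)) := by
  induction y using TensorProduct.induction_on with
  | zero => simp
  | add a b ha hb => rw [map_add, map_add]; exact add_mem ha hb
  | tmul x n =>
    refine Submodule.mem_map.mpr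
      ⟨(⟨x.1, hJ _ x.2⟩ : 𝔦) ⊗ₜ[R'] (i.baseChange R' ((1 : R') ⊗ₜ[R] n)), ?_, ?_⟩
    · exact Submodule.subset_span (Or.inr ⟨_, _, rfl⟩)
    · rw [mu_tmul, LinearMap.rTensor_tmul, LinearMap.baseChange_tmul, LinearMap.baseChange_tmul]
      show (x : R') • ((1 : R') ⊗ₜ[R] i n) = (x : R') ⊗ₜ[R] i n
      rw [TensorProduct.smul_tmul', smul_eq_mul, mul_one]

section abstract

variable (k : Type*) [CommRing k] [Algebra R k] (k' : Type*) [CommRing k'] [Algebra R' k']
  [Algebra R k'] [IsScalarTower R R' k'] [Algebra k k'] [IsScalarTower R k k']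

lemma vanish (h𝔦1 : ∀ x ∈ 𝔦, algebraMap R' k' x = 0) (zt : 𝔦 ⊗[R'] (R' ⊗[R] F)) :
    ((IsScalarTower.toAlgHom R R' k').toLinearMap).rTensor F (mu 𝔦 (R' ⊗[R] F) zt) = 0 := by
  induction zt using TensorProduct.induction_on with
  | zero => simp
  | add a b ha hb => rw [map_add, map_add, ha, hb, add_zero]
  | tmul x y =>
    rw [mu_tmul]
    induction y using TensorProduct.induction_on with
    | zero => simp
    | add a b ha hb => rw [smul_add, map_add, ha, hb, add_zero]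
    | tmul r' f =>
      rw [TensorProduct.smul_tmul', LinearMap.rTensor_tmul]
      have h0 : (IsScalarTower.toAlgHom R R' k').toLinearMap ((x : R') • r') = 0 := by
        show algebraMap R' k' ((x : R') * r') = 0
        rw [map_mul, h𝔦1 _ x.2, zero_mul]
      rw [h0, zero_tmul]

theorem ker_le_span (hk : Function.Surjective (algebraMap R k))
    (hk' : Function.Surjective (algebraMap R' k'))
    (hIk : ∀ f : F, (1 : k) ⊗ₜ[R] f = (0 : k ⊗[R] F) → f ∈ I • (⊤ : Submodule R F))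
    (h𝔦1 : ∀ x ∈ 𝔦, algebraMap R' k' x = 0) (h𝔦2 : ∀ x, algebraMap R' k' x = 0 → x ∈ 𝔦)
    (i : N →ₗ[R] F) (π : F →ₗ[R] M) (ι : M →ₗ[R] X) (hι : IsBaseChange R' ι)
    [Module.Flat k (k ⊗[R] M)] [Module.Flat R' (R' ⊗[R] F)]
    (hex : Function.Exact i π) (hπ : Function.Surjective π) :
    LinearMap.ker (mu 𝔦 X) ≤ Vspan I ι := by
  intro z hz
  obtain ⟨zt, rfl⟩ := LinearMap.lTensor_surjective 𝔦 (pi1_surjective π ι hι hπ) z
  have hv : pi1 π ι hι (mu 𝔦 _ zt) = 0 := by
    rw [mu_nat]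
    exact LinearMap.mem_ker.mp hz
  obtain ⟨n₁, hn₁⟩ := (pi1_exact i π ι hι hex hπ _).mp hv
  have hw : i.lTensor k' (((IsScalarTower.toAlgHom R R' k').toLinearMap).rTensor N n₁) = 0 := by
    rw [← Groth.Agent.Lib.LocalCrit2.sq N (IsScalarTower.toAlgHom R R' k').toLinearMap i n₁]
    have h0 : i.lTensor R' n₁ = mu 𝔦 (R' ⊗[R] F) zt := by
      rw [← hn₁, LinearMap.baseChange_eq_ltensor]
    rw [h0]
    exact vanish I k' h𝔦1 zt
  obtain ⟨n₂, hn₂, hdiff⟩ := lemmaT' k hk i π hex hπ k' (IsScalarTower.toAlgHom R R' k').toLinearMap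
    hk' n₁ hw
  have h2 : i.baseChange R' n₂ ∈ (Uspan I i π).map (mu 𝔦 (R' ⊗[R] F)) := by
    have hle : Submodule.span R (genSet k i R') ≤
        (((Uspan I i π).map (mu 𝔦 (R' ⊗[R] F))).comap (i.baseChange R')).restrictScalars R := by
      rw [Submodule.span_le]
      rintro _ ⟨r', n, hn, rfl⟩
      exact g1 I i π hex r' n (hIk _ hn)
    exact hle hn₂
  have h3 : i.baseChange R' (n₁ - n₂) ∈ (Uspan I i π).map (mu 𝔦 (R' ⊗[R] F)) := by
    obtain ⟨y, hy⟩ := LinearMap.mem_range.mp hdiff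
    rw [← hy]
    refine g2 I i π _ (fun x hx => ?_) y
    exact h𝔦2 x (LinearMap.mem_ker.mp hx)
  have h4 : mu 𝔦 (R' ⊗[R] F) zt ∈ (Uspan I i π).map (mu 𝔦 (R' ⊗[R] F)) := by
    rw [← hn₁, show i.baseChange R' n₁ = i.baseChange R' n₂ + i.baseChange R' (n₁ - n₂) by
      rw [map_sub]; abel]
    exact add_mem h2 h3
  obtain ⟨u, hu, hueq⟩ := Submodule.mem_map.mp h4
  have hzt : u = zt := mu_injective _ _ hueq
  subst hzt
  exact Uspan_le I i π ι hι hex hπ hu

end abstract

lemma one_tmul_eq_zero (f : F) (h : (1 : R ⧸ I) ⊗ₜ[R] f = (0 : (R ⧸ I) ⊗[R] F)) :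
    f ∈ I • (⊤ : Submodule R F) := by
  have h2 := congrArg (TensorProduct.quotTensorEquivQuotSMul F I) h
  rw [TensorProduct.quotTensorEquivQuotSMul_mk_one_tmul, map_zero] at h2
  exact (Submodule.Quotient.mk_eq_zero _).mp h2

theorem ker_le_span' (ι : M →ₗ[R] X) (hι : IsBaseChange R' ι)
    [Module.Flat (R ⧸ I) ((R ⧸ I) ⊗[R] M)] :
    LinearMap.ker (mu 𝔦 X) ≤ Vspan I ι :=
  ker_le_span (N := LinearMap.ker (Finsupp.linearCombination R (id : M → M))) (F := M →₀ R) I
    (R ⧸ I) (R' ⧸ 𝔦) Ideal.Quotient.mk_surjective Ideal.Quotient.mk_surjective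
    (fun f hf => one_tmul_eq_zero I f hf)
    (fun x hx => Ideal.Quotient.eq_zero_iff_mem.mpr hx)
    (fun x hx => Ideal.Quotient.eq_zero_iff_mem.mp hx)
    (LinearMap.ker (Finsupp.linearCombination R (id : M → M))).subtype
    (Finsupp.linearCombination R (id : M → M)) ι hι
    (LinearMap.exact_subtype_ker_map (Finsupp.linearCombination R (id : M → M)))
    (Finsupp.linearCombination_id_surjective R M)

theorem eq_zero_of_ker (ι : M →ₗ[R] X) (hι : IsBaseChange R' ι)
    [Module.Flat (R ⧸ I) ((R ⧸ I) ⊗[R] M)]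
    {Q : Type*} [AddCommGroup Q] [Module R' Q] (lam : 𝔦 ⊗[R'] X →ₗ[R'] Q)
    (hlam : ∀ t : I ⊗[R] M, mu I M t = 0 → lam (Phi R' I ι t) = 0)
    (z : 𝔦 ⊗[R'] X) (hz : mu 𝔦 X z = 0) : lam z = 0 := by
  have h1 := ker_le_span' I ι hι (LinearMap.mem_ker.mpr hz)
  have hle : Vspan I ι ≤ LinearMap.ker lam := by
    rw [Vspan, Submodule.span_le]
    rintro _ ⟨t, ht, rfl⟩
    exact LinearMap.mem_ker.mpr (hlam t ht)
  exact LinearMap.mem_ker.mp (hle h1)

end L2

end Groth.Agent.Lib.TorBCH1
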