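import Mathlib
import Groth.Agent.Lib.TorBC1_helper1
import Groth.Agent.Lib.LocalCrit3_helper9
import Groth.Agent.Lib.LocalCrit7_helper9

/-!
# Flatness of a base change from vanishing of the Tor comparison map (Stacks 10.99.14)
-/

set_option autoImplicit false
set_option maxHeartbeats 1000000

noncomputable section

namespace Groth.Agent.Lib.TorBCH1

open TensorProduct

universe u

section comm

variable {A : Type*} [CommRing A] {Y Y' Q Q' : Type*} [AddCommGroup Y] [Module A Y]
  [AddCommGroup Y'] [Module A Y'] [AddCommGroup Q] [Module A Q] [AddCommGroup Q'] [Module A Q']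

lemma comm_lTensor (f : Y →ₗ[A] Y') (t : Y ⊗[A] Q) :
    f.lTensor Q (TensorProduct.comm A Y Q t) = TensorProduct.comm A Y' Q (f.rTensor Q t) := by
  induction t using TensorProduct.induction_on with
  | zero => simp
  | tmul y p => simp
  | add a b ha hb => simp only [map_add, ha, hb]

lemma comm_rTensor (φ : Q →ₗ[A] Q') (t : Y ⊗[A] Q) :
    φ.rTensor Y (TensorProduct.comm A Y Q t) = TensorProduct.comm A Y Q' (φ.lTensor Y t) := by
  induction t using TensorProduct.induction_on with
  | zero => simp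
  | tmul y p => simp
  | add a b ha hb => simp only [map_add, ha, hb]

end comm

section TP

variable {R' : Type*} [CommRing R'] {B : Type*} [CommRing B] [Algebra R' B] (W : Submonoid B)
  {X M' : Type*} [AddCommGroup X] [Module R' X] [Module B X] [IsScalarTower R' B X]
  [AddCommGroup M'] [Module R' M'] [Module B M'] [IsScalarTower R' B M']
  {P P' : Type*} [AddCommGroup P] [Module R' P] [AddCommGroup P'] [Module R' P']

/-- transfer principle: kernels of `φ ⊗ X` control kernels of `φ ⊗ W⁻¹X`. -/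
theorem TP (g : X →ₗ[B] M') [IsLocalizedModule W g] (φ : P →ₗ[R'] P')
    (h : ∀ t : X ⊗[R'] P, φ.lTensor X t = 0 → (g.restrictScalars R').rTensor P t = 0) :
    Function.Injective (φ.lTensor M') := by
  rw [injective_iff_map_eq_zero]
  intro z hz
  obtain ⟨⟨t, w⟩, htw⟩ := IsLocalizedModule.surj W (AlgebraTensorModule.rTensor R' P g) z
  have htw' : (w : B) • z = (g.restrictScalars R').rTensor P t := htw
  have hnat : ∀ t : X ⊗[R'] P, φ.lTensor M' ((g.restrictScalars R').rTensor P t) =
      (g.restrictScalars R').rTensor P' (φ.lTensor X t) := fun t =>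
    (Groth.Agent.Lib.LocalCrit2.sq P (g.restrictScalars R') φ t).symm
  have hsm : ∀ (b : B) (y : M' ⊗[R'] P), φ.lTensor M' (b • y) = b • φ.lTensor M' y :=
    fun b y => (AlgebraTensorModule.lTensor B M' φ).map_smul b y
  have h1 : (AlgebraTensorModule.rTensor R' P' g) (φ.lTensor X t) = 0 := by
    show (g.restrictScalars R').rTensor P' (φ.lTensor X t) = 0
    rw [← hnat, ← htw', hsm, hz, smul_zero]
  obtain ⟨w', hw'⟩ :=
    (IsLocalizedModule.eq_zero_iff W (AlgebraTensorModule.rTensor R' P' g)).mp h1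
  have h2 : φ.lTensor X ((w' : B) • t) = 0 :=
    ((AlgebraTensorModule.lTensor B X φ).map_smul (w' : B) t).trans hw'
  have h3 := h _ h2
  have h4 : (w' : B) • (g.restrictScalars R').rTensor P t = 0 :=
    ((AlgebraTensorModule.rTensor R' P g).map_smul (w' : B) t).symm.trans h3
  rw [← htw'] at h4
  have h5 : (w : B) • z = 0 := by
    apply IsLocalizedModule.smul_injective (AlgebraTensorModule.rTensor R' P g) w'
    show w' • ((w : B) • z) = w' • (0 : M' ⊗[R'] P)
    rw [smul_zero]
    exact h4
  apply IsLocalizedModule.smul_injective (AlgebraTensorModule.rTensor R' P g) w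
  show w • z = w • (0 : M' ⊗[R'] P)
  rw [smul_zero]
  exact h5

theorem TP' (g : X →ₗ[B] M') [IsLocalizedModule W g] (φ : P →ₗ[R'] P')
    (h : ∀ t : P ⊗[R'] X, φ.rTensor X t = 0 → (g.restrictScalars R').lTensor P t = 0) :
    Function.Injective (φ.rTensor M') := by
  rw [← LinearMap.lTensor_inj_iff_rTensor_inj]
  refine TP W g φ (fun t ht => ?_)
  have h1 : φ.rTensor X (TensorProduct.comm R' X P t) = 0 := by
    rw [comm_rTensor, ht, map_zero]
  have h2 := h _ h1
  rw [comm_lTensor] at h2
  exact (TensorProduct.comm R' M' P).injective (h2.trans (map_zero _).symm)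

end TP

section flatX

variable {R : Type*} [CommRing R] {R' : Type*} [CommRing R'] [Algebra R R']
  (k : Type*) [CommRing k] [Algebra R k] (k' : Type*) [CommRing k'] [Algebra R' k']
  [Algebra R k'] [IsScalarTower R R' k'] [Algebra k k'] [IsScalarTower R k k']
  {M : Type*} [AddCommGroup M] [Module R M]
  {X : Type*} [AddCommGroup X] [Module R' X] [Module R X] [IsScalarTower R R' X]

include k in
theorem flat_baseChange_X [Module.Flat k (k ⊗[R] M)] (ι : M →ₗ[R] X) (hι : IsBaseChange R' ι) :
    Module.Flat k' (k' ⊗[R'] X) := by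
  let e1 : k' ⊗[R'] X ≃ₗ[k'] k' ⊗[R'] (R' ⊗[R] M) :=
    AlgebraTensorModule.congr (LinearEquiv.refl k' k') hι.equiv.symm
  let e2 : k' ⊗[R'] (R' ⊗[R] M) ≃ₗ[k'] k' ⊗[R] M :=
    AlgebraTensorModule.cancelBaseChange R R' k' k' M
  let e3 : k' ⊗[k] (k ⊗[R] M) ≃ₗ[k'] k' ⊗[R] M :=
    AlgebraTensorModule.cancelBaseChange R k k' k' M
  exact Module.Flat.of_linearEquiv (e1 ≪≫ₗ e2 ≪≫ₗ e3.symm)

end flatX

section ab

variable {R : Type*} [CommRing R] {R' : Type*} [CommRing R'] [Algebra R R'] (I : Ideal R)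
  {B : Type*} [CommRing B] [Algebra R' B] (W : Submonoid B)
  {M : Type*} [AddCommGroup M] [Module R M]
  {X : Type*} [AddCommGroup X] [Module R' X] [Module B X] [IsScalarTower R' B X] [Module R X]
  [IsScalarTower R R' X]
  {M' : Type*} [AddCommGroup M'] [Module R' M'] [Module B M'] [IsScalarTower R' B M']
  [Module R M'] [IsScalarTower R R' M']

theorem flat_quot (ι : M →ₗ[R] X) (hι : IsBaseChange R' ι) (g : X →ₗ[B] M')
    [IsLocalizedModule W g]
    (k : Type*) [CommRing k] [Algebra R k] (k' : Type*) [CommRing k'] [Algebra R' k']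
    [Algebra R k'] [IsScalarTower R R' k'] [Algebra k k'] [IsScalarTower R k k']
    [Module.Flat k (k ⊗[R] M)] : Module.Flat k' (k' ⊗[R'] M') := by
  have hX : Module.Flat k' (k' ⊗[R'] X) := flat_baseChange_X k k' ι hι
  rw [Groth.Agent.Lib.LocalCrit7.flat_baseChange_iff_forall_ideal] at hX ⊢
  intro 𝔞
  refine TP W g _ (fun t ht => ?_)
  rw [hX 𝔞 (ht.trans (map_zero _).symm), map_zero]

theorem tor_inj (ι : M →ₗ[R] X) (hι : IsBaseChange R' ι) (g : X →ₗ[B] M')
    [IsLocalizedModule W g] [Module.Flat (R ⧸ I) ((R ⧸ I) ⊗[R] M)]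
    (h3 : ∀ x : I ⊗[R] M, mu I M x = 0 →
      Phi R' I (((g.restrictScalars R').restrictScalars R) ∘ₗ ι) x = 0) :
    Function.Injective ((I.map (algebraMap R R')).subtype.rTensor M') := by
  refine TP' W g _ (fun t ht => ?_)
  refine eq_zero_of_ker I ι hι ((g.restrictScalars R').lTensor _) (fun x hx => ?_) t
    ((mu_eq_zero_iff _ _ t).mpr ht)
  rw [lTensor_Phi]
  exact h3 x hx

end ab

theorem core {R R' B S' : Type u} [CommRing R] [CommRing R'] [CommRing B] [CommRing S']
    [IsNoetherianRing R'] [IsNoetherianRing S']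
    [Algebra R R'] [Algebra R' B] [Algebra B S'] [Algebra R' S']
    (I : Ideal R) (hI : (I.map (algebraMap R R')).map (algebraMap R' S') ≤ Ideal.jacobson ⊥)
    (W : Submonoid B) [IsLocalization W S']
    {M : Type u} [AddCommGroup M] [Module R M] [Module.Flat (R ⧸ I) ((R ⧸ I) ⊗[R] M)]
    {X : Type u} [AddCommGroup X] [Module R' X] [Module B X] [IsScalarTower R' B X] [Module R X]
    [IsScalarTower R R' X]
    (ι : M →ₗ[R] X) (hι : IsBaseChange R' ι)
    {M' : Type u} [AddCommGroup M'] [Module S' M'] [Module R' M'] [IsScalarTower R' S' M']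
    [Module B M'] [IsScalarTower B S' M'] [IsScalarTower R' B M'] [Module R M']
    [IsScalarTower R R' M'] [Module.Finite S' M']
    (g : X →ₗ[B] M') (hg : IsBaseChange S' g)
    (h3 : ∀ x : I ⊗[R] M, I.subtype.rTensor M x = 0 →
      Phi R' I (((g.restrictScalars R').restrictScalars R) ∘ₗ ι) x = 0) :
    Module.Flat R' M' := by
  haveI : IsLocalizedModule W g := (isLocalizedModule_iff_isBaseChange W S' g).mpr hg
  haveI : Module.Flat (R' ⧸ I.map (algebraMap R R'))
      ((R' ⧸ I.map (algebraMap R R')) ⊗[R'] M') :=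
    flat_quot W ι hι g (R ⧸ I) (R' ⧸ I.map (algebraMap R R'))
  have htor : Function.Injective ((I.map (algebraMap R R')).subtype.rTensor M') :=
    tor_inj I W ι hι g (fun x hx => h3 x ((mu_eq_zero_iff I M x).mp hx))
  exact Groth.Agent.Lib.LocalCrit3.flat_of_tor_of_flat_quot (I.map (algebraMap R R')) hI M' htor

end Groth.Agent.Lib.TorBCH1
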