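import Mathlib
import Groth.Agent.Lib.TorBC2_helper1

/-!
# Stacks 10.99.14: assembly for local rings
-/

set_option autoImplicit false
set_option maxHeartbeats 1000000

noncomputable section

namespace Groth.Agent.Lib.TorBCH1

open TensorProduct

universe u

attribute [local instance] Algebra.TensorProduct.rightAlgebra

theorem main (R S R' S' : Type u) [CommRing R] [CommRing S] [CommRing R'] [CommRing S']
    [IsLocalRing R] [IsLocalRing S] [IsLocalRing R'] [IsLocalRing S']
    [IsNoetherianRing R] [IsNoetherianRing S] [IsNoetherianRing R'] [IsNoetherianRing S']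
    [Algebra R S] [Algebra R R'] [Algebra S S'] [Algebra R' S'] [Algebra R S']
    [IsScalarTower R S S'] [IsScalarTower R R' S']
    [IsLocalHom (algebraMap R S)] [IsLocalHom (algebraMap R R')] [IsLocalHom (algebraMap S S')]
    [IsLocalHom (algebraMap R' S')]
    (I : Ideal R) (hI : I ≠ ⊤) (M : Type u) [AddCommGroup M] [Module S M] [Module R M]
    [IsScalarTower R S M] [Module.Finite S M]
    (M' : Type u) [AddCommGroup M'] [Module S' M'] [Module R' M'] [IsScalarTower R' S' M']
    [Module S M'] [IsScalarTower S S' M'] [Module R M'] [IsScalarTower R R' M']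
    [IsScalarTower R S M']
    (f : M →ₗ[S] M') (hf : IsBaseChange S' f)
    (h1 : ∃ W : Submonoid (S ⊗[R] R'),
      letI : Algebra (S ⊗[R] R') S' :=
        (Algebra.TensorProduct.lift (IsScalarTower.toAlgHom R S S') (IsScalarTower.toAlgHom R R' S')
          (fun s r => Commute.all _ _)).toRingHom.toAlgebra;
      IsLocalization W S')
    (h2 : Module.Flat (R ⧸ I) ((R ⧸ I) ⊗[R] M))
    (h3 : ∀ x : ↥I ⊗[R] M, (Submodule.subtype I).rTensor M x = 0 →
      (TensorProduct.mapOfCompatibleSMul R' R R ↥(I.map (algebraMap R R')) M')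
        ((TensorProduct.map (Algebra.idealMap R' I) (f.restrictScalars R)) x) = 0) :
    Module.Flat R' M' := by
  obtain ⟨W, hW⟩ := h1
  letI algB : Algebra (S ⊗[R] R') S' :=
    (Algebra.TensorProduct.lift (IsScalarTower.toAlgHom R S S') (IsScalarTower.toAlgHom R R' S')
      (fun s r => Commute.all _ _)).toRingHom.toAlgebra
  haveI : IsLocalization W S' := hW
  have halg : ∀ b : S ⊗[R] R', algebraMap (S ⊗[R] R') S' b =
      Algebra.TensorProduct.lift (IsScalarTower.toAlgHom R S S') (IsScalarTower.toAlgHom R R' S')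
        (fun s r => Commute.all _ _) b := fun b => rfl
  have hR'B : ∀ r' : R', algebraMap R' (S ⊗[R] R') r' = (1 : S) ⊗ₜ[R] r' := fun r' => rfl
  have hSB : ∀ s : S, algebraMap S (S ⊗[R] R') s = s ⊗ₜ[R] (1 : R') := fun s => rfl
  haveI tR' : IsScalarTower R' (S ⊗[R] R') S' := IsScalarTower.of_algebraMap_eq (fun r' => by
    rw [hR'B, halg, Algebra.TensorProduct.lift_tmul, map_one, one_mul]; rfl)
  haveI tS : IsScalarTower S (S ⊗[R] R') S' := IsScalarTower.of_algebraMap_eq (fun s => by
    rw [hSB, halg, Algebra.TensorProduct.lift_tmul, map_one, mul_one]; rfl)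
  letI modB : Module (S ⊗[R] R') M' := Module.compHom M' (algebraMap (S ⊗[R] R') S')
  have hBM' : ∀ (b : S ⊗[R] R') (m : M'), b • m = algebraMap (S ⊗[R] R') S' b • m :=
    fun _ _ => rfl
  haveI tBS'M' : IsScalarTower (S ⊗[R] R') S' M' :=
    IsScalarTower.of_algebraMap_smul fun b m => rfl
  haveI tR'BM' : IsScalarTower R' (S ⊗[R] R') M' :=
    IsScalarTower.of_algebraMap_smul fun r' m => by
      rw [hBM', ← IsScalarTower.algebraMap_apply R' (S ⊗[R] R') S', algebraMap_smul]
  haveI tSBM' : IsScalarTower S (S ⊗[R] R') M' :=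
    IsScalarTower.of_algebraMap_smul fun s m => by
      rw [hBM', ← IsScalarTower.algebraMap_apply S (S ⊗[R] R') S', algebraMap_smul]
  have hι : IsBaseChange R' ((TensorProduct.mk S (S ⊗[R] R') M 1).restrictScalars R) :=
    IsBaseChange.of_equiv (Algebra.IsPushout.cancelBaseChange R R' S (S ⊗[R] R') M).symm
      (fun m => by simp)
  have hcomp : ((((TensorProduct.isBaseChange S M (S ⊗[R] R')).lift f).restrictScalars S) ∘ₗ
      (TensorProduct.mk S (S ⊗[R] R') M 1)) = f := IsBaseChange.lift_comp _ f
  have hg : IsBaseChange S' ((TensorProduct.isBaseChange S M (S ⊗[R] R')).lift f) :=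
    IsBaseChange.of_comp (TensorProduct.isBaseChange S M (S ⊗[R] R')) (by rw [hcomp]; exact hf)
  haveI : Module.Finite S' M' := Module.Finite.equiv hf.equiv
  haveI := h2
  have hI1 : I.map (algebraMap R R') ≤ IsLocalRing.maximalIdeal R' := by
    rw [Ideal.map_le_iff_le_comap]
    intro x hx
    rw [Ideal.mem_comap, IsLocalRing.mem_maximalIdeal, mem_nonunits_iff]
    intro hu
    exact (IsLocalRing.mem_maximalIdeal x).mp (IsLocalRing.le_maximalIdeal hI hx)
      (isUnit_of_map_unit (algebraMap R R') x hu)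
  have hI2 : (I.map (algebraMap R R')).map (algebraMap R' S') ≤ Ideal.jacobson ⊥ := by
    rw [IsLocalRing.jacobson_eq_maximalIdeal ⊥ bot_ne_top, Ideal.map_le_iff_le_comap]
    intro x hx
    rw [Ideal.mem_comap, IsLocalRing.mem_maximalIdeal, mem_nonunits_iff]
    intro hu
    exact (IsLocalRing.mem_maximalIdeal x).mp (hI1 hx)
      (isUnit_of_map_unit (algebraMap R' S') x hu)
  refine core I hI2 W ((TensorProduct.mk S (S ⊗[R] R') M 1).restrictScalars R) hι
    ((TensorProduct.isBaseChange S M (S ⊗[R] R')).lift f) hg (fun x hx => ?_)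
  have hcomp2 : ((((TensorProduct.isBaseChange S M (S ⊗[R] R')).lift f).restrictScalars
      R').restrictScalars R) ∘ₗ ((TensorProduct.mk S (S ⊗[R] R') M 1).restrictScalars R) =
      f.restrictScalars R := by
    refine LinearMap.ext fun m => ?_
    rw [LinearMap.comp_apply, LinearMap.restrictScalars_apply, LinearMap.restrictScalars_apply,
      LinearMap.restrictScalars_apply, LinearMap.restrictScalars_apply]
    exact IsBaseChange.lift_eq _ f m
  rw [hcomp2]
  exact h3 x hx

end Groth.Agent.Lib.TorBCH1
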