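import Mathlib

/-!
# Flatness of the cokernel of a differential from vanishing of "Tor" (helper2)

Generic abelian-category input for: if `E` is a complex with flat terms and
`H^{a-1}(E ⊗ G) = 0` for all `G`, then `coker(E^{a-1} → E^a) ⊗ -` preserves monomorphisms.
-/

set_option autoImplicit false
universe v u
open CategoryTheory Limits

namespace Groth.Agent.Lib.TorCoker

variable {𝒜 : Type u} [Category.{v} 𝒜] [Abelian 𝒜]

lemma opcyclesMap_fromOpcycles {K L : CochainComplex 𝒜 ℤ} (φ : K ⟶ L) (i j : ℤ) :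
    HomologicalComplex.opcyclesMap φ i ≫ L.fromOpcycles i j = K.fromOpcycles i j ≫ φ.f j := by
  rw [← cancel_epi (K.pOpcycles i), HomologicalComplex.p_opcyclesMap_assoc,
    HomologicalComplex.p_fromOpcycles, HomologicalComplex.p_fromOpcycles_assoc, φ.comm]

/-- for a short exact sequence of complexes with `H^{a-1}(X₃) = 0`, the map on
`coker d^{a-1}` induced by `X₁ → X₂` is a monomorphism -/
theorem mono_opcyclesMap_of_shortExact (S : ShortComplex (CochainComplex 𝒜 ℤ))
    (hS : S.ShortExact) (a : ℤ) (hz : IsZero (S.X₃.homology (a - 1))) :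
    Mono (HomologicalComplex.opcyclesMap S.f a) := by
  have hrel : (ComplexShape.up ℤ).Rel (a - 1) a := by simp
  have hex := hS.homology_exact₁ (a - 1) a hrel
  have hmono : Mono (HomologicalComplex.homologyMap S.f a) :=
    hex.mono_g (hz.eq_of_src _ _)
  have hfmono : Mono (S.f.f (a + 1)) :=
    ((HomologicalComplex.shortExact_iff_degreewise_shortExact S).1 hS (a + 1)).mono_f
  apply Preadditive.mono_of_cancel_zero
  intro Z k hk
  have hk0 : k ≫ S.X₁.fromOpcycles a (a + 1) = 0 := by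
    rw [← cancel_mono (S.f.f (a + 1)), Category.assoc, zero_comp,
      ← opcyclesMap_fromOpcycles, reassoc_of% hk, zero_comp]
  have hnext : (ComplexShape.up ℤ).next a = a + 1 := by simp
  let k' := (S.X₁.homologyIsKernel a (a + 1) hnext).lift (KernelFork.ofι k hk0)
  have hk' : k' ≫ S.X₁.homologyι a = k :=
    Fork.IsLimit.lift_ι (S.X₁.homologyIsKernel a (a + 1) hnext)
  have h1 : k' ≫ HomologicalComplex.homologyMap S.f a = 0 := by
    rw [← cancel_mono (S.X₂.homologyι a), Category.assoc,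
      HomologicalComplex.homologyι_naturality, reassoc_of% hk', hk, zero_comp]
  have h2 : k' = 0 := by
    rw [← cancel_mono (HomologicalComplex.homologyMap S.f a), h1, zero_comp]
  rw [← hk', h2, zero_comp]

variable (F : 𝒜 ⥤ 𝒜 ⥤ 𝒜) [∀ G, (F.flip.obj G).Additive] [∀ X, (F.obj X).Additive]
  [∀ G, PreservesFiniteColimits (F.flip.obj G)]

/-- the complex `E ⊗ G` with terms `F(E^i, G)` -/
noncomputable abbrev Ψ (E : CochainComplex 𝒜 ℤ) (G : 𝒜) : CochainComplex 𝒜 ℤ :=
  ((F.flip.obj G).mapHomologicalComplex (ComplexShape.up ℤ)).obj E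

/-- functoriality of `E ⊗ G` in `G` -/
noncomputable abbrev Ψmap (E : CochainComplex 𝒜 ℤ) {G' G : 𝒜} (g : G' ⟶ G) : Ψ F E G' ⟶ Ψ F E G :=
  (NatTrans.mapHomologicalComplex (F.flip.map g) (ComplexShape.up ℤ)).app E

lemma Ψmap_f (E : CochainComplex 𝒜 ℤ) {G' G : 𝒜} (g : G' ⟶ G) (i : ℤ) :
    (Ψmap F E g).f i = (F.obj (E.X i)).map g := rfl

/-- the short complex of complexes `E ⊗ S` -/
noncomputable def ΨS (E : CochainComplex 𝒜 ℤ) (S : ShortComplex 𝒜) :
    ShortComplex (CochainComplex 𝒜 ℤ) :=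
  ShortComplex.mk (Ψmap F E S.f) (Ψmap F E S.g) (by
    ext i
    refine ((F.obj (E.X i)).map_comp S.f S.g).symm.trans ?_
    rw [S.zero, Functor.map_zero]
    rfl)

lemma ΨS_shortExact (E : CochainComplex 𝒜 ℤ)
    (hex : ∀ (i : ℤ) (S : ShortComplex 𝒜), S.ShortExact → (S.map (F.obj (E.X i))).ShortExact)
    (S : ShortComplex 𝒜) (hS : S.ShortExact) : (ΨS F E S).ShortExact := by
  rw [HomologicalComplex.shortExact_iff_degreewise_shortExact]
  intro i
  exact ShortComplex.shortExact_of_iso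
    (ShortComplex.isoMk (Iso.refl _) (Iso.refl _) (Iso.refl _)
      (by
        dsimp [ΨS]
        rw [Category.comp_id, Category.id_comp])
      (by
        dsimp [ΨS]
        rw [Category.comp_id, Category.id_comp])) (hex i S hS)

/-- the comparison `coker(d^{a-1}_{E ⊗ G}) ≅ coker(d^{a-1}_E) ⊗ G` -/
noncomputable def opcyclesIso (E : CochainComplex 𝒜 ℤ) (a : ℤ) (G : 𝒜) :
    (Ψ F E G).opcycles a ≅ (F.obj (cokernel (E.d (a - 1) a))).obj G :=
  IsColimit.coconePointUniqueUpToIso
    ((Ψ F E G).opcyclesIsCokernel (a - 1) a (by simp))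
    (CokernelCofork.mapIsColimit _ (cokernelIsCokernel (E.d (a - 1) a)) (F.flip.obj G))

lemma p_opcyclesIso_hom (E : CochainComplex 𝒜 ℤ) (a : ℤ) (G : 𝒜) :
    (Ψ F E G).pOpcycles a ≫ (opcyclesIso F E a G).hom =
      (F.map (cokernel.π (E.d (a - 1) a))).app G :=
  IsColimit.comp_coconePointUniqueUpToIso_hom
    ((Ψ F E G).opcyclesIsCokernel (a - 1) a (by simp))
    (CokernelCofork.mapIsColimit _ (cokernelIsCokernel (E.d (a - 1) a)) (F.flip.obj G))
    WalkingParallelPair.one

lemma opcyclesIso_naturality (E : CochainComplex 𝒜 ℤ) (a : ℤ) {G' G : 𝒜} (g : G' ⟶ G) :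
    (opcyclesIso F E a G').hom ≫ (F.obj (cokernel (E.d (a - 1) a))).map g =
      HomologicalComplex.opcyclesMap (Ψmap F E g) a ≫ (opcyclesIso F E a G).hom := by
  rw [← cancel_epi ((Ψ F E G').pOpcycles a), reassoc_of% (p_opcyclesIso_hom F E a G'),
    HomologicalComplex.p_opcyclesMap_assoc, p_opcyclesIso_hom, Ψmap_f]
  exact ((F.map (cokernel.π (E.d (a - 1) a))).naturality g).symm

/-- **main lemma**: if all `F(E^i, -)` are exact and `H^{a-1}(E ⊗ G) = 0` for all `G`, then
`F(coker d^{a-1}, -)` preserves monomorphisms -/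
theorem mono_map_cokernel (E : CochainComplex 𝒜 ℤ) (a : ℤ)
    (hex : ∀ (i : ℤ) (S : ShortComplex 𝒜), S.ShortExact → (S.map (F.obj (E.X i))).ShortExact)
    (hH : ∀ G : 𝒜, IsZero ((Ψ F E G).homology (a - 1)))
    {G' G : 𝒜} (g : G' ⟶ G) [Mono g] :
    Mono ((F.obj (cokernel (E.d (a - 1) a))).map g) := by
  let S : ShortComplex 𝒜 := ShortComplex.mk g (cokernel.π g) (cokernel.condition g)
  have hS : S.ShortExact :=
    { exact := ShortComplex.exact_cokernel g
      mono_f := inferInstanceAs (Mono g)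
      epi_g := inferInstanceAs (Epi (cokernel.π g)) }
  have hΨ := ΨS_shortExact F E hex S hS
  have hm : Mono (HomologicalComplex.opcyclesMap (Ψmap F E g) a) :=
    mono_opcyclesMap_of_shortExact (ΨS F E S) hΨ a (hH (cokernel g))
  have h := opcyclesIso_naturality F E a g
  have h' : (F.obj (cokernel (E.d (a - 1) a))).map g =
      (opcyclesIso F E a G').inv ≫ HomologicalComplex.opcyclesMap (Ψmap F E g) a ≫
        (opcyclesIso F E a G).hom := by
    rw [← h, Iso.inv_hom_id_assoc]
  rw [h']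
  infer_instance

end Groth.Agent.Lib.TorCoker
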