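import Mathlib
import Groth.Agent.Lib.QuasiIso23_lead
import Groth.Agent.Lib.TorBal_helper5

set_option autoImplicit false
set_option backward.isDefEq.respectTransparency false
set_option linter.unusedSimpArgs false
set_option linter.unusedVariables false
set_option linter.unusedSectionVars false
set_option linter.style.longLine false
set_option linter.style.haveILetI false
set_option linter.unnecessarySimpa false
set_option maxHeartbeats 1600000

/-!
# Residue fields detect isomorphisms through `Tor` (lead)

Over a Noetherian ring `A`, a map `u : M ⟶ N` of modules such that `Tor_i(κ(p), u)` is an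
isomorphism for all primes `p` and all `i` is an isomorphism.
-/

namespace Groth.Agent.Lib.TorDetect

open CategoryTheory CategoryTheory.Limits MonoidalCategory TensorProduct
open Groth.Agent.TorLES Groth.Agent.TorColim Groth.Agent.TorBal

universe u

variable {A : Type u} [CommRing A]

section General

/-- A natural transformation between functors preserving a colimit is an isomorphism at the
colimit as soon as it is one at all the objects of the diagram. -/
lemma isIso_app_of_isColimit {C D J : Type*} [Category C] [Category D] [Category J]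
    {F G : C ⥤ D} (α : F ⟶ G) {K : J ⥤ C} {c : Cocone K} (hc : IsColimit c)
    [PreservesColimit K F] [PreservesColimit K G]
    (h : ∀ j, IsIso (α.app (K.obj j))) : IsIso (α.app c.pt) := by
  have hF := isColimitOfPreserves F hc
  have hG := isColimitOfPreserves G hc
  haveI : ∀ j, IsIso ((Functor.whiskerLeft K α).app j) := fun j => h j
  haveI : IsIso (Functor.whiskerLeft K α) := NatIso.isIso_of_isIso_app _
  let e := IsColimit.coconePointsIsoOfNatIso hF hG (asIso (Functor.whiskerLeft K α))
  have he : e.hom = α.app c.pt := by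
    apply hF.hom_ext
    intro j
    rw [IsColimit.comp_coconePointsIsoOfNatIso_hom]
    exact (α.naturality (c.ι.app j)).symm
  rw [← he]
  infer_instance

lemma subsingleton_tensor (X P : Type u) [AddCommGroup X] [Module A X] [AddCommGroup P]
    [Module A P] [Subsingleton X] : Subsingleton (X ⊗[A] P) := by
  have h0 : ∀ z : X ⊗[A] P, z = 0 := by
    intro z
    induction z using TensorProduct.induction_on with
    | zero => rfl
    | tmul x y => rw [Subsingleton.elim x 0, TensorProduct.zero_tmul]
    | add a b ha hb => rw [ha, hb, add_zero]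
  exact ⟨fun a b => by rw [h0 a, h0 b]⟩

end General

section Pr

variable {M N : ModuleCat.{u} A} (u : M ⟶ N)

/-- `Tor_n(X, u)` is an isomorphism for all `n`. -/
def Pr (X : ModuleCat.{u} A) : Prop :=
  ∀ n : ℕ, IsIso (((Tor (ModuleCat.{u} A) n).obj X).map u)

lemma Pr_of_iso {X Y : ModuleCat.{u} A} (e : X ≅ Y) (h : Pr u X) : Pr u Y := by
  intro n
  have key := NatTrans.isIso_app_iff_of_iso ((Tor (ModuleCat.{u} A) n).flip.map u) e
  exact key.1 (h n)

lemma Pr_of_subsingleton (X : ModuleCat.{u} A) [Subsingleton X] : Pr u X := by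
  intro n
  have hz : ∀ Y : ModuleCat.{u} A, IsZero (((Tor (ModuleCat.{u} A) n).obj X).obj Y) := by
    intro Y
    let P := ProjectiveResolution.of Y
    rw [isZero_tor_iff Y X P n]
    apply ShortComplex.isZero_homology_of_isZero_X₂
    haveI : Subsingleton (X ⊗[A] P.complex.X n) := subsingleton_tensor X (P.complex.X n)
    exact ModuleCat.isZero_of_subsingleton (ModuleCat.of A (X ⊗[A] P.complex.X n))
  exact ⟨⟨0, (hz M).eq_of_src _ _, (hz N).eq_of_src _ _⟩⟩

/-- `X ⊗ g`. -/
noncomputable abbrev cxg (X : ModuleCat.{u} A) {C D : ChainComplex (ModuleCat.{u} A) ℕ}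
    (g : C ⟶ D) : CX X C ⟶ CX X D :=
  (((tensoringLeft (ModuleCat.{u} A)).obj X).mapHomologicalComplex _).map g

lemma Pr_iff_quasiIso (PM : ProjectiveResolution M) (PN : ProjectiveResolution N)
    (g : PM.complex ⟶ PN.complex) (w : g ≫ PN.π = PM.π ≫ (ChainComplex.single₀ _).map u)
    (X : ModuleCat.{u} A) : Pr u X ↔ QuasiIso (cxg X g) := by
  rw [quasiIso_iff]
  refine forall_congr' (fun n => ?_)
  rw [quasiIsoAt_iff_isIso_homologyMap]
  have h : ((Tor (ModuleCat.{u} A) n).obj X).map u = _ :=
    Functor.leftDerived_map_eq ((tensoringLeft (ModuleCat.{u} A)).obj X) n u g w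
  rw [h, isIso_comp_left_iff, isIso_comp_right_iff]
  rfl

/-- The morphism of short complexes of complexes induced by a chain map. -/
noncomputable def scMap (S : ShortComplex (ModuleCat.{u} A))
    {C D : ChainComplex (ModuleCat.{u} A) ℕ} (g : C ⟶ D) : scCX S C ⟶ scCX S D where
  τ₁ := cxg S.X₁ g
  τ₂ := cxg S.X₂ g
  τ₃ := cxg S.X₃ g
  comm₁₂ := by
    ext i : 1
    exact whisker_exchange S.f (g.f i)
  comm₂₃ := by
    ext i : 1
    exact whisker_exchange S.g (g.f i)

variable (S : ShortComplex (ModuleCat.{u} A)) (hS : S.ShortExact)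

include hS in
lemma Pr_X₂ (h₁ : Pr u S.X₁) (h₃ : Pr u S.X₃) : Pr u S.X₂ := by
  let PM := ProjectiveResolution.of M
  let PN := ProjectiveResolution.of N
  let g := ProjectiveResolution.lift u PM PN
  have w := ProjectiveResolution.lift_commutes u PM PN
  rw [Pr_iff_quasiIso u PM PN g w] at h₁ h₃ ⊢
  exact Groth.Agent.Lib.QuasiIso23.quasiIso_τ₂ (scMap S g)
    (scCX_shortExact S hS _ (flat_of_projRes M PM)) (scCX_shortExact S hS _ (flat_of_projRes N PN))
    (fun j => ⟨j + 1, by simp⟩) h₁ h₃

include hS in
lemma Pr_X₁ (h₂ : Pr u S.X₂) (h₃ : Pr u S.X₃) : Pr u S.X₁ := by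
  let PM := ProjectiveResolution.of M
  let PN := ProjectiveResolution.of N
  let g := ProjectiveResolution.lift u PM PN
  have w := ProjectiveResolution.lift_commutes u PM PN
  rw [Pr_iff_quasiIso u PM PN g w] at h₂ h₃ ⊢
  exact Groth.Agent.Lib.QuasiIso23.quasiIso_τ₁ (scMap S g)
    (scCX_shortExact S hS _ (flat_of_projRes M PM)) (scCX_shortExact S hS _ (flat_of_projRes N PN))
    (fun j => ⟨j + 1, by simp⟩) h₂ h₃

/-- A module all of whose finitely generated submodules satisfy `Pr` satisfies `Pr`. -/
lemma Pr_of_fg_submodules (X : Type u) [AddCommGroup X] [Module A X]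
    (h : ∀ T : Submodule A X, T.FG → Pr u (ModuleCat.of A T)) : Pr u (ModuleCat.of A X) := by
  classical
  intro n
  let ι := {T : Submodule A X // T.FG}
  haveI : Nonempty ι := ⟨⟨⊥, Submodule.fg_bot⟩⟩
  let c := ModuleCat.directLimitCocone (R := A) (fun T : ι => ↥T.1) (Module.fgSystem A X)
  have hc : IsColimit c := ModuleCat.directLimitIsColimit _ _
  haveI : PreservesColimitsOfShape ι ((Tor (ModuleCat.{u} A) n).flip.obj M) :=
    preservesColimitsOfShape_tor_flip M n
  haveI : PreservesColimitsOfShape ι ((Tor (ModuleCat.{u} A) n).flip.obj N) :=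
    preservesColimitsOfShape_tor_flip N n
  have hiso : IsIso (((Tor (ModuleCat.{u} A) n).flip.map u).app c.pt) :=
    isIso_app_of_isColimit _ hc (fun T => h T.1 T.2 n)
  let e : c.pt ≅ ModuleCat.of A X := (Module.fgSystem.equiv A X).toModuleIso
  exact (NatTrans.isIso_app_iff_of_iso ((Tor (ModuleCat.{u} A) n).flip.map u) e).1 hiso

end Pr

section Main

variable {M N : ModuleCat.{u} A} (u : M ⟶ N)

/-- The key step at a prime. -/
lemma Pr_quot_prime (p : Ideal A) [p.IsPrime]
    (hres : Pr u (ModuleCat.of A p.ResidueField))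
    (hIH : ∀ (X : Type u) [AddCommGroup X] [Module A X] [Module.Finite A X],
      p < Module.annihilator A X → Pr u (ModuleCat.of A X)) :
    Pr u (ModuleCat.of A (A ⧸ p)) := by
  classical
  let i : (A ⧸ p) →ₗ[A] p.ResidueField :=
    (IsScalarTower.toAlgHom A (A ⧸ p) p.ResidueField).toLinearMap
  have hi : Function.Injective i := p.injective_algebraMap_quotient_residueField
  let q : p.ResidueField →ₗ[A] (p.ResidueField ⧸ LinearMap.range i) := (LinearMap.range i).mkQ
  have hq : Function.Surjective q := Submodule.mkQ_surjective _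
  have hiq : Function.Exact i q := LinearMap.exact_map_mkQ_range i
  have hS := mk_shortExact i q hi hiq hq
  have hQ : Pr u (ModuleCat.of A (p.ResidueField ⧸ LinearMap.range i)) := by
    apply Pr_of_fg_submodules
    intro T hT
    haveI : Module.Finite A T := Module.Finite.iff_fg.2 hT
    apply hIH
    obtain ⟨s, hs⟩ := hT
    -- lifts of the generators
    choose! x hx using (fun y : p.ResidueField ⧸ LinearMap.range i => hq y)
    obtain ⟨b, hb⟩ := IsLocalization.exist_integer_multiples_of_finset
      (nonZeroDivisors (A ⧸ p)) (s.image x)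
    obtain ⟨a, ha⟩ := Ideal.Quotient.mk_surjective (b : A ⧸ p)
    have hap : a ∉ p := by
      intro hmem
      have : (b : A ⧸ p) = 0 := by rw [← ha]; exact Ideal.Quotient.eq_zero_iff_mem.2 hmem
      exact nonZeroDivisors.coe_ne_zero b this
    have hkill0 : ∀ y ∈ Submodule.span A (s : Set (p.ResidueField ⧸ LinearMap.range i)),
        a • y = 0 := by
      intro y hy
      induction hy using Submodule.span_induction with
      | mem y hy =>
        obtain ⟨z, hz⟩ := hb (x y) (Finset.mem_image_of_mem x hy)
        rw [← hx y, ← map_smul]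
        show q (a • x y) = 0
        have h1 : a • x y = i z := by
          rw [algebra_compatible_smul (A ⧸ p) a (x y), Ideal.Quotient.algebraMap_eq, ha,
            Algebra.smul_def]
          show (algebraMap (A ⧸ p) p.ResidueField) (b : A ⧸ p) * x y = i z
          rw [← Algebra.smul_def, ← hz]
          rfl
        rw [h1]
        exact hiq.apply_apply_eq_zero z
      | zero => exact smul_zero a
      | add y z _ _ hy hz => rw [smul_add, hy, hz, add_zero]
      | smul r y _ hy => rw [smul_comm, hy, smul_zero]
    have hkill : ∀ t : T, a • t = 0 := by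
      intro t
      apply Subtype.ext
      rw [Submodule.coe_smul, Submodule.coe_zero]
      exact hkill0 _ (by rw [hs]; exact t.2)
    have hle : p ≤ Module.annihilator A T := by
      intro r hr
      rw [Module.mem_annihilator]
      intro t
      apply Subtype.ext
      rw [Submodule.coe_smul, Submodule.coe_zero]
      obtain ⟨y, hy⟩ := hq (t : p.ResidueField ⧸ LinearMap.range i)
      rw [← hy, ← map_smul]
      have : r • y = 0 := by
        rw [Algebra.smul_def, Ideal.algebraMap_residueField_eq_zero.2 hr, zero_mul]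
      rw [this, map_zero]
    refine lt_of_le_of_ne hle (fun heq => hap ?_)
    rw [heq, Module.mem_annihilator]
    exact hkill
  exact Pr_X₁ u _ hS hres hQ

theorem Pr_all [IsNoetherianRing A]
    (hres : ∀ (p : Ideal A) [p.IsPrime], Pr u (ModuleCat.of A p.ResidueField)) :
    ∀ (J : Ideal A) (X : Type u) [AddCommGroup X] [Module A X] [Module.Finite A X],
      J ≤ Module.annihilator A X → Pr u (ModuleCat.of A X) := by
  intro J
  induction J using WellFoundedGT.induction with
  | ind J IH =>
    intro X _ _ hfin
    refine IsNoetherianRing.induction_on_isQuotientEquivQuotientPrime A hfin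
      (motive := fun (N : Type u) [AddCommGroup N] [Module A N] [Module.Finite A N] =>
        J ≤ Module.annihilator A N → Pr u (ModuleCat.of A N)) ?_ ?_ ?_
    · intro N _ _ _ _ _
      exact Pr_of_subsingleton u (ModuleCat.of A N)
    · intro N _ _ _ p e hJ
      haveI := p.2
      have hann : Module.annihilator A N = p.1 := by
        rw [e.annihilator_eq, Ideal.annihilator_quotient]
      rw [hann] at hJ
      rcases hJ.lt_or_eq with hlt | heq
      · exact IH p.1 hlt N hann.ge
      · have hPr : Pr u (ModuleCat.of A (A ⧸ p.1)) :=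
          Pr_quot_prime u p.1 (hres p.1)
            (fun Y _ _ _ hY => IH _ (heq ▸ hY) Y le_rfl)
        exact Pr_of_iso u e.symm.toModuleIso hPr
    · intro N₁ _ _ _ N₂ _ _ _ N₃ _ _ _ f g hf hg hfg h₁ h₃ hJ
      have h1 := h₁ (hJ.trans (LinearMap.annihilator_le_of_injective f hf))
      have h3 := h₃ (hJ.trans (LinearMap.annihilator_le_of_surjective g hg))
      exact Pr_X₂ u _ (mk_shortExact f g hf hfg hg) h1 h3

/-- S8597. -/
theorem main8597 (A : Type u) [CommRing A] [IsNoetherianRing A]
    {M N : ModuleCat.{u} A} (u : M ⟶ N)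
    (h : ∀ (x : Ideal A) [x.IsPrime] (i : ℕ),
      IsIso (((Tor (ModuleCat.{u} A) i).obj (ModuleCat.of A x.ResidueField)).map u)) :
    IsIso u := by
  have hA : Pr u (ModuleCat.of A A) := Pr_all u (fun p _ n => h p n) ⊥ A bot_le
  have h0 := hA 0
  have h1 : IsIso ((tensorRight (ModuleCat.of A A)).map u) :=
    (NatIso.isIso_map_iff (tor0Iso (ModuleCat.of A A)) u).1 h0
  have h2 : IsIso (u ▷ (𝟙_ (ModuleCat.{u} A))) := h1
  have : u = (ρ_ M).inv ≫ (u ▷ 𝟙_ (ModuleCat.{u} A)) ≫ (ρ_ N).hom := by
    rw [rightUnitor_naturality, Iso.inv_hom_id_assoc]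
  rw [this]
  infer_instance

end Main

end Groth.Agent.Lib.TorDetect
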