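import Mathlib
import Groth.Prelude.Def_LCI2
import Groth.Agent.Lib.KoszulBC_helper2
import Groth.Agent.Lib.KoszulFlat_helper9
import Groth.Agent.Lib.KoszulTop_helper7
import Groth.Agent.Lib.SamuelKoszul5_helper6
import Groth.Agent.Lib.TorLES_helper5

/-!
# `Tor_i^A(A/J, A') = 0` when `J` is generated by a sequence that is Koszul-regular in `A` and
in `A'` (helper6).
-/

set_option autoImplicit false
universe u
open CategoryTheory CategoryTheory.Limits MonoidalCategory

namespace Groth.Agent.Lib.TorPowKoszulH6

variable {A : Type u} [CommRing A] {A' : Type u} [CommRing A'] [Algebra A A']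

/-- `A'` as an `A`-module is the restriction of scalars of `A'`. -/
noncomputable def restrictEquiv :
    A' ≃ₗ[A] ((ModuleCat.restrictScalars.{u} (algebraMap A A')).obj (ModuleCat.of A' A')) :=
  { toFun := fun x => x
    map_add' := fun _ _ => rfl
    map_smul' := fun r x => by
      show r • x = algebraMap A A' r * x
      rw [Algebra.smul_def]
    invFun := fun x => x
    left_inv := fun _ => rfl
    right_inv := fun _ => rfl }

/-- `A'` as an `A`-module is the restriction of scalars of `A'`. -/
noncomputable def ofIsoRestrict :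
    ModuleCat.of A A' ≅
      (ModuleCat.restrictScalars.{u} (algebraMap A A')).obj (ModuleCat.of A' A') :=
  (restrictEquiv (A := A) (A' := A')).toModuleIso

lemma tensorRight_map_smul_id (N : ModuleCat.{u} A) (r : A) (N' : ModuleCat.{u} A) :
    (tensorRight N).map (r • 𝟙 N') = (id r : A) • 𝟙 ((tensorRight N).obj N') := by
  show (r • 𝟙 N') ▷ N = r • 𝟙 (N' ⊗ N)
  rw [MonoidalLinear.smul_whiskerRight, id_whiskerRight]

/-- The Koszul complex of `fs` tensored with a module `N` is the Koszul complex of `N`. -/
noncomputable def tensorCxKoszulIso (fs : List A) (N : ModuleCat.{u} A) :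
    DRing.tensorCx (Koszul.koszul A fs) N ≅ CohIII.koszulCx N fs :=
  eqToIso (by rw [Groth.Agent.Lib.KoszulTopH7.koszul_eq fs]; rfl) ≪≫
    Groth.Agent.KoszulFlat9.koszulMapIso (tensorRight N) id (tensorRight_map_smul_id N)
      (ModuleCat.of A A) fs ≪≫
    eqToIso (by rw [List.map_id]; rfl) ≪≫
    Groth.Agent.Lib.KoszulBC.koszulCxIso (λ_ N) fs

lemma isZero_homology_restrict (C : CochainComplex (ModuleCat.{u} A') ℤ) (i : ℤ)
    (h : IsZero (C.homology i)) :
    IsZero ((((ModuleCat.restrictScalars.{u} (algebraMap A A')).mapHomologicalComplex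
      (ComplexShape.up ℤ)).obj C).homology i) := by
  rw [Groth.Agent.Lib.KoszulBC.exact_iff_isZero_homology _ (i - 1) i (i + 1) (by omega) rfl]
    at h ⊢
  exact h

/-- the Koszul complex of `fs` tensored with `A'` is acyclic off degree `0`. -/
theorem isZero_homology_tensorCx_koszul (fs : List A)
    (hfs' : LCI.IsKoszulRegularSeq A' (fs.map (algebraMap A A'))) (i : ℤ) (hi : i ≠ 0) :
    IsZero ((DRing.tensorCx (Koszul.koszul A fs) (ModuleCat.of A A')).homology i) := by
  have h1 : IsZero ((CohIII.koszulCx (ModuleCat.of A' A')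
      (fs.map (algebraMap A A'))).homology i) :=
    Groth.Agent.Lib.KoszulTopH7.isZero_homology_of_eq
      (Groth.Agent.Lib.KoszulTopH7.koszul_eq (fs.map (algebraMap A A'))).symm i (hfs' i hi)
  have h2 := isZero_homology_restrict (A := A) _ i h1
  have e : DRing.tensorCx (Koszul.koszul A fs) (ModuleCat.of A A') ≅
      ((ModuleCat.restrictScalars.{u} (algebraMap A A')).mapHomologicalComplex
        (ComplexShape.up ℤ)).obj
        (CohIII.koszulCx (ModuleCat.of A' A') (fs.map (algebraMap A A'))) :=
    tensorCxKoszulIso fs (ModuleCat.of A A') ≪≫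
      Groth.Agent.Lib.KoszulBC.koszulCxIso ofIsoRestrict fs ≪≫
      (Groth.Agent.Lib.KoszulBC.restrictKoszulIso (algebraMap A A') (ModuleCat.of A' A') fs).symm
  exact IsZero.of_iso h2 ((HomologicalComplex.homologyFunctor _ _ i).mapIso e)

end Groth.Agent.Lib.TorPowKoszulH6

namespace Groth.Agent.Lib.TorPowKoszulH6

open Groth.Agent.TorBal

variable {A : Type u} [CommRing A] {A' : Type u} [CommRing A'] [Algebra A A']

/-- `Tor_{n+1}^A(A/(fs), A') = 0` if `fs` is Koszul-regular in `A` and in `A'`. -/
theorem isZero_tor_quot (fs : List A) (hfs : LCI.IsKoszulRegularSeq A fs)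
    (hfs' : LCI.IsKoszulRegularSeq A' (fs.map (algebraMap A A'))) (n : ℕ) :
    IsZero (((Tor (ModuleCat.{u} A) (n + 1)).obj
      (ModuleCat.of A (A ⧸ Ideal.ofList fs))).obj (ModuleCat.of A A')) := by
  obtain ⟨D, hD⟩ := Groth.Agent.Lib.SamuelKoszul5_helper6.exists_flatRes fs hfs
  have e1 := D.torIso (ModuleCat.of A A') (n + 1)
  rw [hD] at e1
  have e2 := HomologicalComplex.restrictionHomologyIso
    (DRing.tensorCx (Koszul.koszul A fs) (ModuleCat.of A A')) ComplexShape.embeddingDownNat
    (n + 2) (n + 1) n (by simp) (by simp) rfl rfl rfl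
    (by simp only [CochainComplex.prev, ComplexShape.embeddingDownNat_f]; push_cast; ring)
    (by simp only [CochainComplex.next, ComplexShape.embeddingDownNat_f]; push_cast; ring)
  have h0 := isZero_homology_tensorCx_koszul (A' := A') fs hfs' (-((n + 1 : ℕ) : ℤ))
    (by push_cast; omega)
  exact IsZero.of_iso h0 (e1 ≪≫ e2)

end Groth.Agent.Lib.TorPowKoszulH6
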