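import Mathlib
import Groth.Prelude.Def_LCI2
import Groth.Agent.Lib.TorPowKoszul1_helper6
import Groth.Agent.Lib.KoszulPascal_helper2
import Groth.Agent.Lib.KoszulQuot_helper2
import Groth.Agent.Lib.ExtPowQuot_helper6

/-!
# Excess intersection: `Tor_i(A/(f,g), A/(f,h)) ≅ (A/(f,g,h))^(r choose i)` (helper6)
-/

set_option autoImplicit false
universe u
open CategoryTheory CategoryTheory.Limits MonoidalCategory

namespace Groth.Agent.Lib.TorExcessH6

open Groth.Agent.Lib.KoszulSwap Groth.Agent.Lib.KoszulSplit Groth.Agent.Lib.KoszulPascal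
  Groth.Agent.Lib.TorPowKoszulH6 Groth.Agent.TorBal

variable {A : Type u} [CommRing A]

/-- Koszul-regularity is invariant under permutations. -/
theorem kreg_perm {l₁ l₂ : List A} (h : l₁.Perm l₂) (h1 : LCI.IsKoszulRegularSeq A l₁) :
    LCI.IsKoszulRegularSeq A l₂ := by
  intro i hi
  obtain ⟨e⟩ := koszul_perm A h
  exact IsZero.of_iso (h1 i hi) ((HomologicalComplex.homologyFunctor _ _ i).mapIso e.symm)

section proj

variable (G : ℕ → Type u) [∀ j, AddCommGroup (G j)] [∀ j, Module A (G j)]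

/-- a binomial product with only one nonzero factor. -/
noncomputable def qProj (r i : ℕ) (h : ∀ j, j ≠ i → Subsingleton (G j)) :
    Q G r ≃ₗ[A] (Fin (r.choose i) → G i) := by
  classical
  refine LinearEquiv.ofBijective
    (LinearMap.proj (R := A) (φ := fun j : ℕ => Fin (r.choose j) → G j) i) ⟨?_, ?_⟩
  · intro w w' hw
    funext j
    by_cases hj : j = i
    · subst hj
      exact hw
    · haveI := h j hj
      exact Subsingleton.elim _ _
  · intro x
    refine ⟨Function.update (0 : (j : ℕ) → Fin (r.choose j) → G j) i x, ?_⟩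
    show Function.update (0 : (j : ℕ) → Fin (r.choose j) → G j) i x i = x
    rw [Function.update_self]

end proj

section third

variable (J₀ I' : Ideal A)

/-- `(A/J₀)/(I'(A/J₀)) ≃ A/(J₀ + I')`. -/
noncomputable def quotSmulTopEquiv :
    ((A ⧸ J₀) ⧸ (I' • (⊤ : Submodule A (A ⧸ J₀)))) ≃ₗ[A] A ⧸ (J₀ ⊔ I') := by
  have h : (I' • (⊤ : Submodule A (A ⧸ J₀))) =
      Submodule.map (Submodule.mkQ J₀) (J₀ ⊔ I' : Ideal A) := by
    rw [Submodule.map_sup, Submodule.mkQ_map_self, bot_sup_eq]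
    have h1 : (⊤ : Submodule A (A ⧸ J₀)) = Submodule.map (Submodule.mkQ J₀) ⊤ := by
      rw [Submodule.map_top, Submodule.range_mkQ]
    rw [h1, ← Submodule.map_smul'']
    congr 1
    rw [smul_eq_mul, Ideal.mul_top]
  exact (Submodule.quotEquivOfEq _ _ h).trans
    (Submodule.quotientQuotientEquivQuotient J₀ (J₀ ⊔ I' : Ideal A) le_sup_left)

end third

end Groth.Agent.Lib.TorExcessH6

namespace Groth.Agent.Lib.TorExcessH6

open Groth.Agent.Lib.KoszulSwap Groth.Agent.Lib.KoszulSplit Groth.Agent.Lib.KoszulPascal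
  Groth.Agent.Lib.TorPowKoszulH6 Groth.Agent.TorBal

variable {A : Type u} [CommRing A] (f g h : List A)

/-- the complex `K(g) ⊗ A/(f,h)`. -/
noncomputable abbrev Lcx : CochainComplex (ModuleCat.{u} A) ℤ :=
  DRing.tensorCx (Koszul.koszul A g) (ModuleCat.of A (A ⧸ Ideal.ofList (f ++ h)))

theorem isZero_homology_Lcx (hfh : LCI.IsKoszulRegularSeq A (f ++ h))
    (hfgh : LCI.IsKoszulRegularSeq A (f ++ g ++ h)) (m : ℤ) (hm : m ≠ 0) :
    IsZero ((Lcx f g h).homology m) := by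
  have hperm : (f ++ g ++ h).Perm (f ++ h ++ g) := by
    rw [List.append_assoc, List.append_assoc]
    exact List.Perm.append_left f List.perm_append_comm
  have hfhg : LCI.IsKoszulRegularSeq A (f ++ h ++ g) := kreg_perm hperm hfgh
  have hq := Groth.Agent.Lib.KoszulQuot.kreg_quot_list (f ++ h) g hfh hfhg
  exact isZero_homology_tensorCx_koszul (A' := A ⧸ Ideal.ofList (f ++ h)) g hq m hm

theorem homology_Lcx_zero :
    Nonempty ((Lcx f g h).homology 0 ≃ₗ[A] A ⧸ (Ideal.ofList (f ++ h) ⊔ Ideal.ofList g)) := by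
  obtain ⟨e⟩ := Groth.Agent.Lib.KoszulTopH7.top_equiv' (A ⧸ Ideal.ofList (f ++ h)) g 0 rfl
  exact ⟨(((HomologicalComplex.homologyFunctor _ _ 0).mapIso
    (tensorCxKoszulIso g (ModuleCat.of A (A ⧸ Ideal.ofList (f ++ h))))).toLinearEquiv.trans e).trans
    (quotSmulTopEquiv (Ideal.ofList (f ++ h)) (Ideal.ofList g))⟩

lemma smul_id_quot_eq_zero (J₀ : Ideal A) (y : A) (hy : y ∈ J₀) :
    y • 𝟙 (ModuleCat.of A (A ⧸ J₀)) = 0 := by
  apply ModuleCat.hom_ext
  apply LinearMap.ext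
  intro x
  obtain ⟨a, rfl⟩ := Submodule.mkQ_surjective _ x
  show y • Submodule.mkQ J₀ a = 0
  rw [← map_smul, Submodule.mkQ_apply, Submodule.Quotient.mk_eq_zero, smul_eq_mul]
  exact Ideal.mul_mem_right _ _ hy

lemma smul_id_Lcx_eq_zero (y : A) (hy : y ∈ f) : y • 𝟙 (Lcx f g h) = 0 := by
  apply HomologicalComplex.hom_ext
  intro n
  simp only [HomologicalComplex.smul_f_apply, HomologicalComplex.id_f, HomologicalComplex.zero_f]
  have hy' : y ∈ Ideal.ofList (f ++ h) :=
    Ideal.subset_span (List.mem_append_left h hy)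
  show y • 𝟙 ((Koszul.koszul A g).X n ⊗ ModuleCat.of A (A ⧸ Ideal.ofList (f ++ h))) = 0
  rw [← MonoidalCategory.whiskerLeft_id, ← MonoidalLinear.whiskerLeft_smul,
    smul_id_quot_eq_zero _ y hy', MonoidalPreadditive.whiskerLeft_zero]

/-- **Excess `Tor`.** -/
theorem tor_equiv (hfg : LCI.IsKoszulRegularSeq A (f ++ g))
    (hfh : LCI.IsKoszulRegularSeq A (f ++ h))
    (hfgh : LCI.IsKoszulRegularSeq A (f ++ g ++ h)) (n : ℕ) :
    Nonempty ((((Tor (ModuleCat.{u} A) (n + 1)).obj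
        (ModuleCat.of A (A ⧸ Ideal.ofList (f ++ g)))).obj
        (ModuleCat.of A (A ⧸ Ideal.ofList (f ++ h)))) ≃ₗ[A]
      (Fin (f.length.choose (n + 1)) → A ⧸ (Ideal.ofList (f ++ h) ⊔ Ideal.ofList g))) := by
  set N := ModuleCat.of A (A ⧸ Ideal.ofList (f ++ h)) with hN
  obtain ⟨D, hD⟩ := Groth.Agent.Lib.SamuelKoszul5_helper6.exists_flatRes (f ++ g) hfg
  have e1 := D.torIso N (n + 1)
  rw [hD] at e1
  have e2 := HomologicalComplex.restrictionHomologyIso
    (DRing.tensorCx (Koszul.koszul A (f ++ g)) N) ComplexShape.embeddingDownNat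
    (n + 2) (n + 1) n (by simp) (by simp) rfl rfl rfl
    (by simp only [CochainComplex.prev, ComplexShape.embeddingDownNat_f]; push_cast; ring)
    (by simp only [CochainComplex.next, ComplexShape.embeddingDownNat_f]; push_cast; ring)
  have e3 : DRing.tensorCx (Koszul.koszul A (f ++ g)) N ≅ iterCone f (Lcx f g h) :=
    eqToIso (by rw [koszul_append]; rfl) ≪≫
      mapIterCone (MonoidalCategory.tensorRight N) f (Koszul.koszul A g)
  have hnull : ∀ y ∈ f, Nonempty (Homotopy (y • 𝟙 (Lcx f g h)) 0) := by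
    intro y hy
    exact ⟨Homotopy.ofEq (smul_id_Lcx_eq_zero f g h y hy)⟩
  obtain ⟨e4⟩ := iterCone_homology_Q (Lcx f g h) f hnull (-((n + 1 : ℕ) : ℤ))
  have hsub : ∀ j : ℕ, j ≠ n + 1 →
      Subsingleton ((Lcx f g h).homology (-((n + 1 : ℕ) : ℤ) + (j : ℤ))) := by
    intro j hj
    exact ModuleCat.subsingleton_of_isZero
      (isZero_homology_Lcx f g h hfh hfgh _ (by push_cast; omega))
  have e5 := qProj (A := A) (fun j : ℕ => ((Lcx f g h).homology (-((n + 1 : ℕ) : ℤ) + (j : ℤ)) : Type u))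
    f.length (n + 1) hsub
  have e6 : ((Lcx f g h).homology (-((n + 1 : ℕ) : ℤ) + ((n + 1 : ℕ) : ℤ)) : Type u) ≃ₗ[A]
      ((Lcx f g h).homology 0 : Type u) :=
    idxCast (A := A) (fun i => ((Lcx f g h).homology i : Type u)) (by push_cast; ring)
  obtain ⟨e7⟩ := homology_Lcx_zero f g h
  exact ⟨((e1 ≪≫ e2 ≪≫ (HomologicalComplex.homologyFunctor _ _ _).mapIso e3).toLinearEquiv.trans
    (e4.trans e5)).trans (LinearEquiv.piCongrRight (fun _ => e6.trans e7))⟩

end Groth.Agent.Lib.TorExcessH6
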