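import Mathlib
import Groth.Prelude.Def_LCI2
import Groth.Agent.Lib.TorExcess1_helper6

/-!
# Excess intersection: `Tor_i(A/(f,g), A/(f,h)) ≅ ⋀^i Tor_1(A/(f,g), A/(f,h))` (helper6)
-/

set_option autoImplicit false
universe u
open CategoryTheory CategoryTheory.Limits

namespace Groth.Agent.Lib.TorExcessH6

variable {A : Type u} [CommRing A]

/-- exterior powers of linearly equivalent modules. -/
noncomputable def extPowCongr {M M' : Type u} [AddCommGroup M] [Module A M] [AddCommGroup M']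
    [Module A M'] (e : M ≃ₗ[A] M') (i : ℕ) : ⋀[A]^i M ≃ₗ[A] ⋀[A]^i M' :=
  LinearEquiv.ofLinearMap (exteriorPower.map i e.toLinearMap)
    (exteriorPower.map i e.symm.toLinearMap)
    (by rw [← exteriorPower.map_comp, LinearEquiv.comp_coe, LinearEquiv.symm_trans_self,
      LinearEquiv.refl_toLinearMap, exteriorPower.map_id])
    (by rw [← exteriorPower.map_comp, LinearEquiv.comp_coe, LinearEquiv.self_trans_symm,
      LinearEquiv.refl_toLinearMap, exteriorPower.map_id])

theorem main3195 (f g h : List A)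
    (hfg : LCI.IsKoszulRegularSeq A (f ++ g)) (hfh : LCI.IsKoszulRegularSeq A (f ++ h))
    (hfgh : LCI.IsKoszulRegularSeq A (f ++ g ++ h)) (i : ℕ) (hi : 1 ≤ i) :
    Nonempty (((CategoryTheory.Tor (ModuleCat.{u} A) i).obj
        (ModuleCat.of A (A ⧸ Ideal.span {x | x ∈ f ++ g}))).obj
        (ModuleCat.of A (A ⧸ Ideal.span {x | x ∈ f ++ h})) ≅
      ModuleCat.of A (⋀[A]^i (((CategoryTheory.Tor (ModuleCat.{u} A) 1).obj
        (ModuleCat.of A (A ⧸ Ideal.span {x | x ∈ f ++ g}))).obj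
        (ModuleCat.of A (A ⧸ Ideal.span {x | x ∈ f ++ h}))))) := by
  obtain ⟨n, rfl⟩ : ∃ n, i = n + 1 := ⟨i - 1, by omega⟩
  obtain ⟨eT⟩ := tor_equiv f g h hfg hfh hfgh n
  obtain ⟨eT1⟩ := tor_equiv f g h hfg hfh hfgh 0
  set K : Ideal A := Ideal.ofList (f ++ h) ⊔ Ideal.ofList g with hK
  have hc : f.length.choose (0 + 1) = f.length := by simp
  have e1 : (Fin (f.length.choose (0 + 1)) → A ⧸ K) ≃ₗ[A] (Fin f.length → A ⧸ K) :=
    LinearEquiv.funCongrLeft A (A ⧸ K) (finCongr hc.symm)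
  have e2 := extPowCongr (eT1.trans e1) (n + 1)
  have e3 := Groth.Agent.Lib.ExtPowQuotH6.equivFin K f.length (n + 1) hi
  exact ⟨(eT.trans (e2.trans e3).symm).toModuleIso⟩

end Groth.Agent.Lib.TorExcessH6
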