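import Groth.Agent.Lib.TorBal_helper5

/-!
# Maps killing `Tor_1(-, N)` for all `N` factor through a free module (helper5)
-/

set_option autoImplicit false
set_option maxHeartbeats 400000
universe u
open CategoryTheory CategoryTheory.Limits MonoidalCategory TensorProduct

namespace Groth.Agent.TorFact

open Groth.Agent.TorLES Groth.Agent.TorNat Groth.Agent.TorBal

variable {R : Type u} [CommRing R]

section natL

variable {S S' : ShortComplex (ModuleCat.{u} R)} (φ : S ⟶ S')

/-- the morphism `S ⊗ C ⟶ S' ⊗ C` induced by a morphism of short complexes. -/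
noncomputable def scCXMapL (C : ChainComplex (ModuleCat.{u} R) ℕ) : scCX S C ⟶ scCX S' C where
  τ₁ := cxMap φ.τ₁ C
  τ₂ := cxMap φ.τ₂ C
  τ₃ := cxMap φ.τ₃ C
  comm₁₂ := by
    apply HomologicalComplex.hom_ext
    intro i
    rw [HomologicalComplex.comp_f, HomologicalComplex.comp_f, scCX_f, scCX_f, cxMap_f, cxMap_f,
      cxMap_f, cxMap_f]
    change φ.τ₁ ▷ C.X i ≫ S'.f ▷ C.X i = S.f ▷ C.X i ≫ φ.τ₂ ▷ C.X i
    rw [← comp_whiskerRight, ← comp_whiskerRight, φ.comm₁₂]
  comm₂₃ := by
    apply HomologicalComplex.hom_ext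
    intro i
    rw [HomologicalComplex.comp_f, HomologicalComplex.comp_f, scCX_g, scCX_g, cxMap_f, cxMap_f,
      cxMap_f, cxMap_f]
    change φ.τ₂ ▷ C.X i ≫ S'.g ▷ C.X i = S.g ▷ C.X i ≫ φ.τ₃ ▷ C.X i
    rw [← comp_whiskerRight, ← comp_whiskerRight, φ.comm₂₃]

/-- naturality of the connecting map of `Tor` with respect to morphisms of short exact
sequences in the first variable. -/
lemma torδ_naturality_left (hS : S.ShortExact) (hS' : S'.ShortExact) (n : ℕ)
    (Y : ModuleCat.{u} R) :
    ((Tor (ModuleCat.{u} R) (n + 1)).map φ.τ₃).app Y ≫ torδ S' hS' n Y =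
      torδ S hS n Y ≫ ((Tor (ModuleCat.{u} R) n).map φ.τ₁).app Y := by
  have hδ : δH S hS n Y ≫ HomologicalComplex.homologyMap
      (cxMap φ.τ₁ (ProjectiveResolution.of Y).complex) n =
      HomologicalComplex.homologyMap (cxMap φ.τ₃ (ProjectiveResolution.of Y).complex) (n + 1) ≫
        δH S' hS' n Y :=
    HomologicalComplex.HomologySequence.δ_naturality (scCXMapL φ _) (sE S hS Y) (sE S' hS' Y)
      (n + 1) n (by simp)
  unfold torδ
  rw [tor_map_app_eq, tor_map_app_eq]
  simp only [Category.assoc, Iso.inv_hom_id_assoc]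
  rw [reassoc_of% hδ]

/-- if `Tor_1(X₃, Y) → Tor_1(X₃', Y)` vanishes, then `ker (Y ⊗ X₁ → Y ⊗ X₂)` is killed by
`Y ⊗ X₁ → Y ⊗ X₁'`. -/
theorem tensor_key (hS : S.ShortExact) (hS' : S'.ShortExact) (Y : ModuleCat.{u} R)
    (h : ((Tor (ModuleCat.{u} R) (0 + 1)).map φ.τ₃).app Y = 0)
    (t : (Y ⊗ S.X₁ : ModuleCat.{u} R)) (ht : (Y ◁ S.f).hom t = 0) :
    (Y ◁ φ.τ₁).hom t = 0 := by
  have nat : ∀ {X X' : ModuleCat.{u} R} (g : X ⟶ X')
      (y : ((Tor (ModuleCat.{u} R) 0).obj X).obj Y),
      ((tor0Iso X').hom.app Y).hom ((((Tor (ModuleCat.{u} R) 0).map g).app Y).hom y) =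
        (Y ◁ g).hom (((tor0Iso X).hom.app Y).hom y) := by
    intro X X' g y
    have := congrArg (fun η => η.app Y) (tor0Iso_naturality g)
    exact ConcreteCategory.congr_hom this y
  have hinj : ∀ (X : ModuleCat.{u} R) (z : ((Tor (ModuleCat.{u} R) 0).obj X).obj Y),
      ((tor0Iso X).hom.app Y).hom z = 0 → z = 0 := by
    intro X z hz
    have h1 : ((tor0Iso X).inv.app Y).hom (((tor0Iso X).hom.app Y).hom z) = z :=
      ConcreteCategory.congr_hom ((tor0Iso X).hom_inv_id_app Y) z
    rw [← h1, hz, map_zero]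
  let y := ((tor0Iso S.X₁).inv.app Y).hom t
  have hy : ((tor0Iso S.X₁).hom.app Y).hom y = t :=
    ConcreteCategory.congr_hom ((tor0Iso S.X₁).inv_hom_id_app Y) t
  have hy0 : (((Tor (ModuleCat.{u} R) 0).map S.f).app Y).hom y = 0 := by
    apply hinj
    rw [nat, hy, ht]
  obtain ⟨x, hx⟩ := exists_torδ_eq S hS 0 Y y hy0
  have h2 : (((Tor (ModuleCat.{u} R) 0).map φ.τ₁).app Y).hom y = 0 := by
    rw [← hx]
    have h3 := ConcreteCategory.congr_hom (torδ_naturality_left φ hS hS' 0 Y) x
    refine Eq.trans h3.symm ?_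
    rw [h]
    simp
  rw [← hy, ← nat, h2, map_zero]

end natL

section algebra

variable {n m : ℕ} {X : Type u} [AddCommGroup X] [Module R X]

lemma sum_smul_single {l : ℕ} (v : Fin l → R) :
    v = ∑ j, v j • (Pi.single j (1 : R) : Fin l → R) := by
  ext i
  simp [Finset.sum_apply, Pi.single_apply]

/-- evaluation `(Fin l → R) ⊗ X → X` at the `j`-th coordinate -/
noncomputable def ev (l : ℕ) (X : Type u) [AddCommGroup X] [Module R X] (j : Fin l) :
    (Fin l → R) ⊗[R] X →ₗ[R] X :=
  (TensorProduct.lid R X).toLinearMap ∘ₗ (LinearMap.proj j : (Fin l → R) →ₗ[R] R).rTensor X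

lemma ev_tmul (l : ℕ) (j : Fin l) (v : Fin l → R) (x : X) : ev l X j (v ⊗ₜ x) = v j • x := by
  simp [ev]

theorem exists_coeffs (K : Submodule R (Fin n → R)) (q : (Fin m → R) →ₗ[R] K)
    (hq : Function.Surjective q) (b : K →ₗ[R] X)
    (hb : ∀ (N : Type u) [AddCommGroup N] [Module R N] (t : N ⊗[R] K),
      (K.subtype.lTensor N) t = 0 → (b.lTensor N) t = 0) :
    ∃ c : Fin n → X, ∀ x : K, b x = ∑ i, (x : Fin n → R) i • c i := by
  classical
  let k : Fin m → (Fin n → R) := fun j => (q (Pi.single j 1) : Fin n → R)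
  let w : Fin n → (Fin m → R) := fun i j => k j i
  let ω : (Fin n → R) →ₗ[R] (Fin m → R) := Fintype.linearCombination R w
  let N := (Fin m → R) ⧸ LinearMap.range ω
  let mk : (Fin m → R) →ₗ[R] N := (LinearMap.range ω).mkQ
  have hmkω : ∀ v, mk (ω v) = 0 := fun v =>
    (Submodule.Quotient.mk_eq_zero _).mpr (LinearMap.mem_range_self ω v)
  have hw : ∀ i, ω (Pi.single i 1) = w i := fun i => by
    simp [ω]
  let t : N ⊗[R] K := ∑ j, mk (Pi.single j 1) ⊗ₜ[R] q (Pi.single j 1)
  have ht : (K.subtype.lTensor N) t = 0 := by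
    apply (TensorProduct.piScalarRight R R N (Fin n)).injective
    rw [map_zero]
    ext i
    simp only [t, map_sum, LinearMap.lTensor_tmul, Submodule.subtype_apply,
      TensorProduct.piScalarRight_apply, TensorProduct.piScalarRightHom_tmul, Finset.sum_apply,
      Pi.zero_apply]
    have h1 : ∑ j, k j i • mk (Pi.single j 1) = mk (w i) := by
      conv_rhs => rw [sum_smul_single (w i), map_sum]
      simp only [map_smul]
      rfl
    change ∑ j, k j i • mk (Pi.single j 1) = 0
    rw [h1, ← hw, hmkω]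
  have h0 := hb N t ht
  let τ : (Fin m → R) ⊗[R] X := ∑ j, (Pi.single j 1 : Fin m → R) ⊗ₜ[R] b (q (Pi.single j 1))
  have hτ : (mk.rTensor X) τ = 0 := by
    have h1 : (mk.rTensor X) τ = (b.lTensor N) t := by
      simp [τ, t, map_sum]
    rw [h1, h0]
  have hexact : Function.Exact (ω.rTensor X) (mk.rTensor X) :=
    rTensor_exact X (LinearMap.exact_map_mkQ_range ω) (Submodule.mkQ_surjective _)
  obtain ⟨ρ, hρ⟩ := (hexact τ).mp hτ
  refine ⟨fun i => ev n X i ρ, ?_⟩
  have hev : ∀ j, (ev m X j) ∘ₗ (ω.rTensor X) = ∑ i, k j i • ev n X i := by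
    intro j
    apply TensorProduct.ext'
    intro v x
    simp only [LinearMap.comp_apply, LinearMap.rTensor_tmul, ev_tmul, LinearMap.sum_apply,
      LinearMap.smul_apply]
    simp only [ω, Fintype.linearCombination_apply, Finset.sum_apply, Pi.smul_apply, smul_eq_mul,
      Finset.sum_smul, w]
    refine Finset.sum_congr rfl fun i _ => ?_
    rw [mul_comm, mul_smul]
  have hbq : ∀ j, b (q (Pi.single j 1)) = ∑ i, k j i • ev n X i ρ := by
    intro j
    have h1 : ev m X j τ = b (q (Pi.single j 1)) := by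
      simp only [τ, map_sum, ev_tmul, Pi.single_apply]
      simp
    rw [← h1, ← hρ]
    have h2 := LinearMap.congr_fun (hev j) ρ
    simpa [LinearMap.sum_apply] using h2
  let s : (Fin n → R) →ₗ[R] X := Fintype.linearCombination R (fun i => ev n X i ρ)
  have hs : ∀ v, s v = ∑ i, v i • ev n X i ρ := fun v => Fintype.linearCombination_apply R _ v
  have hlin : b ∘ₗ q = s ∘ₗ K.subtype ∘ₗ q := by
    apply LinearMap.pi_ext
    intro j r
    have hr : (Pi.single j r : Fin m → R) = r • Pi.single j 1 := by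
      ext l
      simp [Pi.single_apply]
    simp only [LinearMap.comp_apply, Submodule.subtype_apply]
    rw [hr, map_smul, map_smul, Submodule.coe_smul, map_smul, hbq j, hs]
  intro x
  obtain ⟨v, rfl⟩ := hq x
  have h3 := LinearMap.congr_fun hlin v
  simp only [LinearMap.comp_apply, Submodule.subtype_apply] at h3
  rw [h3, hs]

end algebra

end Groth.Agent.TorFact
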