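import Groth.Agent.Lib.TorBal_helper5

/-!
# `Tor_1(M, -)` of a short exact sequence and injectivity of `- ⊗ M` (helper5)
-/

set_option autoImplicit false
set_option maxHeartbeats 400000
universe u
open CategoryTheory CategoryTheory.Limits MonoidalCategory TensorProduct

namespace Groth.Agent.TorFib

open Groth.Agent.TorBal

section additive

variable {C D : Type*} [Category C] [Category D] [Abelian C] [HasProjectiveResolutions C]
  [Abelian D]

/-- left derived functors are additive. -/
theorem leftDerived_map_add (F : C ⥤ D) [F.Additive] (n : ℕ) {X Y : C} (f g : X ⟶ Y) :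
    (F.leftDerived n).map (f + g) = (F.leftDerived n).map f + (F.leftDerived n).map g := by
  let P := projectiveResolution X
  let Q := projectiveResolution Y
  let φ := ProjectiveResolution.lift f P Q
  let ψ := ProjectiveResolution.lift g P Q
  have hφ : φ ≫ Q.π = P.π ≫ (ChainComplex.single₀ C).map f :=
    ProjectiveResolution.lift_commutes f P Q
  have hψ : ψ ≫ Q.π = P.π ≫ (ChainComplex.single₀ C).map g :=
    ProjectiveResolution.lift_commutes g P Q
  have hadd : (φ + ψ) ≫ Q.π = P.π ≫ (ChainComplex.single₀ C).map (f + g) := by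
    rw [Preadditive.add_comp, hφ, hψ, Functor.map_add, Preadditive.comp_add]
  rw [Functor.leftDerived_map_eq F n (f + g) (φ + ψ) hadd, Functor.leftDerived_map_eq F n f φ hφ,
    Functor.leftDerived_map_eq F n g ψ hψ, Functor.map_add, Preadditive.add_comp,
    Preadditive.comp_add]

instance leftDerived_additive (F : C ⥤ D) [F.Additive] (n : ℕ) : (F.leftDerived n).Additive :=
  ⟨fun {_ _ f g} => leftDerived_map_add F n f g⟩

end additive

variable {R : Type u} [CommRing R]

instance tor_obj_additive (M : ModuleCat.{u} R) (n : ℕ) :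
    ((Tor (ModuleCat.{u} R) n).obj M).Additive :=
  leftDerived_additive ((tensoringLeft (ModuleCat.{u} R)).obj M) n

/-- For a short exact sequence `0 → X₁ → X₂ → X₃ → 0` and a module `M`,
`Tor_1(M, X₂) → Tor_1(M, X₃)` is surjective iff `X₁ ⊗ M → X₂ ⊗ M` is injective. -/
theorem epi_tor_one_map_iff (M : ModuleCat.{u} R) (S : ShortComplex (ModuleCat.{u} R))
    (hS : S.ShortExact) :
    Epi (((Tor (ModuleCat.{u} R) 1).obj M).map S.g) ↔
      Function.Injective (S.f.hom.rTensor M) := by
  obtain ⟨-, -, δ, w₁, w₂, ex3, ex1⟩ := tor_les_right M S hS 0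
  have nat : ((Tor (ModuleCat.{u} R) 0).obj M).map S.f ≫ (tor0Iso M).hom.app S.X₂ =
      (tor0Iso M).hom.app S.X₁ ≫ S.f ▷ M := (tor0Iso M).hom.naturality S.f
  let e₁ := ((tor0Iso M).app S.X₁).toLinearEquiv
  let e₂ := ((tor0Iso M).app S.X₂).toLinearEquiv
  have nat' : ∀ x, e₂ ((((Tor (ModuleCat.{u} R) 0).obj M).map S.f).hom x) =
      (S.f.hom.rTensor M) (e₁ x) := fun x => ConcreteCategory.congr_hom nat x
  have hmono : Function.Injective (((Tor (ModuleCat.{u} R) 0).obj M).map S.f).hom ↔
      Function.Injective (S.f.hom.rTensor M) := by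
    constructor
    · intro h a b hab
      have ha : e₂ ((((Tor (ModuleCat.{u} R) 0).obj M).map S.f).hom (e₁.symm a)) =
          e₂ ((((Tor (ModuleCat.{u} R) 0).obj M).map S.f).hom (e₁.symm b)) := by
        rw [nat', nat', LinearEquiv.apply_symm_apply, LinearEquiv.apply_symm_apply, hab]
      exact e₁.symm.injective (h (e₂.injective ha))
    · intro h a b hab
      have ha : (S.f.hom.rTensor M) (e₁ a) = (S.f.hom.rTensor M) (e₁ b) := by
        rw [← nat', ← nat', hab]
      exact e₁.injective (h ha)
  rw [← hmono]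
  constructor
  · intro h
    have hsurj := (ModuleCat.epi_iff_surjective _).mp h
    have hδ : δ = 0 := by
      ext y
      obtain ⟨x, rfl⟩ := hsurj y
      exact ConcreteCategory.congr_hom w₁ x
    exact (ModuleCat.mono_iff_injective _).mp (ex1.mono_g hδ)
  · intro h
    have hδ : δ = 0 := by
      ext y
      apply h
      have h0 : (ModuleCat.Hom.hom (0 : ((Tor (ModuleCat.{u} R) (0 + 1)).obj M).obj S.X₃ ⟶
          ((Tor (ModuleCat.{u} R) 0).obj M).obj S.X₁)) y = 0 := rfl
      rw [h0, map_zero]
      exact ConcreteCategory.congr_hom w₂ y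
    exact ex3.epi_f hδ

end Groth.Agent.TorFib
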