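import Groth.Agent.Lib.TorKoszul_helper5
import Groth.Agent.Lib.TorKer_helper5
import Groth.Agent.Lib.TorShift2_helper5

/-!
# `Tor` over a node `A` with `uv = 0` (helper5)

* `TorNode5.length_tor_succ`: a short exact piece of the long exact `Tor` sequence (first variable)
  when the maps induced by `S.f` vanish, in terms of lengths.
* `TorNode5.tor_smul_zero_left/right`: `Tor_n(X,Y)` is killed by the annihilators of `X` and `Y`.
* `TorNode5.length_tor_quot`: for a "node pair" `u, v` (`uv = 0`, `ann u = (v)`, `ann v = (u)`) and a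
  module `Y` killed by `u` and `v`: `length Tor_n(A/(u), Y) = length Y`.
* `TorNode5.length_tor_pair`: `length Tor_{n+1}(A/(u,v), Y) = 2 length Y`.
* `TorNode5.main`: the case `A = k[x,y]/(xy)`.
-/

set_option autoImplicit false
set_option maxHeartbeats 400000
universe u
open CategoryTheory CategoryTheory.Limits MonoidalCategory TensorProduct

namespace TorNode5

open Groth.Agent.TorLES Groth.Agent.TorNat Groth.Agent.TorBal Groth.Agent.TorKoszul

variable {A : Type u} [CommRing A]

/-- `Tor_n(X, Y)`. -/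
noncomputable abbrev T (n : ℕ) (X Y : ModuleCat.{u} A) : ModuleCat.{u} A :=
  ((Tor (ModuleCat.{u} A) n).obj X).obj Y

lemma hom_inv_app {X Y : ModuleCat.{u} A} (e : X ≅ Y) (y : Y) : e.hom (e.inv y) = y := by
  rw [← ConcreteCategory.comp_apply, Iso.inv_hom_id, ConcreteCategory.id_apply]

lemma inv_hom_app {X Y : ModuleCat.{u} A} (e : X ≅ Y) (x : X) : e.inv (e.hom x) = x := by
  rw [← ConcreteCategory.comp_apply, Iso.hom_inv_id, ConcreteCategory.id_apply]

lemma tor_map_apply {X X' : ModuleCat.{u} A} (g : X ⟶ X') (Y : ModuleCat.{u} A) (n : ℕ)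
    (t : T n X Y) :
    ((Tor (ModuleCat.{u} A) n).map g).app Y t =
      (torIsoH X' Y n).inv (HomologicalComplex.homologyMap
        (cxMap g (ProjectiveResolution.of Y).complex) n ((torIsoH X Y n).hom t)) := by
  rw [tor_map_app_eq]
  rfl

section les

variable (S : ShortComplex (ModuleCat.{u} A)) (hS : S.ShortExact) (Y : ModuleCat.{u} A) (n : ℕ)

include hS in
theorem length_tor_succ
    (h0 : ∀ t : T n S.X₁ Y, ((Tor (ModuleCat.{u} A) n).map S.f).app Y t = 0)
    (h1 : ∀ t : T (n + 1) S.X₁ Y, ((Tor (ModuleCat.{u} A) (n + 1)).map S.f).app Y t = 0) :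
    Module.length A (T (n + 1) S.X₃ Y) =
      Module.length A (T (n + 1) S.X₂ Y) + Module.length A (T n S.X₁ Y) := by
  have hE := sE S hS Y
  have ex2 := (ShortComplex.moduleCat_exact_iff _).mp (hE.homology_exact₂ (n + 1))
  have ex3 := (ShortComplex.moduleCat_exact_iff _).mp (hE.homology_exact₃ (n + 1) n (by simp))
  have cδ := hE.comp_δ (n + 1) n (by simp)
  refine Module.length_eq_add_of_exact (((Tor (ModuleCat.{u} A) (n + 1)).map S.g).app Y).hom
    (torδ S hS n Y).hom ?_ ?_ ?_
  · -- injectivity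
    refine (injective_iff_map_eq_zero _).2 ?_
    intro t ht
    have ht1 : ((Tor (ModuleCat.{u} A) (n + 1)).map S.g).app Y t = 0 := ht
    rw [tor_map_apply] at ht1
    have ht2 : HomologicalComplex.homologyMap (cxMap S.g (ProjectiveResolution.of Y).complex)
        (n + 1) ((torIsoH S.X₂ Y (n + 1)).hom t) = 0 := by
      have := congrArg (torIsoH S.X₃ Y (n + 1)).hom ht1
      rwa [hom_inv_app, map_zero] at this
    obtain ⟨s', hs'⟩ := ex2 _ ht2
    have h3 := h1 ((torIsoH S.X₁ Y (n + 1)).inv s')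
    rw [tor_map_apply, hom_inv_app] at h3
    have h4 : (torIsoH S.X₂ Y (n + 1)).inv ((torIsoH S.X₂ Y (n + 1)).hom t) = 0 := by
      rw [← h3]
      exact congrArg _ hs'.symm
    rwa [inv_hom_app] at h4
  · -- surjectivity
    intro y
    exact exists_torδ_eq S hS n Y y (h0 y)
  · -- exactness
    intro w
    constructor
    · intro hw
      have hw1 : (torIsoH S.X₁ Y n).inv (δH S hS n Y ((torIsoH S.X₃ Y (n + 1)).hom w)) = 0 := hw
      have hw2 : δH S hS n Y ((torIsoH S.X₃ Y (n + 1)).hom w) = 0 := by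
        have := congrArg (torIsoH S.X₁ Y n).hom hw1
        rwa [hom_inv_app, map_zero] at this
      obtain ⟨z, hz⟩ := ex3 _ hw2
      refine ⟨(torIsoH S.X₂ Y (n + 1)).inv z, ?_⟩
      show ((Tor (ModuleCat.{u} A) (n + 1)).map S.g).app Y ((torIsoH S.X₂ Y (n + 1)).inv z) = w
      rw [tor_map_apply, hom_inv_app]
      have : (torIsoH S.X₃ Y (n + 1)).inv ((torIsoH S.X₃ Y (n + 1)).hom w) = w := inv_hom_app _ _
      rw [← this]
      exact congrArg _ hz
    · rintro ⟨t, rfl⟩
      show (torδ S hS n Y) (((Tor (ModuleCat.{u} A) (n + 1)).map S.g).app Y t) = 0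
      rw [tor_map_apply]
      show (torIsoH S.X₁ Y n).inv (δH S hS n Y ((torIsoH S.X₃ Y (n + 1)).hom
        ((torIsoH S.X₃ Y (n + 1)).inv _))) = 0
      rw [hom_inv_app]
      have h5 := congrArg (fun φ => φ ((torIsoH S.X₂ Y (n + 1)).hom t)) cδ
      have h6 : δH S hS n Y (HomologicalComplex.homologyMap
          (cxMap S.g (ProjectiveResolution.of Y).complex) (n + 1)
            ((torIsoH S.X₂ Y (n + 1)).hom t)) = 0 := h5
      rw [h6, map_zero]

end les

section smul

lemma tor_smul_zero_left (X Y : ModuleCat.{u} A) (r : A) (hr : ∀ x : X, r • x = 0) (n : ℕ)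
    (t : T n X Y) : r • t = 0 := by
  have h : LinearMap.lsmul A X r = LinearMap.lsmul A X 0 := by
    ext x
    simp [hr x]
  rw [← tor_map_smul X Y r n t, h, tor_map_smul, zero_smul]

lemma tor_smul_zero_right (X Y : ModuleCat.{u} A) (r : A) (hr : ∀ y : Y, r • y = 0) (n : ℕ)
    (t : T n X Y) : r • t = 0 := by
  let e : T n X Y ≅ T n Y X := (torSymm X n).app Y
  have h1 : e.hom (r • t) = 0 := by
    rw [map_smul]
    exact tor_smul_zero_left Y X r hr n (e.hom t)
  have := congrArg e.inv h1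
  rwa [inv_hom_app, map_zero] at this

end smul

section pair

/-- `uv = 0`, `ann u = (v)` and `ann v = (u)`. -/
def NodePair (u v : A) : Prop :=
  u * v = 0 ∧ (∀ a, a * u = 0 → a ∈ Ideal.span {v}) ∧ (∀ a, a * v = 0 → a ∈ Ideal.span {u})

lemma NodePair.symm {u v : A} (h : NodePair u v) : NodePair v u :=
  ⟨by rw [mul_comm]; exact h.1, h.2.2, h.2.1⟩

/-- multiplication by `v` as a map `A/(u) → A`, when `uv = 0`. -/
noncomputable def mulQ (u v : A) (huv : u * v = 0) : (A ⧸ Ideal.span {u}) →ₗ[A] A :=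
  Submodule.liftQ (Ideal.span {u}) (LinearMap.toSpanSingleton A A v) (by
    show Submodule.span A {u} ≤ _
    rw [Submodule.span_le]
    rintro a (rfl : a = u)
    show (LinearMap.toSpanSingleton A A v) a = 0
    rw [LinearMap.toSpanSingleton_apply, smul_eq_mul]
    exact huv)

lemma mulQ_mk (u v : A) (huv : u * v = 0) (a : A) :
    mulQ u v huv (Submodule.Quotient.mk a) = a * v := rfl

lemma mulQ_injective (u v : A) (huv : u * v = 0) (h : ∀ a, a * v = 0 → a ∈ Ideal.span {u}) :
    Function.Injective (mulQ u v huv) := by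
  refine (injective_iff_map_eq_zero _).2 ?_
  intro n hn
  obtain ⟨a, rfl⟩ := Submodule.mkQ_surjective _ n
  rw [Submodule.mkQ_apply, mulQ_mk] at hn
  exact (Submodule.Quotient.mk_eq_zero _).2 (h a hn)

lemma mulQ_exact (u v : A) (huv : u * v = 0) :
    Function.Exact (mulQ u v huv) (Submodule.mkQ (Ideal.span {v})) := by
  intro b
  constructor
  · intro hb
    have hb' : b ∈ Ideal.span {v} := (Submodule.Quotient.mk_eq_zero _).1 hb
    obtain ⟨c, rfl⟩ := Ideal.mem_span_singleton'.1 hb'
    exact ⟨Submodule.Quotient.mk c, mulQ_mk u v huv c⟩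
  · rintro ⟨n, rfl⟩
    obtain ⟨a, rfl⟩ := Submodule.mkQ_surjective _ n
    show Submodule.mkQ (Ideal.span {v}) (mulQ u v huv (Submodule.Quotient.mk a)) = 0
    rw [mulQ_mk]
    exact (Submodule.Quotient.mk_eq_zero _).2 (Ideal.mul_mem_left _ _ (Ideal.subset_span rfl))

variable (Y : Type u) [AddCommGroup Y] [Module A Y]

/-- `(A/(u)) ⊗ Y ≃ Y` when `u` kills `Y`. -/
noncomputable def quotTensorEquiv (u : A) (hu : ∀ y : Y, u • y = 0) :
    ((A ⧸ Ideal.span {u}) ⊗[A] Y) ≃ₗ[A] Y :=
  (TensorProduct.quotTensorEquivQuotSMul Y (Ideal.span {u})).trans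
    (Submodule.quotEquivOfEqBot _ (by
      rw [eq_bot_iff, Submodule.smul_le]
      intro r hr y _
      obtain ⟨c, rfl⟩ := Ideal.mem_span_singleton'.1 hr
      rw [Submodule.mem_bot, mul_smul, hu, smul_zero]))

lemma length_tor_zero (u : A) (hu : ∀ y : Y, u • y = 0) :
    Module.length A (T 0 (ModuleCat.of A (A ⧸ Ideal.span {u})) (ModuleCat.of A Y)) =
      Module.length A Y :=
  ((torZeroEquiv Y (A ⧸ Ideal.span {u})).trans (quotTensorEquiv Y u hu)).length_eq

lemma length_tor_one (u v : A) (h : NodePair u v) (hu : ∀ y : Y, u • y = 0)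
    (hv : ∀ y : Y, v • y = 0) :
    Module.length A (T 1 (ModuleCat.of A (A ⧸ Ideal.span {v})) (ModuleCat.of A Y)) =
      Module.length A Y := by
  obtain ⟨e⟩ := Groth.Agent.TorKer5.nonempty_tor1_equiv_ker (N := Y) (mulQ u v h.1)
    (Submodule.mkQ (Ideal.span {v})) (mulQ_injective u v h.1 h.2.2) (mulQ_exact u v h.1)
    (Submodule.mkQ_surjective _)
  have hz : (mulQ u v h.1).rTensor Y = 0 := by
    apply TensorProduct.ext'
    intro a y
    obtain ⟨a, rfl⟩ := Submodule.mkQ_surjective _ a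
    rw [LinearMap.rTensor_tmul, Submodule.mkQ_apply, mulQ_mk, LinearMap.zero_apply,
      mul_comm, ← smul_eq_mul, TensorProduct.smul_tmul, hv, TensorProduct.tmul_zero]
  have hk : LinearMap.ker ((mulQ u v h.1).rTensor Y) = ⊤ := by
    rw [hz]
    exact LinearMap.ker_zero
  exact ((e.trans ((LinearEquiv.ofEq _ _ hk).trans Submodule.topEquiv)).trans
    (quotTensorEquiv Y u hu)).length_eq

theorem length_tor_quot : ∀ (n : ℕ) (u v : A), NodePair u v → (∀ y : Y, u • y = 0) →
    (∀ y : Y, v • y = 0) →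
    Module.length A (T n (ModuleCat.of A (A ⧸ Ideal.span {u})) (ModuleCat.of A Y)) =
      Module.length A Y := by
  intro n
  induction n with
  | zero => intro u v _ hu _; exact length_tor_zero Y u hu
  | succ m ih =>
    intro u v h hu hv
    rcases m with _ | m'
    · exact length_tor_one Y v u h.symm hv hu
    · -- shift along `0 → A/(v) → A → A/(u) → 0`
      have hS := Groth.Agent.TorLES.mk_shortExact (mulQ v u h.symm.1)
        (Submodule.mkQ (Ideal.span {u})) (mulQ_injective v u h.symm.1 h.symm.2.2)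
        (mulQ_exact v u h.symm.1) (Submodule.mkQ_surjective _)
      have e := ((shift _ hS (inferInstanceAs (Module.Flat A A)) m').app
        (ModuleCat.of A Y)).toLinearEquiv
      exact e.length_eq.trans (ih v u h.symm hv hu)

/-- multiplication by `v` on `A/(u)`. -/
noncomputable abbrev iB (u v : A) : (A ⧸ Ideal.span {u}) →ₗ[A] (A ⧸ Ideal.span {u}) :=
  LinearMap.lsmul A (A ⧸ Ideal.span {u}) v

/-- the projection `A/(u) → A/(u,v)`. -/
noncomputable def pB (u v : A) : (A ⧸ Ideal.span {u}) →ₗ[A] (A ⧸ Ideal.span {u, v}) :=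
  Submodule.liftQ (Ideal.span {u}) (Submodule.mkQ (Ideal.span {u, v})) (by
    show Submodule.span A {u} ≤ _
    rw [Submodule.span_le]
    rintro a (rfl : a = u)
    show Submodule.mkQ (Ideal.span {a, v}) a = 0
    exact (Submodule.Quotient.mk_eq_zero _).2 (Ideal.subset_span (Set.mem_insert _ _)))

lemma pB_mk (u v : A) (a : A) : pB u v (Submodule.Quotient.mk a) = Submodule.Quotient.mk a := rfl

lemma iB_injective (u v : A) (h3 : ∀ a, a * v ∈ Ideal.span {u} → a ∈ Ideal.span {u}) :
    Function.Injective (iB u v) := by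
  refine (injective_iff_map_eq_zero _).2 ?_
  intro n hn
  obtain ⟨a, rfl⟩ := Submodule.mkQ_surjective _ n
  have hn' : (Submodule.Quotient.mk (v • a) : A ⧸ Ideal.span {u}) = 0 := hn
  rw [Submodule.Quotient.mk_eq_zero, smul_eq_mul, mul_comm] at hn'
  exact (Submodule.Quotient.mk_eq_zero _).2 (h3 a hn')

lemma iB_pB_exact (u v : A) : Function.Exact (iB u v) (pB u v) := by
  intro b
  obtain ⟨a, rfl⟩ := Submodule.mkQ_surjective _ b
  rw [Submodule.mkQ_apply, pB_mk, Submodule.Quotient.mk_eq_zero]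
  constructor
  · intro ha
    obtain ⟨c, d, hcd⟩ := Ideal.mem_span_pair.1 ha
    refine ⟨Submodule.Quotient.mk d, ?_⟩
    show (Submodule.Quotient.mk (v • d) : A ⧸ Ideal.span {u}) = Submodule.Quotient.mk a
    rw [Submodule.Quotient.eq, ← hcd, smul_eq_mul]
    have : v * d - (c * u + d * v) = (-c) * u := by ring
    rw [this]
    exact Ideal.mul_mem_left _ _ (Ideal.subset_span rfl)
  · rintro ⟨n, hn⟩
    obtain ⟨d, rfl⟩ := Submodule.mkQ_surjective _ n
    have hn' : (Submodule.Quotient.mk (v • d) : A ⧸ Ideal.span {u}) = Submodule.Quotient.mk a := hn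
    rw [Submodule.Quotient.eq, smul_eq_mul] at hn'
    obtain ⟨c, hc⟩ := Ideal.mem_span_singleton'.1 hn'
    rw [Ideal.mem_span_pair]
    refine ⟨-c, d, ?_⟩
    have : a = v * d - c * u := by rw [hc]; ring
    rw [this]; ring

lemma pB_surjective (u v : A) : Function.Surjective (pB u v) := by
  intro b
  obtain ⟨a, rfl⟩ := Submodule.mkQ_surjective _ b
  exact ⟨Submodule.Quotient.mk a, rfl⟩

theorem length_tor_pair (u v : A) (h : NodePair u v)
    (h3 : ∀ a, a * v ∈ Ideal.span {u} → a ∈ Ideal.span {u})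
    (hu : ∀ y : Y, u • y = 0) (hv : ∀ y : Y, v • y = 0) (n : ℕ) :
    Module.length A (T (n + 1) (ModuleCat.of A (A ⧸ Ideal.span {u, v})) (ModuleCat.of A Y)) =
      Module.length A Y + Module.length A Y := by
  have hS := Groth.Agent.TorLES.mk_shortExact (iB u v) (pB u v) (iB_injective u v h3)
    (iB_pB_exact u v) (pB_surjective u v)
  have key : ∀ (j : ℕ) (t : T j (ModuleCat.of A (A ⧸ Ideal.span {u})) (ModuleCat.of A Y)),
      ((Tor (ModuleCat.{u} A) j).map (ModuleCat.ofHom (iB u v))).app (ModuleCat.of A Y) t = 0 := by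
    intro j t
    have := tor_map_smul (ModuleCat.of A (A ⧸ Ideal.span {u})) (ModuleCat.of A Y) v j t
    rw [tor_smul_zero_right _ _ v hv j t] at this
    exact this
  have this : Module.length A
      (T (n + 1) (ModuleCat.of A (A ⧸ Ideal.span {u, v})) (ModuleCat.of A Y)) =
      Module.length A (T (n + 1) (ModuleCat.of A (A ⧸ Ideal.span {u})) (ModuleCat.of A Y)) +
        Module.length A (T n (ModuleCat.of A (A ⧸ Ideal.span {u})) (ModuleCat.of A Y)) :=
    length_tor_succ _ hS (ModuleCat.of A Y) n (key n) (key (n + 1))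
  rw [length_tor_quot Y (n + 1) u v h hu hv, length_tor_quot Y n u v h hu hv] at this
  exact this

end pair


section dom

variable {P : Type u} [CommRing P] [IsDomain P] (p q : P)

lemma ann_left (hp : p ≠ 0) (a : P ⧸ Ideal.span {p * q})
    (h : a * Ideal.Quotient.mk (Ideal.span {p * q}) p = 0) :
    a ∈ Ideal.span {Ideal.Quotient.mk (Ideal.span {p * q}) q} := by
  obtain ⟨f, rfl⟩ := Ideal.Quotient.mk_surjective a
  rw [← map_mul, Ideal.Quotient.eq_zero_iff_mem, Ideal.mem_span_singleton'] at h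
  obtain ⟨g, hg⟩ := h
  have h2 : (g * q - f) * p = 0 := by
    rw [sub_mul, ← hg]; ring
  have h3 : g * q - f = 0 := (mul_eq_zero.1 h2).resolve_right hp
  have h4 : f = g * q := (sub_eq_zero.1 h3).symm
  rw [h4, map_mul]
  exact Ideal.mul_mem_left _ _ (Ideal.subset_span rfl)

lemma ann_right (hq : q ≠ 0) (a : P ⧸ Ideal.span {p * q})
    (h : a * Ideal.Quotient.mk (Ideal.span {p * q}) q = 0) :
    a ∈ Ideal.span {Ideal.Quotient.mk (Ideal.span {p * q}) p} := by
  obtain ⟨f, rfl⟩ := Ideal.Quotient.mk_surjective a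
  rw [← map_mul, Ideal.Quotient.eq_zero_iff_mem, Ideal.mem_span_singleton'] at h
  obtain ⟨g, hg⟩ := h
  have h2 : (g * p - f) * q = 0 := by
    rw [sub_mul, ← hg]; ring
  have h3 : g * p - f = 0 := (mul_eq_zero.1 h2).resolve_right hq
  have h4 : f = g * p := (sub_eq_zero.1 h3).symm
  rw [h4, map_mul]
  exact Ideal.mul_mem_left _ _ (Ideal.subset_span rfl)

lemma nodePair_of_domain (hp : p ≠ 0) (hq : q ≠ 0) :
    NodePair (Ideal.Quotient.mk (Ideal.span {p * q}) p) (Ideal.Quotient.mk (Ideal.span {p * q}) q) :=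
  ⟨by rw [← map_mul]; exact Ideal.Quotient.eq_zero_iff_mem.2 (Ideal.subset_span rfl),
    ann_left p q hp, ann_right p q hq⟩

lemma regular_of_prime (hp : Prime p) (hpq : ¬ p ∣ q) (a : P ⧸ Ideal.span {p * q})
    (h : a * Ideal.Quotient.mk (Ideal.span {p * q}) q ∈
      Ideal.span {Ideal.Quotient.mk (Ideal.span {p * q}) p}) :
    a ∈ Ideal.span {Ideal.Quotient.mk (Ideal.span {p * q}) p} := by
  obtain ⟨f, rfl⟩ := Ideal.Quotient.mk_surjective a
  obtain ⟨b, hb⟩ := Ideal.mem_span_singleton'.1 h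
  obtain ⟨g, rfl⟩ := Ideal.Quotient.mk_surjective b
  rw [← map_mul, ← map_mul, Ideal.Quotient.eq, Ideal.mem_span_singleton'] at hb
  obtain ⟨c, hc⟩ := hb
  have h1 : p ∣ f * q := ⟨g - c * q, by
    have : f * q = g * p - c * (p * q) := by rw [hc]; ring
    rw [this]; ring⟩
  rcases hp.dvd_or_dvd h1 with h2 | h2
  · obtain ⟨f', rfl⟩ := h2
    rw [map_mul]
    exact Ideal.mul_mem_right _ _ (Ideal.subset_span rfl)
  · exact absurd h2 hpq

end dom

section poly

variable (k : Type u) [Field k]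

/-- `k[x,y]`. -/
noncomputable abbrev Pk := MvPolynomial (Fin 2) k

/-- the ideal `(xy)`. -/
noncomputable abbrev Ik : Ideal (Pk k) :=
  Ideal.span {(MvPolynomial.X 0 * MvPolynomial.X 1 : MvPolynomial (Fin 2) k)}

/-- the node `k[x,y]/(xy)`. -/
abbrev Ak := Pk k ⧸ Ik k

/-- the class of `x`. -/
noncomputable abbrev xk : Ak k := Ideal.Quotient.mk (Ik k) (MvPolynomial.X 0)

/-- the class of `y`. -/
noncomputable abbrev yk : Ak k := Ideal.Quotient.mk (Ik k) (MvPolynomial.X 1)

/-- the residue field at the origin, as a module. -/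
abbrev κk := Ak k ⧸ Ideal.span {xk k, yk k}

lemma nodePair_k : NodePair (xk k) (yk k) :=
  nodePair_of_domain _ _ (MvPolynomial.X_ne_zero _) (MvPolynomial.X_ne_zero _)

lemma regular_k (a : Ak k) (h : a * yk k ∈ Ideal.span {xk k}) : a ∈ Ideal.span {xk k} :=
  regular_of_prime _ _ MvPolynomial.X_prime (by
    rw [MvPolynomial.X_dvd_X]
    decide) a h

lemma xk_smul (z : κk k) : xk k • z = 0 := by
  obtain ⟨a, rfl⟩ := Submodule.mkQ_surjective _ z
  show (Submodule.Quotient.mk (xk k • a) : κk k) = 0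
  rw [Submodule.Quotient.mk_eq_zero, smul_eq_mul]
  exact Ideal.mul_mem_right _ _ (Ideal.subset_span (Set.mem_insert _ _))

lemma yk_smul (z : κk k) : yk k • z = 0 := by
  obtain ⟨a, rfl⟩ := Submodule.mkQ_surjective _ z
  show (Submodule.Quotient.mk (yk k • a) : κk k) = 0
  rw [Submodule.Quotient.mk_eq_zero, smul_eq_mul]
  exact Ideal.mul_mem_right _ _ (Ideal.subset_span (Set.mem_insert_of_mem _ rfl))

/-- the augmentation `A → k`. -/
noncomputable def εk : Ak k →+* k :=
  Ideal.Quotient.lift (Ik k) MvPolynomial.constantCoeff (by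
    intro a ha
    rw [Ideal.mem_span_singleton'] at ha
    obtain ⟨b, rfl⟩ := ha
    simp)

lemma εk_mk (f : Pk k) : εk k (Ideal.Quotient.mk (Ik k) f) = MvPolynomial.constantCoeff f := by
  simp [εk]

lemma span_eq_ker : Ideal.span {xk k, yk k} = RingHom.ker (εk k) := by
  apply le_antisymm
  · rw [Ideal.span_le]
    rintro a (rfl | rfl)
    · rw [SetLike.mem_coe, RingHom.mem_ker, εk_mk]; simp
    · rw [SetLike.mem_coe, RingHom.mem_ker, εk_mk]; simp
  · intro a ha
    obtain ⟨f, rfl⟩ := Ideal.Quotient.mk_surjective a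
    rw [RingHom.mem_ker, εk_mk] at ha
    have hf : f ∈ Ideal.span (MvPolynomial.X '' (Set.univ : Set (Fin 2)) :
        Set (MvPolynomial (Fin 2) k)) := by
      rw [MvPolynomial.mem_ideal_span_X_image]
      intro m hm
      by_contra hcon
      push Not at hcon
      have hm0 : m = 0 := by
        ext i
        exact hcon i (Set.mem_univ i)
      rw [hm0, MvPolynomial.mem_support_iff, ← MvPolynomial.constantCoeff_eq] at hm
      exact hm ha
    have hle : Ideal.span (MvPolynomial.X '' (Set.univ : Set (Fin 2)) :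
        Set (MvPolynomial (Fin 2) k)) ≤
        Ideal.span {(MvPolynomial.X 0 : MvPolynomial (Fin 2) k), MvPolynomial.X 1} := by
      rw [Ideal.span_le]
      rintro _ ⟨i, -, rfl⟩
      fin_cases i
      · exact Ideal.subset_span (Set.mem_insert _ _)
      · exact Ideal.subset_span (Set.mem_insert_of_mem _ rfl)
    obtain ⟨c, d, hcd⟩ := Ideal.mem_span_pair.1 (hle hf)
    rw [Ideal.mem_span_pair]
    exact ⟨Ideal.Quotient.mk _ c, Ideal.Quotient.mk _ d, by
      rw [← hcd, map_add, map_mul, map_mul]⟩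

lemma εk_surjective : Function.Surjective (εk k) := fun c =>
  ⟨Ideal.Quotient.mk _ (MvPolynomial.C c), by rw [εk_mk]; simp⟩

lemma length_κk : Module.length (Ak k) (κk k) = 1 := by
  rw [Module.length_eq_one_iff, isSimpleModule_iff_isCoatom, ← Ideal.isMaximal_def, span_eq_ker]
  exact RingHom.ker_isMaximal_of_surjective (εk k) (εk_surjective k)

theorem main_length (i : ℕ) (hi : 1 ≤ i) :
    Module.length (Ak k) (T i (ModuleCat.of (Ak k) (κk k)) (ModuleCat.of (Ak k) (κk k))) = 2 := by
  obtain ⟨n, rfl⟩ : ∃ n, i = n + 1 := ⟨i - 1, by omega⟩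
  rw [length_tor_pair (κk k) (xk k) (yk k) (nodePair_k k) (regular_k k) (xk_smul k) (yk_smul k) n,
    length_κk]
  rfl

theorem main_pd (n : ℕ) : ¬ HasProjectiveDimensionLT (ModuleCat.of (Ak k) (κk k)) n := by
  intro h
  haveI : HasProjectiveDimensionLT (ModuleCat.of (Ak k) (κk k)) (n + 1) :=
    hasProjectiveDimensionLT_of_ge _ n (n + 1) (Nat.le_succ n)
  have hz := Groth.Agent.TorShift2.isZero_tor_of_projDim (ModuleCat.of (Ak k) (κk k)) n
    (ModuleCat.of (Ak k) (κk k)) (n + 1) (Nat.lt_succ_self n)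
  have h2 := main_length k (n + 1) (Nat.succ_le_succ (Nat.zero_le n))
  haveI : Subsingleton (T (n + 1) (ModuleCat.of (Ak k) (κk k)) (ModuleCat.of (Ak k) (κk k))) :=
    ModuleCat.subsingleton_of_isZero hz
  rw [Module.length_eq_zero_iff.2 inferInstance] at h2
  exact absurd h2 (by decide)

end poly

end TorNode5
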