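import Mathlib
import Groth.Agent.Lib.TorLES_helper5

/-!
# Vanishing of `Tor_i(J^n, Y)` and `Tor_i(J^n/J^{n+1}, Y)` from vanishing of `Tor_i(A/J, Y)` when the
graded pieces are finite free over `A/J` (helper6).
-/

set_option autoImplicit false
universe u
open CategoryTheory CategoryTheory.Limits

namespace Groth.Agent.Lib.TorPowKoszulH6

open Groth.Agent.TorLES

variable {A : Type u} [CommRing A] (Y : Type u) [AddCommGroup Y] [Module A Y]

/-- positive `Tor` vanishing is invariant under linear equivalences in the first variable. -/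
theorem torZero_of_equiv {X X' : Type u} [AddCommGroup X] [Module A X] [AddCommGroup X']
    [Module A X'] (e : X ≃ₗ[A] X') (n : ℕ) (h : TorZero A n X Y) : TorZero A n X' Y :=
  IsZero.of_iso h (((Tor (ModuleCat.{u} A) n).mapIso e.toModuleIso).app (ModuleCat.of A Y)).symm

theorem torZero_prod {M N : Type u} [AddCommGroup M] [Module A M] [AddCommGroup N] [Module A N]
    (n : ℕ) (h1 : TorZero A n M Y) (h2 : TorZero A n N Y) : TorZero A n (M × N) Y := by
  refine torZero_mid (LinearMap.inl A M N) (LinearMap.snd A M N) Y LinearMap.inl_injective ?_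
    LinearMap.snd_surjective n h1 h2
  intro x
  constructor
  · intro hx
    refine ⟨x.1, ?_⟩
    ext
    · rfl
    · exact hx.symm
  · rintro ⟨m, rfl⟩
    rfl

theorem torZero_pi_fin {M : Type u} [AddCommGroup M] [Module A M] (n : ℕ)
    (h : TorZero A (n + 1) M Y) : ∀ k : ℕ, TorZero A (n + 1) (Fin k → M) Y
  | 0 => by
    haveI : Subsingleton (Fin 0 → M) := inferInstance
    haveI : Module.Flat A (Fin 0 → M) := inferInstance
    exact torZero_succ_of_flat_left Y (Fin 0 → M) n
  | k + 1 =>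
    torZero_of_equiv Y (Fin.consLinearEquiv A (fun _ : Fin (k + 1) => M)) (n + 1)
      (torZero_prod Y (n + 1) h (torZero_pi_fin n h k))

theorem torZero_finsupp {M : Type u} [AddCommGroup M] [Module A M] (n : ℕ)
    (h : TorZero A (n + 1) M Y) (ι : Type) [Finite ι] : TorZero A (n + 1) (ι →₀ M) Y := by
  obtain ⟨k, ⟨e⟩⟩ := Finite.exists_equiv_fin ι
  have h1 := torZero_pi_fin Y n h k
  have e1 : (Fin k → M) ≃ₗ[A] (ι → M) := LinearEquiv.funCongrLeft A M e
  have e2 : (ι →₀ M) ≃ₗ[A] (ι → M) := Finsupp.linearEquivFunOnFinite A M ι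
  exact torZero_of_equiv Y (e1.trans e2.symm) (n + 1) h1

end Groth.Agent.Lib.TorPowKoszulH6

namespace Groth.Agent.Lib.TorPowKoszulH6

open Groth.Agent.TorLES

variable {A : Type u} [CommRing A] (Y : Type u) [AddCommGroup Y] [Module A Y] (J : Ideal A)

/-- the subquotient `J^n / J^m` -/
abbrev Gr (n m : ℕ) : Type u :=
  ↥(J ^ n) ⧸ Submodule.comap (J ^ n).subtype (J ^ m)

/-- `J^n/J^(n+1) → A/J^(n+1)` -/
noncomputable def grToQuot (n : ℕ) : Gr J n (n + 1) →ₗ[A] A ⧸ J ^ (n + 1) :=
  Submodule.mapQ _ (J ^ (n + 1)) (J ^ n).subtype le_rfl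

/-- `A/J^(n+1) → A/J^n` -/
noncomputable def quotToQuot (n : ℕ) : (A ⧸ J ^ (n + 1)) →ₗ[A] A ⧸ J ^ n :=
  Submodule.mapQ (J ^ (n + 1)) (J ^ n) LinearMap.id (Ideal.pow_le_pow_right (Nat.le_succ n))

theorem grToQuot_injective (n : ℕ) : Function.Injective (grToQuot J n) := by
  rw [injective_iff_map_eq_zero]
  intro x hx
  obtain ⟨y, rfl⟩ := Submodule.mkQ_surjective _ x
  rw [Submodule.mkQ_apply] at hx ⊢
  rw [grToQuot, Submodule.mapQ_apply, Submodule.Quotient.mk_eq_zero] at hx
  rw [Submodule.Quotient.mk_eq_zero]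
  exact hx

theorem quotToQuot_surjective (n : ℕ) : Function.Surjective (quotToQuot J n) := by
  intro x
  obtain ⟨y, rfl⟩ := Submodule.mkQ_surjective _ x
  exact ⟨Submodule.Quotient.mk y, rfl⟩

theorem exact_grToQuot_quotToQuot (n : ℕ) :
    Function.Exact (grToQuot J n) (quotToQuot J n) := by
  intro x
  constructor
  · intro hx
    obtain ⟨y, rfl⟩ := Submodule.mkQ_surjective _ x
    rw [Submodule.mkQ_apply, quotToQuot, Submodule.mapQ_apply, Submodule.Quotient.mk_eq_zero]
      at hx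
    exact ⟨Submodule.Quotient.mk ⟨y, hx⟩, rfl⟩
  · rintro ⟨z, rfl⟩
    obtain ⟨y, rfl⟩ := Submodule.mkQ_surjective _ z
    rw [Submodule.mkQ_apply, grToQuot, Submodule.mapQ_apply, quotToQuot, Submodule.mapQ_apply,
      Submodule.Quotient.mk_eq_zero]
    exact y.2

/-- if all graded pieces have vanishing positive `Tor`, so do all `A/J^n`. -/
theorem torZero_quot_pow (hgr : ∀ m i, TorZero A (i + 1) (Gr J m (m + 1)) Y) :
    ∀ n i, TorZero A (i + 1) (A ⧸ J ^ n) Y
  | 0, i => by
    haveI : Subsingleton (A ⧸ J ^ 0) := by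
      rw [pow_zero, Ideal.one_eq_top]
      exact Ideal.Quotient.subsingleton_iff.mpr rfl
    haveI : Module.Flat A (A ⧸ J ^ 0) := inferInstance
    exact torZero_succ_of_flat_left Y _ i
  | n + 1, i =>
    torZero_mid (grToQuot J n) (quotToQuot J n) Y (grToQuot_injective J n)
      (exact_grToQuot_quotToQuot J n) (quotToQuot_surjective J n) (i + 1) (hgr n i)
      (torZero_quot_pow hgr n i)

/-- if all graded pieces have vanishing positive `Tor`, so do all `J^n`. -/
theorem torZero_pow (hgr : ∀ m i, TorZero A (i + 1) (Gr J m (m + 1)) Y) (n i : ℕ) :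
    TorZero A (i + 1) ↥(J ^ n) Y := by
  refine torZero_left (J ^ n).subtype (Submodule.mkQ (J ^ n)) Y (J ^ n).injective_subtype ?_
    (Submodule.mkQ_surjective _) (i + 1) (torZero_quot_pow Y J hgr n (i + 1))
    (torZero_succ_of_flat_left Y A i)
  intro x
  rw [Submodule.mkQ_apply, Submodule.Quotient.mk_eq_zero]
  constructor
  · intro hx
    exact ⟨⟨x, hx⟩, rfl⟩
  · rintro ⟨y, rfl⟩
    exact y.2

end Groth.Agent.Lib.TorPowKoszulH6
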