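import Mathlib
import Groth.Agent.Lib.QuasiReg_helper5
import Groth.Agent.Lib.FlatExt_helper8
import Groth.Agent.Lib.Flat23_helper8
import Groth.Agent.Lib.FlatDepth3_helper3

/-!
# Powers of an ideal generated by a transversally regular sequence are flat over the base (helper3)
APPEND-ONLY once landed.
-/

set_option autoImplicit false
universe u
open MvPolynomial

namespace Groth.Agent.Lib.TransRegFlatH3

section general

variable {A B : Type u} [CommRing A] [CommRing B] [Algebra A B]

/-- transfer of flatness to `RestrictScalars` -/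
theorem flat_restrictScalars (M : Type u) [AddCommGroup M] [Module B M] [Module A M]
    [IsScalarTower A B M] [Module.Flat A M] : Module.Flat A (RestrictScalars A B M) := by
  let e : M ≃ₗ[A] RestrictScalars A B M :=
    { (RestrictScalars.addEquiv A B M).symm with
      map_smul' := fun a x => by
        apply (RestrictScalars.addEquiv A B M).injective
        simp only [AddEquiv.toFun_eq_coe, AddEquiv.apply_symm_apply, RingHom.id_apply]
        rw [RestrictScalars.addEquiv_map_smul, AddEquiv.apply_symm_apply, algebraMap_smul] }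
  exact Module.Flat.of_linearEquiv e.symm

/-- the subquotient `I^n / I^m` -/
abbrev Gr (I : Ideal B) (n m : ℕ) : Type u :=
  ↥(I ^ n) ⧸ Submodule.comap (I ^ n).subtype (I ^ m)

variable (I : Ideal B)

/-- `I^m/I^(m+1) → I^n/I^(m+1)` for `n ≤ m` -/
noncomputable def grIncl {n m : ℕ} (h : n ≤ m) : Gr I m (m + 1) →ₗ[B] Gr I n (m + 1) :=
  Submodule.mapQ _ _ (Submodule.inclusion (Ideal.pow_le_pow_right h)) (fun _ hx => hx)

/-- `I^n/I^(m+1) → I^n/I^m` -/
noncomputable def grProj (n m : ℕ) : Gr I n (m + 1) →ₗ[B] Gr I n m :=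
  Submodule.mapQ _ _ LinearMap.id
    (fun _ hx => Ideal.pow_le_pow_right (Nat.le_succ m) hx)

theorem grIncl_injective {n m : ℕ} (h : n ≤ m) : Function.Injective (grIncl I h) := by
  rw [injective_iff_map_eq_zero]
  intro x hx
  obtain ⟨y, rfl⟩ := Submodule.mkQ_surjective _ x
  rw [Submodule.mkQ_apply] at hx ⊢
  rw [grIncl, Submodule.mapQ_apply, Submodule.Quotient.mk_eq_zero] at hx
  rw [Submodule.Quotient.mk_eq_zero]
  exact hx

theorem grProj_surjective (n m : ℕ) : Function.Surjective (grProj I n m) := by
  intro x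
  obtain ⟨y, rfl⟩ := Submodule.mkQ_surjective _ x
  exact ⟨Submodule.Quotient.mk y, rfl⟩

theorem gr_exact {n m : ℕ} (h : n ≤ m) : Function.Exact (grIncl I h) (grProj I n m) := by
  intro x
  constructor
  · intro hx
    obtain ⟨y, rfl⟩ := Submodule.mkQ_surjective _ x
    rw [Submodule.mkQ_apply, grProj, Submodule.mapQ_apply, Submodule.Quotient.mk_eq_zero] at hx
    have hy : (y : B) ∈ I ^ m := hx
    refine ⟨Submodule.Quotient.mk ⟨y, hy⟩, ?_⟩
    rw [grIncl, Submodule.mapQ_apply]
    rfl
  · rintro ⟨y, rfl⟩
    obtain ⟨z, rfl⟩ := Submodule.mkQ_surjective _ y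
    rw [Submodule.mkQ_apply, grIncl, Submodule.mapQ_apply, grProj, Submodule.mapQ_apply,
      Submodule.Quotient.mk_eq_zero]
    exact z.2

/-- if all graded pieces are flat, so are all `I^n/I^m` with `n < m` -/
theorem flat_gr_of_graded (hgr : ∀ m, Module.Flat A (Gr I m (m + 1))) (n k : ℕ) :
    Module.Flat A (Gr I n (n + k + 1)) := by
  induction k with
  | zero => exact hgr n
  | succ k ih =>
    haveI := ih
    haveI := hgr (n + k + 1)
    have hle : n ≤ n + k + 1 := by omega
    exact FlatExtH8.flat_of_exact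
      ((grIncl I hle).restrictScalars A)
      ((grProj I n (n + k + 1)).restrictScalars A)
      (grIncl_injective I hle) (grProj_surjective I _ _) (gr_exact I hle)

/-- `I^n` is flat if `B` and `I^0/I^n` are -/
theorem flat_pow_of_gr [Module.Flat A B] (n : ℕ) (h : Module.Flat A (Gr I 0 n)) :
    Module.Flat A ↥(I ^ n) := by
  have h0 : I ^ 0 = ⊤ := by rw [pow_zero, Ideal.one_eq_top]
  haveI : Module.Flat A ↥(I ^ 0) := by
    rw [h0]
    exact Module.Flat.of_linearEquiv
      ((Submodule.topEquiv (R := B) (M := B)).restrictScalars A)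
  have hle : I ^ n ≤ I ^ 0 := Ideal.pow_le_pow_right (Nat.zero_le n)
  have hex : Function.Exact (Submodule.inclusion hle)
      (Submodule.comap (I ^ 0).subtype (I ^ n)).mkQ := by
    rw [LinearMap.exact_iff, Submodule.ker_mkQ, Submodule.range_inclusion]
  exact (Flat23H8.flat_iff_of_exact_of_flat ((Submodule.inclusion hle).restrictScalars A)
    ((Submodule.comap (I ^ 0).subtype (I ^ n)).mkQ.restrictScalars A)
    (Submodule.inclusion_injective hle) (Submodule.mkQ_surjective _) hex).1 inferInstance

end general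

section graded

variable {A B : Type u} [CommRing A] [CommRing B] [Algebra A B] {c : ℕ} (f : Fin c → B)

/-- exponent vectors of degree `m` -/
abbrev Mon (c m : ℕ) : Type := {d : Fin c →₀ ℕ // d.degree = m}

/-- the monomial `f^d` as an element of `J^m` -/
noncomputable def mon (m : ℕ) (d : Mon c m) : ↥(Ideal.span (Set.range f) ^ m) :=
  ⟨d.1.prod fun i e => f i ^ e, by
    have := Groth.Agent.QuasiReg.prod_pow_mem f d.1
    rwa [d.2] at this⟩

/-- the polynomial attached to a coefficient vector -/
noncomputable def pol (m : ℕ) (b : Mon c m →₀ B) : MvPolynomial (Fin c) B :=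
  b.sum fun d r => monomial d.1 r

theorem pol_isHomogeneous (m : ℕ) (b : Mon c m →₀ B) : (pol m b).IsHomogeneous m := by
  unfold pol Finsupp.sum
  refine MvPolynomial.IsHomogeneous.sum _ _ _ fun d _ => ?_
  exact MvPolynomial.isHomogeneous_monomial (b d) d.2

theorem eval_pol (m : ℕ) (b : Mon c m →₀ B) :
    eval f (pol m b) = ((Finsupp.linearCombination B (mon f m) b : _) : B) := by
  unfold pol
  rw [Finsupp.linearCombination_apply, Finsupp.sum, Finsupp.sum, map_sum, Submodule.coe_sum]
  refine Finset.sum_congr rfl fun d _ => ?_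
  rw [eval_monomial, Submodule.coe_smul, smul_eq_mul]
  rfl

theorem coeff_pol (m : ℕ) (b : Mon c m →₀ B) (d : Mon c m) : coeff d.1 (pol m b) = b d := by
  classical
  unfold pol
  rw [Finsupp.sum, coeff_sum]
  simp only [coeff_monomial]
  rw [Finset.sum_eq_single d]
  · rw [if_pos rfl]
  · intro e _ hed
    rw [if_neg]
    intro h
    exact hed (Subtype.ext h)
  · intro hd
    rw [if_pos rfl]
    exact Finsupp.notMem_support_iff.1 hd

theorem coeff_pol_of_ne (m : ℕ) (b : Mon c m →₀ B) (e : Fin c →₀ ℕ) (he : e.degree ≠ m) :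
    coeff e (pol m b) = 0 := by
  classical
  unfold pol
  rw [Finsupp.sum, coeff_sum]
  refine Finset.sum_eq_zero fun d _ => ?_
  rw [coeff_monomial, if_neg]
  intro h
  exact he (h ▸ d.2)

/-- the canonical map from coefficient vectors to the graded piece -/
noncomputable def Psi (m : ℕ) :
    (Mon c m →₀ B) →ₗ[B] Gr (Ideal.span (Set.range f)) m (m + 1) :=
  (Submodule.comap (Ideal.span (Set.range f) ^ m).subtype
    (Ideal.span (Set.range f) ^ (m + 1))).mkQ ∘ₗ Finsupp.linearCombination B (mon f m)

theorem Psi_surjective (m : ℕ) : Function.Surjective (Psi f m) := by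
  classical
  intro x
  obtain ⟨⟨y, hy⟩, rfl⟩ := Submodule.mkQ_surjective _ x
  obtain ⟨P, hP, hPy⟩ := (Ideal.mem_span_pow_iff_exists_isHomogeneous f y).1 hy
  let b : Mon c m →₀ B := Finsupp.onFinset (P.support.subtype fun d => d.degree = m)
    (fun d => coeff d.1 P) (by
      intro d hd
      rw [Finset.mem_subtype]
      exact mem_support_iff.2 hd)
  have hb : pol m b = P := by
    ext e
    by_cases he : e.degree = m
    · have := coeff_pol m b ⟨e, he⟩
      rw [this]
      rfl
    · rw [coeff_pol_of_ne m b e he, hP.coeff_eq_zero he]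
  refine ⟨b, ?_⟩
  unfold Psi
  rw [LinearMap.comp_apply]
  congr 1
  apply Subtype.ext
  rw [← eval_pol, hb, hPy]

theorem mem_ker_Psi_iff (hqr : CAlgX.IsQuasiRegular f) (m : ℕ) (b : Mon c m →₀ B) :
    b ∈ LinearMap.ker (Psi f m) ↔ ∀ d, b d ∈ Ideal.span (Set.range f) := by
  rw [LinearMap.mem_ker]
  unfold Psi
  rw [LinearMap.comp_apply, Submodule.mkQ_apply, Submodule.Quotient.mk_eq_zero,
    Submodule.mem_comap, Submodule.subtype_apply, ← eval_pol]
  constructor
  · intro h d
    have := hqr m (pol m b) (pol_isHomogeneous m b) h d.1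
    rwa [coeff_pol] at this
  · intro h
    have := Groth.Agent.QuasiReg.eval_mem_mul_pow f (Ideal.span (Set.range f)) (pol m b)
      (pol_isHomogeneous m b) (fun e => by
        by_cases he : e.degree = m
        · have := coeff_pol m b ⟨e, he⟩
          rw [this]
          exact h _
        · rw [coeff_pol_of_ne m b e he]
          exact Submodule.zero_mem _)
    rwa [← pow_succ'] at this

/-- reduction of coefficient vectors modulo `J` -/
noncomputable def red (m : ℕ) :
    (Mon c m →₀ B) →ₗ[B] (Mon c m →₀ (B ⧸ Ideal.span (Set.range f))) :=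
  Finsupp.mapRange.linearMap (Submodule.mkQ (Ideal.span (Set.range f)))

theorem red_surjective (m : ℕ) : Function.Surjective (red f m) :=
  Finsupp.mapRange_surjective _ (map_zero _) (Submodule.mkQ_surjective _)

theorem mem_ker_red_iff (m : ℕ) (b : Mon c m →₀ B) :
    b ∈ LinearMap.ker (red f m) ↔ ∀ d, b d ∈ Ideal.span (Set.range f) := by
  rw [LinearMap.mem_ker]
  unfold red
  rw [Finsupp.ext_iff]
  refine forall_congr' fun d => ?_
  rw [Finsupp.mapRange.linearMap_apply, Finsupp.mapRange_apply, Finsupp.zero_apply,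
    Submodule.mkQ_apply, Submodule.Quotient.mk_eq_zero]

/-- the graded piece is free over `B/J` on the monomials -/
noncomputable def grEquiv (hqr : CAlgX.IsQuasiRegular f) (m : ℕ) :
    Gr (Ideal.span (Set.range f)) m (m + 1) ≃ₗ[B]
      (Mon c m →₀ (B ⧸ Ideal.span (Set.range f))) :=
  ((LinearMap.quotKerEquivOfSurjective (Psi f m) (Psi_surjective f m)).symm.trans
    (Submodule.quotEquivOfEq _ _ (by
      ext b
      rw [mem_ker_Psi_iff f hqr, mem_ker_red_iff]))).trans
    (LinearMap.quotKerEquivOfSurjective (red f m) (red_surjective f m))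

theorem flat_graded (hqr : CAlgX.IsQuasiRegular f)
    [Module.Flat A (B ⧸ Ideal.span (Set.range f))] (m : ℕ) :
    Module.Flat A (Gr (Ideal.span (Set.range f)) m (m + 1)) := by
  classical
  haveI : Module.Flat A (Mon c m →₀ (B ⧸ Ideal.span (Set.range f))) :=
    Module.Flat.of_linearEquiv (finsuppLequivDFinsupp A)
  exact Module.Flat.of_linearEquiv ((grEquiv f hqr m).restrictScalars A)

end graded

section main

variable {A B : Type u} [CommRing A] [CommRing B] [Algebra A B]

theorem main (rs : List B) (hreg : RingTheory.Sequence.IsWeaklyRegular B rs)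
    (hflat : ∀ j : ℕ, j ≤ rs.length → Module.Flat A (B ⧸ Ideal.ofList (rs.take j)))
    (n m : ℕ) (hnm : n < m) :
    Module.Flat A (RestrictScalars A B
      (↥(Ideal.ofList rs ^ n) ⧸ (Submodule.comap (Ideal.ofList rs ^ n).subtype
        (Ideal.ofList rs ^ m)))) ∧
      ∀ (q : Ideal B) [q.IsPrime], Ideal.ofList rs ≤ q →
        Module.Flat A (RestrictScalars A B
          (LocalizedModule q.primeCompl ↥(Ideal.ofList rs ^ n))) := by
  have hJ : Ideal.ofList rs = Ideal.span (Set.range rs.get) := by
    rw [Set.range_list_get]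
  have hqr : CAlgX.IsQuasiRegular rs.get :=
    Groth.Agent.QuasiReg.isQuasiRegular_of_isWeaklyRegular rs.get (by rwa [List.ofFn_get])
  haveI hBJ : Module.Flat A (B ⧸ Ideal.span (Set.range rs.get)) := by
    have := hflat rs.length le_rfl
    rwa [List.take_length, hJ] at this
  haveI hB : Module.Flat A B := by
    have := hflat 0 (Nat.zero_le _)
    have h0 : Ideal.ofList (rs.take 0) = ⊥ := by
      rw [List.take_zero]
      exact Ideal.ofList_nil
    rw [h0] at this
    exact Module.Flat.of_linearEquiv (AlgEquiv.quotientBot A B).symm.toLinearEquiv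
  rw [hJ]
  have hgr := flat_graded (A := A) rs.get hqr
  have hall : ∀ n k, Module.Flat A (Gr (Ideal.span (Set.range rs.get)) n (n + k + 1)) :=
    flat_gr_of_graded _ hgr
  have hgen : ∀ n m, n < m → Module.Flat A (Gr (Ideal.span (Set.range rs.get)) n m) := by
    intro n m h
    obtain ⟨k, rfl⟩ : ∃ k, m = n + k + 1 := ⟨m - n - 1, by omega⟩
    exact hall n k
  refine ⟨?_, ?_⟩
  · haveI := hgen n m hnm
    exact flat_restrictScalars _
  · intro q _ _
    haveI : Module.Flat A ↥(Ideal.span (Set.range rs.get) ^ n) := by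
      rcases Nat.eq_zero_or_pos n with h0 | hpos
      · subst h0
        have h0 : Ideal.span (Set.range rs.get) ^ 0 = ⊤ := by rw [pow_zero, Ideal.one_eq_top]
        rw [h0]
        exact Module.Flat.of_linearEquiv
          ((Submodule.topEquiv (R := B) (M := B)).restrictScalars A)
      · exact flat_pow_of_gr _ n (hgen 0 n hpos)
    haveI := Groth.Agent.Lib.FlatDepth3H3.flat_localizedModule (A := A) q.primeCompl
      ↥(Ideal.span (Set.range rs.get) ^ n)
    exact flat_restrictScalars _

end main

end Groth.Agent.Lib.TransRegFlatH3
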