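import Mathlib
import Groth.Prelude.Def_LCI2
import Groth.Agent.Lib.TorPowKoszul1_helper6
import Groth.Agent.Lib.TorPowKoszul2_helper6
import Groth.Agent.Lib.TransRegFlat_helper3
import Groth.Agent.Lib.KoszulLow_helper2
import Groth.Agent.Lib.H1QReg_helper1

/-!
# `Tor_i^A(J^n, A') = 0 = Tor_i^A(J^n/J^{n+1}, A')` for `J` generated by a sequence Koszul-regular
in `A` and in `A'` (helper6).
-/

set_option autoImplicit false
universe u
open CategoryTheory CategoryTheory.Limits

namespace Groth.Agent.Lib.TorPowKoszulH6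

open Groth.Agent.TorLES

instance finite_mon (c m : ℕ) : Finite (Groth.Agent.Lib.TransRegFlatH3.Mon c m) := by
  have hfin : Set.Finite {d : Fin c →₀ ℕ | d.degree = m} := by
    refine Set.Finite.subset (Finset.finsuppAntidiag (Finset.univ : Finset (Fin c)) m).finite_toSet ?_
    intro d hd
    simp only [Finset.mem_coe, Finset.mem_finsuppAntidiag, Finset.subset_univ, and_true]
    rw [← Finsupp.degree_eq_sum]
    exact hd
  exact hfin.to_subtype

variable {A : Type u} [CommRing A] {A' : Type u} [CommRing A'] [Algebra A A']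

theorem main3196 (fs : List A) (hfs : LCI.IsKoszulRegularSeq A fs)
    (hfs' : LCI.IsKoszulRegularSeq A' (fs.map (algebraMap A A'))) (n i : ℕ) (hi : 1 ≤ i) :
    IsZero (((Tor (ModuleCat.{u} A) i).obj
      (ModuleCat.of A ↥(Ideal.span {x | x ∈ fs} ^ n))).obj (ModuleCat.of A A')) ∧
    IsZero (((Tor (ModuleCat.{u} A) i).obj (ModuleCat.of A
      (↥(Ideal.span {x | x ∈ fs} ^ n) ⧸ Submodule.comap (Ideal.span {x | x ∈ fs} ^ n).subtype
        (Ideal.span {x | x ∈ fs} ^ (n + 1))))).obj (ModuleCat.of A A')) := by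
  obtain ⟨j, rfl⟩ : ∃ j, i = j + 1 := ⟨i - 1, by omega⟩
  have hJ : Ideal.span (Set.range fs.get) = Ideal.span {x | x ∈ fs} := by
    rw [Set.range_list_get]
  have hqr : CAlgX.IsQuasiRegular fs.get :=
    Groth.Agent.Lib.H1QRegH1.main2103 _ (Groth.Agent.Lib.KoszulLow.h1_of_koszulRegular fs hfs)
  have hquot : ∀ k, TorZero A (k + 1) (A ⧸ Ideal.span (Set.range fs.get)) A' := by
    intro k
    rw [hJ]
    exact isZero_tor_quot fs hfs hfs' k
  have hgr : ∀ m k, TorZero A (k + 1) (Gr (Ideal.span (Set.range fs.get)) m (m + 1)) A' := by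
    intro m k
    have h1 := torZero_finsupp A' k (hquot k) (Groth.Agent.Lib.TransRegFlatH3.Mon fs.length m)
    exact torZero_of_equiv A' (Groth.Agent.Lib.TransRegFlatH3.grEquiv fs.get hqr m).symm (k + 1) h1
  rw [← hJ]
  exact ⟨torZero_pow A' _ hgr n j, hgr n j⟩

end Groth.Agent.Lib.TorPowKoszulH6
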