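import Mathlib
import Groth.Agent.Lib.TorBridge_helper9
import Groth.Agent.Lib.LocalCrit2_helper9

/-!
# Flatness over a Noetherian ring is detected by `Tor₁(M, A/p)` for primes `p`
-/

namespace Groth.Agent.Lib.TorPrimeH4

open TensorProduct CategoryTheory CategoryTheory.Limits

universe u

theorem flat_of_prime_aux {A : Type u} [CommRing A] [IsNoetherianRing A] {M K F : Type u}
    [AddCommGroup M] [Module A M] [AddCommGroup K] [Module A K] [AddCommGroup F] [Module A F]
    [Module.Flat A F] (f : K →ₗ[A] F) (π : F →ₗ[A] M) (hf : Function.Injective f)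
    (hfπ : Function.Exact f π) (hπ : Function.Surjective π)
    (h : ∀ p : Ideal A, p.IsPrime → Function.Injective (p.subtype.lTensor M)) :
    Module.Flat A M := by
  have hprime : ∀ p : Ideal A, p.IsPrime → Function.Injective (f.lTensor (A ⧸ p)) := by
    intro p hp
    have h1 := h p hp
    have h2 := (Groth.Agent.Lib.TorBridge.lTensor_injective_iff_rTensor_injective p.subtype
      p.mkQ (Submodule.injective_subtype p) (LinearMap.exact_subtype_mkQ p)
      (Submodule.mkQ_surjective p) f π hf hfπ hπ).mp h1
    rw [LinearMap.lTensor_inj_iff_rTensor_inj]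
    exact h2
  have hall : ∀ (N : Type u) [AddCommGroup N] [Module A N] [Module.Finite A N],
      Function.Injective (f.lTensor N) := by
    intro N _ _ hN
    induction hN using IsNoetherianRing.induction_on_isQuotientEquivQuotientPrime A with
    | subsingleton N =>
      intro x y _
      have h0 : ∀ z : N ⊗[A] K, z = 0 := by
        intro z
        induction z using TensorProduct.induction_on with
        | zero => rfl
        | tmul n k => rw [Subsingleton.elim n 0, TensorProduct.zero_tmul]
        | add a b ha hb => rw [ha, hb, add_zero]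
      rw [h0 x, h0 y]
    | quotient N p e =>
      rw [injective_iff_map_eq_zero]
      intro x hx
      have h1 := Groth.Agent.Lib.LocalCrit2.sq K e.toLinearMap f x
      rw [hx, map_zero] at h1
      have h2 := hprime p.1 p.2 (h1.symm.trans (map_zero _).symm)
      have h3 : (LinearEquiv.rTensor K e) x = 0 := h2
      exact (LinearEquiv.map_eq_zero_iff _).mp h3
    | exact N₁ N₂ N₃ i p hi hp hip h₁ h₃ =>
      exact Groth.Agent.Lib.LocalCrit2.T1_ext f i p hi hip hp h₁ h₃
  have hJ : ∀ J : Ideal A, Function.Injective (f.lTensor (A ⧸ J)) := fun J => hall (A ⧸ J)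
  exact Groth.Agent.Lib.LocalCrit2.flat_of_T1 f π hfπ hπ hJ

theorem main (A : Type u) [CommRing A] [IsNoetherianRing A] (M : Type u) [AddCommGroup M]
    [Module A M] :
    Module.Flat A M ↔ ∀ p : Ideal A, p.IsPrime →
      Limits.IsZero (((CategoryTheory.Tor (ModuleCat.{u} A) 1).obj (ModuleCat.of A M)).obj
        (ModuleCat.of A (A ⧸ p))) := by
  have hbr : ∀ p : Ideal A,
      IsZero (((Tor (ModuleCat.{u} A) 1).obj (ModuleCat.of A M)).obj (ModuleCat.of A (A ⧸ p))) ↔
        Function.Injective (p.subtype.lTensor M) := fun p =>
    Groth.Agent.Lib.TorBridge.isZero_tor_one_iff M (A ⧸ p) p.subtype p.mkQ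
      (Submodule.injective_subtype p) (LinearMap.exact_subtype_mkQ p) (Submodule.mkQ_surjective p)
  constructor
  · intro hflat p _
    rw [hbr]
    exact Module.Flat.lTensor_preserves_injective_linearMap _ (Submodule.injective_subtype p)
  · intro h
    have hπ : Function.Surjective (Finsupp.linearCombination A (id : M → M)) :=
      Finsupp.linearCombination_id_surjective A M
    exact flat_of_prime_aux (K := LinearMap.ker (Finsupp.linearCombination A (id : M → M)))
      (F := M →₀ A) (LinearMap.ker (Finsupp.linearCombination A (id : M → M))).subtype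
      (Finsupp.linearCombination A (id : M → M))
      (Submodule.injective_subtype _) (LinearMap.exact_subtype_ker_map _) hπ
      (fun p hp => (hbr p).mp (h p hp))

end Groth.Agent.Lib.TorPrimeH4
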