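import Mathlib
import Groth.Prelude
import Groth.Agent.Lib.TorPush4_helper3
import Groth.Agent.Lib.RelPCProp2_helper3

/-!
# Proper direct images of relatively perfect complexes over a (locally) Noetherian base (helper3)

* `main6223`, `main6224`.
-/

set_option autoImplicit false
set_option linter.all false
set_option maxHeartbeats 1600000
set_option backward.isDefEq.respectTransparency false
set_option backward.isDefEq.respectTransparency.types false
set_option backward.defeqAttrib.useBackward true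

universe u
open CategoryTheory CategoryTheory.Limits AlgebraicGeometry Opposite TopologicalSpace
open CategoryTheory.Pretriangulated

attribute [local instance] HasDerivedCategory.standard

namespace Groth.Agent.Lib.TorPushH3

open DRing DerSch Groth.Agent.Lib.DMod_helper6 DerivedCategory
  Groth.Agent.Lib.DCohLocLead Groth.Agent.Lib.BCOpenL

noncomputable section

variable {X Y S : Scheme.{u}}

/-- **S6223** -/
theorem main6223 [IsLocallyNoetherian S]
    (p : X ⟶ S) (q : Y ⟶ S) [LocallyOfFiniteType p] [LocallyOfFiniteType q] (f : X ⟶ Y)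
    [IsProper f] (w : f ≫ q = p) [DCoh.HasRpush f] (F : CochainComplex X.Modules ℤ) (a : ℤ)
    [(DCoh.toD X F).IsGE a] (hF : DerSch.IsPerfectRel p F) :
    ∀ F' : CochainComplex Y.Modules ℤ,
      Nonempty (DCoh.toD Y F' ≅ (DCoh.Rpush f).obj (DCoh.toD X F)) →
        DerSch.IsPerfectRel q F' := by
  rintro F' ⟨e⟩
  have h1 := Groth.Agent.Lib.RelPCPropH3.main6220 p q f w (DCoh.toD X F) a hF.1
  have hqc : DCoh.IsQCohD (DCoh.toD X F) := Groth.Agent.Lib.RelPCQcH3.main6235 p _ hF.1
  have h2 := main6198 p q f w F hqc hF.2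
  exact ⟨fun m => Groth.Agent.Lib.RelPCbH3.relPC_of_iso q e.symm m (h1 m), h2 F' ⟨e⟩⟩

/-- **S6224** -/
theorem main6224 [IsNoetherian S]
    (p : X ⟶ S) (q : Y ⟶ S) [LocallyOfFiniteType p] [QuasiCompact p] [LocallyOfFiniteType q]
    [QuasiCompact q] (f : X ⟶ Y) [IsProper f] (w : f ≫ q = p) [DCoh.HasRpush f] (N : ℕ)
    (hN : ∀ M : X.Modules, Coh.IsQCoh M → ∀ i : ℤ, (N : ℤ) < i →
      IsZero (DCoh.HD ((DCoh.Rpush f).obj (DCoh.inD X M)) i))
    (F : CochainComplex X.Modules ℤ) (c d : ℤ) [(DCoh.toD X F).IsGE c] [(DCoh.toD X F).IsLE d]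
    (a b : ℤ) (hF : DerSch.HasPerfAmplitudeRel p a b F) :
    ∀ F' : CochainComplex Y.Modules ℤ,
      Nonempty (DCoh.toD Y F' ≅ (DCoh.Rpush f).obj (DCoh.toD X F)) →
        DerSch.HasPerfAmplitudeRel q a (b + N) F' := by
  rintro F' ⟨e⟩
  have h1 := (Groth.Agent.Lib.RelPCPropH3.main6222 p q f w (DCoh.toD X F) c d hF.1).2.2
  have hqc : DCoh.IsQCohD (DCoh.toD X F) := Groth.Agent.Lib.RelPCQcH3.main6235 p _ hF.1
  have h2 := main6192 p q f w N hN F hqc a b hF.2
  exact ⟨fun m => Groth.Agent.Lib.RelPCbH3.relPC_of_iso q e.symm m (h1 m), h2 F' ⟨e⟩⟩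

end

end Groth.Agent.Lib.TorPushH3
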