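import Mathlib
import Groth.Prelude
import Groth.Agent.Lib.TorPush3_helper3
import Groth.Agent.Lib.RelFlatAmp1_helper3
import Groth.Agent.Lib.TorAmpId_lead
import Groth.Agent.Lib.DTorCmp_helper2
import Groth.Agent.Lib.DSect6_lead

/-!
# Tor amplitude of `Rf_*` from relative flat amplitude (helper3)

`main5630`: for `f` quasi-compact and quasi-separated with `R^i f_* = 0` for `i > N` on
quasi-coherent modules, `E` with quasi-coherent cohomology and flat amplitude in `[a, b]` relative
to `f`: `Rf_* E` has tor amplitude in `[a, b + N]`.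
-/

set_option autoImplicit false
set_option linter.all false
set_option maxHeartbeats 1600000
set_option backward.isDefEq.respectTransparency false
set_option backward.isDefEq.respectTransparency.types false
set_option backward.defeqAttrib.useBackward true

universe u
open CategoryTheory CategoryTheory.Limits AlgebraicGeometry Opposite

attribute [local instance] HasDerivedCategory.standard

namespace Groth.Agent.Lib.TorPushH3

open DerSch DerivedCategory

noncomputable section

variable {X Y : Scheme.{u}}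

/-- **S5630** -/
theorem main5630 (f : X ⟶ Y) [QuasiCompact f] [QuasiSeparated f] [DCoh.HasRpush f] (N : ℕ)
    (hN : ∀ (F : X.Modules), QCohCat.isQCoh X F →
      ∀ i : ℤ, (N : ℤ) < i → IsZero (DCoh.HD ((DCoh.Rpush f).obj (DCoh.inD X F)) i))
    (E : DCoh.D X) (hqc : DCoh.IsQCohD E) (a b : ℤ) (hE : DCoh.HasRelFlatAmplitudeIn f a b E) :
    DCoh.HasTorAmplitudeIn a (b + N) ((DCoh.Rpush f).obj E) := by
  let E₀ := Q.objPreimage E
  let eE : DCoh.toD X E₀ ≅ E := Q.objObjPreimageIso E
  have h1 : DCoh.HasRelFlatAmplitudeIn f a b (DCoh.toD X E₀) := by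
    obtain ⟨C, hC, hCf, ⟨e⟩⟩ := hE
    exact ⟨C, hC, hCf, ⟨e ≪≫ eE.symm⟩⟩
  have h2 := Groth.Agent.Lib.RelFlatAmpH3.hasTorAmplitude_of_relFlatAmp f E₀ a b h1
  have h3 := main6192 f (𝟙 Y) f (Category.comp_id f) N (fun M hM => hN M hM) E₀
    (Groth.Agent.Lib.DSectX.isQCohD_of_iso eE.symm hqc) a b h2
  let K := Q.objPreimage ((DCoh.Rpush f).obj (DCoh.toD X E₀))
  have eK : DCoh.toD Y K ≅ (DCoh.Rpush f).obj (DCoh.toD X E₀) := Q.objObjPreimageIso _
  have h4 : HasTorAmplitude (𝟙 Y) a (b + N) K := h3 K ⟨eK⟩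
  have h5 := (Groth.Agent.Lib.TorAmpIdL.flatAmp_iff_stalkwise K a (b + N)).2 h4
  exact Groth.Agent.Lib.DTorCmp.torAmp_of_iso (eK ≪≫ (DCoh.Rpush f).mapIso eE)
    (Groth.Agent.Lib.DTorCmp.torAmp_of_flatAmp h5)

end

end Groth.Agent.Lib.TorPushH3
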