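import Mathlib
import Groth.Prelude
import Groth.Agent.Lib.TorSmooth7_helper3
import Groth.Agent.Lib.RelPCn_helper3
import Groth.Agent.Lib.PerfFlat3_lead

/-!
# Tor amplitude over a smooth algebra, part 8: relative perfection via a closed immersion into a
smooth scheme (helper3)

* `main6217`: `F` is perfect relative to `i ≫ g` iff `i_* F` is perfect on `Y`.
* `main6219`: perfect amplitude `[a, b]` relative to `i ≫ g` gives perfect amplitude `[a - d, b]` of
  `i_* F`.
-/

set_option autoImplicit false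
set_option linter.all false
set_option maxHeartbeats 1600000
set_option backward.isDefEq.respectTransparency false
set_option backward.isDefEq.respectTransparency.types false
set_option backward.defeqAttrib.useBackward true

universe u
open CategoryTheory CategoryTheory.Limits AlgebraicGeometry Opposite TopologicalSpace
attribute [local instance] HasDerivedCategory.standard

namespace Groth.Agent.Lib.TorSmoothH3

open DRing DerSch Groth.Agent.Lib.DMod_helper6 Groth.Agent.Lib.DCohLocLead DerivedCategory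

noncomputable section

variable {X Y S : Scheme.{u}}

/-- S6217 -/
theorem main6217 (i : X ⟶ Y) [IsClosedImmersion i] (g : Y ⟶ S) [Smooth g]
    (F : CochainComplex X.Modules ℤ) :
    DerSch.IsPerfectRel (i ≫ g) F ↔ DCoh.IsPerfect (DCoh.toD Y ((pushCx i).obj F)) := by
  rw [main914]
  unfold DerSch.IsPerfectRel DerSch.IsPseudoCoherentRelAll
  rw [main6197 i g F]
  constructor
  · rintro ⟨h1, h2⟩
    exact ⟨fun m => (Groth.Agent.Lib.RelPCbH3.main6201 i g m F).1 (h1 m), h2⟩
  · rintro ⟨h1, h2⟩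
    exact ⟨fun m => (Groth.Agent.Lib.RelPCbH3.main6201 i g m F).2 (h1 m), h2⟩

/-- S6219 -/
theorem main6219 (i : X ⟶ Y) [IsClosedImmersion i] (g : Y ⟶ S) [Smooth g] (d : ℕ)
    (hd : ∀ y : Y, ∃ (n : ℕ) (V : Y.Opens), n ≤ d ∧ y ∈ V ∧
      SmoothOfRelativeDimension n (V.ι ≫ g))
    (a b : ℤ) (F : CochainComplex X.Modules ℤ) (hF : DerSch.HasPerfAmplitudeRel (i ≫ g) a b F) :
    KSix.HasPerfectAmplitudeIn (a - d) b (DCoh.toD Y ((pushCx i).obj F)) := by
  obtain ⟨hpc, hta⟩ := hF
  have h1 : ∀ m : ℤ, DCoh.IsPseudoCoherentD m (DCoh.toD Y ((pushCx i).obj F)) :=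
    fun m => (Groth.Agent.Lib.RelPCbH3.main6201 i g m F).1 (hpc m)
  have h2 := main6190 i g d hd F a b hta
  by_cases hab : a - d ≤ b
  · exact (main4275 Y _ (a - d) b hab).2 ⟨h1 _, h2⟩
  · obtain ⟨E, hEv, hEf, ⟨e⟩⟩ := h2
    refine hasPerfAmp_of_iso e ?_
    rw [hasPerfAmp_iff]
    intro y
    have hz : ∀ k : ℤ, IsZero (E.X k) := fun k => hEv k (by omega)
    refine ⟨⊤, trivial, (Groth.Agent.Lib.DCohLocLead.RC (⊤ : Y.Opens).ι).obj E, ⟨?_, ?_⟩, ⟨facIso _ E⟩⟩
    · intro k _
      exact (Scheme.Modules.restrictFunctor (⊤ : Y.Opens).ι).map_isZero (hz k)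
    · intro k
      exact isFinLocFree_of_isZero
        ((Scheme.Modules.restrictFunctor (⊤ : Y.Opens).ι).map_isZero (hz k))

end

end Groth.Agent.Lib.TorSmoothH3
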