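import Mathlib
import Groth.Agent.Lib.TorUnif1_helper6

/-!
# Uniform vanishing of the transition maps `Tor_i(M, R/I^a) → Tor_i(M, R/I^b)` (helper6), part 2

Modules killed by `I^m`: finitely generated ones by dimension shifting over `R/I^m`, arbitrary ones
by passing to finitely generated submodules.
-/

set_option autoImplicit false
universe u
open CategoryTheory CategoryTheory.Limits MonoidalCategory TensorProduct

namespace Groth.Agent.Lib.TorUnifH6

open Groth.Agent.TorLES Groth.Agent.TorNat Groth.Agent.TorAR Groth.Agent.HomologyColim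

variable {R : Type u} [CommRing R]

/-- every element of `Tor_n(M, Y)` comes from a finitely generated submodule of `M`. -/
lemma exists_fg_lift (M : Type u) [AddCommGroup M] [Module R M] (Y : ModuleCat.{u} R) (n : ℕ)
    (x : ((Tor (ModuleCat.{u} R) n).obj (ModuleCat.of R M)).obj Y) :
    ∃ (M' : Submodule R M), Module.Finite R M' ∧
      ∃ x' : ((Tor (ModuleCat.{u} R) n).obj (ModuleCat.of R M')).obj Y,
        ((Tor (ModuleCat.{u} R) n).map (ModuleCat.ofHom M'.subtype)).app Y x' = x := by
  obtain ⟨z, hz⟩ := exists_homologyπ_eq (CX (ModuleCat.of R M) (ProjectiveResolution.of Y).complex)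
    n ((torIsoH (ModuleCat.of R M) Y n).hom x)
  obtain ⟨w, hw⟩ : ∃ w : M ⊗[R] ((ProjectiveResolution.of Y).complex.X n),
      w = (CX (ModuleCat.of R M) (ProjectiveResolution.of Y).complex).iCycles n z := ⟨_, rfl⟩
  obtain ⟨M', hM', hsub⟩ := TensorProduct.exists_finite_submodule_left_of_setFinite {w}
    (Set.finite_singleton w)
  obtain ⟨w', hw'⟩ := hsub (Set.mem_singleton w)
  have hdw' : (CX (ModuleCat.of R M') (ProjectiveResolution.of Y).complex).d n
      ((ComplexShape.down ℕ).next n) w' = 0 := by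
    have hflat := flat_of_projRes Y (ProjectiveResolution.of Y) ((ComplexShape.down ℕ).next n)
    have hinj : Function.Injective ((cxMap (ModuleCat.ofHom M'.subtype)
        (ProjectiveResolution.of Y).complex).f ((ComplexShape.down ℕ).next n)) := by
      change Function.Injective (ModuleCat.ofHom M'.subtype ▷
        (ProjectiveResolution.of Y).complex.X ((ComplexShape.down ℕ).next n)).hom
      rw [ModuleCat.hom_whiskerRight]
      exact Module.Flat.rTensor_preserves_injective_linearMap _ Subtype.val_injective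
    apply hinj
    rw [map_zero, f_d]
    have h1 : (cxMap (ModuleCat.ofHom M'.subtype) (ProjectiveResolution.of Y).complex).f n w' =
        w := hw'
    rw [h1, hw]
    have h2 := (CX (ModuleCat.of R M) (ProjectiveResolution.of Y).complex).iCycles_d n
      ((ComplexShape.down ℕ).next n)
    exact congrArg (fun g => g.hom z) h2
  obtain ⟨z', hz'⟩ := exists_iCycles_eq
    (CX (ModuleCat.of R M') (ProjectiveResolution.of Y).complex) n w' hdw'
  refine ⟨M', hM', (torIsoH (ModuleCat.of R M') Y n).inv
    ((CX (ModuleCat.of R M') (ProjectiveResolution.of Y).complex).homologyπ n z'), ?_⟩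
  rw [tor_map_app_eq]
  change (torIsoH (ModuleCat.of R M) Y n).inv (HomologicalComplex.homologyMap
    (cxMap (ModuleCat.ofHom M'.subtype) (ProjectiveResolution.of Y).complex) n
      ((torIsoH (ModuleCat.of R M') Y n).hom ((torIsoH (ModuleCat.of R M') Y n).inv
        ((CX (ModuleCat.of R M') (ProjectiveResolution.of Y).complex).homologyπ n z')))) = x
  rw [← ConcreteCategory.comp_apply (torIsoH (ModuleCat.of R M') Y n).inv, Iso.inv_hom_id,
    ConcreteCategory.id_apply, homologyMap_homologyπ]
  have hzz : HomologicalComplex.cyclesMap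
      (cxMap (ModuleCat.ofHom M'.subtype) (ProjectiveResolution.of Y).complex) n z' = z := by
    apply iCycles_injective
    rw [iCycles_cyclesMap, hz', ← hw]
    exact hw'
  rw [hzz, hz, ← ConcreteCategory.comp_apply, Iso.hom_inv_id, ConcreteCategory.id_apply]

section killed

variable (I : Ideal R) (m : ℕ)

/-- a finite module killed by `I^m` is a quotient of a finite free `R/I^m`-module. -/
lemma exists_cover (M : Type u) [AddCommGroup M] [Module R M] [Module.Finite R M]
    (hM : ∀ a ∈ I ^ m, ∀ x : M, a • x = 0) :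
    ∃ (k : ℕ) (f : (Fin k → R ⧸ I ^ m) →ₗ[R] M), Function.Surjective f := by
  obtain ⟨k, s, hs⟩ := Module.Finite.exists_fin (R := R) (M := M)
  have hker : ∀ j, I ^ m ≤ LinearMap.ker (LinearMap.toSpanSingleton R M (s j)) := by
    intro j a ha
    rw [LinearMap.mem_ker, LinearMap.toSpanSingleton_apply]
    exact hM a ha _
  refine ⟨k, LinearMap.lsum R (fun _ : Fin k => R ⧸ I ^ m) R
    (fun j => Submodule.liftQ (I ^ m) (LinearMap.toSpanSingleton R M (s j)) (hker j)), ?_⟩
  rw [← LinearMap.range_eq_top, eq_top_iff, ← hs, Submodule.span_le]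
  rintro _ ⟨j, rfl⟩
  refine ⟨Pi.single j (Submodule.Quotient.mk 1), ?_⟩
  rw [LinearMap.lsum_apply, LinearMap.sum_apply, Finset.sum_eq_single j]
  · simp only [LinearMap.coe_comp, Function.comp_apply, LinearMap.proj_apply, Pi.single_eq_same,
      Submodule.liftQ_apply, LinearMap.toSpanSingleton_apply, one_smul]
  · intro l _ hl
    simp [Pi.single_eq_of_ne hl]
  · intro h
    exact absurd (Finset.mem_univ j) h

lemma smul_pi_quot_eq_zero (k : ℕ) (a : R) (ha : a ∈ I ^ m) (v : Fin k → R ⧸ I ^ m) :
    a • v = 0 := by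
  funext j
  obtain ⟨r, hr⟩ := Ideal.Quotient.mk_surjective (v j)
  rw [Pi.smul_apply, Pi.zero_apply, ← hr, ← Ideal.Quotient.mk_eq_mk, ← Submodule.Quotient.mk_smul,
    Submodule.Quotient.mk_eq_zero, smul_eq_mul]
  exact Ideal.mul_mem_right _ _ ha

lemma smul_top_eq_bot_of_killed {G : Type*} [AddCommGroup G] [Module R G]
    (hG : ∀ a ∈ I ^ m, ∀ x : G, a • x = 0) (a : ℕ) (ha : m ≤ a) :
    (I ^ a • ⊤ : Submodule R G) = ⊥ := by
  rw [eq_bot_iff, Submodule.smul_le]
  intro r hr n _
  rw [Submodule.mem_bot]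
  exact hG r (Ideal.pow_le_pow_right ha hr) n

variable [IsNoetherianRing R]

/-- the uniform statement for finite modules killed by `I^m`. -/
theorem exists_ZM_fg : ∀ i : ℕ, ∃ c, ∀ (M : Type u) [AddCommGroup M] [Module R M]
    [Module.Finite R M], (∀ a ∈ I ^ m, ∀ x : M, a • x = 0) →
      ZM I (i + 1) (ModuleCat.of R M) c
  | 0 => by
    obtain ⟨c₂, hA⟩ := exists_ZM_succ I 0 (R ⧸ I ^ m)
    refine ⟨m + c₂, fun M _ _ _ hM a b h => ?_⟩
    obtain ⟨k, f, hf⟩ := exists_cover I m M hM
    have hab : b + c₂ ≤ a := by omega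
    have hG : (I ^ a • ⊤ : Submodule R (Fin k → R ⧸ I ^ m)) = ⊥ :=
      smul_top_eq_bot_of_killed I m (fun r hr v => smul_pi_quot_eq_zero I m k r hr v) a
        (by omega)
    have hAR : ∀ x : LinearMap.ker f,
        (LinearMap.ker f).subtype x ∈ (I ^ a • ⊤ : Submodule R (Fin k → R ⧸ I ^ m)) →
        x ∈ (I ^ (b + c₂) • ⊤ : Submodule R (LinearMap.ker f)) := by
      intro x hx
      rw [hG, Submodule.mem_bot] at hx
      have hx0 : x = 0 := Subtype.val_injective hx
      rw [hx0]
      exact zero_mem _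
    have h1 := torδ_zero_comp_eq_zero (LinearMap.ker f).subtype f Subtype.val_injective
      (LinearMap.exact_subtype_ker_map f) hf I a (b + c₂) hab hAR
    have h2 := (hA.pi k) (b + c₂) b le_rfl
    have h3 := tor_map_comp_eq_zero _ (mk_shortExact (LinearMap.ker f).subtype f
      Subtype.val_injective (LinearMap.exact_subtype_ker_map f) hf) 0
      (q I a (b + c₂) hab) (q I (b + c₂) b (Nat.le_add_right b c₂)) h1 h2
    rw [q_comp] at h3
    exact h3
  | i + 1 => by
    obtain ⟨c₁, hc₁⟩ := exists_ZM_fg i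
    obtain ⟨c₂, hA⟩ := exists_ZM_succ I (i + 1) (R ⧸ I ^ m)
    refine ⟨c₁ + c₂, fun M _ _ _ hM a b h => ?_⟩
    obtain ⟨k, f, hf⟩ := exists_cover I m M hM
    have hab : b + c₂ ≤ a := by omega
    have hK : ∀ r ∈ I ^ m, ∀ x : LinearMap.ker f, r • x = 0 := by
      intro r hr x
      apply Subtype.val_injective
      rw [Submodule.coe_smul, Submodule.coe_zero]
      exact smul_pi_quot_eq_zero I m k r hr _
    have hz := hc₁ (LinearMap.ker f) hK a (b + c₂) (by omega)
    have h1 : torδ (ShortComplex.moduleCatMk (LinearMap.ker f).subtype f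
          (LinearMap.exact_subtype_ker_map f).linearMap_comp_eq_zero)
        (mk_shortExact (LinearMap.ker f).subtype f
          Subtype.val_injective (LinearMap.exact_subtype_ker_map f) hf) (i + 1)
          (ModuleCat.of R (R ⧸ I ^ a)) ≫
        ((Tor (ModuleCat.{u} R) (i + 1)).obj (ModuleCat.of R (LinearMap.ker f))).map
          (q I a (b + c₂) hab) = 0 := by
      rw [hz]
      exact Limits.comp_zero
    have h2 := (hA.pi k) (b + c₂) b le_rfl
    have h3 := tor_map_comp_eq_zero _ (mk_shortExact (LinearMap.ker f).subtype f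
      Subtype.val_injective (LinearMap.exact_subtype_ker_map f) hf) (i + 1)
      (q I a (b + c₂) hab) (q I (b + c₂) b (Nat.le_add_right b c₂)) h1 h2
    rw [q_comp] at h3
    exact h3

/-- the uniform statement for all modules killed by `I^m`. -/
theorem exists_ZM (i : ℕ) : ∃ c, ∀ (M : Type u) [AddCommGroup M] [Module R M],
    (∀ a ∈ I ^ m, ∀ x : M, a • x = 0) → ZM I (i + 1) (ModuleCat.of R M) c := by
  obtain ⟨c, hc⟩ := exists_ZM_fg I m i
  refine ⟨c, fun M _ _ hM a b h => ?_⟩
  apply ModuleCat.hom_ext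
  apply LinearMap.ext
  intro x
  obtain ⟨M', hfin, x', rfl⟩ := exists_fg_lift M _ (i + 1) x
  have hM' : ∀ r ∈ I ^ m, ∀ y : M', r • y = 0 := by
    intro r hr y
    apply Subtype.val_injective
    rw [Submodule.coe_smul, Submodule.coe_zero]
    exact hM r hr _
  have hz := hc M' hM' a b h
  have hnat := congrArg (fun g => g.hom x')
    (((Tor (ModuleCat.{u} R) (i + 1)).map (ModuleCat.ofHom M'.subtype)).naturality
      (q I a b (le_trans (Nat.le_add_right b c) h)))
  have h4 : (((Tor (ModuleCat.{u} R) (i + 1)).obj (ModuleCat.of R M)).map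
        (q I a b (le_trans (Nat.le_add_right b c) h)))
      (((Tor (ModuleCat.{u} R) (i + 1)).map (ModuleCat.ofHom M'.subtype)).app _ x') =
      ((Tor (ModuleCat.{u} R) (i + 1)).map (ModuleCat.ofHom M'.subtype)).app _
        ((((Tor (ModuleCat.{u} R) (i + 1)).obj (ModuleCat.of R M')).map
          (q I a b (le_trans (Nat.le_add_right b c) h))) x') := hnat.symm
  refine h4.trans ?_
  rw [hz]
  exact map_zero _

/-- S0360. -/
theorem main360 (i : ℕ) (hi : 0 < i) : ∃ c : ℕ, ∀ (M : Type u) [AddCommGroup M] [Module R M],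
    (∀ a ∈ I ^ m, ∀ x : M, a • x = 0) → ∀ n : ℕ, c ≤ n →
      (((Tor (ModuleCat.{u} R) i).obj (ModuleCat.of R M)).map
        (ModuleCat.ofHom (Submodule.mapQ (I ^ n) (I ^ (n - c)) LinearMap.id
          (Ideal.pow_le_pow_right (Nat.sub_le n c))))) = 0 := by
  obtain ⟨j, rfl⟩ : ∃ j, i = j + 1 := ⟨i - 1, by omega⟩
  obtain ⟨c, hc⟩ := exists_ZM I m j
  refine ⟨c, fun M _ _ hM n hn => ?_⟩
  exact hc M hM n (n - c) (by omega)

end killed

end Groth.Agent.Lib.TorUnifH6
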