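import Mathlib

/-!
# The torsion quotient `A[x_1..x_n, y]/(x_i^N - 1, N y - 1)` (helper7)

Used for S14067 (schematic dominance of étale quasi-sections of a smooth morphism).
-/

namespace Groth.Agent.Lib.TorsQH7

open MvPolynomial

universe u

section TQ

variable (n N : ℕ) (A : Type u) [CommRing A]

/-- relations: `x_i^N - 1` and `N*y - 1`. -/
noncomputable def rel : Option (Fin n) → MvPolynomial (Option (Fin n)) A
  | some i => X (some i) ^ N - 1
  | none => (N : MvPolynomial (Option (Fin n)) A) * X none - 1

/-- The torsion quotient `A[x_1..x_n, y]/(x_i^N - 1, N y - 1)`. -/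
abbrev TQ : Type u := MvPolynomial (Option (Fin n)) A ⧸ Ideal.span (Set.range (rel n N A))

/-- The structure map from the polynomial ring in the `x`-variables. -/
noncomputable def toTQ : MvPolynomial (Fin n) A →ₐ[A] TQ n N A :=
  (Ideal.Quotient.mkₐ A _).comp (rename some)

noncomputable instance algP : Algebra (MvPolynomial (Fin n) A) (TQ n N A) :=
  (toTQ n N A).toRingHom.toAlgebra

instance towerP : IsScalarTower A (MvPolynomial (Fin n) A) (TQ n N A) :=
  IsScalarTower.of_algebraMap_eq' (toTQ n N A).comp_algebraMap.symm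

lemma algebraMap_eq (p : MvPolynomial (Fin n) A) :
    algebraMap (MvPolynomial (Fin n) A) (TQ n N A) p =
      Ideal.Quotient.mk (Ideal.span (Set.range (rel n N A))) (rename some p) := rfl

lemma algebraMap_X (i : Fin n) :
    algebraMap (MvPolynomial (Fin n) A) (TQ n N A) (X i) =
      Ideal.Quotient.mk (Ideal.span (Set.range (rel n N A))) (X (some i)) := by
  rw [algebraMap_eq, rename_X]

lemma mk_x_pow (i : Fin n) :
    (Ideal.Quotient.mk (Ideal.span (Set.range (rel n N A))) (X (some i))) ^ N = 1 := by
  have : Ideal.Quotient.mk (Ideal.span (Set.range (rel n N A))) (X (some i) ^ N - 1) = 0 :=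
    Ideal.Quotient.eq_zero_iff_mem.mpr (Ideal.subset_span ⟨some i, rfl⟩)
  rw [map_sub, map_pow, map_one, sub_eq_zero] at this
  exact this

lemma natCast_mul_y :
    (N : TQ n N A) * Ideal.Quotient.mk (Ideal.span (Set.range (rel n N A))) (X none) = 1 := by
  have : Ideal.Quotient.mk (Ideal.span (Set.range (rel n N A)))
      ((N : MvPolynomial (Option (Fin n)) A) * X none - 1) = 0 :=
    Ideal.Quotient.eq_zero_iff_mem.mpr (Ideal.subset_span ⟨none, rfl⟩)
  rw [map_sub, map_mul, map_natCast, map_one, sub_eq_zero] at this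
  exact this

lemma algebraMap_X_pow (i : Fin n) :
    (algebraMap (MvPolynomial (Fin n) A) (TQ n N A) (X i)) ^ N = 1 := by
  rw [algebraMap_X, mk_x_pow]

lemma isUnit_natCast : IsUnit (N : TQ n N A) :=
  IsUnit.of_mul_eq_one _ (natCast_mul_y n N A)

theorem etale_TQ (hN : N ≠ 0) : Algebra.Etale A (TQ n N A) := by
  classical
  let P₀ : Algebra.PreSubmersivePresentation A (TQ n N A) (Option (Fin n)) (Option (Fin n)) :=
    Algebra.PreSubmersivePresentation.naive (v := rel n N A) id Function.injective_id
  let d : Option (Fin n) → MvPolynomial (Option (Fin n)) A := fun o =>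
    match o with
    | some i => (N : MvPolynomial (Option (Fin n)) A) * X (some i) ^ (N - 1)
    | none => (N : MvPolynomial (Option (Fin n)) A)
  have hmat : P₀.jacobiMatrix = Matrix.diagonal d := by
    ext i j
    rw [Algebra.PreSubmersivePresentation.jacobiMatrix_naive]
    rcases i with _ | i <;> rcases j with _ | j
    · simp [rel, d, Matrix.diagonal_apply, pderiv_X]
    · simp [rel, d, Matrix.diagonal_apply, Derivation.leibniz_pow, pderiv_X]
    · simp [rel, d, Matrix.diagonal_apply, pderiv_X]
    · by_cases hij : i = j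
      · subst hij
        simp [rel, d, Matrix.diagonal_apply, Derivation.leibniz_pow, pderiv_X]
      · simp [rel, d, Matrix.diagonal_apply, Derivation.leibniz_pow, pderiv_X, hij]
  have hjac : IsUnit P₀.jacobian := by
    rw [Algebra.PreSubmersivePresentation.jacobian_eq_jacobiMatrix_det, hmat,
      Matrix.det_diagonal, map_prod]
    refine Finset.prod_induction _ IsUnit (fun _ _ => IsUnit.mul) isUnit_one (fun o _ => ?_)
    rcases o with _ | i
    · simp only [d, map_natCast]
      exact isUnit_natCast n N A
    · simp only [d, map_mul, map_natCast, map_pow]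
      exact (isUnit_natCast n N A).mul ((IsUnit.of_pow_eq_one (mk_x_pow n N A i) hN).pow _)
  let P : Algebra.SubmersivePresentation A (TQ n N A) (Option (Fin n)) (Option (Fin n)) :=
    { toPreSubmersivePresentation := P₀, jacobian_isUnit := hjac }
  exact Algebra.Etale.iff_isStandardSmoothOfRelativeDimension_zero.mpr
    (P.isStandardSmoothOfRelativeDimension (by simp [Algebra.Presentation.dimension]))

/-- Every element of `TQ` becomes, after multiplication by a power of `N`, the image of a
polynomial in the `x`-variables. -/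
theorem exists_pow_mul_eq (b : TQ n N A) : ∃ (k : ℕ) (a : MvPolynomial (Fin n) A),
    (N : TQ n N A) ^ k * b = algebraMap (MvPolynomial (Fin n) A) (TQ n N A) a := by
  obtain ⟨p, rfl⟩ := Ideal.Quotient.mk_surjective b
  induction p using MvPolynomial.induction_on with
  | C r =>
    refine ⟨0, C r, ?_⟩
    rw [algebraMap_eq, rename_C, pow_zero, one_mul]
  | add p q hp hq =>
    obtain ⟨k₁, a₁, h₁⟩ := hp
    obtain ⟨k₂, a₂, h₂⟩ := hq
    refine ⟨k₁ + k₂, (N : MvPolynomial (Fin n) A) ^ k₂ * a₁ +
      (N : MvPolynomial (Fin n) A) ^ k₁ * a₂, ?_⟩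
    rw [map_add (algebraMap _ _), map_mul, map_mul, map_pow, map_pow, map_natCast, ← h₁, ← h₂,
      map_add]
    ring
  | mul_X p o hp =>
    obtain ⟨k, a, h⟩ := hp
    rcases o with _ | i
    · refine ⟨k + 1, a, ?_⟩
      rw [map_mul, ← h, pow_succ]
      have := natCast_mul_y n N A
      calc (N : TQ n N A) ^ k * (N : TQ n N A) *
            (Ideal.Quotient.mk (Ideal.span (Set.range (rel n N A))) p *
              Ideal.Quotient.mk (Ideal.span (Set.range (rel n N A))) (X none))
          = (N : TQ n N A) ^ k * Ideal.Quotient.mk (Ideal.span (Set.range (rel n N A))) p *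
            ((N : TQ n N A) *
              Ideal.Quotient.mk (Ideal.span (Set.range (rel n N A))) (X none)) := by ring
        _ = _ := by rw [this, mul_one]
    · refine ⟨k, a * X i, ?_⟩
      rw [map_mul, map_mul, ← h, algebraMap_X]
      ring

variable {n N A}

/-- Lifting out of the torsion quotient. -/
noncomputable def liftTQ {F : Type*} [CommRing F] [Algebra A F] (ξ : Fin n → F) (ν : F)
    (hξ : ∀ i, ξ i ^ N = 1) (hν : (N : F) * ν = 1) : TQ n N A →ₐ[A] F :=
  Ideal.Quotient.liftₐ _ (aeval (fun o : Option (Fin n) => o.elim ν ξ)) (by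
    intro a ha
    have hle : Ideal.span (Set.range (rel n N A)) ≤
        RingHom.ker (aeval (R := A) (fun o : Option (Fin n) => o.elim ν ξ)).toRingHom := by
      rw [Ideal.span_le]
      rintro _ ⟨o, rfl⟩
      rcases o with _ | i
      · simp [rel, hν]
      · simp [rel, hξ]
    exact hle ha)

lemma liftTQ_algebraMap {F : Type*} [CommRing F] [Algebra A F] (ξ : Fin n → F) (ν : F)
    (hξ : ∀ i, ξ i ^ N = 1) (hν : (N : F) * ν = 1) (p : MvPolynomial (Fin n) A) :
    liftTQ ξ ν hξ hν (algebraMap (MvPolynomial (Fin n) A) (TQ n N A) p) = aeval ξ p := by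
  rw [algebraMap_eq]
  simp only [liftTQ, Ideal.Quotient.liftₐ_apply, Ideal.Quotient.lift_mk]
  change aeval (fun o : Option (Fin n) => o.elim ν ξ) (rename some p) = _
  rw [aeval_rename]
  rfl

end TQ

end Groth.Agent.Lib.TorsQH7
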