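import Mathlib
import Groth.Agent.Lib.TorsQ_helper7

/-!
# Base change of an algebra over `R₀[x]` to the torsion quotient (helper7, for S14067)
-/

namespace Groth.Agent.Lib.TorsQH7

open MvPolynomial TensorProduct

universe u

lemma away_add {A B : Type*} [CommRing A] [CommRing B] (φ : A →+* B) (f : A) {b₁ b₂ : B}
    (h₁ : ∃ (k : ℕ) (a : A), φ f ^ k * b₁ = φ a) (h₂ : ∃ (k : ℕ) (a : A), φ f ^ k * b₂ = φ a) :
    ∃ (k : ℕ) (a : A), φ f ^ k * (b₁ + b₂) = φ a := by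
  obtain ⟨k₁, a₁, h₁⟩ := h₁
  obtain ⟨k₂, a₂, h₂⟩ := h₂
  refine ⟨k₁ + k₂, f ^ k₂ * a₁ + f ^ k₁ * a₂, ?_⟩
  rw [map_add, map_mul, map_mul, map_pow, map_pow, ← h₁, ← h₂]
  ring

section BN

variable (n : ℕ) (R₀ : Type u) [CommRing R₀] (C₀ : Type u) [CommRing C₀] [Algebra R₀ C₀]
  [Algebra (MvPolynomial (Fin n) R₀) C₀] [IsScalarTower R₀ (MvPolynomial (Fin n) R₀) C₀]

/-- The base change of `C₀` to the torsion quotient (transparent version). -/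
abbrev BN' (N : ℕ) : Type u := TQ n N R₀ ⊗[MvPolynomial (Fin n) R₀] C₀

/-- The canonical map `C₀ → B_N`. -/
noncomputable def inclAlg' (N : ℕ) : C₀ →ₐ[R₀] BN' n R₀ C₀ N :=
  (Algebra.TensorProduct.includeRight (R := MvPolynomial (Fin n) R₀) (A := TQ n N R₀)
    (B := C₀)).restrictScalars R₀

lemma inclAlg'_apply (N : ℕ) (c : C₀) :
    inclAlg' n R₀ C₀ N c = (1 : TQ n N R₀) ⊗ₜ[MvPolynomial (Fin n) R₀] c := rfl

theorem etale_BN' [Algebra.Etale (MvPolynomial (Fin n) R₀) C₀] (N : ℕ) (hN : N ≠ 0) :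
    Algebra.Etale R₀ (BN' n R₀ C₀ N) := by
  have h1 : Algebra.Etale R₀ (TQ n N R₀) := etale_TQ n N R₀ hN
  exact Algebra.Etale.comp R₀ (TQ n N R₀) (BN' n R₀ C₀ N)

theorem isUnit_natCast_BN' (N : ℕ) : IsUnit (N : BN' n R₀ C₀ N) := by
  have h2 := (isUnit_natCast n N R₀).map (Algebra.TensorProduct.includeLeftRingHom
    (R := MvPolynomial (Fin n) R₀) (A := TQ n N R₀) (B := C₀))
  rwa [map_natCast] at h2

theorem exists_pow_mul_eq_BN' (N : ℕ) (b : BN' n R₀ C₀ N) : ∃ (k : ℕ) (a : C₀),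
    (inclAlg' n R₀ C₀ N).toRingHom (N : C₀) ^ k * b = (inclAlg' n R₀ C₀ N).toRingHom a := by
  induction b using TensorProduct.induction_on with
  | zero => exact ⟨0, 0, by simp⟩
  | add x y hx hy =>
    exact away_add (A := C₀) (B := BN' n R₀ C₀ N) (inclAlg' n R₀ C₀ N).toRingHom (N : C₀) hx hy
  | tmul q c₀ =>
    obtain ⟨k, a, hka⟩ := exists_pow_mul_eq n N R₀ q
    refine ⟨k, a • c₀, ?_⟩
    have h1 : (inclAlg' n R₀ C₀ N).toRingHom (N : C₀) =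
        (N : TQ n N R₀) ⊗ₜ[MvPolynomial (Fin n) R₀] (1 : C₀) := by
      rw [map_natCast, Algebra.TensorProduct.natCast_def]
    rw [h1, Algebra.TensorProduct.tmul_pow, one_pow, Algebra.TensorProduct.tmul_mul_tmul, one_mul,
      hka, Algebra.algebraMap_eq_smul_one]
    calc (a • (1 : TQ n N R₀)) ⊗ₜ[MvPolynomial (Fin n) R₀] c₀
        = a • ((1 : TQ n N R₀) ⊗ₜ[MvPolynomial (Fin n) R₀] c₀) :=
          (TensorProduct.smul_tmul' a (1 : TQ n N R₀) c₀).symm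
      _ = (1 : TQ n N R₀) ⊗ₜ[MvPolynomial (Fin n) R₀] (a • c₀) :=
          (TensorProduct.tmul_smul a (1 : TQ n N R₀) c₀).symm

theorem exists_lift_BN' (N : ℕ) {F : Type u} [CommRing F] [Algebra R₀ F] (γ : C₀ →ₐ[R₀] F)
    (ν : F) (hx : ∀ i, γ (algebraMap (MvPolynomial (Fin n) R₀) C₀ (X i)) ^ N = 1)
    (hν : (N : F) * ν = 1) :
    ∃ ψ : BN' n R₀ C₀ N →ₐ[R₀] F, ∀ c, ψ (inclAlg' n R₀ C₀ N c) = γ c := by
  let _ : Algebra (MvPolynomial (Fin n) R₀) F :=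
    (γ.toRingHom.comp (algebraMap (MvPolynomial (Fin n) R₀) C₀)).toAlgebra
  have : IsScalarTower R₀ (MvPolynomial (Fin n) R₀) F := IsScalarTower.of_algebraMap_eq (fun r => by
    change algebraMap R₀ F r =
      γ (algebraMap (MvPolynomial (Fin n) R₀) C₀ (algebraMap R₀ (MvPolynomial (Fin n) R₀) r))
    rw [← IsScalarTower.algebraMap_apply R₀ (MvPolynomial (Fin n) R₀) C₀, AlgHom.commutes])
  let ξ : Fin n → F := fun i => γ (algebraMap (MvPolynomial (Fin n) R₀) C₀ (X i))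
  let θ : TQ n N R₀ →ₐ[R₀] F := liftTQ ξ ν hx hν
  have hθ : ∀ p : MvPolynomial (Fin n) R₀,
      θ (algebraMap (MvPolynomial (Fin n) R₀) (TQ n N R₀) p) =
        algebraMap (MvPolynomial (Fin n) R₀) F p := by
    intro p
    have h1 : θ (algebraMap (MvPolynomial (Fin n) R₀) (TQ n N R₀) p) = aeval ξ p :=
      liftTQ_algebraMap ξ ν hx hν p
    rw [h1]
    have h2 : (aeval ξ : MvPolynomial (Fin n) R₀ →ₐ[R₀] F) =
        γ.comp (IsScalarTower.toAlgHom R₀ (MvPolynomial (Fin n) R₀) C₀) := by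
      apply MvPolynomial.algHom_ext
      intro i
      simp [ξ]
    rw [h2]
    rfl
  let θ' : TQ n N R₀ →ₐ[MvPolynomial (Fin n) R₀] F := { θ.toRingHom with commutes' := hθ }
  let g' : C₀ →ₐ[MvPolynomial (Fin n) R₀] F := { γ.toRingHom with commutes' := fun p => rfl }
  let ψ : BN' n R₀ C₀ N →ₐ[MvPolynomial (Fin n) R₀] F :=
    Algebra.TensorProduct.lift θ' g' (fun _ _ => Commute.all _ _)
  refine ⟨ψ.restrictScalars R₀, fun c => ?_⟩
  rw [inclAlg'_apply]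
  change ψ ((1 : TQ n N R₀) ⊗ₜ[MvPolynomial (Fin n) R₀] c) = γ c
  rw [Algebra.TensorProduct.lift_tmul, map_one, one_mul]
  rfl

/-- The base change of `C₀` to the torsion quotient (opaque version with clean instances). -/
def BN (N : ℕ) : Type u := BN' n R₀ C₀ N

noncomputable instance instCommRingBN (N : ℕ) : CommRing (BN n R₀ C₀ N) :=
  inferInstanceAs (CommRing (BN' n R₀ C₀ N))

noncomputable instance instAlgebraBN (N : ℕ) : Algebra R₀ (BN n R₀ C₀ N) :=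
  inferInstanceAs (Algebra R₀ (BN' n R₀ C₀ N))

/-- The canonical map `C₀ → B_N`. -/
noncomputable def inclAlg (N : ℕ) : C₀ →ₐ[R₀] BN n R₀ C₀ N := inclAlg' n R₀ C₀ N

theorem etale_BN [Algebra.Etale (MvPolynomial (Fin n) R₀) C₀] (N : ℕ) (hN : N ≠ 0) :
    Algebra.Etale R₀ (BN n R₀ C₀ N) := etale_BN' n R₀ C₀ N hN

theorem isUnit_natCast_BN (N : ℕ) : IsUnit (N : BN n R₀ C₀ N) := isUnit_natCast_BN' n R₀ C₀ N

theorem exists_pow_mul_eq_BN (N : ℕ) (b : BN n R₀ C₀ N) : ∃ (k : ℕ) (a : C₀),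
    (inclAlg n R₀ C₀ N).toRingHom (N : C₀) ^ k * b = (inclAlg n R₀ C₀ N).toRingHom a :=
  exists_pow_mul_eq_BN' n R₀ C₀ N b

theorem exists_lift_BN (N : ℕ) {F : Type u} [CommRing F] [Algebra R₀ F] (γ : C₀ →ₐ[R₀] F)
    (ν : F) (hx : ∀ i, γ (algebraMap (MvPolynomial (Fin n) R₀) C₀ (X i)) ^ N = 1)
    (hν : (N : F) * ν = 1) :
    ∃ ψ : BN n R₀ C₀ N →ₐ[R₀] F, ∀ c, ψ (inclAlg n R₀ C₀ N c) = γ c :=
  exists_lift_BN' n R₀ C₀ N γ ν hx hν

end BN

end Groth.Agent.Lib.TorsQH7
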