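import Mathlib
import Groth.Prelude.Def_SGA3b
import Groth.Agent.Lib.MultDense_helper1
import Groth.Agent.Lib.MultTors_helper1

/-!
# The torsion subgroups of a group of multiplicative type are schematically dense (helper1)

`CoreP R M`: in the group algebra `R[M]`, an element `x` which, up to powers of `a`, dies in every
`R[M/Mⁿ]`, is killed by a power of `a` (the kernels `ₙD(M)` are schematically dense in every basic open
`D(a)` of `D(M)`).
* `core_red`: fields, `M` finitely generated and torsion free (`K[M/Mⁿ]` is reduced for `n` prime to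
  the characteristic; `M` is residually finite).
* `noeth_all`: Noetherian induction on the ideals of `R`, reducing `R` Noetherian to its residue fields.
* `coreP_curry`: `R[F × T] = R[T][F]` absorbs the torsion of `M` into the coefficients.
* `core_all`: all rings, by approximation by finitely generated subrings.
* `main2981`: groups of multiplicative type and of finite type, by faithfully flat descent.
APPEND-ONLY once landed.
-/

set_option backward.isDefEq.respectTransparency.types false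
set_option autoImplicit false
set_option linter.unusedVariables false
set_option linter.unusedSectionVars false
set_option linter.style.longLine false
set_option maxHeartbeats 1600000

universe u v w

open TensorProduct

noncomputable section

namespace Groth.Agent.Lib.TorsDenseH1

open SGA3b MultDenseH1

section Basic

variable (R : Type u) [CommRing R] (M : Type v) [CommGroup M]

/-- the projection `R[M] → R[M/Mⁿ]` (universe-polymorphic version of `MultDenseH1.piN`) -/
def pin (n : ℕ) : MonoidAlgebra R M →ₐ[R] MonoidAlgebra R (M ⧸ Hn M n) :=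
  MonoidAlgebra.mapDomainAlgHom R R (QuotientGroup.mk' (Hn M n))

/-- the torsion subgroups of `D(M)` are schematically dense in every basic open -/
def CoreP : Prop :=
  ∀ a x : MonoidAlgebra R M,
    (∀ n : ℕ, 0 < n → ∃ k : ℕ, pin R M n (a ^ k * x) = 0) → ∃ k : ℕ, a ^ k * x = 0

variable {R M}

theorem pin_single (n : ℕ) (m : M) (r : R) :
    pin R M n (MonoidAlgebra.single m r) =
      MonoidAlgebra.single (QuotientGroup.mk' (Hn M n) m) r := by
  show MonoidAlgebra.mapDomain (QuotientGroup.mk' (Hn M n)) (MonoidAlgebra.single m r) = _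
  rw [MonoidAlgebra.mapDomain_single]

theorem ker_pin_le {n : ℕ} {X : Type*} [CommRing X] (Ψ : MonoidAlgebra R M →+* X)
    (h : ∀ m : M, Ψ (MonoidAlgebra.single (m ^ n) 1) = 1)
    (y : MonoidAlgebra R M) (hy : pin R M n y = 0) : Ψ y = 0 := by
  have h1 := MultTorsH1.mem_span_of_mapDomain_eq_zero (Hn M n) y hy
  have hle : Ideal.span (Set.range fun g : Hn M n =>
      (MonoidAlgebra.single (g : M) (1 : R) - 1 : MonoidAlgebra R M)) ≤ RingHom.ker Ψ := by
    rw [Ideal.span_le]
    rintro _ ⟨⟨g, ⟨m, rfl⟩⟩, rfl⟩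
    rw [SetLike.mem_coe, RingHom.mem_ker, map_sub, map_one]
    show Ψ (MonoidAlgebra.single (m ^ n) 1) - 1 = 0
    rw [h m, sub_self]
  exact hle h1

theorem eq_zero_of_injOn' (n : ℕ) (y : MonoidAlgebra R M) (hy : pin R M n y = 0)
    (hinj : Set.InjOn (QuotientGroup.mk' (Hn M n)) (y.coeff.support : Set M)) : y = 0 := by
  have h1 : Finsupp.mapDomain (QuotientGroup.mk' (Hn M n)) y.coeff =
      Finsupp.mapDomain (QuotientGroup.mk' (Hn M n)) 0 := by
    rw [Finsupp.mapDomain_zero]
    exact congrArg MonoidAlgebra.coeff hy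
  have h2 : y.coeff = 0 := Finsupp.mapDomain_injOn _ hinj
    (show y.coeff ∈ {w : M →₀ R | (w.support : Set M) ⊆ (y.coeff.support : Set M)} from
      (fun _ hh => hh))
    (show (0 : M →₀ R) ∈ {w : M →₀ R | (w.support : Set M) ⊆ (y.coeff.support : Set M)} by
      simp) h1
  apply MonoidAlgebra.coeff_injective
  rw [h2]
  rfl

theorem pin_natural {S : Type w} [CommRing S] (f : R →+* S) (n : ℕ) (y : MonoidAlgebra R M) :
    pin S M n (MonoidAlgebra.mapRingHom M f y) =
      MonoidAlgebra.mapRingHom (M ⧸ Hn M n) f (pin R M n y) := by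
  induction y using MonoidAlgebra.induction_linear with
  | zero => simp
  | add y z hy hz => rw [map_add, map_add, map_add, map_add, hy, hz]
  | single m r =>
    rw [MonoidAlgebra.mapRingHom_single, pin_single, pin_single, MonoidAlgebra.mapRingHom_single]

theorem mapRingHom_injective {S : Type w} [CommRing S] (N : Type*) [Monoid N] (f : R →+* S)
    (hf : Function.Injective f) : Function.Injective (MonoidAlgebra.mapRingHom N f) := by
  intro y z h
  apply MonoidAlgebra.coeff_injective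
  ext m
  have h1 := congrArg (fun w => w.coeff m) h
  simp only [MonoidAlgebra.coeff_mapRingHom] at h1
  exact hf h1

theorem exists_map_eq {S : Type w} [CommRing S] {N : Type*} [Monoid N] (f : S →+* R)
    (y : MonoidAlgebra R N) (h : ∀ m, ∃ t : S, f t = y.coeff m) :
    ∃ y₀ : MonoidAlgebra S N, MonoidAlgebra.mapRingHom N f y₀ = y := by
  classical
  choose t ht using h
  refine ⟨∑ m ∈ y.coeff.support, MonoidAlgebra.single m (t m), ?_⟩
  have h2 : ∑ m ∈ y.coeff.support, MonoidAlgebra.single m (y.coeff m) = y :=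
    MonoidAlgebra.sum_coeff_single y
  rw [map_sum]
  refine Eq.trans (Finset.sum_congr rfl (fun m _ => ?_)) h2
  rw [MonoidAlgebra.mapRingHom_single, ht]

end Basic

section Coeff

variable {R : Type u} [CommRing R]

/-- elements of the group algebra all of whose coefficients lie in `J` -/
def IJ (J : Ideal R) (N : Type*) [Monoid N] : Ideal (MonoidAlgebra R N) :=
  RingHom.ker (MonoidAlgebra.mapRingHom N (Ideal.Quotient.mk J))

theorem mem_IJ {J : Ideal R} {N : Type*} [Monoid N] {y : MonoidAlgebra R N} :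
    y ∈ IJ J N ↔ ∀ m, y.coeff m ∈ J := by
  unfold IJ
  rw [RingHom.mem_ker]
  constructor
  · intro h m
    have h1 := congrArg (fun w => w.coeff m) h
    simp only [MonoidAlgebra.coeff_mapRingHom, MonoidAlgebra.coeff_zero, Finsupp.coe_zero,
      Pi.zero_apply] at h1
    exact Ideal.Quotient.eq_zero_iff_mem.mp h1
  · intro h
    apply MonoidAlgebra.coeff_injective
    ext m
    rw [MonoidAlgebra.coeff_mapRingHom, MonoidAlgebra.coeff_zero, Finsupp.zero_apply]
    exact Ideal.Quotient.eq_zero_iff_mem.mpr (h m)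

theorem IJ_mono {J J' : Ideal R} {N : Type*} [Monoid N] (h : J ≤ J') {y : MonoidAlgebra R N}
    (hy : y ∈ IJ J N) : y ∈ IJ J' N :=
  mem_IJ.mpr (fun m => h (mem_IJ.mp hy m))

theorem single_mem_IJ {J : Ideal R} {N : Type*} [Monoid N] (m : N) {c : R} (hc : c ∈ J) :
    MonoidAlgebra.single m c ∈ IJ J N := by
  classical
  rw [mem_IJ]
  intro m'
  rw [MonoidAlgebra.coeff_single, Finsupp.single_apply]
  split_ifs
  · exact hc
  · exact J.zero_mem

theorem eq_zero_of_mem_IJ_bot {N : Type*} [Monoid N] {y : MonoidAlgebra R N}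
    (hy : y ∈ IJ (⊥ : Ideal R) N) : y = 0 := by
  rw [mem_IJ] at hy
  apply MonoidAlgebra.coeff_injective
  ext m
  rw [MonoidAlgebra.coeff_zero, Finsupp.zero_apply]
  exact (Ideal.mem_bot).mp (hy m)

theorem smul_mem_IJ_iff {J : Ideal R} {N : Type*} [Monoid N] (v : R) (y : MonoidAlgebra R N) :
    v • y ∈ IJ J N ↔ y ∈ IJ (J.colon {v}) N := by
  rw [mem_IJ, mem_IJ]
  refine forall_congr' (fun m => ?_)
  rw [MonoidAlgebra.coeff_smul, Finsupp.smul_apply, Submodule.mem_colon_singleton, smul_eq_mul,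
    smul_eq_mul, mul_comm]

theorem exists_sub_smul_mem {J : Ideal R} {N : Type*} [Monoid N] (v : R) (y : MonoidAlgebra R N)
    (hy : y ∈ IJ (J ⊔ Ideal.span {v}) N) : ∃ z : MonoidAlgebra R N, y - v • z ∈ IJ J N := by
  classical
  rw [mem_IJ] at hy
  have h1 : ∀ m, ∃ t : R, y.coeff m - v * t ∈ J := by
    intro m
    obtain ⟨j, hj, w, hw, hjw⟩ := Submodule.mem_sup.mp (hy m)
    obtain ⟨t, ht⟩ := Ideal.mem_span_singleton'.mp hw
    refine ⟨t, ?_⟩
    rw [← hjw, ← ht, mul_comm v t, add_sub_cancel_right]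
    exact hj
  choose t ht using h1
  refine ⟨∑ m ∈ y.coeff.support, MonoidAlgebra.single m (t m), ?_⟩
  have h2 : ∑ m ∈ y.coeff.support, MonoidAlgebra.single m (y.coeff m) = y :=
    MonoidAlgebra.sum_coeff_single y
  have h3 : ∑ m ∈ y.coeff.support, MonoidAlgebra.single m (y.coeff m - v * t m) =
      (∑ m ∈ y.coeff.support, MonoidAlgebra.single m (y.coeff m)) -
        v • ∑ m ∈ y.coeff.support, MonoidAlgebra.single m (t m) := by
    rw [Finset.smul_sum, ← Finset.sum_sub_distrib]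
    refine Finset.sum_congr rfl (fun m _ => ?_)
    rw [MonoidAlgebra.smul_single, smul_eq_mul, MonoidAlgebra.single_sub]
  rw [h2] at h3
  rw [← h3]
  exact Ideal.sum_mem _ (fun m _ => single_mem_IJ m (ht m))

theorem exists_prime_colon [IsNoetherianRing R] (J : Ideal R) (hJ : J ≠ ⊤) :
    ∃ v : R, v ∉ J ∧ (J.colon {v}).IsPrime := by
  have hne : ({I : Ideal R | ∃ v : R, v ∉ J ∧ I = J.colon {v}}).Nonempty :=
    ⟨J.colon {1}, 1, fun h => hJ ((Ideal.eq_top_iff_one J).mpr h), rfl⟩
  obtain ⟨P, ⟨v, hv, rfl⟩, hmax⟩ :=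
    set_has_maximal_iff_noetherian.mpr (inferInstance : IsNoetherian R R) _ hne
  refine ⟨v, hv, Ideal.isPrime_iff.mpr ⟨?_, ?_⟩⟩
  · intro h
    have h1 : (1 : R) ∈ J.colon {v} := by rw [h]; exact Submodule.mem_top
    rw [Submodule.mem_colon_singleton, one_smul] at h1
    exact hv h1
  · intro r s hrs
    by_contra hcon
    rw [not_or] at hcon
    obtain ⟨hr, hs⟩ := hcon
    rw [Submodule.mem_colon_singleton] at hr hrs
    have hle : J.colon {v} ≤ J.colon {r • v} := by
      intro t ht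
      rw [Submodule.mem_colon_singleton] at ht ⊢
      rw [smul_comm]
      exact J.smul_mem r ht
    have hmem : J.colon {r • v} ∈ {I : Ideal R | ∃ v : R, v ∉ J ∧ I = J.colon {v}} :=
      ⟨r • v, hr, rfl⟩
    have hnlt := hmax _ hmem
    have heq : J.colon {v} = J.colon {r • v} := by
      by_contra hne'
      exact hnlt (lt_of_le_of_ne hle hne')
    apply hs
    rw [heq, Submodule.mem_colon_singleton, smul_smul, mul_comm]
    exact hrs

/-- the canonical map to the residue field at a prime -/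
def toFrac (J : Ideal R) [J.IsPrime] : R →+* FractionRing (R ⧸ J) :=
  (algebraMap (R ⧸ J) (FractionRing (R ⧸ J))).comp (Ideal.Quotient.mk J)

theorem map_toFrac_eq_zero_iff (J : Ideal R) [J.IsPrime] {N : Type*} [Monoid N]
    (y : MonoidAlgebra R N) :
    MonoidAlgebra.mapRingHom N (toFrac J) y = 0 ↔ y ∈ IJ J N := by
  unfold toFrac
  rw [MonoidAlgebra.mapRingHom_comp]
  show MonoidAlgebra.mapRingHom N (algebraMap (R ⧸ J) (FractionRing (R ⧸ J)))
    (MonoidAlgebra.mapRingHom N (Ideal.Quotient.mk J) y) = 0 ↔ _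
  unfold IJ
  rw [RingHom.mem_ker]
  constructor
  · intro h
    exact mapRingHom_injective N _ (IsFractionRing.injective (R ⧸ J) (FractionRing (R ⧸ J)))
      (by rw [h, map_zero])
  · intro h
    rw [h, map_zero]

end Coeff

section Noeth

variable {R : Type u} [CommRing R] {M : Type v} [CommGroup M]

theorem pin_mem_IJ {J : Ideal R} (n : ℕ) {y : MonoidAlgebra R M} (hy : y ∈ IJ J M) :
    pin R M n y ∈ IJ J (M ⧸ Hn M n) := by
  unfold IJ at hy ⊢
  rw [RingHom.mem_ker] at hy ⊢
  rw [← pin_natural, hy, map_zero]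

variable (R M) in
/-- the density statement modulo an ideal of coefficients -/
def QJ (J : Ideal R) : Prop :=
  ∀ a x : MonoidAlgebra R M,
    (∀ n : ℕ, 0 < n → ∃ k : ℕ, pin R M n (a ^ k * x) ∈ IJ J (M ⧸ Hn M n)) →
    ∃ k : ℕ, a ^ k * x ∈ IJ J M

theorem core_prime (J : Ideal R) [J.IsPrime] (hK : CoreP (FractionRing (R ⧸ J)) M) :
    QJ R M J := by
  intro a x H
  obtain ⟨k, hk⟩ := hK (MonoidAlgebra.mapRingHom M (toFrac J) a)
    (MonoidAlgebra.mapRingHom M (toFrac J) x) (fun n hn => by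
      obtain ⟨k, hk⟩ := H n hn
      refine ⟨k, ?_⟩
      rw [← map_pow, ← map_mul, pin_natural]
      exact (map_toFrac_eq_zero_iff J _).mpr hk)
  refine ⟨k, ?_⟩
  rw [← map_pow, ← map_mul] at hk
  exact (map_toFrac_eq_zero_iff J _).mp hk

theorem noeth_all [IsNoetherianRing R]
    (hfield : ∀ (K : Type u) [Field K] (f : R →+* K), CoreP K M) : ∀ J : Ideal R, QJ R M J := by
  intro J
  refine IsNoetherian.induction (P := QJ R M) (fun J IH => ?_) J
  intro a x H
  by_cases hJ : J = ⊤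
  · exact ⟨0, by rw [hJ]; exact mem_IJ.mpr (fun _ => Submodule.mem_top)⟩
  obtain ⟨v, hv, hprime⟩ := exists_prime_colon J hJ
  haveI := hprime
  have hlt : J < J ⊔ Ideal.span {v} := by
    refine lt_of_le_of_ne le_sup_left (fun h => hv ?_)
    rw [h]
    exact Ideal.mem_sup_right (Ideal.mem_span_singleton_self v)
  obtain ⟨k₁, hk₁⟩ := IH _ hlt a x (fun n hn => by
    obtain ⟨k, hk⟩ := H n hn
    exact ⟨k, IJ_mono le_sup_left hk⟩)
  obtain ⟨z, hz⟩ := exists_sub_smul_mem v (a ^ k₁ * x) hk₁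
  have hq : QJ R M (J.colon {v}) := core_prime _ (hfield _ (toFrac (J.colon {v})))
  obtain ⟨k₂, hk₂⟩ := hq a z (fun n hn => by
    obtain ⟨k, hk⟩ := H n hn
    refine ⟨k, ?_⟩
    rw [← smul_mem_IJ_iff, ← map_smul]
    have e0 : a ^ k₁ * (a ^ k * x) = a ^ k * (a ^ k₁ * x) := by ring
    have e1 : v • (a ^ k * z) = a ^ k₁ * (a ^ k * x) - a ^ k * (a ^ k₁ * x - v • z) := by
      rw [mul_sub, mul_smul_comm, e0, sub_sub_cancel]
    rw [e1, map_sub]
    exact Ideal.sub_mem _ (by rw [map_mul]; exact Ideal.mul_mem_left _ _ hk)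
      (pin_mem_IJ n (Ideal.mul_mem_left _ _ hz)))
  refine ⟨k₂ + k₁, ?_⟩
  have e2 : a ^ (k₂ + k₁) * x = v • (a ^ k₂ * z) + a ^ k₂ * (a ^ k₁ * x - v • z) := by
    rw [mul_sub, mul_smul_comm, add_sub_cancel, pow_add, mul_assoc]
  rw [e2]
  exact Ideal.add_mem _ ((smul_mem_IJ_iff v _).mpr hk₂) (Ideal.mul_mem_left _ _ hz)

end Noeth

section Field

theorem core_red (K : Type u) [Field K] (F : Type v) [CommGroup F] [Group.FG F]
    (htf : ∀ p : ℕ, p.Prime → ∀ m : F, m ^ p = 1 → m = 1) : CoreP K F := by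
  classical
  intro a x H
  by_cases hy : a * x = 0
  · exact ⟨1, by rw [pow_one]; exact hy⟩
  exfalso
  haveI := ringChar.charP K
  have hp0 : ringChar K = 0 ∨ (ringChar K).Prime :=
    (CharP.char_is_prime_or_zero K (ringChar K)).symm
  obtain ⟨n, hn, hpn, hinj⟩ := exists_injOn F (ringChar K) hp0
    (fun hpp m hm => htf _ hpp m hm) (a * x).coeff.support
  obtain ⟨k, hk⟩ := H n hn
  haveI : Finite (F ⧸ Hn F n) := Subgroup.finiteIndex_iff_finite_quotient.mp
    (Subgroup.finiteIndex_range_powMonoidHom_of_fg F hn.ne')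
  have hcard : (Nat.card (F ⧸ Hn F n) : K) ≠ 0 := by
    intro h0
    have hd : ringChar K ∣ Nat.card (F ⧸ Hn F n) :=
      (CharP.cast_eq_zero_iff K (ringChar K) _).mp h0
    have hpp : (ringChar K).Prime := by
      rcases hp0 with h | h
      · rw [h, zero_dvd_iff] at hd
        exact absurd hd Nat.card_pos.ne'
      · exact h
    haveI : Fact (ringChar K).Prime := ⟨hpp⟩
    obtain ⟨q, hq⟩ := exists_prime_orderOf_dvd_card' (ringChar K) hd
    apply hpn
    rw [← hq]
    apply orderOf_dvd_of_pow_eq_one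
    obtain ⟨m, rfl⟩ := QuotientGroup.mk'_surjective (Hn F n) q
    rw [← map_pow]
    exact (QuotientGroup.eq_one_iff _).mpr ⟨m, rfl⟩
  haveI : NeZero (Nat.card (F ⧸ Hn F n) : K) := ⟨hcard⟩
  haveI : IsReduced (MonoidAlgebra K (F ⧸ Hn F n)) := inferInstance
  have hnil : (pin K F n (a * x)) ^ (k + 1) = 0 := by
    have h1 : (a * x) ^ (k + 1) = (a ^ k * x) * (a * x ^ k) := by ring
    rw [← map_pow, h1, map_mul, hk, zero_mul]
  have h0 : pin K F n (a * x) = 0 := IsReduced.eq_zero _ ⟨k + 1, hnil⟩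
  exact hy (eq_zero_of_injOn' n (a * x) h0 hinj)

theorem core_noeth (R : Type u) [CommRing R] [IsNoetherianRing R] (F : Type v) [CommGroup F]
    [Group.FG F] (htf : ∀ p : ℕ, p.Prime → ∀ m : F, m ^ p = 1 → m = 1) : CoreP R F := by
  intro a x H
  have hq := noeth_all (R := R) (M := F) (fun K _ _ => core_red K F htf) ⊥
  obtain ⟨k, hk⟩ := hq a x (fun n hn => by
    obtain ⟨k, hk⟩ := H n hn
    exact ⟨k, by rw [hk]; exact zero_mem _⟩)
  exact ⟨k, eq_zero_of_mem_IJ_bot hk⟩

end Field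

section Transport

theorem coreP_of_mulEquiv {R : Type u} [CommRing R] {M : Type v} {M₂ : Type w} [CommGroup M]
    [CommGroup M₂] (e : M ≃* M₂) (h : CoreP R M₂) : CoreP R M := by
  intro a x H
  obtain ⟨Ψ, hΨ⟩ : ∃ Ψ : MonoidAlgebra R M ≃+* MonoidAlgebra R M₂,
      ∀ m r, Ψ (MonoidAlgebra.single m r) = MonoidAlgebra.single (e m) r :=
    ⟨MonoidAlgebra.mapDomainRingEquiv R e, fun m r => MonoidAlgebra.mapDomainRingEquiv_single e r m⟩
  obtain ⟨k, hk⟩ := h (Ψ a) (Ψ x) (fun n hn => by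
    obtain ⟨k, hk⟩ := H n hn
    refine ⟨k, ?_⟩
    have h1 := ker_pin_le (n := n)
      (((pin R M₂ n : MonoidAlgebra R M₂ →ₐ[R] MonoidAlgebra R (M₂ ⧸ Hn M₂ n)) :
        MonoidAlgebra R M₂ →+* MonoidAlgebra R (M₂ ⧸ Hn M₂ n)).comp
        (Ψ : MonoidAlgebra R M →+* MonoidAlgebra R M₂)) (fun m => by
        show pin R M₂ n (Ψ (MonoidAlgebra.single (m ^ n) 1)) = 1
        rw [hΨ, pin_single, map_pow]
        have h2 : (QuotientGroup.mk' (Hn M₂ n)) (e m ^ n) = 1 :=
          (QuotientGroup.eq_one_iff _).mpr ⟨e m, rfl⟩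
        rw [h2, MonoidAlgebra.one_def]) _ hk
    have h3 : pin R M₂ n (Ψ (a ^ k * x)) = 0 := h1
    rw [map_mul, map_pow] at h3
    exact h3)
  refine ⟨k, ?_⟩
  apply Ψ.injective
  rw [map_mul, map_pow, map_zero]
  exact hk

theorem coreP_curry (R : Type u) [CommRing R] (F : Type v) [CommGroup F] (T : Type w)
    [CommGroup T] [Finite T] (h : CoreP (MonoidAlgebra R T) F) : CoreP R (F × T) := by
  intro a x H
  obtain ⟨Ψ, hΨ⟩ : ∃ Ψ : MonoidAlgebra R (F × T) ≃+* MonoidAlgebra (MonoidAlgebra R T) F,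
      ∀ m₁ m₂ r, Ψ (MonoidAlgebra.single (m₁, m₂) r) =
        MonoidAlgebra.single m₁ (MonoidAlgebra.single m₂ r) :=
    ⟨MonoidAlgebra.curryRingEquiv, fun m₁ m₂ r => MonoidAlgebra.curryRingEquiv_single m₁ m₂ r⟩
  obtain ⟨k, hk⟩ := h (Ψ a) (Ψ x) (fun n hn => by
    obtain ⟨k, hk⟩ := H (n * Nat.card T) (Nat.mul_pos hn Nat.card_pos)
    refine ⟨k, ?_⟩
    have h1 := ker_pin_le (n := n * Nat.card T)
      (((pin (MonoidAlgebra R T) F n : MonoidAlgebra (MonoidAlgebra R T) F →ₐ[MonoidAlgebra R T]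
          MonoidAlgebra (MonoidAlgebra R T) (F ⧸ Hn F n)) :
        MonoidAlgebra (MonoidAlgebra R T) F →+* MonoidAlgebra (MonoidAlgebra R T) (F ⧸ Hn F n)).comp
        (Ψ : MonoidAlgebra R (F × T) →+* MonoidAlgebra (MonoidAlgebra R T) F)) (fun m => by
        obtain ⟨m₁, m₂⟩ := m
        show pin (MonoidAlgebra R T) F n
          (Ψ (MonoidAlgebra.single ((m₁, m₂) ^ (n * Nat.card T)) 1)) = 1
        have h2 : m₂ ^ (n * Nat.card T) = 1 := by
          rw [pow_mul', pow_card_eq_one', one_pow]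
        have h3 : (QuotientGroup.mk' (Hn F n)) (m₁ ^ (n * Nat.card T)) = 1 :=
          (QuotientGroup.eq_one_iff _).mpr ⟨m₁ ^ Nat.card T, (pow_mul' m₁ n (Nat.card T)).symm⟩
        rw [Prod.pow_mk, hΨ, h2, pin_single, h3, MonoidAlgebra.one_def, MonoidAlgebra.one_def])
      _ hk
    have h4 : pin (MonoidAlgebra R T) F n (Ψ (a ^ k * x)) = 0 := h1
    rw [map_mul, map_pow] at h4
    exact h4)
  refine ⟨k, ?_⟩
  apply Ψ.injective
  rw [map_mul, map_pow, map_zero]
  exact hk

end Transport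

section All

theorem core_prod (R : Type u) [CommRing R] [IsNoetherianRing R] (F : Type v) [CommGroup F]
    [Group.FG F] (htf : ∀ p : ℕ, p.Prime → ∀ m : F, m ^ p = 1 → m = 1) (T : Type w)
    [CommGroup T] [Finite T] : CoreP R (F × T) := by
  haveI : Algebra.FiniteType R (MonoidAlgebra R T) := inferInstance
  haveI : IsNoetherianRing (MonoidAlgebra R T) := Algebra.FiniteType.isNoetherianRing R _
  exact coreP_curry R F T (core_noeth (MonoidAlgebra R T) F htf)

theorem core_fg (R : Type u) [CommRing R] [IsNoetherianRing R] (M : Type v) [CommGroup M]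
    [Group.FG M] : CoreP R M := by
  obtain ⟨ι, j, _, _, p, hp, e, ⟨e₀⟩⟩ := CommGroup.equiv_free_prod_prod_multiplicative_zmod M
  haveI : ∀ i, NeZero (p i ^ e i) := fun i => ⟨pow_ne_zero _ (hp i).ne_zero⟩
  haveI : Group.FG (j → Multiplicative ℤ) := by
    refine Group.fg_of_surjective
      (f := (MonoidHom.fst (j → Multiplicative ℤ)
        ((i : ι) → Multiplicative (ZMod (p i ^ e i)))).comp e₀.toMonoidHom) ?_
    intro y
    exact ⟨e₀.symm (y, 1), by simp⟩
  refine coreP_of_mulEquiv e₀ (core_prod R (j → Multiplicative ℤ) ?_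
    ((i : ι) → Multiplicative (ZMod (p i ^ e i))))
  intro q hq m hm
  funext i
  have h1 : (m i) ^ q = 1 := congrFun hm i
  have h2 : q • Multiplicative.toAdd (m i) = 0 := by
    rw [← toAdd_pow, h1, toAdd_one]
  rw [nsmul_eq_mul, mul_eq_zero] at h2
  rcases h2 with h | h
  · exact absurd (Nat.cast_eq_zero.mp h) hq.ne_zero
  · exact Multiplicative.toAdd.injective (by rw [h]; rfl)

theorem core_all (R : Type u) [CommRing R] (M : Type v) [CommGroup M] [Group.FG M] :
    CoreP R M := by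
  classical
  intro a x H
  obtain ⟨s, hs⟩ : ∃ s : Finset R, s = a.coeff.support.image a.coeff ∪
      x.coeff.support.image x.coeff := ⟨_, rfl⟩
  obtain ⟨A₀, hA₀⟩ : ∃ A₀ : Subalgebra ℤ R, A₀ = Algebra.adjoin ℤ (s : Set R) := ⟨_, rfl⟩
  haveI : Algebra.FiniteType ℤ A₀ := by
    rw [hA₀]
    exact (Subalgebra.fg_iff_finiteType _).mp (Subalgebra.fg_adjoin_finset s)
  haveI : IsNoetherianRing A₀ := Algebra.FiniteType.isNoetherianRing ℤ A₀
  have hmem : ∀ y : MonoidAlgebra R M, y.coeff.support.image y.coeff ⊆ s →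
      ∀ m, ∃ t : A₀, A₀.val.toRingHom t = y.coeff m := by
    intro y hys m
    by_cases hm : m ∈ y.coeff.support
    · have h1 : y.coeff m ∈ A₀ := by
        rw [hA₀]
        exact Algebra.subset_adjoin (Finset.mem_coe.mpr
          (hys (Finset.mem_image_of_mem _ hm)))
      exact ⟨⟨y.coeff m, h1⟩, rfl⟩
    · rw [Finsupp.notMem_support_iff] at hm
      exact ⟨0, by rw [map_zero, hm]⟩
  obtain ⟨a₀, ha₀⟩ := exists_map_eq A₀.val.toRingHom a
    (hmem a (by rw [hs]; exact Finset.subset_union_left))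
  obtain ⟨x₀, hx₀⟩ := exists_map_eq A₀.val.toRingHom x
    (hmem x (by rw [hs]; exact Finset.subset_union_right))
  have hinj : Function.Injective A₀.val.toRingHom := Subtype.val_injective
  obtain ⟨k, hk⟩ := core_fg A₀ M a₀ x₀ (fun n hn => by
    obtain ⟨k, hk⟩ := H n hn
    refine ⟨k, ?_⟩
    apply mapRingHom_injective (M ⧸ Hn M n) A₀.val.toRingHom hinj
    rw [map_zero, ← pin_natural, map_mul, map_pow, ha₀, hx₀]
    exact hk)
  refine ⟨k, ?_⟩
  rw [← ha₀, ← hx₀, ← map_pow, ← map_mul, hk, map_zero]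

end All

section Main

variable (R : Type u) [CommRing R] (A : Type u) [CommRing A] [HopfAlgebra R A]

theorem local_step (hft : Algebra.FiniteType R A) (f : R)
    (hc : IsMultTypeConst (Localization.Away f) (Localization.Away f ⊗[R] A)) (a x : A)
    (H : ∀ n : ℕ, 0 < n → ∃ k : ℕ, a ^ k * x ∈ torsionIdeal R A n) :
    ∃ j k : ℕ, f ^ j • (a ^ k * x) = 0 := by
  obtain ⟨R', _, _, hff, M, _, ⟨θ⟩⟩ := hc
  haveI := hff
  haveI := hft
  obtain ⟨emb, hemb⟩ : ∃ emb : A → MonoidAlgebra R' M, ∀ z, emb z =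
      θ ((1 : R') ⊗ₜ[Localization.Away f] ((1 : Localization.Away f) ⊗ₜ[R] z)) :=
    ⟨_, fun _ => rfl⟩
  have hmul : ∀ y z, emb (y * z) = emb y * emb z := by
    intro y z
    rw [hemb, hemb, hemb, ← map_mul, Algebra.TensorProduct.tmul_mul_tmul,
      Algebra.TensorProduct.tmul_mul_tmul, mul_one, mul_one]
  have hpow : ∀ y (k : ℕ), emb (y ^ k) = emb y ^ k := by
    intro y k
    induction k with
    | zero =>
      rw [pow_zero, pow_zero, hemb, ← Algebra.TensorProduct.one_def,
        ← Algebra.TensorProduct.one_def, map_one]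
    | succ k ih => rw [pow_succ, pow_succ, hmul, ih]
  have hzero : ∀ z : A, emb z = 0 → ∃ j : ℕ, f ^ j • z = 0 := by
    intro z hz
    rw [hemb] at hz
    have h4 : (1 : R') ⊗ₜ[Localization.Away f] ((1 : Localization.Away f) ⊗ₜ[R] z) = 0 :=
      (EquivLike.injective θ) (by rw [map_zero]; exact hz)
    have h5 : (1 : Localization.Away f) ⊗ₜ[R] z = 0 :=
      Module.FaithfullyFlat.tensorProduct_mk_injective (A := Localization.Away f) (B := R')
        (Localization.Away f ⊗[R] A) (by rw [map_zero]; exact h4)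
    haveI : IsLocalizedModule (Submonoid.powers f)
        (TensorProduct.mk R (Localization.Away f) A 1) :=
      (isLocalizedModule_iff_isBaseChange (Submonoid.powers f) (Localization.Away f) _).mpr
        (TensorProduct.isBaseChange R A (Localization.Away f))
    obtain ⟨c, hc⟩ := (IsLocalizedModule.eq_zero_iff (Submonoid.powers f)
      (TensorProduct.mk R (Localization.Away f) A 1)).mp h5
    obtain ⟨j, hj⟩ := c.2
    have hj' : f ^ j = (c : R) := hj
    refine ⟨j, ?_⟩
    rw [hj']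
    exact hc
  by_cases hnt : Nontrivial R'
  · haveI := hnt
    haveI : Group.FG M := by
      have h1 : Algebra.FiniteType R'
          (R' ⊗[Localization.Away f] (Localization.Away f ⊗[R] A)) := inferInstance
      have h2 : Algebra.FiniteType R' (MonoidAlgebra R' M) :=
        Algebra.FiniteType.equiv h1 θ.toAlgEquiv
      exact MonoidAlgebra.finiteType_iff_group_fg.mp h2
    obtain ⟨k, hk⟩ := core_all R' M (emb a) (emb x) (fun n hn => by
      obtain ⟨k, hk⟩ := H n hn
      refine ⟨k, ?_⟩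
      rw [← hpow, ← hmul, hemb]
      have hT : (1 : R') ⊗ₜ[Localization.Away f]
          ((1 : Localization.Away f) ⊗ₜ[R] (a ^ k * x)) ∈
          MultTorsH1.Tee R A (Localization.Away f) R' n := by
        unfold MultTorsH1.Tee
        exact Ideal.mem_map_of_mem (Algebra.TensorProduct.includeRight :
            Localization.Away f ⊗[R] A →ₐ[Localization.Away f]
              R' ⊗[Localization.Away f] (Localization.Away f ⊗[R] A))
          (Ideal.mem_map_of_mem (Algebra.TensorProduct.includeRight :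
            A →ₐ[R] Localization.Away f ⊗[R] A) hk)
      exact (MultTorsH1.kerEq θ n _).mp hT)
    rw [← hpow, ← hmul] at hk
    obtain ⟨j, hj⟩ := hzero _ hk
    exact ⟨j, k, hj⟩
  · rw [not_nontrivial_iff_subsingleton] at hnt
    haveI := hnt
    haveI : Subsingleton (MonoidAlgebra R' M) := Module.subsingleton R' _
    obtain ⟨j, hj⟩ := hzero (a ^ 0 * x) (Subsingleton.elim _ _)
    exact ⟨j, 0, hj⟩

theorem dense_of_multType (hft : Algebra.FiniteType R A) (h : IsMultType R A) (a x : A)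
    (H : ∀ n : ℕ, 0 < n → ∃ k : ℕ, a ^ k * x ∈ torsionIdeal R A n) :
    ∃ k : ℕ, a ^ k * x = 0 := by
  obtain ⟨s, hs, hconst⟩ := h
  obtain ⟨𝔞, h𝔞⟩ : ∃ 𝔞 : Ideal R, ∀ r, r ∈ 𝔞 ↔ ∃ k : ℕ, a ^ k * (r • x) = 0 :=
    ⟨{ carrier := {r | ∃ k : ℕ, a ^ k * (r • x) = 0}
       add_mem' := by
         rintro r₁ r₂ ⟨k₁, h₁⟩ ⟨k₂, h₂⟩
         refine ⟨k₁ + k₂, ?_⟩
         have e1 : a ^ (k₁ + k₂) * (r₁ • x) = a ^ k₂ * (a ^ k₁ * (r₁ • x)) := by ring
         have e2 : a ^ (k₁ + k₂) * (r₂ • x) = a ^ k₁ * (a ^ k₂ * (r₂ • x)) := by ring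
         rw [add_smul, mul_add, e1, e2, h₁, h₂, mul_zero, mul_zero, add_zero]
       zero_mem' := ⟨0, by rw [zero_smul, mul_zero]⟩
       smul_mem' := by
         rintro c r ⟨k, hk⟩
         refine ⟨k, ?_⟩
         rw [smul_eq_mul, mul_smul, mul_smul_comm, hk, smul_zero] }, fun r => Iff.rfl⟩
  have htop : 𝔞 = ⊤ := by
    by_contra hne
    obtain ⟨𝔪, h𝔪, hle⟩ := Ideal.exists_le_maximal 𝔞 hne
    have hex : ∃ f ∈ s, f ∉ 𝔪 := by
      by_contra hno
      have hsub : Ideal.span s ≤ 𝔪 := Ideal.span_le.mpr (fun g hg => by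
        by_contra hgm
        exact hno ⟨g, hg, hgm⟩)
      rw [hs] at hsub
      exact h𝔪.ne_top (top_le_iff.mp hsub)
    obtain ⟨f, hfs, hfm⟩ := hex
    obtain ⟨j, k, hjk⟩ := local_step R A hft f (hconst f hfs) a x H
    have hmem : f ^ j ∈ 𝔞 := by
      rw [h𝔞]
      refine ⟨k, ?_⟩
      rw [mul_smul_comm]
      exact hjk
    exact hfm (h𝔪.isPrime.mem_of_pow_mem j (hle hmem))
  have h1 : (1 : R) ∈ 𝔞 := by rw [htop]; exact Submodule.mem_top
  rw [h𝔞] at h1
  obtain ⟨k, hk⟩ := h1
  rw [one_smul] at hk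
  exact ⟨k, hk⟩

theorem main2981 (hft : Algebra.FiniteType R A) (h : IsMultType R A) :
    ∀ a : A, ⨅ n : {n : ℕ // 0 < n},
      Ideal.map (algebraMap A (Localization.Away a)) (torsionIdeal R A n.1) = ⊥ := by
  intro a
  rw [eq_bot_iff]
  intro y hy
  rw [Ideal.mem_iInf] at hy
  rw [Ideal.mem_bot]
  obtain ⟨x, s₀, rfl⟩ := IsLocalization.exists_mk'_eq (Submonoid.powers a) y
  have H : ∀ n : ℕ, 0 < n → ∃ k : ℕ, a ^ k * x ∈ torsionIdeal R A n := by
    intro n hn
    have h1 := hy ⟨n, hn⟩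
    rw [IsLocalization.mem_map_algebraMap_iff (Submonoid.powers a) (Localization.Away a)] at h1
    obtain ⟨⟨⟨t, ht⟩, s₁⟩, h2⟩ := h1
    have h3 : algebraMap A (Localization.Away a) (x * s₁) =
        algebraMap A (Localization.Away a) (t * s₀) := by
      have h4 := IsLocalization.mk'_spec (Localization.Away a) x s₀
      have h5 : IsLocalization.mk' (Localization.Away a) x s₀ *
          algebraMap A (Localization.Away a) (s₁ : A) = algebraMap A (Localization.Away a) t := h2
      rw [map_mul, map_mul, ← h4, ← h5]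
      ring
    obtain ⟨c, hc⟩ := (IsLocalization.eq_iff_exists (Submonoid.powers a)
      (Localization.Away a)).mp h3
    obtain ⟨i, hi⟩ := c.2
    obtain ⟨l, hl⟩ := s₁.2
    have hi' : a ^ i = (c : A) := hi
    have hl' : a ^ l = (s₁ : A) := hl
    refine ⟨i + l, ?_⟩
    have h6 : a ^ (i + l) * x = (c : A) * (x * (s₁ : A)) := by
      rw [pow_add, hi', hl']
      ring
    rw [h6, hc]
    exact Ideal.mul_mem_left _ _ (Ideal.mul_mem_right _ _ ht)
  obtain ⟨k, hk⟩ := dense_of_multType R A hft h a x H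
  rw [IsLocalization.mk'_eq_zero_iff]
  exact ⟨⟨a ^ k, k, rfl⟩, hk⟩

end Main

end Groth.Agent.Lib.TorsDenseH1
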