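import Mathlib

/-!
# An abstract dévissage lemma (helper7, for S14067)

Over a Noetherian ring `R₀`, a family of linear maps `C₀ → B i` of flat modules which is jointly
injective after tensoring with every `R₀`-field stays jointly injective after tensoring with
any `R₀`-module.
-/

namespace Groth.Agent.Lib.TorsQH7

open TensorProduct

universe u

section ADL

variable {R₀ : Type u} [CommRing R₀]
variable {C₀ : Type u} [AddCommGroup C₀] [Module R₀ C₀]
variable {ι : Type*} (B : ι → Type u) [∀ i, AddCommGroup (B i)] [∀ i, Module R₀ (B i)]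
variable (j : ∀ i, C₀ →ₗ[R₀] B i)

/-- joint injectivity after tensoring with `M`. -/
def JointInj (M : Type u) [AddCommGroup M] [Module R₀ M] : Prop :=
  ∀ z : M ⊗[R₀] C₀, (∀ i, (j i).lTensor M z = 0) → z = 0

variable {B j}

lemma comm_sq {M M' : Type u} [AddCommGroup M] [Module R₀ M] [AddCommGroup M'] [Module R₀ M']
    (f : M →ₗ[R₀] M') (i : ι) (z : M ⊗[R₀] C₀) :
    (j i).lTensor M' (f.rTensor C₀ z) = f.rTensor (B i) ((j i).lTensor M z) := by
  rw [← LinearMap.comp_apply, ← LinearMap.comp_apply, LinearMap.lTensor_comp_rTensor,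
    LinearMap.rTensor_comp_lTensor]

lemma jointInj_of_injective {M M' : Type u} [AddCommGroup M] [Module R₀ M] [AddCommGroup M']
    [Module R₀ M'] (f : M →ₗ[R₀] M') (hf : Function.Injective (f.rTensor C₀))
    (h : JointInj B j M') : JointInj B j M := by
  intro z hz
  apply hf
  rw [map_zero]
  apply h
  intro i
  rw [comm_sq, hz i, map_zero]

lemma jointInj_of_exact [∀ i, Module.Flat R₀ (B i)]
    {M₁ M₂ M₃ : Type u} [AddCommGroup M₁] [Module R₀ M₁] [AddCommGroup M₂] [Module R₀ M₂]
    [AddCommGroup M₃] [Module R₀ M₃] (f : M₁ →ₗ[R₀] M₂) (g : M₂ →ₗ[R₀] M₃)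
    (hf : Function.Injective f) (hg : Function.Surjective g) (hfg : Function.Exact f g)
    (h₁ : JointInj B j M₁) (h₃ : JointInj B j M₃) : JointInj B j M₂ := by
  intro z hz
  have hz3 : g.rTensor C₀ z = 0 := by
    apply h₃
    intro i
    rw [comm_sq, hz i, map_zero]
  have hex : Function.Exact (f.rTensor C₀) (g.rTensor C₀) := rTensor_exact C₀ hfg hg
  obtain ⟨z₁, rfl⟩ := (hex z).mp hz3
  have hz1 : z₁ = 0 := by
    apply h₁
    intro i
    have hinj : Function.Injective (f.rTensor (B i)) :=
      Module.Flat.rTensor_preserves_injective_linearMap f hf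
    apply hinj
    rw [map_zero, ← comm_sq, hz i]
  rw [hz1, map_zero]

theorem jointInj_of_fields [IsNoetherianRing R₀] [Module.Flat R₀ C₀] [∀ i, Module.Flat R₀ (B i)]
    (H : ∀ (K : Type u) [Field K] [Algebra R₀ K], JointInj B j K)
    (M : Type u) [AddCommGroup M] [Module R₀ M] : JointInj B j M := by
  have hfin : ∀ (M : Type u) [AddCommGroup M] [Module R₀ M] [Module.Finite R₀ M],
      JointInj B j M := by
    intro M _ _ hM
    induction hM using IsNoetherianRing.induction_on_isQuotientEquivQuotientPrime R₀ with
    | subsingleton N =>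
      intro z _
      have hsub : ∀ w : N ⊗[R₀] C₀, w = 0 := by
        intro w
        induction w using TensorProduct.induction_on with
        | zero => rfl
        | tmul x y => rw [Subsingleton.elim x 0, TensorProduct.zero_tmul]
        | add x y hx hy => rw [hx, hy, add_zero]
      exact hsub z
    | quotient N p e =>
      let K := FractionRing (R₀ ⧸ p.asIdeal)
      let f : N →ₗ[R₀] K :=
        ((Algebra.linearMap (R₀ ⧸ p.asIdeal) K).restrictScalars R₀) ∘ₗ e.toLinearMap
      have hfinj : Function.Injective f :=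
        (IsFractionRing.injective (R₀ ⧸ p.asIdeal) K).comp e.injective
      exact jointInj_of_injective f
        (Module.Flat.rTensor_preserves_injective_linearMap f hfinj) (H K)
    | exact N₁ N₂ N₃ f g hf hg hfg h₁ h₃ => exact jointInj_of_exact f g hf hg hfg h₁ h₃
  intro z hz
  obtain ⟨M', hM', hzM'⟩ :=
    TensorProduct.exists_finite_submodule_left_of_setFinite {z} (Set.finite_singleton z)
  obtain ⟨z', rfl⟩ := hzM' (Set.mem_singleton z)
  have hz' : z' = 0 := by
    apply hfin M'
    intro i
    have hinj : Function.Injective (M'.subtype.rTensor (B i)) :=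
      Module.Flat.rTensor_preserves_injective_linearMap _ M'.subtype_injective
    apply hinj
    rw [map_zero, ← comm_sq, hz i]
  rw [hz', map_zero]

end ADL

end Groth.Agent.Lib.TorsQH7
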