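import Mathlib
import Groth.Agent.Lib.TorsQ_helper7

/-!
# Torsion points are dense: the field case (helper7, for S14067)
-/

namespace Groth.Agent.Lib.TorsQH7

open MvPolynomial AlgebraicGeometry CategoryTheory TensorProduct

universe u

/-- A ring map `φ : A → B` such that `B` is a quotient of `A[1/f]` induces an immersion. -/
theorem isImmersion_of_away {A B : Type u} [CommRing A] [CommRing B] (φ : A →+* B) (f : A)
    (hf : IsUnit (φ f)) (hsurj : ∀ b, ∃ (k : ℕ) (a : A), φ f ^ k * b = φ a) :
    IsImmersion (Spec.map (CommRingCat.ofHom φ)) := by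
  let ψ : Localization.Away f →+* B := IsLocalization.Away.lift f hf
  have hψ : ψ.comp (algebraMap A (Localization.Away f)) = φ :=
    IsLocalization.Away.lift_comp f hf
  have hsurjψ : Function.Surjective ψ := by
    intro b
    obtain ⟨k, a, hka⟩ := hsurj b
    refine ⟨algebraMap A _ a * (IsLocalization.Away.invSelf f : Localization.Away f) ^ k, ?_⟩
    have h1 : ψ (algebraMap A _ f) = φ f := IsLocalization.Away.lift_eq f hf f
    have h2 : φ f * ψ (IsLocalization.Away.invSelf f : Localization.Away f) = 1 := by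
      rw [← h1, ← map_mul, IsLocalization.Away.mul_invSelf, map_one]
    apply (hf.pow k).mul_left_cancel
    rw [hka, map_mul, map_pow]
    have h3 : ψ (algebraMap A _ a) = φ a := IsLocalization.Away.lift_eq f hf a
    rw [h3]
    calc φ f ^ k * (φ a * ψ (IsLocalization.Away.invSelf f : Localization.Away f) ^ k)
        = φ a * (φ f * ψ (IsLocalization.Away.invSelf f : Localization.Away f)) ^ k := by ring
      _ = φ a := by rw [h2, one_pow, mul_one]
  have hfac : Spec.map (CommRingCat.ofHom φ) = Spec.map (CommRingCat.ofHom ψ) ≫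
      Spec.map (CommRingCat.ofHom (algebraMap A (Localization.Away f))) := by
    rw [← Spec.map_comp, ← CommRingCat.ofHom_comp, hψ]
  rw [hfac]
  have : IsClosedImmersion (Spec.map (CommRingCat.ofHom ψ)) :=
    IsClosedImmersion.spec_of_surjective _ hsurjψ
  infer_instance

/-- The set of roots of unity of order prime to the characteristic is infinite. -/
theorem torsion_infinite (K : Type u) [Field K] :
    {ζ : AlgebraicClosure K | ∃ N : ℕ, (N : K) ≠ 0 ∧ ζ ^ N = 1}.Infinite := by
  let T : Set ℕ := {N | (N : K) ≠ 0}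
  have hT : T.Infinite := by
    apply Set.infinite_of_forall_exists_gt
    intro a
    by_cases h : ((a + 1 : ℕ) : K) ≠ 0
    · exact ⟨a + 1, h, by omega⟩
    · refine ⟨a + 2, ?_, by omega⟩
      intro h2
      simp only [not_not] at h
      have h3 : ((a + 2 : ℕ) : K) = ((a + 1 : ℕ) : K) + 1 := by push_cast; ring
      rw [h3, h, zero_add] at h2
      exact one_ne_zero h2
  have hprim : ∀ N : T, ∃ ζ : AlgebraicClosure K, IsPrimitiveRoot ζ N.1 := fun N => by
    have : NeZero ((N.1 : ℕ) : K) := ⟨N.2⟩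
    exact HasEnoughRootsOfUnity.exists_primitiveRoot (AlgebraicClosure K) N.1
  choose ζ hζ using hprim
  have hinj : Function.Injective ζ := fun a b hab => by
    apply Subtype.ext
    rw [(hζ a).eq_orderOf, (hζ b).eq_orderOf, hab]
  have : Infinite T := hT.to_subtype
  exact Set.infinite_of_injective_forall_mem hinj (fun N => ⟨N.1, N.2, (hζ N).pow_eq_one⟩)

/-- A nonzero polynomial does not vanish at some torsion point of order prime to the
characteristic. -/
theorem exists_torsion_point (K : Type u) [Field K] (n : ℕ) (h : MvPolynomial (Fin n) K)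
    (hh : h ≠ 0) :
    ∃ (N : ℕ) (ζ : Fin n → AlgebraicClosure K), (N : K) ≠ 0 ∧ (∀ i, ζ i ^ N = 1) ∧
      aeval ζ h ≠ 0 := by
  classical
  let L := AlgebraicClosure K
  let S : Set L := {ζ : L | ∃ N : ℕ, (N : K) ≠ 0 ∧ ζ ^ N = 1}
  have hS : S.Infinite := torsion_infinite K
  have hmap : map (algebraMap K L) h ≠ 0 := by
    intro h0
    apply hh
    apply map_injective _ (algebraMap K L).injective
    rw [h0, map_zero]
  have hex : ∃ x ∈ Set.pi Set.univ (fun _ : Fin n => S), eval x (map (algebraMap K L) h) ≠ 0 := by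
    by_contra hcon
    push_neg at hcon
    apply hmap
    apply funext_set (fun _ : Fin n => S) (fun _ => hS)
    intro x hx
    rw [hcon x hx, map_zero]
  obtain ⟨x, hx, hxne⟩ := hex
  have hx' : ∀ i, ∃ N : ℕ, (N : K) ≠ 0 ∧ x i ^ N = 1 := fun i => hx i (Set.mem_univ i)
  choose Ni hNi hxi using hx'
  refine ⟨∏ i, Ni i, x, ?_, ?_, ?_⟩
  · rw [Nat.cast_prod]
    exact Finset.prod_ne_zero_iff.mpr (fun i _ => hNi i)
  · intro i
    obtain ⟨m, hm⟩ := Finset.dvd_prod_of_mem Ni (Finset.mem_univ i)
    rw [hm, pow_mul, hxi, one_pow]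
  · rw [aeval_def, eval₂_eq_eval_map]
    exact hxne

/-- The field case: over a field `K`, an étale `K[x]`-algebra `E` and `z ≠ 0` in `E`: there is a
prime of `E` not containing `z` lying over a torsion point of order prime to the characteristic. -/
theorem field_case (K : Type u) [Field K] (n : ℕ) (E : Type u) [CommRing E]
    [Algebra (MvPolynomial (Fin n) K) E] [Algebra.Etale (MvPolynomial (Fin n) K) E]
    (z : E) (hz : z ≠ 0) :
    ∃ (N : ℕ), (N : K) ≠ 0 ∧ ∃ 𝔮 : Ideal E, 𝔮.IsPrime ∧ z ∉ 𝔮 ∧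
      ∀ i, (algebraMap (MvPolynomial (Fin n) K) E (X i)) ^ N - 1 ∈ 𝔮 := by
  -- Step 1: `z` is not nilpotent
  have hnil : ¬ IsNilpotent z := by
    let P := MvPolynomial (Fin n) K
    let L := FractionRing P
    have inj : Function.Injective
        (Algebra.TensorProduct.includeRight : E →ₐ[P] L ⊗[P] E) :=
      Algebra.TensorProduct.includeRight_injective (IsFractionRing.injective P L)
    have hred : IsReduced (L ⊗[P] E) := Algebra.FormallyUnramified.isReduced_of_field L (L ⊗[P] E)
    rintro ⟨k, hk⟩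
    apply hz
    apply inj
    rw [map_zero]
    apply IsReduced.eq_zero
    exact ⟨k, by rw [← map_pow, hk, map_zero]⟩
  -- Step 2: the image of `D(z)` is open and nonempty
  have hopen := PrimeSpectrum.isOpenMap_comap_of_hasGoingDown_of_finitePresentation
    (R := MvPolynomial (Fin n) K) (S := E)
  have hU : IsOpen (PrimeSpectrum.comap (algebraMap (MvPolynomial (Fin n) K) E) ''
      (PrimeSpectrum.basicOpen z : Set (PrimeSpectrum E))) :=
    hopen _ (PrimeSpectrum.basicOpen z).2
  have hne : (PrimeSpectrum.basicOpen z : Set (PrimeSpectrum E)).Nonempty := by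
    rw [Set.nonempty_iff_ne_empty]
    intro hemp
    apply hnil
    rw [← PrimeSpectrum.basicOpen_eq_bot_iff]
    exact TopologicalSpace.Opens.ext hemp
  obtain ⟨𝔮₀, h𝔮₀⟩ := hne
  obtain ⟨_, ⟨h, rfl⟩, hq₀h, hsub⟩ :=
    PrimeSpectrum.isTopologicalBasis_basic_opens.exists_subset_of_mem_open
      (Set.mem_image_of_mem _ h𝔮₀) hU
  have hh : h ≠ 0 := by
    rintro rfl
    simp at hq₀h
  -- Step 3: a torsion point in `D(h)`
  obtain ⟨N, ζ, hNK, hζ, hne⟩ := exists_torsion_point K n h hh
  let ev : MvPolynomial (Fin n) K →ₐ[K] AlgebraicClosure K := aeval ζ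
  let q : PrimeSpectrum (MvPolynomial (Fin n) K) :=
    ⟨RingHom.ker ev.toRingHom, RingHom.ker_isPrime _⟩
  have hq : q ∈ (PrimeSpectrum.basicOpen h : Set _) := by
    change h ∉ RingHom.ker ev.toRingHom
    rw [RingHom.mem_ker]
    exact hne
  obtain ⟨𝔮, h𝔮z, h𝔮q⟩ := hsub hq
  refine ⟨N, hNK, 𝔮.asIdeal, 𝔮.2, h𝔮z, fun i => ?_⟩
  have hmem : (X i ^ N - 1 : MvPolynomial (Fin n) K) ∈ q.asIdeal := by
    change _ ∈ RingHom.ker ev.toRingHom
    rw [RingHom.mem_ker]
    simp [ev, hζ]
  rw [← h𝔮q] at hmem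
  have := (PrimeSpectrum.comap_asIdeal (algebraMap (MvPolynomial (Fin n) K) E) 𝔮) ▸ hmem
  simpa using this

end Groth.Agent.Lib.TorsQH7
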