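import Mathlib
import Groth.Prelude
import Groth.Agent.Lib.LimTrunc1_helper2

/-!
# Systems `(F_n)` with `0 → F_n → F_{n+1} → F_1 → 0` (helper2)

`X` a scheme over `Spec A`, `f : A`, `(G_n)` an inverse system of quasi-coherent modules such that
multiplication by `f` on `G_{n+1}` factors as `G_{n+1} → G_n ↪ G_{n+1}` with
`0 → G_n → G_{n+1} → G_0 → 0` short exact.  Then `(G_n)` is a quasi-coherent formal system for the
ideal `(f)`, `F = lim G_n` is `f`-torsion free and `F/f^{n+1}F = G_n`.

* `main8830` (S8830).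
APPEND-ONLY once landed.
-/

set_option autoImplicit false
set_option backward.isDefEq.respectTransparency false
universe u
open CategoryTheory CategoryTheory.Limits AlgebraicGeometry TopologicalSpace Opposite

namespace Groth.Agent.Lib.TorsFreeSysH2

open Formal Groth.Agent.Lib.FormalModPowH4 Groth.Agent.Lib.FormalFnH2 Groth.Agent.Lib.FibAmpH2
  Groth.Agent.Lib.FormalQuotH2 Groth.Agent.Lib.LimTruncH2

variable {A : Type u} [CommRing A] {X : Scheme.{u}} [X.Over (Spec (CommRingCat.of A))]
  {f : A} {G : ℕᵒᵖ ⥤ X.Modules}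

/-- the transition map -/
noncomputable abbrev tt (G : ℕᵒᵖ ⥤ X.Modules) (n : ℕ) : G.obj (op (n + 1)) ⟶ G.obj (op n) :=
  G.map (homOfLE (Nat.le_succ n)).op

/-- the transition map to the first term -/
noncomputable abbrev pp (G : ℕᵒᵖ ⥤ X.Modules) (n : ℕ) : G.obj (op n) ⟶ G.obj (op 0) :=
  G.map (homOfLE (Nat.zero_le n)).op

theorem tt_pp (n : ℕ) : tt G n ≫ pp G n = pp G (n + 1) :=
  (G.map_comp _ _).symm.trans (congrArg G.map (Subsingleton.elim _ _))

theorem tt_zero : tt G 0 = pp G 1 := congrArg G.map (Subsingleton.elim _ _)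

section

variable (i : ∀ n : ℕ, G.obj (op n) ⟶ G.obj (op (n + 1)))
  (hm : ∀ n, Mono (i n))
  (hfac : ∀ n, tt G n ≫ i n = Formal.smulMod A (G.obj (op (n + 1))) f)
  (hex : ∀ n, ∃ w : i n ≫ pp G (n + 1) = 0,
      (ShortComplex.mk (i n) (pp G (n + 1)) w).ShortExact)

include hex in
theorem epi_pp (n : ℕ) : Epi (pp G (n + 1)) := by
  obtain ⟨w, h⟩ := hex n
  exact h.epi_g

include hex in
theorem i_pp (n : ℕ) : i n ≫ pp G (n + 1) = 0 := (hex n).1

include hex hm in
/-- a map killed by `pp` lifts through `i` -/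
theorem exists_lift_i (n : ℕ) {K : X.Modules} (k : K ⟶ G.obj (op (n + 1)))
    (hk : k ≫ pp G (n + 1) = 0) : ∃ k' : K ⟶ G.obj (op n), k' ≫ i n = k := by
  obtain ⟨w, h⟩ := hex n
  haveI : Mono (ShortComplex.mk (i n) (pp G (n + 1)) w).f := hm n
  exact ⟨h.exact.lift k hk, h.exact.lift_f k hk⟩

include hex in
/-- a map killing `i` factors through `pp` -/
theorem exists_desc_pp (n : ℕ) {Z : X.Modules} (g : G.obj (op (n + 1)) ⟶ Z)
    (hg : i n ≫ g = 0) : ∃ g' : G.obj (op 0) ⟶ Z, pp G (n + 1) ≫ g' = g := by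
  obtain ⟨w, h⟩ := hex n
  haveI : Epi (ShortComplex.mk (i n) (pp G (n + 1)) w).g := h.epi_g
  exact ⟨h.exact.desc g hg, h.exact.g_desc g hg⟩

include hex in
theorem epi_tt_zero : Epi (tt G 0) := by
  rw [tt_zero]
  exact epi_pp i hex 0

include hfac hex in
theorem smul_zero_eq : Formal.smulMod A (G.obj (op 0)) f = 0 := by
  haveI := epi_tt_zero i hex
  rw [← cancel_epi (tt G 0), comp_zero, ← smulMod_naturality, ← hfac 0, Category.assoc]
  have h : i 0 ≫ tt G 0 = 0 := by
    rw [tt_zero]
    exact i_pp i hex 0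
  rw [h, comp_zero]

include hfac hex in
theorem pow_kill (n : ℕ) : Formal.smulMod A (G.obj (op n)) (f ^ (n + 1)) = 0 := by
  induction n with
  | zero =>
    rw [zero_add, pow_one]
    exact smul_zero_eq i hfac hex
  | succ n ih =>
    rw [pow_succ, smulMod_mul, ← hfac n, Category.assoc, ← smulMod_naturality, ih,
      zero_comp, comp_zero]

theorem smulMod_eq_zero_of_mem {M : X.Modules} {k : ℕ}
    (h : Formal.smulMod A M (f ^ k) = 0) {a : A} (ha : a ∈ Ideal.span ({f} : Set A) ^ k) :
    Formal.smulMod A M a = 0 := by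
  rw [Ideal.span_singleton_pow, Ideal.mem_span_singleton'] at ha
  obtain ⟨c, rfl⟩ := ha
  rw [smulMod_mul, h, zero_comp]

theorem smulMod_comp_eq_zero_of_mem {M Z : X.Modules} {k : ℕ} (g : M ⟶ Z)
    (h : Formal.smulMod A M (f ^ k) ≫ g = 0) {a : A} (ha : a ∈ Ideal.span ({f} : Set A) ^ k) :
    Formal.smulMod A M a ≫ g = 0 := by
  rw [Ideal.span_singleton_pow, Ideal.mem_span_singleton'] at ha
  obtain ⟨c, rfl⟩ := ha
  rw [smulMod_mul, Category.assoc, smulMod_naturality g c, ← Category.assoc, h, zero_comp]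

include hfac hex in
theorem killedBy (n : ℕ) :
    Formal.KilledBy (Ideal.span ({f} : Set A) ^ (n + 1)) (G.obj (op n)) :=
  fun _ ha => smulMod_eq_zero_of_mem (pow_kill i hfac hex n) ha

theorem epi_smulMod_pow {C : X.Modules} (h : Epi (Formal.smulMod A C f)) (k : ℕ) :
    Epi (Formal.smulMod A C (f ^ k)) := by
  induction k with
  | zero =>
    rw [pow_zero, smulMod_one]
    infer_instance
  | succ k ih =>
    rw [pow_succ, smulMod_mul]
    exact epi_comp _ _

include hfac hex in
theorem epi_tt (n : ℕ) : Epi (tt G n) := by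
  induction n with
  | zero => exact epi_tt_zero i hex
  | succ n ih =>
    apply Abelian.epi_of_cokernel_π_eq_zero
    set c := cokernel.π (tt G (n + 1)) with hc
    have hcond : tt G (n + 1) ≫ c = 0 := cokernel.condition _
    -- step A
    have hA : Epi (i n ≫ c) := by
      apply Abelian.epi_of_cokernel_π_eq_zero
      set d := cokernel.π (i n ≫ c) with hd
      have h1 : i n ≫ (c ≫ d) = 0 := by
        rw [← Category.assoc]
        exact cokernel.condition _
      obtain ⟨e, he⟩ := exists_desc_pp i hex n (c ≫ d) h1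
      have h2 : pp G (n + 2) ≫ e = 0 := by
        rw [← tt_pp (n + 1), Category.assoc, he, ← Category.assoc, hcond, zero_comp]
      haveI := epi_pp i hex (n + 1)
      have h3 : e = 0 := by
        rw [← cancel_epi (pp G (n + 2)), h2, comp_zero]
      have h4 : c ≫ d = 0 := by rw [← he, h3, comp_zero]
      rw [← cancel_epi c, h4, comp_zero]
    -- step B
    have hB : Epi (Formal.smulMod A (cokernel (tt G (n + 1))) f) := by
      have h1 : tt G n ≫ (i n ≫ c) = c ≫ Formal.smulMod A (cokernel (tt G (n + 1))) f := by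
        rw [← Category.assoc, hfac n, smulMod_naturality]
      haveI : Epi (c ≫ Formal.smulMod A (cokernel (tt G (n + 1))) f) := by
        rw [← h1]
        exact epi_comp _ _
      exact epi_of_epi c _
    -- step C
    have hC : Formal.smulMod A (cokernel (tt G (n + 1))) (f ^ (n + 2)) = 0 := by
      rw [← cancel_epi c, comp_zero, ← smulMod_naturality, pow_kill i hfac hex (n + 1), zero_comp]
    have hD := epi_smulMod_pow hB (n + 2)
    rw [hC] at hD
    have h5 : 𝟙 (cokernel (tt G (n + 1))) = 0 := by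
      rw [← cancel_epi (0 : cokernel (tt G (n + 1)) ⟶ cokernel (tt G (n + 1))), zero_comp,
        zero_comp]
    rw [← Category.comp_id c, h5, comp_zero]

include hfac hex in
theorem i_tt (n : ℕ) : i n ≫ tt G n = Formal.smulMod A (G.obj (op n)) f := by
  haveI := epi_tt i hfac hex n
  rw [← cancel_epi (tt G n), ← Category.assoc, hfac n, smulMod_naturality]

include hm hfac hex in
/-- the universal property of `G_{n+1} → G_n` as the quotient by `f^{n+1}` -/
theorem exists_fac (n : ℕ) : ∀ {Z : X.Modules} (g : G.obj (op (n + 1)) ⟶ Z),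
    Formal.smulMod A (G.obj (op (n + 1))) (f ^ (n + 1)) ≫ g = 0 →
      ∃ g' : G.obj (op n) ⟶ Z, tt G n ≫ g' = g := by
  induction n with
  | zero =>
    intro Z g hg
    have hg' : Formal.smulMod A (G.obj (op (0 + 1))) f ≫ g = 0 := by
      have h0 := hg
      rwa [show f ^ (0 + 1) = f from by rw [zero_add, pow_one]] at h0
    rw [← hfac 0, Category.assoc] at hg'
    haveI := epi_tt_zero i hex
    have h1 : i 0 ≫ g = 0 := by
      rw [← cancel_epi (tt G 0), hg', comp_zero]
    obtain ⟨g', hg'⟩ := exists_desc_pp i hex 0 g h1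
    exact ⟨g', by rw [tt_zero]; exact hg'⟩
  | succ n ih =>
    intro Z g hg
    haveI := epi_tt i hfac hex (n + 1)
    have h1 : Formal.smulMod A (G.obj (op (n + 1))) (f ^ (n + 1)) ≫ (i (n + 1) ≫ g) = 0 := by
      rw [← cancel_epi (tt G (n + 1)), comp_zero, ← Category.assoc, ← smulMod_naturality,
        Category.assoc, ← Category.assoc (tt G (n + 1)), hfac (n + 1), ← Category.assoc,
        ← smulMod_mul, ← pow_succ']
      exact hg
    obtain ⟨h, hh⟩ := ih (i (n + 1) ≫ g) h1
    apply exists_fac_of_epi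
    set k := kernel.ι (tt G (n + 1)) with hk
    have h2 : k ≫ pp G (n + 2) = 0 := by
      rw [← tt_pp (n + 1), ← Category.assoc, hk, kernel.condition, zero_comp]
    obtain ⟨k', hk'⟩ := exists_lift_i i hm hex (n + 1) k h2
    have h3 : k' ≫ Formal.smulMod A (G.obj (op (n + 1))) f = 0 := by
      rw [← i_tt i hfac hex (n + 1), ← Category.assoc, hk', hk, kernel.condition]
    have h4 : k' ≫ tt G n = 0 := by
      haveI := hm n
      rw [← cancel_mono (i n), Category.assoc, hfac n, h3, zero_comp]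
    rw [← hk', Category.assoc, ← hh, ← Category.assoc, h4, zero_comp]

include hm hfac hex in
theorem isQuot_tt (n : ℕ) : IsQuot (Ideal.span ({f} : Set A) ^ (n + 1)) (tt G n) := by
  refine ⟨fun a ha => ?_, epi_tt i hfac hex n, fun Z g hg => ?_⟩
  · rw [smulMod_naturality, killedBy i hfac hex n a ha, comp_zero]
  · exact exists_fac i hm hfac hex n g
      (hg _ (Ideal.pow_mem_pow (Ideal.mem_span_singleton_self f) _))

include hm hfac hex in
theorem isQCohFormal (hqc : ∀ n : ℕᵒᵖ, Coh.IsQCoh (G.obj n)) :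
    Formal2.IsQCohFormal (Ideal.span ({f} : Set A)) G :=
  ⟨fun n => hqc (op n), killedBy i hfac hex, fun n => (isQuot_tt i hm hfac hex n).cond⟩

include hm hfac in
theorem mono_smul_limit : Mono (Formal.smulMod A (limit G) f) := by
  apply Preadditive.mono_of_cancel_zero
  intro Z k hk
  apply limit.hom_ext
  intro j
  obtain ⟨n⟩ := j
  rw [zero_comp]
  have hw : limit.π G (op (n + 1)) ≫ tt G n = limit.π G (op n) :=
    limit.w G (homOfLE (Nat.le_succ n)).op
  haveI := hm n
  rw [← hw, ← cancel_mono (i n), zero_comp, Category.assoc, Category.assoc, hfac n,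
    ← smulMod_naturality, ← Category.assoc, hk, zero_comp]

end

theorem main8830 (f : A) (G : ℕᵒᵖ ⥤ X.Modules) (hqc : ∀ n : ℕᵒᵖ, Coh.IsQCoh (G.obj n))
    (h1 : ∀ n : ℕ, ∃ i : G.obj (op n) ⟶ G.obj (op (n + 1)), Mono i ∧
      G.map (homOfLE (Nat.le_succ n)).op ≫ i = Formal.smulMod A (G.obj (op (n + 1))) f ∧
      ∃ w : i ≫ G.map (homOfLE (Nat.zero_le (n + 1))).op = 0,
        (ShortComplex.mk i (G.map (homOfLE (Nat.zero_le (n + 1))).op) w).ShortExact) :
    ∃ F : X.Modules, Mono (Formal.smulMod A F f) ∧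
      Nonempty (Formal.completion (Ideal.span ({f} : Set A)) F ≅ G) := by
  choose i hi using h1
  have hm : ∀ n, Mono (i n) := fun n => (hi n).1
  have hfac : ∀ n, tt G n ≫ i n = Formal.smulMod A (G.obj (op (n + 1))) f := fun n => (hi n).2.1
  have hex : ∀ n, ∃ w : i n ≫ pp G (n + 1) = 0,
      (ShortComplex.mk (i n) (pp G (n + 1)) w).ShortExact := fun n => (hi n).2.2
  have hQ := isQCohFormal i hm hfac hex hqc
  have hfg : (Ideal.span ({f} : Set A)).FG := ⟨{f}, by simp⟩
  refine ⟨limit G, mono_smul_limit i hm hfac, ?_⟩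
  exact nonempty_completion_iso_of_isQuot _ (limit G) G (fun n => limit.π G (op n))
    (fun n => by
      obtain ⟨h, hiso⟩ := main0852 A _ G hfg hQ n
      exact IsQuot.of_cond _ h hiso)
    (fun n => limit.w G (homOfLE (Nat.le_succ n)).op)

end Groth.Agent.Lib.TorsFreeSysH2
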