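import Mathlib
import Groth.Agent.Lib.TorsQ_helper7
import Groth.Agent.Lib.TorsBN_helper7
import Groth.Agent.Lib.TorsField_helper7
import Groth.Agent.Lib.TorsDev_helper7

/-!
# Étale quasi-sections detect functions on a standard smooth algebra (helper7, for S14067)
-/

namespace Groth.Agent.Lib.TorsQH7

open MvPolynomial AlgebraicGeometry CategoryTheory TensorProduct

universe u

attribute [local instance] MvPolynomial.algebraMvPolynomial

section Family

variable (n : ℕ) (R₀ : Type u) [CommRing R₀] (C₀ : Type u) [CommRing C₀] [Algebra R₀ C₀]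
  [Algebra (MvPolynomial (Fin n) R₀) C₀] [IsScalarTower R₀ (MvPolynomial (Fin n) R₀) C₀]

theorem field_step [Algebra.Etale (MvPolynomial (Fin n) R₀) C₀] (K : Type u) [Field K]
    [Algebra R₀ K] :
    JointInj (fun N : {N : ℕ // N ≠ 0} => BN n R₀ C₀ N.1)
      (fun N => (inclAlg n R₀ C₀ N.1).toLinearMap) K := by
  intro z hz
  by_contra hne
  let ε : (MvPolynomial (Fin n) K ⊗[MvPolynomial (Fin n) R₀] C₀) ≃ₐ[K] K ⊗[R₀] C₀ :=
    Algebra.IsPushout.cancelBaseChangeAlg R₀ K (MvPolynomial (Fin n) R₀) (MvPolynomial (Fin n) K) C₀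
  have hz' : ε.symm z ≠ 0 := fun h => hne (by simpa using h)
  obtain ⟨N, hNK, 𝔮, h𝔮, hz𝔮, hx𝔮⟩ :=
    field_case K n (MvPolynomial (Fin n) K ⊗[MvPolynomial (Fin n) R₀] C₀) (ε.symm z) hz'
  have hN0 : N ≠ 0 := by
    rintro rfl
    simp at hNK
  let ν : (MvPolynomial (Fin n) K ⊗[MvPolynomial (Fin n) R₀] C₀) ⧸ 𝔮 :=
    algebraMap K _ ((N : K)⁻¹)
  have hν : (N : (MvPolynomial (Fin n) K ⊗[MvPolynomial (Fin n) R₀] C₀) ⧸ 𝔮) * ν = 1 := by
    have h1 : (N : (MvPolynomial (Fin n) K ⊗[MvPolynomial (Fin n) R₀] C₀) ⧸ 𝔮) =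
        algebraMap K _ (N : K) := (map_natCast _ N).symm
    rw [h1, ← map_mul, mul_inv_cancel₀ hNK, map_one]
  let γ : C₀ →ₐ[R₀] (MvPolynomial (Fin n) K ⊗[MvPolynomial (Fin n) R₀] C₀) ⧸ 𝔮 :=
    (Ideal.Quotient.mkₐ R₀ 𝔮).comp
      ((Algebra.TensorProduct.includeRight (R := MvPolynomial (Fin n) R₀)
        (A := MvPolynomial (Fin n) K) (B := C₀)).restrictScalars R₀)
  have hγ : ∀ c, γ c = Ideal.Quotient.mk 𝔮
      ((1 : MvPolynomial (Fin n) K) ⊗ₜ[MvPolynomial (Fin n) R₀] c) := fun c => rfl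
  have hx : ∀ i, γ (algebraMap (MvPolynomial (Fin n) R₀) C₀ (X i)) ^ N = 1 := by
    intro i
    have h1 : γ (algebraMap (MvPolynomial (Fin n) R₀) C₀ (X i)) = Ideal.Quotient.mk 𝔮
        (algebraMap (MvPolynomial (Fin n) K)
          (MvPolynomial (Fin n) K ⊗[MvPolynomial (Fin n) R₀] C₀) (X i)) := by
      rw [hγ]
      congr 1
      rw [Algebra.TensorProduct.algebraMap_apply, Algebra.algebraMap_self_apply,
        Algebra.algebraMap_eq_smul_one, ← TensorProduct.smul_tmul, Algebra.smul_def, mul_one,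
        MvPolynomial.algebraMap_def, map_X]
    have h2 := Ideal.Quotient.eq_zero_iff_mem.mpr (hx𝔮 i)
    rw [map_sub, map_pow, map_one, sub_eq_zero] at h2
    rw [h1, h2]
  obtain ⟨ψ, hψ⟩ := exists_lift_BN n R₀ C₀ N γ ν hx hν
  let Ψ : K ⊗[R₀] BN n R₀ C₀ N →ₐ[R₀]
      (MvPolynomial (Fin n) K ⊗[MvPolynomial (Fin n) R₀] C₀) ⧸ 𝔮 :=
    Algebra.TensorProduct.productMap (IsScalarTower.toAlgHom R₀ K _) ψ
  have key : ∀ w : K ⊗[R₀] C₀,
      Ψ ((inclAlg n R₀ C₀ N).toLinearMap.lTensor K w) = Ideal.Quotient.mk 𝔮 (ε.symm w) := by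
    intro w
    induction w using TensorProduct.induction_on with
    | zero => simp
    | add x y hx hy => simp only [map_add, hx, hy]
    | tmul k c =>
      rw [LinearMap.lTensor_tmul]
      have h1 : Ψ (k ⊗ₜ[R₀] (inclAlg n R₀ C₀ N).toLinearMap c) =
          algebraMap K _ k * Ideal.Quotient.mk 𝔮
            ((1 : MvPolynomial (Fin n) K) ⊗ₜ[MvPolynomial (Fin n) R₀] c) := by
        change algebraMap K _ k * ψ (inclAlg n R₀ C₀ N c) = _
        rw [hψ, hγ]
      rw [h1]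
      have h2 : ε.symm (k ⊗ₜ[R₀] c) =
          algebraMap K (MvPolynomial (Fin n) K) k ⊗ₜ[MvPolynomial (Fin n) R₀] c :=
        Algebra.IsPushout.cancelBaseChangeAlg_symm_tmul R₀ K (MvPolynomial (Fin n) R₀)
          (MvPolynomial (Fin n) K) C₀ k c
      rw [h2, IsScalarTower.algebraMap_apply K
        (MvPolynomial (Fin n) K ⊗[MvPolynomial (Fin n) R₀] C₀) _,
        Ideal.Quotient.algebraMap_eq, ← map_mul,
        Algebra.TensorProduct.algebraMap_apply, Algebra.TensorProduct.tmul_mul_tmul, mul_one,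
        one_mul]
  have h0 := key z
  rw [hz ⟨N, hN0⟩, map_zero] at h0
  exact hz𝔮 (Ideal.Quotient.eq_zero_iff_mem.mp h0.symm)

theorem jointInj_all [Algebra.Etale (MvPolynomial (Fin n) R₀) C₀] [IsNoetherianRing R₀]
    (M : Type u) [AddCommGroup M] [Module R₀ M] :
    JointInj (fun N : {N : ℕ // N ≠ 0} => BN n R₀ C₀ N.1)
      (fun N => (inclAlg n R₀ C₀ N.1).toLinearMap) M := by
  have hflatC : Module.Flat R₀ C₀ := Module.Flat.trans R₀ (MvPolynomial (Fin n) R₀) C₀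
  have hflatB : ∀ N : {N : ℕ // N ≠ 0}, Module.Flat R₀ (BN n R₀ C₀ N.1) := by
    intro N
    have h2 : Algebra.Etale R₀ (BN n R₀ C₀ N.1) := etale_BN n R₀ C₀ N.1 N.2
    infer_instance
  exact jointInj_of_fields (fun K _ _ => field_step n R₀ C₀ K) M

end Family

/-- **Main algebraic theorem.** Let `C` be a standard smooth `R`-algebra and `c ≠ 0` in `C`. Then
there is an étale `R`-algebra `D` and an `R`-algebra map `C → D` inducing an immersion on spectra
under which `c` stays nonzero. -/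
theorem exists_etale_immersion (R C : Type u) [CommRing R] [CommRing C] [Algebra R C] (n : ℕ)
    [Algebra.IsStandardSmoothOfRelativeDimension n R C] (c : C) (hc : c ≠ 0) :
    ∃ (D : Type u) (_ : CommRing D) (_ : Algebra R D) (φ : C →ₐ[R] D),
      Algebra.Etale R D ∧ IsImmersion (Spec.map (CommRingCat.ofHom φ.toRingHom)) ∧ φ c ≠ 0 := by
  obtain ⟨R₀, C₀, _, _, hfg, hss, ⟨e⟩⟩ :=
    Algebra.IsStandardSmoothOfRelativeDimension.exists_subalgebra_fg ℤ R C n
  have hnoeth : IsNoetherianRing R₀ := by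
    have : Algebra.FiniteType ℤ R₀ := (Subalgebra.fg_iff_finiteType R₀).mp hfg
    exact Algebra.FiniteType.isNoetherianRing ℤ R₀
  obtain ⟨g, hg⟩ := Algebra.IsStandardSmoothOfRelativeDimension.exists_etale_mvPolynomial n R₀ C₀
  let _ : Algebra (MvPolynomial (Fin n) R₀) C₀ := (g : MvPolynomial (Fin n) R₀ →+* C₀).toAlgebra
  have : IsScalarTower R₀ (MvPolynomial (Fin n) R₀) C₀ :=
    IsScalarTower.of_algebraMap_eq' g.comp_algebraMap.symm
  have : Algebra.Etale (MvPolynomial (Fin n) R₀) C₀ := hg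
  have hJ := jointInj_all n R₀ C₀ R
  have hec : e c ≠ 0 := fun h => hc (by simpa using h)
  obtain ⟨N, hN⟩ : ∃ N : {N : ℕ // N ≠ 0},
      (inclAlg n R₀ C₀ N.1).toLinearMap.lTensor R (e c) ≠ 0 := by
    by_contra hcon
    push Not at hcon
    exact hec (hJ _ hcon)
  let μ : R ⊗[R₀] C₀ →ₐ[R] R ⊗[R₀] BN n R₀ C₀ N.1 :=
    Algebra.TensorProduct.map (AlgHom.id R R) (inclAlg n R₀ C₀ N.1)
  let φ : C →ₐ[R] R ⊗[R₀] BN n R₀ C₀ N.1 := μ.comp e.toAlgHom
  have hμ : ∀ w : R ⊗[R₀] C₀, μ w = (inclAlg n R₀ C₀ N.1).toLinearMap.lTensor R w := by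
    intro w
    induction w using TensorProduct.induction_on with
    | zero => simp
    | add x y hx hy => simp only [map_add, hx, hy]
    | tmul r c₀ => simp [μ]
  have h2 : Algebra.Etale R₀ (BN n R₀ C₀ N.1) := etale_BN n R₀ C₀ N.1 N.2
  refine ⟨R ⊗[R₀] BN n R₀ C₀ N.1, inferInstance, inferInstance, φ, inferInstance, ?_, ?_⟩
  · -- immersion
    have hND : (N.1 : R ⊗[R₀] BN n R₀ C₀ N.1) = (1 : R) ⊗ₜ[R₀] (N.1 : BN n R₀ C₀ N.1) :=
      Algebra.TensorProduct.natCast_def' _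
    have hunit : IsUnit (φ.toRingHom (N.1 : C)) := by
      rw [map_natCast]
      have h3 := (isUnit_natCast_BN n R₀ C₀ N.1).map
        (Algebra.TensorProduct.includeRight : BN n R₀ C₀ N.1 →ₐ[R₀] R ⊗[R₀] BN n R₀ C₀ N.1)
      rwa [map_natCast] at h3
    refine isImmersion_of_away φ.toRingHom (N.1 : C) hunit ?_
    intro d
    induction d using TensorProduct.induction_on with
    | zero => exact ⟨0, 0, by simp⟩
    | add x y hx hy =>
      exact away_add (A := C) (B := R ⊗[R₀] BN n R₀ C₀ N.1) φ.toRingHom (N.1 : C) hx hy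
    | tmul r b =>
      obtain ⟨k, c₀, hk⟩ := exists_pow_mul_eq_BN n R₀ C₀ N.1 b
      refine ⟨k, e.symm (r ⊗ₜ[R₀] c₀), ?_⟩
      have h3 : φ.toRingHom (e.symm (r ⊗ₜ[R₀] c₀)) = r ⊗ₜ[R₀] (inclAlg n R₀ C₀ N.1 c₀) := by
        change μ (e (e.symm (r ⊗ₜ[R₀] c₀))) = _
        rw [AlgEquiv.apply_symm_apply]
        simp [μ]
      have h4 : (inclAlg n R₀ C₀ N.1).toRingHom (N.1 : C₀) = (N.1 : BN n R₀ C₀ N.1) :=
        map_natCast _ _
      rw [h4] at hk
      rw [h3, map_natCast, hND, Algebra.TensorProduct.tmul_pow, one_pow,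
        Algebra.TensorProduct.tmul_mul_tmul, one_mul, hk]
      rfl
  · change μ (e c) ≠ 0
    rw [hμ]
    exact hN

end Groth.Agent.Lib.TorsQH7
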