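import Mathlib
import Groth.Agent.Lib.TorsMain_helper7

/-!
# Étale quasi-sections of a smooth morphism are schematically dominant (helper7, S14067)
-/

namespace Groth.Agent.Lib.TorsQH7

open AlgebraicGeometry CategoryTheory Limits Opposite

universe u

theorem schematically_dominant {X S : Scheme.{u}} (p : X ⟶ S) [Smooth p]
    (V : X.Opens) (t : Γ(X, V))
    (h : ∀ (Z : Scheme.{u}) (j : Z ⟶ X), IsImmersion j → Etale (j ≫ p) → j.app V t = 0) :
    t = 0 := by
  have key : ∀ x : V, ∃ (U : X.Opens) (hUV : U ≤ V), x.1 ∈ U ∧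
      X.presheaf.map (homOfLE hUV).op t = 0 := by
    intro x
    obtain ⟨W, hW, U', hU', hxU', e, hstd⟩ := Smooth.exists_isStandardSmooth (V.ι ≫ p) x
    algebraize [((V.ι ≫ p).appLE W U' e).hom]
    obtain ⟨n, hn⟩ : ∃ n, Algebra.IsStandardSmoothOfRelativeDimension n Γ(S, W) Γ(V, U') := by
      obtain ⟨ι, σ, _, _, ⟨P⟩⟩ :=
        (inferInstance : Algebra.IsStandardSmooth Γ(S, W) Γ(V, U')).out
      exact ⟨P.dimension, ⟨ι, σ, inferInstance, inferInstance, P, rfl⟩⟩
    let ι' : Spec Γ(V, U') ⟶ X := hU'.fromSpec ≫ V.ι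
    have hιo : IsOpenImmersion ι' := by
      show IsOpenImmersion (hU'.fromSpec ≫ V.ι)
      infer_instance
    have hpre : ι' ⁻¹ᵁ V = ⊤ := by
      show hU'.fromSpec ⁻¹ᵁ (V.ι ⁻¹ᵁ V) = ⊤
      rw [Scheme.Opens.ι_preimage_self]
      rfl
    have e₀ : (⊤ : (Spec Γ(V, U')).Opens) ≤ ι' ⁻¹ᵁ V := hpre.ge
    have hc0 : ι'.appLE V ⊤ e₀ t = 0 := by
      by_contra hc0
      have hc : (Scheme.ΓSpecIso Γ(V, U')).hom (ι'.appLE V ⊤ e₀ t) ≠ 0 := by
        intro hc
        apply hc0
        have := congrArg (Scheme.ΓSpecIso Γ(V, U')).inv hc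
        simpa using this
      obtain ⟨D, _, _, φ, hD, himm, hφc⟩ := exists_etale_immersion Γ(S, W) Γ(V, U') n _ hc
      let j : Spec (CommRingCat.of D) ⟶ X := Spec.map (CommRingCat.ofHom φ.toRingHom) ≫ ι'
      have hj : IsImmersion j := by
        show IsImmersion (Spec.map (CommRingCat.ofHom φ.toRingHom) ≫ ι')
        infer_instance
      have hjp : Etale (j ≫ p) := by
        have h1 : j ≫ p =
            Spec.map (CommRingCat.ofHom (algebraMap Γ(S, W) D)) ≫ hW.fromSpec := by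
          have h2 : hU'.fromSpec ≫ (V.ι ≫ p) =
              Spec.map ((V.ι ≫ p).appLE W U' e) ≫ hW.fromSpec :=
            (IsAffineOpen.SpecMap_appLE_fromSpec (V.ι ≫ p) hW hU' e).symm
          have h3 : CommRingCat.ofHom (algebraMap Γ(S, W) D) =
              (V.ι ≫ p).appLE W U' e ≫ CommRingCat.ofHom φ.toRingHom := by
            ext r
            exact (φ.commutes r).symm
          show (Spec.map (CommRingCat.ofHom φ.toRingHom) ≫ hU'.fromSpec ≫ V.ι) ≫ p = _
          rw [Category.assoc, Category.assoc, h2, h3, Spec.map_comp, Category.assoc]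
          rfl
        rw [h1]
        have : Etale (Spec.map (CommRingCat.ofHom (algebraMap Γ(S, W) D))) :=
          (HasRingHomProperty.Spec_iff (P := @Etale)).2 (RingHom.etale_algebraMap.mpr hD)
        infer_instance
      have h0 := h _ j hj hjp
      have hjpre : j ⁻¹ᵁ V = ⊤ := by
        show (Spec.map (CommRingCat.ofHom φ.toRingHom)) ⁻¹ᵁ (ι' ⁻¹ᵁ V) = ⊤
        rw [hpre]
        rfl
      have e₁ : (⊤ : (Spec (CommRingCat.of D)).Opens) ≤ j ⁻¹ᵁ V := hjpre.ge
      have h4 : j.appLE V ⊤ e₁ t = 0 := by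
        rw [Scheme.Hom.appLE, CommRingCat.comp_apply, h0, map_zero]
      have h5 : j.appLE V ⊤ e₁ =
          ι'.appLE V ⊤ e₀ ≫ (Spec.map (CommRingCat.ofHom φ.toRingHom)).appLE ⊤ ⊤ le_rfl :=
        (Scheme.Hom.appLE_comp_appLE _ _ _ _ _ _ _).symm
      have h5' : (Spec.map (CommRingCat.ofHom φ.toRingHom)).appLE ⊤ ⊤ le_rfl =
          (Spec.map (CommRingCat.ofHom φ.toRingHom)).appTop :=
        Scheme.Hom.appLE_eq_app _
      have h7 : (Spec.map (CommRingCat.ofHom φ.toRingHom)).appTop (ι'.appLE V ⊤ e₀ t) = 0 := by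
        rw [← h5', ← CommRingCat.comp_apply, ← h5, h4]
      have nat := ConcreteCategory.congr_hom
        (Scheme.ΓSpecIso_naturality (CommRingCat.ofHom φ.toRingHom)) (ι'.appLE V ⊤ e₀ t)
      rw [CommRingCat.comp_apply, CommRingCat.comp_apply, h7, map_zero] at nat
      exact hφc nat.symm
    have hle : ι' ''ᵁ ⊤ ≤ V := by
      rintro _ ⟨z, -, rfl⟩
      exact e₀ (show z ∈ (⊤ : (Spec Γ(V, U')).Opens) from trivial)
    refine ⟨ι' ''ᵁ ⊤, hle, ?_, ?_⟩
    · have hxr : x ∈ Set.range hU'.fromSpec := by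
        rw [hU'.range_fromSpec]
        exact hxU'
      obtain ⟨z, hz⟩ := hxr
      refine ⟨z, trivial, ?_⟩
      show (hU'.fromSpec ≫ V.ι) z = x.1
      rw [Scheme.Hom.comp_apply, hz]
      rfl
    · have h8 := ConcreteCategory.congr_hom (Scheme.Hom.appLE_appIso_inv ι' e₀) t
      rw [CommRingCat.comp_apply] at h8
      rw [hc0, map_zero] at h8
      exact h8.symm
  choose U' hU' hxU' hres using key
  refine TopCat.Sheaf.eq_of_locally_eq' X.sheaf (fun x : V => U' x) V
    (fun x => homOfLE (hU' x)) ?_ t 0 ?_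
  · intro x hx
    exact TopologicalSpace.Opens.mem_iSup.2 ⟨⟨x, hx⟩, hxU' _⟩
  · intro x
    rw [map_zero]
    exact hres x

end Groth.Agent.Lib.TorsQH7
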