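import Groth.Statements.S19889
import Groth.Agent.Lib.WordPts_lead
import Groth.Agent.Lib.SchImGrp_helper4
import Groth.Agent.Lib.GrpConnComp_helper4

/-! # Lifting torsion from the component group of a commutative group scheme (lead) -/

set_option backward.isDefEq.respectTransparency false
set_option backward.isDefEq.respectTransparency.types false
set_option linter.unusedSimpArgs false
set_option linter.unusedVariables false
set_option linter.unusedSectionVars false
set_option linter.style.longLine false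
set_option linter.style.haveILetI false
set_option linter.unnecessarySimpa false
set_option maxHeartbeats 800000

universe u

open CategoryTheory CategoryTheory.Limits MonoidalCategory CartesianMonoidalCategory MonObj GrpObj
  AlgebraicGeometry Opposite Topology TopologicalSpace

namespace Groth.Agent.Lib.TorsLift

variable {k : Type u} [Field k]

/-- the power map of a commutative group scheme is a homomorphism -/
theorem isMonHom_pow (G : Over (Spec (CommRingCat.of k))) [GrpObj G] [IsCommMonObj G] (m : ℕ) :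
    IsMonHom ((𝟙 G) ^ m : G ⟶ G) where
  one_hom := by
    have h1η : (1 : 𝟙_ (Over (Spec (CommRingCat.of k))) ⟶ G) = η[G] := by
      rw [Hom.one_def, show toUnit (𝟙_ (Over (Spec (CommRingCat.of k)))) = 𝟙 _ from
        toUnit_unique _ _, Category.id_comp]
    rw [MonObj.comp_pow, Category.comp_id, ← h1η, one_pow]
  mul_hom := by
    have hμ : μ[G] = fst G G * snd G G := by
      rw [Hom.mul_def, lift_fst_snd, Category.id_comp]
    have hR : ((𝟙 G) ^ m ⊗ₘ (𝟙 G) ^ m) ≫ μ[G] =
        (fst G G ≫ (𝟙 G) ^ m) * (snd G G ≫ (𝟙 G) ^ m) := by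
      rw [Hom.mul_def, lift_fst_comp_snd_comp]
    rw [hR, MonObj.comp_pow, MonObj.comp_pow, MonObj.comp_pow, Category.comp_id,
      Category.comp_id, Category.comp_id, hμ, mul_pow]

theorem main19889 (k : Type u) [Field k] [IsAlgClosed k]
    {G G0 : Over (Spec (CommRingCat.of k))} [GrpObj G] [IsCommMonObj G] [GrpObj G0]
    [LocallyOfFiniteType G.hom] (i : G0 ⟶ G) [IsMonHom i] (hi : AutSch.IsIdComp i)
    (g : 𝟙_ (Over (Spec (CommRingCat.of k))) ⟶ G) (n : ℕ) (hn : 0 < n)
    (hg : g ^ n ∈ AutSch.ptsRange i) :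
    ∃ t : 𝟙_ (Over (Spec (CommRingCat.of k))) ⟶ G,
      IsOfFinOrder t ∧ t⁻¹ * g ∈ AutSch.ptsRange i := by
  obtain ⟨-, hopen, hrange⟩ := hi
  haveI := hopen
  haveI hsub : Subsingleton ↥(Spec (CommRingCat.of k)) :=
    inferInstanceAs (Subsingleton (PrimeSpectrum k))
  haveI : LocallyOfFiniteType G0.hom := by
    have h : G0.hom = i.left ≫ G.hom := (Over.w i).symm
    rw [h]; infer_instance
  have hcomp : IsCompact (Set.range i.left) := by
    have h1 : Set.range i.left = connectedComponent (AutSch.unitPt G) := by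
      rw [← AutSch.neutralSet_eq_connectedComponent]; exact hrange
    rw [h1]
    exact (GrpConnCompH4.main0355 k G).2
  haveI : CompactSpace G0.left := by
    refine ⟨?_⟩
    have h2 := (i.left.isOpenEmbedding.isInducing.isCompact_iff (s := Set.univ)).mpr
      (by rw [Set.image_univ]; exact hcomp)
    exact h2
  haveI : IsNoetherianRing (CommRingCat.of k) := inferInstanceAs (IsNoetherianRing k)
  haveI : IsLocallyNoetherian G0.left := LocallyOfFiniteType.isLocallyNoetherian G0.hom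
  haveI : IsNoetherian G0.left := {}
  haveI : NoetherianSpace G0.left := inferInstance
  haveI : IsLocallyNoetherian G.left := LocallyOfFiniteType.isLocallyNoetherian G.hom
  haveI : QuasiSeparated G.hom := (quasiSeparated_iff_quasiSeparatedSpace G.hom).mpr inferInstance
  haveI : QuasiCompact G0.hom := inferInstance
  obtain ⟨f, hfdef⟩ : ∃ f : ℕ → (G0 ⟶ G), ∀ N, f N = i ≫ (𝟙 G) ^ (n ^ N) := ⟨_, fun _ => rfl⟩
  have hfmon : ∀ N, IsMonHom (f N) := fun N => by
    haveI := isMonHom_pow G (n ^ N)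
    rw [hfdef]; infer_instance
  have hfpow : ∀ N, f N = i ^ (n ^ N) := fun N => by
    rw [hfdef, MonObj.comp_pow, Category.comp_id]
  have hffac : ∀ N, f N = ((𝟙 G0) ^ (n ^ N)) ≫ i := fun N => by
    rw [hfpow, MonObj.pow_comp, Category.id_comp]
  have hfsucc : ∀ N, f (N + 1) = ((𝟙 G0) ^ n) ≫ f N := fun N => by
    calc f (N + 1) = i ^ (n ^ (N + 1)) := hfpow _
      _ = (i ^ n) ^ (n ^ N) := by rw [← pow_mul, pow_succ']
      _ = (i ^ n) ≫ (𝟙 G) ^ (n ^ N) := by rw [MonObj.comp_pow, Category.comp_id]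
      _ = (((𝟙 G0) ^ n) ≫ i) ≫ (𝟙 G) ^ (n ^ N) := by rw [MonObj.pow_comp (𝟙 G0) n i, Category.id_comp]
      _ = ((𝟙 G0) ^ n) ≫ f N := by rw [hfdef, Category.assoc]
  have hclosed : ∀ N, IsClosed (Set.range (f N).left) := fun N => by
    haveI := hfmon N
    haveI : QuasiCompact (f N).left := by
      have hw : (f N).left ≫ G.hom = G0.hom := Over.w (f N)
      haveI : QuasiCompact ((f N).left ≫ G.hom) := by rw [hw]; infer_instance
      exact QuasiCompact.of_comp (f N).left G.hom
    obtain ⟨H', _, j, f', hj, hf', hfac, hci, -, -, hsurj⟩ := SchImGrpH4.main3024 k G0 G (f N)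
    have hr : Set.range (f N).left = Set.range j.left := by
      ext x; constructor
      · rintro ⟨y, rfl⟩
        exact ⟨f'.left y, by rw [← Scheme.Hom.comp_apply, ← Over.comp_left, hfac]⟩
      · rintro ⟨z, rfl⟩
        obtain ⟨y, rfl⟩ := hsurj.surj z
        exact ⟨y, by rw [← Scheme.Hom.comp_apply, ← Over.comp_left, hfac]⟩
    rw [hr]
    haveI := hci
    exact j.left.isClosedEmbedding.isClosed_range
  obtain ⟨a, hadef⟩ : ∃ a : ℕ → Closeds G0.left,
      ∀ N, (a N : Set G0.left) = i.left ⁻¹' Set.range (f N).left :=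
    ⟨fun N => ⟨i.left ⁻¹' Set.range (f N).left, (hclosed N).preimage i.left.continuous⟩,
      fun _ => rfl⟩
  obtain ⟨N, hN⟩ := WellFounded.not_rel_apply_succ (r := (· < ·)) a
  have hrsub : ∀ N, Set.range (f (N + 1)).left ⊆ Set.range (f N).left := fun N => by
    rintro _ ⟨y, rfl⟩
    refine ⟨((𝟙 G0) ^ n : G0 ⟶ G0).left y, ?_⟩
    rw [← Scheme.Hom.comp_apply, ← Over.comp_left, ← hfsucc]
  have hle : a (N + 1) ≤ a N := by
    intro y hy
    have hy' : y ∈ (a (N + 1) : Set G0.left) := hy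
    rw [hadef] at hy'
    show y ∈ (a N : Set G0.left)
    rw [hadef]
    exact hrsub N hy'
  have heq : a (N + 1) = a N := (lt_or_eq_of_le hle).resolve_left hN
  have hsubNN : Set.range (f N).left ⊆ Set.range (f (N + 1)).left := by
    rintro _ ⟨y, rfl⟩
    have he : (f N).left y = i.left (((𝟙 G0) ^ (n ^ N) : G0 ⟶ G0).left y) := by
      rw [← Scheme.Hom.comp_apply, ← Over.comp_left, ← hffac]
    have hy : ((𝟙 G0) ^ (n ^ N) : G0 ⟶ G0).left y ∈ (a N : Set G0.left) := by
      rw [hadef]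
      show i.left (((𝟙 G0) ^ (n ^ N) : G0 ⟶ G0).left y) ∈ Set.range (f N).left
      rw [← he]; exact ⟨y, rfl⟩
    rw [← heq, hadef] at hy
    rw [he]; exact hy
  obtain ⟨h0, hh0⟩ := (AutSch.mem_ptsRange_iff i _).mp hg
  obtain ⟨pt⟩ : Nonempty ↥(𝟙_ (Over (Spec (CommRingCat.of k)))).left :=
    inferInstanceAs (Nonempty (PrimeSpectrum k))
  have hpN : (h0 ≫ f N).left pt ∈ Set.range (f N).left := ⟨h0.left pt, rfl⟩
  obtain ⟨a₀, ha₀⟩ := hsubNN hpN
  obtain ⟨c, hc⟩ := Groth.Agent.Lib.WordPts.exists_kpt_over (f (N + 1)) (h0 ≫ f N) a₀ pt ha₀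
  have hd : (c ≫ i) ^ (n ^ (N + 1)) = g ^ (n ^ (N + 1)) := by
    have h1 : c ≫ f (N + 1) = (c ≫ i) ^ (n ^ (N + 1)) := by
      rw [hfpow, MonObj.comp_pow]
    have h2 : h0 ≫ f N = g ^ (n ^ (N + 1)) := by
      rw [hfpow, MonObj.comp_pow, hh0, ← pow_mul, pow_succ']
    rw [← h1, hc, h2]
  refine ⟨g * (c ≫ i)⁻¹, ?_, ?_⟩
  · rw [isOfFinOrder_iff_pow_eq_one]
    refine ⟨n ^ (N + 1), pow_pos hn _, ?_⟩
    rw [mul_pow, inv_pow, hd, _root_.mul_inv_cancel]
  · rw [_root_.mul_inv_rev, _root_.inv_inv, _root_.inv_mul_cancel_right]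
    exact (AutSch.mem_ptsRange_iff i _).mpr ⟨c, rfl⟩

end Groth.Agent.Lib.TorsLift
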