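import Mathlib
import Groth.Prelude.Def_Wider
import Groth.Agent.Lib.TorsRes_helper7

/-!
# Left resolutions inside a class of objects; resolutions of power-torsion modules by sums of
`R/I^n` (helper7)
-/

open CategoryTheory CategoryTheory.Limits

namespace Groth.Agent.Lib.TorsResH7

universe u v

section Generic

variable {C : Type u} [Category.{v} C] [Abelian C]

/-- data: for each object a "cover" with property `P`, epi when `X` has `P` -/
structure Cov (P : C → Prop) where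
  J : C → C
  p : ∀ X, J X ⟶ X
  prop : ∀ X, P (J X)
  epi : ∀ X, P X → Epi (p X)

namespace Cov

variable {P : C → Prop} (e : Cov P)

/-- the syzygies -/
noncomputable def Q (Z : C) : ℕ → C
  | 0 => Z
  | n + 1 => kernel (e.p (Q Z n))

noncomputable def d (Z : C) (n : ℕ) : e.J (e.Q Z (n + 1)) ⟶ e.J (e.Q Z n) :=
  e.p (e.Q Z (n + 1)) ≫ kernel.ι (e.p (e.Q Z n))

lemma d_comp_p (Z : C) (n : ℕ) : e.d Z n ≫ e.p (e.Q Z n) = 0 := by
  have h : kernel.ι (e.p (e.Q Z n)) ≫ e.p (e.Q Z n) = 0 := kernel.condition _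
  calc e.d Z n ≫ e.p (e.Q Z n)
      = e.p (e.Q Z (n + 1)) ≫ (kernel.ι (e.p (e.Q Z n)) ≫ e.p (e.Q Z n)) :=
        Category.assoc _ _ _
    _ = 0 := (congrArg (fun x => e.p (e.Q Z (n + 1)) ≫ x) h).trans comp_zero

lemma d_comp_d (Z : C) (n : ℕ) : e.d Z (n + 1) ≫ e.d Z n = 0 := by
  have h := e.d_comp_p Z (n + 1)
  calc e.d Z (n + 1) ≫ e.d Z n
      = (e.d Z (n + 1) ≫ e.p (e.Q Z (n + 1))) ≫ kernel.ι (e.p (e.Q Z n)) :=
        (Category.assoc _ _ _).symm
    _ = 0 := (congrArg (fun x => x ≫ kernel.ι (e.p (e.Q Z n))) h).trans zero_comp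

noncomputable def K (Z : C) : ChainComplex C ℕ :=
  ChainComplex.of (fun n => e.J (e.Q Z n)) (e.d Z) (e.d_comp_d Z)

lemma P_Q (hker : ∀ {X Y : C} (f : X ⟶ Y), P X → P (kernel f)) (Z : C) (hZ : P Z) :
    ∀ n, P (e.Q Z n)
  | 0 => hZ
  | _ + 1 => hker _ (e.prop _)

lemma exact_zero (Z : C) (n : ℕ) (h : Epi (e.p (e.Q Z (n + 1)))) :
    (ShortComplex.mk (e.d Z n) (e.p (e.Q Z n)) (e.d_comp_p Z n)).Exact :=
  exact_epi_comp (e.p (e.Q Z (n + 1))) (kernel.ι (e.p (e.Q Z n))) (e.p (e.Q Z n)) h _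
    (ShortComplex.exact_kernel _)

lemma exact_d (Z : C) (n : ℕ) (h : Epi (e.p (e.Q Z (n + 2)))) :
    (ShortComplex.mk (e.d Z (n + 1)) (e.d Z n) (e.d_comp_d Z n)).Exact :=
  exact_comp_mono (e.d Z (n + 1)) (e.p (e.Q Z (n + 1))) (kernel.ι (e.p (e.Q Z n)))
    (inferInstance : Mono (kernel.ι (e.p (e.Q Z n)))) _ (e.exact_zero Z (n + 1) h)

lemma K_d (Z : C) (n : ℕ) : (e.K Z).d (n + 1) n = e.d Z n :=
  ChainComplex.of_d (fun n => e.J (e.Q Z n)) (e.d Z) n

lemma exactAt_succ (hker : ∀ {X Y : C} (f : X ⟶ Y), P X → P (kernel f)) (Z : C) (hZ : P Z)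
    (n : ℕ) : (e.K Z).ExactAt (n + 1) := by
  rw [HomologicalComplex.exactAt_iff' _ (n + 1 + 1) (n + 1) n (by simp) (by simp)]
  have hex := e.exact_d Z n (e.epi _ (e.P_Q hker Z hZ (n + 2)))
  refine (ShortComplex.exact_iff_of_iso ?_).2 hex
  refine ShortComplex.isoMk (Iso.refl _) (Iso.refl _) (Iso.refl _) ?_ ?_
  · show 𝟙 _ ≫ e.d Z (n + 1) = (e.K Z).d (n + 1 + 1) (n + 1) ≫ 𝟙 _
    rw [Category.id_comp, Category.comp_id, K_d]
  · show 𝟙 _ ≫ e.d Z n = (e.K Z).d (n + 1) n ≫ 𝟙 _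
    rw [Category.id_comp, Category.comp_id, K_d]

noncomputable def π (Z : C) : e.K Z ⟶ (ChainComplex.single₀ C).obj Z :=
  (ChainComplex.toSingle₀Equiv _ _).symm ⟨e.p (e.Q Z 0), by
    rw [K_d]
    exact e.d_comp_p Z 0⟩

lemma π_f_zero (Z : C) : (e.π Z).f 0 = e.p (e.Q Z 0) :=
  ChainComplex.toSingle₀Equiv_symm_apply_f_zero _ _

lemma quasiIso (hker : ∀ {X Y : C} (f : X ⟶ Y), P X → P (kernel f)) (Z : C) (hZ : P Z) :
    QuasiIso (e.π Z) := ⟨fun n => by
  cases n with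
  | zero =>
    rw [ChainComplex.quasiIsoAt₀_iff, ShortComplex.quasiIso_iff_of_zeros']
    · haveI : Epi (e.p (e.Q Z 0)) := e.epi _ (e.P_Q hker Z hZ 0)
      refine (ShortComplex.exact_and_epi_g_iff_of_iso ?_).2
        ⟨e.exact_zero Z 0 (e.epi _ (e.P_Q hker Z hZ 1)), by dsimp; infer_instance⟩
      refine ShortComplex.isoMk (Iso.refl _) (Iso.refl _) (Iso.refl _) ?_ ?_
      · show 𝟙 _ ≫ e.d Z 0 = (e.K Z).d 1 0 ≫ 𝟙 _
        rw [Category.id_comp, Category.comp_id, K_d]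
      · show 𝟙 _ ≫ e.p (e.Q Z 0) = (e.π Z).f 0 ≫ 𝟙 _
        rw [Category.id_comp, Category.comp_id, π_f_zero]
    all_goals rfl
  | succ n =>
    rw [quasiIsoAt_iff_exactAt']
    · exact e.exactAt_succ hker Z hZ n
    · exact ChainComplex.exactAt_succ_single_obj _ _⟩

end Cov

end Generic

section Module

variable {R : Type u} [CommRing R] (I : Ideal R)

/-- index type: pairs `(x, n)` with `I^n x = 0` -/
def Idx (X : ModuleCat.{u} R) : Type u := {j : X × ℕ // ∀ a ∈ I ^ j.2, a • j.1 = 0}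

/-- the cover `⊕ R/I^n` -/
noncomputable abbrev CJ (X : ModuleCat.{u} R) : ModuleCat.{u} R :=
  ModuleCat.of R (DirectSum (Idx I X) fun j => R ⧸ I ^ j.1.2)

noncomputable def comp1 (X : ModuleCat.{u} R) (j : Idx I X) : (R ⧸ I ^ j.1.2) →ₗ[R] X :=
  Submodule.liftQ (I ^ j.1.2) (LinearMap.toSpanSingleton R X j.1.1) (by
    intro a ha
    rw [LinearMap.mem_ker, LinearMap.toSpanSingleton_apply]
    exact j.2 a ha)

open Classical in
noncomputable def Cp (X : ModuleCat.{u} R) : CJ I X ⟶ X :=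
  ModuleCat.ofHom (DirectSum.toModule R (Idx I X) X (comp1 I X))

lemma Cp_surjective (X : ModuleCat.{u} R) (h : LocCoh.IsPowerTorsion I X) :
    Function.Surjective (Cp I X).hom := by
  classical
  intro x
  obtain ⟨n, hn⟩ := h x
  let j : Idx I X := ⟨(x, n), hn⟩
  refine ⟨DirectSum.lof R (Idx I X) (fun j => R ⧸ I ^ j.1.2) j (Submodule.Quotient.mk 1), ?_⟩
  show (DirectSum.toModule R (Idx I X) X (comp1 I X)) _ = x
  rw [DirectSum.toModule_lof]
  show (Submodule.liftQ _ (LinearMap.toSpanSingleton R X x) _) (Submodule.Quotient.mk 1) = x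
  rw [Submodule.liftQ_apply, LinearMap.toSpanSingleton_apply, one_smul]

lemma CJ_tors (X : ModuleCat.{u} R) : LocCoh.IsPowerTorsion I (CJ I X) := by
  classical
  intro m
  induction m using DirectSum.induction_on with
  | zero => exact ⟨0, fun a _ => smul_zero a⟩
  | of j y =>
    refine ⟨j.1.2, fun a ha => ?_⟩
    have h1 : a • y = 0 := by
      obtain ⟨r, rfl⟩ := Submodule.Quotient.mk_surjective _ y
      rw [← Submodule.Quotient.mk_smul, Submodule.Quotient.mk_eq_zero]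
      exact (I ^ j.1.2).mul_mem_right r ha
    rw [← DirectSum.lof_eq_of R, ← map_smul, h1, map_zero]
  | add x y hx hy =>
    obtain ⟨n, hn⟩ := hx
    obtain ⟨n', hn'⟩ := hy
    refine ⟨n + n', fun a ha => ?_⟩
    rw [smul_add, hn a (Ideal.pow_le_pow_right (Nat.le_add_right n n') ha),
      hn' a (Ideal.pow_le_pow_right (Nat.le_add_left n' n) ha), add_zero]

/-- the cover structure -/
noncomputable def torsCov : Cov (C := ModuleCat.{u} R) (fun X => LocCoh.IsPowerTorsion I X) where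
  J := CJ I
  p := Cp I
  prop := CJ_tors I
  epi := fun X h => (ModuleCat.epi_iff_surjective _).2 (Cp_surjective I X h)

lemma tors_kernel {X Y : ModuleCat.{u} R} (f : X ⟶ Y) (hX : LocCoh.IsPowerTorsion I X) :
    LocCoh.IsPowerTorsion I (kernel f : ModuleCat.{u} R) := by
  intro y
  obtain ⟨n, hn⟩ := hX ((kernel.ι f).hom y)
  refine ⟨n, fun a ha => ?_⟩
  apply (ModuleCat.mono_iff_injective (kernel.ι f)).1 inferInstance
  rw [map_smul, hn a ha, map_zero]

theorem exists_resolution (M : ModuleCat.{u} R) (hM : LocCoh.IsPowerTorsion I M) :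
    ∃ (K : ChainComplex (ModuleCat.{u} R) ℕ)
      (π : K ⟶ (ChainComplex.single₀ (ModuleCat.{u} R)).obj M),
      QuasiIso π ∧ ∀ i : ℕ, ∃ (ι : Type u) (n : ι → ℕ),
        Nonempty (K.X i ≅ ModuleCat.of R (DirectSum ι fun j => R ⧸ I ^ n j)) :=
  ⟨(torsCov I).K M, (torsCov I).π M,
    (torsCov I).quasiIso (fun f hX => tors_kernel I f hX) M hM,
    fun i => ⟨Idx I ((torsCov I).Q M i), fun j => j.1.2, ⟨Iso.refl _⟩⟩⟩

end Module

end Groth.Agent.Lib.TorsResH7
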