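import Mathlib
import Groth.Prelude.Def_NonAbH2
import Groth.Agent.Lib.SmoothSec_helper4

open AlgebraicGeometry CategoryTheory Limits MonoidalCategory CartesianMonoidalCategory

universe u

namespace Groth.Agent.Lib.TorsSmH8

variable {X : Scheme.{u}}

theorem smooth_snd_left (G P : Over X) [GrpObj G] [Smooth G.hom] (a : AlgGrp.Action G P)
    (h : NonAbH1.IsPseudoTorsorSch a) : Smooth (pullback.snd P.hom P.hom) := by
  haveI : IsIso (lift a.act (snd G P)) := h
  let e := asIso (lift a.act (snd G P))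
  have h1 : (lift a.act (snd G P)) ≫ snd P P = snd G P := lift_snd _ _
  have h2 : e.inv ≫ snd G P = snd P P := by
    rw [← h1, ← Category.assoc]
    simp [e]
  have h3 : (snd P P).left = e.inv.left ≫ (snd G P).left := by
    rw [← Over.comp_left, h2]
  have h4 : (snd P P).left = pullback.snd P.hom P.hom := Over.snd_left
  have h5 : (snd G P).left = pullback.snd G.hom P.hom := Over.snd_left
  rw [← h4, h3, h5]
  infer_instance

/-- base change of `π` along a map with a section into `P` is smooth, if `P ×_X P → P` is. -/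
theorem smooth_of_section {P T A : Scheme.{u}} (π : P ⟶ X)
    (hsm : Smooth (pullback.snd π π)) (g : T ⟶ X) (σ : T ⟶ P) (hσ : σ ≫ π = g)
    (a : A ⟶ P) (b : A ⟶ T) (sq : IsPullback a b π g) : Smooth b := by
  subst hσ
  let a' : A ⟶ pullback π π := pullback.lift a (b ≫ σ) (by rw [Category.assoc]; exact sq.w)
  have ha' : a' ≫ pullback.fst π π = a := pullback.lift_fst _ _ _
  have hb' : a' ≫ pullback.snd π π = b ≫ σ := pullback.lift_snd _ _ _
  have sq' : IsPullback a' b (pullback.snd π π) σ := by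
    refine IsPullback.of_right ?_ hb' (IsPullback.of_hasPullback π π)
    rw [ha']
    exact sq
  exact MorphismProperty.of_isPullback (P := @Smooth) sq' hsm

theorem smooth_of_locallyTrivial {P : Scheme.{u}} (π : P ⟶ X)
    (hsm : Smooth (pullback.snd π π))
    (hloc : ∀ x : X, ∃ (Y : Scheme.{u}) (f : Y ⟶ X) (s : Y ⟶ P), Flat f ∧
      LocallyOfFinitePresentation f ∧ x ∈ Set.range f ∧ s ≫ π = f) : Smooth π := by
  choose Y f s hfl hlfp hx hs using hloc
  let U : X → X.Opens := fun x => ⟨Set.range (f x), by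
    haveI := hfl x
    haveI := hlfp x
    exact (f x).isOpenMap.isOpen_range⟩
  have hU : iSup U = ⊤ := by
    rw [eq_top_iff]
    rintro x -
    exact TopologicalSpace.Opens.mem_iSup.mpr ⟨x, hx x⟩
  rw [IsZariskiLocalAtTarget.iff_of_iSup_eq_top (P := @Smooth) U hU]
  intro x
  haveI := hfl x
  haveI := hlfp x
  let w := (f x) ∣_ (U x)
  let A := pullback (π ∣_ (U x)) w
  have sqL : IsPullback (pullback.fst (π ∣_ (U x)) w) (pullback.snd (π ∣_ (U x)) w)
      (π ∣_ (U x)) w := IsPullback.of_hasPullback _ _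
  have sqR : IsPullback (π ⁻¹ᵁ (U x)).ι (π ∣_ (U x)) π (U x).ι :=
    (isPullback_morphismRestrict π (U x)).flip
  have sqB := sqL.paste_horiz sqR
  have hwι : w ≫ (U x).ι = ((f x) ⁻¹ᵁ (U x)).ι ≫ f x := morphismRestrict_ι _ _
  have hsmb : Smooth (pullback.snd (π ∣_ (U x)) w) := by
    refine smooth_of_section π hsm (w ≫ (U x).ι) (((f x) ⁻¹ᵁ (U x)).ι ≫ s x) ?_ _ _ sqB
    rw [Category.assoc, hs x, hwι]
  have hwsurj : Surjective w := by
    constructor
    rintro ⟨y, hy⟩
    obtain ⟨z, rfl⟩ := hy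
    refine ⟨⟨z, ?_⟩, ?_⟩
    · exact ⟨z, rfl⟩
    · apply Subtype.ext
      have h1 := congrArg (fun ψ => ψ (⟨z, ⟨z, rfl⟩⟩ : ↥((f x) ⁻¹ᵁ (U x)))) hwι
      simp only [Scheme.Hom.comp_apply] at h1
      exact h1
  exact MorphismProperty.of_isPullback_of_descendsAlong (P := @Smooth)
    (Q := @Surjective ⊓ @Flat ⊓ @LocallyOfFinitePresentation) sqL.flip
    ⟨⟨hwsurj, inferInstance⟩, inferInstance⟩ hsmb


theorem main14276
    (G : Over X) [GrpObj G] [Smooth G.hom] (P : Over X) (a : AlgGrp.Action G P)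
    (h : NonAbH1.IsTorsorFor Scheme.fppfPrecoverage a) :
    NonAbH1.IsLocallyTrivialFor Scheme.etalePrecoverage P := by
  obtain ⟨hps, R, hR, hsec⟩ := h
  have hsm1 := smooth_snd_left G P a hps
  have hloc : ∀ x : X, ∃ (Y : Scheme.{u}) (f : Y ⟶ X) (s : Y ⟶ P.left), Flat f ∧
      LocallyOfFinitePresentation f ∧ x ∈ Set.range f ∧ s ≫ P.hom = f := by
    intro x
    obtain ⟨Y', g', hg', hxg'⟩ := hR.1 x
    obtain ⟨hu⟩ := hg'
    rename_i Y f
    obtain ⟨s, hs⟩ := hsec f hu
    have hprop := hR.2 hu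
    exact ⟨Y, f, s, hprop.1, hprop.2, hxg', hs⟩
  haveI : Smooth P.hom := smooth_of_locallyTrivial P.hom hsm1 hloc
  have hsurj : ∀ x : X, x ∈ Set.range P.hom := by
    intro x
    obtain ⟨Y, f, s, -, -, ⟨y, rfl⟩, hs⟩ := hloc x
    refine ⟨s y, ?_⟩
    rw [← Scheme.Hom.comp_apply, hs]
  choose S' g s' hg hgs t ht using fun x =>
    Groth.Agent.Lib.SmoothSecH4.main0412 P.hom x (hsurj x)
  refine ⟨Presieve.ofArrows S' g, ?_, ?_⟩
  · rw [Scheme.etalePrecoverage, Scheme.ofArrows_mem_precoverage_iff]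
    exact ⟨fun x => ⟨x, s' x, hgs x⟩, hg⟩
  · rintro _ _ ⟨x⟩
    exact ⟨t x, ht x⟩

end Groth.Agent.Lib.TorsSmH8
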