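import Mathlib
import Groth.Prelude.Def_CAlg

/-!
# Torsion with supports in a specialization-stable set; depth ≥ 1 criteria (helper3)
-/

set_option autoImplicit false
universe u v

namespace Groth.Agent.Lib.TorsT_helper3
open IsLocalRing

section Regular

variable {R : Type*} [CommRing R] [IsLocalRing R] [IsNoetherianRing R]
  (N : Type*) [AddCommGroup N] [Module R N] [Module.Finite R N]

theorem exists_regular_of_not_mem_ass (h : maximalIdeal R ∉ associatedPrimes R N) :
    ∃ r ∈ maximalIdeal R, IsSMulRegular N r := by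
  by_contra hcon
  push_neg at hcon
  have hsub : (maximalIdeal R : Set R) ⊆ ⋃ p ∈ associatedPrimes R N, (p : Set R) := by
    rw [biUnion_associatedPrimes_eq_zero_divisors]
    intro r hr
    have h1 := hcon r hr
    rw [isSMulRegular_iff_right_eq_zero_of_smul] at h1
    push_neg at h1
    obtain ⟨x, hx, hx0⟩ := h1
    exact ⟨x, hx0, hx⟩
  have hfin := associatedPrimes.finite R N
  obtain ⟨P, hP, hle⟩ := (Ideal.subset_union_prime_finite hfin (f := id) (maximalIdeal R)
    (maximalIdeal R) (fun i hi _ _ => (hi : IsAssociatedPrime i N).isPrime)).mp hsub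
  have hPprime : P.IsPrime := (hP : IsAssociatedPrime P N).isPrime
  have : P = maximalIdeal R := le_antisymm (IsLocalRing.le_maximalIdeal hPprime.ne_top) hle
  exact h (this ▸ hP)

end Regular

theorem one_le_depth_of_not_mem_ass {R : Type u} [CommRing R] [IsLocalRing R] [IsNoetherianRing R]
    (N : Type v) [AddCommGroup N] [Module R N] [Module.Finite R N]
    (h : maximalIdeal R ∉ associatedPrimes R N) : 1 ≤ LocCoh.depth R N := by
  unfold LocCoh.depth LocCoh.idealDepth
  split_ifs with htop
  · exact le_top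
  · obtain ⟨r, hr, hreg⟩ := exists_regular_of_not_mem_ass N h
    refine le_trans ?_ (le_iSup₂ (f := fun (rs : List R)
      (_ : RingTheory.Sequence.IsWeaklyRegular N rs ∧ ∀ r ∈ rs, r ∈ maximalIdeal R) =>
        (rs.length : ℕ∞)) [r] ⟨?_, ?_⟩)
    · simp
    · rw [RingTheory.Sequence.isWeaklyRegular_cons_iff]
      exact ⟨hreg, RingTheory.Sequence.IsWeaklyRegular.nil _ _⟩
    · intro r' hr'
      rw [List.mem_singleton] at hr'
      rw [hr']; exact hr

section Tors

variable {A : Type u} [CommRing A] (T : Set (PrimeSpectrum A)) (M : Type v) [AddCommGroup M]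
  [Module A M]

/-- Elements of `M` whose support is contained in `T`. -/
def torsT : Submodule A M where
  carrier := {m | ∀ q : PrimeSpectrum A, q ∉ T → ∃ s ∉ q.asIdeal, s • m = 0}
  zero_mem' := fun q _ => ⟨1, (Ideal.ne_top_iff_one _).mp q.2.ne_top, smul_zero _⟩
  add_mem' := by
    intro a b ha hb q hq
    obtain ⟨s, hs, hsa⟩ := ha q hq
    obtain ⟨t, ht, htb⟩ := hb q hq
    refine ⟨s * t, fun h => (q.2.mem_or_mem h).elim hs ht, ?_⟩
    rw [smul_add, mul_comm, mul_smul, hsa, smul_zero, mul_comm, mul_smul, htb, smul_zero,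
      add_zero]
  smul_mem' := by
    intro c a ha q hq
    obtain ⟨s, hs, hsa⟩ := ha q hq
    exact ⟨s, hs, by rw [smul_comm, hsa, smul_zero]⟩

variable {T M}

lemma mem_torsT {m : M} : m ∈ torsT T M ↔
    ∀ q : PrimeSpectrum A, q ∉ T → ∃ s ∉ q.asIdeal, s • m = 0 := Iff.rfl

/-- The quotient by the `T`-torsion has no element killed by a prime in `T`. -/
lemma eq_zero_of_prime_smul_eq_zero (hT : StableUnderSpecialization T) (p : PrimeSpectrum A)
    (hp : p ∈ T) (y : M ⧸ torsT T M) (hy : ∀ a ∈ p.asIdeal, a • y = 0) : y = 0 := by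
  obtain ⟨m, rfl⟩ := Submodule.Quotient.mk_surjective _ y
  rw [Submodule.Quotient.mk_eq_zero, mem_torsT]
  intro q hq
  have hnle : ¬ p.asIdeal ≤ q.asIdeal := by
    intro hle
    exact hq (hT ((PrimeSpectrum.le_iff_specializes p q).mp hle) hp)
  obtain ⟨a, hap, haq⟩ := Set.not_subset.mp hnle
  have h1 : a • m ∈ torsT T M := by
    have := hy a hap
    rwa [← Submodule.Quotient.mk_smul, Submodule.Quotient.mk_eq_zero] at this
  obtain ⟨s, hs, hsm⟩ := h1 q hq
  exact ⟨s * a, fun h => (q.2.mem_or_mem h).elim hs haq, by rw [mul_smul, hsm]⟩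

end Tors

end Groth.Agent.Lib.TorsT_helper3
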