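import Groth.Agent.Lib.TorsionFree_helper9
import Mathlib.Algebra.Module.Torsion.Basic
import Mathlib.LinearAlgebra.Dual.Lemmas

/-!
# Double duals and torsion
-/

set_option autoImplicit false
universe u v

open Module Submodule Set

namespace Groth.Agent.Lib.TorsionFree2_helper9

/-- every linear functional kills the torsion submodule (over a domain) -/
theorem torsion_le_ker_dual (R : Type u) [CommRing R] [IsDomain R] (M : Type v)
    [AddCommGroup M] [Module R M] (φ : Module.Dual R M) :
    Submodule.torsion R M ≤ LinearMap.ker φ := by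
  intro t ht
  obtain ⟨a, ha⟩ := (Submodule.mem_torsion_iff t).mp ht
  have h1 : (a : R) • φ t = 0 := by
    rw [← map_smul]
    have : (a : R) • t = 0 := ha
    rw [this, map_zero]
  rw [LinearMap.mem_ker]
  exact (smul_eq_zero.mp h1).resolve_left (nonZeroDivisors.coe_ne_zero a)

/-- If the torsion-free quotient of `M` is reflexive then `M → M**` is surjective. -/
theorem dual_eval_surjective_of_quotient_torsion_reflexive (R : Type u) [CommRing R] [IsDomain R]
    (M : Type v) [AddCommGroup M] [Module R M]
    [Module.IsReflexive R (M ⧸ Submodule.torsion R M)] :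
    Function.Surjective (Module.Dual.eval R M) := by
  intro y
  set T := Submodule.torsion R M with hT
  let y' : Module.Dual R (Module.Dual R (M ⧸ T)) := y ∘ₗ (Module.Dual.transpose T.mkQ)
  obtain ⟨f, hf⟩ := (Module.bijective_dual_eval R (M ⧸ T)).2 y'
  obtain ⟨x, rfl⟩ := T.mkQ_surjective f
  refine ⟨x, ?_⟩
  ext φ
  have hφ : T ≤ LinearMap.ker φ := torsion_le_ker_dual R M φ
  have h1 := LinearMap.congr_fun hf (T.liftQ φ hφ)
  have h2 : (T.liftQ φ hφ) ∘ₗ T.mkQ = φ := Submodule.liftQ_mkQ T φ hφ
  simp only [Module.Dual.eval_apply, y', LinearMap.comp_apply, Module.Dual.transpose_apply] at h1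
  rw [Module.Dual.eval_apply]
  rw [h2] at h1
  rw [← h1]
  simp
  
end Groth.Agent.Lib.TorsionFree2_helper9

namespace Groth.Agent.Lib.TorsionFree2_helper9

/-- For a finite module over a domain there are a nonzero `A`, finitely many elements `b i` and
a linear "coordinate" map `g` with `A • m = ∑ i, g m i • b i` for all `m`. -/
theorem exists_coords (R : Type u) [CommRing R] [IsDomain R] (M : Type v)
    [AddCommGroup M] [Module R M] [Module.Finite R M] :
    ∃ (n : ℕ) (b : Fin n → M) (A : R) (g : M →ₗ[R] (Fin n → R)), A ≠ 0 ∧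
      ∀ m : M, A • m = ∑ i, g m i • b i := by
  classical
  obtain ⟨m, s, hs⟩ := Module.Finite.exists_fin (R := R) (M := M)
  obtain ⟨I, indepI, hI⟩ := exists_maximal_linearIndepOn R s
  let N : Submodule R M := span R (range (s ∘ (fun x => x) : I → M))
  let sI_basis : Basis I R N := Basis.span indepI
  have exists_a : ∀ i : Fin m, ∃ a : R, a ≠ 0 ∧ a • s i ∈ N := by
    intro i
    by_cases hi : i ∈ I
    · refine ⟨1, one_ne_zero, ?_⟩
      rw [one_smul]
      exact subset_span (mem_range_self (⟨i, hi⟩ : I))
    · obtain ⟨a, ha, ha'⟩ := hI i hi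
      refine ⟨a, ha, ?_⟩
      have : s '' I = range (s ∘ (fun x => x) : I → M) := by
        ext x; simp
      rw [this] at ha'
      exact ha'
  choose a ha ha' using exists_a
  let A := ∏ i, a i
  have hA : A ≠ 0 := by
    rw [Finset.prod_ne_zero_iff]
    intro i _
    exact ha i
  have hmem : ∀ x : M, A • x ∈ N := by
    have hall : (⊤ : Submodule R M) ≤ N.comap (LinearMap.lsmul R M A) := by
      rw [← hs, span_le]
      rintro _ ⟨i, rfl⟩
      change A • s i ∈ N
      have : A • s i = (∏ j ∈ ({i}ᶜ : Finset (Fin m)), a j) • a i • s i := by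
        rw [← mul_smul, ← Fintype.prod_eq_prod_compl_mul i]
      rw [this]
      exact N.smul_mem _ (ha' i)
    intro x
    exact hall (mem_top : x ∈ ⊤)
  let φ : M →ₗ[R] N := (LinearMap.lsmul R M A).codRestrict N hmem
  have hIfin : Finite I := inferInstance
  let e : I ≃ Fin (Nat.card I) := Finite.equivFin I
  let bas : Basis (Fin (Nat.card I)) R N := sI_basis.reindex e
  refine ⟨Nat.card I, fun i => (bas i : M), A, bas.equivFun.toLinearMap ∘ₗ φ, hA, fun x => ?_⟩
  have h1 : φ x = ∑ i, bas.equivFun (φ x) i • bas i := (bas.sum_equivFun (φ x)).symm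
  have h2 : A • x = ((φ x : N) : M) := rfl
  rw [h2, h1]
  simp only [LinearMap.coe_comp, LinearEquiv.coe_coe, Function.comp_apply]
  rw [Submodule.coe_sum]
  refine Finset.sum_congr rfl (fun i _ => ?_)
  rw [Submodule.coe_smul]

end Groth.Agent.Lib.TorsionFree2_helper9
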