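import Mathlib
import Groth.Agent.Lib.Gorenstein2_helper5

/-!
# Torsionless and reflexive modules over finite reduced algebras over a domain (helper6)

* `eval_injective_of_tf`: `S` finite reduced over a domain `Λ`, `M` a finite `S`-module without
  `Λ`-torsion; then `M` is torsionless over `S`.
* `exists_embed_free`: finite torsionless module over a Noetherian ring embeds in `S^b`.
* `ext_one_eq_zero`: `id_S S ≤ 1`, `M` finite torsionless ⇒ `Ext¹(M,S) = 0`.
* `free_of_eval_injective`: torsionless ⇒ free over the PID `Λ`.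
* `reflexive_of_tf`: `id_S S ≤ 1`, `M` without `Λ`-torsion ⇒ `M` reflexive.
-/

set_option autoImplicit false
set_option maxHeartbeats 400000
universe u
open CategoryTheory

namespace Groth.Agent.Lib.Torsionless_helper6

theorem eval_injective_of_tf (Λ : Type u) [CommRing Λ] [IsDomain Λ]
    (S : Type u) [CommRing S] [Algebra Λ S] [Module.Finite Λ S] [IsReduced S] [IsNoetherianRing S]
    (M : Type u) [AddCommGroup M] [Module S M] [Module.Finite S M]
    (htf : ∀ (l : Λ) (m : M), l ≠ 0 → algebraMap Λ S l • m = 0 → m = 0) :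
    Function.Injective (Module.Dual.eval S M) := by
  classical
  let T : Submonoid S := Algebra.algebraMapSubmonoid S (nonZeroDivisors Λ)
  haveI : IsReduced (Localization T) := isReduced_localizationPreserves T (Localization T) inferInstance
  haveI : Module.Finite (FractionRing Λ) (Localization T) := inferInstance
  haveI : IsArtinianRing (Localization T) := IsArtinianRing.of_finite (FractionRing Λ) (Localization T)
  haveI : IsSemisimpleRing (Localization T) := IsArtinianRing.isSemisimpleRing_of_isReduced (Localization T)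
  haveI : Module.Projective (Localization T) (LocalizedModule T M) :=
    Module.projective_of_isSemisimpleRing (Localization T) (LocalizedModule T M)
  haveI : Module.Finite (Localization T) (LocalizedModule T M) :=
    Module.Finite.of_isLocalizedModule T (LocalizedModule.mkLinearMap T M)
  have hev : Function.Injective (Module.Dual.eval (Localization T) (LocalizedModule T M)) :=
    (Module.bijective_dual_eval (Localization T) (LocalizedModule T M)).injective
  haveI : Module.FinitePresentation S M := Module.finitePresentation_of_finite S M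
  rw [injective_iff_map_eq_zero]
  intro m hm
  by_contra hne
  have h1 : LocalizedModule.mkLinearMap T M m ≠ 0 := by
    intro h0
    rw [IsLocalizedModule.eq_zero_iff T] at h0
    obtain ⟨⟨t, ht⟩, hts⟩ := h0
    obtain ⟨l, hl, rfl⟩ := ht
    exact hne (htf l m (nonZeroDivisors.ne_zero hl) hts)
  obtain ⟨ψ, hψ⟩ : ∃ ψ : Module.Dual (Localization T) (LocalizedModule T M),
      ψ (LocalizedModule.mkLinearMap T M m) ≠ 0 := by
    by_contra hall
    push_neg at hall
    apply h1
    apply hev
    apply LinearMap.ext
    intro ψ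
    rw [Module.Dual.eval_apply, hall ψ, map_zero, LinearMap.zero_apply]
  let g : M →ₗ[S] Localization T := (ψ.restrictScalars S) ∘ₗ (LocalizedModule.mkLinearMap T M)
  obtain ⟨h, s, hs⟩ := Module.FinitePresentation.exists_lift_of_isLocalizedModule T
    (Algebra.linearMap S (Localization T)) g
  have h3 : h m = 0 := by
    have h2 : (Module.Dual.eval S M m) h = 0 := by rw [hm]; rfl
    exact h2
  have h4 := LinearMap.congr_fun hs m
  rw [LinearMap.comp_apply, h3, map_zero] at h4
  have h5 : IsUnit (algebraMap S (Localization T) s) := IsLocalization.map_units (Localization T) s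
  apply hψ
  have h6 : algebraMap S (Localization T) s * ψ (LocalizedModule.mkLinearMap T M m) = 0 := by
    rw [← Algebra.smul_def]
    exact h4.symm
  exact (h5.mul_right_eq_zero).mp h6

theorem exists_embed_free (S : Type u) [CommRing S] [IsNoetherianRing S]
    (M : Type u) [AddCommGroup M] [Module S M] [Module.Finite S M]
    (h : Function.Injective (Module.Dual.eval S M)) :
    ∃ (b : ℕ) (j : M →ₗ[S] (Fin b → S)), Function.Injective j := by
  haveI : IsNoetherian S (Module.Dual S M) := isNoetherian_linearMap S S M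
  haveI : Module.Finite S (Module.Dual S M) := Module.IsNoetherian.finite S _
  obtain ⟨b, π, hπ⟩ := Module.Finite.exists_fin' S (Module.Dual S M)
  refine ⟨b, (Module.piEquiv (Fin b) S S).symm.toLinearMap ∘ₗ π.dualMap ∘ₗ Module.Dual.eval S M, ?_⟩
  exact (Module.piEquiv (Fin b) S S).symm.injective.comp
    ((LinearMap.dualMap_injective_of_surjective hπ).comp h)

theorem ext_one_eq_zero (S : Type u) [CommRing S] [IsNoetherianRing S]
    (hinj : HasInjectiveDimensionLT (ModuleCat.of S S) 2)
    (M : Type u) [AddCommGroup M] [Module S M] [Module.Finite S M]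
    (h : Function.Injective (Module.Dual.eval S M))
    (e : Abelian.Ext (ModuleCat.of S M) (ModuleCat.of S S) 1) : e = 0 := by
  obtain ⟨b, j, hj⟩ := exists_embed_free S M h
  haveI : Projective (ModuleCat.of S (Fin b → S)) :=
    (IsProjective.iff_projective (R := S) (P := (Fin b → S))).mp inferInstance
  have hex := LinearMap.exact_map_mkQ_range j
  have hp := Submodule.mkQ_surjective (LinearMap.range j)
  have hS := Groth.Agent.TorLES.mk_shortExact j (LinearMap.range j).mkQ hj hex hp
  obtain ⟨e₂, he₂⟩ := Abelian.Ext.contravariant_sequence_exact₁ hS (ModuleCat.of S S) e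
    (rfl : 1 + 1 = 2)
    ((hasInjectiveDimensionLT_iff (X := ModuleCat.of S S) (n := 2)).mp hinj 2 le_rfl _)
  have h0 : e₂ = 0 :=
    (hasProjectiveDimensionLT_iff (X := ModuleCat.of S (Fin b → S))
      (n := 1)).mp inferInstance 1 le_rfl e₂
  rw [← he₂, h0, Abelian.Ext.comp_zero]
  rfl

theorem free_of_eval_injective (Λ : Type u) [CommRing Λ] [IsDomain Λ] [IsPrincipalIdealRing Λ]
    (S : Type u) [CommRing S] [Algebra Λ S] [Module.Finite Λ S] [Module.Free Λ S]
    (M : Type u) [AddCommGroup M] [Module S M] [Module Λ M] [IsScalarTower Λ S M]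
    [Module.Finite S M]
    (h : Function.Injective (Module.Dual.eval S M)) : Module.Free Λ M := by
  haveI : IsNoetherianRing S := IsNoetherianRing.of_finite Λ S
  obtain ⟨b, j, hj⟩ := exists_embed_free S M h
  haveI : Module.Finite Λ M := Module.Finite.trans S M
  haveI : Module.IsTorsionFree Λ M := by
    refine Function.Injective.moduleIsTorsionFree (N := Fin b → S) j hj ?_
    intro r m
    rw [← algebraMap_smul S r m, map_smul, algebraMap_smul]
  infer_instance

theorem reflexive_of_tf (Λ : Type u) [CommRing Λ] [IsDomain Λ]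
    (S : Type u) [CommRing S] [Algebra Λ S] [Module.Finite Λ S] [IsReduced S] [IsNoetherianRing S]
    (hS : ∀ (l : Λ) (s : S), l ≠ 0 → algebraMap Λ S l * s = 0 → s = 0)
    (hinj : HasInjectiveDimensionLT (ModuleCat.of S S) 2)
    (M : Type u) [AddCommGroup M] [Module S M] [Module.Finite S M]
    (htf : ∀ (l : Λ) (m : M), l ≠ 0 → algebraMap Λ S l • m = 0 → m = 0) :
    Module.IsReflexive S M := by
  have hM := eval_injective_of_tf Λ S M htf
  refine ⟨⟨hM, ?_⟩⟩
  obtain ⟨n, π, hπ⟩ := Module.Finite.exists_fin' S M
  let p : Module.Dual S M →ₗ[S] Module.Dual S (Fin n → S) := π.dualMap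
  have hp : Function.Injective p := LinearMap.dualMap_injective_of_surjective hπ
  have hCtf : ∀ (l : Λ) (c : Module.Dual S (Fin n → S) ⧸ LinearMap.range p), l ≠ 0 →
      algebraMap Λ S l • c = 0 → c = 0 := by
    intro l c hl hc
    obtain ⟨φ, rfl⟩ := Submodule.mkQ_surjective _ c
    rw [← map_smul, Submodule.mkQ_apply, Submodule.Quotient.mk_eq_zero] at hc
    obtain ⟨ψ, hψ⟩ := hc
    rw [Submodule.mkQ_apply, Submodule.Quotient.mk_eq_zero]
    have hker : LinearMap.ker π ≤ LinearMap.ker φ := by
      intro x hx
      rw [LinearMap.mem_ker] at hx ⊢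
      have h1 := LinearMap.congr_fun hψ x
      rw [LinearMap.dualMap_apply, hx, map_zero, LinearMap.smul_apply, smul_eq_mul] at h1
      exact hS l _ hl h1.symm
    refine ⟨((LinearMap.ker π).liftQ φ hker) ∘ₗ
      (π.quotKerEquivOfSurjective hπ).symm.toLinearMap, ?_⟩
    apply LinearMap.ext
    intro x
    rw [LinearMap.dualMap_apply, LinearMap.comp_apply, LinearEquiv.coe_coe,
      LinearMap.quotKerEquivOfSurjective_symm_apply, Submodule.liftQ_apply]
  have hC := eval_injective_of_tf Λ S (Module.Dual S (Fin n → S) ⧸ LinearMap.range p) hCtf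
  have hS' := Groth.Agent.TorLES.mk_shortExact p (LinearMap.range p).mkQ hp
    (LinearMap.exact_map_mkQ_range p) (Submodule.mkQ_surjective _)
  intro ξ
  obtain ⟨x₂, hx₂⟩ : ∃ x₂ : Abelian.Ext (ModuleCat.of S (Module.Dual S (Fin n → S)))
      (ModuleCat.of S S) 0,
      (Abelian.Ext.mk₀ (ModuleCat.ofHom p)).comp x₂ (zero_add 0) =
        Abelian.Ext.mk₀ (ModuleCat.ofHom ξ) :=
    Abelian.Ext.contravariant_sequence_exact₁ hS' (ModuleCat.of S S)
      (Abelian.Ext.mk₀ (ModuleCat.ofHom ξ)) (rfl : 1 + 0 = 1)
      (ext_one_eq_zero S hinj _ hC _)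
  obtain ⟨g, rfl⟩ := (Abelian.Ext.mk₀_bijective _ _).2 x₂
  rw [Abelian.Ext.mk₀_comp_mk₀] at hx₂
  have h7 : ModuleCat.ofHom p ≫ g = ModuleCat.ofHom ξ := (Abelian.Ext.mk₀_bijective _ _).1 hx₂
  have h8 : ∀ d : Module.Dual S M, g.hom (p d) = ξ d := by
    intro d
    have := congrArg (fun k => k.hom d) h7
    simpa using this
  obtain ⟨x, hx⟩ := (Module.bijective_dual_eval S (Fin n → S)).surjective g.hom
  refine ⟨π x, ?_⟩
  apply LinearMap.ext
  intro d
  rw [Module.Dual.eval_apply, ← h8 d, ← hx, Module.Dual.eval_apply, LinearMap.dualMap_apply]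

end Groth.Agent.Lib.Torsionless_helper6
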