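import Mathlib
import Groth.Prelude.Def_ActBC
import Groth.Agent.Lib.TorsorFF_helper7

/-!
# fpqc torsors under flat lfp groups are fppf torsors (helper7)
-/

set_option autoImplicit false
universe u
open CategoryTheory CategoryTheory.Limits AlgebraicGeometry MonoidalCategory
  CartesianMonoidalCategory MonObj GrpObj

namespace Groth.Agent.Lib.TorsorFppf_helper7

open Groth.Agent.Lib.TorsorIso_helper7 Groth.Agent.Lib.TorsorProp_helper7
  Groth.Agent.Lib.TorsorFF_helper7

variable {S : Scheme.{u}}

theorem main (G X : Over S) [GrpObj G] [Flat G.hom] [LocallyOfFinitePresentation G.hom]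
    (a : AlgGrp.Action G X) (h : NonAbH1.IsTorsorFor Scheme.fpqcPrecoverage a) :
    NonAbH1.IsTorsorFor Scheme.fppfPrecoverage a := by
  haveI := flat_descends.{u}
  haveI : Surjective X.hom := prop_of_torsor @Surjective a h (surjective_grp_hom G)
  haveI : Flat X.hom := prop_of_torsor @Flat a h inferInstance
  haveI : LocallyOfFinitePresentation X.hom :=
    prop_of_torsor @LocallyOfFinitePresentation a h inferInstance
  refine ⟨h.1, Presieve.singleton X.hom, X.hom.singleton_mem_fppfPrecoverage, ?_⟩
  intro T f hf
  cases hf
  exact ⟨𝟙 _, Category.id_comp _⟩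

end Groth.Agent.Lib.TorsorFppf_helper7
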