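import Mathlib
import Groth.Prelude
import Groth.Agent.Lib.HartogsNN_helper4
import Groth.Agent.Lib.AffineDescent_helper7
import Groth.Agent.Lib.Regular3_helper5

/-!
# Extension of equivariant morphisms of torsors under finite locally free groups (helper4)

`X` a scheme, `U` a retrocompact open such that `𝒪_{X,z}` is regular of dimension `≥ 2` for
`z ∉ U`.  For `A, B` over `X` with `A` flat and `B` affine over `X`, restriction
`Hom_X(A, B) → Hom_U(A|U, B|U)` is bijective (non-Noetherian Hartogs).  Applied to torsors under a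
finite flat group scheme.
-/

set_option autoImplicit false
set_option linter.unusedVariables false
set_option linter.unusedTactic false
set_option linter.unreachableTactic false
set_option linter.unusedSectionVars false
set_option linter.style.haveILetI false
set_option maxHeartbeats 800000
set_option backward.isDefEq.respectTransparency false

universe u

open AlgebraicGeometry CategoryTheory CategoryTheory.Limits TopologicalSpace MonoidalCategory
open Groth.Agent.Lib.HartogsNNH4 (HP RegPair regPair_of_isWeaklyRegular quasiCompact_preimage_ι)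
open scoped Pointwise

namespace Groth.Agent.Lib.TorsorHomExtH4

section Alg

theorem isWeaklyRegular_of_elementwise {R : Type*} [CommRing R] (a b : R)
    (ha : IsSMulRegular R a)
    (hb : ∀ y : R, (∃ w, b * y = a * w) → ∃ w', y = a * w') :
    RingTheory.Sequence.IsWeaklyRegular R [a, b] := by
  rw [RingTheory.Sequence.isWeaklyRegular_cons_iff,
    RingTheory.Sequence.isWeaklyRegular_cons_iff]
  refine ⟨ha, ?_, RingTheory.Sequence.IsWeaklyRegular.nil _ _⟩
  show IsSMulRegular (R ⧸ (a • (⊤ : Submodule R R))) b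
  rw [isSMulRegular_quotient_iff_mem_of_smul_mem]
  intro y hy
  rw [Submodule.mem_smul_pointwise_iff_exists] at hy ⊢
  obtain ⟨w, -, hw⟩ := hy
  have hw2 : b * y = a * w := hw.symm
  obtain ⟨w', hw'⟩ := hb y ⟨w, hw2⟩
  exact ⟨w', trivial, hw'.symm⟩

theorem exists_pair_of_regular (R : Type u) [CommRing R] [IsRegularLocalRing R]
    (hd : (2 : WithBot ℕ∞) ≤ ringKrullDim R) :
    ∃ a b : R, a ∈ IsLocalRing.maximalIdeal R ∧ b ∈ IsLocalRing.maximalIdeal R ∧
      RingTheory.Sequence.IsWeaklyRegular R [a, b] := by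
  have hdim := Groth.Agent.RegularLib.spanFinrank_eq_dim R
  have h2 : 2 ≤ (IsLocalRing.maximalIdeal R).spanFinrank := by
    rw [← hdim] at hd
    exact_mod_cast hd
  obtain ⟨x, hx, hx2⟩ : ∃ x ∈ IsLocalRing.maximalIdeal R, x ∉ IsLocalRing.maximalIdeal R ^ 2 := by
    by_contra hcon
    push Not at hcon
    have hle : IsLocalRing.maximalIdeal R ≤
        IsLocalRing.maximalIdeal R • IsLocalRing.maximalIdeal R := by
      intro y hy
      have h3 := hcon y hy
      rw [pow_two] at h3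
      exact h3
    have hbot := Submodule.eq_bot_of_le_smul_of_le_jacobson_bot (IsLocalRing.maximalIdeal R)
      (IsLocalRing.maximalIdeal R) (IsNoetherian.noetherian _) hle
      (IsLocalRing.maximalIdeal_le_jacobson ⊥)
    rw [hbot, Submodule.spanFinrank_bot] at h2
    omega
  obtain ⟨inst, hq⟩ := Groth.Agent.RegularLib.quotient_of_not_mem_sq R x hx hx2
  haveI hdomR : IsDomain R := Groth.Agent.RegularLib.isDomain R
  haveI hdomQ : IsDomain (R ⧸ Ideal.span {x}) := Groth.Agent.RegularLib.isDomain _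
  have hx0 : x ≠ 0 := by
    intro h
    apply hx2
    rw [h]
    exact Ideal.zero_mem _
  have hmQ : IsLocalRing.maximalIdeal (R ⧸ Ideal.span {x}) ≠ ⊥ := by
    intro h
    rw [h, Submodule.spanFinrank_bot] at hq
    omega
  obtain ⟨b', hb'm, hb'0⟩ := Submodule.exists_mem_ne_zero_of_ne_bot hmQ
  obtain ⟨b, rfl⟩ := Ideal.Quotient.mk_surjective b'
  have hbm : b ∈ IsLocalRing.maximalIdeal R := by
    rw [IsLocalRing.mem_maximalIdeal, mem_nonunits_iff] at hb'm ⊢
    intro hu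
    exact hb'm (hu.map _)
  refine ⟨x, b, hx, hbm, isWeaklyRegular_of_elementwise x b ?_ ?_⟩
  · intro y z hyz
    exact mul_left_cancel₀ hx0 hyz
  · rintro y ⟨w, hw⟩
    have h1 : Ideal.Quotient.mk (Ideal.span {x}) b * Ideal.Quotient.mk (Ideal.span {x}) y = 0 := by
      rw [← map_mul, hw, Ideal.Quotient.eq_zero_iff_mem]
      exact Ideal.mul_mem_right _ _ (Ideal.mem_span_singleton_self x)
    have h2' : Ideal.Quotient.mk (Ideal.span {x}) y = 0 :=
      (mul_eq_zero.mp h1).resolve_left hb'0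
    rw [Ideal.Quotient.eq_zero_iff_mem, Ideal.mem_span_singleton'] at h2'
    obtain ⟨w', hw'⟩ := h2'
    exact ⟨w', by rw [← hw', mul_comm]⟩

theorem regPair_map_of_flat {R S : Type*} [CommRing R] [CommRing S] (φ : R →+* S) (hφ : φ.Flat)
    (a b : R) (h : RingTheory.Sequence.IsWeaklyRegular R [a, b]) : RegPair (φ a) (φ b) := by
  letI := φ.toAlgebra
  haveI : Module.Flat R S := hφ
  have h1 := RingTheory.Sequence.IsWeaklyRegular.of_flat (S := S) h
  have h1' : RingTheory.Sequence.IsWeaklyRegular S [φ a, φ b] := h1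
  exact regPair_of_isWeaklyRegular _ _ h1'

end Alg

section Sch

theorem hp_of_flat {X : Scheme.{u}} (U : X.Opens)
    (hZ : ∀ z : X, z ∉ U → IsRegularLocalRing (X.presheaf.stalk z) ∧
      (2 : WithBot ℕ∞) ≤ ringKrullDim (X.presheaf.stalk z))
    {Q : Scheme.{u}} (q : Q ⟶ X) [Flat q] : HP Q (q ⁻¹ᵁ U) := by
  intro z' hz'
  have hz : q z' ∉ U := fun h => hz' ((Scheme.Hom.mem_preimage q).mpr h)
  obtain ⟨hreg, hdim⟩ := hZ _ hz
  haveI := hreg
  obtain ⟨a, b, ha, hb, hab⟩ := exists_pair_of_regular (X.presheaf.stalk (q z')) hdim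
  have hflat := Flat.stalkMap q z'
  have hloc : ∀ c : X.presheaf.stalk (q z'), c ∈ IsLocalRing.maximalIdeal _ →
      (q.stalkMap z').hom c ∈ IsLocalRing.maximalIdeal (Q.presheaf.stalk z') := by
    intro c hc
    rw [IsLocalRing.mem_maximalIdeal, mem_nonunits_iff] at hc ⊢
    intro hu
    exact hc (isUnit_of_map_unit (q.stalkMap z').hom c hu)
  exact ⟨_, _, hloc a ha, hloc b hb, regPair_map_of_flat _ hflat a b hab⟩

theorem ext_of_flat {X : Scheme.{u}} (U : X.Opens) [QuasiCompact U.ι]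
    (hZ : ∀ z : X, z ∉ U → IsRegularLocalRing (X.presheaf.stalk z) ∧
      (2 : WithBot ℕ∞) ≤ ringKrullDim (X.presheaf.stalk z))
    {Q B : Scheme.{u}} (q : Q ⟶ X) [Flat q] (p : B ⟶ X) [IsSeparated p] (φ ψ : Q ⟶ B)
    (hφ : φ ≫ p = q) (hψ : ψ ≫ p = q)
    (h : pullback.fst q U.ι ≫ φ = pullback.fst q U.ι ≫ ψ) : φ = ψ := by
  have hP := hp_of_flat U hZ q
  haveI := quasiCompact_preimage_ι q U
  have hreg1 : ∀ z : Q, z ∉ q ⁻¹ᵁ U → ∃ a ∈ IsLocalRing.maximalIdeal (Q.presheaf.stalk z),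
      IsSMulRegular (Q.presheaf.stalk z) a := by
    intro z hz
    obtain ⟨a, b, ha, hb, hreg⟩ := hP z hz
    exact ⟨a, ha, hreg.1⟩
  haveI := Groth.Agent.Lib.SchDenseOldH4.isSchemeTheoreticallyDominant_ι Q (q ⁻¹ᵁ U) hreg1
  refine Groth.Agent.Lib.SchDenseOldH4.ext_of_schDominant p (hφ.trans hψ.symm) (q ⁻¹ᵁ U).ι ?_
  calc (q ⁻¹ᵁ U).ι ≫ φ
      = ((pullbackRestrictIsoRestrict q U).inv ≫ pullback.fst q U.ι) ≫ φ := by
        rw [pullbackRestrictIsoRestrict_inv_fst]
    _ = (pullbackRestrictIsoRestrict q U).inv ≫ (pullback.fst q U.ι ≫ φ) := Category.assoc _ _ _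
    _ = (pullbackRestrictIsoRestrict q U).inv ≫ (pullback.fst q U.ι ≫ ψ) := by rw [h]
    _ = ((pullbackRestrictIsoRestrict q U).inv ≫ pullback.fst q U.ι) ≫ ψ :=
        (Category.assoc _ _ _).symm
    _ = (q ⁻¹ᵁ U).ι ≫ ψ := by rw [pullbackRestrictIsoRestrict_inv_fst]

theorem exists_ext {X : Scheme.{u}} (U : X.Opens) [QuasiCompact U.ι]
    (hZ : ∀ z : X, z ∉ U → IsRegularLocalRing (X.presheaf.stalk z) ∧
      (2 : WithBot ℕ∞) ≤ ringKrullDim (X.presheaf.stalk z))
    {Q B : Scheme.{u}} (q : Q ⟶ X) [Flat q] (p : B ⟶ X) [IsAffineHom p]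
    (g : pullback q U.ι ⟶ B) (hg : g ≫ p = pullback.fst q U.ι ≫ q) :
    ∃ h : Q ⟶ B, h ≫ p = q ∧ pullback.fst q U.ι ≫ h = g := by
  haveI := quasiCompact_preimage_ι q U
  have hP := hp_of_flat U hZ q
  haveI : IsAffineHom (pullback.snd p q) :=
    MorphismProperty.pullback_snd (P := @IsAffineHom) _ _ inferInstance
  have hcond : ((pullbackRestrictIsoRestrict q U).inv ≫ g) ≫ p = (q ⁻¹ᵁ U).ι ≫ q :=
    calc ((pullbackRestrictIsoRestrict q U).inv ≫ g) ≫ p
        = (pullbackRestrictIsoRestrict q U).inv ≫ (g ≫ p) := Category.assoc _ _ _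
      _ = (pullbackRestrictIsoRestrict q U).inv ≫ (pullback.fst q U.ι ≫ q) := by rw [hg]
      _ = ((pullbackRestrictIsoRestrict q U).inv ≫ pullback.fst q U.ι) ≫ q :=
          (Category.assoc _ _ _).symm
      _ = (q ⁻¹ᵁ U).ι ≫ q := by rw [pullbackRestrictIsoRestrict_inv_fst]
  obtain ⟨t, ht1, ht2⟩ : ∃ t : ((q ⁻¹ᵁ U : Q.Opens) : Scheme.{u}) ⟶ pullback p q,
      t ≫ pullback.fst p q = (pullbackRestrictIsoRestrict q U).inv ≫ g ∧
      t ≫ pullback.snd p q = (q ⁻¹ᵁ U).ι :=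
    ⟨pullback.lift _ _ hcond, pullback.lift_fst _ _ _, pullback.lift_snd _ _ _⟩
  obtain ⟨s, hs1, hs2⟩ := Groth.Agent.Lib.HartogsNNH4.main Q (q ⁻¹ᵁ U) hP (pullback p q)
    (pullback.snd p q) t ht2
  refine ⟨s ≫ pullback.fst p q, ?_, ?_⟩
  · calc (s ≫ pullback.fst p q) ≫ p = s ≫ (pullback.fst p q ≫ p) := Category.assoc _ _ _
      _ = s ≫ (pullback.snd p q ≫ q) := by rw [pullback.condition]
      _ = (s ≫ pullback.snd p q) ≫ q := (Category.assoc _ _ _).symm
      _ = q := by rw [hs1, Category.id_comp]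
  · calc pullback.fst q U.ι ≫ s ≫ pullback.fst p q
        = ((pullbackRestrictIsoRestrict q U).hom ≫ (q ⁻¹ᵁ U).ι) ≫ s ≫ pullback.fst p q := by
          rw [pullbackRestrictIsoRestrict_hom_ι]
      _ = (pullbackRestrictIsoRestrict q U).hom ≫ ((q ⁻¹ᵁ U).ι ≫ s) ≫ pullback.fst p q := by
          simp only [Category.assoc]
      _ = (pullbackRestrictIsoRestrict q U).hom ≫ t ≫ pullback.fst p q := by rw [hs2]
      _ = (pullbackRestrictIsoRestrict q U).hom ≫ (pullbackRestrictIsoRestrict q U).inv ≫ g := by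
          rw [ht1]
      _ = g := by rw [Iso.hom_inv_id_assoc]

theorem pb_map_fst {X : Scheme.{u}} (U : X.Opens) {A B : Over X} (k : A ⟶ B) :
    ((Over.pullback U.ι).map k).left ≫ pullback.fst B.hom U.ι =
      pullback.fst A.hom U.ι ≫ k.left := by
  first
    | (simp only [Over.pullback_map_left, pullback.lift_fst]; done)
    | exact pullback.lift_fst _ _ _
    | simp

/-- **Torsor morphisms extend across a closed subset of regular points of dimension ≥ 2.** -/
theorem main {X : Scheme.{u}} (G : Over X) [GrpObj G] [IsFinite G.hom] [Flat G.hom]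
    (U : X.Opens) [QuasiCompact U.ι]
    (hZ : ∀ z : X, z ∉ U → IsRegularLocalRing (X.presheaf.stalk z) ∧
      (2 : WithBot ℕ∞) ≤ ringKrullDim (X.presheaf.stalk z))
    (Q₁ Q₂ : Over X) (a₁ : AlgGrp.Action G Q₁) (a₂ : AlgGrp.Action G Q₂)
    (h₁ : NonAbH1.IsTorsorFor Scheme.fppfPrecoverage a₁)
    (h₂ : NonAbH1.IsTorsorFor Scheme.fppfPrecoverage a₂)
    (h' : (Over.pullback U.ι).obj Q₁ ⟶ (Over.pullback U.ι).obj Q₂)
    (hh' : (Functor.LaxMonoidal.μ (Over.pullback U.ι) G Q₁ ≫ (Over.pullback U.ι).map a₁.act) ≫ h' =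
      ((Over.pullback U.ι).obj G ◁ h') ≫
        (Functor.LaxMonoidal.μ (Over.pullback U.ι) G Q₂ ≫ (Over.pullback U.ι).map a₂.act)) :
    ∃! h : Q₁ ⟶ Q₂, a₁.act ≫ h = (G ◁ h) ≫ a₂.act ∧ (Over.pullback U.ι).map h = h' := by
  have h₁' : NonAbH1.IsTorsorFor Scheme.fpqcPrecoverage a₁ := by
    obtain ⟨R, hR, hs⟩ := h₁.2
    exact ⟨h₁.1, R, Scheme.fppfPrecoverage_le_fpqcPrecoverage _ hR, hs⟩
  have h₂' : NonAbH1.IsTorsorFor Scheme.fpqcPrecoverage a₂ := by
    obtain ⟨R, hR, hs⟩ := h₂.2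
    exact ⟨h₂.1, R, Scheme.fppfPrecoverage_le_fpqcPrecoverage _ hR, hs⟩
  obtain ⟨hA1, hF1⟩ := Groth.Agent.Lib.AffineDescent_helper7.main G Q₁ a₁ h₁'
  obtain ⟨hA2, hF2⟩ := Groth.Agent.Lib.AffineDescent_helper7.main G Q₂ a₂ h₂'
  haveI := hF1
  haveI := hA2
  haveI : IsSeparated Q₂.hom := inferInstance
  have faithful : ∀ (A : Over X) [Flat A.hom] (φ ψ : A ⟶ Q₂),
      (Over.pullback U.ι).map φ = (Over.pullback U.ι).map ψ → φ = ψ := by
    intro A _ φ ψ h
    apply Over.OverMorphism.ext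
    refine ext_of_flat U hZ A.hom Q₂.hom φ.left ψ.left (Over.w φ) (Over.w ψ) ?_
    have e1 := pb_map_fst U φ
    have e2 := pb_map_fst U ψ
    rw [h] at e1
    exact e1.symm.trans e2
  have hw : h'.left ≫ pullback.snd Q₂.hom U.ι = pullback.snd Q₁.hom U.ι := Over.w h'
  have hg : (h'.left ≫ pullback.fst Q₂.hom U.ι) ≫ Q₂.hom = pullback.fst Q₁.hom U.ι ≫ Q₁.hom :=
    calc (h'.left ≫ pullback.fst Q₂.hom U.ι) ≫ Q₂.hom
        = h'.left ≫ (pullback.fst Q₂.hom U.ι ≫ Q₂.hom) := Category.assoc _ _ _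
      _ = h'.left ≫ (pullback.snd Q₂.hom U.ι ≫ U.ι) := by rw [pullback.condition]
      _ = (h'.left ≫ pullback.snd Q₂.hom U.ι) ≫ U.ι := (Category.assoc _ _ _).symm
      _ = pullback.snd Q₁.hom U.ι ≫ U.ι := by rw [hw]
      _ = pullback.fst Q₁.hom U.ι ≫ Q₁.hom := pullback.condition.symm
  obtain ⟨h0, hh0, hh1⟩ := exists_ext U hZ Q₁.hom Q₂.hom (h'.left ≫ pullback.fst Q₂.hom U.ι) hg
  obtain ⟨h, hleft⟩ : ∃ h : Q₁ ⟶ Q₂, h.left = h0 := ⟨Over.homMk h0 hh0, rfl⟩
  have hmap : (Over.pullback U.ι).map h = h' := by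
    apply Over.OverMorphism.ext
    refine pullback.hom_ext (f := Q₂.hom) (g := U.ι) ?_ ?_
    · rw [pb_map_fst U h, hleft, hh1]
    · have hw2 : ((Over.pullback U.ι).map h).left ≫ pullback.snd Q₂.hom U.ι =
          pullback.snd Q₁.hom U.ι := Over.w ((Over.pullback U.ι).map h)
      rw [hw, hw2]
  haveI : Flat (G ⊗ Q₁).hom := by
    rw [Over.tensorObj_hom]
    infer_instance
  have hequiv : a₁.act ≫ h = (G ◁ h) ≫ a₂.act := by
    apply faithful (G ⊗ Q₁)
    rw [← cancel_epi (Functor.LaxMonoidal.μ (Over.pullback U.ι) G Q₁)]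
    calc Functor.LaxMonoidal.μ (Over.pullback U.ι) G Q₁ ≫ (Over.pullback U.ι).map (a₁.act ≫ h)
        = (Functor.LaxMonoidal.μ (Over.pullback U.ι) G Q₁ ≫ (Over.pullback U.ι).map a₁.act) ≫
            h' := by
          rw [Functor.map_comp, hmap, Category.assoc]
      _ = ((Over.pullback U.ι).obj G ◁ h') ≫
            (Functor.LaxMonoidal.μ (Over.pullback U.ι) G Q₂ ≫ (Over.pullback U.ι).map a₂.act) :=
          hh'
      _ = (((Over.pullback U.ι).obj G ◁ (Over.pullback U.ι).map h) ≫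
            Functor.LaxMonoidal.μ (Over.pullback U.ι) G Q₂) ≫ (Over.pullback U.ι).map a₂.act := by
          rw [hmap, Category.assoc]
      _ = (Functor.LaxMonoidal.μ (Over.pullback U.ι) G Q₁ ≫ (Over.pullback U.ι).map (G ◁ h)) ≫
            (Over.pullback U.ι).map a₂.act := by
          rw [Functor.LaxMonoidal.μ_natural_right]
      _ = Functor.LaxMonoidal.μ (Over.pullback U.ι) G Q₁ ≫
            (Over.pullback U.ι).map ((G ◁ h) ≫ a₂.act) := by
          rw [Functor.map_comp, Category.assoc]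
  refine ⟨h, ⟨hequiv, hmap⟩, ?_⟩
  rintro k ⟨-, hk⟩
  exact faithful Q₁ k h (hk.trans hmap.symm)

end Sch

end Groth.Agent.Lib.TorsorHomExtH4
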