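import Groth.Agent.Lib.TorsorSeq_lead

/-! # Uniqueness of the push-forward of an fpqc torsor along a homomorphism (lead) -/

set_option linter.unusedSimpArgs false
set_option linter.unusedVariables false
set_option linter.unusedSectionVars false
set_option linter.style.longLine false
set_option maxHeartbeats 800000

universe u

open CategoryTheory CategoryTheory.Limits MonoidalCategory CartesianMonoidalCategory MonObj GrpObj
  AlgebraicGeometry Opposite

namespace Groth.Agent.Lib.TorsorPush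

open SchFpqcCovH7 Groth.Agent.Lib.TorsorSeq

variable {S : Scheme.{u}}

theorem exists_unique_push {J J' J'' : Over S} [GrpObj J] [GrpObj J'] [GrpObj J'']
    (u : J ⟶ J') [IsMonHom u] (v : J' ⟶ J'') [IsMonHom v] {P P' P'' : Over S}
    (a : AlgGrp.Action J P) (a' : AlgGrp.Action J' P') (a'' : AlgGrp.Action J'' P'')
    (hP : NonAbH1.IsTorsorFor Scheme.fpqcPrecoverage a)
    (hP' : NonAbH1.IsTorsorFor Scheme.fpqcPrecoverage a')
    (q' : P ⟶ P') (hq' : a.act ≫ q' = lift (fst J P ≫ u) (snd J P ≫ q') ≫ a'.act)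
    (q'' : P ⟶ P'') (hq'' : a.act ≫ q'' = lift (fst J P ≫ u ≫ v) (snd J P ≫ q'') ≫ a''.act) :
    ∃! r : P' ⟶ P'', a'.act ≫ r = lift (fst J' P' ≫ v) (snd J' P' ≫ r) ≫ a''.act ∧
      q' ≫ r = q'' := by
  obtain ⟨hps, hPloc⟩ := hP
  obtain ⟨hps', hP'loc⟩ := hP'
  haveI : IsIso (lift a.act (snd J P)) := hps
  haveI : IsIso (lift a'.act (snd J' P')) := hps'
  have hPcov : IsCov P.hom := isCov_of_locallyTrivial _ hPloc
  have hq'p : ∀ {T : Over S} (j : T ⟶ J) (p : T ⟶ P),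
      (lift j p ≫ a.act) ≫ q' = lift (j ≫ u) (p ≫ q') ≫ a'.act := by
    intro T j p
    rw [Category.assoc, hq', ← Category.assoc, comp_lift, lift_fst_assoc, lift_snd_assoc]
  have hq''p : ∀ {T : Over S} (j : T ⟶ J) (p : T ⟶ P),
      (lift j p ≫ a.act) ≫ q'' = lift ((j ≫ u) ≫ v) (p ≫ q'') ≫ a''.act := by
    intro T j p
    rw [Category.assoc, hq'', ← Category.assoc, comp_lift, lift_fst_assoc, lift_snd_assoc,
      ← Category.assoc j]
  have hchange : ∀ {T : Over S} (p' : T ⟶ P') (p₁ p₂ : T ⟶ P),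
      dif a'.act p' (p₂ ≫ q') = dif a'.act p' (p₁ ≫ q') * (dif a.act p₁ p₂ ≫ u) := by
    intro T p' p₁ p₂
    symm
    apply dif_unique
    rw [act_mul' a', ← hq'p, dif_spec, dif_spec]
  have hR_nat : ∀ {T T' : Over S} (τ : T' ⟶ T) (p' : T ⟶ P') (p : T ⟶ P),
      τ ≫ lift (dif a'.act p' (p ≫ q') ≫ v) (p ≫ q'') ≫ a''.act =
        lift (dif a'.act (τ ≫ p') ((τ ≫ p) ≫ q') ≫ v) ((τ ≫ p) ≫ q'') ≫ a''.act := by
    intro T T' τ p' p
    rw [← Category.assoc, comp_lift, ← Category.assoc τ, comp_dif, ← Category.assoc τ,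
      ← Category.assoc τ]
  have hRindep : ∀ {T : Over S} (p' : T ⟶ P') (p₁ p₂ : T ⟶ P),
      lift (dif a'.act p' (p₂ ≫ q') ≫ v) (p₂ ≫ q'') ≫ a''.act =
        lift (dif a'.act p' (p₁ ≫ q') ≫ v) (p₁ ≫ q'') ≫ a''.act := by
    intro T p' p₁ p₂
    rw [hchange p' p₁ p₂, MonObj.mul_comp, act_mul' a'', ← hq''p, dif_spec]
  have hc : IsCov (fst P' P).left := isCov_fst P' P hPcov
  haveI hepi := epi_of_isCov (fst P' P) hc
  obtain ⟨r, hr⟩ := desc_of_isCov (fst P' P) hc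
    (lift (dif a'.act (fst P' P) (snd P' P ≫ q') ≫ v) (snd P' P ≫ q'') ≫ a''.act) (by
      intro T m₁ m₂ hm
      rw [hR_nat, hR_nat, ← hm]
      exact hRindep _ _ _)
  have hrp : ∀ {T : Over S} (p' : T ⟶ P') (p : T ⟶ P),
      p' ≫ r = lift (dif a'.act p' (p ≫ q') ≫ v) (p ≫ q'') ≫ a''.act := by
    intro T p' p
    have h1 : lift p' p ≫ fst P' P ≫ r = lift p' p ≫
        lift (dif a'.act (fst P' P) (snd P' P ≫ q') ≫ v) (snd P' P ≫ q'') ≫ a''.act := by
      rw [hr]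
    rw [lift_fst_assoc, hR_nat, lift_fst, lift_snd] at h1
    exact h1
  have hequiv : a'.act ≫ r = lift (fst J' P' ≫ v) (snd J' P' ≫ r) ≫ a''.act := by
    have hc2 : IsCov (J' ◁ fst P' P).left := isCov_whiskerLeft J' (fst P' P) hc
    haveI := epi_of_isCov _ hc2
    rw [← cancel_epi (J' ◁ fst P' P)]
    have e0 : J' ◁ fst P' P =
        lift (fst J' (P' ⊗ P)) (snd J' (P' ⊗ P) ≫ fst P' P) := by
      apply CartesianMonoidalCategory.hom_ext
      · rw [whiskerLeft_fst, lift_fst]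
      · rw [whiskerLeft_snd, lift_snd]
    rw [e0, ← Category.assoc, hrp _ (snd J' (P' ⊗ P) ≫ snd P' P), dif_act_left a',
      MonObj.mul_comp, act_mul' a'', ← hrp, ← Category.assoc, comp_lift, lift_fst_assoc,
      lift_snd_assoc]
  have hqr : q' ≫ r = q'' := by
    have h1 := hrp q' (𝟙 P)
    have h2 : dif a'.act q' q' = 1 := (dif_unique a'.act q' q' 1 (act_one' a' q')).symm
    rw [Category.id_comp, Category.id_comp, h2, MonObj.one_comp, act_one' a''] at h1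
    exact h1
  refine ⟨r, ⟨hequiv, hqr⟩, ?_⟩
  rintro r₂ ⟨h₂, hq₂⟩
  have h₂p : ∀ {T : Over S} (g : T ⟶ J') (p' : T ⟶ P'),
      (lift g p' ≫ a'.act) ≫ r₂ = lift (g ≫ v) (p' ≫ r₂) ≫ a''.act := by
    intro T g p'
    rw [Category.assoc, h₂, ← Category.assoc, comp_lift, lift_fst_assoc, lift_snd_assoc]
  rw [← cancel_epi (fst P' P), hr]
  have h3 := dif_spec a'.act (fst P' P) (snd P' P ≫ q')
  have h4 : fst P' P ≫ r₂ =
      (lift (dif a'.act (fst P' P) (snd P' P ≫ q')) (snd P' P ≫ q') ≫ a'.act) ≫ r₂ := by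
    rw [h3]
  rw [h4, h₂p, Category.assoc, hq₂]

end Groth.Agent.Lib.TorsorPush
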