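import Groth.Agent.Lib.TorsorSeq_lead
import Groth.Prelude.Def_ChGrp

/-! # Reductions of the structure group and sections of the quotient (lead) -/

set_option linter.unusedSimpArgs false
set_option linter.unusedVariables false
set_option linter.unusedSectionVars false
set_option linter.style.longLine false
set_option maxHeartbeats 800000

universe u

open CategoryTheory CategoryTheory.Limits MonoidalCategory CartesianMonoidalCategory MonObj GrpObj
  AlgebraicGeometry Opposite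

namespace Groth.Agent.Lib.TorsorRed

open SchFpqcCovH7 Groth.Agent.Lib.TorsorSeq

variable {S : Scheme.{u}}

theorem etale_le_fpqc : Scheme.etalePrecoverage.{u} ≤ Scheme.fpqcPrecoverage :=
  Scheme.etalePrecoverage_le_proetalePrecoverage.trans Scheme.proetalePrecoverage_le_fpqcPrecoverage

section

variable {G F Q : Over S} [GrpObj G] (b : AlgGrp.Action G F) (π : F ⟶ Q)
  (hsq : IsPullback b.act (snd G F) π π)
include hsq

theorem pi_inv {T : Over S} (g : T ⟶ G) (x : T ⟶ F) : (lift g x ≫ b.act) ≫ π = x ≫ π := by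
  rw [Category.assoc, hsq.w, lift_snd_assoc]

theorem sq_ex {T : Over S} (x₁ x₂ : T ⟶ F) (h : x₁ ≫ π = x₂ ≫ π) :
    ∃ g : T ⟶ G, lift g x₂ ≫ b.act = x₁ := by
  refine ⟨hsq.lift x₁ x₂ h ≫ fst G F, ?_⟩
  have h1 := hsq.lift_fst x₁ x₂ h
  have h2 := hsq.lift_snd x₁ x₂ h
  have e : lift (hsq.lift x₁ x₂ h ≫ fst G F) x₂ = hsq.lift x₁ x₂ h := by
    apply CartesianMonoidalCategory.hom_ext
    · rw [lift_fst]
    · rw [lift_snd]
      exact h2.symm
  exact (congrArg (fun k => k ≫ b.act) e).trans h1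

theorem sq_uniq {T : Over S} (g g' : T ⟶ G) (x : T ⟶ F)
    (h : lift g x ≫ b.act = lift g' x ≫ b.act) : g = g' := by
  have e : lift g x = lift g' x := hsq.hom_ext h (by rw [lift_snd, lift_snd])
  have := congrArg (fun k => k ≫ fst G F) e
  simpa only [lift_fst] using this

theorem reduction_section {E : Over S} (aE : AlgGrp.Action G E)
    (hE : NonAbH1.IsTorsorFor Scheme.etalePrecoverage aE)
    (φ : E ⟶ F) (hφ : AlgGrp.Action.IsEquivariant aE b φ) :
    (∃! σ : 𝟙_ (Over S) ⟶ Q, toUnit E ≫ σ = φ ≫ π) ∧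
      ∀ σ : 𝟙_ (Over S) ⟶ Q, toUnit E ≫ σ = φ ≫ π → IsPullback φ (toUnit E) π σ := by
  obtain ⟨hps, hEloc⟩ := hE
  haveI : IsIso (lift aE.act (snd G E)) := hps
  have hEcov : IsCov E.hom := by
    apply isCov_of_locallyTrivial
    obtain ⟨R, hR, hs⟩ := hEloc
    exact ⟨R, etale_le_fpqc _ hR, hs⟩
  haveI hEepi : Epi (toUnit E) := epi_of_isCov (toUnit E) hEcov
  have hφ' : aE.act ≫ φ = (G ◁ φ) ≫ b.act := hφ
  have hφp : ∀ {T : Over S} (g : T ⟶ G) (e : T ⟶ E),
      (lift g e ≫ aE.act) ≫ φ = lift g (e ≫ φ) ≫ b.act := by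
    intro T g e
    have e1 : lift g e ≫ (G ◁ φ) = lift g (e ≫ φ) := by
      apply CartesianMonoidalCategory.hom_ext
      · rw [Category.assoc, whiskerLeft_fst, lift_fst, lift_fst]
      · rw [Category.assoc, whiskerLeft_snd, lift_snd_assoc, lift_snd]
    rw [Category.assoc, hφ', ← Category.assoc, e1]
  obtain ⟨σ₀, hσ₀⟩ := desc_of_isCov (toUnit E) hEcov (φ ≫ π) (by
    intro T e₁ e₂ _
    have h1 := dif_spec aE.act e₁ e₂
    calc e₁ ≫ φ ≫ π = ((lift (dif aE.act e₁ e₂) e₂ ≫ aE.act) ≫ φ) ≫ π := by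
          rw [h1, Category.assoc]
      _ = (e₂ ≫ φ) ≫ π := by rw [hφp, pi_inv b π hsq]
      _ = e₂ ≫ φ ≫ π := Category.assoc _ _ _)
  refine ⟨⟨σ₀, hσ₀, fun σ' hσ' => ?_⟩, ?_⟩
  · rw [← cancel_epi (toUnit E), hσ', hσ₀]
  intro σ hσ
  have huniq : ∀ {T : Over S} (e e' : T ⟶ E), e ≫ φ = e' ≫ φ → e = e' := by
    intro T e e' h
    have h1 := dif_spec aE.act e' e
    have h2 : lift (dif aE.act e' e) (e ≫ φ) ≫ b.act = lift 1 (e ≫ φ) ≫ b.act := by
      rw [← hφp, h1, act_one' b]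
      exact h.symm
    have h3 : dif aE.act e' e = 1 := sq_uniq b π hsq _ _ _ h2
    rw [h3, act_one' aE] at h1
    exact h1
  refine isPullback_of_points _ _ _ _ hσ.symm ?_ ?_
  · intro T x t hx
    have hc : IsCov (snd E T).left := isCov_snd E T hEcov
    have e1 : (fst E T ≫ φ) ≫ π = (snd E T ≫ x) ≫ π := by
      calc (fst E T ≫ φ) ≫ π = fst E T ≫ toUnit E ≫ σ := by rw [Category.assoc, hσ]
        _ = toUnit (E ⊗ T) ≫ σ := by
          rw [← Category.assoc]
          exact congrArg (fun k => k ≫ σ) (toUnit_unique _ _)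
        _ = snd E T ≫ t ≫ σ := by
          rw [← Category.assoc]
          exact congrArg (fun k => k ≫ σ) (toUnit_unique _ _)
        _ = (snd E T ≫ x) ≫ π := by rw [← hx, Category.assoc]
    obtain ⟨g, hg⟩ := sq_ex b π hsq _ _ e1
    have e2 : (lift g⁻¹ (fst E T) ≫ aE.act) ≫ φ = snd E T ≫ x := by
      rw [hφp, ← hg, ← act_mul' b, inv_mul_cancel, act_one' b]
    have e3 : ∀ {T' : Over S} (a : T' ⟶ E ⊗ T),
        (a ≫ lift g⁻¹ (fst E T) ≫ aE.act) ≫ φ = a ≫ snd E T ≫ x := fun a =>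
      (Category.assoc a (lift g⁻¹ (fst E T) ≫ aE.act) φ).trans (congrArg (fun k => a ≫ k) e2)
    obtain ⟨q, hq⟩ := desc_of_isCov (snd E T) hc (lift g⁻¹ (fst E T) ≫ aE.act) (by
      intro T' a₁ a₂ ha
      apply huniq
      rw [e3 a₁, e3 a₂, ← Category.assoc, ha, Category.assoc])
    refine ⟨q, ?_, toUnit_unique _ _⟩
    haveI := epi_of_isCov (snd E T) hc
    rw [← cancel_epi (snd E T), ← Category.assoc, hq, e2]
  · intro T p p' h _
    exact huniq p p' h

theorem exists_reduction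
    (hloc : NonAbH1.IsLocallyTrivialFor Scheme.etalePrecoverage (Over.mk π.left : Over Q.left))
    (σ : 𝟙_ (Over S) ⟶ Q) :
    ∃ (E : Over S) (aE : AlgGrp.Action G E) (φ : E ⟶ F),
      NonAbH1.IsTorsorFor Scheme.etalePrecoverage aE ∧
      AlgGrp.Action.IsEquivariant aE b φ ∧ IsPullback φ (toUnit E) π σ := by
  obtain ⟨E, φ, hpbE⟩ : ∃ (E : Over S) (φ : E ⟶ F), IsPullback φ (toUnit E) π σ := by
    refine ⟨pullback π σ, pullback.fst π σ, ?_⟩
    have h := IsPullback.of_hasPullback π σ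
    have e : pullback.snd π σ = toUnit _ := toUnit_unique _ _
    rw [e] at h
    exact h
  have E_ext : ∀ {T : Over S} (q q' : T ⟶ E), q ≫ φ = q' ≫ φ → q = q' :=
    fun q q' h => hpbE.hom_ext h (toUnit_unique _ _)
  have E_lift : ∀ {T : Over S} (x : T ⟶ F), x ≫ π = toUnit T ≫ σ → ∃ q : T ⟶ E, q ≫ φ = x :=
    fun x hx => ⟨hpbE.lift x (toUnit _) hx, hpbE.lift_fst _ _ _⟩
  have hqπ : ∀ {T : Over S} (q : T ⟶ E), (q ≫ φ) ≫ π = toUnit T ≫ σ := by
    intro T q
    rw [Category.assoc, hpbE.w, ← Category.assoc]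
    exact congrArg (fun k => k ≫ σ) (toUnit_unique _ _)
  obtain ⟨actE, hact⟩ := E_lift (lift (fst G E) (snd G E ≫ φ) ≫ b.act) (by
    rw [pi_inv b π hsq, hqπ])
  have hactp : ∀ {T : Over S} (g : T ⟶ G) (q : T ⟶ E),
      (lift g q ≫ actE) ≫ φ = lift g (q ≫ φ) ≫ b.act := by
    intro T g q
    rw [Category.assoc, hact, ← Category.assoc, comp_lift, lift_fst, lift_snd_assoc]
  obtain ⟨aE, haE⟩ : ∃ aE : AlgGrp.Action G E, aE.act = actE :=
    ⟨actionOfPointwise actE
      (by
        intro T x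
        apply E_ext
        rw [hactp, act_one' b])
      (by
        intro T g g₂ x
        apply E_ext
        rw [hactp, act_mul' b, hactp, hactp]), rfl⟩
  have hpsE : NonAbH1.IsPseudoTorsorSch aE := by
    unfold NonAbH1.IsPseudoTorsorSch
    rw [haE]
    apply isIso_of_points
    intro T b'
    obtain ⟨g, hg⟩ := sq_ex b π hsq ((b' ≫ fst E E) ≫ φ) ((b' ≫ snd E E) ≫ φ) (by rw [hqπ, hqπ])
    have hq1 : lift g (b' ≫ snd E E) ≫ actE = b' ≫ fst E E := by
      apply E_ext
      rw [hactp, hg]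
    refine ⟨lift g (b' ≫ snd E E), ?_, ?_⟩
    · rw [comp_lift, hq1, lift_snd, lift_comp_fst_snd]
    · intro a' ha'
      have h1 : a' ≫ snd G E = b' ≫ snd E E := by
        have := congrArg (fun k => k ≫ snd E E) ha'
        simpa only [Category.assoc, lift_snd] using this
      have h2 : a' ≫ actE = b' ≫ fst E E := by
        have := congrArg (fun k => k ≫ fst E E) ha'
        simpa only [Category.assoc, lift_fst] using this
      have h3 : a' = lift (a' ≫ fst G E) (b' ≫ snd E E) := by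
        rw [← h1, lift_comp_fst_snd]
      have h4 : a' ≫ fst G E = g := by
        apply sq_uniq b π hsq _ _ ((b' ≫ snd E E) ≫ φ)
        rw [← hactp, ← hactp, hq1, ← h3, h2]
      rw [h3, h4]
  have hEloc : NonAbH1.IsLocallyTrivialFor Scheme.etalePrecoverage E := by
    obtain ⟨Rπ, hRπ, hsπ⟩ := hloc
    obtain ⟨κ, W, w, rfl⟩ := Rπ.exists_eq_ofArrows
    have hsπ' : ∀ k : κ, ∃ s : W k ⟶ F.left, s ≫ π.left = w k := fun k => hsπ (w k) ⟨k⟩
    choose sw hsw using hsπ'
    obtain ⟨σl, hσl⟩ : ∃ σl : S ⟶ Q.left, σl = σ.left := ⟨σ.left, rfl⟩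
    have hσQ : σl ≫ Q.hom = 𝟙 S := by
      rw [hσl]
      exact Over.w σ
    haveI : Precoverage.IsStableUnderBaseChange Scheme.etalePrecoverage.{u} := by
      unfold Scheme.etalePrecoverage
      infer_instance
    refine ⟨Presieve.ofArrows (fun k => pullback (w k) σl) (fun k => pullback.snd (w k) σl),
      ?_, ?_⟩
    · exact Precoverage.mem_coverings_of_isPullback w hRπ σl
        (fun k => pullback.snd (w k) σl) (fun k => pullback.fst (w k) σl)
        (fun k => (IsPullback.of_hasPullback (w k) σl).flip)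
    · rintro S' f ⟨k⟩
      have hcond' : pullback.fst (w k) σl ≫ w k = pullback.snd (w k) σl ≫ σl :=
        pullback.condition
      have hx0 : (pullback.fst (w k) σl ≫ sw k) ≫ F.hom = pullback.snd (w k) σl := by
        rw [← Over.w π, Category.assoc, ← Category.assoc (sw k), hsw, ← Category.assoc, hcond',
          Category.assoc, hσQ, Category.comp_id]
      obtain ⟨x, hxl⟩ : ∃ x : Over.mk (pullback.snd (w k) σl) ⟶ F,
          x.left = pullback.fst (w k) σl ≫ sw k := ⟨Over.homMk _ hx0, rfl⟩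
      have hxπ : x ≫ π = toUnit _ ≫ σ := by
        apply Over.OverMorphism.ext
        show x.left ≫ π.left = pullback.snd (w k) σl ≫ σ.left
        rw [hxl, Category.assoc, hsw, hcond', hσl]
      obtain ⟨q, _⟩ := E_lift x hxπ
      exact hasSectionOver_of_hom E _ q
  refine ⟨E, aE, φ, ⟨hpsE, hEloc⟩, ?_, hpbE⟩
  show aE.act ≫ φ = (G ◁ φ) ≫ b.act
  have e : G ◁ φ = lift (fst G E) (snd G E ≫ φ) := by
    apply CartesianMonoidalCategory.hom_ext
    · rw [whiskerLeft_fst, lift_fst]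
    · rw [whiskerLeft_snd, lift_snd]
  rw [haE, hact, e]

end

end Groth.Agent.Lib.TorsorRed
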