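import Groth.Statements.S16162

/-! # Stable closed subsets of torsors are saturated with closed image (lead) -/

set_option backward.isDefEq.respectTransparency false
set_option backward.isDefEq.respectTransparency.types false
set_option linter.unusedSimpArgs false
set_option linter.unusedVariables false
set_option linter.unusedSectionVars false
set_option linter.style.longLine false
set_option linter.style.haveILetI false
set_option maxHeartbeats 800000

universe u

open CategoryTheory CategoryTheory.Limits MonoidalCategory CartesianMonoidalCategory MonObj GrpObj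
  AlgebraicGeometry Opposite

namespace Groth.Agent.Lib.TorsorSat

theorem main {S : Scheme.{u}}
    {G X : Over S} [GrpObj G] (a : AlgGrp.Action G X) (ha : RedSub.IsTorsor a)
    (P : Set X.left) (hP : IsClosed P)
    (hstab : ∀ w : (G ⊗ X).left, (snd G X).left.base w ∈ P → a.act.left.base w ∈ P) :
    IsClosed (X.hom.base '' P) ∧ X.hom.base ⁻¹' (X.hom.base '' P) = P := by
  obtain ⟨hs, hfl, hfp, hiso⟩ := ha
  have hisoL : IsIso (lift a.act (snd G X)).left := (Over.forget S).map_isIso (lift a.act (snd G X))
  have e1 : (lift a.act (snd G X)).left ≫ pullback.fst X.hom X.hom = a.act.left :=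
    congrArg (fun k => k.left) (lift_fst a.act (snd G X))
  have e2 : (lift a.act (snd G X)).left ≫ pullback.snd X.hom X.hom = (snd G X).left :=
    congrArg (fun k => k.left) (lift_snd a.act (snd G X))
  have hsat : X.hom.base ⁻¹' (X.hom.base '' P) = P := by
    apply Set.Subset.antisymm
    · rintro x ⟨p, hp, hpx⟩
      obtain ⟨z, hz1, hz2⟩ := Scheme.Pullback.exists_preimage_pullback (f := X.hom) (g := X.hom)
        x p hpx.symm
      have hw : (lift a.act (snd G X)).left ((inv (lift a.act (snd G X)).left) z) = z := by
        rw [← Scheme.Hom.comp_apply, IsIso.inv_hom_id]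
        rfl
      have h1 : a.act.left ((inv (lift a.act (snd G X)).left) z) = x := by
        rw [← e1, Scheme.Hom.comp_apply, hw]
        exact hz1
      have h2 : (snd G X).left ((inv (lift a.act (snd G X)).left) z) = p := by
        rw [← e2, Scheme.Hom.comp_apply, hw]
        exact hz2
      have := hstab ((inv (lift a.act (snd G X)).left) z) (by
        show (snd G X).left ((inv (lift a.act (snd G X)).left) z) ∈ P
        rw [h2]; exact hp)
      have h3 : a.act.left ((inv (lift a.act (snd G X)).left) z) ∈ P := this
      rw [h1] at h3
      exact h3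
    · exact Set.subset_preimage_image _ _
  refine ⟨?_, hsat⟩
  have hopen : IsOpenMap X.hom := isOpenMap_of_generalizingMap X.hom (Flat.generalizingMap X.hom)
  have hc : (X.hom.base '' P)ᶜ = X.hom.base '' Pᶜ := by
    ext s
    constructor
    · intro hs'
      obtain ⟨x, rfl⟩ := hs.surj s
      exact ⟨x, fun hx => hs' ⟨x, hx, rfl⟩, rfl⟩
    · rintro ⟨x, hx, rfl⟩ hmem
      apply hx
      rw [← hsat]
      exact hmem
  rw [← isOpen_compl_iff, hc]
  exact hopen _ hP.isOpen_compl

end Groth.Agent.Lib.TorsorSat
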