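import Groth.Agent.Lib.TorusGrad_helper1

set_option autoImplicit false
set_option maxHeartbeats 1000000

open TensorProduct

namespace Groth.Agent.Lib.TorusGradH1

universe u v w

attribute [local instance] Classical.propDecidable

variable {k : Type u} [Field k] {Λ : Type v} [AddCommGroup Λ]
  {R : Type w} [CommRing R] [Algebra k R] [HopfRep.Comod k (AddMonoidAlgebra k Λ) R]
  [GLin.IsCoactAlg k (AddMonoidAlgebra k Λ) R]

theorem main24
    (hpos : ∀ w : Λ, HopfRep.eigenspace k (AddMonoidAlgebra k Λ) R (AddMonoidAlgebra.single w 1) ≠ ⊥ →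
      HopfRep.eigenspace k (AddMonoidAlgebra k Λ) R (AddMonoidAlgebra.single (-w) 1) ≠ ⊥ → w = 0) :
    Function.Bijective
      ((Ideal.Quotient.mkₐ k (Ideal.span {f : R | ∃ w : Λ, w ≠ 0 ∧
          f ∈ HopfRep.eigenspace k (AddMonoidAlgebra k Λ) R (AddMonoidAlgebra.single w 1)})).comp
        (GLin.invariants k (AddMonoidAlgebra k Λ) R).val) := by
  constructor
  · rw [injective_iff_map_eq_zero]
    rintro ⟨f, hf⟩ h
    have h' : f ∈ Iplus k Λ R := by
      have h2 : Ideal.Quotient.mk (Iplus k Λ R) f = 0 := h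
      exact Ideal.Quotient.eq_zero_iff_mem.mp h2
    have h0 := p_zero_of_mem_Iplus hpos h'
    have hfE : f ∈ E k R (0 : Λ) := hf
    rw [p_of_mem hfE, if_pos rfl] at h0
    exact Subtype.ext h0
  · intro y
    obtain ⟨r, rfl⟩ := Ideal.Quotient.mk_surjective y
    have hmem : p k (0 : Λ) r ∈ GLin.invariants k (AddMonoidAlgebra k Λ) R := p_mem (0 : Λ) r
    refine ⟨⟨p k (0 : Λ) r, hmem⟩, ?_⟩
    show Ideal.Quotient.mk (Iplus k Λ R) (p k (0 : Λ) r) = Ideal.Quotient.mk (Iplus k Λ R) r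
    rw [Ideal.Quotient.eq, ← neg_sub]
    exact neg_mem (sub_p_zero_mem_Iplus (k := k) (Λ := Λ) r)

theorem coord_orbitHom (x : R →ₐ[k] k) (w : Λ) (f : R) :
    coord w (GLin.orbitHom k (AddMonoidAlgebra k Λ) x f) = x (p k w f) := by
  have gen : ∀ t : R ⊗[k] AddMonoidAlgebra k Λ,
      coord w ((Algebra.TensorProduct.lid k (AddMonoidAlgebra k Λ))
        ((Algebra.TensorProduct.map x (AlgHom.id k (AddMonoidAlgebra k Λ))) t)) =
        x (T R w t) := by
    intro t
    induction t using TensorProduct.induction_on with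
    | zero => simp
    | tmul g a =>
      rw [Algebra.TensorProduct.map_tmul, Algebra.TensorProduct.lid_tmul, T_tmul, map_smul,
        map_smul, AlgHom.id_apply, smul_eq_mul, smul_eq_mul, mul_comm]
    | add s t hs ht => simp only [map_add, hs, ht]
  exact gen _

theorem coord_algebraMap (w : Λ) (c : k) :
    coord w (algebraMap k (AddMonoidAlgebra k Λ) c) = if (0 : Λ) = w then c else 0 := by
  rw [Algebra.algebraMap_eq_smul_one, AddMonoidAlgebra.one_def, AddMonoidAlgebra.smul_single,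
    coord_single, smul_eq_mul, mul_one]

theorem ext_coord {a b : AddMonoidAlgebra k Λ} (h : ∀ w, coord w a = coord w b) : a = b := by
  apply AddMonoidAlgebra.coeff_injective
  ext w
  exact h w

theorem x_eq_x_p_zero (x : R →ₐ[k] k) (h : ∀ (w : Λ), w ≠ 0 → ∀ f : R, x (p k w f) = 0) (f : R) :
    x f = x (p k (0 : Λ) f) := by
  obtain ⟨S, h0, _, h2⟩ := exists_decomp' (k := k) (Λ := Λ) f
  conv_lhs => rw [← h2]
  rw [map_sum]
  apply Finset.sum_eq_single (0 : Λ)
  · intro w _ hw
    exact h w hw f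
  · intro h0'
    exact absurd h0 h0'

theorem isFixedPt_iff (x : R →ₐ[k] k) :
    GLin.IsFixedPt k (AddMonoidAlgebra k Λ) x ↔
      ∀ (w : Λ), w ≠ 0 → ∀ f : R, x (p k w f) = 0 := by
  constructor
  · intro h w hw f
    rw [← coord_orbitHom, h]
    show coord w (algebraMap k (AddMonoidAlgebra k Λ) (x f)) = 0
    rw [coord_algebraMap, if_neg (fun h0 : (0 : Λ) = w => hw h0.symm)]
  · intro h
    unfold GLin.IsFixedPt
    apply AlgHom.ext
    intro f
    apply ext_coord
    intro w
    rw [coord_orbitHom]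
    show x (p k w f) = coord w (algebraMap k (AddMonoidAlgebra k Λ) (x f))
    rw [coord_algebraMap]
    split_ifs with hw
    · subst hw
      exact (x_eq_x_p_zero x h f).symm
    · exact h w (fun h0 => hw h0.symm) f

theorem orbitHom_of_mem (x : R →ₐ[k] k) {w : Λ} {g : R} (hg : g ∈ E k R w) :
    GLin.orbitHom k (AddMonoidAlgebra k Λ) x g = AddMonoidAlgebra.single w (x g) := by
  apply ext_coord
  intro u
  rw [coord_orbitHom, p_of_mem hg, coord_single]
  split_ifs
  · rfl
  · exact map_zero x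

theorem isClosedOrbit_of_isFixedPt (x : R →ₐ[k] k)
    (h : GLin.IsFixedPt k (AddMonoidAlgebra k Λ) x) :
    GLin.IsClosedOrbit k (AddMonoidAlgebra k Λ) x := by
  unfold GLin.IsClosedOrbit
  have hxsurj : Function.Surjective x := fun c => ⟨algebraMap k R c, by simp⟩
  have hmax : (RingHom.ker x).IsMaximal := RingHom.ker_isMaximal_of_surjective x hxsurj
  let P₀ : PrimeSpectrum R := ⟨RingHom.ker x, hmax.isPrime⟩
  have hq : ∀ q : PrimeSpectrum (AddMonoidAlgebra k Λ),
      PrimeSpectrum.comap (GLin.orbitHom k (AddMonoidAlgebra k Λ) x).toRingHom q = P₀ := by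
    intro q
    apply PrimeSpectrum.ext
    ext a
    show (GLin.orbitHom k (AddMonoidAlgebra k Λ) x) a ∈ q.asIdeal ↔ a ∈ RingHom.ker x
    rw [h]
    show algebraMap k (AddMonoidAlgebra k Λ) (x a) ∈ q.asIdeal ↔ a ∈ RingHom.ker x
    rw [RingHom.mem_ker]
    constructor
    · intro hmem
      by_contra hne
      have hu : IsUnit (algebraMap k (AddMonoidAlgebra k Λ) (x a)) :=
        (IsUnit.mk0 _ hne).map _
      exact q.2.ne_top (Ideal.eq_top_of_isUnit_mem _ hmem hu)
    · intro h0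
      rw [h0, map_zero]
      exact zero_mem _
  have hrange : Set.range
      (PrimeSpectrum.comap (GLin.orbitHom k (AddMonoidAlgebra k Λ) x).toRingHom) = {P₀} := by
    ext P
    simp only [Set.mem_range, Set.mem_singleton_iff]
    constructor
    · rintro ⟨q, rfl⟩
      exact hq q
    · rintro rfl
      obtain ⟨q⟩ := (inferInstance : Nonempty (PrimeSpectrum (AddMonoidAlgebra k Λ)))
      exact ⟨q, hq q⟩
  rw [hrange, PrimeSpectrum.isClosed_singleton_iff_isMaximal]
  exact hmax

theorem isFixedPt_of_isClosedOrbit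
    (hpos : ∀ w : Λ, E k R w ≠ ⊥ → E k R (-w) ≠ ⊥ → w = 0)
    (x : R →ₐ[k] k) (hcl : GLin.IsClosedOrbit k (AddMonoidAlgebra k Λ) x) :
    GLin.IsFixedPt k (AddMonoidAlgebra k Λ) x := by
  rw [isFixedPt_iff]
  intro w hw f
  by_contra hne
  have hgE : p k w f ∈ E k R w := p_mem w f
  let x₀ : R →+* k :=
    { toFun := fun r => x (p k (0 : Λ) r)
      map_one' := by rw [p_zero_one, map_one]
      map_mul' := fun a b => by rw [p_zero_mul hpos, map_mul]
      map_zero' := by rw [map_zero, map_zero]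
      map_add' := fun a b => by rw [map_add, map_add] }
  let P₁ : PrimeSpectrum R := ⟨RingHom.ker x₀, RingHom.ker_isPrime x₀⟩
  have hP₁ : P₁ ∈ closure (Set.range
      (PrimeSpectrum.comap (GLin.orbitHom k (AddMonoidAlgebra k Λ) x).toRingHom)) := by
    rw [PrimeSpectrum.closure_range_comap, PrimeSpectrum.mem_zeroLocus]
    intro a ha
    have ha' : GLin.orbitHom k (AddMonoidAlgebra k Λ) x a = 0 := ha
    show a ∈ RingHom.ker x₀
    rw [RingHom.mem_ker]
    show x (p k (0 : Λ) a) = 0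
    rw [← coord_orbitHom, ha', map_zero]
  unfold GLin.IsClosedOrbit at hcl
  rw [hcl.closure_eq] at hP₁
  obtain ⟨q, hq⟩ := hP₁
  have hg0 : p k w f ∈ P₁.asIdeal := by
    show p k w f ∈ RingHom.ker x₀
    rw [RingHom.mem_ker]
    show x (p k (0 : Λ) (p k w f)) = 0
    rw [p_of_mem hgE, if_neg hw, map_zero]
  rw [← hq] at hg0
  have hg1 : GLin.orbitHom k (AddMonoidAlgebra k Λ) x (p k w f) ∈ q.asIdeal := hg0
  rw [orbitHom_of_mem x hgE] at hg1
  have hunit : IsUnit (AddMonoidAlgebra.single w (x (p k w f)) : AddMonoidAlgebra k Λ) := by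
    refine ⟨⟨AddMonoidAlgebra.single w (x (p k w f)),
      AddMonoidAlgebra.single (-w) (x (p k w f))⁻¹, ?_, ?_⟩, rfl⟩
    · rw [AddMonoidAlgebra.single_mul_single, add_neg_cancel, mul_inv_cancel₀ hne]
      rfl
    · rw [AddMonoidAlgebra.single_mul_single, neg_add_cancel, inv_mul_cancel₀ hne]
      rfl
  exact q.2.ne_top (Ideal.eq_top_of_isUnit_mem _ hg1 hunit)

theorem main23
    (hpos : ∀ w : Λ, HopfRep.eigenspace k (AddMonoidAlgebra k Λ) R (AddMonoidAlgebra.single w 1) ≠ ⊥ →
      HopfRep.eigenspace k (AddMonoidAlgebra k Λ) R (AddMonoidAlgebra.single (-w) 1) ≠ ⊥ → w = 0)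
    (x : R →ₐ[k] k) :
    GLin.IsClosedOrbit k (AddMonoidAlgebra k Λ) x ↔ GLin.IsFixedPt k (AddMonoidAlgebra k Λ) x :=
  ⟨isFixedPt_of_isClosedOrbit hpos x, isClosedOrbit_of_isFixedPt x⟩

end Groth.Agent.Lib.TorusGradH1
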