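import Mathlib
import Groth.Prelude.Def_GLin
import Groth.Prelude.Def_HopfRep

set_option autoImplicit false
set_option maxHeartbeats 1000000

open TensorProduct

namespace Groth.Agent.Lib.TorusGradH1

universe u v w

attribute [local instance] Classical.propDecidable

section Mod

variable {k : Type u} [Field k] {Λ : Type v} [AddCommGroup Λ]

/-- the coefficient functional -/
noncomputable def coord (w : Λ) : AddMonoidAlgebra k Λ →ₗ[k] k :=
  (Finsupp.lapply w) ∘ₗ (AddMonoidAlgebra.coeffLinearEquiv k).toLinearMap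

theorem coord_apply (w : Λ) (a : AddMonoidAlgebra k Λ) : coord w a = a.coeff w := rfl

theorem coord_single (w u : Λ) (c : k) :
    coord w (AddMonoidAlgebra.single u c) = if u = w then c else 0 := by
  classical
  rw [coord_apply, AddMonoidAlgebra.coeff_single, Finsupp.single_apply]

variable (M : Type w) [AddCommGroup M] [Module k M]

/-- `m ⊗ a ↦ a_w • m` -/
noncomputable def T (w : Λ) : M ⊗[k] AddMonoidAlgebra k Λ →ₗ[k] M :=
  (TensorProduct.rid k M).toLinearMap ∘ₗ (coord w).lTensor M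

theorem T_tmul (w : Λ) (m : M) (a : AddMonoidAlgebra k Λ) :
    T M w (m ⊗ₜ a) = coord w a • m := by
  simp [T]

theorem A1 (w : Λ) (s : M ⊗[k] AddMonoidAlgebra k Λ) (a : AddMonoidAlgebra k Λ) :
    (T (AddMonoidAlgebra k Λ) w).lTensor M
      (TensorProduct.assoc k M (AddMonoidAlgebra k Λ) (AddMonoidAlgebra k Λ) (s ⊗ₜ a)) =
      coord w a • s := by
  induction s using TensorProduct.induction_on with
  | zero => simp
  | tmul m b =>
    rw [TensorProduct.assoc_tmul, LinearMap.lTensor_tmul, T_tmul, TensorProduct.tmul_smul]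
  | add x y hx hy => rw [TensorProduct.add_tmul, map_add, map_add, hx, hy, smul_add]

theorem A2 (w : Λ) (a : AddMonoidAlgebra k Λ) :
    T (AddMonoidAlgebra k Λ) w (Coalgebra.comul (R := k) a) =
      coord w a • AddMonoidAlgebra.single w (1 : k) := by
  classical
  refine AddMonoidAlgebra.induction_linear a ?_ ?_ ?_
  · simp
  · intro x y hx hy
    rw [map_add, map_add, map_add, hx, hy, add_smul]
  · intro u c
    rw [AddMonoidAlgebra.comul_single, CommSemiring.comul_apply, TensorProduct.map_tmul,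
      AddMonoidAlgebra.lsingle_apply, AddMonoidAlgebra.lsingle_apply, T_tmul]
    by_cases h : u = w
    · subst h; rfl
    · rw [coord_single, if_neg h, zero_smul, zero_smul]

variable {M}
variable [HopfRep.Comod k (AddMonoidAlgebra k Λ) M]

theorem claim1 (w : Λ) (t : M ⊗[k] AddMonoidAlgebra k Λ) :
    HopfRep.Comod.coact (k := k) (A := AddMonoidAlgebra k Λ) (T M w t) =
      (T (AddMonoidAlgebra k Λ) w).lTensor M
        (TensorProduct.assoc k M (AddMonoidAlgebra k Λ) (AddMonoidAlgebra k Λ)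
          ((HopfRep.Comod.coact (k := k) (A := AddMonoidAlgebra k Λ) (V := M)).rTensor
            (AddMonoidAlgebra k Λ) t)) := by
  induction t using TensorProduct.induction_on with
  | zero => simp
  | tmul m a => rw [T_tmul, map_smul, LinearMap.rTensor_tmul, A1]
  | add x y hx hy => simp only [map_add, hx, hy]

theorem claim2 (w : Λ) (t : M ⊗[k] AddMonoidAlgebra k Λ) :
    (T (AddMonoidAlgebra k Λ) w).lTensor M
      ((Coalgebra.comul (R := k) (A := AddMonoidAlgebra k Λ)).lTensor M t) =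
      T M w t ⊗ₜ AddMonoidAlgebra.single w (1 : k) := by
  induction t using TensorProduct.induction_on with
  | zero => simp
  | tmul m a =>
    rw [LinearMap.lTensor_tmul, LinearMap.lTensor_tmul, A2, T_tmul, TensorProduct.tmul_smul,
      TensorProduct.smul_tmul']
  | add x y hx hy => simp only [map_add, hx, hy, TensorProduct.add_tmul]

variable (k) in
/-- projection to the weight-`w` eigenspace -/
noncomputable def p (w : Λ) : M →ₗ[k] M :=
  T M w ∘ₗ HopfRep.Comod.coact (k := k) (A := AddMonoidAlgebra k Λ)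

theorem p_apply (w : Λ) (v : M) :
    p k w v = T M w (HopfRep.Comod.coact (k := k) (A := AddMonoidAlgebra k Λ) v) := rfl

theorem p_mem (w : Λ) (v : M) :
    p k w v ∈ HopfRep.eigenspace k (AddMonoidAlgebra k Λ) M (AddMonoidAlgebra.single w 1) := by
  show HopfRep.Comod.coact (k := k) (A := AddMonoidAlgebra k Λ) (p k w v) = p k w v ⊗ₜ _
  have hco := LinearMap.congr_fun
    (HopfRep.Comod.coassoc (k := k) (A := AddMonoidAlgebra k Λ) (V := M)) v
  simp only [LinearMap.comp_apply, LinearEquiv.coe_coe] at hco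
  rw [p_apply, claim1, hco, claim2]

theorem p_of_mem {u : Λ} {v : M}
    (hv : v ∈ HopfRep.eigenspace k (AddMonoidAlgebra k Λ) M (AddMonoidAlgebra.single u 1))
    (w : Λ) : p k w v = if u = w then v else 0 := by
  have hv' : HopfRep.Comod.coact (k := k) (A := AddMonoidAlgebra k Λ) v =
      v ⊗ₜ AddMonoidAlgebra.single u 1 := hv
  rw [p_apply, hv', T_tmul, coord_single]
  split_ifs <;> simp

/-- finite support + counit sum, for general tensors -/
def Q (t : M ⊗[k] AddMonoidAlgebra k Λ) : Prop :=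
  ∃ S : Finset Λ, (∀ w, w ∉ S → T M w t = 0) ∧
    ∑ w ∈ S, T M w t = TensorProduct.rid k M
      ((Coalgebra.counit (R := k) (A := AddMonoidAlgebra k Λ)).lTensor M t)

theorem Q_zero : Q (0 : M ⊗[k] AddMonoidAlgebra k Λ) := ⟨∅, by simp, by simp⟩

theorem Q_add {t₁ t₂ : M ⊗[k] AddMonoidAlgebra k Λ} (h₁ : Q t₁) (h₂ : Q t₂) : Q (t₁ + t₂) := by
  classical
  obtain ⟨S₁, h₁a, h₁b⟩ := h₁
  obtain ⟨S₂, h₂a, h₂b⟩ := h₂
  refine ⟨S₁ ∪ S₂, ?_, ?_⟩
  · intro w hw
    rw [Finset.mem_union, not_or] at hw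
    rw [map_add, h₁a w hw.1, h₂a w hw.2, add_zero]
  · simp only [map_add, Finset.sum_add_distrib]
    rw [← h₁b, ← h₂b]
    congr 1
    · exact (Finset.sum_subset Finset.subset_union_left (fun w _ hw => h₁a w hw)).symm
    · exact (Finset.sum_subset Finset.subset_union_right (fun w _ hw => h₂a w hw)).symm

theorem Q_all (t : M ⊗[k] AddMonoidAlgebra k Λ) : Q t := by
  classical
  induction t using TensorProduct.induction_on with
  | zero => exact Q_zero
  | add x y hx hy => exact Q_add hx hy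
  | tmul m a =>
    refine AddMonoidAlgebra.induction_linear a ?_ ?_ ?_
    · rw [TensorProduct.tmul_zero]; exact Q_zero
    · intro x y hx hy; rw [TensorProduct.tmul_add]; exact Q_add hx hy
    · intro u c
      refine ⟨{u}, ?_, ?_⟩
      · intro w hw
        rw [Finset.mem_singleton] at hw
        rw [T_tmul, coord_single, if_neg (fun h : u = w => hw h.symm), zero_smul]
      · rw [Finset.sum_singleton, T_tmul, coord_single, if_pos rfl, LinearMap.lTensor_tmul,
          AddMonoidAlgebra.counit_single, CommSemiring.counit_apply, TensorProduct.rid_tmul]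

theorem exists_decomp (v : M) :
    ∃ S : Finset Λ, (∀ w, w ∉ S → p k w v = 0) ∧ ∑ w ∈ S, p k w v = v := by
  obtain ⟨S, h1, h2⟩ := Q_all (HopfRep.Comod.coact (k := k) (A := AddMonoidAlgebra k Λ) v)
  refine ⟨S, h1, ?_⟩
  have hcu := LinearMap.congr_fun
    (HopfRep.Comod.counit_comp (k := k) (A := AddMonoidAlgebra k Λ) (V := M)) v
  simp only [LinearMap.comp_apply] at hcu
  show ∑ w ∈ S, T M w (HopfRep.Comod.coact (k := k) (A := AddMonoidAlgebra k Λ) v) = v
  rw [h2, hcu]
  simp

/-- decomposition with `0` in the index set -/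
theorem exists_decomp' (v : M) :
    ∃ S : Finset Λ, (0 : Λ) ∈ S ∧ (∀ w, w ∉ S → p k w v = 0) ∧ ∑ w ∈ S, p k w v = v := by
  classical
  obtain ⟨S, h1, h2⟩ := exists_decomp (k := k) (Λ := Λ) v
  refine ⟨insert 0 S, Finset.mem_insert_self _ _, ?_, ?_⟩
  · intro w hw
    exact h1 w (fun h => hw (Finset.mem_insert_of_mem h))
  · rw [← Finset.sum_subset (Finset.subset_insert 0 S) (fun w _ hw => h1 w hw)]
    exact h2

end Mod

section Alg

variable (k : Type u) [Field k] {Λ : Type v} [AddCommGroup Λ]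
  (R : Type w) [CommRing R] [Algebra k R] [HopfRep.Comod k (AddMonoidAlgebra k Λ) R]
  [GLin.IsCoactAlg k (AddMonoidAlgebra k Λ) R]

/-- the weight-`w` eigenspace -/
noncomputable abbrev E (w : Λ) : Submodule k R :=
  HopfRep.eigenspace k (AddMonoidAlgebra k Λ) R (AddMonoidAlgebra.single w 1)

variable {k R}

theorem mem_E_iff (w : Λ) (f : R) : f ∈ E k R w ↔
    HopfRep.Comod.coact (k := k) (A := AddMonoidAlgebra k Λ) f =
      f ⊗ₜ AddMonoidAlgebra.single w 1 := Iff.rfl

theorem mul_mem_E {u v : Λ} {f g : R} (hf : f ∈ E k R u) (hg : g ∈ E k R v) :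
    f * g ∈ E k R (u + v) := by
  rw [mem_E_iff] at hf hg ⊢
  rw [GLin.IsCoactAlg.coact_mul, hf, hg, Algebra.TensorProduct.tmul_mul_tmul,
    AddMonoidAlgebra.single_mul_single, mul_one]

theorem one_mem_E : (1 : R) ∈ E k R (0 : Λ) := by
  rw [mem_E_iff, GLin.IsCoactAlg.coact_one (k := k) (A := AddMonoidAlgebra k Λ) (R := R),
    Algebra.TensorProduct.one_def]
  rfl

theorem T_mul (w u : Λ) (f : R) (t : R ⊗[k] AddMonoidAlgebra k Λ) :
    T R w ((f ⊗ₜ AddMonoidAlgebra.single u (1 : k)) * t) = f * T R (w - u) t := by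
  induction t using TensorProduct.induction_on with
  | zero => simp
  | tmul g a =>
    rw [Algebra.TensorProduct.tmul_mul_tmul, T_tmul, T_tmul, coord_apply, coord_apply,
      AddMonoidAlgebra.coeff_single_mul_apply, one_mul, neg_add_eq_sub, mul_smul_comm]
  | add x y hx hy => rw [mul_add, map_add, map_add, hx, hy, mul_add]

theorem p_mul_of_mem {u : Λ} {f : R} (hf : f ∈ E k R u) (w : Λ) (x : R) :
    p k w (f * x) = f * p k (w - u) x := by
  rw [mem_E_iff] at hf
  rw [p_apply, GLin.IsCoactAlg.coact_mul, hf, T_mul, p_apply]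

theorem mul_eq_zero_of_pos (hpos : ∀ w : Λ, E k R w ≠ ⊥ → E k R (-w) ≠ ⊥ → w = 0)
    {u : Λ} (hu : u ≠ 0) {r x : R} (hr : r ∈ E k R u) (hx : x ∈ E k R (-u)) : r * x = 0 := by
  by_cases h1 : r = 0
  · rw [h1, zero_mul]
  by_cases h2 : x = 0
  · rw [h2, mul_zero]
  exfalso
  apply hu
  apply hpos u
  · intro hbot; rw [hbot] at hr; exact h1 ((Submodule.mem_bot k).mp hr)
  · intro hbot; rw [hbot] at hx; exact h2 ((Submodule.mem_bot k).mp hx)

theorem p_zero_mul (hpos : ∀ w : Λ, E k R w ≠ ⊥ → E k R (-w) ≠ ⊥ → w = 0) (r x : R) :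
    p k (0 : Λ) (r * x) = p k (0 : Λ) r * p k (0 : Λ) x := by
  classical
  obtain ⟨S, h1, h2⟩ := exists_decomp (k := k) (Λ := Λ) r
  have key : ∀ u ∈ S, p k (0 : Λ) (p k u r * x) =
      if u = 0 then p k (0 : Λ) r * p k (0 : Λ) x else 0 := by
    intro u _
    rw [p_mul_of_mem (p_mem u r), zero_sub]
    split_ifs with hu
    · subst hu; rw [neg_zero]
    · exact mul_eq_zero_of_pos hpos hu (p_mem u r) (p_mem (-u) x)
  have e : r * x = ∑ u ∈ S, p k u r * x := by rw [← Finset.sum_mul, h2]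
  rw [e, map_sum, Finset.sum_congr rfl key, Finset.sum_ite_eq']
  split_ifs with h0
  · rfl
  · rw [h1 0 h0, zero_mul]

theorem p_zero_one : p k (0 : Λ) (1 : R) = 1 := by
  rw [p_of_mem (one_mem_E (k := k) (R := R) (Λ := Λ)), if_pos rfl]

/-- the ideal generated by nonzero-weight eigenvectors -/
noncomputable def Iplus (k : Type u) [Field k] (Λ : Type v) [AddCommGroup Λ]
    (R : Type w) [CommRing R] [Algebra k R] [HopfRep.Comod k (AddMonoidAlgebra k Λ) R]
    [GLin.IsCoactAlg k (AddMonoidAlgebra k Λ) R] : Ideal R :=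
  Ideal.span {f : R | ∃ w : Λ, w ≠ 0 ∧
    f ∈ HopfRep.eigenspace k (AddMonoidAlgebra k Λ) R (AddMonoidAlgebra.single w 1)}

theorem p_zero_of_mem_Iplus (hpos : ∀ w : Λ, E k R w ≠ ⊥ → E k R (-w) ≠ ⊥ → w = 0)
    {y : R} (hy : y ∈ Iplus k Λ R) : p k (0 : Λ) y = 0 := by
  unfold Iplus at hy
  refine Submodule.span_induction (p := fun y _ => p k (0 : Λ) y = 0) ?_ ?_ ?_ ?_ hy
  · rintro g ⟨w, hw, hg⟩
    rw [p_of_mem hg, if_neg hw]
  · exact map_zero _
  · intro a b _ _ ha hb
    rw [map_add, ha, hb, add_zero]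
  · intro r a _ ha
    rw [smul_eq_mul, p_zero_mul hpos, ha, mul_zero]

theorem sub_p_zero_mem_Iplus (r : R) : r - p k (0 : Λ) r ∈ Iplus k Λ R := by
  classical
  obtain ⟨S, h0, _, h2⟩ := exists_decomp' (k := k) (Λ := Λ) r
  have e : r - p k (0 : Λ) r = ∑ w ∈ S.erase 0, p k w r := by
    rw [sub_eq_iff_eq_add, add_comm, Finset.add_sum_erase S (fun w => p k w r) h0, h2]
  rw [e]
  refine Ideal.sum_mem _ (fun w hw => ?_)
  exact Ideal.subset_span ⟨w, (Finset.mem_erase.mp hw).1, p_mem w r⟩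

end Alg

end Groth.Agent.Lib.TorusGradH1
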