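import Mathlib
import Groth.Prelude
import Groth.Agent.Lib.TorusQuot3_helper4

/-!
# The quotient of a torus by a subgroup of multiplicative type is a torus, II (helper4)
-/

set_option backward.isDefEq.respectTransparency.types false
set_option autoImplicit false
set_option linter.unusedVariables false
set_option linter.unusedTactic false
set_option linter.unreachableTactic false
set_option linter.unusedSectionVars false
set_option linter.style.haveILetI false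
set_option linter.deprecated false
set_option linter.unusedSimpArgs false
set_option linter.style.longLine false
set_option maxHeartbeats 1600000

universe u

open CategoryTheory CategoryTheory.Limits MonoidalCategory CartesianMonoidalCategory MonObj GrpObj
  AlgebraicGeometry Opposite

namespace Groth.Agent.Lib.TorusQuotH4

open Groth.Agent.Lib.RedDictH8 Groth.Agent.Lib.DSDict Groth.Agent.Lib.MultGa
  Groth.Agent.Lib.MultTrivH4 Groth.Agent.Lib.ConnActH4 Groth.Agent.Lib.TwConstFinH4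
  Groth.Agent.Lib.MTHomH4

/-- the fibre product of two fpqc coverings is an fpqc covering. -/
theorem cover_pullback {S S₁ S₂ : Scheme.{u}} (f₁ : S₁ ⟶ S) (f₂ : S₂ ⟶ S) [Flat f₁] [Flat f₂]
    (hcov₁ : ∀ V : S.Opens, IsAffineOpen V → ∃ W : S₁.Opens, IsCompact (W : Set S₁) ∧
      f₁.base '' (W : Set S₁) = (V : Set S))
    (hcov₂ : ∀ V : S.Opens, IsAffineOpen V → ∃ W : S₂.Opens, IsCompact (W : Set S₂) ∧
      f₂.base '' (W : Set S₂) = (V : Set S))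
    (V : S.Opens) (hV : IsAffineOpen V) :
    ∃ W : (pullback f₁ f₂).Opens, IsCompact (W : Set ↥(pullback f₁ f₂)) ∧
      (pullback.fst f₁ f₂ ≫ f₁).base '' (W : Set ↥(pullback f₁ f₂)) = (V : Set S) := by
  obtain ⟨W₁, hW₁c, hW₁V⟩ := hcov₁ V hV
  obtain ⟨W₂, hW₂c, hW₂V⟩ := hcov₂ V hV
  obtain ⟨fW₁, e₁, hfl₁, hsu₁, hqc₁⟩ := exists_fpqc_piece f₁ V hV W₁ hW₁c hW₁V
  obtain ⟨fW₂, e₂, hfl₂, hsu₂, hqc₂⟩ := exists_fpqc_piece f₂ V hV W₂ hW₂c hW₂V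
  haveI := hfl₁
  haveI := hsu₁
  haveI := hqc₁
  haveI := hfl₂
  haveI := hsu₂
  haveI := hqc₂
  haveI : IsAffine (V : Scheme.{u}) := hV
  obtain ⟨m, hmdef⟩ : ∃ m : pullback fW₁ fW₂ ⟶ pullback f₁ f₂,
      m = pullback.map fW₁ fW₂ f₁ f₂ W₁.ι W₂.ι V.ι e₁ e₂ := ⟨_, rfl⟩
  have h0 := Scheme.Pullback.range_map fW₁ fW₂ f₁ f₂ W₁.ι W₂.ι V.ι e₁ e₂
  rw [← hmdef] at h0
  have hrange : ∀ z : ↥(pullback f₁ f₂), z ∈ Set.range m.base ↔
      ((pullback.fst f₁ f₂).base z ∈ W₁ ∧ (pullback.snd f₁ f₂).base z ∈ W₂) := by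
    intro z
    constructor
    · intro hz
      have hz' : z ∈ Set.range m := hz
      rw [h0] at hz'
      obtain ⟨⟨w₁, hw₁⟩, ⟨w₂, hw₂⟩⟩ := hz'
      refine ⟨?_, ?_⟩
      · have e : (pullback.fst f₁ f₂).base z = w₁.1 := hw₁.symm
        rw [e]
        exact w₁.2
      · have e : (pullback.snd f₁ f₂).base z = w₂.1 := hw₂.symm
        rw [e]
        exact w₂.2
    · rintro ⟨h1, h2⟩
      have hz' : z ∈ Set.range m := by
        rw [h0]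
        exact ⟨⟨⟨_, h1⟩, rfl⟩, ⟨⟨_, h2⟩, rfl⟩⟩
      exact hz'
  obtain ⟨W, hW⟩ : ∃ W : (pullback f₁ f₂).Opens,
      W = (pullback.fst f₁ f₂ ⁻¹ᵁ W₁) ⊓ (pullback.snd f₁ f₂ ⁻¹ᵁ W₂) := ⟨_, rfl⟩
  have hWmem : ∀ z : ↥(pullback f₁ f₂), z ∈ W ↔
      ((pullback.fst f₁ f₂).base z ∈ W₁ ∧ (pullback.snd f₁ f₂).base z ∈ W₂) := by
    intro z
    rw [hW]
    exact Iff.rfl
  have hWset : (W : Set ↥(pullback f₁ f₂)) = Set.range m.base := by
    ext z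
    exact (hWmem z).trans (hrange z).symm
  haveI : QuasiCompact (pullback.fst fW₁ fW₂ ≫ fW₁) := inferInstance
  haveI : CompactSpace ↥(pullback fW₁ fW₂) :=
    (quasiCompact_iff_compactSpace (pullback.fst fW₁ fW₂ ≫ fW₁)).mp inferInstance
  refine ⟨W, ?_, ?_⟩
  · rw [hWset]
    exact isCompact_range m.continuous
  · ext v
    constructor
    · rintro ⟨z, hz, rfl⟩
      have h1 : (pullback.fst f₁ f₂).base z ∈ W₁ := ((hWmem z).mp hz).1
      have h2 : f₁.base ((pullback.fst f₁ f₂).base z) ∈ (V : Set S) := by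
        rw [← hW₁V]
        exact ⟨_, h1, rfl⟩
      exact h2
    · intro hv
      have hv1 : v ∈ f₁.base '' (W₁ : Set S₁) := by
        rw [hW₁V]
        exact hv
      have hv2 : v ∈ f₂.base '' (W₂ : Set S₂) := by
        rw [hW₂V]
        exact hv
      obtain ⟨w₁, hw₁, hw₁v⟩ := hv1
      obtain ⟨w₂, hw₂, hw₂v⟩ := hv2
      obtain ⟨z, hz1, hz2⟩ := Scheme.Pullback.exists_preimage_pullback (f := f₁) (g := f₂)
        w₁ w₂ (hw₁v.trans hw₂v.symm)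
      have hz1' : (pullback.fst f₁ f₂).base z = w₁ := hz1
      have hz2' : (pullback.snd f₁ f₂).base z = w₂ := hz2
      refine ⟨z, (hWmem z).mpr ⟨?_, ?_⟩, ?_⟩
      · rw [hz1']
        exact hw₁
      · rw [hz2']
        exact hw₂
      · have e : (pullback.fst f₁ f₂ ≫ f₁).base z = f₁.base ((pullback.fst f₁ f₂).base z) := rfl
        rw [e, hz1']
        exact hw₁v

/-- **SGA 3 IX 2.11 (torus case).**  The quotient of a torus by a subgroup of multiplicative type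
and of finite type is a torus. -/
theorem main16615 {S : Scheme.{u}} {T H Q : Over S} [GrpObj T] [GrpObj H] [GrpObj Q]
    (hT : Red.IsTorus T) (i : H ⟶ T) [IsMonHom i] [Mono i] (hH : SGA3x.IsMultTypeFT H)
    (q : T ⟶ Q) [IsMonHom q] (hq : RedSub.IsQuotient i q) : Red.IsTorus Q := by
  obtain ⟨S₁, f₁, hflat₁, hsurj₁, hcov₁, hloc₁⟩ := hT
  obtain ⟨S₂, f₂, hflat₂, hsurj₂, hcov₂, hloc₂⟩ := hH
  haveI := hflat₁
  haveI := hflat₂
  haveI := hsurj₁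
  haveI := hsurj₂
  obtain ⟨F, hF⟩ : ∃ F : pullback f₁ f₂ ⟶ S, F = pullback.fst f₁ f₂ ≫ f₁ := ⟨_, rfl⟩
  have hFflat : Flat F := by
    rw [hF]
    infer_instance
  have hFsurj : Surjective F := by
    rw [hF]
    infer_instance
  refine ⟨pullback f₁ f₂, F, hFflat, hFsurj, ?_, ?_⟩
  · intro V hV
    rw [hF]
    exact cover_pullback f₁ f₂ hcov₁ hcov₂ V hV
  · intro x
    obtain ⟨U₁, hs₁U, r, hs⟩ := hloc₁ ((pullback.fst f₁ f₂).base x)
    obtain ⟨eA⟩ := hs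
    obtain ⟨U₂, hs₂U, N, instN, hNfg, ⟨eB⟩⟩ := hloc₂ ((pullback.snd f₁ f₂).base x)
    obtain ⟨a1, ainv, ha1, hainv, h1, h2⟩ := Groth.Agent.Lib.DiagHom.iso_data eA
    obtain ⟨b1, binv, hb1, hbinv, h1', h2'⟩ := Groth.Agent.Lib.DiagHom.iso_data eB
    haveI := ha1
    haveI := hainv
    haveI := hb1
    haveI := hbinv
    obtain ⟨B, hB⟩ : ∃ B : (pullback f₁ f₂).Opens,
        B = (pullback.fst f₁ f₂ ⁻¹ᵁ U₁) ⊓ (pullback.snd f₁ f₂ ⁻¹ᵁ U₂) := ⟨_, rfl⟩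
    have hxB : x ∈ B := by
      rw [hB]
      exact ⟨hs₁U, hs₂U⟩
    have hB1 : ∀ y : ↥(pullback f₁ f₂), y ∈ B → (pullback.fst f₁ f₂).base y ∈ U₁ := by
      intro y hy
      rw [hB] at hy
      exact hy.1
    have hB2 : ∀ y : ↥(pullback f₁ f₂), y ∈ B → (pullback.snd f₁ f₂).base y ∈ U₂ := by
      intro y hy
      rw [hB] at hy
      exact hy.2
    have hrange₁ : Set.range (B.ι ≫ pullback.fst f₁ f₂) ⊆ Set.range U₁.ι := by
      rintro _ ⟨⟨y, hy⟩, rfl⟩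
      exact ⟨⟨(pullback.fst f₁ f₂).base y, hB1 y hy⟩, rfl⟩
    have hrange₂ : Set.range (B.ι ≫ pullback.snd f₁ f₂) ⊆ Set.range U₂.ι := by
      rintro _ ⟨⟨y, hy⟩, rfl⟩
      exact ⟨⟨(pullback.snd f₁ f₂).base y, hB2 y hy⟩, rfl⟩
    obtain ⟨r₁, hr₁⟩ : ∃ r₁ : (B : Scheme.{u}) ⟶ (U₁ : Scheme.{u}),
        r₁ ≫ U₁.ι = B.ι ≫ pullback.fst f₁ f₂ :=
      ⟨IsOpenImmersion.lift U₁.ι (B.ι ≫ pullback.fst f₁ f₂) hrange₁,
        IsOpenImmersion.lift_fac _ _ _⟩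
    obtain ⟨r₂, hr₂⟩ : ∃ r₂ : (B : Scheme.{u}) ⟶ (U₂ : Scheme.{u}),
        r₂ ≫ U₂.ι = B.ι ≫ pullback.snd f₁ f₂ :=
      ⟨IsOpenImmersion.lift U₂.ι (B.ι ≫ pullback.snd f₁ f₂) hrange₂,
        IsOpenImmersion.lift_fac _ _ _⟩
    obtain ⟨pT⟩ := exists_transport T (U₁.ι ≫ f₁) a1 ainv h1 h2 r₁ (B.ι ≫ F) (by
      rw [hF, ← Category.assoc, hr₁, Category.assoc])
    obtain ⟨pH⟩ := exists_transport H (U₂.ι ≫ f₂) b1 binv h1' h2' r₂ (B.ι ≫ F) (by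
      rw [hF, ← Category.assoc, hr₂, Category.assoc, pullback.condition])
    have hMfg : AddGroup.FG (Fin r → ℤ) := Module.Finite.iff_addGroup_fg.mp inferInstance
    obtain ⟨W₀, φ, hb, hloc⟩ := local_const (nuOf i (B.ι ≫ F) pH pT)
      (nuOf_nat i (B.ι ≫ F) pH pT) (nuOf_hom i (B.ι ≫ F) pH pT) hMfg (⟨x, hxB⟩ : B)
    have hφ : Function.Surjective φ :=
      phi_surj i (B.ι ≫ F) pT pH W₀ φ hloc (⟨x, hxB⟩ : B) hb
    obtain ⟨U', hU'mem⟩ : ∃ U' : (pullback f₁ f₂).Opens,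
        ∀ y, y ∈ U' ↔ y ∈ B.ι.base '' (W₀ : Set B) :=
      ⟨⟨B.ι.base '' (W₀ : Set B), B.ι.isOpenEmbedding.isOpenMap _ W₀.isOpen⟩, fun y => Iff.rfl⟩
    obtain ⟨ρ, hρ1, hρ2⟩ := lift_into B W₀ U'.ι (fun t => (hU'mem _).mp t.2)
    obtain ⟨r', hr', hsplit⟩ := local_quot r i q hq (B.ι ≫ F) pT pH W₀ φ hloc hφ ρ hρ2
      (U'.ι ≫ F) (by rw [← Category.assoc, hρ1])
    exact ⟨U', (hU'mem x).mpr ⟨⟨x, hxB⟩, hb, rfl⟩, r', hsplit⟩

end Groth.Agent.Lib.TorusQuotH4
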