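import Groth.Agent.Lib.DiagHom_lead

/-! # Exact sequences of split tori over a field split (lead) -/

set_option linter.unusedSimpArgs false
set_option linter.unusedVariables false
set_option linter.unusedSectionVars false
set_option linter.style.longLine false
set_option maxHeartbeats 800000

universe u

open CategoryTheory CategoryTheory.Limits MonoidalCategory CartesianMonoidalCategory MonObj GrpObj
  AlgebraicGeometry Opposite

namespace Groth.Agent.Lib.TorusSplit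

open Groth.Agent.Lib.RedDictH8 Groth.Agent.Lib.DSDict Groth.Agent.Lib.DiagHom

variable {k : Type u} [Field k]

theorem split_DS {nK nG nQ : ℕ}
    (i' : Red.DS (Sk k) (Fin nK → ℤ) ⟶ Red.DS (Sk k) (Fin nG → ℤ)) [IsMonHom i']
    (π' : Red.DS (Sk k) (Fin nG → ℤ) ⟶ Red.DS (Sk k) (Fin nQ → ℤ)) [IsMonHom π']
    (hepi : ∀ α α' : Red.DS (Sk k) (Fin nQ → ℤ) ⟶ Red.DS (Sk k) ℤ, π' ≫ α = π' ≫ α' → α = α')
    (hcomp : i' ≫ π' = 1)
    (hex : ∀ (T : Over (Sk k)) (ζ : T ⟶ Red.DS (Sk k) (Fin nG → ℤ)), ζ ≫ π' = 1 →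
      ∃ z : T ⟶ Red.DS (Sk k) (Fin nK → ℤ), z ≫ i' = ζ)
    (hinj : ∀ (T : Over (Sk k)) (z z' : T ⟶ Red.DS (Sk k) (Fin nK → ℤ)),
      z ≫ i' = z' ≫ i' → z = z') :
    ∃ s' : Red.DS (Sk k) (Fin nQ → ℤ) ⟶ Red.DS (Sk k) (Fin nG → ℤ),
      IsMonHom s' ∧ s' ≫ π' = 𝟙 _ := by
  obtain ⟨φπ, hπ'⟩ := exists_eq_DSmap (k := k) π'
  obtain ⟨φi, hi'⟩ := exists_eq_DSmap (k := k) i'
  -- φπ is injective
  have hφπ_inj : Function.Injective φπ := by
    intro q q' hq
    have h1 : Red.DSmap (Sk k) (zmultiplesHom _ q) = Red.DSmap (Sk k) (zmultiplesHom _ q') := by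
      apply hepi
      rw [hπ', DSmap_comp, DSmap_comp]
      congr 1
      ext
      simp [hq]
    have h2 := DSmap_injective (k := k) h1
    have h3 := DFunLike.congr_fun h2 (1 : ℤ)
    simpa using h3
  -- φi ∘ φπ = 0
  have hcomp0 : φi.comp φπ = 0 := by
    apply DSmap_injective (k := k)
    rw [← DSmap_comp, ← hi', ← hπ', hcomp, DSmap_zero]
  -- the cokernel of φπ
  obtain ⟨C, instC, quot, hquot⟩ : ∃ (C : Type) (_ : AddCommGroup C) (quot : (Fin nG → ℤ) →+ C),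
      ∀ g, quot g = 0 ↔ g ∈ φπ.range :=
    ⟨(Fin nG → ℤ) ⧸ φπ.range, inferInstance, QuotientAddGroup.mk' φπ.range,
      fun g => QuotientAddGroup.eq_zero_iff g⟩
  have hj0 : Red.DSmap (Sk k) quot ≫ π' = 1 := by
    rw [hπ', DSmap_comp]
    have h0 : quot.comp φπ = 0 := by
      refine AddMonoidHom.ext fun q => ?_
      exact (hquot _).mpr ⟨q, rfl⟩
    rw [h0, DSmap_zero]
  obtain ⟨z, hz⟩ := hex _ (Red.DSmap (Sk k) quot) hj0
  haveI : IsMonHom z := isMonHom_of_pointwise z (fun T x y => by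
    apply hinj
    rw [Category.assoc, hz, MonObj.mul_comp x y (Red.DSmap (Sk k) quot),
      MonObj.mul_comp (x ≫ z) (y ≫ z) i', Category.assoc, Category.assoc, hz])
  obtain ⟨ψ, hψ⟩ := exists_eq_DSmap (k := k) z
  have hψq : ψ.comp φi = quot := by
    apply DSmap_injective (k := k)
    rw [← DSmap_comp, ← hψ, ← hi', hz]
  -- saturation
  have hsat : ∀ (d : ℤ) (b : Fin nG → ℤ), d ≠ 0 → d • b ∈ φπ.range → b ∈ φπ.range := by
    intro d b hd hdb
    obtain ⟨q, hq⟩ := hdb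
    have h1 : φi (d • b) = 0 := by
      rw [← hq]
      exact DFunLike.congr_fun hcomp0 q
    rw [map_zsmul] at h1
    have h2 : φi b = 0 := by
      funext j
      have h3 := congrFun h1 j
      simp only [Pi.smul_apply, smul_eq_mul, Pi.zero_apply] at h3
      rcases mul_eq_zero.mp h3 with h4 | h4
      · exact absurd h4 hd
      · exact h4
    rw [← hquot, ← hψq]
    show ψ (φi b) = 0
    rw [h2, map_zero]
  obtain ⟨ρ, hρ⟩ := exists_retraction φπ hφπ_inj hsat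
  refine ⟨Red.DSmap (Sk k) ρ, inferInstance, ?_⟩
  rw [hπ', DSmap_comp, hρ, DSmap_id]

/-- An exact sequence of split tori over a field splits. -/
theorem exists_section {K G Q : Over (Sk k)} [GrpObj K] [GrpObj G] [GrpObj Q] {nK nG nQ : ℕ}
    (eK : Grp.mk K ≅ Grp.mk (Red.DS (Sk k) (Fin nK → ℤ)))
    (eG : Grp.mk G ≅ Grp.mk (Red.DS (Sk k) (Fin nG → ℤ)))
    (eQ : Grp.mk Q ≅ Grp.mk (Red.DS (Sk k) (Fin nQ → ℤ)))
    (i : K ⟶ G) [IsMonHom i] (π : G ⟶ Q) [IsMonHom π] [Epi π]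
    (hker : IsPullback i (toUnit K) π η[Q]) :
    ∃ s : Q ⟶ G, IsMonHom s ∧ s ≫ π = 𝟙 Q := by
  obtain ⟨a, a', ia, ia', haa', ha'a⟩ := iso_data eK
  obtain ⟨b, b', ib, ib', hbb', hb'b⟩ := iso_data eG
  obtain ⟨c, c', ic, ic', hcc', hc'c⟩ := iso_data eQ
  have hbb'_assoc : ∀ {Z : Over (Sk k)} (t : G ⟶ Z), b ≫ b' ≫ t = t := fun t => by
    rw [← Category.assoc, hbb', Category.id_comp]
  have hb'b_assoc : ∀ {Z : Over (Sk k)} (t : _ ⟶ Z), b' ≫ b ≫ t = t := fun t => by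
    rw [← Category.assoc, hb'b, Category.id_comp]
  have haa'_assoc : ∀ {Z : Over (Sk k)} (t : K ⟶ Z), a ≫ a' ≫ t = t := fun t => by
    rw [← Category.assoc, haa', Category.id_comp]
  have hc'c_assoc : ∀ {Z : Over (Sk k)} (t : _ ⟶ Z), c' ≫ c ≫ t = t := fun t => by
    rw [← Category.assoc, hc'c, Category.id_comp]
  have hone : toUnit K ≫ η[Q] = (1 : K ⟶ Q) := Hom.one_def.symm
  have hepi : ∀ α α' : Red.DS (Sk k) (Fin nQ → ℤ) ⟶ Red.DS (Sk k) ℤ,
      (b' ≫ π ≫ c) ≫ α = (b' ≫ π ≫ c) ≫ α' → α = α' := by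
    intro α α' h
    have h1 : π ≫ (c ≫ α) = π ≫ (c ≫ α') := by
      have h2 := congrArg (fun t => b ≫ t) h
      simp only [Category.assoc] at h2
      rw [hbb'_assoc, hbb'_assoc] at h2
      exact h2
    have h3 := (cancel_epi π).mp h1
    have h4 : c' ≫ c ≫ α = c' ≫ c ≫ α' := congrArg (fun t => c' ≫ t) h3
    rw [hc'c_assoc, hc'c_assoc] at h4
    exact h4
  have hcomp : (a' ≫ i ≫ b) ≫ (b' ≫ π ≫ c) = 1 := by
    simp only [Category.assoc]
    rw [hbb'_assoc, ← Category.assoc i π c, hker.w, hone, MonObj.one_comp c, MonObj.comp_one a']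
  have hex : ∀ (T : Over (Sk k)) (ζ : T ⟶ Red.DS (Sk k) (Fin nG → ℤ)), ζ ≫ (b' ≫ π ≫ c) = 1 →
      ∃ z : T ⟶ Red.DS (Sk k) (Fin nK → ℤ), z ≫ (a' ≫ i ≫ b) = ζ := by
    intro T ζ hζ
    have h1 : (ζ ≫ b') ≫ π = toUnit T ≫ η[Q] := by
      have h2 := congrArg (fun t => t ≫ c') hζ
      simp only [Category.assoc] at h2
      rw [hcc', Category.comp_id, MonObj.one_comp c'] at h2
      rw [Category.assoc, h2, Hom.one_def]
    refine ⟨hker.lift (ζ ≫ b') (toUnit T) h1 ≫ a, ?_⟩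
    simp only [Category.assoc]
    rw [haa'_assoc, ← Category.assoc (hker.lift (ζ ≫ b') (toUnit T) h1) i b, hker.lift_fst,
      Category.assoc, hb'b, Category.comp_id]
  have hinj : ∀ (T : Over (Sk k)) (z z' : T ⟶ Red.DS (Sk k) (Fin nK → ℤ)),
      z ≫ (a' ≫ i ≫ b) = z' ≫ (a' ≫ i ≫ b) → z = z' := by
    intro T z z' h
    have h1 : (z ≫ a') ≫ i = (z' ≫ a') ≫ i := by
      have h2 := congrArg (fun t => t ≫ b') h
      simp only [Category.assoc] at h2
      rw [hbb'] at h2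
      simp only [Category.comp_id] at h2
      simp only [Category.assoc]
      exact h2
    have h3 : z ≫ a' = z' ≫ a' := hker.hom_ext h1 (toUnit_unique _ _)
    have h4 := congrArg (fun t => t ≫ a) h3
    simp only [Category.assoc] at h4
    rw [ha'a, Category.comp_id, Category.comp_id] at h4
    exact h4
  obtain ⟨s', hs', hs'π⟩ := split_DS (a' ≫ i ≫ b) (b' ≫ π ≫ c) hepi hcomp hex hinj
  haveI := hs'
  refine ⟨c ≫ s' ≫ b', inferInstance, ?_⟩
  have h1 : s' ≫ b' ≫ π = c' := by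
    have h2 := congrArg (fun t => t ≫ c') hs'π
    simp only [Category.assoc] at h2
    rw [hcc', Category.comp_id, Category.id_comp] at h2
    exact h2
  calc (c ≫ s' ≫ b') ≫ π = c ≫ (s' ≫ b' ≫ π) := by simp only [Category.assoc]
    _ = c ≫ c' := by rw [h1]
    _ = 𝟙 Q := hcc'

end Groth.Agent.Lib.TorusSplit
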