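import Mathlib

/-!
# Total ring of fractions of an essentially étale algebra over a reduced ring (helper3)

* `isArtinianRing_fractionRing`: the total ring of fractions of a reduced ring with finitely many
  minimal primes is Artinian.
* `main`: for `E` flat, formally unramified and essentially of finite type over such `A`,
  `Frac E = E ⊗ Frac A` and it is finite over `Frac A`.
-/

set_option autoImplicit false
universe u

namespace Groth.Agent.Lib.TotFracEtH3

section Artinian

variable {A : Type u} [CommRing A] [IsReduced A]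

theorem mem_minimalPrimes_of_disjoint (hmin : (minimalPrimes A).Finite) (P : Ideal A)
    [hP : P.IsPrime] (hdisj : Disjoint (nonZeroDivisors A : Set A) (P : Set A)) :
    P ∈ minimalPrimes A := by
  classical
  have hsub : (P : Set A) ⊆ ⋃ p ∈ (⊥ : Ideal A).minimalPrimes, (p : Set A) := by
    intro x hx
    rw [Ideal.iUnion_minimalPrimes]
    have hrad : (⊥ : Ideal A).radical = ⊥ := nilradical_eq_zero A
    rw [hrad]
    have hx' : x ∉ nonZeroDivisors A := fun h => Set.disjoint_left.1 hdisj h hx
    rw [mem_nonZeroDivisors_iff_right] at hx'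
    push_neg at hx'
    obtain ⟨y, hy, hy0⟩ := hx'
    refine ⟨y, ?_, ?_⟩
    · rw [Ideal.mem_bot]; exact hy0
    · rw [Ideal.mem_bot, mul_comm]; exact hy
  have hsub' : (P : Set A) ⊆ ⋃ p ∈ (hmin.toFinset : Set (Ideal A)), ((id p : Ideal A) : Set A) := by
    intro x hx
    obtain ⟨p, hp, hxp⟩ := Set.mem_iUnion₂.1 (hsub hx)
    refine Set.mem_iUnion₂.2 ⟨p, ?_, hxp⟩
    rw [Finset.mem_coe, Set.Finite.mem_toFinset]
    exact hp
  obtain ⟨p, hp, hPp⟩ := (Ideal.subset_union_prime (R := A) (s := hmin.toFinset) (f := id)
    (⊥ : Ideal A) (⊥ : Ideal A) (fun i hi _ _ => by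
      rw [Set.Finite.mem_toFinset] at hi
      exact hi.1.1)).1 hsub'
  rw [Set.Finite.mem_toFinset] at hp
  have hpP : p ≤ P := hp.2 ⟨hP, bot_le⟩ hPp
  have : P = p := le_antisymm hPp hpP
  rw [this]
  exact hp

/-- The total ring of fractions of a reduced ring with finitely many minimal primes is Artinian. -/
theorem isArtinianRing_fractionRing (hmin : (minimalPrimes A).Finite) :
    IsArtinianRing (FractionRing A) := by
  classical
  have hcomap : ∀ Q : Ideal (FractionRing A), Q.IsPrime →
      Q.comap (algebraMap A (FractionRing A)) ∈ minimalPrimes A := by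
    intro Q hQ
    have h := (IsLocalization.isPrime_iff_isPrime_disjoint (nonZeroDivisors A)
      (FractionRing A) Q).1 hQ
    haveI := h.1
    exact mem_minimalPrimes_of_disjoint hmin _ h.2
  have hinj : ∀ Q Q' : Ideal (FractionRing A),
      Q.comap (algebraMap A (FractionRing A)) = Q'.comap (algebraMap A (FractionRing A)) →
      Q = Q' := by
    intro Q Q' h
    rw [← IsLocalization.map_comap (nonZeroDivisors A) (FractionRing A) Q,
      ← IsLocalization.map_comap (nonZeroDivisors A) (FractionRing A) Q']
    show Ideal.map _ (Q.comap _) = Ideal.map _ (Q'.comap _)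
    rw [h]
  haveI : Finite (PrimeSpectrum (FractionRing A)) := by
    haveI : Finite (minimalPrimes A) := hmin.to_subtype
    exact Finite.of_injective (fun Q : PrimeSpectrum (FractionRing A) =>
      (⟨Q.asIdeal.comap (algebraMap A (FractionRing A)), hcomap _ Q.isPrime⟩ : minimalPrimes A))
      (fun Q Q' h => PrimeSpectrum.ext (hinj _ _ (Subtype.ext_iff.1 h)))
  have hmax : ∀ Q : Ideal (FractionRing A), Q.IsPrime → Q.IsMaximal := by
    intro Q hQ
    obtain ⟨m, hm, hQm⟩ := Ideal.exists_le_maximal Q hQ.ne_top
    have h1 := hcomap Q hQ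
    have h2 := hcomap m hm.isPrime
    have hle : Q.comap (algebraMap A (FractionRing A)) ≤ m.comap (algebraMap A (FractionRing A)) :=
      Ideal.comap_mono hQm
    have : Q.comap (algebraMap A (FractionRing A)) = m.comap (algebraMap A (FractionRing A)) :=
      le_antisymm hle (h2.2 h1.1 hle)
    rw [hinj _ _ this]
    exact hm
  let f : PrimeSpectrum (FractionRing A) → Ideal (FractionRing A) := fun Q => Q.asIdeal
  have hcop : Pairwise (Function.onFun IsCoprime f) := by
    intro Q Q' hne
    exact Ideal.isCoprime_iff_sup_eq.2 (Ideal.IsMaximal.coprime_of_ne (hmax _ Q.isPrime)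
      (hmax _ Q'.isPrime) (fun h => hne (PrimeSpectrum.ext h)))
  have hinf : ⨅ Q, f Q = ⊥ := by
    have h0 : nilradical (FractionRing A) = ⊥ := nilradical_eq_zero _
    rw [← h0, nilradical_eq_sInf, eq_comm]
    apply le_antisymm
    · refine le_iInf fun Q => sInf_le ?_
      exact Q.isPrime
    · refine le_sInf fun J hJ => ?_
      exact iInf_le f ⟨J, hJ⟩
  let e1 : FractionRing A ≃+* (FractionRing A ⧸ ⨅ Q, f Q) :=
    (RingEquiv.quotientBot (FractionRing A)).symm.trans (Ideal.quotEquivOfEq hinf.symm)
  let e2 := Ideal.quotientInfRingEquivPiQuotient f hcop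
  haveI : ∀ Q : PrimeSpectrum (FractionRing A), IsArtinianRing (FractionRing A ⧸ f Q) := by
    intro Q
    haveI : (f Q).IsMaximal := hmax _ Q.isPrime
    letI := Ideal.Quotient.field (f Q)
    infer_instance
  exact RingEquiv.isArtinianRing (e1.trans e2).symm

end Artinian

section Main

variable (A E : Type u) [CommRing A] [IsReduced A] [CommRing E] [Algebra A E]
  [Module.Flat A E] [Algebra.FormallyUnramified A E] [Algebra.EssFiniteType A E]

theorem algebraMapSubmonoid_le :
    Algebra.algebraMapSubmonoid E (nonZeroDivisors A) ≤ nonZeroDivisors E := by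
  rintro _ ⟨a, ha, rfl⟩
  have hreg : IsSMulRegular A a := by
    rw [isSMulRegular_iff_right_eq_zero_of_smul]
    intro m hm
    rw [smul_eq_mul, mul_comm] at hm
    exact (mem_nonZeroDivisors_iff_right.1 ha) m hm
  have hreg' : IsSMulRegular E (algebraMap A E a) := hreg.of_flat
  rw [mem_nonZeroDivisors_iff_right]
  intro x hx
  rw [mul_comm, ← smul_eq_mul] at hx
  exact (isSMulRegular_iff_right_eq_zero_of_smul.1 hreg') x hx

theorem main (hmin : (minimalPrimes A).Finite) :
    IsLocalization ((nonZeroDivisors A).map (algebraMap A E)) (FractionRing E) ∧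
      ∃ t : Finset (FractionRing E), ∀ x : FractionRing E, ∃ a ∈ nonZeroDivisors A,
        algebraMap A (FractionRing E) a * x ∈ Submodule.span A (t : Set (FractionRing E)) := by
  classical
  set M : Submonoid E := Algebra.algebraMapSubmonoid E (nonZeroDivisors A) with hM
  have hMle : M ≤ nonZeroDivisors E := algebraMapSubmonoid_le A E
  haveI : IsArtinianRing (FractionRing A) := isArtinianRing_fractionRing hmin
  haveI : IsArtinianRing (Localization (nonZeroDivisors A)) :=
    isArtinianRing_fractionRing hmin
  haveI : Algebra.QuasiFinite A E := inferInstance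
  haveI : Algebra.QuasiFinite A (Localization M) := inferInstance
  haveI : Algebra.QuasiFinite (Localization (nonZeroDivisors A)) (Localization M) :=
    Algebra.QuasiFinite.of_restrictScalars A _ _
  haveI : Module.Finite (Localization (nonZeroDivisors A)) (Localization M) :=
    Module.Finite.of_quasiFinite
  haveI : IsArtinianRing (Localization M) :=
    IsArtinianRing.of_finite (Localization (nonZeroDivisors A)) (Localization M)
  have hunits : ∀ s ∈ nonZeroDivisors E, IsUnit (algebraMap E (Localization M) s) := by
    intro s hs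
    apply IsArtinianRing.isUnit_of_mem_nonZeroDivisors
    exact IsLocalization.map_nonZeroDivisors_le M (Localization M) ⟨s, hs, rfl⟩
  haveI : IsLocalization (nonZeroDivisors E) (Localization M) :=
    IsLocalization.of_le M (nonZeroDivisors E) hMle hunits
  let e : Localization M ≃ₐ[E] FractionRing E :=
    IsLocalization.algEquiv (nonZeroDivisors E) (Localization M) (FractionRing E)
  refine ⟨IsLocalization.isLocalization_of_algEquiv M e, ?_⟩
  obtain ⟨s, hs⟩ := (Module.Finite.fg_top :
    (⊤ : Submodule (Localization (nonZeroDivisors A)) (Localization M)).FG)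
  refine ⟨s.image e, fun x => ?_⟩
  have hx : e.symm x ∈ Submodule.span (Localization (nonZeroDivisors A))
      (s : Set (Localization M)) := by rw [hs]; trivial
  obtain ⟨c, hc⟩ := Submodule.mem_span_finset.1 hx
  obtain ⟨b, hb⟩ := IsLocalization.exist_integer_multiples (nonZeroDivisors A) s c
  choose! a ha using hb
  refine ⟨b, b.2, ?_⟩
  have h1 : algebraMap A (FractionRing E) (b : A) * x =
      e ((b : A) • e.symm x) := by
    rw [Algebra.smul_def, map_mul, AlgEquiv.apply_symm_apply]
    congr 1
    rw [IsScalarTower.algebraMap_apply A E (Localization M), AlgEquiv.commutes,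
      ← IsScalarTower.algebraMap_apply]
  have h2 : (b : A) • e.symm x = ∑ g ∈ s, a g • g := by
    rw [← hc.2, Finset.smul_sum]
    refine Finset.sum_congr rfl fun g hg => ?_
    rw [← smul_assoc, ← ha g hg, algebraMap_smul]
  rw [h1, h2, map_sum]
  refine Submodule.sum_mem _ fun g hg => ?_
  have h3 : e (a g • g) = a g • e g := by
    rw [Algebra.smul_def, map_mul, Algebra.smul_def]
    congr 1
    rw [IsScalarTower.algebraMap_apply A E (Localization M), AlgEquiv.commutes,
      ← IsScalarTower.algebraMap_apply]
  rw [h3]
  exact Submodule.smul_mem _ _ (Submodule.subset_span (Finset.mem_coe.2 (Finset.mem_image_of_mem _ hg)))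

end Main

end Groth.Agent.Lib.TotFracEtH3
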