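import Groth.Agent.Lib.ComodHomFix_helper1
import Groth.Agent.Lib.Antipode_helper9
import Groth.Prelude.Def_W4c1tameactTame

set_option autoImplicit false
set_option maxHeartbeats 1000000

open TensorProduct

namespace TotIntExactH1

open ComodHomFixH1

universe u v w w'

section DualComod

variable {k : Type u} [CommRing k] {A : Type v} [CommRing A] [HopfAlgebra k A]
  {V : Type w} [AddCommGroup V] [Module k V]
  (c : HopfRep.Comod k A V)

/-- `f ↦ dualCoactFun c f` as a linear map. -/
noncomputable def DL : Module.Dual k V →ₗ[k] (V →ₗ[k] A) where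
  toFun f := ComodTens.dualCoactFun c f
  map_add' f g := ComodTens.dualCoactFun_add c f g
  map_smul' r f := by
    rw [RingHom.id_apply]
    exact ComodTens.dualCoactFun_smul c r f

/-- `v ⊗ (a ⊗ a') ↦ f v • (S a' ⊗ S a)`. -/
noncomputable def G (f : Module.Dual k V) : V ⊗[k] (A ⊗[k] A) →ₗ[k] A ⊗[k] A :=
  (TensorProduct.lid k (A ⊗[k] A)).toLinearMap ∘ₗ
    TensorProduct.map f (TensorProduct.map (HopfAlgebraStruct.antipode (R := k) (A := A))
      (HopfAlgebraStruct.antipode (R := k) (A := A)) ∘ₗ (TensorProduct.comm k A A).toLinearMap)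

theorem lhs_eq (f : Module.Dual k V) (v : V) :
    TensorProduct.comm k A A (TensorProduct.map (ComodTens.dualCoactFun c f)
      (HopfAlgebraStruct.antipode (R := k) (A := A)) (c.coact v)) =
      G f ((CoalgebraStruct.comul (R := k) (A := A)).lTensor V (c.coact v)) := by
  have step1 : ∀ w : V ⊗[k] A, TensorProduct.comm k A A (TensorProduct.map (ComodTens.dualCoactFun c f)
      (HopfAlgebraStruct.antipode (R := k) (A := A)) w) =
      TensorProduct.comm k A A (TensorProduct.map ((TensorProduct.lid k A).toLinearMap ∘ₗ
        TensorProduct.map f (HopfAlgebraStruct.antipode (R := k) (A := A)))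
        (HopfAlgebraStruct.antipode (R := k) (A := A)) (c.coact.rTensor A w)) := by
    intro w
    induction w using TensorProduct.induction_on with
    | zero => simp
    | add w w' hw hw' => simp only [map_add, hw, hw']
    | tmul v' a => rfl
  have step2 : ∀ u : V ⊗[k] (A ⊗[k] A), TensorProduct.comm k A A (TensorProduct.map
      ((TensorProduct.lid k A).toLinearMap ∘ₗ
        TensorProduct.map f (HopfAlgebraStruct.antipode (R := k) (A := A)))
      (HopfAlgebraStruct.antipode (R := k) (A := A)) ((TensorProduct.assoc k V A A).symm u)) = G f u := by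
    intro u
    have : (TensorProduct.comm k A A).toLinearMap ∘ₗ TensorProduct.map
        ((TensorProduct.lid k A).toLinearMap ∘ₗ
          TensorProduct.map f (HopfAlgebraStruct.antipode (R := k) (A := A)))
        (HopfAlgebraStruct.antipode (R := k) (A := A)) ∘ₗ
        (TensorProduct.assoc k V A A).symm.toLinearMap = G f := by
      apply TensorProduct.ext_threefold'
      intro v' a a'
      simp [G, TensorProduct.tmul_smul]
    exact LinearMap.congr_fun this u
  rw [step1, coassoc_symm, step2]

theorem rhs_eq (f : Module.Dual k V) (v : V) :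
    CoalgebraStruct.comul (R := k) (A := A) (ComodTens.dualCoactFun c f v) =
      G f ((CoalgebraStruct.comul (R := k) (A := A)).lTensor V (c.coact v)) := by
  rw [ComodTens.dualCoactFun_apply]
  have : ∀ w : V ⊗[k] A, CoalgebraStruct.comul (R := k) (A := A) (TensorProduct.lid k A
      (TensorProduct.map f (HopfAlgebraStruct.antipode (R := k) (A := A)) w)) =
      G f ((CoalgebraStruct.comul (R := k) (A := A)).lTensor V w) := by
    intro w
    induction w using TensorProduct.induction_on with
    | zero => simp
    | add w w' hw hw' => simp only [map_add, hw, hw']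
    | tmul v' a =>
      simp only [TensorProduct.map_tmul, TensorProduct.lid_tmul, map_smul, LinearMap.lTensor_tmul, G,
        LinearMap.comp_apply, LinearEquiv.coe_coe]
      rw [Groth.Agent.Lib.Antipode_helper9.comul_antipode]
  exact this _

theorem dTH2_assoc (s : Module.Dual k V ⊗[k] A) (a : A) (v : V) :
    dualTensorHom k V (A ⊗[k] A) (TensorProduct.assoc k (Module.Dual k V) A A (s ⊗ₜ[k] a)) v =
      (dualTensorHom k V A s v) ⊗ₜ[k] a := by
  induction s using TensorProduct.induction_on with
  | zero => simp
  | add s s' hs hs' =>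
    rw [TensorProduct.add_tmul, map_add, map_add, LinearMap.add_apply, hs, hs', map_add,
      LinearMap.add_apply, TensorProduct.add_tmul]
  | tmul ψ a' => simp [TensorProduct.smul_tmul']

theorem side_a' (co : Module.Dual k V →ₗ[k] Module.Dual k V ⊗[k] A)
    (hco : ∀ f, dualTensorHom k V A (co f) = ComodTens.dualCoactFun c f)
    (t : Module.Dual k V ⊗[k] A) (v : V) :
    dualTensorHom k V (A ⊗[k] A) (TensorProduct.assoc k (Module.Dual k V) A A (co.rTensor A t)) v =
      TensorProduct.comm k A A (TensorProduct.map (dualTensorHom k V A t)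
        (HopfAlgebraStruct.antipode (R := k) (A := A)) (c.coact v)) := by
  induction t using TensorProduct.induction_on with
  | zero => simp
  | add t t' ht ht' =>
    rw [map_add, map_add, map_add, LinearMap.add_apply, ht, ht', map_add, TensorProduct.map_add_left,
      LinearMap.add_apply, map_add]
  | tmul φ a =>
    rw [LinearMap.rTensor_tmul, dTH2_assoc, hco, ComodTens.dualCoactFun_apply]
    have key : ∀ w : V ⊗[k] A, (TensorProduct.lid k A (TensorProduct.map φ
        (HopfAlgebraStruct.antipode (R := k) (A := A)) w)) ⊗ₜ[k] a =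
        TensorProduct.comm k A A (TensorProduct.map (dualTensorHom k V A (φ ⊗ₜ[k] a))
          (HopfAlgebraStruct.antipode (R := k) (A := A)) w) := by
      intro w
      induction w using TensorProduct.induction_on with
      | zero => simp
      | add w w' hw hw' => rw [map_add, map_add, TensorProduct.add_tmul, hw, hw', map_add, map_add]
      | tmul v' a'' => simp [TensorProduct.smul_tmul', TensorProduct.tmul_smul]
    exact key _

theorem side_b' (t : Module.Dual k V ⊗[k] A) (v : V) :
    dualTensorHom k V (A ⊗[k] A)
      ((CoalgebraStruct.comul (R := k) (A := A)).lTensor (Module.Dual k V) t) v =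
      CoalgebraStruct.comul (R := k) (A := A) (dualTensorHom k V A t v) := by
  induction t using TensorProduct.induction_on with
  | zero => simp
  | add t t' ht ht' =>
    rw [map_add, map_add, LinearMap.add_apply, ht, ht', map_add, LinearMap.add_apply, map_add]
  | tmul φ a => simp

variable [Module.Finite k V] [Module.Projective k V]

/-- `V^* ⊗ A ≃ Hom(V, A)` for `V` finite projective. -/
noncomputable def ThetaR : Module.Dual k V ⊗[k] A ≃ₗ[k] (V →ₗ[k] A) :=
  LinearEquiv.ofBijective (dualTensorHom k V A) dualTensorHom_bijective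

/-- The contragredient coaction. -/
noncomputable def dco : Module.Dual k V →ₗ[k] Module.Dual k V ⊗[k] A :=
  (ThetaR (k := k) (A := A) (V := V)).symm.toLinearMap ∘ₗ DL c

theorem dTH_dco (f : Module.Dual k V) :
    dualTensorHom k V A (dco c f) = ComodTens.dualCoactFun c f := by
  have h : dualTensorHom k V A (dco c f) = ThetaR (k := k) (A := A) (V := V) (dco c f) := rfl
  rw [h, dco, LinearMap.comp_apply, LinearEquiv.coe_coe, LinearEquiv.apply_symm_apply]
  rfl

/-- The contragredient comodule of a finite projective comodule over a commutative ring. -/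
noncomputable def dualComod : HopfRep.Comod k A (Module.Dual k V) where
  coact := dco c
  coassoc := by
    apply LinearMap.ext
    intro f
    apply (dualTensorHom_bijective (R := k) (M := V) (N := A ⊗[k] A)).1
    apply LinearMap.ext
    intro v
    simp only [LinearMap.comp_apply, LinearEquiv.coe_coe]
    rw [side_a' c (dco c) (dTH_dco c), side_b', dTH_dco, lhs_eq, rhs_eq]
  counit_comp := by
    apply LinearMap.ext
    intro f
    apply (TensorProduct.rid k (Module.Dual k V)).injective
    apply LinearMap.ext
    intro v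
    have key : ∀ t : Module.Dual k V ⊗[k] A,
        TensorProduct.rid k (Module.Dual k V)
          ((CoalgebraStruct.counit (R := k) (A := A)).lTensor (Module.Dual k V) t) v =
        CoalgebraStruct.counit (R := k) (A := A) (dualTensorHom k V A t v) := by
      intro t
      induction t using TensorProduct.induction_on with
      | zero => simp
      | add t t' ht ht' =>
        rw [map_add, map_add, LinearMap.add_apply, ht, ht', map_add, LinearMap.add_apply, map_add]
      | tmul φ a => simp [mul_comm]
    rw [LinearMap.comp_apply, key, dTH_dco, ComodTens.dualCoactFun_apply]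
    have e : ∀ w : V ⊗[k] A, CoalgebraStruct.counit (R := k) (A := A)
        (TensorProduct.lid k A (TensorProduct.map f (HopfAlgebraStruct.antipode (R := k) (A := A)) w)) =
        TensorProduct.lid k k (f.rTensor k ((CoalgebraStruct.counit (R := k) (A := A)).lTensor V w)) := by
      intro w
      induction w using TensorProduct.induction_on with
      | zero => simp
      | add w w' hw hw' => simp only [map_add, hw, hw']
      | tmul v' a => simp
    rw [e, counit_apply]
    simp

theorem isDual_dualComod : ComodTens.Comod.IsDual c (dualComod c) := by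
  intro f
  exact dTH_dco c f

end DualComod

section Tame

variable {k : Type u} [CommRing k] {A : Type v} [CommRing A] [HopfAlgebra k A]
  {B : Type w} [CommRing B] [Algebra k B] (cB : HopfRep.Comod k A B)
  {W : Type w'} [AddCommGroup W] [Module k W]

omit [HopfAlgebra k A] in
theorem hm_pure [Bialgebra k A] (b' : B) (a' : A) (t : (B ⊗[k] A) ⊗[k] (W ⊗[k] A)) :
    TensorProduct.map LinearMap.id (LinearMap.mul' k A)
      (AlgebraTensorModule.tensorTensorTensorComm k k k k B A W A
        ((LinearMap.mulLeft k (b' ⊗ₜ[k] a' : B ⊗[k] A)).rTensor (W ⊗[k] A) t)) =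
    TameAct.hmSMul k A B (B ⊗[k] W) (b' ⊗ₜ[k] a')
      (TensorProduct.map LinearMap.id (LinearMap.mul' k A)
        (AlgebraTensorModule.tensorTensorTensorComm k k k k B A W A t)) := by
  have : (TensorProduct.map LinearMap.id (LinearMap.mul' k A)) ∘ₗ
      (AlgebraTensorModule.tensorTensorTensorComm k k k k B A W A).toLinearMap ∘ₗ
      (LinearMap.mulLeft k (b' ⊗ₜ[k] a' : B ⊗[k] A)).rTensor (W ⊗[k] A) =
      (TameAct.hmSMul k A B (B ⊗[k] W) (b' ⊗ₜ[k] a')) ∘ₗ
      (TensorProduct.map LinearMap.id (LinearMap.mul' k A)) ∘ₗ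
      (AlgebraTensorModule.tensorTensorTensorComm k k k k B A W A).toLinearMap := by
    apply TensorProduct.ext_fourfold'
    intro b a φ a''
    simp [TensorProduct.smul_tmul', mul_assoc]
  exact LinearMap.congr_fun this t

omit [HopfAlgebra k A] in
theorem hm_all [Bialgebra k A] (y' y : B ⊗[k] A) (z : W ⊗[k] A) :
    TensorProduct.map LinearMap.id (LinearMap.mul' k A)
      (AlgebraTensorModule.tensorTensorTensorComm k k k k B A W A ((y' * y) ⊗ₜ[k] z)) =
    TameAct.hmSMul k A B (B ⊗[k] W) y'
      (TensorProduct.map LinearMap.id (LinearMap.mul' k A)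
        (AlgebraTensorModule.tensorTensorTensorComm k k k k B A W A (y ⊗ₜ[k] z))) := by
  induction y' using TensorProduct.induction_on with
  | zero => simp
  | add y₁ y₂ h₁ h₂ =>
    rw [add_mul, TensorProduct.add_tmul, map_add, map_add, h₁, h₂, map_add, LinearMap.add_apply]
  | tmul b' a' =>
    have := hm_pure (W := W) b' a' (y ⊗ₜ[k] z)
    simpa using this

theorem coact_smul_tensor (d : HopfRep.Comod k A W)
    (hmul : ∀ b b' : B, cB.coact (b * b') = cB.coact b * cB.coact b') (b' : B) (x : B ⊗[k] W) :
    (ComodTens.Comod.tensor cB d).coact (b' • x) =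
      TameAct.hmSMul k A B (B ⊗[k] W) (cB.coact b') ((ComodTens.Comod.tensor cB d).coact x) := by
  induction x using TensorProduct.induction_on with
  | zero => simp
  | add x y hx hy => rw [smul_add, map_add, hx, hy, map_add, map_add]
  | tmul b φ =>
    rw [TensorProduct.smul_tmul', smul_eq_mul, ComodTens.tensor_coact_tmul,
      ComodTens.tensor_coact_tmul, hmul, hm_all]

omit [HopfAlgebra k A] in
theorem hmSMul_self [Bialgebra k A] (y y' : B ⊗[k] A) : TameAct.hmSMul k A B B y y' = y * y' := by
  induction y using TensorProduct.induction_on with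
  | zero => simp
  | add y₁ y₂ h₁ h₂ => rw [map_add, LinearMap.add_apply, h₁, h₂, add_mul]
  | tmul b a =>
    induction y' using TensorProduct.induction_on with
    | zero => simp
    | add z₁ z₂ h₁ h₂ => rw [map_add, h₁, h₂, mul_add]
    | tmul b' a' => simp

variable (k A B) in
/-- `b ⊗ φ ↦ φ 1 • b`. -/
noncomputable def ev1 : B ⊗[k] Module.Dual k A →ₗ[k] B :=
  (TensorProduct.rid k B).toLinearMap ∘ₗ
    (LinearMap.applyₗ (1 : A) : Module.Dual k A →ₗ[k] k).lTensor B

@[simp] theorem ev1_tmul (b : B) (φ : Module.Dual k A) : ev1 k A B (b ⊗ₜ[k] φ) = φ 1 • b := by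
  simp [ev1]

theorem ev1_eq_Phi (x : B ⊗[k] Module.Dual k A) : ev1 k A B x = Phi k B A x 1 := by
  induction x using TensorProduct.induction_on with
  | zero => simp
  | add x y hx hy => rw [map_add, map_add, LinearMap.add_apply, hx, hy]
  | tmul b φ => simp

theorem ev1_smul (b' : B) (x : B ⊗[k] Module.Dual k A) :
    ev1 k A B (b' • x) = b' * ev1 k A B x := by
  induction x using TensorProduct.induction_on with
  | zero => simp
  | add x y hx hy => rw [smul_add, map_add, hx, hy, map_add, mul_add]
  | tmul b φ => rw [TensorProduct.smul_tmul', ev1_tmul, ev1_tmul, smul_eq_mul, mul_smul_comm]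

variable (k A B) in
/-- `ev1` as a `B`-linear map. -/
noncomputable def ev1B : B ⊗[k] Module.Dual k A →ₗ[B] B :=
  { ev1 k A B with
    map_smul' := fun b' x => by
      simp only [AddHom.toFun_eq_coe, LinearMap.coe_toAddHom, RingHom.id_apply, smul_eq_mul]
      exact ev1_smul b' x }

theorem ev1B_apply (x : B ⊗[k] Module.Dual k A) : ev1B k A B x = ev1 k A B x := rfl

theorem rTensor_ev1 (X : (B ⊗[k] Module.Dual k A) ⊗[k] A) :
    (ev1 k A B).rTensor A X = Psi k A B A X 1 := by
  have : (ev1 k A B).rTensor A =
      (LinearMap.applyₗ (1 : A) : (A →ₗ[k] B ⊗[k] A) →ₗ[k] B ⊗[k] A) ∘ₗ Psi k A B A := by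
    apply TensorProduct.ext_threefold
    intro b φ a
    simp [TensorProduct.smul_tmul']
  exact LinearMap.congr_fun this X

theorem ev1_comodHom (d : HopfRep.Comod k A (Module.Dual k A))
    (hd : ComodTens.Comod.IsDual (HopfRep.Comod.regular k A) d) (x : B ⊗[k] Module.Dual k A) :
    cB.coact (ev1 k A B x) = (ev1 k A B).rTensor A ((ComodTens.Comod.tensor cB d).coact x) := by
  rw [rTensor_ev1, Psi_coact cB (HopfRep.Comod.regular k A) d hd]
  have h1 : (HopfRep.Comod.regular k A).coact (1 : A) = (1 : A) ⊗ₜ[k] (1 : A) := by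
    show CoalgebraStruct.comul (R := k) (1 : A) = _
    rw [Bialgebra.comul_one]
    rfl
  rw [h1, E_tmul, HopfAlgebra.antipode_one, act_one, ev1_eq_Phi]

end Tame

section Final

theorem s12928
    (k : Type u) [CommRing k] (A : Type u) [CommRing A] [HopfAlgebra k A]
    [Module.Finite k A] [Module.Projective k A]
    (B : Type u) [CommRing B] [Algebra k B] [cB : HopfRep.Comod k A B] [hB : GLin.IsCoactAlg k A B]
    (hexact : ∀ (M N : Type u) [AddCommGroup M] [Module k M] [Module B M] [IsScalarTower k B M]
      [HopfRep.Comod k A M] [TameAct.IsHopfMod k A B M]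
      [AddCommGroup N] [Module k N] [Module B N] [IsScalarTower k B N]
      [HopfRep.Comod k A N] [TameAct.IsHopfMod k A B N] (f : M →ₗ[B] N),
      Hoch.IsComodHom A (f.restrictScalars k) → Function.Surjective f →
      ∀ n ∈ HopfRep.fixedPts k A N, ∃ m ∈ HopfRep.fixedPts k A M, f m = n) :
    ∃ α : A →ₗ[k] B, Hoch.IsComodHom A α ∧ α 1 = 1 := by
  let d : HopfRep.Comod k A (Module.Dual k A) := dualComod (HopfRep.Comod.regular k A)
  have hd : ComodTens.Comod.IsDual (HopfRep.Comod.regular k A) d := isDual_dualComod _
  letI cT : HopfRep.Comod k A (B ⊗[k] Module.Dual k A) := ComodTens.Comod.tensor cB d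
  haveI hM : TameAct.IsHopfMod k A B (B ⊗[k] Module.Dual k A) :=
    ⟨fun b' x => coact_smul_tensor cB d hB.coact_mul b' x⟩
  haveI hN : TameAct.IsHopfMod k A B B :=
    ⟨fun b m => by rw [smul_eq_mul, hB.coact_mul, hmSMul_self]⟩
  have hf : Hoch.IsComodHom A ((ev1B k A B).restrictScalars k) := by
    apply LinearMap.ext
    intro x
    exact ev1_comodHom cB d hd x
  have hsurj : Function.Surjective (ev1B k A B) := by
    intro b
    refine ⟨b ⊗ₜ[k] (CoalgebraStruct.counit (R := k) (A := A)), ?_⟩
    rw [ev1B_apply, ev1_tmul, Bialgebra.counit_one, one_smul]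
  have h1 : (1 : B) ∈ HopfRep.fixedPts k A B := by
    show HopfRep.Comod.coact (k := k) (A := A) (1 : B) = (1 : B) ⊗ₜ[k] (1 : A)
    rw [hB.coact_one]
    rfl
  obtain ⟨x, hx, hx1⟩ := hexact (B ⊗[k] Module.Dual k A) B (ev1B k A B) hf hsurj 1 h1
  have hx' : (ComodTens.Comod.tensor cB d).coact x = x ⊗ₜ[k] (1 : A) := hx
  refine ⟨Phi k B A x, ?_, ?_⟩
  · exact comodHom_of_E cB (HopfRep.Comod.regular k A) _
      (fun m => by rw [← Psi_coact cB _ d hd, hx', Psi_tmul_one])
  · rw [← ev1_eq_Phi, ← ev1B_apply]
    exact hx1

end Final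

end TotIntExactH1
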