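import Mathlib

set_option autoImplicit false
universe u

namespace Groth.Agent.Lib.TotReal

open Polynomial

/-- polynomial from coefficient vector -/
noncomputable def P {K : Type*} [CommRing K] {N : ℕ} (v : Fin N → K) : K[X] :=
  ∑ i, C (v i) * X ^ (i : ℕ)

lemma coeff_P {K : Type*} [CommRing K] {N : ℕ} (v : Fin N → K) (i : Fin N) :
    (P v).coeff i = v i := by
  unfold P
  rw [Polynomial.finset_sum_coeff, Finset.sum_eq_single i]
  · rw [coeff_C_mul_X_pow, if_pos rfl]
  · intro j _ hji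
    rw [coeff_C_mul_X_pow, if_neg]
    intro h; exact hji (Fin.ext h.symm)
  · intro h; exact absurd (Finset.mem_univ i) h

lemma eq_P {K : Type*} [CommRing K] (f : K[X]) {N : ℕ} (hN : f.natDegree < N) :
    f = P (fun i : Fin N => f.coeff i) := by
  unfold P
  rw [Fin.sum_univ_eq_sum_range (fun i => C (f.coeff i) * X ^ i) N]
  exact f.as_sum_range_C_mul_X_pow' hN

section
variable {R : Type u} [Ring R] [Algebra ℚ R] [StarRing R] [StarModule ℚ R]
  (σ : R →ₗ[ℚ] ℚ) (x : R)

/-- moments -/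
def h (k : ℕ) : ℚ := σ (x ^ k)

/-- Hankel bilinear form -/
def Q {K : Type*} [CommRing K] [Algebra ℚ K] {N : ℕ} (v w : Fin N → K) : K :=
  ∑ i, ∑ j, v i * w j * algebraMap ℚ K (h σ x ((i : ℕ) + (j : ℕ)))

/-- Hankel matrix -/
def Hq (N : ℕ) : Matrix (Fin N) (Fin N) ℚ := Matrix.of fun i j => h σ x ((i : ℕ) + (j : ℕ))

omit [StarRing R] [StarModule ℚ R] in
lemma aeval_P {N : ℕ} (v : Fin N → ℚ) : aeval x (P v) = ∑ i, v i • x ^ (i : ℕ) := by
  unfold P
  rw [map_sum]
  refine Finset.sum_congr rfl fun i _ => ?_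
  rw [map_mul, aeval_C, map_pow, aeval_X, Algebra.smul_def]

omit [StarRing R] [StarModule ℚ R] in
lemma sigma_aeval_mul {N : ℕ} (v w : Fin N → ℚ) :
    σ (aeval x (P v) * aeval x (P w)) = Q σ x v w := by
  rw [aeval_P, aeval_P, Finset.sum_mul_sum, map_sum]
  unfold Q
  refine Finset.sum_congr rfl fun i _ => ?_
  rw [map_sum]
  refine Finset.sum_congr rfl fun j _ => ?_
  rw [smul_mul_smul_comm, ← pow_add, map_smul, smul_eq_mul]
  simp only [eq_ratCast, Rat.cast_id, h]

variable (hpos : ∀ y : R, y ≠ 0 → 0 < σ (y * star y)) (hx : star x = x)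

include hx in
lemma star_aeval (f : ℚ[X]) : star (aeval x f) = aeval x f := by
  induction f using Polynomial.induction_on' with
  | add p q hp hq => rw [map_add, star_add, hp, hq]
  | monomial n a =>
    rw [aeval_monomial, star_mul, star_pow, hx, ← algebraMap_star_comm, star_trivial,
      Algebra.commutes]

include hpos hx in
lemma Q_self_nonneg {N : ℕ} (v : Fin N → ℚ) :
    0 ≤ Q σ x v v ∧ (Q σ x v v = 0 → aeval x (P v) = 0) := by
  rw [← sigma_aeval_mul]
  have ha : star (aeval x (P v)) = aeval x (P v) := star_aeval x hx _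
  by_cases h0 : aeval x (P v) = 0
  · simp [h0]
  · have := hpos _ h0
    rw [ha] at this
    exact ⟨this.le, fun h => absurd h this.ne'⟩

include hpos hx in
lemma Q_real_nonneg {N : ℕ} (v : Fin N → ℝ) : 0 ≤ Q σ x v v := by
  have hdense : DenseRange (Pi.map (fun (_ : Fin N) => ((↑) : ℚ → ℝ))) :=
    DenseRange.piMap (fun _ => Rat.denseRange_cast)
  refine hdense.induction_on v ?_ ?_
  · apply isClosed_le continuous_const
    unfold Q
    fun_prop
  · intro w
    have := (Q_self_nonneg σ x hpos hx w).1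
    have hcast : Q σ x (Pi.map (fun _ => ((↑) : ℚ → ℝ)) w) (Pi.map (fun _ => ((↑) : ℚ → ℝ)) w) =
        ((Q σ x w w : ℚ) : ℝ) := by
      simp only [Q, Pi.map_apply, eq_ratCast, Rat.cast_id, Rat.cast_sum, Rat.cast_mul]
    rw [hcast]; exact_mod_cast this

/-- real extension of the functional `f ↦ σ (f(x))` -/
noncomputable def Λ : ℝ[X] →ₗ[ℝ] ℝ :=
  Polynomial.lsum (fun k => (algebraMap ℚ ℝ (h σ x k)) • (LinearMap.id : ℝ →ₗ[ℝ] ℝ))

omit [StarRing R] [StarModule ℚ R] in
lemma Λ_C_mul_X_pow (c : ℝ) (k : ℕ) :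
    Λ σ x (C c * X ^ k) = c * algebraMap ℚ ℝ (h σ x k) := by
  unfold Λ
  rw [Polynomial.lsum_apply, C_mul_X_pow_eq_monomial, Polynomial.sum_monomial_index]
  · simp [mul_comm]
  · simp

omit [StarRing R] [StarModule ℚ R] in
lemma Λ_C_mul (c : ℝ) (p : ℝ[X]) : Λ σ x (C c * p) = c * Λ σ x p := by
  rw [← smul_eq_C_mul, map_smul, smul_eq_mul]

omit [StarRing R] [StarModule ℚ R] in
lemma Λ_mul_P {N : ℕ} (v w : Fin N → ℝ) : Λ σ x (P v * P w) = Q σ x v w := by
  unfold P Q
  rw [Finset.sum_mul_sum, map_sum]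
  refine Finset.sum_congr rfl fun i _ => ?_
  rw [map_sum]
  refine Finset.sum_congr rfl fun j _ => ?_
  have : C (v i) * X ^ (i:ℕ) * (C (w j) * X ^ (j:ℕ)) =
      C (v i * w j) * X ^ ((i:ℕ) + (j:ℕ)) := by rw [map_mul, pow_add]; ring
  rw [this, Λ_C_mul_X_pow]

omit [StarRing R] [StarModule ℚ R] in
lemma Λ_map (f : ℚ[X]) : Λ σ x (f.map (algebraMap ℚ ℝ)) = ((σ (aeval x f) : ℚ) : ℝ) := by
  induction f using Polynomial.induction_on' with
  | add p q hp hq =>
    rw [Polynomial.map_add, map_add, hp, hq, map_add, map_add]; push_cast; rfl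
  | monomial n a =>
    rw [Polynomial.map_monomial, ← C_mul_X_pow_eq_monomial, Λ_C_mul_X_pow, aeval_monomial,
      ← Algebra.smul_def a (x ^ n), map_smul, smul_eq_mul]
    simp [h]

omit [StarRing R] [StarModule ℚ R] in
lemma Λ_minpoly_mul (g : ℝ[X]) : Λ σ x ((minpoly ℚ x).map (algebraMap ℚ ℝ) * g) = 0 := by
  induction g using Polynomial.induction_on' with
  | add p q hp hq => rw [mul_add, map_add, hp, hq, add_zero]
  | monomial k c =>
    have : (minpoly ℚ x).map (algebraMap ℚ ℝ) * monomial k c =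
        C c * ((minpoly ℚ x * X ^ k).map (algebraMap ℚ ℝ)) := by
      rw [Polynomial.map_mul, Polynomial.map_pow, Polynomial.map_X, ← C_mul_X_pow_eq_monomial]
      ring
    rw [this, Λ_C_mul, Λ_map, map_mul, minpoly.aeval, zero_mul, map_zero]; simp

include hpos hx in
lemma Λ_sq_nonneg (f : ℝ[X]) : 0 ≤ Λ σ x (f * f) := by
  have hf := eq_P f (Nat.lt_succ_self f.natDegree)
  have : Λ σ x (f * f) = Q σ x (fun i : Fin (f.natDegree + 1) => f.coeff i)
      (fun i : Fin (f.natDegree + 1) => f.coeff i) := by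
    rw [← Λ_mul_P, ← hf]
  rw [this]
  exact Q_real_nonneg σ x hpos hx _

include hpos hx in
lemma Λ_mul_eq_zero (f g : ℝ[X]) (hf : Λ σ x (f * f) = 0) : Λ σ x (f * g) = 0 := by
  by_contra hne
  have key : ∀ t : ℝ, 0 ≤ Λ σ x (g * g) + 2 * t * Λ σ x (f * g) := by
    intro t
    have h1 := Λ_sq_nonneg σ x hpos hx (g + C t * f)
    have h2 : (g + C t * f) * (g + C t * f) =
        g * g + (C t * (f * g) + C t * (f * g)) + C t * (C t * (f * f)) := by ring
    rw [h2, map_add, map_add, map_add, Λ_C_mul, Λ_C_mul, Λ_C_mul, hf] at h1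
    linarith
  have := key (-(Λ σ x (g * g) + 1) / (2 * Λ σ x (f * g)))
  have h3 : 2 * (-(Λ σ x (g * g) + 1) / (2 * Λ σ x (f * g))) * Λ σ x (f * g) =
      -(Λ σ x (g * g) + 1) := by field_simp
  rw [h3] at this
  linarith

include hpos hx in
lemma det_Hq_ne_zero (hint : IsIntegral ℚ x) : (Hq σ x (minpoly ℚ x).natDegree).det ≠ 0 := by
  intro hdet
  obtain ⟨v, hv0, hv⟩ := Matrix.exists_mulVec_eq_zero_iff.mpr hdet
  have hQ : Q σ x v v = 0 := by
    unfold Q
    have : ∀ i, ∑ j, v i * v j * algebraMap ℚ ℚ (h σ x ((i:ℕ) + (j:ℕ))) =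
        v i * ((Hq σ x (minpoly ℚ x).natDegree).mulVec v) i := by
      intro i
      simp only [Matrix.mulVec, dotProduct, Hq, Matrix.of_apply, Finset.mul_sum]
      refine Finset.sum_congr rfl fun j _ => ?_
      simp only [eq_ratCast, Rat.cast_id]; ring
    simp only [this, hv]; simp
  have ha := (Q_self_nonneg σ x hpos hx v).2 hQ
  have hdvd := minpoly.dvd ℚ x ha
  have hdeg : (P v).degree < (minpoly ℚ x).degree := by
    rw [degree_eq_natDegree (minpoly.ne_zero hint)]
    exact degree_sum_fin_lt v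
  have hP0 : P v = 0 := eq_zero_of_dvd_of_degree_lt hdvd hdeg
  apply hv0
  ext i
  have := congrArg (fun p => p.coeff i) hP0
  simpa [coeff_P] using this

include hpos hx in
lemma real_nondeg (hint : IsIntegral ℚ x) (v : Fin (minpoly ℚ x).natDegree → ℝ)
    (hv : ∀ k : Fin (minpoly ℚ x).natDegree, Λ σ x (P v * X ^ (k : ℕ)) = 0) : v = 0 := by
  have hdet := det_Hq_ne_zero σ x hpos hx hint
  have hdetR : ((Hq σ x (minpoly ℚ x).natDegree).map (algebraMap ℚ ℝ)).det ≠ 0 := by
    rw [← RingHom.mapMatrix_apply, ← RingHom.map_det]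
    exact (_root_.map_ne_zero _).mpr hdet
  apply Matrix.eq_zero_of_mulVec_eq_zero hdetR
  ext k
  rw [Pi.zero_apply, ← hv k]
  simp only [Matrix.mulVec, dotProduct, Matrix.map_apply, Hq, Matrix.of_apply]
  unfold P
  rw [Finset.sum_mul, map_sum]
  refine Finset.sum_congr rfl fun j _ => ?_
  rw [mul_assoc, ← pow_add, Λ_C_mul_X_pow, add_comm (j:ℕ), mul_comm]

include hpos hx in
lemma squarefree_minpoly (hint : IsIntegral ℚ x) : Squarefree (minpoly ℚ x) := by
  intro g hg
  obtain ⟨k, hk⟩ := hg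
  have hm0 := minpoly.ne_zero hint
  have haa : aeval x (g * k) * aeval x (g * k) = 0 := by
    have : (g * k) * (g * k) = minpoly ℚ x * k := by rw [hk]; ring
    rw [← map_mul, this, map_mul, minpoly.aeval, zero_mul]
  have hstar : star (aeval x (g * k)) = aeval x (g * k) := star_aeval x hx _
  have ha0 : aeval x (g * k) = 0 := by
    by_contra hne
    have := hpos _ hne
    rw [hstar, haa, map_zero] at this
    exact lt_irrefl _ this
  have hdvd : minpoly ℚ x ∣ g * k := minpoly.dvd ℚ x ha0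
  have hgk : g * k ≠ 0 := by
    intro h0
    apply hm0
    rw [hk, mul_assoc, h0, mul_zero]
  rw [hk, mul_assoc] at hdvd
  have : g * (g * k) ∣ 1 * (g * k) := by rwa [one_mul]
  exact isUnit_of_dvd_one ((mul_dvd_mul_iff_right hgk).mp this)

include hpos hx in
lemma no_nonreal_root (hint : IsIntegral ℚ x) (z : ℂ) (hz : aeval z (minpoly ℚ x) = 0)
    (him : z.im ≠ 0) : False := by
  have hmon : ((minpoly ℚ x).map (algebraMap ℚ ℝ)).Monic := (minpoly.monic hint).map _
  have hzR : aeval z ((minpoly ℚ x).map (algebraMap ℚ ℝ)) = 0 := by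
    rw [aeval_map_algebraMap]; exact hz
  obtain ⟨qt, hqt⟩ := Polynomial.quadratic_dvd_of_aeval_eq_zero_im_ne_zero _ hzR him
  have hqeq : (X ^ 2 - C (2 * z.re) * X + C (‖z‖ ^ 2) : ℝ[X]) =
      (X - C z.re) * (X - C z.re) + C z.im * C z.im := by
    rw [Complex.sq_norm, Complex.normSq_apply]
    simp only [map_add, map_mul, map_ofNat]
    ring
  rw [hqeq] at hqt
  have hqt0 : qt ≠ 0 := by
    intro h0; rw [h0, mul_zero] at hqt; exact hmon.ne_zero hqt
  have hq0 : ((X - C z.re) * (X - C z.re) + C z.im * C z.im : ℝ[X]) ≠ 0 := by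
    intro h0; rw [h0, zero_mul] at hqt; exact hmon.ne_zero hqt
  have hqdeg : ((X - C z.re) * (X - C z.re) + C z.im * C z.im : ℝ[X]).natDegree = 2 := by
    rw [← map_mul, natDegree_add_C, natDegree_mul (X_sub_C_ne_zero _) (X_sub_C_ne_zero _),
      natDegree_X_sub_C]
  have hndeg : ((minpoly ℚ x).map (algebraMap ℚ ℝ)).natDegree = (minpoly ℚ x).natDegree :=
    natDegree_map_eq_of_injective (algebraMap ℚ ℝ).injective _
  have hqtdeg : qt.natDegree + 2 = (minpoly ℚ x).natDegree := by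
    rw [← hndeg, hqt, natDegree_mul hq0 hqt0, hqdeg]; ring
  obtain ⟨b, hb⟩ : ∃ b : ℝ[X], b = (X - C z.re) * qt := ⟨_, rfl⟩
  obtain ⟨c, hc⟩ : ∃ c : ℝ[X], c = C z.im * qt := ⟨_, rfl⟩
  have hsum : b * b + c * c = (minpoly ℚ x).map (algebraMap ℚ ℝ) * qt := by
    rw [hb, hc, hqt]; ring
  have hbn := Λ_sq_nonneg σ x hpos hx b
  have hcn := Λ_sq_nonneg σ x hpos hx c
  have h0 : Λ σ x (b * b) + Λ σ x (c * c) = 0 := by rw [← map_add, hsum, Λ_minpoly_mul]
  have hc0 : Λ σ x (c * c) = 0 := by linarith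
  have hcg : ∀ g, Λ σ x (c * g) = 0 := fun g => Λ_mul_eq_zero σ x hpos hx c g hc0
  have hcdeg : c.natDegree < (minpoly ℚ x).natDegree := by
    have : c.natDegree ≤ qt.natDegree := by rw [hc]; exact natDegree_C_mul_le _ _
    omega
  have hcP := eq_P c hcdeg
  have hv : (fun i : Fin (minpoly ℚ x).natDegree => c.coeff i) = 0 := by
    apply real_nondeg σ x hpos hx hint
    intro k
    rw [← hcP]; exact hcg _
  have hczero : c = 0 := by
    rw [hcP, hv]; simp [P]
  rw [hc] at hczero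
  rcases mul_eq_zero.mp hczero with h | h
  · exact him (by simpa using h)
  · exact hqt0 h

end

theorem main (R : Type u) [Ring R] [Algebra ℚ R] [Module.Finite ℚ R] [StarRing R] [StarModule ℚ R]
    (σ : R →ₗ[ℚ] ℚ) (hσ : ∀ x y : R, σ (x * y) = σ (y * x))
    (hpos : ∀ x : R, x ≠ 0 → 0 < σ (x * star x))
    (x : R) (hx : star x = x) (hx0 : x ≠ 0) :
    (minpoly ℚ x).Separable ∧ ∀ z : ℂ, Polynomial.aeval z (minpoly ℚ x) = 0 → z.im = 0 := by
  have hint : IsIntegral ℚ x := Algebra.IsIntegral.isIntegral x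
  refine ⟨PerfectField.separable_iff_squarefree.mpr (squarefree_minpoly σ x hpos hx hint), ?_⟩
  intro z hz
  by_contra him
  exact no_nonreal_root σ x hpos hx hint z hz him

end Groth.Agent.Lib.TotReal
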