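import Mathlib
import Groth.Agent.Lib.TotReal_helper1

set_option autoImplicit false
universe u

namespace Groth.Agent.Lib.TotReal

open Polynomial

section
variable {R : Type u} [Ring R] [Algebra ℚ R] [StarRing R] [StarModule ℚ R]
  (σ : R →ₗ[ℚ] ℚ) (x : R)

/-- shifted Hankel bilinear form -/
def Q1 {K : Type*} [CommRing K] [Algebra ℚ K] {N : ℕ} (v w : Fin N → K) : K :=
  ∑ i, ∑ j, v i * w j * algebraMap ℚ K (h σ x ((i : ℕ) + (j : ℕ) + 1))

omit [StarRing R] [StarModule ℚ R] in
lemma sigma_aeval_mul1 {N : ℕ} (v w : Fin N → ℚ) :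
    σ (aeval x (P v) * x * aeval x (P w)) = Q1 σ x v w := by
  rw [aeval_P, aeval_P, Finset.sum_mul, Finset.sum_mul_sum, map_sum]
  unfold Q1
  refine Finset.sum_congr rfl fun i _ => ?_
  rw [map_sum]
  refine Finset.sum_congr rfl fun j _ => ?_
  have e : (i:ℕ) + 1 + (j:ℕ) = (i:ℕ) + (j:ℕ) + 1 := by ring
  rw [smul_mul_assoc, ← pow_succ, smul_mul_smul_comm, ← pow_add, map_smul, smul_eq_mul, e]
  simp only [eq_ratCast, Rat.cast_id, h]

variable (hpos : ∀ y : R, y ≠ 0 → 0 < σ (y * star y))

include hpos in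
lemma Q1_self_nonneg (s : R) {N : ℕ} (v : Fin N → ℚ) : 0 ≤ Q1 σ (s * star s) v v := by
  rw [← sigma_aeval_mul1]
  have hx : star (s * star s) = s * star s := by rw [star_mul, star_star]
  have ha : star (aeval (s * star s) (P v)) = aeval (s * star s) (P v) := star_aeval _ hx _
  have : aeval (s * star s) (P v) * (s * star s) * aeval (s * star s) (P v) =
      (aeval (s * star s) (P v) * s) * star (aeval (s * star s) (P v) * s) := by
    rw [star_mul, ha]; simp only [mul_assoc]
  rw [this]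
  by_cases h0 : aeval (s * star s) (P v) * s = 0
  · rw [h0]; simp
  · exact (hpos _ h0).le

include hpos in
lemma Q1_real_nonneg (s : R) {N : ℕ} (v : Fin N → ℝ) : 0 ≤ Q1 σ (s * star s) v v := by
  have hdense : DenseRange (Pi.map (fun (_ : Fin N) => ((↑) : ℚ → ℝ))) :=
    DenseRange.piMap (fun _ => Rat.denseRange_cast)
  refine hdense.induction_on v ?_ ?_
  · apply isClosed_le continuous_const
    unfold Q1
    fun_prop
  · intro w
    have := Q1_self_nonneg σ hpos s w
    have hcast : Q1 σ (s * star s) (Pi.map (fun _ => ((↑) : ℚ → ℝ)) w)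
        (Pi.map (fun _ => ((↑) : ℚ → ℝ)) w) = ((Q1 σ (s * star s) w w : ℚ) : ℝ) := by
      simp only [Q1, Pi.map_apply, eq_ratCast, Rat.cast_id, Rat.cast_sum, Rat.cast_mul]
    rw [hcast]; exact_mod_cast this

omit [StarRing R] [StarModule ℚ R] in
lemma Λ_X_mul_P {N : ℕ} (v w : Fin N → ℝ) : Λ σ x (X * (P v * P w)) = Q1 σ x v w := by
  unfold P Q1
  rw [Finset.sum_mul_sum, Finset.mul_sum, map_sum]
  refine Finset.sum_congr rfl fun i _ => ?_
  rw [Finset.mul_sum, map_sum]
  refine Finset.sum_congr rfl fun j _ => ?_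
  have : X * (C (v i) * X ^ (i:ℕ) * (C (w j) * X ^ (j:ℕ))) =
      C (v i * w j) * X ^ ((i:ℕ) + (j:ℕ) + 1) := by rw [map_mul, pow_succ, pow_add]; ring
  rw [this, Λ_C_mul_X_pow]

include hpos in
lemma Λ_X_sq_nonneg (s : R) (f : ℝ[X]) : 0 ≤ Λ σ (s * star s) (X * (f * f)) := by
  have hf := eq_P f (Nat.lt_succ_self f.natDegree)
  have : Λ σ (s * star s) (X * (f * f)) =
      Q1 σ (s * star s) (fun i : Fin (f.natDegree + 1) => f.coeff i)
      (fun i : Fin (f.natDegree + 1) => f.coeff i) := by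
    rw [← Λ_X_mul_P, ← hf]
  rw [this]
  exact Q1_real_nonneg σ hpos s _

include hpos in
lemma Λ_pd (hx : star x = x) (hint : IsIntegral ℚ x) (f : ℝ[X])
    (hdeg : f.natDegree < (minpoly ℚ x).natDegree)
    (h0 : Λ σ x (f * f) = 0) : f = 0 := by
  have hcg : ∀ g, Λ σ x (f * g) = 0 := fun g => Λ_mul_eq_zero σ x hpos hx f g h0
  have hcP := eq_P f hdeg
  have hv : (fun i : Fin (minpoly ℚ x).natDegree => f.coeff i) = 0 := by
    apply real_nondeg σ x hpos hx hint
    intro k
    rw [← hcP]; exact hcg _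
  rw [hcP, hv]; simp [P]

include hpos in
lemma root_nonneg (s : R) (hint : IsIntegral ℚ (s * star s)) (z : ℂ)
    (hz : aeval z (minpoly ℚ (s * star s)) = 0) : z.im = 0 ∧ 0 ≤ z.re := by
  have hx : star (s * star s) = s * star s := by rw [star_mul, star_star]
  have him : z.im = 0 := by
    by_contra hne; exact no_nonreal_root σ _ hpos hx hint z hz hne
  refine ⟨him, ?_⟩
  by_contra hneg
  push_neg at hneg
  have hmon : ((minpoly ℚ (s * star s)).map (algebraMap ℚ ℝ)).Monic :=
    (minpoly.monic hint).map _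
  have hzeq : z = algebraMap ℝ ℂ z.re := by
    apply Complex.ext <;> simp [him]
  have hroot : ((minpoly ℚ (s * star s)).map (algebraMap ℚ ℝ)).IsRoot z.re := by
    have h1 : aeval z ((minpoly ℚ (s * star s)).map (algebraMap ℚ ℝ)) = 0 := by
      rw [aeval_map_algebraMap]; exact hz
    rw [hzeq, aeval_algebraMap_apply_eq_algebraMap_eval] at h1
    exact (algebraMap ℝ ℂ).injective (h1.trans (map_zero _).symm)
  obtain ⟨qt, hqt⟩ := dvd_iff_isRoot.mpr hroot
  have hqt0 : qt ≠ 0 := by
    intro h0; rw [h0, mul_zero] at hqt; exact hmon.ne_zero hqt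
  have hndeg : ((minpoly ℚ (s * star s)).map (algebraMap ℚ ℝ)).natDegree =
      (minpoly ℚ (s * star s)).natDegree :=
    natDegree_map_eq_of_injective (algebraMap ℚ ℝ).injective _
  have hqtdeg : qt.natDegree + 1 = (minpoly ℚ (s * star s)).natDegree := by
    rw [← hndeg, hqt, natDegree_mul (X_sub_C_ne_zero _) hqt0, natDegree_X_sub_C]; ring
  have h1 := Λ_X_sq_nonneg σ hpos s qt
  have h2 : X * (qt * qt) = (minpoly ℚ (s * star s)).map (algebraMap ℚ ℝ) * qt +
      C z.re * (qt * qt) := by rw [hqt]; ring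
  rw [h2, map_add, Λ_minpoly_mul, zero_add, Λ_C_mul] at h1
  have h3 := Λ_sq_nonneg σ _ hpos hx qt
  have h4 : Λ σ (s * star s) (qt * qt) ≠ 0 := by
    intro h0
    exact hqt0 (Λ_pd σ _ hpos hx hint qt (by omega) h0)
  have h5 : 0 < Λ σ (s * star s) (qt * qt) := lt_of_le_of_ne h3 (Ne.symm h4)
  have h6 := mul_neg_of_neg_of_pos hneg h5
  linarith

end

theorem main2 (R : Type u) [Ring R] [Algebra ℚ R]
    [Module.Finite ℚ R] [StarRing R] [StarModule ℚ R]
    (σ : R →ₗ[ℚ] ℚ) (hpos : ∀ x : R, x ≠ 0 → 0 < σ (x * star x))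
    (α : R) (q : ℚ) (hα : α * star α = algebraMap ℚ R q) :
    ∃ hmem : star α ∈ Algebra.adjoin ℚ ({α} : Set R),
      ∀ ρ : Algebra.adjoin ℚ ({α} : Set R) →ₐ[ℚ] ℂ,
        ρ ⟨star α, hmem⟩ = starRingEnd ℂ (ρ ⟨α, Algebra.self_mem_adjoin_singleton ℚ α⟩) ∧
          ‖ρ ⟨α, Algebra.self_mem_adjoin_singleton ℚ α⟩‖ ^ 2 = (q : ℝ) := by
  have hmem : star α ∈ Algebra.adjoin ℚ ({α} : Set R) := by
    by_cases h0 : α = 0
    · subst h0; simp
    · have hq : q ≠ 0 := by
        intro hq0
        have := hpos α h0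
        rw [hα, hq0, map_zero, map_zero] at this
        exact lt_irrefl _ this
      let L : R →ₗ[ℚ] R := LinearMap.mulLeft ℚ α
      have hLsurj : Function.Surjective L := fun y => ⟨(q⁻¹ • star α) * y, by
        show α * ((q⁻¹ • star α) * y) = y
        rw [← mul_assoc, mul_smul_comm, hα, Algebra.algebraMap_eq_smul_one, smul_smul,
          inv_mul_cancel₀ hq, one_smul, one_mul]⟩
      have hLinj : Function.Injective L := LinearMap.injective_iff_surjective.mpr hLsurj
      let LS : Algebra.adjoin ℚ ({α} : Set R) →ₗ[ℚ] Algebra.adjoin ℚ ({α} : Set R) :=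
        LinearMap.mulLeft ℚ (⟨α, Algebra.self_mem_adjoin_singleton ℚ α⟩ :
          Algebra.adjoin ℚ ({α} : Set R))
      have hLSinj : Function.Injective LS := by
        intro a b hab
        apply Subtype.ext
        apply hLinj
        have := congrArg Subtype.val hab
        simpa [LS, L] using this
      have hLSsurj : Function.Surjective LS := LinearMap.injective_iff_surjective.mp hLSinj
      obtain ⟨s, hs⟩ := hLSsurj 1
      have hs' : α * (s : R) = 1 := by
        have := congrArg Subtype.val hs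
        simpa [LS] using this
      have hseq : (s : R) = q⁻¹ • star α := by
        apply hLinj
        show α * (s:R) = α * (q⁻¹ • star α)
        rw [hs', mul_smul_comm, hα, Algebra.algebraMap_eq_smul_one, smul_smul,
          inv_mul_cancel₀ hq, one_smul]
      have h2 : star α = q • (s : R) := by
        rw [hseq, smul_smul, mul_inv_cancel₀ hq, one_smul]
      rw [h2]
      exact Subalgebra.smul_mem _ s.2 q
  refine ⟨hmem, fun ρ => ?_⟩
  -- notation
  obtain ⟨a, ha⟩ : ∃ a : Algebra.adjoin ℚ ({α} : Set R),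
      a = ⟨α, Algebra.self_mem_adjoin_singleton ℚ α⟩ := ⟨_, rfl⟩
  obtain ⟨a', ha'⟩ : ∃ a' : Algebra.adjoin ℚ ({α} : Set R), a' = ⟨star α, hmem⟩ := ⟨_, rfl⟩
  rw [← ha, ← ha']
  have hav : (a : R) = α := by rw [ha]
  have hav' : (a' : R) = star α := by rw [ha']
  have hmul : a * a' = algebraMap ℚ _ q := by
    apply Subtype.ext
    simp only [Subalgebra.coe_mul, hav, hav', Subalgebra.coe_algebraMap, hα]
  have hww : ρ a * ρ a' = (q : ℂ) := by
    rw [← map_mul, hmul, AlgHom.commutes]; simp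
  -- roots transfer
  have htransfer : ∀ (b : Algebra.adjoin ℚ ({α} : Set R)),
      aeval (ρ b) (minpoly ℚ (b : R)) = 0 := by
    intro b
    rw [aeval_algHom_apply ρ b]
    have : aeval b (minpoly ℚ (b : R)) = 0 := by
      apply Subtype.val_injective
      have := aeval_algHom_apply (Algebra.adjoin ℚ ({α} : Set R)).val b (minpoly ℚ (b : R))
      simp only [Subalgebra.coe_val] at this
      rw [← this, minpoly.aeval]; rfl
    rw [this, map_zero]
  -- symmetric element a + a'
  have hsym : star (α + star α) = α + star α := by rw [star_add, star_star, add_comm]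
  have hu : (ρ a + ρ a').im = 0 := by
    by_contra hne
    have hroot := htransfer (a + a')
    rw [map_add] at hroot
    have hval : ((a + a' : Algebra.adjoin ℚ ({α} : Set R)) : R) = α + star α := by
      rw [Subalgebra.coe_add, hav, hav']
    rw [hval] at hroot
    exact no_nonreal_root σ _ hpos hsym (Algebra.IsIntegral.isIntegral _) _ hroot hne
  -- s = α - star α, s * star s
  have hd : ((-(ρ a - ρ a') ^ 2)).im = 0 ∧ 0 ≤ ((-(ρ a - ρ a') ^ 2)).re := by
    have hroot := htransfer ((a - a') * (a' - a))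
    have hval : (((a - a') * (a' - a) : Algebra.adjoin ℚ ({α} : Set R)) : R) =
        (α - star α) * star (α - star α) := by
      rw [Subalgebra.coe_mul, Subalgebra.coe_sub, Subalgebra.coe_sub, hav, hav', star_sub,
        star_star]
    rw [hval] at hroot
    have hρ : ρ ((a - a') * (a' - a)) = -(ρ a - ρ a') ^ 2 := by
      rw [map_mul, map_sub, map_sub]; ring
    rw [hρ] at hroot
    exact root_nonneg σ hpos _ (Algebra.IsIntegral.isIntegral _) _ hroot
  obtain ⟨hd1, hd2⟩ := hd
  have hre : (ρ a').re = (ρ a).re ∧ (ρ a').im = -(ρ a).im := by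
    have h1 : (ρ a).im + (ρ a').im = 0 := by simpa using hu
    simp only [sq, Complex.neg_im, Complex.neg_re, Complex.mul_re, Complex.mul_im,
      Complex.sub_re, Complex.sub_im] at hd1 hd2
    have hb : (ρ a').im = -(ρ a).im := by linarith
    refine ⟨?_, hb⟩
    by_contra hne
    have hne' : (ρ a).re - (ρ a').re ≠ 0 := fun h => hne (by linarith)
    have h2 : ((ρ a).re - (ρ a').re) * ((ρ a).im - (ρ a').im) = 0 := by linarith
    have h3 : (ρ a).im - (ρ a').im = 0 := (mul_eq_zero.mp h2).resolve_left hne'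
    rw [h3] at hd2
    have h4 : ((ρ a).re - (ρ a').re) ^ 2 ≤ 0 := by nlinarith
    have h5 : (ρ a).re - (ρ a').re = 0 := by nlinarith [sq_nonneg ((ρ a).re - (ρ a').re)]
    exact hne' h5
  obtain ⟨hr1, hr2⟩ := hre
  refine ⟨?_, ?_⟩
  · apply Complex.ext
    · rw [Complex.conj_re, hr1]
    · rw [Complex.conj_im, hr2]
  · rw [Complex.sq_norm, Complex.normSq_apply]
    have := congrArg Complex.re hww
    rw [Complex.mul_re, hr1, hr2, Complex.ratCast_re] at this
    linarith

end Groth.Agent.Lib.TotReal
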