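import Mathlib

/-!
# An additive functor preserving the relevant coproducts commutes with total complexes (helper2)
-/

set_option autoImplicit false
open CategoryTheory Limits

namespace Groth.Agent.Lib.TotalMap

variable {C D : Type*} [Category C] [Category D] [Preadditive C] [Preadditive D]
  {I₁ I₂ I₁₂ : Type*} {c₁ : ComplexShape I₁} {c₂ : ComplexShape I₂}
  (K : HomologicalComplex₂ C c₁ c₂) (c₁₂ : ComplexShape I₁₂) [DecidableEq I₁₂]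
  [TotalComplexShape c₁ c₂ c₁₂]
  (G : C ⥤ D) [G.Additive]

/-- the bicomplex `G(K)` -/
abbrev mapBi : HomologicalComplex₂ D c₁ c₂ :=
  ((G.mapHomologicalComplex c₂).mapHomologicalComplex c₁).obj K

variable [K.HasTotal c₁₂] [(mapBi K G).HasTotal c₁₂]

/-- the comparison `Tot(G K)^n ⟶ G(Tot K^n)` -/
noncomputable def ψ (n : I₁₂) :
    ((mapBi K G).total c₁₂).X n ⟶ G.obj ((K.total c₁₂).X n) :=
  (mapBi K G).totalDesc (fun i₁ i₂ h => G.map (K.ιTotal c₁₂ i₁ i₂ n h))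

@[reassoc (attr := simp)]
lemma ι_ψ (i₁ : I₁) (i₂ : I₂) (n : I₁₂) (h : ComplexShape.π c₁ c₂ c₁₂ (i₁, i₂) = n) :
    (mapBi K G).ιTotal c₁₂ i₁ i₂ n h ≫ ψ K c₁₂ G n = G.map (K.ιTotal c₁₂ i₁ i₂ n h) := by
  simp [ψ]

@[reassoc]
lemma ιOrZero_ψ (i₁ : I₁) (i₂ : I₂) (n : I₁₂) :
    (mapBi K G).ιTotalOrZero c₁₂ i₁ i₂ n ≫ ψ K c₁₂ G n = G.map (K.ιTotalOrZero c₁₂ i₁ i₂ n) := by
  by_cases h : ComplexShape.π c₁ c₂ c₁₂ (i₁, i₂) = n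
  · rw [HomologicalComplex₂.ιTotalOrZero_eq _ _ _ _ _ h,
      HomologicalComplex₂.ιTotalOrZero_eq _ _ _ _ _ h, ι_ψ]
  · rw [HomologicalComplex₂.ιTotalOrZero_eq_zero _ _ _ _ _ h,
      HomologicalComplex₂.ιTotalOrZero_eq_zero _ _ _ _ _ h, zero_comp]
    exact (G.map_zero _ _).symm

lemma d₁_ψ (i₁ : I₁) (i₂ : I₂) (n : I₁₂) :
    (mapBi K G).d₁ c₁₂ i₁ i₂ n ≫ ψ K c₁₂ G n = G.map (K.d₁ c₁₂ i₁ i₂ n) := by
  have key : ∀ ε : ℤˣ, (ε • (((mapBi K G).d i₁ (c₁.next i₁)).f i₂ ≫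
      (mapBi K G).ιTotalOrZero c₁₂ (c₁.next i₁) i₂ n)) ≫ ψ K c₁₂ G n =
      G.map (ε • ((K.d i₁ (c₁.next i₁)).f i₂ ≫ K.ιTotalOrZero c₁₂ (c₁.next i₁) i₂ n)) := by
    intro ε
    have h0 : (((mapBi K G).d i₁ (c₁.next i₁)).f i₂ ≫
        (mapBi K G).ιTotalOrZero c₁₂ (c₁.next i₁) i₂ n) ≫ ψ K c₁₂ G n =
        G.map ((K.d i₁ (c₁.next i₁)).f i₂ ≫ K.ιTotalOrZero c₁₂ (c₁.next i₁) i₂ n) := by
      rw [Category.assoc, ιOrZero_ψ, G.map_comp]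
      rfl
    rcases Int.units_eq_one_or ε with rfl | rfl
    · rw [one_smul, one_smul]
      exact h0
    · rw [Units.neg_smul, one_smul, Units.neg_smul, one_smul, Preadditive.neg_comp, G.map_neg]
      exact congrArg (fun t => -t) h0
  exact key _

lemma d₂_ψ (i₁ : I₁) (i₂ : I₂) (n : I₁₂) :
    (mapBi K G).d₂ c₁₂ i₁ i₂ n ≫ ψ K c₁₂ G n = G.map (K.d₂ c₁₂ i₁ i₂ n) := by
  have key : ∀ ε : ℤˣ, (ε • (((mapBi K G).X i₁).d i₂ (c₂.next i₂) ≫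
      (mapBi K G).ιTotalOrZero c₁₂ i₁ (c₂.next i₂) n)) ≫ ψ K c₁₂ G n =
      G.map (ε • ((K.X i₁).d i₂ (c₂.next i₂) ≫ K.ιTotalOrZero c₁₂ i₁ (c₂.next i₂) n)) := by
    intro ε
    have h0 : (((mapBi K G).X i₁).d i₂ (c₂.next i₂) ≫
        (mapBi K G).ιTotalOrZero c₁₂ i₁ (c₂.next i₂) n) ≫ ψ K c₁₂ G n =
        G.map ((K.X i₁).d i₂ (c₂.next i₂) ≫ K.ιTotalOrZero c₁₂ i₁ (c₂.next i₂) n) := by
      rw [Category.assoc, ιOrZero_ψ, G.map_comp]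
      rfl
    rcases Int.units_eq_one_or ε with rfl | rfl
    · rw [one_smul, one_smul]
      exact h0
    · rw [Units.neg_smul, one_smul, Units.neg_smul, one_smul, Preadditive.neg_comp, G.map_neg]
      exact congrArg (fun t => -t) h0
  exact key _

/-- the comparison `Tot(G K) ⟶ G(Tot K)` -/
noncomputable def ψHom :
    (mapBi K G).total c₁₂ ⟶ (G.mapHomologicalComplex c₁₂).obj (K.total c₁₂) where
  f n := ψ K c₁₂ G n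
  comm' n n' _ := by
    apply HomologicalComplex₂.total.hom_ext
    intro i₁ i₂ h
    have hK : K.ιTotal c₁₂ i₁ i₂ n h ≫ (K.total c₁₂).d n n' =
        K.d₁ c₁₂ i₁ i₂ n' + K.d₂ c₁₂ i₁ i₂ n' := by
      show _ ≫ (K.D₁ c₁₂ n n' + K.D₂ c₁₂ n n') = _
      rw [Preadditive.comp_add, HomologicalComplex₂.ι_D₁, HomologicalComplex₂.ι_D₂]
    have hGK : (mapBi K G).ιTotal c₁₂ i₁ i₂ n h ≫ ((mapBi K G).total c₁₂).d n n' =
        (mapBi K G).d₁ c₁₂ i₁ i₂ n' + (mapBi K G).d₂ c₁₂ i₁ i₂ n' := by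
      show _ ≫ ((mapBi K G).D₁ c₁₂ n n' + (mapBi K G).D₂ c₁₂ n n') = _
      rw [Preadditive.comp_add, HomologicalComplex₂.ι_D₁, HomologicalComplex₂.ι_D₂]
    have lhs : (mapBi K G).ιTotal c₁₂ i₁ i₂ n h ≫ ψ K c₁₂ G n ≫
        G.map ((K.total c₁₂).d n n') = G.map (K.d₁ c₁₂ i₁ i₂ n' + K.d₂ c₁₂ i₁ i₂ n') :=
      (ι_ψ_assoc K c₁₂ G i₁ i₂ n h _).trans ((G.map_comp _ _).symm.trans (congrArg G.map hK))
    have rhs0 : ((mapBi K G).d₁ c₁₂ i₁ i₂ n' + (mapBi K G).d₂ c₁₂ i₁ i₂ n') ≫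
        ψ K c₁₂ G n' = G.map (K.d₁ c₁₂ i₁ i₂ n' + K.d₂ c₁₂ i₁ i₂ n') :=
      (Preadditive.add_comp _ _ _ _ _ _).trans
        ((congrArg₂ (· + ·) (d₁_ψ K c₁₂ G i₁ i₂ n') (d₂_ψ K c₁₂ G i₁ i₂ n')).trans
          (G.map_add).symm)
    have rhs : (mapBi K G).ιTotal c₁₂ i₁ i₂ n h ≫ ((mapBi K G).total c₁₂).d n n' ≫
        ψ K c₁₂ G n' = G.map (K.d₁ c₁₂ i₁ i₂ n' + K.d₂ c₁₂ i₁ i₂ n') :=
      (Category.assoc _ _ _).symm.trans ((congrArg (· ≫ ψ K c₁₂ G n') hGK).trans rhs0)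
    exact lhs.trans rhs.symm

variable [∀ n, PreservesColimit
  (Discrete.functor (K.toGradedObject.mapObjFun (ComplexShape.π c₁ c₂ c₁₂) n)) G]

/-- the inverse of `ψ` -/
noncomputable def φ (n : I₁₂) :
    G.obj ((K.total c₁₂).X n) ⟶ ((mapBi K G).total c₁₂).X n :=
  (isColimitOfPreserves G (K.toGradedObject.isColimitCofanMapObj
    (ComplexShape.π c₁ c₂ c₁₂) n)).desc
    { pt := ((mapBi K G).total c₁₂).X n
      ι := Discrete.natTrans (fun ⟨i⟩ => (mapBi K G).ιTotal c₁₂ i.1.1 i.1.2 n i.2) }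

lemma map_ι_φ (i₁ : I₁) (i₂ : I₂) (n : I₁₂) (h : ComplexShape.π c₁ c₂ c₁₂ (i₁, i₂) = n) :
    G.map (K.ιTotal c₁₂ i₁ i₂ n h) ≫ φ K c₁₂ G n = (mapBi K G).ιTotal c₁₂ i₁ i₂ n h :=
  (isColimitOfPreserves G (K.toGradedObject.isColimitCofanMapObj
    (ComplexShape.π c₁ c₂ c₁₂) n)).fac _ ⟨⟨(i₁, i₂), h⟩⟩

instance isIso_ψ (n : I₁₂) : IsIso (ψ K c₁₂ G n) := by
  refine ⟨φ K c₁₂ G n, ?_, ?_⟩
  · apply HomologicalComplex₂.total.hom_ext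
    intro i₁ i₂ h
    exact (ι_ψ_assoc K c₁₂ G i₁ i₂ n h _).trans
      ((map_ι_φ K c₁₂ G i₁ i₂ n h).trans (Category.comp_id _).symm)
  · apply (isColimitOfPreserves G (K.toGradedObject.isColimitCofanMapObj
      (ComplexShape.π c₁ c₂ c₁₂) n)).hom_ext
    rintro ⟨⟨⟨i₁, i₂⟩, h⟩⟩
    show G.map (K.ιTotal c₁₂ i₁ i₂ n h) ≫ φ K c₁₂ G n ≫ ψ K c₁₂ G n =
      G.map (K.ιTotal c₁₂ i₁ i₂ n h) ≫ 𝟙 _
    exact (Category.assoc _ _ _).symm.trans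
      ((congrArg (· ≫ ψ K c₁₂ G n) (map_ι_φ K c₁₂ G i₁ i₂ n h)).trans
        ((ι_ψ K c₁₂ G i₁ i₂ n h).trans (Category.comp_id _).symm))

instance isIso_ψHom : IsIso (ψHom K c₁₂ G) := by
  haveI : ∀ n, IsIso ((ψHom K c₁₂ G).f n) := fun n => isIso_ψ K c₁₂ G n
  exact HomologicalComplex.Hom.isIso_of_components _

/-- **`G(Tot K) ≅ Tot(G K)`** -/
noncomputable def totalIso :
    (G.mapHomologicalComplex c₁₂).obj (K.total c₁₂) ≅ (mapBi K G).total c₁₂ :=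
  (asIso (ψHom K c₁₂ G)).symm

end Groth.Agent.Lib.TotalMap
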