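import Mathlib

/-!
# Higher derived limits of towers of abelian groups vanish

`R^i lim = 0` for `i ≥ 2` on `ℕᵒᵖ ⥤ AddCommGrpCat`.
-/

set_option autoImplicit false
universe u
open CategoryTheory CategoryTheory.Limits Opposite

namespace Groth.Agent.Lib.TowerLim

/-- The transition morphism `n+1 ⟶ n` in `ℕᵒᵖ`. -/
abbrev tr (n : ℕ) : (op (n + 1) : ℕᵒᵖ) ⟶ op n := (homOfLE (Nat.le_succ n)).op

theorem hom_eq {a b : ℕᵒᵖ} (f g : a ⟶ b) : f = g :=
  Quiver.Hom.unop_inj (Subsingleton.elim _ _)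

/-- Existence of an element of the limit from a family compatible with successive transitions. -/
theorem exists_limit_elt (F : ℕᵒᵖ ⥤ AddCommGrpCat.{u}) (y : ∀ n : ℕ, F.obj (op n))
    (hy : ∀ n, F.map (tr n) (y (n + 1)) = y n) :
    ∃ e : (limit F : AddCommGrpCat.{u}), ∀ n, limit.π F (op n) e = y n := by
  have hall : ∀ (m n : ℕ) (h : m ≤ n), F.map (homOfLE h).op (y n) = y m := by
    intro m n h
    induction n, h using Nat.le_induction with
    | base =>
      have : (homOfLE (le_refl m)).op = 𝟙 (op m : ℕᵒᵖ) := hom_eq _ _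
      rw [this, F.map_id]; rfl
    | succ n h ih =>
      have : (homOfLE (h.trans (Nat.le_succ n))).op = tr n ≫ (homOfLE h).op := hom_eq _ _
      rw [this, F.map_comp, ConcreteCategory.comp_apply, hy, ih]
  let E := (forget AddCommGrpCat.{u}).mapCone (limit.cone F)
  have hE : IsLimit E := isLimitOfPreserves _ (limit.isLimit F)
  let s : (F ⋙ forget AddCommGrpCat.{u}).sections := ⟨fun j => y j.unop, by
    intro a b f
    have h : b.unop ≤ a.unop := leOfHom f.unop
    have : f = (homOfLE h).op := hom_eq _ _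
    subst this
    exact hall _ _ h⟩
  refine ⟨(Types.isLimitEquivSections hE).symm s, fun n => ?_⟩
  exact Types.isLimitEquivSections_symm_apply hE s (op n)

section Free

/-- The tower freely generated by an element in degree `n`. -/
noncomputable def T (n : ℕ) : ℕᵒᵖ ⥤ AddCommGrpCat.{u} where
  obj m := AddCommGrpCat.of (FreeAbelianGroup (ULift.{u} (PLift (m.unop ≤ n))))
  map {m m'} g := AddCommGrpCat.ofHom (FreeAbelianGroup.map
    (fun a => ULift.up (PLift.up ((leOfHom g.unop).trans a.down.down))))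
  map_id m := by
    have : (fun a : ULift.{u} (PLift (m.unop ≤ n)) =>
        ULift.up (PLift.up ((leOfHom (𝟙 m : m ⟶ m).unop).trans a.down.down))) = id := by
      funext ⟨⟨_⟩⟩; rfl
    rw [this, FreeAbelianGroup.map_id]; rfl
  map_comp {a b c} f g := by
    rw [← AddCommGrpCat.ofHom_comp, ← FreeAbelianGroup.map_comp]

/-- The generator of `T n` in degree `n`. -/
noncomputable def gen (n : ℕ) : (T.{u} n).obj (op n) :=
  (FreeAbelianGroup.of (ULift.up (PLift.up (le_refl n))) :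
    FreeAbelianGroup (ULift.{u} (PLift (n ≤ n))))

/-- The inclusion `T n ⟶ T (n+1)`. -/
noncomputable def Tι (n : ℕ) : T.{u} n ⟶ T.{u} (n + 1) where
  app m := AddCommGrpCat.ofHom (FreeAbelianGroup.map
    (fun a => ULift.up (PLift.up (a.down.down.trans (Nat.le_succ n)))))
  naturality {a b} f := by
    dsimp [T]
    rw [← AddCommGrpCat.ofHom_comp, ← AddCommGrpCat.ofHom_comp, ← FreeAbelianGroup.map_comp,
      ← FreeAbelianGroup.map_comp]

instance (n : ℕ) : Mono (Tι.{u} n) := by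
  haveI : ∀ m, Mono ((Tι.{u} n).app m) := by
    intro m
    let j : ULift.{u} (PLift (m.unop ≤ n)) → ULift.{u} (PLift (m.unop ≤ n + 1)) :=
      fun a => ULift.up (PLift.up (a.down.down.trans (Nat.le_succ n)))
    have hj : Function.Injective j := by
      rintro ⟨⟨_⟩⟩ ⟨⟨_⟩⟩ _; rfl
    haveI : Mono (TypeCat.ofHom j) := (mono_iff_injective _).2 hj
    exact inferInstanceAs (Mono (AddCommGrpCat.free.map (TypeCat.ofHom j)))
  exact NatTrans.mono_of_mono_app _

variable (I : ℕᵒᵖ ⥤ AddCommGrpCat.{u})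

/-- The morphism `T n ⟶ I` classified by `x ∈ I_n`. -/
noncomputable def φ {n : ℕ} (x : I.obj (op n)) : T.{u} n ⟶ I where
  app m := AddCommGrpCat.ofHom (FreeAbelianGroup.lift
    (fun a : ULift.{u} (PLift (m.unop ≤ n)) =>
      (I.map ((homOfLE a.down.down).op : op n ⟶ op m.unop) x : I.obj (op m.unop))))
  naturality {a b} f := by
    dsimp [T]
    apply AddCommGrpCat.hom_ext
    apply FreeAbelianGroup.lift_ext
    rintro ⟨⟨h⟩⟩
    simp only [AddCommGrpCat.hom_comp, AddCommGrpCat.hom_ofHom, AddMonoidHom.coe_comp,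
      Function.comp_apply, FreeAbelianGroup.map_of_apply, FreeAbelianGroup.lift_apply_of]
    rw [← ConcreteCategory.comp_apply, ← I.map_comp]
    congr 2

theorem φ_gen {n : ℕ} (x : I.obj (op n)) : (φ I x).app (op n) (gen n) = x := by
  dsimp [φ, gen]
  erw [FreeAbelianGroup.lift_apply_of]
  rw [I.map_id]; rfl

theorem surjective_of_injective [Injective I] (n : ℕ) :
    Function.Surjective (I.map (tr n)) := by
  intro x
  let ψ := Injective.factorThru (φ I x) (Tι n)
  have h : Tι n ≫ ψ = φ I x := Injective.comp_factorThru _ _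
  refine ⟨ψ.app (op (n + 1)) (gen (n + 1)), ?_⟩
  have h1 : I.map (tr n) (ψ.app (op (n + 1)) (gen (n + 1))) =
      ψ.app (op n) ((T (n + 1)).map (tr n) (gen (n + 1))) := by
    rw [← ConcreteCategory.comp_apply, ← ψ.naturality, ConcreteCategory.comp_apply]
  have h2 : (T.{u} (n + 1)).map (tr n) (gen (n + 1)) = (Tι n).app (op n) (gen n) := by
    dsimp [T, Tι, gen]
    rfl
  rw [h1, h2, ← ConcreteCategory.comp_apply, ← NatTrans.comp_app, h, φ_gen]

end Free

section Main

variable [EnoughInjectives (ℕᵒᵖ ⥤ AddCommGrpCat.{u})]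
  [(lim : (ℕᵒᵖ ⥤ AddCommGrpCat.{u}) ⥤ AddCommGrpCat.{u}).Additive]

omit [EnoughInjectives (ℕᵒᵖ ⥤ AddCommGrpCat.{u})]
  [(lim : (ℕᵒᵖ ⥤ AddCommGrpCat.{u}) ⥤ AddCommGrpCat.{u}).Additive] in
/-- pointwise exactness of an exact sequence of towers -/
theorem pointwise_exact {X₁ X₂ X₃ : ℕᵒᵖ ⥤ AddCommGrpCat.{u}} (f : X₁ ⟶ X₂) (g : X₂ ⟶ X₃)
    (w : f ≫ g = 0) (h : (ShortComplex.mk f g w).Exact) (n : ℕ) (z : X₂.obj (op n))
    (hz : g.app (op n) z = 0) : ∃ y : X₁.obj (op n), f.app (op n) y = z := by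
  have h' := h.map ((evaluation ℕᵒᵖ AddCommGrpCat.{u}).obj (op n))
  rw [ShortComplex.ab_exact_iff] at h'
  exact h' z hz

theorem main (A : ℕᵒᵖ ⥤ AddCommGrpCat.{u}) (i : ℕ) (hi : 2 ≤ i) :
    IsZero (((lim : (ℕᵒᵖ ⥤ AddCommGrpCat.{u}) ⥤ AddCommGrpCat.{u}).rightDerived i).obj A) := by
  obtain ⟨j, rfl⟩ : ∃ j, i = j + 2 := ⟨i - 2, by omega⟩
  let I : InjectiveResolution A := injectiveResolution A
  refine IsZero.of_iso ?_ (I.isoRightDerivedObj lim (j + 2))
  change IsZero ((((lim : (ℕᵒᵖ ⥤ AddCommGrpCat.{u}) ⥤ AddCommGrpCat.{u}).mapHomologicalComplex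
    _).obj I.cocomplex).homology (j + 2))
  rw [← HomologicalComplex.exactAt_iff_isZero_homology,
    HomologicalComplex.exactAt_iff' _ (j + 1) (j + 2) (j + 3) (by simp)
      (by simp only [CochainComplex.next]; rfl),
    ShortComplex.ab_exact_iff]
  intro x hx
  let K := I.cocomplex
  change (limit (K.X (j + 2)) : AddCommGrpCat.{u}) at x
  replace hx : limMap (K.d (j + 2) (j + 3)) x = 0 := hx
  change ∃ e : (limit (K.X (j + 1)) : AddCommGrpCat.{u}), limMap (K.d (j + 1) (j + 2)) e = x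
  let xn : ∀ n : ℕ, (K.X (j + 2)).obj (op n) := fun n => limit.π (K.X (j + 2)) (op n) x
  have hxn : ∀ n, (K.d (j + 2) (j + 3)).app (op n) (xn n) = 0 := by
    intro n
    have := congrArg (limit.π (K.X (j + 3)) (op n)) hx
    rw [← ConcreteCategory.comp_apply, limMap_π, ConcreteCategory.comp_apply, map_zero] at this
    exact this
  have hcompat : ∀ n, (K.X (j + 2)).map (tr n) (xn (n + 1)) = xn n := by
    intro n
    dsimp only [xn]
    rw [← ConcreteCategory.comp_apply, limit.w]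
  have ex2 := fun n z hz => pointwise_exact (K.d (j + 1) (j + 2)) (K.d (j + 2) (j + 3))
    (K.d_comp_d _ _ _) (I.exact_succ (j + 1)) n z hz
  have ex1 := fun n z hz => pointwise_exact (K.d j (j + 1)) (K.d (j + 1) (j + 2))
    (K.d_comp_d _ _ _) (I.exact_succ j) n z hz
  haveI : Injective (K.X j) := I.injective j
  have hsurj := surjective_of_injective (K.X j)
  have base : ∃ y0 : (K.X (j + 1)).obj (op 0), (K.d (j + 1) (j + 2)).app (op 0) y0 = xn 0 :=
    ex2 0 (xn 0) (hxn 0)
  have step : ∀ (n : ℕ) (y : {y : (K.X (j + 1)).obj (op n) //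
      (K.d (j + 1) (j + 2)).app (op n) y = xn n}),
      ∃ y' : {y' : (K.X (j + 1)).obj (op (n + 1)) //
        (K.d (j + 1) (j + 2)).app (op (n + 1)) y' = xn (n + 1)},
        (K.X (j + 1)).map (tr n) y'.1 = y.1 := by
    rintro n ⟨y, hy⟩
    obtain ⟨z, hz⟩ := ex2 (n + 1) (xn (n + 1)) (hxn (n + 1))
    have h1 : (K.d (j + 1) (j + 2)).app (op n) ((K.X (j + 1)).map (tr n) z - y) = 0 := by
      rw [map_sub, hy, ← ConcreteCategory.comp_apply, (K.d (j + 1) (j + 2)).naturality,
        ConcreteCategory.comp_apply, hz, hcompat, sub_self]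
    obtain ⟨w, hw⟩ := ex1 n _ h1
    obtain ⟨w', hw'⟩ := hsurj n w
    refine ⟨⟨z - (K.d j (j + 1)).app (op (n + 1)) w', ?_⟩, ?_⟩
    · rw [map_sub, hz, ← ConcreteCategory.comp_apply, ← NatTrans.comp_app, K.d_comp_d]
      simp
    · change (K.X (j + 1)).map (tr n) (z - (K.d j (j + 1)).app (op (n + 1)) w') = y
      rw [map_sub, ← ConcreteCategory.comp_apply ((K.d j (j + 1)).app (op (n + 1))),
        ← (K.d j (j + 1)).naturality, ConcreteCategory.comp_apply, hw', hw]
      abel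
  let Y : ∀ n : ℕ, {y : (K.X (j + 1)).obj (op n) //
      (K.d (j + 1) (j + 2)).app (op n) y = xn n} := fun n =>
    Nat.rec ⟨base.choose, base.choose_spec⟩ (fun n y => (step n y).choose) n
  have hY : ∀ n, (K.X (j + 1)).map (tr n) (Y (n + 1)).1 = (Y n).1 :=
    fun n => (step n (Y n)).choose_spec
  obtain ⟨e, he⟩ := exists_limit_elt (K.X (j + 1)) (fun n => (Y n).1) hY
  refine ⟨e, ?_⟩
  apply Concrete.limit_ext
  rintro ⟨n⟩
  rw [← ConcreteCategory.comp_apply, limMap_π, ConcreteCategory.comp_apply, he]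
  exact (Y n).2

end Main

end Groth.Agent.Lib.TowerLim
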