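import Mathlib
import Groth.Agent.Lib.LimExact_helper7

/-!
# Inverse limits of towers of finite-length modules commute with `⊗ N`, `N` finitely presented
(helper3)
-/

set_option autoImplicit false
universe u

open CategoryTheory CategoryTheory.Limits Opposite TensorProduct MonoidalCategory

namespace Groth.Agent.Lib.TowerTensor

section Lift

variable {R : Type u} [CommRing R]
variable (Bo : ℕᵒᵖ → Type u) [∀ i, AddCommGroup (Bo i)] [∀ i, Module R (Bo i)]
  (Bt : ∀ {i j : ℕᵒᵖ} (_ : i ⟶ j), Bo i →ₗ[R] Bo j)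
  (Bt_id : ∀ i, Bt (𝟙 i) = LinearMap.id)
  (Bt_comp : ∀ {i j k : ℕᵒᵖ} (f : i ⟶ j) (g : j ⟶ k), Bt (f ≫ g) = Bt g ∘ₗ Bt f)
variable (Co : ℕᵒᵖ → Type u) [∀ i, AddCommGroup (Co i)] [∀ i, Module R (Co i)]
  (Ct : ∀ {i j : ℕᵒᵖ} (_ : i ⟶ j), Co i →ₗ[R] Co j)
  (b : ∀ i, Bo i →ₗ[R] Co i)
  (hb : ∀ {i j : ℕᵒᵖ} (f : i ⟶ j) (x : Bo i), b j (Bt f x) = Ct f (b i x))

/-- The fibre system over a compatible family `y`. -/
def T (y : ∀ i, Co i) (hy : ∀ {i j : ℕᵒᵖ} (f : i ⟶ j), Ct f (y i) = y j) : ℕᵒᵖ ⥤ Type u where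
  obj i := {x : Bo i // b i x = y i}
  map := fun {i j} f => ↾(fun x => ⟨Bt f x.1, by rw [hb, x.2, hy]⟩)
  map_id i := by
    ext x
    show Bt (𝟙 i) x.1 = x.1
    rw [Bt_id]; rfl
  map_comp f g := by
    ext x
    show Bt (f ≫ g) x.1 = Bt g (Bt f x.1)
    rw [Bt_comp]; rfl

include Bt_id Bt_comp hb in
theorem T_ml (hArt : ∀ i, IsArtinian R (Bo i))
    (y : ∀ i, Co i) (hy : ∀ {i j : ℕᵒᵖ} (f : i ⟶ j), Ct f (y i) = y j)
    (hne : ∀ i, Nonempty ((T Bo Bt Bt_id Bt_comp Co Ct b hb y hy).obj i)) :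
    (T Bo Bt Bt_id Bt_comp Co Ct b hb y hy).IsMittagLeffler := by
  intro j
  haveI := hArt j
  obtain ⟨S0, ⟨i0, f0, rfl⟩, hmin⟩ := IsArtinian.set_has_minimal
    {S : Submodule R (Bo j) | ∃ (i : ℕᵒᵖ) (f : i ⟶ j),
      S = Submodule.map (Bt f) (LinearMap.ker (b i))}
    ⟨_, j, 𝟙 j, rfl⟩
  refine ⟨i0, f0, fun k g => ?_⟩
  let l : ℕᵒᵖ := op (max k.unop i0.unop)
  let u : l ⟶ i0 := (homOfLE (le_max_right _ _)).op
  let w : l ⟶ k := (homOfLE (le_max_left _ _)).op
  have hwg : w ≫ g = u ≫ f0 := Subsingleton.elim _ _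
  have hle : Submodule.map (Bt (u ≫ f0)) (LinearMap.ker (b l)) ≤
      Submodule.map (Bt f0) (LinearMap.ker (b i0)) := by
    rintro _ ⟨z, hz, rfl⟩
    refine ⟨Bt u z, ?_, ?_⟩
    · have hz0 : b l z = 0 := hz
      show b i0 (Bt u z) = 0
      rw [hb, hz0, map_zero]
    · rw [Bt_comp]; rfl
  have heq : Submodule.map (Bt (u ≫ f0)) (LinearMap.ker (b l)) =
      Submodule.map (Bt f0) (LinearMap.ker (b i0)) :=
    eq_of_le_of_not_lt hle (hmin _ ⟨l, u ≫ f0, rfl⟩)
  rintro _ ⟨x, rfl⟩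
  obtain ⟨z⟩ := hne l
  have h1 : Bt f0 (x.1 - Bt u z.1) ∈ Submodule.map (Bt f0) (LinearMap.ker (b i0)) := by
    refine ⟨_, ?_, rfl⟩
    show b i0 (x.1 - Bt u z.1) = 0
    rw [map_sub, x.2, hb, z.2, hy, sub_self]
  rw [← heq] at h1
  obtain ⟨w', hw'0, hw'2⟩ := h1
  have hw' : b l w' = 0 := hw'0
  have hz' : b l (z.1 + w') = y l := by rw [map_add, z.2, hw', add_zero]
  refine ⟨(T Bo Bt Bt_id Bt_comp Co Ct b hb y hy).map w ⟨z.1 + w', hz'⟩, ?_⟩
  rw [← FunctorToTypes.map_comp_apply, hwg]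
  apply Subtype.ext
  show Bt (u ≫ f0) (z.1 + w') = Bt f0 x.1
  rw [map_add, hw'2, map_sub, Bt_comp]
  simp

include Bt_id Bt_comp hb in
theorem exists_lift (hArt : ∀ i, IsArtinian R (Bo i))
    (y : ∀ i, Co i) (hy : ∀ {i j : ℕᵒᵖ} (f : i ⟶ j), Ct f (y i) = y j)
    (hne : ∀ i, ∃ x, b i x = y i) :
    ∃ x : ∀ i, Bo i, (∀ {i j : ℕᵒᵖ} (f : i ⟶ j), Bt f (x i) = x j) ∧ ∀ i, b i (x i) = y i := by
  have hne' : ∀ i, Nonempty ((T Bo Bt Bt_id Bt_comp Co Ct b hb y hy).obj i) := fun i => by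
    obtain ⟨x, hx⟩ := hne i
    exact ⟨⟨x, hx⟩⟩
  haveI := hne'
  obtain ⟨s⟩ := Groth.Agent.Lib.LimExactH7.exists_section _
    (T_ml Bo Bt Bt_id Bt_comp Co Ct b hb hArt y hy hne')
  exact ⟨fun i => (s.1 i).1, fun f => congrArg Subtype.val (s.2 f), fun i => (s.1 i).2⟩

end Lift

section Tensor

variable {R : Type u} [CommRing R]

lemma piScalarRight_rTensor {X Y : Type u} [AddCommGroup X] [Module R X] [AddCommGroup Y]
    [Module R Y] (f : X →ₗ[R] Y) (n : ℕ) (z : X ⊗[R] (Fin n → R)) (k : Fin n) :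
    TensorProduct.piScalarRight R R Y (Fin n) (LinearMap.rTensor (Fin n → R) f z) k =
      f (TensorProduct.piScalarRight R R X (Fin n) z k) := by
  induction z using TensorProduct.induction_on with
  | zero => simp
  | tmul x v => simp
  | add a b ha hb =>
    rw [map_add, map_add, Pi.add_apply, ha, hb, map_add, Pi.add_apply, map_add]

lemma comm_lr {X Y P Q : Type u} [AddCommGroup X] [Module R X] [AddCommGroup Y] [Module R Y]
    [AddCommGroup P] [Module R P] [AddCommGroup Q] [Module R Q]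
    (φ : X →ₗ[R] Y) (f : P →ₗ[R] Q) (z : X ⊗[R] P) :
    LinearMap.rTensor Q φ (LinearMap.lTensor X f z) =
      LinearMap.lTensor Y f (LinearMap.rTensor P φ z) := by
  rw [← LinearMap.comp_apply, ← LinearMap.comp_apply, LinearMap.rTensor_comp_lTensor,
    LinearMap.lTensor_comp_rTensor]

variable (M : ℕᵒᵖ ⥤ ModuleCat.{u} R)
  {L : Type u} [AddCommGroup L] [Module R L] (π : ∀ j, L →ₗ[R] M.obj j)
  (P0 : ∀ {i j : ℕᵒᵖ} (f : i ⟶ j) (x : L), (M.map f).hom (π i x) = π j x)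
  (P1 : ∀ x : L, (∀ j, π j x = 0) → x = 0)
  (P2 : ∀ m : ∀ j, M.obj j, (∀ {i j : ℕᵒᵖ} (f : i ⟶ j), (M.map f).hom (m i) = m j) →
    ∃ x : L, ∀ j, π j x = m j)

include P2 in
theorem free_surj (n : ℕ) (s : ∀ j, M.obj j ⊗[R] (Fin n → R))
    (hs : ∀ {i j : ℕᵒᵖ} (f : i ⟶ j), (M.map f).hom.rTensor (Fin n → R) (s i) = s j) :
    ∃ x : L ⊗[R] (Fin n → R), ∀ j, (π j).rTensor (Fin n → R) x = s j := by
  have h1 : ∀ k : Fin n, ∃ l : L, ∀ j,
      π j l = TensorProduct.piScalarRight R R (M.obj j) (Fin n) (s j) k := by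
    intro k
    apply P2
    intro i j f
    rw [← piScalarRight_rTensor, hs]
  choose l hl using h1
  refine ⟨(TensorProduct.piScalarRight R R L (Fin n)).symm l, fun j => ?_⟩
  apply (TensorProduct.piScalarRight R R (M.obj j) (Fin n)).injective
  funext k
  rw [piScalarRight_rTensor, LinearEquiv.apply_symm_apply, hl]

include P1 in
theorem free_inj (n : ℕ) (x : L ⊗[R] (Fin n → R))
    (hx : ∀ j, (π j).rTensor (Fin n → R) x = 0) : x = 0 := by
  apply (TensorProduct.piScalarRight R R L (Fin n)).injective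
  rw [map_zero]
  funext k
  apply P1
  intro j
  rw [← piScalarRight_rTensor, hx, map_zero]
  rfl

lemma isArtinian_tensor_fin {X : Type u} [AddCommGroup X] [Module R X]
    (hX : IsFiniteLength R X) (n : ℕ) : IsArtinian R (X ⊗[R] (Fin n → R)) := by
  haveI : IsArtinian R X := (isFiniteLength_iff_isNoetherian_isArtinian.mp hX).2
  exact isArtinian_of_linearEquiv (TensorProduct.piScalarRight R R X (Fin n)).symm

include P0 P1 P2 in
theorem tensor_bij (hM : ∀ n, IsFiniteLength R (M.obj n)) (N : Type u) [AddCommGroup N]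
    [Module R N] [Module.FinitePresentation R N] (s : ∀ j, M.obj j ⊗[R] N)
    (hs : ∀ {i j : ℕᵒᵖ} (f : i ⟶ j), (M.map f).hom.rTensor N (s i) = s j) :
    ∃! x : L ⊗[R] N, ∀ j, (π j).rTensor N x = s j := by
  obtain ⟨n, m, f, g, hf, hfg⟩ := Module.FinitePresentation.exists_fin' R N
  -- transition maps
  have Bt_id : ∀ (P : Type u) [AddCommGroup P] [Module R P] (i : ℕᵒᵖ),
      (M.map (𝟙 i)).hom.rTensor P = LinearMap.id := by
    intro P _ _ i
    rw [M.map_id, ModuleCat.hom_id, LinearMap.rTensor_id]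
  have Bt_comp : ∀ (P : Type u) [AddCommGroup P] [Module R P] {i j k : ℕᵒᵖ} (a : i ⟶ j)
      (c : j ⟶ k), (M.map (a ≫ c)).hom.rTensor P =
        (M.map c).hom.rTensor P ∘ₗ (M.map a).hom.rTensor P := by
    intro P _ _ i j k a c
    rw [M.map_comp, ModuleCat.hom_comp, LinearMap.rTensor_comp]
  have hcompat : ∀ (P : Type u) [AddCommGroup P] [Module R P] (x : L ⊗[R] P) {i j : ℕᵒᵖ}
      (a : i ⟶ j), (M.map a).hom.rTensor P ((π i).rTensor P x) = (π j).rTensor P x := by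
    intro P _ _ x i j a
    rw [← LinearMap.comp_apply, ← LinearMap.rTensor_comp]
    congr 2
    ext y
    exact P0 a y
  -- injectivity
  have hinj : ∀ x : L ⊗[R] N, (∀ j, (π j).rTensor N x = 0) → x = 0 := by
    intro x hx
    obtain ⟨x', rfl⟩ := LinearMap.lTensor_surjective L hf x
    have hu : ∀ i, ∃ w, (LinearMap.lTensor (M.obj i) g) w = (π i).rTensor (Fin n → R) x' := by
      intro i
      have hex := lTensor_exact (M.obj i) hfg hf
      apply (hex _).mp
      rw [← comm_lr, hx]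
    obtain ⟨w, hw1, hw2⟩ := exists_lift (R := R)
      (fun i => M.obj i ⊗[R] (Fin m → R)) (fun a => (M.map a).hom.rTensor (Fin m → R))
      (Bt_id _) (Bt_comp _)
      (fun i => M.obj i ⊗[R] (Fin n → R)) (fun a => (M.map a).hom.rTensor (Fin n → R))
      (fun i => LinearMap.lTensor (M.obj i) g) (fun a x => (comm_lr _ _ _).symm)
      (fun i => isArtinian_tensor_fin (hM i) m)
      (fun i => (π i).rTensor (Fin n → R) x') (fun a => hcompat _ x' a) hu
    obtain ⟨w', hw'⟩ := free_surj M π P2 m w hw1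
    have h3 : LinearMap.lTensor L g w' - x' = 0 := by
      apply free_inj M π P1 n
      intro j
      rw [map_sub, comm_lr, hw', hw2, sub_self]
    rw [sub_eq_zero] at h3
    rw [← h3, ← LinearMap.comp_apply, ← LinearMap.lTensor_comp, hfg.linearMap_comp_eq_zero,
      LinearMap.lTensor_zero, LinearMap.zero_apply]
  -- surjectivity
  have hsurj : ∃ x : L ⊗[R] N, ∀ j, (π j).rTensor N x = s j := by
    obtain ⟨u, hu1, hu2⟩ := exists_lift (R := R)
      (fun i => M.obj i ⊗[R] (Fin n → R)) (fun a => (M.map a).hom.rTensor (Fin n → R))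
      (Bt_id _) (Bt_comp _)
      (fun i => M.obj i ⊗[R] N) (fun a => (M.map a).hom.rTensor N)
      (fun i => LinearMap.lTensor (M.obj i) f) (fun a x => (comm_lr _ _ _).symm)
      (fun i => isArtinian_tensor_fin (hM i) n)
      s (fun a => hs a) (fun i => LinearMap.lTensor_surjective (M.obj i) hf (s i))
    obtain ⟨x', hx'⟩ := free_surj M π P2 n u hu1
    refine ⟨LinearMap.lTensor L f x', fun j => ?_⟩
    rw [comm_lr, hx', hu2]
  obtain ⟨x, hx⟩ := hsurj
  refine ⟨x, hx, fun y hy => ?_⟩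
  rw [← sub_eq_zero]
  apply hinj
  intro j
  rw [map_sub, hx, hy, sub_self]

end Tensor

theorem preservesLimit_tensorRight {R : Type u} [CommRing R]
    (M : ℕᵒᵖ ⥤ ModuleCat.{u} R) (hM : ∀ n : ℕᵒᵖ, IsFiniteLength R (M.obj n))
    (N : Type u) [AddCommGroup N] [Module R N] [Module.FinitePresentation R N] :
    PreservesLimit M (tensorRight (ModuleCat.of R N)) := by
  apply preservesLimit_of_preserves_limit_cone (limit.isLimit M)
  apply isLimitOfReflects (forget (ModuleCat.{u} R))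
  refine ((Types.isLimit_iff _).mpr ?_).some
  intro s hs
  have P0 : ∀ {i j : ℕᵒᵖ} (f : i ⟶ j) (x : ↑(limit M)),
      (M.map f).hom ((limit.π M i).hom x) = (limit.π M j).hom x := by
    intro i j f x
    have := congrArg (fun φ => φ.hom x) (limit.w M f)
    simpa using this
  have P1 : ∀ x : ↑(limit M), (∀ j, (limit.π M j).hom x = 0) → x = 0 := by
    intro x hx
    apply Concrete.limit_ext M
    intro j
    show (limit.π M j).hom x = (limit.π M j).hom 0
    rw [hx, map_zero]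
  have P2 : ∀ m : ∀ j, M.obj j, (∀ {i j : ℕᵒᵖ} (f : i ⟶ j), (M.map f).hom (m i) = m j) →
      ∃ x : ↑(limit M), ∀ j, (limit.π M j).hom x = m j := by
    intro m hm
    let sB : (M ⋙ forget (ModuleCat.{u} R)).sections := ⟨m, fun {i j} f => hm f⟩
    let e := Types.isLimitEquivSections
      (isLimitOfPreserves (forget (ModuleCat.{u} R)) (limit.isLimit M))
    refine ⟨e.symm sB, fun j => ?_⟩
    exact Types.isLimitEquivSections_symm_apply
        (isLimitOfPreserves (forget (ModuleCat.{u} R)) (limit.isLimit M)) sB j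
  have := tensor_bij M (fun j => (limit.π M j).hom) P0 P1 P2 hM N s (fun {i j} f => hs f)
  exact this

end Groth.Agent.Lib.TowerTensor
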