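import Mathlib
import Groth.Prelude
import Groth.Agent.Lib.HypEll3_helper9
import Groth.Agent.Lib.CoverRank_helper4
import Groth.Agent.Lib.EulerField_helper9
import Groth.Agent.Lib.CurveLin3_helper9

/-!
# The trace of a finite locally free cover is a split epimorphism when the rank is invertible
(helper9).  APPEND-ONLY once landed.  Towards S19701.
-/

set_option autoImplicit false
set_option linter.style.haveILetI false
universe u
open CategoryTheory CategoryTheory.Limits AlgebraicGeometry Opposite TopologicalSpace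

namespace TraceDC

open QcqsLoc QCohExtn GenLocH8 TensH8 FLFH8 SerreCrit

section Trace

variable {X Y : Scheme.{u}} (f : X ⟶ Y)
  (τ : (Scheme.Modules.pushforward f).obj (Coh.structureModule X) ⟶ Coh.structureModule Y)

/-- on an affine open over which `f_* O_X` has a basis of `n` elements, the trace of one is `n` -/
theorem trace_one_of_basis (hτ : FinCov.IsTraceHom f τ) {W : Y.Opens} (hW : IsAffineOpen W)
    {n : ℕ} (t : Fin n → Γ(pushO f, W))
    (hspan : Submodule.span Γ(Y, W) (Set.range t) = ⊤) (hli : LinearIndependent Γ(Y, W) t) :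
    (τ.val.app (op W)).hom (1 : Γ(X, f ⁻¹ᵁ W)) = (n : Γ(Y, W)) := by
  letI : Algebra Γ(Y, W) Γ(X, f ⁻¹ᵁ W) := (f.app W).hom.toAlgebra
  let e : Γ(pushO f, W) ≃ₗ[Γ(Y, W)] Γ(X, f ⁻¹ᵁ W) :=
    { AddEquiv.refl _ with map_smul' := fun _ _ => rfl }
  let b : Module.Basis (Fin n) Γ(Y, W) Γ(X, f ⁻¹ᵁ W) := (Module.Basis.mk hli hspan.ge).map e
  have hfree : Module.Free Γ(Y, W) Γ(X, f ⁻¹ᵁ W) := Module.Free.of_basis b
  have hfin : Module.Finite Γ(Y, W) Γ(X, f ⁻¹ᵁ W) := Module.Finite.of_basis b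
  rw [hτ W hW hfree hfin 1]
  have h1 := Algebra.trace_algebraMap_of_basis b (1 : Γ(Y, W))
  rw [map_one] at h1
  rw [h1]
  simp

/-- the unit section of `f_* O_X` -/
noncomputable def oneP (W : Y.Opens) : Γ(pushO f, W) := (1 : Γ(X, f ⁻¹ᵁ W))

/-- globally the trace of one is the rank -/
theorem trace_one (hτ : FinCov.IsTraceHom f τ) {n : ℕ}
    (hF : FlatMod.IsFinLocFreeOfRank n (pushO f)) :
    ap τ ⊤ (oneP f ⊤) = ofFn ((n : ℕ) : Γ(Y, ⊤)) := by
  apply eq_of_cover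
  intro y _
  obtain ⟨U, hyU, ⟨α⟩⟩ := hF y
  obtain ⟨W, hW, hyW, -, t, ht⟩ := exists_affine_bases (pushO f) hyU α
  obtain ⟨h1, h2⟩ := BasisOn.self (pushO f) t (ht W le_rfl)
  refine ⟨W, le_top, hyW, ?_⟩
  rw [← ap_rF]
  have h3 : rF (pushO f) (le_top : W ≤ ⊤) (oneP f ⊤) = oneP f W :=
    map_one (X.presheaf.map (homOfLE (f.preimage_mono (le_top : W ≤ ⊤))).op).hom
  rw [h3]
  refine (trace_one_of_basis f τ hτ hW t h1 h2).trans ?_
  exact (map_natCast (rX (le_top : W ≤ ⊤)) n).symm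

/-- **the trace is a split epimorphism when the rank is invertible** -/
theorem exists_section_trace (hτ : FinCov.IsTraceHom f τ) {n : ℕ}
    (hF : FlatMod.IsFinLocFreeOfRank n (pushO f)) (c₀ : Γ(Y, ⊤))
    (hc₀ : c₀ * ((n : ℕ) : Γ(Y, ⊤)) = 1) :
    ∃ σ : Coh.structureModule Y ⟶ (Scheme.Modules.pushforward f).obj (Coh.structureModule X),
      σ ≫ τ = 𝟙 _ := by
  refine ⟨SerreFT.secHom (pushO f) (c₀ • oneP f ⊤), ?_⟩
  rw [← sub_eq_zero]
  apply CurveLin.hom_eq_zero_of_ap_one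
  show ap τ ⊤ (ap (SerreFT.secHom (pushO f) (c₀ • oneP f ⊤)) ⊤
    (ofFn (1 : Γ(Y, ⊤)))) - ofFn (1 : Γ(Y, ⊤)) = 0
  rw [SerreFT.secHom_one, ap_smul, trace_one f τ hτ hF, sub_eq_zero]
  exact hc₀

end Trace

end TraceDC
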