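import Mathlib
import Groth.Prelude
import Groth.Agent.Lib.TraceDC1_helper9
import Groth.Agent.Lib.HypInv3_helper9
import Groth.Agent.Lib.BirCurve3_helper9
import Groth.Agent.Lib.CohKer_helper8

/-!
# The kernel of the trace of a hyperelliptic double cover has degree `-g - 1` (helper9)
APPEND-ONLY once landed.  Statement of S19701.
-/

set_option autoImplicit false
set_option linter.style.haveILetI false
universe u
open CategoryTheory CategoryTheory.Limits AlgebraicGeometry Opposite TopologicalSpace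

namespace TraceDC

open QcqsLoc QCohExtn GenLocH8 TensH8 FLFH8 SerreCrit P1Iso

section P1

variable (k : Type u) [Field k]

/-- `χ(O_{P¹}) = 1` -/
theorem euler_P1 :
    letI := overP1 k
    Curv2.euler k (CohB1.ProjSpace 1 k) (Coh.structureModule (CohB1.ProjSpace 1 k)) = 1 := by
  letI := overP1 k
  haveI := isIntegral_P1 k
  haveI : IsProper ((CohB1.ProjSpace 1 k) ↘ Spec (CommRingCat.of k)) := isProper_P1 k
  haveI : IsLocallyNoetherian (CohB1.ProjSpace 1 k) :=
    LocallyOfFiniteType.isLocallyNoetherian ((CohB1.ProjSpace 1 k) ↘ Spec (CommRingCat.of k))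
  have hdim := dim_P1 k
  obtain ⟨e0⟩ := Groth.Agent.ProjTens.twist_zero 1 k
  have hinv0 := Groth.Agent.Horrocks.isInvertible_OO 1 k 0
  haveI := (ProperFinH9.isCoh_of_isInvertible hinv0).1
  rw [← CurveTens.euler_of_iso k _ e0,
    CurveRR.euler_eq_sub k (CohB1.ProjSpace 1 k) hdim.le (Twist.twistProjSpace 1 k 0)]
  have a0 : Module.finrank k (Coh.HH (CohB1.ProjSpace 1 k) (Twist.twistProjSpace 1 k 0) 0) = 1 :=
    Groth.Agent.ProjEuler.finrank_HH_zero k 1 0
  have b0 := Groth.Agent.ProjEuler.finrank_HH_eq_zero k 1 0 1 (by omega) (by omega)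
  rw [a0, b0]
  norm_num

end P1

section Main

/-- **statement of S19701** -/
theorem main19701 (k : Type u) [Field k] [IsAlgClosed k]
    (h2 : (2 : k) ≠ 0) {X : Scheme.{u}} (p : X ⟶ Spec (CommRingCat.of k)) [IsProper p] [Smooth p]
    [ConnectedSpace ↥X] (hX : topologicalKrullDim ↥X = 1)
    (h : X ⟶ CohB1.ProjSpace 1 k) (hh : h ≫ CohB1.ProjSpace.toSpec 1 k = p)
    [IsFinite h] [Flat h]
    (hr : ∀ y : ↥(CohB1.ProjSpace 1 k), h.finrank y = 2)
    (τ : (Scheme.Modules.pushforward h).obj (Coh.structureModule X) ⟶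
      Coh.structureModule (CohB1.ProjSpace 1 k))
    (hτ : FinCov.IsTraceHom h τ) :
    @Curv2.deg k _ (CohB1.ProjSpace 1 k) ⟨CohB1.ProjSpace.toSpec 1 k⟩ (kernel τ) 1 =
      -((@Curv2.genus k _ X ⟨p⟩ : ℤ) + 1) := by
  letI : X.Over (Spec (CommRingCat.of k)) := ⟨p⟩
  letI := overP1 k
  haveI : IsProper (X ↘ Spec (CommRingCat.of k)) := ‹IsProper p›
  haveI : Smooth (X ↘ Spec (CommRingCat.of k)) := ‹Smooth p›
  haveI : IsLocallyNoetherian X :=
    LocallyOfFiniteType.isLocallyNoetherian (X ↘ Spec (CommRingCat.of k))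
  haveI : IsIntegral X := ConnIrrH8.isIntegral_of_connected X
    (fun x => FEtEuler9.isDomain_stalk_of_smooth k X p x)
  haveI := isIntegral_P1 k
  haveI : IsProper ((CohB1.ProjSpace 1 k) ↘ Spec (CommRingCat.of k)) := isProper_P1 k
  haveI : IsLocallyNoetherian (CohB1.ProjSpace 1 k) :=
    LocallyOfFiniteType.isLocallyNoetherian ((CohB1.ProjSpace 1 k) ↘ Spec (CommRingCat.of k))
  have hh' : h ≫ ((CohB1.ProjSpace 1 k) ↘ Spec (CommRingCat.of k)) =
      X ↘ Spec (CommRingCat.of k) := hh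
  have hF := HypEll.isFinLocFreeOfRank_pushO k h hr
  -- the trace is a split epimorphism
  have hc₀ : (show Γ(CohB1.ProjSpace 1 k, ⊤) from
      Coh.toGlobal ((CohB1.ProjSpace 1 k) ↘ Spec (CommRingCat.of k)) ((2 : k)⁻¹)) *
      (((2 : ℕ) : ℕ) : Γ(CohB1.ProjSpace 1 k, ⊤)) = 1 := by
    have h3 : (((2 : ℕ) : ℕ) : Γ(CohB1.ProjSpace 1 k, ⊤)) =
        (show Γ(CohB1.ProjSpace 1 k, ⊤) from
          Coh.toGlobal ((CohB1.ProjSpace 1 k) ↘ Spec (CommRingCat.of k)) ((2 : ℕ) : k)) :=
      (map_natCast (Coh.toGlobal ((CohB1.ProjSpace 1 k) ↘ Spec (CommRingCat.of k))) 2).symm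
    rw [h3]
    refine (map_mul (Coh.toGlobal ((CohB1.ProjSpace 1 k) ↘ Spec (CommRingCat.of k))) _ _).symm.trans
      ?_
    have h4 : (2 : k)⁻¹ * ((2 : ℕ) : k) = 1 := by
      push_cast
      exact inv_mul_cancel₀ h2
    rw [h4]
    exact map_one _
  obtain ⟨σ, hσ⟩ := exists_section_trace h τ hτ hF _ hc₀
  haveI : IsSplitEpi τ := IsSplitEpi.mk' ⟨σ, hσ⟩
  -- the short exact sequence
  let S : ShortComplex (CohB1.ProjSpace 1 k).Modules :=
    ShortComplex.mk (kernel.ι τ) τ (kernel.condition τ)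
  have hS : S.ShortExact :=
    { exact := ShortComplex.exact_of_f_is_kernel S (kernelIsKernel τ)
      mono_f := inferInstanceAs (Mono (kernel.ι τ))
      epi_g := inferInstanceAs (Epi τ) }
  have hPc := BirCurve.isCoh_push_OO h
  have hOc := CohDevH8.isCoh_structureModule (CohB1.ProjSpace 1 k)
  have hKc : Coh.IsCoh (kernel τ) := CohKerH8.isCoh_kernel hPc hOc τ
  have hadd := EulerField.euler_additive k (CohB1.ProjSpace 1 k) S hS hKc hPc hOc
  haveI : (Coh.structureModule X).IsQuasicoherent := SerreCrit.isQuasicoherent_OO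
  have hpush := BirCurve.euler_push k h hh' (Coh.structureModule X)
  have hOX := CurveRR.euler_eq_sub k X hX.le (Coh.structureModule X)
  have h0X := CurveSpec.finrank_HH0_structureModule k X hX
  have hgdef : Curv2.genus k X = Module.finrank k (Coh.HH X (Coh.structureModule X) 1) := rfl
  have hP1 := euler_P1 k
  show Curv2.euler k (CohB1.ProjSpace 1 k) (kernel τ) -
    ((1 : ℕ) : ℤ) * Curv2.euler k (CohB1.ProjSpace 1 k)
      (Coh.structureModule (CohB1.ProjSpace 1 k)) = _
  have hadd' : Curv2.euler k (CohB1.ProjSpace 1 k)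
      ((Scheme.Modules.pushforward h).obj (Coh.structureModule X)) =
      Curv2.euler k (CohB1.ProjSpace 1 k) (kernel τ) +
        Curv2.euler k (CohB1.ProjSpace 1 k) (Coh.structureModule (CohB1.ProjSpace 1 k)) := hadd
  rw [hpush, hOX, h0X, ← hgdef, hP1] at hadd'
  rw [hP1]
  push_cast
  linarith

end Main

end TraceDC
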