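import Mathlib
import Groth.Prelude
import Groth.Agent.Lib.FinCov1_helper8
import Groth.Agent.Lib.PrinPart2_helper6

set_option autoImplicit false
set_option linter.style.haveILetI false
set_option linter.unusedVariables false

universe u

open CategoryTheory CategoryTheory.Limits AlgebraicGeometry TopologicalSpace Opposite

namespace Groth.Agent.Lib.TraceExH6

/-- Trace commutes with localization at an element, in unbundled ring-hom form. -/
theorem trace_loc {R S R' S' : Type u} [CommRing R] [CommRing S] [CommRing R'] [CommRing S']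
    (σ : R →+* S) (σ' : R' →+* S') (ρ : R →+* R') (res : S →+* S')
    (hcomm : ∀ x, res (σ x) = σ' (ρ x)) (r : R)
    (h1 : letI := ρ.toAlgebra; IsLocalization.Away r R')
    (h2 : letI := res.toAlgebra; IsLocalization.Away (σ r) S')
    (hfree : letI := σ.toAlgebra; Module.Free R S)
    (hfin : letI := σ.toAlgebra; Module.Finite R S) (a : S) :
    (letI := σ'.toAlgebra; Algebra.trace R' S' (res a)) =
      ρ (letI := σ.toAlgebra; Algebra.trace R S a) := by
  letI algRS := σ.toAlgebra
  letI algR'S' := σ'.toAlgebra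
  letI algRR' := ρ.toAlgebra
  letI algSS' := res.toAlgebra
  letI algRS' := (res.comp σ).toAlgebra
  haveI : IsScalarTower R R' S' := IsScalarTower.of_algebraMap_eq (fun x => hcomm x)
  haveI : IsScalarTower R S S' := IsScalarTower.of_algebraMap_eq (fun x => rfl)
  haveI : IsLocalization (Submonoid.powers r) R' := h1
  haveI : IsLocalization (Algebra.algebraMapSubmonoid S (Submonoid.powers r)) S' := by
    have : Algebra.algebraMapSubmonoid S (Submonoid.powers r) = Submonoid.powers (σ r) := by
      simp [Algebra.algebraMapSubmonoid, Submonoid.map_powers]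
      rfl
    rw [this]
    exact h2
  haveI := hfree
  haveI := hfin
  exact Algebra.trace_localization R (Submonoid.powers r) a

variable {X : Scheme.{u}} (A : RelSpec.QCAlg X)

/-- The trace on sections (the junk value `0` unless `A(U)` is finite free). -/
noncomputable def tr (U : X.Opens) : A.presheaf.obj (op U) →+ Γ(X, U) :=
  letI := (A.str.app (op U)).hom.toAlgebra
  (Algebra.trace Γ(X, U) (A.presheaf.obj (op U))).toAddMonoidHom

/-- Affine opens over which `A` is finite free. -/
def Good (U : X.Opens) : Prop :=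
  IsAffineOpen U ∧
    letI := (A.str.app (op U)).hom.toAlgebra
    Module.Free Γ(X, U) (A.presheaf.obj (op U)) ∧ Module.Finite Γ(X, U) (A.presheaf.obj (op U))

theorem str_res {U V : X.Opens} (h : V ≤ U) (x : Γ(X, U)) :
    (A.presheaf.map (homOfLE h).op).hom ((A.str.app (op U)).hom x) =
      (A.str.app (op V)).hom ((X.presheaf.map (homOfLE h).op).hom x) := by
  have h2 := congr_arg (fun ψ => ψ.hom x) (A.str.naturality (homOfLE h).op)
  exact h2.symm

theorem tr_basicOpen {U : X.Opens} (hU : Good A U) (f : Γ(X, U)) (D : X.Opens)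
    (hD : D = X.basicOpen f) (a : A.presheaf.obj (op U)) :
    tr A D ((A.presheaf.map (homOfLE (hD.trans_le (X.basicOpen_le f))).op).hom a) =
      (X.presheaf.map (homOfLE (hD.trans_le (X.basicOpen_le f))).op).hom (tr A U a) := by
  subst hD
  exact trace_loc (A.str.app (op U)).hom (A.str.app (op (X.basicOpen f))).hom
    (X.presheaf.map (homOfLE (X.basicOpen_le f)).op).hom
    (A.presheaf.map (homOfLE (X.basicOpen_le f)).op).hom
    (fun x => str_res A (X.basicOpen_le f) x) f (hU.1.isLocalization_basicOpen f)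
    (A.isQC U hU.1 f) hU.2.1 hU.2.2 a

theorem tr_res {U V : X.Opens} (hU : Good A U) (hV : Good A V) (h : V ≤ U)
    (a : A.presheaf.obj (op U)) :
    tr A V ((A.presheaf.map (homOfLE h).op).hom a) =
      (X.presheaf.map (homOfLE h).op).hom (tr A U a) := by
  refine X.IsSheaf.section_ext (U := op V) ?_
  intro x hx
  obtain ⟨f, g, hfg, hxf⟩ := exists_basicOpen_le_affine_inter hU.1 hV.1 x ⟨h hx, hx⟩
  refine ⟨X.basicOpen g, X.basicOpen_le g, hfg ▸ hxf, ?_⟩
  have e1 := tr_basicOpen A hV g (X.basicOpen g) rfl ((A.presheaf.map (homOfLE h).op).hom a)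
  have e2 := tr_basicOpen A hU f (X.basicOpen g) hfg.symm a
  have hA : (A.presheaf.map (homOfLE (X.basicOpen_le g)).op).hom
      ((A.presheaf.map (homOfLE h).op).hom a) =
      (A.presheaf.map (homOfLE (hfg.symm.trans_le (X.basicOpen_le f))).op).hom a := by
    rw [← CommRingCat.comp_apply, ← Functor.map_comp]
    rfl
  have hX : ∀ y : Γ(X, U), (X.presheaf.map (homOfLE (X.basicOpen_le g)).op).hom
      ((X.presheaf.map (homOfLE h).op).hom y) =
      (X.presheaf.map (homOfLE (hfg.symm.trans_le (X.basicOpen_le f))).op).hom y := by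
    intro y
    rw [← CommRingCat.comp_apply, ← Functor.map_comp]
    rfl
  change (X.presheaf.map (homOfLE (X.basicOpen_le g)).op).hom _ =
    (X.presheaf.map (homOfLE (X.basicOpen_le g)).op).hom _
  rw [hX, ← e2, ← hA, e1]

/-- The index type of the basis of good opens. -/
abbrev GoodOpens := {U : X.Opens // Good A U}

/-- The family of good opens. -/
abbrev goodB : GoodOpens A → X.Opens := fun i => i.1

theorem isBasis_good (hA : FlatMod.IsFinLocFree A.toModule) :
    Opens.IsBasis (Set.range (goodB A)) := by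
  rw [Opens.isBasis_iff_nbhd]
  intro U x hxU
  obtain ⟨U₀, n, hxU₀, ⟨α⟩⟩ := hA x
  obtain ⟨W, hW, hxW, -, t, ht⟩ := FLFH8.exists_affine_bases A.toModule hxU₀ α
  obtain ⟨_, ⟨W', hW' : IsAffineOpen W', rfl⟩, hxW', hW'le⟩ :=
    X.isBasis_affineOpens.exists_subset_of_mem_open
      (show x ∈ ((W ⊓ U : X.Opens) : Set X) from ⟨hxW, hxU⟩) (W ⊓ U).isOpen
  have hW'W : W' ≤ W := fun y hy => (hW'le hy).1
  obtain ⟨hsp, hli⟩ := ht W' hW'W
  let b : Module.Basis (Fin n) Γ(X, W') Γ(A.toModule, W') := Module.Basis.mk hli hsp.ge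
  letI : Algebra Γ(X, W') (A.presheaf.obj (op W')) := (A.str.app (op W')).hom.toAlgebra
  let b' : Module.Basis (Fin n) Γ(X, W') (A.presheaf.obj (op W')) := b
  have hfree : Module.Free Γ(X, W') (A.presheaf.obj (op W')) := Module.Free.of_basis b'
  have hfin : Module.Finite Γ(X, W') (A.presheaf.obj (op W')) := Module.Finite.of_basis b'
  exact ⟨W', ⟨⟨W', hW', hfree, hfin⟩, rfl⟩, hxW', fun y hy => (hW'le hy).2⟩

/-- The trace on the basis of good opens. -/
noncomputable def trB : (inducedFunctor (goodB A)).op ⋙ A.toModule.presheaf ⟶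
    (inducedFunctor (goodB A)).op ⋙ (Coh.structureModule X).presheaf where
  app i := AddCommGrpCat.ofHom (tr A i.unop.1)
  naturality i j f := by
    ext a
    exact tr_res A i.unop.2 j.unop.2 (leOfHom ((inducedFunctor (goodB A)).map f.unop)) a

/-- The structure module as a sheaf of abelian groups. -/
noncomputable abbrev OSh : TopCat.Sheaf AddCommGrpCat.{u} X.carrier :=
  ⟨(Coh.structureModule X).presheaf, (Coh.structureModule X).isSheaf⟩

variable (hA : FlatMod.IsFinLocFree A.toModule)

/-- The trace as a map of presheaves of abelian groups. -/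
noncomputable def trPre : A.toModule.presheaf ⟶ (Coh.structureModule X).presheaf :=
  TopCat.Sheaf.restrictHomEquivHom A.toModule.presheaf (OSh (X := X)) (isBasis_good A hA) (trB A)

/-- `trPre` on sections, as a plain function between the rings of sections. -/
noncomputable def trP (U : X.Opens) (a : A.presheaf.obj (op U)) : Γ(X, U) :=
  (trPre A hA).app (op U) a

theorem trP_good (i : GoodOpens A) (a : A.presheaf.obj (op i.1)) :
    trP A hA i.1 a = tr A i.1 a := by
  have h := TopCat.Sheaf.extend_hom_app A.toModule.presheaf (OSh (X := X)) (isBasis_good A hA)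
    (trB A) i
  exact congr_arg (fun ψ => ψ.hom a) h

theorem trP_res {U V : X.Opens} (h : V ≤ U) (a : A.presheaf.obj (op U)) :
    trP A hA V ((A.presheaf.map (homOfLE h).op).hom a) =
      (X.presheaf.map (homOfLE h).op).hom (trP A hA U a) := by
  have h1 := congr_arg (fun ψ => ψ.hom a) ((trPre A hA).naturality (homOfLE h).op)
  exact h1

theorem tr_smul (U : X.Opens) (r : Γ(X, U)) (a : A.presheaf.obj (op U)) :
    tr A U ((A.str.app (op U)).hom r * a) = r * tr A U a := by
  letI := (A.str.app (op U)).hom.toAlgebra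
  have := map_smul (Algebra.trace Γ(X, U) (A.presheaf.obj (op U))) r a
  exact this

theorem trP_smul (U : X.Opens) (r : Γ(X, U)) (a : A.presheaf.obj (op U)) :
    trP A hA U ((A.str.app (op U)).hom r * a) = r * trP A hA U a := by
  refine X.IsSheaf.section_ext (U := op U) ?_
  intro x hx
  obtain ⟨_, ⟨i, rfl⟩, hxi, hiU⟩ := Opens.isBasis_iff_nbhd.mp (isBasis_good A hA) (U := U) hx
  refine ⟨i.1, hiU, hxi, ?_⟩
  change (X.presheaf.map (homOfLE hiU).op).hom _ = (X.presheaf.map (homOfLE hiU).op).hom _
  have hL : (X.presheaf.map (homOfLE hiU).op).hom (trP A hA U ((A.str.app (op U)).hom r * a)) =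
      (X.presheaf.map (homOfLE hiU).op).hom r *
        tr A i.1 ((A.presheaf.map (homOfLE hiU).op).hom a) := by
    rw [← trP_res, map_mul, str_res, trP_good, tr_smul]
  have hR : (X.presheaf.map (homOfLE hiU).op).hom (r * trP A hA U a) =
      (X.presheaf.map (homOfLE hiU).op).hom r *
        tr A i.1 ((A.presheaf.map (homOfLE hiU).op).hom a) := by
    rw [map_mul, ← trP_res, trP_good]
  exact hL.trans hR.symm

theorem trPre_linear (U : X.Opens) (r : Γ(X, U)) (a : Γ(A.toModule, U)) :
    (trPre A hA).app (op U) (r • a) = r • (trPre A hA).app (op U) a :=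
  trP_smul A hA U r a

/-- The trace map of a finite locally free quasi-coherent algebra. -/
noncomputable def trace : A.toModule ⟶ Coh.structureModule X :=
  Groth.Agent.Lib.PrinPart2H6.homOfLinear A.toModule (Coh.structureModule X) (trPre A hA)
    (trPre_linear A hA)

theorem isTrace_trace : FinCov.IsTrace A (trace A hA) := by
  intro U hU hfree hfin a
  exact trP_good A hA ⟨U, hU, hfree, hfin⟩ a

theorem trace_unique (τ : A.toModule ⟶ Coh.structureModule X) (hτ : FinCov.IsTrace A τ) :
    τ = trace A hA := by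
  apply (Scheme.Modules.toPresheaf X).map_injective
  refine TopCat.Sheaf.hom_ext (F := A.toModule.presheaf) (F' := OSh (X := X))
    (isBasis_good A hA) ?_
  intro i
  ext a
  have h1 := hτ i.1 i.2.1 i.2.2.1 i.2.2.2 a
  have h2 := isTrace_trace A hA i.1 i.2.1 i.2.2.1 i.2.2.2 a
  exact h1.trans h2.symm

include hA in
theorem existsUnique_trace :
    ∃! τ : A.toModule ⟶ Coh.structureModule X, FinCov.IsTrace A τ :=
  ⟨trace A hA, isTrace_trace A hA, fun τ hτ => trace_unique A hA τ hτ⟩

end Groth.Agent.Lib.TraceExH6
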