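import Mathlib

set_option autoImplicit false
set_option linter.style.haveILetI false
set_option linter.unusedSectionVars false

universe u v

namespace Groth.Agent.Lib.TraceIdealH4

variable (A : Type u) [Ring A] (P : Type v) [AddCommGroup P] [Module A P]

/-- The trace ideal of a module. -/
def trace : Ideal A := Ideal.span {a | ∃ (f : P →ₗ[A] A) (p : P), f p = a}

instance trace_isTwoSided : (trace A P).IsTwoSided := by
  refine ⟨fun {a} b ha => ?_⟩
  unfold trace at ha ⊢
  induction ha using Submodule.span_induction with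
  | mem x hx =>
    obtain ⟨f, p, rfl⟩ := hx
    refine Ideal.subset_span ⟨(LinearMap.toSpanSingleton A A b) ∘ₗ f, p, ?_⟩
    simp [LinearMap.toSpanSingleton_apply]
  | zero => simp
  | add x y _ _ hx hy => rw [add_mul]; exact Ideal.add_mem _ hx hy
  | smul c x _ hx =>
    rw [smul_eq_mul, mul_assoc]
    exact Ideal.mul_mem_left _ c hx

theorem sup_isTwoSided (I J : Ideal A) [I.IsTwoSided] [J.IsTwoSided] : (I ⊔ J).IsTwoSided := by
  refine ⟨fun {a} b ha => ?_⟩
  obtain ⟨t, ht, j, hj, rfl⟩ := Submodule.mem_sup.mp ha
  rw [add_mul]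
  exact Submodule.add_mem_sup (Ideal.mul_mem_right b I ht) (Ideal.mul_mem_right b J hj)

variable [IsSimpleRing (A ⧸ Ring.jacobson A)] [Module.Finite A P] [Module.Projective A P]
  [Nontrivial P]

theorem trace_eq_top : trace A P = ⊤ := by
  haveI : (trace A P ⊔ Ring.jacobson A).IsTwoSided := sup_isTwoSided A _ _
  have hsup : trace A P ⊔ Ring.jacobson A = ⊤ := by
    by_cases hB : Nontrivial (A ⧸ (trace A P ⊔ Ring.jacobson A))
    · exfalso
      have hinj : Function.Injective
          (Ideal.Quotient.factor (le_sup_right : Ring.jacobson A ≤ trace A P ⊔ Ring.jacobson A)) :=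
        RingHom.injective _
      have hJ : ∀ (f : P →ₗ[A] A) (p : P), f p ∈ Ring.jacobson A := by
        intro f p
        rw [← Ideal.Quotient.eq_zero_iff_mem]
        apply hinj
        rw [Ideal.Quotient.factor_mk, map_zero, Ideal.Quotient.eq_zero_iff_mem]
        exact le_sup_left (a := trace A P) (Ideal.subset_span ⟨f, p, rfl⟩)
      obtain ⟨s, hs⟩ := (Module.projective_def' (R := A) (P := P)).mp inferInstance
      have hle : (⊤ : Submodule A P) ≤ Ring.jacobson A • (⊤ : Submodule A P) := by
        intro x _
        have hx : x = Finsupp.linearCombination A id (s x) := by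
          have := congrArg (fun g => g x) hs
          simpa using this.symm
        rw [hx, Finsupp.linearCombination_apply, Finsupp.sum]
        refine Submodule.sum_mem _ fun y _ => ?_
        refine Submodule.smul_mem_smul ?_ Submodule.mem_top
        exact hJ ((Finsupp.lapply y) ∘ₗ s) x
      have := Submodule.FG.eq_bot_of_le_jacobson_smul (Module.Finite.fg_top (R := A) (M := P)) hle
      exact top_ne_bot this
    · rw [not_nontrivial_iff_subsingleton] at hB
      exact Ideal.Quotient.subsingleton_iff.mp hB
  by_contra hT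
  obtain ⟨m, hm, hTm⟩ := Ideal.exists_le_maximal _ hT
  have hJm : Ring.jacobson A ≤ m := Ring.jacobson_le_of_isMaximal m
  have : (⊤ : Ideal A) ≤ m := hsup ▸ sup_le hTm hJm
  exact hm.ne_top (top_le_iff.mp this)

theorem faithful (c : A) (hc : ∀ x : P, c • x = 0) : c = 0 := by
  have key : ∀ t ∈ trace A P, ∀ c : A, (∀ x : P, c • x = 0) → c * t = 0 := by
    intro t ht
    unfold trace at ht
    induction ht using Submodule.span_induction with
    | mem x hx =>
      obtain ⟨f, p, rfl⟩ := hx
      intro c hc
      rw [← smul_eq_mul, ← map_smul, hc, map_zero]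
    | zero => intro c _; simp
    | add x y _ _ hx hy => intro c hc; rw [mul_add, hx c hc, hy c hc, add_zero]
    | smul b x _ hx =>
      intro c hc
      rw [smul_eq_mul, ← mul_assoc]
      exact hx (c * b) fun x => by rw [mul_smul, hc]
  have h1 : (1 : A) ∈ trace A P := by rw [trace_eq_top]; trivial
  simpa using key 1 h1 c hc

theorem main (u : P ≃ₗ[A] P)
    (hu : ∀ f : Module.End A P, (u : P →ₗ[A] P) ∘ₗ f = f ∘ₗ (u : P →ₗ[A] P)) :
    ∃! a : A, (∀ b : A, a * b = b * a) ∧ ∀ x : P, u x = a • x := by
  have key : ∀ t ∈ trace A P, ∃ a : A, ∀ x : P, t • u x = a • x := by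
    intro t ht
    unfold trace at ht
    induction ht using Submodule.span_induction with
    | mem t ht =>
      obtain ⟨f, p, rfl⟩ := ht
      refine ⟨f (u p), fun x => ?_⟩
      have := congrArg (fun g => g p) (hu ((LinearMap.toSpanSingleton A P x) ∘ₗ f))
      simpa [LinearMap.toSpanSingleton_apply] using this
    | zero => exact ⟨0, fun x => by simp⟩
    | add s t _ _ hs ht =>
      obtain ⟨a, ha⟩ := hs
      obtain ⟨b, hb⟩ := ht
      exact ⟨a + b, fun x => by rw [add_smul, add_smul, ha, hb]⟩
    | smul c t _ ht =>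
      obtain ⟨a, ha⟩ := ht
      exact ⟨c * a, fun x => by rw [smul_eq_mul, mul_smul, mul_smul, ha]⟩
  have h1 : (1 : A) ∈ trace A P := by rw [trace_eq_top]; trivial
  obtain ⟨a, ha⟩ := key 1 h1
  have ha' : ∀ x : P, u x = a • x := fun x => by simpa using ha x
  refine ⟨a, ⟨fun b => ?_, ha'⟩, ?_⟩
  · have : a * b - b * a = 0 := by
      apply faithful A P
      intro x
      rw [sub_smul, mul_smul, mul_smul, ← ha', ← ha', map_smul, sub_self]
    exact sub_eq_zero.mp this
  · rintro a' ⟨_, ha''⟩
    have : a' - a = 0 := by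
      apply faithful A P
      intro x
      rw [sub_smul, ← ha', ← ha'', sub_self]
    exact sub_eq_zero.mp this

end Groth.Agent.Lib.TraceIdealH4
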