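import Mathlib

/-!
# The trace form of a finite commutative Hopf algebra is an integral (helper9)

For a commutative Hopf algebra `A`, finite free over `K`, the trace `Tr : A → K` satisfies
`Σ Tr(a₁) a₂ = Tr(a) 1`.

APPEND-ONLY once landed.
-/

set_option autoImplicit false
universe u v
open scoped TensorProduct
open TensorProduct

namespace TraceInt9

noncomputable section

section Shear

variable (K : Type u) [CommRing K] (A : Type v) [CommRing A] [Algebra K A]

/-- `x ⊗ y ↦ x • g y` -/
def T (g : A →ₗ[K] A ⊗[K] A) : A ⊗[K] A →ₗ[A] A ⊗[K] A := LinearMap.liftBaseChange A g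

theorem T_tmul (g : A →ₗ[K] A ⊗[K] A) (x y : A) : T K A g (x ⊗ₜ[K] y) = x • g y := rfl

variable [Module.Free K A] [Module.Finite K A]

/-- `Σ x ⊗ y ↦ Σ Tr(y) x` -/
def trR : A ⊗[K] A →ₗ[K] A :=
  (TensorProduct.rid K A).toLinearMap ∘ₗ (Algebra.trace K A).lTensor A

theorem trR_tmul (x y : A) : trR K A (x ⊗ₜ[K] y) = Algebra.trace K A y • x := by
  simp [trR]

theorem lmul_one_tmul (y : A) :
    Algebra.lmul A (A ⊗[K] A) ((1 : A) ⊗ₜ[K] y) = (Algebra.lmul K A y).baseChange A := by
  apply TensorProduct.AlgebraTensorModule.ext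
  intro u v
  show ((1 : A) ⊗ₜ[K] y) * (u ⊗ₜ[K] v) = u ⊗ₜ[K] (y * v)
  rw [Algebra.TensorProduct.tmul_mul_tmul, one_mul]

theorem trace_eq_trR (s : A ⊗[K] A) : Algebra.trace A (A ⊗[K] A) s = trR K A s := by
  induction s using TensorProduct.induction_on with
  | zero => rw [map_zero, map_zero]
  | add s t hs ht => rw [map_add, hs, ht, map_add]
  | tmul x y =>
    have h1 : (x ⊗ₜ[K] y : A ⊗[K] A) = x • ((1 : A) ⊗ₜ[K] y) := by
      rw [TensorProduct.smul_tmul', smul_eq_mul, mul_one]
    rw [h1, map_smul, Algebra.trace_apply, lmul_one_tmul, LinearMap.trace_baseChange,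
      ← Algebra.trace_apply, ← h1, trR_tmul, smul_eq_mul, Algebra.smul_def, mul_comm]

theorem trR_of_bijective (δ : A →ₐ[K] A ⊗[K] A)
    (hθ : Function.Bijective (T K A δ.toLinearMap)) (a : A) :
    trR K A (δ a) = Algebra.trace K A a • (1 : A) := by
  let θ : (A ⊗[K] A) ≃ₗ[A] (A ⊗[K] A) := LinearEquiv.ofBijective (T K A δ.toLinearMap) hθ
  have hcomm : ∀ w, θ ((Algebra.lmul K A a).baseChange A w) =
      Algebra.lmul A (A ⊗[K] A) (δ a) (θ w) := by
    intro w
    induction w using TensorProduct.induction_on with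
    | zero => simp
    | add s t hs ht => simp only [map_add, hs, ht]
    | tmul x y =>
      show T K A δ.toLinearMap (x ⊗ₜ[K] (a * y)) = δ a * T K A δ.toLinearMap (x ⊗ₜ[K] y)
      rw [T_tmul, T_tmul]
      show x • δ (a * y) = δ a * (x • δ y)
      rw [map_mul, mul_smul_comm]
  have hconj : θ.conj ((Algebra.lmul K A a).baseChange A) =
      Algebra.lmul A (A ⊗[K] A) (δ a) := by
    apply LinearMap.ext
    intro z
    rw [LinearEquiv.conj_apply_apply, hcomm, LinearEquiv.apply_symm_apply]
  have h1 := LinearMap.trace_conj' ((Algebra.lmul K A a).baseChange A) θ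
  rw [hconj, ← Algebra.trace_apply, trace_eq_trR, LinearMap.trace_baseChange,
    ← Algebra.trace_apply] at h1
  rw [h1, Algebra.algebraMap_eq_smul_one]

end Shear

section Hopf

variable (K : Type u) [CommRing K] (A : Type v) [CommRing A] [HopfAlgebra K A]

/-- the opposite comultiplication -/
def comulOp : A →ₐ[K] A ⊗[K] A :=
  (Algebra.TensorProduct.comm K A A : A ⊗[K] A →ₐ[K] A ⊗[K] A).comp (Bialgebra.comulAlgHom K A)

theorem comulOp_apply (y : A) :
    comulOp K A y = TensorProduct.comm K A A (Coalgebra.comul (R := K) y) := rfl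

/-- `y ↦ Σ S(y₂) ⊗ y₁` -/
def hmap : A →ₗ[K] A ⊗[K] A :=
  (HopfAlgebra.antipode K (A := A)).rTensor A ∘ₗ (TensorProduct.comm K A A).toLinearMap ∘ₗ
    Coalgebra.comul

/-- `a ⊗ (b ⊗ c) ↦ (b * S c) ⊗ a` -/
def Q : A ⊗[K] (A ⊗[K] A) →ₗ[K] A ⊗[K] A :=
  (TensorProduct.comm K A A).toLinearMap ∘ₗ
    (LinearMap.mul' K A ∘ₗ (HopfAlgebra.antipode K (A := A)).lTensor A).lTensor A

theorem Q_tmul (a b c : A) :
    Q K A (a ⊗ₜ[K] (b ⊗ₜ[K] c)) = (b * HopfAlgebra.antipode K c) ⊗ₜ[K] a := by
  simp [Q]

theorem smul_comm_eq_Q (v : A) (t : A ⊗[K] A) :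
    HopfAlgebra.antipode K v • (TensorProduct.comm K A A t) =
      Q K A (TensorProduct.assoc K A A A (t ⊗ₜ[K] v)) := by
  induction t using TensorProduct.induction_on with
  | zero => simp
  | add s t hs ht => simp only [map_add, smul_add, TensorProduct.add_tmul, hs, ht]
  | tmul a b =>
    rw [TensorProduct.comm_tmul, TensorProduct.assoc_tmul, Q_tmul, TensorProduct.smul_tmul',
      smul_eq_mul, mul_comm]

theorem T_hmap_eq_Q (s : A ⊗[K] A) :
    T K A (comulOp K A).toLinearMap ((HopfAlgebra.antipode K (A := A)).rTensor A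
      (TensorProduct.comm K A A s)) =
      Q K A (TensorProduct.assoc K A A A ((Coalgebra.comul (R := K) (A := A)).rTensor A s)) := by
  induction s using TensorProduct.induction_on with
  | zero => simp
  | add s t hs ht => simp only [map_add, hs, ht]
  | tmul u v =>
    rw [TensorProduct.comm_tmul, LinearMap.rTensor_tmul, T_tmul, LinearMap.rTensor_tmul,
      ← smul_comm_eq_Q]
    rfl

theorem unit_counit_lTensor (s : A ⊗[K] A) :
    (Algebra.linearMap K A ∘ₗ Coalgebra.counit).lTensor A s =
      (TensorProduct.rid K A ((Coalgebra.counit (R := K) (A := A)).lTensor A s)) ⊗ₜ[K] (1 : A) := by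
  induction s using TensorProduct.induction_on with
  | zero => simp
  | add s t hs ht => simp only [map_add, hs, ht, TensorProduct.add_tmul]
  | tmul a b =>
    rw [LinearMap.lTensor_tmul, LinearMap.lTensor_tmul, TensorProduct.rid_tmul,
      LinearMap.comp_apply, Algebra.linearMap_apply, Algebra.algebraMap_eq_smul_one,
      TensorProduct.tmul_smul, TensorProduct.smul_tmul']

theorem T_comulOp_hmap (y : A) :
    T K A (comulOp K A).toLinearMap (hmap K A y) = (1 : A) ⊗ₜ[K] y := by
  show T K A (comulOp K A).toLinearMap ((HopfAlgebra.antipode K (A := A)).rTensor A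
      (TensorProduct.comm K A A (Coalgebra.comul (R := K) y))) = _
  rw [T_hmap_eq_Q, Coalgebra.coassoc_apply]
  show TensorProduct.comm K A A ((LinearMap.mul' K A ∘ₗ
    (HopfAlgebra.antipode K (A := A)).lTensor A).lTensor A
      ((Coalgebra.comul (R := K) (A := A)).lTensor A (Coalgebra.comul (R := K) y))) = _
  rw [← LinearMap.comp_apply, ← LinearMap.lTensor_comp, LinearMap.comp_assoc,
    HopfAlgebra.mul_antipode_lTensor_comul, unit_counit_lTensor, Coalgebra.lTensor_counit_comul,
    TensorProduct.rid_tmul, one_smul, TensorProduct.comm_tmul]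

theorem T_comulOp_surjective : Function.Surjective (T K A (comulOp K A).toLinearMap) := by
  intro z
  induction z using TensorProduct.induction_on with
  | zero => exact ⟨0, map_zero _⟩
  | add s t hs ht =>
    obtain ⟨s', rfl⟩ := hs
    obtain ⟨t', rfl⟩ := ht
    exact ⟨s' + t', map_add _ _ _⟩
  | tmul x y =>
    refine ⟨x • hmap K A y, ?_⟩
    rw [map_smul, T_comulOp_hmap, TensorProduct.smul_tmul', smul_eq_mul, mul_one]

variable [Module.Free K A] [Module.Finite K A]

theorem T_comulOp_bijective : Function.Bijective (T K A (comulOp K A).toLinearMap) :=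
  OrzechProperty.bijective_of_surjective_endomorphism _ (T_comulOp_surjective K A)

theorem trR_comm (s : A ⊗[K] A) :
    trR K A (TensorProduct.comm K A A s) =
      TensorProduct.lid K A ((Algebra.trace K A).rTensor A s) := by
  induction s using TensorProduct.induction_on with
  | zero => simp
  | add s t hs ht => simp only [map_add, hs, ht]
  | tmul u v =>
    rw [TensorProduct.comm_tmul, trR_tmul, LinearMap.rTensor_tmul, TensorProduct.lid_tmul]

/-- the trace form is a right integral: `Σ Tr(a₁) a₂ = Tr(a) 1` -/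
theorem trace_rightIntegral (a : A) :
    TensorProduct.lid K A ((Algebra.trace K A).rTensor A (Coalgebra.comul (R := K) a)) =
      Algebra.trace K A a • (1 : A) := by
  rw [← trR_comm, ← comulOp_apply]
  exact trR_of_bijective K A (comulOp K A) (T_comulOp_bijective K A) a

end Hopf

end

end TraceInt9
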