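import Mathlib
import Groth.Agent.Lib.TraceLocal_helper2

/-!
# Trace modulo a prime of a Dedekind extension: `Tr(y) mod p = Σ e(Q|p) Tr_{(B/Q)/(A/p)}(y mod Q)` (helper3)
-/

set_option autoImplicit false
set_option linter.style.haveILetI false

namespace Groth.Agent.Lib.TraceRamifH3

open Ideal UniqueFactorizationMonoid

section Pi

variable {R : Type*} [CommRing R] {ι : Type*} [Fintype ι] [DecidableEq ι]

theorem linearMap_trace_pi (M : ι → Type*) [∀ i, AddCommGroup (M i)] [∀ i, Module R (M i)]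
    [∀ i, Module.Free R (M i)] [∀ i, Module.Finite R (M i)] (f : ∀ i, M i →ₗ[R] M i) :
    LinearMap.trace R (∀ i, M i) (LinearMap.pi fun i => f i ∘ₗ LinearMap.proj i) =
      ∑ i, LinearMap.trace R (M i) (f i) := by
  classical
  let b : ∀ i, Module.Basis (Module.Free.ChooseBasisIndex R (M i)) R (M i) :=
    fun i => Module.Free.chooseBasis R (M i)
  rw [LinearMap.trace_eq_matrix_trace R (Pi.basis b)]
  simp_rw [LinearMap.trace_eq_matrix_trace R (b _)]
  rw [Matrix.trace, Fintype.sum_sigma]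
  refine Finset.sum_congr rfl fun i _ => ?_
  rw [Matrix.trace]
  refine Finset.sum_congr rfl fun j _ => ?_
  simp only [Matrix.diag_apply, LinearMap.toMatrix_apply, Pi.basis_repr, Pi.basis_apply,
    LinearMap.pi_apply, LinearMap.comp_apply, LinearMap.proj_apply, Pi.single_eq_same]

theorem algebra_trace_pi (S : ι → Type*) [∀ i, CommRing (S i)] [∀ i, Algebra R (S i)]
    [∀ i, Module.Free R (S i)] [∀ i, Module.Finite R (S i)] (x : ∀ i, S i) :
    Algebra.trace R (∀ i, S i) x = ∑ i, Algebra.trace R (S i) (x i) := by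
  simp_rw [Algebra.trace_apply]
  rw [← linearMap_trace_pi]
  congr 1

end Pi

section PerPrime

universe v

variable {A : Type*} {B : Type v} [CommRing A] [CommRing B] [IsDedekindDomain B] [Algebra A B]
  [Module.Finite A B] (p : Ideal A) [p.IsMaximal]

attribute [local instance] Ideal.Quotient.field

theorem trace_quot_pow (P : Ideal B) [P.IsPrime] (hP0 : P ≠ ⊥) [P.LiesOver p] (n : ℕ) (hn : n ≠ 0)
    (h : p ≤ (P ^ n).comap (algebraMap A B)) (y : B) :
    letI := Ideal.Quotient.algebraQuotientOfLEComap h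
    Algebra.trace (A ⧸ p) (B ⧸ P ^ n) (Ideal.Quotient.mk _ y) =
      n • Algebra.trace (A ⧸ p) (B ⧸ P) (Ideal.Quotient.mk _ y) := by
  letI := Ideal.Quotient.algebraQuotientOfLEComap h
  haveI hPmax : P.IsMaximal := Ideal.IsPrime.isMaximal ‹_› hP0
  let Bp := Localization.AtPrime P
  haveI : IsDiscreteValuationRing Bp :=
    IsLocalization.AtPrime.isDiscreteValuationRing_of_dedekind_domain B hP0 Bp
  let D' := Bp ⧸ IsLocalRing.maximalIdeal Bp ^ n
  let e : (B ⧸ P ^ n) ≃ₐ[B] D' := IsLocalization.AtPrime.equivQuotMaximalIdealPow P Bp n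
  haveI : Nontrivial D' := Ideal.Quotient.nontrivial_iff.mpr (by
    intro htop
    have : IsLocalRing.maximalIdeal Bp = ⊤ := by
      rw [eq_top_iff, ← htop]
      exact Ideal.pow_le_self hn
    exact (IsLocalRing.maximalIdeal.isMaximal Bp).ne_top this)
  haveI : IsLocalRing D' :=
    IsLocalRing.of_surjective' (Ideal.Quotient.mk _) Ideal.Quotient.mk_surjective
  haveI : IsLocalRing (B ⧸ P ^ n) := e.toRingEquiv.symm.isLocalRing
  haveI : IsScalarTower A (A ⧸ p) (B ⧸ P ^ n) := .of_algebraMap_eq' rfl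
  haveI : Module.Finite (A ⧸ p) (B ⧸ P ^ n) := Module.Finite.of_restrictScalars_finite A _ _
  have hlen : Module.length (B ⧸ P ^ n) (B ⧸ P ^ n) = n := by
    have h1 : Module.length B (B ⧸ P ^ n) = Module.length (B ⧸ P ^ n) (B ⧸ P ^ n) :=
      Module.length_eq_of_surjective Ideal.Quotient.mk_surjective
    have h2 : Module.length B (B ⧸ P ^ n) = Module.length B D' := e.toLinearEquiv.length_eq
    have h3 : Module.length B D' = Module.length D' D' := Module.length_eq_of_surjective (by
      intro z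
      obtain ⟨w, rfl⟩ := e.surjective z
      obtain ⟨b, rfl⟩ := Ideal.Quotient.mk_surjective w
      exact ⟨b, (e.commutes b).symm⟩)
    have h4 : Module.length Bp D' = Module.length D' D' :=
      Module.length_eq_of_surjective Ideal.Quotient.mk_surjective
    have h5 : Module.length Bp D' = n := IsDiscreteValuationRing.length_quotient_pow_maximalIdeal Bp n
    rw [← h1, h2, h3, ← h4, h5]
  rw [TraceLocalH2.trace_eq_length_mul (A ⧸ p) (Ideal.Quotient.mk (P ^ n) y), hlen,
    ENat.toNat_natCast, nsmul_eq_mul]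
  congr 1
  let φ : (B ⧸ P ^ n) →+* B ⧸ P := Ideal.Quotient.factor (Ideal.pow_le_self hn)
  haveI : IsLocalHom φ := ⟨by
    intro x hx
    obtain ⟨b, rfl⟩ := Ideal.Quotient.mk_surjective x
    have hb : b ∉ P := fun hb => by
      have h0 : φ (Ideal.Quotient.mk _ b) = 0 := by
        simpa [φ] using Ideal.Quotient.eq_zero_iff_mem.mpr hb
      exact hx.ne_zero h0
    exact Ideal.Quotient.isUnit_mk_pow_of_notMem P hb⟩
  let ψ : IsLocalRing.ResidueField (B ⧸ P ^ n) →+* B ⧸ P := IsLocalRing.ResidueField.lift φ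
  have hψ : Function.Bijective ψ := ⟨ψ.injective, by
    intro z
    obtain ⟨b, rfl⟩ := Ideal.Quotient.mk_surjective z
    exact ⟨IsLocalRing.residue _ (Ideal.Quotient.mk _ b), by simp [ψ, φ]⟩⟩
  let ψa : IsLocalRing.ResidueField (B ⧸ P ^ n) ≃ₐ[A ⧸ p] B ⧸ P :=
    AlgEquiv.ofBijective
      { ψ with
        commutes' := by
          intro c
          obtain ⟨a, rfl⟩ := Ideal.Quotient.mk_surjective c
          rfl } hψ
  rw [← Algebra.trace_eq_of_algEquiv ψa]
  congr 1

end PerPrime

section Main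

universe u

variable (A B : Type u) [CommRing A] [CommRing B] [IsDedekindDomain A] [IsDedekindDomain B]
  [Algebra A B] [Module.Finite A B] [Module.IsTorsionFree A B]

attribute [local instance] Ideal.Quotient.field

theorem main11081 (p : Ideal A) [p.IsMaximal] (hp : p ≠ ⊥) (y : B) :
    Ideal.Quotient.mk p (Algebra.intTrace A B y) =
      ∑ᶠ Q : p.primesOver B,
        Q.1.ramificationIdx A •
          Algebra.trace (A ⧸ p) (B ⧸ Q.1) (Ideal.Quotient.mk Q.1 y) := by
  classical
  have hI0 : p.map (algebraMap A B) ≠ ⊥ := Ideal.map_ne_bot_of_ne_bot hp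
  rw [← Algebra.trace_quotient_eq_of_isDedekindDomain B p y]
  let ι := {P // P ∈ (factors (p.map (algebraMap A B))).toFinset}
  have hmem : ∀ P : ι, (P : Ideal B) ∈ p.primesOver B := fun P =>
    (IsDedekindDomain.mem_primesOverFinset_iff hp B).mp P.2
  let c : ι → ℕ := fun P => Multiset.count (P : Ideal B) (factors (p.map (algebraMap A B)))
  have hc : ∀ P : ι, c P ≠ 0 := fun P =>
    (Multiset.count_pos.mpr (Multiset.mem_toFinset.mp P.2)).ne'
  let E : (B ⧸ p.map (algebraMap A B)) ≃+* ∀ P : ι, B ⧸ (P : Ideal B) ^ c P :=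
    IsDedekindDomain.quotientEquivPiFactors hI0
  have hle : ∀ P : ι, p ≤ ((P : Ideal B) ^ c P).comap (algebraMap A B) := by
    intro P a ha
    rw [Ideal.mem_comap, ← Ideal.Quotient.eq_zero_iff_mem]
    have h1 : Ideal.Quotient.mk (p.map (algebraMap A B)) (algebraMap A B a) = 0 :=
      Ideal.Quotient.eq_zero_iff_mem.mpr (Ideal.mem_map_of_mem _ ha)
    have h2 : E (Ideal.Quotient.mk (p.map (algebraMap A B)) (algebraMap A B a)) P = 0 := by
      rw [h1, map_zero]
      rfl
    exact h2
  letI : ∀ P : ι, Algebra (A ⧸ p) (B ⧸ (P : Ideal B) ^ c P) := fun P =>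
    Ideal.Quotient.algebraQuotientOfLEComap (hle P)
  let Ea : (B ⧸ p.map (algebraMap A B)) ≃ₐ[A ⧸ p] (∀ P : ι, B ⧸ (P : Ideal B) ^ c P) :=
    { E with
      commutes' := by
        intro x
        obtain ⟨a, rfl⟩ := Ideal.Quotient.mk_surjective x
        rfl }
  haveI : ∀ P : ι, IsScalarTower A (A ⧸ p) (B ⧸ (P : Ideal B) ^ c P) := fun P =>
    .of_algebraMap_eq' rfl
  haveI : ∀ P : ι, Module.Finite (A ⧸ p) (B ⧸ (P : Ideal B) ^ c P) := fun P =>
    Module.Finite.of_restrictScalars_finite A _ _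
  rw [← Algebra.trace_eq_of_algEquiv Ea, algebra_trace_pi]
  let σ : ι ≃ p.primesOver B :=
    Equiv.subtypeEquivRight (fun P => IsDedekindDomain.mem_primesOverFinset_iff hp B)
  rw [← finsum_comp_equiv σ, finsum_eq_sum_of_fintype]
  refine Finset.sum_congr rfl fun P _ => ?_
  haveI : (P : Ideal B).IsPrime := (hmem P).1
  haveI : (P : Ideal B).LiesOver p := (hmem P).2
  have hP0 : (P : Ideal B) ≠ ⊥ :=
    (prime_of_factor _ (Multiset.mem_toFinset.mp P.2)).ne_zero
  have hcount : (P : Ideal B).ramificationIdx A = c P :=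
    IsDedekindDomain.ramificationIdx_eq_factors_count p (P : Ideal B) hI0
  have h3 := trace_quot_pow p (P : Ideal B) hP0 (c P) (hc P) (hle P) y
  show Algebra.trace (A ⧸ p) (B ⧸ (P : Ideal B) ^ c P) (Ideal.Quotient.mk _ y) =
    (P : Ideal B).ramificationIdx A • Algebra.trace (A ⧸ p) (B ⧸ (P : Ideal B))
      (Ideal.Quotient.mk _ y)
  rw [hcount]
  exact h3

end Main

end Groth.Agent.Lib.TraceRamifH3
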