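import Groth.Statements.S10959
import Groth.Agent.Lib.KPtsOrbit_lead

/-! # Avoiding a proper closed subset by translation (lead) -/

set_option backward.isDefEq.respectTransparency false
set_option backward.isDefEq.respectTransparency.types false
set_option linter.unusedSimpArgs false
set_option linter.unusedVariables false
set_option linter.unusedSectionVars false
set_option linter.style.longLine false
set_option linter.style.haveILetI false
set_option maxHeartbeats 800000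

universe u

open CategoryTheory CategoryTheory.Limits MonoidalCategory CartesianMonoidalCategory MonObj GrpObj
  AlgebraicGeometry Opposite Topology

namespace Groth.Agent.Lib.TranslateAvoid

variable {S : Scheme.{u}}

theorem comp_pt {A B C : Over S} (φ : A ⟶ B) (ψ : B ⟶ C) (p : A.left) :
    (φ ≫ ψ).left p = ψ.left (φ.left p) := rfl

variable {A : Over S} [GrpObj A]

/-- right translation by a constant is invertible -/
theorem rt_inv (c : A ⟶ A) (hc : ∀ φ : A ⟶ A, φ ≫ c = c) :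
    (𝟙 A * c) ≫ (𝟙 A * c⁻¹) = 𝟙 A ∧ (𝟙 A * c⁻¹) ≫ (𝟙 A * c) = 𝟙 A := by
  constructor
  · rw [MonObj.comp_mul, Category.comp_id, GrpObj.comp_inv, hc, _root_.mul_inv_cancel_right]
  · rw [MonObj.comp_mul, Category.comp_id, hc, _root_.inv_mul_cancel_right]

theorem image_eq_preimage {f g : A ⟶ A} (h1 : f ≫ g = 𝟙 A) (h2 : g ≫ f = 𝟙 A) (Z : Set A.left) :
    f.left '' Z = g.left ⁻¹' Z := by
  ext y
  constructor
  · rintro ⟨w, hw, rfl⟩
    show g.left (f.left w) ∈ Z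
    rw [← comp_pt, h1]; exact hw
  · intro hy
    refine ⟨g.left y, hy, ?_⟩
    rw [← comp_pt, h2]; rfl

theorem main10959 (K : Type u) [Field K] [IsAlgClosed K] (A : Over (Spec (CommRingCat.of K)))
    [GrpObj A] [LocallyOfFiniteType A.hom] [IrreducibleSpace A.left]
    (Z : Set A.left) (hZ : IsClosed Z) (hZne : Z ≠ Set.univ)
    (z : 𝟙_ (Over (Spec (CommRingCat.of K))) ⟶ A) :
    ∃ x : 𝟙_ (Over (Spec (CommRingCat.of K))) ⟶ A,
      Disjoint (Set.range z.left)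
        ((𝟙 A * (toUnit A ≫ x)).left '' Z ∪ (𝟙 A * (toUnit A ≫ x)⁻¹).left '' Z) := by
  haveI : Subsingleton ↥(Spec (CommRingCat.of K)) :=
    inferInstanceAs (Subsingleton (PrimeSpectrum K))
  haveI : JacobsonSpace ↥A.left := LocallyOfFiniteType.jacobsonSpace A.hom
  -- left translation by `z`
  obtain ⟨l, hl⟩ : ∃ l : A ⟶ A, l = (toUnit A ≫ z) * 𝟙 A := ⟨_, rfl⟩
  obtain ⟨l', hl'⟩ : ∃ l' : A ⟶ A, l' = (toUnit A ≫ z)⁻¹ * 𝟙 A := ⟨_, rfl⟩
  have hconst : ∀ φ : A ⟶ A, φ ≫ (toUnit A ≫ z) = toUnit A ≫ z := by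
    intro φ
    rw [← Category.assoc, toUnit_unique (φ ≫ toUnit A) (toUnit A)]
  have hl'l : l' ≫ l = 𝟙 A := by
    rw [hl, hl', MonObj.comp_mul, Category.comp_id, hconst, _root_.mul_inv_cancel_left]
  have hlsurj : Function.Surjective l.left := by
    intro y
    refine ⟨l'.left y, ?_⟩
    rw [← comp_pt, hl'l]; rfl
  have hii : ι[A] ≫ ι[A] = 𝟙 A := by
    have h1 : ι[A] = (𝟙 A)⁻¹ := by rw [Hom.inv_def, Category.id_comp]
    have h2 : ι[A] ≫ ι[A] = (ι[A])⁻¹ := by rw [Hom.inv_def]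
    rw [h2, h1, _root_.inv_inv]
  have hisurj : Function.Surjective (ι[A]).left := by
    intro y
    refine ⟨(ι[A]).left y, ?_⟩
    rw [← comp_pt, hii]; rfl
  -- the two bad closed sets
  obtain ⟨Z₂, hZ₂⟩ : ∃ Z₂ : Set A.left, Z₂ = l.left ⁻¹' Z := ⟨_, rfl⟩
  obtain ⟨Z₁, hZ₁⟩ : ∃ Z₁ : Set A.left, Z₁ = (ι[A]).left ⁻¹' Z₂ := ⟨_, rfl⟩
  have hZ₂cl : IsClosed Z₂ := by rw [hZ₂]; exact hZ.preimage l.left.continuous
  have hZ₁cl : IsClosed Z₁ := by rw [hZ₁]; exact hZ₂cl.preimage (ι[A]).left.continuous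
  have hZ₂ne : ¬ (Set.univ ⊆ Z₂) := by
    intro h
    apply hZne
    rw [Set.eq_univ_iff_forall]
    intro y
    obtain ⟨w, rfl⟩ := hlsurj y
    have : w ∈ Z₂ := h trivial
    rw [hZ₂] at this
    exact this
  have hZ₁ne : ¬ (Set.univ ⊆ Z₁) := by
    intro h
    apply hZ₂ne
    intro y _
    obtain ⟨w, rfl⟩ := hisurj y
    have : w ∈ Z₁ := h trivial
    rw [hZ₁] at this
    exact this
  have hirr := (IrreducibleSpace.isIrreducible_univ ↥A.left).isPreirreducible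
  rw [isPreirreducible_iff_isClosed_union_isClosed] at hirr
  have hW : ((Z₁ ∪ Z₂)ᶜ).Nonempty := by
    by_contra hempty
    rw [Set.not_nonempty_iff_eq_empty, Set.compl_empty_iff] at hempty
    rcases hirr Z₁ Z₂ hZ₁cl hZ₂cl (by rw [hempty]) with h | h
    · exact hZ₁ne h
    · exact hZ₂ne h
  obtain ⟨x₁, hx₁W, hx₁cl⟩ :=
    nonempty_inter_closedPoints hW (hZ₁cl.union hZ₂cl).isOpen_compl.isLocallyClosed
  obtain ⟨x, hx⟩ : ∃ x : 𝟙_ (Over (Spec (CommRingCat.of K))) ⟶ A,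
      ∀ t : (𝟙_ (Over (Spec (CommRingCat.of K)))).left, x.left t = x₁ :=
    ⟨Over.homMk (pointOfClosedPoint A.hom x₁ hx₁cl)
      (by simpa using pointOfClosedPoint_comp A.hom x₁ hx₁cl),
      fun t => pointOfClosedPoint_apply A.hom x₁ hx₁cl t⟩
  refine ⟨x, ?_⟩
  obtain ⟨c, hc⟩ : ∃ c : A ⟶ A, c = toUnit A ≫ x := ⟨_, rfl⟩
  rw [← hc]
  have hcc : ∀ φ : A ⟶ A, φ ≫ c = c := by
    intro φ
    rw [hc, ← Category.assoc, toUnit_unique (φ ≫ toUnit A) (toUnit A)]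
  obtain ⟨h1, h2⟩ := rt_inv c hcc
  have hcinv : ∀ φ : A ⟶ A, φ ≫ c⁻¹ = c⁻¹ := by
    intro φ
    rw [GrpObj.comp_inv, hcc]
  have h3 : (𝟙 A * c⁻¹) ≫ (𝟙 A * c) = 𝟙 A := h2
  rw [image_eq_preimage h1 h2 Z]
  have h1' : (𝟙 A * c⁻¹) ≫ (𝟙 A * c⁻¹⁻¹) = 𝟙 A := by rw [_root_.inv_inv]; exact h2
  have h2' : (𝟙 A * c⁻¹⁻¹) ≫ (𝟙 A * c⁻¹) = 𝟙 A := by rw [_root_.inv_inv]; exact h1
  rw [image_eq_preimage h1' h2' Z, _root_.inv_inv]
  -- points
  have hzx : z ≫ (𝟙 A * c) = x ≫ l := by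
    rw [MonObj.comp_mul, Category.comp_id, hc, ← Category.assoc,
      toUnit_unique (z ≫ toUnit A) (𝟙 _), Category.id_comp, hl, MonObj.comp_mul, Category.comp_id,
      ← Category.assoc, toUnit_unique (x ≫ toUnit A) (𝟙 _), Category.id_comp]
  have hzxi : z ≫ (𝟙 A * c⁻¹) = (x ≫ ι[A]) ≫ l := by
    rw [MonObj.comp_mul, Category.comp_id, GrpObj.comp_inv, hc, ← Category.assoc,
      toUnit_unique (z ≫ toUnit A) (𝟙 _), Category.id_comp, hl, MonObj.comp_mul, Category.comp_id,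
      ← Category.assoc, toUnit_unique ((x ≫ ι[A]) ≫ toUnit A) (𝟙 _), Category.id_comp,
      Hom.inv_def]
  rw [Set.disjoint_left]
  rintro _ ⟨t, rfl⟩ hmem
  have hx₁1 : x₁ ∉ Z₁ := fun h => hx₁W (Or.inl h)
  have hx₁2 : x₁ ∉ Z₂ := fun h => hx₁W (Or.inr h)
  rcases hmem with hm | hm
  · -- `z ∈ (𝟙 * c⁻¹) ⁻¹' Z`
    apply hx₁1
    rw [hZ₁, hZ₂]
    show l.left ((ι[A]).left x₁) ∈ Z
    have e : (𝟙 A * c⁻¹).left (z.left t) = l.left ((ι[A]).left (x.left t)) := by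
      rw [← comp_pt, hzxi]; rfl
    rw [← hx t, ← e]; exact hm
  · apply hx₁2
    rw [hZ₂]
    show l.left x₁ ∈ Z
    have e : (𝟙 A * c).left (z.left t) = l.left (x.left t) := by
      rw [← comp_pt, hzx]; rfl
    rw [← hx t, ← e]; exact hm

end Groth.Agent.Lib.TranslateAvoid
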