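import Groth.Agent.Lib.TrigStruct_helper1

/-!
# Trigonalizable groups: the kernel of the map to the diagonalizable quotient is unipotent (helper1)
-/

set_option autoImplicit false
set_option maxHeartbeats 1000000

universe u

open TensorProduct

namespace TrigStrH1

open HopfNrmH1 Groth.Agent.Lib.HopfFFH1 Groth.Agent.Lib.Comod_helper9
  Groth.Agent.Lib.ComodFlag_helper9 Groth.Agent.Lib.ComodDual_helper9 ChevH1

section TFlagSec

variable {k : Type u} [Field k] {D : Type u} [CommRing D] [Bialgebra k D]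
  {V : Type u} [AddCommGroup V] [Module k V]

/-- flags whose steps carry the trivial character -/
inductive TFlag (c : HopfRep.Comod k D V) : Submodule k V → Prop
  | bot : TFlag c ⊥
  | step (P : Submodule k V) (q : V) : TFlag c P →
      c.coact q - q ⊗ₜ[k] (1 : D) ∈ LinearMap.range (P.subtype.rTensor D) →
      TFlag c (P ⊔ Submodule.span k {q})

theorem range_rTensor_mono {P Q : Submodule k V} (h : P ≤ Q) :
    LinearMap.range (P.subtype.rTensor D) ≤ LinearMap.range (Q.subtype.rTensor D) := by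
  rintro _ ⟨y, rfl⟩
  refine ⟨(Submodule.inclusion h).rTensor D y, ?_⟩
  rw [← LinearMap.rTensor_comp_apply, Submodule.subtype_comp_inclusion]

theorem mkQ_rTensor_eq_zero (P : Submodule k V) (y : V ⊗[k] D)
    (hy : y ∈ LinearMap.range (P.subtype.rTensor D)) : (P.mkQ).rTensor D y = 0 := by
  obtain ⟨z, rfl⟩ := hy
  rw [← LinearMap.rTensor_comp_apply]
  have h : P.mkQ ∘ₗ P.subtype = 0 := by
    ext x
    simp
  rw [h, LinearMap.rTensor_zero, LinearMap.zero_apply]

theorem TFlag.isSubcomod {c : HopfRep.Comod k D V} {Q : Submodule k V} (h : TFlag c Q) :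
    @HopfRep.IsSubcomod k D _ _ _ _ V _ _ c Q := by
  induction h with
  | bot =>
    intro w hw
    rw [(Submodule.mem_bot k).mp hw, map_zero]
    exact Submodule.zero_mem _
  | step P q hP hq ih =>
    intro x hx
    obtain ⟨p, hp, z, hz, rfl⟩ := Submodule.mem_sup.mp hx
    obtain ⟨α, rfl⟩ := Submodule.mem_span_singleton.mp hz
    rw [map_add, map_smul]
    refine Submodule.add_mem _ (range_rTensor_mono le_sup_left (ih p hp))
      (Submodule.smul_mem _ _ ?_)
    have e : c.coact q = (c.coact q - q ⊗ₜ[k] (1 : D)) + q ⊗ₜ[k] (1 : D) := by abel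
    rw [e]
    refine Submodule.add_mem _ (range_rTensor_mono le_sup_left hq) ?_
    exact ⟨(⟨q, Submodule.mem_sup_right (Submodule.mem_span_singleton_self q)⟩ :
      ↥(P ⊔ Submodule.span k {q})) ⊗ₜ[k] 1, rfl⟩

theorem TFlag.map {V' : Type u} [AddCommGroup V'] [Module k V'] {c : HopfRep.Comod k D V}
    {d : HopfRep.Comod k D V'} (g : V →ₗ[k] V')
    (hg : ∀ v, d.coact (g v) = g.rTensor D (c.coact v)) {Q : Submodule k V} (h : TFlag c Q) :
    TFlag d (Q.map g) := by
  induction h with
  | bot => rw [Submodule.map_bot]; exact TFlag.bot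
  | step P q hP hq ih =>
    have e : (P ⊔ Submodule.span k {q}).map g = P.map g ⊔ Submodule.span k {g q} := by
      rw [Submodule.map_sup, Submodule.map_span, Set.image_singleton]
    rw [e]
    refine TFlag.step _ _ ih ?_
    obtain ⟨y, hy⟩ := hq
    refine ⟨(g.submoduleMap P).rTensor D y, ?_⟩
    rw [← LinearMap.rTensor_comp_apply]
    have e2 : (P.map g).subtype ∘ₗ g.submoduleMap P = g ∘ₗ P.subtype := by
      ext x
      rfl
    rw [e2, LinearMap.rTensor_comp_apply, hy, map_sub, LinearMap.rTensor_tmul, hg]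

theorem TFlag.eq_one {c : HopfRep.Comod k D V} {Q : Submodule k V} (h : TFlag c Q) :
    ∀ s ∈ Q, s ≠ 0 → ∀ c' : D, c.coact s = s ⊗ₜ[k] c' → c' = 1 := by
  induction h with
  | bot =>
    intro s hs hne
    exact absurd ((Submodule.mem_bot k).mp hs) hne
  | step P q hP hq ih =>
    intro s hs hne c' hc
    by_cases hsP : s ∈ P
    · exact ih s hsP hne c' hc
    · obtain ⟨p, hp, z, hz, hpz⟩ := Submodule.mem_sup.mp hs
      obtain ⟨α, rfl⟩ := Submodule.mem_span_singleton.mp hz
      have hp0 : P.mkQ p = 0 := (Submodule.Quotient.mk_eq_zero P).mpr hp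
      have h1 : (P.mkQ).rTensor D (c.coact s) = P.mkQ s ⊗ₜ[k] (1 : D) := by
        have e : c.coact q = (c.coact q - q ⊗ₜ[k] (1 : D)) + q ⊗ₜ[k] (1 : D) := by abel
        rw [← hpz, map_add, map_smul, map_add, map_smul,
          mkQ_rTensor_eq_zero P _ (hP.isSubcomod p hp), zero_add, e, map_add,
          mkQ_rTensor_eq_zero P _ hq, zero_add, LinearMap.rTensor_tmul, map_add, map_smul, hp0,
          zero_add, TensorProduct.smul_tmul']
      rw [hc, LinearMap.rTensor_tmul] at h1
      have h2 : P.mkQ s ⊗ₜ[k] (c' - 1) = 0 := by rw [TensorProduct.tmul_sub, h1, sub_self]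
      have h3 : P.mkQ s ≠ 0 := by
        intro h0
        exact hsP ((Submodule.Quotient.mk_eq_zero P).mp h0)
      exact sub_eq_zero.mp (tmul_left_eq_zero (P.mkQ s) _ h3 h2)

end TFlagSec

section Push

variable {k : Type u} [Field k] {A D : Type u} [CommRing A] [HopfAlgebra k A] [CommRing D]
  [HopfAlgebra k D] {V : Type u} [AddCommGroup V] [Module k V]

theorem decomp_sup_span (P : Submodule k V) (q : V) (t : V ⊗[k] A)
    (ht : t ∈ LinearMap.range ((P ⊔ Submodule.span k {q}).subtype.rTensor A)) :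
    ∃ (χ : A) (y : P ⊗[k] A), t = q ⊗ₜ[k] χ + P.subtype.rTensor A y := by
  obtain ⟨z, rfl⟩ := ht
  induction z using TensorProduct.induction_on with
  | zero => exact ⟨0, 0, by simp⟩
  | add z₁ z₂ h₁ h₂ =>
    obtain ⟨χ₁, y₁, e₁⟩ := h₁
    obtain ⟨χ₂, y₂, e₂⟩ := h₂
    refine ⟨χ₁ + χ₂, y₁ + y₂, ?_⟩
    rw [map_add, e₁, e₂, TensorProduct.tmul_add, map_add]
    abel
  | tmul x a =>
    obtain ⟨p, hp, z, hz, hpz⟩ := Submodule.mem_sup.mp x.2
    obtain ⟨α, rfl⟩ := Submodule.mem_span_singleton.mp hz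
    refine ⟨α • a, (⟨p, hp⟩ : P) ⊗ₜ[k] a, ?_⟩
    rw [LinearMap.rTensor_tmul, LinearMap.rTensor_tmul, Submodule.subtype_apply,
      Submodule.subtype_apply, ← hpz, TensorProduct.add_tmul, TensorProduct.smul_tmul, add_comm]

theorem tflag_of_flag (π : A →ₐc[k] D) (hχ : ∀ χ : A, IsGroupLikeElem k χ → π χ = 1)
    {c : HopfRep.Comod k A V} {Q : Submodule k V} (h : TrigFlag9.Flag c Q) :
    TFlag (comodPush (π : A →ₗc[k] D) c) Q := by
  induction h with
  | bot => exact TFlag.bot
  | step P q hP hs ih =>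
    by_cases hq : q ∈ P
    · have e : P ⊔ Submodule.span k {q} = P :=
        sup_eq_left.mpr ((Submodule.span_singleton_le_iff_mem q P).mpr hq)
      rw [e]
      exact ih
    · obtain ⟨χ, y, hy⟩ := decomp_sup_span P q (c.coact q)
        (hs q (Submodule.mem_sup_right (Submodule.mem_span_singleton_self q)))
      have hPsub := hP.isSubcomod
      have hgl : IsGroupLikeElem k χ := by
        refine isGroupLike_of_eigen (ComodSub.Comod.quot c P hPsub) (P.mkQ q) ?_ χ ?_
        · intro h0
          exact hq ((Submodule.Quotient.mk_eq_zero P).mp h0)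
        · show (P.mkQ).rTensor A (c.coact q) = _
          rw [hy, map_add, LinearMap.rTensor_tmul,
            mkQ_rTensor_eq_zero P _ ⟨y, rfl⟩, add_zero]
      refine TFlag.step P q ih ?_
      refine ⟨((π : A →ₗc[k] D) : A →ₗ[k] D).lTensor P y, ?_⟩
      show _ = ((π : A →ₗc[k] D) : A →ₗ[k] D).lTensor V (c.coact q) - q ⊗ₜ[k] (1 : D)
      have h1 : ((π : A →ₗc[k] D) : A →ₗ[k] D) χ = 1 := hχ χ hgl
      rw [hy, map_add, LinearMap.lTensor_tmul, ComodTens.lTensor_rTensor_comm, h1,
        add_sub_cancel_left]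

theorem groupLike_eq_one (hT : TrigFlag9.Trig k A) (π : A →ₐc[k] D)
    (hπ : Function.Surjective π) (hχ : ∀ χ : A, IsGroupLikeElem k χ → π χ = 1) (c' : D)
    (hc : IsGroupLikeElem k c') : c' = 1 := by
  obtain ⟨a, rfl⟩ := hπ c'
  obtain ⟨W, hW, hMW, hWfg⟩ := Groth.Agent.Lib.IndHom_helper9.exists_fg_subcomod (k := k)
    (C := A) A (Submodule.span k {a}) (Submodule.fg_span_singleton a)
  haveI : Module.Finite k W := Module.Finite.iff_fg.mpr hWfg
  have haW : a ∈ W := hMW (Submodule.mem_span_singleton_self a)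
  have hflag : TrigFlag9.Flag (ComodSub.Comod.restr (HopfRep.Comod.regular k A) W hW) ⊤ :=
    TrigFlag9.flag_top hT _ W _ inferInstance rfl
  have htf := tflag_of_flag π hχ hflag
  have h4 : ∀ y : W ⊗[k] A, TensorProduct.map ((π : A →ₗc[k] D) : A →ₗ[k] D)
      ((π : A →ₗc[k] D) : A →ₗ[k] D) (W.subtype.rTensor A y) =
      (((π : A →ₗc[k] D) : A →ₗ[k] D) ∘ₗ W.subtype).rTensor D
        (((π : A →ₗc[k] D) : A →ₗ[k] D).lTensor W y) := by
    intro y
    induction y using TensorProduct.induction_on with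
    | zero => simp
    | add x y hx hy => simp only [map_add, hx, hy]
    | tmul x c => simp
  have hg : ∀ w : W, (HopfRep.Comod.regular k D).coact
      ((((π : A →ₗc[k] D) : A →ₗ[k] D) ∘ₗ W.subtype) w) =
      (((π : A →ₗc[k] D) : A →ₗ[k] D) ∘ₗ W.subtype).rTensor D
        ((comodPush (π : A →ₗc[k] D)
          (ComodSub.Comod.restr (HopfRep.Comod.regular k A) W hW)).coact w) := by
    intro w
    have h1 := ComodSub.restr_coact_coe (HopfRep.Comod.regular k A) W hW w
    have h2 : Coalgebra.comul (R := k) (π (w : A)) =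
        TensorProduct.map ((π : A →ₗc[k] D) : A →ₗ[k] D) ((π : A →ₗc[k] D) : A →ₗ[k] D)
          (Coalgebra.comul (R := k) (w : A)) :=
      (CoalgHomClass.map_comp_comul_apply π (w : A)).symm
    show Coalgebra.comul (R := k) (π (w : A)) = _
    rw [h2]
    have h3 : Coalgebra.comul (R := k) (w : A) = W.subtype.rTensor A
        ((ComodSub.Comod.restr (HopfRep.Comod.regular k A) W hW).coact w) := h1.symm
    rw [h3, h4]
    rfl
  have htD := TFlag.map (((π : A →ₗc[k] D) : A →ₗ[k] D) ∘ₗ W.subtype) hg htf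
  exact TFlag.eq_one htD (π a) ⟨⟨a, haW⟩, trivial, rfl⟩ hc.ne_zero (π a)
    hc.comul_eq_tmul_self

theorem exists_tmul_of_generator {L : Type u} [AddCommGroup L] [Module k L] (e : L)
    (he : ∀ w : L, ∃ α : k, α • e = w) (y : L ⊗[k] D) : ∃ c : D, y = e ⊗ₜ[k] c := by
  induction y using TensorProduct.induction_on with
  | zero => exact ⟨0, by simp⟩
  | add y₁ y₂ h₁ h₂ =>
    obtain ⟨c₁, e₁⟩ := h₁
    obtain ⟨c₂, e₂⟩ := h₂
    exact ⟨c₁ + c₂, by rw [e₁, e₂, TensorProduct.tmul_add]⟩
  | tmul w d =>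
    obtain ⟨α, rfl⟩ := he w
    exact ⟨α • d, TensorProduct.smul_tmul _ _ _⟩

theorem isUnipotent_of (hTD : TrigFlag9.Trig k D)
    (h1 : ∀ c' : D, IsGroupLikeElem k c' → c' = 1) : HopfRep.IsUnipotent k D := by
  intro V _ _ cV hfin hnt
  haveI := hfin
  haveI := hnt
  obtain ⟨L, hL, hne, hmin⟩ := exists_minimal_subcomod (k := k) (C := D) (V := V)
  have hsimple := isSimpleComod_restr_of_minimal cV L hL hne hmin
  have h1' : Module.finrank k L = 1 :=
    @hTD L _ _ (ComodSub.Comod.restr cV L hL) inferInstance hsimple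
  obtain ⟨⟨q₀, hq₀L⟩, hq₀ne, hq₀⟩ := finrank_eq_one_iff'.mp h1'
  obtain ⟨y, hy⟩ := hL q₀ hq₀L
  obtain ⟨c, rfl⟩ := exists_tmul_of_generator (D := D) (⟨q₀, hq₀L⟩ : L) hq₀ y
  rw [LinearMap.rTensor_tmul, Submodule.subtype_apply] at hy
  have hq0 : q₀ ≠ 0 := by
    intro h0
    apply hq₀ne
    exact Subtype.ext h0
  have hgl := isGroupLike_of_eigen cV q₀ hq0 c hy.symm
  rw [h1 c hgl] at hy
  intro hbot
  have hmem : q₀ ∈ HopfRep.fixedPts k D V := hy.symm
  rw [hbot] at hmem
  exact hq0 ((Submodule.mem_bot k).mp hmem)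

end Push

section Forward

variable {k : Type u} [Field k] {A : Type u} [CommRing A] [HopfAlgebra k A]

/-- the subalgebra generated (= spanned) by the group-like elements -/
def glSub (k : Type u) [Field k] (A : Type u) [CommRing A] [HopfAlgebra k A] : Subalgebra k A :=
  Algebra.adjoin k {χ : A | IsGroupLikeElem k χ}

/-- the group-like elements as a submonoid -/
def glMon (k : Type u) [Field k] (A : Type u) [CommRing A] [HopfAlgebra k A] : Submonoid A where
  carrier := {χ : A | IsGroupLikeElem k χ}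
  mul_mem' := fun ha hb => ha.mul hb
  one_mem' := IsGroupLikeElem.one

theorem glSub_toSubmodule :
    Subalgebra.toSubmodule (glSub k A) = Submodule.span k {χ : A | IsGroupLikeElem k χ} := by
  rw [glSub, Algebra.adjoin_eq_span]
  have h := Submonoid.closure_eq (glMon k A)
  have h2 : (Submonoid.closure {χ : A | IsGroupLikeElem k χ} : Set A) =
      {χ : A | IsGroupLikeElem k χ} := congrArg (fun M : Submonoid A => (M : Set A)) h
  rw [h2]

instance isHopfSub_glSub : IsHopfSub (glSub k A) where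
  comul_mem := by
    intro b hb
    have h : glSub k A ≤ Subalgebra.comap (Bialgebra.comulAlgHom k A)
        (Algebra.TensorProduct.map (glSub k A).val (glSub k A).val).range := by
      apply Algebra.adjoin_le
      intro χ hχ
      show Bialgebra.comulAlgHom k A χ ∈
        (Algebra.TensorProduct.map (glSub k A).val (glSub k A).val).range
      rw [Bialgebra.comulAlgHom_apply, IsGroupLikeElem.comul_eq_tmul_self hχ]
      exact ⟨(⟨χ, Algebra.subset_adjoin hχ⟩ : glSub k A) ⊗ₜ[k]
        (⟨χ, Algebra.subset_adjoin hχ⟩ : glSub k A), rfl⟩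
    exact h hb
  antipode_mem := by
    intro b hb
    have h : glSub k A ≤ Subalgebra.comap (HopfAlgebra.antipodeAlgHom k A) (glSub k A) := by
      apply Algebra.adjoin_le
      intro χ hχ
      exact Algebra.subset_adjoin (IsGroupLikeElem.antipode hχ)
    exact h hb

theorem isGroupLike_sub (χ : A) (hχ : IsGroupLikeElem k χ) :
    IsGroupLikeElem k (⟨χ, Algebra.subset_adjoin hχ⟩ : ↥(glSub k A)) := by
  have hinj : Function.Injective (glSub k A).val.toLinearMap := Subtype.val_injective
  have hinj2 := TensorProduct.map_injective_of_flat_flat _ _ hinj hinj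
  constructor
  · have h := CoalgHomClass.counit_comp_apply (subVal (glSub k A))
      (⟨χ, Algebra.subset_adjoin hχ⟩ : ↥(glSub k A))
    rw [← h]
    exact hχ.counit_eq_one
  · apply hinj2
    have h := CoalgHomClass.map_comp_comul_apply (subVal (glSub k A))
      (⟨χ, Algebra.subset_adjoin hχ⟩ : ↥(glSub k A))
    rw [TensorProduct.map_tmul]
    exact h.trans hχ.comul_eq_tmul_self

theorem isDiagonalizable_glSub : HopfRep.IsDiagonalizable k ↥(glSub k A) := by
  show Submodule.span k {b : ↥(glSub k A) | IsGroupLikeElem k b} = ⊤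
  rw [eq_top_iff]
  have hinj : Function.Injective (glSub k A).val.toLinearMap := Subtype.val_injective
  rw [← Submodule.map_le_map_iff_of_injective hinj, Submodule.map_span]
  rintro _ ⟨b, _, rfl⟩
  have hb : (b : A) ∈ Subalgebra.toSubmodule (glSub k A) := b.2
  rw [glSub_toSubmodule] at hb
  refine Submodule.span_mono ?_ hb
  intro χ hχ
  exact ⟨⟨χ, Algebra.subset_adjoin hχ⟩, isGroupLike_sub χ hχ, rfl⟩

theorem exists_of_trig (hT : HopfRep.IsTrigonalizable k A) :
    ∃ (B : Type u) (_ : CommRing B) (_ : HopfAlgebra k B) (ψ : B →ₐc[k] A) (J : Ideal A)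
      (_ : J.IsHopfIdeal k),
      Function.Injective ψ ∧ HopfRep.IsDiagonalizable k B ∧
        J = Ideal.map (ψ : B →+* A) (RingHom.ker (Bialgebra.counitAlgHom k B)) ∧
        HopfRep.IsUnipotent k (A ⧸ J) := by
  refine ⟨↥(glSub k A), inferInstance, inferInstance, subVal (glSub k A),
    augIdeal (subVal (glSub k A)), augIdeal_isHopfIdeal (subVal (glSub k A)),
    Subtype.val_injective,
    isDiagonalizable_glSub, rfl, ?_⟩
  have hTA : TrigFlag9.Trig k A := hT
  have hsurj : Function.Surjective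
      (Bialgebra.Quotient.mkBialgHom (augIdeal (subVal (glSub k A))) :
        A →ₐc[k] A ⧸ augIdeal (subVal (glSub k A))) :=
    mkBialgHom_surjective (k := k) (augIdeal (subVal (glSub k A)))
  have hχ : ∀ χ : A, IsGroupLikeElem k χ →
      (Bialgebra.Quotient.mkBialgHom (augIdeal (subVal (glSub k A))) :
        A →ₐc[k] A ⧸ augIdeal (subVal (glSub k A))) χ = 1 := by
    intro χ hgl
    have h1 := sub_counit_mem_augIdeal (subVal (glSub k A))
      (⟨χ, Algebra.subset_adjoin hgl⟩ : ↥(glSub k A))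
    rw [(isGroupLike_sub χ hgl).counit_eq_one, map_one] at h1
    have h2 : Ideal.Quotient.mk (augIdeal (subVal (glSub k A))) (χ - 1) = 0 :=
      Ideal.Quotient.eq_zero_iff_mem.mpr h1
    rw [map_sub, map_one, sub_eq_zero] at h2
    exact h2
  have hTD : TrigFlag9.Trig k (A ⧸ augIdeal (subVal (glSub k A))) :=
    TrigFlag9.trig_of_surjective
      ((Bialgebra.Quotient.mkBialgHom (augIdeal (subVal (glSub k A))) :
        A →ₐc[k] A ⧸ augIdeal (subVal (glSub k A))) :
        A →ₗc[k] A ⧸ augIdeal (subVal (glSub k A))) hsurj hTA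
  exact isUnipotent_of hTD (groupLike_eq_one hTA _ hsurj hχ)

theorem s7967 (k A : Type u) [Field k] [CommRing A] [HopfAlgebra k A] :
    HopfRep.IsTrigonalizable k A ↔
      ∃ (B : Type u) (_ : CommRing B) (_ : HopfAlgebra k B) (ψ : B →ₐc[k] A) (J : Ideal A)
        (_ : J.IsHopfIdeal k),
        Function.Injective ψ ∧ HopfRep.IsDiagonalizable k B ∧
          J = Ideal.map (ψ : B →+* A) (RingHom.ker (Bialgebra.counitAlgHom k B)) ∧
          HopfRep.IsUnipotent k (A ⧸ J) := by
  constructor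
  · exact exists_of_trig
  · rintro ⟨B, _, _, ψ, J, _, _, hB, hJ, hU⟩
    subst hJ
    exact trig_of_exists ψ hB hU

end Forward

end TrigStrH1
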