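import Groth.Agent.Lib.TrigStruct2_helper1
import Groth.Agent.Lib.UnipFlag_helper9

/-!
# Unipotent groups: subgroups, quotients and extensions (helper1)
-/

set_option autoImplicit false
set_option maxHeartbeats 1000000

universe u

open TensorProduct

namespace TrigStrH1

open HopfNrmH1 Groth.Agent.Lib.HopfFFH1 Groth.Agent.Lib.Comod_helper9
  Groth.Agent.Lib.ComodFlag_helper9 Groth.Agent.Lib.ComodDual_helper9 ChevH1

section UnipBasic

variable {k : Type u} [Field k] {A : Type u} [CommRing A] [HopfAlgebra k A]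

theorem trig_of_isUnipotent (hU : HopfRep.IsUnipotent k A) : TrigFlag9.Trig k A := by
  intro V _ _ cV hfin hsimple
  haveI := hfin
  haveI : Nontrivial V := hsimple.1
  have hfix := @hU V _ _ cV hfin inferInstance
  have hsub := Groth.Agent.Lib.UnipFlag_helper9.isSubcomod_fixedPts' (k := k) (A := A) V
  have hall : ∀ v : V, cV.coact v = v ⊗ₜ[k] (1 : A) := by
    intro v
    rcases hsimple.2 _ hsub with h0 | h1
    · exact absurd h0 hfix
    · have hv : v ∈ HopfRep.fixedPts k A V := by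
        rw [h1]
        trivial
      exact hv
  obtain ⟨v, hv⟩ := exists_ne (0 : V)
  rcases hsimple.2 _ (isSubcomod_span_eigen cV v 1 (hall v)) with h0 | h1
  · exact absurd (Submodule.span_singleton_eq_bot.mp h0) hv
  · have h2 := finrank_span_singleton (K := k) hv
    rw [h1, finrank_top] at h2
    exact h2

theorem groupLike_eq_one_of_isUnipotent (hU : HopfRep.IsUnipotent k A) (χ : A)
    (hχ : IsGroupLikeElem k χ) : χ = 1 := by
  have hfix := @hU k _ _ (ComodTens.Comod.ofGroupLike χ hχ) inferInstance inferInstance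
  obtain ⟨x, hx, hx0⟩ := (Submodule.ne_bot_iff _).mp hfix
  have h1 : x ⊗ₜ[k] χ = x ⊗ₜ[k] (1 : A) := hx
  have h2 : x ⊗ₜ[k] (χ - 1) = 0 := by rw [TensorProduct.tmul_sub, h1, sub_self]
  exact sub_eq_zero.mp (tmul_left_eq_zero x _ hx0 h2)

theorem isUnipotent_of_surjective {B : Type u} [CommRing B] [HopfAlgebra k B] (φ : A →ₐc[k] B)
    (hφ : Function.Surjective φ) (hU : HopfRep.IsUnipotent k A) : HopfRep.IsUnipotent k B := by
  have hTA := trig_of_isUnipotent hU
  have hχ : ∀ χ : A, IsGroupLikeElem k χ → φ χ = 1 := by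
    intro χ hgl
    rw [groupLike_eq_one_of_isUnipotent hU χ hgl, map_one]
  exact isUnipotent_of (TrigFlag9.trig_of_surjective (φ : A →ₗc[k] B) hφ hTA)
    (groupLike_eq_one hTA φ hφ hχ)

theorem isUnipotent_of_injective {C : Type u} [CommRing C] [HopfAlgebra k C] (ψ : C →ₐc[k] A)
    (hψ : Function.Injective ψ) (hU : HopfRep.IsUnipotent k A) : HopfRep.IsUnipotent k C := by
  intro V _ _ cV hfin hnt
  have hfix := @hU V _ _ (comodPush (ψ : C →ₗc[k] A) cV) hfin hnt
  obtain ⟨v, hv, hv0⟩ := (Submodule.ne_bot_iff _).mp hfix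
  have h1 : ((ψ : C →ₗc[k] A) : C →ₗ[k] A).lTensor V (cV.coact v) = v ⊗ₜ[k] (1 : A) := hv
  have hinj : Function.Injective (((ψ : C →ₗc[k] A) : C →ₗ[k] A).lTensor V) :=
    Module.Flat.lTensor_preserves_injective_linearMap _ hψ
  have h2 : cV.coact v = v ⊗ₜ[k] (1 : C) := by
    apply hinj
    rw [h1, LinearMap.lTensor_tmul]
    congr 1
    exact (map_one ψ).symm
  intro hbot
  have hmem : v ∈ HopfRep.fixedPts k C V := h2
  rw [hbot] at hmem
  exact hv0 ((Submodule.mem_bot k).mp hmem)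

end UnipBasic

section Ext

variable {k : Type u} [Field k] {A C : Type u} [CommRing A] [HopfAlgebra k A] [CommRing C]
  [HopfAlgebra k C]

theorem exists_comod_of_range (i : C →ₗc[k] A) (hi : Function.Injective i) {V : Type u}
    [AddCommGroup V] [Module k V] (d : HopfRep.Comod k A V)
    (h : ∀ v, d.coact v ∈ LinearMap.range ((i : C →ₗ[k] A).lTensor V)) :
    ∃ c : HopfRep.Comod k C V, ∀ v, (i : C →ₗ[k] A).lTensor V (c.coact v) = d.coact v := by
  have hinj : Function.Injective ((i : C →ₗ[k] A).lTensor V) :=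
    Module.Flat.lTensor_preserves_injective_linearMap _ hi
  have hρ : (i : C →ₗ[k] A).lTensor V ∘ₗ
      (((LinearEquiv.ofInjective ((i : C →ₗ[k] A).lTensor V) hinj).symm : _ →ₗ[k] _) ∘ₗ
        (LinearMap.codRestrict (LinearMap.range ((i : C →ₗ[k] A).lTensor V)) d.coact h)) =
      d.coact := by
    apply LinearMap.ext
    intro v
    exact congrArg Subtype.val
      ((LinearEquiv.ofInjective ((i : C →ₗ[k] A).lTensor V) hinj).apply_symm_apply
        ⟨d.coact v, h v⟩)
  exact ⟨comodOfLTensorEq i hi d _ hρ, fun v => LinearMap.congr_fun hρ v⟩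

theorem isUnipotent_of_extension (ψ : C →ₐc[k] A) (hψ : Function.Injective ψ)
    (hC : HopfRep.IsUnipotent k C) (hN : HopfRep.IsUnipotent k (A ⧸ augIdeal ψ)) :
    HopfRep.IsUnipotent k A := by
  intro V _ _ cV hfin hnt
  haveI := hfin
  have hfix := @hN V _ _ (comodPush ((Bialgebra.Quotient.mkBialgHom (augIdeal ψ) :
    A →ₐc[k] A ⧸ augIdeal ψ) : A →ₗc[k] A ⧸ augIdeal ψ) cV) hfin hnt
  obtain ⟨W, hWdef⟩ : ∃ W : Submodule k V, W = @HopfRep.fixedPts k (A ⧸ augIdeal ψ) _ _ _ V _ _
      (comodPush ((Bialgebra.Quotient.mkBialgHom (augIdeal ψ) :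
        A →ₐc[k] A ⧸ augIdeal ψ) : A →ₗc[k] A ⧸ augIdeal ψ) cV) := ⟨_, rfl⟩
  have hmemW : ∀ v, v ∈ W ↔ LinearMap.lTensor V (Ideal.Quotient.mkₐ k (augIdeal ψ)).toLinearMap
      (cV.coact v) = v ⊗ₜ[k] (1 : A ⧸ augIdeal ψ) := by
    intro v
    rw [hWdef]
    exact Iff.rfl
  have hWne : W ≠ ⊥ := by
    rw [hWdef]
    exact hfix
  have hWsub : HopfRep.IsSubcomod (k := k) (A := A) W :=
    PointAct9.isSubcomod_fixed_of_normal (augIdeal ψ) (normal_augIdeal ψ) W hmemW
  have hWfin : Module.Finite k W := inferInstance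
  have hWnt : Nontrivial W := Submodule.nontrivial_iff_ne_bot.mpr hWne
  have hcoefW : ∀ (l : Module.Dual k W) (w : W),
      cf (ComodSub.Comod.restr cV W hWsub) l w ∈ (ψ : C →ₐ[k] A).range := by
    intro l w
    apply mem_range_of_coinv ψ
    have hw : LinearMap.lTensor W (Ideal.Quotient.mkₐ k (augIdeal ψ)).toLinearMap
        ((ComodSub.Comod.restr cV W hWsub).coact w) = w ⊗ₜ[k] 1 := by
      have hinj : Function.Injective (W.subtype.rTensor (A ⧸ augIdeal ψ)) :=
        Module.Flat.rTensor_preserves_injective_linearMap _ W.injective_subtype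
      apply hinj
      rw [← ComodTens.lTensor_rTensor_comm, ComodSub.restr_coact_coe, LinearMap.rTensor_tmul,
        Submodule.subtype_apply]
      exact (hmemW w).mp w.2
    rw [comul_cf, ComodTens.lTensor_rTensor_comm, hw, LinearMap.rTensor_tmul]
  have hrange : ∀ w : W, (ComodSub.Comod.restr cV W hWsub).coact w ∈
      LinearMap.range (((ψ : C →ₗc[k] A) : C →ₗ[k] A).lTensor W) := by
    intro w
    choose b hb using fun i =>
      (AlgHom.mem_range _).mp (hcoefW ((Module.finBasis k W).coord i) w)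
    refine ⟨∑ i, (Module.finBasis k W) i ⊗ₜ[k] b i, ?_⟩
    rw [map_sum, ← sum_coef (Module.finBasis k W) ((ComodSub.Comod.restr cV W hWsub).coact w)]
    refine Finset.sum_congr rfl fun i _ => ?_
    rw [LinearMap.lTensor_tmul]
    congr 1
    exact hb i
  obtain ⟨c, hc⟩ := exists_comod_of_range (ψ : C →ₗc[k] A) hψ
    (ComodSub.Comod.restr cV W hWsub) hrange
  have hfixC := @hC W _ _ c hWfin hWnt
  obtain ⟨w, hw, hw0⟩ := (Submodule.ne_bot_iff _).mp hfixC
  have hw1 : c.coact w = w ⊗ₜ[k] (1 : C) := hw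
  have hw2 : (ComodSub.Comod.restr cV W hWsub).coact w = w ⊗ₜ[k] (1 : A) := by
    rw [← hc w, hw1, LinearMap.lTensor_tmul]
    congr 1
    exact map_one ψ
  have hw3 : cV.coact (w : V) = (w : V) ⊗ₜ[k] (1 : A) := by
    rw [← ComodSub.restr_coact_coe cV W hWsub w, hw2, LinearMap.rTensor_tmul,
      Submodule.subtype_apply]
  intro hbot
  have hmem : (w : V) ∈ HopfRep.fixedPts k A V := hw3
  rw [hbot] at hmem
  exact hw0 (Subtype.ext ((Submodule.mem_bot k).mp hmem))

end Ext

section S5422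

theorem s5422 (k : Type u) [Field k] (A : Type u) [CommRing A] [HopfAlgebra k A] :
    (∀ (B : Type u) [CommRing B] [HopfAlgebra k B] (φ : A →ₐc[k] B),
      Function.Surjective φ → HopfRep.IsUnipotent k A → HopfRep.IsUnipotent k B) ∧
    (∀ (C : Type u) [CommRing C] [HopfAlgebra k C] (ψ : C →ₐc[k] A),
      Function.Injective ψ → HopfRep.IsUnipotent k A → HopfRep.IsUnipotent k C) ∧
    (∀ (C : Type u) [CommRing C] [HopfAlgebra k C] (ψ : C →ₐc[k] A)
      (J : Ideal A) [J.IsHopfIdeal k],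
      Function.Injective ψ →
      J = Ideal.map (ψ : C →+* A) (RingHom.ker (Bialgebra.counitAlgHom k C)) →
      HopfRep.IsUnipotent k C → HopfRep.IsUnipotent k (A ⧸ J) → HopfRep.IsUnipotent k A) := by
  refine ⟨fun B _ _ φ hφ hU => isUnipotent_of_surjective φ hφ hU,
    fun C _ _ ψ hψ hU => isUnipotent_of_injective ψ hψ hU, ?_⟩
  intro C _ _ ψ J _ hψ hJ hC hN
  subst hJ
  exact isUnipotent_of_extension ψ hψ hC hN

end S5422

end TrigStrH1
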