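import Groth.Agent.Lib.Trisecant_lead

/-! Infinitely many trisecant lines of a rational quintic in `P³`, as linear algebra on binary
forms (lead). -/

open MvPolynomial

namespace Groth.Agent.Lib.Trisecant2_lead

open Groth.Agent.Lib.SecantSpan_lead Groth.Agent.Lib.Trisecant_lead

variable {K : Type*} [Field K]

local notation "P2" => MvPolynomial (Fin 2) K
local notation "S2" => homogeneousSubmodule (Fin 2) K 2
local notation "S3" => homogeneousSubmodule (Fin 2) K 3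
local notation "S5" => homogeneousSubmodule (Fin 2) K 5

/-- The pairing `S₃ × S₂ → K`, `(x, y) ↦ Λ (x y)`. -/
noncomputable def pairing (Λ : P2 →ₗ[K] K) : ↥S3 →ₗ[K] ↥S2 →ₗ[K] K :=
  ((LinearMap.mul K P2).compr₂ Λ).domRestrict₁₂ S3 S2

theorem pairing_apply (Λ : P2 →ₗ[K] K) (x : ↥S3) (y : ↥S2) :
    pairing Λ x y = Λ ((x : P2) * (y : P2)) := rfl

theorem mul_mem5 {x y : P2} (hx : x ∈ S3) (hy : y ∈ S2) : x * y ∈ S5 := by
  rw [mem_homogeneousSubmodule] at hx hy ⊢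
  exact hx.mul hy

theorem finrank_dual_S2 : Module.finrank K (↥S2 →ₗ[K] K) = 3 := by
  haveI := finite_homog (K := K) 2
  have h := Subspace.dual_finrank_eq (K := K) (V := ↥S2)
  rw [finrank_homog 2] at h
  exact h

theorem eq_smul_of_finrank_le_one {W : Type*} [AddCommGroup W] [Module K W]
    [FiniteDimensional K W] (N : Submodule K W) (h : Module.finrank K ↥N ≤ 1) {x z : W}
    (hx : x ∈ N) (hx0 : x ≠ 0) (hz : z ∈ N) : ∃ c : K, z = c • x := by
  have hspan : Submodule.span K {x} = N := by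
    apply Submodule.eq_of_le_of_finrank_le
    · rw [Submodule.span_singleton_le_iff_mem]; exact hx
    · rw [finrank_span_singleton hx0]; exact h
  rw [← hspan, Submodule.mem_span_singleton] at hz
  obtain ⟨c, hc⟩ := hz
  exact ⟨c, hc.symm⟩

theorem finrank_ker_pairing_le_one (Λ : P2 →ₗ[K] K)
    (hP : ∀ y ∈ S2, (∀ x ∈ S3, Λ (x * y) = 0) → y = 0) :
    Module.finrank K ↥(LinearMap.ker (pairing Λ)) ≤ 1 := by
  haveI := finite_homog (K := K) 3
  haveI := finite_homog (K := K) 2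
  have hflip : Function.Injective (pairing Λ).flip := by
    rw [injective_iff_map_eq_zero]
    intro y hy
    refine Subtype.ext (hP y y.2 fun x hx => ?_)
    have h4 := LinearMap.congr_fun hy ⟨x, hx⟩
    rw [LinearMap.flip_apply, pairing_apply] at h4
    exact h4
  have hann : ∀ y, (pairing Λ).flip y ∈ (LinearMap.ker (pairing Λ)).dualAnnihilator := by
    intro y
    rw [Submodule.mem_dualAnnihilator]
    intro w hw
    rw [LinearMap.flip_apply, LinearMap.mem_ker.mp hw, LinearMap.zero_apply]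
  have h1 := LinearMap.finrank_le_finrank_of_injective
    (f := LinearMap.codRestrict (LinearMap.ker (pairing Λ)).dualAnnihilator (pairing Λ).flip hann)
    (fun x y hxy => hflip (congrArg Subtype.val hxy))
  have h2 := Subspace.finrank_add_finrank_dualAnnihilator_eq (LinearMap.ker (pairing Λ))
  have h3 : Module.finrank K ↥S3 = 4 := finrank_homog 3
  have h4 : Module.finrank K ↥S2 = 3 := finrank_homog 2
  omega

theorem exists_ne_zero_ker_pairing (Λ : P2 →ₗ[K] K) : ∃ x : ↥S3, x ≠ 0 ∧ pairing Λ x = 0 := by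
  haveI := finite_homog (K := K) 3
  haveI := finite_homog (K := K) 2
  have hninj : ¬ Function.Injective (pairing Λ) := by
    intro hinj
    have h1 := LinearMap.finrank_le_finrank_of_injective hinj
    rw [finrank_homog 3, finrank_dual_S2] at h1
    omega
  rw [injective_iff_map_eq_zero] at hninj
  push_neg at hninj
  obtain ⟨x, hx0, hxne⟩ := hninj
  exact ⟨x, hxne, hx0⟩

theorem exists_two_functionals (V : Submodule K P2) (hV : V ≤ S5)
    (hdim : Module.finrank K ↥V = 4) :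
    ∃ Λ₁ Λ₂ : P2 →ₗ[K] K, (∀ x ∈ S5, (x ∈ V ↔ Λ₁ x = 0 ∧ Λ₂ x = 0)) ∧
      ∀ α β : K, (∀ x ∈ S5, α * Λ₁ x + β * Λ₂ x = 0) → α = 0 ∧ β = 0 := by
  haveI := finite_homog (K := K) 5
  let V' : Submodule K ↥S5 := V.comap (S5).subtype
  have hV'rank : Module.finrank K ↥V' = 4 :=
    ((Submodule.comapSubtypeEquivOfLe hV).finrank_eq).trans hdim
  have hS5rank : Module.finrank K ↥S5 = 6 := finrank_homog 5
  have hQ : Module.finrank K (↥S5 ⧸ V') = 2 := by
    have h1 := V'.finrank_quotient_add_finrank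
    omega
  let b := Module.finBasisOfFinrankEq K (↥S5 ⧸ V') hQ
  obtain ⟨Λ₁, hΛ₁⟩ := LinearMap.exists_extend ((b.coord 0).comp V'.mkQ)
  obtain ⟨Λ₂, hΛ₂⟩ := LinearMap.exists_extend ((b.coord 1).comp V'.mkQ)
  have e1 : ∀ x (hx : x ∈ S5), Λ₁ x = b.coord 0 (V'.mkQ ⟨x, hx⟩) :=
    fun x hx => LinearMap.congr_fun hΛ₁ ⟨x, hx⟩
  have e2 : ∀ x (hx : x ∈ S5), Λ₂ x = b.coord 1 (V'.mkQ ⟨x, hx⟩) :=
    fun x hx => LinearMap.congr_fun hΛ₂ ⟨x, hx⟩
  refine ⟨Λ₁, Λ₂, ?_, ?_⟩
  · intro x hx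
    rw [e1 x hx, e2 x hx]
    have hiff : (⟨x, hx⟩ : ↥S5) ∈ V' ↔ V'.mkQ ⟨x, hx⟩ = 0 := by
      rw [Submodule.mkQ_apply, Submodule.Quotient.mk_eq_zero]
    have hcoord := b.forall_coord_eq_zero_iff (x := V'.mkQ ⟨x, hx⟩)
    constructor
    · intro hxV
      have h0 : V'.mkQ ⟨x, hx⟩ = 0 := hiff.mp hxV
      rw [h0, map_zero, map_zero]; exact ⟨rfl, rfl⟩
    · rintro ⟨h1, h2⟩
      have h3 : V'.mkQ ⟨x, hx⟩ = 0 := hcoord.mp (fun i => by
        fin_cases i
        · exact h1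
        · exact h2)
      exact hiff.mpr h3
  · intro α β hαβ
    have hall : ∀ q : ↥S5 ⧸ V', α * b.coord 0 q + β * b.coord 1 q = 0 := by
      intro q
      obtain ⟨x, rfl⟩ := V'.mkQ_surjective q
      have h6 := hαβ x x.2
      rw [e1 x x.2, e2 x x.2] at h6
      exact h6
    have h0 := hall (b 0)
    have h1 := hall (b 1)
    simp [Module.Basis.coord_apply] at h0 h1
    exact ⟨h0, h1⟩

theorem claimB [IsAlgClosed K] (Λ₁ Λ₂ : P2 →ₗ[K] K)
    (hker : ∀ α β : K, (α ≠ 0 ∨ β ≠ 0) →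
      Module.finrank K ↥(LinearMap.ker (pairing (α • Λ₁ + β • Λ₂))) ≤ 1)
    (t s : K) (hts : t ≠ s) (x : ↥S3) (hx0 : x ≠ 0)
    (hxt : pairing ((1 : K) • Λ₁ + t • Λ₂) x = 0)
    (hxs : pairing ((1 : K) • Λ₁ + s • Λ₂) x = 0) : False := by
  haveI := finite_homog (K := K) 3
  haveI := finite_homog (K := K) 2
  obtain ⟨Bt, hBt⟩ : ∃ B, B = pairing ((1 : K) • Λ₁ + t • Λ₂) := ⟨_, rfl⟩
  obtain ⟨Bs, hBs⟩ : ∃ B, B = pairing ((1 : K) • Λ₁ + s • Λ₂) := ⟨_, rfl⟩
  rw [← hBt] at hxt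
  rw [← hBs] at hxs
  have hkt : Module.finrank K ↥(LinearMap.ker Bt) ≤ 1 := by
    rw [hBt]; exact hker 1 t (Or.inl one_ne_zero)
  have hsurj : LinearMap.range Bt = ⊤ := by
    apply Submodule.eq_top_of_finrank_eq
    have h1 := LinearMap.finrank_range_add_finrank_ker Bt
    have h2 : Module.finrank K ↥S3 = 4 := finrank_homog 3
    have h3 := finrank_dual_S2 (K := K)
    have h4 := Submodule.finrank_le (LinearMap.range Bt)
    omega
  obtain ⟨R, hR⟩ := Bt.exists_rightInverse_of_surjective hsurj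
  haveI : Nontrivial (↥S2 →ₗ[K] K) :=
    Module.nontrivial_of_finrank_pos (R := K) (by rw [finrank_dual_S2]; norm_num)
  obtain ⟨μ, hμ⟩ := Module.End.exists_eigenvalue (Bs.comp R)
  obtain ⟨δ, hδ⟩ := hμ.exists_hasEigenvector
  have hδ0 : δ ≠ 0 := hδ.2
  have hTδ : Bs (R δ) = μ • δ := hδ.apply_eq_smul
  have hBtR : Bt (R δ) = δ := LinearMap.congr_fun hR δ
  have hne : (1 - μ ≠ 0 ∨ s - μ * t ≠ 0) := by
    by_cases h : 1 - μ = 0
    · right
      have hμ1 : μ = 1 := (sub_eq_zero.mp h).symm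
      rw [hμ1, one_mul]
      exact sub_ne_zero.mpr (Ne.symm hts)
    · left; exact h
  have hk' := hker (1 - μ) (s - μ * t) hne
  have key : ∀ w : ↥S3,
      pairing ((1 - μ) • Λ₁ + (s - μ * t) • Λ₂) w = Bs w - μ • Bt w := by
    intro w
    refine LinearMap.ext fun y => ?_
    rw [LinearMap.sub_apply, LinearMap.smul_apply, hBs, hBt, pairing_apply, pairing_apply,
      pairing_apply]
    simp only [LinearMap.add_apply, LinearMap.smul_apply, smul_eq_mul]
    ring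
  have hxker : x ∈ LinearMap.ker (pairing ((1 - μ) • Λ₁ + (s - μ * t) • Λ₂)) := by
    rw [LinearMap.mem_ker, key, hxs, hxt, smul_zero, sub_zero]
  have hzker : R δ ∈ LinearMap.ker (pairing ((1 - μ) • Λ₁ + (s - μ * t) • Λ₂)) := by
    rw [LinearMap.mem_ker, key, hTδ, hBtR, sub_self]
  obtain ⟨c, hc⟩ := eq_smul_of_finrank_le_one _ hk' hxker hx0 hzker
  apply hδ0
  rw [← hBtR, hc, map_smul, hxt, smul_zero]

theorem claimC (V : Submodule K P2) (hV : V ≤ S5) (Λ₁ Λ₂ : P2 →ₗ[K] K)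
    (hVΛ : ∀ x ∈ S5, (x ∈ V ↔ Λ₁ x = 0 ∧ Λ₂ x = 0)) (t : K) (g : ↥S3) (hg0 : g ≠ 0)
    (hg : pairing ((1 : K) • Λ₁ + t • Λ₂) g = 0) :
    2 ≤ Module.finrank K ↥(V ⊓ (S2).map (LinearMap.mulLeft K (g : P2))) := by
  haveI := finite_homog (K := K) 2
  haveI := finite_homog (K := K) 5
  haveI : Module.Finite K ↥(V ⊓ (S2).map (LinearMap.mulLeft K (g : P2))) :=
    Submodule.finiteDimensional_of_le (inf_le_left.trans hV)
  let φ : ↥S2 →ₗ[K] K := pairing Λ₂ g
  have hkerdim : 2 ≤ Module.finrank K ↥(LinearMap.ker φ) := by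
    have h1 := LinearMap.finrank_range_add_finrank_ker φ
    have h2 : Module.finrank K ↥S2 = 3 := finrank_homog 2
    have h3 := Submodule.finrank_le (LinearMap.range φ)
    rw [Module.finrank_self] at h3
    omega
  have hmem : ∀ y : ↥(LinearMap.ker φ),
      ((LinearMap.mulLeft K (g : P2)).comp ((S2).subtype.comp (LinearMap.ker φ).subtype)) y ∈
        V ⊓ (S2).map (LinearMap.mulLeft K (g : P2)) := by
    intro y
    have hy2 : ((y : ↥S2) : P2) ∈ S2 := (y : ↥S2).2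
    have hφy : Λ₂ ((g : P2) * ((y : ↥S2) : P2)) = 0 := LinearMap.mem_ker.mp y.2
    have hty := LinearMap.congr_fun hg (y : ↥S2)
    rw [pairing_apply, LinearMap.add_apply, LinearMap.smul_apply, LinearMap.smul_apply, hφy,
      smul_zero, add_zero, one_smul, LinearMap.zero_apply] at hty
    refine Submodule.mem_inf.mpr ⟨?_, ⟨((y : ↥S2) : P2), hy2, rfl⟩⟩
    exact (hVΛ _ (mul_mem5 g.2 hy2)).mpr ⟨hty, hφy⟩
  have hinj : Function.Injective
      (LinearMap.codRestrict (V ⊓ (S2).map (LinearMap.mulLeft K (g : P2))) _ hmem) := by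
    intro y₁ y₂ h
    have h1 : (g : P2) * ((y₁ : ↥S2) : P2) = (g : P2) * ((y₂ : ↥S2) : P2) :=
      congrArg Subtype.val h
    have hg0' : (g : P2) ≠ 0 := fun h => hg0 (Subtype.ext h)
    exact Subtype.ext (Subtype.ext (mul_left_cancel₀ hg0' h1))
  exact hkerdim.trans (LinearMap.finrank_le_finrank_of_injective hinj)

theorem main [IsAlgClosed K] (V : Submodule K (MvPolynomial (Fin 2) K))
    (hV : V ≤ MvPolynomial.homogeneousSubmodule (Fin 2) K 5) (hdim : Module.finrank K ↥V = 4)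
    (hsep : ∀ e ∈ MvPolynomial.homogeneousSubmodule (Fin 2) K 2, e ≠ 0 →
      ∀ F ∈ MvPolynomial.homogeneousSubmodule (Fin 2) K 5, ∃ v ∈ V,
        ∃ h ∈ MvPolynomial.homogeneousSubmodule (Fin 2) K 3, F = v + e * h)
    (F : Finset (MvPolynomial (Fin 2) K)) :
    ∃ g ∈ MvPolynomial.homogeneousSubmodule (Fin 2) K 3, g ≠ 0 ∧
      2 ≤ Module.finrank K ↥(V ⊓ (MvPolynomial.homogeneousSubmodule (Fin 2) K 2).map (LinearMap.mulLeft K g)) ∧
      ∀ g' ∈ F, ∀ c : K, g ≠ c • g' := by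
  obtain ⟨Λ₁, Λ₂, hVΛ, hind⟩ := exists_two_functionals V hV hdim
  have hP : ∀ α β : K, (α ≠ 0 ∨ β ≠ 0) → ∀ y ∈ S2,
      (∀ x ∈ S3, (α • Λ₁ + β • Λ₂) (x * y) = 0) → y = 0 := by
    intro α β hαβ y hy hall
    by_contra hy0
    have hzero : ∀ Fm ∈ S5, α * Λ₁ Fm + β * Λ₂ Fm = 0 := by
      intro Fm hFm
      obtain ⟨v, hv, h3, hh3, hFeq⟩ := hsep y hy hy0 Fm hFm
      have hv0 := (hVΛ v (hV hv)).mp hv
      have h7 := hall h3 hh3
      rw [LinearMap.add_apply, LinearMap.smul_apply, LinearMap.smul_apply, smul_eq_mul,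
        smul_eq_mul, mul_comm h3 y] at h7
      rw [hFeq, map_add, map_add, hv0.1, hv0.2]
      linear_combination h7
    obtain ⟨h1, h2⟩ := hind α β hzero
    rcases hαβ with h | h
    · exact h h1
    · exact h h2
  have hker : ∀ α β : K, (α ≠ 0 ∨ β ≠ 0) →
      Module.finrank K ↥(LinearMap.ker (pairing (α • Λ₁ + β • Λ₂))) ≤ 1 :=
    fun α β h => finrank_ker_pairing_le_one _ (hP α β h)
  choose g hg0 hgker using fun t : K => exists_ne_zero_ker_pairing ((1 : K) • Λ₁ + t • Λ₂)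
  by_cases hex : ∃ t : K, ∀ g' ∈ F, ∀ c : K, ((g t : ↥S3) : P2) ≠ c • g'
  · obtain ⟨t, ht⟩ := hex
    exact ⟨(g t : P2), (g t).2, fun h => hg0 t (Subtype.ext h),
      claimC V hV Λ₁ Λ₂ hVΛ t (g t) (hg0 t) (hgker t), ht⟩
  · exfalso
    push_neg at hex
    choose g' hg'F c hc using hex
    obtain ⟨t, s, hts, heq⟩ :=
      Finite.exists_ne_map_eq_of_infinite (fun t : K => (⟨g' t, hg'F t⟩ : ↥F))
    have heq' : g' t = g' s := congrArg Subtype.val heq
    have hct : c t ≠ 0 := by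
      intro h0
      have h1 : ((g t : ↥S3) : P2) = 0 := by rw [hc t, h0, zero_smul]
      exact hg0 t (Subtype.ext h1)
    have hrel : ((g s : ↥S3) : P2) = (c s / c t) • ((g t : ↥S3) : P2) := by
      rw [hc s, hc t, ← heq', smul_smul, div_mul_cancel₀ _ hct]
    have hrel' : g s = (c s / c t) • g t := Subtype.ext hrel
    have hr0 : c s / c t ≠ 0 := by
      intro h0
      apply hg0 s
      rw [hrel', h0, zero_smul]
    have hts' : pairing ((1 : K) • Λ₁ + s • Λ₂) (g t) = 0 := by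
      have h1 := hgker s
      rw [hrel', map_smul] at h1
      exact (smul_eq_zero.mp h1).resolve_left hr0
    exact claimB Λ₁ Λ₂ hker t s hts (g t) (hg0 t) (hgker t) hts'

end Groth.Agent.Lib.Trisecant2_lead
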