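import Groth.Agent.Lib.SecantSpan_lead

/-! The unique trisecant line of a projected rational quintic, as linear algebra on binary forms
(lead). -/

open MvPolynomial

namespace Groth.Agent.Lib.Trisecant_lead

open Groth.Agent.Lib.SecantSpan_lead

variable {K : Type*} [Field K]

/-- Coordinates to binary forms of degree `N`. -/
noncomputable def Gmap (N : ℕ) : (Fin (N + 1) → K) →ₗ[K] MvPolynomial (Fin 2) K :=
  ∑ b : Fin (N + 1),
    (LinearMap.proj b : (Fin (N + 1) → K) →ₗ[K] K).smulRight (mon (b : ℕ) (N - b))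

theorem Gmap_apply (N : ℕ) (c : Fin (N + 1) → K) :
    Gmap N c = ∑ b : Fin (N + 1), c b • (mon (b : ℕ) (N - b) : MvPolynomial (Fin 2) K) := by
  simp [Gmap, LinearMap.sum_apply]

theorem Gmap_mem (N : ℕ) (c : Fin (N + 1) → K) :
    Gmap N c ∈ homogeneousSubmodule (Fin 2) K N := by
  rw [Gmap_apply]
  refine Submodule.sum_mem _ fun b _ => Submodule.smul_mem _ _ ?_
  have h1 := mon_mem (K := K) (b : ℕ) (N - b)
  have h2 : (b : ℕ) + (N - b) = N := by have := b.is_lt; omega
  rwa [h2] at h1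

theorem Gmap_coeff (N : ℕ) (c : Fin (N + 1) → K) (b₀ : Fin (N + 1)) :
    (aeval (![Polynomial.X, 1] : Fin 2 → Polynomial K) (Gmap N c)).coeff (b₀ : ℕ) = c b₀ := by
  rw [Gmap_apply, map_sum, Polynomial.finsetSum_coeff, Finset.sum_eq_single b₀]
  · rw [map_smul, hmonev, Polynomial.coeff_smul, Polynomial.coeff_X_pow, if_pos rfl, smul_eq_mul,
      mul_one]
  · intro b _ hb
    rw [map_smul, hmonev, Polynomial.coeff_smul, Polynomial.coeff_X_pow,
      if_neg (fun h => hb (Fin.ext h.symm)), smul_zero]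
  · intro h; exact absurd (Finset.mem_univ _) h

theorem Gmap_injective (N : ℕ) : Function.Injective (Gmap (K := K) N) := by
  rw [injective_iff_map_eq_zero]
  intro c hc
  funext b₀
  have h1 := Gmap_coeff N c b₀
  rw [hc, map_zero, Polynomial.coeff_zero] at h1
  exact h1.symm

theorem finrank_homog (N : ℕ) :
    Module.finrank K ↥(homogeneousSubmodule (Fin 2) K N) = N + 1 := by
  apply le_antisymm (finrank_homog_le N)
  haveI := finite_homog (K := K) N
  have h := LinearMap.finrank_le_finrank_of_injective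
    (f := LinearMap.codRestrict (homogeneousSubmodule (Fin 2) K N) (Gmap N) (Gmap_mem N))
    (fun x y hxy => Gmap_injective N (congrArg Subtype.val hxy))
  rwa [Module.finrank_fin_fun] at h

theorem exists_functional (V : Submodule K (MvPolynomial (Fin 2) K))
    (hV : V ≤ homogeneousSubmodule (Fin 2) K 5) (hdim : Module.finrank K ↥V = 5) :
    ∃ Λ : MvPolynomial (Fin 2) K →ₗ[K] K,
      ∀ x ∈ homogeneousSubmodule (Fin 2) K 5, (Λ x = 0 ↔ x ∈ V) := by
  haveI := finite_homog (K := K) 5
  let V' : Submodule K ↥(homogeneousSubmodule (Fin 2) K 5) :=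
    V.comap (homogeneousSubmodule (Fin 2) K 5).subtype
  have hV'rank : Module.finrank K ↥V' = 5 :=
    ((Submodule.comapSubtypeEquivOfLe hV).finrank_eq).trans hdim
  have hS5rank : Module.finrank K ↥(homogeneousSubmodule (Fin 2) K 5) = 6 := finrank_homog 5
  have hne : V' ≠ ⊤ := by
    intro htop
    have h3 : Module.finrank K ↥V' =
        Module.finrank K ↥(⊤ : Submodule K ↥(homogeneousSubmodule (Fin 2) K 5)) := by rw [htop]
    rw [finrank_top, hV'rank, hS5rank] at h3
    omega
  obtain ⟨f, hf0, hfle⟩ := Submodule.exists_le_ker_of_lt_top V' (lt_top_iff_ne_top.mpr hne)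
  have hker : V' = LinearMap.ker f := by
    apply Submodule.eq_of_le_of_finrank_eq hfle
    have h1 : Module.finrank K ↥(LinearMap.ker f) <
        Module.finrank K ↥(homogeneousSubmodule (Fin 2) K 5) :=
      Submodule.finrank_lt (fun h => hf0 (LinearMap.ker_eq_top.mp h))
    have h2 : Module.finrank K ↥V' ≤ Module.finrank K ↥(LinearMap.ker f) :=
      Submodule.finrank_mono hfle
    omega
  obtain ⟨Λ, hΛ⟩ := LinearMap.exists_extend f
  refine ⟨Λ, fun x hx => ?_⟩
  have h1 : Λ x = f ⟨x, hx⟩ := by rw [← hΛ]; rfl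
  constructor
  · intro h
    have h2 : (⟨x, hx⟩ : ↥(homogeneousSubmodule (Fin 2) K 5)) ∈ LinearMap.ker f := by
      rw [LinearMap.mem_ker, ← h1]; exact h
    rw [← hker] at h2
    exact h2
  · intro h
    have h2 : (⟨x, hx⟩ : ↥(homogeneousSubmodule (Fin 2) K 5)) ∈ V' := h
    rw [hker, LinearMap.mem_ker] at h2
    rw [h1]; exact h2

theorem main (V : Submodule K (MvPolynomial (Fin 2) K))
    (hV : V ≤ MvPolynomial.homogeneousSubmodule (Fin 2) K 5) (hdim : Module.finrank K ↥V = 5)
    (hsep : ∀ e ∈ MvPolynomial.homogeneousSubmodule (Fin 2) K 2, e ≠ 0 →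
      ∀ F ∈ MvPolynomial.homogeneousSubmodule (Fin 2) K 5, ∃ v ∈ V,
        ∃ h ∈ MvPolynomial.homogeneousSubmodule (Fin 2) K 3, F = v + e * h) :
    ∃ g ∈ MvPolynomial.homogeneousSubmodule (Fin 2) K 3, g ≠ 0 ∧
      (∀ h ∈ MvPolynomial.homogeneousSubmodule (Fin 2) K 2, g * h ∈ V) ∧
      ∀ g' ∈ MvPolynomial.homogeneousSubmodule (Fin 2) K 3,
        (∀ h ∈ MvPolynomial.homogeneousSubmodule (Fin 2) K 2, g' * h ∈ V) → ∃ c : K, g' = c • g := by
  obtain ⟨g, hg3, hg0, hgV⟩ := SecantSpan_lead.main (K := K) 5 0 3 (by norm_num) (by norm_num) V hV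
    (by rw [hdim])
  have hgV' : ∀ h ∈ homogeneousSubmodule (Fin 2) K 2, g * h ∈ V := hgV
  refine ⟨g, hg3, hg0, hgV', ?_⟩
  obtain ⟨Λ, hΛ⟩ := exists_functional V hV hdim
  haveI := finite_homog (K := K) 3
  haveI := finite_homog (K := K) 2
  have hmul5 : ∀ x ∈ homogeneousSubmodule (Fin 2) K 3, ∀ y ∈ homogeneousSubmodule (Fin 2) K 2,
      x * y ∈ homogeneousSubmodule (Fin 2) K 5 := by
    intro x hx y hy
    rw [mem_homogeneousSubmodule] at hx hy ⊢
    exact hx.mul hy
  let B : ↥(homogeneousSubmodule (Fin 2) K 3) →ₗ[K] ↥(homogeneousSubmodule (Fin 2) K 2) →ₗ[K] K :=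
    ((LinearMap.mul K (MvPolynomial (Fin 2) K)).compr₂ Λ).domRestrict₁₂
      (homogeneousSubmodule (Fin 2) K 3) (homogeneousSubmodule (Fin 2) K 2)
  have hB : ∀ (x : ↥(homogeneousSubmodule (Fin 2) K 3)) (y : ↥(homogeneousSubmodule (Fin 2) K 2)),
      B x y = Λ ((x : MvPolynomial (Fin 2) K) * (y : MvPolynomial (Fin 2) K)) := fun x y => rfl
  -- elements with `x * S₂ ⊆ V` lie in the kernel of `B`
  have hmemker : ∀ x (hx : x ∈ homogeneousSubmodule (Fin 2) K 3),
      (∀ h ∈ homogeneousSubmodule (Fin 2) K 2, x * h ∈ V) →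
        (⟨x, hx⟩ : ↥(homogeneousSubmodule (Fin 2) K 3)) ∈ LinearMap.ker B := by
    intro x hx hxV
    rw [LinearMap.mem_ker]
    refine LinearMap.ext fun y => ?_
    rw [hB, LinearMap.zero_apply]
    exact (hΛ _ (hmul5 x hx y y.2)).mpr (hxV y y.2)
  -- the flipped pairing is injective
  have hflip : Function.Injective B.flip := by
    rw [injective_iff_map_eq_zero]
    intro y hy
    by_contra hy0
    have hy0' : (y : MvPolynomial (Fin 2) K) ≠ 0 := fun h => hy0 (Subtype.ext h)
    have hall : homogeneousSubmodule (Fin 2) K 5 ≤ V := by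
      intro F hF
      obtain ⟨v, hv, h3, hh3, hFeq⟩ := hsep y y.2 hy0' F hF
      rw [← hΛ F hF, hFeq, map_add, (hΛ v (hV hv)).mpr hv, zero_add, mul_comm]
      have h4 := LinearMap.congr_fun hy ⟨h3, hh3⟩
      rw [LinearMap.flip_apply, hB] at h4
      exact h4
    have hVeq : V = homogeneousSubmodule (Fin 2) K 5 := le_antisymm hV hall
    have h6 : Module.finrank K ↥(homogeneousSubmodule (Fin 2) K 5) = 6 := finrank_homog 5
    rw [← hVeq, hdim] at h6
    omega
  -- the range of the flipped pairing annihilates the kernel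
  have hann : ∀ y, B.flip y ∈ (LinearMap.ker B).dualAnnihilator := by
    intro y
    rw [Submodule.mem_dualAnnihilator]
    intro w hw
    rw [LinearMap.flip_apply, LinearMap.mem_ker.mp hw, LinearMap.zero_apply]
  have hdimker : Module.finrank K ↥(LinearMap.ker B) ≤ 1 := by
    have h1 := LinearMap.finrank_le_finrank_of_injective
      (f := LinearMap.codRestrict (LinearMap.ker B).dualAnnihilator B.flip hann)
      (fun x y hxy => hflip (congrArg Subtype.val hxy))
    have h2 := Subspace.finrank_add_finrank_dualAnnihilator_eq (LinearMap.ker B)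
    have h3 : Module.finrank K ↥(homogeneousSubmodule (Fin 2) K 3) = 4 := finrank_homog 3
    have h4 : Module.finrank K ↥(homogeneousSubmodule (Fin 2) K 2) = 3 := finrank_homog 2
    omega
  have hgker := hmemker g hg3 hgV'
  have hg0' : (⟨g, hg3⟩ : ↥(homogeneousSubmodule (Fin 2) K 3)) ≠ 0 :=
    fun h => hg0 (congrArg Subtype.val h)
  have hspan : Submodule.span K {(⟨g, hg3⟩ : ↥(homogeneousSubmodule (Fin 2) K 3))} =
      LinearMap.ker B := by
    apply Submodule.eq_of_le_of_finrank_le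
    · rw [Submodule.span_singleton_le_iff_mem]; exact hgker
    · rw [finrank_span_singleton hg0']; exact hdimker
  intro g' hg'3 hg'V
  have hg'ker := hmemker g' hg'3 hg'V
  rw [← hspan, Submodule.mem_span_singleton] at hg'ker
  obtain ⟨c, hc⟩ := hg'ker
  exact ⟨c, (congrArg Subtype.val hc).symm⟩

end Groth.Agent.Lib.Trisecant_lead
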