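import Mathlib
import Groth.Agent.Lib.CoskHtpy_helper4

set_option autoImplicit false
set_option linter.style.haveILetI false
set_option linter.unusedSectionVars false

universe u

open CategoryTheory Opposite Simplicial SSet MonoidalCategory CartesianMonoidalCategory

namespace Groth.Agent.Lib.TrivFibHtpyH4

open Groth.Agent.Lib.CoskHtpyH4

variable {W X Y : SSet.{u}}

/-- Simplices of `∂Δ[1]` are constant. -/
lemma boundary_one_const {c : SimplexCategoryᵒᵖ} (a : (Δ[1] : SSet.{u}).obj c)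
    (ha : a ∈ (∂Δ[1] : (Δ[1] : SSet.{u}).Subcomplex).obj c) (j j' : Fin (c.unop.len + 1)) :
    (stdSimplex.objEquiv a).toOrderHom j = (stdSimplex.objEquiv a).toOrderHom j' := by
  by_contra hne
  apply ha
  intro y
  have hp : (((stdSimplex.objEquiv a).toOrderHom j : Fin _) : ℕ) < 2 :=
    ((stdSimplex.objEquiv a).toOrderHom j).isLt
  have hq : (((stdSimplex.objEquiv a).toOrderHom j' : Fin _) : ℕ) < 2 :=
    ((stdSimplex.objEquiv a).toOrderHom j').isLt
  have hy : (y : ℕ) < 2 := y.isLt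
  by_cases h1 : y = (stdSimplex.objEquiv a).toOrderHom j
  · exact ⟨j, h1.symm⟩
  · refine ⟨j', ?_⟩
    apply Fin.ext
    have h1' : (y : ℕ) ≠ (((stdSimplex.objEquiv a).toOrderHom j : Fin _) : ℕ) :=
      fun e => h1 (Fin.ext e)
    have hne' : (((stdSimplex.objEquiv a).toOrderHom j : Fin _) : ℕ) ≠
        (((stdSimplex.objEquiv a).toOrderHom j' : Fin _) : ℕ) := fun e => hne (Fin.ext e)
    show (((stdSimplex.objEquiv a).toOrderHom j' : Fin _) : ℕ) = (y : ℕ)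
    omega

lemma tmap_nat (u₀ u₁ : W ⟶ X) {c c' : SimplexCategoryᵒᵖ} (θ : c ⟶ c') (w : W.obj c)
    (a : ((∂Δ[1] : (Δ[1] : SSet.{u}).Subcomplex) : SSet.{u}).obj c) :
    pick (stdSimplex.objEquiv
        (((∂Δ[1] : (Δ[1] : SSet.{u}).Subcomplex) : SSet.{u}).map θ a).1)
      (u₀.app _ (W.map θ w)) (u₁.app _ (W.map θ w)) =
    X.map θ (pick (stdSimplex.objEquiv a.1) (u₀.app _ w) (u₁.app _ w)) := by
  have hcomp : ∀ j, (stdSimplex.objEquiv
      (((∂Δ[1] : (Δ[1] : SSet.{u}).Subcomplex) : SSet.{u}).map θ a).1).toOrderHom j =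
      (stdSimplex.objEquiv a.1).toOrderHom (θ.unop.toOrderHom j) := fun j => rfl
  have e₀ := NatTrans.naturality_apply u₀ θ w
  have e₁ := NatTrans.naturality_apply u₁ θ w
  by_cases h1 : ∀ j, (stdSimplex.objEquiv a.1).toOrderHom j = 1
  · have h1' : ∀ j, (stdSimplex.objEquiv
        (((∂Δ[1] : (Δ[1] : SSet.{u}).Subcomplex) : SSet.{u}).map θ a).1).toOrderHom j = 1 :=
      fun j => by rw [hcomp]; exact h1 _
    rw [pick_pos _ _ _ h1', pick_pos _ _ _ h1, e₁]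
  · have h2 : ¬ ∀ j, (stdSimplex.objEquiv
        (((∂Δ[1] : (Δ[1] : SSet.{u}).Subcomplex) : SSet.{u}).map θ a).1).toOrderHom j = 1 := by
      intro hh
      apply h1
      intro i
      rw [boundary_one_const a.1 a.2 i (θ.unop.toOrderHom 0), ← hcomp]
      exact hh 0
    rw [pick_neg _ _ _ h2, pick_neg _ _ _ h1, e₀]

/-- The map `W ⊗ ∂Δ[1] ⟶ X` which is `u₀` on `W × {0}` and `u₁` on `W × {1}`. -/
noncomputable def tmap (u₀ u₁ : W ⟶ X) :
    W ⊗ ((∂Δ[1] : (Δ[1] : SSet.{u}).Subcomplex) : SSet.{u}) ⟶ X where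
  app c := TypeCat.ofHom
    (fun (p : W.obj c × ((∂Δ[1] : (Δ[1] : SSet.{u}).Subcomplex) : SSet.{u}).obj c) =>
      pick (stdSimplex.objEquiv p.2.1) (u₀.app _ p.1) (u₁.app _ p.1))
  naturality c c' θ := by
    ext p
    exact tmap_nat u₀ u₁ θ p.1 p.2

lemma mono_whisker : Mono (W ◁ (∂Δ[1] : (Δ[1] : SSet.{u}).Subcomplex).ι) := by
  rw [NatTrans.mono_iff_mono_app]
  intro c
  rw [mono_iff_injective]
  rintro ⟨w, a⟩ ⟨w', a'⟩ hh
  have h1 : w = w' := congrArg Prod.fst hh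
  have h2 : a.1 = a'.1 := congrArg Prod.snd hh
  exact Prod.ext h1 (Subtype.ext h2)

lemma f_pick (f : X ⟶ Y) (u₀ u₁ : W ⟶ X) (huf : u₀ ≫ f = u₁ ≫ f) {c : SimplexCategoryᵒᵖ}
    {k : SimplexCategory} (a : k ⟶ ⦋1⦌) (w : W.obj c) :
    f.app c (pick a (u₀.app c w) (u₁.app c w)) = f.app c (u₀.app c w) := by
  by_cases h1 : ∀ j, a.toOrderHom j = 1
  · rw [pick_pos _ _ _ h1]
    exact (congrArg (fun g => g.app c w) huf).symm
  · rw [pick_neg _ _ _ h1]

/-- Two maps into the source of a trivial fibration with the same composite are homotopic. -/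
theorem exists_homotopy_of_rlp (f : X ⟶ Y)
    (hf : (MorphismProperty.monomorphisms SSet.{u}).rlp f) (u₀ u₁ : W ⟶ X)
    (huf : u₀ ≫ f = u₁ ≫ f) : Nonempty (SSet.Homotopy u₀ u₁) := by
  haveI := mono_whisker (W := W)
  have sq : CommSq (tmap u₀ u₁) (W ◁ (∂Δ[1] : (Δ[1] : SSet.{u}).Subcomplex).ι) f
      (fst _ _ ≫ u₀ ≫ f) := ⟨by
    ext c p
    exact f_pick f u₀ u₁ huf _ p.1⟩
  haveI := hf _ (MorphismProperty.monomorphisms.infer_property
    (W ◁ (∂Δ[1] : (Δ[1] : SSet.{u}).Subcomplex).ι))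
  have h0 : ι₀ ≫ sq.lift = u₀ := by
    ext c w
    have hmem : (ι₀.app c w).2 ∈ (∂Δ[1] : (Δ[1] : SSet.{u}).Subcomplex).obj c := by
      show ¬ Function.Surjective _
      intro hs
      obtain ⟨j, hj⟩ := hs 1
      exact (by decide : (0 : Fin 2) ≠ 1) hj
    have e := congrArg (fun g => g.app c ((w, ⟨(ι₀.app c w).2, hmem⟩) :
      W.obj c × ((∂Δ[1] : (Δ[1] : SSet.{u}).Subcomplex) : SSet.{u}).obj c)) sq.fac_left
    refine Eq.trans e ?_
    exact pick_neg _ _ _ (fun hh => (by decide : (0 : Fin 2) ≠ 1) (hh 0))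
  have h1 : ι₁ ≫ sq.lift = u₁ := by
    ext c w
    have hmem : (ι₁.app c w).2 ∈ (∂Δ[1] : (Δ[1] : SSet.{u}).Subcomplex).obj c := by
      show ¬ Function.Surjective _
      intro hs
      obtain ⟨j, hj⟩ := hs 0
      exact (by decide : (1 : Fin 2) ≠ 0) hj
    have e := congrArg (fun g => g.app c ((w, ⟨(ι₁.app c w).2, hmem⟩) :
      W.obj c × ((∂Δ[1] : (Δ[1] : SSet.{u}).Subcomplex) : SSet.{u}).obj c)) sq.fac_left
    refine Eq.trans e ?_
    exact pick_pos _ _ _ (fun j => rfl)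
  refine ⟨(⟨sq.lift, h0, h1, ?_⟩ :
    (RelativeMorphism.botEquiv.symm u₀).Homotopy (RelativeMorphism.botEquiv.symm u₁))⟩
  ext c x
  exact (x.1.2).elim

theorem main6785 (f : X ⟶ Y) (hf : SSet.modelCategoryQuillen.I.rlp f) :
    ∃ g : Y ⟶ X, g ≫ f = 𝟙 Y ∧ Nonempty (SSet.Homotopy (𝟙 X) (f ≫ g)) ∧
      Nonempty (SSet.Homotopy (f ≫ g) (𝟙 X)) := by
  have hf' : (MorphismProperty.monomorphisms SSet.{u}).rlp f := by
    rw [SSet.rlp_monomorphisms]
    exact hf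
  have sq : CommSq ((Subcomplex.isInitialBot (X := Y)).to X) (⊥ : Y.Subcomplex).ι f (𝟙 Y) :=
    ⟨(Subcomplex.isInitialBot (X := Y)).hom_ext _ _⟩
  haveI := hf' _ (MorphismProperty.monomorphisms.infer_property (⊥ : Y.Subcomplex).ι)
  refine ⟨sq.lift, sq.fac_right, ?_, ?_⟩
  · apply exists_homotopy_of_rlp f hf'
    rw [Category.id_comp, Category.assoc, sq.fac_right, Category.comp_id]
  · apply exists_homotopy_of_rlp f hf'
    rw [Category.id_comp, Category.assoc, sq.fac_right, Category.comp_id]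

end Groth.Agent.Lib.TrivFibHtpyH4
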