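import Mathlib
import Groth.Agent.Lib.FormalChar_helper1

open Polynomial

namespace Groth.Agent.Lib.TruncAddH1

universe u
variable {A : Type u} [CommRing A]

lemma coeff_add_pow (e : Fin 2 →₀ ℕ) (d : ℕ) :
    MvPolynomial.coeff e ((MvPolynomial.X 0 + MvPolynomial.X 1 : MvPolynomial (Fin 2) A) ^ d) =
      if e 0 + e 1 = d then ((d.choose (e 0) : ℕ) : A) else 0 := by
  have h := Groth.Agent.Lib.FormalChar.coeff_add_pow (A := A) e d
  rw [← h, ← MvPolynomial.coeff_coe]
  simp [MvPolynomial.coe_pow, MvPolynomial.coe_add, MvPolynomial.coe_X]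

lemma coeff_aeval_add (q : A[X]) (e : Fin 2 →₀ ℕ) :
    MvPolynomial.coeff e (Polynomial.aeval
        (MvPolynomial.X 0 + MvPolynomial.X 1 : MvPolynomial (Fin 2) A) q) =
      q.coeff (e 0 + e 1) * (((e 0 + e 1).choose (e 0) : ℕ) : A) := by
  rw [Polynomial.aeval_eq_sum_range, MvPolynomial.coeff_sum]
  simp_rw [MvPolynomial.smul_eq_C_mul, MvPolynomial.coeff_C_mul, coeff_add_pow]
  by_cases h : e 0 + e 1 ≤ q.natDegree
  · rw [Finset.sum_eq_single (e 0 + e 1)]
    · simp
    · intro b _ hb; rw [if_neg (Ne.symm hb), mul_zero]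
    · intro hn; exact absurd (Finset.mem_range.mpr (Nat.lt_succ_of_le h)) hn
  · rw [Polynomial.coeff_eq_zero_of_natDegree_lt (not_le.mp h), zero_mul]
    apply Finset.sum_eq_zero
    intro i hi
    rw [if_neg, mul_zero]
    intro h2; rw [Finset.mem_range] at hi; omega

lemma coeff_aeval_X (q : A[X]) (i0 : Fin 2) (e : Fin 2 →₀ ℕ) :
    MvPolynomial.coeff e (Polynomial.aeval (MvPolynomial.X i0 : MvPolynomial (Fin 2) A) q) =
      if e = Finsupp.single i0 (e i0) then q.coeff (e i0) else 0 := by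
  classical
  rw [Polynomial.aeval_eq_sum_range, MvPolynomial.coeff_sum]
  simp_rw [MvPolynomial.smul_eq_C_mul, MvPolynomial.coeff_C_mul, MvPolynomial.X_pow_eq_monomial,
    MvPolynomial.coeff_monomial]
  split_ifs with h
  · by_cases hd : e i0 ≤ q.natDegree
    · rw [Finset.sum_eq_single (e i0)]
      · rw [if_pos h.symm, mul_one]
      · intro b _ hb
        rw [if_neg, mul_zero]
        intro h2; apply hb; rw [← h2]; simp
      · intro hn; exact absurd (Finset.mem_range.mpr (Nat.lt_succ_of_le hd)) hn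
    · rw [Polynomial.coeff_eq_zero_of_natDegree_lt (not_le.mp hd)]
      apply Finset.sum_eq_zero
      intro i hi
      rw [if_neg, mul_zero]
      intro h2; rw [Finset.mem_range] at hi
      have : e i0 = i := by rw [← h2]; simp
      omega
  · apply Finset.sum_eq_zero
    intro i _
    rw [if_neg, mul_zero]
    intro h2; apply h; rw [← h2]; simp

lemma mem_span_iff (N : ℕ) (f : MvPolynomial (Fin 2) A) :
    f ∈ Ideal.span ({MvPolynomial.X 0 ^ N, MvPolynomial.X 1 ^ N} :
        Set (MvPolynomial (Fin 2) A)) ↔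
      ∀ e : Fin 2 →₀ ℕ, e 0 < N → e 1 < N → MvPolynomial.coeff e f = 0 := by
  classical
  have hset : ({MvPolynomial.X 0 ^ N, MvPolynomial.X 1 ^ N} : Set (MvPolynomial (Fin 2) A)) =
      (fun s => MvPolynomial.monomial s (1 : A)) ''
        {Finsupp.single 0 N, Finsupp.single 1 N} := by
    rw [Set.image_pair, MvPolynomial.X_pow_eq_monomial, MvPolynomial.X_pow_eq_monomial]
  rw [hset, MvPolynomial.mem_ideal_span_monomial_image]
  constructor
  · intro h e h0 h1
    by_contra hne
    obtain ⟨si, hsi, hle⟩ := h e (MvPolynomial.mem_support_iff.mpr hne)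
    rcases hsi with rfl | rfl
    · rw [Finsupp.single_le_iff] at hle; omega
    · rw [Finsupp.single_le_iff] at hle; omega
  · intro h e he
    rw [MvPolynomial.mem_support_iff] at he
    by_cases h0 : e 0 < N
    · by_cases h1 : e 1 < N
      · exact absurd (h e h0 h1) he
      · refine ⟨Finsupp.single 1 N, by simp, ?_⟩
        rw [Finsupp.single_le_iff]; omega
    · refine ⟨Finsupp.single 0 N, by simp, ?_⟩
      rw [Finsupp.single_le_iff]; omega

lemma exists_choose_not_dvd (p : ℕ) [Fact p.Prime] (n : ℕ) (h2 : 2 ≤ n) (hlt : n < p ^ 2)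
    (hne : n ≠ p) : ∃ i, 0 < i ∧ i < n ∧ ¬ p ∣ n.choose i := by
  have hp : p.Prime := Fact.out
  have hp2 : 2 ≤ p := hp.two_le
  obtain ⟨b, hbdef⟩ : ∃ b, b = n / p := ⟨_, rfl⟩
  obtain ⟨a, hadef⟩ : ∃ a, a = n % p := ⟨_, rfl⟩
  have hdiv : b < p := by
    rw [hbdef, Nat.div_lt_iff_lt_mul hp.pos]; nlinarith
  have hmod : a < p := by rw [hadef]; exact Nat.mod_lt _ hp.pos
  have hdecomp : a + p * b = n := by rw [hadef, hbdef]; exact Nat.mod_add_div n p
  by_cases hb : b = 0
  · have hnp : n < p := by rw [hb] at hdecomp; omega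
    refine ⟨1, by omega, by omega, ?_⟩
    rw [Nat.choose_one_right]
    exact Nat.not_dvd_of_pos_of_lt (by omega) hnp
  · by_cases ha : a = 0
    · have hb2 : 2 ≤ b := by
        by_contra hcon
        have hb1 : b = 1 := by omega
        rw [hb1, ha] at hdecomp; omega
      have hpn : p < n := by nlinarith
      refine ⟨p, hp.pos, hpn, ?_⟩
      have hmodeq := Choose.choose_modEq_choose_mod_mul_choose_div_nat (n := n) (k := p) (p := p)
      rw [(hmodeq.dvd_iff (dvd_refl p))]
      rw [← hadef, ← hbdef, ha, Nat.mod_self, Nat.div_self hp.pos, Nat.choose_one_right]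
      simp only [Nat.choose_self, one_mul]
      exact Nat.not_dvd_of_pos_of_lt (by omega) hdiv
    · have hlt' : a < n := by
        have : p * 1 ≤ p * b := Nat.mul_le_mul_left p (by omega)
        omega
      refine ⟨a, by omega, hlt', ?_⟩
      have hmodeq := Choose.choose_modEq_choose_mod_mul_choose_div_nat (n := n) (k := a) (p := p)
      rw [(hmodeq.dvd_iff (dvd_refl p))]
      rw [← hadef, Nat.mod_eq_of_lt hmod, Nat.div_eq_of_lt hmod]
      simp only [Nat.choose_self, Nat.choose_zero_right, one_mul]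
      exact fun h => hp.one_lt.not_ge (Nat.le_of_dvd one_pos h)

lemma isUnit_natCast (p : ℕ) [Fact p.Prime] [CharP A p] (m : ℕ) (hm : ¬ p ∣ m) :
    IsUnit ((m : ℕ) : A) := by
  have h1 : IsUnit ((m : ℕ) : ZMod p) := by
    rw [isUnit_iff_ne_zero]
    intro h0
    exact hm ((ZMod.natCast_eq_zero_iff m p).mp h0)
  have h2 := h1.map (ZMod.castHom (dvd_refl p) A)
  rwa [map_natCast] at h2

lemma part1_mp (p : ℕ) [Fact p.Prime] [CharP A p] (q : A[X]) (hq : q.natDegree < p ^ 2)
    (hmem : Polynomial.aeval (MvPolynomial.X 0 + MvPolynomial.X 1 : MvPolynomial (Fin 2) A) q -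
            Polynomial.aeval (MvPolynomial.X 0 : MvPolynomial (Fin 2) A) q -
            Polynomial.aeval (MvPolynomial.X 1 : MvPolynomial (Fin 2) A) q ∈
          Ideal.span ({MvPolynomial.X 0 ^ p ^ 2, MvPolynomial.X 1 ^ p ^ 2} :
            Set (MvPolynomial (Fin 2) A))) :
    ∃ a₁ ap : A, q = Polynomial.C a₁ * X + Polynomial.C ap * X ^ p := by
  classical
  have hp : p.Prime := Fact.out
  have hp2 : 2 ≤ p := hp.two_le
  have hN : 0 < p ^ 2 := by positivity
  rw [mem_span_iff] at hmem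
  have hcoef : ∀ e : Fin 2 →₀ ℕ, e 0 < p ^ 2 → e 1 < p ^ 2 →
      q.coeff (e 0 + e 1) * (((e 0 + e 1).choose (e 0) : ℕ) : A)
        - (if e = Finsupp.single 0 (e 0) then q.coeff (e 0) else 0)
        - (if e = Finsupp.single 1 (e 1) then q.coeff (e 1) else 0) = 0 := by
    intro e h0 h1
    have := hmem e h0 h1
    rwa [MvPolynomial.coeff_sub, MvPolynomial.coeff_sub, coeff_aeval_add, coeff_aeval_X,
      coeff_aeval_X] at this
  have hz : q.coeff 0 = 0 := by
    have := hcoef 0 (by simpa using hN) (by simpa using hN)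
    simp at this
    exact this
  have hother : ∀ n, n ≠ 1 → n ≠ p → q.coeff n = 0 := by
    intro n hn1 hnp
    by_cases hn0 : n = 0
    · rw [hn0]; exact hz
    by_cases hbig : n < p ^ 2
    · obtain ⟨i, hi0, hin, hdvd⟩ := exists_choose_not_dvd p n (by omega) hbig hnp
      have hu := isUnit_natCast (A := A) p _ hdvd
      have he0 : (Finsupp.single (0 : Fin 2) i + Finsupp.single (1 : Fin 2) (n - i)) 0 = i := by
        simp
      have he1 : (Finsupp.single (0 : Fin 2) i + Finsupp.single (1 : Fin 2) (n - i)) 1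
          = n - i := by
        simp
      have := hcoef (Finsupp.single 0 i + Finsupp.single 1 (n - i))
        (by rw [he0]; omega) (by rw [he1]; omega)
      rw [he0, he1] at this
      have hne0 : ¬ (Finsupp.single (0 : Fin 2) i + Finsupp.single (1 : Fin 2) (n - i)
          = Finsupp.single 0 i) := by
        intro h
        have := DFunLike.congr_fun h 1
        rw [he1] at this
        simp at this
        omega
      have hne1 : ¬ (Finsupp.single (0 : Fin 2) i + Finsupp.single (1 : Fin 2) (n - i)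
          = Finsupp.single 1 (n - i)) := by
        intro h
        have := DFunLike.congr_fun h 0
        rw [he0] at this
        simp at this
        omega
      rw [if_neg hne0, if_neg hne1, sub_zero, sub_zero] at this
      have hin' : i + (n - i) = n := by omega
      rw [hin'] at this
      exact (hu.mul_left_eq_zero).mp this
    · exact Polynomial.coeff_eq_zero_of_natDegree_lt (by omega)
  refine ⟨q.coeff 1, q.coeff p, ?_⟩
  ext n
  rw [Polynomial.coeff_add, Polynomial.coeff_C_mul, Polynomial.coeff_C_mul, Polynomial.coeff_X,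
    Polynomial.coeff_X_pow]
  by_cases hn1 : n = 1
  · subst hn1
    rw [if_pos rfl, if_neg (by omega), mul_one, mul_zero, add_zero]
  · by_cases hnp : n = p
    · subst hnp
      rw [if_neg (by omega), if_pos rfl, mul_one, mul_zero, zero_add]
    · rw [if_neg (by omega), if_neg hnp, mul_zero, mul_zero, add_zero]
      exact hother n hn1 hnp

lemma part1_mpr (p : ℕ) [Fact p.Prime] [CharP A p] (q : A[X])
    (h : ∃ a₁ ap : A, q = Polynomial.C a₁ * X + Polynomial.C ap * X ^ p) :
    Polynomial.aeval (MvPolynomial.X 0 + MvPolynomial.X 1 : MvPolynomial (Fin 2) A) q -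
            Polynomial.aeval (MvPolynomial.X 0 : MvPolynomial (Fin 2) A) q -
            Polynomial.aeval (MvPolynomial.X 1 : MvPolynomial (Fin 2) A) q ∈
          Ideal.span ({MvPolynomial.X 0 ^ p ^ 2, MvPolynomial.X 1 ^ p ^ 2} :
            Set (MvPolynomial (Fin 2) A)) := by
  obtain ⟨a₁, ap, rfl⟩ := h
  have h0 : Polynomial.aeval (MvPolynomial.X 0 + MvPolynomial.X 1 : MvPolynomial (Fin 2) A)
        (Polynomial.C a₁ * X + Polynomial.C ap * X ^ p) -
      Polynomial.aeval (MvPolynomial.X 0 : MvPolynomial (Fin 2) A)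
        (Polynomial.C a₁ * X + Polynomial.C ap * X ^ p) -
      Polynomial.aeval (MvPolynomial.X 1 : MvPolynomial (Fin 2) A)
        (Polynomial.C a₁ * X + Polynomial.C ap * X ^ p) = 0 := by
    simp only [map_add, map_mul, Polynomial.aeval_C, Polynomial.aeval_X, map_pow]
    rw [add_pow_char]
    ring
  rw [h0]
  exact Ideal.zero_mem _

section part2

variable (p : ℕ) [Fact p.Prime] [CharP A p]

local notation "I" => (Ideal.span ({X ^ p ^ 2} : Set A[X]))

lemma mk_eq_aeval (g : A[X]) :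
    Ideal.Quotient.mk (Ideal.span ({X ^ p ^ 2} : Set A[X])) g =
      Polynomial.aeval (Ideal.Quotient.mk (Ideal.span ({X ^ p ^ 2} : Set A[X])) X) g := by
  have := Polynomial.aeval_algHom_apply
    (Ideal.Quotient.mkₐ A (Ideal.span ({X ^ p ^ 2} : Set A[X]))) (X : A[X]) g
  rw [Polynomial.aeval_X_left_apply] at this
  exact this.symm

lemma phi_mk (u : A[X])
    (φ : (A[X] ⧸ Ideal.span ({X ^ p ^ 2} : Set A[X])) →ₐ[A]
      (A[X] ⧸ Ideal.span ({X ^ p ^ 2} : Set A[X])))
    (hφ : φ (Ideal.Quotient.mk (Ideal.span ({X ^ p ^ 2} : Set A[X])) X) =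
          Ideal.Quotient.mk (Ideal.span ({X ^ p ^ 2} : Set A[X])) u) (g : A[X]) :
    φ (Ideal.Quotient.mk (Ideal.span ({X ^ p ^ 2} : Set A[X])) g) =
      Ideal.Quotient.mk (Ideal.span ({X ^ p ^ 2} : Set A[X])) (Polynomial.aeval u g) := by
  rw [mk_eq_aeval p g, ← Polynomial.aeval_algHom_apply φ, hφ]
  have := Polynomial.aeval_algHom_apply
    (Ideal.Quotient.mkₐ A (Ideal.span ({X ^ p ^ 2} : Set A[X]))) u g
  exact this

lemma part2_mpr (a₁ ap : A)
    (φ : (A[X] ⧸ Ideal.span ({X ^ p ^ 2} : Set A[X])) →ₐ[A]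
      (A[X] ⧸ Ideal.span ({X ^ p ^ 2} : Set A[X])))
    (hφ : φ (Ideal.Quotient.mk (Ideal.span ({X ^ p ^ 2} : Set A[X])) X) =
          Ideal.Quotient.mk (Ideal.span ({X ^ p ^ 2} : Set A[X]))
            (Polynomial.C a₁ * X + Polynomial.C ap * X ^ p))
    (hu : IsUnit a₁) : Function.Bijective φ := by
  obtain ⟨b, hab⟩ := hu.exists_right_inv
  have hC : (C a₁ : A[X]) * C b = 1 := by rw [← C_mul, hab, C_1]
  have hCp : (C a₁ : A[X]) ^ p * C b ^ p = 1 := by rw [← mul_pow, hC, one_pow]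
  have hup : (C a₁ * X + C ap * X ^ p : A[X]) ^ p =
      C a₁ ^ p * X ^ p + C ap ^ p * X ^ (p ^ 2) := by
    rw [add_pow_char, mul_pow, mul_pow, ← pow_mul, sq]
  have hg : Polynomial.aeval (C a₁ * X + C ap * X ^ p : A[X])
      (C b * X - C b ^ (p + 1) * C ap * X ^ p : A[X]) =
      X - C b ^ (p + 1) * C ap ^ (p + 1) * X ^ (p ^ 2) := by
    simp only [map_sub, map_mul, map_pow, Polynomial.aeval_C, Polynomial.aeval_X,
      Polynomial.algebraMap_apply, Algebra.algebraMap_self, RingHom.id_apply]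
    rw [hup]
    linear_combination X * hC - C b * C ap * X ^ p * hCp
  have hφg : φ (Ideal.Quotient.mk (Ideal.span ({X ^ p ^ 2} : Set A[X]))
      (C b * X - C b ^ (p + 1) * C ap * X ^ p : A[X])) =
      Ideal.Quotient.mk (Ideal.span ({X ^ p ^ 2} : Set A[X])) X := by
    rw [phi_mk p _ φ hφ, hg, map_sub, sub_eq_self, Ideal.Quotient.eq_zero_iff_mem]
    exact Ideal.mul_mem_left _ _ (Ideal.subset_span (Set.mem_singleton _))
  have hsurj : Function.Surjective φ := by
    intro y
    obtain ⟨h, rfl⟩ := Ideal.Quotient.mk_surjective y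
    refine ⟨Polynomial.aeval (Ideal.Quotient.mk (Ideal.span ({X ^ p ^ 2} : Set A[X]))
      (C b * X - C b ^ (p + 1) * C ap * X ^ p : A[X])) h, ?_⟩
    rw [← Polynomial.aeval_algHom_apply φ, hφg, ← mk_eq_aeval]
  haveI : Module.Finite A (A[X] ⧸ Ideal.span ({X ^ p ^ 2} : Set A[X])) :=
    (monic_X_pow (R := A) (p ^ 2)).finite_quotient
  exact ⟨OrzechProperty.injective_of_surjective_endomorphism φ.toLinearMap hsurj, hsurj⟩

lemma part2_mp (a₁ ap : A)
    (φ : (A[X] ⧸ Ideal.span ({X ^ p ^ 2} : Set A[X])) →ₐ[A]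
      (A[X] ⧸ Ideal.span ({X ^ p ^ 2} : Set A[X])))
    (hφ : φ (Ideal.Quotient.mk (Ideal.span ({X ^ p ^ 2} : Set A[X])) X) =
          Ideal.Quotient.mk (Ideal.span ({X ^ p ^ 2} : Set A[X]))
            (Polynomial.C a₁ * X + Polynomial.C ap * X ^ p))
    (hbij : Function.Bijective φ) : IsUnit a₁ := by
  have hp : p.Prime := Fact.out
  have hp2 : 2 ≤ p := hp.two_le
  obtain ⟨y, hy⟩ := hbij.2 (Ideal.Quotient.mk (Ideal.span ({X ^ p ^ 2} : Set A[X])) X)
  obtain ⟨g, rfl⟩ := Ideal.Quotient.mk_surjective y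
  rw [phi_mk p _ φ hφ, Ideal.Quotient.eq, Ideal.mem_span_singleton] at hy
  obtain ⟨h, hh⟩ := hy
  have hpA : ((p : ℕ) : A) = 0 := CharP.cast_eq_zero A p
  have hd := congrArg (fun f : A[X] => (derivative f).eval 0) hh

  rw [← Polynomial.comp_eq_aeval, derivative_sub, derivative_comp, derivative_X, eval_sub,
    eval_mul, eval_comp, eval_one] at hd
  have h1 : eval 0 (derivative (C a₁ * X + C ap * X ^ p : A[X])) = a₁ := by
    simp [derivative_X_pow, hpA]
  have h2 : eval 0 (C a₁ * X + C ap * X ^ p : A[X]) = 0 := by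
    simp [hp.ne_zero]
  have h3 : eval 0 (derivative (X ^ p ^ 2 * h : A[X])) = 0 := by
    have : ((p ^ 2 : ℕ) : A) = 0 := by push_cast; rw [hpA]; ring
    rw [derivative_mul, derivative_X_pow, this]
    simp [hp.ne_zero]
  rw [h1, h2, h3, sub_eq_zero] at hd
  exact IsUnit.of_mul_eq_one _ hd

end part2

theorem main (p : ℕ) [Fact p.Prime] (A : Type u) [CommRing A] [CharP A p] :
    (∀ q : A[X], q.natDegree < p ^ 2 →
      (Polynomial.aeval (MvPolynomial.X 0 + MvPolynomial.X 1 : MvPolynomial (Fin 2) A) q -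
            Polynomial.aeval (MvPolynomial.X 0 : MvPolynomial (Fin 2) A) q -
            Polynomial.aeval (MvPolynomial.X 1 : MvPolynomial (Fin 2) A) q ∈
          Ideal.span ({MvPolynomial.X 0 ^ p ^ 2, MvPolynomial.X 1 ^ p ^ 2} : Set (MvPolynomial (Fin 2) A)) ↔
        ∃ a₁ ap : A, q = Polynomial.C a₁ * X + Polynomial.C ap * X ^ p)) ∧
    (∀ (a₁ ap : A) (φ : (A[X] ⧸ Ideal.span ({X ^ p ^ 2} : Set A[X])) →ₐ[A] (A[X] ⧸ Ideal.span ({X ^ p ^ 2} : Set A[X]))),
      φ (Ideal.Quotient.mk (Ideal.span ({X ^ p ^ 2} : Set A[X])) X) =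
          Ideal.Quotient.mk (Ideal.span ({X ^ p ^ 2} : Set A[X])) (Polynomial.C a₁ * X + Polynomial.C ap * X ^ p) →
        (Function.Bijective φ ↔ IsUnit a₁)) :=
  ⟨fun q hq => ⟨part1_mp p q hq, part1_mpr p q⟩,
    fun a₁ ap φ hφ => ⟨part2_mp p a₁ ap φ hφ, part2_mpr p a₁ ap φ hφ⟩⟩

end Groth.Agent.Lib.TruncAddH1
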