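import Mathlib

namespace Groth.Agent.Lib.TruncBinom

open Polynomial Finset

variable {R : Type*} [CommRing R] [Algebra ℚ R]

theorem part1 (r : R) (δ : ℕ) (hr : (r - 1) ^ (δ + 1) = 0) (n : ℕ) :
    r ^ n = ∑ k ∈ range (δ + 1),
      ((descPochhammer ℚ k).eval (n : ℚ) / (k.factorial : ℚ)) • (r - 1) ^ k := by
  have hcoef : ∀ k : ℕ,
      (descPochhammer ℚ k).eval (n : ℚ) / (k.factorial : ℚ) = (n.choose k : ℚ) := by
    intro k
    rw [descPochhammer_eval_eq_descFactorial, Nat.descFactorial_eq_factorial_mul_choose]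
    have hk0 : (k.factorial : ℚ) ≠ 0 := by positivity
    push_cast
    field_simp
  simp_rw [hcoef]
  have hzero : ∀ k, δ + 1 ≤ k → (r - 1) ^ k = 0 := by
    intro k hk
    obtain ⟨m, rfl⟩ := Nat.exists_eq_add_of_le hk
    rw [pow_add, hr, zero_mul]
  have h1 : r ^ n = ∑ k ∈ range (n + 1), (n.choose k : ℚ) • (r - 1) ^ k := by
    have hr' : r = (r - 1) + 1 := by ring
    conv_lhs => rw [hr', add_pow]
    refine Finset.sum_congr rfl fun k _ => ?_
    rw [one_pow, mul_one, Nat.cast_smul_eq_nsmul ℚ, nsmul_eq_mul, mul_comm]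
  rw [h1]
  have e1 : ∑ k ∈ range (n + 1), (n.choose k : ℚ) • (r - 1) ^ k =
      ∑ k ∈ range (n + δ + 1), (n.choose k : ℚ) • (r - 1) ^ k := by
    apply Finset.sum_subset (Finset.range_mono (by omega : n + 1 ≤ n + δ + 1))
    intro k _ hk
    have hk' : n < k := by have := Finset.mem_range.not.mp hk; omega
    rw [Nat.choose_eq_zero_of_lt hk']; simp
  have e2 : ∑ k ∈ range (δ + 1), (n.choose k : ℚ) • (r - 1) ^ k =
      ∑ k ∈ range (n + δ + 1), (n.choose k : ℚ) • (r - 1) ^ k := by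
    apply Finset.sum_subset (Finset.range_mono (by omega : δ + 1 ≤ n + δ + 1))
    intro k _ hk
    have hk' : δ + 1 ≤ k := by have := Finset.mem_range.not.mp hk; omega
    rw [hzero k hk', smul_zero]
  rw [e1, e2]

theorem lemA (r : R) (k : ℕ) : ((k.factorial : ℚ))⁻¹ • (r - 1) ^ k =
    ∑ u ∈ range (k + 1),
      ((-1 : ℚ) ^ (k - u) / ((u.factorial * (k - u).factorial : ℕ) : ℚ)) • r ^ u := by
  rw [sub_eq_add_neg, add_pow, Finset.smul_sum]
  refine Finset.sum_congr rfl fun u hu => ?_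
  have huk : u ≤ k := by have := Finset.mem_range.mp hu; omega
  have h1 : r ^ u * (-1) ^ (k - u) * ((k.choose u : ℕ) : R) =
      (((-1) ^ (k - u) * (k.choose u : ℤ) : ℤ) : ℚ) • r ^ u := by
    rw [Int.cast_smul_eq_zsmul ℚ, zsmul_eq_mul]; push_cast; ring
  rw [h1, smul_smul]
  congr 1
  have h2 : (k.choose u : ℚ) * (u.factorial : ℚ) * ((k - u).factorial : ℚ) =
      (k.factorial : ℚ) := by
    exact_mod_cast Nat.choose_mul_factorial_mul_factorial huk
  have hk0 : (k.factorial : ℚ) ≠ 0 := by positivity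
  have hu0 : (u.factorial : ℚ) ≠ 0 := by positivity
  have hku0 : ((k - u).factorial : ℚ) ≠ 0 := by positivity
  push_cast
  rw [eq_div_iff (mul_ne_zero hu0 hku0), inv_mul_eq_div, div_mul_eq_mul_div, div_eq_iff hk0]
  linear_combination ((-1 : ℚ) ^ (k - u)) * h2

theorem lemB (k j : ℕ) :
    (descPochhammer R k).coeff j = (((descPochhammer ℤ k).coeff j : ℤ) : R) := by
  rw [← descPochhammer_map (Int.castRingHom R) k, coeff_map]; simp

theorem part2 (r : R) (δ : ℕ) :
    (∑ k ∈ range (δ + 1), ((k.factorial : ℚ)⁻¹ • (descPochhammer R k * C ((r - 1) ^ k))) =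
      ∑ j ∈ range (δ + 1), C (∑ k ∈ range (δ + 1), ∑ u ∈ range (k + 1),
        (((-1 : ℚ) ^ (k - u) * (((descPochhammer ℤ k).coeff j : ℤ) : ℚ)) /
          ((u.factorial * (k - u).factorial : ℕ) : ℚ)) • r ^ u) * X ^ j) := by
  ext j
  rw [finset_sum_coeff, finset_sum_coeff]
  simp only [coeff_smul, coeff_mul_C, coeff_C_mul_X_pow]
  rw [Finset.sum_ite_eq (range (δ + 1)) j]
  by_cases hj : j < δ + 1
  · rw [if_pos (Finset.mem_range.mpr hj)]
    refine Finset.sum_congr rfl fun k _ => ?_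
    rw [lemB, ← mul_smul_comm, lemA, Finset.mul_sum]
    refine Finset.sum_congr rfl fun u _ => ?_
    rw [mul_smul_comm, ← zsmul_eq_mul, ← Int.cast_smul_eq_zsmul ℚ, smul_smul]
    congr 1
    ring
  · rw [if_neg (fun h => hj (Finset.mem_range.mp h))]
    refine Finset.sum_eq_zero fun k hk => ?_
    have hk' : k < δ + 1 := Finset.mem_range.mp hk
    rw [lemB, coeff_eq_zero_of_natDegree_lt (by rw [descPochhammer_natDegree]; omega)]
    simp

theorem main (r : R) (δ : ℕ) (hr : (r - 1) ^ (δ + 1) = 0) :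
    (∀ n : ℕ, r ^ n = ∑ k ∈ Finset.range (δ + 1),
      ((descPochhammer ℚ k).eval (n : ℚ) / (k.factorial : ℚ)) • (r - 1) ^ k) ∧
    (∑ k ∈ Finset.range (δ + 1),
        ((k.factorial : ℚ)⁻¹ • (descPochhammer R k * Polynomial.C ((r - 1) ^ k))) =
      ∑ j ∈ Finset.range (δ + 1), Polynomial.C (∑ k ∈ Finset.range (δ + 1),
        ∑ u ∈ Finset.range (k + 1),
        (((-1 : ℚ) ^ (k - u) * (((descPochhammer ℤ k).coeff j : ℤ) : ℚ)) /
          ((u.factorial * (k - u).factorial : ℕ) : ℚ)) • r ^ u) * Polynomial.X ^ j) :=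
  ⟨part1 r δ hr, part2 r δ⟩

end Groth.Agent.Lib.TruncBinom
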