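import Mathlib

/-!
Helper library (helper1): formal smoothness lifts along nilpotent thickenings of the base for flat
algebras; algebras flat over a truncated polynomial ring with smooth closed fibre.
APPEND-ONLY once landed.
-/

set_option autoImplicit false

namespace Groth.Agent.Lib.TruncSmoothH1

open TensorProduct Polynomial

universe u

section Nilpotent

theorem flat_quotient {R S : Type u} [CommRing R] [CommRing S] [Algebra R S] [Module.Flat R S]
    (J : Ideal R) : Module.Flat (R ⧸ J) (S ⧸ J.map (algebraMap R S)) := by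
  let e0 : (S ⧸ J.map (algebraMap R S)) ≃ₐ[S] S ⊗[R] (R ⧸ J) :=
    Algebra.TensorProduct.quotIdealMapEquivTensorQuot S J
  let e1 : S ⊗[R] (R ⧸ J) ≃ₗ[R] (R ⧸ J) ⊗[R] S := TensorProduct.comm R S (R ⧸ J)
  let l : (R ⧸ J) ⊗[R] S →ₗ[R] (S ⧸ J.map (algebraMap R S)) :=
    (e0.symm.toLinearEquiv.restrictScalars R).toLinearMap ∘ₗ e1.symm.toLinearMap
  have hbij : Function.Bijective l :=
    (e0.symm.toLinearEquiv.restrictScalars R).bijective.comp e1.symm.bijective
  let l' : (R ⧸ J) ⊗[R] S →ₗ[R ⧸ J] (S ⧸ J.map (algebraMap R S)) :=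
    l.extendScalarsOfSurjective Ideal.Quotient.mk_surjective
  have hbij' : Function.Bijective l' := hbij
  exact Module.Flat.of_linearEquiv (LinearEquiv.ofBijective l' hbij').symm

theorem fs_base {R S R₀ S₀ : Type u} [CommRing R] [CommRing S] [CommRing R₀] [CommRing S₀]
    [Algebra R S] [Module.Flat R S] (qR : R →+* R₀) (qS : S →+* S₀) (g : R₀ →+* S₀)
    (surjR : Function.Surjective qR) (surjS : Function.Surjective qS)
    (comm : qS.comp (algebraMap R S) = g.comp qR) (sq : RingHom.ker qR ^ 2 = ⊥)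
    (eqmap : RingHom.ker qS = (RingHom.ker qR).map (algebraMap R S)) (hg : g.FormallySmooth) :
    Algebra.FormallySmooth R S :=
  RingHom.formallySmooth_algebraMap.mp
    (RingHom.FormallySmooth.of_flat_of_ker_eq_map_of_square_zero (algebraMap R S)
      (RingHom.flat_algebraMap_iff.mpr inferInstance) qR qS g surjR surjS comm sq eqmap hg)

theorem formallySmooth_of_nilpotent (N : ℕ) :
    ∀ {R S R₀ S₀ : Type u} [CommRing R] [CommRing S] [CommRing R₀] [CommRing S₀]
      [Algebra R S] [Module.Flat R S] (qR : R →+* R₀) (qS : S →+* S₀) (g : R₀ →+* S₀),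
      Function.Surjective qR → Function.Surjective qS →
      qS.comp (algebraMap R S) = g.comp qR → RingHom.ker qR ^ N = ⊥ →
      RingHom.ker qS = (RingHom.ker qR).map (algebraMap R S) → g.FormallySmooth →
      Algebra.FormallySmooth R S := by
  induction N using Nat.strong_induction_on with
  | _ N IH =>
    intro R S R₀ S₀ _ _ _ _ _ _ qR qS g surjR surjS comm nil eqmap hg
    by_cases hN : N ≤ 2
    · refine fs_base qR qS g surjR surjS comm ?_ eqmap hg
      exact le_bot_iff.mp (nil ▸ Ideal.pow_le_pow_right hN)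
    · have hN' : 2 < N := not_le.mp hN
      have hJI : RingHom.ker qR ^ 2 ≤ RingHom.ker qR := Ideal.pow_le_self (by norm_num)
      have hJS : (RingHom.ker qR ^ 2).map (algebraMap R S) ≤ RingHom.ker qS := by
        rw [eqmap]
        exact Ideal.map_mono hJI
      haveI : Module.Flat (R ⧸ RingHom.ker qR ^ 2)
          (S ⧸ (RingHom.ker qR ^ 2).map (algebraMap R S)) := flat_quotient _
      have h1 : Algebra.FormallySmooth (R ⧸ RingHom.ker qR ^ 2)
          (S ⧸ (RingHom.ker qR ^ 2).map (algebraMap R S)) := by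
        refine fs_base (Ideal.Quotient.lift (RingHom.ker qR ^ 2) qR hJI)
          (Ideal.Quotient.lift ((RingHom.ker qR ^ 2).map (algebraMap R S)) qS hJS)
          g ?_ ?_ ?_ ?_ ?_ hg
        · exact Ideal.Quotient.lift_surjective_of_surjective _ _ surjR
        · exact Ideal.Quotient.lift_surjective_of_surjective _ _ surjS
        · apply Ideal.Quotient.ringHom_ext
          apply RingHom.ext
          intro r
          exact RingHom.congr_fun comm r
        · rw [Ideal.ker_quotient_lift, ← Ideal.map_pow, Ideal.map_quotient_self]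
        · rw [Ideal.ker_quotient_lift, Ideal.ker_quotient_lift, eqmap, Ideal.map_map, Ideal.map_map]
          rfl
      refine IH ((N + 1) / 2) (by omega) (Ideal.Quotient.mk (RingHom.ker qR ^ 2))
        (Ideal.Quotient.mk ((RingHom.ker qR ^ 2).map (algebraMap R S)))
        (algebraMap (R ⧸ RingHom.ker qR ^ 2) (S ⧸ (RingHom.ker qR ^ 2).map (algebraMap R S)))
        Ideal.Quotient.mk_surjective Ideal.Quotient.mk_surjective ?_ ?_ ?_
        (RingHom.formallySmooth_algebraMap.mpr h1)
      · rfl
      · rw [Ideal.mk_ker, ← pow_mul]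
        refine le_bot_iff.mp (nil ▸ Ideal.pow_le_pow_right ?_)
        omega
      · rw [Ideal.mk_ker, Ideal.mk_ker]

end Nilpotent

section DFacts

variable {k : Type u} [Field k] {n : ℕ} {D : Type u} [CommRing D] [Algebra k D] {τ : D}
  (e : (k[X] ⧸ Ideal.span {(X : k[X]) ^ (n + 1)}) ≃ₐ[k] D)
  (he : e (Ideal.Quotient.mk (Ideal.span {(X : k[X]) ^ (n + 1)}) X) = τ)

include he in
theorem e_mk (f : k[X]) :
    e (Ideal.Quotient.mk (Ideal.span {(X : k[X]) ^ (n + 1)}) f) = Polynomial.aeval τ f := by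
  have h : (e.toAlgHom.comp (Ideal.Quotient.mkₐ k (Ideal.span {(X : k[X]) ^ (n + 1)}))) =
      Polynomial.aeval τ := by
    apply Polynomial.algHom_ext
    rw [Polynomial.aeval_X]
    exact he
  exact DFunLike.congr_fun h f

include he in
theorem exists_aeval (d : D) : ∃ f : k[X], d = Polynomial.aeval τ f := by
  obtain ⟨y, rfl⟩ := e.surjective d
  obtain ⟨f, rfl⟩ := Ideal.Quotient.mk_surjective y
  exact ⟨f, e_mk e he f⟩

include he in
theorem tau_pow : τ ^ (n + 1) = 0 := by
  have h := e_mk e he (X ^ (n + 1))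
  have h0 : Ideal.Quotient.mk (Ideal.span {(X : k[X]) ^ (n + 1)}) (X ^ (n + 1)) = 0 :=
    Ideal.Quotient.eq_zero_iff_mem.mpr (Ideal.subset_span rfl)
  rw [h0, map_zero, map_pow, Polynomial.aeval_X] at h
  exact h.symm

include he in
theorem algHom_ext_D {C : Type*} [Semiring C] [Algebra k C] (φ ψ : D →ₐ[k] C) (h : φ τ = ψ τ) :
    φ = ψ := by
  apply AlgHom.ext
  intro d
  obtain ⟨f, rfl⟩ := exists_aeval e he d
  rw [← Polynomial.aeval_algHom_apply, ← Polynomial.aeval_algHom_apply, h]

theorem aeval_vanish {C : Type*} [CommRing C] [Algebra k C] (c : C) (hc : c ^ (n + 1) = 0) :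
    ∀ a ∈ Ideal.span {(X : k[X]) ^ (n + 1)}, (Polynomial.aeval c : k[X] →ₐ[k] C) a = 0 := by
  intro a ha
  obtain ⟨b, rfl⟩ := Ideal.mem_span_singleton.mp ha
  rw [map_mul, map_pow, Polynomial.aeval_X, hc, zero_mul]

/-- the algebra map out of `D` sending `τ` to an element with vanishing `(n+1)`-st power. -/
noncomputable def homOf {C : Type*} [CommRing C] [Algebra k C] (c : C) (hc : c ^ (n + 1) = 0) :
    D →ₐ[k] C :=
  (Ideal.Quotient.liftₐ (Ideal.span {(X : k[X]) ^ (n + 1)}) (Polynomial.aeval c)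
    (aeval_vanish c hc)).comp e.symm.toAlgHom

include he in
theorem homOf_tau {C : Type*} [CommRing C] [Algebra k C] (c : C) (hc : c ^ (n + 1) = 0) :
    homOf e c hc τ = c := by
  rw [← he]
  show (Ideal.Quotient.liftₐ (Ideal.span {(X : k[X]) ^ (n + 1)}) (Polynomial.aeval c)
    (aeval_vanish c hc)) (e.symm (e (Ideal.Quotient.mk _ X))) = c
  rw [e.symm_apply_apply]
  show Polynomial.aeval c X = c
  exact Polynomial.aeval_X c

end DFacts

section BFacts

variable {k : Type u} [Field k] {n : ℕ} {D : Type u} [CommRing D] [Algebra k D] {τ : D}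
  (e : (k[X] ⧸ Ideal.span {(X : k[X]) ^ (n + 1)}) ≃ₐ[k] D)
  (he : e (Ideal.Quotient.mk (Ideal.span {(X : k[X]) ^ (n + 1)}) X) = τ)
  {B : Type u} [CommRing B] [Algebra k B] [Algebra D B] [IsScalarTower k D B]

include he in
theorem formallySmooth_D_B [Module.Flat D B] (t : B) (ht : t = algebraMap D B τ)
    (hsm : Algebra.FormallySmooth k (B ⧸ Ideal.span {t})) : Algebra.FormallySmooth D B := by
  let ε : D →ₐ[k] k := homOf e (0 : k) (by rw [zero_pow (Nat.succ_ne_zero n)])
  have hετ : ε τ = 0 := homOf_tau e he _ _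
  have hker : RingHom.ker ε.toRingHom = Ideal.span {τ} := by
    apply le_antisymm
    · intro d hd
      obtain ⟨f, rfl⟩ := exists_aeval e he d
      have h1 : ε (Polynomial.aeval τ f) = 0 := hd
      rw [← Polynomial.aeval_algHom_apply, hετ] at h1
      have h2 : f.coeff 0 = 0 := by
        rw [Polynomial.coeff_zero_eq_aeval_zero]
        exact h1
      obtain ⟨g, rfl⟩ := Polynomial.X_dvd_iff.mpr h2
      rw [map_mul, Polynomial.aeval_X]
      exact Ideal.mul_mem_right _ _ (Ideal.subset_span rfl)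
    · rw [Ideal.span_singleton_le_iff_mem]
      exact hετ
  refine formallySmooth_of_nilpotent (n + 1) ε.toRingHom (Ideal.Quotient.mk (Ideal.span {t}))
    (algebraMap k (B ⧸ Ideal.span {t})) ?_ Ideal.Quotient.mk_surjective ?_ ?_ ?_
    (RingHom.formallySmooth_algebraMap.mpr hsm)
  · intro c
    exact ⟨algebraMap k D c, ε.commutes c⟩
  · have h := algHom_ext_D e he
      ((Ideal.Quotient.mkₐ k (Ideal.span {t})).comp (IsScalarTower.toAlgHom k D B))
      ((Algebra.ofId k (B ⧸ Ideal.span {t})).comp ε) (by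
        show Ideal.Quotient.mk (Ideal.span {t}) (algebraMap D B τ) =
          algebraMap k (B ⧸ Ideal.span {t}) (ε τ)
        rw [hετ, map_zero, ← ht]
        exact Ideal.Quotient.eq_zero_iff_mem.mpr (Ideal.subset_span rfl))
    apply RingHom.ext
    intro d
    exact DFunLike.congr_fun h d
  · rw [hker, Ideal.span_singleton_pow, tau_pow e he]
    exact Ideal.span_singleton_eq_bot.mpr rfl
  · rw [Ideal.mk_ker, hker, Ideal.map_span, Set.image_singleton, ← ht]

end BFacts

end Groth.Agent.Lib.TruncSmoothH1
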