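import Mathlib
import Groth.Agent.Lib.TruncSmooth_helper1

/-!
Helper library (helper1): differentials of an algebra flat over a truncated polynomial ring with
smooth closed fibre.  APPEND-ONLY once landed.
-/

set_option autoImplicit false

namespace Groth.Agent.Lib.TruncDefH1

open TensorProduct Polynomial KaehlerDifferential Groth.Agent.Lib.TruncSmoothH1

universe u

/-- the quotient `B/(t^n)`. -/
abbrev Bq {B : Type u} [CommRing B] (t : B) (n : ℕ) : Type u := B ⧸ Ideal.span {t ^ n}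

section

variable {k : Type u} [Field k] {n : ℕ} {D : Type u} [CommRing D] [Algebra k D] {τ : D}
  (e : (k[X] ⧸ Ideal.span {(X : k[X]) ^ (n + 1)}) ≃ₐ[k] D)
  (he : e (Ideal.Quotient.mk (Ideal.span {(X : k[X]) ^ (n + 1)}) X) = τ)
  {B : Type u} [CommRing B] [Algebra k B] [Algebra D B] [IsScalarTower k D B]

theorem mk_t_pow (t : B) : (Ideal.Quotient.mk (Ideal.span {t ^ n}) t) ^ n = 0 := by
  rw [← map_pow]
  exact Ideal.Quotient.eq_zero_iff_mem.mpr (Ideal.subset_span rfl)

theorem dual_pow (t : B) :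
    ((TrivSqZeroExt.inl (Ideal.Quotient.mk (Ideal.span {t ^ n}) t) + TrivSqZeroExt.inr 1 :
      TrivSqZeroExt (Bq t n) (Bq t n))) ^ (n + 1) = 0 := by
  refine TrivSqZeroExt.ext ?_ ?_
  · rw [TrivSqZeroExt.fst_pow, TrivSqZeroExt.fst_add, TrivSqZeroExt.fst_inl, TrivSqZeroExt.fst_inr,
      add_zero, pow_succ, mk_t_pow, zero_mul, TrivSqZeroExt.fst_zero]
  · rw [TrivSqZeroExt.snd_pow, TrivSqZeroExt.fst_add, TrivSqZeroExt.fst_inl, TrivSqZeroExt.fst_inr,
      add_zero, Nat.pred_succ, mk_t_pow, zero_smul, smul_zero, TrivSqZeroExt.snd_zero]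

include he in
theorem exists_derivation [Module.Flat D B] (t : B) (ht : t = algebraMap D B τ)
    (hsm : Algebra.FormallySmooth k (B ⧸ Ideal.span {t})) :
    ∃ δ : Derivation k B (Bq t n), δ t = 1 := by
  haveI : Algebra.FormallySmooth D B := formallySmooth_D_B e he t ht hsm
  let ψ : D →ₐ[k] TrivSqZeroExt (Bq t n) (Bq t n) := homOf e _ (dual_pow t)
  have hψτ : ψ τ = TrivSqZeroExt.inl (Ideal.Quotient.mk (Ideal.span {t ^ n}) t) +
      TrivSqZeroExt.inr 1 := homOf_tau e he _ _
  letI algDC : Algebra D (TrivSqZeroExt (Bq t n) (Bq t n)) := ψ.toRingHom.toAlgebra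
  have hfst : ∀ d : D, (ψ d).fst = algebraMap D (Bq t n) d := by
    intro d
    have h := algHom_ext_D e he ((TrivSqZeroExt.fstHom k (Bq t n) (Bq t n)).comp ψ)
      (IsScalarTower.toAlgHom k D (Bq t n)) (by
        show (ψ τ).fst = algebraMap D (Bq t n) τ
        rw [hψτ, TrivSqZeroExt.fst_add, TrivSqZeroExt.fst_inl, TrivSqZeroExt.fst_inr, add_zero, ht]
        rfl)
    exact DFunLike.congr_fun h d
  let fstD : TrivSqZeroExt (Bq t n) (Bq t n) →ₐ[D] Bq t n :=
    { (TrivSqZeroExt.fstHom k (Bq t n) (Bq t n)).toRingHom with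
      commutes' := fun d => hfst d }
  have hfstD : ∀ x, fstD x = x.fst := fun _ => rfl
  have hsurj : Function.Surjective fstD := fun b => ⟨TrivSqZeroExt.inl b, rfl⟩
  have hsq : (RingHom.ker (fstD : TrivSqZeroExt (Bq t n) (Bq t n) →+* Bq t n)) ^ 2 = ⊥ := by
    rw [eq_bot_iff, pow_two, Ideal.mul_le]
    intro x hx y hy
    have hx' : x.fst = 0 := hx
    have hy' : y.fst = 0 := hy
    rw [Ideal.mem_bot]
    refine TrivSqZeroExt.ext ?_ ?_
    · rw [TrivSqZeroExt.fst_mul, hx', zero_mul, TrivSqZeroExt.fst_zero]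
    · rw [TrivSqZeroExt.snd_mul, hx', hy', zero_smul, MulOpposite.op_zero, zero_smul, add_zero,
        TrivSqZeroExt.snd_zero]
  have hnil : IsNilpotent (RingHom.ker (fstD : TrivSqZeroExt (Bq t n) (Bq t n) →+* Bq t n)) :=
    ⟨2, hsq⟩
  let Φ : B →ₐ[D] TrivSqZeroExt (Bq t n) (Bq t n) :=
    Algebra.FormallySmooth.liftOfSurjective (IsScalarTower.toAlgHom D B (Bq t n)) fstD hsurj hnil
  have hΦ : ∀ b, (Φ b).fst = Ideal.Quotient.mk (Ideal.span {t ^ n}) b := fun b =>
    DFunLike.congr_fun (Algebra.FormallySmooth.comp_liftOfSurjective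
      (IsScalarTower.toAlgHom D B (Bq t n)) fstD hsurj hnil) b
  have hΦt : Φ t = ψ τ := (congrArg Φ ht).trans (Φ.commutes τ)
  have hΦk : ∀ (c : k) (b : B), Φ (c • b) = c • Φ b := by
    intro c b
    rw [Algebra.smul_def, map_mul, IsScalarTower.algebraMap_apply k D B, Φ.commutes,
      Algebra.smul_def]
    congr 1
    exact ψ.commutes c
  refine ⟨Derivation.mk
    { toFun := fun b => (Φ b).snd
      map_add' := fun a b => by rw [map_add, TrivSqZeroExt.snd_add]
      map_smul' := fun c b => by rw [hΦk, TrivSqZeroExt.snd_smul, RingHom.id_apply] } ?_ ?_, ?_⟩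
  · show (Φ 1).snd = 0
    rw [map_one, TrivSqZeroExt.snd_one]
  · intro a b
    show (Φ (a * b)).snd = a • (Φ b).snd + b • (Φ a).snd
    rw [map_mul, TrivSqZeroExt.snd_mul, hΦ, hΦ, op_smul_eq_smul]
    rfl
  · show (Φ t).snd = 1
    rw [hΦt, hψτ, TrivSqZeroExt.snd_add, TrivSqZeroExt.snd_inl, TrivSqZeroExt.snd_inr, zero_add]

include he in
theorem omega_D (ω : Ω[D⁄k]) : ∃ c : D, ω = c • KaehlerDifferential.D k D τ := by
  have hω : ω ∈ Submodule.span D (Set.range (KaehlerDifferential.D k D)) := by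
    rw [KaehlerDifferential.span_range_derivation]
    trivial
  induction hω using Submodule.span_induction with
  | mem _ hz =>
    obtain ⟨a, rfl⟩ := hz
    obtain ⟨f, rfl⟩ := exists_aeval e he a
    exact ⟨Polynomial.aeval τ (Polynomial.derivative f), Derivation.map_aeval _ f τ⟩
  | zero => exact ⟨0, (zero_smul _ _).symm⟩
  | add _ _ _ _ h1 h2 =>
    obtain ⟨c1, h1⟩ := h1
    obtain ⟨c2, h2⟩ := h2
    exact ⟨c1 + c2, by rw [add_smul, ← h1, ← h2]⟩
  | smul r _ _ h1 =>
    obtain ⟨c1, h1⟩ := h1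
    exact ⟨r * c1, by rw [mul_smul, ← h1]⟩

include he in
theorem ker_map_eq (t : B) (ht : t = algebraMap D B τ) (η : Ω[B⁄k])
    (hη : KaehlerDifferential.map k D B B η = 0) :
    ∃ b : B, η = b • KaehlerDifferential.D k B t := by
  obtain ⟨w, rfl⟩ := (KaehlerDifferential.exact_mapBaseChange_map k D B η).mp hη
  clear hη
  induction w using TensorProduct.induction_on with
  | zero => exact ⟨0, by rw [map_zero, zero_smul]⟩
  | tmul b ω =>
    obtain ⟨c, rfl⟩ := omega_D e he ω
    refine ⟨b * algebraMap D B c, ?_⟩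
    rw [KaehlerDifferential.mapBaseChange_tmul, map_smul, KaehlerDifferential.map_D, ← ht,
      mul_smul, algebraMap_smul]
  | add w1 w2 h1 h2 =>
    obtain ⟨b1, h1⟩ := h1
    obtain ⟨b2, h2⟩ := h2
    exact ⟨b1 + b2, by rw [map_add, h1, h2, add_smul]⟩

end

section Main

variable {k : Type u} [Field k] {n : ℕ} {D : Type u} [CommRing D] [Algebra k D] {τ : D}
  (e : (k[X] ⧸ Ideal.span {(X : k[X]) ^ (n + 1)}) ≃ₐ[k] D)
  (he : e (Ideal.Quotient.mk (Ideal.span {(X : k[X]) ^ (n + 1)}) X) = τ)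
  {B : Type u} [CommRing B] [Algebra k B] [Algebra D B] [IsScalarTower k D B]
  (t : B)

/-- the element `1 ⊗ dt`. -/
noncomputable def uu : (Bq t n) ⊗[B] Ω[B⁄k] := (1 : Bq t n) ⊗ₜ[B] KaehlerDifferential.D k B t

/-- the retraction attached to a derivation. -/
noncomputable def rho (δ : Derivation k B (Bq t n)) : (Bq t n) ⊗[B] Ω[B⁄k] →ₗ[Bq t n] Bq t n :=
  LinearMap.liftBaseChange (Bq t n) δ.liftKaehlerDifferential

theorem rho_tmul (δ : Derivation k B (Bq t n)) (a : Bq t n) (x : B) :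
    rho t δ (a ⊗ₜ[B] KaehlerDifferential.D k B x) = a * δ x := by
  rw [rho, LinearMap.liftBaseChange_tmul, Derivation.liftKaehlerDifferential_comp_D, smul_eq_mul]

theorem rho_uu (δ : Derivation k B (Bq t n)) (hδ : δ t = 1) : rho (n := n) t δ (uu t) = 1 := by
  rw [uu, rho_tmul, hδ, mul_one]

theorem smul_uu (a : Bq t n) : a • uu (k := k) (n := n) t = a ⊗ₜ[B] KaehlerDifferential.D k B t := by
  rw [uu, smul_tmul', smul_eq_mul, mul_one]

theorem tmul_smul_dt (a : Bq t n) (b : B) :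
    a ⊗ₜ[B] (b • KaehlerDifferential.D k B t) =
      (a * Ideal.Quotient.mk (Ideal.span {t ^ n}) b) • uu (k := k) (n := n) t := by
  rw [smul_uu, ← smul_tmul, Algebra.smul_def, mul_comm]
  rfl

theorem span_injective (δ : Derivation k B (Bq t n)) (hδ : δ t = 1) :
    Function.Injective (LinearMap.toSpanSingleton (Bq t n) ((Bq t n) ⊗[B] Ω[B⁄k])
      (uu (k := k) (n := n) t)) := by
  apply Function.LeftInverse.injective (g := rho t δ)
  intro a
  rw [LinearMap.toSpanSingleton_apply, map_smul, rho_uu t δ hδ, smul_eq_mul, mul_one]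

include he in
theorem exact_span_baseChange (ht : t = algebraMap D B τ) :
    Function.Exact
      (LinearMap.toSpanSingleton (Bq t n) ((Bq t n) ⊗[B] Ω[B⁄k]) (uu (k := k) (n := n) t))
      (LinearMap.baseChange (Bq t n) (KaehlerDifferential.map k D B B)) := by
  have key : ∀ z : (Bq t n) ⊗[B] (LinearMap.ker (KaehlerDifferential.map k D B B)),
      ∃ a : Bq t n, a • uu (k := k) (n := n) t =
        LinearMap.lTensor (Bq t n) (LinearMap.ker (KaehlerDifferential.map k D B B)).subtype z := by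
    intro z
    induction z using TensorProduct.induction_on with
    | zero => exact ⟨0, by rw [zero_smul, map_zero]⟩
    | tmul b' κ =>
      obtain ⟨b, hb⟩ := ker_map_eq e he t ht κ.1 κ.2
      refine ⟨b' * Ideal.Quotient.mk (Ideal.span {t ^ n}) b, ?_⟩
      rw [LinearMap.lTensor_tmul, Submodule.subtype_apply, hb, tmul_smul_dt]
    | add z1 z2 h1 h2 =>
      obtain ⟨a1, h1⟩ := h1
      obtain ⟨a2, h2⟩ := h2
      exact ⟨a1 + a2, by rw [add_smul, h1, h2, map_add]⟩
  intro m
  constructor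
  · intro hm
    have hex := lTensor_exact (Bq t n)
      (LinearMap.exact_subtype_ker_map (KaehlerDifferential.map k D B B))
      (KaehlerDifferential.map_surjective k D B)
    rw [LinearMap.baseChange_eq_ltensor] at hm
    obtain ⟨z, rfl⟩ := (hex m).mp hm
    obtain ⟨a, ha⟩ := key z
    exact ⟨a, ha⟩
  · rintro ⟨a, rfl⟩
    have hdt : KaehlerDifferential.D D B t = 0 := by
      rw [ht]
      exact Derivation.map_algebraMap _ _
    rw [LinearMap.toSpanSingleton_apply, map_smul, uu, LinearMap.baseChange_tmul,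
      KaehlerDifferential.map_D, Algebra.algebraMap_self, RingHom.id_apply, hdt, tmul_zero,
      smul_zero]

theorem baseChange_surjective :
    Function.Surjective
      (LinearMap.baseChange (Bq t n) (KaehlerDifferential.map k D B B)) := by
  rw [LinearMap.baseChange_eq_ltensor]
  exact LinearMap.lTensor_surjective _ (KaehlerDifferential.map_surjective k D B)

include he in
theorem projective_mid [Module.Projective B (Ω[B⁄D])] (ht : t = algebraMap D B τ)
    (δ : Derivation k B (Bq t n)) (hδ : δ t = 1) :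
    Module.Projective (Bq t n) ((Bq t n) ⊗[B] Ω[B⁄k]) := by
  obtain ⟨σ, hσ⟩ := Module.projective_lifting_property
    (LinearMap.baseChange (Bq t n) (KaehlerDifferential.map k D B B)) LinearMap.id
    (baseChange_surjective (k := k) (n := n) (D := D) t)
  have hσ' : ∀ z, LinearMap.baseChange (Bq t n) (KaehlerDifferential.map k D B B) (σ z) = z :=
    fun z => LinearMap.congr_fun hσ z
  let i : (Bq t n) ⊗[B] Ω[B⁄k] →ₗ[Bq t n] (Bq t n) × ((Bq t n) ⊗[B] Ω[B⁄D]) :=
    (rho t δ).prod (LinearMap.baseChange (Bq t n) (KaehlerDifferential.map k D B B))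
  let sp := LinearMap.toSpanSingleton (Bq t n) ((Bq t n) ⊗[B] Ω[B⁄k]) (uu (k := k) (n := n) t)
  let s : (Bq t n) × ((Bq t n) ⊗[B] Ω[B⁄D]) →ₗ[Bq t n] (Bq t n) ⊗[B] Ω[B⁄k] :=
    sp.coprod (σ - sp ∘ₗ rho t δ ∘ₗ σ)
  refine Module.Projective.of_split i s ?_
  apply LinearMap.ext
  intro m
  show sp (rho t δ m) + (σ (LinearMap.baseChange (Bq t n) (KaehlerDifferential.map k D B B) m) -
    sp (rho t δ (σ (LinearMap.baseChange (Bq t n) (KaehlerDifferential.map k D B B) m)))) = m
  set gm := LinearMap.baseChange (Bq t n) (KaehlerDifferential.map k D B B) m with hgm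
  have h0 : LinearMap.baseChange (Bq t n) (KaehlerDifferential.map k D B B) (m - σ gm) = 0 := by
    rw [map_sub, hσ', sub_self]
  obtain ⟨c, hc⟩ := (exact_span_baseChange e he t ht (m - σ gm)).mp h0
  have hc' : sp c = m - σ gm := hc
  have h1 : rho t δ (m - σ gm) = c := by
    rw [← hc', LinearMap.toSpanSingleton_apply, map_smul, rho_uu t δ hδ, smul_eq_mul, mul_one]
  have h2 : sp (rho t δ m) - sp (rho t δ (σ gm)) = m - σ gm := by
    rw [← map_sub, ← map_sub, h1, hc']
  calc sp (rho t δ m) + (σ gm - sp (rho t δ (σ gm)))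
      = (sp (rho t δ m) - sp (rho t δ (σ gm))) + σ gm := by abel
    _ = m := by rw [h2]; abel

end Main

end Groth.Agent.Lib.TruncDefH1

namespace Groth.Agent.Lib.TruncDefH1

open TensorProduct Polynomial KaehlerDifferential Groth.Agent.Lib.TruncSmoothH1

universe u

theorem main18837 (k : Type u) [Field k] (n : ℕ)
    (D : Type u) [CommRing D] [Algebra k D] (τ : D)
    (e : (k[X] ⧸ Ideal.span {(X : k[X]) ^ (n + 1)}) ≃ₐ[k] D)
    (he : e (Ideal.Quotient.mk (Ideal.span {(X : k[X]) ^ (n + 1)}) X) = τ)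
    (B : Type u) [CommRing B] [Algebra k B] [Algebra D B] [IsScalarTower k D B]
    [Module.Flat D B]
    (t : B) (ht : t = algebraMap D B τ) (hsm : Algebra.FormallySmooth k (B ⧸ Ideal.span {t})) :
    Module.Projective B (Ω[B⁄D]) ∧
    Module.Projective (B ⧸ Ideal.span {t ^ n}) ((B ⧸ Ideal.span {t ^ n}) ⊗[B] Ω[B⁄k]) ∧
    Function.Injective
      (LinearMap.toSpanSingleton (B ⧸ Ideal.span {t ^ n}) ((B ⧸ Ideal.span {t ^ n}) ⊗[B] Ω[B⁄k])
        ((1 : (B ⧸ Ideal.span {t ^ n})) ⊗ₜ[B] KaehlerDifferential.D k B t)) ∧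
    Function.Exact
      (LinearMap.toSpanSingleton (B ⧸ Ideal.span {t ^ n}) ((B ⧸ Ideal.span {t ^ n}) ⊗[B] Ω[B⁄k])
        ((1 : (B ⧸ Ideal.span {t ^ n})) ⊗ₜ[B] KaehlerDifferential.D k B t))
      (LinearMap.baseChange (B ⧸ Ideal.span {t ^ n}) (KaehlerDifferential.map k D B B)) ∧
    Function.Surjective (LinearMap.baseChange (B ⧸ Ideal.span {t ^ n})
      (KaehlerDifferential.map k D B B)) := by
  haveI : Algebra.FormallySmooth D B := formallySmooth_D_B e he t ht hsm
  obtain ⟨δ, hδ⟩ := exists_derivation e he t ht hsm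
  exact ⟨inferInstance, projective_mid e he t ht δ hδ, span_injective t δ hδ,
    exact_span_baseChange e he t ht, baseChange_surjective t⟩

end Groth.Agent.Lib.TruncDefH1
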