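import Mathlib
import Groth.Agent.Lib.TruncDef_helper1

/-!
Helper library (helper1): fibre-product descriptions of `B` and `Ω_{B/k}` for an algebra flat over
a truncated polynomial ring with smooth closed fibre.  APPEND-ONLY once landed.
-/

set_option autoImplicit false

namespace Groth.Agent.Lib.TruncDef2H1

open TensorProduct Polynomial KaehlerDifferential Groth.Agent.Lib.TruncSmoothH1
  Groth.Agent.Lib.TruncDefH1

universe u

section

variable {k : Type u} [Field k] [CharZero k] {n : ℕ} {D : Type u} [CommRing D] [Algebra k D] {τ : D}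
  (e : (k[X] ⧸ Ideal.span {(X : k[X]) ^ (n + 1)}) ≃ₐ[k] D)
  (he : e (Ideal.Quotient.mk (Ideal.span {(X : k[X]) ^ (n + 1)}) X) = τ)
  {B : Type u} [CommRing B] [Algebra k B] [Algebra D B] [IsScalarTower k D B]
  (t : B)

theorem smul_Bq (a : B) (x : Bq t n) : a • x = Ideal.Quotient.mk (Ideal.span {t ^ n}) a * x :=
  Algebra.smul_def a x

theorem mk_tn : Ideal.Quotient.mk (Ideal.span {t ^ n}) (t ^ n) = 0 :=
  Ideal.Quotient.eq_zero_iff_mem.mpr (Ideal.subset_span rfl)

theorem nsmul_eq_zero_k {V : Type*} [AddCommGroup V] [Module k V] (m : ℕ) (hm : m ≠ 0) (v : V)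
    (h : m • v = 0) : v = 0 := by
  rw [← Nat.cast_smul_eq_nsmul k m v] at h
  exact (smul_eq_zero.mp h).resolve_left (Nat.cast_ne_zero.mpr hm)

include he in
theorem t_pow_succ (ht : t = algebraMap D B τ) : t ^ (n + 1) = 0 := by
  rw [ht, ← map_pow, tau_pow e he, map_zero]

include he in
theorem mu_injective (hn : 1 ≤ n) (ht : t = algebraMap D B τ) (δ : Derivation k B (Bq t n))
    (hδ : δ t = 1) :
    Function.Injective (fun f : B =>
      ((Ideal.Quotient.mk (Ideal.span {t ^ n}) f,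
        (1 : (B ⧸ Ideal.span {t ^ n})) ⊗ₜ[B] KaehlerDifferential.D k B f) :
          (B ⧸ Ideal.span {t ^ n}) × ((B ⧸ Ideal.span {t ^ n}) ⊗[B] Ω[B⁄k]))) := by
  intro f f' h
  have h1 : Ideal.Quotient.mk (Ideal.span {t ^ n}) f = Ideal.Quotient.mk (Ideal.span {t ^ n}) f' :=
    congrArg Prod.fst h
  have h2 : (1 : Bq t n) ⊗ₜ[B] KaehlerDifferential.D k B f =
      (1 : Bq t n) ⊗ₜ[B] KaehlerDifferential.D k B f' := congrArg Prod.snd h
  have hg1 : f - f' ∈ Ideal.span {t ^ n} := by
    rw [← Ideal.Quotient.eq_zero_iff_mem, map_sub, h1, sub_self]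
  obtain ⟨c, hc⟩ := Ideal.mem_span_singleton.mp hg1
  have hg2 : (1 : Bq t n) ⊗ₜ[B] KaehlerDifferential.D k B (f - f') = 0 := by
    rw [map_sub, tmul_sub, h2, sub_self]
  have h3 : rho t δ ((1 : Bq t n) ⊗ₜ[B] KaehlerDifferential.D k B (f - f')) = 0 := by
    rw [hg2, map_zero]
  rw [rho_tmul, one_mul, hc, Derivation.leibniz, Derivation.leibniz_pow, hδ, smul_Bq, smul_Bq,
    mk_tn, zero_mul, zero_add, smul_Bq, mul_one, mul_smul_comm] at h3
  have h4 : Ideal.Quotient.mk (Ideal.span {t ^ n}) c *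
      Ideal.Quotient.mk (Ideal.span {t ^ n}) (t ^ (n - 1)) = 0 :=
    nsmul_eq_zero_k (k := k) n (by omega) _ h3
  rw [← map_mul, Ideal.Quotient.eq_zero_iff_mem] at h4
  obtain ⟨c', hc'⟩ := Ideal.mem_span_singleton.mp h4
  have h5 : f - f' = 0 := by
    have e1 : t ^ n = t * t ^ (n - 1) := by
      rw [← pow_succ', Nat.sub_add_cancel hn]
    calc f - f' = t ^ n * c := hc
      _ = t * (c * t ^ (n - 1)) := by rw [e1]; ring
      _ = t * (t ^ n * c') := by rw [hc']
      _ = t ^ (n + 1) * c' := by ring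
      _ = 0 := by rw [t_pow_succ e he t ht, zero_mul]
  exact sub_eq_zero.mp h5

theorem mu_range :
    Set.range (fun f : B =>
      ((Ideal.Quotient.mk (Ideal.span {t ^ n}) f,
        (1 : (B ⧸ Ideal.span {t ^ n})) ⊗ₜ[B] KaehlerDifferential.D k B f) :
          (B ⧸ Ideal.span {t ^ n}) × ((B ⧸ Ideal.span {t ^ n}) ⊗[B] Ω[B⁄k]))) =
      {p | KaehlerDifferential.D k (B ⧸ Ideal.span {t ^ n}) p.1 =
        KaehlerDifferential.mapBaseChange k B (B ⧸ Ideal.span {t ^ n}) p.2} := by
  apply Set.eq_of_subset_of_subset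
  · rintro _ ⟨f, rfl⟩
    show KaehlerDifferential.D k (Bq t n) (Ideal.Quotient.mk (Ideal.span {t ^ n}) f) =
      KaehlerDifferential.mapBaseChange k B (Bq t n) ((1 : Bq t n) ⊗ₜ[B] KaehlerDifferential.D k B f)
    rw [KaehlerDifferential.mapBaseChange_tmul, one_smul, KaehlerDifferential.map_D]
    rfl
  · rintro ⟨p1, p2⟩ hp
    have hp' : KaehlerDifferential.D k (Bq t n) p1 =
        KaehlerDifferential.mapBaseChange k B (Bq t n) p2 := hp
    obtain ⟨f₀, rfl⟩ := Ideal.Quotient.mk_surjective p1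
    have hβ : KaehlerDifferential.mapBaseChange k B (Bq t n)
        (p2 - (1 : Bq t n) ⊗ₜ[B] KaehlerDifferential.D k B f₀) = 0 := by
      rw [map_sub, ← hp', KaehlerDifferential.mapBaseChange_tmul, one_smul,
        KaehlerDifferential.map_D]
      exact sub_self _
    obtain ⟨c, hc⟩ := (KaehlerDifferential.exact_kerCotangentToTensor_mapBaseChange k B (Bq t n)
      Ideal.Quotient.mk_surjective _).mp hβ
    obtain ⟨x, rfl⟩ := Ideal.toCotangent_surjective _ c
    rw [KaehlerDifferential.kerCotangentToTensor_toCotangent] at hc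
    have hx : Ideal.Quotient.mk (Ideal.span {t ^ n}) (x : B) = 0 := x.2
    refine ⟨f₀ + x, ?_⟩
    refine Prod.ext ?_ ?_
    · show Ideal.Quotient.mk (Ideal.span {t ^ n}) (f₀ + x) = Ideal.Quotient.mk _ f₀
      rw [map_add, hx, add_zero]
    · show (1 : Bq t n) ⊗ₜ[B] KaehlerDifferential.D k B (f₀ + x) = p2
      rw [map_add, tmul_add, hc]
      abel

include he in
theorem tn_dt (ht : t = algebraMap D B τ) : t ^ n • KaehlerDifferential.D k B t = 0 := by
  have h := Derivation.leibniz_pow (KaehlerDifferential.D k B) t (n + 1)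
  rw [t_pow_succ e he t ht, map_zero, Nat.add_sub_cancel] at h
  exact nsmul_eq_zero_k (k := k) (n + 1) (Nat.succ_ne_zero n) _ h.symm

include he in
theorem nu_injective (ht : t = algebraMap D B τ) (δ : Derivation k B (Bq t n))
    (hδ : δ t = 1) :
    Function.Injective (fun η : Ω[B⁄k] =>
      ((KaehlerDifferential.map k D B B η, (1 : (B ⧸ Ideal.span {t ^ n})) ⊗ₜ[B] η) :
        Ω[B⁄D] × ((B ⧸ Ideal.span {t ^ n}) ⊗[B] Ω[B⁄k]))) := by
  intro η η' h
  have h1 : KaehlerDifferential.map k D B B η = KaehlerDifferential.map k D B B η' :=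
    congrArg Prod.fst h
  have h2 : (1 : Bq t n) ⊗ₜ[B] η = (1 : Bq t n) ⊗ₜ[B] η' := congrArg Prod.snd h
  have h3 : KaehlerDifferential.map k D B B (η - η') = 0 := by rw [map_sub, h1, sub_self]
  obtain ⟨b, hb⟩ := ker_map_eq e he t ht (η - η') h3
  have h4 : (1 : Bq t n) ⊗ₜ[B] (η - η') = 0 := by rw [tmul_sub, h2, sub_self]
  rw [hb, tmul_smul_dt, one_mul] at h4
  have h5 : Ideal.Quotient.mk (Ideal.span {t ^ n}) b = 0 := by
    apply span_injective (k := k) t δ hδ
    rw [LinearMap.toSpanSingleton_apply, h4, map_zero]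
  obtain ⟨c, hc⟩ := Ideal.mem_span_singleton.mp (Ideal.Quotient.eq_zero_iff_mem.mp h5)
  have h6 : η - η' = 0 := by
    rw [hb, hc, mul_comm, mul_smul, tn_dt e he t ht, smul_zero]
  exact sub_eq_zero.mp h6

theorem map_map_eq (η : Ω[B⁄k]) :
    KaehlerDifferential.map D D B (Bq t n) (KaehlerDifferential.map k D B B η) =
      KaehlerDifferential.map k D (Bq t n) (Bq t n) (KaehlerDifferential.map k k B (Bq t n) η) := by
  have hη : η ∈ Submodule.span B (Set.range (KaehlerDifferential.D k B)) := by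
    rw [KaehlerDifferential.span_range_derivation]
    trivial
  induction hη using Submodule.span_induction with
  | mem _ hz =>
    obtain ⟨b, rfl⟩ := hz
    rw [KaehlerDifferential.map_D, KaehlerDifferential.map_D, KaehlerDifferential.map_D,
      KaehlerDifferential.map_D]
    rfl
  | zero => rw [map_zero, map_zero, map_zero, map_zero]
  | add _ _ _ _ h1 h2 => rw [map_add, map_add, map_add, map_add, h1, h2]
  | smul r x _ h1 =>
    have e1 : KaehlerDifferential.map k D B B (r • x) = r • KaehlerDifferential.map k D B B x :=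
      map_smul _ _ _
    have e2 : KaehlerDifferential.map D D B (Bq t n) (r • KaehlerDifferential.map k D B B x) =
        r • KaehlerDifferential.map D D B (Bq t n) (KaehlerDifferential.map k D B B x) :=
      map_smul _ _ _
    have e3 : KaehlerDifferential.map k k B (Bq t n) (r • x) =
        r • KaehlerDifferential.map k k B (Bq t n) x := map_smul _ _ _
    have e4 : KaehlerDifferential.map k D (Bq t n) (Bq t n)
        (r • KaehlerDifferential.map k k B (Bq t n) x) =
        r • KaehlerDifferential.map k D (Bq t n) (Bq t n)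
          (KaehlerDifferential.map k k B (Bq t n) x) := by
      rw [← algebraMap_smul (Bq t n) r (KaehlerDifferential.map k k B (Bq t n) x), map_smul,
        algebraMap_smul]
    rw [e1, e2, e3, e4, h1]

theorem H_injective (ht : ∃ τ : D, t = algebraMap D B τ) :
    Function.Injective (KaehlerDifferential.mapBaseChange D B (Bq t n)) := by
  rw [injective_iff_map_eq_zero]
  intro z hz
  obtain ⟨c, rfl⟩ := (KaehlerDifferential.exact_kerCotangentToTensor_mapBaseChange D B (Bq t n)
    Ideal.Quotient.mk_surjective _).mp hz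
  obtain ⟨x, rfl⟩ := Ideal.toCotangent_surjective _ c
  rw [KaehlerDifferential.kerCotangentToTensor_toCotangent]
  have hx : (x : B) ∈ Ideal.span {t ^ n} := by
    have h0 : Ideal.Quotient.mk (Ideal.span {t ^ n}) (x : B) = 0 := x.2
    exact Ideal.Quotient.eq_zero_iff_mem.mp h0
  obtain ⟨c', hc'⟩ := Ideal.mem_span_singleton.mp hx
  obtain ⟨τ, hτ⟩ := ht
  have hdt : KaehlerDifferential.D D B t = 0 := by
    rw [hτ]
    exact Derivation.map_algebraMap _ _
  rw [hc', Derivation.leibniz, Derivation.leibniz_pow, hdt, smul_zero, smul_zero, smul_zero,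
    add_zero, ← smul_tmul, smul_Bq, mk_tn, zero_mul, zero_tmul]

theorem HG_eq (z : (Bq t n) ⊗[B] Ω[B⁄k]) :
    KaehlerDifferential.mapBaseChange D B (Bq t n)
      (LinearMap.baseChange (Bq t n) (KaehlerDifferential.map k D B B) z) =
    KaehlerDifferential.map k D (Bq t n) (Bq t n)
      (KaehlerDifferential.mapBaseChange k B (Bq t n) z) := by
  induction z using TensorProduct.induction_on with
  | zero => rw [map_zero, map_zero, map_zero, map_zero]
  | tmul a η =>
    rw [LinearMap.baseChange_tmul, KaehlerDifferential.mapBaseChange_tmul,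
      KaehlerDifferential.mapBaseChange_tmul, map_smul, map_map_eq]
  | add z1 z2 h1 h2 => rw [map_add, map_add, map_add, map_add, h1, h2]

include he in
theorem nu_range (ht : t = algebraMap D B τ) :
    Set.range (fun η : Ω[B⁄k] =>
      ((KaehlerDifferential.map k D B B η, (1 : (B ⧸ Ideal.span {t ^ n})) ⊗ₜ[B] η) :
        Ω[B⁄D] × ((B ⧸ Ideal.span {t ^ n}) ⊗[B] Ω[B⁄k]))) =
      {p | KaehlerDifferential.map D D B (B ⧸ Ideal.span {t ^ n}) p.1 =
        KaehlerDifferential.map k D (B ⧸ Ideal.span {t ^ n}) (B ⧸ Ideal.span {t ^ n})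
          (KaehlerDifferential.mapBaseChange k B (B ⧸ Ideal.span {t ^ n}) p.2)} := by
  have hdt : KaehlerDifferential.D D B t = 0 := by
    rw [ht]
    exact Derivation.map_algebraMap _ _
  apply Set.eq_of_subset_of_subset
  · rintro _ ⟨η, rfl⟩
    show KaehlerDifferential.map D D B (Bq t n) (KaehlerDifferential.map k D B B η) =
      KaehlerDifferential.map k D (Bq t n) (Bq t n)
        (KaehlerDifferential.mapBaseChange k B (Bq t n) ((1 : Bq t n) ⊗ₜ[B] η))
    rw [KaehlerDifferential.mapBaseChange_tmul, one_smul, map_map_eq]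
  · rintro ⟨α, β⟩ hp
    have hp' : KaehlerDifferential.map D D B (Bq t n) α =
      KaehlerDifferential.map k D (Bq t n) (Bq t n)
        (KaehlerDifferential.mapBaseChange k B (Bq t n) β) := hp
    obtain ⟨η₀, rfl⟩ := KaehlerDifferential.map_surjective k D B α
    have hG : LinearMap.baseChange (Bq t n) (KaehlerDifferential.map k D B B)
        (β - (1 : Bq t n) ⊗ₜ[B] η₀) = 0 := by
      apply H_injective (D := D) t ⟨τ, ht⟩
      rw [map_zero, HG_eq, map_sub, map_sub, ← hp', KaehlerDifferential.mapBaseChange_tmul,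
        one_smul, map_map_eq]
      exact sub_self _
    obtain ⟨a, ha⟩ := (exact_span_baseChange e he t ht _).mp hG
    obtain ⟨b, rfl⟩ := Ideal.Quotient.mk_surjective a
    rw [LinearMap.toSpanSingleton_apply] at ha
    refine ⟨η₀ + b • KaehlerDifferential.D k B t, ?_⟩
    refine Prod.ext ?_ ?_
    · show KaehlerDifferential.map k D B B (η₀ + b • KaehlerDifferential.D k B t) =
        KaehlerDifferential.map k D B B η₀
      rw [map_add, map_smul, KaehlerDifferential.map_D, Algebra.algebraMap_self, RingHom.id_apply,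
        hdt, smul_zero, add_zero]
    · show (1 : Bq t n) ⊗ₜ[B] (η₀ + b • KaehlerDifferential.D k B t) = β
      rw [tmul_add, tmul_smul_dt, one_mul, ha]
      abel

end

theorem main18838 (k : Type u) [Field k] [CharZero k] (n : ℕ) (hn : 1 ≤ n)
    (D : Type u) [CommRing D] [Algebra k D] (τ : D)
    (e : (k[X] ⧸ Ideal.span {(X : k[X]) ^ (n + 1)}) ≃ₐ[k] D)
    (he : e (Ideal.Quotient.mk (Ideal.span {(X : k[X]) ^ (n + 1)}) X) = τ)
    (B : Type u) [CommRing B] [Algebra k B] [Algebra D B] [IsScalarTower k D B]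
    [Module.Flat D B]
    (t : B) (ht : t = algebraMap D B τ) (hsm : Algebra.FormallySmooth k (B ⧸ Ideal.span {t})) :
    Function.Injective (fun f : B =>
      ((Ideal.Quotient.mk (Ideal.span {t ^ n}) f,
        (1 : (B ⧸ Ideal.span {t ^ n})) ⊗ₜ[B] KaehlerDifferential.D k B f) :
          (B ⧸ Ideal.span {t ^ n}) × ((B ⧸ Ideal.span {t ^ n}) ⊗[B] Ω[B⁄k]))) ∧
    Set.range (fun f : B =>
      ((Ideal.Quotient.mk (Ideal.span {t ^ n}) f,
        (1 : (B ⧸ Ideal.span {t ^ n})) ⊗ₜ[B] KaehlerDifferential.D k B f) :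
          (B ⧸ Ideal.span {t ^ n}) × ((B ⧸ Ideal.span {t ^ n}) ⊗[B] Ω[B⁄k]))) =
      {p | KaehlerDifferential.D k (B ⧸ Ideal.span {t ^ n}) p.1 =
        KaehlerDifferential.mapBaseChange k B (B ⧸ Ideal.span {t ^ n}) p.2} := by
  obtain ⟨δ, hδ⟩ := exists_derivation e he t ht hsm
  exact ⟨mu_injective e he t hn ht δ hδ, mu_range t⟩

theorem main18839 (k : Type u) [Field k] [CharZero k] (n : ℕ)
    (D : Type u) [CommRing D] [Algebra k D] (τ : D)
    (e : (k[X] ⧸ Ideal.span {(X : k[X]) ^ (n + 1)}) ≃ₐ[k] D)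
    (he : e (Ideal.Quotient.mk (Ideal.span {(X : k[X]) ^ (n + 1)}) X) = τ)
    (B : Type u) [CommRing B] [Algebra k B] [Algebra D B] [IsScalarTower k D B]
    [Module.Flat D B]
    (t : B) (ht : t = algebraMap D B τ) (hsm : Algebra.FormallySmooth k (B ⧸ Ideal.span {t})) :
    Function.Injective (fun η : Ω[B⁄k] =>
      ((KaehlerDifferential.map k D B B η, (1 : (B ⧸ Ideal.span {t ^ n})) ⊗ₜ[B] η) :
        Ω[B⁄D] × ((B ⧸ Ideal.span {t ^ n}) ⊗[B] Ω[B⁄k]))) ∧
    Set.range (fun η : Ω[B⁄k] =>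
      ((KaehlerDifferential.map k D B B η, (1 : (B ⧸ Ideal.span {t ^ n})) ⊗ₜ[B] η) :
        Ω[B⁄D] × ((B ⧸ Ideal.span {t ^ n}) ⊗[B] Ω[B⁄k]))) =
      {p | KaehlerDifferential.map D D B (B ⧸ Ideal.span {t ^ n}) p.1 =
        KaehlerDifferential.map k D (B ⧸ Ideal.span {t ^ n}) (B ⧸ Ideal.span {t ^ n})
          (KaehlerDifferential.mapBaseChange k B (B ⧸ Ideal.span {t ^ n}) p.2)} := by
  obtain ⟨δ, hδ⟩ := exists_derivation e he t ht hsm
  exact ⟨nu_injective e he t ht δ hδ, nu_range e he t ht⟩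

end Groth.Agent.Lib.TruncDef2H1
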