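import Mathlib

/-!
# Truncated Dieudonné modules over a perfect ring: `ker F = im V` modulo `p` (S16220)
-/

universe u v

namespace Groth.Agent.Lib.TruncDieu

section generic

variable {A : Type*} [CommRing A] (π : A) {M : Type*} [AddCommGroup M] [Module A M]

lemma mem_pM_iff (x : M) :
    x ∈ Ideal.span {π} • (⊤ : Submodule A M) ↔ ∃ y : M, π • y = x := by
  rw [Submodule.ideal_span_singleton_smul, Submodule.mem_smul_pointwise_iff_exists]
  simp

lemma comap_eq (σ₁ σ₂ : A →+* A) (h₁ : σ₁ π = π) (h₂ : σ₂ π = π)
    (F : M →ₛₗ[σ₁] M) (V : M →ₛₗ[σ₂] M)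
    (hFV : ∀ m, F (V m) = π • m) (hVF : ∀ m, V (F m) = π • m)
    (hker : ∀ m : M, π • m = 0 → m ∈ Ideal.span {π} • (⊤ : Submodule A M)) :
    (Ideal.span {π} • (⊤ : Submodule A M)).comap F
      = Submodule.span A (Set.range V) ⊔ Ideal.span {π} • (⊤ : Submodule A M) := by
  apply le_antisymm
  · intro x hx
    rw [Submodule.mem_comap, mem_pM_iff] at hx
    obtain ⟨y, hy⟩ := hx
    have h3 : π • (x - V y) = 0 := by
      rw [smul_sub, ← hVF x, ← hy, map_smulₛₗ, h₂, sub_self]
    have h4 : x = V y + (x - V y) := by abel
    rw [h4]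
    exact Submodule.add_mem_sup (Submodule.subset_span ⟨y, rfl⟩) (hker _ h3)
  · apply sup_le
    · rw [Submodule.span_le]
      rintro _ ⟨m, rfl⟩
      rw [SetLike.mem_coe, Submodule.mem_comap, hFV, mem_pM_iff]
      exact ⟨m, rfl⟩
    · intro x hx
      rw [mem_pM_iff] at hx
      obtain ⟨y, rfl⟩ := hx
      rw [Submodule.mem_comap, map_smulₛₗ, h₁, mem_pM_iff]
      exact ⟨F y, rfl⟩

end generic

theorem main (p : ℕ) [Fact p.Prime] (k : Type u) [CommRing k]
    [CharP k p] [PerfectRing k p] (n : ℕ) (hn : 2 ≤ n)
    (M : Type v) [AddCommGroup M] [Module (WittVector p k) M]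
    [Module (WittVector p k ⧸ Ideal.span {(p : WittVector p k) ^ n}) M]
    [IsScalarTower (WittVector p k) (WittVector p k ⧸ Ideal.span {(p : WittVector p k) ^ n}) M]
    [Module.Finite (WittVector p k ⧸ Ideal.span {(p : WittVector p k) ^ n}) M]
    [Module.Projective (WittVector p k ⧸ Ideal.span {(p : WittVector p k) ^ n}) M]
    (F : M →ₛₗ[(WittVector.frobenius : WittVector p k →+* WittVector p k)] M)
    (V : M →ₛₗ[((WittVector.frobeniusEquiv p k).symm : WittVector p k →+* WittVector p k)] M)
    (hFV : ∀ m : M, F (V m) = (p : WittVector p k) • m)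
    (hVF : ∀ m : M, V (F m) = (p : WittVector p k) • m) :
    (Ideal.span {(p : WittVector p k)} • (⊤ : Submodule (WittVector p k) M)).comap F =
        Submodule.span (WittVector p k) (Set.range V) ⊔
          Ideal.span {(p : WittVector p k)} • (⊤ : Submodule (WittVector p k) M) ∧
      (Ideal.span {(p : WittVector p k)} • (⊤ : Submodule (WittVector p k) M)).comap V =
        Submodule.span (WittVector p k) (Set.range F) ⊔
          Ideal.span {(p : WittVector p k)} • (⊤ : Submodule (WittVector p k) M) := by
  have hker : ∀ m : M, (p : WittVector p k) • m = 0 →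
      m ∈ Ideal.span {(p : WittVector p k)} • (⊤ : Submodule (WittVector p k) M) := by
    intro m hm
    obtain ⟨s, hs⟩ := Module.projective_def'.mp
      (inferInstance : Module.Projective
        (WittVector p k ⧸ Ideal.span {(p : WittVector p k) ^ n}) M)
    have h1 : m = Finsupp.linearCombination
        (WittVector p k ⧸ Ideal.span {(p : WittVector p k) ^ n}) id (s m) := by
      have := LinearMap.congr_fun hs m
      simpa using this.symm
    have h2 : (Ideal.Quotient.mk (Ideal.span {(p : WittVector p k) ^ n}) (p : WittVector p k))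
        • s m = 0 := by
      rw [← map_smul, ← Ideal.Quotient.algebraMap_eq, algebraMap_smul, hm, map_zero]
    rw [h1, Finsupp.linearCombination_apply]
    apply Submodule.sum_mem
    intro i _
    obtain ⟨a, ha⟩ := Ideal.Quotient.mk_surjective (s m i)
    have h3 : Ideal.Quotient.mk (Ideal.span {(p : WittVector p k) ^ n})
        ((p : WittVector p k) * a) = 0 := by
      rw [map_mul, ha]
      have := DFunLike.congr_fun h2 i
      simpa using this
    rw [Ideal.Quotient.eq_zero_iff_mem, Ideal.mem_span_singleton] at h3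
    obtain ⟨c, hc⟩ := h3
    have h4 : a = (p : WittVector p k) * ((p : WittVector p k) ^ (n - 2) * c) := by
      have h5 : (a - (p : WittVector p k) * ((p : WittVector p k) ^ (n - 2) * c))
          * (p : WittVector p k) = 0 := by
        have e : (p : WittVector p k) ^ n
            = (p : WittVector p k) * (p : WittVector p k) * (p : WittVector p k) ^ (n - 2) := by
          rw [← pow_two, ← pow_add]
          congr 1
          omega
        rw [sub_mul, mul_comm a, hc, e]
        ring
      exact sub_eq_zero.mp (WittVector.eq_zero_of_p_mul_eq_zero _ h5)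
    show (s m i) • (i : M) ∈ Ideal.span {(p : WittVector p k)} • (⊤ : Submodule (WittVector p k) M)
    rw [← ha, ← Ideal.Quotient.algebraMap_eq, algebraMap_smul, h4]
    exact Submodule.smul_mem_smul (Ideal.mem_span_singleton.mpr ⟨_, rfl⟩) Submodule.mem_top
  exact ⟨comap_eq (p : WittVector p k) _ _ (map_natCast _ p) (map_natCast _ p) F V hFV hVF hker,
    comap_eq (p : WittVector p k) _ _ (map_natCast _ p) (map_natCast _ p) V F hVF hFV hker⟩

end Groth.Agent.Lib.TruncDieu
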