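import Mathlib.Algebra.Homology.Embedding.CochainComplex
import Mathlib.Algebra.Homology.Homotopy

/-!
# Lifting maps and homotopies to canonical truncations (helper2)
-/

set_option autoImplicit false
open CategoryTheory Limits
universe v u

namespace Groth.Agent.Lib.TruncLift_helper2

variable {A : Type u} [Category.{v} A] [Abelian A]

open ComplexShape in
lemma isIso_ιTruncLE_f (K : CochainComplex A ℤ) (n j : ℤ) (hj : j < n) :
    IsIso ((K.ιTruncLE n).f j) := by
  obtain ⟨k, hk⟩ : ∃ k : ℕ, (embeddingUpIntLE n).f k = j :=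
    ⟨(n - j).toNat, by simp only [embeddingUpIntLE_f]; omega⟩
  have hb : ¬ (embeddingUpIntLE n).BoundaryLE k := by
    rw [boundaryLE_embeddingUpIntLE_iff]
    rintro rfl
    simp only [embeddingUpIntLE_f] at hk
    omega
  have : IsIso ((K.op.πTruncGE (embeddingUpIntLE n).op).f j) := by
    have h1 := (embeddingUpIntLE n).op.isIso_liftExtend_f_iff
      (K.op.restrictionToTruncGE' (embeddingUpIntLE n).op)
      (K.op.restrictionToTruncGE'_hasLift (embeddingUpIntLE n).op) (i := k) (i' := j) hk
    exact h1.2 (K.op.isIso_restrictionToTruncGE' _ k (by simpa using hb))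
  exact inferInstanceAs (IsIso ((K.op.πTruncGE (embeddingUpIntLE n).op).f j).unop)

/-- A homotopy between two maps `M ⟶ τ≤n Z` after composing with `τ≤n Z ⟶ Z` lifts to a homotopy
when `M` is strictly `≤ n`. -/
noncomputable def homotopyLift {M Z : CochainComplex A ℤ} (n : ℤ) [M.IsStrictlyLE n]
    (u₁ u₂ : M ⟶ Z.truncLE n) (h : Homotopy (u₁ ≫ Z.ιTruncLE n) (u₂ ≫ Z.ιTruncLE n)) :
    Homotopy u₁ u₂ where
  hom i j := if hj : j < n then
      h.hom i j ≫ (have := isIso_ιTruncLE_f Z n j hj; inv ((Z.ιTruncLE n).f j)) else 0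
  zero i j hij := by
    split_ifs
    · rw [h.zero i j hij, zero_comp]
    · rfl
  comm i := by
    have : Mono ((Z.ιTruncLE n).f i) :=
      inferInstanceAs (Mono ((HomologicalComplex.ιTruncLE Z (ComplexShape.embeddingUpIntLE n)).f i))
    rw [← cancel_mono ((Z.ιTruncLE n).f i)]
    have hc := h.comm i
    rw [dNext_eq _ (show (ComplexShape.up ℤ).Rel i (i + 1) from rfl),
      prevD_eq _ (show (ComplexShape.up ℤ).Rel (i - 1) i by simp)] at hc ⊢
    simp only [HomologicalComplex.comp_f] at hc
    rw [hc, Preadditive.add_comp, Preadditive.add_comp]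
    congr 1
    congr 1
    · by_cases hi : i < n
      · have := isIso_ιTruncLE_f Z n i hi
        simp [dif_pos hi]
      · have : IsZero (M.X (i + 1)) := M.isZero_of_isStrictlyLE n (i + 1) (by omega)
        rw [this.eq_of_tgt (M.d i (i + 1)) 0, zero_comp, zero_comp, zero_comp]
    · by_cases hi : i - 1 < n
      · have := isIso_ιTruncLE_f Z n (i - 1) hi
        simp only [dif_pos hi, Category.assoc]
        rw [← (Z.ιTruncLE n).comm (i - 1) i, IsIso.inv_hom_id_assoc]
      · have : IsZero (M.X i) := M.isZero_of_isStrictlyLE n i (by omega)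
        exact this.eq_of_src _ _

lemma exists_lift_truncLE {M Z : CochainComplex A ℤ} (n : ℤ) [M.IsStrictlyLE n] (g : M ⟶ Z) :
    ∃ g' : M ⟶ Z.truncLE n, g' ≫ Z.ιTruncLE n = g :=
  ⟨inv (M.ιTruncLE n) ≫ CochainComplex.truncLEMap g n, by
    rw [Category.assoc, CochainComplex.ιTruncLE_naturality, IsIso.inv_hom_id_assoc]⟩

end Groth.Agent.Lib.TruncLift_helper2
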