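import Mathlib
import Groth.Agent.Lib.TruncChain_helper4

set_option autoImplicit false
set_option linter.style.haveILetI false

universe w v u

open CategoryTheory Limits Pretriangulated DerivedCategory

namespace Groth.Agent.Lib.TruncMapH4

open Groth.Agent.Lib.TruncChainH4

variable {A : Type u} [Category.{v} A] [Abelian A] [HasDerivedCategory.{w} A]

local notation "tA" => (DerivedCategory.TStructure.t : Triangulated.TStructure (DerivedCategory A))

lemma isIso_homologyMap_truncGEπ (X : DerivedCategory A) (a n : ℤ) (h : a ≤ n) :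
    IsIso ((homologyFunctor A n).map (((tA).truncGEπ a).app X)) := by
  haveI : (((tA).truncLT a).obj X).IsLE (n - 1) := (tA).isLE_of_le _ (a - 1) (n - 1) (by omega)
  exact trunc_isIso_g (f := ((tA).truncLTι a).app X) (g := ((tA).truncGEπ a).app X)
    (h := ((tA).truncGEδLT a).app X) ((tA).triangleLTGE_distinguished a X) n

lemma isIso_homologyMap_truncLTι (X : DerivedCategory A) (b n : ℤ) (h : n < b) :
    IsIso ((homologyFunctor A n).map (((tA).truncLTι b).app X)) := by
  have hT := (tA).triangleLTGE_distinguished b X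
  haveI : Mono ((homologyFunctor A n).map (((tA).truncLTι b).app X)) :=
    trunc_mono (f := ((tA).truncLTι b).app X) (g := ((tA).truncGEπ b).app X)
      (h := ((tA).truncGEδLT b).app X) hT b n (by omega)
  haveI : Epi ((homologyFunctor A n).map (((tA).truncLTι b).app X)) :=
    (HomologySequence.epi_homologyMap_mor₁_iff _ hT n).2
      ((isZero_of_isGE (((tA).truncGE b).obj X) b n h).eq_of_tgt _ _)
  exact isIso_of_mono_of_epi _

/-- A map from an object `≤ n` to an object `≥ n` vanishes as soon as it vanishes on `Hⁿ`. -/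
lemma eq_zero_of_homology' {X Y : DerivedCategory A} (n : ℤ) [X.IsLE n] [Y.IsGE n]
    (u : X ⟶ Y) (hu : (homologyFunctor A n).map u = 0) : u = 0 := by
  have hT := (tA).triangleLTGE_distinguished (n + 1) Y
  haveI : (((tA).truncLT (n + 1)).obj Y).IsLE n := inferInstance
  haveI : (((tA).truncLT (n + 1)).obj Y).IsGE n := inferInstance
  have h0 : u ≫ ((tA).truncGEπ (n + 1)).app Y = 0 := (tA).zero _ n (n + 1) (by omega)
  obtain ⟨u', hu'⟩ : ∃ u' : X ⟶ ((tA).truncLT (n + 1)).obj Y,
      u = u' ≫ ((tA).truncLTι (n + 1)).app Y := Triangle.coyoneda_exact₂ _ hT u h0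
  haveI := isIso_homologyMap_truncLTι Y (n + 1) n (by omega)
  have h1 : (homologyFunctor A n).map u' = 0 := by
    rw [← cancel_mono ((homologyFunctor A n).map (((tA).truncLTι (n + 1)).app Y)),
      ← Functor.map_comp, ← hu', hu, zero_comp]
  rw [hu', eq_zero_of_homology n u' h1, zero_comp]

lemma homologyMap_truncGELT_eq_zero {K K' : DerivedCategory A} (f : K ⟶ K') (a b n : ℤ)
    (ha : a ≤ n) (hb : n < b) (h : (homologyFunctor A n).map f = 0) :
    (homologyFunctor A n).map (((tA).truncGE a).map (((tA).truncLT b).map f)) = 0 := by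
  have h1 : (homologyFunctor A n).map (((tA).truncLT b).map f) = 0 := by
    haveI := isIso_homologyMap_truncLTι K' b n hb
    rw [← cancel_mono ((homologyFunctor A n).map (((tA).truncLTι b).app K')), ← Functor.map_comp,
      ((tA).truncLTι b).naturality f, Functor.id_map, Functor.map_comp, h, comp_zero, zero_comp]
  haveI := isIso_homologyMap_truncGEπ (((tA).truncLT b).obj K) a n ha
  rw [← cancel_epi ((homologyFunctor A n).map (((tA).truncGEπ a).app (((tA).truncLT b).obj K))),
    ← Functor.map_comp, (tA).truncGEπ_naturality, Functor.map_comp, h1, zero_comp, comp_zero]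

lemma exists_triangle_natTransTruncGEOfLE (X : DerivedCategory A) (a b : ℤ) (h : a ≤ b) :
    ∃ (F : DerivedCategory A) (i : F ⟶ ((tA).truncGE a).obj X)
      (δ : ((tA).truncGE b).obj X ⟶ F⟦(1 : ℤ)⟧),
      Triangle.mk i (((tA).natTransTruncGEOfLE a b h).app X) δ ∈ distTriang _ ∧
        F.IsLE (b - 1) := by
  haveI : IsIso (((tA).truncGE b).map (((tA).truncGEπ a).app X)) :=
    (tA).isIso_truncGE_map_truncGEπ_app b a h X
  obtain ⟨θ, hθ⟩ : ∃ θ : ((tA).truncGE b).obj X ≅ ((tA).truncGE b).obj (((tA).truncGE a).obj X),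
      θ.hom = ((tA).truncGE b).map (((tA).truncGEπ a).app X) :=
    ⟨asIso (((tA).truncGE b).map (((tA).truncGEπ a).app X)), rfl⟩
  have hrel : ((tA).natTransTruncGEOfLE a b h).app X ≫ θ.hom =
      ((tA).truncGEπ b).app (((tA).truncGE a).obj X) := by
    haveI : (tA).IsGE (((tA).truncGE b).obj (((tA).truncGE a).obj X)) a := (tA).isGE_of_ge _ a b h
    apply (tA).from_truncGE_obj_ext
    rw [hθ]
    have e1 := (tA).π_natTransTruncGEOfLE_app a b h X
    have e2 := (tA).truncGEπ_naturality b (((tA).truncGEπ a).app X)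
    exact (Category.assoc _ _ _).symm.trans ((congrArg
      (fun z => z ≫ ((tA).truncGE b).map (((tA).truncGEπ a).app X)) e1).trans e2)
  refine ⟨((tA).truncLT b).obj (((tA).truncGE a).obj X), ((tA).truncLTι b).app (((tA).truncGE a).obj X),
    θ.hom ≫ ((tA).truncGEδLT b).app (((tA).truncGE a).obj X), ?_, inferInstance⟩
  refine isomorphic_distinguished _ ((tA).triangleLTGE_distinguished b (((tA).truncGE a).obj X)) _ ?_
  refine Triangle.isoMk _ _ (Iso.refl _) (Iso.refl _) θ ?_ ?_ ?_
  · exact (Category.comp_id _).trans (Category.id_comp _).symm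
  · exact hrel.trans (Category.id_comp _).symm
  · change (θ.hom ≫ ((tA).truncGEδLT b).app (((tA).truncGE a).obj X)) ≫ (𝟙 _)⟦(1 : ℤ)⟧' =
      θ.hom ≫ ((tA).truncGEδLT b).app (((tA).truncGE a).obj X)
    rw [CategoryTheory.Functor.map_id]
    exact Category.comp_id _

lemma isIso_homologyMap_inc (X : DerivedCategory A) (a c b k : ℤ) (hcb : c ≤ b) (hak : a ≤ k)
    (hkc : k < c) :
    IsIso ((homologyFunctor A k).map
      (((tA).truncGE a).map (((tA).natTransTruncLTOfLE c b hcb).app X))) := by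
  haveI h1 := isIso_homologyMap_truncLTι X c k hkc
  haveI h2 := isIso_homologyMap_truncLTι X b k (by omega)
  haveI hj : IsIso ((homologyFunctor A k).map (((tA).natTransTruncLTOfLE c b hcb).app X)) := by
    have e : (homologyFunctor A k).map (((tA).natTransTruncLTOfLE c b hcb).app X) ≫
        (homologyFunctor A k).map (((tA).truncLTι b).app X) =
        (homologyFunctor A k).map (((tA).truncLTι c).app X) := by
      rw [← Functor.map_comp, (tA).natTransTruncLTOfLE_ι_app]
    exact IsIso.of_isIso_fac_right e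
  haveI h3 := isIso_homologyMap_truncGEπ (((tA).truncLT c).obj X) a k hak
  haveI h4 := isIso_homologyMap_truncGEπ (((tA).truncLT b).obj X) a k hak
  have e : (homologyFunctor A k).map (((tA).truncGEπ a).app (((tA).truncLT c).obj X)) ≫
      (homologyFunctor A k).map (((tA).truncGE a).map (((tA).natTransTruncLTOfLE c b hcb).app X)) =
      (homologyFunctor A k).map (((tA).natTransTruncLTOfLE c b hcb).app X) ≫
        (homologyFunctor A k).map (((tA).truncGEπ a).app (((tA).truncLT b).obj X)) := by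
    rw [← Functor.map_comp, ← Functor.map_comp, (tA).truncGEπ_naturality]
  exact IsIso.of_isIso_fac_left e

lemma exists_triangle_truncGE_map_natTransTruncLTOfLE (X : DerivedCategory A) (a c b : ℤ)
    (hcb : c ≤ b) :
    ∃ (G : DerivedCategory A) (p : ((tA).truncGE a).obj (((tA).truncLT b).obj X) ⟶ G)
      (δ : G ⟶ (((tA).truncGE a).obj (((tA).truncLT c).obj X))⟦(1 : ℤ)⟧),
      Triangle.mk (((tA).truncGE a).map (((tA).natTransTruncLTOfLE c b hcb).app X)) p δ ∈
        distTriang _ ∧ G.IsGE c := by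
  obtain ⟨G, p, δ, hT⟩ := distinguished_cocone_triangle
    (((tA).truncGE a).map (((tA).natTransTruncLTOfLE c b hcb).app X))
  refine ⟨G, p, δ, hT, ?_⟩
  rw [isGE_iff]
  intro k hk
  refine (HomologySequence.exact₃ _ hT k (k + 1) rfl).isZero_of_both_zeros ?_ ?_
  · by_cases hak : a ≤ k
    · haveI := isIso_homologyMap_inc X a c b k hcb hak hk
      have hepi : Epi ((homologyFunctor A k).map
          (((tA).truncGE a).map (((tA).natTransTruncLTOfLE c b hcb).app X))) := inferInstance
      exact (HomologySequence.epi_homologyMap_mor₁_iff _ hT k).1 hepi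
    · exact (isZero_of_isGE (((tA).truncGE a).obj (((tA).truncLT b).obj X)) a k
        (by omega)).eq_of_src _ _
  · by_cases hak : a ≤ k + 1 ∧ k + 1 < c
    · haveI := isIso_homologyMap_inc X a c b (k + 1) hcb hak.1 hak.2
      have hmono : Mono ((homologyFunctor A (k + 1)).map
          (((tA).truncGE a).map (((tA).natTransTruncLTOfLE c b hcb).app X))) := inferInstance
      exact (HomologySequence.mono_homologyMap_mor₁_iff _ hT k (k + 1) rfl).1 hmono
    · have hz : IsZero ((homologyFunctor A (k + 1)).obj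
          (((tA).truncGE a).obj (((tA).truncLT c).obj X))) := by
        by_cases h' : k + 1 < a
        · exact isZero_of_isGE _ a (k + 1) h'
        · haveI : (((tA).truncGE a).obj (((tA).truncLT c).obj X)).IsLE (c - 1) := inferInstance
          exact isZero_of_isLE _ (c - 1) (k + 1) (by omega)
      exact hz.eq_of_tgt _ _

theorem main {K K' : DerivedCategory A} (f : K ⟶ K') (q : ℤ)
    (h₁ : (homologyFunctor A (q - 1)).map f = 0) (h₂ : (homologyFunctor A q).map f = 0)
    (hle1 : q - 1 ≤ q) (hle2 : q ≤ q + 1) :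
    ∃! L : ((tA).truncGE q).obj (((tA).truncLT (q + 1)).obj K) ⟶
        ((tA).truncGE (q - 1)).obj (((tA).truncLT q).obj K'),
      ((tA).truncGE (q - 1)).map (((tA).truncLT (q + 1)).map f) =
        ((tA).natTransTruncGEOfLE (q - 1) q hle1).app (((tA).truncLT (q + 1)).obj K) ≫ L ≫
          ((tA).truncGE (q - 1)).map (((tA).natTransTruncLTOfLE q (q + 1) hle2).app K') := by
  obtain ⟨F, i, δ₁, hT1, hF⟩ :=
    exists_triangle_natTransTruncGEOfLE (((tA).truncLT (q + 1)).obj K) (q - 1) q hle1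
  obtain ⟨G, p, δ₂, hT2, hG⟩ :=
    exists_triangle_truncGE_map_natTransTruncLTOfLE K' (q - 1) q (q + 1) hle2
  obtain ⟨g, hg⟩ : ∃ g : ((tA).truncGE (q - 1)).obj (((tA).truncLT (q + 1)).obj K) ⟶
      ((tA).truncGE (q - 1)).obj (((tA).truncLT (q + 1)).obj K'),
      g = ((tA).truncGE (q - 1)).map (((tA).truncLT (q + 1)).map f) := ⟨_, rfl⟩
  obtain ⟨pr, hpr⟩ : ∃ pr : ((tA).truncGE (q - 1)).obj (((tA).truncLT (q + 1)).obj K) ⟶
      ((tA).truncGE q).obj (((tA).truncLT (q + 1)).obj K),
      pr = ((tA).natTransTruncGEOfLE (q - 1) q hle1).app (((tA).truncLT (q + 1)).obj K) := ⟨_, rfl⟩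
  obtain ⟨inc, hinc⟩ : ∃ inc : ((tA).truncGE (q - 1)).obj (((tA).truncLT q).obj K') ⟶
      ((tA).truncGE (q - 1)).obj (((tA).truncLT (q + 1)).obj K'),
      inc = ((tA).truncGE (q - 1)).map (((tA).natTransTruncLTOfLE q (q + 1) hle2).app K') :=
    ⟨_, rfl⟩
  rw [← hg, ← hpr, ← hinc]
  rw [← hpr] at hT1
  rw [← hinc] at hT2
  have hg1 : (homologyFunctor A (q - 1)).map g = 0 := by
    rw [hg]
    exact homologyMap_truncGELT_eq_zero f (q - 1) (q + 1) (q - 1) le_rfl (by omega) h₁
  have hg2 : (homologyFunctor A q).map g = 0 := by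
    rw [hg]
    exact homologyMap_truncGELT_eq_zero f (q - 1) (q + 1) q (by omega) (by omega) h₂
  haveI : F.IsLE (q - 1) := hF
  haveI : G.IsGE q := hG
  haveI : (((tA).truncGE q).obj (((tA).truncLT (q + 1)).obj K)).IsLE q := inferInstance
  haveI : (((tA).truncGE (q - 1)).obj (((tA).truncLT (q + 1)).obj K')).IsGE (q - 1) := inferInstance
  -- step 1
  have s1 : i ≫ g = 0 := eq_zero_of_homology' (q - 1) (i ≫ g) (by
    rw [Functor.map_comp, hg1, comp_zero])
  obtain ⟨g₁, hg₁⟩ : ∃ g₁ : ((tA).truncGE q).obj (((tA).truncLT (q + 1)).obj K) ⟶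
      ((tA).truncGE (q - 1)).obj (((tA).truncLT (q + 1)).obj K'), g = pr ≫ g₁ :=
    Triangle.yoneda_exact₂ _ hT1 g s1
  -- H^q(pr) is an isomorphism
  haveI hprIso : IsIso ((homologyFunctor A q).map pr) := by
    haveI := isIso_homologyMap_truncGEπ (((tA).truncLT (q + 1)).obj K) (q - 1) q hle1
    haveI := isIso_homologyMap_truncGEπ (((tA).truncLT (q + 1)).obj K) q q le_rfl
    have e : (homologyFunctor A q).map (((tA).truncGEπ (q - 1)).app (((tA).truncLT (q + 1)).obj K)) ≫
        (homologyFunctor A q).map pr =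
        (homologyFunctor A q).map (((tA).truncGEπ q).app (((tA).truncLT (q + 1)).obj K)) := by
      rw [← Functor.map_comp, hpr, (tA).π_natTransTruncGEOfLE_app]
    exact IsIso.of_isIso_fac_left e
  have hg₁0 : (homologyFunctor A q).map g₁ = 0 := by
    rw [← cancel_epi ((homologyFunctor A q).map pr), ← Functor.map_comp, ← hg₁, hg2, comp_zero]
  have s2 : g₁ ≫ p = 0 := eq_zero_of_homology' q (g₁ ≫ p) (by
    rw [Functor.map_comp, hg₁0, zero_comp])
  obtain ⟨L, hL⟩ : ∃ L : ((tA).truncGE q).obj (((tA).truncLT (q + 1)).obj K) ⟶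
      ((tA).truncGE (q - 1)).obj (((tA).truncLT q).obj K'), g₁ = L ≫ inc :=
    Triangle.coyoneda_exact₂ _ hT2 g₁ s2
  refine ⟨L, by rw [hg₁, hL], ?_⟩
  intro L' hL'
  have hL'' : g = pr ≫ L' ≫ inc := hL'
  have e1 : pr ≫ ((L' - L) ≫ inc) = 0 := by
    rw [Preadditive.sub_comp, Preadditive.comp_sub, ← hL'', ← hL, ← hg₁, sub_self]
  obtain ⟨β, hβ⟩ : ∃ β : F⟦(1 : ℤ)⟧ ⟶
      ((tA).truncGE (q - 1)).obj (((tA).truncLT (q + 1)).obj K'), (L' - L) ≫ inc = δ₁ ≫ β :=
    Triangle.yoneda_exact₃ _ hT1 ((L' - L) ≫ inc) e1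
  have hβ0 : β = 0 := by
    haveI : (tA).IsLE (F⟦(1 : ℤ)⟧) (q - 2) := (tA).isLE_shift F (q - 1) 1 (q - 2) (by omega)
    exact (tA).zero_of_isLE_of_isGE β (q - 2) (q - 1) (by omega) this inferInstance
  have e2 : (L' - L) ≫ inc = 0 := hβ.trans (by rw [hβ0, comp_zero])
  obtain ⟨γ, hγ⟩ : ∃ γ : ((tA).truncGE q).obj (((tA).truncLT (q + 1)).obj K) ⟶ G⟦(-1 : ℤ)⟧,
      L' - L = γ ≫ (Triangle.mk inc p δ₂).invRotate.mor₁ :=
    Triangle.coyoneda_exact₂ _ (inv_rot_of_distTriang _ hT2) (L' - L) e2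
  have hγ0 : γ = 0 := by
    haveI : (tA).IsGE (G⟦(-1 : ℤ)⟧) (q + 1) := (tA).isGE_shift G q (-1) (q + 1) (by omega)
    exact (tA).zero_of_isLE_of_isGE γ q (q + 1) (by omega) inferInstance this
  exact sub_eq_zero.mp (hγ.trans (by rw [hγ0, zero_comp]; rfl))

end Groth.Agent.Lib.TruncMapH4
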