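import Mathlib
import Groth.Agent.Lib.QuasiReg_helper5

/-!
# `A/Ideal.span (Set.range x)^N ≅ (A/Ideal.span (Set.range x))[T]/(T)^N` for `Ideal.span (Set.range x)` generated by a regular sequence with `A/Ideal.span (Set.range x)` formally smooth
(helper3)
-/

set_option autoImplicit false

namespace Groth.Agent.Lib.TruncMvPolyH3

open MvPolynomial

universe u v

variable {R : Type u} {A : Type v} [CommRing R] [CommRing A] [Algebra R A] {d : ℕ}
  (x : Fin d → A)


/-- the monomial `x^α` -/
noncomputable def mon (α : Fin d →₀ ℕ) : A := ∏ i, x i ^ α i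

lemma mon_mem (α : Fin d →₀ ℕ) : mon x α ∈ Ideal.span (Set.range x) ^ α.degree := by
  have := Groth.Agent.QuasiReg.prod_pow_mem x α
  rw [Finsupp.prod_fintype _ _ (fun i => pow_zero _)] at this
  exact this

section Core

variable {x} {N : ℕ} (hle : Ideal.span (Set.range x) ^ N ≤ Ideal.span (Set.range x)) (σ : (A ⧸ Ideal.span (Set.range x)) →ₐ[R] (A ⧸ Ideal.span (Set.range x) ^ N))
  (hσ : ∀ b : A ⧸ Ideal.span (Set.range x), Ideal.Quotient.factor hle (σ b) = b)

/-- the map `B[T] → A/Ideal.span (Set.range x)^N` -/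
noncomputable def Phi : MvPolynomial (Fin d) (A ⧸ Ideal.span (Set.range x)) →ₐ[R] (A ⧸ Ideal.span (Set.range x) ^ N) :=
  aevalTower σ (fun i => Ideal.Quotient.mk (Ideal.span (Set.range x) ^ N) (x i))

lemma Phi_apply (P : MvPolynomial (Fin d) (A ⧸ Ideal.span (Set.range x))) :
    Phi σ P = eval₂ (σ : (A ⧸ Ideal.span (Set.range x)) →+* (A ⧸ Ideal.span (Set.range x) ^ N)) (fun i => Ideal.Quotient.mk (Ideal.span (Set.range x) ^ N) (x i)) P := rfl

lemma Phi_C (b : A ⧸ Ideal.span (Set.range x)) : Phi σ (C b) = σ b := by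
  rw [Phi_apply, eval₂_C]; rfl

lemma Phi_X (i : Fin d) : Phi σ (X i) = Ideal.Quotient.mk (Ideal.span (Set.range x) ^ N) (x i) := by
  rw [Phi_apply, eval₂_X]

lemma Phi_monomial (α : Fin d →₀ ℕ) (b : A ⧸ Ideal.span (Set.range x)) :
    Phi σ (monomial α b) = σ b * Ideal.Quotient.mk (Ideal.span (Set.range x) ^ N) (mon x α) := by
  rw [Phi_apply, eval₂_monomial, Finsupp.prod_fintype _ _ (fun i => pow_zero _), mon, map_prod]
  simp only [map_pow]
  rfl

lemma Phi_eq_sum (P : MvPolynomial (Fin d) (A ⧸ Ideal.span (Set.range x))) :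
    Phi σ P = ∑ α ∈ P.support, σ (P.coeff α) * Ideal.Quotient.mk (Ideal.span (Set.range x) ^ N) (mon x α) := by
  conv_lhs => rw [P.as_sum, map_sum]
  refine Finset.sum_congr rfl fun α _ => ?_
  rw [Phi_monomial]

include hσ in
lemma sigma_mk (c : A) : ∃ j ∈ Ideal.span (Set.range x), σ (Ideal.Quotient.mk (Ideal.span (Set.range x)) c) =
    Ideal.Quotient.mk (Ideal.span (Set.range x) ^ N) c + Ideal.Quotient.mk (Ideal.span (Set.range x) ^ N) j := by
  obtain ⟨a, ha⟩ := Ideal.Quotient.mk_surjective (σ (Ideal.Quotient.mk (Ideal.span (Set.range x)) c))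
  have h1 := hσ (Ideal.Quotient.mk (Ideal.span (Set.range x)) c)
  rw [← ha, Ideal.Quotient.factor_mk] at h1
  refine ⟨a - c, ?_, ?_⟩
  · exact Ideal.Quotient.eq.mp h1
  · rw [← ha, ← map_add]; congr 1; ring

include hσ in
lemma factor_Phi (P : MvPolynomial (Fin d) (A ⧸ Ideal.span (Set.range x))) :
    Ideal.Quotient.factor hle (Phi σ P) = P.coeff 0 := by
  have : (Ideal.Quotient.factor hle).comp (Phi σ : MvPolynomial (Fin d) (A ⧸ Ideal.span (Set.range x)) →+* _) =
      constantCoeff := by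
    apply MvPolynomial.ringHom_ext
    · intro b
      show Ideal.Quotient.factor hle (Phi σ (C b)) = constantCoeff (C b)
      rw [Phi_C, hσ, constantCoeff_C]
    · intro i
      show Ideal.Quotient.factor hle (Phi σ (X i)) = constantCoeff (X i)
      rw [Phi_X, Ideal.Quotient.factor_mk, constantCoeff_X, Ideal.Quotient.eq_zero_iff_mem]
      exact Ideal.subset_span (Set.mem_range_self i)
  exact RingHom.congr_fun this P

lemma Phi_mem_ker (P : MvPolynomial (Fin d) (A ⧸ Ideal.span (Set.range x))) (hP : P ∈ idealOfVars (Fin d) (A ⧸ Ideal.span (Set.range x)) ^ N) :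
    Phi σ P = 0 := by
  have h1 : idealOfVars (Fin d) (A ⧸ Ideal.span (Set.range x)) ≤
      ((Ideal.span (Set.range x)).map (Ideal.Quotient.mk (Ideal.span (Set.range x) ^ N))).comap (Phi σ : MvPolynomial (Fin d) (A ⧸ Ideal.span (Set.range x)) →+* _) := by
    rw [idealOfVars, Ideal.span_le]
    rintro _ ⟨i, rfl⟩
    rw [SetLike.mem_coe, Ideal.mem_comap]
    have hX : (Phi σ : MvPolynomial (Fin d) (A ⧸ Ideal.span (Set.range x)) →+* _) (X i) =
        Ideal.Quotient.mk (Ideal.span (Set.range x) ^ N) (x i) := Phi_X σ i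
    rw [hX]
    exact Ideal.mem_map_of_mem _ (Ideal.subset_span (Set.mem_range_self i))
  have h2 := (Ideal.pow_right_mono h1 N).trans (Ideal.le_comap_pow _ N)
  have h3 := h2 hP
  rw [Ideal.mem_comap, ← Ideal.map_pow, Ideal.map_quotient_self] at h3
  exact h3

include hσ in
/-- surjectivity, by descending induction -/
lemma mk_mem_range (j : ℕ) (hj : j ≤ N) (a : A) (ha : a ∈ Ideal.span (Set.range x) ^ (N - j)) :
    Ideal.Quotient.mk (Ideal.span (Set.range x) ^ N) a ∈ (Phi σ).range := by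
  induction j generalizing a with
  | zero =>
    rw [Nat.sub_zero] at ha
    rw [Ideal.Quotient.eq_zero_iff_mem.mpr ha]
    exact Subalgebra.zero_mem _
  | succ j ih =>
    obtain ⟨Q, hQ, rfl⟩ := (Ideal.mem_span_pow_iff_exists_isHomogeneous x a).mp ha
    have hk : N - (j + 1) + 1 = N - j := by omega
    rw [eval_eq', map_sum]
    refine Subalgebra.sum_mem _ fun α hα => ?_
    have hdeg : α.degree = N - (j + 1) := by
      rw [Finsupp.degree_apply]
      exact (hQ.degree_eq_sum_deg_support hα).symm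
    obtain ⟨c, hc, hcσ⟩ := sigma_mk hle σ hσ (Q.coeff α)
    have e1 : Ideal.Quotient.mk (Ideal.span (Set.range x) ^ N) (Q.coeff α * ∏ i, x i ^ α i) =
        σ (Ideal.Quotient.mk (Ideal.span (Set.range x)) (Q.coeff α)) * Ideal.Quotient.mk (Ideal.span (Set.range x) ^ N) (mon x α) -
        Ideal.Quotient.mk (Ideal.span (Set.range x) ^ N) (c * mon x α) := by
      rw [hcσ, map_mul, map_mul]
      show _ * Ideal.Quotient.mk (Ideal.span (Set.range x) ^ N) (mon x α) = _
      ring
    rw [e1]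
    refine Subalgebra.sub_mem _ ?_ ?_
    · exact ⟨monomial α (Ideal.Quotient.mk (Ideal.span (Set.range x)) (Q.coeff α)),
        Phi_monomial σ α _⟩
    · refine ih (by omega) _ ?_
      rw [← hk, pow_succ']
      refine Ideal.mul_mem_mul hc ?_
      rw [← hdeg]; exact mon_mem x α

include hσ in
lemma Phi_surjective (hN : N ≠ 0) : Function.Surjective (Phi σ) := by
  intro z
  obtain ⟨a, rfl⟩ := Ideal.Quotient.mk_surjective z
  have := mk_mem_range hle σ hσ N le_rfl a (by rw [Nat.sub_self, pow_zero, Ideal.one_eq_top]; trivial)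
  exact this

include hσ in
/-- key step of injectivity -/
lemma coeff_eq_zero_step (hqr : Groth.Agent.QuasiReg.QR x)
    (P : MvPolynomial (Fin d) (A ⧸ Ideal.span (Set.range x))) (hP : Phi σ P = 0) (k : ℕ)
    (hk : k < N) (ih : ∀ α : Fin d →₀ ℕ, α.degree < k → P.coeff α = 0) :
    ∀ α : Fin d →₀ ℕ, α.degree = k → P.coeff α = 0 := by
  classical
  let s : A ⧸ Ideal.span (Set.range x) → A := Function.surjInv Ideal.Quotient.mk_surjective
  have hs : ∀ b, Ideal.Quotient.mk (Ideal.span (Set.range x)) (s b) = b :=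
    Function.surjInv_eq Ideal.Quotient.mk_surjective
  let S := P.support.filter (fun α => α.degree = k)
  let Pk : MvPolynomial (Fin d) A := ∑ α ∈ S, monomial α (s (P.coeff α))
  have hPk : Pk.IsHomogeneous k := IsHomogeneous.sum _ _ _
    (fun α hα => isHomogeneous_monomial _ (Finset.mem_filter.mp hα).2)
  have hevPk : eval x Pk = ∑ α ∈ S, s (P.coeff α) * mon x α := by
    rw [map_sum]
    refine Finset.sum_congr rfl fun α _ => ?_
    rw [eval_monomial, Finsupp.prod_fintype _ _ (fun i => pow_zero _)]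
    rfl
  -- the error ideal
  let E : Ideal (A ⧸ Ideal.span (Set.range x) ^ N) :=
    (Ideal.span (Set.range x) ^ (k + 1)).map (Ideal.Quotient.mk (Ideal.span (Set.range x) ^ N))
  have hterm : ∀ α ∈ P.support,
      σ (P.coeff α) * Ideal.Quotient.mk (Ideal.span (Set.range x) ^ N) (mon x α) -
        (if α.degree = k then
          Ideal.Quotient.mk (Ideal.span (Set.range x) ^ N) (s (P.coeff α) * mon x α) else 0) ∈ E := by
    intro α hα
    have hdeg : k ≤ α.degree := by
      by_contra hlt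
      exact (mem_support_iff.mp hα) (ih α (not_le.mp hlt))
    split_ifs with hαk
    · obtain ⟨c, hc, hcσ⟩ := sigma_mk hle σ hσ (s (P.coeff α))
      rw [hs] at hcσ
      rw [hcσ, map_mul, add_mul, add_sub_cancel_left, ← map_mul]
      refine Ideal.mem_map_of_mem _ ?_
      rw [pow_succ']
      refine Ideal.mul_mem_mul hc ?_
      rw [← hαk]; exact mon_mem x α
    · rw [sub_zero]
      obtain ⟨t, ht⟩ := Ideal.Quotient.mk_surjective (σ (P.coeff α))
      rw [← ht, ← map_mul]
      refine Ideal.mem_map_of_mem _ ?_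
      refine Ideal.mul_mem_left _ _ ?_
      have hlt : k + 1 ≤ α.degree := by omega
      exact Ideal.pow_le_pow_right hlt (mon_mem x α)
  have hsum : Phi σ P - Ideal.Quotient.mk (Ideal.span (Set.range x) ^ N) (eval x Pk) ∈ E := by
    rw [Phi_eq_sum, hevPk, map_sum]
    have : ∑ α ∈ S, Ideal.Quotient.mk (Ideal.span (Set.range x) ^ N) (s (P.coeff α) * mon x α) =
        ∑ α ∈ P.support, (if α.degree = k then
          Ideal.Quotient.mk (Ideal.span (Set.range x) ^ N) (s (P.coeff α) * mon x α) else 0) := by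
      rw [Finset.sum_filter]
    rw [this, ← Finset.sum_sub_distrib]
    exact Ideal.sum_mem _ hterm
  rw [hP, zero_sub, neg_mem_iff] at hsum
  have hev : eval x Pk ∈ Ideal.span (Set.range x) ^ (k + 1) :=
    (Ideal.mem_quotient_iff_mem (Ideal.pow_le_pow_right (by omega))).mp hsum
  have hco := hqr k Pk hPk hev
  intro α hα
  by_contra hne
  have hαS : α ∈ S := Finset.mem_filter.mpr ⟨mem_support_iff.mpr hne, hα⟩
  have hcoeff : Pk.coeff α = s (P.coeff α) := by
    show coeff α (∑ β ∈ S, monomial β (s (P.coeff β))) = _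
    rw [coeff_sum]
    simp only [coeff_monomial]
    rw [Finset.sum_ite_eq' S α]
    rw [if_pos hαS]
  have h1 := hco α
  rw [hcoeff] at h1
  apply hne
  rw [← hs (P.coeff α)]
  exact Ideal.Quotient.eq_zero_iff_mem.mpr h1

include hσ in
lemma mem_pow_of_Phi_eq_zero (hqr : Groth.Agent.QuasiReg.QR x)
    (P : MvPolynomial (Fin d) (A ⧸ Ideal.span (Set.range x))) (hP : Phi σ P = 0) :
    P ∈ idealOfVars (Fin d) (A ⧸ Ideal.span (Set.range x)) ^ N := by
  rw [mem_pow_idealOfVars_iff']
  have key : ∀ k, k ≤ N → ∀ α : Fin d →₀ ℕ, α.degree < k → P.coeff α = 0 := by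
    intro k
    induction k with
    | zero => intro _ α h; exact absurd h (Nat.not_lt_zero _)
    | succ k ih =>
      intro hk α hα
      rcases Nat.lt_succ_iff_lt_or_eq.mp hα with h | h
      · exact ih (by omega) α h
      · exact coeff_eq_zero_step hle σ hσ hqr P hP k (by omega) (ih (by omega)) α h
  exact key N le_rfl

end Core

section Main

open RingTheory.Sequence

theorem main (hreg : IsWeaklyRegular A (List.ofFn x))
    [Algebra.FormallySmooth R (A ⧸ Ideal.span (Set.range x))] (N : ℕ) (hN : 1 ≤ N) :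
    ∃ e : (A ⧸ Ideal.span (Set.range x) ^ N) ≃ₐ[R]
        (MvPolynomial (Fin d) (A ⧸ Ideal.span (Set.range x)) ⧸
          Ideal.span (Set.range (MvPolynomial.X : Fin d → MvPolynomial (Fin d) (A ⧸ Ideal.span (Set.range x)))) ^ N),
      (∀ i : Fin d, e (Ideal.Quotient.mk _ (x i)) = Ideal.Quotient.mk _ (MvPolynomial.X i)) ∧
      ∀ a : A, e (Ideal.Quotient.mk _ a) - Ideal.Quotient.mk _ (MvPolynomial.C (Ideal.Quotient.mk _ a)) ∈
        (Ideal.span (Set.range (MvPolynomial.X : Fin d → MvPolynomial (Fin d) (A ⧸ Ideal.span (Set.range x))))).map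
          (Ideal.Quotient.mk _) := by
  classical
  have hN0 : N ≠ 0 := by omega
  have hle : Ideal.span (Set.range x) ^ N ≤ Ideal.span (Set.range x) := Ideal.pow_le_self hN0
  let π : (A ⧸ Ideal.span (Set.range x) ^ N) →ₐ[R] (A ⧸ Ideal.span (Set.range x)) :=
    Ideal.Quotient.factorₐ R hle
  have hπs : Function.Surjective π := Ideal.Quotient.factor_surjective hle
  have hker : RingHom.ker (π : (A ⧸ Ideal.span (Set.range x) ^ N) →+* (A ⧸ Ideal.span (Set.range x))) ≤
      (Ideal.span (Set.range x)).map (Ideal.Quotient.mk (Ideal.span (Set.range x) ^ N)) := by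
    intro z hz
    obtain ⟨a, rfl⟩ := Ideal.Quotient.mk_surjective z
    have h1 : Ideal.Quotient.factor hle (Ideal.Quotient.mk _ a) = 0 := hz
    rw [Ideal.Quotient.factor_mk, Ideal.Quotient.eq_zero_iff_mem] at h1
    exact Ideal.mem_map_of_mem _ h1
  have hnil : IsNilpotent (RingHom.ker
      (π : (A ⧸ Ideal.span (Set.range x) ^ N) →+* (A ⧸ Ideal.span (Set.range x)))) := by
    refine ⟨N, ?_⟩
    rw [Ideal.zero_eq_bot, eq_bot_iff]
    refine (Ideal.pow_right_mono hker N).trans ?_
    rw [← Ideal.map_pow, Ideal.map_quotient_self]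
  let σ := Algebra.FormallySmooth.liftOfSurjective (AlgHom.id R (A ⧸ Ideal.span (Set.range x))) π hπs hnil
  have hσ : ∀ b, Ideal.Quotient.factor hle (σ b) = b := fun b =>
    Algebra.FormallySmooth.liftOfSurjective_apply _ π hπs hnil b
  have hqr := Groth.Agent.QuasiReg.qr_of_isWeaklyRegular d x hreg
  let Φ' : (MvPolynomial (Fin d) (A ⧸ Ideal.span (Set.range x)) ⧸
      idealOfVars (Fin d) (A ⧸ Ideal.span (Set.range x)) ^ N) →ₐ[R] (A ⧸ Ideal.span (Set.range x) ^ N) :=
    Ideal.Quotient.liftₐ _ (Phi σ) (fun P hP => Phi_mem_ker σ P hP)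
  have hΦ' : ∀ P, Φ' (Ideal.Quotient.mk _ P) = Phi σ P := fun P => rfl
  have hbij : Function.Bijective Φ' := by
    constructor
    · rw [injective_iff_map_eq_zero]
      intro z hz
      obtain ⟨P, rfl⟩ := Ideal.Quotient.mk_surjective z
      rw [hΦ'] at hz
      exact Ideal.Quotient.eq_zero_iff_mem.mpr (mem_pow_of_Phi_eq_zero hle σ hσ hqr P hz)
    · intro z
      obtain ⟨P, hP⟩ := Phi_surjective hle σ hσ hN0 z
      exact ⟨Ideal.Quotient.mk _ P, by rw [hΦ', hP]⟩
  let e0 := AlgEquiv.ofBijective Φ' hbij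
  refine ⟨e0.symm, fun i => ?_, fun a => ?_⟩
  · rw [AlgEquiv.symm_apply_eq]
    show _ = Φ' (Ideal.Quotient.mk _ (X i))
    rw [hΦ', Phi_X]
  · obtain ⟨P, hP⟩ := Ideal.Quotient.mk_surjective (e0.symm (Ideal.Quotient.mk _ a))
    have h1 : Phi σ P = Ideal.Quotient.mk _ a := by
      rw [← hΦ', hP]
      exact e0.apply_symm_apply _
    have h2 : P.coeff 0 = Ideal.Quotient.mk _ a := by
      rw [← factor_Phi hle σ hσ P, h1, Ideal.Quotient.factor_mk]
    rw [← hP, ← map_sub, ← h2]
    refine Ideal.mem_map_of_mem _ ?_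
    have h3 := (mem_pow_idealOfVars_iff' 1 (P - C (P.coeff 0))).mpr (by
      intro α hα
      have : α = 0 := by
        have h0 : α.degree = 0 := by omega
        exact (Finsupp.degree_eq_zero_iff α).mp h0
      rw [this, coeff_sub, coeff_C, if_pos rfl, sub_self])
    rw [pow_one] at h3
    exact h3

end Main

end Groth.Agent.Lib.TruncMvPolyH3
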