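import Mathlib

set_option autoImplicit false
universe u

namespace Groth.Agent.Lib.TruncPolyInv

open MvPolynomial

section Box
variable {k : Type u} [Field k] {r : ℕ}

/-- exponent vector of a box point -/
noncomputable def boxExp (m : Fin r → ℕ) (b : ∀ i, Fin (m i)) : Fin r →₀ ℕ :=
  Finsupp.equivFunOnFinite.symm (fun i => (b i : ℕ))

theorem boxExp_apply (m : Fin r → ℕ) (b : ∀ i, Fin (m i)) (i : Fin r) :
    boxExp m b i = (b i : ℕ) := rfl

theorem boxExp_injective (m : Fin r → ℕ) : Function.Injective (boxExp m) := by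
  intro b b' h
  funext i
  apply Fin.ext
  have h1 := DFunLike.congr_fun h i
  rwa [boxExp_apply, boxExp_apply] at h1

noncomputable def rho (m : Fin r → ℕ) :
    MvPolynomial (Fin r) k →ₗ[k] ((∀ i, Fin (m i)) → k) where
  toFun x b := coeff (boxExp m b) x
  map_add' x y := by funext b; simp
  map_smul' c x := by funext b; simp

theorem mem_span_X_pow_iff (m : Fin r → ℕ) (x : MvPolynomial (Fin r) k) :
    x ∈ Ideal.span (Set.range fun i : Fin r => (X i : MvPolynomial (Fin r) k) ^ m i) ↔
      ∀ α ∈ x.support, ∃ i, m i ≤ α i := by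
  have h1 : (Set.range fun i : Fin r => (X i : MvPolynomial (Fin r) k) ^ m i) =
      (fun s => monomial s (1 : k)) '' (Set.range fun i : Fin r => Finsupp.single i (m i)) := by
    rw [← Set.range_comp]
    congr 1
    funext i
    simp [X_pow_eq_monomial]
  rw [h1, mem_ideal_span_monomial_image]
  constructor
  · intro h α hα
    obtain ⟨s, ⟨i, rfl⟩, hle⟩ := h α hα
    refine ⟨i, ?_⟩
    have h2 := hle i
    rwa [Finsupp.single_eq_same] at h2
  · intro h α hα
    obtain ⟨i, hi⟩ := h α hα
    refine ⟨_, ⟨i, rfl⟩, ?_⟩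
    intro j
    rw [Finsupp.single_apply]
    split_ifs with hij
    · subst hij; exact hi
    · exact Nat.zero_le _

theorem rho_eq_zero_iff (m : Fin r → ℕ) (x : MvPolynomial (Fin r) k) :
    rho m x = 0 ↔
      x ∈ Ideal.span (Set.range fun i : Fin r => (X i : MvPolynomial (Fin r) k) ^ m i) := by
  rw [mem_span_X_pow_iff]
  constructor
  · intro h α hα
    by_contra hcon
    have hlt : ∀ i, α i < m i := fun i => not_le.mp (fun hle => hcon ⟨i, hle⟩)
    have hb : boxExp m (fun i => ⟨α i, hlt i⟩) = α := by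
      ext i; rfl
    have h0 : coeff (boxExp m (fun i => ⟨α i, hlt i⟩)) x = 0 := congrFun h _
    rw [hb] at h0
    exact (mem_support_iff.mp hα) h0
  · intro h
    funext b
    show coeff (boxExp m b) x = 0
    by_contra hne
    obtain ⟨i, hi⟩ := h _ (mem_support_iff.mpr hne)
    rw [boxExp_apply] at hi
    exact absurd (b i).2 (not_lt.mpr hi)

theorem rho_surjective (m : Fin r → ℕ) : Function.Surjective (rho (k := k) m) := by
  classical
  intro g
  refine ⟨∑ b, monomial (boxExp m b) (g b), ?_⟩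
  funext b'
  show coeff (boxExp m b') (∑ b, monomial (boxExp m b) (g b)) = g b'
  rw [coeff_sum]
  simp only [coeff_monomial]
  rw [Finset.sum_eq_single b']
  · rw [if_pos rfl]
  · intro b _ hb
    rw [if_neg (fun h => hb (boxExp_injective m h))]
  · intro h; exact absurd (Finset.mem_univ _) h

theorem finrank_of_surjective (m : Fin r → ℕ) {V : Type*} [AddCommGroup V] [Module k V]
    (g : MvPolynomial (Fin r) k →ₗ[k] V) (hg : Function.Surjective g)
    (hker : ∀ x, g x = 0 ↔
      x ∈ Ideal.span (Set.range fun i : Fin r => (X i : MvPolynomial (Fin r) k) ^ m i)) :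
    Module.finrank k V = ∏ i, m i := by
  have hk : LinearMap.ker g = LinearMap.ker (rho (k := k) m) := by
    ext x
    rw [LinearMap.mem_ker, LinearMap.mem_ker, hker, rho_eq_zero_iff]
  have e1 := g.quotKerEquivOfSurjective hg
  have e2 := (rho (k := k) m).quotKerEquivOfSurjective (rho_surjective m)
  have e3 := Submodule.quotEquivOfEq _ _ hk
  have h1 := e1.finrank_eq
  have h2 := e2.finrank_eq
  have h3 := e3.finrank_eq
  rw [← h1, h3, h2, Module.finrank_fintype_fun_eq_card, Fintype.card_pi]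
  simp

end Box

section KnSec
variable (p : ℕ)

/-- ideal generated by `p^n`-th powers of nilpotents -/
def Kn (A : Type*) [CommRing A] (n : ℕ) : Ideal A :=
  Ideal.span {y | ∃ a : A, IsNilpotent a ∧ y = a ^ p ^ n}

theorem map_Kn {k A B : Type*} [CommRing k] [CommRing A] [CommRing B] [Algebra k A]
    [Algebra k B] (φ : A ≃ₐ[k] B) (n : ℕ) :
    Ideal.map (φ : A →+* B) (Kn p A n) = Kn p B n := by
  unfold Kn
  rw [Ideal.map_span]
  congr 1
  ext y
  constructor
  · rintro ⟨_, ⟨a, ha, rfl⟩, rfl⟩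
    exact ⟨φ a, ha.map φ, by simp⟩
  · rintro ⟨b, hb, rfl⟩
    exact ⟨(φ.symm b) ^ p ^ n, ⟨φ.symm b, hb.map φ.symm, rfl⟩, by simp⟩

theorem finrank_Kn_eq {k A B : Type*} [Field k] [CommRing A] [CommRing B] [Algebra k A]
    [Algebra k B] (φ : A ≃ₐ[k] B) (n : ℕ) :
    Module.finrank k (A ⧸ Kn p A n) = Module.finrank k (B ⧸ Kn p B n) :=
  (Ideal.quotientEquivAlg (Kn p A n) (Kn p B n) φ (map_Kn p φ n).symm).toLinearEquiv.finrank_eq

theorem pow_mem_span_pow [Fact p.Prime] {R : Type*} [CommRing R] [CharP R p] (S : Set R) (n : ℕ)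
    (x : R) (hx : x ∈ Ideal.span S) : x ^ p ^ n ∈ Ideal.span ((fun s => s ^ p ^ n) '' S) := by
  refine Submodule.span_induction ?_ ?_ ?_ ?_ hx
  · intro s hs; exact Ideal.subset_span ⟨s, hs, rfl⟩
  · rw [zero_pow (pow_ne_zero _ (Fact.out : p.Prime).ne_zero)]; exact Submodule.zero_mem _
  · intro a b _ _ ha hb; rw [add_pow_char_pow]; exact Submodule.add_mem _ ha hb
  · intro c a _ ha; rw [smul_eq_mul, mul_pow]; exact Ideal.mul_mem_left _ _ ha

end KnSec

section Compute
variable {k : Type u} [Field k] (p : ℕ) [Fact p.Prime] [CharP k p] {r : ℕ} (e : Fin r → ℕ)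

theorem key (n : ℕ) (x : MvPolynomial (Fin r) k) :
    Ideal.Quotient.mk (Kn p (MvPolynomial (Fin r) k ⧸
        Ideal.span (Set.range fun i : Fin r => (X i : MvPolynomial (Fin r) k) ^ p ^ e i)) n)
      (Ideal.Quotient.mk
        (Ideal.span (Set.range fun i : Fin r => (X i : MvPolynomial (Fin r) k) ^ p ^ e i)) x) = 0 ↔
    x ∈ Ideal.span (Set.range fun i : Fin r =>
      (X i : MvPolynomial (Fin r) k) ^ (min (p ^ e i) (p ^ n))) := by
  have hp : p.Prime := Fact.out
  set I : Ideal (MvPolynomial (Fin r) k) :=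
    Ideal.span (Set.range fun i : Fin r => (X i : MvPolynomial (Fin r) k) ^ p ^ e i) with hI
  set J : Ideal (MvPolynomial (Fin r) k) := Ideal.span (Set.range fun i : Fin r =>
      (X i : MvPolynomial (Fin r) k) ^ (min (p ^ e i) (p ^ n))) with hJ
  have hXI : ∀ i, (X i : MvPolynomial (Fin r) k) ^ p ^ e i ∈ I :=
    fun i => Ideal.subset_span ⟨i, rfl⟩
  have hXJ : ∀ i, (X i : MvPolynomial (Fin r) k) ^ (min (p ^ e i) (p ^ n)) ∈ J :=
    fun i => Ideal.subset_span ⟨i, rfl⟩
  have hIJ : I ≤ J := by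
    rw [hI, Ideal.span_le]
    rintro _ ⟨i, rfl⟩
    have h1 : (X i : MvPolynomial (Fin r) k) ^ p ^ e i =
        X i ^ (min (p ^ e i) (p ^ n)) * X i ^ (p ^ e i - min (p ^ e i) (p ^ n)) := by
      rw [← pow_add, Nat.add_sub_cancel' (min_le_left _ _)]
    show (X i : MvPolynomial (Fin r) k) ^ p ^ e i ∈ J
    rw [h1]
    exact Ideal.mul_mem_right _ _ (hXJ i)
  have hnil : ∀ i, IsNilpotent (Ideal.Quotient.mk I (X i : MvPolynomial (Fin r) k)) := by
    intro i
    refine ⟨p ^ e i, ?_⟩
    rw [← map_pow]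
    exact Ideal.Quotient.eq_zero_iff_mem.mpr (hXI i)
  constructor
  · intro h
    have hI0 : ∀ y ∈ I, constantCoeff y = 0 := by
      have hle : I ≤ RingHom.ker (constantCoeff (σ := Fin r) (R := k)) := by
        rw [hI, Ideal.span_le]
        rintro _ ⟨i, rfl⟩
        show (X i : MvPolynomial (Fin r) k) ^ p ^ e i ∈ RingHom.ker constantCoeff
        rw [RingHom.mem_ker, map_pow, constantCoeff_X, zero_pow (pow_ne_zero _ hp.ne_zero)]
      intro y hy
      exact RingHom.mem_ker.mp (hle hy)
    have hKn : Kn p (MvPolynomial (Fin r) k ⧸ I) n ≤ Ideal.map (Ideal.Quotient.mk I) J := by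
      unfold Kn
      rw [Ideal.span_le]
      rintro _ ⟨a, ha, rfl⟩
      obtain ⟨y, rfl⟩ := Ideal.Quotient.mk_surjective a
      obtain ⟨N, hN⟩ := ha
      rw [← map_pow, Ideal.Quotient.eq_zero_iff_mem] at hN
      have hc : constantCoeff y = 0 := by
        have h2 := hI0 _ hN
        rw [map_pow] at h2
        exact pow_eq_zero_iff (n := N) (fun h0 => by
          subst h0
          rw [pow_zero] at h2
          exact one_ne_zero h2) |>.mp h2
      have hyX : y ∈ Ideal.span ((X : Fin r → MvPolynomial (Fin r) k) '' Set.univ) := by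
        rw [mem_ideal_span_X_image]
        intro α hα
        by_contra hcon
        have hα0 : α = 0 := by
          ext i
          by_contra hne
          exact hcon ⟨i, Set.mem_univ _, hne⟩
        rw [hα0, mem_support_iff] at hα
        exact hα hc
      have h3 := pow_mem_span_pow p _ n y hyX
      have h4 : Ideal.span ((fun s : MvPolynomial (Fin r) k => s ^ p ^ n) ''
          ((X : Fin r → MvPolynomial (Fin r) k) '' Set.univ)) ≤ J := by
        rw [Ideal.span_le]
        rintro _ ⟨_, ⟨i, -, rfl⟩, rfl⟩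
        have h5 : (X i : MvPolynomial (Fin r) k) ^ p ^ n =
            X i ^ (min (p ^ e i) (p ^ n)) * X i ^ (p ^ n - min (p ^ e i) (p ^ n)) := by
          rw [← pow_add, Nat.add_sub_cancel' (min_le_right _ _)]
        show (X i : MvPolynomial (Fin r) k) ^ p ^ n ∈ J
        rw [h5]
        exact Ideal.mul_mem_right _ _ (hXJ i)
      show (Ideal.Quotient.mk I y) ^ p ^ n ∈ Ideal.map (Ideal.Quotient.mk I) J
      rw [← map_pow]
      exact Ideal.mem_map_of_mem _ (h4 h3)
    have h6 := hKn (Ideal.Quotient.eq_zero_iff_mem.mp h)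
    obtain ⟨y, hyJ, hyx⟩ :=
      (Ideal.mem_map_iff_of_surjective _ Ideal.Quotient.mk_surjective).mp h6
    have h7 : y - x ∈ I := Ideal.Quotient.eq.mp hyx
    have h8 : x = y - (y - x) := by ring
    rw [h8]
    exact J.sub_mem hyJ (hIJ h7)
  · intro hx
    have hle : J ≤ RingHom.ker ((Ideal.Quotient.mk
        (Kn p (MvPolynomial (Fin r) k ⧸ I) n)).comp (Ideal.Quotient.mk I)) := by
      rw [hJ, Ideal.span_le]
      rintro _ ⟨i, rfl⟩
      show (X i : MvPolynomial (Fin r) k) ^ (min (p ^ e i) (p ^ n)) ∈ RingHom.ker _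
      rw [RingHom.mem_ker, RingHom.comp_apply]
      rcases min_choice (p ^ e i) (p ^ n) with hm | hm
      · rw [hm, Ideal.Quotient.eq_zero_iff_mem.mpr (hXI i), map_zero]
      · rw [hm, Ideal.Quotient.eq_zero_iff_mem]
        exact Ideal.subset_span ⟨_, hnil i, by rw [map_pow]⟩
    exact RingHom.mem_ker.mp (hle hx)

theorem finrank_quot_Kn (n : ℕ) :
    Module.finrank k ((MvPolynomial (Fin r) k ⧸
        Ideal.span (Set.range fun i : Fin r => (X i : MvPolynomial (Fin r) k) ^ p ^ e i)) ⧸
      Kn p (MvPolynomial (Fin r) k ⧸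
        Ideal.span (Set.range fun i : Fin r => (X i : MvPolynomial (Fin r) k) ^ p ^ e i)) n) =
      ∏ i, min (p ^ e i) (p ^ n) := by
  apply finrank_of_surjective (fun i => min (p ^ e i) (p ^ n))
    ((Ideal.Quotient.mkₐ k (Kn p (MvPolynomial (Fin r) k ⧸
        Ideal.span (Set.range fun i : Fin r => (X i : MvPolynomial (Fin r) k) ^ p ^ e i)) n)).toLinearMap.comp
      (Ideal.Quotient.mkₐ k
        (Ideal.span (Set.range fun i : Fin r => (X i : MvPolynomial (Fin r) k) ^ p ^ e i))).toLinearMap)
  · exact (Ideal.Quotient.mkₐ_surjective k _).comp (Ideal.Quotient.mkₐ_surjective k _)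
  · intro x; exact key p e n x

end Compute

theorem exists_equiv_of_sum_min_eq {r s : ℕ} (e : Fin r → ℕ) (f : Fin s → ℕ)
    (he : ∀ i, 1 ≤ e i) (hf : ∀ j, 1 ≤ f j)
    (h : ∀ n, ∑ i, min (e i) n = ∑ j, min (f j) n) :
    ∃ σ : Fin r ≃ Fin s, ∀ i, f (σ i) = e i := by
  have hgt : ∀ n, (Finset.univ.filter (fun i => n < e i)).card =
      (Finset.univ.filter (fun j => n < f j)).card := by
    intro n
    have key : ∀ {t : ℕ} (g : Fin t → ℕ), ∑ i, min (g i) (n + 1) =
        ∑ i, min (g i) n + (Finset.univ.filter (fun i => n < g i)).card := by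
      intro t g
      rw [Finset.card_filter, ← Finset.sum_add_distrib]
      apply Finset.sum_congr rfl
      intro i _
      split_ifs with hi <;> omega
    have h1 := h (n + 1)
    rw [key e, key f, h n] at h1
    omega
  have heq : ∀ m, (Finset.univ.filter (fun i => e i = m)).card =
      (Finset.univ.filter (fun j => f j = m)).card := by
    intro m
    rcases Nat.eq_zero_or_pos m with rfl | hm
    · rw [Finset.card_eq_zero.mpr, Finset.card_eq_zero.mpr]
      · exact Finset.filter_eq_empty_iff.mpr (fun j _ => by have := hf j; omega)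
      · exact Finset.filter_eq_empty_iff.mpr (fun i _ => by have := he i; omega)
    · have key : ∀ {t : ℕ} (g : Fin t → ℕ),
          (Finset.univ.filter (fun i => m - 1 < g i)).card =
          (Finset.univ.filter (fun i => g i = m)).card +
            (Finset.univ.filter (fun i => m < g i)).card := by
        intro t g
        rw [Finset.card_filter, Finset.card_filter, Finset.card_filter,
          ← Finset.sum_add_distrib]
        apply Finset.sum_congr rfl
        intro i _
        split_ifs <;> omega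
      have h1 := hgt (m - 1)
      rw [key e, key f, hgt m] at h1
      omega
  refine ⟨Equiv.ofFiberEquiv (f := e) (g := f) (fun m => Fintype.equivOfCardEq ?_),
    fun i => Equiv.ofFiberEquiv_map _ i⟩
  rw [Fintype.card_subtype, Fintype.card_subtype]
  exact heq m

theorem main (p : ℕ) [Fact p.Prime] (k : Type u) [Field k] [CharP k p] (r s : ℕ)
    (e : Fin r → ℕ) (f : Fin s → ℕ) (he : ∀ i, 1 ≤ e i) (hf : ∀ j, 1 ≤ f j)
    (φ : (MvPolynomial (Fin r) k ⧸ Ideal.span (Set.range fun i : Fin r =>
        (MvPolynomial.X i : MvPolynomial (Fin r) k) ^ p ^ e i)) ≃ₐ[k]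
      (MvPolynomial (Fin s) k ⧸ Ideal.span (Set.range fun j : Fin s =>
        (MvPolynomial.X j : MvPolynomial (Fin s) k) ^ p ^ f j))) :
    ∃ σ : Fin r ≃ Fin s, ∀ i : Fin r, f (σ i) = e i := by
  apply exists_equiv_of_sum_min_eq e f he hf
  intro n
  have h1 := finrank_Kn_eq p φ n
  rw [finrank_quot_Kn, finrank_quot_Kn] at h1
  have hp : p.Prime := Fact.out
  have hmin : ∀ a b : ℕ, min (p ^ a) (p ^ b) = p ^ min a b := by
    intro a b
    rcases le_total a b with hab | hab
    · rw [min_eq_left (Nat.pow_le_pow_right hp.pos hab), min_eq_left hab]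
    · rw [min_eq_right (Nat.pow_le_pow_right hp.pos hab), min_eq_right hab]
  simp only [hmin, Finset.prod_pow_eq_pow_sum] at h1
  exact Nat.pow_right_injective hp.two_le h1

end Groth.Agent.Lib.TruncPolyInv
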