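import Mathlib
import Groth.Agent.Lib.TruncRlim_helper7

/-!
# `E = R lim τ_{≥ -n} E` on a topological space: variants of the hypotheses (helper7)
-/

set_option autoImplicit false
universe u
open CategoryTheory CategoryTheory.Limits Opposite DerivedCategory TopologicalSpace

namespace Groth.Agent.Lib.TruncRlimTop_helper7

variable {X : TopCat.{u}}
  [HasDerivedCategory.{u} (Sheaf (Opens.grothendieckTopology X) AddCommGrpCat.{u})]

theorem main6520 (E : DerivedCategory (Sheaf (Opens.grothendieckTopology X) AddCommGrpCat.{u}))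
    [HasProduct (CohCx.truncTower E)]
    (h : ∀ x : X, ∃ d : ℕ, ∀ V : Opens X, x ∈ V → ∃ U : Opens X, x ∈ U ∧ U ≤ V ∧
      ∀ (p : ℕ) (q : ℤ), d < p → q < 0 → Subsingleton (CohTop.HU (CohCx.HD E q) p U)) :
    CohCx.IsRlimVia (CohCx.truncTower E) (CohCx.truncTowerMap E) E (CohCx.toTruncTower E) := by
  apply TruncRlim_helper7.main0875
  intro x
  obtain ⟨d, hd⟩ := h x
  refine ⟨fun m => max (d : ℤ) m, fun V hV => ?_⟩
  obtain ⟨U, hxU, hUV, hvan⟩ := hd V hV
  refine ⟨U, hxU, hUV, fun m k hk => ?_⟩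
  have h1 : (d : ℤ) < k := lt_of_le_of_lt (le_max_left (d : ℤ) m) hk
  have h2 : m < k := lt_of_le_of_lt (le_max_right (d : ℤ) m) hk
  exact hvan k (m - k) (by exact_mod_cast h1) (by omega)

theorem main6521 (E : DerivedCategory (Sheaf (Opens.grothendieckTopology X) AddCommGrpCat.{u}))
    [HasProduct (CohCx.truncTower E)] (B : Set (Opens X)) (hB : Opens.IsBasis B) (p : ℤ → ℤ)
    (h : ∀ U ∈ B, ∀ (m : ℤ) (k : ℕ), p m < k →
      Subsingleton (CohTop.HU (CohCx.HD E (m - k)) k U)) :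
    CohCx.IsRlimVia (CohCx.truncTower E) (CohCx.truncTowerMap E) E (CohCx.toTruncTower E) := by
  apply TruncRlim_helper7.main0875
  intro x
  refine ⟨p, fun V hV => ?_⟩
  obtain ⟨U, hUB, hxU, hUV⟩ := Opens.isBasis_iff_nbhd.1 hB hV
  exact ⟨U, hxU, hUV, h U hUB⟩

theorem main6522 (E : DerivedCategory (Sheaf (Opens.grothendieckTopology X) AddCommGrpCat.{u}))
    [HasProduct (CohCx.truncTower E)] (B : Set (Opens X)) (hB : Opens.IsBasis B) (d : ℕ)
    (h : ∀ U ∈ B, ∀ (p : ℕ) (q : ℤ), d < p → q < 0 →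
      Subsingleton (CohTop.HU (CohCx.HD E q) p U)) :
    CohCx.IsRlimVia (CohCx.truncTower E) (CohCx.truncTowerMap E) E (CohCx.toTruncTower E) := by
  apply main6520
  intro x
  refine ⟨d, fun V hV => ?_⟩
  obtain ⟨U, hUB, hxU, hUV⟩ := Opens.isBasis_iff_nbhd.1 hB hV
  exact ⟨U, hxU, hUV, h U hUB⟩

end Groth.Agent.Lib.TruncRlimTop_helper7
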