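import Mathlib

set_option autoImplicit false
set_option maxHeartbeats 400000
universe u
open Polynomial

namespace Groth.Agent.Lib.TruncUnip

variable (k : Type u) [Field k] (N : ℕ) (P : k[X]) (hP : P = (X : k[X]) ^ (N + 1))

include hP

theorem tx_pow : (AdjoinRoot.root P) ^ (N + 1) = 0 := by
  have h : AdjoinRoot.mk P ((X : k[X]) ^ (N + 1)) = 0 := by
    rw [← hP]; exact AdjoinRoot.mk_self
  rwa [map_pow, AdjoinRoot.mk_X] at h

noncomputable def eps : AdjoinRoot P →ₐ[k] k :=
  AdjoinRoot.liftAlgHom P (Algebra.ofId k k) 0 (by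
    rw [hP, eval₂_pow, eval₂_X]; exact zero_pow (Nat.succ_ne_zero N))

theorem decomp (h : AdjoinRoot P) :
    ∃ h' : AdjoinRoot P, h = algebraMap k (AdjoinRoot P) (eps k N P hP h) + AdjoinRoot.root P * h' := by
  obtain ⟨p, rfl⟩ := AdjoinRoot.mk_surjective h
  refine ⟨AdjoinRoot.mk P (divX p), ?_⟩
  have h1 : eps k N P hP (AdjoinRoot.mk P p) = p.coeff 0 := by
    unfold eps
    rw [AdjoinRoot.liftAlgHom_mk, eval₂_at_zero]
    simp
  have h2 := congrArg (AdjoinRoot.mk P) (divX_mul_X_add p)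
  rw [map_add, map_mul, AdjoinRoot.mk_X, AdjoinRoot.mk_C] at h2
  rw [h1, ← h2, AdjoinRoot.algebraMap_eq]
  ring

noncomputable def uu : AdjoinRoot P := ∑ i ∈ Finset.range (N + 1), (-(AdjoinRoot.root P)) ^ i

theorem uu_mul : (1 + AdjoinRoot.root P) * uu k N P = 1 := by
  have h := mul_neg_geom_sum (-(AdjoinRoot.root P)) (N + 1)
  rw [sub_neg_eq_add, neg_pow, tx_pow k N P hP, mul_zero, sub_zero] at h
  exact h

noncomputable def sig : AdjoinRoot P →ₐ[k] AdjoinRoot P :=
  AdjoinRoot.liftAlgHom P (Algebra.ofId k (AdjoinRoot P)) (AdjoinRoot.root P * uu k N P) (by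
    subst hP
    rw [eval₂_pow, eval₂_X, mul_pow, tx_pow k N _ rfl, zero_mul])

theorem sig_x : sig k N P hP (AdjoinRoot.root P) = AdjoinRoot.root P * uu k N P :=
  AdjoinRoot.liftAlgHom_root _ _ _ _

theorem sig_pow (m : ℕ) : ∃ q : AdjoinRoot P, sig k N P hP (AdjoinRoot.root P ^ m) =
    AdjoinRoot.root P ^ m - (m : AdjoinRoot P) * AdjoinRoot.root P ^ (m + 1) + AdjoinRoot.root P ^ (m + 2) * q := by
  induction m with
  | zero => exact ⟨0, by simp⟩
  | succ m ih =>
    obtain ⟨q, hq⟩ := ih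
    have hu : uu k N P = 1 - AdjoinRoot.root P + AdjoinRoot.root P ^ 2 * uu k N P := by
      linear_combination (1 - AdjoinRoot.root P) * uu_mul k N P hP
    refine ⟨uu k N P + m - m * AdjoinRoot.root P * uu k N P + q - AdjoinRoot.root P * q + AdjoinRoot.root P ^ 2 * q * uu k N P, ?_⟩
    have e : sig k N P hP (AdjoinRoot.root P ^ (m + 1)) = sig k N P hP (AdjoinRoot.root P ^ m) * sig k N P hP (AdjoinRoot.root P) := by
      rw [pow_succ, map_mul]
    rw [e, hq, sig_x]
    push_cast
    linear_combination (AdjoinRoot.root P ^ m - (m : AdjoinRoot P) * AdjoinRoot.root P ^ (m + 1) + AdjoinRoot.root P ^ (m + 2) * q) *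
      AdjoinRoot.root P * hu

theorem sig_sub (g : AdjoinRoot P) : ∃ g'' : AdjoinRoot P, sig k N P hP g = g + AdjoinRoot.root P * g'' := by
  obtain ⟨g', hg'⟩ := decomp k N P hP g
  refine ⟨uu k N P * sig k N P hP g' - g', ?_⟩
  have hs : sig k N P hP g = algebraMap k (AdjoinRoot P) (eps k N P hP g) + AdjoinRoot.root P * uu k N P * sig k N P hP g' := by
    conv_lhs => rw [hg']
    rw [map_add, AlgHom.commutes, map_mul, sig_x]
  linear_combination hs - hg'

def PP (A : Subalgebra k (AdjoinRoot P)) (m : ℕ) : Prop :=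
  ∃ f ∈ A, ∃ c : k, c ≠ 0 ∧ ∃ g : AdjoinRoot P,
    f = algebraMap k (AdjoinRoot P) c * AdjoinRoot.root P ^ m + AdjoinRoot.root P ^ (m + 1) * g

theorem PP_succ [CharZero k] (A : Subalgebra k (AdjoinRoot P)) (hA : ∀ f ∈ A, sig k N P hP f ∈ A)
    (m : ℕ) (hm : 1 ≤ m) (h : PP k P A m) : PP k P A (m + 1) := by
  obtain ⟨f, hf, c, hc, g, hfg⟩ := h
  subst hfg
  obtain ⟨q1, hq1⟩ := sig_pow k N P hP m
  obtain ⟨q2, hq2⟩ := sig_pow k N P hP (m + 1)
  obtain ⟨g'', hg''⟩ := sig_sub k N P hP g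
  refine ⟨_, A.sub_mem (hA _ hf) hf, -(m : k) * c,
    mul_ne_zero (neg_ne_zero.mpr (Nat.cast_ne_zero.mpr (by omega))) hc,
    algebraMap k (AdjoinRoot P) c * q1 + g'' - ((m : AdjoinRoot P) + 1) * (g + AdjoinRoot.root P * g'') +
      AdjoinRoot.root P * q2 * (g + AdjoinRoot.root P * g''), ?_⟩
  simp only [map_add, map_mul, map_neg, map_natCast, AlgHom.commutes]
  rw [hq1, hq2, hg'']
  push_cast
  ring

theorem main [CharZero k] (A : Subalgebra k (AdjoinRoot P))
    (hA : ∀ (a : k) (σ : AdjoinRoot P →ₐ[k] AdjoinRoot P),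
      σ (AdjoinRoot.root P) * (1 + algebraMap k (AdjoinRoot P) a * AdjoinRoot.root P) = AdjoinRoot.root P → A.map σ ≤ A) :
    ∃ n : ℕ, 1 ≤ n ∧ n ≤ N + 1 ∧
      Subalgebra.toSubmodule A =
        Submodule.span k {1} ⊔ (Ideal.span {AdjoinRoot.root P ^ n}).restrictScalars k := by
  classical
  have hstab : ∀ f ∈ A, sig k N P hP f ∈ A := by
    intro f hf
    exact hA 1 (sig k N P hP) (by
      rw [map_one, one_mul, sig_x]; linear_combination AdjoinRoot.root P * uu_mul k N P hP)
      (Subalgebra.mem_map.mpr ⟨f, hf, rfl⟩)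
  have hex : ∃ m, 1 ≤ m ∧ PP k P A m := by
    refine ⟨N + 1, by omega, 0, A.zero_mem, 1, one_ne_zero, 0, ?_⟩
    rw [tx_pow k N P hP]; simp
  have hn1 := Nat.find_spec hex
  have hnle : Nat.find hex ≤ N + 1 := by
    apply Nat.find_min' hex
    refine ⟨by omega, 0, A.zero_mem, 1, one_ne_zero, 0, ?_⟩
    rw [tx_pow k N P hP]; simp
  have hmin : ∀ m, m < Nat.find hex → ¬ (1 ≤ m ∧ PP k P A m) := fun m hm => Nat.find_min hex hm
  generalize Nat.find hex = n at hn1 hnle hmin
  have hup : ∀ m, n ≤ m → PP k P A m := by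
    intro m hm
    induction m, hm using Nat.le_induction with
    | base => exact hn1.2
    | succ m hm ih => exact PP_succ k N P hP A hstab m (by omega) ih
  have hI : ∀ j m, m + j = N + 1 → n ≤ m → ∀ h : AdjoinRoot P, AdjoinRoot.root P ^ m * h ∈ A := by
    intro j
    induction j with
    | zero =>
      intro m hm _ h
      have : m = N + 1 := by omega
      rw [this, tx_pow k N P hP, zero_mul]; exact A.zero_mem
    | succ j ih =>
      intro m hm hnm h
      have ih' := ih (m + 1) (by omega) (by omega)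
      obtain ⟨f, hf, c, hc, g, hfg⟩ := hup m hnm
      have hxm : AdjoinRoot.root P ^ m ∈ A := by
        have h1 : algebraMap k (AdjoinRoot P) c * AdjoinRoot.root P ^ m ∈ A := by
          have : algebraMap k (AdjoinRoot P) c * AdjoinRoot.root P ^ m = f - AdjoinRoot.root P ^ (m + 1) * g := by
            rw [hfg]; ring
          rw [this]; exact A.sub_mem hf (ih' g)
        have h2 : AdjoinRoot.root P ^ m = c⁻¹ • (algebraMap k (AdjoinRoot P) c * AdjoinRoot.root P ^ m) := by
          rw [Algebra.smul_def, ← mul_assoc, ← map_mul, inv_mul_cancel₀ hc, map_one, one_mul]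
        rw [h2]; exact A.smul_mem h1 _
      obtain ⟨h', hh'⟩ := decomp k N P hP h
      have : AdjoinRoot.root P ^ m * h = eps k N P hP h • AdjoinRoot.root P ^ m + AdjoinRoot.root P ^ (m + 1) * h' := by
        conv_lhs => rw [hh']
        rw [Algebra.smul_def]; ring
      rw [this]; exact A.add_mem (A.smul_mem hxm _) (ih' h')
  have hdiv : ∀ g ∈ A, ∀ m, 1 ≤ m → m ≤ n → (∃ h, g = AdjoinRoot.root P ^ 1 * h) →
      ∃ h, g = AdjoinRoot.root P ^ m * h := by
    intro g hg m hm1
    induction m, hm1 using Nat.le_induction with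
    | base => intro _ h; exact h
    | succ m hm ih =>
      intro hmn hx
      obtain ⟨h, hgh⟩ := ih (by omega) hx
      obtain ⟨h', hh'⟩ := decomp k N P hP h
      by_cases hz : eps k N P hP h = 0
      · refine ⟨h', ?_⟩
        rw [hz, map_zero, zero_add] at hh'
        rw [hgh, hh']; ring
      · exfalso
        apply hmin m (by omega)
        refine ⟨by omega, g, hg, eps k N P hP h, hz, h', ?_⟩
        rw [hgh]
        conv_lhs => rw [hh']
        ring
  refine ⟨n, hn1.1, hnle, ?_⟩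
  apply le_antisymm
  · intro f hf
    rw [Subalgebra.mem_toSubmodule] at hf
    obtain ⟨h', hh'⟩ := decomp k N P hP f
    have hg : f - algebraMap k (AdjoinRoot P) (eps k N P hP f) ∈ A :=
      A.sub_mem hf (A.algebraMap_mem _)
    have hx1 : ∃ h, f - algebraMap k (AdjoinRoot P) (eps k N P hP f) = AdjoinRoot.root P ^ 1 * h :=
      ⟨h', by rw [pow_one]; linear_combination hh'⟩
    obtain ⟨h, hh⟩ := hdiv _ hg n hn1.1 le_rfl hx1
    have hf2 : f = eps k N P hP f • (1 : AdjoinRoot P) + AdjoinRoot.root P ^ n * h := by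
      rw [Algebra.smul_def, mul_one]; linear_combination hh
    rw [hf2]
    refine Submodule.add_mem_sup (Submodule.smul_mem _ _ (Submodule.subset_span
      (Set.mem_singleton _))) ?_
    show AdjoinRoot.root P ^ n * h ∈ Ideal.span {AdjoinRoot.root P ^ n}
    exact Ideal.mul_mem_right _ _ (Ideal.subset_span (Set.mem_singleton _))
  · apply sup_le
    · rw [Submodule.span_le, Set.singleton_subset_iff]; exact A.one_mem
    · intro f hf
      have hf' : f ∈ Ideal.span {AdjoinRoot.root P ^ n} := hf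
      rw [Ideal.mem_span_singleton'] at hf'
      obtain ⟨a, rfl⟩ := hf'
      rw [mul_comm]
      exact hI (N + 1 - n) n (by omega) le_rfl a

end Groth.Agent.Lib.TruncUnip
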