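import Mathlib
import Groth.Agent.S0212
import Groth.Agent.S2680
import Groth.Agent.Lib.SchFT_helper8
import Groth.Agent.Lib.NrdForm_helper6

/-!
# The Brauer group of the function field of a curve over an algebraically closed field (helper6)
-/

namespace Groth.Agent.Lib.TsenCurveH6

open AlgebraicGeometry CategoryTheory

universe u v

theorem isCr_one_of_isCi {K : Type*} [Field K] (j : ℕ) (hj : j ≤ 1) (h : Curves.IsCi K j) :
    Curves.IsCr K 1 := by
  intro n d f hf hd hdn
  obtain ⟨a, ha0, ha⟩ := h 1 n (fun _ => f) (fun _ => d) (fun _ => hf) (fun _ => hd) (by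
    rw [Fin.sum_univ_one]
    calc d ^ j ≤ d ^ 1 := Nat.pow_le_pow_right hd hj
      _ < n := hdn)
  exact ⟨a, ha0, ha 0⟩

theorem finrank_eq_one_functionField (k : Type u) [Field k] [IsAlgClosed k] (C : Scheme.{u})
    (f : C ⟶ Spec (CommRingCat.of k)) [LocallyOfFiniteType f] [IsIntegral C]
    (hdim : topologicalKrullDim ↥C = 1)
    (D : Type v) [DivisionRing D] [Algebra ↑C.functionField D]
    [Algebra.IsCentral ↑C.functionField D] [FiniteDimensional ↑C.functionField D] :
    Module.finrank ↑C.functionField D = 1 := by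
  letI : C.Over (Spec (CommRingCat.of k)) := ⟨f⟩
  haveI : LocallyOfFiniteType (C ↘ Spec (CommRingCat.of k)) := ‹LocallyOfFiniteType f›
  obtain ⟨x⟩ : Nonempty C := inferInstance
  obtain ⟨U, hU, hxU⟩ : ∃ U : C.Opens, IsAffineOpen U ∧ x ∈ U :=
    ⟨(C.affineCover.f (C.affineCover.idx x)).opensRange,
      isAffineOpen_opensRange (C.affineCover.f _), C.affineCover.covers x⟩
  haveI : Nonempty U := ⟨⟨x, hxU⟩⟩
  letI algR : Algebra k Γ(C, U) := Groth.Agent.SchFTH8.secAlgebra k C U
  haveI : Algebra.FiniteType k Γ(C, U) := Groth.Agent.SchFTH8.finiteType_sec k C U hU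
  haveI : IsDomain Γ(C, U) := inferInstance
  haveI := functionField_isFractionRing_of_isAffineOpen C U hU
  letI algK : Algebra k C.functionField :=
    ((algebraMap Γ(C, U) C.functionField).comp (algebraMap k Γ(C, U))).toAlgebra
  haveI : IsScalarTower k Γ(C, U) C.functionField :=
    IsScalarTower.of_algebraMap_eq (fun _ => rfl)
  obtain ⟨n, hn1, hn2, -⟩ := Groth.Agent.S2680.result k Γ(C, U)
  have hle : ringKrullDim Γ(C, U) ≤ topologicalKrullDim C := by
    rw [← PrimeSpectrum.topologicalKrullDim_eq_ringKrullDim]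
    exact hU.fromSpec.isOpenEmbedding.isInducing.topologicalKrullDim_le
  have hn : n ≤ 1 := by
    rw [hn2, hdim] at hle
    exact_mod_cast hle
  have htr : Algebra.trdeg k C.functionField = n := by
    rw [← hn1]
    exact ((FractionRing.algEquiv Γ(C, U) C.functionField).restrictScalars k).trdeg_eq.symm
  have hCi := Groth.Agent.S0212.result k C.functionField n htr
  exact Groth.Agent.Lib.NrdFormH6.finrank_eq_one_of_isCr C.functionField D
    (isCr_one_of_isCi n hn hCi)

end Groth.Agent.Lib.TsenCurveH6
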