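import Mathlib
import Groth.Prelude.Def_Curves
import Groth.Agent.Lib.TsenLang_lead

set_option maxSynthPendingDepth 3

universe u v

open MvPolynomial

namespace Groth.Agent.Lib.Ci

theorem trdeg_ratFunc (F : Type u) [Field F] : Algebra.trdeg F (RatFunc F) = 1 := by
  haveI : Algebra.IsAlgebraic (RatFunc F) (RatFunc F) := Algebra.IsAlgebraic.of_finite _ _
  haveI : Algebra.IsAlgebraic (Polynomial F) (RatFunc F) :=
    (IsFractionRing.comap_isAlgebraic_iff (A := Polynomial F) (K := RatFunc F)
      (C := RatFunc F)).2 inferInstance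
  haveI : FaithfulSMul (Polynomial F) (RatFunc F) :=
    (faithfulSMul_iff_algebraMap_injective _ _).2 (IsFractionRing.injective _ _)
  have h2 := trdeg_add_eq F (Polynomial F) (A := RatFunc F)
  rw [Polynomial.trdeg_of_isDomain, trdeg_eq_zero, add_zero] at h2
  exact h2.symm

theorem isCi_add_of_trdeg' (F : Type u) (E : Type v) [Field F] [Field E] [Algebra F E]
    (i j : ℕ) (hF : Curves.IsCi F i) (h : Algebra.trdeg F E = (j : Cardinal.{v})) :
    Curves.IsCi E (i + j) := by
  cases j with
  | zero =>
    rw [Nat.cast_zero, trdeg_eq_zero_iff] at h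
    haveI := h
    exact main_S0210 F E i hF
  | succ j =>
    have hne : Algebra.trdeg F E ≠ 0 := by
      rw [h]
      exact_mod_cast Nat.succ_ne_zero j
    have htr : Algebra.Transcendental F E := trdeg_ne_zero_iff.1 hne
    obtain ⟨b, hb⟩ := htr.transcendental
    let e := RatFunc.algEquivOfTranscendental b hb
    have hF' : Curves.IsCi (IntermediateField.adjoin F {b}) (i + 1) :=
      isCi_of_ringEquiv e.toRingEquiv (main_S0211 F i hF)
    have h1 : Algebra.trdeg F (IntermediateField.adjoin F {b}) = 1 := by
      have h2 := e.lift_trdeg_eq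
      rw [trdeg_ratFunc, Cardinal.lift_one] at h2
      exact Cardinal.lift_eq_one.1 h2.symm
    have h3 := trdeg_add_eq F (IntermediateField.adjoin F {b}) (A := E)
    rw [h1, h] at h3
    have h4 : Algebra.trdeg (IntermediateField.adjoin F {b}) E = (j : Cardinal.{v}) := by
      apply Cardinal.eq_of_add_eq_add_left (a := 1) _ Cardinal.one_lt_aleph0
      rw [h3]
      push_cast
      rw [add_comm]
    have h5 := isCi_add_of_trdeg j (IntermediateField.adjoin F {b}) E (i + 1) hF' h4
    have h6 : i + (j + 1) = i + 1 + j := by omega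
    rw [h6]
    exact h5

theorem main_S13187 (k : Type u) [Field k] (K : Type v) [Field K] [Algebra k K]
    (m t : ℕ) (x : Fin t → K) (hx : IsTranscendenceBasis k x) (hk : Curves.IsCi k m) :
    Curves.IsCi K (m + t) := by
  apply isCi_add_of_trdeg' k K m t hk
  have h1 := hx.lift_cardinalMk_eq_trdeg
  simpa using h1.symm

end Groth.Agent.Lib.Ci
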