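import Mathlib
import Groth.Prelude
import Groth.Agent.Lib.StalkTens3_helper3
import Groth.Agent.Lib.StalkSky4_lead
import Groth.Agent.Lib.PB8_helper8

/-!
# The functor `M ↦ P ⊗ h^* M` and its exactness (helper2)

For `h : Y ⟶ Z` and an `O_Y`-module `P` which is flat over `Z` (stalkwise), the functor
`TP h P = M ↦ P ⊗ h^* M` from `O_Z`-modules to `O_Y`-modules is exact.
APPEND-ONLY once landed.
-/

set_option autoImplicit false
universe u

open CategoryTheory CategoryTheory.Limits AlgebraicGeometry Opposite TopologicalSpace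
  MonoidalCategory TensorProduct

namespace Groth.Agent.Lib.TwFun

open Groth.Agent.Lib.StalkSkyL Groth.Agent.Lib.StalkTensH3 Groth.Agent.Lib.TorAmpPushL

section Stalkwise

variable {X : Scheme.{u}}

/-- exactness of a short complex of `O_X`-modules can be checked on stalks -/
theorem exact_of_forall_stalk (S : ShortComplex X.Modules)
    (h : ∀ x : X, (S.map (DerSch.stalkFunctor X x)).Exact) : S.Exact := by
  rw [ShortComplex.exact_iff_isZero_homology]
  apply isZero_of_forall_stalk
  intro x
  have h1 : IsZero ((S.map (DerSch.stalkFunctor X x)).homology) :=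
    (ShortComplex.exact_iff_isZero_homology _).mp (h x)
  have h2 : IsZero ((DerSch.stalkFunctor X x).obj S.homology) :=
    IsZero.of_iso h1 (S.mapHomologyIso (DerSch.stalkFunctor X x)).symm
  exact ModuleCat.subsingleton_of_isZero h2

/-- a functor to `O_X`-modules all of whose stalks are exact functors is exact -/
theorem preserves_of_stalkwise {C : Type*} [Category C] [Abelian C] (Φ : C ⥤ X.Modules)
    [Φ.Additive]
    (h : ∀ x : X, PreservesFiniteLimits (Φ ⋙ DerSch.stalkFunctor X x) ∧
      PreservesFiniteColimits (Φ ⋙ DerSch.stalkFunctor X x)) :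
    PreservesFiniteLimits Φ ∧ PreservesFiniteColimits Φ := by
  refine ((Functor.exact_tfae Φ).out 1 3).mp (fun S hS => ?_)
  apply exact_of_forall_stalk
  intro x
  obtain ⟨h1, h2⟩ := h x
  have h0 : (∀ (S : ShortComplex C), S.Exact → (S.map (Φ ⋙ DerSch.stalkFunctor X x)).Exact) ↔
      (PreservesFiniteLimits (Φ ⋙ DerSch.stalkFunctor X x) ∧
        PreservesFiniteColimits (Φ ⋙ DerSch.stalkFunctor X x)) :=
    (Functor.exact_tfae (Φ ⋙ DerSch.stalkFunctor X x)).out 1 3
  have h3 := h0.mpr ⟨h1, h2⟩ S hS
  exact h3

end Stalkwise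

section Algebra

theorem cancel_nat {R S : Type u} [CommRing R] [CommRing S] [Algebra R S] (P : Type u)
    [AddCommGroup P] [Module S P] [Module R P] [IsScalarTower R S P] {X₁ X₂ : Type u}
    [AddCommGroup X₁] [AddCommGroup X₂] [Module R X₁] [Module R X₂] (l : X₁ →ₗ[R] X₂)
    (w : P ⊗[S] (S ⊗[R] X₁)) :
    TensorProduct.AlgebraTensorModule.cancelBaseChange R S S P X₂
        (LinearMap.lTensor P (LinearMap.baseChange S l) w) =
      LinearMap.lTensor P l (TensorProduct.AlgebraTensorModule.cancelBaseChange R S S P X₁ w) := by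
  induction w using TensorProduct.induction_on with
  | zero => simp only [map_zero]
  | tmul p t =>
    induction t using TensorProduct.induction_on with
    | zero => simp only [tmul_zero, map_zero]
    | tmul s x => rfl
    | add t t' ht ht' => simp only [tmul_add, map_add, ht, ht']
  | add w w' hw hw' => simp only [map_add, hw, hw']

theorem inj_of_flat {R S : Type u} [CommRing R] [CommRing S] [Algebra R S] (P : Type u)
    [AddCommGroup P] [Module S P] [Module R P] [IsScalarTower R S P] [Module.Flat R P]
    {X₁ X₂ : Type u} [AddCommGroup X₁] [AddCommGroup X₂] [Module R X₁] [Module R X₂]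
    (l : X₁ →ₗ[R] X₂) (hl : Function.Injective l) :
    Function.Injective (LinearMap.lTensor P (LinearMap.baseChange S l)) := by
  intro w w' h
  have h1 := congrArg (TensorProduct.AlgebraTensorModule.cancelBaseChange R S S P X₂) h
  rw [cancel_nat, cancel_nat] at h1
  have h2 := Module.Flat.lTensor_preserves_injective_linearMap (M := P) l hl h1
  exact (TensorProduct.AlgebraTensorModule.cancelBaseChange R S S P X₁).injective h2

set_option backward.isDefEq.respectTransparency false in
theorem mono_ext_tensorLeft {R S : Type u} [CommRing R] [CommRing S] (f : R →+* S)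
    (P : ModuleCat.{u} S) (hP : @Module.Flat R P _ _ (Module.compHom P f))
    {X₁ X₂ : ModuleCat.{u} R} (m : X₁ ⟶ X₂) [Mono m] :
    Mono (P ◁ (ModuleCat.extendScalars.{u, u, u} f).map m) := by
  letI : Algebra R S := f.toAlgebra
  letI : Module R P := Module.compHom P f
  haveI : IsScalarTower R S P := IsScalarTower.of_algebraMap_smul fun _ _ => rfl
  haveI : Module.Flat R P := hP
  have hm : Function.Injective m.hom := (ModuleCat.mono_iff_injective m).mp inferInstance
  rw [ModuleCat.mono_iff_injective]
  have h := inj_of_flat (R := R) (S := S) P m.hom hm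
  exact h

theorem preservesFiniteColimits_ext_tensorLeft {R S : Type u} [CommRing R] [CommRing S]
    (f : R →+* S) (P : ModuleCat.{u} S) :
    PreservesFiniteColimits (ModuleCat.extendScalars.{u, u, u} f ⋙ tensorLeft P) := by
  infer_instance

theorem preservesFiniteLimits_ext_tensorLeft {R S : Type u} [CommRing R] [CommRing S]
    (f : R →+* S) (P : ModuleCat.{u} S) (hP : @Module.Flat R P _ _ (Module.compHom P f)) :
    PreservesFiniteLimits (ModuleCat.extendScalars.{u, u, u} f ⋙ tensorLeft P) := by
  rw [Functor.preservesFiniteLimits_iff_forall_exact_map_and_mono]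
  intro S hS
  have h1 := (Functor.preservesFiniteColimits_iff_forall_exact_map_and_epi
    (ModuleCat.extendScalars.{u, u, u} f ⋙ tensorLeft P)).mp
      (preservesFiniteColimits_ext_tensorLeft f P) S hS
  haveI := hS.mono_f
  exact ⟨h1.1, mono_ext_tensorLeft f P hP S.f⟩

end Algebra

section TP

variable {Y Z : Scheme.{u}} (h : Y ⟶ Z) (P : Y.Modules)

/-- the functor `M ↦ P ⊗ h^* M` -/
noncomputable def TP : Z.Modules ⥤ Y.Modules :=
  Scheme.Modules.pullback h ⋙ (DCoh.tensorBi (X := Y)).obj P

instance : (TP h P).Additive := by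
  unfold TP
  infer_instance

theorem TP_obj (M : Z.Modules) :
    (TP h P).obj M = CohB1.tensorMod P ((Scheme.Modules.pullback h).obj M) := rfl

/-- the action of `TP h P` on morphisms, on pure tensors -/
theorem TP_map_tm {M M' : Z.Modules} (φ : M ⟶ M') {U : Y.Opens} {V : Z.Opens}
    (hU : U ≤ h ⁻¹ᵁ V) (p : Γ(P, U)) (x : Γ(M, V)) :
    ((TP h P).map φ).app U (tm P ((Scheme.Modules.pullback h).obj M) U p (PBH8.cUV h M hU x)) =
      tm P ((Scheme.Modules.pullback h).obj M') U p (PBH8.cUV h M' hU (φ.app V x)) := by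
  have h1 := tensorBi_obj_map_tm P ((Scheme.Modules.pullback h).map φ) U p (PBH8.cUV h M hU x)
  rw [PBH8.cUV_naturality] at h1
  exact h1

/-- the stalks of `TP h P` -/
noncomputable def stalkTPIso (y : Y) :
    TP h P ⋙ DerSch.stalkFunctor Y y ≅
      DerSch.stalkFunctor Z (h.base y) ⋙
        (ModuleCat.extendScalars.{u, u, u} (Groth.Agent.Lib.StalkSkyL.stk h y) ⋙
          tensorLeft ((DerSch.stalkFunctor Y y).obj P)) :=
  Functor.associator _ _ _ ≪≫
    Functor.isoWhiskerLeft (Scheme.Modules.pullback h) ((stalkTensorNatIso y).app P) ≪≫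
    (Functor.associator _ _ _).symm ≪≫
    Functor.isoWhiskerRight (pullbackStalkIso h y) (tensorLeft ((DerSch.stalkFunctor Y y).obj P)) ≪≫
    Functor.associator _ _ _

/-- **`M ↦ P ⊗ h^* M` is exact when `P` is flat over the base.** -/
theorem preserves_TP (hP : FlatMod.IsFlatOver h P) :
    PreservesFiniteLimits (TP h P) ∧ PreservesFiniteColimits (TP h P) := by
  apply preserves_of_stalkwise
  intro y
  have hfl : @Module.Flat (Z.presheaf.stalk (h.base y)) ((DerSch.stalkFunctor Y y).obj P) _ _
      (Module.compHom _ (h.stalkMap y).hom) := hP y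
  haveI := preservesFiniteLimits_ext_tensorLeft (Groth.Agent.Lib.StalkSkyL.stk h y)
    ((DerSch.stalkFunctor Y y).obj P) hfl
  haveI := preservesFiniteColimits_ext_tensorLeft (Groth.Agent.Lib.StalkSkyL.stk h y)
    ((DerSch.stalkFunctor Y y).obj P)
  exact ⟨preservesFiniteLimits_of_natIso (stalkTPIso h P y).symm,
    preservesFiniteColimits_of_natIso (stalkTPIso h P y).symm⟩

end TP

end Groth.Agent.Lib.TwFun
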