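import Mathlib
import Groth.Prelude
import Groth.Agent.Lib.SecCx_helper2
import Groth.Agent.Lib.TwFun_helper2
import Groth.Agent.Lib.PB11_helper8

/-!
# Twisted maps of complexes of sections (helper2)

* `tauT φ F F' ν`: for `φ : T K ⟶ L` and `ν : F ⟶ T ⋙ F'`, the chain map `F K ⟶ F' L`.
* `nuS h P hW p : Γf W ⟶ TP h P ⋙ Γf W'`, `x ↦ p ⊗ h^* x`, and its variant `nuS₂` for the product
  functors, with their compatibilities.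
APPEND-ONLY once landed.
-/

set_option autoImplicit false
universe u

open CategoryTheory CategoryTheory.Limits AlgebraicGeometry Opposite TopologicalSpace
  HomologicalComplex

namespace Groth.Agent.Lib.TwSec

open Groth.Agent.Lib.SecCx Groth.Agent.Lib.ActCx Groth.Agent.Lib.TwFun
  Groth.Agent.Lib.StalkTensH3 QcqsLoc

section TauT

variable {C C' D : Type*} [Category C] [Preadditive C] [Category C'] [Preadditive C']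
  [Category D] [Preadditive D] (T : C ⥤ C') [T.Additive]
  {K : CochainComplex C ℕ} {L : CochainComplex C' ℕ}
  (φ : (T.mapHomologicalComplex (ComplexShape.up ℕ)).obj K ⟶ L)

/-- the chain map `F K ⟶ F' L` induced by `φ : T K ⟶ L` and `ν : F ⟶ T ⋙ F'` -/
noncomputable def tauT (F : C ⥤ D) [F.Additive] (F' : C' ⥤ D) [F'.Additive]
    (ν : F ⟶ T ⋙ F') :
    (F.mapHomologicalComplex (ComplexShape.up ℕ)).obj K ⟶
      (F'.mapHomologicalComplex (ComplexShape.up ℕ)).obj L where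
  f n := ν.app (K.X n) ≫ F'.map (φ.f n)
  comm' n m _ := by
    let νn : F.obj (K.X n) ⟶ F'.obj (T.obj (K.X n)) := ν.app (K.X n)
    let νm : F.obj (K.X m) ⟶ F'.obj (T.obj (K.X m)) := ν.app (K.X m)
    let φn : T.obj (K.X n) ⟶ L.X n := φ.f n
    let φm : T.obj (K.X m) ⟶ L.X m := φ.f m
    have h1 : φn ≫ L.d n m = T.map (K.d n m) ≫ φm := φ.comm n m
    have h2 : F.map (K.d n m) ≫ νm = νn ≫ F'.map (T.map (K.d n m)) := ν.naturality (K.d n m)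
    have e1 : (νn ≫ F'.map φn) ≫ F'.map (L.d n m) = νn ≫ (F'.map φn ≫ F'.map (L.d n m)) :=
      Category.assoc _ _ _
    have e2 : F'.map φn ≫ F'.map (L.d n m) = F'.map (T.map (K.d n m)) ≫ F'.map φm := by
      rw [← F'.map_comp, ← F'.map_comp, h1]
    have e3 : νn ≫ (F'.map (T.map (K.d n m)) ≫ F'.map φm) =
        (νn ≫ F'.map (T.map (K.d n m))) ≫ F'.map φm := (Category.assoc _ _ _).symm
    have e4 : (νn ≫ F'.map (T.map (K.d n m))) ≫ F'.map φm = (F.map (K.d n m) ≫ νm) ≫ F'.map φm :=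
      congrArg (fun t => t ≫ F'.map φm) h2.symm
    exact e1.trans ((congrArg (fun t => νn ≫ t) e2).trans (e3.trans (e4.trans
      (Category.assoc _ _ _))))

lemma tauT_f (F : C ⥤ D) [F.Additive] (F' : C' ⥤ D) [F'.Additive] (ν : F ⟶ T ⋙ F') (n : ℕ) :
    (tauT T φ F F' ν).f n = ν.app (K.X n) ≫ F'.map (φ.f n) := rfl

/-- compatibility of `tauT` with natural transformations -/
theorem tauT_comp {F₁ F₂ : C ⥤ D} [F₁.Additive] [F₂.Additive] {F₁' F₂' : C' ⥤ D} [F₁'.Additive]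
    [F₂'.Additive] (ν₁ : F₁ ⟶ T ⋙ F₁') (ν₂ : F₂ ⟶ T ⋙ F₂') (θ : F₁ ⟶ F₂) (θ' : F₁' ⟶ F₂')
    (h : ∀ M : C, ν₁.app M ≫ θ'.app (T.obj M) = θ.app M ≫ ν₂.app M) :
    tauT T φ F₁ F₁' ν₁ ≫ (NatTrans.mapHomologicalComplex θ' (ComplexShape.up ℕ)).app L =
      (NatTrans.mapHomologicalComplex θ (ComplexShape.up ℕ)).app K ≫ tauT T φ F₂ F₂' ν₂ := by
  refine HomologicalComplex.hom_ext _ _ (fun n => ?_)
  let ν₁n : F₁.obj (K.X n) ⟶ F₁'.obj (T.obj (K.X n)) := ν₁.app (K.X n)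
  let ν₂n : F₂.obj (K.X n) ⟶ F₂'.obj (T.obj (K.X n)) := ν₂.app (K.X n)
  let φn : T.obj (K.X n) ⟶ L.X n := φ.f n
  have hn : F₁'.map φn ≫ θ'.app (L.X n) = θ'.app (T.obj (K.X n)) ≫ F₂'.map φn :=
    θ'.naturality φn
  have hh : ν₁n ≫ θ'.app (T.obj (K.X n)) = θ.app (K.X n) ≫ ν₂n := h (K.X n)
  have e1 : (ν₁n ≫ F₁'.map φn) ≫ θ'.app (L.X n) = ν₁n ≫ (F₁'.map φn ≫ θ'.app (L.X n)) :=
    Category.assoc _ _ _
  have e2 : ν₁n ≫ (F₁'.map φn ≫ θ'.app (L.X n)) =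
      ν₁n ≫ (θ'.app (T.obj (K.X n)) ≫ F₂'.map φn) := congrArg (fun t => ν₁n ≫ t) hn
  have e3 : ν₁n ≫ (θ'.app (T.obj (K.X n)) ≫ F₂'.map φn) =
      (ν₁n ≫ θ'.app (T.obj (K.X n))) ≫ F₂'.map φn := (Category.assoc _ _ _).symm
  have e4 : (ν₁n ≫ θ'.app (T.obj (K.X n))) ≫ F₂'.map φn =
      (θ.app (K.X n) ≫ ν₂n) ≫ F₂'.map φn := congrArg (fun t => t ≫ F₂'.map φn) hh
  exact e1.trans (e2.trans (e3.trans (e4.trans (Category.assoc _ _ _))))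

/-- precomposition -/
theorem tauT_pre {F₀ F : C ⥤ D} [F₀.Additive] [F.Additive] {F' : C' ⥤ D} [F'.Additive]
    (ν₀ : F₀ ⟶ T ⋙ F') (ν : F ⟶ T ⋙ F') (σ : F₀ ⟶ F)
    (h : ∀ M : C, ν₀.app M = σ.app M ≫ ν.app M) :
    tauT T φ F₀ F' ν₀ =
      (NatTrans.mapHomologicalComplex σ (ComplexShape.up ℕ)).app K ≫ tauT T φ F F' ν := by
  refine HomologicalComplex.hom_ext _ _ (fun n => ?_)
  let νn : F.obj (K.X n) ⟶ F'.obj (T.obj (K.X n)) := ν.app (K.X n)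
  let ν₀n : F₀.obj (K.X n) ⟶ F'.obj (T.obj (K.X n)) := ν₀.app (K.X n)
  let φn : T.obj (K.X n) ⟶ L.X n := φ.f n
  have hh : ν₀n = σ.app (K.X n) ≫ νn := h (K.X n)
  have e1 : ν₀n ≫ F'.map φn = (σ.app (K.X n) ≫ νn) ≫ F'.map φn :=
    congrArg (fun t => t ≫ F'.map φn) hh
  exact e1.trans (Category.assoc _ _ _)

/-- additivity -/
theorem tauT_add {F : C ⥤ D} [F.Additive] {F' : C' ⥤ D} [F'.Additive]
    (ν ν' ν'' : F ⟶ T ⋙ F') (h : ∀ M : C, ν''.app M = ν.app M + ν'.app M) :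
    tauT T φ F F' ν'' = tauT T φ F F' ν + tauT T φ F F' ν' := by
  refine HomologicalComplex.hom_ext _ _ (fun n => ?_)
  let νn : F.obj (K.X n) ⟶ F'.obj (T.obj (K.X n)) := ν.app (K.X n)
  let ν'n : F.obj (K.X n) ⟶ F'.obj (T.obj (K.X n)) := ν'.app (K.X n)
  let ν''n : F.obj (K.X n) ⟶ F'.obj (T.obj (K.X n)) := ν''.app (K.X n)
  let φn : T.obj (K.X n) ⟶ L.X n := φ.f n
  have hh : ν''n = νn + ν'n := h (K.X n)
  have e1 : ν''n ≫ F'.map φn = (νn + ν'n) ≫ F'.map φn := congrArg (fun t => t ≫ F'.map φn) hh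
  have e2 : (νn + ν'n) ≫ F'.map φn = νn ≫ F'.map φn + ν'n ≫ F'.map φn :=
    Preadditive.add_comp _ _ _ _ _ _
  exact e1.trans e2

end TauT

section NuS

variable {Y Z : Scheme.{u}} (h : Y ⟶ Z) (P : Y.Modules)

lemma cUV_zero (M : Z.Modules) {W : Z.Opens} {W' : Y.Opens} (hW : W' ≤ h ⁻¹ᵁ W) :
    PBH8.cUV h M hW (0 : Γ(M, W)) = 0 := by
  have h1 := PBH8.cUV_add h M hW (0 : Γ(M, W)) 0
  rw [add_zero] at h1
  exact left_eq_add.mp h1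

lemma tm_cUV_add (M : Z.Modules) {W : Z.Opens} {W' : Y.Opens} (hW : W' ≤ h ⁻¹ᵁ W)
    (p : Γ(P, W')) (x y : Γ(M, W)) :
    tm P ((Scheme.Modules.pullback h).obj M) W' p (PBH8.cUV h M hW (x + y)) =
      tm P ((Scheme.Modules.pullback h).obj M) W' p (PBH8.cUV h M hW x) +
        tm P ((Scheme.Modules.pullback h).obj M) W' p (PBH8.cUV h M hW y) := by
  rw [PBH8.cUV_add, tm_add_right]

lemma tm_cUV_smul (M : Z.Modules) {W : Z.Opens} {W' : Y.Opens} (hW : W' ≤ h ⁻¹ᵁ W)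
    (p : Γ(P, W')) (a : Γ(Z, W)) (x : Γ(M, W)) :
    tm P ((Scheme.Modules.pullback h).obj M) W' ((h.appLE W W' hW).hom a • p)
        (PBH8.cUV h M hW x) =
      tm P ((Scheme.Modules.pullback h).obj M) W' p (PBH8.cUV h M hW (a • x)) := by
  rw [PBH8.cUV_smul, tm_smul_left, tm_smul_right]

/-- `x ↦ p ⊗ h^* x` -/
noncomputable def nuS {W : Z.Opens} {W' : Y.Opens} (hW : W' ≤ h ⁻¹ᵁ W) (p : Γ(P, W')) :
    Γf W ⟶ TP h P ⋙ Γf W' where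
  app M := AddCommGrpCat.ofHom (AddMonoidHom.mk'
    (fun x : Γ(M, W) => tm P ((Scheme.Modules.pullback h).obj M) W' p (PBH8.cUV h M hW x))
    (fun x y => tm_cUV_add h P M hW p x y))
  naturality M M' φ := by
    apply AddCommGrpCat.hom_ext
    apply AddMonoidHom.ext
    intro x
    exact (TP_map_tm h P φ hW p x).symm

lemma nuS_app_apply {W : Z.Opens} {W' : Y.Opens} (hW : W' ≤ h ⁻¹ᵁ W) (p : Γ(P, W'))
    (M : Z.Modules) (x : Γ(M, W)) :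
    ((nuS h P hW p).app M).hom x =
      tm P ((Scheme.Modules.pullback h).obj M) W' p (PBH8.cUV h M hW x) := rfl

/-- additivity in the section of `P` -/
lemma nuS_add {W : Z.Opens} {W' : Y.Opens} (hW : W' ≤ h ⁻¹ᵁ W) (p p' : Γ(P, W'))
    (M : Z.Modules) :
    (nuS h P hW (p + p')).app M = (nuS h P hW p).app M + (nuS h P hW p').app M := by
  apply AddCommGrpCat.hom_ext
  apply AddMonoidHom.ext
  intro x
  exact tm_add_left P ((Scheme.Modules.pullback h).obj M) W' p p' (PBH8.cUV h M hW x)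

/-- balance -/
lemma nuS_smul {W : Z.Opens} {W' : Y.Opens} (hW : W' ≤ h ⁻¹ᵁ W) (p : Γ(P, W'))
    (a : Γ(Z, W)) (M : Z.Modules) :
    (nuS h P hW ((h.appLE W W' hW).hom a • p)).app M =
      (smulΓ a).app M ≫ (nuS h P hW p).app M := by
  apply AddCommGrpCat.hom_ext
  apply AddMonoidHom.ext
  intro x
  exact tm_cUV_smul h P M hW p a x

/-- restriction -/
lemma nuS_res {W₁ W₂ : Z.Opens} {W₁' W₂' : Y.Opens} (k : W₂ ≤ W₁) (k' : W₂' ≤ W₁')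
    (hW₁ : W₁' ≤ h ⁻¹ᵁ W₁) (hW₂ : W₂' ≤ h ⁻¹ᵁ W₂) (p : Γ(P, W₁')) (p' : Γ(P, W₂'))
    (hp : rF P k' p = p') (M : Z.Modules) :
    (nuS h P hW₁ p).app M ≫ (resΓ k').app ((TP h P).obj M) =
      (resΓ k).app M ≫ (nuS h P hW₂ p').app M := by
  apply AddCommGrpCat.hom_ext
  apply AddMonoidHom.ext
  intro x
  subst hp
  show rF (CohB1.tensorMod P ((Scheme.Modules.pullback h).obj M)) k'
      (tm P ((Scheme.Modules.pullback h).obj M) W₁' p (PBH8.cUV h M hW₁ x)) =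
    tm P ((Scheme.Modules.pullback h).obj M) W₂' (rF P k' p)
      (PBH8.cUV h M hW₂ ((M.presheaf.map (homOfLE k).op).hom x))
  rw [rF_tm]
  congr 1
  have e1 := PBH8.cUV_res h M hW₁ k' x
  have e2 := PBH8.cUV_res_target h M k hW₂ x
  exact e1.trans e2.symm

/-- the product variant -/
noncomputable def nuS₂ {O₁ O₂ : Z.Opens} {P₁ P₂ : Y.Opens} (k₁ : P₁ ≤ h ⁻¹ᵁ O₁)
    (k₂ : P₂ ≤ h ⁻¹ᵁ O₂) (p₁ : Γ(P, P₁)) (p₂ : Γ(P, P₂)) :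
    Γ₂ O₁ O₂ ⟶ TP h P ⋙ Γ₂ P₁ P₂ where
  app M := AddCommGrpCat.ofHom (AddMonoidHom.prodMap ((nuS h P k₁ p₁).app M).hom
    ((nuS h P k₂ p₂).app M).hom)
  naturality M M' φ := by
    apply AddCommGrpCat.hom_ext
    apply AddMonoidHom.ext
    intro x
    exact Prod.ext (TP_map_tm h P φ k₁ p₁ x.1).symm (TP_map_tm h P φ k₂ p₂ x.2).symm

lemma nuS₂_add {O₁ O₂ : Z.Opens} {P₁ P₂ : Y.Opens} (k₁ : P₁ ≤ h ⁻¹ᵁ O₁)
    (k₂ : P₂ ≤ h ⁻¹ᵁ O₂) (p₁ p₁' : Γ(P, P₁)) (p₂ p₂' : Γ(P, P₂)) (M : Z.Modules) :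
    (nuS₂ h P k₁ k₂ (p₁ + p₁') (p₂ + p₂')).app M =
      (nuS₂ h P k₁ k₂ p₁ p₂).app M + (nuS₂ h P k₁ k₂ p₁' p₂').app M := by
  apply AddCommGrpCat.hom_ext
  apply AddMonoidHom.ext
  intro x
  exact Prod.ext
    (tm_add_left P ((Scheme.Modules.pullback h).obj M) P₁ p₁ p₁' (PBH8.cUV h M k₁ x.1))
    (tm_add_left P ((Scheme.Modules.pullback h).obj M) P₂ p₂ p₂' (PBH8.cUV h M k₂ x.2))

lemma nuS₂_smul {O₁ O₂ : Z.Opens} {P₁ P₂ : Y.Opens} (k₁ : P₁ ≤ h ⁻¹ᵁ O₁)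
    (k₂ : P₂ ≤ h ⁻¹ᵁ O₂) (p₁ : Γ(P, P₁)) (p₂ : Γ(P, P₂)) (a₁ : Γ(Z, O₁)) (a₂ : Γ(Z, O₂))
    (M : Z.Modules) :
    (nuS₂ h P k₁ k₂ ((h.appLE O₁ P₁ k₁).hom a₁ • p₁) ((h.appLE O₂ P₂ k₂).hom a₂ • p₂)).app M =
      (smulΓ₂ a₁ a₂).app M ≫ (nuS₂ h P k₁ k₂ p₁ p₂).app M := by
  apply AddCommGrpCat.hom_ext
  apply AddMonoidHom.ext
  intro x
  have e₁ := congrArg (fun ψ : (Γf O₁).obj M ⟶ _ => ψ.hom x.1) (nuS_smul h P k₁ p₁ a₁ M)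
  have e₂ := congrArg (fun ψ : (Γf O₂).obj M ⟶ _ => ψ.hom x.2) (nuS_smul h P k₂ p₂ a₂ M)
  exact Prod.ext e₁ e₂

/-- Mayer–Vietoris inclusion -/
lemma nuS_mvι {O O₁ O₂ : Z.Opens} {Q Q₁ Q₂ : Y.Opens} (h₁ : O₁ ≤ O) (h₂ : O₂ ≤ O)
    (h₁' : Q₁ ≤ Q) (h₂' : Q₂ ≤ Q) (k : Q ≤ h ⁻¹ᵁ O) (k₁ : Q₁ ≤ h ⁻¹ᵁ O₁) (k₂ : Q₂ ≤ h ⁻¹ᵁ O₂)
    (p : Γ(P, Q)) (p₁ : Γ(P, Q₁)) (p₂ : Γ(P, Q₂)) (hp₁ : rF P h₁' p = p₁)
    (hp₂ : rF P h₂' p = p₂) (M : Z.Modules) :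
    (nuS h P k p).app M ≫ (mvι h₁' h₂').app ((TP h P).obj M) =
      (mvι h₁ h₂).app M ≫ (nuS₂ h P k₁ k₂ p₁ p₂).app M := by
  apply AddCommGrpCat.hom_ext
  apply AddMonoidHom.ext
  intro x
  have e₁ := congrArg (fun ψ : (Γf O).obj M ⟶ _ => ψ.hom x)
    (nuS_res h P h₁ h₁' k k₁ p p₁ hp₁ M)
  have e₂ := congrArg (fun ψ : (Γf O).obj M ⟶ _ => ψ.hom x)
    (nuS_res h P h₂ h₂' k k₂ p p₂ hp₂ M)
  exact Prod.ext e₁ e₂

/-- Mayer–Vietoris difference -/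
lemma nuS_mvπ {O' O₁ O₂ : Z.Opens} {Q' Q₁ Q₂ : Y.Opens} (h₁ : O' ≤ O₁) (h₂ : O' ≤ O₂)
    (h₁' : Q' ≤ Q₁) (h₂' : Q' ≤ Q₂) (k' : Q' ≤ h ⁻¹ᵁ O') (k₁ : Q₁ ≤ h ⁻¹ᵁ O₁)
    (k₂ : Q₂ ≤ h ⁻¹ᵁ O₂) (p' : Γ(P, Q')) (p₁ : Γ(P, Q₁)) (p₂ : Γ(P, Q₂))
    (hp₁ : rF P h₁' p₁ = p') (hp₂ : rF P h₂' p₂ = p') (M : Z.Modules) :
    (nuS₂ h P k₁ k₂ p₁ p₂).app M ≫ (mvπ h₁' h₂').app ((TP h P).obj M) =
      (mvπ h₁ h₂).app M ≫ (nuS h P k' p').app M := by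
  apply AddCommGrpCat.hom_ext
  apply AddMonoidHom.ext
  intro x
  have e₁ : rF ((TP h P).obj M) h₁' (((nuS h P k₁ p₁).app M).hom x.1) =
      ((nuS h P k' p').app M).hom ((M.presheaf.map (homOfLE h₁).op).hom x.1) :=
    congrArg (fun ψ : (Γf O₁).obj M ⟶ _ => ψ.hom x.1) (nuS_res h P h₁ h₁' k₁ k' p₁ p' hp₁ M)
  have e₂ : rF ((TP h P).obj M) h₂' (((nuS h P k₂ p₂).app M).hom x.2) =
      ((nuS h P k' p').app M).hom ((M.presheaf.map (homOfLE h₂).op).hom x.2) :=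
    congrArg (fun ψ : (Γf O₂).obj M ⟶ _ => ψ.hom x.2) (nuS_res h P h₂ h₂' k₂ k' p₂ p' hp₂ M)
  have e₃ : ((nuS h P k' p').app M).hom ((M.presheaf.map (homOfLE h₁).op).hom x.1 -
        (M.presheaf.map (homOfLE h₂).op).hom x.2) =
      ((nuS h P k' p').app M).hom ((M.presheaf.map (homOfLE h₁).op).hom x.1) -
        ((nuS h P k' p').app M).hom ((M.presheaf.map (homOfLE h₂).op).hom x.2) := map_sub _ _ _
  show rF ((TP h P).obj M) h₁' (((nuS h P k₁ p₁).app M).hom x.1) -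
      rF ((TP h P).obj M) h₂' (((nuS h P k₂ p₂).app M).hom x.2) =
    ((nuS h P k' p').app M).hom ((M.presheaf.map (homOfLE h₁).op).hom x.1 -
      (M.presheaf.map (homOfLE h₂).op).hom x.2)
  exact (congrArg₂ (· - ·) e₁ e₂).trans e₃.symm

/-- first inclusion -/
lemma nuS_inl₂ {O₁ O₂ : Z.Opens} {Q₁ Q₂ : Y.Opens} (k₁ : Q₁ ≤ h ⁻¹ᵁ O₁) (k₂ : Q₂ ≤ h ⁻¹ᵁ O₂)
    (p₁ : Γ(P, Q₁)) (p₂ : Γ(P, Q₂)) (M : Z.Modules) :
    (nuS h P k₁ p₁).app M ≫ (inl₂ (O₁ := Q₁) (O₂ := Q₂)).app ((TP h P).obj M) =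
      (inl₂ (O₁ := O₁) (O₂ := O₂)).app M ≫ (nuS₂ h P k₁ k₂ p₁ p₂).app M := by
  apply AddCommGrpCat.hom_ext
  apply AddMonoidHom.ext
  intro x
  have h0 : ((nuS h P k₂ p₂).app M).hom (0 : Γ(M, O₂)) = 0 := map_zero _
  exact Prod.ext rfl h0.symm

/-- second projection -/
lemma nuS_pr₂ {O₁ O₂ : Z.Opens} {Q₁ Q₂ : Y.Opens} (k₁ : Q₁ ≤ h ⁻¹ᵁ O₁) (k₂ : Q₂ ≤ h ⁻¹ᵁ O₂)
    (p₁ : Γ(P, Q₁)) (p₂ : Γ(P, Q₂)) (M : Z.Modules) :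
    (nuS₂ h P k₁ k₂ p₁ p₂).app M ≫ (pr₂ (O₁ := Q₁) (O₂ := Q₂)).app ((TP h P).obj M) =
      (pr₂ (O₁ := O₁) (O₂ := O₂)).app M ≫ (nuS h P k₂ p₂).app M := by
  apply AddCommGrpCat.hom_ext
  apply AddMonoidHom.ext
  intro x
  rfl

end NuS

end Groth.Agent.Lib.TwSec
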