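import Mathlib
import Groth.Prelude
import Groth.Agent.Lib.TwSec_helper2
import Groth.Agent.Lib.TensQC2_helper8
import Groth.Agent.Lib.QBC4_helper8
import Groth.Agent.Lib.PB7_helper8

/-!
# Sections of `P ⊗ h^* M` over affine opens (helper2)

* `affTw_bijective`: for quasi-coherent `P` on `Y`, `M` on `Z`, `h : Y ⟶ Z` and affine opens
  `U' ⊆ h⁻¹U`: `Γ(P, U') ⊗_{Γ(Z, U)} Γ(M, U) → Γ(P ⊗ h^* M, U')` is bijective.
* `tw_affine_bijective`: in a cartesian square, for quasi-coherent `G` on `S'`, `F` on `X` and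
  affine opens: `Γ(G, V') ⊗_{Γ(S, V)} Γ(F, W) → Γ(f'^* G ⊗ g'^* F, g'⁻¹W ∩ f'⁻¹V')` is bijective.
APPEND-ONLY once landed.
-/

set_option autoImplicit false
universe u

open CategoryTheory CategoryTheory.Limits AlgebraicGeometry Opposite TopologicalSpace
  TensorProduct

namespace Groth.Agent.Lib.TwAff

open Groth.Agent.Lib.SecCx Groth.Agent.Lib.TwFun Groth.Agent.Lib.TwSec
  Groth.Agent.Lib.StalkTensH3 QcqsLoc TensH8 TensQCH8

section Alg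

theorem addHom_ext_tmul {A : Type*} [CommRing A] {P M : Type*} [AddCommGroup P] [Module A P]
    [AddCommGroup M] [Module A M] {T : Type*} [AddCommMonoid T] (f g : P ⊗[A] M →+ T)
    (h : ∀ x m, f (x ⊗ₜ m) = g (x ⊗ₜ m)) : f = g := by
  ext z
  refine TensorProduct.induction_on z ?_ h ?_
  · rw [map_zero, map_zero]
  · intro x y hx hy
    rw [map_add, map_add, hx, hy]

/-- `P' ⊗_R X → P' ⊗_{R'} B`, `p ⊗ x ↦ p ⊗ c x`, is bijective when `c : X → B` is a base change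
along `R → R'` -/
theorem alg1 {R R' : Type u} [CommRing R] [CommRing R'] [Algebra R R'] {X B P' : Type u}
    [AddCommGroup X] [Module R X] [AddCommGroup B] [Module R' B] [Module R B]
    [IsScalarTower R R' B] [AddCommGroup P'] [Module R' P'] [Module R P'] [IsScalarTower R R' P']
    (c : X →ₗ[R] B) (hbc : IsBaseChange R' c) (τ : P' ⊗[R] X →+ P' ⊗[R'] B)
    (hτ : ∀ p x, τ (p ⊗ₜ x) = p ⊗ₜ c x) : Function.Bijective τ := by
  let e₁ : R' ⊗[R] X ≃ₗ[R'] B := hbc.equiv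
  let e₂ : P' ⊗[R'] (R' ⊗[R] X) ≃ₗ[R'] P' ⊗[R] X :=
    TensorProduct.AlgebraTensorModule.cancelBaseChange R R' R' P' X
  let e₄ : P' ⊗[R'] (R' ⊗[R] X) ≃ₗ[R'] P' ⊗[R'] B := TensorProduct.congr (LinearEquiv.refl R' P') e₁
  let Ψ : P' ⊗[R] X →+ P' ⊗[R'] B :=
    e₄.toAddEquiv.toAddMonoidHom.comp e₂.symm.toAddEquiv.toAddMonoidHom
  have hΨ : τ = Ψ := by
    apply addHom_ext_tmul
    intro p x
    rw [hτ]
    show p ⊗ₜ c x = e₄ (e₂.symm (p ⊗ₜ[R] x))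
    have h2 : e₂.symm (p ⊗ₜ[R] x) = p ⊗ₜ[R'] ((1 : R') ⊗ₜ[R] x) := by
      rw [LinearEquiv.symm_apply_eq]
      show p ⊗ₜ[R] x = TensorProduct.AlgebraTensorModule.cancelBaseChange R R' R' P' X
        (p ⊗ₜ[R'] ((1 : R') ⊗ₜ[R] x))
      rw [TensorProduct.AlgebraTensorModule.cancelBaseChange_tmul, one_smul]
    rw [h2]
    show p ⊗ₜ c x = p ⊗ₜ[R'] e₁ ((1 : R') ⊗ₜ[R] x)
    rw [show e₁ ((1 : R') ⊗ₜ[R] x) = (1 : R') • c x from hbc.equiv_tmul 1 x, one_smul]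
  rw [hΨ]
  exact e₄.bijective.comp e₂.symm.bijective

/-- `N ⊗_A X → P' ⊗_R X`, `n ⊗ x ↦ cl n ⊗ x`, is bijective when `cl : N → P'` is a base change
along `A → R` -/
theorem alg2 {A R : Type u} [CommRing A] [CommRing R] [Algebra A R] {N P' X : Type u}
    [AddCommGroup N] [Module A N] [AddCommGroup P'] [Module R P'] [Module A P']
    [IsScalarTower A R P'] [AddCommGroup X] [Module R X] [Module A X] [IsScalarTower A R X]
    (cl : N →ₗ[A] P') (hbc : IsBaseChange R cl) (σ : N ⊗[A] X →+ P' ⊗[R] X)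
    (hσ : ∀ n x, σ (n ⊗ₜ x) = cl n ⊗ₜ x) : Function.Bijective σ := by
  let c₁ : X ⊗[A] N ≃ₗ[A] N ⊗[A] X := TensorProduct.comm A X N
  let c₂ : P' ⊗[R] X ≃ₗ[R] X ⊗[R] P' := TensorProduct.comm R P' X
  let τ : X ⊗[A] N →+ X ⊗[R] P' :=
    c₂.toAddEquiv.toAddMonoidHom.comp (σ.comp c₁.toAddEquiv.toAddMonoidHom)
  have hτ : Function.Bijective τ := alg1 cl hbc τ (fun x n => by
    show c₂ (σ (c₁ (x ⊗ₜ n))) = x ⊗ₜ cl n
    rw [show c₁ (x ⊗ₜ[A] n) = n ⊗ₜ x from rfl, hσ]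
    rfl)
  have h1 : ⇑σ = ⇑c₂.symm ∘ ⇑τ ∘ ⇑c₁.symm := by
    funext w
    show σ w = c₂.symm (c₂ (σ (c₁ (c₁.symm w))))
    rw [LinearEquiv.symm_apply_apply, LinearEquiv.apply_symm_apply]
  rw [h1]
  exact c₂.symm.bijective.comp (hτ.comp c₁.symm.bijective)

end Alg

section AffTw

variable {Y Z : Scheme.{u}} (h : Y ⟶ Z) (P : Y.Modules) (M : Z.Modules) {U : Z.Opens}
  {U' : Y.Opens} (hUU : U' ≤ h ⁻¹ᵁ U)

/-- `p ⊗ x ↦ p ⊗ h^* x`, to the sections of the presheaf tensor product -/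
noncomputable def tauP :
    letI : Module Γ(Z, U) Γ(P, U') := Module.compHom _ (h.appLE U U' hUU).hom
    Γ(P, U') ⊗[Γ(Z, U)] Γ(M, U) →+ PU P ((Scheme.Modules.pullback h).obj M) U' :=
  letI : Module Γ(Z, U) Γ(P, U') := Module.compHom _ (h.appLE U U' hUU).hom
  TensorProduct.liftAddHom
    (AddMonoidHom.mk' (fun p : Γ(P, U') =>
        (AddMonoidHom.mk' (fun x : Γ(M, U) =>
            ((p ⊗ₜ[Γ(Y, U')] (PBH8.cUV h M hUU x)) : PU P ((Scheme.Modules.pullback h).obj M) U'))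
          (fun x x' => by rw [PBH8.cUV_add]; exact TensorProduct.tmul_add _ _ _)))
      (fun p p' => by
        ext x
        exact TensorProduct.add_tmul _ _ _))
    (fun a p x => by
      show ((((h.appLE U U' hUU).hom a • p) ⊗ₜ[Γ(Y, U')] (PBH8.cUV h M hUU x)) :
          PU P ((Scheme.Modules.pullback h).obj M) U') =
        ((p ⊗ₜ[Γ(Y, U')] (PBH8.cUV h M hUU (a • x))) :
          PU P ((Scheme.Modules.pullback h).obj M) U')
      rw [PBH8.cUV_smul]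
      exact TensorProduct.smul_tmul _ _ _)

variable [P.IsQuasicoherent] [M.IsQuasicoherent]

/-- **sections of `P ⊗ h^* M` over an affine open** -/
theorem affTw_bijective (hU : IsAffineOpen U) (hU' : IsAffineOpen U') :
    letI : Module Γ(Z, U) Γ(P, U') := Module.compHom _ (h.appLE U U' hUU).hom
    ∀ (Θ : Γ(P, U') ⊗[Γ(Z, U)] Γ(M, U) →+
        Γ(CohB1.tensorMod P ((Scheme.Modules.pullback h).obj M), U')),
      (∀ p x, Θ (p ⊗ₜ x) = tm P ((Scheme.Modules.pullback h).obj M) U' p (PBH8.cUV h M hUU x)) →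
      Function.Bijective Θ := by
  letI : Algebra Γ(Z, U) Γ(Y, U') := (h.appLE U U' hUU).hom.toAlgebra
  letI mP : Module Γ(Z, U) Γ(P, U') := Module.compHom _ (h.appLE U U' hUU).hom
  letI mB : Module Γ(Z, U) Γ((Scheme.Modules.pullback h).obj M, U') :=
    Module.compHom _ (h.appLE U U' hUU).hom
  haveI : IsScalarTower Γ(Z, U) Γ(Y, U') Γ((Scheme.Modules.pullback h).obj M, U') :=
    IsScalarTower.of_algebraMap_smul fun _ _ => rfl
  haveI : IsScalarTower Γ(Z, U) Γ(Y, U') Γ(P, U') :=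
    IsScalarTower.of_algebraMap_smul fun _ _ => rfl
  intro Θ hΘ
  haveI : ((Scheme.Modules.pullback h).obj M).IsQuasicoherent :=
    PBH8.isQuasicoherent_pullback h M
  have bc := PBH8.isBaseChange_cUV h M hUU hU' hU
  have hτ : Function.Bijective (tauP h P M hUU) :=
    alg1 (PBH8.cUVLin h M hUU) bc (tauP h P M hUU) (fun p x => rfl)
  have hη := eta_bijective P ((Scheme.Modules.pullback h).obj M) hU'
  have h1 : Θ = (eta P ((Scheme.Modules.pullback h).obj M) U').comp (tauP h P M hUU) := by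
    apply addHom_ext_tmul
    intro p x
    rw [hΘ]
    rfl
  rw [h1]
  exact hη.comp hτ

/-- the comparison map itself -/
noncomputable def thetaP :
    letI : Module Γ(Z, U) Γ(P, U') := Module.compHom _ (h.appLE U U' hUU).hom
    Γ(P, U') ⊗[Γ(Z, U)] Γ(M, U) →+
      Γ(CohB1.tensorMod P ((Scheme.Modules.pullback h).obj M), U') :=
  (eta P ((Scheme.Modules.pullback h).obj M) U').comp (tauP h P M hUU)

omit [P.IsQuasicoherent] [M.IsQuasicoherent] in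
lemma thetaP_tmul (p : Γ(P, U')) (x : Γ(M, U)) :
    letI : Module Γ(Z, U) Γ(P, U') := Module.compHom _ (h.appLE U U' hUU).hom
    thetaP h P M hUU (p ⊗ₜ x) =
      tm P ((Scheme.Modules.pullback h).obj M) U' p (PBH8.cUV h M hUU x) := rfl

theorem thetaP_bijective (hU : IsAffineOpen U) (hU' : IsAffineOpen U') :
    Function.Bijective (thetaP h P M hUU) :=
  affTw_bijective h P M hUU hU hU' (thetaP h P M hUU) (fun _ _ => rfl)

end AffTw

section Alg2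

/-- `N ⊗_A X → P' ⊗_R X`, `n ⊗ x ↦ cl n ⊗ x`, when `cl : N → P'` is a base change along `A → R` -/
theorem alg2_exists {A R : Type u} [CommRing A] [CommRing R] [Algebra A R] {N P' X : Type u}
    [AddCommGroup N] [Module A N] [AddCommGroup P'] [Module R P'] [Module A P']
    [IsScalarTower A R P'] [AddCommGroup X] [Module R X] [Module A X] [IsScalarTower A R X]
    (cl : N →ₗ[A] P') (hbc : IsBaseChange R cl) :
    ∃ σ : N ⊗[A] X →+ P' ⊗[R] X, (∀ n x, σ (n ⊗ₜ x) = cl n ⊗ₜ x) ∧ Function.Bijective σ := by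
  let c₁ : N ⊗[A] X ≃ₗ[A] X ⊗[A] N := TensorProduct.comm A N X
  let e₂ : X ⊗[R] (R ⊗[A] N) ≃ₗ[R] X ⊗[A] N :=
    TensorProduct.AlgebraTensorModule.cancelBaseChange A R R X N
  let e₁ : R ⊗[A] N ≃ₗ[R] P' := hbc.equiv
  let e₄ : X ⊗[R] (R ⊗[A] N) ≃ₗ[R] X ⊗[R] P' := TensorProduct.congr (LinearEquiv.refl R X) e₁
  let c₂ : X ⊗[R] P' ≃ₗ[R] P' ⊗[R] X := TensorProduct.comm R X P'
  let σ : N ⊗[A] X →+ P' ⊗[R] X :=
    c₂.toAddEquiv.toAddMonoidHom.comp (e₄.toAddEquiv.toAddMonoidHom.comp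
      (e₂.symm.toAddEquiv.toAddMonoidHom.comp c₁.toAddEquiv.toAddMonoidHom))
  refine ⟨σ, fun n x => ?_, ?_⟩
  · show c₂ (e₄ (e₂.symm (c₁ (n ⊗ₜ x)))) = cl n ⊗ₜ x
    rw [show c₁ (n ⊗ₜ[A] x) = x ⊗ₜ n from rfl]
    have h2 : e₂.symm (x ⊗ₜ[A] n) = x ⊗ₜ[R] ((1 : R) ⊗ₜ[A] n) := by
      rw [LinearEquiv.symm_apply_eq]
      show x ⊗ₜ[A] n = TensorProduct.AlgebraTensorModule.cancelBaseChange A R R X N
        (x ⊗ₜ[R] ((1 : R) ⊗ₜ[A] n))
      rw [TensorProduct.AlgebraTensorModule.cancelBaseChange_tmul, one_smul]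
    rw [h2]
    show c₂ (x ⊗ₜ[R] e₁ ((1 : R) ⊗ₜ[A] n)) = cl n ⊗ₜ x
    rw [show e₁ ((1 : R) ⊗ₜ[A] n) = (1 : R) • cl n from hbc.equiv_tmul 1 n, one_smul]
    rfl
  · exact c₂.bijective.comp (e₄.bijective.comp (e₂.symm.bijective.comp c₁.bijective))

end Alg2

section Square

variable {X S X' S' : Scheme.{u}} {f : X ⟶ S} {g : S' ⟶ S} {g' : X' ⟶ X} {f' : X' ⟶ S'}
  (hc : IsPullback g' f' f g) (G : S'.Modules) [G.IsQuasicoherent] (F : X.Modules)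
  [F.IsQuasicoherent] {V : S.Opens} {V' : S'.Opens} {W : X.Opens} (hV : IsAffineOpen V)
  (hV' : IsAffineOpen V') (hW : IsAffineOpen W) (hVV : V' ≤ g ⁻¹ᵁ V) (hWV : W ≤ f ⁻¹ᵁ V)

include hc hV hV' hW in
/-- **sections of `f'^* G ⊗ g'^* F` over the affine open `g'⁻¹W ∩ f'⁻¹V'`** -/
theorem tw_affine_bijective (Q : X'.Opens) (hQ₁ : Q ≤ g' ⁻¹ᵁ W) (hQ₂ : Q ≤ f' ⁻¹ᵁ V')
    (hQ : g' ⁻¹ᵁ W ⊓ f' ⁻¹ᵁ V' ≤ Q) :
    letI : Module Γ(S, V) Γ(G, V') := Module.compHom _ (g.appLE V V' hVV).hom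
    letI : Module Γ(S, V) Γ(F, W) := Module.compHom _ (f.appLE V W hWV).hom
    ∀ (Θ : Γ(G, V') ⊗[Γ(S, V)] Γ(F, W) →+
        Γ(CohB1.tensorMod ((Scheme.Modules.pullback f').obj G)
          ((Scheme.Modules.pullback g').obj F), Q)),
      (∀ n x, Θ (n ⊗ₜ x) = tm ((Scheme.Modules.pullback f').obj G)
        ((Scheme.Modules.pullback g').obj F) Q (PBH8.cUV f' G hQ₂ n) (PBH8.cUV g' F hQ₁ x)) →
      Function.Bijective Θ := by
  have e : Q = f' ⁻¹ᵁ V' ⊓ g' ⁻¹ᵁ W :=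
    le_antisymm (le_inf hQ₂ hQ₁) (by rw [inf_comm]; exact hQ)
  subst e
  obtain ⟨hQa, -⟩ := FlatBC2H8.affine_pushout hc.flip hV hV' hW hVV hWV
  letI algAR : Algebra Γ(S, V) Γ(X, W) := (f.appLE V W hWV).hom.toAlgebra
  letI mN : Module Γ(S, V) Γ(G, V') := Module.compHom _ (g.appLE V V' hVV).hom
  letI mX : Module Γ(S, V) Γ(F, W) := Module.compHom _ (f.appLE V W hWV).hom
  haveI : IsScalarTower Γ(S, V) Γ(X, W) Γ(F, W) :=
    IsScalarTower.of_algebraMap_smul fun _ _ => rfl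
  letI mP' : Module Γ(X, W) Γ((Scheme.Modules.pullback f').obj G, f' ⁻¹ᵁ V' ⊓ g' ⁻¹ᵁ W) :=
    Module.compHom _ (g'.appLE W (f' ⁻¹ᵁ V' ⊓ g' ⁻¹ᵁ W) inf_le_right).hom
  letI mP'A : Module Γ(S, V) Γ((Scheme.Modules.pullback f').obj G, f' ⁻¹ᵁ V' ⊓ g' ⁻¹ᵁ W) :=
    Module.compHom _ (f.appLE V W hWV).hom
  haveI : IsScalarTower Γ(S, V) Γ(X, W)
      Γ((Scheme.Modules.pullback f').obj G, f' ⁻¹ᵁ V' ⊓ g' ⁻¹ᵁ W) :=
    IsScalarTower.of_algebraMap_smul fun _ _ => rfl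
  intro Θ hΘ
  let cl : Γ(G, V') →ₗ[Γ(S, V)] Γ((Scheme.Modules.pullback f').obj G, f' ⁻¹ᵁ V' ⊓ g' ⁻¹ᵁ W) :=
    { toFun := PBH8.cUV f' G (inf_le_left : f' ⁻¹ᵁ V' ⊓ g' ⁻¹ᵁ W ≤ f' ⁻¹ᵁ V')
      map_add' := PBH8.cUV_add f' G _
      map_smul' := fun a n => by
        have h1 := PBH8.cUV_smul f' G (inf_le_left : f' ⁻¹ᵁ V' ⊓ g' ⁻¹ᵁ W ≤ f' ⁻¹ᵁ V')
          ((g.appLE V V' hVV).hom a) n
        have h2 := QBCH8.appLE_comm_apply hc.flip hVV hWV
          (inf_le_left : f' ⁻¹ᵁ V' ⊓ g' ⁻¹ᵁ W ≤ f' ⁻¹ᵁ V')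
          (inf_le_right : f' ⁻¹ᵁ V' ⊓ g' ⁻¹ᵁ W ≤ g' ⁻¹ᵁ W) a
        refine h1.trans ?_
        rw [h2]
        rfl }
  have bc : IsBaseChange Γ(X, W) cl :=
    QBCH8.isBaseChange_affine hc.flip G hV hW hWV hV' hVV cl (fun m => rfl)
  obtain ⟨σ, hσ, hσb⟩ := alg2_exists (X := Γ(F, W)) cl bc
  haveI : ((Scheme.Modules.pullback f').obj G).IsQuasicoherent :=
    PBH8.isQuasicoherent_pullback f' G
  have hΘ₁ := thetaP_bijective g' ((Scheme.Modules.pullback f').obj G) F hQ₁ hW hQa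
  have h1 : Θ = (thetaP g' ((Scheme.Modules.pullback f').obj G) F hQ₁).comp σ := by
    apply addHom_ext_tmul
    intro n x
    rw [hΘ]
    show _ = thetaP g' ((Scheme.Modules.pullback f').obj G) F hQ₁ (σ (n ⊗ₜ x))
    rw [hσ]
    rfl
  rw [h1]
  exact hΘ₁.comp hσb

end Square

end Groth.Agent.Lib.TwAff
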