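import Mathlib
import Groth.Prelude
import Groth.Agent.Lib.TwConstFin_helper4
import Groth.Agent.Lib.NoethConn_helper3
import Groth.Agent.Lib.AlgSpEtale_helper7

/-!
# Open and closed subschemes of quasi-isotrivial twisted constant schemes with one finite fibre are
finite, over a connected locally Noetherian base (helper4)
-/

set_option autoImplicit false
set_option linter.unusedVariables false
set_option linter.unusedTactic false
set_option linter.unreachableTactic false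
set_option linter.unusedSectionVars false
set_option linter.style.haveILetI false
set_option linter.deprecated false
set_option linter.unusedSimpArgs false
set_option linter.style.longLine false
set_option maxHeartbeats 1600000
set_option backward.isDefEq.respectTransparency.types false

universe u

open CategoryTheory CategoryTheory.Limits AlgebraicGeometry Opposite TopologicalSpace

namespace Groth.Agent.Lib.TwConstEtH4

open Groth.Agent.Lib.TwConstFinH4

/-! ### The constant case -/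

section Const

variable {U : Scheme.{u}} (I : Type u)

/-- variant of `isFinite_pullback_const` asking only that the pullback be quasi-compact. -/
theorem isFinite_pullback_const' {V Y : Scheme.{u}}
    (ζ : Y ⟶ ∐ (fun _ : I => U)) [IsClosedImmersion ζ]
    (h : Y ⟶ U) (hh : ζ ≫ Sigma.desc (fun _ : I => 𝟙 U) = h)
    (v : V ⟶ U) [CompactSpace ↥(pullback h v)] : IsFinite (pullback.snd h v) := by
  classical
  have hci : ∀ i : I, IsClosedImmersion
      ((ζ ⁻¹ᵁ (Sigma.ι (fun _ : I => U) i).opensRange).ι ≫ h) := by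
    intro i
    have e1 : (ζ ⁻¹ᵁ (Sigma.ι (fun _ : I => U) i).opensRange).ι ≫ ζ =
        (ζ ∣_ (Sigma.ι (fun _ : I => U) i).opensRange) ≫
          (Sigma.ι (fun _ : I => U) i).opensRange.ι :=
      (morphismRestrict_ι ζ _).symm
    have e2 : (Sigma.ι (fun _ : I => U) i).opensRange.ι ≫ Sigma.desc (fun _ : I => 𝟙 U) =
        (Sigma.ι (fun _ : I => U) i).isoOpensRange.inv := by
      rw [← cancel_epi (Sigma.ι (fun _ : I => U) i).isoOpensRange.hom, Iso.hom_inv_id,
        ← Category.assoc, Scheme.Hom.isoOpensRange_hom_ι, Sigma.ι_desc]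
    have e3 : (ζ ⁻¹ᵁ (Sigma.ι (fun _ : I => U) i).opensRange).ι ≫ h =
        (ζ ∣_ (Sigma.ι (fun _ : I => U) i).opensRange) ≫
          (Sigma.ι (fun _ : I => U) i).isoOpensRange.inv := by
      rw [← hh, ← Category.assoc, e1, Category.assoc, e2]
    rw [e3]
    haveI : IsClosedImmersion (ζ ∣_ (Sigma.ι (fun _ : I => U) i).opensRange) :=
      MorphismProperty.of_isPullback (P := @IsClosedImmersion)
        (isPullback_morphismRestrict ζ _).flip ‹IsClosedImmersion ζ›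
    infer_instance
  obtain ⟨π, hπ⟩ : ∃ π : pullback h v ⟶ Y, π = pullback.fst h v := ⟨_, rfl⟩
  obtain ⟨hV, hhV⟩ : ∃ hV : pullback h v ⟶ V, hV = pullback.snd h v := ⟨_, rfl⟩
  have sq : IsPullback π hV h v := by
    rw [hπ, hhV]
    exact IsPullback.of_hasPullback h v
  rw [← hhV]
  obtain ⟨Pi, hPi⟩ : ∃ Pi : I → (pullback h v).Opens,
      Pi = fun i => π ⁻¹ᵁ (ζ ⁻¹ᵁ (Sigma.ι (fun _ : I => U) i).opensRange) := ⟨_, rfl⟩
  have hmem : ∀ (i : I) (x : ↥(pullback h v)),
      x ∈ Pi i ↔ ζ (π x) ∈ Set.range (Sigma.ι (fun _ : I => U) i) := by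
    intro i x
    rw [hPi]
    exact Iff.rfl
  have hcl : ∀ i, IsClosedImmersion ((Pi i).ι ≫ hV) := by
    intro i
    rw [hPi]
    have s1 := isPullback_morphismRestrict π (ζ ⁻¹ᵁ (Sigma.ι (fun _ : I => U) i).opensRange)
    have s2 := s1.paste_vert sq
    exact MorphismProperty.of_isPullback (P := @IsClosedImmersion) s2 (hci i)
  have hcov : ∀ x : ↥(pullback h v), ∃ i, x ∈ Pi i := by
    intro x
    obtain ⟨⟨i, y⟩, hy⟩ := (sigmaMk (fun _ : I => U)).surjective (ζ (π x))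
    refine ⟨i, (hmem i x).mpr ⟨y, ?_⟩⟩
    rw [← hy, sigmaMk_mk]
  have hdis : ∀ (i j : I) (x : ↥(pullback h v)), x ∈ Pi i → x ∈ Pi j → i = j := by
    intro i j x hi hj
    by_contra hij
    have hd := disjoint_opensRange_sigmaι (fun _ : I => U) i j hij
    have hd' := TopologicalSpace.Opens.coe_disjoint.mpr hd
    exact Set.disjoint_left.mp hd' ((hmem i x).mp hi) ((hmem j x).mp hj)
  obtain ⟨t, ht⟩ := isCompact_univ.elim_finite_subcover (fun i => ((Pi i : (pullback h v).Opens) :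
    Set ↥(pullback h v))) (fun i => (Pi i).isOpen) (by
      intro x _
      obtain ⟨i, hi⟩ := hcov x
      exact Set.mem_iUnion.mpr ⟨i, hi⟩)
  have hcov' : ⨆ i : ↥t, ((Pi i.1).ι).opensRange = ⊤ := by
    rw [eq_top_iff]
    intro x _
    obtain ⟨i, hit, hxi⟩ := Set.mem_iUnion₂.mp (ht (Set.mem_univ x))
    refine TopologicalSpace.Opens.mem_iSup.mpr ⟨⟨i, hit⟩, ?_⟩
    rw [Scheme.Opens.opensRange_ι]
    exact hxi
  have hdisj' : Pairwise (Function.onFun Disjoint (fun i : ↥t => ((Pi i.1).ι).opensRange)) := by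
    intro a b hab
    show Disjoint ((Pi a.1).ι).opensRange ((Pi b.1).ι).opensRange
    rw [Scheme.Opens.opensRange_ι, Scheme.Opens.opensRange_ι]
    exact TopologicalSpace.Opens.coe_disjoint.mp (Set.disjoint_left.mpr
      (fun x hxa hxb => hab (Subtype.ext (hdis a.1 b.1 x hxa hxb))))
  obtain ⟨hc⟩ := nonempty_isColimit_cofanMk_of (fun i : ↥t => (Pi i.1).ι) hcov' hdisj'
  haveI : IsIso (Sigma.desc (fun i : ↥t => (Pi i.1).ι)) :=
    (Cofan.nonempty_isColimit_iff_isIso_sigmaDesc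
      (Cofan.mk (pullback h v) (fun i : ↥t => (Pi i.1).ι))).mp ⟨hc⟩
  have e : Sigma.desc (fun i : ↥t => (Pi i.1).ι) ≫ hV =
      Sigma.desc (fun i : ↥t => (Pi i.1).ι ≫ hV) := by
    apply Sigma.hom_ext
    intro i
    calc Sigma.ι _ i ≫ Sigma.desc (fun i : ↥t => (Pi i.1).ι) ≫ hV
        = (Sigma.ι _ i ≫ Sigma.desc (fun i : ↥t => (Pi i.1).ι)) ≫ hV :=
          (Category.assoc _ _ _).symm
      _ = (Pi i.1).ι ≫ hV := by rw [Sigma.ι_desc]
      _ = Sigma.ι _ i ≫ Sigma.desc (fun i : ↥t => (Pi i.1).ι ≫ hV) :=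
          (Sigma.ι_desc (fun i : ↥t => (Pi i.1).ι ≫ hV) i).symm
  have hfin : IsFinite (Sigma.desc (fun i : ↥t => (Pi i.1).ι ≫ hV)) :=
    SigmaFinH8.isFinite_sigmaDesc (↥t) (fun i : ↥t => ((Pi i.1).toScheme))
      (fun i : ↥t => (Pi i.1).ι ≫ hV) (fun i => by
        haveI := hcl i.1
        infer_instance)
  rw [← e] at hfin
  exact (MorphismProperty.cancel_left_of_respectsIso @IsFinite _ _).mp hfin

theorem sigma_exists (x : ↥(∐ (fun _ : I => U))) :
    ∃ (i : I) (t : U), (Sigma.ι (fun _ : I => U) i) t = x := by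
  obtain ⟨⟨i, y⟩, hy⟩ := (sigmaMk (fun _ : I => U)).surjective x
  refine ⟨i, y, ?_⟩
  rw [← hy, sigmaMk_mk]

theorem sigma_desc_ι (i : I) (t : U) :
    (Sigma.desc (fun _ : I => 𝟙 U)) ((Sigma.ι (fun _ : I => U) i) t) = t := by
  rw [← Scheme.Hom.comp_apply, Sigma.ι_desc]
  rfl

theorem sigma_ι_inj {i j : I} {t t' : U}
    (h : (Sigma.ι (fun _ : I => U) i) t = (Sigma.ι (fun _ : I => U) j) t') : i = j ∧ t = t' := by
  classical
  have ht : t = t' := by
    have h2 := congrArg (fun x => (Sigma.desc (fun _ : I => 𝟙 U)) x) h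
    simp only [sigma_desc_ι] at h2
    exact h2
  refine ⟨?_, ht⟩
  by_contra hij
  have hd := disjoint_opensRange_sigmaι (fun _ : I => U) i j hij
  have hd' := TopologicalSpace.Opens.coe_disjoint.mpr hd
  exact Set.disjoint_left.mp hd' ⟨t, rfl⟩ ⟨t', h.symm⟩

/-- an open and closed subscheme of a constant scheme, one fibre of which over a preconnected open
`C` is finite, is finite over every quasi-compact open of `C`. -/
theorem isFinite_const_connected {Y : Scheme.{u}}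
    (ζ : Y ⟶ ∐ (fun _ : I => U)) [IsClosedImmersion ζ] [IsOpenImmersion ζ]
    (h : Y ⟶ U) (hh : ζ ≫ Sigma.desc (fun _ : I => 𝟙 U) = h)
    (C : U.Opens) (hC : _root_.IsPreconnected (C : Set U)) (t₀ : U) (ht₀ : t₀ ∈ C)
    (hfin : (h ⁻¹' {t₀}).Finite) (W : U.Opens) (hWC : W ≤ C) (hW : IsCompact (W : Set U)) :
    IsFinite (pullback.snd h W.ι) := by
  classical
  have hdesc : ∀ y : Y, (Sigma.desc (fun _ : I => 𝟙 U)) (ζ y) = h y := by
    intro y
    rw [← Scheme.Hom.comp_apply, hh]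
  have hζy : ∀ y : Y, ∃ i, ζ y = (Sigma.ι (fun _ : I => U) i) (h y) := by
    intro y
    obtain ⟨i, t, hit⟩ := sigma_exists I (ζ y)
    refine ⟨i, ?_⟩
    have e : h y = t := by
      rw [← hdesc, ← hit, sigma_desc_ι]
    rw [e, hit]
  obtain ⟨T, hT⟩ : ∃ T : I → Set U,
      T = fun i => (Sigma.ι (fun _ : I => U) i) ⁻¹' Set.range ζ := ⟨_, rfl⟩
  have hTmem : ∀ (i : I) (t : U), t ∈ T i ↔ ∃ y, ζ y = (Sigma.ι (fun _ : I => U) i) t := by
    intro i t
    rw [hT]
    exact Iff.rfl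
  have hTclopen : ∀ i, IsClopen (T i) := by
    intro i
    have hr : IsClopen (Set.range ζ) :=
      ⟨ζ.isClosedEmbedding.isClosed_range, ζ.isOpenEmbedding.isOpen_range⟩
    rw [hT]
    exact hr.preimage (Sigma.ι (fun _ : I => U) i).continuous
  obtain ⟨J, hJ⟩ : ∃ J : Set I, J = {i | t₀ ∈ T i} := ⟨_, rfl⟩
  have hJfin : J.Finite := by
    choose idx hidx using hζy
    refine (hfin.image idx).subset ?_
    intro i hi
    rw [hJ] at hi
    obtain ⟨y, hy⟩ := (hTmem i t₀).mp hi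
    have hyt : h y = t₀ := by
      rw [← hdesc, hy, sigma_desc_ι]
    refine ⟨y, hyt, ?_⟩
    have e : (Sigma.ι (fun _ : I => U) (idx y)) t₀ = (Sigma.ι (fun _ : I => U) i) t₀ := by
      rw [← hy, hidx y, hyt]
    exact (sigma_ι_inj I e).1
  have hCT : ∀ i, ∀ t ∈ C, t ∈ T i → i ∈ J := by
    intro i t ht hti
    have hsub : (C : Set U) ⊆ T i := hC.subset_isClopen (hTclopen i) ⟨t, ht, hti⟩
    rw [hJ]
    exact hsub ht₀
  have hpre : h ⁻¹' (W : Set U) =
      ⋃ i ∈ J, ζ ⁻¹' ((Sigma.ι (fun _ : I => U) i) '' (W : Set U)) := by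
    ext y
    simp only [Set.mem_preimage, Set.mem_iUnion, Set.mem_image, exists_prop]
    constructor
    · intro hyW
      obtain ⟨i, hi⟩ := hζy y
      exact ⟨i, hCT i (h y) (hWC hyW) ((hTmem i (h y)).mpr ⟨y, hi⟩), h y, hyW, hi.symm⟩
    · rintro ⟨i, -, w, hw, hwy⟩
      have e : h y = w := by
        rw [← hdesc, ← hwy, sigma_desc_ι]
      rw [e]
      exact hw
  have hcomp : IsCompact (h ⁻¹' (W : Set U)) := by
    rw [hpre]
    exact hJfin.isCompact_biUnion (fun i _ => ζ.isClosedEmbedding.isCompact_preimage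
      (hW.image (Sigma.ι (fun _ : I => U) i).continuous))
  haveI : CompactSpace ↥(pullback h W.ι) := by
    have hr : Set.range (pullback.fst h W.ι) = h ⁻¹' (W : Set U) := by
      rw [Scheme.Pullback.range_fst, Scheme.Opens.range_ι]
    have hemb := (pullback.fst h W.ι).isOpenEmbedding
    rw [← isCompact_univ_iff, hemb.isInducing.isCompact_iff, Set.image_univ, hr]
    exact hcomp
  exact isFinite_pullback_const' I ζ h hh W.ι

end Const

/-! ### Finiteness of fibres of base changes of quasi-finite morphisms -/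

theorem finite_fst_snd {Z S S' : Scheme.{u}} (g : Z ⟶ S) (f : S' ⟶ S) [LocallyQuasiFinite f]
    [QuasiSeparatedSpace S] (z : Z) (t : S') :
    {y : ↥(pullback g f) | pullback.fst g f y = z ∧ pullback.snd g f y = t}.Finite := by
  obtain ⟨_, ⟨(N : S'.Opens), hN, rfl⟩, htN, -⟩ :=
    S'.isBasis_affineOpens.exists_subset_of_mem_open (Set.mem_univ t) isOpen_univ
  haveI : IsAffine (N : Scheme.{u}) := hN
  haveI : CompactSpace ↥(N : Scheme.{u}) := inferInstance
  haveI : QuasiCompact (N.ι ≫ f) := quasiCompact_of_compactSpace _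
  haveI : LocallyQuasiFinite (N.ι ≫ f) := inferInstance
  have hF : ((pullback.fst g (N.ι ≫ f)) ⁻¹' {z}).Finite :=
    Scheme.Hom.finite_preimage_singleton _ z
  obtain ⟨φ, hφ⟩ : ∃ φ : pullback g (N.ι ≫ f) ⟶ pullback g f,
      φ = pullback.lift (pullback.fst g (N.ι ≫ f)) (pullback.snd g (N.ι ≫ f) ≫ N.ι)
        (by rw [pullback.condition, Category.assoc]) := ⟨_, rfl⟩
  have hφ1 : φ ≫ pullback.fst g f = pullback.fst g (N.ι ≫ f) := by rw [hφ, pullback.lift_fst]
  have hφ2 : φ ≫ pullback.snd g f = pullback.snd g (N.ι ≫ f) ≫ N.ι := by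
    rw [hφ, pullback.lift_snd]
  have sq : IsPullback φ (pullback.snd g (N.ι ≫ f)) (pullback.snd g f) N.ι := by
    refine IsPullback.of_right ?_ hφ2 (IsPullback.of_hasPullback g f)
    rw [hφ1]
    exact IsPullback.of_hasPullback g (N.ι ≫ f)
  refine (hF.image (fun x => φ x)).subset ?_
  rintro y ⟨hy1, hy2⟩
  have hyN : pullback.snd g f y ∈ Set.range N.ι := by
    rw [hy2, Scheme.Opens.range_ι]
    exact htN
  obtain ⟨n, hn⟩ := hyN
  obtain ⟨w, hw1, hw2⟩ := Scheme.Pullback.exists_preimage_pullback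
    (f := pullback.snd g f) (g := N.ι) y n hn.symm
  have e1 : φ (sq.isoPullback.inv w) = y := by
    rw [← Scheme.Hom.comp_apply, sq.isoPullback_inv_fst, hw1]
  refine ⟨sq.isoPullback.inv w, ?_, e1⟩
  show pullback.fst g (N.ι ≫ f) (sq.isoPullback.inv w) = z
  rw [← hφ1, Scheme.Hom.comp_apply, e1, hy1]

theorem finite_fibre_of_isFinite {S S' Z : Scheme.{u}} (g : Z ⟶ S) (f' : S' ⟶ S) (t : S')
    (s : S) (hs : f' t = s) [IsFinite (pullback.snd g f')] : (g ⁻¹' {s}).Finite := by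
  have h1 : ((pullback.snd g f') ⁻¹' {t}).Finite := Scheme.Hom.finite_preimage_singleton _ t
  refine (h1.image (fun y => pullback.fst g f' y)).subset ?_
  intro x hx
  have hx' : g x = f' t := by
    rw [hs]
    exact hx
  obtain ⟨y, hy1, hy2⟩ := Scheme.Pullback.exists_preimage_pullback (f := g) (g := f') x t hx'
  exact ⟨y, hy2, hy1⟩

/-! ### Topological preliminaries -/

theorem exists_preconnected_open {X : Scheme.{u}} [IsLocallyNoetherian X] (x : X) :
    ∃ C : X.Opens, x ∈ C ∧ _root_.IsPreconnected (C : Set X) := by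
  obtain ⟨_, ⟨(N : X.Opens), hN, rfl⟩, hxN, -⟩ :=
    X.isBasis_affineOpens.exists_subset_of_mem_open (Set.mem_univ x) isOpen_univ
  haveI : IsNoetherianRing Γ(X, N) := IsLocallyNoetherian.component_noetherian ⟨N, hN⟩
  haveI : NoetherianSpace N := noetherianSpace_of_isAffineOpen N hN
  obtain ⟨c, hc⟩ : ∃ c : Set N, c = connectedComponent (⟨x, hxN⟩ : N) := ⟨_, rfl⟩
  have hco : IsOpen c := by
    rw [hc]
    exact Groth.Agent.Lib.NoethConn_helper3.isOpen_connectedComponent_of_noetherianSpace _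
  have hcc : _root_.IsPreconnected c := by
    rw [hc]
    exact isPreconnected_connectedComponent
  have hxc : (⟨x, hxN⟩ : N) ∈ c := by
    rw [hc]
    exact mem_connectedComponent
  refine ⟨⟨Subtype.val '' c, N.isOpen.isOpenMap_subtype_val c hco⟩, ⟨⟨x, hxN⟩, hxc, rfl⟩, ?_⟩
  exact hcc.image _ continuous_subtype_val.continuousOn

theorem exists_compact_open_image {S' S : Scheme.{u}} (f : S' ⟶ S) (hf : IsOpenMap f)
    (O : S'.Opens) (V₁ : S.Opens) (hV₁ : IsCompact (V₁ : Set S))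
    (hsub : (V₁ : Set S) ⊆ f '' (O : Set S')) :
    ∃ W : S'.Opens, W ≤ O ∧ IsCompact (W : Set S') ∧ f '' (W : Set S') = (V₁ : Set S) := by
  classical
  have hpt : ∀ v : V₁, ∃ Wv : S'.Opens, IsAffineOpen Wv ∧ Wv ≤ O ∧
      (Wv : Set S') ⊆ f ⁻¹' (V₁ : Set S) ∧ (v : S) ∈ f '' (Wv : Set S') := by
    intro v
    obtain ⟨t, htO, htv⟩ := hsub v.2
    have hopen : IsOpen ((O : Set S') ∩ f ⁻¹' (V₁ : Set S)) :=
      O.isOpen.inter (V₁.isOpen.preimage f.continuous)
    have htm : t ∈ (O : Set S') ∩ f ⁻¹' (V₁ : Set S) := by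
      refine ⟨htO, ?_⟩
      show f t ∈ (V₁ : Set S)
      rw [htv]
      exact v.2
    obtain ⟨_, ⟨(Wv : S'.Opens), hWv, rfl⟩, htW, hWsub⟩ :=
      S'.isBasis_affineOpens.exists_subset_of_mem_open htm hopen
    exact ⟨Wv, hWv, fun x hx => (hWsub hx).1, fun x hx => (hWsub hx).2, ⟨t, htW, htv⟩⟩
  choose Wv hWaff hWO hWV hWv using hpt
  obtain ⟨F, hF⟩ := hV₁.elim_finite_subcover (fun v : V₁ => f '' (Wv v : Set S'))
    (fun v => hf _ (Wv v).isOpen) (fun s hs => Set.mem_iUnion.mpr ⟨⟨s, hs⟩, hWv ⟨s, hs⟩⟩)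
  have hcoe : ((⨆ v ∈ F, Wv v : S'.Opens) : Set S') = ⋃ v ∈ F, (Wv v : Set S') := by
    simp
  refine ⟨⨆ v ∈ F, Wv v, iSup₂_le (fun v _ => hWO v), ?_, ?_⟩
  · rw [hcoe]
    exact F.finite_toSet.isCompact_biUnion (fun v _ => (hWaff v).isCompact)
  · rw [hcoe, Set.image_iUnion₂]
    apply Set.Subset.antisymm
    · exact Set.iUnion₂_subset (fun v _ => Set.image_subset_iff.mpr (hWV v))
    · exact hF

/-! ### The twisted case -/

section Tw

variable {S : Scheme.{u}} (P : Over S) {Z : Scheme.{u}} (z : Z ⟶ P.left)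

theorem isFinite_of_connected [IsOpenImmersion z] [IsClosedImmersion z] {S' : Scheme.{u}}
    (f : S' ⟶ S) [Etale f] [QuasiSeparatedSpace S] (I : Type u)
    (e : Red.bc f P ≅ TwC.const S' I) (C : S'.Opens) (hC : _root_.IsPreconnected (C : Set S'))
    (t₀ : S') (ht₀ : t₀ ∈ C) (hfin : ((z ≫ P.hom) ⁻¹' {f t₀}).Finite) (W : S'.Opens)
    (hWC : W ≤ C) (hW : IsCompact (W : Set S')) :
    IsFinite (pullback.snd (z ≫ P.hom) (W.ι ≫ f)) := by
  obtain ⟨zj, hz1, hz2⟩ : ∃ zj : pullback (z ≫ P.hom) f ⟶ pullback P.hom f,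
      zj ≫ pullback.fst P.hom f = pullback.fst (z ≫ P.hom) f ≫ z ∧
      zj ≫ pullback.snd P.hom f = pullback.snd (z ≫ P.hom) f :=
    ⟨pullback.lift (pullback.fst (z ≫ P.hom) f ≫ z) (pullback.snd (z ≫ P.hom) f)
      (by rw [Category.assoc, pullback.condition]), pullback.lift_fst _ _ _,
      pullback.lift_snd _ _ _⟩
  have sq : IsPullback (pullback.fst (z ≫ P.hom) f) zj z (pullback.fst P.hom f) := by
    refine IsPullback.of_bot ?_ hz1.symm (IsPullback.of_hasPullback P.hom f)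
    rw [hz2]
    exact IsPullback.of_hasPullback (z ≫ P.hom) f
  haveI : IsClosedImmersion zj :=
    MorphismProperty.of_isPullback (P := @IsClosedImmersion) sq ‹IsClosedImmersion z›
  haveI : IsOpenImmersion zj :=
    MorphismProperty.of_isPullback (P := @IsOpenImmersion) sq ‹IsOpenImmersion z›
  haveI : IsIso e.hom.left := (inferInstance : IsIso ((Over.forget S').mapIso e).hom)
  obtain ⟨ζ, hζ⟩ : ∃ ζ : pullback (z ≫ P.hom) f ⟶ ∐ (fun _ : I => S'), ζ = zj ≫ e.hom.left :=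
    ⟨_, rfl⟩
  haveI : IsClosedImmersion ζ := by
    rw [hζ]
    infer_instance
  haveI : IsOpenImmersion ζ := by
    rw [hζ]
    infer_instance
  have hw : e.hom.left ≫ Sigma.desc (fun _ : I => 𝟙 S') = pullback.snd P.hom f := Over.w e.hom
  have hh : ζ ≫ Sigma.desc (fun _ : I => 𝟙 S') = pullback.snd (z ≫ P.hom) f := by
    rw [hζ, Category.assoc, hw, hz2]
  haveI : LocallyQuasiFinite f :=
    Groth.Agent.Lib.AlgSpEtale_helper7.locallyQuasiFinite_of_unramified f
  have hfin' : ((pullback.snd (z ≫ P.hom) f) ⁻¹' {t₀}).Finite := by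
    have hsub : (pullback.snd (z ≫ P.hom) f) ⁻¹' {t₀} ⊆
        ⋃ x ∈ ((z ≫ P.hom) ⁻¹' {f t₀}),
          {y | pullback.fst (z ≫ P.hom) f y = x ∧ pullback.snd (z ≫ P.hom) f y = t₀} := by
      intro y hy
      have hy' : pullback.snd (z ≫ P.hom) f y = t₀ := hy
      refine Set.mem_iUnion₂.mpr ⟨pullback.fst (z ≫ P.hom) f y, ?_, rfl, hy'⟩
      show (z ≫ P.hom) (pullback.fst (z ≫ P.hom) f y) = f t₀
      rw [← Scheme.Hom.comp_apply, pullback.condition, Scheme.Hom.comp_apply, hy']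
    exact (hfin.biUnion (fun x _ => finite_fst_snd (z ≫ P.hom) f x t₀)).subset hsub
  have h1 := isFinite_const_connected I ζ (pullback.snd (z ≫ P.hom) f) hh C hC t₀ ht₀ hfin' W
    hWC hW
  have s := (IsPullback.of_hasPullback (pullback.snd (z ≫ P.hom) f) W.ι).paste_horiz
    (IsPullback.of_hasPullback (z ≫ P.hom) f)
  exact (prop_iff_of_isPullback s).mp h1

theorem main5267 [IsLocallyNoetherian S] [ConnectedSpace S]
    (hP : TwC.IsTwConst TwC.Topology.etale P) [IsOpenImmersion z] [IsClosedImmersion z]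
    (hs : ∃ s : S, Set.Finite ((z ≫ P.hom).base ⁻¹' {s})) :
    IsFinite (z ≫ P.hom) := by
  have hP' : ∀ s : S, ∃ (S' : Scheme.{u}) (f : S' ⟶ S), Etale f ∧ s ∈ Set.range f.base ∧
      ∃ I : Type u, Nonempty (Red.bc f P ≅ TwC.const S' I) := hP
  obtain ⟨g, hg⟩ : ∃ g : Z ⟶ S, g = z ≫ P.hom := ⟨_, rfl⟩
  have hloc : ∀ s : S, ∃ (S' : Scheme.{u}) (f : S' ⟶ S) (_ : Etale f) (I : Type u)
      (e : Red.bc f P ≅ TwC.const S' I) (C : S'.Opens) (t : S'),
      _root_.IsPreconnected (C : Set S') ∧ t ∈ C ∧ f t = s := by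
    intro s
    obtain ⟨S', f, hf, ⟨t, ht⟩, I, ⟨e⟩⟩ := hP' s
    haveI := hf
    haveI : IsLocallyNoetherian S' := LocallyOfFiniteType.isLocallyNoetherian f
    obtain ⟨C, htC, hC⟩ := exists_preconnected_open t
    exact ⟨S', f, hf, I, e, C, t, hC, htC, ht⟩
  choose S' f hf I e C t hC htC hts using hloc
  obtain ⟨A, hA⟩ : ∃ A : Set S, A = {s | (g ⁻¹' {s}).Finite} := ⟨_, rfl⟩
  have hAmem : ∀ s, s ∈ A ↔ (g ⁻¹' {s}).Finite := by
    intro s
    rw [hA]
    exact Iff.rfl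
  have key : ∀ s : S, (∃ t₀ ∈ C s, f s t₀ ∈ A) → ∀ W : (S' s).Opens, W ≤ C s →
      IsCompact (W : Set (S' s)) → IsFinite (pullback.snd g (W.ι ≫ f s)) := by
    rintro s ⟨t₀, ht₀, hAt⟩ W hWC hW
    haveI := hf s
    have hfin : ((z ≫ P.hom) ⁻¹' {f s t₀}).Finite := by
      rw [← hg]
      exact (hAmem _).mp hAt
    rw [hg]
    exact isFinite_of_connected P z (f s) (I s) (e s) (C s) (hC s) t₀ ht₀ hfin W hWC hW
  have key2 : ∀ s : S, (∃ t₀ ∈ C s, f s t₀ ∈ A) → ∀ t' ∈ C s, f s t' ∈ A := by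
    intro s h t' ht'
    obtain ⟨_, ⟨(W : (S' s).Opens), hWaff, rfl⟩, ht'W, hWsub⟩ :=
      (S' s).isBasis_affineOpens.exists_subset_of_mem_open ht' (C s).isOpen
    haveI := key s h W hWsub hWaff.isCompact
    exact (hAmem _).mpr (finite_fibre_of_isFinite g (W.ι ≫ f s) ⟨t', ht'W⟩ (f s t') rfl)
  have hopenV : ∀ s, IsOpen ((f s) '' (C s : Set (S' s))) := by
    intro s
    haveI := hf s
    exact (f s).isOpenMap _ (C s).isOpen
  have hsV : ∀ s, s ∈ (f s) '' (C s : Set (S' s)) := fun s => ⟨t s, htC s, hts s⟩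
  have hAopen : IsOpen A := by
    rw [isOpen_iff_forall_mem_open]
    intro s hsA
    refine ⟨(f s) '' (C s : Set (S' s)), ?_, hopenV s, hsV s⟩
    rintro _ ⟨t', ht', rfl⟩
    exact key2 s ⟨t s, htC s, by rw [hts s]; exact hsA⟩ t' ht'
  have hAcopen : IsOpen Aᶜ := by
    rw [isOpen_iff_forall_mem_open]
    intro s hsA
    refine ⟨(f s) '' (C s : Set (S' s)), ?_, hopenV s, hsV s⟩
    rintro _ ⟨t', ht', rfl⟩ hA'
    apply hsA
    have h3 := key2 s ⟨t', ht', hA'⟩ (t s) (htC s)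
    rw [hts s] at h3
    exact h3
  have hAuniv : A = Set.univ := by
    have hclopen : IsClopen A := ⟨isOpen_compl_iff.mp hAcopen, hAopen⟩
    obtain ⟨s₀, hs₀⟩ := hs
    have hs₀A : s₀ ∈ A := by
      rw [hAmem, hg]
      exact hs₀
    rcases isClopen_iff.mp hclopen with h | h
    · exfalso
      rw [h] at hs₀A
      exact hs₀A
    · exact h
  haveI := Groth.Agent.Lib.SchDescent_helper6.descendsAlong_isFinite.{u}
  have hd : ∀ s : S, ∃ V₁ : S.Opens, s ∈ V₁ ∧ IsFinite (pullback.snd g V₁.ι) := by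
    intro s
    haveI := hf s
    haveI : Flat (f s) := inferInstance
    obtain ⟨_, ⟨(V₁ : S.Opens), hV₁, rfl⟩, hsV₁, hV₁sub⟩ :=
      S.isBasis_affineOpens.exists_subset_of_mem_open (hsV s) (hopenV s)
    obtain ⟨W, hWC, hWc, hWV⟩ := exists_compact_open_image (f s) (f s).isOpenMap (C s) V₁
      hV₁.isCompact hV₁sub
    have hb : IsFinite (pullback.snd g (W.ι ≫ f s)) :=
      key s ⟨t s, htC s, by rw [hAuniv]; trivial⟩ W hWC hWc
    refine ⟨V₁, hsV₁, ?_⟩
    have hrange : Set.range (W.ι ≫ f s) ⊆ Set.range V₁.ι := by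
      rintro _ ⟨⟨x, hx⟩, rfl⟩
      have hx' : (f s).base x ∈ (V₁ : Set S) := by
        rw [← hWV]
        exact ⟨x, hx, rfl⟩
      exact ⟨⟨(f s).base x, hx'⟩, rfl⟩
    obtain ⟨fW, hfW⟩ : ∃ fW : (W : Scheme.{u}) ⟶ (V₁ : Scheme.{u}), fW ≫ V₁.ι = W.ι ≫ f s :=
      ⟨IsOpenImmersion.lift V₁.ι (W.ι ≫ f s) hrange, IsOpenImmersion.lift_fac _ _ _⟩
    haveI : IsAffine (V₁ : Scheme.{u}) := hV₁
    haveI : CompactSpace ↥(W : Scheme.{u}) := isCompact_iff_compactSpace.mp hWc
    haveI : QuasiCompact fW := (quasiCompact_iff_compactSpace fW).mpr inferInstance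
    haveI : Flat fW := by
      have sqW : IsPullback (𝟙 (W : Scheme.{u})) fW (W.ι ≫ f s) V₁.ι :=
        IsPullback.of_horiz_isIso_mono ⟨by rw [Category.id_comp, hfW]⟩
      exact MorphismProperty.of_isPullback (P := @Flat) sqW inferInstance
    haveI : Surjective fW := ⟨fun y => by
      obtain ⟨y, hy⟩ := y
      have hy' : y ∈ (f s).base '' (W : Set (S' s)) := by
        rw [hWV]
        exact hy
      obtain ⟨x, hx, hxy⟩ := hy'
      refine ⟨⟨x, hx⟩, ?_⟩
      have e1 : (fW ≫ V₁.ι) ⟨x, hx⟩ = (W.ι ≫ f s) ⟨x, hx⟩ := by rw [hfW]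
      exact Subtype.ext (e1.trans hxy)⟩
    have sqA := IsPullback.of_hasPullback fW (pullback.snd g V₁.ι)
    refine MorphismProperty.of_isPullback_of_descendsAlong (P := @IsFinite)
      (Q := (@Surjective ⊓ @Flat ⊓ @QuasiCompact : MorphismProperty Scheme.{u})) sqA
      ⟨⟨‹Surjective fW›, ‹Flat fW›⟩, ‹QuasiCompact fW›⟩ ?_
    have s3 := sqA.flip.paste_horiz (IsPullback.of_hasPullback g V₁.ι)
    rw [hfW] at s3
    exact (prop_iff_of_isPullback s3).mpr hb
  choose V₁ hsV₁ hfinV₁ using hd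
  rw [← hg]
  have hcov : iSup V₁ = ⊤ :=
    eq_top_iff.mpr (fun x _ => TopologicalSpace.Opens.mem_iSup.mpr ⟨x, hsV₁ x⟩)
  refine IsZariskiLocalAtTarget.of_iSup_eq_top (P := @IsFinite) V₁ hcov (fun s => ?_)
  exact (prop_iff_of_isPullback (isPullback_morphismRestrict g (V₁ s)).flip).mpr (hfinV₁ s)

end Tw

end Groth.Agent.Lib.TwConstEtH4
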