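import Mathlib
import Groth.Prelude.Def_TwC

set_option autoImplicit false
set_option linter.all false
set_option maxHeartbeats 1600000

universe u

open CategoryTheory CategoryTheory.Limits AlgebraicGeometry MorphismProperty

namespace Groth.Agent.Lib.TwConstH3

/-- Descent of a property that is Zariski-local on the target and satisfies fppf descent along a
jointly surjective family of flat, locally finitely presented morphisms. -/
theorem descend_family (P : MorphismProperty Scheme.{u}) [IsZariskiLocalAtTarget P]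
    [P.DescendsAlong (@Surjective ⊓ @Flat ⊓ @LocallyOfFinitePresentation)]
    {X S : Scheme.{u}} (p : X ⟶ S) {ι : Type u} (S' : ι → Scheme.{u}) (f : ∀ i, S' i ⟶ S)
    (hflat : ∀ i, Flat (f i)) (hfp : ∀ i, LocallyOfFinitePresentation (f i))
    (hsurj : ∀ s : S, ∃ i, s ∈ Set.range (f i).base)
    (h : ∀ i, P (pullback.snd p (f i))) : P p := by
  let F : (∐ S') ⟶ S := Sigma.desc f
  have hF1 : Flat F := IsZariskiLocalAtSource.sigmaDesc (P := @Flat) hflat
  have hF2 : LocallyOfFinitePresentation F :=
    IsZariskiLocalAtSource.sigmaDesc (P := @LocallyOfFinitePresentation) hfp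
  have hF3 : Surjective F := by
    apply Surjective.sigmaDesc_of_union_range_eq_univ
    ext s
    simp only [Set.mem_iUnion, Set.mem_univ, iff_true]
    exact hsurj s
  have hq : P (pullback.snd p F) := by
    refine IsZariskiLocalAtTarget.of_openCover (P := P) (sigmaOpenCover S') (fun i => ?_)
    have e1 : Sigma.ι S' i ≫ F = f i := Sigma.ι_desc f i
    have e2 : (pullback.congrHom rfl e1).hom ≫ pullback.snd p (f i) =
        pullback.snd p (Sigma.ι S' i ≫ F) := by
      rw [pullback.congrHom_hom]
      exact (pullback.lift_snd _ _ _).trans (Category.comp_id _)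
    have key : pullback.snd (pullback.snd p F) (Sigma.ι S' i) =
        (pullbackLeftPullbackSndIso p F (Sigma.ι S' i)).hom ≫
          (pullback.congrHom rfl e1).hom ≫ pullback.snd p (f i) := by
      rw [e2, pullbackLeftPullbackSndIso_hom_snd]
    have h2 : P ((pullbackLeftPullbackSndIso p F (Sigma.ι S' i)).hom ≫
          (pullback.congrHom rfl e1).hom ≫ pullback.snd p (f i)) :=
      (P.cancel_left_of_respectsIso _ _).mpr ((P.cancel_left_of_respectsIso _ _).mpr (h i))
    exact (show P (pullback.snd (pullback.snd p F) (Sigma.ι S' i)) from key ▸ h2)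
  exact MorphismProperty.of_pullback_snd_of_descendsAlong
    (Q := @Surjective ⊓ @Flat ⊓ @LocallyOfFinitePresentation) ⟨⟨hF3, hF1⟩, hF2⟩ hq


section Const

variable (T : Scheme.{u}) (I : Type u)

/-- The structure map of the constant scheme. -/
noncomputable abbrev cst : (∐ fun _ : I => T) ⟶ T := Sigma.desc fun _ : I => 𝟙 T

lemma ι_cst (i : I) : Sigma.ι (fun _ : I => T) i ≫ cst T I = 𝟙 T :=
  Sigma.ι_desc (fun _ : I => 𝟙 T) i

lemma exists_ι_eq (y : (∐ fun _ : I => T : Scheme.{u})) :
    ∃ (i : I) (a : T), (Sigma.ι (fun _ : I => T) i).base a = y := by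
  obtain ⟨⟨i, a⟩, h⟩ := (sigmaMk (fun _ : I => T)).surjective y
  exact ⟨i, a, by rw [← h, sigmaMk_mk]⟩

lemma etale_cst : Etale (cst T I) :=
  IsZariskiLocalAtSource.sigmaDesc (P := @Etale) (fun _ => inferInstance)

lemma isSeparated_cst : IsSeparated (cst T I) := by
  constructor
  apply IsClosedImmersion.of_isPreimmersion
  rw [← isOpen_compl_iff]
  have hcompl : (Set.range (pullback.diagonal (cst T I)).base)ᶜ =
      ⋃ (i : I) (j : I) (_ : i ≠ j),
        (pullback.fst (cst T I) (cst T I)).base ⁻¹' (Set.range (Sigma.ι (fun _ : I => T) i).base) ∩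
        (pullback.snd (cst T I) (cst T I)).base ⁻¹' (Set.range (Sigma.ι (fun _ : I => T) j).base) := by
    ext z
    simp only [Set.mem_compl_iff, Set.mem_iUnion, Set.mem_inter_iff, Set.mem_preimage]
    constructor
    · intro hz
      obtain ⟨i, a, ha⟩ := exists_ι_eq T I ((pullback.fst (cst T I) (cst T I)).base z)
      obtain ⟨j, b, hb⟩ := exists_ι_eq T I ((pullback.snd (cst T I) (cst T I)).base z)
      by_cases hij : i = j
      · exfalso
        subst hij
        apply hz
        have hz' : z ∈ (pullback.fst (cst T I) (cst T I)).base ⁻¹'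
              (Set.range (Sigma.ι (fun _ : I => T) i).base) ∩
            (pullback.snd (cst T I) (cst T I)).base ⁻¹'
              (Set.range (Sigma.ι (fun _ : I => T) i).base) := ⟨⟨a, ha⟩, ⟨b, hb⟩⟩
        rw [← Scheme.Pullback.range_map (f := 𝟙 T) (g := 𝟙 T) (cst T I) (cst T I)
          (Sigma.ι (fun _ : I => T) i) (Sigma.ι (fun _ : I => T) i) (𝟙 T)
          (by rw [ι_cst, Category.comp_id]) (by rw [ι_cst, Category.comp_id])] at hz'
        obtain ⟨w, rfl⟩ := hz'
        have hmap : pullback.map (𝟙 T) (𝟙 T) (cst T I) (cst T I)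
            (Sigma.ι (fun _ : I => T) i) (Sigma.ι (fun _ : I => T) i) (𝟙 T)
            (by rw [ι_cst, Category.comp_id]) (by rw [ι_cst, Category.comp_id]) =
            pullback.fst (𝟙 T) (𝟙 T) ≫ Sigma.ι (fun _ : I => T) i ≫
              pullback.diagonal (cst T I) := by
          apply pullback.hom_ext
          · refine (pullback.lift_fst _ _ _).trans ?_
            simp only [Category.assoc, pullback.diagonal_fst, Category.comp_id]
          · have : pullback.fst (𝟙 T) (𝟙 T) = pullback.snd (𝟙 T) (𝟙 T) := by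
              simpa using pullback.condition (f := 𝟙 T) (g := 𝟙 T)
            refine (pullback.lift_snd _ _ _).trans ?_
            simp only [Category.assoc, pullback.diagonal_snd, Category.comp_id, this]
        rw [hmap]
        exact ⟨(Sigma.ι (fun _ : I => T) i).base ((pullback.fst (𝟙 T) (𝟙 T)).base w), rfl⟩
      · exact ⟨i, j, hij, ⟨a, ha⟩, ⟨b, hb⟩⟩
    · rintro ⟨i, j, hij, ⟨a, ha⟩, ⟨b, hb⟩⟩ ⟨y, rfl⟩
      have h1 : (pullback.fst (cst T I) (cst T I)).base ((pullback.diagonal (cst T I)).base y) = y := by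
        rw [← Scheme.Hom.comp_apply, pullback.diagonal_fst]; rfl
      have h2 : (pullback.snd (cst T I) (cst T I)).base ((pullback.diagonal (cst T I)).base y) = y := by
        rw [← Scheme.Hom.comp_apply, pullback.diagonal_snd]; rfl
      rw [h1] at ha
      rw [h2] at hb
      have hd := disjoint_opensRange_sigmaι (fun _ : I => T) i j hij
      have hy : y ∈ ((Sigma.ι (fun _ : I => T) i).opensRange ⊓
          (Sigma.ι (fun _ : I => T) j).opensRange :
          (∐ fun _ : I => T : Scheme.{u}).Opens) := ⟨⟨a, ha⟩, ⟨b, hb⟩⟩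
      rw [disjoint_iff.mp hd] at hy
      exact hy
  rw [hcompl]
  refine isOpen_iUnion fun i => isOpen_iUnion fun j => isOpen_iUnion fun _ => ?_
  exact ((Sigma.ι (fun _ : I => T) i).opensRange.isOpen.preimage
      (pullback.fst (cst T I) (cst T I)).continuous).inter
    ((Sigma.ι (fun _ : I => T) j).opensRange.isOpen.preimage
      (pullback.snd (cst T I) (cst T I)).continuous)

end Const

section Sections

/-- Every point of the source lies on a section. -/
def HasSections {Y T : Scheme.{u}} (q : Y ⟶ T) : Prop :=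
  ∀ y : Y, ∃ σ : T ⟶ Y, σ ≫ q = 𝟙 T ∧ y ∈ Set.range σ.base

lemma hasSections_cst (T : Scheme.{u}) (I : Type u) : HasSections (cst T I) := fun y => by
  obtain ⟨i, a, ha⟩ := exists_ι_eq T I y
  exact ⟨Sigma.ι (fun _ : I => T) i, ι_cst T I i, a, ha⟩

lemma HasSections.of_isPullback {Y T Y' T' : Scheme.{u}} {q : Y ⟶ T} {q' : Y' ⟶ T'}
    {a : Y' ⟶ Y} {b : T' ⟶ T} (h : IsPullback a q' q b) (hq : HasSections q) :
    HasSections q' := by
  intro y'
  obtain ⟨σ, hσ, t, ht⟩ := hq (a.base y')
  let σ' : T' ⟶ Y' := h.lift (b ≫ σ) (𝟙 T')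
    (by rw [Category.assoc, hσ, Category.comp_id, Category.id_comp])
  have h1 : σ' ≫ a = b ≫ σ := h.lift_fst _ _ _
  have h2 : σ' ≫ q' = 𝟙 T' := h.lift_snd _ _ _
  have hbig : IsPullback (σ' ≫ q') b b (σ ≫ q) := by
    rw [h2, hσ]
    exact IsPullback.of_horiz_isIso ⟨by simp⟩
  have hpb : IsPullback σ' b a σ := IsPullback.of_right hbig h1 h.flip
  obtain ⟨o, ho, -⟩ := Scheme.exists_preimage_of_isPullback hpb y' t ht.symm
  exact ⟨σ', h2, o, ho⟩

lemma HasSections.specializingMap {Y T : Scheme.{u}} {q : Y ⟶ T} (hq : HasSections q) :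
    SpecializingMap q.base := by
  intro y t ht
  obtain ⟨σ, hσ, t0, rfl⟩ := hq y
  have h0 : q.base (σ.base t0) = t0 := by
    rw [← Scheme.Hom.comp_apply, hσ]; rfl
  rw [h0] at ht
  refine ⟨σ.base t, Specializes.map ht σ.continuous, ?_⟩
  rw [← Scheme.Hom.comp_apply, hσ]; rfl

/-- A morphism which, flat-locally on the base, has a section through every point, is
universally specializing. -/
theorem specializing_of_local {X S : Scheme.{u}} (p : X ⟶ S)
    (hloc : ∀ s : S, ∃ (S' : Scheme.{u}) (f : S' ⟶ S), Flat f ∧ s ∈ Set.range f.base ∧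
      HasSections (pullback.snd p f))
    {X' T : Scheme.{u}} {f' : X' ⟶ T} {i₁ : X' ⟶ X} {i₂ : T ⟶ S} (h : IsPullback f' i₁ i₂ p) :
    SpecializingMap f'.base := by
  intro y t₁ ht
  obtain ⟨S', f, hfl, ⟨s'₁, hs'₁⟩, hsec⟩ := hloc (i₂.base t₁)
  obtain ⟨t'₁, hat, hbt⟩ := Scheme.Pullback.exists_preimage_pullback (f := i₂) (g := f) t₁ s'₁ hs'₁.symm
  have hgen : GeneralizingMap (pullback.fst i₂ f).base := Flat.generalizingMap _
  obtain ⟨t', ht', hat'⟩ := hgen (a := t'₁) (b := f'.base y) (by rw [hat]; exact ht)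
  obtain ⟨y', hy1, hy2⟩ := Scheme.Pullback.exists_preimage_pullback (f := f') (g := pullback.fst i₂ f)
    y t' hat'.symm
  have hpaste : IsPullback (pullback.fst f' (pullback.fst i₂ f) ≫ i₁)
      (pullback.snd f' (pullback.fst i₂ f)) p (pullback.fst i₂ f ≫ i₂) :=
    (IsPullback.of_hasPullback f' (pullback.fst i₂ f)).paste_horiz h.flip
  let l : pullback f' (pullback.fst i₂ f) ⟶ pullback p f :=
    pullback.lift (pullback.fst f' (pullback.fst i₂ f) ≫ i₁)
      (pullback.snd f' (pullback.fst i₂ f) ≫ pullback.snd i₂ f)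
      (hpaste.w.trans (by rw [pullback.condition, Category.assoc]))
  have hl1 : l ≫ pullback.fst p f = pullback.fst f' (pullback.fst i₂ f) ≫ i₁ :=
    pullback.lift_fst _ _ _
  have hl2 : l ≫ pullback.snd p f =
      pullback.snd f' (pullback.fst i₂ f) ≫ pullback.snd i₂ f := pullback.lift_snd _ _ _
  have hbig : IsPullback (l ≫ pullback.fst p f) (pullback.snd f' (pullback.fst i₂ f)) p
      (pullback.snd i₂ f ≫ f) := by
    rw [hl1, ← pullback.condition]
    exact hpaste
  have hpb : IsPullback l (pullback.snd f' (pullback.fst i₂ f)) (pullback.snd p f)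
      (pullback.snd i₂ f) := IsPullback.of_right hbig hl2 (IsPullback.of_hasPullback p f)
  have hsp : SpecializingMap (pullback.snd f' (pullback.fst i₂ f)).base :=
    (hsec.of_isPullback hpb).specializingMap
  obtain ⟨y'₁, hy'₁, hy'₂⟩ := hsp (a := y') (b := t'₁) (by rw [hy2]; exact ht')
  refine ⟨(pullback.fst f' (pullback.fst i₂ f)).base y'₁, ?_, ?_⟩
  · have := Specializes.map hy'₁ (pullback.fst f' (pullback.fst i₂ f)).continuous
    rwa [hy1] at this
  · rw [← Scheme.Hom.comp_apply, pullback.condition, Scheme.Hom.comp_apply, hy'₂, hat]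

end Sections

section Main

lemma local_data {S : Scheme.{u}} (X : Over S) (hX : TwC.IsTwConst TwC.Topology.etale X) (s : S) :
    ∃ (S' : Scheme.{u}) (f : S' ⟶ S) (I : Type u) (φ : pullback X.hom f ≅ ∐ fun _ : I => S'),
      Etale f ∧ s ∈ Set.range f.base ∧ φ.hom ≫ cst S' I = pullback.snd X.hom f := by
  obtain ⟨S', f, hf, hs, I, ⟨e⟩⟩ := hX s
  exact ⟨S', f, I, (Over.forget S').mapIso e, hf, hs, Over.w e.hom⟩

theorem main {S : Scheme.{u}} (X : Over S) (hX : TwC.IsTwConst TwC.Topology.etale X) :
    IsSeparated X.hom ∧ Etale X.hom ∧ ValuativeCriterion X.hom := by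
  choose S' f I φ hf hs hφ using local_data X hX
  have hEt : ∀ s, Etale (pullback.snd X.hom (f s)) := fun s => by
    rw [← hφ s]
    have := etale_cst (S' s) (I s)
    infer_instance
  have hSep : ∀ s, IsSeparated (pullback.snd X.hom (f s)) := fun s => by
    rw [← hφ s]
    have := isSeparated_cst (S' s) (I s)
    infer_instance
  have hSec : ∀ s, HasSections (pullback.snd X.hom (f s)) := fun s =>
    (hasSections_cst (S' s) (I s)).of_isPullback
      (IsPullback.of_horiz_isIso ⟨by rw [hφ s, Category.comp_id]⟩)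
  have h1 : Etale X.hom :=
    descend_family @Etale X.hom S' f (fun s => inferInstance) (fun s => inferInstance)
      (fun s => ⟨s, hs s⟩) hEt
  have h2 : (MorphismProperty.diagonal @UniversallyClosed) X.hom :=
    descend_family (MorphismProperty.diagonal @UniversallyClosed) X.hom S' f
      (fun s => inferInstance) (fun s => inferInstance)
      (fun s => ⟨s, hs s⟩) (fun s => by
        have := hSep s
        exact (inferInstance : UniversallyClosed (pullback.diagonal (pullback.snd X.hom (f s)))))
  have h2' : UniversallyClosed (pullback.diagonal X.hom) := h2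
  have h3 : IsSeparated X.hom :=
    ⟨IsClosedImmersion.of_isPreimmersion _ (pullback.diagonal X.hom).isClosedMap.isClosed_range⟩
  refine ⟨h3, h1, ValuativeCriterion.iff.mpr ⟨?_, IsSeparated.valuativeCriterion _⟩⟩
  rw [ValuativeCriterion.Existence.eq]
  intro X' T i₁ i₂ f' h
  exact specializing_of_local X.hom (fun s => ⟨S' s, f s, inferInstance, hs s, hSec s⟩) h

end Main

end Groth.Agent.Lib.TwConstH3
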