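import Mathlib
import Groth.Prelude.Def_TwC
import Groth.Agent.Lib.TwConst_helper3
import Groth.Agent.Lib.GUComponents_helper3
import Groth.Agent.S9782
import Groth.Agent.Lib.IrredCompEtale_helper3

set_option autoImplicit false
set_option linter.all false
set_option maxHeartbeats 1600000

universe u

open CategoryTheory CategoryTheory.Limits AlgebraicGeometry MorphismProperty
open Groth.Agent.Lib.TwConstH3

namespace Groth.Agent.Lib.TwConstFiniteH3

section Universality

variable {T T' : Scheme.{u}} (g : T' ⟶ T) (I : Type u)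

/-- the `i`-th section of the base change of the constant scheme -/
noncomputable def bcSec (i : I) : T' ⟶ pullback (cst T I) g :=
  pullback.lift (g ≫ Sigma.ι (fun _ : I => T) i) (𝟙 T')
    (by rw [Category.assoc, ι_cst, Category.comp_id, Category.id_comp])

lemma bcSec_fst (i : I) : bcSec g I i ≫ pullback.fst (cst T I) g = g ≫ Sigma.ι (fun _ : I => T) i :=
  pullback.lift_fst _ _ _

lemma bcSec_snd (i : I) : bcSec g I i ≫ pullback.snd (cst T I) g = 𝟙 T' :=
  pullback.lift_snd _ _ _

lemma isPullback_bcSec (i : I) :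
    IsPullback (bcSec g I i) g (pullback.fst (cst T I) g) (Sigma.ι (fun _ : I => T) i) := by
  have hbig : IsPullback (bcSec g I i ≫ pullback.snd (cst T I) g) g g
      (Sigma.ι (fun _ : I => T) i ≫ cst T I) := by
    rw [bcSec_snd, ι_cst]
    exact IsPullback.of_horiz_isIso ⟨by simp⟩
  exact IsPullback.of_right hbig (bcSec_fst g I i) (IsPullback.of_hasPullback (cst T I) g).flip

instance (i : I) : IsOpenImmersion (bcSec g I i) :=
  MorphismProperty.of_isPullback (P := @IsOpenImmersion) (isPullback_bcSec g I i).flip inferInstance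

/-- the comparison map from the constant scheme over `T'` to the base change -/
noncomputable def bcMap : (∐ fun _ : I => T') ⟶ pullback (cst T I) g :=
  Sigma.desc (bcSec g I)

lemma ι_bcMap (i : I) : Sigma.ι (fun _ : I => T') i ≫ bcMap g I = bcSec g I i :=
  Sigma.ι_desc _ _

lemma bcMap_snd : bcMap g I ≫ pullback.snd (cst T I) g = cst T' I := by
  apply Sigma.hom_ext
  intro i
  rw [← Category.assoc, ι_bcMap, bcSec_snd, ι_cst]

instance : IsOpenImmersion (bcMap g I) := by
  apply isOpenImmersion_sigmaDesc
  intro i j hij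
  rw [Function.onFun, Set.disjoint_iff_forall_ne]
  rintro _ ⟨a, rfl⟩ _ ⟨b, rfl⟩ h
  have h' := congrArg (pullback.fst (cst T I) g).base h
  rw [← Scheme.Hom.comp_apply, ← Scheme.Hom.comp_apply, bcSec_fst, bcSec_fst,
    Scheme.Hom.comp_apply, Scheme.Hom.comp_apply] at h'
  have hd := disjoint_opensRange_sigmaι (fun _ : I => T) i j hij
  have hy : (Sigma.ι (fun _ : I => T) i).base (g.base a) ∈
      ((Sigma.ι (fun _ : I => T) i).opensRange ⊓ (Sigma.ι (fun _ : I => T) j).opensRange :
        (∐ fun _ : I => T : Scheme.{u}).Opens) := ⟨⟨_, rfl⟩, ⟨g.base b, h'.symm⟩⟩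
  rw [disjoint_iff.mp hd] at hy
  exact hy

instance : Surjective (bcMap g I) := by
  constructor
  intro z
  obtain ⟨i, t, ht⟩ := exists_ι_eq T I ((pullback.fst (cst T I) g).base z)
  obtain ⟨o, ho, -⟩ := Scheme.exists_preimage_of_isPullback (isPullback_bcSec g I i) z t ht.symm
  refine ⟨(Sigma.ι (fun _ : I => T') i).base o, ?_⟩
  rw [← Scheme.Hom.comp_apply, ι_bcMap]
  exact ho

instance : IsIso (bcMap g I) :=
  (isIso_iff_isOpenImmersion_and_surjective _).mpr ⟨inferInstance, inferInstance⟩

/-- the base change of a constant scheme is constant -/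
theorem exists_bc_iso : ∃ ψ : pullback (cst T I) g ≅ ∐ fun _ : I => T',
    ψ.hom ≫ cst T' I = pullback.snd (cst T I) g :=
  ⟨(asIso (bcMap g I)).symm, by
    rw [Iso.symm_hom, asIso_inv, IsIso.inv_comp_eq, bcMap_snd]⟩

end Universality

section Restrict

/-- restriction of a trivialization along a morphism -/
theorem exists_restrict {P S S' S'' : Scheme.{u}} (p : P ⟶ S) (f : S' ⟶ S) (j : S'' ⟶ S')
    (I : Type u) (φ : pullback p f ≅ ∐ fun _ : I => S')
    (hφ : φ.hom ≫ cst S' I = pullback.snd p f) :
    ∃ φ'' : pullback p (j ≫ f) ≅ ∐ fun _ : I => S'',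
      φ''.hom ≫ cst S'' I = pullback.snd p (j ≫ f) := by
  obtain ⟨ψ, hψ⟩ := exists_bc_iso j I
  have h1 : IsPullback (pullback.fst (cst S' I) j) (pullback.snd (cst S' I) j) (cst S' I) j :=
    IsPullback.of_hasPullback _ _
  have h2 : IsPullback φ.inv (cst S' I) (pullback.snd p f) (𝟙 S') :=
    IsPullback.of_horiz_isIso ⟨by rw [Category.comp_id, ← hφ, Iso.inv_hom_id_assoc]⟩
  have h3 := h1.paste_horiz h2
  have h4 : IsPullback (pullback.fst p f) (pullback.snd p f) p f := IsPullback.of_hasPullback _ _
  have h5 := h3.paste_horiz h4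
  rw [Category.comp_id] at h5
  refine ⟨h5.isoPullback.symm ≪≫ ψ, ?_⟩
  rw [Iso.trans_hom, Iso.symm_hom, Category.assoc, hψ, Iso.inv_comp_eq, h5.isoPullback_hom_snd]

end Restrict

section Local

variable {S : Scheme.{u}} [IsLocallyNoetherian S]

/-- points of a scheme étale over a geometrically unibranch scheme lie on a unique component -/
theorem component_unique_of_etale (hS : ∀ s : S, CAlg2.IsGeomUnibranch (S.presheaf.stalk s))
    {U : Scheme.{u}} (g : U ⟶ S) [Etale g] (u : U) :
    ∀ Z₁ ∈ irreducibleComponents U, ∀ Z₂ ∈ irreducibleComponents U,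
      u ∈ Z₁ → u ∈ Z₂ → Z₁ = Z₂ := by
  intro Z₁ h₁ Z₂ h₂ hu₁ hu₂
  have h := (Groth.Agent.S9782.result S (g.base u)).mp (hS (g.base u)) U g u inferInstance rfl
  exact Set.encard_le_one_iff.mp h.le Z₁ Z₂ ⟨h₁, hu₁⟩ ⟨h₂, hu₂⟩

/-- irreducible components of a scheme étale over a locally Noetherian geometrically unibranch
scheme are open -/
theorem isOpen_component_of_etale (hS : ∀ s : S, CAlg2.IsGeomUnibranch (S.presheaf.stalk s))
    {U : Scheme.{u}} (g : U ⟶ S) [Etale g] (Z : Set U) (hZ : Z ∈ irreducibleComponents U) :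
    IsOpen Z := by
  haveI : IsLocallyNoetherian U := LocallyOfFiniteType.isLocallyNoetherian g
  exact Groth.Agent.Lib.GUComponentsH3.isOpen_of_mem_irreducibleComponents
    Groth.Agent.Lib.GUComponentsH3.exists_noetherianSpace_nhd
    (fun u => component_unique_of_etale hS g u) Z hZ

/-- refined local trivializations: the chart is irreducible and Noetherian -/
theorem good_local_data (hS : ∀ s : S, CAlg2.IsGeomUnibranch (S.presheaf.stalk s))
    (X : Over S) (hX : TwC.IsTwConst TwC.Topology.etale X) (s : S) :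
    ∃ (S' : Scheme.{u}) (f : S' ⟶ S) (I : Type u) (φ : pullback X.hom f ≅ ∐ fun _ : I => S'),
      Etale f ∧ s ∈ Set.range f.base ∧ φ.hom ≫ cst S' I = pullback.snd X.hom f ∧
      IrreducibleSpace S' ∧ TopologicalSpace.NoetherianSpace S' := by
  obtain ⟨S', f, I, φ, hf, ⟨s', hs'⟩, hφ⟩ := local_data X hX s
  haveI : IsLocallyNoetherian S' := LocallyOfFiniteType.isLocallyNoetherian f
  have hZopen : IsOpen (irreducibleComponent s') :=
    isOpen_component_of_etale hS f _ (irreducibleComponent_mem_irreducibleComponents s')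
  obtain ⟨W, hW, hs'W, hWZ⟩ := exists_isAffineOpen_mem_and_subset (x := s')
    (U := ⟨irreducibleComponent s', hZopen⟩) mem_irreducibleComponent
  obtain ⟨φ'', hφ''⟩ := exists_restrict X.hom f W.ι I φ hφ
  have hirr : IsIrreducible (W : Set S') :=
    ⟨⟨s', hs'W⟩, isIrreducible_irreducibleComponent.isPreirreducible.open_subset W.isOpen hWZ⟩
  haveI : IsNoetherianRing Γ(S', W) := IsLocallyNoetherian.component_noetherian ⟨W, hW⟩
  refine ⟨W, W.ι ≫ f, I, φ'', inferInstance, ⟨⟨s', hs'W⟩, ?_⟩, hφ'',
    Subtype.irreducibleSpace hirr, noetherianSpace_of_isAffineOpen W hW⟩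
  rw [Scheme.Hom.comp_apply]
  exact hs'

end Local

section Compact

/-- for a locally quasi-finite morphism, specialization within a fibre is trivial -/
theorem eq_of_specializes_of_map_eq {P S : Scheme.{u}} (p : P ⟶ S) [LocallyQuasiFinite p]
    {x' x : P} (h : x' ⤳ x) (hp : p.base x' = p.base x) : x' = x := by
  have hd := p.isDiscrete_preimage_singleton (p.base x)
  rw [isDiscrete_iff_forall_mem_exists_isOpen] at hd
  obtain ⟨u, hu, hux⟩ := hd x rfl
  have hxu : x ∈ u := by
    have : x ∈ u ∩ p.base ⁻¹' {p.base x} := by rw [hux]; rfl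
    exact this.1
  have hx'u : x' ∈ u := h.mem_open hu hxu
  have : x' ∈ u ∩ p.base ⁻¹' {p.base x} := ⟨hx'u, hp⟩
  rw [hux] at this
  exact this

variable {P S S' : Scheme.{u}} (p : P ⟶ S) [LocallyQuasiFinite p]
  (f : S' ⟶ S) [Flat f] [LocallyQuasiFinite f] [IrreducibleSpace S']
  [TopologicalSpace.NoetherianSpace S'] (I : Type u)
  (φ : pullback p f ≅ ∐ fun _ : I => S') (hφ : φ.hom ≫ cst S' I = pullback.snd p f)

/-- the sections of the trivialized base change -/
noncomputable def sec (i : I) : S' ⟶ pullback p f := Sigma.ι (fun _ : I => S') i ≫ φ.inv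

include hφ in
lemma sec_snd (i : I) : sec p f I φ i ≫ pullback.snd p f = 𝟙 S' := by
  rw [sec, Category.assoc, ← hφ, Iso.inv_hom_id_assoc, ι_cst]

include hφ in
lemma sec_snd_apply (i : I) (t : S') :
    (pullback.snd p f).base ((sec p f I φ i).base t) = t := by
  rw [← Scheme.Hom.comp_apply, sec_snd p f I φ hφ]; rfl

include hφ in
lemma map_fst_sec (i : I) (t : S') :
    p.base ((pullback.fst p f).base ((sec p f I φ i).base t)) = f.base t := by
  rw [← Scheme.Hom.comp_apply, pullback.condition, Scheme.Hom.comp_apply,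
    sec_snd_apply p f I φ hφ]

lemma sec_injective (t : S') : Function.Injective fun i : I => (sec p f I φ i).base t := by
  intro i j h
  have h' := congrArg φ.hom.base h
  simp only [sec, ← Scheme.Hom.comp_apply, Category.assoc, Iso.inv_hom_id, Category.comp_id] at h'
  exact congrArg Sigma.fst ((sigmaι_eq_iff (fun _ : I => S') i j t t).mp h')

include hφ in
lemma exists_sec_eq (z : ↥(pullback p f)) :
    ∃ i : I, z = (sec p f I φ i).base ((pullback.snd p f).base z) := by
  obtain ⟨i, t, ht⟩ := exists_ι_eq S' I (φ.hom.base z)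
  have hz : z = (sec p f I φ i).base t := by
    have := congrArg φ.inv.base ht
    rw [← Scheme.Hom.comp_apply, ← Scheme.Hom.comp_apply, Iso.hom_inv_id] at this
    exact this.symm
  refine ⟨i, ?_⟩
  rw [hz, sec_snd_apply p f I φ hφ]

include hφ in
theorem isCompact_inter_preimage (C : Set P) (hCo : IsOpen C) (hCc : IsClosed C)
    (hCi : IsIrreducible C) (V : Set S) (hV : V ⊆ Set.range f.base) (hVo : IsOpen V) :
    IsCompact (C ∩ p.base ⁻¹' V) := by
  set η' : S' := genericPoint S' with hη'
  let J : Set I := {i | (pullback.fst p f).base ((sec p f I φ i).base η') ∈ C}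
  obtain ⟨ξ, hξ⟩ : ∃ ξ, IsGenericPoint ξ C := QuasiSober.sober hCi hCc
  -- points of `J` lie over `ξ`
  have hJξ : ∀ i ∈ J, (pullback.fst p f).base ((sec p f I φ i).base η') = ξ := by
    intro i hi
    have h1 : ξ ⤳ (pullback.fst p f).base ((sec p f I φ i).base η') := hξ.specializes hi
    have h2 : p.base ξ ⤳ f.base η' := by
      have := h1.map p.continuous
      rwa [map_fst_sec p f I φ hφ] at this
    obtain ⟨t, ht, hft⟩ := (Flat.generalizingMap f) h2
    have hteq : t = η' := (ht.antisymm (genericPoint_specializes t)).eq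
    rw [hteq] at hft
    exact (eq_of_specializes_of_map_eq p h1
      (by rw [map_fst_sec p f I φ hφ, hft])).symm
  -- `J` is finite
  have hJfin : J.Finite := by
    refine Set.Finite.of_finite_image (f := fun i : I => (sec p f I φ i).base η')
      (((pullback.fst p f).finite_preimage_singleton ξ).subset ?_)
      ((sec_injective p f I φ η').injOn)
    rintro _ ⟨i, hi, rfl⟩
    exact hJξ i hi
  -- dichotomy
  have hdich : ∀ (i : I) (t : S'),
      (pullback.fst p f).base ((sec p f I φ i).base t) ∈ C ↔ i ∈ J := by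
    intro i t
    have hcl : IsClopen ((sec p f I φ i ≫ pullback.fst p f).base ⁻¹' C) :=
      ⟨hCc.preimage (sec p f I φ i ≫ pullback.fst p f).continuous,
        hCo.preimage (sec p f I φ i ≫ pullback.fst p f).continuous⟩
    rcases isClopen_iff.mp hcl with h | h
    · constructor
      · intro ht
        have : t ∈ (sec p f I φ i ≫ pullback.fst p f).base ⁻¹' C := ht
        rw [h] at this
        exact this.elim
      · intro hi
        have : η' ∈ (sec p f I φ i ≫ pullback.fst p f).base ⁻¹' C := hi
        rw [h] at this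
        exact this.elim
    · constructor
      · intro _
        have : η' ∈ (sec p f I φ i ≫ pullback.fst p f).base ⁻¹' C := by rw [h]; trivial
        exact this
      · intro _
        have : t ∈ (sec p f I φ i ≫ pullback.fst p f).base ⁻¹' C := by rw [h]; trivial
        exact this
  -- the set equality
  have heq : C ∩ p.base ⁻¹' V = (pullback.fst p f).base ''
      (⋃ i ∈ J, (sec p f I φ i).base '' (f.base ⁻¹' V)) := by
    ext c
    constructor
    · rintro ⟨hcC, hcV⟩
      obtain ⟨t, ht⟩ := hV hcV
      obtain ⟨z, hz1, hz2⟩ := Scheme.Pullback.exists_preimage_pullback (f := p) (g := f) c t ht.symm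
      obtain ⟨i, hi⟩ := exists_sec_eq p f I φ hφ z
      rw [hz2] at hi
      have hiJ : i ∈ J := (hdich i t).mp (by rw [← hi, hz1]; exact hcC)
      refine ⟨z, ?_, hz1⟩
      simp only [Set.mem_iUnion]
      exact ⟨i, hiJ, t, (by show f.base t ∈ V; rw [ht]; exact hcV), hi.symm⟩
    · rintro ⟨z, hz, rfl⟩
      simp only [Set.mem_iUnion] at hz
      obtain ⟨i, hiJ, t, htV, rfl⟩ := hz
      refine ⟨(hdich i t).mpr hiJ, ?_⟩
      show p.base _ ∈ V
      rw [map_fst_sec p f I φ hφ]
      exact htV
  rw [heq]
  refine IsCompact.image ?_ (pullback.fst p f).continuous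
  refine hJfin.isCompact_biUnion fun i _ => ?_
  exact (TopologicalSpace.NoetherianSpace.isCompact _).image (sec p f I φ i).continuous

end Compact

section Main

variable {S : Scheme.{u}} [IsLocallyNoetherian S]

instance : (topologically @SpecializingMap).IsStableUnderComposition :=
  topologically_isStableUnderComposition (P := @SpecializingMap) (fun _ _ hf hg => hf.comp hg)

theorem existence_comp {X Y Z : Scheme.{u}} (f : X ⟶ Y) (g : Y ⟶ Z)
    (hf : ValuativeCriterion.Existence f) (hg : ValuativeCriterion.Existence g) :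
    ValuativeCriterion.Existence (f ≫ g) := by
  rw [ValuativeCriterion.Existence.eq] at hf hg ⊢
  exact MorphismProperty.comp_mem _ f g hf hg

theorem main (hS : ∀ s : S, CAlg2.IsGeomUnibranch (S.presheaf.stalk s))
    (P : Over S) (hP : TwC.IsTwConst TwC.Topology.etale P) (x : P.left) :
    ∃ U : P.left.Opens, (U : Set P.left) = connectedComponent x ∧ IsFinite (U.ι ≫ P.hom) := by
  obtain ⟨hsep, het, hval⟩ := Groth.Agent.Lib.TwConstH3.main P hP
  haveI : LocallyQuasiFinite P.hom :=
    Groth.Agent.Lib.IrredCompEtaleH3.locallyQuasiFinite_of_unramified P.hom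
  have hCmem := irreducibleComponent_mem_irreducibleComponents x
  have hCo : IsOpen (irreducibleComponent x) := isOpen_component_of_etale hS P.hom _ hCmem
  have hCc : IsClosed (irreducibleComponent x) := isClosed_irreducibleComponent
  have hCi : IsIrreducible (irreducibleComponent x) := isIrreducible_irreducibleComponent
  have hconn : connectedComponent x = irreducibleComponent x :=
    Set.Subset.antisymm
      (IsClopen.connectedComponent_subset ⟨hCc, hCo⟩ mem_irreducibleComponent)
      (hCi.isConnected.isPreconnected.subset_connectedComponent mem_irreducibleComponent)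
  let U : P.left.Opens := ⟨irreducibleComponent x, hCo⟩
  refine ⟨U, hconn.symm, ?_⟩
  -- local charts
  choose S' f I φ hf hs hφ hirr hnoeth using good_local_data hS P hP
  -- quasi-compactness
  have hcompact : ∀ K : Set S, IsOpen K → IsCompact K →
      IsCompact (irreducibleComponent x ∩ P.hom.base ⁻¹' K) := by
    intro K hKo hKc
    have hcov : K ⊆ ⋃ s : S, Set.range (f s).base := fun k _ =>
      Set.mem_iUnion.mpr ⟨k, hs k⟩
    obtain ⟨t, ht⟩ := hKc.elim_finite_subcover (fun s : S => Set.range (f s).base)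
      (fun s => (f s).isOpenMap.isOpen_range) hcov
    have heq : irreducibleComponent x ∩ P.hom.base ⁻¹' K =
        ⋃ s ∈ t, irreducibleComponent x ∩ P.hom.base ⁻¹' (K ∩ Set.range (f s).base) := by
      ext c
      simp only [Set.mem_inter_iff, Set.mem_preimage, Set.mem_iUnion, exists_prop]
      constructor
      · rintro ⟨hc, hcK⟩
        obtain ⟨s, hst, hcs⟩ := Set.mem_iUnion₂.mp (ht hcK)
        exact ⟨s, hst, hc, hcK, hcs⟩
      · rintro ⟨s, _, hc, hcK, _⟩
        exact ⟨hc, hcK⟩
    rw [heq]
    refine t.finite_toSet.isCompact_biUnion fun s _ => ?_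
    haveI := hf s
    haveI := hirr s
    haveI := hnoeth s
    haveI : LocallyQuasiFinite (f s) :=
      Groth.Agent.Lib.IrredCompEtaleH3.locallyQuasiFinite_of_unramified (f s)
    exact isCompact_inter_preimage P.hom (f s) (I s) (φ s) (hφ s) _ hCo hCc hCi _
      Set.inter_subset_right (hKo.inter (f s).isOpenMap.isOpen_range)
  haveI hqc : QuasiCompact (U.ι ≫ P.hom) := by
    constructor
    intro K hKo hKc
    have h1 := hcompact K hKo hKc
    have h2 : (U.ι ≫ P.hom).base ⁻¹' K =
        U.ι.base ⁻¹' (irreducibleComponent x ∩ P.hom.base ⁻¹' K) := by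
      ext u
      simp only [Set.mem_preimage, Set.mem_inter_iff, Scheme.Hom.comp_apply]
      constructor
      · intro h
        exact ⟨u.2, h⟩
      · intro h
        exact h.2
    rw [h2]
    refine U.ι.isEmbedding.isCompact_preimage' h1 ?_
    rw [Scheme.Opens.range_ι]
    exact Set.inter_subset_left
  haveI : IsClosedImmersion U.ι :=
    IsClosedImmersion.of_isPreimmersion _ (by rw [Scheme.Opens.range_ι]; exact hCc)
  have hE1 : ValuativeCriterion.Existence U.ι := by
    have h : (ValuativeCriterion.Existence ⊓ @QuasiCompact) U.ι := by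
      rw [← UniversallyClosed.eq_valuativeCriterion]
      exact (inferInstance : UniversallyClosed U.ι)
    exact h.1
  have hE : ValuativeCriterion.Existence (U.ι ≫ P.hom) := existence_comp _ _ hE1 hval.existence
  haveI : UniversallyClosed (U.ι ≫ P.hom) := UniversallyClosed.of_valuativeCriterion _ hE
  haveI : IsSeparated P.hom := hsep
  haveI : Etale P.hom := het
  haveI : IsProper (U.ι ≫ P.hom) := {}
  exact IsFinite.of_isProper_of_locallyQuasiFinite _

end Main

end Groth.Agent.Lib.TwConstFiniteH3
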