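import Mathlib
import Groth.Prelude.Def_TwC
import Groth.Agent.Lib.TwConstFinite_helper3
import Groth.Agent.S2787

set_option autoImplicit false
set_option linter.all false
set_option maxHeartbeats 1600000

universe u

open CategoryTheory CategoryTheory.Limits AlgebraicGeometry MorphismProperty
open Groth.Agent.Lib.TwConstH3 Groth.Agent.Lib.TwConstFiniteH3

namespace Groth.Agent.Lib.TwConstUnibranchH3

section Compact

variable {P S S' : Scheme.{u}} (p : P ⟶ S) (f : S' ⟶ S) (I : Type u)
  (φ : pullback p f ≅ ∐ fun _ : I => S') (hφ : φ.hom ≫ cst S' I = pullback.snd p f)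

include hφ in
lemma sec_snd' (i : I) : sec p f I φ i ≫ pullback.snd p f = 𝟙 S' := by
  rw [sec, Category.assoc, ← hφ, Iso.inv_hom_id_assoc, ι_cst]

include hφ in
lemma sec_snd_apply' (i : I) (t : S') :
    (pullback.snd p f).base ((sec p f I φ i).base t) = t := by
  rw [← Scheme.Hom.comp_apply, sec_snd' p f I φ hφ]; rfl

include hφ in
lemma map_fst_sec' (i : I) (t : S') :
    p.base ((pullback.fst p f).base ((sec p f I φ i).base t)) = f.base t := by
  rw [← Scheme.Hom.comp_apply, pullback.condition, Scheme.Hom.comp_apply,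
    sec_snd_apply' p f I φ hφ]

lemma sec_injective' (t : S') : Function.Injective fun i : I => (sec p f I φ i).base t := by
  intro i j h
  have h' := congrArg φ.hom.base h
  simp only [sec, ← Scheme.Hom.comp_apply, Category.assoc, Iso.inv_hom_id, Category.comp_id] at h'
  exact congrArg Sigma.fst ((sigmaι_eq_iff (fun _ : I => S') i j t t).mp h')

include hφ in
lemma exists_sec_eq' (z : ↥(pullback p f)) :
    ∃ i : I, z = (sec p f I φ i).base ((pullback.snd p f).base z) := by
  obtain ⟨i, t, ht⟩ := exists_ι_eq S' I (φ.hom.base z)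
  have hz : z = (sec p f I φ i).base t := by
    have := congrArg φ.inv.base ht
    rw [← Scheme.Hom.comp_apply, ← Scheme.Hom.comp_apply, Iso.hom_inv_id] at this
    exact this.symm
  refine ⟨i, ?_⟩
  rw [hz, sec_snd_apply' p f I φ hφ]

include hφ in
theorem isCompact_inter_preimage' [LocallyQuasiFinite p] [Flat f] [LocallyQuasiFinite f]
    [QuasiCompact f] [IrreducibleSpace S']
    (C : Set P) (hCo : IsOpen C) (hCc : IsClosed C)
    (hCp : IsPreirreducible C) (V : Set S) (hV : V ⊆ Set.range f.base) (hVo : IsOpen V)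
    (hVc : IsCompact V) :
    IsCompact (C ∩ p.base ⁻¹' V) := by
  rcases C.eq_empty_or_nonempty with rfl | hne
  · simp
  have hCi : IsIrreducible C := ⟨hne, hCp⟩
  set η' : S' := genericPoint S' with hη'
  let J : Set I := {i | (pullback.fst p f).base ((sec p f I φ i).base η') ∈ C}
  obtain ⟨ξ, hξ⟩ : ∃ ξ, IsGenericPoint ξ C := QuasiSober.sober hCi hCc
  have hJξ : ∀ i ∈ J, (pullback.fst p f).base ((sec p f I φ i).base η') = ξ := by
    intro i hi
    have h1 : ξ ⤳ (pullback.fst p f).base ((sec p f I φ i).base η') := hξ.specializes hi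
    have h2 : p.base ξ ⤳ f.base η' := by
      have := h1.map p.continuous
      rwa [map_fst_sec' p f I φ hφ] at this
    obtain ⟨t, ht, hft⟩ := (Flat.generalizingMap f) h2
    have hteq : t = η' := (ht.antisymm (genericPoint_specializes t)).eq
    rw [hteq] at hft
    exact (eq_of_specializes_of_map_eq p h1
      (by rw [map_fst_sec' p f I φ hφ, hft])).symm
  have hJfin : J.Finite := by
    refine Set.Finite.of_finite_image (f := fun i : I => (sec p f I φ i).base η')
      (((pullback.fst p f).finite_preimage_singleton ξ).subset ?_)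
      ((sec_injective' p f I φ η').injOn)
    rintro _ ⟨i, hi, rfl⟩
    exact hJξ i hi
  have hdich : ∀ (i : I) (t : S'),
      (pullback.fst p f).base ((sec p f I φ i).base t) ∈ C ↔ i ∈ J := by
    intro i t
    have hcl : IsClopen ((sec p f I φ i ≫ pullback.fst p f).base ⁻¹' C) :=
      ⟨hCc.preimage (sec p f I φ i ≫ pullback.fst p f).continuous,
        hCo.preimage (sec p f I φ i ≫ pullback.fst p f).continuous⟩
    rcases isClopen_iff.mp hcl with h | h
    · constructor
      · intro ht
        have : t ∈ (sec p f I φ i ≫ pullback.fst p f).base ⁻¹' C := ht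
        rw [h] at this
        exact this.elim
      · intro hi
        have : η' ∈ (sec p f I φ i ≫ pullback.fst p f).base ⁻¹' C := hi
        rw [h] at this
        exact this.elim
    · constructor
      · intro _
        have : η' ∈ (sec p f I φ i ≫ pullback.fst p f).base ⁻¹' C := by rw [h]; trivial
        exact this
      · intro _
        have : t ∈ (sec p f I φ i ≫ pullback.fst p f).base ⁻¹' C := by rw [h]; trivial
        exact this
  have heq : C ∩ p.base ⁻¹' V = (pullback.fst p f).base ''
      (⋃ i ∈ J, (sec p f I φ i).base '' (f.base ⁻¹' V)) := by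
    ext c
    constructor
    · rintro ⟨hcC, hcV⟩
      obtain ⟨t, ht⟩ := hV hcV
      obtain ⟨z, hz1, hz2⟩ := Scheme.Pullback.exists_preimage_pullback (f := p) (g := f) c t ht.symm
      obtain ⟨i, hi⟩ := exists_sec_eq' p f I φ hφ z
      rw [hz2] at hi
      have hiJ : i ∈ J := (hdich i t).mp (by rw [← hi, hz1]; exact hcC)
      refine ⟨z, ?_, hz1⟩
      simp only [Set.mem_iUnion]
      exact ⟨i, hiJ, t, (by show f.base t ∈ V; rw [ht]; exact hcV), hi.symm⟩
    · rintro ⟨z, hz, rfl⟩
      simp only [Set.mem_iUnion] at hz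
      obtain ⟨i, hiJ, t, htV, rfl⟩ := hz
      refine ⟨(hdich i t).mpr hiJ, ?_⟩
      show p.base _ ∈ V
      rw [map_fst_sec' p f I φ hφ]
      exact htV
  rw [heq]
  refine IsCompact.image ?_ (pullback.fst p f).continuous
  refine hJfin.isCompact_biUnion fun i _ => ?_
  exact (QuasiCompact.isCompact_preimage (f := f) V hVo hVc).image (sec p f I φ i).continuous

end Compact

section FiniteComponent

/-- a clopen preirreducible piece of a locally trivial scheme is finite over the base, provided the
trivializing charts are irreducible and quasi-compact over the base -/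
theorem isFinite_of_charts {P B : Scheme.{u}} (p : P ⟶ B) [Etale p] [IsSeparated p]
    (hE : ValuativeCriterion.Existence p)
    (hLT : ∀ b : B, ∃ (S' : Scheme.{u}) (f : S' ⟶ B) (I : Type u)
      (φ : pullback p f ≅ ∐ fun _ : I => S'),
      Etale f ∧ b ∈ Set.range f.base ∧ φ.hom ≫ cst S' I = pullback.snd p f ∧
        IrreducibleSpace S' ∧ QuasiCompact f)
    (U : P.Opens) (hUc : IsClosed (U : Set P)) (hUi : IsPreirreducible (U : Set P)) :
    IsFinite (U.ι ≫ p) := by
  haveI : LocallyQuasiFinite p :=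
    Groth.Agent.Lib.IrredCompEtaleH3.locallyQuasiFinite_of_unramified p
  choose S' f I φ hf hs hφ hirr hqcf using hLT
  have hcompact : ∀ K : Set B, IsOpen K → IsCompact K →
      IsCompact ((U : Set P) ∩ p.base ⁻¹' K) := by
    intro K hKo hKc
    -- cover `K` by affine opens inside the images of the charts
    have hex : ∀ k : K, ∃ V : B.Opens, IsAffineOpen V ∧ (k : B) ∈ V ∧
        (V : Set B) ⊆ K ∩ Set.range (f k).base := by
      intro k
      have hopen : IsOpen (K ∩ Set.range (f k).base) :=
        hKo.inter (f k).isOpenMap.isOpen_range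
      obtain ⟨V, hV, hkV, hVsub⟩ := exists_isAffineOpen_mem_and_subset (x := (k : B))
        (U := ⟨_, hopen⟩) ⟨k.2, hs k⟩
      exact ⟨V, hV, hkV, hVsub⟩
    choose V hVaff hkV hVsub using hex
    have hcov : K ⊆ ⋃ k : K, (V k : Set B) := fun k hk =>
      Set.mem_iUnion.mpr ⟨⟨k, hk⟩, hkV ⟨k, hk⟩⟩
    obtain ⟨t, ht⟩ := hKc.elim_finite_subcover (fun k : K => (V k : Set B))
      (fun k => (V k).isOpen) hcov
    have heq : (U : Set P) ∩ p.base ⁻¹' K =
        ⋃ k ∈ t, (U : Set P) ∩ p.base ⁻¹' (V k : Set B) := by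
      ext c
      simp only [Set.mem_inter_iff, Set.mem_preimage, Set.mem_iUnion, exists_prop]
      constructor
      · rintro ⟨hc, hcK⟩
        obtain ⟨k, hkt, hck⟩ := Set.mem_iUnion₂.mp (ht hcK)
        exact ⟨k, hkt, hc, hck⟩
      · rintro ⟨k, _, hc, hck⟩
        exact ⟨hc, (hVsub k hck).1⟩
    rw [heq]
    refine t.finite_toSet.isCompact_biUnion fun k _ => ?_
    haveI := hf k
    haveI := hirr k
    haveI := hqcf k
    haveI : LocallyQuasiFinite (f k) :=
      Groth.Agent.Lib.IrredCompEtaleH3.locallyQuasiFinite_of_unramified (f k)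
    exact isCompact_inter_preimage' p (f k) (I k) (φ k) (hφ k) _ U.isOpen hUc hUi _
      (fun v hv => (hVsub k hv).2) (V k).isOpen (hVaff k).isCompact
  haveI hqc : QuasiCompact (U.ι ≫ p) := by
    constructor
    intro K hKo hKc
    have h1 := hcompact K hKo hKc
    have h2 : (U.ι ≫ p).base ⁻¹' K = U.ι.base ⁻¹' ((U : Set P) ∩ p.base ⁻¹' K) := by
      ext u
      simp only [Set.mem_preimage, Set.mem_inter_iff, Scheme.Hom.comp_apply]
      constructor
      · intro h
        exact ⟨u.2, h⟩
      · intro h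
        exact h.2
    rw [h2]
    refine U.ι.isEmbedding.isCompact_preimage' h1 ?_
    rw [Scheme.Opens.range_ι]
    exact Set.inter_subset_left
  haveI : IsClosedImmersion U.ι :=
    IsClosedImmersion.of_isPreimmersion _ (by rw [Scheme.Opens.range_ι]; exact hUc)
  have hE1 : ValuativeCriterion.Existence U.ι := by
    have h : (ValuativeCriterion.Existence ⊓ @QuasiCompact) U.ι := by
      rw [← UniversallyClosed.eq_valuativeCriterion]
      exact (inferInstance : UniversallyClosed U.ι)
    exact h.1
  have hE' : ValuativeCriterion.Existence (U.ι ≫ p) := existence_comp _ _ hE1 hE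
  haveI : UniversallyClosed (U.ι ≫ p) := UniversallyClosed.of_valuativeCriterion _ hE'
  haveI : IsProper (U.ι ≫ p) := {}
  exact IsFinite.of_isProper_of_locallyQuasiFinite _

end FiniteComponent

section BaseChange

/-- a trivializing chart for `p` gives one for any base change of `p` -/
theorem chart_baseChange {P S B S' : Scheme.{u}} (p : P ⟶ S) (g : B ⟶ S) (f : S' ⟶ S)
    (I : Type u) (φ : pullback p f ≅ ∐ fun _ : I => S')
    (hφ : φ.hom ≫ cst S' I = pullback.snd p f) :
    ∃ φB : pullback (pullback.snd p g) (pullback.snd f g) ≅ ∐ fun _ : I => pullback f g,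
      φB.hom ≫ cst (pullback f g) I = pullback.snd (pullback.snd p g) (pullback.snd f g) := by
  obtain ⟨e3, he3⟩ := exists_restrict p f (pullback.fst f g) I φ hφ
  let e1 := pullbackLeftPullbackSndIso p g (pullback.snd f g)
  have he1 : e1.hom ≫ pullback.snd p (pullback.snd f g ≫ g) =
      pullback.snd (pullback.snd p g) (pullback.snd f g) := pullbackLeftPullbackSndIso_hom_snd _ _ _
  have hc : pullback.snd f g ≫ g = pullback.fst f g ≫ f := pullback.condition.symm
  let e2 : pullback p (pullback.snd f g ≫ g) ≅ pullback p (pullback.fst f g ≫ f) :=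
    pullback.congrHom rfl hc
  have he2 : e2.hom ≫ pullback.snd p (pullback.fst f g ≫ f) =
      pullback.snd p (pullback.snd f g ≫ g) := by
    rw [pullback.congrHom_hom]
    exact (pullback.lift_snd _ _ _).trans (Category.comp_id _)
  refine ⟨e1 ≪≫ e2 ≪≫ e3, ?_⟩
  rw [Iso.trans_hom, Iso.trans_hom, Category.assoc, Category.assoc, he3, he2, he1]

variable {S : Scheme.{u}} [IrreducibleSpace S]

/-- good charts (irreducible, affine) for the base change of a locally trivial scheme to an
affine scheme étale over an irreducible geometrically unibranch base -/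
theorem good_chart_baseChange (hS : ∀ s : S, CAlg2.IsGeomUnibranch (S.presheaf.stalk s))
    {P B : Scheme.{u}} (p : P ⟶ S)
    (hLT : ∀ s : S, ∃ (S' : Scheme.{u}) (f : S' ⟶ S) (I : Type u)
      (φ : pullback p f ≅ ∐ fun _ : I => S'),
      Etale f ∧ s ∈ Set.range f.base ∧ φ.hom ≫ cst S' I = pullback.snd p f)
    (g : B ⟶ S) [Etale g] [IsAffine B] (b : B) :
    ∃ (S'' : Scheme.{u}) (f'' : S'' ⟶ B) (I : Type u)
      (φ'' : pullback (pullback.snd p g) f'' ≅ ∐ fun _ : I => S''),
      Etale f'' ∧ b ∈ Set.range f''.base ∧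
        φ''.hom ≫ cst S'' I = pullback.snd (pullback.snd p g) f'' ∧
        IrreducibleSpace S'' ∧ QuasiCompact f'' := by
  obtain ⟨S', f, I, φ, hf, ⟨s', hs'⟩, hφ⟩ := hLT (g.base b)
  obtain ⟨φB, hφB⟩ := chart_baseChange p g f I φ hφ
  obtain ⟨z, hz1, hz2⟩ := Scheme.Pullback.exists_preimage_pullback (f := f) (g := g) s' b hs'
  have hZopen : IsOpen (irreducibleComponent z) :=
    ((Groth.Agent.S2787.result (pullback.snd f g ≫ g) hS).2 _
      (irreducibleComponent_mem_irreducibleComponents z)).1
  obtain ⟨W, hW, hzW, hWZ⟩ := exists_isAffineOpen_mem_and_subset (x := z)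
    (U := ⟨irreducibleComponent z, hZopen⟩) mem_irreducibleComponent
  obtain ⟨φ'', hφ''⟩ := exists_restrict (pullback.snd p g) (pullback.snd f g) W.ι I φB hφB
  have hirr : IsIrreducible (W : Set ↥(pullback f g)) :=
    ⟨⟨z, hzW⟩, isIrreducible_irreducibleComponent.isPreirreducible.open_subset W.isOpen hWZ⟩
  haveI : IsAffine (W : Scheme.{u}) := hW
  refine ⟨W, W.ι ≫ pullback.snd f g, I, φ'', inferInstance, ⟨⟨z, hzW⟩, ?_⟩, hφ'',
    Subtype.irreducibleSpace hirr, inferInstance⟩
  rw [Scheme.Hom.comp_apply]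
  exact hz2

end BaseChange

section Reduction

variable {S : Scheme.{u}} [IrreducibleSpace S]

theorem isFinite_component (hS : ∀ s : S, CAlg2.IsGeomUnibranch (S.presheaf.stalk s))
    (X : Over S) (hX : TwC.IsTwConst TwC.Topology.etale X)
    (U : X.left.Opens) (hUc : IsClosed (U : Set X.left))
    (hUi : IsPreirreducible (U : Set X.left)) : IsFinite (U.ι ≫ X.hom) := by
  obtain ⟨hsep, het, hval⟩ := Groth.Agent.Lib.TwConstH3.main X hX
  haveI := hsep
  haveI := het
  refine IsZariskiLocalAtTarget.of_openCover (P := @IsFinite) S.affineCover (fun i => ?_)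
  let g : S.affineCover.X i ⟶ S := S.affineCover.f i
  haveI : IsAffine (S.affineCover.X i) := by dsimp [Scheme.affineCover]; infer_instance
  let UB : (pullback X.hom g).Opens := (pullback.fst X.hom g) ⁻¹ᵁ U
  have hE : ValuativeCriterion.Existence (pullback.snd X.hom g) :=
    MorphismProperty.pullback_snd (P := ValuativeCriterion.Existence) _ _ hval.existence
  have hF : IsFinite (UB.ι ≫ pullback.snd X.hom g) := by
    refine isFinite_of_charts (pullback.snd X.hom g) hE
      (fun b => good_chart_baseChange hS X.hom (fun s => local_data X hX s) g b) UB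
      (hUc.preimage (pullback.fst X.hom g).continuous) ?_
    exact hUi.preimage (pullback.fst X.hom g).isOpenEmbedding
  -- identify the base change of `U.ι ≫ X.hom` with `UB.ι ≫ pullback.snd X.hom g`
  let a := pullbackRightPullbackFstIso X.hom g U.ι
  have ha : a.hom ≫ pullback.snd (U.ι ≫ X.hom) g =
      pullback.snd U.ι (pullback.fst X.hom g) ≫ pullback.snd X.hom g :=
    pullbackRightPullbackFstIso_hom_snd _ _ _
  have hrange : Set.range (pullback.snd U.ι (pullback.fst X.hom g)).base =
      Set.range UB.ι.base := by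
    rw [Scheme.Pullback.range_snd, Scheme.Opens.range_ι, Scheme.Opens.range_ι]
    rfl
  let c := IsOpenImmersion.isoOfRangeEq (pullback.snd U.ι (pullback.fst X.hom g)) UB.ι hrange
  have hc : c.hom ≫ UB.ι = pullback.snd U.ι (pullback.fst X.hom g) :=
    IsOpenImmersion.isoOfRangeEq_hom_fac _ _ _
  have key : pullback.snd (U.ι ≫ X.hom) g = (a.symm ≪≫ c).hom ≫ UB.ι ≫ pullback.snd X.hom g := by
    rw [Iso.trans_hom, Iso.symm_hom, Category.assoc, ← Category.assoc c.hom, hc, ← ha,
      Iso.inv_hom_id_assoc]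
  have h2 : IsFinite ((a.symm ≪≫ c).hom ≫ UB.ι ≫ pullback.snd X.hom g) :=
    (MorphismProperty.cancel_left_of_respectsIso @IsFinite _ _).mpr hF
  exact (show IsFinite (pullback.snd (U.ι ≫ X.hom) g) from key ▸ h2)

end Reduction

section Rigidity

instance : MorphismProperty.HasOfPostcompProperty @IsOpenImmersion
    (@LocallyOfFiniteType ⊓ @FormallyUnramified) := by
  rw [MorphismProperty.hasOfPostcompProperty_iff_le_diagonal]
  intro X Y f ⟨hft, hfu⟩
  exact inferInstanceAs <| IsOpenImmersion (pullback.diagonal f)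

/-- two sections of a separated unramified morphism over a connected base which agree on a
nonempty scheme are equal -/
theorem section_ext {P S T : Scheme.{u}} [PreconnectedSpace S] (p : P ⟶ S) [IsSeparated p]
    [FormallyUnramified p] [LocallyOfFiniteType p]
    (σ₁ σ₂ : S ⟶ P) (h₁ : σ₁ ≫ p = 𝟙 S) (h₂ : σ₂ ≫ p = 𝟙 S) [Nonempty T] (i : T ⟶ S)
    (h : i ≫ σ₁ = i ≫ σ₂) : σ₁ = σ₂ := by
  let m : S ⟶ pullback p p := pullback.lift σ₁ σ₂ (by rw [h₁, h₂])
  have hm1 : m ≫ pullback.fst p p = σ₁ := pullback.lift_fst _ _ _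
  have hm2 : m ≫ pullback.snd p p = σ₂ := pullback.lift_snd _ _ _
  let e := pullback.snd (pullback.diagonal p) m
  have hcond : pullback.fst (pullback.diagonal p) m ≫ pullback.diagonal p = e ≫ m :=
    pullback.condition
  let t : T ⟶ pullback (pullback.diagonal p) m := pullback.lift (i ≫ σ₁) i (by
    apply pullback.hom_ext
    · rw [Category.assoc, pullback.diagonal_fst, Category.comp_id, Category.assoc, hm1]
    · rw [Category.assoc, pullback.diagonal_snd, Category.comp_id, Category.assoc, hm2, h])
  have hne : (Set.range e.base).Nonempty := by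
    obtain ⟨x⟩ := (inferInstance : Nonempty T)
    exact ⟨e.base (t.base x), _, rfl⟩
  have hclopen : IsClopen (Set.range e.base) :=
    ⟨e.isClosedEmbedding.isClosed_range, e.isOpenEmbedding.isOpen_range⟩
  have huniv : Set.range e.base = Set.univ := hclopen.eq_univ hne
  haveI : Surjective e := ⟨Set.range_eq_univ.mp huniv⟩
  haveI : IsIso e := (isIso_iff_isOpenImmersion_and_surjective _).mpr ⟨inferInstance, inferInstance⟩
  have e1 : e ≫ σ₁ = pullback.fst (pullback.diagonal p) m := by
    rw [← hm1, ← Category.assoc, ← hcond, Category.assoc, pullback.diagonal_fst, Category.comp_id]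
  have e2 : e ≫ σ₂ = pullback.fst (pullback.diagonal p) m := by
    rw [← hm2, ← Category.assoc, ← hcond, Category.assoc, pullback.diagonal_snd, Category.comp_id]
  exact (cancel_epi e).mp (e1.trans e2.symm)

end Rigidity

section Main

variable {S : Scheme.{u}} [IrreducibleSpace S]

/-- points over the generic point are maximal and their closures are irreducible components -/
theorem closure_mem_irreducibleComponents {X : Scheme.{u}} (p : X ⟶ S) [LocallyQuasiFinite p]
    (l : X) (hl : p.base l = genericPoint S) : closure {l} ∈ irreducibleComponents X :=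
  (Groth.Agent.Lib.BrEtNbhdH3.closure_singleton_mem_irreducibleComponents_iff l).mpr
    (fun y hy => Groth.Agent.Lib.IrredCompEtaleH3.eq_of_specializes_of_map_eq_genericPoint p hl hy)

theorem main (hS : ∀ s : S, CAlg2.IsGeomUnibranch (S.presheaf.stalk s))
    (X : Over S) (hX : TwC.IsTwConst TwC.Topology.etale X) :
    (∀ x : X.left, ∃! l : X.left, X.hom.base l = genericPoint S ∧ x ∈ closure ({l} : Set X.left)) ∧
    (∀ l : X.left, X.hom.base l = genericPoint S →
      ∃ U : X.left.Opens, (U : Set X.left) = closure ({l} : Set X.left) ∧ IsClosed (U : Set X.left) ∧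
        IsFinite (U.ι ≫ X.hom) ∧ Etale (U.ι ≫ X.hom) ∧ Surjective (U.ι ≫ X.hom)) ∧
    (∀ σ₁ σ₂ : S ⟶ X.left, σ₁ ≫ X.hom = 𝟙 S → σ₂ ≫ X.hom = 𝟙 S →
      S.fromSpecResidueField (genericPoint S) ≫ σ₁ = S.fromSpecResidueField (genericPoint S) ≫ σ₂ →
        σ₁ = σ₂) ∧
    (∀ τ : Spec (S.residueField (genericPoint S)) ⟶ X.left,
      τ ≫ X.hom = S.fromSpecResidueField (genericPoint S) →
      ∃ σ : S ⟶ X.left, σ ≫ X.hom = 𝟙 S ∧ S.fromSpecResidueField (genericPoint S) ≫ σ = τ) := by
  obtain ⟨hsep, het, hval⟩ := Groth.Agent.Lib.TwConstH3.main X hX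
  haveI := hsep
  haveI := het
  haveI : LocallyQuasiFinite X.hom :=
    Groth.Agent.Lib.IrredCompEtaleH3.locallyQuasiFinite_of_unramified X.hom
  obtain ⟨h1, h2⟩ := Groth.Agent.S2787.result X.hom hS
  -- part (2)
  have part2 : ∀ l : X.left, X.hom.base l = genericPoint S →
      ∃ U : X.left.Opens, (U : Set X.left) = closure ({l} : Set X.left) ∧ IsClosed (U : Set X.left) ∧
        IsFinite (U.ι ≫ X.hom) ∧ Etale (U.ι ≫ X.hom) ∧ Surjective (U.ι ≫ X.hom) := by
    intro l hl
    have hmem := closure_mem_irreducibleComponents X.hom l hl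
    have hopen : IsOpen (closure ({l} : Set X.left)) := (h2 _ hmem).1
    let U : X.left.Opens := ⟨closure {l}, hopen⟩
    have hfin : IsFinite (U.ι ≫ X.hom) :=
      isFinite_component hS X hX U isClosed_closure isIrreducible_singleton.closure.isPreirreducible
    refine ⟨U, rfl, isClosed_closure, hfin, inferInstance, ⟨fun s => ?_⟩⟩
    have hcl : IsClosed (Set.range (U.ι ≫ X.hom).base) := (U.ι ≫ X.hom).isClosedMap.isClosed_range
    have hη : genericPoint S ∈ Set.range (U.ι ≫ X.hom).base :=
      ⟨⟨l, subset_closure rfl⟩, by rw [Scheme.Hom.comp_apply]; exact hl⟩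
    exact (genericPoint_specializes s).mem_closed hcl hη
  refine ⟨?_, part2, ?_, ?_⟩
  · -- part (1)
    intro x
    obtain ⟨Z, ⟨hZ, hxZ⟩, huniqZ⟩ := h1 x
    obtain ⟨_, l, ⟨hlZ, hlη⟩, huniql⟩ := h2 Z hZ
    have hZl : closure {l} = Z := by
      obtain ⟨Z', _, hZ'⟩ := h1 l
      have e1 := hZ' (closure {l}) ⟨closure_mem_irreducibleComponents X.hom l hlη, subset_closure rfl⟩
      have e2 := hZ' Z ⟨hZ, hlZ⟩
      rw [e1, e2]
    refine ⟨l, ⟨hlη, hZl ▸ hxZ⟩, ?_⟩
    rintro l' ⟨hl'η, hxl'⟩
    have hZl' : closure {l'} = Z :=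
      huniqZ _ ⟨closure_mem_irreducibleComponents X.hom l' hl'η, hxl'⟩
    exact huniql l' ⟨hZl' ▸ subset_closure rfl, hl'η⟩
  · -- part (3)
    intro σ₁ σ₂ hσ₁ hσ₂ h
    exact section_ext X.hom σ₁ σ₂ hσ₁ hσ₂ (S.fromSpecResidueField (genericPoint S)) h
  · -- part (4)
    intro τ hτ
    obtain ⟨pt⟩ : Nonempty ↥(Spec (S.residueField (genericPoint S))) := inferInstance
    have hsub : ∀ y : ↥(Spec (S.residueField (genericPoint S))), y = pt :=
      fun y => Subsingleton.elim _ _
    set i := S.fromSpecResidueField (genericPoint S) with hi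
    have hipt : i.base pt = genericPoint S := Scheme.fromSpecResidueField_apply _ _
    let l : X.left := τ.base pt
    have hl : X.hom.base l = genericPoint S := by
      rw [← hipt, ← hτ, Scheme.Hom.comp_apply]
    obtain ⟨U, hU, hUc, hfin, het', hsurj⟩ := part2 l hl
    have hrange : Set.range τ.base ⊆ Set.range U.ι.base := by
      rintro _ ⟨y, rfl⟩
      rw [Scheme.Opens.range_ι, hsub y, hU]
      exact subset_closure rfl
    let τ' : Spec (S.residueField (genericPoint S)) ⟶ U := IsOpenImmersion.lift U.ι τ hrange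
    have hτ' : τ' ≫ U.ι = τ := IsOpenImmersion.lift_fac _ _ _
    have hτ'q : τ' ≫ (U.ι ≫ X.hom) = i := by rw [← Category.assoc, hτ', hτ]
    let t : Spec (S.residueField (genericPoint S)) ⟶ pullback (U.ι ≫ X.hom) i :=
      pullback.lift τ' (𝟙 _) (by rw [hτ'q, Category.id_comp])
    have ht : t ≫ pullback.snd (U.ι ≫ X.hom) i = 𝟙 _ := pullback.lift_snd _ _ _
    haveI : IsOpenImmersion t :=
      MorphismProperty.of_postcomp (W := @IsOpenImmersion)
        (W' := @LocallyOfFiniteType ⊓ @FormallyUnramified) t (pullback.snd (U.ι ≫ X.hom) i)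
        ⟨inferInstance, inferInstance⟩ (by rw [ht]; infer_instance)
    -- the fibre is a single point
    have hpoint : ∀ z : ↥(pullback (U.ι ≫ X.hom) i),
        U.ι.base ((pullback.fst (U.ι ≫ X.hom) i).base z) = l := by
      intro z
      have hmem := closure_mem_irreducibleComponents X.hom l hl
      obtain ⟨_, l0, _, huniq⟩ := h2 _ hmem
      have hz1 : U.ι.base ((pullback.fst (U.ι ≫ X.hom) i).base z) ∈ closure ({l} : Set X.left) := by
        rw [← hU]
        exact ((pullback.fst (U.ι ≫ X.hom) i).base z).2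
      have hz2 : X.hom.base (U.ι.base ((pullback.fst (U.ι ≫ X.hom) i).base z)) =
          genericPoint S := by
        rw [← Scheme.Hom.comp_apply, ← Scheme.Hom.comp_apply, pullback.condition,
          Scheme.Hom.comp_apply, hsub ((pullback.snd (U.ι ≫ X.hom) i).base z), hipt]
      rw [huniq _ ⟨hz1, hz2⟩, huniq l ⟨subset_closure rfl, hl⟩]
    have hsubs : ∀ z z' : ↥(pullback (U.ι ≫ X.hom) i), z = z' := by
      intro z z'
      apply (pullback.fst (U.ι ≫ X.hom) i).isEmbedding.injective
      apply U.ι.isEmbedding.injective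
      rw [hpoint z, hpoint z']
    haveI : Surjective t := ⟨fun z => ⟨pt, hsubs _ _⟩⟩
    haveI : IsIso t := (isIso_iff_isOpenImmersion_and_surjective _).mpr ⟨inferInstance, inferInstance⟩
    have hqk : pullback.snd (U.ι ≫ X.hom) i = inv t := by
      rw [← cancel_epi t, ht, IsIso.hom_inv_id]
    haveI : IsIso (pullback.snd (U.ι ≫ X.hom) i) := by rw [hqk]; infer_instance
    have hrk : Scheme.Hom.finrank (U.ι ≫ X.hom) (genericPoint S) = 1 := by
      rw [← hipt, ← Scheme.Hom.finrank_pullback_snd (U.ι ≫ X.hom) i pt,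
        Scheme.Hom.finrank_eq_one_of_isIso]
      rfl
    have hrk1 : Scheme.Hom.finrank (U.ι ≫ X.hom) = 1 := by
      funext s
      rw [(Scheme.Hom.isLocallyConstant_finrank (U.ι ≫ X.hom)).apply_eq_of_preconnectedSpace s
        (genericPoint S), hrk]
      rfl
    haveI : IsIso (U.ι ≫ X.hom) := (Scheme.Hom.isIso_iff_finrank_eq _).mpr hrk1
    refine ⟨inv (U.ι ≫ X.hom) ≫ U.ι, ?_, ?_⟩
    · rw [Category.assoc, IsIso.inv_hom_id]
    · rw [← Category.assoc, (IsIso.comp_inv_eq (U.ι ≫ X.hom)).mpr hτ'q.symm, hτ']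

end Main

end Groth.Agent.Lib.TwConstUnibranchH3
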