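import Mathlib
import Groth.Agent.Lib.TwConst_helper3
import Groth.Agent.Lib.TwConstFinite_helper3
import Groth.Agent.Lib.TwConstUnibranch_helper3
import Groth.Agent.Lib.HenselQF2_helper3

/-!
# Twisted constant schemes over a henselian local base (helper3)

Over `S = Spec R` with `R` henselian local, a quasi-isotrivial twisted constant scheme is the
disjoint union of the finite étale local schemes `Spec 𝒪_{X,x}`, `x` in the closed fibre.
-/

set_option autoImplicit false
set_option linter.all false
set_option maxHeartbeats 1600000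
set_option maxSynthPendingDepth 3

universe u

open CategoryTheory Limits AlgebraicGeometry IsLocalRing

namespace Groth.Agent.Lib.TwConstHenselH3

section Conn

/-- the spectrum of a local ring is connected -/
instance preconnectedSpace_of_isLocalRing (R : Type u) [CommRing R] [IsLocalRing R] :
    PreconnectedSpace (PrimeSpectrum R) := by
  refine ⟨isPreconnected_of_forall (closedPoint R) fun y _ => ?_⟩
  refine ⟨closure {y}, Set.subset_univ _, ?_, subset_closure rfl, ?_⟩
  · exact (specializes_closedPoint y).mem_closed isClosed_closure (subset_closure rfl)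
  · exact isIrreducible_singleton.closure.isPreirreducible.isPreconnected

instance preconnectedSpace_Spec_of_isLocalRing (R : Type u) [CommRing R] [IsLocalRing R] :
    PreconnectedSpace ↥(Spec (CommRingCat.of R)) :=
  preconnectedSpace_of_isLocalRing R

end Conn

section Core

variable (R : Type u) [CommRing R] [HenselianLocalRing R] {X : Scheme.{u}}
  (p : X ⟶ Spec (CommRingCat.of R)) [Etale p]

/-- the key local statement: the local scheme at a point of the closed fibre is open in `X` and
finite over the base. -/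
theorem local_core (x : X) (hx : p.base x = closedPoint R) :
    IsOpenImmersion (X.fromSpecStalk x) ∧ IsFinite (X.fromSpecStalk x ≫ p) := by
  obtain ⟨_, ⟨V, hV, rfl⟩, hxV, -⟩ := X.isBasis_affineOpens.exists_subset_of_mem_open
    (Set.mem_univ x) isOpen_univ
  let φ : CommRingCat.of R ⟶ Γ(X, V) :=
    (Scheme.ΓSpecIso (CommRingCat.of R)).inv ≫ p.appLE ⊤ V le_top
  have hφet : φ.hom.Etale := by
    have h1 : (p.appLE ⊤ V le_top).hom.Etale := p.etale_appLE (isAffineOpen_top _) hV le_top
    have h2 : ((Scheme.ΓSpecIso (CommRingCat.of R)).inv).hom.Etale :=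
      RingHom.Etale.of_bijective (ConcreteCategory.bijective_of_isIso _)
    exact RingHom.Etale.stableUnderComposition _ _ h2 h1
  have hfac : hV.fromSpec ≫ p = Spec.map φ := by
    rw [Spec.map_comp, ← IsAffineOpen.SpecMap_appLE_fromSpec p (isAffineOpen_top _) hV le_top,
      IsAffineOpen.fromSpec_top, Scheme.isoSpec_Spec_inv]
  algebraize [φ.hom]
  set q := hV.primeIdealOf ⟨x, hxV⟩ with hq
  have hqx : hV.fromSpec.base q = x := hV.fromSpec_primeIdealOf ⟨x, hxV⟩
  haveI : q.asIdeal.LiesOver (maximalIdeal R) := ⟨by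
    have h1 : (Spec.map φ).base q = closedPoint R := by
      rw [← hfac, Scheme.Hom.comp_apply, hqx, hx]
    exact congr(($h1).asIdeal).symm⟩
  obtain ⟨ε, hid, hε, hfin, huniq⟩ :=
    Groth.Agent.Lib.HenselFiniteH3.exists_idem_finite_unique R Γ(X, V) q.asIdeal
  haveI hloc1 : IsLocalization.AtPrime (Γ(X, V) ⧸ Ideal.span ({1 - ε} : Set Γ(X, V))) q.asIdeal :=
    Groth.Agent.Lib.HenselFiniteH3.isLocalization_quotient R Γ(X, V) q.asIdeal ε hε hid hfin huniq
  haveI hloc2 : IsLocalization.Away ε (Γ(X, V) ⧸ Ideal.span ({1 - ε} : Set Γ(X, V))) :=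
    IsLocalization.Away.quotient_of_isIdempotentElem hid
  letI := X.presheaf.algebra_section_stalk ⟨x, hxV⟩
  haveI hloc3 : IsLocalization.AtPrime (X.presheaf.stalk x) q.asIdeal :=
    hV.isLocalization_stalk ⟨x, hxV⟩
  let e : (Γ(X, V) ⧸ Ideal.span ({1 - ε} : Set Γ(X, V))) ≃ₐ[Γ(X, V)] X.presheaf.stalk x :=
    IsLocalization.algEquiv q.asIdeal.primeCompl _ _
  haveI hloc4 : IsLocalization.Away ε (X.presheaf.stalk x) :=
    IsLocalization.isLocalization_of_algEquiv _ e
  have hgerm : X.presheaf.germ V x hxV =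
      CommRingCat.ofHom (algebraMap Γ(X, V) (X.presheaf.stalk x)) := rfl
  haveI : IsOpenImmersion (Spec.map (X.presheaf.germ V x hxV)) := by
    rw [hgerm]
    exact IsOpenImmersion.of_isLocalization ε
  have hj : X.fromSpecStalk x = Spec.map (X.presheaf.germ V x hxV) ≫ hV.fromSpec := by
    rw [← hV.fromSpecStalk_eq_fromSpecStalk hxV]
    rfl
  refine ⟨by rw [hj]; infer_instance, ?_⟩
  rw [hj, Category.assoc, hfac, ← Spec.map_comp, IsFinite.SpecMap_iff]
  have hcomp : (φ ≫ X.presheaf.germ V x hxV).hom =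
      (e : (Γ(X, V) ⧸ Ideal.span ({1 - ε} : Set Γ(X, V))) →+* X.presheaf.stalk x).comp
        (algebraMap R (Γ(X, V) ⧸ Ideal.span ({1 - ε} : Set Γ(X, V)))) := by
    ext r
    have := e.commutes (φ.hom r)
    simp only [CommRingCat.hom_comp, RingHom.comp_apply]
    rw [hgerm]
    exact this.symm
  rw [hcomp]
  exact RingHom.Finite.comp (RingHom.Finite.of_surjective _ e.surjective)
    (RingHom.finite_algebraMap.mpr hfin)

/-- all five properties of the local scheme at a point of the closed fibre -/
theorem local_full [IsSeparated p] (x : X) (hx : p.base x = closedPoint R) :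
    IsOpenImmersion (X.fromSpecStalk x) ∧ IsClosedImmersion (X.fromSpecStalk x) ∧
      IsFinite (X.fromSpecStalk x ≫ p) ∧ Etale (X.fromSpecStalk x ≫ p) ∧
      Surjective (X.fromSpecStalk x ≫ p) := by
  obtain ⟨h1, h2⟩ := local_core R p x hx
  haveI := h1
  haveI := h2
  haveI : IsFinite (X.fromSpecStalk x) := IsFinite.of_comp _ p
  have hcl : IsClosedImmersion (X.fromSpecStalk x) :=
    IsClosedImmersion.of_isPreimmersion _ (X.fromSpecStalk x).isClosedMap.isClosed_range
  refine ⟨h1, hcl, h2, inferInstance, ⟨fun s => ?_⟩⟩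
  have hgen : StableUnderGeneralization (Set.range (X.fromSpecStalk x ≫ p).base) :=
    (Flat.generalizingMap (X.fromSpecStalk x ≫ p)).stableUnderGeneralization_range
  have hmem : closedPoint R ∈ Set.range (X.fromSpecStalk x ≫ p).base :=
    ⟨closedPoint (X.presheaf.stalk x), by
      rw [Scheme.Hom.comp_apply, Scheme.fromSpecStalk_closedPoint, hx]⟩
  exact hgen (specializes_closedPoint (R := R) s) hmem

end Core

section Main

theorem main (R : Type u) [CommRing R] [HenselianLocalRing R]
    (X : Over (Spec (CommRingCat.of R))) (hX : TwC.IsTwConst TwC.Topology.etale X) :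
    (∀ x : X.left, X.hom.base x = IsLocalRing.closedPoint R →
      IsOpenImmersion (X.left.fromSpecStalk x) ∧ IsClosedImmersion (X.left.fromSpecStalk x) ∧
        IsFinite (X.left.fromSpecStalk x ≫ X.hom) ∧ Etale (X.left.fromSpecStalk x ≫ X.hom) ∧
        Surjective (X.left.fromSpecStalk x ≫ X.hom)) ∧
    (∀ y : X.left, ∃! x : X.left, X.hom.base x = IsLocalRing.closedPoint R ∧
      y ∈ Set.range (X.left.fromSpecStalk x).base) ∧
    (∀ σ₁ σ₂ : Spec (CommRingCat.of R) ⟶ X.left, σ₁ ≫ X.hom = 𝟙 _ → σ₂ ≫ X.hom = 𝟙 _ →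
      Spec.map (CommRingCat.ofHom (IsLocalRing.residue R)) ≫ σ₁ =
        Spec.map (CommRingCat.ofHom (IsLocalRing.residue R)) ≫ σ₂ → σ₁ = σ₂) ∧
    (∀ τ : Spec (CommRingCat.of (IsLocalRing.ResidueField R)) ⟶ X.left,
      τ ≫ X.hom = Spec.map (CommRingCat.ofHom (IsLocalRing.residue R)) →
      ∃ σ : Spec (CommRingCat.of R) ⟶ X.left, σ ≫ X.hom = 𝟙 _ ∧
        Spec.map (CommRingCat.ofHom (IsLocalRing.residue R)) ≫ σ = τ) := by
  obtain ⟨hsep, het, hval⟩ := Groth.Agent.Lib.TwConstH3.main X hX
  haveI := hsep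
  haveI := het
  haveI : LocallyQuasiFinite X.hom :=
    Groth.Agent.Lib.IrredCompEtaleH3.locallyQuasiFinite_of_unramified X.hom
  have part1 := local_full R X.hom
  have hrange : ∀ x : X.left, Set.range (X.left.fromSpecStalk x).base = {y | y ⤳ x} :=
    fun x => Scheme.range_fromSpecStalk
  refine ⟨part1, ?_, ?_, ?_⟩
  · -- part (2)
    intro y
    have hspec : SpecializingMap X.hom.base := hval.existence.specializingMap
    obtain ⟨x, hyx, hx⟩ := hspec (specializes_closedPoint (R := R) (X.hom.base y))
    refine ⟨x, ⟨hx, by rw [hrange]; exact hyx⟩, ?_⟩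
    rintro x' ⟨hx', hyx'⟩
    rw [hrange] at hyx'
    have hyx' : y ⤳ x' := hyx'
    have hyx : y ⤳ x := hyx
    obtain ⟨-, hcl, -, -, -⟩ := part1 x hx
    have hclosed : IsClosed (Set.range (X.left.fromSpecStalk x).base) :=
      (X.left.fromSpecStalk x).isClosedEmbedding.isClosed_range
    have hmem : x' ∈ Set.range (X.left.fromSpecStalk x).base :=
      hyx'.mem_closed hclosed (by rw [hrange]; exact hyx)
    rw [hrange] at hmem
    exact Groth.Agent.Lib.TwConstFiniteH3.eq_of_specializes_of_map_eq X.hom hmem (hx'.trans hx.symm)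
  · -- part (3)
    intro σ₁ σ₂ hσ₁ hσ₂ h
    exact Groth.Agent.Lib.TwConstUnibranchH3.section_ext X.hom σ₁ σ₂ hσ₁ hσ₂
      (Spec.map (CommRingCat.ofHom (IsLocalRing.residue R))) h
  · -- part (4)
    intro τ hτ
    obtain ⟨pt⟩ : Nonempty ↥(Spec (CommRingCat.of (IsLocalRing.ResidueField R))) :=
      inferInstanceAs (Nonempty (PrimeSpectrum (IsLocalRing.ResidueField R)))
    haveI hss : Subsingleton ↥(Spec (CommRingCat.of (IsLocalRing.ResidueField R))) :=
      inferInstanceAs (Subsingleton (PrimeSpectrum (IsLocalRing.ResidueField R)))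
    have hsub : ∀ y : ↥(Spec (CommRingCat.of (IsLocalRing.ResidueField R))), y = pt :=
      fun y => Subsingleton.elim _ _
    set i := Spec.map (CommRingCat.ofHom (IsLocalRing.residue R)) with hi
    have hipt : ∀ y, i.base y = closedPoint R := fun y => PrimeSpectrum.comap_residue R y
    haveI : IsClosedImmersion i :=
      IsClosedImmersion.spec_of_surjective _ IsLocalRing.residue_surjective
    let x : X.left := τ.base pt
    have hx : X.hom.base x = closedPoint R := by
      rw [← hipt pt, ← hτ, Scheme.Hom.comp_apply]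
    obtain ⟨hop, hcl, hfin, het', hsurj⟩ := part1 x hx
    set j := X.left.fromSpecStalk x with hj
    have hrg : Set.range τ.base ⊆ Set.range j.base := by
      rintro _ ⟨y, rfl⟩
      rw [hsub y, hrange]
      exact specializes_rfl
    let τ' : Spec (CommRingCat.of (IsLocalRing.ResidueField R)) ⟶ Spec (X.left.presheaf.stalk x) :=
      IsOpenImmersion.lift j τ hrg
    have hτ' : τ' ≫ j = τ := IsOpenImmersion.lift_fac _ _ _
    have hτ'q : τ' ≫ (j ≫ X.hom) = i := by rw [← Category.assoc, hτ', hτ]
    let t : Spec (CommRingCat.of (IsLocalRing.ResidueField R)) ⟶ pullback (j ≫ X.hom) i :=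
      pullback.lift τ' (𝟙 _) (by rw [hτ'q, Category.id_comp])
    have ht : t ≫ pullback.snd (j ≫ X.hom) i = 𝟙 _ := pullback.lift_snd _ _ _
    haveI : IsOpenImmersion t :=
      MorphismProperty.of_postcomp (W := @IsOpenImmersion)
        (W' := @LocallyOfFiniteType ⊓ @FormallyUnramified) t (pullback.snd (j ≫ X.hom) i)
        ⟨inferInstance, inferInstance⟩ (by rw [ht]; infer_instance)
    -- the fibre is a single point
    have hpoint : ∀ z : ↥(pullback (j ≫ X.hom) i),
        j.base ((pullback.fst (j ≫ X.hom) i).base z) = x := by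
      intro z
      have hz1 : j.base ((pullback.fst (j ≫ X.hom) i).base z) ⤳ x := by
        have : j.base ((pullback.fst (j ≫ X.hom) i).base z) ∈ Set.range j.base := ⟨_, rfl⟩
        rw [hrange] at this
        exact this
      have hz2 : X.hom.base (j.base ((pullback.fst (j ≫ X.hom) i).base z)) = X.hom.base x := by
        rw [← Scheme.Hom.comp_apply, ← Scheme.Hom.comp_apply, pullback.condition,
          Scheme.Hom.comp_apply, hipt, hx]
      exact Groth.Agent.Lib.TwConstFiniteH3.eq_of_specializes_of_map_eq X.hom hz1 hz2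
    have hsubs : ∀ z z' : ↥(pullback (j ≫ X.hom) i), z = z' := by
      intro z z'
      apply (pullback.fst (j ≫ X.hom) i).isEmbedding.injective
      apply j.isEmbedding.injective
      rw [hpoint z, hpoint z']
    haveI : Surjective t := ⟨fun z => ⟨pt, hsubs _ _⟩⟩
    haveI : IsIso t := (isIso_iff_isOpenImmersion_and_surjective _).mpr ⟨inferInstance, inferInstance⟩
    have hqk : pullback.snd (j ≫ X.hom) i = inv t := by
      rw [← cancel_epi t, ht, IsIso.hom_inv_id]
    haveI : IsIso (pullback.snd (j ≫ X.hom) i) := by rw [hqk]; infer_instance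
    have hrk : Scheme.Hom.finrank (j ≫ X.hom) (closedPoint R) = 1 := by
      rw [← hipt pt, ← Scheme.Hom.finrank_pullback_snd (j ≫ X.hom) i pt,
        Scheme.Hom.finrank_eq_one_of_isIso]
      rfl
    have hrk1 : Scheme.Hom.finrank (j ≫ X.hom) = 1 := by
      funext s
      rw [(Scheme.Hom.isLocallyConstant_finrank (j ≫ X.hom)).apply_eq_of_preconnectedSpace s
        (closedPoint R), hrk]
      rfl
    haveI : IsIso (j ≫ X.hom) := (Scheme.Hom.isIso_iff_finrank_eq _).mpr hrk1
    refine ⟨inv (j ≫ X.hom) ≫ j, ?_, ?_⟩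
    · rw [Category.assoc, IsIso.inv_hom_id]
    · rw [← Category.assoc, (IsIso.comp_inv_eq (j ≫ X.hom)).mpr hτ'q.symm, hτ']

end Main

end Groth.Agent.Lib.TwConstHenselH3
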