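import Mathlib
import Groth.Prelude
import Groth.Agent.Lib.TwConstFin_helper4

/-!
# Isotrivial twisted constant schemes are unions of finite open and closed pieces (helper4)
-/

set_option autoImplicit false
set_option linter.unusedVariables false
set_option linter.unusedTactic false
set_option linter.unreachableTactic false
set_option linter.unusedSectionVars false
set_option linter.style.haveILetI false
set_option linter.deprecated false
set_option linter.unusedSimpArgs false
set_option linter.style.longLine false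
set_option maxHeartbeats 1600000
set_option backward.isDefEq.respectTransparency.types false

universe u

open CategoryTheory CategoryTheory.Limits AlgebraicGeometry Opposite TopologicalSpace

namespace Groth.Agent.Lib.TwConstFinH4

/-- finiteness of a quasi-compact closed subscheme, for a quasi-compact flat cover trivialising
`R` over the members of an open cover. -/
theorem isFinite_of_trivialised_qc {S S' : Scheme.{u}} (R : Over S) (f : S' ⟶ S) [Flat f]
    [Surjective f] [QuasiCompact f] (U : S' → S'.Opens) (hU : ∀ s', s' ∈ U s') (I : S' → Type u)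
    (hI : ∀ s', Nonempty (Red.bc ((U s').ι ≫ f) R ≅ TwC.const (U s') (I s')))
    {Z : Scheme.{u}} (z : Z ⟶ R.left) [IsClosedImmersion z] [QuasiCompact (z ≫ R.hom)] :
    IsFinite (z ≫ R.hom) := by
  haveI := Groth.Agent.Lib.SchDescent_helper6.descendsAlong_isFinite.{u}
  obtain ⟨g, hg⟩ : ∃ g : Z ⟶ S, g = z ≫ R.hom := ⟨_, rfl⟩
  have ha : ∀ s' : S', IsFinite (pullback.snd g ((U s').ι ≫ f)) := by
    intro s'
    obtain ⟨e⟩ := hI s'
    rw [hg]
    exact isFinite_over_trivialising R z ((U s').ι ≫ f) (I s') e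
  have hcovU : iSup (fun s' : S' => U s') = ⊤ :=
    eq_top_iff.mpr (fun x _ => TopologicalSpace.Opens.mem_iSup.mpr ⟨x, hU x⟩)
  have hb : IsFinite (pullback.snd g f) := by
    refine IsZariskiLocalAtTarget.of_iSup_eq_top (P := @IsFinite) (fun s' : S' => U s') hcovU
      (fun s' => ?_)
    have s1 := isPullback_morphismRestrict (pullback.snd g f) (U s')
    have s2 := s1.flip.paste_horiz (IsPullback.of_hasPullback g f)
    exact (prop_iff_of_isPullback s2).mpr (ha s')
  rw [← hg]
  exact MorphismProperty.of_isPullback_of_descendsAlong (P := @IsFinite)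
    (Q := (@Surjective ⊓ @Flat ⊓ @QuasiCompact : MorphismProperty Scheme.{u}))
    (IsPullback.of_hasPullback g f).flip ⟨⟨‹Surjective f›, ‹Flat f›⟩, ‹QuasiCompact f›⟩ hb

theorem isClosedImmersion_sigmaι {U : Scheme.{u}} (M : Type u) (m : M) :
    IsClosedImmersion (Sigma.ι (fun _ : M => U) m) := by
  apply IsClosedImmersion.of_isPreimmersion
  have e : Set.range (Sigma.ι (fun _ : M => U) m) =
      (sigmaMk (fun _ : M => U)) '' (Set.range (Sigma.mk m)) := by
    ext c
    constructor
    · rintro ⟨u, rfl⟩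
      exact ⟨⟨m, u⟩, ⟨u, rfl⟩, sigmaMk_mk (fun _ : M => U) m u⟩
    · rintro ⟨_, ⟨u, rfl⟩, rfl⟩
      exact ⟨u, (sigmaMk_mk (fun _ : M => U) m u).symm⟩
  rw [e]
  exact (sigmaMk (fun _ : M => U)).isClosedMap _ isClosed_range_sigmaMk

theorem quasiCompact_of_surjective_comp {X Y Z : Scheme.{u}} (a : X ⟶ Y) (b : Y ⟶ Z)
    (ha : Function.Surjective a) [QuasiCompact (a ≫ b)] : QuasiCompact b := by
  refine ⟨fun W hWo hWc => ?_⟩
  have h1 : IsCompact ((a ≫ b) ⁻¹' W) :=
    QuasiCompact.isCompact_preimage (f := a ≫ b) W hWo hWc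
  have h2 : b ⁻¹' W = a '' ((a ≫ b) ⁻¹' W) := by
    ext y
    constructor
    · intro hy
      obtain ⟨x, rfl⟩ := ha y
      exact ⟨x, hy, rfl⟩
    · rintro ⟨x, hx, rfl⟩
      exact hx
  rw [h2]
  exact h1.image a.continuous

/-- S5308. -/
theorem main5308 {S : Scheme.{u}} (R : Over S) [GrpObj R]
    (hR : TwC.IsTwConstGrp TwC.Topology.finiteEtale R) (x : R.left) :
    ∃ U : R.left.Opens, x ∈ U ∧ IsClosed (U : Set R.left) ∧ IsFinite (U.ι ≫ R.hom) := by
  have hR' : ∃ (S' : Scheme.{u}) (f : S' ⟶ S), IsFinite f ∧ Etale f ∧ Surjective f ∧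
      ∀ s' : S', ∃ U : S'.Opens, s' ∈ U ∧ IsClosed (U : Set S') ∧
        ∃ (M : Type u) (_ : Group M) (e : Red.bc (U.ι ≫ f) R ≅ TwC.const U M),
          TwC.IsConstGrp M (Red.bc (U.ι ≫ f) R) e := hR
  obtain ⟨S', f, hfin, het, hsurj, hloc⟩ := hR'
  haveI := hfin
  haveI := het
  haveI := hsurj
  choose U hU hUc M instM e he using hloc
  obtain ⟨s', hs'⟩ := hsurj.surj (R.hom x)
  obtain ⟨j, hj⟩ : ∃ j : ((U s' : S'.Opens) : Scheme.{u}) ⟶ S, j = (U s').ι ≫ f := ⟨_, rfl⟩
  haveI : IsClosedImmersion (U s').ι := IsClosedImmersion.of_isPreimmersion _ (by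
    rw [Scheme.Opens.range_ι]
    exact hUc s')
  haveI : IsFinite j := by
    rw [hj]
    infer_instance
  haveI : Etale j := by
    rw [hj]
    infer_instance
  have hxj : R.hom x = j (⟨s', hU s'⟩ : U s') := by
    rw [hj]
    exact hs'.symm
  obtain ⟨x'', hx'', -⟩ := Scheme.Pullback.exists_preimage_pullback (f := R.hom) (g := j) x
    (⟨s', hU s'⟩ : U s') hxj
  obtain ⟨E, -⟩ : ∃ E : Red.bc j R ≅ TwC.const (U s') (M s'), True := by
    subst hj
    exact ⟨e s', trivial⟩
  haveI : IsIso E.hom.left := (inferInstance : IsIso ((Over.forget _).mapIso E).hom)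
  haveI : IsIso E.inv.left := (inferInstance : IsIso ((Over.forget _).mapIso E).inv)
  obtain ⟨⟨m, u⟩, hmu⟩ := (sigmaMk (fun _ : M s' => ((U s' : S'.Opens) : Scheme.{u}))).surjective
    (E.hom.left x'')
  rw [sigmaMk_mk] at hmu
  obtain ⟨q, hq⟩ : ∃ q : ((U s' : S'.Opens) : Scheme.{u}) ⟶ R.left,
      q = Sigma.ι (fun _ : M s' => ((U s' : S'.Opens) : Scheme.{u})) m ≫ E.inv.left ≫
        pullback.fst R.hom j := ⟨_, rfl⟩
  have hqx : q u = x := by
    have h1 : (E.hom.left ≫ E.inv.left) x'' = x'' := by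
      rw [← Over.comp_left, E.hom_inv_id]
      rfl
    have h2 : q u = pullback.fst R.hom j (E.inv.left
        (Sigma.ι (fun _ : M s' => ((U s' : S'.Opens) : Scheme.{u})) m u)) := by
      rw [hq]
      rfl
    have h3 : E.inv.left (Sigma.ι (fun _ : M s' => ((U s' : S'.Opens) : Scheme.{u})) m u) =
        E.inv.left (E.hom.left x'') := congrArg (fun t => E.inv.left t) hmu
    have h4 : pullback.fst R.hom j (E.inv.left (E.hom.left x'')) = pullback.fst R.hom j x'' :=
      congrArg (fun t => pullback.fst R.hom j t) h1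
    exact h2.trans ((congrArg (fun t => pullback.fst R.hom j t) h3).trans (h4.trans hx''))
  have hqR : q ≫ R.hom = j := by
    have hw : E.inv.left ≫ pullback.snd R.hom j =
        Sigma.desc (fun _ : M s' => 𝟙 ((U s' : S'.Opens) : Scheme.{u})) := Over.w E.inv
    have h1 : (E.inv.left ≫ pullback.fst R.hom j) ≫ R.hom =
        Sigma.desc (fun _ : M s' => 𝟙 ((U s' : S'.Opens) : Scheme.{u})) ≫ j := by
      calc (E.inv.left ≫ pullback.fst R.hom j) ≫ R.hom
          = E.inv.left ≫ (pullback.fst R.hom j ≫ R.hom) := Category.assoc _ _ _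
        _ = E.inv.left ≫ (pullback.snd R.hom j ≫ j) := by rw [pullback.condition]
        _ = (E.inv.left ≫ pullback.snd R.hom j) ≫ j := (Category.assoc _ _ _).symm
        _ = Sigma.desc (fun _ : M s' => 𝟙 ((U s' : S'.Opens) : Scheme.{u})) ≫ j := by rw [hw]
    rw [hq]
    calc (Sigma.ι (fun _ : M s' => ((U s' : S'.Opens) : Scheme.{u})) m ≫ E.inv.left ≫
          pullback.fst R.hom j) ≫ R.hom
        = Sigma.ι (fun _ : M s' => ((U s' : S'.Opens) : Scheme.{u})) m ≫
            ((E.inv.left ≫ pullback.fst R.hom j) ≫ R.hom) := Category.assoc _ _ _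
      _ = Sigma.ι (fun _ : M s' => ((U s' : S'.Opens) : Scheme.{u})) m ≫
            (Sigma.desc (fun _ : M s' => 𝟙 ((U s' : S'.Opens) : Scheme.{u})) ≫ j) := by rw [h1]
      _ = (Sigma.ι (fun _ : M s' => ((U s' : S'.Opens) : Scheme.{u})) m ≫
            Sigma.desc (fun _ : M s' => 𝟙 ((U s' : S'.Opens) : Scheme.{u}))) ≫ j :=
          (Category.assoc _ _ _).symm
      _ = 𝟙 _ ≫ j := by rw [Sigma.ι_desc]
      _ = j := Category.id_comp _
  haveI : IsClosedImmersion (Sigma.ι (fun _ : M s' => ((U s' : S'.Opens) : Scheme.{u})) m) :=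
    isClosedImmersion_sigmaι (M s') m
  haveI : IsFinite q := by
    rw [hq]
    infer_instance
  haveI : UniversallyOpen (pullback.fst R.hom j) := inferInstance
  haveI : UniversallyOpen q := by
    rw [hq]
    infer_instance
  have hopen : IsOpen (Set.range q) := q.isOpenMap.isOpen_range
  have hclosed : IsClosed (Set.range q) := q.isClosedMap.isClosed_range
  obtain ⟨Zo, hZo⟩ : ∃ Zo : R.left.Opens, (Zo : Set R.left) = Set.range q :=
    ⟨⟨Set.range q, hopen⟩, rfl⟩
  refine ⟨Zo, ?_, ?_, ?_⟩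
  · show x ∈ (Zo : Set R.left)
    rw [hZo]
    exact ⟨u, hqx⟩
  · rw [hZo]
    exact hclosed
  · haveI : IsClosedImmersion Zo.ι := IsClosedImmersion.of_isPreimmersion _ (by
      rw [Scheme.Opens.range_ι, hZo]
      exact hclosed)
    obtain ⟨q', hq'⟩ : ∃ q' : ((U s' : S'.Opens) : Scheme.{u}) ⟶ (Zo : Scheme.{u}),
        q' ≫ Zo.ι = q :=
      ⟨IsOpenImmersion.lift Zo.ι q (by
        intro c hc
        rw [Scheme.Opens.range_ι, hZo]
        exact hc), IsOpenImmersion.lift_fac _ _ _⟩
    have hq's : Function.Surjective q' := by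
      intro y
      have hy : Zo.ι y ∈ Set.range q := by
        rw [← hZo, ← Scheme.Opens.range_ι]
        exact ⟨y, rfl⟩
      obtain ⟨u', hu'⟩ := hy
      refine ⟨u', ?_⟩
      have e1 : (q' ≫ Zo.ι) u' = q u' := by rw [hq']
      exact Zo.ι.isOpenEmbedding.injective (e1.trans hu')
    have hcomp : q' ≫ (Zo.ι ≫ R.hom) = j := by
      rw [← Category.assoc, hq', hqR]
    haveI : QuasiCompact (q' ≫ (Zo.ι ≫ R.hom)) := by
      rw [hcomp]
      infer_instance
    haveI : QuasiCompact (Zo.ι ≫ R.hom) := quasiCompact_of_surjective_comp q' _ hq's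
    haveI : Flat f := inferInstance
    haveI : QuasiCompact f := inferInstance
    exact isFinite_of_trivialised_qc R f U hU M (fun t => ⟨e t⟩) Zo.ι

end Groth.Agent.Lib.TwConstFinH4
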