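import Mathlib
import Groth.Agent.Lib.ActCx_helper2

/-!
# Twisted base change ladders (helper2)

For a complex `K` of abelian groups with an action of `A`, an `A`-module `N` and a balanced additive
family of chain maps `μ : N → (K ⟶ K')`, there is a map `N ⊗_A H^q(K) → H^q(K')`.  For a morphism
of short exact sequences of such data and `N` flat over `A`: if two of the three components induce
bijections in all degrees, so does the third.
APPEND-ONLY once landed.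
-/

set_option autoImplicit false
universe u

open CategoryTheory CategoryTheory.Limits HomologicalComplex TensorProduct

namespace Groth.Agent.Lib.TwLadder

open Groth.Agent.Lib.ActCx

/-- a balanced additive family of chain maps -/
structure Fam (A : Type*) [CommRing A] (N : Type*) [AddCommGroup N] [Module A N]
    {K : Cx.{u}} (a : Act A K) (K' : Cx.{u}) where
  μ : N → (K ⟶ K')
  add : ∀ n n', μ (n + n') = μ n + μ n'
  bal : ∀ (r : A) (n : N), μ (r • n) = a.φ r ≫ μ n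

section Basic

variable {A : Type*} [CommRing A] {N : Type*} [AddCommGroup N] [Module A N]
  {K : Cx.{u}} {a : Act A K} {K' : Cx.{u}} (F : Fam A N a K')

theorem Fam.zero : F.μ 0 = 0 := by
  have h := F.add 0 0
  rw [add_zero] at h
  exact left_eq_add.mp h

/-- the map on homology, from the module-carrying synonym -/
noncomputable def hm (a : Act A K) (f : K ⟶ K') (q : ℕ) :
    a.H q →+ (K'.homology q : AddCommGrpCat.{u}) :=
  (homologyMap f q).hom

theorem hm_apply (f : K ⟶ K') (q : ℕ) (x : a.H q) : hm a f q x = (homologyMap f q).hom x := rfl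

theorem hm_add (f f' : K ⟶ K') (q : ℕ) (x : a.H q) :
    hm a (f + f') q x = hm a f q x + hm a f' q x := by
  show (homologyMap (f + f') q).hom x = (homologyMap f q).hom x + (homologyMap f' q).hom x
  rw [homologyMap_add]
  rfl

theorem hm_zero (q : ℕ) (x : a.H q) : hm a (0 : K ⟶ K') q x = 0 := by
  show (homologyMap (0 : K ⟶ K') q).hom x = 0
  rw [homologyMap_zero]
  rfl

theorem hm_smul (f : K ⟶ K') (q : ℕ) (r : A) (x : a.H q) :
    hm a f q (r • x) = hm a (a.φ r ≫ f) q x := by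
  show (homologyMap f q).hom ((homologyMap (a.φ r) q).hom x) = (homologyMap (a.φ r ≫ f) q).hom x
  rw [Act.hm_comp]

/-- the twisted comparison map `N ⊗_A H^q(K) → H^q(K')` -/
noncomputable def twH (q : ℕ) : N ⊗[A] a.H q →+ (K'.homology q : AddCommGrpCat.{u}) :=
  TensorProduct.liftAddHom
    { toFun := fun n => hm a (F.μ n) q
      map_zero' := by
        apply AddMonoidHom.ext
        intro x
        rw [F.zero, hm_zero]
        rfl
      map_add' := fun n n' => by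
        apply AddMonoidHom.ext
        intro x
        rw [F.add, hm_add]
        rfl }
    (fun r n x => by
      show hm a (F.μ (r • n)) q x = hm a (F.μ n) q (r • x)
      rw [hm_smul, F.bal])

theorem twH_tmul (q : ℕ) (n : N) (x : a.H q) :
    twH F q (n ⊗ₜ[A] x) = (homologyMap (F.μ n) q).hom x := rfl

/-- the twisted base change property in degree `q` -/
def TwBC (q : ℕ) : Prop := Function.Bijective (twH F q)

end Basic

section Ladder

variable {A : Type*} [CommRing A] {N : Type*} [AddCommGroup N] [Module A N]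
  {S S' : ShortComplex Cx.{u}} (hS : S.ShortExact) (hS' : S'.ShortExact)
  (a₁ : Act A S.X₁) (a₂ : Act A S.X₂) (a₃ : Act A S.X₃)
  (hf : ∀ r, a₁.φ r ≫ S.f = S.f ≫ a₂.φ r) (hg : ∀ r, a₂.φ r ≫ S.g = S.g ≫ a₃.φ r)
  (F₁ : Fam A N a₁ S'.X₁) (F₂ : Fam A N a₂ S'.X₂) (F₃ : Fam A N a₃ S'.X₃)
  (c₁ : ∀ n, F₁.μ n ≫ S'.f = S.f ≫ F₂.μ n) (c₂ : ∀ n, F₂.μ n ≫ S'.g = S.g ≫ F₃.μ n)

/-- top row maps -/
noncomputable def tf (q : ℕ) : N ⊗[A] a₁.H q →+ N ⊗[A] a₂.H q :=
  ((hlin a₁ a₂ S.f hf q).lTensor N).toAddMonoidHom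

noncomputable def tg (q : ℕ) : N ⊗[A] a₂.H q →+ N ⊗[A] a₃.H q :=
  ((hlin a₂ a₃ S.g hg q).lTensor N).toAddMonoidHom

noncomputable def tδ (i j : ℕ) (hij : (ComplexShape.up ℕ).Rel i j) :
    N ⊗[A] a₃.H i →+ N ⊗[A] a₁.H j :=
  ((δlin hS a₁ a₂ a₃ hf hg i j hij).lTensor N).toAddMonoidHom

theorem tf_tmul (q : ℕ) (n : N) (x : a₁.H q) :
    tf a₁ a₂ hf q (n ⊗ₜ[A] x) = n ⊗ₜ[A] (hlin a₁ a₂ S.f hf q x) := rfl

theorem tg_tmul (q : ℕ) (n : N) (x : a₂.H q) :
    tg a₂ a₃ hg q (n ⊗ₜ[A] x) = n ⊗ₜ[A] (hlin a₂ a₃ S.g hg q x) := rfl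

theorem tδ_tmul (i j : ℕ) (hij : (ComplexShape.up ℕ).Rel i j) (n : N) (x : a₃.H i) :
    tδ hS a₁ a₂ a₃ hf hg i j hij (n ⊗ₜ[A] x) = n ⊗ₜ[A] (δlin hS a₁ a₂ a₃ hf hg i j hij x) := rfl

include c₁ in
theorem sq_f (q : ℕ) :
    ((homologyMap S'.f q).hom).comp (twH F₁ q) = (twH F₂ q).comp (tf a₁ a₂ hf q) := by
  apply AddMonoidHom.ext
  intro w
  induction w using TensorProduct.induction_on with
  | zero => rw [map_zero, map_zero]
  | tmul n x =>
    show (homologyMap S'.f q).hom ((homologyMap (F₁.μ n) q).hom x) =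
      (homologyMap (F₂.μ n) q).hom ((homologyMap S.f q).hom x)
    rw [Act.hm_comp, Act.hm_comp, c₁]
  | add z w hz hw => rw [map_add, map_add, hz, hw]

include c₂ in
theorem sq_g (q : ℕ) :
    ((homologyMap S'.g q).hom).comp (twH F₂ q) = (twH F₃ q).comp (tg a₂ a₃ hg q) := by
  apply AddMonoidHom.ext
  intro w
  induction w using TensorProduct.induction_on with
  | zero => rw [map_zero, map_zero]
  | tmul n x =>
    show (homologyMap S'.g q).hom ((homologyMap (F₂.μ n) q).hom x) =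
      (homologyMap (F₃.μ n) q).hom ((homologyMap S.g q).hom x)
    rw [Act.hm_comp, Act.hm_comp, c₂]
  | add z w hz hw => rw [map_add, map_add, hz, hw]

include c₁ c₂ in
theorem sq_δ (i j : ℕ) (hij : (ComplexShape.up ℕ).Rel i j) :
    ((hS'.δ i j hij).hom).comp (twH F₃ i) = (twH F₁ j).comp (tδ hS a₁ a₂ a₃ hf hg i j hij) := by
  apply AddMonoidHom.ext
  intro w
  induction w using TensorProduct.induction_on with
  | zero => rw [map_zero, map_zero]
  | tmul n x =>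
    let Φ : S ⟶ S' :=
      { τ₁ := F₁.μ n
        τ₂ := F₂.μ n
        τ₃ := F₃.μ n
        comm₁₂ := c₁ n
        comm₂₃ := c₂ n }
    have h := HomologicalComplex.HomologySequence.δ_naturality Φ hS hS' i j hij
    show (hS'.δ i j hij).hom ((homologyMap (F₃.μ n) i).hom x) =
      (homologyMap (F₁.μ n) j).hom ((hS.δ i j hij).hom x)
    exact (congrArg (fun ψ : S.X₃.homology i ⟶ S'.X₁.homology j => ψ.hom x) h).symm
  | add z w hz hw => rw [map_add, map_add, hz, hw]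

/-! exactness of the rows -/

include hS' in
theorem bex₂ (q : ℕ) : Function.Exact (homologyMap S'.f q).hom (homologyMap S'.g q).hom :=
  (ShortComplex.ab_exact_iff_function_exact _).mp (hS'.homology_exact₂ q)

theorem bex₃ (i j : ℕ) (hij : (ComplexShape.up ℕ).Rel i j) :
    Function.Exact (homologyMap S'.g i).hom (hS'.δ i j hij).hom :=
  (ShortComplex.ab_exact_iff_function_exact _).mp (hS'.homology_exact₃ i j hij)

theorem bex₁ (i j : ℕ) (hij : (ComplexShape.up ℕ).Rel i j) :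
    Function.Exact (hS'.δ i j hij).hom (homologyMap S'.f j).hom :=
  (ShortComplex.ab_exact_iff_function_exact _).mp (hS'.homology_exact₁ i j hij)

include hS' in
theorem binj : Function.Injective (homologyMap S'.f 0).hom := by
  haveI := hS'.mono_f
  haveI : Mono (homologyMap S'.f 0) :=
    mono_homologyMap_of_mono_of_not_rel S'.f 0 (fun j => by simp)
  exact (AddCommGrpCat.mono_iff_injective _).mp this

variable [Module.Flat A N]

include hS in
theorem tex₂ (q : ℕ) : Function.Exact (tf (N := N) a₁ a₂ hf q) (tg (N := N) a₂ a₃ hg q) :=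
  Module.Flat.lTensor_exact (R := A) N (f := hlin a₁ a₂ S.f hf q) (g := hlin a₂ a₃ S.g hg q)
    (ex₂ hS a₁ a₂ a₃ hf hg q)

theorem tex₃ (i j : ℕ) (hij : (ComplexShape.up ℕ).Rel i j) :
    Function.Exact (tg (N := N) a₂ a₃ hg i) (tδ (N := N) hS a₁ a₂ a₃ hf hg i j hij) :=
  Module.Flat.lTensor_exact (R := A) N (f := hlin a₂ a₃ S.g hg i)
    (g := δlin hS a₁ a₂ a₃ hf hg i j hij) (ex₃ hS a₁ a₂ a₃ hf hg i j hij)

theorem tex₁ (i j : ℕ) (hij : (ComplexShape.up ℕ).Rel i j) :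
    Function.Exact (tδ (N := N) hS a₁ a₂ a₃ hf hg i j hij) (tf (N := N) a₁ a₂ hf j) :=
  Module.Flat.lTensor_exact (R := A) N (f := δlin hS a₁ a₂ a₃ hf hg i j hij)
    (g := hlin a₁ a₂ S.f hf j) (ex₁ hS a₁ a₂ a₃ hf hg i j hij)

include hS in
theorem tinj : Function.Injective (tf (N := N) a₁ a₂ hf 0) :=
  Module.Flat.lTensor_preserves_injective_linearMap (R := A) (M := N) (hlin a₁ a₂ S.f hf 0)
    (hlin_f_zero_injective hS a₁ a₂ hf)

include hS hS' hf hg c₁ c₂ in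
/-- two out of three, first component -/
theorem ladder₁ (H₂ : ∀ q, TwBC F₂ q) (H₃ : ∀ q, TwBC F₃ q) (q : ℕ) : TwBC F₁ q := by
  cases q with
  | zero =>
    exact AddMonoidHom.bijective_of_bijective_of_injective_of_left_exact
      (tf a₁ a₂ hf 0) (tg a₂ a₃ hg 0) (homologyMap S'.f 0).hom (homologyMap S'.g 0).hom
      (twH F₁ 0) (twH F₂ 0) (twH F₃ 0)
      (sq_f a₁ a₂ hf F₁ F₂ c₁ 0) (sq_g a₂ a₃ hg F₂ F₃ c₂ 0)
      (tex₂ hS a₁ a₂ a₃ hf hg 0) (bex₂ hS' 0) (H₂ 0) (H₃ 0).1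
      (tinj hS a₁ a₂ hf) (binj hS')
  | succ n =>
    have hij : (ComplexShape.up ℕ).Rel n (n + 1) := rfl
    exact AddMonoidHom.bijective_of_surjective_of_bijective_of_bijective_of_injective
      (tg a₂ a₃ hg n) (tδ hS a₁ a₂ a₃ hf hg n (n + 1) hij) (tf a₁ a₂ hf (n + 1))
      (tg a₂ a₃ hg (n + 1))
      (homologyMap S'.g n).hom (hS'.δ n (n + 1) hij).hom (homologyMap S'.f (n + 1)).hom
      (homologyMap S'.g (n + 1)).hom
      (twH F₂ n) (twH F₃ n) (twH F₁ (n + 1)) (twH F₂ (n + 1)) (twH F₃ (n + 1))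
      (sq_g a₂ a₃ hg F₂ F₃ c₂ n) (sq_δ hS hS' a₁ a₂ a₃ hf hg F₁ F₂ F₃ c₁ c₂ n (n + 1) hij)
      (sq_f a₁ a₂ hf F₁ F₂ c₁ (n + 1)) (sq_g a₂ a₃ hg F₂ F₃ c₂ (n + 1))
      (tex₃ hS a₁ a₂ a₃ hf hg n (n + 1) hij) (tex₁ hS a₁ a₂ a₃ hf hg n (n + 1) hij)
      (tex₂ hS a₁ a₂ a₃ hf hg (n + 1))
      (bex₃ hS' n (n + 1) hij) (bex₁ hS' n (n + 1) hij) (bex₂ hS' (n + 1))
      (H₂ n).2 (H₃ n) (H₂ (n + 1)) (H₃ (n + 1)).1

include hS hS' hf hg c₁ c₂ in
/-- two out of three, second component -/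
theorem ladder₂ (H₁ : ∀ q, TwBC F₁ q) (H₃ : ∀ q, TwBC F₃ q) (q : ℕ) : TwBC F₂ q := by
  have hq : (ComplexShape.up ℕ).Rel q (q + 1) := rfl
  cases q with
  | zero =>
    have e₀ : Function.Exact (0 : PUnit.{1} →+ N ⊗[A] a₁.H 0) (tf a₁ a₂ hf 0) := by
      intro y
      constructor
      · intro h
        refine ⟨PUnit.unit, ?_⟩
        apply tinj hS a₁ a₂ hf
        rw [h, AddMonoidHom.zero_apply, map_zero]
      · rintro ⟨x, rfl⟩
        rw [AddMonoidHom.zero_apply, map_zero]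
    have e₀' : Function.Exact (0 : PUnit.{1} →+ (S'.X₁.homology 0 : AddCommGrpCat.{u}))
        (homologyMap S'.f 0).hom := by
      intro y
      constructor
      · intro h
        refine ⟨PUnit.unit, ?_⟩
        apply binj hS'
        rw [h, AddMonoidHom.zero_apply, map_zero]
      · rintro ⟨x, rfl⟩
        rw [AddMonoidHom.zero_apply, map_zero]
    exact AddMonoidHom.bijective_of_surjective_of_bijective_of_bijective_of_injective
      (0 : PUnit.{1} →+ N ⊗[A] a₁.H 0) (tf a₁ a₂ hf 0) (tg a₂ a₃ hg 0)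
      (tδ hS a₁ a₂ a₃ hf hg 0 1 hq)
      (0 : PUnit.{1} →+ (S'.X₁.homology 0 : AddCommGrpCat.{u})) (homologyMap S'.f 0).hom
      (homologyMap S'.g 0).hom (hS'.δ 0 1 hq).hom
      (AddMonoidHom.id PUnit.{1}) (twH F₁ 0) (twH F₂ 0) (twH F₃ 0) (twH F₁ 1)
      (AddMonoidHom.ext fun _ => (map_zero _).symm)
      (sq_f a₁ a₂ hf F₁ F₂ c₁ 0) (sq_g a₂ a₃ hg F₂ F₃ c₂ 0)
      (sq_δ hS hS' a₁ a₂ a₃ hf hg F₁ F₂ F₃ c₁ c₂ 0 1 hq)
      e₀ (tex₂ hS a₁ a₂ a₃ hf hg 0) (tex₃ hS a₁ a₂ a₃ hf hg 0 1 hq)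
      e₀' (bex₂ hS' 0) (bex₃ hS' 0 1 hq)
      (fun y => ⟨y, rfl⟩) (H₁ 0) (H₃ 0) (H₁ 1).1
  | succ n =>
    have hij : (ComplexShape.up ℕ).Rel n (n + 1) := rfl
    exact AddMonoidHom.bijective_of_surjective_of_bijective_of_bijective_of_injective
      (tδ hS a₁ a₂ a₃ hf hg n (n + 1) hij) (tf a₁ a₂ hf (n + 1)) (tg a₂ a₃ hg (n + 1))
      (tδ hS a₁ a₂ a₃ hf hg (n + 1) (n + 1 + 1) hq)
      (hS'.δ n (n + 1) hij).hom (homologyMap S'.f (n + 1)).hom (homologyMap S'.g (n + 1)).hom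
      (hS'.δ (n + 1) (n + 1 + 1) hq).hom
      (twH F₃ n) (twH F₁ (n + 1)) (twH F₂ (n + 1)) (twH F₃ (n + 1)) (twH F₁ (n + 1 + 1))
      (sq_δ hS hS' a₁ a₂ a₃ hf hg F₁ F₂ F₃ c₁ c₂ n (n + 1) hij)
      (sq_f a₁ a₂ hf F₁ F₂ c₁ (n + 1)) (sq_g a₂ a₃ hg F₂ F₃ c₂ (n + 1))
      (sq_δ hS hS' a₁ a₂ a₃ hf hg F₁ F₂ F₃ c₁ c₂ (n + 1) (n + 1 + 1) hq)
      (tex₁ hS a₁ a₂ a₃ hf hg n (n + 1) hij) (tex₂ hS a₁ a₂ a₃ hf hg (n + 1))
      (tex₃ hS a₁ a₂ a₃ hf hg (n + 1) (n + 1 + 1) hq)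
      (bex₁ hS' n (n + 1) hij) (bex₂ hS' (n + 1)) (bex₃ hS' (n + 1) (n + 1 + 1) hq)
      (H₃ n).2 (H₁ (n + 1)) (H₃ (n + 1)) (H₁ (n + 1 + 1)).1

end Ladder

end Groth.Agent.Lib.TwLadder
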