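import Mathlib
import Groth.Prelude.Def_RDer
import Groth.Agent.Lib.TwAff_helper2
import Groth.Agent.Lib.TwLadder_helper2
import Groth.Agent.Lib.FlatBCQ1_helper2

/-!
# Twisted base change for complexes of sections (helper2)

For a cartesian square `X' = X ×_S S'`, a quasi-coherent `G` on `S'` whose sections over the
affine `V' ⊆ g⁻¹V` are flat over `Γ(S, V)`, `T = f'^* G ⊗ g'^* (-)`, injective resolutions `I` of a
quasi-coherent `M` and `J` of `T M`, and `φ : T I ⟶ J` over the identity: for every quasi-compact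
open `W ⊆ f⁻¹V` the maps `Γ(G, V') ⊗ H^q(Γ(W, I)) → H^q(Γ(g'⁻¹W ∩ f'⁻¹V', J))` are bijective.
APPEND-ONLY once landed.
-/

set_option autoImplicit false
universe u

open CategoryTheory CategoryTheory.Limits AlgebraicGeometry Opposite TopologicalSpace
  HomologicalComplex TensorProduct

namespace Groth.Agent.Lib.TwPW

open Groth.Agent.Lib.SecCx Groth.Agent.Lib.ActCx Groth.Agent.Lib.TwLadder Groth.Agent.Lib.TwSec
  Groth.Agent.Lib.TwFun Groth.Agent.Lib.TwAff Groth.Agent.Lib.FlatBCQ Groth.Agent.Lib.SecDer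
  Groth.Agent.Lib.StalkTensH3 QcqsLoc

section ZH

variable {C C' : Type*} [Category C] [Abelian C] [Category C'] [Abelian C'] (T : C ⥤ C')
  [T.Additive] {M : C} (I : InjectiveResolution M) (J : InjectiveResolution (T.obj M))
  (φ : (T.mapHomologicalComplex (ComplexShape.up ℕ)).obj I.cocomplex ⟶ J.cocomplex)
  (hφ : T.map (I.ι.f 0) ≫ φ.f 0 = J.ι.f 0)

include hφ in
lemma zH_tauT (F : C ⥤ AddCommGrpCat.{u}) [F.Additive] (F' : C' ⥤ AddCommGrpCat.{u})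
    [F'.Additive] (ν : F ⟶ T ⋙ F') :
    zH I F ≫ homologyMap (tauT T φ F F' ν) 0 = ν.app M ≫ zH J F' := by
  let ιI : M ⟶ I.cocomplex.X 0 := I.ι.f 0
  let ιJ : T.obj M ⟶ J.cocomplex.X 0 := J.ι.f 0
  let φ0 : T.obj (I.cocomplex.X 0) ⟶ J.cocomplex.X 0 := φ.f 0
  let ν0 : F.obj (I.cocomplex.X 0) ⟶ F'.obj (T.obj (I.cocomplex.X 0)) := ν.app (I.cocomplex.X 0)
  let νM : F.obj M ⟶ F'.obj (T.obj M) := ν.app M
  have hφ' : T.map ιI ≫ φ0 = ιJ := hφ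
  have hnat : F.map ιI ≫ ν0 = νM ≫ F'.map (T.map ιI) := ν.naturality ιI
  have e3 : F.map ιI ≫ (ν0 ≫ F'.map φ0) = νM ≫ F'.map ιJ := by
    rw [← Category.assoc, hnat, Category.assoc, ← F'.map_comp, hφ']
  have e1 : (I.toRightDerivedZero' F ≫ cyclesMap (tauT T φ F F' ν) 0) ≫
      ((F'.mapHomologicalComplex (ComplexShape.up ℕ)).obj J.cocomplex).iCycles 0 =
      F.map ιI ≫ (ν0 ≫ F'.map φ0) := by
    rw [Category.assoc, cyclesMap_i, ← Category.assoc,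
      InjectiveResolution.toRightDerivedZero'_comp_iCycles]
    rfl
  have e2 : (νM ≫ J.toRightDerivedZero' F') ≫
      ((F'.mapHomologicalComplex (ComplexShape.up ℕ)).obj J.cocomplex).iCycles 0 =
      νM ≫ F'.map ιJ := by
    rw [Category.assoc, InjectiveResolution.toRightDerivedZero'_comp_iCycles]
    rfl
  have e4 : I.toRightDerivedZero' F ≫ cyclesMap (tauT T φ F F' ν) 0 =
      νM ≫ J.toRightDerivedZero' F' := by
    rw [← cancel_mono (((F'.mapHomologicalComplex (ComplexShape.up ℕ)).obj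
      J.cocomplex).iCycles 0), e1, e2, e3]
  unfold zH
  rw [Category.assoc, homologyπ_naturality, ← Category.assoc, e4, Category.assoc]

end ZH

section Fam

variable {X S X' S' : Scheme.{u}} {f : X ⟶ S} {g : S' ⟶ S} {g' : X' ⟶ X} {f' : X' ⟶ S'}
  (hc : IsPullback g' f' f g) (G : S'.Modules) {V : S.Opens} {V' : S'.Opens}
  (hVV : V' ≤ g ⁻¹ᵁ V)

/-- sections of `G` over `V'`, as a module over `Γ(S, V)` -/
def NG (g : S' ⟶ S) (G : S'.Modules) {V : S.Opens} {V' : S'.Opens} (_ : V' ≤ g ⁻¹ᵁ V) :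
    Type u := Γ(G, V')

noncomputable instance : AddCommGroup (NG g G hVV) := inferInstanceAs (AddCommGroup Γ(G, V'))

noncomputable instance : Module Γ(S, V) (NG g G hVV) :=
  Module.compHom Γ(G, V') (g.appLE V V' hVV).hom

lemma NG_smul (r : Γ(S, V)) (n : NG g G hVV) :
    r • n = (show NG g G hVV from ((g.appLE V V' hVV).hom r • (show Γ(G, V') from n) : Γ(G, V'))) :=
  rfl

/-- the twisting functor `f'^* G ⊗ g'^* (-)` -/
noncomputable abbrev TT (g' : X' ⟶ X) (f' : X' ⟶ S') (G : S'.Modules) : X.Modules ⥤ X'.Modules :=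
  TP g' ((Scheme.Modules.pullback f').obj G)

variable {K : CochainComplex X.Modules ℕ} {L : CochainComplex X'.Modules ℕ}
  (φ : ((TT g' f' G).mapHomologicalComplex (ComplexShape.up ℕ)).obj K ⟶ L)

/-- the section of `f'^* G` attached to a section of `G` -/
noncomputable def pn (f' : X' ⟶ S') (G : S'.Modules) {V' : S'.Opens} {Q : X'.Opens}
    (hQ : Q ≤ f' ⁻¹ᵁ V') (n : Γ(G, V')) : Γ((Scheme.Modules.pullback f').obj G, Q) :=
  PBH8.cUV f' G hQ n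

lemma pn_res {Q Q' : X'.Opens} (hQ : Q ≤ f' ⁻¹ᵁ V') (k : Q' ≤ Q) (n : Γ(G, V')) :
    rF ((Scheme.Modules.pullback f').obj G) k (pn f' G hQ n) = pn f' G (k.trans hQ) n :=
  PBH8.cUV_res f' G hQ k n

include hc in
lemma pn_smul {W : X.Opens} (hW : W ≤ f ⁻¹ᵁ V) {Q : X'.Opens} (hQ₁ : Q ≤ g' ⁻¹ᵁ W)
    (hQ₂ : Q ≤ f' ⁻¹ᵁ V') (r : Γ(S, V)) (n : Γ(G, V')) :
    pn f' G hQ₂ ((g.appLE V V' hVV).hom r • n) =
      (g'.appLE W Q hQ₁).hom ((f.appLE V W hW).hom r) • pn f' G hQ₂ n := by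
  unfold pn
  rw [PBH8.cUV_smul, QBCH8.appLE_comm_apply hc hW hVV hQ₁ hQ₂ r]

include hc in
/-- the family of chain maps `Γ(W, K) → Γ(g'⁻¹W ∩ f'⁻¹V', L)` indexed by sections of `G` -/
noncomputable def famW (W : X.Opens) (hW : W ≤ f ⁻¹ᵁ V) :
    Fam Γ(S, V) (NG g G hVV) (secAct K (f.appLE V W hW).hom)
      (secCx L (g' ⁻¹ᵁ W ⊓ f' ⁻¹ᵁ V')) where
  μ n := tauT (TT g' f' G) φ (Γf W) (Γf (g' ⁻¹ᵁ W ⊓ f' ⁻¹ᵁ V'))
    (nuS g' ((Scheme.Modules.pullback f').obj G) inf_le_left (pn f' G inf_le_right n))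
  add n n' := by
    refine tauT_add (TT g' f' G) φ _ _ _ (fun M => ?_)
    have h1 : pn f' G (inf_le_right : g' ⁻¹ᵁ W ⊓ f' ⁻¹ᵁ V' ≤ f' ⁻¹ᵁ V')
        ((show Γ(G, V') from n) + (show Γ(G, V') from n')) =
        pn f' G inf_le_right n + pn f' G inf_le_right n' := PBH8.cUV_add f' G _ _ _
    have h2 := nuS_add g' ((Scheme.Modules.pullback f').obj G)
      (inf_le_left : g' ⁻¹ᵁ W ⊓ f' ⁻¹ᵁ V' ≤ g' ⁻¹ᵁ W) (pn f' G inf_le_right n)
      (pn f' G inf_le_right n') M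
    rw [← h1] at h2
    exact h2
  bal r n := by
    refine tauT_pre (TT g' f' G) φ _ _ (smulΓ ((f.appLE V W hW).hom r)) (fun M => ?_)
    have h1 := pn_smul hc G hVV hW (inf_le_left : g' ⁻¹ᵁ W ⊓ f' ⁻¹ᵁ V' ≤ g' ⁻¹ᵁ W)
      inf_le_right r n
    have h2 := nuS_smul g' ((Scheme.Modules.pullback f').obj G)
      (inf_le_left : g' ⁻¹ᵁ W ⊓ f' ⁻¹ᵁ V' ≤ g' ⁻¹ᵁ W) (pn f' G inf_le_right n)
      ((f.appLE V W hW).hom r) M
    rw [← h1] at h2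
    exact h2

include hc in
/-- the family for the product complexes -/
noncomputable def famW₂ (W₁ W₂ : X.Opens) (hW₁ : W₁ ≤ f ⁻¹ᵁ V) (hW₂ : W₂ ≤ f ⁻¹ᵁ V) :
    Fam Γ(S, V) (NG g G hVV) (secAct₂ K (f.appLE V W₁ hW₁).hom (f.appLE V W₂ hW₂).hom)
      (secCx₂ L (g' ⁻¹ᵁ W₁ ⊓ f' ⁻¹ᵁ V') (g' ⁻¹ᵁ W₂ ⊓ f' ⁻¹ᵁ V')) where
  μ n := tauT (TT g' f' G) φ (Γ₂ W₁ W₂) (Γ₂ (g' ⁻¹ᵁ W₁ ⊓ f' ⁻¹ᵁ V') (g' ⁻¹ᵁ W₂ ⊓ f' ⁻¹ᵁ V'))
    (nuS₂ g' ((Scheme.Modules.pullback f').obj G) inf_le_left inf_le_left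
      (pn f' G inf_le_right n) (pn f' G inf_le_right n))
  add n n' := by
    refine tauT_add (TT g' f' G) φ _ _ _ (fun M => ?_)
    have h1 : pn f' G (inf_le_right : g' ⁻¹ᵁ W₁ ⊓ f' ⁻¹ᵁ V' ≤ f' ⁻¹ᵁ V')
        ((show Γ(G, V') from n) + (show Γ(G, V') from n')) =
        pn f' G inf_le_right n + pn f' G inf_le_right n' := PBH8.cUV_add f' G _ _ _
    have h1' : pn f' G (inf_le_right : g' ⁻¹ᵁ W₂ ⊓ f' ⁻¹ᵁ V' ≤ f' ⁻¹ᵁ V')
        ((show Γ(G, V') from n) + (show Γ(G, V') from n')) =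
        pn f' G inf_le_right n + pn f' G inf_le_right n' := PBH8.cUV_add f' G _ _ _
    have h2 := nuS₂_add g' ((Scheme.Modules.pullback f').obj G)
      (inf_le_left : g' ⁻¹ᵁ W₁ ⊓ f' ⁻¹ᵁ V' ≤ g' ⁻¹ᵁ W₁)
      (inf_le_left : g' ⁻¹ᵁ W₂ ⊓ f' ⁻¹ᵁ V' ≤ g' ⁻¹ᵁ W₂) (pn f' G inf_le_right n)
      (pn f' G inf_le_right n') (pn f' G inf_le_right n) (pn f' G inf_le_right n') M
    rw [← h1, ← h1'] at h2
    exact h2
  bal r n := by
    refine tauT_pre (TT g' f' G) φ _ _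
      (smulΓ₂ ((f.appLE V W₁ hW₁).hom r) ((f.appLE V W₂ hW₂).hom r)) (fun M => ?_)
    have h1 := pn_smul hc G hVV hW₁ (inf_le_left : g' ⁻¹ᵁ W₁ ⊓ f' ⁻¹ᵁ V' ≤ g' ⁻¹ᵁ W₁)
      inf_le_right r n
    have h1' := pn_smul hc G hVV hW₂ (inf_le_left : g' ⁻¹ᵁ W₂ ⊓ f' ⁻¹ᵁ V' ≤ g' ⁻¹ᵁ W₂)
      inf_le_right r n
    have h2 := nuS₂_smul g' ((Scheme.Modules.pullback f').obj G)
      (inf_le_left : g' ⁻¹ᵁ W₁ ⊓ f' ⁻¹ᵁ V' ≤ g' ⁻¹ᵁ W₁)
      (inf_le_left : g' ⁻¹ᵁ W₂ ⊓ f' ⁻¹ᵁ V' ≤ g' ⁻¹ᵁ W₂) (pn f' G inf_le_right n)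
      (pn f' G inf_le_right n) ((f.appLE V W₁ hW₁).hom r) ((f.appLE V W₂ hW₂).hom r) M
    rw [← h1, ← h1'] at h2
    exact h2

/-- the twisted base change property for `W` -/
def PWt (W : X.Opens) : Prop :=
  ∀ (hW : W ≤ f ⁻¹ᵁ V) (q : ℕ), TwBC (famW hc G hVV φ W hW) q

end Fam

section Affine

lemma subsingleton_tensor {A : Type*} [CommRing A] {N H : Type*} [AddCommGroup N] [Module A N]
    [AddCommGroup H] [Module A H] [Subsingleton H] : Subsingleton (N ⊗[A] H) := by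
  refine ⟨fun a b => ?_⟩
  have key : ∀ t : N ⊗[A] H, t = 0 := by
    intro t
    induction t using TensorProduct.induction_on with
    | zero => rfl
    | tmul n x => rw [Subsingleton.elim x 0, TensorProduct.tmul_zero]
    | add x y hx hy => rw [hx, hy, add_zero]
  rw [key a, key b]

variable {X S X' S' : Scheme.{u}} {f : X ⟶ S} {g : S' ⟶ S} {g' : X' ⟶ X} {f' : X' ⟶ S'}
  (hc : IsPullback g' f' f g) (G : S'.Modules) [G.IsQuasicoherent] {V : S.Opens}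
  {V' : S'.Opens} (hV : IsAffineOpen V) (hV' : IsAffineOpen V') (hVV : V' ≤ g ⁻¹ᵁ V)
  [HasInjectiveResolutions X.Modules] [HasInjectiveResolutions X'.Modules]
  (M : X.Modules) [M.IsQuasicoherent] (I : InjectiveResolution M)
  (J : InjectiveResolution ((TT g' f' G).obj M))
  (φ : ((TT g' f' G).mapHomologicalComplex (ComplexShape.up ℕ)).obj I.cocomplex ⟶ J.cocomplex)
  (hφ : (TT g' f' G).map (I.ι.f 0) ≫ φ.f 0 = J.ι.f 0)

include hV hV' hφ in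
/-- the affine case -/
theorem PWt_affine (W : X.Opens) (hW : IsAffineOpen W) : PWt hc G hVV φ W := by
  intro hWV q
  obtain ⟨hW', -⟩ := FlatBC2H8.affine_pushout hc hV hW hV' hWV hVV
  haveI : ((Scheme.Modules.pullback f').obj G).IsQuasicoherent :=
    PBH8.isQuasicoherent_pullback f' G
  haveI : ((Scheme.Modules.pullback g').obj M).IsQuasicoherent :=
    PBH8.isQuasicoherent_pullback g' M
  haveI hTM : ((TT g' f' G).obj M).IsQuasicoherent :=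
    TensQCH8.isQuasicoherent_tensorMod _ _
  cases q with
  | succ n =>
    haveI : Subsingleton ((secAct I.cocomplex (f.appLE V W hWV).hom).H (n + 1)) := by
      have hz : IsZero ((((Γf W).mapHomologicalComplex (ComplexShape.up ℕ)).obj
          I.cocomplex).homology (n + 1)) :=
        IsZero.of_iso (isZero_rightDerived_of_isAffineOpen hW M n)
          (I.isoRightDerivedObj (Γf W) (n + 1)).symm
      exact AddCommGrpCat.subsingleton_of_isZero hz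
    haveI : Subsingleton (NG g G hVV ⊗[Γ(S, V)]
        (secAct I.cocomplex (f.appLE V W hWV).hom).H (n + 1)) := subsingleton_tensor
    haveI : Subsingleton ((secCx J.cocomplex (g' ⁻¹ᵁ W ⊓ f' ⁻¹ᵁ V')).homology (n + 1) :
        AddCommGrpCat.{u}) := by
      have hz : IsZero ((((Γf (g' ⁻¹ᵁ W ⊓ f' ⁻¹ᵁ V')).mapHomologicalComplex
          (ComplexShape.up ℕ)).obj J.cocomplex).homology (n + 1)) :=
        IsZero.of_iso (isZero_rightDerived_of_isAffineOpen hW' _ n)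
          (J.isoRightDerivedObj (Γf (g' ⁻¹ᵁ W ⊓ f' ⁻¹ᵁ V')) (n + 1)).symm
      exact AddCommGrpCat.subsingleton_of_isZero hz
    exact ⟨fun a b _ => Subsingleton.elim a b, fun y => ⟨0, Subsingleton.elim _ _⟩⟩
  | zero =>
    let W' : X'.Opens := g' ⁻¹ᵁ W ⊓ f' ⁻¹ᵁ V'
    let TM : X'.Modules := (TT g' f' G).obj M
    letI mA : Module Γ(S, V) Γ(M, W) := Module.compHom _ (f.appLE V W hWV).hom
    let e : Γ(M, W) ≃ₗ[Γ(S, V)] (secAct I.cocomplex (f.appLE V W hWV).hom).H 0 :=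
      zLin (f.appLE V W hWV).hom I
    let eN : NG g G hVV ⊗[Γ(S, V)] Γ(M, W) ≃ₗ[Γ(S, V)]
        NG g G hVV ⊗[Γ(S, V)] (secAct I.cocomplex (f.appLE V W hWV).hom).H 0 :=
      TensorProduct.congr (LinearEquiv.refl Γ(S, V) (NG g G hVV)) e
    let zJ : Γ(TM, W') ≃+ ((secCx J.cocomplex W').homology 0 : AddCommGrpCat.{u}) :=
      (asIso (zH J (Γf W'))).addCommGroupIsoToAddEquiv
    let Θ₀ : NG g G hVV ⊗[Γ(S, V)] Γ(M, W) →+ Γ(TM, W') :=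
      zJ.symm.toAddMonoidHom.comp
        ((twH (famW hc G hVV φ W hWV) 0).comp eN.toLinearMap.toAddMonoidHom)
    have hform : ∀ (n : Γ(G, V')) (x : Γ(M, W)), Θ₀ ((show NG g G hVV from n) ⊗ₜ x) =
        tm ((Scheme.Modules.pullback f').obj G) ((Scheme.Modules.pullback g').obj M) W'
          (PBH8.cUV f' G inf_le_right n) (PBH8.cUV g' M inf_le_left x) := by
      intro n x
      show zJ.symm (twH (famW hc G hVV φ W hWV) 0 ((show NG g G hVV from n) ⊗ₜ (e x))) = _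
      rw [AddEquiv.symm_apply_eq]
      have h := zH_tauT (TT g' f' G) I J φ hφ (Γf W) (Γf W')
        (nuS g' ((Scheme.Modules.pullback f').obj G) inf_le_left (pn f' G inf_le_right n))
      exact congrArg (fun ψ : (Γf W).obj M ⟶ _ => ψ.hom x) h
    have hbij₀ : Function.Bijective Θ₀ :=
      tw_affine_bijective hc G M hV hV' hW hVV hWV W' inf_le_left inf_le_right le_rfl Θ₀ hform
    have h1 : ⇑(twH (famW hc G hVV φ W hWV) 0) = ⇑zJ ∘ ⇑Θ₀ ∘ ⇑eN.symm := by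
      funext w
      show twH (famW hc G hVV φ W hWV) 0 w =
        zJ (zJ.symm (twH (famW hc G hVV φ W hWV) 0 (eN (eN.symm w))))
      rw [AddEquiv.apply_symm_apply, LinearEquiv.apply_symm_apply]
    show Function.Bijective (twH (famW hc G hVV φ W hWV) 0)
    rw [h1]
    exact zJ.bijective.comp (hbij₀.comp eN.symm.bijective)

end Affine

section MV

variable {X S X' S' : Scheme.{u}} {f : X ⟶ S} {g : S' ⟶ S} {g' : X' ⟶ X} {f' : X' ⟶ S'}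
  (hc : IsPullback g' f' f g) (G : S'.Modules) {V : S.Opens} {V' : S'.Opens}
  (hVV : V' ≤ g ⁻¹ᵁ V) {K : CochainComplex X.Modules ℕ} {L : CochainComplex X'.Modules ℕ}
  (φ : ((TT g' f' G).mapHomologicalComplex (ComplexShape.up ℕ)).obj K ⟶ L)
  (hK : ∀ n, Injective (K.X n)) (hL : ∀ n, Injective (L.X n))
  [Module.Flat Γ(S, V) (NG g G hVV)]

include hK hL in
/-- the Mayer–Vietoris step -/
theorem PWt_sup (W₁ W₂ : X.Opens) (h₁ : PWt hc G hVV φ W₁) (h₂ : PWt hc G hVV φ W₂)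
    (h₁₂ : PWt hc G hVV φ (W₁ ⊓ W₂)) : PWt hc G hVV φ (W₁ ⊔ W₂) := by
  intro hWV q
  have hW₁ : W₁ ≤ f ⁻¹ᵁ V := le_sup_left.trans hWV
  have hW₂ : W₂ ≤ f ⁻¹ᵁ V := le_sup_right.trans hWV
  have hW₁₂ : W₁ ⊓ W₂ ≤ f ⁻¹ᵁ V := inf_le_left.trans hW₁
  have hpre : ∀ {A B : X.Opens}, A ≤ B → g' ⁻¹ᵁ A ⊓ f' ⁻¹ᵁ V' ≤ g' ⁻¹ᵁ B ⊓ f' ⁻¹ᵁ V' :=
    fun h x hx => ⟨h hx.1, hx.2⟩
  have hP₁ : g' ⁻¹ᵁ W₁ ⊓ f' ⁻¹ᵁ V' ≤ g' ⁻¹ᵁ (W₁ ⊔ W₂) ⊓ f' ⁻¹ᵁ V' := hpre le_sup_left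
  have hP₂ : g' ⁻¹ᵁ W₂ ⊓ f' ⁻¹ᵁ V' ≤ g' ⁻¹ᵁ (W₁ ⊔ W₂) ⊓ f' ⁻¹ᵁ V' := hpre le_sup_right
  have hP₁' : g' ⁻¹ᵁ (W₁ ⊓ W₂) ⊓ f' ⁻¹ᵁ V' ≤ g' ⁻¹ᵁ W₁ ⊓ f' ⁻¹ᵁ V' := hpre inf_le_left
  have hP₂' : g' ⁻¹ᵁ (W₁ ⊓ W₂) ⊓ f' ⁻¹ᵁ V' ≤ g' ⁻¹ᵁ W₂ ⊓ f' ⁻¹ᵁ V' := hpre inf_le_right
  have hPc : g' ⁻¹ᵁ (W₁ ⊔ W₂) ⊓ f' ⁻¹ᵁ V' ≤
      (g' ⁻¹ᵁ W₁ ⊓ f' ⁻¹ᵁ V') ⊔ (g' ⁻¹ᵁ W₂ ⊓ f' ⁻¹ᵁ V') := by
    rintro x ⟨hx1, hx2⟩
    rcases hx1 with h | h
    · exact Or.inl ⟨h, hx2⟩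
    · exact Or.inr ⟨h, hx2⟩
  have hPi : (g' ⁻¹ᵁ W₁ ⊓ f' ⁻¹ᵁ V') ⊓ (g' ⁻¹ᵁ W₂ ⊓ f' ⁻¹ᵁ V') ≤
      g' ⁻¹ᵁ (W₁ ⊓ W₂) ⊓ f' ⁻¹ᵁ V' := fun x hx => ⟨⟨hx.1.1, hx.2.1⟩, hx.1.2⟩
  -- the split sequences
  have hT := splitS_shortExact K W₁ W₂
  have hT' := splitS_shortExact L (g' ⁻¹ᵁ W₁ ⊓ f' ⁻¹ᵁ V') (g' ⁻¹ᵁ W₂ ⊓ f' ⁻¹ᵁ V')
  have H₂ : ∀ q, TwBC (famW₂ hc G hVV φ W₁ W₂ hW₁ hW₂) q :=
    TwLadder.ladder₂ hT hT' (secAct K (f.appLE V W₁ hW₁).hom)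
      (secAct₂ K (f.appLE V W₁ hW₁).hom (f.appLE V W₂ hW₂).hom)
      (secAct K (f.appLE V W₂ hW₂).hom)
      (fun r => mapHC_comm K (smulΓ _) inl₂ inl₂ (smulΓ₂ _ _) (smul_inl₂ _ _))
      (fun r => mapHC_comm K (smulΓ₂ _ _) pr₂ pr₂ (smulΓ _) (smul_pr₂ _ _))
      (famW hc G hVV φ W₁ hW₁) (famW₂ hc G hVV φ W₁ W₂ hW₁ hW₂) (famW hc G hVV φ W₂ hW₂)
      (fun n => tauT_comp (TT g' f' G) φ _ _ inl₂ inl₂
        (fun M => nuS_inl₂ g' ((Scheme.Modules.pullback f').obj G) inf_le_left inf_le_left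
          (pn f' G inf_le_right n) (pn f' G inf_le_right n) M))
      (fun n => tauT_comp (TT g' f' G) φ _ _ pr₂ pr₂
        (fun M => nuS_pr₂ g' ((Scheme.Modules.pullback f').obj G) inf_le_left inf_le_left
          (pn f' G inf_le_right n) (pn f' G inf_le_right n) M))
      (h₁ hW₁) (h₂ hW₂)
  -- the Mayer–Vietoris sequences
  have hS : (mvS K (le_sup_left : W₁ ≤ W₁ ⊔ W₂) le_sup_right
      (inf_le_left : W₁ ⊓ W₂ ≤ W₁) inf_le_right).ShortExact :=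
    mvS_shortExact K _ _ _ _ le_rfl le_rfl (fun n => by
      haveI := hK n
      exact res_surjective_of_injective (K.X n) _)
  have hS' : (mvS L hP₁ hP₂ hP₁' hP₂').ShortExact :=
    mvS_shortExact L _ _ _ _ hPc hPi (fun n => by
      haveI := hL n
      exact res_surjective_of_injective (L.X n) _)
  exact TwLadder.ladder₁ hS hS' (secAct K (f.appLE V (W₁ ⊔ W₂) hWV).hom)
    (secAct₂ K (f.appLE V W₁ hW₁).hom (f.appLE V W₂ hW₂).hom)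
    (secAct K (f.appLE V (W₁ ⊓ W₂) hW₁₂).hom)
    (fun r => mapHC_comm K (smulΓ _) (mvι _ _) (mvι _ _) (smulΓ₂ _ _)
      (smul_mvι _ _ _ _ _ (appLE_res' f le_sup_left hWV r) (appLE_res' f le_sup_right hWV r)))
    (fun r => mapHC_comm K (smulΓ₂ _ _) (mvπ _ _) (mvπ _ _) (smulΓ _)
      (smul_mvπ _ _ _ _ _ (appLE_res' f inf_le_left hW₁ r) (appLE_res' f inf_le_right hW₂ r)))
    (famW hc G hVV φ (W₁ ⊔ W₂) hWV) (famW₂ hc G hVV φ W₁ W₂ hW₁ hW₂)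
    (famW hc G hVV φ (W₁ ⊓ W₂) hW₁₂)
    (fun n => tauT_comp (TT g' f' G) φ _ _ (mvι le_sup_left le_sup_right) (mvι hP₁ hP₂)
      (fun M => nuS_mvι g' ((Scheme.Modules.pullback f').obj G) le_sup_left le_sup_right hP₁ hP₂
        inf_le_left inf_le_left inf_le_left (pn f' G inf_le_right n) (pn f' G inf_le_right n)
        (pn f' G inf_le_right n) (pn_res G inf_le_right hP₁ n) (pn_res G inf_le_right hP₂ n) M))
    (fun n => tauT_comp (TT g' f' G) φ _ _ (mvπ inf_le_left inf_le_right) (mvπ hP₁' hP₂')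
      (fun M => nuS_mvπ g' ((Scheme.Modules.pullback f').obj G) inf_le_left inf_le_right hP₁' hP₂'
        inf_le_left inf_le_left inf_le_left (pn f' G inf_le_right n) (pn f' G inf_le_right n)
        (pn f' G inf_le_right n) (pn_res G inf_le_right hP₁' n) (pn_res G inf_le_right hP₂' n) M))
    H₂ (h₁₂ hW₁₂) q

end MV

section Core

variable {X S X' S' : Scheme.{u}} {f : X ⟶ S} {g : S' ⟶ S} {g' : X' ⟶ X} {f' : X' ⟶ S'}
  (hc : IsPullback g' f' f g) (G : S'.Modules) [G.IsQuasicoherent] {V : S.Opens}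
  {V' : S'.Opens} (hV : IsAffineOpen V) (hV' : IsAffineOpen V') (hVV : V' ≤ g ⁻¹ᵁ V)
  [Module.Flat Γ(S, V) (NG g G hVV)]
  [QuasiSeparated f] [HasInjectiveResolutions X.Modules] [HasInjectiveResolutions X'.Modules]
  (M : X.Modules) [M.IsQuasicoherent] (I : InjectiveResolution M)
  (J : InjectiveResolution ((TT g' f' G).obj M))
  (φ : ((TT g' f' G).mapHomologicalComplex (ComplexShape.up ℕ)).obj I.cocomplex ⟶ J.cocomplex)
  (hφ : (TT g' f' G).map (I.ι.f 0) ≫ φ.f 0 = J.ι.f 0)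

include hV hV' hφ in
/-- **Twisted base change for the complexes of sections** over quasi-compact opens. -/
theorem PWt_of_isCompact (W : X.Opens) (hW : IsCompact (W : Set X)) (hWV : W ≤ f ⁻¹ᵁ V) :
    PWt hc G hVV φ W := by
  refine qc_induction_rel (PWt hc G hVV φ) (f ⁻¹ᵁ V)
    (Scheme.Hom.isQuasiSeparated_preimage f hV.isQuasiSeparated) ?_ ?_ W hW hWV
  · intro U hU _
    exact PWt_affine hc G hV hV' hVV M I J φ hφ U hU
  · intro U₁ U₂ _ _ h₁ h₂ h₁₂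
    exact PWt_sup hc G hVV φ (fun n => inferInstance) (fun n => inferInstance) U₁ U₂ h₁ h₂ h₁₂

end Core

end Groth.Agent.Lib.TwPW
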