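import Mathlib
import Groth.Prelude.Def_CohBC2
import Groth.Agent.Lib.TwPW_helper2
import Groth.Agent.Lib.FlatBCQ2_helper2
import Groth.Agent.Lib.PForm3_helper9

/-!
# Twisted base change: the global comparison morphism (helper2)

For a cartesian square `X' = X ×_S S'`, a quasi-coherent `G` on `S'` flat over `S` and a
quasi-coherent `F` on `X` (with `f` qcqs): `G ⊗ g^* R^q f_* F ≅ R^q f'_* (f'^* G ⊗ g'^* F)`.
APPEND-ONLY once landed.
-/

set_option autoImplicit false
universe u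

open CategoryTheory CategoryTheory.Limits AlgebraicGeometry Opposite TopologicalSpace
  HomologicalComplex TensorProduct

namespace Groth.Agent.Lib.TwGlob

open Groth.Agent.Lib.SecCx Groth.Agent.Lib.ActCx Groth.Agent.Lib.TwLadder Groth.Agent.Lib.TwSec
  Groth.Agent.Lib.TwFun Groth.Agent.Lib.TwAff Groth.Agent.Lib.TwPW Groth.Agent.Lib.FlatBCQ
  Groth.Agent.Lib.SecDer Groth.Agent.Lib.StalkTensH3 QcqsLoc

section BC0

variable {X S X' S' : Scheme.{u}} (f : X ⟶ S) (g : S' ⟶ S) (f' : X' ⟶ S') (g' : X' ⟶ X)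
  (w : g' ≫ f = f' ≫ g)

/-- the identification `g'_* ⋙ f_* ≅ f'_* ⋙ g_*` of a commutative square -/
noncomputable abbrev sqI : Scheme.Modules.pushforward g' ⋙ Scheme.Modules.pushforward f ≅
    Scheme.Modules.pushforward f' ⋙ Scheme.Modules.pushforward g :=
  Scheme.Modules.pushforwardComp g' f ≪≫ Scheme.Modules.pushforwardCongr w ≪≫
    (Scheme.Modules.pushforwardComp f' g).symm

lemma bc0Adj_eq (M : X.Modules) :
    CohBC.bc0Adj f g f' g' w M =
      (Scheme.Modules.pushforward f).map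
          ((Scheme.Modules.pullbackPushforwardAdjunction g').unit.app M) ≫
        (sqI f g f' g' w).hom.app ((Scheme.Modules.pullback g').obj M) := rfl

lemma bc0Adj_natural {M M' : X.Modules} (a : M ⟶ M') :
    (Scheme.Modules.pushforward f).map a ≫ CohBC.bc0Adj f g f' g' w M' =
      CohBC.bc0Adj f g f' g' w M ≫ (Scheme.Modules.pushforward g).map
        ((Scheme.Modules.pushforward f').map ((Scheme.Modules.pullback g').map a)) := by
  rw [bc0Adj_eq, bc0Adj_eq]
  have h1 : a ≫ (Scheme.Modules.pullbackPushforwardAdjunction g').unit.app M' =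
      (Scheme.Modules.pullbackPushforwardAdjunction g').unit.app M ≫
        (Scheme.Modules.pushforward g').map ((Scheme.Modules.pullback g').map a) :=
    (Scheme.Modules.pullbackPushforwardAdjunction g').unit.naturality a
  have h2 := (sqI f g f' g' w).hom.naturality ((Scheme.Modules.pullback g').map a)
  rw [← Category.assoc, ← Functor.map_comp, h1, Functor.map_comp, Category.assoc, Category.assoc]
  congr 1

lemma bc0_natural {M M' : X.Modules} (a : M ⟶ M') :
    (Scheme.Modules.pullback g).map ((Scheme.Modules.pushforward f).map a) ≫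
        CohBC.bc0 f g f' g' w M' =
      CohBC.bc0 f g f' g' w M ≫
        (Scheme.Modules.pushforward f').map ((Scheme.Modules.pullback g').map a) := by
  unfold CohBC.bc0
  rw [← Adjunction.homEquiv_naturality_left_symm, bc0Adj_natural,
    Adjunction.homEquiv_naturality_right_symm]

set_option backward.isDefEq.respectTransparency false in
/-- the degree-zero base change morphism on the canonical sections -/
lemma bc0_cUV (M : X.Modules) {V : S.Opens} {V' : S'.Opens} (hVV : V' ≤ g ⁻¹ᵁ V)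
    (k : f' ⁻¹ᵁ V' ≤ g' ⁻¹ᵁ (f ⁻¹ᵁ V)) (x : Γ(M, f ⁻¹ᵁ V)) :
    ((CohBC.bc0 f g f' g' w M).app V').hom
        (PBH8.cUV g ((Scheme.Modules.pushforward f).obj M) hVV x) =
      PBH8.cUV g' M k x := by
  have h0 : f' ⁻¹ᵁ (g ⁻¹ᵁ V) ≤ g' ⁻¹ᵁ (f ⁻¹ᵁ V) := by
    intro z hz
    show f (g' z) ∈ V
    have : f (g' z) = g (f' z) := by
      rw [← Scheme.Hom.comp_apply, ← Scheme.Hom.comp_apply, w]
    rw [this]
    exact hz
  have h1 := transpose_cUV g ((Scheme.Modules.pushforward f).obj M)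
    ((Scheme.Modules.pushforward f').obj ((Scheme.Modules.pullback g').obj M))
    (CohBC.bc0Adj f g f' g' w M) hVV x
  refine h1.trans ?_
  let y : Γ((Scheme.Modules.pullback g').obj M, g' ⁻¹ᵁ (f ⁻¹ᵁ V)) :=
    (((Scheme.Modules.pullbackPushforwardAdjunction g').unit.app M).app (f ⁻¹ᵁ V)).hom x
  show (((Scheme.Modules.pushforward f').obj ((Scheme.Modules.pullback g').obj M)).presheaf.map
      (homOfLE hVV).op).hom ((((sqI f g f' g' w).hom.app
        ((Scheme.Modules.pullback g').obj M)).app V).hom y) =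
    (((Scheme.Modules.pullback g').obj M).presheaf.map (homOfLE k).op).hom y
  have h2 : (((sqI f g f' g' w).hom.app ((Scheme.Modules.pullback g').obj M)).app V).hom y =
      (((Scheme.Modules.pullback g').obj M).presheaf.map (homOfLE h0).op).hom y := rfl
  rw [h2, push_res, res_res]

end BC0

section Cat

universe v₁ v₂ v₃ v₄ v₅ u₁ u₂ u₃ u₄ u₅

variable {B : Type u₃} [Category.{v₃} B] [Abelian B] {B' : Type u₄} [Category.{v₄} B']
  [Abelian B']

/-- for an exact functor the comparison `H^q (E L) ⟶ E (H^q L)` is an isomorphism -/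
theorem isIso_hc_exact (E : B ⥤ B') [E.Additive] [PreservesFiniteLimits E]
    [PreservesFiniteColimits E] (L : CochainComplex B ℕ) (q : ℕ) :
    IsIso (RDer.homologyComparison E L q) := by
  cases q with
  | zero => exact Groth.Agent.Lib.HComp.isIso_homologyComparison_zero E L
  | succ n =>
    haveI := Groth.Agent.Lib.HComp.epi_beta L n
    exact Groth.Agent.Lib.HComp.isIso_homologyComparison_succ E L n inferInstance inferInstance

/-- the inverse of the comparison, for an exact functor -/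
noncomputable def invHC (E : B ⥤ B') [E.Additive] [PreservesFiniteLimits E]
    [PreservesFiniteColimits E] (L : CochainComplex B ℕ) (q : ℕ) :
    E.obj (L.homology q) ⟶ ((E.mapHomologicalComplex (ComplexShape.up ℕ)).obj L).homology q :=
  haveI := isIso_hc_exact E L q
  inv (RDer.homologyComparison E L q)

lemma hc_invHC (E : B ⥤ B') [E.Additive] [PreservesFiniteLimits E]
    [PreservesFiniteColimits E] (L : CochainComplex B ℕ) (q : ℕ) :
    RDer.homologyComparison E L q ≫ invHC E L q = 𝟙 _ := by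
  haveI := isIso_hc_exact E L q
  exact IsIso.hom_inv_id _

lemma invHC_hc (E : B ⥤ B') [E.Additive] [PreservesFiniteLimits E]
    [PreservesFiniteColimits E] (L : CochainComplex B ℕ) (q : ℕ) :
    invHC E L q ≫ RDer.homologyComparison E L q = 𝟙 _ := by
  haveI := isIso_hc_exact E L q
  exact IsIso.inv_hom_id _

variable {A : Type u₁} [Category.{v₁} A] [Abelian A] {A' : Type u₂} [Category.{v₂} A']
  [Abelian A'] [HasInjectiveResolutions A] [HasInjectiveResolutions A']
  (P : A ⥤ B) [P.Additive] (P' : A' ⥤ B') [P'.Additive] (T : A ⥤ A') [T.Additive]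
  (E : B ⥤ B') [E.Additive] [PreservesFiniteLimits E] [PreservesFiniteColimits E]
  (θ : P ⋙ E ⟶ T ⋙ P') {M : A} (I : InjectiveResolution M)
  (J : InjectiveResolution (T.obj M))
  (φ : (T.mapHomologicalComplex (ComplexShape.up ℕ)).obj I.cocomplex ⟶ J.cocomplex) (q : ℕ)

/-- the chain map `E (P I) ⟶ P' J` -/
noncomputable def psiC :
    (E.mapHomologicalComplex (ComplexShape.up ℕ)).obj
        ((P.mapHomologicalComplex (ComplexShape.up ℕ)).obj I.cocomplex) ⟶
      (P'.mapHomologicalComplex (ComplexShape.up ℕ)).obj J.cocomplex :=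
  tauT T φ (P ⋙ E) P' θ

lemma psiC_f (n : ℕ) :
    (psiC P P' T E θ I J φ).f n = θ.app (I.cocomplex.X n) ≫ P'.map (φ.f n) := rfl

/-- the comparison morphism `E (R^q P M) ⟶ R^q P' (T M)` -/
noncomputable def Lam :
    E.obj ((P.rightDerived q).obj M) ⟶ (P'.rightDerived q).obj (T.obj M) :=
  (E.map (I.isoRightDerivedObj P q).hom : E.obj ((P.rightDerived q).obj M) ⟶
      E.obj (((P.mapHomologicalComplex (ComplexShape.up ℕ)).obj I.cocomplex).homology q)) ≫
    invHC E ((P.mapHomologicalComplex (ComplexShape.up ℕ)).obj I.cocomplex) q ≫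
    homologyMap (psiC P P' T E θ I J φ) q ≫ (J.isoRightDerivedObj P' q).inv

variable {C : Type u₅} [Category.{v₅} C] [Abelian C] (Γ : B ⥤ C) [Γ.Additive]
  [PreservesFiniteLimits Γ] (Γ' : B' ⥤ C) [Γ'.Additive] [PreservesFiniteLimits Γ']
  (ε : Γ ⟶ E ⋙ Γ')

/-- the chain map `Γ (P I) ⟶ Γ' (P' J)` -/
noncomputable def muC :
    (Γ.mapHomologicalComplex (ComplexShape.up ℕ)).obj
        ((P.mapHomologicalComplex (ComplexShape.up ℕ)).obj I.cocomplex) ⟶
      (Γ'.mapHomologicalComplex (ComplexShape.up ℕ)).obj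
        ((P'.mapHomologicalComplex (ComplexShape.up ℕ)).obj J.cocomplex) :=
  ((NatTrans.mapHomologicalComplex ε (ComplexShape.up ℕ)).app
      ((P.mapHomologicalComplex (ComplexShape.up ℕ)).obj I.cocomplex) :
    (Γ.mapHomologicalComplex (ComplexShape.up ℕ)).obj
        ((P.mapHomologicalComplex (ComplexShape.up ℕ)).obj I.cocomplex) ⟶
      (Γ'.mapHomologicalComplex (ComplexShape.up ℕ)).obj
        ((E.mapHomologicalComplex (ComplexShape.up ℕ)).obj
          ((P.mapHomologicalComplex (ComplexShape.up ℕ)).obj I.cocomplex))) ≫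
    (Γ'.mapHomologicalComplex (ComplexShape.up ℕ)).map (psiC P P' T E θ I J φ)

lemma muC_f (n : ℕ) :
    (muC P P' T E θ I J φ Γ Γ' ε).f n =
      ε.app (P.obj (I.cocomplex.X n)) ≫
        Γ'.map (θ.app (I.cocomplex.X n) ≫ P'.map (φ.f n)) := rfl

set_option backward.isDefEq.respectTransparency false in
/-- sections of the comparison morphism, in terms of the complexes -/
theorem Lam_sections :
    (RDer.homologyComparison Γ
        ((P.mapHomologicalComplex (ComplexShape.up ℕ)).obj I.cocomplex) q ≫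
      Γ.map (I.isoRightDerivedObj P q).inv) ≫
      ε.app ((P.rightDerived q).obj M) ≫ Γ'.map (Lam P P' T E θ I J φ q) =
    homologyMap (muC P P' T E θ I J φ Γ Γ' ε) q ≫
      (RDer.homologyComparison Γ'
        ((P'.mapHomologicalComplex (ComplexShape.up ℕ)).obj J.cocomplex) q ≫
      Γ'.map (J.isoRightDerivedObj P' q).inv) := by
  let K := (P.mapHomologicalComplex (ComplexShape.up ℕ)).obj I.cocomplex
  let L' := (P'.mapHomologicalComplex (ComplexShape.up ℕ)).obj J.cocomplex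
  let EK := (E.mapHomologicalComplex (ComplexShape.up ℕ)).obj K
  let iI := I.isoRightDerivedObj P q
  let iJ := J.isoRightDerivedObj P' q
  let ψ : EK ⟶ L' := psiC P P' T E θ I J φ
  let A1 := (Γ.mapHomologicalComplex (ComplexShape.up ℕ)).obj K
  let A2 := (Γ'.mapHomologicalComplex (ComplexShape.up ℕ)).obj EK
  let A3 := (Γ'.mapHomologicalComplex (ComplexShape.up ℕ)).obj L'
  let eK : A1 ⟶ A2 := (NatTrans.mapHomologicalComplex ε (ComplexShape.up ℕ)).app K
  let gψ : A2 ⟶ A3 := (Γ'.mapHomologicalComplex (ComplexShape.up ℕ)).map ψ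
  let E1 : A1.homology q ⟶ Γ.obj (K.homology q) := RDer.homologyComparison Γ K q
  let E2 : A2.homology q ⟶ Γ'.obj (EK.homology q) := RDer.homologyComparison Γ' EK q
  let E3 : A3.homology q ⟶ Γ'.obj (L'.homology q) := RDer.homologyComparison Γ' L' q
  let Ee : EK.homology q ⟶ E.obj (K.homology q) := RDer.homologyComparison E K q
  let Ec : A2.homology q ⟶ Γ'.obj (E.obj (K.homology q)) :=
    RDer.homologyComparison (E ⋙ Γ') K q
  let R := (P.rightDerived q).obj M
  let m₁ : Γ.obj (K.homology q) ⟶ Γ.obj R := Γ.map iI.inv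
  let eR : Γ.obj R ⟶ Γ'.obj (E.obj R) := ε.app R
  let eH : Γ.obj (K.homology q) ⟶ Γ'.obj (E.obj (K.homology q)) := ε.app (K.homology q)
  have n1 : m₁ ≫ eR = eH ≫ Γ'.map (E.map iI.inv) := ε.naturality iI.inv
  have n2 : E1 ≫ eH = homologyMap eK q ≫ Ec :=
    Groth.Agent.Lib.HCompNat.homologyComparison_natTrans ε K q
  have n3 : Ec = E2 ≫ Γ'.map Ee :=
    Groth.Agent.Lib.HCompNat.homologyComparison_comp E Γ' K q
  have n4 : homologyMap gψ q ≫ E3 = E2 ≫ Γ'.map (homologyMap ψ q) :=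
    Groth.Agent.Lib.HCompNat.homologyComparison_naturality Γ' ψ q
  let iE : E.obj (K.homology q) ⟶ EK.homology q := invHC E K q
  have n5 : E.map iI.inv ≫ Lam P P' T E θ I J φ q = iE ≫ homologyMap ψ q ≫ iJ.inv := by
    show E.map iI.inv ≫ (E.map iI.hom ≫ iE ≫ homologyMap ψ q ≫ iJ.inv) = _
    rw [← Category.assoc, ← E.map_comp, Iso.inv_hom_id, E.map_id, Category.id_comp]
  have n6 : Γ'.map Ee ≫ Γ'.map iE = 𝟙 _ := by
    rw [← Γ'.map_comp, hc_invHC, Γ'.map_id]
  show (E1 ≫ m₁) ≫ eR ≫ Γ'.map (Lam P P' T E θ I J φ q) =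
    homologyMap (eK ≫ gψ) q ≫ (E3 ≫ Γ'.map iJ.inv)
  calc (E1 ≫ m₁) ≫ eR ≫ Γ'.map (Lam P P' T E θ I J φ q)
      = E1 ≫ (m₁ ≫ eR) ≫ Γ'.map (Lam P P' T E θ I J φ q) := by
        simp only [Category.assoc]
    _ = E1 ≫ (eH ≫ Γ'.map (E.map iI.inv)) ≫ Γ'.map (Lam P P' T E θ I J φ q) := by rw [n1]
    _ = (E1 ≫ eH) ≫ Γ'.map (E.map iI.inv ≫ Lam P P' T E θ I J φ q) := by
        rw [Γ'.map_comp]
        simp only [Category.assoc]
    _ = (homologyMap eK q ≫ E2 ≫ Γ'.map Ee) ≫
          Γ'.map (iE ≫ homologyMap ψ q ≫ iJ.inv) := by rw [n2, n3, n5]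
    _ = homologyMap eK q ≫ E2 ≫ (Γ'.map Ee ≫ Γ'.map iE) ≫
          Γ'.map (homologyMap ψ q) ≫ Γ'.map iJ.inv := by
        rw [Γ'.map_comp, Γ'.map_comp]
        simp only [Category.assoc]
    _ = homologyMap eK q ≫ (E2 ≫ Γ'.map (homologyMap ψ q)) ≫ Γ'.map iJ.inv := by
        rw [n6, Category.id_comp]
        simp only [Category.assoc]
    _ = homologyMap eK q ≫ (homologyMap gψ q ≫ E3) ≫ Γ'.map iJ.inv := by rw [n4]
    _ = homologyMap (eK ≫ gψ) q ≫ (E3 ≫ Γ'.map iJ.inv) := by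
        rw [homologyMap_comp]
        simp only [Category.assoc]

end Cat

section Theta

variable {X S X' S' : Scheme.{u}} (f : X ⟶ S) (g : S' ⟶ S) (f' : X' ⟶ S') (g' : X' ⟶ X)
  (w : g' ≫ f = f' ≫ g) (G : S'.Modules)

lemma TL_map_eq {Y : Scheme.{u}} (E : Y.Modules) {N N' : Y.Modules} (a : N ⟶ N') :
    (PFormH9.TL E).map a = (DCoh.tensorBi.obj E).map a := by
  apply PFormH9.hom_ext_tmul
  intro U l t
  exact (PFormH9.TL_map_tmul E a U l t).trans (tensorBi_obj_map_tm E a U l t).symm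

/-- the component of the comparison `G ⊗ g^* f_* M ⟶ f'_* (f'^* G ⊗ g'^* M)` -/
noncomputable def thetaApp (M : X.Modules) :
    (TP g G).obj ((Scheme.Modules.pushforward f).obj M) ⟶
      (Scheme.Modules.pushforward f').obj ((TT g' f' G).obj M) :=
  (DCoh.tensorBi.obj G).map (CohBC.bc0 f g f' g' w M) ≫
    PFormH9.projMap f' G ((Scheme.Modules.pullback g').obj M)

lemma thetaApp_natural {M M' : X.Modules} (a : M ⟶ M') :
    (TP g G).map ((Scheme.Modules.pushforward f).map a) ≫ thetaApp f g f' g' w G M' =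
      thetaApp f g f' g' w G M ≫
        (Scheme.Modules.pushforward f').map ((TT g' f' G).map a) := by
  let tB := (DCoh.tensorBi (X := S')).obj G
  let a₁ : (Scheme.Modules.pullback g).obj ((Scheme.Modules.pushforward f).obj M) ⟶
      (Scheme.Modules.pullback g).obj ((Scheme.Modules.pushforward f).obj M') :=
    (Scheme.Modules.pullback g).map ((Scheme.Modules.pushforward f).map a)
  let a₂ : (Scheme.Modules.pullback g').obj M ⟶ (Scheme.Modules.pullback g').obj M' :=
    (Scheme.Modules.pullback g').map a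
  have h1 : a₁ ≫ CohBC.bc0 f g f' g' w M' =
      CohBC.bc0 f g f' g' w M ≫ (Scheme.Modules.pushforward f').map a₂ :=
    bc0_natural f g f' g' w a
  have h2 : tB.map ((Scheme.Modules.pushforward f').map a₂) ≫
        PFormH9.projMap f' G ((Scheme.Modules.pullback g').obj M') =
      PFormH9.projMap f' G ((Scheme.Modules.pullback g').obj M) ≫
        (Scheme.Modules.pushforward f').map
          ((DCoh.tensorBi.obj ((Scheme.Modules.pullback f').obj G)).map a₂) := by
    have h := PFormH9.projMap_naturality f' G a₂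
    rw [TL_map_eq, TL_map_eq] at h
    exact h
  show tB.map a₁ ≫ (tB.map (CohBC.bc0 f g f' g' w M') ≫
      PFormH9.projMap f' G ((Scheme.Modules.pullback g').obj M')) =
    (tB.map (CohBC.bc0 f g f' g' w M) ≫
      PFormH9.projMap f' G ((Scheme.Modules.pullback g').obj M)) ≫
      (Scheme.Modules.pushforward f').map
        ((DCoh.tensorBi.obj ((Scheme.Modules.pullback f').obj G)).map a₂)
  rw [← Category.assoc, ← tB.map_comp, h1, tB.map_comp, Category.assoc, h2, Category.assoc]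
  rfl

/-- the comparison `f_* ⋙ (G ⊗ g^* -) ⟶ (f'^* G ⊗ g'^* -) ⋙ f'_*` -/
noncomputable def thetaNT :
    Scheme.Modules.pushforward f ⋙ TP g G ⟶ TT g' f' G ⋙ Scheme.Modules.pushforward f' where
  app M := thetaApp f g f' g' w G M
  naturality M M' a := thetaApp_natural f g f' g' w G a

set_option backward.isDefEq.respectTransparency false in
/-- the comparison on the canonical sections -/
lemma thetaApp_tm (M : X.Modules) {V : S.Opens} {V' : S'.Opens} (hVV : V' ≤ g ⁻¹ᵁ V)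
    (k : f' ⁻¹ᵁ V' ≤ g' ⁻¹ᵁ (f ⁻¹ᵁ V)) (n : Γ(G, V')) (x : Γ(M, f ⁻¹ᵁ V)) :
    ((thetaApp f g f' g' w G M).app V').hom
        (tm G ((Scheme.Modules.pullback g).obj ((Scheme.Modules.pushforward f).obj M)) V' n
          (PBH8.cUV g ((Scheme.Modules.pushforward f).obj M) hVV x)) =
      tm ((Scheme.Modules.pullback f').obj G) ((Scheme.Modules.pullback g').obj M) (f' ⁻¹ᵁ V')
        (PBH8.cUV f' G (le_rfl : f' ⁻¹ᵁ V' ≤ f' ⁻¹ᵁ V') n) (PBH8.cUV g' M k x) := by
  have h1 := tensorBi_obj_map_tm G (CohBC.bc0 f g f' g' w M) V' n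
    (PBH8.cUV g ((Scheme.Modules.pushforward f).obj M) hVV x)
  have h2 := bc0_cUV f g f' g' w M hVV k x
  have h3 := PFormH9.projMap_tmul f' G ((Scheme.Modules.pullback g').obj M) V' n
    (PBH8.cUV g' M k x)
  show ((PFormH9.projMap f' G ((Scheme.Modules.pullback g').obj M)).app V').hom
    ((((DCoh.tensorBi.obj G).map (CohBC.bc0 f g f' g' w M)).app V').hom _) = _
  refine (congrArg _ h1).trans ?_
  refine (congrArg (fun t => ((PFormH9.projMap f' G
    ((Scheme.Modules.pullback g').obj M)).app V').hom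
      (tm G ((Scheme.Modules.pushforward f').obj ((Scheme.Modules.pullback g').obj M)) V' n t))
        h2).trans ?_
  exact h3

end Theta

section FamQ

variable {X S X' S' : Scheme.{u}} {f : X ⟶ S} {g : S' ⟶ S} {g' : X' ⟶ X} {f' : X' ⟶ S'}
  (hc : IsPullback g' f' f g) (G : S'.Modules) {V : S.Opens} {V' : S'.Opens}
  (hVV : V' ≤ g ⁻¹ᵁ V) {K : CochainComplex X.Modules ℕ} {L : CochainComplex X'.Modules ℕ}
  (φ : ((TT g' f' G).mapHomologicalComplex (ComplexShape.up ℕ)).obj K ⟶ L)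

include hc in
/-- the family of chain maps `Γ(W, K) → Γ(Q, L)` indexed by sections of `G`, for an open
`Q ⊆ g'⁻¹W ∩ f'⁻¹V'` -/
noncomputable def famQ (W : X.Opens) (hW : W ≤ f ⁻¹ᵁ V) (Q : X'.Opens) (hQ₁ : Q ≤ g' ⁻¹ᵁ W)
    (hQ₂ : Q ≤ f' ⁻¹ᵁ V') :
    Fam Γ(S, V) (NG g G hVV) (secAct K (f.appLE V W hW).hom) (secCx L Q) where
  μ n := tauT (TT g' f' G) φ (Γf W) (Γf Q)
    (nuS g' ((Scheme.Modules.pullback f').obj G) hQ₁ (pn f' G hQ₂ n))
  add n n' := by
    refine tauT_add (TT g' f' G) φ _ _ _ (fun M => ?_)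
    have h1 : pn f' G hQ₂ ((show Γ(G, V') from n) + (show Γ(G, V') from n')) =
        pn f' G hQ₂ n + pn f' G hQ₂ n' := PBH8.cUV_add f' G _ _ _
    have h2 := nuS_add g' ((Scheme.Modules.pullback f').obj G) hQ₁ (pn f' G hQ₂ n)
      (pn f' G hQ₂ n') M
    rw [← h1] at h2
    exact h2
  bal r n := by
    refine tauT_pre (TT g' f' G) φ _ _ (smulΓ ((f.appLE V W hW).hom r)) (fun M => ?_)
    have h1 := pn_smul hc G hVV hW hQ₁ hQ₂ r n
    have h2 := nuS_smul g' ((Scheme.Modules.pullback f').obj G) hQ₁ (pn f' G hQ₂ n)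
      ((f.appLE V W hW).hom r) M
    rw [← h1] at h2
    exact h2

lemma famQ_μ (W : X.Opens) (hW : W ≤ f ⁻¹ᵁ V) (Q : X'.Opens) (hQ₁ : Q ≤ g' ⁻¹ᵁ W)
    (hQ₂ : Q ≤ f' ⁻¹ᵁ V') (n : NG g G hVV) :
    (famQ hc G hVV φ W hW Q hQ₁ hQ₂).μ n = tauT (TT g' f' G) φ (Γf W) (Γf Q)
      (nuS g' ((Scheme.Modules.pullback f').obj G) hQ₁ (pn f' G hQ₂ n)) := rfl

end FamQ

section Core

variable {X S X' S' : Scheme.{u}} {f : X ⟶ S} {g : S' ⟶ S} {g' : X' ⟶ X} {f' : X' ⟶ S'}
  (hc : IsPullback g' f' f g) (G : S'.Modules) [G.IsQuasicoherent] {V : S.Opens}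
  {V' : S'.Opens} (hV : IsAffineOpen V) (hV' : IsAffineOpen V') (hVV : V' ≤ g ⁻¹ᵁ V)
  [Module.Flat Γ(S, V) (NG g G hVV)]
  [QuasiSeparated f] [HasInjectiveResolutions X.Modules] [HasInjectiveResolutions X'.Modules]
  (M : X.Modules) [M.IsQuasicoherent] (I : InjectiveResolution M)
  (J : InjectiveResolution ((TT g' f' G).obj M))
  (φ : ((TT g' f' G).mapHomologicalComplex (ComplexShape.up ℕ)).obj I.cocomplex ⟶ J.cocomplex)
  (hφ : (TT g' f' G).map (I.ι.f 0) ≫ φ.f 0 = J.ι.f 0)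

include hV hV' hφ in
/-- twisted base change for the complexes of sections, with the open of `X'` given up to
equality -/
theorem twBC_Q (W : X.Opens) (hW : IsCompact (W : Set X)) (hWV : W ≤ f ⁻¹ᵁ V)
    (Q : X'.Opens) (hQ : Q = g' ⁻¹ᵁ W ⊓ f' ⁻¹ᵁ V') (hQ₁ : Q ≤ g' ⁻¹ᵁ W) (hQ₂ : Q ≤ f' ⁻¹ᵁ V')
    (q : ℕ) : TwBC (famQ hc G hVV φ W hWV Q hQ₁ hQ₂) q := by
  subst hQ
  exact PWt_of_isCompact hc G hV hV' hVV M I J φ hφ W hW hWV hWV q

end Core

section Main

variable {X S X' S' : Scheme.{u}} {f : X ⟶ S} {g : S' ⟶ S} {g' : X' ⟶ X} {f' : X' ⟶ S'}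
  (hc : IsPullback g' f' f g) (G : S'.Modules)
  [HasInjectiveResolutions X.Modules] [HasInjectiveResolutions X'.Modules]
  [PreservesFiniteLimits (TP g G)] [PreservesFiniteColimits (TP g G)]
  (M : X.Modules) (I : InjectiveResolution M) (J : InjectiveResolution ((TT g' f' G).obj M))
  (φ : ((TT g' f' G).mapHomologicalComplex (ComplexShape.up ℕ)).obj I.cocomplex ⟶ J.cocomplex)
  (q : ℕ)

/-- the global comparison morphism `G ⊗ g^* R^q f_* M ⟶ R^q f'_* (f'^* G ⊗ g'^* M)` -/
noncomputable def LamS :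
    (TP g G).obj ((Coh.Rpush f q).obj M) ⟶ (Coh.Rpush f' q).obj ((TT g' f' G).obj M) :=
  Lam (Scheme.Modules.pushforward f) (Scheme.Modules.pushforward f') (TT g' f' G) (TP g G)
    (thetaNT f g f' g' hc.w G) I J φ q

/-- the chain map `Γ(f⁻¹V, I) ⟶ Γ(f'⁻¹V', J)` attached to a section of `G`, as a map between
the complexes of sections of the direct images -/
noncomputable def muS {V : S.Opens} {V' : S'.Opens} (k : f' ⁻¹ᵁ V' ≤ g' ⁻¹ᵁ (f ⁻¹ᵁ V))
    (n : Γ(G, V')) :
    ((Γf V).mapHomologicalComplex (ComplexShape.up ℕ)).obj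
        (((Scheme.Modules.pushforward f).mapHomologicalComplex (ComplexShape.up ℕ)).obj
          I.cocomplex) ⟶
      ((Γf V').mapHomologicalComplex (ComplexShape.up ℕ)).obj
        (((Scheme.Modules.pushforward f').mapHomologicalComplex (ComplexShape.up ℕ)).obj
          J.cocomplex) :=
  tauT (TT g' f' G) φ (Γf (f ⁻¹ᵁ V)) (Γf (f' ⁻¹ᵁ V'))
    (nuS g' ((Scheme.Modules.pullback f').obj G) k
      (pn f' G (le_rfl : f' ⁻¹ᵁ V' ≤ f' ⁻¹ᵁ V') n))

set_option backward.isDefEq.respectTransparency false in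
lemma muC_eq {V : S.Opens} {V' : S'.Opens} (hVV : V' ≤ g ⁻¹ᵁ V)
    (k : f' ⁻¹ᵁ V' ≤ g' ⁻¹ᵁ (f ⁻¹ᵁ V)) (n : Γ(G, V')) :
    muC (Scheme.Modules.pushforward f) (Scheme.Modules.pushforward f') (TT g' f' G) (TP g G)
        (thetaNT f g f' g' hc.w G) I J φ (Γf V) (Γf V') (nuS g G hVV n) =
      muS G M I J φ k n := by
  refine HomologicalComplex.hom_ext _ _ (fun m => ?_)
  apply AddCommGrpCat.hom_ext
  apply AddMonoidHom.ext
  intro x
  exact congrArg (fun t => ((φ.f m).app (f' ⁻¹ᵁ V')).hom t)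
    (thetaApp_tm f g f' g' hc.w G (I.cocomplex.X m) hVV k n x)

set_option backward.isDefEq.respectTransparency false in
/-- sections of the global comparison morphism -/
lemma LamS_nuS [QuasiCompact f] [QuasiSeparated f] [QuasiCompact f'] [QuasiSeparated f']
    [M.IsQuasicoherent] [((TT g' f' G).obj M).IsQuasicoherent]
    {V : S.Opens} {V' : S'.Opens} (hVV : V' ≤ g ⁻¹ᵁ V)
    (k : f' ⁻¹ᵁ V' ≤ g' ⁻¹ᵁ (f ⁻¹ᵁ V)) (n : Γ(G, V'))
    (ξ : (((Γf V).mapHomologicalComplex (ComplexShape.up ℕ)).obj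
      (((Scheme.Modules.pushforward f).mapHomologicalComplex (ComplexShape.up ℕ)).obj
        I.cocomplex)).homology q) :
    ((LamS hc G M I J φ q).app V').hom
        (((nuS g G hVV n).app ((Coh.Rpush f q).obj M)).hom
          ((eHom f M I (V := V) q).hom ξ)) =
      (eHom f' ((TT g' f' G).obj M) J (V := V') q).hom
        ((homologyMap (muS G M I J φ k n) q).hom ξ) := by
  have h := Lam_sections (Scheme.Modules.pushforward f) (Scheme.Modules.pushforward f')
    (TT g' f' G) (TP g G) (thetaNT f g f' g' hc.w G) I J φ q (Γf V) (Γf V') (nuS g G hVV n)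
  have h1 := congrArg (fun ψ : (((Γf V).mapHomologicalComplex (ComplexShape.up ℕ)).obj
      (((Scheme.Modules.pushforward f).mapHomologicalComplex (ComplexShape.up ℕ)).obj
        I.cocomplex)).homology q ⟶
      (Γf V').obj ((Coh.Rpush f' q).obj ((TT g' f' G).obj M)) => ψ.hom ξ) h
  have h2 : (homologyMap (muC (Scheme.Modules.pushforward f) (Scheme.Modules.pushforward f')
      (TT g' f' G) (TP g G) (thetaNT f g f' g' hc.w G) I J φ (Γf V) (Γf V')
        (nuS g G hVV n)) q).hom ξ = (homologyMap (muS G M I J φ k n) q).hom ξ := by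
    rw [muC_eq hc G M I J φ hVV k n]
  exact h1.trans (congrArg (eHom f' ((TT g' f' G).obj M) J (V := V') q).hom h2)

end Main

section Final

variable {X S X' S' : Scheme.{u}} {f : X ⟶ S} {g : S' ⟶ S} {g' : X' ⟶ X} {f' : X' ⟶ S'}
  (hc : IsPullback g' f' f g) [QuasiCompact f] [QuasiSeparated f]
  [HasInjectiveResolutions X.Modules] [HasInjectiveResolutions X'.Modules]
  (F : X.Modules) [F.IsQuasicoherent] (G : S'.Modules) [G.IsQuasicoherent]
  (hGf : FlatMod.IsFlatOver g G)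

section Bij

variable [PreservesFiniteLimits (TP g G)] [PreservesFiniteColimits (TP g G)]
  (I : InjectiveResolution F) (J : InjectiveResolution ((TT g' f' G).obj F))
  (φ : ((TT g' f' G).mapHomologicalComplex (ComplexShape.up ℕ)).obj I.cocomplex ⟶ J.cocomplex)
  (hφ : (TT g' f' G).map (I.ι.f 0) ≫ φ.f 0 = J.ι.f 0) (q : ℕ)

include hGf hφ in
theorem LamS_app_bijective {V : S.Opens} {V' : S'.Opens} (hV : IsAffineOpen V)
    (hV' : IsAffineOpen V') (hVV : V' ≤ g ⁻¹ᵁ V) :
    Function.Bijective ((LamS hc G F I J φ q).app V') := by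
  haveI : QuasiCompact f' := MorphismProperty.of_isPullback (P := @QuasiCompact) hc inferInstance
  haveI : QuasiSeparated f' :=
    MorphismProperty.of_isPullback (P := @QuasiSeparated) hc inferInstance
  haveI : ((Scheme.Modules.pullback f').obj G).IsQuasicoherent :=
    PBH8.isQuasicoherent_pullback f' G
  haveI : ((Scheme.Modules.pullback g').obj F).IsQuasicoherent :=
    PBH8.isQuasicoherent_pullback g' F
  haveI hTF : ((TT g' f' G).obj F).IsQuasicoherent :=
    TensQCH8.isQuasicoherent_tensorMod _ _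
  haveI hR : ((Coh.Rpush f q).obj F).IsQuasicoherent := RpushQC.isQuasicoherent_Rpush f F q
  haveI hflat : Module.Flat Γ(S, V) (NG g G hVV) :=
    FlatSecH8.flat_sections_of_flat_stalks g G hV' hVV
      (fun x hx => (FlatSecH8.isFlatOverAt_iff_flat_stalk g G hV hVV hx).mp (hGf x))
  have k : f' ⁻¹ᵁ V' ≤ g' ⁻¹ᵁ (f ⁻¹ᵁ V) := by
    intro z hz
    show f (g' z) ∈ V
    have : f (g' z) = g (f' z) := by
      rw [← Scheme.Hom.comp_apply, ← Scheme.Hom.comp_apply, hc.w]
    rw [this]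
    exact hVV hz
  let R := (Coh.Rpush f q).obj F
  let TF := (TT g' f' G).obj F
  let R' := (Coh.Rpush f' q).obj TF
  let fam := famQ hc G hVV φ (f ⁻¹ᵁ V) le_rfl (f' ⁻¹ᵁ V') k le_rfl
  have hcore : TwBC fam q := twBC_Q hc G hV hV' hVV F I J φ hφ (f ⁻¹ᵁ V)
    (Scheme.Hom.isCompact_preimage f hV.isCompact) le_rfl (f' ⁻¹ᵁ V')
    (inf_eq_right.mpr k).symm k le_rfl q
  let eI := eLin f F I hV q le_rfl
  let eN : NG g G hVV ⊗[Γ(S, V)]
        (secAct I.cocomplex (f.appLE V (f ⁻¹ᵁ V) le_rfl).hom).H q ≃ₗ[Γ(S, V)]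
      NG g G hVV ⊗[Γ(S, V)] Γ(R, V) :=
    TensorProduct.congr (LinearEquiv.refl Γ(S, V) (NG g G hVV)) eI
  haveI := isIso_eHom f' TF J hV' q
  let eJ : ((secCx J.cocomplex (f' ⁻¹ᵁ V')).homology q : AddCommGrpCat.{u}) ≃+ Γ(R', V') :=
    (asIso (eHom f' TF J (V := V') q)).addCommGroupIsoToAddEquiv
  let Θ : NG g G hVV ⊗[Γ(S, V)] Γ(R, V) →+ Γ((TP g G).obj R, V') := thetaP g G R hVV
  have hΘ : Function.Bijective Θ := thetaP_bijective g G R hVV hV hV'
  let ΛV : Γ((TP g G).obj R, V') →+ Γ(R', V') := ((LamS hc G F I J φ q).app V').hom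
  have hcomp : ΛV.comp (Θ.comp eN.toLinearMap.toAddMonoidHom) =
      eJ.toAddMonoidHom.comp (twH fam q) := by
    apply addHom_ext_tmul
    intro n ξ
    exact LamS_nuS hc G F I J φ q hVV k n ξ
  have hfun : ⇑ΛV ∘ (⇑Θ ∘ ⇑eN) = ⇑eJ ∘ ⇑(twH fam q) := by
    funext w
    exact DFunLike.congr_fun hcomp w
  have hb1 : Function.Bijective (⇑Θ ∘ ⇑eN) := hΘ.comp eN.bijective
  have hb2 : Function.Bijective (⇑eJ ∘ ⇑(twH fam q)) := eJ.bijective.comp hcore
  have hb3 : Function.Bijective (⇑ΛV ∘ (⇑Θ ∘ ⇑eN)) := hfun ▸ hb2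
  exact (Function.Bijective.of_comp_iff ΛV hb1).mp hb3

end Bij

include hc hGf in
/-- **Twisted base change for higher direct images.** -/
theorem twisted_base_change (q : ℕ) :
    Nonempty (CohB1.tensorMod G ((Scheme.Modules.pullback g).obj ((Coh.Rpush f q).obj F)) ≅
      (Coh.Rpush f' q).obj (CohB1.tensorMod ((Scheme.Modules.pullback f').obj G)
        ((Scheme.Modules.pullback g').obj F))) := by
  obtain ⟨hE1, hE2⟩ := preserves_TP g G hGf
  haveI := hE1
  haveI := hE2
  have hGf' : FlatMod.IsFlatOver g' ((Scheme.Modules.pullback f').obj G) :=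
    fun x' => FlatBC2H8.isFlatOverAt_pullback hc.flip G x' (hGf (f' x'))
  obtain ⟨hT1, hT2⟩ := preserves_TP g' ((Scheme.Modules.pullback f').obj G) hGf'
  haveI : PreservesFiniteLimits (TT g' f' G) := hT1
  haveI : PreservesFiniteColimits (TT g' f' G) := hT2
  haveI : QuasiCompact f' := MorphismProperty.of_isPullback (P := @QuasiCompact) hc inferInstance
  haveI : QuasiSeparated f' :=
    MorphismProperty.of_isPullback (P := @QuasiSeparated) hc inferInstance
  haveI : ((Scheme.Modules.pullback f').obj G).IsQuasicoherent :=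
    PBH8.isQuasicoherent_pullback f' G
  haveI : ((Scheme.Modules.pullback g').obj F).IsQuasicoherent :=
    PBH8.isQuasicoherent_pullback g' F
  haveI hTF : ((TT g' f' G).obj F).IsQuasicoherent :=
    TensQCH8.isQuasicoherent_tensorMod _ _
  haveI hR : ((Coh.Rpush f q).obj F).IsQuasicoherent := RpushQC.isQuasicoherent_Rpush f F q
  haveI : ((Scheme.Modules.pullback g).obj ((Coh.Rpush f q).obj F)).IsQuasicoherent :=
    PBH8.isQuasicoherent_pullback g _
  haveI : ((TP g G).obj ((Coh.Rpush f q).obj F)).IsQuasicoherent :=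
    TensQCH8.isQuasicoherent_tensorMod _ _
  haveI : ((Coh.Rpush f' q).obj ((TT g' f' G).obj F)).IsQuasicoherent :=
    RpushQC.isQuasicoherent_Rpush f' _ q
  let I := injectiveResolution F
  let J := injectiveResolution ((TT g' f' G).obj F)
  let φ : ((TT g' f' G).mapHomologicalComplex (ComplexShape.up ℕ)).obj I.cocomplex ⟶
      J.cocomplex :=
    RDer.descToInjectives (𝟙 ((TT g' f' G).obj F))
      (((TT g' f' G).mapHomologicalComplex (ComplexShape.up ℕ)).obj I.cocomplex)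
      (RDer.mapAug (TT g' f' G) I.ι) J.cocomplex J.ι
  have hφ : (TT g' f' G).map (I.ι.f 0) ≫ φ.f 0 = J.ι.f 0 := by
    have h := RDer.ι_descToInjectives_f_zero (𝟙 ((TT g' f' G).obj F))
      (((TT g' f' G).mapHomologicalComplex (ComplexShape.up ℕ)).obj I.cocomplex)
      (RDer.mapAug (TT g' f' G) I.ι) J.cocomplex J.ι
    have h0 : (RDer.mapAug (TT g' f' G) I.ι).f 0 = (TT g' f' G).map (I.ι.f 0) := by
      simp [HomologicalComplex.singleMapHomologicalComplex_inv_app_self]
      exact Category.id_comp _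
    rw [h0, Category.id_comp] at h
    exact h
  have hiso : IsIso (LamS hc G F I J φ q) := by
    let ι := {W' : S'.Opens // IsAffineOpen W' ∧ ∃ W : S.Opens, IsAffineOpen W ∧ W' ≤ g ⁻¹ᵁ W}
    have hcover : ⨆ i : ι, (i.1 : S'.Opens) = ⊤ := by
      rw [eq_top_iff]
      intro x _
      obtain ⟨W, W', hW, hW', hxW', hWW⟩ := PBH8.exists_affine_pair' g x
      exact Opens.mem_iSup.mpr ⟨⟨W', hW', W, hW, hWW⟩, hxW'⟩
    refine QCohCrit.isIso_of_bijective_on_cover (LamS hc G F I J φ q)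
      (fun i : ι => (i.1 : S'.Opens)) (fun i => i.2.1) hcover ?_
    rintro ⟨W', hW', W, hW, hW'W⟩
    exact LamS_app_bijective hc F G hGf I J φ hφ q hW hW' hW'W
  exact ⟨@asIso _ _ _ _ (LamS hc G F I J φ q) hiso⟩

end Final

end Groth.Agent.Lib.TwGlob
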