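import Mathlib
import Groth.Prelude
import Groth.Agent.Lib.TwPull3_helper2

/-!
# Pull-back of `O(n)` along `Proj` of a base change of graded algebras, II (helper2)

For `A = R ⊗[R'] B` (graded algebras) and `Φ : Proj A ⟶ Proj B`: the adjoint
`Φ^* (B(n)~) ⟶ A(n)~` of `GrMod.comap` is an isomorphism, hence `Φ^* O(n) ≅ O(n)`.
APPEND-ONLY once landed.
-/

set_option autoImplicit false
universe u
open CategoryTheory CategoryTheory.Limits AlgebraicGeometry TopologicalSpace Opposite DirectSum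
open HomogeneousLocalization

namespace Groth.Agent.Lib.TwPullH2

open Groth.Agent.GrTi Groth.Agent.GrTw QcqsLoc QCohExtn Groth.Agent.Lib.GrModSectH1
  Groth.Agent.Lib.PullAdjH2 Groth.Agent.Lib.SatQH2

section Shift
variable {A σ : Type u} [CommRing A] [SetLike σ A] [AddSubgroupClass σ A] (𝒜 : ℕ → σ)
  [GradedRing 𝒜]
  {M τ : Type u} [AddCommGroup M] [Module A M] [SetLike τ M] [AddSubgroupClass τ M] (ℳ : ℕ → τ)
  [SetLike.GradedSMul 𝒜 ℳ] (n : ℤ)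

theorem fracSecM_shift' {d : ℕ} {f : A} (hf : f ∈ 𝒜 d) (k j K i I : ℕ) (hK : K = k + j)
    (hI : I = j • d + i) (m : M) (hm : m ∈ ℳ i) (hi : (i : ℤ) = ((k • d : ℕ) : ℤ) + n)
    (hm' : f ^ j • m ∈ ℳ I) (hI' : (I : ℤ) = ((K • d : ℕ) : ℤ) + n) :
    fracSecM 𝒜 ℳ hf n K I (f ^ j • m) hm' hI' = fracSecM 𝒜 ℳ hf n k i m hm hi := by
  subst hK hI
  exact fracSecM_shift 𝒜 ℳ n hf k j i m hm hi hm' hI'

end Shift

section Main
variable {R R' A B : Type u} [CommRing R'] [CommRing R] [Algebra R' R]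
  [CommRing B] [Algebra R' B] {ℬ : ℕ → Submodule R' B} [GradedAlgebra ℬ]
  [CommRing A] [Algebra R A] [Algebra R' A] [IsScalarTower R' R A] {𝒜 : ℕ → Submodule R A}
  [GradedAlgebra 𝒜] [Algebra B A] [IsScalarTower R' B A]
  (φ : ℬ →+*ᵍ 𝒜) (hφA : ∀ b : B, φ b = algebraMap B A b)
  (hφ : HomogeneousIdeal.irrelevant 𝒜 ≤ (HomogeneousIdeal.irrelevant ℬ).map φ) (n : ℤ)
  {d : ℕ} (hd : 0 < d) {f : B} (hf : f ∈ ℬ d)

include hφA in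
theorem appLE_algO (r : R') :
    ((Proj.map φ hφ).appLE (Proj.basicOpen ℬ f) (Proj.basicOpen 𝒜 (φ f)) (hle φ hφ f)).hom
      (algO ℬ hf r) = algO 𝒜 (φ.map_mem hf) (algebraMap R' R r) := by
  rw [algO_apply, algO_apply, appLE_fracO]
  refine fracO_congr 𝒜 _ _ _ rfl ?_
  rw [hφA, ← IsScalarTower.algebraMap_apply, ← IsScalarTower.algebraMap_apply]

include hd in
theorem exists_base : ∃ k₀ i₀ : ℕ, (i₀ : ℤ) = ((k₀ • d : ℕ) : ℤ) + n := by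
  refine ⟨(-n).toNat, ((((-n).toNat • d : ℕ) : ℤ) + n).toNat, ?_⟩
  rw [Int.toNat_of_nonneg]
  have h1 : (-n) ≤ ((-n).toNat : ℤ) := Int.self_le_toNat (-n)
  have h2 : ((-n).toNat : ℤ) ≤ (((-n).toNat • d : ℕ) : ℤ) := by
    rw [smul_eq_mul]
    exact_mod_cast Nat.le_mul_of_pos_right _ hd
  omega

variable [Algebra.IsPushout R' R B A]

include hφA hd in
/-- the map `Γ(D_+(f), B(n)~) → Γ(D_+(φ f), A(n)~)` is a base change along `R' → R` -/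
theorem isBaseChange_thetaUV_base :
    letI : Module R' Γ(GrMod.tilde ℬ (M := B) ℬ n, Proj.basicOpen ℬ f) :=
      Module.compHom _ (algO ℬ hf)
    letI : Module R Γ(GrMod.tilde 𝒜 (M := A) 𝒜 n, Proj.basicOpen 𝒜 (φ f)) :=
      Module.compHom _ (algO 𝒜 (φ.map_mem hf))
    letI : Module R' Γ(GrMod.tilde 𝒜 (M := A) 𝒜 n, Proj.basicOpen 𝒜 (φ f)) :=
      Module.compHom _ ((algO 𝒜 (φ.map_mem hf)).comp (algebraMap R' R))
    haveI : IsScalarTower R' R Γ(GrMod.tilde 𝒜 (M := A) 𝒜 n, Proj.basicOpen 𝒜 (φ f)) :=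
      IsScalarTower.of_algebraMap_smul (fun _ _ => rfl)
    ∀ θ' : Γ(GrMod.tilde ℬ (M := B) ℬ n, Proj.basicOpen ℬ f) →ₗ[R']
        Γ(GrMod.tilde 𝒜 (M := A) 𝒜 n, Proj.basicOpen 𝒜 (φ f)),
      (∀ s, θ' s = thetaUV (Proj.map φ hφ) (GrMod.comap φ hφ (psiSL φ) (psiSL_mem φ) n)
        (hle φ hφ f) s) → IsBaseChange R θ' := by
  letI mR'M : Module R' Γ(GrMod.tilde ℬ (M := B) ℬ n, Proj.basicOpen ℬ f) :=
    Module.compHom _ (algO ℬ hf)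
  letI mRN : Module R Γ(GrMod.tilde 𝒜 (M := A) 𝒜 n, Proj.basicOpen 𝒜 (φ f)) :=
    Module.compHom _ (algO 𝒜 (φ.map_mem hf))
  letI mR'N : Module R' Γ(GrMod.tilde 𝒜 (M := A) 𝒜 n, Proj.basicOpen 𝒜 (φ f)) :=
    Module.compHom _ ((algO 𝒜 (φ.map_mem hf)).comp (algebraMap R' R))
  haveI : IsScalarTower R' R Γ(GrMod.tilde 𝒜 (M := A) 𝒜 n, Proj.basicOpen 𝒜 (φ f)) :=
    IsScalarTower.of_algebraMap_smul (fun _ _ => rfl)
  intro θ' hθ'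
  have hφf : φ f ∈ 𝒜 d := φ.map_mem hf
  obtain ⟨k₀, i₀, h₀⟩ := exists_base n hd
  have hidx : ∀ k : ℕ, ((i₀ + k • d : ℕ) : ℤ) = (((k₀ + k) • d : ℕ) : ℤ) + n := by
    intro k
    push_cast [smul_eq_mul] at h₀ ⊢
    linear_combination h₀
  let F : ∀ k : ℕ, ℬ (i₀ + k • d) →ₗ[R']
      Γ(GrMod.tilde ℬ (M := B) ℬ n, Proj.basicOpen ℬ f) := fun k =>
    { toFun := fun b => fracSecM ℬ ℬ hf n (k₀ + k) (i₀ + k • d) b.1 b.2 (hidx k)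
      map_add' := fun b b' => fs_add ℬ ℬ hf n _ _ _ _ b.2 b'.2 (hidx k)
      map_smul' := fun r b => (algO_smul_fracSecM ℬ hf ℬ n r _ _ b.1 b.2 (hidx k)).symm }
  let G : ∀ k : ℕ, 𝒜 (i₀ + k • d) →ₗ[R]
      Γ(GrMod.tilde 𝒜 (M := A) 𝒜 n, Proj.basicOpen 𝒜 (φ f)) := fun k =>
    { toFun := fun a => fracSecM 𝒜 𝒜 hφf n (k₀ + k) (i₀ + k • d) a.1 a.2 (hidx k)
      map_add' := fun a a' => fs_add 𝒜 𝒜 hφf n _ _ _ _ a.2 a'.2 (hidx k)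
      map_smul' := fun r a => (algO_smul_fracSecM 𝒜 hφf 𝒜 n r _ _ a.1 a.2 (hidx k)).symm }
  have hFshift : ∀ (k j K : ℕ) (hK : K = k + j) (hI : i₀ + K • d = j • d + (i₀ + k • d))
      (b : ℬ (i₀ + k • d)), F K (mulPowL ℬ hf j _ _ hI b) = F k b := by
    intro k j K hK hI b
    exact fracSecM_shift' ℬ ℬ n hf (k₀ + k) j (k₀ + K) (i₀ + k • d) (i₀ + K • d)
      (by omega) hI b.1 b.2 (hidx k) (mulPowL ℬ hf j _ _ hI b).2 (hidx K)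
  have hGshift : ∀ (k j K : ℕ) (hK : K = k + j) (hI : i₀ + K • d = j • d + (i₀ + k • d))
      (a : 𝒜 (i₀ + k • d)), G K (mulPowL 𝒜 hφf j _ _ hI a) = G k a := by
    intro k j K hK hI a
    exact fracSecM_shift' 𝒜 𝒜 n hφf (k₀ + k) j (k₀ + K) (i₀ + k • d) (i₀ + K • d)
      (by omega) hI a.1 a.2 (hidx k) (mulPowL 𝒜 hφf j _ _ hI a).2 (hidx K)
  have hidx2 : ∀ k j K : ℕ, K = k + j → i₀ + K • d = j • d + (i₀ + k • d) := by
    intro k j K hK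
    subst hK
    simp only [smul_eq_mul]
    ring
  refine Groth.Agent.Lib.BCSpanH2.isBaseChange_of_directed θ'
    (fun k : ℕ => ℬ (i₀ + k • d)) (fun k : ℕ => 𝒜 (i₀ + k • d)) F G
    (fun k => piece ℬ 𝒜 φ hφA (i₀ + k • d))
    (fun k => isBaseChange_piece ℬ 𝒜 φ hφA (i₀ + k • d)) ?_ ?_ ?_ ?_ ?_
  · -- hcomm
    intro k b
    rw [hθ']
    exact thetaUV_fracSecM φ hφ (psiSL φ) (psiSL_mem φ) n hf (k₀ + k) (i₀ + k • d) b.1 b.2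
      (hidx k)
  · -- hU
    intro s
    obtain ⟨k', i', b', hb', hi', rfl⟩ := exists_eq_fracSecM ℬ ℬ n hd hf s
    have hii : i₀ + k' • d = k₀ • d + i' := by
      have : ((i₀ + k' • d : ℕ) : ℤ) = ((k₀ • d + i' : ℕ) : ℤ) := by
        push_cast [smul_eq_mul] at h₀ hi' ⊢
        linarith
      exact_mod_cast this
    refine ⟨k', mulPowL ℬ hf k₀ i' (i₀ + k' • d) hii ⟨b', hb'⟩, ?_⟩
    exact fracSecM_shift' ℬ ℬ n hf k' k₀ (k₀ + k') i' (i₀ + k' • d) (add_comm _ _) hii b' hb'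
      hi' (mulPowL ℬ hf k₀ i' (i₀ + k' • d) hii ⟨b', hb'⟩).2 (hidx k')
  · -- hD
    intro k₁ k₂
    refine ⟨k₁ + k₂, mulPowL ℬ hf k₂ _ _ (hidx2 k₁ k₂ _ rfl),
      mulPowL ℬ hf k₁ _ _ (hidx2 k₂ k₁ _ (add_comm _ _)), ?_, ?_⟩
    · intro b
      exact hFshift k₁ k₂ _ rfl _ b
    · intro b
      exact hFshift k₂ k₁ _ (add_comm _ _) _ b
  · -- hT
    intro k a hGa
    obtain ⟨N, hN⟩ := (fracSecM_eq_zero_iff 𝒜 𝒜 n hd hφf _ _ a.1 a.2 (hidx k)).mp hGa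
    refine ⟨k + N, mulPowL ℬ hf N _ _ (hidx2 k N _ rfl),
      mulPowL 𝒜 hφf N _ _ (hidx2 k N _ rfl), ?_, ?_, ?_⟩
    · intro b
      exact hFshift k N _ rfl _ b
    · intro b
      apply Subtype.ext
      show φ (f ^ N * (b : B)) = φ f ^ N * φ (b : B)
      rw [map_mul, map_pow]
    · apply Subtype.ext
      exact hN
  · -- hS
    intro t
    obtain ⟨k', i', a', ha', hi', rfl⟩ := exists_eq_fracSecM 𝒜 𝒜 n hd hφf t
    have hii : i₀ + k' • d = k₀ • d + i' := by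
      have : ((i₀ + k' • d : ℕ) : ℤ) = ((k₀ • d + i' : ℕ) : ℤ) := by
        push_cast [smul_eq_mul] at h₀ hi' ⊢
        linarith
      exact_mod_cast this
    refine ⟨k', mulPowL 𝒜 hφf k₀ i' (i₀ + k' • d) hii ⟨a', ha'⟩, ?_⟩
    exact fracSecM_shift' 𝒜 𝒜 n hφf k' k₀ (k₀ + k') i' (i₀ + k' • d) (add_comm _ _) hii a' ha'
      hi' (mulPowL 𝒜 hφf k₀ i' (i₀ + k' • d) hii ⟨a', ha'⟩).2 (hidx k')


include hφA hd in
/-- the functions on `D_+(φ f)` are spanned over `R` by the functions pulled back from `D_+(f)` -/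
theorem span_range_appLE :
    letI : Algebra R Γ(Proj 𝒜, Proj.basicOpen 𝒜 (φ f)) := (algO 𝒜 (φ.map_mem hf)).toAlgebra
    Submodule.span R (Set.range ((Proj.map φ hφ).appLE (Proj.basicOpen ℬ f)
      (Proj.basicOpen 𝒜 (φ f)) (hle φ hφ f)).hom) = ⊤ := by
  letI : Algebra R Γ(Proj 𝒜, Proj.basicOpen 𝒜 (φ f)) := (algO 𝒜 (φ.map_mem hf)).toAlgebra
  have hφf : φ f ∈ 𝒜 d := φ.map_mem hf
  rw [eq_top_iff]
  intro c _
  obtain ⟨k, a, ha, rfl⟩ := exists_eq_fracO 𝒜 hd hφf c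
  have key : ∀ x : 𝒜 (k • d), fracO 𝒜 hφf k x.1 x.2 ∈
      Submodule.span R (Set.range ((Proj.map φ hφ).appLE (Proj.basicOpen ℬ f)
        (Proj.basicOpen 𝒜 (φ f)) (hle φ hφ f)).hom) := by
    intro x
    refine (isBaseChange_piece ℬ 𝒜 φ hφA (k • d)).inductionOn x
      (fun x => fracO 𝒜 hφf k x.1 x.2 ∈
        Submodule.span R (Set.range ((Proj.map φ hφ).appLE (Proj.basicOpen ℬ f)
          (Proj.basicOpen 𝒜 (φ f)) (hle φ hφ f)).hom)) ?_ ?_ ?_ ?_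
    · show fracO 𝒜 hφf k 0 _ ∈ _
      rw [fracO_zero]
      exact zero_mem _
    · intro b
      exact Submodule.subset_span ⟨fracO ℬ hf k b.1 b.2, appLE_fracO φ hφ hf k b.1 b.2⟩
    · intro r x hx
      have h1 : fracO 𝒜 hφf k (r • x).1 (r • x).2 = r • fracO 𝒜 hφf k x.1 x.2 :=
        (algO_mul_fracO 𝒜 hφf r k x.1 x.2).symm
      rw [h1]
      exact Submodule.smul_mem _ r hx
    · intro x y hx hy
      have h1 : fracO 𝒜 hφf k (x + y).1 (x + y).2 =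
          fracO 𝒜 hφf k x.1 x.2 + fracO 𝒜 hφf k y.1 y.2 := fracO_add 𝒜 hφf k _ _ x.2 y.2
      rw [h1]
      exact add_mem hx hy
  exact key ⟨a, ha⟩

include hφA hd hf in
/-- the map `Γ(D_+(f), B(n)~) → Γ(D_+(φ f), A(n)~)` is a base change along
`Γ(D_+(f), O) → Γ(D_+(φ f), O)` -/
theorem isBaseChange_thetaUV :
    letI := ((Proj.map φ hφ).appLE (Proj.basicOpen ℬ f) (Proj.basicOpen 𝒜 (φ f))
      (hle φ hφ f)).hom.toAlgebra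
    letI : Module Γ(Proj ℬ, Proj.basicOpen ℬ f)
        Γ(GrMod.tilde 𝒜 (M := A) 𝒜 n, Proj.basicOpen 𝒜 (φ f)) :=
      Module.compHom _ ((Proj.map φ hφ).appLE (Proj.basicOpen ℬ f) (Proj.basicOpen 𝒜 (φ f))
        (hle φ hφ f)).hom
    haveI : IsScalarTower Γ(Proj ℬ, Proj.basicOpen ℬ f) Γ(Proj 𝒜, Proj.basicOpen 𝒜 (φ f))
        Γ(GrMod.tilde 𝒜 (M := A) 𝒜 n, Proj.basicOpen 𝒜 (φ f)) :=
      IsScalarTower.of_algebraMap_smul fun _ _ => rfl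
    ∀ θl : Γ(GrMod.tilde ℬ (M := B) ℬ n, Proj.basicOpen ℬ f) →ₗ[Γ(Proj ℬ, Proj.basicOpen ℬ f)]
        Γ(GrMod.tilde 𝒜 (M := A) 𝒜 n, Proj.basicOpen 𝒜 (φ f)),
      (∀ m, θl m = thetaUV (Proj.map φ hφ) (GrMod.comap φ hφ (psiSL φ) (psiSL_mem φ) n)
        (hle φ hφ f) m) →
      IsBaseChange Γ(Proj 𝒜, Proj.basicOpen 𝒜 (φ f)) θl := by
  letI aOBOA : Algebra Γ(Proj ℬ, Proj.basicOpen ℬ f) Γ(Proj 𝒜, Proj.basicOpen 𝒜 (φ f)) :=
    ((Proj.map φ hφ).appLE (Proj.basicOpen ℬ f) (Proj.basicOpen 𝒜 (φ f))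
      (hle φ hφ f)).hom.toAlgebra
  letI mOBN : Module Γ(Proj ℬ, Proj.basicOpen ℬ f)
      Γ(GrMod.tilde 𝒜 (M := A) 𝒜 n, Proj.basicOpen 𝒜 (φ f)) :=
    Module.compHom _ ((Proj.map φ hφ).appLE (Proj.basicOpen ℬ f) (Proj.basicOpen 𝒜 (φ f))
      (hle φ hφ f)).hom
  haveI : IsScalarTower Γ(Proj ℬ, Proj.basicOpen ℬ f) Γ(Proj 𝒜, Proj.basicOpen 𝒜 (φ f))
      Γ(GrMod.tilde 𝒜 (M := A) 𝒜 n, Proj.basicOpen 𝒜 (φ f)) :=
    IsScalarTower.of_algebraMap_smul fun _ _ => rfl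
  intro θl hθl
  letI aR'OB : Algebra R' Γ(Proj ℬ, Proj.basicOpen ℬ f) := (algO ℬ hf).toAlgebra
  letI aROA : Algebra R Γ(Proj 𝒜, Proj.basicOpen 𝒜 (φ f)) := (algO 𝒜 (φ.map_mem hf)).toAlgebra
  letI aR'OA : Algebra R' Γ(Proj 𝒜, Proj.basicOpen 𝒜 (φ f)) :=
    ((algO 𝒜 (φ.map_mem hf)).comp (algebraMap R' R)).toAlgebra
  haveI t1 : IsScalarTower R' R Γ(Proj 𝒜, Proj.basicOpen 𝒜 (φ f)) :=
    IsScalarTower.of_algebraMap_eq' rfl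
  haveI t2 : IsScalarTower R' Γ(Proj ℬ, Proj.basicOpen ℬ f)
      Γ(Proj 𝒜, Proj.basicOpen 𝒜 (φ f)) :=
    IsScalarTower.of_algebraMap_eq' (RingHom.ext (fun r => (appLE_algO φ hφA hφ hf r).symm))
  letI mR'M : Module R' Γ(GrMod.tilde ℬ (M := B) ℬ n, Proj.basicOpen ℬ f) :=
    Module.compHom _ (algO ℬ hf)
  haveI t3 : IsScalarTower R' Γ(Proj ℬ, Proj.basicOpen ℬ f)
      Γ(GrMod.tilde ℬ (M := B) ℬ n, Proj.basicOpen ℬ f) :=
    IsScalarTower.of_algebraMap_smul fun _ _ => rfl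
  letI mRN : Module R Γ(GrMod.tilde 𝒜 (M := A) 𝒜 n, Proj.basicOpen 𝒜 (φ f)) :=
    Module.compHom _ (algO 𝒜 (φ.map_mem hf))
  haveI t4 : IsScalarTower R Γ(Proj 𝒜, Proj.basicOpen 𝒜 (φ f))
      Γ(GrMod.tilde 𝒜 (M := A) 𝒜 n, Proj.basicOpen 𝒜 (φ f)) :=
    IsScalarTower.of_algebraMap_smul fun _ _ => rfl
  letI mR'N : Module R' Γ(GrMod.tilde 𝒜 (M := A) 𝒜 n, Proj.basicOpen 𝒜 (φ f)) :=
    Module.compHom _ ((algO 𝒜 (φ.map_mem hf)).comp (algebraMap R' R))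
  haveI t5 : IsScalarTower R' R Γ(GrMod.tilde 𝒜 (M := A) 𝒜 n, Proj.basicOpen 𝒜 (φ f)) :=
    IsScalarTower.of_algebraMap_smul fun _ _ => rfl
  haveI t6 : IsScalarTower R' Γ(Proj ℬ, Proj.basicOpen ℬ f)
      Γ(GrMod.tilde 𝒜 (M := A) 𝒜 n, Proj.basicOpen 𝒜 (φ f)) := by
    refine IsScalarTower.of_algebraMap_smul fun r x => ?_
    show ((Proj.map φ hφ).appLE (Proj.basicOpen ℬ f) (Proj.basicOpen 𝒜 (φ f))
      (hle φ hφ f)).hom (algO ℬ hf r) • x = algO 𝒜 (φ.map_mem hf) (algebraMap R' R r) • x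
    rw [appLE_algO φ hφA hφ hf r]
  have hspan := span_range_appLE φ hφA hφ hd hf
  refine Groth.Agent.Lib.BCSpanH2.isBaseChange_of_span (R' := R') (R := R) θl hspan ?_
  exact isBaseChange_thetaUV_base φ hφA hφ n hd hf (θl.restrictScalars R') (fun s => hθl s)

include hφA in
/-- For `A = R ⊗[R'] B` the adjoint `Φ^* (B(n)~) ⟶ A(n)~` of `GrMod.comap` is an isomorphism. -/
theorem isIso_adj_comap_of_isPushout :
    IsIso (adj (Proj.map φ hφ) (GrMod.comap φ hφ (psiSL φ) (psiSL_mem φ) n)) := by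
  haveI := isQuasicoherent_tilde ℬ (M := B) ℬ n
  haveI := isQuasicoherent_tilde 𝒜 (M := A) 𝒜 n
  apply isIso_adj
  intro y
  obtain ⟨d, f, hd, hf, hfy⟩ := exists_pos_homog_not_mem ℬ (ProjectiveSpectrum.comap φ hφ y)
  refine ⟨Proj.basicOpen 𝒜 (φ f), Proj.isAffineOpen_basicOpen 𝒜 (φ f) (φ.map_mem hf) hd, hfy, ?_⟩
  letI aOBOA : Algebra Γ(Proj ℬ, Proj.basicOpen ℬ f) Γ(Proj 𝒜, Proj.basicOpen 𝒜 (φ f)) :=
    ((Proj.map φ hφ).appLE (Proj.basicOpen ℬ f) (Proj.basicOpen 𝒜 (φ f))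
      (hle φ hφ f)).hom.toAlgebra
  letI mOBN : Module Γ(Proj ℬ, Proj.basicOpen ℬ f)
      Γ(GrMod.tilde 𝒜 (M := A) 𝒜 n, Proj.basicOpen 𝒜 (φ f)) :=
    Module.compHom _ ((Proj.map φ hφ).appLE (Proj.basicOpen ℬ f) (Proj.basicOpen 𝒜 (φ f))
      (hle φ hφ f)).hom
  let θl : Γ(GrMod.tilde ℬ (M := B) ℬ n, Proj.basicOpen ℬ f) →ₗ[Γ(Proj ℬ, Proj.basicOpen ℬ f)]
      Γ(GrMod.tilde 𝒜 (M := A) 𝒜 n, Proj.basicOpen 𝒜 (φ f)) :=
    { toFun := thetaUV (Proj.map φ hφ) (GrMod.comap φ hφ (psiSL φ) (psiSL_mem φ) n) (hle φ hφ f)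
      map_add' := map_add _
      map_smul' := fun a m => thetaUV_smul _ _ (hle φ hφ f) a m }
  exact bijective_adj_app (Proj.map φ hφ) (GrMod.comap φ hφ (psiSL φ) (psiSL_mem φ) n)
    (hle φ hφ f) (Proj.isAffineOpen_basicOpen ℬ f hf hd)
    (Proj.isAffineOpen_basicOpen 𝒜 (φ f) (φ.map_mem hf) hd) θl (fun m => rfl)
    (isBaseChange_thetaUV φ hφA hφ n hd hf θl (fun m => rfl))

include hφA in
/-- **`Φ^* O_{Proj B}(n) ≅ O_{Proj A}(n)`** for `A = R ⊗[R'] B`. -/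
theorem nonempty_pullback_twist_iso_of_isPushout :
    Nonempty ((Scheme.Modules.pullback (Proj.map φ hφ)).obj (Twist.twist ℬ n) ≅
      Twist.twist 𝒜 n) := by
  haveI := isIso_adj_comap_of_isPushout φ hφA hφ n
  exact ⟨(Scheme.Modules.pullback (Proj.map φ hφ)).mapIso (tIso ℬ n) ≪≫
    asIso (adj (Proj.map φ hφ) (GrMod.comap φ hφ (psiSL φ) (psiSL_mem φ) n)) ≪≫
    (tIso 𝒜 n).symm⟩

end Main

end Groth.Agent.Lib.TwPullH2
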