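import Mathlib
import Groth.Prelude
import Groth.Agent.Lib.TwPull3_helper2

/-!
# Pull-back of `M(n)~` along `Proj` of a localization at a degree-zero element (helper2)

`isLocalizedModule_of_pow` (abstract criterion), `fracO_zero_pow`, and for `ψ : 𝒜 → ℬ`, `v : M → N`
"localizations at `g ∈ 𝒜 0`": the section maps over `D_+(f)` are localizations at `g/1`
(`isLocalization_appLE`, `isLocalizedModule_thetaUV`), hence the adjoint of `GrMod.comap` is an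
isomorphism (`isIso_adj_comap_of_loc`).
APPEND-ONLY once landed.
-/

set_option autoImplicit false
universe u
open CategoryTheory CategoryTheory.Limits AlgebraicGeometry TopologicalSpace Opposite DirectSum
open HomogeneousLocalization

namespace Groth.Agent.Lib.TwPullH2

open Groth.Agent.GrTi Groth.Agent.GrTw QcqsLoc QCohExtn Groth.Agent.Lib.GrModSectH1
  Groth.Agent.Lib.PullAdjH2 Groth.Agent.Lib.SatQH2

section Abs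
variable {OB OA M N : Type*} [CommRing OB] [CommRing OA] [Algebra OB OA] [AddCommGroup M]
  [Module OB M] [AddCommGroup N] [Module OB N] [Module OA N] [IsScalarTower OB OA N]

theorem isLocalizedModule_of_pow (γ : OB) (θ : M →ₗ[OB] N)
    (ha : IsUnit (algebraMap OB OA γ))
    (hb : ∀ t : N, ∃ (K : ℕ) (m : M), γ ^ K • t = θ m)
    (hc : ∀ m : M, θ m = 0 → ∃ K : ℕ, γ ^ K • m = 0) :
    IsLocalizedModule (Submonoid.powers γ) θ := by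
  refine ⟨?_, ?_, ?_⟩
  · rintro ⟨_, K, rfl⟩
    rw [Module.End.isUnit_iff]
    have hu : IsUnit (algebraMap OB OA (γ ^ K)) := by
      rw [map_pow]
      exact ha.pow K
    obtain ⟨u, hu'⟩ := hu
    have hact : ∀ n : N, algebraMap OB (Module.End OB N) (γ ^ K) n = (u : OA) • n := by
      intro n
      rw [Module.algebraMap_end_apply, hu', algebraMap_smul]
    refine ⟨fun n n' h => ?_, fun n => ⟨(↑u⁻¹ : OA) • n, ?_⟩⟩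
    · rw [hact, hact] at h
      have h2 := congrArg (fun z => (↑u⁻¹ : OA) • z) h
      simpa [smul_smul] using h2
    · rw [hact, smul_smul, Units.mul_inv, one_smul]
  · intro t
    obtain ⟨K, m, h⟩ := hb t
    exact ⟨(m, ⟨γ ^ K, K, rfl⟩), h⟩
  · intro x₁ x₂ h
    have h0 : θ (x₁ - x₂) = 0 := by rw [map_sub, h, sub_self]
    obtain ⟨K, hK⟩ := hc _ h0
    refine ⟨⟨γ ^ K, K, rfl⟩, ?_⟩
    show γ ^ K • x₁ = γ ^ K • x₂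
    rw [smul_sub, sub_eq_zero] at hK
    exact hK

end Abs

section Pow
variable {A σ : Type u} [CommRing A] [SetLike σ A] [AddSubgroupClass σ A] (𝒜 : ℕ → σ)
  [GradedRing 𝒜] {d : ℕ} {f : A} (hf : f ∈ 𝒜 d)

theorem pow_mem_zero_smul {a : A} (ha : a ∈ 𝒜 (0 • d)) (K : ℕ) : a ^ K ∈ 𝒜 (0 • d) := by
  rw [zero_smul] at ha ⊢
  have := SetLike.pow_mem_graded K ha
  rwa [smul_zero] at this

theorem fracO_zero_pow {a : A} (ha : a ∈ 𝒜 (0 • d)) (K : ℕ) :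
    fracO 𝒜 hf 0 a ha ^ K = fracO 𝒜 hf 0 (a ^ K) (pow_mem_zero_smul 𝒜 ha K) := by
  induction K with
  | zero =>
    rw [pow_zero]
    have h1 : (1 : A) ∈ 𝒜 (0 • d) := by
      have := pow_mem_zero_smul 𝒜 ha 0
      rwa [pow_zero] at this
    rw [← fracO_one 𝒜 hf h1]
    exact fracO_congr 𝒜 hf _ _ rfl (pow_zero a).symm
  | succ K ih =>
    rw [pow_succ, ih, fracO_mul 𝒜 hf 0 0 _ _ _ _ (by
      rw [← pow_succ]; exact pow_mem_zero_smul 𝒜 ha (K + 1))]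
    exact fracO_congr 𝒜 hf _ _ rfl (pow_succ a K).symm

end Pow

section Loc
variable {A σ : Type u} [CommRing A] [SetLike σ A] [AddSubgroupClass σ A] {𝒜 : ℕ → σ}
  [GradedRing 𝒜]
  {M τ : Type u} [AddCommGroup M] [Module A M] [SetLike τ M] [AddSubgroupClass τ M] {ℳ : ℕ → τ}
  [SetLike.GradedSMul 𝒜 ℳ] [DirectSum.Decomposition ℳ]
  {B σ' : Type u} [CommRing B] [SetLike σ' B] [AddSubgroupClass σ' B] {ℬ : ℕ → σ'} [GradedRing ℬ]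
  {N τ' : Type u} [AddCommGroup N] [Module B N] [SetLike τ' N] [AddSubgroupClass τ' N]
  {𝒩 : ℕ → τ'} [SetLike.GradedSMul ℬ 𝒩] [DirectSum.Decomposition 𝒩]
  (ψ : 𝒜 →+*ᵍ ℬ) (hψ : HomogeneousIdeal.irrelevant ℬ ≤ (HomogeneousIdeal.irrelevant 𝒜).map ψ)
  (v : M →ₛₗ[ψ.toRingHom] N) (hv : ∀ (i : ℕ) (m : M), m ∈ ℳ i → v m ∈ 𝒩 i) (n : ℤ)
  {g : A} (hg : g ∈ 𝒜 0) {d : ℕ} (hd : 0 < d) {f : A} (hf : f ∈ 𝒜 d)

theorem mem_zero_smul (hg : g ∈ 𝒜 0) (d : ℕ) : g ∈ 𝒜 (0 • d) := by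
  rw [zero_smul]
  exact hg

/-- the function `g/1` on `D_+(f)` -/
noncomputable def gamma : Γ(Proj 𝒜, Proj.basicOpen 𝒜 f) := fracO 𝒜 hf 0 g (mem_zero_smul hg d)

omit [DirectSum.Decomposition ℳ] [DirectSum.Decomposition 𝒩] in
theorem appLE_gamma_pow (K : ℕ) :
    ((Proj.map ψ hψ).appLE (Proj.basicOpen 𝒜 f) (Proj.basicOpen ℬ (ψ f)) (hle ψ hψ f)).hom
      (gamma hg hf) ^ K =
      fracO ℬ (ψ.map_mem hf) 0 (ψ g ^ K)
        (pow_mem_zero_smul ℬ (mem_zero_smul (ψ.map_mem hg) d) K) := by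
  unfold gamma
  rw [appLE_fracO, fracO_zero_pow]

include hd in
omit [DirectSum.Decomposition ℳ] in
theorem exists_pow_smul_eq_thetaUV
    (hvdeg : ∀ (i : ℕ) (t : N), t ∈ 𝒩 i → ∃ (K : ℕ) (m : M), m ∈ ℳ i ∧ ψ g ^ K • t = v m)
    (t : Γ(GrMod.tilde ℬ 𝒩 n, Proj.basicOpen ℬ (ψ f))) :
    ∃ (K : ℕ) (m : Γ(GrMod.tilde 𝒜 ℳ n, Proj.basicOpen 𝒜 f)),
      ((Proj.map ψ hψ).appLE (Proj.basicOpen 𝒜 f) (Proj.basicOpen ℬ (ψ f)) (hle ψ hψ f)).hom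
        (gamma hg hf) ^ K • t =
        thetaUV (Proj.map ψ hψ) (GrMod.comap ψ hψ v hv n) (hle ψ hψ f) m := by
  obtain ⟨k, i, b, hb, hi, rfl⟩ := exists_eq_fracSecM ℬ 𝒩 n hd (ψ.map_mem hf) t
  obtain ⟨K, m, hm, hKm⟩ := hvdeg i b hb
  refine ⟨K, fracSecM 𝒜 ℳ hf n k i m hm hi, ?_⟩
  have hmem : ψ g ^ K • b ∈ 𝒩 (0 • d + i) := by
    rw [hKm, zero_smul, zero_add]
    exact hv i m hm
  have hi' : ((0 • d + i : ℕ) : ℤ) = (((0 + k) • d : ℕ) : ℤ) + n := by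
    rw [zero_smul, zero_add, zero_add]
    exact hi
  rw [thetaUV_fracSecM, appLE_gamma_pow,
    fracO_smul_fracSecM ℬ 𝒩 n (ψ.map_mem hf) 0 k i _ _ b hb hi hmem hi']
  exact fs_congr ℬ 𝒩 _ n _ _ _ _ (zero_add k) (by rw [zero_smul, zero_add]) hKm

include hd in
theorem exists_pow_smul_eq_zero_of_thetaUV
    (hvker : ∀ m : M, v m = 0 → ∃ K : ℕ, g ^ K • m = 0)
    (m₀ : Γ(GrMod.tilde 𝒜 ℳ n, Proj.basicOpen 𝒜 f))
    (h0 : thetaUV (Proj.map ψ hψ) (GrMod.comap ψ hψ v hv n) (hle ψ hψ f) m₀ = 0) :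
    ∃ K : ℕ, gamma hg hf ^ K • m₀ = 0 := by
  obtain ⟨k, i, a, ha, hi, rfl⟩ := exists_eq_fracSecM 𝒜 ℳ n hd hf m₀
  rw [thetaUV_fracSecM, fracSecM_eq_zero_iff ℬ 𝒩 n hd (ψ.map_mem hf)] at h0
  obtain ⟨L, hL⟩ := h0
  replace hL : ψ f ^ L • v a = 0 := hL
  rw [← v_pow_smul] at hL
  obtain ⟨K, hK⟩ := hvker _ hL
  refine ⟨K, ?_⟩
  have hmem : g ^ K • a ∈ ℳ (0 • d + i) := by
    rw [zero_smul, zero_add]
    have := SetLike.GradedSMul.smul_mem (A := 𝒜) (B := ℳ)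
      (pow_mem_zero_smul 𝒜 (mem_zero_smul hg d) K) ha
    simpa [vadd_eq_add] using this
  have hi' : ((0 • d + i : ℕ) : ℤ) = (((0 + k) • d : ℕ) : ℤ) + n := by
    rw [zero_smul, zero_add, zero_add]
    exact hi
  unfold gamma
  rw [fracO_zero_pow, fracO_smul_fracSecM 𝒜 ℳ n hf 0 k i _ _ a ha hi hmem hi',
    fracSecM_eq_zero_iff 𝒜 ℳ n hd hf]
  refine ⟨L, ?_⟩
  rw [smul_comm]
  exact hK

include hd in
omit [DirectSum.Decomposition ℳ] [DirectSum.Decomposition 𝒩] in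
theorem exists_pow_mul_eq_appLE
    (hψdeg : ∀ (i : ℕ) (b : B), b ∈ ℬ i → ∃ (K : ℕ) (a : A), a ∈ 𝒜 i ∧ ψ g ^ K * b = ψ a)
    (c : Γ(Proj ℬ, Proj.basicOpen ℬ (ψ f))) :
    ∃ (K : ℕ) (x : Γ(Proj 𝒜, Proj.basicOpen 𝒜 f)),
      ((Proj.map ψ hψ).appLE (Proj.basicOpen 𝒜 f) (Proj.basicOpen ℬ (ψ f)) (hle ψ hψ f)).hom
        (gamma hg hf) ^ K * c =
      ((Proj.map ψ hψ).appLE (Proj.basicOpen 𝒜 f) (Proj.basicOpen ℬ (ψ f)) (hle ψ hψ f)).hom x := by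
  obtain ⟨k, b, hb, rfl⟩ := exists_eq_fracO ℬ hd (ψ.map_mem hf) c
  obtain ⟨K, a, ha, hKa⟩ := hψdeg _ b hb
  refine ⟨K, fracO 𝒜 hf k a ha, ?_⟩
  have hmem : ψ g ^ K * b ∈ ℬ ((0 + k) • d) := by
    rw [hKa, zero_add]
    exact ψ.map_mem ha
  rw [appLE_fracO, appLE_gamma_pow, fracO_mul ℬ (ψ.map_mem hf) 0 k _ _ _ hb hmem]
  exact fracO_congr ℬ _ _ _ (zero_add k) hKa

include hd in
omit [DirectSum.Decomposition ℳ] [DirectSum.Decomposition 𝒩] in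
theorem exists_pow_mul_eq_zero_of_appLE
    (hψker : ∀ a : A, ψ a = 0 → ∃ K : ℕ, g ^ K * a = 0)
    (x : Γ(Proj 𝒜, Proj.basicOpen 𝒜 f))
    (h0 : ((Proj.map ψ hψ).appLE (Proj.basicOpen 𝒜 f) (Proj.basicOpen ℬ (ψ f))
      (hle ψ hψ f)).hom x = 0) :
    ∃ K : ℕ, gamma hg hf ^ K * x = 0 := by
  obtain ⟨k, a, ha, rfl⟩ := exists_eq_fracO 𝒜 hd hf x
  rw [appLE_fracO, fracO_eq_zero_iff ℬ hd (ψ.map_mem hf)] at h0
  obtain ⟨L, hL⟩ := h0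
  replace hL : ψ (f ^ L * a) = 0 := by
    rw [map_mul, map_pow]
    exact hL
  obtain ⟨K, hK⟩ := hψker _ hL
  refine ⟨K, ?_⟩
  have hmem : g ^ K * a ∈ 𝒜 ((0 + k) • d) := by
    rw [zero_add]
    have := SetLike.mul_mem_graded (pow_mem_zero_smul 𝒜 (mem_zero_smul hg d) K) ha
    rwa [zero_smul, zero_add] at this
  unfold gamma
  rw [fracO_zero_pow, fracO_mul 𝒜 hf 0 k _ _ _ ha hmem, fracO_eq_zero_iff 𝒜 hd hf]
  refine ⟨L, ?_⟩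
  rw [mul_left_comm]
  exact hK

omit [DirectSum.Decomposition ℳ] [DirectSum.Decomposition 𝒩] in
theorem isUnit_appLE_gamma (hunit : ∃ h : B, h ∈ ℬ 0 ∧ ψ g * h = 1) :
    IsUnit (((Proj.map ψ hψ).appLE (Proj.basicOpen 𝒜 f) (Proj.basicOpen ℬ (ψ f))
      (hle ψ hψ f)).hom (gamma hg hf)) := by
  obtain ⟨h, hh, hgh⟩ := hunit
  have h1 : (1 : B) ∈ ℬ ((0 + 0) • d) := by
    rw [zero_add, zero_smul]
    exact SetLike.GradedOne.one_mem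
  apply IsUnit.of_mul_eq_one (fracO ℬ (ψ.map_mem hf) 0 h (mem_zero_smul hh d))
  unfold gamma
  rw [appLE_fracO, fracO_mul ℬ (ψ.map_mem hf) 0 0 _ _ _ _ (by rw [hgh]; exact h1)]
  rw [fracO_congr ℬ (ψ.map_mem hf) _ (by rw [zero_add] at h1; exact h1) (zero_add 0) hgh]
  exact fracO_one ℬ _ _


include hd in
omit [DirectSum.Decomposition ℳ] [DirectSum.Decomposition 𝒩] in
/-- `Γ(D_+(ψ f), O)` is the localization of `Γ(D_+(f), O)` at `g/1` -/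
theorem isLocalization_appLE (hunit : ∃ h : B, h ∈ ℬ 0 ∧ ψ g * h = 1)
    (hψdeg : ∀ (i : ℕ) (b : B), b ∈ ℬ i → ∃ (K : ℕ) (a : A), a ∈ 𝒜 i ∧ ψ g ^ K * b = ψ a)
    (hψker : ∀ a : A, ψ a = 0 → ∃ K : ℕ, g ^ K * a = 0) :
    letI := ((Proj.map ψ hψ).appLE (Proj.basicOpen 𝒜 f) (Proj.basicOpen ℬ (ψ f))
      (hle ψ hψ f)).hom.toAlgebra
    IsLocalization.Away (gamma hg hf) Γ(Proj ℬ, Proj.basicOpen ℬ (ψ f)) := by
  letI := ((Proj.map ψ hψ).appLE (Proj.basicOpen 𝒜 f) (Proj.basicOpen ℬ (ψ f))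
    (hle ψ hψ f)).hom.toAlgebra
  have h := isLocalizedModule_of_pow (OB := Γ(Proj 𝒜, Proj.basicOpen 𝒜 f))
    (OA := Γ(Proj ℬ, Proj.basicOpen ℬ (ψ f))) (gamma hg hf)
    (Algebra.linearMap Γ(Proj 𝒜, Proj.basicOpen 𝒜 f) Γ(Proj ℬ, Proj.basicOpen ℬ (ψ f)))
    (isUnit_appLE_gamma ψ hψ hg hf hunit) ?_ ?_
  · exact (isLocalizedModule_iff_isLocalization' _ _).mp h
  · intro t
    obtain ⟨K, x, hx⟩ := exists_pow_mul_eq_appLE ψ hψ hg hd hf hψdeg t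
    refine ⟨K, x, ?_⟩
    rw [Algebra.smul_def, map_pow]
    exact hx
  · intro m hm
    obtain ⟨K, hK⟩ := exists_pow_mul_eq_zero_of_appLE ψ hψ hg hd hf hψker m hm
    exact ⟨K, hK⟩

include hd hg hf in
/-- the map `Γ(D_+(f), M(n)~) → Γ(D_+(ψ f), N(n)~)` is a base change along
`Γ(D_+(f), O) → Γ(D_+(ψ f), O)` -/
theorem isBaseChange_thetaUV_loc (hunit : ∃ h : B, h ∈ ℬ 0 ∧ ψ g * h = 1)
    (hψdeg : ∀ (i : ℕ) (b : B), b ∈ ℬ i → ∃ (K : ℕ) (a : A), a ∈ 𝒜 i ∧ ψ g ^ K * b = ψ a)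
    (hψker : ∀ a : A, ψ a = 0 → ∃ K : ℕ, g ^ K * a = 0)
    (hvdeg : ∀ (i : ℕ) (t : N), t ∈ 𝒩 i → ∃ (K : ℕ) (m : M), m ∈ ℳ i ∧ ψ g ^ K • t = v m)
    (hvker : ∀ m : M, v m = 0 → ∃ K : ℕ, g ^ K • m = 0) :
    letI := ((Proj.map ψ hψ).appLE (Proj.basicOpen 𝒜 f) (Proj.basicOpen ℬ (ψ f))
      (hle ψ hψ f)).hom.toAlgebra
    letI : Module Γ(Proj 𝒜, Proj.basicOpen 𝒜 f)
        Γ(GrMod.tilde ℬ 𝒩 n, Proj.basicOpen ℬ (ψ f)) :=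
      Module.compHom _ ((Proj.map ψ hψ).appLE (Proj.basicOpen 𝒜 f) (Proj.basicOpen ℬ (ψ f))
        (hle ψ hψ f)).hom
    haveI : IsScalarTower Γ(Proj 𝒜, Proj.basicOpen 𝒜 f) Γ(Proj ℬ, Proj.basicOpen ℬ (ψ f))
        Γ(GrMod.tilde ℬ 𝒩 n, Proj.basicOpen ℬ (ψ f)) :=
      IsScalarTower.of_algebraMap_smul fun _ _ => rfl
    ∀ θl : Γ(GrMod.tilde 𝒜 ℳ n, Proj.basicOpen 𝒜 f) →ₗ[Γ(Proj 𝒜, Proj.basicOpen 𝒜 f)]
        Γ(GrMod.tilde ℬ 𝒩 n, Proj.basicOpen ℬ (ψ f)),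
      (∀ m, θl m = thetaUV (Proj.map ψ hψ) (GrMod.comap ψ hψ v hv n) (hle ψ hψ f) m) →
      IsBaseChange Γ(Proj ℬ, Proj.basicOpen ℬ (ψ f)) θl := by
  letI := ((Proj.map ψ hψ).appLE (Proj.basicOpen 𝒜 f) (Proj.basicOpen ℬ (ψ f))
    (hle ψ hψ f)).hom.toAlgebra
  letI : Module Γ(Proj 𝒜, Proj.basicOpen 𝒜 f)
      Γ(GrMod.tilde ℬ 𝒩 n, Proj.basicOpen ℬ (ψ f)) :=
    Module.compHom _ ((Proj.map ψ hψ).appLE (Proj.basicOpen 𝒜 f) (Proj.basicOpen ℬ (ψ f))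
      (hle ψ hψ f)).hom
  haveI : IsScalarTower Γ(Proj 𝒜, Proj.basicOpen 𝒜 f) Γ(Proj ℬ, Proj.basicOpen ℬ (ψ f))
      Γ(GrMod.tilde ℬ 𝒩 n, Proj.basicOpen ℬ (ψ f)) :=
    IsScalarTower.of_algebraMap_smul fun _ _ => rfl
  intro θl hθl
  haveI hL1 : IsLocalization (Submonoid.powers (gamma hg hf))
      Γ(Proj ℬ, Proj.basicOpen ℬ (ψ f)) :=
    isLocalization_appLE ψ hψ hg hd hf hunit hψdeg hψker
  haveI hL2 : IsLocalizedModule (Submonoid.powers (gamma hg hf)) θl := by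
    refine isLocalizedModule_of_pow (OA := Γ(Proj ℬ, Proj.basicOpen ℬ (ψ f))) (gamma hg hf) θl
      (isUnit_appLE_gamma ψ hψ hg hf hunit) ?_ ?_
    · intro t
      obtain ⟨K, m, h⟩ := exists_pow_smul_eq_thetaUV ψ hψ v hv n hg hd hf hvdeg t
      refine ⟨K, m, ?_⟩
      rw [hθl]
      show ((Proj.map ψ hψ).appLE (Proj.basicOpen 𝒜 f) (Proj.basicOpen ℬ (ψ f))
        (hle ψ hψ f)).hom (gamma hg hf ^ K) • t = _
      rw [map_pow]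
      exact h
    · intro m hm
      rw [hθl] at hm
      exact exists_pow_smul_eq_zero_of_thetaUV ψ hψ v hv n hg hd hf hvker m hm
  exact IsLocalizedModule.isBaseChange (Submonoid.powers (gamma hg hf))
    Γ(Proj ℬ, Proj.basicOpen ℬ (ψ f)) θl

include hg in
/-- For `ψ`, `v` localizations at a degree-zero element `g`, the adjoint `Φ^* (M(n)~) ⟶ N(n)~` of
`GrMod.comap` is an isomorphism. -/
theorem isIso_adj_comap_of_loc (hunit : ∃ h : B, h ∈ ℬ 0 ∧ ψ g * h = 1)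
    (hψdeg : ∀ (i : ℕ) (b : B), b ∈ ℬ i → ∃ (K : ℕ) (a : A), a ∈ 𝒜 i ∧ ψ g ^ K * b = ψ a)
    (hψker : ∀ a : A, ψ a = 0 → ∃ K : ℕ, g ^ K * a = 0)
    (hvdeg : ∀ (i : ℕ) (t : N), t ∈ 𝒩 i → ∃ (K : ℕ) (m : M), m ∈ ℳ i ∧ ψ g ^ K • t = v m)
    (hvker : ∀ m : M, v m = 0 → ∃ K : ℕ, g ^ K • m = 0) :
    IsIso (adj (Proj.map ψ hψ) (GrMod.comap ψ hψ v hv n)) := by
  haveI := isQuasicoherent_tilde 𝒜 ℳ n
  haveI := isQuasicoherent_tilde ℬ 𝒩 n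
  apply isIso_adj
  intro y
  obtain ⟨d, f, hd, hf, hfy⟩ := exists_pos_homog_not_mem 𝒜 (ProjectiveSpectrum.comap ψ hψ y)
  refine ⟨Proj.basicOpen ℬ (ψ f), Proj.isAffineOpen_basicOpen ℬ (ψ f) (ψ.map_mem hf) hd, hfy, ?_⟩
  letI := ((Proj.map ψ hψ).appLE (Proj.basicOpen 𝒜 f) (Proj.basicOpen ℬ (ψ f))
    (hle ψ hψ f)).hom.toAlgebra
  letI : Module Γ(Proj 𝒜, Proj.basicOpen 𝒜 f)
      Γ(GrMod.tilde ℬ 𝒩 n, Proj.basicOpen ℬ (ψ f)) :=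
    Module.compHom _ ((Proj.map ψ hψ).appLE (Proj.basicOpen 𝒜 f) (Proj.basicOpen ℬ (ψ f))
      (hle ψ hψ f)).hom
  let θl : Γ(GrMod.tilde 𝒜 ℳ n, Proj.basicOpen 𝒜 f) →ₗ[Γ(Proj 𝒜, Proj.basicOpen 𝒜 f)]
      Γ(GrMod.tilde ℬ 𝒩 n, Proj.basicOpen ℬ (ψ f)) :=
    { toFun := thetaUV (Proj.map ψ hψ) (GrMod.comap ψ hψ v hv n) (hle ψ hψ f)
      map_add' := map_add _
      map_smul' := fun a m => thetaUV_smul _ _ (hle ψ hψ f) a m }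
  exact bijective_adj_app (Proj.map ψ hψ) (GrMod.comap ψ hψ v hv n)
    (hle ψ hψ f) (Proj.isAffineOpen_basicOpen 𝒜 f hf hd)
    (Proj.isAffineOpen_basicOpen ℬ (ψ f) (ψ.map_mem hf) hd) θl (fun m => rfl)
    (isBaseChange_thetaUV_loc ψ hψ v hv n hg hd hf hunit hψdeg hψker hvdeg hvker θl
      (fun m => rfl))

end Loc

end Groth.Agent.Lib.TwPullH2
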