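import Mathlib
import Groth.Prelude
import Groth.Agent.Lib.TwPull5_helper2
import Groth.Agent.Lib.TwPull2_helper2
import Groth.Agent.Lib.LineChart1_helper5

/-!
# `Proj` of a localization at a degree-zero element (helper2)

For `ψ : 𝒜 → ℬ` a "localization at `g ∈ 𝒜 0`": `Proj.map ψ` is injective (`injective_map_of_loc`),
an open immersion (`isOpenImmersion_map_of_loc`), with image the preimage of `D(g) ⊆ Spec 𝒜₀`
(`range_map_of_away`); `main9573` assembles these with `isIso_adj_comap_of_loc`.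
APPEND-ONLY once landed.
-/

set_option autoImplicit false
universe u
open CategoryTheory CategoryTheory.Limits AlgebraicGeometry TopologicalSpace Opposite DirectSum
open HomogeneousLocalization

namespace Groth.Agent.Lib.TwPullH2

open Groth.Agent.GrTi Groth.Agent.GrTw QcqsLoc QCohExtn Groth.Agent.Lib.GrModSectH1
  Groth.Agent.Lib.PullAdjH2 Groth.Agent.Lib.SatQH2

section OI
variable {A σ : Type u} [CommRing A] [SetLike σ A] [AddSubgroupClass σ A] {𝒜 : ℕ → σ}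
  [GradedRing 𝒜]
  {B σ' : Type u} [CommRing B] [SetLike σ' B] [AddSubgroupClass σ' B] {ℬ : ℕ → σ'} [GradedRing ℬ]
  (ψ : 𝒜 →+*ᵍ ℬ) (hψ : HomogeneousIdeal.irrelevant ℬ ≤ (HomogeneousIdeal.irrelevant 𝒜).map ψ)
  {g : A} (hg : g ∈ 𝒜 0)

include hψ in
theorem eq_of_comap_eq (hunit : ∃ h : B, h ∈ ℬ 0 ∧ ψ g * h = 1)
    (hψdeg : ∀ (i : ℕ) (b : B), b ∈ ℬ i → ∃ (K : ℕ) (a : A), a ∈ 𝒜 i ∧ ψ g ^ K * b = ψ a)
    (y1 y2 : ProjectiveSpectrum ℬ)
    (h : ProjectiveSpectrum.comap ψ hψ y1 = ProjectiveSpectrum.comap ψ hψ y2) : y1 = y2 := by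
  have hc : ∀ a : A, ψ a ∈ y1.asHomogeneousIdeal ↔ ψ a ∈ y2.asHomogeneousIdeal := by
    intro a
    have h' : a ∈ (ProjectiveSpectrum.comap ψ hψ y1).asHomogeneousIdeal ↔
        a ∈ (ProjectiveSpectrum.comap ψ hψ y2).asHomogeneousIdeal := by
      rw [h]
    exact h'
  apply ProjectiveSpectrum.ext
  apply HomogeneousIdeal.ext'
  intro i b hb
  obtain ⟨K, a, ha, hKa⟩ := hψdeg i b hb
  have key : ∀ y : ProjectiveSpectrum ℬ,
      b ∈ y.asHomogeneousIdeal ↔ ψ a ∈ y.asHomogeneousIdeal := by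
    intro y
    rw [← hKa]
    constructor
    · intro hb
      exact Ideal.mul_mem_left _ _ hb
    · intro h2
      rcases y.isPrime.mem_or_mem h2 with h3 | h3
      · exfalso
        have h4 := y.isPrime.mem_of_pow_mem K h3
        obtain ⟨h0, -, hgh⟩ := hunit
        have h5 : (1 : B) ∈ y.asHomogeneousIdeal.toIdeal := by
          rw [← hgh]
          exact Ideal.mul_mem_right _ _ h4
        exact y.isPrime.ne_top ((Ideal.eq_top_iff_one _).mpr h5)
      · exact h3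
  rw [key y1, key y2, hc]

theorem injective_map_of_loc (hunit : ∃ h : B, h ∈ ℬ 0 ∧ ψ g * h = 1)
    (hψdeg : ∀ (i : ℕ) (b : B), b ∈ ℬ i → ∃ (K : ℕ) (a : A), a ∈ 𝒜 i ∧ ψ g ^ K * b = ψ a) :
    Function.Injective (Proj.map ψ hψ).base :=
  fun y1 y2 h => eq_of_comap_eq ψ hψ hunit hψdeg y1 y2 h

include hg in
/-- For `ψ` a localization at a degree-zero element `g`, `Proj.map ψ` is an open immersion. -/
theorem isOpenImmersion_map_of_loc (hunit : ∃ h : B, h ∈ ℬ 0 ∧ ψ g * h = 1)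
    (hψdeg : ∀ (i : ℕ) (b : B), b ∈ ℬ i → ∃ (K : ℕ) (a : A), a ∈ 𝒜 i ∧ ψ g ^ K * b = ψ a)
    (hψker : ∀ a : A, ψ a = 0 → ∃ K : ℕ, g ^ K * a = 0) :
    IsOpenImmersion (Proj.map ψ hψ) := by
  apply IsOpenImmersion.of_forall_source_exists _ (injective_map_of_loc ψ hψ hunit hψdeg)
  intro y
  obtain ⟨d, f, hd, hf, hfy⟩ := exists_pos_homog_not_mem 𝒜 (ProjectiveSpectrum.comap ψ hψ y)
  refine ⟨_, Proj.awayι ℬ (ψ f) (ψ.map_mem hf) hd, inferInstance, ?_, ?_⟩
  · rw [Proj.opensRange_awayι]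
    exact hfy
  · rw [Proj.awayι_comp_map ψ hψ hd f hf]
    have key : IsOpenImmersion (Spec.map (CommRingCat.ofHom
        (Away.map ψ f : Away 𝒜 f →+* Away ℬ (ψ f)))) := by
      letI := ((Proj.map ψ hψ).appLE (Proj.basicOpen 𝒜 f) (Proj.basicOpen ℬ (ψ f))
        (hle ψ hψ f)).hom.toAlgebra
      haveI := isLocalization_appLE ψ hψ hg hd hf hunit hψdeg hψker
      have h1 : IsOpenImmersion (Spec.map ((Proj.map ψ hψ).appLE (Proj.basicOpen 𝒜 f)
          (Proj.basicOpen ℬ (ψ f)) (hle ψ hψ f))) :=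
        IsOpenImmersion.of_isLocalization (gamma hg hf)
      haveI i1 : IsIso (Proj.awayToSection 𝒜 f) := by
        have := (Proj.basicOpenIsoAway 𝒜 f hf hd).isIso_hom
        rwa [Proj.basicOpenIsoAway_hom] at this
      haveI i2 : IsIso (Proj.awayToSection ℬ (ψ f)) := by
        have := (Proj.basicOpenIsoAway ℬ (ψ f) (ψ.map_mem hf) hd).isIso_hom
        rwa [Proj.basicOpenIsoAway_hom] at this
      have e := Proj.awayToSection_comp_appLE ψ hψ hf
      have e' : CommRingCat.ofHom (Away.map ψ f : Away 𝒜 f →+* Away ℬ (ψ f)) =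
          Proj.awayToSection 𝒜 f ≫ (Proj.map ψ hψ).appLE (Proj.basicOpen 𝒜 f)
            (Proj.basicOpen ℬ (ψ f)) (hle ψ hψ f) ≫ inv (Proj.awayToSection ℬ (ψ f)) := by
        rw [← Category.assoc, e, Category.assoc, IsIso.hom_inv_id, Category.comp_id]
      rw [e', Spec.map_comp, Spec.map_comp]
      infer_instance
    infer_instance

end OI

section Rg
variable {A σ : Type u} [CommRing A] [SetLike σ A] [AddSubgroupClass σ A] {𝒜 : ℕ → σ}
  [GradedRing 𝒜]
  {B σ' : Type u} [CommRing B] [SetLike σ' B] [AddSubgroupClass σ' B] {ℬ : ℕ → σ'} [GradedRing ℬ]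
  (ψ : 𝒜 →+*ᵍ ℬ) (hψ : HomogeneousIdeal.irrelevant ℬ ≤ (HomogeneousIdeal.irrelevant 𝒜).map ψ)
  {g : A} (hg : g ∈ 𝒜 0) [Algebra A B] (hψA : ∀ a : A, ψ a = algebraMap A B a)
  [IsLocalization.Away g B]

include hψA in
theorem map_mul_invSelf : ψ g * IsLocalization.Away.invSelf g = 1 := by
  rw [hψA]
  exact IsLocalization.Away.mul_invSelf g

include hψA in
theorem hψker_of_away (a : A) (h : ψ a = 0) : ∃ K : ℕ, g ^ K * a = 0 := by
  rw [hψA] at h
  obtain ⟨⟨_, K, rfl⟩, hK⟩ := (IsLocalization.map_eq_zero_iff (Submonoid.powers g) B a).mp h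
  exact ⟨K, hK⟩

include hψA in
/-- the image of `Proj.map ψ` is the preimage of `D(g) ⊆ Spec 𝒜₀` -/
theorem range_map_of_away :
    Set.range (Proj.map ψ hψ).base =
      (Proj.toSpecZero 𝒜).base ⁻¹'
        (PrimeSpectrum.basicOpen (⟨g, hg⟩ : 𝒜 0) : Set (PrimeSpectrum (𝒜 0))) := by
  have hgh := map_mul_invSelf ψ (g := g) hψA
  ext x
  constructor
  · rintro ⟨y, rfl⟩
    show (⟨g, hg⟩ : 𝒜 0) ∉ ((Proj.toSpecZero 𝒜).base ((Proj.map ψ hψ).base y)).asIdeal
    intro hmem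
    rw [Groth.Agent.LineChart.mem_toSpecZero_iff] at hmem
    have h1 : ψ g ∈ y.asHomogeneousIdeal := hmem
    have h2 : (1 : B) ∈ y.asHomogeneousIdeal.toIdeal := by
      rw [← hgh]
      exact Ideal.mul_mem_right _ _ h1
    exact y.isPrime.ne_top ((Ideal.eq_top_iff_one _).mpr h2)
  · intro hx
    have hx0 : (⟨g, hg⟩ : 𝒜 0) ∉ ((Proj.toSpecZero 𝒜).base x).asIdeal := hx
    have hx' : g ∉ x.asHomogeneousIdeal := fun h =>
      hx0 ((Groth.Agent.LineChart.mem_toSpecZero_iff 𝒜 x ⟨g, hg⟩).mpr h)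
    have hdisj : Disjoint (Submonoid.powers g : Set A) (x.asHomogeneousIdeal.toIdeal : Set A) := by
      rw [Set.disjoint_left]
      rintro _ ⟨k, rfl⟩ hk
      exact hx' (x.isPrime.mem_of_pow_mem k hk)
    have hmap : ∀ I : Ideal A, Ideal.map ψ I = Ideal.map (algebraMap A B) I := by
      intro I
      unfold Ideal.map
      congr 1
      exact Set.image_congr (fun a _ => hψA a)
    have hprime : (Ideal.map ψ x.asHomogeneousIdeal.toIdeal).IsPrime := by
      rw [hmap]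
      exact IsLocalization.isPrime_of_isPrime_disjoint (Submonoid.powers g) B _ x.isPrime hdisj
    have hcomap : ∀ a : A, ψ a ∈ Ideal.map ψ x.asHomogeneousIdeal.toIdeal ↔
        a ∈ x.asHomogeneousIdeal.toIdeal := by
      intro a
      have := IsLocalization.under_map_of_isPrime_disjoint (Submonoid.powers g) B x.isPrime hdisj
      rw [hmap, hψA]
      exact (Ideal.mem_comap).symm.trans (by rw [show Ideal.comap (algebraMap A B)
        (Ideal.map (algebraMap A B) x.asHomogeneousIdeal.toIdeal) =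
          x.asHomogeneousIdeal.toIdeal from this])
    obtain ⟨d, f, hd, hf, hfx⟩ := exists_pos_homog_not_mem 𝒜 x
    have hirr : ¬ HomogeneousIdeal.irrelevant ℬ ≤ x.asHomogeneousIdeal.map ψ := by
      intro hle
      have h1 : ψ f ∈ HomogeneousIdeal.irrelevant ℬ :=
        HomogeneousIdeal.mem_irrelevant_of_mem ℬ hd (ψ.map_mem hf)
      exact hfx ((hcomap f).mp (hle h1))
    refine ⟨(⟨x.asHomogeneousIdeal.map ψ, hprime, hirr⟩ : ProjectiveSpectrum ℬ), ?_⟩
    apply ProjectiveSpectrum.ext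
    apply HomogeneousIdeal.ext
    ext a
    exact hcomap a

end Rg

section Main
variable {R A : Type u} [CommRing R] [CommRing A] [Algebra R A] (𝒜 : ℕ → Submodule R A)
  [GradedAlgebra 𝒜]
  {B : Type u} [CommRing B] [Algebra R B] (ℬ : ℕ → Submodule R B) [GradedAlgebra ℬ]
  (ψ : 𝒜 →+*ᵍ ℬ)

/-- `Proj` of the localization of a graded ring at a degree-zero element: open immersion, image,
and pull-back of the twisting sheaves. -/
theorem main9573 (g : A) (hg : g ∈ 𝒜 0) [Algebra A B] (hψA : ∀ a : A, ψ a = algebraMap A B a)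
    [IsLocalization.Away g B]
    (hdeg : ∀ (n : ℕ) (b : B), b ∈ ℬ n ↔ ∃ (k : ℕ) (a : A), a ∈ 𝒜 n ∧ ψ g ^ k * b = ψ a)
    (hψ : HomogeneousIdeal.irrelevant ℬ ≤ (HomogeneousIdeal.irrelevant 𝒜).map ψ) :
    IsOpenImmersion (Proj.map ψ hψ) ∧
      Set.range (Proj.map ψ hψ).base =
        (Proj.toSpecZero 𝒜).base ⁻¹'
          (PrimeSpectrum.basicOpen (⟨g, hg⟩ : 𝒜 0) : Set (PrimeSpectrum (𝒜 0))) ∧
      ∀ n : ℤ, IsIso (((Scheme.Modules.pullbackPushforwardAdjunction (Proj.map ψ hψ)).homEquiv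
        _ _).symm (GrTwist.comap ψ hψ n)) := by
  have hgh := map_mul_invSelf ψ (g := g) hψA
  have hunit : ∃ h : B, h ∈ ℬ 0 ∧ ψ g * h = 1 := by
    refine ⟨IsLocalization.Away.invSelf g, ?_, hgh⟩
    rw [hdeg]
    refine ⟨1, 1, SetLike.GradedOne.one_mem, ?_⟩
    rw [pow_one, map_one]
    exact hgh
  have hψdeg : ∀ (i : ℕ) (b : B), b ∈ ℬ i → ∃ (K : ℕ) (a : A), a ∈ 𝒜 i ∧ ψ g ^ K * b = ψ a :=
    fun i b hb => (hdeg i b).mp hb
  have hψker : ∀ a : A, ψ a = 0 → ∃ K : ℕ, g ^ K * a = 0 :=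
    fun a h => hψker_of_away ψ hψA a h
  refine ⟨isOpenImmersion_map_of_loc ψ hψ hg hunit hψdeg hψker,
    range_map_of_away ψ hψ hg hψA, fun n => ?_⟩
  have h1 := isIso_adj_comap_of_loc ψ hψ (psiSL ψ) (psiSL_mem ψ) n hg hunit hψdeg hψker
    hψdeg (fun a h => hψker a h)
  exact isIso_adj_theta_of_tilde ψ hψ n h1

end Main

end Groth.Agent.Lib.TwPullH2
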