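import Mathlib
import Groth.Prelude
import Groth.Agent.Lib.TwPull6_helper2

/-!
# Pull-back of `M(n)~` along `Proj.map ψ` when `A₊` is generated in degree one (helper2)

* `isBaseChange_of_quot`: abstract "quotient of a base change is the base change of the quotient".
* `ev0 : A →+* Γ(D_+(f), O)`, `evM : M →+ Γ(D_+(f), M(n)~)` dehomogenization maps for `deg f = 1`
  (`a ↦ Σ a_i / f^i`), surjective, `evM` is `ev0`-semilinear with kernel `ker(ev0) • M`.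
* `isBaseChange_thetaUV_deg_one`, `isIso_adj_comap_of_deg_one` (EGA II 2.8.8-type statement).
APPEND-ONLY once landed.
-/

set_option autoImplicit false
universe u
open CategoryTheory CategoryTheory.Limits AlgebraicGeometry TopologicalSpace Opposite DirectSum
open HomogeneousLocalization

namespace Groth.Agent.Lib.TwPullH2

open Groth.Agent.GrTi Groth.Agent.GrTw QcqsLoc QCohExtn Groth.Agent.Lib.GrModSectH1
  Groth.Agent.Lib.PullAdjH2 Groth.Agent.Lib.SatQH2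

section AbsQuot
variable {A B OA OB M N P T : Type u} [CommRing A] [CommRing B] [CommRing OA] [CommRing OB]
  [Algebra OA OB]
  [AddCommGroup M] [Module A M] [AddCommGroup N] [Module B N]
  [AddCommGroup P] [Module OA P] [AddCommGroup T] [Module OA T] [Module OB T]
  [IsScalarTower OA OB T]
  (ψ : A →+* B) (ρA : A →+* OA) (ρB : B →+* OB)

include ρA in
/-- Abstract "quotient of a base change is a base change of the quotient": `N = B ⊗_A M` (via the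
universal property `hbc`), `P`, `T` quotients of `M`, `N` over quotients `OA`, `OB` of `A`, `B`,
with `ker (N → T) = ker (B → OB) • N`; then `T = OB ⊗_OA P`. -/
theorem isBaseChange_of_quot
    (hρ : ∀ a, algebraMap OA OB (ρA a) = ρB (ψ a))
    (hρB : Function.Surjective ρB)
    (v : M →ₛₗ[ψ] N)
    (hbc : ∀ (Q : Type u) [AddCommGroup Q] [Module B Q] (w : M →ₛₗ[ψ] Q),
      ∃! g : N →ₗ[B] Q, ∀ m : M, g (v m) = w m)
    (εM : M →ₛₗ[ρA] P) (hεM : Function.Surjective εM)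
    (εN : N →ₛₗ[ρB] T) (hεN : Function.Surjective εN)
    (hK : ∀ t, εN t = 0 → t ∈ (RingHom.ker ρB) • (⊤ : Submodule B N))
    (θ : P →ₗ[OA] T) (hθ : ∀ m, θ (εM m) = εN (v m)) : IsBaseChange OB θ := by
  apply IsBaseChange.of_lift_unique
  intro Q _ _ _ _ q
  letI : AddCommGroup Q := Module.addCommMonoidToAddCommGroup OB
  letI : Module B Q := Module.compHom Q ρB
  have hsm : ∀ (b : B) (x : Q), b • x = ρB b • x := fun _ _ => rfl
  let w : M →ₛₗ[ψ] Q :=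
    { toFun := fun m => q (εM m)
      map_add' := fun m₁ m₂ => by rw [map_add, map_add]
      map_smul' := fun a m => by
        show q (εM (a • m)) = ψ a • q (εM m)
        rw [hsm, εM.map_smulₛₗ, q.map_smul, ← hρ, algebraMap_smul] }
  obtain ⟨g, hg, hguniq⟩ := hbc Q w
  have hgker : ∀ t, εN t = 0 → g t = 0 := by
    intro t ht
    refine Submodule.smul_induction_on (hK t ht) ?_ ?_
    · intro c hc x _
      rw [g.map_smul, hsm, (RingHom.mem_ker).mp hc, zero_smul]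
    · intro x y hx hy
      rw [map_add, hx, hy, add_zero]
  have hgeq : ∀ t₁ t₂, εN t₁ = εN t₂ → g t₁ = g t₂ := by
    intro t₁ t₂ h
    have h0 : εN (t₁ - t₂) = 0 := by rw [map_sub, h, sub_self]
    have := hgker _ h0
    rwa [map_sub, sub_eq_zero] at this
  let q'fun : T → Q := fun s => g (Classical.choose (hεN s))
  have hq' : ∀ t, q'fun (εN t) = g t := fun t =>
    hgeq _ _ (Classical.choose_spec (hεN (εN t)))
  let q' : T →ₗ[OB] Q :=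
    { toFun := q'fun
      map_add' := fun s₁ s₂ => by
        obtain ⟨t₁, rfl⟩ := hεN s₁
        obtain ⟨t₂, rfl⟩ := hεN s₂
        rw [← map_add, hq', hq', hq', map_add]
      map_smul' := fun c s => by
        obtain ⟨t, rfl⟩ := hεN s
        obtain ⟨b, rfl⟩ := hρB c
        rw [← εN.map_smulₛₗ, hq', hq', g.map_smul, hsm]
        rfl }
  refine ⟨q', ?_, ?_⟩
  · apply LinearMap.ext
    intro p
    obtain ⟨m, rfl⟩ := hεM p
    show q'fun (θ (εM m)) = q (εM m)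
    rw [hθ, hq', hg]
    rfl
  · intro q'' hq''
    have hq''' : ∀ p, q'' (θ p) = q p := fun p => LinearMap.congr_fun hq'' p
    let g'' : N →ₗ[B] Q :=
      { toFun := fun t => q'' (εN t)
        map_add' := fun t₁ t₂ => by rw [map_add, map_add]
        map_smul' := fun b t => by
          rw [εN.map_smulₛₗ, q''.map_smul, RingHom.id_apply, hsm] }
    have h2 : g'' = g := by
      apply hguniq
      intro m
      show q'' (εN (v m)) = q (εM m)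
      rw [← hθ, hq''']
    apply LinearMap.ext
    intro s
    obtain ⟨t, rfl⟩ := hεN s
    show q'' (εN t) = q'fun (εN t)
    rw [hq', ← h2]
    rfl

end AbsQuot

section Ev0
variable {A σ : Type u} [CommRing A] [SetLike σ A] [AddSubgroupClass σ A] (𝒜 : ℕ → σ)
  [GradedRing 𝒜] {f : A} (hf : f ∈ 𝒜 1)

theorem mem_smul_one {i : ℕ} {a : A} (ha : a ∈ 𝒜 i) : a ∈ 𝒜 (i • 1) := by
  rwa [smul_eq_mul, mul_one]

/-- `a ↦ a / f^i` on `𝒜 i`, for `f` of degree one -/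
noncomputable def ev0H (i : ℕ) : 𝒜 i →+ Γ(Proj 𝒜, Proj.basicOpen 𝒜 f) where
  toFun a := fracO 𝒜 hf i a (mem_smul_one 𝒜 a.2)
  map_zero' := fracO_zero 𝒜 hf i
  map_add' a b := fracO_add 𝒜 hf i a b _ _

/-- dehomogenization `A → Γ(D_+(f), O)`, `a ↦ Σ a_i / f^i`, for `f` of degree one -/
noncomputable def ev0 : A →+* Γ(Proj 𝒜, Proj.basicOpen 𝒜 f) :=
  (DirectSum.toSemiring (fun i => ev0H 𝒜 hf i)
    (fracO_one 𝒜 hf (mem_smul_one 𝒜 SetLike.GradedOne.one_mem))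
    (fun {i j} ai aj => (fracO_mul 𝒜 hf i j ai aj _ _
      (mem_smul_one 𝒜 (SetLike.mul_mem_graded ai.2 aj.2))).symm)).comp
    (DirectSum.decomposeRingEquiv 𝒜 : A ≃+* ⨁ i, 𝒜 i).toRingHom

theorem ev0_of_mem {i : ℕ} {a : A} (ha : a ∈ 𝒜 i) :
    ev0 𝒜 hf a = fracO 𝒜 hf i a (mem_smul_one 𝒜 ha) := by
  unfold ev0
  rw [RingHom.comp_apply]
  have h1 : (DirectSum.decomposeRingEquiv 𝒜 : A ≃+* ⨁ i, 𝒜 i).toRingHom a =
      DirectSum.of (fun i => 𝒜 i) i ⟨a, ha⟩ := DirectSum.decompose_of_mem 𝒜 ha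
  rw [h1, DirectSum.toSemiring_of]
  rfl

theorem ev0_self : ev0 𝒜 hf f = 1 := by
  rw [ev0_of_mem 𝒜 hf hf]
  have h1 : (1 : A) ∈ 𝒜 (0 • 1) := mem_smul_one 𝒜 SetLike.GradedOne.one_mem
  have h2 : f ^ 1 * 1 ∈ 𝒜 ((0 + 1) • 1) := by
    rw [pow_one, mul_one, zero_add]
    exact mem_smul_one 𝒜 hf
  rw [← fracO_one 𝒜 hf h1, ← fracO_shift 𝒜 hf 0 1 1 h1 h2]
  exact fracO_congr 𝒜 hf _ _ (zero_add 1).symm (by rw [pow_one, mul_one])

theorem ev0_surjective : Function.Surjective (ev0 𝒜 hf) := by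
  intro c
  obtain ⟨k, a, ha, rfl⟩ := exists_eq_fracO 𝒜 one_pos hf c
  have ha' : a ∈ 𝒜 k := by rwa [smul_eq_mul, mul_one] at ha
  exact ⟨a, ev0_of_mem 𝒜 hf ha'⟩

theorem one_sub_pow_mem_ker (e : ℕ) : 1 - f ^ e ∈ RingHom.ker (ev0 𝒜 hf) := by
  rw [RingHom.mem_ker, map_sub, map_one, map_pow, ev0_self, one_pow, sub_self]

end Ev0

section EvM
variable {A σ : Type u} [CommRing A] [SetLike σ A] [AddSubgroupClass σ A] (𝒜 : ℕ → σ)
  [GradedRing 𝒜]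
  {M τ : Type u} [AddCommGroup M] [Module A M] [SetLike τ M] [AddSubgroupClass τ M] (ℳ : ℕ → τ)
  [SetLike.GradedSMul 𝒜 ℳ] [DirectSum.Decomposition ℳ]
  {f : A} (hf : f ∈ 𝒜 1) (n : ℤ)

omit [DirectSum.Decomposition ℳ] in
/-- equality of two fractions -/
theorem fs_eq {d : ℕ} {g : A} (hg : g ∈ 𝒜 d) {k i k' i' : ℕ} {m m' : M} (hm : m ∈ ℳ i)
    (hm' : m' ∈ ℳ i') (hi : (i : ℤ) = ((k • d : ℕ) : ℤ) + n)
    (hi' : (i' : ℤ) = ((k' • d : ℕ) : ℤ) + n) (h : g ^ k' • m = g ^ k • m') :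
    fracSecM 𝒜 ℳ hg n k i m hm hi = fracSecM 𝒜 ℳ hg n k' i' m' hm' hi' :=
  eq_of_val 𝒜 ℳ _ _ m m' (g ^ k) (g ^ k') (pow_nin 𝒜 _) (pow_nin 𝒜 _)
    (fun _ => rfl) (fun _ => rfl) h

theorem evH_aux (j : ℕ) :
    (((n - j).toNat • 1 + j : ℕ) : ℤ) = ((((j : ℤ) - n).toNat • 1 : ℕ) : ℤ) + n := by
  simp only [smul_eq_mul, mul_one]
  omega

/-- `m ↦ m / f^(j-n)` on `ℳ j`, for `f` of degree one -/
noncomputable def evH (j : ℕ) : ℳ j →+ Γ(GrMod.tilde 𝒜 ℳ n, Proj.basicOpen 𝒜 f) where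
  toFun m := fracSecM 𝒜 ℳ hf n ((j : ℤ) - n).toNat ((n - j).toNat • 1 + j)
    (f ^ (n - j).toNat • (m : M)) (pow_smul_mem hf _ j m.2) (evH_aux n j)
  map_zero' := by
    rw [← fs_zero 𝒜 ℳ hf n ((j : ℤ) - n).toNat ((n - j).toNat • 1 + j) (evH_aux n j)]
    exact fs_congr 𝒜 ℳ hf n _ _ _ _ rfl rfl (smul_zero _)
  map_add' m m' := by
    rw [← fs_add 𝒜 ℳ hf n _ _ _ _ (pow_smul_mem hf _ j m.2) (pow_smul_mem hf _ j m'.2)]
    exact fs_congr 𝒜 ℳ hf n _ _ _ _ rfl rfl (smul_add _ _ _)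

/-- dehomogenization `M → Γ(D_+(f), M(n)~)`, `m ↦ Σ m_j / f^(j-n)`, for `f` of degree one -/
noncomputable def evM : M →+ Γ(GrMod.tilde 𝒜 ℳ n, Proj.basicOpen 𝒜 f) :=
  (DirectSum.toAddMonoid (fun j => evH 𝒜 ℳ hf n j)).comp
    (DirectSum.decomposeAddEquiv ℳ).toAddMonoidHom

theorem evM_of_mem {j : ℕ} {m : M} (hm : m ∈ ℳ j) :
    evM 𝒜 ℳ hf n m = evH 𝒜 ℳ hf n j ⟨m, hm⟩ := by
  unfold evM
  rw [AddMonoidHom.comp_apply]
  have h1 : (DirectSum.decomposeAddEquiv ℳ).toAddMonoidHom m =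
      DirectSum.of (fun i => ℳ i) j ⟨m, hm⟩ := DirectSum.decompose_of_mem ℳ hm
  rw [h1, DirectSum.toAddMonoid_of]

/-- `evM` on a homogeneous element of degree `≥ n` -/
theorem evM_fs {k i : ℕ} {m : M} (hm : m ∈ ℳ i) (hi : (i : ℤ) = ((k • 1 : ℕ) : ℤ) + n) :
    evM 𝒜 ℳ hf n m = fracSecM 𝒜 ℳ hf n k i m hm hi := by
  rw [evM_of_mem 𝒜 ℳ hf n hm]
  have hk : ((k • 1 : ℕ) : ℤ) = k := by simp
  have he : (n - i).toNat = 0 := by omega
  have hk' : ((i : ℤ) - n).toNat = k := by omega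
  exact fs_eq 𝒜 ℳ n hf (pow_smul_mem hf _ i hm) hm (evH_aux n i) hi
    (by rw [he, hk', pow_zero, one_smul])

theorem evM_surjective : Function.Surjective (evM 𝒜 ℳ hf n) := by
  intro s
  obtain ⟨k, i, m, hm, hi, rfl⟩ := exists_eq_fracSecM 𝒜 ℳ n one_pos hf s
  exact ⟨m, evM_fs 𝒜 ℳ hf n hm hi⟩

theorem evM_smul (a : A) (m : M) :
    evM 𝒜 ℳ hf n (a • m) = ev0 𝒜 hf a • evM 𝒜 ℳ hf n m := by
  induction a using DirectSum.Decomposition.inductionOn 𝒜 with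
  | zero => rw [zero_smul, map_zero, map_zero, zero_smul]
  | add a a' h h' => rw [add_smul, map_add, map_add, add_smul, h, h']
  | homogeneous a =>
    rename_i i
    induction m using DirectSum.Decomposition.inductionOn ℳ with
    | zero => rw [smul_zero, map_zero, smul_zero]
    | add m m' h h' => rw [smul_add, map_add, map_add, smul_add, h, h']
    | homogeneous m =>
      rename_i j
      have ham : (a : A) • (m : M) ∈ ℳ (i + j) := SetLike.GradedSMul.smul_mem a.2 m.2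
      rw [evM_of_mem 𝒜 ℳ hf n ham, evM_of_mem 𝒜 ℳ hf n m.2, ev0_of_mem 𝒜 hf a.2]
      symm
      refine smul_eq_of_val 𝒜 ℳ _ _ _ (a : A) (f ^ i) (f ^ (n - j).toNat • (m : M))
        (f ^ (n - (i + j : ℕ)).toNat • ((a : A) • (m : M))) (f ^ ((j : ℤ) - n).toNat)
        (f ^ (((i + j : ℕ) : ℤ) - n).toNat) (pow_nin 𝒜 _) (pow_nin 𝒜 _) (pow_nin 𝒜 _)
        (fun y => rfl) (fun y => rfl) (fun y => rfl) ?_
      rw [smul_smul, smul_smul, smul_smul, smul_smul]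
      congr 1
      have hexp : i + ((j : ℤ) - n).toNat + (n - (i + j : ℕ)).toNat =
          (((i + j : ℕ) : ℤ) - n).toNat + (n - j).toNat := by omega
      calc f ^ i * f ^ ((j : ℤ) - n).toNat * f ^ (n - (i + j : ℕ)).toNat * (a : A)
          = f ^ (i + ((j : ℤ) - n).toNat + (n - (i + j : ℕ)).toNat) * (a : A) := by
            rw [pow_add, pow_add]
        _ = f ^ ((((i + j : ℕ) : ℤ) - n).toNat + (n - j).toNat) * (a : A) := by rw [hexp]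
        _ = f ^ (((i + j : ℕ) : ℤ) - n).toNat * (a : A) * f ^ (n - j).toNat := by
            rw [pow_add]; ring

theorem evM_eq_zero_of_mem {m : M}
    (hm : m ∈ (RingHom.ker (ev0 𝒜 hf)) • (⊤ : Submodule A M)) : evM 𝒜 ℳ hf n m = 0 := by
  refine Submodule.smul_induction_on hm ?_ ?_
  · intro c hc x _
    rw [evM_smul, (RingHom.mem_ker).mp hc, zero_smul]
  · intro x y hx hy
    rw [map_add, hx, hy, add_zero]

omit [DirectSum.Decomposition ℳ] in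
theorem sub_pow_smul_mem (m : M) (e : ℕ) :
    m - f ^ e • m ∈ (RingHom.ker (ev0 𝒜 hf)) • (⊤ : Submodule A M) := by
  have h2 := Submodule.smul_mem_smul (one_sub_pow_mem_ker 𝒜 hf e)
    (Submodule.mem_top : m ∈ (⊤ : Submodule A M))
  rwa [sub_smul, one_smul] at h2

/-- every element is congruent mod `ker(ev0) • M` to a homogeneous element of any large degree -/
theorem exists_homog_sub_mem (m : M) : ∃ D₀ : ℕ, ∀ D : ℕ, D₀ ≤ D →
    ∃ m' : M, m' ∈ ℳ D ∧ m - m' ∈ (RingHom.ker (ev0 𝒜 hf)) • (⊤ : Submodule A M) := by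
  induction m using DirectSum.Decomposition.inductionOn ℳ with
  | zero => exact ⟨0, fun D _ => ⟨0, zero_mem _, by rw [sub_zero]; exact zero_mem _⟩⟩
  | add m₁ m₂ h₁ h₂ =>
    obtain ⟨D₁, h₁⟩ := h₁
    obtain ⟨D₂, h₂⟩ := h₂
    refine ⟨max D₁ D₂, fun D hD => ?_⟩
    obtain ⟨m₁', hm₁', hs₁⟩ := h₁ D (le_trans (le_max_left _ _) hD)
    obtain ⟨m₂', hm₂', hs₂⟩ := h₂ D (le_trans (le_max_right _ _) hD)
    refine ⟨m₁' + m₂', add_mem hm₁' hm₂', ?_⟩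
    have : m₁ + m₂ - (m₁' + m₂') = (m₁ - m₁') + (m₂ - m₂') := by abel
    rw [this]
    exact add_mem hs₁ hs₂
  | homogeneous m =>
    rename_i j
    refine ⟨j, fun D hD => ⟨f ^ (D - j) • (m : M), ?_, sub_pow_smul_mem 𝒜 hf _ _⟩⟩
    have := pow_smul_mem hf (D - j) j m.2
    have hDj : (D - j) • 1 + j = D := by
      rw [smul_eq_mul, mul_one]
      omega
    rwa [hDj] at this

/-- the kernel of `evM` is `ker(ev0) • M` -/
theorem mem_of_evM_eq_zero {m : M} (h : evM 𝒜 ℳ hf n m = 0) :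
    m ∈ (RingHom.ker (ev0 𝒜 hf)) • (⊤ : Submodule A M) := by
  obtain ⟨D₀, hD₀⟩ := exists_homog_sub_mem 𝒜 ℳ hf m
  obtain ⟨m', hm', hs⟩ := hD₀ (max D₀ n.toNat) (le_max_left _ _)
  have hDn : n.toNat ≤ max D₀ n.toNat := le_max_right _ _
  set D := max D₀ n.toNat with hD
  have h1 : evM 𝒜 ℳ hf n m' = 0 := by
    have h2 := evM_eq_zero_of_mem 𝒜 ℳ hf n hs
    rw [map_sub, h, zero_sub, neg_eq_zero] at h2
    exact h2
  have hi : (D : ℤ) = (((((D : ℤ) - n).toNat) • 1 : ℕ) : ℤ) + n := by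
    simp only [smul_eq_mul, mul_one]
    omega
  rw [evM_fs 𝒜 ℳ hf n hm' hi, fracSecM_eq_zero_iff 𝒜 ℳ n one_pos hf] at h1
  obtain ⟨K, hK⟩ := h1
  have h3 := sub_pow_smul_mem 𝒜 hf m' K
  rw [hK, sub_zero] at h3
  have : m = (m - m') + m' := by abel
  rw [this]
  exact add_mem hs h3

end EvM

section DegOne
variable {A σ : Type u} [CommRing A] [SetLike σ A] [AddSubgroupClass σ A] {𝒜 : ℕ → σ}
  [GradedRing 𝒜]
  {M τ : Type u} [AddCommGroup M] [Module A M] [SetLike τ M] [AddSubgroupClass τ M] {ℳ : ℕ → τ}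
  [SetLike.GradedSMul 𝒜 ℳ] [DirectSum.Decomposition ℳ]
  {B σ' : Type u} [CommRing B] [SetLike σ' B] [AddSubgroupClass σ' B] {ℬ : ℕ → σ'} [GradedRing ℬ]
  {N τ' : Type u} [AddCommGroup N] [Module B N] [SetLike τ' N] [AddSubgroupClass τ' N]
  {𝒩 : ℕ → τ'} [SetLike.GradedSMul ℬ 𝒩] [DirectSum.Decomposition 𝒩]
  (ψ : 𝒜 →+*ᵍ ℬ) (hψ : HomogeneousIdeal.irrelevant ℬ ≤ (HomogeneousIdeal.irrelevant 𝒜).map ψ)
  (v : M →ₛₗ[ψ.toRingHom] N) (hv : ∀ (i : ℕ) (m : M), m ∈ ℳ i → v m ∈ 𝒩 i) (n : ℤ)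
  {f : A} (hf : f ∈ 𝒜 1)

theorem appLE_ev0 (a : A) :
    ((Proj.map ψ hψ).appLE (Proj.basicOpen 𝒜 f) (Proj.basicOpen ℬ (ψ f)) (hle ψ hψ f)).hom
      (ev0 𝒜 hf a) = ev0 ℬ (ψ.map_mem hf) (ψ a) := by
  induction a using DirectSum.Decomposition.inductionOn 𝒜 with
  | zero => rw [map_zero, map_zero, map_zero, map_zero]
  | add a a' h h' => rw [map_add, map_add, map_add, map_add, h, h']
  | homogeneous a =>
    rw [ev0_of_mem 𝒜 hf a.2, appLE_fracO]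
    exact (ev0_of_mem ℬ (ψ.map_mem hf) (ψ.map_mem a.2)).symm

theorem thetaUV_evM (m : M) :
    thetaUV (Proj.map ψ hψ) (GrMod.comap ψ hψ v hv n) (hle ψ hψ f) (evM 𝒜 ℳ hf n m) =
      evM ℬ 𝒩 (ψ.map_mem hf) n (v m) := by
  induction m using DirectSum.Decomposition.inductionOn ℳ with
  | zero => rw [map_zero, map_zero, map_zero, map_zero]
  | add m m' h h' => rw [map_add, map_add, map_add, map_add, h, h']
  | homogeneous m =>
    rename_i j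
    rw [evM_of_mem 𝒜 ℳ hf n m.2, evM_of_mem ℬ 𝒩 (ψ.map_mem hf) n (hv j _ m.2)]
    show thetaUV (Proj.map ψ hψ) (GrMod.comap ψ hψ v hv n) (hle ψ hψ f)
      (fracSecM 𝒜 ℳ hf n ((j : ℤ) - n).toNat ((n - j).toNat • 1 + j)
        (f ^ (n - j).toNat • (m : M)) (pow_smul_mem hf _ j m.2) (evH_aux n j)) = _
    rw [thetaUV_fracSecM]
    exact fs_congr ℬ 𝒩 (ψ.map_mem hf) n (hv _ _ (pow_smul_mem hf _ j m.2))
      (pow_smul_mem (ψ.map_mem hf) _ j (hv j _ m.2)) (evH_aux n j) (evH_aux n j) rfl rfl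
      (v_pow_smul ψ v f _ _)

include hf in
/-- for `f` of degree one, `Γ(D_+(f), M(n)~) → Γ(D_+(ψ f), N(n)~)` is a base change along
`Γ(D_+(f), O) → Γ(D_+(ψ f), O)`, when `N = B ⊗_A M` -/
theorem isBaseChange_thetaUV_deg_one
    (hbc : ∀ (Q : Type u) [AddCommGroup Q] [Module B Q] (w : M →ₛₗ[ψ.toRingHom] Q),
      ∃! g : N →ₗ[B] Q, ∀ m : M, g (v m) = w m) :
    letI := ((Proj.map ψ hψ).appLE (Proj.basicOpen 𝒜 f) (Proj.basicOpen ℬ (ψ f))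
      (hle ψ hψ f)).hom.toAlgebra
    letI : Module Γ(Proj 𝒜, Proj.basicOpen 𝒜 f)
        Γ(GrMod.tilde ℬ 𝒩 n, Proj.basicOpen ℬ (ψ f)) :=
      Module.compHom _ ((Proj.map ψ hψ).appLE (Proj.basicOpen 𝒜 f) (Proj.basicOpen ℬ (ψ f))
        (hle ψ hψ f)).hom
    haveI : IsScalarTower Γ(Proj 𝒜, Proj.basicOpen 𝒜 f) Γ(Proj ℬ, Proj.basicOpen ℬ (ψ f))
        Γ(GrMod.tilde ℬ 𝒩 n, Proj.basicOpen ℬ (ψ f)) :=
      IsScalarTower.of_algebraMap_smul fun _ _ => rfl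
    ∀ θl : Γ(GrMod.tilde 𝒜 ℳ n, Proj.basicOpen 𝒜 f) →ₗ[Γ(Proj 𝒜, Proj.basicOpen 𝒜 f)]
        Γ(GrMod.tilde ℬ 𝒩 n, Proj.basicOpen ℬ (ψ f)),
      (∀ m, θl m = thetaUV (Proj.map ψ hψ) (GrMod.comap ψ hψ v hv n) (hle ψ hψ f) m) →
      IsBaseChange Γ(Proj ℬ, Proj.basicOpen ℬ (ψ f)) θl := by
  letI := ((Proj.map ψ hψ).appLE (Proj.basicOpen 𝒜 f) (Proj.basicOpen ℬ (ψ f))
    (hle ψ hψ f)).hom.toAlgebra
  letI : Module Γ(Proj 𝒜, Proj.basicOpen 𝒜 f)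
      Γ(GrMod.tilde ℬ 𝒩 n, Proj.basicOpen ℬ (ψ f)) :=
    Module.compHom _ ((Proj.map ψ hψ).appLE (Proj.basicOpen 𝒜 f) (Proj.basicOpen ℬ (ψ f))
      (hle ψ hψ f)).hom
  haveI : IsScalarTower Γ(Proj 𝒜, Proj.basicOpen 𝒜 f) Γ(Proj ℬ, Proj.basicOpen ℬ (ψ f))
      Γ(GrMod.tilde ℬ 𝒩 n, Proj.basicOpen ℬ (ψ f)) :=
    IsScalarTower.of_algebraMap_smul fun _ _ => rfl
  intro θl hθl
  let εM : M →ₛₗ[ev0 𝒜 hf] Γ(GrMod.tilde 𝒜 ℳ n, Proj.basicOpen 𝒜 f) :=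
    { toFun := evM 𝒜 ℳ hf n
      map_add' := map_add _
      map_smul' := evM_smul 𝒜 ℳ hf n }
  let εN : N →ₛₗ[ev0 ℬ (ψ.map_mem hf)] Γ(GrMod.tilde ℬ 𝒩 n, Proj.basicOpen ℬ (ψ f)) :=
    { toFun := evM ℬ 𝒩 (ψ.map_mem hf) n
      map_add' := map_add _
      map_smul' := evM_smul ℬ 𝒩 (ψ.map_mem hf) n }
  exact isBaseChange_of_quot ψ.toRingHom (ev0 𝒜 hf) (ev0 ℬ (ψ.map_mem hf))
    (fun a => appLE_ev0 ψ hψ hf a) (ev0_surjective ℬ (ψ.map_mem hf)) v hbc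
    εM (evM_surjective 𝒜 ℳ hf n) εN (evM_surjective ℬ 𝒩 (ψ.map_mem hf) n)
    (fun t ht => mem_of_evM_eq_zero ℬ 𝒩 (ψ.map_mem hf) n ht) θl
    (fun m => (hθl _).trans (thetaUV_evM ψ hψ v hv n hf m))

/-- If `𝒜₊` is generated in degree one and `N = B ⊗_A M`, the adjoint `Φ^* (M(n)~) ⟶ N(n)~` of
`GrMod.comap` is an isomorphism. -/
theorem isIso_adj_comap_of_deg_one
    (hgen : (HomogeneousIdeal.irrelevant 𝒜).toIdeal = Ideal.span (𝒜 1 : Set A))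
    (hbc : ∀ (Q : Type u) [AddCommGroup Q] [Module B Q] (w : M →ₛₗ[ψ.toRingHom] Q),
      ∃! g : N →ₗ[B] Q, ∀ m : M, g (v m) = w m) :
    IsIso (adj (Proj.map ψ hψ) (GrMod.comap ψ hψ v hv n)) := by
  haveI := isQuasicoherent_tilde 𝒜 ℳ n
  haveI := isQuasicoherent_tilde ℬ 𝒩 n
  apply isIso_adj
  intro y
  obtain ⟨f, hf, hfy⟩ : ∃ f : A, f ∈ 𝒜 1 ∧
      f ∉ (ProjectiveSpectrum.comap ψ hψ y).asHomogeneousIdeal := by
    by_contra hcon
    push Not at hcon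
    apply (ProjectiveSpectrum.comap ψ hψ y).not_irrelevant_le
    show (HomogeneousIdeal.irrelevant 𝒜).toIdeal ≤
      (ProjectiveSpectrum.comap ψ hψ y).asHomogeneousIdeal.toIdeal
    rw [hgen, Ideal.span_le]
    exact fun a ha => hcon a ha
  refine ⟨Proj.basicOpen ℬ (ψ f),
    Proj.isAffineOpen_basicOpen ℬ (ψ f) (ψ.map_mem hf) one_pos, hfy, ?_⟩
  letI := ((Proj.map ψ hψ).appLE (Proj.basicOpen 𝒜 f) (Proj.basicOpen ℬ (ψ f))
    (hle ψ hψ f)).hom.toAlgebra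
  letI : Module Γ(Proj 𝒜, Proj.basicOpen 𝒜 f)
      Γ(GrMod.tilde ℬ 𝒩 n, Proj.basicOpen ℬ (ψ f)) :=
    Module.compHom _ ((Proj.map ψ hψ).appLE (Proj.basicOpen 𝒜 f) (Proj.basicOpen ℬ (ψ f))
      (hle ψ hψ f)).hom
  let θl : Γ(GrMod.tilde 𝒜 ℳ n, Proj.basicOpen 𝒜 f) →ₗ[Γ(Proj 𝒜, Proj.basicOpen 𝒜 f)]
      Γ(GrMod.tilde ℬ 𝒩 n, Proj.basicOpen ℬ (ψ f)) :=
    { toFun := thetaUV (Proj.map ψ hψ) (GrMod.comap ψ hψ v hv n) (hle ψ hψ f)
      map_add' := map_add _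
      map_smul' := fun a m => thetaUV_smul _ _ (hle ψ hψ f) a m }
  exact bijective_adj_app (Proj.map ψ hψ) (GrMod.comap ψ hψ v hv n)
    (hle ψ hψ f) (Proj.isAffineOpen_basicOpen 𝒜 f hf one_pos)
    (Proj.isAffineOpen_basicOpen ℬ (ψ f) (ψ.map_mem hf) one_pos) θl (fun m => rfl)
    (isBaseChange_thetaUV_deg_one ψ hψ v hv n hf hbc θl (fun m => rfl))

end DegOne

end Groth.Agent.Lib.TwPullH2
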