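import Mathlib
import Groth.Prelude.Def_Twist2

/-!
# `D_+(f)` is where `f/1` generates `O(d)` (helper1)
-/

namespace Groth.Agent.Lib.TwistGenH1

universe u

open CategoryTheory CategoryTheory.Limits AlgebraicGeometry TopologicalSpace Opposite DirectSum

section
variable {R A : Type u} [CommRing R] [CommRing A] [Algebra R A] (𝒜 : ℕ → Submodule R A) [GradedAlgebra 𝒜]

theorem mem_basicOpen_iff_generates
    (hgen : (HomogeneousIdeal.irrelevant 𝒜).toIdeal = Ideal.span (𝒜 1 : Set A))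
    {d : ℕ} (hd : 0 < d) (f : 𝒜 d) (p : ProjectiveSpectrum 𝒜) :
    p ∈ ProjectiveSpectrum.basicOpen 𝒜 (f : A) ↔
      Submodule.span (Twist.A0 𝒜 p) {(Twist.globalOf 𝒜 f).1 ⟨p, trivial⟩} = ⊤ := by
  have h1p : (1 : A) ∉ p.asHomogeneousIdeal := fun h =>
    p.isPrime.ne_top ((Ideal.eq_top_iff_one _).mpr h)
  have he : (((Twist.globalOf 𝒜 f).1 ⟨p, trivial⟩ : Twist.twistAt 𝒜 d p) : Twist.Loc 𝒜 p) =
      Localization.mk (f : A) ⟨1, h1p⟩ := rfl
  generalize (Twist.globalOf 𝒜 f).1 ⟨p, trivial⟩ = e at he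
  constructor
  · intro hfp
    replace hfp : (f : A) ∉ p.asHomogeneousIdeal := hfp
    rw [eq_top_iff]
    rintro ⟨t, ht⟩ -
    unfold Twist.twistAt at ht
    induction ht using Submodule.span_induction with
    | mem q hq =>
      obtain ⟨i, j, a, s, hs, hij, rfl⟩ := hq
      have hij' : i = j + d := by exact_mod_cast hij
      subst hij'
      have hsf : (s : A) * f ∉ p.asHomogeneousIdeal := fun h =>
        (p.isPrime.mem_or_mem h).elim hs hfp
      let c : Twist.A0 𝒜 p := HomogeneousLocalization.mk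
        { deg := j + d, num := a, den := ⟨s * f, SetLike.mul_mem_graded s.2 f.2⟩, den_mem := hsf }
      rw [Submodule.mem_span_singleton]
      refine ⟨c, Subtype.ext ?_⟩
      rw [Twist.coe_smul_val, he, HomogeneousLocalization.val_mk, Localization.mk_mul,
        Localization.mk_eq_mk_iff, Localization.r_iff_exists]
      refine ⟨1, ?_⟩
      simp only [OneMemClass.coe_one, one_mul, Submonoid.coe_mul, mul_one]
      ring
    | zero => exact zero_mem _
    | add x y hx hy hx' hy' => exact add_mem hx' hy'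
    | smul c x hx hx' => exact Submodule.smul_mem _ c hx'
  · intro htop hfp
    replace hfp : (f : A) ∈ p.asHomogeneousIdeal := hfp
    obtain ⟨g, hg1, hgP⟩ : ∃ g ∈ 𝒜 1, g ∉ p.asHomogeneousIdeal := by
      by_contra hcon
      push Not at hcon
      apply p.not_irrelevant_le
      intro a ha
      have ha' : a ∈ (HomogeneousIdeal.irrelevant 𝒜).toIdeal := ha
      rw [hgen] at ha'
      exact (Ideal.span_le.mpr (fun b hb => hcon b hb)) ha'
    have hgd : g ^ d ∈ 𝒜 d := by simpa using SetLike.pow_mem_graded d hg1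
    have hmem : (Localization.mk (g ^ d) ⟨1, h1p⟩ : Twist.Loc 𝒜 p) ∈ Twist.twistAt 𝒜 d p := by
      unfold Twist.twistAt
      exact Submodule.subset_span ⟨d, 0, ⟨g ^ d, hgd⟩, ⟨1, SetLike.GradedOne.one_mem⟩, h1p,
        by simp, rfl⟩
    have ht : (⟨_, hmem⟩ : Twist.twistAt 𝒜 d p) ∈ Submodule.span (Twist.A0 𝒜 p) {e} := by
      rw [htop]
      trivial
    rw [Submodule.mem_span_singleton] at ht
    obtain ⟨c, hc⟩ := ht
    have hc' := congrArg Subtype.val hc
    rw [Twist.coe_smul_val, he, c.eq_num_div_den, Localization.mk_mul,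
      Localization.mk_eq_mk_iff, Localization.r_iff_exists] at hc'
    obtain ⟨u, hu⟩ := hc'
    simp only [OneMemClass.coe_one, one_mul, Submonoid.coe_mul, mul_one] at hu
    have hR : (u : A) * (c.num * f) ∈ p.asHomogeneousIdeal.toIdeal :=
      Ideal.mul_mem_left _ _ (Ideal.mul_mem_left _ _ hfp)
    rw [hu] at hR
    rcases p.isPrime.mem_or_mem hR with h | h
    · exact u.2 h
    · rcases p.isPrime.mem_or_mem h with h' | h'
      · exact c.den_mem h'
      · exact hgP (p.isPrime.mem_of_pow_mem d h')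

theorem generates_iff_of_unit {e : ℕ} (f : 𝒜 e) (p : ProjectiveSpectrum 𝒜)
    (hunit : ∃ (i j : ℕ) (a b : A), a ∈ 𝒜 i ∧ b ∈ 𝒜 j ∧ i = j + e ∧
      a ∉ p.asHomogeneousIdeal ∧ b ∉ p.asHomogeneousIdeal) :
    p ∈ ProjectiveSpectrum.basicOpen 𝒜 (f : A) ↔
      Submodule.span (Twist.A0 𝒜 p) {(Twist.globalOf 𝒜 f).1 ⟨p, trivial⟩} = ⊤ := by
  have h1p : (1 : A) ∉ p.asHomogeneousIdeal := fun h =>
    p.isPrime.ne_top ((Ideal.eq_top_iff_one _).mpr h)
  have he : (((Twist.globalOf 𝒜 f).1 ⟨p, trivial⟩ : Twist.twistAt 𝒜 e p) : Twist.Loc 𝒜 p) =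
      Localization.mk (f : A) ⟨1, h1p⟩ := rfl
  generalize (Twist.globalOf 𝒜 f).1 ⟨p, trivial⟩ = e' at he
  constructor
  · intro hfp
    replace hfp : (f : A) ∉ p.asHomogeneousIdeal := hfp
    rw [eq_top_iff]
    rintro ⟨t, ht⟩ -
    unfold Twist.twistAt at ht
    induction ht using Submodule.span_induction with
    | mem q hq =>
      obtain ⟨i, j, a, s, hs, hij, rfl⟩ := hq
      have hij' : i = j + e := by exact_mod_cast hij
      subst hij'
      have hsf : (s : A) * f ∉ p.asHomogeneousIdeal := fun h =>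
        (p.isPrime.mem_or_mem h).elim hs hfp
      let c : Twist.A0 𝒜 p := HomogeneousLocalization.mk
        { deg := j + e, num := a, den := ⟨s * f, SetLike.mul_mem_graded s.2 f.2⟩, den_mem := hsf }
      rw [Submodule.mem_span_singleton]
      refine ⟨c, Subtype.ext ?_⟩
      rw [Twist.coe_smul_val, he, HomogeneousLocalization.val_mk, Localization.mk_mul,
        Localization.mk_eq_mk_iff, Localization.r_iff_exists]
      refine ⟨1, ?_⟩
      simp only [OneMemClass.coe_one, one_mul, Submonoid.coe_mul, mul_one]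
      ring
    | zero => exact zero_mem _
    | add x y hx hy hx' hy' => exact add_mem hx' hy'
    | smul c x hx hx' => exact Submodule.smul_mem _ c hx'
  · intro htop hfp
    replace hfp : (f : A) ∈ p.asHomogeneousIdeal := hfp
    obtain ⟨i, j, a, b, ha, hb, hij, hap, hbp⟩ := hunit
    have hmem : (Localization.mk a ⟨b, hbp⟩ : Twist.Loc 𝒜 p) ∈ Twist.twistAt 𝒜 e p := by
      unfold Twist.twistAt
      exact Submodule.subset_span ⟨i, j, ⟨a, ha⟩, ⟨b, hb⟩, hbp, by exact_mod_cast hij, rfl⟩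
    have ht : (⟨_, hmem⟩ : Twist.twistAt 𝒜 e p) ∈ Submodule.span (Twist.A0 𝒜 p) {e'} := by
      rw [htop]
      trivial
    rw [Submodule.mem_span_singleton] at ht
    obtain ⟨c, hc⟩ := ht
    have hc' := congrArg Subtype.val hc
    rw [Twist.coe_smul_val, he, c.eq_num_div_den, Localization.mk_mul,
      Localization.mk_eq_mk_iff, Localization.r_iff_exists] at hc'
    obtain ⟨u, hu⟩ := hc'
    simp only [one_mul, Submonoid.coe_mul, mul_one] at hu
    have hR : (u : A) * (b * (c.num * f)) ∈ p.asHomogeneousIdeal.toIdeal :=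
      Ideal.mul_mem_left _ _ (Ideal.mul_mem_left _ _ (Ideal.mul_mem_left _ _ hfp))
    rw [hu] at hR
    rcases p.isPrime.mem_or_mem hR with h | h
    · exact u.2 h
    · rcases p.isPrime.mem_or_mem h with h' | h'
      · exact c.den_mem h'
      · exact hap h'

theorem generates_iff_of_mem_basicOpen_mul {d : ℕ} (hd : 0 < d) {i j : ℕ} {a b : A}
    (ha : a ∈ 𝒜 i) (hb : b ∈ 𝒜 j) (hij : i = j + d)
    (p : ProjectiveSpectrum 𝒜) (hp : p ∈ ProjectiveSpectrum.basicOpen 𝒜 (a * b))
    {n : ℕ} (hn : 0 < n) (f : 𝒜 (n * d)) :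
    p ∈ ProjectiveSpectrum.basicOpen 𝒜 (f : A) ↔
      Submodule.span (Twist.A0 𝒜 p) {(Twist.globalOf 𝒜 f).1 ⟨p, trivial⟩} = ⊤ := by
  apply generates_iff_of_unit
  have hp' : a * b ∉ p.asHomogeneousIdeal := hp
  have hap : a ∉ p.asHomogeneousIdeal := fun h => hp' (Ideal.mul_mem_right _ _ h)
  have hbp : b ∉ p.asHomogeneousIdeal := fun h => hp' (Ideal.mul_mem_left _ _ h)
  refine ⟨n • i, n • j, a ^ n, b ^ n, SetLike.pow_mem_graded n ha, SetLike.pow_mem_graded n hb, ?_,
    fun h => hap (p.isPrime.mem_of_pow_mem n h), fun h => hbp (p.isPrime.mem_of_pow_mem n h)⟩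
  subst hij
  simp only [smul_eq_mul]
  ring

end

end Groth.Agent.Lib.TwistGenH1
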