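import Mathlib
import Groth.Prelude.Def_FibCat2

set_option autoImplicit false
set_option linter.style.haveILetI false

universe v u

open CategoryTheory CategoryTheory.Limits CategoryTheory.Functor
open CategoryTheory.Limits.CategoricalPullback

namespace Groth.Agent.Lib.TwoCartPasteH4

variable {A B A' B' A'' B'' : Type u} [Category.{v} A] [Category.{v} B] [Category.{v} A']
  [Category.{v} B'] [Category.{v} A''] [Category.{v} B'']

section Psi

variable (r : B ⥤ B') (t' : A' ⥤ B') (l' : A' ⥤ A'') (r' : B' ⥤ B'') (t'' : A'' ⥤ B'')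
  (e₂ : t' ⋙ r' ≅ l' ⋙ t'')

/-- The functor `r ⊡ t' ⥤ (r ⋙ r') ⊡ t''` induced by the lower square. -/
def Psi : r ⊡ t' ⥤ (r ⋙ r') ⊡ t'' where
  obj x :=
    { fst := x.fst
      snd := l'.obj x.snd
      iso := r'.mapIso x.iso ≪≫ e₂.app x.snd }
  map {x y} f :=
    { fst := f.fst
      snd := l'.map f.snd
      w := by
        have h1 : r'.map (r.map f.fst) ≫ r'.map y.iso.hom =
            r'.map x.iso.hom ≫ r'.map (t'.map f.snd) := by
          rw [← r'.map_comp, ← r'.map_comp, f.w]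
        have h2 : r'.map (t'.map f.snd) ≫ e₂.hom.app y.snd =
            e₂.hom.app x.snd ≫ t''.map (l'.map f.snd) := e₂.hom.naturality f.snd
        change r'.map (r.map f.fst) ≫ (r'.map y.iso.hom ≫ e₂.hom.app y.snd) =
          (r'.map x.iso.hom ≫ e₂.hom.app x.snd) ≫ t''.map (l'.map f.snd)
        rw [← Category.assoc, h1, Category.assoc, h2, Category.assoc] }
  map_id x := by ext <;> simp
  map_comp f g := by ext <;> simp

/-- The comparison functor of the lower square. -/
abbrev Phi₂ : A' ⥤ r' ⊡ t'' :=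
  (CatCommSqOver.toFunctorToCategoricalPullback r' t'' A').obj ⟨t', l', e₂⟩

variable [(Phi₂ t' l' r' t'' e₂).IsEquivalence]

lemma psi_faithful : (Psi r t' l' r' t'' e₂).Faithful where
  map_injective {x y} f g h := by
    have h1' : ((Psi r t' l' r' t'' e₂).map f).fst = ((Psi r t' l' r' t'' e₂).map g).fst :=
      congrArg CategoricalPullback.Hom.fst h
    have h2' : ((Psi r t' l' r' t'' e₂).map f).snd = ((Psi r t' l' r' t'' e₂).map g).snd :=
      congrArg CategoricalPullback.Hom.snd h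
    have h1 : f.fst = g.fst := h1'
    have h2 : l'.map f.snd = l'.map g.snd := h2'
    have h3 : t'.map f.snd = t'.map g.snd := by
      have hf : t'.map f.snd = x.iso.inv ≫ r.map f.fst ≫ y.iso.hom := by
        rw [f.w, Iso.inv_hom_id_assoc]
      have hg : t'.map g.snd = x.iso.inv ≫ r.map g.fst ≫ y.iso.hom := by
        rw [g.w, Iso.inv_hom_id_assoc]
      rw [hf, hg, h1]
    have h4 : (Phi₂ t' l' r' t'' e₂).map f.snd = (Phi₂ t' l' r' t'' e₂).map g.snd := by
      ext
      · exact h3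
      · exact h2
    ext
    · exact h1
    · exact (Phi₂ t' l' r' t'' e₂).map_injective h4

lemma psi_full_aux (x y : r ⊡ t') (hf : x.fst ⟶ y.fst) (hs : l'.obj x.snd ⟶ l'.obj y.snd)
    (hw : r'.map (r.map hf) ≫ (r'.map y.iso.hom ≫ e₂.hom.app y.snd) =
      (r'.map x.iso.hom ≫ e₂.hom.app x.snd) ≫ t''.map hs) :
    ∃ v : x.snd ⟶ y.snd, l'.map v = hs ∧ r.map hf ≫ y.iso.hom = x.iso.hom ≫ t'.map v := by
  let m : (Phi₂ t' l' r' t'' e₂).obj x.snd ⟶ (Phi₂ t' l' r' t'' e₂).obj y.snd :=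
    { fst := x.iso.inv ≫ r.map hf ≫ y.iso.hom
      snd := hs
      w := by
        change r'.map (x.iso.inv ≫ r.map hf ≫ y.iso.hom) ≫ e₂.hom.app y.snd =
          e₂.hom.app x.snd ≫ t''.map hs
        rw [r'.map_comp, r'.map_comp, Category.assoc, Category.assoc, hw,
          ← Category.assoc, ← Category.assoc, ← r'.map_comp, Iso.inv_hom_id, r'.map_id,
          Category.id_comp] }
  obtain ⟨v, hv⟩ := (Phi₂ t' l' r' t'' e₂).map_surjective m
  have hv1' : ((Phi₂ t' l' r' t'' e₂).map v).fst = m.fst :=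
    congrArg CategoricalPullback.Hom.fst hv
  have hv2' : ((Phi₂ t' l' r' t'' e₂).map v).snd = m.snd :=
    congrArg CategoricalPullback.Hom.snd hv
  have hv1 : t'.map v = x.iso.inv ≫ r.map hf ≫ y.iso.hom := hv1'
  have hv2 : l'.map v = hs := hv2'
  exact ⟨v, hv2, by rw [hv1, Iso.hom_inv_id_assoc]⟩

lemma psi_full : (Psi r t' l' r' t'' e₂).Full where
  map_surjective {x y} h := by
    obtain ⟨v, hv2, hvw⟩ := psi_full_aux r t' l' r' t'' e₂ x y h.fst h.snd h.w
    refine ⟨{ fst := h.fst, snd := v, w := hvw }, ?_⟩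
    ext
    · rfl
    · exact hv2

lemma psi_essSurj : (Psi r t' l' r' t'' e₂).EssSurj where
  mem_essImage z := by
    let w₀ : r' ⊡ t'' := { fst := r.obj z.fst, snd := z.snd, iso := z.iso }
    let a' := (Phi₂ t' l' r' t'' e₂).objPreimage w₀
    let ι : (Phi₂ t' l' r' t'' e₂).obj a' ≅ w₀ := (Phi₂ t' l' r' t'' e₂).objObjPreimageIso w₀
    let α : t'.obj a' ≅ r.obj z.fst := (π₁ r' t'').mapIso ι
    let β : l'.obj a' ≅ z.snd := (π₂ r' t'').mapIso ι
    have hι : r'.map α.hom ≫ z.iso.hom = e₂.hom.app a' ≫ t''.map β.hom := ι.hom.w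
    refine ⟨{ fst := z.fst, snd := a', iso := α.symm }, ⟨?_⟩⟩
    refine CategoricalPullback.mkIso (Iso.refl _) β ?_
    change (r ⋙ r').map (𝟙 z.fst) ≫ z.iso.hom =
      (r'.map α.inv ≫ e₂.hom.app a') ≫ t''.map β.hom
    rw [Category.assoc, ← hι, ← Category.assoc, ← r'.map_comp, Iso.inv_hom_id, r'.map_id,
      CategoryTheory.Functor.map_id, Category.id_comp, Category.id_comp]

lemma psi_isEquivalence : (Psi r t' l' r' t'' e₂).IsEquivalence where
  faithful := psi_faithful r t' l' r' t'' e₂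
  full := psi_full r t' l' r' t'' e₂
  essSurj := psi_essSurj r t' l' r' t'' e₂

end Psi

variable (t : A ⥤ B) (l : A ⥤ A') (r : B ⥤ B') (t' : A' ⥤ B') (l' : A' ⥤ A'') (r' : B' ⥤ B'')
  (t'' : A'' ⥤ B'') (e₁ : t ⋙ r ≅ l ⋙ t') (e₂ : t' ⋙ r' ≅ l' ⋙ t'')

/-- The pasted isomorphism of the outer rectangle. -/
abbrev pasted : t ⋙ (r ⋙ r') ≅ (l ⋙ l') ⋙ t'' :=
  (Functor.associator t r r').symm ≪≫ isoWhiskerRight e₁ r' ≪≫ Functor.associator l t' r' ≪≫
    isoWhiskerLeft l e₂ ≪≫ (Functor.associator l l' t'').symm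

/-- The comparison functor of the upper square followed by `Psi` is the comparison functor of
the outer rectangle. -/
def cmpIso :
    (CatCommSqOver.toFunctorToCategoricalPullback r t' A).obj ⟨t, l, e₁⟩ ⋙ Psi r t' l' r' t'' e₂ ≅
      (CatCommSqOver.toFunctorToCategoricalPullback (r ⋙ r') t'' A).obj
        ⟨t, l ⋙ l', pasted t l r t' l' r' t'' e₁ e₂⟩ :=
  NatIso.ofComponents (fun a => CategoricalPullback.mkIso (Iso.refl _) (Iso.refl _) (by
    change (r ⋙ r').map (𝟙 (t.obj a)) ≫ (pasted t l r t' l' r' t'' e₁ e₂).hom.app a =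
      (r'.map (e₁.hom.app a) ≫ e₂.hom.app (l.obj a)) ≫ t''.map (𝟙 (l'.obj (l.obj a)))
    simp)) (by
    intro a b f
    ext
    · exact (Category.comp_id _).trans (Category.id_comp _).symm
    · exact (Category.comp_id _).trans (Category.id_comp _).symm)

theorem main (h₂ : FibCat.IsTwoCart t' l' r' t'' e₂) :
    FibCat.IsTwoCart t l r t' e₁ ↔
      FibCat.IsTwoCart t (l ⋙ l') (r ⋙ r') t''
        ((Functor.associator t r r').symm ≪≫ isoWhiskerRight e₁ r' ≪≫
          Functor.associator l t' r' ≪≫ isoWhiskerLeft l e₂ ≪≫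
          (Functor.associator l l' t'').symm) := by
  unfold FibCat.IsTwoCart at h₂ ⊢
  haveI : (Phi₂ t' l' r' t'' e₂).IsEquivalence := h₂
  haveI := psi_isEquivalence r t' l' r' t'' e₂
  rw [← Functor.isEquivalence_iff_of_iso (cmpIso t l r t' l' r' t'' e₁ e₂)]
  constructor
  · intro h
    haveI := h
    infer_instance
  · intro h
    haveI := h
    exact Functor.isEquivalence_of_comp_right _ (Psi r t' l' r' t'' e₂)

end Groth.Agent.Lib.TwoCartPasteH4
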