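import Mathlib

namespace Groth.Agent.Lib.TwoSubalg

open Polynomial

universe u

lemma exists_nonunit {k A : Type*} [Field k] [IsAlgClosed k] [CommRing A] [Algebra k A]
    [Nontrivial A] (a : A) :
    ∀ (n : ℕ) (g : k[X]), g.natDegree = n → g ≠ 0 → aeval a g = 0 →
      ∃ r : k, ¬ IsUnit (a - algebraMap k A r) := by
  intro n
  induction n using Nat.strong_induction_on with
  | _ n ih =>
    intro g hn hg0 hg
    by_cases hdeg : g.degree = 0
    · exfalso
      have hC := Polynomial.eq_C_of_degree_eq_zero hdeg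
      have hc0 : g.coeff 0 ≠ 0 := by
        intro h; apply hg0; rw [hC, h, map_zero]
      rw [hC, Polynomial.aeval_C] at hg
      exact hc0 ((algebraMap k A).injective (by rw [hg, map_zero]))
    · obtain ⟨r, hr⟩ := IsAlgClosed.exists_root g hdeg
      by_cases hu : IsUnit (a - algebraMap k A r)
      · obtain ⟨q, hfac⟩ : ∃ q, (X - C r) * q = g :=
          ⟨_, Polynomial.mul_divByMonic_eq_iff_isRoot.mpr hr⟩
        have hq0 : q ≠ 0 := by
          intro h; apply hg0; rw [← hfac, h, mul_zero]
        have hqa : aeval a q = 0 := by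
          have h1 : aeval a ((X - C r) * q) = 0 := by rw [hfac]; exact hg
          rw [map_mul, map_sub, aeval_X, aeval_C] at h1
          exact (hu.mul_right_eq_zero).mp h1
        have hqdeg : q.natDegree < n := by
          have h2 := congrArg Polynomial.natDegree hfac
          rw [Polynomial.natDegree_mul (Polynomial.X_sub_C_ne_zero r) hq0,
            Polynomial.natDegree_X_sub_C] at h2
          omega
        exact ih _ hqdeg q rfl hq0 hqa
      · exact ⟨r, hu⟩

lemma prod_iso {k A : Type u} [Field k] [CommRing A] [Algebra k A] (e : A) (he : e * e = e)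
    (he0 : e ≠ 0) (he1 : e ≠ 1) (hadj : Algebra.adjoin k {e} = ⊤) :
    Nonempty (A ≃ₐ[k] (k × k)) := by
  obtain ⟨L, hL⟩ : ∃ L : (k × k) →ₗ[k] A, ∀ x : k × k, L x = x.1 • e + x.2 • (1 - e) :=
    ⟨LinearMap.coprod (LinearMap.toSpanSingleton k A e) (LinearMap.toSpanSingleton k A (1 - e)),
      fun x => by simp [LinearMap.coprod_apply, LinearMap.toSpanSingleton_apply]⟩
  have hone : L 1 = 1 := by
    rw [hL, Prod.fst_one, Prod.snd_one, one_smul, one_smul]; abel
  have hmul : ∀ x y, L (x * y) = L x * L y := by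
    intro x y
    rw [hL, hL, hL]
    simp only [Prod.fst_mul, Prod.snd_mul, Algebra.smul_def, map_mul]
    linear_combination (-(algebraMap k A x.1 * algebraMap k A y.1 -
      algebraMap k A x.1 * algebraMap k A y.2 - algebraMap k A x.2 * algebraMap k A y.1 +
      algebraMap k A x.2 * algebraMap k A y.2)) * he
  obtain ⟨φ, hφ⟩ : ∃ φ : (k × k) →ₐ[k] A, ∀ x, φ x = L x :=
    ⟨AlgHom.ofLinearMap L hone hmul, fun x => rfl⟩
  have hinj : Function.Injective φ := by
    rw [injective_iff_map_eq_zero]
    intro x hx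
    have h0' : algebraMap k A x.1 * e + algebraMap k A x.2 * (1 - e) = 0 := by
      rw [← Algebra.smul_def, ← Algebra.smul_def, ← hL, ← hφ]; exact hx
    have h1 : algebraMap k A x.1 * e = 0 := by
      linear_combination e * h0' + (algebraMap k A x.2 - algebraMap k A x.1) * he
    have h2 : algebraMap k A x.2 * (1 - e) = 0 := by
      linear_combination (1 - e) * h0' + (algebraMap k A x.1 - algebraMap k A x.2) * he
    have hx1 : x.1 = 0 := by
      by_contra hne
      apply he0
      have h3 : algebraMap k A x.1⁻¹ * algebraMap k A x.1 = 1 := by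
        rw [← map_mul, inv_mul_cancel₀ hne, map_one]
      linear_combination (algebraMap k A x.1⁻¹) * h1 - e * h3
    have hx2 : x.2 = 0 := by
      by_contra hne
      apply he1
      have h3 : algebraMap k A x.2⁻¹ * algebraMap k A x.2 = 1 := by
        rw [← map_mul, inv_mul_cancel₀ hne, map_one]
      linear_combination (-(algebraMap k A x.2⁻¹)) * h2 + (1 - e) * h3
    exact Prod.ext hx1 hx2
  have hrange : φ.range = ⊤ := by
    rw [eq_top_iff, ← hadj]
    refine Algebra.adjoin_le (Set.singleton_subset_iff.mpr ?_)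
    refine (AlgHom.mem_range φ).mpr ⟨(1, 0), ?_⟩
    rw [hφ, hL]; simp
  have hsurj : Function.Surjective φ := by
    intro y
    have hy : y ∈ φ.range := by rw [hrange]; exact Algebra.mem_top
    exact (AlgHom.mem_range φ).mp hy
  exact ⟨(AlgEquiv.ofBijective φ ⟨hinj, hsurj⟩).symm⟩

lemma dual_iso {k A : Type u} [Field k] [CommRing A] [Algebra k A] [Nontrivial A] (c : A)
    (hc2 : c * c = 0) (hc : c ∉ (⊥ : Subalgebra k A)) (hadj : Algebra.adjoin k {c} = ⊤) :
    Nonempty (A ≃ₐ[k] DualNumber k) := by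
  obtain ⟨ψ, hψ, hψε⟩ : ∃ ψ : DualNumber k →ₐ[k] A,
      (∀ x : DualNumber k, ψ x = algebraMap k A x.fst + algebraMap k A x.snd * c) ∧
        ψ DualNumber.eps = c :=
    ⟨DualNumber.lift ⟨(Algebra.ofId k A, c), hc2, fun a => Commute.all _ _⟩, fun x => rfl,
      DualNumber.lift_apply_eps _⟩
  have hinj : Function.Injective ψ := by
    rw [injective_iff_map_eq_zero]
    intro x hx
    rw [hψ] at hx
    by_cases ht : x.snd = 0
    · rw [ht, map_zero, zero_mul, add_zero] at hx
      have hfst : x.fst = 0 := (algebraMap k A).injective (by rw [hx, map_zero])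
      exact TrivSqZeroExt.ext hfst ht
    · exfalso
      apply hc
      have h1 : algebraMap k A x.snd⁻¹ * algebraMap k A x.snd = 1 := by
        rw [← map_mul, inv_mul_cancel₀ ht, map_one]
      have h2 : c = algebraMap k A (-(x.snd⁻¹ * x.fst)) := by
        rw [map_neg, map_mul]
        linear_combination (algebraMap k A x.snd⁻¹) * hx - c * h1
      rw [h2]
      exact Subalgebra.algebraMap_mem _ _
  have hrange : ψ.range = ⊤ := by
    rw [eq_top_iff, ← hadj]
    refine Algebra.adjoin_le (Set.singleton_subset_iff.mpr ?_)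
    exact (AlgHom.mem_range ψ).mpr ⟨DualNumber.eps, hψε⟩
  have hsurj : Function.Surjective ψ := by
    intro y
    have hy : y ∈ ψ.range := by rw [hrange]; exact Algebra.mem_top
    exact (AlgHom.mem_range ψ).mp hy
  exact ⟨(AlgEquiv.ofBijective ψ ⟨hinj, hsurj⟩).symm⟩

theorem main (k : Type u) [Field k] [IsAlgClosed k] (A : Type u) [CommRing A] [Algebra k A]
    (h : Nat.card (Subalgebra k A) = 2) :
    Nonempty (A ≃ₐ[k] (k × k)) ∨ Nonempty (A ≃ₐ[k] DualNumber k) := by
  obtain ⟨x, y, hxy, huniv⟩ := Nat.card_eq_two_iff.mp h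
  have hall : ∀ S : Subalgebra k A, S = x ∨ S = y := fun S => by
    have hS : S ∈ ({x, y} : Set (Subalgebra k A)) := by rw [huniv]; trivial
    simpa using hS
  have hbt : (⊥ : Subalgebra k A) ≠ ⊤ := by
    intro hbt
    apply hxy
    have hx : x = ⊥ := eq_bot_iff.mpr (by rw [hbt]; exact le_top)
    have hy : y = ⊥ := eq_bot_iff.mpr (by rw [hbt]; exact le_top)
    rw [hx, hy]
  have hcases : ∀ S : Subalgebra k A, S = ⊥ ∨ S = ⊤ := by
    intro S
    rcases hall ⊥ with hb | hb <;> rcases hall ⊤ with ht | ht <;> rcases hall S with hS | hS <;>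
      first
        | exact absurd (hb.trans ht.symm) hbt
        | exact Or.inl (hS.trans hb.symm)
        | exact Or.inr (hS.trans ht.symm)
  obtain ⟨a, ha⟩ : ∃ a : A, a ∉ (⊥ : Subalgebra k A) := by
    by_contra hcon
    push_neg at hcon
    exact hbt (eq_top_iff.mpr (fun a _ => hcon a))
  haveI : Nontrivial A := ⟨⟨a, 0, fun h0 => ha (h0 ▸ Subalgebra.zero_mem _)⟩⟩
  have hadj : ∀ c : A, c ∉ (⊥ : Subalgebra k A) → Algebra.adjoin k {c} = ⊤ := by
    intro c hc
    rcases hcases (Algebra.adjoin k {c}) with h1 | h1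
    · exfalso; apply hc; rw [← h1]; exact Algebra.subset_adjoin (Set.mem_singleton c)
    · exact h1
  have hpoly : ∀ c : A, c ∉ (⊥ : Subalgebra k A) → ∀ y : A, ∃ P : k[X], aeval c P = y := by
    intro c hc y
    have h1 : Algebra.adjoin k {c} = ⊤ := hadj c hc
    have h2 : y ∈ Algebra.adjoin k {c} := by rw [h1]; exact Algebra.mem_top
    rw [Algebra.adjoin_singleton_eq_range_aeval] at h2
    exact (AlgHom.mem_range _).mp h2
  obtain ⟨c, hc, hcu⟩ : ∃ c : A, c ∉ (⊥ : Subalgebra k A) ∧ ¬ IsUnit c := by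
    by_cases hau : IsUnit a
    · obtain ⟨P, hP⟩ := hpoly a ha (↑hau.unit⁻¹ : A)
      have hg : aeval a (X * P - 1) = 0 := by
        rw [map_sub, map_mul, aeval_X, hP, map_one, IsUnit.mul_val_inv, sub_self]
      have hg0 : (X * P - 1 : k[X]) ≠ 0 := by
        intro h0
        have h1 := congrArg (fun q => Polynomial.coeff q 0) h0
        simp at h1
      obtain ⟨r, hr⟩ := exists_nonunit a _ (X * P - 1) rfl hg0 hg
      refine ⟨a - algebraMap k A r, ?_, hr⟩
      intro hmem
      apply ha
      have h1 := (⊥ : Subalgebra k A).add_mem hmem ((⊥ : Subalgebra k A).algebraMap_mem r)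
      rwa [sub_add_cancel] at h1
    · exact ⟨a, ha, hau⟩
  by_cases hsq : c * c ∈ (⊥ : Subalgebra k A)
  · right
    obtain ⟨μ, hμ⟩ := Algebra.mem_bot.mp hsq
    have hμ0 : μ = 0 := by
      by_contra hne
      apply hcu
      have h1 : algebraMap k A μ⁻¹ * algebraMap k A μ = 1 := by
        rw [← map_mul, inv_mul_cancel₀ hne, map_one]
      have h2 : c * (algebraMap k A μ⁻¹ * c) = 1 := by
        linear_combination (-(algebraMap k A μ⁻¹)) * hμ + h1
      exact ⟨⟨c, algebraMap k A μ⁻¹ * c, h2, by rw [mul_comm]; exact h2⟩, rfl⟩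
    have hc2 : c * c = 0 := by rw [← hμ, hμ0, map_zero]
    exact dual_iso c hc2 hc (hadj c hc)
  · left
    obtain ⟨P, hP⟩ := hpoly (c * c) hsq c
    have hdecomp := Polynomial.divX_mul_X_add P
    have hc_eq : aeval (c * c) P =
        aeval (c * c) P.divX * (c * c) + algebraMap k A (P.coeff 0) := by
      conv_lhs => rw [← hdecomp]
      rw [map_add, map_mul, aeval_X, aeval_C]
    rw [hP] at hc_eq
    obtain ⟨h', hh'⟩ : ∃ h', h' = aeval (c * c) P.divX := ⟨_, rfl⟩
    rw [← hh'] at hc_eq
    have hp0 : P.coeff 0 = 0 := by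
      by_contra hne
      apply hcu
      have h1 : algebraMap k A (P.coeff 0)⁻¹ * algebraMap k A (P.coeff 0) = 1 := by
        rw [← map_mul, inv_mul_cancel₀ hne, map_one]
      have h2 : c * (algebraMap k A (P.coeff 0)⁻¹ * (1 - h' * c)) = 1 := by
        linear_combination (algebraMap k A (P.coeff 0)⁻¹) * hc_eq + h1
      exact ⟨⟨c, algebraMap k A (P.coeff 0)⁻¹ * (1 - h' * c), h2, by rw [mul_comm]; exact h2⟩, rfl⟩
    rw [hp0, map_zero, add_zero] at hc_eq
    obtain ⟨e, hedef⟩ : ∃ e, e = h' * c := ⟨_, rfl⟩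
    have he : e * e = e := by
      rw [hedef]; linear_combination (-h') * hc_eq
    have hce : c = e * c := by
      rw [hedef]; linear_combination hc_eq
    have he1 : e ≠ 1 := by
      intro h1
      apply hcu
      have h2 : c * h' = 1 := by rw [mul_comm, ← hedef]; exact h1
      exact ⟨⟨c, h', h2, by rw [mul_comm]; exact h2⟩, rfl⟩
    have he0 : e ≠ 0 := by
      intro h0
      apply hc
      have hc0 : c = 0 := by rw [hce, h0, zero_mul]
      rw [hc0]; exact Subalgebra.zero_mem _
    have he_bot : e ∉ (⊥ : Subalgebra k A) := by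
      intro hmem
      obtain ⟨s, hs⟩ := Algebra.mem_bot.mp hmem
      have hss : s * s = s := by
        apply (algebraMap k A).injective
        rw [map_mul, hs]; exact he
      have h3 : s * (s - 1) = 0 := by rw [mul_sub, hss, mul_one, sub_self]
      rcases mul_eq_zero.mp h3 with h4 | h4
      · apply he0; rw [← hs, h4, map_zero]
      · apply he1; rw [← hs, sub_eq_zero.mp h4, map_one]
    exact prod_iso e he he0 he1 (hadj e he_bot)

end Groth.Agent.Lib.TwoSubalg
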