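import Mathlib.CategoryTheory.Limits.Types.Colimits
import Mathlib.CategoryTheory.Limits.HasLimits

/-!
# Colimits of sets over index categories where spans complete to commutative squares (helper6)
-/

set_option autoImplicit false

universe v u

open CategoryTheory CategoryTheory.Limits

namespace Groth.Agent.Lib.TypeColim_helper6

variable {I : Type u} [Category.{v} I]

/-- Equality in a colimit of sets when spans in the index category complete to commutative
squares. -/
theorem colimit_ι_eq_iff_of_ore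
    (hI : ∀ ⦃x y z : I⦄ (f : x ⟶ y) (g : x ⟶ z), ∃ (w : I) (f' : y ⟶ w) (g' : z ⟶ w), f ≫ f' = g ≫ g')
    (N : I ⥤ Type v) [HasColimit N] {i j : I} (x : N.obj i) (y : N.obj j) :
    colimit.ι N i x = colimit.ι N j y ↔ ∃ (k : I) (f : i ⟶ k) (g : j ⟶ k), N.map f x = N.map g y := by
  constructor
  · intro h
    have h' := Types.colimit_eq h
    let R : (Σ j, N.obj j) → (Σ j, N.obj j) → Prop :=
      fun p q => ∃ (k : I) (f : p.1 ⟶ k) (g : q.1 ⟶ k), N.map f p.2 = N.map g q.2
    have hR : ∀ p q, Relation.EqvGen N.ColimitTypeRel p q → R p q := by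
      intro p q hpq
      induction hpq with
      | rel p q hpq =>
        obtain ⟨f, hf⟩ := hpq
        exact ⟨q.1, f, 𝟙 _, by simp [hf]⟩
      | refl p => exact ⟨p.1, 𝟙 _, 𝟙 _, rfl⟩
      | symm p q _ ih =>
        obtain ⟨k, f, g, hfg⟩ := ih
        exact ⟨k, g, f, hfg.symm⟩
      | trans p q r _ _ ih1 ih2 =>
        obtain ⟨k, f, g, hfg⟩ := ih1
        obtain ⟨k', f', g', hfg'⟩ := ih2
        obtain ⟨w, c, d, hcd⟩ := hI g f'
        refine ⟨w, f ≫ c, g' ≫ d, ?_⟩
        rw [N.map_comp, N.map_comp, ConcreteCategory.comp_apply, ConcreteCategory.comp_apply,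
          hfg, ← hfg', ← ConcreteCategory.comp_apply, ← ConcreteCategory.comp_apply,
          ← N.map_comp, ← N.map_comp, hcd]
    exact hR _ _ h'
  · rintro ⟨k, f, g, hfg⟩
    exact Types.colimit_sound' f g hfg

end Groth.Agent.Lib.TypeColim_helper6
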