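import Groth.Agent.Lib.UCLimit2_helper7
import Groth.Agent.Lib.ValCrit6_helper6

set_option autoImplicit false
universe u
open CategoryTheory CategoryTheory.Limits AlgebraicGeometry Opposite

namespace Groth.Agent.Lib.UCLimitH7

open AlgSp Groth.Agent.Lib.ValCrit Groth.Agent.Lib.AlgSpPoints_helper7
  Groth.Agent.Lib.AlgSpTop_helper7 Groth.Agent.Lib.AlgSpQC_helper7
  Groth.Agent.Lib.AlgSpQC2_helper7 Groth.Agent.Lib.AlgSpPullback_helper7

variable {S : Scheme.{u}}

/-- The affine space of relative dimension `n` over `V`, as a scheme over `S`. -/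
noncomputable abbrev affOver (V : Over S) (n : ℕ) : Over S :=
  Over.mk ((𝔸(ULift.{u} (Fin n); V.left) ↘ V.left) ≫ V.hom)

/-- The projection `𝔸ⁿ_V ⟶ V` over `S`. -/
noncomputable abbrev affHom (V : Over S) (n : ℕ) : affOver V n ⟶ V :=
  Over.homMk (𝔸(ULift.{u} (Fin n); V.left) ↘ V.left) rfl

set_option backward.isDefEq.respectTransparency false in
/-- Closedness over the affine spaces over `V` gives closedness over the spectra of finite type
algebras over the affine opens of `V`. -/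
theorem closed_of_finiteType {X₀ : Sp S} (hX₀ : IsAlgSpace X₀) (V : Over S)
    (f₀ : X₀ ⟶ (yon S).obj V)
    (H₀ : ∀ n : ℕ, IsClosedMap (Points.map (pullback.snd f₀ ((yon S).map (affHom V n)))))
    (V₀ : V.left.Opens) (hV₀ : IsAffineOpen V₀) (C : Type u) [CommRing C]
    [Algebra Γ(V.left, V₀) C] (hC : Algebra.FiniteType Γ(V.left, V₀) C) :
    IsClosedMap (Points.map (pullback.snd f₀ ((yon S).map
      (Over.homMk (Spec.map (CommRingCat.ofHom (algebraMap Γ(V.left, V₀) C)) ≫ hV₀.fromSpec) rfl :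
        Over.mk ((Spec.map (CommRingCat.ofHom (algebraMap Γ(V.left, V₀) C)) ≫ hV₀.fromSpec) ≫
          V.hom) ⟶ V)))) := by
  obtain ⟨n, φ₀, hφ₀⟩ := Algebra.FiniteType.iff_quotient_mvPolynomial''.1 hC
  obtain ⟨φ, hφdef⟩ : ∃ φ : MvPolynomial (ULift.{u} (Fin n)) Γ(V.left, V₀) →ₐ[Γ(V.left, V₀)] C,
      φ = φ₀.comp (MvPolynomial.renameEquiv Γ(V.left, V₀) Equiv.ulift).toAlgHom := ⟨_, rfl⟩
  have hφ : Function.Surjective φ := by
    rw [hφdef]
    exact hφ₀.comp (MvPolynomial.renameEquiv Γ(V.left, V₀) Equiv.ulift).surjective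
  haveI : IsClosedImmersion (Spec.map (CommRingCat.ofHom φ.toRingHom)) :=
    IsClosedImmersion.spec_of_surjective _ hφ
  haveI : IsOpenImmersion (AffineSpace.map (ULift.{u} (Fin n)) hV₀.fromSpec) :=
    MorphismProperty.of_isPullback (P := @IsOpenImmersion)
      (AffineSpace.isPullback_map hV₀.fromSpec).flip inferInstance
  obtain ⟨j, hjdef⟩ : ∃ j : Spec (CommRingCat.of C) ⟶ 𝔸(ULift.{u} (Fin n); V.left),
      j = Spec.map (CommRingCat.ofHom φ.toRingHom) ≫
        (AffineSpace.SpecIso (ULift.{u} (Fin n)) Γ(V.left, V₀)).inv ≫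
        AffineSpace.map (ULift.{u} (Fin n)) hV₀.fromSpec := ⟨_, rfl⟩
  haveI : IsImmersion j := by rw [hjdef]; infer_instance
  have hj : j ≫ (𝔸(ULift.{u} (Fin n); V.left) ↘ V.left) =
      Spec.map (CommRingCat.ofHom (algebraMap Γ(V.left, V₀) C)) ≫ hV₀.fromSpec := by
    rw [hjdef, Category.assoc, Category.assoc, AffineSpace.map_over,
      AffineSpace.SpecIso_inv_over_assoc, ← Category.assoc, ← Spec.map_comp]
    congr 2
    apply CommRingCat.hom_ext
    ext b
    exact φ.commutes b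
  let jO : Over.mk ((Spec.map (CommRingCat.ofHom (algebraMap Γ(V.left, V₀) C)) ≫ hV₀.fromSpec) ≫
      V.hom) ⟶ affOver V n := Over.homMk j (by
    show j ≫ (𝔸(ULift.{u} (Fin n); V.left) ↘ V.left) ≫ V.hom = _
    exact (Category.assoc _ _ _).symm.trans (congrArg (· ≫ V.hom) hj))
  haveI : IsImmersion jO.left := ‹IsImmersion j›
  exact closed_of_immersion hX₀ f₀ (affHom V n) jO _ (by ext; exact hj) (H₀ n) _ _
    (IsPullback.of_hasPullback _ _)

end Groth.Agent.Lib.UCLimitH7
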