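import Groth.Agent.Lib.UCLimit_helper7

set_option autoImplicit false
universe u
open CategoryTheory CategoryTheory.Limits AlgebraicGeometry Opposite

namespace Groth.Agent.Lib.UCLimitH7

open AlgSp Groth.Agent.Lib.ValCrit Groth.Agent.Lib.AlgSpPoints_helper7
  Groth.Agent.Lib.AlgSpTop_helper7 Groth.Agent.Lib.AlgSpQC_helper7
  Groth.Agent.Lib.AlgSpQC2_helper7 Groth.Agent.Lib.AlgSpPullback_helper7

variable {S : Scheme.{u}}

set_option maxHeartbeats 1600000 in
/-- Closedness of the base changes of a quasi-compact morphism `f₀ : X₀ ⟶ h_V` to the stages of a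
cofiltered diagram of schemes over `V` with affine transition maps gives closedness of the base
change to the limit. -/
theorem isClosedMap_snd_of_limit {I : Type u} [SmallCategory I] [IsCofiltered I]
    {G : I ⥤ Scheme.{u}} [∀ {i j : I} (h : i ⟶ j), IsAffineHom (G.map h)] (V₀ : Over S)
    (t : G ⟶ (Functor.const I).obj V₀.left) (c : Cone G) (hc : IsLimit c) (s : c.pt ⟶ V₀.left)
    (hs : ∀ i, c.π.app i ≫ t.app i = s)
    {X₀ : Sp S} (hX₀ : IsAlgSpace X₀) (f₀ : X₀ ⟶ (yon S).obj V₀) (hqc : IsQuasiCompactMor f₀)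
    (H : ∀ i, IsClosedMap (Points.map (pullback.snd f₀
      ((yon S).map (Over.homMk (t.app i) rfl : Over.mk (t.app i ≫ V₀.hom) ⟶ V₀))))) :
    IsClosedMap (Points.map (pullback.snd f₀
      ((yon S).map (Over.homMk s rfl : Over.mk (s ≫ V₀.hom) ⟶ V₀)))) := by
  -- the stages as schemes over `S`
  let Ti : I → Over S := fun i => Over.mk (t.app i ≫ V₀.hom)
  let ti : ∀ i, Ti i ⟶ V₀ := fun i => Over.homMk (t.app i) rfl
  let TT : Over S := Over.mk (s ≫ V₀.hom)
  let sT : TT ⟶ V₀ := Over.homMk s rfl
  let πi : ∀ i, TT ⟶ Ti i := fun i => Over.homMk (c.π.app i) (by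
    show c.π.app i ≫ t.app i ≫ V₀.hom = s ≫ V₀.hom
    rw [← Category.assoc, hs])
  have hπt : ∀ i, πi i ≫ ti i = sT := fun i => by
    ext
    exact hs i
  let Gm : ∀ {i j : I}, (i ⟶ j) → (Ti i ⟶ Ti j) := fun {i j} h => Over.homMk (G.map h) (by
    show G.map h ≫ t.app j ≫ V₀.hom = t.app i ≫ V₀.hom
    rw [← Category.assoc, map_comp_t])
  have hGt : ∀ {i j : I} (h : i ⟶ j), Gm h ≫ ti j = ti i := by
    intro i j h
    ext
    exact map_comp_t G t h
  have hπG : ∀ {i j : I} (h : i ⟶ j), πi i ≫ Gm h = πi j := by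
    intro i j h
    ext
    exact c.w h
  -- the spaces
  have hcq : ∀ i, pullback.fst f₀ ((yon S).map sT) ≫ f₀ =
      (pullback.snd f₀ ((yon S).map sT) ≫ (yon S).map (πi i)) ≫ (yon S).map (ti i) := fun i => by
    rw [Category.assoc, ← Functor.map_comp, hπt, pullback.condition]
  have hcqm : ∀ {i j : I} (h : i ⟶ j), pullback.fst f₀ ((yon S).map (ti i)) ≫ f₀ =
      (pullback.snd f₀ ((yon S).map (ti i)) ≫ (yon S).map (Gm h)) ≫ (yon S).map (ti j) := by
    intro i j h
    rw [Category.assoc, ← Functor.map_comp, hGt, pullback.condition]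
  let q : ∀ i, pullback f₀ ((yon S).map sT) ⟶ pullback f₀ ((yon S).map (ti i)) := fun i =>
    pullback.lift (pullback.fst _ _) (pullback.snd _ _ ≫ (yon S).map (πi i)) (hcq i)
  let qm : ∀ {i j : I}, (i ⟶ j) →
      (pullback f₀ ((yon S).map (ti i)) ⟶ pullback f₀ ((yon S).map (ti j))) := fun {i j} h =>
    pullback.lift (pullback.fst _ _) (pullback.snd _ _ ≫ (yon S).map (Gm h)) (hcqm h)
  have hq : ∀ {i j : I} (h : i ⟶ j), q i ≫ qm h = q j := by
    intro i j h
    apply pullback.hom_ext
    · simp only [q, qm, Category.assoc, pullback.lift_fst]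
    · simp only [q, qm, Category.assoc, pullback.lift_snd, pullback.lift_snd_assoc]
      rw [← Functor.map_comp, hπG]
  have sq : ∀ i, IsPullback (q i) (pullback.snd f₀ ((yon S).map sT))
      (pullback.snd f₀ ((yon S).map (ti i))) ((yon S).map (πi i)) := by
    intro i
    refine IsPullback.of_right ?_ (pullback.lift_snd _ _ _) (IsPullback.of_hasPullback f₀ _)
    rw [pullback.lift_fst, ← Functor.map_comp, hπt]
    exact IsPullback.of_hasPullback _ _
  -- the atlas
  obtain ⟨U, a, hae, has⟩ := hX₀.atlas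
  obtain ⟨g, hg⟩ := (yon S).map_surjective (a ≫ f₀)
  let Ui : I → Over S := fun i => Over.mk (pullback.snd (t.app i) g.left ≫ U.hom)
  let UT : Over S := Over.mk (pullback.snd s g.left ≫ U.hom)
  let ui : ∀ i, Ui i ⟶ U := fun i => Over.homMk (pullback.snd _ _) rfl
  let uT : UT ⟶ U := Over.homMk (pullback.snd _ _) rfl
  let vi : ∀ i, Ui i ⟶ Ti i := fun i => Over.homMk (pullback.fst _ _) (by
    show pullback.fst (t.app i) g.left ≫ t.app i ≫ V₀.hom = pullback.snd _ _ ≫ U.hom
    rw [← Category.assoc, pullback.condition, Category.assoc, Over.w g])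
  let vT : UT ⟶ TT := Over.homMk (pullback.fst _ _) (by
    show pullback.fst s g.left ≫ s ≫ V₀.hom = pullback.snd _ _ ≫ U.hom
    rw [← Category.assoc, pullback.condition, Category.assoc, Over.w g])
  let πU : ∀ i, UT ⟶ Ui i := fun i => Over.homMk ((pbCone g.left c s hs).π.app i) (by
    show (pbCone g.left c s hs).π.app i ≫ pullback.snd _ _ ≫ U.hom = pullback.snd _ _ ≫ U.hom
    exact (Category.assoc _ _ _).symm.trans
      (congrArg (· ≫ U.hom) (pbCone_π_snd g.left c s hs i)))
  have hπu : ∀ i, πU i ≫ ui i = uT := fun i => by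
    ext
    exact pbCone_π_snd g.left c s hs i
  have hπv : ∀ i, πU i ≫ vi i = vT ≫ πi i := fun i => by
    ext
    exact pbCone_π_fst g.left c s hs i
  have sqUi : ∀ i, IsPullback ((yon S).map (vi i)) ((yon S).map (ui i)) ((yon S).map (ti i))
      ((yon S).map g) := fun i => by
    have h0 : IsPullback (vi i) (ui i) (ti i) g :=
      IsPullback.of_map (Over.forget S) (by ext; exact pullback.condition)
        (IsPullback.of_hasPullback (t.app i) g.left)
    exact h0.map (yon S)
  have sqUT : IsPullback ((yon S).map vT) ((yon S).map uT) ((yon S).map sT) ((yon S).map g) := by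
    have h0 : IsPullback vT uT sT g :=
      IsPullback.of_map (Over.forget S) (by ext; exact pullback.condition)
        (IsPullback.of_hasPullback s g.left)
    exact h0.map (yon S)
  have hcai : ∀ i, ((yon S).map (ui i) ≫ a) ≫ f₀ = (yon S).map (vi i) ≫ (yon S).map (ti i) :=
    fun i => by
      rw [Category.assoc, ← hg]
      exact (sqUi i).w.symm
  have hcaT : ((yon S).map uT ≫ a) ≫ f₀ = (yon S).map vT ≫ (yon S).map sT := by
    rw [Category.assoc, ← hg]
    exact sqUT.w.symm
  let ai : ∀ i, (yon S).obj (Ui i) ⟶ pullback f₀ ((yon S).map (ti i)) := fun i =>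
    pullback.lift ((yon S).map (ui i) ≫ a) ((yon S).map (vi i)) (hcai i)
  let aT : (yon S).obj UT ⟶ pullback f₀ ((yon S).map sT) :=
    pullback.lift ((yon S).map uT ≫ a) ((yon S).map vT) hcaT
  have sqai : ∀ i, IsPullback (ai i) ((yon S).map (ui i))
      (pullback.fst f₀ ((yon S).map (ti i))) a := by
    intro i
    refine IsPullback.of_right ?_ (pullback.lift_fst _ _ _)
      (IsPullback.of_hasPullback f₀ _).flip
    rw [pullback.lift_snd, ← hg]
    exact sqUi i
  have sqaT : IsPullback aT ((yon S).map uT) (pullback.fst f₀ ((yon S).map sT)) a := by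
    refine IsPullback.of_right ?_ (pullback.lift_fst _ _ _)
      (IsPullback.of_hasPullback f₀ _).flip
    rw [pullback.lift_snd, ← hg]
    exact sqUT
  have hai_e : ∀ i, RepWith @Etale (ai i) := fun i => repWith_fst_of_isPullback _ (sqai i) hae
  have haT_s : RepWith @Surjective aT := repWith_fst_of_isPullback _ sqaT has
  have sqπ : ∀ i, IsPullback ((yon S).map (πU i)) aT (ai i) (q i) := by
    intro i
    refine IsPullback.of_right ?_ ?_ (sqai i).flip
    · rw [← Functor.map_comp, hπu, pullback.lift_fst]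
      exact sqaT.flip
    · apply pullback.hom_ext
      · simp only [ai, aT, q, Category.assoc, pullback.lift_fst]
        rw [← Category.assoc, ← Functor.map_comp, hπu]
      · simp only [ai, aT, q, Category.assoc, pullback.lift_snd, pullback.lift_snd_assoc]
        rw [← Functor.map_comp, ← Functor.map_comp, hπv]
  -- the basis of opens on the atlas of the limit
  have hb : ∀ (u : ↥UT.left) (N : Set ↥UT.left), IsOpen N → u ∈ N →
      ∃ (i : I) (W : Set ↥(Ui i).left), IsOpen W ∧ (πU i).left u ∈ W ∧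
        (πU i).left ⁻¹' W ⊆ N := by
    intro u N hN hu
    have hbasis := isBasis_preimage_isAffineOpen (pbDiagram G t g.left) (pbCone g.left c s hs)
      (pbConeIsLimit g.left c s hs hc)
    obtain ⟨_, ⟨i, W, -, rfl⟩, huW, hWN⟩ :=
      TopologicalSpace.Opens.isBasis_iff_nbhd.mp hbasis (U := ⟨N, hN⟩) (x := u) hu
    exact ⟨i, W.1, W.2, huW, hWN⟩
  -- compactness of the fibres
  have hcomp : ∀ s₀ : ↥TT.left, CompactSpace (Points (pullback
      (pullback.snd f₀ ((yon S).map sT)) ((yon S).map (resHom TT s₀)))) := by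
    intro s₀
    apply compactSpace_of_isQuasiCompactSp
    haveI : CompactSpace ↥(resOver TT s₀).left :=
      (inferInstance : CompactSpace ↥(Spec (TT.left.residueField s₀)))
    exact hqc (IsAlgSpace.yon_obj _) (isQuasiCompactSp_yon _)
      ((yon S).map (resHom TT s₀) ≫ (yon S).map sT) (pullback.fst _ _ ≫ pullback.fst _ _)
      (pullback.snd _ _)
      ((IsPullback.of_hasPullback _ _).paste_horiz (IsPullback.of_hasPullback f₀ _))
  exact isClosedMap_of_limit_core q qm hq _ _ πi sq
    (basis_of_atlas q aT ai πU sqπ haT_s hai_e hb) hcomp H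

end Groth.Agent.Lib.UCLimitH7
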