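import Groth.Agent.Lib.ValCrit5_helper6
import Groth.Agent.Lib.AlgSpEmbed_helper6
import Groth.Agent.Lib.AlgSpTop_helper7
import Groth.Agent.Lib.AlgSpQC2_helper7

set_option autoImplicit false
universe u
open CategoryTheory CategoryTheory.Limits AlgebraicGeometry Opposite

namespace Groth.Agent.Lib.UCLimitH7

open AlgSp Groth.Agent.Lib.ValCrit Groth.Agent.Lib.AlgSpPoints_helper7
  Groth.Agent.Lib.AlgSpTop_helper7 Groth.Agent.Lib.AlgSpQC_helper7
  Groth.Agent.Lib.AlgSpQC2_helper7 Groth.Agent.Lib.AlgSpPullback_helper7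
  Groth.Agent.Lib.AlgSpEmbed_helper6

variable {S : Scheme.{u}}

/-- The spectrum of the residue field of a point of a scheme over `S`, as a scheme over `S`. -/
noncomputable abbrev resOver (T : Over S) (t : ↥T.left) : Over S :=
  Over.mk (T.left.fromSpecResidueField t ≫ T.hom)

/-- The canonical morphism `Spec κ(t) ⟶ T` over `S`. -/
noncomputable abbrev resHom (T : Over S) (t : ↥T.left) : resOver T t ⟶ T :=
  Over.homMk (T.left.fromSpecResidueField t) rfl

theorem map_resHom (T : Over S) (t : ↥T.left) (z : Points ((yon S).obj (resOver T t))) :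
    Points.map ((yon S).map (resHom T t)) z = Points.ofScheme T t := by
  obtain ⟨z₀, rfl⟩ := ofScheme_surjective _ z
  rw [← Points.ofPt_eq_map_ofScheme, ofPt_yon_map]
  congr 1
  exact Scheme.fromSpecResidueField_apply _ _

/-- The basis of opens coming from the stages transfers from an atlas to the space. -/
theorem basis_of_atlas {P : Sp S} {ι : Type u} {Pi : ι → Sp S} (q : ∀ i, P ⟶ Pi i)
    {UT : Over S} {Ui : ι → Over S} (aT : (yon S).obj UT ⟶ P)
    (ai : ∀ i, (yon S).obj (Ui i) ⟶ Pi i)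
    (πU : ∀ i, UT ⟶ Ui i) (sq : ∀ i, IsPullback ((yon S).map (πU i)) aT (ai i) (q i))
    (hs : RepWith @Surjective aT) (he : ∀ i, RepWith @Etale (ai i))
    (hb : ∀ (u : ↥UT.left) (N : Set ↥UT.left), IsOpen N → u ∈ N →
      ∃ (i : ι) (W : Set ↥(Ui i).left), IsOpen W ∧ (πU i).left u ∈ W ∧ (πU i).left ⁻¹' W ⊆ N)
    (x : Points P) (N : Set (Points P)) (hN : IsOpen N) (hx : x ∈ N) :
    ∃ (i : ι) (W : Set (Points (Pi i))), IsOpen W ∧ Points.map (q i) x ∈ W ∧
      Points.map (q i) ⁻¹' W ⊆ N := by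
  obtain ⟨u₀, rfl⟩ := ofPt_surjective aT hs x
  obtain ⟨i, W, hW, hu, hWN⟩ := hb u₀ (Points.ofPt aT ⁻¹' N)
    (hN.preimage (Points.continuous_ofPt aT)) hx
  refine ⟨i, Points.ofPt (ai i) '' W, isOpenMap_ofPt_of_etale (ai i) (he i) W hW, ?_, ?_⟩
  · refine ⟨(πU i).left u₀, hu, ?_⟩
    rw [Points.map_ofPt, ← (sq i).w, ofPt_comp]
  · rintro x' ⟨v, hv, hvx⟩
    rw [Points.ofPt_eq_map_ofScheme] at hvx
    obtain ⟨z, hz1, hz2⟩ := exists_of_isPullback (sq i) (Points.ofScheme (Ui i) v) x' hvx
    obtain ⟨u', rfl⟩ := ofScheme_surjective UT z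
    have h1 : (πU i).left u' = v := by
      apply (Points.schemeEquiv (Ui i)).injective
      show Points.ofScheme (Ui i) _ = Points.ofScheme (Ui i) v
      rw [← hz1, ← Points.ofPt_eq_map_ofScheme, ofPt_yon_map]
    have h2 : u' ∈ Points.ofPt aT ⁻¹' N := hWN (by
      show (πU i).left u' ∈ W
      rw [h1]; exact hv)
    show x' ∈ N
    rw [← hz2, ← Points.ofPt_eq_map_ofScheme]
    exact h2

/-- The topological core: closedness passes to a cofiltered limit of base changes, given
compactness of fibres and the basis of opens coming from the stages. -/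
theorem isClosedMap_of_limit_core {I : Type u} [SmallCategory I] [IsCofiltered I]
    {P : Sp S} {Pi : I → Sp S} (q : ∀ i, P ⟶ Pi i)
    (qm : ∀ {i j : I}, (i ⟶ j) → (Pi i ⟶ Pi j))
    (hq : ∀ {i j : I} (h : i ⟶ j), q i ≫ qm h = q j)
    {TT : Over S} {Ti : I → Over S} (snd : P ⟶ (yon S).obj TT)
    (sndi : ∀ i, Pi i ⟶ (yon S).obj (Ti i))
    (πi : ∀ i, TT ⟶ Ti i) (sq : ∀ i, IsPullback (q i) snd (sndi i) ((yon S).map (πi i)))
    (hbasis : ∀ (x : Points P) (N : Set (Points P)), IsOpen N → x ∈ N →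
      ∃ (i : I) (W : Set (Points (Pi i))), IsOpen W ∧ Points.map (q i) x ∈ W ∧
        Points.map (q i) ⁻¹' W ⊆ N)
    (hcomp : ∀ s₀ : ↥TT.left,
      CompactSpace (Points (pullback snd ((yon S).map (resHom TT s₀)))))
    (H : ∀ i, IsClosedMap (Points.map (sndi i))) : IsClosedMap (Points.map snd) := by
  intro Z hZ
  rw [← closure_subset_iff_isClosed]
  intro s' hs'
  obtain ⟨s₀, rfl⟩ := ofScheme_surjective TT s'
  haveI := hcomp s₀
  obtain ⟨ρ, hρdef⟩ : ∃ ρ : pullback snd ((yon S).map (resHom TT s₀)) ⟶ P,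
      ρ = pullback.fst _ _ := ⟨_, rfl⟩
  obtain ⟨σ, hσdef⟩ : ∃ σ : pullback snd ((yon S).map (resHom TT s₀)) ⟶
      (yon S).obj (resOver TT s₀), σ = pullback.snd _ _ := ⟨_, rfl⟩
  have sqF : IsPullback ρ σ snd ((yon S).map (resHom TT s₀)) := by
    rw [hρdef, hσdef]; exact IsPullback.of_hasPullback _ _
  have sqi : ∀ i, IsPullback (ρ ≫ q i) σ (sndi i)
      ((yon S).map (resHom TT s₀) ≫ (yon S).map (πi i)) := fun i => sqF.paste_horiz (sq i)
  let Zi : ∀ i, Set (Points (Pi i)) := fun i => closure (Points.map (q i) '' Z)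
  let Z' : I → Set (Points (pullback snd ((yon S).map (resHom TT s₀)))) := fun i =>
    Points.map (ρ ≫ q i) ⁻¹' Zi i
  have hZ'closed : ∀ i, IsClosed (Z' i) := fun i =>
    isClosed_closure.preimage (Points.continuous_map _)
  have hmap : ∀ {i j : I} (h : i ⟶ j), Set.MapsTo (Points.map (qm h)) (Zi i) (Zi j) := by
    intro i j h w hw
    have h1 : Points.map (q j) '' Z = Points.map (qm h) '' (Points.map (q i) '' Z) := by
      rw [← Set.image_comp]
      congr 1
      ext z
      rw [Function.comp_apply, ← Points.map_comp, hq h]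
    have h2 := image_closure_subset_closure_image (Points.continuous_map (qm h))
      (s := Points.map (q i) '' Z) ⟨w, hw, rfl⟩
    show Points.map (qm h) w ∈ closure (Points.map (q j) '' Z)
    rw [h1]
    exact h2
  have hmono : ∀ {i j : I} (h : i ⟶ j), Z' i ⊆ Z' j := by
    intro i j h p hp
    show Points.map (ρ ≫ q j) p ∈ Zi j
    rw [← hq h, ← Category.assoc, Points.map_comp]
    exact hmap h hp
  have hdir : Directed (· ⊇ ·) Z' := by
    intro i j
    exact ⟨IsCofiltered.min i j, hmono (IsCofiltered.minToLeft i j),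
      hmono (IsCofiltered.minToRight i j)⟩
  have hne : ∀ i, (Z' i).Nonempty := by
    intro i
    have hcl : IsClosed (Points.map (sndi i) '' Zi i) := H i _ isClosed_closure
    have h1 : Points.map ((yon S).map (πi i)) '' (Points.map snd '' Z) ⊆
        Points.map (sndi i) '' Zi i := by
      rintro _ ⟨_, ⟨z, hz, rfl⟩, rfl⟩
      refine ⟨Points.map (q i) z, subset_closure ⟨z, hz, rfl⟩, ?_⟩
      rw [← Points.map_comp, ← Points.map_comp, (sq i).w]
    have h2 : Points.map ((yon S).map (πi i)) (Points.ofScheme TT s₀) ∈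
        Points.map (sndi i) '' Zi i := by
      have h3 := image_closure_subset_closure_image
        (Points.continuous_map ((yon S).map (πi i)))
        (s := Points.map snd '' Z) ⟨_, hs', rfl⟩
      exact (closure_minimal h1 hcl) h3
    obtain ⟨w, hw, hwsnd⟩ := h2
    obtain ⟨p₀⟩ : Nonempty (Points ((yon S).obj (resOver TT s₀))) :=
      ⟨Points.ofScheme _ (IsLocalRing.closedPoint _)⟩
    obtain ⟨p, hp1, -⟩ := exists_of_isPullback (sqi i) w p₀ (by
      rw [hwsnd, Points.map_comp, map_resHom])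
    exact ⟨p, by show Points.map (ρ ≫ q i) p ∈ Zi i; rw [hp1]; exact hw⟩
  haveI : Nonempty I := IsCofiltered.nonempty
  obtain ⟨p, hp⟩ := IsCompact.nonempty_iInter_of_directed_nonempty_isCompact_isClosed Z' hdir hne
    (fun i => (hZ'closed i).isCompact) hZ'closed
  rw [Set.mem_iInter] at hp
  refine ⟨Points.map ρ p, ?_, ?_⟩
  · by_contra hnot
    obtain ⟨i, W, hW, hxW, hWN⟩ := hbasis (Points.map ρ p) Zᶜ hZ.isOpen_compl hnot
    have h1 : Points.map (ρ ≫ q i) p ∈ Zi i := hp i
    rw [Points.map_comp] at h1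
    have h3 : Disjoint W (Points.map (q i) '' Z) := by
      rw [Set.disjoint_left]
      rintro _ hv ⟨z, hz, rfl⟩
      exact (hWN hv) hz
    have h4 := h3.closure_right hW
    exact Set.disjoint_left.1 h4 hxW h1
  · rw [← Points.map_comp, sqF.w, Points.map_comp, map_resHom]

/-- The base change of a closed map of algebraic spaces along an immersion of schemes is closed. -/
theorem isClosedMap_of_isPullback_of_immersion {P P' : Sp S} {W W' : Over S} (hP : IsAlgSpace P)
    (j : W' ⟶ W) [IsImmersion j.left] {j' : P' ⟶ P} {q' : P' ⟶ (yon S).obj W'}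
    {q : P ⟶ (yon S).obj W} (h : IsPullback j' q' q ((yon S).map j))
    (hq : IsClosedMap (Points.map q)) : IsClosedMap (Points.map q') := by
  have hj : RepWith @IsImmersion ((yon S).map j) := (repWith_yon_map_iff _ _).2 ‹_›
  have hj' : RepWith @IsImmersion j' := repWith_fst_of_isPullback _ h hj
  have hemb := (isEmbedding_map_of_immersion hP j' hj').1
  intro Z' hZ'
  have h1 : Points.map q' '' Z' =
      Points.map ((yon S).map j) ⁻¹' (Points.map q '' closure (Points.map j' '' Z')) := by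
    ext t'
    constructor
    · rintro ⟨z, hz, rfl⟩
      refine ⟨Points.map j' z, subset_closure ⟨z, hz, rfl⟩, ?_⟩
      rw [← Points.map_comp, ← Points.map_comp, h.w]
    · rintro ⟨w, hw, hwt⟩
      obtain ⟨w', hw'1, hw'2⟩ := exists_of_isPullback h w t' hwt
      refine ⟨w', ?_, hw'2⟩
      have h2 : w' ∈ closure Z' := by
        rw [hemb.isInducing.closure_eq_preimage_closure_image]
        show Points.map j' w' ∈ closure (Points.map j' '' Z')
        rw [hw'1]; exact hw
      rwa [hZ'.closure_eq] at h2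
  rw [h1]
  exact (hq _ isClosed_closure).preimage (Points.continuous_map _)

/-- Closedness of the base change of `f₀` to a scheme `W` gives closedness of the base change to
any scheme immersed in `W`. -/
theorem closed_of_immersion {X₀ : Sp S} (hX₀ : IsAlgSpace X₀) {V W W' : Over S}
    (f₀ : X₀ ⟶ (yon S).obj V) (w : W ⟶ V) (j : W' ⟶ W) [IsImmersion j.left] (w' : W' ⟶ V)
    (hw : j ≫ w = w')
    (hcl : IsClosedMap (Points.map (pullback.snd f₀ ((yon S).map w))))
    {P' : Sp S} (fst' : P' ⟶ X₀) (snd' : P' ⟶ (yon S).obj W')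
    (sq : IsPullback fst' snd' f₀ ((yon S).map w')) : IsClosedMap (Points.map snd') := by
  have hc : fst' ≫ f₀ = (snd' ≫ (yon S).map j) ≫ (yon S).map w := by
    rw [Category.assoc, ← Functor.map_comp, hw, sq.w]
  have sqj : IsPullback (pullback.lift fst' (snd' ≫ (yon S).map j) hc) snd'
      (pullback.snd f₀ ((yon S).map w)) ((yon S).map j) := by
    refine IsPullback.of_right ?_ (pullback.lift_snd _ _ _) (IsPullback.of_hasPullback f₀ _)
    rw [pullback.lift_fst, ← Functor.map_comp, hw]
    exact sq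
  exact isClosedMap_of_isPullback_of_immersion
    (isAlgSpace_of_isPullback (IsAlgSpace.yon_obj V).diag hX₀ (IsAlgSpace.yon_obj W)
      (IsPullback.of_hasPullback _ _)) j sqj hcl

end Groth.Agent.Lib.UCLimitH7
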