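import Mathlib
import Groth.Agent.Lib.UnivHomeo9_helper6
import Groth.Agent.Lib.UnivHomeo12_helper6
set_option autoImplicit false
universe u

/-!
# A universal homeomorphism of affine schemes is a filtered colimit of finitely presented ones
(helper6)
-/

open CategoryTheory CategoryTheory.Limits AlgebraicGeometry MvPolynomial

namespace Groth.Agent.Lib.UHColim

open Groth.Agent.Lib.UnivHomeo

section W

variable (A : Type u) [CommRing A]

/-- Elements that are integral over `A` and on which field-valued points are determined by their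
restriction to `A`. -/
def Wsub (Q : Type u) [CommRing Q] [Algebra A Q] : Subalgebra A Q where
  carrier := {q | IsIntegral A q ∧ ∀ (K : Type u) [Field K] (ψ₁ ψ₂ : Q →+* K),
    ψ₁.comp (algebraMap A Q) = ψ₂.comp (algebraMap A Q) → ψ₁ q = ψ₂ q}
  mul_mem' := by
    rintro x y ⟨h1, h2⟩ ⟨h1', h2'⟩
    exact ⟨h1.mul h1', fun K _ ψ₁ ψ₂ h => by
      rw [map_mul, map_mul, h2 K ψ₁ ψ₂ h, h2' K ψ₁ ψ₂ h]⟩
  add_mem' := by
    rintro x y ⟨h1, h2⟩ ⟨h1', h2'⟩
    exact ⟨h1.add h1', fun K _ ψ₁ ψ₂ h => by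
      rw [map_add, map_add, h2 K ψ₁ ψ₂ h, h2' K ψ₁ ψ₂ h]⟩
  algebraMap_mem' := fun a => ⟨isIntegral_algebraMap, fun K _ ψ₁ ψ₂ h => congr($h a)⟩

variable {A} {Q Q' : Type u} [CommRing Q] [Algebra A Q] [CommRing Q'] [Algebra A Q']

theorem map_mem_Wsub (h : Q →ₐ[A] Q') {q : Q} (hq : q ∈ Wsub A Q) : h q ∈ Wsub A Q' := by
  refine ⟨hq.1.map h, fun K _ ψ₁ ψ₂ h12 => ?_⟩
  exact hq.2 K (ψ₁.comp h.toRingHom) (ψ₂.comp h.toRingHom) (by
    ext a
    simp only [RingHom.comp_apply, AlgHom.toRingHom_eq_coe, RingHom.coe_coe, AlgHom.commutes]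
    exact congr($h12 a))

theorem mem_Wsub_of_sq_cube {q : Q} (h2 : q ^ 2 ∈ Wsub A Q) (h3 : q ^ 3 ∈ Wsub A Q) :
    q ∈ Wsub A Q := by
  refine ⟨IsIntegral.of_pow (n := 2) (by norm_num) h2.1, fun K _ ψ₁ ψ₂ h => ?_⟩
  apply eq_of_sq_eq_of_cube_eq
  · rw [← map_pow, ← map_pow]; exact h2.2 K ψ₁ ψ₂ h
  · rw [← map_pow, ← map_pow]; exact h3.2 K ψ₁ ψ₂ h

theorem mem_Wsub_of_prime {q : Q} (p : ℕ) (hp : p.Prime) (h1 : (p : Q) * q ∈ Wsub A Q)
    (h2 : q ^ p ∈ Wsub A Q) : q ∈ Wsub A Q := by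
  refine ⟨IsIntegral.of_pow hp.pos h2.1, fun K _ ψ₁ ψ₂ h => ?_⟩
  apply eq_of_prime_mul_eq_of_pow_eq p hp
  · have := h1.2 K ψ₁ ψ₂ h
    rwa [map_mul, map_mul, map_natCast, map_natCast] at this
  · rw [← map_pow, ← map_pow]; exact h2.2 K ψ₁ ψ₂ h

theorem isUnivHomeo_of_Wsub_eq_top (h : Wsub A Q = ⊤)
    (hker : RingHom.ker (algebraMap A Q) ≤ nilradical A) :
    FlatMor.IsUnivHomeo (Spec.map (CommRingCat.ofHom (algebraMap A Q))) := by
  rw [isUnivHomeo_iff_alg]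
  have hall : ∀ q : Q, q ∈ Wsub A Q := fun q => by rw [h]; exact Algebra.mem_top
  exact ⟨⟨fun q => (hall q).1⟩, fun K _ ψ₁ ψ₂ h12 => RingHom.ext fun q => (hall q).2 K ψ₁ ψ₂ h12,
    hker⟩

end W

section Rel

variable {A B : Type u} [CommRing A] [CommRing B] [Algebra A B]

/-- The tautological relations among the variables indexed by `E`, with scalars from `Λ`. -/
noncomputable def relSet (E : Finset B) (Λ : Finset A) : Set (MvPolynomial E A) :=
  ((fun t : E × E × E => X t.1 * X t.2.1 - X t.2.2) '' {t | t.1.1 * t.2.1.1 = t.2.2.1}) ∪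
  ((fun t : E × E × E => X t.1 + X t.2.1 - X t.2.2) '' {t | t.1.1 + t.2.1.1 = t.2.2.1}) ∪
  ((fun t : Λ × E => C t.1.1 - X t.2) '' {t | algebraMap A B t.1.1 = t.2.1})

theorem relSet_finite (E : Finset B) (Λ : Finset A) : (relSet E Λ).Finite :=
  (((Set.toFinite _).image _).union ((Set.toFinite _).image _)).union ((Set.toFinite _).image _)

/-- The ideal of tautological relations. -/
noncomputable def relIdeal (E : Finset B) (Λ : Finset A) : Ideal (MvPolynomial E A) :=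
  Ideal.span (relSet E Λ)

theorem relIdeal_fg (E : Finset B) (Λ : Finset A) : (relIdeal E Λ).FG :=
  Submodule.fg_span (relSet_finite E Λ)

/-- The finitely presented algebra attached to `(E, Λ)`. -/
abbrev Qt (E : Finset B) (Λ : Finset A) : Type u := MvPolynomial E A ⧸ relIdeal E Λ

/-- Evaluation of variables. -/
noncomputable def ev (E : Finset B) : MvPolynomial E A →ₐ[A] B := aeval (fun e : E => e.1)

theorem ev_relSet {E : Finset B} {Λ : Finset A} {r : MvPolynomial E A} (hr : r ∈ relSet E Λ) :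
    ev E r = 0 := by
  rcases hr with (⟨t, ht, rfl⟩ | ⟨t, ht, rfl⟩) | ⟨t, ht, rfl⟩
  · simp only [ev, map_sub, map_mul, aeval_X]; exact sub_eq_zero.mpr ht
  · simp only [ev, map_sub, map_add, aeval_X]; exact sub_eq_zero.mpr ht
  · simp only [ev, map_sub, aeval_X, aeval_C]; exact sub_eq_zero.mpr ht

theorem ev_relIdeal {E : Finset B} {Λ : Finset A} {r : MvPolynomial E A} (hr : r ∈ relIdeal E Λ) :
    ev E r = 0 := by
  have h : relIdeal E Λ ≤ RingHom.ker (ev (A := A) E).toRingHom :=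
    Ideal.span_le.mpr (fun r hr => ev_relSet hr)
  exact RingHom.mem_ker.mp (h hr)

/-- The map to `B`. -/
noncomputable def toB (E : Finset B) (Λ : Finset A) : Qt E Λ →ₐ[A] B :=
  Ideal.Quotient.liftₐ (relIdeal E Λ) (ev E) (fun _ ha => ev_relIdeal ha)

theorem toB_mk (E : Finset B) (Λ : Finset A) (q : MvPolynomial E A) :
    toB E Λ (Ideal.Quotient.mk _ q) = ev E q := rfl

/-- Inclusion of index sets. -/
def incl {E E' : Finset B} (h : E ⊆ E') : E → E' := fun e => ⟨e.1, h e.2⟩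

theorem rename_relSet {E E' : Finset B} {Λ Λ' : Finset A} (hE : E ⊆ E') (hΛ : Λ ⊆ Λ')
    {r : MvPolynomial E A} (hr : r ∈ relSet E Λ) : rename (incl hE) r ∈ relSet E' Λ' := by
  rcases hr with (⟨t, ht, rfl⟩ | ⟨t, ht, rfl⟩) | ⟨t, ht, rfl⟩
  · refine Or.inl (Or.inl ⟨(incl hE t.1, incl hE t.2.1, incl hE t.2.2), ht, ?_⟩)
    simp only [map_sub, map_mul, rename_X]
  · refine Or.inl (Or.inr ⟨(incl hE t.1, incl hE t.2.1, incl hE t.2.2), ht, ?_⟩)
    simp only [map_sub, map_add, rename_X]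
  · refine Or.inr ⟨(⟨t.1.1, hΛ t.1.2⟩, incl hE t.2), ht, ?_⟩
    simp only [map_sub, rename_X, rename_C]

/-- Transition maps. -/
noncomputable def trans {E E' : Finset B} {Λ Λ' : Finset A} (hE : E ⊆ E') (hΛ : Λ ⊆ Λ') :
    Qt E Λ →ₐ[A] Qt E' Λ' :=
  Ideal.quotientMapₐ (relIdeal E' Λ') (rename (incl hE))
    (Ideal.span_le.mpr (fun _ hr => Ideal.subset_span (rename_relSet hE hΛ hr)))

theorem trans_mk {E E' : Finset B} {Λ Λ' : Finset A} (hE : E ⊆ E') (hΛ : Λ ⊆ Λ')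
    (q : MvPolynomial E A) :
    trans hE hΛ (Ideal.Quotient.mk _ q) = Ideal.Quotient.mk _ (rename (incl hE) q) := rfl

theorem toB_trans {E E' : Finset B} {Λ Λ' : Finset A} (hE : E ⊆ E') (hΛ : Λ ⊆ Λ')
    (z : Qt E Λ) : toB E' Λ' (trans hE hΛ z) = toB E Λ z := by
  obtain ⟨q, rfl⟩ := Ideal.Quotient.mk_surjective z
  rw [trans_mk, toB_mk, toB_mk, ev, ev, aeval_rename]
  rfl

/-- The class of a variable. -/
noncomputable def xv (E : Finset B) (Λ : Finset A) (e : E) : Qt E Λ := Ideal.Quotient.mk _ (X e)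

theorem toB_xv (E : Finset B) (Λ : Finset A) (e : E) : toB E Λ (xv E Λ e) = e.1 := by
  rw [xv, toB_mk, ev, aeval_X]

theorem trans_xv {E E' : Finset B} {Λ Λ' : Finset A} (hE : E ⊆ E') (hΛ : Λ ⊆ Λ') (e : E) :
    trans hE hΛ (xv E Λ e) = xv E' Λ' (incl hE e) := by
  rw [xv, trans_mk, rename_X]; rfl

theorem trans_id (E : Finset B) (Λ : Finset A) :
    trans (subset_refl E) (subset_refl Λ) = AlgHom.id A (Qt E Λ) := by
  apply Ideal.Quotient.algHom_ext
  apply MvPolynomial.algHom_ext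
  intro e
  show trans (subset_refl E) (subset_refl Λ) (xv E Λ e) = xv E Λ e
  rw [trans_xv]; rfl

theorem trans_comp {E E' E'' : Finset B} {Λ Λ' Λ'' : Finset A} (hE : E ⊆ E') (hΛ : Λ ⊆ Λ')
    (hE' : E' ⊆ E'') (hΛ' : Λ' ⊆ Λ'') :
    (trans hE' hΛ').comp (trans hE hΛ) = trans (hE.trans hE') (hΛ.trans hΛ') := by
  apply Ideal.Quotient.algHom_ext
  apply MvPolynomial.algHom_ext
  intro e
  show trans hE' hΛ' (trans hE hΛ (xv E Λ e)) = trans (hE.trans hE') (hΛ.trans hΛ') (xv E Λ e)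
  rw [trans_xv, trans_xv, trans_xv]; rfl

theorem trans_trans {E E' E'' : Finset B} {Λ Λ' Λ'' : Finset A} (hE : E ⊆ E') (hΛ : Λ ⊆ Λ')
    (hE' : E' ⊆ E'') (hΛ' : Λ' ⊆ Λ'') (z : Qt E Λ) :
    trans hE' hΛ' (trans hE hΛ z) = trans (hE.trans hE') (hΛ.trans hΛ') z :=
  congr($(trans_comp hE hΛ hE' hΛ') z)

theorem xv_mul {E : Finset B} {Λ : Finset A} (u v w : E) (h : u.1 * v.1 = w.1) :
    xv E Λ u * xv E Λ v = xv E Λ w := by
  rw [xv, xv, xv, ← map_mul, Ideal.Quotient.eq]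
  exact Ideal.subset_span (Or.inl (Or.inl ⟨(u, v, w), h, rfl⟩))

theorem xv_add {E : Finset B} {Λ : Finset A} (u v w : E) (h : u.1 + v.1 = w.1) :
    xv E Λ u + xv E Λ v = xv E Λ w := by
  rw [xv, xv, xv, ← map_add, Ideal.Quotient.eq]
  exact Ideal.subset_span (Or.inl (Or.inr ⟨(u, v, w), h, rfl⟩))

theorem xv_scalar {E : Finset B} {Λ : Finset A} (a : A) (ha : a ∈ Λ) (u : E)
    (h : algebraMap A B a = u.1) : algebraMap A (Qt E Λ) a = xv E Λ u := by
  show Ideal.Quotient.mk _ (C a) = Ideal.Quotient.mk _ (X u)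
  rw [Ideal.Quotient.eq]
  exact Ideal.subset_span (Or.inr ⟨(⟨a, ha⟩, u), h, rfl⟩)

theorem eq_top_of_xv_mem {E : Finset B} {Λ : Finset A} (T : Subalgebra A (Qt E Λ))
    (h : ∀ e, xv E Λ e ∈ T) : T = ⊤ := by
  rw [eq_top_iff]
  rintro z -
  obtain ⟨q, rfl⟩ := Ideal.Quotient.mk_surjective z
  induction q using MvPolynomial.induction_on with
  | C a => exact T.algebraMap_mem a
  | add p q hp hq => rw [map_add]; exact T.add_mem hp hq
  | mul_X p e hp => rw [map_mul]; exact T.mul_mem hp (h e)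

/-- All variables are "good". -/
def Good (E : Finset B) (Λ : Finset A) : Prop := ∀ e : E, xv E Λ e ∈ Wsub A (Qt E Λ)

theorem Good.wsub_eq_top {E : Finset B} {Λ : Finset A} (h : Good E Λ) : Wsub A (Qt E Λ) = ⊤ :=
  eq_top_of_xv_mem _ h

theorem good_empty : Good (∅ : Finset B) (∅ : Finset A) :=
  fun e => absurd e.2 (Finset.notMem_empty _)

theorem good_of_le {E E' : Finset B} {Λ Λ' : Finset A} (h : Good E Λ) (hE : E ⊆ E')
    (hΛ : Λ ⊆ Λ')
    (hnew : (∀ e : E', e.1 ∈ E → xv E' Λ' e ∈ Wsub A (Qt E' Λ')) →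
      ∀ e : E', e.1 ∉ E → xv E' Λ' e ∈ Wsub A (Qt E' Λ')) : Good E' Λ' := by
  have hold : ∀ e : E', e.1 ∈ E → xv E' Λ' e ∈ Wsub A (Qt E' Λ') := by
    intro e he
    have := map_mem_Wsub (trans hE hΛ) (h ⟨e.1, he⟩)
    rwa [trans_xv] at this
  intro e
  by_cases he : e.1 ∈ E
  · exact hold e he
  · exact hnew hold e he

open Classical in
theorem good_union {E₁ E₂ : Finset B} {Λ₁ Λ₂ : Finset A} (h₁ : Good E₁ Λ₁) (h₂ : Good E₂ Λ₂) :
    Good (E₁ ∪ E₂) (Λ₁ ∪ Λ₂) := by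
  refine good_of_le h₁ Finset.subset_union_left Finset.subset_union_left (fun _ e he => ?_)
  have he2 : e.1 ∈ E₂ := (Finset.mem_union.mp e.2).resolve_left he
  have := map_mem_Wsub (trans (Finset.subset_union_right (s₁ := E₁)) (Finset.subset_union_right (s₁ := Λ₁)))
    (h₂ ⟨e.1, he2⟩)
  rwa [trans_xv] at this

open Classical in
theorem good_insert_mul {E : Finset B} {Λ : Finset A} (h : Good E Λ) {u v : B} (hu : u ∈ E)
    (hv : v ∈ E) : Good (insert (u * v) E) Λ := by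
  refine good_of_le h (Finset.subset_insert _ _) (subset_refl _) (fun hold e he => ?_)
  have he' : e.1 = u * v := (Finset.mem_insert.mp e.2).resolve_right he
  have := xv_mul (Λ := Λ) (⟨u, Finset.mem_insert_of_mem hu⟩ : ↥(insert (u * v) E))
    ⟨v, Finset.mem_insert_of_mem hv⟩ e he'.symm
  rw [← this]
  exact mul_mem (hold _ hu) (hold _ hv)

open Classical in
theorem good_insert_add {E : Finset B} {Λ : Finset A} (h : Good E Λ) {u v : B} (hu : u ∈ E)
    (hv : v ∈ E) : Good (insert (u + v) E) Λ := by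
  refine good_of_le h (Finset.subset_insert _ _) (subset_refl _) (fun hold e he => ?_)
  have he' : e.1 = u + v := (Finset.mem_insert.mp e.2).resolve_right he
  have := xv_add (Λ := Λ) (⟨u, Finset.mem_insert_of_mem hu⟩ : ↥(insert (u + v) E))
    ⟨v, Finset.mem_insert_of_mem hv⟩ e he'.symm
  rw [← this]
  exact add_mem (hold _ hu) (hold _ hv)

open Classical in
theorem good_insert_scalar {E : Finset B} {Λ : Finset A} (h : Good E Λ) (a : A) :
    Good (insert (algebraMap A B a) E) (insert a Λ) := by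
  refine good_of_le h (Finset.subset_insert _ _) (Finset.subset_insert _ _) (fun _ e he => ?_)
  have he' : e.1 = algebraMap A B a := (Finset.mem_insert.mp e.2).resolve_right he
  rw [← xv_scalar a (Finset.mem_insert_self a Λ) e he'.symm]
  exact Subalgebra.algebraMap_mem _ a

open Classical in
theorem good_insert_sq_cube {E : Finset B} {Λ : Finset A} (h : Good E Λ) {c : B}
    (h2 : c ^ 2 ∈ E) (h3 : c ^ 3 ∈ E) : Good (insert c E) Λ := by
  refine good_of_le h (Finset.subset_insert _ _) (subset_refl _) (fun hold e he => ?_)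
  have he' : e.1 = c := (Finset.mem_insert.mp e.2).resolve_right he
  have e2 : xv (insert c E) Λ e * xv (insert c E) Λ e =
      xv (insert c E) Λ ⟨c ^ 2, Finset.mem_insert_of_mem h2⟩ :=
    xv_mul e e _ (by rw [he']; ring)
  have e3 : xv (insert c E) Λ e * xv (insert c E) Λ ⟨c ^ 2, Finset.mem_insert_of_mem h2⟩ =
      xv (insert c E) Λ ⟨c ^ 3, Finset.mem_insert_of_mem h3⟩ :=
    xv_mul e _ _ (by rw [he']; ring)
  apply mem_Wsub_of_sq_cube
  · rw [pow_two, e2]; exact hold _ h2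
  · rw [pow_succ, pow_two, e2, mul_comm, e3]; exact hold _ h3

open Classical in
theorem good_insert_prime {E : Finset B} {Λ : Finset A} (h : Good E Λ) {c : B} (p : ℕ)
    (hp : p.Prime) (h1 : (p : B) * c ∈ E) (h2 : c ^ p ∈ E) :
    ∃ (E' : Finset B) (Λ' : Finset A), Good E' Λ' ∧ E ⊆ E' ∧ Λ ⊆ Λ' ∧ c ∈ E' := by
  have hg1 := good_insert_scalar h (p : A)
  have hpB : algebraMap A B (p : A) = (p : B) := map_natCast _ p
  obtain ⟨E₁, hE₁⟩ : ∃ E₁, E₁ = insert (algebraMap A B (p : A)) E := ⟨_, rfl⟩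
  obtain ⟨Λ₁, hΛ₁⟩ : ∃ Λ₁, Λ₁ = insert (p : A) Λ := ⟨_, rfl⟩
  rw [← hE₁, ← hΛ₁] at hg1
  have hEE₁ : E ⊆ E₁ := by rw [hE₁]; exact Finset.subset_insert _ _
  have hΛΛ₁ : Λ ⊆ Λ₁ := by rw [hΛ₁]; exact Finset.subset_insert _ _
  have hpE₁ : (p : B) ∈ E₁ := by rw [hE₁, hpB]; exact Finset.mem_insert_self _ _
  have hpΛ₁ : (p : A) ∈ Λ₁ := by rw [hΛ₁]; exact Finset.mem_insert_self _ _
  obtain ⟨P, hP⟩ : ∃ P : Finset B, P = (Finset.Icc 1 (p - 1)).image (fun k => c ^ k) := ⟨_, rfl⟩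
  have hcP : c ∈ P := by
    rw [hP]
    exact Finset.mem_image.mpr ⟨1, Finset.mem_Icc.mpr ⟨le_refl 1, by have := hp.two_le; omega⟩,
      pow_one c⟩
  have hkP : ∀ k, 1 ≤ k → k ≤ p - 1 → c ^ k ∈ P := fun k h1 h2 => by
    rw [hP]; exact Finset.mem_image.mpr ⟨k, Finset.mem_Icc.mpr ⟨h1, h2⟩, rfl⟩
  refine ⟨E₁ ∪ P, Λ₁, ?_, hEE₁.trans Finset.subset_union_left, hΛΛ₁,
    Finset.mem_union_right _ hcP⟩
  refine good_of_le hg1 Finset.subset_union_left (subset_refl _) (fun hold e he => ?_)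
  -- the variable of `c`
  obtain ⟨y, hy⟩ : ∃ y : Qt (E₁ ∪ P) Λ₁, y = xv (E₁ ∪ P) Λ₁ ⟨c, Finset.mem_union_right _ hcP⟩ :=
    ⟨_, rfl⟩
  have hpow : ∀ k, 1 ≤ k → k ≤ p → ∀ e : ↥(E₁ ∪ P), e.1 = c ^ k → xv (E₁ ∪ P) Λ₁ e = y ^ k := by
    intro k hk
    induction k, hk using Nat.le_induction with
    | base =>
      intro _ e he
      rw [pow_one, hy]
      congr 1
      exact Subtype.ext (he.trans (pow_one c))
    | succ k hk ih =>
      intro hkp e he
      have hk' : c ^ k ∈ E₁ ∪ P := Finset.mem_union_right _ (hkP k hk (by omega))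
      have h3 := xv_mul (Λ := Λ₁) (⟨c ^ k, hk'⟩ : ↥(E₁ ∪ P)) ⟨c, Finset.mem_union_right _ hcP⟩ e
        (by rw [he, pow_succ])
      rw [← h3, ih (by omega) ⟨c ^ k, hk'⟩ rfl, ← hy, pow_succ]
  have hcpE : c ^ p ∈ E₁ := hEE₁ h2
  have hpcE : (p : B) * c ∈ E₁ := hEE₁ h1
  have hyW : y ∈ Wsub A (Qt (E₁ ∪ P) Λ₁) := by
    apply mem_Wsub_of_prime p hp
    · have h4 : algebraMap A (Qt (E₁ ∪ P) Λ₁) (p : A) =
          xv (E₁ ∪ P) Λ₁ ⟨(p : B), Finset.mem_union_left _ hpE₁⟩ :=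
        xv_scalar (p : A) hpΛ₁ _ hpB
      have h5 := xv_mul (Λ := Λ₁) (⟨(p : B), Finset.mem_union_left _ hpE₁⟩ : ↥(E₁ ∪ P))
        ⟨c, Finset.mem_union_right _ hcP⟩ ⟨(p : B) * c, Finset.mem_union_left _ hpcE⟩ rfl
      have h6 : (p : Qt (E₁ ∪ P) Λ₁) = algebraMap A (Qt (E₁ ∪ P) Λ₁) (p : A) :=
        (map_natCast _ p).symm
      rw [h6, h4, hy, h5]
      exact hold _ hpcE
    · rw [← hpow p hp.one_le (le_refl p) ⟨c ^ p, Finset.mem_union_left _ hcpE⟩ rfl]
      exact hold _ hcpE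
  have heP : e.1 ∈ P := (Finset.mem_union.mp e.2).resolve_left he
  have heP' : e.1 ∈ (Finset.Icc 1 (p - 1)).image (fun k => c ^ k) := hP ▸ heP
  obtain ⟨k, hk, hke⟩ := Finset.mem_image.mp heP'
  obtain ⟨hk1, hk2⟩ := Finset.mem_Icc.mp hk
  rw [hpow k hk1 (by omega) e hke.symm]
  exact pow_mem hyW k

open Classical in
/-- Every class becomes the class of a variable after enlarging the index. -/
theorem exists_eq_xv {E : Finset B} {Λ : Finset A} (h : Good E Λ) (z : Qt E Λ) :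
    ∃ (E' : Finset B) (Λ' : Finset A) (hE : E ⊆ E') (hΛ : Λ ⊆ Λ') (_ : Good E' Λ') (e : E'),
      trans hE hΛ z = xv E' Λ' e := by
  obtain ⟨q, rfl⟩ := Ideal.Quotient.mk_surjective z
  induction q using MvPolynomial.induction_on with
  | C a =>
    refine ⟨insert (algebraMap A B a) E, insert a Λ, Finset.subset_insert _ _,
      Finset.subset_insert _ _, good_insert_scalar h a,
      ⟨algebraMap A B a, Finset.mem_insert_self _ _⟩, ?_⟩
    rw [trans_mk, rename_C]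
    exact xv_scalar a (Finset.mem_insert_self a Λ) _ rfl
  | add p q hp hq =>
    obtain ⟨E₁, Λ₁, hE₁, hΛ₁, hg₁, e₁, he₁⟩ := hp
    obtain ⟨E₂, Λ₂, hE₂, hΛ₂, hg₂, e₂, he₂⟩ := hq
    have hg := good_insert_add (good_union hg₁ hg₂) (u := e₁.1) (v := e₂.1)
      (Finset.mem_union_left _ e₁.2) (Finset.mem_union_right _ e₂.2)
    have s₁ : E₁ ⊆ insert (e₁.1 + e₂.1) (E₁ ∪ E₂) :=
      Finset.subset_union_left.trans (Finset.subset_insert _ _)
    have s₂ : E₂ ⊆ insert (e₁.1 + e₂.1) (E₁ ∪ E₂) :=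
      Finset.subset_union_right.trans (Finset.subset_insert _ _)
    have t₁ : Λ₁ ⊆ Λ₁ ∪ Λ₂ := Finset.subset_union_left
    have t₂ : Λ₂ ⊆ Λ₁ ∪ Λ₂ := Finset.subset_union_right
    refine ⟨insert (e₁.1 + e₂.1) (E₁ ∪ E₂), Λ₁ ∪ Λ₂, hE₁.trans s₁, hΛ₁.trans t₁, hg,
      ⟨e₁.1 + e₂.1, Finset.mem_insert_self _ _⟩, ?_⟩
    have k₁ : trans (hE₁.trans s₁) (hΛ₁.trans t₁) (Ideal.Quotient.mk _ p) =
        xv _ _ (incl s₁ e₁) := by
      rw [← trans_trans hE₁ hΛ₁ s₁ t₁, he₁, trans_xv]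
    have k₂ : trans (hE₁.trans s₁) (hΛ₁.trans t₁) (Ideal.Quotient.mk _ q) =
        xv _ _ (incl s₂ e₂) := by
      have : trans (hE₁.trans s₁) (hΛ₁.trans t₁) (Ideal.Quotient.mk _ q) =
          trans (hE₂.trans s₂) (hΛ₂.trans t₂) (Ideal.Quotient.mk _ q) := rfl
      rw [this, ← trans_trans hE₂ hΛ₂ s₂ t₂, he₂, trans_xv]
    rw [map_add, map_add, k₁, k₂]
    exact xv_add _ _ _ rfl
  | mul_X p e₀ hp =>
    obtain ⟨E₁, Λ₁, hE₁, hΛ₁, hg₁, e₁, he₁⟩ := hp
    have hg := good_insert_mul hg₁ (u := e₁.1) (v := e₀.1) e₁.2 (hE₁ e₀.2)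
    have s₁ : E₁ ⊆ insert (e₁.1 * e₀.1) E₁ := Finset.subset_insert _ _
    refine ⟨insert (e₁.1 * e₀.1) E₁, Λ₁, hE₁.trans s₁, hΛ₁, hg,
      ⟨e₁.1 * e₀.1, Finset.mem_insert_self _ _⟩, ?_⟩
    have k₁ : trans (hE₁.trans s₁) hΛ₁ (Ideal.Quotient.mk _ p) = xv _ _ (incl s₁ e₁) := by
      have : trans (hE₁.trans s₁) hΛ₁ (Ideal.Quotient.mk _ p) =
          trans (hE₁.trans s₁) (hΛ₁.trans (subset_refl Λ₁)) (Ideal.Quotient.mk _ p) := rfl
      rw [this, ← trans_trans hE₁ hΛ₁ s₁ (subset_refl Λ₁), he₁, trans_xv]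
    have k₀ : trans (hE₁.trans s₁) hΛ₁ (Ideal.Quotient.mk _ (X e₀)) =
        xv _ _ (incl (hE₁.trans s₁) e₀) := trans_xv _ _ e₀
    rw [map_mul, map_mul, k₁, k₀]
    exact xv_mul _ _ _ rfl

theorem exists_trans_eq_zero {E : Finset B} {Λ : Finset A} (h : Good E Λ) (z : Qt E Λ)
    (hz : toB E Λ z = 0) :
    ∃ (E' : Finset B) (Λ' : Finset A) (hE : E ⊆ E') (hΛ : Λ ⊆ Λ'), Good E' Λ' ∧
      trans hE hΛ z = 0 := by
  obtain ⟨E', Λ', hE, hΛ, hg, e, he⟩ := exists_eq_xv h z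
  refine ⟨E', Λ', hE, hΛ, hg, ?_⟩
  have he0 : e.1 = 0 := by
    rw [← toB_xv E' Λ' e, ← he, toB_trans, hz]
  rw [he]
  have h2 := xv_add (Λ := Λ') e e e (by rw [he0, add_zero])
  linear_combination h2

open Classical in
/-- Every element of `B` is a variable of a good index. -/
theorem exists_good_mem
    (hU : FlatMor.IsUnivHomeo (Spec.map (CommRingCat.ofHom (algebraMap A B)))) (b : B) :
    ∃ (E : Finset B) (Λ : Finset A), Good E Λ ∧ b ∈ E := by
  let G : Subalgebra A B :=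
    { carrier := {b | ∃ (E : Finset B) (Λ : Finset A), Good E Λ ∧ b ∈ E}
      mul_mem' := by
        rintro x y ⟨E₁, Λ₁, h₁, hx⟩ ⟨E₂, Λ₂, h₂, hy⟩
        exact ⟨_, _, good_insert_mul (good_union h₁ h₂) (Finset.mem_union_left _ hx)
          (Finset.mem_union_right _ hy), Finset.mem_insert_self _ _⟩
      add_mem' := by
        rintro x y ⟨E₁, Λ₁, h₁, hx⟩ ⟨E₂, Λ₂, h₂, hy⟩
        exact ⟨_, _, good_insert_add (good_union h₁ h₂) (Finset.mem_union_left _ hx)
          (Finset.mem_union_right _ hy), Finset.mem_insert_self _ _⟩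
      algebraMap_mem' := fun a =>
        ⟨_, _, good_insert_scalar good_empty a, Finset.mem_insert_self _ _⟩ }
  have hclosed : ∀ S ≤ G, ∀ b, P2 S b → b ∈ G := by
    intro S hS b hb
    rcases hb with ⟨h2, h3⟩ | ⟨p, hp, h1, h2⟩
    · obtain ⟨E₁, Λ₁, g₁, m₁⟩ := hS h2
      obtain ⟨E₂, Λ₂, g₂, m₂⟩ := hS h3
      exact ⟨_, _, good_insert_sq_cube (good_union g₁ g₂) (Finset.mem_union_left _ m₁)
        (Finset.mem_union_right _ m₂), Finset.mem_insert_self _ _⟩
    · obtain ⟨E₁, Λ₁, g₁, m₁⟩ := hS h1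
      obtain ⟨E₂, Λ₂, g₂, m₂⟩ := hS h2
      obtain ⟨E', Λ', g', -, -, hc⟩ := good_insert_prime (good_union g₁ g₂) p hp
        (Finset.mem_union_left _ m₁) (Finset.mem_union_right _ m₂)
      exact ⟨E', Λ', g', hc⟩
  have htop := reachUnion_eq_top_P2 hU
  have hb : b ∈ reachUnion (P2_mono (A := A) (B := B)) := by rw [htop]; exact Algebra.mem_top
  obtain ⟨S, hS, hbS⟩ := hb
  exact (hS.le_of_closed G hclosed) hbS

end Rel

section Main

variable (A B : Type u) [CommRing A] [CommRing B] [Algebra A B]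

/-- The index preorder. -/
abbrev Idx : Type u := {j : Finset B × Finset A // Good (A := A) j.1 j.2}

open Classical in
instance : IsDirectedOrder (Idx A B) :=
  ⟨fun j₁ j₂ => ⟨⟨(j₁.1.1 ∪ j₂.1.1, j₁.1.2 ∪ j₂.1.2), good_union j₁.2 j₂.2⟩,
    ⟨Finset.subset_union_left, Finset.subset_union_left⟩,
    ⟨Finset.subset_union_right, Finset.subset_union_right⟩⟩⟩

instance : Nonempty (Idx A B) := ⟨⟨(∅, ∅), good_empty⟩⟩

/-- The diagram. -/
noncomputable def Ffun : Idx A B ⥤ Under (CommRingCat.of A) where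
  obj j := Under.mk (CommRingCat.ofHom (algebraMap A (Qt j.1.1 j.1.2)))
  map {j j'} f := Under.homMk
    (CommRingCat.ofHom (trans (leOfHom f).1 (leOfHom f).2).toRingHom)
    (CommRingCat.hom_ext (RingHom.ext fun a => (trans (leOfHom f).1 (leOfHom f).2).commutes a))
  map_id j := by
    apply Under.UnderMorphism.ext
    show CommRingCat.ofHom (trans (subset_refl j.1.1) (subset_refl j.1.2)).toRingHom = _
    rw [trans_id]
    rfl
  map_comp {j j' j''} f g := by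
    apply Under.UnderMorphism.ext
    show CommRingCat.ofHom (trans ((leOfHom f).1.trans (leOfHom g).1)
        ((leOfHom f).2.trans (leOfHom g).2)).toRingHom =
      CommRingCat.ofHom (trans (leOfHom f).1 (leOfHom f).2).toRingHom ≫
        CommRingCat.ofHom (trans (leOfHom g).1 (leOfHom g).2).toRingHom
    rw [← CommRingCat.ofHom_comp]
    congr 1
    exact congrArg AlgHom.toRingHom
      (trans_comp (leOfHom f).1 (leOfHom f).2 (leOfHom g).1 (leOfHom g).2).symm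

/-- The cocone with vertex `B`. -/
noncomputable def coc : Cocone (Ffun A B) where
  pt := Under.mk (CommRingCat.ofHom (algebraMap A B))
  ι :=
    { app := fun j => Under.homMk (CommRingCat.ofHom (toB j.1.1 j.1.2).toRingHom)
        (CommRingCat.hom_ext (RingHom.ext fun a => (toB j.1.1 j.1.2).commutes a))
      naturality := fun j j' f => by
        apply Under.UnderMorphism.ext
        simp only [Functor.const_obj_obj, Functor.const_obj_map, Category.comp_id, Under.comp_right]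
        exact CommRingCat.hom_ext (RingHom.ext fun z => toB_trans (leOfHom f).1 (leOfHom f).2 z) }

theorem isColimit_coc
    (hU : FlatMor.IsUnivHomeo (Spec.map (CommRingCat.ofHom (algebraMap A B)))) :
    Nonempty (IsColimit (coc A B)) := by
  haveI : IsConnected (Idx A B) := IsFiltered.isConnected _
  haveI : ReflectsColimitsOfShape (Idx A B) (forget CommRingCat.{u}) :=
    reflectsColimitsOfShape_of_reflectsIsomorphisms
  refine ⟨isColimitOfReflects (Under.forget (CommRingCat.of A))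
    (isColimitOfReflects (forget CommRingCat.{u}) ?_)⟩
  have key : ∀ (j : Idx A B) (x y : Qt j.1.1 j.1.2), toB j.1.1 j.1.2 x = toB j.1.1 j.1.2 y →
      ∃ (k : Idx A B) (f : j ⟶ k),
        trans (leOfHom f).1 (leOfHom f).2 x = trans (leOfHom f).1 (leOfHom f).2 y := by
    intro j x y hxy'
    obtain ⟨E', Λ', hE, hΛ, hg, h0⟩ := exists_trans_eq_zero j.2 (x - y)
      (by rw [map_sub, sub_eq_zero]; exact hxy')
    refine ⟨⟨(E', Λ'), hg⟩, homOfLE ⟨hE, hΛ⟩, ?_⟩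
    show trans hE hΛ x = trans hE hΛ y
    rw [← sub_eq_zero, ← map_sub]
    exact h0
  apply Types.FilteredColimit.isColimitOf'
  · intro b
    obtain ⟨E, Λ, hg, hb⟩ := exists_good_mem (A := A) hU (b : B)
    exact ⟨⟨(E, Λ), hg⟩, xv E Λ ⟨b, hb⟩, (toB_xv E Λ ⟨b, hb⟩).symm⟩
  · intro j x y hxy
    exact key j x y hxy

end Main

/-- Main theorem, with the extra information of maps to `B`. -/
theorem exists_filtered_colimit {A B : Type u} [CommRing A] [CommRing B] (φ : A →+* B)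
    (hφ : FlatMor.IsUnivHomeo (Spec.map (CommRingCat.ofHom φ))) :
    ∃ (J : Type u) (_ : SmallCategory J) (_ : IsFiltered J) (F : J ⥤ Under (CommRingCat.of A))
      (c : Limits.Cocone F) (_ : Limits.IsColimit c),
      (∀ j, (F.obj j).hom.hom.FinitePresentation ∧
        FlatMor.IsUnivHomeo (Spec.map (F.obj j).hom) ∧
        ∃ g : (F.obj j).right ⟶ CommRingCat.of B, (F.obj j).hom ≫ g = CommRingCat.ofHom φ) ∧
      Nonempty (c.pt ≅ Under.mk (CommRingCat.ofHom φ)) := by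
  letI := φ.toAlgebra
  have hφ' : FlatMor.IsUnivHomeo (Spec.map (CommRingCat.ofHom (algebraMap A B))) := hφ
  obtain ⟨hc⟩ := isColimit_coc A B hφ'
  have hkerB : RingHom.ker (algebraMap A B) ≤ nilradical A :=
    ((Groth.Agent.Lib.UnivHomeo.isUnivHomeo_iff_alg A B).mp hφ').2.2
  refine ⟨Idx A B, inferInstance, inferInstance, Ffun A B, coc A B, hc, fun j => ⟨?_, ?_, ?_⟩,
    ⟨Iso.refl _⟩⟩
  · show (algebraMap A (Qt j.1.1 j.1.2)).FinitePresentation
    rw [RingHom.finitePresentation_algebraMap]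
    exact Algebra.FinitePresentation.quotient (relIdeal_fg j.1.1 j.1.2)
  · refine isUnivHomeo_of_Wsub_eq_top j.2.wsub_eq_top ?_
    intro a ha
    apply hkerB
    rw [RingHom.mem_ker] at ha ⊢
    rw [← (toB j.1.1 j.1.2).commutes a, ha, map_zero]
  · exact ⟨CommRingCat.ofHom (toB j.1.1 j.1.2).toRingHom,
      CommRingCat.hom_ext (RingHom.ext fun a => (toB j.1.1 j.1.2).commutes a)⟩

end Groth.Agent.Lib.UHColim
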