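import Mathlib
import Groth.Agent.Lib.UnivHomeo23_helper6
set_option autoImplicit false
universe u

/-!
# Factoring morphisms from a universal homeomorphism through finite universal homeomorphisms

Given a universal homeomorphism `ν : T' ⟶ T` and an `S`-morphism `g : T' ⟶ X` to a separated `S`-scheme
locally of finite type, the scheme-theoretic image of the graph `T' ⟶ T ×_S X` is a finite universal
homeomorphism `T₁ ⟶ T` through which `g` factors.  Two such factorizations are dominated by a third,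
the equalizer inside `T₁ ×_T T₂`.
-/

namespace Groth.Agent.Lib.UnivHomeo

open AlgebraicGeometry CategoryTheory CategoryTheory.Limits MorphismProperty

theorem exists_graph_factorization {S X T T' : Scheme.{u}} (fX : X ⟶ S) [LocallyOfFiniteType fX]
    [IsSeparated fX] (fT : T ⟶ S) (ν : T' ⟶ T) (hν : FlatMor.IsUnivHomeo ν) (g : T' ⟶ X)
    (hg : g ≫ fX = ν ≫ fT) :
    ∃ (T₁ : Scheme.{u}) (π : T₁ ⟶ T) (_ : IsFinite π) (_ : FlatMor.IsUnivHomeo π) (g₁ : T₁ ⟶ X)
      (h : T' ⟶ T₁), Surjective h ∧ h ≫ π = ν ∧ g₁ ≫ fX = π ≫ fT ∧ h ≫ g₁ = g := by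
  obtain ⟨hν1, hν2, hν3⟩ := (isUnivHomeo_iff ν).mp hν
  obtain ⟨γ, hγ⟩ : ∃ γ : T' ⟶ pullback fT fX, γ = pullback.lift ν g hg.symm := ⟨_, rfl⟩
  have hγ1 : γ ≫ pullback.fst fT fX = ν := by rw [hγ]; exact pullback.lift_fst _ _ _
  have hγ2 : γ ≫ pullback.snd fT fX = g := by rw [hγ]; exact pullback.lift_snd _ _ _
  haveI : IsSeparated (pullback.fst fT fX) := inferInstance
  haveI : UniversallyClosed (γ ≫ pullback.fst fT fX) := by rw [hγ1]; exact hν1
  haveI : UniversallyClosed γ := UniversallyClosed.of_comp_of_isSeparated γ (pullback.fst fT fX)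
  haveI : QuasiCompact γ := inferInstance
  haveI : UniversallyClosed γ.toImage := inferInstance
  haveI : IsDominant γ.toImage := inferInstance
  haveI hsurj : Surjective γ.toImage :=
    surjective_of_isDominant_of_isClosed_range _ γ.toImage.isClosedMap.isClosed_range
  obtain ⟨π, hπ⟩ : ∃ π : γ.image ⟶ T, π = γ.imageι ≫ pullback.fst fT fX := ⟨_, rfl⟩
  have hhπ : γ.toImage ≫ π = ν := by
    rw [hπ, ← Category.assoc, γ.toImage_imageι, hγ1]
  haveI : UniversallyClosed (γ.toImage ≫ π) := by rw [hhπ]; exact hν1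
  haveI : UniversallyInjective (γ.toImage ≫ π) := by rw [hhπ]; exact hν2
  haveI : Surjective (γ.toImage ≫ π) := by rw [hhπ]; exact hν3
  haveI huc : UniversallyClosed π := UniversallyClosed.of_comp_surjective γ.toImage π
  haveI hui : UniversallyInjective π := universallyInjective_of_comp_of_surjective γ.toImage π
  haveI hsj : Surjective π := Surjective.of_comp γ.toImage π
  haveI : LocallyOfFiniteType π := by rw [hπ]; infer_instance
  haveI : IsSeparated π := by rw [hπ]; infer_instance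
  haveI : IsProper π := {}
  haveI : LocallyQuasiFinite π := LocallyQuasiFinite.of_injective π.injective
  have hfin : IsFinite π := IsFinite.of_isProper_of_locallyQuasiFinite π
  refine ⟨γ.image, π, hfin, (isUnivHomeo_iff π).mpr ⟨huc, hui, hsj⟩,
    γ.imageι ≫ pullback.snd fT fX, γ.toImage, hsurj, hhπ, ?_, ?_⟩
  · rw [hπ, Category.assoc, Category.assoc, pullback.condition]
  · rw [← Category.assoc, γ.toImage_imageι, hγ2]

theorem exists_dominating {X T T' T₁ T₂ : Scheme.{u}} [X.IsSeparated] (ν : T' ⟶ T)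
    (hν : FlatMor.IsUnivHomeo ν) (π₁ : T₁ ⟶ T) (π₂ : T₂ ⟶ T) [IsFinite π₁] [IsFinite π₂]
    (h1 : FlatMor.IsUnivHomeo π₁) (h2 : FlatMor.IsUnivHomeo π₂) (g₁ : T₁ ⟶ X) (g₂ : T₂ ⟶ X)
    (h₁ : T' ⟶ T₁) (h₂ : T' ⟶ T₂) (e₁ : h₁ ≫ π₁ = ν) (e₂ : h₂ ≫ π₂ = ν)
    (e : h₁ ≫ g₁ = h₂ ≫ g₂) :
    ∃ (T₃ : Scheme.{u}) (π₃ : T₃ ⟶ T) (_ : IsFinite π₃) (_ : FlatMor.IsUnivHomeo π₃)
      (a₁ : T₃ ⟶ T₁) (a₂ : T₃ ⟶ T₂) (k : T' ⟶ T₃), k ≫ π₃ = ν ∧
        a₁ ≫ π₁ = π₃ ∧ a₂ ≫ π₂ = π₃ ∧ a₁ ≫ g₁ = a₂ ≫ g₂ := by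
  obtain ⟨hν1, hν2, hν3⟩ := (isUnivHomeo_iff ν).mp hν
  obtain ⟨-, h1i, -⟩ := (isUnivHomeo_iff π₁).mp h1
  obtain ⟨-, h2i, -⟩ := (isUnivHomeo_iff π₂).mp h2
  obtain ⟨u, hu⟩ : ∃ u : pullback π₁ π₂ ⟶ X, u = pullback.fst π₁ π₂ ≫ g₁ := ⟨_, rfl⟩
  obtain ⟨v, hv⟩ : ∃ v : pullback π₁ π₂ ⟶ X, v = pullback.snd π₁ π₂ ≫ g₂ := ⟨_, rfl⟩
  obtain ⟨π₃, hπ₃⟩ : ∃ π₃ : equalizer u v ⟶ T,
      π₃ = equalizer.ι u v ≫ pullback.fst π₁ π₂ ≫ π₁ := ⟨_, rfl⟩
  have hl : pullback.lift h₁ h₂ (e₁.trans e₂.symm) ≫ u =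
      pullback.lift h₁ h₂ (e₁.trans e₂.symm) ≫ v := by
    rw [hu, hv, pullback.lift_fst_assoc, pullback.lift_snd_assoc, e]
  have hk : equalizer.lift (pullback.lift h₁ h₂ (e₁.trans e₂.symm)) hl ≫ π₃ = ν := by
    rw [hπ₃, equalizer.lift_ι_assoc, pullback.lift_fst_assoc, e₁]
  haveI : IsClosedImmersion (equalizer.ι u v) := inferInstance
  haveI : IsFinite (pullback.fst π₁ π₂) := inferInstance
  have hfin : IsFinite π₃ := by rw [hπ₃]; infer_instance
  haveI : UniversallyInjective (pullback.fst π₁ π₂) := MorphismProperty.pullback_fst _ _ h2i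
  haveI : UniversallyInjective (equalizer.ι u v) := inferInstance
  have hinj : UniversallyInjective π₃ := by
    rw [hπ₃]
    exact MorphismProperty.comp_mem _ _ _ inferInstance
      (MorphismProperty.comp_mem _ _ _ inferInstance h1i)
  haveI : Surjective (equalizer.lift (pullback.lift h₁ h₂ (e₁.trans e₂.symm)) hl ≫ π₃) := by
    rw [hk]; exact hν3
  have hsj : Surjective π₃ := Surjective.of_comp
    (equalizer.lift (pullback.lift h₁ h₂ (e₁.trans e₂.symm)) hl) π₃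
  haveI := hfin
  refine ⟨equalizer u v, π₃, hfin, (isUnivHomeo_iff π₃).mpr ⟨inferInstance, hinj, hsj⟩,
    equalizer.ι u v ≫ pullback.fst π₁ π₂, equalizer.ι u v ≫ pullback.snd π₁ π₂,
    equalizer.lift (pullback.lift h₁ h₂ (e₁.trans e₂.symm)) hl, hk, ?_, ?_, ?_⟩
  · rw [hπ₃, Category.assoc]
  · rw [hπ₃, Category.assoc, pullback.condition]
  · rw [Category.assoc, Category.assoc, ← hu, ← hv]
    exact equalizer.condition u v

/-- Residue field isomorphisms descend to the second factor along a surjective first factor. -/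
theorem residueFieldsIso_of_comp_of_surjective {X Y Z : Scheme.{u}} (h : X ⟶ Y) (π : Y ⟶ Z)
    [Surjective h] (H : HTop.ResidueFieldsIso (h ≫ π)) : HTop.ResidueFieldsIso π := by
  intro y
  obtain ⟨x, rfl⟩ := h.surjective y
  have h1 := H x
  rw [Scheme.residueFieldMap_comp] at h1
  have hb := (ConcreteCategory.isIso_iff_bijective _).mp h1
  -- `h.residueFieldMap x` is injective (field hom) and surjective (composite is iso)
  have hbij : Function.Bijective (h.residueFieldMap x).hom := by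
    refine ⟨(h.residueFieldMap x).hom.injective, fun z => ?_⟩
    obtain ⟨w, hw⟩ := hb.2 z
    exact ⟨(π.residueFieldMap (h x)).hom w, hw⟩
  haveI : IsIso (h.residueFieldMap x) :=
    (ConcreteCategory.isIso_iff_bijective (h.residueFieldMap x)).mpr hbij
  exact @IsIso.of_isIso_comp_right _ _ _ _ _ (π.residueFieldMap (h x)) (h.residueFieldMap x)
    inferInstance h1

end Groth.Agent.Lib.UnivHomeo
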