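import Mathlib

/-!
# Universal openness and affine spaces: the ring-level core
-/

set_option autoImplicit false
universe u

open TensorProduct CategoryTheory AlgebraicGeometry

namespace UOH8

section Core

variable {R B T : Type u} [CommRing R] [CommRing B] [CommRing T] [Algebra R B] [Algebra R T]
  {d : ℕ}

/-- The evaluation `R[x] → T` at `c`. -/
noncomputable def ev (c : Fin d → T) : MvPolynomial (Fin d) R →+* T :=
  MvPolynomial.eval₂Hom (algebraMap R T) c

/-- The map `B[x] → T ⊗ B`. -/
noncomputable def beta (c : Fin d → T) : MvPolynomial (Fin d) B →+* T ⊗[R] B :=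
  MvPolynomial.eval₂Hom
    (Algebra.TensorProduct.includeRight : B →ₐ[R] T ⊗[R] B).toRingHom
    (fun i => c i ⊗ₜ[R] (1 : B))

omit [Algebra R B] in
lemma ev_C (c : Fin d → T) (r : R) : ev (R := R) c (MvPolynomial.C r) = algebraMap R T r := by
  simp [ev]

lemma beta_C (c : Fin d → T) (b : B) :
    beta (R := R) c (MvPolynomial.C b) = (1 : T) ⊗ₜ[R] b := by
  simp [beta]

lemma beta_X (c : Fin d → T) (i : Fin d) :
    beta (R := R) (B := B) c (MvPolynomial.X i) = c i ⊗ₜ[R] (1 : B) := by
  simp [beta]

lemma beta_sum (c : Fin d → T) (b : Fin d → B) :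
    beta (R := R) c (∑ i, MvPolynomial.X i * MvPolynomial.C (b i)) = ∑ i, c i ⊗ₜ[R] b i := by
  rw [map_sum]
  refine Finset.sum_congr rfl fun i _ => ?_
  rw [map_mul, beta_X, beta_C, Algebra.TensorProduct.tmul_mul_tmul, mul_one, one_mul]

lemma beta_comp_map (c : Fin d → T) :
    (beta (R := R) (B := B) c).comp (MvPolynomial.map (algebraMap R B)) =
      (algebraMap T (T ⊗[R] B)).comp (ev c) := by
  apply MvPolynomial.ringHom_ext
  · intro r
    simp only [RingHom.comp_apply, MvPolynomial.map_C, beta_C, ev_C]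
    rw [Algebra.TensorProduct.algebraMap_apply, Algebra.algebraMap_self, RingHom.id_apply,
      ← mul_one (algebraMap R T r), ← Algebra.smul_def, TensorProduct.smul_tmul,
      Algebra.smul_def, mul_one]
  · intro i
    simp only [RingHom.comp_apply, MvPolynomial.map_X, beta_X]
    simp [ev, Algebra.TensorProduct.algebraMap_apply]

attribute [local instance] MvPolynomial.algebraMvPolynomial in
/-- The square `R[x] → B[x]`, `R[x] → T`, `T → T ⊗ B`, `B[x] → T ⊗ B` is a pushout. -/
theorem isPushout_ev_beta (c : Fin d → T) :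
    IsPushout (CommRingCat.ofHom (ev (R := R) c))
      (CommRingCat.ofHom (MvPolynomial.map (σ := Fin d) (algebraMap R B)))
      (CommRingCat.ofHom (algebraMap T (T ⊗[R] B)))
      (CommRingCat.ofHom (beta (R := R) (B := B) c)) := by
  have outer := CommRingCat.isPushout_tensorProduct R T B
  have left := CommRingCat.isPushout_of_isPushout R (MvPolynomial (Fin d) R) B
    (MvPolynomial (Fin d) B)
  have e0 : algebraMap (MvPolynomial (Fin d) R) (MvPolynomial (Fin d) B) =
      MvPolynomial.map (algebraMap R B) := rfl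
  rw [e0] at left
  have e1 : CommRingCat.ofHom (algebraMap R T) =
      CommRingCat.ofHom (algebraMap R (MvPolynomial (Fin d) R)) ≫
        CommRingCat.ofHom (ev (R := R) c) := by
    ext r
    show algebraMap R T r = ev c (MvPolynomial.C r)
    rw [ev_C]
  have e2 : CommRingCat.ofHom (Algebra.TensorProduct.includeRight :
        B →ₐ[R] T ⊗[R] B).toRingHom =
      CommRingCat.ofHom (algebraMap B (MvPolynomial (Fin d) B)) ≫
        CommRingCat.ofHom (beta (R := R) (B := B) c) := by
    ext b
    show (1 : T) ⊗ₜ[R] b = beta c (MvPolynomial.C b)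
    rw [beta_C]
  have e3 : CommRingCat.ofHom (Algebra.TensorProduct.includeLeftRingHom :
        T →+* T ⊗[R] B) = CommRingCat.ofHom (algebraMap T (T ⊗[R] B)) := rfl
  rw [e1, e2, e3] at outer
  refine IsPushout.of_left outer ?_ left
  rw [← CommRingCat.ofHom_comp, ← CommRingCat.ofHom_comp]
  congr 1
  exact (beta_comp_map c).symm

end Core

end UOH8

namespace UOH8

section Points

/-- Points of the spectrum of a pushout of rings surject onto pairs of compatible points. -/
theorem exists_prime_of_isPushout {A B' C' P : CommRingCat.{u}} (f : A ⟶ B') (g : A ⟶ C')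
    (inl : B' ⟶ P) (inr : C' ⟶ P) (h : IsPushout f g inl inr)
    (p : PrimeSpectrum B') (q : PrimeSpectrum C')
    (hpq : PrimeSpectrum.comap f.hom p = PrimeSpectrum.comap g.hom q) :
    ∃ z : PrimeSpectrum P, PrimeSpectrum.comap inl.hom z = p ∧
      PrimeSpectrum.comap inr.hom z = q := by
  have hpb := isPullback_SpecMap_of_isPushout f g inl inr h
  obtain ⟨w, hw1, hw2⟩ := Scheme.Pullback.exists_preimage_pullback
    (f := Spec.map f) (g := Spec.map g) p q hpq
  refine ⟨hpb.isoPullback.inv w, ?_, ?_⟩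
  · have := congrArg (fun φ => φ.base w) hpb.isoPullback_inv_fst
    exact this.trans hw1
  · have := congrArg (fun φ => φ.base w) hpb.isoPullback_inv_snd
    exact this.trans hw2

end Points

section Image

variable {R B T : Type u} [CommRing R] [CommRing B] [CommRing T] [Algebra R B] [Algebra R T]
  {d : ℕ}

theorem image_basicOpen_tensor (b : Fin d → B) (c : Fin d → T) :
    PrimeSpectrum.comap (algebraMap T (T ⊗[R] B)) ''
        (PrimeSpectrum.basicOpen (∑ i, c i ⊗ₜ[R] b i) : Set (PrimeSpectrum (T ⊗[R] B))) =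
      PrimeSpectrum.comap (ev (R := R) c) ⁻¹'
        (PrimeSpectrum.comap (MvPolynomial.map (σ := Fin d) (algebraMap R B)) ''
          (PrimeSpectrum.basicOpen (∑ i, MvPolynomial.X i * MvPolynomial.C (b i)) :
            Set (PrimeSpectrum (MvPolynomial (Fin d) B)))) := by
  ext p
  constructor
  · rintro ⟨q, hq, rfl⟩
    refine ⟨PrimeSpectrum.comap (beta (R := R) (B := B) c) q, ?_, ?_⟩
    · show beta (R := R) (B := B) c _ ∉ q.asIdeal
      rw [beta_sum]
      exact hq
    · rw [← PrimeSpectrum.comap_comp_apply, ← PrimeSpectrum.comap_comp_apply, beta_comp_map]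
  · rintro ⟨Q, hQ, hQp⟩
    obtain ⟨z, hz1, hz2⟩ := exists_prime_of_isPushout _ _ _ _ (isPushout_ev_beta (R := R)
      (B := B) c) p Q hQp.symm
    refine ⟨z, ?_, hz1⟩
    show (∑ i, c i ⊗ₜ[R] b i) ∉ z.asIdeal
    rw [← beta_sum]
    have : Q.asIdeal = (PrimeSpectrum.comap (beta (R := R) (B := B) c) z).asIdeal := by
      rw [← hz2]; rfl
    intro hmem
    apply hQ
    show _ ∈ Q.asIdeal
    rw [this]
    exact hmem

/-- If the image of the generic basic open `D(∑ xᵢ bᵢ)` in `Spec R[x]` is open, then for every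
`R`-algebra `T` and every `c`, the image of `D(∑ cᵢ ⊗ bᵢ)` in `Spec T` is open. -/
theorem isOpen_image_basicOpen_tensor (b : Fin d → B)
    (H : IsOpen (PrimeSpectrum.comap (MvPolynomial.map (σ := Fin d) (algebraMap R B)) ''
      (PrimeSpectrum.basicOpen (∑ i, MvPolynomial.X i * MvPolynomial.C (b i)) :
        Set (PrimeSpectrum (MvPolynomial (Fin d) B)))))
    (c : Fin d → T) :
    IsOpen (PrimeSpectrum.comap (algebraMap T (T ⊗[R] B)) ''
      (PrimeSpectrum.basicOpen (∑ i, c i ⊗ₜ[R] b i) : Set (PrimeSpectrum (T ⊗[R] B)))) := by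
  rw [image_basicOpen_tensor]
  exact H.preimage (PrimeSpectrum.continuous_comap (ev (R := R) c))

end Image

end UOH8

namespace UOH8

section Crit

open MorphismProperty Limits

variable {R B : Type u} [CommRing R] [CommRing B] [Algebra R B]

/-- Ring-level criterion for universal openness of `Spec B → Spec R`. -/
theorem universallyOpen_Spec_of_forall
    (H : ∀ (T : Type u) [CommRing T] [Algebra R T],
      IsOpenMap (PrimeSpectrum.comap (algebraMap T (T ⊗[R] B)))) :
    UniversallyOpen (Spec.map (CommRingCat.ofHom (algebraMap R B))) := by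
  refine ⟨universally_mk' _ _ fun {T} g _ ↦ ?_⟩
  wlog hT : ∃ R', T = Spec R' generalizing T
  · refine (IsZariskiLocalAtTarget.iff_of_openCover (P := topologically @IsOpenMap)
      T.affineCover).mpr fun i ↦ ?_
    refine (MorphismProperty.cancel_left_of_respectsIso _
      ((pullbackRightPullbackFstIso ..).inv ≫ (pullbackSymmetry ..).hom) _).mp ?_
    simpa [Scheme.Cover.pullbackHom] using! this _ _ ⟨_, rfl⟩
  obtain ⟨R', rfl⟩ := hT
  obtain ⟨ψ, rfl⟩ := Spec.map_surjective g
  algebraize [ψ.hom]
  refine (MorphismProperty.cancel_left_of_respectsIso _ (pullbackSpecIso R R' B).inv _).mp ?_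
  convert_to! topologically _ (Spec.map <| CommRingCat.ofHom (algebraMap R' (TensorProduct R R' B)))
  · exact pullbackSpecIso_inv_fst ..
  exact H R'

omit [Algebra R B] in
theorem exists_sum_tmul {T : Type u} [CommRing T] [Algebra R T] [Algebra R B] (x : T ⊗[R] B) :
    ∃ (d : ℕ) (c : Fin d → T) (b : Fin d → B), 0 < d ∧ x = ∑ i, c i ⊗ₜ[R] b i := by
  induction x using TensorProduct.induction_on with
  | zero => exact ⟨1, fun _ => 0, fun _ => 0, Nat.one_pos, by simp⟩
  | tmul t y => exact ⟨1, fun _ => t, fun _ => y, Nat.one_pos, by simp⟩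
  | add x y hx hy =>
    obtain ⟨d₁, c₁, b₁, h₁, rfl⟩ := hx
    obtain ⟨d₂, c₂, b₂, h₂, rfl⟩ := hy
    refine ⟨d₁ + d₂, Fin.append c₁ c₂, Fin.append b₁ b₂, by omega, ?_⟩
    rw [Fin.sum_univ_add]
    simp

theorem universallyOpen_Spec_of_basicOpen
    (H : ∀ (d : ℕ) (b : Fin d → B), 0 < d →
      IsOpen (PrimeSpectrum.comap (MvPolynomial.map (σ := Fin d) (algebraMap R B)) ''
        (PrimeSpectrum.basicOpen (∑ i, MvPolynomial.X i * MvPolynomial.C (b i)) :
          Set (PrimeSpectrum (MvPolynomial (Fin d) B))))) :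
    UniversallyOpen (Spec.map (CommRingCat.ofHom (algebraMap R B))) := by
  apply universallyOpen_Spec_of_forall
  intro T _ _
  rw [PrimeSpectrum.isTopologicalBasis_basic_opens.isOpenMap_iff]
  rintro _ ⟨x, rfl⟩
  obtain ⟨d, c, b, hd, rfl⟩ := exists_sum_tmul (R := R) (B := B) x
  exact isOpen_image_basicOpen_tensor b (H d b hd) c

/-- Variant with a fixed spanning family. -/
theorem universallyOpen_Spec_of_span {d : ℕ} (b : Fin d → B)
    (hb : Submodule.span R (Set.range b) = ⊤)
    (H : IsOpen (PrimeSpectrum.comap (MvPolynomial.map (σ := Fin d) (algebraMap R B)) ''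
        (PrimeSpectrum.basicOpen (∑ i, MvPolynomial.X i * MvPolynomial.C (b i)) :
          Set (PrimeSpectrum (MvPolynomial (Fin d) B))))) :
    UniversallyOpen (Spec.map (CommRingCat.ofHom (algebraMap R B))) := by
  apply universallyOpen_Spec_of_forall
  intro T _ _
  rw [PrimeSpectrum.isTopologicalBasis_basic_opens.isOpenMap_iff]
  rintro _ ⟨x, rfl⟩
  have key : ∀ x : T ⊗[R] B, ∃ c : Fin d → T, x = ∑ i, c i ⊗ₜ[R] b i := by
    intro x
    induction x using TensorProduct.induction_on with
    | zero => exact ⟨fun _ => 0, by simp⟩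
    | tmul t y =>
      have hy : y ∈ Submodule.span R (Set.range b) := by rw [hb]; trivial
      obtain ⟨r, rfl⟩ := (Submodule.mem_span_range_iff_exists_fun R).mp hy
      refine ⟨fun i => r i • t, ?_⟩
      rw [TensorProduct.tmul_sum]
      refine Finset.sum_congr rfl fun i _ => ?_
      rw [TensorProduct.tmul_smul, TensorProduct.smul_tmul']
    | add x y hx hy =>
      obtain ⟨c₁, rfl⟩ := hx
      obtain ⟨c₂, rfl⟩ := hy
      refine ⟨fun i => c₁ i + c₂ i, ?_⟩
      rw [← Finset.sum_add_distrib]
      refine Finset.sum_congr rfl fun i _ => ?_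
      rw [TensorProduct.add_tmul]
  obtain ⟨c, rfl⟩ := key x
  exact isOpen_image_basicOpen_tensor b H c

end Crit

end UOH8
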