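import Groth.Agent.Lib.UO1_helper8

/-!
# Universal openness of `Spec B → Spec A` for a module-finite-type `B`, via the generic element
-/

set_option autoImplicit false
universe u

open TensorProduct CategoryTheory AlgebraicGeometry

namespace UOH8

section

variable {A B : Type u} [CommRing A] [CommRing B] [Algebra A B]

attribute [local instance] MvPolynomial.algebraMvPolynomial in
/-- `Spec B[x] → Spec A[x]` is a base change of `Spec B → Spec A`. -/
theorem isPullback_Spec_mvPolynomial (d : ℕ) :
    IsPullback
      (Spec.map (CommRingCat.ofHom (algebraMap B (MvPolynomial (Fin d) B))))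
      (Spec.map (CommRingCat.ofHom (MvPolynomial.map (σ := Fin d) (algebraMap A B))))
      (Spec.map (CommRingCat.ofHom (algebraMap A B)))
      (Spec.map (CommRingCat.ofHom (algebraMap A (MvPolynomial (Fin d) A)))) := by
  have h := CommRingCat.isPushout_of_isPushout A B (MvPolynomial (Fin d) A)
    (MvPolynomial (Fin d) B)
  have e0 : algebraMap (MvPolynomial (Fin d) A) (MvPolynomial (Fin d) B) =
      MvPolynomial.map (algebraMap A B) := rfl
  rw [e0] at h
  exact isPullback_SpecMap_of_isPushout _ _ _ _ h

theorem isOpenMap_comap_map_of_universallyOpen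
    [UniversallyOpen (Spec.map (CommRingCat.ofHom (algebraMap A B)))] (d : ℕ) :
    IsOpenMap (PrimeSpectrum.comap (MvPolynomial.map (σ := Fin d) (algebraMap A B))) := by
  haveI : UniversallyOpen
      (Spec.map (CommRingCat.ofHom (MvPolynomial.map (σ := Fin d) (algebraMap A B)))) :=
    MorphismProperty.of_isPullback (isPullback_Spec_mvPolynomial (A := A) (B := B) d) inferInstance
  exact (Spec.map (CommRingCat.ofHom (MvPolynomial.map (σ := Fin d) (algebraMap A B)))).isOpenMap

theorem universallyOpen_iff_of_span {d : ℕ} (b : Fin d → B)
    (hb : Submodule.span A (Set.range b) = ⊤) :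
    UniversallyOpen (Spec.map (CommRingCat.ofHom (algebraMap A B))) ↔
      IsOpen (PrimeSpectrum.comap (MvPolynomial.map (σ := Fin d) (algebraMap A B)) ''
        (PrimeSpectrum.basicOpen (∑ i : Fin d, MvPolynomial.X i * MvPolynomial.C (b i)) :
          Set (PrimeSpectrum (MvPolynomial (Fin d) B)))) := by
  constructor
  · intro h
    exact isOpenMap_comap_map_of_universallyOpen d _ (PrimeSpectrum.basicOpen _).isOpen
  · intro H
    exact universallyOpen_Spec_of_span b hb H

end

end UOH8
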