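import Groth.Agent.Lib.UO1_helper8

/-!
# Universal openness and affine spaces: the ring-level core
-/

set_option autoImplicit false
universe u

open TensorProduct CategoryTheory AlgebraicGeometry

namespace UOH8.Gen

section Core

variable {R B T : Type u} [CommRing R] [CommRing B] [CommRing T] [Algebra R B] [Algebra R T]
  {σ : Type u} [Fintype σ]

/-- The evaluation `R[x] → T` at `c`. -/
noncomputable def ev (c : σ → T) : MvPolynomial (σ) R →+* T :=
  MvPolynomial.eval₂Hom (algebraMap R T) c

/-- The map `B[x] → T ⊗ B`. -/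
noncomputable def beta (c : σ → T) : MvPolynomial (σ) B →+* T ⊗[R] B :=
  MvPolynomial.eval₂Hom
    (Algebra.TensorProduct.includeRight : B →ₐ[R] T ⊗[R] B).toRingHom
    (fun i => c i ⊗ₜ[R] (1 : B))

omit [Algebra R B] in
lemma ev_C (c : σ → T) (r : R) : ev (R := R) c (MvPolynomial.C r) = algebraMap R T r := by
  simp [ev]

lemma beta_C (c : σ → T) (b : B) :
    beta (R := R) c (MvPolynomial.C b) = (1 : T) ⊗ₜ[R] b := by
  simp [beta]

lemma beta_X (c : σ → T) (i : σ) :
    beta (R := R) (B := B) c (MvPolynomial.X i) = c i ⊗ₜ[R] (1 : B) := by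
  simp [beta]

lemma beta_sum (c : σ → T) (b : σ → B) :
    beta (R := R) c (∑ i, MvPolynomial.X i * MvPolynomial.C (b i)) = ∑ i, c i ⊗ₜ[R] b i := by
  rw [map_sum]
  refine Finset.sum_congr rfl fun i _ => ?_
  rw [map_mul, beta_X, beta_C, Algebra.TensorProduct.tmul_mul_tmul, mul_one, one_mul]

lemma beta_comp_map (c : σ → T) :
    (beta (R := R) (B := B) c).comp (MvPolynomial.map (algebraMap R B)) =
      (algebraMap T (T ⊗[R] B)).comp (ev c) := by
  apply MvPolynomial.ringHom_ext
  · intro r
    simp only [RingHom.comp_apply, MvPolynomial.map_C, beta_C, ev_C]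
    rw [Algebra.TensorProduct.algebraMap_apply, Algebra.algebraMap_self, RingHom.id_apply,
      ← mul_one (algebraMap R T r), ← Algebra.smul_def, TensorProduct.smul_tmul,
      Algebra.smul_def, mul_one]
  · intro i
    simp only [RingHom.comp_apply, MvPolynomial.map_X, beta_X]
    simp [ev, Algebra.TensorProduct.algebraMap_apply]

attribute [local instance] MvPolynomial.algebraMvPolynomial in
/-- The square `R[x] → B[x]`, `R[x] → T`, `T → T ⊗ B`, `B[x] → T ⊗ B` is a pushout. -/
theorem isPushout_ev_beta (c : σ → T) :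
    IsPushout (CommRingCat.ofHom (ev (R := R) c))
      (CommRingCat.ofHom (MvPolynomial.map (σ := σ) (algebraMap R B)))
      (CommRingCat.ofHom (algebraMap T (T ⊗[R] B)))
      (CommRingCat.ofHom (beta (R := R) (B := B) c)) := by
  have outer := CommRingCat.isPushout_tensorProduct R T B
  have left := CommRingCat.isPushout_of_isPushout R (MvPolynomial (σ) R) B
    (MvPolynomial (σ) B)
  have e0 : algebraMap (MvPolynomial (σ) R) (MvPolynomial (σ) B) =
      MvPolynomial.map (algebraMap R B) := rfl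
  rw [e0] at left
  have e1 : CommRingCat.ofHom (algebraMap R T) =
      CommRingCat.ofHom (algebraMap R (MvPolynomial (σ) R)) ≫
        CommRingCat.ofHom (ev (R := R) c) := by
    ext r
    show algebraMap R T r = ev c (MvPolynomial.C r)
    rw [ev_C]
  have e2 : CommRingCat.ofHom (Algebra.TensorProduct.includeRight :
        B →ₐ[R] T ⊗[R] B).toRingHom =
      CommRingCat.ofHom (algebraMap B (MvPolynomial (σ) B)) ≫
        CommRingCat.ofHom (beta (R := R) (B := B) c) := by
    ext b
    show (1 : T) ⊗ₜ[R] b = beta c (MvPolynomial.C b)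
    rw [beta_C]
  have e3 : CommRingCat.ofHom (Algebra.TensorProduct.includeLeftRingHom :
        T →+* T ⊗[R] B) = CommRingCat.ofHom (algebraMap T (T ⊗[R] B)) := rfl
  rw [e1, e2, e3] at outer
  refine IsPushout.of_left outer ?_ left
  rw [← CommRingCat.ofHom_comp, ← CommRingCat.ofHom_comp]
  congr 1
  exact (beta_comp_map c).symm

end Core

end UOH8.Gen

namespace UOH8.Gen


section Image

variable {R B T : Type u} [CommRing R] [CommRing B] [CommRing T] [Algebra R B] [Algebra R T]
  {σ : Type u} [Fintype σ]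

theorem image_basicOpen_tensor (b : σ → B) (c : σ → T) :
    PrimeSpectrum.comap (algebraMap T (T ⊗[R] B)) ''
        (PrimeSpectrum.basicOpen (∑ i, c i ⊗ₜ[R] b i) : Set (PrimeSpectrum (T ⊗[R] B))) =
      PrimeSpectrum.comap (ev (R := R) c) ⁻¹'
        (PrimeSpectrum.comap (MvPolynomial.map (σ := σ) (algebraMap R B)) ''
          (PrimeSpectrum.basicOpen (∑ i, MvPolynomial.X i * MvPolynomial.C (b i)) :
            Set (PrimeSpectrum (MvPolynomial (σ) B)))) := by
  ext p
  constructor
  · rintro ⟨q, hq, rfl⟩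
    refine ⟨PrimeSpectrum.comap (beta (R := R) (B := B) c) q, ?_, ?_⟩
    · show beta (R := R) (B := B) c _ ∉ q.asIdeal
      rw [beta_sum]
      exact hq
    · rw [← PrimeSpectrum.comap_comp_apply, ← PrimeSpectrum.comap_comp_apply, beta_comp_map]
  · rintro ⟨Q, hQ, hQp⟩
    obtain ⟨z, hz1, hz2⟩ := UOH8.exists_prime_of_isPushout _ _ _ _ (isPushout_ev_beta (R := R)
      (B := B) c) p Q hQp.symm
    refine ⟨z, ?_, hz1⟩
    show (∑ i, c i ⊗ₜ[R] b i) ∉ z.asIdeal
    rw [← beta_sum]
    have : Q.asIdeal = (PrimeSpectrum.comap (beta (R := R) (B := B) c) z).asIdeal := by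
      rw [← hz2]; rfl
    intro hmem
    apply hQ
    show _ ∈ Q.asIdeal
    rw [this]
    exact hmem

/-- If the image of the generic basic open `D(∑ xᵢ bᵢ)` in `Spec R[x]` is open, then for every
`R`-algebra `T` and every `c`, the image of `D(∑ cᵢ ⊗ bᵢ)` in `Spec T` is open. -/
theorem isOpen_image_basicOpen_tensor (b : σ → B)
    (H : IsOpen (PrimeSpectrum.comap (MvPolynomial.map (σ := σ) (algebraMap R B)) ''
      (PrimeSpectrum.basicOpen (∑ i, MvPolynomial.X i * MvPolynomial.C (b i)) :
        Set (PrimeSpectrum (MvPolynomial (σ) B)))))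
    (c : σ → T) :
    IsOpen (PrimeSpectrum.comap (algebraMap T (T ⊗[R] B)) ''
      (PrimeSpectrum.basicOpen (∑ i, c i ⊗ₜ[R] b i) : Set (PrimeSpectrum (T ⊗[R] B)))) := by
  rw [image_basicOpen_tensor]
  exact H.preimage (PrimeSpectrum.continuous_comap (ev (R := R) c))

end Image

end UOH8.Gen

namespace UOH8

theorem universallyOpen_Spec_of_basicOpen_ulift {R B : Type u} [CommRing R] [CommRing B]
    [Algebra R B]
    (H : ∀ (d : ℕ) (b : ULift.{u} (Fin d) → B), 0 < d →
      IsOpen (PrimeSpectrum.comap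
        (MvPolynomial.map (σ := ULift.{u} (Fin d)) (algebraMap R B)) ''
        (PrimeSpectrum.basicOpen (∑ i, MvPolynomial.X i * MvPolynomial.C (b i)) :
          Set (PrimeSpectrum (MvPolynomial (ULift.{u} (Fin d)) B))))) :
    UniversallyOpen (Spec.map (CommRingCat.ofHom (algebraMap R B))) := by
  apply universallyOpen_Spec_of_forall
  intro T _ _
  rw [PrimeSpectrum.isTopologicalBasis_basic_opens.isOpenMap_iff]
  rintro _ ⟨x, rfl⟩
  obtain ⟨d, c, b, hd, rfl⟩ := exists_sum_tmul (R := R) (B := B) x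
  have e : ∑ i, c i ⊗ₜ[R] b i = ∑ i : ULift.{u} (Fin d), c i.down ⊗ₜ[R] b i.down :=
    (Equiv.sum_comp Equiv.ulift (fun i => c i ⊗ₜ[R] b i)).symm
  rw [e]
  exact Gen.isOpen_image_basicOpen_tensor (fun i : ULift.{u} (Fin d) => b i.down)
    (H d _ hd) (fun i => c i.down)

end UOH8
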