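import Mathlib
import Groth.Prelude.Def_EGA43
import Groth.Prelude.Def_Flat
import Groth.Agent.Lib.EquiComp_helper8
import Groth.Agent.Lib.GenDim7_helper8

/-! EGA IV 14.3.13-type: universally open at a maximal point of a fibre, b') ⇒ b). -/

universe u
open AlgebraicGeometry CategoryTheory TopologicalSpace Limits Topology

namespace Groth.Agent.Lib.UOMaxH8

variable {X Y : Scheme.{u}} (f : X ⟶ Y)

/-- fibre-maximal point: `fibreDimAt` is the transcendence degree of the residue field. -/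
theorem fibreDimAt_of_fibreMax [LocallyOfFiniteType f] (x : X)
    (hmax : ∀ x'' : X, f.base x'' = f.base x → x'' ⤳ x → x'' = x) :
    FlatMor.fibreDimAt f x = ((Cardinal.toENat (Dual3.resTrdeg f x) : ℕ∞) : WithBot ℕ∞) := by
  rw [FibCohH8.fibreDimAt_eq f x, OpenAtEqH8.fibCoh_eq_zero_of_isMax f x hmax]; simp

theorem lt_succ_le (c : WithBot ℕ∞) (m : ℕ) (h : c < ((m + 1 : ℕ) : WithBot ℕ∞)) :
    c ≤ ((m : ℕ) : WithBot ℕ∞) := by
  have h' : c < (m : WithBot ℕ∞) + 1 := by exact_mod_cast h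
  exact ENat.WithBot.lt_add_one_iff.mp h'

/-- a fibre-maximal point over a maximal point of the base is a maximal point. -/
theorem isMax_of_fibreMax (ζ : X) (hηmax : ∀ b : Y, b ⤳ f.base ζ → b = f.base ζ)
    (hζ : ∀ x'' : X, f.base x'' = f.base ζ → x'' ⤳ ζ → x'' = ζ) :
    ∀ b : X, b ⤳ ζ → b = ζ := by
  intro b hb
  exact hζ b (hηmax _ (hb.map f.continuous)) hb

/-- the key step: a maximal point of `X` over `η` specializing to `x` with large residue
transcendence degree. -/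
theorem exists_max_specializes [LocallyOfFiniteType f] (x : X) (η : Y) (hη : η ⤳ f.base x)
    (hηmax : ∀ b : Y, b ⤳ η → b = η)
    (Hb : ∀ U : X.Opens, x ∈ U →
      FlatMor.fibreDimAt f x ≤ topologicalKrullDim ↥((U : Set X) ∩ f.base ⁻¹' {η})) :
    ∃ z : X, (∀ b : X, b ⤳ z → b = z) ∧ z ⤳ x ∧ f.base z = η ∧
      FlatMor.fibreDimAt f x ≤ ((Cardinal.toENat (Dual3.resTrdeg f z) : ℕ∞) : WithBot ℕ∞) := by
  -- affine opens
  obtain ⟨V, hV, hfxV⟩ : ∃ V : Y.Opens, IsAffineOpen V ∧ f x ∈ V := by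
    obtain ⟨_, ⟨V, hV, rfl⟩, hfxV, -⟩ :=
      Y.isBasis_affineOpens.exists_subset_of_mem_open (Set.mem_univ (f x)) isOpen_univ
    exact ⟨V, hV, hfxV⟩
  obtain ⟨U₀, hU₀, hxU₀, hU₀V⟩ : ∃ U₀ : X.Opens, IsAffineOpen U₀ ∧ x ∈ U₀ ∧ U₀ ≤ f ⁻¹ᵁ V := by
    obtain ⟨_, ⟨U₁, hU₁, rfl⟩, hxU₁, hU₁sub⟩ :=
      X.isBasis_affineOpens.exists_subset_of_mem_open
        (show x ∈ ((f ⁻¹ᵁ V : X.Opens) : Set X) from hfxV) (f ⁻¹ᵁ V).2
    exact ⟨U₁, hU₁, hxU₁, hU₁sub⟩
  haveI : IsAffine (U₀ : Scheme.{u}) := hU₀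
  haveI : IsAffine (V : Scheme.{u}) := hV
  have hηV : η ∈ V := hη.mem_open V.2 hfxV
  set f₀ : (U₀ : Scheme.{u}) ⟶ (V : Scheme.{u}) := f.resLE V U₀ hU₀V with hf₀
  have hf₀ι : f₀ ≫ V.ι = U₀.ι ≫ f := Scheme.Hom.resLE_comp_ι f hU₀V
  haveI : LocallyOfFiniteType (f₀ ≫ V.ι) := by rw [hf₀ι]; infer_instance
  haveI : LocallyOfFiniteType f₀ := locallyOfFiniteType_of_comp f₀ V.ι
  let η' : (V : Scheme.{u}) := ⟨η, hηV⟩
  haveI : NoetherianSpace ↥(f₀.fiber η') := GenDimH8.noetherianSpace_fiber f₀ η'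
  set ιT : f₀.fiber η' ⟶ X := f₀.fiberι η' ≫ U₀.ι with hιT
  have hpt : ∀ u : (U₀ : Scheme.{u}), f (U₀.ι u) = V.ι (f₀ u) := fun u =>
    (congrArg (fun k : (U₀ : Scheme.{u}) ⟶ Y => k u) hf₀ι).symm
  have hfι : ∀ t : f₀.fiber η', f (ιT t) = η := by
    intro t
    have h1 : ιT t = U₀.ι (f₀.fiberι η' t) := by rw [hιT, Scheme.Hom.comp_apply]
    rw [h1, hpt, Groth.Agent.FibRes2H8.fiberι_mem f₀ η' t]
    rfl
  have hιU₀ : ∀ t : f₀.fiber η', ιT t ∈ U₀ := by
    intro t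
    have h1 : ιT t = U₀.ι (f₀.fiberι η' t) := by rw [hιT, Scheme.Hom.comp_apply]
    rw [h1]
    exact (f₀.fiberι η' t).2
  have hrange : ∀ a : X, a ∈ U₀ → f a = η → ∃ t : f₀.fiber η', ιT t = a := by
    intro a haU ha
    have h2 : f₀ ⟨a, haU⟩ = η' := by
      apply V.ι.isEmbedding.injective
      have := hpt ⟨a, haU⟩
      rw [← this]
      exact ha
    have h3 : (⟨a, haU⟩ : (U₀ : Scheme.{u})) ∈ Set.range (f₀.fiberι η') := by
      rw [Scheme.Hom.range_fiberι]; exact h2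
    obtain ⟨t, ht⟩ := h3
    refine ⟨t, ?_⟩
    rw [hιT, Scheme.Hom.comp_apply, ht]
    rfl
  have hιspec : ∀ t t' : f₀.fiber η', t ⤳ t' ↔ ιT t ⤳ ιT t' := by
    intro t t'
    have hemb : IsEmbedding ιT := by
      rw [hιT]
      exact U₀.ι.isEmbedding.comp (f₀.fiberι η').isEmbedding
    exact (hemb.isInducing.specializes_iff).symm
  -- the finitely many bad components
  have hfin : (irreducibleComponents ↥(f₀.fiber η')).Finite :=
    NoetherianSpace.finite_irreducibleComponents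
  set S : Set (Set ↥(f₀.fiber η')) :=
    {C | C ∈ irreducibleComponents ↥(f₀.fiber η') ∧ x ∉ closure (ιT '' C)} with hS
  have hSfin : S.Finite := hfin.subset (fun C hC => hC.1)
  set K : Set X := ⋃ C ∈ S, closure (ιT '' C) with hK
  have hKcl : IsClosed K := hSfin.isClosed_biUnion (fun C _ => isClosed_closure)
  have hxK : x ∉ K := by
    rw [hK]
    simp only [Set.mem_iUnion, not_exists]
    intro C hC
    exact hC.2
  let U' : X.Opens := U₀ ⊓ ⟨Kᶜ, hKcl.isOpen_compl⟩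
  have hxU' : x ∈ U' := ⟨hxU₀, hxK⟩
  -- fibre-maximal points of `U'` over `η` specialize to `x`
  have hclaim : ∀ ζ : X, ζ ∈ U' → f ζ = η →
      (∀ x'' : X, f.base x'' = f.base ζ → x'' ⤳ ζ → x'' = ζ) → ζ ⤳ x := by
    intro ζ hζU hζη hζmax
    obtain ⟨t, ht⟩ := hrange ζ hζU.1 hζη
    have hC : irreducibleComponent t ∈ irreducibleComponents ↥(f₀.fiber η') :=
      irreducibleComponent_mem_irreducibleComponents t
    have htC : t ∈ irreducibleComponent t := mem_irreducibleComponent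
    have hCS : irreducibleComponent t ∉ S := by
      intro hCS
      apply hζU.2
      rw [hK]
      simp only [Set.mem_iUnion]
      refine ⟨irreducibleComponent t, hCS, subset_closure ⟨t, htC, ht⟩⟩
    have hxC : x ∈ closure (ιT '' irreducibleComponent t) := by
      by_contra hcon
      exact hCS ⟨hC, hcon⟩
    obtain ⟨ζ', hζ'⟩ := QuasiSober.sober hC.1 (isClosed_of_mem_irreducibleComponents _ hC)
    have hζ't : ζ' ⤳ t := hζ'.specializes htC
    have h1 : ιT ζ' ⤳ ζ := by rw [← ht]; exact (hιspec _ _).mp hζ't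
    have h2 : ιT ζ' = ζ := hζmax _ (by rw [hfι, hζη]) h1
    rw [specializes_iff_mem_closure]
    have h3 : ιT '' irreducibleComponent t ⊆ closure {ζ} := by
      rw [← hζ'.def, ← h2]
      exact image_closure_subset_closure_image ιT.continuous |>.trans (by rw [Set.image_singleton])
    exact closure_minimal h3 isClosed_closure hxC
  -- dimension count
  obtain ⟨n, hn⟩ := EquidimIrrH8.exists_nat_fibreDimAt f x
  have hd := Hb U' hxU'
  rw [hn] at hd ⊢
  by_contra hcon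
  push Not at hcon
  have hT' : topologicalKrullDim ↥((U'.ι ≫ f).fiber η) =
      topologicalKrullDim ↥((U' : Set X) ∩ f.base ⁻¹' {η}) := by
    rw [GenDimH8.topDim_fiber_comp_embedding U'.ι f U'.ι.isEmbedding η, Scheme.Opens.range_ι,
      Set.inter_comm]
  rw [← hT'] at hd
  have hloc : ∀ t : ↥((U'.ι ≫ f).fiber η),
      FlatMor.localDim ↥((U'.ι ≫ f).fiber η) t < ((n : ℕ) : WithBot ℕ∞) := by
    intro t
    set a : X := U'.ι ((U'.ι ≫ f).fiberι η t) with ha
    have haU' : a ∈ U' := ((U'.ι ≫ f).fiberι η t).2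
    have haη : f a = η := by
      have := Groth.Agent.FibRes2H8.fiberι_mem (U'.ι ≫ f) η t
      rwa [Scheme.Hom.comp_apply] at this
    rw [FieldExtH8.localDim_fiber_eq_fibreDimAt (U'.ι ≫ f) η t _ rfl,
      OpenAtEqH8.fibreDimAt_restrict]
    obtain ⟨ζ, hζf, hζa, hζmax, hζdim⟩ := CompDimsH8.exists_fibre_max_eq f a
    have hζU' : ζ ∈ U' := hζa.mem_open U'.2 haU'
    have hζη : f ζ = η := hζf.trans haη
    have hζmax' : ∀ x'' : X, f.base x'' = f.base ζ → x'' ⤳ ζ → x'' = ζ :=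
      fun x'' h1 h2 => hζmax x'' (h1.trans hζf) h2
    have hζx := hclaim ζ hζU' hζη hζmax'
    have hζmaxX : ∀ b : X, b ⤳ ζ → b = ζ :=
      isMax_of_fibreMax f ζ (by rw [hζη]; exact hηmax) hζmax'
    have := hcon ζ hζmaxX hζx hζη
    rw [← hζdim, FibGenH8.fibreDimAt_of_isMax f ζ hζmaxX]
    exact this
  rcases Nat.eq_zero_or_pos n with h0 | hpos
  · subst h0
    by_cases hemp : IsEmpty ↥((U'.ι ≫ f).fiber η)
    · rw [TopDimLocH8.topDim_eq_bot_of_isEmpty] at hd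
      exact absurd hd (by simp)
    · rw [not_isEmpty_iff] at hemp
      obtain ⟨t⟩ := hemp
      have h1 := hloc t
      have h2 : FlatMor.localDim ↥((U'.ι ≫ f).fiber η) t = ⊥ := by
        have : FlatMor.localDim ↥((U'.ι ≫ f).fiber η) t < (0 : WithBot ℕ∞) := by exact_mod_cast h1
        induction hc : FlatMor.localDim ↥((U'.ι ≫ f).fiber η) t with
        | bot => rfl
        | coe c => rw [hc] at this; exact absurd this (by simp)
      have h3 := TopDimLocH8.coheight_le_localDim ((U'.ι ≫ f).fiber η) t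
      rw [h2] at h3
      exact absurd h3 (by simp)
  · obtain ⟨m, rfl⟩ : ∃ m, n = m + 1 := ⟨n - 1, by omega⟩
    have h1 : topologicalKrullDim ↥((U'.ι ≫ f).fiber η) ≤ ((m : ℕ) : WithBot ℕ∞) := by
      rw [TopDimLocH8.topDim_le_iff_forall_localDim]
      intro t
      exact lt_succ_le _ m (hloc t)
    have h2 := hd.trans h1
    have h3 : ((m + 1 : ℕ) : ℕ∞) ≤ (m : ℕ∞) := by exact_mod_cast h2
    have h4 : (m + 1 : ℕ) ≤ m := by exact_mod_cast h3
    omega


/-- b') ⇒ b). -/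
theorem bprime_imp_b [LocallyOfFiniteType f] (x : X)
    (hmax : ∀ x' : X, f.base x' = f.base x → x ∈ closure {x'} → x' = x)
    (Hb : ∀ U : X.Opens, x ∈ U → ∀ y' : Y, y' ⤳ f.base x →
        FlatMor.fibreDimAt f x ≤ topologicalKrullDim ↥((U : Set X) ∩ f.base ⁻¹' {y'})) :
    ∀ Y₀ ∈ irreducibleComponents (Y : Type u), f.base x ∈ Y₀ →
        ∃ Z ∈ irreducibleComponents (X : Type u), ∃ hx : x ∈ Z, closure (f.base '' Z) = Y₀ ∧
          ∀ η : Y, closure ({η} : Set Y) = Y₀ →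
            FlatMor.fibreDimAt f x =
              FlatMor.localDim ↥(Z ∩ f.base ⁻¹' {f.base x}) ⟨x, ⟨hx, rfl⟩⟩ ∧
            FlatMor.localDim ↥(Z ∩ f.base ⁻¹' {f.base x}) ⟨x, ⟨hx, rfl⟩⟩ =
              topologicalKrullDim ↥(Z ∩ f.base ⁻¹' {η}) := by
  intro Y₀ hY₀ hxY₀
  obtain ⟨η₀, hη₀cl, hη₀max⟩ :=
    Groth.Agent.Lib.EquidimAtH8.exists_generic_of_mem_irreducibleComponents Y₀ hY₀
  have hη₀x : η₀ ⤳ f x := by rw [specializes_iff_mem_closure, hη₀cl]; exact hxY₀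
  have hmax' : ∀ x'' : X, f.base x'' = f.base x → x'' ⤳ x → x'' = x :=
    fun x'' h1 h2 => hmax x'' h1 (specializes_iff_mem_closure.mp h2)
  obtain ⟨z, hzmax, hzx, hzη, hdz⟩ :=
    exists_max_specializes f x η₀ hη₀x hη₀max (fun U hU => Hb U hU η₀ hη₀x)
  have hxZ : x ∈ closure ({z} : Set X) := specializes_iff_mem_closure.mp hzx
  refine ⟨closure {z}, (SubCompH8.closure_mem_irreducibleComponents_iff z).mpr hzmax, hxZ, ?_, ?_⟩
  · rw [EquiCompH8.closure_image_closure f z, hzη, hη₀cl]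
  · intro η hηcl
    have hηeq : η = η₀ := by
      have h3 : η ⤳ η₀ := by
        rw [specializes_iff_mem_closure, hηcl, ← hη₀cl]; exact subset_closure rfl
      exact hη₀max η h3
    subst hηeq
    have hd : FlatMor.fibreDimAt f x =
        ((Cardinal.toENat (Dual3.resTrdeg f x) : ℕ∞) : WithBot ℕ∞) :=
      fibreDimAt_of_fibreMax f x hmax'
    have h1 := FibClosH8.localDim_inter_fiber f x hmax' (closure {z})
      (closure_minimal (Set.singleton_subset_iff.mpr hxZ) isClosed_closure) ⟨hxZ, rfl⟩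
    have h2 : topologicalKrullDim ↥(closure ({z} : Set X) ∩ f.base ⁻¹' {η}) =
        ((Cardinal.toENat (Dual3.resTrdeg f z) : ℕ∞) : WithBot ℕ∞) := by
      rw [← hzη]; exact FibClosH8.dim_closure_inter_fiber f z
    have h3 : ((Cardinal.toENat (Dual3.resTrdeg f z) : ℕ∞) : WithBot ℕ∞) ≤
        FlatMor.fibreDimAt f x := by
      obtain ⟨W, w, hW, hw⟩ := EquiCompH8.exists_sub z x hzx
      have hA := QSecH8.fibreDimAt_comp_le f _
        (Scheme.IdealSheafData.vanishingIdeal W).subschemeι.isEmbedding w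
      rw [hw] at hA
      obtain ⟨ξ'', hξ'', hgen⟩ := EquidimIrrH8.exists_generic_subscheme W z hW.symm
      have hB := EquidimIrrH8.fibreDimAt_generic_eq f W z hzmax ξ'' hξ'' hgen
      have hC := FibGenH8.fibreDimAt_le_of_specializes
        ((Scheme.IdealSheafData.vanishingIdeal W).subschemeι ≫ f) (hgen w)
      rw [← FibGenH8.fibreDimAt_of_isMax f z hzmax, ← hB]
      exact hC.trans hA
    refine ⟨hd.trans h1.symm, ?_⟩
    rw [h1, h2]
    exact le_antisymm (hd ▸ hdz) (hd ▸ h3)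

end Groth.Agent.Lib.UOMaxH8
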