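import Mathlib
import Groth.Prelude.Def_EGA43
import Groth.Prelude.Def_Flat
import Groth.Agent.Lib.UOMax1_helper8

/-! EGA IV 14.3.13-type: universally open at a maximal point of a fibre, a) ⇒ b'). -/

universe u
open AlgebraicGeometry CategoryTheory TopologicalSpace Limits Topology IsLocalRing

namespace Groth.Agent.Lib.UOMaxH8

theorem exists_generic_specializes_of_mem_closure {R : Type u} [CommRing R] [IsDomain R]
    {T : Scheme.{u}} (φ : T ⟶ Spec (CommRingCat.of R)) [LocallyOfFiniteType φ] [QuasiCompact φ]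
    (t : T) (ht : t ∈ closure (φ ⁻¹' {(⟨⊥, Ideal.isPrime_bot⟩ : PrimeSpectrum R)})) :
    ∃ c : T, φ c = (⟨⊥, Ideal.isPrime_bot⟩ : PrimeSpectrum R) ∧ c ⤳ t := by
  set η : Spec (CommRingCat.of R) := (⟨⊥, Ideal.isPrime_bot⟩ : PrimeSpectrum R) with hη
  haveI : NoetherianSpace ↥(φ.fiber η) := GenDimH8.noetherianSpace_fiber φ η
  obtain ⟨F, hFfin, hFcl, hFirr, hEF⟩ :=
    TopologicalSpace.NoetherianSpace.exists_finite_set_isClosed_irreducible
      (isClosed_univ : IsClosed (Set.univ : Set ↥(φ.fiber η)))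
  have h1 : closure (φ ⁻¹' {η}) = ⋃ Z ∈ F, closure (φ.fiberι η '' Z) := by
    rw [← hFfin.closure_biUnion, ← Set.image_iUnion₂, ← Set.sUnion_eq_biUnion, ← hEF,
      Set.image_univ, Scheme.Hom.range_fiberι]
  have ht' : t ∈ closure (φ ⁻¹' ({η} : Set ↥(Spec (CommRingCat.of R)))) := ht
  rw [h1] at ht'
  simp only [Set.mem_iUnion] at ht'
  replace ht := ht'
  obtain ⟨Z, hZF, htZ⟩ := ht
  have hirr : IsIrreducible (closure (φ.fiberι η '' Z)) :=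
    ((hFirr Z hZF).image _ (φ.fiberι η).continuous.continuousOn).closure
  obtain ⟨c, hc⟩ := QuasiSober.sober hirr isClosed_closure
  refine ⟨c, ?_, hc.specializes htZ⟩
  obtain ⟨z, hz⟩ := (hFirr Z hZF).nonempty
  have h2 : c ⤳ φ.fiberι η z := hc.specializes (subset_closure ⟨z, hz, rfl⟩)
  have h3 : φ c ⤳ η := by
    have := h2.map φ.continuous
    rwa [Groth.Agent.FibRes2H8.fiberι_mem] at this
  have h4 : η ⤳ φ c :=
    (PrimeSpectrum.le_iff_specializes (⟨⊥, Ideal.isPrime_bot⟩ : PrimeSpectrum R) (φ c)).mp bot_le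
  exact (h3.antisymm h4).eq

theorem mem_closure_generic_of_isOpenAt {R : Type u} [CommRing R] [IsDomain R] [IsLocalRing R]
    {T : Scheme.{u}} (φ : T ⟶ Spec (CommRingCat.of R)) (e : T)
    (he : φ e = closedPoint R) (hop : EGA43.IsOpenAt φ.base e) :
    e ∈ closure (φ ⁻¹' {(⟨⊥, Ideal.isPrime_bot⟩ : PrimeSpectrum R)}) := by
  rw [mem_closure_iff_nhds]
  intro N hN
  have h1 := hop N hN
  obtain ⟨O, hON, hOopen, hcO⟩ := mem_nhds_iff.mp h1
  have hη : (⟨⊥, Ideal.isPrime_bot⟩ : PrimeSpectrum R) ∈ O := by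
    have h2 : (⟨⊥, Ideal.isPrime_bot⟩ : PrimeSpectrum R) ⤳ closedPoint R :=
      IsLocalRing.specializes_closedPoint _
    have h3 : closedPoint R ∈ O := by rw [← he]; exact hcO
    exact h2.mem_open hOopen h3
  obtain ⟨a, haN, ha⟩ := hON hη
  exact ⟨a, haN, ha⟩

theorem isOpenAt_snd_of_univOpenAt {X Y : Scheme.{u}} (f : X ⟶ Y) (x : X)
    (ha : EGA43.IsUnivOpenAt f x) {U₁ V : Scheme.{u}} (iU : U₁ ⟶ X) (iV : V ⟶ Y)
    [IsOpenImmersion iU] [IsOpenImmersion iV] (f₁ : U₁ ⟶ V) (hcomm : f₁ ≫ iV = iU ≫ f)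
    {S' : Scheme.{u}} (h : S' ⟶ V) (e : ↥(pullback f₁ h))
    (he : iU ((pullback.fst f₁ h) e) = x) :
    EGA43.IsOpenAt (pullback.snd f₁ h).base e := by
  let θ : pullback f₁ h ⟶ pullback f (h ≫ iV) :=
    pullback.map f₁ h f (h ≫ iV) iU (𝟙 S') iV hcomm (by simp)
  haveI : IsOpenImmersion θ := inferInstance
  have h1 : θ ≫ pullback.fst f (h ≫ iV) = pullback.fst f₁ h ≫ iU := pullback.lift_fst _ _ _
  have h2 : θ ≫ pullback.snd f (h ≫ iV) = pullback.snd f₁ h := by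
    have := pullback.lift_snd (pullback.fst f₁ h ≫ iU) (pullback.snd f₁ h ≫ 𝟙 S')
      (by rw [Category.assoc, ← hcomm, pullback.condition_assoc]; simp :
        (pullback.fst f₁ h ≫ iU) ≫ f = (pullback.snd f₁ h ≫ 𝟙 S') ≫ (h ≫ iV))
    exact this.trans (Category.comp_id _)
  have hθe : pullback.fst f (h ≫ iV) (θ e) = x := by
    rw [← Scheme.Hom.comp_apply, h1, Scheme.Hom.comp_apply]; exact he
  have hop := ha S' (h ≫ iV) (θ e) hθe
  intro N hN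
  have h3 : θ '' N ∈ nhds (θ e) := θ.isOpenEmbedding.image_mem_nhds.mpr hN
  have h4 := hop _ h3
  have h5 : (pullback.snd f (h ≫ iV)).base '' (θ '' N) = (pullback.snd f₁ h).base '' N := by
    rw [Set.image_image]
    apply Set.image_congr
    intro a _
    rw [← h2, Scheme.Hom.comp_apply]
  have h6 : (pullback.snd f (h ≫ iV)).base (θ e) = (pullback.snd f₁ h).base e := by
    rw [← h2, Scheme.Hom.comp_apply]
  rw [h5, h6] at h4
  exact h4


/-- a) ⇒ b'). -/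
theorem a_imp_bprime {X Y : Scheme.{u}} (f : X ⟶ Y) [LocallyOfFiniteType f] (x : X)
    (hmax : ∀ x' : X, f.base x' = f.base x → x ∈ closure {x'} → x' = x)
    (ha : EGA43.IsUnivOpenAt f x) (U : X.Opens) (hxU : x ∈ U) (y' : Y) (hy' : y' ⤳ f.base x) :
    FlatMor.fibreDimAt f x ≤ topologicalKrullDim ↥((U : Set X) ∩ f.base ⁻¹' {y'}) := by
  obtain ⟨V, hV, hfxV⟩ : ∃ V : Y.Opens, IsAffineOpen V ∧ f x ∈ V := by
    obtain ⟨_, ⟨V, hV, rfl⟩, hfxV, -⟩ :=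
      Y.isBasis_affineOpens.exists_subset_of_mem_open (Set.mem_univ (f x)) isOpen_univ
    exact ⟨V, hV, hfxV⟩
  obtain ⟨U₁, hU₁, hxU₁, hU₁sub⟩ : ∃ U₁ : X.Opens, IsAffineOpen U₁ ∧ x ∈ U₁ ∧
      (U₁ : Set X) ⊆ ((U ⊓ f ⁻¹ᵁ V : X.Opens) : Set X) := by
    obtain ⟨_, ⟨U₁, hU₁, rfl⟩, hxU₁, hU₁sub⟩ :=
      X.isBasis_affineOpens.exists_subset_of_mem_open
        (show x ∈ ((U ⊓ f ⁻¹ᵁ V : X.Opens) : Set X) from ⟨hxU, hfxV⟩) (U ⊓ f ⁻¹ᵁ V).2
    exact ⟨U₁, hU₁, hxU₁, hU₁sub⟩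
  have hU₁U : U₁ ≤ U := fun u hu => (hU₁sub hu).1
  have hU₁V : U₁ ≤ f ⁻¹ᵁ V := fun u hu => (hU₁sub hu).2
  haveI : IsAffine (U₁ : Scheme.{u}) := hU₁
  haveI : IsAffine (V : Scheme.{u}) := hV
  have hy'V : y' ∈ V := hy'.mem_open V.2 hfxV
  set f₁ : (U₁ : Scheme.{u}) ⟶ (V : Scheme.{u}) := f.resLE V U₁ hU₁V with hf₁
  have hf₁ι : f₁ ≫ V.ι = U₁.ι ≫ f := Scheme.Hom.resLE_comp_ι f hU₁V
  haveI : LocallyOfFiniteType (f₁ ≫ V.ι) := by rw [hf₁ι]; infer_instance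
  haveI : LocallyOfFiniteType f₁ := locallyOfFiniteType_of_comp f₁ V.ι
  have hpt : ∀ u : (U₁ : Scheme.{u}), f (U₁.ι u) = V.ι (f₁ u) := fun u =>
    (congrArg (fun k : (U₁ : Scheme.{u}) ⟶ Y => k u) hf₁ι).symm
  let x₁ : (U₁ : Scheme.{u}) := ⟨x, hxU₁⟩
  have hx₁ : U₁.ι x₁ = x := rfl
  set y₁ : (V : Scheme.{u}) := f₁ x₁ with hy₁
  have hy₁ι : V.ι y₁ = f x := by rw [hy₁, ← hpt, hx₁]
  let y₁' : (V : Scheme.{u}) := ⟨y', hy'V⟩
  have hy₁'ι : V.ι y₁' = y' := rfl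
  have hspec : y₁' ⤳ y₁ := by
    rw [← V.ι.isEmbedding.isInducing.specializes_iff, hy₁ι]
    exact hy'
  -- fibre-maximality upstairs
  have hmax₁ : ∀ e₁ : (U₁ : Scheme.{u}), f₁ e₁ = f₁ x₁ → e₁ ⤳ x₁ → e₁ = x₁ := by
    intro e₁ h1 h2
    apply U₁.ι.isEmbedding.injective
    apply hmax
    · rw [hpt, h1, ← hpt, hx₁]
    · rw [← specializes_iff_mem_closure]
      exact h2.map U₁.ι.continuous
  obtain ⟨R, _, _, _, h, hη, hcl⟩ := GenDimH8.exists_valuationRing_of_specializes y₁ y₁' hspec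
  set E : Set (U₁ : Scheme.{u}) := {e | e ⤳ x₁} with hE
  have hE1 : E ∩ f₁ ⁻¹' {y₁} = {x₁} := by
    ext e
    constructor
    · rintro ⟨h1, h2⟩
      exact hmax₁ e h2 h1
    · rintro rfl
      exact ⟨specializes_rfl, rfl⟩
  have hsq : IsPullback (pullback.fst f₁ h) (pullback.snd f₁ h) f₁ h := IsPullback.of_hasPullback f₁ h
  have key : topologicalKrullDim ↥(f₁ ⁻¹' {y₁} ∩ closure (E ∩ f₁ ⁻¹' {y₁})) ≤
      topologicalKrullDim ↥(f₁ ⁻¹' {y₁'} ∩ closure (E ∩ f₁ ⁻¹' {y₁'})) := by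
    rw [← hcl, ← hη, ← GenDimH8.dim_baseChange_eq f₁ h _ _ hsq E (closedPoint R),
      ← GenDimH8.dim_baseChange_eq f₁ h _ _ hsq E (⟨⊥, Ideal.isPrime_bot⟩ : PrimeSpectrum R)]
    apply GenDimH8.valuation_case
    intro e he hes
    have hpe : pullback.fst f₁ h e = x₁ := by
      apply hmax₁ _ _ he
      have h1 : f₁ (pullback.fst f₁ h e) = h (pullback.snd f₁ h e) := by
        rw [← Scheme.Hom.comp_apply, ← Scheme.Hom.comp_apply, pullback.condition]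
      rw [h1, hes, hcl]
    have hop := isOpenAt_snd_of_univOpenAt f x ha U₁.ι V.ι f₁ hf₁ι h e (by rw [hpe, hx₁])
    have hcl' := mem_closure_generic_of_isOpenAt (pullback.snd f₁ h) e hes hop
    obtain ⟨c, hc1, hc2⟩ := exists_generic_specializes_of_mem_closure (pullback.snd f₁ h) e hcl'
    exact ⟨c, (hc2.map (pullback.fst f₁ h).continuous).trans he, hc1, hc2⟩
  -- assemble
  have hd : FlatMor.fibreDimAt f x = topologicalKrullDim ↥(f₁ ⁻¹' {y₁} ∩ closure (E ∩ f₁ ⁻¹' {y₁})) := by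
    rw [hE1, Set.inter_comm, ← hx₁, FibCohH8.fibreDimAt_etale_local f f₁ U₁.ι V.ι hf₁ι x₁,
      fibreDimAt_of_fibreMax f₁ x₁ hmax₁]
    exact (FibClosH8.dim_closure_inter_fiber f₁ x₁).symm
  rw [hd]
  refine key.trans ?_
  refine (GenDimH8.topDim_mono Set.inter_subset_left).trans ?_
  have hset : (f₁ ⁻¹' {y₁'} : Set (U₁ : Scheme.{u})) = U₁.ι ⁻¹' (f.base ⁻¹' {y'}) := by
    ext e
    simp only [Set.mem_preimage, Set.mem_singleton_iff]
    constructor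
    · intro h1
      rw [hpt, h1, hy₁'ι]
    · intro h1
      apply V.ι.isEmbedding.injective
      rw [← hpt, h1, hy₁'ι]
  rw [hset, GenDimH8.topDim_preimage_embedding U₁.ι U₁.ι.isEmbedding]
  apply GenDimH8.topDim_mono
  rw [Scheme.Opens.range_ι]
  intro a ha
  exact ⟨hU₁U ha.2, ha.1⟩

end Groth.Agent.Lib.UOMaxH8
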