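import Mathlib
import Groth.Prelude.Def_EGA43
import Groth.Agent.Lib.UOP3_helper8
import Groth.Agent.Lib.UniOpen4_helper8
import Groth.Agent.Lib.UOMax2_helper8
import Groth.Agent.Lib.UnramLocal_helper7

/-! DVR criterion for pointwise universal openness (EGA IV 14.5.8-type). -/

set_option autoImplicit false
universe u

open TensorProduct CategoryTheory AlgebraicGeometry Limits IsLocalRing

namespace UOPH8

theorem dvr_point_eq_bot {A : Type u} [CommRing A] [IsDomain A] [IsDiscreteValuationRing A]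
    (p : PrimeSpectrum A) (hp : p ≠ closedPoint A) : p.asIdeal = ⊥ := by
  by_contra h0
  apply hp
  have hmax : p.asIdeal.IsMaximal := Ring.DimensionLEOne.maximalOfPrime h0 p.2
  apply PrimeSpectrum.ext
  exact IsLocalRing.eq_maximalIdeal hmax

/-- generization lifting from the DVR criterion, over any locally Noetherian base change. -/
theorem exists_generization_of_dvr {X Y P : Scheme.{u}} [IsLocallyNoetherian P] (f : X ⟶ Y)
    (π : P ⟶ Y) (x : X)
    (H : ∀ (A : Type u) [CommRing A] [IsDomain A] [IsDiscreteValuationRing A]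
        (g : Spec (CommRingCat.of A) ⟶ Y), g.base (IsLocalRing.closedPoint A) = f.base x →
        ∀ x' : ↥(pullback f g), (pullback.fst f g).base x' = x →
          (pullback.snd f g).base x' = IsLocalRing.closedPoint A →
          ∃ z' : ↥(pullback f g), z' ⤳ x' ∧
            (pullback.snd f g).base z' ≠ IsLocalRing.closedPoint A)
    (xd : ↥(pullback f π)) (hxd : pullback.fst f π xd = x) (y' : P)
    (hy' : y' ⤳ pullback.snd f π xd) :
    ∃ x' : ↥(pullback f π), x' ⤳ xd ∧ pullback.snd f π x' = y' := by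
  by_cases hne : y' = (pullback.snd f π) xd
  · exact ⟨xd, specializes_rfl, hne.symm⟩
  obtain ⟨A, _, _, _, a, η, hη, hacl, haη⟩ :=
    Groth.Agent.Lib.UnramLocal_helper7.exists_dvr_of_specializes y' _ hy' hne
  have hcond : ∀ t : ↥(pullback f π), f (pullback.fst f π t) = π (pullback.snd f π t) := fun t =>
    congrArg (fun k : pullback f π ⟶ Y => k t) pullback.condition
  obtain ⟨p₀, hp₀1, hp₀2⟩ := Scheme.Pullback.exists_preimage_pullback
    (f := pullback.snd f π) (g := a) xd (closedPoint A) hacl.symm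
  let e := pullbackLeftPullbackSndIso f π a
  have he1 : ∀ t, pullback.fst f (a ≫ π) (e.hom t) =
      pullback.fst f π (pullback.fst (pullback.snd f π) a t) := fun t =>
    congrArg (fun k : pullback (pullback.snd f π) a ⟶ X => k t)
      (pullbackLeftPullbackSndIso_hom_fst f π a)
  have he2 : ∀ t, pullback.snd f (a ≫ π) (e.hom t) = pullback.snd (pullback.snd f π) a t :=
    fun t => congrArg (fun k : pullback (pullback.snd f π) a ⟶ _ => k t)
      (pullbackLeftPullbackSndIso_hom_snd f π a)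
  have he3 : ∀ t, pullback.snd (pullback.snd f π) a (e.inv t) = pullback.snd f (a ≫ π) t :=
    fun t => congrArg (fun k : pullback f (a ≫ π) ⟶ _ => k t)
      (pullbackLeftPullbackSndIso_inv_snd_snd f π a)
  have hinv : ∀ t, e.inv (e.hom t) = t := fun t => by
    rw [← Scheme.Hom.comp_apply, e.hom_inv_id]; rfl
  obtain ⟨z', hz'1, hz'2⟩ := H A (a ≫ π)
    (by
      show (a ≫ π) (closedPoint A) = f x
      rw [Scheme.Hom.comp_apply, hacl, ← hcond, hxd])
    (e.hom p₀)
    (by
      show pullback.fst f (a ≫ π) (e.hom p₀) = x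
      rw [he1, hp₀1, hxd])
    (by
      show pullback.snd f (a ≫ π) (e.hom p₀) = closedPoint A
      rw [he2, hp₀2])
  have hz₀ : e.inv z' ⤳ p₀ := by
    have := hz'1.map e.inv.continuous
    rwa [hinv] at this
  refine ⟨pullback.fst (pullback.snd f π) a (e.inv z'), ?_, ?_⟩
  · have := hz₀.map (pullback.fst (pullback.snd f π) a).continuous
    rwa [hp₀1] at this
  · have hc : (pullback.snd f π) (pullback.fst (pullback.snd f π) a (e.inv z')) =
        a (pullback.snd (pullback.snd f π) a (e.inv z')) :=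
      congrArg (fun k : pullback (pullback.snd f π) a ⟶ _ => k (e.inv z')) pullback.condition
    rw [hc, he3, ← haη]
    congr 1
    have h1 : ((pullback.snd f (a ≫ π)) z' : PrimeSpectrum A).asIdeal = ⊥ :=
      dvr_point_eq_bot _ hz'2
    apply PrimeSpectrum.ext
    rw [hη]
    exact h1

/-- (⇐) of the DVR criterion. -/
theorem isUnivOpenAt_of_dvr {X Y : Scheme.{u}} [IsLocallyNoetherian Y] (f : X ⟶ Y)
    [LocallyOfFiniteType f] (x : X)
    (H : ∀ (A : Type u) [CommRing A] [IsDomain A] [IsDiscreteValuationRing A]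
        (g : Spec (CommRingCat.of A) ⟶ Y), g.base (IsLocalRing.closedPoint A) = f.base x →
        ∀ x' : ↥(pullback f g), (pullback.fst f g).base x' = x →
          (pullback.snd f g).base x' = IsLocalRing.closedPoint A →
          ∃ z' : ↥(pullback f g), z' ⤳ x' ∧
            (pullback.snd f g).base z' ≠ IsLocalRing.closedPoint A) :
    EGA43.IsUnivOpenAt f x := by
  apply UOPH8.isUnivOpenAt_of_affineSpace f x
  intro d _ xd hxd
  haveI : IsLocallyNoetherian (AffineSpace (ULift.{u} (Fin d)) Y) :=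
    LocallyOfFiniteType.isLocallyNoetherian (AffineSpace (ULift.{u} (Fin d)) Y ↘ Y)
  haveI : LocallyOfFinitePresentation (pullback.snd f (AffineSpace (ULift.{u} (Fin d)) Y ↘ Y)) :=
    inferInstance
  apply Groth.Agent.Lib.UniOpenH8.isOpenAt_of_generizations
  intro y' hy'
  exact exists_generization_of_dvr f _ x H xd hxd y' hy'

/-- (⇒) of the DVR criterion. -/
theorem dvr_of_isUnivOpenAt {X Y : Scheme.{u}} (f : X ⟶ Y)
    [LocallyOfFiniteType f] (x : X) (ha : EGA43.IsUnivOpenAt f x)
    (A : Type u) [CommRing A] [IsDomain A] [IsDiscreteValuationRing A]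
    (g : Spec (CommRingCat.of A) ⟶ Y)
    (x' : ↥(pullback f g)) (hx' : (pullback.fst f g).base x' = x)
    (hcl : (pullback.snd f g).base x' = IsLocalRing.closedPoint A) :
    ∃ z' : ↥(pullback f g), z' ⤳ x' ∧
      (pullback.snd f g).base z' ≠ IsLocalRing.closedPoint A := by
  have hop := ha _ g x' hx'
  have hmem := Groth.Agent.Lib.UOMaxH8.mem_closure_generic_of_isOpenAt (pullback.snd f g) x' hcl hop
  obtain ⟨W, hW, hxW⟩ : ∃ W : (pullback f g).Opens, IsAffineOpen W ∧ x' ∈ W := by
    obtain ⟨_, ⟨W, hW, rfl⟩, hxW, -⟩ :=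
      (pullback f g).isBasis_affineOpens.exists_subset_of_mem_open (Set.mem_univ x') isOpen_univ
    exact ⟨W, hW, hxW⟩
  haveI : IsAffine (W : Scheme.{u}) := hW
  set φ : (W : Scheme.{u}) ⟶ Spec (CommRingCat.of A) := W.ι ≫ pullback.snd f g with hφ
  haveI : QuasiCompact φ := (HasAffineProperty.iff_of_isAffine (P := @QuasiCompact)).mpr inferInstance
  let t : (W : Scheme.{u}) := ⟨x', hxW⟩
  have ht : t ∈ closure (φ ⁻¹' {(⟨⊥, Ideal.isPrime_bot⟩ : PrimeSpectrum A)}) := by
    rw [W.ι.isEmbedding.isInducing.closure_eq_preimage_closure_image]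
    show W.ι t ∈ closure (W.ι '' (φ ⁻¹' {(⟨⊥, Ideal.isPrime_bot⟩ : PrimeSpectrum A)}))
    rw [mem_closure_iff_nhds]
    intro N hN
    have hN' : N ∩ (W : Set ↥(pullback f g)) ∈ nhds x' :=
      Filter.inter_mem hN (W.2.mem_nhds hxW)
    obtain ⟨b, ⟨hbN, hbW⟩, hb⟩ := (mem_closure_iff_nhds.mp hmem) _ hN'
    refine ⟨b, hbN, ⟨⟨b, hbW⟩, ?_, rfl⟩⟩
    show φ ⟨b, hbW⟩ = _
    rw [hφ, Scheme.Hom.comp_apply]
    exact hb
  obtain ⟨c, hc1, hc2⟩ := Groth.Agent.Lib.UOMaxH8.exists_generic_specializes_of_mem_closure φ t ht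
  refine ⟨W.ι c, hc2.map W.ι.continuous, ?_⟩
  have h1 : (pullback.snd f g) (W.ι c) = (⟨⊥, Ideal.isPrime_bot⟩ : PrimeSpectrum A) := by
    rw [← Scheme.Hom.comp_apply]; exact hc1
  intro h2
  have h3 : (⟨⊥, Ideal.isPrime_bot⟩ : PrimeSpectrum A) = closedPoint A := h1.symm.trans h2
  have h4 : (⊥ : Ideal A) = maximalIdeal A := congrArg PrimeSpectrum.asIdeal h3
  exact IsDiscreteValuationRing.not_a_field A h4.symm

end UOPH8
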