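import Mathlib
import Groth.Prelude.Def_EGA43
import Groth.Agent.Lib.UOP4_helper8

/-! Irreducible-components form of the DVR criterion for universal openness. -/

set_option autoImplicit false
universe u

open TensorProduct CategoryTheory AlgebraicGeometry Limits IsLocalRing

namespace UOPH8

theorem isUnivOpenAt_of_universallyOpen {X Y : Scheme.{u}} (f : X ⟶ Y) [UniversallyOpen f]
    (x : X) : EGA43.IsUnivOpenAt f x := by
  intro Y' g x' _ N hN
  exact (pullback.snd f g).isOpenMap.image_mem_nhds hN

theorem universallyOpen_of_isUnivOpenAt {X Y : Scheme.{u}} (f : X ⟶ Y)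
    (h : ∀ x : X, EGA43.IsUnivOpenAt f x) : UniversallyOpen f := by
  rw [universallyOpen_iff]
  intro X' Y' i₁ i₂ f' hpb
  let e := hpb.flip.isoPullback
  have he : e.hom ≫ pullback.snd f i₂ = f' := hpb.flip.isoPullback_hom_snd
  have h1 : IsOpenMap (pullback.snd f i₂).base := by
    rw [isOpenMap_iff_nhds_le]
    intro a s hs
    have h2 := h _ Y' i₂ a rfl _ hs
    exact Filter.mem_of_superset h2 (Set.image_preimage_subset _ _)
  show IsOpenMap f'.base
  rw [← he]
  have h3 : IsOpenMap e.hom.base := (Scheme.homeoOfIso e).isOpenMap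
  have h4 : (e.hom ≫ pullback.snd f i₂).base = (pullback.snd f i₂).base ∘ e.hom.base := by
    ext a; rfl
  change IsOpenMap ⇑(e.hom ≫ pullback.snd f i₂).base
  rw [h4]
  exact h1.comp h3

/-- if all irreducible components dominate, every point over the closed point has a
generization over the generic point. -/
theorem exists_generization_of_dense {A : Type u} [CommRing A] [IsDomain A]
    [IsDiscreteValuationRing A] {P : Scheme.{u}} (φ : P ⟶ Spec (CommRingCat.of A))
    (hd : ∀ Z ∈ irreducibleComponents (↥P : Type u), Dense (φ.base '' Z))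
    (x' : P) :
    ∃ z' : P, z' ⤳ x' ∧ φ.base z' ≠ closedPoint A := by
  have hZ : irreducibleComponent x' ∈ irreducibleComponents (↥P : Type u) :=
    irreducibleComponent_mem_irreducibleComponents x'
  have hirr : IsIrreducible (irreducibleComponent x') := isIrreducible_irreducibleComponent
  have hcl : IsClosed (irreducibleComponent x') := isClosed_irreducibleComponent
  obtain ⟨ζ, hζ⟩ := QuasiSober.sober hirr hcl
  have hζx : ζ ⤳ x' := hζ.specializes mem_irreducibleComponent
  refine ⟨ζ, hζx, ?_⟩
  intro hcp
  have hdense := hd _ hZ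
  have hsub : φ.base '' (irreducibleComponent x') ⊆ {closedPoint A} := by
    rintro _ ⟨z, hz, rfl⟩
    have h1 : ζ ⤳ z := hζ.specializes hz
    have h2 : φ.base ζ ⤳ φ.base z := h1.map φ.continuous
    rw [hcp] at h2
    have h3 : φ.base z ⤳ closedPoint A := IsLocalRing.specializes_closedPoint _
    exact (h3.antisymm h2).eq
  have hcl1 : IsClosed ({closedPoint A} : Set (PrimeSpectrum A)) := IsLocalRing.isClosed_singleton_closedPoint A
  have h5 : (⟨⊥, Ideal.isPrime_bot⟩ : PrimeSpectrum A) = closedPoint A :=
    closure_minimal hsub hcl1 (hdense (⟨⊥, Ideal.isPrime_bot⟩ : PrimeSpectrum A))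
  have h6 : (⊥ : Ideal A) = maximalIdeal A := congrArg PrimeSpectrum.asIdeal h5
  exact IsDiscreteValuationRing.not_a_field A h6.symm

/-- pointwise universal openness along the fibre over the image of the closed point ⇒ all
irreducible components dominate. -/
theorem dense_of_isUnivOpenAt {X Y : Scheme.{u}} (f : X ⟶ Y) [LocallyOfFiniteType f]
    {A : Type u} [CommRing A] [IsDomain A] [IsDiscreteValuationRing A]
    (g : Spec (CommRingCat.of A) ⟶ Y)
    (h : ∀ x : X, f.base x = g.base (closedPoint A) → EGA43.IsUnivOpenAt f x)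
    (Z : Set ↥(pullback f g)) (hZ : Z ∈ irreducibleComponents (↥(pullback f g) : Type u)) :
    Dense ((pullback.snd f g).base '' Z) := by
  have hirr : IsIrreducible Z := hZ.1
  have hcl : IsClosed Z := isClosed_of_mem_irreducibleComponents Z hZ
  obtain ⟨ζ, hζ⟩ := QuasiSober.sober hirr hcl
  have hmax : ∀ b : ↥(pullback f g), b ⤳ ζ → b = ζ := by
    intro b hb
    have h1 : Z ⊆ closure {b} := by
      rw [← hζ.def]
      exact closure_minimal (Set.singleton_subset_iff.mpr (specializes_iff_mem_closure.mp hb))
        isClosed_closure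
    have h2 : closure {b} ≤ Z := hZ.2 (isIrreducible_singleton.closure) h1
    have h3 : ζ ⤳ b := by
      rw [specializes_iff_mem_closure, hζ.def]
      exact h2 (subset_closure rfl)
    exact (hb.antisymm h3).eq
  have hgen : (pullback.snd f g).base ζ = (⟨⊥, Ideal.isPrime_bot⟩ : PrimeSpectrum A) := by
    by_contra hne
    have hcp : (pullback.snd f g).base ζ = closedPoint A := by
      by_contra hne2
      apply hne
      apply PrimeSpectrum.ext
      exact dvr_point_eq_bot _ hne2
    have hx : f.base ((pullback.fst f g).base ζ) = g.base (closedPoint A) := by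
      rw [← hcp]
      exact congrArg (fun k : pullback f g ⟶ Y => k ζ) pullback.condition
    obtain ⟨z', hz'1, hz'2⟩ := dvr_of_isUnivOpenAt f _ (h _ hx) A g ζ rfl hcp
    rw [hmax z' hz'1] at hz'2
    exact hz'2 hcp
  have hdense : Dense ({(⟨⊥, Ideal.isPrime_bot⟩ : PrimeSpectrum A)} : Set (PrimeSpectrum A)) := by
    intro p
    rw [← specializes_iff_mem_closure, ← PrimeSpectrum.le_iff_specializes]
    exact bot_le
  refine hdense.mono ?_
  rw [Set.singleton_subset_iff]
  exact ⟨ζ, hζ.mem, hgen⟩

end UOPH8
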