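import Mathlib
import Groth.Prelude.Def_EGA43
import Groth.Agent.Lib.UnivOpenAt_helper8

/-! Transfer lemmas for pointwise universal openness. -/

universe u
open AlgebraicGeometry CategoryTheory Limits TopologicalSpace

namespace Groth.Agent.Lib.UOQH8

theorem isOpenAt_of_isUnivOpenAt {X Y : Scheme.{u}} (f : X ⟶ Y) (x : X)
    (h : EGA43.IsUnivOpenAt f x) : EGA43.IsOpenAt f.base x :=
  UnivOpenAtH8.isOpenAt_of_isPullback (IsPullback.of_id_fst (f := f)) h x rfl

/-- if `i ≫ f` is universally open at `w` then `f` is universally open at `i w`. -/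
theorem isUnivOpenAt_of_comp {W X Y : Scheme.{u}} (i : W ⟶ X) (f : X ⟶ Y) (w : W)
    (h : EGA43.IsUnivOpenAt (i ≫ f) w) : EGA43.IsUnivOpenAt f (i.base w) := by
  intro Y' g x' hx'
  obtain ⟨q, hq1, hq2⟩ := Scheme.Pullback.exists_preimage_pullback
    (f := i) (g := pullback.fst f g) w x' hx'.symm
  have sq : IsPullback (pullback.fst i (pullback.fst f g))
      (pullback.snd i (pullback.fst f g) ≫ pullback.snd f g) (i ≫ f) g :=
    (IsPullback.of_hasPullback i (pullback.fst f g)).paste_vert (IsPullback.of_hasPullback f g)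
  have h1 := UnivOpenAtH8.isOpenAt_of_isPullback sq h q hq1
  have h2 : ((pullback.snd i (pullback.fst f g) ≫ pullback.snd f g).base :
      ↥(pullback i (pullback.fst f g)) → Y') =
      (pullback.snd f g).base ∘ (pullback.snd i (pullback.fst f g)).base := by
    ext a; rfl
  rw [h2] at h1
  have h3 := UnivOpenAtH8.isOpenAt_of_comp
    ((pullback.snd i (pullback.fst f g)).continuous.continuousAt) h1
  rw [hq2] at h3
  exact h3

end Groth.Agent.Lib.UOQH8
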