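import Mathlib
import Groth.Prelude.Def_CAlg2
import Groth.Prelude.Def_EGA43
import Groth.Prelude.Def_Flat
import Groth.Agent.Lib.UOQ1_helper8
import Groth.Agent.Lib.UOQ2_helper8
import Groth.Agent.Lib.UOMax2_helper8
import Groth.Agent.Lib.OpenGen2_helper8
import Groth.Agent.Lib.EquidimIrr2_helper8

/-! EGA IV 14.4.1: implications b) ⇒ a) and c) ⇒ b'). -/

universe u
open AlgebraicGeometry CategoryTheory Limits TopologicalSpace

namespace Groth.Agent.Lib.UOQH8

variable {X Y : Scheme.{u}} (f : X ⟶ Y)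

theorem fibreDimAt_le_dim_inter (U : X.Opens) (ξ : X) (hξ : ξ ∈ U) (y' : Y) (h : f.base ξ = y') :
    FlatMor.fibreDimAt f ξ ≤ topologicalKrullDim ↥((U : Set X) ∩ f.base ⁻¹' {y'}) := by
  have h1 := OpenAtEqH8.fibreDimAt_restrict f U ⟨ξ, hξ⟩
  have h2 := OpenGenH8.fibreDimAt_le_dim_fiber (U.ι ≫ f) (⟨ξ, hξ⟩ : ↥U) y' h
  rw [OpenGenH8.dim_fiber_restrict f U y', h1] at h2
  exact h2

/-- c) ⇒ b'). -/
theorem c_imp_bprime [IsLocallyNoetherian Y] [LocallyOfFiniteType f] (x : X)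
    (hmax : ∀ x'' : X, f.base x'' = f.base x → x'' ⤳ x → x'' = x)
    (hc : EGA43.IsOpenAt f.base x) (U : X.Opens) (hxU : x ∈ U) (y' : Y) (hy' : y' ⤳ f.base x) :
    FlatMor.fibreDimAt f x ≤ topologicalKrullDim ↥((U : Set X) ∩ f.base ⁻¹' {y'}) := by
  obtain ⟨ξ', hξ'y, hξ'x, hξ'dim⟩ := OpenGenH8.exists_gen f x hc hmax y' hy'
  rw [← hξ'dim]
  exact fibreDimAt_le_dim_inter f U ξ' (hξ'x.mem_open U.2 hxU) y' hξ'y

/-- b) ⇒ a), at an arbitrary point. -/
theorem b_imp_a [IsLocallyNoetherian Y] [LocallyOfFiniteType f] (x : X)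
    (hy : CAlg2.IsGeomUnibranch (Y.presheaf.stalk (f.base x)))
    (Z : Set X) (hZ : Z ∈ irreducibleComponents (X : Type u)) (hx : x ∈ Z)
    (hdom : closure (f.base '' Z) ∈ irreducibleComponents (Y : Type u))
    (hdim : ∀ η : Y, closure ({η} : Set Y) = closure (f.base '' Z) →
      FlatMor.localDim ↥(Z ∩ f.base ⁻¹' {f.base x}) ⟨x, ⟨hx, rfl⟩⟩ =
        topologicalKrullDim ↥(Z ∩ f.base ⁻¹' {η})) :
    EGA43.IsUnivOpenAt f x := by
  obtain ⟨z, hzcl, hzmax⟩ :=
    Groth.Agent.Lib.EquidimAtH8.exists_generic_of_mem_irreducibleComponents Z hZ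
  let W : Closeds X := ⟨Z, isClosed_of_mem_irreducibleComponents Z hZ⟩
  have hWZ : (W : Set X) = Z := rfl
  have hrange := EquidimSubH8.range_vanishingIdeal_subschemeι W
  obtain ⟨w, hw⟩ : x ∈ Set.range (Scheme.IdealSheafData.vanishingIdeal W).subschemeι.base := by
    rw [hrange]; exact hx
  obtain ⟨ξ'', hξ'', hgen⟩ := EquidimIrrH8.exists_generic_subscheme W z hzcl
  obtain ⟨n, hn⟩ := EquidimIrrH8.exists_nat_fibreDimAt f z
  have hB := EquidimIrrH8.fibreDimAt_generic_eq f W z hzmax ξ'' hξ'' hgen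
  have hηcl : closure ({f.base z} : Set Y) = closure (f.base '' Z) := by
    rw [← hzcl, EquiCompH8.closure_image_closure f z]
  have h2 : FlatMor.fibreDimAt ((Scheme.IdealSheafData.vanishingIdeal W).subschemeι ≫ f) w ≤
      (n : WithBot ℕ∞) := by
    rw [EquidimSubH8.bridge f (Scheme.IdealSheafData.vanishingIdeal W).subschemeι
      (Scheme.IdealSheafData.vanishingIdeal W).subschemeι.isEmbedding w x hw Z hrange ⟨hx, rfl⟩,
      hdim (f.base z) hηcl, ← hn, FibGenH8.fibreDimAt_of_isMax f z hzmax]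
    have h3 := FibClosH8.dim_closure_inter_fiber f z
    rw [hzcl] at h3
    exact h3.le
  have hfξ : ((Scheme.IdealSheafData.vanishingIdeal W).subschemeι ≫ f).base ξ'' = f.base z := by
    rw [← hξ'']; rfl
  have hE : EGA43.IsEquidimAt ((Scheme.IdealSheafData.vanishingIdeal W).subschemeι ≫ f) w := by
    refine EquidimIrrH8.isEquidimAt_of_generic _ ξ'' w hgen n ?_ h2 ?_
    · rw [hB, hn]
    · rw [hfξ, hηcl]; exact hdom
  have hfw : ((Scheme.IdealSheafData.vanishingIdeal W).subschemeι ≫ f).base w = f.base x := by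
    rw [← hw]; rfl
  have hU : EGA43.IsUnivOpenAt ((Scheme.IdealSheafData.vanishingIdeal W).subschemeι ≫ f) w := by
    apply isUnivOpenAt_of_isEquidimAt _ w _ hE
    rw [hfw]; exact hy
  have := isUnivOpenAt_of_comp (Scheme.IdealSheafData.vanishingIdeal W).subschemeι f w hU
  rwa [hw] at this

end Groth.Agent.Lib.UOQH8
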