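import Mathlib
import Groth.Prelude.Def_CAlg2
import Groth.Prelude.Def_EGA43
import Groth.Prelude.Def_Flat
import Groth.Agent.Lib.UOQ3_helper8

/-! EGA IV 14.4.2-type: implications c) ⇒ b'') and b'') ⇒ b). -/

universe u
open AlgebraicGeometry CategoryTheory Limits TopologicalSpace

namespace Groth.Agent.Lib.UOQH8

variable {X Y : Scheme.{u}} (f : X ⟶ Y)

/-- c) ⇒ b''). -/
theorem c_imp_bsecond [IsLocallyNoetherian Y] [LocallyOfFiniteType f] (y : Y)
    (hc : ∀ x : X, f.base x = y → EGA43.IsOpenAt f.base x) (U : X.Opens) (η : Y) (hη : η ⤳ y) :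
    topologicalKrullDim ↥((U : Set X) ∩ f.base ⁻¹' {y}) ≤
      topologicalKrullDim ↥((U : Set X) ∩ f.base ⁻¹' {η}) := by
  have hopen : ∀ u : ↥U, (U.ι ≫ f).base u = y → EGA43.IsOpenAt (U.ι ≫ f).base u := by
    intro u hu
    apply UnivOpenAtH8.isOpenAt_comp_hom U.ι f u
    · exact UnivOpenAtH8.isOpenAt_of_isOpenMap U.ι.isOpenEmbedding.isOpenMap u
    · exact hc _ hu
  have := OpenGenH8.dim_fiber_le_of_specializes (U.ι ≫ f) y η hη hopen
  rwa [OpenGenH8.dim_fiber_restrict f U y, OpenGenH8.dim_fiber_restrict f U η] at this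

/-- b'') ⇒ b). -/
theorem bsecond_imp_b [LocallyOfFiniteType f] (x : X) (η : Y) (hη : η ⤳ f.base x)
    (hηmax : ∀ b : Y, b ⤳ η → b = η)
    (Hb : ∀ U : X.Opens, topologicalKrullDim ↥((U : Set X) ∩ f.base ⁻¹' {f.base x}) ≤
      topologicalKrullDim ↥((U : Set X) ∩ f.base ⁻¹' {η})) :
    ∃ Z ∈ irreducibleComponents (X : Type u), ∃ hx : x ∈ Z,
      closure (f.base '' Z) = closure {η} ∧
        FlatMor.localDim ↥(Z ∩ f.base ⁻¹' {f.base x}) ⟨x, ⟨hx, rfl⟩⟩ =
          topologicalKrullDim ↥(Z ∩ f.base ⁻¹' {η}) := by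
  obtain ⟨ζ, hζf, hζx, hζmax, hζdim⟩ := EquidimIrrH8.exists_fibre_max_dim f x
  have hζmax' : ∀ x'' : X, f.base x'' = f.base ζ → x'' ⤳ ζ → x'' = ζ :=
    fun x'' h1 h2 => hζmax x'' (h1.trans hζf) h2
  have hdζ := Groth.Agent.Lib.UOMaxH8.fibreDimAt_of_fibreMax f ζ hζmax'
  obtain ⟨z, hzmax, hzζ, hzη, hdz⟩ :=
    Groth.Agent.Lib.UOMaxH8.exists_max_specializes f ζ η (hζf ▸ hη) hηmax (by
      intro U hζU
      exact (fibreDimAt_le_dim_inter f U ζ hζU (f.base x) hζf).trans (Hb U))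
  have hzx : z ⤳ x := hzζ.trans hζx
  have hxZ : x ∈ closure ({z} : Set X) := specializes_iff_mem_closure.mp hzx
  refine ⟨closure {z}, (SubCompH8.closure_mem_irreducibleComponents_iff z).mpr hzmax, hxZ, ?_, ?_⟩
  · rw [EquiCompH8.closure_image_closure f z, hzη]
  · have h2 : topologicalKrullDim ↥(closure ({z} : Set X) ∩ f.base ⁻¹' {η}) =
        ((Cardinal.toENat (Dual3.resTrdeg f z) : ℕ∞) : WithBot ℕ∞) := by
      rw [← hzη]; exact FibClosH8.dim_closure_inter_fiber f z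
    rw [h2]
    obtain ⟨W, w, hW, hw⟩ := EquiCompH8.exists_sub z x hzx
    have hrange := EquidimSubH8.range_vanishingIdeal_subschemeι W
    rw [hW] at hrange
    rw [← EquidimSubH8.bridge f (Scheme.IdealSheafData.vanishingIdeal W).subschemeι
      (Scheme.IdealSheafData.vanishingIdeal W).subschemeι.isEmbedding w x hw (closure {z}) hrange
      ⟨hxZ, rfl⟩]
    apply le_antisymm
    · have hA := QSecH8.fibreDimAt_comp_le f _
        (Scheme.IdealSheafData.vanishingIdeal W).subschemeι.isEmbedding w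
      rw [hw] at hA
      refine hA.trans (hζdim.trans ?_)
      rw [← hdζ]
      exact hdz
    · obtain ⟨ξ'', hξ'', hgen⟩ := EquidimIrrH8.exists_generic_subscheme W z hW.symm
      have hB := EquidimIrrH8.fibreDimAt_generic_eq f W z hzmax ξ'' hξ'' hgen
      have hC := FibGenH8.fibreDimAt_le_of_specializes
        ((Scheme.IdealSheafData.vanishingIdeal W).subschemeι ≫ f) (hgen w)
      rw [← FibGenH8.fibreDimAt_of_isMax f z hzmax, ← hB]
      exact hC

end Groth.Agent.Lib.UOQH8
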