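import Mathlib
import Groth.Agent.Lib.OpenAtComp_helper8

/-! Chains of generizations versus dimensions of quotients of local rings. -/

universe u
open AlgebraicGeometry CategoryTheory TopologicalSpace IsLocalRing

namespace Groth.Agent.Lib.UOQH8

open OpenAtDimH8

/-- a chain in `X` lying in the range of an embedding and generizing `i τ₀` bounds the coheight of
`τ₀` from below. -/
theorem le_coheight_of_chain {T X : Scheme.{u}} (i : T ⟶ X) (hi : Topology.IsEmbedding i.base)
    (τ₀ : T) (l : LTSeries X)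
    (h : ∀ j, l j ∈ Set.range i.base ∧ l j ⤳ i.base τ₀) :
    (l.length : ℕ∞) ≤ Order.coheight τ₀ := by
  choose s hs using fun j => (h j).1
  have hstrict : StrictMono s := by
    intro j k hjk
    have h1 : l j < l k := l.strictMono hjk
    have h2 : l k ⤳ l j := h1.le
    have h3 : ¬ l j ⤳ l k := fun hh => (not_le_of_gt h1) hh
    rw [← hs j, ← hs k, hi.isInducing.specializes_iff] at h2 h3
    exact lt_of_le_not_ge h2 h3
  have hhead : τ₀ ≤ (LTSeries.mk l.length s hstrict).head := by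
    show s 0 ⤳ τ₀
    rw [← hi.isInducing.specializes_iff, hs 0]
    exact (h 0).2
  exact Order.length_le_coheight hhead

/-- a lower bound for `dim O_ζ/Q` gives a chain of generizations of `ζ` inside the closure of the
point of `Q`. -/
theorem exists_chain_of_le_dim_quot (X : Scheme.{u}) (ζ : X) (Q : Spec (X.presheaf.stalk ζ))
    (D : ℕ) (h : (D : WithBot ℕ∞) ≤ ringKrullDim (X.presheaf.stalk ζ ⧸ Q.asIdeal)) :
    ∃ l : LTSeries X, l.length = D ∧ ∀ j, l j ⤳ ζ ∧ X.fromSpecStalk ζ Q ⤳ l j := by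
  obtain ⟨q, hq⟩ := Order.le_krullDim_iff.mp h
  let c : PrimeSpectrum (X.presheaf.stalk ζ ⧸ Q.asIdeal) → Spec (X.presheaf.stalk ζ) :=
    fun a => PrimeSpectrum.comap (Ideal.Quotient.mk Q.asIdeal) a
  have hc : ∀ a b : PrimeSpectrum (X.presheaf.stalk ζ ⧸ Q.asIdeal),
      (c a).asIdeal ≤ (c b).asIdeal ↔ a ≤ b := by
    intro a b
    show a.asIdeal.comap (Ideal.Quotient.mk Q.asIdeal) ≤
      b.asIdeal.comap (Ideal.Quotient.mk Q.asIdeal) ↔ a.asIdeal ≤ b.asIdeal
    exact Ideal.comap_le_comap_iff_of_surjective _ Ideal.Quotient.mk_surjective _ _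
  let t : Fin (q.length + 1) → X := fun j => X.fromSpecStalk ζ (c (q (Fin.rev j)))
  have ht : StrictMono t := by
    intro j k hjk
    have h1 : q (Fin.rev k) < q (Fin.rev j) := q.strictMono (Fin.rev_lt_rev.mpr hjk)
    have h2 : t k ⤳ t j := by
      rw [fromSpecStalk_specializes_iff, hc]
      exact h1.le
    have h3 : ¬ t j ⤳ t k := by
      rw [fromSpecStalk_specializes_iff, hc]
      exact not_le_of_gt h1
    exact lt_of_le_not_ge h2 h3
  refine ⟨LTSeries.mk q.length t ht, hq, ?_⟩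
  intro j
  constructor
  · have : t j ∈ Set.range (X.fromSpecStalk ζ) := ⟨_, rfl⟩
    rwa [Scheme.range_fromSpecStalk] at this
  · show X.fromSpecStalk ζ Q ⤳ t j
    rw [fromSpecStalk_specializes_iff]
    show Q.asIdeal ≤ (q (Fin.rev j)).asIdeal.comap (Ideal.Quotient.mk Q.asIdeal)
    intro a ha
    rw [Ideal.mem_comap, Ideal.Quotient.eq_zero_iff_mem.mpr ha]
    exact Ideal.zero_mem _

theorem isMax_of_mem_minimalPrimes (X : Scheme.{u}) (x : X) (P : Spec (X.presheaf.stalk x))
    (hP : P.asIdeal ∈ minimalPrimes (X.presheaf.stalk x)) :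
    ∀ b : X, b ⤳ X.fromSpecStalk x P → b = X.fromSpecStalk x P := by
  intro b hb
  have hbx : b ⤳ x := by
    have : X.fromSpecStalk x P ∈ Set.range (X.fromSpecStalk x) := ⟨_, rfl⟩
    rw [Scheme.range_fromSpecStalk] at this
    exact hb.trans this
  obtain ⟨Qb, rfl⟩ := exists_fromSpecStalk_eq x hbx
  rw [fromSpecStalk_specializes_iff] at hb
  have h1 : P.asIdeal ≤ Qb.asIdeal := hP.2 ⟨Qb.2, bot_le⟩ hb
  congr 1
  exact PrimeSpectrum.ext (le_antisymm hb h1)

theorem mem_minimalPrimes_of_isMax (X : Scheme.{u}) (x : X) (P : Spec (X.presheaf.stalk x))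
    (h : ∀ b : X, b ⤳ X.fromSpecStalk x P → b = X.fromSpecStalk x P) :
    P.asIdeal ∈ minimalPrimes (X.presheaf.stalk x) := by
  refine ⟨⟨P.2, bot_le⟩, ?_⟩
  rintro q ⟨hq, -⟩ hqP
  let Q' : Spec (X.presheaf.stalk x) := ⟨q, hq⟩
  have h1 : X.fromSpecStalk x Q' ⤳ X.fromSpecStalk x P := by
    rw [fromSpecStalk_specializes_iff]; exact hqP
  have h2 := (X.fromSpecStalk x).isEmbedding.injective (h _ h1)
  rw [← h2]

end Groth.Agent.Lib.UOQH8
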