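import Mathlib
import Groth.Prelude.Def_CAlg2
import Groth.Prelude.Def_EGA43
import Groth.Prelude.Def_EGA4b
import Groth.Prelude.Def_Flat
import Groth.Agent.Lib.UOQ3_helper8
import Groth.Agent.Lib.UOQ5_helper8

/-! EGA IV 14.4.6-type, a) ⇒ c). -/

universe u
open AlgebraicGeometry CategoryTheory Limits TopologicalSpace IsLocalRing

namespace Groth.Agent.Lib.UOQH8

variable {X Y : Scheme.{u}} (f : X ⟶ Y)

/-- `f` is open at the generic points of the components of the fibre through `x`. -/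
abbrev HOpen (x : X) : Prop :=
  ∀ z : ↥(f.fiber (f.base x)), f.asFiber x ∈ closure {z} →
    (∀ z' : ↥(f.fiber (f.base x)), z ∈ closure {z'} → z' = z) →
    EGA43.IsOpenAt f.base ((f.fiberι (f.base x)).base z)

/-- `f` is universally open at the generic points of the components of the fibre through `x`. -/
abbrev HUnivOpen (x : X) : Prop :=
  ∀ z : ↥(f.fiber (f.base x)), f.asFiber x ∈ closure {z} →
    (∀ z' : ↥(f.fiber (f.base x)), z ∈ closure {z'} → z' = z) →
    EGA43.IsUnivOpenAt f ((f.fiberι (f.base x)).base z)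

theorem hOpen_of_hUnivOpen (x : X) (h : HUnivOpen f x) : HOpen f x :=
  fun z hz hmax => isOpenAt_of_isUnivOpenAt f _ (h z hz hmax)

theorem isEquidimAt_of_specializes (x x' : X) (hsp : x' ⤳ x) (hf : f.base x' = f.base x)
    (h : EGA43.IsEquidimAt f x) : EGA43.IsEquidimAt f x' := by
  obtain ⟨e, U, hxU, h1, h2⟩ := h
  refine ⟨e, U, hsp.mem_open U.2 hxU, ?_, h2⟩
  intro Z hZ
  obtain ⟨W, hW, hxW, hcl⟩ := h1 Z hZ
  exact ⟨W, hW, hf ▸ hxW, hcl⟩

theorem hUnivOpen_of_isEquidimAt [IsLocallyNoetherian Y] [LocallyOfFiniteType f] (x : X)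
    (hy : CAlg2.IsGeomUnibranch (Y.presheaf.stalk (f.base x)))
    (h : EGA43.IsEquidimAt f x) : HUnivOpen f x := by
  intro z hz _
  have hfz : f.base ((f.fiberι (f.base x)).base z) = f.base x :=
    Groth.Agent.FibRes2H8.fiberι_mem f (f.base x) z
  have hsp : (f.fiberι (f.base x)).base z ⤳ x := by
    have h1 : z ⤳ f.asFiber x := specializes_iff_mem_closure.mpr hz
    have := h1.map (f.fiberι (f.base x)).continuous
    rwa [Scheme.Hom.fiberι_asFiber] at this
  apply isUnivOpenAt_of_isEquidimAt f _ _ (isEquidimAt_of_specializes f x _ hsp hfz h)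
  rw [hfz]; exact hy

theorem coheight_eq_add_fibCoh [IsLocallyNoetherian X] [IsLocallyNoetherian Y] (x : X)
    (h : HOpen f x) :
    Order.coheight x = Order.coheight (f.base x) + FibCohH8.fibCoh f x := by
  have key := OpenAtDimH8.dim_formula f x h
  rw [FibCohH8.stalk_fiber_eq_fibCoh, AlgebraicGeometry.ringKrullDim_stalk_eq_coheight,
    AlgebraicGeometry.ringKrullDim_stalk_eq_coheight] at key
  have : ((Order.coheight x : ℕ∞) : WithBot ℕ∞) =
      ((Order.coheight (f.base x) + FibCohH8.fibCoh f x : ℕ∞) : WithBot ℕ∞) := by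
    rw [key]; push_cast; rfl
  exact WithBot.coe_inj.mp this

/-- a) ⇒ `O_{X,x}` equidimensional. -/
theorem isEquidim_stalk_of_isEquidimAt [IsLocallyNoetherian Y] [LocallyOfFiniteType f] (x : X)
    (hy : CAlg2.IsGeomUnibranch (Y.presheaf.stalk (f.base x)))
    (h : EGA43.IsEquidimAt f x) : EGA4.IsEquidim (X.presheaf.stalk x) := by
  haveI : IsLocallyNoetherian X := LocallyOfFiniteType.isLocallyNoetherian f
  intro p hp
  apply le_antisymm (ringKrullDim_quotient_le p)
  let P : Spec (X.presheaf.stalk x) := ⟨p, hp.1.1⟩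
  set ξ := X.fromSpecStalk x P with hξ
  have hξmax : ∀ b : X, b ⤳ ξ → b = ξ := isMax_of_mem_minimalPrimes X x P hp
  have hξx : ξ ⤳ x := by
    have : ξ ∈ Set.range (X.fromSpecStalk x) := ⟨_, rfl⟩
    rwa [Scheme.range_fromSpecStalk] at this
  have hopenf : HOpen f x := hOpen_of_hUnivOpen f x (hUnivOpen_of_isEquidimAt f x hy h)
  obtain ⟨e, U, hxU, h1, h2⟩ := h
  have hconst : ∀ u ∈ U, FlatMor.fibreDimAt f u = (e : WithBot ℕ∞) := fun u hu => by
    have := EquidimCharH8.fibreDimAt_eq_of_components (U.ι ≫ f) e h2 ⟨u, hu⟩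
    rwa [OpenAtEqH8.fibreDimAt_restrict] at this
  have hξU : ξ ∈ U := hξx.mem_open U.2 hxU
  obtain ⟨W, w, hW, hw⟩ := EquiCompH8.exists_sub ξ x hξx
  set ι := (Scheme.IdealSheafData.vanishingIdeal W).subschemeι with hι
  have hEg : EGA43.IsEquidimAt (ι ≫ f) w :=
    EquidimIrrH8.core f W ξ hW.symm hξmax w e (hconst ξ hξU) (by rw [hw]; exact (hconst x hxU).le)
      (EquidimIrrH8.closure_mem_of_part f U x h1 ξ hξU hξmax)
  have hgw : (ι ≫ f).base w = f.base x := by rw [← hw]; rfl
  have hopeng : HOpen (ι ≫ f) w := by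
    apply hOpen_of_hUnivOpen
    apply hUnivOpen_of_isEquidimAt _ w _ hEg
    rw [hgw]; exact hy
  haveI : IsLocallyNoetherian (Scheme.IdealSheafData.vanishingIdeal W).subscheme :=
    LocallyOfFiniteType.isLocallyNoetherian (ι ≫ f)
  have c1 := coheight_eq_add_fibCoh f x hopenf
  have c2 := coheight_eq_add_fibCoh (ι ≫ f) w hopeng
  rw [hgw] at c2
  -- fibre codimensions agree
  obtain ⟨n, hn⟩ := Groth.Agent.ResQuot2H8.exists_trdeg_nat f x
  have hn' : Dual3.resTrdeg f x = n := hn
  have htr : Dual3.resTrdeg (ι ≫ f) w = n := by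
    rw [OpenAtCompH8.resTrdeg_closedImmersion_comp, hw, hn']
  have hdg : FlatMor.fibreDimAt (ι ≫ f) w = (e : WithBot ℕ∞) := by
    apply le_antisymm
    · have hA := QSecH8.fibreDimAt_comp_le f ι ι.isEmbedding w
      rw [hw, hconst x hxU] at hA
      exact hA
    · obtain ⟨ξ'', hξ'', hgen⟩ := EquidimIrrH8.exists_generic_subscheme W ξ hW.symm
      have hB := EquidimIrrH8.fibreDimAt_generic_eq f W ξ hξmax ξ'' hξ'' hgen
      have hC := FibGenH8.fibreDimAt_le_of_specializes (ι ≫ f) (hgen w)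
      rw [hB, hconst ξ hξU] at hC
      exact hC
  have hfc : FibCohH8.fibCoh (ι ≫ f) w = FibCohH8.fibCoh f x := by
    have e1 := FibCohH8.fibreDimAt_eq f x
    have e2 := FibCohH8.fibreDimAt_eq (ι ≫ f) w
    rw [hconst x hxU, hn', Cardinal.toENat_nat] at e1
    rw [hdg, htr, Cardinal.toENat_nat] at e2
    have e3 := e2.symm.trans e1
    rw [← WithBot.coe_add, ← WithBot.coe_add] at e3
    have e4 := WithBot.coe_inj.mp e3
    exact (ENat.add_left_injective_of_ne_top (ENat.natCast_ne_top n)) e4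
  have hcoh : Order.coheight w = Order.coheight x := by rw [c1, c2, hfc]
  -- chain
  obtain ⟨D, hD⟩ := ENat.ne_top_iff_exists.mp (OpenAtEqH8.coheight_ne_top x)
  have hDw : Order.coheight w = (D : ℕ∞) := by rw [hcoh, ← hD]
  obtain ⟨l, hlhead, hllen⟩ := Order.exists_series_of_coheight_eq_coe w hDw
  have hιmono : StrictMono (ι.base : ↥(Scheme.IdealSheafData.vanishingIdeal W).subscheme → X) := by
    intro a b hab
    have h2 : b ⤳ a := hab.le
    have h3 : ¬ a ⤳ b := fun hh => (not_le_of_gt hab) hh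
    rw [← ι.isEmbedding.isInducing.specializes_iff] at h2 h3
    exact lt_of_le_not_ge h2 h3
  let l' : LTSeries X := l.map ι.base hιmono
  have hl'head : l'.head = x := by
    show ι.base l.head = x
    rw [hlhead, hw]
  have hlastx : l'.last ⤳ x := by
    rw [← hl'head]
    exact l'.head_le_last
  obtain ⟨Q', hQ'⟩ := OpenAtDimH8.exists_fromSpecStalk_eq x hlastx
  have hrange := EquidimSubH8.range_vanishingIdeal_subschemeι W
  have hpQ' : p ≤ Q'.asIdeal := by
    have h3 : ξ ⤳ l'.last := by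
      rw [specializes_iff_mem_closure, ← hW, ← hrange]
      exact ⟨l.last, rfl⟩
    rw [← hQ', hξ, OpenAtDimH8.fromSpecStalk_specializes_iff] at h3
    exact h3
  have hP1 := OpenAtCompH8.le_dim_quot_of_ltSeries X x l' hl'head Q' hQ'
  have hsurj : ringKrullDim (X.presheaf.stalk x ⧸ Q'.asIdeal) ≤
      ringKrullDim (X.presheaf.stalk x ⧸ p) :=
    ringKrullDim_le_of_surjective (Ideal.Quotient.factor hpQ') (Ideal.Quotient.factor_surjective hpQ')
  rw [AlgebraicGeometry.ringKrullDim_stalk_eq_coheight, ← hD]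
  have hlen : l'.length = D := hllen
  rw [hlen] at hP1
  exact hP1.trans hsurj

end Groth.Agent.Lib.UOQH8
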