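import Mathlib
import Groth.Prelude.Def_CAlg2
import Groth.Prelude.Def_EGA43
import Groth.Prelude.Def_EGA4b
import Groth.Prelude.Def_Flat
import Groth.Agent.Lib.UOQ6_helper8

/-! EGA IV 14.4.6-type, b) ⇒ a). -/

universe u
open AlgebraicGeometry CategoryTheory Limits TopologicalSpace IsLocalRing

namespace Groth.Agent.Lib.UOQH8

variable {X Y : Scheme.{u}} (f : X ⟶ Y)

theorem strictMono_of_isEmbedding {T X : Scheme.{u}} (i : T ⟶ X)
    (hi : Topology.IsEmbedding i.base) : StrictMono (i.base : T → X) := by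
  intro a b hab
  have h2 : b ⤳ a := hab.le
  have h3 : ¬ a ⤳ b := fun hh => (not_le_of_gt hab) hh
  rw [← hi.isInducing.specializes_iff] at h2 h3
  exact lt_of_le_not_ge h2 h3

/-- the key estimate for one irreducible component through `x`. -/
theorem key_component [IsLocallyNoetherian Y] [LocallyOfFiniteType f] (x : X) (ξ : X)
    (hξmax : ∀ b : X, b ⤳ ξ → b = ξ) (hξx : ξ ⤳ x) (D : ℕ)
    (l : LTSeries X) (hllen : l.length = D) (hl : ∀ j, l j ⤳ x ∧ ξ ⤳ l j)
    (eξ : ℕ) (heξ : FlatMor.fibreDimAt f ξ = (eξ : WithBot ℕ∞)) :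
    ∃ c₁ : ℕ∞, c₁ ≤ Order.coheight (f.base x) ∧
      (D : ℕ∞) + Cardinal.toENat (Dual3.resTrdeg f x) ≤ c₁ + (eξ : ℕ∞) ∧
      ((∃ b : Y, b ⤳ f.base ξ ∧ b ≠ f.base ξ) → c₁ + 1 ≤ Order.coheight (f.base x)) := by
  haveI : IsLocallyNoetherian X := LocallyOfFiniteType.isLocallyNoetherian f
  obtain ⟨W, w, hW, hw⟩ := EquiCompH8.exists_sub ξ x hξx
  set ιW := (Scheme.IdealSheafData.vanishingIdeal W).subschemeι with hιW
  have hrangeW := EquidimSubH8.range_vanishingIdeal_subschemeι W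
  let C : Closeds Y := ⟨closure {f.base ξ}, isClosed_closure⟩
  set ιC := (Scheme.IdealSheafData.vanishingIdeal C).subschemeι with hιC
  have hrangeC : Set.range ιC.base = closure {f.base ξ} :=
    EquidimSubH8.range_vanishingIdeal_subschemeι C
  haveI : IsLocallyNoetherian (Scheme.IdealSheafData.vanishingIdeal C).subscheme :=
    LocallyOfFiniteType.isLocallyNoetherian ιC
  set g := ιW ≫ f with hg
  have hfx : f.base x ∈ closure {f.base ξ} := (hξx.map f.continuous).mem_closure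
  obtain ⟨y₁, hy₁⟩ : f.base x ∈ Set.range ιC.base := by rw [hrangeC]; exact hfx
  have hgw : g.base w = f.base x := by rw [← hw]; rfl
  obtain ⟨τ₀, hτ1, hτ2⟩ := Scheme.Pullback.exists_preimage_pullback (f := g) (g := ιC) w y₁
    (by rw [hgw, hy₁])
  set i : pullback g ιC ⟶ X := pullback.fst g ιC ≫ ιW with hi
  have hiemb : Topology.IsEmbedding i.base := i.isEmbedding
  have hiτ₀ : i.base τ₀ = x := by
    show ιW.base ((pullback.fst g ιC).base τ₀) = x
    rw [hτ1, hw]
  have hrange_i : Set.range i.base = closure {ξ} := by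
    have h1 : Set.range (pullback.fst g ιC).base = Set.univ := by
      rw [Scheme.Pullback.range_fst]
      apply Set.eq_univ_of_forall
      intro a
      show g.base a ∈ Set.range ιC.base
      rw [hrangeC]
      have ha : ιW.base a ∈ closure {ξ} := by rw [← hW, ← hrangeW]; exact ⟨a, rfl⟩
      have : ξ ⤳ ιW.base a := specializes_iff_mem_closure.mpr ha
      exact (this.map f.continuous).mem_closure
    have h2 : (i.base : ↥(pullback g ιC) → X) = ιW.base ∘ (pullback.fst g ιC).base := by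
      ext a; rfl
    rw [h2, Set.range_comp, h1, Set.image_univ, hrangeW, hW]
  -- coheight bound
  have hcoh : (l.length : ℕ∞) ≤ Order.coheight τ₀ := by
    apply le_coheight_of_chain i hiemb τ₀ l
    intro j
    refine ⟨?_, ?_⟩
    · rw [hrange_i]; exact (hl j).2.mem_closure
    · rw [hiτ₀]; exact (hl j).1
  -- residue transcendence degrees
  have hcomm : pullback.snd g ιC ≫ ιC = i ≫ f := by
    rw [hi, Category.assoc, ← pullback.condition]
  have hR : ∀ τ : ↥(pullback g ιC),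
      Dual3.resTrdeg (pullback.snd g ιC) τ = Dual3.resTrdeg f (i.base τ) := by
    intro τ
    have h1 := ResTrdegH8.resTrdeg_comp (pullback.snd g ιC) ιC τ
    rw [ResTrdegH8.resTrdeg_eq_zero_of_lqf ιC, zero_add] at h1
    rw [← h1, ResTrdegH8.resTrdeg_congr hcomm, OpenAtCompH8.resTrdeg_closedImmersion_comp]
  have htrξ : Dual3.resTrdeg f ξ ≤ eξ := by
    apply FibGenH8.resTrdeg_le_of_toENat_le
    have h1 := FibGenH8.fibreDimAt_of_isMax f ξ hξmax
    rw [heξ] at h1
    exact (WithBot.coe_inj.mp h1).ge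
  have hH : ∀ τ : ↥(pullback g ιC), (∀ τ' : ↥(pullback g ιC), τ' ⤳ τ → τ' = τ) → τ ⤳ τ₀ →
      Dual3.resTrdeg (pullback.snd g ιC) τ ≤ eξ := by
    intro τ hτmax _
    obtain ⟨τξ, hτξ⟩ : ξ ∈ Set.range i.base := by rw [hrange_i]; exact subset_closure rfl
    have hτin : i.base τ ∈ closure {ξ} := by rw [← hrange_i]; exact ⟨τ, rfl⟩
    have h1 : τξ ⤳ τ := by
      rw [← hiemb.isInducing.specializes_iff, hτξ]
      exact specializes_iff_mem_closure.mpr hτin
    have h2 := hτmax τξ h1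
    rw [hR, ← h2, hτξ]
    exact htrξ
  have key := FibGenH8.coheight_add_trdeg_le (pullback.snd g ιC) τ₀ eξ hH
  rw [hR, hiτ₀, hτ2] at key
  refine ⟨Order.coheight y₁, ?_, ?_, ?_⟩
  · have := Order.coheight_le_coheight_apply_of_strictMono ιC.base
      (strictMono_of_isEmbedding ιC ιC.isEmbedding) y₁
    rwa [hy₁] at this
  · rw [← hllen]
    exact (add_le_add_left hcoh _).trans key
  · rintro ⟨b, hb, hbne⟩
    obtain ⟨c, hc⟩ := ENat.ne_top_iff_exists.mp (OpenAtEqH8.coheight_ne_top y₁)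
    obtain ⟨l₁, hl₁head, hl₁len⟩ := Order.exists_series_of_coheight_eq_coe y₁ hc.symm
    let l₁' : LTSeries Y := l₁.map ιC.base (strictMono_of_isEmbedding ιC ιC.isEmbedding)
    have hhead : l₁'.head = f.base x := by
      show ιC.base l₁.head = f.base x
      rw [hl₁head, hy₁]
    have hlast : f.base ξ ⤳ l₁'.last := by
      rw [specializes_iff_mem_closure, ← hrangeC]
      exact ⟨l₁.last, rfl⟩
    have hlt : l₁'.last < b := by
      have h1 : b ⤳ l₁'.last := hb.trans hlast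
      refine lt_of_le_not_ge h1 ?_
      intro h2
      have h3 : l₁'.last ⤳ b := h2
      exact hbne ((hb.antisymm (hlast.trans h3)).eq)
    have h4 := Order.length_le_coheight_head (p := l₁'.snoc b hlt)
    rw [RelSeries.head_snoc, hhead, RelSeries.snoc_length] at h4
    rw [← hc]
    have : l₁'.length = c := hl₁len
    rw [this] at h4
    exact_mod_cast h4

end Groth.Agent.Lib.UOQH8

namespace Groth.Agent.Lib.UOQH8

variable {X Y : Scheme.{u}} (f : X ⟶ Y)

/-- b) ⇒ a) of EGA IV 14.4.6. -/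
theorem isEquidimAt_of_isEquidim_stalk [IsLocallyNoetherian Y] [LocallyOfFiniteType f] (x : X)
    (hR : EGA4.IsEquidim (X.presheaf.stalk x)) (hopen : HOpen f x) : EGA43.IsEquidimAt f x := by
  haveI : IsLocallyNoetherian X := LocallyOfFiniteType.isLocallyNoetherian f
  obtain ⟨e, he⟩ := EquidimIrrH8.exists_nat_fibreDimAt f x
  apply EquiCompH8.isEquidimAt_of_maxpts f x e he.le
  intro ξ hξmax hξx
  have c1 := coheight_eq_add_fibCoh f x hopen
  obtain ⟨D, hD⟩ := ENat.ne_top_iff_exists.mp (OpenAtEqH8.coheight_ne_top x)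
  obtain ⟨cY, hcY⟩ := ENat.ne_top_iff_exists.mp (OpenAtEqH8.coheight_ne_top (f.base x))
  obtain ⟨Q, hQ⟩ := OpenAtDimH8.exists_fromSpecStalk_eq x hξx
  have hQmin : Q.asIdeal ∈ minimalPrimes (X.presheaf.stalk x) :=
    mem_minimalPrimes_of_isMax X x Q (by rw [hQ]; exact hξmax)
  have hDQ : (D : WithBot ℕ∞) ≤ ringKrullDim (X.presheaf.stalk x ⧸ Q.asIdeal) := by
    rw [hR _ hQmin, AlgebraicGeometry.ringKrullDim_stalk_eq_coheight, ← hD]
    rfl
  obtain ⟨l, hllen, hl⟩ := exists_chain_of_le_dim_quot X x Q D hDQ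
  rw [hQ] at hl
  obtain ⟨eξ, heξ⟩ := EquidimIrrH8.exists_nat_fibreDimAt f ξ
  obtain ⟨c₁, hc₁, hkey, hdom⟩ := key_component f x ξ hξmax hξx D l hllen hl eξ heξ
  obtain ⟨n, hn⟩ := Groth.Agent.ResQuot2H8.exists_trdeg_nat f x
  have hn' : Dual3.resTrdeg f x = n := hn
  rw [hn', Cardinal.toENat_nat] at hkey
  have e1 := FibCohH8.fibreDimAt_eq f x
  rw [he, hn', Cardinal.toENat_nat, ← WithBot.coe_add] at e1
  have e1' : FibCohH8.fibCoh f x + (n : ℕ∞) = (e : ℕ∞) := (WithBot.coe_inj.mp e1).symm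
  have hsemi : FlatMor.fibreDimAt f ξ ≤ FlatMor.fibreDimAt f x :=
    FibGenH8.fibreDimAt_le_of_specializes f hξx
  rw [heξ, he] at hsemi
  have hsemi' : eξ ≤ e := by exact_mod_cast hsemi
  rw [← hcY] at hc₁ hdom c1
  rw [← hD] at c1
  obtain ⟨c₁n, rfl⟩ : ∃ m : ℕ, c₁ = m := by
    have : c₁ ≠ ⊤ := ne_top_of_le_ne_top (ENat.natCast_ne_top cY) hc₁
    obtain ⟨m, hm⟩ := ENat.ne_top_iff_exists.mp this
    exact ⟨m, hm.symm⟩
  obtain ⟨φ, hφ⟩ : ∃ m : ℕ, FibCohH8.fibCoh f x = m := by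
    have : FibCohH8.fibCoh f x ≠ ⊤ := by
      intro h
      rw [h] at e1'
      simp at e1'
    obtain ⟨m, hm⟩ := ENat.ne_top_iff_exists.mp this
    exact ⟨m, hm.symm⟩
  rw [hφ] at e1' c1
  have a1 : φ + n = e := by exact_mod_cast e1'
  have a2 : D = cY + φ := by exact_mod_cast c1
  have a3 : c₁n ≤ cY := by exact_mod_cast hc₁
  have a4 : D + n ≤ c₁n + eξ := by exact_mod_cast hkey
  have hee : eξ = e := by omega
  refine ⟨by rw [heξ, hee], ?_⟩
  intro b hb
  by_contra hne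
  have a5 := hdom ⟨b, hb, hne⟩
  have a5' : c₁n + 1 ≤ cY := by exact_mod_cast a5
  omega

end Groth.Agent.Lib.UOQH8
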