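import Mathlib
import Groth.Prelude.Def_CAlg2
import Groth.Prelude.Def_EGA43
import Groth.Prelude.Def_Flat
import Groth.Agent.Lib.UOQ4_helper8
import Groth.Agent.Lib.QSecD_helper8

/-! EGA IV 14.5-type: universal openness along a fibre over a geometrically unibranch point of an
irreducible base, and quasi-sections. -/

universe u
open AlgebraicGeometry CategoryTheory Limits TopologicalSpace

namespace Groth.Agent.Lib.UOQH8

variable {X Y : Scheme.{u}} (f : X ⟶ Y)

/-- universal openness at the maximal points of the fibre gives b''). -/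
theorem bsecond_of_fibreMax [LocallyOfFiniteType f] (y η : Y) (hη : η ⤳ y)
    (ha : ∀ z : X, f.base z = y → (∀ z' : X, f.base z' = y → z' ⤳ z → z' = z) →
      EGA43.IsUnivOpenAt f z) (U : X.Opens) :
    topologicalKrullDim ↥((U : Set X) ∩ f.base ⁻¹' {y}) ≤
      topologicalKrullDim ↥((U : Set X) ∩ f.base ⁻¹' {η}) := by
  rw [← OpenGenH8.dim_fiber_restrict f U y, TopDimLocH8.topDim_le_iff_forall_localDim]
  intro p
  rw [OpenGenH8.localDim_fiber_eq, OpenAtEqH8.fibreDimAt_restrict]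
  have hu : (U.ι ≫ f).base (((U.ι ≫ f).fiberι y).base p) = y :=
    Groth.Agent.FibRes2H8.fiberι_mem (U.ι ≫ f) y p
  generalize ((U.ι ≫ f).fiberι y).base p = u at hu
  have hx : f.base (U.ι.base u) = y := hu
  obtain ⟨ζ, hζf, hζx, hζmax, hζdim⟩ := EquidimIrrH8.exists_fibre_max_dim f (U.ι.base u)
  have hζy : f.base ζ = y := hζf.trans hx
  have hζU : ζ ∈ U := hζx.mem_open U.2 u.2
  have hζmax' : ∀ x'' : X, f.base x'' = f.base ζ → x'' ⤳ ζ → x'' = ζ :=
    fun x'' h1 h2 => hζmax x'' (h1.trans hζf) h2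
  have hζmax'' : ∀ x' : X, f.base x' = f.base ζ → ζ ∈ closure {x'} → x' = ζ :=
    fun x' h1 h2 => hζmax' x' h1 (specializes_iff_mem_closure.mpr h2)
  have hUO : EGA43.IsUnivOpenAt f ζ :=
    ha ζ hζy (fun z' h1 h2 => hζmax' z' (h1.trans hζy.symm) h2)
  have h1 := Groth.Agent.Lib.UOMaxH8.a_imp_bprime f ζ hζmax'' hUO U hζU η (hζy ▸ hη)
  rw [Groth.Agent.Lib.UOMaxH8.fibreDimAt_of_fibreMax f ζ hζmax'] at h1
  exact hζdim.trans h1

/-- the component in b) is equidimensional over the base at `x`. -/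
theorem isEquidimAt_of_b [LocallyOfFiniteType f] (x : X)
    (Z : Set X) (hZ : Z ∈ irreducibleComponents (X : Type u)) (hx : x ∈ Z)
    (hdom : closure (f.base '' Z) ∈ irreducibleComponents (Y : Type u))
    (hdim : ∀ η : Y, closure ({η} : Set Y) = closure (f.base '' Z) →
      FlatMor.localDim ↥(Z ∩ f.base ⁻¹' {f.base x}) ⟨x, ⟨hx, rfl⟩⟩ =
        topologicalKrullDim ↥(Z ∩ f.base ⁻¹' {η})) :
    ∃ (W : Closeds X) (w : ↥(Scheme.IdealSheafData.vanishingIdeal W).subscheme),
      (Scheme.IdealSheafData.vanishingIdeal W).subschemeι.base w = x ∧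
      EGA43.IsEquidimAt ((Scheme.IdealSheafData.vanishingIdeal W).subschemeι ≫ f) w := by
  obtain ⟨z, hzcl, hzmax⟩ :=
    Groth.Agent.Lib.EquidimAtH8.exists_generic_of_mem_irreducibleComponents Z hZ
  let W : Closeds X := ⟨Z, isClosed_of_mem_irreducibleComponents Z hZ⟩
  have hrange := EquidimSubH8.range_vanishingIdeal_subschemeι W
  obtain ⟨w, hw⟩ : x ∈ Set.range (Scheme.IdealSheafData.vanishingIdeal W).subschemeι.base := by
    rw [hrange]; exact hx
  obtain ⟨ξ'', hξ'', hgen⟩ := EquidimIrrH8.exists_generic_subscheme W z hzcl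
  obtain ⟨n, hn⟩ := EquidimIrrH8.exists_nat_fibreDimAt f z
  have hB := EquidimIrrH8.fibreDimAt_generic_eq f W z hzmax ξ'' hξ'' hgen
  have hηcl : closure ({f.base z} : Set Y) = closure (f.base '' Z) := by
    rw [← hzcl, EquiCompH8.closure_image_closure f z]
  have h2 : FlatMor.fibreDimAt ((Scheme.IdealSheafData.vanishingIdeal W).subschemeι ≫ f) w ≤
      (n : WithBot ℕ∞) := by
    rw [EquidimSubH8.bridge f (Scheme.IdealSheafData.vanishingIdeal W).subschemeι
      (Scheme.IdealSheafData.vanishingIdeal W).subschemeι.isEmbedding w x hw Z hrange ⟨hx, rfl⟩,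
      hdim (f.base z) hηcl, ← hn, FibGenH8.fibreDimAt_of_isMax f z hzmax]
    have h3 := FibClosH8.dim_closure_inter_fiber f z
    rw [hzcl] at h3
    exact h3.le
  have hfξ : ((Scheme.IdealSheafData.vanishingIdeal W).subschemeι ≫ f).base ξ'' = f.base z := by
    rw [← hξ'']; rfl
  refine ⟨W, w, hw, ?_⟩
  refine EquidimIrrH8.isEquidimAt_of_generic _ ξ'' w hgen n ?_ h2 ?_
  · rw [hB, hn]
  · rw [hfξ, hηcl]; exact hdom

/-- a quasi-section through `x` over a unibranch point forces `f` to be open at `x`. -/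
theorem isOpenAt_of_goal [IsLocallyNoetherian Y] [IrreducibleSpace Y] (x : X)
    (hy : CAlg2.IsGeomUnibranch (Y.presheaf.stalk (f.base x))) (h : QSecH8.Goal f x) :
    EGA43.IsOpenAt f.base x := by
  obtain ⟨T, i, _, hirr, _, ⟨t, ht⟩, hlft, hlqf, _, hdom⟩ := h
  haveI := hirr
  haveI := hlft
  haveI := hlqf
  have hgt : (i ≫ f).base t = f.base x := by rw [← ht]; rfl
  have hgen : (i ≫ f).base (genericPoint T) = genericPoint Y := by
    have h1 : IsGenericPoint ((i ≫ f).base (genericPoint T)) (Set.univ : Set Y) := by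
      have h2 : IsGenericPoint ((i ≫ f).base (genericPoint T))
          (closure ((i ≫ f).base '' (Set.univ : Set T))) :=
        (genericPoint_spec T).image (i ≫ f).continuous
      rw [Set.image_univ] at h2
      have h3 : closure (Set.range (i ≫ f).base) = Set.univ := hdom.1.closure_eq
      rwa [h3] at h2
    exact (h1.eq (genericPoint_spec Y))
  have hu : CAlg2.IsUnibranch (Y.presheaf.stalk ((i ≫ f).base t)) := by
    rw [hgt]; exact hy.1
  have hcomp : ∀ ξ : T, (∀ b : T, b ⤳ ξ → b = ξ) → ξ ⤳ t →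
      ∀ b : Y, b ⤳ (i ≫ f).base ξ → b = (i ≫ f).base ξ := by
    intro ξ hξmax _ b hb
    have h1 : genericPoint T = ξ := hξmax _ (genericPoint_specializes ξ)
    rw [← h1, hgen] at hb ⊢
    exact (hb.antisymm (genericPoint_specializes b)).eq
  haveI : LocallyOfFinitePresentation (i ≫ f) := inferInstance
  have hop : EGA43.IsOpenAt (i ≫ f).base t :=
    Groth.Agent.Lib.UniOpenH8.isOpenAt_of_generizations (i ≫ f) t
      (fun y' hy' => Groth.Agent.Lib.UniOpenH8.exists_generization_of_isUnibranch (i ≫ f) t hu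
        hcomp y' hy')
  have h2 : ((i ≫ f).base : T → Y) = f.base ∘ i.base := by
    ext a; rfl
  rw [h2] at hop
  have := UnivOpenAtH8.isOpenAt_of_comp (i.continuous.continuousAt) hop
  rwa [ht] at this

/-- a nonempty locally closed subset of a fibre contains a point closed in the fibre. -/
theorem exists_closed_in_fibre [LocallyOfFiniteType f] (y : Y) (S : Set X) (hS : IsLocallyClosed S)
    (x' : X) (hx'S : x' ∈ S) (hx'y : f.base x' = y) :
    ∃ x ∈ S, f.base x = y ∧ ∀ x'' : X, f.base x'' = y → x ⤳ x'' → x'' = x := by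
  have hemb := (f.fiberι y).isEmbedding
  have hr : Set.range (f.fiberι y).base = f.base ⁻¹' {y} := Scheme.Hom.range_fiberι f y
  obtain ⟨p', hp'⟩ : x' ∈ Set.range (f.fiberι y).base := by rw [hr]; exact hx'y
  have hlc : IsLocallyClosed ((f.fiberι y).base ⁻¹' S) := hS.preimage (f.fiberι y).continuous
  obtain ⟨p, hpS, hpcl⟩ := nonempty_inter_closedPoints (X := ↥(f.fiber y))
    (Z := (f.fiberι y).base ⁻¹' S) ⟨p', by rw [Set.mem_preimage, hp']; exact hx'S⟩ hlc
  refine ⟨(f.fiberι y).base p, hpS, Groth.Agent.FibRes2H8.fiberι_mem f y p, ?_⟩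
  intro x'' hx''y hsp
  obtain ⟨p'', hp''⟩ : x'' ∈ Set.range (f.fiberι y).base := by rw [hr]; exact hx''y
  rw [← hp'', hemb.isInducing.specializes_iff] at hsp
  have h1 : p'' ∈ closure ({p} : Set ↥(f.fiber y)) := hsp.mem_closure
  have h2 : IsClosed ({p} : Set ↥(f.fiber y)) := hpcl
  rw [h2.closure_eq] at h1
  rw [← hp'', h1]

/-- d) ⇒ b). -/
theorem isOpenAt_of_quasiSections [IsLocallyNoetherian Y] [IrreducibleSpace Y]
    [LocallyOfFiniteType f] (y : Y) (hy : CAlg2.IsGeomUnibranch (Y.presheaf.stalk y))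
    (hd : ∀ x : X, f.base x = y → (∀ x' : X, f.base x' = y → x ⤳ x' → x' = x) → QSecH8.Goal f x)
    (x' : X) (hx' : f.base x' = y) : EGA43.IsOpenAt f.base x' := by
  intro N hN
  obtain ⟨N₀, hN₀N, hN₀open, hx'N₀⟩ := mem_nhds_iff.mp hN
  have hlc : IsLocallyClosed (N₀ ∩ closure ({x'} : Set X)) :=
    hN₀open.isLocallyClosed.inter isClosed_closure.isLocallyClosed
  obtain ⟨x, hxS, hxy, hxcl⟩ := exists_closed_in_fibre f y _ hlc x' ⟨hx'N₀, subset_closure rfl⟩ hx'
  have hy' : CAlg2.IsGeomUnibranch (Y.presheaf.stalk (f.base x)) := by rw [hxy]; exact hy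
  have hop := isOpenAt_of_goal f x hy' (hd x hxy hxcl)
  have h1 : f.base '' N ∈ nhds (f.base x) :=
    hop N (Filter.mem_of_superset (hN₀open.mem_nhds hxS.1) hN₀N)
  rw [hx', ← hxy]
  exact h1

end Groth.Agent.Lib.UOQH8
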