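import Mathlib
import Groth.Prelude.Def_EGA43
import Groth.Agent.Lib.UO4_helper8
import Groth.Agent.Lib.EquidimIrr2_helper8
import Groth.Agent.Lib.QSecC_helper8

/-! Universal openness from domination of irreducible components after finite type base change
(EGA IV 14.3.? type). -/

set_option autoImplicit false
universe u

open CategoryTheory AlgebraicGeometry Limits TopologicalSpace

namespace UORH8

theorem exists_generization_of_dense {X Y P : Scheme.{u}} (f : X ⟶ Y) (π : P ⟶ Y)
    [LocallyOfFiniteType π] [QuasiCompact π]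
    (H : ∀ (Y' : Scheme.{u}) (g : Y' ⟶ Y) [IrreducibleSpace Y'] [LocallyOfFiniteType g]
      [QuasiCompact g], ∀ Z ∈ irreducibleComponents (↥(pullback f g) : Type u),
        Dense ((pullback.snd f g).base '' Z))
    (xd : ↥(pullback f π)) (y' : P) (hy' : y' ⤳ (pullback.snd f π).base xd) :
    ∃ x' : ↥(pullback f π), x' ⤳ xd ∧ (pullback.snd f π).base x' = y' := by
  let C : Closeds P := ⟨closure {y'}, isClosed_closure⟩
  obtain ⟨z', hz', hgen⟩ := EquidimIrrH8.exists_generic_subscheme C y' rfl
  set ιC := (Scheme.IdealSheafData.vanishingIdeal C).subschemeι with hιC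
  haveI : IrreducibleSpace ↥(Scheme.IdealSheafData.vanishingIdeal C).subscheme :=
    QSecH8.irreducibleSpace_of_forall_specializes z' hgen
  have hrange := EquidimSubH8.range_vanishingIdeal_subschemeι C
  obtain ⟨y₁, hy₁⟩ : (pullback.snd f π).base xd ∈ Set.range ιC.base := by
    rw [hrange]; exact hy'.mem_closure
  obtain ⟨p₀, hp₀1, hp₀2⟩ := Scheme.Pullback.exists_preimage_pullback
    (f := pullback.snd f π) (g := ιC) xd y₁ hy₁.symm
  let e := pullbackLeftPullbackSndIso f π ιC
  have he2 : ∀ t, (pullback.snd f (ιC ≫ π)).base (e.hom.base t) =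
      (pullback.snd (pullback.snd f π) ιC).base t :=
    fun t => congrArg (fun k : pullback (pullback.snd f π) ιC ⟶ _ => k.base t)
      (pullbackLeftPullbackSndIso_hom_snd f π ιC)
  have he3 : ∀ t, (pullback.snd (pullback.snd f π) ιC).base (e.inv.base t) =
      (pullback.snd f (ιC ≫ π)).base t :=
    fun t => congrArg (fun k : pullback f (ιC ≫ π) ⟶ _ => k.base t)
      (pullbackLeftPullbackSndIso_inv_snd_snd f π ιC)
  have hinv : ∀ t, e.inv.base (e.hom.base t) = t := fun t => by
    rw [← Scheme.Hom.comp_apply, e.hom_inv_id]; rfl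
  -- the component through `e.hom p₀`
  set q₀ := e.hom.base p₀ with hq₀
  have hZ : irreducibleComponent q₀ ∈ irreducibleComponents (↥(pullback f (ιC ≫ π)) : Type u) :=
    irreducibleComponent_mem_irreducibleComponents q₀
  obtain ⟨ζ, hζ⟩ := QuasiSober.sober (isIrreducible_irreducibleComponent (x := q₀))
    isClosed_irreducibleComponent
  have hζq : ζ ⤳ q₀ := hζ.specializes mem_irreducibleComponent
  have hdense := H _ (ιC ≫ π) _ hZ
  have hsndζ : (pullback.snd f (ιC ≫ π)).base ζ = z' := by
    have h1 : ∀ a : ↥(Scheme.IdealSheafData.vanishingIdeal C).subscheme,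
        (pullback.snd f (ιC ≫ π)).base ζ ⤳ a := by
      intro a
      rw [specializes_iff_mem_closure]
      have h2 : (pullback.snd f (ιC ≫ π)).base '' irreducibleComponent q₀ ⊆
          closure {(pullback.snd f (ιC ≫ π)).base ζ} := by
        rintro _ ⟨b, hb, rfl⟩
        exact ((hζ.specializes hb).map (pullback.snd f (ιC ≫ π)).continuous).mem_closure
      exact closure_minimal h2 isClosed_closure (hdense a)
    exact ((h1 z').antisymm (hgen _)).eq
  have hζ' : e.inv.base ζ ⤳ p₀ := by
    have := hζq.map e.inv.continuous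
    rwa [hq₀, hinv] at this
  refine ⟨(pullback.fst (pullback.snd f π) ιC).base (e.inv.base ζ), ?_, ?_⟩
  · have := hζ'.map (pullback.fst (pullback.snd f π) ιC).continuous
    rwa [hp₀1] at this
  · have hc : (pullback.snd f π).base ((pullback.fst (pullback.snd f π) ιC).base (e.inv.base ζ)) =
        ιC.base ((pullback.snd (pullback.snd f π) ιC).base (e.inv.base ζ)) :=
      congrArg (fun k : pullback (pullback.snd f π) ιC ⟶ _ => k.base (e.inv.base ζ))
        pullback.condition
    rw [hc, he3, hsndζ, hz']

theorem universallyOpen_of_dense {X Y : Scheme.{u}} (f : X ⟶ Y) [LocallyOfFinitePresentation f]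
    (H : ∀ (Y' : Scheme.{u}) (g : Y' ⟶ Y) [IrreducibleSpace Y'] [LocallyOfFiniteType g]
      [QuasiCompact g], ∀ Z ∈ irreducibleComponents (↥(pullback f g) : Type u),
        Dense ((pullback.snd f g).base '' Z)) : UniversallyOpen f := by
  apply UOH8.universallyOpen_of_affineSpace f
  intro n _
  apply isOpenMap_of_generalizingMap
  intro xd y' hy'
  exact exists_generization_of_dense f _ H xd y' hy'

end UORH8
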