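import Mathlib
import Groth.Prelude.Def_EGA43
import Groth.Agent.Lib.QSecD_helper8
import Groth.Agent.Lib.HensQF1_helper8
import Groth.Agent.Lib.HenselQF2_helper3
import Groth.Agent.Lib.InertUnr1_helper8

/-! EGA IV 14.5.? : over a complete local domain, an equidimensional morphism has a finite local
quasi-section through a point closed in the closed fibre. -/

set_option autoImplicit false
universe u

open CategoryTheory AlgebraicGeometry Limits TopologicalSpace IsLocalRing

namespace UORH8

open Groth.Agent.HensQFH8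

theorem main4974 {A : Type u} [CommRing A] [IsDomain A]
    [IsNoetherianRing A] [IsLocalRing A] [IsAdicComplete (IsLocalRing.maximalIdeal A) A]
    {X : Scheme.{u}}
    (f : X ⟶ Spec (CommRingCat.of A)) [LocallyOfFiniteType f] (x : X)
    (hx : f.base x = IsLocalRing.closedPoint A)
    (hf : EGA43.IsEquidimAt f x) (hcl : ∀ x' : X, f.base x' = f.base x → x ⤳ x' → x' = x) :
    ∃ (A' : Type u) (_ : CommRing A') (_ : IsDomain A') (_ : IsLocalRing A') (_ : Algebra A A')
      (_ : Module.Finite A A'),
      Function.Injective (algebraMap A A') ∧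
      ∃ h : Spec (CommRingCat.of A') ⟶ X,
        h ≫ f = Spec.map (CommRingCat.ofHom (algebraMap A A')) ∧
        IsImmersion h ∧ x ∈ Set.range h.base := by
  haveI : HenselianLocalRing A := InertUnrH8.henselianLocalRing_of_isAdicComplete A
  obtain ⟨T, i, himm, hirr, hred, ⟨t, ht⟩, hlft, hlqf, hqc, hdom⟩ := QSecH8.main f x hf hcl
  haveI := himm
  haveI := hirr
  haveI := hred
  haveI := hlft
  haveI := hlqf
  haveI : IsIntegral T := isIntegral_of_irreducibleSpace_of_isReduced T
  set g := i ≫ f with hg
  obtain ⟨U, hU, htU⟩ : ∃ U : T.Opens, IsAffineOpen U ∧ t ∈ U := by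
    obtain ⟨_, ⟨U, hU, rfl⟩, htU, -⟩ :=
      T.isBasis_affineOpens.exists_subset_of_mem_open (Set.mem_univ t) isOpen_univ
    exact ⟨U, hU, htU⟩
  haveI hdomS : IsDomain Γ(T, U) := @IsIntegral.component_integral T _ U ⟨⟨t, htU⟩⟩
  have hft := phi_finiteType g hU
  have hqf := phi_quasiFinite g hU
  algebraize [(phi g U).hom]
  obtain ⟨q, hq⟩ : ∃ q, q = hU.primeIdealOf ⟨t, htU⟩ := ⟨_, rfl⟩
  have hqt : hU.fromSpec q = t := by rw [hq]; exact hU.fromSpec_primeIdealOf ⟨t, htU⟩
  have hgt : g.base t = IsLocalRing.closedPoint A := by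
    rw [hg, Scheme.Hom.comp_apply, ht]; exact hx
  haveI : q.asIdeal.LiesOver (IsLocalRing.maximalIdeal A) := by
    constructor
    have h1 : (hU.fromSpec ≫ g) q = IsLocalRing.closedPoint A := by
      rw [Scheme.Hom.comp_apply, hqt]; exact hgt
    rw [fromSpec_comp g hU] at h1
    have h2 := congrArg PrimeSpectrum.asIdeal h1
    exact h2.symm
  obtain ⟨ε, hε, hεq, hfin, huniq⟩ :=
    Groth.Agent.Lib.HenselFiniteH3.exists_idem_finite_unique A Γ(T, U) q.asIdeal
  -- `Γ(T, U)` is a domain, so `ε = 1`
  have hε1 : ε = 1 := by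
    have h0 : ε * (1 - ε) = 0 := by
      have : ε * ε = ε := hε
      rw [mul_sub, mul_one, this, sub_self]
    rcases mul_eq_zero.mp h0 with h | h
    · exact absurd (h ▸ q.asIdeal.zero_mem) hεq
    · exact (sub_eq_zero.mp h).symm
  subst hε1
  have hbot : Ideal.span ({(1 : Γ(T, U)) - 1} : Set Γ(T, U)) = ⊥ := by
    rw [sub_self, Ideal.span_singleton_eq_bot]
  haveI hfinS : Module.Finite A Γ(T, U) := by
    rw [hbot] at hfin
    exact Module.Finite.equiv ((RingEquiv.quotientBot Γ(T, U)).toAddEquiv.toLinearEquiv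
      (fun a s => by
        show (RingEquiv.quotientBot Γ(T, U)) (a • s) = a • (RingEquiv.quotientBot Γ(T, U)) s
        rw [Algebra.smul_def, Algebra.smul_def, map_mul]
        rfl))
  -- local
  haveI hloc : IsLocalRing Γ(T, U) := by
    apply IsLocalRing.of_unique_max_ideal
    refine ⟨q.asIdeal, ?_, ?_⟩
    · have hmax : (IsLocalRing.maximalIdeal A).IsMaximal := inferInstance
      exact Ideal.IsMaximal.of_liesOver_isMaximal q.asIdeal (IsLocalRing.maximalIdeal A)
    · intro Q hQ
      haveI := hQ
      haveI : Q.IsPrime := hQ.isPrime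
      have hQover : Q.LiesOver (IsLocalRing.maximalIdeal A) := by
        constructor
        have : (Q.comap (algebraMap A Γ(T, U))).IsMaximal :=
          Ideal.isMaximal_comap_of_isIntegral_of_isMaximal Q
        exact (IsLocalRing.eq_maximalIdeal this).symm
      exact huniq Q hQ.isPrime hQover (fun h1 => hQ.ne_top ((Ideal.eq_top_iff_one Q).mpr h1))
  -- injective
  have hinj : Function.Injective (algebraMap A Γ(T, U)) := by
    rw [injective_iff_map_eq_zero]
    intro a ha
    -- dominant
    have hdense : DenseRange (hU.fromSpec ≫ g).base := by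
      have h1 : DenseRange g.base := hdom.1
      have h2 : DenseRange hU.fromSpec.base := by
        rw [DenseRange, hU.range_fromSpec]
        exact (U.2.dense ⟨t, htU⟩)
      have h3 : ((hU.fromSpec ≫ g).base : _ → _) = g.base ∘ hU.fromSpec.base := by
        ext z; rfl
      rw [h3]
      exact h1.comp h2 g.continuous
    rw [fromSpec_comp g hU] at hdense
    have h4 : RingHom.ker (phi g U).hom ≤ nilradical A :=
      (PrimeSpectrum.denseRange_comap_iff_ker_le_nilRadical (phi g U).hom).mp hdense
    have h5 : a ∈ nilradical A := h4 ha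
    rw [nilradical_eq_zero] at h5
    exact h5
  refine ⟨Γ(T, U), inferInstance, inferInstance, hloc, inferInstance, hfinS, hinj, ?_⟩
  refine ⟨hU.fromSpec ≫ i, ?_, inferInstance, ?_⟩
  · rw [Category.assoc, ← hg, fromSpec_comp g hU]
    rfl
  · exact ⟨q, by rw [Scheme.Hom.comp_apply, hqt, ht]⟩

end UORH8
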