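import Mathlib
import Groth.Prelude.Def_EGA43
import Groth.Prelude.Def_Flat
import Groth.Agent.Lib.UOQ8_helper8

/-! EGA IV 14.5.? over a regular one-dimensional base: quasi-sections inside a given irreducible
component. -/

set_option autoImplicit false
universe u

open CategoryTheory AlgebraicGeometry Limits TopologicalSpace IsLocalRing

namespace UORH8

theorem trdeg_le_of_coheight_le_one {W Y : Scheme.{u}} [IsLocallyNoetherian Y] (g : W ⟶ Y)
    [LocallyOfFiniteType g] (ξ : W) (hgen : ∀ a : W, ξ ⤳ a) (z : W)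
    (hcohY : Order.coheight (g.base z) ≤ 1) (e : ℕ)
    (he : FlatMor.fibreDimAt g ξ = (e : WithBot ℕ∞)) :
    Cardinal.toENat (Dual3.resTrdeg g z) ≤ (e : ℕ∞) := by
  have hξmax : ∀ b : W, b ⤳ ξ → b = ξ := fun b hb => (hb.antisymm (hgen b)).eq
  have hξtr : Cardinal.toENat (Dual3.resTrdeg g ξ) = (e : ℕ∞) := by
    have h1 := FibGenH8.fibreDimAt_of_isMax g ξ hξmax
    rw [he] at h1
    exact (WithBot.coe_inj.mp h1).symm
  by_cases hz : z = ξ
  · rw [hz, hξtr]
  have hcoh : (1 : ℕ∞) ≤ Order.coheight z := by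
    have hlt : z < ξ := by
      refine lt_of_le_not_ge (hgen z) ?_
      intro h2
      have h3 : z ⤳ ξ := h2
      exact hz (hξmax z h3)
    have := Order.length_le_coheight_head (p := (RelSeries.singleton _ z).snoc ξ hlt)
    simpa using this
  have key := FibGenH8.coheight_add_trdeg_le g z e (by
    intro ξ' hξ' _
    have : ξ' = ξ := (hξ' ξ (hgen ξ')).symm
    rw [this]
    exact FibGenH8.resTrdeg_le_of_toENat_le g ξ e hξtr.le)
  have h1 : (1 : ℕ∞) + Cardinal.toENat (Dual3.resTrdeg g z) ≤ 1 + (e : ℕ∞) :=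
    (add_le_add_left hcoh _).trans (key.trans (add_le_add_left hcohY _))
  exact (ENat.add_le_add_iff_left (by simp : (1 : ℕ∞) ≠ ⊤)).mp h1

variable {X Y : Scheme.{u}}

theorem exists_quasiSection_in_component [IrreducibleSpace Y] [IsLocallyNoetherian Y]
    (hY : ∀ y : Y, ringKrullDim (Y.presheaf.stalk y) ≤ 1)
    (f : X ⟶ Y) [LocallyOfFiniteType f] (x : X)
    (hxcl : ∀ x' : X, f.base x' = f.base x → x ⤳ x' → x' = x)
    (Xi : Set X) (hXi : Xi ∈ irreducibleComponents (X : Type u)) (hxXi : x ∈ Xi)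
    (hdense : Dense (f.base '' Xi)) :
    ∃ (T : Scheme.{u}) (i : T ⟶ X), IsImmersion i ∧ IrreducibleSpace ↥T ∧ IsReduced T ∧
      x ∈ Set.range i.base ∧ Set.range i.base ⊆ Xi ∧
      LocallyOfFiniteType (i ≫ f) ∧ LocallyQuasiFinite (i ≫ f) ∧ QuasiCompact (i ≫ f) ∧
      IsDominant (i ≫ f) := by
  obtain ⟨ξ, hξcl, hξmax⟩ :=
    Groth.Agent.Lib.EquidimAtH8.exists_generic_of_mem_irreducibleComponents Xi hXi
  let W : Closeds X := ⟨Xi, isClosed_of_mem_irreducibleComponents Xi hXi⟩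
  have hrange := EquidimSubH8.range_vanishingIdeal_subschemeι W
  obtain ⟨w, hw⟩ : x ∈ Set.range (Scheme.IdealSheafData.vanishingIdeal W).subschemeι.base := by
    rw [hrange]; exact hxXi
  obtain ⟨ξ'', hξ'', hgen⟩ := EquidimIrrH8.exists_generic_subscheme W ξ hξcl
  set ι := (Scheme.IdealSheafData.vanishingIdeal W).subschemeι with hι
  obtain ⟨e, he⟩ := EquidimIrrH8.exists_nat_fibreDimAt (ι ≫ f) ξ''
  have hcohY : ∀ y : Y, Order.coheight y ≤ 1 := by
    intro y
    have h1 := hY y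
    rw [AlgebraicGeometry.ringKrullDim_stalk_eq_coheight] at h1
    exact_mod_cast h1
  have h2 : FlatMor.fibreDimAt (ι ≫ f) w ≤ (e : WithBot ℕ∞) := by
    obtain ⟨ζ, -, -, -, hζdim⟩ := EquidimIrrH8.exists_fibre_max_dim (ι ≫ f) w
    refine hζdim.trans ?_
    have := trdeg_le_of_coheight_le_one (ι ≫ f) ξ'' hgen ζ (hcohY _) e he
    exact_mod_cast this
  have huniv : (Set.univ : Set Y) ∈ irreducibleComponents (Y : Type u) := by
    rw [irreducibleComponents_eq_singleton]; rfl
  have hfξ : (ι ≫ f).base ξ'' = f.base ξ := by rw [← hξ'']; rfl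
  have h3 : closure {(ι ≫ f).base ξ''} ∈ irreducibleComponents (Y : Type u) := by
    rw [hfξ, ← EquiCompH8.closure_image_closure f ξ, hξcl, hdense.closure_eq]
    exact huniv
  have hE : EGA43.IsEquidimAt (ι ≫ f) w :=
    EquidimIrrH8.isEquidimAt_of_generic _ ξ'' w hgen e he h2 h3
  obtain ⟨T, i, himm, hirr, hred, ⟨t, ht⟩, hlft, hlqf, hqc, hdom⟩ :=
    QSecH8.main (ι ≫ f) w hE (by
      intro w' h1 h2
      apply ι.isEmbedding.injective
      rw [hw]
      apply hxcl
      · have : f.base (ι.base w') = f.base (ι.base w) := h1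
        rw [this, hw]
      · have := h2.map ι.continuous
        rwa [hw] at this)
  haveI := himm
  refine ⟨T, i ≫ ι, inferInstance, hirr, hred, ⟨t, by rw [Scheme.Hom.comp_apply, ht, hw]⟩, ?_, ?_, ?_,
    ?_, ?_⟩
  · rintro _ ⟨a, rfl⟩
    have : (i ≫ ι).base a ∈ Set.range ι.base := ⟨i.base a, rfl⟩
    rw [hrange] at this
    exact this
  · rw [Category.assoc]; exact hlft
  · rw [Category.assoc]; exact hlqf
  · rw [Category.assoc]; exact hqc
  · rw [Category.assoc]; exact hdom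

end UORH8
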