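import Mathlib
import Groth.Prelude

/-!
# The coordinate ring of U_5 over ℤ is a polynomial ring in six variables (helper4)
-/

set_option autoImplicit false

open W4c5m1nsnscurves MvPolynomial

namespace Groth.Agent.Lib.URing2H4

noncomputable section

local notation "S6" => (X 0 + X 1 + X 2 + X 3 + X 4 - X 5 : MvPolynomial (Fin 6) ℤ)

local notation "𝔮" => Ideal.Quotient.mk (Ideal.span (URel ℤ 2))

theorem h01 : (0 : Fin 2) ≠ 1 := Fin.zero_ne_one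
theorem h10 : (1 : Fin 2) ≠ 0 := Ne.symm Fin.zero_ne_one

theorem pair_cases : ∀ i j : Fin 2, i ≠ j → (i = 0 ∧ j = 1) ∨ (i = 1 ∧ j = 0) := by decide

theorem fin2_cases : ∀ i : Fin 2, i = 0 ∨ i = 1 := by decide

theorem fin6_cases : ∀ i : Fin 6, i = 0 ∨ i = 1 ∨ i = 2 ∨ i = 3 ∨ i = 4 ∨ i = 5 := by decide

theorem noTriple (q : DTriple 2) : False :=
  (by decide : ∀ q : Fin 2 × Fin 2 × Fin 2, ¬ (q.1 ≠ q.2.1 ∧ q.2.1 ≠ q.2.2 ∧ q.1 ≠ q.2.2)) q.1 q.2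

/-- images of the generators. -/
def g : UGen 2 → MvPolynomial (Fin 6) ℤ
  | .a => X 0
  | .c => S6 * X 3 + X 5 * X 1 - X 1 * X 3
  | .cb => S6 * X 2 + X 5 * X 4 - X 2 * X 4
  | .ci i => if i = 0 then X 1 else X 3
  | .cbi i => if i = 0 then X 2 else X 4
  | .cij i _ _ => if i = 0 then X 5 else S6

theorem g_a : g .a = X 0 := rfl
theorem g_c : g .c = S6 * X 3 + X 5 * X 1 - X 1 * X 3 := rfl
theorem g_cb : g .cb = S6 * X 2 + X 5 * X 4 - X 2 * X 4 := rfl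
theorem g_ci0 : g (.ci 0) = X 1 := by
  show (if (0 : Fin 2) = 0 then (X 1 : MvPolynomial (Fin 6) ℤ) else X 3) = X 1
  exact if_pos rfl
theorem g_ci1 : g (.ci 1) = X 3 := by
  show (if (1 : Fin 2) = 0 then (X 1 : MvPolynomial (Fin 6) ℤ) else X 3) = X 3
  exact if_neg h10
theorem g_cbi0 : g (.cbi 0) = X 2 := by
  show (if (0 : Fin 2) = 0 then (X 2 : MvPolynomial (Fin 6) ℤ) else X 4) = X 2
  exact if_pos rfl
theorem g_cbi1 : g (.cbi 1) = X 4 := by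
  show (if (1 : Fin 2) = 0 then (X 2 : MvPolynomial (Fin 6) ℤ) else X 4) = X 4
  exact if_neg h10
theorem g_c01 (h : (0 : Fin 2) ≠ 1) : g (.cij 0 1 h) = X 5 := by
  show (if (0 : Fin 2) = 0 then (X 5 : MvPolynomial (Fin 6) ℤ) else S6) = X 5
  exact if_pos rfl
theorem g_c10 (h : (1 : Fin 2) ≠ 0) : g (.cij 1 0 h) = S6 := by
  show (if (1 : Fin 2) = 0 then (X 5 : MvPolynomial (Fin 6) ℤ) else S6) = S6
  exact if_neg h10

theorem hker (r : MvPolynomial (UGen 2) ℤ) (hr : r ∈ URel ℤ 2) : aeval g r = 0 := by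
  rcases hr with ((⟨q, rfl⟩ | ⟨q, rfl⟩) | ⟨q, rfl⟩) | ⟨q, rfl⟩
  · obtain ⟨⟨i, j⟩, hij⟩ := q
    rcases pair_cases i j hij with ⟨rfl, rfl⟩ | ⟨rfl, rfl⟩
    · dsimp only
      simp only [map_sub, map_add, map_mul, aeval_X, g_a, g_ci0, g_ci1, g_cbi0, g_cbi1,
        g_c01, g_c10]
      ring
    · dsimp only
      simp only [map_sub, map_add, map_mul, aeval_X, g_a, g_ci0, g_ci1, g_cbi0, g_cbi1,
        g_c01, g_c10]
      ring
  · obtain ⟨⟨i, j⟩, hij⟩ := q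
    rcases pair_cases i j hij with ⟨rfl, rfl⟩ | ⟨rfl, rfl⟩
    · dsimp only
      simp only [map_sub, map_add, map_mul, aeval_X, g_c, g_ci0, g_ci1, g_c01, g_c10]
      ring
    · dsimp only
      simp only [map_sub, map_add, map_mul, aeval_X, g_c, g_ci0, g_ci1, g_c01, g_c10]
      ring
  · obtain ⟨⟨i, j⟩, hij⟩ := q
    rcases pair_cases i j hij with ⟨rfl, rfl⟩ | ⟨rfl, rfl⟩
    · dsimp only
      simp only [map_sub, map_add, map_mul, aeval_X, g_cb, g_cbi0, g_cbi1, g_c01, g_c10]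
      ring
    · dsimp only
      simp only [map_sub, map_add, map_mul, aeval_X, g_cb, g_cbi0, g_cbi1, g_c01, g_c10]
      ring
  · exact (noTriple q).elim

theorem aeval_g_mem (r : MvPolynomial (UGen 2) ℤ) (hr : r ∈ Ideal.span (URel ℤ 2)) :
    (aeval g : MvPolynomial (UGen 2) ℤ →ₐ[ℤ] MvPolynomial (Fin 6) ℤ).toRingHom r = 0 := by
  have h : Ideal.span (URel ℤ 2) ≤
      RingHom.ker (aeval g : MvPolynomial (UGen 2) ℤ →ₐ[ℤ] MvPolynomial (Fin 6) ℤ).toRingHom :=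
    Ideal.span_le.mpr (fun r hr => RingHom.mem_ker.mpr (hker r hr))
  exact RingHom.mem_ker.mp (h hr)

/-- the inverse map. -/
def ψ : URing ℤ 2 →+* MvPolynomial (Fin 6) ℤ :=
  Ideal.Quotient.lift (Ideal.span (URel ℤ 2))
    (aeval g : MvPolynomial (UGen 2) ℤ →ₐ[ℤ] MvPolynomial (Fin 6) ℤ).toRingHom aeval_g_mem

theorem ψ_mk (p : MvPolynomial (UGen 2) ℤ) : ψ (𝔮 p) = aeval g p := rfl

/-- the six chosen classes. -/
def vec : Fin 6 → URing ℤ 2 :=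
  ![ugen ℤ 2 .a, ugen ℤ 2 (.ci 0), ugen ℤ 2 (.cbi 0), ugen ℤ 2 (.ci 1), ugen ℤ 2 (.cbi 1),
    ugen ℤ 2 (.cij 0 1 Fin.zero_ne_one)]

theorem vec_0 : vec 0 = 𝔮 (X .a) := rfl
theorem vec_1 : vec 1 = 𝔮 (X (.ci 0)) := rfl
theorem vec_2 : vec 2 = 𝔮 (X (.cbi 0)) := rfl
theorem vec_3 : vec 3 = 𝔮 (X (.ci 1)) := rfl
theorem vec_4 : vec 4 = 𝔮 (X (.cbi 1)) := rfl
theorem vec_5 : vec 5 = 𝔮 (X (.cij 0 1 h01)) := rfl

theorem hL : 𝔮 (X (.cij 0 1 h01)) + 𝔮 (X (.cij 1 0 h10)) -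
    (𝔮 (X .a) + 𝔮 (X (.ci 0)) + 𝔮 (X (.cbi 0)) + 𝔮 (X (.ci 1)) + 𝔮 (X (.cbi 1))) = 0 := by
  have hmem : (X (.cij 0 1 h01) + X (.cij 1 0 h10) -
      (X .a + X (.ci 0) + X (.cbi 0) + X (.ci 1) + X (.cbi 1)) : MvPolynomial (UGen 2) ℤ) ∈
      URel ℤ 2 :=
    Or.inl (Or.inl (Or.inl ⟨⟨((0 : Fin 2), (1 : Fin 2)), h01⟩, rfl⟩))
  have := Ideal.Quotient.eq_zero_iff_mem.mpr (Ideal.subset_span hmem)
  simpa only [map_sub, map_add] using this

theorem hQ : 𝔮 (X (.cij 1 0 h10)) * 𝔮 (X (.ci 1)) + 𝔮 (X (.cij 0 1 h01)) * 𝔮 (X (.ci 0)) -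
    𝔮 (X (.ci 0)) * 𝔮 (X (.ci 1)) - 𝔮 (X .c) = 0 := by
  have hmem : (X (.cij 1 0 h10) * X (.ci 1) + X (.cij 0 1 h01) * X (.ci 0) -
      X (.ci 0) * X (.ci 1) - X .c : MvPolynomial (UGen 2) ℤ) ∈ URel ℤ 2 :=
    Or.inl (Or.inl (Or.inr ⟨⟨((0 : Fin 2), (1 : Fin 2)), h01⟩, rfl⟩))
  have := Ideal.Quotient.eq_zero_iff_mem.mpr (Ideal.subset_span hmem)
  simpa only [map_sub, map_add, map_mul] using this

theorem hQb : 𝔮 (X (.cij 1 0 h10)) * 𝔮 (X (.cbi 0)) + 𝔮 (X (.cij 0 1 h01)) * 𝔮 (X (.cbi 1)) -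
    𝔮 (X (.cbi 0)) * 𝔮 (X (.cbi 1)) - 𝔮 (X .cb) = 0 := by
  have hmem : (X (.cij 1 0 h10) * X (.cbi 0) + X (.cij 0 1 h01) * X (.cbi 1) -
      X (.cbi 0) * X (.cbi 1) - X .cb : MvPolynomial (UGen 2) ℤ) ∈ URel ℤ 2 :=
    Or.inl (Or.inr ⟨⟨((0 : Fin 2), (1 : Fin 2)), h01⟩, rfl⟩)
  have := Ideal.Quotient.eq_zero_iff_mem.mpr (Ideal.subset_span hmem)
  simpa only [map_sub, map_add, map_mul] using this

theorem comp_C_eq {A : Type*} [Semiring A] {σ : Type*} (f g : MvPolynomial σ ℤ →+* A) (r : ℤ) :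
    f (C r) = g (C r) :=
  RingHom.congr_fun (RingHom.ext_int (f.comp C) (g.comp C)) r

theorem left_inv (p : MvPolynomial (Fin 6) ℤ) :
    ψ ((aeval vec : MvPolynomial (Fin 6) ℤ →ₐ[ℤ] URing ℤ 2) p) = p := by
  have h : ψ.comp (aeval vec : MvPolynomial (Fin 6) ℤ →ₐ[ℤ] URing ℤ 2).toRingHom =
      RingHom.id _ := by
    apply MvPolynomial.ringHom_ext
    · intro r
      exact comp_C_eq _ _ r
    · intro i
      show ψ ((aeval vec : MvPolynomial (Fin 6) ℤ →ₐ[ℤ] URing ℤ 2) (X i)) = X i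
      rw [aeval_X]
      rcases fin6_cases i with rfl | rfl | rfl | rfl | rfl | rfl
      · rw [vec_0, ψ_mk, aeval_X, g_a]
      · rw [vec_1, ψ_mk, aeval_X, g_ci0]
      · rw [vec_2, ψ_mk, aeval_X, g_cbi0]
      · rw [vec_3, ψ_mk, aeval_X, g_ci1]
      · rw [vec_4, ψ_mk, aeval_X, g_cbi1]
      · rw [vec_5, ψ_mk, aeval_X, g_c01]
  exact RingHom.congr_fun h p

theorem right_inv (u : URing ℤ 2) :
    (aeval vec : MvPolynomial (Fin 6) ℤ →ₐ[ℤ] URing ℤ 2) (ψ u) = u := by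
  obtain ⟨p, rfl⟩ := Ideal.Quotient.mk_surjective u
  rw [ψ_mk]
  have h : (aeval vec : MvPolynomial (Fin 6) ℤ →ₐ[ℤ] URing ℤ 2).toRingHom.comp
      (aeval g : MvPolynomial (UGen 2) ℤ →ₐ[ℤ] MvPolynomial (Fin 6) ℤ).toRingHom = 𝔮 := by
    apply MvPolynomial.ringHom_ext
    · intro r
      exact comp_C_eq _ _ r
    · intro x
      show (aeval vec : MvPolynomial (Fin 6) ℤ →ₐ[ℤ] URing ℤ 2) (aeval g (X x)) = 𝔮 (X x)
      rw [aeval_X]
      cases x with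
      | a => rw [g_a, aeval_X, vec_0]
      | c =>
        rw [g_c]
        simp only [map_sub, map_add, map_mul, aeval_X, vec_0, vec_1, vec_2, vec_3, vec_4, vec_5]
        linear_combination hQ - 𝔮 (X (.ci 1)) * hL
      | cb =>
        rw [g_cb]
        simp only [map_sub, map_add, map_mul, aeval_X, vec_0, vec_1, vec_2, vec_3, vec_4, vec_5]
        linear_combination hQb - 𝔮 (X (.cbi 0)) * hL
      | ci i =>
        rcases fin2_cases i with rfl | rfl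
        · rw [g_ci0, aeval_X, vec_1]
        · rw [g_ci1, aeval_X, vec_3]
      | cbi i =>
        rcases fin2_cases i with rfl | rfl
        · rw [g_cbi0, aeval_X, vec_2]
        · rw [g_cbi1, aeval_X, vec_4]
      | cij i j hij =>
        rcases pair_cases i j hij with ⟨rfl, rfl⟩ | ⟨rfl, rfl⟩
        · rw [g_c01, aeval_X, vec_5]
        · rw [g_c10]
          simp only [map_sub, map_add, aeval_X, vec_0, vec_1, vec_2, vec_3, vec_4, vec_5]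
          linear_combination (-1 : URing ℤ 2) * hL
  exact RingHom.congr_fun h p

theorem main' : Function.Bijective (aeval vec : MvPolynomial (Fin 6) ℤ →ₐ[ℤ] URing ℤ 2) :=
  ⟨Function.LeftInverse.injective left_inv, Function.RightInverse.surjective right_inv⟩

theorem main :
    Function.Bijective (MvPolynomial.aeval (R := ℤ) (S₁ := URing ℤ 2)
      ![ugen ℤ 2 .a, ugen ℤ 2 (.ci 0), ugen ℤ 2 (.cbi 0), ugen ℤ 2 (.ci 1), ugen ℤ 2 (.cbi 1),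
        ugen ℤ 2 (.cij 0 1 Fin.zero_ne_one)]) := main'

end

end Groth.Agent.Lib.URing2H4
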