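import Mathlib
import Groth.Prelude
import Groth.Agent.Lib.Unibr2_helper8
import Groth.Agent.Lib.BlowUpIntegral_helper4
import Groth.Agent.Lib.BlowProper_helper2
import Groth.Agent.Lib.BlowRegSurf_helper2

/-!
# Birational proper morphisms over unibranch points; blow-ups of unibranch local domains (helper8)
APPEND-ONLY once landed.
-/

set_option autoImplicit false
universe u
open CategoryTheory CategoryTheory.Limits AlgebraicGeometry TopologicalSpace Opposite

namespace Groth.Agent.Lib.UnibrH8

/-- the integral closure in `K` only depends on the image of the base ring -/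
theorem isLocalRing_integralClosure_of_surjective {A A' K : Type*} [CommRing A] [CommRing A']
    [Field K] [Algebra A K] [Algebra A' K] (e : A →+* A') (he : Function.Surjective e)
    (hcomp : ∀ a, algebraMap A' K (e a) = algebraMap A K a) [IsLocalRing (integralClosure A K)] :
    IsLocalRing (integralClosure A' K) := by
  have hcomp' : (algebraMap A' K).comp e = algebraMap A K := RingHom.ext hcomp
  haveI : Nontrivial A' := (algebraMap A' K).domain_nontrivial
  have h1 : ∀ x : K, x ∈ integralClosure A K → x ∈ integralClosure A' K := by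
    rintro x ⟨P, hP, hPx⟩
    refine ⟨P.map e, hP.map _, ?_⟩
    rw [Polynomial.eval₂_map, hcomp']
    exact hPx
  have h2 : ∀ x : K, x ∈ integralClosure A' K → x ∈ integralClosure A K := by
    rintro x ⟨Q, hQ, hQx⟩
    obtain ⟨P, hPQ, -, hP⟩ := Polynomial.lifts_and_degree_eq_and_monic
      ((Polynomial.mem_lifts _).mpr (Polynomial.map_surjective e he Q)) hQ
    refine ⟨P, hP, ?_⟩
    rw [← hcomp', ← Polynomial.eval₂_map, hPQ]
    exact hQx
  let E : integralClosure A K ≃+* integralClosure A' K :=
    { toFun := fun x => ⟨x.1, h1 x.1 x.2⟩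
      invFun := fun x => ⟨x.1, h2 x.1 x.2⟩
      left_inv := fun x => rfl
      right_inv := fun x => rfl
      map_mul' := fun x x' => rfl
      map_add' := fun x x' => rfl }
  exact E.isLocalRing

section

variable {X Y : Scheme.{u}} [IsIntegral X] [IsIntegral Y] [IsLocallyNoetherian Y]
  (f : X ⟶ Y) [IsProper f] (hdom : f (genericPoint X) ⤳ genericPoint Y)

omit [IsLocallyNoetherian Y] [IsProper f] in
include hdom in
theorem isLocalRing_integralClosureStalk'
    (hrad : ∀ x : X.functionField,
      (∃ q : Polynomial Y.functionField, q ≠ 0 ∧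
        Polynomial.eval₂ (CohIII.stalkToFunctionField f (genericPoint Y) hdom) x q = 0) →
      ∃ e : ℕ, x ^ (ringExpChar X.functionField ^ e) ∈
        Set.range (CohIII.stalkToFunctionField f (genericPoint Y) hdom))
    (y : Y) [IsLocalRing (integralClosure (Y.presheaf.stalk y) Y.functionField)]
    (hs : f (genericPoint X) ⤳ y) :
    IsLocalRing ↥(CohIII.integralClosureStalk f y hs) := by
  refine isLocalRing_of_purelyInsep (A := Y.presheaf.stalk y) (K := Y.functionField)
    (CohIII.stalkToFunctionField f (genericPoint Y) hdom)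
    (CohIII.stalkToFunctionField f y hs) (stalkToFunctionField_eq_comp f hdom y hs)
    (CohIII.integralClosureStalk f y hs) (fun x => Iff.rfl) ?_
  intro x hx
  apply hrad
  obtain ⟨P, hP, hPx⟩ := (FibPtsH8.mem_integralClosureStalk_iff f y hs x).mp hx
  refine ⟨P.map (algebraMap (Y.presheaf.stalk y) Y.functionField), (hP.map _).ne_zero, ?_⟩
  rw [Polynomial.eval₂_map, ← stalkToFunctionField_eq_comp f hdom y hs]
  exact hPx

include hdom in
theorem connectedSpace_fiber_of_purelyInsep'
    (hrad : ∀ x : X.functionField,
      (∃ q : Polynomial Y.functionField, q ≠ 0 ∧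
        Polynomial.eval₂ (CohIII.stalkToFunctionField f (genericPoint Y) hdom) x q = 0) →
      ∃ e : ℕ, x ^ (ringExpChar X.functionField ^ e) ∈
        Set.range (CohIII.stalkToFunctionField f (genericPoint Y) hdom))
    (y : Y) [IsLocalRing (integralClosure (Y.presheaf.stalk y) Y.functionField)] :
    ConnectedSpace ↥(f.fiber y) := by
  have hs : f (genericPoint X) ⤳ y := hdom.trans (genericPoint_specializes y)
  haveI := isLocalRing_integralClosureStalk' f hdom hrad y hs
  have hsub : Subsingleton (MaximalSpectrum ↥(CohIII.integralClosureStalk f y hs)) :=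
    ⟨fun m m' => MaximalSpectrum.ext (by
      rw [IsLocalRing.eq_maximalIdeal m.isMaximal, IsLocalRing.eq_maximalIdeal m'.isMaximal])⟩
  have h1 := FibPtsH8.card_connectedComponents_le f y hs
  have h2 : Cardinal.mk (MaximalSpectrum ↥(CohIII.integralClosureStalk f y hs)) ≤ 1 :=
    Cardinal.le_one_iff_subsingleton.mpr hsub
  haveI : Subsingleton (_root_.ConnectedComponents ↥(f.fiber y)) :=
    Cardinal.le_one_iff_subsingleton.mp (h1.trans h2)
  haveI : PreconnectedSpace ↥(f.fiber y) := preconnectedSpace_of_subsingleton
  obtain ⟨x, hx⟩ := surjective_of_isProper_of_dominant f hdom y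
  haveI : Nonempty ↥(f.fiber y) := ⟨(f.fiberHomeo y).symm ⟨x, hx⟩⟩
  exact { toPreconnectedSpace := inferInstance, toNonempty := inferInstance }

/-- proper birational morphisms have connected fibres over unibranch points -/
theorem connectedSpace_fiber_of_birational_unibranch
    (hgen : f (genericPoint X) = genericPoint Y) (hbir : IsIso (f.stalkMap (genericPoint X)))
    (y : Y) [IsLocalRing (integralClosure (Y.presheaf.stalk y) Y.functionField)] :
    ConnectedSpace ↥(f.fiber y) := by
  have hdom : f (genericPoint X) ⤳ genericPoint Y := specializes_of_eq hgen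
  refine connectedSpace_fiber_of_purelyInsep' f hdom (fun x _ => ⟨0, ?_⟩) y
  rw [pow_zero, pow_one]
  have hins : Inseparable (f (genericPoint X)) (genericPoint Y) := by rw [hgen]
  obtain ⟨t, ht⟩ := (ConcreteCategory.bijective_of_isIso (f.stalkMap (genericPoint X))).2 x
  obtain ⟨t', ht'⟩ : ∃ t', (Y.presheaf.stalkSpecializes hdom).hom t' = t :=
    ⟨(Y.presheaf.stalkCongr hins).hom.hom t, by
      have := (Y.presheaf.stalkCongr hins).hom_inv_id
      exact congrArg (fun k => k.hom t) this⟩
  refine ⟨t', ?_⟩
  unfold CohIII.stalkToFunctionField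
  rw [RingHom.comp_apply, ht']
  exact ht

end

section BlowUp

variable (A : Type u) [CommRing A] [IsDomain A] [IsLocalRing A]

/-- for a unibranch local domain `A`, the integral closure of the local ring of `Spec A` at the
closed point in the function field is local -/
theorem isLocalRing_integralClosure_stalk_closedPoint (hA : CAlg2.IsUnibranch A) :
    IsLocalRing (integralClosure
      ((Spec (CommRingCat.of A)).presheaf.stalk (IsLocalRing.closedPoint A))
      (Spec (CommRingCat.of A)).functionField) := by
  obtain ⟨y, hy⟩ : ∃ y : PrimeSpectrum A, y = IsLocalRing.closedPoint A := ⟨_, rfl⟩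
  rw [← hy]
  letI : Algebra A ((Spec (CommRingCat.of A)).presheaf.stalk y) :=
    StructureSheaf.stalkAlgebra (R := A) y
  haveI : IsLocalization.AtPrime ((Spec (CommRingCat.of A)).presheaf.stalk y) y.asIdeal :=
    StructureSheaf.IsLocalization.to_stalk A y
  have H : y.asIdeal.primeCompl ≤ IsUnit.submonoid A := by
    intro x hx
    rw [hy] at hx
    exact IsLocalRing.notMem_maximalIdeal.mp hx
  obtain ⟨e, he⟩ : ∃ e : A ≃+* (Spec (CommRingCat.of A)).presheaf.stalk y,
      ∀ a, e a = algebraMap A _ a :=
    ⟨(IsLocalization.atUnits A y.asIdeal.primeCompl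
      (S := (Spec (CommRingCat.of A)).presheaf.stalk y) H).toRingEquiv, fun a => rfl⟩
  letI : Algebra A (Spec (CommRingCat.of A)).functionField :=
    ((algebraMap ((Spec (CommRingCat.of A)).presheaf.stalk y)
      (Spec (CommRingCat.of A)).functionField).comp e.symm.symm.toRingHom).toAlgebra
  haveI : IsFractionRing A (Spec (CommRingCat.of A)).functionField :=
    (IsFractionRing.isFractionRing_iff_of_base_ringEquiv _ e.symm).mp inferInstance
  haveI := isLocalRing_integralClosure_of_isUnibranch A
    (Spec (CommRingCat.of A)).functionField hA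
  exact isLocalRing_integralClosure_of_surjective (A := A)
    (A' := (Spec (CommRingCat.of A)).presheaf.stalk y) e.toRingHom e.surjective (fun a => rfl)

variable [IsNoetherianRing A]

/-- the closed fibre of a blowing up of `Spec A`, `A` a unibranch Noetherian local domain, is
preconnected -/
theorem preconnectedSpace_fiber_blowUp (hA : CAlg2.IsUnibranch A) (𝔞 : Ideal A) {X : Scheme.{u}}
    (b : X ⟶ Spec (CommRingCat.of A)) (hb : BlowUp.IsBlowUp b (AffBlH8.idl 𝔞)) :
    PreconnectedSpace ↥(b.fiber (IsLocalRing.closedPoint A)) := by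
  by_cases h0 : 𝔞 = ⊥
  · -- `X` is empty
    have hX : IsEmpty X := by
      constructor
      intro x
      have hbot : (AffBlH8.idl 𝔞).comap b = ⊥ := by
        have : AffBlH8.idl 𝔞 = ⊥ := by
          unfold AffBlH8.idl
          rw [h0, Ideal.map_bot]
          exact (Scheme.IdealSheafData.equivOfIsAffine (X := Spec (CommRingCat.of A))).symm.toOrderIso.map_bot
        rw [this, Scheme.IdealSheafData.comap_bot]
      obtain ⟨U, hxU, t, ht, hIt⟩ := hb.1 x
      rw [hbot, Scheme.IdealSheafData.ideal_bot] at hIt
      have ht0 : t = 0 := by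
        have : t ∈ Ideal.span {t} := Ideal.subset_span rfl
        rw [← hIt] at this
        exact this
      rw [ht0] at ht
      haveI : Subsingleton Γ(X, U.1) := by
        by_contra hns
        rw [not_subsingleton_iff_nontrivial] at hns
        exact zero_notMem_nonZeroDivisors ht
      haveI : Nontrivial (X.presheaf.stalk x) := inferInstance
      have h1 : (X.presheaf.germ U.1 x hxU).hom 1 = (X.presheaf.germ U.1 x hxU).hom 0 :=
        congrArg _ (Subsingleton.elim _ _)
      rw [map_one, map_zero] at h1
      exact one_ne_zero h1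
    haveI : IsEmpty ↥(b.fiber (IsLocalRing.closedPoint A)) :=
      ⟨fun z => hX.false ((b.fiberι _) z)⟩
    exact ⟨by rw [Set.univ_eq_empty_iff.mpr inferInstance]; exact isPreconnected_empty⟩
  · have hI : AffBlH8.idl 𝔞 ≠ ⊥ := Groth.Agent.Lib.BlowRegSurf.idl_ne_bot A 𝔞 h0
    obtain ⟨hXint, hgen, -⟩ := Groth.Agent.Lib.BlowUpIntegralH4.main2348 (AffBlH8.idl 𝔞) hI b hb
    have hft : BlowUp.IsFiniteTypeIdeal (AffBlH8.idl 𝔞) := by
      intro U
      haveI : IsNoetherianRing Γ(Spec (CommRingCat.of A), U.1) :=
        IsLocallyNoetherian.component_noetherian U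
      exact IsNoetherian.noetherian _
    haveI : IsProper b := Groth.Agent.Lib.BlowProper.isProper_of_isBlowUp (AffBlH8.idl 𝔞) hft b hb
    have hns : b (genericPoint X) ∉ (AffBlH8.idl 𝔞).support := by
      rw [hgen]
      intro hmem
      apply hI
      rw [← Scheme.IdealSheafData.support_eq_top_iff]
      apply TopologicalSpace.Closeds.ext
      apply Set.eq_univ_of_forall
      intro z
      exact (genericPoint_specializes z).mem_closed (AffBlH8.idl 𝔞).support.isClosed hmem
    haveI hst : IsIso (b.stalkMap (genericPoint X)) :=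
      Groth.Agent.Lib.BlowUpBasic_helper4.isIso_stalkMap_of_isBlowUp hb (genericPoint X) hns
    haveI := isLocalRing_integralClosure_stalk_closedPoint A hA
    haveI := connectedSpace_fiber_of_birational_unibranch b hgen hst (IsLocalRing.closedPoint A)
    infer_instance

end BlowUp

end Groth.Agent.Lib.UnibrH8
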