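import Mathlib
import Groth.Prelude.Def_W4c5qcohlocdualityLoc

set_option autoImplicit false
set_option linter.unusedSimpArgs false
set_option linter.unusedVariables false
set_option linter.unusedSectionVars false
set_option linter.style.longLine false
set_option linter.unnecessarySimpa false
set_option linter.style.haveILetI false
set_option maxHeartbeats 1600000

universe w v u

open CategoryTheory CategoryTheory.Limits

namespace Groth.Agent.Lib.Unif17646

variable {C : Type u} [Category.{v} C] [Abelian C]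

/-- `z` meets `a` trivially: any common "element" of `z` and `a` is zero. -/
def Disj {A Z E : C} (a : A ⟶ E) (z : Z ⟶ E) : Prop :=
  ∀ ⦃W : C⦄ (h : W ⟶ Z) (k : W ⟶ A), h ≫ z = k ≫ a → h = 0

lemma Disj.symm {A Z E : C} {a : A ⟶ E} {z : Z ⟶ E} [Mono a] (h : Disj a z) : Disj z a := by
  intro W k h' e
  have h0 : h' = 0 := h h' k e.symm
  rw [h0, zero_comp] at e
  exact zero_of_comp_mono a e

lemma Disj.of_comp_right {A Z Z' E : C} {a : A ⟶ E} {z : Z ⟶ E} (i : Z' ⟶ Z) [Mono i]
    (h : Disj a z) : Disj a (i ≫ z) := by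
  intro W g k e
  have : g ≫ i = 0 := h (g ≫ i) k (by rw [Category.assoc]; exact e)
  exact zero_of_comp_mono i this

lemma Disj.of_comp_left {A A' Z E : C} {a : A ⟶ E} {z : Z ⟶ E} (i : A' ⟶ A)
    (h : Disj a z) : Disj (i ≫ a) z := by
  intro W g k e
  exact h g (k ≫ i) (by rw [Category.assoc]; exact e)

lemma disj_iff_mono {A Z E : C} (a : A ⟶ E) [Mono a] (z : Z ⟶ E) :
    Disj a z ↔ Mono (z ≫ cokernel.π a) := by
  constructor
  · intro h
    apply Preadditive.mono_of_cancel_zero
    intro W g hg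
    have hk := Abelian.monoIsKernelOfCokernel _ (cokernelIsCokernel a)
    have hg' : (g ≫ z) ≫ cokernel.π a = 0 := by rw [Category.assoc]; exact hg
    obtain ⟨k, hk'⟩ := KernelFork.IsLimit.lift' hk (g ≫ z) hg'
    have hk'' : k ≫ a = g ≫ z := by simpa using hk'
    exact h g k hk''.symm
  · intro hm W h k e
    have h0 : h ≫ (z ≫ cokernel.π a) = 0 := by
      rw [← Category.assoc, e, Category.assoc, cokernel.condition, comp_zero]
    exact zero_of_comp_mono (z ≫ cokernel.π a) h0

section chain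

variable [IsGrothendieckAbelian.{w} C] {E Q : C} (π : E ⟶ Q)

/-- Subobjects `Z` of `E` such that `Z ⟶ E ⟶ Q` is a monomorphism. -/
def monoSet : Set (Subobject E) := {Z | Mono (Z.arrow ≫ π)}

lemma chain_ub (c : Set (Subobject E)) (hcs : c ⊆ monoSet π) (hc : IsChain (· ≤ ·) c)
    (y : Subobject E) (hy : y ∈ c) : ∃ ub ∈ monoSet π, ∀ z ∈ c, z ≤ ub := by
  classical
  let J := Shrink.{w} ↥c
  let e : ↥c ≃o J := orderIsoShrink ↥c
  let Z : J → Subobject E := fun j => (e.symm j).1
  have hZmono : ∀ {i j : J}, i ≤ j → Z i ≤ Z j := fun {i j} h =>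
    (show e.symm i ≤ e.symm j from e.symm.monotone h)
  have hm : ∀ j, Mono ((Z j).arrow ≫ π) := fun j => hcs (e.symm j).2
  letI : SmallCategory J := Preorder.smallCategory J
  haveI : Nonempty J := ⟨e ⟨y, hy⟩⟩
  haveI : IsDirected J (· ≤ ·) := ⟨fun i j => by
    rcases hc.total (e.symm i).2 (e.symm j).2 with h | h
    · exact ⟨j, e.symm.le_iff_le.1 (show e.symm i ≤ e.symm j from h), le_rfl⟩
    · exact ⟨i, le_rfl, e.symm.le_iff_le.1 (show e.symm j ≤ e.symm i from h)⟩⟩
  let F : J ⥤ MonoOver Q :=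
    { obj := fun j => @MonoOver.mk _ _ _ _ ((Z j).arrow ≫ π) (hm j)
      map := fun {i j} f => MonoOver.homMk (Subobject.ofLE (Z i) (Z j) (hZmono (leOfHom f)))
        (by simp)
      map_id := fun _ => Subsingleton.elim _ _
      map_comp := fun _ _ => Subsingleton.elim _ _ }
  let D : J ⥤ C := F ⋙ MonoOver.forget _ ⋙ Over.forget _
  let cc : Cocone D :=
    { pt := E
      ι :=
        { app := fun j => (Z j).arrow
          naturality := by
            intro i j f
            show Subobject.ofLE (Z i) (Z j) _ ≫ (Z j).arrow = (Z i).arrow ≫ 𝟙 E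
            simp } }
  let f : colimit D ⟶ E := colimit.desc D cc
  have hf : ∀ j, colimit.ι D j ≫ (f ≫ π) = (F.obj j).obj.hom := by
    intro j
    rw [← Category.assoc, colimit.ι_desc]
    rfl
  have hmono : Mono (f ≫ π) :=
    IsGrothendieckAbelian.mono_of_isColimit_monoOver F (colimit.isColimit D) (f ≫ π) hf
  haveI : Mono f := mono_of_mono f π
  refine ⟨Subobject.mk f, ?_, ?_⟩
  · show Mono ((Subobject.mk f).arrow ≫ π)
    rw [← Subobject.underlyingIso_hom_comp_eq_mk f, Category.assoc]
    infer_instance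
  · intro z hz
    have hZ : Z (e ⟨z, hz⟩) = z := by simp [Z]
    have hle : Z (e ⟨z, hz⟩) ≤ Subobject.mk f :=
      Subobject.le_mk_of_comm (colimit.ι D (e ⟨z, hz⟩)) (colimit.ι_desc cc _)
    rw [hZ] at hle
    exact hle

lemma exists_maximal_monoSet (x : Subobject E) (hx : x ∈ monoSet π) :
    ∃ m, x ≤ m ∧ Maximal (· ∈ monoSet π) m :=
  zorn_le_nonempty₀ (monoSet π) (fun c hcs hc y hy => chain_ub π c hcs hc y hy) x hx

end chain

variable [IsGrothendieckAbelian.{w} C]

/-- In an indecomposable injective object of a Grothendieck abelian category, a subobject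
meeting a nonzero subobject trivially is zero (indecomposable injectives are uniform). -/
theorem isZero_of_disj (E : C) [Injective E]
    (hind : ∀ (A B : C), Nonempty (E ≅ A ⊞ B) → IsZero A ∨ IsZero B)
    {A B : C} (a : A ⟶ E) (b : B ⟶ E) [Mono a] [Mono b] (hA : ¬ IsZero A) (hab : Disj a b) :
    IsZero B := by
  -- Step 1: `Cm` maximal among subobjects disjoint from `a`, above `b`.
  have hb0 : Subobject.mk b ∈ monoSet (cokernel.π a) := by
    show Mono ((Subobject.mk b).arrow ≫ cokernel.π a)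
    rw [← disj_iff_mono, ← Subobject.underlyingIso_hom_comp_eq_mk b]
    exact hab.of_comp_right _
  obtain ⟨Cm, hbC, hCmax⟩ := exists_maximal_monoSet.{w} (cokernel.π a) (Subobject.mk b) hb0
  have hCdisj : Disj a Cm.arrow := (disj_iff_mono a _).2 hCmax.1
  -- Step 2: `A'` maximal among subobjects disjoint from `Cm`, above `a`.
  have ha0 : Subobject.mk a ∈ monoSet (cokernel.π Cm.arrow) := by
    show Mono ((Subobject.mk a).arrow ≫ cokernel.π Cm.arrow)
    rw [← disj_iff_mono, ← Subobject.underlyingIso_hom_comp_eq_mk a]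
    exact (hCdisj.symm).of_comp_right _
  obtain ⟨A', haA', hA'max⟩ :=
    exists_maximal_monoSet.{w} (cokernel.π Cm.arrow) (Subobject.mk a) ha0
  have hA'disj : Disj Cm.arrow A'.arrow := (disj_iff_mono _ _).2 hA'max.1
  have hCA' : Disj A'.arrow Cm.arrow := hA'disj.symm
  -- Step 3: `Cm` is maximal among subobjects disjoint from `A'`.
  have hCmax' : ∀ (Z : Subobject E), Cm ≤ Z → Disj A'.arrow Z.arrow → Z ≤ Cm := by
    intro Z hCZ hZ
    have hZmem : Z ∈ monoSet (cokernel.π a) := by
      show Mono (Z.arrow ≫ cokernel.π a)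
      rw [← disj_iff_mono]
      have h2 : Disj (Subobject.ofMkLE a A' haA' ≫ A'.arrow) Z.arrow := hZ.of_comp_left _
      rwa [Subobject.ofMkLE_arrow] at h2
    exact hCmax.2 hZmem hCZ
  -- Step 4: an endomorphism `φ` of `E` which is the identity on `A'` and zero on `Cm`.
  obtain ⟨φ, hφA, hφC⟩ : ∃ φ : E ⟶ E, A'.arrow ≫ φ = A'.arrow ∧ Cm.arrow ≫ φ = 0 := by
    haveI : Mono (A'.arrow ≫ cokernel.π Cm.arrow) := hA'max.1
    refine ⟨cokernel.π Cm.arrow ≫
      Injective.factorThru A'.arrow (A'.arrow ≫ cokernel.π Cm.arrow), ?_, ?_⟩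
    · rw [← Category.assoc]
      exact Injective.comp_factorThru _ _
    · rw [← Category.assoc, cokernel.condition, zero_comp]
  -- Step 5: `φ⁻¹(Cm) = Cm`.
  have hT : ∃ r : pullback φ Cm.arrow ⟶ (Cm : C), r ≫ Cm.arrow = pullback.fst φ Cm.arrow := by
    have hle : Subobject.mk (pullback.fst φ Cm.arrow) ≤ Cm := by
      apply hCmax'
      · exact Subobject.le_mk_of_comm (pullback.lift Cm.arrow 0 (by rw [hφC, zero_comp]))
          (pullback.lift_fst _ _ _)
      · rw [← Subobject.underlyingIso_hom_comp_eq_mk]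
        apply Disj.of_comp_right
        intro W h k e
        have e2 : k ≫ A'.arrow = (h ≫ pullback.snd φ Cm.arrow) ≫ Cm.arrow := by
          calc k ≫ A'.arrow = k ≫ A'.arrow ≫ φ := by rw [hφA]
            _ = (h ≫ pullback.fst φ Cm.arrow) ≫ φ := by rw [e, Category.assoc]
            _ = (h ≫ pullback.snd φ Cm.arrow) ≫ Cm.arrow := by
                rw [Category.assoc, pullback.condition, Category.assoc]
        have hk : k = 0 := hA'disj k (h ≫ pullback.snd φ Cm.arrow) e2
        rw [hk, zero_comp] at e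
        exact zero_of_comp_mono _ e
    exact ⟨Subobject.ofMkLE _ _ hle, Subobject.ofMkLE_arrow hle⟩
  -- Step 6: the image of `φ` is `A'`.
  have hI : ∃ ρ : Abelian.image φ ⟶ (A' : C), ρ ≫ A'.arrow = Abelian.image.ι φ := by
    obtain ⟨r, hr⟩ := hT
    have hle : Subobject.mk (Abelian.image.ι φ) ≤ A' := by
      refine hA'max.2 ?_ ?_
      · show Mono ((Subobject.mk (Abelian.image.ι φ)).arrow ≫ cokernel.π Cm.arrow)
        rw [← disj_iff_mono, ← Subobject.underlyingIso_hom_comp_eq_mk]
        apply Disj.of_comp_right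
        intro W h k e
        have e3 : pullback.fst (Abelian.factorThruImage φ) h ≫ φ =
            (pullback.snd (Abelian.factorThruImage φ) h ≫ k) ≫ Cm.arrow := by
          calc pullback.fst (Abelian.factorThruImage φ) h ≫ φ
              = (pullback.fst (Abelian.factorThruImage φ) h ≫ Abelian.factorThruImage φ) ≫
                  Abelian.image.ι φ := by rw [Category.assoc, Abelian.image.fac]
            _ = (pullback.snd (Abelian.factorThruImage φ) h ≫ h) ≫ Abelian.image.ι φ := by
                rw [pullback.condition]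
            _ = (pullback.snd (Abelian.factorThruImage φ) h ≫ k) ≫ Cm.arrow := by
                rw [Category.assoc, e, Category.assoc]
        have hq : pullback.fst (Abelian.factorThruImage φ) h =
            (pullback.lift (pullback.fst (Abelian.factorThruImage φ) h)
              (pullback.snd (Abelian.factorThruImage φ) h ≫ k) e3 ≫ r) ≫ Cm.arrow := by
          rw [Category.assoc, hr, pullback.lift_fst]
        have h0 : pullback.fst (Abelian.factorThruImage φ) h ≫ φ = 0 := by
          rw [hq, Category.assoc, hφC, comp_zero]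
        have h1 : pullback.snd (Abelian.factorThruImage φ) h ≫ (h ≫ Abelian.image.ι φ) = 0 := by
          rw [← Category.assoc, ← pullback.condition, Category.assoc, Abelian.image.fac, h0]
        have h2 : h ≫ Abelian.image.ι φ = 0 := zero_of_epi_comp _ h1
        exact zero_of_comp_mono _ h2
      · exact Subobject.le_mk_of_comm (A'.arrow ≫ Abelian.factorThruImage φ)
          (by rw [Category.assoc, Abelian.image.fac, hφA])
    exact ⟨Subobject.ofMkLE _ _ hle, Subobject.ofMkLE_arrow hle⟩
  -- Step 7: `A'` is a direct summand of `E`.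
  obtain ⟨ρ, hρ⟩ := hI
  have he' : (Abelian.factorThruImage φ ≫ ρ) ≫ A'.arrow = φ := by
    rw [Category.assoc, hρ, Abelian.image.fac]
  have hret : A'.arrow ≫ (Abelian.factorThruImage φ ≫ ρ) = 𝟙 _ := by
    rw [← cancel_mono A'.arrow, Category.assoc, he', hφA, Category.id_comp]
  haveI : IsSplitMono A'.arrow := IsSplitMono.mk' ⟨Abelian.factorThruImage φ ≫ ρ, hret⟩
  have hb := isBilimitBinaryBiconeOfIsSplitMonoOfCokernel (cokernelIsCokernel A'.arrow)
  have hiso : Nonempty (E ≅ (A' : C) ⊞ cokernel A'.arrow) := ⟨biprod.uniqueUpToIso _ _ hb⟩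
  rcases hind _ _ hiso with h | h
  · exfalso
    apply hA
    have ha : a = 0 := by
      rw [← Subobject.ofMkLE_arrow haA', h.eq_of_tgt (Subobject.ofMkLE a A' haA') 0, zero_comp]
    exact IsZero.of_mono_eq_zero a ha
  · haveI : Epi A'.arrow := Preadditive.epi_of_isZero_cokernel _ h
    have hφ1 : φ = 𝟙 E := by rw [← cancel_epi A'.arrow, hφA, Category.comp_id]
    have hC0 : Cm.arrow = 0 := by rw [← Category.comp_id Cm.arrow, ← hφ1, hφC]
    have hb0' : b = 0 := by rw [← Subobject.ofMkLE_arrow hbC, hC0, comp_zero]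
    exact IsZero.of_mono_eq_zero b hb0'

theorem main17646 (E : C) [Injective E] (hE : ¬ IsZero E)
    (hind : ∀ (A B : C), Nonempty (E ≅ A ⊞ B) → IsZero A ∨ IsZero B)
    (S₁ S₂ : ObjectProperty C) (h₁ : GabLoc.IsLocalizing.{w} S₁) (h₂ : GabLoc.IsLocalizing.{w} S₂)
    (ht₁ : GabLoc.HasTorsion S₁ E) (ht₂ : GabLoc.HasTorsion S₂ E) :
    GabLoc.HasTorsion (S₁ ⊓ S₂) E := by
  obtain ⟨Y₁, hY₁, f₁, hf₁⟩ := ht₁
  obtain ⟨Y₂, hY₂, f₂, hf₂⟩ := ht₂
  haveI := h₁.isSerreClass
  haveI := h₂.isSerreClass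
  have hI₁ : S₁ (Abelian.image f₁) := S₁.prop_of_epi (Abelian.factorThruImage f₁) hY₁
  have hI₂ : S₂ (Abelian.image f₂) := S₂.prop_of_epi (Abelian.factorThruImage f₂) hY₂
  have hP₁ : S₁ (pullback (Abelian.image.ι f₁) (Abelian.image.ι f₂)) :=
    S₁.prop_of_mono (pullback.fst (Abelian.image.ι f₁) (Abelian.image.ι f₂)) hI₁
  have hP₂ : S₂ (pullback (Abelian.image.ι f₁) (Abelian.image.ι f₂)) :=
    S₂.prop_of_mono (pullback.snd (Abelian.image.ι f₁) (Abelian.image.ι f₂)) hI₂
  refine ⟨pullback (Abelian.image.ι f₁) (Abelian.image.ι f₂),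
    (show S₁ _ ∧ S₂ _ from ⟨hP₁, hP₂⟩),
    pullback.fst (Abelian.image.ι f₁) (Abelian.image.ι f₂) ≫ Abelian.image.ι f₁, ?_⟩
  intro h0
  have hP : IsZero (pullback (Abelian.image.ι f₁) (Abelian.image.ι f₂)) :=
    IsZero.of_mono_eq_zero _ h0
  have hd : Disj (Abelian.image.ι f₁) (Abelian.image.ι f₂) := by
    intro W h k e
    have : h = pullback.lift k h e.symm ≫ pullback.snd _ _ := (pullback.lift_snd _ _ _).symm
    rw [this, hP.eq_of_tgt (pullback.lift k h e.symm) 0, zero_comp]
  have hA : ¬ IsZero (Abelian.image f₁) := by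
    intro hz
    apply hf₁
    rw [← Abelian.image.fac f₁, hz.eq_of_tgt (Abelian.factorThruImage f₁) 0, zero_comp]
  have hB := isZero_of_disj.{w} E hind (Abelian.image.ι f₁) (Abelian.image.ι f₂) hA hd
  apply hf₂
  rw [← Abelian.image.fac f₂, hB.eq_of_tgt (Abelian.factorThruImage f₂) 0, zero_comp]

end Groth.Agent.Lib.Unif17646
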