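import Mathlib
import Groth.Agent.Lib.FreeKaehlerReg_helper3

/-!
# `Ω_{O/k}` is free on `d s` for a uniformizer `s` of a smooth curve germ (helper3)

Ring-level: `O` a Noetherian local `k`-algebra with residue field separable algebraic over `k` and
`Ω_{O/k}` free of rank one; then for an irreducible `s`, `a ↦ a • d s` is bijective.
APPEND-ONLY once landed.
-/

set_option autoImplicit false
universe u

namespace Groth.Agent.Lib.UnifKaehlerH3

open IsLocalRing KaehlerDifferential TensorProduct

section Ring

variable (k O : Type u) [Field k] [CommRing O] [Algebra k O] [IsLocalRing O]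

theorem bijective_smul_D [IsNoetherianRing O] [Algebra.IsSeparable k (ResidueField O)]
    [Module.Free O (Ω[O⁄k])] [Module.Finite O (Ω[O⁄k])] (hrank : Module.finrank O (Ω[O⁄k]) = 1)
    (s : O) (hs : Irreducible s) :
    Function.Bijective (fun a : O => a • D k O s) := by
  haveI : Algebra.FormallyEtale k (ResidueField O) :=
    Algebra.FormallyEtale.of_isSeparable k (ResidueField O)
  haveI : Subsingleton (Ω[ResidueField O⁄k]) := inferInstance
  have hsurjres : Function.Surjective (algebraMap O (ResidueField O)) := residue_surjective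
  have hker : RingHom.ker (algebraMap O (ResidueField O)) = maximalIdeal O := ker_residue
  -- the cotangent map
  have hφinj : Function.Injective (kerCotangentToTensor k O (ResidueField O)) :=
    Groth.Agent.Lib.FreeKaehlerRegH3.kerCotangentToTensor_injective k O
  have hφsurj : Function.Surjective (kerCotangentToTensor k O (ResidueField O)) := by
    intro y
    exact (KaehlerDifferential.exact_kerCotangentToTensor_mapBaseChange k O (ResidueField O)
      hsurjres y).mp (Subsingleton.elim _ _)
  -- a trivialization of Ω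
  have hrank' : Module.finrank O (Ω[O⁄k]) = Module.finrank O O := by
    rw [hrank, Module.finrank_self]
  let e : (Ω[O⁄k]) ≃ₗ[O] O := LinearEquiv.ofFinrankEq _ _ hrank'
  obtain ⟨ω₀, hω₀⟩ : ∃ ω₀ : Ω[O⁄k], ω₀ = e.symm 1 := ⟨_, rfl⟩
  have hω : ∀ ω : Ω[O⁄k], ω = e ω • ω₀ := by
    intro ω
    apply e.injective
    rw [map_smul, hω₀, LinearEquiv.apply_symm_apply, smul_eq_mul, mul_one]
  -- every element of κ ⊗ Ω is an `O`-multiple of `1 ⊗ ω₀`
  have hgen : ∀ y : ResidueField O ⊗[O] (Ω[O⁄k]), ∃ b : O, y = b • ((1 : ResidueField O) ⊗ₜ[O] ω₀) := by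
    intro y
    induction y using TensorProduct.induction_on with
    | zero => exact ⟨0, by rw [zero_smul]⟩
    | tmul c ω =>
      obtain ⟨c', rfl⟩ := hsurjres c
      refine ⟨c' * e ω, ?_⟩
      have h1 : algebraMap O (ResidueField O) c' ⊗ₜ[O] ω =
          (e ω • algebraMap O (ResidueField O) c') ⊗ₜ[O] ω₀ := by
        conv_lhs => rw [hω ω]
        rw [TensorProduct.tmul_smul, TensorProduct.smul_tmul']
      rw [h1, TensorProduct.smul_tmul']
      congr 1
      simp [Algebra.smul_def, mul_comm]
    | add y₁ y₂ h₁ h₂ =>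
      obtain ⟨b₁, rfl⟩ := h₁
      obtain ⟨b₂, rfl⟩ := h₂
      exact ⟨b₁ + b₂, by rw [add_smul]⟩
  -- the maximal ideal is principal
  obtain ⟨tbar, htbar⟩ := hφsurj ((1 : ResidueField O) ⊗ₜ[O] ω₀)
  obtain ⟨t, rfl⟩ := Ideal.toCotangent_surjective _ tbar
  have htm : (t : O) ∈ maximalIdeal O := hker.le t.2
  have hle : maximalIdeal O ≤ Ideal.span {(t : O)} := by
    apply Submodule.le_of_le_smul_of_le_jacobson_bot (I := maximalIdeal O)
      (IsNoetherian.noetherian _) (IsLocalRing.maximalIdeal_le_jacobson _)
    intro y hy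
    have hy' : y ∈ RingHom.ker (algebraMap O (ResidueField O)) := hker.ge hy
    obtain ⟨b, hb⟩ := hgen (kerCotangentToTensor k O (ResidueField O)
      (Ideal.toCotangent _ ⟨y, hy'⟩))
    rw [← htbar, ← map_smul, ← map_smul] at hb
    have h2 := hφinj hb
    rw [Ideal.toCotangent_eq] at h2
    have h3 : y - b * (t : O) ∈ maximalIdeal O ^ 2 := by
      have := Ideal.pow_right_mono hker.le 2 h2
      have hbt : ((b • t : RingHom.ker (algebraMap O (ResidueField O))) : O) = b * (t : O) := rfl
      rw [hbt] at this
      exact this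
    have h4 : y = b * (t : O) + (y - b * (t : O)) := by ring
    rw [h4]
    refine Submodule.add_mem_sup (Ideal.mem_span_singleton'.mpr ⟨b, rfl⟩) ?_
    rwa [smul_eq_mul, ← pow_two]
  have hmt : maximalIdeal O = Ideal.span {(t : O)} :=
    le_antisymm hle ((Ideal.span_singleton_le_iff_mem _).mpr htm)
  -- s = u t with u a unit
  have hsm : s ∈ maximalIdeal O := (IsLocalRing.mem_maximalIdeal s).mpr hs.not_isUnit
  obtain ⟨u, hu⟩ := Ideal.mem_span_singleton'.mp (hmt ▸ hsm)
  have hunit : IsUnit u := by
    rcases hs.isUnit_or_isUnit hu.symm with h | h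
    · exact h
    · exact absurd h ((IsLocalRing.mem_maximalIdeal _).mp htm)
  -- the class of s in the cotangent space is nonzero
  have hsI : s ∈ RingHom.ker (algebraMap O (ResidueField O)) := hker.ge hsm
  have hsbar : Ideal.toCotangent _ (⟨s, hsI⟩ : RingHom.ker (algebraMap O (ResidueField O))) ≠ 0 := by
    intro h0
    rw [Ideal.toCotangent_eq_zero] at h0
    have h1 : s ∈ maximalIdeal O ^ 2 := Ideal.pow_right_mono hker.le 2 h0
    rw [hmt, Ideal.span_singleton_pow] at h1
    obtain ⟨c, hc⟩ := Ideal.mem_span_singleton'.mp h1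
    have h2 : (t : O) * (u - c * (t : O)) = 0 := by
      have : (t : O) * (u - c * (t : O)) = u * (t : O) - c * (t : O) ^ 2 := by ring
      rw [this, hu, hc, sub_self]
    have hu2 : IsUnit (u - c * (t : O)) := by
      by_contra hnu
      have h3 : u - c * (t : O) ∈ maximalIdeal O := (IsLocalRing.mem_maximalIdeal _).mpr hnu
      have h4 : u ∈ maximalIdeal O := by
        have : u = (u - c * (t : O)) + c * (t : O) := by ring
        rw [this]
        exact (maximalIdeal O).add_mem h3 ((maximalIdeal O).mul_mem_left c htm)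
      exact (IsLocalRing.mem_maximalIdeal _).mp h4 hunit
    have ht0 : (t : O) = 0 := by
      have := hu2.mul_left_eq_zero.mp (by rwa [mul_comm] at h2)
      exact this
    apply hs.ne_zero
    rw [← hu, ht0, mul_zero]
  -- hence 1 ⊗ ds ≠ 0
  have hds : (1 : ResidueField O) ⊗ₜ[O] (D k O s) ≠ 0 := by
    intro h0
    apply hsbar
    apply hφinj
    rw [map_zero, KaehlerDifferential.kerCotangentToTensor_toCotangent]
    exact h0
  -- so e (ds) is a unit
  have hc : IsUnit (e (D k O s)) := by
    by_contra hnu
    have h3 : e (D k O s) ∈ maximalIdeal O := (IsLocalRing.mem_maximalIdeal _).mpr hnu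
    apply hds
    rw [hω (D k O s), TensorProduct.tmul_smul, TensorProduct.smul_tmul', Algebra.smul_def, mul_one,
      ResidueField.algebraMap_eq, (residue_eq_zero_iff _).mpr h3, TensorProduct.zero_tmul]
  -- conclusion
  have hcomp : (fun a : O => a • D k O s) = e.symm ∘ (fun a : O => a * e (D k O s)) := by
    funext a
    simp only [Function.comp_apply]
    apply e.injective
    rw [map_smul, LinearEquiv.apply_symm_apply, smul_eq_mul]
  rw [hcomp]
  refine e.symm.bijective.comp ?_
  constructor
  · intro a b hab
    exact hc.mul_left_injective hab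
  · intro y
    obtain ⟨v, hv⟩ := hc.exists_left_inv
    refine ⟨y * v, ?_⟩
    show y * v * e (D k O s) = y
    rw [mul_assoc, hv, mul_one]

/-- `Ω_{O/k}` is free of rank `n` when `O` is a localization of a standard smooth algebra of
relative dimension `n`. -/
theorem free_of_isLocalization (B : Type u) [CommRing B] [Algebra k B] [Algebra B O]
    [IsScalarTower k B O] (n : ℕ) [Algebra.IsStandardSmoothOfRelativeDimension n k B]
    (q : Ideal B) [q.IsPrime] [IsLocalization.AtPrime O q] :
    Module.Free O (Ω[O⁄k]) ∧ Module.Finite O (Ω[O⁄k]) ∧ Module.finrank O (Ω[O⁄k]) = n := by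
  haveI : Algebra.IsStandardSmooth k B := Algebra.IsStandardSmoothOfRelativeDimension.isStandardSmooth n
  haveI : Algebra.FormallyEtale B O := Algebra.FormallyEtale.of_isLocalization q.primeCompl
  haveI : Nontrivial B := (algebraMap B O).domain_nontrivial
  have e := KaehlerDifferential.tensorKaehlerEquivOfFormallyEtale k B O
  haveI : Module.Free B (Ω[B⁄k]) := inferInstance
  haveI : Module.Finite B (Ω[B⁄k]) := inferInstance
  refine ⟨Module.Free.of_equiv e, Module.Finite.equiv e, ?_⟩
  rw [← e.finrank_eq, Module.finrank_baseChange]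
  exact Module.finrank_eq_of_rank_eq
    (Algebra.IsStandardSmoothOfRelativeDimension.rank_kaehlerDifferential n)

end Ring

end Groth.Agent.Lib.UnifKaehlerH3
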