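import Mathlib
import Groth.Prelude
import Groth.Agent.Lib.UnifKaehler_helper3

/-!
# `Ω_{O_{X,x}/k}` is free on `d s` for a uniformizer at a smooth point of a curve (helper3)
APPEND-ONLY once landed.
-/

set_option autoImplicit false
universe u

open CategoryTheory CategoryTheory.Limits AlgebraicGeometry TopologicalSpace Opposite

namespace Groth.Agent.Lib.UnifKaehlerH3

attribute [local instance] Curv2.resAlgebra Curv2.stalkAlgebra

theorem germ_appLE {X : Scheme.{u}} (k : Type u) [Field k] (p : X ⟶ Spec (CommRingCat.of k))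
    (U : X.Opens) (V : (U : Scheme.{u}).Opens) (e : V ≤ (U.ι ≫ p) ⁻¹ᵁ ⊤) (x : X) (hxU : x ∈ U)
    (hzV : (⟨x, hxU⟩ : ↥U) ∈ V) :
    (U.ι ≫ p).appLE ⊤ V e ≫ X.presheaf.germ (U.ι ''ᵁ V) x ⟨⟨x, hxU⟩, hzV, rfl⟩ =
      p.appTop ≫ X.presheaf.germ ⊤ x trivial := by
  rw [Scheme.Hom.comp_appLE, Scheme.Opens.ι_appLE]
  have h := X.presheaf.germ_res (homOfLE (show U.ι ''ᵁ V ≤ p ⁻¹ᵁ ⊤ from fun _ _ => trivial)) x
    ⟨⟨x, hxU⟩, hzV, rfl⟩
  exact congrArg (fun t => p.app ⊤ ≫ t) h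

theorem main6555 (k : Type u) [Field k] (X : Scheme.{u}) [X.Over (Spec (CommRingCat.of k))]
    (x : X)
    (hsm : ∃ U : X.Opens, x ∈ U ∧
      SmoothOfRelativeDimension 1 (U.ι ≫ (X ↘ (Spec (CommRingCat.of k)))))
    (hsep : Algebra.IsSeparable k (X.residueField x))
    (s : X.presheaf.stalk x) (hs : Irreducible s) :
    Function.Bijective
      (fun a : X.presheaf.stalk x => a • KaehlerDifferential.D k (X.presheaf.stalk x) s) := by
  obtain ⟨U, hxU, hsmU⟩ := hsm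
  haveI := hsmU
  obtain ⟨U₀, hU₀, V, hV, hzV, e, hstd⟩ :=
    SmoothOfRelativeDimension.exists_isStandardSmoothOfRelativeDimension (n := 1)
      (f := U.ι ≫ (X ↘ Spec (CommRingCat.of k))) (⟨x, hxU⟩ : ↥U)
  haveI : Subsingleton (Spec (CommRingCat.of k)) :=
    inferInstanceAs (Subsingleton (PrimeSpectrum k))
  have hUtop : U₀ = ⊤ := by
    ext q
    simp only [Opens.coe_top, Set.mem_univ, iff_true, SetLike.mem_coe]
    have hq : q = (U.ι ≫ (X ↘ Spec (CommRingCat.of k))) (⟨x, hxU⟩ : ↥U) := Subsingleton.elim _ _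
    rw [hq]
    exact e hzV
  subst hUtop
  obtain ⟨e', he'⟩ : ∃ e' : k ≃+* Γ(Spec (CommRingCat.of k), ⊤), e' =
      (Scheme.ΓSpecIso (CommRingCat.of k)).symm.commRingCatIsoToRingEquiv := ⟨_, rfl⟩
  have hψ : (((U.ι ≫ (X ↘ Spec (CommRingCat.of k))).appLE ⊤ V e).hom.comp
      e'.toRingHom).IsStandardSmoothOfRelativeDimension 1 :=
    (RingHom.isStandardSmoothOfRelativeDimension_respectsIso (n := 1)).2 _ e' hstd
  have hV' : IsAffineOpen (U.ι ''ᵁ V) := hV.image_of_isOpenImmersion U.ι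
  have hxV' : x ∈ U.ι ''ᵁ V := ⟨⟨x, hxU⟩, hzV, rfl⟩
  let ψ : k →+* Γ(X, U.ι ''ᵁ V) :=
    ((U.ι ≫ (X ↘ Spec (CommRingCat.of k))).appLE ⊤ V e).hom.comp e'.toRingHom
  letI algB : Algebra k Γ(X, U.ι ''ᵁ V) := ψ.toAlgebra
  letI algBO : Algebra Γ(X, U.ι ''ᵁ V) (X.presheaf.stalk x) :=
    X.presheaf.algebra_section_stalk ⟨x, hxV'⟩
  haveI tower : IsScalarTower k Γ(X, U.ι ''ᵁ V) (X.presheaf.stalk x) := by
    refine IsScalarTower.of_algebraMap_eq (fun c => ?_)
    have h := germ_appLE k (X ↘ Spec (CommRingCat.of k)) U V e x hxU hzV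
    have h2 := congrArg (fun t => t.hom (e' c)) h
    subst he'
    exact h2.symm
  haveI loc : IsLocalization.AtPrime (X.presheaf.stalk x)
      (hV'.primeIdealOf ⟨x, hxV'⟩).asIdeal := hV'.isLocalization_stalk ⟨x, hxV'⟩
  haveI std : Algebra.IsStandardSmoothOfRelativeDimension 1 k Γ(X, U.ι ''ᵁ V) := hψ
  obtain ⟨hfree, hfin, hrk⟩ := free_of_isLocalization k (X.presheaf.stalk x) Γ(X, U.ι ''ᵁ V) 1
    (hV'.primeIdealOf ⟨x, hxV'⟩).asIdeal
  haveI : IsNoetherianRing (X.presheaf.stalk x) := by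
    haveI : Algebra.IsStandardSmooth k Γ(X, U.ι ''ᵁ V) :=
      Algebra.IsStandardSmoothOfRelativeDimension.isStandardSmooth 1
    haveI : Algebra.FiniteType k Γ(X, U.ι ''ᵁ V) := inferInstance
    haveI : IsNoetherianRing Γ(X, U.ι ''ᵁ V) := Algebra.FiniteType.isNoetherianRing k _
    exact IsLocalization.isNoetherianRing (hV'.primeIdealOf ⟨x, hxV'⟩).asIdeal.primeCompl _
      inferInstance
  haveI : Algebra.IsSeparable k (IsLocalRing.ResidueField (X.presheaf.stalk x)) := by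
    have halg : (Curv2.resAlgebra k X x) =
        (IsLocalRing.ResidueField.algebra (X.presheaf.stalk x) (R₀ := k)) :=
      Algebra.algebra_ext _ _ (fun r => rfl)
    rw [← halg]
    exact hsep
  exact bijective_smul_D k (X.presheaf.stalk x) hrk s hs

end Groth.Agent.Lib.UnifKaehlerH3
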