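import Mathlib
import Groth.Prelude
import Groth.Agent.Lib.RelFPKit_helper9

/-!
# Uniform presentations, part 1: algebra (helper3)

* `glue_span`: generators of the localisations `K_{e_j}` of a submodule (`Σ e_j = 1`) glue to
  generators of `K`, with the number of generators adding up.
* `pres_baseChange`: a presentation base-changes.
* `schanuel_bound`: if `M` has a presentation with `a` relations then the kernel of any surjection
  from `C^G` is generated by `|G| + a` elements.
* `fp_pi`: uniform presentations give a finite presentation of the product module over the product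
  ring.
-/

set_option autoImplicit false
set_option linter.all false
set_option maxHeartbeats 1600000

universe u
open RelFPKit

namespace Groth.Agent.Lib.UnifPresH3

section Glue

variable {R : Type u} [CommRing R] {M : Type u} [AddCommGroup M] [Module R M]

/-- elements of a localised span have numerators in the span -/
theorem exists_num_of_mem_span {R' : Type u} [CommRing R'] {ρ : R →+* R'} {e : R}
    {M' : Type u} [AddCommGroup M'] [Module R' M'] {l : M →+ M'} (hl : LocData ρ e l)
    {ι : Type*} (g : ι → M') (s : ι → M) (t : ι → ℕ)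
    (hst : ∀ k, ρ e ^ t k • g k = l (s k)) (y : M')
    (hy : y ∈ Submodule.span R' (Set.range g)) :
    ∃ (N : ℕ) (x : M), x ∈ Submodule.span R (Set.range s) ∧ ρ e ^ N • y = l x := by
  letI := ρ.toAlgebra
  haveI : IsLocalization.Away e R' := hl.isLoc
  refine Submodule.span_induction ?_ ?_ ?_ ?_ hy
  · rintro _ ⟨k, rfl⟩
    exact ⟨t k, s k, Submodule.subset_span ⟨k, rfl⟩, hst k⟩
  · exact ⟨0, 0, Submodule.zero_mem _, by simp⟩
  · rintro y₁ y₂ _ _ ⟨N₁, x₁, hx₁, h₁⟩ ⟨N₂, x₂, hx₂, h₂⟩
    refine ⟨N₁ + N₂, e ^ N₂ • x₁ + e ^ N₁ • x₂,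
      Submodule.add_mem _ (Submodule.smul_mem _ _ hx₁) (Submodule.smul_mem _ _ hx₂), ?_⟩
    rw [map_add, hl.smul, hl.smul, ← h₁, ← h₂, smul_add, map_pow, map_pow, smul_smul, smul_smul,
      ← pow_add, ← pow_add, add_comm N₂ N₁]
  · rintro r y _ ⟨N, x, hx, h⟩
    obtain ⟨q, a, ha⟩ := IsLocalization.Away.surj (S := R') e r
    -- ha : r * algebraMap (e ^ q) = algebraMap a
    refine ⟨q + N, a • x, Submodule.smul_mem _ _ hx, ?_⟩
    rw [hl.smul, ← h]
    have ha' : r * ρ e ^ q = ρ a := by
      have := ha
      simpa [RingHom.algebraMap_toAlgebra, map_pow] using this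
    rw [← ha', smul_smul, smul_smul, pow_add]
    congr 1
    ring

/-- **gluing generators** of a submodule from generators of its localisations. -/
theorem glue_span {n : ℕ} (e : Fin n → R) (he : Ideal.span (Set.range e) = ⊤)
    (R' : Fin n → Type u) [∀ j, CommRing (R' j)] (ρ : ∀ j, R →+* R' j)
    (M' : Fin n → Type u) [∀ j, AddCommGroup (M' j)] [∀ j, Module (R' j) (M' j)]
    (l : ∀ j, M →+ M' j) (hl : ∀ j, LocData (ρ j) (e j) (l j))
    (K : Submodule R M) (K' : ∀ j, Submodule (R' j) (M' j))
    (hK : ∀ j, ∀ y ∈ K' j, ∃ (t : ℕ) (x : M), x ∈ K ∧ ρ j (e j) ^ t • y = l j x)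
    (hK' : ∀ j, ∀ x ∈ K, l j x ∈ K' j)
    (c : Fin n → Type) (g : ∀ j, c j → M' j)
    (hg : ∀ j, Submodule.span (R' j) (Set.range (g j)) = K' j) :
    ∃ s : (Σ j, c j) → M, Submodule.span R (Set.range s) = K := by
  have hgm : ∀ (p : Σ j, c j), g p.1 p.2 ∈ K' p.1 := by
    rintro ⟨j, k⟩
    rw [← hg j]; exact Submodule.subset_span ⟨k, rfl⟩
  choose t s hsK hst using fun p : Σ j, c j => hK p.1 (g p.1 p.2) (hgm p)
  refine ⟨s, le_antisymm (Submodule.span_le.2 ?_) ?_⟩
  · rintro _ ⟨p, rfl⟩; exact hsK p
  · intro v hv
    refine Submodule.mem_of_span_eq_top_of_smul_pow_mem _ (Set.range e) he v ?_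
    rintro ⟨_, j, rfl⟩
    have hlv : l j v ∈ Submodule.span (R' j) (Set.range (g j)) := by
      rw [hg j]; exact hK' j v hv
    obtain ⟨N, x, hx, hN⟩ := exists_num_of_mem_span (hl j) (g j) (fun k => s ⟨j, k⟩)
      (fun k => t ⟨j, k⟩) (fun k => hst ⟨j, k⟩) (l j v) hlv
    have hx' : x ∈ Submodule.span R (Set.range s) := by
      refine Submodule.span_mono ?_ hx
      rintro _ ⟨k, rfl⟩; exact ⟨⟨j, k⟩, rfl⟩
    have h0 : l j (e j ^ N • v - x) = 0 := by
      rw [map_sub, (hl j).smul, map_pow, hN, sub_self]
    obtain ⟨N', hN'⟩ := (hl j).ker _ h0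
    refine ⟨N' + N, ?_⟩
    have : e j ^ (N' + N) • v = e j ^ N' • x := by
      rw [smul_sub, sub_eq_zero] at hN'
      rw [pow_add, mul_smul]; exact hN'
    show e j ^ (N' + N) • v ∈ _
    rw [this]
    exact Submodule.smul_mem _ _ hx'

end Glue

section Free

variable {R R' : Type u} [CommRing R] [CommRing R'] {ρ : R →+* R'} {e : R}

/-- the coordinatewise map `(G → R) → (G → R')` -/
def piMap (ρ : R →+* R') (G : Type) : (G → R) →+ (G → R') where
  toFun v := fun k => ρ (v k)
  map_zero' := by ext k; simp
  map_add' v w := by ext k; simp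

@[simp] theorem piMap_apply (G : Type) (v : G → R) (k : G) : piMap ρ G v k = ρ (v k) := rfl

/-- localisation data for finite free modules -/
theorem locData_pi (h : letI := ρ.toAlgebra; IsLocalization.Away e R') (G : Type) [Fintype G] :
    LocData ρ e (piMap ρ G) := by
  classical
  letI := ρ.toAlgebra
  haveI : IsLocalization.Away e R' := h
  refine ⟨h, ?_, ?_, ?_⟩
  · intro x v
    ext k
    simp
  · intro w
    choose q a ha using fun k => IsLocalization.Away.surj (S := R') e (w k)
    have ha' : ∀ k, w k * ρ e ^ q k = ρ (a k) := by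
      intro k
      have := ha k
      simpa [RingHom.algebraMap_toAlgebra, map_pow] using this
    refine ⟨∑ k, q k, fun k => e ^ ((∑ k', q k') - q k) * a k, ?_⟩
    ext k
    have hle : q k ≤ ∑ k', q k' := Finset.single_le_sum (fun _ _ => Nat.zero_le _) (Finset.mem_univ k)
    simp only [Pi.smul_apply, smul_eq_mul, piMap_apply, map_mul, map_pow]
    rw [← ha' k]
    have : ρ e ^ (∑ k', q k') = ρ e ^ ((∑ k', q k') - q k) * ρ e ^ q k := by
      rw [← pow_add, Nat.sub_add_cancel hle]
    rw [this]; ring
  · intro v hv
    have hk : ∀ k, ∃ t : ℕ, e ^ t * v k = 0 := by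
      intro k
      have h0 : algebraMap R R' (v k) = 0 := by
        have := congrFun hv k
        simpa [RingHom.algebraMap_toAlgebra] using this
      obtain ⟨⟨_, t, rfl⟩, ht⟩ := (IsLocalization.map_eq_zero_iff (Submonoid.powers e) R' (v k)).1 h0
      exact ⟨t, ht⟩
    choose t ht using hk
    refine ⟨∑ k, t k, ?_⟩
    ext k
    have hle : t k ≤ ∑ k', t k' := Finset.single_le_sum (fun _ _ => Nat.zero_le _) (Finset.mem_univ k)
    simp only [Pi.smul_apply, smul_eq_mul, Pi.zero_apply]
    rw [← Nat.sub_add_cancel hle, pow_add, mul_assoc, ht k, mul_zero]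

end Free

section Kernel

variable {R R' : Type u} [CommRing R] [CommRing R'] {ρ : R →+* R'} {e : R}
  {M M' : Type u} [AddCommGroup M] [Module R M] [AddCommGroup M'] [Module R' M'] {l : M →+ M'}

/-- `l` of a linear combination -/
theorem l_linearCombination (hl : LocData ρ e l) {G : Type} [Fintype G] (x : G → M) (v : G → R) :
    l (Fintype.linearCombination R x v) = Fintype.linearCombination R' (fun k => l (x k)) (piMap ρ G v) := by
  simp only [Fintype.linearCombination_apply, map_sum, hl.smul, piMap_apply]

/-- generators localise -/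
theorem span_loc (hl : LocData ρ e l) {G : Type} [Fintype G] (x : G → M)
    (hx : Function.Surjective (Fintype.linearCombination R x)) :
    Function.Surjective (Fintype.linearCombination R' (fun k => l (x k))) := by
  letI := ρ.toAlgebra
  haveI : IsLocalization.Away e R' := hl.isLoc
  intro y
  obtain ⟨n, m, hnm⟩ := hl.surj y
  obtain ⟨v, rfl⟩ := hx m
  have hu : IsUnit (ρ e ^ n) := by
    have : IsUnit (algebraMap R R' e) := IsLocalization.Away.algebraMap_isUnit e
    exact this.pow n
  obtain ⟨u, hu⟩ := hu
  refine ⟨(↑u⁻¹ : R') • piMap ρ G v, ?_⟩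
  rw [map_smul, ← l_linearCombination hl, ← hnm, ← hu, smul_smul, Units.inv_mul, one_smul]

/-- the kernel conditions needed for `glue_span` -/
theorem ker_cond (hl : LocData ρ e l) {G : Type} [Fintype G] (x : G → M) :
    (∀ y ∈ LinearMap.ker (Fintype.linearCombination R' (fun k => l (x k))),
      ∃ (t : ℕ) (v : G → R), v ∈ LinearMap.ker (Fintype.linearCombination R x) ∧
        ρ e ^ t • y = piMap ρ G v) ∧
    (∀ v ∈ LinearMap.ker (Fintype.linearCombination R x),
      piMap ρ G v ∈ LinearMap.ker (Fintype.linearCombination R' (fun k => l (x k)))) := by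
  have hpi := locData_pi (ρ := ρ) (e := e) hl.isLoc G
  constructor
  · intro y hy
    obtain ⟨q, v₀, hv₀⟩ := hpi.surj y
    have h0 : l (Fintype.linearCombination R x v₀) = 0 := by
      rw [l_linearCombination hl, ← hv₀, map_smul, LinearMap.mem_ker.1 hy, smul_zero]
    obtain ⟨q', hq'⟩ := hl.ker _ h0
    refine ⟨q' + q, e ^ q' • v₀, ?_, ?_⟩
    · rw [LinearMap.mem_ker, map_smul]; exact hq'
    · rw [hpi.smul, ← hv₀, map_pow, smul_smul, ← pow_add]
  · intro v hv
    rw [LinearMap.mem_ker, ← l_linearCombination hl, LinearMap.mem_ker.1 hv, map_zero]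

end Kernel

section Pres

/-- a finitely presented module has a presentation with finitely many generators and relations -/
theorem exists_pres (B : Type u) [CommRing B] (N : Type u) [AddCommGroup N] [Module B N]
    [Module.FinitePresentation B N] :
    ∃ (b a : ℕ) (x : Fin b → N) (y : Fin a → (Fin b → B)),
      Function.Surjective (Fintype.linearCombination B x) ∧
      Submodule.span B (Set.range y) = LinearMap.ker (Fintype.linearCombination B x) := by
  classical
  obtain ⟨b, K, e, hK⟩ := Module.FinitePresentation.exists_fin B N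
  obtain ⟨a, y, hy⟩ := Submodule.fg_iff_exists_fin_generating_family.1 hK
  let x : Fin b → N := fun k => e.symm (K.mkQ (Pi.single k 1))
  have hπ : Fintype.linearCombination B x = e.symm.toLinearMap ∘ₗ K.mkQ := by
    refine LinearMap.pi_ext fun k c => ?_
    rw [Fintype.linearCombination_apply_single]
    show c • e.symm (K.mkQ (Pi.single k 1)) = e.symm (K.mkQ (Pi.single k c))
    rw [← map_smul, ← map_smul]
    congr 2
    ext j
    simp [Pi.single_apply]
  refine ⟨b, a, x, y, ?_, ?_⟩
  · rw [hπ]
    exact e.symm.surjective.comp (Submodule.mkQ_surjective K)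
  · rw [hπ, hy, LinearEquiv.ker_comp, Submodule.ker_mkQ]

/-- base change of a presentation -/
theorem pres_baseChange {B C : Type u} [CommRing B] [CommRing C] [Algebra B C]
    {N N' : Type u} [AddCommGroup N] [Module B N] [AddCommGroup N'] [Module B N'] [Module C N']
    [IsScalarTower B C N'] (g : N →ₗ[B] N') (hg : IsBaseChange C g)
    {b a : ℕ} (x : Fin b → N) (y : Fin a → (Fin b → B))
    (hx : Function.Surjective (Fintype.linearCombination B x))
    (hy : Submodule.span B (Set.range y) = LinearMap.ker (Fintype.linearCombination B x)) :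
    Function.Surjective (Fintype.linearCombination C (fun k => g (x k))) ∧
    Submodule.span C (Set.range fun l : Fin a => (fun k => algebraMap B C (y l k))) =
      LinearMap.ker (Fintype.linearCombination C (fun k => g (x k))) := by
  classical
  set π := Fintype.linearCombination B x with hπ
  set π' := Fintype.linearCombination C (fun k => g (x k)) with hπ'
  have key : ∀ v : Fin b → B, π' (fun k => algebraMap B C (v k)) = g (π v) := by
    intro v
    simp only [hπ, hπ', Fintype.linearCombination_apply, map_sum, map_smul, algebraMap_smul]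
  have hsurj : Function.Surjective π' := by
    intro n'
    refine hg.inductionOn n' (fun n' => n' ∈ LinearMap.range π') (Submodule.zero_mem _) ?_ ?_ ?_
    · intro n
      obtain ⟨v, rfl⟩ := hx n
      exact ⟨_, key v⟩
    · intro c n' hn'
      exact Submodule.smul_mem _ c hn'
    · intro n₁ n₂ h₁ h₂
      exact Submodule.add_mem _ h₁ h₂
  refine ⟨hsurj, ?_⟩
  set S : Submodule C (Fin b → C) :=
    Submodule.span C (Set.range fun l : Fin a => (fun k => algebraMap B C (y l k))) with hS
  refine le_antisymm (Submodule.span_le.2 ?_) ?_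
  · rintro _ ⟨l, rfl⟩
    show π' (fun k => algebraMap B C (y l k)) = 0
    rw [key]
    have : y l ∈ LinearMap.ker π := by rw [← hy]; exact Submodule.subset_span ⟨l, rfl⟩
    rw [LinearMap.mem_ker.1 this, map_zero]
  · -- the inverse map
    let φ₀ : (Fin b → B) →ₗ[B] ((Fin b → C) ⧸ S) :=
      (S.mkQ.restrictScalars B) ∘ₗ ((Algebra.linearMap B C).compLeft (Fin b))
    have hφ₀ : ∀ v : Fin b → B, φ₀ v = S.mkQ (fun k => algebraMap B C (v k)) := fun v => rfl
    have hle : LinearMap.ker π ≤ LinearMap.ker φ₀ := by
      rw [← hy, Submodule.span_le]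
      rintro _ ⟨l, rfl⟩
      show φ₀ (y l) = 0
      rw [hφ₀]
      exact (Submodule.Quotient.mk_eq_zero S).2 (Submodule.subset_span ⟨l, rfl⟩)
    let h₀ : N →ₗ[B] ((Fin b → C) ⧸ S) :=
      (Submodule.liftQ (LinearMap.ker π) φ₀ hle) ∘ₗ (π.quotKerEquivOfSurjective hx).symm.toLinearMap
    have hh₀ : ∀ v, h₀ (π v) = φ₀ v := by
      intro v
      show Submodule.liftQ (LinearMap.ker π) φ₀ hle ((π.quotKerEquivOfSurjective hx).symm (π v)) = _
      have : π v = π.quotKerEquivOfSurjective hx (Submodule.Quotient.mk v) := rfl
      rw [this, LinearEquiv.symm_apply_apply]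
      rfl
    let h : N' →ₗ[C] ((Fin b → C) ⧸ S) := hg.lift h₀
    have hh : ∀ n, h (g n) = h₀ n := fun n => hg.lift_eq h₀ n
    have hcomp : h ∘ₗ π' = S.mkQ := by
      refine LinearMap.pi_ext fun k c => ?_
      show h (π' (Pi.single k c)) = S.mkQ (Pi.single k c)
      rw [hπ', Fintype.linearCombination_apply_single, map_smul, hh]
      have hxk : x k = π (Pi.single k 1) := by
        rw [hπ, Fintype.linearCombination_apply_single, one_smul]
      rw [hxk, hh₀, hφ₀, ← map_smul]
      congr 1
      ext j
      by_cases hj : j = k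
      · subst hj; simp
      · simp [Pi.single_apply, hj]
    intro c hc
    have : S.mkQ c = 0 := by
      rw [← hcomp]
      show h (π' c) = 0
      rw [LinearMap.mem_ker.1 hc, map_zero]
    exact (Submodule.Quotient.mk_eq_zero S).1 this

/-- **Schanuel bound**: if `M` has a presentation with `a` relations, the kernel of any surjection
from a free module on `G` is generated by `|G| + a` elements. -/
theorem schanuel_bound {C : Type u} [CommRing C] {M : Type u} [AddCommGroup M] [Module C M]
    {b a : ℕ} (x : Fin b → M) (y : Fin a → (Fin b → C))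
    (hx : Function.Surjective (Fintype.linearCombination C x))
    (hy : Submodule.span C (Set.range y) = LinearMap.ker (Fintype.linearCombination C x))
    {G : Type} [Fintype G] [DecidableEq G] (z : G → M)
    (hz : Function.Surjective (Fintype.linearCombination C z)) :
    ∃ w : G ⊕ Fin a → (G → C),
      Submodule.span C (Set.range w) = LinearMap.ker (Fintype.linearCombination C z) := by
  set p := Fintype.linearCombination C x with hp
  set π := Fintype.linearCombination C z with hπ
  obtain ⟨h, hh⟩ := Module.projective_lifting_property p π hx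
  obtain ⟨g, hg⟩ := Module.projective_lifting_property π p hz
  let δ : (G → C) →ₗ[C] (G → C) := LinearMap.id - g ∘ₗ h
  refine ⟨Sum.elim (fun k => δ (fun j => if k = j then 1 else 0)) (fun l => g (y l)), ?_⟩
  refine le_antisymm (Submodule.span_le.2 ?_) ?_
  · rintro _ ⟨(k | l), rfl⟩
    · show π (δ _) = 0
      simp only [δ, LinearMap.sub_apply, LinearMap.id_apply, LinearMap.comp_apply, map_sub]
      have : π (g (h (fun j => if k = j then 1 else 0))) = p (h (fun j => if k = j then 1 else 0)) :=
        LinearMap.congr_fun hg _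
      rw [this]
      have : p (h (fun j => if k = j then 1 else 0)) = π (fun j => if k = j then 1 else 0) :=
        LinearMap.congr_fun hh _
      rw [this, sub_self]
    · show π (g (y l)) = 0
      have : π (g (y l)) = p (y l) := LinearMap.congr_fun hg _
      rw [this]
      have : y l ∈ LinearMap.ker p := by rw [← hy]; exact Submodule.subset_span ⟨l, rfl⟩
      exact LinearMap.mem_ker.1 this
  · intro v hv
    have hsplit : v = δ v + g (h v) := by
      simp only [δ, LinearMap.sub_apply, LinearMap.id_apply, LinearMap.comp_apply]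
      abel
    rw [hsplit]
    refine Submodule.add_mem _ ?_ ?_
    · rw [LinearMap.pi_apply_eq_sum_univ δ v]
      refine Submodule.sum_mem _ fun k _ => Submodule.smul_mem _ _ ?_
      exact Submodule.subset_span ⟨Sum.inl k, rfl⟩
    · have hhv : h v ∈ Submodule.span C (Set.range y) := by
        rw [hy, LinearMap.mem_ker]
        have : p (h v) = π v := LinearMap.congr_fun hh v
        rw [this]; exact LinearMap.mem_ker.1 hv
      have : g (h v) ∈ (Submodule.span C (Set.range y)).map g := Submodule.mem_map_of_mem hhv
      rw [Submodule.map_span] at this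
      refine Submodule.span_mono ?_ this
      rintro _ ⟨_, ⟨l, rfl⟩, rfl⟩
      exact ⟨Sum.inr l, rfl⟩

/-- **products**: uniform presentations give a finite presentation of the product. -/
theorem fp_pi {ι : Type u} (R : ι → Type u) [∀ i, CommRing (R i)] (M : ι → Type u)
    [∀ i, AddCommGroup (M i)] [∀ i, Module (R i) (M i)]
    (G Rl : Type) [Fintype G] [Fintype Rl]
    (z : ∀ i, G → M i) (w : ∀ i, Rl → (G → R i))
    (hz : ∀ i, Function.Surjective (Fintype.linearCombination (R i) (z i)))
    (hw : ∀ i, Submodule.span (R i) (Set.range (w i)) =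
      LinearMap.ker (Fintype.linearCombination (R i) (z i))) :
    Module.FinitePresentation (∀ i, R i) (∀ i, M i) := by
  classical
  let Z : G → (∀ i, M i) := fun k i => z i k
  let Φ := Fintype.linearCombination (∀ i, R i) Z
  have hΦ : ∀ (c : G → ∀ i, R i) (i : ι),
      Φ c i = Fintype.linearCombination (R i) (z i) (fun k => c k i) := by
    intro c i
    simp only [Φ, Z, Fintype.linearCombination_apply, Finset.sum_apply, Pi.smul_apply']
  have hsurj : Function.Surjective Φ := by
    intro m
    choose v hv using fun i => hz i (m i)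
    refine ⟨fun k i => v i k, ?_⟩
    ext i
    rw [hΦ]; exact hv i
  refine Module.finitePresentation_of_surjective Φ hsurj ?_
  let W : Rl → (G → ∀ i, R i) := fun l k i => w i l k
  have hker : LinearMap.ker Φ = Submodule.span (∀ i, R i) (Set.range W) := by
    refine le_antisymm ?_ (Submodule.span_le.2 ?_)
    · intro c hc
      have hci : ∀ i, (fun k => c k i) ∈ Submodule.span (R i) (Set.range (w i)) := by
        intro i
        rw [hw i, LinearMap.mem_ker, ← hΦ, LinearMap.mem_ker.1 hc]; rfl
      choose d hd using fun i => (Submodule.mem_span_range_iff_exists_fun (R i)).1 (hci i)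
      rw [Submodule.mem_span_range_iff_exists_fun]
      refine ⟨fun l i => d i l, ?_⟩
      ext k i
      have := congrFun (hd i) k
      simp only [Finset.sum_apply, Pi.smul_apply, smul_eq_mul] at this
      simp only [Finset.sum_apply, Pi.smul_apply, Pi.smul_apply', smul_eq_mul, W]
      exact this
    · rintro _ ⟨l, rfl⟩
      rw [SetLike.mem_coe, LinearMap.mem_ker]
      ext i
      rw [hΦ]
      have : w i l ∈ LinearMap.ker (Fintype.linearCombination (R i) (z i)) := by
        rw [← hw i]; exact Submodule.subset_span ⟨l, rfl⟩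
      exact LinearMap.mem_ker.1 this
  rw [hker]
  exact Submodule.fg_span (Set.finite_range W)

end Pres

section Local

/-- **local to global with bounds**: if the localisations `M_{e_j}` (`Σ e_j = 1`) have
presentations with `b j` generators and `a j` relations, then `M` has a presentation with
`Σ b j` generators and `Σ_j (Σ b + a j)` relations. -/
theorem pres_of_local {R : Type u} [CommRing R] {M : Type u} [AddCommGroup M] [Module R M]
    {n : ℕ} (e : Fin n → R) (he : Ideal.span (Set.range e) = ⊤)
    (R' : Fin n → Type u) [∀ j, CommRing (R' j)] (ρ : ∀ j, R →+* R' j)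
    (M' : Fin n → Type u) [∀ j, AddCommGroup (M' j)] [∀ j, Module (R' j) (M' j)]
    (l : ∀ j, M →+ M' j) (hl : ∀ j, LocData (ρ j) (e j) (l j))
    (b a : Fin n → ℕ) (x : ∀ j, Fin (b j) → M' j) (y : ∀ j, Fin (a j) → (Fin (b j) → R' j))
    (hx : ∀ j, Function.Surjective (Fintype.linearCombination (R' j) (x j)))
    (hy : ∀ j, Submodule.span (R' j) (Set.range (y j)) =
      LinearMap.ker (Fintype.linearCombination (R' j) (x j))) :
    ∃ (z : (Σ j, Fin (b j)) → M)
      (w : (Σ j, ((Σ j, Fin (b j)) ⊕ Fin (a j))) → ((Σ j, Fin (b j)) → R)),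
      Function.Surjective (Fintype.linearCombination R z) ∧
      Submodule.span R (Set.range w) = LinearMap.ker (Fintype.linearCombination R z) := by
  classical
  -- generators
  obtain ⟨z, hz⟩ := glue_span e he R' ρ M' l hl ⊤ (fun _ => ⊤)
    (fun j y _ => by
      obtain ⟨t, m, htm⟩ := (hl j).surj y
      exact ⟨t, m, trivial, htm⟩)
    (fun _ _ _ => trivial) (fun j => Fin (b j)) x
    (fun j => by
      rw [← Fintype.range_linearCombination, LinearMap.range_eq_top]; exact hx j)
  have hzs : Function.Surjective (Fintype.linearCombination R z) := by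
    rw [← LinearMap.range_eq_top, Fintype.range_linearCombination]; exact hz
  -- local relations
  have hloc : ∀ j, Function.Surjective
      (Fintype.linearCombination (R' j) (fun k => l j (z k))) := fun j => span_loc (hl j) z hzs
  choose w' hw' using fun j => schanuel_bound (x j) (y j) (hx j) (hy j) (fun k => l j (z k)) (hloc j)
  -- glue the relations
  obtain ⟨w, hw⟩ := glue_span (M := (Σ j, Fin (b j)) → R) e he R' ρ
    (fun j => (Σ j, Fin (b j)) → R' j) (fun j => piMap (ρ j) (Σ j, Fin (b j)))
    (fun j => locData_pi (hl j).isLoc _)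
    (LinearMap.ker (Fintype.linearCombination R z))
    (fun j => LinearMap.ker (Fintype.linearCombination (R' j) (fun k => l j (z k))))
    (fun j => (ker_cond (hl j) z).1) (fun j => (ker_cond (hl j) z).2)
    (fun j => (Σ j, Fin (b j)) ⊕ Fin (a j)) w' hw'
  exact ⟨z, w, hzs, hw⟩

end Local

end Groth.Agent.Lib.UnifPresH3
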