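import Mathlib
import Groth.Prelude
import Groth.Agent.Lib.UnifPres1_helper3
import Groth.Agent.Lib.UnifAffCov_helper3
import Groth.Agent.Lib.RelFPAff_helper9
import Groth.Agent.Lib.PB6_helper8
import Groth.Agent.Lib.QCohFP2_helper9
import Groth.Agent.Lib.Fpqc1_helper8

/-!
# Uniform presentations, part 2: sections of pullbacks of a finitely presented module (helper3)

`main17871`: for a quasi-compact scheme `X`, a finitely presented `O_X`-module `F` and any family
`f i : Spec (A i) ⟶ X`, the modules `Γ(Spec (A i), (f i)^* F)` have presentations with numbers of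
generators and relations independent of `i`; hence their product is finitely presented over
`Π i, Γ(Spec (A i), O)`.
-/

set_option autoImplicit false
set_option linter.all false
set_option maxHeartbeats 1600000
set_option backward.isDefEq.respectTransparency false
set_option backward.isDefEq.respectTransparency.types false
set_option backward.defeqAttrib.useBackward true

universe u
open CategoryTheory CategoryTheory.Limits AlgebraicGeometry TopologicalSpace Opposite
open AlgebraicGeometry.Scheme.Modules RelFPKit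

namespace Groth.Agent.Lib.UnifPresH3

variable {X : Scheme.{u}}

/-- the presentation of `Γ(F, W)` base-changes to a presentation of `Γ(f^* F, D)` -/
theorem local_pres (F : X.Modules) [F.IsQuasicoherent] {S : Scheme.{u}} (f : S ⟶ X)
    {D : S.Opens} {W : X.Opens} (hD : IsAffineOpen D) (hW : IsAffineOpen W) (h : D ≤ f ⁻¹ᵁ W)
    {b a : ℕ} (x : Fin b → Γ(F, W)) (y : Fin a → (Fin b → Γ(X, W)))
    (hx : Function.Surjective (Fintype.linearCombination Γ(X, W) x))
    (hy : Submodule.span Γ(X, W) (Set.range y) =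
      LinearMap.ker (Fintype.linearCombination Γ(X, W) x)) :
    ∃ (x' : Fin b → Γ((Scheme.Modules.pullback f).obj F, D)) (y' : Fin a → (Fin b → Γ(S, D))),
      Function.Surjective (Fintype.linearCombination Γ(S, D) x') ∧
      Submodule.span Γ(S, D) (Set.range y') =
        LinearMap.ker (Fintype.linearCombination Γ(S, D) x') := by
  letI := (f.appLE W D h).hom.toAlgebra
  letI : Module Γ(X, W) Γ((Scheme.Modules.pullback f).obj F, D) :=
    Module.compHom _ (f.appLE W D h).hom
  haveI : IsScalarTower Γ(X, W) Γ(S, D) Γ((Scheme.Modules.pullback f).obj F, D) :=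
    IsScalarTower.of_algebraMap_smul fun _ _ => rfl
  have bc := PBH8.isBaseChange_cUV f F h hD hW
  obtain ⟨h1, h2⟩ := pres_baseChange (PBH8.cUVLin f F h) bc x y hx hy
  exact ⟨_, _, h1, h2⟩

/-- uniform presentation of `Γ(Spec A, f^* F)` -/
theorem pres_spec (F : X.Modules) [hFP : SheafOfModules.IsFinitePresentation (R := X.ringCatSheaf) F]
    {n : ℕ} (W : Fin n → X.Opens) (hW : ∀ j, IsAffineOpen (W j)) (hcov : ⨆ j, W j = ⊤)
    (b a : Fin n → ℕ) (x : ∀ j, Fin (b j) → Γ(F, W j))
    (y : ∀ j, Fin (a j) → (Fin (b j) → Γ(X, W j)))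
    (hx : ∀ j, Function.Surjective (Fintype.linearCombination Γ(X, W j) (x j)))
    (hy : ∀ j, Submodule.span Γ(X, W j) (Set.range (y j)) =
      LinearMap.ker (Fintype.linearCombination Γ(X, W j) (x j)))
    (A : CommRingCat.{u}) (f : Spec A ⟶ X) :
    ∃ (z : (Σ j, Fin (b j)) → Γ((Scheme.Modules.pullback f).obj F, ⊤))
      (w : (Σ j, ((Σ j, Fin (b j)) ⊕ Fin (a j))) → ((Σ j, Fin (b j)) → Γ(Spec A, ⊤))),
      Function.Surjective (Fintype.linearCombination Γ(Spec A, ⊤) z) ∧
      Submodule.span Γ(Spec A, ⊤) (Set.range w) =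
        LinearMap.ker (Fintype.linearCombination Γ(Spec A, ⊤) z) := by
  haveI : F.IsQuasicoherent := inferInstance
  haveI hG : SheafOfModules.IsFinitePresentation (R := (Spec A).ringCatSheaf)
      ((Scheme.Modules.pullback f).obj F) := FpqcH8.isFP_pullback f F
  haveI : ((Scheme.Modules.pullback f).obj F).IsQuasicoherent := inferInstance
  -- the partition of unity
  have hT : ⨆ j, f ⁻¹ᵁ W j = ⊤ := by
    rw [← Scheme.Hom.preimage_iSup, hcov]; rfl
  obtain ⟨bb, hbb, hbtop⟩ := UnifAffCovH3.exists_partition A (fun j => f ⁻¹ᵁ W j) hT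
  have hspan : Ideal.span (Set.range bb) = ⊤ := PrimeSpectrum.iSup_basicOpen_eq_top_iff.mp hbtop
  let e : Fin n → Γ(Spec A, ⊤) := fun j => (Scheme.ΓSpecIso A).inv (bb j)
  have he : Ideal.span (Set.range e) = ⊤ := by
    have h1 : Set.range e = (Scheme.ΓSpecIso A).inv.hom '' Set.range bb := by
      ext r; constructor
      · rintro ⟨j, rfl⟩; exact ⟨bb j, ⟨j, rfl⟩, rfl⟩
      · rintro ⟨_, ⟨j, rfl⟩, rfl⟩; exact ⟨j, rfl⟩
    rw [h1, ← Ideal.map_span, hspan, Ideal.map_top]
  have hDle : ∀ j, (Spec A).basicOpen (e j) ≤ f ⁻¹ᵁ W j := by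
    intro j
    rw [basicOpen_eq_of_affine]
    exact hbb j
  have hD : ∀ j, IsAffineOpen ((Spec A).basicOpen (e j)) := fun j =>
    (isAffineOpen_top (Spec A)).basicOpen (e j)
  choose x' y' hx' hy' using fun j =>
    local_pres F f (hD j) (hW j) (hDle j) (x j) (y j) (hx j) (hy j)
  have hl : ∀ j, LocData
      ((Spec A).presheaf.map (homOfLE (le_top : (Spec A).basicOpen (e j) ≤ ⊤)).op).hom (e j)
      (((Scheme.Modules.pullback f).obj F).presheaf.map
        (homOfLE (le_top : (Spec A).basicOpen (e j) ≤ ⊤)).op).hom := fun j =>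
    RelFPAff.locData (F := (Scheme.Modules.pullback f).obj F) (isAffineOpen_top (Spec A)) (e j)
      (homOfLE (le_top : (Spec A).basicOpen (e j) ≤ ⊤)) rfl
  exact pres_of_local e he (fun j => Γ(Spec A, (Spec A).basicOpen (e j)))
    (fun j => ((Spec A).presheaf.map (homOfLE (le_top : (Spec A).basicOpen (e j) ≤ ⊤)).op).hom)
    (fun j => Γ((Scheme.Modules.pullback f).obj F, (Spec A).basicOpen (e j)))
    (fun j => (((Scheme.Modules.pullback f).obj F).presheaf.map
        (homOfLE (le_top : (Spec A).basicOpen (e j) ≤ ⊤)).op).hom)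
    hl b a x' y' hx' hy'

/-- **S17871** -/
theorem main17871 (X : Scheme.{u}) [CompactSpace X]
    {ι : Type u} (A : ι → CommRingCat.{u}) (f : ∀ i, Spec (A i) ⟶ X) (F : X.Modules)
    (hF : CohB1.IsFP F) :
    Module.FinitePresentation (∀ i, Γ(Spec (A i), ⊤))
      (∀ i, Γ((Scheme.Modules.pullback (f i)).obj F, ⊤)) := by
  haveI : SheafOfModules.IsFinitePresentation (R := X.ringCatSheaf) F := hF
  obtain ⟨n, W, hW, hcov⟩ := UnifAffCovH3.exists_fin_cover (⊤ : X.Opens)
    (by simpa using (isCompact_univ : IsCompact (Set.univ : Set X)))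
  haveI : ∀ j, Module.FinitePresentation Γ(X, W j) Γ(F, W j) := fun j =>
    QCohFP2.finitePresentation_of_isFinitePresentation F (hW j)
  choose b a x y hx hy using fun j => exists_pres Γ(X, W j) Γ(F, W j)
  choose z w hz hw using fun i => pres_spec F W hW hcov b a x y hx hy (A i) (f i)
  exact fp_pi (fun i => Γ(Spec (A i), ⊤)) (fun i => Γ((Scheme.Modules.pullback (f i)).obj F, ⊤))
    _ _ z w hz hw

end Groth.Agent.Lib.UnifPresH3
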