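import Mathlib
import Groth.Agent.Lib.SpecPushout_helper5

/-!
# The scheme-theoretic union of two closed subschemes is the pushout along the intersection
-/

open AlgebraicGeometry CategoryTheory Limits

namespace Groth.Agent.UnionPushout

universe u

open Groth.Agent.FibSqLib Groth.Agent.SpecPushout

theorem fibSq_quotient {R : Type*} [CommRing R] {a b c d : Ideal R} (hca : c ≤ a) (hcb : c ≤ b)
    (had : a ≤ d) (hbd : b ≤ d) (hc : a ⊓ b ≤ c) (hd : d ≤ a ⊔ b) :
    FibSq (Ideal.Quotient.factor hca) (Ideal.Quotient.factor hcb) (Ideal.Quotient.factor had)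
      (Ideal.Quotient.factor hbd) := by
  refine ⟨fun x => ?_, fun x h1 h2 => ?_, fun x y hxy => ?_⟩
  · obtain ⟨r, rfl⟩ := Ideal.Quotient.mk_surjective x
    simp only [Ideal.Quotient.factor_mk]
  · obtain ⟨r, rfl⟩ := Ideal.Quotient.mk_surjective x
    rw [Ideal.Quotient.factor_mk, Ideal.Quotient.eq_zero_iff_mem] at h1 h2
    exact Ideal.Quotient.eq_zero_iff_mem.mpr (hc ⟨h1, h2⟩)
  · obtain ⟨r₁, rfl⟩ := Ideal.Quotient.mk_surjective x
    obtain ⟨r₂, rfl⟩ := Ideal.Quotient.mk_surjective y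
    rw [Ideal.Quotient.factor_mk, Ideal.Quotient.factor_mk, Ideal.Quotient.eq] at hxy
    obtain ⟨α, hα, β, hβ, hαβ⟩ := Submodule.mem_sup.mp (hd hxy)
    refine ⟨Ideal.Quotient.mk c (r₁ - α), ?_, ?_⟩
    · rw [Ideal.Quotient.factor_mk, Ideal.Quotient.eq]
      have : r₁ - α - r₁ = -α := by ring
      rw [this]
      exact a.neg_mem hα
    · rw [Ideal.Quotient.factor_mk, Ideal.Quotient.eq]
      have : r₁ - α - r₂ = β := by linear_combination (-1 : R) * hαβ
      rw [this]
      exact hβ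

variable {S : Scheme.{u}}

/-- the ring `Γ(S,V)/K(V)` -/
abbrev QR (K : S.IdealSheafData) (V : S.affineOpens) : Type u := Γ(S, V.1) ⧸ K.ideal V

/-- the affine chart of the closed subscheme -/
noncomputable abbrev ch (K : S.IdealSheafData) (V : S.affineOpens) :
    Spec (CommRingCat.of (QR K V)) ⟶ K.subscheme := K.subschemeCover.f V

instance (K : S.IdealSheafData) (V : S.affineOpens) : IsOpenImmersion (ch K V) :=
  K.subschemeCover.map_prop V

theorem ch_incl {K I' : S.IdealSheafData} (hle : K ≤ I') (V : S.affineOpens) :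
    ch I' V ≫ Scheme.IdealSheafData.inclusion hle = sp (Ideal.Quotient.factor (hle V)) ≫ ch K V :=
  Scheme.IdealSheafData.subSchemeCover_map_inclusion hle V

theorem mem_range_ch (K : S.IdealSheafData) (V : S.affineOpens) (x : K.subscheme) :
    x ∈ Set.range (ch K V) ↔ K.subschemeι x ∈ V.1 := by
  have h1 := K.opensRange_subschemeCover_map V
  have h2 : x ∈ (K.subschemeCover.f V).opensRange ↔ x ∈ K.subschemeι ⁻¹ᵁ V.1 := by rw [h1]
  exact h2

theorem sqV (I J : S.IdealSheafData) (V : S.affineOpens) :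
    FibSq (Ideal.Quotient.factor ((inf_le_left : I ⊓ J ≤ I) V))
      (Ideal.Quotient.factor ((inf_le_right : I ⊓ J ≤ J) V))
      (Ideal.Quotient.factor ((le_sup_left : I ≤ I ⊔ J) V))
      (Ideal.Quotient.factor ((le_sup_right : J ≤ I ⊔ J) V)) :=
  fibSq_quotient _ _ _ _ (le_refl _) (le_refl _)

theorem factor_union (V : S.affineOpens) {T Z' : Scheme.{u}} {I' K : S.IdealSheafData}
    (hle : K ≤ I') (h : Spec (CommRingCat.of (QR K V)) ⟶ T) (f : I'.subscheme ⟶ T)
    (hh : sp (Ideal.Quotient.factor (hle V)) ≫ h = ch I' V ≫ f)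
    (c : Z' ⟶ Spec (CommRingCat.of (QR K V))) (b : Z' ⟶ I'.subscheme)
    (hcb : c ≫ ch K V = b ≫ Scheme.IdealSheafData.inclusion hle) : c ≫ h = b ≫ f := by
  have hr : Set.range b ⊆ Set.range (ch I' V) := by
    rintro _ ⟨w, rfl⟩
    refine (mem_range_ch I' V (b w)).mpr ?_
    have e1 : I'.subschemeι (b w) = K.subschemeι ((ch K V) (c w)) := by
      rw [← Scheme.IdealSheafData.inclusion_subschemeι hle, Scheme.Hom.comp_apply,
        ← Scheme.Hom.comp_apply b, ← hcb, Scheme.Hom.comp_apply]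
    rw [e1]
    exact (mem_range_ch K V _).mp ⟨c w, rfl⟩
  have hd : IsOpenImmersion.lift (ch I' V) b hr ≫ ch I' V = b := IsOpenImmersion.lift_fac _ _ _
  have hdc : IsOpenImmersion.lift (ch I' V) b hr ≫ sp (Ideal.Quotient.factor (hle V)) = c := by
    rw [← cancel_mono (ch K V), Category.assoc, ← ch_incl hle V, ← Category.assoc, hd, hcb]
  rw [← hdc, Category.assoc, hh, ← Category.assoc, hd]

variable (I J : S.IdealSheafData)

theorem jointEpi_union {Y' T : Scheme.{u}} (j : Y' ⟶ (I ⊓ J).subscheme) [IsOpenImmersion j]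
    (h₁ h₂ : Y' ⟶ T)
    (hX : ∀ (Z' : Scheme.{u}) (a : Z' ⟶ Y') (b : Z' ⟶ I.subscheme),
      a ≫ j = b ≫ Scheme.IdealSheafData.inclusion (inf_le_left : I ⊓ J ≤ I) → a ≫ h₁ = a ≫ h₂)
    (hY : ∀ (Z' : Scheme.{u}) (a : Z' ⟶ Y') (b : Z' ⟶ J.subscheme),
      a ≫ j = b ≫ Scheme.IdealSheafData.inclusion (inf_le_right : I ⊓ J ≤ J) → a ≫ h₁ = a ≫ h₂) :
    h₁ = h₂ := by
  apply hom_ext_of_openImm
  intro y
  obtain ⟨V₀, hV₀, hyV⟩ := exists_affine_nhd ((I ⊓ J).subschemeι (j y))
  obtain ⟨V, hVdef⟩ : ∃ V : S.affineOpens, V = ⟨V₀, hV₀⟩ := ⟨_, rfl⟩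
  have hu : j y ∈ Set.range (ch (I ⊓ J) V) := (mem_range_ch _ V _).mpr (by rw [hVdef]; exact hyV)
  obtain ⟨ξ, hξ⟩ := hu
  obtain ⟨w, hw1, hw2⟩ := Scheme.Pullback.exists_preimage_pullback (f := j)
    (g := ch (I ⊓ J) V) y ξ hξ.symm
  refine ⟨_, pullback.fst j (ch (I ⊓ J) V), inferInstance, ⟨w, hw1⟩, ?_⟩
  have key := jointEpi (sqV I J V) (Ideal.Quotient.factor_surjective _)
    (pullback.snd j (ch (I ⊓ J) V)) (pullback.fst _ _ ≫ h₁) (pullback.fst _ _ ≫ h₂) ?_ ?_
  · exact key
  · intro Z' a b hab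
    rw [← Category.assoc, ← Category.assoc]
    apply hX Z' (a ≫ pullback.fst _ _) (b ≫ ch I V)
    rw [Category.assoc, pullback.condition, ← Category.assoc, hab, Category.assoc, Category.assoc,
      ch_incl]
  · intro Z' a b hab
    rw [← Category.assoc, ← Category.assoc]
    apply hY Z' (a ≫ pullback.fst _ _) (b ≫ ch J V)
    rw [Category.assoc, pullback.condition, ← Category.assoc, hab, Category.assoc, Category.assoc,
      ch_incl]

theorem exists_desc_union {T : Scheme.{u}} (f : I.subscheme ⟶ T) (g : J.subscheme ⟶ T)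
    (hfg : Scheme.IdealSheafData.inclusion (le_sup_left : I ≤ I ⊔ J) ≫ f =
      Scheme.IdealSheafData.inclusion (le_sup_right : J ≤ I ⊔ J) ≫ g) :
    ∃ h : (I ⊓ J).subscheme ⟶ T,
      Scheme.IdealSheafData.inclusion (inf_le_left : I ⊓ J ≤ I) ≫ h = f ∧
      Scheme.IdealSheafData.inclusion (inf_le_right : I ⊓ J ≤ J) ≫ h = g := by
  have hex : ∀ V : S.affineOpens, ∃ hV : Spec (CommRingCat.of (QR (I ⊓ J) V)) ⟶ T,
      sp (Ideal.Quotient.factor ((inf_le_right : I ⊓ J ≤ J) V)) ≫ hV = ch J V ≫ g ∧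
      sp (Ideal.Quotient.factor ((inf_le_left : I ⊓ J ≤ I) V)) ≫ hV = ch I V ≫ f := by
    intro V
    apply exists_desc (sqV I J V) (Ideal.Quotient.factor_surjective _)
    rw [← Category.assoc, ← Category.assoc, ← ch_incl, ← ch_incl, Category.assoc, Category.assoc,
      hfg]
  choose hV hV1 hV2 using hex
  have compat : ∀ V V' : S.affineOpens,
      pullback.fst (ch (I ⊓ J) V) (ch (I ⊓ J) V') ≫ hV V =
        pullback.snd (ch (I ⊓ J) V) (ch (I ⊓ J) V') ≫ hV V' := by
    intro V V'
    apply jointEpi_union I J (pullback.fst (ch (I ⊓ J) V) (ch (I ⊓ J) V') ≫ ch (I ⊓ J) V)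
    · intro Z' a b hab
      rw [← Category.assoc, ← Category.assoc,
        factor_union V inf_le_left (hV V) f (hV2 V) (a ≫ pullback.fst _ _) b
          (by rw [Category.assoc]; exact hab),
        factor_union V' inf_le_left (hV V') f (hV2 V') (a ≫ pullback.snd _ _) b
          (by rw [Category.assoc, ← pullback.condition]; exact hab)]
    · intro Z' a b hab
      rw [← Category.assoc, ← Category.assoc,
        factor_union V inf_le_right (hV V) g (hV1 V) (a ≫ pullback.fst _ _) b
          (by rw [Category.assoc]; exact hab),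
        factor_union V' inf_le_right (hV V') g (hV1 V') (a ≫ pullback.snd _ _) b
          (by rw [Category.assoc, ← pullback.condition]; exact hab)]
  have hglue : ∀ V, ch (I ⊓ J) V ≫
      (I ⊓ J).subschemeCover.openCover.glueMorphisms hV compat = hV V :=
    fun V => (I ⊓ J).subschemeCover.openCover.ι_glueMorphisms hV compat V
  refine ⟨(I ⊓ J).subschemeCover.openCover.glueMorphisms hV compat, ?_, ?_⟩
  · apply I.subschemeCover.openCover.hom_ext
    intro V
    show ch I V ≫ _ = ch I V ≫ f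
    rw [← Category.assoc, ch_incl, Category.assoc, hglue, hV2]
  · apply J.subschemeCover.openCover.hom_ext
    intro V
    show ch J V ≫ _ = ch J V ≫ g
    rw [← Category.assoc, ch_incl, Category.assoc, hglue, hV1]

/-- **Main theorem** -/
theorem isPushout_union :
    IsPushout (Scheme.IdealSheafData.inclusion (le_sup_left : I ≤ I ⊔ J))
      (Scheme.IdealSheafData.inclusion (le_sup_right : J ≤ I ⊔ J))
      (Scheme.IdealSheafData.inclusion (inf_le_left : I ⊓ J ≤ I))
      (Scheme.IdealSheafData.inclusion (inf_le_right : I ⊓ J ≤ J)) := by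
  have w : Scheme.IdealSheafData.inclusion (le_sup_left : I ≤ I ⊔ J) ≫
      Scheme.IdealSheafData.inclusion (inf_le_left : I ⊓ J ≤ I) =
      Scheme.IdealSheafData.inclusion (le_sup_right : J ≤ I ⊔ J) ≫
      Scheme.IdealSheafData.inclusion (inf_le_right : I ⊓ J ≤ J) := by
    rw [Scheme.IdealSheafData.inclusion_comp, Scheme.IdealSheafData.inclusion_comp]
  refine ⟨⟨w⟩, ⟨PushoutCocone.IsColimit.mk w
    (fun s => (exists_desc_union I J s.inl s.inr s.condition).choose)
    (fun s => (exists_desc_union I J s.inl s.inr s.condition).choose_spec.1)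
    (fun s => (exists_desc_union I J s.inl s.inr s.condition).choose_spec.2)
    (fun s m h1 h2 => ?_)⟩⟩
  have hd := (exists_desc_union I J s.inl s.inr s.condition).choose_spec
  apply jointEpi_union I J (𝟙 _)
  · intro Z a b hab
    rw [Category.comp_id] at hab
    rw [hab, Category.assoc, Category.assoc, h1, hd.1]
  · intro Z a b hab
    rw [Category.comp_id] at hab
    rw [hab, Category.assoc, Category.assoc, h2, hd.2]

end Groth.Agent.UnionPushout
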