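import Mathlib

/-!
# Unipotent actions: the subgroup generated by two unipotent subgroups, one normalizing the other
(helper3)
-/

set_option autoImplicit false

namespace Groth.Agent.Lib.UnipSup_helper3

variable {K E Γ : Type*} [CommRing K] [Ring E] [Algebra K E] [Group Γ]

/-- The span of the elements `c h - 1`, `h ∈ H`. -/
def augSpan (c : Γ →* E) (H : Subgroup Γ) : Submodule K E :=
  Submodule.span K ((fun h : Γ => c h - 1) '' (H : Set Γ))

/-- The span of the elements `c h`, `h ∈ H`. -/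
def grpSpan (c : Γ →* E) (H : Subgroup Γ) : Submodule K E :=
  Submodule.span K (c '' (H : Set Γ))

variable (c : Γ →* E) (H H₁ H₂ : Subgroup Γ)

theorem one_mem_grpSpan : (1 : E) ∈ grpSpan (K := K) c H :=
  Submodule.subset_span ⟨1, H.one_mem, c.map_one⟩

theorem one_le_grpSpan : (1 : Submodule K E) ≤ grpSpan c H :=
  Submodule.one_le.2 (one_mem_grpSpan c H)

theorem grpSpan_mul_le : grpSpan (K := K) c H * grpSpan c H ≤ grpSpan c H := by
  rw [grpSpan, Submodule.span_mul_span, Submodule.span_le]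
  rintro _ ⟨_, ⟨g, hg, rfl⟩, _, ⟨g', hg', rfl⟩, rfl⟩
  exact Submodule.subset_span ⟨g * g', H.mul_mem hg hg', c.map_mul g g'⟩

theorem augSpan_le_grpSpan : augSpan (K := K) c H ≤ grpSpan c H := by
  rw [augSpan, Submodule.span_le]
  rintro _ ⟨h, hh, rfl⟩
  exact Submodule.sub_mem _ (Submodule.subset_span ⟨h, hh, rfl⟩) (one_mem_grpSpan c H)

theorem augSpan_mul_le : augSpan (K := K) c H * augSpan c H ≤ augSpan c H := by
  rw [augSpan, Submodule.span_mul_span, Submodule.span_le]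
  rintro _ ⟨_, ⟨g, hg, rfl⟩, _, ⟨g', hg', rfl⟩, rfl⟩
  have e : (c g - 1) * (c g' - 1) = (c (g * g') - 1) - (c g - 1) - (c g' - 1) := by
    rw [map_mul]; noncomm_ring
  show (c g - 1) * (c g' - 1) ∈ _
  rw [e]
  refine Submodule.sub_mem _ (Submodule.sub_mem _ ?_ ?_) ?_
  · exact Submodule.subset_span ⟨g * g', H.mul_mem hg hg', rfl⟩
  · exact Submodule.subset_span ⟨g, hg, rfl⟩
  · exact Submodule.subset_span ⟨g', hg', rfl⟩

theorem grpSpan_mul_augSpan_le (hnorm : ∀ g ∈ H₂, ∀ h ∈ H₁, g * h * g⁻¹ ∈ H₁) :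
    grpSpan (K := K) c H₂ * augSpan c H₁ ≤ augSpan c H₁ * grpSpan c H₂ := by
  rw [grpSpan, augSpan, Submodule.span_mul_span, Submodule.span_le]
  rintro _ ⟨_, ⟨g, hg, rfl⟩, _, ⟨h, hh, rfl⟩, rfl⟩
  have e : c g * (c h - 1) = (c (g * h * g⁻¹) - 1) * c g := by
    rw [sub_mul, ← map_mul, one_mul, mul_sub, ← map_mul, mul_one]
    congr 2
    group
  show c g * (c h - 1) ∈ _
  rw [e]
  exact Submodule.mul_mem_mul (Submodule.subset_span ⟨_, hnorm g hg h hh, rfl⟩)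
    (Submodule.subset_span ⟨g, hg, rfl⟩)

theorem augSpan_pow_eq_bot {n : ℕ}
    (h : ∀ f : Fin n → ↥H, (List.ofFn fun i => c (f i : Γ) - 1).prod = 0) :
    augSpan (K := K) c H ^ n = ⊥ := by
  rw [augSpan, Submodule.span_pow, Submodule.span_eq_bot]
  intro x hx
  rw [Set.mem_pow] at hx
  obtain ⟨f, rfl⟩ := hx
  choose g hg hgf using fun i => (f i).2
  have := h (fun i => ⟨g i, hg i⟩)
  simp only [← hgf]
  exact this

theorem le_normalizer_of (hnorm : ∀ g ∈ H₂, ∀ h ∈ H₁, g * h * g⁻¹ ∈ H₁) :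
    H₂ ≤ Subgroup.normalizer (H₁ : Set Γ) := by
  intro g hg
  rw [Subgroup.mem_normalizer_iff]
  intro h
  constructor
  · exact hnorm g hg h
  · intro hh
    have := hnorm g⁻¹ (H₂.inv_mem hg) _ hh
    simpa [mul_assoc] using this

theorem sub_one_mem (hnorm : ∀ g ∈ H₂, ∀ h ∈ H₁, g * h * g⁻¹ ∈ H₁) {g : Γ}
    (hg : g ∈ H₁ ⊔ H₂) :
    c g - 1 ∈ augSpan (K := K) c H₁ * grpSpan c H₂ ⊔ augSpan c H₂ := by
  have h1 : g ∈ (↑(H₁ ⊔ H₂) : Set Γ) := hg
  rw [Subgroup.coe_mul_of_right_le_normalizer_left H₁ H₂ (le_normalizer_of H₁ H₂ hnorm)] at h1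
  obtain ⟨x, hx, y, hy, rfl⟩ := h1
  have e : c (x * y) - 1 = (c x - 1) * c y + (c y - 1) := by
    rw [map_mul]; noncomm_ring
  rw [e]
  refine Submodule.add_mem _ (Submodule.mem_sup_left ?_) (Submodule.mem_sup_right ?_)
  · exact Submodule.mul_mem_mul (Submodule.subset_span ⟨x, hx, rfl⟩)
      (Submodule.subset_span ⟨y, hy, rfl⟩)
  · exact Submodule.subset_span ⟨y, hy, rfl⟩

include K in
theorem unip_sup (hnorm : ∀ g ∈ H₂, ∀ h ∈ H₁, g * h * g⁻¹ ∈ H₁)
    (h₁ : ∃ n : ℕ, ∀ f : Fin n → ↥H₁, (List.ofFn fun i => c (f i : Γ) - 1).prod = 0)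
    (h₂ : ∃ n : ℕ, ∀ f : Fin n → ↥H₂, (List.ofFn fun i => c (f i : Γ) - 1).prod = 0) :
    ∃ n : ℕ, ∀ f : Fin n → ↥(H₁ ⊔ H₂), (List.ofFn fun i => c (f i : Γ) - 1).prod = 0 := by
  obtain ⟨n₁, hn₁⟩ := h₁
  obtain ⟨n₂, hn₂⟩ := h₂
  set a : Submodule K E := augSpan c H₁ with ha
  set b : Submodule K E := augSpan c H₂ with hb
  set B : Submodule K E := grpSpan c H₂ with hB
  have ha0 : a ^ n₁ = ⊥ := augSpan_pow_eq_bot c H₁ hn₁
  have hb0 : b ^ n₂ = ⊥ := augSpan_pow_eq_bot c H₂ hn₂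
  have G1 : (1 : Submodule K E) ≤ B := one_le_grpSpan c H₂
  have G2 : B * B ≤ B := grpSpan_mul_le c H₂
  have G3 : B * a ≤ a * B := grpSpan_mul_augSpan_le c H₁ H₂ hnorm
  have G4 : b ≤ B := augSpan_le_grpSpan c H₂
  have G6 : a * a ≤ a := augSpan_mul_le c H₁
  set J : Submodule K E := a * B with hJ
  set 𝔄 : Submodule K E := J ⊔ b with h𝔄
  have S1 : J * B ≤ J := by
    rw [hJ, mul_assoc]; exact mul_le_mul' le_rfl G2
  have S2 : B * J ≤ J := by
    rw [hJ, ← mul_assoc]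
    calc B * a * B ≤ a * B * B := mul_le_mul' G3 le_rfl
      _ = a * (B * B) := mul_assoc _ _ _
      _ ≤ a * B := mul_le_mul' le_rfl G2
  have S3 : J * J ≤ J := by
    calc J * J = a * (B * J) := by rw [hJ, mul_assoc]
      _ ≤ a * J := mul_le_mul' le_rfl S2
      _ = a * a * B := by rw [hJ, mul_assoc]
      _ ≤ a * B := mul_le_mul' G6 le_rfl
  have S4 : ∀ m : ℕ, 𝔄 ^ m ≤ J ⊔ b ^ m := by
    intro m
    induction m with
    | zero => rw [pow_zero, pow_zero]; exact le_sup_right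
    | succ m ih =>
      rw [pow_succ, pow_succ]
      calc 𝔄 ^ m * 𝔄 ≤ (J ⊔ b ^ m) * (J ⊔ b) := mul_le_mul' ih le_rfl
        _ = J * J ⊔ J * b ⊔ (b ^ m * J ⊔ b ^ m * b) := by
          rw [Submodule.sup_mul, Submodule.mul_sup, Submodule.mul_sup]
        _ ≤ J ⊔ b ^ m * b := by
          have hbm : b ^ m ≤ B := by
            clear ih
            induction m with
            | zero => rw [pow_zero]; exact G1
            | succ k ihk =>
              rw [pow_succ]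
              exact (mul_le_mul' ihk G4).trans G2
          refine sup_le (sup_le (S3.trans le_sup_left) ?_) (sup_le ?_ le_sup_right)
          · exact ((mul_le_mul' le_rfl G4).trans S1).trans le_sup_left
          · exact ((mul_le_mul' hbm le_rfl).trans S2).trans le_sup_left
  have S5 : 𝔄 ^ n₂ ≤ J := by
    have := S4 n₂
    rwa [hb0, sup_bot_eq] at this
  have S6 : ∀ k : ℕ, (𝔄 ^ n₂) ^ k ≤ a ^ k * B := by
    intro k
    induction k with
    | zero => rw [pow_zero, pow_zero, one_mul]; exact G1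
    | succ k ih =>
      rw [pow_succ, pow_succ]
      calc (𝔄 ^ n₂) ^ k * 𝔄 ^ n₂ ≤ (a ^ k * B) * (a * B) := mul_le_mul' ih S5
        _ = a ^ k * (B * a) * B := by simp only [mul_assoc]
        _ ≤ a ^ k * (a * B) * B :=
          mul_le_mul' (mul_le_mul' le_rfl G3) le_rfl
        _ = a ^ k * a * (B * B) := by simp only [mul_assoc]
        _ ≤ a ^ k * a * B := mul_le_mul' le_rfl G2
  have S7 : 𝔄 ^ (n₂ * n₁) = ⊥ := by
    rw [pow_mul, eq_bot_iff]
    refine (S6 n₁).trans ?_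
    rw [ha0, Submodule.bot_mul]
  refine ⟨n₂ * n₁, fun f => ?_⟩
  have hmem : (List.ofFn fun i => c (f i : Γ) - 1).prod ∈ 𝔄 ^ (n₂ * n₁) := by
    refine Submodule.pow_subset_pow (M := 𝔄) (n := n₂ * n₁) ?_
    rw [Set.mem_pow]
    exact ⟨fun i => ⟨c (f i : Γ) - 1, sub_one_mem c H₁ H₂ hnorm (f i).2⟩, rfl⟩
  rw [S7] at hmem
  exact (Submodule.mem_bot K).1 hmem

end Groth.Agent.Lib.UnipSup_helper3
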