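import Mathlib

/-!
# A unirational curve over an algebraically closed field is rational (helper3)

Field form: `K/k` finitely generated of transcendence degree one, with a `k`-embedding into
`k(t_1, …, t_n)`; then `K = k(t)`.  We restrict to a general line to get an embedding into
`k(T)` and apply Mathlib's Lüroth theorem.
-/

set_option autoImplicit false

namespace Groth.Agent.Lib.UniratCurve

open Polynomial

section spec

variable {k : Type*} [Field k]
  {R : Type*} [CommRing R] [IsDomain R] [Algebra k R]
  {F : Type*} [Field F] [Algebra R F] [IsFractionRing R F] [Algebra k F] [IsScalarTower k R F]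
  {D : Type*} [Field D] [Algebra k D]
  {K : Type*} [Field K] [Algebra k K]

/-- specialization of the subalgebra generated by fractions whose denominators survive. -/
theorem exists_specialization (e : R →ₐ[k] D) (φ : K →ₐ[k] F) (G : Set K)
    (hG : ∀ s ∈ G, ∃ P Q : R, e Q ≠ 0 ∧ φ s * algebraMap R F Q = algebraMap R F P) :
    ∃ ρ : Algebra.adjoin k G →ₐ[k] D, ∀ (s : K) (hs : s ∈ G) (P Q : R), e Q ≠ 0 →
      φ s * algebraMap R F Q = algebraMap R F P →
      ρ ⟨s, Algebra.subset_adjoin hs⟩ * e Q = e P := by
  classical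
  haveI : (RingHom.ker (e : R →+* D)).IsPrime := RingHom.ker_isPrime _
  let M : Submonoid R := (RingHom.ker (e : R →+* D)).primeCompl
  have hM : ∀ Q : R, Q ∈ M ↔ e Q ≠ 0 := by
    intro Q
    show Q ∉ RingHom.ker (e : R →+* D) ↔ _
    rw [RingHom.mem_ker]
    rfl
  have hMne : ∀ y : M, (y : R) ≠ 0 := by
    intro y h
    have := (hM y).mp y.2
    rw [h, map_zero] at this
    exact this rfl
  have hML : M ≤ nonZeroDivisors R := by
    intro y hy
    exact mem_nonZeroDivisors_of_ne_zero (hMne ⟨y, hy⟩)
  have hunitF : ∀ y : M, IsUnit ((IsScalarTower.toAlgHom k R F) y) := by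
    intro y
    exact IsUnit.mk0 _ ((map_ne_zero_iff _ (IsFractionRing.injective R F)).mpr (hMne y))
  have hunitD : ∀ y : M, IsUnit (e y) := fun y => IsUnit.mk0 _ ((hM y).mp y.2)
  let L := Localization M
  let ι : L →ₐ[k] F := IsLocalization.liftAlgHom (M := M) (f := IsScalarTower.toAlgHom k R F) hunitF
  let ρ₀ : L →ₐ[k] D := IsLocalization.liftAlgHom (M := M) (f := e) hunitD
  have hιalg : ∀ r : R, ι (algebraMap R L r) = algebraMap R F r := fun r =>
    IsLocalization.lift_eq hunitF r
  have hρ₀alg : ∀ r : R, ρ₀ (algebraMap R L r) = e r := fun r =>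
    IsLocalization.lift_eq hunitD r
  have hι : Function.Injective ι := by
    have h : Function.Injective (IsLocalization.lift (M := M) (S := L)
        (g := ((IsScalarTower.toAlgHom k R F : R →ₐ[k] F) : R →+* F)) hunitF) := by
      rw [IsLocalization.lift_injective_iff]
      intro a b
      constructor
      · intro hab
        rw [IsLocalization.injective L hML hab]
      · intro hab
        have : a = b := IsFractionRing.injective R F hab
        rw [this]
    exact h
  let B : Subalgebra k F := ι.range
  let eB : L ≃ₐ[k] B := AlgEquiv.ofInjective ι hι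
  have hle : Algebra.adjoin k G ≤ B.comap φ := by
    apply Algebra.adjoin_le
    intro s hs
    obtain ⟨P, Q, hQ, hPQ⟩ := hG s hs
    have hQM : Q ∈ M := (hM Q).mpr hQ
    refine ⟨IsLocalization.mk' L P ⟨Q, hQM⟩, ?_⟩
    have h1 : ι (IsLocalization.mk' L P ⟨Q, hQM⟩) * algebraMap R F Q = algebraMap R F P := by
      rw [← hιalg Q, ← map_mul]
      have : IsLocalization.mk' L P ⟨Q, hQM⟩ * algebraMap R L Q = algebraMap R L P :=
        IsLocalization.mk'_spec' L P ⟨Q, hQM⟩ |> fun h => by rw [mul_comm]; exact h
      rw [this, hιalg]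
    have hQne : algebraMap R F Q ≠ 0 :=
      (map_ne_zero_iff _ (IsFractionRing.injective R F)).mpr (hMne ⟨Q, hQM⟩)
    exact mul_right_cancel₀ hQne (h1.trans hPQ.symm)
  let φ' : Algebra.adjoin k G →ₐ[k] B :=
    (φ.comp (Algebra.adjoin k G).val).codRestrict B (fun a => hle a.2)
  let ρ : Algebra.adjoin k G →ₐ[k] D := ρ₀.comp ((eB.symm : B →ₐ[k] L).comp φ')
  refine ⟨ρ, ?_⟩
  intro s hs P Q hQ hPQ
  obtain ⟨z, hz⟩ : ∃ z : L, z = eB.symm (φ' ⟨s, Algebra.subset_adjoin hs⟩) := ⟨_, rfl⟩
  have hιz : ι z = φ s := by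
    have h1 : eB z = φ' ⟨s, Algebra.subset_adjoin hs⟩ := by
      rw [hz, AlgEquiv.apply_symm_apply]
    have h2 := congrArg Subtype.val h1
    exact h2
  have h1 : z * algebraMap R L Q = algebraMap R L P := by
    apply hι
    rw [map_mul, hιz, hιalg, hιalg, hPQ]
  have h2 := congrArg ρ₀ h1
  rw [map_mul, hρ₀alg, hρ₀alg] at h2
  show ρ₀ (eB.symm (φ' ⟨s, Algebra.subset_adjoin hs⟩)) * e Q = e P
  rw [← hz]
  exact h2

end spec

section main

universe u
variable (k : Type u) [Field k] [IsAlgClosed k] (K : Type u) [Field K] [Algebra k K]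

/-- embedding into `k(T)` by restricting to a general line. -/
theorem exists_embedding_ratFunc (hfg : (⊤ : IntermediateField k K).FG) (x : K)
    (hx : Transcendental k x)
    (halg : Algebra.IsAlgebraic ↥(IntermediateField.adjoin k {x}) K) (n : ℕ)
    (φ : K →ₐ[k] FractionRing (MvPolynomial (Fin n) k)) : Nonempty (K →ₐ[k] RatFunc k) := by
  classical
  obtain ⟨S, hS⟩ := hfg
  set G : Set K := ↑S ∪ {x} with hGdef
  have hxG : x ∈ G := Or.inr rfl
  have hfrac : ∀ s : K, ∃ P Q : MvPolynomial (Fin n) k, Q ≠ 0 ∧
      φ s * algebraMap _ (FractionRing (MvPolynomial (Fin n) k)) Q =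
        algebraMap _ (FractionRing (MvPolynomial (Fin n) k)) P := by
    intro s
    obtain ⟨P, Q, hQ, h⟩ := IsFractionRing.div_surjective (A := MvPolynomial (Fin n) k) (φ s)
    have hQ0 : Q ≠ 0 := nonZeroDivisors.ne_zero hQ
    refine ⟨P, Q, hQ0, ?_⟩
    rw [← h, div_mul_cancel₀]
    exact (map_ne_zero_iff _ (IsFractionRing.injective _ _)).mpr hQ0
  choose Pf Qf hQf hPQf using hfrac
  let Qall : MvPolynomial (Fin n) k := (∏ s ∈ S, Qf s) * Qf x
  have hQall : Qall ≠ 0 :=
    mul_ne_zero (Finset.prod_ne_zero_iff.mpr fun s _ => hQf s) (hQf x)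
  obtain ⟨a, ha⟩ : ∃ a : Fin n → k, MvPolynomial.eval a Qall ≠ 0 := by
    by_contra hcon
    push_neg at hcon
    exact hQall (MvPolynomial.funext (fun a => by rw [hcon a, map_zero]))
  have haQ : ∀ s ∈ G, MvPolynomial.eval a (Qf s) ≠ 0 := by
    intro s hs
    simp only [Qall, map_mul, map_prod] at ha
    rcases hs with hs | hs
    · exact Finset.prod_ne_zero_iff.mp (left_ne_zero_of_mul ha) s hs
    · rw [Set.mem_singleton_iff] at hs
      rw [hs]
      exact right_ne_zero_of_mul ha
  let Gp : MvPolynomial (Fin n) k :=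
    Pf x * MvPolynomial.C (MvPolynomial.eval a (Qf x)) -
      MvPolynomial.C (MvPolynomial.eval a (Pf x)) * Qf x
  have hGp : Gp ≠ 0 := by
    intro h0
    have hQa : MvPolynomial.eval a (Qf x) ≠ 0 := haQ x hxG
    have h1 : Pf x * MvPolynomial.C (MvPolynomial.eval a (Qf x)) =
        MvPolynomial.C (MvPolynomial.eval a (Pf x)) * Qf x := sub_eq_zero.mp h0
    have hQne : algebraMap (MvPolynomial (Fin n) k) (FractionRing (MvPolynomial (Fin n) k)) (Qf x)
        ≠ 0 := (map_ne_zero_iff _ (IsFractionRing.injective _ _)).mpr (hQf x)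
    have hC : ∀ c : k, algebraMap (MvPolynomial (Fin n) k)
        (FractionRing (MvPolynomial (Fin n) k)) (MvPolynomial.C c) =
        algebraMap k (FractionRing (MvPolynomial (Fin n) k)) c := by
      intro c
      rw [IsScalarTower.algebraMap_apply k (MvPolynomial (Fin n) k)
        (FractionRing (MvPolynomial (Fin n) k))]
      rfl
    have h2 : φ x = algebraMap k (FractionRing (MvPolynomial (Fin n) k))
        (MvPolynomial.eval a (Pf x) / MvPolynomial.eval a (Qf x)) := by
      have h3 := congrArg (algebraMap (MvPolynomial (Fin n) k)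
        (FractionRing (MvPolynomial (Fin n) k))) h1
      rw [map_mul, map_mul, ← hPQf x, hC, hC] at h3
      have hca : algebraMap k (FractionRing (MvPolynomial (Fin n) k))
          (MvPolynomial.eval a (Qf x)) ≠ 0 := (map_ne_zero_iff _ (algebraMap k _).injective).mpr hQa
      rw [map_div₀, eq_div_iff hca]
      have h4 : (φ x * algebraMap k (FractionRing (MvPolynomial (Fin n) k))
          (MvPolynomial.eval a (Qf x))) * algebraMap (MvPolynomial (Fin n) k)
            (FractionRing (MvPolynomial (Fin n) k)) (Qf x) =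
          algebraMap k (FractionRing (MvPolynomial (Fin n) k)) (MvPolynomial.eval a (Pf x)) *
            algebraMap (MvPolynomial (Fin n) k) (FractionRing (MvPolynomial (Fin n) k)) (Qf x) := by
        rw [← h3]
        ring
      exact mul_right_cancel₀ hQne h4
    have hinj : Function.Injective φ := φ.toRingHom.injective
    have h3 : x = algebraMap k K (MvPolynomial.eval a (Pf x) / MvPolynomial.eval a (Qf x)) :=
      hinj (by rw [h2, AlgHom.commutes])
    exact hx (h3 ▸ isAlgebraic_algebraMap _)
  obtain ⟨c, hc⟩ : ∃ c : Fin n → k, MvPolynomial.eval c Gp ≠ 0 := by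
    by_contra hcon
    push_neg at hcon
    exact hGp (MvPolynomial.funext (fun a => by rw [hcon a, map_zero]))
  let b : Fin n → k := fun i => c i - a i
  let line : MvPolynomial (Fin n) k →ₐ[k] k[X] :=
    MvPolynomial.aeval (fun i => Polynomial.C (a i) + Polynomial.C (b i) * Polynomial.X)
  have hline : ∀ (τ : k) (p : MvPolynomial (Fin n) k),
      Polynomial.eval τ (line p) = MvPolynomial.eval (fun i => a i + b i * τ) p := by
    intro τ p
    have h : (Polynomial.evalRingHom τ).comp (line : MvPolynomial (Fin n) k →+* k[X]) =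
        MvPolynomial.eval (fun i => a i + b i * τ) := by
      apply MvPolynomial.ringHom_ext
      · intro r
        simp [line]
      · intro i
        simp [line]
    exact RingHom.congr_fun h p
  have hline0 : ∀ p : MvPolynomial (Fin n) k,
      Polynomial.eval 0 (line p) = MvPolynomial.eval a p := by
    intro p
    rw [hline]
    have : (fun i => a i + b i * 0) = a := by
      funext i
      simp
    rw [this]
  have hline1 : ∀ p : MvPolynomial (Fin n) k,
      Polynomial.eval 1 (line p) = MvPolynomial.eval c p := by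
    intro p
    rw [hline]
    have : (fun i => a i + b i * 1) = c := by
      funext i
      simp [b]
    rw [this]
  let e : MvPolynomial (Fin n) k →ₐ[k] RatFunc k :=
    (IsScalarTower.toAlgHom k k[X] (RatFunc k)).comp line
  have he : ∀ p, e p = algebraMap k[X] (RatFunc k) (line p) := fun p => rfl
  have he0 : ∀ p : MvPolynomial (Fin n) k, MvPolynomial.eval a p ≠ 0 → e p ≠ 0 := by
    intro p hp h0
    rw [he] at h0
    have h1 : line p = 0 := (map_eq_zero_iff _ (RatFunc.algebraMap_injective k)).mp h0
    apply hp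
    rw [← hline0, h1, Polynomial.eval_zero]
  have hG' : ∀ s ∈ G, ∃ P Q : MvPolynomial (Fin n) k, e Q ≠ 0 ∧
      φ s * algebraMap _ (FractionRing (MvPolynomial (Fin n) k)) Q =
        algebraMap _ (FractionRing (MvPolynomial (Fin n) k)) P := fun s hs =>
    ⟨Pf s, Qf s, he0 _ (haQ s hs), hPQf s⟩
  obtain ⟨ρ, hρ⟩ := exists_specialization e φ G hG'
  obtain ⟨x', hx'⟩ : ∃ x' : Algebra.adjoin k G, x' = ⟨x, Algebra.subset_adjoin hxG⟩ := ⟨_, rfl⟩
  have hρx : ρ x' * e (Qf x) = e (Pf x) := by
    rw [hx']
    exact hρ x hxG (Pf x) (Qf x) (he0 _ (haQ x hxG)) (hPQf x)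
  -- non-constancy
  have hnonconst : ¬ ∃ l : k, ρ x' = RatFunc.C l := by
    rintro ⟨l, hl⟩
    rw [hl, he, he, ← RatFunc.algebraMap_C, ← map_mul] at hρx
    have h1 : Polynomial.C l * line (Qf x) = line (Pf x) := RatFunc.algebraMap_injective k hρx
    have h2 := congrArg (Polynomial.eval 0) h1
    have h3 := congrArg (Polynomial.eval 1) h1
    rw [Polynomial.eval_mul, Polynomial.eval_C, hline0, hline0] at h2
    rw [Polynomial.eval_mul, Polynomial.eval_C, hline1, hline1] at h3
    apply hc
    simp only [Gp, map_sub, map_mul, MvPolynomial.eval_C]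
    rw [← h2, ← h3]
    ring
  -- injectivity
  have hρinj : Function.Injective ρ := by
    rw [injective_iff_map_eq_zero]
    intro y hy
    by_contra hy0
    have hyK : (y : K) ≠ 0 := fun h => hy0 (Subtype.ext h)
    have halgE : IsAlgebraic (IntermediateField.adjoin k {x}) (y : K) := halg.isAlgebraic _
    have halgA : IsAlgebraic (Algebra.adjoin k {x}) (y : K) := by
      open scoped IntermediateField.algebraAdjoinAdjoin in
      exact (IsFractionRing.isAlgebraic_iff (Algebra.adjoin k {x})
        (IntermediateField.adjoin k {x}) K).mpr halgE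
    obtain ⟨p, hp0, hpy⟩ := halgA
    obtain ⟨q, hpq, hq⟩ := Polynomial.exists_eq_pow_rootMultiplicity_mul_and_not_dvd p hp0 0
    rw [map_zero, sub_zero] at hpq hq
    have hq0 : q.coeff 0 ≠ 0 := fun h => hq (Polynomial.X_dvd_iff.mpr h)
    have hqy : Polynomial.aeval (y : K) q = 0 := by
      rw [hpq, map_mul, map_pow, Polynomial.aeval_X] at hpy
      exact (mul_eq_zero.mp hpy).resolve_left (pow_ne_zero _ hyK)
    have hA₀ : Algebra.adjoin k {x} ≤ Algebra.adjoin k G :=
      Algebra.adjoin_mono (Set.singleton_subset_iff.mpr hxG)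
    let incl : Algebra.adjoin k {x} →ₐ[k] Algebra.adjoin k G := Subalgebra.inclusion hA₀
    have h1 : Polynomial.eval₂ (incl : Algebra.adjoin k {x} →+* Algebra.adjoin k G) y q = 0 := by
      apply Subtype.ext
      have h := Polynomial.hom_eval₂ q (incl : Algebra.adjoin k {x} →+* Algebra.adjoin k G)
        ((Algebra.adjoin k G).val : Algebra.adjoin k G →+* K) y
      have h' : (((Algebra.adjoin k G).val : Algebra.adjoin k G →+* K).comp
          (incl : Algebra.adjoin k {x} →+* Algebra.adjoin k G)) =
          algebraMap (Algebra.adjoin k {x}) K := rfl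
      rw [h'] at h
      exact h.trans hqy
    have h2 : Polynomial.eval₂ ((ρ : Algebra.adjoin k G →+* RatFunc k).comp
        (incl : Algebra.adjoin k {x} →+* Algebra.adjoin k G)) (ρ y) q = 0 := by
      have h := Polynomial.hom_eval₂ q (incl : Algebra.adjoin k {x} →+* Algebra.adjoin k G)
        (ρ : Algebra.adjoin k G →+* RatFunc k) y
      rw [h1, map_zero] at h
      exact h.symm
    rw [hy, Polynomial.eval₂_at_zero] at h2
    obtain ⟨c0, hc0⟩ : ∃ c0 : k[X], Polynomial.aeval x c0 = (q.coeff 0 : K) := by
      have h6 := (q.coeff 0).2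
      have h7 : ((q.coeff 0 : Algebra.adjoin k {x}) : K) ∈
          (Polynomial.aeval x : k[X] →ₐ[k] K).range := by
        rw [← Algebra.adjoin_singleton_eq_range_aeval]
        exact h6
      exact h7
    have hc0ne : c0 ≠ 0 := by
      rintro rfl
      apply hq0
      apply Subtype.ext
      rw [← hc0]
      simp
    have h4 : Polynomial.aeval x' c0 = incl (q.coeff 0) := by
      apply Subtype.ext
      have h5 := Polynomial.aeval_algHom_apply (Algebra.adjoin k G).val x' c0
      rw [hx'] at h5 ⊢
      exact h5.symm.trans hc0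
    have h3 : Polynomial.aeval (ρ x') c0 = 0 := by
      rw [Polynomial.aeval_algHom_apply, h4]
      exact h2
    have h5 : IsAlgebraic k (ρ x') := ⟨c0, hc0ne, h3⟩
    exact hnonconst (by
      by_contra hne
      exact RatFunc.transcendental_of_ne_C _ hne h5)
  -- fraction field
  haveI : IsFractionRing (Algebra.adjoin k G) K := by
    apply IsFractionRing.of_field
    intro z
    have hz : z ∈ IntermediateField.adjoin k G := by
      have h1 : IntermediateField.adjoin k (↑S : Set K) ≤ IntermediateField.adjoin k G :=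
        IntermediateField.adjoin.mono _ _ _ Set.subset_union_left
      rw [hS] at h1
      exact h1 trivial
    obtain ⟨r, hr, s, hs, hrs⟩ := IntermediateField.mem_adjoin_iff_div.mp hz
    exact ⟨⟨r, hr⟩, ⟨s, hs⟩, hrs⟩
  exact ⟨IsFractionRing.liftAlgHom (g := ρ) hρinj⟩

/-- **A unirational curve over an algebraically closed field is rational** (field form). -/
theorem main (hfg : (⊤ : IntermediateField k K).FG) (x : K)
    (hx : Transcendental k x)
    (halg : Algebra.IsAlgebraic ↥(IntermediateField.adjoin k {x}) K) (n : ℕ)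
    (φ : K →ₐ[k] FractionRing (MvPolynomial (Fin n) k)) :
    ∃ t : K, Transcendental k t ∧ IntermediateField.adjoin k {t} = ⊤ := by
  obtain ⟨ψ⟩ := exists_embedding_ratFunc k K hfg x hx halg n φ
  let E : IntermediateField k (RatFunc k) := ψ.fieldRange
  have hE : E ≠ ⊥ := by
    intro hbot
    have h1 : ψ x ∈ E := ⟨x, rfl⟩
    rw [hbot, IntermediateField.mem_bot] at h1
    obtain ⟨c, hc⟩ := h1
    have hinj : Function.Injective ψ := ψ.toRingHom.injective
    have h2 : x = algebraMap k K c := hinj (by rw [← hc, AlgHom.commutes])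
    exact hx (h2 ▸ isAlgebraic_algebraMap _)
  have hgen : RatFunc.Luroth.generator E ∈ E := RatFunc.Luroth.generator_mem
  obtain ⟨t, ht⟩ := hgen
  refine ⟨t, ?_, ?_⟩
  · have h1 := RatFunc.Luroth.transcendental_generator hE
    intro halgt
    apply h1
    have ht' : RatFunc.Luroth.generator E = ψ t := ht.symm
    rw [ht']
    exact IsAlgebraic.algHom ψ halgt
  · have h1 : E = IntermediateField.adjoin k {RatFunc.Luroth.generator E} :=
      RatFunc.Luroth.eq_adjoin_generator
    apply IntermediateField.map_injective ψ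
    rw [IntermediateField.adjoin_map, Set.image_singleton]
    have ht' : ψ t = RatFunc.Luroth.generator E := ht
    rw [ht', ← h1, ← AlgHom.fieldRange_eq_map]

end main

end Groth.Agent.Lib.UniratCurve
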