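import Mathlib
import Groth.Prelude

/-!
# Units on affine space over a reduced scheme come from the base
-/

set_option backward.isDefEq.respectTransparency false
set_option backward.isDefEq.respectTransparency.types false
set_option autoImplicit false
set_option linter.style.haveILetI false
set_option linter.unusedVariables false
set_option linter.unusedSimpArgs false
set_option linter.unusedSectionVars false
set_option linter.style.longLine false
set_option maxHeartbeats 800000

universe u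

open CategoryTheory CategoryTheory.Limits AlgebraicGeometry TopologicalSpace Opposite

namespace Groth.Agent.Lib.UnitAffSpH4

theorem exists_preimage_of_isPullback {P A B C : Scheme.{u}} {a : P ⟶ A} {b : P ⟶ B}
    {p : A ⟶ C} {q : B ⟶ C} (h : IsPullback a b p q) (x : A) (y : B) (hxy : p x = q y) :
    ∃ z : P, a z = x ∧ b z = y := by
  obtain ⟨z, hz1, hz2⟩ := Scheme.Pullback.exists_preimage_pullback (f := p) (g := q) x y hxy
  refine ⟨h.isoPullback.inv z, ?_, ?_⟩
  · rw [← hz1, ← Scheme.Hom.comp_apply, h.isoPullback_inv_fst]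
  · rw [← hz2, ← Scheme.Hom.comp_apply, h.isoPullback_inv_snd]

theorem appTop_comp_apply {A B C : Scheme.{u}} (f : A ⟶ B) (g : B ⟶ C) (x : Γ(C, ⊤)) :
    f.appTop (g.appTop x) = (f ≫ g).appTop x := by
  rw [Scheme.Hom.comp_appTop, CommRingCat.comp_apply]

variable (n : Type u)

/-- Over a reduced affine base, units of the polynomial ring are constants. -/
theorem exists_eq_appTop_of_isUnit_affine (S : Scheme.{u}) [IsAffine S] [IsReduced S]
    (w : Γ(𝔸(n; S), ⊤)) (hw : IsUnit w) : ∃ r : Γ(S, ⊤), (𝔸(n; S) ↘ S).appTop r = w := by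
  obtain ⟨ev, hev⟩ : ∃ ev : MvPolynomial n Γ(S, ⊤) →+* Γ(𝔸(n; S), ⊤),
      ev = MvPolynomial.eval₂Hom ((𝔸(n; S) ↘ S).appTop).hom (AffineSpace.coord S) := ⟨_, rfl⟩
  have hiso : IsIso (CommRingCat.ofHom ev) := by
    have h1 := AffineSpace.isoOfIsAffine_hom_appTop (n := n) (S := S)
    rw [← hev] at h1
    have h2 : CommRingCat.ofHom ev =
        (Scheme.ΓSpecIso _).inv ≫ (AffineSpace.isoOfIsAffine n S).hom.appTop := by
      rw [h1, Iso.inv_hom_id_assoc]
    rw [h2]
    infer_instance
  have hbij : Function.Bijective ev :=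
    ConcreteCategory.bijective_of_isIso (CommRingCat.ofHom ev)
  obtain ⟨P, hP⟩ := hbij.2 w
  obtain ⟨w', hww'⟩ := hw.exists_right_inv
  obtain ⟨P', hP'⟩ := hbij.2 w'
  have hPP' : P * P' = 1 := by
    apply hbij.1
    rw [map_mul, hP, hP', hww', map_one]
  have hPunit : IsUnit P := IsUnit.of_mul_eq_one P' hPP'
  obtain ⟨r, -, hr⟩ := MvPolynomial.isUnit_iff_eq_C_of_isReduced.mp hPunit
  refine ⟨r, ?_⟩
  have h3 : ev (MvPolynomial.C r) = ((𝔸(n; S) ↘ S).appTop).hom r := by
    rw [hev, MvPolynomial.eval₂Hom_C]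
  exact h3.symm.trans ((congrArg ev hr.symm).trans hP)

theorem zeroSec_comp {U X : Scheme.{u}} (f : U ⟶ X) :
    f ≫ AffineSpace.homOfVector (𝟙 X) (fun _ : n => (0 : Γ(X, ⊤))) =
      AffineSpace.homOfVector (𝟙 U) (fun _ : n => (0 : Γ(U, ⊤))) ≫ AffineSpace.map n f := by
  apply AffineSpace.hom_ext
  · rw [Category.assoc, Category.assoc, AffineSpace.homOfVector_over, AffineSpace.map_over,
      ← Category.assoc, AffineSpace.homOfVector_over, Category.comp_id, Category.id_comp]
  · intro k
    rw [← appTop_comp_apply, ← appTop_comp_apply, AffineSpace.homOfVector_appTop_coord,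
      AffineSpace.map_appTop_coord, AffineSpace.homOfVector_appTop_coord, map_zero]

theorem local_eq {U X : Scheme.{u}} (f : U ⟶ X) [IsAffine U] [IsReduced U]
    (w : Γ(𝔸(n; X), ⊤)) (hw : IsUnit w) :
    (AffineSpace.map n f).appTop ((𝔸(n; X) ↘ X).appTop
      ((AffineSpace.homOfVector (𝟙 X) (fun _ : n => (0 : Γ(X, ⊤)))).appTop w)) =
      (AffineSpace.map n f).appTop w := by
  obtain ⟨r, hr⟩ := exists_eq_appTop_of_isUnit_affine n U ((AffineSpace.map n f).appTop w)
    (hw.map (AffineSpace.map n f).appTop.hom)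
  rw [appTop_comp_apply (AffineSpace.map n f) (𝔸(n; X) ↘ X), AffineSpace.map_over,
    ← appTop_comp_apply (𝔸(n; U) ↘ U) f,
    appTop_comp_apply f (AffineSpace.homOfVector (𝟙 X) (fun _ : n => (0 : Γ(X, ⊤)))),
    zeroSec_comp n f,
    ← appTop_comp_apply (AffineSpace.homOfVector (𝟙 U) (fun _ : n => (0 : Γ(U, ⊤))))
      (AffineSpace.map n f),
    ← hr,
    appTop_comp_apply (AffineSpace.homOfVector (𝟙 U) (fun _ : n => (0 : Γ(U, ⊤))))
      (𝔸(n; U) ↘ U),
    AffineSpace.homOfVector_over]
  simp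

/-- The open cover of `𝔸(n; X)` by the affine spaces over an affine open cover of `X`. -/
noncomputable def cover (X : Scheme.{u}) : Scheme.OpenCover.{u} 𝔸(n; X) :=
  Scheme.Cover.mkOfCovers (P := @IsOpenImmersion) X.affineCover.I₀
    (fun i => 𝔸(n; X.affineCover.X i))
    (fun i => AffineSpace.map n (X.affineCover.f i))
    (fun y => by
      obtain ⟨i, x, hx⟩ := X.affineCover.exists_eq ((𝔸(n; X) ↘ X) y)
      obtain ⟨z, hz, -⟩ := exists_preimage_of_isPullback
        (AffineSpace.isPullback_map (n := n) (X.affineCover.f i)) y x hx.symm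
      exact ⟨i, z, hz⟩)
    (fun i => MorphismProperty.of_isPullback (P := @IsOpenImmersion)
      (AffineSpace.isPullback_map (n := n) (X.affineCover.f i)).flip inferInstance)

theorem main13370 (X : Scheme.{u}) [IsReduced X] (w : Γ(𝔸(n; X), ⊤)) (hw : IsUnit w) :
    ∃ v : Γ(X, ⊤), IsUnit v ∧ (𝔸(n; X) ↘ X).appTop v = w := by
  refine ⟨(AffineSpace.homOfVector (𝟙 X) (fun _ : n => (0 : Γ(X, ⊤)))).appTop w,
    hw.map (AffineSpace.homOfVector (𝟙 X) (fun _ : n => (0 : Γ(X, ⊤)))).appTop.hom, ?_⟩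
  refine Scheme.OpenCover.ext_elem _ _ (cover n X) (fun i => ?_)
  haveI : IsReduced (X.affineCover.X i) := isReduced_of_isOpenImmersion (X.affineCover.f i)
  exact local_eq n (X.affineCover.f i) w hw

end Groth.Agent.Lib.UnitAffSpH4
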