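import Mathlib
import Groth.Agent.Lib.ConnEt_helper1

set_option autoImplicit false
set_option maxHeartbeats 1000000

/-!
# Exactness of the unit component for finite flat group schemes (helper1)
-/

namespace UnitExactH1

open TensorProduct

universe u

/-- Two idempotents modulo `J` with local quotients and augmentation `1` agree modulo `J`. -/
theorem idem_congr (R : Type u) [CommRing R] [Nontrivial R] (A : Type u) [CommRing A]
    (J : Ideal A) (ε : A →+* R) (hJ : J ≤ RingHom.ker ε) (x y : A)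
    (hx : x * x - x ∈ J) (hεx : ε x = 1) (hεy : ε y = 1) (hy : y * y - y ∈ J)
    (hloc : IsLocalRing (A ⧸ (J ⊔ Ideal.span ({1 - x} : Set A)))) :
    (1 - y) * x ∈ J := by
  haveI := hloc
  have hK : J ⊔ Ideal.span ({1 - x} : Set A) ≤ RingHom.ker ε := by
    apply sup_le hJ
    rw [Ideal.span_le, Set.singleton_subset_iff]
    show (1 - x) ∈ RingHom.ker ε
    rw [RingHom.mem_ker, map_sub, map_one, hεx, sub_self]
  let εD : (A ⧸ (J ⊔ Ideal.span ({1 - x} : Set A))) →+* R :=
    Ideal.Quotient.lift _ ε (fun a ha => hK ha)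
  have hidem : IsIdempotentElem (Ideal.Quotient.mk (J ⊔ Ideal.span ({1 - x} : Set A)) y) := by
    show Ideal.Quotient.mk _ y * Ideal.Quotient.mk _ y = Ideal.Quotient.mk _ y
    rw [← map_mul, Ideal.Quotient.eq]
    exact le_sup_left (a := J) hy
  have h1 : Ideal.Quotient.mk (J ⊔ Ideal.span ({1 - x} : Set A)) y = 1 := by
    rcases ConnEtH1.idem_local _ hidem with h | h
    · exfalso
      have h2 : εD (Ideal.Quotient.mk _ y) = ε y := rfl
      rw [h, map_zero, hεy] at h2
      exact zero_ne_one h2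
    · exact h
  have h2 : 1 - y ∈ J ⊔ Ideal.span ({1 - x} : Set A) := by
    rw [← Ideal.Quotient.eq, map_one, h1]
  obtain ⟨j, hj, z, hz, hjz⟩ := Submodule.mem_sup.mp h2
  obtain ⟨b, hb⟩ := Ideal.mem_span_singleton'.mp hz
  have h3 : (1 - y) * x = j * x - b * (x * x - x) := by
    rw [← hjz, ← hb]; ring
  rw [h3]
  exact J.sub_mem (J.mul_mem_right _ hj) (J.mul_mem_left _ hx)

section main
variable (R : Type u) [CommRing R] [Nontrivial R] (A A'' : Type u) [CommRing A] [HopfAlgebra R A]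
  [Module.Finite R A] [CommRing A''] [HopfAlgebra R A''] [Algebra A'' A] [IsScalarTower R A'' A]
  [Module.Flat A'' A]
  (hε : (Bialgebra.counitAlgHom R A).comp (IsScalarTower.toAlgHom R A'' A) =
      Bialgebra.counitAlgHom R A'')
  (e : A) (he : IsIdempotentElem e) (heε : Bialgebra.counitAlgHom R A e = 1)
  [IsLocalRing (A ⧸ Ideal.span ({1 - e} : Set A))]

local notation "JJ" => Ideal.map (algebraMap A'' A) (RingHom.ker (Bialgebra.counitAlgHom R A''))
local notation "I0" => Ideal.span ({1 - e} : Set A)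

include hε in
theorem J_le_ker : JJ ≤ RingHom.ker (Bialgebra.counitAlgHom R A) := by
  rw [Ideal.map_le_iff_le_comap]
  intro c hc
  rw [Ideal.mem_comap, RingHom.mem_ker]
  have h1 : Bialgebra.counitAlgHom R A (algebraMap A'' A c) = Bialgebra.counitAlgHom R A'' c :=
    AlgHom.congr_fun hε c
  rw [h1]
  exact hc

include hε he heε in
theorem idem_eq (e' : A) (he' : IsIdempotentElem (Ideal.Quotient.mk JJ e'))
    (he'ε : Bialgebra.counitAlgHom R A e' = 1)
    [IsLocalRing (A ⧸ (JJ ⊔ Ideal.span ({1 - e'} : Set A)))] :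
    Ideal.Quotient.mk JJ e = Ideal.Quotient.mk JJ e' := by
  have hJ := J_le_ker R A A'' hε
  have hK : JJ ⊔ I0 ≤ RingHom.ker (Bialgebra.counitAlgHom R A) := by
    apply sup_le hJ
    rw [Ideal.span_le, Set.singleton_subset_iff]
    show (1 - e) ∈ RingHom.ker (Bialgebra.counitAlgHom R A)
    rw [RingHom.mem_ker, map_sub, map_one, heε, sub_self]
  let εD : (A ⧸ (JJ ⊔ I0)) →+* R :=
    Ideal.Quotient.lift _ (Bialgebra.counitAlgHom R A : A →+* R) (fun a ha => hK ha)
  haveI : Nontrivial (A ⧸ (JJ ⊔ I0)) := εD.domain_nontrivial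
  have hloc : IsLocalRing (A ⧸ (JJ ⊔ I0)) :=
    IsLocalRing.of_surjective' (Ideal.Quotient.factor (le_sup_right : I0 ≤ JJ ⊔ I0))
      (Ideal.Quotient.factor_surjective _)
  have hx : e * e - e ∈ JJ := by
    rw [he.eq, sub_self]; exact (JJ).zero_mem
  have hy : e' * e' - e' ∈ JJ := by
    rw [← Ideal.Quotient.eq, map_mul]
    exact he'
  have h1 := idem_congr R A JJ (Bialgebra.counitAlgHom R A : A →+* R) hJ e e' hx heε he'ε hy hloc
  have h2 := idem_congr R A JJ (Bialgebra.counitAlgHom R A : A →+* R) hJ e' e hy he'ε heε hx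
    inferInstance
  rw [Ideal.Quotient.eq]
  have h3 : e - e' = (1 - e') * e - (1 - e) * e' := by ring
  rw [h3]
  exact (JJ).sub_mem h1 h2

end main

section flat
variable (R : Type u) [CommRing R] (A A'' : Type u) [CommRing A] [Algebra R A]
  [Module.Finite R A] [CommRing A''] [Algebra R A''] [Algebra A'' A] [IsScalarTower R A'' A]
  [Module.Flat A'' A]
  (e : A) (he : IsIdempotentElem e)
  [IsLocalRing (A ⧸ Ideal.span ({1 - e} : Set A))]

local notation "I0" => Ideal.span ({1 - e} : Set A)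

include R he in
theorem g_faithfullyFlat (e'' : A'') (he'' : IsIdempotentElem e'')
    [IsLocalRing (A'' ⧸ Ideal.span ({1 - e''} : Set A''))]
    (g : (A'' ⧸ Ideal.span ({1 - e''} : Set A'')) →+* (A ⧸ I0))
    (hg : g.comp (Ideal.Quotient.mk (Ideal.span ({1 - e''} : Set A''))) =
      (Ideal.Quotient.mk I0).comp (algebraMap A'' A)) :
    g.FaithfullyFlat := by
  letI : Algebra (A'' ⧸ Ideal.span ({1 - e''} : Set A'')) (A ⧸ I0) := g.toAlgebra
  have hgc : ∀ c : A'', g (Ideal.Quotient.mk _ c) = Ideal.Quotient.mk I0 (algebraMap A'' A c) :=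
    fun c => RingHom.congr_fun hg c
  haveI : IsScalarTower A'' (A'' ⧸ Ideal.span ({1 - e''} : Set A'')) (A ⧸ I0) :=
    IsScalarTower.of_algebraMap_eq (fun c => (hgc c).symm)
  haveI : IsScalarTower R (A'' ⧸ Ideal.span ({1 - e''} : Set A'')) (A ⧸ I0) :=
    IsScalarTower.of_algebraMap_eq (fun r => by
      show Ideal.Quotient.mk I0 (algebraMap R A r) = g (Ideal.Quotient.mk _ (algebraMap R A'' r))
      rw [hgc, ← IsScalarTower.algebraMap_apply R A'' A])
  haveI : Module.Finite R (A ⧸ I0) := Module.Finite.of_surjective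
    (Ideal.Quotient.mkₐ R I0).toLinearMap (Ideal.Quotient.mkₐ_surjective R _)
  haveI : Module.Finite (A'' ⧸ Ideal.span ({1 - e''} : Set A'')) (A ⧸ I0) :=
    Module.Finite.of_restrictScalars_finite R _ (A ⧸ I0)
  haveI : IsLocalization.Away e (A ⧸ I0) := IsLocalization.Away.quotient_of_isIdempotentElem he
  haveI : Module.Flat A (A ⧸ I0) := IsLocalization.flat (A ⧸ I0) (Submonoid.powers e)
  haveI : Module.Flat A'' (A ⧸ I0) := Module.Flat.trans A'' A (A ⧸ I0)
  haveI : IsLocalization.Away e'' (A'' ⧸ Ideal.span ({1 - e''} : Set A'')) :=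
    IsLocalization.Away.quotient_of_isIdempotentElem he''
  haveI : Module.Flat (A'' ⧸ Ideal.span ({1 - e''} : Set A'')) (A ⧸ I0) :=
    (Module.flat_iff_of_isLocalization (A'' ⧸ Ideal.span ({1 - e''} : Set A''))
      (Submonoid.powers e'') (A ⧸ I0)).mpr inferInstance
  haveI : Algebra.IsIntegral (A'' ⧸ Ideal.span ({1 - e''} : Set A'')) (A ⧸ I0) :=
    Algebra.IsIntegral.of_finite _ _
  haveI : IsLocalHom (algebraMap (A'' ⧸ Ideal.span ({1 - e''} : Set A'')) (A ⧸ I0)) :=
    ((IsLocalRing.local_hom_TFAE (algebraMap (A'' ⧸ Ideal.span ({1 - e''} : Set A''))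
      (A ⧸ I0))).out 0 4).mpr
      (IsLocalRing.eq_maximalIdeal
        (Ideal.isMaximal_comap_of_isIntegral_of_isMaximal (IsLocalRing.maximalIdeal (A ⧸ I0))))
  exact (Module.FaithfullyFlat.of_flat_of_isLocalHom :
    Module.FaithfullyFlat (A'' ⧸ Ideal.span ({1 - e''} : Set A'')) (A ⧸ I0))

end flat

end UnitExactH1
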