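import Mathlib.LinearAlgebra.Determinant
import Mathlib.LinearAlgebra.Matrix.Block
import Mathlib.LinearAlgebra.Basis.Basic

set_option autoImplicit false

/-!
# A unitriangular perturbation of a linearly independent family (helper8)
-/

namespace Groth.Agent.Lib.Unitri_helper8

open Module Submodule

theorem linearIndependent_and_span_of_unitriangular {R M : Type*} [CommRing R] [AddCommGroup M]
    [Module R M] {n : ℕ} {v θ : Fin n → M} (hv : LinearIndependent R v)
    (c : Fin n → (Fin n →₀ R)) (hc : ∀ i j, j ≤ i → c i j = 0)
    (hθ : ∀ i, θ i = v i + Finsupp.linearCombination R v (c i)) :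
    LinearIndependent R θ ∧ span R (Set.range θ) = span R (Set.range v) := by
  classical
  set V := span R (Set.range v) with hV
  set B := Basis.span hv with hB
  have hvV : ∀ i, v i ∈ V := fun i => subset_span (Set.mem_range_self i)
  have hθV : ∀ i, θ i ∈ V := by
    intro i
    rw [hθ]
    refine V.add_mem (hvV i) ?_
    rw [Finsupp.linearCombination_apply]
    exact V.sum_mem fun j _ => V.smul_mem _ (hvV j)
  let θ' : Fin n → V := fun i => ⟨θ i, hθV i⟩
  have hBv : ∀ i, (B i : M) = v i := fun i => Basis.coe_span_apply hv i
  have hrepr : ∀ i, B.repr (θ' i) = Finsupp.single i 1 + c i := by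
    intro i
    have : θ' i = Finsupp.linearCombination R B (Finsupp.single i 1 + c i) := by
      apply Subtype.ext
      have h1 : ((Finsupp.linearCombination R B (Finsupp.single i 1 + c i) : V) : M) =
          V.subtype (Finsupp.linearCombination R B (Finsupp.single i 1 + c i)) := rfl
      rw [h1, Finsupp.apply_linearCombination]
      have h2 : (V.subtype ∘ B : Fin n → M) = v := funext fun j => hBv j
      rw [h2, map_add, Finsupp.linearCombination_single, one_smul]
      exact hθ i
    rw [this, B.repr_linearCombination]
  have hdet : B.det θ' = 1 := by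
    rw [Basis.det_apply, Matrix.det_of_lowerTriangular]
    · apply Finset.prod_eq_one
      intro i _
      rw [Basis.toMatrix_apply, hrepr, Finsupp.add_apply, Finsupp.single_eq_same,
        hc i i le_rfl, add_zero]
    · intro i j hij
      have hij' : i < j := hij
      rw [Basis.toMatrix_apply, hrepr, Finsupp.add_apply, Finsupp.single_eq_of_ne (ne_of_lt hij'),
        hc j i hij'.le, add_zero]
  obtain ⟨hli, hspan⟩ := (B.is_basis_iff_det).mpr (hdet ▸ isUnit_one)
  constructor
  · exact hli.map' V.subtype (Submodule.ker_subtype V)
  · have h1 : Set.range θ = V.subtype '' Set.range θ' := by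
      rw [← Set.range_comp]
      rfl
    rw [h1, Submodule.span_image, hspan, Submodule.map_top, Submodule.range_subtype]

end Groth.Agent.Lib.Unitri_helper8
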