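import Mathlib
import Groth.Agent.Lib.UnitsFG4_helper2
import Groth.Agent.Lib.GeomConnPt3_helper4

/-!
# Rosenlicht's unit lemma for products of integral schemes over an algebraically closed field
(helper2)
-/

set_option autoImplicit false
set_option maxHeartbeats 1000000
set_option linter.unusedSimpArgs false
set_option linter.unusedVariables false
set_option linter.style.haveILetI false

open CategoryTheory CategoryTheory.Limits AlgebraicGeometry TensorProduct

namespace Groth.Agent.Lib.UnitsFGH2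

universe u

/-- Pullback of global sections along an open immersion from a nonempty scheme into an integral
scheme is injective. -/
theorem appTop_injective_of_isOpenImmersion {P W : Scheme.{u}} [IsIntegral P] [Nonempty W]
    (ι : W ⟶ P) [IsOpenImmersion ι] : Function.Injective ι.appTop.hom := by
  rw [injective_iff_map_eq_zero]
  intro s hs
  rw [← basicOpen_eq_bot_iff]
  by_contra hne
  have h1 : (P.basicOpen s : Set P).Nonempty := by
    rw [Set.nonempty_iff_ne_empty]
    intro h
    apply hne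
    ext p
    simp [← SetLike.mem_coe, h]
  have h2 : (Set.range ι).Nonempty := Set.range_nonempty _
  obtain ⟨p, hp1, hp2⟩ := nonempty_preirreducible_inter (P.basicOpen s).isOpen
    ι.isOpenEmbedding.isOpen_range h1 h2
  obtain ⟨w, rfl⟩ := hp2
  have h3 : w ∈ ι ⁻¹ᵁ P.basicOpen s := hp1
  rw [Scheme.preimage_basicOpen_top] at h3
  have h4 : ι.appTop s = 0 := hs
  rw [h4, Scheme.basicOpen_zero] at h3
  exact h3

/-- Core of the Rosenlicht lemma on a product, given affine charts around the base points. -/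
theorem prod_unit_chart (k : Type u) [Field k] [IsAlgClosed k] {X Y : Scheme.{u}}
    (fX : X ⟶ Spec (CommRingCat.of k)) (fY : Y ⟶ Spec (CommRingCat.of k))
    [IsIntegral (pullback fX fY)]
    (A B : Type u) [CommRing A] [CommRing B] [IsDomain A] [IsDomain B] [Algebra k A] [Algebra k B]
    [Algebra.FiniteType k A] [Algebra.FiniteType k B]
    (jU : Spec (CommRingCat.of A) ⟶ X) (jV : Spec (CommRingCat.of B) ⟶ Y)
    [IsOpenImmersion jU] [IsOpenImmersion jV]
    (hjU : jU ≫ fX = Spec.map (CommRingCat.ofHom (algebraMap k A)))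
    (hjV : jV ≫ fY = Spec.map (CommRingCat.ofHom (algebraMap k B)))
    (x : A →ₐ[k] k) (y : B →ₐ[k] k)
    (x0 : Spec (CommRingCat.of k) ⟶ X) (y0 : Spec (CommRingCat.of k) ⟶ Y)
    (hx : x0 = Spec.map (CommRingCat.ofHom x.toRingHom) ≫ jU)
    (hy : y0 = Spec.map (CommRingCat.ofHom y.toRingHom) ≫ jV)
    (e0 e1 e2 : pullback fX fY ⟶ pullback fX fY)
    (h01 : e0 ≫ pullback.fst fX fY = pullback.fst fX fY ≫ fX ≫ x0)
    (h02 : e0 ≫ pullback.snd fX fY = pullback.fst fX fY ≫ fX ≫ y0)
    (h11 : e1 ≫ pullback.fst fX fY = pullback.fst fX fY)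
    (h12 : e1 ≫ pullback.snd fX fY = pullback.fst fX fY ≫ fX ≫ y0)
    (h21 : e2 ≫ pullback.fst fX fY = pullback.snd fX fY ≫ fY ≫ x0)
    (h22 : e2 ≫ pullback.snd fX fY = pullback.snd fX fY)
    (f : Γ(pullback fX fY, ⊤)) (hf : IsUnit f) :
    f * e0.appTop f = e1.appTop f * e2.appTop f := by
  let rL : A →+* (A ⊗[k] B) := Algebra.TensorProduct.includeLeftRingHom
  let rR : B →+* (A ⊗[k] B) := RingHomClass.toRingHom
    (Algebra.TensorProduct.includeRight : B →ₐ[k] A ⊗[k] B)
  let ι : Spec (CommRingCat.of (A ⊗[k] B)) ⟶ pullback fX fY :=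
    (pullbackSpecIso k A B).inv ≫ pullback.map _ _ fX fY jU jV (𝟙 _)
      (by rw [Category.comp_id, hjU]) (by rw [Category.comp_id, hjV])
  have hι1 : ι ≫ pullback.fst fX fY = Spec.map (CommRingCat.ofHom rL) ≫ jU := by
    simp only [ι, Category.assoc, pullback.lift_fst, pullback.map]
    rw [pullbackSpecIso_inv_fst_assoc]
  have hι2 : ι ≫ pullback.snd fX fY = Spec.map (CommRingCat.ofHom rR) ≫ jV := by
    simp only [ι, Category.assoc, pullback.lift_snd, pullback.map]
    rw [pullbackSpecIso_inv_snd_assoc]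
  haveI : IsOpenImmersion ι := by
    dsimp only [ι]
    infer_instance
  have hcond : pullback.fst fX fY ≫ fX = pullback.snd fX fY ≫ fY := pullback.condition
  -- commutation criterion
  have hcomm : ∀ (e : pullback fX fY ⟶ pullback fX fY) (ε : (A ⊗[k] B) →+* (A ⊗[k] B)) (αA : A →+* (A ⊗[k] B))
      (αB : B →+* (A ⊗[k] B)),
      ι ≫ e ≫ pullback.fst fX fY = Spec.map (CommRingCat.ofHom αA) ≫ jU →
      ι ≫ e ≫ pullback.snd fX fY = Spec.map (CommRingCat.ofHom αB) ≫ jV →
      ε.comp rL = αA → ε.comp rR = αB →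
      ι ≫ e = Spec.map (CommRingCat.ofHom ε) ≫ ι := by
    intro e ε αA αB h1 h2 hA hB
    apply pullback.hom_ext
    · rw [Category.assoc, h1, Category.assoc, hι1, ← Spec.map_comp_assoc, ← CommRingCat.ofHom_comp,
        hA]
    · rw [Category.assoc, h2, Category.assoc, hι2, ← Spec.map_comp_assoc, ← CommRingCat.ofHom_comp,
        hB]
  -- the three endomorphisms
  have hsx : jU ≫ fX ≫ x0 = Spec.map (CommRingCat.ofHom
      ((algebraMap k A).comp x.toRingHom)) ≫ jU := by
    rw [← Category.assoc, hjU, hx, ← Spec.map_comp_assoc, ← CommRingCat.ofHom_comp]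
  have hsy : jU ≫ fX ≫ y0 = Spec.map (CommRingCat.ofHom
      ((algebraMap k A).comp y.toRingHom)) ≫ jV := by
    rw [← Category.assoc, hjU, hy, ← Spec.map_comp_assoc, ← CommRingCat.ofHom_comp]
  have hsx' : jV ≫ fY ≫ x0 = Spec.map (CommRingCat.ofHom
      ((algebraMap k B).comp x.toRingHom)) ≫ jU := by
    rw [← Category.assoc, hjV, hx, ← Spec.map_comp_assoc, ← CommRingCat.ofHom_comp]
  have hc1 : ι ≫ e1 = Spec.map (CommRingCat.ofHom (endoL y : (A ⊗[k] B) →ₐ[k] (A ⊗[k] B)).toRingHom) ≫ ι := by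
    refine hcomm e1 _ rL (rL.comp ((algebraMap k A).comp y.toRingHom)) ?_ ?_ ?_ ?_
    · rw [h11, hι1]
    · rw [h12, ← Category.assoc, hι1, Category.assoc, hsy, ← Spec.map_comp_assoc,
        ← CommRingCat.ofHom_comp]
    · ext a
      simp [rL]
    · ext b
      simp [rL, rR, Algebra.algebraMap_eq_smul_one]
  have hc2 : ι ≫ e2 = Spec.map (CommRingCat.ofHom (endoR x : (A ⊗[k] B) →ₐ[k] (A ⊗[k] B)).toRingHom) ≫ ι := by
    refine hcomm e2 _ (rR.comp ((algebraMap k B).comp x.toRingHom)) rR ?_ ?_ ?_ ?_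
    · rw [h21, ← Category.assoc, hι2, Category.assoc, hsx', ← Spec.map_comp_assoc,
        ← CommRingCat.ofHom_comp]
    · rw [h22, hι2]
    · ext a
      simp [rL, rR, Algebra.algebraMap_eq_smul_one]
    · ext b
      simp [rR]
  have hc0 : ι ≫ e0 = Spec.map (CommRingCat.ofHom (endoPt x y : (A ⊗[k] B) →ₐ[k] (A ⊗[k] B)).toRingHom) ≫ ι := by
    refine hcomm e0 _ (rL.comp ((algebraMap k A).comp x.toRingHom))
      (rL.comp ((algebraMap k A).comp y.toRingHom)) ?_ ?_ ?_ ?_
    · rw [h01, ← Category.assoc, hι1, Category.assoc, hsx, ← Spec.map_comp_assoc,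
        ← CommRingCat.ofHom_comp]
    · rw [h02, ← Category.assoc, hι1, Category.assoc, hsy, ← Spec.map_comp_assoc,
        ← CommRingCat.ofHom_comp]
    · ext a
      simp [rL, Algebra.TensorProduct.algebraMap_apply]
    · ext b
      simp [rL, rR, Algebra.TensorProduct.algebraMap_apply]
  -- the comparison ring map
  let ρ : Γ(pullback fX fY, ⊤) →+* (A ⊗[k] B) :=
    ((Scheme.ΓSpecIso (CommRingCat.of (A ⊗[k] B))).hom.hom).comp ι.appTop.hom
  have hρ : ∀ (e : pullback fX fY ⟶ pullback fX fY) (ε : (A ⊗[k] B) →+* (A ⊗[k] B)),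
      ι ≫ e = Spec.map (CommRingCat.ofHom ε) ≫ ι → ∀ s, ρ (e.appTop s) = ε (ρ s) := by
    intro e ε he s
    have h1 : ι.appTop (e.appTop s) = (Spec.map (CommRingCat.ofHom ε)).appTop (ι.appTop s) := by
      have h2 : (ι ≫ e).appTop s = (Spec.map (CommRingCat.ofHom ε) ≫ ι).appTop s := by rw [he]
      rw [Scheme.Hom.comp_appTop, Scheme.Hom.comp_appTop] at h2
      exact h2
    have h3 := ConcreteCategory.congr_hom
      (Scheme.ΓSpecIso_naturality (CommRingCat.ofHom ε)) (ι.appTop s)
    show (Scheme.ΓSpecIso (CommRingCat.of (A ⊗[k] B))).hom (ι.appTop (e.appTop s)) = _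
    rw [h1]
    exact h3
  haveI : Nontrivial (A ⊗[k] B) := RingHom.domain_nontrivial (sliceL y : (A ⊗[k] B) →ₐ[k] A).toRingHom
  haveI : Nonempty (Spec (CommRingCat.of (A ⊗[k] B))) := inferInstance
  have hρinj : Function.Injective ρ := by
    have h1 : Function.Injective ι.appTop.hom := appTop_injective_of_isOpenImmersion ι
    have h2 : Function.Injective (Scheme.ΓSpecIso (CommRingCat.of (A ⊗[k] B))).hom.hom :=
      (ConcreteCategory.bijective_of_isIso (Scheme.ΓSpecIso (CommRingCat.of (A ⊗[k] B))).hom).injective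
    exact h2.comp h1
  apply hρinj
  rw [map_mul, map_mul, hρ e0 _ hc0, hρ e1 _ hc1, hρ e2 _ hc2]
  have hu : IsUnit (ρ f) := hf.map ρ
  have := rosenlicht_alg hu.unit x y
  rw [IsUnit.unit_spec] at this
  exact this

end Groth.Agent.Lib.UnitsFGH2
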