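import Mathlib
import Groth.Agent.Lib.UnitsFG5_helper2
import Groth.Agent.Lib.ConnIrr1_helper8
import Groth.Agent.Lib.FibCodim2_helper4
import Groth.Agent.Lib.Regular_helper5

/-!
# Rosenlicht's unit lemma on products: scheme and `Over (Spec k)` forms (helper2)
-/

set_option autoImplicit false
set_option maxHeartbeats 1000000
set_option linter.unusedSimpArgs false
set_option linter.unusedVariables false
set_option linter.style.haveILetI false

open CategoryTheory CategoryTheory.Limits AlgebraicGeometry TensorProduct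
open MonoidalCategory CartesianMonoidalCategory MonObj

namespace Groth.Agent.Lib.UnitsFGH2

universe u

/-- An affine chart around a `k`-point, with its coordinate ring as a `k`-algebra. -/
theorem exists_chart (k : Type u) [Field k] {X : Scheme.{u}}
    (fX : X ⟶ Spec (CommRingCat.of k)) [IsIntegral X] [LocallyOfFiniteType fX]
    (x0 : Spec (CommRingCat.of k) ⟶ X) (hx0 : x0 ≫ fX = 𝟙 _) :
    ∃ (A : Type u) (_ : CommRing A) (_ : IsDomain A) (_ : Algebra k A)
      (_ : Algebra.FiniteType k A) (jU : Spec (CommRingCat.of A) ⟶ X) (_ : IsOpenImmersion jU)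
      (x : A →ₐ[k] k), jU ≫ fX = Spec.map (CommRingCat.ofHom (algebraMap k A)) ∧
        x0 = Spec.map (CommRingCat.ofHom x.toRingHom) ≫ jU := by
  let pt : X := x0 (IsLocalRing.closedPoint k)
  obtain ⟨_, ⟨U, hU, rfl⟩, hxU, -⟩ :=
    X.isBasis_affineOpens.exists_subset_of_mem_open (Set.mem_univ pt) isOpen_univ
  have hU' : IsAffineOpen U := hU
  let jU : Spec Γ(X, U) ⟶ X := hU'.fromSpec
  let φ : CommRingCat.of k ⟶ Γ(X, U) := Spec.preimage (jU ≫ fX)
  have hφ : Spec.map φ = jU ≫ fX := Spec.map_preimage _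
  letI : Algebra k Γ(X, U) := φ.hom.toAlgebra
  have hrange : Set.range x0 ⊆ Set.range jU := by
    rintro _ ⟨p, rfl⟩
    rw [hU'.range_fromSpec]
    have : p = IsLocalRing.closedPoint k := Subsingleton.elim _ _
    rw [this]
    exact hxU
  let x0' : Spec (CommRingCat.of k) ⟶ Spec Γ(X, U) := IsOpenImmersion.lift jU x0 hrange
  have hx0' : x0' ≫ jU = x0 := IsOpenImmersion.lift_fac _ _ _
  let ψ : Γ(X, U) ⟶ CommRingCat.of k := Spec.preimage x0'
  have hψ : Spec.map ψ = x0' := Spec.map_preimage _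
  have hcomp : φ ≫ ψ = 𝟙 _ := by
    apply Spec.map_injective
    rw [Spec.map_comp, hψ, hφ, ← Category.assoc, hx0', hx0, Spec.map_id]
  haveI : Nonempty U := ⟨⟨pt, hxU⟩⟩
  haveI : IsDomain Γ(X, U) := inferInstance
  have hft : Algebra.FiniteType k Γ(X, U) := by
    have h1 : LocallyOfFiniteType (jU ≫ fX) := inferInstance
    rw [← hφ, HasRingHomProperty.Spec_iff (P := @LocallyOfFiniteType)] at h1
    exact h1
  refine ⟨Γ(X, U), inferInstance, inferInstance, inferInstance, hft, jU, inferInstance,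
    { ψ.hom with commutes' := fun c => ?_ }, ?_, ?_⟩
  · exact congrArg (fun g => g.hom c) hcomp
  · exact hφ.symm
  · rw [← hx0']
    congr 1
    exact hψ.symm

/-- Rosenlicht's lemma for the product of two integral schemes locally of finite type over an
algebraically closed field, with base points `x0`, `y0`. -/
theorem prod_unit_scheme (k : Type u) [Field k] [IsAlgClosed k] {X Y : Scheme.{u}}
    (fX : X ⟶ Spec (CommRingCat.of k)) (fY : Y ⟶ Spec (CommRingCat.of k))
    [IsIntegral X] [IsIntegral Y] [LocallyOfFiniteType fX] [LocallyOfFiniteType fY]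
    (x0 : Spec (CommRingCat.of k) ⟶ X) (hx0 : x0 ≫ fX = 𝟙 _)
    (y0 : Spec (CommRingCat.of k) ⟶ Y) (hy0 : y0 ≫ fY = 𝟙 _)
    (e0 e1 e2 : pullback fX fY ⟶ pullback fX fY)
    (h01 : e0 ≫ pullback.fst fX fY = pullback.fst fX fY ≫ fX ≫ x0)
    (h02 : e0 ≫ pullback.snd fX fY = pullback.fst fX fY ≫ fX ≫ y0)
    (h11 : e1 ≫ pullback.fst fX fY = pullback.fst fX fY)
    (h12 : e1 ≫ pullback.snd fX fY = pullback.fst fX fY ≫ fX ≫ y0)
    (h21 : e2 ≫ pullback.fst fX fY = pullback.snd fX fY ≫ fY ≫ x0)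
    (h22 : e2 ≫ pullback.snd fX fY = pullback.snd fX fY)
    (f : Γ(pullback fX fY, ⊤)) (hf : IsUnit f) :
    f * e0.appTop f = e1.appTop f * e2.appTop f := by
  haveI := GeomConnPt3H4.main1582 k X Y fX fY
  obtain ⟨A, iA1, iA2, iA3, iA4, jU, ijU, x, hjU, hx⟩ := exists_chart k fX x0 hx0
  obtain ⟨B, iB1, iB2, iB3, iB4, jV, ijV, y, hjV, hy⟩ := exists_chart k fY y0 hy0
  exact prod_unit_chart k fX fY A B jU jV hjU hjV x y x0 y0 hx hy e0 e1 e2 h01 h02 h11 h12 h21 h22
    f hf

/-- Existence of a `k`-point on a nonempty scheme locally of finite type over an algebraically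
closed field. -/
theorem exists_point (k : Type u) [Field k] [IsAlgClosed k]
    (X : Over (Spec (CommRingCat.of k))) [Nonempty X.left] [LocallyOfFiniteType X.hom] :
    Nonempty (𝟙_ (Over (Spec (CommRingCat.of k))) ⟶ X) := by
  haveI : JacobsonSpace X.left := LocallyOfFiniteType.jacobsonSpace X.hom
  have h : (closedPoints X.left).Nonempty := by
    by_contra hne
    rw [Set.not_nonempty_iff_eq_empty] at hne
    have h1 := closure_closedPoints (X := X.left)
    rw [hne, closure_empty] at h1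
    exact Set.empty_ne_univ h1
  obtain ⟨p, hp⟩ := h
  exact ⟨Over.homMk (pointOfClosedPoint X.hom p hp) (pointOfClosedPoint_comp X.hom p hp)⟩

/-- a connected scheme smooth over a field is integral (copy of
`CurvStDeg_helper2.isIntegral_of_smooth_connected` with lighter imports) -/
theorem isIntegral_of_smooth_connected' (k : Type u) [Field k] {X : Scheme.{u}}
    (g : X ⟶ Spec (CommRingCat.of k)) [Smooth g] [ConnectedSpace X] : IsIntegral X := by
  haveI : IsNoetherianRing (CommRingCat.of k) := inferInstanceAs (IsNoetherianRing k)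
  haveI : IsLocallyNoetherian X := LocallyOfFiniteType.isLocallyNoetherian g
  exact ConnIrrH8.isIntegral_of_connected X (fun x => by
    haveI := Groth.Agent.Lib.FibCodim2H4.stalk_regular_of_smooth_field (CommRingCat.of k)
      (Field.toIsField k) g x
    exact Groth.Agent.RegularLib.isDomain _)

/-- Rosenlicht's lemma in `Over (Spec k)`: `f(x,y) f(x₀,y₀) = f(x,y₀) f(x₀,y)`. -/
theorem prod_unit (k : Type u) [Field k] [IsAlgClosed k]
    (X Y : Over (Spec (CommRingCat.of k))) [IsIntegral X.left] [IsIntegral Y.left]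
    [LocallyOfFiniteType X.hom] [LocallyOfFiniteType Y.hom]
    (x0 : 𝟙_ (Over (Spec (CommRingCat.of k))) ⟶ X)
    (y0 : 𝟙_ (Over (Spec (CommRingCat.of k))) ⟶ Y)
    (f : Γ((X ⊗ Y).left, ⊤)) (hf : IsUnit f) :
    f * (toUnit (X ⊗ Y) ≫ lift x0 y0).left.appTop f =
      (fst X Y ≫ lift (𝟙 X) (toUnit X ≫ y0)).left.appTop f *
        (snd X Y ≫ lift (toUnit Y ≫ x0) (𝟙 Y)).left.appTop f := by
  have hx0 : x0.left ≫ X.hom = 𝟙 _ := Over.w x0
  have hy0 : y0.left ≫ Y.hom = 𝟙 _ := Over.w y0
  refine prod_unit_scheme k X.hom Y.hom x0.left hx0 y0.left hy0 _ _ _ ?_ ?_ ?_ ?_ ?_ ?_ f hf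
  · have h : (toUnit (X ⊗ Y) ≫ lift x0 y0) ≫ fst X Y = toUnit (X ⊗ Y) ≫ x0 := by
      rw [Category.assoc, lift_fst]
    simp [Over.tensorObj_hom]
    exact pullback.lift_fst (f := X.hom) (g := Y.hom) _ _ _
  · have h : (toUnit (X ⊗ Y) ≫ lift x0 y0) ≫ snd X Y = toUnit (X ⊗ Y) ≫ y0 := by
      rw [Category.assoc, lift_snd]
    simp [Over.tensorObj_hom]
    exact pullback.lift_snd (f := X.hom) (g := Y.hom) _ _ _
  · have h : (fst X Y ≫ lift (𝟙 X) (toUnit X ≫ y0)) ≫ fst X Y = fst X Y := by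
      rw [Category.assoc, lift_fst, Category.comp_id]
    simp [Over.tensorObj_hom]
    exact pullback.lift_fst (f := X.hom) (g := Y.hom) _ _ _
  · have h : (fst X Y ≫ lift (𝟙 X) (toUnit X ≫ y0)) ≫ snd X Y = fst X Y ≫ toUnit X ≫ y0 := by
      rw [Category.assoc, lift_snd]
    simp [Over.tensorObj_hom]
    exact pullback.lift_snd (f := X.hom) (g := Y.hom) _ _ _
  · have h : (snd X Y ≫ lift (toUnit Y ≫ x0) (𝟙 Y)) ≫ fst X Y = snd X Y ≫ toUnit Y ≫ x0 := by
      rw [Category.assoc, lift_fst]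
    simp [Over.tensorObj_hom]
    exact (pullback.lift_fst (f := X.hom) (g := Y.hom) _ _ _).trans (pullback.condition_assoc _)
  · have h : (snd X Y ≫ lift (toUnit Y ≫ x0) (𝟙 Y)) ≫ snd X Y = snd X Y := by
      rw [Category.assoc, lift_snd, Category.comp_id]
    simp [Over.tensorObj_hom]
    exact pullback.lift_snd (f := X.hom) (g := Y.hom) _ _ _

end Groth.Agent.Lib.UnitsFGH2
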