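import Mathlib
import Groth.Prelude.Def_AlgGrp
import Groth.Agent.Lib.UnitsFG6_helper2

/-!
# Rosenlicht's unit theorems: units on products, characters, semi-invariants (helper2)
-/

set_option autoImplicit false
set_option maxHeartbeats 1000000
set_option linter.unusedSimpArgs false
set_option linter.unusedVariables false
set_option linter.style.haveILetI false

open CategoryTheory CategoryTheory.Limits AlgebraicGeometry
open MonoidalCategory CartesianMonoidalCategory MonObj

namespace Groth.Agent.Lib.UnitsFGH2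

universe u

section Gen

variable {S : Scheme.{u}}

theorem comp_left_appTop {A B C : Over S} (a : A ⟶ B) (b : B ⟶ C) (s : Γ(C.left, ⊤)) :
    (a ≫ b).left.appTop s = a.left.appTop (b.left.appTop s) := by
  rw [Over.comp_left, Scheme.Hom.comp_appTop]
  rfl

theorem left_appTop_hom {A B : Over S} (a : A ⟶ B) (c : Γ(S, ⊤)) :
    a.left.appTop (B.hom.appTop c) = A.hom.appTop c := by
  rw [← Over.w a, Scheme.Hom.comp_appTop]
  rfl

theorem unit_hom_appTop (c : Γ(S, ⊤)) : (𝟙_ (Over S)).hom.appTop c = c := by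
  rw [Over.tensorUnit_hom]
  simp

end Gen

variable (k : Type u) [Field k] [IsAlgClosed k]

/-- Normal form of a unit on a product with base points. -/
theorem split_eq (X Y : Over (Spec (CommRingCat.of k))) [IsIntegral X.left] [IsIntegral Y.left]
    [LocallyOfFiniteType X.hom] [LocallyOfFiniteType Y.hom]
    (x0 : 𝟙_ (Over (Spec (CommRingCat.of k))) ⟶ X)
    (y0 : 𝟙_ (Over (Spec (CommRingCat.of k))) ⟶ Y)
    (f : Γ((X ⊗ Y).left, ⊤)) (hf : IsUnit f) :
    f * (X ⊗ Y).hom.appTop ((lift x0 y0).left.appTop f) =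
      (fst X Y).left.appTop ((lift (𝟙 X) (toUnit X ≫ y0)).left.appTop f) *
        (snd X Y).left.appTop ((lift (toUnit Y ≫ x0) (𝟙 Y)).left.appTop f) := by
  have key := prod_unit k X Y x0 y0 f hf
  rw [comp_left_appTop, comp_left_appTop, comp_left_appTop] at key
  exact key

/-- **Rosenlicht**: units on a product of integral schemes of finite type over an algebraically
closed field are products of units of the factors. -/
theorem main16117 (X Y : Over (Spec (CommRingCat.of k))) [IsIntegral X.left] [IsIntegral Y.left]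
    [LocallyOfFiniteType X.hom] [LocallyOfFiniteType Y.hom]
    (f : Γ((X ⊗ Y).left, ⊤)) (hf : IsUnit f) :
    ∃ (g : Γ(X.left, ⊤)) (h : Γ(Y.left, ⊤)), IsUnit g ∧ IsUnit h ∧
      f = (fst X Y).left.appTop g * (snd X Y).left.appTop h := by
  obtain ⟨x0⟩ := exists_point k X
  obtain ⟨y0⟩ := exists_point k Y
  have key := split_eq k X Y x0 y0 f hf
  have hc : IsUnit ((lift x0 y0).left.appTop f) := hf.map (lift x0 y0).left.appTop.hom
  have hg : IsUnit ((lift (𝟙 X) (toUnit X ≫ y0)).left.appTop f) :=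
    hf.map (lift (𝟙 X) (toUnit X ≫ y0)).left.appTop.hom
  have hh : IsUnit ((lift (toUnit Y ≫ x0) (𝟙 Y)).left.appTop f) :=
    hf.map (lift (toUnit Y ≫ x0) (𝟙 Y)).left.appTop.hom
  have hci : IsUnit (Y.hom.appTop (hc.unit⁻¹).val) :=
    (Units.isUnit _).map Y.hom.appTop.hom
  refine ⟨_, (lift (toUnit Y ≫ x0) (𝟙 Y)).left.appTop f *
    Y.hom.appTop (hc.unit⁻¹).val, hg, hh.mul hci, ?_⟩
  rw [map_mul, left_appTop_hom, ← _root_.mul_assoc, ← key, _root_.mul_assoc, ← map_mul, IsUnit.mul_val_inv,
    map_one, _root_.mul_one]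

/-- A unit on a connected group, equal to `1` at the identity, is a character. -/
theorem main16114 (G : Over (Spec (CommRingCat.of k))) [MonObj G] [IsIntegral G.left]
    [LocallyOfFiniteType G.hom] (f : Γ(G.left, ⊤)) (hf : IsUnit f)
    (he : η[G].left.appTop f = 1) :
    μ[G].left.appTop f = (fst G G).left.appTop f * (snd G G).left.appTop f := by
  have key := prod_unit k G G η[G] η[G] (μ[G].left.appTop f) (hf.map μ[G].left.appTop.hom)
  have h0 : lift η[G] η[G] ≫ μ[G] = η[G] := by
    have := lift_comp_one_right (η[G]) (𝟙 (𝟙_ (Over (Spec (CommRingCat.of k)))))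
    rwa [Category.id_comp] at this
  have h1 : lift (𝟙 G) (toUnit G ≫ η[G]) ≫ μ[G] = 𝟙 G := lift_comp_one_right _ _
  have h2 : lift (toUnit G ≫ η[G]) (𝟙 G) ≫ μ[G] = 𝟙 G := lift_comp_one_left _ _
  rw [← comp_left_appTop, ← comp_left_appTop, ← comp_left_appTop, Category.assoc, Category.assoc,
    Category.assoc, h0, h1, h2, Category.comp_id, Category.comp_id, comp_left_appTop, he, map_one,
    _root_.mul_one] at key
  exact key

/-- Units on `G × X` are products of a character of `G` and a unit of `X`. -/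
theorem main16115 (G X : Over (Spec (CommRingCat.of k))) [MonObj G] [IsIntegral G.left]
    [LocallyOfFiniteType G.hom] [IsIntegral X.left] [LocallyOfFiniteType X.hom]
    (f : Γ((G ⊗ X).left, ⊤)) (hf : IsUnit f) :
    ∃ (χ : Γ(G.left, ⊤)) (u : Γ(X.left, ⊤)), IsUnit χ ∧ η[G].left.appTop χ = 1 ∧
      μ[G].left.appTop χ = (fst G G).left.appTop χ * (snd G G).left.appTop χ ∧ IsUnit u ∧
      f = (fst G X).left.appTop χ * (snd G X).left.appTop u := by
  obtain ⟨y0⟩ := exists_point k X
  have key := split_eq k G X η[G] y0 f hf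
  have hc : IsUnit ((lift η[G] y0).left.appTop f) := hf.map (lift η[G] y0).left.appTop.hom
  have hg : IsUnit ((lift (𝟙 G) (toUnit G ≫ y0)).left.appTop f) :=
    hf.map (lift (𝟙 G) (toUnit G ≫ y0)).left.appTop.hom
  have hh : IsUnit ((lift (toUnit X ≫ η[G]) (𝟙 X)).left.appTop f) :=
    hf.map (lift (toUnit X ≫ η[G]) (𝟙 X)).left.appTop.hom
  have hci : IsUnit (G.hom.appTop (hc.unit⁻¹).val) :=
    (Units.isUnit _).map G.hom.appTop.hom
  have hχ : IsUnit ((lift (𝟙 G) (toUnit G ≫ y0)).left.appTop f *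
      G.hom.appTop (hc.unit⁻¹).val) := hg.mul hci
  have hη : η[G].left.appTop ((lift (𝟙 G) (toUnit G ≫ y0)).left.appTop f *
      G.hom.appTop (hc.unit⁻¹).val) = 1 := by
    have h1 : η[G] ≫ lift (𝟙 G) (toUnit G ≫ y0) = lift η[G] y0 := by
      rw [comp_lift, Category.comp_id, ← Category.assoc,
        toUnit_unique (η[G] ≫ toUnit G) (𝟙 _), Category.id_comp]
    rw [map_mul, ← comp_left_appTop, h1, left_appTop_hom, unit_hom_appTop, IsUnit.mul_val_inv]
  refine ⟨_, (lift (toUnit X ≫ η[G]) (𝟙 X)).left.appTop f, hχ, hη,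
    main16114 k G _ hχ hη, hh, ?_⟩
  rw [map_mul, left_appTop_hom, mul_right_comm, ← key, _root_.mul_assoc, ← map_mul, IsUnit.mul_val_inv,
    map_one, _root_.mul_one]

/-- A unit on a `G`-scheme is a semi-invariant for a unique character. -/
theorem main16116 (G X : Over (Spec (CommRingCat.of k))) [GrpObj G] [IsIntegral G.left]
    [LocallyOfFiniteType G.hom] [IsIntegral X.left] [LocallyOfFiniteType X.hom]
    (a : AlgGrp.Action G X) (f : Γ(X.left, ⊤)) (hf : IsUnit f) :
    ∃! χ : Γ(G.left, ⊤), IsUnit χ ∧ η[G].left.appTop χ = 1 ∧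
      μ[G].left.appTop χ = (fst G G).left.appTop χ * (snd G G).left.appTop χ ∧
      a.act.left.appTop f = (fst G X).left.appTop χ * (snd G X).left.appTop f := by
  obtain ⟨χ, u, hχ, hη, hμ, hu, hF⟩ :=
    main16115 k G X (a.act.left.appTop f) (hf.map a.act.left.appTop.hom)
  have hs : lift (toUnit X ≫ η[G]) (𝟙 X) ≫ a.act = 𝟙 X := by
    rw [← lift_whiskerRight, Category.assoc, a.one_act, lift_leftUnitor_hom]
  have hs1 : lift (toUnit X ≫ η[G]) (𝟙 X) ≫ fst G X = toUnit X ≫ η[G] := lift_fst _ _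
  have hs2 : lift (toUnit X ≫ η[G]) (𝟙 X) ≫ snd G X = 𝟙 X := lift_snd _ _
  have hfu : f = u := by
    have h1 := congrArg (fun z => (lift (toUnit X ≫ η[G]) (𝟙 X)).left.appTop z) hF
    simp only [map_mul] at h1
    rw [← comp_left_appTop, ← comp_left_appTop, ← comp_left_appTop, hs, hs1, hs2,
      comp_left_appTop, hη, map_one, _root_.one_mul] at h1
    simpa using h1
  refine ⟨χ, ⟨hχ, hη, hμ, by rw [hF, ← hfu]⟩, ?_⟩
  rintro χ' ⟨hχ', hη', hμ', hF'⟩
  obtain ⟨y0⟩ := exists_point k X
  have h1 : (fst G X).left.appTop χ' * (snd G X).left.appTop f =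
      (fst G X).left.appTop χ * (snd G X).left.appTop f := by
    rw [← hF', hF, ← hfu]
  have hunit : IsUnit ((snd G X).left.appTop f) := hf.map (snd G X).left.appTop.hom
  have h2 : (fst G X).left.appTop χ' = (fst G X).left.appTop χ := hunit.mul_left_injective h1
  have h3 := congrArg (fun z => (lift (𝟙 G) (toUnit G ≫ y0)).left.appTop z) h2
  simp only at h3
  rw [← comp_left_appTop, ← comp_left_appTop, lift_fst] at h3
  simpa using h3

end Groth.Agent.Lib.UnitsFGH2
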