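import Mathlib
import Groth.Agent.Lib.UnitsFG7_helper2

/-!
# Units on a product which are trivial on the axes (algebraically closed base field) (helper2)

For reduced connected schemes `X`, `Y` of finite type over an algebraically closed field `K` with
`K`-points `eX`, `eY`, a unit on `X × Y` which is `1` on `X × eY` and on `eX × Y` is `1`.
-/

set_option autoImplicit false
set_option maxHeartbeats 1000000
set_option linter.unusedSimpArgs false
set_option linter.unusedVariables false
set_option linter.style.haveILetI false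

open CategoryTheory CategoryTheory.Limits AlgebraicGeometry
open MonoidalCategory CartesianMonoidalCategory MonObj

namespace Groth.Agent.Lib.UnitsFGH2

universe u

variable (K : Type u) [Field K]

/-- Nonzero global functions on `Spec K` are units. -/
theorem isUnit_of_ne_zero_ΓSpec (a : Γ(Spec (CommRingCat.of K), ⊤)) (ha : a ≠ 0) : IsUnit a := by
  let e : Γ(Spec (CommRingCat.of K), ⊤) ≃+* K :=
    (Scheme.ΓSpecIso (CommRingCat.of K)).commRingCatIsoToRingEquiv
  have h1 : e a ≠ 0 := fun h => ha ((map_eq_zero_iff e e.injective).mp h)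
  have h2 : IsUnit (e a) := isUnit_iff_ne_zero.mpr h1
  exact (isUnit_map_iff e a).mp h2

variable [IsAlgClosed K]

/-- A global function vanishing at all `K`-points lying in an open `U` vanishes on `U`. -/
theorem inf_basicOpen_eq_bot_of_forall_point (X : Over (Spec (CommRingCat.of K)))
    [LocallyOfFiniteType X.hom] (s : Γ(X.left, ⊤)) (U : X.left.Opens)
    (H : ∀ x : 𝟙_ (Over (Spec (CommRingCat.of K))) ⟶ X,
      x.left (IsLocalRing.closedPoint K) ∈ U → x.left.appTop s = 0) :
    U ⊓ X.left.basicOpen s = ⊥ := by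
  haveI : JacobsonSpace X.left := LocallyOfFiniteType.jacobsonSpace X.hom
  by_contra hne
  have hne' : ((U ⊓ X.left.basicOpen s : X.left.Opens) : Set X.left).Nonempty := by
    rw [Set.nonempty_iff_ne_empty]
    intro h
    apply hne
    ext p
    simp [← SetLike.mem_coe, h]
  have hd : Dense (closedPoints X.left) := dense_iff_closure_eq.mpr closure_closedPoints
  obtain ⟨q, hqU, hq⟩ := hd.inter_open_nonempty _ (U ⊓ X.left.basicOpen s).isOpen hne'
  let x : 𝟙_ (Over (Spec (CommRingCat.of K))) ⟶ X :=
    Over.homMk (pointOfClosedPoint X.hom q hq) (pointOfClosedPoint_comp X.hom q hq)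
  have hx : x.left (IsLocalRing.closedPoint K) = q := pointOfClosedPoint_apply X.hom q hq _
  have h0 := H x (by rw [hx]; exact hqU.1)
  have h1 : (IsLocalRing.closedPoint K) ∈ x.left ⁻¹ᵁ X.left.basicOpen s := by
    show x.left (IsLocalRing.closedPoint K) ∈ X.left.basicOpen s
    rw [hx]
    exact hqU.2
  rw [Scheme.preimage_basicOpen_top, h0, Scheme.basicOpen_zero] at h1
  exact h1

/-- A global function vanishing at all `K`-points of a reduced scheme of finite type vanishes. -/
theorem eq_zero_of_forall_point (X : Over (Spec (CommRingCat.of K)))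
    [LocallyOfFiniteType X.hom] [IsReduced X.left] (s : Γ(X.left, ⊤))
    (H : ∀ x : 𝟙_ (Over (Spec (CommRingCat.of K))) ⟶ X, x.left.appTop s = 0) : s = 0 := by
  have h := inf_basicOpen_eq_bot_of_forall_point K X s ⊤ (fun x _ => H x)
  rw [top_inf_eq] at h
  exact (basicOpen_eq_bot_iff s).mp h

/-- The value at a `K`-point outside the non-vanishing locus of `h - c`. -/
theorem appTop_eq_of_notMem_basicOpen (X : Over (Spec (CommRingCat.of K)))
    (h : Γ(X.left, ⊤)) (c : Γ(Spec (CommRingCat.of K), ⊤))
    (x : 𝟙_ (Over (Spec (CommRingCat.of K))) ⟶ X)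
    (hx : x.left (IsLocalRing.closedPoint K) ∉ X.left.basicOpen (h - X.hom.appTop c)) :
    x.left.appTop h = c := by
  by_contra hne
  apply hx
  obtain ⟨v, hv⟩ : ∃ v : Γ(Spec (CommRingCat.of K), ⊤), v = x.left.appTop h := ⟨_, rfl⟩
  have h1 : x.left.appTop (h - X.hom.appTop c) = v - c := by
    rw [map_sub, left_appTop_hom, unit_hom_appTop, hv]
  have h2 : IsUnit (v - c) :=
    isUnit_of_ne_zero_ΓSpec K _ (sub_ne_zero.mpr (fun h' => hne (hv ▸ h')))
  show (IsLocalRing.closedPoint K) ∈ x.left ⁻¹ᵁ X.left.basicOpen (h - X.hom.appTop c)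
  rw [Scheme.preimage_basicOpen_top, h1]
  have h3 := Scheme.basicOpen_of_isUnit (Spec (CommRingCat.of K)) h2
  have h4 : (IsLocalRing.closedPoint K : Spec (CommRingCat.of K)) ∈
      (Spec (CommRingCat.of K)).basicOpen (v - c) := by
    rw [h3]
    trivial
  exact h4


section Components

/-- The open set of points lying on no irreducible component other than `Z`. -/
def soleOpen (X : Scheme.{u}) (hfin : (irreducibleComponents (X : Type u)).Finite) (Z : Set X) :
    X.Opens :=
  ⟨(⋃₀ (irreducibleComponents (X : Type u) \ {Z}))ᶜ, by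
    rw [Set.sUnion_eq_biUnion, isOpen_compl_iff]
    exact hfin.sdiff.isClosed_biUnion fun W hW ↦ isClosed_of_mem_irreducibleComponents W hW.1⟩

theorem closure_soleOpen (X : Scheme.{u}) (hfin : (irreducibleComponents (X : Type u)).Finite)
    (Z : Set X) (hZ : Z ∈ irreducibleComponents (X : Type u)) :
    closure (soleOpen X hfin Z : Set X) = Z :=
  closure_sUnion_irreducibleComponents_sdiff_singleton hfin Z hZ

theorem soleOpen_nonempty (X : Scheme.{u}) (hfin : (irreducibleComponents (X : Type u)).Finite)
    (Z : Set X) (hZ : Z ∈ irreducibleComponents (X : Type u)) :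
    (soleOpen X hfin Z : Set X).Nonempty := by
  by_contra h
  rw [Set.not_nonempty_iff_eq_empty] at h
  have hcl := closure_soleOpen X hfin Z hZ
  rw [h, closure_empty] at hcl
  exact hZ.1.1.ne_empty hcl.symm

theorem isIntegral_soleOpen (X : Scheme.{u}) [IsReduced X]
    (hfin : (irreducibleComponents (X : Type u)).Finite)
    (Z : Set X) (hZ : Z ∈ irreducibleComponents (X : Type u)) :
    IsIntegral (soleOpen X hfin Z).toScheme := by
  have h1 : IsIrreducible (soleOpen X hfin Z : Set X) := by
    rw [← isIrreducible_iff_closure, closure_soleOpen X hfin Z hZ]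
    exact hZ.1
  haveI : IrreducibleSpace ↥((soleOpen X hfin Z) : Scheme) := Subtype.irreducibleSpace h1
  exact isIntegral_of_irreducibleSpace_of_isReduced _

/-- Finiteness of the set of irreducible components of a scheme of finite type over a field. -/
theorem finite_irreducibleComponents_of_lft (X : Over (Spec (CommRingCat.of K)))
    [LocallyOfFiniteType X.hom] [QuasiCompact X.hom] :
    (irreducibleComponents (X.left : Type u)).Finite := by
  haveI : IsNoetherianRing (CommRingCat.of K) := inferInstanceAs (IsNoetherianRing K)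
  haveI : IsLocallyNoetherian X.left := LocallyOfFiniteType.isLocallyNoetherian X.hom
  haveI : CompactSpace X.left := QuasiCompact.compactSpace_of_compactSpace X.hom
  haveI : IsNoetherian X.left := { }
  exact finite_irreducibleComponents_of_isNoetherian

end Components

/-- A global function on a reduced connected scheme of finite type over `K` which is constant on the
`K`-points of the "sole" part of each irreducible component is constant. -/
theorem eq_const_of_const_on_components (X : Over (Spec (CommRingCat.of K)))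
    [LocallyOfFiniteType X.hom] [QuasiCompact X.hom] [IsReduced X.left] [ConnectedSpace X.left]
    (h : Γ(X.left, ⊤))
    (H : ∀ Z ∈ irreducibleComponents (X.left : Type u),
      ∀ x x' : 𝟙_ (Over (Spec (CommRingCat.of K))) ⟶ X,
        x.left (IsLocalRing.closedPoint K) ∈
          soleOpen X.left (finite_irreducibleComponents_of_lft K X) Z →
        x'.left (IsLocalRing.closedPoint K) ∈
          soleOpen X.left (finite_irreducibleComponents_of_lft K X) Z →
        x.left.appTop h = x'.left.appTop h)
    (e : 𝟙_ (Over (Spec (CommRingCat.of K))) ⟶ X) :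
    h = X.hom.appTop (e.left.appTop h) := by
  classical
  haveI : JacobsonSpace X.left := LocallyOfFiniteType.jacobsonSpace X.hom
  set hfin := finite_irreducibleComponents_of_lft K X with hfin_def
  -- constants on components
  have hconst : ∀ Z ∈ irreducibleComponents (X.left : Type u),
      ∃ c : Γ(Spec (CommRingCat.of K), ⊤),
        Z ⊆ ((X.left.basicOpen (h - X.hom.appTop c) : X.left.Opens) : Set X.left)ᶜ := by
    intro Z hZ
    obtain ⟨q, hqW, hq⟩ := nonempty_inter_closedPoints (soleOpen_nonempty X.left hfin Z hZ)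
      (soleOpen X.left hfin Z).isOpen.isLocallyClosed
    let xq : 𝟙_ (Over (Spec (CommRingCat.of K))) ⟶ X :=
      Over.homMk (pointOfClosedPoint X.hom q hq) (pointOfClosedPoint_comp X.hom q hq)
    have hxq : xq.left (IsLocalRing.closedPoint K) = q := pointOfClosedPoint_apply X.hom q hq _
    refine ⟨xq.left.appTop h, ?_⟩
    have h1 := inf_basicOpen_eq_bot_of_forall_point K X (h - X.hom.appTop (xq.left.appTop h))
      (soleOpen X.left hfin Z) (fun x hx => by
        rw [map_sub, left_appTop_hom, unit_hom_appTop, sub_eq_zero]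
        exact H Z hZ x xq hx (by rw [hxq]; exact hqW))
    have h2 : (soleOpen X.left hfin Z : Set X.left) ⊆
        ((X.left.basicOpen (h - X.hom.appTop (xq.left.appTop h)) : X.left.Opens) : Set X.left)ᶜ := by
      intro p hp hp'
      have : p ∈ (soleOpen X.left hfin Z ⊓ X.left.basicOpen
          (h - X.hom.appTop (xq.left.appTop h)) : X.left.Opens) := ⟨hp, hp'⟩
      rw [h1] at this
      exact this
    have h3 := closure_minimal h2 (X.left.basicOpen _).isOpen.isClosed_compl
    rwa [closure_soleOpen X.left hfin Z hZ] at h3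
  choose! c hc using hconst
  -- base component
  set p0 : X.left := e.left (IsLocalRing.closedPoint K) with hp0
  set Z0 : Set X.left := irreducibleComponent p0 with hZ0
  have hZ0mem : Z0 ∈ irreducibleComponents (X.left : Type u) := irreducibleComponent_mem_irreducibleComponents p0
  have hp0Z0 : p0 ∈ Z0 := mem_irreducibleComponent
  have hc0 : e.left.appTop h = c Z0 :=
    appTop_eq_of_notMem_basicOpen K X h (c Z0) e (fun hmem => hc Z0 hZ0mem hp0Z0 hmem)
  -- the two closed sets
  set A : Set X.left := ⋃₀ {Z | Z ∈ irreducibleComponents (X.left : Type u) ∧ c Z = c Z0} with hA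
  set B : Set X.left := ⋃₀ {Z | Z ∈ irreducibleComponents (X.left : Type u) ∧ c Z ≠ c Z0} with hB
  have hAcl : IsClosed A := by
    rw [hA, Set.sUnion_eq_biUnion]
    exact (hfin.subset (fun Z hZ => hZ.1)).isClosed_biUnion
      fun W hW ↦ isClosed_of_mem_irreducibleComponents W hW.1
  have hBcl : IsClosed B := by
    rw [hB, Set.sUnion_eq_biUnion]
    exact (hfin.subset (fun Z hZ => hZ.1)).isClosed_biUnion
      fun W hW ↦ isClosed_of_mem_irreducibleComponents W hW.1
  have hcover : (Set.univ : Set X.left) ⊆ A ∪ B := by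
    intro p _
    by_cases hcp : c (irreducibleComponent p) = c Z0
    · exact Or.inl ⟨_, ⟨irreducibleComponent_mem_irreducibleComponents p, hcp⟩,
        mem_irreducibleComponent⟩
    · exact Or.inr ⟨_, ⟨irreducibleComponent_mem_irreducibleComponents p, hcp⟩,
        mem_irreducibleComponent⟩
  have hdisj : ¬ (A ∩ B).Nonempty := by
    rintro ⟨p, ⟨Z, ⟨hZ, hcZ⟩, hpZ⟩, ⟨Z', ⟨hZ', hcZ'⟩, hpZ'⟩⟩
    have hcl : IsClosed (Z ∩ Z') := (isClosed_of_mem_irreducibleComponents Z hZ).inter
      (isClosed_of_mem_irreducibleComponents Z' hZ')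
    obtain ⟨q, ⟨hqZ, hqZ'⟩, hq⟩ := nonempty_inter_closedPoints (Z := Z ∩ Z') ⟨p, hpZ, hpZ'⟩ hcl.isLocallyClosed
    let xq : 𝟙_ (Over (Spec (CommRingCat.of K))) ⟶ X :=
      Over.homMk (pointOfClosedPoint X.hom q hq) (pointOfClosedPoint_comp X.hom q hq)
    have hxq : xq.left (IsLocalRing.closedPoint K) = q := pointOfClosedPoint_apply X.hom q hq _
    have e1 : xq.left.appTop h = c Z := appTop_eq_of_notMem_basicOpen K X h (c Z) xq
      (fun hmem => hc Z hZ (hxq ▸ hqZ) hmem)
    have e2 : xq.left.appTop h = c Z' := appTop_eq_of_notMem_basicOpen K X h (c Z') xq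
      (fun hmem => hc Z' hZ' (hxq ▸ hqZ') hmem)
    exact hcZ' (e2.symm.trans (e1.trans hcZ))
  have hBempty : B = ∅ := by
    by_contra hne0
    have hne : B.Nonempty := Set.nonempty_iff_ne_empty.mpr hne0
    have hpre : _root_.IsPreconnected (Set.univ : Set X.left) := isPreconnected_univ
    rw [isPreconnected_closed_iff] at hpre
    have := hpre A B hAcl hBcl hcover
      ⟨p0, Set.mem_univ _, Z0, ⟨hZ0mem, rfl⟩, hp0Z0⟩
      (by obtain ⟨p, hp⟩ := hne; exact ⟨p, Set.mem_univ _, hp⟩)
    obtain ⟨p, -, hp⟩ := this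
    exact hdisj ⟨p, hp⟩
  have hall : ∀ Z ∈ irreducibleComponents (X.left : Type u), c Z = c Z0 := by
    intro Z hZ
    by_contra hne
    obtain ⟨p, hp⟩ := hZ.1.1
    have : p ∈ B := ⟨Z, ⟨hZ, hne⟩, hp⟩
    rw [hBempty] at this
    exact this
  have hbot : X.left.basicOpen (h - X.hom.appTop (c Z0)) = ⊥ := by
    ext p
    simp only [SetLike.mem_coe, TopologicalSpace.Opens.coe_bot, Set.mem_empty_iff_false,
      iff_false]
    intro hp
    have h1 := hc _ (irreducibleComponent_mem_irreducibleComponents p) (mem_irreducibleComponent)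
    rw [hall _ (irreducibleComponent_mem_irreducibleComponents p)] at h1
    exact h1 hp
  have := (basicOpen_eq_bot_iff _).mp hbot
  rw [hc0]
  exact sub_eq_zero.mp this


/-- The cross-ratio identity for a unit on a product of integral schemes at `K`-points. -/
theorem cross_eq (X Y : Over (Spec (CommRingCat.of K))) [IsIntegral X.left] [IsIntegral Y.left]
    [LocallyOfFiniteType X.hom] [LocallyOfFiniteType Y.hom]
    (f : Γ((X ⊗ Y).left, ⊤)) (hf : IsUnit f)
    (x x' : 𝟙_ (Over (Spec (CommRingCat.of K))) ⟶ X)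
    (y y' : 𝟙_ (Over (Spec (CommRingCat.of K))) ⟶ Y) :
    (lift x y).left.appTop f * (lift x' y').left.appTop f =
      (lift x y').left.appTop f * (lift x' y).left.appTop f := by
  have key := prod_unit K X Y x' y' f hf
  have h1 := congrArg (fun z => (lift x y).left.appTop z) key
  simp only [map_mul] at h1
  rw [← comp_left_appTop, ← comp_left_appTop, ← comp_left_appTop] at h1
  have e0 : lift x y ≫ toUnit (X ⊗ Y) ≫ lift x' y' = lift x' y' := by
    rw [← Category.assoc, toUnit_unique (lift x y ≫ toUnit (X ⊗ Y)) (𝟙 _), Category.id_comp]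
  have e1 : lift x y ≫ fst X Y ≫ lift (𝟙 X) (toUnit X ≫ y') = lift x y' := by
    rw [lift_fst_assoc, comp_lift, Category.comp_id, ← Category.assoc,
      toUnit_unique (x ≫ toUnit X) (𝟙 _), Category.id_comp]
  have e2 : lift x y ≫ snd X Y ≫ lift (toUnit Y ≫ x') (𝟙 Y) = lift x' y := by
    rw [lift_snd_assoc, comp_lift, Category.comp_id, ← Category.assoc,
      toUnit_unique (y ≫ toUnit Y) (𝟙 _), Category.id_comp]
  rw [e0, e1, e2] at h1
  exact h1

/-- An open subscheme as an object over `Spec K`. -/
noncomputable abbrev overOpen (X : Over (Spec (CommRingCat.of K))) (U : X.left.Opens) :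
    Over (Spec (CommRingCat.of K)) := Over.mk (U.ι ≫ X.hom)

/-- The inclusion of an open subscheme, over `Spec K`. -/
noncomputable abbrev overOpenι (X : Over (Spec (CommRingCat.of K))) (U : X.left.Opens) :
    overOpen K X U ⟶ X := Over.homMk U.ι rfl

omit [IsAlgClosed K] in
theorem exists_lift_point (X : Over (Spec (CommRingCat.of K))) (U : X.left.Opens)
    (x : 𝟙_ (Over (Spec (CommRingCat.of K))) ⟶ X)
    (hx : x.left (IsLocalRing.closedPoint K) ∈ U) :
    ∃ a : 𝟙_ (Over (Spec (CommRingCat.of K))) ⟶ overOpen K X U, a ≫ overOpenι K X U = x := by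
  have hrange : Set.range x.left ⊆ Set.range U.ι := by
    rintro _ ⟨p, rfl⟩
    rw [Scheme.Opens.range_ι]
    have : p = IsLocalRing.closedPoint K := @Subsingleton.elim (PrimeSpectrum K) _ p _
    rw [this]
    exact hx
  refine ⟨Over.homMk (IsOpenImmersion.lift U.ι x.left hrange) ?_, ?_⟩
  · show IsOpenImmersion.lift U.ι x.left hrange ≫ U.ι ≫ X.hom = _
    rw [IsOpenImmersion.lift_fac_assoc]
    exact Over.w x
  · ext
    simp

/-- The cross-ratio identity at `K`-points lying in integral open subschemes. -/
theorem cross_eq_of_mem_opens (X Y : Over (Spec (CommRingCat.of K)))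
    [LocallyOfFiniteType X.hom] [LocallyOfFiniteType Y.hom]
    (U : X.left.Opens) (V : Y.left.Opens) [IsIntegral U.toScheme] [IsIntegral V.toScheme]
    (f : Γ((X ⊗ Y).left, ⊤)) (hf : IsUnit f)
    (x x' : 𝟙_ (Over (Spec (CommRingCat.of K))) ⟶ X)
    (y y' : 𝟙_ (Over (Spec (CommRingCat.of K))) ⟶ Y)
    (hx : x.left (IsLocalRing.closedPoint K) ∈ U) (hx' : x'.left (IsLocalRing.closedPoint K) ∈ U)
    (hy : y.left (IsLocalRing.closedPoint K) ∈ V) (hy' : y'.left (IsLocalRing.closedPoint K) ∈ V) :
    (lift x y).left.appTop f * (lift x' y').left.appTop f =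
      (lift x y').left.appTop f * (lift x' y).left.appTop f := by
  obtain ⟨a, ha⟩ := exists_lift_point K X U x hx
  obtain ⟨a', ha'⟩ := exists_lift_point K X U x' hx'
  obtain ⟨b, hb⟩ := exists_lift_point K Y V y hy
  obtain ⟨b', hb'⟩ := exists_lift_point K Y V y' hy'
  haveI : IsIntegral (overOpen K X U).left := ‹IsIntegral U.toScheme›
  haveI : IsIntegral (overOpen K Y V).left := ‹IsIntegral V.toScheme›
  haveI : LocallyOfFiniteType (overOpen K X U).hom := by
    show LocallyOfFiniteType (U.ι ≫ X.hom)
    infer_instance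
  haveI : LocallyOfFiniteType (overOpen K Y V).hom := by
    show LocallyOfFiniteType (V.ι ≫ Y.hom)
    infer_instance
  have key := cross_eq K (overOpen K X U) (overOpen K Y V)
    ((overOpenι K X U ⊗ₘ overOpenι K Y V).left.appTop f)
    (hf.map (overOpenι K X U ⊗ₘ overOpenι K Y V).left.appTop.hom) a a' b b'
  rw [← comp_left_appTop, ← comp_left_appTop, ← comp_left_appTop, ← comp_left_appTop, lift_map,
    lift_map, lift_map, lift_map, ha, ha', hb, hb'] at key
  exact key

/-- **Units trivial on the axes are trivial** (algebraically closed base field). -/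
theorem eq_one_of_axes (X Y : Over (Spec (CommRingCat.of K)))
    [LocallyOfFiniteType X.hom] [QuasiCompact X.hom] [IsReduced X.left] [ConnectedSpace X.left]
    [LocallyOfFiniteType Y.hom] [QuasiCompact Y.hom] [IsReduced Y.left] [ConnectedSpace Y.left]
    [IsReduced (X ⊗ Y).left]
    (eX : 𝟙_ (Over (Spec (CommRingCat.of K))) ⟶ X) (eY : 𝟙_ (Over (Spec (CommRingCat.of K))) ⟶ Y)
    (f : Γ((X ⊗ Y).left, ⊤)) (hf : IsUnit f)
    (h1 : (lift (𝟙 X) (toUnit X ≫ eY)).left.appTop f = 1)
    (h2 : (lift (toUnit Y ≫ eX) (𝟙 Y)).left.appTop f = 1) : f = 1 := by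
  have hxs : ∀ (x : 𝟙_ (Over (Spec (CommRingCat.of K))) ⟶ X)
      (y : 𝟙_ (Over (Spec (CommRingCat.of K))) ⟶ Y),
      x ≫ lift (𝟙 X) (toUnit X ≫ y) = lift x y := by
    intro x y
    rw [comp_lift, Category.comp_id, ← Category.assoc, toUnit_unique (x ≫ toUnit X) (𝟙 _),
      Category.id_comp]
  have hys : ∀ (x : 𝟙_ (Over (Spec (CommRingCat.of K))) ⟶ X)
      (y : 𝟙_ (Over (Spec (CommRingCat.of K))) ⟶ Y),
      y ≫ lift (toUnit Y ≫ x) (𝟙 Y) = lift x y := by
    intro x y
    rw [comp_lift, Category.comp_id, ← Category.assoc, toUnit_unique (y ≫ toUnit Y) (𝟙 _),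
      Category.id_comp]
  have hFu : ∀ (x : 𝟙_ (Over (Spec (CommRingCat.of K))) ⟶ X)
      (y : 𝟙_ (Over (Spec (CommRingCat.of K))) ⟶ Y), IsUnit ((lift x y).left.appTop f) :=
    fun x y => hf.map (lift x y).left.appTop.hom
  have hF1 : ∀ x : 𝟙_ (Over (Spec (CommRingCat.of K))) ⟶ X, (lift x eY).left.appTop f = 1 := by
    intro x
    rw [← hxs x eY, comp_left_appTop, h1, map_one]
  have hF2 : ∀ y : 𝟙_ (Over (Spec (CommRingCat.of K))) ⟶ Y, (lift eX y).left.appTop f = 1 := by
    intro y
    rw [← hys eX y, comp_left_appTop, h2, map_one]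
  have hb : ∀ Z ∈ irreducibleComponents (X.left : Type u),
      ∀ W ∈ irreducibleComponents (Y.left : Type u),
      ∀ (x x' : 𝟙_ (Over (Spec (CommRingCat.of K))) ⟶ X)
        (y y' : 𝟙_ (Over (Spec (CommRingCat.of K))) ⟶ Y),
        x.left (IsLocalRing.closedPoint K) ∈
          soleOpen X.left (finite_irreducibleComponents_of_lft K X) Z →
        x'.left (IsLocalRing.closedPoint K) ∈
          soleOpen X.left (finite_irreducibleComponents_of_lft K X) Z →
        y.left (IsLocalRing.closedPoint K) ∈
          soleOpen Y.left (finite_irreducibleComponents_of_lft K Y) W →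
        y'.left (IsLocalRing.closedPoint K) ∈
          soleOpen Y.left (finite_irreducibleComponents_of_lft K Y) W →
        (lift x y).left.appTop f * (lift x' y').left.appTop f =
          (lift x y').left.appTop f * (lift x' y).left.appTop f := by
    intro Z hZ W hW x x' y y' hx hx' hy hy'
    haveI := isIntegral_soleOpen X.left (finite_irreducibleComponents_of_lft K X) Z hZ
    haveI := isIntegral_soleOpen Y.left (finite_irreducibleComponents_of_lft K Y) W hW
    exact cross_eq_of_mem_opens K X Y _ _ f hf x x' y y' hx hx' hy hy'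
  -- Stage 1
  have hS1 : ∀ W ∈ irreducibleComponents (Y.left : Type u),
      ∀ (y y' : 𝟙_ (Over (Spec (CommRingCat.of K))) ⟶ Y),
        y.left (IsLocalRing.closedPoint K) ∈
          soleOpen Y.left (finite_irreducibleComponents_of_lft K Y) W →
        y'.left (IsLocalRing.closedPoint K) ∈
          soleOpen Y.left (finite_irreducibleComponents_of_lft K Y) W →
        ∀ x : 𝟙_ (Over (Spec (CommRingCat.of K))) ⟶ X,
          (lift x y).left.appTop f = (lift x y').left.appTop f := by
    intro W hW y y' hy hy' x0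
    have hbU : IsUnit ((lift (𝟙 X) (toUnit X ≫ y')).left.appTop f) :=
      hf.map (lift (𝟙 X) (toUnit X ≫ y')).left.appTop.hom
    obtain ⟨h, hh⟩ : ∃ h : Γ(X.left, ⊤), h * (lift (𝟙 X) (toUnit X ≫ y')).left.appTop f =
        (lift (𝟙 X) (toUnit X ≫ y)).left.appTop f :=
      ⟨(lift (𝟙 X) (toUnit X ≫ y)).left.appTop f * ↑(hbU.unit⁻¹), by
        rw [_root_.mul_assoc, IsUnit.val_inv_mul, _root_.mul_one]⟩
    have hval : ∀ x : 𝟙_ (Over (Spec (CommRingCat.of K))) ⟶ X,
        x.left.appTop h * (lift x y').left.appTop f = (lift x y).left.appTop f := by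
      intro x
      rw [← hxs x y', ← hxs x y, comp_left_appTop, comp_left_appTop, ← map_mul, hh]
    have hconst := eq_const_of_const_on_components K X h (fun Z hZ x x' hx hx' => by
      have e1 := hval x
      have e2 := hval x'
      have e3 := hb Z hZ W hW x x' y y' hx hx' hy hy'
      rw [← e1, ← e2] at e3
      have u1 := hFu x y'
      have u2 := hFu x' y'
      have e4 : x.left.appTop h * ((lift x y').left.appTop f * (lift x' y').left.appTop f) =
          x'.left.appTop h * ((lift x y').left.appTop f * (lift x' y').left.appTop f) := by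
        linear_combination e3
      exact (u1.mul u2).mul_left_injective e4) eX
    have he : eX.left.appTop h = 1 := by
      have := hval eX
      rw [hF2, hF2, _root_.mul_one] at this
      exact this
    rw [he, map_one] at hconst
    have := hval x0
    rw [hconst, map_one, _root_.one_mul] at this
    exact this.symm
  -- Stage 2
  have hS2 : ∀ (x : 𝟙_ (Over (Spec (CommRingCat.of K))) ⟶ X)
      (y : 𝟙_ (Over (Spec (CommRingCat.of K))) ⟶ Y), (lift x y).left.appTop f = 1 := by
    intro x y
    have hval : ∀ y : 𝟙_ (Over (Spec (CommRingCat.of K))) ⟶ Y,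
        y.left.appTop ((lift (toUnit Y ≫ x) (𝟙 Y)).left.appTop f) = (lift x y).left.appTop f := by
      intro y
      rw [← hys x y, comp_left_appTop]
    have hconst := eq_const_of_const_on_components K Y
      ((lift (toUnit Y ≫ x) (𝟙 Y)).left.appTop f) (fun W hW y y' hy hy' => by
        rw [hval, hval]
        exact hS1 W hW y y' hy hy' x) eY
    rw [hval, hF1, map_one] at hconst
    rw [← hval, hconst, map_one]
  -- conclusion
  haveI : LocallyOfFiniteType (X ⊗ Y).hom := by
    show LocallyOfFiniteType (pullback.fst X.hom Y.hom ≫ X.hom)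
    infer_instance
  have hzero := eq_zero_of_forall_point K (X ⊗ Y) (f - 1) (fun z => by
    rw [map_sub, map_one, sub_eq_zero, ← lift_comp_fst_snd z]
    exact hS2 _ _)
  exact sub_eq_zero.mp hzero

end Groth.Agent.Lib.UnitsFGH2
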