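import Mathlib
import Groth.Agent.Lib.UnitsFG8_helper2
import Groth.Agent.Lib.GaGm_lead
import Groth.Agent.Lib.RedDict_helper8

/-!
# Units on a product which are trivial on the axes (any base field) (helper2)

For geometrically reduced, geometrically connected schemes `X`, `Y` of finite type over a field
`k` with rational points, a unit on `X × Y` (or a morphism to `𝔾_m`) trivial on both axes is
trivial.
-/

set_option autoImplicit false
set_option maxHeartbeats 1000000
set_option linter.unusedSimpArgs false
set_option linter.unusedVariables false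
set_option linter.style.haveILetI false

open CategoryTheory CategoryTheory.Limits AlgebraicGeometry
open MonoidalCategory CartesianMonoidalCategory MonObj

namespace Groth.Agent.Lib.UnitsFGH2

universe u

/-- Units trivial on the axes are trivial, over any field. -/
theorem eq_one_of_axes_field (k : Type u) [Field k] (X Y : Over (Spec (CommRingCat.of k)))
    [LocallyOfFiniteType X.hom] [QuasiCompact X.hom] [GeometricallyReduced X.hom]
    [GeometricallyConnected X.hom]
    [LocallyOfFiniteType Y.hom] [QuasiCompact Y.hom] [GeometricallyReduced Y.hom]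
    [GeometricallyConnected Y.hom]
    (eX : 𝟙_ (Over (Spec (CommRingCat.of k))) ⟶ X) (eY : 𝟙_ (Over (Spec (CommRingCat.of k))) ⟶ Y)
    (f : Γ((X ⊗ Y).left, ⊤)) (hf : IsUnit f)
    (h1 : (lift (𝟙 X) (toUnit X ≫ eY)).left.appTop f = 1)
    (h2 : (lift (toUnit Y ≫ eX) (𝟙 Y)).left.appTop f = 1) : f = 1 := by
  let K := AlgebraicClosure k
  let b : Spec (CommRingCat.of K) ⟶ Spec (CommRingCat.of k) :=
    Spec.map (CommRingCat.ofHom (algebraMap k K))
  let F := Over.pullback b
  haveI : IsNoetherianRing (CommRingCat.of K) := inferInstanceAs (IsNoetherianRing K)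
  -- instances for the base changes
  haveI iX1 : LocallyOfFiniteType (F.obj X).hom := by
    show LocallyOfFiniteType (pullback.snd X.hom b)
    infer_instance
  haveI iX2 : QuasiCompact (F.obj X).hom := by
    show QuasiCompact (pullback.snd X.hom b)
    infer_instance
  haveI iX3 : IsReduced (F.obj X).left :=
    GeometricallyReduced.geometrically_isReduced (f := X.hom) b (pullback.fst X.hom b)
      (pullback.snd X.hom b) (.of_hasPullback _ _)
  haveI iX4 : ConnectedSpace (F.obj X).left :=
    GeometricallyConnected.geometrically_connectedSpace (f := X.hom) b (pullback.fst X.hom b)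
      (pullback.snd X.hom b) (.of_hasPullback _ _)
  haveI iY1 : LocallyOfFiniteType (F.obj Y).hom := by
    show LocallyOfFiniteType (pullback.snd Y.hom b)
    infer_instance
  haveI iY2 : QuasiCompact (F.obj Y).hom := by
    show QuasiCompact (pullback.snd Y.hom b)
    infer_instance
  haveI iY3 : IsReduced (F.obj Y).left :=
    GeometricallyReduced.geometrically_isReduced (f := Y.hom) b (pullback.fst Y.hom b)
      (pullback.snd Y.hom b) (.of_hasPullback _ _)
  haveI iY4 : ConnectedSpace (F.obj Y).left :=
    GeometricallyConnected.geometrically_connectedSpace (f := Y.hom) b (pullback.fst Y.hom b)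
      (pullback.snd Y.hom b) (.of_hasPullback _ _)
  haveI iP : IsReduced (F.obj X ⊗ F.obj Y).left := by
    show IsReduced (pullback (F.obj X).hom (F.obj Y).hom)
    haveI : GeometricallyReduced (F.obj X).hom := by
      show GeometricallyReduced (pullback.snd X.hom b)
      infer_instance
    haveI : IsLocallyNoetherian (F.obj Y).left :=
      LocallyOfFiniteType.isLocallyNoetherian (F.obj Y).hom
    haveI : Flat (F.obj X).hom := inferInstance
    infer_instance
  -- the comparison maps
  let mu : F.obj X ⊗ F.obj Y ⟶ F.obj (X ⊗ Y) := Functor.LaxMonoidal.μ F X Y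
  let πP : (F.obj (X ⊗ Y)).left ⟶ (X ⊗ Y).left := pullback.fst (X ⊗ Y).hom b
  let eX' : 𝟙_ (Over (Spec (CommRingCat.of K))) ⟶ F.obj X := Functor.LaxMonoidal.ε F ≫ F.map eX
  let eY' : 𝟙_ (Over (Spec (CommRingCat.of K))) ⟶ F.obj Y := Functor.LaxMonoidal.ε F ≫ F.map eY
  have hf' : IsUnit (mu.left.appTop (πP.appTop f)) :=
    (hf.map πP.appTop.hom).map mu.left.appTop.hom
  have hnat : ∀ {T T' : Over (Spec (CommRingCat.of k))} (φ : T ⟶ T') (s : Γ(T'.left, ⊤)),
      (F.map φ).left.appTop ((pullback.fst T'.hom b).appTop s) =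
        (pullback.fst T.hom b).appTop (φ.left.appTop s) := by
    intro T T' φ s
    have e : (F.map φ).left ≫ pullback.fst T'.hom b = pullback.fst T.hom b ≫ φ.left := by
      exact pullback.lift_fst (f := T'.hom) (g := b) _ _ _
    have e' := congrArg (fun g => g.appTop s) e
    simp only [Scheme.Hom.comp_appTop] at e'
    exact e'
  have h1' : (lift (𝟙 (F.obj X)) (toUnit (F.obj X) ≫ eY')).left.appTop
      (mu.left.appTop (πP.appTop f)) = 1 := by
    have e : lift (𝟙 (F.obj X)) (toUnit (F.obj X) ≫ eY') ≫ mu =
        F.map (lift (𝟙 X) (toUnit X ≫ eY)) := by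
      rw [← Functor.Monoidal.lift_μ, F.map_id, F.map_comp, ← Functor.Monoidal.toUnit_ε_assoc]
    rw [← comp_left_appTop, e, hnat, h1, map_one]
  have h2' : (lift (toUnit (F.obj Y) ≫ eX') (𝟙 (F.obj Y))).left.appTop
      (mu.left.appTop (πP.appTop f)) = 1 := by
    have e : lift (toUnit (F.obj Y) ≫ eX') (𝟙 (F.obj Y)) ≫ mu =
        F.map (lift (toUnit Y ≫ eX) (𝟙 Y)) := by
      rw [← Functor.Monoidal.lift_μ, F.map_id, F.map_comp, ← Functor.Monoidal.toUnit_ε_assoc]
    rw [← comp_left_appTop, e, hnat, h2, map_one]
  have key := eq_one_of_axes K (F.obj X) (F.obj Y) eX' eY' _ hf' h1' h2'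
  have hmuinj : Function.Injective mu.left.appTop.hom := by
    haveI : IsIso mu := by dsimp only [mu]; infer_instance
    haveI : IsIso mu.left := inferInstanceAs (IsIso ((Over.forget _).map mu))
    haveI : IsIso mu.left.appTop := inferInstanceAs (IsIso (mu.left.app ⊤))
    exact (ConcreteCategory.bijective_of_isIso mu.left.appTop).injective
  have h3 : πP.appTop f = 1 := hmuinj (by rw [map_one]; exact key)
  have hbsurj : Function.Surjective b := by
    intro p
    refine ⟨IsLocalRing.closedPoint K, ?_⟩
    exact @Subsingleton.elim (PrimeSpectrum k) _ _ _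
  haveI : IsDominant b := ⟨hbsurj.denseRange⟩
  haveI : IsSchemeTheoreticallyDominant b := IsSchemeTheoreticallyDominant.of_isDominant b
  haveI : Flat (X ⊗ Y).hom := inferInstance
  haveI : IsSchemeTheoreticallyDominant πP := by
    dsimp only [πP]
    infer_instance
  haveI : QuasiCompact πP := by
    dsimp only [πP]
    infer_instance
  have hπinj : Function.Injective πP.appTop.hom := πP.app_injective ⊤
  exact hπinj (by rw [map_one]; exact h3)

/-- A morphism to `𝔾_m` from a product, trivial on both axes, is trivial. -/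
theorem main8709 (k : Type u) [Field k] (X Y : Over (Spec (CommRingCat.of k)))
    [LocallyOfFiniteType X.hom] [QuasiCompact X.hom] [GeometricallyReduced X.hom]
    [GeometricallyConnected X.hom]
    [LocallyOfFiniteType Y.hom] [QuasiCompact Y.hom] [GeometricallyReduced Y.hom]
    [GeometricallyConnected Y.hom]
    (eX : 𝟙_ (Over (Spec (CommRingCat.of k))) ⟶ X) (eY : 𝟙_ (Over (Spec (CommRingCat.of k))) ⟶ Y)
    (u : X ⊗ Y ⟶ Red.Gm (Spec (CommRingCat.of k)))
    (huX : lift (𝟙 X) (toUnit X ≫ eY) ≫ u = 1) (huY : lift (toUnit Y ≫ eX) (𝟙 Y) ≫ u = 1) :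
    u = 1 := by
  apply Groth.Agent.Lib.RedDictH8.gmFn_injective
  rw [Groth.Agent.Lib.GaGm.gmFn_one]
  apply eq_one_of_axes_field k X Y eX eY (Red.gmFn u) (Groth.Agent.Lib.RedDictH8.isUnit_gmFn u)
  · have := congrArg Red.gmFn huX
    rw [Groth.Agent.Lib.GaGm.gmFn_comp, Groth.Agent.Lib.GaGm.gmFn_one] at this
    exact this
  · have := congrArg Red.gmFn huY
    rw [Groth.Agent.Lib.GaGm.gmFn_comp, Groth.Agent.Lib.GaGm.gmFn_one] at this
    exact this

end Groth.Agent.Lib.UnitsFGH2
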