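import Mathlib
import Groth.Agent.Lib.Laurent1_helper6

/-!
# UnitsTorusAlg (helper7): ring-level facts about `A[G]` used for units of `X × 𝔾_mⁿ`:
the two structure maps `A → A[G] ← ℤ[G]` (the latter through `ULift`), the universal property
of `A[G]` as a coproduct `A ⊗ ℤ[G]`, and functoriality in `A`.
-/

set_option autoImplicit false
universe u

open AddMonoidAlgebra

namespace Groth.Agent.Lib.UnitsTorusH7

section Alg

variable (G : Type) [AddCommGroup G] (A : Type u) [CommRing A]

/-- the lifted integral group ring -/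
abbrev Bz : Type u := ULift.{u} (AddMonoidAlgebra ℤ G)

/-- `A → A[G]` -/
noncomputable def αm : A →+* AddMonoidAlgebra A G := singleZeroRingHom

/-- `ℤ[G] → A[G]` (through `ULift`) -/
noncomputable def βm : Bz.{u} G →+* AddMonoidAlgebra A G :=
  (mapRingHom G (Int.castRingHom A)).comp
    (ULift.ringEquiv : Bz.{u} G ≃+* AddMonoidAlgebra ℤ G).toRingHom

theorem αm_apply (a : A) : αm G A a = single 0 a := rfl

theorem βm_up_single (e : G) (k : ℤ) :
    βm G A (ULift.up (single e k)) = single e (k : A) := by
  show mapRingHom G (Int.castRingHom A) (single e k) = _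
  rw [mapRingHom_single, eq_intCast]

theorem exists_desc {R : Type*} [CommRing R] (σ : A →+* R) (τ : Bz.{u} G →+* R) :
    ∃ δ : AddMonoidAlgebra A G →+* R, δ.comp (αm G A) = σ ∧ δ.comp (βm G A) = τ := by
  let up' : AddMonoidAlgebra ℤ G →+* Bz.{u} G :=
    (ULift.ringEquiv : Bz.{u} G ≃+* AddMonoidAlgebra ℤ G).symm.toRingHom
  let g : Multiplicative G →* R :=
    ((τ.comp up' : AddMonoidAlgebra ℤ G →+* R) : AddMonoidAlgebra ℤ G →* R).comp (of ℤ G)
  have hg : ∀ m : G, g (Multiplicative.ofAdd m) = τ (ULift.up (single m 1)) := fun m => rfl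
  let δ : AddMonoidAlgebra A G →+* R := liftNCRingHom σ g (fun _ _ => Commute.all _ _)
  have hδ : ∀ (m : G) (a : A), δ (single m a) = σ a * τ (ULift.up (single m 1)) := by
    intro m a
    show liftNCRingHom σ g _ (single m a) = _
    rw [liftNCRingHom_single, hg]
  refine ⟨δ, ?_, ?_⟩
  · refine RingHom.ext fun a => ?_
    show δ (single 0 a) = σ a
    rw [hδ]
    have h1 : (ULift.up (single (0 : G) (1 : ℤ)) : Bz.{u} G) = 1 := rfl
    rw [h1, map_one, mul_one]
  · have h : (δ.comp (βm G A)).comp up' = τ.comp up' := by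
      apply ringHom_ext
      · intro r
        exact RingHom.congr_fun (Subsingleton.elim
          (((δ.comp (βm G A)).comp up').comp singleZeroRingHom)
          ((τ.comp up').comp singleZeroRingHom)) r
      · intro m
        show δ (βm G A (ULift.up (single m 1))) = τ (ULift.up (single m 1))
        rw [βm_up_single, Int.cast_one, hδ, map_one, one_mul]
    refine RingHom.ext fun x => ?_
    exact RingHom.congr_fun h x.down

theorem desc_ext {R : Type*} [CommRing R] (δ₁ δ₂ : AddMonoidAlgebra A G →+* R)
    (h1 : δ₁.comp (αm G A) = δ₂.comp (αm G A)) (h2 : δ₁.comp (βm G A) = δ₂.comp (βm G A)) :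
    δ₁ = δ₂ := by
  apply ringHom_ext
  · intro r
    exact RingHom.congr_fun h1 r
  · intro m
    have := RingHom.congr_fun h2 (ULift.up (single m 1))
    simp only [RingHom.comp_apply, βm_up_single, Int.cast_one] at this
    exact this

variable {A}

theorem map_comp_αm {A' : Type u} [CommRing A'] (φ : A →+* A') :
    (mapRingHom G φ).comp (αm G A) = (αm G A').comp φ := by
  refine RingHom.ext fun a => ?_
  show mapRingHom G φ (single 0 a) = single 0 (φ a)
  rw [mapRingHom_single]

theorem map_comp_βm {A' : Type u} [CommRing A'] (φ : A →+* A') :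
    (mapRingHom G φ).comp (βm G A) = βm G A' := by
  have h : φ.comp (Int.castRingHom A) = Int.castRingHom A' := Subsingleton.elim _ _
  unfold βm
  rw [← RingHom.comp_assoc, ← mapRingHom_comp, h]

theorem eq_single_zero_of_map {A' : Type u} [CommRing A'] (φ : A →+* A')
    (hφ : Function.Injective φ) (z : AddMonoidAlgebra A G) (c : A')
    (h : mapRingHom G φ z = single 0 c) : z = single 0 (z.coeff 0) := by
  classical
  rw [← coeff_inj, coeff_single]
  ext m
  rw [Finsupp.single_apply]
  split_ifs with hm
  · subst hm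
    rfl
  · apply hφ
    rw [map_zero, ← coeff_mapRingHom, h, coeff_single, Finsupp.single_apply, if_neg hm]

/-- comparing two monomials with nonzero coefficient -/
theorem single_eq_single_left {R : Type*} [Semiring R] {e₁ e₂ : G} {c₁ c₂ : R} (hc : c₁ ≠ 0)
    (h : (single e₁ c₁ : AddMonoidAlgebra R G) = single e₂ c₂) : e₁ = e₂ := by
  classical
  have h2 := congrArg (fun z => z.coeff e₁) h
  simp only [coeff_single, Finsupp.single_apply, if_true] at h2
  by_contra hne
  rw [if_neg (fun h' => hne h'.symm)] at h2
  exact hc h2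

end Alg

end Groth.Agent.Lib.UnitsTorusH7
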