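import Mathlib
import Groth.Agent.Lib.UnitsTorusAlg_helper7
import Groth.Agent.Lib.WeilSch_helper7

/-!
# UnitsTorusGeom1 (helper7): `Spec A × Spec ℤ[G] ≅ Spec A[G]`, with the induced identification
`γ : Γ(Spec A × T, ⊤) → A[G]` and its compatibility with the projections and with `A → A'`.
-/

set_option autoImplicit false
universe u

open AlgebraicGeometry CategoryTheory Limits AddMonoidAlgebra

namespace Groth.Agent.Lib.UnitsTorusH7

section RingOf

variable {Y Z : Scheme.{u}} {R S : CommRingCat.{u}}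

/-- the ring map corresponding to a morphism into an affine scheme -/
noncomputable def ringOf (f : Y ⟶ Spec R) : R ⟶ Γ(Y, ⊤) := (Scheme.ΓSpecIso R).inv ≫ f.appTop

theorem ringOf_injective : Function.Injective (ringOf (Y := Y) (R := R)) := by
  intro f g h
  apply ext_of_isAffine
  have h2 := congrArg (fun k => (Scheme.ΓSpecIso R).hom ≫ k) h
  simpa only [ringOf, Iso.hom_inv_id_assoc] using h2

theorem exists_ringOf (φ : R ⟶ Γ(Y, ⊤)) : ∃ f : Y ⟶ Spec R, ringOf f = φ := by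
  obtain ⟨g, hg⟩ := WeilSchH7.exists_hom_appTop (Y := Y) (T := Spec R)
    ((Scheme.ΓSpecIso R).hom ≫ φ)
  exact ⟨g, by rw [ringOf, hg, Iso.inv_hom_id_assoc]⟩

theorem ringOf_comp_map (f : Y ⟶ Spec S) (φ : R ⟶ S) :
    ringOf (f ≫ Spec.map φ) = φ ≫ ringOf f := by
  unfold ringOf
  rw [Scheme.Hom.comp_appTop, ← Category.assoc, ← Scheme.ΓSpecIso_inv_naturality, Category.assoc]

end RingOf

section Torus

variable (G : Type) [AddCommGroup G] (A : CommRingCat.{u})

/-- the split torus with character group `G` -/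
noncomputable abbrev TT : Scheme.{u} := Spec (CommRingCat.of (Bz.{u} G))

/-- `A[G]` as an object of `CommRingCat` -/
noncomputable abbrev AG : CommRingCat.{u} := CommRingCat.of (AddMonoidAlgebra A G)

noncomputable def αC : A ⟶ AG G A := CommRingCat.ofHom (αm G A)

noncomputable def βC : CommRingCat.of (Bz.{u} G) ⟶ AG G A := CommRingCat.ofHom (βm G A)

theorem exists_lift {Y : Scheme.{u}} (f : Y ⟶ Spec A) (g : Y ⟶ TT.{u} G) :
    ∃ h : Y ⟶ Spec (AG G A), h ≫ Spec.map (αC G A) = f ∧ h ≫ Spec.map (βC G A) = g := by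
  obtain ⟨δ, h1, h2⟩ := exists_desc G A (ringOf f).hom (ringOf g).hom
  obtain ⟨h, hh⟩ := exists_ringOf (Y := Y) (R := AG G A) (CommRingCat.ofHom δ)
  refine ⟨h, ?_, ?_⟩
  · apply ringOf_injective
    rw [ringOf_comp_map, hh]
    exact CommRingCat.hom_ext h1
  · apply ringOf_injective
    rw [ringOf_comp_map, hh]
    exact CommRingCat.hom_ext h2

theorem lift_unique {Y : Scheme.{u}} (h₁ h₂ : Y ⟶ Spec (AG G A))
    (e1 : h₁ ≫ Spec.map (αC G A) = h₂ ≫ Spec.map (αC G A))
    (e2 : h₁ ≫ Spec.map (βC G A) = h₂ ≫ Spec.map (βC G A)) : h₁ = h₂ := by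
  apply ringOf_injective
  apply CommRingCat.hom_ext
  refine desc_ext G A (ringOf h₁).hom (ringOf h₂).hom ?_ ?_
  · have := congrArg ringOf e1
    rw [ringOf_comp_map, ringOf_comp_map] at this
    exact congrArg CommRingCat.Hom.hom this
  · have := congrArg ringOf e2
    rw [ringOf_comp_map, ringOf_comp_map] at this
    exact congrArg CommRingCat.Hom.hom this

/-- the comparison `Spec A[G] ⟶ Spec A × T` -/
noncomputable def ιA : Spec (AG G A) ⟶ Spec A ⨯ TT.{u} G :=
  prod.lift (Spec.map (αC G A)) (Spec.map (βC G A))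

theorem ιA_fst : ιA G A ≫ (prod.fst : Spec A ⨯ TT.{u} G ⟶ Spec A) = Spec.map (αC G A) :=
  prod.lift_fst _ _

theorem ιA_snd : ιA G A ≫ (prod.snd : Spec A ⨯ TT.{u} G ⟶ TT.{u} G) = Spec.map (βC G A) :=
  prod.lift_snd _ _

instance ιA_isIso : IsIso (ιA G A) := by
  obtain ⟨h, h1, h2⟩ := exists_lift G A (prod.fst : Spec A ⨯ TT.{u} G ⟶ Spec A) prod.snd
  refine ⟨h, ?_, ?_⟩
  · apply lift_unique G A
    · rw [Category.assoc, h1, Category.id_comp]
      exact ιA_fst G A
    · rw [Category.assoc, h2, Category.id_comp]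
      exact ιA_snd G A
  · apply Limits.prod.hom_ext
    · rw [Category.assoc, Category.id_comp, ιA_fst, h1]
    · rw [Category.assoc, Category.id_comp, ιA_snd, h2]

/-- the identification `Γ(Spec A × T, ⊤) → A[G]` -/
noncomputable def γ : Γ(Spec A ⨯ TT.{u} G, ⊤) →+* AddMonoidAlgebra A G :=
  (Scheme.ΓSpecIso (AG G A)).hom.hom.comp (ιA G A).appTop.hom

theorem γ_injective : Function.Injective (γ G A) := by
  have h1 : IsIso (ιA G A).appTop := inferInstanceAs (IsIso ((ιA G A).app ⊤))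
  have h2 : IsIso ((ιA G A).appTop ≫ (Scheme.ΓSpecIso (AG G A)).hom) := inferInstance
  exact (ConcreteCategory.bijective_of_isIso
    ((ιA G A).appTop ≫ (Scheme.ΓSpecIso (AG G A)).hom)).1

theorem γ_fst (x : Γ(Spec A, ⊤)) :
    γ G A ((prod.fst : Spec A ⨯ TT.{u} G ⟶ Spec A).appTop.hom x) =
      single 0 ((Scheme.ΓSpecIso A).hom.hom x) := by
  have h3 : (prod.fst : Spec A ⨯ TT.{u} G ⟶ Spec A).appTop ≫ (ιA G A).appTop ≫
      (Scheme.ΓSpecIso (AG G A)).hom = (Scheme.ΓSpecIso A).hom ≫ αC G A := by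
    rw [← Category.assoc, ← Scheme.Hom.comp_appTop, ιA_fst, Scheme.ΓSpecIso_naturality]
  exact congrArg (fun k => k.hom x) h3

theorem γ_snd (y : Γ(TT.{u} G, ⊤)) :
    γ G A ((prod.snd : Spec A ⨯ TT.{u} G ⟶ TT.{u} G).appTop.hom y) =
      βm G A ((Scheme.ΓSpecIso (CommRingCat.of (Bz.{u} G))).hom.hom y) := by
  have h3 : (prod.snd : Spec A ⨯ TT.{u} G ⟶ TT.{u} G).appTop ≫ (ιA G A).appTop ≫
      (Scheme.ΓSpecIso (AG G A)).hom =
      (Scheme.ΓSpecIso (CommRingCat.of (Bz.{u} G))).hom ≫ βC G A := by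
    rw [← Category.assoc, ← Scheme.Hom.comp_appTop, ιA_snd, Scheme.ΓSpecIso_naturality]
  exact congrArg (fun k => k.hom y) h3

variable {A}

/-- `A[G] → A'[G]` in `CommRingCat` -/
noncomputable def mapC {A' : CommRingCat.{u}} (φ : A ⟶ A') : AG G A ⟶ AG G A' :=
  CommRingCat.ofHom (mapRingHom G φ.hom)

theorem ιA_map {A' : CommRingCat.{u}} (φ : A ⟶ A') :
    ιA G A' ≫ prod.map (Spec.map φ) (𝟙 (TT.{u} G)) = Spec.map (mapC G φ) ≫ ιA G A := by
  apply Limits.prod.hom_ext
  · rw [Category.assoc, prod.map_fst, ← Category.assoc, ιA_fst, Category.assoc, ιA_fst,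
      ← Spec.map_comp, ← Spec.map_comp]
    congr 1
    exact CommRingCat.hom_ext (map_comp_αm G φ.hom).symm
  · rw [Category.assoc, prod.map_snd, Category.comp_id, ιA_snd, Category.assoc, ιA_snd,
      ← Spec.map_comp]
    congr 1
    exact CommRingCat.hom_ext (map_comp_βm G φ.hom).symm

theorem γ_map {A' : CommRingCat.{u}} (φ : A ⟶ A') (z : Γ(Spec A ⨯ TT.{u} G, ⊤)) :
    γ G A' ((prod.map (Spec.map φ) (𝟙 (TT.{u} G))).appTop.hom z) =
      mapRingHom G φ.hom (γ G A z) := by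
  have h3 : (prod.map (Spec.map φ) (𝟙 (TT.{u} G))).appTop ≫ (ιA G A').appTop ≫
      (Scheme.ΓSpecIso (AG G A')).hom =
      ((ιA G A).appTop ≫ (Scheme.ΓSpecIso (AG G A)).hom) ≫ mapC G φ := by
    rw [← Category.assoc, ← Scheme.Hom.comp_appTop, ιA_map, Scheme.Hom.comp_appTop,
      Category.assoc, Scheme.ΓSpecIso_naturality, Category.assoc]
  exact congrArg (fun k => k.hom z) h3

end Torus

end Groth.Agent.Lib.UnitsTorusH7
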