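import Mathlib
import Groth.Agent.Lib.UnitsTorusGeom1_helper7

/-!
# UnitsTorusMain (helper7): units of `X × 𝔾_mⁿ` for an integral scheme `X`.
-/

set_option autoImplicit false
universe u

open AlgebraicGeometry CategoryTheory Limits AddMonoidAlgebra

namespace Groth.Agent.Lib.UnitsTorusH7

section Main

variable (G : Type) [AddCommGroup G]

theorem app_comp {X Y Z : Scheme.{u}} (f : X ⟶ Y) (g : Y ⟶ Z) (x : Γ(Z, ⊤)) :
    f.appTop.hom (g.appTop.hom x) = (f ≫ g).appTop.hom x := rfl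

/-- the character `t^e` as a global function on the torus -/
noncomputable def tchar (e : G) : Γ(TT.{u} G, ⊤) :=
  (Scheme.ΓSpecIso (CommRingCat.of (Bz.{u} G))).inv.hom (ULift.up (single e 1))

theorem hom_tchar (e : G) :
    (Scheme.ΓSpecIso (CommRingCat.of (Bz.{u} G))).hom.hom (tchar G e) =
      ULift.up (single e 1) :=
  congrArg (fun k => k.hom (ULift.up (single e 1)))
    (Scheme.ΓSpecIso (CommRingCat.of (Bz.{u} G))).inv_hom_id

theorem tchar_mul (e e' : G) : tchar.{u} G e * tchar G e' = tchar G (e + e') := by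
  unfold tchar
  rw [← map_mul]
  congr 1
  apply ULift.ext
  show (single e (1 : ℤ) * single e' 1 : AddMonoidAlgebra ℤ G) = single (e + e') 1
  rw [single_mul_single, mul_one]

theorem tchar_zero : tchar.{u} G 0 = 1 := by
  unfold tchar
  have h1 : (ULift.up (single (0 : G) (1 : ℤ)) : Bz.{u} G) = 1 := rfl
  rw [h1, map_one]

/-- the character `t^e` pulled back to `Y × T` -/
noncomputable def tt (Y : Scheme.{u}) (e : G) : Γ(Y ⨯ TT.{u} G, ⊤) :=
  (prod.snd : Y ⨯ TT.{u} G ⟶ TT.{u} G).appTop.hom (tchar G e)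

theorem tt_mul (Y : Scheme.{u}) (e e' : G) : tt G Y e * tt G Y e' = tt G Y (e + e') := by
  unfold tt
  rw [← map_mul, tchar_mul]

theorem tt_zero (Y : Scheme.{u}) : tt G Y 0 = 1 := by
  unfold tt
  rw [tchar_zero, map_one]

theorem tt_mul_neg (Y : Scheme.{u}) (e : G) : tt G Y e * tt G Y (-e) = 1 := by
  rw [tt_mul, add_neg_cancel, tt_zero]

theorem tt_neg_mul (Y : Scheme.{u}) (e : G) : tt G Y (-e) * tt G Y e = 1 := by
  rw [tt_mul, neg_add_cancel, tt_zero]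

theorem map_tt {Y' Y : Scheme.{u}} (y : Y' ⟶ Y) (e : G) :
    (prod.map y (𝟙 (TT.{u} G))).appTop.hom (tt G Y e) = tt G Y' e := by
  show (prod.map y (𝟙 (TT.{u} G)) ≫ prod.snd).appTop.hom (tchar G e) =
    (prod.snd : Y' ⨯ TT.{u} G ⟶ TT.{u} G).appTop.hom (tchar G e)
  rw [prod.map_snd, Category.comp_id]

theorem map_fst {Y' Y : Scheme.{u}} (y : Y' ⟶ Y) (a : Γ(Y, ⊤)) :
    (prod.map y (𝟙 (TT.{u} G))).appTop.hom ((prod.fst : Y ⨯ TT.{u} G ⟶ Y).appTop.hom a) =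
      (prod.fst : Y' ⨯ TT.{u} G ⟶ Y').appTop.hom (y.appTop.hom a) := by
  show (prod.map y (𝟙 (TT.{u} G)) ≫ prod.fst).appTop.hom a =
    ((prod.fst : Y' ⨯ TT.{u} G ⟶ Y') ≫ y).appTop.hom a
  rw [prod.map_fst]

theorem γ_tt (A : CommRingCat.{u}) (e : G) : γ G A (tt G (Spec A) e) = single e 1 := by
  unfold tt
  rw [γ_snd, hom_tchar, βm_up_single, Int.cast_one]

theorem exists_section (X : Scheme.{u}) :
    ∃ s : X ⟶ X ⨯ TT.{u} G, s ≫ (prod.fst : X ⨯ TT.{u} G ⟶ X) = 𝟙 X := by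
  let ρ : Bz.{u} G →+* Γ(X, ⊤) :=
    (liftNCRingHom (Int.castRingHom Γ(X, ⊤)) (1 : Multiplicative G →* Γ(X, ⊤))
      (fun _ _ => Commute.all _ _)).comp
      (ULift.ringEquiv : Bz.{u} G ≃+* AddMonoidAlgebra ℤ G).toRingHom
  obtain ⟨uu, -⟩ := exists_ringOf (Y := X) (R := CommRingCat.of (Bz.{u} G))
    (CommRingCat.ofHom ρ)
  exact ⟨prod.lift (𝟙 X) uu, prod.lift_fst _ _⟩

variable (X : Scheme.{u}) [IsIntegral X]

/-- the function field -/
noncomputable abbrev KK : CommRingCat.{u} := X.presheaf.stalk (genericPoint X)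

/-- the generic point as a morphism -/
noncomputable abbrev ηK : Spec (KK X) ⟶ X := X.fromSpecStalk (genericPoint X)

noncomputable def ηP : Spec (KK X) ⨯ TT.{u} G ⟶ X ⨯ TT.{u} G :=
  prod.map (ηK X) (𝟙 (TT.{u} G))

/-- restriction to the generic fibre, as a Laurent polynomial over the function field -/
noncomputable def ev : Γ(X ⨯ TT.{u} G, ⊤) →+* AddMonoidAlgebra (KK X) G :=
  (γ G (KK X)).comp (ηP G X).appTop.hom

noncomputable def cK : Γ(X, ⊤) →+* KK X :=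
  (Scheme.ΓSpecIso (KK X)).hom.hom.comp (ηK X).appTop.hom

theorem ev_fst (a : Γ(X, ⊤)) :
    ev G X ((prod.fst : X ⨯ TT.{u} G ⟶ X).appTop.hom a) = single 0 (cK X a) := by
  show γ G (KK X) ((prod.map (ηK X) (𝟙 (TT.{u} G))).appTop.hom
    ((prod.fst : X ⨯ TT.{u} G ⟶ X).appTop.hom a)) = _
  rw [map_fst, γ_fst]
  rfl

theorem ev_tt (e : G) : ev G X (tt G X e) = single e 1 := by
  show γ G (KK X) ((prod.map (ηK X) (𝟙 (TT.{u} G))).appTop.hom (tt G X e)) = _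
  rw [map_tt, γ_tt]

theorem uniq (a₁ a₂ : Γ(X, ⊤)) (h₁ : IsUnit a₁) (e₁ e₂ : G)
    (h : (prod.fst : X ⨯ TT.{u} G ⟶ X).appTop.hom a₁ * tt G X e₁ =
      (prod.fst : X ⨯ TT.{u} G ⟶ X).appTop.hom a₂ * tt G X e₂) : a₁ = a₂ ∧ e₁ = e₂ := by
  have he : e₁ = e₂ := by
    have h2 := congrArg (ev G X) h
    rw [map_mul, map_mul, ev_fst, ev_fst, ev_tt, ev_tt, single_mul_single, single_mul_single,
      zero_add, zero_add, mul_one, mul_one] at h2
    exact single_eq_single_left G (h₁.map (cK X)).ne_zero h2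
  subst he
  refine ⟨?_, rfl⟩
  obtain ⟨s, hs⟩ := exists_section G X
  have h3 : (prod.fst : X ⨯ TT.{u} G ⟶ X).appTop.hom a₁ =
      (prod.fst : X ⨯ TT.{u} G ⟶ X).appTop.hom a₂ := by
    have h4 := congrArg (· * tt G X (-e₁)) h
    simp only [mul_assoc, tt_mul_neg, mul_one] at h4
    exact h4
  have h5 := congrArg s.appTop.hom h3
  rw [app_comp, app_comp, hs] at h5
  exact h5

theorem local_const {U : X.Opens} (hU : IsAffineOpen U) (hη : genericPoint X ∈ U)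
    (w : Γ(X ⨯ TT.{u} G, ⊤)) (c : KK X) (hw : ev G X w = single 0 c) :
    ∃ x₀ : Γ(Spec Γ(X, U), ⊤),
      (prod.map hU.fromSpec (𝟙 (TT.{u} G))).appTop.hom w =
        (prod.fst : Spec Γ(X, U) ⨯ TT.{u} G ⟶ Spec Γ(X, U)).appTop.hom x₀ := by
  obtain ⟨φ, hφinj, hηK⟩ : ∃ φ : Γ(X, U) ⟶ KK X, Function.Injective φ.hom ∧
      ηK X = Spec.map φ ≫ hU.fromSpec :=
    ⟨X.presheaf.germ U (genericPoint X) hη, germ_injective_of_isIntegral X _ hη,
      (hU.fromSpecStalk_eq_fromSpecStalk hη).symm⟩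
  have hηP : ηP G X = prod.map (Spec.map φ) (𝟙 (TT.{u} G)) ≫
      prod.map hU.fromSpec (𝟙 (TT.{u} G)) := by
    unfold ηP
    rw [prod.map_map, Category.comp_id, ← hηK]
  have hmap : mapRingHom G φ.hom
      (γ G Γ(X, U) ((prod.map hU.fromSpec (𝟙 (TT.{u} G))).appTop.hom w)) = single 0 c := by
    rw [← γ_map, app_comp, ← hηP]
    exact hw
  have hz0 := eq_single_zero_of_map G φ.hom hφinj _ c hmap
  refine ⟨(Scheme.ΓSpecIso Γ(X, U)).inv.hom
    ((γ G Γ(X, U) ((prod.map hU.fromSpec (𝟙 (TT.{u} G))).appTop.hom w)).coeff 0), ?_⟩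
  apply γ_injective G Γ(X, U)
  rw [γ_fst]
  have h1 : ∀ r : Γ(X, U), (Scheme.ΓSpecIso Γ(X, U)).hom.hom
      ((Scheme.ΓSpecIso Γ(X, U)).inv.hom r) = r := fun r =>
    congrArg (fun k => k.hom r) (Scheme.ΓSpecIso Γ(X, U)).inv_hom_id
  rw [h1]
  exact hz0

theorem local_eq {U : X.Opens} (hU : IsAffineOpen U) (hη : genericPoint X ∈ U)
    (w : Γ(X ⨯ TT.{u} G, ⊤)) (c : KK X) (hw : ev G X w = single 0 c)
    (s : X ⟶ X ⨯ TT.{u} G) (hs : s ≫ (prod.fst : X ⨯ TT.{u} G ⟶ X) = 𝟙 X) :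
    (prod.map hU.fromSpec (𝟙 (TT.{u} G))).appTop.hom w =
      (prod.map hU.fromSpec (𝟙 (TT.{u} G))).appTop.hom
        ((prod.fst : X ⨯ TT.{u} G ⟶ X).appTop.hom (s.appTop.hom w)) := by
  obtain ⟨x₀, hx₀⟩ := local_const G X hU hη w c hw
  have hsA : prod.lift (𝟙 (Spec Γ(X, U))) (hU.fromSpec ≫ s ≫ prod.snd) ≫
      prod.map hU.fromSpec (𝟙 (TT.{u} G)) = hU.fromSpec ≫ s := by
    apply Limits.prod.hom_ext
    · simp only [Category.assoc, prod.map_fst, prod.lift_fst_assoc, hs, Category.comp_id,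
        Category.id_comp]
    · simp only [Category.assoc, prod.map_snd, Category.comp_id, prod.lift_snd]
  have h2 : hU.fromSpec.appTop.hom (s.appTop.hom w) = x₀ := by
    rw [app_comp, ← hsA, ← app_comp, hx₀, app_comp, prod.lift_fst]
    rfl
  rw [map_fst, h2, hx₀]

theorem piece_eq {U : X.Opens} (hU : IsAffineOpen U) (hη : genericPoint X ∈ U)
    (w : Γ(X ⨯ TT.{u} G, ⊤)) (c : KK X) (hw : ev G X w = single 0 c)
    (s : X ⟶ X ⨯ TT.{u} G) (hs : s ≫ (prod.fst : X ⨯ TT.{u} G ⟶ X) = 𝟙 X) :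
    (pullback.fst (prod.fst : X ⨯ TT.{u} G ⟶ X) U.ι).appTop.hom w =
      (pullback.fst (prod.fst : X ⨯ TT.{u} G ⟶ X) U.ι).appTop.hom
        ((prod.fst : X ⨯ TT.{u} G ⟶ X).appTop.hom (s.appTop.hom w)) := by
  obtain ⟨κ, hκ⟩ : ∃ κ : pullback (prod.fst : X ⨯ TT.{u} G ⟶ X) U.ι ⟶
      Spec Γ(X, U) ⨯ TT.{u} G,
      κ ≫ prod.map hU.fromSpec (𝟙 (TT.{u} G)) = pullback.fst _ _ := by
    refine ⟨prod.lift (pullback.snd _ _ ≫ U.toSpecΓ) (pullback.fst _ _ ≫ prod.snd), ?_⟩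
    apply Limits.prod.hom_ext
    · simp only [Category.assoc, prod.map_fst, prod.lift_fst_assoc, hU.toSpecΓ_fromSpec]
      exact pullback.condition.symm
    · simp only [Category.assoc, prod.map_snd, Category.comp_id, prod.lift_snd]
  rw [← hκ]
  exact congrArg κ.appTop.hom (local_eq G X hU hη w c hw s hs)

theorem exists_rep [TwoUniqueSums G] (v : Γ(X ⨯ TT.{u} G, ⊤)) (hv : IsUnit v) :
    ∃ (a : Γ(X, ⊤)) (e : G), IsUnit a ∧
      v = (prod.fst : X ⨯ TT.{u} G ⟶ X).appTop.hom a * tt G X e := by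
  obtain ⟨v', hvv'⟩ := hv.exists_right_inv
  obtain ⟨e, c, hec⟩ := LaurentH6.exists_single_of_mul_eq_one (x := ev G X v) (y := ev G X v')
    (by rw [← map_mul, hvv', map_one])
  obtain ⟨s, hs⟩ := exists_section G X
  obtain ⟨w, hw⟩ : ∃ w, w = v * tt G X (-e) := ⟨_, rfl⟩
  have hevw : ev G X w = single 0 c := by
    rw [hw, map_mul, hec, ev_tt, single_mul_single, add_neg_cancel, mul_one]
  have hwunit : IsUnit w := by
    rw [hw]
    exact hv.mul (IsUnit.of_mul_eq_one _ (tt_neg_mul G X e))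
  have hmain : w = (prod.fst : X ⨯ TT.{u} G ⟶ X).appTop.hom (s.appTop.hom w) := by
    have hcov : TopologicalSpace.IsOpenCover
        (fun U : {U : X.affineOpens // genericPoint X ∈ U.1} => (U.1.1 : X.Opens)) := by
      refine TopologicalSpace.IsOpenCover.mk (eq_top_iff.mpr fun x _ => ?_)
      obtain ⟨U, hxU⟩ : ∃ U : X.affineOpens, x ∈ U.1 := by
        have hx : x ∈ (⨆ i : X.affineOpens, (i : X.Opens)) := by
          rw [iSup_affineOpens_eq_top X]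
          trivial
        exact TopologicalSpace.Opens.mem_iSup.mp hx
      exact TopologicalSpace.Opens.mem_iSup.mpr
        ⟨⟨U, (genericPoint_specializes x).mem_open U.1.isOpen hxU⟩, hxU⟩
    refine Scheme.OpenCover.ext_elem (U := ⊤) w _
      ((X.openCoverOfIsOpenCover _ hcov).pullback₁ (prod.fst : X ⨯ TT.{u} G ⟶ X))
      (fun (i : {U : X.affineOpens // genericPoint X ∈ U.1}) => ?_)
    exact piece_eq G X i.1.2 i.2 w c hevw s hs
  refine ⟨s.appTop.hom w, e, hwunit.map s.appTop.hom, ?_⟩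
  rw [← hmain, hw, mul_assoc, tt_neg_mul, mul_one]

theorem main [TwoUniqueSums G] (v : Γ(X ⨯ TT.{u} G, ⊤)) (hv : IsUnit v) :
    ∃! p : (Γ(X, ⊤))ˣ × G,
      v = (prod.fst : X ⨯ TT.{u} G ⟶ X).appTop.hom (p.1 : Γ(X, ⊤)) * tt G X p.2 := by
  obtain ⟨a, e, ha, hae⟩ := exists_rep G X v hv
  refine ⟨(ha.unit, e), hae, ?_⟩
  rintro ⟨a', e'⟩ h'
  have := uniq G X (a' : Γ(X, ⊤)) a a'.isUnit e' e (h'.symm.trans hae)
  exact Prod.ext (Units.ext this.1) this.2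

end Main

end Groth.Agent.Lib.UnitsTorusH7
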