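import Mathlib
import Groth.Prelude.Def_W4stkdualitygroupp2Univ
import Groth.Agent.Lib.JacEtale_lead

/-!
# The universal algebra is étale and quasi-finite over the coefficient ring at some point

At the point `f_i = x_i`, `x = 0`, the Jacobian determinant is `1`.
-/

set_option autoImplicit false
set_option backward.isDefEq.respectTransparency false

namespace Groth.Agent.Lib.UnivAlgEtaleH3

open MvPolynomial Synt Algebra

variable (n d : ℕ)

/-- the quotient, definitionally `UnivAlg n d` -/
abbrev Qt : Type := MvPolynomial (Fin n) (UnivBase n d) ⧸ Ideal.span (Set.range (univPoly n d))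

/-- the naive presentation -/
noncomputable def P0 : PreSubmersivePresentation (UnivBase n d) (Qt n d) (Fin n) (Fin n) :=
  PreSubmersivePresentation.naive (v := univPoly n d) id Function.injective_id

/-- the Jacobian determinant -/
noncomputable def Δ : Qt n d := (P0 n d).jacobian

theorem etale_away : Algebra.Etale (UnivBase n d) (Localization.Away (Δ n d)) :=
  Groth.Agent.Lib.JacEtale.etale_away_jacobian (univPoly n d) id Function.injective_id rfl

variable {d} in
/-- the exponent `e_i` -/
def ei (hd : 1 ≤ d) (i : Fin n) : UnivIdx n d :=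
  ⟨fun k => if k = i then ⟨1, by omega⟩ else ⟨0, by omega⟩, by
    have : ∀ k : Fin n, (((if k = i then (⟨1, by omega⟩ : Fin (d + 1)) else ⟨0, by omega⟩) :
        Fin (d + 1)) : ℕ) = if k = i then 1 else 0 := by
      intro k
      split_ifs <;> rfl
    simp only [this, Finset.sum_ite_eq', Finset.mem_univ, if_true]
    exact hd⟩

variable {d} in
lemma ei_exponent (hd : 1 ≤ d) (i : Fin n) : (ei n hd i).exponent = Finsupp.single i 1 := by
  ext k
  simp only [UnivIdx.exponent, ei, Finsupp.equivFunOnFinite_symm_apply_apply,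
    Finsupp.single_apply]
  by_cases h : k = i
  · rw [if_pos h, if_pos h.symm]
  · rw [if_neg h, if_neg (Ne.symm h)]

variable {d} in
/-- the specialization `A → ℤ` -/
noncomputable def epsA (hd : 1 ≤ d) : UnivBase n d →+* ℤ :=
  eval₂Hom (RingHom.id ℤ) (fun s => if s.2 = ei n hd s.1 then 1 else 0)

variable {d} in
lemma epsA_X (hd : 1 ≤ d) (s : Fin n × UnivIdx n d) :
    epsA n hd (X s) = if s.2 = ei n hd s.1 then 1 else 0 := by
  rw [epsA, eval₂Hom_X']

variable {d} in
/-- the specialization `A[x] → ℤ` -/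
noncomputable def eps' (hd : 1 ≤ d) : MvPolynomial (Fin n) (UnivBase n d) →+* ℤ :=
  (epsA n hd).comp constantCoeff

variable {d} in
lemma eps'_monomial (hd : 1 ≤ d) (e : Fin n →₀ ℕ) (a : UnivBase n d) :
    eps' n hd (monomial e a) = if e = 0 then epsA n hd a else 0 := by
  rw [eps', RingHom.comp_apply, constantCoeff_monomial]
  split_ifs
  · rfl
  · exact map_zero _

variable {d} in
lemma eps'_univPoly (hd : 1 ≤ d) (i : Fin n) : eps' n hd (univPoly n d i) = 0 := by
  rw [univPoly, map_sum]
  refine Finset.sum_eq_zero (fun E _ => ?_)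
  rw [eps'_monomial, epsA_X]
  by_cases h : E = ei n hd i
  · have : E.exponent ≠ 0 := by
      rw [h, ei_exponent]
      intro h0
      have := congrArg (fun f => f i) h0
      simp at this
    rw [if_neg this]
  · rw [if_neg h]
    split_ifs <;> rfl

variable {d} in
lemma eps'_mem (hd : 1 ≤ d) : ∀ f ∈ Ideal.span (Set.range (univPoly n d)), eps' n hd f = 0 := by
  intro f hf
  have hle : Ideal.span (Set.range (univPoly n d)) ≤ RingHom.ker (eps' n hd) := by
    refine Ideal.span_le.mpr ?_
    rintro _ ⟨i, rfl⟩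
    exact eps'_univPoly n hd i
  exact hle hf

variable {d} in
/-- the specialization `B → ℤ` -/
noncomputable def eps (hd : 1 ≤ d) : Qt n d →+* ℤ :=
  Ideal.Quotient.lift _ (eps' n hd) (eps'_mem n hd)

variable {d} in
lemma eps'_pderiv (hd : 1 ≤ d) (i j : Fin n) :
    eps' n hd (pderiv i (univPoly n d j)) = if i = j then 1 else 0 := by
  classical
  rw [univPoly, map_sum, map_sum]
  rw [Finset.sum_eq_single (ei n hd j)]
  · rw [pderiv_monomial, eps'_monomial, ei_exponent, map_mul, epsA_X, if_pos rfl, one_mul,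
      map_natCast]
    by_cases h : i = j
    · subst h
      rw [if_pos rfl, tsub_self, if_pos rfl, Finsupp.single_eq_same]
      rfl
    · rw [if_neg h, Finsupp.single_eq_of_ne h]
      split_ifs <;> rfl
  · intro E _ hE
    rw [pderiv_monomial, eps'_monomial, map_mul, epsA_X, if_neg hE, zero_mul]
    split_ifs <;> rfl
  · intro h
    exact absurd (Finset.mem_univ _) h

variable {d} in
lemma eps_Δ (hd : 1 ≤ d) : eps n hd (Δ n d) = 1 := by
  classical
  rw [Δ, PreSubmersivePresentation.jacobian_eq_jacobiMatrix_det]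
  have h1 : ∀ x : MvPolynomial (Fin n) (UnivBase n d),
      eps n hd (algebraMap (P0 n d).Ring (Qt n d) x) = eps' n hd x := fun x => rfl
  rw [h1, RingHom.map_det]
  have h2 : (eps' n hd).mapMatrix (P0 n d).jacobiMatrix = 1 := by
    ext i j
    rw [RingHom.mapMatrix_apply, Matrix.map_apply, P0,
      PreSubmersivePresentation.jacobiMatrix_naive, id_eq, eps'_pderiv, Matrix.one_apply]
  rw [h2, Matrix.det_one]

variable {d} in
theorem main (hd : 1 ≤ d) : ∃ q : PrimeSpectrum (UnivAlg n d),
    Algebra.QuasiFiniteAt (UnivBase n d) q.asIdeal ∧ Algebra.IsEtaleAt (UnivBase n d) q.asIdeal := by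
  let Δ' : UnivAlg n d := Δ n d
  let ε : UnivAlg n d →+* ℤ := eps n hd
  have hε : ε Δ' = 1 := eps_Δ n hd
  haveI het0 : Algebra.Etale (UnivBase n d) (Localization.Away Δ') := etale_away n d
  let q : PrimeSpectrum (UnivAlg n d) := ⟨RingHom.ker ε, RingHom.ker_isPrime _⟩
  haveI : q.asIdeal.IsPrime := q.2
  have hq : q ∈ PrimeSpectrum.basicOpen Δ' := by
    show Δ' ∉ RingHom.ker ε
    rw [RingHom.mem_ker, hε]
    exact one_ne_zero
  have hsub : ↑(PrimeSpectrum.basicOpen Δ') ⊆
      Algebra.etaleLocus (UnivBase n d) (UnivAlg n d) :=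
    (Algebra.basicOpen_subset_etaleLocus_iff (R := UnivBase n d) (A := UnivAlg n d)).mpr
      inferInstance
  have het : Algebra.IsEtaleAt (A := UnivAlg n d) (UnivBase n d) q.asIdeal := hsub hq
  refine ⟨q, ?_, het⟩
  haveI := het
  haveI : Algebra.FiniteType (UnivBase n d) (UnivAlg n d) :=
    Algebra.FiniteType.of_surjective (UnivAlg.mk n d) Ideal.Quotient.mk_surjective
  show Algebra.QuasiFinite (UnivBase n d) (Localization.AtPrime q.asIdeal)
  infer_instance

end Groth.Agent.Lib.UnivAlgEtaleH3
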