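import Mathlib
import Groth.Prelude.Def_W4stkdualitygroupp2Univ

/-!
# The universal algebra `ℤ[a_{i,E}][x] / (f_i)` is a polynomial ring over `ℤ`

Eliminating the constant coefficients `a_{i,0}` identifies it with
`ℤ[a_{i,E} : E ≠ 0][x_1, …, x_n]`.
-/

set_option autoImplicit false

namespace Groth.Agent.Lib.UnivAlgPolyH3

open MvPolynomial Synt

variable (n d : ℕ)

/-- the variables `a_{i,E}` -/
abbrev Sig : Type := Fin n × UnivIdx n d

/-- the zero exponent -/
def E0 : UnivIdx n d := ⟨fun _ => 0, by simp⟩

lemma E0_exponent : (E0 n d).exponent = 0 := by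
  ext i
  simp [UnivIdx.exponent, E0]

/-- the remaining variables -/
abbrev Sig' : Type := {s : Sig n d // s.2 ≠ E0 n d}

instance : Finite (Sig' n d) := Subtype.finite

/-- the target polynomial ring -/
abbrev A' : Type := MvPolynomial (Sig' n d) ℤ
/-- the target polynomial ring -/
abbrev C' : Type := MvPolynomial (Fin n) (A' n d)

/-- the part of `f_i` without constant coefficient -/
noncomputable def g (i : Fin n) : C' n d :=
  ∑ E : UnivIdx n d, if h : E = E0 n d then 0 else
    monomial E.exponent (X (⟨(i, E), h⟩ : Sig' n d))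

/-- images of the `a_{i,E}` -/
noncomputable def aimg (s : Sig n d) : C' n d :=
  if h : s.2 = E0 n d then - g n d s.1 else C (X ⟨s, h⟩)

/-- `A → C'` -/
noncomputable def phiA : UnivBase n d →+* C' n d :=
  eval₂Hom (Int.castRingHom _) (aimg n d)

/-- `A[x] → C'` -/
noncomputable def Phi : MvPolynomial (Fin n) (UnivBase n d) →+* C' n d :=
  eval₂Hom (phiA n d) X

lemma Phi_monomial (e : Fin n →₀ ℕ) (a : UnivBase n d) :
    Phi n d (monomial e a) = phiA n d a * monomial e 1 := by
  rw [Phi, eval₂Hom_monomial]
  congr 1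
  rw [monomial_eq, C_1, one_mul]

lemma phiA_X (s : Sig n d) : phiA n d (X s) = aimg n d s := by
  rw [phiA, eval₂Hom_X']

lemma Phi_univPoly (i : Fin n) : Phi n d (univPoly n d i) = 0 := by
  classical
  rw [univPoly, map_sum]
  have h1 : ∀ E : UnivIdx n d, Phi n d (monomial E.exponent (X (i, E))) =
      (if E = E0 n d then - g n d i else 0) +
      (if h : E = E0 n d then 0 else monomial E.exponent (X (⟨(i, E), h⟩ : Sig' n d))) := by
    intro E
    rw [Phi_monomial, phiA_X, aimg]
    by_cases h : E = E0 n d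
    · rw [dif_pos h, if_pos h, dif_pos h, add_zero, h, E0_exponent]
      show - g n d i * monomial 0 1 = - g n d i
      rw [show (monomial (0 : Fin n →₀ ℕ) (1 : A' n d)) = 1 from rfl, mul_one]
    · rw [dif_neg h, if_neg h, dif_neg h, zero_add, C_mul_monomial, mul_one]
  rw [Finset.sum_congr rfl (fun E _ => h1 E), Finset.sum_add_distrib, Finset.sum_ite_eq']
  simp only [Finset.mem_univ, if_true]
  rw [g, neg_add_cancel]

lemma Phi_mem : ∀ f ∈ univIdeal n d, Phi n d f = 0 := by
  intro f hf
  have hle : univIdeal n d ≤ RingHom.ker (Phi n d) := by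
    refine Ideal.span_le.mpr ?_
    rintro _ ⟨i, rfl⟩
    exact Phi_univPoly n d i
  exact hle hf

/-- `B → C'` -/
noncomputable def Phibar : UnivAlg n d →+* C' n d :=
  Ideal.Quotient.lift (univIdeal n d) (Phi n d) (Phi_mem n d)

/-- the quotient map as a ring hom -/
noncomputable def mk' : MvPolynomial (Fin n) (UnivBase n d) →+* UnivAlg n d :=
  Ideal.Quotient.mk (univIdeal n d)

lemma mk'_surjective : Function.Surjective (mk' n d) := Ideal.Quotient.mk_surjective

lemma Phibar_mk' (f : MvPolynomial (Fin n) (UnivBase n d)) :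
    Phibar n d (mk' n d f) = Phi n d f := rfl

lemma mk'_univPoly (i : Fin n) : mk' n d (univPoly n d i) = 0 :=
  Ideal.Quotient.eq_zero_iff_mem.mpr (Ideal.subset_span ⟨i, rfl⟩)

/-- `A' → B` -/
noncomputable def psiA' : A' n d →+* UnivAlg n d :=
  eval₂Hom (Int.castRingHom _) (fun s => mk' n d (C (X s.1)))

/-- `C' → B` -/
noncomputable def Psi : C' n d →+* UnivAlg n d :=
  eval₂Hom (psiA' n d) (fun j => mk' n d (X j))

lemma Psi_monomial (e : Fin n →₀ ℕ) (s : Sig' n d) :
    Psi n d (monomial e (X s)) = mk' n d (monomial e (X s.1)) := by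
  rw [Psi, eval₂Hom_monomial, psiA', eval₂Hom_X']
  rw [show (monomial e (X s.1) : MvPolynomial (Fin n) (UnivBase n d)) =
    C (X s.1) * monomial e 1 by rw [C_mul_monomial, mul_one], map_mul]
  congr 1
  rw [monomial_eq, C_1, one_mul]
  simp only [Finsupp.prod, map_prod, map_pow]

lemma Psi_g (i : Fin n) : Psi n d (g n d i) = - mk' n d (C (X (i, E0 n d))) := by
  classical
  let G : MvPolynomial (Fin n) (UnivBase n d) :=
    ∑ E : UnivIdx n d, if E = E0 n d then 0 else monomial E.exponent (X (i, E))
  have h1 : Psi n d (g n d i) = mk' n d G := by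
    rw [g, map_sum, map_sum]
    refine Finset.sum_congr rfl (fun E _ => ?_)
    by_cases h : E = E0 n d
    · rw [dif_pos h, if_pos h, map_zero, map_zero]
    · rw [dif_neg h, if_neg h, Psi_monomial]
  have h2 : G = univPoly n d i - C (X (i, E0 n d)) := by
    have h3 : ∀ E : UnivIdx n d, (if E = E0 n d then 0 else monomial E.exponent (X (i, E))) =
        monomial E.exponent (X (i, E)) -
          (if E = E0 n d then (C (X (i, E0 n d)) : MvPolynomial (Fin n) (UnivBase n d)) else 0) := by
      intro E
      by_cases h : E = E0 n d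
      · rw [if_pos h, if_pos h, h, E0_exponent]
        show 0 = C (X (i, E0 n d)) - C (X (i, E0 n d))
        rw [sub_self]
      · rw [if_neg h, if_neg h, sub_zero]
    show (∑ E : UnivIdx n d, if E = E0 n d then 0 else monomial E.exponent (X (i, E))) = _
    rw [Finset.sum_congr rfl (fun E _ => h3 E), Finset.sum_sub_distrib, Finset.sum_ite_eq']
    simp only [Finset.mem_univ, if_true]
    rfl
  rw [h1, h2, map_sub, mk'_univPoly, zero_sub]

lemma Phibar_Psi : (Phibar n d).comp (Psi n d) = RingHom.id _ := by
  apply MvPolynomial.ringHom_ext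
  · intro r
    have h : ((Phibar n d).comp (Psi n d)).comp C = (RingHom.id _).comp C := by
      apply MvPolynomial.ringHom_ext
      · intro z
        simp
      · intro s
        show Phibar n d (Psi n d (C (X s))) = C (X s)
        rw [Psi, eval₂Hom_C, psiA', eval₂Hom_X', Phibar_mk', Phi, eval₂Hom_C, phiA_X, aimg,
          dif_neg s.2]
    exact RingHom.congr_fun h r
  · intro j
    show Phibar n d (Psi n d (X j)) = X j
    rw [Psi, eval₂Hom_X', Phibar_mk', Phi, eval₂Hom_X']

lemma Psi_Phi : (Psi n d).comp (Phi n d) = mk' n d := by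
  apply MvPolynomial.ringHom_ext
  · intro r
    have h : ((Psi n d).comp (Phi n d)).comp C = (mk' n d).comp C := by
      apply MvPolynomial.ringHom_ext
      · intro z
        simp
      · intro s
        show Psi n d (Phi n d (C (X s))) = mk' n d (C (X s))
        rw [Phi, eval₂Hom_C, phiA_X, aimg]
        by_cases h : s.2 = E0 n d
        · rw [dif_pos h, map_neg, Psi_g, neg_neg]
          congr 3
          exact Prod.ext rfl h.symm
        · rw [dif_neg h, Psi, eval₂Hom_C, psiA', eval₂Hom_X']
    exact RingHom.congr_fun h r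
  · intro j
    show Psi n d (Phi n d (X j)) = mk' n d (X j)
    rw [Phi, eval₂Hom_X', Psi, eval₂Hom_X']

/-- the isomorphism -/
noncomputable def equiv : UnivAlg n d ≃+* C' n d :=
  RingEquiv.ofRingHom (Phibar n d) (Psi n d) (Phibar_Psi n d) (by
    apply RingHom.ext
    intro b
    obtain ⟨f, rfl⟩ := mk'_surjective n d b
    show Psi n d (Phibar n d (mk' n d f)) = mk' n d f
    rw [Phibar_mk']
    exact RingHom.congr_fun (Psi_Phi n d) f)

theorem main : IsDomain (UnivAlg n d) ∧ ∀ q : PrimeSpectrum (UnivAlg n d),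
    IsRegularLocalRing (Localization.AtPrime q.asIdeal) := by
  haveI : IsRegularRing (C' n d) := inferInstance
  haveI : IsRegularRing (UnivAlg n d) := IsRegularRing.of_ringEquiv (equiv n d).symm
  refine ⟨(equiv n d).toMulEquiv.isDomain _, fun q => ?_⟩
  exact IsRegularRing.isRegularLocalRing_localization q.asIdeal

end Groth.Agent.Lib.UnivAlgPolyH3
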