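import Mathlib
import Groth.Prelude.Def_FibDesc
import Groth.Agent.Lib.BiMain_helper7
import Groth.Agent.Lib.CechSplit5_helper7

/-!
# Universal cohomological descent: base change, composition, cancellation, products (helper7)
APPEND-ONLY once landed.
-/

set_option autoImplicit false
set_option backward.isDefEq.respectTransparency false
set_option backward.isDefEq.respectTransparency.types false
set_option linter.style.haveILetI false
set_option linter.unusedSectionVars false
set_option linter.unusedVariables false

universe u

open CategoryTheory CategoryTheory.Limits Opposite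

namespace Groth.Agent.Lib.UnivDescH7

open FibDesc Groth.Agent.Lib.BiMainH7

section Basic

variable {X S T P : TopCat.{u}} {f : X ⟶ S} {k : T ⟶ S} {a : P ⟶ X} {b : P ⟶ T}

/-- any base change (not only the chosen one) of a universal cohomological descent map is of
cohomological descent -/
theorem isCohDescentMap_of_isPullback (hpb : IsPullback a b f k) (hf : IsUnivCohDescentMap f) :
    IsCohDescentMap b :=
  isCohDescentMap_of_arrowIso
    (Arrow.isoMk hpb.isoPullback.symm (Iso.refl T) (by
      show hpb.isoPullback.inv ≫ b = pullback.snd f k ≫ 𝟙 T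
      rw [Category.comp_id]
      exact hpb.isoPullback_inv_snd)) (hf T k)

/-- any base change of a universal cohomological descent map is universally so -/
theorem isUnivCohDescentMap_of_isPullback (hpb : IsPullback a b f k)
    (hf : IsUnivCohDescentMap f) : IsUnivCohDescentMap b := by
  intro T' j
  have h1 : IsPullback (pullback.fst b j) (pullback.snd b j) b j := IsPullback.of_hasPullback b j
  exact isCohDescentMap_of_isPullback (h1.paste_horiz hpb) hf

/-- if some base change of `c` along `k` is of cohomological descent, so is the chosen one -/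
theorem isCohDescentMap_snd_of_isPullback (hpb : IsPullback a b f k) (hb : IsCohDescentMap b) :
    IsCohDescentMap (pullback.snd f k) :=
  isCohDescentMap_of_arrowIso
    (Arrow.isoMk hpb.isoPullback (Iso.refl T) (by
      show hpb.isoPullback.hom ≫ pullback.snd f k = b ≫ 𝟙 T
      rw [Category.comp_id]
      exact hpb.isoPullback_hom_snd)) hb

end Basic

section Cancel

variable {X Y S : TopCat.{u}} (f : X ⟶ Y) (g : Y ⟶ S)

/-- **S13519**: if `f ≫ g` is universally of cohomological descent, so is `g` -/
theorem isUnivCohDescentMap_of_comp (h : IsUnivCohDescentMap (f ≫ g)) :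
    IsUnivCohDescentMap g := by
  intro S' k
  have hw : IsUnivCohDescentMap (pullback.snd (f ≫ g) k) :=
    isUnivCohDescentMap_of_isPullback (IsPullback.of_hasPullback (f ≫ g) k) h
  let f' : pullback (f ≫ g) k ⟶ pullback g k :=
    pullback.lift (pullback.fst (f ≫ g) k ≫ f) (pullback.snd (f ≫ g) k)
      (by rw [Category.assoc, pullback.condition])
  have hf' : f' ≫ pullback.snd g k = pullback.snd (f ≫ g) k := pullback.lift_snd _ _ _
  apply isCohDescentMap_of_baseChange_cech (pullback.snd g k) (pullback.snd (f ≫ g) k) hw
  intro n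
  exact Groth.Agent.Lib.CechSplitH7.isCohDescentMap_of_section
    (pullback.snd (pullback.snd g k)
      (WidePullback.base (fun _ : Fin (n + 1) => pullback.snd (f ≫ g) k)))
    (pullback.lift
      (WidePullback.π (fun _ : Fin (n + 1) => pullback.snd (f ≫ g) k) 0 ≫ f') (𝟙 _)
      (by rw [Category.assoc, hf', WidePullback.π_arrow, Category.id_comp]))
    (pullback.lift_snd _ _ _)

end Cancel

section Comp

variable {X Y S : TopCat.{u}} (f : X ⟶ Y) (g : Y ⟶ S)

/-- base change of `c` along a map factoring through `g`, when the base change of `c` to `Y` is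
universally of cohomological descent -/
theorem isCohDescentMap_snd_of_factor {T : TopCat.{u}} (c : X ⟶ S)
    (hc : IsUnivCohDescentMap (pullback.snd c g)) (t' : T ⟶ Y) (t : T ⟶ S) (ht : t' ≫ g = t) :
    IsCohDescentMap (pullback.snd c t) := by
  subst ht
  have s : IsPullback (pullback.fst c (t' ≫ g)) (pullback.snd c (t' ≫ g)) c (t' ≫ g) :=
    IsPullback.of_hasPullback c (t' ≫ g)
  have t0 : IsPullback (pullback.fst c g) (pullback.snd c g) c g := IsPullback.of_hasPullback c g
  exact isCohDescentMap_of_isPullback (IsPullback.of_right' s t0) hc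

/-- the composite of two universal cohomological descent maps is of cohomological descent -/
theorem isCohDescentMap_comp (hf : IsUnivCohDescentMap f) (hg : IsUnivCohDescentMap g) :
    IsCohDescentMap (f ≫ g) := by
  -- the base change of `f ≫ g` to `Y` receives the graph of `f`
  let γ : X ⟶ pullback (f ≫ g) g := pullback.lift (𝟙 X) f (Category.id_comp _)
  have hγ : γ ≫ pullback.snd (f ≫ g) g = f := pullback.lift_snd _ _ _
  have hcY : IsUnivCohDescentMap (pullback.snd (f ≫ g) g) := by
    apply isUnivCohDescentMap_of_comp γ (pullback.snd (f ≫ g) g)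
    rw [hγ]
    exact hf
  apply isCohDescentMap_of_baseChange_cech (f ≫ g) g hg
  intro n
  exact isCohDescentMap_snd_of_factor g (f ≫ g) hcY
    (WidePullback.π (fun _ : Fin (n + 1) => g) 0) _ (WidePullback.π_arrow _ 0)

/-- **S13520**: the composite of two universal cohomological descent maps is universally of
cohomological descent -/
theorem isUnivCohDescentMap_comp (hf : IsUnivCohDescentMap f) (hg : IsUnivCohDescentMap g) :
    IsUnivCohDescentMap (f ≫ g) := by
  intro S' k
  have hb : IsPullback (pullback.fst g k) (pullback.snd g k) g k := IsPullback.of_hasPullback g k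
  have ht : IsPullback (pullback.fst f (pullback.fst g k)) (pullback.snd f (pullback.fst g k)) f
      (pullback.fst g k) := IsPullback.of_hasPullback f (pullback.fst g k)
  have hg' : IsUnivCohDescentMap (pullback.snd g k) := isUnivCohDescentMap_of_isPullback hb hg
  have hf' : IsUnivCohDescentMap (pullback.snd f (pullback.fst g k)) :=
    isUnivCohDescentMap_of_isPullback ht hf
  exact isCohDescentMap_snd_of_isPullback (ht.paste_vert hb)
    (isCohDescentMap_comp _ _ hf' hg')

end Comp

section BaseChange

variable {X S S' : TopCat.{u}} (f : X ⟶ S) (g : S' ⟶ S)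

/-- **S13518** -/
theorem isUnivCohDescentMap_iff_baseChange (hg : IsUnivCohDescentMap g) :
    IsUnivCohDescentMap f ↔ IsUnivCohDescentMap (pullback.snd f g) := by
  constructor
  · intro hf
    exact isUnivCohDescentMap_of_isPullback (IsPullback.of_hasPullback f g) hf
  · intro hf'
    have h1 : IsUnivCohDescentMap (pullback.snd f g ≫ g) := isUnivCohDescentMap_comp _ _ hf' hg
    have h2 : pullback.fst f g ≫ f = pullback.snd f g ≫ g := pullback.condition
    rw [← h2] at h1
    exact isUnivCohDescentMap_of_comp (pullback.fst f g) f h1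

end BaseChange

section Prod

variable {X X' Y Y' S : TopCat.{u}} (pX : X' ⟶ S) (pY : Y' ⟶ S) (f : X ⟶ X') (g : Y ⟶ Y')

/-- first factor of the product map -/
noncomputable def M₁ : pullback (f ≫ pX) (g ≫ pY) ⟶ pullback pX (g ≫ pY) :=
  pullback.map (f ≫ pX) (g ≫ pY) pX (g ≫ pY) f (𝟙 Y) (𝟙 S) (Category.comp_id _)
    ((Category.comp_id _).trans (Category.id_comp _).symm)

/-- second factor of the product map -/
noncomputable def M₂ : pullback pX (g ≫ pY) ⟶ pullback pX pY :=
  pullback.map pX (g ≫ pY) pX pY (𝟙 X') g (𝟙 S)
    ((Category.comp_id _).trans (Category.id_comp _).symm) (Category.comp_id _)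

theorem M₁_M₂ : M₁ pX pY f g ≫ M₂ pX pY g =
    pullback.map (f ≫ pX) (g ≫ pY) pX pY f g (𝟙 S) (Category.comp_id _) (Category.comp_id _) := by
  unfold M₁ M₂
  apply pullback.hom_ext
  · rw [Category.assoc, pullback.lift_fst, pullback.lift_fst_assoc, pullback.lift_fst,
      Category.assoc, Category.comp_id]
  · rw [Category.assoc, pullback.lift_snd, pullback.lift_snd_assoc, pullback.lift_snd,
      Category.assoc, Category.id_comp]

theorem isPullback_M₁ : IsPullback (pullback.fst (f ≫ pX) (g ≫ pY)) (M₁ pX pY f g) f
    (pullback.fst pX (g ≫ pY)) := by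
  have t : IsPullback (pullback.fst pX (g ≫ pY)) (pullback.snd pX (g ≫ pY)) pX (g ≫ pY) :=
    IsPullback.of_hasPullback pX (g ≫ pY)
  have e : M₁ pX pY f g ≫ pullback.snd pX (g ≫ pY) = pullback.snd (f ≫ pX) (g ≫ pY) := by
    unfold M₁
    rw [pullback.lift_snd]
    exact Category.comp_id _
  have s : IsPullback (pullback.fst (f ≫ pX) (g ≫ pY))
      (M₁ pX pY f g ≫ pullback.snd pX (g ≫ pY)) (f ≫ pX) (g ≫ pY) := by
    rw [e]
    exact IsPullback.of_hasPullback (f ≫ pX) (g ≫ pY)
  have p : pullback.fst (f ≫ pX) (g ≫ pY) ≫ f = M₁ pX pY f g ≫ pullback.fst pX (g ≫ pY) := by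
    unfold M₁
    rw [pullback.lift_fst]
  exact IsPullback.of_bot s p t

theorem isPullback_M₂ : IsPullback (pullback.snd pX (g ≫ pY)) (M₂ pX pY g) g
    (pullback.snd pX pY) := by
  have t : IsPullback (pullback.snd pX pY) (pullback.fst pX pY) pY pX :=
    (IsPullback.of_hasPullback pX pY).flip
  have e : M₂ pX pY g ≫ pullback.fst pX pY = pullback.fst pX (g ≫ pY) := by
    unfold M₂
    rw [pullback.lift_fst]
    exact Category.comp_id _
  have s : IsPullback (pullback.snd pX (g ≫ pY))
      (M₂ pX pY g ≫ pullback.fst pX pY) (g ≫ pY) pX := by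
    rw [e]
    exact (IsPullback.of_hasPullback pX (g ≫ pY)).flip
  have p : pullback.snd pX (g ≫ pY) ≫ g = M₂ pX pY g ≫ pullback.snd pX pY := by
    unfold M₂
    rw [pullback.lift_snd]
  exact IsPullback.of_bot s p t

/-- **S13521**: fibre products of universal cohomological descent maps -/
theorem isUnivCohDescentMap_pullback_map (hf : IsUnivCohDescentMap f)
    (hg : IsUnivCohDescentMap g) :
    IsUnivCohDescentMap
      (pullback.map (f ≫ pX) (g ≫ pY) pX pY f g (𝟙 S) (Category.comp_id _)
        (Category.comp_id _)) := by
  rw [← M₁_M₂]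
  exact isUnivCohDescentMap_comp _ _ (isUnivCohDescentMap_of_isPullback (isPullback_M₁ pX pY f g) hf)
    (isUnivCohDescentMap_of_isPullback (isPullback_M₂ pX pY g) hg)

end Prod

end Groth.Agent.Lib.UnivDescH7
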