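import Mathlib
import Groth.Prelude

/-!
# A versal finitely presented algebra for idempotents of `A' ⊗[A] C` lying in a given ideal
(`C` a finite, finitely presented `A`-algebra).
-/

set_option autoImplicit false
set_option linter.style.haveILetI false
set_option linter.unusedVariables false

universe u

open TensorProduct

namespace Groth.Agent.Lib.VersalIdemH4

section coords

variable {A : Type u} [CommRing A]

theorem tmul_smul_eq {A' M : Type*} [CommRing A'] [Algebra A A'] [AddCommGroup M] [Module A M]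
    (a : A') (s : A) (v : M) :
    a ⊗ₜ[A] (s • v) = (a * algebraMap A A' s) ⊗ₜ[A] v := by
  rw [TensorProduct.tmul_smul, TensorProduct.smul_tmul', Algebra.smul_def, mul_comm]

theorem exists_coords {A' M : Type*} [CommRing A'] [Algebra A A'] [AddCommGroup M] [Module A M]
    {m : ℕ} (c : Fin m → M) (hc : Submodule.span A (Set.range c) = ⊤) (t : A' ⊗[A] M) :
    ∃ x : Fin m → A', t = ∑ i, x i ⊗ₜ[A] c i := by
  induction t using TensorProduct.induction_on with
  | zero => exact ⟨0, by simp⟩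
  | tmul a v =>
    have hv : v ∈ Submodule.span A (Set.range c) := by rw [hc]; trivial
    obtain ⟨α, rfl⟩ := (Submodule.mem_span_range_iff_exists_fun A).mp hv
    refine ⟨fun i => a * algebraMap A A' (α i), ?_⟩
    rw [TensorProduct.tmul_sum]
    exact Finset.sum_congr rfl (fun i _ => tmul_smul_eq a (α i) (c i))
  | add t₁ t₂ h₁ h₂ =>
    obtain ⟨x₁, hx₁⟩ := h₁
    obtain ⟨x₂, hx₂⟩ := h₂
    refine ⟨x₁ + x₂, ?_⟩
    rw [hx₁, hx₂]
    simp [TensorProduct.add_tmul, Finset.sum_add_distrib]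

theorem exists_rel_coords {A' M : Type*} [CommRing A'] [Algebra A A'] [AddCommGroup M]
    [Module A M] {m k : ℕ}
    (c : Fin m → M) (ρ : Fin k → Fin m → A) (hc : Submodule.span A (Set.range c) = ⊤)
    (hker : LinearMap.ker (Fintype.linearCombination A c) = Submodule.span A (Set.range ρ))
    (x : Fin m → A') (hx : ∑ i, x i ⊗ₜ[A] c i = (0 : A' ⊗[A] M)) :
    ∃ z : Fin k → A', ∀ l, x l = ∑ j, z j * algebraMap A A' (ρ j l) := by
  classical
  have hex : Function.Exact (Fintype.linearCombination A ρ) (Fintype.linearCombination A c) := by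
    rw [LinearMap.exact_iff, hker, Fintype.range_linearCombination]
  have hsurj : Function.Surjective (Fintype.linearCombination A c) := by
    rw [← LinearMap.range_eq_top, Fintype.range_linearCombination, hc]
  have hex' := lTensor_exact A' hex hsurj
  have ht : (Fintype.linearCombination A c).lTensor A'
      (∑ i, x i ⊗ₜ[A] (Pi.single i (1 : A) : Fin m → A)) = 0 := by
    rw [map_sum, ← hx]
    refine Finset.sum_congr rfl (fun i _ => ?_)
    rw [LinearMap.lTensor_tmul, Fintype.linearCombination_apply_single, one_smul]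
  obtain ⟨s, hs⟩ := (hex' _).mp ht
  have hspan : Submodule.span A (Set.range fun j : Fin k => (Pi.single j (1 : A) : Fin k → A)) = ⊤ := by
    have h0 : (fun j : Fin k => (Pi.single j (1 : A) : Fin k → A)) = ⇑(Pi.basisFun A (Fin k)) := by
      funext j
      simp [Pi.basisFun_apply]
    rw [h0]
    exact (Pi.basisFun A (Fin k)).span_eq
  obtain ⟨z, hz⟩ := exists_coords (A' := A')
    (fun j : Fin k => (Pi.single j (1 : A) : Fin k → A)) hspan s
  refine ⟨z, fun l => ?_⟩
  have key : ∀ (a : A') (w : Fin m → A),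
      (TensorProduct.rid A A') ((LinearMap.lTensor A' (LinearMap.proj (R := A) (φ := fun _ : Fin m => A) l)) (a ⊗ₜ[A] w))
        = a * algebraMap A A' (w l) := by
    intro a w
    rw [LinearMap.lTensor_tmul, TensorProduct.rid_tmul, LinearMap.proj_apply, Algebra.smul_def,
      mul_comm]
  have key2 : ∀ (a : A') (w : Fin k → A),
      (TensorProduct.rid A A') ((LinearMap.lTensor A' (LinearMap.proj (R := A) (φ := fun _ : Fin m => A) l))
        ((LinearMap.lTensor A' (Fintype.linearCombination A ρ)) (a ⊗ₜ[A] w)))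
        = a * algebraMap A A' ((Fintype.linearCombination A ρ w) l) := by
    intro a w
    rw [LinearMap.lTensor_tmul]
    exact key a _
  subst hz
  have h2 := congrArg (fun t => (TensorProduct.rid A A')
    ((LinearMap.lTensor A' (LinearMap.proj (R := A) (φ := fun _ : Fin m => A) l)) t)) hs
  simp only [map_sum, key, key2, Fintype.linearCombination_apply_single, one_smul] at h2
  have h3 : ∑ i, x i * algebraMap A A' ((Pi.single i (1 : A) : Fin m → A) l) = x l := by
    rw [Finset.sum_eq_single l (fun i _ hil => by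
      rw [Pi.single_eq_of_ne hil.symm, map_zero, mul_zero])
      (fun h => absurd (Finset.mem_univ l) h), Pi.single_eq_same, map_one, mul_one]
  rw [h3] at h2
  exact h2.symm

end coords

section P

variable {A : Type u} [CommRing A] {C : Type u} [CommRing C] [Algebra A C]

/-- `P A A' c x = ∑ x_i ⊗ c_i`. -/
noncomputable def P (A : Type u) [CommRing A] {C : Type u} [CommRing C] [Algebra A C]
    (A' : Type u) [CommRing A'] [Algebra A A'] {m : ℕ} (c : Fin m → C)
    (x : Fin m → A') : A' ⊗[A] C :=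
  ∑ i, x i ⊗ₜ[A] c i

variable (A' : Type u) [CommRing A'] [Algebra A A'] {m : ℕ} (c : Fin m → C)

theorem P_add (x y : Fin m → A') : P A A' c (x + y) = P A A' c x + P A A' c y := by
  simp [P, TensorProduct.add_tmul, Finset.sum_add_distrib]

theorem P_sub' (x y : Fin m → A') : P A A' c (fun l => x l - y l) = P A A' c x - P A A' c y := by
  simp [P, TensorProduct.sub_tmul, Finset.sum_sub_distrib]

theorem P_sum {ι : Type*} (s : Finset ι) (g : ι → Fin m → A') :
    P A A' c (fun l => ∑ k' ∈ s, g k' l) = ∑ k' ∈ s, P A A' c (g k') := by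
  unfold P
  simp only [TensorProduct.sum_tmul]
  exact Finset.sum_comm

theorem P_mul (μ : Fin m → Fin m → Fin m → A) (hμ : ∀ i j, c i * c j = ∑ l, μ i j l • c l)
    (x y : Fin m → A') :
    P A A' c x * P A A' c y =
      P A A' c (fun l => ∑ i, ∑ j, x i * y j * algebraMap A A' (μ i j l)) := by
  unfold P
  rw [Finset.sum_mul_sum]
  have h1 : ∀ i j, (x i ⊗ₜ[A] c i) * (y j ⊗ₜ[A] c j) =
      ∑ l, (x i * y j * algebraMap A A' (μ i j l)) ⊗ₜ[A] c l := by
    intro i j
    rw [Algebra.TensorProduct.tmul_mul_tmul, hμ i j, TensorProduct.tmul_sum]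
    exact Finset.sum_congr rfl (fun l _ => tmul_smul_eq _ _ _)
  simp only [h1, TensorProduct.sum_tmul]
  refine (Finset.sum_congr rfl (fun i _ => Finset.sum_comm)).trans ?_
  exact Finset.sum_comm

theorem P_rel {k : ℕ} (ρ : Fin k → Fin m → A) (hρ : ∀ j, ∑ l, ρ j l • c l = 0)
    (z : Fin k → A') :
    P A A' c (fun l => ∑ j, z j * algebraMap A A' (ρ j l)) = 0 := by
  unfold P
  simp only [TensorProduct.sum_tmul]
  rw [Finset.sum_comm]
  refine Finset.sum_eq_zero (fun j _ => ?_)
  have h : ∀ l, (z j * algebraMap A A' (ρ j l)) ⊗ₜ[A] c l = z j ⊗ₜ[A] (ρ j l • c l) :=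
    fun l => (tmul_smul_eq _ _ _).symm
  simp only [h]
  rw [← TensorProduct.tmul_sum, hρ j, TensorProduct.tmul_zero]

theorem P_mul_r (r : C) (lamk : Fin m → Fin m → A) (h : ∀ j, c j * r = ∑ l, lamk j l • c l)
    (y : Fin m → A') :
    P A A' c y * ((1 : A') ⊗ₜ[A] r) =
      P A A' c (fun l => ∑ j, y j * algebraMap A A' (lamk j l)) := by
  unfold P
  rw [Finset.sum_mul]
  have h1 : ∀ j, (y j ⊗ₜ[A] c j) * ((1 : A') ⊗ₜ[A] r) =
      ∑ l, (y j * algebraMap A A' (lamk j l)) ⊗ₜ[A] c l := by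
    intro j
    rw [Algebra.TensorProduct.tmul_mul_tmul, mul_one, h j, TensorProduct.tmul_sum]
    exact Finset.sum_congr rfl (fun l _ => tmul_smul_eq _ _ _)
  simp only [h1, TensorProduct.sum_tmul]
  exact Finset.sum_comm

end P

section sys

variable {A : Type u} [CommRing A] {C : Type u} [CommRing C] [Algebra A C]

/-- index set of the variables -/
abbrev Idx (m n k : ℕ) : Type := Fin m ⊕ (Fin n × Fin m) ⊕ Fin k ⊕ Fin k

/-- idempotency equations -/
def sys1 (A' : Type u) [CommRing A'] [Algebra A A'] {m n k : ℕ}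
    (μ : Fin m → Fin m → Fin m → A) (ρ : Fin k → Fin m → A) (v : Idx m n k → A') (l : Fin m) : A' :=
  (∑ i, ∑ j, v (Sum.inl i) * v (Sum.inl j) * algebraMap A A' (μ i j l)) - v (Sum.inl l)
    - ∑ j, v (Sum.inr (Sum.inr (Sum.inl j))) * algebraMap A A' (ρ j l)

/-- membership equations -/
def sys2 (A' : Type u) [CommRing A'] [Algebra A A'] {m n k : ℕ}
    (lam : Fin n → Fin m → Fin m → A) (ρ : Fin k → Fin m → A) (v : Idx m n k → A') (l : Fin m) : A' :=
  v (Sum.inl l) - (∑ k', ∑ j, v (Sum.inr (Sum.inl (k', j))) * algebraMap A A' (lam k' j l))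
    - ∑ j, v (Sum.inr (Sum.inr (Sum.inr j))) * algebraMap A A' (ρ j l)

theorem map_sys1 {A' A'' : Type u} [CommRing A'] [Algebra A A'] [CommRing A''] [Algebra A A'']
    {m n k : ℕ} (μ : Fin m → Fin m → Fin m → A) (ρ : Fin k → Fin m → A)
    (φ : A' →ₐ[A] A'') (v : Idx m n k → A') (l : Fin m) :
    φ (sys1 A' μ ρ v l) = sys1 A'' μ ρ (fun s => φ (v s)) l := by
  simp only [sys1, map_sub, map_sum, map_mul, AlgHom.commutes]

theorem map_sys2 {A' A'' : Type u} [CommRing A'] [Algebra A A'] [CommRing A''] [Algebra A A'']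
    {m n k : ℕ} (lam : Fin n → Fin m → Fin m → A) (ρ : Fin k → Fin m → A)
    (φ : A' →ₐ[A] A'') (v : Idx m n k → A') (l : Fin m) :
    φ (sys2 A' lam ρ v l) = sys2 A'' lam ρ (fun s => φ (v s)) l := by
  simp only [sys2, map_sub, map_sum, map_mul, AlgHom.commutes]

variable (A' : Type u) [CommRing A'] [Algebra A A'] {m n k : ℕ} (c : Fin m → C) (r : Fin n → C)
  (μ : Fin m → Fin m → Fin m → A) (lam : Fin n → Fin m → Fin m → A) (ρ : Fin k → Fin m → A)

theorem sound (hμ : ∀ i j, c i * c j = ∑ l, μ i j l • c l)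
    (hlam : ∀ k' j, c j * r k' = ∑ l, lam k' j l • c l) (hρ : ∀ j, ∑ l, ρ j l • c l = 0)
    (v : Idx m n k → A') (h1 : ∀ l, sys1 A' μ ρ v l = 0) (h2 : ∀ l, sys2 A' lam ρ v l = 0) :
    P A A' c (fun i => v (Sum.inl i)) * P A A' c (fun i => v (Sum.inl i)) =
        P A A' c (fun i => v (Sum.inl i)) ∧
      P A A' c (fun i => v (Sum.inl i)) ∈
        Ideal.span (Set.range fun k' => (1 : A') ⊗ₜ[A] r k') := by
  constructor
  · rw [P_mul A' c μ hμ]
    have h : (fun l => ∑ i, ∑ j, v (Sum.inl i) * v (Sum.inl j) * algebraMap A A' (μ i j l)) =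
        (fun i => v (Sum.inl i)) +
          (fun l => ∑ j, v (Sum.inr (Sum.inr (Sum.inl j))) * algebraMap A A' (ρ j l)) := by
      funext l
      have h' := h1 l
      unfold sys1 at h'
      simp only [Pi.add_apply]
      linear_combination h'
    rw [h, P_add, P_rel A' c ρ hρ, add_zero]
  · have h : (fun i => v (Sum.inl i)) =
        (fun l => ∑ k', ∑ j, v (Sum.inr (Sum.inl (k', j))) * algebraMap A A' (lam k' j l)) +
          (fun l => ∑ j, v (Sum.inr (Sum.inr (Sum.inr j))) * algebraMap A A' (ρ j l)) := by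
      funext l
      have h' := h2 l
      unfold sys2 at h'
      simp only [Pi.add_apply]
      linear_combination h'
    rw [h, P_add, P_rel A' c ρ hρ, add_zero,
      P_sum A' c Finset.univ
        (fun k' l => ∑ j, v (Sum.inr (Sum.inl (k', j))) * algebraMap A A' (lam k' j l))]
    refine Ideal.sum_mem _ (fun k' _ => ?_)
    rw [← P_mul_r A' c (r k') (lam k') (hlam k')]
    exact Ideal.mul_mem_left _ _ (Ideal.subset_span ⟨k', rfl⟩)

theorem complete (hc : Submodule.span A (Set.range c) = ⊤)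
    (hker : LinearMap.ker (Fintype.linearCombination A c) = Submodule.span A (Set.range ρ))
    (hμ : ∀ i j, c i * c j = ∑ l, μ i j l • c l)
    (hlam : ∀ k' j, c j * r k' = ∑ l, lam k' j l • c l)
    (e' : A' ⊗[A] C) (he : e' * e' = e')
    (hmem : e' ∈ Ideal.span (Set.range fun k' => (1 : A') ⊗ₜ[A] r k')) :
    ∃ v : Idx m n k → A', (∀ l, sys1 A' μ ρ v l = 0) ∧ (∀ l, sys2 A' lam ρ v l = 0) ∧
      P A A' c (fun i => v (Sum.inl i)) = e' := by
  obtain ⟨x, hx⟩ := exists_coords (A' := A') c hc e'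
  have hx' : e' = P A A' c x := hx
  have hq : P A A' c (fun l => (∑ i, ∑ j, x i * x j * algebraMap A A' (μ i j l)) - x l) = 0 := by
    rw [P_sub' A' c (fun l => ∑ i, ∑ j, x i * x j * algebraMap A A' (μ i j l)) x,
      ← P_mul A' c μ hμ x x, ← hx', he, sub_self]
  obtain ⟨z, hz⟩ := exists_rel_coords (A' := A') c ρ hc hker _ hq
  obtain ⟨w, hw⟩ := Ideal.mem_span_range_iff_exists_fun.mp hmem
  choose y hy using fun k' => exists_coords (A' := A') c hc (w k')
  have hq2 : P A A' c (fun l => x l - ∑ k', ∑ j, y k' j * algebraMap A A' (lam k' j l)) = 0 := by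
    rw [P_sub' A' c x (fun l => ∑ k', ∑ j, y k' j * algebraMap A A' (lam k' j l)),
      P_sum A' c Finset.univ (fun k' l => ∑ j, y k' j * algebraMap A A' (lam k' j l)),
      ← hx', sub_eq_zero, ← hw]
    refine Finset.sum_congr rfl (fun k' _ => ?_)
    rw [← P_mul_r A' c (r k') (lam k') (hlam k') (y k')]
    exact congrArg (fun t => t * ((1 : A') ⊗ₜ[A] r k')) (hy k')
  obtain ⟨z', hz'⟩ := exists_rel_coords (A' := A') c ρ hc hker _ hq2
  refine ⟨Sum.elim x (Sum.elim (fun p => y p.1 p.2) (Sum.elim z z')), ?_, ?_, ?_⟩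
  · intro l
    unfold sys1
    simp only [Sum.elim_inl, Sum.elim_inr]
    have h := hz l
    linear_combination h
  · intro l
    unfold sys2
    simp only [Sum.elim_inl, Sum.elim_inr]
    have h := hz' l
    linear_combination h
  · simp only [Sum.elim_inl]
    exact hx'.symm

/-- the ideal of relations -/
noncomputable def relIdeal : Ideal (MvPolynomial (Idx m n k) A) :=
  Ideal.span (Set.range (sys1 (MvPolynomial (Idx m n k) A) μ ρ MvPolynomial.X) ∪
    Set.range (sys2 (MvPolynomial (Idx m n k) A) lam ρ MvPolynomial.X))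

theorem relIdeal_fg : (relIdeal μ lam ρ).FG :=
  Submodule.fg_span ((Set.finite_range _).union (Set.finite_range _))

theorem exists_lift (v : Idx m n k → A') (h1 : ∀ l, sys1 A' μ ρ v l = 0)
    (h2 : ∀ l, sys2 A' lam ρ v l = 0) :
    ∃ φ : (MvPolynomial (Idx m n k) A ⧸ relIdeal μ lam ρ) →ₐ[A] A',
      ∀ s, φ (Ideal.Quotient.mk _ (MvPolynomial.X s)) = v s := by
  have hle : relIdeal μ lam ρ ≤
      RingHom.ker (MvPolynomial.aeval v : MvPolynomial (Idx m n k) A →ₐ[A] A') := by
    refine Ideal.span_le.mpr ?_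
    rintro _ (⟨l, rfl⟩ | ⟨l, rfl⟩)
    · rw [SetLike.mem_coe, RingHom.mem_ker, map_sys1]
      simp only [MvPolynomial.aeval_X]
      exact h1 l
    · rw [SetLike.mem_coe, RingHom.mem_ker, map_sys2]
      simp only [MvPolynomial.aeval_X]
      exact h2 l
  have hker : ∀ a ∈ relIdeal μ lam ρ,
      (MvPolynomial.aeval v : MvPolynomial (Idx m n k) A →ₐ[A] A') a = 0 :=
    fun a ha => hle ha
  refine ⟨Ideal.Quotient.liftₐ (relIdeal μ lam ρ) (MvPolynomial.aeval v) hker, fun s => ?_⟩
  exact (Ideal.Quotient.lift_mk (relIdeal μ lam ρ)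
    ((MvPolynomial.aeval v : MvPolynomial (Idx m n k) A →ₐ[A] A') : _ →+* A') hker).trans
    (MvPolynomial.aeval_X v s)

theorem sys1_gen (l : Fin m) :
    sys1 (MvPolynomial (Idx m n k) A ⧸ relIdeal μ lam ρ) μ ρ
      (fun s => Ideal.Quotient.mk _ (MvPolynomial.X s)) l = 0 := by
  have h := map_sys1 μ ρ (Ideal.Quotient.mkₐ A (relIdeal μ lam ρ)) MvPolynomial.X l
  have h0 : (Ideal.Quotient.mkₐ A (relIdeal μ lam ρ))
      (sys1 (MvPolynomial (Idx m n k) A) μ ρ MvPolynomial.X l) = 0 :=
    Ideal.Quotient.eq_zero_iff_mem.mpr (Ideal.subset_span (Or.inl ⟨l, rfl⟩))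
  rw [h0] at h
  exact h.symm

theorem sys2_gen (l : Fin m) :
    sys2 (MvPolynomial (Idx m n k) A ⧸ relIdeal μ lam ρ) lam ρ
      (fun s => Ideal.Quotient.mk _ (MvPolynomial.X s)) l = 0 := by
  have h := map_sys2 lam ρ (Ideal.Quotient.mkₐ A (relIdeal μ lam ρ)) MvPolynomial.X l
  have h0 : (Ideal.Quotient.mkₐ A (relIdeal μ lam ρ))
      (sys2 (MvPolynomial (Idx m n k) A) lam ρ MvPolynomial.X l) = 0 :=
    Ideal.Quotient.eq_zero_iff_mem.mpr (Ideal.subset_span (Or.inr ⟨l, rfl⟩))
  rw [h0] at h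
  exact h.symm

end sys

/-- **Versal algebra for idempotents in an ideal.** -/
theorem exists_versal {A C : Type u} [CommRing A] [CommRing C] [Algebra A C] [Module.Finite A C]
    [Algebra.FinitePresentation A C] {n : ℕ} (r : Fin n → C) :
    ∃ (Au : Type u) (_ : CommRing Au) (_ : Algebra A Au) (_ : Algebra.FinitePresentation A Au)
      (E : Au ⊗[A] C),
      E * E = E ∧ E ∈ Ideal.span (Set.range fun k' => (1 : Au) ⊗ₜ[A] r k') ∧
      ∀ (A' : Type u) [CommRing A'] [Algebra A A'] (e' : A' ⊗[A] C), e' * e' = e' →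
        e' ∈ Ideal.span (Set.range fun k' => (1 : A') ⊗ₜ[A] r k') →
        ∃ φ : Au →ₐ[A] A', Algebra.TensorProduct.map φ (AlgHom.id A C) E = e' := by
  classical
  obtain ⟨m, c, hc⟩ := Module.Finite.exists_fin (R := A) (M := C)
  haveI : Module.FinitePresentation A C :=
    Module.FinitePresentation.of_finite_of_finitePresentation A C
  have hsurj : Function.Surjective (Fintype.linearCombination A c) := by
    rw [← LinearMap.range_eq_top, Fintype.range_linearCombination, hc]
  obtain ⟨k, ρ, hρ⟩ := Submodule.fg_iff_exists_fin_generating_family.mp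
    (Module.FinitePresentation.fg_ker (Fintype.linearCombination A c) hsurj)
  have hρ0 : ∀ j, ∑ l, ρ j l • c l = 0 := by
    intro j
    have h : ρ j ∈ LinearMap.ker (Fintype.linearCombination A c) := by
      rw [← hρ]; exact Submodule.subset_span ⟨j, rfl⟩
    rw [LinearMap.mem_ker, Fintype.linearCombination_apply] at h
    exact h
  have hμ : ∀ i j, ∃ μ : Fin m → A, c i * c j = ∑ l, μ l • c l := by
    intro i j
    obtain ⟨μ, hμ⟩ := hsurj (c i * c j)
    exact ⟨μ, by rw [← hμ, Fintype.linearCombination_apply]⟩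
  choose μ hμ using hμ
  have hlam : ∀ (k' : Fin n) (j : Fin m), ∃ lam : Fin m → A, c j * r k' = ∑ l, lam l • c l := by
    intro k' j
    obtain ⟨lam, hlam⟩ := hsurj (c j * r k')
    exact ⟨lam, by rw [← hlam, Fintype.linearCombination_apply]⟩
  choose lam hlam using hlam
  have hs := sound (MvPolynomial (Idx m n k) A ⧸ relIdeal μ lam ρ) c r μ lam ρ hμ hlam hρ0
    (fun s => Ideal.Quotient.mk _ (MvPolynomial.X s)) (sys1_gen μ lam ρ) (sys2_gen μ lam ρ)
  refine ⟨MvPolynomial (Idx m n k) A ⧸ relIdeal μ lam ρ, inferInstance, inferInstance,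
    Algebra.FinitePresentation.quotient (relIdeal_fg μ lam ρ),
    P A (MvPolynomial (Idx m n k) A ⧸ relIdeal μ lam ρ) c
      (fun i => Ideal.Quotient.mk _ (MvPolynomial.X (Sum.inl i))), hs.1, hs.2, ?_⟩
  intro A' _ _ e' he hmem
  obtain ⟨v, h1, h2, hP⟩ := complete A' c r μ lam ρ hc hρ.symm hμ hlam e' he hmem
  obtain ⟨φ, hφ⟩ := exists_lift A' μ lam ρ v h1 h2
  refine ⟨φ, ?_⟩
  rw [← hP]
  unfold P
  rw [map_sum]
  refine Finset.sum_congr rfl (fun i _ => ?_)
  rw [Algebra.TensorProduct.map_tmul, hφ]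
  rfl

end Groth.Agent.Lib.VersalIdemH4
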