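import Mathlib
import Groth.Prelude
import Groth.Agent.Lib.VersalIdem_helper4
import Groth.Agent.Lib.ZMTOpenImm_helper4
import Groth.Agent.Lib.AffStrat2_helper4

/-!
# The universal finite open subscheme of a quasi-finite finitely presented affine morphism
-/

set_option autoImplicit false
set_option linter.style.haveILetI false
set_option linter.unusedVariables false

universe u

open CategoryTheory CategoryTheory.Limits AlgebraicGeometry TopologicalSpace Opposite Topology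
open TensorProduct

namespace Groth.Agent.Lib.UnivFinOpenH4

section dictionary

/-- the prime ideal of global sections attached to a point -/
noncomputable def pr (X : Scheme.{u}) (x : X) : Ideal Γ(X, ⊤) :=
  (X.toSpecΓ x : PrimeSpectrum Γ(X, ⊤)).asIdeal

instance pr_isPrime (X : Scheme.{u}) (x : X) : (pr X x).IsPrime :=
  (X.toSpecΓ x : PrimeSpectrum Γ(X, ⊤)).isPrime

theorem mem_basicOpen_iff (X : Scheme.{u}) (x : X) (f : Γ(X, ⊤)) :
    x ∈ X.basicOpen f ↔ f ∉ pr X x := by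
  rw [← Scheme.toSpecΓ_preimage_basicOpen]
  rfl

theorem exists_pr_eq (X : Scheme.{u}) [IsAffine X] (p : Ideal Γ(X, ⊤)) [hp : p.IsPrime] :
    ∃ x : X, pr X x = p := by
  refine ⟨X.isoSpec.inv (⟨p, hp⟩ : PrimeSpectrum Γ(X, ⊤)), ?_⟩
  have h := congrArg (fun m : Spec Γ(X, ⊤) ⟶ Spec Γ(X, ⊤) =>
    m (⟨p, hp⟩ : PrimeSpectrum Γ(X, ⊤))) X.isoSpec.inv_hom_id
  have h' : X.toSpecΓ (X.isoSpec.inv (⟨p, hp⟩ : PrimeSpectrum Γ(X, ⊤))) =
      (⟨p, hp⟩ : PrimeSpectrum Γ(X, ⊤)) := h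
  unfold pr
  rw [h']

theorem exists_basicOpen_of_mem_span (X : Scheme.{u}) (e : Γ(X, ⊤)) {n : ℕ}
    (γ : Fin n → Γ(X, ⊤)) (h : e ∈ Ideal.span (Set.range γ)) (x : X)
    (hx : x ∈ X.basicOpen e) : ∃ k, x ∈ X.basicOpen (γ k) := by
  by_contra hcon
  push_neg at hcon
  rw [mem_basicOpen_iff] at hx
  apply hx
  have hle : Ideal.span (Set.range γ) ≤ pr X x := by
    refine Ideal.span_le.mpr ?_
    rintro _ ⟨k, rfl⟩
    have h' := hcon k
    rw [mem_basicOpen_iff, not_not] at h'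
    exact h'
  exact hle h

theorem isClosed_basicOpen_of_idem (X : Scheme.{u}) (e : Γ(X, ⊤)) (he : IsIdempotentElem e) :
    IsClosed (X.basicOpen e : Set X) := by
  have hcompl : (X.basicOpen e : Set X)ᶜ = (X.basicOpen (1 - e) : Set X) := by
    ext x
    simp only [Set.mem_compl_iff, SetLike.mem_coe]
    rw [mem_basicOpen_iff, mem_basicOpen_iff, not_not]
    have hp := pr_isPrime X x
    constructor
    · intro h1 h2
      refine hp.ne_top ((Ideal.eq_top_iff_one _).mpr ?_)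
      have h3 := Ideal.add_mem _ h1 h2
      simpa using h3
    · intro h2
      have h0 : e * (1 - e) ∈ pr X x := by
        have h00 : e * (1 - e) = 0 := by rw [mul_sub, mul_one, he.eq, sub_self]
        rw [h00]
        exact Ideal.zero_mem _
      exact (hp.mem_or_mem h0).resolve_right h2
  rw [← isOpen_compl_iff, hcompl]
  exact (X.basicOpen (1 - e)).isOpen

theorem mem_span_of_basicOpen_subset (X : Scheme.{u}) [IsAffine X] (e : Γ(X, ⊤))
    (he : IsIdempotentElem e) {n : ℕ} (γ : Fin n → Γ(X, ⊤))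
    (h : ∀ x : X, x ∈ X.basicOpen e → ∃ k, x ∈ X.basicOpen (γ k)) :
    e ∈ Ideal.span (Set.range γ) := by
  have htop : Ideal.span (Set.range γ) ⊔ Ideal.span {1 - e} = ⊤ := by
    by_contra hne
    obtain ⟨m, hm, hle⟩ := Ideal.exists_le_maximal _ hne
    haveI := hm.isPrime
    obtain ⟨x, hx⟩ := exists_pr_eq X m
    have h1 : (1 - e) ∈ m := hle (Ideal.mem_sup_right (Ideal.subset_span rfl))
    have h2 : e ∉ m := by
      intro h'
      refine hm.ne_top ((Ideal.eq_top_iff_one _).mpr ?_)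
      have h3 := Ideal.add_mem _ h' h1
      simpa using h3
    have hxe : x ∈ X.basicOpen e := (mem_basicOpen_iff X x e).mpr (by rw [hx]; exact h2)
    obtain ⟨k, hk⟩ := h x hxe
    have hk' := (mem_basicOpen_iff X x (γ k)).mp hk
    rw [hx] at hk'
    exact hk' (hle (Ideal.mem_sup_left (Ideal.subset_span ⟨k, rfl⟩)))
  have h1 : (1 : Γ(X, ⊤)) ∈ Ideal.span (Set.range γ) ⊔ Ideal.span {1 - e} := by
    rw [htop]; trivial
  obtain ⟨u, hu, v, hv, huv⟩ := Submodule.mem_sup.mp h1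
  obtain ⟨a, rfl⟩ := Ideal.mem_span_singleton'.mp hv
  have he' : e * e = e := he
  have hee : e = e * u := by
    calc e = e * (u + a * (1 - e)) := by rw [huv, mul_one]
      _ = e * u + a * (e - e * e) := by ring
      _ = e * u := by rw [he', sub_self, mul_zero, add_zero]
  rw [hee]
  exact Ideal.mul_mem_left _ _ hu

theorem exists_idem_of_isClopen (X : Scheme.{u}) [IsAffine X] (Z : Set X) (hZ : IsClopen Z) :
    ∃ e : Γ(X, ⊤), IsIdempotentElem e ∧ (X.basicOpen e : Set X) = Z := by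
  have hZ' : IsClopen ((Scheme.homeoOfIso X.isoSpec) '' Z) :=
    ⟨(Scheme.homeoOfIso X.isoSpec).isClosed_image.mpr hZ.1,
      (Scheme.homeoOfIso X.isoSpec).isOpen_image.mpr hZ.2⟩
  obtain ⟨e, he, hZe⟩ := (PrimeSpectrum.isClopen_iff (R := Γ(X, ⊤))).mp hZ'
  refine ⟨e, he, ?_⟩
  rw [← Scheme.toSpecΓ_preimage_basicOpen]
  show (Scheme.homeoOfIso X.isoSpec) ⁻¹' ((PrimeSpectrum.basicOpen e :
    Opens (PrimeSpectrum Γ(X, ⊤))) : Set (PrimeSpectrum Γ(X, ⊤))) = Z
  rw [← hZe]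
  exact (Scheme.homeoOfIso X.isoSpec).injective.preimage_image Z

end dictionary

section pushout

theorem exists_tensor_bij {R A B P : CommRingCat.{u}} {f : R ⟶ A} {g : R ⟶ B} {inl : A ⟶ P}
    {inr : B ⟶ P} (H : IsPushout f g inl inr)
    (A' : Type u) [CommRing A'] [Algebra R A'] [Algebra R B] (ι : A' ≃+* A)
    (hf : ∀ r, ι (algebraMap R A' r) = f r) (hg : ∀ r, algebraMap R B r = g r) :
    ∃ Θ : A' ⊗[R] B →+* P, Function.Bijective Θ ∧ ∀ y x, Θ (y ⊗ₜ x) = inl (ι y) * inr x := by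
  have hg' : CommRingCat.ofHom (algebraMap R B) = g := by
    ext r; exact hg r
  subst hg'
  have H' : IsPushout (CommRingCat.ofHom (algebraMap R A')) (CommRingCat.ofHom (algebraMap R B))
      (CommRingCat.ofHom (ι : A' →+* A) ≫ inl) inr := by
    refine H.of_iso (Iso.refl _) (ι.toCommRingCatIso.symm : A ≅ CommRingCat.of A') (Iso.refl _)
      (Iso.refl _) ?_ ?_ ?_ ?_
    · ext r
      have h1 : ι.symm (f r) = algebraMap R A' r := by
        rw [← hf r, RingEquiv.symm_apply_apply]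
      simpa using h1
    · simp
    · ext y
      simp
    · simp
  have he1 := IsPushout.inl_isoIsPushout_hom _ _
    (CommRingCat.isPushout_tensorProduct R A' B) H'
  have he2 := IsPushout.inr_isoIsPushout_hom _ _
    (CommRingCat.isPushout_tensorProduct R A' B) H'
  obtain ⟨e, he⟩ : ∃ e : CommRingCat.of (A' ⊗[R] B) ≅ P,
      e = (CommRingCat.isPushout_tensorProduct R A' B).isoIsPushout _ _ H' := ⟨_, rfl⟩
  rw [← he] at he1 he2
  have h1 : ∀ y : A', e.hom.hom (y ⊗ₜ[R] (1 : B)) = inl (ι y) := fun y =>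
    congrArg (fun m : CommRingCat.of A' ⟶ P => m.hom y) he1
  have h2 : ∀ x : B, e.hom.hom ((1 : A') ⊗ₜ[R] x) = inr x := fun x =>
    congrArg (fun m : CommRingCat.of B ⟶ P => m.hom x) he2
  refine ⟨e.hom.hom, ConcreteCategory.bijective_of_isIso e.hom, fun y x => ?_⟩
  have h3 : y ⊗ₜ[R] x = (y ⊗ₜ[R] (1 : B)) * ((1 : A') ⊗ₜ[R] x) := by
    rw [Algebra.TensorProduct.tmul_mul_tmul, mul_one, one_mul]
  rw [h3, map_mul, h1, h2]

theorem exists_tensor_pullback {Y Y' Xb : Scheme.{u}} [IsAffine Y] [IsAffine Y'] [IsAffine Xb]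
    (π : Xb ⟶ Y) (b : Y' ⟶ Y) [Algebra Γ(Y, ⊤) Γ(Xb, ⊤)]
    (hπ : ∀ r, algebraMap Γ(Y, ⊤) Γ(Xb, ⊤) r = π.appTop r)
    (A' : Type u) [CommRing A'] [Algebra Γ(Y, ⊤) A'] (ι : A' ≃+* Γ(Y', ⊤))
    (hι : ∀ r, ι (algebraMap Γ(Y, ⊤) A' r) = b.appTop r) :
    ∃ Θ : A' ⊗[Γ(Y, ⊤)] Γ(Xb, ⊤) →+* Γ(pullback π b, ⊤), Function.Bijective Θ ∧
      ∀ y x, Θ (y ⊗ₜ x) = (pullback.snd π b).appTop (ι y) * (pullback.fst π b).appTop x :=
  exists_tensor_bij (isPushout_appTop_of_isPullback (IsPullback.of_hasPullback π b)).flip A' ι hι hπ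

end pushout

section geometry

variable {X Xb Y Y' : Scheme.{u}}

/-- the base change of `j` -/
noncomputable abbrev jmap (f : X ⟶ Y) (π : Xb ⟶ Y) (j : X ⟶ Xb) (hjπ : j ≫ π = f) (b : Y' ⟶ Y) :
    pullback f b ⟶ pullback π b :=
  pullback.map f b π b j (𝟙 Y') (𝟙 Y) (by rw [Category.comp_id, hjπ])
    (by rw [Category.comp_id, Category.id_comp])

theorem jmap_fst (f : X ⟶ Y) (π : Xb ⟶ Y) (j : X ⟶ Xb) (hjπ : j ≫ π = f) (b : Y' ⟶ Y) :
    jmap f π j hjπ b ≫ pullback.fst π b = pullback.fst f b ≫ j :=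
  pullback.lift_fst _ _ _

theorem jmap_snd (f : X ⟶ Y) (π : Xb ⟶ Y) (j : X ⟶ Xb) (hjπ : j ≫ π = f) (b : Y' ⟶ Y) :
    jmap f π j hjπ b ≫ pullback.snd π b = pullback.snd f b :=
  (pullback.lift_snd _ _ _).trans (Category.comp_id _)

theorem range_jmap (f : X ⟶ Y) (π : Xb ⟶ Y) (j : X ⟶ Xb) (hjπ : j ≫ π = f) (b : Y' ⟶ Y) :
    Set.range (jmap f π j hjπ b) = (pullback.fst π b) ⁻¹' Set.range j := by
  have hsq : IsPullback (jmap f π j hjπ b) (pullback.fst f b) (pullback.fst π b) j := by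
    refine IsPullback.of_right ?_ (jmap_fst f π j hjπ b) (IsPullback.of_hasPullback π b).flip
    rw [jmap_snd, hjπ]
    exact (IsPullback.of_hasPullback f b).flip
  ext p
  constructor
  · rintro ⟨q, rfl⟩
    refine ⟨pullback.fst f b q, ?_⟩
    exact (congrArg (fun m : pullback f b ⟶ Xb => m q) (jmap_fst f π j hjπ b)).symm
  · rintro ⟨x, hx⟩
    obtain ⟨z, hz1, hz2⟩ := Scheme.Pullback.exists_preimage_pullback
      (f := pullback.fst π b) (g := j) p x hx.symm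
    refine ⟨hsq.isoPullback.inv z, ?_⟩
    have h := congrArg (fun m : pullback (pullback.fst π b) j ⟶ pullback π b => m z)
      hsq.isoPullback_inv_fst
    exact h.trans hz1

theorem appTop_comp_apply {P Q R : Scheme.{u}} (h : P ⟶ Q) (k : Q ⟶ R) (z : Γ(R, ⊤)) :
    (h ≫ k).appTop z = h.appTop (k.appTop z) := rfl

theorem appTop_congr {P Q : Scheme.{u}} {h h' : P ⟶ Q} (e : h = h') (z : Γ(Q, ⊤)) :
    h.appTop z = h'.appTop z := by rw [e]

/-- (K1) a finite open of the pullback is cut out by an idempotent of the compactification. -/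
theorem exists_idem_of_finite [IsAffine Y'] (f : X ⟶ Y) (π : Xb ⟶ Y) [IsAffineHom π]
    (j : X ⟶ Xb) [IsOpenImmersion j] (hjπ : j ≫ π = f) (b : Y' ⟶ Y)
    (U' : (pullback f b).Opens) (hfin : IsFinite (U'.ι ≫ pullback.snd f b)) :
    ∃ e : Γ(pullback π b, ⊤), IsIdempotentElem e ∧
      (jmap f π j hjπ b) ⁻¹ᵁ ((pullback π b).basicOpen e) = U' ∧
      ((pullback π b).basicOpen e : Set ↥(pullback π b)) ⊆ Set.range (jmap f π j hjπ b) := by
  haveI : IsAffine (pullback π b) := isAffine_of_isAffineHom (pullback.snd π b)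
  haveI : IsFinite ((U'.ι ≫ jmap f π j hjπ b) ≫ pullback.snd π b) := by
    rw [Category.assoc, jmap_snd]; exact hfin
  haveI : IsProper (U'.ι ≫ jmap f π j hjπ b) :=
    IsProper.of_comp (U'.ι ≫ jmap f π j hjπ b) (pullback.snd π b)
  have hrange : Set.range (U'.ι ≫ jmap f π j hjπ b) = (jmap f π j hjπ b) '' (U' : Set _) := by
    ext p
    constructor
    · rintro ⟨u, rfl⟩
      exact ⟨U'.ι u, u.2, rfl⟩
    · rintro ⟨q, hq, rfl⟩
      exact ⟨⟨q, hq⟩, rfl⟩
  have hclosed : IsClosed ((jmap f π j hjπ b) '' (U' : Set _)) := by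
    rw [← hrange]
    exact (U'.ι ≫ jmap f π j hjπ b).isClosedMap.isClosed_range
  have hopen : IsOpen ((jmap f π j hjπ b) '' (U' : Set _)) :=
    (jmap f π j hjπ b).isOpenEmbedding.isOpenMap _ U'.isOpen
  obtain ⟨e, he, hee⟩ := exists_idem_of_isClopen (pullback π b) _ ⟨hclosed, hopen⟩
  refine ⟨e, he, ?_, ?_⟩
  · ext q
    show (jmap f π j hjπ b) q ∈ ((pullback π b).basicOpen e : Set _) ↔ q ∈ (U' : Set _)
    rw [hee]
    exact (jmap f π j hjπ b).isOpenEmbedding.injective.mem_set_image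
  · rw [hee]
    exact Set.image_subset_range _ _

/-- (K2) an idempotent supported in the open part cuts out a finite open. -/
theorem isFinite_of_idem (f : X ⟶ Y) (π : Xb ⟶ Y) [IsFinite π] (j : X ⟶ Xb) [IsOpenImmersion j]
    (hjπ : j ≫ π = f) (b : Y' ⟶ Y) (e : Γ(pullback π b, ⊤)) (he : IsIdempotentElem e)
    (hle : ((pullback π b).basicOpen e : Set ↥(pullback π b)) ⊆
      (pullback.fst π b) ⁻¹' Set.range j) :
    IsFinite (((jmap f π j hjπ b) ⁻¹ᵁ ((pullback π b).basicOpen e)).ι ≫ pullback.snd f b) := by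
  have hrange : Set.range (((jmap f π j hjπ b) ⁻¹ᵁ ((pullback π b).basicOpen e)).ι ≫
      jmap f π j hjπ b) = ((pullback π b).basicOpen e : Set ↥(pullback π b)) := by
    ext p
    constructor
    · rintro ⟨u, rfl⟩
      exact u.2
    · intro hp
      have hp' : p ∈ Set.range (jmap f π j hjπ b) := by
        rw [range_jmap]; exact hle hp
      obtain ⟨q, rfl⟩ := hp'
      exact ⟨⟨q, hp⟩, rfl⟩
  haveI : IsClosedImmersion (((jmap f π j hjπ b) ⁻¹ᵁ ((pullback π b).basicOpen e)).ι ≫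
      jmap f π j hjπ b) :=
    IsClosedImmersion.of_isPreimmersion _ (by
      rw [hrange]; exact isClosed_basicOpen_of_idem _ e he)
  have hcomp : ((jmap f π j hjπ b) ⁻¹ᵁ ((pullback π b).basicOpen e)).ι ≫ pullback.snd f b =
      (((jmap f π j hjπ b) ⁻¹ᵁ ((pullback π b).basicOpen e)).ι ≫ jmap f π j hjπ b) ≫
        pullback.snd π b := by
    rw [Category.assoc, jmap_snd]
  rw [hcomp]
  infer_instance

/-- (K3) compatibility of base change maps. -/
theorem map_comp_jmap {Yu : Scheme.{u}} (f : X ⟶ Y) (π : Xb ⟶ Y) (j : X ⟶ Xb) (hjπ : j ≫ π = f)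
    (a : Yu ⟶ Y) (b : Y' ⟶ Y) (c : Y' ⟶ Yu) (hc : c ≫ a = b)
    (h1 : f ≫ 𝟙 Y = 𝟙 X ≫ f) (h2 : b ≫ 𝟙 Y = c ≫ a) (h1' : π ≫ 𝟙 Y = 𝟙 Xb ≫ π)
    (h2' : b ≫ 𝟙 Y = c ≫ a) :
    pullback.map f b f a (𝟙 X) c (𝟙 Y) h1 h2 ≫ jmap f π j hjπ a =
      jmap f π j hjπ b ≫ pullback.map π b π a (𝟙 Xb) c (𝟙 Y) h1' h2' := by
  have e1 : pullback.map f b f a (𝟙 X) c (𝟙 Y) h1 h2 ≫ pullback.fst f a =
      pullback.fst f b ≫ 𝟙 X := pullback.lift_fst _ _ _
  have e2 : pullback.map f b f a (𝟙 X) c (𝟙 Y) h1 h2 ≫ pullback.snd f a =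
      pullback.snd f b ≫ c := pullback.lift_snd _ _ _
  have e3 : pullback.map π b π a (𝟙 Xb) c (𝟙 Y) h1' h2' ≫ pullback.fst π a =
      pullback.fst π b ≫ 𝟙 Xb := pullback.lift_fst _ _ _
  have e4 : pullback.map π b π a (𝟙 Xb) c (𝟙 Y) h1' h2' ≫ pullback.snd π a =
      pullback.snd π b ≫ c := pullback.lift_snd _ _ _
  apply pullback.hom_ext
  · rw [Category.assoc, Category.assoc, jmap_fst, ← Category.assoc, e1, e3, ← Category.assoc,
      jmap_fst, Category.comp_id, Category.comp_id]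
  · rw [Category.assoc, Category.assoc, jmap_snd, e2, e4, ← Category.assoc, jmap_snd]

end geometry

section main

/-- **Universal finite open subscheme** (S1445). -/
theorem main1445 {X Y : Scheme.{u}} (f : X ⟶ Y) [IsAffine X] [IsAffine Y] [LocallyQuasiFinite f]
    [LocallyOfFinitePresentation f] :
    ∃ (Yu : Scheme.{u}) (a : Yu ⟶ Y) (Uu : (pullback f a).Opens),
      LocallyOfFinitePresentation a ∧ QuasiCompact a ∧ QuasiSeparated a ∧
      IsFinite (Uu.ι ≫ pullback.snd f a) ∧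
      ∀ (Y' : Scheme.{u}) (b : Y' ⟶ Y) (U' : (pullback f b).Opens), IsAffine Y' →
        IsFinite (U'.ι ≫ pullback.snd f b) →
        ∃ (c : Y' ⟶ Yu) (hc : c ≫ a = b),
          (pullback.map f b f a (𝟙 X) c (𝟙 Y)
            ((Category.comp_id f).trans (Category.id_comp f).symm)
            ((Category.comp_id b).trans hc.symm)) ⁻¹ᵁ Uu = U' := by
  classical
  obtain ⟨Xb, π, j, hπfin, hπfp, hj, hjπ⟩ :=
    Groth.Agent.Lib.ZMTOpenImmH4.exists_finite_compactification f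
  haveI := hπfin
  haveI := hπfp
  haveI := hj
  haveI : IsAffine Xb := isAffine_of_isAffineHom π
  letI algC : Algebra Γ(Y, ⊤) Γ(Xb, ⊤) := π.appTop.hom.toAlgebra
  haveI : Module.Finite Γ(Y, ⊤) Γ(Xb, ⊤) := Scheme.Hom.finite_appTop π
  haveI : Algebra.FinitePresentation Γ(Y, ⊤) Γ(Xb, ⊤) :=
    (HasRingHomProperty.iff_of_isAffine (P := @LocallyOfFinitePresentation)).mp hπfp
  -- generators of the range of `j`
  obtain ⟨n, g, hg⟩ : ∃ (n : ℕ) (g : Fin n → Γ(Xb, ⊤)),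
      ∀ x : Xb, x ∈ Set.range j ↔ ∃ k, x ∈ Xb.basicOpen (g k) := by
    obtain ⟨t, ht⟩ := Groth.Agent.Lib.AffStratH4.exists_finset_basicOpen Xb ⊤ j.opensRange
      (isAffineOpen_top Xb) le_top (isCompact_range j.continuous)
    refine ⟨t.card, fun k => ((t.equivFin.symm k : t) : Γ(Xb, ⊤)), fun x => ?_⟩
    refine (ht x).trans ⟨?_, ?_⟩
    · rintro ⟨g', hg', hx⟩
      refine ⟨t.equivFin ⟨g', hg'⟩, ?_⟩
      have h0 : ((t.equivFin.symm (t.equivFin ⟨g', hg'⟩) : t) : Γ(Xb, ⊤)) = g' := by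
        rw [Equiv.symm_apply_apply]
      show x ∈ Xb.basicOpen ((t.equivFin.symm (t.equivFin ⟨g', hg'⟩) : t) : Γ(Xb, ⊤))
      rw [h0]
      exact hx
    · rintro ⟨k, hx⟩
      exact ⟨_, (t.equivFin.symm k).2, hx⟩
  obtain ⟨Au, _, _, hAufp, E, hE1, hE2, hvers⟩ :=
    Groth.Agent.Lib.VersalIdemH4.exists_versal (A := Γ(Y, ⊤)) (C := Γ(Xb, ⊤)) g
  obtain ⟨a, ha⟩ : ∃ a : Spec (CommRingCat.of Au) ⟶ Y,
      a = Spec.map (CommRingCat.ofHom (algebraMap Γ(Y, ⊤) Au)) ≫ Y.isoSpec.inv := ⟨_, rfl⟩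
  haveI hafp : LocallyOfFinitePresentation a := by
    haveI : LocallyOfFinitePresentation
        (Spec.map (CommRingCat.ofHom (algebraMap Γ(Y, ⊤) Au))) := by
      rw [HasRingHomProperty.Spec_iff (P := @LocallyOfFinitePresentation)]
      exact RingHom.finitePresentation_algebraMap.mpr hAufp
    rw [ha]
    infer_instance
  -- identification of global sections of `Spec Au`
  obtain ⟨ιu, hιu⟩ : ∃ ιu : Au ≃+* Γ(Spec (CommRingCat.of Au), ⊤),
      ∀ y, ιu y = (Scheme.ΓSpecIso (CommRingCat.of Au)).inv y :=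
    ⟨(Scheme.ΓSpecIso (CommRingCat.of Au)).symm.commRingCatIsoToRingEquiv, fun y => rfl⟩
  have hinv : Y.isoSpec.inv.appTop = (Scheme.ΓSpecIso Γ(Y, ⊤)).inv := by
    rw [← Iso.comp_hom_eq_id, ← Scheme.toSpecΓ_appTop]
    show Y.isoSpec.inv.appTop ≫ Y.isoSpec.hom.appTop = 𝟙 _
    rw [← Scheme.Hom.comp_appTop, Iso.hom_inv_id]
    rfl
  have hcat : CommRingCat.ofHom (algebraMap Γ(Y, ⊤) Au) ≫
      (Scheme.ΓSpecIso (CommRingCat.of Au)).inv = a.appTop := by
    rw [ha, Scheme.Hom.comp_appTop, Scheme.ΓSpecIso_inv_naturality, hinv]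
    rfl
  have hιa : ∀ r, ιu (algebraMap Γ(Y, ⊤) Au r) = a.appTop r := by
    intro r
    rw [hιu]
    exact congrArg (fun m : Γ(Y, ⊤) ⟶ Γ(Spec (CommRingCat.of Au), ⊤) => m.hom r) hcat
  obtain ⟨Θa, hΘa_bij, hΘa⟩ := exists_tensor_pullback π a (fun r => rfl) Au ιu hιa
  have hEΓ_idem : IsIdempotentElem (Θa E) := by
    show Θa E * Θa E = Θa E
    rw [← map_mul, hE1]
  have hEΓ_mem : Θa E ∈ Ideal.span (Set.range fun k => (pullback.fst π a).appTop (g k)) := by
    have h1 := Ideal.mem_map_of_mem Θa hE2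
    rw [Ideal.map_span, ← Set.range_comp] at h1
    have h2 : (⇑Θa ∘ fun k' => (1 : Au) ⊗ₜ[Γ(Y, ⊤)] g k') =
        fun k => (pullback.fst π a).appTop (g k) := by
      funext k
      show Θa ((1 : Au) ⊗ₜ[Γ(Y, ⊤)] g k) = _
      rw [hΘa, map_one, map_one, one_mul]
    rw [h2] at h1
    exact h1
  have hEΓ_le : ((pullback π a).basicOpen (Θa E) : Set ↥(pullback π a)) ⊆
      (pullback.fst π a) ⁻¹' Set.range j := by
    intro p hp
    obtain ⟨k, hk⟩ := exists_basicOpen_of_mem_span _ _ _ hEΓ_mem p hp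
    rw [← Scheme.preimage_basicOpen_top] at hk
    exact (hg _).mpr ⟨k, hk⟩
  refine ⟨Spec (CommRingCat.of Au), a,
    (jmap f π j hjπ a) ⁻¹ᵁ ((pullback π a).basicOpen (Θa E)), hafp, inferInstance, inferInstance,
    isFinite_of_idem f π j hjπ a (Θa E) hEΓ_idem hEΓ_le, ?_⟩
  intro Y' b U' hY' hfinU'
  haveI := hY'
  obtain ⟨e', he', hU', hsub⟩ := exists_idem_of_finite f π j hjπ b U' hfinU'
  haveI : IsAffine (pullback π b) := isAffine_of_isAffineHom (pullback.snd π b)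
  letI algY' : Algebra Γ(Y, ⊤) Γ(Y', ⊤) := b.appTop.hom.toAlgebra
  obtain ⟨Θb, hΘb_bij, hΘb⟩ := exists_tensor_pullback π b (fun r => rfl) Γ(Y', ⊤)
    (RingEquiv.refl _) (fun r => rfl)
  have he'mem : e' ∈ Ideal.span (Set.range fun k => (pullback.fst π b).appTop (g k)) := by
    refine mem_span_of_basicOpen_subset (pullback π b) e' he' _ (fun p hp => ?_)
    have hp' := hsub hp
    rw [range_jmap] at hp'
    obtain ⟨k, hk⟩ := (hg _).mp hp'
    refine ⟨k, ?_⟩
    rw [← Scheme.preimage_basicOpen_top]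
    exact hk
  obtain ⟨e'', he''⟩ := hΘb_bij.2 e'
  have hidem'' : e'' * e'' = e'' := by
    apply hΘb_bij.1
    rw [map_mul, he'']
    exact he'
  have hγ : (fun k => (pullback.fst π b).appTop (g k)) =
      (⇑Θb ∘ fun k' => (1 : Γ(Y', ⊤)) ⊗ₜ[Γ(Y, ⊤)] g k') := by
    funext k
    show _ = Θb ((1 : Γ(Y', ⊤)) ⊗ₜ[Γ(Y, ⊤)] g k)
    rw [hΘb, map_one, map_one, one_mul]
  have hmem'' : e'' ∈ Ideal.span (Set.range fun k' => (1 : Γ(Y', ⊤)) ⊗ₜ[Γ(Y, ⊤)] g k') := by
    rw [hγ, Set.range_comp, ← Ideal.map_span, ← he''] at he'mem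
    obtain ⟨x, hx, hxe⟩ := (Ideal.mem_map_iff_of_surjective Θb hΘb_bij.2).mp he'mem
    rw [← hΘb_bij.1 hxe]
    exact hx
  obtain ⟨φ', hφ'⟩ := hvers Γ(Y', ⊤) e'' hidem'' hmem''
  obtain ⟨c, hcdef⟩ : ∃ c : Y' ⟶ Spec (CommRingCat.of Au),
      c = Y'.isoSpec.hom ≫ Spec.map (CommRingCat.ofHom (φ' : Au →+* Γ(Y', ⊤))) := ⟨_, rfl⟩
  have hc : c ≫ a = b := by
    have h1 : CommRingCat.ofHom (algebraMap Γ(Y, ⊤) Au) ≫
        CommRingCat.ofHom (φ' : Au →+* Γ(Y', ⊤)) = b.appTop := by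
      ext r
      exact φ'.commutes r
    rw [hcdef, ha, Category.assoc, ← Spec.map_comp_assoc, h1, ← Category.assoc,
      Scheme.isoSpec_hom_naturality, Category.assoc, Iso.hom_inv_id, Category.comp_id]
  have hcat2 : (Scheme.ΓSpecIso (CommRingCat.of Au)).inv ≫ c.appTop =
      CommRingCat.ofHom (φ' : Au →+* Γ(Y', ⊤)) := by
    have h1 : Y'.isoSpec.hom.appTop = (Scheme.ΓSpecIso Γ(Y', ⊤)).hom := Scheme.toSpecΓ_appTop Y'
    rw [hcdef, Scheme.Hom.comp_appTop, ← Category.assoc, ← Scheme.ΓSpecIso_inv_naturality,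
      Category.assoc, h1, Iso.inv_hom_id, Category.comp_id]
  have hcι : ∀ y, c.appTop (ιu y) = φ' y := by
    intro y
    rw [hιu]
    exact congrArg (fun m : CommRingCat.of Au ⟶ Γ(Y', ⊤) => m.hom y) hcat2
  refine ⟨c, hc, ?_⟩
  have hK3 := map_comp_jmap f π j hjπ a b c hc
    ((Category.comp_id f).trans (Category.id_comp f).symm)
    ((Category.comp_id b).trans hc.symm)
    ((Category.comp_id π).trans (Category.id_comp π).symm)
    ((Category.comp_id b).trans hc.symm)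
  have hnat : ∀ t : Au ⊗[Γ(Y, ⊤)] Γ(Xb, ⊤),
      (pullback.map π b π a (𝟙 Xb) c (𝟙 Y)
        ((Category.comp_id π).trans (Category.id_comp π).symm)
        ((Category.comp_id b).trans hc.symm)).appTop (Θa t) =
      Θb (Algebra.TensorProduct.map φ' (AlgHom.id Γ(Y, ⊤) Γ(Xb, ⊤)) t) := by
    intro t
    induction t using TensorProduct.induction_on with
    | zero => simp
    | tmul y x =>
      rw [hΘa, map_mul, Algebra.TensorProduct.map_tmul, hΘb]
      congr 1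
      · rw [← appTop_comp_apply, appTop_congr (pullback.lift_snd _ _ _), appTop_comp_apply, hcι]
        rfl
      · rw [← appTop_comp_apply, appTop_congr (pullback.lift_fst _ _ _), appTop_comp_apply]
        rfl
    | add t₁ t₂ h₁ h₂ => rw [map_add, map_add, map_add, map_add, h₁, h₂]
  have hnatE : (pullback.map π b π a (𝟙 Xb) c (𝟙 Y)
        ((Category.comp_id π).trans (Category.id_comp π).symm)
        ((Category.comp_id b).trans hc.symm)).appTop (Θa E) = e' := by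
    rw [hnat, hφ', he'']
  calc (pullback.map f b f a (𝟙 X) c (𝟙 Y)
          ((Category.comp_id f).trans (Category.id_comp f).symm)
          ((Category.comp_id b).trans hc.symm)) ⁻¹ᵁ
        ((jmap f π j hjπ a) ⁻¹ᵁ ((pullback π a).basicOpen (Θa E)))
      = (pullback.map f b f a (𝟙 X) c (𝟙 Y)
          ((Category.comp_id f).trans (Category.id_comp f).symm)
          ((Category.comp_id b).trans hc.symm) ≫ jmap f π j hjπ a) ⁻¹ᵁ
          ((pullback π a).basicOpen (Θa E)) := rfl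
    _ = (jmap f π j hjπ b ≫ pullback.map π b π a (𝟙 Xb) c (𝟙 Y)
          ((Category.comp_id π).trans (Category.id_comp π).symm)
          ((Category.comp_id b).trans hc.symm)) ⁻¹ᵁ ((pullback π a).basicOpen (Θa E)) := by
        rw [hK3]
    _ = (jmap f π j hjπ b) ⁻¹ᵁ ((pullback.map π b π a (𝟙 Xb) c (𝟙 Y)
          ((Category.comp_id π).trans (Category.id_comp π).symm)
          ((Category.comp_id b).trans hc.symm)) ⁻¹ᵁ ((pullback π a).basicOpen (Θa E))) := rfl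
    _ = (jmap f π j hjπ b) ⁻¹ᵁ ((pullback π b).basicOpen e') := by
        rw [Scheme.preimage_basicOpen_top, hnatE]
    _ = U' := hU'

end main

end Groth.Agent.Lib.UnivFinOpenH4
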