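import Mathlib
import Groth.Agent.Lib.LocalCrit8_helper9
import Groth.Agent.Lib.LocalCrit12_helper9

/-!
# Universal flattening over an Artinian ring (helper4)

For a module `N` over an Artinian ring `A` there is a least ideal `I` with `N/IN` flat over `A/I`,
and for every `A`-algebra `A'`, `A' ⊗ N` is flat over `A'` iff `I A' = 0`.
-/

set_option autoImplicit false
universe u

namespace Groth.Agent.Lib.UnivFlatArtinH4

open TensorProduct

variable (A : Type u) [CommRing A] [IsArtinianRing A] (N : Type u) [AddCommGroup N] [Module A N]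

/-- the set of flattening ideals -/
def FlatSet : Set (Ideal A) := {I | Module.Flat (A ⧸ I) ((A ⧸ I) ⊗[A] N)}

lemma exists_least : ∃ I₀ ∈ FlatSet A N, ∀ I ∈ FlatSet A N, I₀ ≤ I := by
  have hne : (FlatSet A N).Nonempty := ⟨⊤, by
    show Module.Flat (A ⧸ (⊤ : Ideal A)) ((A ⧸ (⊤ : Ideal A)) ⊗[A] N)
    haveI : Subsingleton (A ⧸ (⊤ : Ideal A)) := Ideal.Quotient.subsingleton_iff.mpr rfl
    haveI : Subsingleton ((A ⧸ (⊤ : Ideal A)) ⊗[A] N) := inferInstance
    infer_instance⟩
  obtain ⟨I₀, hI₀, hmin⟩ := IsArtinian.set_has_minimal (FlatSet A N) hne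
  refine ⟨I₀, hI₀, fun I hI => ?_⟩
  have hinf : I₀ ⊓ I ∈ FlatSet A N := by
    haveI : Module.Flat (A ⧸ I₀) ((A ⧸ I₀) ⊗[A] N) := hI₀
    haveI : Module.Flat (A ⧸ I) ((A ⧸ I) ⊗[A] N) := hI
    exact Groth.Agent.Lib.LocalCrit12.flat_mod_inf N I₀ I
  have h1 : ¬ (I₀ ⊓ I < I₀) := hmin _ hinf
  have heq : I₀ ⊓ I = I₀ := by
    by_contra hne
    exact h1 (lt_of_le_of_ne inf_le_left hne)
  rw [← heq]
  exact inf_le_right

theorem main : ∃ I : Ideal A, ∀ (A' : Type u) [CommRing A'] [Algebra A A'],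
    Module.Flat A' (A' ⊗[A] N) ↔ I.map (algebraMap A A') = ⊥ := by
  obtain ⟨I₀, hI₀, hleast⟩ := exists_least A N
  refine ⟨I₀, fun A' _ _ => ⟨fun hflat => ?_, fun hI => ?_⟩⟩
  · have hker : RingHom.ker (algebraMap A A') ∈ FlatSet A N := by
      letI : Algebra (A ⧸ RingHom.ker (algebraMap A A')) A' :=
        (RingHom.kerLift (algebraMap A A')).toAlgebra
      haveI : IsScalarTower A (A ⧸ RingHom.ker (algebraMap A A')) A' :=
        IsScalarTower.of_algebraMap_eq (fun x => rfl)
      have hinj : Function.Injective (algebraMap (A ⧸ RingHom.ker (algebraMap A A')) A') :=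
        RingHom.kerLift_injective _
      haveI : Module.Flat A' (A' ⊗[A ⧸ RingHom.ker (algebraMap A A')]
          ((A ⧸ RingHom.ker (algebraMap A A')) ⊗[A] N)) :=
        Groth.Agent.Lib.LocalCrit8.flat_baseChange_baseChange A
          (A ⧸ RingHom.ker (algebraMap A A')) A' N
      have hnil : IsNilpotent (Ring.jacobson (A ⧸ RingHom.ker (algebraMap A A'))) :=
        IsSemiprimaryRing.isNilpotent
      haveI : IsSemisimpleRing ((A ⧸ RingHom.ker (algebraMap A A')) ⧸
          Ring.jacobson (A ⧸ RingHom.ker (algebraMap A A'))) :=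
        IsSemiprimaryRing.isSemisimpleRing
      haveI : Module.Flat ((A ⧸ RingHom.ker (algebraMap A A')) ⧸
          Ring.jacobson (A ⧸ RingHom.ker (algebraMap A A')))
          (((A ⧸ RingHom.ker (algebraMap A A')) ⧸
            Ring.jacobson (A ⧸ RingHom.ker (algebraMap A A'))) ⊗[A ⧸ RingHom.ker (algebraMap A A')]
              ((A ⧸ RingHom.ker (algebraMap A A')) ⊗[A] N)) := by
        haveI := Module.projective_of_isSemisimpleRing
          ((A ⧸ RingHom.ker (algebraMap A A')) ⧸
            Ring.jacobson (A ⧸ RingHom.ker (algebraMap A A')))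
          (((A ⧸ RingHom.ker (algebraMap A A')) ⧸
            Ring.jacobson (A ⧸ RingHom.ker (algebraMap A A'))) ⊗[A ⧸ RingHom.ker (algebraMap A A')]
              ((A ⧸ RingHom.ker (algebraMap A A')) ⊗[A] N))
        infer_instance
      exact Groth.Agent.Lib.LocalCrit8.flat_of_nilpotent_of_injective
        (A ⧸ RingHom.ker (algebraMap A A')) A' hinj
        (Ring.jacobson (A ⧸ RingHom.ker (algebraMap A A'))) hnil
        ((A ⧸ RingHom.ker (algebraMap A A')) ⊗[A] N)
    have hle := hleast _ hker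
    rw [Ideal.map_eq_bot_iff_le_ker]
    exact hle
  · have hle : I₀ ≤ RingHom.ker (algebraMap A A') := (Ideal.map_eq_bot_iff_le_ker _).mp hI
    letI : Algebra (A ⧸ I₀) A' :=
      (Ideal.Quotient.lift I₀ (algebraMap A A') (fun a ha => hle ha)).toAlgebra
    haveI : IsScalarTower A (A ⧸ I₀) A' := IsScalarTower.of_algebraMap_eq (fun x => rfl)
    haveI : Module.Flat (A ⧸ I₀) ((A ⧸ I₀) ⊗[A] N) := hI₀
    exact Groth.Agent.Lib.LocalCrit8.flat_baseChange_of_algebra A (A ⧸ I₀) A' N

theorem S1265_main {A B : Type u} [CommRing A] [IsArtinianRing A] [CommRing B] [Algebra A B]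
    (N : Type u) [AddCommGroup N] [Module B N] [Module A N] [IsScalarTower A B N] :
    ∃ I : Ideal A, ∀ (A' B' N' : Type u) [CommRing A'] [CommRing B'] [Algebra A A'] [Algebra B B']
      [Algebra A' B'] [Algebra A B']
      [IsScalarTower A B B'] [IsScalarTower A A' B'] [Algebra.IsPushout A B A' B']
      [AddCommGroup N'] [Module B' N'] [Module B N'] [IsScalarTower B B' N'] [Module A' N']
      [IsScalarTower A' B' N']
      (f : N →ₗ[B] N'), IsBaseChange B' f →
      (Module.Flat A' N' ↔ I.map (algebraMap A A') = ⊥) := by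
  obtain ⟨I, hI⟩ := main A N
  refine ⟨I, ?_⟩
  intro A' B' N' _ _ _ _ _ _ _ _ _ _ _ _ _ _ _ f hf
  rw [← hI A']
  haveI : Algebra.IsPushout A A' B B' := Algebra.IsPushout.symm inferInstance
  have e : N' ≃ₗ[A'] A' ⊗[A] N :=
    ((hf.equiv.symm).restrictScalars A') ≪≫ₗ (Algebra.IsPushout.cancelBaseChange A A' B B' N)
  exact ⟨fun h => Module.Flat.of_linearEquiv e.symm, fun h => Module.Flat.of_linearEquiv e⟩

end Groth.Agent.Lib.UnivFlatArtinH4
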