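import Mathlib
import Groth.Agent.Lib.UnivHomeo12_helper6
set_option autoImplicit false
universe u

open TensorProduct

namespace Groth.Agent.Lib.UnivHomeo

section Equalizer

open AlgebraicGeometry CategoryTheory

variable (A B : Type u) [CommRing A] [CommRing B] [Algebra A B]

theorem tmul_algebraMap_sub (a : A) :
    (algebraMap A B a) ⊗ₜ[A] (1 : B) - (1 : B) ⊗ₜ[A] (algebraMap A B a) = 0 := by
  rw [Algebra.algebraMap_eq_smul_one, TensorProduct.smul_tmul, sub_self]

/-- The equalizer of `B ⇉ (B ⊗ B)_red`. -/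
def eqSubalgebra : Subalgebra A B where
  carrier := {b | IsNilpotent (b ⊗ₜ[A] (1 : B) - (1 : B) ⊗ₜ[A] b)}
  mul_mem' := by
    intro b b' hb hb'
    have e : (b * b') ⊗ₜ[A] (1 : B) - (1 : B) ⊗ₜ[A] (b * b') =
        (b ⊗ₜ[A] (1 : B)) * (b' ⊗ₜ[A] (1 : B) - (1 : B) ⊗ₜ[A] b') +
        (b ⊗ₜ[A] (1 : B) - (1 : B) ⊗ₜ[A] b) * ((1 : B) ⊗ₜ[A] b') := by
      simp only [mul_sub, sub_mul, Algebra.TensorProduct.tmul_mul_tmul, mul_one, one_mul]
      abel
    change IsNilpotent _
    rw [e, ← mem_nilradical]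
    exact Ideal.add_mem _ (Ideal.mul_mem_left _ _ (mem_nilradical.mpr hb'))
      (Ideal.mul_mem_right _ _ (mem_nilradical.mpr hb))
  add_mem' := by
    intro b b' hb hb'
    have e : (b + b') ⊗ₜ[A] (1 : B) - (1 : B) ⊗ₜ[A] (b + b') =
        (b ⊗ₜ[A] (1 : B) - (1 : B) ⊗ₜ[A] b) + (b' ⊗ₜ[A] (1 : B) - (1 : B) ⊗ₜ[A] b') := by
      rw [TensorProduct.add_tmul, TensorProduct.tmul_add]
      abel
    change IsNilpotent _
    rw [e, ← mem_nilradical]
    exact Ideal.add_mem _ (mem_nilradical.mpr hb) (mem_nilradical.mpr hb')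
  algebraMap_mem' := by
    intro a
    change IsNilpotent _
    rw [tmul_algebraMap_sub]
    exact IsNilpotent.zero

theorem mem_eqSubalgebra (b : B) :
    b ∈ eqSubalgebra A B ↔ IsNilpotent (b ⊗ₜ[A] (1 : B) - (1 : B) ⊗ₜ[A] b) := Iff.rfl

theorem le_eqSubalgebra (C : Subalgebra A B)
    (hC : FlatMor.IsUnivHomeo (Spec.map (CommRingCat.ofHom (algebraMap A C)))) :
    C ≤ eqSubalgebra A B := by
  obtain ⟨-, PUC, -⟩ := (isUnivHomeo_iff_alg A C).mp hC
  intro c hc
  change IsNilpotent _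
  rw [nilpotent_iff_mem_prime]
  intro P hP
  let ψ₁ : B →+* P.ResidueField := (algebraMap (B ⊗[A] B) P.ResidueField).comp
    (Algebra.TensorProduct.includeLeft (R := A) (S := A) (A := B) (B := B)).toRingHom
  let ψ₂ : B →+* P.ResidueField := (algebraMap (B ⊗[A] B) P.ResidueField).comp
    (Algebra.TensorProduct.includeRight (R := A) (A := B) (B := B)).toRingHom
  have h12 : (ψ₁.comp (algebraMap C B)).comp (algebraMap A C) =
      (ψ₂.comp (algebraMap C B)).comp (algebraMap A C) := by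
    ext a
    change algebraMap (B ⊗[A] B) P.ResidueField ((algebraMap A B a) ⊗ₜ[A] (1 : B)) =
      algebraMap (B ⊗[A] B) P.ResidueField ((1 : B) ⊗ₜ[A] (algebraMap A B a))
    exact congrArg _ (sub_eq_zero.mp (tmul_algebraMap_sub A B a))
  have h := PUC P.ResidueField _ _ h12
  have h' : ψ₁ c = ψ₂ c := congr($h ⟨c, hc⟩)
  rw [← Ideal.algebraMap_residueField_eq_zero (I := P), map_sub, sub_eq_zero]
  exact h'

theorem isUnivHomeo_eqSubalgebra [Algebra.IsIntegral A B]
    (hinj : Function.Injective (algebraMap A B)) :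
    FlatMor.IsUnivHomeo (Spec.map (CommRingCat.ofHom (algebraMap A (eqSubalgebra A B)))) := by
  rw [isUnivHomeo_iff_alg]
  refine ⟨⟨fun e => ?_⟩, ?_, ?_⟩
  · exact (isIntegral_algHom_iff (eqSubalgebra A B).val Subtype.val_injective).mp
      (Algebra.IsIntegral.isIntegral (e : B))
  · intro K _ ψ₁ ψ₂ h12
    haveI : Algebra.IsIntegral (eqSubalgebra A B) B := Algebra.IsIntegral.tower_top A
    have hker : RingHom.ker (algebraMap (eqSubalgebra A B) B) ≤ nilradical (eqSubalgebra A B) := by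
      intro x hx
      have : x = 0 := Subtype.val_injective hx
      rw [this]; exact zero_mem _
    obtain ⟨K₁, _, ι₁, ψ₁', h1⟩ := exists_field_ext hker K ψ₁
    obtain ⟨K₂, _, ι₂, ψ₂', h2⟩ := exists_field_ext hker K₁ (ι₁.comp ψ₂)
    have hf : ∀ a : A, ι₂ (ψ₁' (algebraMap A B a)) = ψ₂' (algebraMap A B a) := by
      intro a
      have e1 : ψ₁' (algebraMap A B a) = ι₁ (ψ₁ (algebraMap A (eqSubalgebra A B) a)) :=
        congr($h1 (algebraMap A (eqSubalgebra A B) a))
      have e2 : ψ₂' (algebraMap A B a) = ι₂ (ι₁ (ψ₂ (algebraMap A (eqSubalgebra A B) a))) :=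
        congr($h2 (algebraMap A (eqSubalgebra A B) a))
      have e3 : ψ₁ (algebraMap A (eqSubalgebra A B) a) = ψ₂ (algebraMap A (eqSubalgebra A B) a) :=
        congr($h12 a)
      rw [e1, e2, e3]
    letI : Algebra A K₂ := (ψ₂'.comp (algebraMap A B)).toAlgebra
    let F₁ : B →ₐ[A] K₂ := { (ι₂.comp ψ₁') with commutes' := fun a => hf a }
    let F₂ : B →ₐ[A] K₂ := { ψ₂' with commutes' := fun a => rfl }
    ext e
    have hnil : IsNilpotent ((e : B) ⊗ₜ[A] (1 : B) - (1 : B) ⊗ₜ[A] (e : B)) := e.2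
    have hnil' := hnil.map (Algebra.TensorProduct.productMap F₁ F₂)
    rw [map_sub, Algebra.TensorProduct.productMap_apply_tmul,
      Algebra.TensorProduct.productMap_apply_tmul, map_one, map_one, mul_one, one_mul] at hnil'
    have h0 := hnil'.eq_zero
    have e1 : F₁ (e : B) = ι₂ (ι₁ (ψ₁ e)) := by
      change ι₂ (ψ₁' (algebraMap (eqSubalgebra A B) B e)) = _
      exact congrArg ι₂ congr($h1 e)
    have e2 : F₂ (e : B) = ι₂ (ι₁ (ψ₂ e)) := by
      change ψ₂' (algebraMap (eqSubalgebra A B) B e) = _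
      exact congr($h2 e)
    rw [e1, e2, sub_eq_zero] at h0
    exact ι₁.injective (ι₂.injective h0)
  · intro x hx
    have : x = 0 := by
      apply hinj
      rw [map_zero]
      exact congrArg Subtype.val hx
    rw [this]; exact zero_mem _

end Equalizer

end Groth.Agent.Lib.UnivHomeo
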