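import Mathlib
import Groth.Agent.Lib.UnivHomeo12_helper6
import Groth.Prelude.Def_HTop2
set_option autoImplicit false
universe u

namespace Groth.Agent.Lib.UnivHomeo

section Resid

open AlgebraicGeometry CategoryTheory

variable {A C : Type u} [CommRing A] [CommRing C] [Algebra A C]

/-- Under uniqueness of field-valued points the residue field extensions are purely inseparable. -/
theorem exists_pow_mem_range_of_PU (hPU : PU A C) (𝔭 : Ideal A) [𝔭.IsPrime] (𝔯 : Ideal C)
    [𝔯.IsPrime] (h : 𝔭 = 𝔯.comap (algebraMap A C)) (x : 𝔯.ResidueField) :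
    ∃ n : ℕ, x ^ (ringExpChar 𝔭.ResidueField) ^ n ∈
      Set.range (Ideal.ResidueField.map 𝔭 𝔯 (algebraMap A C) h) := by
  let m : 𝔭.ResidueField →+* 𝔯.ResidueField := Ideal.ResidueField.map 𝔭 𝔯 (algebraMap A C) h
  letI : Algebra 𝔭.ResidueField 𝔯.ResidueField := m.toAlgebra
  have hm : ∀ a : A, m (algebraMap A 𝔭.ResidueField a) =
      algebraMap C 𝔯.ResidueField (algebraMap A C a) :=
    fun a => Ideal.ResidueField.map_algebraMap 𝔭 𝔯 (algebraMap A C) h a
  haveI : IsPurelyInseparable 𝔭.ResidueField 𝔯.ResidueField := by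
    haveI : Nonempty (𝔯.ResidueField →+* AlgebraicClosure 𝔯.ResidueField) :=
      ⟨algebraMap _ _⟩
    apply IsPurelyInseparable.of_injective_comp_algebraMap _ _ (AlgebraicClosure 𝔯.ResidueField)
    intro f₁ f₂ h12
    have h12' : ∀ x, f₁ (m x) = f₂ (m x) := fun x => RingHom.congr_fun h12 x
    have := hPU (AlgebraicClosure 𝔯.ResidueField) (f₁.comp (algebraMap C 𝔯.ResidueField))
      (f₂.comp (algebraMap C 𝔯.ResidueField)) (by
        ext a
        simp only [RingHom.comp_apply]
        rw [← hm, h12'])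
    exact Ideal.ResidueField.ringHom_ext this
  obtain ⟨n, y, hy⟩ := IsPurelyInseparable.pow_mem 𝔭.ResidueField
    (ringExpChar 𝔭.ResidueField) x
  exact ⟨n, y, hy⟩

/-- Existence of extensions of field-valued points from triviality of residue field extensions. -/
theorem PE_of_residue_surjective [Algebra.IsIntegral A C]
    (H : ∀ (𝔭 : Ideal A) [𝔭.IsPrime], ∃ (𝔯 : Ideal C) (_ : 𝔯.IsPrime)
      (h : 𝔭 = 𝔯.comap (algebraMap A C)),
      Function.Surjective (Ideal.ResidueField.map 𝔭 𝔯 (algebraMap A C) h)) : PE A C := by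
  intro K _ χ
  haveI h𝔭p : (RingHom.ker χ).IsPrime := RingHom.ker_isPrime χ
  obtain ⟨𝔯, h𝔯p, h𝔯, hsurj⟩ := H (RingHom.ker χ)
  let m : (RingHom.ker χ).ResidueField →+* 𝔯.ResidueField :=
    Ideal.ResidueField.map (RingHom.ker χ) 𝔯 (algebraMap A C) h𝔯
  have hm : ∀ a : A, m (algebraMap A (RingHom.ker χ).ResidueField a) =
      algebraMap C 𝔯.ResidueField (algebraMap A C a) :=
    fun a => Ideal.ResidueField.map_algebraMap (RingHom.ker χ) 𝔯 (algebraMap A C) h𝔯 a
  let e : (RingHom.ker χ).ResidueField ≃+* 𝔯.ResidueField :=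
    RingEquiv.ofBijective m ⟨m.injective, hsurj⟩
  let lift : (RingHom.ker χ).ResidueField →+* K :=
    Ideal.ResidueField.lift (RingHom.ker χ) χ le_rfl (by
      intro a ha
      change IsUnit (χ a)
      exact isUnit_iff_ne_zero.mpr (fun h => ha (RingHom.mem_ker.mpr h)))
  refine ⟨lift.comp ((e.symm : 𝔯.ResidueField →+* (RingHom.ker χ).ResidueField).comp
    (algebraMap C 𝔯.ResidueField)), ?_⟩
  ext a
  simp only [RingHom.comp_apply]
  rw [← hm]
  have h1 : (e.symm : 𝔯.ResidueField →+* (RingHom.ker χ).ResidueField)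
      (m (algebraMap A (RingHom.ker χ).ResidueField a)) =
      algebraMap A (RingHom.ker χ).ResidueField a :=
    e.symm_apply_apply (algebraMap A (RingHom.ker χ).ResidueField a)
  rw [h1]
  exact Ideal.ResidueField.lift_algebraMap _ _ _ _ _

theorem residueField_map_comp {B : Type u} [CommRing B] [Algebra A B] [Algebra C B]
    [IsScalarTower A C B] (𝔭 : Ideal A) [𝔭.IsPrime] (𝔯 : Ideal C) [𝔯.IsPrime] (𝔮 : Ideal B)
    [𝔮.IsPrime] (h1 : 𝔭 = 𝔯.comap (algebraMap A C)) (h2 : 𝔯 = 𝔮.comap (algebraMap C B))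
    (h3 : 𝔭 = 𝔮.comap (algebraMap A B)) :
    (Ideal.ResidueField.map 𝔯 𝔮 (algebraMap C B) h2).comp
      (Ideal.ResidueField.map 𝔭 𝔯 (algebraMap A C) h1) =
    Ideal.ResidueField.map 𝔭 𝔮 (algebraMap A B) h3 := by
  apply Ideal.ResidueField.ringHom_ext
  ext a
  simp only [RingHom.comp_apply]
  rw [Ideal.ResidueField.map_algebraMap, Ideal.ResidueField.map_algebraMap,
    Ideal.ResidueField.map_algebraMap, ← IsScalarTower.algebraMap_apply A C B]

end Resid

section Main13838

open AlgebraicGeometry CategoryTheory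

theorem residueFieldsIso_of_closed (A B : Type u) [CommRing A] [CommRing B] [Algebra A B]
    [Algebra.IsIntegral A B]
    (hpi : ∀ p : PrimeSpectrum A, ∃ q : PrimeSpectrum B,
      ∃ hq : p.asIdeal = Ideal.comap (algebraMap A B) q.asIdeal,
      ∀ x : q.asIdeal.ResidueField,
        (∃ n : ℕ, x ^ ringExpChar p.asIdeal.ResidueField ^ n ∈
            Set.range (Ideal.ResidueField.map p.asIdeal q.asIdeal (algebraMap A B) hq)) →
        x ∈ Set.range (Ideal.ResidueField.map p.asIdeal q.asIdeal (algebraMap A B) hq))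
    (C : Subalgebra A B)
    (hC : FlatMor.IsUnivHomeo (Spec.map (CommRingCat.ofHom (algebraMap A C)))) :
    HTop.ResidueFieldsIso (Spec.map (CommRingCat.ofHom (algebraMap A C))) := by
  obtain ⟨hint, hPU, hker⟩ := (isUnivHomeo_iff_alg A C).mp hC
  have hPE : PE A C := by
    apply PE_of_residue_surjective
    intro 𝔭 h𝔭
    obtain ⟨q, hq, hcl⟩ := hpi ⟨𝔭, h𝔭⟩
    haveI := q.isPrime
    have h2 : q.asIdeal.comap (algebraMap C B) = q.asIdeal.comap (algebraMap C B) := rfl
    have h1 : 𝔭 = (q.asIdeal.comap (algebraMap C B)).comap (algebraMap A C) := by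
      rw [Ideal.comap_comap, ← IsScalarTower.algebraMap_eq]
      exact hq
    refine ⟨q.asIdeal.comap (algebraMap C B), inferInstance, h1, ?_⟩
    intro x
    obtain ⟨n, y, hy⟩ := exists_pow_mem_range_of_PU hPU 𝔭 (q.asIdeal.comap (algebraMap C B)) h1 x
    have hcomp := residueField_map_comp (A := A) (C := C) (B := B) 𝔭
      (q.asIdeal.comap (algebraMap C B)) q.asIdeal h1 rfl hq
    have hy' : (Ideal.ResidueField.map (q.asIdeal.comap (algebraMap C B)) q.asIdeal
        (algebraMap C B) rfl x) ^ ringExpChar 𝔭.ResidueField ^ n ∈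
        Set.range (Ideal.ResidueField.map 𝔭 q.asIdeal (algebraMap A B) hq) := by
      refine ⟨y, ?_⟩
      rw [← map_pow, ← hy, ← hcomp]
      rfl
    obtain ⟨z, hz⟩ := hcl _ ⟨n, hy'⟩
    refine ⟨z, ?_⟩
    apply (Ideal.ResidueField.map (q.asIdeal.comap (algebraMap C B)) q.asIdeal
        (algebraMap C B) rfl).injective
    rw [← hz, ← hcomp]
    rfl
  have hres := ((isUnivHomeo_res_iff_alg A C).mpr ⟨hint, hPU, hPE⟩).2
  intro y
  exact (ConcreteCategory.isIso_iff_bijective _).mpr
    ⟨((Spec.map (CommRingCat.ofHom (algebraMap A C))).residueFieldMap y).hom.injective, hres y⟩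

end Main13838

end Groth.Agent.Lib.UnivHomeo
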