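import Mathlib
import Groth.Agent.Lib.UnivHomeo14_helper6
import Groth.Agent.Lib.UnivHomeo15_helper6
set_option autoImplicit false
universe u

namespace Groth.Agent.Lib.UnivHomeo

section RT

open AlgebraicGeometry CategoryTheory

variable {A C : Type u} [CommRing A] [CommRing C] [Algebra A C]

/-- The elements whose residue class at `𝔮` comes from the residue field of `𝔮 ∩ A`. -/
def rcondSubalgebra (𝔮 : Ideal C) [𝔮.IsPrime] : Subalgebra A C where
  carrier := {c | Rcond (𝔮.comap (algebraMap A C)) 𝔮 c}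
  mul_mem' := by
    rintro x y ⟨s, hs, a, hsa⟩ ⟨s', hs', a', hsa'⟩
    refine ⟨s * s', fun h => (Ideal.IsPrime.mem_or_mem inferInstance h).elim hs hs', a * a', ?_⟩
    have e : algebraMap A C (s * s') * (x * y) - algebraMap A C (a * a') =
        (algebraMap A C s * x) * (algebraMap A C s' * y - algebraMap A C a') +
        algebraMap A C a' * (algebraMap A C s * x - algebraMap A C a) := by
      simp only [map_mul]; ring
    rw [e]
    exact 𝔮.add_mem (𝔮.mul_mem_left _ hsa') (𝔮.mul_mem_left _ hsa)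
  add_mem' := by
    rintro x y ⟨s, hs, a, hsa⟩ ⟨s', hs', a', hsa'⟩
    refine ⟨s * s', fun h => (Ideal.IsPrime.mem_or_mem inferInstance h).elim hs hs',
      s' * a + s * a', ?_⟩
    have e : algebraMap A C (s * s') * (x + y) - algebraMap A C (s' * a + s * a') =
        algebraMap A C s' * (algebraMap A C s * x - algebraMap A C a) +
        algebraMap A C s * (algebraMap A C s' * y - algebraMap A C a') := by
      simp only [map_mul, map_add]; ring
    rw [e]
    exact 𝔮.add_mem (𝔮.mul_mem_left _ hsa) (𝔮.mul_mem_left _ hsa')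
  algebraMap_mem' := by
    intro r
    refine ⟨1, fun h => ?_, r, ?_⟩
    · have h1 : algebraMap A C 1 ∈ 𝔮 := h
      rw [map_one] at h1
      exact (Ideal.ne_top_iff_one 𝔮).mp (Ideal.IsPrime.ne_top inferInstance) h1
    · rw [map_one, one_mul, sub_self]
      exact 𝔮.zero_mem

variable (A C) in
/-- All residue field extensions of `A → C` are trivial, in elementary terms. -/
def RT : Prop := ∀ (𝔮 : Ideal C) [𝔮.IsPrime] (c : C), Rcond (𝔮.comap (algebraMap A C)) 𝔮 c

/-- Transfer of `Rcond` along an algebra map. -/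
theorem Rcond.map {T : Type u} [CommRing T] [Algebra A T] (f : T →ₐ[A] C) (𝔮 : Ideal C) (t : T)
    (h : Rcond ((𝔮.comap f).comap (algebraMap A T)) (𝔮.comap f) t) :
    Rcond (𝔮.comap (algebraMap A C)) 𝔮 (f t) := by
  obtain ⟨s, hs, a, hsa⟩ := h
  refine ⟨s, fun hs' => hs ?_, a, ?_⟩
  · change f (algebraMap A T s) ∈ 𝔮
    rw [f.commutes]
    exact hs'
  · have : f (algebraMap A T s * t - algebraMap A T a) ∈ 𝔮 := hsa
    rwa [map_sub, map_mul, f.commutes, f.commutes] at this

theorem RT_range {B : Type u} [CommRing B] [Algebra A B] (g : C →ₐ[A] B) (h : RT A C) :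
    RT A g.range := by
  intro 𝔮 _ y
  obtain ⟨c, hc⟩ : ∃ c, g.rangeRestrict c = y := g.rangeRestrict_surjective y
  rw [← hc]
  exact Rcond.map g.rangeRestrict 𝔮 c (h (𝔮.comap g.rangeRestrict) c)

theorem RT_sup {B : Type u} [CommRing B] [Algebra A B] {S T : Subalgebra A B}
    (hS : RT A S) (hT : RT A T) : RT A ↥(S ⊔ T) := by
  intro 𝔮 _ x
  have hle : S ⊔ T ≤ (rcondSubalgebra (A := A) 𝔮).map (S ⊔ T).val := by
    refine sup_le ?_ ?_
    · intro s hs
      refine ⟨⟨s, le_sup_left (a := S) hs⟩, ?_, rfl⟩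
      exact Rcond.map (Subalgebra.inclusion (le_sup_left : S ≤ S ⊔ T)) 𝔮 ⟨s, hs⟩
        (hS (𝔮.comap (Subalgebra.inclusion (le_sup_left : S ≤ S ⊔ T))) ⟨s, hs⟩)
    · intro t ht
      refine ⟨⟨t, le_sup_right (b := T) ht⟩, ?_, rfl⟩
      exact Rcond.map (Subalgebra.inclusion (le_sup_right : T ≤ S ⊔ T)) 𝔮 ⟨t, ht⟩
        (hT (𝔮.comap (Subalgebra.inclusion (le_sup_right : T ≤ S ⊔ T))) ⟨t, ht⟩)
  obtain ⟨y, hy, hyx⟩ := hle x.2
  have : y = x := Subtype.ext hyx
  rw [← this]
  exact hy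

theorem RT_of_cover {B : Type u} [CommRing B] [Algebra A B] (S : Subalgebra A B)
    (h : ∀ x ∈ S, ∃ T : Subalgebra A B, ∃ hT : T ≤ S, RT A T ∧ x ∈ T) : RT A S := by
  intro 𝔮 _ x
  obtain ⟨T, hTS, hT, hx⟩ := h x.1 x.2
  exact Rcond.map (Subalgebra.inclusion hTS) 𝔮 ⟨x.1, hx⟩
    (hT (𝔮.comap (Subalgebra.inclusion hTS)) ⟨x.1, hx⟩)

/-- `RT` gives existence of extensions of field-valued points. -/
theorem PE_of_RT [Algebra.IsIntegral A C] (hker : RingHom.ker (algebraMap A C) ≤ nilradical A)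
    (h : RT A C) : PE A C := by
  apply PE_of_residue_surjective
  intro 𝔭 h𝔭
  have hle : (⊥ : Ideal C).comap (algebraMap A C) ≤ 𝔭 := by
    intro a ha
    have h1 : a ∈ RingHom.ker (algebraMap A C) := ha
    have h2 := hker h1
    rw [mem_nilradical, nilpotent_iff_mem_prime] at h2
    exact h2 _ h𝔭
  obtain ⟨𝔯, -, h𝔯p, h𝔯⟩ := Ideal.exists_ideal_over_prime_of_isIntegral 𝔭 (⊥ : Ideal C) hle
  refine ⟨𝔯, h𝔯p, h𝔯.symm, ?_⟩
  let m : 𝔭.ResidueField →+* 𝔯.ResidueField :=
    Ideal.ResidueField.map 𝔭 𝔯 (algebraMap A C) h𝔯.symm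
  have hm : ∀ a : A, m (algebraMap A 𝔭.ResidueField a) =
      algebraMap C 𝔯.ResidueField (algebraMap A C a) :=
    fun a => Ideal.ResidueField.map_algebraMap 𝔭 𝔯 (algebraMap A C) h𝔯.symm a
  have hC : ∀ c : C, algebraMap C 𝔯.ResidueField c ∈ m.fieldRange := by
    intro c
    obtain ⟨s, hs, a, hsa⟩ := h 𝔯 c
    rw [h𝔯] at hs
    have hs0 : algebraMap A 𝔭.ResidueField s ≠ 0 := by
      rwa [Ne, Ideal.algebraMap_residueField_eq_zero]
    have h0 : algebraMap C 𝔯.ResidueField (algebraMap A C s * c - algebraMap A C a) = 0 :=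
      Ideal.algebraMap_residueField_eq_zero.mpr hsa
    rw [map_sub, map_mul, ← hm, ← hm, sub_eq_zero] at h0
    have hms0 : m (algebraMap A 𝔭.ResidueField s) ≠ 0 := by
      rwa [Ne, map_eq_zero_iff m m.injective]
    have : algebraMap C 𝔯.ResidueField c =
        m (algebraMap A 𝔭.ResidueField a / algebraMap A 𝔭.ResidueField s) := by
      rw [map_div₀, eq_div_iff hms0, mul_comm]
      exact h0
    rw [this]
    exact ⟨_, rfl⟩
  intro y
  obtain ⟨b, s, hs, hsy⟩ := residueField_exists_frac 𝔯 y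
  have hs0 : algebraMap C 𝔯.ResidueField s ≠ 0 := by
    rwa [Ne, Ideal.algebraMap_residueField_eq_zero]
  have hy : y = algebraMap C 𝔯.ResidueField b / algebraMap C 𝔯.ResidueField s := by
    rw [eq_div_iff hs0, mul_comm]
    exact hsy
  have hy' : y ∈ m.fieldRange := by
    rw [hy]
    exact m.fieldRange.div_mem (hC b) (hC s)
  exact hy'

/-- Conversely, existence and uniqueness of extensions give `RT`. -/
theorem RT_of_PE (hspec : Function.Injective (PrimeSpectrum.comap (algebraMap A C)))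
    (hPE : PE A C) : RT A C := by
  intro 𝔮 h𝔮p c
  obtain ⟨ψ, hψ⟩ := hPE (𝔮.comap (algebraMap A C)).ResidueField
    (algebraMap A (𝔮.comap (algebraMap A C)).ResidueField)
  have hker : RingHom.ker ψ = 𝔮 := by
    haveI : (RingHom.ker ψ).IsPrime := RingHom.ker_isPrime ψ
    have h1 : (RingHom.ker ψ).comap (algebraMap A C) = 𝔮.comap (algebraMap A C) := by
      ext a
      rw [Ideal.mem_comap, RingHom.mem_ker, ← RingHom.comp_apply, hψ,
        Ideal.algebraMap_residueField_eq_zero]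
    have := @hspec ⟨RingHom.ker ψ, inferInstance⟩ ⟨𝔮, h𝔮p⟩ (by
      apply PrimeSpectrum.ext
      exact h1)
    exact congrArg PrimeSpectrum.asIdeal this
  obtain ⟨a, s, hs, hsa⟩ := residueField_exists_frac (𝔮.comap (algebraMap A C)) (ψ c)
  refine ⟨s, hs, a, ?_⟩
  have e1 : ∀ x : A, ψ (algebraMap A C x) =
      algebraMap A (𝔮.comap (algebraMap A C)).ResidueField x := fun x => by
    rw [← hψ]; rfl
  rw [← hker, RingHom.mem_ker, map_sub, map_mul, e1, e1, hsa, sub_self]

end RT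

section SN

open AlgebraicGeometry CategoryTheory

variable {A B : Type u} [CommRing A] [CommRing B] [Algebra A B]

/-- Subalgebras which are "universal homeomorphisms with trivial residue fields" over `A`. -/
def UHs' (S : Subalgebra A B) : Prop := UHs S ∧ RT A S

theorem UHs'.sup {S T : Subalgebra A B} (hS : UHs' S) (hT : UHs' T) : UHs' (S ⊔ T) :=
  ⟨hS.1.sup hT.1, RT_sup hS.2 hT.2⟩

variable (A B) in
/-- The seminormalization of `A` in `B`. -/
def snSubalgebra : Subalgebra A B where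
  carrier := {b | ∃ S : Subalgebra A B, UHs' S ∧ b ∈ S}
  mul_mem' := by
    rintro x y ⟨S, hS, hx⟩ ⟨T, hT, hy⟩
    exact ⟨S ⊔ T, hS.sup hT, mul_mem (le_sup_left (a := S) hx) (le_sup_right (b := T) hy)⟩
  add_mem' := by
    rintro x y ⟨S, hS, hx⟩ ⟨T, hT, hy⟩
    exact ⟨S ⊔ T, hS.sup hT, add_mem (le_sup_left (a := S) hx) (le_sup_right (b := T) hy)⟩
  algebraMap_mem' := fun r => ⟨⊥, ⟨⟨fun x hx => by
      obtain ⟨a, rfl⟩ := Algebra.mem_bot.mp hx
      exact isIntegral_algebraMap, by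
      intro K _ ψ₁ ψ₂ h12
      ext x
      obtain ⟨a, ha⟩ := Algebra.mem_bot.mp x.2
      have : x = algebraMap A (⊥ : Subalgebra A B) a := Subtype.ext ha.symm
      rw [this]
      exact congr($h12 a)⟩, by
      intro 𝔮 _ x
      obtain ⟨a, ha⟩ := Algebra.mem_bot.mp x.2
      have : x = algebraMap A (⊥ : Subalgebra A B) a := Subtype.ext ha.symm
      rw [this]
      exact (rcondSubalgebra (A := A) 𝔮).algebraMap_mem a⟩, Subalgebra.algebraMap_mem _ r⟩

theorem le_snSubalgebra {S : Subalgebra A B} (hS : UHs' S) : S ≤ snSubalgebra A B :=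
  fun _ hx => ⟨S, hS, hx⟩

theorem UHs'_snSubalgebra : UHs' (snSubalgebra A B) := by
  refine ⟨⟨?_, PU_of_cover _ ?_⟩, RT_of_cover _ ?_⟩
  · rintro x ⟨S, hS, hx⟩
    exact hS.1.1 x hx
  · rintro x ⟨S, hS, hx⟩
    exact ⟨S, le_snSubalgebra hS, hS.1.2, hx⟩
  · rintro x ⟨S, hS, hx⟩
    exact ⟨S, le_snSubalgebra hS, hS.2, hx⟩

/-- Existence of the relative seminormalization. -/
theorem exists_sn (hker : RingHom.ker (algebraMap A B) ≤ nilradical A) :
    ∃ B' : Subalgebra A B,
      (FlatMor.IsUnivHomeo (Spec.map (CommRingCat.ofHom (algebraMap A B'))) ∧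
        ∀ x : Spec (CommRingCat.of B'), Function.Surjective
          ((Spec.map (CommRingCat.ofHom (algebraMap A B'))).residueFieldMap x)) ∧
      ∀ (C : Type u) [CommRing C] [Algebra A C] (g : C →ₐ[A] B),
        FlatMor.IsUnivHomeo (Spec.map (CommRingCat.ofHom (algebraMap A C))) →
        (∀ x : Spec (CommRingCat.of C), Function.Surjective
          ((Spec.map (CommRingCat.ofHom (algebraMap A C))).residueFieldMap x)) →
        g.range ≤ B' := by
  refine ⟨snSubalgebra A B, ?_, ?_⟩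
  · have h := UHs'_snSubalgebra (A := A) (B := B)
    have hU := isUnivHomeo_of_UHs hker h.1
    obtain ⟨hint, hPU, hker'⟩ := (isUnivHomeo_iff_alg A (snSubalgebra A B)).mp hU
    exact (isUnivHomeo_res_iff_alg A (snSubalgebra A B)).mpr ⟨hint, hPU, PE_of_RT hker' h.2⟩
  · intro C _ _ g hC hres
    obtain ⟨hint, hPU, hPE⟩ := (isUnivHomeo_res_iff_alg A C).mp ⟨hC, hres⟩
    obtain ⟨-, hspec, -⟩ := facts_of_isUnivHomeo hC
    exact le_snSubalgebra ⟨UHs_range g hint hPU, RT_range g (RT_of_PE hspec hPE)⟩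

end SN

end Groth.Agent.Lib.UnivHomeo
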