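import Mathlib
import Groth.Agent.Lib.UnivHomeo25_helper6
import Groth.Prelude.Def_Pi1
set_option autoImplicit false
universe u

namespace Groth.Agent.Lib.UnivHomeo

section NormalSN

open AlgebraicGeometry CategoryTheory MorphismProperty Limits

/-- Integrally closed domains are seminormal. -/
theorem isSeminormalRing_of_isIntegrallyClosed {A : Type u} [CommRing A] [IsDomain A]
    [IsIntegrallyClosed A] : HTop.IsSeminormalRing A := by
  apply isSeminormalRing_of_exists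
  intro x y hxy
  by_cases hx : x = 0
  · subst hx
    have hy : y = 0 := by
      have : y ^ 2 = 0 := by rw [← hxy]; ring
      exact pow_eq_zero_iff (two_ne_zero) |>.mp this
    exact ⟨0, by simp, by simp [hy]⟩
  · have hdvd : x ^ 2 ∣ y ^ 2 := ⟨x, by rw [← hxy]; ring⟩
    obtain ⟨c, rfl⟩ := (IsIntegrallyClosed.pow_dvd_pow_iff two_ne_zero).mp hdvd
    have hxc : x = c ^ 2 := by
      have h2 : x ^ 2 * x = x ^ 2 * c ^ 2 := by rw [← mul_pow, ← hxy]; ring
      exact mul_left_cancel₀ (pow_ne_zero 2 hx) h2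
    refine ⟨c, hxc, ?_⟩
    nth_rewrite 1 [hxc]; ring

/-- Seminormality of a reduced ring can be checked on localizations at primes. -/
theorem isSeminormalRing_of_localizations {A : Type u} [CommRing A] [IsReduced A]
    (H : ∀ (𝔭 : Ideal A) [𝔭.IsPrime], ∃ (B : Type u) (_ : CommRing B) (_ : Algebra A B)
      (_ : IsLocalization.AtPrime B 𝔭), HTop.IsSeminormalRing B) : HTop.IsSeminormalRing A := by
  apply isSeminormalRing_of_exists
  intro x y hxy
  have red : ∀ u v : A, u ^ 2 = v ^ 2 → u ^ 3 = v ^ 3 → u = v := fun u v h2 h3 =>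
    eq_of_sq_eq_of_cube_eq_of_isReduced h2 h3
  let J : Ideal A :=
    { carrier := {s | ∃ a, a ^ 2 = x * s ^ 2 ∧ a ^ 3 = y * s ^ 3}
      zero_mem' := ⟨0, by ring, by ring⟩
      add_mem' := by
        rintro s₁ s₂ ⟨a₁, h1, h1'⟩ ⟨a₂, h2, h2'⟩
        have e1 : a₁ * a₂ = x * s₁ * s₂ := by
          apply red
          · rw [mul_pow, h1, h2]; ring
          · rw [mul_pow, h1', h2']
            have : (x * s₁ * s₂) ^ 3 = x ^ 3 * s₁ ^ 3 * s₂ ^ 3 := by ring
            rw [this, hxy]; ring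
        have e2 : ∀ a s : A, a ^ 2 = x * s ^ 2 → a ^ 3 = y * s ^ 3 → x * a = y * s := by
          intro a s h h'
          apply red
          · rw [mul_pow, h, mul_pow, ← hxy]; ring
          · rw [mul_pow, h', mul_pow]
            have : x ^ 3 * (y * s ^ 3) = y ^ 2 * (y * s ^ 3) := by rw [hxy]
            rw [this]; ring
        refine ⟨a₁ + a₂, ?_, ?_⟩
        · have : (a₁ + a₂) ^ 2 = a₁ ^ 2 + 2 * (a₁ * a₂) + a₂ ^ 2 := by ring
          rw [this, h1, h2, e1]; ring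
        · have : (a₁ + a₂) ^ 3 = a₁ ^ 3 + 3 * (a₁ ^ 2 * a₂) + 3 * (a₁ * a₂ ^ 2) + a₂ ^ 3 := by ring
          rw [this, h1, h2, h1', h2']
          have t1 : x * s₁ ^ 2 * a₂ = s₁ ^ 2 * (x * a₂) := by ring
          have t2 : a₁ * (x * s₂ ^ 2) = s₂ ^ 2 * (x * a₁) := by ring
          rw [t1, t2, e2 a₂ s₂ h2 h2', e2 a₁ s₁ h1 h1']; ring
      smul_mem' := by
        rintro r s ⟨a, h, h'⟩
        refine ⟨r * a, ?_, ?_⟩
        · rw [mul_pow, h, smul_eq_mul]; ring
        · rw [mul_pow, h', smul_eq_mul]; ring }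
  have hJ : J = ⊤ := by
    by_contra hne
    obtain ⟨𝔪, h𝔪, hle⟩ := Ideal.exists_le_maximal J hne
    haveI := h𝔪.isPrime
    obtain ⟨B, _, _, _, hB⟩ := H 𝔪
    obtain ⟨d, ⟨hd2, hd3⟩, -⟩ := hB (algebraMap A B x) (algebraMap A B y) (by
      rw [← map_pow, ← map_pow, hxy])
    obtain ⟨⟨a₀, s₀⟩, hs₀⟩ := IsLocalization.surj 𝔪.primeCompl d
    simp only at hs₀
    have h2 : algebraMap A B (a₀ ^ 2) = algebraMap A B (x * (s₀ : A) ^ 2) := by
      rw [map_pow, ← hs₀, map_mul, map_pow, hd2]; ring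
    have h3 : algebraMap A B (a₀ ^ 3) = algebraMap A B (y * (s₀ : A) ^ 3) := by
      rw [map_pow, ← hs₀, map_mul, map_pow, hd3]; ring
    obtain ⟨m, hm⟩ := (IsLocalization.eq_iff_exists 𝔪.primeCompl B).mp h2
    obtain ⟨m', hm'⟩ := (IsLocalization.eq_iff_exists 𝔪.primeCompl B).mp h3
    have hmem : (s₀ : A) * ((m : A) * (m' : A)) ∈ J := by
      refine ⟨a₀ * ((m : A) * (m' : A)), ?_, ?_⟩
      · have : (a₀ * ((m : A) * (m' : A))) ^ 2 = (m : A) * (m' : A) ^ 2 * ((m : A) * a₀ ^ 2) := by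
          ring
        rw [this, hm]; ring
      · have : (a₀ * ((m : A) * (m' : A))) ^ 3 =
            (m : A) ^ 3 * (m' : A) ^ 2 * ((m' : A) * a₀ ^ 3) := by ring
        rw [this, hm']; ring
    have := hle hmem
    rcases h𝔪.isPrime.mem_or_mem this with h | h
    · exact s₀.2 h
    · rcases h𝔪.isPrime.mem_or_mem h with h | h
      · exact m.2 h
      · exact m'.2 h
  have h1 : (1 : A) ∈ J := by rw [hJ]; trivial
  obtain ⟨a, ha2, ha3⟩ := h1
  exact ⟨a, by rw [ha2]; ring, by rw [ha3]; ring⟩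

/-- Normal schemes are seminormal. -/
theorem isSeminormal_of_isNormalScheme {X : Scheme.{u}} (hn : Pi1.IsNormalScheme X) :
    HTop.IsSeminormal X := by
  haveI : ∀ x : X, _root_.IsReduced (X.presheaf.stalk x) := fun x => by
    haveI := (hn x).1
    infer_instance
  haveI : IsReduced X := isReduced_of_isReduced_stalk X
  intro x
  obtain ⟨_, ⟨U, hU, rfl⟩, hxU, -⟩ :=
    X.isBasis_affineOpens.exists_subset_of_mem_open (Set.mem_univ x) isOpen_univ
  refine ⟨⟨U, hU⟩, hxU, ?_⟩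
  apply isSeminormalRing_of_localizations
  intro 𝔭 h𝔭
  letI : Algebra Γ(X, U) (X.presheaf.stalk (hU.fromSpec ⟨𝔭, h𝔭⟩)) :=
    TopCat.Presheaf.algebra_section_stalk X.presheaf _
  have hloc : IsLocalization.AtPrime (X.presheaf.stalk (hU.fromSpec ⟨𝔭, h𝔭⟩)) 𝔭 :=
    hU.isLocalization_stalk' ⟨𝔭, h𝔭⟩ (hU.isoSpec.inv _).2
  haveI := (hn (hU.fromSpec ⟨𝔭, h𝔭⟩)).1
  haveI := (hn (hU.fromSpec ⟨𝔭, h𝔭⟩)).2
  exact ⟨_, _, _, hloc, isSeminormalRing_of_isIntegrallyClosed⟩

end NormalSN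

end Groth.Agent.Lib.UnivHomeo
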