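import Mathlib
import Groth.Agent.Lib.UnivHomeo28_helper6
import Groth.Agent.Lib.UnivHomeo24_helper6
set_option autoImplicit false
universe u

namespace Groth.Agent.Lib.UnivHomeo

section AWNsch

open AlgebraicGeometry CategoryTheory MorphismProperty Limits

theorem isSeminormal_of_isAWN {X : Scheme.{u}} (hX : HTop.IsAWN X) : HTop.IsSeminormal X := by
  intro x
  obtain ⟨U, hxU, hU⟩ := hX x
  exact ⟨U, hxU, hU.1⟩

theorem isReduced_of_isAWN {X : Scheme.{u}} (hX : HTop.IsAWN X) : IsReduced X :=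
  isReduced_of_isSeminormal (isSeminormal_of_isAWN hX)

/-- A universal homeomorphism from a reduced scheme to an absolutely weakly normal scheme is an
isomorphism. -/
theorem isIso_of_isAWN {Y X : Scheme.{u}} (f : Y ⟶ X) [IsReduced Y]
    (hX : HTop.IsAWN X) (hf : FlatMor.IsUnivHomeo f) : IsIso f := by
  haveI : IsAffineHom f := by
    have := ((isUnivHomeo_iff_isIntegralHom f).mp hf).1
    infer_instance
  choose V hxV hV using hX
  change (MorphismProperty.isomorphisms Scheme) f
  apply IsZariskiLocalAtTarget.of_iSup_eq_top (P := MorphismProperty.isomorphisms Scheme)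
    (fun x : X => ((V x : X.affineOpens) : X.Opens)) (by
      rw [eq_top_iff]
      rintro x -
      exact TopologicalSpace.Opens.mem_iSup.mpr ⟨x, hxV x⟩)
  intro x₀
  set U : X.affineOpens := V x₀ with hUdef
  change IsIso (f ∣_ (U : X.Opens))
  haveI : IsAffine ((U : X.Opens) : Scheme.{u}) := U.2
  haveI : IsAffine ((f ⁻¹ᵁ (U : X.Opens) : Y.Opens) : Scheme.{u}) := U.2.preimage f
  have hU := isUnivHomeo_morphismRestrict f hf (U : X.Opens)
  have hU' : FlatMor.IsUnivHomeo (Spec.map (f ∣_ (U : X.Opens)).appTop) := by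
    have : (MorphismProperty.universally
        (AlgebraicGeometry.topologically (fun f => IsHomeomorph f)))
        (Spec.map (f ∣_ (U : X.Opens)).appTop) :=
      ((MorphismProperty.universally _).arrow_mk_iso_iff
        (arrowIsoSpecΓOfIsAffine (f ∣_ (U : X.Opens)))).mp hU
    exact this
  have hA : HTop.IsAWNRing Γ(((U : X.Opens) : Scheme.{u}), ⊤) :=
    isAWNRing_of_ringEquiv
      (Scheme.Opens.topIso (U : X.Opens)).commRingCatIsoToRingEquiv (hV x₀)
  have hbij : Function.Bijective (f ∣_ (U : X.Opens)).appTop.hom :=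
    bijective_of_isAWNRing _ hU' hA
  haveI : IsIso (f ∣_ (U : X.Opens)).appTop :=
    (ConcreteCategory.isIso_iff_bijective _).mpr hbij
  have h3 : IsIso (Spec.map (f ∣_ (U : X.Opens)).appTop) := inferInstance
  exact ((MorphismProperty.isomorphisms Scheme).arrow_mk_iso_iff
    (arrowIsoSpecΓOfIsAffine (f ∣_ (U : X.Opens)))).mpr h3

/-- Absolutely weakly normal schemes lift uniquely along universal homeomorphisms. -/
theorem existsUnique_lift_of_isAWN {W Y U : Scheme.{u}} (hW : HTop.IsAWN W)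
    (π : Y ⟶ U) (hπ : FlatMor.IsUnivHomeo π) (g : W ⟶ U) :
    ∃! h : W ⟶ Y, h ≫ π = g := by
  haveI := isReduced_of_isAWN hW
  obtain ⟨h1, h2, -⟩ := (isUnivHomeo_iff_isIntegralHom π).mp hπ
  haveI : IsIntegralHom π := h1
  haveI : UniversallyInjective π := h2
  have hpb : IsPullback (pullback.fst π g) (pullback.snd π g) π g := IsPullback.of_hasPullback π g
  have hpU := isUnivHomeo_of_isPullback hpb hπ
  haveI : IsReduced (pullback π g).nilradical.subscheme :=
    Groth.Agent.Lib.RedFibre.isReduced_nilradical_subscheme _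
  haveI : IsIso ((pullback π g).nilradical.subschemeι ≫ pullback.snd π g) :=
    isIso_of_isAWN _ hW (isUnivHomeo_comp _ _ (isUnivHomeo_nilradical_subschemeι _) hpU)
  have hex : (inv ((pullback π g).nilradical.subschemeι ≫ pullback.snd π g) ≫
      (pullback π g).nilradical.subschemeι ≫ pullback.fst π g) ≫ π = g := by
    rw [Category.assoc, Category.assoc, pullback.condition, ← Category.assoc _ _ g,
      IsIso.inv_hom_id_assoc]
  refine ⟨_, hex, ?_⟩
  intro h' hh'
  exact eq_of_comp_eq_of_universallyInjective π _ _ (hh'.trans hex.symm)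

theorem isAWN_of_iso {X Y : Scheme.{u}} (e : X ≅ Y) (hY : HTop.IsAWN Y) : HTop.IsAWN X := by
  intro x
  obtain ⟨V, hxV, hV⟩ := hY (e.hom x)
  refine ⟨⟨e.hom ⁻¹ᵁ V, V.2.preimage_of_isIso e.hom⟩, hxV, ?_⟩
  exact isAWNRing_of_ringEquiv (asIso (e.hom.app V)).commRingCatIsoToRingEquiv.symm hV

/-- A universal homeomorphism with absolutely weakly normal source is an absolute weak
normalization. -/
theorem isAWNormalization_of_isAWN {X' X : Scheme.{u}} (ν : X' ⟶ X)
    (hU : FlatMor.IsUnivHomeo ν) (hX' : HTop.IsAWN X') : HTop.IsAWNormalization ν :=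
  ⟨hU, fun _ π hπ => existsUnique_lift_of_isAWN hX' π hπ ν⟩

/-- Existence of the absolute weak normalization. -/
theorem exists_isAWNormalization (X : Scheme.{u}) :
    ∃ (X' : Scheme.{u}) (ν : X' ⟶ X), HTop.IsAWNormalization ν ∧ HTop.IsAWN X' :=
  ⟨awnScheme X, awnHom X,
    isAWNormalization_of_isAWN _ (isUnivHomeo_awnHom X) (isAWN_awnScheme X), isAWN_awnScheme X⟩

/-- The source of any absolute weak normalization is absolutely weakly normal. -/
theorem isAWN_of_isAWNormalization {X' X : Scheme.{u}} (ν : X' ⟶ X)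
    (hν : HTop.IsAWNormalization ν) : HTop.IsAWN X' := by
  obtain ⟨X'', ν', hν', hX''⟩ := exists_isAWNormalization X
  obtain ⟨a, ha, -⟩ := hν.2 X'' ν' hν'.1
  obtain ⟨b, hb, -⟩ := hν'.2 X' ν hν.1
  obtain ⟨i, -, hi⟩ := hν.2 X' ν hν.1
  obtain ⟨j, -, hj⟩ := hν'.2 X'' ν' hν'.1
  have hab : a ≫ b = 𝟙 X' :=
    (hi (a ≫ b) (by show (a ≫ b) ≫ ν = ν; rw [Category.assoc, hb, ha])).trans (hi (𝟙 X') (Category.id_comp ν)).symm
  have hba : b ≫ a = 𝟙 X'' :=
    (hj (b ≫ a) (by show (b ≫ a) ≫ ν' = ν'; rw [Category.assoc, ha, hb])).trans (hj (𝟙 X'') (Category.id_comp ν')).symm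
  exact isAWN_of_iso ⟨a, b, hab, hba⟩ hX''

end AWNsch

end Groth.Agent.Lib.UnivHomeo
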