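import Mathlib
import Groth.Prelude.Def_CAlgX

open TensorProduct

namespace Groth.Agent.Lib.UnivInjFF

universe u

theorem main (A A' : Type u) [CommRing A] [CommRing A']
    [Algebra A A'] [Module.FaithfullyFlat A A'] {M N : Type u} [AddCommGroup M] [Module A M]
    [AddCommGroup N] [Module A N] (u : M →ₗ[A] N) :
    CAlgX.UniversallyInjective A u ↔ CAlgX.UniversallyInjective A' (u.baseChange A') := by
  classical
  constructor
  · intro hu Q' _ _
    letI : Module A Q' := Module.compHom Q' (algebraMap A A')
    haveI : IsScalarTower A A' Q' := IsScalarTower.of_algebraMap_smul fun _ _ => rfl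
    have hinj := hu Q'
    -- the comparison isomorphisms
    let eM : (A' ⊗[A] M) ⊗[A'] Q' ≃ₗ[A] M ⊗[A] Q' :=
      ((TensorProduct.comm A' (A' ⊗[A] M) Q').restrictScalars A) ≪≫ₗ
        ((TensorProduct.AlgebraTensorModule.cancelBaseChange A A' A' Q' M).restrictScalars A) ≪≫ₗ
        TensorProduct.comm A Q' M
    let eN : (A' ⊗[A] N) ⊗[A'] Q' ≃ₗ[A] N ⊗[A] Q' :=
      ((TensorProduct.comm A' (A' ⊗[A] N) Q').restrictScalars A) ≪≫ₗ
        ((TensorProduct.AlgebraTensorModule.cancelBaseChange A A' A' Q' N).restrictScalars A) ≪≫ₗ
        TensorProduct.comm A Q' N
    have hnat : ∀ z, eN (((u.baseChange A').rTensor Q') z) = (u.rTensor Q') (eM z) := by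
      intro z
      induction z using TensorProduct.induction_on with
      | zero => simp
      | add x y hx hy => rw [map_add, map_add, map_add, map_add, hx, hy]
      | tmul x q =>
        induction x using TensorProduct.induction_on with
        | zero => simp
        | add x y hx hy =>
          rw [TensorProduct.add_tmul, map_add, map_add, map_add, map_add, hx, hy]
        | tmul a m =>
          simp [eM, eN]
    intro z w hzw
    apply eM.injective
    apply hinj
    rw [← hnat, ← hnat, hzw]
  · intro hu Q _ _
    have hinj := hu (A' ⊗[A] Q)
    rw [← Module.FaithfullyFlat.lTensor_injective_iff_injective A A']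
    have hnat : ∀ z, (TensorProduct.AlgebraTensorModule.distribBaseChange A A' N Q)
        (((u.rTensor Q).lTensor A') z) =
        ((u.baseChange A').rTensor (A' ⊗[A] Q))
          ((TensorProduct.AlgebraTensorModule.distribBaseChange A A' M Q) z) := by
      intro z
      induction z using TensorProduct.induction_on with
      | zero => simp
      | add x y hx hy => rw [map_add, map_add, map_add, map_add, hx, hy]
      | tmul a x =>
        induction x using TensorProduct.induction_on with
        | zero => simp
        | add x y hx hy =>
          rw [TensorProduct.tmul_add, map_add, map_add, map_add, map_add, hx, hy]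
        | tmul m q =>
          simp
    intro z w hzw
    apply (TensorProduct.AlgebraTensorModule.distribBaseChange A A' M Q).injective
    apply hinj
    rw [← hnat, ← hnat, hzw]

end Groth.Agent.Lib.UnivInjFF
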