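import Mathlib
import Groth.Prelude.Def_FlatCA
import Groth.Agent.Lib.KaplanskyLocal_lead
import Groth.Agent.Lib.AssFiberTensor_lead

/-!
# Universally injective maps on projective modules over a local ring (helper3)

For a local ring `R`, an `R`-algebra `S` and an `S`-module `N` projective over `R`: an element of `S`
acting injectively on the closed fibre module acts `R`-universally injectively on `N`, and `N` maps
universally injectively to its localization at all such elements.
-/

set_option autoImplicit false
universe u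

namespace Groth.Agent.Lib.UnivInjFibH3

open TensorProduct Function

section Finsupp

variable {R : Type u} [CommRing R]

theorem range_lTensor_mono (Q : Type u) [AddCommGroup Q] [Module R Q] {M : Type u}
    [AddCommGroup M] [Module R M] {A B : Submodule R M} (h : A ≤ B) :
    LinearMap.range (A.subtype.lTensor Q) ≤ LinearMap.range (B.subtype.lTensor Q) := by
  have : A.subtype = B.subtype ∘ₗ Submodule.inclusion h := by
    ext x
    rfl
  rw [this, LinearMap.lTensor_comp]
  exact LinearMap.range_comp_le_range _ _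

theorem inj_lTensor_equiv {A B : Type u} [AddCommGroup A] [Module R A] [AddCommGroup B]
    [Module R B] (e : A ≃ₗ[R] B) (P : Type u) [AddCommGroup P] [Module R P] :
    Injective (e.toLinearMap.lTensor P) :=
  (e.lTensor P).injective

variable {ι : Type u}

theorem exists_finset_mem_range (Q : Type u) [AddCommGroup Q] [Module R Q]
    (x : Q ⊗[R] (ι →₀ R)) :
    ∃ J : Finset ι,
      x ∈ LinearMap.range ((Finsupp.supported R R (J : Set ι)).subtype.lTensor Q) := by
  classical
  induction x using TensorProduct.induction_on with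
  | zero => exact ⟨∅, Submodule.zero_mem _⟩
  | tmul q n =>
    refine ⟨n.support, ⟨q ⊗ₜ ⟨n, ?_⟩, ?_⟩⟩
    · rw [Finsupp.mem_supported]
    · simp
  | add x y hx hy =>
    obtain ⟨J1, h1⟩ := hx
    obtain ⟨J2, h2⟩ := hy
    refine ⟨J1 ∪ J2, Submodule.add_mem _
      (range_lTensor_mono Q (Finsupp.supported_mono ?_) h1)
      (range_lTensor_mono Q (Finsupp.supported_mono ?_) h2)⟩
    · simp
    · simp

theorem exists_finset_map_le (ψ : (ι →₀ R) →ₗ[R] (ι →₀ R)) (J : Finset ι) :
    ∃ J' : Finset ι, ∀ x ∈ Finsupp.supported R R (J : Set ι),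
      ψ x ∈ Finsupp.supported R R (J' : Set ι) := by
  classical
  refine ⟨J.biUnion fun i => (ψ (Finsupp.single i 1)).support, ?_⟩
  intro x hx
  rw [Finsupp.supported_eq_span_single] at hx
  have hle : Submodule.span R ((fun i => Finsupp.single i (1 : R)) '' (J : Set ι)) ≤
      (Finsupp.supported R R
        ((J.biUnion fun i => (ψ (Finsupp.single i 1)).support : Finset ι) : Set ι)).comap ψ := by
    rw [Submodule.span_le]
    rintro _ ⟨i, hi, rfl⟩
    simp only [Submodule.comap_coe, Set.mem_preimage, SetLike.mem_coe, Finsupp.mem_supported]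
    intro j hj
    simp only [Finset.coe_biUnion, Set.mem_iUnion]
    exact ⟨i, hi, hj⟩
  exact hle hx

theorem inj_lTensor_supported (K : Set ι) (P : Type u) [AddCommGroup P] [Module R P] :
    Injective ((Finsupp.supported R R K).subtype.lTensor P) := by
  classical
  have h : (Finsupp.restrictDom R R K).lTensor P ∘ₗ (Finsupp.supported R R K).subtype.lTensor P =
      LinearMap.id := by
    rw [← LinearMap.lTensor_comp, Finsupp.restrictDom_comp_subtype, LinearMap.lTensor_id]
  exact Function.LeftInverse.injective (g := (Finsupp.restrictDom R R K).lTensor P)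
    (fun x => LinearMap.congr_fun h x)

variable [IsLocalRing R]

omit [IsLocalRing R] in
theorem inj_lTensor_of_retraction {A B : Type u} [AddCommGroup A] [Module R A] [AddCommGroup B]
    [Module R B] (i : A →ₗ[R] B) (r : B →ₗ[R] A) (h : r ∘ₗ i = LinearMap.id)
    (P : Type u) [AddCommGroup P] [Module R P] : Injective (i.lTensor P) := by
  have h' : r.lTensor P ∘ₗ i.lTensor P = LinearMap.id := by
    rw [← LinearMap.lTensor_comp, h, LinearMap.lTensor_id]
  exact Function.LeftInverse.injective (g := r.lTensor P) (fun x => LinearMap.congr_fun h' x)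

theorem core {M M' F F' : Type u} [AddCommGroup M] [Module R M] [AddCommGroup M'] [Module R M']
    [AddCommGroup F] [Module R F] [AddCommGroup F'] [Module R F']
    [Module.Finite R F] [Module.Finite R F'] [Module.Free R F']
    (ψ : M →ₗ[R] M') (i : F →ₗ[R] M) (r : M →ₗ[R] F) (hr : r ∘ₗ i = LinearMap.id)
    (i' : F' →ₗ[R] M') (r' : M' →ₗ[R] F') (hr' : r' ∘ₗ i' = LinearMap.id)
    (hfac : i' ∘ₗ (r' ∘ₗ ψ ∘ₗ i) = ψ ∘ₗ i)
    (hψ : Injective (ψ.lTensor (IsLocalRing.ResidueField R)))
    (Q : Type u) [AddCommGroup Q] [Module R Q] (x' : Q ⊗[R] F)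
    (hx : ψ.lTensor Q (i.lTensor Q x') = 0) : x' = 0 := by
  set l : F →ₗ[R] F' := r' ∘ₗ ψ ∘ₗ i with hl_def
  have hinjl : Injective (l.lTensor (IsLocalRing.ResidueField R)) := by
    have h1 : Injective ((ψ ∘ₗ i).lTensor (IsLocalRing.ResidueField R)) := by
      rw [LinearMap.lTensor_comp, LinearMap.coe_comp]
      exact hψ.comp (inj_lTensor_of_retraction i r hr _)
    rw [← hfac, LinearMap.lTensor_comp, LinearMap.coe_comp] at h1
    exact Function.Injective.of_comp h1
  obtain ⟨l', hl'⟩ :=
    (IsLocalRing.split_injective_iff_lTensor_residueField_injective (R := R) l).mpr hinjl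
  have h2 : (i'.lTensor Q) ((l.lTensor Q) x') = 0 := by
    rw [← LinearMap.comp_apply, ← LinearMap.lTensor_comp, hfac, LinearMap.lTensor_comp,
      LinearMap.comp_apply]
    exact hx
  have h3 : (l.lTensor Q) x' = 0 :=
    inj_lTensor_of_retraction i' r' hr' Q (h2.trans (map_zero _).symm)
  have := congrArg (l'.lTensor Q) h3
  rw [← LinearMap.comp_apply, ← LinearMap.lTensor_comp, hl', LinearMap.lTensor_id,
    map_zero] at this
  exact this

theorem univInj_finsupp (ψ : (ι →₀ R) →ₗ[R] (ι →₀ R))
    (hψ : Injective (ψ.lTensor (IsLocalRing.ResidueField R)))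
    (Q : Type u) [AddCommGroup Q] [Module R Q] : Injective (ψ.lTensor Q) := by
  classical
  rw [injective_iff_map_eq_zero]
  intro x hx
  obtain ⟨J, x', rfl⟩ := exists_finset_mem_range Q x
  obtain ⟨J', hJ'⟩ := exists_finset_map_le ψ J
  have : Module.Finite R (Finsupp.supported R R (J : Set ι)) :=
    Module.Finite.equiv (Finsupp.supportedEquivFinsupp (M := R) (R := R) (J : Set ι)).symm
  have : Module.Finite R (Finsupp.supported R R (J' : Set ι)) :=
    Module.Finite.equiv (Finsupp.supportedEquivFinsupp (M := R) (R := R) (J' : Set ι)).symm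
  have : Module.Free R (Finsupp.supported R R (J' : Set ι)) :=
    Module.Free.of_equiv (Finsupp.supportedEquivFinsupp (M := R) (R := R) (J' : Set ι)).symm
  have hfac : (Finsupp.supported R R (J' : Set ι)).subtype ∘ₗ
      ((Finsupp.restrictDom R R (J' : Set ι)) ∘ₗ ψ ∘ₗ
        (Finsupp.supported R R (J : Set ι)).subtype) =
      ψ ∘ₗ (Finsupp.supported R R (J : Set ι)).subtype := by
    refine LinearMap.ext fun y => ?_
    have hy := hJ' y y.2
    simp only [LinearMap.comp_apply, Submodule.subtype_apply, Finsupp.restrictDom_apply]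
    rw [Finsupp.filter_eq_self_iff]
    intro a ha
    exact hy (Finsupp.mem_support_iff.mpr ha)
  have h1 := Finsupp.restrictDom_comp_subtype (M := R) (R := R) (J : Set ι)
  have h2 := Finsupp.restrictDom_comp_subtype (M := R) (R := R) (J' : Set ι)
  have := core (F := Finsupp.supported R R (J : Set ι)) (F' := Finsupp.supported R R (J' : Set ι))
    ψ (Finsupp.supported R R (J : Set ι)).subtype (Finsupp.restrictDom R R (J : Set ι))
    h1 (Finsupp.supported R R (J' : Set ι)).subtype
    (Finsupp.restrictDom R R (J' : Set ι)) h2 hfac hψ Q x' (by convert hx)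
  rw [this, map_zero]

theorem univInj_of_free {N : Type u} [AddCommGroup N] [Module R N] [Module.Free R N]
    (φ : N →ₗ[R] N) (hφ : Injective (φ.lTensor (IsLocalRing.ResidueField R))) :
    FlatCA.UnivInj R φ := by
  intro Q _ _
  let b := Module.Free.chooseBasis R N
  let ψ : (Module.Free.ChooseBasisIndex R N →₀ R) →ₗ[R] (Module.Free.ChooseBasisIndex R N →₀ R) :=
    b.repr.toLinearMap ∘ₗ φ ∘ₗ b.repr.symm.toLinearMap
  have hψ : Injective (ψ.lTensor (IsLocalRing.ResidueField R)) := by
    rw [LinearMap.lTensor_comp, LinearMap.lTensor_comp, LinearMap.coe_comp, LinearMap.coe_comp]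
    exact ((inj_lTensor_equiv b.repr _).comp hφ).comp (inj_lTensor_equiv b.repr.symm _)
  have hψQ := univInj_finsupp ψ hψ Q
  have hφψ : φ = b.repr.symm.toLinearMap ∘ₗ ψ ∘ₗ b.repr.toLinearMap := by
    refine LinearMap.ext fun n => ?_
    simp [ψ]
  rw [hφψ, LinearMap.lTensor_comp, LinearMap.lTensor_comp, LinearMap.coe_comp, LinearMap.coe_comp]
  exact ((inj_lTensor_equiv b.repr.symm _).comp hψQ).comp (inj_lTensor_equiv b.repr _)

end Finsupp

section Main

attribute [local instance] Algebra.TensorProduct.rightAlgebra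

variable {R S : Type u} [CommRing R] [IsLocalRing R] [CommRing S] [Algebra R S] (N : Type u)
  [AddCommGroup N] [Module S N] [Module R N] [IsScalarTower R S N]

/-- The residue field `R/𝔪` is `R`-linearly isomorphic to `κ(𝔪)`. -/
noncomputable def resEquiv :
    IsLocalRing.ResidueField R ≃ₗ[R] (IsLocalRing.maximalIdeal R).ResidueField :=
  LinearEquiv.ofBijective
    ((Algebra.linearMap (R ⧸ IsLocalRing.maximalIdeal R)
      (IsLocalRing.maximalIdeal R).ResidueField).restrictScalars R)
    (Ideal.bijective_algebraMap_quotient_residueField (IsLocalRing.maximalIdeal R))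

theorem smul_eq_rTensor (P : Type u) [AddCommGroup P] [Module R P] (s : S) (y : N ⊗[R] P) :
    s • y = ((LinearMap.lsmul S N s).restrictScalars R).rTensor P y := by
  induction y using TensorProduct.induction_on with
  | zero => simp
  | tmul n c => rw [TensorProduct.smul_tmul']; rfl
  | add a b ha hb => rw [smul_add, map_add, ha, hb]

theorem lTensor_residue_injective {s : S} (hs : s ∈ FlatCA.nzdFiber R S N) :
    Injective (((LinearMap.lsmul S N s).restrictScalars R).lTensor
      (IsLocalRing.ResidueField R)) := by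
  set φ := (LinearMap.lsmul S N s).restrictScalars R with hφ
  have hs' : ∀ x : FlatCA.fiberMod (IsLocalRing.maximalIdeal R) S N, s • x = 0 → x = 0 :=
    mem_nonZeroSMulDivisors_iff.mp hs
  let e := Groth.Agent.Lib.AssFiberTensor.e (IsLocalRing.maximalIdeal R) S N
  have hr : Injective (φ.rTensor (IsLocalRing.maximalIdeal R).ResidueField) := by
    rw [injective_iff_map_eq_zero]
    intro y hy
    rw [← smul_eq_rTensor] at hy
    have h1 : s • e.symm y = 0 := by rw [← map_smul, hy, map_zero]
    have h2 := hs' (e.symm y) h1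
    exact e.symm.map_eq_zero_iff.mp h2
  rw [LinearMap.lTensor_inj_iff_rTensor_inj, injective_iff_map_eq_zero]
  intro x hx
  have hcomm : (φ.rTensor (IsLocalRing.maximalIdeal R).ResidueField) ∘ₗ
      ((resEquiv (R := R)).toLinearMap.lTensor N) =
      ((resEquiv (R := R)).toLinearMap.lTensor N) ∘ₗ (φ.rTensor (IsLocalRing.ResidueField R)) := by
    rw [LinearMap.rTensor_comp_lTensor, LinearMap.lTensor_comp_rTensor]
  have h1 : (φ.rTensor (IsLocalRing.maximalIdeal R).ResidueField)
      (((resEquiv (R := R)).toLinearMap.lTensor N) x) = 0 := by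
    rw [← LinearMap.comp_apply, hcomm, LinearMap.comp_apply, hx, map_zero]
  have h2 := hr (h1.trans (map_zero _).symm)
  exact inj_lTensor_equiv (resEquiv (R := R)) N (h2.trans (map_zero _).symm)

theorem part1 [Module.Projective R N] (s : S) (hs : s ∈ FlatCA.nzdFiber R S N) :
    FlatCA.UnivInj R ((LinearMap.lsmul S N s).restrictScalars R) := by
  haveI : Module.Free R N := Groth.Agent.Lib.KaplanskyLocal.free_of_projective R N
  exact univInj_of_free _ (lTensor_residue_injective N hs)

theorem part2
    (h1 : ∀ s ∈ FlatCA.nzdFiber R S N,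
      FlatCA.UnivInj R ((LinearMap.lsmul S N s).restrictScalars R)) :
    FlatCA.UnivInj R
      ((LocalizedModule.mkLinearMap (FlatCA.nzdFiber R S N) N).restrictScalars R) := by
  intro Q _ _
  rw [LinearMap.lTensor_inj_iff_rTensor_inj, injective_iff_map_eq_zero]
  intro x hx
  have hloc : IsLocalizedModule (FlatCA.nzdFiber R S N)
      (AlgebraTensorModule.rTensor R Q (LocalizedModule.mkLinearMap (FlatCA.nzdFiber R S N) N)) :=
    inferInstance
  have hx' : AlgebraTensorModule.rTensor R Q
      (LocalizedModule.mkLinearMap (FlatCA.nzdFiber R S N) N) x = 0 := hx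
  obtain ⟨t, ht⟩ := (IsLocalizedModule.eq_zero_iff (FlatCA.nzdFiber R S N) _).mp hx'
  have ht' : (t : S) • x = 0 := ht
  rw [smul_eq_rTensor] at ht'
  exact (LinearMap.lTensor_inj_iff_rTensor_inj _ _).mp (h1 t t.2 Q) (ht'.trans (map_zero _).symm)

theorem main [Module.Projective R N] :
    (∀ s ∈ FlatCA.nzdFiber R S N,
      FlatCA.UnivInj R ((LinearMap.lsmul S N s).restrictScalars R)) ∧
    FlatCA.UnivInj R
      ((LocalizedModule.mkLinearMap (FlatCA.nzdFiber R S N) N).restrictScalars R) :=
  ⟨part1 N, part2 N (part1 N)⟩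

end Main

end Groth.Agent.Lib.UnivInjFibH3
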