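import Mathlib
import Groth.Prelude.Def_FlatCA
import Groth.Agent.Lib.UnivInjFib_helper3
import Groth.Agent.S2107

/-!
# Universally injective maps on finitely presented flat modules (helper3)

For a local homomorphism `R → S` essentially of finite presentation and a finitely presented
`S`-module `N` flat over `R`: elements of `S` acting injectively on the closed fibre module act
`R`-universally injectively on `N`, and `N` maps universally injectively to its localization at all
such elements.
-/

set_option autoImplicit false
universe u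

namespace Groth.Agent.Lib.UnivInjFPH3

open TensorProduct Function IsLocalRing

section Main

attribute [local instance] Algebra.TensorProduct.rightAlgebra

variable {R S : Type u} [CommRing R] [IsLocalRing R] [CommRing S] [Algebra R S] (N : Type u)
  [AddCommGroup N] [Module S N] [Module R N] [IsScalarTower R S N]

/-- Membership in `(𝔪 S) N` is detected in `R/𝔪 ⊗ N`. -/
theorem mem_smul_top_iff (x : N) :
    x ∈ ((maximalIdeal R).map (algebraMap R S) • (⊤ : Submodule S N)) ↔
      (1 : ResidueField R) ⊗ₜ[R] x = 0 := by
  have h1 : (((maximalIdeal R).map (algebraMap R S) • (⊤ : Submodule S N)).restrictScalars R) =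
      (maximalIdeal R) • (⊤ : Submodule R N) := by
    rw [Ideal.smul_restrictScalars, Submodule.restrictScalars_top]
  have h2 : x ∈ ((maximalIdeal R).map (algebraMap R S) • (⊤ : Submodule S N)) ↔
      x ∈ (maximalIdeal R) • (⊤ : Submodule R N) := by
    rw [← h1, Submodule.restrictScalars_mem]
  rw [h2, ← Submodule.Quotient.mk_eq_zero,
    ← TensorProduct.quotTensorEquivQuotSMul_mk_one_tmul (M := N) (maximalIdeal R) x,
    LinearEquiv.map_eq_zero_iff]
  rfl

theorem hu_of_mem {s : S} (hs : s ∈ FlatCA.nzdFiber R S N) (x : N)
    (hx : (LinearMap.lsmul S N s) x ∈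
      ((maximalIdeal R).map (algebraMap R S) • (⊤ : Submodule S N))) :
    x ∈ ((maximalIdeal R).map (algebraMap R S) • (⊤ : Submodule S N)) := by
  have hres := Groth.Agent.Lib.UnivInjFibH3.lTensor_residue_injective N hs
  rw [mem_smul_top_iff] at hx ⊢
  refine hres ?_
  rw [map_zero, LinearMap.lTensor_tmul]
  exact hx

variable [IsLocalRing S] [IsLocalHom (algebraMap R S)] [Module.FinitePresentation S N]
  [Module.Flat R N]

theorem part1 (hS : FlatCA.EssFinitePresentation R S) (s : S)
    (hs : s ∈ FlatCA.nzdFiber R S N) :
    FlatCA.UnivInj R ((LinearMap.lsmul S N s).restrictScalars R) := by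
  obtain ⟨hinj, hflat⟩ := Groth.Agent.S2107.result (R := R) hS (LinearMap.lsmul S N s)
    (hu_of_mem N hs)
  intro Q _ _
  refine LinearMap.lTensor_injective_of_exact_of_flat
    (P := N ⧸ LinearMap.range (LinearMap.lsmul S N s))
    ((LinearMap.range (LinearMap.lsmul S N s)).mkQ.restrictScalars R)
    (Submodule.mkQ_surjective _) ((LinearMap.lsmul S N s).restrictScalars R) hinj ?_ Q
  intro y
  constructor
  · intro hy
    exact (Submodule.Quotient.mk_eq_zero _).mp hy
  · intro hy
    exact (Submodule.Quotient.mk_eq_zero _).mpr hy

theorem main (hS : FlatCA.EssFinitePresentation R S) :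
    (∀ s ∈ FlatCA.nzdFiber R S N,
      FlatCA.UnivInj R ((LinearMap.lsmul S N s).restrictScalars R)) ∧
    FlatCA.UnivInj R
      ((LocalizedModule.mkLinearMap (FlatCA.nzdFiber R S N) N).restrictScalars R) :=
  ⟨part1 N hS, Groth.Agent.Lib.UnivInjFibH3.part2 N (part1 N hS)⟩

end Main

end Groth.Agent.Lib.UnivInjFPH3
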