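import Mathlib
import Groth.Prelude.Def_FlatCA
import Groth.Agent.Lib.UnivInjFP_helper3

/-!
# Universal injectivity of `N → S' ⊗ N` for flat `S'` hitting the relative assassin (helper3)
-/

set_option autoImplicit false
universe u

namespace Groth.Agent.Lib.UnivInjFlatH3

open TensorProduct Function IsLocalRing

section Ann

variable {S S' : Type u} [CommRing S] [CommRing S'] [Algebra S S'] [Module.Flat S S']
  {M : Type u} [AddCommGroup M] [Module S M]

/-- If `1 ⊗ x = 0` in `S' ⊗ M` for a flat `S`-algebra `S'`, then `ann(x) S' = S'`. -/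
theorem map_annihilator_eq_top (x : M) (hx : (1 : S') ⊗ₜ[S] x = 0) :
    ((Submodule.span S {x}).annihilator).map (algebraMap S S') = ⊤ := by
  rw [Submodule.annihilator_span_singleton]
  set I : Ideal S := LinearMap.ker (LinearMap.toSpanSingleton S M x) with hI
  let f : (S ⧸ I) →ₗ[S] M := Submodule.liftQ I (LinearMap.toSpanSingleton S M x) le_rfl
  have hf : Injective f := LinearMap.ker_eq_bot.mp (Submodule.ker_liftQ_eq_bot' I _ rfl)
  have hinj : Injective (f.lTensor S') :=
    Module.Flat.lTensor_preserves_injective_linearMap f hf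
  have hf1 : f (Ideal.Quotient.mk I 1) = x := by
    show (LinearMap.toSpanSingleton S M x) 1 = x
    rw [LinearMap.toSpanSingleton_apply, one_smul]
  have h1 : (1 : S') ⊗ₜ[S] (Ideal.Quotient.mk I 1) = 0 := by
    apply hinj
    rw [map_zero, LinearMap.lTensor_tmul, hf1, hx]
  have h2 := congrArg (TensorProduct.tensorQuotEquivQuotSMul S' I) h1
  rw [map_zero, TensorProduct.tensorQuotEquivQuotSMul_tmul_mk, one_smul,
    Submodule.Quotient.mk_eq_zero, Ideal.smul_top_eq_map] at h2
  exact (Ideal.eq_top_iff_one _).mpr h2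

end Ann

section Ass

variable {S Fib F : Type u} [CommRing S] [CommRing Fib] [Algebra S Fib] [AddCommGroup F]
  [Module Fib F] [Module S F] [IsScalarTower S Fib F]

/-- Associated primes contract to associated primes of the restricted module. -/
theorem comap_isAssociatedPrime {P : Ideal Fib} (hP : IsAssociatedPrime P F) :
    IsAssociatedPrime (P.comap (algebraMap S Fib)) F := by
  obtain ⟨hprime, x, hx⟩ := hP
  refine ⟨Ideal.comap_isPrime _ _, x, ?_⟩
  rw [hx, Ideal.comap_radical]
  congr 1
  ext s
  rw [Ideal.mem_comap, Submodule.mem_colon_singleton, Submodule.mem_colon_singleton,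
    algebraMap_smul, Submodule.mem_bot, Submodule.mem_bot]

end Ass

section Main

attribute [local instance] Algebra.TensorProduct.rightAlgebra

variable {R S : Type u} [CommRing R] [IsLocalRing R] [CommRing S] [Algebra R S] (N : Type u)
  [AddCommGroup N] [Module S N] [Module R N] [IsScalarTower R S N]

/-- The complement of `nzdFiber` is covered by finitely many associated primes of the closed
fibre module (as an `S`-module). -/
theorem exists_finite_primes (hS : FlatCA.EssFinitePresentation R S) [Module.Finite S N] :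
    ∃ T : Finset (Ideal S),
      (∀ q ∈ T, q ∈ associatedPrimes S (FlatCA.fiberMod (maximalIdeal R) S N)) ∧
      ∀ s : S, s ∉ FlatCA.nzdFiber R S N → ∃ q ∈ T, s ∈ q := by
  classical
  obtain ⟨S₀, _, _, _, _, M, hfp, hloc⟩ := hS
  haveI : Algebra.EssFiniteType R S := by
    haveI : Algebra.EssFiniteType S₀ S := Algebra.EssFiniteType.of_isLocalization S M
    haveI : Algebra.EssFiniteType R S₀ := inferInstance
    exact Algebra.EssFiniteType.comp R S₀ S
  let Fib := (maximalIdeal R).Fiber S
  haveI : IsNoetherianRing Fib :=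
    Algebra.EssFiniteType.isNoetherianRing (maximalIdeal R).ResidueField Fib
  haveI : Module.Finite Fib (FlatCA.fiberMod (maximalIdeal R) S N) :=
    inferInstanceAs (Module.Finite Fib (Fib ⊗[S] N))
  haveI : IsScalarTower S Fib (FlatCA.fiberMod (maximalIdeal R) S N) :=
    inferInstanceAs (IsScalarTower S Fib (Fib ⊗[S] N))
  have hfin := associatedPrimes.finite Fib (FlatCA.fiberMod (maximalIdeal R) S N)
  refine ⟨hfin.toFinset.image (Ideal.comap (algebraMap S Fib)), ?_, ?_⟩
  · intro q hq
    obtain ⟨P, hP, rfl⟩ := Finset.mem_image.mp hq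
    exact comap_isAssociatedPrime (hfin.mem_toFinset.mp hP)
  · intro s hs
    have hs' : ¬ ∀ y : FlatCA.fiberMod (maximalIdeal R) S N, s • y = 0 → y = 0 :=
      fun h => hs (mem_nonZeroSMulDivisors_iff.mpr h)
    push_neg at hs'
    obtain ⟨y, hy0, hy⟩ := hs'
    have hmem : algebraMap S Fib s ∈
        {r : Fib | ∃ x : FlatCA.fiberMod (maximalIdeal R) S N, x ≠ 0 ∧ r • x = 0} :=
      ⟨y, hy, by rw [algebraMap_smul]; exact hy0⟩
    rw [← biUnion_associatedPrimes_eq_zero_divisors] at hmem
    obtain ⟨P, hP, hsP⟩ := Set.mem_iUnion₂.mp hmem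
    exact ⟨P.comap (algebraMap S Fib),
      Finset.mem_image.mpr ⟨P, hfin.mem_toFinset.mpr hP, rfl⟩, hsP⟩

variable {S' : Type u} [CommRing S'] [Algebra S S'] [Algebra R S'] [IsScalarTower R S S']

/-- Compatibility of `N → S' ⊗ N` tensored with `Q` and `N ⊗ Q → S' ⊗ (N ⊗ Q)`. -/
theorem assoc_rTensor (Q : Type u) [AddCommGroup Q] [Module R Q] (x : N ⊗[R] Q) :
    AlgebraTensorModule.assoc R S S' S' N Q
      ((((TensorProduct.mk S S' N 1).restrictScalars R).rTensor Q) x) = (1 : S') ⊗ₜ[S] x := by
  induction x using TensorProduct.induction_on with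
  | zero => simp
  | tmul n q =>
    rw [LinearMap.rTensor_tmul]
    show AlgebraTensorModule.assoc R S S' S' N Q (((1 : S') ⊗ₜ[S] n) ⊗ₜ[R] q) = _
    rw [AlgebraTensorModule.assoc_tmul]
  | add a b ha hb => rw [map_add, map_add, ha, hb, TensorProduct.tmul_add]

variable [IsLocalRing S] [IsLocalHom (algebraMap R S)] [Module.FinitePresentation S N]
  [Module.Flat R N] [Module.Flat S S']

theorem main (hS : FlatCA.EssFinitePresentation R S)
    (h : ∀ q ∈ associatedPrimes S (FlatCA.fiberMod (maximalIdeal R) S N),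
      ∃ q' : Ideal S', q'.IsPrime ∧ q'.comap (algebraMap S S') = q) :
    FlatCA.UnivInj R ((TensorProduct.mk S S' N 1).restrictScalars R) := by
  obtain ⟨T, hT1, hT2⟩ := exists_finite_primes N hS
  intro Q _ _
  rw [LinearMap.lTensor_inj_iff_rTensor_inj, injective_iff_map_eq_zero]
  intro x hx
  by_contra hne
  have hdisj : ∀ s ∈ (Submodule.span S {x}).annihilator, s ∉ FlatCA.nzdFiber R S N := by
    intro s hs hsU
    have h1 := (Groth.Agent.Lib.UnivInjFPH3.main N hS).1 s hsU Q
    rw [LinearMap.lTensor_inj_iff_rTensor_inj] at h1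
    have h2 : s • x = 0 := (Submodule.mem_annihilator_span_singleton _ _).mp hs
    rw [Groth.Agent.Lib.UnivInjFibH3.smul_eq_rTensor] at h2
    exact hne (h1 (h2.trans (map_zero _).symm))
  have hsub : (((Submodule.span S {x}).annihilator : Ideal S) : Set S) ⊆
      ⋃ q ∈ (T : Set (Ideal S)), (id q : Ideal S) := by
    intro s hs
    obtain ⟨q, hq, hsq⟩ := hT2 s (hdisj s hs)
    exact Set.mem_iUnion₂.mpr ⟨q, hq, hsq⟩
  obtain ⟨q, hqT, hle⟩ := (Ideal.subset_union_prime (f := id) (⊤ : Ideal S) (⊤ : Ideal S)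
    (fun i hi _ _ => (hT1 i hi).isPrime)).mp hsub
  obtain ⟨q', hq'prime, hq'⟩ := h q (hT1 q hqT)
  have h1x : (1 : S') ⊗ₜ[S] x = 0 := by
    rw [← assoc_rTensor N Q x, hx, map_zero]
  have htop := map_annihilator_eq_top (S' := S') x h1x
  have hle' : ((Submodule.span S {x}).annihilator).map (algebraMap S S') ≤ q' := by
    rw [Ideal.map_le_iff_le_comap, hq']
    exact hle
  rw [htop, top_le_iff] at hle'
  exact hq'prime.ne_top hle'

end Main

end Groth.Agent.Lib.UnivInjFlatH3
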