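import Mathlib
import Groth.Prelude.Def_FlatCA
import Groth.Agent.Lib.FibreRegS1_helper3
import Groth.Agent.Lib.UnivInjFlat_helper3

/-!
# Universal injectivity of `N → S' ⊗ N`, global finitely presented case (helper3)
-/

set_option autoImplicit false
universe u

namespace Groth.Agent.Lib.UnivInjGlobalH3

open TensorProduct Function IsLocalRing RingTheory.Sequence Pointwise
open Groth.Agent.Lib.RegFibH8

section Global

variable {A B : Type u} [CommRing A] [CommRing B] [Algebra A B]

/-- Weakly regular version of `RegFibH8.main`, keeping the flatness of the quotients. -/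
theorem main_weak_flat [Algebra.FinitePresentation A B] (M : Type u) [AddCommGroup M] [Module B M]
    [Module A M] [IsScalarTower A B M] [Module.FinitePresentation B M] (q : Ideal B) [q.IsPrime]
    (g : List B)
    (hflat : Module.Flat A (LocalizedModule q.primeCompl M))
    (hreg : IsWeaklyRegular
      (LocalizedModule q.primeCompl (M ⊗[A] (q.comap (algebraMap A B)).ResidueField)) g) :
    IsWeaklyRegular (LocalizedModule q.primeCompl M) g ∧
      ∀ i ≤ g.length, Module.Flat A
        (LocalizedModule q.primeCompl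
          (M ⧸ (Ideal.span {b | b ∈ g.take i} • (⊤ : Submodule B M)))) := by
  classical
  set p : Ideal A := q.comap (algebraMap A B) with hp
  haveI : q.LiesOver p := ⟨rfl⟩
  let R := Localization.AtPrime p
  let S := Localization.AtPrime q
  letI algRS : Algebra R S := Localization.AtPrime.algebraOfLiesOver p q
  haveI : IsLocalHom (algebraMap R S) :=
    Localization.isLocalHom_localRingHom p q (algebraMap A B) _
  haveI : IsScalarTower A R S := inferInstance
  have hS : CAlgX.IsEssFinitePresentation R S :=
    Groth.Agent.Lib.FibInjH6.isEssFinitePresentation_of_localizations p q (by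
      rintro _ ⟨a, ha, rfl⟩
      exact ha)
  let N := LocalizedModule q.primeCompl M
  letI : Module R N := Module.compHom N (algebraMap R S)
  haveI : IsScalarTower R S N := IsScalarTower.of_algebraMap_smul fun _ _ => rfl
  haveI : IsScalarTower A R N := IsScalarTower.of_algebraMap_smul fun a x => by
    show algebraMap R S (algebraMap A R a) • x = a • x
    rw [← IsScalarTower.algebraMap_apply, algebraMap_smul]
  haveI : Module.Flat R N := (Module.flat_iff_of_isLocalization R p.primeCompl N).mpr hflat
  set J : Ideal S := (maximalIdeal R).map (algebraMap R S) with hJ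
  let k := p.ResidueField
  let e1 : LocalizedModule q.primeCompl (M ⊗[A] k) ≃ₗ[B] N ⊗[A] k :=
    IsLocalizedModule.iso q.primeCompl
      (AlgebraTensorModule.rTensor A k (LocalizedModule.mkLinearMap q.primeCompl M))
  let e2 : N ⊗[A] k ≃ₗ[S] N ⧸ (J • ⊤ : Submodule S N) :=
    tensorQuotEquiv A R S p.primeCompl (maximalIdeal R) N
  let Φ : LocalizedModule q.primeCompl (M ⊗[A] k) ≃ₗ[B] N ⧸ (J • ⊤ : Submodule S N) :=
    e1 ≪≫ₗ e2.restrictScalars B
  have hw : IsWeaklyRegular (N ⧸ (J • ⊤ : Submodule S N)) (g.map (algebraMap B S)) :=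
    (isWeaklyRegular_map_algebraMap_iff S _ g).mpr
      ((Φ.isWeaklyRegular_congr g).mp hreg)
  obtain ⟨h1, h2⟩ := local_reg hS (g.map (algebraMap B S)) N hw
  refine ⟨(isWeaklyRegular_map_algebraMap_iff S N g).mp h1, fun i _ => ?_⟩
  have h3 := h2 i
  rw [← List.map_take, ← Ideal.map_ofList] at h3
  set I : Ideal B := Ideal.span {b | b ∈ g.take i} with hI
  have hloc : (I • ⊤ : Submodule B M).localized' S q.primeCompl
      (LocalizedModule.mkLinearMap q.primeCompl M) =
        (I.map (algebraMap B S)) • (⊤ : Submodule S N) := by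
    rw [Submodule.localized'_smul, Ideal.localized'_eq_map, Submodule.localized'_top]
  have h4 : Module.Flat A (N ⧸ (I.map (algebraMap B S) • ⊤ : Submodule S N)) :=
    Module.Flat.trans A R _
  rw [← hloc] at h4
  exact (Module.Flat.equiv_iff ((IsLocalizedModule.iso q.primeCompl
    (Submodule.toLocalizedQuotient' S q.primeCompl (LocalizedModule.mkLinearMap q.primeCompl M)
      (I • ⊤))).restrictScalars A).symm).mp h4

theorem smul_eq_rTensor' (M : Type u) [AddCommGroup M] [Module B M] [Module A M]
    [IsScalarTower A B M] (P : Type u) [AddCommGroup P] [Module A P] (s : B) (y : M ⊗[A] P) :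
    s • y = ((LinearMap.lsmul B M s).restrictScalars A).rTensor P y := by
  induction y using TensorProduct.induction_on with
  | zero => simp
  | tmul n c => rw [TensorProduct.smul_tmul']; rfl
  | add a b ha hb => rw [smul_add, map_add, ha, hb]

/-- **Claim G**: an element regular on the localized fibre module is universally regular on the
localized module. -/
theorem claimG [Algebra.FinitePresentation A B] (M : Type u) [AddCommGroup M] [Module B M]
    [Module A M] [IsScalarTower A B M] [Module.FinitePresentation B M] [Module.Flat A M]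
    (q : Ideal B) [q.IsPrime] (s : B)
    (hreg : IsSMulRegular
      (LocalizedModule q.primeCompl (M ⊗[A] (q.comap (algebraMap A B)).ResidueField)) s)
    (Q : Type u) [AddCommGroup Q] [Module A Q] :
    IsSMulRegular (LocalizedModule q.primeCompl (M ⊗[A] Q)) s := by
  obtain ⟨hw, hfl⟩ := main_weak_flat M q [s]
    (Groth.Agent.Lib.FibreRegS1H3.flat_localizedModule (A := A) M q.primeCompl)
    ((isWeaklyRegular_singleton_iff _ _).mpr hreg)
  have hs : IsSMulRegular (LocalizedModule q.primeCompl M) s :=
    (isWeaklyRegular_singleton_iff _ _).mp hw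
  have hfl1 := hfl 1 (by simp)
  set K : Submodule B M := Ideal.span {b | b ∈ [s].take 1} • ⊤ with hK
  have hKeq : K = LinearMap.range (LinearMap.lsmul B M s) := by
    have hset : {b | b ∈ [s].take 1} = ({s} : Set B) := by
      ext b
      simp
    have hrange : LinearMap.range (LinearMap.lsmul B M s) = s • (⊤ : Submodule B M) := by
      ext x
      simp only [LinearMap.mem_range, LinearMap.lsmul_apply,
        Submodule.mem_smul_pointwise_iff_exists, Submodule.mem_top, true_and]
    rw [hK, hrange, hset, Submodule.ideal_span_singleton_smul]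
  have hex : Function.Exact (LinearMap.lsmul B M s) K.mkQ := by
    rw [LinearMap.exact_iff, Submodule.ker_mkQ, hKeq]
  have hex' := LocalizedModule.map_exact q.primeCompl _ _ hex
  set g1 := IsLocalizedModule.map q.primeCompl (LocalizedModule.mkLinearMap q.primeCompl M)
    (LocalizedModule.mkLinearMap q.primeCompl M) (LinearMap.lsmul B M s) with hg1
  set f1 := IsLocalizedModule.map q.primeCompl (LocalizedModule.mkLinearMap q.primeCompl M)
    (LocalizedModule.mkLinearMap q.primeCompl (M ⧸ K)) K.mkQ with hf1
  have hg1' : g1 = LinearMap.lsmul B (LocalizedModule q.primeCompl M) s := by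
    refine LinearMap.ext fun y => ?_
    induction y using LocalizedModule.induction_on with
    | h m t =>
      rw [hg1, IsLocalizedModule.map_LocalizedModules, LinearMap.lsmul_apply,
        LinearMap.lsmul_apply, LocalizedModule.smul'_mk]
  have hsurj : Function.Surjective f1 := by
    intro y
    induction y using LocalizedModule.induction_on with
    | h m t =>
      obtain ⟨m', rfl⟩ := Submodule.mkQ_surjective K m
      exact ⟨LocalizedModule.mk m' t, by rw [hf1, IsLocalizedModule.map_LocalizedModules]⟩
  have hinj : Function.Injective g1 := by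
    rw [hg1']
    exact hs
  haveI := hfl1
  have hQ : Function.Injective ((g1.restrictScalars A).lTensor Q) :=
    LinearMap.lTensor_injective_of_exact_of_flat (f1.restrictScalars A) hsurj
      (g1.restrictScalars A) hinj hex' Q
  let e1 : LocalizedModule q.primeCompl (M ⊗[A] Q) ≃ₗ[B]
      (LocalizedModule q.primeCompl M) ⊗[A] Q :=
    IsLocalizedModule.iso q.primeCompl
      (AlgebraTensorModule.rTensor A Q (LocalizedModule.mkLinearMap q.primeCompl M))
  rw [e1.isSMulRegular_congr s]
  intro y1 y2 hy
  simp only [smul_eq_rTensor'] at hy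
  rw [← hg1'] at hy
  exact (LinearMap.lTensor_inj_iff_rTensor_inj _ _).mp hQ hy

end Global

section Fiber

attribute [local instance] Algebra.TensorProduct.rightAlgebra

variable {R S : Type u} [CommRing R] [CommRing S] [Algebra R S] (p : Ideal R) [p.IsPrime]

theorem fiberIdeal_comap (P : Ideal (p.Fiber S)) :
    FlatCA.fiberIdeal p (P.comap (algebraMap S (p.Fiber S))) = P := by
  apply le_antisymm
  · exact Ideal.map_comap_le
  · intro z hz
    obtain ⟨r, hr, s, hrs⟩ := Ideal.Fiber.exists_smul_eq_one_tmul p z
    have hs : s ∈ P.comap (algebraMap S (p.Fiber S)) := by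
      rw [Ideal.mem_comap]
      show (1 : p.ResidueField) ⊗ₜ[R] s ∈ P
      rw [← hrs]
      exact Submodule.smul_of_tower_mem P r hz
    have hu : IsUnit (algebraMap R (p.Fiber S) r) := by
      rw [IsScalarTower.algebraMap_apply R p.ResidueField (p.Fiber S)]
      apply IsUnit.map
      exact isUnit_iff_ne_zero.mpr (by rwa [Ne, Ideal.algebraMap_residueField_eq_zero])
    have hz' : z = ↑(hu.unit⁻¹) * ((1 : p.ResidueField) ⊗ₜ[R] s) := by
      rw [← hrs, Algebra.smul_def, ← mul_assoc, IsUnit.val_inv_mul, one_mul]
    rw [hz']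
    exact Ideal.mul_mem_left _ _ (Ideal.mem_map_of_mem _ hs)

variable (N : Type u) [AddCommGroup N] [Module S N] [Module R N] [IsScalarTower R S N]

/-- **Claim H**: the zero-divisors of `S` on the localization at `q` of the fibre module over `p`
are covered by finitely many primes of the relative assassin. -/
theorem claimH [Algebra.FiniteType R S] [Module.Finite S N] (q : Ideal S) [q.IsPrime] :
    ∃ T : Finset (Ideal S),
      (∀ q₁ ∈ T, ∃ (_ : q₁.IsPrime) (_ : q₁.LiesOver p),
        FlatCA.fiberIdeal p q₁ ∈ associatedPrimes (p.Fiber S) (FlatCA.fiberMod p S N)) ∧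
      ∀ s : S, ¬ IsSMulRegular (LocalizedModule q.primeCompl (N ⊗[R] p.ResidueField)) s →
        ∃ q₁ ∈ T, s ∈ q₁ := by
  classical
  let Fib := p.Fiber S
  let F := FlatCA.fiberMod p S N
  haveI : IsNoetherianRing Fib := Algebra.FiniteType.isNoetherianRing p.ResidueField Fib
  haveI : Module.Finite Fib F := inferInstanceAs (Module.Finite Fib (Fib ⊗[S] N))
  haveI : IsScalarTower S Fib F := inferInstanceAs (IsScalarTower S Fib (Fib ⊗[S] N))
  let W : Submonoid Fib := Algebra.algebraMapSubmonoid Fib q.primeCompl
  let LFib := Localization W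
  let LF := LocalizedModule W F
  have hfin := associatedPrimes.finite LFib LF
  have hpre := Module.associatedPrimes.preimage_comap_associatedPrimes_eq_associatedPrimes_of_isLocalizedModule
    W LFib (LocalizedModule.mkLinearMap W F)
  refine ⟨hfin.toFinset.image
    (fun P' => (P'.comap (algebraMap Fib LFib)).comap (algebraMap S Fib)), ?_, ?_⟩
  · intro q₁ hq₁
    obtain ⟨P', hP', rfl⟩ := Finset.mem_image.mp hq₁
    have hP'ass : P' ∈ associatedPrimes LFib LF := hfin.mem_toFinset.mp hP'
    rw [← hpre] at hP'ass
    have hP : P'.comap (algebraMap Fib LFib) ∈ associatedPrimes Fib F := hP'ass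
    haveI : (P'.comap (algebraMap Fib LFib)).IsPrime := hP.isPrime
    haveI : (P'.comap (algebraMap Fib LFib)).LiesOver
        ((P'.comap (algebraMap Fib LFib)).comap (algebraMap S Fib)) := ⟨rfl⟩
    refine ⟨Ideal.comap_isPrime _ _,
      Ideal.LiesOver.tower_bot (𝔓 := P'.comap (algebraMap Fib LFib))
        (P := (P'.comap (algebraMap Fib LFib)).comap (algebraMap S Fib)) (p := p), ?_⟩
    rw [fiberIdeal_comap]
    exact hP
  · intro s hs
    haveI : IsScalarTower S Fib LF := inferInstance
    let f₁ : F →ₗ[S] LF := (LocalizedModule.mkLinearMap W F).restrictScalars S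
    haveI : IsLocalizedModule q.primeCompl f₁ :=
      IsLocalizedModule.restrictScalars q.primeCompl (LocalizedModule.mkLinearMap W F)
    let e : F ≃ₗ[S] N ⊗[R] p.ResidueField := Groth.Agent.Lib.AssFiberTensor.e p S N
    let f₂ : F →ₗ[S] LocalizedModule q.primeCompl (N ⊗[R] p.ResidueField) :=
      (LocalizedModule.mkLinearMap q.primeCompl (N ⊗[R] p.ResidueField)) ∘ₗ e.toLinearMap
    haveI : IsLocalizedModule q.primeCompl f₂ :=
      IsLocalizedModule.of_linearEquiv_right q.primeCompl
        (LocalizedModule.mkLinearMap q.primeCompl (N ⊗[R] p.ResidueField)) e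
    let Φ : LocalizedModule q.primeCompl (N ⊗[R] p.ResidueField) ≃ₗ[S] LF :=
      IsLocalizedModule.linearEquiv q.primeCompl f₂ f₁
    have h1 : ¬ IsSMulRegular LF s := fun h => hs ((Φ.isSMulRegular_congr s).mpr h)
    have h2 : ¬ IsSMulRegular LF (algebraMap S Fib s) := fun h =>
      h1 ((isSMulRegular_algebraMap_iff (A := Fib)).mp h)
    have h3 : ¬ IsSMulRegular LF (algebraMap Fib LFib (algebraMap S Fib s)) := fun h =>
      h2 ((isSMulRegular_algebraMap_iff (A := LFib)).mp h)
    have hmem : algebraMap Fib LFib (algebraMap S Fib s) ∈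
        ({r : LFib | IsSMulRegular LF r}ᶜ : Set LFib) := h3
    rw [← biUnion_associatedPrimes_eq_compl_regular LFib LF] at hmem
    obtain ⟨P', hP', hsP'⟩ := Set.mem_iUnion₂.mp hmem
    exact ⟨_, Finset.mem_image.mpr ⟨P', hfin.mem_toFinset.mpr hP', rfl⟩, hsP'⟩

variable {S' : Type u} [CommRing S'] [Algebra S S'] [Algebra R S'] [IsScalarTower R S S']

/-- Compatibility of `N → S' ⊗ N` tensored with `Q` and `N ⊗ Q → S' ⊗ (N ⊗ Q)`. -/
theorem assoc_rTensor (Q : Type u) [AddCommGroup Q] [Module R Q] (x : N ⊗[R] Q) :
    AlgebraTensorModule.assoc R S S' S' N Q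
      ((((TensorProduct.mk S S' N 1).restrictScalars R).rTensor Q) x) = (1 : S') ⊗ₜ[S] x := by
  induction x using TensorProduct.induction_on with
  | zero => simp
  | tmul n q =>
    rw [LinearMap.rTensor_tmul]
    show AlgebraTensorModule.assoc R S S' S' N Q (((1 : S') ⊗ₜ[S] n) ⊗ₜ[R] q) = _
    rw [AlgebraTensorModule.assoc_tmul]
  | add a b ha hb => rw [map_add, map_add, ha, hb, TensorProduct.tmul_add]

theorem main [Algebra.FinitePresentation R S] [Module.Flat S S'] [Module.FinitePresentation S N]
    [Module.Flat R N]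
    (h : ∀ (p : Ideal R) (q : Ideal S) [p.IsPrime] [q.IsPrime] [q.LiesOver p],
      FlatCA.fiberIdeal p q ∈ associatedPrimes (p.Fiber S) (FlatCA.fiberMod p S N) →
      ∃ q' : Ideal S', q'.IsPrime ∧ q'.comap (algebraMap S S') = q) :
    FlatCA.UnivInj R ((TensorProduct.mk S S' N 1).restrictScalars R) := by
  intro Q _ _
  rw [LinearMap.lTensor_inj_iff_rTensor_inj, injective_iff_map_eq_zero]
  intro x hx
  by_contra hne
  have h1x : (1 : S') ⊗ₜ[S] x = 0 := by
    rw [← assoc_rTensor N Q x, hx, map_zero]
  have htop := Groth.Agent.Lib.UnivInjFlatH3.map_annihilator_eq_top (S' := S') x h1x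
  have hI : (Submodule.span S {x}).annihilator ≠ ⊤ := by
    intro hI
    have h1 : (1 : S) ∈ (Submodule.span S {x}).annihilator := hI ▸ Submodule.mem_top
    rw [Submodule.mem_annihilator_span_singleton, one_smul] at h1
    exact hne h1
  obtain ⟨q, hqmax, hIq⟩ := Ideal.exists_le_maximal _ hI
  haveI : q.IsPrime := hqmax.isPrime
  obtain ⟨T, hT1, hT2⟩ := claimH (q.comap (algebraMap R S)) N q
  have hdisj : ∀ s ∈ (Submodule.span S {x}).annihilator,
      ¬ IsSMulRegular (LocalizedModule q.primeCompl
        (N ⊗[R] (q.comap (algebraMap R S)).ResidueField)) s := by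
    intro s hs hreg
    have hG := claimG N q s hreg Q
    have h0 : s • (LocalizedModule.mk x 1 : LocalizedModule q.primeCompl (N ⊗[R] Q)) = 0 := by
      rw [LocalizedModule.smul'_mk, (Submodule.mem_annihilator_span_singleton _ _).mp hs,
        LocalizedModule.zero_mk]
    have h1 := hG.right_eq_zero_of_smul h0
    rw [← LocalizedModule.zero_mk 1, LocalizedModule.mk_eq] at h1
    obtain ⟨u, hu⟩ := h1
    have hu' : (u : S) ∈ (Submodule.span S {x}).annihilator := by
      rw [Submodule.mem_annihilator_span_singleton]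
      simpa [Submonoid.smul_def] using hu
    exact u.2 (hIq hu')
  have hsub : (((Submodule.span S {x}).annihilator : Ideal S) : Set S) ⊆
      ⋃ q₁ ∈ (T : Set (Ideal S)), (id q₁ : Ideal S) := by
    intro s hs
    obtain ⟨q₁, hq₁, hsq⟩ := hT2 s (hdisj s hs)
    exact Set.mem_iUnion₂.mpr ⟨q₁, hq₁, hsq⟩
  obtain ⟨q₁, hq₁T, hle⟩ := (Ideal.subset_union_prime (f := id) (⊤ : Ideal S) (⊤ : Ideal S)
    (fun i hi _ _ => (hT1 i hi).1)).mp hsub
  obtain ⟨hq₁prime, hq₁over, hass⟩ := hT1 q₁ hq₁T
  obtain ⟨q', hq'prime, hq'⟩ := h (q.comap (algebraMap R S)) q₁ hass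
  have hle' : ((Submodule.span S {x}).annihilator).map (algebraMap S S') ≤ q' := by
    rw [Ideal.map_le_iff_le_comap, hq']
    exact hle
  rw [htop, top_le_iff] at hle'
  exact hq'prime.ne_top hle'

end Fiber

end Groth.Agent.Lib.UnivInjGlobalH3
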