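import Mathlib
import Groth.Prelude.Def_FlatCA
import Groth.Agent.Lib.MLDom_lead
import Groth.Agent.Lib.PureGeomInt_lead

set_option autoImplicit false
universe u

/-!
# `B → B^` (completion along a section) is universally injective (helper5, S17619)
-/

namespace Groth.Agent.Lib.UnivInjRetrH5

open TensorProduct

section NZD

variable {A B : Type u} [CommRing A] [CommRing B] [Algebra A B]

/-- multiplication by `g` on `B ⊗[A] N` is `rTensor` of multiplication by `g`. -/
theorem smul_eq_rTensor (g : B) (N : Type u) [AddCommGroup N] [Module A N] (x : B ⊗[A] N) :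
    g • x = (LinearMap.mulLeft A g).rTensor N x := by
  induction x using TensorProduct.induction_on with
  | zero => simp
  | tmul b n => rw [LinearMap.rTensor_tmul, TensorProduct.smul_tmul', smul_eq_mul]; rfl
  | add x y hx hy => rw [smul_add, map_add, hx, hy]

theorem rTensor_eq_mul (g : B) (R : Type u) [CommRing R] [Algebra A R] (x : B ⊗[A] R) :
    (LinearMap.mulLeft A g).rTensor R x = (g ⊗ₜ[A] (1 : R)) * x := by
  induction x using TensorProduct.induction_on with
  | zero => simp
  | tmul b n =>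
    rw [LinearMap.rTensor_tmul, Algebra.TensorProduct.tmul_mul_tmul, one_mul]; rfl
  | add x y hx hy => rw [mul_add, map_add, hx, hy]

theorem nzd_quot [Module.Flat A B] (hfib : FlatCA.GeomIntegralFibres A B) (u : B →ₐ[A] A)
    (g : B) (hg : u g = 1) (p : Ideal A) [p.IsPrime] :
    Function.Injective ((LinearMap.mulLeft A g).rTensor (A ⧸ p)) := by
  haveI : IsDomain (B ⊗[A] p.ResidueField) :=
    Groth.Agent.Lib.PureGeomInt.isDomain_tensor hfib p.ResidueField
  let ι : (A ⧸ p) →ₐ[A] p.ResidueField := IsScalarTower.toAlgHom A (A ⧸ p) p.ResidueField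
  have hι : Function.Injective ι.toLinearMap := IsFractionRing.injective (A ⧸ p) p.ResidueField
  let φ : B ⊗[A] (A ⧸ p) →ₐ[A] B ⊗[A] p.ResidueField :=
    Algebra.TensorProduct.map (AlgHom.id A B) ι
  have hφ : Function.Injective φ := by
    have h1 := Module.Flat.lTensor_preserves_injective_linearMap (M := B) ι.toLinearMap hι
    intro x y hxy
    apply h1
    have h2 : ∀ z : B ⊗[A] (A ⧸ p), ι.toLinearMap.lTensor B z = φ z := by
      intro z
      induction z using TensorProduct.induction_on with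
      | zero => simp
      | tmul b n => rfl
      | add x y hx hy => rw [map_add, map_add, hx, hy]
    rw [h2, h2, hxy]
  let ψ : B ⊗[A] p.ResidueField →ₐ[A] p.ResidueField :=
    Algebra.TensorProduct.lift ((Algebra.ofId A p.ResidueField).comp u)
      (AlgHom.id A p.ResidueField) (fun _ _ => Commute.all _ _)
  have hψ : ψ (g ⊗ₜ[A] (1 : p.ResidueField)) = 1 := by
    show ((Algebra.ofId A p.ResidueField).comp u) g * (AlgHom.id A p.ResidueField) 1 = 1
    rw [AlgHom.comp_apply, hg, map_one, map_one, mul_one]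
  have hne : (g ⊗ₜ[A] (1 : p.ResidueField)) ≠ 0 := by
    intro h0
    rw [h0, map_zero] at hψ
    exact zero_ne_one hψ
  rw [injective_iff_map_eq_zero]
  intro x hx
  rw [rTensor_eq_mul] at hx
  have h3 := congrArg φ hx
  rw [map_mul, map_zero] at h3
  have h4 : φ (g ⊗ₜ[A] (1 : A ⧸ p)) = g ⊗ₜ[A] (1 : p.ResidueField) := by
    show (AlgHom.id A B) g ⊗ₜ[A] ι 1 = _
    rw [map_one]; rfl
  rw [h4] at h3
  rcases mul_eq_zero.1 h3 with h5 | h5
  · exact absurd h5 hne
  · exact hφ (h5.trans (map_zero φ).symm)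

theorem nzd [IsNoetherianRing A] [Module.Flat A B] (hfib : FlatCA.GeomIntegralFibres A B)
    (u : B →ₐ[A] A) (g : B) (hg : u g = 1) (N : Type u) [AddCommGroup N] [Module A N]
    [hN : Module.Finite A N] :
    Function.Injective ((LinearMap.mulLeft A g).rTensor N) := by
  induction hN using IsNoetherianRing.induction_on_isQuotientEquivQuotientPrime A with
  | subsingleton N =>
    intro x y _
    exact Subsingleton.elim _ _
  | quotient N p e =>
    haveI := p.2
    have h1 := nzd_quot hfib u g hg p.1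
    have h2 : (e.toLinearMap.lTensor B) ∘ₗ ((LinearMap.mulLeft A g).rTensor N) =
        ((LinearMap.mulLeft A g).rTensor (A ⧸ p.1)) ∘ₗ (e.toLinearMap.lTensor B) := by
      rw [LinearMap.lTensor_comp_rTensor, LinearMap.rTensor_comp_lTensor]
    have h3 : Function.Injective (e.toLinearMap.lTensor B) :=
      (LinearEquiv.lTensor B e).injective
    have h4 : Function.Injective ((e.toLinearMap.lTensor B) ∘ₗ
        ((LinearMap.mulLeft A g).rTensor N)) := by
      rw [h2]
      exact h1.comp h3
    exact Function.Injective.of_comp h4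
  | exact N₁ N₂ N₃ f g' hf hg' hfg h₁ h₃ =>
    have hf' : Function.Injective (f.lTensor B) :=
      Module.Flat.lTensor_preserves_injective_linearMap f hf
    have hex : Function.Exact (f.lTensor B) (g'.lTensor B) := lTensor_exact B hfg hg'
    rw [injective_iff_map_eq_zero]
    intro x hx
    have h5 : (LinearMap.mulLeft A g).rTensor N₃ (g'.lTensor B x) = 0 := by
      rw [← LinearMap.comp_apply, LinearMap.rTensor_comp_lTensor, ← LinearMap.lTensor_comp_rTensor,
        LinearMap.comp_apply, hx, map_zero]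
    have h6 : g'.lTensor B x = 0 := h₃ (h5.trans (map_zero _).symm)
    obtain ⟨y, rfl⟩ := (hex x).1 h6
    have h7 : f.lTensor B ((LinearMap.mulLeft A g).rTensor N₁ y) = 0 := by
      rw [← LinearMap.comp_apply, LinearMap.lTensor_comp_rTensor, ← LinearMap.rTensor_comp_lTensor,
        LinearMap.comp_apply, hx]
    have h8 : (LinearMap.mulLeft A g).rTensor N₁ y = 0 := hf' (h7.trans (map_zero _).symm)
    rw [h₁ (h8.trans (map_zero _).symm), map_zero]

end NZD

section Krull

variable {A B : Type u} [CommRing A] [CommRing B] [Algebra A B]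
  (Bh : Type u) [CommRing Bh] [Algebra B Bh] [Algebra A Bh] [IsScalarTower A B Bh]

/-- an element of `B ⊗[A] Q` dying in `Bh ⊗[A] Q` lies in `J • ⊤` whenever `B/J → Bh/J Bh` is
bijective. -/
theorem mem_smul_top_of_rTensor_eq_zero (J : Ideal B)
    (hq : Function.Bijective (Ideal.quotientMap (J.map (algebraMap B Bh))
      (algebraMap B Bh) Ideal.le_comap_map))
    (Q : Type u) [AddCommGroup Q] [Module A Q] (x : B ⊗[A] Q)
    (hx : (IsScalarTower.toAlgHom A B Bh).toLinearMap.rTensor Q x = 0) :
    x ∈ (J • ⊤ : Submodule B (B ⊗[A] Q)) := by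
  let π : B →ₗ[A] B ⧸ J := (Ideal.Quotient.mkₐ A J).toLinearMap
  let π' : Bh →ₗ[A] Bh ⧸ J.map (algebraMap B Bh) :=
    (Ideal.Quotient.mkₐ A (J.map (algebraMap B Bh))).toLinearMap
  let qa : (B ⧸ J) →ₐ[A] Bh ⧸ J.map (algebraMap B Bh) :=
    Ideal.quotientMapₐ (J.map (algebraMap B Bh)) (IsScalarTower.toAlgHom A B Bh)
      Ideal.le_comap_map
  have hqa : Function.Bijective qa := hq
  let qe : (B ⧸ J) ≃ₗ[A] Bh ⧸ J.map (algebraMap B Bh) :=
    LinearEquiv.ofBijective qa.toLinearMap hqa
  have hcomm : qe.toLinearMap ∘ₗ π = π' ∘ₗ (IsScalarTower.toAlgHom A B Bh).toLinearMap := by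
    ext b
    rfl
  have h1 : π.rTensor Q x = 0 := by
    apply (LinearEquiv.rTensor Q qe).injective
    rw [map_zero]
    show (qe.toLinearMap.rTensor Q) (π.rTensor Q x) = 0
    rw [← LinearMap.comp_apply, ← LinearMap.rTensor_comp, hcomm, LinearMap.rTensor_comp,
      LinearMap.comp_apply, hx, map_zero]
  have hex0 : Function.Exact (J.restrictScalars A).subtype π := by
    intro b
    constructor
    · intro hb
      exact ⟨⟨b, Ideal.Quotient.eq_zero_iff_mem.1 hb⟩, rfl⟩
    · rintro ⟨y, rfl⟩
      exact Ideal.Quotient.eq_zero_iff_mem.2 y.2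
  have hex : Function.Exact ((J.restrictScalars A).subtype.rTensor Q) (π.rTensor Q) :=
    rTensor_exact Q hex0 Ideal.Quotient.mk_surjective
  obtain ⟨y, rfl⟩ := (hex x).1 h1
  clear hx h1
  induction y using TensorProduct.induction_on with
  | zero => simp
  | tmul i q =>
    obtain ⟨i, hi⟩ := i
    have h2 : (J.restrictScalars A).subtype.rTensor Q ((⟨i, hi⟩ : J.restrictScalars A) ⊗ₜ[A] q) =
        i • ((1 : B) ⊗ₜ[A] q) := by
      rw [LinearMap.rTensor_tmul, TensorProduct.smul_tmul', smul_eq_mul, mul_one]; rfl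
    rw [h2]
    exact Submodule.smul_mem_smul hi Submodule.mem_top
  | add x y hx hy =>
    rw [map_add]
    exact add_mem hx hy

end Krull

section Main

variable {A B : Type u} [CommRing A] [CommRing B] [Algebra A B]
  (Bh : Type u) [CommRing Bh] [Algebra B Bh] [Algebra A Bh] [IsScalarTower A B Bh]

theorem rTensor_injective_of_finite [IsNoetherianRing A] [IsNoetherianRing B] [Module.Flat A B]
    (hfib : FlatCA.GeomIntegralFibres A B) (u : B →ₐ[A] A)
    (hq : ∀ n : ℕ, Function.Bijective (Ideal.quotientMap ((RingHom.ker u ^ n).map (algebraMap B Bh))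
      (algebraMap B Bh) Ideal.le_comap_map))
    (Q : Type u) [AddCommGroup Q] [Module A Q] [Module.Finite A Q] :
    Function.Injective ((IsScalarTower.toAlgHom A B Bh).toLinearMap.rTensor Q) := by
  rw [injective_iff_map_eq_zero]
  intro x hx
  have h1 : x ∈ (⨅ n : ℕ, (RingHom.ker u) ^ n • ⊤ : Submodule B (B ⊗[A] Q)) := by
    rw [Submodule.mem_iInf]
    intro n
    exact mem_smul_top_of_rTensor_eq_zero Bh _ (hq n) Q x hx
  obtain ⟨r, hr⟩ := (Ideal.mem_iInf_smul_pow_eq_bot_iff _ x).1 h1
  have hur : u (r : B) = 0 := r.2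
  have hg : u (1 - (r : B)) = 1 := by rw [map_sub, map_one, hur, sub_zero]
  have h2 : (1 - (r : B)) • x = 0 := by
    have h3 := sub_smul (1 : B) (r : B) x
    rw [one_smul, hr, sub_self] at h3
    exact h3
  rw [smul_eq_rTensor] at h2
  exact nzd hfib u _ hg Q (h2.trans (map_zero _).symm)

theorem lTensor_injective_of_finite [IsNoetherianRing A] [IsNoetherianRing B] [Module.Flat A B]
    (hfib : FlatCA.GeomIntegralFibres A B) (u : B →ₐ[A] A)
    (hq : ∀ n : ℕ, Function.Bijective (Ideal.quotientMap ((RingHom.ker u ^ n).map (algebraMap B Bh))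
      (algebraMap B Bh) Ideal.le_comap_map))
    (Q : Type u) [AddCommGroup Q] [Module A Q] [Module.Finite A Q] :
    Function.Injective ((IsScalarTower.toAlgHom A B Bh).toLinearMap.lTensor Q) := by
  rw [← LinearMap.comm_comp_rTensor_comp_comm_eq]
  exact (TensorProduct.comm A Bh Q).injective.comp
    ((rTensor_injective_of_finite Bh hfib u hq Q).comp (TensorProduct.comm A Q B).injective)

theorem main [IsNoetherianRing A] [Algebra.Smooth A B]
    (hfib : FlatCA.GeomIntegralFibres A B) (u : B →ₐ[A] A)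
    (hq : ∀ n : ℕ, Function.Bijective (Ideal.quotientMap ((RingHom.ker u ^ n).map (algebraMap B Bh))
      (algebraMap B Bh) Ideal.le_comap_map)) :
    FlatCA.UnivInj A (IsScalarTower.toAlgHom A B Bh).toLinearMap := by
  haveI : Module.Flat A B := inferInstance
  haveI : IsNoetherianRing B := Algebra.FiniteType.isNoetherianRing A B
  intro Q _ _
  rw [injective_iff_map_eq_zero]
  intro t ht
  obtain ⟨Q₀, hQ₀, hsub⟩ :=
    TensorProduct.exists_finite_submodule_left_of_setFinite ({t} : Set _) (Set.finite_singleton t)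
  obtain ⟨t₀, rfl⟩ := hsub (Set.mem_singleton t)
  have hfg₀ : Q₀.FG := Module.Finite.iff_fg.1 hQ₀
  have h1 : (Q₀.subtype.rTensor Bh)
      ((IsScalarTower.toAlgHom A B Bh).toLinearMap.lTensor Q₀ t₀) = 0 := by
    rw [← LinearMap.comp_apply, LinearMap.rTensor_comp_lTensor, ← LinearMap.lTensor_comp_rTensor,
      LinearMap.comp_apply]
    exact ht
  obtain ⟨Q₁, hQ₁, h01, h2⟩ := Groth.Agent.Lib.MLDom_lead.exists_fg_rTensor_eq_zero Q₀ hfg₀ _ h1
  haveI : Module.Finite A Q₁ := Module.Finite.iff_fg.2 hQ₁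
  have h3 : (IsScalarTower.toAlgHom A B Bh).toLinearMap.lTensor Q₁
      ((Submodule.inclusion h01).rTensor B t₀) = 0 := by
    rw [← LinearMap.comp_apply, LinearMap.lTensor_comp_rTensor, ← LinearMap.rTensor_comp_lTensor,
      LinearMap.comp_apply]
    exact h2
  have h4 : (Submodule.inclusion h01).rTensor B t₀ = 0 :=
    lTensor_injective_of_finite Bh hfib u hq Q₁ (h3.trans (map_zero _).symm)
  have h5 : Q₀.subtype = Q₁.subtype ∘ₗ Submodule.inclusion h01 := rfl
  rw [h5, LinearMap.rTensor_comp, LinearMap.comp_apply, h4, map_zero]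

end Main

end Groth.Agent.Lib.UnivInjRetrH5
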