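import Mathlib
import Groth.Prelude.Def_Pi1

set_option autoImplicit false
universe u
open scoped TensorProduct

namespace Groth.Agent.Lib.UnivInjH1

variable {R S : Type u} [CommRing R] [CommRing S] [Algebra R S]

/-- key lemma: a universally injective map detects membership in submodules after base change -/
theorem mem_of_one_tmul_mem (h : Pi1.UnivInjective R S) {P : Type u} [AddCommGroup P] [Module R P]
    (N : Submodule R P) (x : P)
    (hx : (1 : S) ⊗ₜ[R] x ∈ LinearMap.range (LinearMap.lTensor S N.subtype)) : x ∈ N := by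
  obtain ⟨y, hy⟩ := hx
  have h1 : LinearMap.lTensor S N.mkQ ((1 : S) ⊗ₜ[R] x) = 0 := by
    rw [← hy, ← LinearMap.comp_apply, ← LinearMap.lTensor_comp]
    have : N.mkQ ∘ₗ N.subtype = 0 := by ext z; simp
    rw [this, LinearMap.lTensor_zero]; rfl
  have h2 : (N.mkQ x) ⊗ₜ[R] (1 : S) = 0 := by
    have := congrArg (TensorProduct.comm R S (P ⧸ N)) h1
    simpa using this
  have h3 : LinearMap.lTensor (P ⧸ N) (Algebra.linearMap R S) ((N.mkQ x) ⊗ₜ[R] (1 : R)) = 0 := by
    simpa using h2
  have h4 : (N.mkQ x) ⊗ₜ[R] (1 : R) = 0 := h (P ⧸ N) (by rw [h3, map_zero])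
  have h5 := congrArg (TensorProduct.rid R (P ⧸ N)) h4
  simpa using h5

theorem finite_of_univInjective (h : Pi1.UnivInjective R S) (M : Type u) [AddCommGroup M]
    [Module R M] [Module.Finite S (S ⊗[R] M)] : Module.Finite R M := by
  obtain ⟨T, hT⟩ := (Module.Finite.fg_top : (⊤ : Submodule S (S ⊗[R] M)).FG)
  obtain ⟨N, hN, hTN⟩ := TensorProduct.exists_finite_submodule_right_of_setFinite
    (T : Set (S ⊗[R] M)) T.finite_toSet
  have hle : (⊤ : Submodule S (S ⊗[R] M)) ≤ LinearMap.range (LinearMap.baseChange S N.subtype) := by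
    rw [← hT, Submodule.span_le]
    intro t ht
    obtain ⟨y, hy⟩ := hTN ht
    exact ⟨y, hy⟩
  have htop : N = ⊤ := by
    rw [eq_top_iff]
    intro m _
    apply mem_of_one_tmul_mem h N m
    obtain ⟨y, hy⟩ := hle (Submodule.mem_top : (1:S) ⊗ₜ[R] m ∈ ⊤)
    exact ⟨y, hy⟩
  rw [Module.Finite.iff_fg] at hN
  exact ⟨htop ▸ hN⟩

theorem finitePresentation_of_univInjective (h : Pi1.UnivInjective R S) (M : Type u)
    [AddCommGroup M] [Module R M]
    [Module.FinitePresentation S (S ⊗[R] M)] : Module.FinitePresentation R M := by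
  have : Module.Finite R M := finite_of_univInjective h M
  obtain ⟨n, f, hf⟩ := Module.Finite.exists_fin' R M
  obtain ⟨K, hK⟩ : ∃ K, K = LinearMap.ker f := ⟨_, rfl⟩
  have hsurj : Function.Surjective (LinearMap.baseChange S f) :=
    LinearMap.lTensor_surjective S hf
  have hkfg : (LinearMap.ker (LinearMap.baseChange S f)).FG :=
    Module.FinitePresentation.fg_ker _ hsurj
  obtain ⟨T, hT⟩ := hkfg
  have hex : Function.Exact (LinearMap.lTensor S K.subtype) (LinearMap.lTensor S f) := by
    subst hK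
    exact lTensor_exact S (LinearMap.exact_subtype_ker_map f) hf
  have hTr : ∀ t ∈ T, ∃ y : S ⊗[R] K, LinearMap.lTensor S K.subtype y = t := by
    intro t ht
    have : t ∈ LinearMap.ker (LinearMap.baseChange S f) := hT ▸ Submodule.subset_span ht
    exact (hex t).1 (LinearMap.mem_ker.mp this)
  choose! σ hσ using hTr
  obtain ⟨K'', hK'', hsub⟩ := TensorProduct.exists_finite_submodule_right_of_setFinite
    (σ '' (T : Set _)) (T.finite_toSet.image σ)
  obtain ⟨K', hK'⟩ : ∃ K' : Submodule R (Fin n → R), K' = K''.map K.subtype := ⟨_, rfl⟩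
  have hK'fg : K'.FG := hK' ▸ (Module.Finite.iff_fg.mp hK'').map _
  have hK'le : K' ≤ K := hK' ▸ Submodule.map_subtype_le K K''
  have hTK' : ∀ t ∈ T, t ∈ LinearMap.range (LinearMap.lTensor S K'.subtype) := by
    intro t ht
    obtain ⟨z, hz⟩ := hsub ⟨t, ht, rfl⟩
    let g : K'' →ₗ[R] K' := (K.subtype ∘ₗ K''.subtype).codRestrict K'
      (fun c => hK' ▸ ⟨c.1, c.2, rfl⟩)
    have hg : K'.subtype ∘ₗ g = K.subtype ∘ₗ K''.subtype := by ext c; rfl
    refine ⟨LinearMap.lTensor S g z, ?_⟩
    rw [← LinearMap.comp_apply, ← LinearMap.lTensor_comp, hg, LinearMap.lTensor_comp,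
      LinearMap.comp_apply, hz, hσ t ht]
  have hle : LinearMap.ker (LinearMap.baseChange S f) ≤
      LinearMap.range (LinearMap.baseChange S K'.subtype) := by
    rw [← hT, Submodule.span_le]
    intro t ht
    obtain ⟨y, hy⟩ := hTK' t ht
    exact ⟨y, hy⟩
  have hKK' : K ≤ K' := by
    intro x hx
    apply mem_of_one_tmul_mem h K' x
    have : (1 : S) ⊗ₜ[R] x ∈ LinearMap.ker (LinearMap.baseChange S f) := by
      rw [LinearMap.mem_ker, LinearMap.baseChange_tmul]
      rw [hK] at hx
      rw [LinearMap.mem_ker.mp hx, TensorProduct.tmul_zero]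
    obtain ⟨y, hy⟩ := hle this
    exact ⟨y, hy⟩
  have : (LinearMap.ker f).FG := hK ▸ (le_antisymm hKK' hK'le) ▸ hK'fg
  exact Module.finitePresentation_of_surjective f hf this

theorem finiteType_of_univInjective (h : Pi1.UnivInjective R S) (A : Type u) [CommRing A]
    [Algebra R A] [Algebra.FiniteType S (S ⊗[R] A)] : Algebra.FiniteType R A := by
  obtain ⟨T, hT⟩ := (Algebra.FiniteType.out : (⊤ : Subalgebra S (S ⊗[R] A)).FG)
  obtain ⟨N, hN, hTN⟩ := TensorProduct.exists_finite_submodule_right_of_setFinite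
    (T : Set (S ⊗[R] A)) T.finite_toSet
  obtain ⟨G, hG⟩ := Module.Finite.iff_fg.mp hN
  obtain ⟨A', hA'⟩ : ∃ A' : Subalgebra R A, A' = Algebra.adjoin R (G : Set A) := ⟨_, rfl⟩
  have hNA' : N ≤ Subalgebra.toSubmodule A' := by
    rw [← hG, Submodule.span_le, hA']; exact Algebra.subset_adjoin
  let φ : S ⊗[R] A' →ₐ[S] S ⊗[R] A := Algebra.TensorProduct.map (AlgHom.id S S) A'.val
  have hφ : ∀ y : S ⊗[R] A', φ y = LinearMap.lTensor S (Subalgebra.toSubmodule A').subtype y := by
    intro y
    induction y using TensorProduct.induction_on with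
    | zero => simp
    | tmul s a => simp [φ]
    | add a b ha hb => simp only [map_add, ha, hb]
  have hle : (⊤ : Subalgebra S (S ⊗[R] A)) ≤ φ.range := by
    rw [← hT, Algebra.adjoin_le_iff]
    intro t ht
    obtain ⟨z, hz⟩ := hTN ht
    let g : N →ₗ[R] Subalgebra.toSubmodule A' := Submodule.inclusion hNA'
    refine ⟨LinearMap.lTensor S g z, ?_⟩
    have hgc : (Subalgebra.toSubmodule A').subtype ∘ₗ g = N.subtype := by ext c; rfl
    show φ (LinearMap.lTensor S g z) = t
    rw [hφ, ← LinearMap.comp_apply, ← LinearMap.lTensor_comp, hgc, hz]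
  have htop : A' = ⊤ := by
    rw [eq_top_iff]
    intro a _
    have := mem_of_one_tmul_mem h (Subalgebra.toSubmodule A') a (by
      obtain ⟨y, hy⟩ := hle (Algebra.mem_top : (1 : S) ⊗ₜ[R] a ∈ ⊤)
      exact ⟨y, by rw [← hφ]; exact hy⟩)
    exact this
  exact ⟨⟨G, hA' ▸ htop⟩⟩

theorem algFinitePresentation_of_univInjective (h : Pi1.UnivInjective R S) (A : Type u)
    [CommRing A] [Algebra R A]
    [Algebra.FinitePresentation S (S ⊗[R] A)] : Algebra.FinitePresentation R A := by
  have : Algebra.FiniteType R A := finiteType_of_univInjective h A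
  obtain ⟨n, f, hf⟩ := Algebra.FiniteType.iff_quotient_mvPolynomial''.mp
    (inferInstance : Algebra.FiniteType R A)
  let φ : S ⊗[R] MvPolynomial (Fin n) R →ₐ[S] S ⊗[R] A :=
    Algebra.TensorProduct.map (AlgHom.id S S) f
  have hφ : ∀ y, φ y = LinearMap.lTensor S f.toLinearMap y := by
    intro y
    induction y using TensorProduct.induction_on with
    | zero => simp
    | tmul s a => simp [φ]
    | add a b ha hb => simp only [map_add, ha, hb]
  have hφsurj : Function.Surjective φ := by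
    intro z
    obtain ⟨y, hy⟩ := LinearMap.lTensor_surjective S (g := f.toLinearMap) hf z
    exact ⟨y, by rw [hφ, hy]⟩
  have hkfg : (RingHom.ker φ.toRingHom).FG :=
    Algebra.FinitePresentation.ker_fG_of_surjective φ hφsurj
  obtain ⟨T, hT⟩ := hkfg
  obtain ⟨K, hK⟩ : ∃ K, K = LinearMap.ker f.toLinearMap := ⟨_, rfl⟩
  have hex : Function.Exact (LinearMap.lTensor S K.subtype) (LinearMap.lTensor S f.toLinearMap) := by
    subst hK
    exact lTensor_exact S (LinearMap.exact_subtype_ker_map f.toLinearMap) hf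
  have hTr : ∀ t ∈ T, ∃ y : S ⊗[R] K, LinearMap.lTensor S K.subtype y = t := by
    intro t ht
    have : t ∈ RingHom.ker φ.toRingHom := hT ▸ Ideal.subset_span ht
    have h0 : φ t = 0 := this
    exact (hex t).1 (by rw [← hφ]; exact h0)
  choose! σ hσ using hTr
  obtain ⟨K'', hK'', hsub⟩ := TensorProduct.exists_finite_submodule_right_of_setFinite
    (σ '' (T : Set _)) (T.finite_toSet.image σ)
  obtain ⟨G, hG⟩ := (Module.Finite.iff_fg.mp hK'').map K.subtype
  obtain ⟨I', hI'⟩ : ∃ I' : Ideal (MvPolynomial (Fin n) R), I' = Ideal.span (G : Set _) := ⟨_, rfl⟩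
  have hI'fg : I'.FG := ⟨G, hI'.symm⟩
  have hK''I' : ∀ c : K'', (c.1 : MvPolynomial (Fin n) R) ∈ I' := by
    intro c
    have : (c.1 : MvPolynomial (Fin n) R) ∈ K''.map K.subtype := ⟨c.1, c.2, rfl⟩
    rw [← hG] at this
    rw [hI']
    have hle' : Submodule.span R (G : Set (MvPolynomial (Fin n) R)) ≤
        (Ideal.span (G : Set (MvPolynomial (Fin n) R))).restrictScalars R :=
      Submodule.span_le.mpr Ideal.subset_span
    exact hle' this
  have hI'le : I' ≤ RingHom.ker f.toRingHom := by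
    rw [hI', Ideal.span_le]
    intro g hg
    have : g ∈ K''.map K.subtype := hG ▸ Submodule.subset_span hg
    obtain ⟨c, _, rfl⟩ := this
    exact hK.le c.2
  obtain ⟨N', hN'⟩ : ∃ N' : Submodule R (MvPolynomial (Fin n) R), N' = I'.restrictScalars R :=
    ⟨_, rfl⟩
  have hmemN' : ∀ x, x ∈ N' ↔ x ∈ I' := by intro x; rw [hN']; exact Iff.rfl
  have hTN' : ∀ t ∈ T, t ∈ LinearMap.range (LinearMap.lTensor S N'.subtype) := by
    intro t ht
    obtain ⟨z, hz⟩ := hsub ⟨t, ht, rfl⟩
    let g : K'' →ₗ[R] N' := (K.subtype ∘ₗ K''.subtype).codRestrict N'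
      (fun c => (hmemN' _).mpr (hK''I' c))
    have hg : N'.subtype ∘ₗ g = K.subtype ∘ₗ K''.subtype := by ext c; rfl
    refine ⟨LinearMap.lTensor S g z, ?_⟩
    rw [← LinearMap.comp_apply, ← LinearMap.lTensor_comp, hg, LinearMap.lTensor_comp,
      LinearMap.comp_apply, hz, hσ t ht]
  have hJmul : ∀ (a : S ⊗[R] MvPolynomial (Fin n) R) (w : S ⊗[R] N'),
      ∃ w', LinearMap.lTensor S N'.subtype w' = a * LinearMap.lTensor S N'.subtype w := by
    intro a w
    induction a using TensorProduct.induction_on with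
    | zero => exact ⟨0, by simp⟩
    | add a b ha hb =>
      obtain ⟨wa, hwa⟩ := ha
      obtain ⟨wb, hwb⟩ := hb
      exact ⟨wa + wb, by rw [map_add, hwa, hwb, add_mul]⟩
    | tmul s p =>
      induction w using TensorProduct.induction_on with
      | zero => exact ⟨0, by simp⟩
      | add a b ha hb =>
        obtain ⟨wa, hwa⟩ := ha
        obtain ⟨wb, hwb⟩ := hb
        exact ⟨wa + wb, by rw [map_add, map_add, hwa, hwb, mul_add]⟩
      | tmul s' i =>
        exact ⟨(s * s') ⊗ₜ ⟨p * i.1, (hmemN' _).mpr (I'.mul_mem_left p ((hmemN' _).mp i.2))⟩,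
          by simp [Algebra.TensorProduct.tmul_mul_tmul]⟩
  let J : Ideal (S ⊗[R] MvPolynomial (Fin n) R) :=
    { carrier := LinearMap.range (LinearMap.lTensor S N'.subtype)
      add_mem' := fun ha hb => Submodule.add_mem _ ha hb
      zero_mem' := Submodule.zero_mem _
      smul_mem' := fun a z hz => by
        obtain ⟨w, rfl⟩ := hz
        obtain ⟨w', hw'⟩ := hJmul a w
        exact ⟨w', by rw [hw']; rfl⟩ }
  have hle : RingHom.ker φ.toRingHom ≤ J := by
    rw [← hT, Ideal.span_le]
    intro t ht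
    exact hTN' t ht
  have hker : RingHom.ker f.toRingHom ≤ I' := by
    intro x hx
    rw [← hmemN']
    apply mem_of_one_tmul_mem h N' x
    have : (1 : S) ⊗ₜ[R] x ∈ RingHom.ker φ.toRingHom := by
      show φ ((1 : S) ⊗ₜ[R] x) = 0
      have hx0 : f x = 0 := hx
      simp [φ, hx0]
    exact hle this
  have : (RingHom.ker f.toRingHom).FG := (le_antisymm hker hI'le) ▸ hI'fg
  exact Algebra.FinitePresentation.of_surjective hf this

end Groth.Agent.Lib.UnivInjH1
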