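import Mathlib

/-! Universally injective maps from projective to flat modules over a local ring (lead). -/

namespace Groth.Agent.Lib.UnivInj

open TensorProduct

universe u

section basic
variable {R : Type u} [CommRing R]

theorem single_eq_smul {ι₀ : Type*} [DecidableEq ι₀] (i : ι₀) (r : R) :
    (Pi.single i r : ι₀ → R) = r • (Pi.single i 1 : ι₀ → R) := by
  ext j
  simp [Pi.single_apply]

/-- factorisation through a finite free module killing a given tensor. -/
theorem exists_factor {N : Type*} [AddCommGroup N] [Module R N] [Module.Flat R N]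
    {Q : Type*} [AddCommGroup Q] [Module R Q]
    {ι₀ : Type*} [Fintype ι₀] [DecidableEq ι₀]
    (v : (ι₀ → R) →ₗ[R] N) (q : ι₀ → Q)
    (h : ∑ i, v (Pi.single i 1) ⊗ₜ[R] q i = 0) :
    ∃ (k' : ℕ) (α : (ι₀ → R) →ₗ[R] (Fin k' → R)) (y : (Fin k' → R) →ₗ[R] N),
      v = y ∘ₗ α ∧ ∑ i, α (Pi.single i 1) ⊗ₜ[R] q i = 0 := by
  have h' : ∑ i, q i ⊗ₜ[R] v (Pi.single i 1) = 0 := by
    have h2 := congrArg (TensorProduct.comm R N Q) h
    rw [map_sum, map_zero] at h2
    rw [← h2]
    refine Finset.sum_congr rfl fun i _ => ?_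
    rw [TensorProduct.comm_tmul]
  have hm : Function.Injective
      (LinearMap.rTensor N (Submodule.span R (Set.range q)).subtype) :=
    Module.Flat.rTensor_preserves_injective_linearMap _ (Submodule.injective_subtype _)
  obtain ⟨k', a, y, hy, ha⟩ :=
    TensorProduct.vanishesTrivially_of_sum_tmul_eq_zero_of_rTensor_injective R hm h'
  refine ⟨k', Fintype.linearCombination R (fun i => a i), Fintype.linearCombination R y, ?_, ?_⟩
  · apply LinearMap.pi_ext
    intro i r
    rw [LinearMap.comp_apply, Fintype.linearCombination_apply_single, map_smul,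
      Fintype.linearCombination_apply, ← hy i, single_eq_smul i r, map_smul]
  · have e1 : ∀ i, (a i : Fin k' → R) = ∑ j, a i j • (Pi.single j 1 : Fin k' → R) := by
      intro i
      conv_lhs => rw [← Finset.univ_sum_single (a i)]
      refine Finset.sum_congr rfl fun j _ => ?_
      exact single_eq_smul j (a i j)
    calc ∑ i, (Fintype.linearCombination R (fun i => a i)) (Pi.single i 1) ⊗ₜ[R] q i
        = ∑ i, ∑ j, (Pi.single j 1 : Fin k' → R) ⊗ₜ[R] (a i j • q i) := by
          refine Finset.sum_congr rfl fun i _ => ?_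
          have e2 : (a i : Fin k' → R) ⊗ₜ[R] q i =
              (∑ j, a i j • (Pi.single j 1 : Fin k' → R)) ⊗ₜ[R] q i :=
            congrArg (fun w => w ⊗ₜ[R] q i) (e1 i)
          rw [Fintype.linearCombination_apply_single, one_smul, e2, TensorProduct.sum_tmul]
          refine Finset.sum_congr rfl fun j _ => ?_
          rw [TensorProduct.smul_tmul]
      _ = ∑ j, (Pi.single j 1 : Fin k' → R) ⊗ₜ[R] (∑ i, a i j • q i) := by
          rw [Finset.sum_comm]
          refine Finset.sum_congr rfl fun j _ => ?_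
          rw [TensorProduct.tmul_sum]
      _ = 0 := by
          refine Finset.sum_eq_zero fun j _ => ?_
          rw [ha j, TensorProduct.tmul_zero]

end basic

section localRing
variable {R : Type u} [CommRing R] [IsLocalRing R]

local notation "𝕜" => IsLocalRing.ResidueField R

/-- finite free case with two test maps. -/
theorem finite_two {N₁ N₂ : Type*} [AddCommGroup N₁] [Module R N₁] [Module.Flat R N₁]
    [AddCommGroup N₂] [Module R N₂] [Module.Flat R N₂]
    {Q : Type*} [AddCommGroup Q] [Module R Q]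
    {ι₀ : Type*} [Fintype ι₀] [DecidableEq ι₀]
    (v₁ : (ι₀ → R) →ₗ[R] N₁) (v₂ : (ι₀ → R) →ₗ[R] N₂)
    (hjoint : ∀ z : 𝕜 ⊗[R] (ι₀ → R), LinearMap.lTensor 𝕜 v₁ z = 0 →
      LinearMap.lTensor 𝕜 v₂ z = 0 → z = 0)
    (q : ι₀ → Q)
    (h₁ : ∑ i, v₁ (Pi.single i 1) ⊗ₜ[R] q i = 0)
    (h₂ : ∑ i, v₂ (Pi.single i 1) ⊗ₜ[R] q i = 0) :
    ∑ i, (Pi.single i 1 : ι₀ → R) ⊗ₜ[R] q i = 0 := by
  obtain ⟨k₁, α₁, y₁, hv₁, hα₁⟩ := exists_factor v₁ q h₁
  obtain ⟨k₂, α₂, y₂, hv₂, hα₂⟩ := exists_factor v₂ q h₂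
  have hinj : Function.Injective (LinearMap.lTensor 𝕜 (α₁.prod α₂)) := by
    rw [injective_iff_map_eq_zero]
    intro z hz
    have hz1 : LinearMap.lTensor 𝕜 α₁ z = 0 := by
      have e : α₁ = (LinearMap.fst R (Fin k₁ → R) (Fin k₂ → R)) ∘ₗ (α₁.prod α₂) :=
        (LinearMap.fst_prod α₁ α₂).symm
      rw [e, LinearMap.lTensor_comp, LinearMap.comp_apply, hz, map_zero]
    have hz2 : LinearMap.lTensor 𝕜 α₂ z = 0 := by
      have e : α₂ = (LinearMap.snd R (Fin k₁ → R) (Fin k₂ → R)) ∘ₗ (α₁.prod α₂) :=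
        (LinearMap.snd_prod α₁ α₂).symm
      rw [e, LinearMap.lTensor_comp, LinearMap.comp_apply, hz, map_zero]
    apply hjoint z
    · rw [hv₁, LinearMap.lTensor_comp, LinearMap.comp_apply, hz1, map_zero]
    · rw [hv₂, LinearMap.lTensor_comp, LinearMap.comp_apply, hz2, map_zero]
  obtain ⟨α', hα'⟩ :=
    (IsLocalRing.split_injective_iff_lTensor_residueField_injective (α₁.prod α₂)).mpr hinj
  have hdec : (LinearMap.id : (ι₀ → R) →ₗ[R] (ι₀ → R)) =
      (α' ∘ₗ LinearMap.inl R (Fin k₁ → R) (Fin k₂ → R)) ∘ₗ α₁ +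
        (α' ∘ₗ LinearMap.inr R (Fin k₁ → R) (Fin k₂ → R)) ∘ₗ α₂ := by
    rw [← hα']
    refine LinearMap.ext fun f => ?_
    show α' (α₁ f, α₂ f) = α' (α₁ f, 0) + α' (0, α₂ f)
    rw [← map_add, Prod.mk_add_mk, add_zero, zero_add]
  have hx1 : LinearMap.rTensor Q α₁ (∑ i, (Pi.single i 1 : ι₀ → R) ⊗ₜ[R] q i) = 0 := by
    rw [map_sum]
    exact hα₁
  have hx2 : LinearMap.rTensor Q α₂ (∑ i, (Pi.single i 1 : ι₀ → R) ⊗ₜ[R] q i) = 0 := by
    rw [map_sum]
    exact hα₂
  have e := LinearMap.congr_fun (congrArg (LinearMap.rTensor Q) hdec)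
    (∑ i, (Pi.single i 1 : ι₀ → R) ⊗ₜ[R] q i)
  have t1 : LinearMap.rTensor Q ((α' ∘ₗ LinearMap.inl R (Fin k₁ → R) (Fin k₂ → R)) ∘ₗ α₁)
      (∑ i, (Pi.single i 1 : ι₀ → R) ⊗ₜ[R] q i) = 0 := by
    rw [LinearMap.rTensor_comp, LinearMap.comp_apply, hx1, map_zero]
  have t2 : LinearMap.rTensor Q ((α' ∘ₗ LinearMap.inr R (Fin k₁ → R) (Fin k₂ → R)) ∘ₗ α₂)
      (∑ i, (Pi.single i 1 : ι₀ → R) ⊗ₜ[R] q i) = 0 := by
    rw [LinearMap.rTensor_comp, LinearMap.comp_apply, hx2, map_zero]
  rw [LinearMap.rTensor_id, LinearMap.id_apply, LinearMap.rTensor_add, LinearMap.add_apply,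
    t1, t2, add_zero] at e
  exact e

/-- free case with two test maps. -/
theorem free_two {ι : Type*} {N₁ N₂ : Type*} [AddCommGroup N₁] [Module R N₁] [Module.Flat R N₁]
    [AddCommGroup N₂] [Module R N₂] [Module.Flat R N₂]
    (u₁ : (ι →₀ R) →ₗ[R] N₁) (u₂ : (ι →₀ R) →ₗ[R] N₂)
    (hjoint : ∀ z : 𝕜 ⊗[R] (ι →₀ R), LinearMap.lTensor 𝕜 u₁ z = 0 →
      LinearMap.lTensor 𝕜 u₂ z = 0 → z = 0)
    {Q : Type*} [AddCommGroup Q] [Module R Q] (z : (ι →₀ R) ⊗[R] Q)
    (h₁ : LinearMap.rTensor Q u₁ z = 0) (h₂ : LinearMap.rTensor Q u₂ z = 0) : z = 0 := by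
  classical
  obtain ⟨q, hq⟩ : ∃ q : ι →₀ Q, q = finsuppScalarLeft R Q ι z := ⟨_, rfl⟩
  have hz : z = (finsuppScalarLeft R Q ι).symm q := by
    rw [hq, LinearEquiv.symm_apply_apply]
  -- the finite index set
  let jσ : (q.support → R) →ₗ[R] (ι →₀ R) :=
    Fintype.linearCombination R (fun i : q.support => Finsupp.single (i : ι) (1 : R))
  let pσ : (ι →₀ R) →ₗ[R] (q.support → R) :=
    LinearMap.pi (fun i : q.support => Finsupp.lapply (i : ι))
  have hpj : pσ ∘ₗ jσ = LinearMap.id := by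
    apply LinearMap.pi_ext
    intro i r
    rw [LinearMap.comp_apply, LinearMap.id_apply]
    show pσ (Fintype.linearCombination R
      (fun i : q.support => Finsupp.single (i : ι) (1 : R)) (Pi.single i r)) = Pi.single i r
    rw [Fintype.linearCombination_apply_single]
    funext i'
    show (r • Finsupp.single (i : ι) (1 : R)) (i' : ι) = (Pi.single i r : q.support → R) i'
    rw [Finsupp.smul_apply, Finsupp.single_apply, Pi.single_apply, smul_eq_mul]
    by_cases hii : i' = i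
    · rw [if_pos hii, if_pos (by rw [hii]), mul_one]
    · rw [if_neg hii, if_neg (fun hc => hii (Subtype.ext hc.symm)), mul_zero]
  have hjx : LinearMap.rTensor Q jσ
      (∑ i : q.support, (Pi.single i 1 : q.support → R) ⊗ₜ[R] q (i : ι)) = z := by
    rw [map_sum, hz]
    have e1 : ∀ i : q.support, LinearMap.rTensor Q jσ
        ((Pi.single i 1 : q.support → R) ⊗ₜ[R] q (i : ι)) =
        (finsuppScalarLeft R Q ι).symm (Finsupp.single (i : ι) (q (i : ι))) := by
      intro i
      rw [LinearMap.rTensor_tmul, finsuppScalarLeft_symm_apply_single]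
      show (Fintype.linearCombination R
        (fun i : q.support => Finsupp.single (i : ι) (1 : R)) (Pi.single i 1)) ⊗ₜ[R] q (i : ι) = _
      rw [Fintype.linearCombination_apply_single, one_smul]
    rw [Finset.sum_congr rfl fun i _ => e1 i, ← map_sum]
    congr 1
    rw [Finset.univ_eq_attach,
      Finset.sum_attach q.support (fun i => Finsupp.single i (q i))]
    exact Finsupp.sum_single q
  have key := finite_two (Q := Q) (u₁ ∘ₗ jσ) (u₂ ∘ₗ jσ) (fun z' hz1 hz2 => by
      have hz0 : LinearMap.lTensor 𝕜 jσ z' = 0 := by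
        apply hjoint
        · rw [← LinearMap.comp_apply, ← LinearMap.lTensor_comp]
          exact hz1
        · rw [← LinearMap.comp_apply, ← LinearMap.lTensor_comp]
          exact hz2
      have e : z' = LinearMap.lTensor 𝕜 pσ (LinearMap.lTensor 𝕜 jσ z') := by
        rw [← LinearMap.comp_apply, ← LinearMap.lTensor_comp, hpj, LinearMap.lTensor_id,
          LinearMap.id_apply]
      rw [e, hz0, map_zero])
    (fun i : q.support => q (i : ι))
    (by
      have e : ∑ i : q.support, (u₁ ∘ₗ jσ) (Pi.single i 1) ⊗ₜ[R] q (i : ι) =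
          LinearMap.rTensor Q u₁ (LinearMap.rTensor Q jσ
            (∑ i : q.support, (Pi.single i 1 : q.support → R) ⊗ₜ[R] q (i : ι))) := by
        rw [map_sum, map_sum]
        rfl
      rw [e, hjx, h₁])
    (by
      have e : ∑ i : q.support, (u₂ ∘ₗ jσ) (Pi.single i 1) ⊗ₜ[R] q (i : ι) =
          LinearMap.rTensor Q u₂ (LinearMap.rTensor Q jσ
            (∑ i : q.support, (Pi.single i 1 : q.support → R) ⊗ₜ[R] q (i : ι))) := by
        rw [map_sum, map_sum]
        rfl
      rw [e, hjx, h₂])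
  rw [← hjx, key, map_zero]

/-- the projective case. -/
theorem projective_case {M N : Type u} [AddCommGroup M] [Module R M] [Module.Projective R M]
    [AddCommGroup N] [Module R N] [Module.Flat R N] (u : M →ₗ[R] N)
    (h : Function.Injective (LinearMap.lTensor 𝕜 u))
    (Q : Type u) [AddCommGroup Q] [Module R Q] :
    Function.Injective (LinearMap.rTensor Q u) := by
  obtain ⟨s, hs⟩ := Module.projective_def'.mp (inferInstance : Module.Projective R M)
  obtain ⟨π, hπ⟩ : ∃ π : (M →₀ R) →ₗ[R] M, π = Finsupp.linearCombination R id := ⟨_, rfl⟩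
  rw [← hπ] at hs
  rw [injective_iff_map_eq_zero]
  intro x hx
  have hjoint : ∀ z : 𝕜 ⊗[R] (M →₀ R), LinearMap.lTensor 𝕜 (u ∘ₗ π) z = 0 →
      LinearMap.lTensor 𝕜 (LinearMap.id - s ∘ₗ π) z = 0 → z = 0 := by
    intro z hz1 hz2
    rw [LinearMap.lTensor_sub, LinearMap.sub_apply, LinearMap.lTensor_id, LinearMap.id_apply,
      LinearMap.lTensor_comp, LinearMap.comp_apply, sub_eq_zero] at hz2
    rw [LinearMap.lTensor_comp, LinearMap.comp_apply] at hz1
    have h0 : LinearMap.lTensor 𝕜 π z = 0 := h (hz1.trans (map_zero _).symm)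
    rw [hz2, h0, map_zero]
  have hz1 : LinearMap.rTensor Q (u ∘ₗ π) (LinearMap.rTensor Q s x) = 0 := by
    rw [← LinearMap.comp_apply, ← LinearMap.rTensor_comp, LinearMap.comp_assoc, hs,
      LinearMap.comp_id]
    exact hx
  have hz2 : LinearMap.rTensor Q (LinearMap.id - s ∘ₗ π) (LinearMap.rTensor Q s x) = 0 := by
    have e0 : (LinearMap.id - s ∘ₗ π) ∘ₗ s = 0 := by
      rw [LinearMap.sub_comp, LinearMap.id_comp, LinearMap.comp_assoc, hs, LinearMap.comp_id]
      exact sub_self s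
    rw [← LinearMap.comp_apply, ← LinearMap.rTensor_comp, e0, LinearMap.rTensor_zero,
      LinearMap.zero_apply]
  have hz := free_two (u ∘ₗ π) (LinearMap.id - s ∘ₗ π) hjoint (LinearMap.rTensor Q s x) hz1 hz2
  have e : x = LinearMap.rTensor Q π (LinearMap.rTensor Q s x) := by
    rw [← LinearMap.comp_apply, ← LinearMap.rTensor_comp, hs, LinearMap.rTensor_id,
      LinearMap.id_apply]
  rw [e, hz, map_zero]

end localRing

end Groth.Agent.Lib.UnivInj
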