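import Mathlib
import Groth.Prelude.Def_W4c5normfunctorschNorm
import Groth.Agent.Lib.NormBC_helper1

/-!
# Base change of a universal normic pair (helper1, S17909)
-/

set_option autoImplicit false
universe u
open scoped TensorProduct

namespace Groth.Agent.Lib.UnivNormBCH1

open Groth.Agent.Lib.NormBCH1

section GE

variable {R : Type u} [CommRing R] {Q : Type u} [CommRing Q] [Algebra R Q]
  {X : Type u} [AddCommGroup X] [Module R X]
  {Y : Type u} [AddCommGroup Y] [Module R Y] [Module Q Y] [IsScalarTower R Q Y]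
  {g : X →ₗ[R] Y} (hg : IsBaseChange Q g)

section semi

variable (P : Type u) [CommSemiring P] [Algebra R P] [Algebra Q P] [IsScalarTower R Q P]

/-- `P ⊗[R] X ≃ P ⊗[Q] Y`, `p ⊗ x ↦ p ⊗ g x`, when `Y` is the base change of `X` along `R → Q`. -/
noncomputable def GE : P ⊗[R] X ≃ₗ[P] P ⊗[Q] Y :=
  (TensorProduct.AlgebraTensorModule.cancelBaseChange R Q P P X).symm ≪≫ₗ
    (TensorProduct.AlgebraTensorModule.congr (LinearEquiv.refl P P) hg.equiv)

theorem GE_tmul (p : P) (x : X) : GE hg P (p ⊗ₜ[R] x) = p ⊗ₜ[Q] g x := by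
  simp [GE, IsBaseChange.equiv_tmul]

variable (P' : Type u) [CommSemiring P'] [Algebra R P'] [Algebra Q P'] [IsScalarTower R Q P']

theorem GE_nat (φ : P →ₐ[Q] P') (φR : P →ₐ[R] P') (hφ : ∀ p, φR p = φ p) (z : P ⊗[R] X) :
    φ.toLinearMap.rTensor Y (GE hg P z) = GE hg P' (φR.toLinearMap.rTensor X z) := by
  induction z using TensorProduct.induction_on with
  | zero => simp
  | tmul p x => simp [GE_tmul, hφ]
  | add a b ha hb => simp only [map_add, ha, hb]

theorem GE_symm_nat (φ : P →ₐ[Q] P') (φR : P →ₐ[R] P') (hφ : ∀ p, φR p = φ p) (w : P ⊗[Q] Y) :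
    φR.toLinearMap.rTensor X ((GE hg P).symm w) = (GE hg P').symm (φ.toLinearMap.rTensor Y w) := by
  rw [LinearEquiv.eq_symm_apply, ← GE_nat hg P P' φ φR hφ, LinearEquiv.apply_symm_apply]

end semi

theorem GE_eq_bcAlong (P : Type u) [CommRing P] [Algebra R P] [Algebra Q P] [IsScalarTower R Q P]
    (z : P ⊗[R] X) : GE hg P z = PolLaw.bcAlong g P z := by
  induction z using TensorProduct.induction_on with
  | zero => simp
  | tmul p x => rw [GE_tmul, bcAlong_tmul]
  | add a b ha hb => simp only [map_add, ha, hb]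

end GE

section lam

variable {R : Type u} [CommRing R] {Q : Type u} [CommRing Q] [Algebra R Q]
  {X : Type u} [AddCommGroup X] [Module R X]
  {Y : Type u} [AddCommGroup Y] [Module R Y] [Module Q Y] [IsScalarTower R Q Y]
  {g : X →ₗ[R] Y} (hg : IsBaseChange Q g)
  {N : Type u} [AddCommGroup N] [Module R N] (ν : X →ₚₗ[R] N)

/-- the member of the base-changed law -/
noncomputable def lamFun (P : Type u) [CommSemiring P] [Algebra R P] [Algebra Q P]
    [IsScalarTower R Q P] (w : P ⊗[Q] Y) : P ⊗[Q] (Q ⊗[R] N) :=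
  GE (TensorProduct.isBaseChange R N Q) P (ν.toFun' P ((GE hg P).symm w))

theorem lamFun_compat (P : Type u) [CommSemiring P] [Algebra R P] [Algebra Q P]
    [IsScalarTower R Q P] (P' : Type u) [CommSemiring P'] [Algebra R P'] [Algebra Q P']
    [IsScalarTower R Q P'] (φ : P →ₐ[Q] P') (w : P ⊗[Q] Y) :
    φ.toLinearMap.rTensor (Q ⊗[R] N) (lamFun hg ν P w) =
      lamFun hg ν P' (φ.toLinearMap.rTensor Y w) := by
  have hφ : ∀ p, (φ.restrictScalars R) p = φ p := fun _ => rfl
  rw [lamFun, lamFun, GE_nat _ P P' φ (φ.restrictScalars R) hφ, PolynomialLaw.isCompat_apply',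
    GE_symm_nat hg P P' φ (φ.restrictScalars R) hφ]

/-- the base change of an `R`-law `X → N` to a `Q`-law `Y → Q ⊗[R] N`, `Y = Q ⊗[R] X`. -/
noncomputable def lam : Y →ₚₗ[Q] (Q ⊗[R] N) where
  toFun' P _ _ :=
    letI : Algebra R P := Algebra.compHom P (algebraMap R Q)
    haveI : IsScalarTower R Q P := IsScalarTower.of_algebraMap_eq (fun _ => rfl)
    lamFun hg ν P
  isCompat' {P} _ _ {P'} _ _ φ := by
    letI : Algebra R P := Algebra.compHom P (algebraMap R Q)
    haveI : IsScalarTower R Q P := IsScalarTower.of_algebraMap_eq (fun _ => rfl)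
    letI : Algebra R P' := Algebra.compHom P' (algebraMap R Q)
    haveI : IsScalarTower R Q P' := IsScalarTower.of_algebraMap_eq (fun _ => rfl)
    funext w
    exact lamFun_compat hg ν P P' φ w

theorem lam_toFun' (P : Type u) [CommSemiring P] [iA : Algebra R P] [Algebra Q P]
    [IsScalarTower R Q P] (w : P ⊗[Q] Y) :
    (lam hg ν).toFun' P w = lamFun hg ν P w := by
  obtain rfl : iA = Algebra.compHom P (algebraMap R Q) :=
    Algebra.algebra_ext _ _ (fun a => IsScalarTower.algebraMap_apply R Q P a)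
  rfl

end lam

section Psi

variable (R : Type u) [CommRing R] (Q : Type u) [CommRing Q] [Algebra R Q]
  (S : Type u) [CommSemiring S] [Algebra R S]
  (Y : Type u) [AddCommGroup Y] [Module R Y] [Module Q Y] [IsScalarTower R Q Y]

/-- `(Q ⊗[R] S) ⊗[Q] Y → S ⊗[R] Y`, `(q ⊗ s) ⊗ y ↦ s ⊗ q • y`. -/
noncomputable def Psi : (Q ⊗[R] S) ⊗[Q] Y →ₗ[R] S ⊗[R] Y :=
  (TensorProduct.comm R Y S).toLinearMap ∘ₗ
  ((TensorProduct.AlgebraTensorModule.cancelBaseChange R Q Q Y S).toLinearMap.restrictScalars R) ∘ₗ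
  ((TensorProduct.comm Q (Q ⊗[R] S) Y).toLinearMap.restrictScalars R)

variable {R Q S Y}

theorem Psi_tmul (q : Q) (s : S) (y : Y) :
    Psi R Q S Y ((q ⊗ₜ[R] s) ⊗ₜ[Q] y) = s ⊗ₜ[R] (q • y) := by
  simp [Psi]

theorem Psi_smul (s : S) (w : (Q ⊗[R] S) ⊗[Q] Y) :
    Psi R Q S Y (((1 : Q) ⊗ₜ[R] s) • w) = s • Psi R Q S Y w := by
  induction w using TensorProduct.induction_on with
  | zero => simp
  | tmul t y =>
    induction t using TensorProduct.induction_on with
    | zero => simp
    | tmul q s' =>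
      rw [TensorProduct.smul_tmul', smul_eq_mul, Algebra.TensorProduct.tmul_mul_tmul, one_mul,
        Psi_tmul, Psi_tmul, TensorProduct.smul_tmul', smul_eq_mul]
    | add a b ha hb =>
      rw [TensorProduct.add_tmul, smul_add, map_add, ha, hb, map_add, smul_add]
  | add a b ha hb => rw [smul_add, map_add, ha, hb, map_add, smul_add]

theorem Psi_nat_mod {Z : Type u} [AddCommGroup Z] [Module R Z] [Module Q Z] [IsScalarTower R Q Z]
    (h : Y →ₗ[Q] Z) (w : (Q ⊗[R] S) ⊗[Q] Y) :
    (h.restrictScalars R).lTensor S (Psi R Q S Y w) = Psi R Q S Z (h.lTensor (Q ⊗[R] S) w) := by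
  induction w using TensorProduct.induction_on with
  | zero => simp
  | tmul t y =>
    induction t using TensorProduct.induction_on with
    | zero => simp
    | tmul q s' => simp [Psi_tmul]
    | add a b ha hb =>
      rw [TensorProduct.add_tmul, map_add, map_add, ha, hb, map_add, map_add]
  | add a b ha hb => simp only [map_add, ha, hb]

theorem Psi_nat_alg {S' : Type u} [CommSemiring S'] [Algebra R S'] (φ : S →ₐ[R] S')
    (w : (Q ⊗[R] S) ⊗[Q] Y) :
    φ.toLinearMap.rTensor Y (Psi R Q S Y w) =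
      Psi R Q S' Y ((Algebra.TensorProduct.map (AlgHom.id Q Q) φ).toLinearMap.rTensor Y w) := by
  induction w using TensorProduct.induction_on with
  | zero => simp
  | tmul t y =>
    induction t using TensorProduct.induction_on with
    | zero => simp
    | tmul q s' => simp [Psi_tmul]
    | add a b ha hb =>
      rw [TensorProduct.add_tmul, map_add, map_add, ha, hb, map_add, map_add]
  | add a b ha hb => simp only [map_add, ha, hb]

theorem Psi_GE {X : Type u} [AddCommGroup X] [Module R X] {g : X →ₗ[R] Y}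
    (hg : IsBaseChange Q g) (y : S ⊗[R] X) :
    Psi R Q S Y (GE hg (Q ⊗[R] S)
      ((Algebra.TensorProduct.includeRight : S →ₐ[R] Q ⊗[R] S).toLinearMap.rTensor X y)) =
      g.lTensor S y := by
  induction y using TensorProduct.induction_on with
  | zero => simp
  | tmul s x => simp [GE_tmul, Psi_tmul]
  | add a b ha hb => simp only [map_add, ha, hb]

variable (R Q) in
/-- the multiplication map `Q ⊗[R] P → P` -/
noncomputable def multQ (P : Type u) [CommSemiring P] [Algebra R P] [Algebra Q P]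
    [IsScalarTower R Q P] : Q ⊗[R] P →ₐ[Q] P :=
  Algebra.TensorProduct.lift (Algebra.ofId Q P) (AlgHom.id R P) (fun _ _ => Commute.all _ _)

theorem multQ_tmul (P : Type u) [CommSemiring P] [Algebra R P] [Algebra Q P]
    [IsScalarTower R Q P] (q : Q) (p : P) : multQ R Q P (q ⊗ₜ[R] p) = algebraMap Q P q * p := by
  simp [multQ]

theorem bcAlong_id_lTensor {N : Type u} [AddCommGroup N] [Module R N] (u : N →ₗ[R] Y)
    (P : Type u) [CommRing P] [Algebra R P] [Algebra Q P] [IsScalarTower R Q P] (z : P ⊗[R] N) :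
    PolLaw.bcAlong (Q := Q) u P z =
      PolLaw.bcAlong (Q := Q) (LinearMap.id : Y →ₗ[R] Y) P (u.lTensor P z) := by
  induction z using TensorProduct.induction_on with
  | zero => simp
  | tmul p x => simp [bcAlong_tmul]
  | add a b ha hb => simp only [map_add, ha, hb]

theorem can_Psi (P : Type u) [CommRing P] [Algebra R P] [Algebra Q P] [IsScalarTower R Q P]
    (w : (Q ⊗[R] P) ⊗[Q] Y) :
    PolLaw.bcAlong (Q := Q) (LinearMap.id : Y →ₗ[R] Y) P (Psi R Q P Y w) =
      (multQ R Q P).toLinearMap.rTensor Y w := by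
  induction w using TensorProduct.induction_on with
  | zero => simp
  | tmul t y =>
    induction t using TensorProduct.induction_on with
    | zero => simp
    | tmul q p =>
      rw [Psi_tmul, bcAlong_tmul, LinearMap.rTensor_tmul, AlgHom.toLinearMap_apply, multQ_tmul,
        LinearMap.id_apply, ← Algebra.smul_def, TensorProduct.smul_tmul]
    | add a b ha hb =>
      rw [TensorProduct.add_tmul, map_add, map_add, ha, hb, map_add]
  | add a b ha hb => simp only [map_add, ha, hb]

end Psi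

section mu

variable {R : Type u} [CommRing R] {Q : Type u} [CommRing Q] [Algebra R Q]
  {X : Type u} [AddCommGroup X] [Module R X]
  {Y : Type u} [AddCommGroup Y] [Module R Y] [Module Q Y] [IsScalarTower R Q Y]
  {g : X →ₗ[R] Y} (hg : IsBaseChange Q g)
  {Z : Type u} [AddCommGroup Z] [Module R Z] [Module Q Z] [IsScalarTower R Q Z]
  (F : Y →ₚₗ[Q] Z)

/-- `S ⊗[R] X → (Q ⊗[R] S) ⊗[Q] Y`, `s ⊗ x ↦ (1 ⊗ s) ⊗ g x`. -/
noncomputable def sig (S : Type u) [CommSemiring S] [Algebra R S] :
    S ⊗[R] X →ₗ[R] (Q ⊗[R] S) ⊗[Q] Y :=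
  ((GE hg (Q ⊗[R] S)).toLinearMap.restrictScalars R) ∘ₗ
    ((Algebra.TensorProduct.includeRight : S →ₐ[R] Q ⊗[R] S).toLinearMap.rTensor X)

theorem sig_tmul (S : Type u) [CommSemiring S] [Algebra R S] (s : S) (x : X) :
    sig hg S (s ⊗ₜ[R] x) = ((1 : Q) ⊗ₜ[R] s) ⊗ₜ[Q] g x := by
  simp [sig, GE_tmul]

theorem sig_nat {S S' : Type u} [CommSemiring S] [Algebra R S] [CommSemiring S'] [Algebra R S']
    (φ : S →ₐ[R] S') (x : S ⊗[R] X) :
    (Algebra.TensorProduct.map (AlgHom.id Q Q) φ).toLinearMap.rTensor Y (sig hg S x) =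
      sig hg S' (φ.toLinearMap.rTensor X x) := by
  induction x using TensorProduct.induction_on with
  | zero => simp
  | tmul s x => simp [sig_tmul]
  | add a b ha hb => simp only [map_add, ha, hb]

theorem mult_sig (P : Type u) [CommRing P] [Algebra R P] [Algebra Q P] [IsScalarTower R Q P]
    (m : P ⊗[R] X) :
    (multQ R Q P).toLinearMap.rTensor Y (sig hg P m) = PolLaw.bcAlong g P m := by
  induction m using TensorProduct.induction_on with
  | zero => simp
  | tmul p x => simp [sig_tmul, multQ_tmul, bcAlong_tmul]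
  | add a b ha hb => simp only [map_add, ha, hb]

/-- the member of the restricted law -/
noncomputable def muFun (S : Type u) [CommSemiring S] [Algebra R S] (x : S ⊗[R] X) : S ⊗[R] Z :=
  Psi R Q S Z (F.toFun' (Q ⊗[R] S) (sig hg S x))

/-- the `R`-law `X → Z` obtained from a `Q`-law `Y → Z`, `Y = Q ⊗[R] X`. -/
noncomputable def mu : X →ₚₗ[R] Z where
  toFun' S _ _ := muFun hg F S
  isCompat' {S} _ _ {S'} _ _ φ := by
    funext x
    show φ.toLinearMap.rTensor Z (muFun hg F S x) = muFun hg F S' (φ.toLinearMap.rTensor X x)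
    rw [muFun, muFun, Psi_nat_alg, PolynomialLaw.isCompat_apply', sig_nat]

theorem compat_of {N : Type u} [AddCommGroup N] [Module R N] (ν : X →ₚₗ[R] N) (u : N →ₗ[R] Z)
    (hu : PolLaw.postcomp u ν = mu hg F)
    (P : Type u) [CommRing P] [Algebra R P] [Algebra Q P] [IsScalarTower R Q P] (m : P ⊗[R] X) :
    F.toFun' P (PolLaw.bcAlong g P m) = PolLaw.bcAlong u P (ν.toFun' P m) := by
  have h1 : u.lTensor P (ν.toFun' P m) = muFun hg F P m := by
    have := congrArg (fun L : X →ₚₗ[R] Z => L.toFun' P m) hu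
    exact this
  rw [bcAlong_id_lTensor u P, h1, muFun, can_Psi, PolynomialLaw.isCompat_apply', mult_sig]

end mu

section normic

variable {R R' Q Q' : Type u} [CommRing R] [CommRing R'] [Algebra R R']
    [CommRing Q] [Algebra R Q] [CommRing Q'] [Algebra R Q'] [Algebra Q Q'] [Algebra R' Q']
    [IsScalarTower R Q Q'] [IsScalarTower R R' Q'] [Algebra.IsPushout R Q R' Q']
    {M' : Type u} [AddCommGroup M'] [Module R M'] [Module R' M'] [IsScalarTower R R' M']
    {M'' : Type u} [AddCommGroup M''] [Module R M''] [Module R' M''] [Module Q M''] [Module Q' M'']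
    [IsScalarTower R R' M''] [IsScalarTower R Q M''] [IsScalarTower R' Q' M'']
    [IsScalarTower Q Q' M'']
    (f : M' →ₗ[R'] M'')

theorem isBaseChange_restrict (hf : IsBaseChange Q' f) :
    IsBaseChange Q (f.restrictScalars R) := by
  let e : Q ⊗[R] M' ≃ₗ[Q] M'' :=
    (Algebra.IsPushout.cancelBaseChange R Q R' Q' M').symm ≪≫ₗ (hf.equiv.restrictScalars Q)
  refine IsBaseChange.of_equiv e (fun m => ?_)
  simp [e, IsBaseChange.equiv_tmul]

variable (hM : IsBaseChange Q (f.restrictScalars R))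

theorem act_GE (P : Type u) [CommRing P] [Algebra R P] [Algebra Q P] [IsScalarTower R Q P]
    (z : P ⊗[R] R') (m : P ⊗[R] M') :
    PolLaw.actEnd (A := Q) (B := Q') M'' P (E R R' Q Q' P z) (GE hM P m) =
      GE hM P (PolLaw.actEnd (A := R) (B := R') M' P z m) := by
  induction z using TensorProduct.induction_on with
  | zero => simp
  | tmul p r =>
    induction m using TensorProduct.induction_on with
    | zero => simp
    | tmul p₂ m' =>
      rw [E_tmul, GE_tmul, PolLaw.actEnd_tmul_tmul, PolLaw.actEnd_tmul_tmul, GE_tmul]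
      congr 1
      show algebraMap R' Q' r • f m' = f (r • m')
      rw [algebraMap_smul, map_smul]
    | add a b ha hb => simp only [map_add, ha, hb]
  | add a b ha hb => simp only [map_add, LinearMap.add_apply, ha, hb]

theorem postcomp_normic {N E : Type u} [AddCommGroup N] [Module R N] [AddCommGroup E] [Module R E]
    (ν : M' →ₚₗ[R] N) (hν : PolLaw.IsNormic R' ν) (φ : N →ₗ[R] E) :
    PolLaw.IsNormic R' (PolLaw.postcomp φ ν) := by
  intro P _ _ x m
  show φ.lTensor P (ν.toFun' P (PolLaw.actEnd M' P x m)) =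
    Algebra.norm P x • φ.lTensor P (ν.toFun' P m)
  rw [hν P x m, ← LinearMap.baseChange_eq_ltensor, map_smul]

theorem lam_normic {N : Type u} [AddCommGroup N] [Module R N]
    (ν : M' →ₚₗ[R] N) (hν : PolLaw.IsNormic R' ν) : PolLaw.IsNormic Q' (lam hM ν) := by
  intro P _ _ x m
  letI : Algebra R P := Algebra.compHom P (algebraMap R Q)
  haveI : IsScalarTower R Q P := IsScalarTower.of_algebraMap_eq (fun _ => rfl)
  rw [lam_toFun', lam_toFun', lamFun, lamFun]
  obtain ⟨x₀, rfl⟩ := (E R R' Q Q' P).surjective x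
  obtain ⟨m₀, rfl⟩ := (GE hM P).surjective m
  rw [act_GE, LinearEquiv.symm_apply_apply, LinearEquiv.symm_apply_apply, hν P x₀ m₀, map_smul,
    Algebra.norm_eq_of_algEquiv]

theorem mu_normic [Module.Free R R'] [Module.Finite R R']
    {Z : Type u} [AddCommGroup Z] [Module R Z] [Module Q Z] [IsScalarTower R Q Z]
    (F : M'' →ₚₗ[Q] Z) (hF : PolLaw.IsNormic Q' F) : PolLaw.IsNormic R' (mu hM F) := by
  intro P _ _ x m
  show muFun hM F P (PolLaw.actEnd M' P x m) = Algebra.norm P x • muFun hM F P m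
  have h1 : sig hM P (PolLaw.actEnd M' P x m) =
      PolLaw.actEnd (A := Q) (B := Q') M'' (Q ⊗[R] P) (E R R' Q Q' (Q ⊗[R] P)
        ((Algebra.TensorProduct.includeRight : P →ₐ[R] Q ⊗[R] P).toLinearMap.rTensor R' x))
        (sig hM P m) := by
    show GE hM (Q ⊗[R] P) ((Algebra.TensorProduct.includeRight :
      P →ₐ[R] Q ⊗[R] P).toLinearMap.rTensor M' (PolLaw.actEnd M' P x m)) = _
    rw [PolLaw.rTensor_actEnd, ← PolLaw.rTensor_algHom_apply, ← act_GE (Q' := Q') f hM (Q ⊗[R] P)]
    rfl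
  have hnorm : Algebra.norm (Q ⊗[R] P)
      ((Algebra.TensorProduct.includeRight : P →ₐ[R] Q ⊗[R] P).toLinearMap.rTensor R' x) =
      (Algebra.TensorProduct.includeRight : P →ₐ[R] Q ⊗[R] P) (Algebra.norm P x) := by
    have h1 := PolLaw.detAct_map (A := R) (B := R') R'
      (Algebra.TensorProduct.includeRight : P →ₐ[R] Q ⊗[R] P) x
    rw [PolLaw.detAct_self, PolLaw.detAct_self, ← PolLaw.rTensor_algHom_apply] at h1
    exact h1
  rw [muFun, muFun, h1, hF (Q ⊗[R] P), Algebra.norm_eq_of_algEquiv, hnorm,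
    Algebra.TensorProduct.includeRight_apply, Psi_smul]

end normic

section main

variable {R R' Q Q' : Type u} [CommRing R] [CommRing R'] [Algebra R R']
    [CommRing Q] [Algebra R Q] [CommRing Q'] [Algebra R Q'] [Algebra Q Q'] [Algebra R' Q']
    [IsScalarTower R Q Q'] [IsScalarTower R R' Q'] [Algebra.IsPushout R Q R' Q']
    [Module.Free R R'] [Module.Finite R R']
    {M' : Type u} [AddCommGroup M'] [Module R M'] [Module R' M'] [IsScalarTower R R' M']
    {M'' : Type u} [AddCommGroup M''] [Module R M''] [Module R' M''] [Module Q M''] [Module Q' M'']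
    [IsScalarTower R R' M''] [IsScalarTower R Q M''] [IsScalarTower R' Q' M'']
    [IsScalarTower Q Q' M'']
    (f : M' →ₗ[R'] M'') (hM : IsBaseChange Q (f.restrictScalars R))
    {N : Type u} [AddCommGroup N] [Module R N] (ν : M' →ₚₗ[R] N) (hν : PolLaw.IsUnivNormic R' ν)
    {N'' : Type u} [AddCommGroup N''] [Module R N''] [Module Q N''] [IsScalarTower R Q N'']
    (ν'' : M'' →ₚₗ[Q] N'') (hν'' : PolLaw.IsUnivNormic Q' ν'')
    (u : N →ₗ[R] N'') (hu : PolLaw.postcomp u ν = mu hM ν'')

include hν hν'' hu in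
theorem isBaseChange_of : IsBaseChange Q u := by
  have hcompat := compat_of hM ν'' ν u hu
  have hlam : PolLaw.IsNormic Q' (lam hM ν) := lam_normic f hM ν hν.1
  obtain ⟨ψ, hψ, -⟩ := hν''.2 (Q ⊗[R] N) (lam hM ν) hlam
  have hψ' : ∀ (P : Type u) [CommSemiring P] [Algebra R P] [Algebra Q P] [IsScalarTower R Q P]
      (w : P ⊗[Q] M''), ψ.lTensor P (ν''.toFun' P w) = lamFun hM ν P w := by
    intro P _ _ _ _ w
    have := congrArg (fun L : M'' →ₚₗ[Q] (Q ⊗[R] N) => L.toFun' P w) hψ
    rw [lam_toFun'] at this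
    exact this
  -- `ψ ∘ u = (n ↦ 1 ⊗ n)`
  have key1 : (ψ.restrictScalars R) ∘ₗ u = TensorProduct.mk R Q N 1 := by
    have hn : PolLaw.IsNormic R' (PolLaw.postcomp (TensorProduct.mk R Q N 1) ν) :=
      postcomp_normic ν hν.1 _
    refine (hν.2 _ _ hn).unique ?_ rfl
    apply PolynomialLaw.ext
    funext S _ _ x
    show ((ψ.restrictScalars R) ∘ₗ u).lTensor S (ν.toFun' S x) =
      (TensorProduct.mk R Q N 1).lTensor S (ν.toFun' S x)
    have h1 : u.lTensor S (ν.toFun' S x) = muFun hM ν'' S x := by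
      have := congrArg (fun L : M' →ₚₗ[R] N'' => L.toFun' S x) hu
      exact this
    have h3 : (GE hM (Q ⊗[R] S)).symm (sig hM S x) =
        (Algebra.TensorProduct.includeRight : S →ₐ[R] Q ⊗[R] S).toLinearMap.rTensor M' x := by
      rw [LinearEquiv.symm_apply_eq]
      rfl
    rw [LinearMap.lTensor_comp, LinearMap.comp_apply, h1, muFun, Psi_nat_mod, hψ', lamFun, h3,
      ← PolynomialLaw.isCompat_apply', Psi_GE]
  -- `ũ ∘ ψ = id`
  have key2 : (u.liftBaseChange Q) ∘ₗ ψ = LinearMap.id := by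
    refine (hν''.2 N'' ν'' hν''.1).unique ?_ ?_
    · apply PolynomialLaw.ext
      funext P _ _ w0
      obtain ⟨n, φ, w, rfl⟩ := PolynomialLaw.exists_lift (R := Q) (M := M'') w0
      rw [← PolynomialLaw.isCompat_apply', ← PolynomialLaw.isCompat_apply']
      congr 1
      show ((u.liftBaseChange Q) ∘ₗ ψ).lTensor (MvPolynomial (Fin n) Q)
        (ν''.toFun' (MvPolynomial (Fin n) Q) w) = ν''.toFun' (MvPolynomial (Fin n) Q) w
      have h3 : ((u.liftBaseChange Q).restrictScalars R) ∘ₗ (TensorProduct.mk R Q N 1) = u := by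
        ext n
        simp
      rw [LinearMap.lTensor_comp, LinearMap.comp_apply, hψ', lamFun, GE_eq_bcAlong,
        lTensor_bcAlong, h3, ← hcompat, ← GE_eq_bcAlong hM, LinearEquiv.apply_symm_apply]
    · apply PolynomialLaw.ext
      funext P _ _ w
      show (LinearMap.id : N'' →ₗ[Q] N'').lTensor P (ν''.toFun' P w) = ν''.toFun' P w
      rw [LinearMap.lTensor_id, LinearMap.id_apply]
  have key3 : ψ ∘ₗ (u.liftBaseChange Q) = LinearMap.id := by
    apply TensorProduct.AlgebraTensorModule.ext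
    intro q n
    have h := LinearMap.congr_fun key1 n
    rw [LinearMap.comp_apply, LinearMap.liftBaseChange_tmul, map_smul, LinearMap.id_apply]
    have h' : ψ (u n) = (1 : Q) ⊗ₜ[R] n := h
    rw [h', TensorProduct.smul_tmul', smul_eq_mul, mul_one]
  exact IsBaseChange.of_equiv (LinearEquiv.ofLinearMap (u.liftBaseChange Q) ψ key2 key3)
    (fun n => by simp)

end main

theorem main17909 {R R' Q Q' : Type u} [CommRing R] [CommRing R'] [Algebra R R']
    [CommRing Q] [Algebra R Q] [CommRing Q'] [Algebra R Q'] [Algebra Q Q'] [Algebra R' Q']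
    [IsScalarTower R Q Q'] [IsScalarTower R R' Q'] [Algebra.IsPushout R R' Q Q']
    [Module.Free R R'] [Module.Finite R R']
    {M' : Type u} [AddCommGroup M'] [Module R M'] [Module R' M'] [IsScalarTower R R' M']
    {M'' : Type u} [AddCommGroup M''] [Module R M''] [Module R' M''] [Module Q M''] [Module Q' M'']
    [IsScalarTower R R' M''] [IsScalarTower R Q M''] [IsScalarTower R' Q' M''] [IsScalarTower Q Q' M'']
    (f : M' →ₗ[R'] M'') (hf : IsBaseChange Q' f)
    {N : Type u} [AddCommGroup N] [Module R N] (ν : M' →ₚₗ[R] N) (hν : PolLaw.IsUnivNormic R' ν)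
    {N'' : Type u} [AddCommGroup N''] [Module R N''] [Module Q N''] [IsScalarTower R Q N'']
    (ν'' : M'' →ₚₗ[Q] N'') (hν'' : PolLaw.IsUnivNormic Q' ν'') :
    ∃ u : N →ₗ[R] N'',
      (∀ (P : Type u) [CommRing P] [Algebra R P] [Algebra Q P] [IsScalarTower R Q P] (m : P ⊗[R] M'),
          ν''.toFun' P (PolLaw.bcAlong (f.restrictScalars R) P m) = PolLaw.bcAlong u P (ν.toFun' P m)) ∧
      IsBaseChange Q u := by
  haveI : Algebra.IsPushout R Q R' Q' := Algebra.IsPushout.symm inferInstance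
  have hM : IsBaseChange Q (f.restrictScalars R) := isBaseChange_restrict f hf
  have hμ : PolLaw.IsNormic R' (mu hM ν'') := mu_normic f hM ν'' hν''.1
  obtain ⟨u, hu, -⟩ := hν.2 N'' (mu hM ν'') hμ
  exact ⟨u, fun P _ _ _ _ m => compat_of hM ν'' ν u hu P m,
    isBaseChange_of f hM ν hν ν'' hν'' u hu⟩

end Groth.Agent.Lib.UnivNormBCH1
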