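import Mathlib
import Groth.Agent.Lib.UnivOpenAt_helper8

/-! A pasting square: `(X ×_Y Y') ×_{Y'} (Y' ×_Y Y₁)` is the base change of `X ×_Y Y₁ → Y₁`
along `Y' ×_Y Y₁ → Y₁`. -/

universe u
open AlgebraicGeometry CategoryTheory CategoryTheory.Limits TopologicalSpace

namespace UnivOpenAtH8

theorem exists_top {X Y Y' Y₁ : Scheme.{u}} (f : X ⟶ Y) (k : Y' ⟶ Y) (v : Y₁ ⟶ Y) :
    ∃ top : pullback (pullback.snd f k) (pullback.fst k v) ⟶ pullback f v,
      IsPullback top (pullback.snd (pullback.snd f k) (pullback.fst k v))
        (pullback.snd f v) (pullback.snd k v) ∧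
      top ≫ pullback.fst f v =
        pullback.fst (pullback.snd f k) (pullback.fst k v) ≫ pullback.fst f k := by
  have S1 := IsPullback.of_hasPullback f k
  have S3 := IsPullback.of_hasPullback (pullback.snd f k) (pullback.fst k v)
  have S4 := IsPullback.of_hasPullback f v
  have e_ab : pullback.fst k v ≫ k = pullback.snd k v ≫ v := pullback.condition
  have w : (pullback.fst (pullback.snd f k) (pullback.fst k v) ≫ pullback.fst f k) ≫ f =
      (pullback.snd (pullback.snd f k) (pullback.fst k v) ≫ pullback.snd k v) ≫ v := by
    rw [Category.assoc, pullback.condition, ← Category.assoc, pullback.condition, Category.assoc,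
      e_ab, Category.assoc]
  let top : pullback (pullback.snd f k) (pullback.fst k v) ⟶ pullback f v :=
    pullback.lift (pullback.fst (pullback.snd f k) (pullback.fst k v) ≫ pullback.fst f k)
      (pullback.snd (pullback.snd f k) (pullback.fst k v) ≫ pullback.snd k v) w
  have e_top_fst : top ≫ pullback.fst f v =
      pullback.fst (pullback.snd f k) (pullback.fst k v) ≫ pullback.fst f k :=
    pullback.lift_fst _ _ _
  have e_top_snd : top ≫ pullback.snd f v =
      pullback.snd (pullback.snd f k) (pullback.fst k v) ≫ pullback.snd k v :=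
    pullback.lift_snd _ _ _
  have outer : IsPullback
      (pullback.fst (pullback.snd f k) (pullback.fst k v) ≫ pullback.fst f k)
      (pullback.snd (pullback.snd f k) (pullback.fst k v)) f
      (pullback.fst k v ≫ k) := S3.paste_horiz S1
  have outer' : IsPullback (top ≫ pullback.fst f v)
      (pullback.snd (pullback.snd f k) (pullback.fst k v)) f
      (pullback.snd k v ≫ v) := by
    rw [e_top_fst, ← e_ab]; exact outer
  exact ⟨top, IsPullback.of_right outer' e_top_snd S4, e_top_fst⟩

end UnivOpenAtH8
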