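import Mathlib
import Groth.Prelude.Def_EGA43
import Groth.Agent.Lib.ConsNhds_helper8

/-! Universal openness at a point and base change (EGA IV 14.3.x). -/

universe u
open AlgebraicGeometry CategoryTheory TopologicalSpace Limits Topology

namespace UnivOpenBCH8

open EGA43

variable {X Y : Scheme.{u}}

/-- universal openness at a point gives openness at points of arbitrary pullback squares. -/
theorem isOpenAt_of_isPullback (f : X ⟶ Y) (x : X) (h : IsUnivOpenAt f x)
    {P Y' : Scheme.{u}} {a : P ⟶ X} {b : P ⟶ Y'} {g : Y' ⟶ Y} (sq : IsPullback a b f g) (z : P)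
    (hz : a.base z = x) : IsOpenAt b.base z := by
  have h1 : (pullback.fst f g).base (sq.isoPullback.hom.base z) = x := by
    rw [← Scheme.Hom.comp_apply, sq.isoPullback_hom_fst]; exact hz
  have h2 := h Y' g _ h1
  intro U hU
  have h3 : sq.isoPullback.hom.base '' U ∈ nhds (sq.isoPullback.hom.base z) :=
    (Scheme.homeoOfIso sq.isoPullback).isOpenMap.image_mem_nhds hU
  have h4 := h2 _ h3
  rw [← Set.image_comp] at h4
  have h5 : (pullback.snd f g).base ∘ sq.isoPullback.hom.base = b.base := by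
    funext t
    change (sq.isoPullback.hom ≫ pullback.snd f g).base t = b.base t
    rw [sq.isoPullback_hom_snd]
  rw [h5] at h4
  have h6 : (pullback.snd f g).base (sq.isoPullback.hom.base z) = b.base z := by
    rw [← Scheme.Hom.comp_apply, sq.isoPullback_hom_snd]
  rw [h6] at h4
  exact h4

/-- universal openness at a point is stable under base change. -/
theorem isUnivOpenAt_of_isPullback (f : X ⟶ Y) (x : X) (h : IsUnivOpenAt f x)
    {P Y' : Scheme.{u}} {a : P ⟶ X} {b : P ⟶ Y'} {g : Y' ⟶ Y} (sq : IsPullback a b f g) (z : P)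
    (hz : a.base z = x) : IsUnivOpenAt b z := by
  intro Y'' g'' z'' hz''
  have sq2 : IsPullback (pullback.fst b g'') (pullback.snd b g'') b g'' :=
    IsPullback.of_hasPullback _ _
  have sq3 := sq2.paste_horiz sq
  refine isOpenAt_of_isPullback f x h sq3 z'' ?_
  rw [Scheme.Hom.comp_apply, hz'', hz]

theorem exists_tau {Y' : Scheme.{u}} (g : Y' ⟶ Y) (y' : Y') (y₀ : Y) (h : g.base y' = y₀) :
    ∃ τ : Spec (Y'.presheaf.stalk y') ⟶ Spec (Y.presheaf.stalk y₀),
      τ ≫ Y.fromSpecStalk y₀ = Y'.fromSpecStalk y' ≫ g := by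
  subst h
  exact ⟨Spec.map (g.stalkMap y'), Scheme.SpecMap_stalkMap_fromSpecStalk g⟩

/-- a morphism locally of finite presentation is open at a point as soon as the image of every
open neighbourhood contains all generizations of the image point. -/
theorem isOpenAt_of_generizations {X' Y' : Scheme.{u}} (φ : X' ⟶ Y')
    [LocallyOfFinitePresentation φ] (x' : X')
    (key : ∀ U₀ : Set X', IsOpen U₀ → x' ∈ U₀ → ∀ η' : Y', η' ⤳ φ.base x' → η' ∈ φ.base '' U₀) :
    IsOpenAt φ.base x' := by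
  intro U hU
  obtain ⟨_, ⟨V₀', hV₀, rfl⟩, hyV₀, -⟩ :=
    Y'.isBasis_affineOpens.exists_subset_of_mem_open (Set.mem_univ (φ.base x')) isOpen_univ
  let V₀ : Y'.Opens := V₀'
  have hopen : IsOpen (interior U ∩ (φ ⁻¹ᵁ V₀ : Set X')) := isOpen_interior.inter (φ ⁻¹ᵁ V₀).2
  obtain ⟨_, ⟨U₀', hU₀, rfl⟩, hxU₀, hU₀sub⟩ :=
    X'.isBasis_affineOpens.exists_subset_of_mem_open
      (show x' ∈ interior U ∩ (φ ⁻¹ᵁ V₀ : Set X') from ⟨mem_interior_iff_mem_nhds.mpr hU, hyV₀⟩)
      hopen
  let U₀ : X'.Opens := U₀'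
  have e : U₀ ≤ φ ⁻¹ᵁ V₀ := fun a ha => (hU₀sub ha).2
  haveI : IsAffine (U₀ : Scheme.{u}) := hU₀
  haveI : IsAffine (V₀ : Scheme.{u}) := hV₀
  let ψ := φ.resLE V₀ U₀ e
  have hψ : ψ ≫ V₀.ι = U₀.ι ≫ φ := Scheme.Hom.resLE_comp_ι _ _
  haveI : QuasiCompact ψ := inferInstance
  have hE : IsLocallyConstructible (Set.range ψ.base) := by
    rw [← Set.image_univ]
    exact ψ.isLocallyConstructible_image IsLocallyConstructible.univ
  have hy0 : ∀ η₀ : ↥(V₀ : Scheme.{u}), η₀ ⤳ (⟨φ.base x', hyV₀⟩ : ↥(V₀ : Scheme.{u})) →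
      η₀ ∈ Set.range ψ.base := by
    intro η₀ hη₀
    have h1 : V₀.ι.base η₀ ⤳ φ.base x' := hη₀.map V₀.ι.continuous
    obtain ⟨u, hu, hu2⟩ := key (U₀ : Set X') U₀.2 hxU₀ _ h1
    refine ⟨⟨u, hu⟩, ?_⟩
    apply V₀.ι.isOpenEmbedding.injective
    rw [← Scheme.Hom.comp_apply, hψ]
    exact hu2
  have h2 := ConsNhdsH8.mem_nhds_of_isLocallyConstructible hE _ hy0
  have h3 : V₀.ι.base '' Set.range ψ.base ∈ nhds (φ.base x') :=
    V₀.ι.isOpenEmbedding.isOpenMap.image_mem_nhds h2
  refine Filter.mem_of_superset h3 ?_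
  rintro _ ⟨_, ⟨u₀, rfl⟩, rfl⟩
  refine ⟨U₀.ι.base u₀, interior_subset (hU₀sub u₀.2).1, ?_⟩
  rw [← Scheme.Hom.comp_apply, ← hψ]
  rfl

theorem main28 (f : X ⟶ Y) [LocallyOfFinitePresentation f]
    (x : X) (x₁ : ↥(pullback f (Y.fromSpecStalk (f.base x))))
    (hx₁ : (pullback.fst f (Y.fromSpecStalk (f.base x))).base x₁ = x) :
    IsUnivOpenAt f x ↔ IsUnivOpenAt (pullback.snd f (Y.fromSpecStalk (f.base x))) x₁ := by
  constructor
  · intro h
    exact isUnivOpenAt_of_isPullback f x h (IsPullback.of_hasPullback _ _) x₁ hx₁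
  · intro h Y' g x' hx'
    have hgy' : g.base ((pullback.snd f g).base x') = f.base x := by
      have := congrArg (fun φ => φ.base x') (pullback.condition (f := f) (g := g))
      rw [← hx']; exact this.symm
    obtain ⟨τ, hτ⟩ := exists_tau g ((pullback.snd f g).base x') (f.base x) hgy'
    apply isOpenAt_of_generizations
    intro U₀ hU₀ hxU₀ η' hη'
    obtain ⟨q, rfl⟩ : η' ∈ Set.range (Y'.fromSpecStalk ((pullback.snd f g).base x')).base := by
      rw [Scheme.range_fromSpecStalk]; exact hη'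
    obtain ⟨z, hz1, hz2⟩ := Scheme.Pullback.exists_preimage_pullback (f := pullback.snd f g)
      (g := Y'.fromSpecStalk ((pullback.snd f g).base x')) x' (IsLocalRing.closedPoint _)
      (by rw [Scheme.fromSpecStalk_closedPoint])
    have sqB := IsPullback.of_hasPullback (pullback.snd f g)
      (Y'.fromSpecStalk ((pullback.snd f g).base x'))
    have sqA := IsPullback.of_hasPullback f g
    have sqBA := sqB.paste_horiz sqA
    rw [← hτ] at sqBA
    have sqC := IsPullback.of_hasPullback f (Y.fromSpecStalk (f.base x))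
    have sqL := IsPullback.of_right' sqBA sqC
    have hopen := isOpenAt_of_isPullback _ x₁ h sqL z (by
      apply (pullback.fst f (Y.fromSpecStalk (f.base x))).isEmbedding.injective
      rw [hx₁, ← Scheme.Hom.comp_apply, sqC.lift_fst, Scheme.Hom.comp_apply, hz1, hx'])
    have hnb : (pullback.fst (pullback.snd f g)
        (Y'.fromSpecStalk ((pullback.snd f g).base x'))).base ⁻¹' U₀ ∈ nhds z :=
      (hU₀.preimage (Scheme.Hom.continuous _)).mem_nhds (by
        rw [Set.mem_preimage, hz1]; exact hxU₀)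
    have h1 := hopen _ hnb
    rw [hz2] at h1
    have hq := mem_of_mem_nhds ((IsLocalRing.specializes_closedPoint q) h1)
    obtain ⟨z₂, hz₂U, hz₂q⟩ := hq
    refine ⟨(pullback.fst (pullback.snd f g)
      (Y'.fromSpecStalk ((pullback.snd f g).base x'))).base z₂, hz₂U, ?_⟩
    have := congrArg (fun φ => φ.base z₂) (pullback.condition (f := pullback.snd f g)
      (g := Y'.fromSpecStalk ((pullback.snd f g).base x')))
    rw [← hz₂q]
    exact this

end UnivOpenBCH8
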