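import Mathlib
import Groth.Prelude.Def_PolLaw2
import Groth.Agent.Lib.Generizing_helper1
import Groth.Agent.Lib.FibreCount_helper1
import Groth.Agent.Lib.SpecOpen_helper1

/-!
# The image of a family of zero-cycles is universally open over the base (helper1)

The image of `D(β̄)` is the union of the `D(cᵢ)`, `cᵢ` the lower coefficients of the characteristic
polynomial of `β`.
-/

set_option autoImplicit false
universe u
open scoped TensorProduct
open Polynomial

namespace Groth.Agent.Lib.UnivOpenH1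

open Groth.Agent.Lib.PolLawKerH1 Groth.Agent.Lib.PolLawSurjH1 Groth.Agent.Lib.RelCHH1
open Groth.Agent.Lib.GenerizingH1 Groth.Agent.Lib.FibreCountH1

variable {A : Type u} [CommRing A] {B : Type u} [CommRing B] [Algebra A B] {d : ℕ}

/-- the characteristic polynomial `F(β - X)` -/
noncomputable def chi (F : PolLaw.MulLaw A B A d) (R : Type u) [CommRing R] [Algebra A R]
    (β : R ⊗[A] B) : R[X] :=
  TensorProduct.rid A R[X] (F.law.toFun' R[X] (bX R β))

theorem cF_eq (F : PolLaw.MulLaw A B A d) (R : Type u) [CommRing R] [Algebra A R]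
    (β : R ⊗[A] B) : cF F R β = Polynomial.aeval β (chi F R β) := rfl

theorem chi_map (F : PolLaw.MulLaw A B A d) {R A' : Type u} [CommRing R] [Algebra A R]
    [CommRing A'] [Algebra A A'] (ψ : R →ₐ[A] A') (β : R ⊗[A] B) :
    chi F A' (Algebra.TensorProduct.map ψ (AlgHom.id A B) β) =
      (chi F R β).map (ψ : R →+* A') := by
  obtain ⟨ψB, hψB⟩ : ∃ ψB : R ⊗[A] B →ₐ[A] A' ⊗[A] B,
    ψB = Algebra.TensorProduct.map ψ (AlgHom.id A B) := ⟨_, rfl⟩
  obtain ⟨ψX, hψX⟩ : ∃ ψX : R[X] →ₐ[A] A'[X], ψX = Polynomial.mapAlgHom ψ := ⟨_, rfl⟩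
  have hbX : Algebra.TensorProduct.map ψX (AlgHom.id A B) (bX R β) = bX A' (ψB β) := by
    have h : ∀ z : R ⊗[A] B, Algebra.TensorProduct.map ψX (AlgHom.id A B)
        (Algebra.TensorProduct.map (Polynomial.CAlgHom : R →ₐ[A] R[X]) (AlgHom.id A B) z) =
        Algebra.TensorProduct.map (Polynomial.CAlgHom : A' →ₐ[A] A'[X]) (AlgHom.id A B)
          (ψB z) := by
      intro z
      induction z using TensorProduct.induction_on with
      | zero => simp
      | tmul r b =>
        rw [hψB, hψX, Algebra.TensorProduct.map_tmul, Algebra.TensorProduct.map_tmul,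
          Algebra.TensorProduct.map_tmul, Algebra.TensorProduct.map_tmul]
        simp [Polynomial.coe_mapAlgHom]
      | add a b ha hb => simp only [map_add, ha, hb]
    rw [bX, bX, map_sub, h, Algebra.TensorProduct.map_tmul, hψX]
    simp [Polynomial.coe_mapAlgHom]
  have hrid : ∀ z : R[X] ⊗[A] A, TensorProduct.rid A A'[X]
      (Algebra.TensorProduct.map ψX (AlgHom.id A A) z) = ψX (TensorProduct.rid A R[X] z) := by
    intro z
    induction z using TensorProduct.induction_on with
    | zero => simp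
    | tmul u a =>
      rw [Algebra.TensorProduct.map_tmul, TensorProduct.rid_tmul, TensorProduct.rid_tmul,
        map_smul]
      rfl
    | add a b ha hb => simp only [map_add, ha, hb]
  rw [chi, chi, ← hψB, ← hbX, ← compat_map, hrid, hψX, Polynomial.coe_mapAlgHom]

theorem rid_mul {S : Type u} [CommRing S] [Algebra A S] (x y : S ⊗[A] A) :
    TensorProduct.rid A S (x * y) = TensorProduct.rid A S x * TensorProduct.rid A S y := by
  induction x using TensorProduct.induction_on with
  | zero => simp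
  | tmul s a =>
    induction y using TensorProduct.induction_on with
    | zero => simp
    | tmul s' a' =>
      rw [Algebra.TensorProduct.tmul_mul_tmul, TensorProduct.rid_tmul, TensorProduct.rid_tmul,
        TensorProduct.rid_tmul, smul_mul_smul_comm]
    | add y y' hy hy' => rw [mul_add, map_add, map_add, mul_add, hy, hy']
  | add x x' hx hx' => rw [add_mul, map_add, map_add, add_mul, hx, hx']

/-- over a field, if a power of `β` lies in the kernel of the base changed law then the
characteristic polynomial of `β` is a multiple of `X^d` -/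
theorem chi_coeff_eq_zero_of_pow_mem (F : PolLaw.MulLaw A B A d) (K : Type u) [Field K]
    [Algebra A K] (β : K ⊗[A] B) (N : ℕ) (hN : β ^ N ∈ PolLaw.kerBC F.law K) :
    ∀ i < d, (chi F K β).coeff i = 0 := by
  obtain ⟨βS, hβS⟩ : ∃ βS : K[X] ⊗[A] B, βS = Algebra.TensorProduct.map
    (Polynomial.CAlgHom : K →ₐ[A] K[X]) (AlgHom.id A B) β := ⟨_, rfl⟩
  obtain ⟨XS, hXS⟩ : ∃ XS : K[X] ⊗[A] B, XS = (X : K[X]) ⊗ₜ[A] (1 : B) := ⟨_, rfl⟩
  have hbX : bX K β = βS - XS := by rw [bX, hβS, hXS]
  have h := (mem_kerBC_iff F.law K (β ^ N)).1 hN K[X] (-(XS ^ N)) 1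
  have e0 : Algebra.TensorProduct.map (IsScalarTower.toAlgHom A K K[X]) (AlgHom.id A B)
      (β ^ N) = βS ^ N := by
    rw [map_pow, hβS]
    rfl
  rw [e0, one_mul] at h
  have hgeom : (∑ i ∈ Finset.range N, βS ^ i * XS ^ (N - 1 - i)) * bX K β = βS ^ N - XS ^ N := by
    rw [hbX]
    exact (Commute.all βS XS).geom_sum₂_mul N
  have hXN : -(XS ^ N) = (-(X : K[X]) ^ N) • (1 : K[X] ⊗[A] B) := by
    rw [hXS, Algebra.TensorProduct.one_def, TensorProduct.smul_tmul', smul_eq_mul, mul_one,
      Algebra.TensorProduct.tmul_pow, one_pow, TensorProduct.neg_tmul]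
  have hF : F.law.toFun' K[X] (∑ i ∈ Finset.range N, βS ^ i * XS ^ (N - 1 - i)) *
      F.law.toFun' K[X] (bX K β) = ((-(X : K[X]) ^ N) ^ d) • (1 : K[X] ⊗[A] A) := by
    rw [← (F.mult _).2, hgeom, sub_eq_neg_add, h, hXN, F.homog, (F.mult _).1]
  have hdvd : chi F K β ∣ (-(X : K[X]) ^ N) ^ d := by
    refine ⟨TensorProduct.rid A K[X]
      (F.law.toFun' K[X] (∑ i ∈ Finset.range N, βS ^ i * XS ^ (N - 1 - i))), ?_⟩
    have h2 := congrArg (TensorProduct.rid A K[X]) hF
    rw [rid_mul, Algebra.TensorProduct.one_def, TensorProduct.smul_tmul', smul_eq_mul, mul_one,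
      TensorProduct.rid_tmul, one_smul] at h2
    rw [chi, mul_comm]
    exact h2.symm
  have hdvd2 : chi F K β ∣ (X : K[X]) ^ (N * d) := by
    have e1 : (-(X : K[X]) ^ N) ^ d = (X : K[X]) ^ (N * d) * C ((-1 : K) ^ d) := by
      rw [neg_pow, ← pow_mul, mul_comm, map_pow, map_neg, map_one]
    rw [e1] at hdvd
    have hu : IsUnit (C ((-1 : K) ^ d) : K[X]) :=
      Polynomial.isUnit_C.2 (IsUnit.pow d (isUnit_one.neg))
    exact (hu.dvd_mul_right).1 hdvd
  obtain ⟨j, -, hj⟩ := (dvd_prime_pow Polynomial.prime_X _).1 hdvd2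
  obtain ⟨u, hu⟩ := hj.symm
  obtain ⟨r, hr, hru⟩ := Polynomial.isUnit_iff.1 u.isUnit
  have hchi : chi F K β = C r * X ^ j := by rw [← hu, ← hru, mul_comm]
  have hd := (chiR F K β).2
  have hjd : j = d := by
    by_contra hne
    have : (chi F K β).coeff d = 0 := by
      rw [hchi, Polynomial.coeff_C_mul_X_pow, if_neg (Ne.symm hne)]
    rw [show (chi F K β).coeff d = (-1) ^ d from hd] at this
    exact (pow_ne_zero d (neg_ne_zero.2 one_ne_zero)) this
  intro i hi
  rw [hchi, Polynomial.coeff_C_mul_X_pow, if_neg (by omega)]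

theorem isOpenMap_comap_image (F : PolLaw.MulLaw A B A d) (A' : Type u) [CommRing A']
    [Algebra A A'] :
    IsOpenMap (PrimeSpectrum.comap (algebraMap A' (A' ⊗[A] PolLaw.image F.law))) := by
  rw [PrimeSpectrum.isTopologicalBasis_basic_opens.isOpenMap_iff]
  rintro _ ⟨c', rfl⟩
  obtain ⟨σ, hσ⟩ : ∃ σ : A' ⊗[A] B →ₐ[A] A' ⊗[A] PolLaw.image F.law,
    σ = Algebra.TensorProduct.map (AlgHom.id A A') (Ideal.Quotient.mkₐ A (PolLaw.ker F.law)) :=
    ⟨_, rfl⟩
  have hσsurj : Function.Surjective σ := by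
    rw [hσ]
    exact Algebra.TensorProduct.map_surjective _ _ (fun x => ⟨x, rfl⟩)
      (Ideal.Quotient.mkₐ_surjective A _)
  have hkerσ : RingHom.ker σ = (PolLaw.ker F.law).map
      (Algebra.TensorProduct.includeRight : B →ₐ[A] A' ⊗[A] B) := by
    rw [hσ, Algebra.TensorProduct.lTensor_ker _ (Ideal.Quotient.mkₐ_surjective A _), ker_mkₐ']
  have hσalg : ∀ a : A', σ (a ⊗ₜ[A] (1 : B)) = algebraMap A' (A' ⊗[A] PolLaw.image F.law) a := by
    intro a
    rw [hσ, Algebra.TensorProduct.map_tmul, map_one, Algebra.TensorProduct.algebraMap_apply]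
    rfl
  obtain ⟨β, rfl⟩ := hσsurj c'
  obtain ⟨χ, hχ⟩ : ∃ χ : A'[X], χ = chi F A' β := ⟨_, rfl⟩
  have hdeg : χ.natDegree < d + 1 := by
    rw [hχ]
    exact Nat.lt_succ_of_le (chiR F A' β).1
  have htop : χ.coeff d = (-1) ^ d := by
    rw [hχ]
    exact (chiR F A' β).2
  have hsmul : ∀ (a : A') (z : A' ⊗[A] B),
      σ (a • z) = algebraMap A' (A' ⊗[A] PolLaw.image F.law) a * σ z := by
    intro a z
    rw [Algebra.smul_def, Algebra.TensorProduct.algebraMap_apply, map_mul]
    congr 1
    exact hσalg a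
  have hzero : ∑ i ∈ Finset.range (d + 1),
      algebraMap A' (A' ⊗[A] PolLaw.image F.law) (χ.coeff i) * σ β ^ i = 0 := by
    have h0 : σ (Polynomial.aeval β χ) = 0 := by
      rw [← RingHom.mem_ker, hkerσ, hχ, ← cF_eq]
      exact rel_ch F A' β
    rw [Polynomial.aeval_eq_sum_range' hdeg, map_sum] at h0
    rw [← h0]
    refine Finset.sum_congr rfl fun i _ => ?_
    rw [hsmul, map_pow]
  have hset : PrimeSpectrum.comap (algebraMap A' (A' ⊗[A] PolLaw.image F.law)) ''
      (PrimeSpectrum.basicOpen (σ β) : Set (PrimeSpectrum (A' ⊗[A] PolLaw.image F.law))) =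
      ⋃ i : Fin d, (PrimeSpectrum.basicOpen (χ.coeff i) : Set (PrimeSpectrum A')) := by
    ext p
    constructor
    · rintro ⟨q, hq, rfl⟩
      by_contra hcon
      rw [Set.mem_iUnion] at hcon
      push_neg at hcon
      have hmem : ∀ i < d, algebraMap A' (A' ⊗[A] PolLaw.image F.law) (χ.coeff i) ∈ q.asIdeal := by
        intro i hi
        have h1 := hcon ⟨i, hi⟩
        rw [SetLike.mem_coe, PrimeSpectrum.mem_basicOpen, not_not] at h1
        exact h1
      rw [Finset.sum_range_succ, htop] at hzero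
      have h2 : algebraMap A' (A' ⊗[A] PolLaw.image F.law) ((-1) ^ d) * σ β ^ d ∈ q.asIdeal := by
        rw [eq_neg_of_add_eq_zero_right hzero]
        exact (Ideal.neg_mem_iff _).2 (Ideal.sum_mem _ fun i hi =>
          Ideal.mul_mem_right _ _ (hmem i (Finset.mem_range.1 hi)))
      have h3 : σ β ^ d ∈ q.asIdeal := by
        have h4 := Ideal.mul_mem_left q.asIdeal
          (algebraMap A' (A' ⊗[A] PolLaw.image F.law) ((-1) ^ d)) h2
        rw [← mul_assoc, ← map_mul, ← pow_add, ← two_mul, pow_mul, neg_one_sq, one_pow, map_one,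
          one_mul] at h4
        exact h4
      exact hq (q.isPrime.mem_of_pow_mem d h3)
    · intro hp
      rw [Set.mem_iUnion] at hp
      obtain ⟨i, hi⟩ := hp
      rw [SetLike.mem_coe, PrimeSpectrum.mem_basicOpen] at hi
      obtain ⟨K, _, χK, hχK⟩ : ∃ (K : Type u) (_ : Field K) (χK : A' →+* K),
          ∀ a, χK a = 0 ↔ a ∈ p.asIdeal :=
        ⟨p.asIdeal.ResidueField, inferInstance, algebraMap _ _,
          fun a => Ideal.algebraMap_residueField_eq_zero⟩
      letI : Algebra A' K := χK.toAlgebra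
      letI : Algebra A K := (χK.comp (algebraMap A A')).toAlgebra
      haveI : IsScalarTower A A' K := IsScalarTower.of_algebraMap_eq fun _ => rfl
      obtain ⟨ψ, hψ⟩ : ∃ ψ : A' →ₐ[A] K, ψ = IsScalarTower.toAlgHom A A' K := ⟨_, rfl⟩
      have hψ0 : ∀ a : A', ψ a = 0 ↔ a ∈ p.asIdeal := by
        intro a
        rw [hψ]
        exact hχK a
      obtain ⟨ψB, hψB⟩ : ∃ ψB : A' ⊗[A] B →ₐ[A] K ⊗[A] B,
        ψB = Algebra.TensorProduct.map ψ (AlgHom.id A B) := ⟨_, rfl⟩
      have hne : (chi F K (ψB β)).coeff i ≠ 0 := by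
        rw [hψB, chi_map, Polynomial.coeff_map, ← hχ]
        intro h0
        exact hi ((hψ0 _).1 h0)
      have hnot : ψB β ∉ ((PolLaw.ker F.law).map (Algebra.TensorProduct.includeRight :
          B →ₐ[A] K ⊗[A] B)).radical := by
        rintro ⟨N, hN⟩
        exact hne (chi_coeff_eq_zero_of_pow_mem F _ (ψB β) N
          (map_ker_le_kerBC F.law _ hN) i i.2)
      rw [Ideal.radical_eq_sInf, Submodule.mem_sInf] at hnot
      push_neg at hnot
      obtain ⟨qK, ⟨hle, hprime⟩, hβ⟩ := hnot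
      haveI := hprime
      obtain ⟨q₀, hq₀⟩ : ∃ q₀ : Ideal (A' ⊗[A] B), q₀ = Ideal.comap ψB qK := ⟨_, rfl⟩
      haveI hq₀prime : q₀.IsPrime := by
        rw [hq₀]
        exact Ideal.comap_isPrime _ _
      have hker : RingHom.ker σ ≤ q₀ := by
        rw [hkerσ, Ideal.map_le_iff_le_comap]
        intro b hb
        rw [Ideal.mem_comap, hq₀, Ideal.mem_comap, Algebra.TensorProduct.includeRight_apply, hψB,
          Algebra.TensorProduct.map_tmul, map_one]
        exact hle (Ideal.mem_map_of_mem _ hb)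
      have hq₀A : ∀ a : A', a ⊗ₜ[A] (1 : B) ∈ q₀ ↔ a ∈ p.asIdeal := by
        intro a
        rw [hq₀, Ideal.mem_comap, hψB, Algebra.TensorProduct.map_tmul, map_one]
        constructor
        · intro h1
          by_contra ha
          have hu : ψ a ≠ 0 := fun h0 => ha ((hψ0 a).1 h0)
          have h2 := Ideal.mul_mem_left qK (((ψ a)⁻¹ : K) ⊗ₜ[A] (1 : B)) h1
          rw [Algebra.TensorProduct.tmul_mul_tmul, inv_mul_cancel₀ hu, mul_one] at h2
          exact hprime.ne_top ((Ideal.eq_top_iff_one _).2 h2)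
        · intro ha
          rw [(hψ0 a).2 ha, TensorProduct.zero_tmul]
          exact qK.zero_mem
      refine ⟨⟨q₀.map σ, Ideal.map_isPrime_of_surjective hσsurj hker⟩, ?_, ?_⟩
      · rw [SetLike.mem_coe, PrimeSpectrum.mem_basicOpen]
        intro h1
        have h2 := mem_of_map_mem σ hσsurj q₀ hker h1
        rw [hq₀, Ideal.mem_comap] at h2
        exact hβ h2
      · apply PrimeSpectrum.ext
        ext a
        rw [PrimeSpectrum.comap_asIdeal, Ideal.mem_comap, ← hσalg]
        constructor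
        · intro h1
          exact (hq₀A a).1 (mem_of_map_mem σ hσsurj q₀ hker h1)
        · intro ha
          exact Ideal.mem_map_of_mem _ ((hq₀A a).2 ha)
  rw [hset]
  exact isOpen_iUnion fun i => (PrimeSpectrum.basicOpen _).isOpen

theorem main13705 (F : PolLaw.MulLaw A B A d) :
    AlgebraicGeometry.UniversallyOpen
      (AlgebraicGeometry.Spec.map (CommRingCat.ofHom (algebraMap A (PolLaw.image F.law)))) :=
  Groth.Agent.Lib.SpecOpenH1.universallyOpen_SpecMap_of (fun A' _ _ => isOpenMap_comap_image F A')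

end Groth.Agent.Lib.UnivOpenH1
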