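import Mathlib
import Groth.Prelude.Def_SGA1
set_option autoImplicit false
universe u
open CategoryTheory CategoryTheory.Limits AlgebraicGeometry MorphismProperty

namespace Groth.Agent.Lib.UnivSubm

/-- General nonsense: if `P` descends along a base-change-stable `Q`, so does `P.universally`. -/
theorem descendsAlong_universally {C : Type*} [Category C] [HasPullbacks C]
    (P Q : MorphismProperty C) [Q.IsStableUnderBaseChange] [P.DescendsAlong Q] :
    P.universally.DescendsAlong Q := by
  refine ⟨fun {A X Y Z fst snd f g} h hf hfst => ?_⟩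
  intro Y₁ Z₁ i₁ i₂ g₁ h₁
  -- base change of the cover to `Z₁`
  have hQf₁ : Q (pullback.fst i₂ f) := Q.pullback_fst _ _ hf
  have hcomm : (pullback.snd g₁ (pullback.fst i₂ f) ≫ pullback.snd i₂ f) ≫ f =
      (pullback.fst g₁ (pullback.fst i₂ f) ≫ i₁) ≫ g := by
    rw [Category.assoc, ← pullback.condition, ← Category.assoc, ← pullback.condition,
      Category.assoc, Category.assoc, h₁.w]
  have hk₁ : h.lift _ _ hcomm ≫ fst =
      pullback.snd g₁ (pullback.fst i₂ f) ≫ pullback.snd i₂ f := h.lift_fst _ _ _
  have hk₂ : h.lift _ _ hcomm ≫ snd = pullback.fst g₁ (pullback.fst i₂ f) ≫ i₁ :=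
    h.lift_snd _ _ _
  -- the left square
  have hleft : IsPullback (pullback.fst g₁ (pullback.fst i₂ f))
      (pullback.snd g₁ (pullback.fst i₂ f)) g₁ (pullback.fst i₂ f) :=
    IsPullback.of_hasPullback _ _
  have hright : IsPullback i₁ g₁ g i₂ := h₁.flip
  have houter := hleft.paste_horiz hright
  have hbig : IsPullback (h.lift _ _ hcomm ≫ snd) (pullback.snd g₁ (pullback.fst i₂ f)) g
      (pullback.snd i₂ f ≫ f) := by
    rw [hk₂, ← pullback.condition]
    exact houter
  have hsq : IsPullback (h.lift _ _ hcomm) (pullback.snd g₁ (pullback.fst i₂ f)) fst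
      (pullback.snd i₂ f) := IsPullback.of_right hbig hk₁ h.flip
  have hP : P (pullback.snd g₁ (pullback.fst i₂ f)) := hfst _ _ _ hsq.flip
  exact DescendsAlong.of_isPullback (P := P) (Q := Q) hleft.flip hQf₁ hP

instance univSubmersive_isStableUnderBaseChange :
    (SGA1.UnivSubmersive : MorphismProperty Scheme.{u}).IsStableUnderBaseChange :=
  universally_isStableUnderBaseChange _

instance univSubmersive_respectsIso :
    (SGA1.UnivSubmersive : MorphismProperty Scheme.{u}).RespectsIso :=
  universally_respectsIso _

theorem isQuotientMap_of_univSubmersive {X Y : Scheme.{u}} {g : X ⟶ Y}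
    (hg : SGA1.UnivSubmersive g) : Topology.IsQuotientMap g :=
  hg _ _ _ IsPullback.of_id_snd

theorem descendsAlong_isOpenMap :
    (topologically @IsOpenMap : MorphismProperty Scheme.{u}).DescendsAlong
      SGA1.UnivSubmersive := by
  refine ⟨fun {A X Y Z fst snd f g} h hf hfst => ?_⟩
  intro U hU
  have hq := isQuotientMap_of_univSubmersive hf
  rw [← hq.isOpen_preimage]
  have := Scheme.image_preimage_eq_of_isPullback h.flip U
  erw [← this]
  exact hfst _ (hU.preimage snd.continuous)

theorem descendsAlong_isClosedMap :
    (topologically @IsClosedMap : MorphismProperty Scheme.{u}).DescendsAlong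
      SGA1.UnivSubmersive := by
  refine ⟨fun {A X Y Z fst snd f g} h hf hfst => ?_⟩
  intro U hU
  have hq := isQuotientMap_of_univSubmersive hf
  rw [← hq.isClosed_preimage]
  have := Scheme.image_preimage_eq_of_isPullback h.flip U
  erw [← this]
  exact hfst _ (hU.preimage snd.continuous)

theorem descendsAlong_universallyOpen :
    DescendsAlong (@UniversallyOpen : MorphismProperty Scheme.{u}) SGA1.UnivSubmersive := by
  rw [UniversallyOpen.eq]
  haveI := descendsAlong_isOpenMap.{u}
  exact descendsAlong_universally _ _

theorem descendsAlong_universallyClosed :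
    DescendsAlong (@UniversallyClosed : MorphismProperty Scheme.{u}) SGA1.UnivSubmersive := by
  rw [universallyClosed_eq]
  haveI := descendsAlong_isClosedMap.{u}
  exact descendsAlong_universally _ _

instance isClosedMap_respectsIso :
    (topologically @IsClosedMap : MorphismProperty Scheme.{u}).RespectsIso := by
  apply topologically_respectsIso
  · intro _ _ _ _ f
    exact f.isClosedMap
  · intro _ _ _ _ _ _ f g hf hg
    exact hg.comp hf

theorem descendsAlong_isSeparated :
    DescendsAlong (@IsSeparated : MorphismProperty Scheme.{u}) SGA1.UnivSubmersive := by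
  haveI := descendsAlong_isClosedMap.{u}
  have H : (topologically @IsClosedMap : MorphismProperty Scheme.{u}).diagonal.DescendsAlong
      SGA1.UnivSubmersive := inferInstance
  refine ⟨fun {A X Y Z fst snd f g} h hf hfst => ?_⟩
  have h1 : (topologically @IsClosedMap : MorphismProperty Scheme.{u}).diagonal fst := by
    have : IsSeparated fst := hfst
    change IsClosedMap (pullback.diagonal fst)
    exact (pullback.diagonal fst).isClosedEmbedding.isClosedMap
  have h2 := H.of_isPullback h hf h1
  have h3 : IsClosedMap (pullback.diagonal g) := h2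
  rw [isSeparated_iff]
  exact IsClosedImmersion.of_isPreimmersion _ h3.isClosed_range

theorem descendsAlong_quasiCompact :
    DescendsAlong @QuasiCompact (@Surjective ⊓ @QuasiCompact : MorphismProperty Scheme.{u}) := by
  refine ⟨fun {A X Y Z fst snd f g} h hf hfst => ?_⟩
  obtain ⟨hs, hq⟩ := hf
  haveI : QuasiCompact f := hq
  haveI : QuasiCompact fst := hfst
  have hsnd : Surjective snd := MorphismProperty.of_isPullback (P := @Surjective) h hs
  refine ⟨fun U hUo hUc => ?_⟩
  have h1 : IsCompact (fst ⁻¹' (f ⁻¹' U)) :=
    QuasiCompact.isCompact_preimage (f := fst) _ (hUo.preimage f.continuous)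
      (QuasiCompact.isCompact_preimage (f := f) _ hUo hUc)
  have h2 : fst ⁻¹' (f ⁻¹' U) = snd ⁻¹' (g ⁻¹' U) := by
    ext a
    simp only [Set.mem_preimage]
    rw [← Scheme.Hom.comp_apply, ← Scheme.Hom.comp_apply, h.w]
  rw [h2] at h1
  have h3 := h1.image snd.continuous
  haveI := hsnd
  rwa [Set.image_preimage_eq _ snd.surjective] at h3


/-- Properness descends along universally submersive morphisms, for morphisms locally of finite
type. -/
theorem isProper_of_isPullback {A X Y Z : Scheme.{u}} {fst : A ⟶ X} {snd : A ⟶ Y} {f : X ⟶ Z}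
    {g : Y ⟶ Z} (h : IsPullback fst snd f g) (hf : SGA1.UnivSubmersive f)
    [LocallyOfFiniteType g] [IsProper fst] : IsProper g := by
  haveI : IsSeparated g := descendsAlong_isSeparated.of_isPullback h hf inferInstance
  haveI : UniversallyClosed g := descendsAlong_universallyClosed.of_isPullback h hf inferInstance
  exact {}

/-- Étale morphisms are locally quasi-finite. -/
theorem locallyQuasiFinite_of_etale {X Y : Scheme.{u}} (f : X ⟶ Y) [Etale f] :
    LocallyQuasiFinite f := by
  rw [HasRingHomProperty.iff_appLE (P := @LocallyQuasiFinite)]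
  intro U V e
  have h1 : RingHom.Etale (f.appLE U V e).hom :=
    HasRingHomProperty.appLE (P := @Etale) f inferInstance U V e
  algebraize [(f.appLE U V e).hom]
  change Algebra.QuasiFinite _ _
  infer_instance

/-- A finite étale base change along a universally submersive morphism descends. -/
theorem isFinite_of_isPullback_of_etale {A X Y Z : Scheme.{u}} {fst : A ⟶ X} {snd : A ⟶ Y}
    {f : X ⟶ Z} {g : Y ⟶ Z} (h : IsPullback fst snd f g) (hf : SGA1.UnivSubmersive f)
    [Etale g] [IsFinite fst] : IsFinite g := by
  haveI : IsProper g := isProper_of_isPullback h hf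
  haveI : LocallyQuasiFinite g := locallyQuasiFinite_of_etale g
  exact IsFinite.of_isProper_of_locallyQuasiFinite g

end Groth.Agent.Lib.UnivSubm
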