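import Mathlib
import Groth.Prelude.Def_SGA1
import Groth.Agent.Lib.HensQF1_helper8
import Groth.Agent.Lib.CompleteFinite_helper3

/-!
# Universal submersiveness over a henselian local base (SGA 1 IX) (helper3)
APPEND-ONLY once landed.
-/

set_option autoImplicit false
universe u

namespace Groth.Agent.Lib.UnivSubmHensH3

open AlgebraicGeometry CategoryTheory Limits

/-- A finite jointly-surjective family of morphisms `j i ≫ g` which are finite makes `g`
universally submersive. -/
theorem univSubmersive_of_finite_family {X Y : Scheme.{u}} (g : X ⟶ Y) {ι : Type*} [Finite ι]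
    (W : ι → Scheme.{u}) (j : ∀ i, W i ⟶ X) (hfin : ∀ i, IsFinite (j i ≫ g))
    (hsurj : ∀ y : Y, ∃ i, ∃ w : W i, (j i ≫ g) w = y) : SGA1.UnivSubmersive g := by
  intro X' Y' i₁ i₂ f' H
  -- the base-changed family
  have Hi : ∀ i, IsPullback (pullback.fst (j i) i₁) (pullback.snd (j i) i₁ ≫ f') (j i ≫ g) i₂ :=
    fun i => (IsPullback.of_hasPullback (j i) i₁).paste_vert H.flip
  have hfin' : ∀ i, IsFinite (pullback.snd (j i) i₁ ≫ f') := fun i =>
    MorphismProperty.of_isPullback (P := @IsFinite) (Hi i) (hfin i)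
  have hcl : ∀ i, IsClosedMap (pullback.snd (j i) i₁ ≫ f') := fun i => by
    haveI := hfin' i
    exact (pullback.snd (j i) i₁ ≫ f').isClosedMap
  have hsurj' : ∀ t : Y', ∃ i, ∃ p : ↥(pullback (j i) i₁), (pullback.snd (j i) i₁ ≫ f') p = t := by
    intro t
    obtain ⟨i, w, hw⟩ := hsurj (i₂ t)
    let e := (Hi i).isoPullback
    obtain ⟨z, hz1, hz2⟩ := Scheme.Pullback.exists_preimage_pullback (f := j i ≫ g) (g := i₂) w t hw
    refine ⟨i, e.inv z, ?_⟩
    rw [← Scheme.Hom.comp_apply, (Hi i).isoPullback_inv_snd]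
    exact hz2
  show Topology.IsQuotientMap f'
  rw [Topology.isQuotientMap_iff_isClosed]
  refine ⟨?_, fun s => ⟨fun hs => hs.preimage f'.continuous, fun hs => ?_⟩⟩
  · intro t
    obtain ⟨i, p, hp⟩ := hsurj' t
    exact ⟨pullback.snd (j i) i₁ p, by rw [← Scheme.Hom.comp_apply]; exact hp⟩
  · -- `s = ⋃ i, q_i '' (q_i ⁻¹' s)`
    have hs_eq : s = ⋃ i, (pullback.snd (j i) i₁ ≫ f') '' ((pullback.snd (j i) i₁ ≫ f') ⁻¹' s) := by
      ext t
      simp only [Set.mem_iUnion, Set.mem_image, Set.mem_preimage]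
      constructor
      · intro ht
        obtain ⟨i, p, hp⟩ := hsurj' t
        exact ⟨i, p, hp ▸ ht, hp⟩
      · rintro ⟨i, p, hps, rfl⟩
        exact hps
    rw [hs_eq]
    refine isClosed_iUnion_of_finite fun i => hcl i _ ?_
    have : (pullback.snd (j i) i₁ ≫ f') ⁻¹' s = (pullback.snd (j i) i₁) ⁻¹' (f' ⁻¹' s) := by
      ext p
      simp only [Set.mem_preimage, Scheme.Hom.comp_apply]
    rw [this]
    exact hs.preimage (pullback.snd (j i) i₁).continuous

/-- SGA 1 IX: over a henselian local ring, a surjective morphism locally of finite type with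
finite closed fibre, all of whose points specialise into the closed fibre, is universally
submersive. -/
theorem main5114 (A : Type u) [CommRing A] [HenselianLocalRing A]
    {S' : Scheme.{u}} (g : S' ⟶ Spec (CommRingCat.of A)) [LocallyOfFiniteType g] [Surjective g]
    (hfin : (g.base ⁻¹' {IsLocalRing.closedPoint A}).Finite)
    (hsp : ∀ t : S', ∃ s' : S', g.base s' = IsLocalRing.closedPoint A ∧ t ⤳ s') :
    SGA1.UnivSubmersive g := by
  -- points of the closed fibre are quasi-finite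
  have hqf : ∀ s' : S', g.base s' = IsLocalRing.closedPoint A → g.QuasiFiniteAt s' := by
    intro s' hs'
    rw [Scheme.Hom.quasiFiniteAt_iff_isOpen_singleton_asFiber]
    haveI : Finite ↥(g.fiber (g s')) := by
      have h1 : Finite ↥(g ⁻¹' {g s'}) := by
        have : g ⁻¹' {g s'} = g.base ⁻¹' {IsLocalRing.closedPoint A} := by rw [← hs']; rfl
        rw [this]
        exact hfin.to_subtype
      exact Finite.of_equiv _ (g.fiberHomeo (g s')).symm.toEquiv
    exact isOpen_discrete _
  let U : S'.Opens := g.quasiFiniteLocus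
  let F := {s' : S' // g.base s' = IsLocalRing.closedPoint A}
  haveI : Finite F := hfin.to_subtype
  have hex : ∀ i : F, ∃ V : (U : Scheme.{u}).Opens,
      (⟨i.1, hqf i.1 i.2⟩ : U) ∈ V ∧ IsFinite (V.ι ≫ U.ι ≫ g) := fun i =>
    Groth.Agent.HensQFH8.exists_finite_nbhd A (U.ι ≫ g) ⟨i.1, hqf i.1 i.2⟩ i.2
  choose V hV1 hV2 using hex
  refine univSubmersive_of_finite_family g (fun i : F => ((V i : (U : Scheme.{u}).Opens) : Scheme.{u}))
    (fun i => (V i).ι ≫ U.ι) (fun i => by rw [Category.assoc]; exact hV2 i) ?_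
  intro y
  obtain ⟨t, rfl⟩ := Surjective.surj (f := g) y
  obtain ⟨s', hs', hts'⟩ := hsp t
  let i : F := ⟨s', hs'⟩
  have hopen : IsOpen (Set.range ((V i).ι ≫ U.ι)) := ((V i).ι ≫ U.ι).isOpenEmbedding.isOpen_range
  have hs'mem : s' ∈ Set.range ((V i).ι ≫ U.ι) :=
    ⟨⟨⟨s', hqf s' hs'⟩, hV1 i⟩, rfl⟩
  obtain ⟨w, hw⟩ := hts'.mem_open hopen hs'mem
  exact ⟨i, w, by rw [Scheme.Hom.comp_apply, hw]⟩

end Groth.Agent.Lib.UnivSubmHensH3
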