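import Mathlib
import Groth.Prelude.Def_Omega3

/-! Localization of a universal first order thickening at a multiplicative subset of the base
(S9463). -/

namespace Groth.Agent.Lib.UnivThickLocBase

universe u

theorem main (A B B' : Type u) [CommRing A] [CommRing B] [CommRing B'] [Algebra A B]
    [Algebra A B'] (π : B' →ₐ[A] B)
    (hπ : OmegaSh.IsUnivThickeningRing A B B' π) (S : Submonoid A)
    (AS BS B'S : Type u) [CommRing AS] [CommRing BS] [CommRing B'S]
    [Algebra A AS] [IsLocalization S AS]
    [Algebra B BS] [IsLocalization (Algebra.algebraMapSubmonoid B S) BS]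
    [Algebra B' B'S] [IsLocalization (Algebra.algebraMapSubmonoid B' S) B'S]
    [Algebra AS BS] [Algebra A BS] [IsScalarTower A AS BS] [IsScalarTower A B BS]
    [Algebra AS B'S] [Algebra A B'S] [IsScalarTower A AS B'S] [IsScalarTower A B' B'S]
    (πS : B'S →ₐ[AS] BS) (hπS : ∀ x : B', πS (algebraMap B' B'S x) = algebraMap B BS (π x)) :
    OmegaSh.IsUnivThickeningRing AS BS B'S πS := by
  obtain ⟨hsurj, hker2, huniv⟩ := hπ
  have hmk : ∀ (b' : B') (s' : Algebra.algebraMapSubmonoid B' S),
      πS (IsLocalization.mk' B'S b' s') * algebraMap B BS (π s') = algebraMap B BS (π b') := by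
    intro b' s'
    rw [← hπS, ← hπS, ← map_mul, IsLocalization.mk'_spec]
  -- every element of the submonoid of `B` is the image of one of the submonoid of `B'`
  have hlift : ∀ t ∈ Algebra.algebraMapSubmonoid B S,
      ∃ t' ∈ Algebra.algebraMapSubmonoid B' S, π t' = t := by
    rintro t ⟨s, hs, rfl⟩
    exact ⟨algebraMap A B' s, ⟨s, hs, rfl⟩, π.commutes s⟩
  refine ⟨?_, ?_, ?_⟩
  · intro y
    obtain ⟨⟨b, s⟩, hbs⟩ := IsLocalization.mk'_surjective (Algebra.algebraMapSubmonoid B S) y
    change IsLocalization.mk' BS b s = y at hbs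
    obtain ⟨b', rfl⟩ := hsurj b
    obtain ⟨s', hs'mem, hs'⟩ := hlift s.1 s.2
    refine ⟨IsLocalization.mk' B'S b' ⟨s', hs'mem⟩, ?_⟩
    rw [← hbs, IsLocalization.eq_mk'_iff_mul_eq]
    have h1 := hmk b' ⟨s', hs'mem⟩
    rw [← hs']
    exact h1
  · have hkle : RingHom.ker πS.toRingHom ≤
        Ideal.map (algebraMap B' B'S) (RingHom.ker π.toRingHom) := by
      intro x hx
      obtain ⟨⟨b', s'⟩, hbs⟩ :=
        IsLocalization.mk'_surjective (Algebra.algebraMapSubmonoid B' S) x
      change IsLocalization.mk' B'S b' s' = x at hbs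
      have h0 : πS x = 0 := RingHom.mem_ker.1 hx
      have h1 := hmk b' s'
      rw [hbs, h0, zero_mul] at h1
      obtain ⟨t, ht⟩ := (IsLocalization.map_eq_zero_iff (Algebra.algebraMapSubmonoid B S) BS
        (π b')).1 h1.symm
      obtain ⟨t', ht'mem, ht'⟩ := hlift t.1 t.2
      have hK : t' * b' ∈ RingHom.ker π.toRingHom := by
        rw [RingHom.mem_ker]
        change π (t' * b') = 0
        rw [map_mul, ht', ht]
      have hunit : IsUnit (algebraMap B' B'S t') :=
        IsLocalization.map_units B'S (⟨t', ht'mem⟩ : Algebra.algebraMapSubmonoid B' S)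
      rw [← Ideal.unit_mul_mem_iff_mem _ hunit, ← hbs, IsLocalization.mul_mk'_eq_mk'_of_mul,
        IsLocalization.mk'_eq_mul_mk'_one]
      exact Ideal.mul_mem_right _ _ (Ideal.mem_map_of_mem _ hK)
    rw [eq_bot_iff]
    calc RingHom.ker πS.toRingHom ^ 2
        ≤ (Ideal.map (algebraMap B' B'S) (RingHom.ker π.toRingHom)) ^ 2 :=
          Ideal.pow_right_mono hkle 2
      _ = Ideal.map (algebraMap B' B'S) (RingHom.ker π.toRingHom ^ 2) :=
          (Ideal.map_pow _ _ _).symm
      _ = ⊥ := by rw [hker2, Ideal.map_bot]
  · intro T _ _ I hI a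
    letI iAT : Algebra A T := ((algebraMap AS T).comp (algebraMap A AS)).toAlgebra
    haveI : IsScalarTower A AS T := IsScalarTower.of_algebraMap_eq (fun _ => rfl)
    let a₀ : B →ₐ[A] T ⧸ I :=
      { (a.toRingHom.comp (algebraMap B BS)) with
        commutes' := fun r => by
          change a (algebraMap B BS (algebraMap A B r)) = algebraMap A (T ⧸ I) r
          rw [← IsScalarTower.algebraMap_apply A B BS, IsScalarTower.algebraMap_apply A AS BS,
            a.commutes, ← Ideal.Quotient.mk_algebraMap AS I, ← Ideal.Quotient.mk_algebraMap A I]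
          rfl }
    have ha₀ : ∀ x : B, a₀ x = a (algebraMap B BS x) := fun x => rfl
    obtain ⟨a₀', h₀, huniq₀⟩ := huniv T I hI a₀
    have h₀x : ∀ x : B', Ideal.Quotient.mk I (a₀' x) = a (algebraMap B BS (π x)) :=
      fun x => AlgHom.congr_fun h₀ x
    have hunits : ∀ y : Algebra.algebraMapSubmonoid B' S, IsUnit (a₀' y) := by
      rintro ⟨_, s, hs, rfl⟩
      change IsUnit (a₀' (algebraMap A B' s))
      rw [a₀'.commutes]
      change IsUnit (algebraMap AS T (algebraMap A AS s))
      exact (IsLocalization.map_units AS (⟨s, hs⟩ : S)).map (algebraMap AS T)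
    let a'r : B'S →+* T := IsLocalization.lift (M := Algebra.algebraMapSubmonoid B' S)
      (g := a₀'.toRingHom) hunits
    have ha'r : ∀ x : B', a'r (algebraMap B' B'S x) = a₀' x := fun x =>
      IsLocalization.lift_eq hunits x
    let a' : B'S →ₐ[AS] T :=
      { a'r with
        commutes' := fun z => by
          change a'r (algebraMap AS B'S z) = algebraMap AS T z
          have hr : a'r.comp (algebraMap AS B'S) = algebraMap AS T := by
            apply IsLocalization.ringHom_ext S
            refine RingHom.ext fun r => ?_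
            change a'r (algebraMap AS B'S (algebraMap A AS r)) =
              algebraMap AS T (algebraMap A AS r)
            rw [← IsScalarTower.algebraMap_apply A AS B'S,
              IsScalarTower.algebraMap_apply A B' B'S, ha'r, a₀'.commutes]
            rfl
          exact RingHom.congr_fun hr z }
    have ha' : ∀ x : B', a' (algebraMap B' B'S x) = a₀' x := ha'r
    refine ⟨a', ?_, ?_⟩
    · have hr : ((Ideal.Quotient.mkₐ AS I).comp a').toRingHom = (a.comp πS).toRingHom := by
        apply IsLocalization.ringHom_ext (Algebra.algebraMapSubmonoid B' S)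
        refine RingHom.ext fun x => ?_
        change Ideal.Quotient.mk I (a' (algebraMap B' B'S x)) = a (πS (algebraMap B' B'S x))
        rw [ha', h₀x, hπS]
      exact AlgHom.ext fun x => RingHom.congr_fun hr x
    · intro b hb
      let b₀ : B' →ₐ[A] T :=
        { (b.toRingHom.comp (algebraMap B' B'S)) with
          commutes' := fun r => by
            change b (algebraMap B' B'S (algebraMap A B' r)) = algebraMap A T r
            rw [← IsScalarTower.algebraMap_apply A B' B'S,
              IsScalarTower.algebraMap_apply A AS B'S, b.commutes]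
            rfl }
      have hb₀ : (Ideal.Quotient.mkₐ A I).comp b₀ = a₀.comp π := by
        refine AlgHom.ext fun x => ?_
        have h1 := AlgHom.congr_fun hb (algebraMap B' B'S x)
        change Ideal.Quotient.mk I (b (algebraMap B' B'S x)) =
          a (πS (algebraMap B' B'S x)) at h1
        change Ideal.Quotient.mk I (b (algebraMap B' B'S x)) = a (algebraMap B BS (π x))
        rw [h1, hπS]
      have hb₁ : b₀ = a₀' := huniq₀ _ hb₀
      have hr : b.toRingHom = a'.toRingHom := by
        apply IsLocalization.ringHom_ext (Algebra.algebraMapSubmonoid B' S)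
        refine RingHom.ext fun x => ?_
        change b (algebraMap B' B'S x) = a' (algebraMap B' B'S x)
        rw [ha']
        exact AlgHom.congr_fun hb₁ x
      exact AlgHom.ext fun x => RingHom.congr_fun hr x

end Groth.Agent.Lib.UnivThickLocBase
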