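import Mathlib
import Groth.Prelude.Def_Omega3

/-! Localization of a universal first order thickening at a multiplicative subset of `B` (S9464). -/

namespace Groth.Agent.Lib.UnivThickLoc

universe u

theorem main (A B B' : Type u) [CommRing A] [CommRing B] [CommRing B'] [Algebra A B]
    [Algebra A B'] (π : B' →ₐ[A] B)
    (hπ : OmegaSh.IsUnivThickeningRing A B B' π) (S : Submonoid B)
    (BS B'S : Type u) [CommRing BS] [CommRing B'S]
    [Algebra B BS] [IsLocalization S BS]
    [Algebra B' B'S] [IsLocalization (S.comap π.toRingHom.toMonoidHom) B'S]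
    [Algebra A BS] [IsScalarTower A B BS] [Algebra A B'S] [IsScalarTower A B' B'S]
    (πS : B'S →ₐ[A] BS) (hπS : ∀ x : B', πS (algebraMap B' B'S x) = algebraMap B BS (π x)) :
    OmegaSh.IsUnivThickeningRing A BS B'S πS := by
  obtain ⟨hsurj, hker2, huniv⟩ := hπ
  have hmemS' : ∀ x : B', x ∈ S.comap π.toRingHom.toMonoidHom ↔ π x ∈ S := fun x => Iff.rfl
  have hmk : ∀ (b' : B') (s' : S.comap π.toRingHom.toMonoidHom),
      πS (IsLocalization.mk' B'S b' s') * algebraMap B BS (π s') = algebraMap B BS (π b') := by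
    intro b' s'
    rw [← hπS, ← hπS, ← map_mul, IsLocalization.mk'_spec]
  refine ⟨?_, ?_, ?_⟩
  · intro y
    obtain ⟨⟨b, s⟩, hbs⟩ := IsLocalization.mk'_surjective S y
    change IsLocalization.mk' BS b s = y at hbs
    obtain ⟨b', rfl⟩ := hsurj b
    obtain ⟨s', hs'⟩ := hsurj s.1
    have hs'mem : s' ∈ S.comap π.toRingHom.toMonoidHom :=
      (hmemS' s').2 (by rw [hs']; exact s.2)
    refine ⟨IsLocalization.mk' B'S b' ⟨s', hs'mem⟩, ?_⟩
    rw [← hbs, IsLocalization.eq_mk'_iff_mul_eq]
    have h1 := hmk b' ⟨s', hs'mem⟩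
    rw [← hs']
    exact h1
  · have hkle : RingHom.ker πS.toRingHom ≤
        Ideal.map (algebraMap B' B'S) (RingHom.ker π.toRingHom) := by
      intro x hx
      obtain ⟨⟨b', s'⟩, hbs⟩ :=
        IsLocalization.mk'_surjective (S.comap π.toRingHom.toMonoidHom) x
      change IsLocalization.mk' B'S b' s' = x at hbs
      have h0 : πS x = 0 := RingHom.mem_ker.1 hx
      have h1 := hmk b' s'
      rw [hbs, h0, zero_mul] at h1
      obtain ⟨t, ht⟩ := (IsLocalization.map_eq_zero_iff S BS (π b')).1 h1.symm
      obtain ⟨t', ht'⟩ := hsurj t.1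
      have ht'mem : t' ∈ S.comap π.toRingHom.toMonoidHom :=
        (hmemS' t').2 (by rw [ht']; exact t.2)
      have hK : t' * b' ∈ RingHom.ker π.toRingHom := by
        rw [RingHom.mem_ker]
        change π (t' * b') = 0
        rw [map_mul, ht', ht]
      have hunit : IsUnit (algebraMap B' B'S t') :=
        IsLocalization.map_units B'S (⟨t', ht'mem⟩ : S.comap π.toRingHom.toMonoidHom)
      rw [← Ideal.unit_mul_mem_iff_mem _ hunit, ← hbs, IsLocalization.mul_mk'_eq_mk'_of_mul,
        IsLocalization.mk'_eq_mul_mk'_one]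
      exact Ideal.mul_mem_right _ _ (Ideal.mem_map_of_mem _ hK)
    rw [eq_bot_iff]
    calc RingHom.ker πS.toRingHom ^ 2
        ≤ (Ideal.map (algebraMap B' B'S) (RingHom.ker π.toRingHom)) ^ 2 :=
          Ideal.pow_right_mono hkle 2
      _ = Ideal.map (algebraMap B' B'S) (RingHom.ker π.toRingHom ^ 2) :=
          (Ideal.map_pow _ _ _).symm
      _ = ⊥ := by rw [hker2, Ideal.map_bot]
  · intro T _ _ I hI a
    let ι : B →ₐ[A] BS := IsScalarTower.toAlgHom A B BS
    let ι' : B' →ₐ[A] B'S := IsScalarTower.toAlgHom A B' B'S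
    obtain ⟨a₀', h₀, huniq₀⟩ := huniv T I hI (a.comp ι)
    have h₀x : ∀ x : B', Ideal.Quotient.mk I (a₀' x) = a (algebraMap B BS (π x)) :=
      fun x => AlgHom.congr_fun h₀ x
    have hnil : IsNilpotent I := ⟨2, by rw [hI, Ideal.zero_eq_bot]⟩
    have hunits : ∀ y : S.comap π.toRingHom.toMonoidHom, IsUnit (a₀' y) := by
      intro y
      rw [← hnil.isUnit_quotient_mk_iff, h₀x]
      exact (IsLocalization.map_units BS (⟨π y, y.2⟩ : S)).map a
    let a' : B'S →ₐ[A] T :=
      IsLocalization.liftAlgHom (M := S.comap π.toRingHom.toMonoidHom) (f := a₀') hunits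
    have ha' : ∀ x : B', a' (algebraMap B' B'S x) = a₀' x := by
      intro x
      rw [IsLocalization.liftAlgHom_apply, IsLocalization.lift_eq]
      rfl
    refine ⟨a', ?_, ?_⟩
    · have hr : ((Ideal.Quotient.mkₐ A I).comp a').toRingHom = (a.comp πS).toRingHom := by
        apply IsLocalization.ringHom_ext (S.comap π.toRingHom.toMonoidHom)
        refine RingHom.ext fun x => ?_
        change Ideal.Quotient.mk I (a' (algebraMap B' B'S x)) = a (πS (algebraMap B' B'S x))
        rw [ha', h₀x, hπS]
      exact AlgHom.ext fun x => RingHom.congr_fun hr x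
    · intro b hb
      have hb₀ : (Ideal.Quotient.mkₐ A I).comp (b.comp ι') = (a.comp ι).comp π := by
        refine AlgHom.ext fun x => ?_
        have h1 := AlgHom.congr_fun hb (algebraMap B' B'S x)
        change Ideal.Quotient.mk I (b (algebraMap B' B'S x)) =
          a (πS (algebraMap B' B'S x)) at h1
        change Ideal.Quotient.mk I (b (algebraMap B' B'S x)) = a (algebraMap B BS (π x))
        rw [h1, hπS]
      have hb₁ : b.comp ι' = a₀' := huniq₀ _ hb₀
      have hr : b.toRingHom = a'.toRingHom := by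
        apply IsLocalization.ringHom_ext (S.comap π.toRingHom.toMonoidHom)
        refine RingHom.ext fun x => ?_
        change b (algebraMap B' B'S x) = a' (algebraMap B' B'S x)
        rw [ha']
        exact AlgHom.congr_fun hb₁ x
      exact AlgHom.ext fun x => RingHom.congr_fun hr x

end Groth.Agent.Lib.UnivThickLoc
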