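import Mathlib
import Groth.Prelude.Def_MoreMor
import Groth.Prelude.Def_Omega3
import Groth.Agent.Lib.UnivThickSch1_helper7
import Groth.Agent.Lib.Thickening2_helper7

/-!
# Universal first order thickenings of schemes: gluing — helper7

If `h : Z ⟶ X` and a locally directed open cover of `Z` is given such that every member has a
universal first order thickening over `X`, these glue (as a locally directed colimit of open
immersions) to a universal first order thickening of `Z` over `X`.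
-/

set_option autoImplicit false
universe u
open CategoryTheory CategoryTheory.Limits AlgebraicGeometry

namespace Groth.Agent.Lib.UnivThickSch3_helper7

open Groth.Agent.Lib.FormalEtale_helper7 Groth.Agent.Lib.Thickening_helper7
  Groth.Agent.Lib.UnivThickSch1_helper7

/-- Being a first order thickening is local on the target. -/
theorem fot_of_openCover {Z Z' : Scheme.{u}} (i : Z ⟶ Z') (𝒲 : Z'.OpenCover)
    (H : ∀ k, MoreMor.IsFirstOrderThickening (pullback.snd i (𝒲.f k))) :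
    MoreMor.IsFirstOrderThickening i := by
  haveI hci : IsClosedImmersion i :=
    (IsZariskiLocalAtTarget.iff_of_openCover (P := @IsClosedImmersion) 𝒲).2 fun k => (H k).1.1
  haveI hsj : Surjective i :=
    (IsZariskiLocalAtTarget.iff_of_openCover (P := @Surjective) 𝒲).2 fun k => (H k).1.2
  refine ⟨⟨hci, hsj⟩, ?_⟩
  rw [eq_bot_iff]
  haveI : ∀ k, IsOpenImmersion (𝒲.f k) := fun k => Scheme.Cover.map_prop 𝒲 k
  refine Scheme.IdealSheafData.le_of_iSup_eq_top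
    (fun p : Σ k, (𝒲.X k).affineOpens =>
      (⟨𝒲.f p.1 ''ᵁ p.2.1, p.2.2.image_of_isOpenImmersion (𝒲.f p.1)⟩ : Z'.affineOpens)) ?_ ?_
  · rw [eq_top_iff]
    intro z _
    obtain ⟨k, x, rfl⟩ := 𝒲.exists_eq z
    obtain ⟨_, ⟨W, hW, rfl⟩, hxW, -⟩ :=
      (𝒲.X k).isBasis_affineOpens.exists_subset_of_mem_open (Set.mem_univ x) isOpen_univ
    exact TopologicalSpace.Opens.mem_iSup.2 ⟨⟨k, ⟨W, hW⟩⟩, ⟨x, hxW, rfl⟩⟩
  · rintro ⟨k, W⟩
    rw [Scheme.IdealSheafData.ideal_mul, Pi.mul_apply]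
    change _ ≤ (⊥ : Ideal _)
    rw [Ideal.mul_le]
    intro r hr s hs
    have hker := Scheme.ker_ideal_of_isPullback_of_isOpenImmersion i (pullback.snd i (𝒲.f k))
      (pullback.fst i (𝒲.f k)) (𝒲.f k) (IsPullback.of_hasPullback i (𝒲.f k)).flip W
    have hsq := congrArg (fun J : (𝒲.X k).IdealSheafData => J.ideal W) (H k).2
    simp only [Scheme.IdealSheafData.ideal_mul, Pi.mul_apply, Scheme.IdealSheafData.ideal_bot,
      Pi.bot_apply] at hsq
    have hsurj : Function.Surjective ((𝒲.f k).appIso W.1).inv.hom :=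
      (ConcreteCategory.bijective_of_isIso ((𝒲.f k).appIso W.1).inv).2
    obtain ⟨r', rfl⟩ := hsurj r
    obtain ⟨s', rfl⟩ := hsurj s
    have hr' : r' ∈ (pullback.snd i (𝒲.f k)).ker.ideal W := by rw [hker]; exact hr
    have hs' : s' ∈ (pullback.snd i (𝒲.f k)).ker.ideal W := by rw [hker]; exact hs
    have h0 : r' * s' = 0 := by
      have := Ideal.mul_mem_mul hr' hs'
      rw [hsq] at this
      exact this
    rw [Ideal.mem_bot, ← map_mul, h0, map_zero]

/-- Local universal first order thickenings on the members of an open cover. -/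
structure LocData {X Z : Scheme.{u}} (h : Z ⟶ X) (𝒰 : Scheme.OpenCover.{u} Z) where
  /-- the local thickenings -/
  Z' : 𝒰.I₀ → Scheme.{u}
  /-- the thickening maps -/
  ι : ∀ k, 𝒰.X k ⟶ Z' k
  /-- the structure maps -/
  h' : ∀ k, Z' k ⟶ X
  hu : ∀ k, OmegaSh.IsUnivThickening (𝒰.f k ≫ h) (ι k) (h' k)

namespace LocData

variable {X Z : Scheme.{u}} {h : Z ⟶ X} {𝒰 : Scheme.OpenCover.{u} Z} (D : LocData h 𝒰)
  [Category.{u} 𝒰.I₀] [Quiver.IsThin 𝒰.I₀] [𝒰.LocallyDirected]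

lemma existsUnique_trans {i j : 𝒰.I₀} (hij : i ⟶ j) :
    ∃! τ : D.Z' i ⟶ D.Z' j, D.ι i ≫ τ = 𝒰.trans hij ≫ D.ι j ∧ τ ≫ D.h' j = D.h' i :=
  (D.hu j).2.2 (𝒰.X i) (D.Z' i) (D.ι i) (D.h' i) (𝒰.trans hij) (D.hu i).1
    (by rw [(D.hu i).2.1, ← Category.assoc, 𝒰.trans_map])

/-- The transition maps between the local universal thickenings. -/
noncomputable def tau {i j : 𝒰.I₀} (hij : i ⟶ j) : D.Z' i ⟶ D.Z' j :=
  (D.existsUnique_trans hij).exists.choose

lemma ι_tau {i j : 𝒰.I₀} (hij : i ⟶ j) : D.ι i ≫ D.tau hij = 𝒰.trans hij ≫ D.ι j :=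
  (D.existsUnique_trans hij).exists.choose_spec.1

lemma tau_h' {i j : 𝒰.I₀} (hij : i ⟶ j) : D.tau hij ≫ D.h' j = D.h' i :=
  (D.existsUnique_trans hij).exists.choose_spec.2

lemma tau_unique {i j : 𝒰.I₀} (hij : i ⟶ j) (σ : D.Z' i ⟶ D.Z' j)
    (h1 : D.ι i ≫ σ = 𝒰.trans hij ≫ D.ι j) (h2 : σ ≫ D.h' j = D.h' i) : σ = D.tau hij :=
  (D.existsUnique_trans hij).unique ⟨h1, h2⟩ ⟨D.ι_tau hij, D.tau_h' hij⟩

/-- The diagram of local universal thickenings. -/
noncomputable def diag : 𝒰.I₀ ⥤ Scheme.{u} where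
  obj := D.Z'
  map hij := D.tau hij
  map_id i := by
    symm
    apply D.tau_unique
    · rw [Category.comp_id, 𝒰.trans_id, Category.id_comp]
    · rw [Category.id_comp]
  map_comp hij hjk := by
    symm
    apply D.tau_unique
    · have e1 := D.ι_tau hij =≫ D.tau hjk
      simp only [Category.assoc] at e1
      rw [e1, D.ι_tau hjk, 𝒰.trans_comp, Category.assoc]
    · rw [Category.assoc, D.tau_h', D.tau_h']

lemma ι_surjective (k : 𝒰.I₀) : Function.Surjective (D.ι k) := (D.hu k).1.1.2.surj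

lemma ι_injective (k : 𝒰.I₀) : Function.Injective (D.ι k) := by
  haveI := (D.hu k).1.1.1
  exact (D.ι k).isClosedEmbedding.injective

lemma ι_tau_apply {i j : 𝒰.I₀} (hij : i ⟶ j) (z : 𝒰.X i) :
    D.tau hij (D.ι i z) = D.ι j (𝒰.trans hij z) := by
  have := congrArg (fun φ : 𝒰.X i ⟶ D.Z' j => φ z) (D.ι_tau hij)
  simpa using this

lemma isOpenImmersion_tau {i j : 𝒰.I₀} (hij : i ⟶ j) : IsOpenImmersion (D.tau hij) := by
  obtain ⟨W', hW'⟩ := exists_opens_preimage_eq (D.ι j) (D.hu j).1 (𝒰.trans hij).opensRange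
  have hres := isUnivThickening_restrict (D.hu j) W'
  have hr : Set.range (𝒰.trans hij) = Set.range ((D.ι j ⁻¹ᵁ W').ι) := by
    rw [Scheme.Opens.range_ι, hW']
    rfl
  let e : 𝒰.X i ≅ (D.ι j ⁻¹ᵁ W').toScheme :=
    IsOpenImmersion.isoOfRangeEq (𝒰.trans hij) (D.ι j ⁻¹ᵁ W').ι hr
  have he : e.hom ≫ (D.ι j ⁻¹ᵁ W').ι = 𝒰.trans hij :=
    IsOpenImmersion.isoOfRangeEq_hom_fac _ _ _
  obtain ⟨e', he'1, he'2⟩ := exists_iso_of_isUnivThickening (D.hu i) hres e
    (by rw [← Category.assoc, he, ← Category.assoc, 𝒰.trans_map])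
  have : D.tau hij = e'.hom ≫ W'.ι := by
    symm
    apply D.tau_unique
    · have e1 := he'1 =≫ W'.ι
      simp only [Category.assoc, morphismRestrict_ι] at e1
      rw [e1, ← Category.assoc, he]
    · rw [Category.assoc, he'2]
  rw [this]
  infer_instance

instance {i j : 𝒰.I₀} (hij : i ⟶ j) : IsOpenImmersion (D.diag.map hij) :=
  D.isOpenImmersion_tau hij

instance : (D.diag ⋙ Scheme.forget).IsLocallyDirected where
  cond {i j k} fi fj xi xj hx := by
    obtain ⟨zi, rfl⟩ := D.ι_surjective i xi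
    obtain ⟨zj, rfl⟩ := D.ι_surjective j xj
    have hx' : D.tau fi (D.ι i zi) = D.tau fj (D.ι j zj) := hx
    rw [D.ι_tau_apply, D.ι_tau_apply] at hx'
    obtain ⟨l, fli, flj, z, rfl, rfl⟩ :=
      𝒰.exists_of_trans_eq_trans fi fj zi zj (D.ι_injective k hx')
    exact ⟨l, fli, flj, D.ι l z, D.ι_tau_apply fli z, D.ι_tau_apply flj z⟩

/-- The glued thickening. -/
noncomputable def glued : Scheme.{u} := colimit D.diag

/-- The inclusions of the local thickenings. -/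
noncomputable def c (k : 𝒰.I₀) : D.Z' k ⟶ D.glued := colimit.ι D.diag k

instance (k : 𝒰.I₀) : IsOpenImmersion (D.c k) :=
  inferInstanceAs (IsOpenImmersion (colimit.ι D.diag k))

lemma tau_c {i j : 𝒰.I₀} (hij : i ⟶ j) : D.tau hij ≫ D.c j = D.c i := colimit.w D.diag hij

lemma gi_compat {i j : 𝒰.I₀} (hij : i ⟶ j) :
    𝒰.trans hij ≫ D.ι j ≫ D.c j = D.ι i ≫ D.c i := by
  have e1 := D.ι_tau hij =≫ D.c j
  simp only [Category.assoc, D.tau_c] at e1
  exact e1.symm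

/-- The glued thickening map. -/
noncomputable def gi : Z ⟶ D.glued :=
  𝒰.glueMorphismsOfLocallyDirected (fun k => D.ι k ≫ D.c k) (fun {_ _} hij => D.gi_compat hij)

lemma f_gi (k : 𝒰.I₀) : 𝒰.f k ≫ D.gi = D.ι k ≫ D.c k :=
  𝒰.map_glueMorphismsOfLocallyDirected (fun k => D.ι k ≫ D.c k)
    (fun {_ _} hij => D.gi_compat hij) k

/-- The glued structure map. -/
noncomputable def cocone : Cocone D.diag where
  pt := X
  ι :=
    { app := D.h'
      naturality := fun _ _ hij => (D.tau_h' hij).trans (Category.comp_id _).symm }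

/-- The glued structure map. -/
noncomputable def gh : D.glued ⟶ X := colimit.desc D.diag D.cocone

lemma c_gh (k : 𝒰.I₀) : D.c k ≫ D.gh = D.h' k := colimit.ι_desc _ _

lemma gi_gh : D.gi ≫ D.gh = h :=
  𝒰.hom_ext _ _ fun k => by
    rw [← Category.assoc, D.f_gi, Category.assoc, D.c_gh]
    exact (D.hu k).2.1

lemma gi_f_apply (k : 𝒰.I₀) (x : 𝒰.X k) : D.gi (𝒰.f k x) = D.c k (D.ι k x) := by
  have := congrArg (fun φ : 𝒰.X k ⟶ D.glued => φ x) (D.f_gi k)
  simpa using this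

lemma preimage_range_c (k : 𝒰.I₀) : D.gi ⁻¹ᵁ (D.c k).opensRange = (𝒰.f k).opensRange := by
  ext z
  constructor
  · rintro ⟨y, hy⟩
    obtain ⟨j, x, rfl⟩ := 𝒰.exists_eq z
    rw [D.gi_f_apply] at hy
    obtain ⟨l, fk, fj, w, hw1, hw2⟩ := (Scheme.IsLocallyDirected.ι_eq_ι_iff D.diag).1 hy
    obtain ⟨zl, rfl⟩ := D.ι_surjective l w
    have hw2' : D.tau fj (D.ι l zl) = D.ι j x := hw2
    rw [D.ι_tau_apply] at hw2'
    have e3 := D.ι_injective j hw2'
    refine ⟨𝒰.trans fk zl, ?_⟩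
    rw [← e3, ← Scheme.Hom.comp_apply, ← Scheme.Hom.comp_apply, 𝒰.trans_map, 𝒰.trans_map]
  · rintro ⟨x, rfl⟩
    exact ⟨D.ι k x, (D.gi_f_apply k x).symm⟩

lemma isPullback_c (k : 𝒰.I₀) : IsPullback (D.ι k) (𝒰.f k) (D.c k) D.gi :=
  IsOpenImmersion.isPullback (D.ι k) (𝒰.f k) (D.c k) D.gi (D.f_gi k) (D.preimage_range_c k)

lemma fot_gi : MoreMor.IsFirstOrderThickening D.gi := by
  refine fot_of_openCover D.gi (Scheme.IsLocallyDirected.openCover D.diag) fun k => ?_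
  have P := (D.isPullback_c k).flip
  have hsnd : pullback.snd D.gi (D.c k) = P.isoPullback.inv ≫ D.ι k := by
    rw [Iso.eq_inv_comp, P.isoPullback_hom_snd]
  change MoreMor.IsFirstOrderThickening (pullback.snd D.gi (D.c k))
  rw [hsnd]
  exact fot_iso_comp _ _ (D.hu k).1

lemma formallyUnramified_gh : FormallyUnramified D.gh := by
  refine IsZariskiLocalAtSource.of_openCover (P := @FormallyUnramified)
    (Scheme.IsLocallyDirected.openCover D.diag) fun k => ?_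
  change FormallyUnramified (D.c k ≫ D.gh)
  rw [D.c_gh]
  exact Groth.Agent.Lib.Thickening2_helper7.formallyUnramified_of_uniq_lift (𝒰.f k ≫ h) (D.ι k)
    (D.h' k) (D.hu k).1 (D.hu k).2.1
    (fun T T' t b a ht w g₁ g₂ h1 h2 => ((D.hu k).2.2 T T' t b a ht w).unique h1 h2)

theorem isUnivThickening_glued : OmegaSh.IsUnivThickening h D.gi D.gh := by
  refine ⟨D.fot_gi, D.gi_gh, ?_⟩
  intro T T' t b a ht hw
  haveI := D.formallyUnramified_gh
  refine existsUnique_lift_of_local D.gh t ht (a ≫ D.gi) b ?_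
  intro y
  obtain ⟨x, rfl⟩ := ht.1.2.surj y
  obtain ⟨k, x', hx'⟩ := 𝒰.exists_eq (a x)
  obtain ⟨V, hV⟩ := exists_opens_preimage_eq t ht (a ⁻¹ᵁ (𝒰.f k).opensRange)
  refine ⟨V, ?_, ?_⟩
  · have hxV : x ∈ t ⁻¹ᵁ V := by
      rw [hV]
      exact ⟨x', hx'⟩
    exact hxV
  · have hmem : ∀ z : T, z ∈ t ⁻¹ᵁ V → a z ∈ Set.range (𝒰.f k) := by
      intro z hz
      rw [hV] at hz
      exact hz
    have hrange : Set.range ((t ⁻¹ᵁ V).ι ≫ a) ⊆ Set.range (𝒰.f k) := by
      rintro _ ⟨w, rfl⟩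
      have h3 : (t ⁻¹ᵁ V).ι w ∈ t ⁻¹ᵁ V := w.2
      have h4 := hmem _ h3
      simpa using h4
    let aV : (t ⁻¹ᵁ V).toScheme ⟶ 𝒰.X k := IsOpenImmersion.lift (𝒰.f k) ((t ⁻¹ᵁ V).ι ≫ a) hrange
    have haV : aV ≫ 𝒰.f k = (t ⁻¹ᵁ V).ι ≫ a := IsOpenImmersion.lift_fac _ _ _
    have hw' : (t ∣_ V) ≫ (V.ι ≫ b) = aV ≫ (𝒰.f k ≫ h) := by
      have e1 := haV =≫ h
      simp only [Category.assoc] at e1
      rw [e1, ← hw, ← Category.assoc, morphismRestrict_ι, Category.assoc]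
    obtain ⟨a', ⟨ha1, ha2⟩, -⟩ :=
      (D.hu k).2.2 _ _ (t ∣_ V) (V.ι ≫ b) aV (fot_morphismRestrict t ht V) hw'
    refine ⟨a' ≫ D.c k, ?_, ?_⟩
    · have e1 := ha1 =≫ D.c k
      have e2 := haV =≫ D.gi
      simp only [Category.assoc] at e1 e2
      rw [e1, ← D.f_gi, e2]
    · rw [Category.assoc, D.c_gh, ha2]

end LocData

/-- Gluing universal first order thickenings along a locally directed open cover. -/
theorem exists_isUnivThickening_of_locallyDirected {X Z : Scheme.{u}} (h : Z ⟶ X)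
    (𝒰 : Scheme.OpenCover.{u} Z) [Category.{u} 𝒰.I₀] [Quiver.IsThin 𝒰.I₀] [𝒰.LocallyDirected]
    (H : ∀ k : 𝒰.I₀, ∃ (Z' : Scheme.{u}) (i : 𝒰.X k ⟶ Z') (h' : Z' ⟶ X),
      OmegaSh.IsUnivThickening (𝒰.f k ≫ h) i h') :
    ∃ (Z' : Scheme.{u}) (i : Z ⟶ Z') (h' : Z' ⟶ X), OmegaSh.IsUnivThickening h i h' := by
  choose Z' ι h' hu using H
  let D : LocData h 𝒰 := ⟨Z', ι, h', hu⟩
  exact ⟨D.glued, D.gi, D.gh, D.isUnivThickening_glued⟩

end Groth.Agent.Lib.UnivThickSch3_helper7
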