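import Mathlib
import Groth.Prelude.Def_MoreMor
import Groth.Prelude.Def_Omega3
import Groth.Agent.Lib.UnivThickSch2_helper7
import Groth.Agent.Lib.UnivThickSch3_helper7

/-!
# Universal first order thickenings of schemes: existence — helper7

A formally unramified morphism of schemes `h : Z ⟶ X` has a universal first order thickening:
glue the affine-local ones along the (locally directed) cover of `Z` by the affine opens that map
into an affine open of `X`.
-/

set_option autoImplicit false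
universe u
open CategoryTheory CategoryTheory.Limits AlgebraicGeometry

namespace Groth.Agent.Lib.UnivThickSch4_helper7

open Groth.Agent.Lib.UnivThickSch1_helper7 Groth.Agent.Lib.UnivThickSch2_helper7
  Groth.Agent.Lib.UnivThickSch3_helper7

variable {Z X : Scheme.{u}} (h : Z ⟶ X)

/-- The affine opens of `Z` mapping into an affine open of `X`. -/
def Idx : Type u := {V : Z.affineOpens // ∃ U : X.affineOpens, V.1 ≤ h ⁻¹ᵁ U.1}

instance : Preorder (Idx h) := inferInstanceAs (Preorder (Subtype _))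

lemma exists_idx {O : Z.Opens} {z : Z} (hz : z ∈ O) :
    ∃ k : Idx h, z ∈ k.1.1 ∧ k.1.1 ≤ O := by
  obtain ⟨_, ⟨U, hU, rfl⟩, hzU, -⟩ :=
    X.isBasis_affineOpens.exists_subset_of_mem_open (Set.mem_univ (h z)) isOpen_univ
  obtain ⟨_, ⟨V, hV, rfl⟩, hzV, hVO⟩ := Z.isBasis_affineOpens.exists_subset_of_mem_open
    (show z ∈ ((O ⊓ h ⁻¹ᵁ U : Z.Opens) : Set Z) from ⟨hz, hzU⟩) (O ⊓ h ⁻¹ᵁ U).isOpen
  exact ⟨⟨⟨V, hV⟩, ⟨U, hU⟩, fun w hw => (hVO hw).2⟩, hzV, fun w hw => (hVO hw).1⟩

lemma isOpenCover_idx : TopologicalSpace.IsOpenCover (fun k : Idx h => k.1.1) := by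
  refine TopologicalSpace.IsOpenCover.mk (eq_top_iff.2 fun z hz => ?_)
  obtain ⟨k, hzk, -⟩ := exists_idx h (O := ⊤) (z := z) hz
  exact TopologicalSpace.Opens.mem_iSup.2 ⟨k, hzk⟩

/-- The cover of `Z` by the affine opens mapping into an affine open of `X`. -/
noncomputable def cover : Scheme.OpenCover.{u} Z :=
  Z.openCoverOfIsOpenCover (fun k : Idx h => k.1.1) (isOpenCover_idx h)

instance : Preorder (cover h).I₀ := inferInstanceAs (Preorder (Idx h))

noncomputable instance : (cover h).LocallyDirected :=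
  Scheme.Cover.LocallyDirected.ofIsBasisOpensRange
    (fun {i j} => by
      change i.1.1 ≤ j.1.1 ↔ (i.1.1.ι).opensRange ≤ (j.1.1.ι).opensRange
      rw [Scheme.Opens.opensRange_ι, Scheme.Opens.opensRange_ι])
    (by
      rw [TopologicalSpace.Opens.isBasis_iff_nbhd]
      intro O z hz
      obtain ⟨k, hzk, hkO⟩ := exists_idx h hz
      exact ⟨k.1.1, ⟨k, Scheme.Opens.opensRange_ι k.1.1⟩, hzk, hkO⟩)

variable [FormallyUnramified h]

theorem exists_local (k : Idx h) :
    ∃ (Z' : Scheme.{u}) (i : (k.1.1 : Scheme.{u}) ⟶ Z') (h' : Z' ⟶ X),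
      OmegaSh.IsUnivThickening (k.1.1.ι ≫ h) i h' := by
  obtain ⟨⟨V, hV⟩, ⟨U, hU⟩, hle⟩ := k
  have hφ := FormallyUnramified.formallyUnramified_appLE h hU hV hle
  obtain ⟨Z₀, i₀, h₀, hu₀⟩ := exists_isUnivThickening_Spec (h.appLE U V hle) hφ
  have hu₁ := isUnivThickening_comp_openImmersion hu₀ hU.fromSpec
  have hu₂ := isUnivThickening_iso_comp hu₁ hV.isoSpec.hom
  refine ⟨Z₀, hV.isoSpec.hom ≫ i₀, h₀ ≫ hU.fromSpec, ?_⟩
  have e : hV.isoSpec.hom ≫ Spec.map (h.appLE U V hle) ≫ hU.fromSpec = V.ι ≫ h := by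
    rw [hU.SpecMap_appLE_fromSpec h hV hle, hV.isoSpec_hom_fromSpec_assoc]
  rw [← e]
  exact hu₂

/-- A formally unramified morphism of schemes has a universal first order thickening. -/
theorem main : ∃ (Z' : Scheme.{u}) (i : Z ⟶ Z') (h' : Z' ⟶ X),
    OmegaSh.IsUnivThickening h i h' :=
  exists_isUnivThickening_of_locallyDirected h (cover h) (fun k => exists_local h k)

end Groth.Agent.Lib.UnivThickSch4_helper7
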