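import Mathlib

/-!
# Unramified coordinates (helper3)

For a finite type `A`-algebra `B` and a prime `q` of `B`, with
`r = dim κ(q) ⊗ Ω[B⁄A]`, there is an `A`-algebra map `A[x₁,…,x_r] → B`
making `B` unramified at `q` over the polynomial ring.
-/

open TensorProduct KaehlerDifferential

namespace Groth.Agent.Lib.UnramCoordsH3

universe u

theorem aux (A B : Type u) [CommRing A] [CommRing B] [Algebra A B] [Algebra.FiniteType A B]
    (P : Type u) [CommRing P] [Algebra A P] [Algebra P B] [IsScalarTower A P B]
    (q : Ideal B) [q.IsPrime] {ι : Type*}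
    (v : Module.Basis ι q.ResidueField (q.ResidueField ⊗[B] Ω[B⁄A])) (x : ι → P)
    (hx : ∀ i, v i = (1 : q.ResidueField) ⊗ₜ[B] D A B (algebraMap P B (x i))) :
    Algebra.IsUnramifiedAt P q := by
  haveI : Algebra.FiniteType P B := Algebra.FiniteType.of_restrictScalars_finiteType A P B
  have hmem : (⟨q, inferInstance⟩ : PrimeSpectrum B) ∈ Algebra.unramifiedLocus P B := by
    rw [Algebra.unramifiedLocus_eq_compl_support, Set.mem_compl_iff,
      Module.mem_support_iff_nontrivial_residueField_tensorProduct, not_nontrivial_iff_subsingleton]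
    let g : Ω[B⁄A] →ₗ[B] Ω[B⁄P] := KaehlerDifferential.map A P B B
    have hg : Function.Surjective g := KaehlerDifferential.map_surjective A P B
    let G := g.baseChange q.ResidueField
    have hG : Function.Surjective G := by
      have : (G : _ → _) = g.lTensor q.ResidueField := LinearMap.baseChange_eq_ltensor ..
      rw [this]; exact LinearMap.lTensor_surjective _ hg
    have hG0 : G = 0 := by
      apply v.ext
      intro i
      rw [hx i]
      simp only [G, g, LinearMap.baseChange_tmul, KaehlerDifferential.map_D, LinearMap.zero_apply]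
      have : D P B (algebraMap B B (algebraMap P B (x i))) = 0 := by
        show D P B (algebraMap P B (x i)) = 0
        exact Derivation.map_algebraMap _ _
      rw [this, tmul_zero]
    refine ⟨fun a b => ?_⟩
    obtain ⟨a', rfl⟩ := hG a
    obtain ⟨b', rfl⟩ := hG b
    rw [hG0]; rfl
  exact hmem

theorem main (A B : Type u) [CommRing A] [CommRing B] [Algebra A B] [Algebra.FiniteType A B]
    (q : Ideal B) [q.IsPrime] (r : ℕ)
    (hr : Module.finrank q.ResidueField (q.ResidueField ⊗[B] Ω[B⁄A]) = r) :
    ∃ φ : MvPolynomial (Fin r) A →ₐ[A] B,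
      letI := φ.toRingHom.toAlgebra
      Algebra.IsUnramifiedAt (MvPolynomial (Fin r) A) q := by
  classical
  let K := q.ResidueField
  let V := K ⊗[B] Ω[B⁄A]
  let s : Set V := TensorProduct.mk B K Ω[B⁄A] 1 '' Set.range (D A B)
  have hs : ⊤ ≤ Submodule.span K s := by
    rw [← Submodule.baseChange_span, KaehlerDifferential.span_range_derivation,
      Submodule.baseChange_top]
  let v₀ := Module.Basis.ofSpan hs
  haveI : Module.Finite K V := inferInstance
  haveI := Module.Finite.finite_basis v₀
  have hcard : Nat.card _ = r := (Module.finrank_eq_nat_card_basis v₀).symm.trans hr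
  let e := Finite.equivFinOfCardEq hcard
  let v := v₀.reindex e
  have hv : ∀ i, ∃ b : B, v i = (1 : K) ⊗ₜ[B] D A B b := by
    intro i
    have h1 : v i ∈ s := by
      apply Module.Basis.ofSpan_subset hs
      exact ⟨e.symm i, by simp [v, v₀]⟩
    obtain ⟨_, ⟨b, rfl⟩, hb⟩ := h1
    exact ⟨b, hb.symm⟩
  choose b hb using hv
  let φ : MvPolynomial (Fin r) A →ₐ[A] B := MvPolynomial.aeval b
  refine ⟨φ, ?_⟩
  letI := φ.toRingHom.toAlgebra
  haveI : IsScalarTower A (MvPolynomial (Fin r) A) B :=
    IsScalarTower.of_algebraMap_eq' φ.comp_algebraMap.symm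
  refine aux A B (MvPolynomial (Fin r) A) q v (fun i => MvPolynomial.X i) ?_
  intro i
  rw [hb i]
  congr 2
  show b i = φ (MvPolynomial.X i)
  simp [φ]

end Groth.Agent.Lib.UnramCoordsH3
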