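import Mathlib
import Groth.Agent.Lib.UnramDesc_helper4
import Groth.Agent.Lib.EtLoc4_helper4

/-!
# Unramified / étale ⟺ flat-locally closed / open immersion (helper4)
-/

open AlgebraicGeometry CategoryTheory CategoryTheory.Limits TensorProduct

universe u

namespace Groth.Agent.Lib.UnramLocH4

theorem main5063 {X Y : Scheme.{u}} (f : X ⟶ Y) [LocallyOfFinitePresentation f] :
    (FormallyUnramified f → ∃ (ι : Type u) (Y' : ι → Scheme.{u}) (g : ∀ a, Y' a ⟶ Y)
      (U : ∀ a, (pullback f (g a)).Opens),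
      (∀ a, Etale (g a)) ∧ (∀ x : X, ∃ a, x ∈ (pullback.fst f (g a)).base ''
        (U a : Set ↥(pullback f (g a)))) ∧
        ∀ a, IsClosedImmersion ((U a).ι ≫ pullback.snd f (g a))) ∧
    ((∃ (ι : Type u) (Y' : ι → Scheme.{u}) (g : ∀ a, Y' a ⟶ Y)
      (U : ∀ a, (pullback f (g a)).Opens),
      (∀ a, Flat (g a)) ∧ (∀ x : X, ∃ a, x ∈ (pullback.fst f (g a)).base ''
        (U a : Set ↥(pullback f (g a)))) ∧
        ∀ a, IsClosedImmersion ((U a).ι ≫ pullback.snd f (g a))) → FormallyUnramified f) := by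
  constructor
  · intro hf
    have key : ∀ x : X, ∃ (U : Scheme.{u}) (g : U ⟶ Y) (V : (pullback f g).Opens), Etale g ∧
        x ∈ (pullback.fst f g).base '' (V : Set ↥(pullback f g)) ∧
        IsClosedImmersion (V.ι ≫ pullback.snd f g) := by
      intro x
      have hfu : FormallyUnramified ((⊤ : X.Opens).ι ≫ f) :=
        MorphismProperty.comp_mem (W := @FormallyUnramified) _ _ inferInstance hf
      obtain ⟨U, g, u, hg, hgu, K, _, lab, V, hA, hB, hC⟩ :=
        EtLocH4.main9555 f (f.base x) (fun _ : Unit => x) (fun _ _ _ => rfl) (fun _ => rfl)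
          (fun _ => ⟨⊤, trivial, inferInstance, hfu⟩)
      obtain ⟨w, hw1, hw2⟩ := Scheme.Pullback.exists_preimage_pullback x u hgu.symm
      obtain ⟨k, -, hk⟩ := hC w () hw2 hw1
      exact ⟨U, g, V k, hg, ⟨w, hk, hw1⟩, (hA k).1⟩
    choose U g V h1 h2 h3 using key
    exact ⟨X, U, g, V, h1, fun x => ⟨x, h2 x⟩, h3⟩
  · rintro ⟨ι, Y', g, U, -, hcov, hcl⟩
    apply formallyUnramified_of_forall_stalk
    intro x
    obtain ⟨a, u, hu, rfl⟩ := hcov x
    have := hcl a
    exact stalk_unramified_descent f (g a) u (stalk_of_nhd _ u (U a) hu inferInstance)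

theorem main5064 {X Y : Scheme.{u}} (f : X ⟶ Y) [LocallyOfFinitePresentation f] :
    (Etale f → ∃ (ι : Type u) (Y' : ι → Scheme.{u}) (g : ∀ a, Y' a ⟶ Y)
      (U : ∀ a, (pullback f (g a)).Opens),
      (∀ a, Etale (g a)) ∧ (∀ x : X, ∃ a, x ∈ (pullback.fst f (g a)).base ''
        (U a : Set ↥(pullback f (g a)))) ∧
        ∀ a, IsOpenImmersion ((U a).ι ≫ pullback.snd f (g a))) ∧
    ((∃ (ι : Type u) (Y' : ι → Scheme.{u}) (g : ∀ a, Y' a ⟶ Y)
      (U : ∀ a, (pullback f (g a)).Opens),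
      (∀ a, Flat (g a)) ∧ (∀ x : X, ∃ a, x ∈ (pullback.fst f (g a)).base ''
        (U a : Set ↥(pullback f (g a)))) ∧
        ∀ a, IsOpenImmersion ((U a).ι ≫ pullback.snd f (g a))) → Etale f) := by
  constructor
  · intro hf
    have key : ∀ x : X, ∃ (U : Scheme.{u}) (g : U ⟶ Y) (V : (pullback f g).Opens), Etale g ∧
        x ∈ (pullback.fst f g).base '' (V : Set ↥(pullback f g)) ∧
        IsOpenImmersion (V.ι ≫ pullback.snd f g) := by
      intro x
      have hfu : Etale ((⊤ : X.Opens).ι ≫ f) := inferInstance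
      obtain ⟨U, g, u, hg, hgu, K, _, lab, V, hA, hB, hC⟩ :=
        EtLocH4.main9557 f (f.base x) (fun _ : Unit => x) (fun _ _ _ => rfl) (fun _ => rfl)
          (fun _ => ⟨⊤, trivial, hfu⟩)
      obtain ⟨w, hw1, hw2⟩ := Scheme.Pullback.exists_preimage_pullback x u hgu.symm
      obtain ⟨k, -, hk⟩ := hC w () hw2 hw1
      have := hA k
      exact ⟨U, g, V k, hg, ⟨w, hk, hw1⟩, inferInstance⟩
    choose U g V h1 h2 h3 using key
    exact ⟨X, U, g, V, h1, fun x => ⟨x, h2 x⟩, h3⟩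
  · rintro ⟨ι, Y', g, U, hflat, hcov, hop⟩
    have key : ∀ x : X, ∃ W : X.Opens, x ∈ W ∧ Etale (W.ι ≫ f) := by
      intro x
      obtain ⟨a, u, hu, rfl⟩ := hcov x
      have := hop a
      have := hflat a
      exact main2758 f (g a) u (Flat.stalkMap (g a) _) ⟨U a, hu, inferInstance⟩
    choose W hxW hW using key
    have hsup : ⨆ x, W x = ⊤ :=
      eq_top_iff.mpr fun x _ => TopologicalSpace.Opens.mem_iSup.mpr ⟨x, hxW x⟩
    apply IsZariskiLocalAtSource.of_openCover (X.openCoverOfIsOpenCover W hsup)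
    intro x
    exact hW x

end Groth.Agent.Lib.UnramLocH4
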