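import Mathlib

/-!
# Morphisms into unramified schemes agreeing at a point (helper7)
-/

set_option autoImplicit false
universe u
open CategoryTheory CategoryTheory.Limits AlgebraicGeometry

namespace Groth.Agent.Lib.UnramEq_helper7

theorem eq_on_nhd {X Y S : Scheme.{u}} (p : Y ⟶ S) [FormallyUnramified p] [LocallyOfFiniteType p]
    (f g : X ⟶ Y) (hfg : f ≫ p = g ≫ p) (x : X) (h1 : f x = g x)
    (h2 : f.residueFieldMap x = (Y.residueFieldCongr h1).hom ≫ g.residueFieldMap x) :
    ∃ U : X.Opens, x ∈ U ∧ U.ι ≫ f = U.ι ≫ g := by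
  have e : X.fromSpecResidueField x ≫ f = X.fromSpecResidueField x ≫ g := by
    rw [← Scheme.Hom.SpecMap_residueFieldMap_fromSpecResidueField,
      ← Scheme.Hom.SpecMap_residueFieldMap_fromSpecResidueField, h2, Spec.map_comp, Category.assoc,
      Scheme.residueFieldCongr_fromSpecResidueField]
  let d : X ⟶ pullback p p := pullback.lift f g hfg
  have hd1 : d ≫ pullback.fst p p = f := pullback.lift_fst _ _ _
  have hd2 : d ≫ pullback.snd p p = g := pullback.lift_snd _ _ _
  haveI : IsOpenImmersion (pullback.diagonal p) := inferInstance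
  let U : X.Opens := d ⁻¹ᵁ (pullback.diagonal p).opensRange
  have hxU : x ∈ U := by
    have e2 : X.fromSpecResidueField x ≫ d =
        (X.fromSpecResidueField x ≫ f) ≫ pullback.diagonal p := by
      apply pullback.hom_ext
      · rw [Category.assoc, hd1, Category.assoc, pullback.diagonal_fst, Category.comp_id]
      · rw [Category.assoc, hd2, Category.assoc, pullback.diagonal_snd, Category.comp_id, e]
    let pt : Spec (X.residueField x) := IsLocalRing.closedPoint (X.residueField x)
    have e3 : d x = pullback.diagonal p ((X.fromSpecResidueField x ≫ f) pt) := by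
      have := congrArg (fun k : Spec (X.residueField x) ⟶ pullback p p => k pt) e2
      simpa using this
    exact ⟨_, e3.symm⟩
  refine ⟨U, hxU, ?_⟩
  have hr : Set.range (U.ι ≫ d) ⊆ Set.range (pullback.diagonal p) := by
    rintro _ ⟨u, rfl⟩
    exact u.2
  have hl : IsOpenImmersion.lift (pullback.diagonal p) (U.ι ≫ d) hr ≫ pullback.diagonal p =
      U.ι ≫ d := IsOpenImmersion.lift_fac _ _ _
  have e3 := hl =≫ pullback.fst p p
  have e4 := hl =≫ pullback.snd p p
  rw [Category.assoc, pullback.diagonal_fst, Category.comp_id, Category.assoc, hd1] at e3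
  rw [Category.assoc, pullback.diagonal_snd, Category.comp_id, Category.assoc, hd2] at e4
  rw [← e3, ← e4]

end Groth.Agent.Lib.UnramEq_helper7
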