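import Mathlib

set_option autoImplicit false
universe u
open CategoryTheory CategoryTheory.Limits AlgebraicGeometry TopologicalSpace

namespace Groth.Agent.Lib.UnramEq

set_option backward.isDefEq.respectTransparency false in
/-- For `h : Y ⟶ S` with open-immersion diagonal and two `S`-morphisms `f g : X ⟶ Y`, there is an
open `U` of `X` ("the locus where `f = g`") on which `f` and `g` agree and through which every
morphism equalizing `f` and `g` factors (set-theoretically). If the diagonal is moreover a closed
immersion, `U` is also closed. -/
theorem exists_equalizer_open {X Y S : Scheme.{u}} (h : Y ⟶ S)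
    [IsOpenImmersion (pullback.diagonal h)] (f g : X ⟶ Y) (w : g ≫ h = f ≫ h) :
    ∃ U : X.Opens, U.ι ≫ f = U.ι ≫ g ∧
      (∀ {T : Scheme.{u}} (t : T ⟶ X), t ≫ f = t ≫ g → Set.range t ⊆ (U : Set X)) ∧
      (IsClosedImmersion (pullback.diagonal h) → IsClosed (U : Set X)) := by
  let l : X ⟶ pullback h h := pullback.lift f g w.symm
  let e : pullback l (pullback.diagonal h) ⟶ X := pullback.fst l (pullback.diagonal h)
  have hef : e ≫ f = pullback.snd l (pullback.diagonal h) := by
    have := pullback.condition (f := l) (g := pullback.diagonal h)
    have h1 := congr($this ≫ pullback.fst h h)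
    simpa [l, e] using h1
  have heg : e ≫ g = pullback.snd l (pullback.diagonal h) := by
    have := pullback.condition (f := l) (g := pullback.diagonal h)
    have h1 := congr($this ≫ pullback.snd h h)
    simpa [l, e] using h1
  refine ⟨e.opensRange, ?_, ?_, ?_⟩
  · rw [← cancel_epi (e.isoOpensRange).hom]
    simp only [Scheme.Hom.isoOpensRange_hom_ι_assoc]
    rw [hef, heg]
  · intro T t ht
    let k : T ⟶ pullback l (pullback.diagonal h) :=
      pullback.lift t (t ≫ f) (by
        apply pullback.hom_ext
        · simp [l]
        · simp [l, ht])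
    have hk : k ≫ e = t := pullback.lift_fst _ _ _
    rintro _ ⟨x, rfl⟩
    rw [← hk, Scheme.Hom.comp_apply]
    exact ⟨_, rfl⟩
  · intro hcl
    haveI : IsClosedImmersion e := MorphismProperty.pullback_fst _ _ hcl
    exact e.isClosedEmbedding.isClosed_range

end Groth.Agent.Lib.UnramEq
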