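import Mathlib

/-!
# Fibrewise criterion for formally unramified morphisms (helper9)

A finite type algebra all of whose fibres `κ(p) ⊗[R] S` are formally unramified over `κ(p)` is
formally unramified; the same for morphisms of schemes locally of finite type.
-/

set_option autoImplicit false
universe u
open CategoryTheory CategoryTheory.Limits AlgebraicGeometry TensorProduct

namespace Groth.Agent.Lib.UnramFibre

section ring

variable (R S : Type u) [CommRing R] [CommRing S] [Algebra R S]

/-- If `κ(p) ⊗[R] M = 0` for the prime `p = q ∩ R`, then `κ(q) ⊗[S] M = 0`. -/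
lemma subsingleton_residueField_tensor (M : Type u) [AddCommGroup M] [Module R M] [Module S M]
    [IsScalarTower R S M] (p : Ideal R) [p.IsPrime] (q : Ideal S) [q.IsPrime] [q.LiesOver p]
    (h : Subsingleton (p.ResidueField ⊗[R] M)) : Subsingleton (q.ResidueField ⊗[S] M) := by
  let ψ : p.ResidueField →+* q.ResidueField :=
    Ideal.ResidueField.map p q (algebraMap R S) (Ideal.LiesOver.over (p := p) (P := q))
  let φ : p.ResidueField ⊗[R] M →ₗ[R] q.ResidueField ⊗[S] M :=
    TensorProduct.lift (LinearMap.mk₂ R
      (fun a m => (ψ a) ⊗ₜ[S] m)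
      (fun a b m => by rw [map_add, TensorProduct.add_tmul])
      (fun r a m => by
        rw [Algebra.smul_def, map_mul, Ideal.ResidueField.map_algebraMap,
          TensorProduct.smul_tmul', Algebra.smul_def,
          IsScalarTower.algebraMap_apply R S q.ResidueField])
      (fun a m n => by rw [TensorProduct.tmul_add])
      (fun r a m => by rw [TensorProduct.tmul_smul]))
  have h1 : ∀ m : M, (1 : q.ResidueField) ⊗ₜ[S] m = 0 := by
    intro m
    have : φ ((1 : p.ResidueField) ⊗ₜ[R] m) = (1 : q.ResidueField) ⊗ₜ[S] m := by
      simp [φ]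
    rw [← this, Subsingleton.elim ((1 : p.ResidueField) ⊗ₜ[R] m) 0, map_zero]
  refine ⟨fun x y => ?_⟩
  suffices ∀ z : q.ResidueField ⊗[S] M, z = 0 by rw [this x, this y]
  intro z
  induction z with
  | zero => rfl
  | add a b ha hb => rw [ha, hb, add_zero]
  | tmul a m =>
    have : a ⊗ₜ[S] m = a • ((1 : q.ResidueField) ⊗ₜ[S] m) := by
      rw [TensorProduct.smul_tmul', smul_eq_mul, mul_one]
    rw [this, h1, smul_zero]

attribute [local instance] Algebra.TensorProduct.rightAlgebra in
/-- **Fibrewise criterion**: a finite type algebra with formally unramified fibres is formally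
unramified. -/
theorem formallyUnramified_of_fiber [Algebra.FiniteType R S]
    (h : ∀ (p : Ideal R) [p.IsPrime], Algebra.FormallyUnramified p.ResidueField (p.Fiber S)) :
    Algebra.FormallyUnramified R S := by
  rw [Algebra.formallyUnramified_iff, ← Module.support_eq_empty_iff (R := S)]
  rw [Set.eq_empty_iff_forall_notMem]
  intro q
  rw [Module.mem_support_iff_nontrivial_residueField_tensorProduct,
    not_nontrivial_iff_subsingleton]
  let p : Ideal R := q.asIdeal.under R
  haveI : q.asIdeal.LiesOver p := ⟨rfl⟩
  refine subsingleton_residueField_tensor R S Ω[S⁄R] p q.asIdeal ?_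
  haveI := h p
  exact (KaehlerDifferential.tensorKaehlerEquivBase R p.ResidueField S
    (p.Fiber S)).toEquiv.subsingleton

end ring

section scheme

variable {X Y : Scheme.{u}} (f : X ⟶ Y)

set_option backward.isDefEq.respectTransparency false in
/-- A morphism locally of finite type with formally unramified fibres is formally unramified. -/
theorem formallyUnramified_of_fiberToSpecResidueField [LocallyOfFiniteType f]
    (h : ∀ y, FormallyUnramified (f.fiberToSpecResidueField y)) :
    FormallyUnramified f := by
  wlog h : ∃ R, Y = Spec R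
  · rw [IsZariskiLocalAtTarget.iff_of_openCover (P := @FormallyUnramified) Y.affineCover]
    intro i
    dsimp [Scheme.Cover.pullbackHom]
    refine this _ (fun y ↦ ?_) ⟨_, rfl⟩
    apply MorphismProperty.of_isPullback
    · exact isPullback_fiberToSpecResidueField_of_isPullback (IsPullback.of_hasPullback _ _) _
    · infer_instance
  obtain ⟨R, rfl⟩ := h
  wlog h : ∃ S, X = Spec S generalizing f X
  · rw [IsZariskiLocalAtSource.iff_of_openCover (P := @FormallyUnramified) X.affineCover]
    intro i
    have _ (y) : FormallyUnramified (pullback.snd f ((Spec R).fromSpecResidueField y)) :=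
      inferInstanceAs <| FormallyUnramified (f.fiberToSpecResidueField y)
    refine this _ (fun y ↦ ?_) ⟨_, rfl⟩
    rw [Scheme.Hom.fiberToSpecResidueField, ← pullbackRightPullbackFstIso_inv_snd_snd]
    refine MorphismProperty.comp_mem (W := @FormallyUnramified) _ _ ?_
      (MorphismProperty.comp_mem _ _ _ ?_ inferInstance)
    · exact IsZariskiLocalAtSource.of_isOpenImmersion _
    · exact IsZariskiLocalAtSource.of_isOpenImmersion _
  obtain ⟨S, rfl⟩ := h
  obtain ⟨φ, rfl⟩ := Spec.map_surjective f
  simp only [HasRingHomProperty.Spec_iff] at *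
  algebraize [φ.hom]
  rw [RingHom.FormallyUnramified]
  refine formallyUnramified_of_fiber R S fun p hp ↦ ?_
  rw [← RingHom.formallyUnramified_algebraMap]
  rw [← CommRingCat.hom_ofHom (algebraMap p.ResidueField (p.Fiber ↑S)),
    ← HasRingHomProperty.Spec_iff (P := @FormallyUnramified),
    ← MorphismProperty.arrow_mk_iso_iff (P := @FormallyUnramified)
    (Spec.fiberToSpecResidueFieldIso R S ⟨p, hp⟩)]
  exact h ⟨p, hp⟩

end scheme

end Groth.Agent.Lib.UnramFibre
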