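import Mathlib

/-!
# Unramified schemes over a field (helper9)

A scheme locally of finite type and formally unramified over a field is a disjoint union of spectra
of finite separable field extensions, and conversely.
-/

set_option autoImplicit false
universe u
open CategoryTheory CategoryTheory.Limits AlgebraicGeometry TopologicalSpace

namespace Groth.Agent.Lib.UnramField

variable {k : Type u} [Field k] {X : Scheme.{u}} (f : X ⟶ Spec (CommRingCat.of k))

/-- The ring map `k → Γ(X, U)` induced by `f` on an affine open. -/
noncomputable def ringMap {U : X.Opens} (hU : IsAffineOpen U) : CommRingCat.of k ⟶ Γ(X, U) :=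
  Spec.preimage (hU.fromSpec ≫ f)

lemma SpecMap_ringMap {U : X.Opens} (hU : IsAffineOpen U) :
    Spec.map (ringMap f hU) = hU.fromSpec ≫ f := Spec.map_preimage _

lemma ringMap_formallyUnramified [FormallyUnramified f] {U : X.Opens} (hU : IsAffineOpen U) :
    (ringMap f hU).hom.FormallyUnramified := by
  have h1 : FormallyUnramified (Spec.map (ringMap f hU)) := by
    rw [SpecMap_ringMap]
    exact IsZariskiLocalAtSource.comp (P := @FormallyUnramified) inferInstance _
  exact (HasRingHomProperty.Spec_iff (P := @FormallyUnramified)).mp h1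

lemma ringMap_finiteType [LocallyOfFiniteType f] {U : X.Opens} (hU : IsAffineOpen U) :
    (ringMap f hU).hom.FiniteType := by
  have h1 : LocallyOfFiniteType (Spec.map (ringMap f hU)) := by
    rw [SpecMap_ringMap]; infer_instance
  exact (HasRingHomProperty.Spec_iff (P := @LocallyOfFiniteType)).mp h1

section ring

variable (A : Type u) [CommRing A] [Algebra k A] [Algebra.FormallyUnramified k A]
  [Algebra.FiniteType k A]

include k in
lemma finite_of_unramified : Module.Finite k A :=
  Algebra.FormallyUnramified.finite_of_free k A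

include k in
lemma isArtinianRing_of_unramified : IsArtinianRing A :=
  haveI := finite_of_unramified (k := k) A
  .of_finite k A

include k in
lemma isReduced_of_unramified : IsReduced A :=
  Algebra.FormallyUnramified.isReduced_of_field k A

end ring

section discrete

variable [FormallyUnramified f] [LocallyOfFiniteType f]

include f in
lemma isOpen_singleton (x : X) : IsOpen ({x} : Set X) := by
  obtain ⟨_, ⟨U, hU, rfl⟩, hxU, -⟩ :=
    X.isBasis_affineOpens.exists_subset_of_mem_open (a := x) (Set.mem_univ x) isOpen_univ
  replace hU : IsAffineOpen U := hU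
  have h1 := ringMap_formallyUnramified f hU
  have h2 := ringMap_finiteType f hU
  algebraize [(ringMap f hU).hom]
  haveI := isArtinianRing_of_unramified (k := k) Γ(X, U)
  have : DiscreteTopology (Spec Γ(X, U)) := inferInstanceAs (DiscreteTopology (PrimeSpectrum _))
  have : DiscreteTopology U := (Scheme.homeoOfIso hU.isoSpec).isEmbedding.discreteTopology
  have h3 : IsOpen ({⟨x, hxU⟩} : Set U) := isOpen_discrete _
  have := U.isOpen.isOpenEmbedding_subtypeVal.isOpenMap _ h3
  convert this using 1
  exact (Set.image_singleton (f := Subtype.val) (a := (⟨x, hxU⟩ : U))).symm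

theorem exists_iso_coprod :
    ∃ (ι : Type u) (K : ι → Type u) (_ : ∀ i, Field (K i)) (_ : ∀ i, Algebra k (K i)),
      (∀ i, FiniteDimensional k (K i) ∧ Algebra.IsSeparable k (K i)) ∧
      ∃ e : X ≅ ∐ (fun i => Spec (CommRingCat.of (K i))),
        e.hom ≫ Sigma.desc (fun i => Spec.map (CommRingCat.ofHom (algebraMap k (K i)))) = f := by
  classical
  let Ux : X → X.Opens := fun x => ⟨{x}, isOpen_singleton f x⟩
  have hUx : ∀ x, IsAffineOpen (Ux x) :=
    fun x => IsAffineOpen.of_subsingleton Set.subsingleton_singleton
  letI alg : ∀ x, Algebra k Γ(X, Ux x) := fun x => (ringMap f (hUx x)).hom.toAlgebra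
  haveI hunr : ∀ x, Algebra.FormallyUnramified k Γ(X, Ux x) :=
    fun x => ringMap_formallyUnramified f (hUx x)
  haveI hft : ∀ x, Algebra.FiniteType k Γ(X, Ux x) := fun x => ringMap_finiteType f (hUx x)
  haveI hfin : ∀ x, Module.Finite k Γ(X, Ux x) := fun x => finite_of_unramified (k := k) _
  have hfield : ∀ x, IsField Γ(X, Ux x) := by
    intro x
    haveI := isReduced_of_unramified (k := k) Γ(X, Ux x)
    haveI : Subsingleton (Ux x) := (Set.subsingleton_singleton (a := x)).coe_sort
    haveI : Subsingleton (Spec Γ(X, Ux x)) :=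
      (Scheme.homeoOfIso (hUx x).isoSpec).symm.injective.subsingleton
    haveI : Subsingleton (PrimeSpectrum Γ(X, Ux x)) := ‹Subsingleton (Spec Γ(X, Ux x))›
    haveI : Nonempty (PrimeSpectrum Γ(X, Ux x)) :=
      ⟨Scheme.homeoOfIso (hUx x).isoSpec ⟨x, rfl⟩⟩
    haveI : Nontrivial Γ(X, Ux x) := PrimeSpectrum.nonempty_iff_nontrivial.mp inferInstance
    exact PrimeSpectrum.subsingleton_iff_isField_of_isReduced.mp inferInstance
  haveI hloc : ∀ x, IsLocalRing Γ(X, Ux x) := fun x => by
    letI := (hfield x).toField
    infer_instance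
  have hres : ∀ x, Function.Bijective (IsLocalRing.residue Γ(X, Ux x)) := by
    intro x
    refine ⟨?_, IsLocalRing.residue_surjective⟩
    rw [RingHom.injective_iff_ker_eq_bot, IsLocalRing.ker_residue]
    exact IsLocalRing.isField_iff_maximalIdeal_eq.mp (hfield x)
  let K : X → Type u := fun x => IsLocalRing.ResidueField Γ(X, Ux x)
  let fx : ∀ x : X, Spec (CommRingCat.of (K x)) ⟶ X := fun x =>
    Spec.map (CommRingCat.ofHom (IsLocalRing.residue Γ(X, Ux x))) ≫ (hUx x).fromSpec
  haveI hiso : ∀ x, IsIso (Spec.map (CommRingCat.ofHom (IsLocalRing.residue Γ(X, Ux x)))) := by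
    intro x
    rw [isIso_SpecMap_iff]
    exact hres x
  haveI : ∀ x, IsOpenImmersion (fx x) := fun x => by dsimp only [fx]; infer_instance
  have hrange : ∀ x, (fx x).opensRange = Ux x := by
    intro x
    dsimp only [fx]
    rw [Scheme.Hom.opensRange_comp_of_isIso, (hUx x).opensRange_fromSpec]
  have hcov : ⨆ x, (fx x).opensRange = ⊤ := by
    rw [eq_top_iff]
    intro x _
    rw [Opens.mem_iSup]
    exact ⟨x, by rw [hrange x]; exact rfl⟩
  have hdisj : Pairwise (Function.onFun Disjoint (fun x => (fx x).opensRange)) := by
    intro x y hxy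
    show Disjoint (fx x).opensRange (fx y).opensRange
    rw [hrange, hrange, disjoint_iff]
    ext z
    simp only [Opens.coe_inf, Opens.coe_bot, Set.mem_inter_iff, Set.mem_empty_iff_false,
      iff_false, not_and]
    rintro (rfl : z = x) (h : z = y)
    exact hxy h
  obtain ⟨hc⟩ := nonempty_isColimit_cofanMk_of fx hcov hdisj
  refine ⟨X, K, fun x => inferInstance, fun x => inferInstance, fun x => ⟨?_, ?_⟩, ?_⟩
  · exact Module.Finite.of_surjective
      (IsScalarTower.toAlgHom k Γ(X, Ux x) (K x)).toLinearMap IsLocalRing.residue_surjective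
  · haveI : Module.Finite k (K x) := Module.Finite.of_surjective
      (IsScalarTower.toAlgHom k Γ(X, Ux x) (K x)).toLinearMap IsLocalRing.residue_surjective
    haveI : Algebra.FormallyUnramified k (K x) :=
      Algebra.FormallyUnramified.of_surjective (IsScalarTower.toAlgHom k Γ(X, Ux x) (K x))
        IsLocalRing.residue_surjective
    exact Algebra.FormallyUnramified.isSeparable k (K x)
  · let e : X ≅ ∐ (fun x => Spec (CommRingCat.of (K x))) :=
      hc.coconePointUniqueUpToIso (coproductIsCoproduct _)
    refine ⟨e, Cofan.IsColimit.hom_ext hc _ _ fun x => ?_⟩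
    have h1 : (Cofan.mk X fx).inj x ≫ e.hom =
        Sigma.ι (fun x => Spec (CommRingCat.of (K x))) x :=
      hc.comp_coconePointUniqueUpToIso_hom (coproductIsCoproduct _) ⟨x⟩
    rw [← Category.assoc, h1, Sigma.ι_desc]
    show _ = fx x ≫ f
    dsimp only [fx]
    rw [Category.assoc, ← SpecMap_ringMap, ← Spec.map_comp]
    rfl

end discrete

theorem unramified_of_iso_coprod {ι : Type u} (K : ι → Type u) [∀ i, Field (K i)]
    [∀ i, Algebra k (K i)]
    (hK : ∀ i, FiniteDimensional k (K i) ∧ Algebra.IsSeparable k (K i))
    (e : X ≅ ∐ (fun i => Spec (CommRingCat.of (K i))))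
    (he : e.hom ≫ Sigma.desc (fun i => Spec.map (CommRingCat.ofHom (algebraMap k (K i)))) = f) :
    FormallyUnramified f ∧ LocallyOfFiniteType f := by
  subst he
  have h1 : ∀ i, FormallyUnramified (Spec.map (CommRingCat.ofHom (algebraMap k (K i)))) := by
    intro i
    rw [HasRingHomProperty.Spec_iff (P := @FormallyUnramified)]
    haveI := (hK i).2
    exact RingHom.formallyUnramified_algebraMap.mpr
      (Algebra.FormallyUnramified.of_isSeparable k (K i))
  have h2 : ∀ i, LocallyOfFiniteType (Spec.map (CommRingCat.ofHom (algebraMap k (K i)))) := by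
    intro i
    rw [HasRingHomProperty.Spec_iff (P := @LocallyOfFiniteType)]
    haveI := (hK i).1
    exact RingHom.finiteType_algebraMap.mpr inferInstance
  constructor
  · rw [MorphismProperty.cancel_left_of_respectsIso (P := @FormallyUnramified)]
    refine IsZariskiLocalAtSource.of_openCover (P := @FormallyUnramified)
      (sigmaOpenCover (fun i => Spec (CommRingCat.of (K i)))) fun i => ?_
    change FormallyUnramified (Sigma.ι (fun i => Spec (CommRingCat.of (K i))) i ≫
      Sigma.desc (fun i => Spec.map (CommRingCat.ofHom (algebraMap k (K i)))))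
    rw [Sigma.ι_desc]
    exact h1 i
  · rw [MorphismProperty.cancel_left_of_respectsIso (P := @LocallyOfFiniteType)]
    refine IsZariskiLocalAtSource.of_openCover (P := @LocallyOfFiniteType)
      (sigmaOpenCover (fun i => Spec (CommRingCat.of (K i)))) fun i => ?_
    change LocallyOfFiniteType (Sigma.ι (fun i => Spec (CommRingCat.of (K i))) i ≫
      Sigma.desc (fun i => Spec.map (CommRingCat.ofHom (algebraMap k (K i)))))
    rw [Sigma.ι_desc]
    exact h2 i

end Groth.Agent.Lib.UnramField
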