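import Mathlib
import Groth.Agent.Lib.UnramField_helper9
import Groth.Agent.Lib.UnramFibre_helper9

/-!
# Unramified morphisms and geometric fibres (helper9)

A morphism locally of finite type is formally unramified iff all its geometric fibres are reduced
and discrete.
-/

set_option autoImplicit false
universe u
open CategoryTheory CategoryTheory.Limits AlgebraicGeometry TensorProduct

namespace Groth.Agent.Lib.UnramGeomFibre

attribute [local instance] IsArtinianRing.fieldOfSubtypeIsMaximal in
/-- A reduced finite type algebra with discrete spectrum over a perfect field is formally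
unramified. -/
theorem formallyUnramified_of_isReduced_of_discrete (K B : Type u) [Field K] [PerfectField K]
    [CommRing B] [Algebra K B] [Algebra.FiniteType K B] [IsReduced B]
    [DiscreteTopology (PrimeSpectrum B)] : Algebra.FormallyUnramified K B := by
  haveI : IsNoetherianRing B := Algebra.FiniteType.isNoetherianRing K B
  obtain ⟨hfin, hdim⟩ := PrimeSpectrum.discreteTopology_iff_finite_and_krullDimLE_zero.mp
    ‹DiscreteTopology (PrimeSpectrum B)›
  haveI : IsArtinianRing B := isArtinianRing_iff_krullDimLE_zero.mpr hdim
  have h1 : ∀ I : MaximalSpectrum B, Algebra.FormallyUnramified K (B ⧸ I.asIdeal) := by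
    intro I
    haveI : Module.Finite K (B ⧸ I.asIdeal) := finite_of_finite_type_of_isJacobsonRing K _
    haveI : Algebra.IsAlgebraic K (B ⧸ I.asIdeal) := Algebra.IsAlgebraic.of_finite K _
    exact Algebra.FormallyUnramified.of_isSeparable K (B ⧸ I.asIdeal)
  have h2 : Algebra.FormallyUnramified K (∀ I : MaximalSpectrum B, B ⧸ I.asIdeal) :=
    (Algebra.FormallyUnramified.pi_iff _).mpr h1
  exact .of_equiv ((IsArtinianRing.equivPi B).restrictScalars K).symm

variable {K : Type u} [Field K] {Z : Scheme.{u}} (g : Z ⟶ Spec (CommRingCat.of K))

/-- A reduced discrete scheme locally of finite type over a perfect field is unramified. -/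
theorem formallyUnramified_of_isReduced_of_discrete_scheme [PerfectField K]
    [LocallyOfFiniteType g] [IsReduced Z] [DiscreteTopology Z] : FormallyUnramified g := by
  rw [IsZariskiLocalAtSource.iff_of_openCover (P := @FormallyUnramified)
    Z.affineOpenCover.openCover]
  intro i
  change FormallyUnramified (Z.affineOpenCover.f i ≫ g)
  obtain ⟨φ, hφ⟩ := Spec.map_surjective (Z.affineOpenCover.f i ≫ g)
  rw [← hφ, HasRingHomProperty.Spec_iff (P := @FormallyUnramified)]
  have hft : φ.hom.FiniteType := by
    rw [← HasRingHomProperty.Spec_iff (P := @LocallyOfFiniteType), hφ]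
    infer_instance
  algebraize [φ.hom]
  haveI : IsReduced (Spec (Z.affineOpenCover.X i)) :=
    isReduced_of_isOpenImmersion (Z.affineOpenCover.f i)
  haveI : _root_.IsReduced (Z.affineOpenCover.X i) := (affine_isReduced_iff _).mp inferInstance
  haveI : DiscreteTopology (PrimeSpectrum (Z.affineOpenCover.X i)) :=
    (Z.affineOpenCover.f i).isEmbedding.discreteTopology
  exact formallyUnramified_of_isReduced_of_discrete K _

omit g in
/-- A morphism locally of finite type is formally unramified if and only if all its geometric
fibres are reduced and discrete. -/
theorem formallyUnramified_iff_geometricFibres {X S : Scheme.{u}} (f : X ⟶ S)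
    [LocallyOfFiniteType f] :
    FormallyUnramified f ↔
      ∀ (K : Type u) [Field K] [IsAlgClosed K] (s : Spec (CommRingCat.of K) ⟶ S),
        IsReduced (pullback f s) ∧ DiscreteTopology ↥(pullback f s) := by
  constructor
  · intro hf K _ _ s
    haveI : FormallyUnramified (pullback.snd f s) := MorphismProperty.pullback_snd _ _ hf
    constructor
    · haveI : ∀ i, IsReduced ((pullback f s).affineOpenCover.openCover.X i) := by
        intro i
        change IsReduced (Spec ((pullback f s).affineOpenCover.X i))
        obtain ⟨φ, hφ⟩ := Spec.map_surjective
          ((pullback f s).affineOpenCover.f i ≫ pullback.snd f s)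
        have h1 : φ.hom.FormallyUnramified := by
          rw [← HasRingHomProperty.Spec_iff (P := @FormallyUnramified), hφ]
          exact IsZariskiLocalAtSource.comp (P := @FormallyUnramified) inferInstance _
        have h2 : φ.hom.FiniteType := by
          rw [← HasRingHomProperty.Spec_iff (P := @LocallyOfFiniteType), hφ]
          infer_instance
        algebraize [φ.hom]
        haveI := Groth.Agent.Lib.UnramField.isReduced_of_unramified (k := K)
          ((pullback f s).affineOpenCover.X i)
        infer_instance
      exact IsReduced.of_openCover _ (pullback f s).affineOpenCover.openCover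
    · rw [discreteTopology_iff_isOpen_singleton]
      exact fun x => Groth.Agent.Lib.UnramField.isOpen_singleton (pullback.snd f s) x
  · intro H
    refine Groth.Agent.Lib.UnramFibre.formallyUnramified_of_fiberToSpecResidueField f fun y => ?_
    let K := AlgebraicClosure (S.residueField y)
    let c : Spec (CommRingCat.of K) ⟶ Spec (S.residueField y) :=
      Spec.map (CommRingCat.ofHom (algebraMap (S.residueField y) K))
    obtain ⟨hred, hdisc⟩ := H K (c ≫ S.fromSpecResidueField y)
    have h1 : FormallyUnramified (pullback.snd f (c ≫ S.fromSpecResidueField y)) :=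
      formallyUnramified_of_isReduced_of_discrete_scheme _
    have h2 : FormallyUnramified (pullback.snd (f.fiberToSpecResidueField y) c) := by
      have := pullbackLeftPullbackSndIso_hom_snd f (S.fromSpecResidueField y) c
      change FormallyUnramified (pullback.snd (pullback.snd f (S.fromSpecResidueField y)) c)
      rw [← this]
      exact (MorphismProperty.cancel_left_of_respectsIso (P := @FormallyUnramified) _ _).mpr h1
    have hdesc : MorphismProperty.DescendsAlong @FormallyUnramified
        (@Surjective ⊓ @Flat ⊓ @QuasiCompact : MorphismProperty Scheme.{u}) :=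
      HasRingHomProperty.descendsAlong_flat
        RingHom.FormallyUnramified.codescendsAlong_faithfullyFlat
    have hflat : Flat c := by
      rw [HasRingHomProperty.Spec_iff (P := @Flat)]
      exact RingHom.flat_algebraMap_iff.mpr inferInstance
    have hsurj : Surjective c := by
      refine ⟨fun x => ⟨(⟨⊥, Ideal.isPrime_bot⟩ : PrimeSpectrum K), ?_⟩⟩
      haveI : Subsingleton (PrimeSpectrum (S.residueField y)) := inferInstance
      exact Subsingleton.elim (α := PrimeSpectrum (S.residueField y)) _ _
    exact MorphismProperty.of_pullback_snd_of_descendsAlong (P := @FormallyUnramified)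
      (Q := (@Surjective ⊓ @Flat ⊓ @QuasiCompact : MorphismProperty Scheme.{u}))
      ⟨⟨hsurj, hflat⟩, inferInstance⟩ h2

end Groth.Agent.Lib.UnramGeomFibre
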