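import Mathlib

/-!
# Descent of (formally) unramified algebras to finite type `ℤ`-algebras
-/

namespace Groth.Agent.Lib.UnramIntModelH3

universe u

open MvPolynomial TensorProduct

section Jac

variable {R S : Type*} [CommRing R] [CommRing S] [Algebra R S] {ι : Type*} [DecidableEq ι]

/-- Jacobian criterion: from formally unramified to Jacobian data. -/
theorem jac_of_formallyUnramified (P : Algebra.Generators R S ι) [Algebra.FormallyUnramified R S]
    (i : ι) : ∃ g : MvPolynomial ι R, aeval P.val g = 0 ∧
      ∀ l, aeval P.val (pderiv l g) = if i = l then 1 else 0 := by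
  classical
  have hex := P.toExtension.exact_cotangentComplex_toKaehler
  have h0 : P.toExtension.toKaehler (P.cotangentSpaceBasis i) = 0 := Subsingleton.elim _ _
  obtain ⟨c, hc⟩ := (hex _).mp h0
  obtain ⟨g, rfl⟩ := Algebra.Extension.Cotangent.mk_surjective c
  obtain ⟨g', hg'⟩ : ∃ g' : MvPolynomial ι R, g' = g.1 := ⟨g.1, rfl⟩
  refine ⟨g', ?_, fun l => ?_⟩
  · have := g.2
    rw [← P.algebraMap_apply, hg']
    exact this
  · have h1 : P.cotangentSpaceBasis.repr (P.toExtension.cotangentComplex
        (Algebra.Extension.Cotangent.mk g)) l = P.cotangentSpaceBasis.repr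
        (P.cotangentSpaceBasis i) l := by rw [hc]
    rw [Algebra.Extension.cotangentComplex_mk, Module.Basis.repr_self,
      Finsupp.single_apply] at h1
    rw [← h1, hg']
    exact (P.cotangentSpaceBasis_repr_one_tmul g.1 l).symm

/-- Jacobian criterion: from Jacobian data to formally unramified. -/
theorem formallyUnramified_of_jac (P : Algebra.Generators R S ι)
    (h : ∀ i, ∃ g : MvPolynomial ι R, aeval P.val g = 0 ∧
      ∀ l, aeval P.val (pderiv l g) = if i = l then 1 else 0) :
    Algebra.FormallyUnramified R S := by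
  classical
  constructor
  have hex := P.toExtension.exact_cotangentComplex_toKaehler
  have hzero : P.toExtension.toKaehler = 0 := by
    apply P.cotangentSpaceBasis.ext
    intro i
    obtain ⟨g, hg0, hg⟩ := h i
    have hgk : g ∈ P.ker := by
      show algebraMap P.Ring S g = 0
      rw [P.algebraMap_apply]; exact hg0
    rw [LinearMap.zero_apply]
    apply (hex _).mpr
    refine ⟨Algebra.Extension.Cotangent.mk ⟨g, hgk⟩, ?_⟩
    rw [Algebra.Extension.cotangentComplex_mk]
    apply P.cotangentSpaceBasis.repr.injective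
    ext l
    rw [Module.Basis.repr_self, Finsupp.single_apply]
    rw [← hg l]
    exact P.cotangentSpaceBasis_repr_one_tmul g l
  refine ⟨fun a b => ?_⟩
  obtain ⟨a', rfl⟩ := P.toExtension.toKaehler_surjective a
  obtain ⟨b', rfl⟩ := P.toExtension.toKaehler_surjective b
  rw [hzero]; rfl

end Jac

section Descent

/-- Base change of a quotient of a polynomial ring. -/
noncomputable def tensorQuotEquiv (R₀ : Type*) [CommRing R₀] (R : Type*) [CommRing R] [Algebra R₀ R]
    {σ : Type*} (I : Ideal (MvPolynomial σ R₀)) :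
    R ⊗[R₀] (MvPolynomial σ R₀ ⧸ I) ≃ₐ[R]
      MvPolynomial σ R ⧸ I.map (MvPolynomial.map (algebraMap R₀ R)) :=
  (Algebra.TensorProduct.tensorQuotientEquiv (R := R₀) R (MvPolynomial σ R₀) R I).trans
    (Ideal.quotientEquivAlg _ _ (MvPolynomial.algebraTensorAlgEquiv R₀ R) (by
      have key : ∀ p : MvPolynomial σ R₀, MvPolynomial.map (algebraMap R₀ R) p =
          algebraTensorAlgEquiv R₀ R (Algebra.TensorProduct.includeRight p) := by
        intro p
        simp [MvPolynomial.algebraTensorAlgEquiv_tmul]
      apply le_antisymm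
      · rw [Ideal.map_le_iff_le_comap]
        intro p hp
        rw [Ideal.mem_comap, key]
        exact Ideal.mem_map_of_mem _ (Ideal.mem_map_of_mem _ hp)
      · rw [Ideal.map_le_iff_le_comap, Ideal.map_le_iff_le_comap]
        intro p hp
        rw [Ideal.mem_comap, Ideal.mem_comap]
        have := Ideal.mem_map_of_mem (MvPolynomial.map (algebraMap R₀ R)) hp
        rw [key] at this
        exact this))

variable {R : Type u} [CommRing R] {n : ℕ}

theorem main {S : Type u} [CommRing S] [Algebra R S] (f : MvPolynomial (Fin n) R →ₐ[R] S)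
    (hf : Function.Surjective f) [Algebra.FormallyUnramified R S]
    (G₀ : Finset (MvPolynomial (Fin n) R)) (hG₀ : ∀ g ∈ G₀, f g = 0) :
    ∃ (R₀ : Subalgebra ℤ R) (I : Ideal (MvPolynomial (Fin n) R₀)), Algebra.FiniteType ℤ R₀ ∧ I.FG ∧
      Algebra.FormallyUnramified R₀ (MvPolynomial (Fin n) R₀ ⧸ I) ∧
      I.map (MvPolynomial.map (algebraMap R₀ R)) ≤ RingHom.ker f ∧
      Ideal.span (G₀ : Set (MvPolynomial (Fin n) R)) ≤
        I.map (MvPolynomial.map (algebraMap R₀ R)) := by
  classical
  let P := Algebra.Generators.ofAlgHom f hf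
  have hP : ∀ p, aeval P.val p = f p := by
    intro p
    have : aeval P.val = f := by
      apply MvPolynomial.algHom_ext
      intro i
      rw [aeval_X]; rfl
    rw [this]
  choose g hg0 hg using fun i => jac_of_formallyUnramified P i
  let F : Finset (MvPolynomial (Fin n) R) := G₀ ∪ Finset.univ.image g ∪
    (Finset.univ : Finset (Fin n × Fin n)).image
      (fun il => pderiv il.2 (g il.1) - if il.1 = il.2 then 1 else 0)
  have hgF : ∀ i, g i ∈ F := fun i =>
    Finset.mem_union_left _ (Finset.mem_union_right _ (Finset.mem_image_of_mem g (Finset.mem_univ i)))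
  have hdF : ∀ i l, pderiv l (g i) - (if i = l then 1 else 0) ∈ F := fun i l =>
    Finset.mem_union_right _ (Finset.mem_image.mpr ⟨(i, l), Finset.mem_univ _, rfl⟩)
  have hG₀F : ∀ p ∈ G₀, p ∈ F := fun p hp =>
    Finset.mem_union_left _ (Finset.mem_union_left _ hp)
  have hF : ∀ p ∈ F, f p = 0 := by
    intro p hp
    rcases Finset.mem_union.mp hp with hp | hp
    · rcases Finset.mem_union.mp hp with hp | hp
      · exact hG₀ p hp
      · obtain ⟨i, -, rfl⟩ := Finset.mem_image.mp hp
        rw [← hP]; exact hg0 i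
    · obtain ⟨⟨i, l⟩, -, rfl⟩ := Finset.mem_image.mp hp
      show f (pderiv l (g i) - if i = l then 1 else 0) = 0
      rw [map_sub, ← hP, hg i l]
      split_ifs <;> simp
  let C : Finset R := F.biUnion coeffs
  let R₀ : Subalgebra ℤ R := Algebra.adjoin ℤ (C : Set R)
  have hlift : ∀ p ∈ F, ∃ q : MvPolynomial (Fin n) R₀, MvPolynomial.map (algebraMap R₀ R) q = p := by
    intro p hp
    have : p ∈ Set.range (MvPolynomial.map (algebraMap R₀ R)) := by
      rw [mem_range_map_iff_coeffs_subset]
      intro c hc
      exact ⟨⟨c, Algebra.subset_adjoin (Finset.mem_coe.mpr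
        (Finset.mem_biUnion.mpr ⟨p, hp, hc⟩))⟩, rfl⟩
    exact this
  choose! q hq using hlift
  let I : Ideal (MvPolynomial (Fin n) R₀) := Ideal.span ((F.image q : Finset _) : Set _)
  have hinj : Function.Injective (MvPolynomial.map (algebraMap R₀ R)) :=
    MvPolynomial.map_injective (σ := Fin n) _ Subtype.val_injective
  refine ⟨R₀, I, ?_, ?_, ?_, ?_, ?_⟩
  · exact (Subalgebra.fg_iff_finiteType _).mp (Subalgebra.fg_adjoin_finset _)
  · exact ⟨F.image q, rfl⟩
  · let P₀ : Algebra.Generators R₀ (MvPolynomial (Fin n) R₀ ⧸ I) (Fin n) :=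
      Algebra.Generators.ofAlgHom (Ideal.Quotient.mkₐ R₀ I) (Ideal.Quotient.mkₐ_surjective R₀ I)
    have hP₀ : ∀ p, aeval P₀.val p = Ideal.Quotient.mk I p := by
      intro p
      have : aeval P₀.val = Ideal.Quotient.mkₐ R₀ I := by
        apply MvPolynomial.algHom_ext
        intro i
        rw [aeval_X]; rfl
      rw [this]; rfl
    apply formallyUnramified_of_jac P₀
    intro i
    refine ⟨q (g i), ?_, fun l => ?_⟩
    · rw [hP₀, Ideal.Quotient.eq_zero_iff_mem]
      exact Ideal.subset_span (Finset.mem_coe.mpr (Finset.mem_image_of_mem q (hgF i)))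
    · rw [hP₀]
      have hkey : pderiv l (q (g i)) - (if i = l then 1 else 0) =
          q (pderiv l (g i) - if i = l then 1 else 0) := by
        apply hinj
        rw [hq _ (hdF i l), map_sub, ← pderiv_map, hq _ (hgF i)]
        congr 1
        split_ifs <;> simp
      have hmem : pderiv l (q (g i)) - (if i = l then 1 else 0) ∈ I := by
        rw [hkey]
        exact Ideal.subset_span (Finset.mem_coe.mpr (Finset.mem_image_of_mem q (hdF i l)))
      have h2 := (Ideal.Quotient.eq_zero_iff_mem.mpr hmem)
      rw [map_sub, sub_eq_zero] at h2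
      rw [h2]
      split_ifs <;> simp
  · rw [Ideal.map_span, Ideal.span_le]
    rintro _ ⟨x, hx, rfl⟩
    obtain ⟨p, hp, rfl⟩ := Finset.mem_image.mp (Finset.mem_coe.mp hx)
    show f (MvPolynomial.map (algebraMap R₀ R) (q p)) = 0
    rw [hq p hp]; exact hF p hp
  · rw [Ideal.span_le]
    intro p hp
    have hpF := hG₀F p (Finset.mem_coe.mp hp)
    rw [← hq p hpF]
    exact Ideal.mem_map_of_mem _
      (Ideal.subset_span (Finset.mem_coe.mpr (Finset.mem_image_of_mem q hpF)))

end Descent

end Groth.Agent.Lib.UnramIntModelH3
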