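import Mathlib
import Groth.Prelude

/-!
# Unramified near a point iff sections of base changes are local isomorphisms (helper4)
-/

open AlgebraicGeometry CategoryTheory Limits

universe u

namespace Groth.Agent.Lib.UnramSecH4

/-- A morphism `σ` with `σ ≫ h` an open immersion and `h` unramified is an open immersion. -/
theorem isOpenImmersion_of_comp_unramified {T P Y' : Scheme.{u}} (σ : T ⟶ P) (h : P ⟶ Y')
    [LocallyOfFiniteType h] [FormallyUnramified h] [IsOpenImmersion (σ ≫ h)] :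
    IsOpenImmersion σ := by
  haveI : Etale σ := MorphismProperty.of_postcomp (W := @Etale)
    (W' := @LocallyOfFiniteType ⊓ @FormallyUnramified) σ h ⟨inferInstance, inferInstance⟩
    inferInstance
  haveI : Mono σ := mono_of_mono σ h
  exact IsOpenImmersion.of_flat_of_mono σ

theorem forward {X Y : Scheme.{u}} (f : X ⟶ Y) [LocallyOfFiniteType f] (x : ↥X)
    (U : X.Opens) (hxU : x ∈ U) (hU : FormallyUnramified (U.ι ≫ f))
    (Y' : Scheme.{u}) (g : Y' ⟶ Y) (s' : Y' ⟶ pullback f g) (hs' : s' ≫ pullback.snd f g = 𝟙 Y')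
    (y' : ↥Y') (hy' : pullback.fst f g (s' y') = x) :
    ∃ U' : Y'.Opens, y' ∈ U' ∧ IsOpenImmersion (U'.ι ≫ s') := by
  have hpb : IsPullback (pullback.fst f g ∣_ U)
      ((pullback.fst f g ⁻¹ᵁ U).ι ≫ pullback.snd f g) (U.ι ≫ f) g :=
    (isPullback_morphismRestrict (pullback.fst f g) U).paste_vert (IsPullback.of_hasPullback f g)
  haveI : LocallyOfFiniteType ((pullback.fst f g ⁻¹ᵁ U).ι ≫ pullback.snd f g) :=
    MorphismProperty.of_isPullback (P := @LocallyOfFiniteType) hpb inferInstance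
  haveI : FormallyUnramified ((pullback.fst f g ⁻¹ᵁ U).ι ≫ pullback.snd f g) :=
    MorphismProperty.of_isPullback (P := @FormallyUnramified) hpb hU
  refine ⟨s' ⁻¹ᵁ (pullback.fst f g ⁻¹ᵁ U), ?_, ?_⟩
  · change pullback.fst f g (s' y') ∈ U
    rw [hy']; exact hxU
  · have hcomp : (s' ∣_ (pullback.fst f g ⁻¹ᵁ U)) ≫
        ((pullback.fst f g ⁻¹ᵁ U).ι ≫ pullback.snd f g) =
        (s' ⁻¹ᵁ (pullback.fst f g ⁻¹ᵁ U)).ι := by
      rw [← Category.assoc, morphismRestrict_ι, Category.assoc, hs', Category.comp_id]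
    haveI : IsOpenImmersion ((s' ∣_ (pullback.fst f g ⁻¹ᵁ U)) ≫
        ((pullback.fst f g ⁻¹ᵁ U).ι ≫ pullback.snd f g)) := by
      rw [hcomp]; infer_instance
    haveI : IsOpenImmersion (s' ∣_ (pullback.fst f g ⁻¹ᵁ U)) :=
      isOpenImmersion_of_comp_unramified _ ((pullback.fst f g ⁻¹ᵁ U).ι ≫ pullback.snd f g)
    rw [← morphismRestrict_ι]
    infer_instance

theorem backward {X Y : Scheme.{u}} (f : X ⟶ Y) (U' : X.Opens)
    (h : IsOpenImmersion (U'.ι ≫ pullback.diagonal f)) : FormallyUnramified (U'.ι ≫ f) := by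
  have e : pullback.diagonal (U'.ι ≫ f) ≫
      pullback.map (U'.ι ≫ f) (U'.ι ≫ f) f f U'.ι U'.ι (𝟙 Y) (Category.comp_id _)
        (Category.comp_id _) = U'.ι ≫ pullback.diagonal f := by
    apply pullback.hom_ext
    · rw [Category.assoc, Category.assoc, pullback.diagonal_fst, Category.comp_id]
      erw [pullback.lift_fst]
      rw [← Category.assoc, pullback.diagonal_fst, Category.id_comp]
    · rw [Category.assoc, Category.assoc, pullback.diagonal_snd, Category.comp_id]
      erw [pullback.lift_snd]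
      rw [← Category.assoc, pullback.diagonal_snd, Category.id_comp]
  haveI : IsOpenImmersion (pullback.diagonal (U'.ι ≫ f) ≫
      pullback.map (U'.ι ≫ f) (U'.ι ≫ f) f f U'.ι U'.ι (𝟙 Y) (Category.comp_id _)
        (Category.comp_id _)) := by
    rw [e]; exact h
  haveI : IsOpenImmersion (pullback.diagonal (U'.ι ≫ f)) :=
    IsOpenImmersion.of_comp _ (pullback.map (U'.ι ≫ f) (U'.ι ≫ f) f f U'.ι U'.ι (𝟙 Y)
      (Category.comp_id _) (Category.comp_id _))
  infer_instance

theorem main3846 {X Y : Scheme.{u}} (f : X ⟶ Y) [LocallyOfFinitePresentation f] (x : ↥X) :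
    (∃ U : X.Opens, x ∈ U ∧ FormallyUnramified (U.ι ≫ f)) ↔
      ∀ (Y' : Scheme.{u}) (g : Y' ⟶ Y) (s' : Y' ⟶ pullback f g), s' ≫ pullback.snd f g = 𝟙 Y' →
        ∀ y' : ↥Y', pullback.fst f g (s' y') = x → SchLoc.IsLocalIsoAt s' y' := by
  constructor
  · rintro ⟨U, hxU, hU⟩ Y' g s' hs' y' hy'
    exact forward f x U hxU hU Y' g s' hs' y' hy'
  · intro H
    obtain ⟨U', hxU', hU'⟩ := H X f (pullback.diagonal f) (pullback.diagonal_snd f) x (by
      rw [← Scheme.Hom.comp_apply, pullback.diagonal_fst]; rfl)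
    exact ⟨U', hxU', backward f U' hU'⟩

end Groth.Agent.Lib.UnramSecH4
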