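import Mathlib
import Groth.Agent.Lib.ClopenFactor_lead

/-!
# Étale-local splitting of unramified algebras at a prime (lead)

For an unramified `R`-algebra `S` and a prime `p` of `R` there is an étale `R`-algebra `R'` with a prime
`p'` over `p` such that `R' ⊗[R] S ≅ ∏ R'/Jᵢ × B` with `Jᵢ ≤ p'` and no prime of `B` over `p'`
(Stacks 00UX).  The induction is on the dimension of the fibre `κ(p) ⊗[R] S`.
-/

set_option autoImplicit false

namespace Groth.Agent.Lib.UnramSplit

open TensorProduct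

universe u

/-- dimension of the fibre over `p`. -/
noncomputable def fdim (R S : Type u) [CommRing R] [CommRing S] [Algebra R S] (p : Ideal R)
    [p.IsPrime] : ℕ :=
  Module.finrank p.ResidueField (p.ResidueField ⊗[R] S)

theorem fdim_baseChange (R E S : Type u) [CommRing R] [CommRing E] [CommRing S] [Algebra R S]
    [Algebra R E] (p : Ideal R) [p.IsPrime] (p₁ : Ideal E) [p₁.IsPrime] [p₁.LiesOver p] :
    fdim E (E ⊗[R] S) p₁ = fdim R S p := by
  letI : Algebra p.ResidueField p₁.ResidueField :=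
    (Ideal.ResidueField.mapₐ p p₁ (Algebra.ofId R E) (p₁.over_def p)).toRingHom.toAlgebra
  haveI : IsScalarTower R p.ResidueField p₁.ResidueField :=
    IsScalarTower.of_algebraMap_eq'
      (Ideal.ResidueField.mapₐ p p₁ (Algebra.ofId R E) (p₁.over_def p)).comp_algebraMap.symm
  unfold fdim
  rw [← Module.finrank_baseChange (R := p₁.ResidueField) (S := p.ResidueField)
    (M' := p.ResidueField ⊗[R] S)]
  exact LinearEquiv.finrank_eq
    ((TensorProduct.AlgebraTensorModule.cancelBaseChange R E p₁.ResidueField p₁.ResidueField S).trans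
      (TensorProduct.AlgebraTensorModule.cancelBaseChange R p.ResidueField p₁.ResidueField
        p₁.ResidueField S).symm)

theorem fdim_of_equiv {E T A B : Type u} [CommRing E] [CommRing T] [CommRing A] [CommRing B]
    [Algebra E T] [Algebra E A] [Algebra E B] (p₁ : Ideal E) [p₁.IsPrime] (e : T ≃ₐ[E] A × B)
    [Algebra.QuasiFinite E A] [Algebra.QuasiFinite E B] :
    fdim E T p₁ = fdim E A p₁ + fdim E B p₁ := by
  haveI : Module.Finite p₁.ResidueField (p₁.ResidueField ⊗[E] A) :=
    Algebra.QuasiFinite.finite_fiber p₁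
  haveI : Module.Finite p₁.ResidueField (p₁.ResidueField ⊗[E] B) :=
    Algebra.QuasiFinite.finite_fiber p₁
  unfold fdim
  rw [← Module.finrank_prod]
  exact LinearEquiv.finrank_eq
    ((TensorProduct.AlgebraTensorModule.congr
        (LinearEquiv.refl p₁.ResidueField p₁.ResidueField) e.toLinearEquiv).trans
      (TensorProduct.prodRight E p₁.ResidueField p₁.ResidueField A B))

theorem fdim_pos {E A : Type u} [CommRing E] [CommRing A] [Algebra E A] (p₁ : Ideal E) [p₁.IsPrime]
    [Algebra.QuasiFinite E A] (Q : Ideal A) [hQ : Q.IsPrime] [hQ' : Q.LiesOver p₁] :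
    0 < fdim E A p₁ := by
  haveI : Module.Finite p₁.ResidueField (p₁.ResidueField ⊗[E] A) :=
    Algebra.QuasiFinite.finite_fiber p₁
  have x : PrimeSpectrum (p₁.Fiber A) := PrimeSpectrum.primesOverOrderIsoFiber E A p₁ ⟨Q, hQ, hQ'⟩
  haveI : Nontrivial (p₁.ResidueField ⊗[E] A) := by
    by_contra h
    rw [not_nontrivial_iff_subsingleton] at h
    exact x.2.ne_top (Subsingleton.elim _ _)
  exact Module.finrank_pos

theorem ker_le_of_surj {E Sg R₂ : Type u} [CommRing E] [CommRing Sg] [Algebra E Sg] [CommRing R₂]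
    [Algebra E R₂] (hφ : Function.Surjective (algebraMap E Sg)) (p₁ : Ideal E) (p₂ : Ideal R₂)
    [hlo : p₂.LiesOver p₁] (hk : RingHom.ker (algebraMap E Sg) ≤ p₁) (x : R₂)
    (hx : algebraMap R₂ (R₂ ⊗[E] Sg) x = 0) : x ∈ p₂ := by
  let g : E →ₐ[E] R₂ ⧸ p₂ := Algebra.ofId E (R₂ ⧸ p₂)
  have H : RingHom.ker (Algebra.ofId E Sg).toRingHom ≤ RingHom.ker g.toRingHom := by
    intro y hy
    have hy1 : y ∈ p₁ := hk hy
    rw [RingHom.mem_ker]
    show algebraMap E (R₂ ⧸ p₂) y = 0
    rw [IsScalarTower.algebraMap_apply E R₂ (R₂ ⧸ p₂), Ideal.Quotient.algebraMap_eq,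
      Ideal.Quotient.eq_zero_iff_mem]
    have := hlo.over
    rw [this] at hy1
    exact hy1
  let ψ : Sg →ₐ[E] R₂ ⧸ p₂ := AlgHom.liftOfSurjective (Algebra.ofId E Sg) hφ g H
  let χ : R₂ ⊗[E] Sg →ₐ[R₂] R₂ ⧸ p₂ :=
    Algebra.TensorProduct.lift (Ideal.Quotient.mkₐ R₂ p₂) ψ (fun _ _ => Commute.all _ _)
  have h1 : χ (algebraMap R₂ (R₂ ⊗[E] Sg) x) = Ideal.Quotient.mk p₂ x := by
    rw [Algebra.TensorProduct.algebraMap_apply, Algebra.algebraMap_self, RingHom.id_apply]
    simp [χ]
  rw [hx, map_zero] at h1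
  exact Ideal.Quotient.eq_zero_iff_mem.mp h1.symm

/-- The splitting statement (with an arbitrary finite index type). -/
def Split (R S : Type u) [CommRing R] [CommRing S] [Algebra R S] (p : Ideal R) [p.IsPrime] : Prop :=
  ∃ (R' : Type u) (_ : CommRing R') (_ : Algebra R R') (_ : Algebra.Etale R R') (p' : Ideal R')
    (_ : p'.IsPrime) (_ : p'.LiesOver p) (ι : Type) (_ : Fintype ι) (J : ι → Ideal R')
    (B : Type u) (_ : CommRing B) (_ : Algebra R' B),
    Nonempty ((R' ⊗[R] S) ≃ₐ[R'] ((∀ i, R' ⧸ J i) × B)) ∧ (∀ i, J i ≤ p') ∧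
      ∀ (q : Ideal B) [q.IsPrime], q.comap (algebraMap R' B) ≠ p'

/-- reindexing `X × ((∏ᵢ Yᵢ) × B) ≅ (∏_{o : Option ι} Y'ₒ) × B`. -/
noncomputable def optEquiv (R₂ : Type u) [CommRing R₂] {ι : Type} (J₀ : Ideal R₂) (J : ι → Ideal R₂)
    (B : Type u) [CommRing B] [Algebra R₂ B] :
    ((R₂ ⧸ J₀) × ((∀ i, R₂ ⧸ J i) × B)) ≃ₐ[R₂]
      ((∀ o : Option ι, R₂ ⧸ (Option.elim o J₀ J)) × B) where
  toFun x := (fun o => Option.rec (motive := fun o => R₂ ⧸ (Option.elim o J₀ J)) x.1
    (fun i => x.2.1 i) o, x.2.2)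
  invFun y := (y.1 none, (fun i => y.1 (some i), y.2))
  left_inv x := rfl
  right_inv y := by
    refine Prod.ext ?_ rfl
    funext o
    cases o <;> rfl
  map_mul' x y := by
    refine Prod.ext ?_ rfl
    funext o
    cases o <;> rfl
  map_add' x y := by
    refine Prod.ext ?_ rfl
    funext o
    cases o <;> rfl
  commutes' r := by
    refine Prod.ext ?_ rfl
    funext o
    cases o <;> rfl

theorem split_aux (d : ℕ) : ∀ (R : Type u) [CommRing R] (S : Type u) [CommRing S] [Algebra R S]
    [Algebra.Unramified R S] (p : Ideal R) [p.IsPrime], fdim R S p = d → Split R S p := by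
  induction d using Nat.strong_induction_on with
  | _ d IH =>
  intro R _ S _ _ _ p _ hd
  classical
  by_cases hex : ∃ q : Ideal S, q.IsPrime ∧ q.comap (algebraMap R S) = p
  swap
  · -- no prime over `p`
    let F : S →ₐ[R] ((∀ i : Empty, R ⧸ (Empty.elim i : Ideal R)) × S) :=
      AlgHom.prod (AlgHom.pi (fun i : Empty => i.elim))
        (AlgHom.id R S)
    have hF : Function.Bijective F := by
      constructor
      · intro a b hab
        exact congrArg Prod.snd hab
      · rintro ⟨f, s⟩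
        exact ⟨s, Prod.ext (funext fun i => i.elim) rfl⟩
    refine ⟨R, inferInstance, inferInstance, inferInstance, p, inferInstance, ⟨rfl⟩, Empty,
      inferInstance, fun i => i.elim, S, inferInstance, inferInstance,
      ⟨(Algebra.TensorProduct.lid R S).trans (AlgEquiv.ofBijective F hF)⟩, fun i => i.elim, ?_⟩
    intro q hq hqp
    exact hex ⟨q, hq, hqp⟩
  · obtain ⟨q, hq, hqp⟩ := hex
    obtain ⟨g, hgq, Pr, φ, hφ⟩ :=
      Algebra.IsUnramifiedAt.exists_hasStandardEtaleSurjectionOn (R := R) q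
    letI algESg : Algebra Pr.Ring (Localization.Away g) := φ.toRingHom.toAlgebra
    haveI : IsScalarTower R Pr.Ring (Localization.Away g) :=
      IsScalarTower.of_algebraMap_eq' φ.comp_algebraMap.symm
    have hφ' : Function.Surjective (algebraMap Pr.Ring (Localization.Away g)) := hφ
    obtain ⟨B₁, _, _, e₁, -⟩ := Groth.Agent.Lib.ClopenFactor.exists_prod_of_etale_surj (R := R)
      (S := S) (E := Pr.Ring) (Sg := Localization.Away g) g hφ'
    -- the primes
    have hdisj : Disjoint (Submonoid.powers g : Set S) (q : Set S) := by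
      rw [Ideal.disjoint_powers_iff_notMem_of_isPrime]; exact hgq
    obtain ⟨qg, hqgdef⟩ : ∃ qg : Ideal (Localization.Away g),
        qg = q.map (algebraMap S (Localization.Away g)) := ⟨_, rfl⟩
    haveI hqg : qg.IsPrime := by
      rw [hqgdef]
      exact IsLocalization.isPrime_of_isPrime_disjoint (Submonoid.powers g) _ _ hq hdisj
    have hqgc : qg.comap (algebraMap S (Localization.Away g)) = q := by
      rw [hqgdef]
      exact IsLocalization.comap_map_of_isPrime_disjoint (Submonoid.powers g) _ hq hdisj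
    obtain ⟨p₁, hp₁def⟩ : ∃ p₁ : Ideal Pr.Ring,
        p₁ = qg.comap (algebraMap Pr.Ring (Localization.Away g)) := ⟨_, rfl⟩
    haveI hp₁ : p₁.IsPrime := by rw [hp₁def]; infer_instance
    haveI hp₁over : p₁.LiesOver p := ⟨by
      rw [hp₁def, Ideal.under_def, Ideal.comap_comap,
        ← IsScalarTower.algebraMap_eq, IsScalarTower.algebraMap_eq R S (Localization.Away g),
        ← Ideal.comap_comap, hqgc, hqp]⟩
    haveI hqgover : qg.LiesOver p₁ := ⟨by rw [hp₁def, Ideal.under_def]⟩
    have hk : RingHom.ker (algebraMap Pr.Ring (Localization.Away g)) ≤ p₁ := by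
      intro y hy
      rw [hp₁def, Ideal.mem_comap, RingHom.mem_ker.mp hy]
      exact zero_mem _
    -- `B₁` is unramified over `E`
    let π₂ : Pr.Ring ⊗[R] S →ₐ[Pr.Ring] B₁ :=
      (AlgHom.snd Pr.Ring (Localization.Away g) B₁).comp e₁.toAlgHom
    have hπ₂ : Function.Surjective π₂ := by
      intro b
      obtain ⟨t, ht⟩ := e₁.surjective (0, b)
      exact ⟨t, by show (e₁ t).2 = b; rw [ht]⟩
    haveI : Algebra.FormallyUnramified Pr.Ring B₁ :=
      Algebra.FormallyUnramified.of_surjective π₂ hπ₂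
    haveI : Algebra.FiniteType Pr.Ring B₁ := Algebra.FiniteType.of_surjective π₂ hπ₂
    haveI : Algebra.Unramified Pr.Ring B₁ := {}
    haveI : Module.Finite Pr.Ring (Localization.Away g) :=
      Module.Finite.of_surjective (Algebra.linearMap Pr.Ring (Localization.Away g)) hφ'
    -- the dimension drops
    have hlt : fdim Pr.Ring B₁ p₁ < d := by
      have h1 : fdim Pr.Ring (Pr.Ring ⊗[R] S) p₁ = d := by
        rw [fdim_baseChange R Pr.Ring S p p₁, hd]
      have h2 := fdim_of_equiv p₁ e₁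
      have h3 : 0 < fdim Pr.Ring (Localization.Away g) p₁ := fdim_pos p₁ qg
      omega
    obtain ⟨R₂, _, _, _, p₂, _, _, ι, _, J, B, _, _, ⟨Ψ⟩, hJ, hB⟩ :=
      IH _ hlt Pr.Ring B₁ p₁ rfl
    letI : Algebra R R₂ := Algebra.compHom R₂ (algebraMap R Pr.Ring)
    haveI : IsScalarTower R Pr.Ring R₂ := IsScalarTower.of_algebraMap_eq' rfl
    haveI : Algebra.Etale R R₂ := Algebra.Etale.comp R Pr.Ring R₂
    haveI : p₂.LiesOver p := Ideal.LiesOver.trans p₂ p₁ p
    -- the first factor
    have hsurj₀ : Function.Surjective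
        (Algebra.ofId R₂ (R₂ ⊗[Pr.Ring] (Localization.Away g))) := by
      intro z
      induction z using TensorProduct.induction_on with
      | zero => exact ⟨0, map_zero _⟩
      | tmul x s =>
        obtain ⟨y, rfl⟩ := hφ' s
        refine ⟨y • x, ?_⟩
        rw [Algebra.ofId_apply, Algebra.TensorProduct.algebraMap_apply, Algebra.algebraMap_self,
          RingHom.id_apply, TensorProduct.smul_tmul, Algebra.algebraMap_eq_smul_one]
      | add a b ha hb =>
        obtain ⟨a', rfl⟩ := ha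
        obtain ⟨b', rfl⟩ := hb
        exact ⟨a' + b', map_add _ _ _⟩
    let k₀ := (Ideal.quotientKerAlgEquivOfSurjective hsurj₀).symm
    let c₁ := (Algebra.TensorProduct.cancelBaseChange R Pr.Ring R₂ R₂ S).symm
    let c₂ : R₂ ⊗[Pr.Ring] (Pr.Ring ⊗[R] S) ≃ₐ[R₂]
        R₂ ⊗[Pr.Ring] ((Localization.Away g) × B₁) :=
      Algebra.TensorProduct.congr AlgEquiv.refl e₁
    let c₃ := Algebra.TensorProduct.prodRight Pr.Ring R₂ R₂ (Localization.Away g) B₁
    let c₄ := AlgEquiv.prodCongr k₀ Ψ
    let c₅ := optEquiv R₂ (RingHom.ker (Algebra.ofId R₂ (R₂ ⊗[Pr.Ring] (Localization.Away g)))) J B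
    refine ⟨R₂, inferInstance, inferInstance, inferInstance, p₂, inferInstance, inferInstance,
      Option ι, inferInstance,
      fun o => Option.elim o (RingHom.ker (Algebra.ofId R₂ (R₂ ⊗[Pr.Ring] (Localization.Away g)))) J,
      B, inferInstance, inferInstance,
      ⟨c₁.trans (c₂.trans (c₃.trans (c₄.trans c₅)))⟩, ?_, hB⟩
    intro o
    cases o with
    | none =>
      intro x hx
      exact ker_le_of_surj hφ' p₁ p₂ hk x hx
    | some i => exact hJ i

theorem split (R : Type u) [CommRing R] (S : Type u) [CommRing S] [Algebra R S]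
    [Algebra.Unramified R S] (p : Ideal R) [p.IsPrime] : Split R S p :=
  split_aux _ R S p rfl

end Groth.Agent.Lib.UnramSplit
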