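import Mathlib

/-!
# Finite type algebras are locally closed subschemes of standard smooth ones of the
  dimension of the cotangent fibre (helper3)
APPEND-ONLY once landed.
-/

set_option autoImplicit false
universe u
open MvPolynomial TensorProduct KaehlerDifferential

namespace Groth.Agent.Lib.UnramStdSmoothH3

section MvSmooth

/-- The standard submersive presentation of a polynomial algebra: no relations. -/
noncomputable def mvPres (R : Type u) [CommRing R] (ι : Type) [Finite ι] :
    Algebra.SubmersivePresentation R (MvPolynomial ι R) ι PEmpty.{1} where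
  toGenerators := Algebra.Generators.ofSurjective (R := R) (S := MvPolynomial ι R) X (by
    rw [aeval_X_left]
    exact fun x => ⟨x, rfl⟩)
  relation := PEmpty.elim
  span_range_relation_eq_ker := by
    simp only [Set.range_eq_empty, Ideal.span_empty]
    rw [Algebra.Generators.ker_eq_ker_aeval_val]
    symm
    rw [← RingHom.injective_iff_ker_eq_bot]
    change Function.Injective (aeval (X : ι → MvPolynomial ι R))
    rw [aeval_X_left]
    exact fun _ _ h => h
  map := PEmpty.elim
  map_inj a := a.elim
  jacobian_isUnit := by
    rw [Algebra.PreSubmersivePresentation.jacobian_eq_jacobiMatrix_det, Matrix.det_isEmpty,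
      map_one]
    exact isUnit_one

theorem mv_isStandardSmooth (R : Type u) [CommRing R] (d : ℕ) :
    Algebra.IsStandardSmoothOfRelativeDimension d R (MvPolynomial (Fin d) R) :=
  ⟨Fin d, PEmpty.{1}, inferInstance, inferInstance, mvPres R (Fin d), by
    simp [Algebra.Presentation.dimension]⟩

end MvSmooth

variable (A B : Type u) [CommRing A] [CommRing B] [Algebra A B] [Algebra.FiniteType A B]
  (q : Ideal B) [q.IsPrime]

/-- choose elements whose differentials span the fibre of `Ω` at `q` -/
theorem exists_span_d (r : ℕ)
    (hr : Module.finrank q.ResidueField (q.ResidueField ⊗[B] Ω[B⁄A]) = r) :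
    ∃ b : Fin r → B, Submodule.span q.ResidueField
      (Set.range fun i => (1 : q.ResidueField) ⊗ₜ[B] D A B (b i)) = ⊤ := by
  have hspan : Submodule.span q.ResidueField
      (Set.range fun x : B => (1 : q.ResidueField) ⊗ₜ[B] D A B x) = ⊤ := by
    rw [eq_top_iff]
    rintro z -
    induction z using TensorProduct.induction_on with
    | zero => exact Submodule.zero_mem _
    | add x y hx hy => exact Submodule.add_mem _ hx hy
    | tmul c ω =>
      have hω : ω ∈ Submodule.span B (Set.range (D A B)) := by
        rw [KaehlerDifferential.span_range_derivation]; trivial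
      induction hω using Submodule.span_induction with
      | mem x hx =>
        obtain ⟨y, rfl⟩ := hx
        have : c ⊗ₜ[B] D A B y = c • ((1 : q.ResidueField) ⊗ₜ[B] D A B y) := by
          rw [TensorProduct.smul_tmul', smul_eq_mul, mul_one]
        rw [this]
        exact Submodule.smul_mem _ _ (Submodule.subset_span ⟨y, rfl⟩)
      | zero => rw [TensorProduct.tmul_zero]; exact Submodule.zero_mem _
      | add x y _ _ hx hy => rw [TensorProduct.tmul_add]; exact Submodule.add_mem _ hx hy
      | smul a x _ hx =>
        have : c ⊗ₜ[B] (a • x) = (algebraMap B q.ResidueField a) • (c ⊗ₜ[B] x) := by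
          rw [TensorProduct.tmul_smul, TensorProduct.smul_tmul', TensorProduct.smul_tmul',
            algebraMap_smul]
        rw [this]
        exact Submodule.smul_mem _ _ hx
  obtain ⟨κ, a, -, hsp, hli⟩ := exists_linearIndependent' q.ResidueField
    (fun x : B => (1 : q.ResidueField) ⊗ₜ[B] D A B x)
  rw [hspan] at hsp
  let bas : Module.Basis κ q.ResidueField (q.ResidueField ⊗[B] Ω[B⁄A]) :=
    Module.Basis.mk hli hsp.ge
  haveI : Finite κ := Module.Finite.finite_basis bas
  haveI : Fintype κ := Fintype.ofFinite κ
  have hcard : Fintype.card κ = r := by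
    rw [← hr, Module.finrank_eq_card_basis bas]
  let e : Fin r ≃ κ := (Fintype.equivFinOfCardEq hcard).symm
  refine ⟨fun i => a (e i), ?_⟩
  rw [← hsp]
  congr 1
  ext z
  constructor
  · rintro ⟨i, rfl⟩
    exact ⟨e i, rfl⟩
  · rintro ⟨j, rfl⟩
    exact ⟨e.symm j, by simp⟩

theorem main (r : ℕ)
    (hr : Module.finrank q.ResidueField (q.ResidueField ⊗[B] Ω[B⁄A]) = r) :
    ∃ g : B, g ∉ q ∧ ∃ (D : Type u) (_ : CommRing D) (_ : Algebra A D),
      Algebra.IsStandardSmoothOfRelativeDimension r A D ∧
        ∃ φ : D →ₐ[A] Localization.Away g, Function.Surjective φ := by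
  obtain ⟨b, hb⟩ := exists_span_d A B q r hr
  letI algRB : Algebra (MvPolynomial (Fin r) A) B := (aeval b).toRingHom.toAlgebra
  haveI tow : IsScalarTower A (MvPolynomial (Fin r) A) B :=
    IsScalarTower.of_algebraMap_eq' (aeval b).comp_algebraMap.symm
  haveI : Algebra.FiniteType (MvPolynomial (Fin r) A) B :=
    Algebra.FiniteType.of_restrictScalars_finiteType A (MvPolynomial (Fin r) A) B
  have hX : ∀ i, algebraMap (MvPolynomial (Fin r) A) B (X i) = b i := fun i => aeval_X b i
  -- the fibre of `Ω[B/R']` at `q` vanishes
  have hsub : Subsingleton (q.ResidueField ⊗[B] Ω[B⁄MvPolynomial (Fin r) A]) := by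
    let m : Ω[B⁄A] →ₗ[B] Ω[B⁄MvPolynomial (Fin r) A] :=
      KaehlerDifferential.map A (MvPolynomial (Fin r) A) B B
    have hm : Function.Surjective m := KaehlerDifferential.map_surjective A _ B
    let mk : q.ResidueField ⊗[B] Ω[B⁄A] →ₗ[q.ResidueField]
        q.ResidueField ⊗[B] Ω[B⁄MvPolynomial (Fin r) A] := m.baseChange q.ResidueField
    have hmk : Function.Surjective mk := by
      have := LinearMap.lTensor_surjective q.ResidueField hm
      intro z
      obtain ⟨w, hw⟩ := this z
      exact ⟨w, hw⟩
    have hzero : mk = 0 := by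
      apply LinearMap.ext_on_range hb
      intro i
      show mk ((1 : q.ResidueField) ⊗ₜ[B] D A B (b i)) = 0
      rw [LinearMap.baseChange_tmul]
      have : m (D A B (b i)) = 0 := by
        show KaehlerDifferential.map A (MvPolynomial (Fin r) A) B B (D A B (b i)) = 0
        rw [KaehlerDifferential.map_D, Algebra.algebraMap_self_apply, ← hX i,
          Derivation.map_algebraMap]
      rw [this, TensorProduct.tmul_zero]
    refine ⟨fun x y => ?_⟩
    obtain ⟨x', rfl⟩ := hmk x
    obtain ⟨y', rfl⟩ := hmk y
    rw [hzero]
    rfl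
  haveI hunr : Algebra.IsUnramifiedAt (MvPolynomial (Fin r) A) q := by
    have h1 : (⟨q, inferInstance⟩ : PrimeSpectrum B) ∉
        Module.support B Ω[B⁄MvPolynomial (Fin r) A] := by
      rw [Module.mem_support_iff_nontrivial_residueField_tensorProduct]
      exact not_nontrivial_iff_subsingleton.2 hsub
    have h2 : (⟨q, inferInstance⟩ : PrimeSpectrum B) ∈
        Algebra.unramifiedLocus (MvPolynomial (Fin r) A) B := by
      rw [Algebra.unramifiedLocus_eq_compl_support]
      exact h1
    exact h2
  obtain ⟨g, hg, P, φ, hφ⟩ :=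
    Algebra.IsUnramifiedAt.exists_hasStandardEtaleSurjectionOn (R := MvPolynomial (Fin r) A) q
  letI algAD : Algebra A P.Ring :=
    ((algebraMap (MvPolynomial (Fin r) A) P.Ring).comp (algebraMap A _)).toAlgebra
  haveI : IsScalarTower A (MvPolynomial (Fin r) A) P.Ring := IsScalarTower.of_algebraMap_eq' rfl
  refine ⟨g, hg, P.Ring, inferInstance, algAD, ?_, ?_⟩
  · haveI := mv_isStandardSmooth A r
    haveI : Algebra.IsStandardSmoothOfRelativeDimension 0 (MvPolynomial (Fin r) A) P.Ring :=
      Algebra.Etale.iff_isStandardSmoothOfRelativeDimension_zero.1 inferInstance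
    have := Algebra.IsStandardSmoothOfRelativeDimension.trans (n := r) (m := 0) A
      (MvPolynomial (Fin r) A) P.Ring
    rwa [zero_add] at this
  · refine ⟨{ φ.toRingHom with commutes' := fun a => ?_ }, hφ⟩
    show φ (algebraMap (MvPolynomial (Fin r) A) P.Ring (algebraMap A _ a)) = _
    rw [φ.commutes, IsScalarTower.algebraMap_apply (MvPolynomial (Fin r) A) B (Localization.Away g),
      ← IsScalarTower.algebraMap_apply A (MvPolynomial (Fin r) A) B,
      ← IsScalarTower.algebraMap_apply A B (Localization.Away g)]

end Groth.Agent.Lib.UnramStdSmoothH3
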