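import Mathlib
import Groth.Prelude
import Groth.Agent.Lib.VATens9_helper5
import Groth.Agent.Lib.VATens10_helper5

/-!
# The classifying map of a composite `q^*G ↠ q^*F ↠ M` is an immersion when that of `q^*F ↠ M`
is (the closed immersion `P(F) ⊆ P(G)`, Segre-free)  (helper5).  APPEND-ONLY once landed.
-/

set_option autoImplicit false
universe u
open CategoryTheory CategoryTheory.Limits AlgebraicGeometry TopologicalSpace Opposite
open scoped HomogeneousIdeal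

noncomputable section

namespace Groth.Agent.VATens

open QcqsLoc QCohExtn GenLocH8 TensH8 Scheme.Modules Groth.Agent.UPB Groth.Agent.SymSum
  Groth.Agent.RelProjTN HomogeneousLocalization Groth.Agent.SymAlg Groth.Agent.SymDeg
  Groth.Agent.SymGr

section algebra
variable {A B σA σB : Type*} [CommRing A] [SetLike σA A] [AddSubgroupClass σA A] (𝒜 : ℕ → σA)
  [GradedRing 𝒜] [CommRing B] [SetLike σB B] [AddSubgroupClass σB B] (ℬ : ℕ → σB) [GradedRing ℬ]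

/-- A surjective graded homomorphism is surjective on each graded piece. -/
theorem exists_homogeneous_preimage (ψ : 𝒜 →+*ᵍ ℬ) (hψ : Function.Surjective ψ) (n : ℕ) (z' : B)
    (hz' : z' ∈ ℬ n) : ∃ z ∈ 𝒜 n, ψ z = z' := by
  classical
  obtain ⟨z₀, rfl⟩ := hψ z'
  refine ⟨(DirectSum.decompose 𝒜 z₀ n : A), SetLike.coe_mem _, ?_⟩
  have h := GradedRingHom.map_directSumDecompose 𝒜 ℬ ψ (x := z₀) (i := n)
  rw [DirectSum.decompose_of_mem_same ℬ hz'] at h
  exact h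

theorem awayMap_surjective (ψ : 𝒜 →+*ᵍ ℬ) (hψ : Function.Surjective ψ) {f : A} {f' : B}
    (h : ψ f = f') (hf : f ∈ 𝒜 1) (hf' : f' ∈ ℬ 1) :
    Function.Surjective (awayMap 𝒜 ℬ ψ h) := by
  intro x'
  obtain ⟨n, z', hz', rfl⟩ := mkn_surjective ℬ hf' x'
  obtain ⟨z, hz, rfl⟩ := exists_homogeneous_preimage 𝒜 ℬ ψ hψ n z' hz'
  exact ⟨mkn 𝒜 hf n z hz, awayMap_mkn 𝒜 ℬ ψ h hf hf' n z hz⟩

end algebra

section quotient
variable {Y X : Scheme.{u}} {G F : Y.Modules} [G.IsQuasicoherent] [F.IsQuasicoherent]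
  {BP : PB G} {BQ : PB F} {q : X ⟶ Y} {M : X.Modules} (π : G ⟶ F)
  {s : (Scheme.Modules.pullback q).obj F ⟶ M}

theorem sb_eq_ap_homEquiv {E : Y.Modules} {L : X.Modules}
    (s : (Scheme.Modules.pullback q).obj E ⟶ L) (U : Y.Opens) (e : Γ(E, U)) :
    sb q E L s U e =
      QCohExtn.ap ((pullbackPushforwardAdjunction q).homEquiv E L s) U e := by
  have h := Groth.Agent.GrTw.adj_symm_cUV q ((pullbackPushforwardAdjunction q).homEquiv E L s) U e
  rw [Equiv.symm_apply_apply] at h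
  exact h

/-- `(s ∘ q^*π)♭ = s♭ ∘ π`. -/
theorem sb_map_comp (U : Y.Opens) (x : Γ(G, U)) :
    sb q G M ((Scheme.Modules.pullback q).map π ≫ s) U x = sb q F M s U (QCohExtn.ap π U x) := by
  rw [sb_eq_ap_homEquiv, sb_eq_ap_homEquiv, Adjunction.homEquiv_naturality_left]
  rfl

theorem isImmersion_ι_comp_congr {X Z : Scheme.{u}} (r : X ⟶ Z) {O O' : X.Opens} (h : O = O')
    (H : IsImmersion (O.ι ≫ r)) : IsImmersion (O'.ι ≫ r) := by
  subst h; exact H

/-- `Θ` is surjective when `ℓ = π(U)` comes from an epimorphism. -/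
theorem Theta_surjective [Epi π] (U : Y.Opens) (hU : IsAffineOpen U) (t : Γ(G, U)) :
    Function.Surjective (Gen.Theta BP BQ U hU (QCohExtn.ap π U) (ap_smul π) t) := by
  have hψ : Function.Surjective (Gen.psi0 BP BQ U hU (QCohExtn.ap π U) (ap_smul π)) := by
    refine surjective_of_gen F BQ.𝒮 BQ.j BQ.hj U hU _ (fun a => ?_) (fun m => ?_)
    · exact ⟨_, Gen.psi0_str BP BQ U hU (QCohExtn.ap π U) (ap_smul π) a⟩
    · obtain ⟨x, rfl⟩ := QCohExact.app_surjective_of_epi π hU m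
      exact ⟨_, Gen.psi0_j BP BQ U hU (QCohExtn.ap π U) (ap_smul π) x⟩
  have h1 : Function.Surjective (Gen.thetaA BP BQ U hU (QCohExtn.ap π U) (ap_smul π) t) :=
    awayMap_surjective (BP.𝒮.deg U hU) (BQ.𝒮.deg U hU)
      (Gen.psi BP BQ U hU (QCohExtn.ap π U) (ap_smul π)) hψ _ (BP.j_mem U hU t) (BQ.j_mem U hU _)
  intro c
  obtain ⟨a', ha'⟩ := TT_surjective F BQ.𝒮 BQ.j BQ.hj BQ.p BQ.chart U hU (QCohExtn.ap π U t) c
  obtain ⟨a, rfl⟩ := h1 a'
  exact ⟨TT G BP.𝒮 BP.j BP.p BP.chart U hU t a,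
    (Gen.Theta_TT BP BQ U hU (QCohExtn.ap π U) (ap_smul π) t a).trans ha'⟩

/-- **The classifying morphism of `q^*G ↠ q^*F ↠ M` is an immersion when that of `q^*F ↠ M`
is.** -/
theorem isImmersion_of_quotient [Epi π]
    (ρP : PBMap BP q M ((Scheme.Modules.pullback q).map π ≫ s)) (ρQ : PBMap BQ q M s)
    [IsImmersion ρQ.r] : IsImmersion ρP.r := by
  apply IsZariskiLocalAtTarget.of_forall_exists_morphismRestrict (P := @IsImmersion)
  intro z
  obtain ⟨U, hU, hzU, -⟩ := Opens.isBasis_iff_nbhd.mp Y.isBasis_affineOpens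
    (Opens.mem_top (BP.p z))
  have hUa : IsAffineOpen U := hU
  obtain ⟨t, hz⟩ := exists_mem_WW G BP.𝒮 BP.j BP.hj BP.p BP.chart U hUa z hzU
  refine ⟨BP.WW U hUa t, hz, ?_⟩
  have hWP : IsAffineOpen (BP.WW U hUa t) :=
    isAffineOpen_WW G BP.𝒮 BP.j BP.hj BP.p BP.chart U hUa t
  have hW : IsAffineOpen (BQ.WW U hUa (QCohExtn.ap π U t)) :=
    isAffineOpen_WW F BQ.𝒮 BQ.j BQ.hj BQ.p BQ.chart U hUa _
  have H1 : ∀ x : Γ(G, U), rF M (ρQ.le_q U hUa (QCohExtn.ap π U t) _ le_rfl)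
      (sb q F M s U (QCohExtn.ap π U x)) =
      id (rF M (ρQ.le_q U hUa (QCohExtn.ap π U t) _ le_rfl)
        (sb q G M ((Scheme.Modules.pullback q).map π ≫ s) U x)) := by
    intro x
    rw [sb_map_comp]
    rfl
  have hle : ρQ.r ⁻¹ᵁ (BQ.WW U hUa (QCohExtn.ap π U t)) ≤ ρP.r ⁻¹ᵁ (BP.WW U hUa t) :=
    Gen.le_preimage ρP ρQ U hUa (QCohExtn.ap π U) t id (fun a h => h) H1
  have hge : ρP.r ⁻¹ᵁ (BP.WW U hUa t) ≤ ρQ.r ⁻¹ᵁ (BQ.WW U hUa (QCohExtn.ap π U t)) := by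
    intro x hx
    have h1 := ρP.isGen_sb U hUa t
    rw [sb_map_comp] at h1
    exact ρQ.mem_WW_of_isGen U hUa (QCohExtn.ap π U t) x _ hx _ h1
  have hO : ρQ.r ⁻¹ᵁ (BQ.WW U hUa (QCohExtn.ap π U t)) = ρP.r ⁻¹ᵁ (BP.WW U hUa t) :=
    le_antisymm hle hge
  have hcomp := restrict_comp_piOf hW hWP
    (Gen.Theta BP BQ U hUa (QCohExtn.ap π U) (ap_smul π) t) ρQ.r ρP.r hle
    (Gen.appLE_Theta ρP ρQ U hUa (QCohExtn.ap π U) (ap_smul π) t id (fun c a => rfl)
      (fun a h => h) H1)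
  haveI : IsClosedImmersion (Spec.map (CommRingCat.ofHom
      (Gen.Theta BP BQ U hUa (QCohExtn.ap π U) (ap_smul π) t))) :=
    IsClosedImmersion.spec_of_surjective _ (Theta_surjective π U hUa t)
  haveI : IsImmersion (piOf hW hWP (Gen.Theta BP BQ U hUa (QCohExtn.ap π U) (ap_smul π) t)) := by
    unfold piOf
    infer_instance
  haveI : IsImmersion (ρQ.r ∣_ BQ.WW U hUa (QCohExtn.ap π U t)) :=
    MorphismProperty.of_isPullback (P := @IsImmersion)
      (isPullback_morphismRestrict ρQ.r _).flip inferInstance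
  have h2 : IsImmersion ((ρQ.r ⁻¹ᵁ (BQ.WW U hUa (QCohExtn.ap π U t))).ι ≫ ρP.r) := by
    rw [← hcomp]; infer_instance
  have h3 : IsImmersion ((ρP.r ⁻¹ᵁ (BP.WW U hUa t)).ι ≫ ρP.r) :=
    isImmersion_ι_comp_congr ρP.r hO h2
  rw [← morphismRestrict_ι] at h3
  exact IsImmersion.of_comp (ρP.r ∣_ BP.WW U hUa t) (BP.WW U hUa t).ι

end quotient

end Groth.Agent.VATens
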