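import Mathlib
import Groth.Prelude
import Groth.Agent.Lib.VATens15_helper5
import Groth.Agent.Lib.ConeSP_lead

/-!
# Very ample modules on a disjoint union, part 1: the immersion  (helper5).
APPEND-ONLY once landed.
-/

set_option autoImplicit false
universe u
open CategoryTheory CategoryTheory.Limits AlgebraicGeometry TopologicalSpace Opposite
open scoped HomogeneousIdeal

noncomputable section

namespace Groth.Agent.VADisj

open QcqsLoc QCohExtn GenLocH8 TensH8 Scheme.Modules Groth.Agent.UPB Groth.Agent.SymSum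
  Groth.Agent.VATens

/-- An open over which the zero section generates an invertible module is empty. -/
theorem eq_bot_of_isGen_zero {X : Scheme.{u}} {L : X.Modules} {O : X.Opens}
    (h : IsGen L O (0 : Γ(L, O))) : O = ⊥ := by
  by_contra hne
  obtain ⟨x, hx⟩ : ∃ x, x ∈ O := by
    by_contra hcon
    push Not at hcon
    exact hne (le_bot_iff.mp fun x hx => (hcon x hx).elim)
  have h1 : (1 : Γ(X, O)) = 0 := by
    apply (h O le_rfl).2
    have : rF L (le_rfl : O ≤ O) (0 : Γ(L, O)) = 0 := map_zero _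
    rw [this, smul_zero]
  have h2 := congrArg (X.presheaf.germ O x hx).hom h1
  rw [map_one, map_zero] at h2
  exact one_ne_zero h2

theorem sb_zero {X Y : Scheme.{u}} (q : X ⟶ Y) (E : Y.Modules) (L : X.Modules)
    (s : (Scheme.Modules.pullback q).obj E ⟶ L) (U : Y.Opens) :
    sb q E L s U 0 = 0 := by
  have h := sb_add q E L s U 0 0
  rw [add_zero] at h
  exact left_eq_add.mp h

/-- If `r'` misses the open `W`, the restriction of `coprod.desc r r'` over `W` is an immersion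
as soon as `r` is. -/
theorem isImmersion_restrict_desc_left {X X' P : Scheme.{u}} (r : X ⟶ P) (r' : X' ⟶ P)
    [IsImmersion r] (W : P.Opens) (h : r' ⁻¹ᵁ W = ⊥) :
    IsImmersion (coprod.desc r r' ∣_ W) := by
  have hV : ((coprod.desc r r' ⁻¹ᵁ W : (X ⨿ X').Opens) : Set ↥(X ⨿ X')) ⊆
      Set.range (coprod.inl : X ⟶ X ⨿ X').base := by
    intro v hv
    obtain ⟨(x | x'), rfl⟩ := (coprodMk X X').surjective v
    · rw [coprodMk_inl]; exact ⟨x, rfl⟩
    · exfalso
      rw [coprodMk_inr] at hv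
      have h2 : (coprod.desc r r') ((coprod.inr : X' ⟶ X ⨿ X') x') = r' x' := by
        rw [← Scheme.Hom.comp_apply, coprod.inr_desc]
      have h3 : x' ∈ r' ⁻¹ᵁ W := by
        show r' x' ∈ W
        rw [← h2]; exact hv
      rw [h] at h3
      exact h3
  let k := IsOpenImmersion.lift (coprod.inl : X ⟶ X ⨿ X') (coprod.desc r r' ⁻¹ᵁ W).ι
    (by rw [Scheme.Opens.range_ι]; exact hV)
  have hk : k ≫ (coprod.inl : X ⟶ X ⨿ X') = (coprod.desc r r' ⁻¹ᵁ W).ι :=
    IsOpenImmersion.lift_fac _ _ _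
  haveI : IsOpenImmersion k := by
    haveI : IsOpenImmersion (k ≫ (coprod.inl : X ⟶ X ⨿ X')) := by rw [hk]; infer_instance
    exact IsOpenImmersion.of_comp k (coprod.inl : X ⟶ X ⨿ X')
  have h1 : (coprod.desc r r' ∣_ W) ≫ W.ι = k ≫ r := by
    rw [morphismRestrict_ι, ← hk, Category.assoc, coprod.inl_desc]
  haveI : IsImmersion ((coprod.desc r r' ∣_ W) ≫ W.ι) := by rw [h1]; infer_instance
  exact IsImmersion.of_comp (coprod.desc r r' ∣_ W) W.ι

/-- If `r` misses the open `W`, the restriction of `coprod.desc r r'` over `W` is an immersion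
as soon as `r'` is. -/
theorem isImmersion_restrict_desc_right {X X' P : Scheme.{u}} (r : X ⟶ P) (r' : X' ⟶ P)
    [IsImmersion r'] (W : P.Opens) (h : r ⁻¹ᵁ W = ⊥) :
    IsImmersion (coprod.desc r r' ∣_ W) := by
  have hV : ((coprod.desc r r' ⁻¹ᵁ W : (X ⨿ X').Opens) : Set ↥(X ⨿ X')) ⊆
      Set.range (coprod.inr : X' ⟶ X ⨿ X').base := by
    intro v hv
    obtain ⟨(x | x'), rfl⟩ := (coprodMk X X').surjective v
    · exfalso
      rw [coprodMk_inl] at hv
      have h2 : (coprod.desc r r') ((coprod.inl : X ⟶ X ⨿ X') x) = r x := by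
        rw [← Scheme.Hom.comp_apply, coprod.inl_desc]
      have h3 : x ∈ r ⁻¹ᵁ W := by
        show r x ∈ W
        rw [← h2]; exact hv
      rw [h] at h3
      exact h3
    · rw [coprodMk_inr]; exact ⟨x', rfl⟩
  let k := IsOpenImmersion.lift (coprod.inr : X' ⟶ X ⨿ X') (coprod.desc r r' ⁻¹ᵁ W).ι
    (by rw [Scheme.Opens.range_ι]; exact hV)
  have hk : k ≫ (coprod.inr : X' ⟶ X ⨿ X') = (coprod.desc r r' ⁻¹ᵁ W).ι :=
    IsOpenImmersion.lift_fac _ _ _
  haveI : IsOpenImmersion k := by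
    haveI : IsOpenImmersion (k ≫ (coprod.inr : X' ⟶ X ⨿ X')) := by rw [hk]; infer_instance
    exact IsOpenImmersion.of_comp k (coprod.inr : X' ⟶ X ⨿ X')
  have h1 : (coprod.desc r r' ∣_ W) ≫ W.ι = k ≫ r' := by
    rw [morphismRestrict_ι, ← hk, Category.assoc, coprod.inr_desc]
  haveI : IsImmersion ((coprod.desc r r' ∣_ W) ≫ W.ι) := by rw [h1]; infer_instance
  exact IsImmersion.of_comp (coprod.desc r r' ∣_ W) W.ι

section immersion
variable {X X' Y : Scheme.{u}} {F E E' : Y.Modules} [F.IsQuasicoherent] [E.IsQuasicoherent]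
  [E'.IsQuasicoherent] (BF : PB F)
  (π₁ : F ⟶ E) (π₂ : F ⟶ E') (ι₁ : E ⟶ F) (ι₂ : E' ⟶ F)
  (htot : π₁ ≫ ι₁ + π₂ ≫ ι₂ = 𝟙 F) (h12 : ι₁ ≫ π₂ = 0) (h21 : ι₂ ≫ π₁ = 0)
  {q : X ⟶ Y} {q' : X' ⟶ Y} {L : X.Modules} {L' : X'.Modules}
  {s : (Scheme.Modules.pullback q).obj E ⟶ L} {s' : (Scheme.Modules.pullback q').obj E' ⟶ L'}
  (ρ : PBMap BF q L ((Scheme.Modules.pullback q).map π₁ ≫ s))
  (ρ' : PBMap BF q' L' ((Scheme.Modules.pullback q').map π₂ ≫ s'))

include h12 in
/-- The second classifying map misses `D_+(ι₁ e)`. -/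
theorem preimage_WW_inl_eq_bot (U : Y.Opens) (hU : IsAffineOpen U) (e : Γ(E, U)) :
    ρ'.r ⁻¹ᵁ (BF.WW U hU (QCohExtn.ap ι₁ U e)) = ⊥ := by
  apply eq_bot_of_isGen_zero (L := L')
  have h := ρ'.isGen_sb U hU (QCohExtn.ap ι₁ U e)
  rw [sb_map_comp] at h
  have h0 : QCohExtn.ap π₂ U (QCohExtn.ap ι₁ U e) = 0 := by
    have := Groth.Agent.Lib.ConeSP.app_congr h12 U e
    exact this
  rw [h0, sb_zero, map_zero] at h
  exact h

include h21 in
/-- The first classifying map misses `D_+(ι₂ e')`. -/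
theorem preimage_WW_inr_eq_bot (U : Y.Opens) (hU : IsAffineOpen U) (e' : Γ(E', U)) :
    ρ.r ⁻¹ᵁ (BF.WW U hU (QCohExtn.ap ι₂ U e')) = ⊥ := by
  apply eq_bot_of_isGen_zero (L := L)
  have h := ρ.isGen_sb U hU (QCohExtn.ap ι₂ U e')
  rw [sb_map_comp] at h
  have h0 : QCohExtn.ap π₁ U (QCohExtn.ap ι₂ U e') = 0 := by
    have := Groth.Agent.Lib.ConeSP.app_congr h21 U e'
    exact this
  rw [h0, sb_zero, map_zero] at h
  exact h

include htot h12 h21 in
/-- **The classifying map of a disjoint union into `P(E ⊕ E')` is an immersion.** -/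
theorem isImmersion_coprod_desc [IsImmersion ρ.r] [IsImmersion ρ'.r] :
    IsImmersion (coprod.desc ρ.r ρ'.r) := by
  apply IsZariskiLocalAtTarget.of_forall_exists_morphismRestrict (P := @IsImmersion)
  intro z
  obtain ⟨U, hU, hzU, -⟩ := Opens.isBasis_iff_nbhd.mp Y.isBasis_affineOpens
    (Opens.mem_top (BF.p z))
  have hUa : IsAffineOpen U := hU
  obtain ⟨t, hz⟩ := exists_mem_WW F BF.𝒮 BF.j BF.hj BF.p BF.chart U hUa z hzU
  have ht : t = QCohExtn.ap ι₁ U (QCohExtn.ap π₁ U t) + QCohExtn.ap ι₂ U (QCohExtn.ap π₂ U t) := by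
    have := Groth.Agent.Lib.ConeSP.app_congr htot U t
    exact this.symm
  rw [mem_WW_iff F BF.𝒮 BF.j BF.p BF.chart U hUa t z hzU] at hz
  have hor : z ∈ BF.WW U hUa (QCohExtn.ap ι₁ U (QCohExtn.ap π₁ U t)) ∨
      z ∈ BF.WW U hUa (QCohExtn.ap ι₂ U (QCohExtn.ap π₂ U t)) := by
    by_contra hcon
    push Not at hcon
    obtain ⟨hc1, hc2⟩ := hcon
    rw [PB.WW, mem_WW_iff F BF.𝒮 BF.j BF.p BF.chart U hUa _ z hzU, not_not] at hc1 hc2
    apply hz
    rw [ht, map_add]
    exact add_mem hc1 hc2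
  rcases hor with h | h
  · exact ⟨BF.WW U hUa _, h, isImmersion_restrict_desc_left ρ.r ρ'.r _
      (preimage_WW_inl_eq_bot BF π₂ ι₁ h12 ρ' U hUa _)⟩
  · exact ⟨BF.WW U hUa _, h, isImmersion_restrict_desc_right ρ.r ρ'.r _
      (preimage_WW_inr_eq_bot BF π₁ ι₂ h21 ρ U hUa _)⟩

end immersion

end Groth.Agent.VADisj
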