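import Mathlib
import Groth.Prelude
import Groth.Agent.Lib.ProjUP2_helper5
import Groth.Agent.Lib.FinCov5_helper8
import Groth.Agent.Lib.Tens14_helper8
import Groth.Agent.Lib.Tens7_helper8

/-!
# Very ample modules on a disjoint union, part 2: glueing isomorphisms of invertible modules
(helper5).  APPEND-ONLY once landed.
-/

set_option autoImplicit false
universe u
open CategoryTheory CategoryTheory.Limits AlgebraicGeometry TopologicalSpace Opposite

noncomputable section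

namespace Groth.Agent.VADisj

open QcqsLoc QCohExtn GenLocH8 TensH8 Scheme.Modules

section same
variable {U Z : Scheme.{u}} (j : U ⟶ Z) [IsOpenImmersion j] {M N : Z.Modules}
  (α : M.restrict j ≅ N.restrict j)

/-- An isomorphism of the restrictions respects the transition functions on the piece. -/
theorem compat_same {W W₂ : U.Opens} (e : Γ(M.restrict j, W)) (e₂ : Γ(M.restrict j, W₂))
    {Q : Z.Opens} (hQ1 : Q ≤ j ''ᵁ W) (hQ2 : Q ≤ j ''ᵁ W₂) (c : Γ(Z, Q))
    (h : rF M hQ1 (show Γ(M, j ''ᵁ W) from e) = c • rF M hQ2 (show Γ(M, j ''ᵁ W₂) from e₂)) :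
    rF N hQ1 (show Γ(N, j ''ᵁ W) from ap α.hom W e) =
      c • rF N hQ2 (show Γ(N, j ''ᵁ W₂) from ap α.hom W₂ e₂) := by
  obtain ⟨O', hO'W, rfl⟩ := exists_eq_image j hQ1
  have hO'W₂ : O' ≤ W₂ := (j.image_le_image_iff _ _).mp hQ2
  have h' : rF (M.restrict j) hO'W e =
      ((j.appIso O').hom.hom c) • rF (M.restrict j) hO'W₂ e₂ := by
    rw [rF_restrict, rF_restrict, smul_restrict, appIso_inv_hom]
    exact h
  have h2 := congrArg (ap α.hom O') h'
  rw [ap_rF, ap_smul, ap_rF, rF_restrict, rF_restrict, smul_restrict, appIso_inv_hom] at h2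
  exact h2

end same

section glue
variable {X X' : Scheme.{u}} {M N : (X ⨿ X').Modules}
  (α : M.restrict (coprod.inl : X ⟶ X ⨿ X') ≅ N.restrict (coprod.inl : X ⟶ X ⨿ X'))
  (α' : M.restrict (coprod.inr : X' ⟶ X ⨿ X') ≅ N.restrict (coprod.inr : X' ⟶ X ⨿ X'))

theorem not_mem_inl_inr {W : X.Opens} {W' : X'.Opens} (z : ↥(X ⨿ X'))
    (hz : z ∈ (coprod.inl : X ⟶ X ⨿ X') ''ᵁ W ⊓ (coprod.inr : X' ⟶ X ⨿ X') ''ᵁ W') : False := by
  obtain ⟨⟨x, -, hx⟩, ⟨x', -, hx'⟩⟩ := hz
  exact inl_ne_inr X X' x x' (hx.trans hx'.symm)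

/-- The index type of the glueing data. -/
abbrev GlueIdx (M : (X ⨿ X').Modules) : Type u :=
  (Σ W : X.Opens, {e : Γ(M.restrict (coprod.inl : X ⟶ X ⨿ X'), W) //
    IsGen (M.restrict (coprod.inl : X ⟶ X ⨿ X')) W e}) ⊕
  (Σ W : X'.Opens, {e : Γ(M.restrict (coprod.inr : X' ⟶ X ⨿ X'), W) //
    IsGen (M.restrict (coprod.inr : X' ⟶ X ⨿ X')) W e})

/-- The opens of the glueing data. -/
def glueO : GlueIdx M → (X ⨿ X').Opens
  | Sum.inl a => (coprod.inl : X ⟶ X ⨿ X') ''ᵁ a.1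
  | Sum.inr b => (coprod.inr : X' ⟶ X ⨿ X') ''ᵁ b.1

/-- The generators of `M`. -/
def glueE : ∀ k : GlueIdx M, Γ(M, glueO k)
  | Sum.inl a => (show Γ(M, (coprod.inl : X ⟶ X ⨿ X') ''ᵁ a.1) from a.2.1)
  | Sum.inr b => (show Γ(M, (coprod.inr : X' ⟶ X ⨿ X') ''ᵁ b.1) from b.2.1)

/-- The generators of `N`. -/
def glueM : ∀ k : GlueIdx M, Γ(N, glueO k)
  | Sum.inl a => (show Γ(N, (coprod.inl : X ⟶ X ⨿ X') ''ᵁ a.1) from ap α.hom a.1 a.2.1)
  | Sum.inr b => (show Γ(N, (coprod.inr : X' ⟶ X ⨿ X') ''ᵁ b.1) from ap α'.hom b.1 b.2.1)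

/-- The local frame glueing two isomorphisms on the pieces of a disjoint union. -/
def glueLocalFrame (hM : PicF.IsInvertible M) : LocalFrame M N 1 where
  ι := GlueIdx M
  O := glueO
  e := glueE
  m := glueM α α'
  he k := by
    rcases k with a | b
    · exact isGen_of_restrict (coprod.inl : X ⟶ X ⨿ X') M a.2.1 a.2.2
    · exact isGen_of_restrict (coprod.inr : X' ⟶ X ⨿ X') M b.2.1 b.2.2
  hm k := by
    rcases k with a | b
    · exact isGen_of_restrict (coprod.inl : X ⟶ X ⨿ X') N _ (isGen_of_iso α a.2.2)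
    · exact isGen_of_restrict (coprod.inr : X' ⟶ X ⨿ X') N _ (isGen_of_iso α' b.2.2)
  cover z := by
    obtain ⟨(x | x'), rfl⟩ := (coprodMk X X').surjective z
    · obtain ⟨W, -, hxW, e, he⟩ :=
        exists_isGen (isInvertible_restrict (coprod.inl : X ⟶ X ⨿ X') hM) x
      refine ⟨Sum.inl ⟨W, e, he⟩, ?_⟩
      rw [coprodMk_inl]
      exact ⟨x, hxW, rfl⟩
    · obtain ⟨W, -, hxW, e, he⟩ :=
        exists_isGen (isInvertible_restrict (coprod.inr : X' ⟶ X ⨿ X') hM) x'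
      refine ⟨Sum.inr ⟨W, e, he⟩, ?_⟩
      rw [coprodMk_inr]
      exact ⟨x', hxW, rfl⟩
  compat k l c h := by
    rw [pow_one]
    rcases k with a | b <;> rcases l with a₂ | b₂
    · exact compat_same (coprod.inl : X ⟶ X ⨿ X') α a.2.1 a₂.2.1 inf_le_left inf_le_right c h
    · apply FLFH8.section_ext_cover
      intro z hz
      exact (not_mem_inl_inr z hz).elim
    · apply FLFH8.section_ext_cover
      intro z hz
      exact (not_mem_inl_inr z ⟨hz.2, hz.1⟩).elim
    · exact compat_same (coprod.inr : X' ⟶ X ⨿ X') α' b.2.1 b₂.2.1 inf_le_left inf_le_right c h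

include α α' in
/-- **Invertible modules on a disjoint union with isomorphic restrictions to both pieces are
isomorphic.** -/
theorem nonempty_iso_of_restrict (hM : PicF.IsInvertible M) : Nonempty (M ≅ N) := by
  obtain ⟨θ, -⟩ := Groth.Agent.ProjUPE.exists_iso (glueLocalFrame α α' hM)
  exact ⟨θ⟩

end glue

end Groth.Agent.VADisj
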