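import Mathlib
import Groth.Prelude
import Groth.Agent.Lib.VADisj1_helper5
import Groth.Agent.Lib.VADisj2_helper5
import Groth.Agent.Lib.VATens12_helper5
import Groth.Agent.Lib.QCAlgMod_helper9

/-!
# Very ample modules on a disjoint union, part 3: the theorem (EGA II 4.4.10 (iv))  (helper5).
APPEND-ONLY once landed.
-/

set_option autoImplicit false
universe u
open CategoryTheory CategoryTheory.Limits AlgebraicGeometry TopologicalSpace Opposite
open scoped HomogeneousIdeal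

noncomputable section

namespace Groth.Agent.VADisj

open QcqsLoc QCohExtn GenLocH8 TensH8 Scheme.Modules Groth.Agent.UPB Groth.Agent.SymSum
  Groth.Agent.VATens

/-- **Very ample on a disjoint union from very ample on both pieces.** -/
theorem isRelVeryAmple_coprod {X X' Y : Scheme.{u}} (f'' : X ⨿ X' ⟶ Y)
    (L'' : (X ⨿ X').Modules) (hL'' : PicF.IsInvertible L'')
    (h₁ : RelProj.IsRelVeryAmple (coprod.inl ≫ f'')
      ((Scheme.Modules.pullback (coprod.inl : X ⟶ X ⨿ X')).obj L''))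
    (h₂ : RelProj.IsRelVeryAmple (coprod.inr ≫ f'')
      ((Scheme.Modules.pullback (coprod.inr : X' ⟶ X ⨿ X')).obj L'')) :
    RelProj.IsRelVeryAmple f'' L'' := by
  obtain ⟨E, hE, B, i, hi, himm, ⟨ι⟩⟩ := exists_PB_data_of_veryAmple _ _ h₁
  obtain ⟨E', hE', B', i', hi', himm', ⟨ι'⟩⟩ := exists_PB_data_of_veryAmple _ _ h₂
  haveI := hE
  haveI := hE'
  haveI hF : (E ⊞ E').IsQuasicoherent := QCAlgMod.isQuasicoherent_biprod E E'
  have hL₁ : PicF.IsInvertible ((Scheme.Modules.pullback (coprod.inl : X ⟶ X ⨿ X')).obj L'') :=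
    isInvertible_pullback _ hL''
  have hL₂ : PicF.IsInvertible ((Scheme.Modules.pullback (coprod.inr : X' ⟶ X ⨿ X')).obj L'') :=
    isInvertible_pullback _ hL''
  obtain ⟨𝒮, j, hj, P, p, chart, hP, O1, lam, hO1, φ, hφ, -, -⟩ :=
    Groth.Agent.PBundle.exists_projBundle (E ⊞ E')
  let BF : PB (E ⊞ E') := ⟨𝒮, j, hj, P, p, chart, hP, O1, lam, hO1, φ, hφ⟩
  -- the first piece
  haveI : (Scheme.Modules.pullback (coprod.inl ≫ f'')).PreservesEpimorphisms :=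
    Functor.preservesEpimorphisms_of_adjunction (pullbackPushforwardAdjunction _)
  haveI : Epi ((Scheme.Modules.pullback (coprod.inl ≫ f'')).map (biprod.fst : E ⊞ E' ⟶ E)) :=
    (Scheme.Modules.pullback (coprod.inl ≫ f'')).map_epi _
  obtain ⟨r₁, hr₁, τ₁, hτ₁⟩ := exists_r_tau (E ⊞ E') 𝒮 j hj p chart hP O1 lam hO1 φ hφ
    (coprod.inl ≫ f'') _ hL₁
    ((Scheme.Modules.pullback (coprod.inl ≫ f'')).map (biprod.fst : E ⊞ E' ⟶ E) ≫
      sigOf B i hi ι)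
  let ρ₁ : PBMap BF (coprod.inl ≫ f'') _
      ((Scheme.Modules.pullback (coprod.inl ≫ f'')).map (biprod.fst : E ⊞ E' ⟶ E) ≫
        sigOf B i hi ι) :=
    ⟨r₁, hr₁, (pullbackPushforwardAdjunction r₁).homEquiv O1 _ τ₁.hom,
      nu_of_tau (E ⊞ E') p O1 φ (coprod.inl ≫ f'') _ _ r₁ hr₁ τ₁.hom hτ₁, by
        rw [Equiv.symm_apply_apply]; infer_instance⟩
  haveI : IsImmersion (PBMap.ofIso B i hi ι).r := himm
  haveI himm₁ : IsImmersion ρ₁.r := isImmersion_of_quotient (biprod.fst : E ⊞ E' ⟶ E) ρ₁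
    (PBMap.ofIso B i hi ι)
  -- the second piece
  haveI : (Scheme.Modules.pullback (coprod.inr ≫ f'')).PreservesEpimorphisms :=
    Functor.preservesEpimorphisms_of_adjunction (pullbackPushforwardAdjunction _)
  haveI : Epi ((Scheme.Modules.pullback (coprod.inr ≫ f'')).map (biprod.snd : E ⊞ E' ⟶ E')) :=
    (Scheme.Modules.pullback (coprod.inr ≫ f'')).map_epi _
  obtain ⟨r₂, hr₂, τ₂, hτ₂⟩ := exists_r_tau (E ⊞ E') 𝒮 j hj p chart hP O1 lam hO1 φ hφ
    (coprod.inr ≫ f'') _ hL₂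
    ((Scheme.Modules.pullback (coprod.inr ≫ f'')).map (biprod.snd : E ⊞ E' ⟶ E') ≫
      sigOf B' i' hi' ι')
  let ρ₂ : PBMap BF (coprod.inr ≫ f'') _
      ((Scheme.Modules.pullback (coprod.inr ≫ f'')).map (biprod.snd : E ⊞ E' ⟶ E') ≫
        sigOf B' i' hi' ι') :=
    ⟨r₂, hr₂, (pullbackPushforwardAdjunction r₂).homEquiv O1 _ τ₂.hom,
      nu_of_tau (E ⊞ E') p O1 φ (coprod.inr ≫ f'') _ _ r₂ hr₂ τ₂.hom hτ₂, by
        rw [Equiv.symm_apply_apply]; infer_instance⟩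
  haveI : IsImmersion (PBMap.ofIso B' i' hi' ι').r := himm'
  haveI himm₂ : IsImmersion ρ₂.r := isImmersion_of_quotient (biprod.snd : E ⊞ E' ⟶ E') ρ₂
    (PBMap.ofIso B' i' hi' ι')
  -- the joint morphism
  have himm_g : IsImmersion (coprod.desc ρ₁.r ρ₂.r) :=
    isImmersion_coprod_desc BF biprod.fst biprod.snd biprod.inl biprod.inr biprod.total
      biprod.inl_snd biprod.inr_fst ρ₁ ρ₂
  have hg : coprod.desc r₁ r₂ ≫ p = f'' := by
    apply coprod.hom_ext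
    · rw [coprod.inl_desc_assoc, hr₁]
    · rw [coprod.inr_desc_assoc, hr₂]
  have hg₁ : (coprod.inl : X ⟶ X ⨿ X') ≫ coprod.desc r₁ r₂ = r₁ := coprod.inl_desc _ _
  have hg₂ : (coprod.inr : X' ⟶ X ⨿ X') ≫ coprod.desc r₁ r₂ = r₂ := coprod.inr_desc _ _
  obtain ⟨θ⟩ := nonempty_iso_of_restrict (M := L'')
    (N := (Scheme.Modules.pullback (coprod.desc r₁ r₂)).obj O1)
    ((restrictFunctorIsoPullback (coprod.inl : X ⟶ X ⨿ X')).app L'' ≪≫ τ₁.symm ≪≫
      (pullbackCongr hg₁).symm.app O1 ≪≫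
      (pullbackComp (coprod.inl : X ⟶ X ⨿ X') (coprod.desc r₁ r₂)).symm.app O1 ≪≫
      ((restrictFunctorIsoPullback (coprod.inl : X ⟶ X ⨿ X')).app
        ((Scheme.Modules.pullback (coprod.desc r₁ r₂)).obj O1)).symm)
    ((restrictFunctorIsoPullback (coprod.inr : X' ⟶ X ⨿ X')).app L'' ≪≫ τ₂.symm ≪≫
      (pullbackCongr hg₂).symm.app O1 ≪≫
      (pullbackComp (coprod.inr : X' ⟶ X ⨿ X') (coprod.desc r₁ r₂)).symm.app O1 ≪≫
      ((restrictFunctorIsoPullback (coprod.inr : X' ⟶ X ⨿ X')).app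
        ((Scheme.Modules.pullback (coprod.desc r₁ r₂)).obj O1)).symm) hL''
  exact ⟨E ⊞ E', hF, 𝒮, j, hj, P, p, chart, hP, O1, lam, hO1, coprod.desc r₁ r₂, himm_g, hg, ⟨θ⟩⟩

/-- **Very ample on the pieces of a disjoint union.** -/
theorem isRelVeryAmple_inl_inr {X X' Y : Scheme.{u}} (f'' : X ⨿ X' ⟶ Y)
    (L'' : (X ⨿ X').Modules) (h : RelProj.IsRelVeryAmple f'' L'') :
    RelProj.IsRelVeryAmple (coprod.inl ≫ f'')
        ((Scheme.Modules.pullback (coprod.inl : X ⟶ X ⨿ X')).obj L'') ∧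
      RelProj.IsRelVeryAmple (coprod.inr ≫ f'')
        ((Scheme.Modules.pullback (coprod.inr : X' ⟶ X ⨿ X')).obj L'') := by
  obtain ⟨E, hE, 𝒮, j, hj, P, p, chart, hP, O1, lam, hO1, i, himm, hip, ⟨e⟩⟩ := h
  haveI := himm
  refine ⟨⟨E, hE, 𝒮, j, hj, P, p, chart, hP, O1, lam, hO1, coprod.inl ≫ i, inferInstance, ?_, ⟨?_⟩⟩,
    ⟨E, hE, 𝒮, j, hj, P, p, chart, hP, O1, lam, hO1, coprod.inr ≫ i, inferInstance, ?_, ⟨?_⟩⟩⟩
  · rw [Category.assoc, hip]
  · exact (Scheme.Modules.pullback _).mapIso e ≪≫ (pullbackComp _ i).app O1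
  · rw [Category.assoc, hip]
  · exact (Scheme.Modules.pullback _).mapIso e ≪≫ (pullbackComp _ i).app O1

end Groth.Agent.VADisj
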