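import Mathlib
import Groth.Prelude
import Groth.Agent.Lib.VATens12_helper5
import Groth.Agent.Lib.VA85_helper5
import Groth.Agent.Lib.PBProj2_helper5
import Groth.Agent.Lib.ClProj4_helper5
import Groth.Agent.Lib.ProjMorph1_helper5
import Groth.Agent.Lib.Fpqc1_helper8
import Groth.Agent.Lib.TensQC3_helper8

/-!
# Products of projective morphisms are projective  (helper5).  APPEND-ONLY once landed.
-/

set_option autoImplicit false
universe u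
open CategoryTheory CategoryTheory.Limits AlgebraicGeometry TopologicalSpace Opposite
open scoped HomogeneousIdeal

noncomputable section

namespace Groth.Agent.VATens

open QcqsLoc QCohExtn GenLocH8 TensH8 Scheme.Modules Groth.Agent.UPB

section mainJoint
variable {X Y : Scheme.{u}} (q : X ⟶ Y) {L₁ L₂ : X.Modules} {E₁ E₂ : Y.Modules}
  [E₁.IsQuasicoherent] [E₂.IsQuasicoherent]

/-- The joint-immersion theorem, with the data exposed. -/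
theorem exists_joint_immersion (hL₁ : PicF.IsInvertible L₁) (hL₂ : PicF.IsInvertible L₂)
    (B₁ : PB E₁) (B₂ : PB E₂) (i₁ : X ⟶ B₁.P) (h₁ : i₁ ≫ B₁.p = q)
    (ι₁ : L₁ ≅ (Scheme.Modules.pullback i₁).obj B₁.O1)
    (i₂ : X ⟶ B₂.P) (h₂ : i₂ ≫ B₂.p = q)
    (ι₂ : L₂ ≅ (Scheme.Modules.pullback i₂).obj B₂.O1)
    (hjoint : IsImmersion (pullback.lift i₁ i₂ (h₁.trans h₂.symm))) :
    ∃ (BQ : PB (CohB1.tensorMod E₁ E₂)) (r : X ⟶ BQ.P), r ≫ BQ.p = q ∧ IsImmersion r ∧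
      Nonempty ((Scheme.Modules.pullback r).obj BQ.O1 ≅ CohB1.tensorMod L₁ L₂) := by
  obtain ⟨𝒯, k, hk, Q, pQ, chartQ, hQ, O1Q, lamQ, hO1Q, φQ, hφQ, -, -⟩ :=
    Groth.Agent.PBundle.exists_projBundle (CohB1.tensorMod E₁ E₂)
  have hLL' : PicF.IsInvertible (CohB1.tensorMod L₁ L₂) := isInvertible_tensorMod hL₁ hL₂
  haveI : Epi (sTens q E₁ E₂ L₁ L₂ (sigOf B₁ i₁ h₁ ι₁) (sigOf B₂ i₂ h₂ ι₂)) :=
    epi_sTens q E₁ E₂ L₁ L₂ _ _ hL₁ hL₂
  obtain ⟨r, hr, τ, hτ⟩ := exists_r_tau (CohB1.tensorMod E₁ E₂) 𝒯 k hk pQ chartQ hQ O1Q lamQ hO1Q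
    φQ hφQ q (CohB1.tensorMod L₁ L₂) hLL'
    (sTens q E₁ E₂ L₁ L₂ (sigOf B₁ i₁ h₁ ι₁) (sigOf B₂ i₂ h₂ ι₂))
  let BQ : PB (CohB1.tensorMod E₁ E₂) := ⟨𝒯, k, hk, Q, pQ, chartQ, hQ, O1Q, lamQ, hO1Q, φQ, hφQ⟩
  let ρr : PBMap BQ q (CohB1.tensorMod L₁ L₂)
      (sTens q E₁ E₂ L₁ L₂ (sigOf B₁ i₁ h₁ ι₁) (sigOf B₂ i₂ h₂ ι₂)) :=
    ⟨r, hr, (pullbackPushforwardAdjunction r).homEquiv O1Q _ τ.hom,
      nu_of_tau (CohB1.tensorMod E₁ E₂) pQ O1Q φQ q _ _ r hr τ.hom hτ, by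
        rw [Equiv.symm_apply_apply]; infer_instance⟩
  have himm_r : IsImmersion r :=
    isImmersion_r_of_joint hL₁ hL₂ (PBMap.ofIso B₁ i₁ h₁ ι₁) (PBMap.ofIso B₂ i₂ h₂ ι₂) ρr hjoint
  exact ⟨BQ, r, hr, himm_r, ⟨τ⟩⟩

end mainJoint

/-- The product of two immersions into projective bundles gives an immersion of the fibre product
into the projective bundle of the external tensor product. -/
theorem exists_externalTensor_immersion {S X₁ X₂ Y₁ Y₂ P Q : Scheme.{u}} (y₁ : Y₁ ⟶ S)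
    (y₂ : Y₂ ⟶ S) (f₁ : X₁ ⟶ Y₁) (f₂ : X₂ ⟶ Y₂) (p₁ : P ⟶ X₁) (p₂ : P ⟶ X₂)
    (hP : IsPullback p₁ p₂ (f₁ ≫ y₁) (f₂ ≫ y₂))
    (q₁ : Q ⟶ Y₁) (q₂ : Q ⟶ Y₂) (hQ : IsPullback q₁ q₂ y₁ y₂) (h : P ⟶ Q)
    (hh₁ : h ≫ q₁ = p₁ ≫ f₁) (hh₂ : h ≫ q₂ = p₂ ≫ f₂)
    {E₁ : Y₁.Modules} [E₁.IsQuasicoherent] (B₁ : PB E₁) (i₁ : X₁ ⟶ B₁.P) (hi₁ : i₁ ≫ B₁.p = f₁)
    (himm₁ : IsImmersion i₁)
    {E₂ : Y₂.Modules} [E₂.IsQuasicoherent] (B₂ : PB E₂) (i₂ : X₂ ⟶ B₂.P) (hi₂ : i₂ ≫ B₂.p = f₂)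
    (himm₂ : IsImmersion i₂) :
    ∃ (BQ : PB (CohB1.tensorMod ((Scheme.Modules.pullback q₁).obj E₁)
        ((Scheme.Modules.pullback q₂).obj E₂))) (r : P ⟶ BQ.P), r ≫ BQ.p = h ∧ IsImmersion r := by
  obtain ⟨B₁', hb₁, i₁', hpb₁, hib₁, hip₁, ⟨ι₁⟩⟩ :=
    exists_baseChange_data f₁ q₁ p₁ h hh₁.symm B₁ i₁ hi₁ (Iso.refl _)
  obtain ⟨B₂', hb₂, i₂', hpb₂, hib₂, hip₂, ⟨ι₂⟩⟩ :=
    exists_baseChange_data f₂ q₂ p₂ h hh₂.symm B₂ i₂ hi₂ (Iso.refl _)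
  haveI : ((Scheme.Modules.pullback q₁).obj E₁).IsQuasicoherent :=
    PBH8.isQuasicoherent_pullback q₁ E₁
  haveI : ((Scheme.Modules.pullback q₂).obj E₂).IsQuasicoherent :=
    PBH8.isQuasicoherent_pullback q₂ E₂
  have hL₁ : PicF.IsInvertible ((Scheme.Modules.pullback i₁).obj B₁.O1) :=
    isInvertible_pullback i₁ B₁.isInvertible_O1
  have hL₂ : PicF.IsInvertible ((Scheme.Modules.pullback i₂).obj B₂.O1) :=
    isInvertible_pullback i₂ B₂.isInvertible_O1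
  suffices hjoint : IsImmersion (pullback.lift i₁' i₂' (hip₁.trans hip₂.symm)) by
    obtain ⟨BQ, r, hr, himm, -⟩ := exists_joint_immersion h (isInvertible_pullback p₁ hL₁)
      (isInvertible_pullback p₂ hL₂) B₁' B₂' i₁' hip₁ ι₁ i₂' hip₂ ι₂ hjoint
    exact ⟨BQ, r, hr, himm⟩
  -- the joint morphism is an immersion: compose with the projection to `P(E₁) ×_S P(E₂)`
  have eq₁ : B₁'.p ≫ (q₁ ≫ y₁) = hb₁ ≫ (B₁.p ≫ y₁) := by
    rw [← Category.assoc, ← hpb₁.w, Category.assoc]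
  have eq₂ : B₂'.p ≫ (q₁ ≫ y₁) = hb₂ ≫ (B₂.p ≫ y₂) := by
    rw [hQ.w, ← Category.assoc, ← hpb₂.w, Category.assoc]
  have hcomp : pullback.lift i₁' i₂' (hip₁.trans hip₂.symm) ≫
      pullback.map B₁'.p B₂'.p (B₁.p ≫ y₁) (B₂.p ≫ y₂) hb₁ hb₂ (q₁ ≫ y₁) eq₁ eq₂ =
      hP.isoPullback.hom ≫ pullback.map (f₁ ≫ y₁) (f₂ ≫ y₂) (B₁.p ≫ y₁) (B₂.p ≫ y₂) i₁ i₂ (𝟙 S)
        ((Category.comp_id _).trans (by rw [← Category.assoc, hi₁]))
        ((Category.comp_id _).trans (by rw [← Category.assoc, hi₂])) := by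
    have m1 : pullback.map B₁'.p B₂'.p (B₁.p ≫ y₁) (B₂.p ≫ y₂) hb₁ hb₂ (q₁ ≫ y₁) eq₁ eq₂ ≫
        pullback.fst (B₁.p ≫ y₁) (B₂.p ≫ y₂) = pullback.fst B₁'.p B₂'.p ≫ hb₁ :=
      pullback.lift_fst _ _ _
    have m2 : pullback.map B₁'.p B₂'.p (B₁.p ≫ y₁) (B₂.p ≫ y₂) hb₁ hb₂ (q₁ ≫ y₁) eq₁ eq₂ ≫
        pullback.snd (B₁.p ≫ y₁) (B₂.p ≫ y₂) = pullback.snd B₁'.p B₂'.p ≫ hb₂ :=
      pullback.lift_snd _ _ _
    have n1 : pullback.map (f₁ ≫ y₁) (f₂ ≫ y₂) (B₁.p ≫ y₁) (B₂.p ≫ y₂) i₁ i₂ (𝟙 S)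
        ((Category.comp_id _).trans (by rw [← Category.assoc, hi₁]))
        ((Category.comp_id _).trans (by rw [← Category.assoc, hi₂])) ≫
        pullback.fst (B₁.p ≫ y₁) (B₂.p ≫ y₂) = pullback.fst (f₁ ≫ y₁) (f₂ ≫ y₂) ≫ i₁ :=
      pullback.lift_fst _ _ _
    have n2 : pullback.map (f₁ ≫ y₁) (f₂ ≫ y₂) (B₁.p ≫ y₁) (B₂.p ≫ y₂) i₁ i₂ (𝟙 S)
        ((Category.comp_id _).trans (by rw [← Category.assoc, hi₁]))
        ((Category.comp_id _).trans (by rw [← Category.assoc, hi₂])) ≫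
        pullback.snd (B₁.p ≫ y₁) (B₂.p ≫ y₂) = pullback.snd (f₁ ≫ y₁) (f₂ ≫ y₂) ≫ i₂ :=
      pullback.lift_snd _ _ _
    apply pullback.hom_ext
    · rw [Category.assoc, Category.assoc, m1, n1, pullback.lift_fst_assoc, hib₁,
        hP.isoPullback_hom_fst_assoc]
    · rw [Category.assoc, Category.assoc, m2, n2, pullback.lift_snd_assoc, hib₂,
        hP.isoPullback_hom_snd_assoc]
  haveI : IsImmersion (pullback.map (f₁ ≫ y₁) (f₂ ≫ y₂) (B₁.p ≫ y₁) (B₂.p ≫ y₂) i₁ i₂ (𝟙 S)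
      ((Category.comp_id _).trans (by rw [← Category.assoc, hi₁]))
      ((Category.comp_id _).trans (by rw [← Category.assoc, hi₂]))) :=
    MorphismProperty.pullbackMap (P := @IsImmersion) himm₁ himm₂
      (by rw [← Category.assoc, hi₁]) (by rw [← Category.assoc, hi₂])
  haveI : IsImmersion (pullback.lift i₁' i₂' (hip₁.trans hip₂.symm) ≫
      pullback.map B₁'.p B₂'.p (B₁.p ≫ y₁) (B₂.p ≫ y₂) hb₁ hb₂ (q₁ ≫ y₁) eq₁ eq₂) := by
    rw [hcomp]; infer_instance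
  exact IsImmersion.of_comp (pullback.lift i₁' i₂' (hip₁.trans hip₂.symm))
    (pullback.map B₁'.p B₂'.p (B₁.p ≫ y₁) (B₂.p ≫ y₂) hb₁ hb₂ (q₁ ≫ y₁) eq₁ eq₂)

/-- A projective morphism is a closed immersion into the projective bundle of a quasi-coherent
module of finite type. -/
theorem exists_closedImmersion_of_isProjective {X Y : Scheme.{u}} (f : X ⟶ Y)
    (hf : RelProj.IsProjective f) :
    ∃ (E : Y.Modules) (_ : E.IsQuasicoherent)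
      (_ : SheafOfModules.IsFiniteType (R := Y.ringCatSheaf) E) (B : PB E) (i : X ⟶ B.P),
      i ≫ B.p = f ∧ IsClosedImmersion i := by
  obtain ⟨𝒮, P₀, p₀, chart, e, hgen, hft, hP₀, he⟩ := hf
  have hO1 := Groth.Agent.RelTwEx.isRelTwist_relTwist hP₀ 1
  obtain ⟨𝒯, jT, hjT, PT, pT, chartT, hPT, O1T, lamT, hO1T, k, hk, hkp, -⟩ :=
    Groth.Agent.VA85.exists_closedImmersion 𝒮 hgen p₀ chart hP₀ _ _ hO1
  haveI hq := Groth.Agent.PBProj.isQuasicoherent_degMod 𝒮 1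
  obtain ⟨φ, hφ⟩ := Groth.Agent.CanPhi.exists_canPhi hPT hO1T jT hjT.2
  haveI := hk
  refine ⟨Groth.Agent.PBProj.degMod 𝒮 1, hq, Groth.Agent.PBProj.isFiniteType_degMod 𝒮 1 hft,
    ⟨𝒯, jT, hjT, PT, pT, chartT, hPT, O1T, lamT, hO1T, φ, hφ⟩, e.hom ≫ k, ?_, inferInstance⟩
  show (e.hom ≫ k) ≫ pT = f
  rw [Category.assoc, hkp, he]

/-- The projective bundle of a quasi-coherent module of finite type is projective over the
base. -/
theorem PB.isProjective_p {Y : Scheme.{u}} {E : Y.Modules} [E.IsQuasicoherent]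
    (hft : SheafOfModules.IsFiniteType (R := Y.ringCatSheaf) E) (B : PB E) :
    RelProj.IsProjective B.p :=
  ⟨B.𝒮, B.P, B.p, B.chart, Iso.refl _,
    Groth.Agent.PBProj.isGenDegOne_of_isGrSymAlg E B.𝒮 B.j B.hj,
    Groth.Agent.PBProj.isFTDeg_one_of_isGrSymAlg E B.𝒮 B.j B.hj hft, B.hP, Category.id_comp _⟩

/-- **EGA II 5.5.5 (iv)**: the product of two projective morphisms is projective. -/
theorem isProjective_pullbackMap {X X' Y Y' S : Scheme.{u}} (a : Y ⟶ S) (a' : Y' ⟶ S)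
    (f : X ⟶ Y) (f' : X' ⟶ Y') (hf : RelProj.IsProjective f) (hf' : RelProj.IsProjective f') :
    RelProj.IsProjective (pullback.map (f ≫ a) (f' ≫ a') a a' f f' (𝟙 S)
      (Category.comp_id (f ≫ a)) (Category.comp_id (f' ≫ a'))) := by
  obtain ⟨E₁, hE₁, hft₁, B₁, i₁, hi₁, hcl₁⟩ := exists_closedImmersion_of_isProjective f hf
  obtain ⟨E₂, hE₂, hft₂, B₂, i₂, hi₂, hcl₂⟩ := exists_closedImmersion_of_isProjective f' hf'
  haveI := hE₁
  haveI := hE₂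
  haveI := hcl₁
  haveI := hcl₂
  have hpr₁ : IsProper f := (Groth.Agent.ProjMorph.quasiProjective_and_proper f hf).2
  have hpr₂ : IsProper f' := (Groth.Agent.ProjMorph.quasiProjective_and_proper f' hf').2
  have hh₁ : pullback.map (f ≫ a) (f' ≫ a') a a' f f' (𝟙 S) (Category.comp_id (f ≫ a))
      (Category.comp_id (f' ≫ a')) ≫ pullback.fst a a' = pullback.fst (f ≫ a) (f' ≫ a') ≫ f :=
    pullback.lift_fst _ _ _
  have hh₂ : pullback.map (f ≫ a) (f' ≫ a') a a' f f' (𝟙 S) (Category.comp_id (f ≫ a))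
      (Category.comp_id (f' ≫ a')) ≫ pullback.snd a a' = pullback.snd (f ≫ a) (f' ≫ a') ≫ f' :=
    pullback.lift_snd _ _ _
  obtain ⟨BQ, r, hr, himm⟩ := exists_externalTensor_immersion a a' f f'
    (pullback.fst (f ≫ a) (f' ≫ a')) (pullback.snd (f ≫ a) (f' ≫ a'))
    (IsPullback.of_hasPullback _ _) (pullback.fst a a') (pullback.snd a a')
    (IsPullback.of_hasPullback _ _) _ hh₁ hh₂ B₁ i₁ hi₁ inferInstance B₂ i₂ hi₂ inferInstance
  haveI hq₁ : ((Scheme.Modules.pullback (pullback.fst a a')).obj E₁).IsQuasicoherent :=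
    PBH8.isQuasicoherent_pullback _ E₁
  haveI hq₂ : ((Scheme.Modules.pullback (pullback.snd a a')).obj E₂).IsQuasicoherent :=
    PBH8.isQuasicoherent_pullback _ E₂
  haveI := hft₁
  haveI := hft₂
  have hftQ : SheafOfModules.IsFiniteType (R := (pullback a a').ringCatSheaf)
      (CohB1.tensorMod ((Scheme.Modules.pullback (pullback.fst a a')).obj E₁)
        ((Scheme.Modules.pullback (pullback.snd a a')).obj E₂)) :=
    TensQCH8.isFiniteType_tensorMod _ _ (FpqcH8.isFiniteType_pullback _ _)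
      (FpqcH8.isFiniteType_pullback _ _)
  have hprojQ : RelProj.IsProjective BQ.p := BQ.isProjective_p hftQ
  haveI : IsProper BQ.p := (Groth.Agent.ProjMorph.quasiProjective_and_proper BQ.p hprojQ).2
  haveI : IsProper (pullback.map (f ≫ a) (f' ≫ a') a a' f f' (𝟙 S) (Category.comp_id (f ≫ a))
      (Category.comp_id (f' ≫ a'))) :=
    MorphismProperty.pullbackMap (P := @IsProper) hpr₁ hpr₂ rfl rfl
  haveI := himm
  haveI : IsProper (r ≫ BQ.p) := by rw [hr]; infer_instance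
  haveI : IsProper r := IsProper.of_comp r BQ.p
  haveI : IsClosedImmersion r := IsClosedImmersion.of_isPreimmersion r r.isClosedMap.isClosed_range
  rw [← hr]
  exact Groth.Agent.ClProj.isProjective_comp_of_isClosedImmersion r BQ.p hprojQ

end Groth.Agent.VATens
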