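import Mathlib
import Groth.Prelude
import Groth.Agent.Lib.FrameIso_helper5
import Groth.Agent.Lib.Tens16_helper8
import Groth.Agent.Lib.Tens9_helper8

/-!
# Two modules bi-framed with the same weights over a pair of invertible modules are isomorphic
(helper5).  APPEND-ONLY once landed.
-/

set_option autoImplicit false
universe u
open CategoryTheory AlgebraicGeometry TopologicalSpace Opposite

noncomputable section

namespace Groth.Agent.VATens

open QcqsLoc QCohExtn GenLocH8 TensH8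

variable {X : Scheme.{u}} {L L' M M' : X.Modules} {a b : ℕ}

/-- The local frame `M ⟶ M'` defined by two bi-frames of the same weights. -/
def localFrameOfFrame₂ (hL : PicF.IsInvertible L) (hL' : PicF.IsInvertible L')
    (Ψ : Frame₂ L L' M a b) (Ψ' : Frame₂ L L' M' a b) : LocalFrame M M' 1 where
  ι := Σ O : X.Opens, {p : Γ(L, O) × Γ(L', O) // IsGen L O p.1 ∧ IsGen L' O p.2}
  O k := k.1
  e k := Ψ.φ k.1 k.2.1.1 k.2.1.2
  m k := Ψ'.φ k.1 k.2.1.1 k.2.1.2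
  he k := Ψ.isGen k.2.2.1 k.2.2.2
  hm k := Ψ'.isGen k.2.2.1 k.2.2.2
  cover x := by
    obtain ⟨W, -, hxW, -, l, hl⟩ := exists_isGen_le hL x ⊤ (Opens.mem_top x)
    obtain ⟨W', -, hxW', hW'W, l', hl'⟩ := exists_isGen_le hL' x W hxW
    exact ⟨⟨W', ⟨(rF L hW'W l, l'), hl.res hW'W, hl'⟩⟩, hxW'⟩
  compat k l c h := by
    obtain ⟨O, ⟨⟨e, e'⟩, he, he'⟩⟩ := k
    obtain ⟨O₂, ⟨⟨e₂, e₂'⟩, he₂, he₂'⟩⟩ := l
    simp only at h ⊢
    have hQ1 : O ⊓ O₂ ≤ O := inf_le_left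
    have hQ2 : O ⊓ O₂ ≤ O₂ := inf_le_right
    obtain ⟨u, hu⟩ := (he₂.res hQ2).exists_coef (rF L hQ1 e)
    obtain ⟨u', hu'⟩ := (he₂'.res hQ2).exists_coef (rF L' hQ1 e')
    rw [Ψ.res, Ψ.res, hu, hu', Ψ.smul] at h
    have hc : u ^ a * u' ^ b = c :=
      TensH8.IsGen.coef_ext (Ψ.isGen (he₂.res hQ2) (he₂'.res hQ2)) h
    rw [Ψ'.res, Ψ'.res, hu, hu', Ψ'.smul, hc, pow_one]

/-- **Two modules bi-framed with the same weights are isomorphic.** -/
def frame2Iso (hL : PicF.IsInvertible L) (hL' : PicF.IsInvertible L') (hM : PicF.IsInvertible M)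
    (Ψ : Frame₂ L L' M a b) (Ψ' : Frame₂ L L' M' a b) : M ≅ M' :=
  Groth.Agent.FrameIso.iso hM (Frame.self M) (localFrameOfFrame₂ hL hL' Ψ Ψ').toFrame

end Groth.Agent.VATens
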