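import Mathlib
import Groth.Prelude
import Groth.Agent.Lib.VATens13_helper5
import Groth.Agent.Lib.VATens14_helper5
import Groth.Agent.Lib.VATens15_helper5
import Groth.Agent.Lib.VATens7_helper5
import Groth.Agent.Lib.QProj1_helper5
import Groth.Agent.Lib.Tens24_helper8
import Groth.Agent.S5727

/-!
# Very ampleness of `L ⊗ f^*K^{⊗ n}` for a composite `X ⟶ Y ⟶ Z`, over a quasi-compact
quasi-separated base  (helper5).  APPEND-ONLY once landed.
-/

set_option autoImplicit false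
universe u
open CategoryTheory CategoryTheory.Limits AlgebraicGeometry TopologicalSpace Opposite
open scoped HomogeneousIdeal

noncomputable section

namespace Groth.Agent.VATens

open QcqsLoc QCohExtn GenLocH8 TensH8 Scheme.Modules Groth.Agent.UPB

/-- **The key step**: `X ⟶ P_Y(E)` an immersion with `L = O(1)|X`, `g^*F ↠ E ⊗ K'` with `F`
quasi-coherent on `Z`, and `Y ⟶ P_Z(H)` an immersion with `K = O(1)|Y`: then
`(L ⊗ f^*K') ⊗ f^*K` is very ample for `X ⟶ Z`. -/
theorem isRelVeryAmple_comp_step {X Y Z : Scheme.{u}} (f : X ⟶ Y) (g : Y ⟶ Z)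
    {L : X.Modules} (hL : PicF.IsInvertible L) {E : Y.Modules} [E.IsQuasicoherent] (BE : PB E)
    (i : X ⟶ BE.P) (hi : i ≫ BE.p = f) [IsImmersion i]
    (ιL : L ≅ (Scheme.Modules.pullback i).obj BE.O1)
    {K K' : Y.Modules} (hK : PicF.IsInvertible K) (hK' : PicF.IsInvertible K')
    {F : Z.Modules} [F.IsQuasicoherent]
    (φ : (Scheme.Modules.pullback g).obj F ⟶ CohB1.tensorMod E K') [Epi φ]
    {H : Z.Modules} [H.IsQuasicoherent] (BH : PB H) (iY : Y ⟶ BH.P) (hiY : iY ≫ BH.p = g)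
    [IsImmersion iY] (ιK : K ≅ (Scheme.Modules.pullback iY).obj BH.O1) :
    RelProj.IsRelVeryAmple (f ≫ g)
      (CohB1.tensorMod (CohB1.tensorMod L ((Scheme.Modules.pullback f).obj K'))
        ((Scheme.Modules.pullback f).obj K)) := by
  haveI : K'.IsQuasicoherent := isQuasicoherent_of_isInvertible hK'
  haveI : ((Scheme.Modules.pullback g).obj F).IsQuasicoherent :=
    PBH8.isQuasicoherent_pullback g F
  have hL' : PicF.IsInvertible ((Scheme.Modules.pullback f).obj K') := isInvertible_pullback f hK'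
  have hLL' := isInvertible_tensorMod hL hL'
  -- Step A: `X ⟶ P_Y(E ⊗ K')`
  haveI : Epi (sTens f E K' L ((Scheme.Modules.pullback f).obj K') (sigOf BE i hi ιL) (𝟙 _)) :=
    epi_sTens f E K' L _ _ _ hL hL'
  obtain ⟨𝒯₁, k₁, hk₁, Q₁, pQ₁, chartQ₁, hQ₁, O1Q₁, lamQ₁, hO1Q₁, φQ₁, hφQ₁, -, -⟩ :=
    Groth.Agent.PBundle.exists_projBundle (CohB1.tensorMod E K')
  obtain ⟨r₁, hr₁, τ₁, hτ₁⟩ := exists_r_tau (CohB1.tensorMod E K') 𝒯₁ k₁ hk₁ pQ₁ chartQ₁ hQ₁ O1Q₁
    lamQ₁ hO1Q₁ φQ₁ hφQ₁ f _ hLL'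
    (sTens f E K' L ((Scheme.Modules.pullback f).obj K') (sigOf BE i hi ιL) (𝟙 _))
  let BQ₁ : PB (CohB1.tensorMod E K') :=
    ⟨𝒯₁, k₁, hk₁, Q₁, pQ₁, chartQ₁, hQ₁, O1Q₁, lamQ₁, hO1Q₁, φQ₁, hφQ₁⟩
  let ρr₁ : PBMap BQ₁ f (CohB1.tensorMod L ((Scheme.Modules.pullback f).obj K'))
      (sTens f E K' L ((Scheme.Modules.pullback f).obj K') (sigOf BE i hi ιL) (𝟙 _)) :=
    ⟨r₁, hr₁, (pullbackPushforwardAdjunction r₁).homEquiv O1Q₁ _ τ₁.hom,
      nu_of_tau (CohB1.tensorMod E K') pQ₁ O1Q₁ φQ₁ f _ _ r₁ hr₁ τ₁.hom hτ₁, by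
        rw [Equiv.symm_apply_apply]; infer_instance⟩
  haveI : IsImmersion (PBMap.ofIso BE i hi ιL).r := ‹IsImmersion i›
  haveI himm₁ : IsImmersion ρr₁.r := isImmersion_r hL hL' (PBMap.ofIso BE i hi ιL) ρr₁
  -- Step B: `X ⟶ P_Y(g^*F)`
  obtain ⟨𝒯F, kF, hkF, PF, pF, chartF, hPF, O1F, lamF, hO1F, φF, hφF, -, -⟩ :=
    Groth.Agent.PBundle.exists_projBundle F
  let BF : PB F := ⟨𝒯F, kF, hkF, PF, pF, chartF, hPF, O1F, lamF, hO1F, φF, hφF⟩
  obtain ⟨𝒯', k', hk', P', p', chart', hP', O1', lam', hO1', φ', hφ', -, -⟩ :=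
    Groth.Agent.PBundle.exists_projBundle ((Scheme.Modules.pullback g).obj F)
  obtain ⟨hb, hhb, τbc, hpb, -⟩ := Groth.Agent.PBBC.exists_bc g F 𝒯F kF hkF pF chartF hPF O1F
    lamF hO1F φF hφF 𝒯' k' hk' p' chart' hP' O1' lam' hO1' φ' hφ'
  haveI : (Scheme.Modules.pullback f).PreservesEpimorphisms :=
    Functor.preservesEpimorphisms_of_adjunction (pullbackPushforwardAdjunction f)
  haveI : Epi ((Scheme.Modules.pullback f).map φ) := (Scheme.Modules.pullback f).map_epi φ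
  obtain ⟨r', hr', τ', hτ'⟩ := exists_r_tau ((Scheme.Modules.pullback g).obj F) 𝒯' k' hk' p'
    chart' hP' O1' lam' hO1' φ' hφ' f _ hLL'
    ((Scheme.Modules.pullback f).map φ ≫
      sTens f E K' L ((Scheme.Modules.pullback f).obj K') (sigOf BE i hi ιL) (𝟙 _))
  let B' : PB ((Scheme.Modules.pullback g).obj F) :=
    ⟨𝒯', k', hk', P', p', chart', hP', O1', lam', hO1', φ', hφ'⟩
  let ρ' : PBMap B' f (CohB1.tensorMod L ((Scheme.Modules.pullback f).obj K'))
      ((Scheme.Modules.pullback f).map φ ≫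
        sTens f E K' L ((Scheme.Modules.pullback f).obj K') (sigOf BE i hi ιL) (𝟙 _)) :=
    ⟨r', hr', (pullbackPushforwardAdjunction r').homEquiv O1' _ τ'.hom,
      nu_of_tau ((Scheme.Modules.pullback g).obj F) p' O1' φ' f _ _ r' hr' τ'.hom hτ', by
        rw [Equiv.symm_apply_apply]; infer_instance⟩
  have himm' : IsImmersion r' := isImmersion_of_quotient φ ρ' ρr₁
  -- Step C: the joint immersion into `P_Z(F) ×_Z P_Z(H)`
  have h₁ : (r' ≫ hb) ≫ pF = f ≫ g := by
    rw [Category.assoc, hpb.w, ← Category.assoc, hr']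
  have h₂ : (f ≫ iY) ≫ BH.p = f ≫ g := by rw [Category.assoc, hiY]
  have hjoint : IsImmersion (pullback.lift (r' ≫ hb) (f ≫ iY) (h₁.trans h₂.symm) :
      X ⟶ pullback BF.p BH.p) := by
    have e₂ : p' ≫ iY ≫ BH.p = hb ≫ pF := by rw [hiY, hpb.w]
    have hfac : pullback.lift (r' ≫ hb) (f ≫ iY) (h₁.trans h₂.symm) =
        r' ≫ hpb.isoPullback.hom ≫ pullback.map pF g pF BH.p (𝟙 _) iY (𝟙 Z)
          ((Category.comp_id _).trans (Category.id_comp _).symm)
          ((Category.comp_id _).trans hiY.symm) := by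
      have m1 : pullback.map pF g pF BH.p (𝟙 _) iY (𝟙 Z)
          ((Category.comp_id _).trans (Category.id_comp _).symm)
          ((Category.comp_id _).trans hiY.symm) ≫ pullback.fst pF BH.p =
          pullback.fst pF g ≫ 𝟙 _ := pullback.lift_fst _ _ _
      have m2 : pullback.map pF g pF BH.p (𝟙 _) iY (𝟙 Z)
          ((Category.comp_id _).trans (Category.id_comp _).symm)
          ((Category.comp_id _).trans hiY.symm) ≫ pullback.snd pF BH.p =
          pullback.snd pF g ≫ iY := pullback.lift_snd _ _ _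
      apply pullback.hom_ext
      · rw [pullback.lift_fst, Category.assoc, Category.assoc, m1, Category.comp_id,
          hpb.isoPullback_hom_fst]
      · rw [pullback.lift_snd, Category.assoc, Category.assoc, m2,
          hpb.isoPullback_hom_snd_assoc, ← Category.assoc, hr']
    haveI : IsImmersion (pullback.map pF g pF BH.p (𝟙 _) iY (𝟙 Z)
        ((Category.comp_id _).trans (Category.id_comp _).symm)
        ((Category.comp_id _).trans hiY.symm)) :=
      MorphismProperty.pullbackMap (P := @IsImmersion) (inferInstance : IsImmersion (𝟙 PF))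
        ‹IsImmersion iY› (Category.id_comp _).symm hiY.symm
    haveI := himm'
    rw [hfac]
    infer_instance
  exact isRelVeryAmple_tensor_joint (f ≫ g) hLL' (isInvertible_pullback f hK) BF BH (r' ≫ hb) h₁
    (τ'.symm ≪≫ (Scheme.Modules.pullback r').mapIso τbc.symm ≪≫
      (Scheme.Modules.pullbackComp r' hb).app O1F)
    (f ≫ iY) h₂
    ((Scheme.Modules.pullback f).mapIso ιK ≪≫ (Scheme.Modules.pullbackComp f iY).app BH.O1)
    hjoint

end Groth.Agent.VATens
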