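import Mathlib
import Groth.Prelude
import Groth.Agent.Lib.VATens16_helper5
import Groth.Agent.S12467
import Groth.Agent.S12474

/-!
# Very ampleness of `L ⊗ f^*K^{⊗ n}` for a composite `X ⟶ Y ⟶ Z`: the qcqs case and the
globalisation over a quasi-compact base  (helper5).  APPEND-ONLY once landed.
-/

set_option autoImplicit false
universe u
open CategoryTheory CategoryTheory.Limits AlgebraicGeometry TopologicalSpace Opposite
open scoped HomogeneousIdeal

noncomputable section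

namespace Groth.Agent.VATens

open QcqsLoc QCohExtn GenLocH8 TensH8 Scheme.Modules Groth.Agent.UPB

/-- **EGA II 4.4.10 (ii) over a qcqs base, with `Y` qcqs**, in bi-framed form. -/
theorem isRelVeryAmple_comp_qcqs {X Y Z : Scheme.{u}} [CompactSpace Z] [QuasiSeparatedSpace Z]
    [CompactSpace Y] [QuasiSeparatedSpace Y]
    (f : X ⟶ Y) [QuasiCompact f] [LocallyOfFiniteType f] (g : Y ⟶ Z) [QuasiCompact g]
    {L : X.Modules} (hL : PicF.IsInvertible L) (hLva : RelProj.IsRelVeryAmple f L)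
    {K : Y.Modules} (hK : PicF.IsInvertible K) (hKva : RelProj.IsRelVeryAmple g K) :
    ∃ n₀ : ℕ, 0 < n₀ ∧ ∀ n : ℕ, n₀ ≤ n → ∀ (M : X.Modules)
      (_ : Frame₂ L ((Scheme.Modules.pullback f).obj K) M 1 n),
      RelProj.IsRelVeryAmple (f ≫ g) M := by
  obtain ⟨E, 𝒯, j, P, p, chart, O1, lam, i, hEq, hEft, hj, hP, hO1, hi, hip, ⟨ιL⟩⟩ :=
    Groth.Agent.QProj.exists_ft_bundle_qcqs f L hL hLva
  haveI : E.IsQuasicoherent := hEq
  obtain ⟨φE, hφE⟩ := Groth.Agent.CanPhi.exists_canPhi hP hO1 j hj.2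
  let BE : PB E := ⟨𝒯, j, hj, P, p, chart, hP, O1, lam, hO1, φE, hφE⟩
  have hamp : RelAmple.IsRelAmple g K := Groth.Agent.S5721.result g K hK hKva
  haveI : IsSeparated g := TensH8.isSeparated_of_isRelAmple g hamp
  obtain ⟨m₀, hm₀⟩ := Groth.Agent.RelSerre.exists_quotient_of_isAmpleOn g hK
    (fun V hV => ((TensH8.isRelAmple_iff g hK).mp hamp).2 ⟨V, hV⟩) E hEq hEft
  obtain ⟨H, hH, BH, iY, hiY, himmY, ⟨ιK⟩⟩ := exists_PB_data_of_veryAmple g K hKva
  haveI := hH
  haveI := himmY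
  haveI : IsImmersion (i : X ⟶ BE.P) := hi
  refine ⟨m₀ + 1, Nat.succ_pos _, fun n hn M Ψ => ?_⟩
  obtain ⟨m, rfl⟩ : ∃ m, n = m + 1 := ⟨n - 1, by omega⟩
  obtain ⟨F, φ, hFq, -, hφ⟩ := hm₀ m (by omega)
  haveI : F.IsQuasicoherent := hFq
  haveI := hφ
  have hK' := isInvertible_tensorPow hK m
  have hfK := isInvertible_pullback f hK
  have h1 := isRelVeryAmple_comp_step f g hL BE i hip ιL hK hK' φ BH iY hiY ιK
  have hM₀ : PicF.IsInvertible (CohB1.tensorMod
      (CohB1.tensorMod L ((Scheme.Modules.pullback f).obj (CohB1.tensorPow K m)))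
      ((Scheme.Modules.pullback f).obj K)) :=
    isInvertible_tensorMod (isInvertible_tensorMod hL (isInvertible_pullback f hK')) hfK
  exact isRelVeryAmple_of_iso (f ≫ g) (frame2Iso hL hfK hM₀
    ((Frame₂.tmul (Frame.self L) ((Frame.pow K m).pullback f hK)).tmulFrame₂ (Frame.self _)) Ψ) h1

/-- Restriction of a very ample module to the preimage of an open of the base. -/
theorem isRelVeryAmple_restrict {X Y : Scheme.{u}} (q : X ⟶ Y) {L : X.Modules}
    (hL : PicF.IsInvertible L) (h : RelProj.IsRelVeryAmple q L) (U : Y.Opens) :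
    RelProj.IsRelVeryAmple (q ∣_ U) (L.restrict (q ⁻¹ᵁ U).ι) := by
  have h1 : RelProj.IsRelVeryAmple (q ∣_ U) ((Scheme.Modules.pullback (q ⁻¹ᵁ U).ι).obj L) :=
    Groth.Agent.S12474.result q U.ι (q ⁻¹ᵁ U).ι (q ∣_ U) (isPullback_morphismRestrict q U).flip L
      hL h
  exact isRelVeryAmple_of_iso (q ∣_ U)
    ((Scheme.Modules.restrictFunctorIsoPullback (q ⁻¹ᵁ U).ι).app L).symm h1

/-- **EGA II 4.4.10 (ii)**: for `Z` quasi-compact, `f` of finite type, `g` quasi-compact, `L` very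
ample for `f` and `K` very ample for `g`, the module `L ⊗ f^*K^{⊗ n}` is very ample for `f ≫ g`
for all large `n`. -/
theorem isRelVeryAmple_comp_twist {X Y Z : Scheme.{u}} [CompactSpace Z] (f : X ⟶ Y)
    [QuasiCompact f] [LocallyOfFiniteType f] (g : Y ⟶ Z) [QuasiCompact g]
    (L : X.Modules) (hL : PicF.IsInvertible L) (hLva : RelProj.IsRelVeryAmple f L)
    (K : Y.Modules) (hK : PicF.IsInvertible K) (hKva : RelProj.IsRelVeryAmple g K) :
    ∃ n₀ : ℕ, 0 < n₀ ∧ ∀ n : ℕ, n₀ ≤ n →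
      RelProj.IsRelVeryAmple (f ≫ g)
        (CohB1.tensorMod L ((Scheme.Modules.pullback f).obj (CohB1.tensorPow K n))) := by
  classical
  have hMi : ∀ n, PicF.IsInvertible
      (CohB1.tensorMod L ((Scheme.Modules.pullback f).obj (CohB1.tensorPow K n))) :=
    fun n => isInvertible_tensorMod hL (isInvertible_pullback f (isInvertible_tensorPow hK n))
  have hamp : RelAmple.IsRelAmple g K := Groth.Agent.S5721.result g K hK hKva
  haveI : IsSeparated g := TensH8.isSeparated_of_isRelAmple g hamp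
  have claim : ∀ V : Z.affineOpens, ∃ nV : ℕ, ∀ n, nV ≤ n →
      RelProj.IsRelVeryAmple ((f ≫ g) ∣_ V.1)
        ((CohB1.tensorMod L ((Scheme.Modules.pullback f).obj (CohB1.tensorPow K n))).restrict
          ((f ≫ g) ⁻¹ᵁ V.1).ι) := by
    intro V
    haveI : IsAffine (V.1 : Z.Opens).toScheme := V.2
    have hc : IsCompact ((g ⁻¹ᵁ V.1 : Y.Opens) : Set Y) :=
      QuasiCompact.isCompact_preimage (f := g) _ V.1.isOpen V.2.isCompact
    haveI : CompactSpace (g ⁻¹ᵁ V.1).toScheme := isCompact_iff_compactSpace.mp hc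
    haveI : QuasiSeparatedSpace (g ⁻¹ᵁ V.1).toScheme :=
      quasiSeparatedSpace_of_quasiSeparated (g ∣_ V.1)
    have hLV := isRelVeryAmple_restrict f hL hLva (g ⁻¹ᵁ V.1)
    have hKV := isRelVeryAmple_restrict g hK hKva V.1
    obtain ⟨nV, -, hnV⟩ := isRelVeryAmple_comp_qcqs (f ∣_ (g ⁻¹ᵁ V.1)) (g ∣_ V.1)
      (isInvertible_restrict _ hL) hLV (isInvertible_restrict _ hK) hKV
    refine ⟨nV, fun n hn => ?_⟩
    have := hnV n hn _ (((Frame₂.tmul (Frame.self L) ((Frame.pow K n).pullback f hK)).restrict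
      (f ⁻¹ᵁ (g ⁻¹ᵁ V.1)).ι).changeBase (Iso.refl _) (restrictPullbackIso f (g ⁻¹ᵁ V.1) K))
    rw [morphismRestrict_comp]
    exact this
  choose nV hnV using claim
  obtain ⟨T, hT⟩ := isCompact_univ.elim_finite_subcover
    (fun V : Z.affineOpens => ((V.1 : Z.Opens) : Set Z)) (fun V => V.1.isOpen) (fun z _ => by
      obtain ⟨_, ⟨V, hV, rfl⟩, hzV, -⟩ := (Z.isBasis_affineOpens).exists_subset_of_mem_open
        (Set.mem_univ z) isOpen_univ
      exact Set.mem_iUnion.mpr ⟨⟨V, hV⟩, hzV⟩)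
  refine ⟨T.sup nV + 1, Nat.succ_pos _, fun n hn => ?_⟩
  refine (Groth.Agent.S12467.result (f ≫ g) _ (hMi n) (fun V : T => (V.1.1 : Z.Opens)) ?_).mpr
    (fun V => hnV V.1 n (le_trans (Finset.le_sup V.2) (Nat.le_of_succ_le hn)))
  refine top_unique fun z _ => ?_
  obtain ⟨V, hVT, hzV⟩ := Set.mem_iUnion₂.mp (hT (Set.mem_univ z))
  exact Opens.mem_iSup.mpr ⟨⟨V, hVT⟩, hzV⟩

end Groth.Agent.VATens
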