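import Mathlib
import Groth.Prelude
import Groth.Agent.Lib.VAmpC8_helper9
import Groth.Agent.Lib.VAmpPn2_helper5
import Groth.Agent.Lib.GenusZero3_helper9
import Groth.Agent.Lib.EulerBC_helper9
import Groth.Agent.Lib.ProjSpaceProper_helper4

/-!
# Very ampleness in degree `≥ 2g + 1`: descent from the algebraic closure (helper9).
APPEND-ONLY once landed.
-/

set_option autoImplicit false
set_option linter.style.haveILetI false
universe u
open CategoryTheory CategoryTheory.Limits AlgebraicGeometry Opposite TopologicalSpace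

namespace VAmpC

open QcqsLoc QCohExtn GenLocH8 TensH8 FLFH8 CohB1 Groth.Agent.HHVan CurveAmple CurveGG SerreCrit
open Groth.Agent.ProjUPU Groth.Agent.VAmpPn

section BC

variable (k : Type u) [Field k] (X : Scheme.{u}) [X.Over (Spec (CommRingCat.of k))]
  [IsProper (X ↘ Spec (CommRingCat.of k))] [GeometricallyIntegral (X ↘ Spec (CommRingCat.of k))]

/-- the morphism to projective space given by a spanning family of sections of an invertible
module of degree `≥ 2g + 1` on a geometrically integral proper curve is a closed immersion -/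
theorem isClosedImmersion_of_span (hdim : topologicalKrullDim X = 1)
    {L : X.Modules} (hL : PicF.IsInvertible L)
    (hdeg : 2 * (Curv2.genus k X : ℤ) + 1 ≤ Curv2.deg k X L 1)
    {n : ℕ} (r : X ⟶ Proj (CohB1.polyGrading n k))
    (hr : r ≫ CohB1.ProjSpace.toSpec n k = X ↘ Spec (CommRingCat.of k))
    (τ : (Scheme.Modules.pullback r).obj (Twist.twist (CohB1.polyGrading n k) 1) ≅ L)
    (b : Fin (n + 1) → (Coh.structureModule X ⟶ L))
    (hτ : ∀ i, τ.hom.app ⊤ (ProjUP.pullSec r (Twist.twist (CohB1.polyGrading n k) 1)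
      (sig (CohB1.polyGrading n k) (hX n i))) = SecTwist.val (b i) ⊤)
    (hspan : ∀ σ : Coh.structureModule X ⟶ L, ∃ c : Fin (n + 1) → k, σ = ∑ i, c i • b i) :
    IsClosedImmersion r := by
  classical
  haveI : IsIntegral X := GZ9.isIntegral_of_geometricallyIntegral k X
  haveI : CompactSpace X :=
    QuasiCompact.compactSpace_of_compactSpace (X ↘ Spec (CommRingCat.of k))
  haveI : QuasiSeparatedSpace X :=
    quasiSeparatedSpace_of_quasiSeparated (X ↘ Spec (CommRingCat.of k))
  haveI : L.IsQuasicoherent := TensH8.isQuasicoherent_of_isInvertible hL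
  haveI : Coh.IsQCoh L := ‹L.IsQuasicoherent›
  let K := AlgebraicClosure k
  let X' := Curv2.bc k X K
  let π : X' ⟶ X := Curv2.bcFst k X K
  letI : X'.Over (Spec (CommRingCat.of K)) := ⟨Curv2.bcSnd k X K⟩
  haveI : IsIntegral X' := GZ9.isIntegral_bc k X K
  haveI : IsProper (X' ↘ Spec (CommRingCat.of K)) :=
    (inferInstance : IsProper (pullback.snd (X ↘ Spec (CommRingCat.of k))
      (Spec.map (CommRingCat.ofHom (algebraMap k K)))))
  let sK : Spec (CommRingCat.of K) ⟶ Spec (CommRingCat.of k) :=
    Spec.map (CommRingCat.ofHom (algebraMap k K))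
  haveI : IsProper (CohB1.ProjSpace.toSpec n k) :=
    Groth.Agent.Lib.ProjSpaceProperH4.isProper_toSpec n k
  let Y := pullback (CohB1.ProjSpace.toSpec n k) sK
  let g : Y ⟶ Proj (CohB1.polyGrading n k) :=
    pullback.fst (CohB1.ProjSpace.toSpec n k) sK
  let qY : Y ⟶ Spec (CommRingCat.of K) := pullback.snd (CohB1.ProjSpace.toSpec n k) sK
  haveI : IsProper qY := (inferInstance : IsProper (pullback.snd (CohB1.ProjSpace.toSpec n k) sK))
  have hcond : (π ≫ r) ≫ CohB1.ProjSpace.toSpec n k = Curv2.bcSnd k X K ≫ sK := by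
    rw [Category.assoc, hr]
    exact pullback.condition
  let f : X' ⟶ Y := pullback.lift (π ≫ r) (Curv2.bcSnd k X K) hcond
  have hfg : f ≫ g = π ≫ r := pullback.lift_fst _ _ _
  have hfq : f ≫ qY = X' ↘ Spec (CommRingCat.of K) := pullback.lift_snd _ _ _
  have hsq : IsPullback π (X' ↘ Spec (CommRingCat.of K)) (X ↘ Spec (CommRingCat.of k)) sK :=
    IsPullback.of_hasPullback _ _
  -- the left square is a pullback
  have hpb : IsPullback f π g r := by
    have s : IsPullback (f ≫ qY) π sK (r ≫ CohB1.ProjSpace.toSpec n k) := by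
      rw [hfq, hr]
      exact hsq.flip
    have t : IsPullback qY g sK (CohB1.ProjSpace.toSpec n k) :=
      (IsPullback.of_hasPullback (CohB1.ProjSpace.toSpec n k) sK).flip
    exact IsPullback.of_right s hfg t
  -- numerical data on the base change
  have hdim' : topologicalKrullDim X' = 1 := (GZ9.dim_bc k X K).trans hdim
  have hL' : PicF.IsInvertible ((Scheme.Modules.pullback π).obj L) :=
    TensH8.isInvertible_pullback π hL
  have hdeg' : 2 * (Curv2.genus K X' : ℤ) + 1 ≤
      Curv2.deg K X' ((Scheme.Modules.pullback π).obj L) 1 := by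
    have h1 : Curv2.genus K X' = Curv2.genus k X := GZ9.finrank_HH_structure_bc k X K 1
    have h2 : Curv2.deg K X' ((Scheme.Modules.pullback π).obj L) 1 = Curv2.deg k X L 1 :=
      EulerBC.deg_bc k X K L 1
    rw [h1, h2]
    exact hdeg
  -- the base change is a closed immersion
  have hmem : ∀ (j : Fin (n + 1)) (x : X'),
      f.base x ∈ g ⁻¹ᵁ Proj.basicOpen (CohB1.polyGrading n k) (MvPolynomial.X j) ↔
        π.base x ∈ r ⁻¹ᵁ Proj.basicOpen (CohB1.polyGrading n k) (MvPolynomial.X j) := by
    intro j x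
    have h1 : g.base (f.base x) = r.base (π.base x) := by
      rw [← Scheme.Hom.comp_apply, ← Scheme.Hom.comp_apply, hfg]
    show g.base (f.base x) ∈ Proj.basicOpen (CohB1.polyGrading n k) (MvPolynomial.X j) ↔
      r.base (π.base x) ∈ Proj.basicOpen (CohB1.polyGrading n k) (MvPolynomial.X j)
    rw [h1]
  have hCI : IsClosedImmersion f := by
    refine isClosedImmersion_of_sections K X' hdim' hL' hdeg' qY f hfq
      (fun j => g ⁻¹ᵁ Proj.basicOpen (CohB1.polyGrading n k) (MvPolynomial.X j)) ?_
      (fun i => pbSec π (b i))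
      (fun i j => (g.app (Proj.basicOpen (CohB1.polyGrading n k) (MvPolynomial.X j))).hom
        (rat (CohB1.polyGrading n k) (hX n j) (hX n i))) ?_ ?_ ?_
    · intro x
      obtain ⟨j, hj⟩ := hcovX (R := k) n (g.base (f.base x))
      exact ⟨j, hj⟩
    · intro j x hx
      have h1 : π.base x ∈ r ⁻¹ᵁ Proj.basicOpen (CohB1.polyGrading n k) (MvPolynomial.X j) :=
        (hmem j x).1 hx
      rw [← genLocus_eq r τ b hτ j] at h1
      exact preimage_genLocus_le π L (b j) (PBH8.pullbackUnitIso π).symm h1
    · intro i j W hW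
      have hW' : W ≤ π ⁻¹ᵁ (r ⁻¹ᵁ Proj.basicOpen (CohB1.polyGrading n k) (MvPolynomial.X j)) :=
        fun x hx => (hmem j x).1 (hW hx)
      rw [val_pbSec π (b i) hW', val_pbSec π (b j) hW', val_eq_smul r τ b hτ i j le_rfl]
      refine (PBH8.cUV_smul π L hW' _ _).trans ?_
      congr 1
      have e1 : r.appLE (Proj.basicOpen (CohB1.polyGrading n k) (MvPolynomial.X j)) _ le_rfl ≫
          π.appLE _ W hW' = g.app _ ≫ f.appLE _ W hW := by
        rw [Scheme.Hom.appLE_comp_appLE, ← Scheme.Hom.comp_appLE]
        exact (appLE_of_eq hfg _ _ _ _).symm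
      exact congrArg (fun φ => φ.hom (rat (CohB1.polyGrading n k) (hX n j) (hX n i))) e1
    · intro τ'
      exact span_pbSec π hsq L b hspan τ'
  -- descent
  have hQ : (@Surjective ⊓ @Flat ⊓ @QuasiCompact : MorphismProperty Scheme.{u}) g := by
    have h1 : (@Surjective ⊓ @Flat ⊓ @QuasiCompact : MorphismProperty Scheme.{u}) sK :=
      ⟨⟨inferInstance, inferInstance⟩, inferInstance⟩
    exact MorphismProperty.pullback_fst _ _ h1
  haveI : (MorphismProperty.monomorphisms Scheme.{u}).DescendsAlong
      (@Surjective ⊓ @Flat ⊓ @QuasiCompact) := by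
    rw [← MorphismProperty.diagonal_isomorphisms]
    infer_instance
  have hmono : Mono r :=
    MorphismProperty.of_isPullback_of_descendsAlong
      (P := MorphismProperty.monomorphisms Scheme.{u}) hpb hQ (inferInstance : Mono f)
  haveI : IsProper (r ≫ CohB1.ProjSpace.toSpec n k) := by rw [hr]; infer_instance
  haveI : IsProper r := IsProper.of_comp r (CohB1.ProjSpace.toSpec n k)
  exact (IsClosedImmersion.iff_isProper_and_mono r).2 ⟨inferInstance, hmono⟩

end BC

end VAmpC
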