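import Mathlib
import Groth.Prelude
import Groth.Agent.Lib.VAmpC9_helper9
import Groth.Agent.Lib.P1Iso4_helper9
import Groth.Agent.S3572

/-!
# Very ampleness in degree `≥ 2g + 1` (helper9).
APPEND-ONLY once landed.
-/

set_option autoImplicit false
set_option linter.style.haveILetI false
universe u
open CategoryTheory CategoryTheory.Limits AlgebraicGeometry Opposite TopologicalSpace

namespace VAmpC

open QcqsLoc QCohExtn GenLocH8 TensH8 FLFH8 CohB1 Groth.Agent.HHVan CurveAmple CurveGG SerreCrit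
open Groth.Agent.ProjUPU Groth.Agent.VAmpPn

section Main

variable (k : Type u) [Field k] (X : Scheme.{u}) [X.Over (Spec (CommRingCat.of k))]
  [IsProper (X ↘ Spec (CommRingCat.of k))] [GeometricallyIntegral (X ↘ Spec (CommRingCat.of k))]

/-- **very ampleness in degree `≥ 2g + 1`** (statement of S1611) -/
theorem veryAmple_of_deg_ge (hdim : topologicalKrullDim X = 1)
    (L : X.Modules) (hL : PicF.IsInvertible L)
    (hdeg : 2 * (Curv2.genus k X : ℤ) + 1 ≤ Curv2.deg k X L 1) :
    ∃ (n : ℕ) (i : X ⟶ CohB1.ProjSpace n k), IsClosedImmersion i ∧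
      i ≫ CohB1.ProjSpace.toSpec n k = X ↘ (Spec (CommRingCat.of k)) ∧
      Nonempty ((Scheme.Modules.pullback i).obj (Twist.twistProjSpace n k 1) ≅ L) := by
  haveI : IsIntegral X := GZ9.isIntegral_of_geometricallyIntegral k X
  haveI : IsLocallyNoetherian X :=
    LocallyOfFiniteType.isLocallyNoetherian (X ↘ Spec (CommRingCat.of k))
  have hLc := ProperFinH9.isCoh_of_isInvertible hL
  haveI := ProperFinH9.finite_HH_of_proper k X L hLc 0
  haveI : Module.Finite k (Coh.structureModule X ⟶ L) :=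
    Module.Finite.equiv (CurveIdeal.thetaEquiv k L).symm
  obtain ⟨m, s, hs⟩ := Module.Finite.exists_fin (R := k) (M := Coh.structureModule X ⟶ L)
  let b : Fin (m + 1) → (Coh.structureModule X ⟶ L) := Fin.cons 0 s
  have hspan : ∀ σ : Coh.structureModule X ⟶ L, ∃ c : Fin (m + 1) → k, σ = ∑ i, c i • b i := by
    intro σ
    have h1 : σ ∈ Submodule.span k (Set.range s) := by rw [hs]; trivial
    obtain ⟨c, hc⟩ := (Submodule.mem_span_range_iff_exists_fun k).1 h1
    refine ⟨Fin.cons 0 c, ?_⟩
    rw [Fin.sum_univ_succ]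
    simp only [b, Fin.cons_zero, Fin.cons_succ, zero_smul, zero_add]
    exact hc.symm
  have hgg : ∀ x : X, ∃ σ : Coh.structureModule X ⟶ L, CurveLin.GenAt L σ x :=
    fun x => CurveGG.exists_section_genAt k X hdim.le hL (by linarith) x
  have hgen := P1Iso.generatedBy_of_span k b hspan hgg
  obtain ⟨r, hr, τ, hτ⟩ := Groth.Agent.S3572.result (R := k) m
    (X ↘ Spec (CommRingCat.of k)) L hL (fun i => P1Iso.secOf (b i)) hgen
  refine ⟨m, r, ?_, hr, ⟨τ⟩⟩
  exact isClosedImmersion_of_span k X hdim hL hdeg r hr τ b hτ hspan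

end Main

end VAmpC
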