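import Mathlib
import Groth.Prelude
import Groth.Agent.Lib.VAmpPn9_helper5

/-!
# H-quasi-projective versus quasi-projective morphisms (helper5)
APPEND-ONLY once landed.
-/

set_option autoImplicit false
universe u
open CategoryTheory CategoryTheory.Limits AlgebraicGeometry TopologicalSpace Opposite
open QcqsLoc GenLocH8 TensH8 FLFH8 QCohExtn

namespace Groth.Agent.VAmpPn

/-- H-quasi-projectivity is invariant under isomorphisms of arrows. -/
theorem isHQuasiProjective_of_arrow_iso {X S X' S' : Scheme.{u}} {g : X ⟶ S} {g' : X' ⟶ S'}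
    (e : Arrow.mk g ≅ Arrow.mk g') (h : RelProj.IsHQuasiProjective g) :
    RelProj.IsHQuasiProjective g' := by
  obtain ⟨n, i, hi, hqc, hg⟩ := h
  have hw : g ≫ e.hom.right = e.hom.left ≫ g' := (Arrow.w e.hom).symm
  haveI : IsIso e.hom.left := inferInstance
  haveI : IsIso e.hom.right := inferInstance
  let φ : CohB1.ProjSpaceOver n S ⟶ CohB1.ProjSpaceOver n S' :=
    pullback.map (CohB1.ProjSpace.toSpec n (ULift.{u} ℤ)) (specULiftZIsTerminal.from S)
      (CohB1.ProjSpace.toSpec n (ULift.{u} ℤ)) (specULiftZIsTerminal.from S')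
      (𝟙 _) e.hom.right (𝟙 _) (by simp) (specULiftZIsTerminal.hom_ext _ _)
  have hφiso : IsIso (pullback.map (CohB1.ProjSpace.toSpec n (ULift.{u} ℤ))
      (specULiftZIsTerminal.from S) (CohB1.ProjSpace.toSpec n (ULift.{u} ℤ))
      (specULiftZIsTerminal.from S') (𝟙 _) e.hom.right (𝟙 _) (by simp)
      (specULiftZIsTerminal.hom_ext _ _)) := inferInstance
  haveI : IsIso φ := hφiso
  have hφ : φ ≫ CohB1.ProjSpaceOver.toBase n S' = CohB1.ProjSpaceOver.toBase n S ≫ e.hom.right :=
    pullback.lift_snd _ _ _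
  refine ⟨n, inv e.hom.left ≫ i ≫ φ, inferInstance, inferInstance, ?_⟩
  rw [Category.assoc, Category.assoc, hφ, ← Category.assoc i, hg, hw, IsIso.inv_hom_id_assoc]

/-- An H-quasi-projective morphism is quasi-projective. -/
theorem isQuasiProjective_of_isHQuasiProjective {X S : Scheme.{u}} (g : X ⟶ S)
    (h : RelProj.IsHQuasiProjective g) : RelProj.IsQuasiProjective g := by
  obtain ⟨n, i, hi, hqc, hg⟩ := h
  subst hg
  haveI : IsProper (CohB1.ProjSpaceOver.toBase n S) :=
    Groth.Agent.Lib.ProjSpaceProperH4.isProper_toBase n S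
  refine ⟨inferInstance, inferInstance, (Scheme.Modules.pullback i).obj (Twist.twistOver n S 1), ?_⟩
  exact isRelAmple_pullback_of_isEmbedding i _ i.isEmbedding (isRelAmple_twistOver n S)

/-- A quasi-projective morphism is H-quasi-projective over every affine open of the base. -/
theorem isHQuasiProjective_restrict {X S : Scheme.{u}} (g : X ⟶ S)
    (hg : RelProj.IsQuasiProjective g) (W : S.Opens) (hW : IsAffineOpen W) :
    RelProj.IsHQuasiProjective (g ∣_ W) := by
  obtain ⟨hlft, hqc, L, hL⟩ := hg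
  haveI := hlft
  haveI := hqc
  have hamp : CohB1.IsAmple (L.restrict (g ⁻¹ᵁ W).ι) := hL.2 ⟨W, hW⟩
  obtain ⟨n₀, h⟩ := isRelVeryAmplePn_tensorPow (g ∣_ W) hamp
  obtain ⟨n, i, hi, hq, -⟩ := h n₀ le_rfl
  have hq' : i ≫ CohB1.ProjSpaceOver.toBase n W = g ∣_ W := hq
  haveI : IsProper (CohB1.ProjSpaceOver.toBase n (W : Scheme.{u})) :=
    Groth.Agent.Lib.ProjSpaceProperH4.isProper_toBase n W
  haveI : QuasiCompact (i ≫ CohB1.ProjSpaceOver.toBase n (W : Scheme.{u})) := by
    rw [hq']
    infer_instance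
  exact ⟨n, i, hi, QuasiCompact.of_comp i (CohB1.ProjSpaceOver.toBase n (W : Scheme.{u})), hq'⟩

end Groth.Agent.VAmpPn
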