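import Mathlib
import Groth.Prelude
import Groth.Agent.Lib.VAmpPn4_helper5

/-!
# Very ample (projective-space form), part 11: the family of sections of `L^n ⊗ L'`, with the affine
opens of the base taken from a prescribed covering family (helper5)
APPEND-ONLY once landed.
-/

set_option autoImplicit false
universe u
open CategoryTheory CategoryTheory.Limits AlgebraicGeometry TopologicalSpace Opposite
open QcqsLoc GenLocH8 TensH8 FLFH8 QCohExtn

namespace Groth.Agent.VAmpPn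

/-- For `L` ample, `L'` invertible and `q : X ⟶ S` locally of finite type, all large twists
`L^n ⊗ L'` carry a finite family of sections as required by `isRelVeryAmplePn_of_sections`. -/
theorem exists_veryAmple_sections_of_cover {X S : Scheme.{u}} (q : X ⟶ S) [LocallyOfFiniteType q]
    {L L' : X.Modules} (hL : CohB1.IsAmple L) (hL' : PicF.IsInvertible L')
    (B : Set S.Opens) (hBaff : ∀ V ∈ B, IsAffineOpen V) (hBcov : ∀ s : S, ∃ V ∈ B, s ∈ V) :
    ∃ n₀ : ℕ, ∀ n, n₀ ≤ n → ∃ F : Finset (Coh.structureModule X ⟶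
        CohB1.tensorMod (CohB1.tensorPow L n) L'),
      ∀ x : X, ∃ t ∈ F, ∃ U : X.Opens, CohB1.genLocus _ t = U ∧ x ∈ U ∧ IsAffineOpen U ∧
      ∃ V : S.Opens, V ∈ B ∧ ∃ h : U ≤ q ⁻¹ᵁ V, ∀ b : Γ(X, U),
        b ∈ Subring.closure (Set.range (q.appLE V U h).hom ∪
          {c | ∃ t' ∈ F, SecTwist.val t' U = c • SecTwist.val t U}) := by
  classical
  obtain ⟨hLi, hc, hamp⟩ := id hL
  haveI := hc
  haveI : QuasiSeparatedSpace X := quasiSeparatedSpace_of_affine_genLocus hLi hamp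
  have hB := affine_genLocus_isBasis hLi ((isAmple_iff_isBasis hLi).mp hL)
  rw [Opens.isBasis_iff_nbhd] at hB
  have key : ∀ x : X, ∃ (k : ℕ) (s : Coh.structureModule X ⟶ CohB1.tensorPow L (k + 1)),
      x ∈ CohB1.genLocus _ s ∧ IsAffineOpen (CohB1.genLocus _ s) ∧
      (∃ (e : Γ(L, CohB1.genLocus _ s)) (e' : Γ(L', CohB1.genLocus _ s)),
        IsGen L _ e ∧ IsGen L' _ e') ∧
      ∃ V : S.Opens, V ∈ B ∧ CohB1.genLocus _ s ≤ q ⁻¹ᵁ V := by
    intro x
    obtain ⟨W, hxW, e, e', he, he'⟩ := exists_isGen₂ hLi hL' x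
    obtain ⟨V, hV, hqV⟩ := hBcov (q x)
    obtain ⟨_, ⟨haff, k, s, rfl⟩, hxs, hle⟩ := hB (U := W ⊓ q ⁻¹ᵁ V) (x := x) ⟨hxW, hqV⟩
    exact ⟨k, s, hxs, haff, ⟨rF L (hle.trans inf_le_left) e, rF L' (hle.trans inf_le_left) e',
      he.res _, he'.res _⟩, V, hV, hle.trans inf_le_right⟩
  choose k s hxs haff hgens V hV hsV using key
  obtain ⟨T, hT⟩ := isCompact_univ.elim_finite_subcover
    (fun y : X => (CohB1.genLocus _ (s y) : Set X)) (fun y => (CohB1.genLocus _ (s y)).isOpen)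
    (fun x _ => Set.mem_iUnion.mpr ⟨x, hxs x⟩)
  obtain ⟨m, hm_def⟩ : ∃ m : ℕ, m = ∏ y ∈ T, (k y + 1) := ⟨_, rfl⟩
  have hm : 0 < m := by
    rw [hm_def]
    exact Finset.prod_pos (fun y _ => Nat.succ_pos _)
  have hdvd : ∀ y ∈ T, (k y + 1) ∣ m := fun y hy => by
    rw [hm_def]
    exact Finset.dvd_prod_of_mem _ hy
  have hP := isInvertible_tensorPow hLi m
  have h2 : ∀ i : {y // y ∈ T}, ∃ s' : Coh.structureModule X ⟶ CohB1.tensorPow L m,
      CohB1.genLocus _ s' = CohB1.genLocus _ (s i.1) := by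
    rintro ⟨y, hy⟩
    obtain ⟨r, hr⟩ := hdvd y hy
    have hr0 : 0 < r := by
      rcases Nat.eq_zero_or_pos r with h | h
      · rw [h, mul_zero] at hr
        omega
      · exact h
    exact Frame.transfer_pow hLi (Frame.pow L (k y + 1)) (Frame.pow L m) r hr0 hr (s y)
  choose s' hs' using h2
  have hUaff : ∀ i, IsAffineOpen (CohB1.genLocus _ (s' i)) := fun i => by
    rw [hs' i]
    exact haff i.1
  have hUV : ∀ i, CohB1.genLocus _ (s' i) ≤ q ⁻¹ᵁ V i.1 := fun i => (hs' i).le.trans (hsV i.1)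
  have hgensU : ∀ i, ∃ (e : Γ(L, CohB1.genLocus _ (s' i))) (e' : Γ(L', CohB1.genLocus _ (s' i))),
      IsGen L _ e ∧ IsGen L' _ e' := fun i => by
    obtain ⟨e, e', he, he'⟩ := hgens i.1
    exact ⟨rF L (hs' i).le e, rF L' (hs' i).le e', he.res _, he'.res _⟩
  choose eU eU' heU heU' using hgensU
  have hcovU : ∀ x : X, ∃ i : {y // y ∈ T}, x ∈ CohB1.genLocus _ (s' i) := by
    intro x
    obtain ⟨y, hyT, hxy⟩ := Set.mem_iUnion₂.mp (hT (Set.mem_univ x))
    refine ⟨⟨y, hyT⟩, ?_⟩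
    rw [hs']
    exact hxy
  have hfin : ∀ i, ∃ G : Finset Γ(X, CohB1.genLocus _ (s' i)),
      ∀ b : Γ(X, CohB1.genLocus _ (s' i)),
      b ∈ Subring.closure (Set.range (q.appLE (V i.1) _ (hUV i)).hom ∪ (G : Set _)) := fun i =>
    exists_finset_closure _ (LocallyOfFiniteType.finiteType_appLE q (hBaff _ (hV i.1)) (hUaff i) (hUV i))
  choose G hG using hfin
  have hD : ∀ (i : {y // y ∈ T}) (j : ℕ), ∃ n0 : ℕ, ∀ N : ℕ, n0 ≤ N →
      ∀ n : ℕ, j + m * N + m = n →
      ∃ σ : Coh.structureModule X ⟶ CohB1.tensorMod (CohB1.tensorPow L n) L',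
        CohB1.genLocus _ σ = CohB1.genLocus _ (s' i) ∧
        ∀ b ∈ G i, ∃ τ : Coh.structureModule X ⟶ CohB1.tensorMod (CohB1.tensorPow L n) L',
          SecTwist.val τ (CohB1.genLocus _ (s' i)) =
            b • SecTwist.val σ (CohB1.genLocus _ (s' i)) := by
    intro i j
    have hF : PicF.IsInvertible (CohB1.tensorMod (CohB1.tensorPow L j) L') :=
      isInvertible_tensorMod (isInvertible_tensorPow hLi j) hL'
    have ht := (Frame₂.tmul (Frame.pow L j) (Frame.self L')).isGen (heU i) (heU' i)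
    obtain ⟨n0, hn0⟩ := exists_sections_twist hP hF (s' i) _ ht (G i)
    refine ⟨n0, fun N hN n hn => ?_⟩
    obtain ⟨σ, hσ, hτ⟩ := hn0 N hN
    obtain ⟨σ', h1, h2⟩ := transfer_rel hLi hL'
      (((Frame₂.tmul (Frame.pow L j) (Frame.self L')).tmulFrame
        ((Frame.pow L m).powOf N)).tmulFrame (Frame.pow L m))
      ((Frame₂.tmul (Frame.pow L n) (Frame.self L')).cast hn.symm rfl) σ (G i)
      (eU i) (eU' i) (heU i) (heU' i) hτ
    exact ⟨σ', h1.trans hσ, h2⟩
  choose n0 hn0 using hD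
  obtain ⟨K, hK_def⟩ : ∃ K : ℕ, K = Finset.univ.sup
      (fun i : {y // y ∈ T} => (Finset.range m).sup (fun j => n0 i j)) := ⟨_, rfl⟩
  have hK : ∀ i, ∀ j < m, n0 i j ≤ K := by
    intro i j hj
    rw [hK_def]
    exact le_trans (Finset.le_sup (f := fun j => n0 i j) (Finset.mem_range.mpr hj))
      (Finset.le_sup (f := fun i : {y // y ∈ T} => (Finset.range m).sup (fun j => n0 i j))
        (Finset.mem_univ i))
  refine ⟨m * K + 2 * m, fun n hn => ?_⟩
  have hj : n % m < m := Nat.mod_lt _ hm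
  have hq : K + 2 ≤ n / m := by
    rw [Nat.le_div_iff_mul_le hm]
    calc (K + 2) * m = m * K + 2 * m := by ring
      _ ≤ n := hn
  have hdecomp : n % m + m * (n / m - 1) + m = n := by
    have h1 := Nat.mod_add_div n m
    have h3 : n / m - 1 + 1 = n / m := by omega
    have h2 : m * (n / m - 1) + m = m * (n / m) := by
      calc m * (n / m - 1) + m = m * (n / m - 1 + 1) := by ring
        _ = m * (n / m) := by rw [h3]
    omega
  have hsec : ∀ i : {y // y ∈ T},
      ∃ σ : Coh.structureModule X ⟶ CohB1.tensorMod (CohB1.tensorPow L n) L',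
        CohB1.genLocus _ σ = CohB1.genLocus _ (s' i) ∧
        ∀ b ∈ G i, ∃ τ : Coh.structureModule X ⟶ CohB1.tensorMod (CohB1.tensorPow L n) L',
          SecTwist.val τ (CohB1.genLocus _ (s' i)) =
            b • SecTwist.val σ (CohB1.genLocus _ (s' i)) := fun i =>
    hn0 i (n % m) (n / m - 1) (le_trans (hK i _ hj) (by omega)) n hdecomp
  choose σ hσ hτ using hsec
  haveI : Nonempty (Coh.structureModule X ⟶ CohB1.tensorMod (CohB1.tensorPow L n) L') := ⟨0⟩
  choose! τ hτ' using hτ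
  refine ⟨Finset.univ.image σ ∪ Finset.univ.biUnion (fun i => (G i).image (τ i)), fun x => ?_⟩
  obtain ⟨i, hi⟩ := hcovU x
  refine ⟨σ i, Finset.mem_union_left _ (Finset.mem_image_of_mem _ (Finset.mem_univ i)),
    CohB1.genLocus _ (s' i), hσ i, hi, hUaff i, V i.1, hV i.1, hUV i, fun b => ?_⟩
  refine Subring.closure_mono (Set.union_subset_union_right _ ?_) (hG i b)
  intro c hc
  exact ⟨τ i c, Finset.mem_union_right _ (Finset.mem_biUnion.mpr
    ⟨i, Finset.mem_univ i, Finset.mem_image_of_mem _ hc⟩), hτ' i c hc⟩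

end Groth.Agent.VAmpPn
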