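import Mathlib
import Groth.Prelude
import Groth.Agent.Lib.ProjClosed_helper3
import Groth.Agent.Lib.ProjGamma_helper5
import Groth.Agent.Lib.ProjSpaceProper_helper4

/-!
# A closed subscheme of `P^N_A` is `Proj` of a graded quotient of `A[T_0..T_N]` (explicit form)
(helper5)  APPEND-ONLY once landed.
-/

set_option autoImplicit false
universe u
open CategoryTheory CategoryTheory.Limits AlgebraicGeometry TopologicalSpace Opposite
open Groth.Agent.Lib.ProjClosed_helper3 Groth.Agent.Lib.GradedQuot_helper3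

namespace Groth.Agent.VAmpPn

/-- A closed subscheme `r : X ⟶ P^N_A` is, over `Spec A`, the homogeneous spectrum of a graded
`A`-algebra `𝒮` with `A → 𝒮_0` surjective and irrelevant ideal generated by finitely many elements
of degree one. -/
theorem exists_proj_of_isClosedImmersion {A : Type u} [CommRing A] {X : Scheme.{u}} (N : ℕ)
    (r : X ⟶ Proj (CohB1.polyGrading N A)) [IsClosedImmersion r] :
    ∃ (S : Type u) (_ : CommRing S) (_ : Algebra A S) (𝒮 : ℕ → Submodule A S)
      (_ : GradedAlgebra 𝒮) (s : Finset S),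
      Function.Surjective (algebraMap A (𝒮 0)) ∧ (∀ g ∈ s, g ∈ 𝒮 1) ∧
      (HomogeneousIdeal.irrelevant 𝒮).toIdeal = Ideal.span (s : Set S) ∧
      ∃ e : X ≅ Proj 𝒮, e.hom ≫ Proj.toSpecZero 𝒮 ≫
        Spec.map (CommRingCat.ofHom (algebraMap A (𝒮 0))) = r ≫ CohB1.ProjSpace.toSpec N A := by
  classical
  obtain ⟨𝒜, h𝒜⟩ : ∃ 𝒜 : ℕ → Submodule A (MvPolynomial (Fin (N + 1)) A),
      𝒜 = CohB1.polyGrading N A := ⟨_, rfl⟩
  obtain ⟨s₀, hs₀⟩ : ∃ s₀ : Finset (MvPolynomial (Fin (N + 1)) A),
      s₀ = Finset.univ.image MvPolynomial.X := ⟨_, rfl⟩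
  have hXm : ∀ i : Fin (N + 1), (MvPolynomial.X i : MvPolynomial (Fin (N + 1)) A) ∈
      CohB1.polyGrading N A 1 := fun i => MvPolynomial.isHomogeneous_X A i
  have hs1 : ∀ f ∈ s₀, f ∈ CohB1.polyGrading N A 1 := by
    intro f hf
    rw [hs₀] at hf
    obtain ⟨i, -, rfl⟩ := Finset.mem_image.mp hf
    exact hXm i
  have hs : (HomogeneousIdeal.irrelevant (CohB1.polyGrading N A)).toIdeal =
      Ideal.span (s₀ : Set (MvPolynomial (Fin (N + 1)) A)) := by
    apply le_antisymm
    · refine (Groth.Agent.ProjGamma5.irrelevant_le_span N A).trans (Ideal.span_mono ?_)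
      rintro _ ⟨i, rfl⟩
      rw [hs₀]
      simp
    · rw [Ideal.span_le]
      intro f hf
      exact HomogeneousIdeal.mem_irrelevant_of_mem _ one_pos (hs1 f hf)
  have hs1' : ∀ f ∈ (s₀ : Set (MvPolynomial (Fin (N + 1)) A)), f ∈ CohB1.polyGrading N A 1 :=
    fun f hf => hs1 f hf
  have hJ : Compat (CohB1.polyGrading N A) (Jfam (CohB1.polyGrading N A) r.ker) :=
    fun f g x hf hg hx => Jfam_compat (CohB1.polyGrading N A) r.ker hf one_pos hg hx
  obtain ⟨I, hIdef⟩ : ∃ I : Ideal (MvPolynomial (Fin (N + 1)) A),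
      I = bigIdeal (CohB1.polyGrading N A) (Jfam (CohB1.polyGrading N A) r.ker)
        (s₀ : Set (MvPolynomial (Fin (N + 1)) A)) hs1' := ⟨_, rfl⟩
  have hI : I.IsHomogeneous (CohB1.polyGrading N A) :=
    hIdef ▸ bigIdeal_isHomogeneous (CohB1.polyGrading N A) (Jfam (CohB1.polyGrading N A) r.ker)
      (s₀ : Set (MvPolynomial (Fin (N + 1)) A)) hs1'
  letI : GradedAlgebra (quotGrading (CohB1.polyGrading N A) I) :=
    quotGradedAlgebra (CohB1.polyGrading N A) I hI
  have hsurj : Function.Surjective (quotGradedHom (CohB1.polyGrading N A) I) :=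
    quotGradedHom_surjective (CohB1.polyGrading N A) I
  have hφ := irrelevant_le_map_of_surjective (quotGradedHom (CohB1.polyGrading N A) I) hsurj
  have hkerI : ∀ a, quotGradedHom (CohB1.polyGrading N A) I a = 0 ↔
      a ∈ bigIdeal (CohB1.polyGrading N A) (Jfam (CohB1.polyGrading N A) r.ker)
        (s₀ : Set (MvPolynomial (Fin (N + 1)) A)) hs1' := by
    intro a
    rw [← hIdef]
    exact quotGradedHom_eq_zero_iff (CohB1.polyGrading N A) I a
  obtain ⟨e, he⟩ := exists_iso_of_ker_eq (CohB1.polyGrading N A)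
    (quotGrading (CohB1.polyGrading N A) I) (quotGradedHom (CohB1.polyGrading N A) I) hsurj hφ
    s₀ hs1 hs r
    (fun f hf => ker_away_map_eq (CohB1.polyGrading N A) (Jfam (CohB1.polyGrading N A) r.ker) hJ
      s₀ hs1' (quotGradedHom (CohB1.polyGrading N A) I) hkerI hf)
  refine ⟨MvPolynomial (Fin (N + 1)) A ⧸ I, inferInstance, inferInstance,
    quotGrading (CohB1.polyGrading N A) I, quotGradedAlgebra (CohB1.polyGrading N A) I hI,
    s₀.image (Ideal.Quotient.mk I), ?_, ?_, ?_, e, ?_⟩
  · -- surjectivity in degree zero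
    rintro ⟨b, hb⟩
    obtain ⟨a, ha, rfl⟩ := exists_of_mem_quotGrading (CohB1.polyGrading N A) I hb
    obtain ⟨c, hc⟩ := Groth.Agent.Lib.ProjSpaceProperH4.algebraMap_gradeZero_surjective N A ⟨a, ha⟩
    refine ⟨c, Subtype.ext ?_⟩
    have hc' : (MvPolynomial.C c : MvPolynomial (Fin (N + 1)) A) = a := congrArg Subtype.val hc
    show algebraMap A (MvPolynomial (Fin (N + 1)) A ⧸ I) c = Ideal.Quotient.mk I a
    rw [← hc']
    rfl
  · intro g hg
    obtain ⟨f, hf, rfl⟩ := Finset.mem_image.mp hg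
    exact mk_mem_quotGrading (CohB1.polyGrading N A) I (hs1 f hf)
  · apply le_antisymm
    · intro b hb
      have h1 := hφ hb
      change b ∈ ((HomogeneousIdeal.irrelevant (CohB1.polyGrading N A)).map
        (quotGradedHom (CohB1.polyGrading N A) I)).toIdeal at h1
      rw [HomogeneousIdeal.toIdeal_map, hs, Ideal.map_span] at h1
      refine Ideal.span_mono ?_ h1
      rintro _ ⟨f, hf, rfl⟩
      exact Finset.mem_coe.mpr (Finset.mem_image.mpr ⟨f, hf, rfl⟩)
    · rw [Ideal.span_le]
      intro g hg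
      obtain ⟨f, hf, rfl⟩ := Finset.mem_image.mp (Finset.mem_coe.mp hg)
      exact HomogeneousIdeal.mem_irrelevant_of_mem _ one_pos
        (mk_mem_quotGrading (CohB1.polyGrading N A) I (hs1 f hf))
  · -- compatibility with the structure morphisms
    have hcomp := Groth.Agent.Lib.ProjMap_helper3.map_toSpecZero _ _
      (quotGradedHom (CohB1.polyGrading N A) I) hφ
    have hg : algebraMap A (quotGrading (CohB1.polyGrading N A) I 0) =
        (quotGradedHom (CohB1.polyGrading N A) I).gradedZeroRingHom.comp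
          (algebraMap A (CohB1.polyGrading N A 0)) := by
      ext c
      rfl
    have key : r ≫ (Proj.toSpecZero (CohB1.polyGrading N A) ≫
        Spec.map (CommRingCat.ofHom (algebraMap A (CohB1.polyGrading N A 0)))) =
        e.hom ≫ Proj.toSpecZero (quotGrading (CohB1.polyGrading N A) I) ≫
          Spec.map (CommRingCat.ofHom
            (algebraMap A (quotGrading (CohB1.polyGrading N A) I 0))) := by
      rw [← he, Category.assoc, ← Category.assoc (Proj.map _ _), hcomp, Category.assoc,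
        ← Spec.map_comp, ← CommRingCat.ofHom_comp, ← hg]
    exact key.symm

end Groth.Agent.VAmpPn
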