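import Mathlib
import Groth.Prelude
import Groth.Agent.Lib.VAmpPn5_helper5
import Groth.Agent.Lib.ProjTwW_helper5

/-!
# Invertible modules on affine schemes of finite type are very ample (helper5)
APPEND-ONLY once landed.
-/

set_option autoImplicit false
universe u
open CategoryTheory CategoryTheory.Limits AlgebraicGeometry TopologicalSpace Opposite
open QcqsLoc GenLocH8 TensH8 FLFH8 QCohExtn

namespace Groth.Agent.VAmpPn

/-- `O^{⊗ n} ≅ O`. -/
noncomputable def tensorPowUnitIso (X : Scheme.{u}) :
    ∀ n : ℕ, CohB1.tensorPow (Coh.structureModule X) n ≅ Coh.structureModule X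
  | 0 => Iso.refl _
  | n + 1 => SecTwist.unitorR (CohB1.tensorPow (Coh.structureModule X) n) ≪≫ tensorPowUnitIso X n

/-- `O^{⊗ n} ⊗ L ≅ L`. -/
noncomputable def twistUnitIso {X : Scheme.{u}} (n : ℕ) (L : X.Modules) :
    CohB1.tensorMod (CohB1.tensorPow (Coh.structureModule X) n) L ≅ L :=
  PicGrp.tensorModIso (tensorPowUnitIso X n) (Iso.refl L) ≪≫
    Groth.Agent.ProjTw.tensorModComm _ _ ≪≫ SecTwist.unitorR L

/-- On a quasi-affine scheme locally of finite type over `S`, every invertible module is very
ample in the projective-space form. -/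
theorem isRelVeryAmplePn_of_isQuasiAffine {X S : Scheme.{u}} (q : X ⟶ S) [LocallyOfFiniteType q]
    [CompactSpace X] [X.IsQuasiAffine] {L : X.Modules} (hL : PicF.IsInvertible L) :
    RelAmple.IsRelVeryAmplePn q L := by
  have hO : CohB1.IsAmple (Coh.structureModule X) :=
    isAmple_structureModule_iff.mpr inferInstance
  obtain ⟨n₀, h⟩ := isRelVeryAmplePn_twist q hO hL
  exact isRelVeryAmplePn_of_iso q (twistUnitIso n₀ L) (h n₀ le_rfl)

end Groth.Agent.VAmpPn
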