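import Mathlib
import Groth.Prelude
import Groth.Agent.Lib.CurvePtInv6_helper9
import Groth.Agent.Lib.VBCurve9_helper9

/-!
# `h⁰(G) ≤ r · max(⌊μ(G)⌋ + 1, 0)` for a semistable bundle on a regular integral proper curve
over an algebraically closed field (helper9)

Statement of S18831.  APPEND-ONLY once landed.
-/

set_option autoImplicit false
universe u
open CategoryTheory CategoryTheory.Limits AlgebraicGeometry Opposite TopologicalSpace

namespace VBSlopeH0

open QcqsLoc QCohExtn GenLocH8 TensH8 FLFH8 CohB1 Groth.Agent.TensInv CurveAmple CurveGG CurvePt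

section Main

variable (k : Type u) [Field k] [IsAlgClosed k] (X : Scheme.{u}) [X.Over (Spec (CommRingCat.of k))]
  [IsIntegral X] [IsProper (X ↘ Spec (CommRingCat.of k))]

/-- twisting down by the ideal of a closed point lowers `h⁰` by at most the rank -/
theorem h0_le_twist_add {q : X} (hq : IsClosed ({q} : Set X)) {T : X.Modules} {r : ℕ}
    (hT : FlatMod.IsFinLocFreeOfRank r T) :
    Module.finrank k (Coh.HH X T 0) ≤
      Module.finrank k (Coh.HH X (CohB1.tensorMod
        (ClSub.idealMod (Scheme.IdealSheafData.vanishingIdeal ⟨{q}, hq⟩)) T) 0) + r := by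
  haveI : IsLocallyNoetherian X :=
    LocallyOfFiniteType.isLocallyNoetherian (X ↘ Spec (CommRingCat.of k))
  set I := Scheme.IdealSheafData.vanishingIdeal (⟨{q}, hq⟩ : Closeds X) with hI
  have hTf : FlatMod.IsFinLocFree T := TensBasis.isFinLocFree_of_rank hT
  have hS := TensBasis.shortExact_tR hTf (Groth.Agent.HypSurf.ses I)
    (Groth.Agent.HypSurf.ses_shortExact I)
  have hIc := CurveIdeal.isCoh_idealMod I
  have hQc := CurveIdeal.isCoh_quotMod I
  have hOc := CohDevH8.isCoh_structureModule X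
  have c1 : Coh.IsCoh (CohB1.tensorMod (ClSub.idealMod I) T) :=
    TensBasis.isCoh_tensorMod_finLocFree hIc hTf
  have c2 : Coh.IsCoh (CohB1.tensorMod (Coh.structureModule X) T) :=
    TensBasis.isCoh_tensorMod_finLocFree hOc hTf
  have c3 : Coh.IsCoh (CohB1.tensorMod (ClSub.quotMod I) T) :=
    TensBasis.isCoh_tensorMod_finLocFree hQc hTf
  have hle := CurvePtInv.finrank_HH0_le_add k X _ hS c1 c2 c3
  have h2 : Module.finrank k (Coh.HH X (CohB1.tensorMod (Coh.structureModule X) T) 0) =
      Module.finrank k (Coh.HH X T 0) := finrank_HH_of_iso k X (Groth.Agent.CMMul.unitorL T) 0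
  have hpt : ∀ x ∈ CohB1.support (ClSub.quotMod I), IsClosed ({x} : Set X) := by
    intro x hx
    have h1 := CurveIdeal.support_quotMod_subset I (Iso.refl _) hx
    have h3 : (I.support : Set X) = {q} := Scheme.IdealSheafData.coe_support_vanishingIdeal _
    rw [h3, Set.mem_singleton_iff] at h1
    rw [h1]
    exact hq
  have h3 : Module.finrank k (Coh.HH X (CohB1.tensorMod (ClSub.quotMod I) T) 0) = r * 1 := by
    rw [CurvePtInv.finrank_HH0_tensor_rank k X _ T hQc hT hpt,
      CurvePtInv.finrank_HH0_quotMod_point k X q hq]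
  have hle' : Module.finrank k (Coh.HH X (CohB1.tensorMod (Coh.structureModule X) T) 0) ≤
      Module.finrank k (Coh.HH X (CohB1.tensorMod (ClSub.idealMod I) T) 0) +
      Module.finrank k (Coh.HH X (CohB1.tensorMod (ClSub.quotMod I) T) 0) := hle
  rw [h2, h3] at hle'
  omega

/-- iterated twisting down -/
theorem h0_le_twistPow_add {q : X} (hq : IsClosed ({q} : Set X))
    (hJ : PicF.IsInvertible (ClSub.idealMod (Scheme.IdealSheafData.vanishingIdeal ⟨{q}, hq⟩)))
    {G : X.Modules} {r : ℕ} (hG : FlatMod.IsFinLocFreeOfRank r G) (m : ℕ) :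
    Module.finrank k (Coh.HH X G 0) ≤
      Module.finrank k (Coh.HH X (CohB1.tensorMod (CohB1.tensorPow
        (ClSub.idealMod (Scheme.IdealSheafData.vanishingIdeal ⟨{q}, hq⟩)) m) G) 0) + r * m := by
  set J := ClSub.idealMod (Scheme.IdealSheafData.vanishingIdeal (⟨{q}, hq⟩ : Closeds X)) with hJdef
  induction m with
  | zero =>
    rw [Nat.mul_zero, Nat.add_zero]
    exact (finrank_HH_of_iso k X (Groth.Agent.CMMul.unitorL G) 0).ge
  | succ m ih =>
    have hT0 := TensBasis.isFinLocFreeOfRank_tensorMod_of_isInvertible hG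
      (isInvertible_tensorPow hJ m)
    have hT : FlatMod.IsFinLocFreeOfRank r (CohB1.tensorMod (CohB1.tensorPow J m) G) := fun x => by
      obtain ⟨U, hxU, ⟨α⟩⟩ := hT0 x
      exact ⟨U, hxU, ⟨(Scheme.Modules.restrictFunctor U.ι).mapIso
        (comm (CohB1.tensorPow J m) G) ≪≫ α⟩⟩
    have h1 := h0_le_twist_add k X hq hT
    have e : CohB1.tensorMod J (CohB1.tensorMod (CohB1.tensorPow J m) G) ≅
        CohB1.tensorMod (CohB1.tensorPow J (m + 1)) G :=
      (assoc J (CohB1.tensorPow J m) G).symm ≪≫ mapR (comm J (CohB1.tensorPow J m)) G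
    have h2 := finrank_HH_of_iso k X e 0
    rw [h2] at h1
    have : r * (m + 1) = r * m + r := by ring
    omega

omit [IsAlgClosed k] in
/-- no sections after twisting a semistable module below slope zero -/
theorem hom_twist_eq_zero (hdim : topologicalKrullDim X = 1)
    (hreg : ∀ x : X, IsRegularLocalRing (X.presheaf.stalk x))
    {J N G : X.Modules} {r : ℕ} (hr : 0 < r) (hN : PicF.IsInvertible N)
    (e : CohB1.tensorMod J N ≅ Coh.structureModule X)
    (hG : FlatMod.IsFinLocFreeOfRank r G)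
    (hslope : Curv2.deg k X G r < Curv2.deg k X N 1 * (r : ℤ))
    (hGss : ModFun.IsSlopeSemistable k X G r) (u : Coh.structureModule X ⟶ CohB1.tensorMod J G) :
    u = 0 := by
  have hall : ∀ φ : N ⟶ G, φ = 0 := by
    intro φ
    have hslope' : Curv2.deg k X G r * ((1 : ℕ) : ℤ) < Curv2.deg k X N 1 * (r : ℤ) := by
      push_cast
      linarith
    exact VBCurve.hom_eq_zero_of_slope_gt k X hreg hdim hr
      (finLocFreeOfRank_one_of_isInvertible hN) hG (CurvePtInv.ss_of_isInvertible k X hdim hN) hGss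
      hslope' φ
  haveI := isEquivalence_tL (L := N) (L' := J) ⟨comm N J ≪≫ e⟩
  have h2 : (tL N).map u = 0 :=
    CurvePtInv.eq_zero_of_iso_comp (C := X.Modules)
      (show N ≅ (tL N).obj (Coh.structureModule X) from (rightUnit N).symm)
      (show (tL N).obj (CohB1.tensorMod J G) ≅ G from
        (assoc N J G).symm ≪≫ mapR (comm N J ≪≫ e) G ≪≫ Groth.Agent.CMMul.unitorL G)
      ((tL N).map u) (hall _)
  apply (tL N).map_injective
  rw [h2, Functor.map_zero]

/-- **statement of S18831** -/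
theorem h0_le (hdim : topologicalKrullDim X = 1)
    (hreg : ∀ x : X, IsRegularLocalRing (X.presheaf.stalk x))
    (r : ℕ) (hr : 0 < r) (G : X.Modules) (hG : FlatMod.IsFinLocFreeOfRank r G)
    (hss : ModFun.IsSlopeSemistable k X G r) :
    (Module.finrank k (Coh.HH X G 0) : ℤ) ≤
      (r : ℤ) * max (⌊(Curv2.deg k X G r : ℚ) / (r : ℚ)⌋ + 1) 0 := by
  haveI : IsLocallyNoetherian X :=
    LocallyOfFiniteType.isLocallyNoetherian (X ↘ Spec (CommRingCat.of k))
  haveI : CompactSpace X :=
    QuasiCompact.compactSpace_of_compactSpace (X ↘ Spec (CommRingCat.of k))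
  haveI : Nonempty X := inferInstance
  -- a closed point
  obtain ⟨q, hq⟩ : ∃ q : X, IsClosed ({q} : Set X) := by
    obtain ⟨q, -, hq⟩ := IsClosed.exists_closed_singleton (isClosed_univ (X := X))
      Set.univ_nonempty
    exact ⟨q, hq⟩
  set J := ClSub.idealMod (Scheme.IdealSheafData.vanishingIdeal (⟨{q}, hq⟩ : Closeds X)) with hJdef
  have hJ : PicF.IsInvertible J := CurvePtInv.isInvertible_idealMod_point hdim hq (hreg q)
  set M : ℤ := max (⌊(Curv2.deg k X G r : ℚ) / (r : ℚ)⌋ + 1) 0 with hM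
  have hM0 : 0 ≤ M := le_max_right _ _
  obtain ⟨m, hm⟩ : ∃ m : ℕ, (m : ℤ) = M := ⟨M.toNat, Int.toNat_of_nonneg hM0⟩
  have hrQ : (0 : ℚ) < (r : ℚ) := by exact_mod_cast hr
  -- `deg G < m * r`
  have hlt : Curv2.deg k X G r < (m : ℤ) * (r : ℤ) := by
    have h1 : (Curv2.deg k X G r : ℚ) / (r : ℚ) < (M : ℚ) := by
      have h2 : (Curv2.deg k X G r : ℚ) / (r : ℚ) < (⌊(Curv2.deg k X G r : ℚ) / (r : ℚ)⌋ : ℚ) + 1 :=
        Int.lt_floor_add_one _
      have h3' : ⌊(Curv2.deg k X G r : ℚ) / (r : ℚ)⌋ + 1 ≤ M := le_max_left _ _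
      have h3 : ((⌊(Curv2.deg k X G r : ℚ) / (r : ℚ)⌋ + 1 : ℤ) : ℚ) ≤ (M : ℚ) := by
        exact_mod_cast h3'
      push_cast at h3
      linarith
    rw [div_lt_iff₀ hrQ] at h1
    rw [hm]
    exact_mod_cast h1
  -- the inverse of `J^m`
  have hJm := isInvertible_tensorPow hJ m
  obtain ⟨N, hN, ⟨e⟩⟩ := Groth.Agent.InvTensP.exists_inverse _ hJm
  have hdegJ : Curv2.deg k X J 1 = -1 := CurvePtInv.deg_idealMod_point k X q hq
  have hdegN : Curv2.deg k X N 1 = (m : ℤ) := by
    have h1 := CurveTens.deg_tensorMod k X hdim.le hJm hN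
    rw [CurveTens.deg_of_iso k X e 1, CurveDeg.deg_structureModule k X,
      CurveTens.deg_tensorPow k X hdim.le hJ m, hdegJ] at h1
    linarith
  -- no sections of the twist
  have h0 : Module.finrank k (Coh.HH X (CohB1.tensorMod (CohB1.tensorPow J m) G) 0) = 0 := by
    rw [← (CurveIdeal.thetaEquiv k _).finrank_eq]
    haveI : Subsingleton (Coh.structureModule X ⟶ CohB1.tensorMod (CohB1.tensorPow J m) G) :=
      ⟨fun u u' => by
        rw [hom_twist_eq_zero k X hdim hreg hr hN e hG (by rw [hdegN]; exact hlt) hss u,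
          hom_twist_eq_zero k X hdim hreg hr hN e hG (by rw [hdegN]; exact hlt) hss u']⟩
    exact Module.finrank_zero_of_subsingleton
  have h1 := h0_le_twistPow_add k X hq hJ hG m
  rw [h0, zero_add] at h1
  rw [← hm]
  exact_mod_cast h1

end Main

end VBSlopeH0
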