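import Mathlib
import Groth.Prelude
import Groth.Agent.Lib.SymAlg7_helper5
import Groth.Agent.Lib.SymSmooth_helper7
import Groth.Agent.Lib.FLF8_helper8

set_option autoImplicit false
set_option linter.style.haveILetI false
set_option linter.unusedVariables false

universe u

open CategoryTheory CategoryTheory.Limits AlgebraicGeometry TopologicalSpace Opposite
open Groth.Agent.SymAlg RelSpec

namespace Groth.Agent.Lib.VBSmoothH6

variable {S : Scheme.{u}} (E : S.Modules)

theorem smooth_π [E.IsQuasicoherent] (hlf : FlatMod.IsFinLocFree E) (A : QCAlg S)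
    (j : E ⟶ A.toModule) (hA : RelSpec.IsSymAlg E A j) : Smooth A.π := by
  have hloc := isSymOnAffines_of_isSymAlg E A j hA
  refine of_chart_π @Smooth A (fun U hU => ?_)
  rw [HasRingHomProperty.Spec_iff (P := @Smooth)]
  obtain ⟨hfp, hflat⟩ := FLFH8.fp_flat_sections_of_finLocFree E hlf hU
  haveI := hfp
  haveI := hflat
  haveI : Module.Finite Γ(S, U) Γ(E, U) := inferInstance
  haveI : Module.Projective Γ(S, U) Γ(E, U) := Module.Flat.projective_of_finitePresentation
  have h1 : (A.str.app (op U)).hom = (symToA E A j U).comp (algebraMap Γ(S, U) (SymSec E U)) := by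
    ext r
    exact (symToA_algebraMap E A j U r).symm
  rw [h1]
  refine RingHom.Smooth.comp ?_ (RingHom.Smooth.of_bijective (hloc U hU))
  rw [RingHom.smooth_algebraMap]
  exact (Groth.Agent.Lib.SymSmoothH7.main).mpr ⟨inferInstance, inferInstance⟩

end Groth.Agent.Lib.VBSmoothH6
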