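import Mathlib

/-!
# Quasi-compactness from the valuative criterion (helper7)

A morphism locally of finite type satisfying the valuative criterion whose source has finitely many
irreducible components is quasi-compact.  The proof is the classical one via quasi-compactness of
the Zariski–Riemann space of valuation rings of a residue field (obtained from Tychonoff for
`K → Bool`).
-/

set_option autoImplicit false
universe u
open CategoryTheory CategoryTheory.Limits AlgebraicGeometry TopologicalSpace IsLocalRing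

namespace Groth.Agent.Lib.VCQC_helper7

section Basic

lemma exists_ringHom_of_range_subset {Y : Scheme.{u}} {U : Y.Opens} (hU : IsAffineOpen U)
    {R : CommRingCat.{u}} (g : Spec R ⟶ Y) (hg : Set.range g ⊆ (U : Set Y)) :
    ∃ ρ : Γ(Y, U) ⟶ R, Spec.map ρ ≫ hU.fromSpec = g := by
  have hsub : Set.range g ⊆ Set.range hU.fromSpec := by rw [hU.range_fromSpec]; exact hg
  refine ⟨Spec.preimage (IsOpenImmersion.lift hU.fromSpec g hsub), ?_⟩
  rw [Spec.map_preimage, IsOpenImmersion.lift_fac]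

lemma ringHom_ext_of_fromSpec {Y : Scheme.{u}} {U : Y.Opens} (hU : IsAffineOpen U)
    {R : CommRingCat.{u}} (ρ ρ' : Γ(Y, U) ⟶ R)
    (h : Spec.map ρ ≫ hU.fromSpec = Spec.map ρ' ≫ hU.fromSpec) : ρ = ρ' := by
  apply Spec.map_injective
  exact (cancel_mono hU.fromSpec).mp h

lemma fromSpec_mem {Y : Scheme.{u}} {U : Y.Opens} (hU : IsAffineOpen U) (z : Spec Γ(Y, U)) :
    hU.fromSpec z ∈ (U : Set Y) := by
  rw [← hU.range_fromSpec]
  exact ⟨z, rfl⟩

lemma range_subset_of_closedPoint_mem {Y : Scheme.{u}} (U : Y.Opens) {R : Type u} [CommRing R]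
    [IsLocalRing R] (g : Spec (CommRingCat.of R) ⟶ Y) (h : g (closedPoint R) ∈ (U : Set Y)) :
    Set.range g ⊆ (U : Set Y) := by
  rintro _ ⟨z, rfl⟩
  have hz : z ⤳ closedPoint R := specializes_closedPoint z
  exact (hz.map g.continuous).mem_open U.2 h

/-- closed conditions on finitely many coordinates of `κ → Bool` -/
lemma isClosed_cond3 {κ : Type*} (p : Bool → Bool → Bool → Prop) (a b c : κ) :
    IsClosed {χ : κ → Bool | p (χ a) (χ b) (χ c)} := by
  have hc : Continuous (fun χ : κ → Bool => (χ a, χ b, χ c)) :=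
    (continuous_apply a).prodMk ((continuous_apply b).prodMk (continuous_apply c))
  exact (isClosed_discrete {q : Bool × Bool × Bool | p q.1 q.2.1 q.2.2}).preimage hc

lemma isOpen_coord {κ : Type*} (a : κ) : IsOpen {χ : κ → Bool | χ a = true} := by
  show IsOpen ((fun χ : κ → Bool => χ a) ⁻¹' {q : Bool | q = true})
  exact (isOpen_discrete {q : Bool | q = true}).preimage (continuous_apply a)

/-- the valuation subring attached to an indicator function -/
def toV {K : Type*} [Field K] (χ : K → Bool) (h1 : χ 1 = true) (h0 : χ 0 = true)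
    (hadd : ∀ a b, χ a = true → χ b = true → χ (a + b) = true)
    (hmul : ∀ a b, χ a = true → χ b = true → χ (a * b) = true)
    (hneg : ∀ a, χ a = true → χ (-a) = true)
    (hinv : ∀ a, χ a = true ∨ χ a⁻¹ = true) : ValuationSubring K where
  carrier := {a | χ a = true}
  mul_mem' := fun {a b} ha hb => hmul a b ha hb
  one_mem' := h1
  add_mem' := fun {a b} ha hb => hadd a b ha hb
  zero_mem' := h0
  neg_mem' := fun {a} ha => hneg a ha
  mem_or_inv_mem' := hinv

lemma mem_toV {K : Type*} [Field K] (χ : K → Bool) (h1 h0 hadd hmul hneg hinv) (a : K) :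
    a ∈ toV χ h1 h0 hadd hmul hneg hinv ↔ χ a = true := Iff.rfl

end Basic

section Core

variable {X Y : Scheme.{u}} (f : X ⟶ Y) {U : Y.Opens} (hU : IsAffineOpen U) (ξ : X)

/-- `ℓ` is a lift of the generic point `Spec κ(ξ) ⟶ X` to `Spec V`, lying over `U`. -/
def IsLift (V : ValuationSubring (X.residueField ξ)) (ℓ : Spec (CommRingCat.of V) ⟶ X) : Prop :=
  Spec.map (CommRingCat.ofHom (algebraMap V (X.residueField ξ))) ≫ ℓ = X.fromSpecResidueField ξ ∧
    Set.range (ℓ ≫ f) ⊆ (U : Set Y)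

variable {f ξ}

include hU in
lemma isLift_comp_eq {V : ValuationSubring (X.residueField ξ)}
    {ℓ ℓ' : Spec (CommRingCat.of V) ⟶ X} (h : IsLift f (U := U) ξ V ℓ) (h' : IsLift f (U := U) ξ V ℓ') :
    ℓ ≫ f = ℓ' ≫ f := by
  obtain ⟨ρ, hρ⟩ := exists_ringHom_of_range_subset hU (ℓ ≫ f) h.2
  obtain ⟨ρ', hρ'⟩ := exists_ringHom_of_range_subset hU (ℓ' ≫ f) h'.2
  have e : ρ ≫ CommRingCat.ofHom (algebraMap V (X.residueField ξ)) =
      ρ' ≫ CommRingCat.ofHom (algebraMap V (X.residueField ξ)) := by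
    apply ringHom_ext_of_fromSpec hU
    rw [Spec.map_comp, Spec.map_comp, Category.assoc, Category.assoc, hρ, hρ',
      ← Category.assoc, ← Category.assoc, h.1, h'.1]
  have e2 : ρ = ρ' := by
    ext a
    have := congrArg (fun t => t.hom a) e
    exact this
  rw [← hρ, ← hρ', e2]

include hU in
lemma isLift_unique (hf : ValuativeCriterion f) {V : ValuationSubring (X.residueField ξ)}
    {ℓ ℓ' : Spec (CommRingCat.of V) ⟶ X} (h : IsLift f (U := U) ξ V ℓ) (h' : IsLift f (U := U) ξ V ℓ') :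
    ℓ = ℓ' := by
  have e := isLift_comp_eq hU h h'
  have w : X.fromSpecResidueField ξ ≫ f =
      Spec.map (CommRingCat.ofHom (algebraMap V (X.residueField ξ))) ≫ (ℓ ≫ f) := by
    rw [← Category.assoc, h.1]
  let S : ValuativeCommSq f :=
    { R := V, K := X.residueField ξ, i₁ := X.fromSpecResidueField ξ, i₂ := ℓ ≫ f, commSq := ⟨w⟩, .. }
  haveI : Subsingleton S.commSq.LiftStruct := hf.uniqueness S
  let s₁ : S.commSq.LiftStruct := ⟨ℓ, h.1, rfl⟩
  let s₂ : S.commSq.LiftStruct := ⟨ℓ', h'.1, e.symm⟩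
  exact congrArg CommSq.LiftStruct.l (Subsingleton.elim s₁ s₂)

include hU in
/-- the valuation ring of a lift contains the image of `Γ(Y, U)` -/
lemma mem_of_isLift {φ : Γ(Y, U) ⟶ X.residueField ξ}
    (hφ : Spec.map φ ≫ hU.fromSpec = X.fromSpecResidueField ξ ≫ f)
    {V : ValuationSubring (X.residueField ξ)} {ℓ : Spec (CommRingCat.of V) ⟶ X}
    (h : IsLift f (U := U) ξ V ℓ) (a : Γ(Y, U)) : φ.hom a ∈ V := by
  obtain ⟨ρ, hρ⟩ := exists_ringHom_of_range_subset hU (ℓ ≫ f) h.2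
  have e : ρ ≫ CommRingCat.ofHom (algebraMap V (X.residueField ξ)) = φ := by
    apply ringHom_ext_of_fromSpec hU
    rw [Spec.map_comp, Category.assoc, hρ, ← Category.assoc, h.1, hφ]
  rw [← e]
  exact (ρ.hom a).2

/-- (K1) if the generators of an affine chart lie in `V`, there is a lift through the chart -/
lemma exists_isLift_of_mem {W : X.Opens} (hW : IsAffineOpen W) (hWU : W ≤ f ⁻¹ᵁ U)
    {θ : Γ(X, W) ⟶ X.residueField ξ}
    (hθ : Spec.map θ ≫ hW.fromSpec = X.fromSpecResidueField ξ)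
    {V : ValuationSubring (X.residueField ξ)} (hV : ∀ b, θ.hom b ∈ V) :
    ∃ ℓ : Spec (CommRingCat.of V) ⟶ X, IsLift f (U := U) ξ V ℓ ∧ Set.range ℓ ⊆ (W : Set X) := by
  let θV : Γ(X, W) ⟶ CommRingCat.of V := CommRingCat.ofHom (θ.hom.codRestrict V.toSubring hV)
  have hθV : θV ≫ CommRingCat.ofHom (algebraMap V (X.residueField ξ)) = θ := by
    ext b; rfl
  have hrange : Set.range (Spec.map θV ≫ hW.fromSpec) ⊆ (W : Set X) := by
    rintro _ ⟨z, rfl⟩
    rw [Scheme.Hom.comp_apply]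
    exact fromSpec_mem hW _
  refine ⟨Spec.map θV ≫ hW.fromSpec, ⟨?_, ?_⟩, hrange⟩
  · rw [← Category.assoc, ← Spec.map_comp, hθV, hθ]
  · rintro _ ⟨z, rfl⟩
    rw [Scheme.Hom.comp_apply]
    exact hWU (hrange ⟨z, rfl⟩)

include hU in
/-- (K2) every valuation ring containing the image of `Γ(Y, U)` is centred in some affine chart -/
lemma exists_chart (hf : ValuativeCriterion f) {φ : Γ(Y, U) ⟶ X.residueField ξ}
    (hφ : Spec.map φ ≫ hU.fromSpec = X.fromSpecResidueField ξ ≫ f)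
    (V : ValuationSubring (X.residueField ξ)) (hV : ∀ a, φ.hom a ∈ V) :
    ∃ (W : X.Opens) (hW : IsAffineOpen W), ξ ∈ W ∧ W ≤ f ⁻¹ᵁ U ∧
      ∀ θ : Γ(X, W) ⟶ X.residueField ξ,
        Spec.map θ ≫ hW.fromSpec = X.fromSpecResidueField ξ → ∀ b, θ.hom b ∈ V := by
  let φV : Γ(Y, U) ⟶ CommRingCat.of V := CommRingCat.ofHom (φ.hom.codRestrict V.toSubring hV)
  have hφV : φV ≫ CommRingCat.ofHom (algebraMap V (X.residueField ξ)) = φ := by
    ext b; rfl
  have w : X.fromSpecResidueField ξ ≫ f =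
      Spec.map (CommRingCat.ofHom (algebraMap V (X.residueField ξ))) ≫
        (Spec.map φV ≫ hU.fromSpec) := by
    rw [← Category.assoc, ← Spec.map_comp, hφV, hφ]
  obtain ⟨ℓ, hl₁, hl₂⟩ := (hf.existence
    { R := V, K := X.residueField ξ, i₁ := X.fromSpecResidueField ξ,
      i₂ := Spec.map φV ≫ hU.fromSpec, commSq := ⟨w⟩, .. }).exists_lift
  dsimp only at hl₁ hl₂
  have hx : ℓ (closedPoint V) ∈ ((f ⁻¹ᵁ U : X.Opens) : Set X) := by
    show f (ℓ (closedPoint V)) ∈ (U : Set Y)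
    rw [← Scheme.Hom.comp_apply, hl₂, Scheme.Hom.comp_apply]
    exact fromSpec_mem hU _
  obtain ⟨_, ⟨W, hW, rfl⟩, hxW, hWU⟩ :=
    X.isBasis_affineOpens.exists_subset_of_mem_open hx (f ⁻¹ᵁ U).2
  have hrange : Set.range ℓ ⊆ (W : Set X) := range_subset_of_closedPoint_mem W ℓ hxW
  have hξW : ξ ∈ W := by
    apply hrange
    refine ⟨Spec.map (CommRingCat.ofHom (algebraMap V (X.residueField ξ)))
      (closedPoint (X.residueField ξ)), ?_⟩
    rw [← Scheme.Hom.comp_apply, hl₁, Scheme.fromSpecResidueField_apply]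
  refine ⟨W, hW, hξW, hWU, ?_⟩
  intro θ hθ b
  obtain ⟨ρ, hρ⟩ := exists_ringHom_of_range_subset hW ℓ hrange
  have e : ρ ≫ CommRingCat.ofHom (algebraMap V (X.residueField ξ)) = θ := by
    apply ringHom_ext_of_fromSpec hW
    rw [Spec.map_comp, Category.assoc, hρ, hl₁, hθ]
  rw [← e]
  exact (ρ.hom b).2

/-- (K3) every specialization of `ξ` over `U` is the centre of a lift -/
lemma exists_isLift_of_specializes {x : X} (h : ξ ⤳ x) (hx : f x ∈ (U : Set Y)) :
    ∃ (V : ValuationSubring (X.residueField ξ)) (ℓ : Spec (CommRingCat.of V) ⟶ X),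
      IsLift f (U := U) ξ V ℓ ∧ ℓ (closedPoint V) = x := by
  let ψ : X.presheaf.stalk x ⟶ X.residueField ξ := X.presheaf.stalkSpecializes h ≫ X.residue ξ
  obtain ⟨V, hV, hloc⟩ := exists_factor_valuationRing ψ.hom
  let ψV : X.presheaf.stalk x ⟶ CommRingCat.of V :=
    CommRingCat.ofHom (ψ.hom.codRestrict V.toSubring hV)
  have hψV : ψV ≫ CommRingCat.ofHom (algebraMap V (X.residueField ξ)) = ψ := by
    ext b; rfl
  have hcl : (Spec.map ψV ≫ X.fromSpecStalk x) (closedPoint V) = x := by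
    rw [Scheme.Hom.comp_apply]
    have : Spec.map ψV (closedPoint V) = closedPoint (X.presheaf.stalk x) :=
      comap_closedPoint (S := V) (ψ.hom.codRestrict V.toSubring hV)
    rw [this, X.fromSpecStalk_closedPoint]
  refine ⟨V, Spec.map ψV ≫ X.fromSpecStalk x, ⟨?_, ?_⟩, hcl⟩
  · rw [← Category.assoc, ← Spec.map_comp, hψV]
    show Spec.map (X.presheaf.stalkSpecializes h ≫ X.residue ξ) ≫ X.fromSpecStalk x = _
    rw [Spec.map_comp, Category.assoc, Scheme.SpecMap_stalkSpecializes_fromSpecStalk]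
    rfl
  · apply range_subset_of_closedPoint_mem U
    rw [Scheme.Hom.comp_apply, hcl]
    exact hx

end Core

section Main

variable {X Y : Scheme.{u}} (f : X ⟶ Y)

open Classical in
theorem exists_finite_cover [LocallyOfFiniteType f] (hf : ValuativeCriterion f)
    {U : Y.Opens} (hU : IsAffineOpen U) (ξ : X) (hξ : f ξ ∈ (U : Set Y)) :
    ∃ t : Finset X.Opens, (∀ W ∈ t, IsAffineOpen W ∧ W ≤ f ⁻¹ᵁ U) ∧
      ∀ x : X, ξ ⤳ x → f x ∈ (U : Set Y) → ∃ W ∈ t, x ∈ W := by
  -- the ring map `φ`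
  obtain ⟨φ, hφ⟩ := exists_ringHom_of_range_subset hU (X.fromSpecResidueField ξ ≫ f) (by
    rintro _ ⟨z, rfl⟩
    rw [Scheme.Hom.comp_apply, Scheme.fromSpecResidueField_apply]
    exact hξ)
  -- the charts
  let 𝒲 := {W : X.Opens // IsAffineOpen W ∧ ξ ∈ W ∧ W ≤ f ⁻¹ᵁ U}
  have hθ : ∀ W : 𝒲, ∃ θ : Γ(X, W.1) ⟶ X.residueField ξ,
      Spec.map θ ≫ W.2.1.fromSpec = X.fromSpecResidueField ξ := by
    intro W
    apply exists_ringHom_of_range_subset W.2.1
    rintro _ ⟨z, rfl⟩
    rw [Scheme.fromSpecResidueField_apply]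
    exact W.2.2.1
  choose θ hθ using hθ
  have hθφ : ∀ W : 𝒲, f.appLE U W.1 W.2.2.2 ≫ θ W = φ := by
    intro W
    apply ringHom_ext_of_fromSpec hU
    rw [Spec.map_comp, Category.assoc, IsAffineOpen.SpecMap_appLE_fromSpec f hU W.2.1 W.2.2.2,
      ← Category.assoc, hθ, hφ]
  have hG : ∀ W : 𝒲, ∃ G : Finset Γ(X, W.1), ∀ V : ValuationSubring (X.residueField ξ),
      (∀ a, φ.hom a ∈ V) → (∀ b ∈ G, (θ W).hom b ∈ V) → ∀ b, (θ W).hom b ∈ V := by
    intro W
    letI : Algebra Γ(Y, U) Γ(X, W.1) := (f.appLE U W.1 W.2.2.2).hom.toAlgebra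
    obtain ⟨G, hG⟩ := (f.finiteType_appLE hU W.2.1 W.2.2.2).out
    refine ⟨G, fun V hVφ hVG => ?_⟩
    let S' : Subalgebra Γ(Y, U) Γ(X, W.1) :=
      { (V.toSubring.comap (θ W).hom) with
        algebraMap_mem' := fun a => by
          show (θ W).hom ((f.appLE U W.1 W.2.2.2).hom a) ∈ V
          have := congrArg (fun t => t.hom a) (hθφ W)
          simp only [CommRingCat.hom_comp, RingHom.coe_comp, Function.comp_apply] at this
          rw [this]
          exact hVφ a }
    have hle : Algebra.adjoin Γ(Y, U) (G : Set Γ(X, W.1)) ≤ S' :=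
      Algebra.adjoin_le (fun b hb => hVG b hb)
    intro b
    have hb : b ∈ Algebra.adjoin Γ(Y, U) (G : Set Γ(X, W.1)) := by rw [hG]; trivial
    exact hle hb
  choose G hG using hG
  -- the Zariski-Riemann space
  let Kt := (X.residueField ξ : Type u)
  let 𝒱 : Set (Kt → Bool) := {χ | χ 1 = true ∧ χ 0 = true ∧
    (∀ a b, χ a = true → χ b = true → χ (a + b) = true) ∧
    (∀ a b, χ a = true → χ b = true → χ (a * b) = true) ∧
    (∀ a, χ a = true → χ (-a) = true) ∧ (∀ a, χ a = true ∨ χ a⁻¹ = true) ∧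
    ∀ a : Γ(Y, U), χ (φ.hom a) = true}
  have h𝒱 : IsCompact 𝒱 := by
    apply IsClosed.isCompact
    simp only [𝒱, Set.setOf_and, Set.setOf_forall]
    refine IsClosed.inter ?_ (IsClosed.inter ?_ (IsClosed.inter ?_ (IsClosed.inter ?_
      (IsClosed.inter ?_ (IsClosed.inter ?_ ?_)))))
    · exact isClosed_cond3 (fun u _ _ => u = true) 1 1 1
    · exact isClosed_cond3 (fun u _ _ => u = true) 0 0 0
    · exact isClosed_iInter fun a => isClosed_iInter fun b =>
        isClosed_cond3 (fun u v w => u = true → v = true → w = true) a b (a + b)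
    · exact isClosed_iInter fun a => isClosed_iInter fun b =>
        isClosed_cond3 (fun u v w => u = true → v = true → w = true) a b (a * b)
    · exact isClosed_iInter fun a =>
        isClosed_cond3 (fun u v _ => u = true → v = true) a (-a) a
    · exact isClosed_iInter fun a =>
        isClosed_cond3 (fun u v _ => u = true ∨ v = true) a a⁻¹ a
    · exact isClosed_iInter fun a =>
        isClosed_cond3 (fun u _ _ => u = true) (φ.hom a) (φ.hom a) (φ.hom a)
  let O : 𝒲 → Set (Kt → Bool) := fun W => {χ | ∀ b ∈ G W, χ ((θ W).hom b) = true}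
  have hO : ∀ W, IsOpen (O W) := by
    intro W
    simp only [O, Set.setOf_forall]
    exact isOpen_biInter_finset (fun b _ => isOpen_coord _)
  have hcover : 𝒱 ⊆ ⋃ W, O W := by
    intro χ hχ
    obtain ⟨h1, h0, hadd, hmul, hneg, hinv, hφχ⟩ := hχ
    obtain ⟨W, hW, hξW, hWU, hWθ⟩ := exists_chart hU hf hφ (toV χ h1 h0 hadd hmul hneg hinv)
      (fun a => hφχ a)
    refine Set.mem_iUnion.mpr ⟨⟨W, hW, hξW, hWU⟩, fun b _ => ?_⟩
    exact hWθ (θ ⟨W, hW, hξW, hWU⟩) (hθ ⟨W, hW, hξW, hWU⟩) b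
  obtain ⟨t', ht'⟩ := h𝒱.elim_finite_subcover O hO hcover
  refine ⟨t'.image Subtype.val, ?_, ?_⟩
  · intro W hW
    obtain ⟨W', -, rfl⟩ := Finset.mem_image.mp hW
    exact ⟨W'.2.1, W'.2.2.2⟩
  · intro x hξx hx
    obtain ⟨V, ℓ, hℓ, hcl⟩ := exists_isLift_of_specializes (f := f) (U := U) hξx hx
    have hVφ : ∀ a, φ.hom a ∈ V := mem_of_isLift hU hφ hℓ
    let χ : Kt → Bool := fun a => decide (a ∈ V)
    have hχ : χ ∈ 𝒱 := by
      refine ⟨?_, ?_, ?_, ?_, ?_, ?_, ?_⟩
      · simpa [χ] using V.one_mem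
      · simpa [χ] using V.zero_mem
      · intro a b ha hb
        simp only [χ, decide_eq_true_eq] at ha hb ⊢
        exact V.add_mem _ _ ha hb
      · intro a b ha hb
        simp only [χ, decide_eq_true_eq] at ha hb ⊢
        exact V.mul_mem _ _ ha hb
      · intro a ha
        simp only [χ, decide_eq_true_eq] at ha ⊢
        exact V.neg_mem _ ha
      · intro a
        simp only [χ, decide_eq_true_eq]
        exact V.mem_or_inv_mem a
      · intro a
        simp only [χ, decide_eq_true_eq]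
        exact hVφ a
    obtain ⟨W, hWt, hχW⟩ : ∃ W ∈ t', χ ∈ O W := by
      have := ht' hχ
      simpa only [Set.mem_iUnion, exists_prop] using this
    have hVG : ∀ b ∈ G W, (θ W).hom b ∈ V := by
      intro b hb
      have := hχW b hb
      simpa only [χ, decide_eq_true_eq] using this
    obtain ⟨ℓ', hℓ', hrange⟩ := exists_isLift_of_mem (f := f) (U := U) W.2.1 W.2.2.2 (hθ W)
      (hG W V hVφ hVG)
    have : ℓ = ℓ' := isLift_unique hU hf hℓ hℓ'
    refine ⟨W.1, Finset.mem_image_of_mem _ hWt, ?_⟩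
    rw [← hcl, this]
    exact hrange ⟨_, rfl⟩

theorem main [LocallyOfFiniteType f] (hf : ValuativeCriterion f)
    (hX : (irreducibleComponents ↥X).Finite) : QuasiCompact f := by
  rw [quasiCompact_iff_forall_isAffineOpen]
  intro U hU
  have key : ∀ Z ∈ irreducibleComponents ↥X, ∃ t : Finset X.Opens,
      (∀ W ∈ t, IsAffineOpen W ∧ W ≤ f ⁻¹ᵁ U) ∧
        (Z ∩ ((f ⁻¹ᵁ U : X.Opens) : Set X)) ⊆ ⋃ W ∈ t, (W : Set X) := by
    intro Z hZ
    obtain ⟨ξ, hξ⟩ := QuasiSober.sober hZ.prop (isClosed_of_mem_irreducibleComponents Z hZ)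
    have hsp : ∀ x ∈ Z, ξ ⤳ x := by
      intro x hxZ
      rw [specializes_iff_mem_closure, hξ.def]
      exact hxZ
    by_cases hξU : f ξ ∈ (U : Set Y)
    · obtain ⟨t, ht1, ht2⟩ := exists_finite_cover f hf hU ξ hξU
      refine ⟨t, ht1, ?_⟩
      rintro x ⟨hxZ, hxU⟩
      obtain ⟨W, hW, hxW⟩ := ht2 x (hsp x hxZ) hxU
      exact Set.mem_biUnion hW hxW
    · refine ⟨∅, by simp, ?_⟩
      rintro x ⟨hxZ, hxU⟩
      exfalso
      apply hξU
      exact (hsp x hxZ).mem_open (f ⁻¹ᵁ U).2 hxU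
  choose! t ht1 ht2 using key
  have heq : ((f ⁻¹ᵁ U : X.Opens) : Set X) =
      ⋃ Z ∈ irreducibleComponents ↥X, ⋃ W ∈ t Z, (W : Set X) := by
    apply Set.Subset.antisymm
    · intro x hx
      obtain ⟨Z, hZ, hxZ⟩ : ∃ Z ∈ irreducibleComponents ↥X, x ∈ Z := by
        have hx' : x ∈ ⋃₀ irreducibleComponents ↥X := by
          rw [sUnion_irreducibleComponents]; trivial
        exact hx'
      exact Set.mem_biUnion hZ (ht2 Z hZ ⟨hxZ, hx⟩)
    · intro x hx
      simp only [Set.mem_iUnion] at hx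
      obtain ⟨Z, hZ, W, hW, hxW⟩ := hx
      exact (ht1 Z hZ W hW).2 hxW
  rw [heq]
  exact hX.isCompact_biUnion (fun Z hZ =>
    (t Z).isCompact_biUnion (fun W hW => (ht1 Z hZ W hW).1.isCompact))

end Main

end Groth.Agent.Lib.VCQC_helper7
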