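import Mathlib
import Groth.Prelude.Def_HTop

/-!
# V coverings: refinement over an affine scheme mapping to the base
-/

universe w u

open CategoryTheory CategoryTheory.Limits AlgebraicGeometry

namespace Groth.Agent.Lib.VCover

/-- A morphism from the spectrum of a local ring lands in an open as soon as the closed point
does. -/
lemma range_subset_of_closedPoint_mem {A : Scheme.{u}} (V : CommRingCat.{u}) [IsLocalRing V]
    (γ : Spec V ⟶ A) (U : A.Opens) (h : γ (IsLocalRing.closedPoint V) ∈ U) :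
    Set.range γ ⊆ Set.range U.ι := by
  rw [Scheme.Opens.range_ι]
  rintro _ ⟨y, rfl⟩
  exact ((IsLocalRing.specializes_closedPoint y).map γ.continuous).mem_open U.isOpen h

set_option backward.isDefEq.respectTransparency false in
/-- Core: a V covering of `X` admits a standard V refinement over any affine `A ⟶ X`. -/
theorem exists_standardV_refinesOver {X A : Scheme.{u}} [IsAffine A] (a : A ⟶ X)
    (E : PreZeroHypercover.{w} X) (hE : HTop.IsVCover E) :
    ∃ G : PreZeroHypercover.{0} A, HTop.IsStandardV G ∧ HTop.RefinesOver a G E := by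
  classical
  -- choices at each point
  have h1 : ∀ p : A, ∃ W : X.affineOpens, a p ∈ W.1 := fun p => by
    obtain ⟨_, ⟨W, hW, rfl⟩, hp, -⟩ := X.isBasis_affineOpens.exists_subset_of_mem_open
      (Set.mem_univ (a p)) isOpen_univ
    exact ⟨⟨W, hW⟩, hp⟩
  choose W hW using h1
  have h2 : ∀ p : A, ∃ Ao : A.affineOpens, p ∈ Ao.1 ∧ Ao.1 ≤ a ⁻¹ᵁ (W p).1 := fun p => by
    obtain ⟨_, ⟨Ao, hAo, rfl⟩, hp, hle⟩ := A.isBasis_affineOpens.exists_subset_of_mem_open
      (show p ∈ a ⁻¹ᵁ (W p).1 from hW p) (a ⁻¹ᵁ (W p).1).isOpen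
    exact ⟨⟨Ao, hAo⟩, hp, hle⟩
  choose Ao hpAo hle using h2
  choose H hH hR using fun p => hE (W p)
  -- finite subcover
  obtain ⟨t, ht⟩ := isCompact_univ.elim_finite_subcover (fun p : A => ((Ao p).1 : Set A))
    (fun p => (Ao p).1.isOpen) (fun p _ => Set.mem_iUnion.mpr ⟨p, hpAo p⟩)
  let pt : Fin t.card → A := fun k => (t.equivFin.symm k).1
  have hcov : ∀ p : A, ∃ k : Fin t.card, p ∈ (Ao (pt k)).1 := by
    intro p
    have := ht (Set.mem_univ p)
    simp only [Set.mem_iUnion] at this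
    obtain ⟨q, hq, hp⟩ := this
    refine ⟨t.equivFin ⟨q, hq⟩, ?_⟩
    have : pt (t.equivFin ⟨q, hq⟩) = q := by simp [pt]
    rw [this]; exact hp
  let ak : ∀ k : Fin t.card, (Ao (pt k)).1.toScheme ⟶ (W (pt k)).1.toScheme := fun k =>
    a.resLE (W (pt k)).1 (Ao (pt k)).1 (hle (pt k))
  have hak : ∀ k, ak k ≫ (W (pt k)).1.ι = (Ao (pt k)).1.ι ≫ a := fun k =>
    Scheme.Hom.resLE_comp_ι _ _
  haveI : ∀ k, IsAffine (Ao (pt k)).1.toScheme := fun k => (Ao (pt k)).2
  haveI : ∀ k, IsAffine (W (pt k)).1.toScheme := fun k => (W (pt k)).2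
  haveI : ∀ k j, IsAffine ((H (pt k)).X j) := fun k j => (hH (pt k)).isAffine_obj j
  haveI : ∀ k, Finite (H (pt k)).I₀ := fun k => (hH (pt k)).finite_index
  let G : PreZeroHypercover.{0} A :=
    { I₀ := Σ k : Fin t.card, (H (pt k)).I₀
      X := fun kj => pullback (ak kj.1) ((H (pt kj.1)).f kj.2)
      f := fun kj => pullback.fst (ak kj.1) ((H (pt kj.1)).f kj.2) ≫ (Ao (pt kj.1)).1.ι }
  refine ⟨G, ⟨inferInstance, ?_, ?_, ?_⟩, ?_⟩
  · show Finite (Σ k : Fin t.card, (H (pt k)).I₀)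
    infer_instance
  · rintro ⟨k, j⟩
    show IsAffine (pullback (ak k) ((H (pt k)).f j))
    infer_instance
  · intro V _ _ γ
    obtain ⟨k, hk⟩ := hcov (γ (IsLocalRing.closedPoint V))
    have hrange := range_subset_of_closedPoint_mem V γ (Ao (pt k)).1 hk
    let γ' : Spec V ⟶ (Ao (pt k)).1.toScheme := IsOpenImmersion.lift (Ao (pt k)).1.ι γ hrange
    have hγ' : γ' ≫ (Ao (pt k)).1.ι = γ := IsOpenImmersion.lift_fac _ _ _
    obtain ⟨W', hW1, hW2, φ, hφ, j, g', hg'⟩ := (hH (pt k)).lift V (γ' ≫ ak k)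
    refine ⟨W', hW1, hW2, φ, hφ, ⟨k, j⟩,
      pullback.lift (Spec.map φ ≫ γ') g' (by rw [hg', Category.assoc]), ?_⟩
    show pullback.lift (Spec.map φ ≫ γ') g' _ ≫
      pullback.fst (ak k) ((H (pt k)).f j) ≫ (Ao (pt k)).1.ι = Spec.map φ ≫ γ
    rw [pullback.lift_fst_assoc, Category.assoc, hγ']
  · rintro ⟨k, j⟩
    obtain ⟨i, h, hh⟩ := hR (pt k) j
    refine ⟨i, pullback.snd (ak k) ((H (pt k)).f j) ≫ h, ?_⟩
    show (pullback.snd (ak k) ((H (pt k)).f j) ≫ h) ≫ E.f i =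
      (pullback.fst (ak k) ((H (pt k)).f j) ≫ (Ao (pt k)).1.ι) ≫ a
    rw [Category.assoc, hh, ← Category.assoc, ← pullback.condition, Category.assoc, hak,
      Category.assoc]

end Groth.Agent.Lib.VCover
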