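import Mathlib
import Groth.Prelude.Def_HTop
import Groth.Agent.S7469
import Groth.Agent.S7471
import Groth.Agent.S7473

/-!
# Sheaves for V coverings: Zariski sheaf + standard V coverings (helper6)
-/

universe w w' u

open CategoryTheory CategoryTheory.Limits AlgebraicGeometry Opposite

namespace Groth.Agent.Lib.VSheaf

/-- A standard V covering is a V covering. -/
theorem isVCover_of_isStandardV {T : Scheme.{u}} (E : PreZeroHypercover.{w'} T)
    (hE : HTop.IsStandardV E) : HTop.IsVCover E := by
  intro U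
  haveI : IsAffine ((U : T.Opens) : Scheme.{u}) := U.2
  have hstd := Groth.Agent.S7469.result (U : T.Opens).ι E hE
  haveI := hE.finite_index
  obtain ⟨n, ⟨e⟩⟩ := Finite.exists_equiv_fin E.I₀
  let F' : PreZeroHypercover.{0} ((U : T.Opens) : Scheme.{u}) :=
    { I₀ := Fin n
      X := fun k => (E.pullback₁ (U : T.Opens).ι).X (e.symm k)
      f := fun k => (E.pullback₁ (U : T.Opens).ι).f (e.symm k) }
  refine ⟨F', ⟨U.2, inferInstanceAs (Finite (Fin n)), fun k => hstd.isAffine_obj _, ?_⟩,
    fun k => ⟨e.symm k, pullback.snd _ _, pullback.condition.symm⟩⟩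
  intro V _ _ g
  obtain ⟨W, iD, iV, φ, hext, j, g', hg'⟩ := hstd.lift V g
  obtain ⟨k, rfl⟩ := e.symm.surjective j
  exact ⟨W, iD, iV, φ, hext, k, g', hg'⟩

variable (F : Scheme.{u}ᵒᵖ ⥤ Type w)

lemma map_comp_apply {X Y Z : Scheme.{u}} (f : X ⟶ Y) (g : Y ⟶ Z) (a : F.obj (op Z)) :
    F.map (f ≫ g).op a = F.map f.op (F.map g.op a) := by
  rw [op_comp, FunctorToTypes.map_comp_apply]

/-- Pass from standard V coverings indexed in universe `u` to those indexed in universe `0`. -/
lemma isSheafFor_of_isStandardV_zero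
    (hV : ∀ (T : Scheme.{u}) (E : PreZeroHypercover.{u} T), HTop.IsStandardV E →
      Presieve.IsSheafFor F E.presieve₀)
    {T : Scheme.{u}} (E : PreZeroHypercover.{0} T) (hE : HTop.IsStandardV E) :
    Presieve.IsSheafFor F E.presieve₀ := by
  let E' : PreZeroHypercover.{u} T :=
    { I₀ := ULift.{u} E.I₀, X := fun i => E.X i.down, f := fun i => E.f i.down }
  have hE' : HTop.IsStandardV E' := by
    haveI := hE.finite_index
    refine ⟨hE.isAffine, inferInstanceAs (Finite (ULift.{u} E.I₀)), fun i => hE.isAffine_obj _, ?_⟩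
    intro V _ _ g
    obtain ⟨W, iD, iV, φ, hext, j, g', hg'⟩ := hE.lift V g
    exact ⟨W, iD, iV, φ, hext, ⟨j⟩, g', hg'⟩
  have heq : E'.presieve₀ = E.presieve₀ := by
    refine funext fun Y => Set.ext fun f => ⟨?_, ?_⟩
    · rintro ⟨i⟩
      exact Presieve.ofArrows.mk (i.down)
    · rintro ⟨i⟩
      exact Presieve.ofArrows.mk (ι := ULift.{u} E.I₀) (Y := fun i => E.X i.down)
        (f := fun i => E.f i.down) (ULift.up i)
  rw [← heq]
  exact hV T E' hE'

variable {F}

lemma isSheafFor_openCover (hZ : Presieve.IsSheaf Scheme.zariskiTopology F) {W : Scheme.{u}}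
    (𝒰 : W.OpenCover) : Presieve.IsSheafFor F (Presieve.ofArrows 𝒰.X 𝒰.f) := by
  rw [Presieve.isSheafFor_iff_generate]
  exact hZ _ 𝒰.mem_grothendieckTopology

lemma zariski_ext (hZ : Presieve.IsSheaf Scheme.zariskiTopology F) {W : Scheme.{u}}
    (𝒰 : W.OpenCover) {a b : F.obj (op W)}
    (h : ∀ k, F.map (𝒰.f k).op a = F.map (𝒰.f k).op b) : a = b := by
  refine (isSheafFor_openCover hZ 𝒰).isSeparatedFor.ext ?_
  rintro Y f ⟨k⟩
  exact h k

lemma zariski_glue (hZ : Presieve.IsSheaf Scheme.zariskiTopology F) {W : Scheme.{u}}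
    (𝒰 : W.OpenCover) (s : ∀ k, F.obj (op (𝒰.X k)))
    (hs : ∀ k l, F.map (pullback.fst (𝒰.f k) (𝒰.f l)).op (s k) =
      F.map (pullback.snd (𝒰.f k) (𝒰.f l)).op (s l)) :
    ∃ t : F.obj (op W), ∀ k, F.map (𝒰.f k).op t = s k := by
  obtain ⟨t, ht, -⟩ := (Presieve.isSheafFor_arrows_iff_pullbacks _ _).mp
    (isSheafFor_openCover hZ 𝒰) s hs
  exact ⟨t, ht⟩

/-- The open cover of a scheme by all its affine opens. -/
noncomputable def affineOpensCover (W : Scheme.{u}) : W.OpenCover :=
  W.openCoverOfIsOpenCover (fun U : W.affineOpens => (U : W.Opens)) (iSup_affineOpens_eq_top W)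

/-- Separatedness for V coverings. -/
lemma vcover_ext (hZ : Presieve.IsSheaf Scheme.zariskiTopology F)
    (hV0 : ∀ (T : Scheme.{u}) (E : PreZeroHypercover.{0} T), HTop.IsStandardV E →
      Presieve.IsSheafFor F E.presieve₀)
    {W : Scheme.{u}} (E : PreZeroHypercover.{w'} W) (hE : HTop.IsVCover E) {a b : F.obj (op W)}
    (h : ∀ i, F.map (E.f i).op a = F.map (E.f i).op b) : a = b := by
  refine zariski_ext hZ (affineOpensCover W) fun (U : W.affineOpens) => ?_
  obtain ⟨G, hG, href⟩ := hE U
  refine (hV0 _ G hG).isSeparatedFor.ext ?_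
  rintro Y f ⟨j⟩
  obtain ⟨i, hh, hhe⟩ := href j
  show F.map (G.f j).op (F.map ((U : W.Opens).ι).op a) =
    F.map (G.f j).op (F.map ((U : W.Opens).ι).op b)
  rw [← map_comp_apply, ← map_comp_apply, ← hhe, map_comp_apply, map_comp_apply, h i]

/-- A Zariski sheaf with the sheaf property for standard V coverings has it for all V coverings. -/
theorem isSheafFor_of_isVCover (hZ : Presieve.IsSheaf Scheme.zariskiTopology F)
    (hV0 : ∀ (T : Scheme.{u}) (E : PreZeroHypercover.{0} T), HTop.IsStandardV E →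
      Presieve.IsSheafFor F E.presieve₀)
    {X : Scheme.{u}} (E : PreZeroHypercover.{w'} X) (hE : HTop.IsVCover E) :
    Presieve.IsSheafFor F E.presieve₀ := by
  show Presieve.IsSheafFor F (Presieve.ofArrows E.X E.f)
  rw [Presieve.isSheafFor_arrows_iff]
  intro x hx
  have hE' := hE
  choose G hG href using hE
  choose ι h hh using href
  have hsU : ∀ U : X.affineOpens, ∃ s : F.obj (op ((U : X.Opens) : Scheme.{u})),
      ∀ j, F.map ((G U).f j).op s = F.map (h U j).op (x (ι U j)) := by
    intro U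
    have hsh := hV0 _ (G U) (hG U)
    change Presieve.IsSheafFor F (Presieve.ofArrows (G U).X (G U).f) at hsh
    rw [Presieve.isSheafFor_arrows_iff] at hsh
    obtain ⟨s, hs, -⟩ := hsh (fun j => F.map (h U j).op (x (ι U j))) (by
      intro j j' Z gi gj hcomm
      show F.map gi.op (F.map (h U j).op (x (ι U j))) = F.map gj.op (F.map (h U j').op (x (ι U j')))
      rw [← map_comp_apply, ← map_comp_apply]
      apply hx
      rw [Category.assoc, Category.assoc, hh, hh, ← Category.assoc, ← Category.assoc, hcomm])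
    exact ⟨s, hs⟩
  choose s hs using hsU
  have star : ∀ (U : X.affineOpens) {W : Scheme.{u}} (g : W ⟶ ((U : X.Opens) : Scheme.{u}))
      (i : E.I₀) (k : W ⟶ E.X i), k ≫ E.f i = g ≫ (U : X.Opens).ι →
      F.map g.op (s U) = F.map k.op (x i) := by
    intro U W g i k hk
    have hGV : HTop.IsVCover (G U) := isVCover_of_isStandardV _ (hG U)
    have hpV : HTop.IsVCover ((G U).pullback₁ g) := Groth.Agent.S7471.result g (G U) hGV
    refine vcover_ext hZ hV0 _ hpV fun j => ?_
    show F.map (pullback.fst g ((G U).f j)).op (F.map g.op (s U)) =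
      F.map (pullback.fst g ((G U).f j)).op (F.map k.op (x i))
    rw [← map_comp_apply, ← map_comp_apply, pullback.condition, map_comp_apply, hs U j,
      ← map_comp_apply]
    apply hx
    rw [Category.assoc, hh, ← Category.assoc, ← pullback.condition, Category.assoc,
      Category.assoc, hk]
  have hglue : ∀ U U' : X.affineOpens,
      F.map (pullback.fst (U : X.Opens).ι (U' : X.Opens).ι).op (s U) =
        F.map (pullback.snd (U : X.Opens).ι (U' : X.Opens).ι).op (s U') := by
    intro U U'
    have hpV : HTop.IsVCover (E.pullback₁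
        (pullback.fst (U : X.Opens).ι (U' : X.Opens).ι ≫ (U : X.Opens).ι)) :=
      Groth.Agent.S7471.result _ E hE'
    refine vcover_ext hZ hV0 _ hpV fun i => ?_
    show F.map (pullback.fst (pullback.fst (U : X.Opens).ι (U' : X.Opens).ι ≫ (U : X.Opens).ι)
        (E.f i)).op _ = F.map (pullback.fst (pullback.fst (U : X.Opens).ι (U' : X.Opens).ι ≫
        (U : X.Opens).ι) (E.f i)).op _
    rw [← map_comp_apply, ← map_comp_apply]
    rw [star U (pullback.fst _ (E.f i) ≫ pullback.fst (U : X.Opens).ι (U' : X.Opens).ι) i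
        (pullback.snd _ (E.f i)) (by rw [Category.assoc]; exact pullback.condition.symm),
      star U' (pullback.fst _ (E.f i) ≫ pullback.snd (U : X.Opens).ι (U' : X.Opens).ι) i
        (pullback.snd _ (E.f i)) (by
          rw [Category.assoc, ← pullback.condition (f := (U : X.Opens).ι)]
          exact pullback.condition.symm)]
  obtain ⟨t, ht⟩ := zariski_glue hZ (affineOpensCover X) s hglue
  have hamal : ∀ i, F.map (E.f i).op t = x i := by
    intro i
    refine zariski_ext hZ ((affineOpensCover X).pullback₁ (E.f i)) fun (U : X.affineOpens) => ?_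
    show F.map (pullback.fst (E.f i) (U : X.Opens).ι).op (F.map (E.f i).op t) =
      F.map (pullback.fst (E.f i) (U : X.Opens).ι).op (x i)
    rw [← map_comp_apply, pullback.condition, map_comp_apply]
    have htU : F.map ((U : X.Opens).ι).op t = s U := ht U
    rw [htU]
    exact star U (pullback.snd (E.f i) (U : X.Opens).ι) i (pullback.fst (E.f i) (U : X.Opens).ι)
      pullback.condition
  refine ⟨t, hamal, fun t' ht' => ?_⟩
  exact vcover_ext hZ hV0 E hE' fun i => by rw [ht' i, hamal i]

end Groth.Agent.Lib.VSheaf
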