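import Mathlib
import Groth.Prelude.Def_HTop
import Groth.Agent.Lib.VSheaf_helper6

/-!
# Reduction of standard V coverings to single morphisms (helper6)
-/

universe v w u

open CategoryTheory CategoryTheory.Limits AlgebraicGeometry Opposite

namespace Groth.Agent.Lib.VSheaf

theorem isStandardV_singleton_sigmaDesc {T : Scheme.{u}} (E : PreZeroHypercover.{0} T)
    [Finite E.I₀] (hE : HTop.IsStandardV E) :
    HTop.IsStandardV (PreZeroHypercover.singleton.{v} (Sigma.desc E.f)) := by
  haveI : ∀ j, IsAffine (E.X j) := hE.isAffine_obj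
  refine ⟨hE.isAffine, inferInstanceAs (Finite PUnit),
    fun _ => inferInstanceAs (IsAffine (∐ E.X)), ?_⟩
  intro V _ _ g
  obtain ⟨W, iD, iV, φ, hext, j, g', hg'⟩ := hE.lift V g
  refine ⟨W, iD, iV, φ, hext, PUnit.unit, g' ≫ Sigma.ι E.X j, ?_⟩
  show (g' ≫ Sigma.ι E.X j) ≫ Sigma.desc E.f = _
  rw [Category.assoc, Sigma.ι_desc, hg']

theorem isSheafFor_of_singleton {F : Scheme.{u}ᵒᵖ ⥤ Type w}
    (hZ : Presieve.IsSheaf Scheme.zariskiTopology F)
    {T : Scheme.{u}} (E : PreZeroHypercover.{0} T) [Finite E.I₀]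
    (h : Presieve.IsSheafFor F (Presieve.singleton (Sigma.desc E.f))) :
    Presieve.IsSheafFor F E.presieve₀ := by
  have : PreservesLimitsOfShape (Discrete (E.I₀ × E.I₀)) F :=
    preservesLimitsOfShape_discrete_of_isSheaf_zariskiTopology hZ
  have : PreservesLimitsOfShape (Discrete E.I₀) F :=
    preservesLimitsOfShape_discrete_of_isSheaf_zariskiTopology hZ
  show Presieve.IsSheafFor F (Presieve.ofArrows E.X E.f)
  rw [← Presieve.isSheafFor_sigmaDesc_iff E.f (coproductIsCoproduct _)
    (FinitaryExtensive.isVanKampen_finiteCoproducts (coproductIsCoproduct _)).isUniversal]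
  exact h

end Groth.Agent.Lib.VSheaf
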