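import Mathlib
import Groth.Prelude.Def_HTop
import Groth.Agent.Lib.VSheaf_helper6

/-!
# A local-to-global principle for sheaf conditions, and ph coverings (helper6)
-/

universe w w' u

open CategoryTheory CategoryTheory.Limits AlgebraicGeometry Opposite

namespace Groth.Agent.Lib.VSheaf

variable {F : Scheme.{u}ᵒᵖ ⥤ Type w}

lemma map_comp_apply₃ {X Y Z Z' : Scheme.{u}} (f : X ⟶ Y) (g : Y ⟶ Z) (h : Z ⟶ Z')
    (a : F.obj (op Z')) :
    F.map f.op (F.map g.op (F.map h.op a)) = F.map (f ≫ g ≫ h).op a := by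
  rw [map_comp_apply, map_comp_apply]

/-- Local-to-global principle: a Zariski sheaf which is a sheaf for a class of "standard" families, and
separated for all their base changes, is a sheaf for every family which over each affine open is refined by a
standard family. -/
theorem isSheafFor_of_locally_refined (hZ : Presieve.IsSheaf Scheme.zariskiTopology F)
    (𝒮 : ∀ ⦃T : Scheme.{u}⦄, PreZeroHypercover.{0} T → Prop)
    (h1 : ∀ (T : Scheme.{u}) (G : PreZeroHypercover.{0} T), 𝒮 G →
      Presieve.IsSheafFor F G.presieve₀)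
    (h3 : ∀ (T : Scheme.{u}) (G : PreZeroHypercover.{0} T), 𝒮 G → ∀ {W : Scheme.{u}} (g : W ⟶ T)
      (a b : F.obj (op W)), (∀ j, F.map (pullback.fst g (G.f j)).op a =
        F.map (pullback.fst g (G.f j)).op b) → a = b)
    {X : Scheme.{u}} (E : PreZeroHypercover.{w'} X)
    (hE : ∀ U : X.affineOpens, ∃ G : PreZeroHypercover.{0} ((U : X.Opens) : Scheme.{u}),
      𝒮 G ∧ HTop.RefinesOver (U : X.Opens).ι G E) :
    Presieve.IsSheafFor F E.presieve₀ := by
  have sep : ∀ {W : Scheme.{u}} (g : W ⟶ X) (a b : F.obj (op W)),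
      (∀ i, F.map (pullback.fst g (E.f i)).op a = F.map (pullback.fst g (E.f i)).op b) →
      a = b := by
    intro W g a b hab
    refine zariski_ext hZ ((affineOpensCover X).pullback₁ g) fun (U : X.affineOpens) => ?_
    show F.map (pullback.fst g (U : X.Opens).ι).op a = F.map (pullback.fst g (U : X.Opens).ι).op b
    obtain ⟨G, hG, href⟩ := hE U
    refine h3 _ G hG (pullback.snd g (U : X.Opens).ι) _ _ fun j => ?_
    obtain ⟨i, hh, hhe⟩ := href j
    have comm : (pullback.fst (pullback.snd g (U : X.Opens).ι) (G.f j) ≫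
        pullback.fst g (U : X.Opens).ι) ≫ g =
        (pullback.snd (pullback.snd g (U : X.Opens).ι) (G.f j) ≫ hh) ≫ E.f i := by
      rw [Category.assoc, pullback.condition, ← Category.assoc, pullback.condition,
        Category.assoc, Category.assoc, hhe]
    have hl : pullback.lift _ _ comm ≫ pullback.fst g (E.f i) =
        pullback.fst (pullback.snd g (U : X.Opens).ι) (G.f j) ≫
          pullback.fst g (U : X.Opens).ι := pullback.lift_fst _ _ _
    rw [← map_comp_apply, ← map_comp_apply, ← hl, map_comp_apply, map_comp_apply, hab i]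
  show Presieve.IsSheafFor F (Presieve.ofArrows E.X E.f)
  rw [Presieve.isSheafFor_arrows_iff]
  intro x hx
  choose G hG href using hE
  choose ι h hh using href
  have hsU : ∀ U : X.affineOpens, ∃ s : F.obj (op ((U : X.Opens) : Scheme.{u})),
      ∀ j, F.map ((G U).f j).op s = F.map (h U j).op (x (ι U j)) := by
    intro U
    have hsh := h1 _ (G U) (hG U)
    change Presieve.IsSheafFor F (Presieve.ofArrows (G U).X (G U).f) at hsh
    rw [Presieve.isSheafFor_arrows_iff] at hsh
    obtain ⟨s, hs, -⟩ := hsh (fun j => F.map (h U j).op (x (ι U j))) (by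
      intro j j' Z gi gj hcomm
      show F.map gi.op (F.map (h U j).op (x (ι U j))) = F.map gj.op (F.map (h U j').op (x (ι U j')))
      rw [← map_comp_apply, ← map_comp_apply]
      apply hx
      rw [Category.assoc, Category.assoc, hh, hh, ← Category.assoc, ← Category.assoc, hcomm])
    exact ⟨s, hs⟩
  choose s hs using hsU
  have star : ∀ (U : X.affineOpens) {W : Scheme.{u}} (g : W ⟶ ((U : X.Opens) : Scheme.{u}))
      (i : E.I₀) (k : W ⟶ E.X i), k ≫ E.f i = g ≫ (U : X.Opens).ι →
      F.map g.op (s U) = F.map k.op (x i) := by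
    intro U W g i k hk
    refine h3 _ (G U) (hG U) g _ _ fun j => ?_
    rw [← map_comp_apply, ← map_comp_apply, pullback.condition, map_comp_apply, hs U j,
      ← map_comp_apply]
    apply hx
    rw [Category.assoc, hh, ← Category.assoc, ← pullback.condition, Category.assoc,
      Category.assoc, hk]
  have hglue : ∀ U U' : X.affineOpens,
      F.map (pullback.fst (U : X.Opens).ι (U' : X.Opens).ι).op (s U) =
        F.map (pullback.snd (U : X.Opens).ι (U' : X.Opens).ι).op (s U') := by
    intro U U'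
    refine sep (pullback.fst (U : X.Opens).ι (U' : X.Opens).ι ≫ (U : X.Opens).ι) _ _ fun i => ?_
    rw [← map_comp_apply, ← map_comp_apply]
    rw [star U (pullback.fst _ (E.f i) ≫ pullback.fst (U : X.Opens).ι (U' : X.Opens).ι) i
        (pullback.snd _ (E.f i)) (by rw [Category.assoc]; exact pullback.condition.symm),
      star U' (pullback.fst _ (E.f i) ≫ pullback.snd (U : X.Opens).ι (U' : X.Opens).ι) i
        (pullback.snd _ (E.f i)) (by
          rw [Category.assoc, ← pullback.condition (f := (U : X.Opens).ι)]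
          exact pullback.condition.symm)]
  obtain ⟨t, ht⟩ := zariski_glue hZ (affineOpensCover X) s hglue
  have hamal : ∀ i, F.map (E.f i).op t = x i := by
    intro i
    refine zariski_ext hZ ((affineOpensCover X).pullback₁ (E.f i)) fun (U : X.affineOpens) => ?_
    show F.map (pullback.fst (E.f i) (U : X.Opens).ι).op (F.map (E.f i).op t) =
      F.map (pullback.fst (E.f i) (U : X.Opens).ι).op (x i)
    rw [← map_comp_apply, pullback.condition, map_comp_apply]
    have htU : F.map ((U : X.Opens).ι).op t = s U := ht U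
    rw [htU]
    exact star U (pullback.snd (E.f i) (U : X.Opens).ι) i (pullback.fst (E.f i) (U : X.Opens).ι)
      pullback.condition
  refine ⟨t, hamal, fun t' ht' => ?_⟩
  refine sep (𝟙 X) _ _ fun i => ?_
  have e : pullback.fst (𝟙 X) (E.f i) = pullback.snd (𝟙 X) (E.f i) ≫ E.f i := by
    rw [← pullback.condition, Category.comp_id]
  rw [e, map_comp_apply, map_comp_apply, ht' i, hamal i]

section Ph

variable (hZ : Presieve.IsSheaf Scheme.zariskiTopology F)
  (h₂ : ∀ (U V : Scheme.{u}) (f : V ⟶ U), IsProper f → Surjective f →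
    Presieve.IsSheafFor F (Presieve.singleton f))

include hZ h₂

theorem sep_of_isStandardPh {T : Scheme.{u}} (G : PreZeroHypercover.{0} T)
    (hG : HTop.IsStandardPh G) {W : Scheme.{u}} (g : W ⟶ T) (a b : F.obj (op W))
    (hab : ∀ j, F.map (pullback.fst g (G.f j)).op a = F.map (pullback.fst g (G.f j)).op b) :
    a = b := by
  obtain ⟨P, f, ι, hprop, hsurj, hopen, hfac, hcov⟩ := hG.exists_proper
  haveI := hprop
  haveI := hsurj
  let 𝒰P : P.OpenCover := Scheme.Cover.mkOfCovers G.I₀ G.X ι
    (fun x => by obtain ⟨j, y, hy⟩ := hcov x; exact ⟨j, y, hy⟩) hopen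
  have hinj : Function.Injective (F.map (pullback.fst g f).op) := by
    have := h₂ _ _ (pullback.fst g f) inferInstance inferInstance
    exact Presieve.isSeparatedFor_singleton.mp this.isSeparatedFor
  apply hinj
  refine zariski_ext hZ (𝒰P.pullback₁ (pullback.snd g f)) fun (j : G.I₀) => ?_
  show F.map (pullback.fst (pullback.snd g f) (ι j)).op (F.map (pullback.fst g f).op a) =
    F.map (pullback.fst (pullback.snd g f) (ι j)).op (F.map (pullback.fst g f).op b)
  have comm : (pullback.fst (pullback.snd g f) (ι j) ≫ pullback.fst g f) ≫ g =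
      pullback.snd (pullback.snd g f) (ι j) ≫ G.f j := by
    rw [Category.assoc, pullback.condition, ← Category.assoc, pullback.condition,
      Category.assoc, hfac j]
  have hl : pullback.lift _ _ comm ≫ pullback.fst g (G.f j) =
      pullback.fst (pullback.snd g f) (ι j) ≫ pullback.fst g f := pullback.lift_fst _ _ _
  rw [← map_comp_apply, ← map_comp_apply, ← hl, map_comp_apply, map_comp_apply, hab j]

theorem isSheafFor_of_isStandardPh {T : Scheme.{u}} (G : PreZeroHypercover.{0} T)
    (hG : HTop.IsStandardPh G) : Presieve.IsSheafFor F G.presieve₀ := by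
  obtain ⟨P, f, ι, hprop, hsurj, hopen, hfac, hcov⟩ := hG.exists_proper
  let 𝒰P : P.OpenCover := Scheme.Cover.mkOfCovers G.I₀ G.X ι
    (fun x => by obtain ⟨j, y, hy⟩ := hcov x; exact ⟨j, y, hy⟩) hopen
  show Presieve.IsSheafFor F (Presieve.ofArrows G.X G.f)
  rw [Presieve.isSheafFor_arrows_iff]
  intro x hx
  obtain ⟨y, hy⟩ := zariski_glue hZ 𝒰P x (fun j k => by
    show F.map (pullback.fst (ι j) (ι k)).op (x j) = F.map (pullback.snd (ι j) (ι k)).op (x k)
    apply hx
    rw [← hfac j, ← hfac k, ← Category.assoc, ← Category.assoc, pullback.condition])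
  have hy' : ∀ j, F.map (ι j).op y = x j := hy
  have hdesc : ∀ {Z : Scheme.{u}} (p₁ p₂ : Z ⟶ P), p₁ ≫ f = p₂ ≫ f →
      F.map p₁.op y = F.map p₂.op y := by
    intro Z p₁ p₂ hp
    refine zariski_ext hZ (𝒰P.pullback₁ p₁) fun (j : G.I₀) => ?_
    show F.map (pullback.fst p₁ (ι j)).op (F.map p₁.op y) =
      F.map (pullback.fst p₁ (ι j)).op (F.map p₂.op y)
    refine zariski_ext hZ (𝒰P.pullback₁ (pullback.fst p₁ (ι j) ≫ p₂)) fun (k : G.I₀) => ?_
    show F.map (pullback.fst (pullback.fst p₁ (ι j) ≫ p₂) (ι k)).op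
        (F.map (pullback.fst p₁ (ι j)).op (F.map p₁.op y)) =
      F.map (pullback.fst (pullback.fst p₁ (ι j) ≫ p₂) (ι k)).op
        (F.map (pullback.fst p₁ (ι j)).op (F.map p₂.op y))
    rw [map_comp_apply₃, map_comp_apply₃]
    have e1 : pullback.fst (pullback.fst p₁ (ι j) ≫ p₂) (ι k) ≫ pullback.fst p₁ (ι j) ≫ p₁ =
        (pullback.fst (pullback.fst p₁ (ι j) ≫ p₂) (ι k) ≫ pullback.snd p₁ (ι j)) ≫ ι j := by
      rw [pullback.condition, Category.assoc]
    have e2 : pullback.fst (pullback.fst p₁ (ι j) ≫ p₂) (ι k) ≫ pullback.fst p₁ (ι j) ≫ p₂ =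
        pullback.snd (pullback.fst p₁ (ι j) ≫ p₂) (ι k) ≫ ι k := pullback.condition
    rw [e1, e2, map_comp_apply, map_comp_apply (f := pullback.snd _ (ι k)), hy' j, hy' k]
    apply hx
    rw [← hfac j, ← hfac k]
    calc (pullback.fst (pullback.fst p₁ (ι j) ≫ p₂) (ι k) ≫ pullback.snd p₁ (ι j)) ≫ ι j ≫ f
        = (pullback.fst (pullback.fst p₁ (ι j) ≫ p₂) (ι k) ≫ pullback.fst p₁ (ι j) ≫ p₁) ≫ f := by
          rw [e1]; simp only [Category.assoc]
      _ = (pullback.fst (pullback.fst p₁ (ι j) ≫ p₂) (ι k) ≫ pullback.fst p₁ (ι j) ≫ p₂) ≫ f := by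
          simp only [Category.assoc, hp]
      _ = pullback.snd (pullback.fst p₁ (ι j) ≫ p₂) (ι k) ≫ ι k ≫ f := by
          rw [e2]; simp only [Category.assoc]
  obtain ⟨t, ht, htu⟩ := (Presieve.isSheafFor_singleton).mp (h₂ _ _ f hprop hsurj) y hdesc
  refine ⟨t, fun j => ?_, fun t' ht' => ?_⟩
  · rw [← hfac j, map_comp_apply, ht, hy' j]
  · apply htu
    refine zariski_ext hZ 𝒰P fun (j : G.I₀) => ?_
    show F.map (ι j).op (F.map f.op t') = F.map (ι j).op y
    rw [← map_comp_apply, hfac j, ht' j, hy' j]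

end Ph

end Groth.Agent.Lib.VSheaf
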