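import Mathlib
import Groth.Agent.Lib.BlowIso1_helper8
import Groth.Agent.Lib.ComapId1_helper8
set_option autoImplicit false
open AlgebraicGeometry CategoryTheory CategoryTheory.Limits TopologicalSpace Opposite
universe u
namespace ValCartH8

/-- For `p = Spec(θ) ≫ fromSpec_V`, the map on sections `Γ(X, V) → Γ(Spec A, ⊤)` is `θ` up to the
canonical isomorphism. -/
theorem appLE_spec {X : Scheme.{u}} {V : X.Opens} (hV : IsAffineOpen V) {A : CommRingCat.{u}}
    (θ : Γ(X, V) ⟶ A) (h : (⊤ : (Spec A).Opens) ≤ (Spec.map θ ≫ hV.fromSpec) ⁻¹ᵁ V) :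
    (Spec.map θ ≫ hV.fromSpec).appLE V ⊤ h = θ ≫ (Scheme.ΓSpecIso A).inv := by
  apply Spec.map_injective
  rw [← cancel_mono hV.fromSpec,
    IsAffineOpen.SpecMap_appLE_fromSpec (Spec.map θ ≫ hV.fromSpec) hV (isAffineOpen_top _) h,
    IsAffineOpen.fromSpec_top, Scheme.isoSpec_Spec_inv, Spec.map_comp, Category.assoc]

end ValCartH8

namespace ValCartH8

theorem eq_top_of_valuative {X : Scheme.{u}} (I : X.IdealSheafData)
    (hI : BlowUp.IsEffCartierIdeal I)
    (h : ∀ (R : Type u) [CommRing R] [IsDomain R] [ValuationRing R]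
      (p : Spec (CommRingCat.of R) ⟶ X), BlowUp.IsEffCartierIdeal (I.comap p) → I.comap p = ⊤) :
    I = ⊤ := by
  rw [← Scheme.IdealSheafData.support_eq_bot_iff]
  by_contra hne
  obtain ⟨x, hx⟩ : ∃ x, x ∈ I.support := by
    by_contra hnone
    push_neg at hnone
    apply hne
    ext y
    simp only [SetLike.mem_coe, Closeds.coe_bot, Set.mem_empty_iff_false, iff_false]
    exact hnone y
  obtain ⟨V, hxV, f, hf0, hf⟩ := hI x
  have hxf : x ∉ X.basicOpen f := by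
    rw [Scheme.IdealSheafData.mem_support_iff_of_mem (U := V) hxV, Scheme.mem_zeroLocus_iff] at hx
    exact hx f (by rw [hf]; exact Ideal.subset_span rfl)
  have hnu : ¬ IsUnit ((X.presheaf.germ V.1 x hxV).hom f) := fun hu =>
    hxf ((Scheme.mem_basicOpen _ _ _ hxV).mpr hu)
  have hnzd : (X.presheaf.germ V.1 x hxV).hom f ∈ nonZeroDivisors (X.presheaf.stalk x) := by
    letI := TopCat.Presheaf.algebra_section_stalk X.presheaf (⟨x, hxV⟩ : V.1)
    haveI : IsLocalization.AtPrime (X.presheaf.stalk x) (V.2.primeIdealOf ⟨x, hxV⟩).asIdeal :=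
      V.2.isLocalization_stalk ⟨x, hxV⟩
    exact IsLocalization.map_nonZeroDivisors_le (V.2.primeIdealOf ⟨x, hxV⟩).asIdeal.primeCompl _
      (Submonoid.mem_map_of_mem _ hf0)
  obtain ⟨𝔮, h𝔮⟩ := Ideal.nonempty_minimalPrimes (I := (⊥ : Ideal (X.presheaf.stalk x))) bot_ne_top
  have hf𝔮 : (X.presheaf.germ V.1 x hxV).hom f ∉ 𝔮 := fun hm =>
    Set.disjoint_left.mp (Ideal.disjoint_nonZeroDivisors_of_mem_minimalPrimes h𝔮) hm hnzd
  haveI : 𝔮.IsPrime := h𝔮.1.1
  obtain ⟨A, hA, hloc⟩ := IsLocalRing.exists_factor_valuationRing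
    ((algebraMap (X.presheaf.stalk x ⧸ 𝔮) (FractionRing (X.presheaf.stalk x ⧸ 𝔮))).comp
      (Ideal.Quotient.mk 𝔮))
  obtain ⟨θ₀, hθ₀⟩ : ∃ θ₀ : Γ(X, V.1) →+* A, θ₀ =
      (((algebraMap (X.presheaf.stalk x ⧸ 𝔮) (FractionRing (X.presheaf.stalk x ⧸ 𝔮))).comp
      (Ideal.Quotient.mk 𝔮)).codRestrict A.toSubring hA).comp (X.presheaf.germ V.1 x hxV).hom :=
    ⟨_, rfl⟩
  have hθne : θ₀ f ≠ 0 := by
    rw [hθ₀]
    intro h0
    have h1 := congrArg Subtype.val h0
    simp only [RingHom.coe_comp, Function.comp_apply, RingHom.codRestrict_apply,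
      ZeroMemClass.coe_zero] at h1
    rw [← map_zero (algebraMap (X.presheaf.stalk x ⧸ 𝔮) (FractionRing (X.presheaf.stalk x ⧸ 𝔮)))] at h1
    have h2 := IsFractionRing.injective (X.presheaf.stalk x ⧸ 𝔮)
      (FractionRing (X.presheaf.stalk x ⧸ 𝔮)) h1
    exact hf𝔮 (Ideal.Quotient.eq_zero_iff_mem.mp h2)
  have hθnu : ¬ IsUnit (θ₀ f) := by
    rw [hθ₀]
    intro hu
    exact hnu (hloc.map_nonunit _ hu)
  -- the morphism
  let θ : Γ(X, V.1) ⟶ CommRingCat.of A := CommRingCat.ofHom θ₀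
  have hp : (⊤ : (Spec (CommRingCat.of A)).Opens) ≤ (Spec.map θ ≫ V.2.fromSpec) ⁻¹ᵁ V.1 := by
    intro y _
    have : V.2.fromSpec (Spec.map θ y) ∈ V.2.fromSpec.opensRange := ⟨_, rfl⟩
    rwa [V.2.opensRange_fromSpec] at this
  have happ := appLE_spec V.2 θ hp
  have hideal : (I.comap (Spec.map θ ≫ V.2.fromSpec)).ideal ⟨⊤, isAffineOpen_top _⟩ =
      Ideal.span {(Scheme.ΓSpecIso (CommRingCat.of A)).inv.hom (θ₀ f)} := by
    rw [ComapIdH8.comap_ideal (Spec.map θ ≫ V.2.fromSpec) I ⟨⊤, isAffineOpen_top _⟩ V hp, hf,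
      Ideal.map_span, Set.image_singleton, happ]
    rfl
  -- the ring of global sections is a domain
  let e : A ≃+* Γ(Spec (CommRingCat.of A), ⊤) :=
    (Scheme.ΓSpecIso (CommRingCat.of A)).symm.commRingCatIsoToRingEquiv
  have he : ∀ a : A, e a = (Scheme.ΓSpecIso (CommRingCat.of A)).inv.hom a := fun _ => rfl
  have hcart : BlowUp.IsEffCartierIdeal (I.comap (Spec.map θ ≫ V.2.fromSpec)) := by
    intro y
    refine ⟨⟨⊤, isAffineOpen_top _⟩, trivial, _, ?_, hideal⟩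
    rw [← he]
    haveI : IsDomain Γ(Spec (CommRingCat.of A), ⊤) := e.isDomain_iff.mp inferInstance
    apply mem_nonZeroDivisors_of_ne_zero
    intro h0
    exact hθne ((map_eq_zero_iff e e.injective).mp h0)
  have htop := h A (Spec.map θ ≫ V.2.fromSpec) hcart
  rw [htop, Scheme.IdealSheafData.ideal_top] at hideal
  have h1 : (1 : Γ(Spec (CommRingCat.of A), ⊤)) ∈
      Ideal.span {(Scheme.ΓSpecIso (CommRingCat.of A)).inv.hom (θ₀ f)} := by
    rw [← hideal]; trivial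
  rw [← he, Ideal.mem_span_singleton'] at h1
  obtain ⟨c, hc⟩ := h1
  apply hθnu
  have hu : IsUnit (e (θ₀ f)) := IsUnit.of_mul_eq_one_right _ hc
  exact (isUnit_map_iff e _).mp hu

end ValCartH8
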