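import Mathlib
import Groth.Agent.Lib.Cart2_helper8
import Groth.Agent.Lib.ValCart1_helper8
set_option autoImplicit false
open AlgebraicGeometry CategoryTheory CategoryTheory.Limits TopologicalSpace Opposite
open QcqsLoc
universe u
namespace ValCartH8

/-- A prime maximal among the primes not containing a non-nilpotent element. -/
theorem exists_prime_maximal_notMem {A : Type*} [CommRing A] (i : A) (hi : ∀ n : ℕ, i ^ n ≠ 0) :
    ∃ 𝔮 : Ideal A, 𝔮.IsPrime ∧ i ∉ 𝔮 ∧ ∀ 𝔮' : Ideal A, 𝔮'.IsPrime → 𝔮 < 𝔮' → i ∈ 𝔮' := by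
  have hdisj : Disjoint ((⊥ : Ideal A) : Set A) (Submonoid.powers i) := by
    rw [Set.disjoint_left]
    rintro x hx ⟨n, rfl⟩
    exact hi n (Ideal.mem_bot.mp hx)
  have ⟨p, hIp, hp⟩ := zorn_le_nonempty₀ {p : Ideal A | Disjoint (p : Set A) (Submonoid.powers i)}
    (fun c hc hc' x hx ↦ ?_) ⊥ hdisj
  · refine ⟨p, Ideal.isPrime_of_maximally_disjoint _ _ hp.1 (fun _ ↦ hp.not_prop_of_gt), ?_, ?_⟩
    · exact fun h => Set.disjoint_left.mp hp.1 h (Submonoid.mem_powers i)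
    · intro 𝔮' h𝔮' hlt
      have h1 := hp.not_prop_of_gt hlt
      have h2 : ¬ Disjoint (𝔮' : Set A) (Submonoid.powers i) := h1
      rw [Set.not_disjoint_iff] at h2
      obtain ⟨x, hx, ⟨n, rfl⟩⟩ := h2
      exact h𝔮'.mem_of_pow_mem n hx
  cases isEmpty_or_nonempty c
  · exact ⟨⊥, hdisj, fun J hJ ↦ isEmptyElim (⟨J, hJ⟩ : c)⟩
  refine ⟨sSup c, Set.disjoint_left.mpr fun y hy ↦ ?_, fun _ ↦ le_sSup⟩
  have ⟨p, hp⟩ := (Submodule.mem_iSup_of_directed _ hc'.directed).mp (sSup_eq_iSup' c ▸ hy)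
  exact Set.disjoint_left.mp (hc p.2) hp

/-- For a regular element `i` of a local ring `A` there is a valuation ring `R` and a local
homomorphism `θ : A → R` such that `θ i ≠ 0` lies in every nonzero prime of `R`. -/
theorem exists_valuationRing {A : Type u} [CommRing A] [IsLocalRing A] (i : A)
    (hi : i ∈ nonZeroDivisors A) :
    ∃ (R : Type u) (_ : CommRing R) (_ : IsDomain R) (_ : ValuationRing R) (θ : A →+* R),
      IsLocalHom θ ∧ θ i ≠ 0 ∧ ∀ 𝔯 : Ideal R, 𝔯.IsPrime → 𝔯 ≠ ⊥ → θ i ∈ 𝔯 := by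
  have hpow : ∀ n : ℕ, i ^ n ≠ 0 := fun n h0 => by
    have h1 := pow_mem hi n
    rw [h0] at h1
    exact zero_notMem_nonZeroDivisors h1
  obtain ⟨𝔮, h𝔮, hi𝔮, hmax⟩ := exists_prime_maximal_notMem i hpow
  obtain ⟨R, hR, hloc⟩ := IsLocalRing.exists_factor_valuationRing
    ((algebraMap (A ⧸ 𝔮) (FractionRing (A ⧸ 𝔮))).comp (Ideal.Quotient.mk 𝔮))
  obtain ⟨θ, hθ⟩ : ∃ θ : A →+* R, θ =
      ((algebraMap (A ⧸ 𝔮) (FractionRing (A ⧸ 𝔮))).comp (Ideal.Quotient.mk 𝔮)).codRestrict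
        R.toSubring hR := ⟨_, rfl⟩
  have hval : ∀ a : A, ((θ a : R) : FractionRing (A ⧸ 𝔮)) =
      algebraMap (A ⧸ 𝔮) (FractionRing (A ⧸ 𝔮)) (Ideal.Quotient.mk 𝔮 a) := by
    intro a
    rw [hθ]
    rfl
  have hzero : ∀ a : A, θ a = 0 ↔ a ∈ 𝔮 := by
    intro a
    constructor
    · intro h0
      have h1 := congrArg Subtype.val h0
      rw [hval] at h1
      have h1' : algebraMap (A ⧸ 𝔮) (FractionRing (A ⧸ 𝔮)) (Ideal.Quotient.mk 𝔮 a) =
          algebraMap (A ⧸ 𝔮) (FractionRing (A ⧸ 𝔮)) 0 := by rw [map_zero]; exact h1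
      have h2 := IsFractionRing.injective (A ⧸ 𝔮) (FractionRing (A ⧸ 𝔮)) h1'
      exact Ideal.Quotient.eq_zero_iff_mem.mp h2
    · intro ha
      apply Subtype.ext
      rw [hval, Ideal.Quotient.eq_zero_iff_mem.mpr ha, map_zero]
      rfl
  refine ⟨R, inferInstance, inferInstance, inferInstance, θ, hθ ▸ hloc, ?_, ?_⟩
  · exact fun h0 => hi𝔮 ((hzero i).mp h0)
  · intro 𝔯 h𝔯 hne
    obtain ⟨r, hr, hr0⟩ : ∃ r ∈ 𝔯, r ≠ 0 := by
      by_contra hcon
      push_neg at hcon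
      exact hne ((Submodule.eq_bot_iff _).mpr hcon)
    obtain ⟨b, c, hc, hbc⟩ := IsFractionRing.div_surjective (A := A ⧸ 𝔮) (r : FractionRing (A ⧸ 𝔮))
    obtain ⟨b₀, rfl⟩ := Ideal.Quotient.mk_surjective b
    obtain ⟨c₀, rfl⟩ := Ideal.Quotient.mk_surjective c
    have hc0 : algebraMap (A ⧸ 𝔮) (FractionRing (A ⧸ 𝔮)) (Ideal.Quotient.mk 𝔮 c₀) ≠ 0 :=
      IsFractionRing.to_map_ne_zero_of_mem_nonZeroDivisors hc
    have h1 : θ b₀ = r * θ c₀ := by
      apply Subtype.ext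
      show ((θ b₀ : R) : FractionRing (A ⧸ 𝔮)) = (r : FractionRing (A ⧸ 𝔮)) * ((θ c₀ : R) : _)
      rw [hval, hval, ← hbc, div_mul_cancel₀ _ hc0]
    have h2 : b₀ ∈ 𝔯.comap θ := by
      show θ b₀ ∈ 𝔯
      rw [h1]
      exact 𝔯.mul_mem_right _ hr
    have h3 : b₀ ∉ 𝔮 := by
      intro hb
      apply hr0
      apply Subtype.ext
      rw [← hbc, Ideal.Quotient.eq_zero_iff_mem.mpr hb, map_zero, zero_div]
      rfl
    have h4 : 𝔮 < 𝔯.comap θ := by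
      refine lt_of_le_of_ne (fun a ha => ?_) (fun heq => h3 (heq ▸ h2))
      show θ a ∈ 𝔯
      rw [(hzero a).mpr ha]
      exact 𝔯.zero_mem
    exact hmax _ (Ideal.comap_isPrime θ 𝔯) h4

theorem exists_affine_ideal_eq {X : Scheme.{u}} (I J : X.IdealSheafData)
    (hI : BlowUp.IsEffCartierIdeal I) (hJ : BlowUp.IsEffCartierIdeal J) (hJI : J ≤ I)
    (h : ∀ (R : Type u) [CommRing R] [IsDomain R] [ValuationRing R]
      (p : Spec (CommRingCat.of R) ⟶ X), BlowUp.IsEffCartierIdeal (I.comap p) →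
        (∀ x : Spec (CommRingCat.of R),
          x ∈ (ModPair.interior (I.comap p) : Set (Spec (CommRingCat.of R))) ↔ x.asIdeal = ⊥) →
        I.comap p = J.comap p) (x : X) :
    ∃ W : X.affineOpens, x ∈ W.1 ∧ I.ideal W = J.ideal W := by
  obtain ⟨V₁, hx₁, i₀, hi₀, hIi₀⟩ := hI x
  obtain ⟨V₂, hx₂, j₀, hj₀, hJj₀⟩ := hJ x
  obtain ⟨_, ⟨V, hV : IsAffineOpen V, rfl⟩, hxV, hVle⟩ :=
    (X.isBasis_affineOpens).exists_subset_of_mem_open
      (show x ∈ ((V₁.1 ⊓ V₂.1 : X.Opens) : Set X) from ⟨hx₁, hx₂⟩) (V₁.1 ⊓ V₂.1).2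
  have hle1 : V ≤ V₁.1 := fun y hy => (hVle hy).1
  have hle2 : V ≤ V₂.1 := fun y hy => (hVle hy).2
  obtain ⟨hi, hIi⟩ := CartH8.cartier_restrict I V₁ ⟨V, hV⟩ hle1 i₀ hi₀ hIi₀
  obtain ⟨hj, hJj⟩ := CartH8.cartier_restrict J V₂ ⟨V, hV⟩ hle2 j₀ hj₀ hJj₀
  obtain ⟨i, hidef⟩ : ∃ i : Γ(X, V), i = rX hle1 i₀ := ⟨_, rfl⟩
  obtain ⟨j, hjdef⟩ : ∃ j : Γ(X, V), j = rX hle2 j₀ := ⟨_, rfl⟩
  rw [← hidef] at hi hIi
  rw [← hjdef] at hj hJj
  have hja : j ∈ I.ideal ⟨V, hV⟩ := hJI ⟨V, hV⟩ (hJj ▸ Ideal.mem_span_singleton_self j)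
  rw [hIi, Ideal.mem_span_singleton'] at hja
  obtain ⟨a, ha⟩ := hja
  -- the stalk
  have hnzd : (X.presheaf.germ V x hxV).hom i ∈ nonZeroDivisors (X.presheaf.stalk x) := by
    letI := TopCat.Presheaf.algebra_section_stalk X.presheaf (⟨x, hxV⟩ : V)
    haveI : IsLocalization.AtPrime (X.presheaf.stalk x) (hV.primeIdealOf ⟨x, hxV⟩).asIdeal :=
      hV.isLocalization_stalk ⟨x, hxV⟩
    exact IsLocalization.map_nonZeroDivisors_le (hV.primeIdealOf ⟨x, hxV⟩).asIdeal.primeCompl _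
      (Submonoid.mem_map_of_mem _ hi)
  obtain ⟨R, _, _, _, θ, hloc, hθi, hprimes⟩ := exists_valuationRing _ hnzd
  obtain ⟨θ₀, hθ₀⟩ : ∃ θ₀ : Γ(X, V) →+* R, θ₀ = θ.comp (X.presheaf.germ V x hxV).hom := ⟨_, rfl⟩
  have hθ₀i : θ₀ i ≠ 0 := by rw [hθ₀]; exact hθi
  let φ : Γ(X, V) ⟶ CommRingCat.of R := CommRingCat.ofHom θ₀
  have hp : (⊤ : (Spec (CommRingCat.of R)).Opens) ≤ (Spec.map φ ≫ hV.fromSpec) ⁻¹ᵁ V := by
    intro y _
    have : hV.fromSpec (Spec.map φ y) ∈ hV.fromSpec.opensRange := ⟨_, rfl⟩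
    rwa [hV.opensRange_fromSpec] at this
  have happ := appLE_spec hV φ hp
  have hideal : ∀ (K : X.IdealSheafData) (k : Γ(X, V)), K.ideal ⟨V, hV⟩ = Ideal.span {k} →
      (K.comap (Spec.map φ ≫ hV.fromSpec)).ideal ⟨⊤, isAffineOpen_top _⟩ =
      Ideal.span {(Scheme.ΓSpecIso (CommRingCat.of R)).inv.hom (θ₀ k)} := by
    intro K k hK
    rw [ComapIdH8.comap_ideal (Spec.map φ ≫ hV.fromSpec) K ⟨⊤, isAffineOpen_top _⟩ ⟨V, hV⟩ hp, hK,
      Ideal.map_span, Set.image_singleton, happ]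
    rfl
  have hidealI := hideal I i hIi
  have hidealJ := hideal J j hJj
  let e : R ≃+* Γ(Spec (CommRingCat.of R), ⊤) :=
    (Scheme.ΓSpecIso (CommRingCat.of R)).symm.commRingCatIsoToRingEquiv
  have he : ∀ r : R, e r = (Scheme.ΓSpecIso (CommRingCat.of R)).inv.hom r := fun _ => rfl
  have hcart : BlowUp.IsEffCartierIdeal (I.comap (Spec.map φ ≫ hV.fromSpec)) := by
    intro y
    refine ⟨⟨⊤, isAffineOpen_top _⟩, trivial, _, ?_, hidealI⟩
    rw [← he]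
    haveI : IsDomain Γ(Spec (CommRingCat.of R), ⊤) := e.isDomain_iff.mp inferInstance
    apply mem_nonZeroDivisors_of_ne_zero
    intro h0
    exact hθ₀i ((map_eq_zero_iff e e.injective).mp h0)
  have hint : ∀ y : Spec (CommRingCat.of R),
      y ∈ (ModPair.interior (I.comap (Spec.map φ ≫ hV.fromSpec)) :
        Set (Spec (CommRingCat.of R))) ↔ y.asIdeal = ⊥ := by
    intro y
    have h1 : y ∈ (ModPair.interior (I.comap (Spec.map φ ≫ hV.fromSpec)) :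
        Set (Spec (CommRingCat.of R))) ↔ y ∉ (I.comap (Spec.map φ ≫ hV.fromSpec)).support :=
      Iff.rfl
    rw [h1, Scheme.IdealSheafData.mem_support_iff_of_mem
      (U := ⟨⊤, isAffineOpen_top (Spec (CommRingCat.of R))⟩) (show y ∈ (⊤ : Opens _) from trivial),
      hidealI, Scheme.zeroLocus_span, Scheme.mem_zeroLocus_iff]
    have h2 : (Spec (CommRingCat.of R)).basicOpen
        ((Scheme.ΓSpecIso (CommRingCat.of R)).inv.hom (θ₀ i)) = PrimeSpectrum.basicOpen (θ₀ i) :=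
      basicOpen_eq_of_affine (R := CommRingCat.of R) (θ₀ i)
    constructor
    · intro hy
      by_contra hne
      apply hy
      intro f hf
      rw [Set.mem_singleton_iff] at hf
      rw [hf, h2]
      intro hmem
      apply hmem
      have := hprimes y.asIdeal y.2 hne
      rw [hθ₀]
      exact this
    · intro hy hz
      have h3 := hz _ (Set.mem_singleton _)
      rw [h2] at h3
      apply h3
      show θ₀ i ∉ y.asIdeal
      rw [hy]
      exact fun h0 => hθ₀i (Ideal.mem_bot.mp h0)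
  have heq := h R (Spec.map φ ≫ hV.fromSpec) hcart hint
  rw [heq, hidealJ] at hidealI
  have h1 : e (θ₀ i) ∈ Ideal.span {e (θ₀ j)} := by
    rw [he, he, hidealI]
    exact Ideal.mem_span_singleton_self _
  rw [Ideal.mem_span_singleton'] at h1
  obtain ⟨c, hc⟩ := h1
  obtain ⟨c', rfl⟩ := e.surjective c
  rw [← map_mul] at hc
  have hc' : c' * θ₀ j = θ₀ i := e.injective hc
  rw [← ha, map_mul, ← mul_assoc] at hc'
  have h2 : c' * θ₀ a = 1 := by
    have h3 : (c' * θ₀ a - 1) * θ₀ i = 0 := by rw [sub_mul, hc', one_mul, sub_self]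
    rcases mul_eq_zero.mp h3 with h4 | h4
    · exact sub_eq_zero.mp h4
    · exact absurd h4 hθ₀i
  have hua : IsUnit (θ₀ a) := IsUnit.of_mul_eq_one_right _ h2
  rw [hθ₀] at hua
  have hua' : IsUnit ((X.presheaf.germ V x hxV).hom a) := hloc.map_nonunit _ hua
  have hxa : x ∈ X.basicOpen a := (Scheme.mem_basicOpen _ _ _ hxV).mpr hua'
  have hWV : X.basicOpen a ≤ V := X.basicOpen_le a
  have hW : IsAffineOpen (X.basicOpen a) := hV.basicOpen a
  refine ⟨⟨X.basicOpen a, hW⟩, hxa, ?_⟩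
  obtain ⟨-, hIW⟩ := CartH8.cartier_restrict I ⟨V, hV⟩ ⟨X.basicOpen a, hW⟩ hWV i hi hIi
  obtain ⟨-, hJW⟩ := CartH8.cartier_restrict J ⟨V, hV⟩ ⟨X.basicOpen a, hW⟩ hWV j hj hJj
  rw [hIW, hJW, ← ha, map_mul]
  have hcu : IsUnit (rX hWV a) := X.toRingedSpace.isUnit_res_basicOpen a
  exact (Ideal.span_singleton_mul_left_unit hcu _).symm

theorem eq_of_valuative {X : Scheme.{u}} (I J : X.IdealSheafData)
    (hI : BlowUp.IsEffCartierIdeal I) (hJ : BlowUp.IsEffCartierIdeal J) (hJI : J ≤ I)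
    (h : ∀ (R : Type u) [CommRing R] [IsDomain R] [ValuationRing R]
      (p : Spec (CommRingCat.of R) ⟶ X), BlowUp.IsEffCartierIdeal (I.comap p) →
        (∀ x : Spec (CommRingCat.of R),
          x ∈ (ModPair.interior (I.comap p) : Set (Spec (CommRingCat.of R))) ↔ x.asIdeal = ⊥) →
        I.comap p = J.comap p) : I = J := by
  let ι := {W : X.affineOpens // I.ideal W = J.ideal W}
  refine Scheme.IdealSheafData.ext_of_iSup_eq_top (ι := ι) (fun w => w.1) ?_ (fun w => w.2)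
  rw [eq_top_iff]
  intro x _
  obtain ⟨W, hxW, hW⟩ := exists_affine_ideal_eq I J hI hJ hJI h x
  exact TopologicalSpace.Opens.mem_iSup.mpr ⟨⟨W, hW⟩, hxW⟩

end ValCartH8
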