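import Mathlib
import Groth.Agent.Lib.DimIneq_helper8

/-!
# Valuations centred on a Noetherian local domain: residue transcendence degree (helper9)

APPEND-ONLY once landed.
-/

set_option autoImplicit false
set_option maxHeartbeats 400000
set_option linter.style.haveILetI false
universe u

namespace Groth.Agent.ValCentre9

open IsLocalRing

theorem main (A : Type u) [CommRing A] [IsDomain A] [IsNoetherianRing A] [IsLocalRing A]
    (O : Type u) [CommRing O] [IsDomain O] [ValuationRing O] [Algebra A O]
    (hinj : Function.Injective (algebraMap A O)) (hloc : IsLocalHom (algebraMap A O))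
    (hfrac : ∀ x : O, ∃ a b : A, b ≠ 0 ∧ algebraMap A O b * x = algebraMap A O a)
    (hnt : ¬ IsField O) (n : ℕ) (f : Fin n → O)
    (hind : ∀ p : MvPolynomial (Fin n) A,
      MvPolynomial.eval₂ ((IsLocalRing.residue O).comp (algebraMap A O))
        (fun i => IsLocalRing.residue O (f i)) p = 0 →
      ∀ m : Fin n →₀ ℕ, IsLocalRing.residue A (p.coeff m) = 0) :
    (n : WithBot ℕ∞) + 1 ≤ ringKrullDim A := by
  classical
  haveI := hloc
  set B : Subalgebra A O := Algebra.adjoin A (Set.range f) with hB
  haveI : Algebra.FiniteType A B :=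
    (Subalgebra.fg_iff_finiteType _).1 (Subalgebra.fg_def.2 ⟨_, Set.finite_range f, rfl⟩)
  have hinjB : Function.Injective (algebraMap A B) := by
    intro a a' h
    apply hinj
    have := congrArg (algebraMap B O) h
    rwa [← IsScalarTower.algebraMap_apply, ← IsScalarTower.algebraMap_apply] at this
  haveI : FaithfulSMul A B := (faithfulSMul_iff_algebraMap_injective A B).2 hinjB
  set q : Ideal B := (maximalIdeal O).comap (algebraMap B O) with hq
  haveI hqp : q.IsPrime := Ideal.comap_isPrime _ _
  have hcomapA : ∀ a : A, algebraMap A O a ∈ maximalIdeal O ↔ a ∈ maximalIdeal A := by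
    intro a
    rw [mem_maximalIdeal, mem_maximalIdeal, map_mem_nonunits_iff]
  haveI hlies : q.LiesOver (maximalIdeal A) := ⟨by
    ext a
    rw [Ideal.under, Ideal.mem_comap, hq, Ideal.mem_comap, ← IsScalarTower.algebraMap_apply,
      hcomapA]⟩
  -- (1) algebraic
  haveI halg : Algebra.IsAlgebraic A B := by
    constructor
    intro x
    obtain ⟨a, b, hb, hab⟩ := hfrac (x : O)
    refine ⟨Polynomial.C b * Polynomial.X - Polynomial.C a, ?_, ?_⟩
    · intro h0
      have := congrArg (fun p => Polynomial.coeff p 1) h0
      simp at this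
      exact hb this
    · simp only [map_sub, map_mul, Polynomial.aeval_C, Polynomial.aeval_X]
      rw [sub_eq_zero]
      apply Subtype.ext
      change algebraMap B O (algebraMap A B b * x) = algebraMap B O (algebraMap A B a)
      rw [map_mul, ← IsScalarTower.algebraMap_apply, ← IsScalarTower.algebraMap_apply]
      exact hab
  -- (2) algebraic independence of the residues
  have hfB : ∀ i, f i ∈ B := fun i => Algebra.subset_adjoin ⟨i, rfl⟩
  set g : Fin n → B ⧸ q := fun i => Ideal.Quotient.mk q ⟨f i, hfB i⟩ with hg
  set ι : B ⧸ q →+* ResidueField O :=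
    Ideal.Quotient.lift q ((residue O).comp (algebraMap B O)) (by
      intro x hx
      rw [RingHom.comp_apply, residue_eq_zero_iff]
      exact hx) with hι
  have hgind : AlgebraicIndependent (A ⧸ maximalIdeal A) g := by
    rw [algebraicIndependent_iff]
    intro Pb hPb
    obtain ⟨P, rfl⟩ := MvPolynomial.map_surjective (Ideal.Quotient.mk (maximalIdeal A))
      Ideal.Quotient.mk_surjective Pb
    have h1 : ι (MvPolynomial.aeval g (MvPolynomial.map (Ideal.Quotient.mk (maximalIdeal A)) P)) =
        MvPolynomial.eval₂ ((IsLocalRing.residue O).comp (algebraMap A O))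
          (fun i => IsLocalRing.residue O (f i)) P := by
      rw [MvPolynomial.aeval_def, MvPolynomial.eval₂_map, MvPolynomial.eval₂_comp_left]
      congr 1
    rw [hPb, map_zero] at h1
    have h2 := hind P h1.symm
    ext m
    rw [MvPolynomial.coeff_map, MvPolynomial.coeff_zero]
    exact h2 m
  obtain ⟨a, b, rq, rS, ha, hb, hrq, hrS, hle⟩ :=
    Groth.Agent.DimIneqH8.height_add_trdeg_le A B (maximalIdeal A) q
  have hrS0 : rS = 0 := by
    have := trdeg_eq_zero (R := A) (A := B)
    rw [this] at hrS
    exact_mod_cast hrS.symm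
  have hnrq : n ≤ rq := by
    have := hgind.lift_cardinalMk_le_trdeg
    rw [hrq, Cardinal.mk_fin, Cardinal.lift_natCast, Cardinal.lift_natCast] at this
    exact_mod_cast this
  -- (3) `q ≠ ⊥`
  have ha1 : 1 ≤ a := by
    by_contra h
    have ha0 : a = 0 := by omega
    rw [ha0, Nat.cast_zero, Ideal.height_eq_zero_iff_eq_bot] at ha
    apply hnt
    rw [IsLocalRing.isField_iff_maximalIdeal_eq]
    rw [eq_bot_iff]
    intro x hx
    rw [Ideal.mem_bot]
    by_contra hx0
    obtain ⟨a', b', hb', hab'⟩ := hfrac x
    have hmem : algebraMap A B a' ∈ q := by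
      rw [hq, Ideal.mem_comap, ← IsScalarTower.algebraMap_apply, ← hab']
      exact Ideal.mul_mem_left _ _ hx
    rw [ha, Ideal.mem_bot] at hmem
    have ha'0 : a' = 0 := hinjB (by rw [hmem, map_zero])
    rw [ha'0, map_zero] at hab'
    rcases mul_eq_zero.1 hab' with h | h
    · exact hb' (hinj (by rw [h, map_zero]))
    · exact hx0 h
  rw [← IsLocalRing.maximalIdeal_height_eq_ringKrullDim, hb]
  have : n + 1 ≤ b := by omega
  exact_mod_cast this

end Groth.Agent.ValCentre9
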