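import Mathlib
import Groth.Prelude.Def_EtRam

/-!
# Composita of valued fields (helper3)

* `compositum_core`: two local domains `C`, `Wt` which are torsion-free local algebras over a
  local Dedekind domain `B` embed compatibly into a field `M'` with a valuation subring dominating
  both.
* `wu_down`, `gr_down`: weak unramifiedness / geometric reducedness of residue fields descend from
  `W'` to `W'.comap ι`.
* `forallLocalExt_down`: a solution for `A → C` is a solution for `A → B` (Stacks 09EX-style).
-/

set_option autoImplicit false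
universe u

namespace Groth.Agent.Lib.ValCompH3

open IsLocalRing TensorProduct

section core

variable (B C Wt : Type u) [CommRing B] [IsDomain B] [IsDedekindDomain B]
  [CommRing C] [IsDomain C] [CommRing Wt] [IsDomain Wt]
  [Algebra B C] [Algebra B Wt]

/-- nonzero elements of `C` are nonzerodivisors on `C ⊗[B] Wt`. -/
theorem tmul_one_mem_nonZeroDivisors (hW : Function.Injective (algebraMap B Wt)) {c : C}
    (hc : c ≠ 0) : (c ⊗ₜ[B] (1 : Wt)) ∈ nonZeroDivisors (C ⊗[B] Wt) := by
  haveI : Module.IsTorsionFree B Wt := Module.isTorsionFree_iff_algebraMap_injective.2 hW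
  haveI : Module.Flat B Wt := inferInstance
  have hinj : Function.Injective (LinearMap.rTensor Wt (LinearMap.mulLeft B c)) :=
    Module.Flat.rTensor_preserves_injective_linearMap _ (mul_right_injective₀ hc)
  have heq : ∀ z : C ⊗[B] Wt,
      (c ⊗ₜ[B] (1 : Wt)) * z = LinearMap.rTensor Wt (LinearMap.mulLeft B c) z := by
    intro z
    induction z using TensorProduct.induction_on with
    | zero => simp
    | tmul x y => simp [Algebra.TensorProduct.tmul_mul_tmul]
    | add x y hx hy => rw [mul_add, map_add, hx, hy]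
  rw [mem_nonZeroDivisors_iff_left]
  intro z hz
  rw [heq] at hz
  exact hinj (by rw [hz, map_zero])

/-- nonzero elements of `Wt` are nonzerodivisors on `C ⊗[B] Wt`. -/
theorem one_tmul_mem_nonZeroDivisors (hC : Function.Injective (algebraMap B C)) {w : Wt}
    (hw : w ≠ 0) : ((1 : C) ⊗ₜ[B] w) ∈ nonZeroDivisors (C ⊗[B] Wt) := by
  haveI : Module.IsTorsionFree B C := Module.isTorsionFree_iff_algebraMap_injective.2 hC
  haveI : Module.Flat B C := inferInstance
  have hinj : Function.Injective (LinearMap.lTensor C (LinearMap.mulLeft B w)) :=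
    Module.Flat.lTensor_preserves_injective_linearMap _ (mul_right_injective₀ hw)
  have heq : ∀ z : C ⊗[B] Wt,
      ((1 : C) ⊗ₜ[B] w) * z = LinearMap.lTensor C (LinearMap.mulLeft B w) z := by
    intro z
    induction z using TensorProduct.induction_on with
    | zero => simp
    | tmul x y => simp [Algebra.TensorProduct.tmul_mul_tmul]
    | add x y hx hy => rw [mul_add, map_add, hx, hy]
  rw [mem_nonZeroDivisors_iff_left]
  intro z hz
  rw [heq] at hz
  exact hinj (by rw [hz, map_zero])

variable [IsLocalRing B] [IsLocalRing C] [IsLocalRing Wt]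
  [IsLocalHom (algebraMap B C)] [IsLocalHom (algebraMap B Wt)]

/-- there is a proper ideal of `C ⊗[B] Wt` containing the images of both maximal ideals. -/
theorem exists_prime_over_both :
    ∃ P : Ideal (C ⊗[B] Wt), P.IsPrime ∧ (∀ c ∈ maximalIdeal C, (c ⊗ₜ[B] (1 : Wt)) ∈ P) ∧
      ∀ w ∈ maximalIdeal Wt, ((1 : C) ⊗ₜ[B] w) ∈ P := by
  haveI : Nontrivial ((ResidueField C) ⊗[ResidueField B] (ResidueField Wt)) :=
    Algebra.TensorProduct.nontrivial_of_algebraMap_injective_of_isDomain (ResidueField B)
      (ResidueField C) (ResidueField Wt) (RingHom.injective _) (RingHom.injective _)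
  let φ : (C ⊗[B] Wt) →ₐ[B] ((ResidueField C) ⊗[ResidueField B] (ResidueField Wt)) :=
    (Algebra.TensorProduct.mapOfCompatibleSMul (ResidueField B) B B (ResidueField C)
      (ResidueField Wt)).comp
      (Algebra.TensorProduct.map (IsScalarTower.toAlgHom B C (ResidueField C))
        (IsScalarTower.toAlgHom B Wt (ResidueField Wt)))
  have hφ : ∀ c w, φ (c ⊗ₜ[B] w) = (residue C c) ⊗ₜ[ResidueField B] (residue Wt w) := by
    intro c w
    simp [φ]
  have hne : RingHom.ker φ.toRingHom ≠ ⊤ := RingHom.ker_ne_top _
  obtain ⟨P, hPmax, hle⟩ := Ideal.exists_le_maximal _ hne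
  refine ⟨P, hPmax.isPrime, fun c hc => hle ?_, fun w hw => hle ?_⟩
  · rw [RingHom.mem_ker]
    show φ (c ⊗ₜ[B] (1 : Wt)) = 0
    rw [hφ, (residue_eq_zero_iff c).2 hc, TensorProduct.zero_tmul]
  · rw [RingHom.mem_ker]
    show φ ((1 : C) ⊗ₜ[B] w) = 0
    rw [hφ, (residue_eq_zero_iff w).2 hw, TensorProduct.tmul_zero]

/-- **Compositum of valued fields**, core form. -/
theorem compositum_core (hC : Function.Injective (algebraMap B C))
    (hW : Function.Injective (algebraMap B Wt)) :
    ∃ (M' : Type u) (_ : Field M') (gC : C →+* M') (gW : Wt →+* M') (W' : ValuationSubring M'),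
      Function.Injective gC ∧ Function.Injective gW ∧
      (∀ b, gC (algebraMap B C b) = gW (algebraMap B Wt b)) ∧
      (∀ c, gC c ∈ W') ∧ (∀ w, gW w ∈ W') ∧
      (∀ c ∈ maximalIdeal C, W'.valuation (gC c) < 1) ∧
      (∀ w ∈ maximalIdeal Wt, W'.valuation (gW w) < 1) ∧
      ∀ x : M', ∃ s t : M', s ∈ Subring.closure (Set.range gC ∪ Set.range gW) ∧
        t ∈ Subring.closure (Set.range gC ∪ Set.range gW) ∧ t ≠ 0 ∧ x = s / t := by
  classical
  obtain ⟨P, hP, hPC, hPW⟩ := exists_prime_over_both B C Wt
  obtain ⟨Q, hQmin, hQP⟩ := Ideal.exists_minimalPrimes_le (bot_le : (⊥ : Ideal (C ⊗[B] Wt)) ≤ P)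
  haveI hQprime : Q.IsPrime := hQmin.1.1
  have hQnzd : ∀ z ∈ Q, z ∉ nonZeroDivisors (C ⊗[B] Wt) := fun z hz hz' =>
    Set.disjoint_left.mp (Ideal.disjoint_nonZeroDivisors_of_mem_minimalPrimes hQmin) hz hz'
  let D := (C ⊗[B] Wt) ⧸ Q
  let M' := FractionRing D
  let g : (C ⊗[B] Wt) →+* M' := (algebraMap D M').comp (Ideal.Quotient.mk Q)
  have hg0 : ∀ z, g z = 0 ↔ z ∈ Q := by
    intro z
    show algebraMap D M' (Ideal.Quotient.mk Q z) = 0 ↔ _
    rw [map_eq_zero_iff _ (IsFractionRing.injective D M'), Ideal.Quotient.eq_zero_iff_mem]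
  let gC : C →+* M' := g.comp Algebra.TensorProduct.includeLeftRingHom
  let gW : Wt →+* M' := g.comp (Algebra.TensorProduct.includeRight (R := B) (A := C) (B := Wt)).toRingHom
  have hgC : ∀ c, gC c = g (c ⊗ₜ[B] (1 : Wt)) := fun _ => rfl
  have hgW : ∀ w, gW w = g ((1 : C) ⊗ₜ[B] w) := fun _ => rfl
  have hgCinj : Function.Injective gC := by
    rw [injective_iff_map_eq_zero]
    intro c hc
    by_contra hc0
    rw [hgC, hg0] at hc
    exact hQnzd _ hc (tmul_one_mem_nonZeroDivisors B C Wt hW hc0)
  have hgWinj : Function.Injective gW := by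
    rw [injective_iff_map_eq_zero]
    intro w hw
    by_contra hw0
    rw [hgW, hg0] at hw
    exact hQnzd _ hw (one_tmul_mem_nonZeroDivisors B C Wt hC hw0)
  -- the valuation ring
  have hunit : ∀ y : P.primeCompl, IsUnit (g y) := by
    intro y
    rw [isUnit_iff_ne_zero, Ne, hg0]
    exact fun hy => y.2 (hQP hy)
  let f : Localization.AtPrime P →+* M' := IsLocalization.lift hunit
  have hfg : ∀ z, f (algebraMap _ _ z) = g z := fun z => IsLocalization.lift_eq hunit z
  obtain ⟨W', hW'mem, hW'loc⟩ := IsLocalRing.exists_factor_valuationRing f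
  have hgmem : ∀ z, g z ∈ W' := fun z => by rw [← hfg]; exact hW'mem _
  have hgP : ∀ z ∈ P, W'.valuation (g z) < 1 := by
    intro z hz
    have h1 : (⟨g z, hgmem z⟩ : W') ∈ maximalIdeal W' := by
      rw [mem_maximalIdeal, mem_nonunits_iff]
      intro hu
      have h2 : IsUnit ((f.codRestrict W'.toSubring hW'mem) (algebraMap _ _ z)) := by
        convert hu using 1
        exact Subtype.ext (hfg z)
      have h3 := hW'loc.map_nonunit _ h2
      rw [IsLocalization.AtPrime.isUnit_to_map_iff (Localization.AtPrime P) P] at h3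
      exact h3 hz
    exact (ValuationSubring.valuation_lt_one_iff W' _).1 h1
  refine ⟨M', inferInstance, gC, gW, W', hgCinj, hgWinj, ?_, fun c => hgmem _, fun w => hgmem _,
    fun c hc => hgP _ (hPC c hc), fun w hw => hgP _ (hPW w hw), ?_⟩
  · intro b
    rw [hgC, hgW]
    congr 1
    rw [Algebra.algebraMap_eq_smul_one, Algebra.algebraMap_eq_smul_one, TensorProduct.smul_tmul]
  · intro x
    have hcl : ∀ z : C ⊗[B] Wt, g z ∈ Subring.closure (Set.range gC ∪ Set.range gW) := by
      intro z
      induction z using TensorProduct.induction_on with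
      | zero => rw [map_zero]; exact Subring.zero_mem _
      | tmul c w =>
        have h1 : c ⊗ₜ[B] w = (c ⊗ₜ[B] (1 : Wt)) * ((1 : C) ⊗ₜ[B] w) := by
          rw [Algebra.TensorProduct.tmul_mul_tmul, mul_one, one_mul]
        rw [h1, map_mul]
        exact Subring.mul_mem _ (Subring.subset_closure (Or.inl ⟨c, rfl⟩))
          (Subring.subset_closure (Or.inr ⟨w, rfl⟩))
      | add z1 z2 h1 h2 => rw [map_add]; exact Subring.add_mem _ h1 h2
    obtain ⟨d1, d2, hd2, hx⟩ := IsFractionRing.div_surjective D x
    obtain ⟨z1, rfl⟩ := Ideal.Quotient.mk_surjective d1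
    obtain ⟨z2, rfl⟩ := Ideal.Quotient.mk_surjective d2
    refine ⟨g z1, g z2, hcl z1, hcl z2, ?_, hx.symm⟩
    show algebraMap D M' (Ideal.Quotient.mk Q z2) ≠ 0
    exact IsFractionRing.to_map_ne_zero_of_mem_nonZeroDivisors hd2

end core

section down

variable {K₁ M M' : Type u} [Field K₁] [Field M] [Field M']

theorem comap_valuation_lt_one_iff (ι : M →+* M') (W' : ValuationSubring M') (x : M) :
    (W'.comap ι).valuation x < 1 ↔ W'.valuation (ι x) < 1 := by
  rw [← ValuationSubring.mem_nonunits_iff, ← ValuationSubring.mem_nonunits_iff,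
    ValuationSubring.mem_nonunits_iff_or, ValuationSubring.mem_nonunits_iff_or,
    ValuationSubring.mem_comap, map_inv₀, map_eq_zero]

/-- weak unramifiedness descends from `W'` to `W'.comap ι`. -/
theorem wu_down (ι : M →+* M') (W' : ValuationSubring M') (f : K₁ →+* M)
    (h : letI : Algebra (W'.comap (ι.comp f)) W' := (EtRam.inclOfComap W' (ι.comp f)).toAlgebra
      EtRam.IsWeaklyUnramified (W'.comap (ι.comp f)) W') :
    letI : Algebra ((W'.comap ι).comap f) (W'.comap ι) :=
      (EtRam.inclOfComap (W'.comap ι) f).toAlgebra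
    EtRam.IsWeaklyUnramified ((W'.comap ι).comap f) (W'.comap ι) := by
  have h' : (maximalIdeal (W'.comap (ι.comp f))).map (EtRam.inclOfComap W' (ι.comp f)) =
      maximalIdeal W' := h
  show (maximalIdeal ((W'.comap ι).comap f)).map (EtRam.inclOfComap (W'.comap ι) f) =
      maximalIdeal (W'.comap ι)
  -- every element of the extended ideal is a multiple of a single generator
  have key : ∀ y ∈ (maximalIdeal (W'.comap (ι.comp f))).map (EtRam.inclOfComap W' (ι.comp f)),
      ∃ a ∈ maximalIdeal (W'.comap (ι.comp f)), ∃ w : W',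
        y = EtRam.inclOfComap W' (ι.comp f) a * w := by
    intro y hy
    rw [Ideal.map] at hy
    induction hy using Submodule.span_induction with
    | mem y hy =>
      obtain ⟨a, ha, rfl⟩ := hy
      exact ⟨a, ha, 1, (mul_one _).symm⟩
    | zero => exact ⟨0, Ideal.zero_mem _, 0, by simp⟩
    | add y1 y2 _ _ h1 h2 =>
      obtain ⟨a1, ha1, w1, rfl⟩ := h1
      obtain ⟨a2, ha2, w2, rfl⟩ := h2
      rcases ValuationRing.dvd_total a1 a2 with ⟨c, hc⟩ | ⟨c, hc⟩
      · refine ⟨a1, ha1, w1 + EtRam.inclOfComap W' (ι.comp f) c * w2, ?_⟩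
        rw [hc, map_mul]; ring
      · refine ⟨a2, ha2, EtRam.inclOfComap W' (ι.comp f) c * w1 + w2, ?_⟩
        rw [hc, map_mul]; ring
    | smul r y _ h1 =>
      obtain ⟨a1, ha1, w1, rfl⟩ := h1
      exact ⟨a1, ha1, r * w1, by rw [smul_eq_mul]; ring⟩
  apply le_antisymm
  · rw [Ideal.map_le_iff_le_comap]
    intro a ha
    rw [Ideal.mem_comap, mem_maximalIdeal, mem_nonunits_iff]
    rw [mem_maximalIdeal, mem_nonunits_iff] at ha
    exact fun hu => ha (isUnit_of_map_unit _ _ hu)
  · intro x hx
    have hx1 : W'.valuation (ι (x : M)) < 1 := by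
      rw [← comap_valuation_lt_one_iff]
      exact (ValuationSubring.valuation_lt_one_iff _ x).1 hx
    have hx2 : (⟨ι (x : M), x.2⟩ : W') ∈ maximalIdeal W' :=
      (ValuationSubring.valuation_lt_one_iff W' _).2 hx1
    rw [← h'] at hx2
    obtain ⟨a, ha, w, hw⟩ := key _ hx2
    have hw' : ι (x : M) = ι (f (a : K₁)) * (w : M') := congrArg Subtype.val hw
    by_cases ha0 : (a : K₁) = 0
    · rw [ha0, map_zero, map_zero, zero_mul] at hw'
      have hx0 : (x : M) = 0 := (map_eq_zero ι).1 hw'
      have : x = 0 := Subtype.ext hx0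
      rw [this]
      exact Ideal.zero_mem _
    · have hfa : f (a : K₁) ≠ 0 := (map_ne_zero f).2 ha0
      have hιfa : ι (f (a : K₁)) ≠ 0 := (map_ne_zero ι).2 hfa
      have hq : ι ((x : M) / f (a : K₁)) = (w : M') := by
        rw [map_div₀, hw', mul_div_cancel_left₀ _ hιfa]
      have hqmem : (x : M) / f (a : K₁) ∈ W'.comap ι := by
        rw [ValuationSubring.mem_comap, hq]; exact w.2
      have hamem : (a : K₁) ∈ (W'.comap ι).comap f := a.2
      have ha' : (⟨(a : K₁), hamem⟩ : (W'.comap ι).comap f) ∈
          maximalIdeal ((W'.comap ι).comap f) := by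
        rw [ValuationSubring.valuation_lt_one_iff, comap_valuation_lt_one_iff,
          comap_valuation_lt_one_iff]
        have := (ValuationSubring.valuation_lt_one_iff _ a).1 ha
        rw [comap_valuation_lt_one_iff] at this
        exact this
      have hxeq : x = EtRam.inclOfComap (W'.comap ι) f ⟨(a : K₁), hamem⟩ *
          ⟨(x : M) / f (a : K₁), hqmem⟩ := by
        apply Subtype.ext
        show (x : M) = f (a : K₁) * ((x : M) / f (a : K₁))
        rw [mul_div_cancel₀ _ hfa]
      rw [hxeq]
      exact Ideal.mul_mem_right _ _ (Ideal.mem_map_of_mem _ ha')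

/-- geometric reducedness of the residue field extension descends from `W'` to `W'.comap ι`. -/
theorem gr_down (ι : M →+* M') (W' : ValuationSubring M') (f : K₁ →+* M)
    (h : @Algebra.IsGeometricallyReduced (ResidueField (W'.comap (ι.comp f))) (ResidueField W') _ _
        (ResidueField.map (EtRam.inclOfComap W' (ι.comp f))).toAlgebra) :
    @Algebra.IsGeometricallyReduced (ResidueField ((W'.comap ι).comap f))
        (ResidueField (W'.comap ι)) _ _
        (ResidueField.map (EtRam.inclOfComap (W'.comap ι) f)).toAlgebra := by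
  letI a1 : Algebra (ResidueField ((W'.comap ι).comap f)) (ResidueField (W'.comap ι)) :=
    (ResidueField.map (EtRam.inclOfComap (W'.comap ι) f)).toAlgebra
  letI a2 : Algebra (ResidueField ((W'.comap ι).comap f)) (ResidueField W') :=
    (ResidueField.map (EtRam.inclOfComap W' (ι.comp f))).toAlgebra
  haveI : Algebra.IsGeometricallyReduced (ResidueField ((W'.comap ι).comap f))
      (ResidueField W') := h
  let ρ : ResidueField (W'.comap ι) →ₐ[ResidueField ((W'.comap ι).comap f)] ResidueField W' :=
    { toRingHom := ResidueField.map (EtRam.inclOfComap W' ι)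
      commutes' := by
        intro x
        obtain ⟨a, rfl⟩ := IsLocalRing.residue_surjective x
        rfl }
  exact Algebra.IsGeometricallyReduced.of_injective ρ ρ.toRingHom.injective

end down

section main

variable (B C K L M₀ K₁ : Type u)
  [CommRing B] [IsDomain B] [IsDiscreteValuationRing B]
  [CommRing C] [IsDomain C] [IsDiscreteValuationRing C] [Algebra B C]
  [IsLocalHom (algebraMap B C)]
  [Field K] [Field L] [Field M₀] [Field K₁] [Algebra K L] [Algebra K M₀] [Algebra L M₀]
  [IsScalarTower K L M₀] [Algebra K K₁] [FiniteDimensional K K₁]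
  [Algebra B L] [IsFractionRing B L]
  [Algebra C M₀] [IsFractionRing C M₀] [Algebra B M₀]
  [IsScalarTower B C M₀] [IsScalarTower B L M₀]

/-- A property of the local extensions which descends along `comap` holds for `B` as soon as it
holds for `C`. -/
theorem forallLocalExt_down (hinj : Function.Injective (algebraMap B C))
    (P : ∀ (M : Type u) [Field M], ValuationSubring M → (K₁ →+* M) → Prop)
    (hP : ∀ (M M' : Type u) [Field M] [Field M'] (ι : M →+* M') (W' : ValuationSubring M')
      (f : K₁ →+* M), P M' W' (ι.comp f) → P M (W'.comap ι) f)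
    (h : EtRam.ForallLocalExt C K M₀ K₁ P) : EtRam.ForallLocalExt B K L K₁ P := by
  intro M _ _ _ _ _ _ hgen W hW
  classical
  -- `W` as a `B`-algebra
  let gB : B →+* M := (algebraMap L M).comp (algebraMap B L)
  have hgBinj : Function.Injective gB :=
    (algebraMap L M).injective.comp (IsFractionRing.injective B L)
  let φB : B →+* W := RingHom.codRestrict gB W hW.1
  letI algBW : Algebra B W := φB.toAlgebra
  have hφB : ∀ b, ((algebraMap B W b : W) : M) = algebraMap L M (algebraMap B L b) := fun _ => rfl
  have hBWinj : Function.Injective (algebraMap B W) := by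
    intro b b' hbb
    apply hgBinj
    have := congrArg Subtype.val hbb
    exact this
  haveI : IsLocalHom (algebraMap B W) := by
    constructor
    intro a ha
    by_contra hna
    have h1 : a ∈ maximalIdeal B := (mem_maximalIdeal a).mpr hna
    have h2 := hW.2 a h1
    have h3 : W.valuation ((algebraMap B W a : W) : M) = 1 :=
      (W.valuation_eq_one_iff _).mp ha
    rw [hφB] at h3
    have h4 : gB a = algebraMap L M (algebraMap B L a) := rfl
    rw [h4, h3] at h2
    exact lt_irrefl _ h2
  obtain ⟨M', instM', gC, gW, W', hgC, hgW, hcompat, hCW', hWW', hCm, hWm, hgen'⟩ :=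
    compositum_core B C W hinj hBWinj
  let ι : M →+* M' := IsFractionRing.lift (A := W) (K := M) hgW
  let j : M₀ →+* M' := IsFractionRing.lift (A := C) (K := M₀) hgC
  have hι : ∀ w : W, ι (w : M) = gW w := fun w => IsFractionRing.lift_algebraMap hgW w
  have hj : ∀ c : C, j (algebraMap C M₀ c) = gC c := fun c => IsFractionRing.lift_algebraMap hgC c
  have hιj : ∀ l : L, ι (algebraMap L M l) = j (algebraMap L M₀ l) := by
    have : (ι.comp (algebraMap L M)) = (j.comp (algebraMap L M₀)) := by
      apply IsLocalization.ringHom_ext (nonZeroDivisors B)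
      ext b
      show ι (algebraMap L M (algebraMap B L b)) = j (algebraMap L M₀ (algebraMap B L b))
      rw [← hφB, hι, ← IsScalarTower.algebraMap_apply B L M₀,
        IsScalarTower.algebraMap_apply B C M₀, hj, hcompat]
    exact fun l => RingHom.congr_fun this l
  letI algM₀ : Algebra M₀ M' := j.toAlgebra
  letI algK₁ : Algebra K₁ M' := (ι.comp (algebraMap K₁ M)).toAlgebra
  letI algK : Algebra K M' := (ι.comp (algebraMap K M)).toAlgebra
  haveI : IsScalarTower K M₀ M' := by
    refine IsScalarTower.of_algebraMap_eq (fun x => ?_)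
    show ι (algebraMap K M x) = j (algebraMap K M₀ x)
    rw [IsScalarTower.algebraMap_apply K L M, hιj, ← IsScalarTower.algebraMap_apply K L M₀]
  haveI : IsScalarTower K K₁ M' := by
    refine IsScalarTower.of_algebraMap_eq (fun x => ?_)
    show ι (algebraMap K M x) = ι (algebraMap K₁ M (algebraMap K K₁ x))
    rw [← IsScalarTower.algebraMap_apply K K₁ M]
  -- comap
  have hcomap : W'.comap ι = W := by
    apply le_antisymm
    · rw [← ValuationSubring.nonunits_le_nonunits]
      intro x hx
      obtain ⟨hxW, ha⟩ := ValuationSubring.mem_nonunits_iff_exists_mem_maximalIdeal.1 hx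
      rw [ValuationSubring.mem_nonunits_iff, comap_valuation_lt_one_iff]
      have := hWm ⟨x, hxW⟩ ha
      rw [← hι] at this
      exact this
    · intro x hx
      rw [ValuationSubring.mem_comap]
      have := hWW' ⟨x, hx⟩
      rwa [← hι] at this
  -- domination
  have hdom : EtRam.Dominates C ((algebraMap M₀ M').comp (algebraMap C M₀)) W' := by
    refine ⟨fun c => ?_, fun c hc => ?_⟩
    · show j (algebraMap C M₀ c) ∈ W'
      rw [hj]; exact hCW' c
    · show W'.valuation (j (algebraMap C M₀ c)) < 1
      rw [hj]; exact hCm c hc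
  -- generation
  have hgenM' : Algebra.adjoin M₀ (Set.range (algebraMap K₁ M')) = ⊤ := by
    set T : Subalgebra M₀ M' := Algebra.adjoin M₀ (Set.range (algebraMap K₁ M')) with hT
    have hintK₁ : ∀ x ∈ Set.range (algebraMap K₁ M'), IsIntegral M₀ x := by
      rintro _ ⟨k, rfl⟩
      have h1 : IsIntegral K k := Algebra.IsIntegral.isIntegral k
      have h2 : IsIntegral K (algebraMap K₁ M' k) := h1.map (IsScalarTower.toAlgHom K K₁ M')
      exact h2.tower_top
    have hTle : T ≤ integralClosure M₀ M' := Algebra.adjoin_le hintK₁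
    have hinv : ∀ t : M', t ∈ T → t⁻¹ ∈ T := by
      intro t ht
      have h1 : IsIntegral M₀ t := hTle ht
      exact T.inv_mem_of_algebraic (x := ⟨t, ht⟩) h1.isAlgebraic
    have hιT : ∀ m : M, ι m ∈ T := by
      intro m
      have hm : m ∈ Algebra.adjoin L (Set.range (algebraMap K₁ M)) := by rw [hgen]; trivial
      induction hm using Algebra.adjoin_induction with
      | mem x hx =>
        obtain ⟨k, rfl⟩ := hx
        exact Algebra.subset_adjoin ⟨k, rfl⟩
      | algebraMap l =>
        rw [hιj]
        exact T.algebraMap_mem _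
      | add x y _ _ hx hy => rw [map_add]; exact T.add_mem hx hy
      | mul x y _ _ hx hy => rw [map_mul]; exact T.mul_mem hx hy
    have hclT : ∀ s ∈ Subring.closure (Set.range gC ∪ Set.range gW), s ∈ T := by
      intro s hs
      induction hs using Subring.closure_induction with
      | mem x hx =>
        rcases hx with ⟨c, rfl⟩ | ⟨w, rfl⟩
        · rw [← hj]; exact T.algebraMap_mem _
        · rw [← hι]; exact hιT _
      | zero => exact T.zero_mem
      | one => exact T.one_mem
      | add x y _ _ hx hy => exact T.add_mem hx hy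
      | mul x y _ _ hx hy => exact T.mul_mem hx hy
      | neg x _ hx => exact T.neg_mem hx
    rw [eq_top_iff]
    intro x _
    obtain ⟨s, t, hs, ht, ht0, rfl⟩ := hgen' x
    rw [div_eq_mul_inv]
    exact T.mul_mem (hclT s hs) (hinv t (hclT t ht))
  have hmain := h M' hgenM' W' hdom
  have hmain' : P M' W' (ι.comp (algebraMap K₁ M)) := hmain
  have := hP M M' ι W' (algebraMap K₁ M) hmain'
  rw [hcomap] at this
  exact this

end main

end Groth.Agent.Lib.ValCompH3
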