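import Groth.Agent.Lib.ValCrit2_helper7
import Groth.Agent.Lib.AlgSpLocP4_helper7
import Mathlib.AlgebraicGeometry.Morphisms.UniversallyOpen

set_option autoImplicit false
universe u
open CategoryTheory CategoryTheory.Limits AlgebraicGeometry Opposite IsLocalRing

namespace Groth.Agent.Lib.ValCrit3H7

open AlgSp Groth.Agent.Lib.AlgSpVal_helper7 Groth.Agent.Lib.AlgSpPoints_helper7
  Groth.Agent.Lib.AlgSpTop_helper7 Groth.Agent.Lib.AlgSpQC_helper7
  Groth.Agent.Lib.AlgSpPullback_helper7 Groth.Agent.Lib.AlgSpLocP4_helper7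

variable {S : Scheme.{u}}

set_option maxHeartbeats 1600000 in
set_option backward.isDefEq.respectTransparency.types false in
/-- Along a flat morphism of algebraic spaces, valuation rings whose closed point is hit lift
after a dominating extension. -/
theorem exists_lift_valuationRing_of_flat {X Y : Sp S} (hX : IsAlgSpace X) (hY : IsAlgSpace Y)
    (f : X ⟶ Y) (hf : LocP @Flat f) (A : Type u) [CommRing A] [IsDomain A] [ValuationRing A]
    (str : Spec (.of A) ⟶ S) (b : (yon S).obj (Over.mk str) ⟶ Y)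
    (hb : Points.ofPt b (closedPoint A) ∈ Set.range (Points.map f)) :
    ∃ (A' : Type u) (_ : CommRing A') (_ : IsDomain A') (_ : ValuationRing A') (φ : A →+* A'),
      Function.Injective φ ∧ IsLocalHom φ ∧
      ∃ l : (yon S).obj (Over.mk (Spec.map (CommRingCat.ofHom φ) ≫ str)) ⟶ X,
        l ≫ f = (yon S).map (Over.homMk (Spec.map (CommRingCat.ofHom φ)) rfl :
          Over.mk (Spec.map (CommRingCat.ofHom φ) ≫ str) ⟶ Over.mk str) ≫ b := by
  obtain ⟨T, hT⟩ : ∃ T : Over S, T = Over.mk str := ⟨_, rfl⟩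
  subst hT
  obtain ⟨x, hx⟩ := hb
  have sq := IsPullback.of_hasPullback f b
  have hXT : IsAlgSpace (pullback f b) :=
    isAlgSpace_of_isPullback hY.diag hX (IsAlgSpace.yon_obj (Over.mk str)) sq
  have hfl : LocP @Flat (pullback.snd f b) :=
    locP_baseChange etLocal_flat hX hY (IsAlgSpace.yon_obj (Over.mk str)) f b _ _ sq hf
  obtain ⟨z, hz1, hz2⟩ := exists_of_isPullback sq x
    (Points.ofScheme (Over.mk str) (closedPoint A))
    (by rw [hx, ← Points.ofPt_eq_map_ofScheme])
  obtain ⟨W, w, hwe, hws⟩ := hXT.atlas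
  obtain ⟨w₀, hw₀⟩ := ofPt_surjective w hws z
  obtain ⟨π, hπ⟩ := (yon S).map_surjective (w ≫ pullback.snd f b)
  haveI : Flat π.left :=
    hfl w (𝟙 _) π hwe (repWith_id _ (Over.mk str)) (by rw [hπ, Category.comp_id])
  have hπw : π.left w₀ = closedPoint A := by
    apply (Points.schemeEquiv (Over.mk str)).injective
    show Points.ofScheme (Over.mk str) (π.left w₀) =
      Points.ofScheme (Over.mk str) (closedPoint A)
    rw [← ofPt_yon_map, hπ, ← Points.map_ofPt, hw₀, hz2]
  let η : ↥(Spec (CommRingCat.of A)) := ⟨⊥, Ideal.bot_prime⟩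
  have hη : η ⤳ π.left w₀ := by
    rw [hπw]
    exact specializes_closedPoint (R := A) η
  obtain ⟨w', hw'w, hw'η⟩ := (Flat.generalizingMap (f := π.left)) hη
  let W₀ : Scheme.{u} := W.left
  let sr : W₀.presheaf.stalk w₀ ⟶ W₀.residueField w' :=
    W₀.presheaf.stalkSpecializes hw'w ≫ W₀.residue w'
  obtain ⟨A', hA, hA_local⟩ := exists_factor_valuationRing sr.hom
  let sA : W₀.presheaf.stalk w₀ ⟶ .of A' := CommRingCat.ofHom (sr.hom.codRestrict _ hA)
  let m : Spec (.of A') ⟶ W₀ := Spec.map sA ≫ W₀.fromSpecStalk w₀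
  have hm1 : m (closedPoint A') = w₀ := by
    show (Spec.map sA ≫ W₀.fromSpecStalk w₀) (closedPoint A') = w₀
    rw [Scheme.Hom.comp_apply]
    have e2 : Spec.map sA (closedPoint A') = closedPoint (W₀.presheaf.stalk w₀) :=
      comap_closedPoint (S := A') (sr.hom.codRestrict A'.toSubring hA)
    rw [e2, W₀.fromSpecStalk_closedPoint]
  have hm2 : Spec.map (CommRingCat.ofHom (algebraMap A' (W₀.residueField w'))) ≫ m =
      W₀.fromSpecResidueField w' := by
    rw [Scheme.fromSpecResidueField, ← Scheme.SpecMap_stalkSpecializes_fromSpecStalk hw'w]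
    simp_rw [m, ← Spec.map_comp_assoc]
    rfl
  obtain ⟨φ', hφ'⟩ : ∃ φ' : CommRingCat.of A ⟶ CommRingCat.of A', Spec.map φ' = m ≫ π.left :=
    ⟨Spec.preimage _, Spec.map_preimage _⟩
  obtain ⟨φ, rfl⟩ : ∃ φ : A →+* A', φ' = CommRingCat.ofHom φ := ⟨φ'.hom, rfl⟩
  have hloc : IsLocalHom φ := by
    rw [isLocalHom_iff_comap_closedPoint]
    show (Spec.map (CommRingCat.ofHom φ)) (closedPoint A') = closedPoint A
    rw [hφ', Scheme.Hom.comp_apply, hm1, hπw]
  have hinj : Function.Injective φ := by
    have hpt : (Spec.map (CommRingCat.ofHom ((algebraMap A' (W₀.residueField w')).comp φ)))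
        (closedPoint (W₀.residueField w')) = η := by
      rw [CommRingCat.ofHom_comp, Spec.map_comp, hφ', ← Category.assoc, hm2,
        Scheme.Hom.comp_apply, Scheme.fromSpecResidueField_apply, hw'η]
    have hker : RingHom.ker ((algebraMap A' (W₀.residueField w')).comp φ) = ⊥ := by
      have := congrArg PrimeSpectrum.asIdeal hpt
      change Ideal.comap _ (maximalIdeal (W₀.residueField w')) = ⊥ at this
      rwa [IsLocalRing.maximalIdeal_eq_bot] at this
    have h2 : Function.Injective ((algebraMap A' (W₀.residueField w')).comp φ) :=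
      (RingHom.injective_iff_ker_eq_bot _).2 hker
    exact Function.Injective.of_comp (f := algebraMap A' (W₀.residueField w')) h2
  have hmW : m ≫ W.hom = Spec.map (CommRingCat.ofHom φ) ≫ str := by
    have e : W.hom = π.left ≫ str := (Over.w π).symm
    rw [hφ', e]
    simp only [m, Category.assoc]
  let m' : Over.mk (Spec.map (CommRingCat.ofHom φ) ≫ str) ⟶ W := Over.homMk m hmW
  have hm'π : m' ≫ π = (Over.homMk (Spec.map (CommRingCat.ofHom φ)) rfl :
      Over.mk (Spec.map (CommRingCat.ofHom φ) ≫ str) ⟶ Over.mk str) := by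
    ext
    exact hφ'.symm
  refine ⟨A', inferInstance, inferInstance, inferInstance, φ, hinj, hloc,
    (yon S).map m' ≫ w ≫ pullback.fst f b, ?_⟩
  rw [Category.assoc, Category.assoc, pullback.condition, ← Category.assoc w, ← hπ,
    ← Category.assoc, ← Functor.map_comp, hm'π]

end Groth.Agent.Lib.ValCrit3H7
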