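import Groth.Agent.Lib.ValCrit4_helper7
import Groth.Agent.Lib.AlgSpUnram_helper7
import Groth.Prelude.Def_AlgSpDec

set_option autoImplicit false
universe u
open CategoryTheory CategoryTheory.Limits AlgebraicGeometry Opposite IsLocalRing

namespace Groth.Agent.Lib.ValCrit5H7

open AlgSp Groth.Agent.Lib.AlgSpVal_helper7 Groth.Agent.Lib.AlgSpPoints_helper7
  Groth.Agent.Lib.AlgSpTop_helper7 Groth.Agent.Lib.AlgSpQC_helper7
  Groth.Agent.Lib.AlgSpPullback_helper7 Groth.Agent.Lib.AlgSpSep_helper7
  Groth.Agent.Lib.AlgSpUnram_helper7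

variable {S : Scheme.{u}}

/-- For a decent space `P`, the representing scheme of `h_W ×_P Spec K` (with `W` affine, `K` a
field) is quasi-compact. -/
theorem compactSpace_of_isPullback_of_decent {P : Sp S} (hdec : IsDecent P) {W E : Over S}
    [IsAffine W.left] {K : Type u} [Field K] {sK : Spec (CommRingCat.of K) ⟶ S}
    (w : (yon S).obj W ⟶ P) (hw : Representable w) (ξ : (yon S).obj (Over.mk sK) ⟶ P)
    (prW : E ⟶ W) (prK : E ⟶ Over.mk sK)
    (sqE : IsPullback ((yon S).map prW) ((yon S).map prK) w ξ) : CompactSpace ↥E.left := by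
  obtain ⟨p, hp, hmono, hqc⟩ := hdec (Points.mk (ofHom ξ))
  have hrel : Points.mk (ofHom p.toHom) = Points.mk (ofHom ξ) := by rw [ofHom_toHom]; exact hp
  rw [mk_ofHom_eq_iff] at hrel
  obtain ⟨Ω, _, sΩ, a, b, hab⟩ := hrel
  obtain ⟨Ek, fk, sk, sqk⟩ : ∃ (Ek : Over S) (fk : Ek ⟶ W) (sk : Ek ⟶ Over.mk p.str),
      IsPullback ((yon S).map fk) ((yon S).map sk) w p.toHom := ⟨_, _, _, hw.isPullback' p.toHom⟩
  obtain ⟨EΩ, fΩ, sΩ', sqΩ⟩ : ∃ (EΩ : Over S) (fΩ : EΩ ⟶ W) (sΩ' : EΩ ⟶ Over.mk sΩ),
      IsPullback ((yon S).map fΩ) ((yon S).map sΩ') w ((yon S).map a ≫ p.toHom) :=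
    ⟨_, _, _, hw.isPullback' _⟩
  haveI : QuasiCompact fk.left := hqc.property _ _ _ sqk.flip
  haveI : CompactSpace ↥Ek.left := QuasiCompact.compactSpace_of_compactSpace fk.left
  -- `E_Ω ⟶ E_k`
  obtain ⟨α, hα⟩ := (yon S).map_surjective (sqk.lift ((yon S).map fΩ)
    ((yon S).map sΩ' ≫ (yon S).map a) (by rw [sqΩ.w, Category.assoc]))
  have sqα : IsPullback ((yon S).map α) ((yon S).map sΩ') ((yon S).map sk) ((yon S).map a) := by
    refine IsPullback.of_right ?_ (by rw [hα, sqk.lift_snd]) sqk
    rw [hα, sqk.lift_fst]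
    exact sqΩ
  have sqα' := isPullback_left_of_isPullback_yon sqα
  haveI : CompactSpace ↥(Over.mk sΩ).left :=
    (inferInstance : CompactSpace ↥(Spec (CommRingCat.of Ω)))
  haveI : IsAffine (Over.mk p.str).left := (inferInstance : IsAffine (Spec (CommRingCat.of p.K)))
  haveI : IsAffine (Over.mk sΩ).left := (inferInstance : IsAffine (Spec (CommRingCat.of Ω)))
  haveI : IsAffineHom a.left := isAffineHom_of_isAffine _
  haveI : QuasiCompact a.left := inferInstance
  haveI : QuasiCompact α.left :=
    MorphismProperty.of_isPullback (P := @QuasiCompact) sqα'.flip inferInstance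
  haveI : CompactSpace ↥EΩ.left := QuasiCompact.compactSpace_of_compactSpace α.left
  -- `E_Ω ⟶ E`
  obtain ⟨β, hβ⟩ := (yon S).map_surjective (sqE.lift ((yon S).map fΩ)
    ((yon S).map sΩ' ≫ (yon S).map b) (by rw [sqΩ.w, hab, Category.assoc]))
  have sqβ : IsPullback ((yon S).map β) ((yon S).map sΩ') ((yon S).map prK) ((yon S).map b) := by
    refine IsPullback.of_right ?_ (by rw [hβ, sqE.lift_snd]) sqE
    rw [hβ, sqE.lift_fst, ← hab]
    exact sqΩ
  have sqβ' := isPullback_left_of_isPullback_yon sqβ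
  haveI : Surjective b.left := ⟨fun x => ⟨IsLocalRing.closedPoint Ω,
    @Subsingleton.elim _ (inferInstance : Subsingleton (PrimeSpectrum K)) _ _⟩⟩
  haveI : Surjective β.left :=
    MorphismProperty.of_isPullback (P := @Surjective) sqβ'.flip inferInstance
  exact Function.Surjective.compactSpace β.left.continuous β.left.surjective

set_option maxHeartbeats 1600000 in
set_option backward.isDefEq.respectTransparency.types false in
/-- A universally closed morphism of algebraic spaces satisfies the existence part of the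
valuative criterion, provided the fibres of affine étale charts of its base changes to valuation
rings over field valued points are quasi-compact. -/
theorem existVC_of_univClosed_of_compact {X Y : Sp S} (hX : IsAlgSpace X) (hY : IsAlgSpace Y)
    (f : X ⟶ Y) (hc : IsUnivClosedMor f)
    (hcomp : ∀ (A : Type u) [CommRing A] (str : Spec (CommRingCat.of A) ⟶ S)
      (bot : (yon S).obj (Over.mk str) ⟶ Y) (W E : Over S) [IsAffine W.left] (K : Type u)
      [Field K] (sK : Spec (CommRingCat.of K) ⟶ S) (w : (yon S).obj W ⟶ pullback f bot)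
      (_ : RepWith @Etale w) (ξ : (yon S).obj (Over.mk sK) ⟶ pullback f bot) (prW : E ⟶ W)
      (prK : E ⟶ Over.mk sK), IsPullback ((yon S).map prW) ((yon S).map prK) w ξ →
      CompactSpace ↥E.left) : ExistVC f := by
  rw [existVC_iff]
  intro A _ _ _ K _ _ _ str top bot comm
  obtain ⟨jK, hjK⟩ : ∃ jK : Over.mk (Spec.map (CommRingCat.ofHom (algebraMap A K)) ≫ str) ⟶
      Over.mk str, jK = Over.homMk (Spec.map (CommRingCat.ofHom (algebraMap A K))) rfl := ⟨_, rfl⟩
  rw [← hjK] at comm
  have sqP := IsPullback.of_hasPullback f bot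
  have hP : IsAlgSpace (pullback f bot) :=
    isAlgSpace_of_isPullback hY.diag hX (IsAlgSpace.yon_obj (Over.mk str)) sqP
  have hclosed : IsClosedMap (Points.map (pullback.snd f bot)) :=
    hc (IsAlgSpace.yon_obj (Over.mk str)) bot _ _ sqP
  obtain ⟨ξ, hξ1, hξ2⟩ : ∃ ξ : (yon S).obj (Over.mk (Spec.map (CommRingCat.ofHom
      (algebraMap A K)) ≫ str)) ⟶ pullback f bot,
      ξ ≫ pullback.fst f bot = top ∧ ξ ≫ pullback.snd f bot = (yon S).map jK :=
    ⟨pullback.lift top ((yon S).map jK) comm, pullback.lift_fst _ _ _, pullback.lift_snd _ _ _⟩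
  -- the closed point of `Spec A` is hit by the closure of the `K`-point
  have hx₀ : Points.map (pullback.snd f bot) (Points.ofPt ξ (closedPoint K)) =
      Points.ofScheme (Over.mk str) (jK.left (closedPoint K)) := by
    rw [Points.map_ofPt, hξ2, ofPt_yon_map]
  have hcl := hclosed _ (isClosed_closure (s := {Points.ofPt ξ (closedPoint K)}))
  have hmem : Points.ofScheme (Over.mk str) (closedPoint A) ∈
      Points.map (pullback.snd f bot) '' closure {Points.ofPt ξ (closedPoint K)} := by
    have hη : jK.left (closedPoint K) ⤳ closedPoint A := specializes_closedPoint (R := A) _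
    have h1 : Points.ofScheme (Over.mk str) (jK.left (closedPoint K)) ⤳
        Points.ofScheme (Over.mk str) (closedPoint A) := hη.map (continuous_ofScheme _)
    have h0 : Points.ofScheme (Over.mk str) (jK.left (closedPoint K)) ∈
        Points.map (pullback.snd f bot) '' closure {Points.ofPt ξ (closedPoint K)} :=
      ⟨Points.ofPt ξ (closedPoint K), subset_closure (Set.mem_singleton _), hx₀⟩
    exact h1.mem_closed hcl h0
  obtain ⟨x₁, hx₁cl, hx₁⟩ := hmem
  -- an affine chart through `x₁`
  obtain ⟨W, w, hwe, hWaff, w₁, hw₁'⟩ : ∃ (W : Over S) (w : (yon S).obj W ⟶ pullback f bot),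
      RepWith @Etale w ∧ IsAffine W.left ∧ ∃ w₁ : ↥W.left, Points.ofPt w w₁ = x₁ := by
    obtain ⟨ι, Tc, r, hTaff, hre, hrs⟩ := exists_affine_charts hP
    obtain ⟨i₀, w₁, hw₁⟩ := hrs x₁
    exact ⟨Tc i₀, r i₀, hre i₀, hTaff i₀, w₁, hw₁⟩
  haveI := hWaff
  -- the fibre product `E = W ×_P Spec K`
  have sqE := hwe.rep.isPullback' ξ
  haveI : Etale (hwe.rep.snd ξ).left := hwe.property_snd ξ
  haveI : IsAffine (Over.mk str).left := (inferInstance : IsAffine (Spec (CommRingCat.of A)))
  haveI : IsAffine (Over.mk (Spec.map (CommRingCat.ofHom (algebraMap A K)) ≫ str)).left :=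
    (inferInstance : IsAffine (Spec (CommRingCat.of K)))
  haveI : CompactSpace ↥(hwe.rep.pullback ξ).left :=
    hcomp A str bot W _ K _ w hwe ξ _ _ sqE
  haveI : DiscreteTopology ↥(hwe.rep.pullback ξ).left :=
    Groth.Agent.Lib.AlgSpFieldFlat_helper7.discreteTopology_of_etale_field (hwe.rep.snd ξ).left
  haveI : Finite ↥(hwe.rep.pullback ξ).left := finite_of_compact_of_discrete
  obtain ⟨E, prW, prK, hsqE, hfin⟩ : ∃ (E : Over S) (prW : E ⟶ W)
      (prK : E ⟶ Over.mk (Spec.map (CommRingCat.ofHom (algebraMap A K)) ≫ str)),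
      IsPullback ((yon S).map prW) ((yon S).map prK) w ξ ∧ Finite ↥E.left :=
    ⟨_, _, _, sqE, inferInstance⟩
  clear sqE
  -- `w₁` is a specialization of a point of the image of `E`
  have hw₁cl : w₁ ∈ closure (Set.range prW.left) := by
    have ho : IsOpenMap (Points.ofPt w) := isOpenMap_ofPt_of_etale w hwe
    have h1 : w₁ ∈ Points.ofPt w ⁻¹' closure {Points.ofPt ξ (closedPoint K)} := by
      show Points.ofPt w w₁ ∈ closure {Points.ofPt ξ (closedPoint K)}
      rw [hw₁']; exact hx₁cl
    rw [ho.preimage_closure_eq_closure_preimage (Points.continuous_ofPt w)] at h1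
    refine closure_mono ?_ h1
    intro w' hw'
    obtain ⟨e, he1, -⟩ := exists_ofPt_eq_of_isPullback hsqE w' (closedPoint K) hw'
    exact ⟨e, he1⟩
  obtain ⟨e, he⟩ : ∃ e : ↥E.left, prW.left e ⤳ w₁ := by
    have h2 : Set.range prW.left = ⋃ e : ↥E.left, {prW.left e} := by
      ext z; simp [eq_comm]
    rw [h2, closure_iUnion_of_finite, Set.mem_iUnion] at hw₁cl
    obtain ⟨e, he⟩ := hw₁cl
    exact ⟨e, specializes_iff_mem_closure.2 he⟩
  -- the valuation ring
  obtain ⟨W₀, hW₀⟩ : ∃ W₀ : Scheme.{u}, W₀ = W.left := ⟨_, rfl⟩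
  obtain ⟨E₀, hE₀⟩ : ∃ E₀ : Scheme.{u}, E₀ = E.left := ⟨_, rfl⟩
  let sr : W.left.presheaf.stalk w₁ ⟶ E.left.residueField e :=
    W.left.presheaf.stalkSpecializes he ≫ W.left.residue (prW.left e) ≫
      prW.left.residueFieldMap e
  obtain ⟨A', hA, hA_local⟩ := exists_factor_valuationRing sr.hom
  let sA : W.left.presheaf.stalk w₁ ⟶ .of A' := CommRingCat.ofHom (sr.hom.codRestrict _ hA)
  let m : Spec (.of A') ⟶ W.left := Spec.map sA ≫ W.left.fromSpecStalk w₁
  have hm1 : m (closedPoint A') = w₁ := by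
    show (Spec.map sA ≫ W.left.fromSpecStalk w₁) (closedPoint A') = w₁
    rw [Scheme.Hom.comp_apply]
    have e2 : Spec.map sA (closedPoint A') = closedPoint (W.left.presheaf.stalk w₁) :=
      comap_closedPoint (S := A') (sr.hom.codRestrict A'.toSubring hA)
    rw [e2, W.left.fromSpecStalk_closedPoint]
  have hm2 : Spec.map (CommRingCat.ofHom (algebraMap A' (E.left.residueField e))) ≫ m =
      E.left.fromSpecResidueField e ≫ prW.left := by
    rw [← Scheme.Hom.SpecMap_residueFieldMap_fromSpecResidueField, Scheme.fromSpecResidueField,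
      ← Scheme.SpecMap_stalkSpecializes_fromSpecStalk he]
    simp_rw [m, ← Spec.map_comp_assoc]
    rfl
  obtain ⟨πW, hπW⟩ := (yon S).map_surjective (w ≫ pullback.snd f bot)
  have hπw : πW.left w₁ = closedPoint A := by
    apply (Points.schemeEquiv (Over.mk str)).injective
    show Points.ofScheme (Over.mk str) (πW.left w₁) =
      Points.ofScheme (Over.mk str) (closedPoint A)
    rw [← ofPt_yon_map, hπW, ← Points.map_ofPt, hw₁', hx₁]
  have hWK : prW ≫ πW = prK ≫ jK := by
    apply (yon S).map_injective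
    rw [Functor.map_comp, Functor.map_comp, hπW, ← Category.assoc, hsqE.w, Category.assoc, hξ2]
  obtain ⟨φ', hφ'⟩ : ∃ φ' : CommRingCat.of A ⟶ CommRingCat.of A', Spec.map φ' = m ≫ πW.left :=
    ⟨Spec.preimage _, Spec.map_preimage _⟩
  obtain ⟨φ, rfl⟩ : ∃ φ : A →+* A', φ' = CommRingCat.ofHom φ := ⟨φ'.hom, rfl⟩
  obtain ⟨ψ', hψ'⟩ : ∃ ψ' : CommRingCat.of K ⟶ E.left.residueField e,
      Spec.map ψ' = E.left.fromSpecResidueField e ≫ prK.left :=
    ⟨Spec.preimage _, Spec.map_preimage _⟩
  obtain ⟨ψ, rfl⟩ : ∃ ψ : K →+* E.left.residueField e, ψ' = CommRingCat.ofHom ψ :=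
    ⟨ψ'.hom, rfl⟩
  have hloc : IsLocalHom φ := by
    rw [isLocalHom_iff_comap_closedPoint]
    show (Spec.map (CommRingCat.ofHom φ)) (closedPoint A') = closedPoint A
    rw [hφ', Scheme.Hom.comp_apply, hm1, hπw]
  have hjKl : jK.left = Spec.map (CommRingCat.ofHom (algebraMap A K)) := by rw [hjK]; rfl
  have hcomm : (algebraMap A' (E.left.residueField e)).comp φ = ψ.comp (algebraMap A K) := by
    have e1 : Spec.map (CommRingCat.ofHom ((algebraMap A' (E.left.residueField e)).comp φ)) =
        Spec.map (CommRingCat.ofHom (algebraMap A' (E.left.residueField e))) ≫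
          Spec.map (CommRingCat.ofHom φ) :=
      Spec.map_comp (CommRingCat.ofHom φ)
        (CommRingCat.ofHom (algebraMap A' (E.left.residueField e)))
    have e2 : Spec.map (CommRingCat.ofHom (ψ.comp (algebraMap A K))) =
        Spec.map (CommRingCat.ofHom ψ) ≫ Spec.map (CommRingCat.ofHom (algebraMap A K)) :=
      Spec.map_comp (CommRingCat.ofHom (algebraMap A K)) (CommRingCat.ofHom ψ)
    have h1 : Spec.map (CommRingCat.ofHom ((algebraMap A' (E.left.residueField e)).comp φ)) =
        Spec.map (CommRingCat.ofHom (ψ.comp (algebraMap A K))) := by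
      rw [e1, e2, hφ', hψ']
      calc Spec.map (CommRingCat.ofHom (algebraMap A' (E.left.residueField e))) ≫ m ≫ πW.left
          = (Spec.map (CommRingCat.ofHom (algebraMap A' (E.left.residueField e))) ≫ m) ≫
              πW.left := (Category.assoc _ _ _).symm
        _ = (E.left.fromSpecResidueField e ≫ prW.left) ≫ πW.left := by rw [hm2]
        _ = E.left.fromSpecResidueField e ≫ (prW ≫ πW).left := Category.assoc _ _ _
        _ = E.left.fromSpecResidueField e ≫ (prK ≫ jK).left := by rw [hWK]
        _ = (E.left.fromSpecResidueField e ≫ prK.left) ≫ jK.left := (Category.assoc _ _ _).symm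
        _ = _ := by rw [hjKl]
    have h2 := Spec.map_injective h1
    exact congrArg (fun k => k.hom) h2
  have hmW : m ≫ W.hom = Spec.map (CommRingCat.ofHom φ) ≫ str := by
    have e' : W.hom = πW.left ≫ str := (Over.w πW).symm
    rw [hφ', e']
    simp only [m, Category.assoc]
  let m' : Over.mk (Spec.map (CommRingCat.ofHom φ) ≫ str) ⟶ W := Over.homMk m hmW
  have hm'π : m' ≫ πW = (Over.homMk (Spec.map (CommRingCat.ofHom φ)) rfl :
      Over.mk (Spec.map (CommRingCat.ofHom φ) ≫ str) ⟶ Over.mk str) := by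
    ext
    exact hφ'.symm
  have hεE : E.left.fromSpecResidueField e ≫ E.hom =
      Spec.map (CommRingCat.ofHom (algebraMap A' (E.left.residueField e))) ≫
        Spec.map (CommRingCat.ofHom φ) ≫ str := by
    calc E.left.fromSpecResidueField e ≫ E.hom
        = E.left.fromSpecResidueField e ≫ prW.left ≫ W.hom := by rw [Over.w prW]
      _ = (E.left.fromSpecResidueField e ≫ prW.left) ≫ W.hom := (Category.assoc _ _ _).symm
      _ = (Spec.map (CommRingCat.ofHom (algebraMap A' (E.left.residueField e))) ≫ m) ≫ W.hom := by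
          rw [hm2]
      _ = Spec.map (CommRingCat.ofHom (algebraMap A' (E.left.residueField e))) ≫ m ≫ W.hom :=
          Category.assoc _ _ _
      _ = _ := by rw [hmW]
  let ε : Over.mk (Spec.map (CommRingCat.ofHom (algebraMap A' (E.left.residueField e))) ≫
      Spec.map (CommRingCat.ofHom φ) ≫ str) ⟶ E :=
    Over.homMk (E.left.fromSpecResidueField e) hεE
  refine ⟨A', inferInstance, inferInstance, inferInstance, E.left.residueField e, inferInstance,
    inferInstance, inferInstance, φ, ψ, hcomm, hloc,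
    (yon S).map m' ≫ w ≫ pullback.fst f bot, ?_, ?_⟩
  · have h1 : (Over.homMk (Spec.map (CommRingCat.ofHom (algebraMap A' (E.left.residueField e))))
        rfl : Over.mk (Spec.map (CommRingCat.ofHom (algebraMap A' (E.left.residueField e))) ≫
          Spec.map (CommRingCat.ofHom φ) ≫ str) ⟶
        Over.mk (Spec.map (CommRingCat.ofHom φ) ≫ str)) ≫ m' = ε ≫ prW := by
      ext
      exact hm2
    have h2 : ε ≫ prK = Over.homMk (Spec.map (CommRingCat.ofHom ψ)) (by
        change Spec.map _ ≫ Spec.map _ ≫ _ = Spec.map _ ≫ Spec.map _ ≫ _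
        rw [← Spec.map_comp_assoc, ← Spec.map_comp_assoc, ← CommRingCat.ofHom_comp,
          ← CommRingCat.ofHom_comp, hcomm]) := by
      ext
      exact hψ'.symm
    have key : (yon S).map (Over.homMk (Spec.map (CommRingCat.ofHom
        (algebraMap A' (E.left.residueField e)))) rfl :
        Over.mk (Spec.map (CommRingCat.ofHom (algebraMap A' (E.left.residueField e))) ≫
          Spec.map (CommRingCat.ofHom φ) ≫ str) ⟶
        Over.mk (Spec.map (CommRingCat.ofHom φ) ≫ str)) ≫ (yon S).map m' =
        (yon S).map ε ≫ (yon S).map prW := by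
      rw [← Functor.map_comp, ← Functor.map_comp, h1]
    have hw' : (yon S).map prW ≫ w ≫ pullback.fst f bot = (yon S).map prK ≫ top := by
      rw [← hξ1]
      exact (Category.assoc _ _ _).symm.trans
        ((congrArg (· ≫ pullback.fst f bot) hsqE.w).trans (Category.assoc _ _ _))
    calc _ = ((yon S).map (Over.homMk (Spec.map (CommRingCat.ofHom
          (algebraMap A' (E.left.residueField e)))) rfl :
          Over.mk (Spec.map (CommRingCat.ofHom (algebraMap A' (E.left.residueField e))) ≫
            Spec.map (CommRingCat.ofHom φ) ≫ str) ⟶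
          Over.mk (Spec.map (CommRingCat.ofHom φ) ≫ str)) ≫ (yon S).map m') ≫ w ≫
            pullback.fst f bot := (Category.assoc _ _ _).symm
      _ = ((yon S).map ε ≫ (yon S).map prW) ≫ w ≫ pullback.fst f bot := by rw [key]
      _ = (yon S).map ε ≫ (yon S).map prW ≫ w ≫ pullback.fst f bot := Category.assoc _ _ _
      _ = (yon S).map ε ≫ (yon S).map prK ≫ top := by rw [hw']
      _ = ((yon S).map ε ≫ (yon S).map prK) ≫ top := (Category.assoc _ _ _).symm
      _ = (yon S).map (ε ≫ prK) ≫ top := by rw [Functor.map_comp]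
      _ = _ := by rw [h2]
  · rw [Category.assoc, Category.assoc, pullback.condition, ← Category.assoc w, ← hπW,
      ← Category.assoc, ← Functor.map_comp, hm'π]

end Groth.Agent.Lib.ValCrit5H7
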