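import Groth.Agent.Lib.ValCrit5_helper7

set_option autoImplicit false
universe u
open CategoryTheory CategoryTheory.Limits AlgebraicGeometry Opposite IsLocalRing

namespace Groth.Agent.Lib.ValCrit5H7

open AlgSp Groth.Agent.Lib.AlgSpPoints_helper7 Groth.Agent.Lib.AlgSpQC_helper7
  Groth.Agent.Lib.AlgSpPullback_helper7

variable {S : Scheme.{u}}

/-- A morphism from the spectrum of a field to a scheme is quasi-compact. -/
theorem quasiCompact_fromSpecResidueField (T : Scheme.{u}) (t : ↥T) :
    QuasiCompact (T.fromSpecResidueField t) := by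
  refine ⟨fun U _ _ => ?_⟩
  exact (Set.toFinite _).isCompact

/-- A sheaf representable over a decent sheaf is decent. -/
theorem isDecent_of_representable {Z X : Sp S} (g : Z ⟶ X) (hg : Representable g)
    (hX : IsDecent X) : IsDecent Z := by
  intro z
  obtain ⟨p, hp, hmono, hqc⟩ := hX (Points.map g z)
  obtain ⟨Zk, fk, sk, sqk⟩ : ∃ (Zk : Over S) (fk : (yon S).obj Zk ⟶ Z)
      (sk : Zk ⟶ Over.mk p.str), IsPullback fk ((yon S).map sk) g p.toHom :=
    ⟨_, _, _, hg.isPullback p.toHom⟩
  obtain ⟨z', hz'1, hz'2⟩ := exists_of_isPullback sqk z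
    (Points.ofScheme (Over.mk p.str) (closedPoint p.K))
    (by rw [← Points.ofPt_eq_map_ofScheme, Points.ofPt_toHom, hp])
  obtain ⟨z₀, rfl⟩ := ofScheme_surjective Zk z'
  refine ⟨FieldPt.ofPt fk z₀, ?_, ?_, ?_⟩
  · show Points.ofPt fk z₀ = z
    rw [Points.ofPt_eq_map_ofScheme]
    exact hz'1
  · rw [FieldPt.toHom_ofPt]
    haveI := hmono
    haveI : Mono fk := sqk.mono_fst_of_mono
    haveI h0 : Mono (Zk.left.fromSpecResidueField z₀) := inferInstance
    haveI h1 : Mono (Over.homMk (Zk.left.fromSpecResidueField z₀) rfl :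
        (FieldPt.ofPt fk z₀).pt ⟶ Zk) :=
      (Over.forget S).mono_of_mono_map h0
    haveI : (yon S).PreservesMonomorphisms :=
      preservesMonomorphisms_of_preservesLimitsOfShape _
    haveI h2 : Mono ((yon S).map (Over.homMk (Zk.left.fromSpecResidueField z₀) rfl :
        (FieldPt.ofPt fk z₀).pt ⟶ Zk)) := (yon S).map_mono _
    exact mono_comp _ _
  · rw [FieldPt.toHom_ofPt]
    refine repWith_comp @QuasiCompact ((repWith_yon_map_iff _ _).2 ?_)
      (repWith_fst_of_isPullback _ sqk hqc)
    exact quasiCompact_fromSpecResidueField _ _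

/-- A universally closed decent morphism satisfies the existence part of the valuative
criterion. -/
theorem existVC_of_isDecentMor {X Y : Sp S} (hX : IsAlgSpace X) (hY : IsAlgSpace Y) (f : X ⟶ Y)
    (hd : IsDecentMor f) (hc : IsUnivClosedMor f) : ExistVC f := by
  refine existVC_of_univClosed_of_compact hX hY f hc ?_
  intro A _ str bot W E _ K _ sK w hwe ξ prW prK sqE
  exact compactSpace_of_isPullback_of_decent
    (hd bot (pullback.fst _ _) (pullback.snd _ _) (IsPullback.of_hasPullback _ _)) w hwe.rep ξ
    prW prK sqE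

/-- A universally closed morphism from a decent algebraic space satisfies the existence part of
the valuative criterion. -/
theorem existVC_of_isDecent {X Y : Sp S} (hX : IsAlgSpace X) (hY : IsAlgSpace Y) (f : X ⟶ Y)
    (hd : IsDecent X) (hc : IsUnivClosedMor f) : ExistVC f := by
  refine existVC_of_univClosed_of_compact hX hY f hc ?_
  intro A _ str bot W E _ K _ sK w hwe ξ prW prK sqE
  have hbot : Representable bot := Functor.relativelyRepresentable.of_diag hY.diag _
  have hfst : Representable (pullback.fst f bot) :=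
    (repWith_fst_of_isPullback (⊤ : MorphismProperty Scheme.{u})
      (IsPullback.of_hasPullback f bot) ⟨hbot, fun _ _ _ _ _ _ => trivial⟩).rep
  exact compactSpace_of_isPullback_of_decent (isDecent_of_representable _ hfst hd) w hwe.rep ξ
    prW prK sqE

end Groth.Agent.Lib.ValCrit5H7
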