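import Mathlib
import Groth.Agent.Lib.ValCrit6_helper6

/-!
# Universal closedness can be tested on affine spaces over the base (helper6)
-/

set_option autoImplicit false
set_option backward.isDefEq.respectTransparency false
universe u

open CategoryTheory CategoryTheory.Limits AlgebraicGeometry

namespace Groth.Agent.Lib.ValCrit

/-- The base change of a closed map along an immersion is a closed map. -/
theorem isClosedMap_of_isPullback_of_isImmersion {W' W T' T : Scheme.{u}} {j' : W' ⟶ W}
    {q' : W' ⟶ T'} {q : W ⟶ T} {j : T' ⟶ T} (h : IsPullback j' q' q j) [IsImmersion j]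
    (hq : IsClosedMap q) : IsClosedMap q' := by
  haveI : IsImmersion j' := MorphismProperty.of_isPullback (P := @IsImmersion) h.flip inferInstance
  intro Z' hZ'
  have h1 : q' '' Z' = j ⁻¹' (q '' closure (j' '' Z')) := by
    ext t'
    constructor
    · rintro ⟨z, hz, rfl⟩
      refine ⟨j' z, subset_closure ⟨z, hz, rfl⟩, ?_⟩
      exact congr($(h.w) z)
    · rintro ⟨w, hw, hwt⟩
      obtain ⟨w', hw'1, hw'2⟩ := Scheme.exists_preimage_of_isPullback h w t' hwt
      refine ⟨w', ?_, hw'2⟩
      have h2 : w' ∈ closure Z' := by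
        rw [j'.isEmbedding.isInducing.closure_eq_preimage_closure_image]
        change j' w' ∈ closure (j' '' Z')
        rw [hw'1]; exact hw
      rwa [hZ'.closure_eq] at h2
  rw [h1]
  exact (hq _ isClosed_closure).preimage j.continuous

variable {X S : Scheme.{u}} (f : X ⟶ S)

/-- The comparison square between a base change along `g = j ≫ π` and the one along `π`. -/
theorem isPullback_lift_of_comp {T' T : Scheme.{u}} (j : T' ⟶ T) (π : T ⟶ S) (g : T' ⟶ S)
    (hg : j ≫ π = g) :
    IsPullback (pullback.lift (pullback.snd g f) (pullback.fst g f ≫ j)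
        (by rw [Category.assoc, hg, pullback.condition]) : pullback g f ⟶ pullback f π)
      (pullback.fst g f) (pullback.snd f π) j := by
  refine IsPullback.of_right ?_ (pullback.lift_snd _ _ _) (IsPullback.of_hasPullback f π)
  rw [pullback.lift_fst, hg]
  exact (IsPullback.of_hasPullback g f).flip

/-- If the base changes of `f` to the affine spaces over the base are closed maps, then `f` is
universally closed. -/
theorem universallyClosed_of_affineSpace_closed [QuasiCompact f]
    (H : ∀ n : ℕ, IsClosedMap (pullback.snd f (𝔸(ULift.{u} (Fin n); S) ↘ S))) :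
    UniversallyClosed f := by
  apply universallyClosed_of_finiteType_closed
  intro V hV C _ _ hC
  obtain ⟨n, φ₀, hφ₀⟩ := Algebra.FiniteType.iff_quotient_mvPolynomial''.1 hC
  obtain ⟨φ, hφdef⟩ : ∃ φ : MvPolynomial (ULift.{u} (Fin n)) Γ(S, V) →ₐ[Γ(S, V)] C,
      φ = φ₀.comp (MvPolynomial.renameEquiv Γ(S, V) Equiv.ulift).toAlgHom := ⟨_, rfl⟩
  have hφ : Function.Surjective φ := by
    rw [hφdef]
    exact hφ₀.comp (MvPolynomial.renameEquiv Γ(S, V) Equiv.ulift).surjective
  haveI : IsClosedImmersion (Spec.map (CommRingCat.ofHom φ.toRingHom)) :=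
    IsClosedImmersion.spec_of_surjective _ hφ
  haveI : IsOpenImmersion (AffineSpace.map (ULift.{u} (Fin n)) hV.fromSpec) :=
    MorphismProperty.of_isPullback (P := @IsOpenImmersion)
      (AffineSpace.isPullback_map hV.fromSpec).flip inferInstance
  obtain ⟨j, hjdef⟩ : ∃ j : Spec (CommRingCat.of C) ⟶ 𝔸(ULift.{u} (Fin n); S),
      j = Spec.map (CommRingCat.ofHom φ.toRingHom) ≫
        (AffineSpace.SpecIso (ULift.{u} (Fin n)) Γ(S, V)).inv ≫
        AffineSpace.map (ULift.{u} (Fin n)) hV.fromSpec := ⟨_, rfl⟩
  haveI : IsImmersion j := by rw [hjdef]; infer_instance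
  have hj : j ≫ (𝔸(ULift.{u} (Fin n); S) ↘ S) =
      Spec.map (CommRingCat.ofHom (algebraMap Γ(S, V) C)) ≫ hV.fromSpec := by
    rw [hjdef, Category.assoc, Category.assoc, AffineSpace.map_over,
      AffineSpace.SpecIso_inv_over_assoc, ← Category.assoc, ← Spec.map_comp]
    congr 2
    apply CommRingCat.hom_ext
    ext b
    exact φ.commutes b
  exact isClosedMap_of_isPullback_of_isImmersion
    (isPullback_lift_of_comp f j _ _ hj) (H n)

end Groth.Agent.Lib.ValCrit
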