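import Mathlib
import Groth.Agent.Lib.AlgSpEpi_helper7
import Groth.Agent.Lib.AlgSpBasic_helper7

/-!
# Descent tools for the valuative criterion over discrete valuation rings (helper6)

* `isIso_of_isClosedImmersion_of_factors`: a closed immersion into `Spec D` through which
  `Spec D' ⟶ Spec D` factors, for `D ⟶ D'` injective, is an isomorphism.
* `eq_of_isSeparatedMor`: two sections of a separated morphism of sheaves agreeing on a
  schematically dominant morphism agree.
* `exists_desc_of_fppf`: descent of morphisms of fppf sheaves along an fppf covering.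
-/

set_option autoImplicit false
universe u
open CategoryTheory CategoryTheory.Limits AlgebraicGeometry Opposite

namespace Groth.Agent.Lib.ValCritDescH6

open AlgSp

variable {S : Scheme.{u}}

/-- A closed immersion into `Spec D` through which `Spec ψ` factors, `ψ` injective, is an
isomorphism. -/
theorem isIso_of_isClosedImmersion_of_factors {D D' : CommRingCat.{u}} (ψ : D ⟶ D')
    (hψ : Function.Injective ψ.hom) {E : Scheme.{u}} (e : E ⟶ Spec D) [IsClosedImmersion e]
    (k : Spec D' ⟶ E) (hk : k ≫ e = Spec.map ψ) : IsIso e := by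
  obtain ⟨I, ι, hι⟩ := IsClosedImmersion.Spec_iff.mp (inferInstance : IsClosedImmersion e)
  obtain ⟨θ, hθ⟩ : ∃ θ : CommRingCat.of (D ⧸ I) ⟶ D', Spec.map θ = k ≫ ι.hom :=
    ⟨Spec.preimage _, Spec.map_preimage _⟩
  have h1 : CommRingCat.ofHom (Ideal.Quotient.mk I) ≫ θ = ψ := by
    apply Spec.map_injective
    rw [Spec.map_comp, hθ, Category.assoc, ← hι, hk]
  have hI : I = ⊥ := by
    rw [eq_bot_iff]
    intro x hx
    have h2 : ψ.hom x = θ.hom (Ideal.Quotient.mk I x) := by
      rw [← h1]; rfl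
    have h3 : ψ.hom x = 0 := by
      rw [h2, Ideal.Quotient.eq_zero_iff_mem.mpr hx, map_zero]
    exact (map_eq_zero_iff _ hψ).mp h3
  have hbij : Function.Bijective (Ideal.Quotient.mk I) := by
    refine ⟨?_, Ideal.Quotient.mk_surjective⟩
    rw [RingHom.injective_iff_ker_eq_bot, Ideal.mk_ker, hI]
  have hiso : IsIso (CommRingCat.ofHom (Ideal.Quotient.mk I)) :=
    (ConcreteCategory.isIso_iff_bijective _).mpr hbij
  rw [hι]
  infer_instance

/-- Two morphisms to the source of a separated morphism `q`, with the same composite with `q`,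
which agree after restriction along a schematically dominant morphism `ι`, agree. -/
theorem eq_of_isSeparatedMor {P B : Sp S} (q : P ⟶ B) (hq : IsSeparatedMor q)
    {Z Z' : Over S} (ι : Z' ⟶ Z)
    (hι : ∀ (E : Scheme.{u}) (e : E ⟶ Z.left) [IsClosedImmersion e] (k : Z'.left ⟶ E),
      k ≫ e = ι.left → IsIso e)
    (g₁ g₂ : (yon S).obj Z ⟶ P) (h12 : g₁ ≫ q = g₂ ≫ q)
    (h : (yon S).map ι ≫ g₁ = (yon S).map ι ≫ g₂) : g₁ = g₂ := by
  obtain ⟨m, hm1, hm2⟩ : ∃ m : (yon S).obj Z ⟶ pullback q q,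
      m ≫ pullback.fst _ _ = g₁ ∧ m ≫ pullback.snd _ _ = g₂ :=
    ⟨pullback.lift g₁ g₂ h12, pullback.lift_fst _ _ _, pullback.lift_snd _ _ _⟩
  have sqE := hq.rep.isPullback m
  have hci : IsClosedImmersion (hq.rep.snd m).left := hq.property_snd m
  have hw : ((yon S).map ι ≫ g₁) ≫ pullback.diagonal q = (yon S).map ι ≫ m := by
    apply pullback.hom_ext
    · rw [Category.assoc, pullback.diagonal_fst, Category.comp_id, Category.assoc, hm1]
    · rw [Category.assoc, pullback.diagonal_snd, Category.comp_id, Category.assoc, hm2, h]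
  obtain ⟨k, hk⟩ := (yon S).map_surjective (sqE.lift _ ((yon S).map ι) hw)
  have hkι : k ≫ hq.rep.snd m = ι :=
    (yon S).map_injective (by rw [Functor.map_comp, hk, sqE.lift_snd])
  have hiso : IsIso (hq.rep.snd m).left :=
    hι _ _ k.left (congrArg (fun t => t.left) hkι)
  have hiso2 : IsIso ((Over.forget S).map (hq.rep.snd m)) := hiso
  have hiso' : IsIso (hq.rep.snd m) := isIso_of_reflects_iso _ (Over.forget S)
  have hm : m = inv ((yon S).map (hq.rep.snd m)) ≫ hq.rep.fst m ≫ pullback.diagonal q := by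
    rw [sqE.w, IsIso.inv_hom_id_assoc]
  rw [← hm1, ← hm2, hm]
  simp

/-- The special case of `eq_of_isSeparatedMor` for `Spec` of an injective ring map. -/
theorem eq_of_isSeparatedMor_of_injective {P B : Sp S} (q : P ⟶ B) (hq : IsSeparatedMor q)
    {D D' : Type u} [CommRing D] [CommRing D'] (ψ : D →+* D') (hψ : Function.Injective ψ)
    (str : Spec (CommRingCat.of D) ⟶ S)
    (g₁ g₂ : (yon S).obj (Over.mk str) ⟶ P) (h12 : g₁ ≫ q = g₂ ≫ q)
    (h : (yon S).map (Over.homMk (Spec.map (CommRingCat.ofHom ψ)) rfl :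
        Over.mk (Spec.map (CommRingCat.ofHom ψ) ≫ str) ⟶ Over.mk str) ≫ g₁ =
      (yon S).map (Over.homMk (Spec.map (CommRingCat.ofHom ψ)) rfl :
        Over.mk (Spec.map (CommRingCat.ofHom ψ) ≫ str) ⟶ Over.mk str) ≫ g₂) : g₁ = g₂ := by
  refine eq_of_isSeparatedMor q hq _ ?_ g₁ g₂ h12 h
  intro E e _ k hk
  exact isIso_of_isClosedImmersion_of_factors (CommRingCat.ofHom ψ) hψ e k hk

/-- Descent of morphisms of fppf sheaves along an fppf covering `c : T ⟶ B` of schemes over `S`,
with `R = T ×_B T`. -/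
theorem exists_desc_of_fppf {T B R : Over S} (c : T ⟶ B) (h1 : Surjective c.left)
    (h2 : Flat c.left) (h3 : LocallyOfFinitePresentation c.left) {p₁ p₂ : R ⟶ T}
    (sq : IsPullback p₁ p₂ c c) {P : Sp S} (g : (yon S).obj T ⟶ P)
    (hg : (yon S).map p₁ ≫ g = (yon S).map p₂ ≫ g) :
    ∃ l : (yon S).obj B ⟶ P, (yon S).map c ≫ l = g := by
  haveI : Epi ((yon S).map c) := AlgSpEpi_helper7.epi_yon_map c h1 h2 h3
  haveI : IsRegularEpi ((yon S).map c) := IsRegularEpiCategory.regularEpiOfEpi _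
  haveI : EffectiveEpi ((yon S).map c) := (isRegularEpi_iff_effectiveEpi _).mp inferInstance
  have sq' : IsPullback ((yon S).map p₁) ((yon S).map p₂) ((yon S).map c) ((yon S).map c) :=
    sq.map (yon S)
  have key : ∀ {Z : Sp S} (a₁ a₂ : Z ⟶ (yon S).obj T),
      a₁ ≫ (yon S).map c = a₂ ≫ (yon S).map c → a₁ ≫ g = a₂ ≫ g := by
    intro Z a₁ a₂ ha
    have e1 : sq'.lift a₁ a₂ ha ≫ (yon S).map p₁ = a₁ := sq'.lift_fst _ _ _
    have e2 : sq'.lift a₁ a₂ ha ≫ (yon S).map p₂ = a₂ := sq'.lift_snd _ _ _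
    calc a₁ ≫ g = sq'.lift a₁ a₂ ha ≫ (yon S).map p₁ ≫ g := by rw [← Category.assoc, e1]
      _ = sq'.lift a₁ a₂ ha ≫ (yon S).map p₂ ≫ g := by rw [hg]
      _ = a₂ ≫ g := by rw [← Category.assoc, e2]
  exact ⟨EffectiveEpi.desc ((yon S).map c) g key, EffectiveEpi.fac _ _ key⟩

end Groth.Agent.Lib.ValCritDescH6
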