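import Mathlib
import Groth.Agent.Lib.ValCritDesc_helper6

/-!
# Descending a lift over a discrete valuation ring along a flat finite type chart (helper6)

`exists_section`: let `A` be a discrete valuation ring with fraction field `K`, `q : P ⟶ Spec A` a
separated morphism of fppf sheaves with a section `ξ` over `Spec K`.  Suppose given a finite type
`A`-algebra `B` with a morphism `Spec B ⟶ P` over `Spec A`, a local domain `A'` dominating `A`
inside a field `K'`, and an `A`-algebra map `ρ : B → A'` such that `Spec K' ⟶ Spec A' ⟶ Spec B ⟶ P`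
is `Spec K' ⟶ Spec K ⟶ P`.  Then `ξ` extends to a section of `q` over `Spec A`.
-/

set_option autoImplicit false
universe u
open CategoryTheory CategoryTheory.Limits AlgebraicGeometry Opposite IsLocalRing TensorProduct

namespace Groth.Agent.Lib.ValCritDSH6

open AlgSp Groth.Agent.Lib.ValCritDescH6

variable {S : Scheme.{u}} {A : Type u} [CommRing A] (str : Spec (CommRingCat.of A) ⟶ S)

/-- `Spec D` over `S`, through `Spec A`, for an `A`-algebra `D`. -/
noncomputable abbrev ov (D : Type u) [CommRing D] [Algebra A D] : Over S :=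
  Over.mk (Spec.map (CommRingCat.ofHom (algebraMap A D)) ≫ str)

/-- The structure morphism `Spec D ⟶ Spec A` over `S`. -/
noncomputable abbrev ovStr (D : Type u) [CommRing D] [Algebra A D] : ov str D ⟶ Over.mk str :=
  Over.homMk (Spec.map (CommRingCat.ofHom (algebraMap A D))) rfl


theorem toRingHom_comp_algebraMap {D D' : Type u} [CommRing D] [CommRing D'] [Algebra A D]
    [Algebra A D'] (θ : D →ₐ[A] D') : θ.toRingHom.comp (algebraMap A D) = algebraMap A D' :=
  AlgHom.comp_algebraMap θ

/-- The morphism `Spec D' ⟶ Spec D` over `S` of an `A`-algebra map `D → D'`. -/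
noncomputable def ovMap {D D' : Type u} [CommRing D] [CommRing D'] [Algebra A D] [Algebra A D']
    (θ : D →ₐ[A] D') : ov str D' ⟶ ov str D :=
  Over.homMk (Spec.map (CommRingCat.ofHom θ.toRingHom)) (by
    change Spec.map _ ≫ Spec.map _ ≫ str = Spec.map _ ≫ str
    rw [← Spec.map_comp_assoc, ← CommRingCat.ofHom_comp, toRingHom_comp_algebraMap])

@[simp]
theorem ovMap_left {D D' : Type u} [CommRing D] [CommRing D'] [Algebra A D] [Algebra A D']
    (θ : D →ₐ[A] D') : (ovMap str θ).left = Spec.map (CommRingCat.ofHom θ.toRingHom) := rfl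

theorem ovMap_comp {D D' D'' : Type u} [CommRing D] [CommRing D'] [CommRing D''] [Algebra A D]
    [Algebra A D'] [Algebra A D''] (θ₁ : D →ₐ[A] D') (θ₂ : D' →ₐ[A] D'') :
    ovMap str (θ₂.comp θ₁) = ovMap str θ₂ ≫ ovMap str θ₁ := by
  ext
  show Spec.map (CommRingCat.ofHom (θ₂.comp θ₁).toRingHom) =
    Spec.map (CommRingCat.ofHom θ₂.toRingHom) ≫ Spec.map (CommRingCat.ofHom θ₁.toRingHom)
  rw [← Spec.map_comp, ← CommRingCat.ofHom_comp]
  rfl

theorem ovMap_ovStr {D D' : Type u} [CommRing D] [CommRing D'] [Algebra A D] [Algebra A D']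
    (θ : D →ₐ[A] D') : ovMap str θ ≫ ovStr str D = ovStr str D' := by
  ext
  show Spec.map (CommRingCat.ofHom θ.toRingHom) ≫ Spec.map (CommRingCat.ofHom (algebraMap A D)) =
    Spec.map (CommRingCat.ofHom (algebraMap A D'))
  rw [← Spec.map_comp, ← CommRingCat.ofHom_comp, toRingHom_comp_algebraMap]

set_option maxHeartbeats 1600000 in
theorem exists_section {A : Type u} [CommRing A] [IsDomain A] [IsDiscreteValuationRing A]
    {K : Type u} [Field K] [Algebra A K] [IsFractionRing A K]
    (str : Spec (CommRingCat.of A) ⟶ S) {P : Sp S} (qP : P ⟶ (yon S).obj (Over.mk str))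
    (hsep : IsSeparatedMor qP) (ξ : (yon S).obj (ov str K) ⟶ P)
    (hξ : ξ ≫ qP = (yon S).map (ovStr str K))
    {B : Type u} [CommRing B] [Algebra A B] [Algebra.FiniteType A B]
    (w' : (yon S).obj (ov str B) ⟶ P) (hw' : w' ≫ qP = (yon S).map (ovStr str B))
    {A' : Type u} [CommRing A'] [IsDomain A'] [IsLocalRing A'] [Algebra A A']
    (hinj : Function.Injective (algebraMap A A')) [IsLocalHom (algebraMap A A')]
    {K' : Type u} [Field K'] [Algebra A K'] [Algebra A' K'] [IsScalarTower A A' K']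
    (hinj' : Function.Injective (algebraMap A' K'))
    (ψ : K →ₐ[A] K') (ρ : B →ₐ[A] A')
    (hgen : (yon S).map (ovMap str (IsScalarTower.toAlgHom A A' K')) ≫
        (yon S).map (ovMap str ρ) ≫ w' = (yon S).map (ovMap str ψ) ≫ ξ) :
    ∃ l : (yon S).obj (Over.mk str) ⟶ P,
      l ≫ qP = 𝟙 _ ∧ (yon S).map (ovStr str K) ≫ l = ξ := by
  classical
  -- the image ring
  obtain ⟨C, hCdef⟩ : ∃ C : Subalgebra A A', C = ρ.range := ⟨_, rfl⟩
  obtain ⟨ρ', hρ', hιρ⟩ : ∃ ρ' : B →ₐ[A] C, Function.Surjective ρ' ∧ C.val.comp ρ' = ρ := by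
    subst hCdef
    exact ⟨ρ.rangeRestrict, ρ.rangeRestrict_surjective, by ext b; rfl⟩
  have hιC : Function.Injective C.val := Subtype.val_injective
  obtain ⟨κ, hκdef⟩ : ∃ κ : C →ₐ[A] K', κ = (IsScalarTower.toAlgHom A A' K').comp C.val :=
    ⟨_, rfl⟩
  have hκ : Function.Injective κ := by
    rw [hκdef]
    exact hinj'.comp hιC
  have hκρ : κ.comp ρ' = (IsScalarTower.toAlgHom A A' K').comp ρ := by
    rw [hκdef, AlgHom.comp_assoc, hιρ]
  -- algebraic properties of `C`
  have hAC : Function.Injective (algebraMap A C) := by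
    intro a b hab
    apply hinj
    have := congrArg C.val hab
    simpa using this
  haveI : Module.IsTorsionFree A C := Module.isTorsionFree_iff_algebraMap_injective.mpr hAC
  haveI : Module.Flat A C := inferInstance
  have hAK' : Function.Injective (algebraMap A K') := by
    rw [IsScalarTower.algebraMap_eq A A' K']
    exact hinj'.comp hinj
  haveI : Module.IsTorsionFree A K' := Module.isTorsionFree_iff_algebraMap_injective.mpr hAK'
  haveI : Module.Flat A K' := inferInstance
  haveI : Algebra.FiniteType A C := Algebra.FiniteType.of_surjective ρ' hρ'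
  haveI : Algebra.FinitePresentation A C := Algebra.FinitePresentation.of_finiteType.mp inferInstance
  -- the covering `Spec C ⟶ Spec A`
  obtain ⟨c, hcdef⟩ : ∃ c : ov str C ⟶ Over.mk str, c = ovStr str C := ⟨_, rfl⟩
  have hcleft : c.left = Spec.map (CommRingCat.ofHom (algebraMap A C)) := by rw [hcdef]; rfl
  have hcflat : Flat c.left := by
    rw [hcleft, HasRingHomProperty.Spec_iff (P := @Flat)]
    exact RingHom.flat_algebraMap_iff.mpr inferInstance
  have hcfp : LocallyOfFinitePresentation c.left := by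
    rw [hcleft, HasRingHomProperty.Spec_iff (P := @LocallyOfFinitePresentation)]
    exact RingHom.finitePresentation_algebraMap.mpr inferInstance
  have hcsurj : Surjective c.left := by
    rw [hcleft]
    refine ⟨fun x => ?_⟩
    by_cases hx : x = closedPoint A
    · refine ⟨Spec.map (CommRingCat.ofHom C.val.toRingHom) (closedPoint A'), ?_⟩
      rw [hx, ← Scheme.Hom.comp_apply, ← Spec.map_comp, ← CommRingCat.ofHom_comp,
        toRingHom_comp_algebraMap]
      exact comap_closedPoint (algebraMap A A')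
    · have hx0 : x.asIdeal = ⊥ := by
        by_contra hne
        apply hx
        have hmax : x.asIdeal.IsMaximal := x.isPrime.isMaximal hne
        exact PrimeSpectrum.ext (IsLocalRing.eq_maximalIdeal hmax)
      refine ⟨⟨⊥, Ideal.isPrime_bot⟩, ?_⟩
      apply PrimeSpectrum.ext
      show Ideal.comap (algebraMap A C) ⊥ = x.asIdeal
      rw [hx0, Ideal.comap_bot_of_injective _ hAC]
  -- the fibre product
  obtain ⟨p₁, hp₁⟩ : ∃ p₁ : ov str (C ⊗[A] C) ⟶ ov str C,
      p₁ = ovMap str Algebra.TensorProduct.includeLeft := ⟨_, rfl⟩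
  obtain ⟨p₂, hp₂⟩ : ∃ p₂ : ov str (C ⊗[A] C) ⟶ ov str C,
      p₂ = ovMap str Algebra.TensorProduct.includeRight := ⟨_, rfl⟩
  have hpc : p₁ ≫ c = p₂ ≫ c := by rw [hp₁, hp₂, hcdef, ovMap_ovStr, ovMap_ovStr]
  have sqR : IsPullback p₁ p₂ c c := by
    refine IsPullback.of_map (Over.forget S) hpc ?_
    rw [hp₁, hp₂, hcdef]
    exact isPullback_SpecMap_of_isPushout _ _ _ _ (CommRingCat.isPushout_tensorProduct A C C)
  -- the morphism on the covering
  obtain ⟨g, hgdef⟩ : ∃ g : (yon S).obj (ov str C) ⟶ P, g = (yon S).map (ovMap str ρ') ≫ w' :=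
    ⟨_, rfl⟩
  have hgq : g ≫ qP = (yon S).map c := by
    rw [hgdef, Category.assoc, hw', ← Functor.map_comp, ovMap_ovStr, hcdef]
  have hκg : (yon S).map (ovMap str κ) ≫ g = (yon S).map (ovMap str ψ) ≫ ξ := by
    rw [hgdef, ← Category.assoc, ← Functor.map_comp, ← ovMap_comp, hκρ, ovMap_comp,
      Functor.map_comp, Category.assoc, hgen]
  -- the two pullbacks agree
  obtain ⟨τ, hτdef⟩ : ∃ τ : (C ⊗[A] C) →ₐ[A] (K' ⊗[A] K'), τ = Algebra.TensorProduct.map κ κ :=
    ⟨_, rfl⟩
  have hτ : Function.Injective τ := by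
    have h0 := TensorProduct.map_injective_of_flat_flat (R := A) κ.toLinearMap κ.toLinearMap hκ hκ
    intro x y hxy
    apply h0
    rw [hτdef] at hxy
    exact hxy
  have hincl : (Algebra.TensorProduct.includeLeft : K' →ₐ[A] K' ⊗[A] K').comp ψ =
      (Algebra.TensorProduct.includeRight : K' →ₐ[A] K' ⊗[A] K').comp ψ := by
    haveI : Subsingleton (K →ₐ[A] K' ⊗[A] K') :=
      IsLocalization.algHom_subsingleton (nonZeroDivisors A)
    exact Subsingleton.elim _ _
  have hτ1 : τ.comp Algebra.TensorProduct.includeLeft =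
      (Algebra.TensorProduct.includeLeft : K' →ₐ[A] K' ⊗[A] K').comp κ := by
    rw [hτdef]; ext x; simp
  have hτ2 : τ.comp Algebra.TensorProduct.includeRight =
      (Algebra.TensorProduct.includeRight : K' →ₐ[A] K' ⊗[A] K').comp κ := by
    rw [hτdef]; ext x; simp
  have e1 : ∀ (incl : C →ₐ[A] C ⊗[A] C) (incl' : K' →ₐ[A] K' ⊗[A] K'),
      τ.comp incl = incl'.comp κ →
      (yon S).map (ovMap str τ) ≫ (yon S).map (ovMap str incl) ≫ g =
        (yon S).map (ovMap str (incl'.comp ψ)) ≫ ξ := by
    intro incl incl' hi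
    rw [← Category.assoc, ← Functor.map_comp, ← ovMap_comp, hi, ovMap_comp, Functor.map_comp,
      Category.assoc, hκg, ← Category.assoc, ← Functor.map_comp, ← ovMap_comp]
  have hg : (yon S).map p₁ ≫ g = (yon S).map p₂ ≫ g := by
    refine eq_of_isSeparatedMor qP hsep (ovMap str τ) ?_ _ _ ?_ ?_
    · intro E e _ k hk
      exact isIso_of_isClosedImmersion_of_factors (CommRingCat.ofHom τ.toRingHom) hτ e k hk
    · rw [Category.assoc, Category.assoc, hgq, ← Functor.map_comp, ← Functor.map_comp, hpc]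
    · rw [hp₁, hp₂, e1 _ _ hτ1, e1 _ _ hτ2, hincl]
  obtain ⟨l, hl⟩ := exists_desc_of_fppf c hcsurj hcflat hcfp sqR g hg
  haveI : Epi ((yon S).map c) := AlgSpEpi_helper7.epi_yon_map c hcsurj hcflat hcfp
  have hlq : l ≫ qP = 𝟙 _ := by
    rw [← cancel_epi ((yon S).map c), ← Category.assoc, hl, hgq, Category.comp_id]
  refine ⟨l, hlq, ?_⟩
  refine eq_of_isSeparatedMor qP hsep (ovMap str ψ) ?_ _ _ ?_ ?_
  · intro E e _ k hk
    exact isIso_of_isClosedImmersion_of_factors (CommRingCat.ofHom ψ.toRingHom)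
      ψ.toRingHom.injective e k hk
  · rw [Category.assoc, hlq, Category.comp_id, hξ]
  · calc (yon S).map (ovMap str ψ) ≫ (yon S).map (ovStr str K) ≫ l
        = (yon S).map (ovStr str K') ≫ l := by
          rw [← Category.assoc, ← Functor.map_comp, ovMap_ovStr]
      _ = (yon S).map (ovMap str κ) ≫ (yon S).map c ≫ l := by
          rw [← Category.assoc, ← Functor.map_comp, hcdef, ovMap_ovStr]
      _ = (yon S).map (ovMap str κ) ≫ g := by rw [hl]
      _ = (yon S).map (ovMap str ψ) ≫ ξ := hκg

end Groth.Agent.Lib.ValCritDSH6
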