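import Mathlib
import Groth.Agent.Lib.ValCritDS_helper6
import Groth.Agent.Lib.ValCrit4_helper7
import Groth.Agent.Lib.ValCrit3_helper7
import Groth.Agent.Lib.AlgSpSep_helper7
import Groth.Agent.Lib.AlgSpLocP4_helper7

/-!
# Lifts over discrete valuation rings for proper morphisms of algebraic spaces (helper6)

A separated, universally closed morphism locally of finite type satisfies the existence part of the
valuative criterion over discrete valuation rings *without* extension.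
-/

set_option autoImplicit false
universe u
open CategoryTheory CategoryTheory.Limits AlgebraicGeometry Opposite IsLocalRing

namespace Groth.Agent.Lib.ValCritCLH6

open AlgSp Groth.Agent.Lib.AlgSpVal_helper7 Groth.Agent.Lib.AlgSpPoints_helper7
  Groth.Agent.Lib.AlgSpPullback_helper7 Groth.Agent.Lib.AlgSpLocP4_helper7
  Groth.Agent.Lib.AlgSpLocP_helper7 Groth.Agent.Lib.AlgSpSep_helper7
  Groth.Agent.Lib.ValCritDSH6 Groth.Agent.Lib.ValCrit4H7 Groth.Agent.Lib.ValCrit3H7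

variable {S : Scheme.{u}}

set_option maxHeartbeats 3200000 in
set_option backward.isDefEq.respectTransparency.types false in
theorem exists_lift_of_dvr {X Y : Sp S} (hX : IsAlgSpace X) (hY : IsAlgSpace Y) (f : X ⟶ Y)
    (hsep : IsSeparatedMor f) (hlft : LocP @LocallyOfFiniteType f) (hqs : IsQuasiSeparatedMor f)
    (huc : IsUnivClosedMor f) (A : Type u) [CommRing A] [IsDomain A] [IsDiscreteValuationRing A]
    (K : Type u) [Field K] [Algebra A K] [IsFractionRing A K]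
    (str : Spec (CommRingCat.of A) ⟶ S)
    (top : (yon S).obj (ov str K) ⟶ X) (bot : (yon S).obj (Over.mk str) ⟶ Y)
    (comm : top ≫ f = (yon S).map (ovStr str K) ≫ bot) :
    ∃ l : (yon S).obj (Over.mk str) ⟶ X, (yon S).map (ovStr str K) ≫ l = top ∧ l ≫ f = bot := by
  have hE : ExistVC f := existVC_of_quasiSeparated_univClosed hX hY f hqs huc
  obtain ⟨A₁, _, _, _, K₁, _, _, _, φ₁, ψ₁, hc₁, hl₁, l₁, h1, h2⟩ :=
    (existVC_iff f).1 hE A K str top bot comm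
  haveI : IsLocalHom φ₁ := hl₁
  -- the base change
  have sqP := IsPullback.of_hasPullback f bot
  have hP : IsAlgSpace (pullback f bot) :=
    isAlgSpace_of_isPullback hY.diag hX (IsAlgSpace.yon_obj (Over.mk str)) sqP
  have hsepP : IsSeparatedMor (pullback.snd f bot) := isSeparatedMor_of_isPullback sqP hsep
  have hlftP : LocP @LocallyOfFiniteType (pullback.snd f bot) :=
    locP_baseChange etLocal_locallyOfFiniteType hX hY (IsAlgSpace.yon_obj (Over.mk str)) f bot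
      _ _ sqP hlft
  obtain ⟨ξ, hξ1, hξ2⟩ : ∃ ξ : (yon S).obj (ov str K) ⟶ pullback f bot,
      ξ ≫ pullback.fst f bot = top ∧ ξ ≫ pullback.snd f bot = (yon S).map (ovStr str K) :=
    ⟨pullback.lift top _ comm, pullback.lift_fst _ _ _, pullback.lift_snd _ _ _⟩
  obtain ⟨a₁, ha₁⟩ : ∃ a₁ : Over.mk (Spec.map (CommRingCat.ofHom φ₁) ≫ str) ⟶ Over.mk str,
      a₁ = Over.homMk (Spec.map (CommRingCat.ofHom φ₁)) rfl := ⟨_, rfl⟩
  have h2' : l₁ ≫ f = (yon S).map a₁ ≫ bot := by rw [ha₁]; exact h2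
  obtain ⟨lP, hlP1, hlP2⟩ : ∃ lP : (yon S).obj (Over.mk (Spec.map (CommRingCat.ofHom φ₁) ≫ str)) ⟶
      pullback f bot, lP ≫ pullback.fst f bot = l₁ ∧ lP ≫ pullback.snd f bot = (yon S).map a₁ :=
    ⟨pullback.lift l₁ _ h2', pullback.lift_fst _ _ _, pullback.lift_snd _ _ _⟩
  -- an atlas and the lift to it
  obtain ⟨W, w, hwe, hws⟩ := hP.atlas
  have hwflat : LocP @Flat w :=
    locP_of_repWith @Flat (fun _ _ g hg => by haveI : Etale g := hg; infer_instance) w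
      (repWith_mono (fun _ _ g hg => by haveI : Etale g := hg; exact (inferInstance : Flat g)) hwe)
  have hb : Points.ofPt lP (closedPoint A₁) ∈ Set.range (Points.map w) := by
    obtain ⟨u, hu⟩ := ofPt_surjective w hws (Points.ofPt lP (closedPoint A₁))
    exact ⟨Points.ofScheme W u, by rw [← Points.ofPt_eq_map_ofScheme]; exact hu⟩
  obtain ⟨A₂, _, _, _, φ₂, hφ₂, hφ₂l, l₂, hl₂⟩ :=
    exists_lift_valuationRing_of_flat (IsAlgSpace.yon_obj W) hP w hwflat A₁
      (Spec.map (CommRingCat.ofHom φ₁) ≫ str) lP hb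
  haveI : IsLocalHom φ₂ := hφ₂l
  obtain ⟨a₂, ha₂⟩ : ∃ a₂ : Over.mk (Spec.map (CommRingCat.ofHom φ₂) ≫
      Spec.map (CommRingCat.ofHom φ₁) ≫ str) ⟶ Over.mk (Spec.map (CommRingCat.ofHom φ₁) ≫ str),
      a₂ = Over.homMk (Spec.map (CommRingCat.ofHom φ₂)) rfl := ⟨_, rfl⟩
  have hl₂' : l₂ ≫ w = (yon S).map a₂ ≫ lP := by rw [ha₂]; exact hl₂
  obtain ⟨γ, hγ⟩ := (yon S).map_surjective l₂
  obtain ⟨γ₀, hγ₀⟩ : ∃ γ₀ : Spec (CommRingCat.of A₂) ⟶ W.left, γ₀ = γ.left := ⟨_, rfl⟩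
  -- an affine open around the image of the closed point
  obtain ⟨_, ⟨W₀, hW₀ : IsAffineOpen W₀, rfl⟩, hy₀, -⟩ :=
    W.left.isBasis_affineOpens.exists_subset_of_mem_open
      (Set.mem_univ (γ₀ (closedPoint A₂))) isOpen_univ
  obtain ⟨ρ₀, hρ₀def⟩ : ∃ ρ₀ : Γ(W.left, W₀) ⟶ CommRingCat.of A₂,
      ρ₀ = W.left.presheaf.germ W₀ _ hy₀ ≫ Scheme.stalkClosedPointTo γ₀ := ⟨_, rfl⟩
  have hρ₀ : Spec.map ρ₀ ≫ hW₀.fromSpec = γ.left := by
    have h1 := hW₀.fromSpecStalk_eq_fromSpecStalk hy₀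
    unfold IsAffineOpen.fromSpecStalk at h1
    rw [hρ₀def, Spec.map_comp, Category.assoc, h1, Scheme.Spec_stalkClosedPointTo_fromSpecStalk,
      hγ₀]
  obtain ⟨iW, hiW⟩ : ∃ iW : Over.mk (hW₀.fromSpec ≫ W.hom) ⟶ W,
      iW = Over.homMk hW₀.fromSpec rfl := ⟨_, rfl⟩
  have hiWe : RepWith @Etale ((yon S).map iW) := by
    rw [repWith_yon_map_iff, hiW]
    show Etale hW₀.fromSpec
    infer_instance
  have hw₀e : RepWith @Etale ((yon S).map iW ≫ w) := repWith_comp _ hiWe hwe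
  obtain ⟨πW, hπW⟩ := (yon S).map_surjective (((yon S).map iW ≫ w) ≫ pullback.snd f bot)
  have hπlft : LocallyOfFiniteType πW.left :=
    hlftP _ (𝟙 _) πW hw₀e (repWith_id _ _) (by rw [hπW, Category.comp_id])
  obtain ⟨α, hα⟩ : ∃ α : CommRingCat.of A ⟶ Γ(W.left, W₀), Spec.map α = πW.left :=
    ⟨Spec.preimage (πW.left : Spec Γ(W.left, W₀) ⟶ Spec (CommRingCat.of A)), Spec.map_preimage _⟩
  have hαft : α.hom.FiniteType := by
    rw [← hα] at hπlft
    exact (HasRingHomProperty.Spec_iff (P := @LocallyOfFiniteType)).mp hπlft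
  letI : Algebra A Γ(W.left, W₀) := α.hom.toAlgebra
  haveI : Algebra.FiniteType A Γ(W.left, W₀) := hαft
  have hαalg : CommRingCat.ofHom (algebraMap A Γ(W.left, W₀)) = α := rfl
  have hπstr : πW.left ≫ str = hW₀.fromSpec ≫ W.hom := Over.w πW
  obtain ⟨eB, heB⟩ : ∃ eB : ov str Γ(W.left, W₀) ⟶ Over.mk (hW₀.fromSpec ≫ W.hom),
      eB.left = 𝟙 _ := by
    refine ⟨Over.homMk (𝟙 _) ?_, rfl⟩
    show 𝟙 _ ≫ hW₀.fromSpec ≫ W.hom =
      Spec.map (CommRingCat.ofHom (algebraMap A Γ(W.left, W₀))) ≫ str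
    rw [Category.id_comp, hαalg, hα, hπstr]
  obtain ⟨w', hw'def⟩ : ∃ w' : (yon S).obj (ov str Γ(W.left, W₀)) ⟶ pullback f bot,
      w' = (yon S).map eB ≫ (yon S).map iW ≫ w := ⟨_, rfl⟩
  have heBπ : eB ≫ πW = ovStr str Γ(W.left, W₀) := by
    ext
    show eB.left ≫ πW.left = Spec.map (CommRingCat.ofHom (algebraMap A Γ(W.left, W₀)))
    rw [heB, Category.id_comp, hαalg, hα]
  have hw' : w' ≫ pullback.snd f bot = (yon S).map (ovStr str Γ(W.left, W₀)) := by
    rw [hw'def, Category.assoc, ← hπW, ← Functor.map_comp, heBπ]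
  -- the algebra structures
  letI : Algebra A A₂ := (φ₂.comp φ₁).toAlgebra
  have halg₂ : algebraMap A (FractionRing A₂) =
      (algebraMap A₂ (FractionRing A₂)).comp (φ₂.comp φ₁) :=
    IsScalarTower.algebraMap_eq A A₂ (FractionRing A₂)
  have hφ₁inj : Function.Injective φ₁ := by
    have h : Function.Injective ((algebraMap A₁ K₁).comp φ₁) := by
      rw [hc₁]
      exact ψ₁.injective.comp (IsFractionRing.injective A K)
    rw [RingHom.coe_comp] at h
    exact Function.Injective.of_comp h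
  have hinj : Function.Injective (algebraMap A A₂) := hφ₂.comp hφ₁inj
  haveI : IsLocalHom (algebraMap A A₂) := (inferInstance : IsLocalHom (φ₂.comp φ₁))
  have hinj' : Function.Injective (algebraMap A₂ (FractionRing A₂)) :=
    IsFractionRing.injective _ _
  have hg₁₂ : Function.Injective ((algebraMap A₂ (FractionRing A₂)).comp φ₂) := by
    rw [RingHom.coe_comp]
    exact hinj'.comp hφ₂
  obtain ⟨ψ₁₂, hψ₁₂'⟩ : ∃ ψ₁₂ : K₁ →+* FractionRing A₂,
      ∀ x, ψ₁₂ (algebraMap A₁ K₁ x) = ((algebraMap A₂ (FractionRing A₂)).comp φ₂) x :=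
    ⟨IsFractionRing.lift hg₁₂, fun x => IsFractionRing.lift_algebraMap hg₁₂ x⟩
  have hψ₁₂ : ψ₁₂.comp (algebraMap A₁ K₁) = (algebraMap A₂ (FractionRing A₂)).comp φ₂ :=
    RingHom.ext hψ₁₂'
  obtain ⟨ψ, hψ⟩ : ∃ ψ : K →ₐ[A] FractionRing A₂, ψ.toRingHom = ψ₁₂.comp ψ₁ := by
    refine ⟨{ toRingHom := ψ₁₂.comp ψ₁, commutes' := fun a => ?_ }, rfl⟩
    show ψ₁₂ (ψ₁ (algebraMap A K a)) = algebraMap A (FractionRing A₂) a
    rw [halg₂]
    show ψ₁₂ (ψ₁ (algebraMap A K a)) = algebraMap A₂ (FractionRing A₂) (φ₂ (φ₁ a))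
    have e1 : ψ₁ (algebraMap A K a) = algebraMap A₁ K₁ (φ₁ a) :=
      (congrArg (fun h => h a) hc₁).symm
    have e2 : ψ₁₂ (algebraMap A₁ K₁ (φ₁ a)) = algebraMap A₂ (FractionRing A₂) (φ₂ (φ₁ a)) :=
      congrArg (fun h => h (φ₁ a)) hψ₁₂
    rw [e1, e2]
  -- the chart map is an `A`-algebra map
  obtain ⟨γ', hγ'⟩ : ∃ γ' : Over.mk (Spec.map (CommRingCat.ofHom φ₂) ≫
      Spec.map (CommRingCat.ofHom φ₁) ≫ str) ⟶ Over.mk (hW₀.fromSpec ≫ W.hom),
      γ'.left = Spec.map ρ₀ := by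
    refine ⟨Over.homMk (Spec.map ρ₀) ?_, rfl⟩
    show Spec.map ρ₀ ≫ hW₀.fromSpec ≫ W.hom = _
    rw [← Category.assoc, hρ₀]
    exact Over.w γ
  have hγ'i : γ' ≫ iW = γ := by
    ext
    rw [Over.comp_left, hγ', hiW]
    exact hρ₀
  have hγπ : γ' ≫ πW = a₂ ≫ a₁ := by
    apply (yon S).map_injective
    calc (yon S).map (γ' ≫ πW)
        = (yon S).map γ' ≫ ((yon S).map iW ≫ w) ≫ pullback.snd f bot := by
          rw [Functor.map_comp, hπW]
      _ = (yon S).map (γ' ≫ iW) ≫ w ≫ pullback.snd f bot := by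
          rw [Functor.map_comp]; simp only [Category.assoc]
      _ = ((yon S).map a₂ ≫ lP) ≫ pullback.snd f bot := by
          rw [hγ'i, hγ, ← hl₂', Category.assoc]
      _ = (yon S).map (a₂ ≫ a₁) := by
          rw [Category.assoc, hlP2, ← Functor.map_comp]
  have hαρ : α ≫ ρ₀ = CommRingCat.ofHom (φ₂.comp φ₁) := by
    apply Spec.map_injective
    have e1 := congrArg (fun t => t.left) hγπ
    simp only [Over.comp_left] at e1
    rw [hγ', ← hα, ha₂, ha₁] at e1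
    rw [Spec.map_comp, e1, CommRingCat.ofHom_comp, Spec.map_comp]
    rfl
  obtain ⟨ρ, hρ⟩ : ∃ ρ : Γ(W.left, W₀) →ₐ[A] A₂, ρ.toRingHom = ρ₀.hom := by
    refine ⟨{ toRingHom := ρ₀.hom, commutes' := fun a => ?_ }, rfl⟩
    show ρ₀.hom (α.hom a) = φ₂ (φ₁ a)
    have := congrArg (fun t => t.hom a) hαρ
    exact this
  -- comparison morphisms
  obtain ⟨e₂, he₂⟩ : ∃ e₂ : ov str A₂ ⟶ Over.mk (Spec.map (CommRingCat.ofHom φ₂) ≫
      Spec.map (CommRingCat.ofHom φ₁) ≫ str), e₂.left = 𝟙 _ := by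
    refine ⟨Over.homMk (𝟙 _) ?_, rfl⟩
    show 𝟙 _ ≫ Spec.map (CommRingCat.ofHom φ₂) ≫ Spec.map (CommRingCat.ofHom φ₁) ≫ str =
      Spec.map (CommRingCat.ofHom (φ₂.comp φ₁)) ≫ str
    rw [Category.id_comp, CommRingCat.ofHom_comp, Spec.map_comp, Category.assoc]
  have he₂γ : ovMap str ρ ≫ eB ≫ iW = e₂ ≫ γ := by
    ext
    simp only [Over.comp_left, ovMap_left]
    rw [heB, he₂, Category.id_comp, Category.id_comp, hρ, hiW]
    exact hρ₀
  obtain ⟨k₁, hk₁⟩ : ∃ k₁ : Over.mk (Spec.map (CommRingCat.ofHom (algebraMap A₁ K₁)) ≫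
      Spec.map (CommRingCat.ofHom φ₁) ≫ str) ⟶ Over.mk (Spec.map (CommRingCat.ofHom φ₁) ≫ str),
      k₁ = Over.homMk (Spec.map (CommRingCat.ofHom (algebraMap A₁ K₁))) rfl := ⟨_, rfl⟩
  obtain ⟨kψ₁, hkψ₁, h1'⟩ : ∃ kψ₁ : Over.mk (Spec.map (CommRingCat.ofHom (algebraMap A₁ K₁)) ≫
      Spec.map (CommRingCat.ofHom φ₁) ≫ str) ⟶ ov str K,
      kψ₁.left = Spec.map (CommRingCat.ofHom ψ₁) ∧
      (yon S).map k₁ ≫ l₁ = (yon S).map kψ₁ ≫ top := by
    rw [hk₁]
    exact ⟨_, rfl, h1⟩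
  obtain ⟨d, hd⟩ : ∃ d : ov str (FractionRing A₂) ⟶
      Over.mk (Spec.map (CommRingCat.ofHom (algebraMap A₁ K₁)) ≫
        Spec.map (CommRingCat.ofHom φ₁) ≫ str), d.left = Spec.map (CommRingCat.ofHom ψ₁₂) := by
    refine ⟨Over.homMk (Spec.map (CommRingCat.ofHom ψ₁₂)) ?_, rfl⟩
    show Spec.map (CommRingCat.ofHom ψ₁₂) ≫ Spec.map (CommRingCat.ofHom (algebraMap A₁ K₁)) ≫
      Spec.map (CommRingCat.ofHom φ₁) ≫ str =
      Spec.map (CommRingCat.ofHom (algebraMap A (FractionRing A₂))) ≫ str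
    rw [halg₂, ← Spec.map_comp_assoc, ← CommRingCat.ofHom_comp, hψ₁₂, ← Spec.map_comp_assoc,
      ← CommRingCat.ofHom_comp]
  have hd1 : ovMap str (IsScalarTower.toAlgHom A A₂ (FractionRing A₂)) ≫ e₂ ≫ a₂ = d ≫ k₁ := by
    ext
    simp only [Over.comp_left, ovMap_left]
    rw [he₂, Category.id_comp, ha₂, hd, hk₁]
    show Spec.map (CommRingCat.ofHom (algebraMap A₂ (FractionRing A₂))) ≫
      Spec.map (CommRingCat.ofHom φ₂) = Spec.map (CommRingCat.ofHom ψ₁₂) ≫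
      Spec.map (CommRingCat.ofHom (algebraMap A₁ K₁))
    rw [← Spec.map_comp, ← Spec.map_comp, ← CommRingCat.ofHom_comp, ← CommRingCat.ofHom_comp,
      hψ₁₂]
  have hd2 : d ≫ kψ₁ = ovMap str ψ := by
    ext
    simp only [Over.comp_left, ovMap_left]
    rw [hd, hkψ₁, hψ, ← Spec.map_comp, ← CommRingCat.ofHom_comp]
  -- the generic compatibility
  have hgen : (yon S).map (ovMap str (IsScalarTower.toAlgHom A A₂ (FractionRing A₂))) ≫
      (yon S).map (ovMap str ρ) ≫ w' = (yon S).map (ovMap str ψ) ≫ ξ := by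
    apply pullback.hom_ext
    · calc ((yon S).map (ovMap str (IsScalarTower.toAlgHom A A₂ (FractionRing A₂))) ≫
            (yon S).map (ovMap str ρ) ≫ w') ≫ pullback.fst f bot
          = (yon S).map (ovMap str (IsScalarTower.toAlgHom A A₂ (FractionRing A₂))) ≫
              (yon S).map (ovMap str ρ ≫ eB ≫ iW) ≫ w ≫ pullback.fst f bot := by
            rw [hw'def]
            simp only [Functor.map_comp, Category.assoc]
        _ = (yon S).map (ovMap str (IsScalarTower.toAlgHom A A₂ (FractionRing A₂)) ≫ e₂) ≫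
              (l₂ ≫ w) ≫ pullback.fst f bot := by
            rw [he₂γ, ← hγ]
            simp only [Functor.map_comp, Category.assoc]
        _ = (yon S).map (ovMap str (IsScalarTower.toAlgHom A A₂ (FractionRing A₂)) ≫ e₂ ≫ a₂) ≫
              l₁ := by
            rw [hl₂', ← hlP1]
            simp only [Functor.map_comp, Category.assoc]
        _ = (yon S).map d ≫ (yon S).map k₁ ≫ l₁ := by
            rw [hd1, Functor.map_comp, Category.assoc]
        _ = (yon S).map (d ≫ kψ₁) ≫ top := by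
            rw [h1', Functor.map_comp, Category.assoc]
        _ = ((yon S).map (ovMap str ψ) ≫ ξ) ≫ pullback.fst f bot := by
            rw [hd2, Category.assoc, hξ1]
    · rw [Category.assoc, Category.assoc, hw', Category.assoc, hξ2, ← Functor.map_comp,
        ← Functor.map_comp, ← Functor.map_comp, ovMap_ovStr, ovMap_ovStr, ovMap_ovStr]
  obtain ⟨l, hl1, hl2⟩ := exists_section str (pullback.snd f bot) hsepP ξ hξ2 w' hw' hinj hinj'
    ψ ρ hgen
  refine ⟨l ≫ pullback.fst f bot, ?_, ?_⟩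
  · rw [← Category.assoc, hl2, hξ1]
  · rw [Category.assoc, pullback.condition, ← Category.assoc, hl1, Category.id_comp]

end Groth.Agent.Lib.ValCritCLH6
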