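import Mathlib
import Groth.Agent.Lib.ValCritDVRClosed_helper6

/-!
# Points in the closure of the image are reached by discrete valuation rings (helper6)
-/

set_option autoImplicit false
universe u
open CategoryTheory CategoryTheory.Limits AlgebraicGeometry Opposite IsLocalRing

namespace Groth.Agent.Lib.ValCritDVRImageH6

open AlgSp Groth.Agent.Lib.AlgSpVal_helper7 Groth.Agent.Lib.AlgSpPoints_helper7
  Groth.Agent.Lib.AlgSpTop_helper7 Groth.Agent.Lib.AlgSpQC_helper7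
  Groth.Agent.Lib.AlgSpPullback_helper7 Groth.Agent.Lib.AlgSpLocP4_helper7
  Groth.Agent.Lib.ValCrit Groth.Agent.Lib.ValCritDVRClosedH6

variable {S : Scheme.{u}}

set_option maxHeartbeats 800000 in
/-- A point in the closure of the image of a morphism locally of finite type of affine schemes
with locally Noetherian target is the image of the closed point of a discrete valuation ring whose
generic point lifts. -/
theorem exists_dvr_of_mem_closure_range {R B : CommRingCat.{u}} [IsLocallyNoetherian (Spec B)]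
    (φ : Spec R ⟶ Spec B) [LocallyOfFiniteType φ] (v₀ : ↥(Spec B))
    (hv : v₀ ∈ closure (Set.range φ)) :
    ∃ (A : Type u) (_ : CommRing A) (_ : IsDomain A) (_ : IsDiscreteValuationRing A)
      (gA : Spec (CommRingCat.of A) ⟶ Spec B)
      (gK : Spec (CommRingCat.of (FractionRing A)) ⟶ Spec R),
      gK ≫ φ = Spec.map (CommRingCat.ofHom (algebraMap A (FractionRing A))) ≫ gA ∧
      gA (closedPoint A) = v₀ := by
  obtain ⟨θ, hθ⟩ : ∃ θ : B ⟶ R, φ = Spec.map θ := ⟨Spec.preimage φ, (Spec.map_preimage φ).symm⟩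
  obtain ⟨p₀, hp₀⟩ : ∃ p₀ : PrimeSpectrum B, p₀ = v₀ := ⟨v₀, rfl⟩
  have hv' : p₀ ∈ closure (Set.range (PrimeSpectrum.comap θ.hom)) := by
    rw [hp₀]
    have : Set.range (PrimeSpectrum.comap θ.hom) = Set.range φ := by
      rw [hθ]; rfl
    rw [this]
    exact hv
  rw [PrimeSpectrum.closure_range_comap] at hv'
  haveI := p₀.isPrime
  have hle : (⊥ : Ideal R).comap θ.hom ≤ p₀.asIdeal := by
    rw [← RingHom.ker_eq_comap_bot]
    exact (PrimeSpectrum.mem_zeroLocus _ _).1 hv'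
  obtain ⟨Q, -, hQ, hQle⟩ := Ideal.exists_ideal_comap_le_prime p₀.asIdeal ⊥ hle
  obtain ⟨u, hu⟩ : ∃ u : ↥(Spec R), u = (⟨Q, hQ⟩ : PrimeSpectrum R) := ⟨_, rfl⟩
  have hsp : φ u ⤳ v₀ := by
    have h1 : PrimeSpectrum.comap θ.hom ⟨Q, hQ⟩ ⤳ p₀ :=
      (PrimeSpectrum.le_iff_specializes _ _).1 hQle
    rw [hu, ← hp₀, hθ]
    exact h1
  by_cases hne : v₀ = φ u
  · -- the trivial case: a power series ring
    let k := (Spec R).residueField u
    refine ⟨PowerSeries k, inferInstance, inferInstance, inferInstance,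
      Spec.map (CommRingCat.ofHom (PowerSeries.C : k →+* PowerSeries k)) ≫
        (Spec R).fromSpecResidueField u ≫ φ,
      Spec.map (CommRingCat.ofHom (algebraMap (PowerSeries k) (FractionRing (PowerSeries k)))) ≫
        Spec.map (CommRingCat.ofHom (PowerSeries.C : k →+* PowerSeries k)) ≫
        (Spec R).fromSpecResidueField u, ?_, ?_⟩
    · simp only [Category.assoc]
    · rw [Scheme.Hom.comp_apply, Scheme.Hom.comp_apply, Scheme.fromSpecResidueField_apply, hne]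
  · obtain ⟨A₀, h, hA, hcl, hw⟩ := exists_dvr_of_specializes φ u v₀ hsp hne
    let e : FractionRing A₀ ≃ₐ[A₀] (Spec R).residueField u :=
      FractionRing.algEquiv A₀ ((Spec R).residueField u)
    refine ⟨A₀, inferInstance, inferInstance, hA, h,
      Spec.map (CommRingCat.ofHom (e.symm : (Spec R).residueField u →+* FractionRing A₀)) ≫
        (Spec R).fromSpecResidueField u, ?_, hcl⟩
    rw [Category.assoc, ← hw, ← Spec.map_comp_assoc, ← CommRingCat.ofHom_comp]
    congr 3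
    ext x
    show e.symm (algebraMap A₀ ((Spec R).residueField u) x) = algebraMap A₀ (FractionRing A₀) x
    exact e.symm.commutes x

set_option maxHeartbeats 1600000 in
set_option backward.isDefEq.respectTransparency.types false in
theorem exists_dvr_diagram {X Y : Sp S} (hX : IsAlgSpace X) (hY : IsAlgSpace Y) (f : X ⟶ Y)
    (hft : IsFiniteTypeMor f) (hYn : IsLocNoethSp Y) (y : Points Y)
    (hy : y ∈ closure (Set.range (Points.map f))) :
    ∃ (A : Type u) (_ : CommRing A) (_ : IsDomain A) (_ : IsDiscreteValuationRing A)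
      (a : Spec (CommRingCat.of A) ⟶ S)
      (α : (yon S).obj (Over.mk a) ⟶ Y)
      (κ : (yon S).obj (Over.mk (Spec.map (CommRingCat.ofHom
        (algebraMap A (FractionRing A))) ≫ a)) ⟶ X),
      κ ≫ f = (yon S).map (Over.homMk (Spec.map (CommRingCat.ofHom
        (algebraMap A (FractionRing A)))) rfl : Over.mk (Spec.map (CommRingCat.ofHom
        (algebraMap A (FractionRing A))) ≫ a) ⟶ Over.mk a) ≫ α ∧
      Points.map α (Points.schemeEquiv (Over.mk a) (closedPoint A)) = y := by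
  obtain ⟨hlft, hqc⟩ := hft
  obtain ⟨V, p, hpe, hps, hV⟩ := hYn
  haveI : IsLocallyNoetherian V.left := hV
  obtain ⟨v, hv⟩ := ofPt_surjective p hps y
  obtain ⟨_, ⟨V₀, hV₀ : IsAffineOpen V₀, rfl⟩, hvV, -⟩ :=
    V.left.isBasis_affineOpens.exists_subset_of_mem_open (Set.mem_univ v) isOpen_univ
  obtain ⟨iV, hiV⟩ : ∃ iV : Over.mk (hV₀.fromSpec ≫ V.hom) ⟶ V,
      iV = Over.homMk hV₀.fromSpec rfl := ⟨_, rfl⟩
  have hiVe : RepWith @Etale ((yon S).map iV) := by
    rw [repWith_yon_map_iff, hiV]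
    show Etale hV₀.fromSpec
    infer_instance
  obtain ⟨p₀, hp₀def⟩ : ∃ p₀ : (yon S).obj (Over.mk (hV₀.fromSpec ≫ V.hom)) ⟶ Y,
      p₀ = (yon S).map iV ≫ p := ⟨_, rfl⟩
  have hp₀e : RepWith @Etale p₀ := by rw [hp₀def]; exact repWith_comp _ hiVe hpe
  obtain ⟨v₀, hv₀⟩ : ∃ v₀ : ↥(Spec Γ(V.left, V₀)), hV₀.fromSpec v₀ = v := by
    have : v ∈ Set.range hV₀.fromSpec := by rw [hV₀.range_fromSpec]; exact hvV
    exact this
  have hyv₀ : Points.ofPt p₀ v₀ = y := by
    rw [hp₀def, ofPt_comp, hiV]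
    show Points.ofPt p (hV₀.fromSpec v₀) = y
    rw [hv₀, hv]
  haveI : IsLocallyNoetherian (Spec Γ(V.left, V₀)) :=
    isLocallyNoetherian_of_isOpenImmersion hV₀.fromSpec
  -- the base change
  have sqP := IsPullback.of_hasPullback f p₀
  have hP : IsAlgSpace (pullback f p₀) :=
    isAlgSpace_of_isPullback hY.diag hX (IsAlgSpace.yon_obj _) sqP
  haveI : CompactSpace ↥(Over.mk (hV₀.fromSpec ≫ V.hom)).left :=
    (inferInstance : CompactSpace ↥(Spec Γ(V.left, V₀)))
  have hPqc : IsQuasiCompactSp (pullback f p₀) :=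
    hqc (IsAlgSpace.yon_obj _) (isQuasiCompactSp_yon _) p₀ _ _ sqP
  have hlftP : LocP @LocallyOfFiniteType (pullback.snd f p₀) :=
    locP_baseChange etLocal_locallyOfFiniteType hX hY (IsAlgSpace.yon_obj _) f p₀ _ _ sqP hlft
  obtain ⟨U, a, hae, has, hU⟩ := hPqc
  haveI : CompactSpace ↥U.left := hU
  obtain ⟨R, g, hg, hge⟩ := exists_affine_etale_surjective U.left
  obtain ⟨γ, hγ⟩ : ∃ γ : Over.mk (g ≫ U.hom) ⟶ U, γ = Over.homMk g rfl := ⟨_, rfl⟩
  obtain ⟨b, hbdef⟩ : ∃ b : (yon S).obj (Over.mk (g ≫ U.hom)) ⟶ pullback f p₀,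
      b = (yon S).map γ ≫ a := ⟨_, rfl⟩
  have hbe : RepWith @Etale b := by
    rw [hbdef]
    refine repWith_comp _ ((repWith_yon_map_iff _ _).2 ?_) hae
    rw [hγ]; exact hge
  have hb : Function.Surjective (Points.ofPt b) := by
    intro x
    obtain ⟨u, rfl⟩ := ofPt_surjective a has x
    obtain ⟨r, rfl⟩ := hg u
    refine ⟨r, ?_⟩
    rw [hbdef, ofPt_comp, hγ]
    rfl
  obtain ⟨φ₀, hφ₀⟩ := (yon S).map_surjective (b ≫ pullback.snd f p₀)
  haveI : LocallyOfFiniteType φ₀.left :=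
    hlftP b (𝟙 _) φ₀ hbe (repWith_id _ _) (by rw [hφ₀, Category.comp_id])
  obtain ⟨φ, hφ⟩ : ∃ φ : Spec R ⟶ Spec Γ(V.left, V₀), φ = φ₀.left := ⟨_, rfl⟩
  haveI : LocallyOfFiniteType φ := by rw [hφ]; infer_instance
  have hcl : v₀ ∈ closure (Set.range φ) := by
    have ho : IsOpenMap (Points.ofPt p₀) := isOpenMap_ofPt_of_etale p₀ hp₀e
    have h1 : v₀ ∈ Points.ofPt p₀ ⁻¹' closure (Set.range (Points.map f)) := by
      show Points.ofPt p₀ v₀ ∈ closure (Set.range (Points.map f))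
      rw [hyv₀]; exact hy
    rw [ho.preimage_closure_eq_closure_preimage (Points.continuous_ofPt p₀)] at h1
    refine closure_mono ?_ h1
    rintro v' ⟨x, hx⟩
    obtain ⟨z, hz1, hz2⟩ := exists_of_isPullback sqP x
      (Points.ofScheme (Over.mk (hV₀.fromSpec ≫ V.hom)) v')
      (by rw [hx, ← Points.ofPt_eq_map_ofScheme])
    obtain ⟨r, rfl⟩ := hb z
    refine ⟨r, ?_⟩
    apply (Points.schemeEquiv (Over.mk (hV₀.fromSpec ≫ V.hom))).injective
    show Points.ofScheme (Over.mk (hV₀.fromSpec ≫ V.hom)) (φ r) =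
      Points.ofScheme (Over.mk (hV₀.fromSpec ≫ V.hom)) v'
    rw [← hz2, Points.map_ofPt, ← hφ₀, ofPt_yon_map, hφ]
  obtain ⟨A, iA1, iA2, iA3, gA, gK, hcomm, hclosed⟩ := exists_dvr_of_mem_closure_range φ v₀ hcl
  obtain ⟨gA', hgA'⟩ : ∃ gA' : Over.mk (gA ≫ hV₀.fromSpec ≫ V.hom) ⟶
      Over.mk (hV₀.fromSpec ≫ V.hom), gA'.left = gA := ⟨Over.homMk gA rfl, rfl⟩
  have hφstr : φ ≫ hV₀.fromSpec ≫ V.hom = g ≫ U.hom := by rw [hφ]; exact Over.w φ₀
  obtain ⟨gK', hgK'⟩ : ∃ gK' : Over.mk (Spec.map (CommRingCat.ofHom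
      (algebraMap A (FractionRing A))) ≫ gA ≫ hV₀.fromSpec ≫ V.hom) ⟶ Over.mk (g ≫ U.hom),
      gK'.left = gK := by
    refine ⟨Over.homMk gK ?_, rfl⟩
    show gK ≫ g ≫ U.hom = Spec.map (CommRingCat.ofHom
      (algebraMap A (FractionRing A))) ≫ gA ≫ hV₀.fromSpec ≫ V.hom
    rw [← hφstr, ← Category.assoc, hcomm, Category.assoc]
  refine ⟨A, iA1, iA2, iA3, gA ≫ hV₀.fromSpec ≫ V.hom, (yon S).map gA' ≫ p₀,
    (yon S).map gK' ≫ b ≫ pullback.fst f p₀, ?_, ?_⟩
  · have e1 : gK' ≫ φ₀ = (Over.homMk (Spec.map (CommRingCat.ofHom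
        (algebraMap A (FractionRing A)))) rfl : Over.mk (Spec.map (CommRingCat.ofHom
        (algebraMap A (FractionRing A))) ≫ gA ≫ hV₀.fromSpec ≫ V.hom) ⟶
        Over.mk (gA ≫ hV₀.fromSpec ≫ V.hom)) ≫ gA' := by
      ext
      simp only [Over.comp_left, Over.homMk_left]
      rw [hgK', hgA', ← hφ]
      exact hcomm
    calc ((yon S).map gK' ≫ b ≫ pullback.fst f p₀) ≫ f
        = (yon S).map gK' ≫ (b ≫ pullback.snd f p₀) ≫ p₀ := by
          simp only [Category.assoc, pullback.condition]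
      _ = (yon S).map (gK' ≫ φ₀) ≫ p₀ := by rw [← hφ₀, Functor.map_comp, Category.assoc]
      _ = _ := by rw [e1, Functor.map_comp, Category.assoc]
  · show Points.map ((yon S).map gA' ≫ p₀) (Points.ofScheme
      (Over.mk (gA ≫ hV₀.fromSpec ≫ V.hom)) (closedPoint A)) = y
    rw [← Points.ofPt_eq_map_ofScheme, ofPt_comp, hgA', hclosed, hyv₀]

end Groth.Agent.Lib.ValCritDVRImageH6
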