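import Mathlib
import Groth.Agent.Lib.ValCritDS_helper6
import Groth.Agent.Lib.ValCrit4_helper7
import Groth.Agent.Lib.ValCrit3_helper7
import Groth.Agent.Lib.AlgSpSep_helper7
import Groth.Agent.Lib.AlgSpLocP4_helper7
import Groth.Agent.Lib.EtaleField_helper4

/-!
# Lifts after finite separable extensions in the valuative criterion (helper6)

* `exists_chart_point`: from the existence part of the valuative criterion, a point `e` of the étale
  `K`-scheme `E = W ×_P Spec K` (for an étale chart `W` of the base change `P` of the source to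
  `Spec A`) whose image in `W` specializes to a point over the closed point of `Spec A`.
* `exists_lift_of_chart`: a valuation subring of `κ(e)` centred on such a point gives a lift.
-/

set_option autoImplicit false
universe u
open CategoryTheory CategoryTheory.Limits AlgebraicGeometry Opposite IsLocalRing

namespace Groth.Agent.Lib.ValCritFSH6

open AlgSp Groth.Agent.Lib.AlgSpVal_helper7 Groth.Agent.Lib.AlgSpPoints_helper7
  Groth.Agent.Lib.AlgSpPullback_helper7 Groth.Agent.Lib.AlgSpLocP4_helper7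
  Groth.Agent.Lib.AlgSpLocP_helper7 Groth.Agent.Lib.AlgSpSep_helper7
  Groth.Agent.Lib.ValCritDSH6 Groth.Agent.Lib.ValCrit3H7 Groth.Agent.Lib.EtaleFieldH4

variable {S : Scheme.{u}}

set_option maxHeartbeats 3200000 in
set_option backward.isDefEq.respectTransparency.types false in
theorem exists_chart_point {X Y : Sp S} (hX : IsAlgSpace X) (hY : IsAlgSpace Y) (f : X ⟶ Y)
    (hE : ExistVC f) (A : Type u) [CommRing A] [IsDomain A] [ValuationRing A]
    (K : Type u) [Field K] [Algebra A K] [IsFractionRing A K]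
    (str : Spec (CommRingCat.of A) ⟶ S)
    (top : (yon S).obj (ov str K) ⟶ X) (bot : (yon S).obj (Over.mk str) ⟶ Y)
    (comm : top ≫ f = (yon S).map (ovStr str K) ≫ bot)
    (ξ : (yon S).obj (ov str K) ⟶ pullback f bot) (hξ1 : ξ ≫ pullback.fst f bot = top)
    (hξ2 : ξ ≫ pullback.snd f bot = (yon S).map (ovStr str K)) :
    ∃ (W E : Over S) (w : (yon S).obj W ⟶ pullback f bot) (prW : E ⟶ W) (prK : E ⟶ ov str K)
      (πW : W ⟶ Over.mk str) (e : ↥E.left) (w₁ : ↥W.left),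
      RepWith @Etale w ∧ IsPullback ((yon S).map prW) ((yon S).map prK) w ξ ∧ Etale prK.left ∧
      (yon S).map πW = w ≫ pullback.snd f bot ∧ prW.left e ⤳ w₁ ∧
      πW.left w₁ = closedPoint A := by
  obtain ⟨A₁, _, _, _, K₁, _, _, _, φ₁, ψ₁, hc₁, hl₁, l₁, h1, h2⟩ :=
    (existVC_iff f).1 hE A K str top bot comm
  haveI : IsLocalHom φ₁ := hl₁
  have sqP := IsPullback.of_hasPullback f bot
  have hP : IsAlgSpace (pullback f bot) :=
    isAlgSpace_of_isPullback hY.diag hX (IsAlgSpace.yon_obj (Over.mk str)) sqP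
  obtain ⟨a₁, ha₁⟩ : ∃ a₁ : Over.mk (Spec.map (CommRingCat.ofHom φ₁) ≫ str) ⟶ Over.mk str,
      a₁ = Over.homMk (Spec.map (CommRingCat.ofHom φ₁)) rfl := ⟨_, rfl⟩
  have h2' : l₁ ≫ f = (yon S).map a₁ ≫ bot := by rw [ha₁]; exact h2
  obtain ⟨lP, hlP1, hlP2⟩ : ∃ lP : (yon S).obj (Over.mk (Spec.map (CommRingCat.ofHom φ₁) ≫ str)) ⟶
      pullback f bot, lP ≫ pullback.fst f bot = l₁ ∧ lP ≫ pullback.snd f bot = (yon S).map a₁ :=
    ⟨pullback.lift l₁ _ h2', pullback.lift_fst _ _ _, pullback.lift_snd _ _ _⟩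
  obtain ⟨W, w, hwe, hws⟩ := hP.atlas
  have hwflat : LocP @Flat w :=
    locP_of_repWith @Flat (fun _ _ g hg => by haveI : Etale g := hg; infer_instance) w
      (repWith_mono (fun _ _ g hg => by haveI : Etale g := hg; exact (inferInstance : Flat g)) hwe)
  have hb : Points.ofPt lP (closedPoint A₁) ∈ Set.range (Points.map w) := by
    obtain ⟨u, hu⟩ := ofPt_surjective w hws (Points.ofPt lP (closedPoint A₁))
    exact ⟨Points.ofScheme W u, by rw [← Points.ofPt_eq_map_ofScheme]; exact hu⟩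
  obtain ⟨A₂, _, _, _, φ₂, hφ₂, hφ₂l, l₂, hl₂⟩ :=
    exists_lift_valuationRing_of_flat (IsAlgSpace.yon_obj W) hP w hwflat A₁
      (Spec.map (CommRingCat.ofHom φ₁) ≫ str) lP hb
  haveI : IsLocalHom φ₂ := hφ₂l
  obtain ⟨a₂, ha₂⟩ : ∃ a₂ : Over.mk (Spec.map (CommRingCat.ofHom φ₂) ≫
      Spec.map (CommRingCat.ofHom φ₁) ≫ str) ⟶ Over.mk (Spec.map (CommRingCat.ofHom φ₁) ≫ str),
      a₂ = Over.homMk (Spec.map (CommRingCat.ofHom φ₂)) rfl := ⟨_, rfl⟩
  have hl₂' : l₂ ≫ w = (yon S).map a₂ ≫ lP := by rw [ha₂]; exact hl₂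
  obtain ⟨γ, hγ⟩ := (yon S).map_surjective l₂
  obtain ⟨πW, hπW⟩ := (yon S).map_surjective (w ≫ pullback.snd f bot)
  -- the fibre product `E`
  have sqE := hwe.rep.isPullback' ξ
  have hprKe : Etale (hwe.rep.snd ξ).left := hwe.property_snd ξ
  obtain ⟨E, prW, prK, hsqE, hprK⟩ : ∃ (E : Over S) (prW : E ⟶ W) (prK : E ⟶ ov str K),
      IsPullback ((yon S).map prW) ((yon S).map prK) w ξ ∧ Etale prK.left :=
    ⟨_, _, _, sqE, hprKe⟩
  clear sqE
  -- the fraction field of `A₂`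
  have hinj' : Function.Injective (algebraMap A₂ (FractionRing A₂)) :=
    IsFractionRing.injective _ _
  have hg₁₂ : Function.Injective ((algebraMap A₂ (FractionRing A₂)).comp φ₂) := by
    rw [RingHom.coe_comp]
    exact hinj'.comp hφ₂
  obtain ⟨ψ₁₂, hψ₁₂'⟩ : ∃ ψ₁₂ : K₁ →+* FractionRing A₂,
      ∀ x, ψ₁₂ (algebraMap A₁ K₁ x) = ((algebraMap A₂ (FractionRing A₂)).comp φ₂) x :=
    ⟨IsFractionRing.lift hg₁₂, fun x => IsFractionRing.lift_algebraMap hg₁₂ x⟩
  have hψ₁₂ : ψ₁₂.comp (algebraMap A₁ K₁) = (algebraMap A₂ (FractionRing A₂)).comp φ₂ :=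
    RingHom.ext hψ₁₂'
  obtain ⟨j₂, hj₂⟩ : ∃ j₂ : Over.mk (Spec.map (CommRingCat.ofHom
      (algebraMap A₂ (FractionRing A₂))) ≫ Spec.map (CommRingCat.ofHom φ₂) ≫
      Spec.map (CommRingCat.ofHom φ₁) ≫ str) ⟶ Over.mk (Spec.map (CommRingCat.ofHom φ₂) ≫
      Spec.map (CommRingCat.ofHom φ₁) ≫ str),
      j₂ = Over.homMk (Spec.map (CommRingCat.ofHom (algebraMap A₂ (FractionRing A₂)))) rfl :=
    ⟨_, rfl⟩
  obtain ⟨k₁, hk₁⟩ : ∃ k₁ : Over.mk (Spec.map (CommRingCat.ofHom (algebraMap A₁ K₁)) ≫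
      Spec.map (CommRingCat.ofHom φ₁) ≫ str) ⟶ Over.mk (Spec.map (CommRingCat.ofHom φ₁) ≫ str),
      k₁ = Over.homMk (Spec.map (CommRingCat.ofHom (algebraMap A₁ K₁))) rfl := ⟨_, rfl⟩
  obtain ⟨kψ₁, hkψ₁, h1'⟩ : ∃ kψ₁ : Over.mk (Spec.map (CommRingCat.ofHom (algebraMap A₁ K₁)) ≫
      Spec.map (CommRingCat.ofHom φ₁) ≫ str) ⟶ ov str K,
      kψ₁.left = Spec.map (CommRingCat.ofHom ψ₁) ∧
      (yon S).map k₁ ≫ l₁ = (yon S).map kψ₁ ≫ top := by
    rw [hk₁]
    exact ⟨_, rfl, h1⟩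
  obtain ⟨d, hd⟩ : ∃ d : Over.mk (Spec.map (CommRingCat.ofHom
      (algebraMap A₂ (FractionRing A₂))) ≫ Spec.map (CommRingCat.ofHom φ₂) ≫
      Spec.map (CommRingCat.ofHom φ₁) ≫ str) ⟶
      Over.mk (Spec.map (CommRingCat.ofHom (algebraMap A₁ K₁)) ≫
        Spec.map (CommRingCat.ofHom φ₁) ≫ str), d.left = Spec.map (CommRingCat.ofHom ψ₁₂) := by
    refine ⟨Over.homMk (Spec.map (CommRingCat.ofHom ψ₁₂)) ?_, rfl⟩
    show Spec.map (CommRingCat.ofHom ψ₁₂) ≫ Spec.map (CommRingCat.ofHom (algebraMap A₁ K₁)) ≫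
      Spec.map (CommRingCat.ofHom φ₁) ≫ str =
      Spec.map (CommRingCat.ofHom (algebraMap A₂ (FractionRing A₂))) ≫
        Spec.map (CommRingCat.ofHom φ₂) ≫ Spec.map (CommRingCat.ofHom φ₁) ≫ str
    rw [← Spec.map_comp_assoc, ← CommRingCat.ofHom_comp, hψ₁₂, CommRingCat.ofHom_comp,
      Spec.map_comp, Category.assoc]
  have hd1 : j₂ ≫ a₂ = d ≫ k₁ := by
    ext
    simp only [Over.comp_left]
    rw [hj₂, ha₂, hd, hk₁]
    show Spec.map (CommRingCat.ofHom (algebraMap A₂ (FractionRing A₂))) ≫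
      Spec.map (CommRingCat.ofHom φ₂) = Spec.map (CommRingCat.ofHom ψ₁₂) ≫
      Spec.map (CommRingCat.ofHom (algebraMap A₁ K₁))
    rw [← Spec.map_comp, ← Spec.map_comp, ← CommRingCat.ofHom_comp, ← CommRingCat.ofHom_comp,
      hψ₁₂]
  -- the generic compatibility
  have hgen : ((yon S).map j₂ ≫ l₂) ≫ w = (yon S).map (d ≫ kψ₁) ≫ ξ := by
    apply pullback.hom_ext
    · calc (((yon S).map j₂ ≫ l₂) ≫ w) ≫ pullback.fst f bot
          = (yon S).map j₂ ≫ (l₂ ≫ w) ≫ pullback.fst f bot := by simp only [Category.assoc]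
        _ = (yon S).map (j₂ ≫ a₂) ≫ l₁ := by
            rw [hl₂', ← hlP1]
            simp only [Functor.map_comp, Category.assoc]
        _ = (yon S).map d ≫ (yon S).map k₁ ≫ l₁ := by
            rw [hd1, Functor.map_comp, Category.assoc]
        _ = (yon S).map (d ≫ kψ₁) ≫ top := by
            rw [h1', Functor.map_comp, Category.assoc]
        _ = ((yon S).map (d ≫ kψ₁) ≫ ξ) ≫ pullback.fst f bot := by
            rw [Category.assoc, hξ1]
    · calc (((yon S).map j₂ ≫ l₂) ≫ w) ≫ pullback.snd f bot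
          = (yon S).map j₂ ≫ (l₂ ≫ w) ≫ pullback.snd f bot := by simp only [Category.assoc]
        _ = (yon S).map ((j₂ ≫ a₂) ≫ a₁) := by
            rw [hl₂']
            simp only [Functor.map_comp, Category.assoc, hlP2]
        _ = (yon S).map ((d ≫ kψ₁) ≫ ovStr str K) := by
            congr 1
            rw [hd1]
            ext
            simp only [Over.comp_left]
            rw [hd, hk₁, ha₁, hkψ₁]
            show Spec.map (CommRingCat.ofHom ψ₁₂) ≫ Spec.map (CommRingCat.ofHom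
              (algebraMap A₁ K₁)) ≫ Spec.map (CommRingCat.ofHom φ₁) =
              (Spec.map (CommRingCat.ofHom ψ₁₂) ≫ Spec.map (CommRingCat.ofHom ψ₁)) ≫
                Spec.map (CommRingCat.ofHom (algebraMap A K))
            rw [Category.assoc, ← Spec.map_comp (CommRingCat.ofHom φ₁),
              ← Spec.map_comp (CommRingCat.ofHom (algebraMap A K)), ← CommRingCat.ofHom_comp,
              ← CommRingCat.ofHom_comp, hc₁]
        _ = ((yon S).map (d ≫ kψ₁) ≫ ξ) ≫ pullback.snd f bot := by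
            simp only [Functor.map_comp, Category.assoc, hξ2]
  obtain ⟨ε, hε⟩ := (yon S).map_surjective (hsqE.lift ((yon S).map j₂ ≫ l₂)
    ((yon S).map (d ≫ kψ₁)) hgen)
  have hε1 : ε ≫ prW = j₂ ≫ γ := by
    apply (yon S).map_injective
    rw [Functor.map_comp, hε, hsqE.lift_fst, Functor.map_comp, hγ]
  -- the points
  obtain ⟨γ₀, hγ₀⟩ : ∃ γ₀ : Spec (CommRingCat.of A₂) ⟶ W.left, γ₀ = γ.left := ⟨_, rfl⟩
  obtain ⟨ε₀, hε₀⟩ : ∃ ε₀ : Spec (CommRingCat.of (FractionRing A₂)) ⟶ E.left, ε₀ = ε.left :=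
    ⟨_, rfl⟩
  have hε1' : ε₀ ≫ prW.left =
      Spec.map (CommRingCat.ofHom (algebraMap A₂ (FractionRing A₂))) ≫ γ₀ := by
    have := congrArg (fun t => t.left) hε1
    simp only [Over.comp_left] at this
    rw [hε₀, hγ₀, this, hj₂]
    rfl
  have hγπ : γ ≫ πW = a₂ ≫ a₁ := by
    apply (yon S).map_injective
    calc (yon S).map (γ ≫ πW) = (l₂ ≫ w) ≫ pullback.snd f bot := by
          rw [Functor.map_comp, hπW, hγ, Category.assoc]
      _ = (yon S).map (a₂ ≫ a₁) := by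
          rw [hl₂', Category.assoc, hlP2, ← Functor.map_comp]
  refine ⟨W, E, w, prW, prK, πW, ε₀ (closedPoint (FractionRing A₂)), γ₀ (closedPoint A₂), hwe,
    hsqE, hprK, hπW, ?_, ?_⟩
  · rw [← Scheme.Hom.comp_apply, hε1', Scheme.Hom.comp_apply]
    have hs : (Spec.map (CommRingCat.ofHom (algebraMap A₂ (FractionRing A₂))))
        (closedPoint (FractionRing A₂)) ⤳ (closedPoint A₂ : ↥(Spec (CommRingCat.of A₂))) :=
      specializes_closedPoint (R := A₂) _
    exact hs.map γ₀.continuous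
  · have e1 := congrArg (fun t => t.left) hγπ
    simp only [Over.comp_left] at e1
    rw [hγ₀, ← Scheme.Hom.comp_apply, e1, ha₂, ha₁]
    show (Spec.map (CommRingCat.ofHom φ₂) ≫ Spec.map (CommRingCat.ofHom φ₁)) (closedPoint A₂) =
      closedPoint A
    rw [Scheme.Hom.comp_apply]
    have e2 : Spec.map (CommRingCat.ofHom φ₂) (closedPoint A₂) = closedPoint A₁ :=
      comap_closedPoint φ₂
    have e3 : Spec.map (CommRingCat.ofHom φ₁) (closedPoint A₁) = closedPoint A :=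
      comap_closedPoint φ₁
    rw [e2, e3]

end Groth.Agent.Lib.ValCritFSH6
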