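import Mathlib
import Groth.Agent.Lib.ValCritFS_helper6

/-!
# Lifts from a valuation subring of the residue field of a point of the étale fibre (helper6)
-/

set_option autoImplicit false
universe u
open CategoryTheory CategoryTheory.Limits AlgebraicGeometry Opposite IsLocalRing

namespace Groth.Agent.Lib.ValCritFSH6

open AlgSp Groth.Agent.Lib.AlgSpVal_helper7 Groth.Agent.Lib.AlgSpPoints_helper7
  Groth.Agent.Lib.AlgSpPullback_helper7 Groth.Agent.Lib.ValCritDSH6 Groth.Agent.Lib.EtaleFieldH4

variable {S : Scheme.{u}}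

set_option maxHeartbeats 3200000 in
set_option backward.isDefEq.respectTransparency.types false in
theorem exists_lift_of_chart {X Y : Sp S} (f : X ⟶ Y)
    (A : Type u) [CommRing A] [IsDomain A] [ValuationRing A]
    (K : Type u) [Field K] [Algebra A K] [IsFractionRing A K]
    (str : Spec (CommRingCat.of A) ⟶ S)
    (top : (yon S).obj (ov str K) ⟶ X) (bot : (yon S).obj (Over.mk str) ⟶ Y)
    (ξ : (yon S).obj (ov str K) ⟶ pullback f bot) (hξ1 : ξ ≫ pullback.fst f bot = top)
    (hξ2 : ξ ≫ pullback.snd f bot = (yon S).map (ovStr str K))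
    {W E : Over S} (w : (yon S).obj W ⟶ pullback f bot) (prW : E ⟶ W) (prK : E ⟶ ov str K)
    (πW : W ⟶ Over.mk str)
    (hsqE : IsPullback ((yon S).map prW) ((yon S).map prK) w ξ)
    (hπW : (yon S).map πW = w ≫ pullback.snd f bot)
    (e : ↥E.left) (R : ValuationSubring (E.left.residueField e))
    (m : Spec (CommRingCat.of R) ⟶ W.left)
    (hm1 : πW.left (m (closedPoint R)) = closedPoint A)
    (hm2 : Spec.map (CommRingCat.ofHom (algebraMap R (E.left.residueField e))) ≫ m =
      E.left.fromSpecResidueField e ≫ prW.left) :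
    ∃ (φ : A →+* R)
      (hc : (algebraMap R (E.left.residueField e)).comp φ =
        (resMap K prK.left e).hom.comp (algebraMap A K)) (_ : IsLocalHom φ)
      (l : (yon S).obj (Over.mk (Spec.map (CommRingCat.ofHom φ) ≫ str)) ⟶ X),
      (yon S).map (Over.homMk (Spec.map (CommRingCat.ofHom
          (algebraMap R (E.left.residueField e)))) rfl :
          Over.mk (Spec.map (CommRingCat.ofHom (algebraMap R (E.left.residueField e))) ≫
            Spec.map (CommRingCat.ofHom φ) ≫ str) ⟶
          Over.mk (Spec.map (CommRingCat.ofHom φ) ≫ str)) ≫ l =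
        (yon S).map (Over.homMk (Spec.map (CommRingCat.ofHom (resMap K prK.left e).hom)) (by
            change Spec.map _ ≫ Spec.map _ ≫ _ = Spec.map _ ≫ Spec.map _ ≫ _
            rw [← Spec.map_comp_assoc, ← Spec.map_comp_assoc, ← CommRingCat.ofHom_comp,
              ← CommRingCat.ofHom_comp, hc]) :
          Over.mk (Spec.map (CommRingCat.ofHom (algebraMap R (E.left.residueField e))) ≫
            Spec.map (CommRingCat.ofHom φ) ≫ str) ⟶ ov str K) ≫ top ∧
      l ≫ f = (yon S).map (Over.homMk (Spec.map (CommRingCat.ofHom φ)) rfl :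
          Over.mk (Spec.map (CommRingCat.ofHom φ) ≫ str) ⟶ Over.mk str) ≫ bot := by
  obtain ⟨jK, hjK⟩ : ∃ jK : ov str K ⟶ Over.mk str, jK = ovStr str K := ⟨_, rfl⟩
  have hjKl : jK.left = Spec.map (CommRingCat.ofHom (algebraMap A K)) := by rw [hjK]; rfl
  have hξ2' : ξ ≫ pullback.snd f bot = (yon S).map jK := by rw [hjK]; exact hξ2
  have hWK : prW ≫ πW = prK ≫ jK := by
    apply (yon S).map_injective
    calc (yon S).map (prW ≫ πW) = ((yon S).map prW ≫ w) ≫ pullback.snd f bot := by
          rw [Functor.map_comp, hπW, Category.assoc]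
      _ = (yon S).map (prK ≫ jK) := by
          rw [hsqE.w, Category.assoc, hξ2', ← Functor.map_comp]
  obtain ⟨φ', hφ'⟩ : ∃ φ' : CommRingCat.of A ⟶ CommRingCat.of R, Spec.map φ' = m ≫ πW.left :=
    ⟨Spec.preimage _, Spec.map_preimage _⟩
  obtain ⟨φ, rfl⟩ : ∃ φ : A →+* R, φ' = CommRingCat.ofHom φ := ⟨φ'.hom, rfl⟩
  obtain ⟨ψ', hψ'def⟩ : ∃ ψ' : CommRingCat.of K ⟶ E.left.residueField e,
      ψ' = resMap K prK.left e := ⟨_, rfl⟩
  have hψ' : Spec.map ψ' = E.left.fromSpecResidueField e ≫ prK.left := by
    rw [hψ'def]; exact spec_resMap K prK.left e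
  have hloc : IsLocalHom φ := by
    rw [isLocalHom_iff_comap_closedPoint]
    show (Spec.map (CommRingCat.ofHom φ)) (closedPoint R) = closedPoint A
    rw [hφ', Scheme.Hom.comp_apply, hm1]
  have hcomm : (algebraMap R (E.left.residueField e)).comp φ = ψ'.hom.comp (algebraMap A K) := by
    have e1 : Spec.map (CommRingCat.ofHom ((algebraMap R (E.left.residueField e)).comp φ)) =
        Spec.map (CommRingCat.ofHom (algebraMap R (E.left.residueField e))) ≫
          Spec.map (CommRingCat.ofHom φ) :=
      Spec.map_comp (CommRingCat.ofHom φ)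
        (CommRingCat.ofHom (algebraMap R (E.left.residueField e)))
    have e2 : Spec.map (CommRingCat.ofHom (ψ'.hom.comp (algebraMap A K))) =
        Spec.map ψ' ≫ Spec.map (CommRingCat.ofHom (algebraMap A K)) :=
      Spec.map_comp (CommRingCat.ofHom (algebraMap A K)) ψ'
    have h1 : Spec.map (CommRingCat.ofHom ((algebraMap R (E.left.residueField e)).comp φ)) =
        Spec.map (CommRingCat.ofHom (ψ'.hom.comp (algebraMap A K))) := by
      rw [e1, e2, hφ', hψ']
      calc Spec.map (CommRingCat.ofHom (algebraMap R (E.left.residueField e))) ≫ m ≫ πW.left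
          = (Spec.map (CommRingCat.ofHom (algebraMap R (E.left.residueField e))) ≫ m) ≫
              πW.left := (Category.assoc _ _ _).symm
        _ = (E.left.fromSpecResidueField e ≫ prW.left) ≫ πW.left := by rw [hm2]
        _ = E.left.fromSpecResidueField e ≫ (prW ≫ πW).left := Category.assoc _ _ _
        _ = E.left.fromSpecResidueField e ≫ (prK ≫ jK).left := by rw [hWK]
        _ = (E.left.fromSpecResidueField e ≫ prK.left) ≫ jK.left := (Category.assoc _ _ _).symm
        _ = _ := by rw [hjKl]
    have h2 := Spec.map_injective h1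
    exact congrArg (fun k => k.hom) h2
  have hmW : m ≫ W.hom = Spec.map (CommRingCat.ofHom φ) ≫ str := by
    have e' : W.hom = πW.left ≫ str := (Over.w πW).symm
    rw [hφ', e']
    simp only [Category.assoc]
  let m' : Over.mk (Spec.map (CommRingCat.ofHom φ) ≫ str) ⟶ W := Over.homMk m hmW
  have hm'π : m' ≫ πW = (Over.homMk (Spec.map (CommRingCat.ofHom φ)) rfl :
      Over.mk (Spec.map (CommRingCat.ofHom φ) ≫ str) ⟶ Over.mk str) := by
    ext
    exact hφ'.symm
  have hεE : E.left.fromSpecResidueField e ≫ E.hom =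
      Spec.map (CommRingCat.ofHom (algebraMap R (E.left.residueField e))) ≫
        Spec.map (CommRingCat.ofHom φ) ≫ str := by
    calc E.left.fromSpecResidueField e ≫ E.hom
        = E.left.fromSpecResidueField e ≫ prW.left ≫ W.hom := by rw [Over.w prW]
      _ = (E.left.fromSpecResidueField e ≫ prW.left) ≫ W.hom := (Category.assoc _ _ _).symm
      _ = (Spec.map (CommRingCat.ofHom (algebraMap R (E.left.residueField e))) ≫ m) ≫ W.hom := by
          rw [hm2]
      _ = Spec.map (CommRingCat.ofHom (algebraMap R (E.left.residueField e))) ≫ m ≫ W.hom :=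
          Category.assoc _ _ _
      _ = _ := by rw [hmW]
  let ε : Over.mk (Spec.map (CommRingCat.ofHom (algebraMap R (E.left.residueField e))) ≫
      Spec.map (CommRingCat.ofHom φ) ≫ str) ⟶ E :=
    Over.homMk (E.left.fromSpecResidueField e) hεE
  subst hψ'def
  refine ⟨φ, hcomm, hloc, (yon S).map m' ≫ w ≫ pullback.fst f bot, ?_, ?_⟩
  · have h1 : (Over.homMk (Spec.map (CommRingCat.ofHom (algebraMap R (E.left.residueField e))))
        rfl : Over.mk (Spec.map (CommRingCat.ofHom (algebraMap R (E.left.residueField e))) ≫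
          Spec.map (CommRingCat.ofHom φ) ≫ str) ⟶
        Over.mk (Spec.map (CommRingCat.ofHom φ) ≫ str)) ≫ m' = ε ≫ prW := by
      ext
      exact hm2
    have h2 : ε ≫ prK = Over.homMk (Spec.map (CommRingCat.ofHom (resMap K prK.left e).hom)) (by
        change Spec.map _ ≫ Spec.map _ ≫ _ = Spec.map _ ≫ Spec.map _ ≫ _
        rw [← Spec.map_comp_assoc, ← Spec.map_comp_assoc, ← CommRingCat.ofHom_comp,
          ← CommRingCat.ofHom_comp, hcomm]) := by
      ext
      exact hψ'.symm
    have key : (yon S).map (Over.homMk (Spec.map (CommRingCat.ofHom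
        (algebraMap R (E.left.residueField e)))) rfl :
        Over.mk (Spec.map (CommRingCat.ofHom (algebraMap R (E.left.residueField e))) ≫
          Spec.map (CommRingCat.ofHom φ) ≫ str) ⟶
        Over.mk (Spec.map (CommRingCat.ofHom φ) ≫ str)) ≫ (yon S).map m' =
        (yon S).map ε ≫ (yon S).map prW := by
      rw [← Functor.map_comp, ← Functor.map_comp, h1]
    have hw' : (yon S).map prW ≫ w ≫ pullback.fst f bot = (yon S).map prK ≫ top := by
      rw [← hξ1]
      exact (Category.assoc _ _ _).symm.trans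
        ((congrArg (· ≫ pullback.fst f bot) hsqE.w).trans (Category.assoc _ _ _))
    calc _ = ((yon S).map (Over.homMk (Spec.map (CommRingCat.ofHom
          (algebraMap R (E.left.residueField e)))) rfl :
          Over.mk (Spec.map (CommRingCat.ofHom (algebraMap R (E.left.residueField e))) ≫
            Spec.map (CommRingCat.ofHom φ) ≫ str) ⟶
          Over.mk (Spec.map (CommRingCat.ofHom φ) ≫ str)) ≫ (yon S).map m') ≫ w ≫
            pullback.fst f bot := (Category.assoc _ _ _).symm
      _ = ((yon S).map ε ≫ (yon S).map prW) ≫ w ≫ pullback.fst f bot := by rw [key]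
      _ = (yon S).map ε ≫ (yon S).map prW ≫ w ≫ pullback.fst f bot := Category.assoc _ _ _
      _ = (yon S).map ε ≫ (yon S).map prK ≫ top := by rw [hw']
      _ = ((yon S).map ε ≫ (yon S).map prK) ≫ top := (Category.assoc _ _ _).symm
      _ = (yon S).map (ε ≫ prK) ≫ top := by rw [Functor.map_comp]
      _ = _ := by rw [h2]
  · rw [Category.assoc, Category.assoc, pullback.condition, ← Category.assoc w, ← hπW,
      ← Category.assoc, ← Functor.map_comp, hm'π]

end Groth.Agent.Lib.ValCritFSH6
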