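import Mathlib
import Groth.Agent.Lib.ValCritFS2_helper6
import Groth.Agent.Lib.ValCrit6_helper7
import Groth.Agent.Lib.ValCrit2_helper6

/-!
# Finite separable extensions suffice in the valuative criterion (helper6)
-/

set_option autoImplicit false
universe u
open CategoryTheory CategoryTheory.Limits AlgebraicGeometry Opposite IsLocalRing

namespace Groth.Agent.Lib.ValCritFSH6

open AlgSp Groth.Agent.Lib.AlgSpVal_helper7 Groth.Agent.Lib.AlgSpPoints_helper7
  Groth.Agent.Lib.AlgSpPullback_helper7 Groth.Agent.Lib.AlgSpLocP4_helper7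
  Groth.Agent.Lib.ValCritDSH6 Groth.Agent.Lib.EtaleFieldH4
  Groth.Agent.Lib.ValCrit

variable {S : Scheme.{u}}

/-- The fraction field of a discrete valuation ring is a finitely generated algebra. -/
theorem finiteType_algebraMap_of_dvr (A K : Type u) [CommRing A] [IsDomain A]
    [IsDiscreteValuationRing A] [Field K] [Algebra A K] [IsFractionRing A K] :
    (algebraMap A K).FiniteType := by
  obtain ⟨ϖ, hϖ⟩ := IsDiscreteValuationRing.exists_irreducible A
  rw [RingHom.finiteType_algebraMap]
  refine ⟨⟨{(algebraMap A K ϖ)⁻¹}, ?_⟩⟩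
  rw [eq_top_iff]
  rintro x -
  obtain ⟨a, b, hb, rfl⟩ := IsFractionRing.div_surjective (A := A) x
  obtain ⟨n, u, rfl⟩ :=
    IsDiscreteValuationRing.eq_unit_mul_pow_irreducible (nonZeroDivisors.ne_zero hb) hϖ
  have hϖ0 : algebraMap A K ϖ ≠ 0 := by
    rw [Ne, map_eq_zero_iff _ (IsFractionRing.injective A K)]
    exact hϖ.ne_zero
  have hu0 : algebraMap A K (u : A) ≠ 0 := by
    rw [Ne, map_eq_zero_iff _ (IsFractionRing.injective A K)]
    exact u.ne_zero
  have hx : algebraMap A K a / algebraMap A K (↑u * ϖ ^ n) =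
      algebraMap A K (a * ↑u⁻¹) * ((algebraMap A K ϖ)⁻¹) ^ n := by
    have hu1 : algebraMap A K (↑u⁻¹ : A) = (algebraMap A K (u : A))⁻¹ := by
      apply eq_inv_of_mul_eq_one_left
      rw [← map_mul, Units.inv_mul, map_one]
    rw [map_mul, map_mul, map_pow, hu1, inv_pow]
    field_simp
  rw [hx]
  refine Subalgebra.mul_mem _ (Subalgebra.algebraMap_mem _ _) (Subalgebra.pow_mem _ ?_ n)
  exact Algebra.subset_adjoin (by simp)

set_option maxHeartbeats 3200000 in
set_option backward.isDefEq.respectTransparency.types false in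
/-- In the existence part of the valuative criterion one may restrict to finite separable
extensions of the fraction field. -/
theorem exists_domExt_finite_separable {X Y : Sp S} (hX : IsAlgSpace X) (hY : IsAlgSpace Y)
    (f : X ⟶ Y) (hE : ExistVC f) (sq : ValSq f) :
    ∃ e : sq.DomExt, (letI := e.ψ.toAlgebra; Module.Finite sq.K e.K' ∧
      Algebra.IsSeparable sq.K e.K') ∧ e.HasLift := by
  obtain ⟨ξ, hξ1, hξ2⟩ : ∃ ξ : (yon S).obj (ov sq.str sq.K) ⟶ pullback f sq.bot,
      ξ ≫ pullback.fst f sq.bot = sq.top ∧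
      ξ ≫ pullback.snd f sq.bot = (yon S).map (ovStr sq.str sq.K) :=
    ⟨pullback.lift sq.top _ sq.comm, pullback.lift_fst _ _ _, pullback.lift_snd _ _ _⟩
  obtain ⟨W, E, w, prW, prK, πW, e, w₁, hwe, hsqE, hprK, hπW, he, hπw⟩ :=
    exists_chart_point hX hY f hE sq.A sq.K sq.str sq.top sq.bot sq.comm ξ hξ1 hξ2
  haveI : Etale prK.left := hprK
  let sr : W.left.presheaf.stalk w₁ ⟶ E.left.residueField e :=
    W.left.presheaf.stalkSpecializes he ≫ W.left.residue (prW.left e) ≫
      prW.left.residueFieldMap e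
  obtain ⟨R, hR, hR_local⟩ := exists_factor_valuationRing sr.hom
  let sA : W.left.presheaf.stalk w₁ ⟶ .of R := CommRingCat.ofHom (sr.hom.codRestrict _ hR)
  let m : Spec (.of R) ⟶ W.left := Spec.map sA ≫ W.left.fromSpecStalk w₁
  have hm1 : m (closedPoint R) = w₁ := by
    show (Spec.map sA ≫ W.left.fromSpecStalk w₁) (closedPoint R) = w₁
    rw [Scheme.Hom.comp_apply]
    have e2 : Spec.map sA (closedPoint R) = closedPoint (W.left.presheaf.stalk w₁) :=
      comap_closedPoint (S := R) (sr.hom.codRestrict R.toSubring hR)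
    rw [e2, W.left.fromSpecStalk_closedPoint]
  have hm2 : Spec.map (CommRingCat.ofHom (algebraMap R (E.left.residueField e))) ≫ m =
      E.left.fromSpecResidueField e ≫ prW.left := by
    rw [← Scheme.Hom.SpecMap_residueFieldMap_fromSpecResidueField, Scheme.fromSpecResidueField,
      ← Scheme.SpecMap_stalkSpecializes_fromSpecStalk he]
    simp_rw [m, ← Spec.map_comp_assoc]
    rfl
  obtain ⟨φ, hc, hloc, l, h1, h2⟩ := exists_lift_of_chart f sq.A sq.K sq.str sq.top sq.bot ξ
    hξ1 hξ2 w prW prK πW hsqE hπW e R m (by rw [hm1]; exact hπw) hm2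
  refine ⟨⟨R, E.left.residueField e, φ, (resMap sq.K prK.left e).hom, hc, hloc⟩, ?_, l, h1, h2⟩
  exact finite_separable_residueField sq.K prK.left e

set_option maxHeartbeats 3200000 in
set_option backward.isDefEq.respectTransparency.types false in
/-- For a decent universally closed morphism locally of finite type, valuative squares over a
discrete valuation ring lift after a finite separable extension of the fraction field to a
discrete valuation ring. -/
theorem exists_domExt_dvr {X Y : Sp S} (hX : IsAlgSpace X) (hY : IsAlgSpace Y)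
    (f : X ⟶ Y) (hlft : LocP @LocallyOfFiniteType f) (hE : ExistVC f) (sq : ValSq f)
    (hA : IsDiscreteValuationRing sq.A) :
    ∃ e : sq.DomExt, IsDiscreteValuationRing e.A' ∧ (letI := e.ψ.toAlgebra;
      Module.Finite sq.K e.K' ∧ Algebra.IsSeparable sq.K e.K') ∧ e.HasLift := by
  haveI := hA
  obtain ⟨ξ, hξ1, hξ2⟩ : ∃ ξ : (yon S).obj (ov sq.str sq.K) ⟶ pullback f sq.bot,
      ξ ≫ pullback.fst f sq.bot = sq.top ∧
      ξ ≫ pullback.snd f sq.bot = (yon S).map (ovStr sq.str sq.K) :=
    ⟨pullback.lift sq.top _ sq.comm, pullback.lift_fst _ _ _, pullback.lift_snd _ _ _⟩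
  obtain ⟨W, E, w, prW, prK, πW, e, w₁, hwe, hsqE, hprK, hπW, he, hπw⟩ :=
    exists_chart_point hX hY f hE sq.A sq.K sq.str sq.top sq.bot sq.comm ξ hξ1 hξ2
  haveI : Etale prK.left := hprK
  have sqP := IsPullback.of_hasPullback f sq.bot
  have hlftP : LocP @LocallyOfFiniteType (pullback.snd f sq.bot) :=
    locP_baseChange etLocal_locallyOfFiniteType hX hY (IsAlgSpace.yon_obj (Over.mk sq.str)) f
      sq.bot _ _ sqP hlft
  haveI hπlft : LocallyOfFiniteType πW.left :=
    hlftP w (𝟙 _) πW hwe (repWith_id _ _) (by rw [hπW, Category.comp_id])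
  haveI : IsLocallyNoetherian (Spec (CommRingCat.of sq.A)) := inferInstance
  haveI : IsLocallyNoetherian (Over.mk sq.str).left :=
    (inferInstance : IsLocallyNoetherian (Spec (CommRingCat.of sq.A)))
  haveI : IsLocallyNoetherian W.left := LocallyOfFiniteType.isLocallyNoetherian πW.left
  have hWK : prW ≫ πW = prK ≫ ovStr sq.str sq.K := by
    apply (yon S).map_injective
    calc (yon S).map (prW ≫ πW) = ((yon S).map prW ≫ w) ≫ pullback.snd f sq.bot := by
          rw [Functor.map_comp, hπW, Category.assoc]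
      _ = (yon S).map (prK ≫ ovStr sq.str sq.K) := by
          rw [hsqE.w, Category.assoc, hξ2, ← Functor.map_comp]
  have hWKl : prW.left ≫ πW.left =
      prK.left ≫ Spec.map (CommRingCat.ofHom (algebraMap sq.A sq.K)) :=
    congrArg (fun t => t.left) hWK
  haveI : LocallyOfFiniteType (Spec.map (CommRingCat.ofHom (algebraMap sq.A sq.K))) := by
    rw [HasRingHomProperty.Spec_iff (P := @LocallyOfFiniteType)]
    exact finiteType_algebraMap_of_dvr sq.A sq.K
  haveI : LocallyOfFiniteType (prW.left ≫ πW.left) := by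
    rw [hWKl]; infer_instance
  haveI : LocallyOfFiniteType prW.left := locallyOfFiniteType_of_comp prW.left πW.left
  have hne : w₁ ≠ prW.left e := by
    intro hcon
    have h1 : πW.left (prW.left e) = closedPoint sq.A := by rw [← hcon]; exact hπw
    rw [← Scheme.Hom.comp_apply, hWKl, Scheme.Hom.comp_apply] at h1
    have h2 : (Spec.map (CommRingCat.ofHom (algebraMap sq.A sq.K)) (prK.left e)).asIdeal = ⊥ := by
      have h3 : (prK.left e : PrimeSpectrum sq.K).asIdeal = ⊥ :=
        ((prK.left e : PrimeSpectrum sq.K).asIdeal.eq_bot_or_top).resolve_right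
          (prK.left e : PrimeSpectrum sq.K).isPrime.ne_top
      show Ideal.comap (algebraMap sq.A sq.K) (prK.left e : PrimeSpectrum sq.K).asIdeal = ⊥
      rw [h3]
      exact Ideal.comap_bot_of_injective _ (IsFractionRing.injective sq.A sq.K)
    rw [h1] at h2
    exact IsDiscreteValuationRing.not_a_field sq.A h2
  obtain ⟨R, h, hR, hcl, hw⟩ := exists_dvr_of_specializes prW.left e w₁ he hne
  obtain ⟨φ, hc, hloc, l, h1, h2⟩ := exists_lift_of_chart f sq.A sq.K sq.str sq.top sq.bot ξ
    hξ1 hξ2 w prW prK πW hsqE hπW e R h (by rw [hcl]; exact hπw) hw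
  refine ⟨⟨R, E.left.residueField e, φ, (resMap sq.K prK.left e).hom, hc, hloc⟩, hR, ?_,
    l, h1, h2⟩
  exact finite_separable_residueField sq.K prK.left e

end Groth.Agent.Lib.ValCritFSH6
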