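import Groth.Agent.Lib.AlgSpDiag_helper7
import Groth.Prelude.Def_AlgSpMor5
import Mathlib.AlgebraicGeometry.ValuativeCriterion
import Mathlib.AlgebraicGeometry.ZariskisMainTheorem

set_option autoImplicit false
universe u
open CategoryTheory CategoryTheory.Limits AlgebraicGeometry Opposite

namespace Groth.Agent.Lib.ValCritH7

open AlgSp Groth.Agent.Lib.AlgSpDiag_helper7

variable {S : Scheme.{u}}

/-- If `d` satisfies the strict existence part of the valuative criterion, so does every
representing base change of `d` to a scheme (in Mathlib's sense). -/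
theorem existence_of_existVCStrict {F G : Sp S} {d : F ⟶ G} (hd : ExistVCStrict d)
    {T W : Over S} {g : (yon S).obj T ⟶ G} {fst : (yon S).obj W ⟶ F} {snd : W ⟶ T}
    (sq : IsPullback fst ((yon S).map snd) d g) :
    ValuativeCriterion.Existence snd.left := by
  intro Sq
  let ptA : Over S := Over.mk (Sq.i₂ ≫ T.hom)
  let i₂' : ptA ⟶ T := Over.homMk Sq.i₂ rfl
  let ptK : Over S := Over.mk (Spec.map (CommRingCat.ofHom (algebraMap Sq.R Sq.K)) ≫ Sq.i₂ ≫ T.hom)
  let j : ptK ⟶ ptA := Over.homMk (Spec.map (CommRingCat.ofHom (algebraMap Sq.R Sq.K))) rfl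
  let i₁' : ptK ⟶ W := Over.homMk Sq.i₁ (by
    change Sq.i₁ ≫ W.hom = Spec.map _ ≫ Sq.i₂ ≫ T.hom
    rw [← Over.w snd, ← Category.assoc, Sq.commSq.w, Category.assoc])
  have hw : i₁' ≫ snd = j ≫ i₂' := by
    ext
    exact Sq.commSq.w
  let vsq : ValSq d :=
    { A := Sq.R, K := Sq.K, str := Sq.i₂ ≫ T.hom
      top := (yon S).map i₁' ≫ fst
      bot := (yon S).map i₂' ≫ g
      comm := by
        have e : (yon S).map i₁' ≫ (yon S).map snd = (yon S).map j ≫ (yon S).map i₂' := by
          rw [← Functor.map_comp, ← Functor.map_comp, hw]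
        show ((yon S).map i₁' ≫ fst) ≫ d = (yon S).map j ≫ (yon S).map i₂' ≫ g
        calc ((yon S).map i₁' ≫ fst) ≫ d = (yon S).map i₁' ≫ (yon S).map snd ≫ g := by
              rw [Category.assoc, sq.w]
          _ = (yon S).map j ≫ (yon S).map i₂' ≫ g := by rw [← Category.assoc, e, Category.assoc] }
  obtain ⟨l, hl1, hl2⟩ := hd vsq
  change (yon S).map j ≫ l = (yon S).map i₁' ≫ fst at hl1
  change l ≫ d = (yon S).map i₂' ≫ g at hl2
  obtain ⟨m, hm⟩ := (yon S).map_surjective (sq.lift l ((yon S).map i₂') hl2)
  have hm1 : (yon S).map m ≫ fst = l := by rw [hm, sq.lift_fst]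
  have hm2 : m ≫ snd = i₂' := by
    apply (yon S).map_injective
    rw [Functor.map_comp, hm, sq.lift_snd]
  have hm3 : j ≫ m = i₁' := by
    apply (yon S).map_injective
    apply sq.hom_ext
    · rw [Functor.map_comp, Category.assoc, hm1, hl1]
    · rw [← Functor.map_comp, ← Functor.map_comp, Category.assoc, hm2, hw]
  exact ⟨⟨⟨m.left, congrArg (fun k => k.left) hm3, congrArg (fun k => k.left) hm2⟩⟩⟩

/-- Uniqueness in the valuative criterion for `f` gives strict existence for its diagonal. -/
theorem existVCStrict_diagonal {X Y : Sp S} (f : X ⟶ Y) (hu : UniqVC f) :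
    ExistVCStrict (pullback.diagonal f) := by
  intro sq
  have htop : sq.top = (yon S).map sq.j ≫ sq.bot ≫ pullback.fst f f := by
    have := sq.comm =≫ pullback.fst f f
    simpa using this
  have htop' : sq.top = (yon S).map sq.j ≫ sq.bot ≫ pullback.snd f f := by
    have := sq.comm =≫ pullback.snd f f
    simpa using this
  let sq' : ValSq f :=
    { A := sq.A, commRing := sq.commRing, isDomain := sq.isDomain
      valuationRing := sq.valuationRing
      K := sq.K, field := sq.field, algebra := sq.algebra, isFractionRing := sq.isFractionRing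
      str := sq.str, top := sq.top, bot := sq.bot ≫ pullback.fst f f ≫ f
      comm := by rw [htop]; simp }
  have h := hu sq' (sq.bot ≫ pullback.fst f f) (sq.bot ≫ pullback.snd f f)
    htop.symm (by simp [sq']) htop'.symm (by simp [sq', pullback.condition])
  refine ⟨sq.bot ≫ pullback.fst f f, htop.symm, ?_⟩
  apply pullback.hom_ext
  · simp
  · simp [h]

/-- A quasi-separated morphism of algebraic spaces satisfying the uniqueness part of the
valuative criterion is separated. -/
theorem isSeparatedMor_of_uniqVC {X Y : Sp S} (hX : IsAlgSpace X) (f : X ⟶ Y)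
    (hqs : IsQuasiSeparatedMor f) (hu : UniqVC f) : IsSeparatedMor f := by
  obtain ⟨hlft, hmono, -, -⟩ := diagonal_properties hX f
  refine ⟨hqs.rep, fun T W g fst snd sq => ?_⟩
  haveI : QuasiCompact snd.left := hqs.property _ _ _ sq
  haveI : LocallyOfFiniteType snd.left := hlft.property _ _ _ sq
  haveI : Mono snd.left := hmono.property _ _ _ sq
  haveI : UniversallyClosed snd.left :=
    UniversallyClosed.of_valuativeCriterion _
      (existence_of_existVCStrict (existVCStrict_diagonal f hu) sq)
  haveI : IsProper snd.left := {}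
  exact (IsClosedImmersion.iff_isProper_and_mono snd.left).2 ⟨‹IsProper snd.left›, ‹Mono snd.left›⟩

end Groth.Agent.Lib.ValCritH7
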