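import Mathlib
import Groth.Agent.Lib.Abhyankar_helper3

/-!
# The dimension of a valuation ring is at most `trdeg + 1` over the prime field (helper3)
-/

set_option autoImplicit false
universe u
open Cardinal

namespace Groth.Agent.Lib.ValDimH3

section Chain

variable {L : Type u} [Field L] (W : ValuationSubring L)

/-- The value group, written additively as a `ℤ`-module. -/
abbrev Gam : Type u := Additive Lˣ ⧸ Subgroup.toAddSubgroup W.unitGroup

/-- The class of a unit of `L` in the value group. -/
noncomputable def cls (x : Lˣ) : Gam W := QuotientAddGroup.mk (Additive.ofMul x)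

theorem cls_mul (x y : Lˣ) : cls W (x * y) = cls W x + cls W y := rfl

theorem cls_zpow (x : Lˣ) (n : ℤ) : cls W (x ^ n) = n • cls W x := rfl

theorem cls_eq_zero_iff (x : Lˣ) : cls W x = 0 ↔ x ∈ W.unitGroup := by
  unfold cls
  rw [QuotientAddGroup.eq_zero_iff]
  rfl

theorem cls_prod {ι : Type*} (s : Finset ι) (f : ι → Lˣ) :
    cls W (∏ i ∈ s, f i) = ∑ i ∈ s, cls W (f i) := by
  classical
  induction s using Finset.induction_on with
  | empty =>
    simp only [Finset.prod_empty, Finset.sum_empty]
    rw [cls_eq_zero_iff]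
    exact one_mem _
  | insert a s ha ih => rw [Finset.prod_insert ha, Finset.sum_insert ha, cls_mul, ih]

theorem cls_surjective : Function.Surjective (cls W) := by
  intro g
  obtain ⟨x, rfl⟩ := QuotientAddGroup.mk_surjective g
  exact ⟨Additive.toMul x, rfl⟩

/-- A chain of primes of length `n` gives `n` independent elements of the value group. -/
theorem length_le_rank (p : LTSeries (PrimeSpectrum W)) :
    (p.length : Cardinal) ≤ Module.rank ℤ (Gam W) := by
  classical
  set n := p.length with hn
  have hstep : ∀ i : Fin n, ∃ x : W, x ∈ (p i.succ).asIdeal ∧ x ∉ (p i.castSucc).asIdeal := by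
    intro i
    have h1 : p i.castSucc < p i.succ := p.step i
    have h2 : (p i.castSucc).asIdeal < (p i.succ).asIdeal := h1
    obtain ⟨x, hx1, hx2⟩ := SetLike.exists_of_lt h2
    exact ⟨x, hx1, hx2⟩
  choose x hx1 hx2 using hstep
  have hx0 : ∀ i, ((x i : W) : L) ≠ 0 := by
    intro i h0
    apply hx2 i
    have : x i = 0 := Subtype.ext h0
    rw [this]
    exact Ideal.zero_mem _
  let X : Fin n → Lˣ := fun i => Units.mk0 ((x i : W) : L) (hx0 i)
  have hmono : ∀ a b : Fin (n + 1), a ≤ b → (p a).asIdeal ≤ (p b).asIdeal := by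
    intro a b hab
    exact p.strictMono.monotone hab
  have hli : LinearIndependent ℤ (fun i => cls W (X i)) := by
    rw [Fintype.linearIndependent_iff]
    intro c hc
    by_contra hcon
    push_neg at hcon
    have hne : (Finset.univ.filter (fun i => c i ≠ 0)).Nonempty := by
      obtain ⟨i, hi⟩ := hcon
      exact ⟨i, by simp [hi]⟩
    obtain ⟨j, hj, hjmin⟩ := Finset.exists_min_image _ (fun i : Fin n => i) hne
    have hcj : c j ≠ 0 := by simpa using hj
    have hjmin' : ∀ i, c i ≠ 0 → j ≤ i := fun i hi => hjmin i (by simp [hi])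
    -- the relation
    have hrel : cls W (∏ i, X i ^ c i) = 0 := by
      rw [cls_prod]
      simp only [cls_zpow]
      exact hc
    rw [cls_eq_zero_iff] at hrel
    let u : Wˣ := W.unitGroupMulEquiv ⟨_, hrel⟩
    have hu : ((u : W) : L) = ((∏ i, X i ^ c i : Lˣ) : L) := rfl
    let pos : W := ∏ i, x i ^ (c i).toNat
    let neg : W := ∏ i, x i ^ (-c i).toNat
    have hposneg : pos = u * neg := by
      apply Subtype.ext
      show ((∏ i, x i ^ (c i).toNat : W) : L) = ((u : W) : L) * ((∏ i, x i ^ (-c i).toNat : W) : L)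
      rw [hu]
      push_cast
      rw [← Finset.prod_mul_distrib]
      refine Finset.prod_congr rfl fun i _ => ?_
      show ((x i : W) : L) ^ (c i).toNat = ((X i : L)) ^ (c i) * ((x i : W) : L) ^ (-c i).toNat
      have h1 : ((X i : L)) = ((x i : W) : L) := rfl
      rw [h1, ← zpow_natCast, ← zpow_natCast, ← zpow_add₀ (hx0 i)]
      congr 1
      have := Int.toNat_sub_toNat_neg (c i)
      omega
    have hfac_mem : ∀ (e : Fin n → ℕ), e j ≠ 0 → (∏ i, x i ^ e i) ∈ (p j.succ).asIdeal := by
      intro e he
      have h1 : x j ^ e j ∣ ∏ i, x i ^ e i := Finset.dvd_prod_of_mem _ (Finset.mem_univ j)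
      exact Ideal.mem_of_dvd _ h1 (Ideal.pow_mem_of_mem _ (hx1 j) _ (Nat.pos_of_ne_zero he))
    have hfac_notMem : ∀ (e : Fin n → ℕ), (∀ i, e i ≠ 0 → j < i) →
        (∏ i, x i ^ e i) ∉ (p j.succ).asIdeal := by
      intro e he hmem
      rw [Ideal.IsPrime.prod_mem_iff] at hmem
      obtain ⟨i, -, hi⟩ := hmem
      have hei : e i ≠ 0 := by
        intro h0
        rw [h0, pow_zero] at hi
        exact (p j.succ).isPrime.ne_top ((Ideal.eq_top_iff_one _).2 hi)
      have hxi : x i ∈ (p j.succ).asIdeal := (p j.succ).isPrime.mem_of_pow_mem _ hi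
      have hji : j < i := he i hei
      have hle : j.succ ≤ i.castSucc := by
        rw [Fin.le_def, Fin.val_succ, Fin.coe_castSucc]
        exact hji
      exact hx2 i (hmono _ _ hle hxi)
    rcases lt_or_gt_of_ne hcj with hneg | hpos
    · -- `c j < 0`
      have h1 : neg ∈ (p j.succ).asIdeal := hfac_mem _ (by
        have : 0 < (-c j).toNat := by omega
        omega)
      have h2 : pos ∉ (p j.succ).asIdeal := hfac_notMem _ (by
        intro i hi
        have hci : c i ≠ 0 := by
          intro h0
          rw [h0] at hi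
          exact hi rfl
        have hji := hjmin' i hci
        rcases eq_or_lt_of_le hji with h | h
        · exfalso
          rw [← h] at hi
          have : (c j).toNat = 0 := by omega
          exact hi this
        · exact h)
      apply h2
      rw [hposneg]
      exact Ideal.mul_mem_left _ _ h1
    · -- `0 < c j`
      have h1 : pos ∈ (p j.succ).asIdeal := hfac_mem _ (by
        have : 0 < (c j).toNat := by omega
        omega)
      have h2 : neg ∉ (p j.succ).asIdeal := hfac_notMem _ (by
        intro i hi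
        have hci : c i ≠ 0 := by
          intro h0
          rw [h0] at hi
          exact hi rfl
        have hji := hjmin' i hci
        rcases eq_or_lt_of_le hji with h | h
        · exfalso
          rw [← h] at hi
          have : (-c j).toNat = 0 := by omega
          exact hi this
        · exact h)
      apply h2
      have h3 : neg = (u⁻¹ : Wˣ) * pos := by
        rw [hposneg, ← mul_assoc, Units.inv_mul, one_mul]
      rw [h3]
      exact Ideal.mul_mem_left _ _ h1
  have h := hli.cardinal_lift_le_rank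
  rw [Cardinal.mk_fin, Cardinal.lift_natCast] at h
  simpa using h

end Chain

section Cyclic

variable {L : Type u} [Field L] (W : ValuationSubring L)

theorem mem_unitGroup_of_pow_eq_one (x : Lˣ) (n : ℕ) (hn : n ≠ 0) (h : x ^ n = 1) :
    x ∈ W.unitGroup := by
  rw [ValuationSubring.mem_unitGroup_iff]
  have h1 : W.valuation (x : L) ^ n = 1 := by
    rw [← map_pow, ← Units.val_pow_eq_pow_val, h, Units.val_one, map_one]
  exact (pow_eq_one_iff.1 h1).resolve_right hn

theorem cls_mul_of_mem (u x : Lˣ) (hu : u ∈ W.unitGroup) : cls W (u * x) = cls W x := by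
  rw [cls_mul, (cls_eq_zero_iff W u).2 hu]
  exact zero_add (cls W x)

theorem cls_neg_one : cls W (-1 : Lˣ) = 0 := by
  rw [cls_eq_zero_iff]
  exact mem_unitGroup_of_pow_eq_one W _ 2 (by norm_num) (by simp)

theorem natCast_mem_unitGroup_or (n : ℕ) (hn : (n : L) ≠ 0) :
    Units.mk0 (n : L) hn ∈ W.unitGroup ∨ (n : W) ∈ IsLocalRing.maximalIdeal W := by
  by_cases hu : IsUnit (n : W)
  · left
    rw [ValuationSubring.mem_unitGroup_iff]
    have := (W.valuation_eq_one_iff (n : W)).1 hu
    simpa using this
  · right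
    exact (IsLocalRing.mem_maximalIdeal _).2 hu

theorem cls_nat_mem_of_primes (g₀ : Gam W)
    (hprime : ∀ p : ℕ, p.Prime → ∀ hp0 : (p : L) ≠ 0,
      cls W (Units.mk0 (p : L) hp0) ∈ Submodule.span ℤ {g₀})
    (n : ℕ) : ∀ (hn : (n : L) ≠ 0), cls W (Units.mk0 (n : L) hn) ∈ Submodule.span ℤ {g₀} := by
  induction n using induction_on_primes with
  | zero =>
    intro hn
    exact absurd (by simp) hn
  | one =>
    intro hn
    have h1 : Units.mk0 ((1 : ℕ) : L) hn = 1 := by
      ext
      simp
    rw [h1, (cls_eq_zero_iff W 1).2 (one_mem _)]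
    exact Submodule.zero_mem _
  | prime_mul p a hp ih =>
    intro hn
    have hp0 : (p : L) ≠ 0 := by
      intro h
      apply hn
      push_cast
      rw [h, zero_mul]
    have ha0 : (a : L) ≠ 0 := by
      intro h
      apply hn
      push_cast
      rw [h, mul_zero]
    have h1 : Units.mk0 ((p * a : ℕ) : L) hn = Units.mk0 (p : L) hp0 * Units.mk0 (a : L) ha0 := by
      ext
      simp
    rw [h1, cls_mul]
    exact Submodule.add_mem _ (hprime p hp hp0) (ih ha0)

theorem exists_gen_nat [CharZero L] :
    ∃ g₀ : Gam W, ∀ (n : ℕ) (hn : (n : L) ≠ 0),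
      cls W (Units.mk0 (n : L) hn) ∈ Submodule.span ℤ {g₀} := by
  classical
  by_cases hP : ∃ ℓ : ℕ, ℓ.Prime ∧ (ℓ : W) ∈ IsLocalRing.maximalIdeal W
  · obtain ⟨ℓ, hℓ, hℓm⟩ := hP
    have hℓ0 : (ℓ : L) ≠ 0 := by exact_mod_cast hℓ.ne_zero
    refine ⟨cls W (Units.mk0 (ℓ : L) hℓ0), fun n => cls_nat_mem_of_primes W _ ?_ n⟩
    intro p hp hp0
    rcases natCast_mem_unitGroup_or W p hp0 with h | h
    · rw [(cls_eq_zero_iff W _).2 h]
      exact Submodule.zero_mem _
    · by_cases hpl : p = ℓ
      · subst hpl
        exact Submodule.mem_span_singleton_self _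
      · exfalso
        have hcop : IsCoprime (p : ℤ) (ℓ : ℤ) :=
          Nat.isCoprime_iff_coprime.2 ((Nat.coprime_primes hp hℓ).2 hpl)
        obtain ⟨a, b, hab⟩ := hcop
        have h1 : ((a : W) * (p : W) + (b : W) * (ℓ : W)) = 1 := by
          have := congrArg (fun z : ℤ => (z : W)) hab
          push_cast at this
          exact this
        have h2 : (1 : W) ∈ IsLocalRing.maximalIdeal W := by
          rw [← h1]
          exact Ideal.add_mem _ (Ideal.mul_mem_left _ _ h) (Ideal.mul_mem_left _ _ hℓm)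
        exact (Ideal.ne_top_iff_one _).1 (IsLocalRing.maximalIdeal.isMaximal W).ne_top h2
  · push_neg at hP
    refine ⟨0, fun n => cls_nat_mem_of_primes W _ ?_ n⟩
    intro p hp hp0
    rcases natCast_mem_unitGroup_or W p hp0 with h | h
    · rw [(cls_eq_zero_iff W _).2 h]
      exact Submodule.zero_mem _
    · exact absurd h (hP p hp)

theorem cls_intCast_mem [CharZero L] (g₀ : Gam W)
    (hg : ∀ (n : ℕ) (hn : (n : L) ≠ 0), cls W (Units.mk0 (n : L) hn) ∈ Submodule.span ℤ {g₀})
    (z : ℤ) (hz : (z : L) ≠ 0) : cls W (Units.mk0 (z : L) hz) ∈ Submodule.span ℤ {g₀} := by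
  have hz0 : z ≠ 0 := by
    rintro rfl
    simp at hz
  have hn0 : ((z.natAbs : ℕ) : L) ≠ 0 := by
    exact_mod_cast (Int.natAbs_ne_zero.2 hz0)
  rcases Int.natAbs_eq z with h | h
  · have h1 : Units.mk0 (z : L) hz = Units.mk0 ((z.natAbs : ℕ) : L) hn0 := by
      ext
      simp only [Units.val_mk0]
      rw [← Int.cast_natCast, ← h]
    rw [h1]
    exact hg _ hn0
  · have h1 : Units.mk0 (z : L) hz = (-1 : Lˣ) * Units.mk0 ((z.natAbs : ℕ) : L) hn0 := by
      ext
      simp only [Units.val_mul, Units.val_neg, Units.val_one, Units.val_mk0]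
      have h3 : (z : L) = -(((z.natAbs : ℕ) : ℤ) : L) := by
        rw [← Int.cast_neg, ← h]
      rw [h3, Int.cast_natCast, neg_one_mul]
    rw [h1, cls_mul_of_mem W _ _ (mem_unitGroup_of_pow_eq_one W _ 2 (by norm_num) (by simp))]
    exact hg _ hn0

theorem cls_ratCast_mem [CharZero L] (g₀ : Gam W)
    (hg : ∀ (n : ℕ) (hn : (n : L) ≠ 0), cls W (Units.mk0 (n : L) hn) ∈ Submodule.span ℤ {g₀})
    (r : ℚ) (hr : (r : L) ≠ 0) : cls W (Units.mk0 (r : L) hr) ∈ Submodule.span ℤ {g₀} := by
  have hden : (((r.den : ℕ) : ℤ) : L) ≠ 0 := by exact_mod_cast r.den_nz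
  have hnum : ((r.num : ℤ) : L) ≠ 0 := by
    intro h
    apply hr
    rw [Rat.cast_def, h, zero_div]
  have h1 : Units.mk0 (r : L) hr * Units.mk0 (((r.den : ℕ) : ℤ) : L) hden =
      Units.mk0 ((r.num : ℤ) : L) hnum := by
    ext
    simp only [Units.val_mul, Units.val_mk0]
    rw [Rat.cast_def]
    have : ((r.den : ℕ) : L) ≠ 0 := by exact_mod_cast r.den_nz
    push_cast
    field_simp
  have h2 : cls W (Units.mk0 (r : L) hr) = cls W (Units.mk0 ((r.num : ℤ) : L) hnum) -
      cls W (Units.mk0 (((r.den : ℕ) : ℤ) : L) hden) := by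
    rw [← h1, cls_mul]
    abel
  rw [h2]
  exact Submodule.sub_mem _ (cls_intCast_mem W g₀ hg _ hnum) (cls_intCast_mem W g₀ hg _ hden)

theorem exists_gen :
    ∃ g₀ : Gam W, ∀ a : (↥(⊥ : Subfield L))ˣ,
      cls W (Units.map (algebraMap (↥(⊥ : Subfield L)) L).toMonoidHom a) ∈
        Submodule.span ℤ {g₀} := by
  obtain ⟨p, hp⟩ := CharP.exists L
  rcases CharP.char_is_prime_or_zero L p with hpp | hp0
  · -- characteristic `p`
    haveI := Fact.mk hpp
    refine ⟨0, fun a => ?_⟩
    letI := ZMod.algebra L p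
    have hbot := Subfield.bot_eq_of_zMod_algebra (K := L) p
    have ha : ((a : ↥(⊥ : Subfield L)) : L) ∈ (algebraMap (ZMod p) L).fieldRange := by
      rw [← hbot]
      exact (a : ↥(⊥ : Subfield L)).2
    obtain ⟨z, hz⟩ := ha
    have hpow : ((a : ↥(⊥ : Subfield L)) : L) ^ p = ((a : ↥(⊥ : Subfield L)) : L) := by
      rw [← hz, ← map_pow, ZMod.pow_card]
    set x := Units.map (algebraMap (↥(⊥ : Subfield L)) L).toMonoidHom a with hx
    have hxv : (x : L) = ((a : ↥(⊥ : Subfield L)) : L) := rfl
    have hx1 : x ^ (p - 1) = 1 := by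
      have h3 : x ^ (p - 1) * x = 1 * x := by
        rw [← pow_succ, Nat.sub_add_cancel hpp.one_le, one_mul]
        ext
        rw [Units.val_pow_eq_pow_val, hxv, hpow]
      exact mul_right_cancel h3
    rw [(cls_eq_zero_iff W x).2 (mem_unitGroup_of_pow_eq_one W x (p - 1)
      (by have := hpp.two_le; omega) hx1)]
    exact Submodule.zero_mem _
  · subst hp0
    haveI : CharZero L := CharP.charP_to_charZero L
    obtain ⟨g₀, hg⟩ := exists_gen_nat W
    refine ⟨g₀, fun a => ?_⟩
    have hbot := Subfield.bot_eq_of_charZero (K := L)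
    have ha : ((a : ↥(⊥ : Subfield L)) : L) ∈ (algebraMap ℚ L).fieldRange := by
      rw [← hbot]
      exact (a : ↥(⊥ : Subfield L)).2
    obtain ⟨r, hr⟩ := ha
    have hr' : (r : L) = ((a : ↥(⊥ : Subfield L)) : L) := by
      rw [← hr]
      exact (eq_ratCast _ r).symm
    have hr0 : (r : L) ≠ 0 := by
      rw [hr']
      intro h
      exact a.ne_zero (Subtype.ext h)
    have h1 : Units.map (algebraMap (↥(⊥ : Subfield L)) L).toMonoidHom a =
        Units.mk0 (r : L) hr0 := by
      ext
      exact hr'.symm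
    rw [h1]
    exact cls_ratCast_mem W g₀ hg r hr0

end Cyclic

section Main

variable {L Γ : Type u} [Field L] [LinearOrderedCommGroupWithZero Γ] (v : Valuation L Γ)

theorem rank_le (d : ℕ) (hd : Algebra.trdeg (⊥ : Subfield L) L = d) :
    Module.rank ℤ (Gam v.valuationSubring) ≤ ((d + 1 : ℕ) : Cardinal) := by
  classical
  let vK : Valuation (↥(⊥ : Subfield L)) Γ := v.comap (algebraMap (↥(⊥ : Subfield L)) L)
  haveI : vK.HasExtension v := ⟨Valuation.IsEquiv.refl⟩
  have hA := AbhyankarH3.main vK v
  rw [hd] at hA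
  set W := v.valuationSubring with hW
  set N : Subgroup Lˣ := W.unitGroup ⊔
    (Units.map (algebraMap (↥(⊥ : Subfield L)) L).toMonoidHom).range with hN
  have hQ : Module.rank ℤ (Additive Lˣ ⧸ Subgroup.toAddSubgroup N) ≤ (d : Cardinal) :=
    le_trans le_self_add hA
  have hle : Subgroup.toAddSubgroup W.unitGroup ≤
      AddSubgroup.comap (AddMonoidHom.id (Additive Lˣ)) (Subgroup.toAddSubgroup N) := by
    intro x hx
    exact (Subgroup.mem_sup_left hx : Additive.toMul x ∈ N)
  let q : Gam W →+ (Additive Lˣ ⧸ Subgroup.toAddSubgroup N) :=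
    QuotientAddGroup.map _ _ (AddMonoidHom.id (Additive Lˣ)) hle
  let qL : Gam W →ₗ[ℤ] (Additive Lˣ ⧸ Subgroup.toAddSubgroup N) := q.toIntLinearMap
  have hrn := LinearMap.rank_range_add_rank_ker qL
  have h1 : Module.rank ℤ (LinearMap.range qL) ≤ (d : Cardinal) :=
    le_trans (Submodule.rank_le _) hQ
  obtain ⟨g₀, hg⟩ := exists_gen W
  have hker : LinearMap.ker qL ≤ Submodule.span ℤ {g₀} := by
    intro g hgk
    obtain ⟨y, rfl⟩ := cls_surjective W g
    rw [LinearMap.mem_ker] at hgk
    have h2 : (QuotientAddGroup.mk (Additive.ofMul y) :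
        Additive Lˣ ⧸ Subgroup.toAddSubgroup N) = 0 := hgk
    rw [QuotientAddGroup.eq_zero_iff] at h2
    have h3 : y ∈ N := h2
    rw [hN, Subgroup.mem_sup] at h3
    obtain ⟨u, hu, a', ha', rfl⟩ := h3
    obtain ⟨a, rfl⟩ := ha'
    rw [cls_mul_of_mem W _ _ hu]
    exact hg a
  have h2 : Module.rank ℤ (LinearMap.ker qL) ≤ 1 := by
    refine le_trans (Submodule.rank_mono hker) ?_
    refine le_trans (rank_span_le _) ?_
    simp
  rw [← hrn]
  push_cast
  exact add_le_add h1 h2

theorem dim_le (d : ℕ) (hd : Algebra.trdeg (⊥ : Subfield L) L = d) :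
    ringKrullDim v.valuationSubring ≤ ((d + 1 : ℕ) : WithBot ℕ∞) := by
  have hr := rank_le v d hd
  unfold ringKrullDim Order.krullDim
  refine iSup_le fun p => ?_
  have h1 := (length_le_rank v.valuationSubring p).trans hr
  have h2 : p.length ≤ d + 1 := by exact_mod_cast h1
  exact_mod_cast h2

end Main

section FiniteSpec

/-- A valuation ring of finite Krull dimension has finitely many primes. -/
theorem finite_primeSpectrum_of_dim_le {A : Type*} [CommRing A] [IsDomain A] [ValuationRing A]
    (n : ℕ) (h : ringKrullDim A ≤ ((n : ℕ) : WithBot ℕ∞)) : Finite (PrimeSpectrum A) := by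
  classical
  have hle : ∀ p : PrimeSpectrum A, Order.height p ≤ (n : ℕ∞) := by
    intro p
    have h1 : (Order.height p : WithBot ℕ∞) ≤ Order.krullDim (PrimeSpectrum A) :=
      Order.height_le_krullDim p
    have h2 : (Order.height p : WithBot ℕ∞) ≤ ((n : ℕ∞) : WithBot ℕ∞) := h1.trans h
    exact WithBot.coe_le_coe.1 h2
  have hlt : ∀ p q : PrimeSpectrum A, p < q → Order.height p ≠ Order.height q := by
    intro p q hpq
    exact ne_of_lt (Order.height_strictMono hpq (lt_of_le_of_lt (hle p) (ENat.coe_lt_top n)))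
  have hinj : Function.Injective (fun p : PrimeSpectrum A => Order.height p) := by
    intro p q hpq
    by_contra hne
    have htot : p.asIdeal ≤ q.asIdeal ∨ q.asIdeal ≤ p.asIdeal := Std.Total.total _ _
    rcases htot with h1 | h1
    · have h2 : p < q := lt_of_le_of_ne h1 hne
      exact hlt p q h2 hpq
    · have h2 : q < p := lt_of_le_of_ne h1 (Ne.symm hne)
      exact hlt q p h2 hpq.symm
  have hbd : ∀ p : PrimeSpectrum A, (Order.height p).toNat < n + 1 := by
    intro p
    have h1 : Order.height p ≠ ⊤ := ne_top_of_le_ne_top (ENat.coe_ne_top n) (hle p)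
    have h2 : ((Order.height p).toNat : ℕ∞) ≤ (n : ℕ∞) := by
      rw [ENat.coe_toNat h1]
      exact hle p
    have h3 : (Order.height p).toNat ≤ n := by exact_mod_cast h2
    omega
  let g : PrimeSpectrum A → Fin (n + 1) := fun p => ⟨(Order.height p).toNat, hbd p⟩
  have hg : Function.Injective g := by
    intro p q hpq
    apply hinj
    have h1 : (Order.height p).toNat = (Order.height q).toNat := by
      have := congrArg Fin.val hpq
      exact this
    have hp : Order.height p ≠ ⊤ := ne_top_of_le_ne_top (ENat.coe_ne_top n) (hle p)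
    have hq : Order.height q ≠ ⊤ := ne_top_of_le_ne_top (ENat.coe_ne_top n) (hle q)
    show Order.height p = Order.height q
    rw [← ENat.coe_toNat hp, ← ENat.coe_toNat hq, h1]
  exact Finite.of_injective g hg

/-- A finitely generated subfield has finite transcendence degree over its prime field. -/
theorem exists_trdeg_eq {K : Type u} [Field K] (S : Set K) (hS : S.Finite) :
    ∃ d : ℕ, Algebra.trdeg (⊥ : Subfield ↥(Subfield.closure S)) ↥(Subfield.closure S) = d := by
  set M := Subfield.closure S with hM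
  let S' : Set ↥M := Subtype.val ⁻¹' S
  have hS' : S'.Finite := hS.preimage Subtype.val_injective.injOn
  have htop : IntermediateField.adjoin (↥(⊥ : Subfield ↥M)) S' = ⊤ := by
    rw [eq_top_iff]
    intro x _
    let T : Subfield ↥M := (IntermediateField.adjoin (↥(⊥ : Subfield ↥M)) S').toSubfield
    have h1 : S ⊆ T.map M.subtype := by
      intro y hy
      refine ⟨⟨y, Subfield.subset_closure hy⟩, ?_, rfl⟩
      exact IntermediateField.subset_adjoin _ _ (show (⟨y, Subfield.subset_closure hy⟩ : ↥M) ∈ S' from hy)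
    have h2 : M ≤ T.map M.subtype := Subfield.closure_le.2 h1
    obtain ⟨y, hy, hyx⟩ := h2 x.2
    have : y = x := Subtype.ext hyx
    rw [← this]
    exact hy
  have hfg : (⊤ : IntermediateField (↥(⊥ : Subfield ↥M)) ↥M).FG := by
    rw [← htop]
    exact IntermediateField.fg_adjoin_of_finite hS'
  haveI : Algebra.EssFiniteType (↥(⊥ : Subfield ↥M)) ↥M := IntermediateField.fg_top_iff.1 hfg
  have hlt := trdeg_lt_aleph0 (↥(⊥ : Subfield ↥M)) ↥M
  obtain ⟨d, hd⟩ := Cardinal.lt_aleph0.1 hlt
  exact ⟨d, hd⟩

end FiniteSpec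

section Union

variable (R : Type u) [CommRing R] [IsDomain R] [ValuationRing R]

/-- The subfield of the fraction field generated by a finite subset of `R`. -/
noncomputable def subF (s : Finset R) : Subfield (FractionRing R) :=
  Subfield.closure ((algebraMap R (FractionRing R)) '' (s : Set R))

/-- The part of `R` lying in `subF R s`. -/
noncomputable def subR (s : Finset R) : Subring R :=
  (subF R s).toSubring.comap (algebraMap R (FractionRing R))

theorem mem_subR_iff (s : Finset R) (r : R) :
    r ∈ subR R s ↔ algebraMap R (FractionRing R) r ∈ subF R s := Iff.rfl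

theorem subR_mono : Monotone (subR R) := by
  intro s t hst x hx
  have h1 : subF R s ≤ subF R t :=
    Subfield.closure_mono (Set.image_mono (by exact_mod_cast hst))
  exact h1 hx

theorem mem_subR_self (r : R) : r ∈ subR R {r} := by
  rw [mem_subR_iff]
  exact Subfield.subset_closure ⟨r, by simp, rfl⟩

/-- The valuation on `subF R s` induced by `R`. -/
noncomputable def valF (s : Finset R) :
    Valuation ↥(subF R s) (ValuationRing.ValueGroup R (FractionRing R)) :=
  (ValuationRing.valuation R (FractionRing R)).comap (subF R s).subtype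

theorem mem_valF_iff (s : Finset R) (y : ↥(subF R s)) :
    y ∈ (valF R s).valuationSubring ↔ ∃ a : R, algebraMap R (FractionRing R) a = (y : FractionRing R) := by
  rw [Valuation.mem_valuationSubring_iff, ← ValuationRing.mem_integer_iff]
  rfl

/-- The ring `subR R s` is the valuation ring of `valF R s`. -/
noncomputable def equivValSub (s : Finset R) : ↥(subR R s) ≃+* ↥(valF R s).valuationSubring := by
  let ψ : ↥(subR R s) →+* ↥(subF R s) :=
    ((algebraMap R (FractionRing R)).comp (subR R s).subtype).codRestrict (subF R s) (fun r => r.2)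
  have hψ : ∀ r, ψ r ∈ (valF R s).valuationSubring := by
    intro r
    rw [mem_valF_iff]
    exact ⟨r.1, rfl⟩
  let φ : ↥(subR R s) →+* ↥(valF R s).valuationSubring := ψ.codRestrict _ hψ
  refine RingEquiv.ofBijective φ ⟨?_, ?_⟩
  · intro a b hab
    have h1 : algebraMap R (FractionRing R) a.1 = algebraMap R (FractionRing R) b.1 := by
      have := congrArg (fun z : ↥(valF R s).valuationSubring => ((z : ↥(subF R s)) : FractionRing R)) hab
      exact this
    exact Subtype.ext (IsFractionRing.injective R (FractionRing R) h1)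
  · intro y
    obtain ⟨a, ha⟩ := (mem_valF_iff R s y.1).1 y.2
    have ha' : a ∈ subR R s := by
      rw [mem_subR_iff, ha]
      exact y.1.2
    exact ⟨⟨a, ha'⟩, Subtype.ext (Subtype.ext ha)⟩

theorem subR_spec (s : Finset R) :
    ValuationRing (subR R s) ∧ Finite (PrimeSpectrum (subR R s)) := by
  obtain ⟨d, hd⟩ := exists_trdeg_eq ((algebraMap R (FractionRing R)) '' (s : Set R))
    (s.finite_toSet.image _)
  have hdim := dim_le (valF R s) d hd
  haveI hfin : Finite (PrimeSpectrum ↥(valF R s).valuationSubring) :=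
    finite_primeSpectrum_of_dim_le (d + 1) hdim
  let e := equivValSub R s
  refine ⟨?_, ?_⟩
  · exact Function.Surjective.valuationRing (e.symm : ↥(valF R s).valuationSubring →+* ↥(subR R s))
      e.symm.surjective
  · exact Finite.of_equiv _ (PrimeSpectrum.comapEquiv e).symm.toEquiv

theorem union_main :
    ∃ (ι : Type u) (_ : Preorder ι) (_ : IsDirected ι (fun a b ↦ a ≤ b)) (_ : Nonempty ι)
      (F : ι → Subring R), Monotone F ∧ (⨆ i, F i) = ⊤ ∧
        ∀ i, ValuationRing (F i) ∧ Finite (PrimeSpectrum (F i)) := by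
  classical
  refine ⟨Finset R, inferInstance, inferInstance, inferInstance, subR R, subR_mono R, ?_,
    subR_spec R⟩
  rw [eq_top_iff]
  intro r _
  exact (le_iSup (subR R) {r} : subR R {r} ≤ ⨆ i, subR R i) (mem_subR_self R r)

end Union

end Groth.Agent.Lib.ValDimH3
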