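import Mathlib

/-!
# `e * f ≤ n` for extensions of valuation rings (lead)
-/

set_option autoImplicit false
universe u v w

namespace Groth.Agent.Lib.ValEF

open IsLocalRing

section Core

variable (A B K L : Type u) [CommRing A] [IsDomain A] [ValuationRing A] [CommRing B] [IsDomain B]
  [ValuationRing B] [Field K] [Field L] [Algebra A K] [IsFractionRing A K] [Algebra B L]
  [IsFractionRing B L] [Algebra A B] [Algebra K L] [Algebra A L] [IsScalarTower A K L]
  [IsScalarTower A B L] [IsLocalHom (algebraMap A B)]

omit [Algebra A B] [Algebra K L] [Algebra A L] [IsScalarTower A K L]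
  [IsScalarTower A B L] [IsLocalHom (algebraMap A B)] [CommRing B] [IsDomain B]
  [ValuationRing B] [Field L] [Algebra B L] [IsFractionRing B L] in
theorem exists_dvd_all {ι : Type v} [Fintype ι] [Nonempty ι] (x : ι → K) :
    ∃ i0, ∀ i, ∃ a : A, algebraMap A K a * x i0 = x i := by
  classical
  obtain ⟨i0, -, hi0⟩ := Finset.exists_max_image Finset.univ
    (fun i => ValuationRing.valuation A K (x i)) Finset.univ_nonempty
  refine ⟨i0, fun i => ?_⟩
  by_cases h0 : x i0 = 0
  · refine ⟨0, ?_⟩
    have h1 := hi0 i (Finset.mem_univ i)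
    rw [h0, map_zero] at h1
    have h2 : ValuationRing.valuation A K (x i) = 0 := le_antisymm h1 zero_le'
    rw [map_zero, zero_mul]
    exact ((Valuation.zero_iff _).1 h2).symm
  · have hv0 : ValuationRing.valuation A K (x i0) ≠ 0 := (Valuation.ne_zero_iff _).2 h0
    have h1 : ValuationRing.valuation A K (x i / x i0) ≤ 1 := by
      rw [map_div₀]
      exact (div_le_one₀ (zero_lt_iff.2 hv0)).2 (hi0 i (Finset.mem_univ i))
    obtain ⟨a, ha⟩ := (ValuationRing.mem_integer_iff A K _).1
      ((Valuation.mem_integer_iff _ _).2 h1)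
    exact ⟨a, by rw [ha, div_mul_cancel₀ _ h0]⟩

theorem core {ι : Type v} {κ : Type w} [Fintype ι] [Fintype κ] (b : ι → B) (l : κ → Lˣ)
    (hb : LinearIndependent (ResidueField A) (fun i => residue B (b i)))
    (hl : ∀ j j', j ≠ j' → ∀ (c : Kˣ) (u : Bˣ),
      (l j' : L) ≠ algebraMap K L c * algebraMap B L u * l j) :
    LinearIndependent K (fun p : ι × κ => algebraMap B L (b p.1) * (l p.2 : L)) := by
  classical
  rw [Fintype.linearIndependent_iff]
  intro g hg
  let s : κ → L := fun j => ∑ i, algebraMap K L (g (i, j)) * algebraMap B L (b i)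
  have hsdef : ∀ j, s j = ∑ i, algebraMap K L (g (i, j)) * algebraMap B L (b i) := fun _ => rfl
  have hsum : ∑ j, s j * (l j : L) = 0 := by
    rw [← hg, Fintype.sum_prod_type_right]
    refine Finset.sum_congr rfl fun j _ => ?_
    rw [hsdef, Finset.sum_mul]
    refine Finset.sum_congr rfl fun i _ => ?_
    rw [Algebra.smul_def]
    ring
  have claim1 : ∀ j, (∀ i, g (i, j) = 0) ∨
      ∃ (c : Kˣ) (u : Bˣ), s j = algebraMap K L c * algebraMap B L u := by
    intro j
    by_cases hall : ∀ i, g (i, j) = 0
    · exact Or.inl hall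
    · right
      push_neg at hall
      obtain ⟨i1, hi1⟩ := hall
      haveI : Nonempty ι := ⟨i1⟩
      obtain ⟨i0, hi0⟩ := exists_dvd_all A K (fun i => g (i, j))
      choose a ha0 using hi0
      have ha : ∀ i, algebraMap A K (a i) * g (i0, j) = g (i, j) := ha0
      have hc : g (i0, j) ≠ 0 := by
        intro h
        apply hi1
        rw [← ha i1, h, mul_zero]
      have hai0 : a i0 = 1 := by
        apply IsFractionRing.injective A K
        rw [map_one]
        exact mul_right_cancel₀ hc (by rw [ha i0, one_mul])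
      let β : B := ∑ i, algebraMap A B (a i) * b i
      have hres : residue B β ≠ 0 := by
        intro h
        have h' : ∑ i, residue A (a i) • residue B (b i) = 0 := by
          rw [← h]
          show _ = residue B (∑ i, algebraMap A B (a i) * b i)
          rw [map_sum]
          refine Finset.sum_congr rfl fun i _ => ?_
          rw [map_mul, Algebra.smul_def]
          rfl
        have := Fintype.linearIndependent_iff.1 hb (fun i => residue A (a i)) h' i0
        rw [hai0, map_one] at this
        exact one_ne_zero this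
      have hunit : IsUnit β := by
        by_contra hnu
        exact hres ((residue_eq_zero_iff β).2 ((mem_maximalIdeal β).2 hnu))
      refine ⟨Units.mk0 _ hc, hunit.unit, ?_⟩
      rw [Units.val_mk0, IsUnit.unit_spec, hsdef]
      show _ = algebraMap K L (g (i0, j)) * algebraMap B L (∑ i, algebraMap A B (a i) * b i)
      rw [map_sum, Finset.mul_sum]
      refine Finset.sum_congr rfl fun i _ => ?_
      have e1 : algebraMap K L (g (i, j))
          = algebraMap B L (algebraMap A B (a i)) * algebraMap K L (g (i0, j)) := by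
        rw [← ha i, map_mul, ← IsScalarTower.algebraMap_apply A K L,
          IsScalarTower.algebraMap_apply A B L]
      rw [e1, map_mul]
      ring
  have hs0 : ∀ j, s j = 0 := by
    by_contra hne
    push_neg at hne
    obtain ⟨j1, hj1⟩ := hne
    let T : Finset κ := Finset.univ.filter (fun j => s j ≠ 0)
    have hTmem : ∀ j, j ∈ T ↔ s j ≠ 0 := fun j => by simp [T]
    have hTne : T.Nonempty := ⟨j1, (hTmem j1).2 hj1⟩
    obtain ⟨j0, hj0T, hj0⟩ := Finset.exists_max_image T
      (fun j => ValuationRing.valuation B L (s j * (l j : L))) hTne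
    have hsj0 : s j0 ≠ 0 := (hTmem j0).1 hj0T
    have ht0 : s j0 * (l j0 : L) ≠ 0 := mul_ne_zero hsj0 (l j0).ne_zero
    have hratio : ∀ j ∈ T, j ≠ j0 → ∃ β : B, β ∈ maximalIdeal B ∧
        algebraMap B L β * (s j0 * (l j0 : L)) = s j * (l j : L) := by
      intro j hjT hjne
      have hsj : s j ≠ 0 := (hTmem j).1 hjT
      have hv0 : ValuationRing.valuation B L (s j0 * (l j0 : L)) ≠ 0 :=
        (Valuation.ne_zero_iff _).2 ht0
      have h1 : ValuationRing.valuation B L (s j * (l j : L) / (s j0 * (l j0 : L))) ≤ 1 := by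
        rw [map_div₀]
        exact (div_le_one₀ (zero_lt_iff.2 hv0)).2 (hj0 j hjT)
      obtain ⟨β, hβ⟩ := (ValuationRing.mem_integer_iff B L _).1
        ((Valuation.mem_integer_iff _ _).2 h1)
      have hβe : algebraMap B L β * (s j0 * (l j0 : L)) = s j * (l j : L) := by
        rw [hβ, div_mul_cancel₀ _ ht0]
      refine ⟨β, ?_, hβe⟩
      rw [mem_maximalIdeal, mem_nonunits_iff]
      intro hu
      obtain ⟨c, u, hcu⟩ := (claim1 j).resolve_left (fun h => hsj (by
        rw [hsdef]
        exact Finset.sum_eq_zero fun i _ => by rw [h i, map_zero, zero_mul]))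
      obtain ⟨c0, u0, hcu0⟩ := (claim1 j0).resolve_left (fun h => hsj0 (by
        rw [hsdef]
        exact Finset.sum_eq_zero fun i _ => by rw [h i, map_zero, zero_mul]))
      apply hl j0 j (Ne.symm hjne) (c0 * c⁻¹) (hu.unit * u0 * u⁻¹)
      rw [hcu, hcu0] at hβe
      have r1 : algebraMap K L (c : K) * algebraMap K L ((c⁻¹ : Kˣ) : K) = 1 := by
        rw [← map_mul, Units.mul_inv, map_one]
      have r2 : algebraMap B L (u : B) * algebraMap B L ((u⁻¹ : Bˣ) : B) = 1 := by
        rw [← map_mul, Units.mul_inv, map_one]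
      rw [Units.val_mul, Units.val_mul, Units.val_mul, map_mul, map_mul, map_mul,
        IsUnit.unit_spec]
      linear_combination (-(algebraMap K L ((c⁻¹ : Kˣ) : K) * algebraMap B L ((u⁻¹ : Bˣ) : B))) * hβe
        - (l j : L) * algebraMap B L (u : B) * algebraMap B L ((u⁻¹ : Bˣ) : B) * r1
        - (l j : L) * r2
    choose! β hβm hβe using hratio
    have hkey : (∑ j, s j * (l j : L))
        = algebraMap B L (1 + ∑ j ∈ T.erase j0, β j) * (s j0 * (l j0 : L)) := by
      have h1 : ∑ j, s j * (l j : L) = ∑ j ∈ T, s j * (l j : L) := by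
        rw [Finset.sum_filter]
        refine Finset.sum_congr rfl fun j _ => ?_
        by_cases h : s j = 0 <;> simp [h]
      have h2 : ∑ j ∈ T.erase j0, s j * (l j : L)
          = ∑ j ∈ T.erase j0, algebraMap B L (β j) * (s j0 * (l j0 : L)) :=
        Finset.sum_congr rfl fun j hj =>
          (hβe j (Finset.mem_of_mem_erase hj) (Finset.ne_of_mem_erase hj)).symm
      rw [h1, ← Finset.add_sum_erase T _ hj0T, h2, ← Finset.sum_mul, ← map_sum, map_add, map_one]
      ring
    rw [hsum] at hkey
    have hm : ∑ j ∈ T.erase j0, β j ∈ maximalIdeal B :=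
      Ideal.sum_mem _ fun j hj =>
        hβm j (Finset.mem_of_mem_erase hj) (Finset.ne_of_mem_erase hj)
    have hunit : IsUnit (1 + ∑ j ∈ T.erase j0, β j) := by
      by_contra hnu
      have h2 : (1 + ∑ j ∈ T.erase j0, β j) ∈ maximalIdeal B := (mem_maximalIdeal _).2 hnu
      have h3 : (1 : B) ∈ maximalIdeal B := by
        have := Ideal.sub_mem _ h2 hm
        simpa using this
      exact (Ideal.ne_top_iff_one _).1 (maximalIdeal.isMaximal B).ne_top h3
    have hne0 : algebraMap B L (1 + ∑ j ∈ T.erase j0, β j) ≠ 0 :=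
      (hunit.map (algebraMap B L)).ne_zero
    exact mul_ne_zero hne0 ht0 hkey.symm
  rintro ⟨i, j⟩
  rcases claim1 j with h | ⟨c, u, hcu⟩
  · exact h i
  · exfalso
    have h0 := hs0 j
    rw [hcu] at h0
    exact mul_ne_zero ((map_ne_zero (algebraMap K L)).2 c.ne_zero)
      ((u.isUnit.map (algebraMap B L)).ne_zero) h0

end Core

section Main

variable (A B K L : Type u) [CommRing A] [IsDomain A] [ValuationRing A] [CommRing B] [IsDomain B]
  [ValuationRing B] [Field K] [Field L] [Algebra A K] [IsFractionRing A K] [Algebra B L]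
  [IsFractionRing B L] [Algebra A B] [Algebra K L] [Algebra A L] [IsScalarTower A K L]
  [IsScalarTower A B L] [IsLocalHom (algebraMap A B)]

/-- The image of `Bˣ` in `Lˣ`. -/
abbrev UB : Subgroup Lˣ := (Units.map (algebraMap B L).toMonoidHom).range

/-- The image of `Kˣ` in `Lˣ ⧸ Bˣ`. -/
abbrev GA : Subgroup (Lˣ ⧸ UB B L) :=
  ((QuotientGroup.mk' (UB B L)).comp (Units.map (algebraMap K L).toMonoidHom)).range

theorem key [FiniteDimensional K L] {ι : Type v} {κ : Type w} [Fintype ι] [Fintype κ]
    (b : ι → B) (l : κ → Lˣ)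
    (hb : LinearIndependent (ResidueField A) (fun i => residue B (b i)))
    (hl : ∀ j j', j ≠ j' →
      (QuotientGroup.mk (QuotientGroup.mk (l j) : Lˣ ⧸ UB B L) : (Lˣ ⧸ UB B L) ⧸ GA B K L)
        ≠ QuotientGroup.mk (QuotientGroup.mk (l j') : Lˣ ⧸ UB B L)) :
    Fintype.card ι * Fintype.card κ ≤ Module.finrank K L := by
  classical
  have h := (core A B K L b l hb ?_).fintype_card_le_finrank
  · rwa [Fintype.card_prod] at h
  · intro j j' hne c u heq
    apply hl j j' hne
    rw [QuotientGroup.eq]
    refine ⟨c, ?_⟩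
    show (QuotientGroup.mk (Units.map (algebraMap K L).toMonoidHom c) : Lˣ ⧸ UB B L) = _
    rw [← QuotientGroup.mk_inv, ← QuotientGroup.mk_mul, QuotientGroup.eq]
    refine ⟨u, ?_⟩
    apply Units.ext
    have r1 : ((Units.map (algebraMap K L).toMonoidHom c : Lˣ) : L) = algebraMap K L c := rfl
    have r2 : ((Units.map (algebraMap B L).toMonoidHom u : Lˣ) : L) = algebraMap B L u := rfl
    rw [r2, Units.val_mul, Units.val_mul, Units.val_inv_eq_inv_val, Units.val_inv_eq_inv_val, r1,
      heq]
    have hC : algebraMap K L (c : K) ≠ 0 := (map_ne_zero (algebraMap K L)).2 c.ne_zero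
    have hl0 : (l j : L) ≠ 0 := (l j).ne_zero
    field_simp

theorem main (hinj : Function.Injective (algebraMap A B)) [FiniteDimensional K L] :
    let UB : Subgroup Lˣ := (Units.map (algebraMap B L).toMonoidHom).range
    let ΓA : Subgroup (Lˣ ⧸ UB) :=
      ((QuotientGroup.mk' UB).comp (Units.map (algebraMap K L).toMonoidHom)).range
    Module.Finite (IsLocalRing.ResidueField A) (IsLocalRing.ResidueField B) ∧ ΓA.index ≠ 0 ∧
      ΓA.index * Module.finrank (IsLocalRing.ResidueField A) (IsLocalRing.ResidueField B) ≤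
        Module.finrank K L := by
  classical
  intro UB' ΓA'
  show Module.Finite (ResidueField A) (ResidueField B) ∧ (GA B K L).index ≠ 0 ∧
      (GA B K L).index * Module.finrank (ResidueField A) (ResidueField B) ≤ Module.finrank K L
  have hres : ∀ y : ResidueField B, ∃ x : B, residue B x = y := residue_surjective
  choose lift hlift using hres
  have hfin : Module.Finite (ResidueField A) (ResidueField B) := by
    by_contra hnf
    have hrank : ((Module.finrank K L + 1 : ℕ) : Cardinal)
        ≤ Module.rank (ResidueField A) (ResidueField B) := by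
      have h1 : ¬ Module.rank (ResidueField A) (ResidueField B) < Cardinal.aleph0 :=
        fun h => hnf (Module.rank_lt_aleph0_iff.1 h)
      exact (Cardinal.natCast_lt_aleph0).le.trans (not_lt.1 h1)
    obtain ⟨s, hscard, hsli⟩ := (le_rank_iff_exists_linearIndependent_finset).1 hrank
    have h2 := key A B K L (ι := ↥(s : Set (ResidueField B))) (κ := PUnit.{1})
      (fun i => lift i.1) (fun _ => 1)
      (by simpa only [hlift] using hsli)
      (fun j j' h => absurd (Subsingleton.elim j j') h)
    have h3 : Fintype.card ↥(s : Set (ResidueField B)) = s.card := by simp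
    rw [h3, hscard, Fintype.card_punit, mul_one] at h2
    omega
  have hidx : (GA B K L).index ≠ 0 := by
    intro h0
    haveI : Infinite ((Lˣ ⧸ UB B L) ⧸ GA B K L) := Subgroup.index_eq_zero_iff_infinite.1 h0
    obtain ⟨s, hs⟩ := Infinite.exists_subset_card_eq ((Lˣ ⧸ UB B L) ⧸ GA B K L)
      (Module.finrank K L + 1)
    have h2 := key A B K L (ι := PUnit.{1}) (κ := ↥s)
      (fun _ => 1) (fun j => Quotient.out (Quotient.out j.1))
      (by
        rw [linearIndependent_unique_iff]
        simp)
      (fun j j' h => by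
        rw [QuotientGroup.out_eq', QuotientGroup.out_eq', QuotientGroup.out_eq',
          QuotientGroup.out_eq']
        exact fun h' => h (Subtype.ext h'))
    rw [Fintype.card_punit, one_mul, Fintype.card_coe, hs] at h2
    omega
  refine ⟨hfin, hidx, ?_⟩
  haveI := hfin
  haveI : Finite ((Lˣ ⧸ UB B L) ⧸ GA B K L) := by
    by_contra h
    rw [not_finite_iff_infinite] at h
    exact hidx (Subgroup.index_eq_zero_iff_infinite.2 h)
  haveI := Fintype.ofFinite ((Lˣ ⧸ UB B L) ⧸ GA B K L)
  let bas := Module.finBasis (ResidueField A) (ResidueField B)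
  have h2 := key A B K L (ι := Fin (Module.finrank (ResidueField A) (ResidueField B)))
    (κ := (Lˣ ⧸ UB B L) ⧸ GA B K L)
    (fun i => lift (bas i)) (fun q => Quotient.out (Quotient.out q))
    (by simpa only [hlift] using bas.linearIndependent)
    (fun j j' h => by
      rw [QuotientGroup.out_eq', QuotientGroup.out_eq', QuotientGroup.out_eq',
        QuotientGroup.out_eq']
      exact h)
  rw [Fintype.card_fin, ← Nat.card_eq_fintype_card, ← Subgroup.index_eq_card, mul_comm] at h2
  exact h2

end Main

end Groth.Agent.Lib.ValEF
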