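import Mathlib

/-!
# Étale-local algebras over valuation rings (helper8), part 1: generic lemmas

* `exists_dvd_all`: in a valuation ring, among finitely many elements one divides all the others.
* `exists_unit_coeff_poly`: an element algebraic over a valuation ring `A` (in a torsion-free
  algebra) is a root of a polynomial with a coefficient equal to one.
* `mem_or_inv_mem`: the `u, u⁻¹`-lemma: if `R` is a local ring integrally closed in a field `L`
  and `u : L` is a root of a polynomial over `R` with a unit coefficient, then `u` or `u⁻¹`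
  lies in `R`.
-/

set_option autoImplicit false
universe u

namespace Groth.Agent.Lib.ValEtH8

open Polynomial IsLocalRing

/-- In a valuation ring, among finitely many elements one divides all the others. -/
theorem exists_dvd_all {A : Type*} [CommRing A] [IsDomain A] [ValuationRing A] {ι : Type*}
    (s : Finset ι) (hs : s.Nonempty) (f : ι → A) : ∃ i ∈ s, ∀ j ∈ s, f i ∣ f j := by
  classical
  induction hs using Finset.Nonempty.cons_induction with
  | singleton a => exact ⟨a, Finset.mem_singleton_self a, fun j hj => by
      rw [Finset.mem_singleton] at hj; rw [hj]⟩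
  | cons a s ha hs ih =>
    obtain ⟨i, his, hi⟩ := ih
    rcases ValuationRing.dvd_total (f i) (f a) with h | h
    · refine ⟨i, Finset.mem_cons.mpr (Or.inr his), fun j hj => ?_⟩
      rcases Finset.mem_cons.mp hj with rfl | hj
      · exact h
      · exact hi j hj
    · refine ⟨a, Finset.mem_cons_self a s, fun j hj => ?_⟩
      rcases Finset.mem_cons.mp hj with rfl | hj
      · exact dvd_rfl
      · exact h.trans (hi j hj)

/-- An element of a torsion-free algebra which is algebraic over a valuation ring is a root of a
polynomial one of whose coefficients is `1`. -/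
theorem exists_unit_coeff_poly {A L : Type*} [CommRing A] [IsDomain A] [ValuationRing A]
    [CommRing L] [Algebra A L] [Module.IsTorsionFree A L] (u : L)
    (hu : IsAlgebraic A u) : ∃ p : A[X], aeval u p = 0 ∧ ∃ i, p.coeff i = 1 := by
  classical
  obtain ⟨p, hp0, hpu⟩ := hu
  have hsupp : p.support.Nonempty := by
    rw [Finset.nonempty_iff_ne_empty, Ne, Polynomial.support_eq_empty]
    exact hp0
  obtain ⟨i, hi, hdiv⟩ := exists_dvd_all p.support hsupp p.coeff
  have hci : p.coeff i ≠ 0 := Polynomial.mem_support_iff.mp hi
  have hdiv' : ∀ j, p.coeff i ∣ p.coeff j := by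
    intro j
    by_cases hj : j ∈ p.support
    · exact hdiv j hj
    · rw [Polynomial.notMem_support_iff.mp hj]; exact dvd_zero _
  choose q hq using hdiv'
  let p₁ : A[X] := ∑ j ∈ p.support, C (q j) * X ^ j
  have hp₁ : p = C (p.coeff i) * p₁ := by
    conv_lhs => rw [p.as_sum_support_C_mul_X_pow]
    rw [Finset.mul_sum]
    refine Finset.sum_congr rfl fun j _ => ?_
    rw [← mul_assoc, ← C_mul, ← hq j]
  have hcoeff : p₁.coeff i = 1 := by
    have h1 : p.coeff i = p.coeff i * p₁.coeff i := by
      conv_lhs => rw [hp₁, coeff_C_mul]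
    have h2 : p.coeff i * 1 = p.coeff i * p₁.coeff i := by rw [mul_one]; exact h1
    exact (mul_left_cancel₀ hci h2).symm
  refine ⟨p₁, ?_, i, hcoeff⟩
  rw [hp₁, map_mul, aeval_C, Algebra.algebraMap_eq_smul_one, smul_mul_assoc, one_mul] at hpu
  exact (smul_eq_zero.mp hpu).resolve_left hci


/-- The `u, u⁻¹`-lemma (Kaplansky, Commutative Rings, Theorem 67): let `R` be a local ring,
integrally closed in the field `L`.  If `u : L` is a root of a polynomial over `R` with a unit
coefficient, then `u` or `u⁻¹` lies in (the image of) `R`. -/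
theorem mem_or_inv_mem {R L : Type*} [CommRing R] [IsLocalRing R] [Field L] [Algebra R L]
    (hint : ∀ x : L, IsIntegral R x → x ∈ (algebraMap R L).range) (u : L) :
    ∀ (n : ℕ) (p : R[X]), p.natDegree ≤ n → aeval u p = 0 → (∃ i, IsUnit (p.coeff i)) →
      u ∈ (algebraMap R L).range ∨ u⁻¹ ∈ (algebraMap R L).range := by
  intro n
  induction n with
  | zero =>
    intro p hdeg hpu ⟨i, hi⟩
    have hpC : p = C (p.coeff 0) := eq_C_of_natDegree_le_zero hdeg
    have hi0 : IsUnit (p.coeff 0) := by
      rcases Nat.eq_zero_or_pos i with rfl | hpos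
      · exact hi
      · rw [hpC, coeff_C, if_neg hpos.ne'] at hi
        exact absurd hi not_isUnit_zero
    rw [hpC, aeval_C] at hpu
    have : IsUnit (algebraMap R L (p.coeff 0)) := hi0.map _
    rw [hpu] at this
    exact absurd this not_isUnit_zero
  | succ n ih =>
    intro p hdeg hpu ⟨i, hi⟩
    by_cases hdeg' : p.natDegree ≤ n
    · exact ih p hdeg' hpu ⟨i, hi⟩
    have hdeg_eq : p.natDegree = n + 1 := le_antisymm hdeg (Nat.lt_of_not_le hdeg')
    -- `b = a_n u` is integral
    obtain ⟨b, hb⟩ := hint _ (isIntegral_leadingCoeff_smul p u hpu)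
    rw [Algebra.smul_def] at hb
    by_cases hlead : IsUnit p.leadingCoeff
    · left
      obtain ⟨v, hv⟩ := hlead
      refine ⟨(↑v⁻¹ : R) * b, ?_⟩
      rw [map_mul, hb, ← hv, ← mul_assoc, ← map_mul, Units.inv_mul, map_one, one_mul]
    -- the new polynomial of smaller degree
    let p' : R[X] := p.eraseLead + C b * X ^ n
    have hp'deg : p'.natDegree ≤ n := by
      refine (natDegree_add_le _ _).trans (max_le ?_ ?_)
      · have := eraseLead_natDegree_le p
        omega
      · exact (natDegree_C_mul_le _ _).trans (natDegree_X_pow_le n)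
    have hp'u : aeval u p' = 0 := by
      have h1 : aeval u p = aeval u p.eraseLead + algebraMap R L p.leadingCoeff * u ^ (n + 1) := by
        conv_lhs => rw [← eraseLead_add_C_mul_X_pow p, hdeg_eq]
        rw [map_add, map_mul, aeval_C, map_pow, aeval_X]
      show aeval u (p.eraseLead + C b * X ^ n) = 0
      rw [map_add, map_mul, aeval_C, map_pow, aeval_X, hb, mul_assoc, ← pow_succ', ← h1, hpu]
    have hp'coeff : ∀ j, j < n → p'.coeff j = p.coeff j := by
      intro j hj
      show (p.eraseLead + C b * X ^ n).coeff j = _
      rw [coeff_add, coeff_C_mul, coeff_X_pow, if_neg hj.ne, mul_zero, add_zero,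
        eraseLead_coeff_of_ne]
      rw [hdeg_eq]; omega
    have hp'n : p'.coeff n = p.coeff n + b := by
      show (p.eraseLead + C b * X ^ n).coeff n = _
      rw [coeff_add, coeff_C_mul, coeff_X_pow, if_pos rfl, mul_one, eraseLead_coeff_of_ne]
      rw [hdeg_eq]; omega
    have hin : i ≠ n + 1 := by
      rintro rfl
      apply hlead
      rw [leadingCoeff, hdeg_eq]
      exact hi
    have hile : i ≤ n + 1 := by
      by_contra h
      rw [coeff_eq_zero_of_natDegree_lt (by omega)] at hi
      exact not_isUnit_zero hi
    by_cases hi' : i < n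
    · exact ih p' hp'deg hp'u ⟨i, by rw [hp'coeff i hi']; exact hi⟩
    have hi_eq : i = n := by omega
    subst hi_eq
    by_cases hbu : IsUnit b
    · -- `u⁻¹ = a_n b⁻¹`
      right
      obtain ⟨v, hv⟩ := hbu
      refine ⟨p.leadingCoeff * (↑v⁻¹ : R), ?_⟩
      have hbL : algebraMap R L b ≠ 0 := by
        rw [← hv]; exact ((v.isUnit).map (algebraMap R L)).ne_zero
      have hu0 : u ≠ 0 := by
        rintro rfl
        rw [mul_zero] at hb
        exact hbL hb
      have hvinv : algebraMap R L (↑v⁻¹ : R) = (algebraMap R L b)⁻¹ := by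
        rw [← hv]
        exact eq_inv_of_mul_eq_one_left (by rw [← map_mul, Units.inv_mul, map_one])
      rw [map_mul, hvinv, hb, mul_inv, ← mul_assoc, mul_inv_cancel₀, one_mul]
      intro h0
      rw [h0, zero_mul] at hb
      exact hbL hb
    · have hbm : b ∈ maximalIdeal R := (mem_maximalIdeal b).mpr hbu
      have hunit : IsUnit (p.coeff i + b) := by
        by_contra hnu
        have h1 : p.coeff i + b ∈ maximalIdeal R := (mem_maximalIdeal _).mpr hnu
        have h2 : p.coeff i ∈ maximalIdeal R := by
          have := Ideal.sub_mem _ h1 hbm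
          rwa [add_sub_cancel_right] at this
        exact (mem_maximalIdeal _).mp h2 hi
      exact ih p' hp'deg hp'u ⟨i, by rw [hp'n]; exact hunit⟩

end Groth.Agent.Lib.ValEtH8
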