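import Mathlib
import Groth.Agent.Lib.ValEt1_helper8

/-!
# Étale-local algebras over valuation rings (helper8), part 2: the localization of an étale
algebra over a valuation ring at a prime over the maximal ideal is a valuation ring
-/

set_option autoImplicit false
universe u

namespace Groth.Agent.Lib.ValEtH8

open Polynomial IsLocalRing TensorProduct

section

/-- An Artinian reduced nontrivial ring with only trivial idempotents is a field. -/
theorem isField_of_idem (T : Type u) [CommRing T] [IsArtinianRing T] [IsReduced T] [Nontrivial T]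
    (h : ∀ e : T, e * e = e → e = 0 ∨ e = 1) : IsField T := by
  classical
  haveI : Finite (MaximalSpectrum T) := inferInstance
  haveI : Fintype (MaximalSpectrum T) := Fintype.ofFinite _
  let ε := IsArtinianRing.equivPi T
  have hsub : ∀ m₁ m₂ : MaximalSpectrum T, m₁ = m₂ := by
    intro m₁ m₂
    by_contra hne
    let e : T := ε.symm (Pi.single m₁ 1)
    have he : e * e = e := by
      show ε.symm _ * ε.symm _ = ε.symm _
      rw [← map_mul, ← Pi.single_mul, one_mul]
    have hεe : ε e = Pi.single m₁ 1 := AlgEquiv.apply_symm_apply _ _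
    rcases h e he with h0 | h1
    · rw [h0, map_zero] at hεe
      have h01 := congrFun hεe m₁
      rw [Pi.single_eq_same, Pi.zero_apply] at h01
      haveI : Nontrivial (T ⧸ m₁.asIdeal) := Ideal.Quotient.nontrivial_iff.mpr m₁.isMaximal.ne_top
      exact zero_ne_one h01
    · rw [h1, map_one] at hεe
      have h10 := congrFun hεe m₂
      rw [Pi.single_eq_of_ne (Ne.symm hne), Pi.one_apply] at h10
      haveI : Nontrivial (T ⧸ m₂.asIdeal) := Ideal.Quotient.nontrivial_iff.mpr m₂.isMaximal.ne_top
      exact one_ne_zero h10
  obtain ⟨M, hM⟩ := Ideal.exists_maximal T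
  haveI : IsLocalRing T := IsLocalRing.of_unique_max_ideal ⟨M, hM, fun M' hM' =>
    congrArg MaximalSpectrum.asIdeal (hsub ⟨M', hM'⟩ ⟨M, hM⟩)⟩
  exact IsArtinianRing.isField_of_isReduced_of_isLocalRing T

end


section setup

variable (A B : Type u) [CommRing A] [IsDomain A] [ValuationRing A] [CommRing B] [Algebra A B]
  [Algebra.Etale A B] (m : Ideal B) [m.IsPrime]
  (hm : m.comap (algebraMap A B) = maximalIdeal A)
  (R : Type u) [CommRing R] [Algebra A R] [Algebra B R] [IsScalarTower A B R]
  [IsLocalization.AtPrime R m]

include m in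
theorem flat_loc : Module.Flat A R := by
  haveI : Module.Flat B R := IsLocalization.flat R m.primeCompl
  exact Module.Flat.trans A B R

include hm in
theorem comap_maximalIdeal_loc [IsLocalRing R] :
    (maximalIdeal R).comap (algebraMap A R) = maximalIdeal A := by
  have h1 : (maximalIdeal R).comap (algebraMap B R) = m :=
    IsLocalization.AtPrime.under_maximalIdeal R m
  rw [IsScalarTower.algebraMap_eq A B R, ← Ideal.comap_comap, h1, hm]

include hm in
theorem isLocalHom_loc [IsLocalRing R] : IsLocalHom (algebraMap A R) := by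
  refine ⟨fun a ha => ?_⟩
  by_contra hnu
  have h1 : a ∈ maximalIdeal A := (mem_maximalIdeal a).mpr hnu
  rw [← comap_maximalIdeal_loc A B m hm R, Ideal.mem_comap] at h1
  exact (mem_maximalIdeal _).mp h1 ha

include m hm in
theorem injective_loc : Function.Injective (algebraMap A R) := by
  haveI : IsLocalRing R := IsLocalization.AtPrime.isLocalRing R m
  haveI := flat_loc A B m R
  haveI := isLocalHom_loc A B m hm R
  haveI : Module.FaithfullyFlat A R := Module.FaithfullyFlat.of_flat_of_isLocalHom
  exact FaithfulSMul.algebraMap_injective A R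

end setup


section tensor

variable (A B : Type u) [CommRing A] [IsDomain A] [ValuationRing A] [CommRing B] [Algebra A B]
  [Algebra.Etale A B] (m : Ideal B) [m.IsPrime]
  (hm : m.comap (algebraMap A B) = maximalIdeal A)
  (R : Type u) [CommRing R] [Algebra A R] [Algebra B R] [IsScalarTower A B R]
  [IsLocalization.AtPrime R m]
  (K : Type u) [Field K] [Algebra A K] [IsFractionRing A K]

include m in
/-- Integral closure commutes with the base change `A → R`. -/
theorem toIntegralClosure_bijective_loc (C : Type u) [CommRing C] [Algebra A C] :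
    Function.Bijective (TensorProduct.toIntegralClosure A R C) := by
  refine TensorProduct.toIntegralClosure_bijective_of_tower (S := B)
    TensorProduct.toIntegralClosure_bijective_of_smooth
    (TensorProduct.toIntegralClosure_bijective_of_isLocalization m.primeCompl)

include m in
/-- `R` is integrally closed in `R ⊗[A] K`. -/
theorem mem_range_of_isIntegral (x : R ⊗[A] K) (hx : IsIntegral R x) :
    x ∈ (algebraMap R (R ⊗[A] K)).range := by
  obtain ⟨z, hz⟩ := (toIntegralClosure_bijective_loc A B m R K).2 ⟨x, hx⟩
  have key : ∀ z : R ⊗[A] integralClosure A K,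
      ((TensorProduct.toIntegralClosure A R K z : integralClosure R (R ⊗[A] K)) : R ⊗[A] K) ∈
        (algebraMap R (R ⊗[A] K)).range := by
    intro z
    induction z using TensorProduct.induction_on with
    | zero => rw [map_zero]; exact Subring.zero_mem _
    | tmul r k =>
      obtain ⟨a, ha⟩ := IsIntegrallyClosed.algebraMap_eq_of_integral (R := A) (K := K) k.2
      refine ⟨a • r, ?_⟩
      show (a • r) ⊗ₜ[A] (1 : K) = r ⊗ₜ[A] (k : K)
      rw [← ha, TensorProduct.smul_tmul, Algebra.smul_def, mul_one]
    | add x y hx hy =>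
      rw [map_add]
      exact Subring.add_mem _ hx hy
  have := key z
  rw [hz] at this
  exact this

end tensor


section field

variable (A B : Type u) [CommRing A] [IsDomain A] [ValuationRing A] [CommRing B] [Algebra A B]
  [Algebra.Etale A B] (m : Ideal B) [m.IsPrime]
  (hm : m.comap (algebraMap A B) = maximalIdeal A)
  (R : Type u) [CommRing R] [Algebra A R] [Algebra B R] [IsScalarTower A B R]
  [IsLocalization.AtPrime R m]
  (K : Type u) [Field K] [Algebra A K] [IsFractionRing A K]

/-- `B ⊗[A] K` is Artinian and reduced. -/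
theorem artinian_reduced_baseChange : IsArtinianRing (B ⊗[A] K) ∧ IsReduced (B ⊗[A] K) := by
  haveI : Module.Finite K (K ⊗[A] B) := Algebra.FormallyUnramified.finite_of_free K (K ⊗[A] B)
  haveI : IsArtinianRing (K ⊗[A] B) := IsArtinianRing.of_finite K (K ⊗[A] B)
  haveI : IsReduced (K ⊗[A] B) := Algebra.FormallyUnramified.isReduced_of_field K (K ⊗[A] B)
  let e : K ⊗[A] B ≃+* B ⊗[A] K := (Algebra.TensorProduct.comm A K B).toRingEquiv
  exact ⟨e.isArtinianRing, isReduced_of_injective e.symm e.symm.injective⟩

include m in
/-- `R ⊗[A] K` is Artinian and reduced, and a quotient of `B ⊗[A] K`. -/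
theorem artinian_reduced_loc : IsArtinianRing (R ⊗[A] K) ∧ IsReduced (R ⊗[A] K) ∧
    Function.Surjective (Algebra.TensorProduct.map (IsScalarTower.toAlgHom A B R)
      (AlgHom.id A K)) := by
  obtain ⟨h1, h2⟩ := artinian_reduced_baseChange A B K
  letI : Algebra (B ⊗[A] K) (R ⊗[A] K) :=
    (Algebra.TensorProduct.map (IsScalarTower.toAlgHom A B R) (AlgHom.id A K)).toAlgebra
  haveI : IsScalarTower B (B ⊗[A] K) (R ⊗[A] K) :=
    IsScalarTower.of_algebraMap_eq (fun b => by
      simp [RingHom.algebraMap_toAlgebra])
  haveI : IsLocalization (Algebra.algebraMapSubmonoid (B ⊗[A] K) m.primeCompl) (R ⊗[A] K) :=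
    IsLocalization.tensorProduct_tensorProduct A K m.primeCompl R (by
      ext; simp [RingHom.algebraMap_toAlgebra])
  have hsurj : Function.Surjective (algebraMap (B ⊗[A] K) (R ⊗[A] K)) :=
    IsArtinianRing.localization_surjective
      (Algebra.algebraMapSubmonoid (B ⊗[A] K) m.primeCompl) (R ⊗[A] K)
  refine ⟨hsurj.isArtinianRing, ?_, hsurj⟩
  exact isReduced_localizationPreserves
    (Algebra.algebraMapSubmonoid (B ⊗[A] K) m.primeCompl) (R ⊗[A] K) inferInstance

end field


section main

variable (A B : Type u) [CommRing A] [IsDomain A] [ValuationRing A] [CommRing B] [Algebra A B]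
  [Algebra.Etale A B] (m : Ideal B) [m.IsPrime]
  (hm : m.comap (algebraMap A B) = maximalIdeal A)
  (R : Type u) [CommRing R] [Algebra A R] [Algebra B R] [IsScalarTower A B R]
  [IsLocalization.AtPrime R m]
  (K : Type u) [Field K] [Algebra A K] [IsFractionRing A K]

include m in
theorem algebraMap_tensor_injective : Function.Injective (algebraMap R (R ⊗[A] K)) := by
  haveI := flat_loc A B m R
  exact Algebra.TensorProduct.includeLeft_injective (S := R) (IsFractionRing.injective A K)

include m in
/-- `R ⊗[A] K` is a field. -/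
theorem isField_tensor : IsField (R ⊗[A] K) := by
  haveI : IsLocalRing R := IsLocalization.AtPrime.isLocalRing R m
  obtain ⟨h1, h2, -⟩ := artinian_reduced_loc A B m R K
  have hinj := algebraMap_tensor_injective A B m R K
  haveI : Nontrivial (R ⊗[A] K) := hinj.nontrivial
  refine isField_of_idem (R ⊗[A] K) fun e he => ?_
  have hint : IsIntegral R e := by
    refine ⟨X ^ 2 - X, monic_X_pow_sub (by simp), ?_⟩
    simp [pow_two, he]
  obtain ⟨r, rfl⟩ := mem_range_of_isIntegral A B m R K e hint
  have hr : r * r = r := hinj (by rw [map_mul]; exact he)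
  by_cases hu : IsUnit r
  · right
    obtain ⟨v, rfl⟩ := hu
    have : (v : R) = 1 := by
      have := congrArg (fun x => (↑v⁻¹ : R) * x) hr
      simpa using this
    rw [this, map_one]
  · left
    have h1r : IsUnit (1 - r) := by
      have hmem : r ∈ maximalIdeal R := (mem_maximalIdeal r).mpr hu
      by_contra h
      have h2 : 1 - r ∈ maximalIdeal R := (mem_maximalIdeal _).mpr h
      have := Ideal.add_mem _ h2 hmem
      rw [sub_add_cancel] at this
      exact (Ideal.ne_top_iff_one _).mp (maximalIdeal.isMaximal R).ne_top this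
    obtain ⟨v, hv⟩ := h1r
    have h0 : (1 - r) * r = 0 := by rw [sub_mul, one_mul, hr, sub_self]
    rw [← hv] at h0
    have : r = 0 := by
      have := congrArg (fun x => (↑v⁻¹ : R) * x) h0
      simpa using this
    rw [this, map_zero]

end main


section valuation

variable (A B : Type u) [CommRing A] [IsDomain A] [ValuationRing A] [CommRing B] [Algebra A B]
  [Algebra.Etale A B] (m : Ideal B) [m.IsPrime]
  (hm : m.comap (algebraMap A B) = maximalIdeal A)
  (R : Type u) [CommRing R] [Algebra A R] [Algebra B R] [IsScalarTower A B R]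
  [IsLocalization.AtPrime R m]
  (K : Type u) [Field K] [Algebra A K] [IsFractionRing A K]

include m in
/-- Every element of `R ⊗[A] K` is algebraic over `A`. -/
theorem isAlgebraic_tensor (z : R ⊗[A] K) : IsAlgebraic A z := by
  obtain ⟨-, -, hsurj⟩ := artinian_reduced_loc A B m R K
  haveI : Module.Finite K (K ⊗[A] B) := Algebra.FormallyUnramified.finite_of_free K (K ⊗[A] B)
  haveI : Algebra.IsAlgebraic K (K ⊗[A] B) := Algebra.IsAlgebraic.of_finite K (K ⊗[A] B)
  haveI : Algebra.IsAlgebraic A K := IsLocalization.isAlgebraic K (nonZeroDivisors A)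
  haveI : Algebra.IsAlgebraic A (K ⊗[A] B) := Algebra.IsAlgebraic.trans A K (K ⊗[A] B)
  obtain ⟨w, rfl⟩ := hsurj z
  obtain ⟨w', rfl⟩ := (Algebra.TensorProduct.comm A K B).surjective w
  exact ((Algebra.IsAlgebraic.isAlgebraic w').algHom
    (Algebra.TensorProduct.comm A K B).toAlgHom).algHom _

include m in
/-- Every element of the field `R ⊗[A] K` lies in `R` or has its inverse in `R`. -/
theorem mem_range_or_exists_inv (z : R ⊗[A] K) :
    z ∈ (algebraMap R (R ⊗[A] K)).range ∨ ∃ r : R, z * algebraMap R (R ⊗[A] K) r = 1 := by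
  haveI : IsLocalRing R := IsLocalization.AtPrime.isLocalRing R m
  haveI := flat_loc A B m R
  haveI : Module.Flat A K := IsLocalization.flat K (nonZeroDivisors A)
  haveI : Module.Flat A (R ⊗[A] K) := inferInstance
  haveI : Module.IsTorsionFree A (R ⊗[A] K) := inferInstance
  by_cases hz : z = 0
  · exact Or.inl ⟨0, by rw [map_zero, hz]⟩
  obtain ⟨p, hp, i, hi⟩ := exists_unit_coeff_poly (A := A) (L := R ⊗[A] K) z
    (isAlgebraic_tensor A B m R K z)
  letI : Field (R ⊗[A] K) := (isField_tensor A B m R K).toField
  have h := mem_or_inv_mem (R := R) (L := R ⊗[A] K)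
    (fun x hx => mem_range_of_isIntegral A B m R K x hx) z _ (p.map (algebraMap A R)) le_rfl
    (by rw [aeval_map_algebraMap]; exact hp)
    ⟨i, by rw [coeff_map, hi, map_one]; exact isUnit_one⟩
  rcases h with h | ⟨r, hr⟩
  · exact Or.inl h
  · exact Or.inr ⟨r, by rw [hr]; exact mul_inv_cancel₀ hz⟩

end valuation


section conclusion


theorem isDomain_loc (A B : Type u) [CommRing A] [IsDomain A] [ValuationRing A] [CommRing B] [Algebra A B]
    [Algebra.Etale A B] (m : Ideal B) [m.IsPrime]
    (R : Type u) [CommRing R] [Algebra A R] [Algebra B R] [IsScalarTower A B R]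
    [IsLocalization.AtPrime R m] : IsDomain R := by
  have hinj := algebraMap_tensor_injective A B m R (FractionRing A)
  letI : Field (R ⊗[A] FractionRing A) := (isField_tensor A B m R (FractionRing A)).toField
  exact hinj.isDomain (algebraMap R (R ⊗[A] FractionRing A))

theorem dvd_total_loc (A B : Type u) [CommRing A] [IsDomain A] [ValuationRing A] [CommRing B] [Algebra A B]
    [Algebra.Etale A B] (m : Ideal B) [m.IsPrime]
    (R : Type u) [CommRing R] [Algebra A R] [Algebra B R] [IsScalarTower A B R]
    [IsLocalization.AtPrime R m]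
    (a b : R) : a ∣ b ∨ b ∣ a := by
  have hinj := algebraMap_tensor_injective A B m R (FractionRing A)
  by_cases hb : b = 0
  · exact Or.inl (hb ▸ dvd_zero a)
  have hb' : algebraMap R (R ⊗[A] FractionRing A) b ≠ 0 := fun h =>
    hb (hinj (by rw [h, map_zero]))
  obtain ⟨binv, hbinv⟩ := (isField_tensor A B m R (FractionRing A)).mul_inv_cancel hb'
  rcases mem_range_or_exists_inv A B m R (FractionRing A)
    (algebraMap R (R ⊗[A] FractionRing A) a * binv) with ⟨c, hc⟩ | ⟨r, hr⟩
  · right
    refine ⟨c, hinj ?_⟩
    rw [map_mul, hc, mul_comm _ (_ * binv), mul_assoc, mul_comm binv, hbinv, mul_one]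
  · left
    refine ⟨r, hinj ?_⟩
    rw [map_mul]
    calc algebraMap R (R ⊗[A] FractionRing A) b
        = algebraMap R (R ⊗[A] FractionRing A) b *
          (algebraMap R (R ⊗[A] FractionRing A) a * binv *
            algebraMap R (R ⊗[A] FractionRing A) r) := by rw [hr, mul_one]
      _ = (algebraMap R (R ⊗[A] FractionRing A) b * binv) *
          (algebraMap R (R ⊗[A] FractionRing A) a *
            algebraMap R (R ⊗[A] FractionRing A) r) := by ring
      _ = _ := by rw [hbinv, one_mul]

theorem valuationRing_loc (A B : Type u) [CommRing A] [IsDomain A] [ValuationRing A] [CommRing B] [Algebra A B]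
    [Algebra.Etale A B] (m : Ideal B) [m.IsPrime]
    (R : Type u) [CommRing R] [Algebra A R] [Algebra B R] [IsScalarTower A B R]
    [IsLocalization.AtPrime R m]
    [IsDomain R] : ValuationRing R :=
  ValuationRing.iff_dvd_total.mpr ⟨dvd_total_loc A B m R⟩

end conclusion

end Groth.Agent.Lib.ValEtH8
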