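import Mathlib
import Groth.Agent.Lib.ValEt2_helper8

/-!
# Étale-local algebras over valuation rings (helper8), part 3: weak unramifiedness
-/

set_option autoImplicit false
universe u

namespace Groth.Agent.Lib.ValEtH8

open Polynomial IsLocalRing TensorProduct

section relation

/-- In a valuation ring `R` which is a torsion-free algebra over a valuation ring `A`
(with `A → R` injective), an element algebraic over `A` is a unit or satisfies
`y ^ n = w * c` with `n ≥ 1`, `w` a unit and `c` in `A`. -/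
theorem exists_pow_eq_unit_mul {A R : Type*} [CommRing A] [IsDomain A] [ValuationRing A]
    [CommRing R] [IsDomain R] [ValuationRing R] [Algebra A R] [Module.IsTorsionFree A R]
    (hinj : Function.Injective (algebraMap A R)) (y : R) (hy0 : y ≠ 0) (hy : IsAlgebraic A y) :
    IsUnit y ∨ ∃ (n : ℕ) (_ : 0 < n) (c : A) (w : Rˣ), y ^ n = w * algebraMap A R c := by
  classical
  obtain ⟨p, hp, i, hi⟩ := exists_unit_coeff_poly y hy
  have hsupp : p.support.Nonempty := ⟨i, Polynomial.mem_support_iff.mpr (by rw [hi]; exact one_ne_zero)⟩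
  let t : ℕ → R := fun j => algebraMap A R (p.coeff j) * y ^ j
  have hsum : ∑ j ∈ p.support, t j = 0 := by
    rw [← hp, aeval_def, eval₂_eq_sum, Polynomial.sum_def]
  obtain ⟨i₀, hi₀, hdiv⟩ := exists_dvd_all p.support hsupp t
  have hy_pow : ∀ j, y ^ j ≠ 0 := fun j => pow_ne_zero j hy0
  have hcoeff_ne : ∀ j ∈ p.support, algebraMap A R (p.coeff j) ≠ 0 := fun j hj =>
    (map_ne_zero_iff _ hinj).mpr (Polynomial.mem_support_iff.mp hj)
  have ht₀ : t i₀ ≠ 0 := mul_ne_zero (hcoeff_ne i₀ hi₀) (hy_pow i₀)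
  -- the quotients
  have hq : ∀ j, ∃ q : R, j ∈ p.support → t j = t i₀ * q := fun j => by
    by_cases hj : j ∈ p.support
    · obtain ⟨q, hq⟩ := hdiv j hj
      exact ⟨q, fun _ => hq⟩
    · exact ⟨0, fun h => absurd h hj⟩
  choose q hq using hq
  have hqsum : ∑ j ∈ p.support, q j = 0 := by
    have h1 : t i₀ * ∑ j ∈ p.support, q j = 0 := by
      rw [Finset.mul_sum, ← hsum]
      exact Finset.sum_congr rfl fun j hj => (hq j hj).symm
    exact (mul_eq_zero.mp h1).resolve_left ht₀
  have hq₀ : q i₀ = 1 := by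
    have h1 : t i₀ * 1 = t i₀ * q i₀ := by rw [mul_one]; exact hq i₀ hi₀
    exact (mul_left_cancel₀ ht₀ h1).symm
  -- some other quotient is a unit
  have hex : ∃ i₁ ∈ p.support, i₁ ≠ i₀ ∧ IsUnit (q i₁) := by
    by_contra hcon
    push Not at hcon
    have hmem : ∑ j ∈ p.support.erase i₀, q j ∈ maximalIdeal R := by
      refine Ideal.sum_mem _ fun j hj => ?_
      rw [Finset.mem_erase] at hj
      exact (mem_maximalIdeal _).mpr (hcon j hj.2 hj.1)
    rw [← Finset.add_sum_erase _ _ hi₀, hq₀] at hqsum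
    have h1 : (1 : R) ∈ maximalIdeal R := by
      have : (1 : R) = -∑ j ∈ p.support.erase i₀, q j := eq_neg_of_add_eq_zero_left hqsum
      rw [this]
      exact Ideal.neg_mem_iff _ |>.mpr hmem
    exact (Ideal.ne_top_iff_one _).mp (maximalIdeal.isMaximal R).ne_top h1
  obtain ⟨i₁, hi₁, hne, hu⟩ := hex
  obtain ⟨w, hw⟩ := hu
  have hrel : algebraMap A R (p.coeff i₁) * y ^ i₁ = algebraMap A R (p.coeff i₀) * y ^ i₀ * w := by
    rw [hw]; exact hq i₁ hi₁
  -- general form: `a' y ^ n = a w`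
  have key : ∀ (n : ℕ) (_ : 0 < n) (a a' : A) (_ : a ≠ 0) (_ : a' ≠ 0) (w : Rˣ),
      algebraMap A R a' * y ^ n = algebraMap A R a * w →
      IsUnit y ∨ ∃ (n : ℕ) (_ : 0 < n) (c : A) (w : Rˣ), y ^ n = w * algebraMap A R c := by
    intro n hn a a' ha ha' w h
    rcases ValuationRing.dvd_total a a' with ⟨c, hc⟩ | ⟨c, hc⟩
    · -- `a' = a c`: `c y^n = w`
      left
      have h1 : algebraMap A R a * (algebraMap A R c * y ^ n) = algebraMap A R a * w := by
        rw [← mul_assoc, ← map_mul, ← hc]; exact h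
      have h2 : algebraMap A R c * y ^ n = w :=
        mul_left_cancel₀ ((map_ne_zero_iff _ hinj).mpr ha) h1
      have h3 : IsUnit (y ^ n) := isUnit_of_mul_isUnit_right (h2 ▸ w.isUnit)
      exact (isUnit_pow_iff hn.ne').mp h3
    · -- `a = a' c`
      right
      refine ⟨n, hn, c, w, ?_⟩
      have h1 : algebraMap A R a' * y ^ n = algebraMap A R a' * (w * algebraMap A R c) := by
        rw [h, hc, map_mul]; ring
      exact mul_left_cancel₀ ((map_ne_zero_iff _ hinj).mpr ha') h1
  have hc₀ : p.coeff i₀ ≠ 0 := Polynomial.mem_support_iff.mp hi₀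
  have hc₁ : p.coeff i₁ ≠ 0 := Polynomial.mem_support_iff.mp hi₁
  rcases Nat.lt_or_gt_of_ne hne with hlt | hgt
  · -- `i₁ < i₀`
    refine key (i₀ - i₁) (by omega) (p.coeff i₁) (p.coeff i₀) hc₁ hc₀ w⁻¹ ?_
    have h1 : y ^ i₀ = y ^ i₁ * y ^ (i₀ - i₁) := by rw [← pow_add]; congr 1; omega
    rw [h1] at hrel
    have h2 : y ^ i₁ * algebraMap A R (p.coeff i₁) =
        y ^ i₁ * (algebraMap A R (p.coeff i₀) * y ^ (i₀ - i₁) * w) := by
      rw [mul_comm, hrel]; ring
    have h3 := mul_left_cancel₀ (hy_pow i₁) h2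
    rw [h3, mul_assoc, Units.mul_inv, mul_one]
  · -- `i₀ < i₁`
    refine key (i₁ - i₀) (by omega) (p.coeff i₀) (p.coeff i₁) hc₀ hc₁ w ?_
    have h1 : y ^ i₁ = y ^ i₀ * y ^ (i₁ - i₀) := by rw [← pow_add]; congr 1; omega
    rw [h1] at hrel
    have h2 : y ^ i₀ * (algebraMap A R (p.coeff i₁) * y ^ (i₁ - i₀)) =
        y ^ i₀ * (algebraMap A R (p.coeff i₀) * w) := by
      rw [← mul_assoc, mul_comm (y ^ i₀), mul_assoc, hrel]; ring
    exact mul_left_cancel₀ (hy_pow i₀) h2

end relation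


section closed

variable (A B : Type u) [CommRing A] [IsDomain A] [ValuationRing A] [CommRing B] [Algebra A B]
  [Algebra.Etale A B] (m : Ideal B) [m.IsPrime]
  (R : Type u) [CommRing R] [Algebra A R] [Algebra B R] [IsScalarTower A B R]
  [IsLocalization.AtPrime R m]

include m in
/-- Integral closure commutes with the base change `R → R ⊗[A] R`. -/
theorem toIntegralClosure_bijective_self (C : Type u) [CommRing C] [Algebra R C] :
    Function.Bijective (TensorProduct.toIntegralClosure R (R ⊗[A] R) C) := by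
  letI : Algebra (R ⊗[A] B) (R ⊗[A] R) :=
    (Algebra.TensorProduct.map (AlgHom.id R R) (IsScalarTower.toAlgHom A B R)).toAlgebra
  haveI : IsScalarTower R (R ⊗[A] B) (R ⊗[A] R) :=
    IsScalarTower.of_algebraMap_eq (fun r => by simp [RingHom.algebraMap_toAlgebra])
  haveI : IsLocalization (m.primeCompl.map (Algebra.TensorProduct.includeRight (R := A) (A := R)))
      (R ⊗[A] R) :=
    IsLocalization.tensorProduct_tensorProduct_right A R m.primeCompl R (by
      ext; simp [RingHom.algebraMap_toAlgebra])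
  exact TensorProduct.toIntegralClosure_bijective_of_tower (S := R ⊗[A] B)
    TensorProduct.toIntegralClosure_bijective_of_smooth
    (TensorProduct.toIntegralClosure_bijective_of_isLocalization
      (m.primeCompl.map (Algebra.TensorProduct.includeRight (R := A) (A := R))))

end closed


section closed2

variable (A B : Type u) [CommRing A] [IsDomain A] [ValuationRing A] [CommRing B] [Algebra A B]
  [Algebra.Etale A B] (m : Ideal B) [m.IsPrime]
  (R : Type u) [CommRing R] [Algebra A R] [Algebra B R] [IsScalarTower A B R]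
  [IsLocalization.AtPrime R m] [IsDomain R] [IsIntegrallyClosed R]

include m in
/-- `R ⊗[A] R` is integrally closed in `(R ⊗[A] R) ⊗[R] Frac R`. -/
theorem exists_eq_tmul_one (ξ : (R ⊗[A] R) ⊗[R] FractionRing R)
    (hξ : IsIntegral (R ⊗[A] R) ξ) : ∃ σ : R ⊗[A] R, ξ = σ ⊗ₜ[R] (1 : FractionRing R) := by
  obtain ⟨z, hz⟩ := (toIntegralClosure_bijective_self A B m R (FractionRing R)).2 ⟨ξ, hξ⟩
  have key : ∀ z : (R ⊗[A] R) ⊗[R] integralClosure R (FractionRing R),
      ∃ σ : R ⊗[A] R, ((TensorProduct.toIntegralClosure R (R ⊗[A] R) (FractionRing R) z :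
        integralClosure (R ⊗[A] R) ((R ⊗[A] R) ⊗[R] FractionRing R)) :
          (R ⊗[A] R) ⊗[R] FractionRing R) = σ ⊗ₜ[R] (1 : FractionRing R) := by
    intro z
    induction z using TensorProduct.induction_on with
    | zero => exact ⟨0, by rw [map_zero, TensorProduct.zero_tmul]; rfl⟩
    | tmul s k =>
      obtain ⟨r, hr⟩ := IsIntegrallyClosed.algebraMap_eq_of_integral (R := R)
        (K := FractionRing R) k.2
      refine ⟨r • s, ?_⟩
      show s ⊗ₜ[R] (k : FractionRing R) = (r • s) ⊗ₜ[R] (1 : FractionRing R)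
      rw [← hr, TensorProduct.smul_tmul, Algebra.smul_def, mul_one]
    | add x y hx hy =>
      obtain ⟨σ₁, h₁⟩ := hx
      obtain ⟨σ₂, h₂⟩ := hy
      refine ⟨σ₁ + σ₂, ?_⟩
      rw [map_add, TensorProduct.add_tmul, ← h₁, ← h₂]
      rfl
  obtain ⟨σ, hσ⟩ := key z
  rw [hz] at hσ
  exact ⟨σ, hσ⟩

end closed2


section descent

variable (A B : Type u) [CommRing A] [IsDomain A] [ValuationRing A] [CommRing B] [Algebra A B]
  [Algebra.Etale A B] (m : Ideal B) [m.IsPrime]
  (R : Type u) [CommRing R] [Algebra A R] [Algebra B R] [IsScalarTower A B R]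
  [IsLocalization.AtPrime R m] [IsDomain R] [IsIntegrallyClosed R]

include m in
/-- If `y ^ n = w c` with `w` a unit and `c` in `A`, then `1 ⊗ y` is a multiple of `y ⊗ 1`
in `R ⊗[A] R`. -/
theorem exists_mul_eq_one_tmul (y : R) (hy0 : y ≠ 0) (n : ℕ) (hn : 0 < n) (c : A) (w : Rˣ)
    (hyn : y ^ n = w * algebraMap A R c) :
    ∃ σ : R ⊗[A] R, (y ⊗ₜ[A] (1 : R)) * σ = (1 : R) ⊗ₜ[A] y := by
  haveI := flat_loc A B m R
  have hyL : algebraMap R (FractionRing R) y ≠ 0 :=
    (map_ne_zero_iff _ (IsFractionRing.injective R (FractionRing R))).mpr hy0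
  obtain ⟨yi, hyi⟩ : ∃ yi : FractionRing R, yi = (algebraMap R (FractionRing R) y)⁻¹ := ⟨_, rfl⟩
  have hyyi : algebraMap R (FractionRing R) y * yi = 1 := by rw [hyi]; exact mul_inv_cancel₀ hyL
  have hint : IsIntegral (R ⊗[A] R) (((1 : R) ⊗ₜ[A] y) ⊗ₜ[R] yi :
      (R ⊗[A] R) ⊗[R] FractionRing R) := by
    refine IsIntegral.of_pow hn ?_
    have h1 : ((((1 : R) ⊗ₜ[A] y) ⊗ₜ[R] yi : (R ⊗[A] R) ⊗[R] FractionRing R)) ^ n =
        algebraMap (R ⊗[A] R) ((R ⊗[A] R) ⊗[R] FractionRing R)
          ((↑w⁻¹ : R) • ((1 : R) ⊗ₜ[A] (w : R))) := by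
      rw [Algebra.TensorProduct.tmul_pow, Algebra.TensorProduct.tmul_pow, one_pow, hyn]
      have h2 : (1 : R) ⊗ₜ[A] ((w : R) * algebraMap A R c) =
          (algebraMap A R c) • ((1 : R) ⊗ₜ[A] (w : R)) := by
        rw [mul_comm, ← Algebra.smul_def, TensorProduct.tmul_smul, algebraMap_smul]
      rw [h2, TensorProduct.smul_tmul]
      have h3 : algebraMap A R c • yi ^ n = algebraMap R (FractionRing R) (↑w⁻¹ : R) := by
        have h4 : algebraMap R (FractionRing R) y ^ n * yi ^ n = 1 := by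
          rw [← mul_pow, hyyi, one_pow]
        have h5 : algebraMap R (FractionRing R) y ^ n =
            algebraMap R (FractionRing R) w * algebraMap R (FractionRing R) (algebraMap A R c) := by
          rw [← map_pow, hyn, map_mul]
        rw [Algebra.smul_def]
        have h6 : algebraMap R (FractionRing R) (↑w⁻¹ : R) * algebraMap R (FractionRing R) w = 1 := by
          rw [← map_mul, Units.inv_mul, map_one]
        calc algebraMap R (FractionRing R) (algebraMap A R c) * yi ^ n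
            = (algebraMap R (FractionRing R) (↑w⁻¹ : R) * algebraMap R (FractionRing R) w) *
              (algebraMap R (FractionRing R) (algebraMap A R c) * yi ^ n) := by rw [h6, one_mul]
          _ = algebraMap R (FractionRing R) (↑w⁻¹ : R) *
              ((algebraMap R (FractionRing R) w *
                algebraMap R (FractionRing R) (algebraMap A R c)) * yi ^ n) := by ring
          _ = _ := by rw [← h5, h4, mul_one]
      rw [h3, Algebra.TensorProduct.algebraMap_apply, Algebra.algebraMap_eq_smul_one (↑w⁻¹ : R),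
        ← TensorProduct.smul_tmul]
      rfl
    rw [h1]
    exact isIntegral_algebraMap
  obtain ⟨σ, hσ⟩ := exists_eq_tmul_one A B m R _ hint
  refine ⟨σ, ?_⟩
  haveI : Module.Flat R (R ⊗[A] R) := inferInstance
  have hinj : Function.Injective
      (Algebra.TensorProduct.includeLeft : R ⊗[A] R →ₐ[R] (R ⊗[A] R) ⊗[R] FractionRing R) :=
    Algebra.TensorProduct.includeLeft_injective (S := R)
      (IsFractionRing.injective R (FractionRing R))
  apply hinj
  show ((y ⊗ₜ[A] (1 : R)) * σ) ⊗ₜ[R] (1 : FractionRing R) =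
    ((1 : R) ⊗ₜ[A] y) ⊗ₜ[R] (1 : FractionRing R)
  have h7 : ((y ⊗ₜ[A] (1 : R)) * σ) ⊗ₜ[R] (1 : FractionRing R) =
      ((y ⊗ₜ[A] (1 : R)) ⊗ₜ[R] (1 : FractionRing R)) * (σ ⊗ₜ[R] (1 : FractionRing R)) := by
    rw [Algebra.TensorProduct.tmul_mul_tmul, mul_one]
  rw [h7, ← hσ, Algebra.TensorProduct.tmul_mul_tmul, Algebra.TensorProduct.tmul_mul_tmul, one_mul,
    mul_one, one_mul]
  have h8 : y ⊗ₜ[A] y = y • ((1 : R) ⊗ₜ[A] y) := by
    rw [TensorProduct.smul_tmul', smul_eq_mul, mul_one]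
  rw [h8, TensorProduct.smul_tmul, Algebra.smul_def, hyyi]

end descent


section flatness

/-- The flatness argument: if `1 ⊗ y` is a multiple of `y ⊗ 1` in `R ⊗[A] R` with `R` a flat
domain over the valuation ring `A`, then `y` is a unit multiple of an element of `A`. -/
theorem exists_unit_mul_of_tmul {A R : Type u} [CommRing A] [IsDomain A] [ValuationRing A]
    [CommRing R] [IsDomain R] [Algebra A R] [Module.Flat A R] (y : R) (hy0 : y ≠ 0)
    (σ : R ⊗[A] R) (hσ : (y ⊗ₜ[A] (1 : R)) * σ = (1 : R) ⊗ₜ[A] y) :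
    ∃ (a : A) (u : Rˣ), y = u * algebraMap A R a := by
  -- the ideal `𝔞 = A ∩ yR`
  obtain ⟨𝔞, h𝔞⟩ : ∃ 𝔞 : Ideal A, 𝔞 = (Ideal.span {y}).comap (algebraMap A R) := ⟨_, rfl⟩
  obtain ⟨N, hN⟩ : ∃ N : Submodule A R, N = (Ideal.span {y}).restrictScalars A := ⟨_, rfl⟩
  have hmemN : ∀ x : R, x ∈ N ↔ y ∣ x := fun x => by
    rw [hN, Submodule.restrictScalars_mem, Ideal.mem_span_singleton]
  have hmem𝔞 : ∀ a : A, a ∈ 𝔞 ↔ y ∣ algebraMap A R a := fun a => by
    rw [h𝔞, Ideal.mem_comap, Ideal.mem_span_singleton]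
  have hle : 𝔞 ≤ N.comap (Algebra.linearMap A R) := fun a ha => by
    rw [Submodule.mem_comap, Algebra.linearMap_apply, hmemN]
    exact (hmem𝔞 a).mp ha
  let f : A ⧸ 𝔞 →ₗ[A] R ⧸ N := Submodule.mapQ 𝔞 N (Algebra.linearMap A R) hle
  have hf : Function.Injective f := by
    rw [injective_iff_map_eq_zero]
    intro x hx
    obtain ⟨a, rfl⟩ := Submodule.Quotient.mk_surjective _ x
    rw [Submodule.mapQ_apply, Submodule.Quotient.mk_eq_zero, Algebra.linearMap_apply, hmemN] at hx
    rw [Submodule.Quotient.mk_eq_zero]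
    exact (hmem𝔞 a).mpr hx
  have hfT : Function.Injective (f.rTensor R) :=
    Module.Flat.rTensor_preserves_injective_linearMap f hf
  -- the image of `1 ⊗ y` in `(R ⧸ N) ⊗ R` vanishes
  have hzero : ∀ τ : R ⊗[A] R, (N.mkQ.rTensor R) ((y ⊗ₜ[A] (1 : R)) * τ) = 0 := by
    intro τ
    induction τ using TensorProduct.induction_on with
    | zero => rw [mul_zero, map_zero]
    | tmul r s =>
      rw [Algebra.TensorProduct.tmul_mul_tmul, LinearMap.rTensor_tmul, Submodule.mkQ_apply,
        (Submodule.Quotient.mk_eq_zero N).mpr ((hmemN _).mpr (Dvd.intro r rfl)),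
        TensorProduct.zero_tmul]
    | add x z hx hz => rw [mul_add, map_add, hx, hz, add_zero]
  have h1 : (f.rTensor R) ((Submodule.Quotient.mk (1 : A) : A ⧸ 𝔞) ⊗ₜ[A] y) = 0 := by
    rw [LinearMap.rTensor_tmul, Submodule.mapQ_apply, Algebra.linearMap_apply, map_one]
    have := hzero σ
    rw [hσ, LinearMap.rTensor_tmul, Submodule.mkQ_apply] at this
    exact this
  have h2 : ((Submodule.Quotient.mk (1 : A) : A ⧸ 𝔞) ⊗ₜ[A] y) = 0 :=
    hfT (by rw [h1, map_zero])
  have h3 : y ∈ 𝔞 • (⊤ : Submodule A R) := by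
    have := congrArg (TensorProduct.quotTensorEquivQuotSMul R 𝔞) h2
    rw [map_zero] at this
    have h4 : (Submodule.Quotient.mk (1 : A) : A ⧸ 𝔞) = Ideal.Quotient.mk 𝔞 1 := rfl
    rw [h4, TensorProduct.quotTensorEquivQuotSMul_mk_tmul, one_smul,
      Submodule.Quotient.mk_eq_zero] at this
    exact this
  -- hence `y ∈ c R` for a single `c ∈ 𝔞`
  have h5 : ∃ c ∈ 𝔞, algebraMap A R c ∣ y := by
    refine Submodule.smul_induction_on h3 ?_ ?_
    · intro c hc x _
      exact ⟨c, hc, ⟨x, by rw [Algebra.smul_def]⟩⟩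
    · rintro x z ⟨c₁, hc₁, hx⟩ ⟨c₂, hc₂, hz⟩
      rcases ValuationRing.dvd_total c₁ c₂ with h | h
      · exact ⟨c₁, hc₁, dvd_add hx (((algebraMap A R).map_dvd h).trans hz)⟩
      · exact ⟨c₂, hc₂, dvd_add (((algebraMap A R).map_dvd h).trans hx) hz⟩
  obtain ⟨c, hc, r, hr⟩ := h5
  obtain ⟨r', hr'⟩ := (hmem𝔞 c).mp hc
  have h6 : r' * r = 1 := by
    have : y * 1 = y * (r' * r) := by
      rw [mul_one, ← mul_assoc, ← hr', ← hr]
    exact (mul_left_cancel₀ hy0 this).symm
  have hru : IsUnit r := .of_mul_eq_one_right r' h6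
  obtain ⟨u, hu⟩ := hru
  exact ⟨c, u, by rw [hu, mul_comm]; exact hr⟩

end flatness


section final

/-- **Weak unramifiedness**: every nonzero element of the localization `R` of an étale algebra
over a valuation ring `A` at a prime over the maximal ideal is a unit multiple of an element
of `A`. -/
theorem exists_unit_mul_loc (A B : Type u) [CommRing A] [IsDomain A] [ValuationRing A]
    [CommRing B] [Algebra A B] [Algebra.Etale A B] (m : Ideal B) [m.IsPrime]
    (hm : m.comap (algebraMap A B) = maximalIdeal A)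
    (R : Type u) [CommRing R] [Algebra A R] [Algebra B R] [IsScalarTower A B R]
    [IsLocalization.AtPrime R m] [IsDomain R] (y : R) (hy0 : y ≠ 0) :
    ∃ (a : A) (u : Rˣ), y = u * algebraMap A R a := by
  haveI := valuationRing_loc A B m R
  haveI : IsIntegrallyClosed R := inferInstance
  haveI := flat_loc A B m R
  have hinj := injective_loc A B m hm R
  have hinjT := algebraMap_tensor_injective A B m R (FractionRing A)
  have hyalg : IsAlgebraic A y := by
    have h1 := isAlgebraic_tensor A B m R (FractionRing A)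
      ((IsScalarTower.toAlgHom A R (R ⊗[A] FractionRing A)) y)
    exact (isAlgebraic_algHom_iff (IsScalarTower.toAlgHom A R (R ⊗[A] FractionRing A))
      hinjT).mp h1
  rcases exists_pow_eq_unit_mul hinj y hy0 hyalg with hu | ⟨n, hn, c, w, hyn⟩
  · obtain ⟨u, hu⟩ := hu
    exact ⟨1, u, by rw [map_one, mul_one, hu]⟩
  · obtain ⟨σ, hσ⟩ := exists_mul_eq_one_tmul A B m R y hy0 n hn c w hyn
    exact exists_unit_mul_of_tmul y hy0 σ hσ

end final

end Groth.Agent.Lib.ValEtH8
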