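import Mathlib
import Groth.Prelude.Def_Hensel
import Groth.Agent.Lib.ValEt3_helper8
import Groth.Agent.Lib.Henselization8_helper3
import Groth.Agent.Lib.StrictHens8_lead

/-!
# Étale-local algebras over valuation rings (helper8), part 4: the henselization and the strict
henselization of a valuation ring are valuation rings with the same value group
-/

set_option autoImplicit false
universe u

namespace Groth.Agent.Lib.ValEtH8

open IsLocalRing

/-- If every nonzero element of `S` is a unit multiple of an element of the valuation ring `A`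
(and `A → S` is injective), then `S` is a valuation ring. -/
theorem of_forall_unit_mul {A S : Type*} [CommRing A] [IsDomain A] [ValuationRing A] [CommRing S]
    [Nontrivial S] [Algebra A S] (hinj : Function.Injective (algebraMap A S))
    (h : ∀ s : S, s ≠ 0 → ∃ (a : A) (u : Sˣ), s = u * algebraMap A S a) :
    IsDomain S ∧ (∀ _ : IsDomain S, ValuationRing S) := by
  have hdom : IsDomain S := by
    haveI : NoZeroDivisors S := by
      refine ⟨fun {s s'} hss' => ?_⟩
      by_contra hcon
      rw [not_or] at hcon
      obtain ⟨a, u, rfl⟩ := h s hcon.1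
      obtain ⟨a', u', rfl⟩ := h s' hcon.2
      have h1 : algebraMap A S (a * a') = 0 := by
        have h2 : (u : S) * (u' : S) * algebraMap A S (a * a') = 0 := by
          rw [map_mul, ← hss']; ring
        rw [← Units.val_mul] at h2
        exact (Units.mul_right_eq_zero _).mp h2
      have h3 : a * a' = 0 := hinj (by rw [h1, map_zero])
      rcases mul_eq_zero.mp h3 with h0 | h0
      · exact hcon.1 (by rw [h0, map_zero, mul_zero])
      · exact hcon.2 (by rw [h0, map_zero, mul_zero])
    exact NoZeroDivisors.to_isDomain S
  refine ⟨hdom, fun _ => ?_⟩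
  refine ValuationRing.iff_dvd_total.mpr ⟨fun s s' => ?_⟩
  by_cases hs : s = 0
  · exact Or.inr (hs ▸ dvd_zero s')
  by_cases hs' : s' = 0
  · exact Or.inl (hs' ▸ dvd_zero s)
  obtain ⟨a, u, rfl⟩ := h s hs
  obtain ⟨a', u', rfl⟩ := h s' hs'
  rcases ValuationRing.dvd_total a a' with hd | hd
  · left
    exact (Units.mul_left_dvd).mpr (Dvd.dvd.mul_left ((algebraMap A S).map_dvd hd) _)
  · right
    exact (Units.mul_left_dvd).mpr (Dvd.dvd.mul_left ((algebraMap A S).map_dvd hd) _)


section hens

open Groth.Agent.Lib.HenselizationH3 in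
/-- Every nonzero element of the henselization `Hens A` of a valuation ring is a unit multiple
of an element of `A`. -/
theorem hens_exists_unit_mul (A : Type u) [CommRing A] [IsDomain A] [ValuationRing A]
    (z : Hens A) (hz : z ≠ 0) : ∃ (a : A) (u : (Hens A)ˣ), z = u * algebraMap A (Hens A) a := by
  obtain ⟨i, x, rfl⟩ := exists_ofH z
  have hx0 : x ≠ 0 := fun h => hz (by rw [h, map_zero])
  haveI : IsDomain i.A := isDomain_loc A i.C (RingHom.ker i.pt) i.A
  obtain ⟨a, u, hx⟩ := exists_unit_mul_loc A i.C (RingHom.ker i.pt) (ker_comap i.pt) i.A x hx0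
  refine ⟨a, Units.map (ofH i : i.A →* Hens A) u, ?_⟩
  rw [hx, map_mul, ofH_algebraMap]
  rfl

open Groth.Agent.Lib.StrictHens in
/-- Every nonzero element of the strict henselization `SHens A` of a valuation ring is a unit
multiple of an element of `A`. -/
theorem shens_exists_unit_mul (A : Type u) [CommRing A] [IsDomain A] [ValuationRing A]
    (z : SHens A) (hz : z ≠ 0) : ∃ (a : A) (u : (SHens A)ˣ), z = u * algebraMap A (SHens A) a := by
  obtain ⟨i, x, rfl⟩ := exists_ofH z
  have hx0 : x ≠ 0 := fun h => hz (by rw [h, map_zero])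
  haveI : IsDomain i.A := isDomain_loc A i.C (RingHom.ker i.pt) i.A
  obtain ⟨a, u, hx⟩ := exists_unit_mul_loc A i.C (RingHom.ker i.pt) (ker_comap i.pt) i.A x hx0
  refine ⟨a, Units.map (ofH i : i.A →* SHens A) u, ?_⟩
  rw [hx, map_mul, ofH_algebraMap]
  rfl

/-- Transfer along a ring isomorphism compatible with the structure maps. -/
theorem exists_unit_mul_of_ringEquiv {A S S' : Type*} [CommRing A] [CommRing S] [CommRing S']
    [Algebra A S] [Algebra A S'] (e : S ≃+* S')
    (he : ∀ r, e (algebraMap A S r) = algebraMap A S' r)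
    (h : ∀ s : S', s ≠ 0 → ∃ (a : A) (u : S'ˣ), s = u * algebraMap A S' a) :
    ∀ s : S, s ≠ 0 → ∃ (a : A) (u : Sˣ), s = u * algebraMap A S a := by
  intro s hs
  have hes : e s ≠ 0 := fun h0 => hs (e.injective (by rw [h0, map_zero]))
  obtain ⟨a, u, hu⟩ := h (e s) hes
  refine ⟨a, Units.map (e.symm : S' →* S) u, ?_⟩
  apply e.injective
  rw [hu, map_mul, he]
  congr 1
  exact (e.apply_symm_apply _).symm

end hens

section main

open Groth.Agent.Lib.HenselizationH3 Groth.Agent.Lib.StrictHens in
/-- The henselization and the strict henselization of a valuation ring are valuation rings with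
the same value group. -/
theorem hens_valuationRing (A S : Type u) [CommRing A] [IsDomain A] [ValuationRing A] [CommRing S]
    [IsLocalRing S] [Algebra A S] [IsLocalHom (algebraMap A S)]
    (h : Hensel.IsHenselization A S ∨ Hensel.IsStrictHenselization A S) :
    IsDomain S ∧ (∀ _ : IsDomain S, ValuationRing S) ∧ Function.Injective (algebraMap A S) ∧
      ∀ s : S, s ≠ 0 → ∃ (a : A) (u : Sˣ), s = u * algebraMap A S a := by
  have hinj : Function.Injective (algebraMap A S) := by
    rcases h with h | h
    · haveI := h
      haveI := faithfullyFlat_of_isHenselization (R := A) S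
      exact FaithfulSMul.algebraMap_injective A S
    · haveI := h
      haveI := faithfullyFlat_of_isStrictHenselization (R := A) S
      exact FaithfulSMul.algebraMap_injective A S
  have hmul : ∀ s : S, s ≠ 0 → ∃ (a : A) (u : Sˣ), s = u * algebraMap A S a := by
    rcases h with h | h
    · haveI := h
      obtain ⟨e, he⟩ := exists_ringEquiv_hens (R := A) S
      exact exists_unit_mul_of_ringEquiv e he (hens_exists_unit_mul A)
    · haveI := h
      obtain ⟨e, he⟩ := exists_ringEquiv_shens (R := A) S
      exact exists_unit_mul_of_ringEquiv e he (shens_exists_unit_mul A)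
  obtain ⟨h1, h2⟩ := of_forall_unit_mul hinj hmul
  exact ⟨h1, h2, hinj, hmul⟩

end main

end Groth.Agent.Lib.ValEtH8
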