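import Mathlib
import Groth.Agent.Lib.ValEt4_helper8

/-!
# Étale-local algebras over valuation rings (helper8), part 5: the Gauss valuation ring of a
polynomial ring over a valuation ring, and localizations of localizations
-/

set_option autoImplicit false
universe u

namespace Groth.Agent.Lib.ValEtH8

open IsLocalRing

section gauss

variable (V : Type u) [CommRing V] [IsDomain V] [ValuationRing V] (σ : Type*)

/-- The extension of the maximal ideal of `V` to the polynomial ring. -/
noncomputable def gaussIdeal : Ideal (MvPolynomial σ V) :=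
  (maximalIdeal V).map (MvPolynomial.C : V →+* MvPolynomial σ V)

instance gaussIdeal_isPrime : (gaussIdeal V σ).IsPrime := by
  have h : gaussIdeal V σ = RingHom.ker (MvPolynomial.map (σ := σ) (residue V)) := by
    rw [MvPolynomial.ker_map, ker_residue]
    rfl
  rw [h]
  exact RingHom.ker_isPrime _

theorem mem_gaussIdeal_iff (g : MvPolynomial σ V) :
    g ∈ gaussIdeal V σ ↔ ∀ d, g.coeff d ∈ maximalIdeal V :=
  MvPolynomial.mem_map_C_iff

/-- Every nonzero polynomial over a valuation ring is a constant times a polynomial outside the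
Gauss ideal. -/
theorem exists_eq_C_mul (g : MvPolynomial σ V) (hg : g ≠ 0) :
    ∃ (c : V) (g₁ : MvPolynomial σ V), g = MvPolynomial.C c * g₁ ∧ g₁ ∉ gaussIdeal V σ := by
  classical
  have hsupp : g.support.Nonempty := by
    rw [Finset.nonempty_iff_ne_empty, Ne, MvPolynomial.support_eq_empty]
    exact hg
  obtain ⟨i, hi, hdiv⟩ := exists_dvd_all g.support hsupp (fun d => g.coeff d)
  have hci : g.coeff i ≠ 0 := MvPolynomial.mem_support_iff.mp hi
  have hdiv' : ∀ d, g.coeff i ∣ g.coeff d := by
    intro d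
    by_cases hd : d ∈ g.support
    · exact hdiv d hd
    · rw [MvPolynomial.notMem_support_iff.mp hd]; exact dvd_zero _
  choose q hq using hdiv'
  let g₁ : MvPolynomial σ V := ∑ d ∈ g.support, MvPolynomial.monomial d (q d)
  have hg₁ : g = MvPolynomial.C (g.coeff i) * g₁ := by
    conv_lhs => rw [g.as_sum]
    rw [Finset.mul_sum]
    refine Finset.sum_congr rfl fun d _ => ?_
    rw [MvPolynomial.C_mul_monomial, ← hq d]
  refine ⟨g.coeff i, g₁, hg₁, fun hmem => ?_⟩
  have h1 : g.coeff i = g.coeff i * g₁.coeff i := by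
    conv_lhs => rw [hg₁, MvPolynomial.coeff_C_mul]
  have h2 : g.coeff i * 1 = g.coeff i * g₁.coeff i := by rw [mul_one]; exact h1
  have h3 : g₁.coeff i = 1 := (mul_left_cancel₀ hci h2).symm
  have h4 := (mem_gaussIdeal_iff V σ g₁).mp hmem i
  rw [h3] at h4
  exact (Ideal.ne_top_iff_one _).mp (maximalIdeal.isMaximal V).ne_top h4

/-- Every nonzero element of the Gauss localization is a unit times an element of `V`. -/
theorem gauss_exists_unit_mul (W : Type u) [CommRing W] [Algebra (MvPolynomial σ V) W]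
    [IsLocalization.AtPrime W (gaussIdeal V σ)] [Algebra V W]
    [IsScalarTower V (MvPolynomial σ V) W] (w : W) (hw : w ≠ 0) :
    ∃ (v : V) (u : Wˣ), w = u * algebraMap V W v := by
  obtain ⟨g, s, rfl⟩ := IsLocalization.exists_mk'_eq (gaussIdeal V σ).primeCompl w
  have hg0 : g ≠ 0 := by
    rintro rfl
    exact hw (IsLocalization.mk'_zero _)
  obtain ⟨c, g₁, hg, hg₁⟩ := exists_eq_C_mul V σ g hg0
  have hu₁ : IsUnit (algebraMap (MvPolynomial σ V) W g₁) :=
    IsLocalization.map_units W (⟨g₁, hg₁⟩ : (gaussIdeal V σ).primeCompl)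
  have hus : IsUnit (algebraMap (MvPolynomial σ V) W s) := IsLocalization.map_units W s
  obtain ⟨u₁, hu₁⟩ := hu₁
  obtain ⟨us, hus⟩ := hus
  refine ⟨c, u₁ * us⁻¹, ?_⟩
  rw [IsLocalization.mk'_eq_iff_eq_mul, hg, map_mul, Units.val_mul, ← hu₁, ← hus,
    IsScalarTower.algebraMap_apply V (MvPolynomial σ V) W, MvPolynomial.algebraMap_eq]
  have : (↑us⁻¹ : W) * (us : W) = 1 := Units.inv_mul us
  calc algebraMap (MvPolynomial σ V) W (MvPolynomial.C c) * (u₁ : W)
      = (u₁ : W) * algebraMap (MvPolynomial σ V) W (MvPolynomial.C c) * ((↑us⁻¹ : W) * (us : W)) := by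
        rw [this]; ring
    _ = _ := by ring

end gauss


section locloc

/-- If `S = M⁻¹R` with `M` disjoint from the prime `𝔭`, then `R_𝔭` is the localization of `S` at
the prime of elements of `S` that are not invertible in `R_𝔭`. -/
theorem isLocalization_atPrime_of_le {R S T : Type*} [CommRing R] [CommRing S] [CommRing T]
    [Algebra R S] [Algebra R T] [Algebra S T] [IsScalarTower R S T]
    (M : Submonoid R) [IsLocalization M S] (𝔭 : Ideal R) [𝔭.IsPrime] [IsLocalization.AtPrime T 𝔭]
    (hM : M ≤ 𝔭.primeCompl) (𝔭' : Ideal S) [𝔭'.IsPrime]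
    (h𝔭' : ∀ x : S, x ∈ 𝔭' ↔ ¬ IsUnit (algebraMap S T x)) : IsLocalization.AtPrime T 𝔭' := by
  haveI h1 : IsLocalization (𝔭.primeCompl.map (algebraMap R S)) T :=
    IsLocalization.isLocalization_of_submonoid_le S T M 𝔭.primeCompl hM
  refine IsLocalization.isLocalization_of_is_exists_mul_mem T
    (𝔭.primeCompl.map (algebraMap R S)) 𝔭'.primeCompl ?_ ?_
  · rintro _ ⟨a, ha, rfl⟩
    show algebraMap R S a ∉ 𝔭'
    rw [h𝔭', not_not, ← IsScalarTower.algebraMap_apply]
    exact IsLocalization.map_units T (⟨a, ha⟩ : 𝔭.primeCompl)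
  · rintro ⟨x, hx⟩
    have hxu : IsUnit (algebraMap S T x) := by
      have : x ∉ 𝔭' := hx
      rw [h𝔭', not_not] at this
      exact this
    obtain ⟨⟨a, s⟩, has⟩ := IsLocalization.surj M x
    refine ⟨algebraMap R S s, a, ?_, ?_⟩
    · show a ∉ 𝔭
      have h2 : algebraMap R T a = algebraMap S T x * algebraMap R T s := by
        rw [IsScalarTower.algebraMap_apply R S T a, ← has, map_mul,
          ← IsScalarTower.algebraMap_apply R S T]
      have h3 : IsUnit (algebraMap R T a) := by
        rw [h2]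
        exact hxu.mul (IsLocalization.map_units T (⟨s, hM s.2⟩ : 𝔭.primeCompl))
      exact (IsLocalization.AtPrime.isUnit_to_map_iff T 𝔭 a).mp h3
    · show algebraMap R S a = algebraMap R S s * x
      rw [← has, mul_comm]

end locloc


section goingdown

/-- Going down for the flat map `P → Af`: a prime `Q` of the localization `Af` of `A` whose
contraction to `A` is minimal over `I` contracts to `q₀` in `P`, provided `q₀ ⊆ Q ∩ P` and every
prime of `Af` over `q₀` contains (the image of) `I`. -/
theorem under_eq_of_minimal {P A Af : Type*} [CommRing P] [CommRing A] [CommRing Af]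
    [Algebra A Af] [Algebra P Af] [Module.Flat P Af] (Mf : Submonoid A) [IsLocalization Mf Af]
    (I p : Ideal A) (hp : p ∈ I.minimalPrimes) (Q : Ideal Af) [Q.IsPrime]
    (hQ : Q.comap (algebraMap A Af) = p) (q₀ : Ideal P) [q₀.IsPrime]
    (hq₀ : ∀ P' : Ideal Af, P'.IsPrime → P'.comap (algebraMap P Af) = q₀ →
      I ≤ P'.comap (algebraMap A Af))
    (hle : q₀ ≤ Q.comap (algebraMap P Af)) : Q.comap (algebraMap P Af) = q₀ := by
  by_contra hne
  have hlt : q₀ < Q.under P := lt_of_le_of_ne hle (fun h => hne h.symm)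
  haveI : Q.LiesOver (Q.under P) := ⟨rfl⟩
  haveI : (Q.under P).IsPrime := Ideal.comap_isPrime _ Q
  obtain ⟨P', hP'Q, hP'prime, hP'over⟩ := Ideal.exists_ideal_lt_liesOver_of_lt (p := q₀) Q hlt
  have h1 : P'.comap (algebraMap P Af) = q₀ := (hP'over.over).symm
  have h2 : I ≤ P'.comap (algebraMap A Af) := hq₀ P' hP'prime h1
  have h3 : P'.comap (algebraMap A Af) ≤ p := by
    rw [← hQ]
    exact Ideal.comap_mono hP'Q.le
  haveI : (P'.comap (algebraMap A Af)).IsPrime := Ideal.comap_isPrime _ P'
  have h4 : p ≤ P'.comap (algebraMap A Af) := hp.2 ⟨inferInstance, h2⟩ h3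
  have h5 : P'.comap (algebraMap A Af) = Q.comap (algebraMap A Af) := by
    rw [hQ]; exact le_antisymm h3 h4
  have h6 : P' = Q := by
    rw [← IsLocalization.map_under Mf Af P', ← IsLocalization.map_under Mf Af Q]
    exact congrArg (Ideal.map (algebraMap A Af)) h5
  exact hP'Q.ne h6

end goingdown

end Groth.Agent.Lib.ValEtH8
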