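import Mathlib
import Groth.Agent.Lib.ValEt5_helper8

/-!
# Étale-local algebras over valuation rings (helper8), part 6: the local ring of a smooth algebra
over a valuation ring at a generic point of the special fibre
-/

set_option autoImplicit false
universe u

namespace Groth.Agent.Lib.ValEtH8

open IsLocalRing TensorProduct

set_option maxHeartbeats 1600000 in
/-- Abstract form: `A` a domain over the valuation ring `V`, `p` a minimal prime over `m_V A`,
`Af = A[1/f]` (`f ∉ p`) étale over a polynomial ring over `V`.  Then `R = A_p` is a valuation ring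
with the same value group as `V`. -/
theorem smooth_loc_main (V : Type u) [CommRing V] [IsDomain V] [ValuationRing V] (n : ℕ)
    (A : Type u) [CommRing A] [Algebra V A]
    (p : Ideal A) [p.IsPrime]
    (hp : p ∈ ((maximalIdeal V).map (algebraMap V A)).minimalPrimes)
    (f : A) (hf : f ∉ p)
    (Af : Type u) [CommRing Af] [Algebra A Af] [IsLocalization.Away f Af] [Algebra V Af]
    [IsScalarTower V A Af]
    [Algebra (MvPolynomial (Fin n) V) Af] [IsScalarTower V (MvPolynomial (Fin n) V) Af]
    [Algebra.Etale (MvPolynomial (Fin n) V) Af]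
    (R : Type u) [CommRing R] [Algebra A R] [IsLocalization.AtPrime R p] [Algebra V R]
    [IsScalarTower V A R] :
    IsDomain R ∧ (∀ x y : R, x ∣ y ∨ y ∣ x) ∧ Function.Injective (algebraMap V R) ∧
      IsLocalHom (algebraMap V R) ∧
      ∀ x : R, x ≠ 0 → ∃ (v : V) (w : Rˣ), x = algebraMap V R v * w := by
  classical
  haveI : IsLocalRing R := IsLocalization.AtPrime.isLocalRing R p
  -- S1
  have hfu : IsUnit (algebraMap A R f) := IsLocalization.map_units R (⟨f, hf⟩ : p.primeCompl)
  letI : Algebra Af R := (IsLocalization.Away.lift f hfu).toAlgebra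
  haveI : IsScalarTower A Af R := IsScalarTower.of_algebraMap_eq (fun a =>
    (IsLocalization.Away.lift_eq f hfu a).symm)
  -- S2
  obtain ⟨pf, hpfdef⟩ : ∃ pf : Ideal Af, pf = (maximalIdeal R).comap (algebraMap Af R) := ⟨_, rfl⟩
  haveI : pf.IsPrime := hpfdef ▸ Ideal.comap_isPrime _ _
  have hpf : ∀ x : Af, x ∈ pf ↔ ¬ IsUnit (algebraMap Af R x) := fun x => by
    rw [hpfdef, Ideal.mem_comap, mem_maximalIdeal, mem_nonunits_iff]
  have hpowers : Submonoid.powers f ≤ p.primeCompl := by
    rintro _ ⟨k, rfl⟩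
    exact fun h => hf (Ideal.IsPrime.mem_of_pow_mem inferInstance k h)
  haveI : IsLocalization.AtPrime R pf :=
    isLocalization_atPrime_of_le (Submonoid.powers f) p hpowers pf hpf
  have hpf_comap : pf.comap (algebraMap A Af) = p := by
    rw [hpfdef, Ideal.comap_comap, ← IsScalarTower.algebraMap_eq]
    exact IsLocalization.AtPrime.under_maximalIdeal R p
  -- S3
  letI : Algebra (MvPolynomial (Fin n) V) R :=
    ((algebraMap Af R).comp (algebraMap (MvPolynomial (Fin n) V) Af)).toAlgebra
  haveI : IsScalarTower (MvPolynomial (Fin n) V) Af R := IsScalarTower.of_algebraMap_eq (fun _ => rfl)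
  -- S4
  have hCv : ∀ v : V, algebraMap (MvPolynomial (Fin n) V) Af (MvPolynomial.C v) =
      algebraMap A Af (algebraMap V A v) := fun v => by
    rw [← MvPolynomial.algebraMap_eq, ← IsScalarTower.algebraMap_apply,
      ← IsScalarTower.algebraMap_apply]
  haveI : Module.Flat (MvPolynomial (Fin n) V) Af := inferInstance
  have hq : pf.comap (algebraMap (MvPolynomial (Fin n) V) Af) = gaussIdeal V (Fin n) := by
    refine under_eq_of_minimal (Submonoid.powers f) _ p hp pf hpf_comap (gaussIdeal V (Fin n)) ?_ ?_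
    · intro P' hP' hP'q
      rw [Ideal.map_le_iff_le_comap]
      intro v hv
      rw [Ideal.mem_comap, Ideal.mem_comap, ← hCv, ← Ideal.mem_comap, hP'q]
      exact Ideal.mem_map_of_mem _ hv
    · show Ideal.map _ _ ≤ _
      rw [Ideal.map_le_iff_le_comap]
      intro v hv
      rw [Ideal.mem_comap, Ideal.mem_comap, hCv, ← Ideal.mem_comap, hpf_comap]
      exact hp.1.2 (Ideal.mem_map_of_mem _ hv)
  -- S5
  obtain ⟨W, _, _, _, hWdef⟩ : ∃ (W : Type u) (_ : CommRing W)
      (_ : Algebra (MvPolynomial (Fin n) V) W) (_ : IsLocalization.AtPrime W (gaussIdeal V (Fin n))),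
      True := ⟨Localization.AtPrime (gaussIdeal V (Fin n)), inferInstance, inferInstance,
        inferInstance, trivial⟩
  haveI : IsLocalRing W := IsLocalization.AtPrime.isLocalRing W (gaussIdeal V (Fin n))
  letI : Algebra V W := ((algebraMap (MvPolynomial (Fin n) V) W).comp
    (algebraMap V (MvPolynomial (Fin n) V))).toAlgebra
  haveI : IsScalarTower V (MvPolynomial (Fin n) V) W := IsScalarTower.of_algebraMap_eq (fun _ => rfl)
  letI : Algebra Af (W ⊗[MvPolynomial (Fin n) V] Af) := Algebra.TensorProduct.rightAlgebra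
  haveI hlocB : IsLocalization (Algebra.algebraMapSubmonoid Af (gaussIdeal V (Fin n)).primeCompl)
      (W ⊗[MvPolynomial (Fin n) V] Af) :=
    IsLocalization.tensorRight W (gaussIdeal V (Fin n)).primeCompl
  -- S6
  have hnotmem : ∀ g : MvPolynomial (Fin n) V, g ∉ gaussIdeal V (Fin n) →
      algebraMap (MvPolynomial (Fin n) V) Af g ∉ pf := fun g hg h => by
    rw [← Ideal.mem_comap, hq] at h
    exact hg h
  have hunits : ∀ y : Algebra.algebraMapSubmonoid Af (gaussIdeal V (Fin n)).primeCompl,
      IsUnit (algebraMap Af R y) := by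
    rintro ⟨_, g, hg, rfl⟩
    have := hnotmem g hg
    rwa [hpf, not_not] at this
  letI : Algebra (W ⊗[MvPolynomial (Fin n) V] Af) R :=
    (IsLocalization.lift (M := Algebra.algebraMapSubmonoid Af (gaussIdeal V (Fin n)).primeCompl)
      (g := algebraMap Af R) hunits).toAlgebra
  haveI : IsScalarTower Af (W ⊗[MvPolynomial (Fin n) V] Af) R :=
    IsScalarTower.of_algebraMap_eq (fun a => (IsLocalization.lift_eq hunits a).symm)
  -- S7
  obtain ⟨m, hmdef⟩ : ∃ m : Ideal (W ⊗[MvPolynomial (Fin n) V] Af),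
      m = (maximalIdeal R).comap (algebraMap (W ⊗[MvPolynomial (Fin n) V] Af) R) := ⟨_, rfl⟩
  haveI : m.IsPrime := hmdef ▸ Ideal.comap_isPrime _ _
  have hm_char : ∀ x : W ⊗[MvPolynomial (Fin n) V] Af, x ∈ m ↔
      ¬ IsUnit (algebraMap (W ⊗[MvPolynomial (Fin n) V] Af) R x) := fun x => by
    rw [hmdef, Ideal.mem_comap, mem_maximalIdeal, mem_nonunits_iff]
  have hle' : Algebra.algebraMapSubmonoid Af (gaussIdeal V (Fin n)).primeCompl ≤ pf.primeCompl := by
    rintro _ ⟨g, hg, rfl⟩
    exact hnotmem g hg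
  haveI : IsLocalization.AtPrime R m :=
    isLocalization_atPrime_of_le
      (Algebra.algebraMapSubmonoid Af (gaussIdeal V (Fin n)).primeCompl) pf hle' m hm_char
  -- S8
  letI : Algebra W R :=
    ((algebraMap (W ⊗[MvPolynomial (Fin n) V] Af) R).comp
      (algebraMap W (W ⊗[MvPolynomial (Fin n) V] Af))).toAlgebra
  haveI : IsScalarTower W (W ⊗[MvPolynomial (Fin n) V] Af) R :=
    IsScalarTower.of_algebraMap_eq (fun _ => rfl)
  have hPWR : ∀ g : MvPolynomial (Fin n) V, algebraMap W R (algebraMap (MvPolynomial (Fin n) V) W g) =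
      algebraMap Af R (algebraMap (MvPolynomial (Fin n) V) Af g) := fun g => by
    show algebraMap (W ⊗[MvPolynomial (Fin n) V] Af) R
      (algebraMap W (W ⊗[MvPolynomial (Fin n) V] Af) (algebraMap (MvPolynomial (Fin n) V) W g)) = _
    rw [IsScalarTower.algebraMap_apply Af (W ⊗[MvPolynomial (Fin n) V] Af) R]
    congr 1
    show (algebraMap (MvPolynomial (Fin n) V) W g) ⊗ₜ[MvPolynomial (Fin n) V] (1 : Af) =
      (1 : W) ⊗ₜ[MvPolynomial (Fin n) V] (algebraMap (MvPolynomial (Fin n) V) Af g)
    rw [Algebra.algebraMap_eq_smul_one, Algebra.algebraMap_eq_smul_one (A := Af),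
      TensorProduct.smul_tmul]
  -- S9
  have hm : m.comap (algebraMap W (W ⊗[MvPolynomial (Fin n) V] Af)) = maximalIdeal W := by
    have h1 : (m.comap (algebraMap W (W ⊗[MvPolynomial (Fin n) V] Af))).comap
        (algebraMap (MvPolynomial (Fin n) V) W) = gaussIdeal V (Fin n) := by
      rw [← hq]
      ext g
      rw [Ideal.mem_comap, Ideal.mem_comap, Ideal.mem_comap, hmdef, hpfdef, Ideal.mem_comap,
        Ideal.mem_comap, ← hPWR g]
      rfl
    rw [← IsLocalization.map_under (gaussIdeal V (Fin n)).primeCompl W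
      (m.comap (algebraMap W (W ⊗[MvPolynomial (Fin n) V] Af)))]
    show Ideal.map _ (Ideal.comap _ _) = _
    rw [h1]
    exact IsLocalization.AtPrime.map_eq_maximalIdeal (gaussIdeal V (Fin n)) W
  -- S10
  have hleNZD : (gaussIdeal V (Fin n)).primeCompl ≤ nonZeroDivisors (MvPolynomial (Fin n) V) :=
    Ideal.primeCompl_le_nonZeroDivisors _
  haveI : IsDomain W := IsLocalization.isDomain_of_le_nonZeroDivisors W hleNZD
  have hinjW : Function.Injective (algebraMap V W) := by
    rw [IsScalarTower.algebraMap_eq V (MvPolynomial (Fin n) V) W]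
    exact (IsLocalization.injective W hleNZD).comp (MvPolynomial.C_injective (Fin n) V)
  have hgauss := gauss_exists_unit_mul V (Fin n) W
  haveI : ValuationRing W := (of_forall_unit_mul hinjW hgauss).2 inferInstance
  have hdomR : IsDomain R := isDomain_loc W (W ⊗[MvPolynomial (Fin n) V] Af) m R
  have hdvd := dvd_total_loc W (W ⊗[MvPolynomial (Fin n) V] Af) m R
  have hmul := fun x hx => exists_unit_mul_loc W (W ⊗[MvPolynomial (Fin n) V] Af) m hm R x hx
  have hinjWR := injective_loc W (W ⊗[MvPolynomial (Fin n) V] Af) m hm R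
  have hlocWR := isLocalHom_loc W (W ⊗[MvPolynomial (Fin n) V] Af) m hm R
  -- S11
  have htower : ∀ v : V, algebraMap W R (algebraMap V W v) = algebraMap V R v := fun v => by
    rw [IsScalarTower.algebraMap_apply V (MvPolynomial (Fin n) V) W, hPWR,
      ← IsScalarTower.algebraMap_apply V (MvPolynomial (Fin n) V) Af,
      IsScalarTower.algebraMap_apply V A Af, ← IsScalarTower.algebraMap_apply A Af R,
      ← IsScalarTower.algebraMap_apply V A R]
  refine ⟨hdomR, hdvd, ?_, ?_, ?_⟩
  · intro v₁ v₂ h
    apply hinjW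
    apply hinjWR
    rw [htower, htower, h]
  · refine ⟨fun v hv => ?_⟩
    rw [← htower] at hv
    have h1 : IsUnit (algebraMap V W v) := hlocWR.map_nonunit _ hv
    by_contra hnu
    have h2 : v ∈ maximalIdeal V := (mem_maximalIdeal v).mpr hnu
    have h3 : MvPolynomial.C v ∈ gaussIdeal V (Fin n) := Ideal.mem_map_of_mem _ h2
    rw [IsScalarTower.algebraMap_apply V (MvPolynomial (Fin n) V) W,
      IsLocalization.AtPrime.isUnit_to_map_iff W (gaussIdeal V (Fin n))] at h1
    exact h1 h3
  · intro x hx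
    obtain ⟨a, u, hxa⟩ := hmul x hx
    have ha0 : a ≠ 0 := by
      rintro rfl
      rw [map_zero, mul_zero] at hxa
      exact hx hxa
    obtain ⟨v, u', hav⟩ := hgauss a ha0
    refine ⟨v, u * Units.map (algebraMap W R : W →* R) u', ?_⟩
    rw [hxa, hav, map_mul, htower, Units.val_mul, Units.coe_map]
    show _ = algebraMap V R v * ((u : R) * algebraMap W R (u' : W))
    ring

end Groth.Agent.Lib.ValEtH8
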