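import Mathlib
import Groth.Agent.Lib.ValFib10_helper8
import Groth.Agent.Lib.LqfLocus_helper8

/-! Flat proper generically finite over a valuation ring is finite. -/

universe u

namespace Groth.Agent.Lib.ValFibH8

open AlgebraicGeometry CategoryTheory Limits

theorem main18734 {R : Type u} [CommRing R] [IsDomain R] [ValuationRing R] {Y : Scheme.{u}}
    (f : Y ⟶ Spec (CommRingCat.of R)) [Flat f] [IsProper f]
    (hgen : IsFinite (pullback.snd f
      (Spec.map (CommRingCat.ofHom (algebraMap R (FractionRing R)))))) :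
    IsFinite f := by
  set g : Spec (CommRingCat.of (FractionRing R)) ⟶ Spec (CommRingCat.of R) :=
    Spec.map (CommRingCat.ofHom (algebraMap R (FractionRing R))) with hg
  let η : Spec (CommRingCat.of R) := (⟨⊥, Ideal.isPrime_bot⟩ : PrimeSpectrum R)
  have hηall : ∀ s : Spec (CommRingCat.of R), η ⤳ s := by
    intro s
    exact (PrimeSpectrum.le_iff_specializes (⟨⊥, Ideal.isPrime_bot⟩ : PrimeSpectrum R) s).mp bot_le
  have hηrange : η ∈ Set.range g := by
    refine ⟨(⟨⊥, Ideal.isPrime_bot⟩ : PrimeSpectrum (FractionRing R)), ?_⟩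
    apply PrimeSpectrum.ext
    show Ideal.comap (algebraMap R (FractionRing R)) ⊥ = ⊥
    exact Ideal.comap_bot_of_injective _ (IsFractionRing.injective R (FractionRing R))
  -- Claim A
  have hA : ∀ ζ : Y, f ζ = η → FlatMor.fibreDimAt f ζ = 0 := by
    intro ζ hζ
    have hsq : IsPullback (pullback.fst f g) (pullback.snd f g) f g := IsPullback.of_hasPullback f g
    have hmem : ζ ∈ Set.range (pullback.fst f g) := by
      rw [Scheme.Pullback.range_fst]
      show f ζ ∈ Set.range g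
      rw [hζ]; exact hηrange
    obtain ⟨ζ', hζ'⟩ := hmem
    have h1 := FieldExtH8.fibreDimAt_baseChange f g (pullback.fst f g) (pullback.snd f g) hsq ζ'
    rw [hζ'] at h1
    rw [← h1]
    exact FibCohH8.fibreDimAt_eq_zero_of_lqf (pullback.snd f g) ζ'
  have hA' : ∀ ζ : Y, f ζ = η → Cardinal.toENat (Dual3.resTrdeg f ζ) = 0 := by
    intro ζ hζ
    have := ((FibCohH8.fibreDimAt_eq_zero_iff f ζ).mp (hA ζ hζ)).2
    rw [this]; simp
  -- Claim B
  have hB : ∀ y : Y, ∃ ζ : Y, ζ ⤳ y ∧ f ζ = η := by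
    intro y
    obtain ⟨ζ, hζ, hfζ⟩ := Flat.generalizingMap (f := f) (a := y) (b := η) (hηall (f y))
    exact ⟨ζ, hζ, hfζ⟩
  -- Claim C
  have hC : ∀ y : Y, Cardinal.toENat (Dual3.resTrdeg f y) = 0 := by
    intro y
    obtain ⟨ζ, hζy, hfζ⟩ := hB y
    obtain ⟨c, h1, -, -⟩ := toENat_resTrdeg_eq_add R f ζ y hζy
    rw [hA' ζ hfζ] at h1
    have h2 : (0 : ℕ∞) = c + Cardinal.toENat (Dual3.resTrdeg f y) := by exact_mod_cast h1
    exact (add_eq_zero.mp h2.symm).2
  -- Claim D
  have hD : ∀ y y' : Y, f y' = f y → y' ⤳ y → y' = y := by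
    intro y y' hf hsp
    obtain ⟨c, h1, h2, -⟩ := toENat_resTrdeg_eq_add R f y' y hsp
    rw [hC y', hC y] at h1
    have h3 : (0 : ℕ∞) = c + 0 := by exact_mod_cast h1
    rw [add_zero] at h3
    exact h2 h3.symm hf
  have hqf : ∀ y : Y, f.QuasiFiniteAt y := by
    intro y
    rw [← LqfLocusH8.fibreDimAt_eq_zero_iff_quasiFiniteAt, FibCohH8.fibreDimAt_eq f y,
      OpenAtEqH8.fibCoh_eq_zero_of_isMax f y (hD y), hC y]
    simp
  haveI : LocallyQuasiFinite f := by
    rw [← Scheme.Hom.quasiFiniteLocus_eq_top_iff]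
    ext y
    constructor
    · intro _; trivial
    · intro _; exact hqf y
  exact IsFinite.of_isProper_of_locallyQuasiFinite f

end Groth.Agent.Lib.ValFibH8
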