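import Mathlib
import Groth.Agent.Lib.ValFib12_helper8

/-! Prüfer domain version of fibre dimension constancy. -/

universe u

namespace Groth.Agent.Lib.ValFibH8

open AlgebraicGeometry CategoryTheory Limits

theorem main14733 (R : Type u) [CommRing R] [IsDomain R]
    (hR : ∀ (p : Ideal R) [p.IsPrime], ValuationRing (Localization.AtPrime p))
    (X : Scheme.{u}) [IrreducibleSpace X] (f : X ⟶ Spec (CommRingCat.of R))
    [LocallyOfFiniteType f] [IsDominant f] (γ : Spec (CommRingCat.of R))
    (h0 : Nonempty ↥(f.fiber γ)) :
    topologicalKrullDim ↥(f.fiber γ) =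
      topologicalKrullDim ↥(f.fiber (genericPoint (Spec (CommRingCat.of R)))) := by
  set ξ := genericPoint X with hξdef
  set η := genericPoint (Spec (CommRingCat.of R)) with hηdef
  have hfξ : f ξ = η := by
    have h1 := (genericPoint_spec X).image f.continuous
    rw [Set.image_univ, f.denseRange.closure_range] at h1
    exact h1.eq (genericPoint_spec _)
  -- the localisation
  let p : PrimeSpectrum R := γ
  haveI : ValuationRing (Localization.AtPrime p.asIdeal) := hR p.asIdeal
  let g : Spec (CommRingCat.of (Localization.AtPrime p.asIdeal)) ⟶ Spec (CommRingCat.of R) :=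
    Spec.map (CommRingCat.ofHom (algebraMap R (Localization.AtPrime p.asIdeal)))
  haveI : IsPreimmersion g :=
    IsPreimmersion.of_isLocalization (R := R) (S := Localization.AtPrime p.asIdeal)
      p.asIdeal.primeCompl
  let g' := pullback.fst f g
  let f' := pullback.snd f g
  have hsq : IsPullback g' f' f g := IsPullback.of_hasPullback f g
  -- range of g
  have hγ : γ ∈ Set.range g := by
    refine ⟨IsLocalRing.closedPoint (Localization.AtPrime p.asIdeal), ?_⟩
    apply PrimeSpectrum.ext
    show Ideal.comap (algebraMap R (Localization.AtPrime p.asIdeal))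
      (IsLocalRing.maximalIdeal (Localization.AtPrime p.asIdeal)) = p.asIdeal
    exact Localization.AtPrime.under_maximalIdeal
  have hη : η ∈ Set.range g := by
    have h1 : η ⤳ γ := genericPoint_specializes γ
    haveI : Flat g := by
      rw [HasRingHomProperty.Spec_iff (P := @Flat)]
      exact (RingHom.flat_algebraMap_iff).mpr
        (IsLocalization.flat (Localization.AtPrime p.asIdeal) p.asIdeal.primeCompl)
    exact (Flat.generalizingMap g).stableUnderGeneralization_range h1 hγ
  have hrange : Set.range g' = f ⁻¹' Set.range g := Scheme.Pullback.range_fst f g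
  obtain ⟨xξ, hxξ⟩ : ξ ∈ Set.range g' := by
    rw [hrange]; show f ξ ∈ Set.range g; rw [hfξ]; exact hη
  have hall : ∀ z : ↥(pullback f g), xξ ⤳ z := by
    intro z
    rw [← g'.isEmbedding.isInducing.specializes_iff, hxξ]
    exact genericPoint_specializes _
  haveI : IrreducibleSpace ↥(pullback f g) := irreducibleSpace_of_forall_specializes xξ hall
  have hpt : ∀ x : X, f x = γ → FlatMor.fibreDimAt f x = FlatMor.fibreDimAt f ξ := by
    intro x hx
    obtain ⟨x', hx'⟩ : x ∈ Set.range g' := by
      rw [hrange]; show f x ∈ Set.range g; rw [hx]; exact hγ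
    rw [← hx', ← hxξ, ← FieldExtH8.fibreDimAt_baseChange f g g' f' hsq x',
      ← FieldExtH8.fibreDimAt_baseChange f g g' f' hsq xξ, fibreDimAt_const f' x',
      fibreDimAt_const f' xξ]
  have hcl : topologicalKrullDim ↥(f.fiber γ) = FlatMor.fibreDimAt f ξ := by
    have hz : ∀ z : ↥(f.fiber γ),
        FlatMor.localDim ↥(f.fiber γ) z = FlatMor.fibreDimAt f ξ := by
      intro z
      rw [FieldExtH8.localDim_fiber_eq_fibreDimAt f _ z _ rfl]
      exact hpt _ (Groth.Agent.FibRes2H8.fiberι_mem f _ z)
    apply le_antisymm
    · rw [TopDimLocH8.topDim_le_iff_forall_localDim]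
      intro z
      exact le_of_eq (hz z)
    · obtain ⟨z₀⟩ := h0
      rw [← hz z₀]
      exact TopDimLocH8.localDim_le_topDim _ z₀
  rw [hcl, topDim_fiber_eq_of_generic f η hfξ]

end Groth.Agent.Lib.ValFibH8
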