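import Mathlib

open CategoryTheory AlgebraicGeometry

universe u

namespace Groth.Agent.ValFinH8

/-- In a ring with finite prime spectrum, there is `g ∉ q` lying in every prime not contained
in `q`. -/
theorem exists_mem_forall_not_le {A : Type*} [CommRing A] [Finite (PrimeSpectrum A)]
    (q : Ideal A) [q.IsPrime] :
    ∃ g : A, g ∉ q ∧ ∀ p : Ideal A, p.IsPrime → ¬ p ≤ q → g ∈ p := by
  classical
  haveI : Fintype (PrimeSpectrum A) := Fintype.ofFinite _
  let s : Finset (PrimeSpectrum A) := Finset.univ.filter fun p => ¬ p.asIdeal ≤ q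
  have h1 : ¬ s.inf (fun p => p.asIdeal) ≤ q := by
    intro h
    obtain ⟨p, hp, hpq⟩ := (Ideal.IsPrime.inf_le' (s := s) (f := fun p => p.asIdeal)
      (P := q) inferInstance).mp h
    exact (Finset.mem_filter.mp hp).2 hpq
  obtain ⟨g, hg, hgq⟩ := SetLike.not_le_iff_exists.mp h1
  refine ⟨g, hgq, fun p hp hpq => ?_⟩
  have : (⟨p, hp⟩ : PrimeSpectrum A) ∈ s := Finset.mem_filter.mpr ⟨Finset.mem_univ _, hpq⟩
  exact (Finset.inf_le (f := fun p : PrimeSpectrum A => p.asIdeal) this) hg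

/-- Key divisibility: for `s ∉ q` some power of `g` is a multiple of `s`. -/
theorem exists_mul_eq_pow {A : Type*} [CommRing A] (q : Ideal A) [q.IsPrime] (g : A)
    (hg : ∀ p : Ideal A, p.IsPrime → ¬ p ≤ q → g ∈ p) (s : A) (hs : s ∉ q) :
    ∃ (b : A) (n : ℕ), b * s = g ^ n := by
  have : g ∈ (Ideal.span {s}).radical := by
    rw [Ideal.radical_eq_sInf, Ideal.mem_sInf]
    rintro p ⟨hsp, hp⟩
    refine hg p hp fun hpq => hs (hpq (hsp (Ideal.subset_span rfl)))
  obtain ⟨n, hn⟩ := this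
  obtain ⟨b, hb⟩ := Ideal.mem_span_singleton'.mp hn
  exact ⟨b, n, hb⟩

theorem isLocalization_away_of_atPrime {A S : Type*} [CommRing A] [CommRing S] [Algebra A S]
    (q : Ideal A) [q.IsPrime] [IsLocalization.AtPrime S q] (g : A) (hgq : g ∉ q)
    (hg : ∀ p : Ideal A, p.IsPrime → ¬ p ≤ q → g ∈ p) : IsLocalization.Away g S := by
  refine { map_units := ?_, surj := ?_, exists_of_eq := ?_ }
  · rintro ⟨_, n, rfl⟩
    have : IsUnit (algebraMap A S g) :=
      IsLocalization.map_units S (⟨g, hgq⟩ : q.primeCompl)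
    simpa using this.pow n
  · intro z
    obtain ⟨⟨a, s⟩, h⟩ := IsLocalization.surj q.primeCompl z
    obtain ⟨b, n, hb⟩ := exists_mul_eq_pow q g hg s.1 s.2
    refine ⟨⟨b * a, ⟨g ^ n, n, rfl⟩⟩, ?_⟩
    simp only at h ⊢
    rw [← hb, map_mul, map_mul, ← h]
    ring
  · intro a b hab
    obtain ⟨s, hs⟩ := (IsLocalization.eq_iff_exists q.primeCompl S).mp hab
    obtain ⟨c, n, hc⟩ := exists_mul_eq_pow q g hg s.1 s.2
    refine ⟨⟨g ^ n, n, rfl⟩, ?_⟩
    simp only
    rw [← hc, mul_assoc, mul_assoc, hs]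

end Groth.Agent.ValFinH8

namespace Groth.Agent.ValFinH8

theorem finite_of_finite_target {X Y : Scheme.{u}} (f : X ⟶ Y) [Finite Y]
    [LocallyQuasiFinite f] [QuasiCompact f] : Finite X := by
  have h : (Set.univ : Set X) = ⋃ y : Y, f ⁻¹' {y} := by
    ext x; simp
  have : (Set.univ : Set X).Finite := by
    rw [h]
    exact Set.finite_iUnion fun y => f.finite_preimage_singleton y
  exact Set.finite_univ_iff.mp this

theorem finite_primeSpectrum_of_affineOpen {R : Type u} [CommRing R] [Finite (PrimeSpectrum R)]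
    {X : Scheme.{u}} (f : X ⟶ Spec (CommRingCat.of R)) [LocallyQuasiFinite f]
    (U : X.Opens) (hU : IsAffineOpen U) : Finite (PrimeSpectrum Γ(X, U)) := by
  haveI : IsAffine (U : Scheme) := hU
  haveI : Finite (Spec (CommRingCat.of R)) := ‹Finite (PrimeSpectrum R)›
  haveI : QuasiCompact (U.ι ≫ f) :=
    (HasAffineProperty.iff_of_isAffine (P := @QuasiCompact)).mpr inferInstance
  haveI : Finite (U : Scheme) := finite_of_finite_target (U.ι ≫ f)
  exact Finite.of_surjective (fun u : (U : Scheme) => hU.isoSpec.hom.base u)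
    (hU.isoSpec.hom.homeomorph.surjective)

theorem isOpenImmersion_fromSpecStalk {R : Type u} [CommRing R] [Finite (PrimeSpectrum R)]
    {X : Scheme.{u}} (f : X ⟶ Spec (CommRingCat.of R)) [LocallyQuasiFinite f] (x : X) :
    IsOpenImmersion (X.fromSpecStalk x) := by
  obtain ⟨_, ⟨U, hU, rfl⟩, hxU, -⟩ :=
    X.isBasis_affineOpens.exists_subset_of_mem_open (Set.mem_univ x) isOpen_univ
  rw [← hU.fromSpecStalk_eq_fromSpecStalk hxU]
  dsimp [IsAffineOpen.fromSpecStalk]
  have : IsOpenImmersion (Spec.map (X.presheaf.germ U x hxU)) := by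
    letI : Algebra Γ(X, U) (X.presheaf.stalk x) := (X.presheaf.germ U x hxU).hom.toAlgebra
    haveI := hU.isLocalization_stalk ⟨x, hxU⟩
    haveI := finite_primeSpectrum_of_affineOpen f U hU
    obtain ⟨g, hgq, hg⟩ := exists_mem_forall_not_le (hU.primeIdealOf ⟨x, hxU⟩).asIdeal
    haveI := isLocalization_away_of_atPrime (S := X.presheaf.stalk x)
      (hU.primeIdealOf ⟨x, hxU⟩).asIdeal g hgq hg
    exact IsOpenImmersion.of_isLocalization (R := Γ(X, U)) (S := X.presheaf.stalk x) g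
  infer_instance

end Groth.Agent.ValFinH8
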