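import Mathlib
import Groth.Agent.S6370
import Groth.Agent.Lib.FibreCone_helper5

/-!
# Finiteness of the valuation rings of the function field of an affine curve
not containing the coordinate ring (helper1)
-/

set_option autoImplicit false
universe u

namespace Groth.Agent.Lib.ValFinH1

open IsDedekindDomain IntermediateField
open scoped IntermediateField.algebraAdjoinAdjoin

theorem inv_mem_of_not_lt {F : Type*} [Field F] (O : ValuationSubring F) {s : F} (hs : s ∈ O)
    (hns : ¬ O.valuation s < 1) : s⁻¹ ∈ O := by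
  have h1 : O.valuation s ≤ 1 := (O.valuation_le_one_iff s).mpr hs
  have h2 : O.valuation s = 1 := le_antisymm h1 (not_lt.mp hns)
  rw [← O.valuation_le_one_iff, map_inv₀, h2, inv_one]

/-- Key lemma: only finitely many valuation rings of `F` over `k` have a pole at `u⁻¹`. -/
theorem finite_of_pole (k F : Type u) [Field k] [Field F] [Algebra k F] (u : F)
    (hu : Transcendental k u) [FiniteDimensional (IntermediateField.adjoin k {u}) F] :
    {O : ValuationSubring F | (algebraMap k F).range ≤ O.toSubring ∧ u⁻¹ ∉ O}.Finite := by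
  classical
  have hu0 : u ≠ 0 := fun h => hu (h ▸ isAlgebraic_zero)
  let e : Polynomial k ≃ₐ[k] Algebra.adjoin k {u} :=
    (AlgEquiv.ofInjective (Polynomial.aeval u) (transcendental_iff_injective.mp hu)).trans
      (Subalgebra.equivOfEq _ _ (Algebra.adjoin_singleton_eq_range_aeval k u).symm)
  haveI : IsNoetherianRing (Algebra.adjoin k {u}) :=
    isNoetherianRing_of_ringEquiv (Polynomial k) e.toRingEquiv
  have hdim : ringKrullDim (Algebra.adjoin k {u}) = 1 := by
    rw [← ringKrullDim_eq_of_ringEquiv e.toRingEquiv, Polynomial.ringKrullDim_of_isNoetherianRing,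
      ringKrullDim_eq_zero_of_field, zero_add]
  obtain ⟨hDed, -, -, -⟩ := Groth.Agent.S6370.result (Algebra.adjoin k {u})
    (IntermediateField.adjoin k {u}) F (integralClosure (Algebra.adjoin k {u}) F) hdim
  haveI := hDed
  haveI hfrac : IsFractionRing (integralClosure (Algebra.adjoin k {u}) F) F :=
    integralClosure.isFractionRing_of_finite_extension (IntermediateField.adjoin k {u}) F
  obtain ⟨uC, huC⟩ : ∃ uC : integralClosure (Algebra.adjoin k {u}) F, (uC : F) = u :=
    ⟨⟨u, (integralClosure (Algebra.adjoin k {u}) F).algebraMap_mem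
      ⟨u, Algebra.self_mem_adjoin_singleton k u⟩⟩, rfl⟩
  have huC0 : uC ≠ 0 := fun h => hu0 (by rw [← huC, h]; rfl)
  have hfin := Ideal.finite_factors (I := Ideal.span {uC})
    (by rw [Ne, Ideal.zero_eq_bot, Ideal.span_singleton_eq_bot]; exact huC0)
  refine (hfin.image (fun v => HeightOneSpectrum.valuationSubringAtPrime F v)).subset ?_
  rintro O ⟨hk, hy⟩
  have huO : u ∈ O := (O.mem_or_inv_mem u).resolve_right hy
  have hvu : O.valuation u < 1 := by
    have h1 : ¬ O.valuation u⁻¹ ≤ 1 := fun h => hy ((O.valuation_le_one_iff _).mp h)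
    rw [map_inv₀, not_le] at h1
    have h0 : 0 < O.valuation u := zero_lt_iff.mpr ((Valuation.ne_zero_iff _).mpr hu0)
    exact (one_lt_inv₀ h0).mp h1
  have hB : ∀ x ∈ Algebra.adjoin k {u}, x ∈ O := by
    let Osub : Subalgebra k F :=
      { O.toSubring.toSubsemiring with algebraMap_mem' := fun c => hk ⟨c, rfl⟩ }
    have hle : Algebra.adjoin k {u} ≤ Osub :=
      Algebra.adjoin_le (Set.singleton_subset_iff.mpr huO)
    exact fun x hx => hle hx
  have hC : ∀ c : integralClosure (Algebra.adjoin k {u}) F,
      algebraMap (integralClosure (Algebra.adjoin k {u}) F) F c ∈ O := by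
    intro c
    let ι : Algebra.adjoin k {u} →+* O :=
      (algebraMap (Algebra.adjoin k {u}) F).codRestrict O (fun b => hB b b.2)
    have hint : IsIntegral O ((RingHom.id F) (c : F)) :=
      IsIntegral.map_of_comp_eq (R := Algebra.adjoin k {u}) (S := F) (T := O) (U := F)
        ι (RingHom.id F) (by ext; rfl) c.2
    obtain ⟨z, hz⟩ := IsIntegrallyClosed.isIntegral_iff.mp hint
    have hz' : (z : F) = (c : F) := hz
    show (c : F) ∈ O
    rw [← hz']
    exact z.2
  let ιC : integralClosure (Algebra.adjoin k {u}) F →+* O :=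
    (algebraMap (integralClosure (Algebra.adjoin k {u}) F) F).codRestrict O hC
  obtain ⟨P, hPdef⟩ : ∃ P : Ideal (integralClosure (Algebra.adjoin k {u}) F),
      P = (IsLocalRing.maximalIdeal O).comap ιC := ⟨_, rfl⟩
  have hP : P.IsPrime := by rw [hPdef]; exact Ideal.comap_isPrime ιC _
  have hmemP : ∀ c : integralClosure (Algebra.adjoin k {u}) F,
      c ∈ P ↔ O.valuation (c : F) < 1 := fun c => by
    rw [hPdef]; exact O.valuation_lt_one_iff (ιC c)
  have huP : uC ∈ P := (hmemP uC).mpr (by rw [huC]; exact hvu)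
  have hPne : P ≠ ⊥ := fun h => by
    rw [h, Ideal.mem_bot] at huP; exact huC0 huP
  refine ⟨⟨P, hP, hPne⟩, ?_, ?_⟩
  · show P ∣ Ideal.span {uC}
    exact Ideal.dvd_iff_le.mpr ((Ideal.span_singleton_le_iff_mem _).mpr huP)
  · have hle : HeightOneSpectrum.valuationSubringAtPrime F (⟨P, hP, hPne⟩ : HeightOneSpectrum _) ≤ O := by
      rintro x ⟨a, s, hs, rfl⟩
      have hns : ¬ O.valuation (s : F) < 1 := fun h => hs ((hmemP s).mpr h)
      exact O.mul_mem _ _ (hC a) (inv_mem_of_not_lt O (hC s) hns)
    have hTop : O ≠ ⊤ := fun h => hy (h ▸ ValuationSubring.mem_top _)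
    exact ValuationSubring.eq_of_le_of_ne_top _ hle hTop

section NN

variable (k A F : Type u) [Field k] [CommRing A] [IsDomain A] [Algebra k A]
  [Field F] [Algebra A F] [IsFractionRing A F] [Algebra k F] [IsScalarTower k A F]

/-- If `A` is integral over the image of `g` and all `g (X j)` lie in `O ⊇ k`, then `A ⊆ O`. -/
theorem range_le_of_forall_mem {s : ℕ} (g : MvPolynomial (Fin s) k →ₐ[k] A) (hfin : g.Finite)
    (O : ValuationSubring F) (hk : (algebraMap k F).range ≤ O.toSubring)
    (hy : ∀ j, algebraMap A F (g (MvPolynomial.X j)) ∈ O) :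
    (algebraMap A F).range ≤ O.toSubring := by
  letI : Algebra (MvPolynomial (Fin s) k) A := g.toRingHom.toAlgebra
  haveI : Module.Finite (MvPolynomial (Fin s) k) A := hfin
  rintro _ ⟨a, rfl⟩
  let kO : k →+* O := (algebraMap k F).codRestrict O (fun c => hk ⟨c, rfl⟩)
  let φO : MvPolynomial (Fin s) k →+* O := MvPolynomial.eval₂Hom kO (fun j => ⟨_, hy j⟩)
  have hcomp : (algebraMap O F).comp φO
      = (algebraMap A F).comp (algebraMap (MvPolynomial (Fin s) k) A) := by
    apply MvPolynomial.ringHom_ext
    · intro c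
      show ((φO (MvPolynomial.C c) : O) : F) = algebraMap A F (g (MvPolynomial.C c))
      rw [show φO (MvPolynomial.C c) = kO c from MvPolynomial.eval₂Hom_C _ _ _,
        ← MvPolynomial.algebraMap_eq, g.commutes, ← IsScalarTower.algebraMap_apply]
      rfl
    · intro j
      show ((φO (MvPolynomial.X j) : O) : F) = algebraMap A F (g (MvPolynomial.X j))
      rw [show φO (MvPolynomial.X j) = ⟨_, hy j⟩ from MvPolynomial.eval₂Hom_X' _ _ _]
  have hint : IsIntegral O (algebraMap A F a) :=
    IsIntegral.map_of_comp_eq φO (algebraMap A F) hcomp (Algebra.IsIntegral.isIntegral a)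
  obtain ⟨z, hz⟩ := IsIntegrallyClosed.isIntegral_iff.mp hint
  have hz' : (z : F) = algebraMap A F a := hz
  show algebraMap A F a ∈ O
  rw [← hz']
  exact z.2

/-- `F` is finite over `k(y⁻¹)` when `A` is finite over `k[y]`. -/
theorem finiteDimensional_adjoin [Algebra.FiniteType k A]
    (g : MvPolynomial (Fin 1) k →ₐ[k] A) (hfin : g.Finite) (j : Fin 1) :
    FiniteDimensional
      (IntermediateField.adjoin k {(algebraMap A F (g (MvPolynomial.X j)))⁻¹}) F := by
  letI : Algebra (MvPolynomial (Fin 1) k) A := g.toRingHom.toAlgebra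
  haveI : Module.Finite (MvPolynomial (Fin 1) k) A := hfin
  obtain ⟨y, hydef⟩ : ∃ y : F, y = algebraMap A F (g (MvPolynomial.X j)) := ⟨_, rfl⟩
  rw [← hydef]
  have hymem : y ∈ IntermediateField.adjoin k {y⁻¹} := by
    have := inv_mem (IntermediateField.mem_adjoin_simple_self k (y⁻¹))
    rwa [inv_inv] at this
  haveI : Algebra.EssFiniteType A F := Algebra.EssFiniteType.of_isLocalization F (nonZeroDivisors A)
  haveI : Algebra.EssFiniteType k F := Algebra.EssFiniteType.comp k A F
  haveI : Algebra.EssFiniteType (IntermediateField.adjoin k {y⁻¹}) F :=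
    Algebra.EssFiniteType.of_comp k (IntermediateField.adjoin k {y⁻¹}) F
  let φ' : MvPolynomial (Fin 1) k →+* IntermediateField.adjoin k {y⁻¹} :=
    (MvPolynomial.aeval (fun _ => (⟨y, hymem⟩ : IntermediateField.adjoin k {y⁻¹}))).toRingHom
  have hcomp : (algebraMap (IntermediateField.adjoin k {y⁻¹}) F).comp φ'
      = (algebraMap A F).comp (algebraMap (MvPolynomial (Fin 1) k) A) := by
    apply MvPolynomial.ringHom_ext
    · intro c
      show ((φ' (MvPolynomial.C c) : IntermediateField.adjoin k {y⁻¹}) : F)
        = algebraMap A F (g (MvPolynomial.C c))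
      rw [show φ' (MvPolynomial.C c) = algebraMap k _ c from MvPolynomial.aeval_C _ _,
        ← MvPolynomial.algebraMap_eq, g.commutes, ← IsScalarTower.algebraMap_apply]
      rfl
    · intro i
      show ((φ' (MvPolynomial.X i) : IntermediateField.adjoin k {y⁻¹}) : F)
        = algebraMap A F (g (MvPolynomial.X i))
      rw [show φ' (MvPolynomial.X i) = ⟨y, hymem⟩ from MvPolynomial.aeval_X _ _,
        Subsingleton.elim i j]
      exact hydef
  have hI : ∀ a : A, IsIntegral (IntermediateField.adjoin k {y⁻¹}) (algebraMap A F a) :=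
    fun a => IsIntegral.map_of_comp_eq φ' (algebraMap A F) hcomp
      (Algebra.IsIntegral.isIntegral a)
  haveI : Algebra.IsAlgebraic (IntermediateField.adjoin k {y⁻¹}) F := by
    refine ⟨fun x => ?_⟩
    obtain ⟨a, b, -, rfl⟩ := IsFractionRing.div_surjective A x
    rw [div_eq_mul_inv]
    exact ((hI a).mul (hI b).inv).isAlgebraic
  exact Algebra.finite_of_essFiniteType_of_isAlgebraic

theorem main11085 [Algebra.FiniteType k A] (hA : ringKrullDim A = 1) :
    {O : ValuationSubring F | (algebraMap k F).range ≤ O.toSubring ∧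
        ¬ (algebraMap A F).range ≤ O.toSubring}.Finite := by
  classical
  obtain ⟨s, g, hinj, hfin⟩ := exists_finite_inj_algHom_of_fg k A
  have hs : s ≤ 1 := by
    have h := Groth.Agent.FibreCone.natCast_le_ringKrullDim_of_injective k A s g hinj
    rw [hA] at h
    exact_mod_cast h
  have hsub : {O : ValuationSubring F | (algebraMap k F).range ≤ O.toSubring ∧
        ¬ (algebraMap A F).range ≤ O.toSubring} ⊆
      ⋃ j : Fin s, {O : ValuationSubring F | (algebraMap k F).range ≤ O.toSubring ∧
        algebraMap A F (g (MvPolynomial.X j)) ∉ O} := by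
    rintro O ⟨hk, hAO⟩
    by_contra hcon
    apply hAO
    refine range_le_of_forall_mem k A F g hfin O hk fun j => ?_
    by_contra hj
    exact hcon (Set.mem_iUnion.mpr ⟨j, hk, hj⟩)
  refine (Set.finite_iUnion fun j => ?_).subset hsub
  have hs1 : s = 1 := by have := j.2; omega
  subst hs1
  have hψ : Function.Injective ((IsScalarTower.toAlgHom k A F).comp g) :=
    (IsFractionRing.injective A F).comp hinj
  have hy_tr : Transcendental k (algebraMap A F (g (MvPolynomial.X j))) := fun h =>
    MvPolynomial.transcendental_X k j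
      ((isAlgebraic_algHom_iff ((IsScalarTower.toAlgHom k A F).comp g) hψ).mp h)
  have hu_tr : Transcendental k (algebraMap A F (g (MvPolynomial.X j)))⁻¹ := fun h =>
    hy_tr (IsAlgebraic.inv_iff.mp h)
  haveI := finiteDimensional_adjoin k A F g hfin j
  have key := finite_of_pole k F (algebraMap A F (g (MvPolynomial.X j)))⁻¹ hu_tr
  simpa only [inv_inv] using key

end NN

end Groth.Agent.Lib.ValFinH1
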