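import Mathlib
import Groth.Agent.Lib.ValFP_helper1
import Groth.Agent.Lib.FibCritD_helper6
import Groth.Agent.S2107

/-!
# Injectivity mod the maximal ideal over a valuation ring (helper1)
(Stacks, More on Flatness, valuation ring case.)  APPEND-ONLY once landed.
-/

set_option autoImplicit false
open IsLocalRing

namespace Groth.Agent.Lib.ValInjH1

universe u

theorem mem_smul_top_of_map {A S₁ M : Type*} [CommRing A] [CommRing S₁] [Algebra A S₁]
    [AddCommGroup M] [Module A M] [Module S₁ M] [IsScalarTower A S₁ M] (I : Ideal A) {x : M}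
    (hx : x ∈ (I.map (algebraMap A S₁)) • (⊤ : Submodule S₁ M)) :
    x ∈ I • (⊤ : Submodule A M) := by
  have key : ∀ s ∈ Ideal.span ((algebraMap A S₁) '' (I : Set A)), ∀ m : M,
      s • m ∈ I • (⊤ : Submodule A M) := by
    intro s hs
    refine Submodule.span_induction
      (p := fun s _ => ∀ m : M, s • m ∈ I • (⊤ : Submodule A M)) ?_ ?_ ?_ ?_ hs
    · rintro _ ⟨a, ha, rfl⟩ m
      rw [algebraMap_smul]
      exact Submodule.smul_mem_smul ha trivial
    · intro m
      rw [zero_smul]
      exact zero_mem _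
    · intro s t _ _ hs ht m
      rw [add_smul]
      exact add_mem (hs m) (ht m)
    · intro r s _ hs m
      rw [smul_eq_mul, mul_comm, mul_smul]
      exact hs (r • m)
  refine Submodule.smul_induction_on hx (fun s hs m _ => key s hs m)
    (fun _ _ h1 h2 => add_mem h1 h2)

theorem exists_eq_smul_of_mem_smul_top {A M : Type*} [CommRing A] [IsDomain A] [ValuationRing A]
    [AddCommGroup M] [Module A M] (I : Ideal A) {x : M}
    (hx : x ∈ I • (⊤ : Submodule A M)) : ∃ a ∈ I, ∃ y : M, x = a • y := by
  refine Submodule.smul_induction_on hx (fun a ha m _ => ⟨a, ha, m, rfl⟩) ?_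
  rintro _ _ ⟨a, ha, y, rfl⟩ ⟨b, hb, z, rfl⟩
  rcases ValuationRing.dvd_total a b with ⟨c, rfl⟩ | ⟨c, rfl⟩
  · exact ⟨a, ha, y + c • z, by rw [smul_add, mul_smul]⟩
  · exact ⟨b, hb, c • y + z, by rw [smul_add, mul_smul]⟩

/-- flatness of a quotient over a valuation ring, elementwise -/
theorem flat_quot_iff {A B M : Type*} [CommRing A] [IsDomain A] [ValuationRing A] [CommRing B]
    [Algebra A B] [AddCommGroup M] [Module A M] [Module B M] [IsScalarTower A B M]
    (P : Submodule B M) :
    Module.Flat A (M ⧸ P) ↔ ∀ (a : A) (m : M), a ≠ 0 → a • m ∈ P → m ∈ P := by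
  rw [Module.Flat.flat_iff_torsion_eq_bot_of_isBezout, ← Submodule.isTorsionFree_iff_torsion_eq_bot]
  constructor
  · intro h a m ha ham
    have h1 : a • (Submodule.Quotient.mk m : M ⧸ P) = 0 := by
      rw [← Submodule.Quotient.mk_smul, Submodule.Quotient.mk_eq_zero]
      exact ham
    exact (Submodule.Quotient.mk_eq_zero P).mp ((smul_eq_zero_iff_right ha).mp h1)
  · intro h
    refine ⟨fun r hr x y hxy => ?_⟩
    have hr0 : r ≠ 0 := hr.ne_zero
    have h1 : r • (x - y) = 0 := by
      rw [smul_sub]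
      exact sub_eq_zero.mpr hxy
    obtain ⟨m, hm⟩ := Submodule.Quotient.mk_surjective P (x - y)
    rw [← hm, ← Submodule.Quotient.mk_smul, Submodule.Quotient.mk_eq_zero] at h1
    have h2 := h r m hr0 h1
    rw [← sub_eq_zero, ← hm, Submodule.Quotient.mk_eq_zero]
    exact h2

section Cover

variable {A B S₁ M : Type u} [CommRing A] [IsDomain A] [ValuationRing A] [CommRing B] [Algebra A B]
  [CommRing S₁] [IsLocalRing S₁] [Algebra A S₁] [Algebra S₁ B] [IsScalarTower A S₁ B]
  [IsLocalHom (algebraMap A S₁)]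
  [AddCommGroup M] [Module B M] [Module A M] [IsScalarTower A B M] [Module.Finite B M]
  [Module.Flat A M] [Module S₁ M] [IsScalarTower S₁ B M] [IsScalarTower A S₁ M]

theorem flat_quot_cover (hS₁ : CAlgX.IsEssFinitePresentation A S₁)
    (hsurj : Function.Surjective (algebraMap S₁ B))
    (P : Submodule B M) (hPfg : P.FG)
    (hP : ∀ x ∈ P, x ∈ (maximalIdeal A) • (⊤ : Submodule A M) →
      ∃ a ∈ maximalIdeal A, ∃ y ∈ P, x = a • y) : Module.Flat A (M ⧸ P) := by
  classical
  haveI hess : Algebra.EssFiniteType A S₁ := by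
    obtain ⟨S₀, _, _, _, _, M₀, hfp, hloc⟩ := hS₁
    haveI := hfp
    haveI := hloc
    haveI : Algebra.EssFiniteType S₀ S₁ := Algebra.EssFiniteType.of_isLocalization S₁ M₀
    exact Algebra.EssFiniteType.comp A S₀ S₁
  haveI : Module.Finite S₁ B := Module.Finite.of_surjective (Algebra.linearMap S₁ B) hsurj
  haveI : Module.Finite S₁ M := Module.Finite.trans B M
  haveI tfM : Module.IsTorsionFree A M :=
    Submodule.isTorsionFree_iff_torsion_eq_bot.mpr Module.Flat.torsion_eq_bot
  haveI : Module.FinitePresentation S₁ M :=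
    Groth.Agent.Lib.ValFPH1.main2049 (A := A) (B := S₁) (M := M)
  have hP₁fg : (P.restrictScalars S₁).FG := by
    obtain ⟨G, hG⟩ := hPfg
    refine ⟨G, ?_⟩
    rw [← hG, Submodule.restrictScalars_span S₁ B hsurj]
  haveI : Module.Finite S₁ ↥(P.restrictScalars S₁) := Module.Finite.iff_fg.mpr hP₁fg
  haveI : Module.IsTorsionFree A ↥(P.restrictScalars S₁) :=
    Function.Injective.moduleIsTorsionFree
      (fun x : ↥(P.restrictScalars S₁) => (x : M)) Subtype.val_injective (fun r m => rfl)
  haveI : Module.Flat A ↥(P.restrictScalars S₁) := by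
    rw [Module.Flat.flat_iff_torsion_eq_bot_of_isBezout,
      ← Submodule.isTorsionFree_iff_torsion_eq_bot]
    infer_instance
  haveI : Module.FinitePresentation S₁ ↥(P.restrictScalars S₁) :=
    Groth.Agent.Lib.ValFPH1.main2049 (A := A) (B := S₁) (M := ↥(P.restrictScalars S₁))
  have h := (Groth.Agent.S2107.result hS₁ (M := ↥(P.restrictScalars S₁)) (N := M)
    (P.restrictScalars S₁).subtype (by
      rintro ⟨x, hx⟩ hxm
      have h1 : x ∈ (maximalIdeal A) • (⊤ : Submodule A M) := mem_smul_top_of_map _ hxm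
      obtain ⟨a, ha, y, hy, rfl⟩ := hP x hx h1
      have h2 : (⟨a • y, hx⟩ : ↥(P.restrictScalars S₁)) =
          algebraMap A S₁ a • (⟨y, hy⟩ : ↥(P.restrictScalars S₁)) :=
        Subtype.ext (algebraMap_smul S₁ a y).symm
      rw [h2]
      exact Submodule.smul_mem_smul (Ideal.mem_map_of_mem _ ha) trivial)).2
  rw [Submodule.range_subtype] at h
  rw [flat_quot_iff] at h ⊢
  exact fun a m ha ham => h a m ha ham

end Cover

/-- **S1351** in elementwise form. -/
theorem main1351 {A B : Type u} [CommRing A] [IsDomain A] [ValuationRing A] [CommRing B]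
    [IsLocalRing B] [Algebra A B] [IsLocalHom (algebraMap A B)] [Algebra.EssFiniteType A B]
    {N M : Type u} [AddCommGroup N] [Module B N] [Module A N] [IsScalarTower A B N]
    [Module.Finite B N] [AddCommGroup M] [Module B M] [Module A M] [IsScalarTower A B M]
    [Module.Finite B M] [Module.Flat A M] (u : N →ₗ[B] M)
    (hu : ∀ n : N, u n ∈ maximalIdeal A • (⊤ : Submodule A M) →
      n ∈ maximalIdeal A • (⊤ : Submodule A N)) :
    Function.Injective u ∧ Module.Flat A (M ⧸ LinearMap.range u) := by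
  classical
  haveI tfM : Module.IsTorsionFree A M :=
    Submodule.isTorsionFree_iff_torsion_eq_bot.mpr Module.Flat.torsion_eq_bot
  haveI : Module.Finite B ↥(LinearMap.range u) := Module.Finite.range u
  haveI : Module.IsTorsionFree A ↥(LinearMap.range u) :=
    Function.Injective.moduleIsTorsionFree
      (fun x : ↥(LinearMap.range u) => (x : M)) Subtype.val_injective (fun r m => rfl)
  haveI : Module.Flat A ↥(LinearMap.range u) := by
    rw [Module.Flat.flat_iff_torsion_eq_bot_of_isBezout,
      ← Submodule.isTorsionFree_iff_torsion_eq_bot]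
    infer_instance
  haveI : Module.FinitePresentation B ↥(LinearMap.range u) :=
    Groth.Agent.Lib.ValFPH1.main2049 (A := A) (B := B) (M := ↥(LinearMap.range u))
  have hKfg : (LinearMap.ker u).FG := by
    have h1 := Module.FinitePresentation.fg_ker u.rangeRestrict u.surjective_rangeRestrict
    rwa [LinearMap.ker_rangeRestrict] at h1
  have hpure : ∀ x ∈ LinearMap.range u, x ∈ maximalIdeal A • (⊤ : Submodule A M) →
      ∃ a ∈ maximalIdeal A, ∃ y ∈ LinearMap.range u, x = a • y := by
    rintro _ ⟨n, rfl⟩ hx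
    obtain ⟨a, ha, n', rfl⟩ := exists_eq_smul_of_mem_smul_top _ (hu n hx)
    exact ⟨a, ha, u n', ⟨n', rfl⟩, by rw [LinearMap.map_smul_of_tower]⟩
  have hK : LinearMap.ker u = ⊥ := by
    refine Submodule.eq_bot_of_le_smul_of_le_jacobson_bot (maximalIdeal B) _ hKfg ?_
      (IsLocalRing.jacobson_eq_maximalIdeal _ bot_ne_top).ge
    intro n hn
    have h0 : u n = 0 := hn
    obtain ⟨a, ha, n', rfl⟩ := exists_eq_smul_of_mem_smul_top _
      (hu n (by rw [h0]; exact zero_mem _))
    by_cases ha0 : a = 0
    · rw [ha0, zero_smul]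
      exact zero_mem _
    · have h1 : u n' = 0 := by
        rw [LinearMap.map_smul_of_tower] at h0
        exact (smul_eq_zero_iff_right ha0).mp h0
      rw [← algebraMap_smul B a n']
      exact Submodule.smul_mem_smul (map_nonunit (algebraMap A B) a ha) (LinearMap.mem_ker.mpr h1)
  refine ⟨LinearMap.ker_eq_bot.mp hK, ?_⟩
  obtain ⟨S₁, _, _, _, _, _, _, hS₁, hsurj, -⟩ :=
    Groth.Agent.Lib.FibCritH6.exists_essFP_cover (R := A) (S := B)
  letI : Module S₁ M := Module.compHom M (algebraMap S₁ B)
  haveI : IsScalarTower S₁ B M := IsScalarTower.of_algebraMap_smul fun r x => rfl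
  haveI : IsScalarTower A S₁ M := ⟨fun a s m => by
    change algebraMap S₁ B (a • s) • m = a • (algebraMap S₁ B s • m)
    rw [Algebra.smul_def, map_mul, ← IsScalarTower.algebraMap_apply, mul_smul, algebraMap_smul]⟩
  haveI : IsLocalHom ((algebraMap S₁ B).comp (algebraMap A S₁)) := by
    rw [← IsScalarTower.algebraMap_eq]
    infer_instance
  haveI : IsLocalHom (algebraMap A S₁) := isLocalHom_of_comp (algebraMap A S₁) (algebraMap S₁ B)
  exact flat_quot_cover hS₁ hsurj (LinearMap.range u)
    (Module.Finite.iff_fg.mp inferInstance) hpure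

end Groth.Agent.Lib.ValInjH1
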