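import Mathlib
import Groth.Prelude.Def_HTop

/-!
# The lifting property of a one-member family, without the index universe (helper6)
-/

universe v u

open CategoryTheory CategoryTheory.Limits AlgebraicGeometry

namespace Groth.Agent.Lib.ValLift

theorem hasValLift_singleton_iff {X Y : Scheme.{u}} (f : X ⟶ Y) :
    HTop.HasValLift (PreZeroHypercover.singleton.{v} f) ↔
      ∀ (V : CommRingCat.{u}) [IsDomain V] [ValuationRing V] (g : Spec V ⟶ Y),
        ∃ (W : CommRingCat.{u}) (_ : IsDomain W) (_ : ValuationRing W) (φ : V ⟶ W),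
          HTop.IsExtVal V W φ ∧ ∃ g' : Spec W ⟶ X, g' ≫ f = Spec.map φ ≫ g := by
  constructor
  · intro H V _ _ g
    obtain ⟨W, iD, iV, φ, hext, j, g', hg'⟩ := H V g
    exact ⟨W, iD, iV, φ, hext, g', hg'⟩
  · intro H V _ _ g
    obtain ⟨W, iD, iV, φ, hext, g', hg'⟩ := H V g
    exact ⟨W, iD, iV, φ, hext, PUnit.unit, g', hg'⟩

end Groth.Agent.Lib.ValLift
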