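import Groth.Agent.Lib.ValLiftSep_helper7

/-!
# Valuative lifts for representable morphisms descend along dominating extensions (helper7)
-/

set_option autoImplicit false
universe u
open CategoryTheory CategoryTheory.Limits AlgebraicGeometry Opposite IsLocalRing

namespace Groth.Agent.Lib.ValLiftRepH7

open AlgSp Groth.Agent.Lib.ValLiftSepH7

variable {S : Scheme.{u}}

/-- The ring level statement: `K ∩ A' = A`. -/
theorem exists_ringHom_of_domExt {A K A' K' R : Type u} [CommRing A] [IsDomain A]
    [ValuationRing A] [Field K] [Algebra A K] [IsFractionRing A K]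
    [CommRing A'] [IsDomain A'] [Field K'] [Algebra A' K'] [IsFractionRing A' K'] [CommRing R]
    (φ : A →+* A') (ψ : K →+* K')
    (hcomm : (algebraMap A' K').comp φ = ψ.comp (algebraMap A K)) [IsLocalHom φ]
    (χ' : R →+* A') (χK : R →+* K) (h : (algebraMap A' K').comp χ' = ψ.comp χK) :
    ∃ χ : R →+* A, (algebraMap A K).comp χ = χK ∧ φ.comp χ = χ' := by
  have hι : Function.Injective (algebraMap A K) := IsFractionRing.injective A K
  have hι' : Function.Injective (algebraMap A' K') := IsFractionRing.injective A' K'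
  have hcomm' : ∀ a, algebraMap A' K' (φ a) = ψ (algebraMap A K a) := fun a =>
    RingHom.congr_fun hcomm a
  have h' : ∀ r, algebraMap A' K' (χ' r) = ψ (χK r) := fun r => RingHom.congr_fun h r
  have key : ∀ r, ∃ a : A, algebraMap A K a = χK r := by
    intro r
    rcases ValuationRing.isInteger_or_isInteger A (χK r) with ⟨a, ha⟩ | ⟨a, ha⟩
    · exact ⟨a, ha⟩
    · by_cases hk : χK r = 0
      · exact ⟨0, by rw [map_zero, hk]⟩
      · have h1 : algebraMap A' K' (χ' r * φ a) = 1 := by
          rw [map_mul, h' r, hcomm' a, ha, ← map_mul, mul_inv_cancel₀ hk, map_one]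
        have h2 : χ' r * φ a = 1 := hι' (by rw [h1, map_one])
        have hu : IsUnit (φ a) := IsUnit.of_mul_eq_one_right (χ' r) h2
        have hua : IsUnit a := isUnit_of_map_unit φ a hu
        obtain ⟨b, hb⟩ := hua.exists_right_inv
        refine ⟨b, ?_⟩
        have h3 : (χK r)⁻¹ * algebraMap A K b = 1 := by
          rw [← ha, ← map_mul, hb, map_one]
        calc algebraMap A K b = (χK r * (χK r)⁻¹) * algebraMap A K b := by
              rw [mul_inv_cancel₀ hk, one_mul]
          _ = χK r * ((χK r)⁻¹ * algebraMap A K b) := mul_assoc _ _ _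
          _ = χK r := by rw [h3, mul_one]
  choose c hc using key
  refine ⟨{ toFun := c
            map_one' := hι (by rw [hc, map_one, map_one])
            map_mul' := fun x y => hι (by rw [hc, map_mul, map_mul, hc, hc])
            map_zero' := hι (by rw [hc, map_zero, map_zero])
            map_add' := fun x y => hι (by rw [hc, map_add, map_add, hc, hc]) }, ?_, ?_⟩
  · ext r; exact hc r
  · ext r
    apply hι'
    show algebraMap A' K' (φ (c r)) = algebraMap A' K' (χ' r)
    rw [hcomm', hc, h']

/-- The scheme level statement. -/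
theorem exists_lift_scheme {A K A' K' : Type u} [CommRing A] [IsDomain A]
    [ValuationRing A] [Field K] [Algebra A K] [IsFractionRing A K]
    [CommRing A'] [IsDomain A'] [ValuationRing A'] [Field K'] [Algebra A' K']
    [IsFractionRing A' K']
    (φ : A →+* A') (ψ : K →+* K')
    (hcomm : (algebraMap A' K').comp φ = ψ.comp (algebraMap A K)) [IsLocalHom φ]
    {P : Scheme.{u}} (t : Spec (.of K) ⟶ P) (l' : Spec (.of A') ⟶ P)
    (h : Spec.map (CommRingCat.ofHom (algebraMap A' K')) ≫ l' =
      Spec.map (CommRingCat.ofHom ψ) ≫ t) :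
    ∃ l : Spec (.of A) ⟶ P, Spec.map (CommRingCat.ofHom (algebraMap A K)) ≫ l = t ∧
      Spec.map (CommRingCat.ofHom φ) ≫ l = l' := by
  have hl' := Scheme.Spec_stalkClosedPointTo_fromSpecStalk l'
  have ht := Scheme.Spec_stalkClosedPointTo_fromSpecStalk t
  -- the specialization
  have hspec : t (closedPoint K) ⤳ l' (closedPoint A') := by
    have h0 : (Spec.map (CommRingCat.ofHom (algebraMap A' K'))) (closedPoint K') ⤳
        closedPoint A' := IsLocalRing.specializes_closedPoint _
    have h1 := h0.map l'.continuous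
    have h2 : l' ((Spec.map (CommRingCat.ofHom (algebraMap A' K'))) (closedPoint K')) =
        t (closedPoint K) := by
      rw [← Scheme.Hom.comp_apply, h, Scheme.Hom.comp_apply]
      congr 1
      exact Subsingleton.elim _ _
    rwa [h2] at h1
  obtain ⟨χ', hχ'⟩ : ∃ χ' : P.presheaf.stalk (l' (closedPoint A')) ⟶ CommRingCat.of A',
      Spec.map χ' ≫ P.fromSpecStalk _ = l' := ⟨_, hl'⟩
  obtain ⟨χK, hχK⟩ : ∃ χK : P.presheaf.stalk (l' (closedPoint A')) ⟶ CommRingCat.of K,
      Spec.map χK ≫ P.fromSpecStalk _ = t := by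
    refine ⟨P.presheaf.stalkSpecializes hspec ≫ Scheme.stalkClosedPointTo t, ?_⟩
    rw [Spec.map_comp, Category.assoc, Scheme.SpecMap_stalkSpecializes_fromSpecStalk, ht]
  have hcompat : χ' ≫ CommRingCat.ofHom (algebraMap A' K') = χK ≫ CommRingCat.ofHom ψ := by
    apply Spec.map_injective
    rw [← cancel_mono (P.fromSpecStalk (l' (closedPoint A'))), Spec.map_comp, Spec.map_comp,
      Category.assoc, Category.assoc, hχ', hχK, h]
  obtain ⟨χ, hχ1, hχ2⟩ := exists_ringHom_of_domExt φ ψ hcomm χ'.hom χK.hom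
    (congrArg CommRingCat.Hom.hom hcompat)
  refine ⟨Spec.map (CommRingCat.ofHom χ) ≫ P.fromSpecStalk _, ?_, ?_⟩
  · have e1 : CommRingCat.ofHom χ ≫ CommRingCat.ofHom (algebraMap A K) = χK := by
      ext r; exact RingHom.congr_fun hχ1 r
    rw [← Category.assoc, ← Spec.map_comp, e1, hχK]
  · have e2 : CommRingCat.ofHom χ ≫ CommRingCat.ofHom φ = χ' := by
      ext r; exact RingHom.congr_fun hχ2 r
    rw [← Category.assoc, ← Spec.map_comp, e2, hχ']

/-- For a representable morphism, a valuative square having a lift after a dominating extension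
has a lift. -/
theorem hasLift_of_domExt_of_representable {X Y : Sp S} (f : X ⟶ Y)
    (hf : AlgSp.Representable f) (sq : ValSq f) (e : sq.DomExt) (he : e.HasLift) :
    sq.HasLift := by
  obtain ⟨l', hl1, hl2⟩ := (hasLift_iff sq e).1 he
  obtain ⟨P, fst, snd, sqP⟩ : ∃ (P : Over S) (fst : (yon S).obj P ⟶ X) (snd : P ⟶ sq.ptA),
      IsPullback fst ((yon S).map snd) f sq.bot := ⟨_, _, _, hf.isPullback sq.bot⟩
  obtain ⟨t, ht1, ht2⟩ : ∃ t : sq.ptK ⟶ P, (yon S).map t ≫ fst = sq.top ∧ t ≫ snd = sq.j := by
    refine ⟨(yon S).preimage (sqP.lift sq.top ((yon S).map sq.j) sq.comm), ?_,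
      (yon S).map_injective ?_⟩
    · rw [CategoryTheory.Functor.map_preimage, sqP.lift_fst]
    · rw [CategoryTheory.Functor.map_comp, CategoryTheory.Functor.map_preimage, sqP.lift_snd]
  obtain ⟨l0, hl01, hl02⟩ : ∃ l0 : e.ptA' ⟶ P, (yon S).map l0 ≫ fst = l' ∧
      l0 ≫ snd = jφ sq e := by
    refine ⟨(yon S).preimage (sqP.lift l' ((yon S).map (jφ sq e)) hl2), ?_,
      (yon S).map_injective ?_⟩
    · rw [CategoryTheory.Functor.map_preimage, sqP.lift_fst]
    · rw [CategoryTheory.Functor.map_comp, CategoryTheory.Functor.map_preimage, sqP.lift_snd]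
  have hc : j' sq e ≫ l0 = jψ sq e ≫ t := by
    apply (yon S).map_injective
    apply sqP.hom_ext
    · rw [CategoryTheory.Functor.map_comp, Category.assoc, hl01, hl1,
        CategoryTheory.Functor.map_comp, Category.assoc, ht1]
    · rw [← CategoryTheory.Functor.map_comp, ← CategoryTheory.Functor.map_comp, Category.assoc,
        hl02, Category.assoc, ht2, domExt_comm]
  have hc' : Spec.map (CommRingCat.ofHom (algebraMap e.A' e.K')) ≫ l0.left =
      Spec.map (CommRingCat.ofHom e.ψ) ≫ t.left := congrArg (fun m => m.left) hc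
  haveI := e.isLocalHom
  obtain ⟨l, hl_1, hl_2⟩ := exists_lift_scheme e.φ e.ψ e.comm t.left l0.left hc'
  haveI : Epi (Spec.map (CommRingCat.ofHom e.φ)) := by
    haveI := (flat_surj_Spec_phi sq e).1
    haveI := (flat_surj_Spec_phi sq e).2
    exact Flat.epi_of_flat_of_surjective _
  have hlS : l ≫ P.hom = sq.str := by
    rw [← cancel_epi (Spec.map (CommRingCat.ofHom e.φ)), ← Category.assoc, hl_2]
    exact Over.w l0
  obtain ⟨lo, hlo⟩ : ∃ lo : sq.ptA ⟶ P, lo.left = l := ⟨Over.homMk l hlS, rfl⟩
  have h1 : sq.j ≫ lo = t := by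
    apply Over.OverMorphism.ext
    show Spec.map _ ≫ lo.left = t.left
    rw [hlo, hl_1]
  have h2 : lo ≫ snd = 𝟙 _ := by
    apply Over.OverMorphism.ext
    have e3 : Spec.map (CommRingCat.ofHom e.φ) ≫ (lo.left ≫ snd.left) =
        Spec.map (CommRingCat.ofHom e.φ) ≫ 𝟙 (Spec (CommRingCat.of sq.A)) := by
      rw [hlo, ← Category.assoc, hl_2, Category.comp_id]
      exact congrArg (fun m => m.left) hl02
    exact (cancel_epi _).1 e3
  refine ⟨(yon S).map lo ≫ fst, ?_, ?_⟩
  · rw [← Category.assoc, ← CategoryTheory.Functor.map_comp, h1, ht1]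
  · rw [Category.assoc, sqP.w, ← Category.assoc, ← CategoryTheory.Functor.map_comp, h2,
      CategoryTheory.Functor.map_id, Category.id_comp]

theorem existVC_iff_existVCStrict_of_representable {X Y : Sp S} (f : X ⟶ Y)
    (hf : AlgSp.Representable f) : ExistVC f ↔ ExistVCStrict f :=
  ⟨fun h sq => by
    obtain ⟨e, he⟩ := h sq
    exact hasLift_of_domExt_of_representable f hf sq e he,
  fun h sq => hasLiftExt_of_hasLift sq (h sq)⟩

end Groth.Agent.Lib.ValLiftRepH7
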