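import Groth.Agent.Lib.SchImKT4_helper7
import Groth.Agent.Lib.AlgSpIso_helper7
import Groth.Agent.Lib.AlgSpFpqc3_helper7
import Groth.Prelude.Def_AlgSpMor5

/-!
# Valuative lifts for separated morphisms descend along dominating extensions (helper7)
-/

set_option autoImplicit false
universe u
open CategoryTheory CategoryTheory.Limits AlgebraicGeometry Opposite

namespace Groth.Agent.Lib.ValLiftSepH7

open AlgSp Groth.Agent.Lib.AlgSpPoints_helper7 Groth.Agent.Lib.AlgSpPullback_helper7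
  Groth.Agent.Lib.AlgSpQC_helper7 Groth.Agent.Lib.AlgSpQC2_helper7 Groth.Agent.Lib.SchImageH7
  Groth.Agent.Lib.SchImKTH7 Groth.Agent.Lib.SchImKT4H7 Groth.Agent.Lib.AlgSpProper_helper7
  Groth.Agent.Lib.AlgSpLocP4_helper7
  Groth.Agent.Lib.AlgSpLocP_helper7 Groth.Agent.Lib.AlgSpSep_helper7
  Groth.Agent.Lib.AlgSpBasic_helper7 Groth.Agent.Lib.AlgSpFpqc_helper7
  Groth.Agent.Lib.AlgSpIso_helper7 Groth.Agent.Lib.AlgSpFpqc3_helper7

variable {S : Scheme.{u}}

/-- A dominant morphism to a reduced scheme is schematically dominant. -/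
theorem isSchImage_id_of_dominant {T TK : Over S} (j : TK ⟶ T) (hred : IsReduced T.left)
    (hdom : IsDominant j.left) : IsSchImage ((yon S).map j) (𝟙 ((yon S).obj T)) := by
  refine ⟨repWith_id _ T, ⟨(yon S).map j, Category.comp_id _⟩, ?_⟩
  rintro Z' i' hZ' hi' ⟨f'', hf''⟩
  obtain ⟨P, fst, snd, sq⟩ : ∃ (P : Over S) (fst : (yon S).obj P ⟶ Z') (snd : P ⟶ T),
      IsPullback fst ((yon S).map snd) i' (𝟙 ((yon S).obj T)) := ⟨_, _, _, hi'.rep.isPullback _⟩
  haveI hcl : IsClosedImmersion snd.left := hi'.2 _ fst snd sq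
  have comm : f'' ≫ i' = (yon S).map j ≫ 𝟙 ((yon S).obj T) := by rw [hf'', Category.comp_id]
  obtain ⟨m, hm⟩ : ∃ m : TK ⟶ P, m ≫ snd = j := by
    refine ⟨(yon S).preimage (sq.lift f'' ((yon S).map j) comm), (yon S).map_injective ?_⟩
    rw [CategoryTheory.Functor.map_comp, CategoryTheory.Functor.map_preimage, sq.lift_snd]
  haveI : IsDominant (m.left ≫ snd.left) := by
    rw [← Over.comp_left, hm]; exact hdom
  haveI : IsDominant snd.left := IsDominant.of_comp (f := m.left) (g := snd.left)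
  haveI : Surjective snd.left :=
    surjective_of_isDominant_of_isClosed_range _ snd.left.isClosedEmbedding.isClosed_range
  haveI := hred
  haveI : IsIso snd.left := isIso_of_isClosedImmersion_of_surjective _
  haveI : IsIso ((Over.forget S).map snd) := (inferInstance : IsIso snd.left)
  haveI : IsIso snd := isIso_of_reflects_iso snd (Over.forget S)
  refine ⟨(yon S).map (inv snd) ≫ fst, ?_⟩
  rw [Category.assoc, sq.w, Category.comp_id, ← CategoryTheory.Functor.map_comp, IsIso.inv_hom_id,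
    CategoryTheory.Functor.map_id]

/-- Two morphisms into a separated space agreeing on a schematically dominant part agree. -/
theorem eq_of_isSchImage_id {W B P Q : Sp S} (hP : IsAlgSpace P) (g : W ⟶ B)
    (hg : IsSeparatedMor g) (u v : P ⟶ W) (huv : u ≫ g = v ≫ g) (d : Q ⟶ P)
    (hd : IsSchImage d (𝟙 P)) (hduv : d ≫ u = d ≫ v) : u = v := by
  obtain ⟨E, e1, e, sqE⟩ : ∃ (E : Sp S) (e1 : E ⟶ W) (e : E ⟶ P),
      IsPullback e1 e (pullback.diagonal g) (pullback.lift u v huv) :=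
    ⟨_, _, _, IsPullback.of_hasPullback _ _⟩
  have he : RepWith @IsClosedImmersion e := repWith_snd_of_isPullback _ sqE hg
  haveI := mono_of_closedImmersion _ he
  have hE : IsAlgSpace E := isAlgSpace_of_representable_mono e he.rep hP
  have h1 : e ≫ u = e1 := by
    calc e ≫ u = e ≫ (pullback.lift u v huv ≫ pullback.fst g g) := by rw [pullback.lift_fst]
      _ = (e ≫ pullback.lift u v huv) ≫ pullback.fst g g := (Category.assoc _ _ _).symm
      _ = (e1 ≫ pullback.diagonal g) ≫ pullback.fst g g := by rw [sqE.w]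
      _ = e1 := by rw [Category.assoc, pullback.diagonal_fst, Category.comp_id]
  have h2 : e ≫ v = e1 := by
    calc e ≫ v = e ≫ (pullback.lift u v huv ≫ pullback.snd g g) := by rw [pullback.lift_snd]
      _ = (e ≫ pullback.lift u v huv) ≫ pullback.snd g g := (Category.assoc _ _ _).symm
      _ = (e1 ≫ pullback.diagonal g) ≫ pullback.snd g g := by rw [sqE.w]
      _ = e1 := by rw [Category.assoc, pullback.diagonal_snd, Category.comp_id]
  obtain ⟨k, hk⟩ := hd.2.2 e hE he ⟨sqE.lift (d ≫ u) d (by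
      apply pullback.hom_ext
      · simp only [Category.assoc]
        rw [pullback.diagonal_fst, Category.comp_id, pullback.lift_fst]
      · simp only [Category.assoc]
        rw [pullback.diagonal_snd, Category.comp_id, pullback.lift_snd, hduv]), sqE.lift_snd _ _ _⟩
  calc u = (k ≫ e) ≫ u := by rw [hk, Category.id_comp]
    _ = (k ≫ e) ≫ v := by rw [Category.assoc, h1, Category.assoc, h2]
    _ = v := by rw [hk, Category.id_comp]

/-- The core: a section over `T` exists if it exists after an fpqc base change `T' ⟶ T`, compatibly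
with a given section over the "generic point" `TK`. -/
theorem exists_section_core {W : Sp S} (hW : IsAlgSpace W) {T TK T' TK' : Over S}
    (j : TK ⟶ T) (jφ : T' ⟶ T) (j' : TK' ⟶ T') (jψ : TK' ⟶ TK) (hcomm : j' ≫ jφ = jψ ≫ j)
    (hjM : Mono ((yon S).map j)) (hjFl : Flat j.left) (hjQc : QuasiCompact j.left)
    (hjD : IsDominant j.left) (hTr : IsReduced T.left)
    (hcFl : Flat jφ.left) (hcSu : Surjective jφ.left) (hcQc : QuasiCompact jφ.left)
    (hT'r : IsReduced T'.left) (hj'D : IsDominant j'.left) (hj'Qc : QuasiCompact j'.left)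
    (g : W ⟶ (yon S).obj T) (hg : IsSeparatedMor g)
    (x : (yon S).obj TK ⟶ W) (hx : x ≫ g = (yon S).map j)
    (lA : (yon S).obj T' ⟶ W) (hlA : lA ≫ g = (yon S).map jφ)
    (hcompat : (yon S).map j' ≫ lA = (yon S).map jψ ≫ x) :
    ∃ σ₀ : (yon S).obj T ⟶ W, σ₀ ≫ g = 𝟙 _ ∧ (yon S).map j ≫ σ₀ = x := by
  haveI := hjM
  have hT : IsAlgSpace ((yon S).obj T) := IsAlgSpace.yon_obj T
  have hT' : IsAlgSpace ((yon S).obj T') := IsAlgSpace.yon_obj T'
  have hTK : IsAlgSpace ((yon S).obj TK) := IsAlgSpace.yon_obj TK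
  have hTK' : IsAlgSpace ((yon S).obj TK') := IsAlgSpace.yon_obj TK'
  have hflatE : ∀ ⦃A B : Scheme.{u}⦄ (k : A ⟶ B), Etale k → Flat k := fun _ _ k hk => by
    haveI := hk; infer_instance
  have hjF : RepWith @Flat ((yon S).map j) := (repWith_yon_map_iff _ _).2 hjFl
  have hjQ : RepWith @QuasiCompact ((yon S).map j) := (repWith_yon_map_iff _ _).2 hjQc
  have hcF : RepWith @Flat ((yon S).map jφ) := (repWith_yon_map_iff _ _).2 hcFl
  have hcQ : RepWith @QuasiCompact ((yon S).map jφ) := (repWith_yon_map_iff _ _).2 hcQc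
  have hcS : RepWith @Surjective ((yon S).map jφ) := (repWith_yon_map_iff _ _).2 hcSu
  have hj'Q : RepWith @QuasiCompact ((yon S).map j') := (repWith_yon_map_iff _ _).2 hj'Qc
  have hcLF : LocP @Flat ((yon S).map jφ) := locP_of_repWith @Flat hflatE _ hcF
  -- the scheme theoretic image of `x`
  obtain ⟨Z, ι, hZ, hι, hIm, x', hx'⟩ : ∃ (Z : Sp S) (ι : Z ⟶ W), IsAlgSpace Z ∧
      RepWith @IsClosedImmersion ι ∧ IsSchImage x ι ∧ ∃ x' : (yon S).obj TK ⟶ Z, x' ≫ ι = x :=
    ⟨_, imgι x, isAlgSpace_img hW x, repWith_isClosedImmersion_imgι x, isSchImage_imgι x,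
      exists_fac_img x⟩
  suffices hπ : IsIso (ι ≫ g) by
    refine ⟨inv (ι ≫ g) ≫ ι, by rw [Category.assoc, IsIso.inv_hom_id], ?_⟩
    have h1 : x' ≫ (ι ≫ g) = (yon S).map j := by rw [← Category.assoc, hx', hx]
    calc (yon S).map j ≫ inv (ι ≫ g) ≫ ι = (x' ≫ (ι ≫ g)) ≫ inv (ι ≫ g) ≫ ι := by rw [h1]
      _ = x' ≫ ι := by rw [Category.assoc, IsIso.hom_inv_id_assoc]
      _ = x := hx'
  -- fpqc locality of isomorphisms
  have hcov : IsFpqcCover (fun _ : PUnit.{u + 1} => (yon S).obj T')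
      (fun _ => (yon S).map jφ) :=
    isFpqcCover_single hT' hT _ hcLF (isQuasiCompactMor_of_repWith _ hcQ)
      (isSurjectiveMor_of_repWith _ hcS)
  have sqπ := IsPullback.of_hasPullback (ι ≫ g) ((yon S).map jφ)
  have hZ' : IsAlgSpace (pullback (ι ≫ g) ((yon S).map jφ)) :=
    isAlgSpace_of_isPullback hT.diag hZ hT' sqπ
  have key := isLocalOnBase_fpqc_isomorphisms (S := S)
    (fun _ : PUnit.{u + 1} => (yon S).obj T') (fun _ => (yon S).map jφ) hT (fun _ => hT') hcov
    (ι ≫ g) hZ (fun _ => pullback (ι ≫ g) ((yon S).map jφ)) (fun _ => pullback.snd _ _)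
    (fun _ => pullback.fst _ _) (fun _ => hZ') (fun _ => sqπ)
  refine key.2 (fun _ => ?_)
  show IsIso (pullback.snd (ι ≫ g) ((yon S).map jφ))
  -- the base change `W'` of `W`
  obtain ⟨W', cW, g', sqW⟩ : ∃ (W' : Sp S) (cW : W' ⟶ W) (g' : W' ⟶ (yon S).obj T'),
      IsPullback cW g' g ((yon S).map jφ) := ⟨_, _, _, IsPullback.of_hasPullback _ _⟩
  have hW' : IsAlgSpace W' := isAlgSpace_of_isPullback hT.diag hW hT' sqW
  have hg' : IsSeparatedMor g' := isSeparatedMor_of_isPullback sqW hg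
  have hcWF : LocP @Flat cW :=
    locP_of_repWith @Flat hflatE _ (repWith_fst_of_isPullback _ sqW hcF)
  obtain ⟨σ, hσ1, hσ2⟩ : ∃ σ : (yon S).obj T' ⟶ W', σ ≫ cW = lA ∧ σ ≫ g' = 𝟙 _ :=
    ⟨sqW.lift lA (𝟙 _) (by rw [hlA, Category.id_comp]), sqW.lift_fst _ _ _, sqW.lift_snd _ _ _⟩
  have hσ : RepWith @IsClosedImmersion σ := repWith_isClosedImmersion_of_section σ g' hσ2 hg'
  haveI : Mono σ := mono_of_closedImmersion _ hσ
  -- the base change of `ι`
  obtain ⟨Z'', qZ, ι', sqZ⟩ : ∃ (Z'' : Sp S) (qZ : Z'' ⟶ Z) (ι' : Z'' ⟶ W'),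
      IsPullback qZ ι' ι cW := ⟨_, _, _, IsPullback.of_hasPullback _ _⟩
  have hι' : RepWith @IsClosedImmersion ι' := repWith_snd_of_isPullback _ sqZ hι
  haveI : Mono ι' := mono_of_closedImmersion _ hι'
  have hZ'' : IsAlgSpace Z'' := isAlgSpace_of_representable_mono ι' hι'.rep hW'
  have big : IsPullback qZ (ι' ≫ g') (ι ≫ g) ((yon S).map jφ) := sqZ.paste_vert sqW
  suffices hiso : IsIso (ι' ≫ g') by
    have he : (sqπ.isoIsPullback _ _ big).hom ≫ (ι' ≫ g') =
        pullback.snd (ι ≫ g) ((yon S).map jφ) := IsPullback.isoIsPullback_hom_snd _ _ sqπ big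
    rw [← he]; infer_instance
  -- the base change of `x`
  obtain ⟨TL, s1, xL, sqV⟩ : ∃ (TL : Sp S) (s1 : TL ⟶ (yon S).obj TK) (xL : TL ⟶ W'),
      IsPullback s1 xL x cW := ⟨_, _, _, IsPullback.of_hasPullback _ _⟩
  have sqTL : IsPullback s1 (xL ≫ g') ((yon S).map j) ((yon S).map jφ) := by
    have := sqV.paste_vert sqW
    rwa [hx] at this
  have hTL : IsAlgSpace TL := isAlgSpace_of_isPullback hT.diag hTK hT' sqTL
  have hxQ : IsQuasiCompactMor x :=
    isQuasiCompactMor_of_comp_of_isQuasiSeparatedMor x g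
      (by rw [hx]; exact isQuasiCompactMor_of_repWith _ hjQ)
      (repWith_mono (fun _ _ k (hk : IsClosedImmersion k) => (inferInstance : QuasiCompact k)) hg)
  have hImL : IsSchImage xL ι' :=
    isSchImage_flat_baseChange hW' hW hTK cW hcWF x hxQ ι hIm s1 xL sqV qZ ι' sqZ
  -- `s2 = xL ≫ g'` is schematically dominant
  have hs2F : LocP @Flat (xL ≫ g') :=
    locP_of_repWith @Flat hflatE _ (repWith_snd_of_isPullback _ sqTL hjF)
  have hs2Im : IsSchImage (xL ≫ g') (𝟙 ((yon S).obj T')) :=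
    isSchImage_flat_baseChange hT' hT hTK ((yon S).map jφ) hcLF ((yon S).map j)
      (isQuasiCompactMor_of_repWith _ hjQ) (𝟙 _) (isSchImage_id_of_dominant j hTr hjD)
      s1 (xL ≫ g') sqTL ((yon S).map jφ) (𝟙 _)
      (IsPullback.of_vert_isIso ⟨by rw [Category.comp_id, Category.id_comp]⟩)
  -- the generic point of `TL`
  obtain ⟨D, pr1, d', sqD⟩ : ∃ (D : Sp S) (pr1 : D ⟶ (yon S).obj TK') (d' : D ⟶ TL),
      IsPullback pr1 d' ((yon S).map j') (xL ≫ g') := ⟨_, _, _, IsPullback.of_hasPullback _ _⟩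
  have hd'Im : IsSchImage d' (𝟙 TL) :=
    isSchImage_flat_baseChange hTL hT' hTK' (xL ≫ g') hs2F ((yon S).map j')
      (isQuasiCompactMor_of_repWith _ hj'Q) (𝟙 _) (isSchImage_id_of_dominant j' hT'r hj'D)
      pr1 d' sqD (xL ≫ g') (𝟙 _)
      (IsPullback.of_vert_isIso ⟨by rw [Category.comp_id, Category.id_comp]⟩)
  have hd's1 : d' ≫ s1 = pr1 ≫ (yon S).map jψ := by
    rw [← cancel_mono ((yon S).map j)]
    calc (d' ≫ s1) ≫ (yon S).map j = d' ≫ (s1 ≫ (yon S).map j) := Category.assoc _ _ _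
      _ = d' ≫ ((xL ≫ g') ≫ (yon S).map jφ) := by rw [sqTL.w]
      _ = (d' ≫ (xL ≫ g')) ≫ (yon S).map jφ := (Category.assoc _ _ _).symm
      _ = (pr1 ≫ (yon S).map j') ≫ (yon S).map jφ := by rw [sqD.w]
      _ = pr1 ≫ (yon S).map (j' ≫ jφ) := by rw [Category.assoc, CategoryTheory.Functor.map_comp]
      _ = pr1 ≫ (yon S).map (jψ ≫ j) := by rw [hcomm]
      _ = (pr1 ≫ (yon S).map jψ) ≫ (yon S).map j := by rw [CategoryTheory.Functor.map_comp, Category.assoc]
  have hA1 : s1 ≫ x = (xL ≫ g') ≫ lA := by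
    refine eq_of_isSchImage_id hTL g hg _ _ ?_ d' hd'Im ?_
    · rw [Category.assoc, hx, Category.assoc, hlA, sqTL.w]
    · calc d' ≫ s1 ≫ x = (d' ≫ s1) ≫ x := (Category.assoc _ _ _).symm
        _ = (pr1 ≫ (yon S).map jψ) ≫ x := by rw [hd's1]
        _ = pr1 ≫ ((yon S).map j' ≫ lA) := by rw [Category.assoc, hcompat]
        _ = (pr1 ≫ (yon S).map j') ≫ lA := (Category.assoc _ _ _).symm
        _ = (d' ≫ (xL ≫ g')) ≫ lA := by rw [sqD.w]
        _ = d' ≫ (xL ≫ g') ≫ lA := Category.assoc _ _ _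
  have hA : xL = (xL ≫ g') ≫ σ := by
    apply sqW.hom_ext
    · rw [Category.assoc, hσ1, ← hA1, sqV.w]
    · rw [Category.assoc, hσ2, Category.comp_id]
  -- mutual minimality
  obtain ⟨k1, hk1⟩ := hImL.2.2 σ hT' hσ ⟨xL ≫ g', hA.symm⟩
  have hk1' : ι' ≫ g' = k1 := by rw [← hk1, Category.assoc, hσ2, Category.comp_id]
  have hk1cl : RepWith @IsClosedImmersion k1 := by
    have sqk : IsPullback (𝟙 Z'') k1 (k1 ≫ σ) σ := isPullback_id_of_mono k1 σ
    rw [hk1] at sqk
    exact repWith_snd_of_isPullback _ sqk hι'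
  obtain ⟨xL', hxL'⟩ := hImL.2.1
  obtain ⟨k2, hk2⟩ := hs2Im.2.2 k1 hZ'' hk1cl ⟨xL', by rw [← hk1', ← Category.assoc, hxL']⟩
  haveI : Mono k1 := mono_of_closedImmersion _ hk1cl
  have hk12 : k1 ≫ k2 = 𝟙 _ := by
    rw [← cancel_mono k1, Category.assoc, hk2, Category.comp_id, Category.id_comp]
  rw [hk1']
  exact ⟨k2, hk12, hk2⟩

/-- The abstract lifting statement. -/
theorem exists_lift_core {X Y : Sp S} (hX : IsAlgSpace X) (hY : IsAlgSpace Y) (f : X ⟶ Y)
    (hf : IsSeparatedMor f) {T TK T' TK' : Over S}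
    (j : TK ⟶ T) (jφ : T' ⟶ T) (j' : TK' ⟶ T') (jψ : TK' ⟶ TK) (hcomm : j' ≫ jφ = jψ ≫ j)
    (hjM : Mono ((yon S).map j)) (hjFl : Flat j.left) (hjQc : QuasiCompact j.left)
    (hjD : IsDominant j.left) (hTr : IsReduced T.left)
    (hcFl : Flat jφ.left) (hcSu : Surjective jφ.left) (hcQc : QuasiCompact jφ.left)
    (hT'r : IsReduced T'.left) (hj'D : IsDominant j'.left) (hj'Qc : QuasiCompact j'.left)
    (top : (yon S).obj TK ⟶ X) (bot : (yon S).obj T ⟶ Y) (comm : top ≫ f = (yon S).map j ≫ bot)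
    (l' : (yon S).obj T' ⟶ X) (hl1 : (yon S).map j' ≫ l' = (yon S).map jψ ≫ top)
    (hl2 : l' ≫ f = (yon S).map jφ ≫ bot) :
    ∃ l : (yon S).obj T ⟶ X, (yon S).map j ≫ l = top ∧ l ≫ f = bot := by
  have sqW := IsPullback.of_hasPullback f bot
  have hW : IsAlgSpace (pullback f bot) :=
    isAlgSpace_of_isPullback hY.diag hX (IsAlgSpace.yon_obj T) sqW
  have hg : IsSeparatedMor (pullback.snd f bot) := isSeparatedMor_of_isPullback sqW hf
  obtain ⟨σ₀, h1, h2⟩ := exists_section_core hW j jφ j' jψ hcomm hjM hjFl hjQc hjD hTr hcFl hcSu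
    hcQc hT'r hj'D hj'Qc (pullback.snd f bot) hg
    (pullback.lift top ((yon S).map j) comm) (pullback.lift_snd _ _ _)
    (pullback.lift l' ((yon S).map jφ) hl2) (pullback.lift_snd _ _ _)
    (by
      apply pullback.hom_ext
      · rw [Category.assoc, pullback.lift_fst, Category.assoc, pullback.lift_fst, hl1]
      · rw [Category.assoc, pullback.lift_snd, Category.assoc, pullback.lift_snd,
          ← CategoryTheory.Functor.map_comp, ← CategoryTheory.Functor.map_comp, hcomm])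
  refine ⟨σ₀ ≫ pullback.fst f bot, ?_, ?_⟩
  · rw [← Category.assoc, h2, pullback.lift_fst]
  · rw [Category.assoc, pullback.condition, ← Category.assoc, h1, Category.id_comp]

/-! ## Ring level facts -/

theorem isDominant_Spec_map_of_injective {R R' : CommRingCat.{u}} (φ : R ⟶ R')
    (hφ : Function.Injective φ.hom) : IsDominant (Spec.map φ) := by
  constructor
  show DenseRange (PrimeSpectrum.comap φ.hom)
  rw [PrimeSpectrum.denseRange_comap_iff_ker_le_nilRadical,
    (RingHom.injective_iff_ker_eq_bot _).1 hφ]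
  exact bot_le

theorem mono_Spec_map_of_epi {R R' : CommRingCat.{u}} (φ : R ⟶ R') [Epi φ] :
    Mono (Spec.map φ) := by
  haveI : Scheme.Spec.PreservesMonomorphisms :=
    Functor.preservesMonomorphisms_of_adjunction ΓSpec.adjunction
  exact (inferInstance : Mono (Scheme.Spec.map φ.op))

theorem flat_Spec_algebraMap (A K : Type u) [CommRing A] [IsDomain A] [Field K] [Algebra A K]
    [IsFractionRing A K] : Flat (Spec.map (CommRingCat.ofHom (algebraMap A K))) := by
  rw [HasRingHomProperty.Spec_iff (P := @Flat)]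
  show (algebraMap A K).Flat
  rw [RingHom.flat_algebraMap_iff]
  exact IsLocalization.flat K (nonZeroDivisors A)

section Ring

variable {F G : Sp S} {f : F ⟶ G} (sq : ValSq f) (e : sq.DomExt)

theorem phi_injective : Function.Injective e.φ := by
  have h : Function.Injective (⇑(algebraMap e.A' e.K') ∘ ⇑e.φ) := by
    rw [← RingHom.coe_comp, e.comm, RingHom.coe_comp]
    exact e.ψ.injective.comp (IsFractionRing.injective sq.A sq.K)
  exact Function.Injective.of_comp h

theorem phi_faithfullyFlat : e.φ.FaithfullyFlat := by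
  letI := e.φ.toAlgebra
  have hinj := phi_injective sq e
  haveI : Module.Flat sq.A e.A' := by
    rw [Module.Flat.flat_iff_torsion_eq_bot_of_isBezout, eq_bot_iff]
    intro x hx
    obtain ⟨a, ha⟩ := (Submodule.mem_torsion_iff x).1 hx
    have ha' : e.φ (a : sq.A) * x = 0 := ha
    have hne : e.φ (a : sq.A) ≠ 0 := fun h0 =>
      nonZeroDivisors.ne_zero a.2 (hinj (by rw [h0, map_zero]))
    exact (Submodule.mem_bot _).2 ((mul_eq_zero.1 ha').resolve_left hne)
  haveI : IsLocalHom (algebraMap sq.A e.A') := e.isLocalHom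
  exact (Module.FaithfullyFlat.of_flat_of_isLocalHom : Module.FaithfullyFlat sq.A e.A')

theorem flat_surj_Spec_phi : Flat (Spec.map (CommRingCat.ofHom e.φ)) ∧
    Surjective (Spec.map (CommRingCat.ofHom e.φ)) :=
  (flat_and_surjective_SpecMap_iff (CommRingCat.ofHom e.φ)).2 (phi_faithfullyFlat sq e)

/-- `Spec A' ⟶ Spec A`. -/
noncomputable abbrev jφ : e.ptA' ⟶ sq.ptA := Over.homMk (Spec.map (CommRingCat.ofHom e.φ)) rfl

/-- `Spec K' ⟶ Spec A'`. -/
noncomputable abbrev j' : e.ptK' ⟶ e.ptA' :=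
  Over.homMk (Spec.map (CommRingCat.ofHom (algebraMap e.A' e.K'))) rfl

/-- `Spec K' ⟶ Spec K`. -/
noncomputable abbrev jψ : e.ptK' ⟶ sq.ptK :=
  Over.homMk (Spec.map (CommRingCat.ofHom e.ψ)) (by
    change Spec.map _ ≫ Spec.map _ ≫ _ = Spec.map _ ≫ Spec.map _ ≫ _
    rw [← Spec.map_comp_assoc, ← Spec.map_comp_assoc, ← CommRingCat.ofHom_comp,
      ← CommRingCat.ofHom_comp, e.comm])

theorem hasLift_iff : e.HasLift ↔ ∃ l : (yon S).obj e.ptA' ⟶ F,
    (yon S).map (j' sq e) ≫ l = (yon S).map (jψ sq e) ≫ sq.top ∧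
      l ≫ f = (yon S).map (jφ sq e) ≫ sq.bot := Iff.rfl

theorem domExt_comm : j' sq e ≫ jφ sq e = jψ sq e ≫ sq.j := by
  apply Over.OverMorphism.ext
  show Spec.map _ ≫ Spec.map _ = Spec.map _ ≫ Spec.map _
  rw [← Spec.map_comp, ← Spec.map_comp, ← CommRingCat.ofHom_comp, ← CommRingCat.ofHom_comp,
    e.comm]

theorem mono_yon_j : Mono ((yon S).map sq.j) := by
  haveI : Epi (CommRingCat.ofHom (algebraMap sq.A sq.K)) :=
    IsLocalization.epi (nonZeroDivisors sq.A) sq.K
  haveI h0 : Mono (Spec.map (CommRingCat.ofHom (algebraMap sq.A sq.K))) :=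
    mono_Spec_map_of_epi _
  haveI h1 : Mono sq.j := (Over.forget S).mono_of_mono_map h0
  haveI : (yon S).PreservesMonomorphisms := preservesMonomorphisms_of_preservesLimitsOfShape _
  exact (yon S).map_mono _

end Ring

/-- For a separated morphism of algebraic spaces, a valuative square having a lift after a
dominating extension has a lift. -/
theorem hasLift_of_domExt {X Y : Sp S} (hX : IsAlgSpace X) (hY : IsAlgSpace Y) (f : X ⟶ Y)
    (hf : IsSeparatedMor f) (sq : ValSq f) (e : sq.DomExt) (he : e.HasLift) : sq.HasLift := by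
  obtain ⟨l', hl1, hl2⟩ := (hasLift_iff sq e).1 he
  have hFS := flat_surj_Spec_phi sq e
  exact exists_lift_core hX hY f hf sq.j (jφ sq e) (j' sq e) (jψ sq e) (domExt_comm sq e)
    (mono_yon_j sq) (flat_Spec_algebraMap sq.A sq.K)
    (inferInstance : QuasiCompact (Spec.map (CommRingCat.ofHom (algebraMap sq.A sq.K))))
    (isDominant_Spec_map_of_injective _ (IsFractionRing.injective sq.A sq.K))
    (inferInstance : IsReduced (Spec (CommRingCat.of sq.A)))
    hFS.1 hFS.2
    (inferInstance : QuasiCompact (Spec.map (CommRingCat.ofHom e.φ)))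
    (inferInstance : IsReduced (Spec (CommRingCat.of e.A')))
    (isDominant_Spec_map_of_injective _ (IsFractionRing.injective e.A' e.K'))
    (inferInstance : QuasiCompact (Spec.map (CommRingCat.ofHom (algebraMap e.A' e.K'))))
    sq.top sq.bot sq.comm l' hl1 hl2

/-- A lift is a lift after the trivial extension. -/
theorem hasLiftExt_of_hasLift {F G : Sp S} {f : F ⟶ G} (sq : ValSq f) (h : sq.HasLift) :
    sq.HasLiftExt := by
  obtain ⟨l, h1, h2⟩ := h
  let e : sq.DomExt :=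
    { A' := sq.A
      K' := sq.K
      φ := RingHom.id _
      ψ := RingHom.id _
      comm := by rw [RingHom.comp_id, RingHom.id_comp]
      isLocalHom := ⟨fun _ ha => ha⟩ }
  refine ⟨e, (hasLift_iff sq e).2 ⟨(yon S).map (jφ sq e) ≫ l, ?_, ?_⟩⟩
  · rw [← h1, ← Category.assoc, ← Category.assoc, ← CategoryTheory.Functor.map_comp, ← CategoryTheory.Functor.map_comp,
      domExt_comm]
  · rw [Category.assoc, h2]

theorem existVC_iff_existVCStrict {X Y : Sp S} (hX : IsAlgSpace X) (hY : IsAlgSpace Y)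
    (f : X ⟶ Y) (hf : IsSeparatedMor f) : ExistVC f ↔ ExistVCStrict f := by
  constructor
  · intro h sq
    obtain ⟨e, he⟩ := h sq
    exact hasLift_of_domExt hX hY f hf sq e he
  · intro h sq
    exact hasLiftExt_of_hasLift sq (h sq)

end Groth.Agent.Lib.ValLiftSepH7
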