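import Mathlib
import Groth.Agent.Lib.ValFP_helper1
import Groth.Agent.Lib.FibPD_helper7
import Groth.Agent.S0563

/-!
# Projective dimension of flat finitely presented modules over valuation rings (helper1)
Non-noetherian variant of helper7's `FibPD` (reduction to the fibre), where noetherianity is
replaced by "finite + flat over the base ⇒ finitely presented".  APPEND-ONLY once landed.
-/

set_option autoImplicit false
universe u
open CategoryTheory Limits TensorProduct IsLocalRing
open Groth.Agent.Lib.FibPDH7

namespace Groth.Agent.Lib.ValPDH1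

section Gen

variable {V C : Type u} [CommRing V] [CommRing C] [IsLocalRing C] [Algebra V C] [Module.Flat V C]
  (m : Ideal V)


variable (hm : (Ideal.map (algebraMap V C) m) ≤ maximalIdeal C)
  (hfp : ∀ (N : Type u) [AddCommGroup N] [Module C N] [Module V N] [IsScalarTower V C N]
    [Module.Finite C N] [Module.Flat V N], Module.FinitePresentation C N)

include hm in
theorem le_jac : (Ideal.map (algebraMap V C) m) ≤ Ideal.jacobson (⊥ : Ideal C) := by
  rw [IsLocalRing.jacobson_eq_maximalIdeal ⊥ bot_ne_top]
  exact hm

include hm hfp in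
theorem projective_of_red' (N : Type u) [AddCommGroup N] [Module C N] [Module V N]
    [IsScalarTower V C N] [Module.Finite C N] [Module.Flat V N]
    (h : Module.Projective (C ⧸ (Ideal.map (algebraMap V C) m)) (N ⧸ ((Ideal.map (algebraMap V C) m) • (⊤ : Submodule C N)))) : Module.Projective C N := by
  classical
  haveI hnt : Nontrivial (C ⧸ (Ideal.map (algebraMap V C) m)) := Ideal.Quotient.nontrivial_iff.mpr
    (ne_top_of_le_ne_top (IsLocalRing.maximalIdeal.isMaximal C).ne_top hm)
  haveI : IsLocalRing (C ⧸ (Ideal.map (algebraMap V C) m)) :=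
    IsLocalRing.of_surjective' (Ideal.Quotient.mk (Ideal.map (algebraMap V C) m)) Ideal.Quotient.mk_surjective
  haveI : Module.Flat (C ⧸ (Ideal.map (algebraMap V C) m)) (N ⧸ ((Ideal.map (algebraMap V C) m) • (⊤ : Submodule C N))) := inferInstance
  haveI : Module.Free (C ⧸ (Ideal.map (algebraMap V C) m)) (N ⧸ ((Ideal.map (algebraMap V C) m) • (⊤ : Submodule C N))) :=
    Module.free_of_flat_of_isLocalRing
  let ι := Module.Free.ChooseBasisIndex (C ⧸ (Ideal.map (algebraMap V C) m)) (N ⧸ ((Ideal.map (algebraMap V C) m) • (⊤ : Submodule C N)))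
  let b : Module.Basis ι (C ⧸ (Ideal.map (algebraMap V C) m)) (N ⧸ ((Ideal.map (algebraMap V C) m) • (⊤ : Submodule C N))) :=
    Module.Free.chooseBasis (C ⧸ (Ideal.map (algebraMap V C) m)) (N ⧸ ((Ideal.map (algebraMap V C) m) • (⊤ : Submodule C N)))
  haveI : Fintype ι := inferInstance
  choose n hn using fun i => Submodule.Quotient.mk_surjective
    ((Ideal.map (algebraMap V C) m) • (⊤ : Submodule C N)) (b i)
  let φ : (ι → C) →ₗ[C] N := Fintype.linearCombination C n
  have hφmk : ∀ c : ι → C, (Submodule.Quotient.mk (φ c) : N ⧸ ((Ideal.map (algebraMap V C) m) • (⊤ : Submodule C N))) =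
      ∑ i, (Ideal.Quotient.mk (Ideal.map (algebraMap V C) m) (c i)) • b i := by
    intro c
    show Submodule.Quotient.mk (Fintype.linearCombination C n c) = _
    rw [Fintype.linearCombination_apply]
    have : (Submodule.Quotient.mk (∑ i, c i • n i) : N ⧸ ((Ideal.map (algebraMap V C) m) • (⊤ : Submodule C N))) =
        ∑ i, Submodule.Quotient.mk (c i • n i) :=
      map_sum (Submodule.mkQ ((Ideal.map (algebraMap V C) m) • (⊤ : Submodule C N))) _ _
    rw [this]
    refine Finset.sum_congr rfl fun i _ => ?_
    rw [← hn i]
    rfl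
  -- surjectivity
  have hφ : Function.Surjective φ := by
    rw [← LinearMap.range_eq_top, eq_top_iff]
    refine Submodule.le_of_le_smul_of_le_jacobson_bot (I := (Ideal.map (algebraMap V C) m)) Module.Finite.fg_top
      (le_jac m hm) ?_
    intro y _
    obtain ⟨c, hc⟩ : ∃ c : ι → C, ∀ i, Ideal.Quotient.mk (Ideal.map (algebraMap V C) m) (c i) =
        b.repr (Submodule.Quotient.mk y) i :=
      ⟨fun i => (Ideal.Quotient.mk_surjective (b.repr (Submodule.Quotient.mk y) i)).choose,
        fun i => (Ideal.Quotient.mk_surjective (b.repr (Submodule.Quotient.mk y) i)).choose_spec⟩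
    have h1 : (Submodule.Quotient.mk (φ c) : N ⧸ ((Ideal.map (algebraMap V C) m) • (⊤ : Submodule C N))) =
        Submodule.Quotient.mk y := by
      rw [hφmk]
      conv_rhs => rw [← b.sum_repr (Submodule.Quotient.mk y)]
      exact Finset.sum_congr rfl fun i _ => by rw [hc i]
    have h2 : y - φ c ∈ (Ideal.map (algebraMap V C) m) • (⊤ : Submodule C N) := by
      rw [← Submodule.Quotient.mk_eq_zero, Submodule.Quotient.mk_sub, h1, sub_self]
    have h3 : y = φ c + (y - φ c) := by abel
    rw [h3]
    exact Submodule.add_mem_sup (LinearMap.mem_range_self φ c) h2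
  -- injectivity
  have hcoord : ∀ x ∈ LinearMap.ker φ, ∀ i, x i ∈ (Ideal.map (algebraMap V C) m) := by
    intro x hx i
    have h1 : (∑ i, (Ideal.Quotient.mk (Ideal.map (algebraMap V C) m) (x i)) • b i) = 0 := by
      rw [← hφmk, LinearMap.mem_ker.mp hx, Submodule.Quotient.mk_zero]
    have h2 := Fintype.linearIndependent_iff.mp b.linearIndependent
      (fun i => Ideal.Quotient.mk (Ideal.map (algebraMap V C) m) (x i)) h1 i
    exact Ideal.Quotient.eq_zero_iff_mem.mp h2
  have hmem : ∀ x ∈ LinearMap.ker φ, x ∈ (Ideal.map (algebraMap V C) m) • (⊤ : Submodule C (ι → C)) := by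
    intro x hx
    rw [pi_eq_sum_univ x]
    refine Submodule.sum_mem _ fun i _ => ?_
    exact Submodule.smul_mem_smul (hcoord x hx i) trivial
  haveI : Module.Flat V (ι → C) := Module.Flat.trans V C (ι → C)
  haveI : Module.FinitePresentation C N := hfp N
  haveI : Module.Finite C (LinearMap.ker φ) :=
    Module.Finite.iff_fg.mpr (Module.FinitePresentation.fg_ker φ hφ)
  have htop : (⊤ : Submodule C (LinearMap.ker φ)) ≤
      (Ideal.map (algebraMap V C) m) • (⊤ : Submodule C (LinearMap.ker φ)) := by
    intro x _
    exact mem_smul_top_ker m φ hφ x (hmem x x.2)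
  have hbot : (⊤ : Submodule C (LinearMap.ker φ)) = ⊥ :=
    Submodule.eq_bot_of_le_smul_of_le_jacobson_bot (Ideal.map (algebraMap V C) m) ⊤ Module.Finite.fg_top htop
      (le_jac m hm)
  have hinj : Function.Injective φ := by
    rw [← LinearMap.ker_eq_bot, eq_bot_iff]
    intro x hx
    have h1 : (⟨x, hx⟩ : LinearMap.ker φ) ∈ (⊤ : Submodule C (LinearMap.ker φ)) := trivial
    rw [hbot, Submodule.mem_bot] at h1
    rw [Submodule.mem_bot]
    exact congrArg Subtype.val h1
  exact Module.Projective.of_equiv (LinearEquiv.ofBijective φ ⟨hinj, hφ⟩)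

set_option backward.isDefEq.respectTransparency false in
include hm hfp in
theorem pd_of_red : ∀ (d : ℕ) (N : Type u) [AddCommGroup N] [Module C N] [Module V N]
    [IsScalarTower V C N] [Module.Finite C N] [Module.Flat V N],
    HasProjectiveDimensionLE (ModuleCat.of (C ⧸ (Ideal.map (algebraMap V C) m)) (N ⧸ ((Ideal.map (algebraMap V C) m) • (⊤ : Submodule C N)))) d →
      HasProjectiveDimensionLE (ModuleCat.of C N) d := by
  intro d
  induction d with
  | zero =>
    intro N _ _ _ _ _ _
    rw [← projective_iff_hasProjectiveDimensionLE_zero,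
      ← projective_iff_hasProjectiveDimensionLE_zero, ← IsProjective.iff_projective,
      ← IsProjective.iff_projective]
    exact fun h => projective_of_red' m hm hfp N h
  | succ d ih =>
    intro N _ _ _ _ _ _
    obtain ⟨n, f, hf⟩ := Module.Finite.exists_fin' C N
    haveI : Module.Flat V (Fin n → C) := Module.Flat.trans V C (Fin n → C)
    haveI : Module.Flat V (LinearMap.ker f) :=
      flat_of_exact ((LinearMap.ker f).subtype.restrictScalars V) (f.restrictScalars V)
        (LinearMap.ker f).injective_subtype hf (by
          intro y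
          constructor
          · intro hy
            exact ⟨⟨y, hy⟩, rfl⟩
          · rintro ⟨z, rfl⟩
            exact z.2)
    haveI : Module.FinitePresentation C N := hfp N
    haveI : Module.Finite C (LinearMap.ker f) :=
      Module.Finite.iff_fg.mpr (Module.FinitePresentation.fg_ker f hf)
    have hS := LinearMap.shortExact_shortComplexKer hf
    have projA : Projective (f.shortComplexKer).X₂ :=
      ModuleCat.projective_of_categoryTheory_projective _
    obtain ⟨hinj, hex, hsurj⟩ := red_shortExact m f hf
    let T : ShortComplex (ModuleCat.{u} (C ⧸ (Ideal.map (algebraMap V C) m))) :=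
      ShortComplex.mk (ModuleCat.ofHom (red (Ideal.map (algebraMap V C) m) (LinearMap.ker f).subtype))
        (ModuleCat.ofHom (red (Ideal.map (algebraMap V C) m) f)) (by
          apply ModuleCat.hom_ext
          apply LinearMap.ext
          intro x
          exact hex.apply_apply_eq_zero x)
    have hT : T.ShortExact := ModuleCat.shortComplex_shortExact T hex hinj hsurj
    have projB : Projective T.X₂ := by
      haveI := projective_red (Ideal.map (algebraMap V C) m) (Fin n → C)
      show Projective (ModuleCat.of (C ⧸ (Ideal.map (algebraMap V C) m))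
        ((Fin n → C) ⧸ ((Ideal.map (algebraMap V C) m) • (⊤ : Submodule C (Fin n → C)))))
      exact ModuleCat.projective_of_categoryTheory_projective _
    simp only [HasProjectiveDimensionLE] at ih ⊢
    intro h
    have h2 := (hT.hasProjectiveDimensionLT_X₃_iff d projB).mp h
    have h1 := ih (LinearMap.ker f) h2
    exact (hS.hasProjectiveDimensionLT_X₃_iff d projA).mpr h1

end Gen

section Main

variable (V : Type u) [CommRing V] [IsDomain V] [ValuationRing V]
  (B : Type u) [CommRing B] [Algebra V B] [Module.Flat V B] [Algebra.FinitePresentation V B]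
  (q : Ideal B) [q.IsPrime]

theorem map_le_maximalIdeal :
    Ideal.map (algebraMap V (Localization.AtPrime q)) (Ideal.comap (algebraMap V B) q) ≤
      maximalIdeal (Localization.AtPrime q) := by
  rw [Ideal.map_le_iff_le_comap]
  intro v hv
  rw [Ideal.mem_comap, IsScalarTower.algebraMap_apply V B (Localization.AtPrime q)]
  exact (IsLocalization.AtPrime.to_map_mem_maximal_iff _ q _).mpr hv

theorem fp_of_flat (N : Type u) [AddCommGroup N] [Module (Localization.AtPrime q) N] [Module V N]
    [IsScalarTower V (Localization.AtPrime q) N] [Module.Finite (Localization.AtPrime q) N]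
    [Module.Flat V N] : Module.FinitePresentation (Localization.AtPrime q) N := by
  haveI : Algebra.EssFiniteType V (Localization.AtPrime q) :=
    Algebra.EssFiniteType.comp V B (Localization.AtPrime q)
  exact Groth.Agent.Lib.ValFPH1.main2049 (A := V) (B := Localization.AtPrime q) (M := N)

/-- **S16178** -/
theorem main16178 (n : ℕ)
    (hreg : IsRegularLocalRing (Localization.AtPrime q ⧸
      Ideal.map (algebraMap V (Localization.AtPrime q)) (Ideal.comap (algebraMap V B) q)))
    (hn : ringKrullDim (Localization.AtPrime q ⧸
      Ideal.map (algebraMap V (Localization.AtPrime q)) (Ideal.comap (algebraMap V B) q)) = n)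
    (M : Type u) [AddCommGroup M] [Module (Localization.AtPrime q) M]
    [Module.Finite (Localization.AtPrime q) M]
    [Module V M] [IsScalarTower V (Localization.AtPrime q) M] [Module.Flat V M] :
    HasProjectiveDimensionLE (ModuleCat.of (Localization.AtPrime q) M) n := by
  haveI : Module.Flat V (Localization.AtPrime q) := Module.Flat.trans V B (Localization.AtPrime q)
  refine pd_of_red (Ideal.comap (algebraMap V B) q) (map_le_maximalIdeal V B q)
    (fun N _ _ _ _ _ _ => fp_of_flat V B q N) n M ?_
  haveI := hreg
  exact Groth.Agent.S0563.result _ n hn _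

end Main

end Groth.Agent.Lib.ValPDH1
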