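import Mathlib
import Groth.Agent.Lib.ValPD_helper1

/-!
# Projective dimension over local rings of flat f.p. algebras over valuation rings, II (helper1)
APPEND-ONLY once landed.
-/

set_option autoImplicit false
universe u
open CategoryTheory Limits TensorProduct IsLocalRing

namespace Groth.Agent.Lib.ValPDH1

section Main2

variable (V : Type u) [CommRing V] [IsDomain V] [ValuationRing V]
  (B : Type u) [CommRing B] [Algebra V B] [Module.Flat V B] [Algebra.FinitePresentation V B]
  (q : Ideal B) [q.IsPrime]

/-- the local ring is torsion-free over `V` -/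
theorem ring_torsionFree (a : V) (ha : a ≠ 0) (c : Localization.AtPrime q)
    (h : algebraMap V (Localization.AtPrime q) a * c = 0) : c = 0 := by
  haveI : Module.Flat V (Localization.AtPrime q) := Module.Flat.trans V B (Localization.AtPrime q)
  haveI : Module.IsTorsionFree V (Localization.AtPrime q) :=
    Submodule.isTorsionFree_iff_torsion_eq_bot.mpr Module.Flat.torsion_eq_bot
  rw [← Algebra.smul_def] at h
  exact (smul_eq_zero_iff_right ha).mp h

/-- finite + `V`-torsion-free (in terms of the `C`-module structure only) ⇒ f.p. and pd ≤ n -/
theorem aux_of_torsionFree (M : Type u) [AddCommGroup M] [Module (Localization.AtPrime q) M]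
    [Module.Finite (Localization.AtPrime q) M]
    (htf : ∀ (a : V) (x : M), a ≠ 0 → algebraMap V (Localization.AtPrime q) a • x = 0 → x = 0) :
    Module.FinitePresentation (Localization.AtPrime q) M ∧
    ∀ (n : ℕ) (_ : IsRegularLocalRing (Localization.AtPrime q ⧸
      Ideal.map (algebraMap V (Localization.AtPrime q)) (Ideal.comap (algebraMap V B) q)))
    (_ : ringKrullDim (Localization.AtPrime q ⧸
      Ideal.map (algebraMap V (Localization.AtPrime q)) (Ideal.comap (algebraMap V B) q)) = n),
    HasProjectiveDimensionLE (ModuleCat.of (Localization.AtPrime q) M) n := by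
  letI : Module V M := Module.compHom M (algebraMap V (Localization.AtPrime q))
  haveI : IsScalarTower V (Localization.AtPrime q) M :=
    IsScalarTower.of_algebraMap_smul fun r x => rfl
  haveI : Module.IsTorsionFree V M := ⟨fun r hr x y hxy => by
    have hr0 : r ≠ 0 := hr.ne_zero
    have h1 : algebraMap V (Localization.AtPrime q) r • (x - y) = 0 := by
      rw [smul_sub]
      exact sub_eq_zero.mpr hxy
    exact sub_eq_zero.mp (htf r (x - y) hr0 h1)⟩
  haveI : Module.Flat V M := by
    rw [Module.Flat.flat_iff_torsion_eq_bot_of_isBezout,
      ← Submodule.isTorsionFree_iff_torsion_eq_bot]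
    infer_instance
  exact ⟨fp_of_flat V B q M, fun n hreg hn => main16178 V B q n hreg hn M⟩

variable (n : ℕ)
  (hreg : IsRegularLocalRing (Localization.AtPrime q ⧸
    Ideal.map (algebraMap V (Localization.AtPrime q)) (Ideal.comap (algebraMap V B) q)))
  (hn : ringKrullDim (Localization.AtPrime q ⧸
    Ideal.map (algebraMap V (Localization.AtPrime q)) (Ideal.comap (algebraMap V B) q)) = n)

include hreg hn in
/-- **S16179** -/
theorem main16179 (M : Type u) [AddCommGroup M] [Module (Localization.AtPrime q) M]
    [Module.FinitePresentation (Localization.AtPrime q) M] :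
    HasProjectiveDimensionLE (ModuleCat.of (Localization.AtPrime q) M) (n + 1) := by
  obtain ⟨r, f, hf⟩ := Module.Finite.exists_fin' (Localization.AtPrime q) M
  haveI : Module.Finite (Localization.AtPrime q) (LinearMap.ker f) :=
    Module.Finite.iff_fg.mpr (Module.FinitePresentation.fg_ker f hf)
  have h1 := (aux_of_torsionFree V B q (LinearMap.ker f) (fun a x ha hx => by
    apply Subtype.ext
    funext i
    have h2 := congrFun (congrArg Subtype.val hx) i
    exact ring_torsionFree V B q a ha _ h2)).2 n hreg hn
  have hS := LinearMap.shortExact_shortComplexKer hf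
  have projA : Projective (f.shortComplexKer).X₂ :=
    ModuleCat.projective_of_categoryTheory_projective _
  exact (hS.hasProjectiveDimensionLT_X₃_iff n projA).mpr h1

include V in
/-- the dual of a finitely presented module is finite -/
theorem dual_finite (M : Type u) [AddCommGroup M] [Module (Localization.AtPrime q) M]
    [Module.FinitePresentation (Localization.AtPrime q) M] :
    Module.Finite (Localization.AtPrime q) (Module.Dual (Localization.AtPrime q) M) := by
  classical
  obtain ⟨r, f, hf⟩ := Module.Finite.exists_fin' (Localization.AtPrime q) M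
  obtain ⟨G, hG⟩ := Module.FinitePresentation.fg_ker f hf
  let E : Module.Dual (Localization.AtPrime q) (Fin r → Localization.AtPrime q) →ₗ[Localization.AtPrime q]
      (G → Localization.AtPrime q) :=
    LinearMap.pi (fun k => LinearMap.applyₗ ((k : Fin r → Localization.AtPrime q)))
  have hE : ∀ l k, E l k = l (k : Fin r → Localization.AtPrime q) := fun l k => rfl
  haveI : Module.Finite (Localization.AtPrime q) (LinearMap.range E) := Module.Finite.range E
  haveI : Module.FinitePresentation (Localization.AtPrime q) (LinearMap.range E) :=
    (aux_of_torsionFree V B q (LinearMap.range E) (fun a x ha hx => by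
      apply Subtype.ext
      funext i
      have h2 := congrFun (congrArg Subtype.val hx) i
      exact ring_torsionFree V B q a ha _ h2)).1
  have hker : (LinearMap.ker E).FG := by
    have h1 := Module.FinitePresentation.fg_ker E.rangeRestrict E.surjective_rangeRestrict
    rwa [LinearMap.ker_rangeRestrict] at h1
  have hrange : LinearMap.range f.dualMap = LinearMap.ker E := by
    rw [LinearMap.range_dualMap_eq_dualAnnihilator_ker_of_surjective f hf, ← hG]
    ext l
    rw [Submodule.mem_dualAnnihilator, LinearMap.mem_ker]
    constructor
    · intro h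
      funext k
      rw [hE]
      exact h _ (Submodule.subset_span k.2)
    · intro h w hw
      refine Submodule.span_induction (p := fun w _ => l w = 0) ?_ (map_zero l) ?_ ?_ hw
      · intro k hk
        have := congrFun h ⟨k, hk⟩
        rwa [hE] at this
      · intro x y _ _ hx hy
        rw [map_add, hx, hy, add_zero]
      · intro c x _ hx
        rw [map_smul, hx, smul_zero]
  haveI : Module.Finite (Localization.AtPrime q) (LinearMap.range f.dualMap) := by
    rw [hrange]
    exact Module.Finite.iff_fg.mpr hker
  exact Module.Finite.equiv
    (LinearEquiv.ofInjective f.dualMap (LinearMap.dualMap_injective_of_surjective hf)).symm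

include hreg hn in
/-- **S16180** -/
theorem main16180 (M : Type u) [AddCommGroup M] [Module (Localization.AtPrime q) M]
    [Module.FinitePresentation (Localization.AtPrime q) M]
    [Module.IsReflexive (Localization.AtPrime q) M] :
    HasProjectiveDimensionLE (ModuleCat.of (Localization.AtPrime q) M) (n - 1) := by
  classical
  haveI := dual_finite V B q M
  obtain ⟨b, h, hh⟩ := Module.Finite.exists_fin' (Localization.AtPrime q)
    (Module.Dual (Localization.AtPrime q) M)
  have hinj : Function.Injective h.dualMap := LinearMap.dualMap_injective_of_surjective hh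
  -- the quotient
  have hQ := (aux_of_torsionFree V B q
    (Module.Dual (Localization.AtPrime q) (Fin b → Localization.AtPrime q) ⧸
      LinearMap.range h.dualMap) (fun a x ha hx => by
    obtain ⟨l, rfl⟩ := Submodule.Quotient.mk_surjective _ x
    rw [← Submodule.Quotient.mk_smul, Submodule.Quotient.mk_eq_zero,
      LinearMap.range_dualMap_eq_dualAnnihilator_ker_of_surjective h hh,
      Submodule.mem_dualAnnihilator] at hx
    rw [Submodule.Quotient.mk_eq_zero,
      LinearMap.range_dualMap_eq_dualAnnihilator_ker_of_surjective h hh,
      Submodule.mem_dualAnnihilator]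
    intro w hw
    have h1 := hx w hw
    rw [LinearMap.smul_apply, smul_eq_mul] at h1
    exact ring_torsionFree V B q a ha _ h1)).2 n hreg hn
  have hsurj : Function.Surjective (LinearMap.range h.dualMap).mkQ :=
    Submodule.mkQ_surjective _
  have hS := LinearMap.shortExact_shortComplexKer hsurj
  have projA : Projective ((LinearMap.range h.dualMap).mkQ.shortComplexKer).X₂ :=
    ModuleCat.projective_of_categoryTheory_projective _
  -- identify the kernel with `M`
  let e : M ≃ₗ[Localization.AtPrime q] LinearMap.ker (LinearMap.range h.dualMap).mkQ :=
    (Module.evalEquiv (Localization.AtPrime q) M).trans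
      ((LinearEquiv.ofInjective h.dualMap hinj).trans
        (LinearEquiv.ofEq _ _ (Submodule.ker_mkQ _).symm))
  have hiso : ModuleCat.of (Localization.AtPrime q)
      (LinearMap.ker (LinearMap.range h.dualMap).mkQ) ≅ ModuleCat.of (Localization.AtPrime q) M :=
    e.symm.toModuleIso
  have key : HasProjectiveDimensionLT (ModuleCat.of (Localization.AtPrime q)
      (LinearMap.ker (LinearMap.range h.dualMap).mkQ)) (n - 1 + 1) := by
    rcases Nat.eq_zero_or_pos n with hn0 | hn0
    · subst hn0
      have h3 : HasProjectiveDimensionLT ((LinearMap.range h.dualMap).mkQ.shortComplexKer).X₃ 2 :=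
        hasProjectiveDimensionLT_of_ge _ 1 2 (by omega)
      exact hS.hasProjectiveDimensionLT_X₁ 1 inferInstance h3
    · obtain ⟨k, rfl⟩ : ∃ k, n = k + 1 := ⟨n - 1, by omega⟩
      have h2 : HasProjectiveDimensionLT ((LinearMap.range h.dualMap).mkQ.shortComplexKer).X₂
          (k + 1) := hasProjectiveDimensionLT_of_ge _ 1 (k + 1) (by omega)
      exact hS.hasProjectiveDimensionLT_X₁ (k + 1) h2 hQ
  exact hasProjectiveDimensionLT_of_iso hiso _

end Main2

end Groth.Agent.Lib.ValPDH1
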