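import Mathlib
import Groth.Agent.Lib.Nagata3_helper4

/-!
# Flat finite type algebras over a valuation ring with reduced special fibre (helper4)
-/

set_option autoImplicit false
set_option linter.style.haveILetI false
set_option linter.unusedSectionVars false

open TensorProduct

namespace Groth.Agent.Lib.NagataH4

section Alg

variable {R : Type*} [CommRing R] [IsDomain R] [ValuationRing R]
  {B : Type*} [CommRing B] [Algebra R B]

/-- If `B` is a finite type torsion-free algebra over a valuation ring `R` and `𝔫 B` is a radical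
ideal, then some `a ∈ 1 + 𝔫 B` kills all nilpotents of `B`. -/
theorem exists_annihilator_nilradical [Algebra.FiniteType R B]
    (htf : ∀ (r : R) (b : B), r ≠ 0 → r • b = 0 → b = 0) (𝔫 : Ideal R)
    (hrad : ∀ (t : B) (m : ℕ), t ^ m ∈ 𝔫.map (algebraMap R B) → t ∈ 𝔫.map (algebraMap R B)) :
    ∃ a : B, a - 1 ∈ 𝔫.map (algebraMap R B) ∧ ∀ t : B, IsNilpotent t → a * t = 0 := by
  obtain ⟨n, π, hπ⟩ := Algebra.FiniteType.iff_quotient_mvPolynomial''.mp
    (inferInstance : Algebra.FiniteType R B)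
  let I : Ideal (MvPolynomial (Fin n) R) :=
    (nilradical B).comap (π : MvPolynomial (Fin n) R →+* B)
  have hsat : ∀ (r : R) (p : MvPolynomial (Fin n) R), r ≠ 0 → MvPolynomial.C r * p ∈ I →
      p ∈ I := by
    intro r p hr h
    have h1 : IsNilpotent (π (MvPolynomial.C r * p)) := mem_nilradical.mp (Ideal.mem_comap.mp h)
    obtain ⟨m, hm⟩ := h1
    rw [map_mul, MvPolynomial.algHom_C, mul_pow, ← map_pow, ← Algebra.smul_def] at hm
    have h2 := htf (r ^ m) _ (pow_ne_zero m hr) hm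
    exact Ideal.mem_comap.mpr (mem_nilradical.mpr ⟨m, h2⟩)
  have hIfg : I.FG := fg_of_saturated I hsat
  have hNfg : (nilradical B).FG := by
    have h : nilradical B = I.map (π : MvPolynomial (Fin n) R →+* B) :=
      (Ideal.map_comap_of_surjective (π : MvPolynomial (Fin n) R →+* B) hπ _).symm
    rw [h]
    exact hIfg.map _
  have hle : nilradical B ≤ 𝔫.map (algebraMap R B) • nilradical B := by
    intro b hb
    obtain ⟨m, hm⟩ := mem_nilradical.mp hb
    have h1 : b ∈ 𝔫.map (algebraMap R B) := hrad b m (by rw [hm]; exact Submodule.zero_mem _)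
    obtain ⟨c, hc, b', rfl⟩ := exists_eq_smul_of_mem_map 𝔫 b h1
    by_cases hc0 : c = 0
    · rw [hc0, zero_smul]; exact Submodule.zero_mem _
    · have hb' : b' ∈ nilradical B := by
        rw [mem_nilradical]
        refine ⟨m, ?_⟩
        rw [smul_pow] at hm
        exact htf (c ^ m) _ (pow_ne_zero m hc0) hm
      have hcb : c • b' = algebraMap R B c • b' := by rw [Algebra.smul_def, smul_eq_mul]
      rw [hcb]
      exact Submodule.smul_mem_smul (Ideal.mem_map_of_mem (algebraMap R B) hc) hb'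
  obtain ⟨a, ha1, ha2⟩ :=
    Submodule.exists_sub_one_mem_and_smul_eq_zero_of_fg_of_le_smul _ _ hNfg hle
  exact ⟨a, ha1, fun t ht => by simpa using ha2 t (mem_nilradical.mpr ht)⟩

/-- The same over `R/𝔭`: if `𝔪 B` is radical then some `a ∈ 1 + 𝔪 B` multiplies the radical of
`𝔭 B` into `𝔭 B`. -/
theorem exists_mul_mem_of_pow_mem [Algebra.FiniteType R B]
    (htf : ∀ (r : R) (b : B), r ≠ 0 → r • b = 0 → b = 0) (𝔭 : Ideal R) [𝔭.IsPrime]
    (hrad : ∀ (t : B) (m : ℕ), t ^ m ∈ (IsLocalRing.maximalIdeal R).map (algebraMap R B) →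
      t ∈ (IsLocalRing.maximalIdeal R).map (algebraMap R B)) :
    ∃ a : B, a - 1 ∈ (IsLocalRing.maximalIdeal R).map (algebraMap R B) ∧
      ∀ (t : B) (m : ℕ), t ^ m ∈ 𝔭.map (algebraMap R B) → a * t ∈ 𝔭.map (algebraMap R B) := by
  haveI : Algebra.FiniteType R (B ⧸ 𝔭.map (algebraMap R B)) :=
    Algebra.FiniteType.of_surjective (Ideal.Quotient.mkₐ R (𝔭.map (algebraMap R B)))
      (Ideal.Quotient.mkₐ_surjective R _)
  haveI : Algebra.FiniteType (R ⧸ 𝔭) (B ⧸ 𝔭.map (algebraMap R B)) :=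
    Algebra.FiniteType.of_restrictScalars_finiteType R (R ⧸ 𝔭) (B ⧸ 𝔭.map (algebraMap R B))
  have htf' : ∀ (r : R ⧸ 𝔭) (b : B ⧸ 𝔭.map (algebraMap R B)), r ≠ 0 → r • b = 0 → b = 0 := by
    intro r b hr h
    obtain ⟨r, rfl⟩ := Ideal.Quotient.mk_surjective r
    obtain ⟨b, rfl⟩ := Ideal.Quotient.mk_surjective b
    have hr𝔭 : r ∉ 𝔭 := fun h' => hr (Ideal.Quotient.eq_zero_iff_mem.mpr h')
    have hr0 : r ≠ 0 := fun h' => hr𝔭 (h' ▸ 𝔭.zero_mem)
    rw [Ideal.Quotient.mk_smul_mk_quotient_map_quotient, Ideal.Quotient.eq_zero_iff_mem] at h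
    obtain ⟨c, hc, b'', hcb⟩ := exists_eq_smul_of_mem_map 𝔭 _ h
    rcases ValuationRing.dvd_total c r with ⟨e, rfl⟩ | ⟨c', rfl⟩
    · exact absurd (𝔭.mul_mem_right e hc) hr𝔭
    · have hc' : c' ∈ 𝔭 := (Ideal.IsPrime.mem_or_mem inferInstance hc).resolve_left hr𝔭
      have h3 : r • (b - c' • b'') = 0 := by
        rw [smul_sub, Algebra.smul_def, hcb, mul_smul, sub_self]
      have h4 : b = c' • b'' := sub_eq_zero.mp (htf r _ hr0 h3)
      rw [Ideal.Quotient.eq_zero_iff_mem, h4, Algebra.smul_def]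
      exact Ideal.mul_mem_right _ _ (Ideal.mem_map_of_mem _ hc')
  have hmap : ((IsLocalRing.maximalIdeal R).map (Ideal.Quotient.mk 𝔭)).map
      (algebraMap (R ⧸ 𝔭) (B ⧸ 𝔭.map (algebraMap R B))) =
      ((IsLocalRing.maximalIdeal R).map (algebraMap R B)).map
        (Ideal.Quotient.mk (𝔭.map (algebraMap R B))) := by
    rw [Ideal.map_map, Ideal.map_map]
    rfl
  have hP : 𝔭.map (algebraMap R B) ≤ (IsLocalRing.maximalIdeal R).map (algebraMap R B) :=
    Ideal.map_mono (IsLocalRing.le_maximalIdeal (Ideal.IsPrime.ne_top inferInstance))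
  have hrad' : ∀ (t : B ⧸ 𝔭.map (algebraMap R B)) (m : ℕ),
      t ^ m ∈ ((IsLocalRing.maximalIdeal R).map (Ideal.Quotient.mk 𝔭)).map
        (algebraMap (R ⧸ 𝔭) (B ⧸ 𝔭.map (algebraMap R B))) →
      t ∈ ((IsLocalRing.maximalIdeal R).map (Ideal.Quotient.mk 𝔭)).map
        (algebraMap (R ⧸ 𝔭) (B ⧸ 𝔭.map (algebraMap R B))) := by
    intro t m ht
    obtain ⟨t, rfl⟩ := Ideal.Quotient.mk_surjective t
    rw [hmap] at ht ⊢
    rw [← map_pow, Ideal.mem_map_iff_of_surjective _ Ideal.Quotient.mk_surjective] at ht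
    obtain ⟨y, hy, hyt⟩ := ht
    have h1 : y - t ^ m ∈ 𝔭.map (algebraMap R B) := Ideal.Quotient.eq.mp hyt
    have h2 : t ^ m ∈ (IsLocalRing.maximalIdeal R).map (algebraMap R B) := by
      have h := Ideal.sub_mem _ hy (hP h1)
      simpa using h
    exact Ideal.mem_map_of_mem _ (hrad t m h2)
  obtain ⟨a', ha'1, ha'2⟩ := exists_annihilator_nilradical (R := R ⧸ 𝔭)
    (B := B ⧸ 𝔭.map (algebraMap R B)) htf' _ hrad'
  rw [hmap, Ideal.mem_map_iff_of_surjective _ Ideal.Quotient.mk_surjective] at ha'1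
  obtain ⟨y, hy, hya⟩ := ha'1
  refine ⟨1 + y, by simpa using hy, fun t m ht => ?_⟩
  have h1 : IsNilpotent (Ideal.Quotient.mk (𝔭.map (algebraMap R B)) t) :=
    ⟨m, by rw [← map_pow]; exact Ideal.Quotient.eq_zero_iff_mem.mpr ht⟩
  have h2 := ha'2 _ h1
  have ha' : a' = Ideal.Quotient.mk (𝔭.map (algebraMap R B)) (1 + y) := by
    rw [map_add, map_one, hya]; ring
  rw [ha', ← map_mul] at h2
  exact Ideal.Quotient.eq_zero_iff_mem.mp h2

end Alg

section Loc

/-- If `a` multiplies the radical of `P` into `P` then `P B_a` is radical. -/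
theorem radical_map_away {B : Type*} [CommRing B] (P : Ideal B) (a : B)
    (ha : ∀ (t : B) (m : ℕ), t ^ m ∈ P → a * t ∈ P)
    (S : Type*) [CommRing S] [Algebra B S] [IsLocalization.Away a S]
    (t : S) (m : ℕ) (ht : t ^ m ∈ P.map (algebraMap B S)) : t ∈ P.map (algebraMap B S) := by
  obtain ⟨b, s, rfl⟩ := IsLocalization.exists_mk'_eq (Submonoid.powers a) t
  rw [← IsLocalization.mk'_pow, IsLocalization.mk'_mem_map_algebraMap_iff] at ht
  obtain ⟨_, ⟨i, rfl⟩, hs⟩ := ht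
  have h1 : (a ^ i * b) ^ (m + 1) ∈ P := by
    have : (a ^ i * b) ^ (m + 1) = (a ^ i) ^ m * b * (a ^ i * b ^ m) := by ring
    rw [this]
    exact P.mul_mem_left _ hs
  have h2 := ha _ _ h1
  rw [IsLocalization.mk'_mem_map_algebraMap_iff]
  exact ⟨a ^ (i + 1), ⟨i + 1, rfl⟩, by rw [pow_succ']; rwa [mul_assoc]⟩

end Loc

section Fiber

variable {R : Type*} [CommRing R] {B : Type*} [CommRing B] [Algebra R B]

theorem tmul_eq_zero_of_mem (𝔭 : Ideal R) [𝔭.IsPrime] (b : B)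
    (hb : b ∈ 𝔭.map (algebraMap R B)) : (1 : 𝔭.ResidueField) ⊗ₜ[R] b = 0 := by
  have hker : 𝔭.map (algebraMap R B) ≤ RingHom.ker
      (Algebra.TensorProduct.includeRight : B →ₐ[R] 𝔭.Fiber B).toRingHom := by
    rw [Ideal.map_le_iff_le_comap]
    intro r hr
    rw [Ideal.mem_comap, RingHom.mem_ker]
    show (1 : 𝔭.ResidueField) ⊗ₜ[R] (algebraMap R B r) = 0
    rw [Algebra.algebraMap_eq_smul_one, ← TensorProduct.smul_tmul,
      ← Algebra.algebraMap_eq_smul_one, (Ideal.algebraMap_residueField_eq_zero).mpr hr,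
      TensorProduct.zero_tmul]
  exact hker hb

theorem mem_of_tmul_eq_zero [Module.Flat R B] (𝔭 : Ideal R) [𝔭.IsPrime] (b : B)
    (hb : (1 : 𝔭.ResidueField) ⊗ₜ[R] b = 0) : b ∈ 𝔭.map (algebraMap R B) := by
  let ι : (R ⧸ 𝔭) →ₗ[R] 𝔭.ResidueField :=
    (IsScalarTower.toAlgHom R (R ⧸ 𝔭) 𝔭.ResidueField).toLinearMap
  have hι : Function.Injective ι := 𝔭.injective_algebraMap_quotient_residueField
  have h1 := Module.Flat.rTensor_preserves_injective_linearMap (M := B) ι hι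
  have h2 : (LinearMap.rTensor B ι) ((1 : R ⧸ 𝔭) ⊗ₜ[R] b) = (LinearMap.rTensor B ι) 0 := by
    rw [map_zero, LinearMap.rTensor_tmul]
    simpa [ι] using hb
  have h3 := h1 h2
  have h4 := congrArg (TensorProduct.quotTensorEquivQuotSMul B 𝔭) h3
  rw [TensorProduct.quotTensorEquivQuotSMul_mk_one_tmul, map_zero,
    Submodule.Quotient.mk_eq_zero, Ideal.smul_top_eq_map] at h4
  exact h4

/-- The fibre ring `κ(𝔭) ⊗ B` is reduced when `B` is flat and `𝔭 B` is radical. -/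
theorem isReduced_fiber_of_radical [Module.Flat R B] (𝔭 : Ideal R) [𝔭.IsPrime]
    (hrad : ∀ (t : B) (m : ℕ), t ^ m ∈ 𝔭.map (algebraMap R B) → t ∈ 𝔭.map (algebraMap R B)) :
    IsReduced (𝔭.Fiber B) := by
  refine ⟨fun x hx => ?_⟩
  obtain ⟨r, hr, s, hrs⟩ := Ideal.Fiber.exists_smul_eq_one_tmul 𝔭 x
  obtain ⟨m, hm⟩ := hx
  have h1 : (1 : 𝔭.ResidueField) ⊗ₜ[R] (s ^ m) = 0 := by
    have : ((1 : 𝔭.ResidueField) ⊗ₜ[R] s) ^ m = 0 := by
      rw [← hrs, smul_pow, hm, smul_zero]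
    rwa [Algebra.TensorProduct.tmul_pow, one_pow] at this
  have h2 : (1 : 𝔭.ResidueField) ⊗ₜ[R] s = 0 :=
    tmul_eq_zero_of_mem 𝔭 s (hrad s m (mem_of_tmul_eq_zero 𝔭 _ h1))
  rw [h2] at hrs
  have hr0 : algebraMap R 𝔭.ResidueField r ≠ 0 := fun h =>
    hr (Ideal.algebraMap_residueField_eq_zero.mp h)
  have h3 : (algebraMap R 𝔭.ResidueField r) • x = 0 := by
    rw [algebraMap_smul]; exact hrs
  rw [← one_smul 𝔭.ResidueField x, ← inv_mul_cancel₀ hr0, mul_smul, h3, smul_zero]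

end Fiber

end Groth.Agent.Lib.NagataH4
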