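import Mathlib
import Groth.Agent.Lib.ValRed1_helper4
import Groth.Agent.Lib.DvrFibre_helper4

/-!
# Proper flat schemes over a valuation ring with reduced special fibre (helper4)

The total space and all fibres are reduced.
-/

set_option autoImplicit false
universe u
set_option linter.style.haveILetI false
set_option linter.unusedSectionVars false

open CategoryTheory CategoryTheory.Limits AlgebraicGeometry TopologicalSpace TensorProduct

namespace Groth.Agent.Lib.ValRedH4

open Groth.Agent.Lib.DvrFibreH4 Groth.Agent.Lib.NagataH4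

section General

variable {R : Type u} [CommRing R] {X : Scheme.{u}} (f : X ⟶ Spec (CommRingCat.of R))

lemma phi_flat' [Flat f] {V : X.Opens} (hV : IsAffineOpen V) : (phi f V).Flat :=
  (RingHom.Flat.respectsIso.cancel_left_isIso (Scheme.ΓSpecIso (CommRingCat.of R)).inv
    (f.appLE ⊤ V le_top)).mpr (f.flat_appLE (isAffineOpen_top _) hV le_top)

lemma phi_finiteType' [LocallyOfFiniteType f] {V : X.Opens} (hV : IsAffineOpen V) :
    (phi f V).FiniteType :=
  (RingHom.finiteType_respectsIso.cancel_left_isIso (Scheme.ΓSpecIso (CommRingCat.of R)).inv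
    (f.appLE ⊤ V le_top)).mpr (f.finiteType_appLE (isAffineOpen_top _) hV le_top)

lemma phi_comp_res {V W : X.Opens} (h : W ≤ V) :
    (X.presheaf.map (homOfLE h).op).hom.comp (phi f V) = phi f W := by
  unfold phi
  rw [← CommRingCat.hom_comp, Category.assoc, Scheme.Hom.appLE_map]

end General

variable {R : Type u} [CommRing R] [IsDomain R] [ValuationRing R] {X : Scheme.{u}}

/-- Every point of the closed fibre has an affine neighbourhood `V` with `𝔭 Γ(X, V)` radical. -/
theorem exists_affine_radical (f : X ⟶ Spec (CommRingCat.of R)) [LocallyOfFiniteType f] [Flat f]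
    (hred : IsReduced (f.fiber (IsLocalRing.closedPoint R))) (𝔭 : Ideal R) [𝔭.IsPrime]
    (x0 : X) (hx0 : (f x0).asIdeal = IsLocalRing.maximalIdeal R) :
    ∃ V : X.Opens, IsAffineOpen V ∧ x0 ∈ V ∧
      ∀ (t : Γ(X, V)) (m : ℕ), t ^ m ∈ 𝔭.map (phi f V) → t ∈ 𝔭.map (phi f V) := by
  obtain ⟨V0, hV0, hx0V, -⟩ :=
    exists_isAffineOpen_mem_and_subset (X := X) (x := x0) (U := ⊤) trivial
  obtain ⟨q0, rfl⟩ : x0 ∈ Set.range hV0.fromSpec := by rw [hV0.range_fromSpec]; exact hx0V
  letI : Algebra R Γ(X, V0) := (phi f V0).toAlgebra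
  haveI : Algebra.FiniteType R Γ(X, V0) := phi_finiteType' f hV0
  haveI : Module.Flat R Γ(X, V0) := phi_flat' f hV0
  have htf : ∀ (r : R) (b : Γ(X, V0)), r ≠ 0 → r • b = 0 → b = 0 := by
    intro r b hr h
    have hreg : IsSMulRegular Γ(X, V0) r :=
      Module.Flat.isSMulRegular_of_nonZeroDivisors (mem_nonZeroDivisors_of_ne_zero hr)
    exact hreg (by show r • b = r • 0; rw [h, smul_zero])
  haveI : (IsLocalRing.closedPoint R).asIdeal.IsMaximal := IsLocalRing.maximalIdeal.isMaximal R
  have hrad : ∀ (t : Γ(X, V0)) (m : ℕ),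
      t ^ m ∈ (IsLocalRing.maximalIdeal R).map (algebraMap R Γ(X, V0)) →
      t ∈ (IsLocalRing.maximalIdeal R).map (algebraMap R Γ(X, V0)) :=
    fun t m ht => quotient_reduced_of_fiber f (IsLocalRing.closedPoint R) hred hV0 t m ht
  obtain ⟨a, ha1, ha2⟩ := exists_mul_mem_of_pow_mem htf 𝔭 hrad
  refine ⟨X.basicOpen a, hV0.basicOpen a, ?_, ?_⟩
  · have hq0 : (IsLocalRing.maximalIdeal R).map (algebraMap R Γ(X, V0)) ≤ q0.asIdeal := by
      rw [Ideal.map_le_iff_le_comap, ← hx0, base_fromSpec]
      rfl
    have ha : a ∉ q0.asIdeal := by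
      intro h
      have h1 := q0.asIdeal.sub_mem h (hq0 ha1)
      rw [sub_sub_cancel] at h1
      exact q0.2.ne_top ((Ideal.eq_top_iff_one _).mpr h1)
    have hmem : q0 ∈ hV0.fromSpec ⁻¹ᵁ X.basicOpen a := by
      rw [hV0.fromSpec_preimage_basicOpen]; exact ha
    exact hmem
  · haveI : IsLocalization.Away a Γ(X, X.basicOpen a) := hV0.isLocalization_basicOpen a
    have hmap : 𝔭.map (phi f (X.basicOpen a)) = (𝔭.map (algebraMap R Γ(X, V0))).map
        (algebraMap Γ(X, V0) Γ(X, X.basicOpen a)) := by
      rw [Ideal.map_map]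
      congr 1
      exact (phi_comp_res f (X.basicOpen_le a)).symm
    intro t m ht
    rw [hmap] at ht ⊢
    exact radical_map_away _ a ha2 _ t m ht

/-- Every point of a proper scheme over a local ring specialises to a point of the closed fibre. -/
theorem exists_specializes_closed (f : X ⟶ Spec (CommRingCat.of R)) [IsProper f] (x : X) :
    ∃ x0 : X, x ⤳ x0 ∧ (f x0).asIdeal = IsLocalRing.maximalIdeal R := by
  haveI : CompactSpace X := QuasiCompact.compactSpace_of_compactSpace f
  obtain ⟨x0, hx0mem, hx0cl⟩ := IsClosed.exists_closed_singleton (isClosed_closure (s := {x}))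
    ⟨x, subset_closure rfl⟩
  have hspec : x ⤳ x0 := specializes_iff_mem_closure.mpr hx0mem
  have hfx0 : IsClosed ({f x0} : Set ↥(Spec (CommRingCat.of R))) := by
    have := f.isClosedMap _ hx0cl
    rwa [Set.image_singleton] at this
  exact ⟨x0, hspec,
    IsLocalRing.eq_maximalIdeal ((PrimeSpectrum.isClosed_singleton_iff_isMaximal _).mp hfx0)⟩

theorem isReduced_of_proper_flat (f : X ⟶ Spec (CommRingCat.of R)) [IsProper f] [Flat f]
    (hred : IsReduced (f.fiber (IsLocalRing.closedPoint R))) : IsReduced X := by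
  have hstalk : ∀ x : X, _root_.IsReduced (X.presheaf.stalk x) := by
    intro x
    obtain ⟨x0, hspec, hmax⟩ := exists_specializes_closed f x
    obtain ⟨V, hV, hx0V, hrad⟩ := exists_affine_radical f hred (⊥ : Ideal R) x0 hmax
    have hxV : x ∈ V := hspec.mem_open V.2 hx0V
    obtain ⟨q, rfl⟩ : x ∈ Set.range hV.fromSpec := by rw [hV.range_fromSpec]; exact hxV
    have hB : _root_.IsReduced Γ(X, V) := by
      refine ⟨fun t ht => ?_⟩
      obtain ⟨m, hm⟩ := ht
      have h := hrad t m (by rw [hm]; exact Submodule.zero_mem _)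
      simpa [Ideal.map_bot] using h
    exact @isReduced_localizationPreserves Γ(X, V) _ q.asIdeal.primeCompl
      (X.presheaf.stalk (hV.fromSpec q)) _
      (TopCat.Presheaf.algebra_section_stalk X.presheaf ⟨hV.fromSpec q, hxV⟩)
      (hV.isLocalization_stalk' q hxV) hB
  exact isReduced_of_isReduced_stalk X

theorem isReduced_fiber (f : X ⟶ Spec (CommRingCat.of R)) [IsProper f] [Flat f]
    (hred : IsReduced (f.fiber (IsLocalRing.closedPoint R)))
    (b : ↥(Spec (CommRingCat.of R))) : IsReduced (f.fiber b) := by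
  have hstalk : ∀ y : ↥(f.fiber b), _root_.IsReduced ((f.fiber b).presheaf.stalk y) := by
    intro y
    obtain ⟨x0, hspec, hmax⟩ := exists_specializes_closed f (f.fiberι b y)
    haveI : b.asIdeal.IsPrime := b.2
    obtain ⟨V, hV, hx0V, hrad⟩ := exists_affine_radical f hred b.asIdeal x0 hmax
    have hyV : f.fiberι b y ∈ V := hspec.mem_open V.2 hx0V
    let G : (hV.fromSpec ≫ f).fiber b ⟶ f.fiber b :=
      pullback.map (hV.fromSpec ≫ f) ((Spec (CommRingCat.of R)).fromSpecResidueField b) f
        ((Spec (CommRingCat.of R)).fromSpecResidueField b) hV.fromSpec (𝟙 _) (𝟙 _)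
        (by simp) (by simp)
    haveI : IsOpenImmersion G := Scheme.pullback_map_isOpenImmersion ..
    have hrange : y ∈ Set.range G := by
      have hR := Scheme.Pullback.range_map (f := hV.fromSpec ≫ f)
        (g := (Spec (CommRingCat.of R)).fromSpecResidueField b) f
        ((Spec (CommRingCat.of R)).fromSpecResidueField b) hV.fromSpec (𝟙 _) (𝟙 _)
        (by simp) (by simp)
      refine (Set.ext_iff.mp hR y).mpr ⟨?_, ?_⟩
      · show f.fiberι b y ∈ Set.range hV.fromSpec
        rw [hV.range_fromSpec]; exact hyV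
      · exact ⟨_, rfl⟩
    obtain ⟨z, rfl⟩ := hrange
    letI : Algebra R Γ(X, V) := (phi f V).toAlgebra
    haveI : Module.Flat R Γ(X, V) := phi_flat' f hV
    have h2 : _root_.IsReduced (b.asIdeal.Fiber Γ(X, V)) :=
      isReduced_fiber_of_radical b.asIdeal hrad
    have hSpec : IsReduced (Spec (CommRingCat.of (b.asIdeal.Fiber Γ(X, V)))) :=
      (affine_isReduced_iff (CommRingCat.of (b.asIdeal.Fiber Γ(X, V)))).mpr h2
    let E := Spec.fiberToSpecResidueFieldIso R Γ(X, V) b
    have h1 : IsReduced ((Spec.map (CommRingCat.ofHom (algebraMap R Γ(X, V)))).fiber b) :=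
      @isReduced_of_isOpenImmersion _ _ E.hom.left _ hSpec
    haveI : IsReduced ((hV.fromSpec ≫ f).fiber b) := by
      have h := fromSpec_comp f hV
      rw [show algebraMap R Γ(X, V) = phi f V from rfl, ← h] at h1
      exact h1
    exact isReduced_of_injective (G.stalkMap z).hom
      (ConcreteCategory.bijective_of_isIso (G.stalkMap z)).injective
  exact isReduced_of_isReduced_stalk _

theorem main0438 (f : X ⟶ Spec (CommRingCat.of R)) [IsProper f] [Flat f]
    (hred : IsReduced (f.fiber (IsLocalRing.closedPoint R))) :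
    IsReduced X ∧ ∀ s : ↑(Spec (CommRingCat.of R)), IsReduced (f.fiber s) :=
  ⟨isReduced_of_proper_flat f hred, fun s => isReduced_fiber f hred s⟩

end Groth.Agent.Lib.ValRedH4
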