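import Mathlib
import Groth.Agent.S2246
import Groth.Agent.Lib.SpreadIsoInt_helper7

/-!
# Closed morphisms from an integral separated scheme to the spectrum of a valuation ring (helper7)
-/

set_option autoImplicit false
universe u
open CategoryTheory AlgebraicGeometry

namespace Groth.Agent.Lib.ValRingIsoH7

/-- On an integral scheme the cospecialization maps to the generic stalk are injective. -/
theorem stalkSpecializes_injective {Z : Scheme.{u}} [IsIntegral Z] (z₀ z : Z)
    (h₀ : z₀ = genericPoint Z) (h' : z₀ ⤳ z) :
    Function.Injective (Z.presheaf.stalkSpecializes h').hom := by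
  subst h₀
  exact IsFractionRing.injective (Z.presheaf.stalk z) Z.functionField

/-- The germ map from `R` to a stalk of `Spec R`. -/
noncomputable def toStalk' (R : CommRingCat.{u}) (y : Spec R) : R ⟶ (Spec R).presheaf.stalk y :=
  StructureSheaf.toStalk R y

theorem toStalk'_stalkSpecializes (R : CommRingCat.{u}) {x y : Spec R} (h : x ⤳ y) (a : R) :
    ((Spec R).presheaf.stalkSpecializes h).hom ((toStalk' R y).hom a) = (toStalk' R x).hom a :=
  StructureSheaf.toStalk_stalkSpecializes_apply h a

theorem algebraMap_or {R : CommRingCat.{u}} [IsDomain R] [ValuationRing R]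
    (k : (Spec R).functionField) :
    ∃ a : R, algebraMap R (Spec R).functionField a = k ∨
      algebraMap R (Spec R).functionField a * k = 1 := by
  rcases ValuationRing.isInteger_or_isInteger R (K := (Spec R).functionField) k with
    ⟨a, ha⟩ | ⟨a, ha⟩
  · exact ⟨a, Or.inl ha⟩
  · by_cases hk : k = 0
    · exact ⟨0, Or.inl (by rw [hk, map_zero])⟩
    · refine ⟨a, Or.inr ?_⟩
      rw [ha]
      exact inv_mul_cancel₀ hk

/-- In the generic stalk of the spectrum of a valuation ring, every element or its inverse comes
from the ring. -/
theorem toStalk_or {R : CommRingCat.{u}} [IsDomain R] [ValuationRing R]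
    (y₀ : Spec R) (h₀ : y₀ = genericPoint (Spec R))
    (k : (Spec R).presheaf.stalk y₀) :
    ∃ a : R, (toStalk' R y₀).hom a = k ∨ (toStalk' R y₀).hom a * k = 1 := by
  subst h₀
  exact algebraMap_or (R := R) k

theorem isIso_of_isClosedMap {R : CommRingCat.{u}} [IsDomain R] [ValuationRing R]
    (X : Scheme.{u}) [IsIntegral X] [X.IsSeparated] (f : X ⟶ Spec R)
    (hf : IsClosedMap f) (x : X) (hx : f ⁻¹' {genericPoint (Spec R)} = {x})
    (hres : Function.Bijective (f.residueFieldMap x).hom) : IsIso f := by
  have hfx : f x = genericPoint (Spec R) := by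
    have : x ∈ f ⁻¹' {genericPoint (Spec R)} := by rw [hx]; rfl
    exact this
  have hξ : genericPoint X = x := by
    have h1 : genericPoint X ⤳ x := (genericPoint_spec X).specializes trivial
    have h2 : f (genericPoint X) ⤳ f x := h1.map f.continuous
    have h3 : genericPoint (Spec R) ⤳ f (genericPoint X) :=
      (genericPoint_spec (Spec R)).specializes trivial
    rw [hfx] at h2
    have h4 : f (genericPoint X) = genericPoint (Spec R) := (h2.antisymm h3).eq
    have : genericPoint X ∈ f ⁻¹' {genericPoint (Spec R)} := h4
    rw [hx] at this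
    exact this
  subst hξ
  -- the generic stalk map is bijective
  have hbijξ : Function.Bijective (f.stalkMap (genericPoint X)).hom := by
    haveI := Groth.Agent.Lib.SpreadIsoIntH7.isIso_residue_genericPoint X
    haveI : IsIso ((Spec R).residue (f (genericPoint X))) := by
      rw [hfx]; exact Groth.Agent.Lib.SpreadIsoIntH7.isIso_residue_genericPoint _
    haveI : IsIso (f.residueFieldMap (genericPoint X)) :=
      (ConcreteCategory.isIso_iff_bijective _).mpr hres
    have e : f.stalkMap (genericPoint X) =
        (Spec R).residue _ ≫ f.residueFieldMap _ ≫ inv (X.residue _) := by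
      rw [← Category.assoc, Scheme.residue_residueFieldMap, Category.assoc, IsIso.hom_inv_id,
        Category.comp_id]
    have : IsIso (f.stalkMap (genericPoint X)) := by rw [e]; infer_instance
    exact (ConcreteCategory.isIso_iff_bijective _).mp this
  have hsp : ∀ x' : X, genericPoint X ⤳ x' := fun x' => (genericPoint_spec X).specializes trivial
  have hinjX : ∀ x' : X, Function.Injective (X.presheaf.stalkSpecializes (hsp x')).hom :=
    fun x' => stalkSpecializes_injective _ _ rfl _
  have hinjY : ∀ x' : X, Function.Injective
      ((Spec R).presheaf.stalkSpecializes (f.base.hom.map_specializes (hsp x'))).hom :=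
    fun x' => stalkSpecializes_injective _ _ hfx _
  have hcompat : ∀ (x' : X) (t : (Spec R).presheaf.stalk (f x')),
      (f.stalkMap (genericPoint X)).hom
        (((Spec R).presheaf.stalkSpecializes (f.base.hom.map_specializes (hsp x'))).hom t) =
      (X.presheaf.stalkSpecializes (hsp x')).hom ((f.stalkMap x').hom t) := fun x' t =>
    Scheme.Hom.stalkSpecializes_stalkMap_apply f _ _ (hsp x') t
  -- all stalk maps are bijective
  have hbij : ∀ x' : X, Function.Bijective (f.stalkMap x').hom := by
    intro x'
    constructor
    · rw [injective_iff_map_eq_zero]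
      intro t ht
      apply hinjY x'
      apply hbijξ.1
      rw [hcompat, ht, map_zero, map_zero, map_zero]
    · intro b
      obtain ⟨k, hk⟩ := hbijξ.2 ((X.presheaf.stalkSpecializes (hsp x')).hom b)
      obtain ⟨a, ha⟩ := toStalk_or (f (genericPoint X)) hfx k
      have hsa : ((Spec R).presheaf.stalkSpecializes (f.base.hom.map_specializes (hsp x'))).hom
          ((toStalk' R (f x')).hom a) =
          (toStalk' R (f (genericPoint X))).hom a :=
        toStalk'_stalkSpecializes R (f.base.hom.map_specializes (hsp x')) a
      rcases ha with ha | ha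
      · refine ⟨(toStalk' R (f x')).hom a, ?_⟩
        apply hinjX x'
        rw [← hcompat, hsa, ha, hk]
      · have h1 : (f.stalkMap x').hom ((toStalk' R (f x')).hom a) * b = 1 := by
          apply hinjX x'
          rw [map_mul, ← hcompat, hsa, ← hk, ← map_mul, ha, map_one, map_one]
        have h2 : IsUnit ((f.stalkMap x').hom ((toStalk' R (f x')).hom a)) :=
          IsUnit.of_mul_eq_one _ h1
        have h3 : IsUnit ((toStalk' R (f x')).hom a) :=
          (inferInstance : IsLocalHom (f.stalkMap x').hom).map_nonunit _ h2
        obtain ⟨c, hc⟩ := isUnit_iff_exists_inv.mp h3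
        refine ⟨c, ?_⟩
        have h4 : (f.stalkMap x').hom ((toStalk' R (f x')).hom a) *
            (f.stalkMap x').hom c = 1 := by rw [← map_mul, hc, map_one]
        calc (f.stalkMap x').hom c
            = (b * (f.stalkMap x').hom ((toStalk' R (f x')).hom a)) *
                (f.stalkMap x').hom c := by rw [mul_comm b, h1, one_mul]
          _ = b := by rw [mul_assoc, h4, mul_one]
  -- range of the local rings in the function field
  have hrange : ∀ (x' : X) (y : Spec R) (hy : f x' = y),
      Set.range (algebraMap (X.presheaf.stalk x') X.functionField) =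
        {k | ∃ (h : f (genericPoint X) ⤳ y) (t : (Spec R).presheaf.stalk y),
          (f.stalkMap (genericPoint X)).hom (((Spec R).presheaf.stalkSpecializes h).hom t) = k} := by
    intro x' y hy
    subst hy
    ext k
    constructor
    · rintro ⟨b, rfl⟩
      obtain ⟨t, rfl⟩ := (hbij x').2 b
      exact ⟨f.base.hom.map_specializes (hsp x'), t, hcompat x' t⟩
    · rintro ⟨h, t, rfl⟩
      exact ⟨(f.stalkMap x').hom t, (hcompat x' t).symm⟩
  have hinj : Function.Injective f := by
    intro x₁ x₂ h12
    have hsep := (Groth.Agent.S2246.result X).mp inferInstance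
    refine hsep x₁ x₂ (LocalSubring.range (algebraMap (X.presheaf.stalk x₂) X.functionField)) ?_
      le_rfl
    refine le_of_eq (LocalSubring.toSubring_injective ?_)
    apply SetLike.coe_injective
    show Set.range (algebraMap (X.presheaf.stalk x₁) X.functionField) =
      Set.range (algebraMap (X.presheaf.stalk x₂) X.functionField)
    rw [hrange x₁ (f x₂) h12, hrange x₂ (f x₂) rfl]
  have hsurj : Function.Surjective f := by
    rw [← Set.range_eq_univ]
    have hcl : IsClosed (Set.range f) := by
      rw [← Set.image_univ]; exact hf _ isClosed_univ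
    have hη : genericPoint (Spec R) ∈ Set.range f := ⟨_, hfx⟩
    have h1 : closure {genericPoint (Spec R)} ⊆ Set.range f :=
      hcl.closure_subset_iff.mpr (Set.singleton_subset_iff.mpr hη)
    rw [(genericPoint_spec (Spec R)).def] at h1
    exact Set.eq_univ_of_univ_subset h1
  have hhomeo : IsHomeomorph f :=
    (isHomeomorph_iff_continuous_isClosedMap_bijective).mpr ⟨f.continuous, hf, hinj, hsurj⟩
  haveI : ∀ x', IsIso (f.stalkMap x') := fun x' =>
    (ConcreteCategory.isIso_iff_bijective _).mpr (hbij x')
  haveI : IsOpenImmersion f := IsOpenImmersion.of_isIso_stalkMap f hhomeo.isOpenEmbedding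
  rw [isIso_iff_isOpenImmersion_and_epi_base]
  exact ⟨inferInstance, (TopCat.epi_iff_surjective _).mpr hsurj⟩

end Groth.Agent.Lib.ValRingIsoH7
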