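import Mathlib

/-! van Dantzig's theorem for abelian groups: in a Hausdorff, locally compact, totally disconnected
topological abelian group, every neighbourhood of `0` contains a compact open subgroup. -/

set_option autoImplicit false

namespace Groth.Agent.Lib.VanDantzig

open Topology Pointwise

theorem exists_compact_open_addSubgroup_subset {B : Type*} [AddCommGroup B] [TopologicalSpace B]
    [IsTopologicalAddGroup B] [T2Space B] [LocallyCompactSpace B] [TotallyDisconnectedSpace B]
    {V : Set B} (hV : IsOpen V) (h0 : (0 : B) ∈ V) :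
    ∃ U : AddSubgroup B, IsOpen (U : Set B) ∧ IsCompact (U : Set B) ∧ (U : Set B) ⊆ V := by
  obtain ⟨K, hKc, hK0, hKV⟩ := exists_compact_subset hV h0
  obtain ⟨W, hWclopen, h0W, hWK⟩ :=
    (loc_compact_Haus_tot_disc_of_zero_dim (H := B)).exists_subset_of_mem_open hK0 isOpen_interior
  have hWcl : IsClopen W := hWclopen
  have hWc : IsCompact W := hKc.of_isClosed_subset hWcl.isClosed (hWK.trans interior_subset)
  have hopen : IsOpen {p : B × B | p.1 + p.2 ∈ W} := hWcl.isOpen.preimage continuous_add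
  obtain ⟨u, v, -, hv, hWu, h0v, huv⟩ := generalized_tube_lemma hWc
    (isCompact_singleton (x := (0 : B))) hopen (by
      rintro ⟨w, t⟩ ⟨hw, ht⟩
      rw [Set.mem_singleton_iff] at ht
      have ht' : t = 0 := ht
      show w + t ∈ W
      rw [ht', add_zero]
      exact hw)
  have h0v' : (0 : B) ∈ v := h0v (Set.mem_singleton 0)
  have hTopen : IsOpen (v ∩ -v) := hv.inter hv.neg
  have h0T : (0 : B) ∈ v ∩ -v := ⟨h0v', by rw [Set.mem_neg, neg_zero]; exact h0v'⟩
  have hTneg : ∀ t ∈ v ∩ -v, -t ∈ v ∩ -v := fun t ht =>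
    ⟨Set.mem_neg.1 ht.2, by rw [Set.mem_neg, neg_neg]; exact ht.1⟩
  have hWT : ∀ w ∈ W, ∀ t ∈ v ∩ -v, w + t ∈ W := fun w hw t ht =>
    huv (Set.mk_mem_prod (hWu hw) ht.1)
  have key : ∀ x ∈ AddSubgroup.closure (v ∩ -v), ∀ w ∈ W, w + x ∈ W ∧ w - x ∈ W := by
    intro x hx
    induction hx using AddSubgroup.closure_induction with
    | mem t ht =>
      intro w hw
      exact ⟨hWT w hw t ht, by rw [sub_eq_add_neg]; exact hWT w hw _ (hTneg t ht)⟩
    | zero =>
      intro w hw
      simpa using hw
    | add x y _ _ hx hy =>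
      intro w hw
      refine ⟨?_, ?_⟩
      · rw [← add_assoc]
        exact (hy _ (hx w hw).1).1
      · rw [← sub_sub]
        exact (hy _ (hx w hw).2).2
    | neg x _ hx =>
      intro w hw
      refine ⟨?_, ?_⟩
      · rw [← sub_eq_add_neg]
        exact (hx w hw).2
      · rw [sub_neg_eq_add]
        exact (hx w hw).1
  have hUW : (AddSubgroup.closure (v ∩ -v) : Set B) ⊆ W := fun x hx => by
    have h1 := (key x hx 0 h0W).1
    rwa [zero_add] at h1
  have hUopen : IsOpen (AddSubgroup.closure (v ∩ -v) : Set B) :=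
    AddSubgroup.isOpen_of_mem_nhds _
      (Filter.mem_of_superset (hTopen.mem_nhds h0T) AddSubgroup.subset_closure)
  exact ⟨AddSubgroup.closure (v ∩ -v), hUopen,
    hWc.of_isClosed_subset (AddSubgroup.isClosed_of_isOpen _ hUopen) hUW,
    hUW.trans (hWK.trans (interior_subset.trans hKV))⟩

end Groth.Agent.Lib.VanDantzig
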