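import Mathlib
import Groth.Prelude
import Groth.Agent.Lib.QAffDescent_helper9

set_option autoImplicit false
universe u
open CategoryTheory CategoryTheory.Limits AlgebraicGeometry TopologicalSpace

namespace Groth.Agent.Lib.Var7614H7

attribute [local instance] Groth.Agent.Lib.SchDescent_helper6.descendsAlong_quasiCompact
  Groth.Agent.Lib.SchDescent_helper6.descendsAlong_quasiSeparated

/-- Quasi-affineness of a scheme over a field descends along a field extension. -/
theorem main7614 (k : Type u) [Field k] (X : Scheme.{u}) [X.Over (Spec (CommRingCat.of k))]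
    (K : Type u) [Field K] [Algebra k K]
    [hqa : (Curv2.bc k X K).IsQuasiAffine] : X.IsQuasiAffine := by
  let f : Spec (CommRingCat.of K) ⟶ Spec (CommRingCat.of k) :=
    Spec.map (CommRingCat.ofHom (algebraMap k K))
  let g : X ⟶ Spec (CommRingCat.of k) := X ↘ Spec (CommRingCat.of k)
  haveI hfl : Flat f := by
    rw [HasRingHomProperty.Spec_iff (P := @Flat)]
    exact RingHom.flat_algebraMap_iff.mpr inferInstance
  haveI hsurj : Surjective f := ⟨fun x => by
    haveI : Subsingleton ↥(Spec (CommRingCat.of k)) :=
      inferInstanceAs (Subsingleton (PrimeSpectrum k))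
    obtain ⟨y⟩ : Nonempty ↥(Spec (CommRingCat.of K)) :=
      inferInstanceAs (Nonempty (PrimeSpectrum K))
    exact ⟨y, Subsingleton.elim _ _⟩⟩
  haveI hqc : QuasiCompact f := inferInstance
  -- the flipped pullback is quasi-affine
  haveI hbc : (pullback g f).IsQuasiAffine := hqa
  haveI hW : (pullback f g).IsQuasiAffine :=
    Scheme.IsQuasiAffine.of_isAffineHom (pullbackSymmetry f g).hom
  -- X is quasi-compact
  haveI hsnd : Surjective (pullback.snd f g) :=
    MorphismProperty.pullback_snd (P := @Surjective) f g inferInstance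
  haveI hXc : CompactSpace X :=
    Function.Surjective.compactSpace (pullback.snd f g).continuous (pullback.snd f g).surjective
  -- X is quasi-separated
  have hfpqc : (@Surjective ⊓ @Flat ⊓ @QuasiCompact : MorphismProperty Scheme.{u}) f :=
    ⟨⟨hsurj, hfl⟩, hqc⟩
  haveI hgqs : QuasiSeparated g :=
    MorphismProperty.of_pullback_fst_of_descendsAlong (P := @QuasiSeparated)
      (Q := (@Surjective ⊓ @Flat ⊓ @QuasiCompact : MorphismProperty Scheme.{u})) (f := f) hfpqc
      inferInstance
  haveI hXqs : QuasiSeparatedSpace X := quasiSeparatedSpace_of_quasiSeparated g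
  haveI hgqc : QuasiCompact g := (HasAffineProperty.iff_of_isAffine (P := @QuasiCompact)).mpr hXc
  refine Groth.Agent.Lib.QAffDescent.isQuasiAffine_of_pullback f g (fun V hV => ?_)
  haveI : CompactSpace (pullback.fst f g ⁻¹ᵁ V : Scheme.{u}) :=
    isCompact_iff_compactSpace.mp
      (QuasiCompact.isCompact_preimage (f := pullback.fst f g) _ V.2 hV.isCompact)
  exact Scheme.IsQuasiAffine.of_isImmersion (pullback.fst f g ⁻¹ᵁ V).ι

end Groth.Agent.Lib.Var7614H7
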