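import Mathlib
import Groth.Prelude.Def_PolLaw

/-!
# Divided powers `γ_d(m)` span `Γ^d(M)` over rings with enough Vandermonde units (helper1)
-/

set_option autoImplicit false
universe u
open DividedPowerAlgebra Polynomial

namespace Groth.Agent.Lib.VdmDPH1

variable {A M : Type u} [CommRing A] [AddCommGroup M] [Module A M]

theorem two_factor (t : A) (e : ℕ) (ht : ∀ i j : ℕ, i < j → j ≤ e → IsUnit (t ^ i - t ^ j))
    (x y : M) (j : ℕ) (hj : j ≤ e) :
    dp A (e - j) x * dp A j y ∈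
      Submodule.span A (Set.range (dp A e : M → DividedPowerAlgebra A M)) := by
  classical
  obtain ⟨v, hv⟩ : ∃ v : Fin (e + 1) → A, v = fun i : Fin (e + 1) => t ^ (i : ℕ) := ⟨_, rfl⟩
  obtain ⟨V, hV⟩ : ∃ V : Matrix (Fin (e + 1)) (Fin (e + 1)) A, V = Matrix.vandermonde v := ⟨_, rfl⟩
  have hdet : IsUnit V.det := by
    rw [hV, Matrix.det_vandermonde]
    refine Finset.prod_induction _ IsUnit (fun a b => IsUnit.mul) isUnit_one fun i _ => ?_
    refine Finset.prod_induction _ IsUnit (fun a b => IsUnit.mul) isUnit_one fun j' hj' => ?_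
    rw [Finset.mem_Ioi] at hj'
    have h := (ht (i : ℕ) (j' : ℕ) hj' (Nat.lt_succ_iff.1 j'.2)).neg
    rw [neg_sub] at h
    rw [hv]
    exact h
  obtain ⟨c, hc⟩ : ∃ c : Fin (e + 1) → DividedPowerAlgebra A M,
      c = fun l : Fin (e + 1) => dp A (e - (l : ℕ)) x * dp A (l : ℕ) y := ⟨_, rfl⟩
  obtain ⟨u, hu⟩ : ∃ u : Fin (e + 1) → DividedPowerAlgebra A M,
      u = fun i => dp A e (v i • y + x) := ⟨_, rfl⟩
  have hu' : ∀ i, u i = ∑ l, V i l • c l := by
    intro i
    rw [hu, hc]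
    simp only
    rw [dp_add, Finset.Nat.sum_antidiagonal_eq_sum_range_succ_mk, Finset.sum_range]
    refine Finset.sum_congr rfl fun l _ => ?_
    rw [dp_smul, hV, Matrix.vandermonde_apply, smul_mul_assoc, mul_comm]
  have hinv : V⁻¹ * V = 1 := Matrix.nonsing_inv_mul V hdet
  have hcj : c ⟨j, Nat.lt_succ_of_le hj⟩ = ∑ i, V⁻¹ ⟨j, Nat.lt_succ_of_le hj⟩ i • u i := by
    simp only [hu', Finset.smul_sum, smul_smul]
    rw [Finset.sum_comm]
    simp only [← Finset.sum_smul, ← Matrix.mul_apply, hinv, Matrix.one_apply, ite_smul, one_smul,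
      zero_smul, Finset.sum_ite_eq, Finset.mem_univ, if_true]
  have hgoal : dp A (e - j) x * dp A j y = c ⟨j, Nat.lt_succ_of_le hj⟩ := by rw [hc]
  rw [hgoal, hcj]
  refine Submodule.sum_mem _ fun i _ => Submodule.smul_mem _ _ (Submodule.subset_span ?_)
  rw [hu]
  exact ⟨_, rfl⟩

theorem prod_mem (t : A) (d : ℕ) (ht : ∀ i j : ℕ, i < j → j ≤ d → IsUnit (t ^ i - t ^ j)) :
    ∀ (n : ℕ) (k : Fin n → ℕ) (m : Fin n → M), (∑ i, k i) ≤ d →
      ∏ i, dp A (k i) (m i) ∈
        Submodule.span A (Set.range (dp A (∑ i, k i) : M → DividedPowerAlgebra A M)) := by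
  intro n
  induction n with
  | zero =>
    intro k m _
    apply Submodule.subset_span
    refine ⟨0, ?_⟩
    simp [dp_zero]
  | succ n ih =>
    intro k m hk
    rw [Fin.prod_univ_castSucc, Fin.sum_univ_castSucc]
    rw [Fin.sum_univ_castSucc] at hk
    have h1 := ih (fun i => k i.castSucc) (fun i => m i.castSucc)
      (le_trans (Nat.le_add_right _ _) hk)
    refine Submodule.span_induction (p := fun z _ => z * dp A (k (Fin.last n)) (m (Fin.last n)) ∈
      Submodule.span A (Set.range (dp A ((∑ i : Fin n, k i.castSucc) + k (Fin.last n)) :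
        M → DividedPowerAlgebra A M))) ?_ ?_ ?_ ?_ h1
    · rintro _ ⟨x, rfl⟩
      have := two_factor t ((∑ i : Fin n, k i.castSucc) + k (Fin.last n))
        (fun i j hij hj => ht i j hij (hj.trans hk)) x (m (Fin.last n)) (k (Fin.last n))
        (Nat.le_add_left _ _)
      rwa [Nat.add_sub_cancel] at this
    · rw [zero_mul]; exact Submodule.zero_mem _
    · intro a b _ _ ha hb
      rw [add_mul]
      exact Submodule.add_mem _ ha hb
    · intro r a _ ha
      rw [smul_mul_assoc]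
      exact Submodule.smul_mem _ r ha

theorem main13389 (d : ℕ)
    (φ : (ℤ[X] ⧸ Ideal.span {(∏ j ∈ Finset.range (d + 1), ∏ i ∈ Finset.range j,
        ((X : ℤ[X]) ^ i - X ^ j)) - 1}) →+* A) :
    Submodule.span A (Set.range (DividedPowerAlgebra.dp A d : M → DividedPowerAlgebra A M)) =
      PolLaw.gammaPiece A M d := by
  obtain ⟨t, ht0⟩ : ∃ t : A, t = φ (Ideal.Quotient.mk _ X) := ⟨_, rfl⟩
  have hprod : (∏ j ∈ Finset.range (d + 1), ∏ i ∈ Finset.range j, (t ^ i - t ^ j)) = 1 := by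
    have h0 : (Ideal.Quotient.mk (Ideal.span {(∏ j ∈ Finset.range (d + 1), ∏ i ∈ Finset.range j,
        ((X : ℤ[X]) ^ i - X ^ j)) - 1})) ((∏ j ∈ Finset.range (d + 1), ∏ i ∈ Finset.range j,
        ((X : ℤ[X]) ^ i - X ^ j)) - 1) = 0 :=
      Ideal.Quotient.eq_zero_iff_mem.2 (Ideal.subset_span rfl)
    have h1 := congrArg φ h0
    simp only [map_sub, map_prod, map_pow, map_one, map_zero] at h1
    rw [sub_eq_zero] at h1
    rw [ht0]
    exact h1
  have ht : ∀ i j : ℕ, i < j → j ≤ d → IsUnit (t ^ i - t ^ j) := by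
    intro i j hij hj
    apply isUnit_of_dvd_one
    rw [← hprod]
    exact (Finset.dvd_prod_of_mem (fun i => t ^ i - t ^ j) (Finset.mem_range.2 hij)).trans
      (Finset.dvd_prod_of_mem (fun j => ∏ i ∈ Finset.range j, (t ^ i - t ^ j))
        (Finset.mem_range.2 (Nat.lt_succ_of_le hj)))
  apply le_antisymm
  · apply Submodule.span_le.2
    rintro _ ⟨m, rfl⟩
    apply Submodule.subset_span
    exact ⟨1, fun _ => d, fun _ => m, by simp, by simp⟩
  · unfold PolLaw.gammaPiece
    apply Submodule.span_le.2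
    rintro _ ⟨n, k, m, hk, rfl⟩
    have := prod_mem t d ht n k m (le_of_eq hk)
    rwa [hk] at this

end Groth.Agent.Lib.VdmDPH1
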