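import Mathlib

/-!
# Veronese: the ring isomorphisms `S'_(g) ≅ S_(φ g)`  (helper5)
-/

set_option autoImplicit false
universe u

open HomogeneousLocalization

namespace Groth.Agent.Ver

variable {R A B : Type u} [CommRing R] [CommRing A] [Algebra R A] {𝒜 : ℕ → Submodule R A}
  [GradedAlgebra 𝒜] [CommRing B] [Algebra R B] {ℬ : ℕ → Submodule R B} [GradedAlgebra ℬ]
  {d : ℕ} {φ : B →ₐ[R] A}

/-- `φ` multiplies degrees by `d`. -/
def HDeg (𝒜 : ℕ → Submodule R A) (ℬ : ℕ → Submodule R B) (d : ℕ) (φ : B →ₐ[R] A) : Prop :=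
  ∀ n : ℕ, Submodule.map φ.toLinearMap (ℬ n) = 𝒜 (n * d)

theorem map_mem (hdeg : HDeg 𝒜 ℬ d φ) {n : ℕ} {b : B} (hb : b ∈ ℬ n) : φ b ∈ 𝒜 (n * d) :=
  (hdeg n).le (Submodule.mem_map_of_mem hb)

theorem map_mem_smul (hdeg : HDeg 𝒜 ℬ d φ) {n k : ℕ} {b : B} (hb : b ∈ ℬ (k • n)) :
    φ b ∈ 𝒜 (k • (n * d)) := by
  have := map_mem hdeg hb
  rw [smul_eq_mul] at this ⊢
  rwa [mul_assoc] at this

theorem exists_preimage (hdeg : HDeg 𝒜 ℬ d φ) {n : ℕ} {a : A} (ha : a ∈ 𝒜 (n * d)) :
    ∃ b ∈ ℬ n, φ b = a := by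
  rw [← hdeg n] at ha
  obtain ⟨b, hb, rfl⟩ := ha
  exact ⟨b, hb, rfl⟩

/-- `s ^ m` as an element of the submonoid of powers. -/
def pw {C : Type*} [CommRing C] (s : C) (m : ℕ) : Submonoid.powers s := ⟨s ^ m, ⟨m, rfl⟩⟩

@[simp] theorem coe_pw {C : Type*} [CommRing C] (s : C) (m : ℕ) :
    ((pw s m : Submonoid.powers s) : C) = s ^ m := rfl

theorem locAwayMap_mk (g b : B) (k : ℕ) :
    Localization.awayMap φ.toRingHom g (Localization.mk b (pw g k)) =
      Localization.mk (φ b) (pw (φ g) k) := by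
  rw [Localization.mk_eq_mk', Localization.mk_eq_mk']
  show IsLocalization.map _ _ _ _ = _
  rw [IsLocalization.map_mk']
  congr 1
  apply Subtype.ext
  simp

variable (hdeg : HDeg 𝒜 ℬ d φ) {n : ℕ} {g : B} (hg : g ∈ ℬ n)

theorem away_val_mk {C : Type u} [CommRing C] [Algebra R C] {𝒞 : ℕ → Submodule R C}
    [GradedAlgebra 𝒞] {m : ℕ} {c : C} (hc : c ∈ 𝒞 m) (k : ℕ) (x : C) (hx : x ∈ 𝒞 (k • m)) :
    (Away.mk 𝒞 hc k x hx).val = Localization.mk x (pw c k) := rfl

include hdeg hg in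
theorem exists_theta (x : Away ℬ g) :
    ∃ y : Away 𝒜 (φ g), y.val = Localization.awayMap φ.toRingHom g x.val := by
  obtain ⟨k, b, hb, rfl⟩ := Away.mk_surjective ℬ hg x
  refine ⟨Away.mk 𝒜 (map_mem hdeg hg) k (φ b) (map_mem_smul hdeg hb), ?_⟩
  rw [away_val_mk, away_val_mk, locAwayMap_mk]

/-- The ring map `S'_(g) → S_(φ g)`, `b / g^k ↦ φ b / (φ g)^k`. -/
noncomputable def theta : Away ℬ g →+* Away 𝒜 (φ g) where
  toFun x := (exists_theta hdeg hg x).choose
  map_one' := val_injective _ (by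
    rw [(exists_theta hdeg hg 1).choose_spec, val_one, val_one, map_one])
  map_mul' x y := val_injective _ (by
    rw [(exists_theta hdeg hg (x * y)).choose_spec, val_mul, val_mul, map_mul,
      (exists_theta hdeg hg x).choose_spec, (exists_theta hdeg hg y).choose_spec])
  map_zero' := val_injective _ (by
    rw [(exists_theta hdeg hg 0).choose_spec, val_zero, val_zero, map_zero])
  map_add' x y := val_injective _ (by
    rw [(exists_theta hdeg hg (x + y)).choose_spec, val_add, val_add, map_add,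
      (exists_theta hdeg hg x).choose_spec, (exists_theta hdeg hg y).choose_spec])

theorem val_theta (x : Away ℬ g) :
    (theta hdeg hg x).val = Localization.awayMap φ.toRingHom g x.val :=
  (exists_theta hdeg hg x).choose_spec

theorem theta_mk (k : ℕ) (b : B) (hb : b ∈ ℬ (k • n)) :
    theta hdeg hg (Away.mk ℬ hg k b hb) =
      Away.mk 𝒜 (map_mem hdeg hg) k (φ b) (map_mem_smul hdeg hb) := by
  apply val_injective
  rw [val_theta, away_val_mk, away_val_mk, locAwayMap_mk]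

/-- Uniqueness: any ring map compatible with `b/g^k ↦ φ b/(φ g)^k` is `theta`. -/
theorem eq_theta (θ : Away ℬ g →+* Away 𝒜 (φ g))
    (hθ : (algebraMap (Away 𝒜 (φ g)) (Localization.Away (φ g))).comp θ =
      (Localization.awayMap φ.toRingHom g).comp
        (algebraMap (Away ℬ g) (Localization.Away g))) :
    θ = theta hdeg hg := by
  ext x : 1
  apply val_injective
  rw [val_theta]
  exact congrArg (fun q => q x) hθ

theorem theta_injective (hφ : Function.Injective φ) : Function.Injective (theta hdeg hg) := by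
  rw [injective_iff_map_eq_zero]
  intro x hx
  obtain ⟨k, b, hb, rfl⟩ := Away.mk_surjective ℬ hg x
  rw [theta_mk] at hx
  have h1 := congrArg HomogeneousLocalization.val hx
  rw [away_val_mk, val_zero, Localization.mk_eq_mk', IsLocalization.mk'_eq_zero_iff] at h1
  obtain ⟨⟨_, m, rfl⟩, hm⟩ := h1
  have h2 : φ (g ^ m * b) = 0 := by
    rw [map_mul, map_pow]; exact hm
  have h3 : g ^ m * b = 0 := hφ (by rw [h2, map_zero])
  apply val_injective
  rw [away_val_mk, val_zero, Localization.mk_eq_mk', IsLocalization.mk'_eq_zero_iff]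
  exact ⟨⟨g ^ m, ⟨m, rfl⟩⟩, h3⟩

theorem theta_surjective : Function.Surjective (theta hdeg hg) := by
  intro y
  obtain ⟨k, a, ha, rfl⟩ := Away.mk_surjective 𝒜 (map_mem hdeg hg) y
  have ha' : a ∈ 𝒜 ((k • n) * d) := by
    rw [smul_eq_mul] at ha ⊢
    rwa [mul_assoc]
  obtain ⟨b, hb, rfl⟩ := exists_preimage hdeg ha'
  exact ⟨Away.mk ℬ hg k b hb, theta_mk hdeg hg k b hb⟩

theorem theta_bijective (hφ : Function.Injective φ) : Function.Bijective (theta hdeg hg) :=
  ⟨theta_injective hdeg hg hφ, theta_surjective hdeg hg⟩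

/-- Compatibility with the transition maps `S'_(g) → S'_(g g')`. -/
theorem theta_awayMap {n' : ℕ} {g' : B} (hg' : g' ∈ ℬ n') {x : B} (hx : x = g * g')
    (hxdeg : x ∈ ℬ (n + n')) (y : Away ℬ g) :
    theta hdeg hxdeg (awayMap ℬ hg' hx y) =
      awayMap 𝒜 (map_mem hdeg hg') (show φ x = φ g * φ g' by rw [hx, map_mul])
        (theta hdeg hg y) := by
  obtain ⟨k, b, hb, rfl⟩ := Away.mk_surjective ℬ hg y
  rw [theta_mk, HomogeneousLocalization.awayMap_mk, HomogeneousLocalization.awayMap_mk, theta_mk]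
  apply val_injective
  rw [away_val_mk, away_val_mk, map_mul, map_pow]

end Groth.Agent.Ver
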