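import Mathlib
import Groth.Agent.Lib.Ver1_helper5
import Groth.Agent.Lib.ConeGeo1_helper5

/-!
# Veronese: gluing the chart morphisms `D_+(φ g) → D_+(g)`  (helper5)
-/

set_option autoImplicit false
universe u

open CategoryTheory CategoryTheory.Limits AlgebraicGeometry TopologicalSpace Opposite
open HomogeneousLocalization

namespace Groth.Agent.Ver

variable {R A B : Type u} [CommRing R] [CommRing A] [Algebra R A] {𝒜 : ℕ → Submodule R A}
  [GradedAlgebra 𝒜] [CommRing B] [Algebra R B] {ℬ : ℕ → Submodule R B} [GradedAlgebra ℬ]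
  {d : ℕ} {φ : B →ₐ[R] A}

/-- Homogeneous elements of positive degree of `B`. -/
structure Idx (ℬ : ℕ → Submodule R B) where
  n : ℕ
  g : B
  hn : 0 < n
  hg : g ∈ ℬ n

theorem theta_congr (hdeg : HDeg 𝒜 ℬ d φ) {n₁ n₂ : ℕ} {g : B} (h₁ : g ∈ ℬ n₁) (h₂ : g ∈ ℬ n₂) :
    theta hdeg h₁ = theta hdeg h₂ := by
  apply eq_theta hdeg h₂
  ext x : 1
  simp only [RingHom.comp_apply, HomogeneousLocalization.algebraMap_apply]
  exact val_theta hdeg h₁ x

theorem exists_idx (hdeg : HDeg 𝒜 ℬ d φ) (hd : 0 < d) (p : Proj 𝒜) :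
    ∃ j : Idx ℬ, p ∈ Proj.basicOpen 𝒜 (φ j.g) := by
  have hc := (Proj.affineOpenCover 𝒜).covers p
  set i := (Proj.affineOpenCover 𝒜).idx p with hi
  have hp : p ∈ Proj.basicOpen 𝒜 (i.2 : A) := by
    rw [← Proj.opensRange_awayι 𝒜 (i.2 : A) i.2.2 i.1.2]
    exact hc
  have ha : (i.2 : A) ^ d ∈ 𝒜 ((i.1 : ℕ) * d) := by
    have := SetLike.pow_mem_graded d i.2.2
    rw [smul_eq_mul, mul_comm] at this
    exact this
  obtain ⟨g, hg, hφg⟩ := exists_preimage hdeg ha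
  refine ⟨⟨i.1, g, i.1.2, hg⟩, ?_⟩
  show p ∈ Proj.basicOpen 𝒜 (φ g)
  rw [hφg, Proj.basicOpen_pow 𝒜 _ d hd]
  exact hp

variable (hdeg : HDeg 𝒜 ℬ d φ) (hd : 0 < d)

/-- The affine open cover of `Proj 𝒜` by the `D_+(φ g)`. -/
noncomputable def cover : (Proj 𝒜).AffineOpenCover where
  I₀ := Idx ℬ
  X j := .of (Away 𝒜 (φ j.g))
  f j := Proj.awayι 𝒜 (φ j.g) (map_mem hdeg j.hg) (Nat.mul_pos j.hn hd)
  idx p := (exists_idx hdeg hd p).choose
  covers p := by
    have h := (exists_idx hdeg hd p).choose_spec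
    rw [← Proj.opensRange_awayι 𝒜 _ (map_mem hdeg (exists_idx hdeg hd p).choose.hg)
      (Nat.mul_pos (exists_idx hdeg hd p).choose.hn hd)] at h
    exact h

/-- The chart morphisms. -/
noncomputable def chartHom (j : Idx ℬ) : Spec (.of (Away 𝒜 (φ j.g))) ⟶ Proj ℬ :=
  Spec.map (CommRingCat.ofHom (theta hdeg j.hg)) ≫ Proj.awayι ℬ j.g j.hg j.hn

theorem mul_mem_idx (j j' : Idx ℬ) : j.g * j'.g ∈ ℬ (j.n + j'.n) :=
  SetLike.mul_mem_graded j.hg j'.hg

/-- `Spec` of the transition map followed by a chart morphism is the chart morphism of the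
product. -/
theorem awayMap_chartHom (j j' : Idx ℬ) :
    Spec.map (CommRingCat.ofHom (awayMap 𝒜 (map_mem hdeg j'.hg)
        (show φ (j.g * j'.g) = φ j.g * φ j'.g from map_mul φ _ _))) ≫ chartHom hdeg j =
      Spec.map (CommRingCat.ofHom (theta hdeg (mul_mem_idx j j'))) ≫
        Proj.awayι ℬ (j.g * j'.g) (mul_mem_idx j j') (Nat.add_pos_left j.hn _) := by
  rw [chartHom, ← Spec.map_comp_assoc]
  have h1 : CommRingCat.ofHom (theta hdeg j.hg) ≫ CommRingCat.ofHom (awayMap 𝒜 (map_mem hdeg j'.hg)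
      (show φ (j.g * j'.g) = φ j.g * φ j'.g from map_mul φ _ _)) =
      CommRingCat.ofHom (awayMap ℬ j'.hg (rfl : j.g * j'.g = j.g * j'.g)) ≫
        CommRingCat.ofHom (theta hdeg (mul_mem_idx j j')) := by
    refine CommRingCat.hom_ext (RingHom.ext fun y => ?_)
    exact (theta_awayMap hdeg j.hg j'.hg rfl (mul_mem_idx j j') y).symm
  rw [h1, Spec.map_comp_assoc, Proj.SpecMap_awayMap_awayι]

theorem chartHom_compat (j j' : Idx ℬ) :
    pullback.fst (Proj.awayι 𝒜 (φ j.g) (map_mem hdeg j.hg) (Nat.mul_pos j.hn hd))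
        (Proj.awayι 𝒜 (φ j'.g) (map_mem hdeg j'.hg) (Nat.mul_pos j'.hn hd)) ≫
        chartHom hdeg j =
      pullback.snd (Proj.awayι 𝒜 (φ j.g) (map_mem hdeg j.hg) (Nat.mul_pos j.hn hd))
        (Proj.awayι 𝒜 (φ j'.g) (map_mem hdeg j'.hg) (Nat.mul_pos j'.hn hd)) ≫
        chartHom hdeg j' := by
  have hx : φ (j.g * j'.g) = φ j.g * φ j'.g := map_mul φ _ _
  rw [← cancel_epi (Proj.pullbackAwayιIso 𝒜 (map_mem hdeg j.hg) (Nat.mul_pos j.hn hd)
    (map_mem hdeg j'.hg) (Nat.mul_pos j'.hn hd) hx).inv]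
  have e1 := Proj.pullbackAwayιIso_inv_fst_assoc 𝒜 (map_mem hdeg j.hg) (Nat.mul_pos j.hn hd)
    (map_mem hdeg j'.hg) (Nat.mul_pos j'.hn hd) hx (chartHom hdeg j)
  have e2 := Proj.pullbackAwayιIso_inv_snd_assoc 𝒜 (map_mem hdeg j.hg) (Nat.mul_pos j.hn hd)
    (map_mem hdeg j'.hg) (Nat.mul_pos j'.hn hd) hx (chartHom hdeg j')
  refine e1.trans (Eq.trans ?_ e2.symm)
  rw [awayMap_chartHom hdeg j j']
  -- the other side, via `j' , j`
  have h2 := awayMap_chartHom hdeg j' j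
  have hc : j'.g * j.g = j.g * j'.g := mul_comm _ _
  -- transport along `j'.g * j.g = j.g * j'.g`
  have key : ∀ (x : B) (hxe : x = j'.g * j.g) (hx1 : x ∈ ℬ (j'.n + j.n))
      (hx2 : φ x = φ j'.g * φ j.g),
      Spec.map (CommRingCat.ofHom (awayMap 𝒜 (map_mem hdeg j.hg) hx2)) ≫ chartHom hdeg j' =
        Spec.map (CommRingCat.ofHom (theta hdeg hx1)) ≫
          Proj.awayι ℬ x hx1 (Nat.add_pos_left j'.hn _) := by
    intro x hxe hx1 hx2
    subst hxe
    exact h2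
  have h3 := key (j.g * j'.g) hc.symm (by rw [add_comm]; exact mul_mem_idx j j')
    (hx.trans (mul_comm _ _))
  rw [theta_congr hdeg _ (mul_mem_idx j j')] at h3
  exact h3.symm

/-- The glued morphism `Proj 𝒜 ⟶ Proj ℬ`. -/
noncomputable def glued : Proj 𝒜 ⟶ Proj ℬ :=
  (cover hdeg hd).openCover.glueMorphisms (chartHom hdeg)
    (fun j j' => chartHom_compat hdeg hd j j')

theorem awayι_glued (j : Idx ℬ) :
    Proj.awayι 𝒜 (φ j.g) (map_mem hdeg j.hg) (Nat.mul_pos j.hn hd) ≫ glued hdeg hd =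
      Spec.map (CommRingCat.ofHom (theta hdeg j.hg)) ≫ Proj.awayι ℬ j.g j.hg j.hn :=
  (cover hdeg hd).openCover.ι_glueMorphisms (chartHom hdeg)
    (fun j j' => chartHom_compat hdeg hd j j') j

end Groth.Agent.Ver
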