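import Mathlib
import Groth.Agent.Lib.Ver2_helper5

/-!
# Veronese: the glued morphism on points, and it is an isomorphism  (helper5)
-/

set_option autoImplicit false
universe u

open CategoryTheory CategoryTheory.Limits AlgebraicGeometry TopologicalSpace Opposite
open HomogeneousLocalization DirectSum

namespace Groth.Agent.Ver

variable {R A B : Type u} [CommRing R] [CommRing A] [Algebra R A] {𝒜 : ℕ → Submodule R A}
  [GradedAlgebra 𝒜] [CommRing B] [Algebra R B] {ℬ : ℕ → Submodule R B} [GradedAlgebra ℬ]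
  {d : ℕ} {φ : B →ₐ[R] A} (hdeg : HDeg 𝒜 ℬ d φ) (hd : 0 < d)

theorem glued_awayι_apply (j : Idx ℬ) (y : Spec (.of (Away 𝒜 (φ j.g)))) :
    glued hdeg hd (Proj.awayι 𝒜 (φ j.g) (map_mem hdeg j.hg) (Nat.mul_pos j.hn hd) y) =
      Proj.awayι ℬ j.g j.hg j.hn (Spec.map (CommRingCat.ofHom (theta hdeg j.hg)) y) := by
  have h1 : glued hdeg hd (Proj.awayι 𝒜 (φ j.g) (map_mem hdeg j.hg) (Nat.mul_pos j.hn hd) y) =
      (Proj.awayι 𝒜 (φ j.g) (map_mem hdeg j.hg) (Nat.mul_pos j.hn hd) ≫ glued hdeg hd) y := rfl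
  rw [h1, awayι_glued]
  rfl

/-- On homogeneous elements. -/
theorem homog_mem_iff (p : Proj 𝒜) {e : ℕ} {b : B} (hb : b ∈ ℬ e) :
    b ∈ (glued hdeg hd p).asHomogeneousIdeal ↔ φ b ∈ p.asHomogeneousIdeal := by
  obtain ⟨j, hj⟩ := exists_idx hdeg hd p
  rw [← Proj.opensRange_awayι 𝒜 _ (map_mem hdeg j.hg) (Nat.mul_pos j.hn hd)] at hj
  obtain ⟨y, rfl⟩ := hj
  rw [glued_awayι_apply]
  rw [← not_iff_not]
  have h1 := Groth.Agent.ConeGeo.awayι_mem_basicOpen_iff ℬ j.hg j.hn hb
    (Spec.map (CommRingCat.ofHom (theta hdeg j.hg)) y)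
  have h2 := Groth.Agent.ConeGeo.awayι_mem_basicOpen_iff 𝒜 (map_mem hdeg j.hg)
    (Nat.mul_pos j.hn hd) (map_mem hdeg hb) y
  rw [Proj.mem_basicOpen] at h1 h2
  rw [h1, h2]
  -- compare the two fractions
  have h3 : (Spec.map (CommRingCat.ofHom (theta hdeg j.hg)) y).asIdeal =
      Ideal.comap (theta hdeg j.hg) y.asIdeal := rfl
  rw [h3, Ideal.mem_comap, theta_mk]
  have h4 : Away.mk 𝒜 (map_mem hdeg j.hg) (e * d) (φ b ^ (j.n * d))
      (Groth.Agent.ConeGeo.pow_mem_smul 𝒜 (map_mem hdeg hb)) =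
      (Away.mk 𝒜 (map_mem hdeg j.hg) e (φ (b ^ j.n))
        (map_mem_smul hdeg (Groth.Agent.ConeGeo.pow_mem_smul ℬ hb))) ^ d := by
    apply val_injective
    rw [val_pow, away_val_mk, away_val_mk, Localization.mk_pow]
    congr 1
    · rw [map_pow, ← pow_mul]
    · apply Subtype.ext
      simp [← pow_mul]
  rw [h4]
  constructor
  · intro h h'
    exact h (y.isPrime.mem_of_pow_mem _ h')
  · intro h h'
    exact h (Ideal.pow_mem_of_mem _ h' d hd)

include hdeg hd in
theorem decompose_map (b : B) (e : ℕ) :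
    (decompose 𝒜 (φ b) (e * d) : A) = φ (decompose ℬ b e : B) := by
  classical
  conv_lhs => rw [← sum_support_decompose ℬ b, map_sum, decompose_sum]
  rw [DirectSum.sum_apply, AddSubmonoidClass.coe_finsetSum]
  by_cases he : e ∈ (decompose ℬ b).support
  · rw [Finset.sum_eq_single e]
    · rw [decompose_of_mem_same 𝒜 (map_mem hdeg (SetLike.coe_mem _))]
    · intro i _ hie
      rw [decompose_of_mem_ne 𝒜 (map_mem hdeg (SetLike.coe_mem _))]
      intro h
      exact hie (Nat.eq_of_mul_eq_mul_right hd h)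
    · intro h; exact absurd he h
  · have h0 : (decompose ℬ b e : B) = 0 := by
      have := (DFinsupp.mem_support_iff (f := decompose ℬ b) (i := e)).not.mp he
      rw [not_not] at this
      rw [this]; rfl
    rw [h0, map_zero]
    apply Finset.sum_eq_zero
    intro i hi
    rw [decompose_of_mem_ne 𝒜 (map_mem hdeg (SetLike.coe_mem _))]
    intro h
    have : i = e := Nat.eq_of_mul_eq_mul_right hd h
    exact he (this ▸ hi)

/-- The glued morphism sends `p` to `φ⁻¹(p)`. -/
theorem glued_asIdeal (hφ : Function.Injective φ) (p : Proj 𝒜) :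
    (glued hdeg hd p).asHomogeneousIdeal.toIdeal = Ideal.comap φ p.asHomogeneousIdeal.toIdeal := by
  classical
  ext b
  rw [Ideal.mem_comap]
  constructor
  · intro hb
    rw [← sum_support_decompose ℬ b, map_sum]
    refine Ideal.sum_mem _ fun e _ => ?_
    have h1 : (decompose ℬ b e : B) ∈ (glued hdeg hd p).asHomogeneousIdeal.toIdeal :=
      (glued hdeg hd p).asHomogeneousIdeal.isHomogeneous e hb
    exact (homog_mem_iff hdeg hd p (SetLike.coe_mem _)).mp h1
  · intro hb
    rw [← sum_support_decompose ℬ b]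
    refine Ideal.sum_mem _ fun e _ => ?_
    have h1 : (decompose 𝒜 (φ b) (e * d) : A) ∈ p.asHomogeneousIdeal.toIdeal :=
      p.asHomogeneousIdeal.isHomogeneous (e * d) hb
    rw [decompose_map hdeg hd] at h1
    exact (homog_mem_iff hdeg hd p (SetLike.coe_mem _)).mpr h1

theorem glued_preimage_basicOpen (hφ : Function.Injective φ) (g : B) :
    glued hdeg hd ⁻¹ᵁ Proj.basicOpen ℬ g = Proj.basicOpen 𝒜 (φ g) := by
  ext p
  show glued hdeg hd p ∈ Proj.basicOpen ℬ g ↔ p ∈ Proj.basicOpen 𝒜 (φ g)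
  rw [Proj.mem_basicOpen, Proj.mem_basicOpen]
  have h := glued_asIdeal hdeg hd hφ p
  have h1 : g ∈ (glued hdeg hd p).asHomogeneousIdeal ↔
      g ∈ (glued hdeg hd p).asHomogeneousIdeal.toIdeal := Iff.rfl
  rw [h1, h, Ideal.mem_comap]
  exact Iff.rfl

theorem isPullback_glued (hφ : Function.Injective φ) (j : Idx ℬ) :
    IsPullback (Spec.map (CommRingCat.ofHom (theta hdeg j.hg)))
      (Proj.awayι 𝒜 (φ j.g) (map_mem hdeg j.hg) (Nat.mul_pos j.hn hd))
      (Proj.awayι ℬ j.g j.hg j.hn) (glued hdeg hd) := by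
  refine IsOpenImmersion.isPullback _ _ _ _ (awayι_glued hdeg hd j) ?_
  rw [Proj.opensRange_awayι, Proj.opensRange_awayι, glued_preimage_basicOpen hdeg hd hφ]

theorem isIso_glued (hφ : Function.Injective φ) : IsIso (glued hdeg hd) := by
  refine IsZariskiLocalAtTarget.of_openCover (P := MorphismProperty.isomorphisms Scheme.{u})
    (Proj.affineOpenCover ℬ).openCover fun s => ?_
  let j : Idx ℬ := ⟨s.1, s.2, s.1.2, s.2.2⟩
  have hpb := (isPullback_glued hdeg hd hφ j).flip
  have h1 : hpb.isoPullback.hom ≫ pullback.snd _ _ =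
      Spec.map (CommRingCat.ofHom (theta hdeg j.hg)) := hpb.isoPullback_hom_snd
  have : IsIso (CommRingCat.ofHom (theta hdeg j.hg)) :=
    (ConcreteCategory.isIso_iff_bijective _).mpr (theta_bijective hdeg j.hg hφ)
  have h2 : MorphismProperty.isomorphisms Scheme.{u}
      (Spec.map (CommRingCat.ofHom (theta hdeg j.hg))) :=
    (inferInstance : IsIso (Spec.map (CommRingCat.ofHom (theta hdeg j.hg))))
  rw [← h1, (MorphismProperty.isomorphisms Scheme.{u}).cancel_left_of_respectsIso] at h2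
  exact h2

/-- **Veronese**: `Proj S ≅ Proj S^{(d)}`. -/
theorem veronese (hφ : Function.Injective φ)
    (hdeg' : ∀ n : ℕ, Submodule.map φ.toLinearMap (ℬ n) = 𝒜 (n * d)) :
    ∃ e : Proj 𝒜 ≅ Proj ℬ,
      (∀ p : Proj 𝒜, (e.hom.base p).asHomogeneousIdeal.toIdeal =
        Ideal.comap φ p.asHomogeneousIdeal.toIdeal) ∧
      ∀ (n : ℕ) (g : B) (hn : 0 < n) (hg : g ∈ ℬ n)
        (θ : CommRingCat.of (HomogeneousLocalization.Away ℬ g) ⟶
          CommRingCat.of (HomogeneousLocalization.Away 𝒜 (φ g))),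
        (algebraMap (HomogeneousLocalization.Away 𝒜 (φ g)) (Localization.Away (φ g))).comp θ.hom =
          (Localization.awayMap φ.toRingHom g).comp
            (algebraMap (HomogeneousLocalization.Away ℬ g) (Localization.Away g)) →
        Proj.awayι 𝒜 (φ g) ((hdeg' n).le (Submodule.mem_map_of_mem hg)) (Nat.mul_pos hn hd) ≫
            e.hom =
          Spec.map θ ≫ Proj.awayι ℬ g hg hn := by
  have hdeg : HDeg 𝒜 ℬ d φ := hdeg'
  haveI := isIso_glued hdeg hd hφ
  refine ⟨asIso (glued hdeg hd), fun p => glued_asIdeal hdeg hd hφ p, ?_⟩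
  intro n g hn hg θ hθ
  have h1 : θ = CommRingCat.ofHom (theta hdeg hg) := by
    apply CommRingCat.hom_ext
    exact eq_theta hdeg hg θ.hom hθ
  rw [h1]
  exact awayι_glued hdeg hd ⟨n, g, hn, hg⟩

end Groth.Agent.Ver
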