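import Mathlib
import Groth.Prelude
import Groth.Agent.Lib.TwPull7_helper2
import Groth.Agent.Lib.Ver3_helper5

/-!
# Pull-back of `M~` along the Veronese isomorphism `Proj S ≅ Proj S^{(d)}` (helper2)

On top of helper5's `Ver1-3` (`glued : Proj 𝒜 ⟶ Proj ℬ`): the chart formula for the sheaf map of
`glued` (`awayToSection_comp_appLE_glued`, `appLE_glued_fracO`), its pointwise description
(`valO_glued_app`), the canonical morphism `vcomap : N(n)~ ⟶ Φ_* (M(nd)~)` for a `φ`-semilinear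
`v : N → M` multiplying degrees by `d`, `isIso_adj_vcomap`, and `main9579`, `main9577`.
APPEND-ONLY once landed.
-/

set_option autoImplicit false
universe u
open CategoryTheory CategoryTheory.Limits AlgebraicGeometry TopologicalSpace Opposite DirectSum
open HomogeneousLocalization

namespace Groth.Agent.Lib.VerPullH2

open Groth.Agent.GrTi Groth.Agent.GrTw QcqsLoc QCohExtn Groth.Agent.Lib.GrModSectH1
  Groth.Agent.Lib.PullAdjH2 Groth.Agent.Lib.SatQH2 Groth.Agent.Lib.TwPullH2 Groth.Agent.Ver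

section Chart
variable {R A B : Type u} [CommRing R] [CommRing A] [Algebra R A] {𝒜 : ℕ → Submodule R A}
  [GradedAlgebra 𝒜] [CommRing B] [Algebra R B] {ℬ : ℕ → Submodule R B} [GradedAlgebra ℬ]
  {d : ℕ} {φ : B →ₐ[R] A} (hdeg : HDeg 𝒜 ℬ d φ) (hd : 0 < d) (hφ : Function.Injective φ)

include hφ in
theorem hleV (g : B) :
    Proj.basicOpen 𝒜 (φ g) ≤ (glued hdeg hd) ⁻¹ᵁ (Proj.basicOpen ℬ g) :=
  le_of_eq (glued_preimage_basicOpen hdeg hd hφ g).symm

theorem awayToSection_comp_appLE_glued {n : ℕ} {g : B} (hn : 0 < n) (hg : g ∈ ℬ n) :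
    Proj.awayToSection ℬ g ≫
      (glued hdeg hd).appLE (Proj.basicOpen ℬ g) (Proj.basicOpen 𝒜 (φ g)) (hleV hdeg hd hφ g) =
    CommRingCat.ofHom (theta hdeg hg) ≫ Proj.awayToSection 𝒜 (φ g) := by
  have F3 := awayι_glued hdeg hd ⟨n, g, hn, hg⟩
  have E2 : (glued hdeg hd).resLE (Proj.basicOpen ℬ g) (Proj.basicOpen 𝒜 (φ g))
      (hleV hdeg hd hφ g) ≫ Proj.basicOpenToSpec ℬ g =
      Proj.basicOpenToSpec 𝒜 (φ g) ≫ Spec.map (CommRingCat.ofHom (theta hdeg hg)) := by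
    rw [← Proj.basicOpenIsoSpec_inv_ι, ← Proj.basicOpenIsoSpec_inv_ι] at F3
    rw [Category.assoc, ← Scheme.Hom.resLE_comp_ι (glued hdeg hd) (hleV hdeg hd hφ g)] at F3
    rw [← Category.assoc, ← Category.assoc (Spec.map _), cancel_mono] at F3
    rw [Iso.inv_comp_eq, ← Category.assoc, Iso.eq_comp_inv] at F3
    rw [Proj.basicOpenIsoSpec_hom, Proj.basicOpenIsoSpec_hom] at F3
    exact F3
  have E3 := congrArg Scheme.Hom.appTop E2
  rw [Scheme.Hom.comp_appTop, Scheme.Hom.comp_appTop] at E3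
  have h1 : (Proj.basicOpenToSpec ℬ g).appTop = _ := Proj.basicOpenToSpec_app_top ℬ g
  have h2 : (Proj.basicOpenToSpec 𝒜 (φ g)).appTop = _ := Proj.basicOpenToSpec_app_top 𝒜 (φ g)
  have h3 : ((glued hdeg hd).resLE (Proj.basicOpen ℬ g) (Proj.basicOpen 𝒜 (φ g))
      (hleV hdeg hd hφ g)).appTop = _ := Scheme.Hom.resLE_app_top _ _
  rw [h1, h2, h3] at E3
  simp only [Category.assoc, Iso.inv_hom_id_assoc, Scheme.ΓSpecIso_naturality_assoc] at E3
  rw [cancel_epi] at E3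
  rw [← Category.assoc, ← Category.assoc (CommRingCat.ofHom _), cancel_mono] at E3
  exact E3

/-- the chart formula: `Φ^♯ (b / g^k) = φ b / (φ g)^k` -/
theorem appLE_glued_fracO {n : ℕ} {g : B} (hn : 0 < n) (hg : g ∈ ℬ n) (k : ℕ) (b : B)
    (hb : b ∈ ℬ (k • n)) :
    ((glued hdeg hd).appLE (Proj.basicOpen ℬ g) (Proj.basicOpen 𝒜 (φ g))
      (hleV hdeg hd hφ g)).hom (fracO ℬ hg k b hb) =
      fracO 𝒜 (map_mem hdeg hg) k (φ b) (map_mem_smul hdeg hb) := by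
  have h1 := awayToSection_comp_appLE_glued hdeg hd hφ hn hg
  have h2 := ConcreteCategory.congr_hom h1 (Away.mk ℬ hg k b hb)
  refine h2.trans ?_
  show (Proj.awayToSection 𝒜 (φ g)).hom (theta hdeg hg (Away.mk ℬ hg k b hb)) = _
  rw [theta_mk]
  rfl

include hφ in
theorem map_nin (x : Proj 𝒜) {s : B}
    (hs : s ∉ ((glued hdeg hd) x).asHomogeneousIdeal.toIdeal) :
    φ s ∉ (x : ProjectiveSpectrum 𝒜).asHomogeneousIdeal.toIdeal := by
  intro h
  apply hs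
  rw [glued_asIdeal hdeg hd hφ x]
  exact h

/-- the map of local rings `B_{Φ x} → A_x` induced by `φ` -/
noncomputable def locO (x : Proj 𝒜) :
    GrTwist.Loc ℬ ((glued hdeg hd) x) →+* GrTwist.Loc 𝒜 (x : ProjectiveSpectrum 𝒜) :=
  Localization.localRingHom _ _ φ.toRingHom (glued_asIdeal hdeg hd hφ x)

theorem locO_mk (x : Proj 𝒜) (b : B)
    (s : ((glued hdeg hd) x).asHomogeneousIdeal.toIdeal.primeCompl) :
    locO hdeg hd hφ x (Localization.mk b s) =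
      Localization.mk (φ b) ⟨φ (s : B), map_nin hdeg hd hφ x s.2⟩ := by
  rw [Localization.mk_eq_mk', Localization.mk_eq_mk']
  exact Localization.localRingHom_mk' _ _ _ _ b s

/-- pointwise description of the sheaf component of the Veronese morphism -/
theorem valO_glued_app (U : (Proj ℬ).Opens) (r : Γ(Proj ℬ, U))
    (x : ((glued hdeg hd) ⁻¹ᵁ U : (Proj 𝒜).Opens)) :
    valO 𝒜 (((glued hdeg hd).app U).hom r) x =
      locO hdeg hd hφ x.1 (valO ℬ r ⟨(glued hdeg hd) x.1, x.2⟩) := by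
  obtain ⟨m, g, hm, hg, hxg, hgU⟩ := exists_homog_basicOpen ℬ U ((glued hdeg hd) x.1) x.2
  obtain ⟨k, b, hb, hr'⟩ := exists_eq_fracO ℬ hm hg (rX hgU r)
  have hxV : x.1 ∈ Proj.basicOpen 𝒜 (φ g) := by
    rw [← glued_preimage_basicOpen hdeg hd hφ g]
    exact hxg
  have e' : Proj.basicOpen 𝒜 (φ g) ≤ (glued hdeg hd) ⁻¹ᵁ U :=
    (hleV hdeg hd hφ g).trans (fun z hz => hgU hz)
  have h1 : ((glued hdeg hd).appLE (Proj.basicOpen ℬ g) (Proj.basicOpen 𝒜 (φ g))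
      (hleV hdeg hd hφ g)).hom (rX hgU r) = rX e' (((glued hdeg hd).app U).hom r) := by
    have := Scheme.Hom.map_appLE (glued hdeg hd) (hleV hdeg hd hφ g) (homOfLE hgU).op
    have h2 := ConcreteCategory.congr_hom this r
    refine h2.trans ?_
    rfl
  have h3 : valO 𝒜 (((glued hdeg hd).app U).hom r) x =
      valO 𝒜 (rX e' (((glued hdeg hd).app U).hom r)) ⟨x.1, hxV⟩ := rfl
  have h4 : valO ℬ r ⟨(glued hdeg hd) x.1, x.2⟩ =
      valO ℬ (rX hgU r) ⟨(glued hdeg hd) x.1, hxg⟩ := rfl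
  rw [h3, h4, ← h1, hr', appLE_glued_fracO hdeg hd hφ hm hg, valO_fracO, valO_fracO, locO_mk]
  congr 1
  apply Subtype.ext
  exact (map_pow φ g k).symm

end Chart

section ModComap
variable {R A B : Type u} [CommRing R] [CommRing A] [Algebra R A] {𝒜 : ℕ → Submodule R A}
  [GradedAlgebra 𝒜] [CommRing B] [Algebra R B] {ℬ : ℕ → Submodule R B} [GradedAlgebra ℬ]
  {d : ℕ} {φ : B →ₐ[R] A} (hdeg : HDeg 𝒜 ℬ d φ) (hd : 0 < d) (hφ : Function.Injective φ)
  {M : Type u} [AddCommGroup M] [Module R M] [Module A M] {ℳ : ℕ → Submodule R M}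
  [SetLike.GradedSMul 𝒜 ℳ]
  {N : Type u} [AddCommGroup N] [Module R N] [Module B N] {𝒩 : ℕ → Submodule R N}
  [SetLike.GradedSMul ℬ 𝒩]
  (v : N →ₛₗ[φ.toRingHom] M) (hv : ∀ (i : ℕ) (t : N), t ∈ 𝒩 i → v t ∈ ℳ (i * d))

/-- value `v t / φ s` on a representative -/
noncomputable def locModFunV (x : Proj 𝒜)
    (q : N × ((glued hdeg hd) x).asHomogeneousIdeal.toIdeal.primeCompl) :
    GrMod.LocMod 𝒜 (M := M) (x : ProjectiveSpectrum 𝒜) :=
  LocalizedModule.mk (v q.1) ⟨φ (q.2 : B), map_nin hdeg hd hφ x q.2.2⟩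

theorem locModFunV_wd (x : Proj 𝒜)
    (q q' : N × ((glued hdeg hd) x).asHomogeneousIdeal.toIdeal.primeCompl) (h : q ≈ q') :
    locModFunV hdeg hd hφ v x q = locModFunV hdeg hd hφ v x q' := by
  obtain ⟨t, s⟩ := q
  obtain ⟨t', s'⟩ := q'
  obtain ⟨w, hw⟩ := h
  refine LocalizedModule.mk_eq.mpr ⟨⟨φ (w : B), map_nin hdeg hd hφ x w.2⟩, ?_⟩
  have hw' := congrArg v hw
  simp only [Submonoid.smul_def, LinearMap.map_smulₛₗ] at hw' ⊢
  exact hw'

/-- the induced map of localized modules `N_{Φ x} → M_x`, `t / s ↦ v t / φ s` -/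
noncomputable def locModMapV (x : Proj 𝒜) :
    GrMod.LocMod ℬ (M := N) ((glued hdeg hd) x) →+
      GrMod.LocMod 𝒜 (M := M) (x : ProjectiveSpectrum 𝒜) where
  toFun q := q.liftOn (locModFunV hdeg hd hφ v x) (locModFunV_wd hdeg hd hφ v x)
  map_zero' := by
    rw [← LocalizedModule.zero_mk 1, LocalizedModule.liftOn_mk]
    change LocalizedModule.mk (v 0) _ = 0
    rw [map_zero, LocalizedModule.zero_mk]
  map_add' q q' := by
    induction q using LocalizedModule.induction_on with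
    | h m s =>
      induction q' using LocalizedModule.induction_on with
      | h m' s' =>
        rw [LocalizedModule.mk_add_mk, LocalizedModule.liftOn_mk, LocalizedModule.liftOn_mk,
          LocalizedModule.liftOn_mk]
        change LocalizedModule.mk (v (s' • m + s • m')) _ =
          LocalizedModule.mk (v m) _ + LocalizedModule.mk (v m') _
        rw [LocalizedModule.mk_add_mk]
        simp only [map_add, Submonoid.smul_def, LinearMap.map_smulₛₗ]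
        congr 1
        exact Subtype.ext (by simp [map_mul])

@[simp] theorem locModMapV_mk (x : Proj 𝒜) (t : N)
    (s : ((glued hdeg hd) x).asHomogeneousIdeal.toIdeal.primeCompl) :
    locModMapV hdeg hd hφ v x (LocalizedModule.mk t s) =
      LocalizedModule.mk (v t) ⟨φ (s : B), map_nin hdeg hd hφ x s.2⟩ := rfl

theorem locModMapV_smul (x : Proj 𝒜) (r : GrTwist.Loc ℬ ((glued hdeg hd) x))
    (q : GrMod.LocMod ℬ (M := N) ((glued hdeg hd) x)) :
    locModMapV hdeg hd hφ v x (r • q) = locO hdeg hd hφ x r • locModMapV hdeg hd hφ v x q := by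
  induction q using LocalizedModule.induction_on with
  | h m s =>
    induction r using Localization.induction_on with
    | H p =>
      obtain ⟨a, t⟩ := p
      rw [LocalizedModule.mk_smul_mk, locModMapV_mk, locModMapV_mk, locO_mk,
        LocalizedModule.mk_smul_mk, LinearMap.map_smulₛₗ]
      congr 1
      exact Subtype.ext (by simp [map_mul])

theorem exists_a0 (x : Proj 𝒜) (c : GrTwist.A0 ℬ ((glued hdeg hd) x)) :
    ∃ c' : GrTwist.A0 𝒜 (x : ProjectiveSpectrum 𝒜), c'.val = locO hdeg hd hφ x c.val := by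
  obtain ⟨⟨i, a, s, hs⟩, rfl⟩ := HomogeneousLocalization.mk_surjective c
  refine ⟨HomogeneousLocalization.mk ⟨i * d, ⟨φ a, map_mem hdeg a.2⟩, ⟨φ s, map_mem hdeg s.2⟩,
    map_nin hdeg hd hφ x hs⟩, ?_⟩
  rw [HomogeneousLocalization.val_mk, HomogeneousLocalization.val_mk, locO_mk]

include hv in
theorem locModMapV_mem (n : ℤ) (x : Proj 𝒜) {q : GrMod.LocMod ℬ (M := N) ((glued hdeg hd) x)}
    (hq : q ∈ GrMod.tildeAt ℬ 𝒩 n ((glued hdeg hd) x)) :
    locModMapV hdeg hd hφ v x q ∈ GrMod.tildeAt 𝒜 ℳ (n * d) (x : ProjectiveSpectrum 𝒜) := by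
  induction hq using Submodule.span_induction with
  | mem q h =>
    obtain ⟨i, j, t, s, hs, hij, rfl⟩ := h
    rw [locModMapV_mk]
    refine Submodule.subset_span ⟨i * d, j * d, ⟨v t, hv i t t.2⟩, ⟨φ s, map_mem hdeg s.2⟩,
      map_nin hdeg hd hφ x hs, ?_, rfl⟩
    push_cast
    rw [hij]
    ring
  | zero => rw [map_zero]; exact zero_mem _
  | add q q' _ _ h h' => rw [map_add]; exact add_mem h h'
  | smul c q _ h =>
    rw [GrMod.a0_smul_def, locModMapV_smul]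
    obtain ⟨c', hc'⟩ := exists_a0 hdeg hd hφ x c
    rw [← hc', ← GrMod.a0_smul_def]
    exact Submodule.smul_mem _ _ h

section comap
variable (n : ℤ) (U : Opens (ProjectiveSpectrum.top ℬ)) (V : Opens (ProjectiveSpectrum.top 𝒜))
  (hUV : ∀ x : V, (glued hdeg hd) (x.1 : Proj 𝒜) ∈ U)

/-- `x ↦ v_x (s (Φ x))` -/
noncomputable def comapFunV (s : ∀ y : U, GrMod.tildeAt ℬ 𝒩 n y.1) (x : V) :
    GrMod.tildeAt 𝒜 ℳ (n * d) x.1 :=
  ⟨locModMapV hdeg hd hφ v (x.1 : Proj 𝒜) (s ⟨(glued hdeg hd) (x.1 : Proj 𝒜), hUV x⟩).1,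
    locModMapV_mem hdeg hd hφ v hv n (x.1 : Proj 𝒜) (s ⟨(glued hdeg hd) (x.1 : Proj 𝒜), hUV x⟩).2⟩

@[simp] theorem comapFunV_coe (s : ∀ y : U, GrMod.tildeAt ℬ 𝒩 n y.1) (x : V) :
    ((comapFunV hdeg hd hφ v hv n U V hUV s x : GrMod.tildeAt 𝒜 ℳ (n * d) x.1) :
      GrMod.LocMod 𝒜 (M := M) x.1) =
      locModMapV hdeg hd hφ v (x.1 : Proj 𝒜)
        (s ⟨(glued hdeg hd) (x.1 : Proj 𝒜), hUV x⟩).1 := rfl

theorem isLocFrac_comapFunV (s : ∀ y : U, GrMod.tildeAt ℬ 𝒩 n y.1)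
    (hs : (GrMod.isLocFrac ℬ 𝒩 n).pred s) :
    (GrMod.isLocFrac 𝒜 ℳ (n * d)).pred (comapFunV hdeg hd hφ v hv n U V hUV s) := by
  rintro ⟨x, hxV⟩
  rcases hs ⟨(glued hdeg hd) (x : Proj 𝒜), hUV ⟨x, hxV⟩⟩ with
    ⟨W, m, iWU, i, j, a, b, hb, hij, h_frac⟩
  refine ⟨((glued hdeg hd) ⁻¹ᵁ W : (Proj 𝒜).Opens) ⊓ V, ⟨m, hxV⟩, Opens.infLERight _ _,
    i * d, j * d, ⟨v (a : N), hv i a a.2⟩, ⟨φ (b : B), map_mem hdeg b.2⟩,
    fun z => map_nin hdeg hd hφ (z.1 : Proj 𝒜) (hb ⟨_, z.2.1⟩), ?_, fun z => ?_⟩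
  · rcases hij with hij | h
    · left
      push_cast
      rw [hij]
      ring
    · exact Or.inr (show v (a : N) = 0 by rw [h, map_zero])
  · exact (congrArg (locModMapV hdeg hd hφ v (z.1 : Proj 𝒜)) (h_frac ⟨_, z.2.1⟩)).trans
      (locModMapV_mk hdeg hd hφ v _ _ _)

/-- the map on sections -/
noncomputable def comapAppV : GrMod.sect ℬ 𝒩 n (op U) →+ GrMod.sect 𝒜 ℳ (n * d) (op V) where
  toFun s := ⟨comapFunV hdeg hd hφ v hv n U V hUV s.1,
    isLocFrac_comapFunV hdeg hd hφ v hv n U V hUV s.1 s.2⟩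
  map_zero' := by
    refine Subtype.ext (funext fun y => Subtype.ext ?_)
    rw [comapFunV_coe]
    simp only [ZeroMemClass.coe_zero, Pi.zero_apply, map_zero]
  map_add' s t := by
    refine Subtype.ext (funext fun y => Subtype.ext ?_)
    rw [comapFunV_coe]
    simp only [AddMemClass.coe_add, Pi.add_apply, map_add, comapFunV_coe]

@[simp] theorem comapAppV_apply_coe (s : GrMod.sect ℬ 𝒩 n (op U)) (x : V) :
    (((comapAppV hdeg hd hφ v hv n U V hUV s : GrMod.sect 𝒜 ℳ (n * d) (op V)).1 x :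
      GrMod.tildeAt 𝒜 ℳ (n * d) x.1) : GrMod.LocMod 𝒜 (M := M) x.1) =
      locModMapV hdeg hd hφ v (x.1 : Proj 𝒜)
        (s.1 ⟨(glued hdeg hd) (x.1 : Proj 𝒜), hUV x⟩).1 := rfl

theorem comapAppV_smul (r : GrTwist.O (𝒜 := ℬ) (op U)) (r' : GrTwist.O (𝒜 := 𝒜) (op V))
    (hr : ∀ x : V, (r'.1 x).val = locO hdeg hd hφ (x.1 : Proj 𝒜)
      (r.1 ⟨(glued hdeg hd) (x.1 : Proj 𝒜), hUV x⟩).val)
    (s : GrMod.sect ℬ 𝒩 n (op U)) :
    comapAppV hdeg hd hφ v hv n U V hUV (r • s) =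
      r' • comapAppV hdeg hd hφ v hv n U V hUV s := by
  refine Subtype.ext (funext fun x => Subtype.ext ?_)
  have h1 : ∀ y : U, (((r • s : GrMod.sect ℬ 𝒩 n (op U)).1 y : GrMod.tildeAt ℬ 𝒩 n y.1) :
      GrMod.LocMod ℬ (M := N) y.1) =
      (r.1 y).val • ((s.1 y : GrMod.tildeAt ℬ 𝒩 n y.1) : GrMod.LocMod ℬ (M := N) y.1) :=
    fun y => GrMod.coe_smul_val n y.1 (r.1 y) (s.1 y)
  have h2 : ∀ x : V, (((r' • comapAppV hdeg hd hφ v hv n U V hUV s :
      GrMod.sect 𝒜 ℳ (n * d) (op V)).1 x : GrMod.tildeAt 𝒜 ℳ (n * d) x.1) :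
      GrMod.LocMod 𝒜 (M := M) x.1) =
      (r'.1 x).val • (((comapAppV hdeg hd hφ v hv n U V hUV s).1 x :
        GrMod.tildeAt 𝒜 ℳ (n * d) x.1) : GrMod.LocMod 𝒜 (M := M) x.1) :=
    fun x => GrMod.coe_smul_val (n * d) x.1 _ _
  refine (congrArg (locModMapV hdeg hd hφ v (x.1 : Proj 𝒜)) (h1 ⟨_, hUV x⟩)).trans ?_
  refine (locModMapV_smul hdeg hd hφ v (x.1 : Proj 𝒜) _ _).trans ?_
  refine Eq.trans ?_ (h2 x).symm
  rw [hr x]
  rfl

end comap

/-- the canonical morphism `N(n)~ ⟶ Φ_* (M(nd)~)` over the Veronese morphism `Φ : Proj 𝒜 ⟶ Proj ℬ`,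
`t / g ↦ v t / φ g` -/
noncomputable def vcomap (n : ℤ) : GrMod.tilde ℬ 𝒩 n ⟶
    (Scheme.Modules.pushforward (glued hdeg hd)).obj (GrMod.tilde 𝒜 ℳ (n * d)) :=
  ⟨PresheafOfModules.homMk
    { app := fun U => AddCommGrpCat.ofHom (comapAppV hdeg hd hφ v hv n U.unop
        ((glued hdeg hd) ⁻¹ᵁ U.unop) (fun x => x.2))
      naturality := fun _ _ _ => rfl }
    fun U r s => comapAppV_smul hdeg hd hφ v hv n U.unop ((glued hdeg hd) ⁻¹ᵁ U.unop)
      (fun x => x.2) r _ (fun x => valO_glued_app hdeg hd hφ U.unop r x) s⟩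

theorem vcomap_app_val (n : ℤ) (U : (Proj ℬ).Opens) (s : Γ(GrMod.tilde ℬ 𝒩 n, U))
    (x : ((glued hdeg hd) ⁻¹ᵁ U : (Proj 𝒜).Opens)) :
    GrMod.val (((vcomap hdeg hd hφ v hv n).app U) s) x =
      locModMapV hdeg hd hφ v x.1 (GrMod.val s ⟨(glued hdeg hd) x.1, x.2⟩) := rfl

section Iso
variable [DirectSum.Decomposition ℳ] [DirectSum.Decomposition 𝒩]

omit [DirectSum.Decomposition ℳ] [DirectSum.Decomposition 𝒩] in
theorem hi_aux {n : ℤ} {m k i : ℕ} (hi : (i : ℤ) = ((k • m : ℕ) : ℤ) + n) :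
    ((i * d : ℕ) : ℤ) = ((k • (m * d) : ℕ) : ℤ) + n * d := by
  push_cast [smul_eq_mul] at hi ⊢
  rw [hi]
  ring

omit [DirectSum.Decomposition ℳ] [DirectSum.Decomposition 𝒩] in
theorem thetaUV_vcomap_fracSecM (n : ℤ) {m : ℕ} {g : B} (hg : g ∈ ℬ m) (k i : ℕ) (t : N)
    (ht : t ∈ 𝒩 i) (hi : (i : ℤ) = ((k • m : ℕ) : ℤ) + n) :
    thetaUV (glued hdeg hd) (vcomap hdeg hd hφ v hv n) (hleV hdeg hd hφ g)
      (fracSecM ℬ 𝒩 hg n k i t ht hi) =
      fracSecM 𝒜 ℳ (map_mem hdeg hg) (n * d) k (i * d) (v t) (hv i t ht) (hi_aux hi) := by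
  apply Groth.Agent.GrTi.ext_val
  intro y
  rw [val_fracSecM]
  show locModMapV hdeg hd hφ v y.1 (GrMod.val (fracSecM ℬ 𝒩 hg n k i t ht hi)
    ⟨(glued hdeg hd) y.1, hleV hdeg hd hφ g y.2⟩) = _
  rw [val_fracSecM, locModMapV_mk]
  congr 1
  apply Subtype.ext
  exact map_pow φ g k

omit [DirectSum.Decomposition ℳ] [DirectSum.Decomposition 𝒩] in
theorem appLE_glued_bijective {m : ℕ} {g : B} (hm : 0 < m) (hg : g ∈ ℬ m) :
    Function.Bijective ((glued hdeg hd).appLE (Proj.basicOpen ℬ g) (Proj.basicOpen 𝒜 (φ g))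
      (hleV hdeg hd hφ g)).hom := by
  haveI i1 : IsIso (Proj.awayToSection ℬ g) := by
    have := (Proj.basicOpenIsoAway ℬ g hg hm).isIso_hom
    rwa [Proj.basicOpenIsoAway_hom] at this
  haveI i2 : IsIso (Proj.awayToSection 𝒜 (φ g)) := by
    have := (Proj.basicOpenIsoAway 𝒜 (φ g) (map_mem hdeg hg) (Nat.mul_pos hm hd)).isIso_hom
    rwa [Proj.basicOpenIsoAway_hom] at this
  haveI i3 : IsIso (CommRingCat.ofHom (theta hdeg hg)) :=
    (ConcreteCategory.isIso_iff_bijective _).mpr (theta_bijective hdeg hg hφ)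
  have e := awayToSection_comp_appLE_glued hdeg hd hφ hm hg
  have e' : (glued hdeg hd).appLE (Proj.basicOpen ℬ g) (Proj.basicOpen 𝒜 (φ g))
      (hleV hdeg hd hφ g) = inv (Proj.awayToSection ℬ g) ≫
        CommRingCat.ofHom (theta hdeg hg) ≫ Proj.awayToSection 𝒜 (φ g) := by
    rw [← e, IsIso.inv_hom_id_assoc]
  rw [e']
  exact ConcreteCategory.bijective_of_isIso _

theorem thetaUV_vcomap_bijective (hvi : Function.Injective v)
    (hvdeg : ∀ i : ℕ, (𝒩 i : Set N).image v = (ℳ (i * d) : Set M))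
    (n : ℤ) {m : ℕ} {g : B} (hm : 0 < m) (hg : g ∈ ℬ m) :
    Function.Bijective (thetaUV (glued hdeg hd) (vcomap hdeg hd hφ v hv n)
      (hleV hdeg hd hφ g)) := by
  constructor
  · rw [injective_iff_map_eq_zero]
    intro s hs
    obtain ⟨k, i, t, ht, hi, rfl⟩ := exists_eq_fracSecM ℬ 𝒩 n hm hg s
    rw [thetaUV_vcomap_fracSecM, fracSecM_eq_zero_iff 𝒜 ℳ (n * d) (Nat.mul_pos hm hd)] at hs
    obtain ⟨K, hK⟩ := hs
    rw [fracSecM_eq_zero_iff ℬ 𝒩 n hm hg]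
    refine ⟨K, hvi ?_⟩
    rw [map_zero, LinearMap.map_smulₛₗ]
    show φ (g ^ K) • v t = 0
    rw [map_pow]
    exact hK
  · intro s'
    obtain ⟨k, j, m', hm', hj, rfl⟩ :=
      exists_eq_fracSecM 𝒜 ℳ (n * d) (Nat.mul_pos hm hd) (map_mem hdeg hg) s'
    have hnn : (0 : ℤ) ≤ (k : ℤ) * m + n := by
      have h1 : (0 : ℤ) ≤ ((k : ℤ) * m + n) * d := by
        have : ((k : ℤ) * m + n) * d = j := by
          push_cast [smul_eq_mul] at hj
          rw [hj]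
          ring
        rw [this]
        exact Int.natCast_nonneg j
      exact nonneg_of_mul_nonneg_left h1 (by exact_mod_cast hd)
    obtain ⟨i, hi0⟩ := Int.eq_ofNat_of_zero_le hnn
    have hji : j = i * d := by
      have : (j : ℤ) = ((i * d : ℕ) : ℤ) := by
        push_cast [smul_eq_mul] at hj ⊢
        rw [hj, ← hi0]
        ring
      exact_mod_cast this
    have hi : (i : ℤ) = ((k • m : ℕ) : ℤ) + n := by
      push_cast [smul_eq_mul]
      exact hi0.symm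
    have hm'' : m' ∈ (ℳ (i * d) : Set M) := by
      rw [← hji]
      exact hm'
    rw [← hvdeg i] at hm''
    obtain ⟨t, ht, rfl⟩ := hm''
    refine ⟨fracSecM ℬ 𝒩 hg n k i t ht hi, ?_⟩
    rw [thetaUV_vcomap_fracSecM]
    exact fs_congr 𝒜 ℳ (map_mem hdeg hg) (n * d) _ _ _ _ rfl hji.symm rfl

/-- the adjoint `Φ^* (N(n)~) ⟶ M(nd)~` of `vcomap` is an isomorphism (Veronese) -/
theorem isIso_adj_vcomap (hvi : Function.Injective v)
    (hvdeg : ∀ i : ℕ, (𝒩 i : Set N).image v = (ℳ (i * d) : Set M)) (n : ℤ) :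
    IsIso (adj (glued hdeg hd) (vcomap hdeg hd hφ v hv n)) := by
  haveI := isQuasicoherent_tilde ℬ 𝒩 n
  haveI := isQuasicoherent_tilde 𝒜 ℳ (n * d)
  apply isIso_adj
  intro x
  obtain ⟨j, hj⟩ := exists_idx hdeg hd x
  refine ⟨Proj.basicOpen 𝒜 (φ j.g),
    Proj.isAffineOpen_basicOpen 𝒜 (φ j.g) (map_mem hdeg j.hg) (Nat.mul_pos j.hn hd), hj, ?_⟩
  exact bijective_adj_app_of_bijective _ _ (hleV hdeg hd hφ j.g)
    (Proj.isAffineOpen_basicOpen ℬ j.g j.hg j.hn)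
    (Proj.isAffineOpen_basicOpen 𝒜 (φ j.g) (map_mem hdeg j.hg) (Nat.mul_pos j.hn hd))
    (appLE_glued_bijective hdeg hd hφ j.hn j.hg)
    (thetaUV_vcomap_bijective hdeg hd hφ v hv hvi hvdeg n j.hn j.hg)

end Iso

end ModComap

section Main
variable {R A : Type u} [CommRing R] [CommRing A] [Algebra R A] (𝒜 : ℕ → Submodule R A)
  [GradedAlgebra 𝒜] {B : Type u} [CommRing B] [Algebra R B] (ℬ : ℕ → Submodule R B)
  [GradedAlgebra ℬ] (d : ℕ) (hd : 0 < d) (φ : B →ₐ[R] A) (hφ : Function.Injective φ)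
  (hdeg : ∀ n : ℕ, Submodule.map φ.toLinearMap (ℬ n) = 𝒜 (n * d))

/-- an isomorphism with the chart property of the Veronese isomorphism is `glued` -/
theorem eq_glued (e : Proj 𝒜 ≅ Proj ℬ)
    (he : ∀ (n : ℕ) (g : B) (hn : 0 < n) (hg : g ∈ ℬ n)
        (θ : CommRingCat.of (HomogeneousLocalization.Away ℬ g) ⟶
          CommRingCat.of (HomogeneousLocalization.Away 𝒜 (φ g))),
        (algebraMap (HomogeneousLocalization.Away 𝒜 (φ g)) (Localization.Away (φ g))).comp θ.hom =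
          (Localization.awayMap φ.toRingHom g).comp
            (algebraMap (HomogeneousLocalization.Away ℬ g) (Localization.Away g)) →
        Proj.awayι 𝒜 (φ g) ((hdeg n).le (Submodule.mem_map_of_mem hg)) (Nat.mul_pos hn hd) ≫ e.hom =
          Spec.map θ ≫ Proj.awayι ℬ g hg hn) :
    e.hom = glued (show HDeg 𝒜 ℬ d φ from hdeg) hd := by
  have hdeg' : HDeg 𝒜 ℬ d φ := hdeg
  apply (cover hdeg' hd).openCover.hom_ext
  intro j
  show Proj.awayι 𝒜 (φ j.g) (map_mem hdeg' j.hg) (Nat.mul_pos j.hn hd) ≫ e.hom =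
    Proj.awayι 𝒜 (φ j.g) (map_mem hdeg' j.hg) (Nat.mul_pos j.hn hd) ≫ glued hdeg' hd
  rw [awayι_glued]
  apply he j.n j.g j.hn j.hg (CommRingCat.ofHom (theta hdeg' j.hg))
  ext x : 1
  simp only [RingHom.comp_apply, HomogeneousLocalization.algebraMap_apply]
  exact val_theta hdeg' j.hg x

/-- `φ` as a `φ`-semilinear map -/
def phiSL : B →ₛₗ[φ.toRingHom] A where
  toFun := φ
  map_add' := map_add φ
  map_smul' a x := by
    show φ (a * x) = φ a * φ x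
    exact map_mul φ a x

include hφ in
/-- Veronese: `M~ ≅ i^*(M^{(d)}~)` (S9579) -/
theorem main9579 (e : Proj 𝒜 ≅ Proj ℬ)
    (he : ∀ (n : ℕ) (g : B) (hn : 0 < n) (hg : g ∈ ℬ n)
        (θ : CommRingCat.of (HomogeneousLocalization.Away ℬ g) ⟶
          CommRingCat.of (HomogeneousLocalization.Away 𝒜 (φ g))),
        (algebraMap (HomogeneousLocalization.Away 𝒜 (φ g)) (Localization.Away (φ g))).comp θ.hom =
          (Localization.awayMap φ.toRingHom g).comp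
            (algebraMap (HomogeneousLocalization.Away ℬ g) (Localization.Away g)) →
        Proj.awayι 𝒜 (φ g) ((hdeg n).le (Submodule.mem_map_of_mem hg)) (Nat.mul_pos hn hd) ≫ e.hom =
          Spec.map θ ≫ Proj.awayι ℬ g hg hn)
    {M : Type u} [AddCommGroup M] [Module R M] [Module A M]
    (ℳ : ℕ → Submodule R M) [DirectSum.Decomposition ℳ] [SetLike.GradedSMul 𝒜 ℳ]
    {N : Type u} [AddCommGroup N] [Module R N] [Module B N]
    (𝒩 : ℕ → Submodule R N) [DirectSum.Decomposition 𝒩] [SetLike.GradedSMul ℬ 𝒩]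
    (v : N →ₛₗ[φ.toRingHom] M) (hv : Function.Injective v)
    (hvdeg : ∀ n : ℕ, (𝒩 n : Set N).image v = (ℳ (n * d) : Set M)) (n : ℤ) :
    Nonempty (GrMod.tilde 𝒜 ℳ (n * d) ≅
      (Scheme.Modules.pullback e.hom).obj (GrMod.tilde ℬ 𝒩 n)) := by
  have hdeg' : HDeg 𝒜 ℬ d φ := hdeg
  rw [eq_glued 𝒜 ℬ d hd φ hdeg e he]
  have hv' : ∀ (i : ℕ) (t : N), t ∈ 𝒩 i → v t ∈ ℳ (i * d) := fun i t ht =>
    (hvdeg i).le ⟨t, ht, rfl⟩
  haveI := isIso_adj_vcomap hdeg' hd hφ v hv' hv hvdeg n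
  exact ⟨(asIso (adj (glued hdeg' hd) (vcomap hdeg' hd hφ v hv' n))).symm⟩

include hφ in
/-- Veronese: `O_{Proj S}(nd) ≅ i^* O_{Proj S^{(d)}}(n)` (S9577) -/
theorem main9577 (e : Proj 𝒜 ≅ Proj ℬ)
    (he : ∀ (n : ℕ) (g : B) (hn : 0 < n) (hg : g ∈ ℬ n)
        (θ : CommRingCat.of (HomogeneousLocalization.Away ℬ g) ⟶
          CommRingCat.of (HomogeneousLocalization.Away 𝒜 (φ g))),
        (algebraMap (HomogeneousLocalization.Away 𝒜 (φ g)) (Localization.Away (φ g))).comp θ.hom =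
          (Localization.awayMap φ.toRingHom g).comp
            (algebraMap (HomogeneousLocalization.Away ℬ g) (Localization.Away g)) →
        Proj.awayι 𝒜 (φ g) ((hdeg n).le (Submodule.mem_map_of_mem hg)) (Nat.mul_pos hn hd) ≫ e.hom =
          Spec.map θ ≫ Proj.awayι ℬ g hg hn)
    (n : ℤ) :
    Nonempty (Twist.twist 𝒜 (n * d) ≅ (Scheme.Modules.pullback e.hom).obj (Twist.twist ℬ n)) := by
  have hvdeg : ∀ i : ℕ, ((ℬ i : Set B)).image (phiSL φ) = (𝒜 (i * d) : Set A) := by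
    intro i
    rw [← hdeg i]
    rfl
  obtain ⟨i1⟩ := main9579 𝒜 ℬ d hd φ hφ hdeg e he 𝒜 ℬ (phiSL φ) hφ hvdeg n
  exact ⟨tIso 𝒜 (n * d) ≪≫ i1 ≪≫ ((Scheme.Modules.pullback e.hom).mapIso (tIso ℬ n)).symm⟩

end Main

end Groth.Agent.Lib.VerPullH2
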