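import Mathlib

/-!
# `A`-linear Verdier quotients by torsion objects (helper9)

Let `T` be an `A`-linear triangulated category, `U` a thick subcategory and `Q : T ⥤ E` a
localization at `U.trW`.  We show that the kernel of `Q` is `U`, and, when `U` is the thick
subcategory generated by the cones of `f • 𝟙 X`, `f ∈ S`, that `Hom(QX, QY) = S⁻¹ Hom(X, Y)`.
-/

open CategoryTheory CategoryTheory.Limits CategoryTheory.Pretriangulated ZeroObject

namespace Groth.Agent.Lib.VerdierLin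

universe w v u v' u'

variable {A : Type w} [CommRing A]
  {T : Type u} [Category.{v} T] [Preadditive T] [Linear A T] [HasZeroObject T] [HasShift T ℤ]
  [∀ n : ℤ, (shiftFunctor T n).Additive] [∀ n : ℤ, (shiftFunctor T n).Linear A]
  [Pretriangulated T]

/-! ### Kernel of the Verdier quotient -/

section kernel

variable [IsTriangulated T]
  (U : ObjectProperty T) [U.IsTriangulated] [U.IsClosedUnderIsomorphisms] [U.IsStableUnderRetracts]
  {E : Type u'} [Category.{v'} E] [Preadditive E]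
  (Q : T ⥤ E) [Q.Additive] [Q.IsLocalization U.trW]

include U in
lemma isZero_obj_of_mem (X : T) (hX : U X) : IsZero (Q.obj X) := by
  have h : U.trW (0 : X ⟶ (0 : T)) := by
    rw [ObjectProperty.trW_iff']
    exact ⟨X, 𝟙 X, 0, contractible_distinguished X, hX⟩
  haveI : IsIso (Q.map (0 : X ⟶ (0 : T))) := Localization.inverts Q U.trW _ h
  exact IsZero.of_iso (Q.map_isZero (isZero_zero T)) (asIso (Q.map (0 : X ⟶ (0 : T))))

lemma mem_of_isZero_obj (X : T) (hX : IsZero (Q.obj X)) : U X := by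
  have h : Q.map (𝟙 X) = Q.map (0 : X ⟶ X) := hX.eq_of_src _ _
  rw [MorphismProperty.map_eq_iff_postcomp Q U.trW] at h
  obtain ⟨Z, s, hs, hs'⟩ := h
  rw [Category.id_comp, zero_comp] at hs'
  subst hs'
  rw [ObjectProperty.trW_iff] at hs
  obtain ⟨C, g, h, hT, hC⟩ := hs
  have hz : (Triangle.mk (0 : X ⟶ Z) g h).rotate.mor₃ = 0 := by
    change -(shiftFunctor T (1 : ℤ)).map (0 : X ⟶ Z) = 0
    rw [Functor.map_zero, neg_zero]
  obtain ⟨r, hr⟩ := Triangle.coyoneda_exact₃ _ (rot_of_distTriang _ hT) (𝟙 (X⟦(1 : ℤ)⟧))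
    (by rw [hz, comp_zero])
  have h1 : U (X⟦(1 : ℤ)⟧) := U.prop_of_retract ⟨r, h, hr.symm⟩ hC
  have h2 : U ((X⟦(1 : ℤ)⟧)⟦(-1 : ℤ)⟧) := U.le_shift (-1 : ℤ) _ h1
  exact U.prop_of_iso ((shiftEquiv T (1 : ℤ)).unitIso.app X).symm h2

lemma mem_iff_isZero_obj (X : T) : U X ↔ IsZero (Q.obj X) :=
  ⟨isZero_obj_of_mem U Q X, mem_of_isZero_obj U Q X⟩

end kernel

end Groth.Agent.Lib.VerdierLin
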