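import Mathlib
import Groth.Agent.Lib.VerdierLin_helper9

/-!
# Verdier quotient of an `A`-linear triangulated category by `S`-torsion objects (helper9)

If `U` is the thick subcategory generated by the cones of `f • 𝟙 X`, `f ∈ S`, then every object of
`U` is killed by an element of `S`, and `Hom(QX, QY) = S⁻¹ Hom(X, Y)` for the Verdier quotient `Q`.
-/

open CategoryTheory CategoryTheory.Limits CategoryTheory.Pretriangulated ZeroObject

namespace Groth.Agent.Lib.VerdierTors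

universe w v u v' u'

variable {A : Type w} [CommRing A] (S : Submonoid A)
  {T : Type u} [Category.{v} T] [Preadditive T] [Linear A T] [HasZeroObject T] [HasShift T ℤ]
  [∀ n : ℤ, (shiftFunctor T n).Additive] [∀ n : ℤ, (shiftFunctor T n).Linear A]
  [Pretriangulated T]

omit [HasZeroObject T] [HasShift T ℤ] [∀ n : ℤ, (shiftFunctor T n).Additive]
  [∀ n : ℤ, (shiftFunctor T n).Linear A] [Pretriangulated T] in
lemma smul_eq_comp_smul_id {X Y : T} (s : A) (f : X ⟶ Y) : s • f = f ≫ (s • 𝟙 Y) := by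
  rw [Linear.comp_smul, Category.comp_id]

omit [HasZeroObject T] [HasShift T ℤ] [∀ n : ℤ, (shiftFunctor T n).Additive]
  [∀ n : ℤ, (shiftFunctor T n).Linear A] [Pretriangulated T] in
lemma smul_eq_smul_id_comp {X Y : T} (s : A) (f : X ⟶ Y) : s • f = (s • 𝟙 X) ≫ f := by
  rw [Linear.smul_comp, Category.id_comp]

omit [HasZeroObject T] [HasShift T ℤ] [∀ n : ℤ, (shiftFunctor T n).Additive]
  [∀ n : ℤ, (shiftFunctor T n).Linear A] [Pretriangulated T] in
lemma smul_id_eq_zero_of_retract {X Y : T} (i : Y ⟶ X) (r : X ⟶ Y) (hir : i ≫ r = 𝟙 Y) (s : A)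
    (h : s • 𝟙 X = 0) : s • 𝟙 Y = 0 := by
  have : s • (i ≫ r) = i ≫ (s • 𝟙 X) ≫ r := by
    rw [Linear.smul_comp, Category.id_comp, Linear.comp_smul]
  rw [← hir, this, h, zero_comp, comp_zero]

/-- objects killed by an element of `S` -/
def Utor : ObjectProperty T := fun Z => ∃ s ∈ S, s • 𝟙 Z = 0

instance : (Utor S (T := T)).IsClosedUnderIsomorphisms where
  of_iso {X Y} e h := by
    obtain ⟨s, hs, h0⟩ := h
    exact ⟨s, hs, smul_id_eq_zero_of_retract e.inv e.hom e.inv_hom_id s h0⟩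

instance : (Utor S (T := T)).IsStableUnderRetracts where
  of_retract {X Y} r h := by
    obtain ⟨s, hs, h0⟩ := h
    exact ⟨s, hs, smul_id_eq_zero_of_retract r.i r.r r.retract s h0⟩

instance : (Utor S (T := T)).ContainsZero where
  exists_zero := ⟨0, isZero_zero T, 1, S.one_mem, (isZero_zero T).eq_of_src _ _⟩

instance : (Utor S (T := T)).IsStableUnderShift ℤ where
  isStableUnderShiftBy a :=
    ⟨fun X h => by
      obtain ⟨s, hs, h0⟩ := h
      refine ⟨s, hs, ?_⟩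
      rw [← CategoryTheory.Functor.map_id, ← Functor.map_smul, h0, Functor.map_zero]⟩

/-- if `t` kills `T.obj₃`, then `t • 𝟙 T.obj₂` factors through `T.mor₁` -/
lemma exists_fac_of_smul_obj₃ (Tr : Triangle T) (hT : Tr ∈ distTriang T) (t : A)
    (ht : t • 𝟙 Tr.obj₃ = 0) : ∃ k : Tr.obj₂ ⟶ Tr.obj₁, t • 𝟙 Tr.obj₂ = k ≫ Tr.mor₁ := by
  apply Triangle.coyoneda_exact₂ _ hT
  rw [← smul_eq_smul_id_comp, smul_eq_comp_smul_id, ht, comp_zero]

/-- if `t` kills `T.obj₁`, then `t` kills every morphism to `T.obj₂` which vanishes in `T.obj₃` -/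
lemma smul_eq_zero_of_smul_obj₁ (Tr : Triangle T) (hT : Tr ∈ distTriang T) (t : A)
    (ht : t • 𝟙 Tr.obj₁ = 0) {W : T} (φ : W ⟶ Tr.obj₂) (hφ : φ ≫ Tr.mor₂ = 0) : t • φ = 0 := by
  obtain ⟨ψ, rfl⟩ := Triangle.coyoneda_exact₂ _ hT φ hφ
  rw [← Linear.comp_smul, smul_eq_smul_id_comp, ht, zero_comp, comp_zero]

instance : (Utor S (T := T)).IsTriangulatedClosed₂ :=
  ObjectProperty.IsTriangulatedClosed₂.mk' (fun Tr hT h₁ h₃ => by
    obtain ⟨s, hs, hs0⟩ := h₁
    obtain ⟨t, ht, ht0⟩ := h₃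
    obtain ⟨k, hk⟩ := exists_fac_of_smul_obj₃ Tr hT t ht0
    refine ⟨s * t, S.mul_mem hs ht, ?_⟩
    rw [mul_smul, hk, ← Linear.smul_comp, smul_eq_comp_smul_id, hs0, comp_zero, zero_comp])

instance : (Utor S (T := T)).IsTriangulated where

/-- the cone of `f • 𝟙 X` is killed by `f * f` -/
lemma utor_cone (X : T) (f : A) (hf : f ∈ S) (Z : T) (g : X ⟶ Z) (h : Z ⟶ X⟦(1 : ℤ)⟧)
    (hT : Triangle.mk (f • 𝟙 X) g h ∈ distTriang T) : Utor S Z := by
  refine ⟨f * f, S.mul_mem hf hf, ?_⟩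
  have h1 : g ≫ (f • 𝟙 Z) = 0 := by
    rw [← smul_eq_comp_smul_id, smul_eq_smul_id_comp]
    exact comp_distTriang_mor_zero₁₂ _ hT
  obtain ⟨ψ, hψ⟩ : ∃ ψ : X⟦(1 : ℤ)⟧ ⟶ Z, f • 𝟙 Z = h ≫ ψ :=
    Triangle.yoneda_exact₃ _ hT (f • 𝟙 Z) h1
  have h2 : f • h = 0 := by
    rw [smul_eq_comp_smul_id, ← CategoryTheory.Functor.map_id, ← Functor.map_smul]
    exact comp_distTriang_mor_zero₃₁ _ hT
  rw [mul_smul, hψ, ← Linear.smul_comp, h2, zero_comp]

section main

variable [IsTriangulated T]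
  (U : ObjectProperty T) [U.IsTriangulated] [U.IsClosedUnderIsomorphisms] [U.IsStableUnderRetracts]
  (hU : ∀ (X : T) (f : A), f ∈ S → ∀ (Z : T) (g : X ⟶ Z) (h : Z ⟶ X⟦(1 : ℤ)⟧),
    Triangle.mk (f • 𝟙 X) g h ∈ distTriang T → U Z)
  (hmin : ∀ (U' : ObjectProperty T) [U'.IsTriangulated] [U'.IsClosedUnderIsomorphisms]
    [U'.IsStableUnderRetracts],
    (∀ (X : T) (f : A), f ∈ S → ∀ (Z : T) (g : X ⟶ Z) (h : Z ⟶ X⟦(1 : ℤ)⟧),
      Triangle.mk (f • 𝟙 X) g h ∈ distTriang T → U' Z) → U ≤ U')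
  {E : Type u'} [Category.{v'} E] [Preadditive E] [Linear A E]
  (Q : T ⥤ E) [Q.Additive] [Q.Linear A] [Q.IsLocalization U.trW]

include hmin in
lemma le_utor : U ≤ Utor S := hmin (Utor S) (utor_cone S)

include hU in
lemma isIso_smul_id (s : A) (hs : s ∈ S) (Y : T) : IsIso (s • 𝟙 (Q.obj Y)) := by
  obtain ⟨Z, g, h, hT⟩ := distinguished_cocone_triangle (s • 𝟙 Y)
  have hW : U.trW (s • 𝟙 Y) := ObjectProperty.trW.mk (P := U) hT (hU Y s hs Z g h hT)
  have := Localization.inverts Q U.trW _ hW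
  rwa [Functor.map_smul, CategoryTheory.Functor.map_id] at this

include hU hmin in
theorem isLocalizedModule (X Y : T) :
    IsLocalizedModule S (Q.mapLinearMap A : (X ⟶ Y) →ₗ[A] (Q.obj X ⟶ Q.obj Y)) where
  map_units x := by
    haveI := isIso_smul_id S U hU Q x.1 x.2 Y
    rw [Module.End.isUnit_iff]
    constructor
    · intro φ ψ h
      simp only [Module.algebraMap_end_apply] at h
      rw [smul_eq_comp_smul_id, smul_eq_comp_smul_id ((x : A)) ψ] at h
      exact (cancel_mono _).1 h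
    · intro ψ
      refine ⟨ψ ≫ inv ((x : A) • 𝟙 (Q.obj Y)), ?_⟩
      simp only [Module.algebraMap_end_apply]
      rw [smul_eq_comp_smul_id, Category.assoc, IsIso.inv_hom_id, Category.comp_id]
  surj y := by
    obtain ⟨φ, hφ⟩ := Localization.exists_leftFraction Q U.trW y
    have hs := φ.hs
    rw [ObjectProperty.trW_iff] at hs
    obtain ⟨Z, g, h, hT, hZ⟩ := hs
    obtain ⟨t, ht, ht0⟩ := le_utor S U hmin Z hZ
    obtain ⟨k, hk⟩ : ∃ k : φ.Y' ⟶ Y, t • 𝟙 φ.Y' = k ≫ φ.s :=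
      exists_fac_of_smul_obj₃ _ hT t ht0
    refine ⟨⟨φ.f ≫ k, ⟨t, ht⟩⟩, ?_⟩
    haveI : IsIso (Q.map φ.s) := Localization.inverts Q U.trW _ φ.hs
    have h1 : y ≫ Q.map φ.s = Q.map φ.f := by
      rw [hφ]
      exact φ.map_comp_map_s Q (Localization.inverts Q U.trW)
    change t • y = Q.map (φ.f ≫ k)
    rw [← cancel_mono (Q.map φ.s), Linear.smul_comp, h1, ← Q.map_comp, Category.assoc, ← hk,
      Linear.comp_smul, Category.comp_id, Functor.map_smul]
  exists_of_eq {x₁ x₂} h := by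
    change Q.map x₁ = Q.map x₂ at h
    rw [MorphismProperty.map_eq_iff_postcomp Q U.trW] at h
    obtain ⟨Z, s, hs, hs'⟩ := h
    rw [ObjectProperty.trW_iff] at hs
    obtain ⟨C, g, h, hT, hC⟩ := hs
    obtain ⟨t, ht, ht0⟩ := le_utor S U hmin C hC
    have hT' := inv_rot_of_distTriang _ hT
    have ht1 : t • 𝟙 ((Triangle.mk s g h).invRotate.obj₁) = 0 := by
      change t • 𝟙 ((shiftFunctor T (-1 : ℤ)).obj C) = 0
      rw [← CategoryTheory.Functor.map_id, ← Functor.map_smul, ht0, Functor.map_zero]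
    have this : t • (x₁ - x₂) = (0 : X ⟶ Y) := smul_eq_zero_of_smul_obj₁ _ hT' t ht1 (x₁ - x₂) (by
      change (x₁ - x₂) ≫ s = 0
      rw [Preadditive.sub_comp, hs', sub_self])
    refine ⟨⟨t, ht⟩, ?_⟩
    change t • x₁ = t • x₂
    rwa [smul_sub, sub_eq_zero] at this

end main

end Groth.Agent.Lib.VerdierTors
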