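import Mathlib

/-!
# Alternants at roots of unity and orthogonality on the alcove (helper9)

Elementary tools for the "Verlinde combinatorics" statements: sums over strictly decreasing tuples
versus sums over all tuples, torus orthogonality, alternants `det (ξ ^ (a i * w j))`.
-/

namespace Groth.Agent.Lib.Verlinde

open Finset

section Sorting

variable {r : ℕ} {T : Type*} [LinearOrder T]

/-- A permutation `τ` such that both `u` and `u ∘ τ` are strictly antitone is the identity. -/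
theorem perm_eq_one_of_strictAnti {u : Fin r → T} (hu : StrictAnti u) (τ : Equiv.Perm (Fin r))
    (hτ : StrictAnti (u ∘ τ)) : τ = 1 := by
  have hmono : StrictMono (τ : Fin r → Fin r) := by
    intro i j hij
    have := hτ hij
    simp only [Function.comp_apply] at this
    exact hu.lt_iff_gt.1 this
  have h := (hmono.range_inj (g := id) strictMono_id).1 (by
    rw [Set.range_id, τ.surjective.range_eq])
  ext i
  simp [h]

variable [Fintype T] [DecidableEq T]

/-- Every injective tuple is uniquely of the form `u ∘ σ` with `u` strictly antitone. -/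
theorem sum_injective_eq {M : Type*} [AddCommMonoid M] (g : (Fin r → T) → M) :
    ∑ v ∈ (univ : Finset (Fin r → T)).filter Function.Injective, g v =
      ∑ u ∈ (univ : Finset (Fin r → T)).filter StrictAnti,
        ∑ σ : Equiv.Perm (Fin r), g (u ∘ σ) := by
  classical
  rw [← Finset.sum_product']
  symm
  apply Finset.sum_nbij (fun p => p.1 ∘ p.2)
  · rintro ⟨u, σ⟩ hp
    simp only [mem_product, mem_filter, mem_univ, true_and, and_true] at hp
    simp only [mem_filter, mem_univ, true_and]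
    exact hp.injective.comp σ.injective
  · rintro ⟨u, σ⟩ hp ⟨u', σ'⟩ hp' h
    simp only [coe_product, coe_filter, mem_univ, true_and, Set.mem_prod, Set.mem_ofPred_eq,
      coe_univ, Set.mem_univ, and_true] at hp hp'
    simp only at h
    have h1 : u' = u ∘ (σ * σ'⁻¹) := by
      ext i
      have := congrFun h (σ'⁻¹ i)
      simp only [Function.comp_apply] at this
      rw [show σ' (σ'⁻¹ i) = i from Equiv.apply_symm_apply σ' i] at this
      simp only [Function.comp_apply, Equiv.Perm.coe_mul]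
      exact this.symm
    have h2 : σ * σ'⁻¹ = 1 := perm_eq_one_of_strictAnti hp _ (h1 ▸ hp')
    have h3 : σ = σ' := by
      rw [mul_inv_eq_one] at h2
      exact h2
    subst h3
    have : u = u' := by
      rw [h1, h2]
      rfl
    rw [this]
  · intro v hv
    simp only [coe_filter, mem_univ, true_and, Set.mem_ofPred_eq] at hv
    let s : Equiv.Perm (Fin r) := Tuple.sort (OrderDual.toDual ∘ v)
    have hmon : Monotone ((OrderDual.toDual ∘ v) ∘ s) := Tuple.monotone_sort _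
    have hanti : Antitone (v ∘ s) := fun i j hij => hmon hij
    have hsa : StrictAnti (v ∘ s) := hanti.strictAnti_of_injective (hv.comp s.injective)
    refine ⟨(v ∘ s, s⁻¹), ?_, ?_⟩
    · simp only [coe_product, coe_filter, mem_univ, true_and, coe_univ, Set.mem_prod,
        Set.mem_ofPred_eq, Set.mem_univ, and_true]
      exact hsa
    · ext i
      simp [s]
  · intro p _
    rfl

/-- The number of permutations of `Fin r` fixing a point, times `r`, is `r !`. -/
theorem card_stabilizer_mul (l : Fin r) :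
    r * ((univ : Finset (Equiv.Perm (Fin r))).filter (fun σ => σ l = l)).card = r.factorial := by
  classical
  have h1 : ∀ m : Fin r, ((univ : Finset (Equiv.Perm (Fin r))).filter (fun σ => σ l = m)).card =
      ((univ : Finset (Equiv.Perm (Fin r))).filter (fun σ => σ l = l)).card := by
    intro m
    apply Finset.card_nbij (fun σ => Equiv.swap l m * σ)
    · intro σ hσ
      simp only [coe_filter, mem_univ, true_and, Set.mem_ofPred_eq] at hσ ⊢
      simp [hσ]
    · intro σ _ σ' _ h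
      exact mul_left_cancel h
    · intro σ hσ
      simp only [coe_filter, mem_univ, true_and, Set.mem_ofPred_eq] at hσ
      refine ⟨Equiv.swap l m * σ, ?_, ?_⟩
      · simp only [coe_filter, mem_univ, true_and, Set.mem_ofPred_eq]
        simp [hσ]
      · simp only [← mul_assoc, Equiv.swap_mul_self, one_mul]
  have h2 : (univ : Finset (Equiv.Perm (Fin r))).card =
      ∑ m : Fin r, ((univ : Finset (Equiv.Perm (Fin r))).filter (fun σ => σ l = m)).card :=
    Finset.card_eq_sum_card_fiberwise (fun σ _ => mem_univ (σ l))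
  rw [Finset.card_univ, Fintype.card_perm, Fintype.card_fin] at h2
  rw [h2]
  simp [h1]

/-- number of permutations fixing `l`. -/
def stab (l : Fin r) : ℕ := ((univ : Finset (Equiv.Perm (Fin r))).filter (fun σ => σ l = l)).card

theorem stab_pos (l : Fin r) : 0 < stab l := by
  unfold stab
  apply Finset.card_pos.2
  exact ⟨1, by simp⟩

theorem mul_stab (l : Fin r) : r * stab l = r.factorial := card_stabilizer_mul l

/-- symmetric functions vanishing off injective tuples: all tuples versus sorted tuples. -/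
theorem sum_all_eq {R : Type*} [CommRing R] (f : (Fin r → T) → R)
    (hsymm : ∀ v (σ : Equiv.Perm (Fin r)), f (v ∘ σ) = f v)
    (hzero : ∀ v, ¬ Function.Injective v → f v = 0) :
    ∑ v : Fin r → T, f v =
      (r.factorial : R) * ∑ u ∈ (univ : Finset (Fin r → T)).filter StrictAnti, f u := by
  classical
  have h1 : ∑ v : Fin r → T, f v =
      ∑ v ∈ (univ : Finset (Fin r → T)).filter Function.Injective, f v := by
    symm
    apply Finset.sum_filter_of_ne
    intro v _ hv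
    by_contra h
    exact hv (hzero v h)
  rw [h1, sum_injective_eq, Finset.mul_sum]
  apply Finset.sum_congr rfl
  intro u _
  simp [hsymm, Fintype.card_perm]

/-- the hyperplane `v l = z` (`l` the last index, `z` the least value). -/
theorem sum_hyperplane_eq {R : Type*} [CommRing R] (f : (Fin r → T) → R)
    (hsymm : ∀ v (σ : Equiv.Perm (Fin r)), f (v ∘ σ) = f v)
    (hzero : ∀ v, ¬ Function.Injective v → f v = 0)
    (l : Fin r) (hl : ∀ i, i ≤ l) (z : T) (hz : ∀ x, z ≤ x) :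
    ∑ v ∈ (univ : Finset (Fin r → T)).filter (fun v => v l = z), f v =
      (stab l : R) * ∑ u ∈ (univ : Finset (Fin r → T)).filter (fun u => StrictAnti u ∧ u l = z),
        f u := by
  classical
  have h1 : ∑ v ∈ (univ : Finset (Fin r → T)).filter (fun v => v l = z), f v =
      ∑ v ∈ (univ : Finset (Fin r → T)).filter Function.Injective,
        (if v l = z then f v else 0) := by
    rw [Finset.sum_filter]
    symm
    apply Finset.sum_filter_of_ne
    intro v _ hv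
    by_contra h
    apply hv
    rw [hzero v h]
    simp
  have h2 : (univ : Finset (Fin r → T)).filter (fun u => StrictAnti u ∧ u l = z) =
      ((univ : Finset (Fin r → T)).filter StrictAnti).filter (fun u => u l = z) := by
    rw [Finset.filter_filter]
  rw [h1, sum_injective_eq, Finset.mul_sum, h2]
  conv_rhs => rw [Finset.sum_filter]
  apply Finset.sum_congr rfl
  intro u hu
  simp only [mem_filter, mem_univ, true_and] at hu
  have key : ∀ σ : Equiv.Perm (Fin r), (u ∘ σ) l = z ↔ (σ l = l ∧ u l = z) := by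
    intro σ
    constructor
    · intro h
      simp only [Function.comp_apply] at h
      have h1 : u l ≤ u (σ l) := hu.antitone (hl (σ l))
      have h2 : u l = z := le_antisymm (h ▸ h1) (hz _)
      exact ⟨hu.injective (h.trans h2.symm), h2⟩
    · rintro ⟨h1, h2⟩
      simp [h1, h2]
  simp only [key, hsymm]
  by_cases hul : u l = z
  · simp only [hul, and_true, if_true]
    rw [Finset.sum_ite, Finset.sum_const_zero, add_zero, Finset.sum_const, nsmul_eq_mul]
    rfl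
  · simp [hul]

end Sorting

section Torus

theorem geom_sum_root {N : ℕ} (ξ : ℂ) (h : ξ ^ N = 1) :
    ∑ x : Fin N, ξ ^ (x : ℕ) = if ξ = 1 then (N : ℂ) else 0 := by
  rw [Fin.sum_univ_eq_sum_range (fun x => ξ ^ x) N]
  split_ifs with h1
  · simp [h1]
  · rw [geom_sum_eq h1, h, sub_self, zero_div]

theorem torus_sum {r N : ℕ} (ξ : Fin r → ℂ) (h : ∀ j, ξ j ^ N = 1) :
    ∑ v : Fin r → Fin N, ∏ j, ξ j ^ (v j : ℕ) = if ∀ j, ξ j = 1 then (N : ℂ) ^ r else 0 := by
  have := Finset.prod_univ_sum (fun _ : Fin r => (univ : Finset (Fin N)))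
    (fun j x => ξ j ^ (x : ℕ))
  rw [Fintype.piFinset_univ] at this
  rw [← this]
  simp_rw [geom_sum_root _ (h _)]
  split_ifs with h1
  · simp [h1]
  · push Not at h1
    obtain ⟨j, hj⟩ := h1
    apply Finset.prod_eq_zero (mem_univ j)
    simp [hj]

theorem torus_sum_hyperplane {r N : ℕ} (ξ : Fin r → ℂ) (h : ∀ j, ξ j ^ N = 1) (l : Fin r)
    (z : Fin N) (hz : (z : ℕ) = 0) :
    ∑ v ∈ (univ : Finset (Fin r → Fin N)).filter (fun v => v l = z), ∏ j, ξ j ^ (v j : ℕ) =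
      if ∀ j, j ≠ l → ξ j = 1 then (N : ℂ) ^ (r - 1) else 0 := by
  classical
  have := Finset.prod_univ_sum (fun j : Fin r => if j = l then ({z} : Finset (Fin N)) else univ)
    (fun j x => ξ j ^ (x : ℕ))
  have hset : Fintype.piFinset (fun j : Fin r => if j = l then ({z} : Finset (Fin N)) else univ) =
      (univ : Finset (Fin r → Fin N)).filter (fun v => v l = z) := by
    ext v
    simp only [Fintype.mem_piFinset, mem_filter, mem_univ, true_and]
    constructor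
    · intro hv
      have := hv l
      simpa using this
    · intro hv j
      split_ifs with hj
      · subst hj
        simp [hv]
      · simp
  rw [hset] at this
  rw [← this]
  have hterm : ∀ j : Fin r, ∑ x ∈ (if j = l then ({z} : Finset (Fin N)) else univ), ξ j ^ (x : ℕ) =
      if j = l then 1 else (if ξ j = 1 then (N : ℂ) else 0) := by
    intro j
    split_ifs with hj h1
    · simp [hz]
    · rw [geom_sum_root _ (h j), if_pos h1]
    · rw [geom_sum_root _ (h j), if_neg h1]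
  simp_rw [hterm]
  split_ifs with h1
  · have : ∀ j : Fin r, (if j = l then (1 : ℂ) else if ξ j = 1 then (N : ℂ) else 0) =
        if j = l then 1 else (N : ℂ) := by
      intro j
      split_ifs with hj h2
      · rfl
      · rfl
      · exact absurd (h1 j hj) h2
    simp_rw [this]
    rw [Finset.prod_ite, Finset.prod_const_one, one_mul, Finset.prod_const]
    congr 1
    rw [Finset.filter_not, Finset.card_sdiff_of_subset (Finset.filter_subset _ _)]
    simp [Finset.filter_eq']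
  · push Not at h1
    obtain ⟨j, hjl, hj⟩ := h1
    apply Finset.prod_eq_zero (mem_univ j)
    simp [hj, hjl]

end Torus

section Alt

variable {r : ℕ}

/-- the alternant `det (ξ ^ (a i * w j))`. -/
noncomputable def alt (ξ : ℂ) (a w : Fin r → ℕ) : ℂ :=
  (Matrix.of fun i j : Fin r => ξ ^ (a i * w j)).det

theorem alt_expand (ξ : ℂ) (a w : Fin r → ℕ) :
    alt ξ a w = ∑ π : Equiv.Perm (Fin r), (Equiv.Perm.sign π : ℂ) * ∏ j, (ξ ^ a (π j)) ^ w j := by
  unfold alt
  rw [Matrix.det_apply']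
  simp [pow_mul]

theorem alt_comm (ξ : ℂ) (a w : Fin r → ℕ) : alt ξ a w = alt ξ w a := by
  unfold alt
  rw [← Matrix.det_transpose]
  congr 1
  ext i j
  simp [mul_comm]

theorem alt_comp_perm (ξ : ℂ) (a w : Fin r → ℕ) (σ : Equiv.Perm (Fin r)) :
    alt ξ a (w ∘ σ) = (Equiv.Perm.sign σ : ℂ) * alt ξ a w := by
  unfold alt
  rw [← Matrix.det_permute' σ]
  congr 1

theorem alt_eq_zero (ξ : ℂ) (a w : Fin r → ℕ) (h : ¬ Function.Injective w) : alt ξ a w = 0 := by
  unfold alt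
  simp only [Function.Injective, not_forall] at h
  obtain ⟨i, j, hij, hne⟩ := h
  apply Matrix.det_zero_of_column_eq hne
  intro k
  simp [hij]

theorem alt_conj (ξ : ℂ) (a w : Fin r → ℕ) :
    (starRingEnd ℂ) (alt ξ a w) = alt ((starRingEnd ℂ) ξ) a w := by
  unfold alt
  rw [RingHom.map_det]
  congr 1
  ext i j
  simp

theorem alt_add_const (ξ : ℂ) (a w : Fin r → ℕ) (t : ℕ) :
    alt ξ a (fun j => w j + t) = ξ ^ (t * ∑ i, a i) * alt ξ a w := by
  unfold alt
  have : (Matrix.of fun i j : Fin r => ξ ^ (a i * (w j + t))) =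
      Matrix.of fun i j : Fin r => ξ ^ (t * a i) * (Matrix.of fun i j : Fin r => ξ ^ (a i * w j)) i j := by
    ext i j
    simp only [Matrix.of_apply]
    rw [← pow_add]
    congr 1
    ring
  rw [this, Matrix.det_mul_column, Finset.prod_pow_eq_pow_sum, Finset.mul_sum]

theorem alt_mul_expand (ξ₁ ξ₂ κ : ℂ) (a b w : Fin r → ℕ) :
    κ ^ (∑ j, w j) * alt ξ₁ a w * alt ξ₂ b w =
      ∑ π : Equiv.Perm (Fin r), ∑ π' : Equiv.Perm (Fin r),
        ((Equiv.Perm.sign π : ℂ) * (Equiv.Perm.sign π' : ℂ)) *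
          ∏ j, (κ * ξ₁ ^ a (π j) * ξ₂ ^ b (π' j)) ^ w j := by
  rw [alt_expand, alt_expand, mul_assoc, Finset.sum_mul_sum, Finset.mul_sum]
  apply Finset.sum_congr rfl
  intro π _
  rw [Finset.mul_sum]
  apply Finset.sum_congr rfl
  intro π' _
  rw [← Finset.prod_pow_eq_pow_sum]
  simp only [mul_pow, Finset.prod_mul_distrib]
  ring

theorem sum_hyperplane_alt (N : ℕ) (ξ₁ ξ₂ κ : ℂ) (h1 : ξ₁ ^ N = 1) (h2 : ξ₂ ^ N = 1)
    (hκ : κ ^ N = 1) (a b : Fin r → ℕ) (l : Fin r) (z : Fin N) (hz : (z : ℕ) = 0) :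
    ∑ v ∈ (univ : Finset (Fin r → Fin N)).filter (fun v => v l = z),
      κ ^ (∑ j, (v j : ℕ)) * alt ξ₁ a (fun j => (v j : ℕ)) * alt ξ₂ b (fun j => (v j : ℕ)) =
      (N : ℂ) ^ (r - 1) * ∑ π : Equiv.Perm (Fin r), ∑ π' : Equiv.Perm (Fin r),
        ((Equiv.Perm.sign π : ℂ) * (Equiv.Perm.sign π' : ℂ)) *
          (if ∀ j, j ≠ l → κ * ξ₁ ^ a (π j) * ξ₂ ^ b (π' j) = 1 then 1 else 0) := by
  simp_rw [alt_mul_expand]
  rw [Finset.sum_comm, Finset.mul_sum]
  apply Finset.sum_congr rfl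
  intro π _
  rw [Finset.sum_comm, Finset.mul_sum]
  apply Finset.sum_congr rfl
  intro π' _
  rw [← Finset.mul_sum, torus_sum_hyperplane _ _ l z hz]
  · split_ifs <;> ring
  · intro j
    rw [mul_pow, mul_pow, hκ, ← pow_mul, ← pow_mul, mul_comm _ N, mul_comm _ N, pow_mul, pow_mul,
      h1, h2]
    simp

theorem sum_all_alt (N : ℕ) (ξ₁ ξ₂ κ : ℂ) (h1 : ξ₁ ^ N = 1) (h2 : ξ₂ ^ N = 1)
    (hκ : κ ^ N = 1) (a b : Fin r → ℕ) :
    ∑ v : Fin r → Fin N,
      κ ^ (∑ j, (v j : ℕ)) * alt ξ₁ a (fun j => (v j : ℕ)) * alt ξ₂ b (fun j => (v j : ℕ)) =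
      (N : ℂ) ^ r * ∑ π : Equiv.Perm (Fin r), ∑ π' : Equiv.Perm (Fin r),
        ((Equiv.Perm.sign π : ℂ) * (Equiv.Perm.sign π' : ℂ)) *
          (if ∀ j, κ * ξ₁ ^ a (π j) * ξ₂ ^ b (π' j) = 1 then 1 else 0) := by
  simp_rw [alt_mul_expand]
  rw [Finset.sum_comm, Finset.mul_sum]
  apply Finset.sum_congr rfl
  intro π _
  rw [Finset.sum_comm, Finset.mul_sum]
  apply Finset.sum_congr rfl
  intro π' _
  rw [← Finset.mul_sum, torus_sum]
  · split_ifs <;> ring
  · intro j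
    rw [mul_pow, mul_pow, hκ, ← pow_mul, ← pow_mul, mul_comm _ N, mul_comm _ N, pow_mul, pow_mul,
      h1, h2]
    simp

theorem perm_eq_of_eq_off (π π' : Equiv.Perm (Fin r)) (l : Fin r)
    (h : ∀ j, j ≠ l → π j = π' j) : π = π' := by
  have hl : π l = π' l := by
    by_contra hne
    have hj : π'.symm (π l) ≠ l := by
      intro h'
      apply hne
      rw [← h', Equiv.apply_symm_apply]
      rw [h']
    have := h _ hj
    rw [Equiv.apply_symm_apply] at this
    exact hj (π.injective this)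
  ext j
  by_cases hj : j = l
  · rw [hj, hl]
  · rw [h j hj]

/-- the signed count on the diagonal -/
theorem sum_sign_diag (ξ₁ ξ₂ : ℂ) (hinv : ξ₁ * ξ₂ = 1) (a : Fin r → ℕ)
    (hinj : Function.Injective (fun i => ξ₁ ^ a i)) (l : Fin r) :
    ∑ π : Equiv.Perm (Fin r), ∑ π' : Equiv.Perm (Fin r),
        ((Equiv.Perm.sign π : ℂ) * (Equiv.Perm.sign π' : ℂ)) *
          (if ∀ j, j ≠ l → 1 * ξ₁ ^ a (π j) * ξ₂ ^ a (π' j) = 1 then 1 else 0) =
      (r.factorial : ℂ) := by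
  classical
  have key : ∀ π π' : Equiv.Perm (Fin r),
      (∀ j, j ≠ l → 1 * ξ₁ ^ a (π j) * ξ₂ ^ a (π' j) = 1) ↔ π' = π := by
    intro π π'
    constructor
    · intro h
      symm
      apply perm_eq_of_eq_off _ _ l
      intro j hj
      have h1 := h j hj
      have h2 : ξ₁ ^ a (π j) = ξ₁ ^ a (π' j) := by
        have : ξ₁ ^ a (π j) * (ξ₂ ^ a (π' j) * ξ₁ ^ a (π' j)) = ξ₁ ^ a (π' j) := by
          rw [← mul_assoc, ← one_mul (ξ₁ ^ a (π j)), h1, one_mul]
        rw [← mul_pow, mul_comm ξ₂, hinv, one_pow, mul_one] at this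
        exact this
      exact hinj h2
    · intro h j _
      subst h
      rw [one_mul, ← mul_pow, hinv, one_pow]
  simp_rw [key]
  have : ∀ π : Equiv.Perm (Fin r), ∑ π' : Equiv.Perm (Fin r),
      ((Equiv.Perm.sign π : ℂ) * (Equiv.Perm.sign π' : ℂ)) * (if π' = π then 1 else 0) = 1 := by
    intro π
    rw [Finset.sum_eq_single π]
    · rw [if_pos rfl, mul_one]
      norm_cast
      simp
    · intro π' _ h
      rw [if_neg h, mul_zero]
    · intro h
      exact absurd (mem_univ π) h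
  simp_rw [this]
  simp [Fintype.card_perm]

end Alt

section Zeta

open Complex

/-- the standard primitive `N`-th root of unity -/
noncomputable def ζ (N : ℕ) : ℂ := Complex.exp (2 * Real.pi * Complex.I / N)

theorem ζ_prim (N : ℕ) (hN : N ≠ 0) : IsPrimitiveRoot (ζ N) N := Complex.isPrimitiveRoot_exp N hN

theorem ζ_pow (N : ℕ) (hN : N ≠ 0) : ζ N ^ N = 1 := (ζ_prim N hN).pow_eq_one

theorem ζ_pow_eq (N a : ℕ) : ζ N ^ a = Complex.exp (((2 * Real.pi * a / N : ℝ) : ℂ) * Complex.I) := by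
  unfold ζ
  rw [← Complex.exp_nat_mul]
  congr 1
  push_cast
  ring

theorem ζ_mul_conj (N : ℕ) : ζ N * (starRingEnd ℂ) (ζ N) = 1 := by
  have := ζ_pow_eq N 1
  rw [pow_one] at this
  rw [this, Complex.mul_conj, Complex.normSq_eq_norm_sq, Complex.norm_exp_ofReal_mul_I]
  simp

theorem conj_ζ_pow (N : ℕ) (hN : N ≠ 0) : (starRingEnd ℂ) (ζ N) ^ N = 1 := by
  rw [← map_pow, ζ_pow N hN, map_one]

theorem ζ_pow_injective (N : ℕ) (hN : N ≠ 0) {a b : ℕ} (ha : a < N) (hb : b < N)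
    (h : ζ N ^ a = ζ N ^ b) : a = b :=
  (ζ_prim N hN).pow_inj ha hb h

theorem exp_eq_ζ_pow (r k v : ℕ) :
    Complex.exp (2 * Real.pi * Complex.I * (v : ℂ) / ((r : ℂ) + k)) = ζ (r + k) ^ v := by
  unfold ζ
  rw [← Complex.exp_nat_mul]
  congr 1
  push_cast
  ring

theorem normSq_ζ_sub (N : ℕ) (a b : ℕ) :
    Complex.normSq (ζ N ^ a - ζ N ^ b) = (2 * Real.sin (Real.pi * ((b : ℝ) - a) / N)) ^ 2 := by
  rw [ζ_pow_eq, ζ_pow_eq, Complex.normSq_apply, Complex.sub_re, Complex.sub_im,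
    Complex.exp_ofReal_mul_I_re, Complex.exp_ofReal_mul_I_re, Complex.exp_ofReal_mul_I_im,
    Complex.exp_ofReal_mul_I_im]
  set θ := 2 * Real.pi * (a : ℝ) / N
  set φ := 2 * Real.pi * (b : ℝ) / N
  have h1 : Real.pi * ((b : ℝ) - a) / N = (φ - θ) / 2 := by
    simp only [θ, φ]
    ring
  rw [h1, mul_pow, Real.sin_sq_eq_half_sub, show 2 * ((φ - θ) / 2) = φ - θ by ring, Real.cos_sub]
  have e1 := Real.sin_sq_add_cos_sq θ
  have e2 := Real.sin_sq_add_cos_sq φ
  linear_combination e1 + e2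

/-- the staircase `δ i = r - 1 - i`. -/
def δ (r : ℕ) : Fin r → ℕ := fun i => r - 1 - (i : ℕ)

theorem prod_pairs_eq {r : ℕ} {M : Type*} [CommMonoid M] (g : Fin r → Fin r → M) :
    ∏ p ∈ (univ : Finset (Fin r × Fin r)).filter (fun p => p.1 < p.2), g p.1 p.2 =
      ∏ i, ∏ j ∈ Finset.Ioi i, g i j := by
  rw [Finset.prod_filter, Fintype.prod_prod_type]
  apply Finset.prod_congr rfl
  intro i _
  rw [← Finset.prod_filter]
  congr 1
  ext j
  simp

theorem alt_δ_eq {r : ℕ} (ξ : ℂ) (w : Fin r → ℕ) :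
    alt ξ (δ r) w = (Equiv.Perm.sign (Fin.revPerm : Equiv.Perm (Fin r)) : ℂ) *
      ∏ i, ∏ j ∈ Finset.Ioi i, (ξ ^ w j - ξ ^ w i) := by
  unfold alt
  have : (Matrix.of fun i j : Fin r => ξ ^ (δ r i * w j)) =
      Matrix.transpose
        ((Matrix.vandermonde (fun j => ξ ^ w j)).submatrix id (Fin.revPerm : Equiv.Perm (Fin r))) := by
    ext i j
    simp only [Matrix.of_apply, Matrix.transpose_apply, Matrix.submatrix_apply, id,
      Matrix.vandermonde_apply, Fin.revPerm_apply, Fin.val_rev, δ]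
    rw [← pow_mul, mul_comm]
    congr 2
    omega
  rw [this, Matrix.det_transpose, Matrix.det_permute', Matrix.det_vandermonde]

theorem alt_δ_mul_conj {r : ℕ} (N : ℕ) (w : Fin r → ℕ) :
    alt (ζ N) (δ r) w * alt ((starRingEnd ℂ) (ζ N)) (δ r) w =
      ((∏ p ∈ (univ : Finset (Fin r × Fin r)).filter (fun p => p.1 < p.2),
        (2 * Real.sin (Real.pi * ((w p.1 : ℝ) - (w p.2 : ℝ)) / N)) ^ 2 : ℝ) : ℂ) := by
  rw [← alt_conj, Complex.mul_conj, alt_δ_eq, map_mul, map_prod]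
  have hs : Complex.normSq ((Equiv.Perm.sign (Fin.revPerm : Equiv.Perm (Fin r)) : ℂ)) = 1 := by
    rcases Int.units_eq_one_or (Equiv.Perm.sign (Fin.revPerm : Equiv.Perm (Fin r))) with h | h <;>
      simp [h]
  rw [hs, one_mul, prod_pairs_eq (fun i j => (2 * Real.sin (Real.pi * ((w i : ℝ) - (w j : ℝ)) / N)) ^ 2)]
  congr 1
  apply Finset.prod_congr rfl
  intro i _
  rw [map_prod]
  apply Finset.prod_congr rfl
  intro j _
  rw [normSq_ζ_sub]

end Zeta

section Alcove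

variable {r : ℕ}

theorem coe_injective_iff {N : ℕ} (v : Fin r → Fin N) :
    Function.Injective (fun j => (v j : ℕ)) ↔ Function.Injective v := by
  constructor
  · intro h i j hij
    exact h (by simp [hij])
  · intro h i j hij
    exact h (Fin.ext hij)

theorem twisted_symm {N : ℕ} (ξ₁ ξ₂ κ : ℂ) (a b : Fin r → ℕ) (v : Fin r → Fin N)
    (σ : Equiv.Perm (Fin r)) :
    κ ^ (∑ j, ((v ∘ σ) j : ℕ)) * alt ξ₁ a (fun j => ((v ∘ σ) j : ℕ)) *
        alt ξ₂ b (fun j => ((v ∘ σ) j : ℕ)) =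
      κ ^ (∑ j, (v j : ℕ)) * alt ξ₁ a (fun j => (v j : ℕ)) * alt ξ₂ b (fun j => (v j : ℕ)) := by
  have h1 : ∑ j, ((v ∘ σ) j : ℕ) = ∑ j, (v j : ℕ) :=
    Equiv.sum_comp σ (fun j => (v j : ℕ))
  have h2 : ∀ (ξ : ℂ) (c : Fin r → ℕ), alt ξ c (fun j => ((v ∘ σ) j : ℕ)) =
      (Equiv.Perm.sign σ : ℂ) * alt ξ c (fun j => (v j : ℕ)) := by
    intro ξ c
    exact alt_comp_perm ξ c (fun j => (v j : ℕ)) σ
  rw [h1, h2, h2]
  have : (Equiv.Perm.sign σ : ℂ) * (Equiv.Perm.sign σ : ℂ) = 1 := by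
    norm_cast
    simp
  linear_combination (κ ^ (∑ j, (v j : ℕ)) * alt ξ₁ a (fun j => (v j : ℕ)) *
    alt ξ₂ b (fun j => (v j : ℕ))) * this

theorem twisted_zero {N : ℕ} (ξ₁ ξ₂ κ : ℂ) (a b : Fin r → ℕ) (v : Fin r → Fin N)
    (h : ¬ Function.Injective v) :
    κ ^ (∑ j, (v j : ℕ)) * alt ξ₁ a (fun j => (v j : ℕ)) * alt ξ₂ b (fun j => (v j : ℕ)) = 0 := by
  rw [alt_eq_zero ξ₁ a _ (fun h' => h ((coe_injective_iff v).1 h'))]
  ring

/-- alcove sums of twisted products of alternants -/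
theorem stab_mul_sum_alcove (N : ℕ) (ξ₁ ξ₂ κ : ℂ) (h1 : ξ₁ ^ N = 1) (h2 : ξ₂ ^ N = 1)
    (hκ : κ ^ N = 1) (a b : Fin r → ℕ) (l : Fin r) (hl : ∀ i, i ≤ l) (z : Fin N)
    (hz : (z : ℕ) = 0) :
    (stab l : ℂ) * ∑ u ∈ (univ : Finset (Fin r → Fin N)).filter (fun u => StrictAnti u ∧ u l = z),
      κ ^ (∑ j, (u j : ℕ)) * alt ξ₁ a (fun j => (u j : ℕ)) * alt ξ₂ b (fun j => (u j : ℕ)) =
      (N : ℂ) ^ (r - 1) * ∑ π : Equiv.Perm (Fin r), ∑ π' : Equiv.Perm (Fin r),
        ((Equiv.Perm.sign π : ℂ) * (Equiv.Perm.sign π' : ℂ)) *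
          (if ∀ j, j ≠ l → κ * ξ₁ ^ a (π j) * ξ₂ ^ b (π' j) = 1 then 1 else 0) := by
  rw [← sum_hyperplane_alt N ξ₁ ξ₂ κ h1 h2 hκ a b l z hz]
  symm
  apply sum_hyperplane_eq (fun v : Fin r → Fin N =>
    κ ^ (∑ j, (v j : ℕ)) * alt ξ₁ a (fun j => (v j : ℕ)) * alt ξ₂ b (fun j => (v j : ℕ)))
  · intro v σ
    exact twisted_symm ξ₁ ξ₂ κ a b v σ
  · intro v hv
    exact twisted_zero ξ₁ ξ₂ κ a b v hv
  · exact hl
  · intro x
    rw [Fin.le_def, hz]
    exact Nat.zero_le _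

theorem factorial_mul_sum_sorted (N : ℕ) (ξ₁ ξ₂ κ : ℂ) (h1 : ξ₁ ^ N = 1) (h2 : ξ₂ ^ N = 1)
    (hκ : κ ^ N = 1) (a b : Fin r → ℕ) :
    (r.factorial : ℂ) * ∑ u ∈ (univ : Finset (Fin r → Fin N)).filter StrictAnti,
      κ ^ (∑ j, (u j : ℕ)) * alt ξ₁ a (fun j => (u j : ℕ)) * alt ξ₂ b (fun j => (u j : ℕ)) =
      (N : ℂ) ^ r * ∑ π : Equiv.Perm (Fin r), ∑ π' : Equiv.Perm (Fin r),
        ((Equiv.Perm.sign π : ℂ) * (Equiv.Perm.sign π' : ℂ)) *
          (if ∀ j, κ * ξ₁ ^ a (π j) * ξ₂ ^ b (π' j) = 1 then 1 else 0) := by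
  rw [← sum_all_alt N ξ₁ ξ₂ κ h1 h2 hκ a b]
  symm
  apply sum_all_eq (fun v : Fin r → Fin N =>
    κ ^ (∑ j, (v j : ℕ)) * alt ξ₁ a (fun j => (v j : ℕ)) * alt ξ₂ b (fun j => (v j : ℕ)))
  · intro v σ
    exact twisted_symm ξ₁ ξ₂ κ a b v σ
  · intro v hv
    exact twisted_zero ξ₁ ξ₂ κ a b v hv

/-- the last index -/
def lastIdx (r : ℕ) (hr : 1 ≤ r) : Fin r := ⟨r - 1, by omega⟩

theorem le_lastIdx (hr : 1 ≤ r) (i : Fin r) : i ≤ lastIdx r hr := by
  rw [Fin.le_def]
  simp only [lastIdx]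
  have := i.2
  omega

/-- the zero value -/
def zeroVal (N : ℕ) (hN : 1 ≤ N) : Fin N := ⟨0, by omega⟩

theorem alcove_cond_iff {N : ℕ} (hr : 1 ≤ r) (hN : 1 ≤ N) (v : Fin r → Fin N) :
    (∀ i : Fin r, (i : ℕ) = r - 1 → (v i : ℕ) = 0) ↔ v (lastIdx r hr) = zeroVal N hN := by
  constructor
  · intro h
    apply Fin.ext
    exact h _ rfl
  · intro h i hi
    have : i = lastIdx r hr := Fin.ext hi
    rw [this, h]
    rfl

theorem diag_injective (N : ℕ) (hN : N ≠ 0) (a : Fin r → ℕ) (ha : ∀ i, a i < N)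
    (hinj : Function.Injective a) : Function.Injective (fun i => ζ N ^ a i) := by
  intro i j hij
  exact hinj (ζ_pow_injective N hN (ha i) (ha j) hij)

/-- diagonal alcove sum: `stab * Σ_A |alt a|² = N^(r-1) * r!`. -/
theorem stab_mul_sum_alcove_diag (N : ℕ) (hN : N ≠ 0) (a : Fin r → ℕ) (ha : ∀ i, a i < N)
    (hinj : Function.Injective a) (l : Fin r) (hl : ∀ i, i ≤ l) (z : Fin N) (hz : (z : ℕ) = 0) :
    (stab l : ℂ) * ∑ u ∈ (univ : Finset (Fin r → Fin N)).filter (fun u => StrictAnti u ∧ u l = z),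
      alt (ζ N) a (fun j => (u j : ℕ)) * alt ((starRingEnd ℂ) (ζ N)) a (fun j => (u j : ℕ)) =
      (N : ℂ) ^ (r - 1) * (r.factorial : ℂ) := by
  have := stab_mul_sum_alcove N (ζ N) ((starRingEnd ℂ) (ζ N)) 1 (ζ_pow N hN) (conj_ζ_pow N hN)
    (one_pow N) a a l hl z hz
  simp only [one_pow, one_mul] at this
  rw [this]
  congr 1
  have h := sum_sign_diag (ζ N) ((starRingEnd ℂ) (ζ N)) (ζ_mul_conj N) a
    (diag_injective N hN a ha hinj) l
  simp only [one_mul] at h
  exact h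

/-- diagonal alcove sum: `Σ_A |alt a|² = r * N^(r-1)`. -/
theorem sum_alcove_diag (N : ℕ) (hN : N ≠ 0) (a : Fin r → ℕ) (ha : ∀ i, a i < N)
    (hinj : Function.Injective a) (l : Fin r) (hl : ∀ i, i ≤ l) (z : Fin N) (hz : (z : ℕ) = 0) :
    ∑ u ∈ (univ : Finset (Fin r → Fin N)).filter (fun u => StrictAnti u ∧ u l = z),
      alt (ζ N) a (fun j => (u j : ℕ)) * alt ((starRingEnd ℂ) (ζ N)) a (fun j => (u j : ℕ)) =
      (r : ℂ) * (N : ℂ) ^ (r - 1) := by
  have h1 := stab_mul_sum_alcove_diag N hN a ha hinj l hl z hz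
  have h2 : (r.factorial : ℂ) = (r : ℂ) * (stab l : ℂ) := by
    rw [← mul_stab l]
    push_cast
    ring
  have h3 : (stab l : ℂ) ≠ 0 := by
    exact_mod_cast (stab_pos l).ne'
  rw [h2] at h1
  apply mul_left_cancel₀ h3
  rw [h1]
  ring

/-- full sorted diagonal sum: `Σ_SA |alt a|² = N^r`. -/
theorem sum_sorted_diag (N : ℕ) (hN : N ≠ 0) (a : Fin r → ℕ) (ha : ∀ i, a i < N)
    (hinj : Function.Injective a) :
    ∑ u ∈ (univ : Finset (Fin r → Fin N)).filter StrictAnti,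
      alt (ζ N) a (fun j => (u j : ℕ)) * alt ((starRingEnd ℂ) (ζ N)) a (fun j => (u j : ℕ)) =
      (N : ℂ) ^ r := by
  have h1 := factorial_mul_sum_sorted N (ζ N) ((starRingEnd ℂ) (ζ N)) 1 (ζ_pow N hN)
    (conj_ζ_pow N hN) (one_pow N) a a
  simp only [one_pow, one_mul] at h1
  have h3 : (r.factorial : ℂ) ≠ 0 := by
    exact_mod_cast r.factorial_ne_zero
  apply mul_left_cancel₀ h3
  rw [h1, mul_comm]
  congr 1
  by_cases hr : r = 0
  · subst hr
    simp
  · obtain ⟨l⟩ : Nonempty (Fin r) := ⟨⟨0, Nat.pos_of_ne_zero hr⟩⟩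
    have h := sum_sign_diag (ζ N) ((starRingEnd ℂ) (ζ N)) (ζ_mul_conj N) a
      (diag_injective N hN a ha hinj) l
    simp only [one_mul] at h
    rw [← h]
    apply Finset.sum_congr rfl
    intro π _
    apply Finset.sum_congr rfl
    intro π' _
    congr 1
    have key : (∀ j, ζ N ^ a (π j) * (starRingEnd ℂ) (ζ N) ^ a (π' j) = 1) ↔
        (∀ j, j ≠ l → ζ N ^ a (π j) * (starRingEnd ℂ) (ζ N) ^ a (π' j) = 1) := by
      constructor
      · intro h j _
        exact h j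
      · intro h'
        have hπ : π = π' := by
          apply perm_eq_of_eq_off _ _ l
          intro j hj
          have h1 := h' j hj
          have h2 : ζ N ^ a (π j) = ζ N ^ a (π' j) := by
            have : ζ N ^ a (π j) * ((starRingEnd ℂ) (ζ N) ^ a (π' j) * ζ N ^ a (π' j)) =
                ζ N ^ a (π' j) := by
              rw [← mul_assoc, h1, one_mul]
            rw [← mul_pow, mul_comm _ (ζ N), ζ_mul_conj, one_pow, mul_one] at this
            exact this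
          exact diag_injective N hN a ha hinj h2
        subst hπ
        intro j
        rw [← mul_pow, ζ_mul_conj, one_pow]
    simp only [key]

theorem δ_lt (N : ℕ) (hN : r ≤ N) (i : Fin r) : δ r i < N := by
  unfold δ
  have := i.2
  omega

theorem δ_injective : Function.Injective (δ r) := by
  intro i j h
  unfold δ at h
  apply Fin.ext
  have := i.2
  have := j.2
  omega

theorem alcove_filter_eq {N : ℕ} (hr : 1 ≤ r) (hN : 1 ≤ N) :
    (univ : Finset (Fin r → Fin N)).filter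
      (fun v : Fin r → Fin N => StrictAnti v ∧ ∀ i : Fin r, (i : ℕ) = r - 1 → (v i : ℕ) = 0) =
    (univ : Finset (Fin r → Fin N)).filter
      (fun v : Fin r → Fin N => StrictAnti v ∧ v (lastIdx r hr) = zeroVal N hN) := by
  apply Finset.filter_congr
  intro v _
  rw [alcove_cond_iff hr hN]

/-- S18379 -/
theorem sum_alcove_P (r k : ℕ) (hr : 1 ≤ r) :
    (∑ v ∈ (Finset.univ : Finset (Fin r → Fin (r + k))).filter
        (fun v : Fin r → Fin (r + k) => StrictAnti v ∧ ∀ i : Fin r, (i : ℕ) = r - 1 → (v i : ℕ) = 0),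
      ∏ p ∈ (Finset.univ : Finset (Fin r × Fin r)).filter (fun p => p.1 < p.2),
        ((2 : ℝ) * Real.sin (Real.pi * ((v p.1 : ℕ) - (v p.2 : ℕ) : ℝ) / ((r : ℝ) + k))) ^ 2) =
      (r : ℝ) * ((r : ℝ) + k) ^ (r - 1) := by
  have hN : 1 ≤ r + k := by omega
  have key : ∀ v : Fin r → Fin (r + k),
      ((∏ p ∈ (Finset.univ : Finset (Fin r × Fin r)).filter (fun p => p.1 < p.2),
        ((2 : ℝ) * Real.sin (Real.pi * ((v p.1 : ℕ) - (v p.2 : ℕ) : ℝ) / ((r : ℝ) + k))) ^ 2 : ℝ) : ℂ) =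
      alt (ζ (r + k)) (δ r) (fun j => (v j : ℕ)) *
        alt ((starRingEnd ℂ) (ζ (r + k))) (δ r) (fun j => (v j : ℕ)) := by
    intro v
    rw [alt_δ_mul_conj]
    push_cast
    rfl
  apply Complex.ofReal_injective
  rw [Complex.ofReal_sum]
  simp_rw [key]
  rw [alcove_filter_eq hr hN, sum_alcove_diag (r + k) (by omega) (δ r)
    (δ_lt (r + k) (by omega)) δ_injective _ (le_lastIdx hr) _ rfl]
  push_cast
  rfl

end Alcove


section Dual

variable {r : ℕ}

theorem alt_shift_left (ξ : ℂ) (a w : Fin r → ℕ) (t : ℕ) :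
    alt ξ (fun i => a i + t) w = ξ ^ (t * ∑ j, w j) * alt ξ a w := by
  rw [alt_comm, alt_add_const, alt_comm]

theorem alt_perm_left (ξ : ℂ) (a w : Fin r → ℕ) (σ : Equiv.Perm (Fin r)) :
    alt ξ (a ∘ σ) w = (Equiv.Perm.sign σ : ℂ) * alt ξ a w := by
  rw [alt_comm, alt_comp_perm, alt_comm]

theorem ζ_pow_compl (N : ℕ) (hN : N ≠ 0) (b : ℕ) (hb : b ≤ N - 1) :
    ζ N ^ (N - 1 - b) = (starRingEnd ℂ) (ζ N) ^ (b + 1) := by
  have h1 : ζ N ^ (N - 1 - b) * ζ N ^ (b + 1) = 1 := by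
    rw [← pow_add, show N - 1 - b + (b + 1) = N by omega, ζ_pow N hN]
  have h2 : (starRingEnd ℂ) (ζ N) ^ (b + 1) * ζ N ^ (b + 1) = 1 := by
    rw [← mul_pow, mul_comm, ζ_mul_conj, one_pow]
  have h3 : ζ N ^ (b + 1) ≠ 0 := by
    intro h
    rw [h, mul_zero] at h1
    exact zero_ne_one h1
  exact mul_right_cancel₀ h3 (h1.trans h2.symm)

/-- the alternant of the dual weight -/
theorem alt_dual (N : ℕ) (hN : N ≠ 0) (β w : Fin r → ℕ) (hβ : ∀ i, β i ≤ N - 1) :
    alt (ζ N) (fun i => N - 1 - β (Fin.rev i)) w =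
      (Equiv.Perm.sign (Fin.revPerm : Equiv.Perm (Fin r)) : ℂ) *
        (starRingEnd ℂ) (ζ N ^ (∑ j, w j)) * (starRingEnd ℂ) (alt (ζ N) β w) := by
  have h1 : (fun i => N - 1 - β (Fin.rev i)) = (fun i => N - 1 - β i) ∘ (Fin.revPerm : Equiv.Perm (Fin r)) := by
    ext i
    simp
  rw [h1, alt_perm_left, mul_assoc]
  congr 1
  rw [← map_mul]
  have h2 : ζ N ^ (∑ j, w j) * alt (ζ N) β w = alt (ζ N) (fun i => β i + 1) w := by
    rw [alt_shift_left, one_mul]
  rw [h2, alt_conj]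
  unfold alt
  congr 1
  ext i j
  simp only [Matrix.of_apply]
  rw [pow_mul, ζ_pow_compl N hN _ (hβ i), ← pow_mul]

/-- gaps of a strictly antitone tuple of naturals -/
theorem strictAnti_gap {u : Fin r → ℕ} (hu : StrictAnti u) :
    ∀ (d : ℕ) (i j : Fin r), (j : ℕ) = i + d → u j + d ≤ u i := by
  intro d
  induction d with
  | zero =>
    intro i j hij
    have : i = j := Fin.ext (by omega)
    rw [this]
    omega
  | succ d ih =>
    intro i j hij
    have hj' : (i : ℕ) + d < r := by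
      have := j.2
      omega
    have h1 := ih i ⟨i + d, hj'⟩ rfl
    have h2 : u j < u ⟨i + d, hj'⟩ := by
      apply hu
      rw [Fin.lt_def]
      simp only
      omega
    omega

/-- partitions in a box versus strictly antitone tuples -/
theorem sum_antitone_eq_sum_strictAnti {M : Type*} [AddCommMonoid M] (K t N : ℕ)
    (hN : N = K + (r - 1) + t) (l : Fin r) (hl : (l : ℕ) = r - 1)
    (G : (Fin r → ℕ) → M) :
    ∑ μ ∈ (univ : Finset (Fin r → Fin K)).filter (fun μ : Fin r → Fin K => Antitone μ),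
        G (fun i => (μ i : ℕ) + δ r i + t) =
      ∑ α ∈ (univ : Finset (Fin r → Fin N)).filter
          (fun α : Fin r → Fin N => StrictAnti α ∧ t ≤ (α l : ℕ)),
        G (fun i => (α i : ℕ)) := by
  classical
  have hδ : ∀ i : Fin r, δ r i ≤ r - 1 := by
    intro i
    unfold δ
    omega
  have hbound : ∀ (μ : Fin r → Fin K) (i : Fin r), (μ i : ℕ) + δ r i + t < N := by
    intro μ i
    have := (μ i).2
    have := hδ i
    omega
  apply Finset.sum_nbij (fun μ => fun i => (⟨(μ i : ℕ) + δ r i + t, hbound μ i⟩ : Fin N))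
  · intro μ hμ
    simp only [mem_filter, mem_univ, true_and] at hμ ⊢
    constructor
    · intro a b hab
      rw [Fin.lt_def]
      simp only
      have h1 : (μ b : ℕ) ≤ μ a := by
        have := hμ hab.le
        exact this
      have h2 : δ r b < δ r a := by
        unfold δ
        rw [Fin.lt_def] at hab
        have := b.2
        omega
      omega
    · omega
  · intro μ _ μ' _ h
    ext i
    have := congrFun h i
    simp only [Fin.mk.injEq] at this
    omega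
  · intro α hα
    simp only [coe_filter, mem_univ, true_and, Set.mem_ofPred_eq] at hα
    obtain ⟨hsa, hlast⟩ := hα
    have hsa' : StrictAnti (fun i => (α i : ℕ)) := fun a b hab => hsa hab
    have hlow : ∀ i : Fin r, δ r i + t ≤ (α i : ℕ) := by
      intro i
      have := strictAnti_gap hsa' (r - 1 - i) i l (by have := i.2; omega)
      unfold δ
      omega
    have hr : 0 < r := Fin.pos l
    have hup : ∀ i : Fin r, (α i : ℕ) + i ≤ N - 1 := by
      intro i
      have := strictAnti_gap hsa' i ⟨0, hr⟩ i (by simp)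
      have h0 := (α ⟨0, hr⟩).2
      omega
    have hμb : ∀ i : Fin r, (α i : ℕ) - δ r i - t < K := by
      intro i
      have h1 := hlow i
      have h2 := hup i
      have h3 : δ r i = r - 1 - i := rfl
      have := i.2
      omega
    refine ⟨fun i => ⟨(α i : ℕ) - δ r i - t, hμb i⟩, ?_, ?_⟩
    · simp only [coe_filter, mem_univ, true_and, Set.mem_ofPred_eq]
      intro a b hab
      rw [Fin.le_def]
      simp only
      rcases hab.eq_or_lt with h | h
      · rw [h]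
      · have hgap := strictAnti_gap hsa' ((b : ℕ) - a) a b (by rw [Fin.lt_def] at h; omega)
        have h1 := hlow a
        have h2 := hlow b
        have h3 : δ r a = r - 1 - a := rfl
        have h4 : δ r b = r - 1 - b := rfl
        rw [Fin.lt_def] at h
        have := b.2
        omega
    · ext i
      simp only
      have := hlow i
      omega
  · intro μ _
    rfl

end Dual


section Schur

variable {r : ℕ}

theorem alt_shift_left_mul_conj (N : ℕ) (a w : Fin r → ℕ) (t : ℕ) :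
    alt (ζ N) (fun i => a i + t) w * alt ((starRingEnd ℂ) (ζ N)) (fun i => a i + t) w =
      alt (ζ N) a w * alt ((starRingEnd ℂ) (ζ N)) a w := by
  rw [alt_shift_left, alt_shift_left]
  have : ζ N ^ (t * ∑ j, w j) * (starRingEnd ℂ) (ζ N) ^ (t * ∑ j, w j) = 1 := by
    rw [← mul_pow, ζ_mul_conj, one_pow]
  linear_combination (alt (ζ N) a w * alt ((starRingEnd ℂ) (ζ N)) a w) * this

theorem sum_abs_alt_partitions (r k : ℕ) (hr : 1 ≤ r) (v : Fin r → ℕ) (hv : StrictAnti v)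
    (hvlt : ∀ i, v i < r + k) :
    ∑ μ ∈ (univ : Finset (Fin r → Fin k)).filter (fun μ : Fin r → Fin k => Antitone μ),
      alt (ζ (r + k)) (fun i => (μ i : ℕ) + δ r i) v *
        alt ((starRingEnd ℂ) (ζ (r + k))) (fun i => (μ i : ℕ) + δ r i) v =
      (k : ℂ) * ((r + k : ℕ) : ℂ) ^ (r - 1) := by
  classical
  have hN : 1 ≤ r + k := by omega
  have hN0 : r + k ≠ 0 := by omega
  have h1 : ∀ μ : Fin r → Fin k,
      alt (ζ (r + k)) (fun i => (μ i : ℕ) + δ r i) v *
        alt ((starRingEnd ℂ) (ζ (r + k))) (fun i => (μ i : ℕ) + δ r i) v =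
      (fun a : Fin r → ℕ => alt (ζ (r + k)) a v * alt ((starRingEnd ℂ) (ζ (r + k))) a v)
        (fun i => (μ i : ℕ) + δ r i + 1) := by
    intro μ
    simp only
    rw [alt_shift_left_mul_conj (r + k) (fun i => (μ i : ℕ) + δ r i) v 1]
  rw [Finset.sum_congr rfl (fun μ _ => h1 μ)]
  refine (sum_antitone_eq_sum_strictAnti k 1 (r + k) (by omega) (lastIdx r hr) rfl
    (fun a : Fin r → ℕ => alt (ζ (r + k)) a v * alt ((starRingEnd ℂ) (ζ (r + k))) a v)).trans ?_
  have h2 : ∀ α : Fin r → Fin (r + k),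
      alt (ζ (r + k)) (fun i => (α i : ℕ)) v *
        alt ((starRingEnd ℂ) (ζ (r + k))) (fun i => (α i : ℕ)) v =
      alt (ζ (r + k)) v (fun i => (α i : ℕ)) *
        alt ((starRingEnd ℂ) (ζ (r + k))) v (fun i => (α i : ℕ)) := by
    intro α
    rw [alt_comm, alt_comm ((starRingEnd ℂ) (ζ (r + k)))]
  simp_rw [h2]
  have hsplit := Finset.sum_filter_add_sum_filter_not
    ((univ : Finset (Fin r → Fin (r + k))).filter StrictAnti)
    (fun α => α (lastIdx r hr) = zeroVal (r + k) hN)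
    (fun α => alt (ζ (r + k)) v (fun i => (α i : ℕ)) *
        alt ((starRingEnd ℂ) (ζ (r + k))) v (fun i => (α i : ℕ)))
  rw [Finset.filter_filter, Finset.filter_filter, sum_sorted_diag (r + k) hN0 v hvlt hv.injective,
    sum_alcove_diag (r + k) hN0 v hvlt hv.injective _ (le_lastIdx hr) _ rfl] at hsplit
  have hfilt : (univ : Finset (Fin r → Fin (r + k))).filter
      (fun α : Fin r → Fin (r + k) => StrictAnti α ∧ 1 ≤ (α (lastIdx r hr) : ℕ)) =
      (univ : Finset (Fin r → Fin (r + k))).filter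
      (fun α : Fin r → Fin (r + k) => StrictAnti α ∧ ¬ α (lastIdx r hr) = zeroVal (r + k) hN) := by
    apply Finset.filter_congr
    intro α _
    have : (1 ≤ (α (lastIdx r hr) : ℕ)) ↔ ¬ α (lastIdx r hr) = zeroVal (r + k) hN := by
      rw [Fin.ext_iff]
      simp only [zeroVal]
      omega
    rw [this]
  rw [hfilt]
  have hpow : ((r + k : ℕ) : ℂ) ^ r = ((r + k : ℕ) : ℂ) * ((r + k : ℕ) : ℂ) ^ (r - 1) := by
    rw [← pow_succ']
    congr 1
    omega
  rw [hpow] at hsplit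
  push_cast at hsplit ⊢
  linear_combination hsplit

/-- the sum of `A_μ A_{μ*}` over partitions in the `r × (k-1)` box -/
theorem sum_schur_dual (r k : ℕ) (hr : 1 ≤ r) (v : Fin r → ℕ) (hv : StrictAnti v)
    (hvlt : ∀ i, v i < r + k) :
    ∑ μ ∈ (univ : Finset (Fin r → Fin k)).filter (fun μ : Fin r → Fin k => Antitone μ),
      alt (ζ (r + k)) (fun i => (μ i : ℕ) + δ r i) v *
        alt (ζ (r + k)) (fun i => (k - (μ (Fin.rev i) : ℕ)) + δ r i) v =
      (Equiv.Perm.sign (Fin.revPerm : Equiv.Perm (Fin r)) : ℂ) *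
        (starRingEnd ℂ) (ζ (r + k) ^ (∑ j, v j)) * ((k : ℂ) * ((r + k : ℕ) : ℂ) ^ (r - 1)) := by
  have hN0 : r + k ≠ 0 := by omega
  rw [← sum_abs_alt_partitions r k hr v hv hvlt, Finset.mul_sum]
  apply Finset.sum_congr rfl
  intro μ _
  have h1 : (fun i : Fin r => (k - (μ (Fin.rev i) : ℕ)) + δ r i) =
      (fun i : Fin r => (r + k) - 1 - ((fun i : Fin r => (μ i : ℕ) + δ r i) (Fin.rev i))) := by
    ext i
    simp only [δ, Fin.val_rev]
    have := (μ (Fin.rev i)).2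
    have := i.2
    omega
  rw [h1, alt_dual (r + k) hN0 (fun i : Fin r => (μ i : ℕ) + δ r i) v, alt_conj]
  · ring
  · intro i
    simp only [δ]
    have := (μ i).2
    have := i.2
    omega

/-- `ζ^(k|v|) D = sign * conj(ζ^|v|) * conj D` for the Vandermonde alternant `D`. -/
theorem alt_δ_conj_rel (r k : ℕ) (hr : 1 ≤ r) (v : Fin r → ℕ) :
    ζ (r + k) ^ (k * ∑ j, v j) * alt (ζ (r + k)) (δ r) v =
      (Equiv.Perm.sign (Fin.revPerm : Equiv.Perm (Fin r)) : ℂ) *
        (starRingEnd ℂ) (ζ (r + k) ^ (∑ j, v j)) * alt ((starRingEnd ℂ) (ζ (r + k))) (δ r) v := by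
  have hN0 : r + k ≠ 0 := by omega
  rw [← alt_shift_left, ← alt_conj, ← alt_dual (r + k) hN0 (δ r) v]
  · congr 1
    ext i
    simp only [δ, Fin.val_rev]
    have := i.2
    omega
  · intro i
    simp only [δ]
    omega

end Schur


section Statements

variable {r : ℕ}

/-- the matrices in the statements are alternants -/
theorem det_eq_alt (r k : ℕ) (v : Fin r → ℕ) (z : Fin r → ℂ)
    (hz : ∀ j, z j = Complex.exp (2 * Real.pi * Complex.I * (v j : ℂ) / ((r : ℂ) + k)))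
    (a : Fin r → ℕ) :
    (Matrix.of fun i j : Fin r => z j ^ (a i)).det = alt (ζ (r + k)) a v := by
  unfold alt
  congr 1
  ext i j
  simp only [Matrix.of_apply]
  rw [hz, exp_eq_ζ_pow, ← pow_mul, mul_comm]

theorem exp_mul_eq_ζ_pow (r k m : ℕ) (x : ℂ)
    (hx : x = 2 * Real.pi * Complex.I * (m : ℂ) / ((r : ℂ) + k)) :
    Complex.exp x = ζ (r + k) ^ m := by
  rw [hx, exp_eq_ζ_pow]

/-- S18377 -/
theorem schur_sum_main (r k : ℕ) (hr : 1 ≤ r)
    (v : Fin r → ℕ) (hv : StrictAnti v) (hvlt : ∀ i, v i < r + k)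
    (z : Fin r → ℂ) (hz : ∀ j, z j = Complex.exp (2 * Real.pi * Complex.I * (v j : ℂ) / ((r : ℂ) + k)))
    (S : (Fin r → ℕ) → ℂ)
    (hS : ∀ μ : Fin r → ℕ, S μ =
      (Matrix.of fun i j : Fin r => z j ^ (μ i + (r - 1 - (i : ℕ)))).det /
        (Matrix.of fun i j : Fin r => z j ^ (r - 1 - (i : ℕ))).det) :
    (∑ μ ∈ (Finset.univ : Finset (Fin r → Fin k)).filter (fun μ : Fin r → Fin k => Antitone μ),
        S (fun i => (μ i : ℕ)) * S (fun i => k - (μ (Fin.rev i) : ℕ))) =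
      Complex.exp (2 * Real.pi * Complex.I * (k : ℂ) * ((∑ j, v j : ℕ) : ℂ) / ((r : ℂ) + k)) *
        ((k : ℂ) * ((r : ℂ) + k) ^ (r - 1)) /
        (∏ p ∈ (Finset.univ : Finset (Fin r × Fin r)).filter (fun p => p.1 < p.2),
          (((2 : ℝ) * Real.sin (Real.pi * ((v p.1 : ℝ) - (v p.2 : ℝ)) / ((r : ℝ) + k))) ^ 2 : ℝ) : ℂ) := by
  have hS' : ∀ μ : Fin r → ℕ, S μ =
      alt (ζ (r + k)) (fun i => μ i + δ r i) v / alt (ζ (r + k)) (δ r) v := by
    intro μ
    rw [hS, det_eq_alt r k v z hz (fun i => μ i + (r - 1 - (i : ℕ))),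
      det_eq_alt r k v z hz (fun i => (r - 1 - (i : ℕ)))]
    rfl
  set D := alt (ζ (r + k)) (δ r) v with hD
  have hP : (∏ p ∈ (Finset.univ : Finset (Fin r × Fin r)).filter (fun p => p.1 < p.2),
      (((2 : ℝ) * Real.sin (Real.pi * ((v p.1 : ℝ) - (v p.2 : ℝ)) / ((r : ℝ) + k))) ^ 2 : ℝ) : ℂ) =
      D * alt ((starRingEnd ℂ) (ζ (r + k))) (δ r) v := by
    rw [hD, alt_δ_mul_conj, Complex.ofReal_prod]
    push_cast
    rfl
  have hE : Complex.exp (2 * Real.pi * Complex.I * (k : ℂ) * ((∑ j, v j : ℕ) : ℂ) / ((r : ℂ) + k)) =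
      ζ (r + k) ^ (k * ∑ j, v j) := by
    apply exp_mul_eq_ζ_pow
    push_cast
    ring
  rw [hP, hE]
  simp_rw [hS']
  have hsum : ∑ μ ∈ (Finset.univ : Finset (Fin r → Fin k)).filter (fun μ : Fin r → Fin k => Antitone μ),
      alt (ζ (r + k)) (fun i => (μ i : ℕ) + δ r i) v / D *
        (alt (ζ (r + k)) (fun i => (k - (μ (Fin.rev i) : ℕ)) + δ r i) v / D) =
      ((Equiv.Perm.sign (Fin.revPerm : Equiv.Perm (Fin r)) : ℂ) *
        (starRingEnd ℂ) (ζ (r + k) ^ (∑ j, v j)) * ((k : ℂ) * ((r + k : ℕ) : ℂ) ^ (r - 1))) /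
        (D * D) := by
    rw [← sum_schur_dual r k hr v hv hvlt, Finset.sum_div]
    apply Finset.sum_congr rfl
    intro μ _
    rw [div_mul_div_comm]
  rw [hsum]
  have hrel := alt_δ_conj_rel r k hr v
  rw [← hD] at hrel
  by_cases hD0 : D = 0
  · simp [hD0]
  · have hDc : alt ((starRingEnd ℂ) (ζ (r + k))) (δ r) v ≠ 0 := by
      rw [← alt_conj, ← hD]
      simpa using hD0
    rw [div_eq_div_iff (mul_ne_zero hD0 hD0) (mul_ne_zero hD0 hDc)]
    push_cast
    linear_combination (-(D * ((k : ℂ) * ((r : ℂ) + k) ^ (r - 1)))) * hrel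

end Statements


section Recursion

variable {r : ℕ}

theorem sum_add_sum_dual (k : ℕ) (μ : Fin r → Fin k) :
    (∑ i, (μ i : ℕ)) + (∑ i, (k - (μ (Fin.rev i) : ℕ))) = r * k := by
  have h1 : ∑ i, (k - (μ (Fin.rev i) : ℕ)) = ∑ i, (k - (μ i : ℕ)) :=
    Equiv.sum_comp (Fin.revPerm : Equiv.Perm (Fin r)) (fun i => k - (μ i : ℕ))
  rw [h1, ← Finset.sum_add_distrib]
  have : ∀ i : Fin r, (μ i : ℕ) + (k - (μ i : ℕ)) = k := by
    intro i
    have := (μ i).2
    omega
  simp [this]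

/-- S18381 -/
theorem verlinde_rec (r k : ℕ) (hr : 1 ≤ r)
    (g : ℕ) (d : ℤ) (ι : Type) [Fintype ι] (lam : ι → Fin r → ℕ)
    (z : (Fin r → ℕ) → Fin r → ℂ)
    (hz : ∀ v j, z v j = Complex.exp (2 * Real.pi * Complex.I * (v j : ℂ) / ((r : ℂ) + k)))
    (S : (Fin r → ℕ) → (Fin r → ℕ) → ℂ)
    (hS : ∀ μ v, S μ v = (Matrix.of fun i j : Fin r => z v j ^ (μ i + (r - 1 - (i : ℕ)))).det /
        (Matrix.of fun i j : Fin r => z v j ^ (r - 1 - (i : ℕ))).det)
    (P : (Fin r → ℕ) → ℝ)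
    (hP : ∀ v, P v = ∏ p ∈ (Finset.univ : Finset (Fin r × Fin r)).filter (fun p => p.1 < p.2),
        ((2 : ℝ) * Real.sin (Real.pi * ((v p.1 : ℝ) - (v p.2 : ℝ)) / ((r : ℝ) + k))) ^ 2)
    (V : ℕ → ℤ → ℕ → ((Fin r → ℕ) → ℂ) → ℂ)
    (hV : ∀ (g' : ℕ) (d' : ℤ) (w : ℕ) (Sω : (Fin r → ℕ) → ℂ), V g' d' w Sω =
        (-1 : ℂ) ^ (d' * ((r : ℤ) - 1)) * ((k : ℂ) / r) ^ g' *
          ((((r : ℂ) * ((r : ℂ) + k) ^ (r - 1)) ^ g') / ((r : ℂ) * ((r : ℂ) + k) ^ (r - 1))) *
          ∑ v ∈ (Finset.univ : Finset (Fin r → Fin (r + k))).filter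
            (fun v : Fin r → Fin (r + k) => StrictAnti v ∧ ∀ i : Fin r, (i : ℕ) = r - 1 → (v i : ℕ) = 0),
            Complex.exp (2 * Real.pi * Complex.I * ((d' : ℂ) / r - (w : ℂ) / ((r : ℂ) * ((r : ℂ) + k))) *
                ((∑ j, (v j : ℕ) : ℕ) : ℂ)) *
              Sω (fun j => (v j : ℕ)) *
              (((P (fun j => (v j : ℕ)) : ℂ)) / ((P (fun j => (v j : ℕ)) : ℂ)) ^ g')) :
    V (g + 1) d (∑ x, ∑ i, lam x i) (fun v => ∏ x, S (lam x) v) =
      ∑ μ ∈ (Finset.univ : Finset (Fin r → Fin k)).filter (fun μ : Fin r → Fin k => Antitone μ),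
        V g d ((∑ x, ∑ i, lam x i) + (∑ i, (μ i : ℕ)) + (∑ i, (k - (μ (Fin.rev i) : ℕ))))
          (fun v => (∏ x, S (lam x) v) * S (fun i => (μ i : ℕ)) v *
            S (fun i => k - (μ (Fin.rev i) : ℕ)) v) := by
  classical
  have hr0 : (r : ℂ) ≠ 0 := by
    exact_mod_cast (by omega : r ≠ 0)
  have hN0 : (r : ℂ) + k ≠ 0 := by
    have : ((r + k : ℕ) : ℂ) ≠ 0 := by
      exact_mod_cast (by omega : r + k ≠ 0)
    simpa using this
  set W := ∑ x, ∑ i, lam x i with hW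
  set X : ℂ := (r : ℂ) * ((r : ℂ) + k) ^ (r - 1) with hX
  have hX0 : X ≠ 0 := mul_ne_zero hr0 (pow_ne_zero _ hN0)
  -- the inner sum over `μ`
  have key : ∀ v ∈ (Finset.univ : Finset (Fin r → Fin (r + k))).filter
      (fun v : Fin r → Fin (r + k) => StrictAnti v ∧ ∀ i : Fin r, (i : ℕ) = r - 1 → (v i : ℕ) = 0),
      ∑ μ ∈ (Finset.univ : Finset (Fin r → Fin k)).filter (fun μ : Fin r → Fin k => Antitone μ),
        Complex.exp (2 * Real.pi * Complex.I * ((d : ℂ) / r -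
            ((W + (∑ i, (μ i : ℕ)) + (∑ i, (k - (μ (Fin.rev i) : ℕ))) : ℕ) : ℂ) /
              ((r : ℂ) * ((r : ℂ) + k))) * ((∑ j, (v j : ℕ) : ℕ) : ℂ)) *
          ((∏ x, S (lam x) (fun j => (v j : ℕ))) * S (fun i => (μ i : ℕ)) (fun j => (v j : ℕ)) *
            S (fun i => k - (μ (Fin.rev i) : ℕ)) (fun j => (v j : ℕ))) *
          (((P (fun j => (v j : ℕ)) : ℂ)) / ((P (fun j => (v j : ℕ)) : ℂ)) ^ g) =
      Complex.exp (2 * Real.pi * Complex.I * ((d : ℂ) / r - (W : ℂ) / ((r : ℂ) * ((r : ℂ) + k))) *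
            ((∑ j, (v j : ℕ) : ℕ) : ℂ)) *
          (∏ x, S (lam x) (fun j => (v j : ℕ))) *
          ((((P (fun j => (v j : ℕ)) : ℂ)) / ((P (fun j => (v j : ℕ)) : ℂ)) ^ g) *
            (((k : ℂ) * ((r : ℂ) + k) ^ (r - 1)) / (P (fun j => (v j : ℕ)) : ℂ))) := by
    intro v hv
    simp only [mem_filter, mem_univ, true_and] at hv
    set v' : Fin r → ℕ := fun j => (v j : ℕ) with hv'
    have hsa : StrictAnti v' := fun a b hab => hv.1 hab
    have hlt : ∀ i, v' i < r + k := fun i => (v i).2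
    have hmain := schur_sum_main r k hr v' hsa hlt (z v') (hz v') (fun μ => S μ v')
      (fun μ => hS μ v')
    have hPv := congrArg (fun x : ℝ => (x : ℂ)) (hP v')
    simp only [Complex.ofReal_prod] at hPv
    rw [← hPv] at hmain
    set s : ℕ := ∑ j, v' j with hs
    have hexp : ∀ μ : Fin r → Fin k,
        Complex.exp (2 * Real.pi * Complex.I * ((d : ℂ) / r -
            ((W + (∑ i, (μ i : ℕ)) + (∑ i, (k - (μ (Fin.rev i) : ℕ))) : ℕ) : ℂ) /
              ((r : ℂ) * ((r : ℂ) + k))) * (s : ℂ)) =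
        Complex.exp (2 * Real.pi * Complex.I * ((d : ℂ) / r - (W : ℂ) / ((r : ℂ) * ((r : ℂ) + k))) *
            (s : ℂ)) *
          Complex.exp (-(2 * Real.pi * Complex.I * (k : ℂ) * (s : ℂ) / ((r : ℂ) + k))) := by
      intro μ
      rw [← Complex.exp_add, add_assoc, sum_add_sum_dual]
      congr 1
      push_cast
      field_simp
      ring
    simp_rw [hexp]
    have hfact : ∀ μ : Fin r → Fin k,
        Complex.exp (2 * Real.pi * Complex.I * ((d : ℂ) / r - (W : ℂ) / ((r : ℂ) * ((r : ℂ) + k))) *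
            (s : ℂ)) *
          Complex.exp (-(2 * Real.pi * Complex.I * (k : ℂ) * (s : ℂ) / ((r : ℂ) + k))) *
          ((∏ x, S (lam x) v') * S (fun i => (μ i : ℕ)) v' *
            S (fun i => k - (μ (Fin.rev i) : ℕ)) v') *
          (((P v' : ℂ)) / ((P v' : ℂ)) ^ g) =
        (Complex.exp (2 * Real.pi * Complex.I * ((d : ℂ) / r - (W : ℂ) / ((r : ℂ) * ((r : ℂ) + k))) *
            (s : ℂ)) *
          Complex.exp (-(2 * Real.pi * Complex.I * (k : ℂ) * (s : ℂ) / ((r : ℂ) + k))) *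
          (∏ x, S (lam x) v') * (((P v' : ℂ)) / ((P v' : ℂ)) ^ g)) *
          (S (fun i => (μ i : ℕ)) v' * S (fun i => k - (μ (Fin.rev i) : ℕ)) v') := by
      intro μ
      ring
    simp_rw [hfact]
    rw [← Finset.mul_sum, hmain]
    have hcancel : Complex.exp (-(2 * Real.pi * Complex.I * (k : ℂ) * (s : ℂ) / ((r : ℂ) + k))) *
        Complex.exp (2 * Real.pi * Complex.I * (k : ℂ) * (s : ℂ) / ((r : ℂ) + k)) = 1 := by
      rw [← Complex.exp_add, neg_add_cancel, Complex.exp_zero]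
    have : ∀ (a b c e f h : ℂ), b * f = 1 → a * b * c * e * (f * h / (P v' : ℂ)) =
        a * c * (e * (h / (P v' : ℂ))) := by
      intro a b c e f h hbf
      have : a * b * c * e * (f * h / (P v' : ℂ)) = (b * f) * (a * c * (e * (h / (P v' : ℂ)))) := by
        ring
      rw [this, hbf, one_mul]
    exact this _ _ _ _ _ _ hcancel
  rw [hV]
  simp_rw [hV]
  rw [← Finset.mul_sum, Finset.sum_comm]
  rw [Finset.sum_congr rfl key]
  rw [Finset.mul_sum, Finset.mul_sum]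
  apply Finset.sum_congr rfl
  intro v _
  have e1 : ((k : ℂ) / r) ^ (g + 1) * (X ^ (g + 1) / X) =
      ((k : ℂ) / r) ^ g * (X ^ g / X) * ((k : ℂ) * ((r : ℂ) + k) ^ (r - 1)) := by
    have hX1 : X ^ (g + 1) / X = X ^ g := by
      rw [pow_succ, mul_div_assoc, div_self hX0, mul_one]
    have hNp : ((r : ℂ) + k) ^ (r - 1) ≠ 0 := pow_ne_zero _ hN0
    have hX2 : X ^ g / X * ((k : ℂ) * ((r : ℂ) + k) ^ (r - 1)) = X ^ g * ((k : ℂ) / r) := by
      rw [div_mul_eq_mul_div, div_eq_iff hX0, hX]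
      field_simp
    rw [hX1, pow_succ, mul_assoc (((k : ℂ) / r) ^ g) (X ^ g / X), hX2]
    ring
  have e2 : (P (fun j => (v j : ℕ)) : ℂ) / (P (fun j => (v j : ℕ)) : ℂ) ^ (g + 1) =
      (P (fun j => (v j : ℕ)) : ℂ) / (P (fun j => (v j : ℕ)) : ℂ) ^ g /
        (P (fun j => (v j : ℕ)) : ℂ) := by
    rw [pow_succ, div_div]
  rw [e2]
  linear_combination ((-1 : ℂ) ^ (d * ((r : ℤ) - 1)) *
    (Complex.exp (2 * Real.pi * Complex.I * ((d : ℂ) / r - (W : ℂ) / ((r : ℂ) * ((r : ℂ) + k))) *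
            ((∑ j, (v j : ℕ) : ℕ) : ℂ)) *
          (∏ x, S (lam x) (fun j => (v j : ℕ))) *
          ((P (fun j => (v j : ℕ)) : ℂ) / (P (fun j => (v j : ℕ)) : ℂ) ^ g /
        (P (fun j => (v j : ℕ)) : ℂ)))) * e1

end Recursion


section Master

variable {r : ℕ}

theorem ζ_mul_pow (r N : ℕ) (hr : r ≠ 0) (hN : N ≠ 0) : ζ (r * N) ^ r = ζ N := by
  unfold ζ
  rw [← Complex.exp_nat_mul]
  congr 1
  have h1 : (r : ℂ) ≠ 0 := by exact_mod_cast hr
  have h2 : (N : ℂ) ≠ 0 := by exact_mod_cast hN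
  push_cast
  field_simp

theorem conj_pow_mul_pow (ξ : ℂ) (h : ξ * (starRingEnd ℂ) ξ = 1) (n : ℕ) :
    (starRingEnd ℂ) ξ ^ n * ξ ^ n = 1 := by
  rw [← mul_pow, mul_comm, h, one_pow]

/-- the arithmetic heart: congruences mod `r N` force a constant difference -/
theorem const_of_cong {N : ℕ} (hr : r ≠ 0) (α β : Fin r → ℕ) (hα : StrictAnti α)
    (hβ : StrictAnti β) (hαN : ∀ i, α i < N) (hβN : ∀ i, β i < N)
    (π π' : Equiv.Perm (Fin r)) (c : ℤ) (hc : c = ((∑ i, α i : ℕ) : ℤ) - ((∑ i, β i : ℕ) : ℤ))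
    (h : ∀ j, ((r * N : ℕ) : ℤ) ∣ (r : ℤ) * ((α (π j) : ℤ) - (β (π' j) : ℤ)) - c) :
    ∃ a : ℤ, ∀ i, (α i : ℤ) - (β i : ℤ) = a := by
  classical
  have hN : N ≠ 0 := by
    intro h0
    have := hαN ⟨0, Nat.pos_of_ne_zero hr⟩
    omega
  choose m hm using h
  have hrZ : (r : ℤ) ≠ 0 := by exact_mod_cast hr
  have hNZ : (0 : ℤ) < N := by exact_mod_cast Nat.pos_of_ne_zero hN
  have hsumα : ∑ j, (α (π j) : ℤ) = ((∑ i, α i : ℕ) : ℤ) := by
    rw [Equiv.sum_comp π (fun i => (α i : ℤ))]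
    push_cast
    rfl
  have hsumβ : ∑ j, (β (π' j) : ℤ) = ((∑ i, β i : ℕ) : ℤ) := by
    rw [Equiv.sum_comp π' (fun i => (β i : ℤ))]
    push_cast
    rfl
  have hsum : ∑ j, m j = 0 := by
    have h1 : ∑ j, ((r : ℤ) * ((α (π j) : ℤ) - (β (π' j) : ℤ)) - c) =
        ∑ j, ((r * N : ℕ) : ℤ) * m j := Finset.sum_congr rfl (fun j _ => hm j)
    rw [Finset.sum_sub_distrib, ← Finset.mul_sum, Finset.sum_sub_distrib, hsumα, hsumβ, ← hc,
      ← Finset.mul_sum] at h1
    simp only [Finset.sum_const, Finset.card_univ, Fintype.card_fin, nsmul_eq_mul] at h1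
    have h2 : ((r * N : ℕ) : ℤ) * ∑ j, m j = 0 := by
      rw [← h1]
      ring
    rcases mul_eq_zero.1 h2 with h3 | h3
    · exfalso
      have : (r * N : ℕ) ≠ 0 := Nat.mul_ne_zero hr hN
      exact this (by exact_mod_cast h3)
    · exact h3
  -- bounds
  have hx : ∀ j j', (r : ℤ) * (((α (π j) : ℤ) - (β (π' j) : ℤ)) -
      ((α (π j') : ℤ) - (β (π' j') : ℤ))) = ((r * N : ℕ) : ℤ) * (m j - m j') := by
    intro j j'
    have h1 := hm j
    have h2 := hm j'
    linear_combination h1 - h2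
  have hdiff : ∀ j j', m j - m j' < 2 := by
    intro j j'
    by_contra hcon
    push Not at hcon
    have h1 := hx j j'
    have b1 : (α (π j) : ℤ) < N := by exact_mod_cast hαN (π j)
    have b2 : (β (π' j') : ℤ) < N := by exact_mod_cast hβN (π' j')
    have b3 : (0 : ℤ) ≤ (β (π' j) : ℤ) := by positivity
    have b4 : (0 : ℤ) ≤ (α (π j') : ℤ) := by positivity
    have hrpos : (0 : ℤ) < r := by exact_mod_cast Nat.pos_of_ne_zero hr
    have h3 : ((r * N : ℕ) : ℤ) * (m j - m j') ≥ (r : ℤ) * N * 2 := by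
      push_cast
      apply mul_le_mul_of_nonneg_left hcon
      positivity
    have h4 : (r : ℤ) * (((α (π j) : ℤ) - (β (π' j) : ℤ)) -
        ((α (π j') : ℤ) - (β (π' j') : ℤ))) < (r : ℤ) * (2 * N) := by
      apply mul_lt_mul_of_pos_left _ hrpos
      linarith
    rw [h1] at h4
    linarith
  have hm0 : ∀ j, m j = 0 := by
    intro j
    by_contra hj
    rcases lt_or_gt_of_ne hj with hneg | hpos
    · -- some m j' ≥ 1
      have : ∃ j', 0 < m j' := by
        by_contra hcon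
        push Not at hcon
        have h1 : ∑ j', m j' ≤ m j + ∑ j' ∈ (univ : Finset (Fin r)).erase j, 0 := by
          rw [← Finset.add_sum_erase _ _ (mem_univ j)]
          apply add_le_add_right
          apply Finset.sum_le_sum
          intro i _
          exact hcon i
        simp at h1
        omega
      obtain ⟨j', hj'⟩ := this
      have := hdiff j' j
      omega
    · have : ∃ j', m j' < 0 := by
        by_contra hcon
        push Not at hcon
        have h1 : m j + ∑ j' ∈ (univ : Finset (Fin r)).erase j, 0 ≤ ∑ j', m j' := by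
          rw [← Finset.add_sum_erase _ _ (mem_univ j)]
          apply add_le_add_right
          apply Finset.sum_le_sum
          intro i _
          exact hcon i
        simp at h1
        omega
      obtain ⟨j', hj'⟩ := this
      have := hdiff j j'
      omega
  -- constant difference along the permutations
  have hconst : ∀ j, (r : ℤ) * ((α (π j) : ℤ) - (β (π' j) : ℤ)) = c := by
    intro j
    have := hm j
    rw [hm0 j, mul_zero] at this
    linarith
  have hconst' : ∀ j j', (α (π j) : ℤ) - (β (π' j) : ℤ) = (α (π j') : ℤ) - (β (π' j') : ℤ) := by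
    intro j j'
    have h1 := hconst j
    have h2 := hconst j'
    exact mul_left_cancel₀ hrZ (h1.trans h2.symm)
  set j0 : Fin r := ⟨0, Nat.pos_of_ne_zero hr⟩
  set a : ℤ := (α (π j0) : ℤ) - (β (π' j0) : ℤ) with ha
  -- `α ∘ (π * π'⁻¹) = β + a`
  have hτ : ∀ i, (α ((π * π'⁻¹) i) : ℤ) = (β i : ℤ) + a := by
    intro i
    have := hconst' (π'⁻¹ i) j0
    rw [show π' (π'⁻¹ i) = i from Equiv.apply_symm_apply π' i] at this
    rw [Equiv.Perm.coe_mul, Function.comp_apply]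
    linarith
  have hsa : StrictAnti (α ∘ (π * π'⁻¹)) := by
    intro i j hij
    have h1 := hτ i
    have h2 := hτ j
    have h3 : (β j : ℤ) < β i := by exact_mod_cast hβ hij
    have : (α ((π * π'⁻¹) j) : ℤ) < α ((π * π'⁻¹) i) := by linarith
    exact_mod_cast this
  have hone := perm_eq_one_of_strictAnti hα _ hsa
  refine ⟨a, fun i => ?_⟩
  have := hτ i
  rw [hone] at this
  simp only [Equiv.Perm.coe_one, id] at this
  linarith

end Master


section MasterOne

variable {r : ℕ}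

/-- `κ ^ r * ζ ^ A * conj ζ ^ B = 1` for the twisting constant `κ`. -/
theorem kappa_pow_r (r N : ℕ) (hr : r ≠ 0) (hN : N ≠ 0) (A B : ℕ) (κ : ℂ)
    (hκ : κ = ζ (r * N) ^ B * (starRingEnd ℂ) (ζ (r * N)) ^ A) :
    κ ^ r * ζ N ^ A * (starRingEnd ℂ) (ζ N) ^ B = 1 := by
  have h1 : κ ^ r = ζ N ^ B * (starRingEnd ℂ) (ζ N) ^ A := by
    rw [hκ, mul_pow, ← pow_mul, ← pow_mul, mul_comm B r, mul_comm A r, pow_mul, pow_mul,
      ← map_pow, ζ_mul_pow r N hr hN]
  rw [h1]
  have h2 := conj_pow_mul_pow (ζ N) (ζ_mul_conj N) A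
  have h3 := conj_pow_mul_pow (ζ N) (ζ_mul_conj N) B
  linear_combination (ζ N ^ B * (starRingEnd ℂ) (ζ N) ^ B) * h2 + h3

theorem master_case_one (r N : ℕ) (hr : 1 ≤ r) (hN : 1 ≤ N) (α β : Fin r → ℕ)
    (hα : StrictAnti α) (hβ : StrictAnti β) (hαN : ∀ i, α i < N) (hβN : ∀ i, β i < N)
    (hne : ¬ ∃ a : ℤ, ∀ i, (α i : ℤ) - (β i : ℤ) = a) (κ : ℂ)
    (hκ : κ = ζ (r * N) ^ (∑ i, β i) * (starRingEnd ℂ) (ζ (r * N)) ^ (∑ i, α i))
    (hη : κ ^ N = 1) :
    ∑ u ∈ (univ : Finset (Fin r → Fin N)).filter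
        (fun u : Fin r → Fin N => StrictAnti u ∧ u (lastIdx r hr) = zeroVal N hN),
      κ ^ (∑ j, (u j : ℕ)) * alt (ζ N) α (fun j => (u j : ℕ)) *
        alt ((starRingEnd ℂ) (ζ N)) β (fun j => (u j : ℕ)) = 0 := by
  classical
  have hr0 : r ≠ 0 := by omega
  have hN0 : N ≠ 0 := by omega
  set l := lastIdx r hr with hl
  have hstab := stab_mul_sum_alcove N (ζ N) ((starRingEnd ℂ) (ζ N)) κ (ζ_pow N hN0)
    (conj_ζ_pow N hN0) hη α β l (le_lastIdx hr) (zeroVal N hN) rfl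
  have hzero : ∑ π : Equiv.Perm (Fin r), ∑ π' : Equiv.Perm (Fin r),
        ((Equiv.Perm.sign π : ℂ) * (Equiv.Perm.sign π' : ℂ)) *
          (if ∀ j, j ≠ l → κ * ζ N ^ α (π j) * (starRingEnd ℂ) (ζ N) ^ β (π' j) = 1 then (1 : ℂ)
            else 0) = 0 := by
    apply Finset.sum_eq_zero
    intro π _
    apply Finset.sum_eq_zero
    intro π' _
    rw [if_neg, mul_zero]
    intro hall
    apply hne
    set ω := ζ (r * N) with hω
    have hωprim : IsPrimitiveRoot ω (r * N) := ζ_prim (r * N) (Nat.mul_ne_zero hr0 hN0)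
    have hωr : ω ^ r = ζ N := ζ_mul_pow r N hr0 hN0
    -- the product of all terms is one
    have hprod : ∏ j, (κ * ζ N ^ α (π j) * (starRingEnd ℂ) (ζ N) ^ β (π' j)) = 1 := by
      rw [Finset.prod_mul_distrib, Finset.prod_mul_distrib, Finset.prod_const,
        Finset.prod_pow_eq_pow_sum, Finset.prod_pow_eq_pow_sum,
        Equiv.sum_comp π α, Equiv.sum_comp π' β, Finset.card_univ, Fintype.card_fin]
      exact kappa_pow_r r N hr0 hN0 _ _ κ hκ
    have hl1 : κ * ζ N ^ α (π l) * (starRingEnd ℂ) (ζ N) ^ β (π' l) = 1 := by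
      rw [← Finset.mul_prod_erase _ _ (mem_univ l), Finset.prod_eq_one, mul_one] at hprod
      · exact hprod
      · intro j hj
        exact hall j (Finset.ne_of_mem_erase hj)
    have hall' : ∀ j, κ * ζ N ^ α (π j) * (starRingEnd ℂ) (ζ N) ^ β (π' j) = 1 := by
      intro j
      by_cases hj : j = l
      · rw [hj]
        exact hl1
      · exact hall j hj
    apply const_of_cong hr0 α β hα hβ hαN hβN π π' _ rfl
    intro j
    have h1 := hall' j
    rw [hκ, ← hωr, map_pow, ← pow_mul, ← pow_mul] at h1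
    have h2 : ω ^ ((∑ i, β i) + r * α (π j)) =
        ω ^ ((∑ i, α i) + r * β (π' j)) := by
      have e1 := conj_pow_mul_pow ω (ζ_mul_conj (r * N)) ((∑ i, α i) + r * β (π' j))
      calc ω ^ ((∑ i, β i) + r * α (π j))
          = ω ^ ((∑ i, β i) + r * α (π j)) * ((starRingEnd ℂ) ω ^ ((∑ i, α i) + r * β (π' j)) *
              ω ^ ((∑ i, α i) + r * β (π' j))) := by rw [e1, mul_one]
        _ = (ω ^ (∑ i, β i) * (starRingEnd ℂ) ω ^ (∑ i, α i) * ω ^ (r * α (π j)) *
              (starRingEnd ℂ) ω ^ (r * β (π' j))) * ω ^ ((∑ i, α i) + r * β (π' j)) := by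
            rw [pow_add, pow_add]
            ring
        _ = ω ^ ((∑ i, α i) + r * β (π' j)) := by rw [h1, one_mul]
    have hω0 : ω ≠ 0 := hωprim.ne_zero (Nat.mul_ne_zero hr0 hN0)
    have h3 : ω ^ ((((∑ i, β i) + r * α (π j) : ℕ) : ℤ) - (((∑ i, α i) + r * β (π' j) : ℕ) : ℤ)) = 1 := by
      rw [zpow_sub₀ hω0, zpow_natCast, zpow_natCast, h2, div_self (pow_ne_zero _ hω0)]
    have h4 := (hωprim.zpow_eq_one_iff_dvd _).1 h3
    convert h4 using 1
    push_cast
    ring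
  rw [hzero, mul_zero] at hstab
  have h3 : (stab l : ℂ) ≠ 0 := by
    exact_mod_cast (stab_pos l).ne'
  exact (mul_eq_zero.1 hstab).resolve_left h3

end MasterOne


section Twisted

variable {r : ℕ}

/-- the twisted product of alternants, on tuples of naturals -/
noncomputable def tw (ξ₁ ξ₂ κ : ℂ) (a b u : Fin r → ℕ) : ℂ :=
  κ ^ (∑ j, u j) * alt ξ₁ a u * alt ξ₂ b u

theorem tw_comp_perm (ξ₁ ξ₂ κ : ℂ) (a b u : Fin r → ℕ) (σ : Equiv.Perm (Fin r)) :
    tw ξ₁ ξ₂ κ a b (u ∘ σ) = tw ξ₁ ξ₂ κ a b u := by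
  unfold tw
  have h1 : ∑ j, (u ∘ σ) j = ∑ j, u j := Equiv.sum_comp σ u
  rw [h1, alt_comp_perm, alt_comp_perm]
  have : (Equiv.Perm.sign σ : ℂ) * (Equiv.Perm.sign σ : ℂ) = 1 := by
    norm_cast
    simp
  linear_combination (κ ^ (∑ j, u j) * alt ξ₁ a u * alt ξ₂ b u) * this

theorem tw_add_const (ξ₁ ξ₂ κ : ℂ) (a b u : Fin r → ℕ)
    (h : κ ^ r * ξ₁ ^ (∑ i, a i) * ξ₂ ^ (∑ i, b i) = 1) (t : ℕ) :
    tw ξ₁ ξ₂ κ a b (fun j => u j + t) = tw ξ₁ ξ₂ κ a b u := by
  unfold tw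
  rw [alt_add_const, alt_add_const, Finset.sum_add_distrib]
  simp only [Finset.sum_const, Finset.card_univ, Fintype.card_fin, smul_eq_mul]
  rw [pow_add, pow_mul, mul_comm t, pow_mul, mul_comm t, pow_mul]
  have : (κ ^ r) ^ t * (ξ₁ ^ (∑ i, a i)) ^ t * (ξ₂ ^ (∑ i, b i)) ^ t = 1 := by
    rw [← mul_pow, ← mul_pow, h, one_pow]
  linear_combination (κ ^ (∑ j, u j) * alt ξ₁ a u * alt ξ₂ b u) * this

theorem alt_add_period (ξ : ℂ) (N : ℕ) (hξ : ξ ^ N = 1) (a u : Fin r → ℕ) (j0 : Fin r) :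
    alt ξ a (fun j => u j + (if j = j0 then N else 0)) = alt ξ a u := by
  unfold alt
  congr 1
  ext i j
  simp only [Matrix.of_apply]
  split_ifs with h
  · rw [mul_add, pow_add, mul_comm (a i) N, pow_mul ξ N, hξ, one_pow, mul_one]
  · rw [add_zero]

theorem tw_add_period (ξ₁ ξ₂ κ : ℂ) (N : ℕ) (h1 : ξ₁ ^ N = 1) (h2 : ξ₂ ^ N = 1)
    (a b u : Fin r → ℕ) (j0 : Fin r) :
    tw ξ₁ ξ₂ κ a b (fun j => u j + (if j = j0 then N else 0)) = κ ^ N * tw ξ₁ ξ₂ κ a b u := by
  unfold tw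
  rw [alt_add_period ξ₁ N h1, alt_add_period ξ₂ N h2, Finset.sum_add_distrib]
  simp only [Finset.sum_ite_eq', Finset.mem_univ, if_true]
  rw [pow_add]
  ring

end Twisted


section Rotation

variable {n : ℕ}

/-- rotation of an alcove element, on tuples of naturals -/
def rotN (N : ℕ) (u : Fin (n + 2) → ℕ) : Fin (n + 2) → ℕ :=
  Fin.snoc (fun i : Fin (n + 1) => u i.succ + (N - u 0)) 0

theorem rotN_castSucc (N : ℕ) (u : Fin (n + 2) → ℕ) (i : Fin (n + 1)) :
    rotN N u i.castSucc = u i.succ + (N - u 0) := by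
  simp [rotN]

theorem rotN_last (N : ℕ) (u : Fin (n + 2) → ℕ) : rotN N u (Fin.last (n + 1)) = 0 := by
  simp [rotN]

theorem rotN_eq (N : ℕ) (u : Fin (n + 2) → ℕ) :
    rotN N u = (Fin.cons 0 (fun i : Fin (n + 1) => u i.succ + (N - u 0)) : Fin (n + 2) → ℕ) ∘
      finRotate (n + 2) := by
  ext i
  refine Fin.lastCases ?_ (fun i => ?_) i
  · rw [rotN_last, Function.comp_apply, finRotate_last, Fin.cons_zero]
  · rw [rotN_castSucc, Function.comp_apply, finRotate_apply, Fin.coeSucc_eq_succ,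
      Fin.cons_succ]

theorem tw_rotN (ξ₁ ξ₂ κ : ℂ) (N : ℕ) (h1 : ξ₁ ^ N = 1) (h2 : ξ₂ ^ N = 1)
    (a b : Fin (n + 2) → ℕ)
    (h : κ ^ (n + 2) * ξ₁ ^ (∑ i, a i) * ξ₂ ^ (∑ i, b i) = 1) (u : Fin (n + 2) → ℕ)
    (hu : u 0 ≤ N) :
    tw ξ₁ ξ₂ κ a b u = κ ^ N * tw ξ₁ ξ₂ κ a b (rotN N u) := by
  rw [rotN_eq, tw_comp_perm, ← tw_add_period ξ₁ ξ₂ κ N h1 h2 a b _ 0,
    ← tw_add_const ξ₁ ξ₂ κ a b u h (N - u 0)]
  congr 1
  ext j
  refine Fin.cases ?_ (fun i => ?_) j
  · simp only [Fin.cons_zero, if_true]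
    omega
  · simp only [Fin.cons_succ, Fin.succ_ne_zero, if_false, add_zero]

/-- rotation on tuples with values in `Fin N` -/
def rot (N : ℕ) (hN : 0 < N) (u : Fin (n + 2) → Fin N) : Fin (n + 2) → Fin N :=
  fun i => ⟨rotN N (fun j => (u j : ℕ)) i % N, Nat.mod_lt _ hN⟩

theorem rot_spec (N : ℕ) (hN : 0 < N) (u : Fin (n + 2) → Fin N) (hsa : StrictAnti u) :
    (fun j => (rot N hN u j : ℕ)) = rotN N (fun j => (u j : ℕ)) := by
  ext i
  simp only [rot]
  apply Nat.mod_eq_of_lt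
  refine Fin.lastCases ?_ (fun i => ?_) i
  · rw [rotN_last]
    exact hN
  · rw [rotN_castSucc]
    have h1 : u i.succ < u 0 := hsa (Fin.succ_pos i)
    have h2 := (u 0).2
    rw [Fin.lt_def] at h1
    omega

theorem rot_strictAnti (N : ℕ) (hN : 0 < N) (u : Fin (n + 2) → Fin N) (hsa : StrictAnti u) :
    StrictAnti (rot N hN u) := by
  have hspec := rot_spec N hN u hsa
  have hval : ∀ i, (rot N hN u i : ℕ) = rotN N (fun j => (u j : ℕ)) i := fun i => congrFun hspec i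
  intro a b hab
  rw [Fin.lt_def, hval, hval]
  revert hab
  refine Fin.lastCases ?_ (fun b' => ?_) b
  · intro hab
    revert hab
    refine Fin.lastCases ?_ (fun a' => ?_) a
    · intro hab
      exact absurd hab (lt_irrefl _)
    · intro _
      rw [rotN_last, rotN_castSucc]
      have h2 := (u 0).2
      omega
  · intro hab
    revert hab
    refine Fin.lastCases ?_ (fun a' => ?_) a
    · intro hab
      exact absurd hab (not_lt.2 (Fin.le_last _))
    · intro hab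
      rw [rotN_castSucc, rotN_castSucc]
      have h1 : u b'.succ < u a'.succ := by
        apply hsa
        rw [Fin.lt_def] at hab ⊢
        simpa using hab
      rw [Fin.lt_def] at h1
      omega

theorem rot_last (N : ℕ) (hN : 0 < N) (u : Fin (n + 2) → Fin N) (hsa : StrictAnti u) :
    (rot N hN u (Fin.last (n + 1)) : ℕ) = 0 := by
  have hspec := rot_spec N hN u hsa
  rw [congrFun hspec (Fin.last (n + 1)), rotN_last]

theorem rot_injOn (N : ℕ) (hN : 0 < N) (u u' : Fin (n + 2) → Fin N) (hsa : StrictAnti u)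
    (hsa' : StrictAnti u') (hl : (u (Fin.last (n + 1)) : ℕ) = 0)
    (hl' : (u' (Fin.last (n + 1)) : ℕ) = 0) (h : rot N hN u = rot N hN u') : u = u' := by
  have hspec := rot_spec N hN u hsa
  have hspec' := rot_spec N hN u' hsa'
  have hval : ∀ i : Fin (n + 1), (u i.succ : ℕ) + (N - (u 0 : ℕ)) =
      (u' i.succ : ℕ) + (N - (u' 0 : ℕ)) := by
    intro i
    have e1 := congrFun hspec i.castSucc
    have e2 := congrFun hspec' i.castSucc
    rw [rotN_castSucc] at e1 e2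
    rw [← e1, ← e2, h]
  have h0 : (u 0 : ℕ) = u' 0 := by
    have := hval (Fin.last n)
    rw [Fin.succ_last, hl, hl'] at this
    have h2 := (u 0).2
    have h3 := (u' 0).2
    omega
  ext j
  refine Fin.cases ?_ (fun i => ?_) j
  · exact h0
  · have := hval i
    omega

end Rotation


section MasterNe

theorem master_case_ne (n N : ℕ) (hN : 1 ≤ N) (α β : Fin (n + 2) → ℕ) (κ : ℂ)
    (hκ : κ = ζ ((n + 2) * N) ^ (∑ i, β i) * (starRingEnd ℂ) (ζ ((n + 2) * N)) ^ (∑ i, α i))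
    (hη : κ ^ N ≠ 1) (hr : 1 ≤ n + 2) :
    ∑ u ∈ (univ : Finset (Fin (n + 2) → Fin N)).filter
        (fun u : Fin (n + 2) → Fin N => StrictAnti u ∧ u (lastIdx (n + 2) hr) = zeroVal N hN),
      κ ^ (∑ j, (u j : ℕ)) * alt (ζ N) α (fun j => (u j : ℕ)) *
        alt ((starRingEnd ℂ) (ζ N)) β (fun j => (u j : ℕ)) = 0 := by
  classical
  have hN0 : N ≠ 0 := by omega
  have hNpos : 0 < N := by omega
  have hlast : lastIdx (n + 2) hr = Fin.last (n + 1) := Fin.ext (by simp [lastIdx])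
  set A := (univ : Finset (Fin (n + 2) → Fin N)).filter
        (fun u : Fin (n + 2) → Fin N => StrictAnti u ∧ u (lastIdx (n + 2) hr) = zeroVal N hN) with hA
  have hmemA : ∀ u : Fin (n + 2) → Fin N, u ∈ A ↔
      (StrictAnti u ∧ (u (Fin.last (n + 1)) : ℕ) = 0) := by
    intro u
    rw [hA, mem_filter, hlast, Fin.ext_iff]
    simp [zeroVal]
  have hrel := kappa_pow_r (n + 2) N (by omega) hN0 (∑ i, α i) (∑ i, β i) κ hκ
  set F : (Fin (n + 2) → Fin N) → ℂ := fun u =>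
    tw (ζ N) ((starRingEnd ℂ) (ζ N)) κ α β (fun j => (u j : ℕ)) with hF
  have hsummand : ∀ u : Fin (n + 2) → Fin N,
      κ ^ (∑ j, (u j : ℕ)) * alt (ζ N) α (fun j => (u j : ℕ)) *
        alt ((starRingEnd ℂ) (ζ N)) β (fun j => (u j : ℕ)) = F u := fun u => rfl
  simp_rw [hsummand]
  have hstep : ∀ u ∈ A, F u = κ ^ N * F (rot N hNpos u) := by
    intro u hu
    rw [hmemA] at hu
    simp only [hF]
    rw [rot_spec N hNpos u hu.1]
    apply tw_rotN _ _ _ N (ζ_pow N hN0) (conj_ζ_pow N hN0) α β hrel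
    exact (u 0).2.le
  have himage : A.image (rot N hNpos) = A := by
    apply Finset.eq_of_subset_of_card_le
    · intro u' hu'
      rw [Finset.mem_image] at hu'
      obtain ⟨u, hu, rfl⟩ := hu'
      rw [hmemA] at hu ⊢
      exact ⟨rot_strictAnti N hNpos u hu.1, rot_last N hNpos u hu.1⟩
    · rw [Finset.card_image_of_injOn]
      intro u hu u' hu' h
      rw [Finset.mem_coe, hmemA] at hu hu'
      exact rot_injOn N hNpos u u' hu.1 hu'.1 hu.2 hu'.2 h
  have hsum : ∑ u ∈ A, F u = κ ^ N * ∑ u ∈ A, F u := by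
    conv_lhs => rw [Finset.sum_congr rfl hstep, ← Finset.mul_sum]
    congr 1
    conv_rhs => rw [← himage]
    rw [Finset.sum_image]
    intro u hu u' hu' h
    rw [Finset.mem_coe, hmemA] at hu hu'
    exact rot_injOn N hNpos u u' hu.1 hu'.1 hu.2 hu'.2 h
  have h1 : (1 - κ ^ N) * ∑ u ∈ A, F u = 0 := by
    linear_combination hsum
  rcases mul_eq_zero.1 h1 with h2 | h2
  · exact absurd (sub_eq_zero.1 h2).symm hη
  · exact h2

/-- the master orthogonality on the alcove -/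
theorem master (r N : ℕ) (hr : 1 ≤ r) (hN : 1 ≤ N) (α β : Fin r → ℕ)
    (hα : StrictAnti α) (hβ : StrictAnti β) (hαN : ∀ i, α i < N) (hβN : ∀ i, β i < N)
    (hne : ¬ ∃ a : ℤ, ∀ i, (α i : ℤ) - (β i : ℤ) = a) (κ : ℂ)
    (hκ : κ = ζ (r * N) ^ (∑ i, β i) * (starRingEnd ℂ) (ζ (r * N)) ^ (∑ i, α i)) :
    ∑ u ∈ (univ : Finset (Fin r → Fin N)).filter
        (fun u : Fin r → Fin N => StrictAnti u ∧ ∀ i : Fin r, (i : ℕ) = r - 1 → (u i : ℕ) = 0),
      κ ^ (∑ j, (u j : ℕ)) * alt (ζ N) α (fun j => (u j : ℕ)) *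
        alt ((starRingEnd ℂ) (ζ N)) β (fun j => (u j : ℕ)) = 0 := by
  rw [alcove_filter_eq hr hN]
  by_cases hη : κ ^ N = 1
  · exact master_case_one r N hr hN α β hα hβ hαN hβN hne κ hκ hη
  · rcases Nat.lt_or_ge r 2 with h2 | h2
    · exfalso
      apply hne
      have hr1 : r = 1 := by omega
      subst hr1
      refine ⟨(α 0 : ℤ) - (β 0 : ℤ), fun i => ?_⟩
      rw [Subsingleton.elim i 0]
    · obtain ⟨n, rfl⟩ : ∃ n, r = n + 2 := ⟨r - 2, by omega⟩
      exact master_case_ne n N hN α β κ hκ hη hr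

end MasterNe


section Vanish

variable {r : ℕ}

theorem conj_ζ_eq (M : ℕ) :
    (starRingEnd ℂ) (ζ M) = Complex.exp (-(2 * Real.pi * Complex.I / M)) := by
  unfold ζ
  rw [← Complex.exp_conj]
  congr 1
  rw [map_div₀, map_mul, map_mul, Complex.conj_I, Complex.conj_ofReal, map_natCast]
  have : (starRingEnd ℂ) (2 : ℂ) = 2 := by
    rw [show (2 : ℂ) = ((2 : ℕ) : ℂ) by norm_num, map_natCast]
  rw [this]
  ring

theorem exp_neg_eq_conj_ζ_pow (M m : ℕ) (x : ℂ) (hx : x = 2 * Real.pi * Complex.I * m / M) :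
    Complex.exp (-x) = (starRingEnd ℂ) (ζ M) ^ m := by
  rw [conj_ζ_eq, ← Complex.exp_nat_mul, hx]
  congr 1
  ring

theorem alt_δ_ne_zero (N : ℕ) (hN : N ≠ 0) (w : Fin r → ℕ) (hw : Function.Injective w)
    (hwN : ∀ i, w i < N) : alt (ζ N) (δ r) w ≠ 0 := by
  rw [alt_δ_eq]
  apply mul_ne_zero
  · rcases Int.units_eq_one_or (Equiv.Perm.sign (Fin.revPerm : Equiv.Perm (Fin r))) with h | h <;>
      simp [h]
  · rw [Finset.prod_ne_zero_iff]
    intro i _
    rw [Finset.prod_ne_zero_iff]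
    intro j hj
    rw [sub_ne_zero]
    intro h
    have h1 := hw (ζ_pow_injective N hN (hwN j) (hwN i) h)
    rw [h1] at hj
    simp at hj

theorem sign_mul_self (σ : Equiv.Perm (Fin r)) :
    (Equiv.Perm.sign σ : ℂ) * (Equiv.Perm.sign σ : ℂ) = 1 := by
  norm_cast
  simp

/-- S19895 -/
theorem verlinde_vanish (r k : ℕ) (hr : 1 ≤ r)
    (lam lam' : Fin r → ℕ) (hlam : Antitone lam) (hlamk : ∀ i, lam i ≤ k)
    (hlam' : Antitone lam') (hlam'k : ∀ i, lam' i ≤ k)
    (hne : ¬ ∃ a : ℤ, ∀ i, (lam i : ℤ) - ((k - lam' (Fin.rev i) : ℕ) : ℤ) = a)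
    (z : (Fin r → ℕ) → Fin r → ℂ)
    (hz : ∀ v j, z v j = Complex.exp (2 * Real.pi * Complex.I * (v j : ℂ) / ((r : ℂ) + k)))
    (S : (Fin r → ℕ) → (Fin r → ℕ) → ℂ)
    (hS : ∀ μ v, S μ v = (Matrix.of fun i j : Fin r => z v j ^ (μ i + (r - 1 - (i : ℕ)))).det /
        (Matrix.of fun i j : Fin r => z v j ^ (r - 1 - (i : ℕ))).det)
    (P : (Fin r → ℕ) → ℝ)
    (hP : ∀ v, P v = ∏ p ∈ (Finset.univ : Finset (Fin r × Fin r)).filter (fun p => p.1 < p.2),
        ((2 : ℝ) * Real.sin (Real.pi * ((v p.1 : ℝ) - (v p.2 : ℝ)) / ((r : ℝ) + k))) ^ 2) :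
    (∑ v ∈ (Finset.univ : Finset (Fin r → Fin (r + k))).filter
        (fun v : Fin r → Fin (r + k) => StrictAnti v ∧ ∀ i : Fin r, (i : ℕ) = r - 1 → (v i : ℕ) = 0),
      Complex.exp (-(2 * Real.pi * Complex.I * (((∑ i, lam i) + (∑ i, lam' i) : ℕ) : ℂ) *
          ((∑ j, (v j : ℕ) : ℕ) : ℂ) / ((r : ℂ) * ((r : ℂ) + k)))) *
        S lam (fun j => (v j : ℕ)) * S lam' (fun j => (v j : ℕ)) * (P (fun j => (v j : ℕ)) : ℂ)) = 0 := by
  classical
  have hr0 : r ≠ 0 := by omega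
  have hN0 : r + k ≠ 0 := by omega
  set α : Fin r → ℕ := fun i => lam i + δ r i with hαdef
  set βs : Fin r → ℕ := fun i => (k - lam' (Fin.rev i)) + δ r i with hβdef
  have hδanti : StrictAnti (δ r) := by
    intro i j hij
    simp only [δ]
    rw [Fin.lt_def] at hij
    have := j.2
    omega
  have hα : StrictAnti α := by
    intro i j hij
    have h1 := hlam hij.le
    have h2 := hδanti hij
    simp only [hαdef]
    omega
  have hβ : StrictAnti βs := by
    intro i j hij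
    have h1 : lam' (Fin.rev i) ≤ lam' (Fin.rev j) := hlam' (Fin.rev_le_rev.2 hij.le)
    have h2 := hδanti hij
    have h3 := hlam'k (Fin.rev j)
    simp only [hβdef]
    omega
  have hαN : ∀ i, α i < r + k := by
    intro i
    have := hlamk i
    have := δ_lt r (le_refl r) i
    simp only [hαdef]
    omega
  have hβN : ∀ i, βs i < r + k := by
    intro i
    have := δ_lt r (le_refl r) i
    simp only [hβdef]
    omega
  have hne' : ¬ ∃ a : ℤ, ∀ i, (α i : ℤ) - (βs i : ℤ) = a := by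
    rintro ⟨a, ha⟩
    apply hne
    refine ⟨a, fun i => ?_⟩
    rw [← ha i]
    simp only [hαdef, hβdef]
    push_cast
    ring
  set ω := ζ (r * (r + k)) with hω
  set κ := ω ^ (∑ i, βs i) * (starRingEnd ℂ) ω ^ (∑ i, α i) with hκ
  have hmaster := master r (r + k) hr (by omega) α βs hα hβ hαN hβN hne' κ hκ
  rw [← hmaster]
  apply Finset.sum_congr rfl
  intro v hv
  simp only [mem_filter, mem_univ, true_and] at hv
  set v' : Fin r → ℕ := fun j => (v j : ℕ) with hv'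
  have hsa : StrictAnti v' := fun a b hab => hv.1 hab
  have hlt : ∀ i, v' i < r + k := fun i => (v i).2
  set s : ℕ := ∑ j, v' j with hs
  set D := alt (ζ (r + k)) (δ r) v' with hD
  have hD0 : D ≠ 0 := alt_δ_ne_zero (r + k) hN0 v' hsa.injective hlt
  have hS1 : S lam v' = alt (ζ (r + k)) α v' / D := by
    rw [hS, det_eq_alt r k v' (z v') (hz v') (fun i => lam i + (r - 1 - (i : ℕ))),
      det_eq_alt r k v' (z v') (hz v') (fun i => (r - 1 - (i : ℕ)))]
    rfl
  have hS2 : S lam' v' = alt (ζ (r + k)) (fun i => lam' i + δ r i) v' / D := by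
    rw [hS, det_eq_alt r k v' (z v') (hz v') (fun i => lam' i + (r - 1 - (i : ℕ))),
      det_eq_alt r k v' (z v') (hz v') (fun i => (r - 1 - (i : ℕ)))]
    rfl
  have hPv : (P v' : ℂ) = D * alt ((starRingEnd ℂ) (ζ (r + k))) (δ r) v' := by
    rw [hD, alt_δ_mul_conj, hP]
    push_cast
    rfl
  have hdual : alt (ζ (r + k)) (fun i => lam' i + δ r i) v' =
      (Equiv.Perm.sign (Fin.revPerm : Equiv.Perm (Fin r)) : ℂ) *
        (starRingEnd ℂ) (ζ (r + k) ^ s) * alt ((starRingEnd ℂ) (ζ (r + k))) βs v' := by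
    rw [← alt_conj, ← alt_dual (r + k) hN0 βs v']
    · congr 1
      ext i
      simp only [hβdef, δ, Fin.rev_rev, Fin.val_rev]
      have := hlam'k i
      have := i.2
      omega
    · intro i
      have := hβN i
      omega
  have hrel := alt_δ_conj_rel r k hr v'
  rw [← hD, ← hs] at hrel
  have hsign := sign_mul_self (Fin.revPerm : Equiv.Perm (Fin r))
  have hc : ζ (r + k) ^ s * (starRingEnd ℂ) (ζ (r + k) ^ s) = 1 := by
    rw [map_pow, ← mul_pow, ζ_mul_conj, one_pow]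
  have hDbar : alt ((starRingEnd ℂ) (ζ (r + k))) (δ r) v' =
      (Equiv.Perm.sign (Fin.revPerm : Equiv.Perm (Fin r)) : ℂ) * ζ (r + k) ^ s *
        ζ (r + k) ^ (k * s) * D := by
    linear_combination
      (-((Equiv.Perm.sign (Fin.revPerm : Equiv.Perm (Fin r)) : ℂ) * ζ (r + k) ^ s)) * hrel -
      (alt ((starRingEnd ℂ) (ζ (r + k))) (δ r) v' * ζ (r + k) ^ s *
        (starRingEnd ℂ) (ζ (r + k) ^ s)) * hsign -
      alt ((starRingEnd ℂ) (ζ (r + k))) (δ r) v' * hc
  -- the phase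
  have hωr : ω ^ r = ζ (r + k) := ζ_mul_pow r (r + k) hr0 hN0
  have hωc : ∀ m : ℕ, ω ^ m * (starRingEnd ℂ) ω ^ m = 1 := by
    intro m
    rw [← mul_pow, ζ_mul_conj, one_pow]
  have hsumβ : (∑ i, βs i) + (∑ i, lam' i) = r * k + ∑ i, δ r i := by
    have h1 : ∑ i, (k - lam' (Fin.rev i)) = ∑ i, (k - lam' i) :=
      Equiv.sum_comp (Fin.revPerm : Equiv.Perm (Fin r)) (fun i => k - lam' i)
    simp only [hβdef]
    rw [Finset.sum_add_distrib, h1]
    have h2 : ∑ i, (k - lam' i) + ∑ i, lam' i = r * k := by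
      rw [← Finset.sum_add_distrib]
      have : ∀ i : Fin r, k - lam' i + lam' i = k := fun i => Nat.sub_add_cancel (hlam'k i)
      simp [this]
    omega
  have hsumα : ∑ i, α i = (∑ i, lam i) + ∑ i, δ r i := by
    simp only [hαdef]
    rw [Finset.sum_add_distrib]
  have hκ' : κ = ω ^ (r * k) * (starRingEnd ℂ) ω ^ ((∑ i, lam i) + (∑ i, lam' i)) := by
    have hB : ω ^ (∑ i, βs i) * ω ^ (∑ i, lam' i) = ω ^ (r * k) * ω ^ (∑ i, δ r i) := by
      rw [← pow_add, ← pow_add, hsumβ]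
    have e1 := hωc (∑ i, lam' i)
    have e2 := hωc (∑ i, δ r i)
    rw [hκ, hsumα, pow_add, pow_add]
    linear_combination (starRingEnd ℂ) ω ^ (∑ i, lam i) *
      (((starRingEnd ℂ) ω ^ (∑ i, lam' i) * (starRingEnd ℂ) ω ^ (∑ i, δ r i)) * hB -
        (ω ^ (∑ i, βs i) * (starRingEnd ℂ) ω ^ (∑ i, δ r i)) * e1 +
        (ω ^ (r * k) * (starRingEnd ℂ) ω ^ (∑ i, lam' i)) * e2)
  have hphase : Complex.exp (-(2 * Real.pi * Complex.I * (((∑ i, lam i) + (∑ i, lam' i) : ℕ) : ℂ) *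
          ((s : ℕ) : ℂ) / ((r : ℂ) * ((r : ℂ) + k)))) * ζ (r + k) ^ (k * s) = κ ^ s := by
    rw [exp_neg_eq_conj_ζ_pow (r * (r + k)) (((∑ i, lam i) + (∑ i, lam' i)) * s), ← hωr, hκ',
      mul_pow, ← pow_mul, ← pow_mul, ← pow_mul]
    · rw [mul_comm, mul_assoc]
    · push_cast
      ring
  have halg : ∀ (x y e : ℂ), (x / D) * (y / D) * (D * (e * D)) = x * y * e := by
    intro x y e
    field_simp
  rw [hS1, hS2, hPv, hdual, hDbar, mul_assoc (Complex.exp _), mul_assoc (Complex.exp _), halg,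
    ← hphase]
  linear_combination
    (Complex.exp (-(2 * Real.pi * Complex.I * (((∑ i, lam i) + (∑ i, lam' i) : ℕ) : ℂ) *
          ((s : ℕ) : ℂ) / ((r : ℂ) * ((r : ℂ) + k)))) * alt (ζ (r + k)) α v' *
      alt ((starRingEnd ℂ) (ζ (r + k))) βs v' * ζ (r + k) ^ (k * s) *
      ζ (r + k) ^ s * (starRingEnd ℂ) (ζ (r + k) ^ s)) * hsign +
    (Complex.exp (-(2 * Real.pi * Complex.I * (((∑ i, lam i) + (∑ i, lam' i) : ℕ) : ℂ) *
          ((s : ℕ) : ℂ) / ((r : ℂ) * ((r : ℂ) + k)))) * alt (ζ (r + k)) α v' *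
      alt ((starRingEnd ℂ) (ζ (r + k))) βs v' * ζ (r + k) ^ (k * s)) * hc

end Vanish


section DualVanish

variable {r : ℕ}

theorem sum_add_sum_dual' (k : ℕ) (f : Fin r → ℕ) (hf : ∀ i, f i ≤ k) :
    (∑ i, f i) + (∑ i, (k - f (Fin.rev i))) = r * k := by
  have h1 : ∑ i, (k - f (Fin.rev i)) = ∑ i, (k - f i) :=
    Equiv.sum_comp (Fin.revPerm : Equiv.Perm (Fin r)) (fun i => k - f i)
  rw [h1, ← Finset.sum_add_distrib]
  have : ∀ i : Fin r, f i + (k - f i) = k := by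
    intro i
    have := hf i
    omega
  simp [this]

/-- partitions with last part zero versus the alcove -/
theorem sum_antitone_zero_eq_sum_alcove {M : Type*} [AddCommMonoid M] (r k : ℕ) (hr : 1 ≤ r)
    (H : (Fin r → ℕ) → M) :
    ∑ μ ∈ (univ : Finset (Fin r → Fin (k + 1))).filter
        (fun μ : Fin r → Fin (k + 1) => Antitone μ ∧ ∀ i : Fin r, (i : ℕ) = r - 1 → (μ i : ℕ) = 0),
        H (fun i => (μ i : ℕ) + δ r i) =
      ∑ u ∈ (univ : Finset (Fin r → Fin (r + k))).filter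
        (fun u : Fin r → Fin (r + k) => StrictAnti u ∧ ∀ i : Fin r, (i : ℕ) = r - 1 → (u i : ℕ) = 0),
        H (fun i => (u i : ℕ)) := by
  classical
  set l := lastIdx r hr with hl
  have hδl : δ r l = 0 := by
    simp [δ, hl, lastIdx]
  have hcondμ : ∀ μ : Fin r → Fin (k + 1),
      (∀ i : Fin r, (i : ℕ) = r - 1 → (μ i : ℕ) = 0) ↔ (μ l : ℕ) + δ r l + 0 = 0 := by
    intro μ
    rw [hδl]
    constructor
    · intro h
      rw [h l rfl]
    · intro h i hi
      have : i = l := Fin.ext hi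
      rw [this]
      omega
  have hcondu : ∀ u : Fin r → Fin (r + k),
      (∀ i : Fin r, (i : ℕ) = r - 1 → (u i : ℕ) = 0) ↔ (u l : ℕ) = 0 := by
    intro u
    constructor
    · intro h
      exact h l rfl
    · intro h i hi
      have : i = l := Fin.ext hi
      rw [this]
      exact h
  set G : (Fin r → ℕ) → M := fun a => if a l = 0 then H a else 0 with hG
  have h1 := sum_antitone_eq_sum_strictAnti (r := r) (k + 1) 0 (r + k) (by omega) l rfl G
  have hL : ∑ μ ∈ (univ : Finset (Fin r → Fin (k + 1))).filter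
        (fun μ : Fin r → Fin (k + 1) => Antitone μ ∧ ∀ i : Fin r, (i : ℕ) = r - 1 → (μ i : ℕ) = 0),
        H (fun i => (μ i : ℕ) + δ r i) =
      ∑ μ ∈ (univ : Finset (Fin r → Fin (k + 1))).filter (fun μ : Fin r → Fin (k + 1) => Antitone μ),
        G (fun i => (μ i : ℕ) + δ r i + 0) := by
    rw [← Finset.filter_filter, Finset.sum_filter]
    apply Finset.sum_congr rfl
    intro μ _
    simp only [hG, add_zero]
    have := hcondμ μ
    simp only [add_zero] at this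
    simp only [this]
  have hR : ∑ u ∈ (univ : Finset (Fin r → Fin (r + k))).filter
        (fun u : Fin r → Fin (r + k) => StrictAnti u ∧ ∀ i : Fin r, (i : ℕ) = r - 1 → (u i : ℕ) = 0),
        H (fun i => (u i : ℕ)) =
      ∑ α ∈ (univ : Finset (Fin r → Fin (r + k))).filter
          (fun α : Fin r → Fin (r + k) => StrictAnti α ∧ 0 ≤ (α l : ℕ)),
        G (fun i => (α i : ℕ)) := by
    have : (univ : Finset (Fin r → Fin (r + k))).filter
          (fun α : Fin r → Fin (r + k) => StrictAnti α ∧ 0 ≤ (α l : ℕ)) =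
        (univ : Finset (Fin r → Fin (r + k))).filter (fun α : Fin r → Fin (r + k) => StrictAnti α) := by
      apply Finset.filter_congr
      intro α _
      simp
    rw [this, ← Finset.filter_filter, Finset.sum_filter]
    apply Finset.sum_congr rfl
    intro u _
    simp only [hG, hcondu u]
  rw [hL, hR, h1]

/-- S18378 -/
theorem verlinde_dual_vanish (r k : ℕ) (hr : 1 ≤ r)
    (v v' : Fin r → ℕ) (hv : StrictAnti v) (hvlt : ∀ i, v i < r + k) (hv' : StrictAnti v')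
    (hv'lt : ∀ i, v' i < r + k) (hne : ¬ ∃ a : ℤ, ∀ i, (v i : ℤ) - (v' i : ℤ) = a)
    (z z' : Fin r → ℂ) (hz : ∀ j, z j = Complex.exp (2 * Real.pi * Complex.I * (v j : ℂ) / ((r : ℂ) + k)))
    (hz' : ∀ j, z' j = Complex.exp (2 * Real.pi * Complex.I * (v' j : ℂ) / ((r : ℂ) + k)))
    (S S' : (Fin r → ℕ) → ℂ)
    (hS : ∀ μ : Fin r → ℕ, S μ =
      (Matrix.of fun i j : Fin r => z j ^ (μ i + (r - 1 - (i : ℕ)))).det /
        (Matrix.of fun i j : Fin r => z j ^ (r - 1 - (i : ℕ))).det)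
    (hS' : ∀ μ : Fin r → ℕ, S' μ =
      (Matrix.of fun i j : Fin r => z' j ^ (μ i + (r - 1 - (i : ℕ)))).det /
        (Matrix.of fun i j : Fin r => z' j ^ (r - 1 - (i : ℕ))).det) :
    (∑ μ ∈ (Finset.univ : Finset (Fin r → Fin (k + 1))).filter
        (fun μ : Fin r → Fin (k + 1) => Antitone μ ∧ ∀ i : Fin r, (i : ℕ) = r - 1 → (μ i : ℕ) = 0),
      Complex.exp (-(2 * Real.pi * Complex.I * ((∑ i, (μ i : ℕ) : ℕ) : ℂ) * ((∑ j, v j : ℕ) : ℂ) /
          ((r : ℂ) * ((r : ℂ) + k)))) *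
      Complex.exp (-(2 * Real.pi * Complex.I * ((∑ i, (k - (μ (Fin.rev i) : ℕ)) : ℕ) : ℂ) *
          ((∑ j, v' j : ℕ) : ℂ) / ((r : ℂ) * ((r : ℂ) + k)))) *
      S (fun i => (μ i : ℕ)) * S' (fun i => k - (μ (Fin.rev i) : ℕ))) = 0 := by
  classical
  have hr0 : r ≠ 0 := by omega
  have hN0 : r + k ≠ 0 := by omega
  set ω := ζ (r * (r + k)) with hω
  set s : ℕ := ∑ j, v j with hs
  set s' : ℕ := ∑ j, v' j with hs'
  set dl : ℕ := ∑ i, δ r i with hdl
  set κ := ω ^ s' * (starRingEnd ℂ) ω ^ s with hκ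
  set D := alt (ζ (r + k)) (δ r) v with hD
  set D' := alt (ζ (r + k)) (δ r) v' with hD'
  set H : (Fin r → ℕ) → ℂ := fun a => κ ^ (∑ j, a j) * alt (ζ (r + k)) v a *
    alt ((starRingEnd ℂ) (ζ (r + k))) v' a with hH
  have hmaster := master r (r + k) hr (by omega) v v' hv hv' hvlt hv'lt hne κ hκ
  set C₁ : ℂ := ω ^ (dl * s') * (starRingEnd ℂ) ω ^ (dl * s) with hC₁
  set Cst : ℂ := (starRingEnd ℂ) ω ^ (r * k * s') *
    ((Equiv.Perm.sign (Fin.revPerm : Equiv.Perm (Fin r)) : ℂ) *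
      (starRingEnd ℂ) (ζ (r + k) ^ s')) / (D * D') with hCst
  have hωc : ∀ m : ℕ, ω ^ m * (starRingEnd ℂ) ω ^ m = 1 := by
    intro m
    rw [← mul_pow, ζ_mul_conj, one_pow]
  have hC₁0 : C₁ ≠ 0 := by
    intro h0
    have h1 := hωc (dl * s')
    have h2 := hωc (dl * s)
    have : (ω ^ (dl * s') * (starRingEnd ℂ) ω ^ (dl * s)) *
        ((starRingEnd ℂ) ω ^ (dl * s') * ω ^ (dl * s)) = 1 := by
      linear_combination (ω ^ (dl * s) * (starRingEnd ℂ) ω ^ (dl * s)) * h1 + h2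
    rw [← hC₁, h0, zero_mul] at this
    exact zero_ne_one this
  have hterm : ∀ μ ∈ (Finset.univ : Finset (Fin r → Fin (k + 1))).filter
        (fun μ : Fin r → Fin (k + 1) => Antitone μ ∧ ∀ i : Fin r, (i : ℕ) = r - 1 → (μ i : ℕ) = 0),
      C₁ * (Complex.exp (-(2 * Real.pi * Complex.I * ((∑ i, (μ i : ℕ) : ℕ) : ℂ) * ((s : ℕ) : ℂ) /
          ((r : ℂ) * ((r : ℂ) + k)))) *
      Complex.exp (-(2 * Real.pi * Complex.I * ((∑ i, (k - (μ (Fin.rev i) : ℕ)) : ℕ) : ℂ) *
          ((s' : ℕ) : ℂ) / ((r : ℂ) * ((r : ℂ) + k)))) *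
      S (fun i => (μ i : ℕ)) * S' (fun i => k - (μ (Fin.rev i) : ℕ))) =
      Cst * H (fun i => (μ i : ℕ) + δ r i) := by
    intro μ _
    set m : ℕ := ∑ i, (μ i : ℕ) with hm
    set ms : ℕ := ∑ i, (k - (μ (Fin.rev i) : ℕ)) with hms
    have hmm : m + ms = r * k :=
      sum_add_sum_dual' k (fun i => (μ i : ℕ)) (fun i => Nat.lt_succ_iff.1 (μ i).2)
    set u : Fin r → ℕ := fun i => (μ i : ℕ) + δ r i with hu
    have hsumu : ∑ j, u j = m + dl := by
      simp only [hu]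
      rw [Finset.sum_add_distrib]
    have hS1 : S (fun i => (μ i : ℕ)) = alt (ζ (r + k)) u v / D := by
      rw [hS, det_eq_alt r k v z hz (fun i => (μ i : ℕ) + (r - 1 - (i : ℕ))),
        det_eq_alt r k v z hz (fun i => (r - 1 - (i : ℕ)))]
      rfl
    have hS2 : S' (fun i => k - (μ (Fin.rev i) : ℕ)) =
        alt (ζ (r + k)) (fun i => (k - (μ (Fin.rev i) : ℕ)) + δ r i) v' / D' := by
      rw [hS', det_eq_alt r k v' z' hz' (fun i => (k - (μ (Fin.rev i) : ℕ)) + (r - 1 - (i : ℕ))),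
        det_eq_alt r k v' z' hz' (fun i => (r - 1 - (i : ℕ)))]
      rfl
    have hdual : alt (ζ (r + k)) (fun i => (k - (μ (Fin.rev i) : ℕ)) + δ r i) v' =
        (Equiv.Perm.sign (Fin.revPerm : Equiv.Perm (Fin r)) : ℂ) *
          (starRingEnd ℂ) (ζ (r + k) ^ s') * alt ((starRingEnd ℂ) (ζ (r + k))) u v' := by
      rw [← alt_conj, ← alt_dual (r + k) hN0 u v']
      · congr 1
        ext i
        simp only [hu, δ, Fin.val_rev]
        have := (μ (Fin.rev i)).2
        have := i.2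
        omega
      · intro i
        simp only [hu, δ]
        have := (μ i).2
        have := i.2
        omega
    have hph1 : Complex.exp (-(2 * Real.pi * Complex.I * ((m : ℕ) : ℂ) * ((s : ℕ) : ℂ) /
          ((r : ℂ) * ((r : ℂ) + k)))) = (starRingEnd ℂ) ω ^ (m * s) := by
      apply exp_neg_eq_conj_ζ_pow
      push_cast
      ring
    have hph2 : Complex.exp (-(2 * Real.pi * Complex.I * ((ms : ℕ) : ℂ) * ((s' : ℕ) : ℂ) /
          ((r : ℂ) * ((r : ℂ) + k)))) = (starRingEnd ℂ) ω ^ (ms * s') := by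
      apply exp_neg_eq_conj_ζ_pow
      push_cast
      ring
    have e1 : (starRingEnd ℂ) ω ^ (ms * s') * (starRingEnd ℂ) ω ^ (m * s') =
        (starRingEnd ℂ) ω ^ (r * k * s') := by
      rw [← pow_add, ← add_mul, add_comm, hmm]
    have e2 := hωc (m * s')
    have hphase : C₁ * ((starRingEnd ℂ) ω ^ (m * s) * (starRingEnd ℂ) ω ^ (ms * s')) =
        (starRingEnd ℂ) ω ^ (r * k * s') * κ ^ (m + dl) := by
      rw [hC₁, hκ, mul_pow, ← pow_mul, ← pow_mul, mul_comm s' (m + dl), mul_comm s (m + dl),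
        add_mul, add_mul, pow_add, pow_add]
      linear_combination ((starRingEnd ℂ) ω ^ (m * s) * ω ^ (dl * s') *
        (starRingEnd ℂ) ω ^ (dl * s)) *
        (-(starRingEnd ℂ) ω ^ (ms * s') * e2 + ω ^ (m * s') * e1)
    rw [hph1, hph2, hS1, hS2, hdual, hH]
    simp only
    rw [hsumu, alt_comm (ζ (r + k)) v u, alt_comm ((starRingEnd ℂ) (ζ (r + k))) v' u, hCst]
    linear_combination ((alt (ζ (r + k)) u v / D) *
      ((Equiv.Perm.sign (Fin.revPerm : Equiv.Perm (Fin r)) : ℂ) *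
          (starRingEnd ℂ) (ζ (r + k) ^ s') * alt ((starRingEnd ℂ) (ζ (r + k))) u v' / D')) * hphase
  have hsum : C₁ * ∑ μ ∈ (Finset.univ : Finset (Fin r → Fin (k + 1))).filter
        (fun μ : Fin r → Fin (k + 1) => Antitone μ ∧ ∀ i : Fin r, (i : ℕ) = r - 1 → (μ i : ℕ) = 0),
      (Complex.exp (-(2 * Real.pi * Complex.I * ((∑ i, (μ i : ℕ) : ℕ) : ℂ) * ((s : ℕ) : ℂ) /
          ((r : ℂ) * ((r : ℂ) + k)))) *
      Complex.exp (-(2 * Real.pi * Complex.I * ((∑ i, (k - (μ (Fin.rev i) : ℕ)) : ℕ) : ℂ) *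
          ((s' : ℕ) : ℂ) / ((r : ℂ) * ((r : ℂ) + k)))) *
      S (fun i => (μ i : ℕ)) * S' (fun i => k - (μ (Fin.rev i) : ℕ))) = 0 := by
    rw [Finset.mul_sum, Finset.sum_congr rfl hterm, ← Finset.mul_sum,
      sum_antitone_zero_eq_sum_alcove r k hr H]
    simp only [hH]
    rw [hmaster, mul_zero]
  exact (mul_eq_zero.1 hsum).resolve_left hC₁0

end DualVanish

end Groth.Agent.Lib.Verlinde
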