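import Mathlib

/-! Ring homomorphisms out of graded rings defined degreewise; Veronese subrings and `S_(f) ≅ S^{(d)}/(f - 1)`. -/

open DirectSum HomogeneousLocalization

namespace Groth.Agent.Lib.Veronese_helper3

section
variable {B σ : Type*} [CommRing B] [SetLike σ B] [AddSubgroupClass σ B] (ℬ : ℕ → σ) [GradedRing ℬ]
  {T : Type*} [CommRing T]

/-- A ring homomorphism out of a graded ring, defined on the graded pieces. -/
noncomputable def gradedLift (f : ∀ n, ℬ n →+ T) (hone : f 0 ⟨1, SetLike.GradedOne.one_mem⟩ = 1)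
    (hmul : ∀ (i j : ℕ) (x : ℬ i) (y : ℬ j),
      f (i + j) ⟨(x : B) * (y : B), SetLike.mul_mem_graded x.2 y.2⟩ = f i x * f j y) : B →+* T :=
  (DirectSum.toSemiring f hone (fun {i j} ai aj => hmul i j ai aj)).comp (decomposeRingEquiv ℬ).toRingHom

theorem gradedLift_of_mem (f : ∀ n, ℬ n →+ T) (hone) (hmul) {n : ℕ} {b : B} (hb : b ∈ ℬ n) :
    gradedLift ℬ f hone hmul b = f n ⟨b, hb⟩ := by
  unfold gradedLift
  rw [RingHom.comp_apply]
  change DirectSum.toSemiring f hone (fun {i j} ai aj => hmul i j ai aj) (decompose ℬ b) = _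
  rw [decompose_of_mem ℬ hb, DirectSum.toSemiring_of]

open Classical in
theorem gradedLift_apply (f : ∀ n, ℬ n →+ T) (hone) (hmul) (b : B) :
    gradedLift ℬ f hone hmul b = ∑ n ∈ (decompose ℬ b).support, f n (decompose ℬ b n) := by
  conv_lhs => rw [← sum_support_decompose ℬ b]
  rw [map_sum]
  exact Finset.sum_congr rfl fun n _ => gradedLift_of_mem ℬ f hone hmul (SetLike.coe_mem _)
end

end Groth.Agent.Lib.Veronese_helper3

namespace Groth.Agent.Lib.Veronese_helper3

section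
variable {R A B : Type*} [CommRing R] [CommRing A] [Algebra R A] (𝒜 : ℕ → Submodule R A) [GradedAlgebra 𝒜]
  [CommRing B] [Algebra R B] (ℬ : ℕ → Submodule R B) [GradedAlgebra ℬ]
  (d : ℕ) (φ : B →ₐ[R] A)
  (hdeg : ∀ n : ℕ, Submodule.map φ.toLinearMap (ℬ n) = 𝒜 (n * d))

include hdeg in
omit [GradedAlgebra 𝒜] [GradedAlgebra ℬ] in
theorem map_mem_deg {n : ℕ} {b : B} (hb : b ∈ ℬ n) : φ b ∈ 𝒜 (n • d) :=
  (hdeg n).le ⟨b, hb, rfl⟩

variable {F : A} (hF : F ∈ 𝒜 d)

/-- The degreewise maps `b ↦ φ(b)/F^n`. -/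
noncomputable def pieceHom (n : ℕ) : ℬ n →+ Away 𝒜 F where
  toFun b := Away.mk 𝒜 hF n (φ b) (map_mem_deg 𝒜 ℬ d φ hdeg b.2)
  map_zero' := by
    rw [HomogeneousLocalization.ext_iff_val, Away.val_mk, HomogeneousLocalization.val_zero]
    simp [Localization.mk_zero]
  map_add' x y := by
    rw [HomogeneousLocalization.ext_iff_val, HomogeneousLocalization.val_add, Away.val_mk, Away.val_mk, Away.val_mk,
      Localization.add_mk_self]
    simp

/-- The ring homomorphism `B → A_(F)`, `b ↦ φ(b)/F^n` for `b` of degree `n`. -/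
noncomputable def toAway : B →+* Away 𝒜 F :=
  gradedLift ℬ (pieceHom 𝒜 ℬ d φ hdeg hF)
    (by
      change Away.mk 𝒜 hF 0 (φ 1) _ = 1
      rw [HomogeneousLocalization.ext_iff_val, Away.val_mk, HomogeneousLocalization.val_one]
      simp)
    (by
      intro i j x y
      change Away.mk 𝒜 hF (i + j) (φ ((x : B) * (y : B))) _ = Away.mk 𝒜 hF i (φ x) _ * Away.mk 𝒜 hF j (φ y) _
      rw [HomogeneousLocalization.ext_iff_val, HomogeneousLocalization.val_mul, Away.val_mk, Away.val_mk, Away.val_mk,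
        Localization.mk_mul, map_mul]
      congr 1
      exact Subtype.ext (pow_add F i j))

theorem toAway_of_mem {n : ℕ} {b : B} (hb : b ∈ ℬ n) :
    toAway 𝒜 ℬ d φ hdeg hF b = Away.mk 𝒜 hF n (φ b) (map_mem_deg 𝒜 ℬ d φ hdeg hb) :=
  gradedLift_of_mem ℬ _ _ _ hb

theorem val_toAway_of_mem {n : ℕ} {b : B} (hb : b ∈ ℬ n) :
    (toAway 𝒜 ℬ d φ hdeg hF b).val = Localization.mk (φ b) ⟨F ^ n, pow_mem (Submonoid.mem_powers F) n⟩ := by
  rw [toAway_of_mem 𝒜 ℬ d φ hdeg hF hb, Away.val_mk]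

theorem toAway_surjective : Function.Surjective (toAway 𝒜 ℬ d φ hdeg hF) := by
  intro x
  obtain ⟨n, a, ha, rfl⟩ := Away.mk_surjective 𝒜 hF x
  have ha' : a ∈ Submodule.map φ.toLinearMap (ℬ n) := by rw [hdeg n]; exact ha
  obtain ⟨b, hb, rfl⟩ := ha'
  exact ⟨b, toAway_of_mem 𝒜 ℬ d φ hdeg hF hb⟩

open Classical in
/-- Clearing denominators: `F^N · Ψ(b)` is the image of `∑ φ(bₙ) F^(N-n)`. -/
theorem algebraMap_pow_mul_val_toAway (b : B) (N : ℕ) (hN : ∀ n ∈ (decompose ℬ b).support, n ≤ N) :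
    algebraMap A (Localization.Away F) (F ^ N) * (toAway 𝒜 ℬ d φ hdeg hF b).val =
      algebraMap A (Localization.Away F)
        (∑ n ∈ (decompose ℬ b).support, φ (decompose ℬ b n : B) * F ^ (N - n)) := by
  classical
  unfold toAway
  rw [gradedLift_apply]
  rw [show (∑ n ∈ (decompose ℬ b).support, pieceHom 𝒜 ℬ d φ hdeg hF n (decompose ℬ b n)).val =
    ∑ n ∈ (decompose ℬ b).support, (pieceHom 𝒜 ℬ d φ hdeg hF n (decompose ℬ b n)).val from
      map_sum (algebraMap (Away 𝒜 F) (Localization.Away F)) _ _]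
  rw [Finset.mul_sum, map_sum]
  refine Finset.sum_congr rfl fun n hn => ?_
  change _ * (Away.mk 𝒜 hF n (φ (decompose ℬ b n : B)) _).val = _
  rw [Away.val_mk, Localization.mk_eq_mk', map_mul, mul_comm (algebraMap A _ (φ _))]
  have hFN : F ^ N = F ^ (N - n) * F ^ n := by rw [← pow_add, Nat.sub_add_cancel (hN n hn)]
  rw [hFN, map_mul, mul_assoc]
  congr 1
  exact IsLocalization.mk'_spec' (M := Submonoid.powers F) (Localization.Away F) _ _

variable (hφ : Function.Injective φ) {f' : B} (hf' : f' ∈ ℬ 1) (hFf' : φ f' = F)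

include hFf' hf' in
theorem toAway_gen : toAway 𝒜 ℬ d φ hdeg hF f' = 1 := by
  rw [toAway_of_mem 𝒜 ℬ d φ hdeg hF hf', HomogeneousLocalization.ext_iff_val, Away.val_mk,
    HomogeneousLocalization.val_one, hFf']
  convert Localization.mk_self (⟨F ^ 1, pow_mem (Submonoid.mem_powers F) 1⟩ : Submonoid.powers F) using 2
  simp

include hφ hFf' hf' in
theorem ker_toAway : RingHom.ker (toAway 𝒜 ℬ d φ hdeg hF) = Ideal.span {f' - 1} := by
  classical
  apply le_antisymm
  · intro b hb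
    rw [RingHom.mem_ker] at hb
    set N := (decompose ℬ b).support.sup id with hNdef
    have hN : ∀ n ∈ (decompose ℬ b).support, n ≤ N := fun n hn => Finset.le_sup (f := id) hn
    have h1 := algebraMap_pow_mul_val_toAway 𝒜 ℬ d φ hdeg hF b N hN
    rw [hb, HomogeneousLocalization.val_zero, mul_zero] at h1
    obtain ⟨⟨_, k, rfl⟩, hk⟩ := (IsLocalization.map_eq_zero_iff (Submonoid.powers F) (Localization.Away F) _).mp h1.symm
    simp only at hk
    have h2 : φ (f' ^ k * ∑ n ∈ (decompose ℬ b).support, (decompose ℬ b n : B) * f' ^ (N - n)) = φ 0 := by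
      rw [map_mul, map_pow, hFf', map_sum, map_zero, ← hk]
      congr 1
      refine Finset.sum_congr rfl fun n _ => ?_
      rw [map_mul, map_pow, hFf']
    have h3 := hφ h2
    -- modulo f' - 1
    rw [← Ideal.Quotient.eq_zero_iff_mem]
    have hq : Ideal.Quotient.mk (Ideal.span {f' - 1}) f' = 1 := by
      rw [← sub_eq_zero, ← map_one (Ideal.Quotient.mk (Ideal.span {f' - 1})), ← map_sub,
        Ideal.Quotient.eq_zero_iff_mem]
      exact Ideal.subset_span rfl
    have h4 := congr_arg (Ideal.Quotient.mk (Ideal.span {f' - 1})) h3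
    rw [map_mul, map_pow, hq, one_pow, one_mul, map_sum, map_zero] at h4
    rw [← h4]
    conv_lhs => rw [← sum_support_decompose ℬ b]
    rw [map_sum]
    refine Finset.sum_congr rfl fun n _ => ?_
    rw [map_mul, map_pow, hq, one_pow, mul_one]
  · rw [Ideal.span_le, Set.singleton_subset_iff, SetLike.mem_coe, RingHom.mem_ker, map_sub, map_one,
      toAway_gen 𝒜 ℬ d φ hdeg hF hf' hFf', sub_self]

include hφ hFf' hf' hdeg hF in
/-- `A_(F) ≃ B/(f' - 1)`. -/
theorem exists_away_equiv_quotient :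
    ∃ e : Away 𝒜 F ≃+* B ⧸ Ideal.span {f' - 1},
      ∀ (n : ℕ) (x : B), x ∈ ℬ n →
        (e.symm (Ideal.Quotient.mk (Ideal.span {f' - 1}) x)).val =
          Localization.mk (φ x) ⟨F ^ n, pow_mem (Submonoid.mem_powers F) n⟩ := by
  have hk := ker_toAway 𝒜 ℬ d φ hdeg hF hφ hf' hFf'
  let Ψ := toAway 𝒜 ℬ d φ hdeg hF
  let Ψ' : B ⧸ Ideal.span {f' - 1} →+* Away 𝒜 F :=
    Ideal.Quotient.lift (Ideal.span {f' - 1}) Ψ (fun a ha => by rw [← hk] at ha; exact ha)
  have hbij : Function.Bijective Ψ' := by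
    constructor
    · rw [injective_iff_map_eq_zero]
      intro q hq
      obtain ⟨b, rfl⟩ := Ideal.Quotient.mk_surjective q
      rw [Ideal.Quotient.lift_mk] at hq
      rw [Ideal.Quotient.eq_zero_iff_mem, ← hk]
      exact hq
    · intro x
      obtain ⟨b, hb⟩ := toAway_surjective 𝒜 ℬ d φ hdeg hF x
      exact ⟨Ideal.Quotient.mk _ b, by rw [Ideal.Quotient.lift_mk]; exact hb⟩
  refine ⟨(RingEquiv.ofBijective Ψ' hbij).symm, fun n x hx => ?_⟩
  rw [RingEquiv.symm_symm, RingEquiv.ofBijective_apply, Ideal.Quotient.lift_mk]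
  exact val_toAway_of_mem 𝒜 ℬ d φ hdeg hF hx

end

end Groth.Agent.Lib.Veronese_helper3
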