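import Mathlib
import Groth.Prelude.Def_Versch

set_option autoImplicit false
universe u v

open TensorProduct

namespace Groth.Agent.Lib.VerschEtH1

open FrobAlg

noncomputable instance instFieldTwist (p : ℕ) (k : Type u) [Field k] : Field (Twist p k) :=
  inferInstanceAs (Field k)

attribute [local instance] Algebra.TensorProduct.rightAlgebra

section Dim

variable (p : ℕ) [Fact p.Prime] (k : Type u) [Field k] [CharP k p]
  (B : Type v) [CommRing B] [Algebra k B]

omit [Fact p.Prime] in
include k in
theorem natCast_p_eq_zero : ((p : ℕ) : B) = 0 := by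
  rw [← map_natCast (algebraMap k B), CharP.cast_eq_zero, map_zero]

include k in
variable {B} in
theorem add_pow_p' (x y : B) : (x + y) ^ p = x ^ p + y ^ p := by
  obtain ⟨r, hr⟩ := exists_add_pow_prime_eq (Fact.out : p.Prime) x y
  rw [hr, natCast_p_eq_zero p k B]; ring

theorem smul_eq_mul_right (t : Twist p k) (w : BaseChange p k B) :
    t • w = ((1 : B) ⊗ₜ[k] t) * w := by
  rw [Algebra.smul_def]; rfl

/-- The swap `B ⊗ T ≃ T ⊗ B` is linear over the right factor. -/
noncomputable def commT : BaseChange p k B ≃ₗ[Twist p k] (Twist p k) ⊗[k] B :=
  { toFun := Algebra.TensorProduct.comm k B (Twist p k)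
    invFun := (Algebra.TensorProduct.comm k B (Twist p k)).symm
    left_inv := (Algebra.TensorProduct.comm k B (Twist p k)).left_inv
    right_inv := (Algebra.TensorProduct.comm k B (Twist p k)).right_inv
    map_add' := map_add (Algebra.TensorProduct.comm k B (Twist p k))
    map_smul' := fun t w => by
      have h2 : ∀ z : (Twist p k) ⊗[k] B, t • z = (t ⊗ₜ[k] (1 : B)) * z := fun z => by
        rw [Algebra.smul_def]; rfl
      rw [RingHom.id_apply, smul_eq_mul_right, map_mul, h2,
        Algebra.TensorProduct.comm_tmul] }

theorem finite_baseChange [Module.Finite k B] : Module.Finite (Twist p k) (BaseChange p k B) :=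
  Module.Finite.equiv (commT p k B).symm

theorem finrank_baseChange [Module.Finite k B] :
    Module.finrank (Twist p k) (BaseChange p k B) = Module.finrank k B := by
  rw [(commT p k B).finrank_eq, Module.finrank_baseChange]

/-- `B` as a module over the twist through the identity of underlying rings. -/
@[reducible] noncomputable def modT : Module (Twist p k) B :=
  Module.compHom B ((toTwist p k).symm : Twist p k →+* k)

noncomputable def basisT [Module.Finite k B] :
    @Module.Basis (Fin (Module.finrank k B)) (Twist p k) B _ _ (modT p k B) :=
  letI := modT p k B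
  (Module.finBasis k B).mapCoeffs (toTwist p k) (fun _ _ => rfl)

theorem finite_modT [Module.Finite k B] : @Module.Finite (Twist p k) B _ _ (modT p k B) :=
  letI := modT p k B
  Module.Finite.of_basis (basisT p k B)

theorem finrank_modT [Module.Finite k B] :
    @Module.finrank (Twist p k) B _ _ (modT p k B) = Module.finrank k B := by
  letI := modT p k B
  rw [Module.finrank_eq_card_basis (basisT p k B), Fintype.card_fin]

end Dim

section Frob

variable (p : ℕ) [Fact p.Prime] (k : Type u) [Field k] [CharP k p]
  (B : Type v) [CommRing B] [Algebra k B] [CharP B p]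

theorem relFrob_tmul (b : B) (t : Twist p k) :
    relFrob p k B (b ⊗ₜ t) = b ^ p * algebraMap k B ((toTwist p k).symm t) := by
  change (toTarget p k B).symm ((Algebra.TensorProduct.lift (frobHom p k B) (inclHom p k B)
    (fun _ _ => Commute.all _ _)) (b ⊗ₜ t)) = _
  rw [Algebra.TensorProduct.lift_tmul]
  rfl

theorem relFrob_smul (t : Twist p k) (w : BaseChange p k B) :
    relFrob p k B (t • w) = (toTwist p k).symm t • relFrob p k B w := by
  rw [smul_eq_mul_right, map_mul, relFrob_tmul, one_pow, one_mul, Algebra.smul_def]

theorem pow_eq (w : BaseChange p k B) :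
    w ^ p = relFrob p k B w ⊗ₜ[k] (1 : Twist p k) := by
  induction w using TensorProduct.induction_on with
  | zero => rw [zero_pow (Fact.out : p.Prime).ne_zero, map_zero, zero_tmul]
  | tmul b t =>
    rw [Algebra.TensorProduct.tmul_pow, relFrob_tmul]
    have h1 : t ^ p = ((toTwist p k).symm t) • (1 : Twist p k) := by
      rw [Algebra.smul_def, mul_one, algebraMap_twist, map_pow, RingEquiv.apply_symm_apply]
    rw [h1, TensorProduct.tmul_smul, TensorProduct.smul_tmul', Algebra.smul_def, mul_comm]
  | add x y hx hy =>
    rw [add_pow_p' p k, hx, hy, map_add, add_tmul]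

theorem relFrob_injective_of_isReduced [IsReduced (BaseChange p k B)] :
    Function.Injective (relFrob p k B) := by
  rw [injective_iff_map_eq_zero]
  intro w hw
  have h := pow_eq p k B w
  rw [hw, zero_tmul] at h
  exact IsReduced.eq_zero _ ⟨p, h⟩

theorem relFrob_injective_iff_surjective [Module.Finite k B] :
    Function.Injective (relFrob p k B) ↔ Function.Surjective (relFrob p k B) := by
  letI := modT p k B
  let φ : BaseChange p k B →ₗ[Twist p k] B :=
    { toFun := relFrob p k B
      map_add' := map_add _
      map_smul' := fun t w => by rw [RingHom.id_apply, relFrob_smul]; rfl }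
  haveI := finite_baseChange p k B
  haveI := finite_modT p k B
  exact LinearMap.injective_iff_surjective_of_finrank_eq_finrank
    ((finrank_baseChange p k B).trans (finrank_modT p k B).symm) (f := φ)

theorem D_relFrob (w : BaseChange p k B) :
    KaehlerDifferential.D k B (relFrob p k B w) = 0 := by
  induction w using TensorProduct.induction_on with
  | zero => rw [map_zero, map_zero]
  | tmul x t =>
    rw [relFrob_tmul, Derivation.leibniz, Derivation.map_algebraMap, smul_zero, zero_add,
      Derivation.leibniz_pow, ← Nat.cast_smul_eq_nsmul B p, CharP.cast_eq_zero B p, zero_smul,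
      smul_zero]
  | add x y hx hy => rw [map_add, map_add, hx, hy, add_zero]

theorem formallyUnramified_of_surjective (h : Function.Surjective (relFrob p k B)) :
    Algebra.FormallyUnramified k B := by
  constructor
  have hD : ∀ b : B, KaehlerDifferential.D k B b = 0 := fun b => by
    obtain ⟨w, rfl⟩ := h b; exact D_relFrob p k B w
  have htop : (⊤ : Submodule B (KaehlerDifferential k B)) = ⊥ := by
    rw [← KaehlerDifferential.span_range_derivation, Submodule.span_eq_bot]
    rintro _ ⟨b, rfl⟩; exact hD b
  refine ⟨fun x y => ?_⟩
  have hx : x ∈ (⊤ : Submodule B (KaehlerDifferential k B)) := Submodule.mem_top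
  have hy : y ∈ (⊤ : Submodule B (KaehlerDifferential k B)) := Submodule.mem_top
  rw [htop, Submodule.mem_bot] at hx hy
  rw [hx, hy]

theorem etale_of_surjective [Module.Finite k B] (h : Function.Surjective (relFrob p k B)) :
    Algebra.Etale k B := by
  haveI := formallyUnramified_of_surjective p k B h
  haveI : Algebra.FormallyEtale k B := Algebra.FormallyEtale.of_formallyUnramified_of_field k B
  haveI : Algebra.FinitePresentation k B :=
    Algebra.FinitePresentation.of_finiteType.mp inferInstance
  exact {}

theorem injective_of_etale [Module.Finite k B] [Algebra.Etale k B] :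
    Function.Injective (relFrob p k B) := by
  haveI : Algebra.FormallyUnramified (Twist p k) ((Twist p k) ⊗[k] B) := inferInstance
  haveI : IsReduced ((Twist p k) ⊗[k] B) :=
    Algebra.FormallyUnramified.isReduced_of_field (Twist p k) _
  haveI : IsReduced (BaseChange p k B) :=
    isReduced_of_injective (Algebra.TensorProduct.comm k B (Twist p k))
      (Algebra.TensorProduct.comm k B (Twist p k)).injective
  exact relFrob_injective_of_isReduced p k B

theorem etale_iff_bijective [Module.Finite k B] :
    Algebra.Etale k B ↔ Function.Bijective (relFrob p k B) := by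
  constructor
  · intro _
    have hi := injective_of_etale p k B
    exact ⟨hi, (relFrob_injective_iff_surjective p k B).mp hi⟩
  · intro h
    exact etale_of_surjective p k B h.2

end Frob

section Ver

variable (p : ℕ) [Fact p.Prime] (k : Type u) [Field k] [CharP k p]
  (A : Type v) [CommRing A] [HopfAlgebra k A] [Coalgebra.IsCocomm k A] [FiniteDimensional k A]
  (v : A →+* BaseChange p k A) (hv : Versch.IsVerschiebung p k A v)

omit [Coalgebra.IsCocomm k A] [FiniteDimensional k A] in
theorem evTw_mul (x : CartDual.D k A) (t : Twist p k) (z : BaseChange p k A) :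
    Versch.evTw p k A x (((1 : A) ⊗ₜ[k] t) * z) = t * Versch.evTw p k A x z := by
  induction z using TensorProduct.induction_on with
  | zero => rw [mul_zero, map_zero, mul_zero]
  | tmul a s =>
    rw [Algebra.TensorProduct.tmul_mul_tmul, one_mul, Versch.evTw_tmul, Versch.evTw_tmul]
    ring
  | add z z' hz hz' => rw [mul_add, map_add, map_add, hz, hz', mul_add]

include hv in
theorem v_smul (c : k) (a : A) : v (c • a) = ((1 : A) ⊗ₜ[k] toTwist p k c) * v a := by
  rw [Versch.isVerschiebung_iff] at hv
  apply Versch.evTw_injective p k A
  intro x
  rw [evTw_mul, hv, hv, CartDual.coe_apply, CartDual.coe_apply, map_smul, smul_eq_mul, map_mul]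

include hv in
theorem injective_iff_surjective_v : Function.Injective v ↔ Function.Surjective v := by
  letI := modT p k A
  let vL : A →ₗ[Twist p k] BaseChange p k A :=
    { toFun := v
      map_add' := map_add v
      map_smul' := fun t a => by
        have h1 : t • a = ((toTwist p k).symm t) • a := rfl
        rw [RingHom.id_apply, h1, v_smul p k A v hv, RingEquiv.apply_symm_apply,
          smul_eq_mul_right] }
  haveI := finite_baseChange p k A
  haveI := finite_modT p k A
  exact LinearMap.injective_iff_surjective_of_finrank_eq_finrank
    ((finrank_modT p k A).trans (finrank_baseChange p k A).symm) (f := vL)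

/-- The range of the relative Frobenius of the dual, as a subspace of the linear dual. -/
noncomputable def Wsub : Submodule k (Module.Dual k A) where
  carrier := {f | ∃ w : BaseChange p k (CartDual.D k A),
    (relFrob p k (CartDual.D k A) w).ofConv = f}
  add_mem' := by
    rintro _ _ ⟨w, rfl⟩ ⟨w', rfl⟩
    exact ⟨w + w', by rw [map_add, WithConv.ofConv_add]⟩
  zero_mem' := ⟨0, by rw [map_zero, WithConv.ofConv_zero]⟩
  smul_mem' := by
    rintro c _ ⟨w, rfl⟩
    refine ⟨toTwist p k c • w, ?_⟩
    rw [relFrob_smul, RingEquiv.symm_apply_apply, WithConv.ofConv_smul]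

theorem mem_Wsub (f : Module.Dual k A) : f ∈ Wsub p k A ↔
    ∃ w : BaseChange p k (CartDual.D k A), (relFrob p k (CartDual.D k A) w).ofConv = f :=
  Iff.rfl

include hv in
theorem surjective_relFrob_of_injective (hinj : Function.Injective v) :
    Function.Surjective (relFrob p k (CartDual.D k A)) := by
  have hco : (Wsub p k A).dualCoannihilator = ⊥ := by
    rw [eq_bot_iff]
    intro a ha
    rw [Submodule.mem_dualCoannihilator] at ha
    rw [Submodule.mem_bot]
    apply hinj
    rw [map_zero]
    apply Versch.evTw_injective p k A
    intro x
    have h1 := hv a x 1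
    rw [mul_one] at h1
    have h2 : (relFrob p k (CartDual.D k A) (x ⊗ₜ 1)).ofConv a = 0 :=
      ha _ ((mem_Wsub p k A _).mpr ⟨_, rfl⟩)
    rw [h1, map_zero, CartDual.coe_apply, h2, map_zero]
  have hW : Wsub p k A = ⊤ := by
    have h0 := Subspace.dualCoannihilator_dualAnnihilator_eq (W := Wsub p k A)
    rw [hco, Submodule.dualAnnihilator_bot] at h0
    exact h0.symm
  intro y
  have hy : y.ofConv ∈ Wsub p k A := by rw [hW]; exact Submodule.mem_top
  obtain ⟨w, hw⟩ := (mem_Wsub p k A _).mp hy
  exact ⟨w, WithConv.ofConv_injective hw⟩

include hv in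
theorem injective_of_surjective_relFrob
    (hsurj : Function.Surjective (relFrob p k (CartDual.D k A))) : Function.Injective v := by
  rw [injective_iff_map_eq_zero]
  intro a ha
  have key : ∀ w : BaseChange p k (CartDual.D k A),
      (relFrob p k (CartDual.D k A) w) a = 0 := by
    intro w
    induction w using TensorProduct.induction_on with
    | zero => rw [map_zero, CartDual.coe_apply, WithConv.ofConv_zero, LinearMap.zero_apply]
    | tmul x t =>
      have h1 := hv a x t
      rw [ha, map_zero, zero_mul] at h1
      exact (toTwist p k).injective (h1.symm.trans (map_zero _).symm)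
    | add w w' hw hw' =>
      rw [CartDual.coe_apply] at hw hw' ⊢
      rw [map_add, WithConv.ofConv_add, LinearMap.add_apply, hw, hw', add_zero]
  rw [← Module.forall_dual_apply_eq_zero_iff k a]
  intro φ
  obtain ⟨w, hw⟩ := hsurj (WithConv.toConv φ)
  have h3 := key w
  rw [hw] at h3
  exact h3

include hv in
theorem main15890 : Algebra.Etale k (CartDual.D k A) ↔ Function.Bijective v := by
  rw [etale_iff_bijective p k (CartDual.D k A)]
  constructor
  · intro h
    have hi := injective_of_surjective_relFrob p k A v hv h.2
    exact ⟨hi, (injective_iff_surjective_v p k A v hv).mp hi⟩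
  · intro h
    have hs := surjective_relFrob_of_injective p k A v hv h.1
    exact ⟨(relFrob_injective_iff_surjective p k (CartDual.D k A)).mpr hs, hs⟩

end Ver

end Groth.Agent.Lib.VerschEtH1
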