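import Mathlib
import Groth.Prelude.Def_Versch
import Groth.Prelude.Def_SGA3b

/-!
# Verschiebung and Frobenius of a finite locally free commutative group scheme (helper9)

`V ∘ F = [p]` on coordinate rings: the relative Frobenius comorphism composed with the comorphism of
the Verschiebung is the `p`-th convolution power of the identity.  The proof decomposes the identity
of `A` through a dual basis and uses that `p`-th powers are additive in the (commutative,
characteristic `p`) convolution algebra `Hom_R(A, A)`.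

APPEND-ONLY once landed.
-/

set_option autoImplicit false
universe u
open TensorProduct WithConv

namespace Versch9

variable (p : ℕ) [Fact p.Prime] (R : Type u) [CommRing R] [CharP R p]
  (A : Type u) [CommRing A] [HopfAlgebra R A] [Coalgebra.IsCocomm R A]

/-- the convolution algebra `Hom_R(A, A)` has characteristic `p` -/
instance charP_conv [CharP A p] : CharP (WithConv (A →ₗ[R] A)) p := by
  refine charP_of_injective_algebraMap (R := A) (A := WithConv (A →ₗ[R] A)) ?_ p
  intro a b h
  have h1 := congrArg (fun f : WithConv (A →ₗ[R] A) => f 1) h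
  simpa [LinearMap.convAlgebraMap_apply] using h1

theorem ofId_comp_pow (X : WithConv (A →ₗ[R] R)) (m : ℕ) :
    (toConv ((Algebra.ofId R A).toLinearMap ∘ₗ X.ofConv) : WithConv (A →ₗ[R] A)) ^ m =
      toConv ((Algebra.ofId R A).toLinearMap ∘ₗ (X ^ m).ofConv) := by
  induction m with
  | zero =>
    rw [pow_zero, pow_zero]
    apply ofConv_injective
    apply LinearMap.ext
    intro a
    simp [LinearMap.convOne_def]
  | succ m ih =>
    rw [pow_succ, ih, pow_succ]
    exact (congrArg toConv (LinearMap.algHom_comp_convMul_distrib (Algebra.ofId R A) (X ^ m) X)).symm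

theorem relFrob_verschiebung_apply [Module.Finite R A] [Module.Projective R A] [CharP A p]
    (v : A →+* FrobAlg.BaseChange p R A) (hv : Versch.IsVerschiebung p R A v) (a : A) :
    FrobAlg.relFrob p R A (v a) = SGA3b.powConv R A p a := by
  classical
  rw [Versch.isVerschiebung_iff] at hv
  obtain ⟨n, f, g, -, -, hfg⟩ := Module.Finite.exists_comp_eq_id_of_projective R A
  let e : Fin n → A := fun j => f (fun i => if j = i then 1 else 0)
  let x : Fin n → (A →ₗ[R] R) := fun j => LinearMap.proj j ∘ₗ g
  have hdec : ∀ b : A, b = ∑ j, x j b • e j := by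
    intro b
    have h1 := LinearMap.congr_fun hfg b
    rw [LinearMap.comp_apply, LinearMap.pi_apply_eq_sum_univ, LinearMap.id_apply] at h1
    exact h1.symm
  have hrel : ∀ (b : A) (s : FrobAlg.Twist p R), FrobAlg.relFrob p R A (b ⊗ₜ[R] s) =
      b ^ p * algebraMap R A ((FrobAlg.toTwist p R).symm s) := by
    intro b s
    simp [FrobAlg.relFrob, FrobAlg.frobHom, FrobAlg.inclHom, Algebra.TensorProduct.lift_tmul]
    rfl
  have key1 : ∀ z : FrobAlg.BaseChange p R A, FrobAlg.relFrob p R A z =
      ∑ j, e j ^ p * algebraMap R A ((FrobAlg.toTwist p R).symm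
        (Versch.evTw p R A (toConv (x j)) z)) := by
    intro z
    induction z using TensorProduct.induction_on with
    | zero => simp
    | add z w hz hw =>
      rw [map_add, hz, hw, ← Finset.sum_add_distrib]
      refine Finset.sum_congr rfl (fun j _ => ?_)
      rw [map_add, map_add, map_add, mul_add]
    | tmul b s =>
      rw [hrel]
      have h2 : ∀ j, e j ^ p * algebraMap R A ((FrobAlg.toTwist p R).symm
          (Versch.evTw p R A (toConv (x j)) (b ⊗ₜ[R] s))) =
          (x j b • e j) ^ p * algebraMap R A ((FrobAlg.toTwist p R).symm s) := by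
        intro j
        rw [Versch.evTw_tmul', map_mul, RingEquiv.symm_apply_apply, map_mul, map_pow,
          Algebra.smul_def, mul_pow]
        show e j ^ p * (algebraMap R A (x j b) ^ p * _) = _
        ring
      rw [Finset.sum_congr rfl (fun j _ => h2 j), ← Finset.sum_mul, ← sum_pow_char, ← hdec]
  have key2 : ∀ b : A, SGA3b.powConv R A p b =
      ∑ j, e j ^ p * algebraMap R A (((toConv (x j) : WithConv (A →ₗ[R] R)) ^ p).ofConv b) := by
    intro b
    have h3 : (toConv (LinearMap.id : A →ₗ[R] A) : WithConv (A →ₗ[R] A)) =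
        ∑ j, e j • toConv ((Algebra.ofId R A).toLinearMap ∘ₗ
          (toConv (x j) : WithConv (A →ₗ[R] R)).ofConv) := by
      apply ofConv_injective
      apply LinearMap.ext
      intro c
      rw [ofConv_sum, LinearMap.sum_apply]
      simp only [ofConv_smul, LinearMap.smul_apply, ofConv_toConv, LinearMap.comp_apply,
        LinearMap.id_apply]
      conv_lhs => rw [hdec c]
      refine Finset.sum_congr rfl (fun j _ => ?_)
      rw [Algebra.smul_def, mul_comm]
      rfl
    have h4 : (SGA3b.powConv R A p) b =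
        ((toConv (LinearMap.id : A →ₗ[R] A) : WithConv (A →ₗ[R] A)) ^ p).ofConv b := by
      have h5 := AlgHom.toLinearMap_convPow (toConv (AlgHom.id R A) : WithConv (A →ₐ[R] A)) p
      exact congrArg (fun F : WithConv (A →ₗ[R] A) => F.ofConv b) h5
    rw [h4, h3, sum_pow_char, ofConv_sum, LinearMap.sum_apply]
    refine Finset.sum_congr rfl (fun j _ => ?_)
    rw [smul_pow, ofId_comp_pow, ofConv_smul, LinearMap.smul_apply, ofConv_toConv,
      LinearMap.comp_apply, smul_eq_mul]
    rfl
  rw [key1, key2]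
  refine Finset.sum_congr rfl (fun j _ => ?_)
  rw [hv a (toConv (x j)), RingEquiv.symm_apply_apply]

section PowConv

variable (R : Type u) [CommRing R] (A : Type u) [CommRing A] [HopfAlgebra R A]

theorem algHom_comp_convPow (h : A →ₐ[R] A) (f : WithConv (A →ₐ[R] A)) (m : ℕ) :
    h.comp (f ^ m).ofConv = ((toConv (h.comp f.ofConv) : WithConv (A →ₐ[R] A)) ^ m).ofConv := by
  induction m with
  | zero =>
    rw [pow_zero, pow_zero]
    apply AlgHom.ext
    intro c
    show h (algebraMap R A (Coalgebra.counit (R := R) c)) = algebraMap R A (Coalgebra.counit (R := R) c)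
    rw [AlgHom.commutes]
  | succ m ih =>
    rw [pow_succ, AlgHom.comp_convMul_distrib, ih, pow_succ]

theorem powConv_comp (m n : ℕ) :
    (SGA3b.powConv R A n).comp (SGA3b.powConv R A m) = SGA3b.powConv R A (n * m) := by
  have h1 := algHom_comp_convPow R A (SGA3b.powConv R A n) (toConv (AlgHom.id R A)) m
  have h2 : (toConv ((SGA3b.powConv R A n).comp (toConv (AlgHom.id R A)).ofConv) :
      WithConv (A →ₐ[R] A)) = (toConv (AlgHom.id R A)) ^ n := rfl
  rw [h2, ← pow_mul] at h1
  exact h1

theorem powConv_one : SGA3b.powConv R A 1 = AlgHom.id R A := by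
  show ((toConv (AlgHom.id R A) : WithConv (A →ₐ[R] A)) ^ 1).ofConv = AlgHom.id R A
  rw [pow_one]

end PowConv

section BaseChangePow

variable (R : Type u) [CommRing R] (S : Type u) [CommRing S] [Algebra R S]
  (A : Type u) [CommRing A] [HopfAlgebra R A]

theorem comul_tmul_eq' (c : S) (a : A) :
    CoalgebraStruct.comul (R := S) (A := S ⊗[R] A) (c ⊗ₜ[R] a) =
      TensorProduct.AlgebraTensorModule.tensorTensorTensorComm R S R S S S A A
        (((1 : S) ⊗ₜ[S] c) ⊗ₜ[R] CoalgebraStruct.comul (R := R) a) := rfl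

theorem mul'_map_tttc (F G : S ⊗[R] A →ₗ[S] S ⊗[R] A) (f g : A →ₗ[R] A)
    (hF : ∀ s a, F (s ⊗ₜ[R] a) = s ⊗ₜ[R] f a) (hG : ∀ s a, G (s ⊗ₜ[R] a) = s ⊗ₜ[R] g a)
    (s : S) (t : A ⊗[R] A) :
    LinearMap.mul' S (S ⊗[R] A) (TensorProduct.map F G
      (TensorProduct.AlgebraTensorModule.tensorTensorTensorComm R S R S S S A A
        (((1 : S) ⊗ₜ[S] s) ⊗ₜ[R] t))) =
    s ⊗ₜ[R] LinearMap.mul' R A (TensorProduct.map f g t) := by
  induction t using TensorProduct.induction_on with
  | zero => simp
  | add x y hx hy => simp only [TensorProduct.tmul_add, map_add, hx, hy]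
  | tmul a₁ a₂ =>
    rw [TensorProduct.AlgebraTensorModule.tensorTensorTensorComm_tmul, TensorProduct.map_tmul,
      LinearMap.mul'_apply, hF, hG, Algebra.TensorProduct.tmul_mul_tmul, one_mul,
      TensorProduct.map_tmul, LinearMap.mul'_apply]

theorem powConv_succ_apply (R : Type u) [CommRing R] (A : Type u) [CommRing A] [HopfAlgebra R A]
    (n : ℕ) (x : A) :
    SGA3b.powConv R A (n + 1) x = LinearMap.mul' R A (TensorProduct.map
      (SGA3b.powConv R A n).toLinearMap (AlgHom.id R A).toLinearMap
      (CoalgebraStruct.comul (R := R) x)) := by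
  have h1 : SGA3b.powConv R A (n + 1) =
      ((toConv (AlgHom.id R A) : WithConv (A →ₐ[R] A)) ^ n * toConv (AlgHom.id R A)).ofConv := by
    show ((toConv (AlgHom.id R A) : WithConv (A →ₐ[R] A)) ^ (n + 1)).ofConv = _
    rw [pow_succ]
  have h2 := AlgHom.toLinearMap_convMul ((toConv (AlgHom.id R A) : WithConv (A →ₐ[R] A)) ^ n)
    (toConv (AlgHom.id R A))
  have h3 := congrArg (fun L : WithConv (A →ₗ[R] A) => L.ofConv x) h2
  rw [h1]
  exact h3

theorem powConv_baseChange (n : ℕ) (s : S) (b : A) :
    SGA3b.powConv S (S ⊗[R] A) n (s ⊗ₜ[R] b) = s ⊗ₜ[R] SGA3b.powConv R A n b := by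
  induction n generalizing s b with
  | zero =>
    show ((toConv (AlgHom.id S (S ⊗[R] A)) : WithConv (S ⊗[R] A →ₐ[S] S ⊗[R] A)) ^ 0).ofConv
      (s ⊗ₜ[R] b) = s ⊗ₜ[R] ((toConv (AlgHom.id R A) : WithConv (A →ₐ[R] A)) ^ 0).ofConv b
    rw [pow_zero, pow_zero]
    show ((Coalgebra.counit (R := R) b • s) ⊗ₜ[R] (1 : A) : S ⊗[R] A) = _
    rw [TensorProduct.smul_tmul, ← Algebra.algebraMap_eq_smul_one]
    rfl
  | succ n ih =>
    rw [powConv_succ_apply, comul_tmul_eq', mul'_map_tttc R S A
      (SGA3b.powConv S (S ⊗[R] A) n).toLinearMap (AlgHom.id S (S ⊗[R] A)).toLinearMap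
      (SGA3b.powConv R A n).toLinearMap (AlgHom.id R A).toLinearMap (fun s a => ih s a)
      (fun s a => rfl), ← powConv_succ_apply]

end BaseChangePow

section FV

variable (p : ℕ) [Fact p.Prime] (R : Type u) [CommRing R] [CharP R p]
  (A : Type u) [CommRing A] [HopfAlgebra R A] [Coalgebra.IsCocomm R A]

theorem relFrob_tmul [CharP A p] (b : A) (s : FrobAlg.Twist p R) :
    FrobAlg.relFrob p R A (b ⊗ₜ[R] s) = b ^ p * algebraMap R A ((FrobAlg.toTwist p R).symm s) := by
  simp [FrobAlg.relFrob, FrobAlg.frobHom, FrobAlg.inclHom, Algebra.TensorProduct.lift_tmul]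
  rfl

theorem pow_p_eq_relFrob_tmul [CharP A p] (z : FrobAlg.BaseChange p R A) :
    z ^ p = FrobAlg.relFrob p R A z ⊗ₜ[R] (1 : FrobAlg.Twist p R) := by
  have hp : p.Prime := Fact.out
  induction z using TensorProduct.induction_on with
  | zero => rw [zero_pow hp.ne_zero, map_zero, TensorProduct.zero_tmul]
  | tmul b s =>
    have hs : s ^ p = algebraMap R (FrobAlg.Twist p R) ((FrobAlg.toTwist p R).symm s) := by
      rw [FrobAlg.algebraMap_twist, map_pow, RingEquiv.apply_symm_apply]
    rw [Algebra.TensorProduct.tmul_pow, hs, relFrob_tmul, Algebra.algebraMap_eq_smul_one,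
      ← TensorProduct.smul_tmul, Algebra.smul_def, mul_comm]
  | add z w hz hw =>
    obtain ⟨r, hr⟩ := exists_add_pow_prime_eq hp z w
    have hp0 : ((p : ℕ) : FrobAlg.BaseChange p R A) = 0 := by
      have h1 : ((p : ℕ) : FrobAlg.BaseChange p R A) =
          algebraMap A (FrobAlg.BaseChange p R A) ((p : ℕ) : A) := by
        rw [map_natCast]
      rw [h1, CharP.cast_eq_zero A p, map_zero]
    rw [hr, hp0, zero_mul, zero_mul, zero_mul, add_zero, hz, hw, map_add, TensorProduct.add_tmul]

theorem verschiebung_algebraMap [Module.Finite R A] [Module.Projective R A]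
    (v : A →+* FrobAlg.BaseChange p R A) (hv : Versch.IsVerschiebung p R A v) (r : R) :
    v (algebraMap R A r) = (1 : A) ⊗ₜ[R] FrobAlg.toTwist p R r := by
  rw [Versch.isVerschiebung_iff] at hv
  apply Versch.evTw_injective p R A
  intro x
  have h1 := hv 1 x
  rw [map_one, Algebra.TensorProduct.one_def, Versch.evTw_tmul', mul_one] at h1
  have h2 : (x ^ p) (1 : A) = (x (1 : A)) ^ p :=
    ((FrobAlg.toTwist p R).injective h1).symm
  rw [hv, Versch.evTw_tmul', Algebra.algebraMap_eq_smul_one, CartDual.coe_apply, map_smul,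
    ← CartDual.coe_apply, h2, smul_eq_mul, map_mul, mul_comm]

end FV

end Versch9
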