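import Mathlib

set_option maxHeartbeats 400000

namespace Groth.Agent.Lib.VeryDenseQC

universe u
variable {X : Type u} [TopologicalSpace X]

def FLC (Z : Set X) : Prop :=
  ∃ T : Set (Set X), T.Finite ∧ (∀ t ∈ T, IsLocallyClosed t) ∧ Z = ⋃₀ T

def LQC (Z : Set X) : Prop :=
  ∀ x : X, ∃ U : Set X, IsOpen U ∧ x ∈ U ∧
    ∃ T : Set (Set X), T.Finite ∧ (∀ t ∈ T, IsLocallyClosed t) ∧ U ∩ Z = ⋃₀ T

theorem FLC.inter_open {Z V : Set X} (hZ : FLC Z) (hV : IsOpen V) : FLC (Z ∩ V) := by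
  obtain ⟨T, hTf, hT, rfl⟩ := hZ
  refine ⟨(fun t => t ∩ V) '' T, hTf.image _, ?_, ?_⟩
  · rintro _ ⟨t, ht, rfl⟩
    exact (hT t ht).inter hV.isLocallyClosed
  · ext y
    constructor
    · rintro ⟨hy1, hyV⟩
      obtain ⟨t, ht, hyt⟩ := Set.mem_sUnion.mp hy1
      exact Set.mem_sUnion.mpr ⟨t ∩ V, ⟨t, ht, rfl⟩, hyt, hyV⟩
    · intro hy
      obtain ⟨_, ⟨t, ht, rfl⟩, hyt, hyV⟩ := Set.mem_sUnion.mp hy
      exact ⟨Set.mem_sUnion.mpr ⟨t, ht, hyt⟩, hyV⟩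

theorem LQC.inter_open {Z V : Set X} (hZ : LQC Z) (hV : IsOpen V) : LQC (Z ∩ V) := by
  intro x
  obtain ⟨U, hU, hxU, T, hTf, hT, hUT⟩ := hZ x
  obtain ⟨T', hT'f, hT', hUT'⟩ := FLC.inter_open ⟨T, hTf, hT, hUT⟩ hV
  refine ⟨U, hU, hxU, T', hT'f, hT', ?_⟩
  rw [← hUT', Set.inter_assoc]

theorem flc_of_isLocallyClosed {Z : Set X} (hZ : IsLocallyClosed Z) : FLC Z :=
  ⟨{Z}, Set.finite_singleton Z, fun t ht => by rw [Set.mem_singleton_iff.mp ht]; exact hZ,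
    (Set.sUnion_singleton Z).symm⟩

theorem flc_empty : FLC (∅ : Set X) :=
  ⟨∅, Set.finite_empty, fun t ht => ((Set.mem_empty_iff_false t).mp ht).elim,
    Set.sUnion_empty.symm⟩

theorem FLC.lqc {Z : Set X} (hZ : FLC Z) : LQC Z := by
  intro x
  obtain ⟨T, hTf, hT, hZT⟩ := hZ
  exact ⟨Set.univ, isOpen_univ, Set.mem_univ x, T, hTf, hT, by rw [Set.univ_inter]; exact hZT⟩

theorem a_imp_b (X₀ : Set X)
    (ha : ∀ Z : Set X, IsLocallyClosed Z → Z.Nonempty → (Z ∩ X₀).Nonempty) :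
    ∀ Z : Set X, LQC Z → Z.Nonempty → (Z ∩ X₀).Nonempty := by
  rintro Z hZ ⟨x, hx⟩
  obtain ⟨U, hU, hxU, T, hTf, hT, hUT⟩ := hZ x
  have hx' : x ∈ ⋃₀ T := by rw [← hUT]; exact ⟨hxU, hx⟩
  obtain ⟨t, ht, hxt⟩ := Set.mem_sUnion.mp hx'
  obtain ⟨y, hyt, hy0⟩ := ha t (hT t ht) ⟨x, hxt⟩
  have hyUZ : y ∈ U ∩ Z := by rw [hUT]; exact Set.mem_sUnion.mpr ⟨t, ht, hyt⟩
  exact ⟨y, hyUZ.2, hy0⟩

theorem b_imp_c (X₀ : Set X)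
    (hb : ∀ Z : Set X, LQC Z → Z.Nonempty → (Z ∩ X₀).Nonempty) :
    ∀ Z : Set X, LQC Z → Z ⊆ closure (Z ∩ X₀) := by
  intro Z hZ x hx
  rw [mem_closure_iff]
  intro V hV hxV
  obtain ⟨y, ⟨hyZ, hyV⟩, hy0⟩ := hb (Z ∩ V) (hZ.inter_open hV) ⟨x, hx, hxV⟩
  exact ⟨y, hyV, hyZ, hy0⟩

theorem c_imp_a (X₀ : Set X) (hc : ∀ Z : Set X, LQC Z → Z ⊆ closure (Z ∩ X₀)) :
    ∀ Z : Set X, IsLocallyClosed Z → Z.Nonempty → (Z ∩ X₀).Nonempty := by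
  rintro Z hZ ⟨x, hx⟩
  have h := hc Z (flc_of_isLocallyClosed hZ).lqc hx
  exact closure_nonempty_iff.mp ⟨x, h⟩

theorem exists_sep (x : X) : ∀ T : Set (Set X), T.Finite → (∀ t ∈ T, IsLocallyClosed t) →
    x ∉ ⋃₀ T → ∃ L : Set X, IsLocallyClosed L ∧ x ∈ L ∧ ∀ t ∈ T, ∀ y ∈ L, y ∉ t := by
  intro T hTf
  induction T, hTf using Set.Finite.induction_on with
  | empty =>
    intro _ _
    exact ⟨Set.univ, isOpen_univ.isLocallyClosed, Set.mem_univ x,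
      fun t ht => ((Set.mem_empty_iff_false t).mp ht).elim⟩
  | @insert a s has hs ih =>
    intro hT hx
    have hxa : x ∉ a := fun h => hx (Set.mem_sUnion.mpr ⟨a, Set.mem_insert a s, h⟩)
    have hxs : x ∉ ⋃₀ s := fun h => by
      obtain ⟨t, ht, hxt⟩ := Set.mem_sUnion.mp h
      exact hx (Set.mem_sUnion.mpr ⟨t, Set.mem_insert_of_mem a ht, hxt⟩)
    obtain ⟨L, hL, hxL, hLs⟩ := ih (fun t ht => hT t (Set.mem_insert_of_mem a ht)) hxs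
    obtain ⟨O, C, hO, hC, haOC⟩ := hT a (Set.mem_insert a s)
    obtain ⟨M, hM, hxM, hMa⟩ : ∃ M : Set X, IsLocallyClosed M ∧ x ∈ M ∧ ∀ y ∈ M, y ∉ a := by
      by_cases hxO : x ∈ O
      · have hxC : x ∉ C := fun h => hxa (by rw [haOC]; exact ⟨hxO, h⟩)
        refine ⟨Cᶜ, hC.isOpen_compl.isLocallyClosed, hxC, fun y hy hya => hy ?_⟩
        rw [haOC] at hya
        exact hya.2
      · refine ⟨Oᶜ, hO.isClosed_compl.isLocallyClosed, hxO, fun y hy hya => hy ?_⟩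
        rw [haOC] at hya
        exact hya.1
    refine ⟨M ∩ L, hM.inter hL, ⟨hxM, hxL⟩, ?_⟩
    intro t ht y hy
    rcases Set.mem_insert_iff.mp ht with h | ht'
    · rw [h]
      exact hMa y hy.1
    · exact hLs t ht' y hy.2

theorem a_imp_e_aux (X₀ : Set X)
    (ha : ∀ Z : Set X, IsLocallyClosed Z → Z.Nonempty → (Z ∩ X₀).Nonempty)
    {Z Z' : Set X} (hZ : LQC Z) (hZ' : LQC Z') (h0 : Z ∩ X₀ ⊆ Z') : Z ⊆ Z' := by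
  intro x hx
  by_contra hx'
  obtain ⟨U, hU, hxU, T, hTf, hT, hUT⟩ := hZ x
  obtain ⟨U', hU', hxU', T', hT'f, hT', hUT'⟩ := hZ' x
  have hxT : x ∈ ⋃₀ T := by rw [← hUT]; exact ⟨hxU, hx⟩
  obtain ⟨t, ht, hxt⟩ := Set.mem_sUnion.mp hxT
  have hxT' : x ∉ ⋃₀ T' := by
    rw [← hUT']
    exact fun h => hx' h.2
  obtain ⟨L, hL, hxL, hLT'⟩ := exists_sep x T' hT'f hT' hxT'
  obtain ⟨y, ⟨⟨hyt, hyU'⟩, hyL⟩, hy0⟩ := ha ((t ∩ U') ∩ L)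
    (((hT t ht).inter hU'.isLocallyClosed).inter hL) ⟨x, ⟨hxt, hxU'⟩, hxL⟩
  have hyZ : y ∈ Z := by
    have : y ∈ U ∩ Z := by rw [hUT]; exact Set.mem_sUnion.mpr ⟨t, ht, hyt⟩
    exact this.2
  have hyZ' : y ∈ Z' := h0 ⟨hyZ, hy0⟩
  have hyT' : y ∈ ⋃₀ T' := by rw [← hUT']; exact ⟨hyU', hyZ'⟩
  obtain ⟨t', ht', hyt'⟩ := Set.mem_sUnion.mp hyT'
  exact hLT' t' ht' y hyL hyt'

theorem a_imp_e (X₀ : Set X)
    (ha : ∀ Z : Set X, IsLocallyClosed Z → Z.Nonempty → (Z ∩ X₀).Nonempty) :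
    ∀ Z Z' : Set X, LQC Z → LQC Z' → Z ∩ X₀ = Z' ∩ X₀ → Z = Z' := by
  intro Z Z' hZ hZ' h
  apply Set.Subset.antisymm
  · refine a_imp_e_aux X₀ ha hZ hZ' (fun y hy => ?_)
    have : y ∈ Z' ∩ X₀ := by rw [← h]; exact hy
    exact this.1
  · refine a_imp_e_aux X₀ ha hZ' hZ (fun y hy => ?_)
    have : y ∈ Z ∩ X₀ := by rw [h]; exact hy
    exact this.1

theorem e_imp_d (X₀ : Set X)
    (he : ∀ Z Z' : Set X, LQC Z → LQC Z' → Z ∩ X₀ = Z' ∩ X₀ → Z = Z') :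
    ∀ Z Z' : Set X, FLC Z → FLC Z' → Z ∩ X₀ = Z' ∩ X₀ → Z = Z' :=
  fun Z Z' hZ hZ' h => he Z Z' hZ.lqc hZ'.lqc h

theorem d_imp_a (X₀ : Set X)
    (hd : ∀ Z Z' : Set X, FLC Z → FLC Z' → Z ∩ X₀ = Z' ∩ X₀ → Z = Z') :
    ∀ Z : Set X, IsLocallyClosed Z → Z.Nonempty → (Z ∩ X₀).Nonempty := by
  intro Z hZ hne
  by_contra hcon
  rw [Set.not_nonempty_iff_eq_empty] at hcon
  have := hd Z ∅ (flc_of_isLocallyClosed hZ) flc_empty (by rw [hcon, Set.empty_inter])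
  rw [this] at hne
  exact Set.not_nonempty_empty hne

theorem part2 (X₀ : Set X)
    (ha : ∀ Z : Set X, IsLocallyClosed Z → Z.Nonempty → (Z ∩ X₀).Nonempty)
    (Z₀ : Set ↥X₀) (hZ₀ : LQC Z₀) : ∃ Z : Set X, LQC Z ∧ Subtype.val ⁻¹' Z = Z₀ := by
  have hd := e_imp_d X₀ (a_imp_e X₀ ha)
  have key : ∀ x : ↥X₀, ∃ V C : Set X, IsOpen V ∧ x.1 ∈ V ∧ FLC C ∧ C ⊆ V ∧
      (Subtype.val ⁻¹' C : Set ↥X₀) = Subtype.val ⁻¹' V ∩ Z₀ := by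
    intro x
    obtain ⟨U, hU, hxU, T, hTf, hT, hUT⟩ := hZ₀ x
    obtain ⟨V, hV, rfl⟩ := isOpen_induced_iff.mp hU
    have hs : ∀ t ∈ T, ∃ s : Set X, IsLocallyClosed s ∧ Subtype.val ⁻¹' s = t := fun t ht =>
      (Topology.IsInducing.subtypeVal.isLocallyClosed_iff).mp (hT t ht)
    choose! s hs1 hs2 using hs
    refine ⟨V, (⋃₀ (s '' T)) ∩ V, hV, hxU, ?_, Set.inter_subset_right, ?_⟩
    · exact FLC.inter_open ⟨s '' T, hTf.image s,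
        by rintro _ ⟨t, ht, rfl⟩; exact hs1 t ht, rfl⟩ hV
    · ext y
      constructor
      · rintro ⟨hy1, hyV⟩
        obtain ⟨_, ⟨t, ht, rfl⟩, hyt⟩ := Set.mem_sUnion.mp hy1
        have hyt' : y ∈ t := by rw [← hs2 t ht]; exact hyt
        have : y ∈ Subtype.val ⁻¹' V ∩ Z₀ := by
          rw [hUT]; exact Set.mem_sUnion.mpr ⟨t, ht, hyt'⟩
        exact ⟨hyV, this.2⟩
      · rintro ⟨hyV, hyZ⟩
        have : y ∈ ⋃₀ T := by rw [← hUT]; exact ⟨hyV, hyZ⟩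
        obtain ⟨t, ht, hyt⟩ := Set.mem_sUnion.mp this
        refine ⟨Set.mem_sUnion.mpr ⟨s t, ⟨t, ht, rfl⟩, ?_⟩, hyV⟩
        have : y ∈ Subtype.val ⁻¹' (s t) := by rw [hs2 t ht]; exact hyt
        exact this
  choose V C hV hxV hC hCV hpre using key
  have hW : ∀ x : X, ∃ y : ↥X₀, x ∈ V y := by
    intro x
    by_contra hx
    have hxW : x ∈ (⋃ y : ↥X₀, V y)ᶜ := fun h => by
      obtain ⟨y, hy⟩ := Set.mem_iUnion.mp h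
      exact hx ⟨y, hy⟩
    obtain ⟨z, hzW, hz0⟩ := ha _ (isOpen_iUnion hV).isClosed_compl.isLocallyClosed ⟨x, hxW⟩
    exact hzW (Set.mem_iUnion.mpr ⟨⟨z, hz0⟩, hxV ⟨z, hz0⟩⟩)
  have hhalf : ∀ x y : ↥X₀, (C x ∩ V y) ∩ X₀ ⊆ (C y ∩ V x) ∩ X₀ := by
    rintro x y z ⟨⟨hzC, hzV⟩, hz0⟩
    have h1 : (⟨z, hz0⟩ : ↥X₀) ∈ (Subtype.val ⁻¹' C x : Set ↥X₀) := hzC
    rw [hpre x] at h1
    have h2 : (⟨z, hz0⟩ : ↥X₀) ∈ (Subtype.val ⁻¹' C y : Set ↥X₀) := by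
      rw [hpre y]; exact ⟨hzV, h1.2⟩
    exact ⟨⟨h2, h1.1⟩, hz0⟩
  have hglue : ∀ x y : ↥X₀, C x ∩ V y = C y ∩ V x := fun x y =>
    hd _ _ ((hC x).inter_open (hV y)) ((hC y).inter_open (hV x))
      (Set.Subset.antisymm (hhalf x y) (hhalf y x))
  refine ⟨⋃ x : ↥X₀, C x, ?_, ?_⟩
  · intro x
    obtain ⟨y, hxy⟩ := hW x
    obtain ⟨T, hTf, hT, hCT⟩ := hC y
    refine ⟨V y, hV y, hxy, T, hTf, hT, ?_⟩
    rw [← hCT]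
    ext z
    constructor
    · rintro ⟨hzV, hzC⟩
      obtain ⟨w, hzw⟩ := Set.mem_iUnion.mp hzC
      have : z ∈ C w ∩ V y := ⟨hzw, hzV⟩
      rw [hglue w y] at this
      exact this.1
    · intro hz
      exact ⟨hCV y hz, Set.mem_iUnion.mpr ⟨y, hz⟩⟩
  · ext z
    constructor
    · intro hz
      have hz' : (z : X) ∈ ⋃ x : ↥X₀, C x := hz
      obtain ⟨w, hzw⟩ := Set.mem_iUnion.mp hz'
      have : z ∈ (Subtype.val ⁻¹' C w : Set ↥X₀) := hzw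
      rw [hpre w] at this
      exact this.2
    · intro hz
      have : z ∈ (Subtype.val ⁻¹' C z : Set ↥X₀) := by rw [hpre z]; exact ⟨hxV z, hz⟩
      show (z : X) ∈ ⋃ x : ↥X₀, C x
      exact Set.mem_iUnion.mpr ⟨z, this⟩

theorem main (X₀ : Set X) :
    [∀ Z : Set X, IsLocallyClosed Z → Z.Nonempty → (Z ∩ X₀).Nonempty,
      ∀ Z : Set X, LQC Z → Z.Nonempty → (Z ∩ X₀).Nonempty,
      ∀ Z : Set X, LQC Z → Z ⊆ closure (Z ∩ X₀),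
      ∀ Z Z' : Set X, FLC Z → FLC Z' → Z ∩ X₀ = Z' ∩ X₀ → Z = Z',
      ∀ Z Z' : Set X, LQC Z → LQC Z' → Z ∩ X₀ = Z' ∩ X₀ → Z = Z'].TFAE ∧
    ((∀ Z : Set X, IsLocallyClosed Z → Z.Nonempty → (Z ∩ X₀).Nonempty) →
      ∀ Z₀ : Set ↥X₀, LQC Z₀ → ∃ Z : Set X, LQC Z ∧ Subtype.val ⁻¹' Z = Z₀) := by
  refine ⟨?_, part2 X₀⟩
  tfae_have 1 → 2 := a_imp_b X₀
  tfae_have 2 → 3 := b_imp_c X₀
  tfae_have 3 → 1 := c_imp_a X₀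
  tfae_have 1 → 5 := a_imp_e X₀
  tfae_have 5 → 4 := e_imp_d X₀
  tfae_have 4 → 1 := d_imp_a X₀
  tfae_finish

end Groth.Agent.Lib.VeryDenseQC
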