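import Mathlib
import Groth.Prelude
import Groth.Agent.Lib.Higgs1_helper9
import Groth.Agent.Lib.TensBasis4_helper9
import Groth.Agent.Lib.VBCurve2_helper9
import Groth.Agent.Lib.CurveG12b_helper9
import Groth.Agent.Lib.ResProp3_lead

/-!
# Nilpotent twisted endomorphisms of rank two bundles on a curve (helper9)

A rank two bundle `E` on a regular curve carries a nonzero `α : E → E ⊗ K` with `α ∘ α = 0`
(`K` finite locally free) iff it has a line subbundle `L` with a nonzero map `E/L → L ⊗ K`.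
APPEND-ONLY once landed.
-/

set_option autoImplicit false
universe u
open CategoryTheory CategoryTheory.Limits AlgebraicGeometry Opposite TopologicalSpace

namespace VeryStab

open Groth.Agent.TensInv

section Abstract

variable {C : Type*} [Category C] [Preadditive C] (T : C ⥤ C) [T.Additive]

theorem nil_aux {A B Q : C} (π : B ⟶ Q) (β : Q ⟶ T.obj A) (jK : T.obj A ⟶ T.obj B)
    (h1 : jK ≫ T.map π = 0) : (π ≫ β ≫ jK) ≫ T.map (π ≫ β ≫ jK) = 0 := by
  rw [Functor.map_comp, Category.assoc, Category.assoc, ← Category.assoc jK, h1, zero_comp,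
    comp_zero, comp_zero]

theorem beta_zero {A B Q : C} (π : B ⟶ Q) [Epi π] (β : Q ⟶ T.obj A) (jK : T.obj A ⟶ T.obj B)
    [Mono jK] (h0 : π ≫ β ≫ jK = 0) : β = 0 := by
  have h2 : β ≫ jK = 0 := by
    rw [← cancel_epi π, h0, comp_zero]
  rw [← cancel_mono jK, h2, zero_comp]

theorem image_comp_zero {B I : C} (g : B ⟶ I) [Epi g] (ι : I ⟶ T.obj B) [Mono (T.map ι)]
    (h : (g ≫ ι) ≫ T.map (g ≫ ι) = 0) : ι ≫ T.map g = 0 := by
  rw [← cancel_epi g, ← cancel_mono (T.map ι), comp_zero, zero_comp, Category.assoc,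
    Category.assoc, ← Functor.map_comp, ← Category.assoc]
  exact h

theorem comp_self_of_mono {B : C} (α : B ⟶ T.obj B) [Mono (T.map α)]
    (h : α ≫ T.map α = 0) : α = 0 := by
  have h' : α ≫ T.map α = 0 ≫ T.map α := by rw [h, zero_comp]
  exact (cancel_mono _).1 h'

theorem eq_zero_of_epi_comp {A B D : C} (e : A ⟶ B) [Epi e] (γ : B ⟶ D) (h : e ≫ γ = 0) :
    γ = 0 := by
  rw [← cancel_epi e, h, comp_zero]

theorem comp_eq_zero_of_lift_zero {B I A' D : C} (g : B ⟶ I) (ι : I ⟶ D) (γ : I ⟶ A')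
    (f' : A' ⟶ D) (hγ : γ ≫ f' = ι) (h4 : γ = 0) : g ≫ ι = 0 := by
  rw [← hγ, h4, zero_comp, comp_zero]

end Abstract

section Easy

variable {X : Scheme.{u}}

/-- a line subbundle with a nonzero map `E/L → L ⊗ K` gives a nonzero nilpotent -/
theorem nilpotent_of_sub {K E L : X.Modules} (hK : FlatMod.IsFinLocFree K) (j : L ⟶ E) [Mono j]
    (β : cokernel j ⟶ (tR K).obj L) (hβ : β ≠ 0) :
    ∃ α : E ⟶ (tR K).obj E, α ≫ (tR K).map α = 0 ∧ α ≠ 0 := by
  haveI : Mono ((tR K).map j) := TensBasis.mono_tR hK j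
  have h1 : (tR K).map j ≫ (tR K).map (cokernel.π j) = 0 := by
    rw [← Functor.map_comp, cokernel.condition, Functor.map_zero]
  exact ⟨cokernel.π j ≫ β ≫ (tR K).map j, nil_aux (tR K) _ _ _ h1,
    fun h0 => hβ (beta_zero (tR K) (cokernel.π j) β ((tR K).map j) h0)⟩

end Easy

section Hard

/-- a nonzero nilpotent twisted endomorphism of a rank two bundle gives a line subbundle -/
theorem exists_sub_of_nilpotent (k : Type u) [Field k] (X : Scheme.{u})
    [X.Over (Spec (CommRingCat.of k))] [IsIntegral X] [IsProper (X ↘ Spec (CommRingCat.of k))]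
    (hreg : ∀ x : X, IsRegularLocalRing (X.presheaf.stalk x))
    (hdim : topologicalKrullDim X ≤ 1) {K E : X.Modules} (hK : FlatMod.IsFinLocFree K)
    (hE : FlatMod.IsFinLocFreeOfRank 2 E) (α : E ⟶ (tR K).obj E) (hα : α ≠ 0)
    (hα2 : α ≫ (tR K).map α = 0) :
    ∃ (L : X.Modules) (j : L ⟶ E), PicF.IsInvertible L ∧ Mono j ∧
      PicF.IsInvertible (cokernel j) ∧ ∃ β : cokernel j ⟶ (tR K).obj L, β ≠ 0 := by
  haveI : IsLocallyNoetherian X :=
    LocallyOfFiniteType.isLocallyNoetherian (X ↘ Spec (CommRingCat.of k))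
  have hEf := FLFH8.IsFinLocFreeOfRank.isFinLocFree E hE
  have hEK : FlatMod.IsFinLocFree ((tR K).obj E) :=
    Groth.Agent.Lib.ResPropL.isFinLocFree_tensorMod hEf hK
  obtain ⟨rK, rI, hKer, hIm, hrr, hrI, -, hK0⟩ :=
    VBCurve.exists_kerIm_data k X hreg hdim α hα hE hEK
  have hrK : 0 < rK := by
    rw [Nat.pos_iff_ne_zero]
    intro h0
    obtain ⟨-, hmono⟩ := hK0 h0
    haveI := hmono
    haveI : Mono ((tR K).map α) := TensBasis.mono_tR hK α
    exact hα (comp_self_of_mono (tR K) α hα2)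
  obtain rfl : rK = 1 := by omega
  obtain rfl : rI = 1 := by omega
  have hS := VBCurve.kerImSC_shortExact α
  have hmf : Mono (VBCurve.kerImSC α).f := hS.mono_f
  have heg : Epi (VBCurve.kerImSC α).g := hS.epi_g
  have hLinv : PicF.IsInvertible (VBCurve.kerImSC α).X₁ := CurveG12.isInvertible_of_rank_one hKer
  have hIinv : PicF.IsInvertible (VBCurve.kerImSC α).X₃ := CurveG12.isInvertible_of_rank_one hIm
  let e : cokernel (VBCurve.kerImSC α).f ≅ (VBCurve.kerImSC α).X₃ :=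
    colimit.isoColimitCocone ⟨_, hS.gIsCokernel⟩
  have hSK := TensBasis.shortExact_tR hK (VBCurve.kerImSC α) hS
  let ι : (VBCurve.kerImSC α).X₃ ⟶ (tR K).obj E := Abelian.image.ι α
  have hfac : (VBCurve.kerImSC α).g ≫ ι = α := Abelian.image.fac α
  haveI : Mono ι := inferInstanceAs (Mono (Abelian.image.ι α))
  have hmι : Mono ((tR K).map ι) := TensBasis.mono_tR hK ι
  have h3 : ι ≫ (tR K).map (VBCurve.kerImSC α).g = 0 :=
    @image_comp_zero _ _ _ (tR K) _ _ _ (VBCurve.kerImSC α).g heg ι hmι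
      (hfac.symm ▸ hα2)
  let γ : (VBCurve.kerImSC α).X₃ ⟶ (tR K).obj (VBCurve.kerImSC α).X₁ :=
    hSK.fIsKernel.lift (KernelFork.ofι ι h3)
  have hγ : γ ≫ (tR K).map (VBCurve.kerImSC α).f = ι :=
    hSK.fIsKernel.fac (KernelFork.ofι ι h3) WalkingParallelPair.zero
  refine ⟨(VBCurve.kerImSC α).X₁, (VBCurve.kerImSC α).f, hLinv, hmf,
    TensH8.isInvertible_of_iso' e.symm hIinv, e.hom ≫ γ, ?_⟩
  intro h0
  apply hα
  have h4 : γ = 0 := @eq_zero_of_epi_comp _ _ _ _ _ _ e.hom inferInstance γ h0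
  exact hfac.symm.trans (comp_eq_zero_of_lift_zero _ ι γ _ hγ h4)

end Hard

end VeryStab
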