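import Mathlib
import Groth.Prelude.Def_W4c1liftfrobW2
import Groth.Prelude.Def_WittGrp
import Groth.Agent.Lib.SplitW2Lift_lead

/-!
# `W₂`-liftability descends along a linearly split ring map (S13143)
-/

set_option autoImplicit false
universe u

namespace Groth.Agent.Lib.W2LiftDescend

open Groth.Agent.Lib.QFSplitShift Groth.Agent.Lib.QFSplitLift Groth.Agent.Lib.SplitW2Lift

/-- Converse of `flat_of_criterion`. -/
theorem flat_criterion_conv {W M : Type*} [CommRing W] [AddCommGroup M] [Module W M] (π₀ : W)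
    (hne : π₀ ≠ 0) (hW : ∀ x : W, IsUnit x ∨ ∃ y, x = π₀ * y) [Module.Flat W M] (m : M)
    (h : π₀ • m = 0) : ∃ m', m = π₀ • m' := by
  have hrel : ∑ i : Unit, (fun _ => π₀) i • (fun _ => m) i = 0 := by simpa using h
  obtain ⟨n, a, y, hx, ha⟩ := Module.Flat.isTrivialRelation_of_sum_smul_eq_zero hrel
  have hc : ∀ j, ∃ c, a () j = π₀ * c := by
    intro j
    have hj : π₀ * a () j = 0 := by simpa using ha j
    rcases hW (a () j) with hu | hc
    · exfalso
      apply hne
      exact (hu.mul_left_eq_zero).mp hj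
    · exact hc
  choose c hc using hc
  refine ⟨∑ j, c j • y j, ?_⟩
  have hm : m = ∑ j, a () j • y j := hx ()
  rw [Finset.smul_sum]
  refine hm.trans (Finset.sum_congr rfl fun j _ => ?_)
  rw [hc j, mul_smul]

section W2k
variable (p : ℕ) [Fact p.Prime] (k : Type u) [Field k] [CharP k p] [PerfectRing k p]

theorem p_ne_zero : (p : FrobAlg.W2 p k) ≠ 0 := by
  intro h
  have h1 := natCast_mul p 1 k (CharP.cast_eq_zero k p) 1
  rw [mul_one, h, map_one, map_one] at h1
  have h2 := coeff_shift_succ p 1 k (1 : TruncatedWittVector p 1 k) 1 ⟨0, Nat.one_pos⟩ rfl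
  rw [← h1, TruncatedWittVector.coeff_zero, coeff_zero_one] at h2
  exact zero_ne_one h2

end W2k

section descend

variable {A B B' : Type u} [CommRing A] [CommRing B] [Algebra A B] [CommRing B']

/-- The subring of `B'` of elements reducing into `A`. -/
def midRing (A : Type u) {B B' : Type u} [CommRing A] [CommRing B] [Algebra A B] [CommRing B']
    (π : B' →+* B) : Subring B' :=
  (algebraMap A B).range.comap π

theorem mem_midRing (π : B' →+* B) (x : midRing A π) : ∃ a : A, algebraMap A B a = π x :=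
  RingHom.mem_range.mp (Subring.mem_comap.mp x.2)

theorem midRing_spec (r : B →ₗ[A] A) (hr : ∀ a : A, r (algebraMap A B a) = a) (π : B' →+* B)
    (x : midRing A π) : algebraMap A B (r (π x)) = π x := by
  obtain ⟨a, ha⟩ := mem_midRing π x
  rw [← ha, hr]

/-- The projection `A'' → A`. -/
def midProj (r : B →ₗ[A] A) (hr : ∀ a : A, r (algebraMap A B a) = a) (π : B' →+* B) :
    midRing A π →+* A where
  toFun x := r (π x)
  map_one' := by
    change r (π (1 : B')) = 1
    rw [map_one, ← map_one (algebraMap A B), hr]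
  map_mul' x y := by
    obtain ⟨a, ha⟩ := mem_midRing π x
    obtain ⟨b, hb⟩ := mem_midRing π y
    change r (π ((x : B') * (y : B'))) = r (π x) * r (π y)
    rw [map_mul, ← ha, ← hb, ← map_mul, hr, hr, hr]
  map_zero' := by
    change r (π (0 : B')) = 0
    rw [map_zero, map_zero]
  map_add' x y := by
    change r (π ((x : B') + (y : B'))) = r (π x) + r (π y)
    rw [map_add, map_add]

/-- The ideal of `A''` by which we divide. -/
def midIdeal (p : ℕ) (r : B →ₗ[A] A) (hr : ∀ a : A, r (algebraMap A B a) = a) (π : B' →+* B) :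
    Ideal (midRing A π) where
  carrier := {x | ∃ b' : B', (x : B') = (p : B') * b' ∧ r (π b') = 0}
  add_mem' := by
    rintro x y ⟨b₁, h₁, hr₁⟩ ⟨b₂, h₂, hr₂⟩
    refine ⟨b₁ + b₂, ?_, ?_⟩
    · rw [Subring.coe_add, h₁, h₂, mul_add]
    · rw [map_add, map_add, hr₁, hr₂, add_zero]
  zero_mem' := ⟨0, by rw [Subring.coe_zero, mul_zero], by rw [map_zero, map_zero]⟩
  smul_mem' := by
    rintro c x ⟨b₁, h₁, hr₁⟩
    refine ⟨(c : B') * b₁, ?_, ?_⟩
    · rw [smul_eq_mul, Subring.coe_mul, h₁]
      ring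
    · rw [map_mul, ← midRing_spec r hr π c, ← Algebra.smul_def, map_smul, hr₁, smul_zero]

theorem mem_midIdeal (p : ℕ) (r : B →ₗ[A] A) (hr : ∀ a : A, r (algebraMap A B a) = a)
    (π : B' →+* B) (x : midRing A π) :
    x ∈ midIdeal p r hr π ↔ ∃ b' : B', (x : B') = (p : B') * b' ∧ r (π b') = 0 :=
  Iff.rfl

end descend

theorem isLift_descend (p : ℕ) [Fact p.Prime] (k : Type u) [Field k] [CharP k p]
    [PerfectRing k p]
    (A B : Type u) [CommRing A] [CommRing B] [Algebra k A] [Algebra k B]
    [Algebra A B] [IsScalarTower k A B]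
    (r : B →ₗ[A] A) (hr : ∀ a : A, r (algebraMap A B a) = a)
    (B' : Type u) [CommRing B'] (ι : FrobAlg.W2 p k →+* B') (π : B' →+* B)
    (hL : FrobAlg.IsLift p k B B' ι π) : FrobAlg.IsW2Liftable p k A := by
  have hpA : (p : A) = 0 := by
    rw [← map_natCast (algebraMap k A), CharP.cast_eq_zero, map_zero]
  have hpB : (p : B) = 0 := by
    rw [← map_natCast (algebraMap k B), CharP.cast_eq_zero, map_zero]
  have hkerπ : RingHom.ker π = Ideal.span {(p : B')} := by
    rw [hL.ker_eq, ker_res p k, Ideal.map_span, Set.image_singleton, map_natCast]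
  have hflatB : ∀ b' : B', (p : B') * b' = 0 → ∃ c', b' = (p : B') * c' := by
    letI : Algebra (FrobAlg.W2 p k) B' := ι.toAlgebra
    haveI : Module.Flat (FrobAlg.W2 p k) B' := hL.flat
    intro b' hb'
    have h : (p : FrobAlg.W2 p k) • b' = 0 := by
      rw [Algebra.smul_def, RingHom.algebraMap_toAlgebra, map_natCast]
      exact hb'
    obtain ⟨c', hc'⟩ := flat_criterion_conv (p : FrobAlg.W2 p k) (p_ne_zero p k)
      (isUnit_or p k) b' h
    refine ⟨c', ?_⟩
    rw [hc', Algebra.smul_def, RingHom.algebraMap_toAlgebra, map_natCast]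
  -- the data
  have hKker : ∀ x ∈ midIdeal p r hr π, midProj r hr π x = 0 := by
    rintro x ⟨b', hx, _⟩
    change r (π (x : B')) = 0
    rw [hx, map_mul, map_natCast, hpB, zero_mul, map_zero]
  have hιmem : ∀ w : FrobAlg.W2 p k, ι w ∈ midRing A π := by
    intro w
    have h := congrArg (fun f => f w) hL.comm
    simp only [RingHom.comp_apply] at h
    refine Subring.mem_comap.mpr (RingHom.mem_range.mpr
      ⟨algebraMap k A (FrobAlg.res p k w), ?_⟩)
    rw [← IsScalarTower.algebraMap_apply, h]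
  refine ⟨midRing A π ⧸ midIdeal p r hr π, inferInstance,
    (Ideal.Quotient.mk (midIdeal p r hr π)).comp (ι.codRestrict (midRing A π) hιmem),
    Ideal.Quotient.lift (midIdeal p r hr π) (midProj r hr π) hKker, ?_⟩
  have hπA : ∀ x : midRing A π,
      Ideal.Quotient.lift (midIdeal p r hr π) (midProj r hr π) hKker
        (Ideal.Quotient.mk (midIdeal p r hr π) x) = r (π x) := fun x => rfl
  have hιAp : ((Ideal.Quotient.mk (midIdeal p r hr π)).comp
      (ι.codRestrict (midRing A π) hιmem)) (p : FrobAlg.W2 p k) =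
      (p : midRing A π ⧸ midIdeal p r hr π) := map_natCast _ p
  have hπAp : Ideal.Quotient.lift (midIdeal p r hr π) (midProj r hr π) hKker
      (p : midRing A π ⧸ midIdeal p r hr π) = 0 := by
    rw [map_natCast, hpA]
  have hmkp : (p : midRing A π ⧸ midIdeal p r hr π) =
      Ideal.Quotient.mk (midIdeal p r hr π) (p : midRing A π) :=
    (map_natCast (Ideal.Quotient.mk (midIdeal p r hr π)) p).symm
  -- kernel of the projection
  have hkerA : ∀ q : midRing A π ⧸ midIdeal p r hr π,
      Ideal.Quotient.lift (midIdeal p r hr π) (midProj r hr π) hKker q = 0 →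
      ∃ q', q = (p : midRing A π ⧸ midIdeal p r hr π) * q' := by
    intro q hq
    obtain ⟨x, rfl⟩ := Ideal.Quotient.mk_surjective q
    rw [hπA] at hq
    have hπx : π x = 0 := by rw [← midRing_spec r hr π x, hq, map_zero]
    have hxmem : (x : B') ∈ RingHom.ker π := RingHom.mem_ker.mpr hπx
    rw [hkerπ, Ideal.mem_span_singleton'] at hxmem
    obtain ⟨b', hb'⟩ := hxmem
    obtain ⟨c', hc'⟩ := hL.surj (algebraMap A B (r (π b')))
    have hc'mem : c' ∈ midRing A π :=
      Subring.mem_comap.mpr (RingHom.mem_range.mpr ⟨r (π b'), hc'.symm⟩)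
    refine ⟨Ideal.Quotient.mk _ ⟨c', hc'mem⟩, ?_⟩
    rw [hmkp, ← map_mul, Ideal.Quotient.eq, mem_midIdeal]
    refine ⟨b' - c', ?_, ?_⟩
    · rw [show ((x - (p : midRing A π) * ⟨c', hc'mem⟩ : midRing A π) : B') =
          (x : B') - (p : B') * c' from rfl, ← hb']
      ring
    · rw [map_sub, map_sub, hc', hr, sub_self]
  refine ⟨?_, ?_, ?_, ?_⟩
  · -- flat
    letI : Algebra (FrobAlg.W2 p k) (midRing A π ⧸ midIdeal p r hr π) :=
      ((Ideal.Quotient.mk (midIdeal p r hr π)).comp
        (ι.codRestrict (midRing A π) hιmem)).toAlgebra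
    show Module.Flat (FrobAlg.W2 p k) (midRing A π ⧸ midIdeal p r hr π)
    refine flat_of_criterion (p : FrobAlg.W2 p k) (p_mul_p p k) (isUnit_or p k) ?_
    intro q hq
    rw [Algebra.smul_def, RingHom.algebraMap_toAlgebra, hιAp] at hq
    obtain ⟨x, rfl⟩ := Ideal.Quotient.mk_surjective q
    rw [hmkp, ← map_mul, Ideal.Quotient.eq_zero_iff_mem, mem_midIdeal] at hq
    obtain ⟨b', hb', hrb'⟩ := hq
    rw [Subring.coe_mul, Subring.coe_natCast] at hb'
    have h0 : (p : B') * ((x : B') - b') = 0 := by rw [mul_sub, hb', sub_self]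
    obtain ⟨c', hc'⟩ := hflatB _ h0
    have hπeq : π x = π b' := by
      have := congrArg π hc'
      rw [map_sub, map_mul, map_natCast, hpB, zero_mul, sub_eq_zero] at this
      exact this
    have hq0 : Ideal.Quotient.lift (midIdeal p r hr π) (midProj r hr π) hKker
        (Ideal.Quotient.mk (midIdeal p r hr π) x) = 0 := by
      rw [hπA, hπeq, hrb']
    obtain ⟨q', hq'⟩ := hkerA _ hq0
    refine ⟨q', ?_⟩
    rw [Algebra.smul_def, RingHom.algebraMap_toAlgebra, hιAp]
    exact hq'
  · -- surjective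
    intro a
    obtain ⟨b', hb'⟩ := hL.surj (algebraMap A B a)
    have hb'mem : b' ∈ midRing A π :=
      Subring.mem_comap.mpr (RingHom.mem_range.mpr ⟨a, hb'.symm⟩)
    refine ⟨Ideal.Quotient.mk _ ⟨b', hb'mem⟩, ?_⟩
    rw [hπA]
    change r (π b') = a
    rw [hb', hr]
  · -- kernel
    rw [ker_res p k, Ideal.map_span, Set.image_singleton, hιAp]
    apply le_antisymm
    · intro q hq
      obtain ⟨q', rfl⟩ := hkerA q (RingHom.mem_ker.mp hq)
      exact Ideal.mul_mem_right _ _ (Ideal.subset_span (Set.mem_singleton _))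
    · rw [Ideal.span_le, Set.singleton_subset_iff]
      exact RingHom.mem_ker.mpr hπAp
  · -- compatibility
    apply RingHom.ext
    intro w
    have h := congrArg (fun f => f w) hL.comm
    simp only [RingHom.comp_apply] at h
    rw [RingHom.comp_apply, RingHom.comp_apply, RingHom.comp_apply, hπA]
    change r (π (ι w)) = _
    rw [h, IsScalarTower.algebraMap_apply k A B, hr]

theorem main (p : ℕ) [Fact p.Prime] (k : Type u) [Field k] [CharP k p] [PerfectRing k p]
    (A B : Type u) [CommRing A] [CommRing B] [Algebra k A] [Algebra k B]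
    [Algebra A B] [IsScalarTower k A B]
    (r : B →ₗ[A] A) (hr : ∀ a : A, r (algebraMap A B a) = a)
    (hB : FrobAlg.IsW2Liftable p k B) : FrobAlg.IsW2Liftable p k A := by
  obtain ⟨B', instB', ι, π, hL⟩ := hB
  exact isLift_descend p k A B r hr B' ι π hL

end Groth.Agent.Lib.W2LiftDescend
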