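import Mathlib
import Groth.Prelude.Def_W4c1liftfrobW2
import Groth.Prelude.Def_WittGrp
import Groth.Agent.Lib.W2LiftDescend_lead

/-!
# Frobenius liftability descends along a linearly split ring map (S13144)
-/

set_option autoImplicit false
universe u

namespace Groth.Agent.Lib.W2FrobDescend

open Groth.Agent.Lib.QFSplitShift Groth.Agent.Lib.QFSplitLift Groth.Agent.Lib.SplitW2Lift
  Groth.Agent.Lib.W2LiftDescend

theorem main (p : ℕ) [Fact p.Prime] (k : Type u) [Field k] [CharP k p] [PerfectRing k p]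
    (A B : Type u) [CommRing A] [CommRing B] [Algebra k A] [Algebra k B]
    [Algebra A B] [IsScalarTower k A B]
    (r : B →ₗ[A] A) (hr : ∀ a : A, r (algebraMap A B a) = a)
    (A' B' : Type u) [CommRing A'] [CommRing B']
    (ιA : FrobAlg.W2 p k →+* A') (πA : A' →+* A) (hA : FrobAlg.IsLift p k A A' ιA πA)
    (ιB : FrobAlg.W2 p k →+* B') (πB : B' →+* B) (hB : FrobAlg.IsLift p k B B' ιB πB)
    (φ' : A' →+* B') (hφι : φ'.comp ιA = ιB) (hφπ : πB.comp φ' = (algebraMap A B).comp πA)
    (ΦB : B' →+* B') (hΦB : FrobAlg.IsFrobLift p k B B' ιB πB ΦB) :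
    ∃ ΦA : A' →+* A', FrobAlg.IsFrobLift p k A A' ιA πA ΦA := by
  have hpB : (p : B) = 0 := by
    rw [← map_natCast (algebraMap k B), CharP.cast_eq_zero, map_zero]
  have hinj : Function.Injective (algebraMap A B) := Function.LeftInverse.injective hr
  have hkerπA : RingHom.ker πA = Ideal.span {(p : A')} := by
    rw [hA.ker_eq, ker_res p k, Ideal.map_span, Set.image_singleton, map_natCast]
  have hkerπB : RingHom.ker πB = Ideal.span {(p : B')} := by
    rw [hB.ker_eq, ker_res p k, Ideal.map_span, Set.image_singleton, map_natCast]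
  have hppA : (p : A') * (p : A') = 0 := by
    have := congrArg ιA (p_mul_p p k)
    rwa [map_mul, map_natCast, map_zero] at this
  have hflatB : ∀ b' : B', (p : B') * b' = 0 → ∃ c', b' = (p : B') * c' := by
    letI : Algebra (FrobAlg.W2 p k) B' := ιB.toAlgebra
    haveI : Module.Flat (FrobAlg.W2 p k) B' := hB.flat
    intro b' hb'
    have h : (p : FrobAlg.W2 p k) • b' = 0 := by
      rw [Algebra.smul_def, RingHom.algebraMap_toAlgebra, map_natCast]
      exact hb'
    obtain ⟨c', hc'⟩ := flat_criterion_conv (p : FrobAlg.W2 p k) (p_ne_zero p k)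
      (isUnit_or p k) b' h
    refine ⟨c', ?_⟩
    rw [hc', Algebra.smul_def, RingHom.algebraMap_toAlgebra, map_natCast]
  have hφπ' : ∀ a', πB (φ' a') = algebraMap A B (πA a') := fun a' => by
    have := congrArg (fun f => f a') hφπ
    simpa using this
  have hφι' : ∀ w, φ' (ιA w) = ιB w := fun w => by
    have := congrArg (fun f => f w) hφι
    simpa using this
  have hsemi : ∀ w, ΦB (ιB w) = ιB (FrobAlg.sigma p k w) := fun w => by
    have := congrArg (fun f => f w) hΦB.semi
    simpa using this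
  have hφmem : ∀ a', φ' a' ∈ midRing A πB := fun a' =>
    Subring.mem_comap.mpr (RingHom.mem_range.mpr ⟨πA a', (hφπ' a').symm⟩)
  have hΦmem : ∀ x : midRing A πB, ΦB (x : B') ∈ midRing A πB := by
    intro x
    obtain ⟨a, ha⟩ := mem_midRing πB x
    refine Subring.mem_comap.mpr (RingHom.mem_range.mpr ⟨a ^ p, ?_⟩)
    rw [hΦB.red, ← ha, map_pow]
  let φ'' : A' →+* midRing A πB := φ'.codRestrict (midRing A πB) hφmem
  let ΦB'' : midRing A πB →+* midRing A πB :=
    (ΦB.comp (midRing A πB).subtype).codRestrict (midRing A πB) (fun x => hΦmem x)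
  let e : A' →+* (midRing A πB ⧸ midIdeal p r hr πB) := (Ideal.Quotient.mk _).comp φ''
  have he : ∀ a', e a' = Ideal.Quotient.mk _ (φ'' a') := fun _ => rfl
  have hφ''coe : ∀ a', ((φ'' a' : midRing A πB) : B') = φ' a' := fun _ => rfl
  have hΦ''coe : ∀ x, ((ΦB'' x : midRing A πB) : B') = ΦB (x : B') := fun _ => rfl
  have he_inj : Function.Injective e := by
    rw [injective_iff_map_eq_zero]
    intro a' ha'
    rw [he, Ideal.Quotient.eq_zero_iff_mem, mem_midIdeal] at ha'
    obtain ⟨b', hb', hrb'⟩ := ha'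
    rw [hφ''coe] at hb'
    have h1 : πA a' = 0 := by
      apply hinj
      rw [← hφπ', hb', map_mul, map_natCast, hpB, zero_mul, map_zero]
    have h2 : a' ∈ RingHom.ker πA := RingHom.mem_ker.mpr h1
    rw [hkerπA, Ideal.mem_span_singleton'] at h2
    obtain ⟨a'', rfl⟩ := h2
    have h3 : (p : B') * (φ' a'' - b') = 0 := by
      rw [mul_sub, ← hb', map_mul, map_natCast]
      ring
    obtain ⟨c', hc'⟩ := hflatB _ h3
    have h4 : πB (φ' a'') = πB b' := by
      have := congrArg πB hc'
      rw [map_sub, map_mul, map_natCast, hpB, zero_mul, sub_eq_zero] at this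
      exact this
    have h5 : πA a'' = 0 := by
      have := congrArg r h4
      rw [hφπ', hr, hrb'] at this
      exact this
    have h6 : a'' ∈ RingHom.ker πA := RingHom.mem_ker.mpr h5
    rw [hkerπA, Ideal.mem_span_singleton'] at h6
    obtain ⟨a''', rfl⟩ := h6
    rw [mul_assoc, hppA, mul_zero]
  have he_surj : Function.Surjective e := by
    intro q
    obtain ⟨x, rfl⟩ := Ideal.Quotient.mk_surjective q
    obtain ⟨a, ha⟩ := mem_midRing πB x
    obtain ⟨a₁, ha₁⟩ := hA.surj a
    have hy : (x : B') - φ' a₁ ∈ RingHom.ker πB := by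
      rw [RingHom.mem_ker, map_sub, hφπ', ha₁, ha, sub_self]
    rw [hkerπB, Ideal.mem_span_singleton'] at hy
    obtain ⟨b', hb'⟩ := hy
    obtain ⟨c₁, hc₁⟩ := hA.surj (r (πB b'))
    refine ⟨a₁ + (p : A') * c₁, ?_⟩
    rw [he, Ideal.Quotient.eq, mem_midIdeal]
    refine ⟨φ' c₁ - b', ?_, ?_⟩
    · rw [show ((φ'' (a₁ + (p : A') * c₁) - x : midRing A πB) : B') =
          φ' (a₁ + (p : A') * c₁) - (x : B') from rfl, map_add, map_mul, map_natCast]
      have hx : (x : B') = b' * p + φ' a₁ := by rw [hb']; ring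
      rw [hx]
      ring
    · rw [map_sub, map_sub, hφπ', hr, hc₁, sub_self]
  let eE : A' ≃+* (midRing A πB ⧸ midIdeal p r hr πB) :=
    RingEquiv.ofBijective e ⟨he_inj, he_surj⟩
  have heE : ∀ a', eE a' = e a' := fun _ => rfl
  let ΦA : A' →+* A' :=
    (eE.symm.toRingHom).comp ((Ideal.Quotient.mk _).comp (ΦB''.comp φ''))
  have hΦA : ∀ a', e (ΦA a') = Ideal.Quotient.mk _ (ΦB'' (φ'' a')) := by
    intro a'
    rw [← heE]
    exact eE.apply_symm_apply _
  refine ⟨ΦA, ⟨hA, ?_, ?_⟩⟩
  · apply RingHom.ext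
    intro w
    apply he_inj
    show e (ΦA (ιA w)) = e (ιA (FrobAlg.sigma p k w))
    rw [hΦA, he]
    congr 1
    apply Subtype.ext
    rw [hΦ''coe, hφ''coe, hφ''coe, hφι', hφι', hsemi]
  · intro a'
    have h := hΦA a'
    rw [he, Ideal.Quotient.eq, mem_midIdeal] at h
    obtain ⟨b', hb', _⟩ := h
    rw [show ((φ'' (ΦA a') - ΦB'' (φ'' a') : midRing A πB) : B') =
        φ' (ΦA a') - ΦB (φ' a') from rfl] at hb'
    apply hinj
    rw [← hφπ', map_pow, ← hφπ', ← hΦB.red]
    have := congrArg πB hb'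
    rw [map_sub, map_mul, map_natCast, hpB, zero_mul, sub_eq_zero] at this
    exact this

end Groth.Agent.Lib.W2FrobDescend
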