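import Mathlib
import Groth.Agent.Lib.WeakAss_helper4

/-!
# Weakly associated primes under field base change, part 1 (helper7)

Generalities: finitely supported functions, flat base change of annihilators, going down for
minimal primes along flat ring maps.
-/

set_option backward.isDefEq.respectTransparency false
set_option backward.isDefEq.respectTransparency.types false
set_option linter.style.haveILetI false
set_option linter.unusedSectionVars false
set_option linter.unusedVariables false
set_option autoImplicit false
set_option maxHeartbeats 1600000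
set_option maxSynthPendingDepth 3

universe u v

namespace Groth.Agent.Lib.WAFieldH7

open FlatCA TensorProduct Groth.Agent.Lib.WeakAss_helper4

section General

variable {R : Type u} [CommRing R]

theorem weakAss_congr' {M N : Type*} [AddCommGroup M] [Module R M] [AddCommGroup N] [Module R N]
    (e : M ≃ₗ[R] N) : weakAss R M = weakAss R N :=
  Set.Subset.antisymm (weakAss_subset_of_injective e.toLinearMap e.injective)
    (weakAss_subset_of_injective e.symm.toLinearMap e.symm.injective)

theorem ann_le_ann_apply {ι : Type*} {M : Type*} [AddCommGroup M] [Module R M] (z : ι →₀ M)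
    (i : ι) : ann R z ≤ ann R (z i) := by
  intro r hr
  rw [mem_ann] at hr ⊢
  have h := DFunLike.congr_fun hr i
  simpa using h

/-- Weakly associated primes of a direct sum of copies of `M` are weakly associated to `M`. -/
theorem weakAss_finsupp_subset {ι : Type*} {M : Type*} [AddCommGroup M] [Module R M] :
    weakAss R (ι →₀ M) ⊆ weakAss R M := by
  classical
  rintro p ⟨z, hz⟩
  have hp : p.IsPrime := hz.1.1
  have hle : (z.support.inf fun i => ann R (z i)) ≤ p := by
    refine le_trans ?_ hz.1.2
    intro r hr
    rw [mem_ann]
    ext i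
    by_cases hi : i ∈ z.support
    · have h0 : (z.support.inf fun i => ann R (z i)) ≤ ann R (z i) := Finset.inf_le hi
      have h1 : r ∈ ann R (z i) := h0 hr
      simpa using mem_ann.mp h1
    · have h2 : z i = 0 := by simpa using hi
      simp [h2]
  obtain ⟨i, hi, hip⟩ := (Ideal.IsPrime.inf_le' hp).mp hle
  exact ⟨z i, mem_minimalPrimes_of_le hz (ann_le_ann_apply z i) hip⟩

end General

section Flat

variable {A B : Type*} [CommRing A] [CommRing B] [Algebra A B] [Module.Flat A B]

/-- Flat base change of the annihilator of an element. -/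
theorem ann_one_tmul_of_flat {N : Type*} [AddCommGroup N] [Module A N] (z : N) :
    ann B ((1 : B) ⊗ₜ[A] z) = (ann A z).map (algebraMap A B) := by
  apply le_antisymm
  · intro b hb
    rw [mem_ann] at hb
    have hb' : b ⊗ₜ[A] z = 0 := by
      rw [← hb, TensorProduct.smul_tmul', smul_eq_mul, mul_one]
    obtain ⟨g, hg⟩ : ∃ g : A →ₗ[A] N, g = LinearMap.toSpanSingleton A N z := ⟨_, rfl⟩
    have hg1 : ∀ a : A, g a = a • z := by
      intro a; rw [hg]; rfl
    have hex : Function.Exact (LinearMap.ker g).subtype g := LinearMap.exact_subtype_ker_map g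
    have hex' := Module.Flat.lTensor_exact B hex
    have h1 : (g.lTensor B) (b ⊗ₜ[A] (1 : A)) = 0 := by
      rw [LinearMap.lTensor_tmul, hg1, one_smul]; exact hb'
    obtain ⟨w, hw⟩ := (hex' _).mp h1
    have key : ∀ w : B ⊗[A] (LinearMap.ker g),
        TensorProduct.rid A B (((LinearMap.ker g).subtype.lTensor B) w) ∈
          (ann A z).map (algebraMap A B) := by
      intro w
      induction w using TensorProduct.induction_on with
      | zero => simp
      | tmul b a =>
        rw [LinearMap.lTensor_tmul, TensorProduct.rid_tmul, Submodule.subtype_apply,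
          Algebra.smul_def]
        refine Ideal.mul_mem_right _ _ (Ideal.mem_map_of_mem _ ?_)
        rw [mem_ann, ← hg1]
        exact a.2
      | add x y hx hy =>
        rw [map_add, map_add]
        exact add_mem hx hy
    have h2 : TensorProduct.rid A B (((LinearMap.ker g).subtype.lTensor B) w) = b := by
      rw [hw, TensorProduct.rid_tmul, one_smul]
    rw [← h2]
    exact key w
  · rw [Ideal.map_le_iff_le_comap]
    intro a ha
    rw [Ideal.mem_comap, mem_ann, TensorProduct.smul_tmul', smul_eq_mul, mul_one,
      Algebra.algebraMap_eq_smul_one, TensorProduct.smul_tmul, mem_ann.mp ha, tmul_zero]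

/-- Going down for minimal primes along a flat ring map. -/
theorem comap_mem_minimalPrimes_of_flat {I : Ideal A} {q : Ideal B}
    (hq : q ∈ (I.map (algebraMap A B)).minimalPrimes) :
    q.comap (algebraMap A B) ∈ I.minimalPrimes := by
  have hqp : q.IsPrime := hq.1.1
  have hcp : (q.comap (algebraMap A B)).IsPrime := Ideal.comap_isPrime _ q
  refine ⟨⟨hcp, Ideal.map_le_iff_le_comap.mp hq.1.2⟩, ?_⟩
  rintro p' ⟨hp', hIp'⟩ hle
  have hover : q.LiesOver (q.comap (algebraMap A B)) := ⟨rfl⟩
  obtain ⟨P, hPq, hPprime, hPover⟩ :=
    Ideal.exists_ideal_le_liesOver_of_le (p := p') (q := q.comap (algebraMap A B)) q hle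
  have hP : P.comap (algebraMap A B) = p' := (hPover.over).symm
  have h1 : I.map (algebraMap A B) ≤ P := by
    rw [Ideal.map_le_iff_le_comap, hP]; exact hIp'
  have h2 : q ≤ P := hq.2 ⟨hPprime, h1⟩ hPq
  rw [← hP]
  exact Ideal.comap_mono h2

/-- Contraction of a weakly associated prime of `B ⊗ N` witnessed by an element `1 ⊗ z`. -/
theorem comap_mem_minimalPrimes_ann_of_flat {N : Type*} [AddCommGroup N] [Module A N] (z : N)
    {q : Ideal B} (hq : q ∈ (ann B ((1 : B) ⊗ₜ[A] z)).minimalPrimes) :
    q.comap (algebraMap A B) ∈ (ann A z).minimalPrimes := by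
  rw [ann_one_tmul_of_flat] at hq
  exact comap_mem_minimalPrimes_of_flat hq

end Flat

end Groth.Agent.Lib.WAFieldH7
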