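import Mathlib
import Groth.Agent.Lib.WAField1_helper7

/-!
# Weakly associated primes under field base change, part 2 (helper7)

The core case: `S` a free `R`-algebra, `p` a prime of `R` such that the fibre ring
`κ(p) ⊗_R S` is a domain. A prime `q` of `S` over `p` which is weakly associated to `S ⊗_R M`
contracts to a weakly associated prime of `M`.
-/

set_option backward.isDefEq.respectTransparency false
set_option backward.isDefEq.respectTransparency.types false
set_option linter.style.haveILetI false
set_option linter.unusedSectionVars false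
set_option linter.unusedVariables false
set_option autoImplicit false
set_option maxHeartbeats 1600000
set_option maxSynthPendingDepth 3

universe u v

namespace Groth.Agent.Lib.WAFieldH7

open FlatCA TensorProduct Groth.Agent.Lib.WeakAss_helper4

section Core

variable {R : Type u} [CommRing R] {S : Type u} [CommRing S] [Algebra R S]
  {ι : Type u} (e : Module.Basis ι R S) (p : Ideal R) [p.IsPrime]

/-- The semilinear map `S ⊗ M' → κ(p) ⊗ S` attached to a functional on `κ(p) ⊗ M'`. -/
noncomputable def Phi (S : Type u) [CommRing S] [Algebra R S] (p : Ideal R) [p.IsPrime]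
    (M' : Type u) [AddCommGroup M'] [Module R M']
    (lam : Module.Dual p.ResidueField (p.ResidueField ⊗[R] M')) :
    S ⊗[R] M' →ₗ[R] p.ResidueField ⊗[R] S :=
  TensorProduct.lift
    (LinearMap.mk₂ R
      (fun (s : S) (m : M') =>
        lam ((1 : p.ResidueField) ⊗ₜ[R] m) • ((1 : p.ResidueField) ⊗ₜ[R] s))
      (by intro s s' m; rw [tmul_add, smul_add])
      (by intro r s m; rw [tmul_smul, smul_comm])
      (by intro s m m'; rw [tmul_add, map_add, add_smul])
      (by intro r s m; rw [tmul_smul, LinearMap.map_smul_of_tower, smul_assoc]))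

theorem Phi_tmul (M' : Type u) [AddCommGroup M'] [Module R M']
    (lam : Module.Dual p.ResidueField (p.ResidueField ⊗[R] M')) (s : S) (m : M') :
    Phi S p M' lam (s ⊗ₜ[R] m) =
      lam ((1 : p.ResidueField) ⊗ₜ[R] m) • ((1 : p.ResidueField) ⊗ₜ[R] s) := by
  simp [Phi]

theorem Phi_smul (M' : Type u) [AddCommGroup M'] [Module R M']
    (lam : Module.Dual p.ResidueField (p.ResidueField ⊗[R] M')) (f : S) (x : S ⊗[R] M') :
    Phi S p M' lam (f • x) = ((1 : p.ResidueField) ⊗ₜ[R] f) * Phi S p M' lam x := by
  induction x using TensorProduct.induction_on with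
  | zero => simp
  | tmul s m =>
    rw [TensorProduct.smul_tmul', smul_eq_mul, Phi_tmul, Phi_tmul, mul_smul_comm,
      Algebra.TensorProduct.tmul_mul_tmul, mul_one]
  | add x y hx hy => rw [smul_add, map_add, map_add, hx, hy, mul_add]

/-- Key nonzerodivisor statement (finitely generated module, coordinates generate). -/
theorem exists_notMem_smul_eq_zero_of_finsupp [IsDomain (p.ResidueField ⊗[R] S)]
    (M' : Type u) [AddCommGroup M'] [Module R M'] (c : ι →₀ M')
    (hgen : Submodule.span R (Set.range c) = ⊤) (f : S)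
    (hf : (1 : p.ResidueField) ⊗ₜ[R] f ≠ 0)
    (hz : f • (c.sum fun i m => e i ⊗ₜ[R] m) = 0) :
    ∃ r : R, r ∉ p ∧ ∀ m : M', r • m = 0 := by
  classical
  have h1 : ∀ (lam : Module.Dual p.ResidueField (p.ResidueField ⊗[R] M')) (i : ι),
      lam ((1 : p.ResidueField) ⊗ₜ[R] c i) = 0 := by
    intro lam i
    have hΦ : Phi S p M' lam (f • (c.sum fun i m => e i ⊗ₜ[R] m)) = 0 := by
      rw [hz, map_zero]
    rw [Phi_smul] at hΦ
    have hΦ' : Phi S p M' lam (c.sum fun i m => e i ⊗ₜ[R] m) = 0 :=
      (mul_eq_zero.mp hΦ).resolve_left hf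
    have hsum : Phi S p M' lam (c.sum fun i m => e i ⊗ₜ[R] m) =
        Finsupp.linearCombination p.ResidueField (e.baseChange p.ResidueField)
          (c.mapRange (fun m => lam ((1 : p.ResidueField) ⊗ₜ[R] m)) (by simp)) := by
      rw [map_finsuppSum, Finsupp.linearCombination_apply, Finsupp.sum_mapRange_index]
      · refine Finsupp.sum_congr ?_
        intro j _
        rw [Phi_tmul, Module.Basis.baseChange_apply]
      · intro j; rw [zero_smul]
    rw [hsum] at hΦ'
    have h2 := congrArg (fun x => (e.baseChange p.ResidueField).repr x i) hΦ'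
    simp only [Module.Basis.repr_linearCombination, map_zero, Finsupp.mapRange_apply,
      Finsupp.coe_zero, Pi.zero_apply] at h2
    exact h2
  have h2 : ∀ i, (1 : p.ResidueField) ⊗ₜ[R] c i = 0 := fun i =>
    (Module.forall_dual_apply_eq_zero_iff p.ResidueField _).mp (fun lam => h1 lam i)
  have h3 : ∀ m : M', (1 : p.ResidueField) ⊗ₜ[R] m = 0 := by
    intro m
    have hm : m ∈ Submodule.span R (Set.range c) := by rw [hgen]; trivial
    induction hm using Submodule.span_induction with
    | mem x hx => obtain ⟨i, rfl⟩ := hx; exact h2 i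
    | zero => exact tmul_zero _ _
    | add x y _ _ hx hy => rw [tmul_add, hx, hy, add_zero]
    | smul r x _ hx => rw [tmul_smul, hx, smul_zero]
  have h4 : ∀ v : p.ResidueField ⊗[R] M', v = 0 := by
    intro v
    induction v using TensorProduct.induction_on with
    | zero => rfl
    | tmul a m =>
      have : a ⊗ₜ[R] m = a • ((1 : p.ResidueField) ⊗ₜ[R] m) := by
        rw [TensorProduct.smul_tmul', smul_eq_mul, mul_one]
      rw [this, h3, smul_zero]
    | add x y hx hy => rw [hx, hy, add_zero]
  have hsub : Subsingleton (p.ResidueField ⊗[R] M') := ⟨fun a b => by rw [h4 a, h4 b]⟩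
  have hfin : Module.Finite R M' := by
    rw [Module.finite_def, ← hgen]
    exact Submodule.fg_span (Finsupp.finite_range c)
  have hns : (⟨p, inferInstance⟩ : PrimeSpectrum R) ∉ Module.support R M' := by
    rw [Module.mem_support_iff_nontrivial_residueField_tensorProduct]
    exact not_nontrivial _
  rw [Module.mem_support_iff_of_finite] at hns
  obtain ⟨r, hr, hrp⟩ := SetLike.not_le_iff_exists.mp hns
  exact ⟨r, hrp, fun m => Module.mem_annihilator.mp hr m⟩

include e in
/-- Key nonzerodivisor statement: an element of `S` which is nonzero in the fibre ring over `p`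
can only kill elements of `S ⊗ M` which are killed by some element of `R` outside `p`. -/
theorem exists_notMem_smul_eq_zero [IsDomain (p.ResidueField ⊗[R] S)]
    (M : Type u) [AddCommGroup M] [Module R M] (z : S ⊗[R] M) (f : S)
    (hf : (1 : p.ResidueField) ⊗ₜ[R] f ≠ 0) (hz : f • z = 0) :
    ∃ r : R, r ∉ p ∧ r • z = 0 := by
  classical
  obtain ⟨c₀, hc₀⟩ : ∃ c₀ : ι →₀ M, c₀ = TensorProduct.equivFinsuppOfBasisLeft e z := ⟨_, rfl⟩
  obtain ⟨M', hM'⟩ : ∃ M' : Submodule R M, M' = Submodule.span R (Set.range c₀) := ⟨_, rfl⟩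
  have hmem : ∀ i, c₀ i ∈ M' := fun i => by rw [hM']; exact Submodule.subset_span ⟨i, rfl⟩
  let c : ι →₀ M' := Finsupp.onFinset c₀.support (fun i => ⟨c₀ i, hmem i⟩)
    (fun i hi => by
      rw [Finsupp.mem_support_iff]
      intro h0
      exact hi (Subtype.ext h0))
  have hc : ∀ i, ((c i : M') : M) = c₀ i := fun i => rfl
  have hcmap : c₀ = c.mapRange M'.subtype (map_zero _) := by
    ext i; rw [Finsupp.mapRange_apply]; rfl
  have hgen : Submodule.span R (Set.range c) = ⊤ := by
    apply Submodule.map_injective_of_injective M'.injective_subtype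
    rw [Submodule.map_span, Submodule.map_subtype_top, ← Set.range_comp]
    have hcomp : (⇑M'.subtype ∘ ⇑c) = ⇑c₀ := funext fun i => rfl
    rw [hcomp]
    exact hM'.symm
  obtain ⟨z', hz'⟩ : ∃ z' : S ⊗[R] M', z' = c.sum fun i m => e i ⊗ₜ[R] m := ⟨_, rfl⟩
  have hgz : (M'.subtype.lTensor S) z' = z := by
    rw [hz', map_finsuppSum]
    have h1 : (c.sum fun i m => (M'.subtype.lTensor S) (e i ⊗ₜ[R] m)) =
        c₀.sum fun i m => e i ⊗ₜ[R] m := by
      rw [hcmap, Finsupp.sum_mapRange_index]
      · rfl
      · intro i; rw [tmul_zero]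
    rw [h1, ← TensorProduct.equivFinsuppOfBasisLeft_symm_apply e, hc₀,
      LinearEquiv.symm_apply_apply]
  haveI : Module.Free R S := Module.Free.of_basis e
  have hinj : Function.Injective (M'.subtype.lTensor S) :=
    Module.Flat.lTensor_preserves_injective_linearMap (M := S) M'.subtype M'.injective_subtype
  have hsm : ∀ (f : S) (x : S ⊗[R] M'),
      (M'.subtype.lTensor S) (f • x) = f • (M'.subtype.lTensor S) x := by
    intro f x
    induction x using TensorProduct.induction_on with
    | zero => simp
    | tmul s m => rw [TensorProduct.smul_tmul', LinearMap.lTensor_tmul, LinearMap.lTensor_tmul,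
        TensorProduct.smul_tmul']
    | add x y hx hy => rw [smul_add, map_add, map_add, hx, hy, smul_add]
  have hfz' : f • z' = 0 := by
    apply hinj
    rw [hsm, hgz, hz, map_zero]
  rw [hz'] at hfz'
  obtain ⟨r, hr, hrm⟩ := exists_notMem_smul_eq_zero_of_finsupp e p M' c hgen f hf hfz'
  refine ⟨r, hr, ?_⟩
  apply (TensorProduct.equivFinsuppOfBasisLeft e).injective
  rw [map_smul, map_zero, ← hc₀]
  ext i
  rw [Finsupp.smul_apply, Finsupp.zero_apply, ← hc i, ← Submodule.coe_smul, hrm,
    Submodule.coe_zero]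

include e in
/-- Core statement. -/
theorem mem_weakAss_of_isDomain_fiber [IsDomain (p.ResidueField ⊗[R] S)]
    (M : Type u) [AddCommGroup M] [Module R M] (q : Ideal S) [q.IsPrime]
    (hqp : q.comap (algebraMap R S) = p) (hq : q ∈ weakAss S (S ⊗[R] M)) :
    p ∈ weakAss R M := by
  classical
  obtain ⟨z, hz⟩ := hq
  have hz' : q ∈ (ann S z).minimalPrimes := hz
  obtain ⟨c₀, hc₀⟩ : ∃ c₀ : ι →₀ M, c₀ = TensorProduct.equivFinsuppOfBasisLeft e z := ⟨_, rfl⟩
  have key1 : ∀ s : S, s ∉ q → (1 : p.ResidueField) ⊗ₜ[R] s ≠ 0 := by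
    intro s hs h0
    apply hs
    have hrepr : ∀ i, e.repr s i ∈ p := by
      intro i
      have h1 := congrArg (fun x => (e.baseChange p.ResidueField).repr x i) h0
      simp only [Module.Basis.baseChange_repr_tmul, map_zero, Finsupp.coe_zero,
        Pi.zero_apply] at h1
      rw [← Ideal.algebraMap_residueField_eq_zero, Algebra.algebraMap_eq_smul_one]
      exact h1
    rw [← e.linearCombination_repr s, Finsupp.linearCombination_apply, Finsupp.sum]
    refine Ideal.sum_mem _ (fun i _ => ?_)
    rw [Algebra.smul_def]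
    refine Ideal.mul_mem_right _ _ ?_
    have h2 : e.repr s i ∈ q.comap (algebraMap R S) := by rw [hqp]; exact hrepr i
    exact h2
  have key2 : ∀ a ∈ p, ∃ r : R, r ∉ p ∧ ∃ n : ℕ, (r * a ^ n) • z = 0 := by
    intro a ha
    have haq : algebraMap R S a ∈ q := by
      have : a ∈ q.comap (algebraMap R S) := by rw [hqp]; exact ha
      exact this
    obtain ⟨s, hs, n, hsn⟩ := exists_mul_pow_mem hz' haq
    have h1 : s • ((a ^ n) • z) = 0 := by
      have h2 := mem_ann.mp hsn
      rw [mul_smul, ← map_pow, algebraMap_smul] at h2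
      exact h2
    obtain ⟨r, hr, hrz⟩ := exists_notMem_smul_eq_zero e p M ((a ^ n) • z) s (key1 s hs) h1
    exact ⟨r, hr, n, by rw [mul_smul]; exact hrz⟩
  have key3 : ∃ i, ann R (c₀ i) ≤ p := by
    by_contra hcon
    push Not at hcon
    choose rr hrr using fun i => SetLike.not_le_iff_exists.mp (hcon i)
    obtain ⟨r, hr⟩ : ∃ r : R, r = ∏ i ∈ c₀.support, rr i := ⟨_, rfl⟩
    have hrp : r ∉ p := by
      rw [hr, Ideal.IsPrime.prod_mem_iff]
      push Not
      intro i _
      exact (hrr i).2
    have hrz : r • z = 0 := by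
      apply (TensorProduct.equivFinsuppOfBasisLeft e).injective
      rw [map_smul, map_zero, ← hc₀]
      ext i
      rw [Finsupp.smul_apply, Finsupp.zero_apply]
      by_cases hi : i ∈ c₀.support
      · rw [hr, ← Finset.mul_prod_erase _ _ hi, mul_comm, mul_smul, mem_ann.mp (hrr i).1,
          smul_zero]
      · have h0 : c₀ i = 0 := by simpa using hi
        rw [h0, smul_zero]
    have hmem : algebraMap R S r ∈ ann S z := by
      rw [mem_ann, algebraMap_smul]; exact hrz
    have hq2 : algebraMap R S r ∈ q := hz'.1.2 hmem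
    apply hrp
    rw [← hqp]
    exact hq2
  obtain ⟨i, hi⟩ := key3
  refine ⟨c₀ i, ⟨⟨inferInstance, hi⟩, ?_⟩⟩
  rintro p' ⟨hp', hle⟩ hp'p
  intro a ha
  obtain ⟨r, hr, n, hrn⟩ := key2 a ha
  have h1 : (r * a ^ n) • c₀ i = 0 := by
    have h2 := congrArg (fun w => (TensorProduct.equivFinsuppOfBasisLeft e w) i) hrn
    simp only [map_smul, map_zero, Finsupp.smul_apply, Finsupp.coe_zero, Pi.zero_apply] at h2
    rw [hc₀]; exact h2
  have hmem : r * a ^ n ∈ p' := hle (mem_ann.mpr h1)
  rcases hp'.mem_or_mem hmem with h | h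
  · exact absurd (hp'p h) hr
  · exact hp'.mem_of_pow_mem n h

end Core

end Groth.Agent.Lib.WAFieldH7
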