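import Mathlib
import Groth.Agent.Lib.WAField2_helper7
import Groth.Agent.Lib.WeakAssSch5_helper4

/-!
# Weakly associated primes under field base change, part 3 (helper7)

The contraction property `Contr k K`, the finite case, and the case of extensions `L/k` such that
`L ⊗_k κ` is a domain for every field `κ` (in particular purely transcendental extensions).
-/

set_option backward.isDefEq.respectTransparency false
set_option backward.isDefEq.respectTransparency.types false
set_option linter.style.haveILetI false
set_option linter.unusedSectionVars false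
set_option linter.unusedVariables false
set_option autoImplicit false
set_option maxHeartbeats 1600000
set_option maxSynthPendingDepth 3

universe u v

namespace Groth.Agent.Lib.WAFieldH7

open FlatCA TensorProduct Groth.Agent.Lib.WeakAss_helper4

/-- The contraction property of weakly associated primes for the field extension `K/k`. -/
def Contr (k K : Type u) [Field k] [Field K] [Algebra k K] : Prop :=
  ∀ (R : Type u) [CommRing R] [Algebra k R] (RK : Type u) [CommRing RK] [Algebra k RK]
    [Algebra K RK] [Algebra R RK] [IsScalarTower k K RK] [IsScalarTower k R RK]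
    [Algebra.IsPushout k K R RK] (M : Type u) [AddCommGroup M] [Module R M]
    (q : Ideal RK) [q.IsPrime],
    q ∈ weakAss RK (RK ⊗[R] M) → q.comap (algebraMap R RK) ∈ weakAss R M

/-- `L ⊗_k κ` is a domain for every field extension `κ/k`. -/
def GI (k L : Type u) [Field k] [Field L] [Algebra k L] : Prop :=
  ∀ (κ : Type u) [Field κ] [Algebra k κ], IsDomain (L ⊗[k] κ)

section Basis

variable (k K R RK : Type u) [Field k] [Field K] [Algebra k K] [CommRing R] [Algebra k R]
  [CommRing RK] [Algebra k RK] [Algebra K RK] [Algebra R RK] [IsScalarTower k K RK]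
  [IsScalarTower k R RK] [Algebra.IsPushout k K R RK]

/-- The `R`-linear isomorphism `R ⊗_k K ≃ RK`. -/
noncomputable def pushoutEquiv : R ⊗[k] K ≃ₗ[R] RK :=
  (Algebra.IsPushout.symm (inferInstance : Algebra.IsPushout k K R RK)).out.equiv

theorem pushoutEquiv_tmul (r : R) (c : K) :
    pushoutEquiv k K R RK (r ⊗ₜ[k] c) = r • algebraMap K RK c := by
  unfold pushoutEquiv
  rw [IsBaseChange.equiv_tmul]
  rfl

/-- `RK` is free over `R`. -/
noncomputable def pushoutBasis :
    Module.Basis (Module.Basis.ofVectorSpaceIndex k K) R RK :=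
  ((Module.Basis.ofVectorSpace k K).baseChange R).map (pushoutEquiv k K R RK)

theorem pushoutBasis_apply (i : Module.Basis.ofVectorSpaceIndex k K) :
    pushoutBasis k K R RK i = algebraMap K RK (Module.Basis.ofVectorSpace k K i) := by
  unfold pushoutBasis
  rw [Module.Basis.map_apply, Module.Basis.baseChange_apply, pushoutEquiv_tmul, one_smul]

theorem finite_pushout [Module.Finite k K] : Module.Finite R RK :=
  Module.Finite.equiv (pushoutEquiv k K R RK)

end Basis

/-- The finite case. -/
theorem contr_of_finite (k K : Type u) [Field k] [Field K] [Algebra k K] [Module.Finite k K] :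
    Contr k K := by
  classical
  intro R _ _ RK _ _ _ _ _ _ _ M _ _ q _ hq
  haveI : Module.Finite R RK := finite_pushout k K R RK
  have h1 : q.comap (algebraMap R RK) ∈ weakAss R (RK ⊗[R] M) :=
    Groth.Agent.Lib.WeakAssSch5_helper4.comap_mem_weakAss_of_finite (algebraMap R RK)
      (RingHom.finite_algebraMap.mpr inferInstance) (AddMonoidHom.id _)
      (fun a n => (algebraMap_smul RK a n).symm) Function.injective_id Function.surjective_id hq
  have h2 := weakAss_congr'
    (TensorProduct.equivFinsuppOfBasisLeft (pushoutBasis k K R RK) (N := M))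
  rw [h2] at h1
  exact weakAss_finsupp_subset h1

/-- The case of geometrically integral-type extensions. -/
theorem contr_of_GI (k L : Type u) [Field k] [Field L] [Algebra k L] (h : GI k L) :
    Contr k L := by
  classical
  intro R _ _ RL _ _ _ _ _ _ _ M _ _ q _ hq
  obtain ⟨p, hp⟩ : ∃ p : Ideal R, p = q.comap (algebraMap R RL) := ⟨_, rfl⟩
  haveI hpp : p.IsPrime := hp ▸ Ideal.comap_isPrime _ q
  haveI : IsDomain (L ⊗[k] p.ResidueField) := h p.ResidueField
  have e1 : RL ⊗[R] p.ResidueField ≃ₐ[L] L ⊗[k] p.ResidueField :=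
    Algebra.IsPushout.cancelBaseChangeAlg k L R RL p.ResidueField
  have e2 : p.ResidueField ⊗[R] RL ≃ₐ[R] RL ⊗[R] p.ResidueField :=
    Algebra.TensorProduct.comm R _ _
  haveI : IsDomain (p.ResidueField ⊗[R] RL) :=
    MulEquiv.isDomain (L ⊗[k] p.ResidueField)
      (e2.toRingEquiv.toMulEquiv.trans e1.toRingEquiv.toMulEquiv)
  rw [← hp]
  exact mem_weakAss_of_isDomain_fiber (pushoutBasis k L R RL) p M q hp.symm hq

/-- Transfer of `GI` along an isomorphism. -/
theorem GI_of_algEquiv {k L L' : Type u} [Field k] [Field L] [Field L'] [Algebra k L]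
    [Algebra k L'] (e : L ≃ₐ[k] L') (h : GI k L) : GI k L' := by
  intro κ _ _
  haveI : IsDomain (L ⊗[k] κ) := h κ
  exact MulEquiv.isDomain (L ⊗[k] κ)
    (Algebra.TensorProduct.congr e.symm (AlgEquiv.refl : κ ≃ₐ[k] κ)).toRingEquiv.toMulEquiv

/-- Fraction fields of `k`-algebras `P` with `P ⊗_k κ` a domain. -/
theorem isDomain_tensor_of_isFractionRing (k P F κ : Type u) [Field k] [CommRing P] [IsDomain P]
    [Algebra k P] [Field F] [Algebra P F] [IsFractionRing P F] [Algebra k F]
    [IsScalarTower k P F] [Field κ] [Algebra k κ] [IsDomain (P ⊗[k] κ)] :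
    IsDomain (F ⊗[k] κ) := by
  letI alg : Algebra (P ⊗[k] κ) (F ⊗[k] κ) :=
    (Algebra.TensorProduct.map (IsScalarTower.toAlgHom k P F) (AlgHom.id k κ)).toRingHom.toAlgebra
  have halg : ∀ x : P ⊗[k] κ, algebraMap (P ⊗[k] κ) (F ⊗[k] κ) x =
        Algebra.TensorProduct.map (IsScalarTower.toAlgHom k P F) (AlgHom.id k κ) x := fun _ => rfl
  haveI : IsScalarTower P (P ⊗[k] κ) (F ⊗[k] κ) :=
    IsScalarTower.of_algebraMap_eq (fun x => by
      rw [halg]
      simp [Algebra.TensorProduct.algebraMap_apply])
  have hpo : Algebra.IsPushout P F (P ⊗[k] κ) (F ⊗[k] κ) :=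
    Algebra.IsPushout.tensorProduct_tensorProduct k κ P F (by
        ext s
        simp only [RingHom.coe_comp, Function.comp_apply, AlgHom.toRingHom_eq_coe,
          RingHom.coe_coe, Algebra.TensorProduct.includeRight_apply]
        rw [halg, Algebra.TensorProduct.map_tmul]
        simp)
  have hloc : IsLocalization (Algebra.algebraMapSubmonoid (P ⊗[k] κ) (nonZeroDivisors P))
      (F ⊗[k] κ) :=
    (Algebra.isLocalization_iff_isPushout (nonZeroDivisors P) F).mpr hpo.symm
  have hle : Algebra.algebraMapSubmonoid (P ⊗[k] κ) (nonZeroDivisors P) ≤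
      nonZeroDivisors (P ⊗[k] κ) := by
    rintro x ⟨y, hy, rfl⟩
    apply mem_nonZeroDivisors_of_ne_zero
    have hinj : Function.Injective
        (Algebra.TensorProduct.includeLeft : P →ₐ[P] P ⊗[k] κ) :=
      Algebra.TensorProduct.includeLeft_injective (algebraMap k κ).injective
    intro h0
    have h1 : (Algebra.TensorProduct.includeLeft : P →ₐ[P] P ⊗[k] κ) y = 0 := h0
    rw [map_eq_zero_iff _ hinj] at h1
    exact nonZeroDivisors.ne_zero hy h1
  exact IsLocalization.isDomain_of_le_nonZeroDivisors (M := Algebra.algebraMapSubmonoid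
    (P ⊗[k] κ) (nonZeroDivisors P)) (F ⊗[k] κ) hle

theorem isDomain_mvPolynomial_tensor (k κ : Type u) [Field k] [Field κ] [Algebra k κ]
    (σ : Type u) : IsDomain (MvPolynomial σ k ⊗[k] κ) :=
  MulEquiv.isDomain (MvPolynomial σ κ)
    ((Algebra.TensorProduct.comm k (MvPolynomial σ k) κ).toRingEquiv.toMulEquiv.trans
      (MvPolynomial.algebraTensorAlgEquiv k κ).toRingEquiv.toMulEquiv)

/-- Rational function fields are geometrically integral in the above sense. -/
theorem GI_fractionRing (k : Type u) [Field k] (σ : Type u) :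
    GI k (FractionRing (MvPolynomial σ k)) := by
  intro κ _ _
  haveI := isDomain_mvPolynomial_tensor k κ σ
  exact isDomain_tensor_of_isFractionRing k (MvPolynomial σ k) (FractionRing (MvPolynomial σ k)) κ

end Groth.Agent.Lib.WAFieldH7
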