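import Mathlib
import Groth.Agent.Lib.WAField3_helper7

/-!
# Weakly associated primes under field base change, part 4 (helper7)

Towers of field extensions: transitivity of the contraction property, descent to finitely
generated subextensions, and the general case.
-/

set_option backward.isDefEq.respectTransparency false
set_option backward.isDefEq.respectTransparency.types false
set_option linter.style.haveILetI false
set_option linter.unusedSectionVars false
set_option linter.unusedVariables false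
set_option autoImplicit false
set_option maxHeartbeats 1600000
set_option maxSynthPendingDepth 3

universe u v

namespace Groth.Agent.Lib.WAFieldH7

open FlatCA TensorProduct Groth.Agent.Lib.WeakAss_helper4

attribute [local instance] Algebra.TensorProduct.rightAlgebra

theorem ann_linearEquiv {A : Type*} [CommRing A] {N N' : Type*} [AddCommGroup N] [Module A N]
    [AddCommGroup N'] [Module A N'] (e : N ≃ₗ[A] N') (z : N) : ann A (e z) = ann A z := by
  ext a
  rw [mem_ann, mem_ann, ← map_smul, LinearEquiv.map_eq_zero_iff]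

/-- One step in a tower `k ⊆ L ⊆ K`. -/
theorem mid_step (k L K : Type u) [Field k] [Field L] [Field K] [Algebra k L] [Algebra L K]
    [Algebra k K] [IsScalarTower k L K] (hkL : Contr k L)
    (R : Type u) [CommRing R] [Algebra k R] (RK : Type u) [CommRing RK] [Algebra k RK]
    [Algebra K RK] [Algebra R RK] [IsScalarTower k K RK] [IsScalarTower k R RK]
    [Algebra.IsPushout k K R RK] (M : Type u) [AddCommGroup M] [Module R M]
    (q : Ideal RK) [q.IsPrime] (z : RK ⊗[R] M) (hz : q ∈ (ann RK z).minimalPrimes)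
    (hcase : Contr L K ∨ z ∈ Submodule.span R
      {x | ∃ (c : L) (m : M), x = algebraMap K RK (algebraMap L K c) ⊗ₜ[R] m}) :
    q.comap (algebraMap R RK) ∈ weakAss R M := by
  letI aL : Algebra L RK := ((algebraMap K RK).comp (algebraMap L K)).toAlgebra
  haveI tLK : IsScalarTower L K RK := IsScalarTower.of_algebraMap_eq (fun _ => rfl)
  have haL : ∀ c : L, algebraMap L RK c = algebraMap K RK (algebraMap L K c) := fun _ => rfl
  haveI tkL : IsScalarTower k L RK := IsScalarTower.of_algebraMap_eq (fun c => by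
    rw [haL, ← IsScalarTower.algebraMap_apply k L K, ← IsScalarTower.algebraMap_apply k K RK])
  obtain ⟨φ, hφdef⟩ : ∃ φ : L ⊗[k] R →ₐ[L] RK, φ = Algebra.TensorProduct.lift (Algebra.ofId L RK)
      (IsScalarTower.toAlgHom k R RK) (fun _ _ => Commute.all _ _) := ⟨_, rfl⟩
  have hφt : ∀ (l : L) (r : R), φ (l ⊗ₜ[k] r) = algebraMap L RK l * algebraMap R RK r := by
    intro l r
    rw [hφdef, Algebra.TensorProduct.lift_tmul]
    rfl
  letI aRL : Algebra (L ⊗[k] R) RK := φ.toRingHom.toAlgebra
  have hφ : ∀ x, algebraMap (L ⊗[k] R) RK x = φ x := fun _ => rfl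
  have hR : ∀ r : R, algebraMap R (L ⊗[k] R) r = (1 : L) ⊗ₜ[k] r := fun _ => rfl
  haveI t1 : IsScalarTower L (L ⊗[k] R) RK := IsScalarTower.of_algebraMap_eq (fun l => by
    rw [hφ, Algebra.TensorProduct.algebraMap_apply, hφt, map_one, mul_one]
    rfl)
  haveI t2 : IsScalarTower R (L ⊗[k] R) RK := IsScalarTower.of_algebraMap_eq (fun r => by
    rw [hφ, hR, hφt, map_one, one_mul])
  haveI t3 : IsScalarTower k (L ⊗[k] R) RK := IsScalarTower.of_algebraMap_eq (fun c => by
    rw [hφ, Algebra.TensorProduct.algebraMap_apply, hφt, map_one, mul_one,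
      ← IsScalarTower.algebraMap_apply k L RK])
  haveI hpo : Algebra.IsPushout L K (L ⊗[k] R) RK :=
    (Algebra.IsPushout.comp_iff k L R (S' := L ⊗[k] R) (T := K) (T' := RK)).mp inferInstance
  obtain ⟨e, he⟩ : ∃ e : RK ⊗[L ⊗[k] R] ((L ⊗[k] R) ⊗[R] M) ≃ₗ[RK] RK ⊗[R] M,
      e = TensorProduct.AlgebraTensorModule.cancelBaseChange R (L ⊗[k] R) RK RK M := ⟨_, rfl⟩
  have hmid : q.comap (algebraMap (L ⊗[k] R) RK) ∈ weakAss (L ⊗[k] R) ((L ⊗[k] R) ⊗[R] M) := by
    rcases hcase with hLK | hspan
    · have hq1 : q ∈ weakAss RK (RK ⊗[L ⊗[k] R] ((L ⊗[k] R) ⊗[R] M)) := by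
        rw [weakAss_congr' e]
        exact ⟨z, hz⟩
      exact hLK (L ⊗[k] R) RK ((L ⊗[k] R) ⊗[R] M) q hq1
    · -- the element `z` comes from `(L ⊗ R) ⊗ M`
      obtain ⟨g, hg⟩ : ∃ g : (L ⊗[k] R) ⊗[R] M →ₗ[R] RK ⊗[R] M,
          ∀ w, g w = e ((1 : RK) ⊗ₜ[L ⊗[k] R] w) :=
        ⟨(e.toLinearMap.restrictScalars R) ∘ₗ
          ((TensorProduct.mk (L ⊗[k] R) RK ((L ⊗[k] R) ⊗[R] M) 1).restrictScalars R),
          fun w => rfl⟩
      have hrange : Submodule.span R
          {x | ∃ (c : L) (m : M), x = algebraMap K RK (algebraMap L K c) ⊗ₜ[R] m} ≤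
          LinearMap.range g := by
        rw [Submodule.span_le]
        rintro x ⟨c, m, rfl⟩
        refine ⟨(c ⊗ₜ[k] (1 : R)) ⊗ₜ[R] m, ?_⟩
        rw [hg, he, TensorProduct.AlgebraTensorModule.cancelBaseChange_tmul, Algebra.smul_def,
          mul_one, hφ, hφt, map_one, mul_one, haL]
      obtain ⟨z', hz'⟩ := hrange hspan
      rw [hg] at hz'
      have hann : ann RK ((1 : RK) ⊗ₜ[L ⊗[k] R] z') = ann RK z := by
        rw [← hz', ann_linearEquiv]
      haveI hflat : Module.Flat (L ⊗[k] R) RK :=
        Module.Flat.isBaseChange L (L ⊗[k] R) K RK (Algebra.IsPushout.symm hpo).out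
      have hz2 : q ∈ (ann RK ((1 : RK) ⊗ₜ[L ⊗[k] R] z')).minimalPrimes := by
        rw [hann]; exact hz
      exact ⟨z', comap_mem_minimalPrimes_ann_of_flat z' hz2⟩
  haveI : (q.comap (algebraMap (L ⊗[k] R) RK)).IsPrime := Ideal.comap_isPrime _ q
  have hfin := hkL R (L ⊗[k] R) M (q.comap (algebraMap (L ⊗[k] R) RK)) hmid
  rw [Ideal.comap_comap, ← IsScalarTower.algebraMap_eq R (L ⊗[k] R) RK] at hfin
  exact hfin

/-- Transitivity of the contraction property. -/
theorem contr_trans (k L K : Type u) [Field k] [Field L] [Field K] [Algebra k L] [Algebra L K]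
    [Algebra k K] [IsScalarTower k L K] (hkL : Contr k L) (hLK : Contr L K) : Contr k K := by
  intro R _ _ RK _ _ _ _ _ _ _ M _ _ q _ hq
  obtain ⟨z, hz⟩ := hq
  exact mid_step k L K hkL R RK M q z hz (Or.inl hLK)

/-- `RK ⊗ M` is spanned over `R` by the elements `c ⊗ m` with `c ∈ K`. -/
theorem mem_span_tmul (k K R RK : Type u) [Field k] [Field K] [Algebra k K] [CommRing R]
    [Algebra k R] [CommRing RK] [Algebra k RK] [Algebra K RK] [Algebra R RK]
    [IsScalarTower k K RK] [IsScalarTower k R RK] [Algebra.IsPushout k K R RK]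
    (M : Type u) [AddCommGroup M] [Module R M] (z : RK ⊗[R] M) :
    z ∈ Submodule.span R {x | ∃ (c : K) (m : M), x = algebraMap K RK c ⊗ₜ[R] m} := by
  induction z using TensorProduct.induction_on with
  | zero => exact zero_mem _
  | tmul s m =>
    have hbc : IsBaseChange R (IsScalarTower.toAlgHom k K RK).toLinearMap :=
      (Algebra.IsPushout.symm (inferInstance : Algebra.IsPushout k K R RK)).out
    refine hbc.inductionOn s
      (fun s => s ⊗ₜ[R] m ∈ Submodule.span R
        {x | ∃ (c : K) (m : M), x = algebraMap K RK c ⊗ₜ[R] m}) ?_ ?_ ?_ ?_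
    · show (0 : RK) ⊗ₜ[R] m ∈ _
      rw [zero_tmul]; exact zero_mem _
    · intro c
      exact Submodule.subset_span ⟨c, m, rfl⟩
    · intro r n hn
      show (r • n) ⊗ₜ[R] m ∈ _
      rw [← TensorProduct.smul_tmul']
      exact Submodule.smul_mem _ r hn
    · intro n₁ n₂ h₁ h₂
      show (n₁ + n₂) ⊗ₜ[R] m ∈ _
      rw [add_tmul]
      exact add_mem h₁ h₂
  | add x y hx hy => exact add_mem hx hy

/-- Descent to finitely generated subextensions. -/
theorem contr_of_forall_adjoin (k K : Type u) [Field k] [Field K] [Algebra k K]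
    (h : ∀ T : Finset K, Contr k ↥(IntermediateField.adjoin k (T : Set K))) : Contr k K := by
  classical
  intro R _ _ RK _ _ _ _ _ _ _ M _ _ q _ hq
  obtain ⟨z, hz⟩ := hq
  obtain ⟨T₀, hT₀, hzT₀⟩ := Submodule.mem_span_finite_of_mem_span (mem_span_tmul k K R RK M z)
  have hch : ∀ ω : RK ⊗[R] M, ∃ c : K, ω ∈ T₀ → ∃ m : M, ω = algebraMap K RK c ⊗ₜ[R] m := by
    intro ω
    by_cases hω : ω ∈ T₀
    · obtain ⟨c, m, hcm⟩ := hT₀ (Finset.mem_coe.mpr hω)
      exact ⟨c, fun _ => ⟨m, hcm⟩⟩
    · exact ⟨0, fun h => absurd h hω⟩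
  choose cf hcf using hch
  obtain ⟨T, hT⟩ : ∃ T : Finset K, T = T₀.image cf := ⟨_, rfl⟩
  refine mid_step k (IntermediateField.adjoin k (T : Set K)) K (h T) R RK M q z hz (Or.inr ?_)
  refine Submodule.span_mono ?_ hzT₀
  intro ω hω
  have hω' : ω ∈ T₀ := Finset.mem_coe.mp hω
  obtain ⟨m, hm⟩ := hcf ω hω'
  have hmem : cf ω ∈ IntermediateField.adjoin k (T : Set K) := by
    apply IntermediateField.subset_adjoin
    rw [hT]
    exact Finset.mem_coe.mpr (Finset.mem_image_of_mem cf hω')
  exact ⟨⟨cf ω, hmem⟩, m, hm⟩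

/-- The contraction property holds for every field extension. -/
theorem contr_all (k K : Type u) [Field k] [Field K] [Algebra k K] : Contr k K := by
  obtain ⟨s, hs⟩ := exists_isTranscendenceBasis k K
  have hGI : GI k ↥(IntermediateField.adjoin k (Set.range (Subtype.val : s → K))) :=
    GI_of_algEquiv hs.1.aevalEquivField (GI_fractionRing k s)
  have h1 : Contr k ↥(IntermediateField.adjoin k (Set.range (Subtype.val : s → K))) :=
    contr_of_GI _ _ hGI
  haveI halg : Algebra.IsAlgebraic
      ↥(IntermediateField.adjoin k (Set.range (Subtype.val : s → K))) K :=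
    hs.isAlgebraic_field
  have h2 : Contr ↥(IntermediateField.adjoin k (Set.range (Subtype.val : s → K))) K := by
    apply contr_of_forall_adjoin
    intro T
    haveI : FiniteDimensional ↥(IntermediateField.adjoin k (Set.range (Subtype.val : s → K)))
        ↥(IntermediateField.adjoin
          (↥(IntermediateField.adjoin k (Set.range (Subtype.val : s → K)))) (T : Set K)) :=
      IntermediateField.finiteDimensional_adjoin
        (fun x _ => (Algebra.IsAlgebraic.isAlgebraic x).isIntegral)
    exact contr_of_finite _ _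
  exact contr_trans k _ K h1 h2

/-- Weakly associated primes contract to weakly associated primes along a field base change
(abstract pushout / base change form). -/
theorem main9592 {k K R : Type u} [Field k] [Field K] [Algebra k K] [CommRing R] [Algebra k R]
    (RK : Type u) [CommRing RK] [Algebra k RK] [Algebra K RK] [Algebra R RK]
    [IsScalarTower k K RK] [IsScalarTower k R RK] [Algebra.IsPushout k K R RK] (M : Type u)
    [AddCommGroup M] [Module R M] (MK : Type u) [AddCommGroup MK] [Module RK MK] [Module R MK]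
    [IsScalarTower R RK MK] (f : M →ₗ[R] MK) (hf : IsBaseChange RK f) (q : Ideal RK) [q.IsPrime]
    (hq : q ∈ FlatCA.weakAss RK MK) : q.comap (algebraMap R RK) ∈ FlatCA.weakAss R M := by
  apply contr_all k K R RK M q
  rw [weakAss_congr' hf.equiv]
  exact hq

end Groth.Agent.Lib.WAFieldH7
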