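import Mathlib
import Groth.Prelude
import Groth.Agent.Lib.WAField4_helper7
import Groth.Agent.Lib.WeakAssSch_helper4
import Groth.Agent.Lib.PB7_helper8

/-!
# Weakly associated points under field base change (helper7)

Scheme version of `main9592`.
-/

set_option backward.isDefEq.respectTransparency false
set_option backward.isDefEq.respectTransparency.types false
set_option linter.style.haveILetI false
set_option linter.unusedSectionVars false
set_option linter.unusedVariables false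
set_option autoImplicit false
set_option maxHeartbeats 1600000
set_option maxSynthPendingDepth 3

universe u

namespace Groth.Agent.Lib.WAFieldH7

open AlgebraicGeometry CategoryTheory Limits TopologicalSpace Opposite FlatCA
open Groth.Agent.Lib.WeakAss_helper4 Groth.Agent.Lib.QCohLoc_helper4
open Groth.Agent.Lib.WeakAssSch_helper4

theorem main8900 (k : Type u) [Field k] (K : Type u) [Field K] [Algebra k K] (X : Scheme.{u})
    [X.Over (Spec (CommRingCat.of k))] (F : X.Modules) (hF : Coh.IsQCoh F)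
    (y : ↥(Curv2.bc k X K))
    (hy : Curv2.IsWeakAssPoint ((Scheme.Modules.pullback (Curv2.bcFst k X K)).obj F) y) :
    Curv2.IsWeakAssPoint F (Curv2.bcFst k X K y) := by
  haveI : F.IsQuasicoherent := hF
  obtain ⟨g, hg⟩ : ∃ g : Curv2.bc k X K ⟶ X, g = Curv2.bcFst k X K := ⟨_, rfl⟩
  obtain ⟨iY, hiY⟩ : ∃ iY : Curv2.bc k X K ⟶ Spec (CommRingCat.of K), iY = Curv2.bcSnd k X K :=
    ⟨_, rfl⟩
  obtain ⟨iX, hiX⟩ : ∃ iX : X ⟶ Spec (CommRingCat.of k), iX = (X ↘ Spec (CommRingCat.of k)) :=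
    ⟨_, rfl⟩
  obtain ⟨f, hf⟩ : ∃ f : Spec (CommRingCat.of K) ⟶ Spec (CommRingCat.of k),
      f = Spec.map (CommRingCat.ofHom (algebraMap k K)) := ⟨_, rfl⟩
  have H : IsPullback g iY iX f := by
    rw [hg, hiY, hiX, hf]; exact IsPullback.of_hasPullback _ _
  haveI hgaff : IsAffineHom g := by
    haveI : IsAffineHom f := by rw [hf]; infer_instance
    exact MorphismProperty.of_isPullback (P := @IsAffineHom) H.flip inferInstance
  rw [← hg] at hy ⊢
  obtain ⟨_, ⟨V, hV : IsAffineOpen V, rfl⟩, hxV, -⟩ :=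
    (X.isBasis_affineOpens).exists_subset_of_mem_open (Set.mem_univ (g y)) isOpen_univ
  obtain ⟨U, hUdef⟩ : ∃ U : (Curv2.bc k X K).Opens, U = g ⁻¹ᵁ V := ⟨_, rfl⟩
  have hUV : U ≤ g ⁻¹ᵁ V := hUdef.le
  have hyU : y ∈ U := by rw [hUdef]; exact hxV
  have hUaff : IsAffineOpen U := by rw [hUdef]; exact hV.preimage g
  have hUY : U = g ⁻¹ᵁ V ⊓ iY ⁻¹ᵁ ⊤ := by rw [hUdef]; simp
  have hUST : (⊤ : (Spec (CommRingCat.of K)).Opens) ≤ f ⁻¹ᵁ ⊤ := fun _ _ => trivial
  have hUSX : V ≤ iX ⁻¹ᵁ ⊤ := fun _ _ => trivial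
  have hpo := (isIso_pushoutSection_iff H hUST hUSX hUY).mp
    (isIso_pushoutSection_of_isAffineOpen H hUST hUSX hUY (isAffineOpen_top _)
      (isAffineOpen_top _) hV)
  obtain ⟨ek, hek⟩ : ∃ ek : Γ(Spec (CommRingCat.of k), ⊤) ≅ CommRingCat.of k,
      ek = Scheme.ΓSpecIso (CommRingCat.of k) := ⟨_, rfl⟩
  obtain ⟨eK, heK⟩ : ∃ eK : Γ(Spec (CommRingCat.of K), ⊤) ≅ CommRingCat.of K,
      eK = Scheme.ΓSpecIso (CommRingCat.of K) := ⟨_, rfl⟩
  have hnat : f.appLE ⊤ ⊤ hUST ≫ eK.hom = ek.hom ≫ CommRingCat.ofHom (algebraMap k K) := by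
    rw [hf, hek, heK]
    simp [Scheme.Hom.appLE]
  have hUiY : U ≤ iY ⁻¹ᵁ ⊤ := fun _ _ => trivial
  obtain ⟨φ1, hφ1⟩ : ∃ φ1 : CommRingCat.of k ⟶ Γ(X, V), φ1 = ek.inv ≫ iX.appLE ⊤ V hUSX :=
    ⟨_, rfl⟩
  obtain ⟨φ2, hφ2⟩ : ∃ φ2 : CommRingCat.of K ⟶ Γ(Curv2.bc k X K, U),
      φ2 = eK.inv ≫ iY.appLE ⊤ U hUiY := ⟨_, rfl⟩
  have hpo2 : IsPushout (CommRingCat.ofHom (algebraMap k K)) φ1 φ2 (g.appLE V U hUV) := by
    refine IsPushout.of_iso hpo.flip ek eK (Iso.refl _) (Iso.refl _) hnat ?_ ?_ ?_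
    · rw [hφ1]; simp
    · rw [hφ2]; simp
    · simp
  letI a1 : Algebra k Γ(X, V) := φ1.hom.toAlgebra
  letI a2 : Algebra K Γ(Curv2.bc k X K, U) := φ2.hom.toAlgebra
  letI a3 : Algebra Γ(X, V) Γ(Curv2.bc k X K, U) := (g.appLE V U hUV).hom.toAlgebra
  letI a4 : Algebra k Γ(Curv2.bc k X K, U) := (φ1 ≫ g.appLE V U hUV).hom.toAlgebra
  haveI t1 : IsScalarTower k Γ(X, V) Γ(Curv2.bc k X K, U) :=
    IsScalarTower.of_algebraMap_eq (fun c => rfl)
  haveI t2 : IsScalarTower k K Γ(Curv2.bc k X K, U) :=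
    IsScalarTower.of_algebraMap_eq (fun c => by
      have h1 := congrArg (fun ψ => ψ.hom c) hpo2.w
      exact h1.symm)
  have hpoA : Algebra.IsPushout k K Γ(X, V) Γ(Curv2.bc k X K, U) :=
    (CommRingCat.isPushout_iff_isPushout (R := k) (S := Γ(X, V)) (R' := K)
      (S' := Γ(Curv2.bc k X K, U))).mp hpo2
  letI m1 : Module Γ(X, V) Γ((Scheme.Modules.pullback g).obj F, U) :=
    Module.compHom _ (g.appLE V U hUV).hom
  haveI t3 : IsScalarTower Γ(X, V) Γ(Curv2.bc k X K, U)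
      Γ((Scheme.Modules.pullback g).obj F, U) :=
    IsScalarTower.of_algebraMap_smul fun _ _ => rfl
  have hbc := PBH8.isBaseChange_cUV g F hUV hUaff hV
  have hy' := (isWeakAssPoint_iff
    (locOn_of_isQuasicoherent ((Scheme.Modules.pullback g).obj F) hUaff) hUaff hyU).mp hy
  haveI := (hUaff.primeIdealOf ⟨y, hyU⟩).isPrime
  have hmain := main9592 (k := k) (K := K) (R := Γ(X, V)) Γ(Curv2.bc k X K, U) Γ(F, V)
    Γ((Scheme.Modules.pullback g).obj F, U) (PBH8.cUVLin g F hUV) hbc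
    (hUaff.primeIdealOf ⟨y, hyU⟩).asIdeal hy'
  have hcomap := IsAffineOpen.comap_primeIdealOf_appLE (f := g) V hV U hUaff hUV hyU
  rw [isWeakAssPoint_iff (locOn_of_isQuasicoherent F hV) hV hxV, ← hcomap]
  exact hmain

end Groth.Agent.Lib.WAFieldH7
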