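import Mathlib
import Groth.Prelude.Def_ProEtW

set_option autoImplicit false
universe u

namespace WContrH8

/-- A two-member family of types indexed by `Bool`. -/
def Fam (S T : Type u) : Bool → Type u
  | true => S
  | false => T

section fam

variable (A S T : Type u) [CommRing A] [CommRing S] [CommRing T] [Algebra A S] [Algebra A T]

instance instCommRingFam : ∀ b, CommRing (Fam S T b)
  | true => (inferInstance : CommRing S)
  | false => (inferInstance : CommRing T)

instance instAlgebraFam : ∀ b, Algebra A (Fam S T b)
  | true => (inferInstance : Algebra A S)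
  | false => (inferInstance : Algebra A T)

instance instEtaleFam [Algebra.Etale A S] [Algebra.Etale A T] : ∀ b, Algebra.Etale A (Fam S T b)
  | true => (inferInstance : Algebra.Etale A S)
  | false => (inferInstance : Algebra.Etale A T)

variable {S T}

/-- Inclusion of the first factor (non-unital). -/
def inT (x : S) : ∀ b, Fam S T b
  | true => x
  | false => (0 : T)

/-- Inclusion of the second factor (non-unital). -/
def inF (y : T) : ∀ b, Fam S T b
  | true => (0 : S)
  | false => y

theorem inT_mul (x y : S) : (inT (x * y) : ∀ b, Fam S T b) = inT x * inT y := by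
  funext b
  cases b
  · exact (mul_zero (0 : T)).symm
  · rfl

theorem inT_add (x y : S) : (inT (x + y) : ∀ b, Fam S T b) = inT x + inT y := by
  funext b
  cases b
  · exact (add_zero (0 : T)).symm
  · rfl

theorem inT_zero : (inT (0 : S) : ∀ b, Fam S T b) = 0 := by
  funext b
  cases b <;> rfl

theorem inF_mul (x y : T) : (inF (x * y) : ∀ b, Fam S T b) = inF x * inF y := by
  funext b
  cases b
  · rfl
  · exact (mul_zero (0 : S)).symm

theorem inT_add_inF : (inT (1 : S) + inF (1 : T) : ∀ b, Fam S T b) = 1 := by
  funext b
  cases b
  · exact zero_add (1 : T)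
  · exact add_zero (1 : S)

theorem smul_inT (a : A) (x : S) : (a • inT x : ∀ b, Fam S T b) = inT (a • x) := by
  funext b
  cases b
  · exact smul_zero a
  · rfl

theorem smul_inF (a : A) (y : T) : (a • inF y : ∀ b, Fam S T b) = inF (a • y) := by
  funext b
  cases b
  · rfl
  · exact smul_zero a

variable (S T)

/-- Projection to the first factor. -/
def prT : (∀ b, Fam S T b) →+* S := Pi.evalRingHom (Fam S T) true

/-- Projection to the second factor. -/
def prF : (∀ b, Fam S T b) →+* T := Pi.evalRingHom (Fam S T) false

theorem prT_comp_algebraMap :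
    (prT S T).comp (algebraMap A (∀ b, Fam S T b)) = algebraMap A S := rfl

theorem prF_comp_algebraMap :
    (prF S T).comp (algebraMap A (∀ b, Fam S T b)) = algebraMap A T := rfl

end fam

theorem eq_zero_or_eq_one_of_isIdempotentElem {R : Type u} [CommRing R] [IsLocalRing R] {e : R}
    (he : IsIdempotentElem e) : e = 0 ∨ e = 1 := by
  rcases IsLocalRing.isUnit_or_isUnit_one_sub_self e with h | h
  · right
    have h1 : e * e = e * 1 := by rw [mul_one]; exact he
    exact h.mul_left_cancel h1
  · left
    have h1 : (1 - e) * e = (1 - e) * 0 := by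
      rw [mul_zero, sub_mul, one_mul]
      exact sub_eq_zero.mpr he.symm
    exact h.mul_left_cancel h1

open PrimeSpectrum in
/-- Main lemma: an étale algebra with a point over the maximal ideal `m` maps to `A_m`. -/
theorem exists_algHom_of_etale (A : Type u) [CommRing A] (h : ProEtW.HasEtaleRetractions A)
    (m : Ideal A) [m.IsMaximal] (B : Type u) [CommRing B] [Algebra A B] [Algebra.Etale A B]
    (q : Ideal B) [q.IsPrime] (hq : q.comap (algebraMap A B) = m) :
    Nonempty (B →ₐ[A] Localization.AtPrime m) := by
  classical
  -- the image of `Spec B` is open and contains `m`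
  have hopen : IsOpen (Set.range (comap (algebraMap A B))) :=
    (isOpenMap_comap_of_hasGoingDown_of_finitePresentation (R := A) (S := B)).isOpen_range
  have hm_mem : (⟨m, inferInstance⟩ : PrimeSpectrum A) ∈ Set.range (comap (algebraMap A B)) :=
    ⟨⟨q, inferInstance⟩, PrimeSpectrum.ext hq⟩
  obtain ⟨I, hI⟩ := (isClosed_iff_zeroLocus_ideal _).mp hopen.isClosed_compl
  have hIm : ¬ I ≤ m := by
    intro hle
    have : (⟨m, inferInstance⟩ : PrimeSpectrum A) ∈ zeroLocus (I : Set A) := hle
    rw [← hI] at this
    exact this hm_mem
  have hsup : I ⊔ m = ⊤ := by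
    by_contra hne
    have hmax : m = I ⊔ m := (Ideal.IsMaximal.eq_of_le inferInstance hne le_sup_right)
    exact hIm (hmax ▸ le_sup_left)
  obtain ⟨i, hi, f, hf, hif⟩ := Submodule.mem_sup.mp (hsup ▸ Submodule.mem_top : (1 : A) ∈ I ⊔ m)
  -- the covering algebra
  let C := ∀ b, Fam B (Localization.Away f) b
  have hsurj : Function.Surjective (comap (algebraMap A C)) := by
    intro p
    by_cases hp : p ∈ Set.range (comap (algebraMap A B))
    · obtain ⟨Q, rfl⟩ := hp
      refine ⟨comap (prT B (Localization.Away f)) Q, ?_⟩
      rw [← comap_comp_apply, prT_comp_algebraMap]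
    · have hpI : p ∈ zeroLocus (I : Set A) := by rw [← hI]; exact hp
      have hfp : f ∉ p.asIdeal := by
        intro hfp
        have hip : i ∈ p.asIdeal := hpI hi
        have : (1 : A) ∈ p.asIdeal := hif ▸ p.asIdeal.add_mem hip hfp
        exact p.isPrime.ne_top ((Ideal.eq_top_iff_one _).mpr this)
      have hp' : p ∈ Set.range (comap (algebraMap A (Localization.Away f))) := by
        rw [PrimeSpectrum.localization_away_comap_range (Localization.Away f) f]
        exact hfp
      obtain ⟨Q, rfl⟩ := hp'
      refine ⟨comap (prF B (Localization.Away f)) Q, ?_⟩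
      rw [← comap_comp_apply, prF_comp_algebraMap]
  haveI : Module.FaithfullyFlat A C := Module.FaithfullyFlat.of_comap_surjective hsurj
  obtain ⟨ρ⟩ := h C inferInstance inferInstance
  let ψ : C →ₐ[A] Localization.AtPrime m :=
    (Algebra.ofId A (Localization.AtPrime m)).comp ρ
  let eT : C := inT (1 : B)
  let eF : C := inF (1 : Localization.Away f)
  have hsum : eT + eF = 1 := inT_add_inF
  have hF_idem : IsIdempotentElem eF := by
    unfold IsIdempotentElem
    rw [← inF_mul, mul_one]
  have hψF : ψ eF = 0 := by
    rcases eq_zero_or_eq_one_of_isIdempotentElem (hF_idem.map ψ) with h0 | h1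
    · exact h0
    · exfalso
      obtain ⟨v, hv⟩ := (IsLocalization.Away.algebraMap_isUnit (S := Localization.Away f)
        f).exists_right_inv
      have h2 : (f • eF) * (inF v : C) = eF := by
        rw [smul_inF A, ← inF_mul, Algebra.smul_def, mul_one, hv]
      have h3 := congrArg ψ h2
      rw [map_mul, map_smul, h1, Algebra.smul_def, mul_one] at h3
      have hu : IsUnit (algebraMap A (Localization.AtPrime m) f) := IsUnit.of_mul_eq_one _ h3
      rw [IsLocalization.AtPrime.isUnit_to_map_iff (Localization.AtPrime m) m] at hu
      exact hu hf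
  have hψT : ψ eT = 1 := by
    have := congrArg ψ hsum
    rwa [map_add, hψF, add_zero, map_one] at this
  refine ⟨{ toFun := fun b => ψ (inT b)
            map_one' := hψT
            map_mul' := fun x y => by rw [← map_mul, ← inT_mul]
            map_zero' := by rw [inT_zero, map_zero]
            map_add' := fun x y => by rw [← map_add, ← inT_add]
            commutes' := fun a => ?_ }⟩
  show ψ (inT (algebraMap A B a)) = _
  have h4 : (inT (algebraMap A B a) : C) = a • eT := by
    rw [smul_inT A, Algebra.smul_def, mul_one]
  rw [h4, map_smul, hψT, Algebra.smul_def, mul_one]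

end WContrH8
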