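import Mathlib
import Groth.Prelude.Def_PBC
import Groth.Prelude.Def_ProEtW
import Groth.Agent.Lib.WEIndEt3_helper3
import Groth.Agent.Lib.WContr1_helper8

/-!
# Localizations of w-contractible rings along the generizations of a finitely cut out closed set
(helper3)
-/

set_option autoImplicit false
set_option linter.all false
set_option maxHeartbeats 1600000
universe u

open TensorProduct PrimeSpectrum

namespace Groth.Agent.Lib.WEIndEtH3

open Groth.Agent.Lib.IndEtaleH3 WContrH8

section Prod

variable (A : Type u) [CommRing A]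

/-- The product of two étale algebras is étale. -/
theorem etale_prod (C₁ C₂ : Type u) [CommRing C₁] [CommRing C₂] [Algebra A C₁] [Algebra A C₂]
    [Algebra.Etale A C₁] [Algebra.Etale A C₂] : Algebra.Etale A (C₁ × C₂) := by
  let e : (∀ b, Fam C₁ C₂ b) ≃ₐ[A] C₁ × C₂ :=
    { toFun := fun x => (x true, x false)
      invFun := fun p b => match b with
        | true => p.1
        | false => p.2
      left_inv := fun x => by
        funext b
        cases b <;> rfl
      right_inv := fun p => rfl
      map_mul' := fun x y => rfl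
      map_add' := fun x y => rfl
      commutes' := fun a => rfl }
  exact Algebra.Etale.of_equiv e

variable {A}

/-- An étale algebra is ind-étale. -/
theorem isIndEtale_of_etale' (B : Type u) [CommRing B] [Algebra A B] [Algebra.Etale A B] :
    EtPBC.IsIndEtale A B := by
  apply isIndEtale_of_exists
  · intro b
    exact ⟨B, inferInstance, inferInstance, inferInstance, AlgHom.id A B, b, rfl⟩
  · intro C _ _ _ f c hc
    exact ⟨B, inferInstance, inferInstance, inferInstance, f, AlgHom.id A B, AlgHom.id_comp f, hc⟩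

/-- The product of two ind-étale algebras is ind-étale. -/
theorem isIndEtale_prod {B₁ B₂ : Type u} [CommRing B₁] [CommRing B₂] [Algebra A B₁] [Algebra A B₂]
    (h₁ : EtPBC.IsIndEtale A B₁) (h₂ : EtPBC.IsIndEtale A B₂) : EtPBC.IsIndEtale A (B₁ × B₂) := by
  apply isIndEtale_of_exists
  · rintro ⟨b₁, b₂⟩
    obtain ⟨C₁, _, _, _, f₁, c₁, hc₁⟩ := exists_of_isIndEtale h₁ b₁
    obtain ⟨C₂, _, _, _, f₂, c₂, hc₂⟩ := exists_of_isIndEtale h₂ b₂
    haveI := etale_prod A C₁ C₂
    exact ⟨C₁ × C₂, inferInstance, inferInstance, this, AlgHom.prodMap f₁ f₂, (c₁, c₂),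
      Prod.ext hc₁ hc₂⟩
  · intro C _ _ _ f c hc
    obtain ⟨C₁', _, _, _, g₁, f₁', hfg₁, hg₁⟩ := exists_factor_of_isIndEtale h₁ C
      ((AlgHom.fst A B₁ B₂).comp f) c (by
        show (f c).1 = 0
        rw [hc]; rfl)
    obtain ⟨C₂', _, _, _, g₂, f₂', hfg₂, hg₂⟩ := exists_factor_of_isIndEtale h₂ C
      ((AlgHom.snd A B₁ B₂).comp f) c (by
        show (f c).2 = 0
        rw [hc]; rfl)
    haveI := etale_prod A C₁' C₂'
    refine ⟨C₁' × C₂', inferInstance, inferInstance, this, AlgHom.prod g₁ g₂,
      AlgHom.prodMap f₁' f₂', AlgHom.ext fun x => ?_, Prod.ext hg₁ hg₂⟩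
    exact Prod.ext congr($hfg₁ x) congr($hfg₂ x)

end Prod

section Main

variable (A B : Type u) [CommRing A] [CommRing B] [Algebra A B]

theorem main0707 (S : Submonoid A) [IsLocalization S B] (E : Finset A)
    (hB : Set.range (PrimeSpectrum.comap (algebraMap A B)) =
      {x | ∃ z : PrimeSpectrum A, z ∈ PrimeSpectrum.zeroLocus (R := A) E ∧ x ⤳ z})
    (hA : EtPBC.IsWContractible A) : EtPBC.IsWContractible B := by
  classical
  apply isWContractible_of_hasIndEtaleRetractions
  intro E' _ _ hff hE'
  haveI := hff
  have hAB : EtPBC.IsIndEtale A B := Groth.Agent.Lib.PunctConnH3.isIndEtale_of_isLocalization S B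
  letI algAE' : Algebra A E' := ((algebraMap B E').comp (algebraMap A B)).toAlgebra
  haveI : IsScalarTower A B E' := IsScalarTower.of_algebraMap_eq fun _ => rfl
  have hAE' : EtPBC.IsIndEtale A E' := isIndEtale_trans A B E' hAB hE'
  have hVI : ∀ p : PrimeSpectrum A, p ∈ zeroLocus (R := A) E →
      p ∈ Set.range (comap (algebraMap A B)) := by
    intro p hp
    rw [hB]
    exact ⟨p, hp, specializes_rfl⟩
  -- every maximal ideal of `B` contains the image of `E`
  have hmax : ∀ 𝔪 : Ideal B, 𝔪.IsMaximal → ∀ f ∈ E, algebraMap A B f ∈ 𝔪 := by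
    intro 𝔪 h𝔪 f hf
    have h1 : comap (algebraMap A B) ⟨𝔪, h𝔪.isPrime⟩ ∈ Set.range (comap (algebraMap A B)) :=
      ⟨_, rfl⟩
    rw [hB] at h1
    obtain ⟨z, hz, hspec⟩ := h1
    obtain ⟨N, hN⟩ := hVI z hz
    have hle : (comap (algebraMap A B) ⟨𝔪, h𝔪.isPrime⟩) ≤ z := (le_iff_specializes _ _).mpr hspec
    have hle' : 𝔪.comap (algebraMap A B) ≤ N.asIdeal.comap (algebraMap A B) := by
      have : z.asIdeal = N.asIdeal.comap (algebraMap A B) := by rw [← hN]; rfl
      rw [← this]
      exact hle
    have h2 : 𝔪 ≤ N.asIdeal := by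
      rw [← IsLocalization.map_comap S B 𝔪, ← IsLocalization.map_comap S B N.asIdeal]
      exact Ideal.map_mono hle'
    have h3 : 𝔪 = N.asIdeal := h𝔪.eq_of_le N.isPrime.ne_top h2
    have h4 : z.asIdeal = 𝔪.comap (algebraMap A B) := by rw [h3, ← hN]; rfl
    have h5 : f ∈ z.asIdeal := hz (Finset.mem_coe.mpr hf)
    rw [h4] at h5
    exact h5
  -- the faithfully flat ind-étale `A`-algebra
  have hP : EtPBC.IsIndEtale A (Π f : E, Localization.Away (f : A)) := isIndEtale_of_etale' _
  have hC : EtPBC.IsIndEtale A (E' × (Π f : E, Localization.Away (f : A))) :=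
    isIndEtale_prod hAE' hP
  have hsurj : Function.Surjective
      (comap (algebraMap A (E' × (Π f : E, Localization.Away (f : A))))) := by
    intro p
    by_cases hp : p ∈ Set.range (comap (algebraMap A B))
    · obtain ⟨Q, rfl⟩ := hp
      obtain ⟨Q', rfl⟩ := PrimeSpectrum.comap_surjective_of_faithfullyFlat (A := B) (B := E') Q
      refine ⟨comap (RingHom.fst E' (Π f : E, Localization.Away (f : A))) Q', ?_⟩
      apply PrimeSpectrum.ext
      rfl
    · have hpZ : p ∉ zeroLocus (R := A) E := fun h => hp (hVI p h)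
      have : ∃ f ∈ E, f ∉ p.asIdeal := by
        by_contra hcon
        exact hpZ (fun f hf => by
          by_contra hfp
          exact hcon ⟨f, Finset.mem_coe.mp hf, hfp⟩)
      obtain ⟨f, hf, hfp⟩ := this
      have hp' : p ∈ Set.range (comap (algebraMap A (Localization.Away f))) := by
        rw [PrimeSpectrum.localization_away_comap_range (Localization.Away f) f]
        exact hfp
      obtain ⟨Q, rfl⟩ := hp'
      refine ⟨comap ((Pi.evalRingHom (fun f : E => Localization.Away (f : A)) ⟨f, hf⟩).comp
        (RingHom.snd E' (Π f : E, Localization.Away (f : A)))) Q, ?_⟩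
      apply PrimeSpectrum.ext
      rfl
  haveI : Module.Flat A (E' × (Π f : E, Localization.Away (f : A))) := flat_of_isIndEtale hC
  have hffC : Module.FaithfullyFlat A (E' × (Π f : E, Localization.Away (f : A))) :=
    Module.FaithfullyFlat.of_comap_surjective hsurj
  obtain ⟨ρ⟩ := (main0778 A).mp hA _ hffC hC
  let ψ : (E' × (Π f : E, Localization.Away (f : A))) →ₐ[A] B := (Algebra.ofId A B).comp ρ
  -- the second idempotent dies
  have hψsingle : ∀ (f : E) (𝔪 : Ideal B), 𝔪.IsMaximal →
      ψ ((0 : E'), Pi.single f (1 : Localization.Away (f : A))) ∈ 𝔪 := by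
    intro f 𝔪 h𝔪
    obtain ⟨v, hv⟩ := (IsLocalization.Away.algebraMap_isUnit (S := Localization.Away (f : A))
      (f : A)).exists_right_inv
    have h2 : ((f : A) • (((0 : E'), Pi.single f v) :
        E' × (Π f : E, Localization.Away (f : A)))) =
        ((0 : E'), Pi.single f (1 : Localization.Away (f : A))) := by
      refine Prod.ext (smul_zero _) ?_
      show (f : A) • (Pi.single f v : (g : E) → Localization.Away (g : A)) =
        (Pi.single f 1 : (g : E) → Localization.Away (g : A))
      rw [← Pi.single_smul, Algebra.smul_def, hv]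
    rw [← h2, map_smul, Algebra.smul_def]
    exact 𝔪.mul_mem_right _ (hmax 𝔪 h𝔪 f f.2)
  have hF_eq : (((0 : E'), (1 : Π f : E, Localization.Away (f : A))) :
      E' × (Π f : E, Localization.Away (f : A))) =
      ∑ f : E, ((0 : E'), Pi.single f (1 : Localization.Away (f : A))) := by
    refine Prod.ext ?_ ?_
    · rw [Prod.fst_sum]
      simp
    · rw [Prod.snd_sum]
      show (1 : Π f : E, Localization.Away (f : A)) =
        ∑ f : E, (Pi.single f 1 : (g : E) → Localization.Away (g : A))
      exact (Finset.univ_sum_single (1 : Π f : E, Localization.Away (f : A))).symm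
  have hψF : ψ ((0 : E'), (1 : Π f : E, Localization.Away (f : A))) = 0 := by
    have hmem : ∀ 𝔪 : Ideal B, 𝔪.IsMaximal →
        ψ ((0 : E'), (1 : Π f : E, Localization.Away (f : A))) ∈ 𝔪 := by
      intro 𝔪 h𝔪
      rw [hF_eq, map_sum]
      exact 𝔪.sum_mem fun f _ => hψsingle f 𝔪 h𝔪
    have hunit : IsUnit (1 - ψ ((0 : E'), (1 : Π f : E, Localization.Away (f : A)))) := by
      by_contra hnu
      obtain ⟨𝔪, h𝔪, hin⟩ := exists_max_ideal_of_mem_nonunits (mem_nonunits_iff.mpr hnu)
      have h1 : (1 : B) ∈ 𝔪 := by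
        have := 𝔪.add_mem hin (hmem 𝔪 h𝔪)
        rwa [sub_add_cancel] at this
      exact h𝔪.ne_top ((Ideal.eq_top_iff_one _).mpr h1)
    have hidem : IsIdempotentElem (((0 : E'), (1 : Π f : E, Localization.Away (f : A))) :
        E' × (Π f : E, Localization.Away (f : A))) := by
      show _ * _ = _
      refine Prod.ext ?_ ?_
      · show (0 : E') * 0 = 0
        rw [mul_zero]
      · show (1 : Π f : E, Localization.Away (f : A)) * 1 = 1
        rw [mul_one]
    have hid : ψ ((0 : E'), (1 : Π f : E, Localization.Away (f : A))) *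
        ψ ((0 : E'), (1 : Π f : E, Localization.Away (f : A))) =
        ψ ((0 : E'), (1 : Π f : E, Localization.Away (f : A))) := hidem.map ψ
    have h5 : ψ ((0 : E'), (1 : Π f : E, Localization.Away (f : A))) *
        (1 - ψ ((0 : E'), (1 : Π f : E, Localization.Away (f : A)))) = 0 := by
      rw [mul_sub, mul_one, hid, sub_self]
    exact (hunit.mul_left_eq_zero).mp h5
  have hψT : ψ ((1 : E'), (0 : Π f : E, Localization.Away (f : A))) = 1 := by
    have hsum : (((1 : E'), (0 : Π f : E, Localization.Away (f : A))) :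
        E' × (Π f : E, Localization.Away (f : A))) + ((0 : E'), 1) = 1 := by
      refine Prod.ext ?_ ?_
      · show (1 : E') + 0 = 1
        rw [add_zero]
      · show (0 : Π f : E, Localization.Away (f : A)) + 1 = 1
        rw [zero_add]
    have := congrArg ψ hsum
    rwa [map_add, hψF, add_zero, map_one] at this
  -- the retraction
  let ρT : E' →+* B :=
    { toFun := fun x => ψ (x, 0)
      map_one' := hψT
      map_mul' := fun x y => by
        rw [← map_mul]
        congr 1
        refine Prod.ext rfl ?_
        show (0 : Π f : E, Localization.Away (f : A)) = 0 * 0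
        rw [mul_zero]
      map_zero' := by
        show ψ ((0 : E'), (0 : Π f : E, Localization.Away (f : A))) = 0
        exact map_zero ψ
      map_add' := fun x y => by
        rw [← map_add]
        congr 1
        refine Prod.ext rfl ?_
        show (0 : Π f : E, Localization.Away (f : A)) = 0 + 0
        rw [add_zero] }
  have hρTA : ∀ a : A, ρT (algebraMap A E' a) = algebraMap A B a := by
    intro a
    show ψ (algebraMap A E' a, 0) = _
    have h4 : ((algebraMap A E' a, 0) : E' × (Π f : E, Localization.Away (f : A))) =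
        a • ((1 : E'), (0 : Π f : E, Localization.Away (f : A))) := by
      refine Prod.ext ?_ ?_
      · show algebraMap A E' a = a • (1 : E')
        rw [Algebra.smul_def, mul_one]
      · show (0 : Π f : E, Localization.Away (f : A)) = a • 0
        rw [smul_zero]
    rw [h4, map_smul, hψT, Algebra.smul_def, mul_one]
  have hρTB : ρT.comp (algebraMap B E') = RingHom.id B := by
    apply IsLocalization.ringHom_ext S
    ext a
    show ρT (algebraMap B E' (algebraMap A B a)) = algebraMap A B a
    exact hρTA a
  exact ⟨{ toRingHom := ρT, commutes' := fun b => congr($hρTB b) }⟩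

end Main

end Groth.Agent.Lib.WEIndEtH3
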