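import Mathlib
import Groth.Prelude.Def_PBC
import Groth.Prelude.Def_ProEtW
import Groth.Agent.Lib.WEIndEt5_helper3
import Groth.Agent.Lib.IndEtLift2_helper3

/-!
# Quotients of w-contractible rings by ideals with quasi-compact open complement (helper3)
-/

set_option autoImplicit false
set_option linter.all false
set_option maxHeartbeats 1600000
universe u

open TensorProduct PrimeSpectrum

namespace Groth.Agent.Lib.WEIndEtH3

open Groth.Agent.Lib.IndEtaleH3

/-- A ring hom out of a product killing the second idempotent restricts to the first factor. -/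
def fstRestrict {C P R : Type*} [CommRing C] [CommRing P] [CommRing R] (ψ : C × P →+* R)
    (h : ψ ((0 : C), (1 : P)) = 0) : C →+* R where
  toFun c := ψ (c, 0)
  map_one' := by
    have h1 : ((1 : C), (0 : P)) = (1 : C × P) - ((0 : C), (1 : P)) := by
      ext <;> simp
    rw [h1, map_sub, map_one, h, sub_zero]
  map_mul' c c' := by
    rw [← map_mul]
    congr 1
    ext <;> simp
  map_zero' := by
    show ψ ((0 : C), (0 : P)) = 0
    exact map_zero ψ
  map_add' c c' := by
    rw [← map_add]
    congr 1
    ext <;> simp

theorem isWContractible_quotient (A : Type u) [CommRing A] (J : Ideal A)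
    (hc : IsCompact ((zeroLocus (J : Set A))ᶜ : Set (PrimeSpectrum A)))
    (hA : EtPBC.IsWContractible A) : EtPBC.IsWContractible (A ⧸ J) := by
  classical
  obtain ⟨E, hE⟩ := isCompact_isOpen_iff.mp ⟨hc, (isClosed_zeroLocus _).isOpen_compl⟩
  have hEJ : zeroLocus (E : Set A) = zeroLocus (J : Set A) := compl_injective hE
  have hrad : ∀ f ∈ E, f ∈ J.radical := by
    intro f hf
    rw [← vanishingIdeal_zeroLocus_eq_radical, ← hEJ]
    exact subset_vanishingIdeal_zeroLocus _ (Finset.mem_coe.mpr hf)
  apply isWContractible_of_hasIndEtaleRetractions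
  intro Cb _ _ hff hind
  haveI := hff
  obtain ⟨C, _, _, hC, ⟨e⟩⟩ := Groth.Agent.Lib.IndEtaleH3.main0755 A J Cb hind
  have hP : EtPBC.IsIndEtale A (Π f : E, Localization.Away (f : A)) := isIndEtale_of_etale' _
  have hCP : EtPBC.IsIndEtale A (C × (Π f : E, Localization.Away (f : A))) :=
    isIndEtale_prod hC hP
  -- surjectivity on spectra
  have hsurj : Function.Surjective
      (comap (algebraMap A (C × (Π f : E, Localization.Away (f : A))))) := by
    intro p
    by_cases hp : p ∈ zeroLocus (J : Set A)
    · -- `p` comes from a prime of `A ⧸ J`, hence of `Cb`, hence of `C`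
      have hp' : J ≤ p.asIdeal := hp
      let pbar : PrimeSpectrum (A ⧸ J) :=
        ⟨p.asIdeal.map (Ideal.Quotient.mk J),
          Ideal.map_isPrime_of_surjective Ideal.Quotient.mk_surjective (by
            rw [Ideal.mk_ker]; exact hp')⟩
      obtain ⟨Qb, hQb⟩ := PrimeSpectrum.comap_surjective_of_faithfullyFlat (A := A ⧸ J) (B := Cb) pbar
      -- pull back to `C`
      let π : C →+* Cb := (e : (C ⧸ J.map (algebraMap A C)) →+* Cb).comp
        (Ideal.Quotient.mk (J.map (algebraMap A C)))
      refine ⟨comap ((π).comp (RingHom.fst C (Π f : E, Localization.Away (f : A)))) Qb, ?_⟩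
      apply PrimeSpectrum.ext
      ext a
      have h1 : π (algebraMap A C a) = algebraMap (A ⧸ J) Cb (Ideal.Quotient.mk J a) := by
        show e (Ideal.Quotient.mk _ (algebraMap A C a)) = _
        have : (Ideal.Quotient.mk (J.map (algebraMap A C)) (algebraMap A C a)) =
            algebraMap (A ⧸ J) (C ⧸ J.map (algebraMap A C)) (Ideal.Quotient.mk J a) := by
          simp
        rw [this, AlgEquiv.commutes]
      have h2 : a ∈ p.asIdeal ↔ Ideal.Quotient.mk J a ∈ pbar.asIdeal := by
        show _ ↔ Ideal.Quotient.mk J a ∈ p.asIdeal.map (Ideal.Quotient.mk J)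
        rw [Ideal.mem_map_iff_of_surjective _ Ideal.Quotient.mk_surjective]
        constructor
        · intro ha; exact ⟨a, ha, rfl⟩
        · rintro ⟨b, hb, hab⟩
          have : a - b ∈ J := by
            rw [← Ideal.Quotient.eq]; exact hab.symm
          have := p.asIdeal.add_mem (hp' this) hb
          simpa using this
      show algebraMap A (C × (Π f : E, Localization.Away (f : A))) a ∈
        (comap ((π).comp (RingHom.fst C (Π f : E, Localization.Away (f : A)))) Qb).asIdeal ↔ _
      rw [h2, ← hQb]
      show π (algebraMap A C a) ∈ Qb.asIdeal ↔ algebraMap (A ⧸ J) Cb (Ideal.Quotient.mk J a) ∈ Qb.asIdeal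
      rw [h1]
    · have hpE : p ∉ zeroLocus (E : Set A) := by rwa [hEJ]
      have : ∃ f ∈ E, f ∉ p.asIdeal := by
        by_contra hcon
        exact hpE (fun f hf => by
          by_contra hfp
          exact hcon ⟨f, Finset.mem_coe.mp hf, hfp⟩)
      obtain ⟨f, hf, hfp⟩ := this
      have hp' : p ∈ Set.range (comap (algebraMap A (Localization.Away f))) := by
        rw [PrimeSpectrum.localization_away_comap_range (Localization.Away f) f]
        exact hfp
      obtain ⟨Q, rfl⟩ := hp'
      refine ⟨comap ((Pi.evalRingHom (fun f : E => Localization.Away (f : A)) ⟨f, hf⟩).comp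
        (RingHom.snd C (Π f : E, Localization.Away (f : A)))) Q, ?_⟩
      apply PrimeSpectrum.ext
      rfl
  haveI : Module.Flat A (C × (Π f : E, Localization.Away (f : A))) := flat_of_isIndEtale hCP
  have hffC : Module.FaithfullyFlat A (C × (Π f : E, Localization.Away (f : A))) :=
    Module.FaithfullyFlat.of_comap_surjective hsurj
  obtain ⟨ρ⟩ := (main0778 A).mp hA _ hffC hCP
  -- the second idempotent maps into `J`
  have hsingle : ∀ f : E, ρ ((0 : C), Pi.single f (1 : Localization.Away (f : A))) ∈ J.radical := by
    intro f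
    obtain ⟨v, hv⟩ := (IsLocalization.Away.algebraMap_isUnit (S := Localization.Away (f : A))
      (f : A)).exists_right_inv
    have h2 : ((f : A) • (((0 : C), Pi.single f v) :
        C × (Π f : E, Localization.Away (f : A)))) =
        ((0 : C), Pi.single f (1 : Localization.Away (f : A))) := by
      refine Prod.ext (smul_zero _) ?_
      show (f : A) • (Pi.single f v : (g : E) → Localization.Away (g : A)) =
        (Pi.single f 1 : (g : E) → Localization.Away (g : A))
      rw [← Pi.single_smul, Algebra.smul_def, hv]
    rw [← h2, map_smul, smul_eq_mul]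
    exact J.radical.mul_mem_right _ (hrad f f.2)
  have hF_eq : (((0 : C), (1 : Π f : E, Localization.Away (f : A))) :
      C × (Π f : E, Localization.Away (f : A))) =
      ∑ f : E, ((0 : C), Pi.single f (1 : Localization.Away (f : A))) := by
    refine Prod.ext ?_ ?_
    · rw [Prod.fst_sum]
      simp
    · rw [Prod.snd_sum]
      show (1 : Π f : E, Localization.Away (f : A)) =
        ∑ f : E, (Pi.single f 1 : (g : E) → Localization.Away (g : A))
      exact (Finset.univ_sum_single (1 : Π f : E, Localization.Away (f : A))).symm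
  have hεrad : ρ ((0 : C), (1 : Π f : E, Localization.Away (f : A))) ∈ J.radical := by
    rw [hF_eq, map_sum]
    exact J.radical.sum_mem fun f _ => hsingle f
  have hidem : IsIdempotentElem (ρ ((0 : C), (1 : Π f : E, Localization.Away (f : A)))) := by
    show _ * _ = _
    rw [← map_mul]
    congr 1
    ext <;> simp
  have hεJ : ρ ((0 : C), (1 : Π f : E, Localization.Away (f : A))) ∈ J := by
    obtain ⟨n, hn⟩ := hεrad
    cases n with
    | zero =>
      rw [pow_zero] at hn
      rw [(Ideal.eq_top_iff_one J).mpr hn]
      trivial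
    | succ n =>
      rwa [hidem.pow_succ_eq] at hn
  let ψ : C × (Π f : E, Localization.Away (f : A)) →+* A ⧸ J :=
    (Ideal.Quotient.mk J).comp ρ.toRingHom
  have hψ : ψ ((0 : C), (1 : Π f : E, Localization.Away (f : A))) = 0 :=
    Ideal.Quotient.eq_zero_iff_mem.mpr hεJ
  let ψ0 : C →+* A ⧸ J := fstRestrict ψ hψ
  have hψ0 : ∀ a : A, ψ0 (algebraMap A C a) = Ideal.Quotient.mk J a := by
    intro a
    show Ideal.Quotient.mk J (ρ (algebraMap A C a, 0)) = _
    have h1 : ((algebraMap A C a, (0 : Π f : E, Localization.Away (f : A))) :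
        C × (Π f : E, Localization.Away (f : A))) = a • ((1 : C), (0 : Π f : E, Localization.Away (f : A))) := by
      refine Prod.ext ?_ ?_
      · show algebraMap A C a = a • (1 : C)
        rw [Algebra.smul_def, mul_one]
      · show (0 : Π f : E, Localization.Away (f : A)) = a • 0
        rw [smul_zero]
    rw [h1, map_smul, smul_eq_mul, map_mul]
    have h2 : Ideal.Quotient.mk J (ρ ((1 : C), (0 : Π f : E, Localization.Away (f : A)))) = 1 :=
      map_one ψ0
    rw [h2, mul_one]
  have hkill : ∀ x ∈ J.map (algebraMap A C), ψ0 x = 0 := by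
    intro x hx
    have hle : J.map (algebraMap A C) ≤ RingHom.ker ψ0 := by
      rw [Ideal.map_le_iff_le_comap]
      intro j hj
      show ψ0 (algebraMap A C j) = 0
      rw [hψ0]
      exact Ideal.Quotient.eq_zero_iff_mem.mpr hj
    exact hle hx
  let χ : (C ⧸ J.map (algebraMap A C)) →+* A ⧸ J := Ideal.Quotient.lift _ ψ0 hkill
  let χ' : (C ⧸ J.map (algebraMap A C)) →ₐ[A ⧸ J] A ⧸ J :=
    { toRingHom := χ
      commutes' := by
        intro r
        obtain ⟨a, rfl⟩ := Ideal.Quotient.mk_surjective r
        have : algebraMap (A ⧸ J) (C ⧸ J.map (algebraMap A C)) (Ideal.Quotient.mk J a) =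
            Ideal.Quotient.mk _ (algebraMap A C a) := by simp
        show χ (algebraMap (A ⧸ J) (C ⧸ J.map (algebraMap A C)) (Ideal.Quotient.mk J a)) = _
        rw [this]
        show ψ0 (algebraMap A C a) = _
        rw [hψ0]
        rfl }
  exact ⟨χ'.comp e.symm.toAlgHom⟩

end Groth.Agent.Lib.WEIndEtH3
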