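import Mathlib
import Groth.Prelude.Def_PBC
import Groth.Prelude.Def_ProEtS
import Groth.Agent.Lib.WCClosed1_helper3
import Groth.Agent.Lib.WCSite3_helper3

/-!
# Exactness of `i_*` on the pro-étale site for closed immersions with retrocompact complement
(helper3)
-/

set_option autoImplicit false
set_option linter.all false
set_option maxHeartbeats 1600000
universe u

open AlgebraicGeometry CategoryTheory Limits Opposite TopologicalSpace

namespace Groth.Agent.Lib.WCSiteH3

open Groth.Agent.Lib.WEIndEtH3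

section BaseChange

variable {Z X : Scheme.{u}} (i : Z ⟶ X) [IsClosedImmersion i]

/-- The base change to `Z` of an affine object with w-contractible ring, lying over an affine open
of `X`, is weakly contractible. -/
theorem isWC_bcP (hr : IsRetrocompact (Set.range i.base)ᶜ) (V : X.ProEt) [IsAffine V.left]
    (hV : EtPBC.IsWContractible ↥(Γ(V.left, ⊤))) (Xk : X.Opens) (hXk : IsAffineOpen Xk)
    (hVk : Set.range V.hom.base ⊆ (Xk : Set X)) :
    ProEtS.IsWC ((ProEtS.bcP i).obj V) := by
  let c : pullback V.hom i ⟶ V.left := pullback.fst V.hom i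
  haveI : IsClosedImmersion c := inferInstanceAs (IsClosedImmersion (pullback.fst V.hom i))
  obtain ⟨haff, hsurj⟩ := IsClosedImmersion.isAffine_surjective_of_isAffine c
  haveI : IsAffine (pullback V.hom i) := haff
  haveI : IsAffine ((ProEtS.bcP i).obj V).left := haff
  let φ : Γ(V.left, ⊤) ⟶ Γ(pullback V.hom i, ⊤) := c.appTop
  -- compactness of the complement
  have hrange : Set.range c = V.hom ⁻¹' Set.range i := Scheme.Pullback.range_fst V.hom i
  haveI : IsAffine (↑Xk : Scheme) := hXk
  have hcomp : IsCompact ((Set.range c)ᶜ : Set V.left) := by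
    rw [hrange]
    have hlift : Set.range V.hom ⊆ Set.range Xk.ι := by
      rw [Scheme.Opens.range_ι]; exact hVk
    let f' : V.left ⟶ (↑Xk : Scheme) := IsOpenImmersion.lift Xk.ι V.hom hlift
    have hf' : f' ≫ Xk.ι = V.hom := IsOpenImmersion.lift_fac _ _ _
    have h1 : (V.hom ⁻¹' Set.range i)ᶜ = f' ⁻¹' (Xk.ι ⁻¹' (Set.range i)ᶜ) := by
      ext x
      simp only [Set.mem_compl_iff, Set.mem_preimage]
      rw [← Scheme.Hom.comp_apply, hf']
    rw [h1]
    haveI : QuasiCompact f' := inferInstance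
    apply QuasiCompact.isCompact_preimage (f := f')
    · exact (i.isClosedEmbedding.isClosed_range.isOpen_compl).preimage Xk.ι.continuous
    · have hK : IsCompact ((Set.range i)ᶜ ∩ (Xk : Set X)) := hr hXk.isCompact Xk.isOpen
      have h2 : Xk.ι ⁻¹' (Set.range i)ᶜ = Xk.ι ⁻¹' ((Set.range i)ᶜ ∩ (Xk : Set X)) := by
        ext x
        simp only [Set.mem_preimage, Set.mem_inter_iff, SetLike.mem_coe]
        exact ⟨fun h => ⟨h, x.2⟩, fun h => h.1⟩
      rw [h2, Xk.ι.isOpenEmbedding.isEmbedding.isCompact_preimage_iff (by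
        rw [Scheme.Opens.range_ι]; exact Set.inter_subset_right)]
      exact hK
  -- translate to the prime spectrum
  let J : Ideal Γ(V.left, ⊤) := RingHom.ker φ.hom
  have hnat : c ≫ V.left.isoSpec.hom = (pullback V.hom i).isoSpec.hom ≫ Spec.map φ :=
    (Scheme.isoSpec_hom_naturality c).symm
  have hzl : (PrimeSpectrum.zeroLocus (J : Set Γ(V.left, ⊤)))ᶜ =
      V.left.isoSpec.hom '' (Set.range c)ᶜ := by
    have h1 : PrimeSpectrum.zeroLocus (J : Set Γ(V.left, ⊤)) = Set.range (Spec.map φ) :=
      (_root_.range_comap_of_surjective _ φ.hom hsurj).symm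
    have h2 : Set.range (Spec.map φ) = V.left.isoSpec.hom '' (Set.range c) := by
      have h3 : Set.range ((pullback V.hom i).isoSpec.hom ≫ Spec.map φ) =
          Set.range (Spec.map φ) := by
        rw [Scheme.Hom.comp_base, TopCat.coe_comp, Set.range_comp]
        have : Set.range (pullback V.hom i).isoSpec.hom = Set.univ :=
          Set.range_eq_univ.mpr (pullback V.hom i).isoSpec.hom.homeomorph.surjective
        rw [this, Set.image_univ]
      rw [← h3, ← hnat, Scheme.Hom.comp_base, TopCat.coe_comp, Set.range_comp]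
    rw [h1, h2]
    exact (Set.image_compl_eq V.left.isoSpec.hom.homeomorph.bijective).symm
  have hc : IsCompact ((PrimeSpectrum.zeroLocus (J : Set Γ(V.left, ⊤)))ᶜ) := by
    rw [hzl]
    exact hcomp.image V.left.isoSpec.hom.continuous
  have hq := isWContractible_quotient Γ(V.left, ⊤) J hc hV
  have hwc : EtPBC.IsWContractible ↥(Γ(((ProEtS.bcP i).obj V).left, ⊤)) :=
    isWContractible_of_ringEquiv (RingHom.quotientKerEquivOfSurjective hsurj) hq
  exact isWC_of_isWContractible _ hwc

end BaseChange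

/-- Every object of the pro-étale site is covered by affine objects with w-contractible rings which
lie over affine opens of the base. -/
theorem exists_wc_cover_subordinate {X : Scheme.{u}} (U : X.ProEt) :
    ∃ (ι : Type u) (V : ι → X.ProEt) (g : ∀ j, V j ⟶ U),
      Sieve.generate (Presieve.ofArrows V g) ∈ Scheme.ProEt.topology X U ∧
      ∀ j, IsAffine (V j).left ∧ EtPBC.IsWContractible ↥(Γ((V j).left, ⊤)) ∧
        ∃ Xk : X.Opens, IsAffineOpen Xk ∧ Set.range (V j).hom.base ⊆ (Xk : Set X) := by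
  let Wk : X.affineOpens → U.left.Opens := fun k => U.hom ⁻¹ᵁ k.1
  haveI : ∀ k, WeaklyEtale ((Wk k).ι ≫ U.hom) := fun k => inferInstance
  let Uk : X.affineOpens → X.ProEt := fun k => Scheme.ProEt.mk ((Wk k).ι ≫ U.hom)
  let uk : ∀ k, Uk k ⟶ U := fun k => MorphismProperty.Over.homMk (Wk k).ι
  choose ι V g hcov hV using fun k => main7286 (Uk k)
  have hC : Sieve.generate (Presieve.ofArrows Uk uk) ∈ Scheme.ProEt.topology X U := by
    apply ofArrows_mem_topology_of_openCover Uk uk
    · intro k
      exact inferInstanceAs (IsOpenImmersion (Wk k).ι)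
    · intro x
      obtain ⟨_, ⟨Xk, hXk, rfl⟩, hxk, -⟩ :=
        X.isBasis_affineOpens.exists_subset_of_mem_open (Set.mem_univ (U.hom x)) isOpen_univ
      refine ⟨⟨Xk, hXk⟩, ?_⟩
      show x ∈ Set.range (Wk ⟨Xk, hXk⟩).ι
      rw [Scheme.Opens.range_ι]
      exact hxk
  refine ⟨Σ k : X.affineOpens, ι k, fun p => V p.1 p.2, fun p => g p.1 p.2 ≫ uk p.1, ?_, ?_⟩
  · refine (Scheme.ProEt.topology X).transitive hC _ ?_
    intro Y f hf
    obtain ⟨T, a, b, ⟨k⟩, rfl⟩ := hf
    rw [Sieve.pullback_comp]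
    apply (Scheme.ProEt.topology X).pullback_stable
    refine (Scheme.ProEt.topology X).superset_covering ?_ (hcov k)
    rw [Sieve.generate_le_iff]
    rintro _ _ ⟨j⟩
    exact Sieve.le_generate _ _ _ (Presieve.ofArrows.mk (⟨k, j⟩ : Σ k : X.affineOpens, ι k))
  · rintro ⟨k, j⟩
    refine ⟨(hV k j).1, (hV k j).2, k.1, k.2, ?_⟩
    rintro _ ⟨y, rfl⟩
    have hw : (g k j).left ≫ (Uk k).hom = (V k j).hom := CategoryTheory.Over.w (g k j).hom
    have hw' : (V k j).hom = (g k j).left ≫ (Wk k).ι ≫ U.hom := hw.symm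
    show (V k j).hom y ∈ (k.1 : Set X)
    rw [hw', Scheme.Hom.comp_apply, Scheme.Hom.comp_apply]
    exact ((g k j).left y).2

/-- An epimorphism of abelian sheaves is surjective on sections over weakly contractible
objects. -/
theorem surjective_of_isWC {Z : Scheme.{u}} {F G : ProEtS.AbP Z} (φ : F ⟶ G) [Epi φ]
    (T : Z.ProEt) (hT : ProEtS.IsWC T) : Function.Surjective (φ.hom.app (op T)) := by
  haveI : Sheaf.IsLocallySurjective φ := (Sheaf.isLocallySurjective_iff_epi' _ φ).mpr inferInstance
  let φ' := (sheafCompose (Scheme.ProEt.topology Z) (forget AddCommGrpCat.{u+1})).map φ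
  haveI : Sheaf.IsLocallySurjective φ' := inferInstance
  have hepi : Epi φ' := inferInstance
  exact hT _ _ φ' hepi

section Main

variable {Z X : Scheme.{u}} (i : Z ⟶ X) [IsClosedImmersion i] [ProEtS.PCont i]

theorem epi_pushP_map (hr : IsRetrocompact (Set.range i.base)ᶜ) {F G : ProEtS.AbP Z} (φ : F ⟶ G)
    [Epi φ] : Epi ((ProEtS.pushP i).map φ) := by
  rw [← Sheaf.isLocallySurjective_iff_epi' AddCommGrpCat.{u+1}]
  constructor
  intro U t
  obtain ⟨ι, V, g, hcov, hV⟩ := exists_wc_cover_subordinate U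
  refine (Scheme.ProEt.topology X).superset_covering ?_ hcov
  rw [Sieve.generate_le_iff]
  rintro _ _ ⟨j⟩
  obtain ⟨Xk, hXk, hVk⟩ := (hV j).2.2
  haveI := (hV j).1
  have hwc := isWC_bcP i hr (V j) (hV j).2.1 Xk hXk hVk
  obtain ⟨s, hs⟩ := surjective_of_isWC φ _ hwc
    ((((ProEtS.pushP i).obj G).obj.map (g j).op) t)
  exact ⟨s, hs⟩

theorem main0722 (hr : IsRetrocompact (Set.range i.base)ᶜ) :
    PreservesFiniteLimits (ProEtS.pushP i) ∧ PreservesFiniteColimits (ProEtS.pushP i) := by
  have hlim : PreservesFiniteLimits (ProEtS.pushP i) := by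
    haveI := (ProEtS.pullPushAdjP i).rightAdjoint_preservesLimits
    infer_instance
  refine ⟨hlim, ?_⟩
  rw [Functor.preservesFiniteColimits_iff_forall_exact_map_and_epi]
  intro S hS
  have h1 := (Functor.preservesFiniteLimits_iff_forall_exact_map_and_mono (ProEtS.pushP i)).mp hlim S hS
  refine ⟨h1.1, ?_⟩
  haveI := hS.epi_g
  exact epi_pushP_map i hr S.g

end Main

end Groth.Agent.Lib.WCSiteH3
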