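import Mathlib

set_option autoImplicit false
set_option linter.style.haveILetI false
set_option linter.unusedSectionVars false

universe w v u

namespace Groth.Agent.Lib.WCExactH4

open CategoryTheory Opposite Limits

variable {C : Type u} [Category.{v} C] (J : GrothendieckTopology C)
  [HasSheafify J AddCommGrpCat.{w}] [J.WEqualsLocallyBijective AddCommGrpCat.{w}]

/-- sections over `U` -/
noncomputable abbrev Γ (U : C) : Sheaf J AddCommGrpCat.{w} ⥤ AddCommGrpCat.{w} :=
  sheafToPresheaf J AddCommGrpCat.{w} ⋙ (evaluation Cᵒᵖ AddCommGrpCat.{w}).obj (op U)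

lemma surj_sections (U : C)
    (hU : ∀ (P Q : Sheaf J (Type w)) (ψ : P ⟶ Q), Epi ψ →
      Function.Surjective (ψ.hom.app (op U)))
    {F G : Sheaf J AddCommGrpCat.{w}} (φ : F ⟶ G) [Epi φ] :
    Function.Surjective (φ.hom.app (op U)) := by
  haveI : Sheaf.IsLocallySurjective φ :=
    (Sheaf.isLocallySurjective_iff_epi' (φ := φ)).mpr inferInstance
  haveI : Sheaf.IsLocallySurjective ((sheafCompose J (forget AddCommGrpCat.{w})).map φ) :=
    inferInstance
  haveI : Epi ((sheafCompose J (forget AddCommGrpCat.{w})).map φ) := inferInstance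
  exact hU _ _ ((sheafCompose J (forget AddCommGrpCat.{w})).map φ) inferInstance

lemma sections_preservesFiniteColimits (U : C)
    (hU : ∀ (P Q : Sheaf J (Type w)) (ψ : P ⟶ Q), Epi ψ →
      Function.Surjective (ψ.hom.app (op U))) :
    PreservesFiniteColimits (Γ.{w} J U) := by
  haveI : PreservesFiniteLimits (Γ.{w} J U) := inferInstance
  haveI : (Γ.{w} J U).Additive := inferInstance
  rw [Functor.preservesFiniteColimits_iff_forall_exact_map_and_epi (Γ.{w} J U)]
  intro S hS
  have h1 := (Functor.preservesFiniteLimits_iff_forall_exact_map_and_mono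
    (Γ.{w} J U)).mp inferInstance S hS
  refine ⟨h1.1, ?_⟩
  haveI := hS.epi_g
  exact (AddCommGrpCat.epi_iff_surjective ((Γ.{w} J U).map S.g)).mpr (surj_sections J U hU S.g)

theorem main19540 (B : C → Prop)
    (hB : ∀ U : C, B U → ∀ (P Q : Sheaf J (Type w)) (ψ : P ⟶ Q), Epi ψ →
      Function.Surjective (ψ.hom.app (op U)))
    (hcov : ∀ V : C, ∃ S : Sieve V, S ∈ J V ∧ ∀ ⦃W : C⦄ (f : W ⟶ V), S.arrows f →
      ∃ (U : C) (g : W ⟶ U) (h : U ⟶ V), B U ∧ g ≫ h = f)
    (S : ShortComplex (Sheaf J AddCommGrpCat.{w})) :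
    S.Exact ↔ ∀ U : C, B U →
      (S.map (sheafToPresheaf J AddCommGrpCat.{w} ⋙
        (evaluation Cᵒᵖ AddCommGrpCat.{w}).obj (op U))).Exact := by
  constructor
  · intro hS U hU
    haveI : PreservesFiniteColimits (Γ.{w} J U) := sections_preservesFiniteColimits J U (hB U hU)
    haveI : PreservesFiniteLimits (Γ.{w} J U) := inferInstance
    exact hS.map (Γ.{w} J U)
  · intro h
    rw [S.exact_iff_isZero_homology]
    -- sections of homology vanish on `B`
    have hz : ∀ U : C, B U → IsZero (S.homology.obj.obj (op U)) := by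
      intro U hU
      haveI : PreservesFiniteColimits (Γ.{w} J U) := sections_preservesFiniteColimits J U (hB U hU)
      haveI : PreservesFiniteLimits (Γ.{w} J U) := inferInstance
      have h0 : IsZero (S.map (Γ.{w} J U)).homology :=
        ((S.map (Γ.{w} J U)).exact_iff_isZero_homology).mp (h U hU)
      exact h0.of_iso (S.mapHomologyIso (Γ.{w} J U)).symm
    have hz' : ∀ V : C, IsZero (S.homology.obj.obj (op V)) := by
      intro V
      rw [IsZero.iff_id_eq_zero]
      obtain ⟨R, hR, hR'⟩ := hcov V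
      refine Presheaf.IsSheaf.hom_ext S.homology.property ⟨R, hR⟩ _ _ ?_
      intro I
      obtain ⟨U, g, k, hU, hgk⟩ := hR' I.f I.hf
      have e : S.homology.obj.map I.f.op = S.homology.obj.map k.op ≫ S.homology.obj.map g.op := by
        rw [← Functor.map_comp, ← op_comp, hgk]
      rw [e]
      have e0 : S.homology.obj.map k.op = 0 := (hz U hU).eq_of_tgt _ _
      rw [e0]
      simp
    rw [IsZero.iff_id_eq_zero]
    apply Sheaf.hom_ext
    apply NatTrans.ext
    funext V
    exact (hz' V.unop).eq_of_src _ _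

end Groth.Agent.Lib.WCExactH4
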