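import Mathlib
import Groth.Prelude.Def_ProEtW
import Groth.Agent.Lib.HenselQF2_helper3
import Groth.Agent.Lib.HensIntDom_lead
import Groth.Agent.Lib.StrictHensEquiv_helper8
import Groth.Agent.S0505

/-!
# Finite algebras over rings with strictly henselian local rings (helper3)

Towards S0679.
-/

set_option autoImplicit false
set_option linter.all false
set_option maxHeartbeats 1600000

universe u

open Topology TensorProduct IsLocalRing

namespace Groth.Agent.Lib.WCFinH3

section loc

variable (A B : Type u) [CommRing A] [CommRing B] [Algebra A B] [Module.Finite A B]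

theorem disjoint_algebraMapSubmonoid (m : Ideal A) [m.IsPrime] (n : Ideal B) [n.IsPrime]
    (hnm : n.comap (algebraMap A B) = m) :
    Disjoint (Algebra.algebraMapSubmonoid B m.primeCompl : Set B) (n : Set B) := by
  rw [Set.disjoint_left]
  rintro _ ⟨a, ha, rfl⟩ hn
  apply ha
  rw [← hnm]
  exact hn

/-- The prime of `B_m` generated by a prime `n` of `B` over `m` lies over the maximal ideal. -/
theorem liesOver_map (m : Ideal A) [m.IsPrime] (n : Ideal B) [n.IsPrime]
    (hnm : n.comap (algebraMap A B) = m)
    (q : Ideal (Localization (Algebra.algebraMapSubmonoid B m.primeCompl)))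
    (hcomap : q.comap (algebraMap B (Localization (Algebra.algebraMapSubmonoid B m.primeCompl)))
      = n) :
    q.LiesOver (maximalIdeal (Localization.AtPrime m)) := by
  constructor
  have h1 : (q.under (Localization.AtPrime m)).comap (algebraMap A (Localization.AtPrime m)) =
      m := by
    ext a
    rw [Ideal.mem_comap, Ideal.under_def, Ideal.mem_comap, ← IsScalarTower.algebraMap_apply,
      IsScalarTower.algebraMap_apply A B (Localization (Algebra.algebraMapSubmonoid B
        m.primeCompl)), ← Ideal.mem_comap, hcomap, ← hnm, Ideal.mem_comap]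
  have h2 : (maximalIdeal (Localization.AtPrime m)).comap
      (algebraMap A (Localization.AtPrime m)) = m := Localization.AtPrime.comap_maximalIdeal
  have h2' : Ideal.under A (maximalIdeal (Localization.AtPrime m)) = m := h2
  have h1' : Ideal.under A (q.under (Localization.AtPrime m)) = m := h1
  calc maximalIdeal (Localization.AtPrime m)
      = Ideal.map (algebraMap A (Localization.AtPrime m))
          (Ideal.under A (maximalIdeal (Localization.AtPrime m))) :=
        (IsLocalization.map_comap m.primeCompl (Localization.AtPrime m) _).symm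
    _ = Ideal.map (algebraMap A (Localization.AtPrime m)) m := by rw [h2']
    _ = Ideal.map (algebraMap A (Localization.AtPrime m))
          (Ideal.under A (q.under (Localization.AtPrime m))) := by rw [h1']
    _ = q.under (Localization.AtPrime m) :=
        IsLocalization.map_comap m.primeCompl (Localization.AtPrime m) _

/-- The localisation of a finite algebra at a prime `n` over `m`, with `A_m` strictly henselian,
is strictly henselian. -/
theorem strictlyHenselian_localization (m : Ideal A) [m.IsPrime] (n : Ideal B) [n.IsPrime]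
    (hnm : n.comap (algebraMap A B) = m)
    (hm : EtCoh.IsStrictlyHenselianLocalRing (Localization.AtPrime m)) :
    EtCoh.IsStrictlyHenselianLocalRing (Localization.AtPrime n) := by
  obtain ⟨hH, hSC⟩ := hm
  haveI := hH
  haveI := hSC
  have hdisj := disjoint_algebraMapSubmonoid A B m n hnm
  -- the prime of `B_m` corresponding to `n`
  obtain ⟨q, hqdef⟩ : ∃ q : Ideal (Localization (Algebra.algebraMapSubmonoid B
      m.primeCompl)), q = Ideal.map (algebraMap B _) n := ⟨_, rfl⟩
  haveI hq : q.IsPrime := hqdef ▸ IsLocalization.isPrime_of_isPrime_disjoint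
    (Algebra.algebraMapSubmonoid B m.primeCompl) _ n inferInstance hdisj
  have hcomap : q.comap (algebraMap B (Localization (Algebra.algebraMapSubmonoid B
      m.primeCompl))) = n := by
    rw [hqdef]
    exact IsLocalization.under_map_of_isPrime_disjoint
      (Algebra.algebraMapSubmonoid B m.primeCompl) _ inferInstance hdisj
  haveI hlies : q.LiesOver (maximalIdeal (Localization.AtPrime m)) :=
    liesOver_map A B m n hnm q hcomap
  haveI hfin : Module.Finite (Localization.AtPrime m) (Localization.AtPrime q) :=
    Groth.Agent.Lib.HenselFiniteH3.finite_localization _ _ q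
  haveI hHT : HenselianLocalRing (Localization.AtPrime q) :=
    Groth.Agent.S0505.result (Localization.AtPrime m) _
  haveI : Algebra.IsIntegral (Localization.AtPrime m) (Localization.AtPrime q) :=
    Algebra.IsIntegral.of_finite _ _
  haveI := Groth.Agent.Lib.HensIntDom.isLocalHom_of_integral
    (Localization.AtPrime m) (Localization.AtPrime q)
  have halg := Groth.Agent.Lib.HensIntDom.isAlgebraic_residueField
    (Localization.AtPrime m) (Localization.AtPrime q)
  have hSCT : IsSepClosed (ResidueField (Localization.AtPrime q)) := by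
    letI := (IsLocalRing.ResidueField.map (algebraMap
      (Localization.AtPrime m) (Localization.AtPrime q))).toAlgebra
    haveI := halg
    exact Algebra.IsAlgebraic.isSepClosed (F := ResidueField (Localization.AtPrime m))
  have hT : EtCoh.IsStrictlyHenselianLocalRing (Localization.AtPrime q) := ⟨hHT, hSCT⟩
  haveI hloc : IsLocalization.AtPrime (Localization.AtPrime q) n := by
    have := IsLocalization.isLocalization_isLocalization_atPrime_isLocalization
      (Algebra.algebraMapSubmonoid B m.primeCompl) (Localization.AtPrime q) q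
    convert this using 2
    all_goals exact hcomap.symm
  let e : Localization.AtPrime n ≃ₐ[B] Localization.AtPrime q :=
    IsLocalization.algEquiv n.primeCompl _ _
  exact Groth.Agent.Lib.StrictHensEquivH8.isStrictlyHenselian_of_ringEquiv e.symm.toRingEquiv hT

end loc

section wlocal

theorem eq_of_isLocalRing_quotient {S : Type*} [CommRing S] (Q N₁ N₂ : Ideal S)
    [IsLocalRing (S ⧸ Q)] (h1 : Q ≤ N₁) (h2 : Q ≤ N₂) (hN₁ : N₁.IsMaximal) (hN₂ : N₂.IsMaximal) :
    N₁ = N₂ := by
  have hsurj : Function.Surjective (Ideal.Quotient.mk Q) := Ideal.Quotient.mk_surjective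
  have key : ∀ N : Ideal S, Q ≤ N → N.IsMaximal →
      N = Ideal.comap (Ideal.Quotient.mk Q) (maximalIdeal (S ⧸ Q)) := by
    intro N hQN hN
    have hcm : Ideal.comap (Ideal.Quotient.mk Q) (Ideal.map (Ideal.Quotient.mk Q) N) = N := by
      rw [Ideal.comap_map_of_surjective _ hsurj, ← RingHom.ker_eq_comap_bot, Ideal.mk_ker,
        sup_eq_left]
      exact hQN
    have hmax : (Ideal.map (Ideal.Quotient.mk Q) N).IsMaximal := by
      rcases Ideal.map_eq_top_or_isMaximal_of_surjective _ hsurj hN with h | h
      · exfalso
        rw [h, Ideal.comap_top] at hcm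
        exact hN.ne_top hcm.symm
      · exact h
    rw [← IsLocalRing.eq_maximalIdeal hmax, hcm]
  rw [key N₁ h1 hN₁, key N₂ h2 hN₂]

variable (A B : Type u) [CommRing A] [CommRing B] [Algebra A B] [Module.Finite A B]

/-- Two maximal ideals of a finite `A`-algebra `B` over the same prime `m` of `A` with `A_m`
henselian, containing a common prime, coincide. -/
theorem eq_of_le_of_henselian (m : Ideal A) [m.IsPrime]
    [HenselianLocalRing (Localization.AtPrime m)] (q n₁ n₂ : Ideal B) [q.IsPrime]
    [n₁.IsPrime] [n₂.IsPrime] (h1 : q ≤ n₁) (h2 : q ≤ n₂)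
    (hn₁ : n₁.comap (algebraMap A B) = m) (hn₂ : n₂.comap (algebraMap A B) = m)
    (hm : m.IsMaximal) : n₁ = n₂ := by
  have hd1 := disjoint_algebraMapSubmonoid A B m n₁ hn₁
  have hd2 := disjoint_algebraMapSubmonoid A B m n₂ hn₂
  have hdq : Disjoint (Algebra.algebraMapSubmonoid B m.primeCompl : Set B) (q : Set B) :=
    Set.disjoint_of_subset_right h1 hd1
  obtain ⟨Q, hQdef⟩ : ∃ Q : Ideal (Localization (Algebra.algebraMapSubmonoid B
      m.primeCompl)), Q = Ideal.map (algebraMap B _) q := ⟨_, rfl⟩
  obtain ⟨N₁, hN₁def⟩ : ∃ N₁ : Ideal (Localization (Algebra.algebraMapSubmonoid B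
      m.primeCompl)), N₁ = Ideal.map (algebraMap B _) n₁ := ⟨_, rfl⟩
  obtain ⟨N₂, hN₂def⟩ : ∃ N₂ : Ideal (Localization (Algebra.algebraMapSubmonoid B
      m.primeCompl)), N₂ = Ideal.map (algebraMap B _) n₂ := ⟨_, rfl⟩
  haveI hQ : Q.IsPrime := hQdef ▸ IsLocalization.isPrime_of_isPrime_disjoint
    (Algebra.algebraMapSubmonoid B m.primeCompl) _ q inferInstance hdq
  haveI hN₁ : N₁.IsPrime := hN₁def ▸ IsLocalization.isPrime_of_isPrime_disjoint
    (Algebra.algebraMapSubmonoid B m.primeCompl) _ n₁ inferInstance hd1
  haveI hN₂ : N₂.IsPrime := hN₂def ▸ IsLocalization.isPrime_of_isPrime_disjoint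
    (Algebra.algebraMapSubmonoid B m.primeCompl) _ n₂ inferInstance hd2
  have hc1 : N₁.comap (algebraMap B (Localization (Algebra.algebraMapSubmonoid B
      m.primeCompl))) = n₁ := by
    rw [hN₁def]
    exact IsLocalization.under_map_of_isPrime_disjoint
      (Algebra.algebraMapSubmonoid B m.primeCompl) _ inferInstance hd1
  have hc2 : N₂.comap (algebraMap B (Localization (Algebra.algebraMapSubmonoid B
      m.primeCompl))) = n₂ := by
    rw [hN₂def]
    exact IsLocalization.under_map_of_isPrime_disjoint
      (Algebra.algebraMapSubmonoid B m.primeCompl) _ inferInstance hd2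
  haveI : IsLocalRing ((Localization (Algebra.algebraMapSubmonoid B m.primeCompl)) ⧸ Q) :=
    Groth.Agent.Lib.HensIntDom.isLocalRing_of_finite_domain (Localization.AtPrime m) _
  haveI : Algebra.IsIntegral (Localization.AtPrime m)
      (Localization (Algebra.algebraMapSubmonoid B m.primeCompl)) :=
    Algebra.IsIntegral.of_finite _ _
  have hmax : ∀ (N : Ideal (Localization (Algebra.algebraMapSubmonoid B m.primeCompl)))
      [N.IsPrime] (n : Ideal B) [n.IsPrime], n.comap (algebraMap A B) = m →
      N.comap (algebraMap B _) = n → N.IsMaximal := by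
    intro N _ n _ hnm hNn
    haveI := liesOver_map A B m n hnm N hNn
    apply Ideal.isMaximal_of_isIntegral_of_isMaximal_comap (R := Localization.AtPrime m)
    have : N.comap (algebraMap (Localization.AtPrime m) _) =
        maximalIdeal (Localization.AtPrime m) :=
      (Ideal.over_def N (maximalIdeal (Localization.AtPrime m))).symm
    rw [this]
    exact IsLocalRing.maximalIdeal.isMaximal _
  have hN12 : N₁ = N₂ := by
    apply eq_of_isLocalRing_quotient Q N₁ N₂
    · rw [hQdef, hN₁def]; exact Ideal.map_mono h1
    · rw [hQdef, hN₂def]; exact Ideal.map_mono h2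
    · exact hmax N₁ n₁ hn₁ hc1
    · exact hmax N₂ n₂ hn₂ hc2
  rw [← hc1, ← hc2, hN12]

end wlocal

section wlocal2

variable (A B : Type u) [CommRing A] [CommRing B] [Algebra A B] [Module.Finite A B]

theorem isClosed_singleton_iff_comap (y : PrimeSpectrum B) :
    IsClosed ({y} : Set (PrimeSpectrum B)) ↔
      IsClosed ({PrimeSpectrum.comap (algebraMap A B) y} : Set (PrimeSpectrum A)) := by
  haveI : Algebra.IsIntegral A B := Algebra.IsIntegral.of_finite A B
  rw [PrimeSpectrum.isClosed_singleton_iff_isMaximal, PrimeSpectrum.isClosed_singleton_iff_isMaximal]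
  constructor
  · intro h
    haveI := h
    exact Ideal.isMaximal_comap_of_isIntegral_of_isMaximal (R := A) y.asIdeal
  · intro h
    haveI := y.2
    exact Ideal.isMaximal_of_isIntegral_of_isMaximal_comap (R := A) y.asIdeal h

theorem closedPoints_eq_preimage :
    ProEtW.closedPoints (PrimeSpectrum B) =
      PrimeSpectrum.comap (algebraMap A B) ⁻¹' ProEtW.closedPoints (PrimeSpectrum A) := by
  ext y
  exact isClosed_singleton_iff_comap A B y

/-- A finite algebra over a w-local ring with henselian local rings at maximal ideals is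
w-local. -/
theorem isWLocal_of_finite (hA : ProEtW.IsWLocal (PrimeSpectrum A))
    (hH : ∀ (m : Ideal A) [m.IsMaximal], HenselianLocalRing (Localization.AtPrime m)) :
    ProEtW.IsWLocal (PrimeSpectrum B) := by
  refine ⟨inferInstance, ?_, ?_⟩
  · have : {y : PrimeSpectrum B | IsClosed ({y} : Set (PrimeSpectrum B))} =
        PrimeSpectrum.comap (algebraMap A B) ⁻¹'
          {x | IsClosed ({x} : Set (PrimeSpectrum A))} := closedPoints_eq_preimage A B
    rw [this]
    exact hA.2.1.preimage (PrimeSpectrum.continuous_comap _)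
  · intro y
    obtain ⟨n, hn, hyn⟩ := Ideal.exists_le_maximal y.asIdeal y.2.ne_top
    haveI hnp : n.IsPrime := hn.isPrime
    refine ⟨⟨n, hnp⟩, ⟨(PrimeSpectrum.isClosed_singleton_iff_isMaximal _).2 hn,
      (PrimeSpectrum.le_iff_specializes _ _).1 hyn⟩, ?_⟩
    rintro z ⟨hz1, hz2⟩
    obtain ⟨x₀, -, hx₀⟩ := hA.2.2 (PrimeSpectrum.comap (algebraMap A B) y)
    have e1 : PrimeSpectrum.comap (algebraMap A B) z = x₀ :=
      hx₀ _ ⟨(isClosed_singleton_iff_comap A B z).1 hz1,
        hz2.map (PrimeSpectrum.continuous_comap _)⟩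
    have e2 : PrimeSpectrum.comap (algebraMap A B) ⟨n, hnp⟩ = x₀ :=
      hx₀ _ ⟨(isClosed_singleton_iff_comap A B ⟨n, hnp⟩).1
        ((PrimeSpectrum.isClosed_singleton_iff_isMaximal _).2 hn),
        ((PrimeSpectrum.le_iff_specializes y ⟨n, hnp⟩).1 hyn).map
          (PrimeSpectrum.continuous_comap _)⟩
    have hx₀max : x₀.asIdeal.IsMaximal := by
      rw [← e1]
      exact (PrimeSpectrum.isClosed_singleton_iff_isMaximal _).1
        ((isClosed_singleton_iff_comap A B z).1 hz1)
    haveI := hH x₀.asIdeal
    haveI := y.2
    haveI := z.2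
    apply PrimeSpectrum.ext
    exact eq_of_le_of_henselian A B x₀.asIdeal y.asIdeal z.asIdeal n
      ((PrimeSpectrum.le_iff_specializes y z).2 hz2) hyn
      (congrArg PrimeSpectrum.asIdeal e1) (congrArg PrimeSpectrum.asIdeal e2) hx₀max

end wlocal2

end Groth.Agent.Lib.WCFinH3
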