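import Mathlib
import Groth.Prelude.Def_ProEtW
import Groth.Agent.Lib.ProfLoc4_helper3
import Groth.Agent.Lib.IndEtale4_helper3
import Groth.Agent.Lib.SpecLim_lead

/-!
# The w-localisation of a ring (helper3)

`A_w := 𝕊⁻¹ LocallyConstant (Spec A)_cons A`, where `𝕊` is the set of functions `φ` with
`φ(p) ∉ p` for all `p`.
-/

set_option autoImplicit false
set_option linter.all false
set_option maxHeartbeats 1600000

universe u

open CategoryTheory Limits Topology

namespace Groth.Agent.Lib.ProfLocH3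

section flat

variable {A : Type u} [CommRing A] {T : Type u} [TopologicalSpace T] [CompactSpace T]
  (Sm : T → Submonoid A)

theorem exists_common_stage {l : ℕ} (x : Fin l → BB Sm) :
    ∃ (j : Stage Sm) (y : Fin l → Stage.SR j), ∀ k, Stage.toB j (y k) = x k := by
  classical
  choose jk yk hyk using fun k => surj_stage Sm (x k)
  obtain ⟨j, hj⟩ := Finset.exists_le (Finset.univ.image jk)
  have hle : ∀ k, jk k ≤ j := fun k => hj _ (Finset.mem_image_of_mem _ (Finset.mem_univ k))
  refine ⟨j, fun k => Stage.tr (hle k) (yk k), fun k => ?_⟩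
  rw [← hyk k, ← Stage.toB_tr (hle k)]
  rfl

theorem flat_SR (j : Stage Sm) : Module.Flat A (Stage.SR j) := by
  haveI : Finite j.Q := inferInstance
  haveI : Module.Flat A (j.Q → A) := inferInstance
  exact Module.Flat.trans A (j.Q → A) (Stage.SR j)

theorem flat_BB : Module.Flat A (BB Sm) := by
  apply Groth.Agent.Lib.IndEtaleH3.flat_of_forall_exists_lift.{u}
  intro l s x hsx
  obtain ⟨j, y, hy⟩ := exists_common_stage Sm x
  have h0 : Stage.toB j (∑ k, s k • y k) = 0 := by
    rw [map_sum, ← hsx]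
    exact Finset.sum_congr rfl fun k _ => by rw [map_smul, hy]
  obtain ⟨j', hle, hz⟩ := inj_stage Sm j _ h0
  haveI := flat_SR Sm j'
  refine ⟨A, Stage.SR j', inferInstance, inferInstance, inferInstance, inferInstance, RingHom.id A,
    (Stage.toB j').toLinearMap.toAddMonoidHom, fun a m => map_smul (Stage.toB j') a m, s,
    fun k => Stage.tr hle (y k), fun _ => rfl, fun k => ?_, ?_⟩
  · show Stage.toB j' (Stage.tr hle (y k)) = x k
    rw [← hy k, ← Stage.toB_tr hle]
    rfl
  · rw [← hz, map_sum]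
    exact Finset.sum_congr rfl fun k _ => by rw [map_smul]

end flat

section cons

variable {X : Type u} [TopologicalSpace X]

instance totallyDisconnectedSpace_wct [T0Space X] [PrespectralSpace X] :
    TotallyDisconnectedSpace (WithConstructibleTopology X) := by
  have hts : TotallySeparatedSpace (WithConstructibleTopology X) := by
    rw [totallySeparatedSpace_iff_exists_isClopen]
    intro x y hxy
    have hxy' : WithTopology.ofTopology x ≠ WithTopology.ofTopology y := fun h =>
      hxy (WithTopology.ofTopology_injective _ h)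
    obtain ⟨U, ⟨hUc, hUo⟩, hxU, hyU⟩ :=
      Groth.Agent.Lib.SpecSp_lead.exists_isClopen_constructibleTopology hxy'
    refine ⟨WithTopology.ofTopology ⁻¹' U, ⟨?_, ?_⟩, hxU, hyU⟩
    · rw [WithTopology.isClosed_iff]; exact hUc
    · rw [WithTopology.isOpen_iff]; exact hUo
  infer_instance

end cons

section wloc

variable (A : Type u) [CommRing A]

/-- `Spec A` with the constructible topology. -/
abbrev TT : Type u := WithConstructibleTopology (PrimeSpectrum A)

instance : T2Space (TT A) := Groth.Agent.Lib.SpecLim_lead.t2Space_withConstructibleTopology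

/-- underlying point -/
def ofT (t : TT A) : PrimeSpectrum A := WithTopology.ofTopology t

/-- the point of the constructible space -/
def toT (x : PrimeSpectrum A) : TT A := WithTopology.toTopology _ x

@[simp] theorem ofT_toT (x : PrimeSpectrum A) : ofT A (toT A x) = x := rfl

theorem ofT_injective : Function.Injective (ofT A) := WithTopology.ofTopology_injective _

theorem continuous_ofT : Continuous (ofT A) :=
  Groth.Agent.Lib.SpecLim_lead.continuous_ofTopology_constructible

theorem isClopen_preimage_basicOpen (f : A) :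
    IsClopen (ofT A ⁻¹' (PrimeSpectrum.basicOpen f : Set (PrimeSpectrum A))) := by
  refine ⟨?_, (PrimeSpectrum.basicOpen f).isOpen.preimage (continuous_ofT A)⟩
  rw [WithTopology.isClosed_iff]
  exact Groth.Agent.Lib.SpecSp_lead.isClosed_constructibleTopology_of_isCompact_isOpen
    (PrimeSpectrum.isCompact_basicOpen f) (PrimeSpectrum.basicOpen f).isOpen

/-- The family of multiplicative sets `A ∖ p`. -/
def SmW (t : TT A) : Submonoid A := (ofT A t).asIdeal.primeCompl

theorem mem_SmW (t : TT A) (f : A) : f ∈ SmW A t ↔ f ∉ (ofT A t).asIdeal := Iff.rfl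

theorem isOpenFamily_SmW : IsOpenFamily (SmW A) := by
  intro t f hf
  exact ⟨ofT A ⁻¹' (PrimeSpectrum.basicOpen f : Set (PrimeSpectrum A)),
    isClopen_preimage_basicOpen A f, hf, fun t' ht' => ht'⟩

/-- The w-localisation. -/
abbrev Aw : Type u := BB (SmW A)

/-- The embedding `Spec A_w → Spec A × (Spec A)_cons`. -/
noncomputable def eW : PrimeSpectrum (Aw A) → PrimeSpectrum A × TT A := specMap (SmW A)

theorem isEmbedding_eW : IsEmbedding (eW A) := isEmbedding_specMap (SmW A)

theorem eW_fst (q : PrimeSpectrum (Aw A)) :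
    (eW A q).1 = PrimeSpectrum.comap (algebraMap A (Aw A)) q := specMap_fst (SmW A) q

theorem mem_range_eW (p : PrimeSpectrum A × TT A) :
    p ∈ Set.range (eW A) ↔ p.1 ≤ ofT A p.2 := by
  have h := range_specMap (SmW A) (isOpenFamily_SmW A)
  have h2 : p ∈ Set.range (eW A) ↔ Disjoint (SmW A p.2 : Set A) p.1.asIdeal := by
    show p ∈ Set.range (specMap (SmW A)) ↔ _
    rw [h]
    rfl
  rw [h2, Set.disjoint_left]
  constructor
  · intro H
    show p.1.asIdeal ≤ (ofT A p.2).asIdeal
    intro a ha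
    by_contra hna
    exact H (show a ∈ SmW A p.2 from hna) ha
  · intro H a ha ha'
    exact ha (H ha')

theorem le_of_eW (q : PrimeSpectrum (Aw A)) : (eW A q).1 ≤ ofT A (eW A q).2 :=
  (mem_range_eW A _).1 ⟨q, rfl⟩

theorem specializes_iff_eW (q q' : PrimeSpectrum (Aw A)) :
    q ⤳ q' ↔ (eW A q).1 ≤ (eW A q').1 ∧ (eW A q).2 = (eW A q').2 := by
  rw [← (isEmbedding_eW A).isInducing.specializes_iff]
  obtain ⟨p, hp⟩ : ∃ p, p = eW A q := ⟨_, rfl⟩
  obtain ⟨p', hp'⟩ : ∃ p', p' = eW A q' := ⟨_, rfl⟩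
  rw [← hp, ← hp']
  obtain ⟨x, t⟩ := p
  obtain ⟨x', t'⟩ := p'
  rw [specializes_prod]
  show x ⤳ x' ∧ t ⤳ t' ↔ x ≤ x' ∧ t = t'
  rw [specializes_iff_eq (x := t), PrimeSpectrum.le_iff_specializes]

theorem isClosed_singleton_iff_eW (q : PrimeSpectrum (Aw A)) :
    IsClosed ({q} : Set (PrimeSpectrum (Aw A))) ↔ (eW A q).1 = ofT A (eW A q).2 := by
  constructor
  · intro hq
    obtain ⟨q', hq'⟩ : (ofT A (eW A q).2, (eW A q).2) ∈ Set.range (eW A) :=
      (mem_range_eW A _).2 le_rfl
    have hs : q ⤳ q' := by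
      rw [specializes_iff_eW, hq']
      exact ⟨le_of_eW A q, rfl⟩
    have := hs.mem_closed hq rfl
    rw [Set.mem_singleton_iff] at this
    rw [this] at hq'
    exact (congrArg Prod.fst hq')
  · intro hq
    rw [← closure_subset_iff_isClosed]
    intro q' hq'
    rw [← specializes_iff_mem_closure, specializes_iff_eW] at hq'
    rw [Set.mem_singleton_iff]
    apply (isEmbedding_eW A).injective
    have h1 := le_of_eW A q'
    rw [← hq'.2, ← hq] at h1
    exact Prod.ext (le_antisymm h1 hq'.1) hq'.2.symm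

theorem isClosed_closedPoints_Aw :
    IsClosed {q : PrimeSpectrum (Aw A) | IsClosed ({q} : Set (PrimeSpectrum (Aw A)))} := by
  rw [← isOpen_compl_iff, isOpen_iff_forall_mem_open]
  intro q hq
  have hq1 : ¬ (eW A q).1 = ofT A (eW A q).2 := fun h => hq ((isClosed_singleton_iff_eW A q).2 h)
  have hle := le_of_eW A q
  obtain ⟨f, hf1, hf2⟩ : ∃ f, f ∈ (ofT A (eW A q).2).asIdeal ∧ f ∉ (eW A q).1.asIdeal := by
    by_contra hcon
    push Not at hcon
    exact hq1 (le_antisymm hle (fun a ha => hcon a ha))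
  refine ⟨eW A ⁻¹' ((PrimeSpectrum.basicOpen f : Set (PrimeSpectrum A)) ×ˢ
      (ofT A ⁻¹' (PrimeSpectrum.basicOpen f : Set (PrimeSpectrum A)))ᶜ), ?_, ?_, ?_⟩
  · intro q' hq' hcl
    have h := (isClosed_singleton_iff_eW A q').1 hcl
    obtain ⟨h1, h2⟩ := hq'
    apply h2
    show ofT A (eW A q').2 ∈ PrimeSpectrum.basicOpen f
    rw [← h]
    exact h1
  · exact ((PrimeSpectrum.basicOpen f).isOpen.prod
      (isClopen_preimage_basicOpen A f).compl.isOpen).preimage (isEmbedding_eW A).continuous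
  · refine ⟨hf2, ?_⟩
    intro (h : f ∉ (ofT A (eW A q).2).asIdeal)
    exact h hf1

theorem existsUnique_closed_specialization (q : PrimeSpectrum (Aw A)) :
    ∃! q' : PrimeSpectrum (Aw A), IsClosed ({q'} : Set (PrimeSpectrum (Aw A))) ∧ q ⤳ q' := by
  obtain ⟨q', hq'⟩ : (ofT A (eW A q).2, (eW A q).2) ∈ Set.range (eW A) :=
    (mem_range_eW A _).2 le_rfl
  refine ⟨q', ⟨?_, ?_⟩, ?_⟩
  · rw [isClosed_singleton_iff_eW, hq']
  · rw [specializes_iff_eW, hq']
    exact ⟨le_of_eW A q, rfl⟩
  · rintro q'' ⟨hc, hs⟩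
    rw [isClosed_singleton_iff_eW] at hc
    rw [specializes_iff_eW] at hs
    apply (isEmbedding_eW A).injective
    rw [hq']
    exact Prod.ext (by rw [hc, ← hs.2]) hs.2.symm

theorem isWLocal_Aw : ProEtW.IsWLocal (PrimeSpectrum (Aw A)) :=
  ⟨inferInstance, isClosed_closedPoints_Aw A, existsUnique_closed_specialization A⟩

theorem bijOn_closedPoints_Aw :
    Set.BijOn (PrimeSpectrum.comap (algebraMap A (Aw A))) (ProEtW.closedPoints (PrimeSpectrum (Aw A)))
      Set.univ := by
  refine ⟨fun _ _ => Set.mem_univ _, ?_, ?_⟩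
  · intro q1 h1 q2 h2 h
    rw [← eW_fst, ← eW_fst] at h
    have e1 := (isClosed_singleton_iff_eW A q1).1 h1
    have e2 := (isClosed_singleton_iff_eW A q2).1 h2
    apply (isEmbedding_eW A).injective
    refine Prod.ext h (ofT_injective A ?_)
    rw [← e1, ← e2, h]
  · intro x _
    obtain ⟨q, hq⟩ : (x, toT A x) ∈ Set.range (eW A) := (mem_range_eW A _).2 le_rfl
    refine ⟨q, ?_, ?_⟩
    · show IsClosed ({q} : Set (PrimeSpectrum (Aw A)))
      rw [isClosed_singleton_iff_eW, hq]
      rfl
    · rw [← eW_fst, hq]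

theorem faithfullyFlat_Aw : Module.FaithfullyFlat A (Aw A) := by
  haveI : Module.Flat A (Aw A) := flat_BB (SmW A)
  apply Module.FaithfullyFlat.of_comap_surjective
  intro x
  obtain ⟨q, -, hq⟩ := (bijOn_closedPoints_Aw A).surjOn (Set.mem_univ x)
  exact ⟨q, hq⟩

theorem main0694 :
    ∃ (Aw : Type u) (_ : CommRing Aw) (_ : Algebra A Aw),
      Module.FaithfullyFlat A Aw ∧ EtPBC.IsIndZariski A Aw ∧ ProEtW.IsWLocal (PrimeSpectrum Aw) ∧
      Set.BijOn (PrimeSpectrum.comap (algebraMap A Aw)) (ProEtW.closedPoints (PrimeSpectrum Aw))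
        Set.univ :=
  ⟨Aw A, inferInstance, inferInstance, faithfullyFlat_Aw A, isIndZariski_BB (SmW A),
    isWLocal_Aw A, bijOn_closedPoints_Aw A⟩

end wloc

end Groth.Agent.Lib.ProfLocH3
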