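import Mathlib
import Groth.Prelude.Def_ProEtW
import Groth.Agent.Lib.WLocz1_helper3

/-!
# w-local rings from a profinite space over `Spec A` (helper3)

For a profinite space `T` and a map `τ : T → Spec A` such that preimages of basic opens are clopen,
`B := 𝕊⁻¹ LocallyConstant T A` (with `𝕊 = {φ | φ t ∉ τ t}`) has w-local spectrum
`{(x, t) | x ≤ τ t}` whose space of closed points (and of connected components) is `T`.
-/

set_option autoImplicit false
set_option linter.all false
set_option maxHeartbeats 1600000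

universe u

open CategoryTheory Limits Topology

namespace Groth.Agent.Lib.ProfLocH3

section gen

variable {A : Type u} [CommRing A] {T : Type u} [TopologicalSpace T] [CompactSpace T] [T2Space T]
  [TotallyDisconnectedSpace T] (τ : T → PrimeSpectrum A)

/-- The family of multiplicative sets `A ∖ τ t`. -/
def SmG (t : T) : Submonoid A := (τ t).asIdeal.primeCompl

theorem mem_SmG (t : T) (f : A) : f ∈ SmG τ t ↔ f ∉ (τ t).asIdeal := Iff.rfl

/-- The ring. -/
abbrev BG : Type u := BB (SmG τ)

/-- The embedding `Spec B → Spec A × T`. -/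
noncomputable def eG : PrimeSpectrum (BG τ) → PrimeSpectrum A × T := specMap (SmG τ)

theorem isEmbedding_eG : IsEmbedding (eG τ) := isEmbedding_specMap (SmG τ)

theorem eG_fst (q : PrimeSpectrum (BG τ)) :
    (eG τ q).1 = PrimeSpectrum.comap (algebraMap A (BG τ)) q := specMap_fst (SmG τ) q

variable (hτ : ∀ f : A, IsClopen (τ ⁻¹' (PrimeSpectrum.basicOpen f : Set (PrimeSpectrum A))))

include hτ

theorem isOpenFamily_SmG : IsOpenFamily (SmG τ) := by
  intro t f hf
  exact ⟨τ ⁻¹' (PrimeSpectrum.basicOpen f : Set (PrimeSpectrum A)), hτ f, hf, fun t' ht' => ht'⟩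

theorem mem_range_eG (p : PrimeSpectrum A × T) :
    p ∈ Set.range (eG τ) ↔ p.1 ≤ τ p.2 := by
  have h := range_specMap (SmG τ) (isOpenFamily_SmG τ hτ)
  have h2 : p ∈ Set.range (eG τ) ↔ Disjoint (SmG τ p.2 : Set A) p.1.asIdeal := by
    show p ∈ Set.range (specMap (SmG τ)) ↔ _
    rw [h]
    rfl
  rw [h2, Set.disjoint_left]
  constructor
  · intro H
    show p.1.asIdeal ≤ (τ p.2).asIdeal
    intro a ha
    by_contra hna
    exact H (show a ∈ SmG τ p.2 from hna) ha
  · intro H a ha ha'
    exact ha (H ha')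

theorem le_of_eG (q : PrimeSpectrum (BG τ)) : (eG τ q).1 ≤ τ (eG τ q).2 :=
  (mem_range_eG τ hτ _).1 ⟨q, rfl⟩

omit hτ in
theorem specializes_iff_eG (q q' : PrimeSpectrum (BG τ)) :
    q ⤳ q' ↔ (eG τ q).1 ≤ (eG τ q').1 ∧ (eG τ q).2 = (eG τ q').2 := by
  rw [← (isEmbedding_eG τ).isInducing.specializes_iff]
  obtain ⟨p, hp⟩ : ∃ p, p = eG τ q := ⟨_, rfl⟩
  obtain ⟨p', hp'⟩ : ∃ p', p' = eG τ q' := ⟨_, rfl⟩
  rw [← hp, ← hp']
  obtain ⟨x, t⟩ := p
  obtain ⟨x', t'⟩ := p'
  rw [specializes_prod]
  show x ⤳ x' ∧ t ⤳ t' ↔ x ≤ x' ∧ t = t'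
  rw [specializes_iff_eq (x := t), PrimeSpectrum.le_iff_specializes]

/-- The closed point over `t`. -/
theorem exists_cpG (t : T) : ∃ q : PrimeSpectrum (BG τ), eG τ q = (τ t, t) :=
  (mem_range_eG τ hτ (τ t, t)).2 le_rfl

theorem isClosed_singleton_iff_eG (q : PrimeSpectrum (BG τ)) :
    IsClosed ({q} : Set (PrimeSpectrum (BG τ))) ↔ (eG τ q).1 = τ (eG τ q).2 := by
  constructor
  · intro hq
    obtain ⟨q', hq'⟩ := exists_cpG τ hτ (eG τ q).2
    have hs : q ⤳ q' := by
      rw [specializes_iff_eG, hq']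
      exact ⟨le_of_eG τ hτ q, rfl⟩
    have := hs.mem_closed hq rfl
    rw [Set.mem_singleton_iff] at this
    rw [this] at hq'
    exact (congrArg Prod.fst hq')
  · intro hq
    rw [← closure_subset_iff_isClosed]
    intro q' hq'
    rw [← specializes_iff_mem_closure, specializes_iff_eG] at hq'
    rw [Set.mem_singleton_iff]
    apply (isEmbedding_eG τ).injective
    have h1 := le_of_eG τ hτ q'
    rw [← hq'.2, ← hq] at h1
    exact Prod.ext (le_antisymm h1 hq'.1) hq'.2.symm

theorem isClosed_closedPoints_BG :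
    IsClosed {q : PrimeSpectrum (BG τ) | IsClosed ({q} : Set (PrimeSpectrum (BG τ)))} := by
  rw [← isOpen_compl_iff, isOpen_iff_forall_mem_open]
  intro q hq
  have hq1 : ¬ (eG τ q).1 = τ (eG τ q).2 := fun h => hq ((isClosed_singleton_iff_eG τ hτ q).2 h)
  have hle := le_of_eG τ hτ q
  obtain ⟨f, hf1, hf2⟩ : ∃ f, f ∈ (τ (eG τ q).2).asIdeal ∧ f ∉ (eG τ q).1.asIdeal := by
    by_contra hcon
    push Not at hcon
    exact hq1 (le_antisymm hle (fun a ha => hcon a ha))
  refine ⟨eG τ ⁻¹' ((PrimeSpectrum.basicOpen f : Set (PrimeSpectrum A)) ×ˢ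
      (τ ⁻¹' (PrimeSpectrum.basicOpen f : Set (PrimeSpectrum A)))ᶜ), ?_, ?_, ?_⟩
  · intro q' hq' hcl
    have h := (isClosed_singleton_iff_eG τ hτ q').1 hcl
    obtain ⟨h1, h2⟩ := hq'
    apply h2
    show τ (eG τ q').2 ∈ PrimeSpectrum.basicOpen f
    rw [← h]
    exact h1
  · exact ((PrimeSpectrum.basicOpen f).isOpen.prod
      (hτ f).compl.isOpen).preimage (isEmbedding_eG τ).continuous
  · refine ⟨hf2, ?_⟩
    intro (h : f ∉ (τ (eG τ q).2).asIdeal)
    exact h hf1

theorem existsUnique_closed_specialization_BG (q : PrimeSpectrum (BG τ)) :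
    ∃! q' : PrimeSpectrum (BG τ), IsClosed ({q'} : Set (PrimeSpectrum (BG τ))) ∧ q ⤳ q' := by
  obtain ⟨q', hq'⟩ := exists_cpG τ hτ (eG τ q).2
  refine ⟨q', ⟨?_, ?_⟩, ?_⟩
  · rw [isClosed_singleton_iff_eG τ hτ, hq']
  · rw [specializes_iff_eG, hq']
    exact ⟨le_of_eG τ hτ q, rfl⟩
  · rintro q'' ⟨hc, hs⟩
    rw [isClosed_singleton_iff_eG τ hτ] at hc
    rw [specializes_iff_eG] at hs
    apply (isEmbedding_eG τ).injective
    rw [hq']
    exact Prod.ext (by rw [hc, ← hs.2]) hs.2.symm

theorem isWLocal_BG : ProEtW.IsWLocal (PrimeSpectrum (BG τ)) :=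
  ⟨inferInstance, isClosed_closedPoints_BG τ hτ, existsUnique_closed_specialization_BG τ hτ⟩

omit hτ in
theorem continuous_sndG : Continuous (fun q : PrimeSpectrum (BG τ) => (eG τ q).2) :=
  continuous_snd.comp (isEmbedding_eG τ).continuous

theorem sndG_surjective : Function.Surjective (fun q : PrimeSpectrum (BG τ) => (eG τ q).2) := by
  intro t
  obtain ⟨q, hq⟩ := exists_cpG τ hτ t
  exact ⟨q, congrArg Prod.snd hq⟩

omit hτ in
theorem connectedComponent_eq_of_specializes' {X : Type*} [TopologicalSpace X] {x y : X}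
    (h : x ⤳ y) : connectedComponent x = connectedComponent y := by
  have h1 : y ∈ closure ({x} : Set X) := h.mem_closure
  have h2 : closure ({x} : Set X) ⊆ connectedComponent x :=
    (isPreconnected_singleton.closure).subset_connectedComponent (subset_closure rfl)
  exact connectedComponent_eq (h2 h1)

/-- The connected components of `Spec B` are the fibres over `T`. -/
theorem connectedComponent_eq_iff_BG (q q' : PrimeSpectrum (BG τ)) :
    connectedComponent q = connectedComponent q' ↔ (eG τ q).2 = (eG τ q').2 := by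
  constructor
  · intro h
    exact (continuous_sndG τ).image_eq_of_connectedComponent_eq q q' h
  · intro h
    obtain ⟨c, hc⟩ := exists_cpG τ hτ (eG τ q).2
    have h1 : q ⤳ c := by
      rw [specializes_iff_eG, hc]
      exact ⟨le_of_eG τ hτ q, rfl⟩
    have h2 : q' ⤳ c := by
      rw [specializes_iff_eG, hc, h]
      exact ⟨le_of_eG τ hτ q', rfl⟩
    rw [connectedComponent_eq_of_specializes' h1, connectedComponent_eq_of_specializes' h2]

/-- `π₀ (Spec B) ≃ₜ T`. -/
noncomputable def pi0HomeoBG : _root_.ConnectedComponents (PrimeSpectrum (BG τ)) ≃ₜ T :=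
  Continuous.homeoOfEquivCompactToT2
    (f := Equiv.ofBijective (continuous_sndG τ).connectedComponentsLift (by
      constructor
      · intro c c' h
        obtain ⟨q, rfl⟩ := ConnectedComponents.surjective_coe c
        obtain ⟨q', rfl⟩ := ConnectedComponents.surjective_coe c'
        rw [ConnectedComponents.coe_eq_coe]
        exact (connectedComponent_eq_iff_BG τ hτ q q').2 h
      · intro t
        obtain ⟨q, hq⟩ := sndG_surjective τ hτ t
        exact ⟨ConnectedComponents.mk q, hq⟩))
    (continuous_sndG τ).connectedComponentsLift_continuous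

theorem comap_surjective_BG (hsurj : Function.Surjective τ) :
    Function.Surjective (PrimeSpectrum.comap (algebraMap A (BG τ))) := by
  intro x
  obtain ⟨t, rfl⟩ := hsurj x
  obtain ⟨q, hq⟩ := exists_cpG τ hτ t
  refine ⟨q, ?_⟩
  rw [← eG_fst, hq]

theorem faithfullyFlat_BG (hsurj : Function.Surjective τ) : Module.FaithfullyFlat A (BG τ) := by
  haveI : Module.Flat A (BG τ) := flat_BB (SmG τ)
  exact Module.FaithfullyFlat.of_comap_surjective (comap_surjective_BG τ hτ hsurj)

end gen

/-! ### S0696 -/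

section s0696

variable (A : Type u) [CommRing A]

/-- The points of `Spec A` with the discrete topology. -/
structure DiscPt : Type u where
  pt : PrimeSpectrum A

instance : TopologicalSpace (DiscPt A) := ⊥

instance : DiscreteTopology (DiscPt A) := ⟨rfl⟩

/-- The extremally disconnected cover of `(Spec A)_cons`. -/
abbrev TE : Type u := StoneCech (DiscPt A)

instance : ExtremallyDisconnected (TE A) :=
  CompactT2.Projective.extremallyDisconnected StoneCech.projective

/-- `T' → (Spec A)_cons`. -/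
noncomputable def tauE' : TE A → TT A :=
  stoneCechExtend (g := fun d : DiscPt A => toT A d.pt) continuous_of_discreteTopology

theorem continuous_tauE' : Continuous (tauE' A) := continuous_stoneCechExtend _

/-- `T' → Spec A`. -/
noncomputable def tauE : TE A → PrimeSpectrum A := fun t => ofT A (tauE' A t)

theorem tauE_surjective : Function.Surjective (tauE A) := by
  intro x
  refine ⟨stoneCechUnit (⟨x⟩ : DiscPt A), ?_⟩
  show ofT A (stoneCechExtend _ (stoneCechUnit (⟨x⟩ : DiscPt A))) = x
  rw [stoneCechExtend_stoneCechUnit]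
  rfl

theorem isClopen_tauE (f : A) :
    IsClopen (tauE A ⁻¹' (PrimeSpectrum.basicOpen f : Set (PrimeSpectrum A))) :=
  (isClopen_preimage_basicOpen A f).preimage (continuous_tauE' A)

theorem main0696 :
    ∃ (B : Type u) (_ : CommRing B) (_ : Algebra A B),
      Module.FaithfullyFlat A B ∧ EtPBC.IsIndZariski A B ∧ ProEtW.IsWLocal (PrimeSpectrum B) ∧
        ExtremallyDisconnected (_root_.ConnectedComponents (PrimeSpectrum B)) :=
  ⟨BG (tauE A), inferInstance, inferInstance,
    faithfullyFlat_BG (tauE A) (isClopen_tauE A) (tauE_surjective A),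
    isIndZariski_BB (SmG (tauE A)), isWLocal_BG (tauE A) (isClopen_tauE A),
    extremallyDisconnected_of_homeo (X := TE A) (pi0HomeoBG (tauE A) (isClopen_tauE A)).symm⟩

end s0696

end Groth.Agent.Lib.ProfLocH3
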