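import Mathlib
import Groth.Prelude.Def_ProEtW
import Groth.Agent.Lib.ProfLoc4_helper3

/-!
# `A → 𝕊⁻¹ LocallyConstant T A` identifies local rings (helper3)
-/

set_option autoImplicit false
set_option linter.all false
set_option maxHeartbeats 1600000

universe u

open CategoryTheory Limits Topology

namespace Groth.Agent.Lib.ProfLocH3

section idloc

variable {A : Type u} [CommRing A] {T : Type u} [TopologicalSpace T] [CompactSpace T] [T2Space T]
  [TotallyDisconnectedSpace T] (Sm : T → Submonoid A)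

/-- The prime of `LocallyConstant T A` under a prime of `BB Sm`. -/
noncomputable abbrev lcPrime (q : PrimeSpectrum (BB Sm)) : PrimeSpectrum (LocallyConstant T A) :=
  PrimeSpectrum.comap (algebraMap (LocallyConstant T A) (BB Sm)) q

theorem specMap_snd (q : PrimeSpectrum (BB Sm)) : (specMap Sm q).2 = pt (lcPrime Sm q) := rfl

/-- membership in the prime of `LC` is evaluation at the point -/
theorem mem_lcPrime_iff (q : PrimeSpectrum (BB Sm)) (φ : LocallyConstant T A) :
    algebraMap (LocallyConstant T A) (BB Sm) φ ∈ q.asIdeal ↔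
      algebraMap A (BB Sm) (φ (specMap Sm q).2) ∈ q.asIdeal := by
  have h1 := mem_iff_const (lcPrime Sm q) φ
  have h2 : (φ ∈ (lcPrime Sm q).asIdeal) ↔
      algebraMap (LocallyConstant T A) (BB Sm) φ ∈ q.asIdeal := Iff.rfl
  rw [← h2, h1, specMap_snd]
  show algebraMap (LocallyConstant T A) (BB Sm) (LocallyConstant.const T _) ∈ q.asIdeal ↔ _
  rw [← algebraMap_eq_const, ← IsScalarTower.algebraMap_apply]

theorem ee_not_mem_of_mem (q : PrimeSpectrum (BB Sm)) {P : Set T} (hP : IsClopen P)
    (ht : (specMap Sm q).2 ∈ P) :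
    algebraMap (LocallyConstant T A) (BB Sm) (ee A T hP) ∉ q.asIdeal := by
  rw [specMap_snd] at ht
  exact (pt_spec (lcPrime Sm q) hP).1 ht

theorem sigma_not_mem (hopen : IsOpenFamily Sm) (q : PrimeSpectrum (BB Sm))
    (σ : LocallyConstant T A) (hσ : σ ∈ bigS Sm) :
    algebraMap A (BB Sm) (σ (specMap Sm q).2) ∉ q.asIdeal := by
  have hmem : specMap Sm q ∈ Set.range (specMap Sm) := ⟨q, rfl⟩
  rw [range_specMap Sm hopen] at hmem
  intro h
  have h1 : σ (specMap Sm q).2 ∈ (specMap Sm q).1.asIdeal := by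
    rw [specMap_fst]
    exact h
  exact Set.disjoint_left.1 hmem (hσ _) h1

/-- a common clopen neighbourhood on which four functions are constant -/
theorem exists_clopen_const4 (φ₁ φ₂ φ₃ φ₄ : LocallyConstant T A) (t : T) :
    ∃ P : Set T, IsClopen P ∧ t ∈ P ∧ ∀ t' ∈ P,
      φ₁ t' = φ₁ t ∧ φ₂ t' = φ₂ t ∧ φ₃ t' = φ₃ t ∧ φ₄ t' = φ₄ t :=
  ⟨{t' | φ₁ t' = φ₁ t} ∩ ({t' | φ₂ t' = φ₂ t} ∩ ({t' | φ₃ t' = φ₃ t} ∩ {t' | φ₄ t' = φ₄ t})),
    (φ₁.isLocallyConstant.isClopen_fiber _).inter
      ((φ₂.isLocallyConstant.isClopen_fiber _).inter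
        ((φ₃.isLocallyConstant.isClopen_fiber _).inter (φ₄.isLocallyConstant.isClopen_fiber _))),
    ⟨rfl, rfl, rfl, rfl⟩, fun t' h => ⟨h.1, h.2.1, h.2.2.1, h.2.2.2⟩⟩

theorem identifiesLocalRings_BB (hopen : IsOpenFamily Sm) :
    EtPBC.IdentifiesLocalRings A (BB Sm) := by
  intro q
  obtain ⟨t, ht⟩ : ∃ t, t = (specMap Sm q).2 := ⟨_, rfl⟩
  -- every element of `BB Sm` outside `q` is `φ'/σ'` with `φ' t ∉ x`
  have hout : ∀ (φ' : LocallyConstant T A) (σ' : bigS Sm),
      IsLocalization.mk' (BB Sm) φ' σ' ∉ q.asIdeal →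
        algebraMap A (BB Sm) (φ' t) ∉ q.asIdeal := by
    intro φ' σ' hm hcon
    rw [ht, ← mem_lcPrime_iff] at hcon
    apply hm
    have h1 := IsLocalization.mk'_spec (BB Sm) φ' σ'
    rw [← h1] at hcon
    rcases q.2.mem_or_mem hcon with h | h
    · exact h
    · exact absurd (q.asIdeal.eq_top_of_isUnit_mem h (IsLocalization.map_units (BB Sm) σ'))
        q.2.ne_top
  constructor
  · rw [injective_iff_map_eq_zero]
    intro z hz
    obtain ⟨a, s, rfl⟩ := IsLocalization.exists_mk'_eq
      (q.asIdeal.comap (algebraMap A (BB Sm))).primeCompl z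
    rw [Localization.localRingHom_mk', IsLocalization.mk'_eq_zero_iff] at hz
    obtain ⟨m, hm⟩ := hz
    obtain ⟨φ', σ', hφσ⟩ := IsLocalization.exists_mk'_eq (bigS Sm) (m : BB Sm)
    have hφ't := hout φ' σ' (by rw [hφσ]; exact m.2)
    have h1 := IsLocalization.mk'_spec (BB Sm) φ' σ'
    rw [hφσ] at h1
    have h2 : algebraMap (LocallyConstant T A) (BB Sm)
        (φ' * algebraMap A (LocallyConstant T A) a) = 0 := by
      rw [map_mul, ← h1, ← IsScalarTower.algebraMap_apply, mul_right_comm, hm, zero_mul]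
    rw [IsLocalization.map_eq_zero_iff (bigS Sm)] at h2
    obtain ⟨σ'', hσ''⟩ := h2
    have h3 : (σ'' : LocallyConstant T A) t * (φ' t * a) = 0 := by
      have := congrArg (fun ψ : LocallyConstant T A => ψ t) hσ''
      exact this
    rw [IsLocalization.mk'_eq_zero_iff]
    refine ⟨⟨(σ'' : LocallyConstant T A) t * φ' t, ?_⟩, ?_⟩
    · intro hmem
      rcases (Ideal.IsPrime.comap (algebraMap A (BB Sm))).mem_or_mem hmem with h | h
      · exact (ht ▸ sigma_not_mem Sm hopen q _ σ''.2) h
      · exact hφ't h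
    · show (σ'' : LocallyConstant T A) t * φ' t * a = 0
      rw [mul_assoc]
      exact h3
  · intro w
    obtain ⟨b, s, rfl⟩ := IsLocalization.exists_mk'_eq q.asIdeal.primeCompl w
    obtain ⟨φ, σ, rfl⟩ := IsLocalization.exists_mk'_eq (bigS Sm) b
    obtain ⟨φ', σ', hφσ⟩ := IsLocalization.exists_mk'_eq (bigS Sm) (s : BB Sm)
    have hφ't := hout φ' σ' (by rw [hφσ]; exact s.2)
    have hσt : algebraMap A (BB Sm) ((σ : LocallyConstant T A) t) ∉ q.asIdeal :=
      ht ▸ sigma_not_mem Sm hopen q _ σ.2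
    obtain ⟨P, hP, htP, hconst⟩ := exists_clopen_const4 φ (σ : LocallyConstant T A) φ'
      (σ' : LocallyConstant T A) t
    have ha' : φ' t * (σ : LocallyConstant T A) t ∈
        (q.asIdeal.comap (algebraMap A (BB Sm))).primeCompl := by
      intro hmem
      rcases (Ideal.IsPrime.comap (algebraMap A (BB Sm))).mem_or_mem hmem with h | h
      · exact hφ't h
      · exact hσt h
    refine ⟨IsLocalization.mk' _ (φ t * (σ' : LocallyConstant T A) t) ⟨_, ha'⟩, ?_⟩
    rw [Localization.localRingHom_mk', IsLocalization.eq]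
    -- the identity in `LocallyConstant T A`
    have hLC : ee A T hP * φ' * (σ : LocallyConstant T A) *
        algebraMap A (LocallyConstant T A) (φ t * (σ' : LocallyConstant T A) t) =
        ee A T hP * algebraMap A (LocallyConstant T A) (φ' t * (σ : LocallyConstant T A) t) * φ *
          (σ' : LocallyConstant T A) := by
      ext t'
      rw [algebraMap_eq_const, algebraMap_eq_const]
      simp only [LocallyConstant.mul_apply, LocallyConstant.coe_const, Function.const_apply]
      by_cases h' : t' ∈ P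
      · obtain ⟨e1, e2, e3, e4⟩ := hconst t' h'
        rw [e1, e2, e3, e4]
        ring
      · rw [ee_apply_of_not_mem hP h', zero_mul, zero_mul, zero_mul, zero_mul, zero_mul, zero_mul]
    have hB := congrArg (algebraMap (LocallyConstant T A) (BB Sm)) hLC
    simp only [map_mul, ← IsScalarTower.algebraMap_apply] at hB
    have h1 := IsLocalization.mk'_spec (BB Sm) φ σ
    have h2 := IsLocalization.mk'_spec (BB Sm) φ' σ'
    rw [hφσ] at h2
    obtain ⟨c, hc⟩ : ∃ c : BB Sm, c = algebraMap (LocallyConstant T A) (BB Sm) (ee A T hP) *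
        algebraMap (LocallyConstant T A) (BB Sm) (σ : LocallyConstant T A) *
        algebraMap (LocallyConstant T A) (BB Sm) (σ' : LocallyConstant T A) := ⟨_, rfl⟩
    have hcq : c ∈ q.asIdeal.primeCompl := by
      intro hmem
      rw [hc] at hmem
      rcases q.2.mem_or_mem hmem with h | h
      · rcases q.2.mem_or_mem h with h | h
        · exact ee_not_mem_of_mem Sm q hP (ht ▸ htP) h
        · exact absurd (q.asIdeal.eq_top_of_isUnit_mem h (IsLocalization.map_units (BB Sm) σ))
            q.2.ne_top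
      · exact absurd (q.asIdeal.eq_top_of_isUnit_mem h (IsLocalization.map_units (BB Sm) σ'))
          q.2.ne_top
    refine ⟨⟨c, hcq⟩, ?_⟩
    show c * ((s : BB Sm) * algebraMap A (BB Sm) (φ t * (σ' : LocallyConstant T A) t)) =
      c * (algebraMap A (BB Sm) (φ' t * (σ : LocallyConstant T A) t) *
        IsLocalization.mk' (BB Sm) φ σ)
    rw [← h1, ← h2] at hB
    rw [hc, map_mul, map_mul]
    linear_combination hB

end idloc

end Groth.Agent.Lib.ProfLocH3
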