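import Mathlib
import Groth.Agent.Lib.SpectralT1_helper8
import Groth.Agent.Lib.SpectralClosed_helper8

/-!
# w-local spectral spaces: closed points are separated by clopen sets (helper8)
-/

set_option autoImplicit false

namespace Groth.Agent.Lib.WLocalIsoH8

open Topology TopologicalSpace Set

variable {X : Type*} [TopologicalSpace X]

/-- In a prespectral space, a compact set none of whose points is a specialization of `z` is
contained in a compact open set avoiding `z`. -/
lemma exists_compact_open_superset [PrespectralSpace X] {Z : Set X} (hZ : IsCompact Z) (z : X)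
    (h : ∀ w ∈ Z, ¬ z ⤳ w) : ∃ U, IsOpen U ∧ IsCompact U ∧ Z ⊆ U ∧ z ∉ U := by
  have hex : ∀ w ∈ Z, ∃ U, (IsOpen U ∧ IsCompact U) ∧ w ∈ U ∧ z ∉ U := by
    intro w hw
    have h1 := h w hw
    rw [specializes_iff_forall_open] at h1
    push_neg at h1
    obtain ⟨s, hs, hws, hzs⟩ := h1
    obtain ⟨U, hU, hwU, hUs⟩ :=
      PrespectralSpace.isTopologicalBasis.exists_subset_of_mem_open hws hs
    exact ⟨U, hU, hwU, fun hz => hzs (hUs hz)⟩
  choose! U hU hwU hzU using hex
  obtain ⟨t, htZ, htfin, hcov⟩ := hZ.elim_finite_subcover_image (b := Z) (c := U)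
    (fun w hw => (hU w hw).1) (fun w hw => mem_biUnion hw (hwU w hw))
  refine ⟨⋃ w ∈ t, U w, isOpen_biUnion (fun w hw => (hU w (htZ hw)).1),
    htfin.isCompact_biUnion (fun w hw => (hU w (htZ hw)).2), hcov, ?_⟩
  intro hz
  obtain ⟨w, hw, hzw⟩ := mem_iUnion₂.1 hz
  exact hzU w (htZ hw) hzw

/-- In a w-local spectral space two distinct closed points are separated by a clopen set. -/
theorem exists_isClopen_of_closedPoints_ne [SpectralSpace X]
    (hC : IsClosed {x : X | IsClosed ({x} : Set X)})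
    (hU : ∀ x : X, ∃! y : X, IsClosed ({y} : Set X) ∧ x ⤳ y)
    {x y : X} (hx : IsClosed ({x} : Set X)) (hy : IsClosed ({y} : Set X)) (hxy : x ≠ y) :
    ∃ W : Set X, IsClopen W ∧ x ∈ W ∧ y ∉ W := by
  classical
  set X0 : Set X := {x : X | IsClosed ({x} : Set X)} with hX0
  haveI : SpectralSpace ↥X0 := SpectralClosedH8.spectralSpace_of_isClosed X0 hC
  have hpt : ∀ a : ↥X0, IsClosed ({a} : Set ↥X0) := by
    intro a
    have h1 : ({a} : Set ↥X0) = Subtype.val ⁻¹' ({a.1} : Set X) := by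
      ext b
      simp only [mem_singleton_iff, mem_preimage]
      exact ⟨fun h => by rw [h], fun h => Subtype.ext h⟩
    rw [h1]
    exact a.2.preimage continuous_subtype_val
  haveI : T2Space ↥X0 := SpectralT1H8.t2Space_of_closed_points hpt
  haveI : TotallyDisconnectedSpace ↥X0 := SpectralT1H8.totallyDisconnectedSpace_of_closed_points hpt
  haveI : CompactSpace ↥X0 := isCompact_iff_compactSpace.mp hC.isCompact
  have hne : (⟨x, hx⟩ : ↥X0) ≠ ⟨y, hy⟩ := fun h => hxy (congrArg Subtype.val h)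
  obtain ⟨U0, hU0, hxU0, hyU0⟩ := exists_isClopen_of_totally_separated hne
  have hemb : IsClosedEmbedding (Subtype.val : ↥X0 → X) := hC.isClosedEmbedding_subtypeVal
  set Z1 : Set X := Subtype.val '' U0 with hZ1
  set Z2 : Set X := Subtype.val '' U0ᶜ with hZ2
  have hZ1c : IsClosed Z1 := hemb.isClosedMap _ hU0.1
  have hZ2c : IsClosed Z2 := hemb.isClosedMap _ hU0.2.isClosed_compl
  have hdisj : ∀ w, w ∈ Z1 → w ∈ Z2 → False := by
    rintro w ⟨a, ha, rfl⟩ ⟨b, hb, hab⟩
    exact hb ((Subtype.ext hab : b = a) ▸ ha)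
  have hcover : ∀ w, IsClosed ({w} : Set X) → w ∈ Z1 ∨ w ∈ Z2 := by
    intro w hw
    by_cases h : (⟨w, hw⟩ : ↥X0) ∈ U0
    · exact Or.inl ⟨⟨w, hw⟩, h, rfl⟩
    · exact Or.inr ⟨⟨w, hw⟩, h, rfl⟩
  -- the family of compact opens containing `Z1` or `Z2`
  let S : Set (Set X) := {V | IsOpen V ∧ IsCompact V ∧ (Z1 ⊆ V ∨ Z2 ⊆ V)}
  have hcl : ∀ t ∈ S, IsClosed[constructibleTopology X] t := by
    intro t ht
    rw [← @isOpen_compl_iff X _ (constructibleTopology X)]
    exact IsCompact.isOpen_constructibleTopology_of_isClosed (by simpa using ht.2.1)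
      (by simpa using ht.1)
  have hempty : ¬ (⋂₀ S).Nonempty := by
    rintro ⟨z, hz⟩
    obtain ⟨r, ⟨hr1, hr2⟩, hr3⟩ := hU z
    have hspec : ∀ w, IsClosed ({w} : Set X) → z ⤳ w → w = r := fun w hw hzw => hr3 w ⟨hw, hzw⟩
    rcases hcover r hr1 with hrZ | hrZ
    · -- `r ∈ Z1`: find compact open containing `Z2` avoiding `z`
      obtain ⟨V, hV1, hV2, hV3, hV4⟩ := exists_compact_open_superset hZ2c.isCompact z (by
        rintro w hw hzw
        have hwc : IsClosed ({w} : Set X) := by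
          obtain ⟨b, _, rfl⟩ := hw
          exact b.2
        exact hdisj r hrZ (hspec w hwc hzw ▸ hw))
      exact hV4 (hz V ⟨hV1, hV2, Or.inr hV3⟩)
    · obtain ⟨V, hV1, hV2, hV3, hV4⟩ := exists_compact_open_superset hZ1c.isCompact z (by
        rintro w hw hzw
        have hwc : IsClosed ({w} : Set X) := by
          obtain ⟨b, _, rfl⟩ := hw
          exact b.2
        exact hdisj r (hspec w hwc hzw ▸ hw) hrZ)
      exact hV4 (hz V ⟨hV1, hV2, Or.inl hV3⟩)
  have hfin : ¬ ∀ t ⊆ S, t.Finite → (⋂₀ t).Nonempty := fun hfin =>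
    hempty (@CompactSpace.nonempty_sInter X (constructibleTopology X)
      SpectralT1H8.compactSpace_constructible S hcl hfin)
  push_neg at hfin
  obtain ⟨t, htS, htfin, htempty⟩ := hfin
  set W1 : Set X := ⋂₀ {u ∈ t | Z1 ⊆ u} with hW1
  set W2 : Set X := ⋂₀ {u ∈ t | ¬ Z1 ⊆ u} with hW2
  have hW1o : IsOpen W1 :=
    (htfin.subset (fun u hu => hu.1)).isOpen_sInter (fun u hu => (htS hu.1).1)
  have hW2o : IsOpen W2 :=
    (htfin.subset (fun u hu => hu.1)).isOpen_sInter (fun u hu => (htS hu.1).1)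
  have hZ1W1 : Z1 ⊆ W1 := fun w hw u hu => hu.2 hw
  have hZ2W2 : Z2 ⊆ W2 := fun w hw u hu => ((htS hu.1).2.2.resolve_left hu.2) hw
  have hW12 : ∀ w, w ∈ W1 → w ∈ W2 → False := by
    intro w h1 h2
    have : w ∈ ⋂₀ t := by
      intro u hu
      by_cases hZu : Z1 ⊆ u
      · exact h1 u ⟨hu, hZu⟩
      · exact h2 u ⟨hu, hZu⟩
    rw [htempty] at this
    exact this
  have hall : ∀ w, w ∈ W1 ∨ w ∈ W2 := by
    intro w
    obtain ⟨r, ⟨hr1, hr2⟩, _⟩ := hU w
    rcases hcover r hr1 with hrZ | hrZ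
    · exact Or.inl (hr2.mem_open hW1o (hZ1W1 hrZ))
    · exact Or.inr (hr2.mem_open hW2o (hZ2W2 hrZ))
  have hW1c : IsClosed W1 := by
    have : W1 = W2ᶜ := by
      ext w
      constructor
      · intro h1 h2
        exact hW12 w h1 h2
      · intro h2
        exact (hall w).resolve_right h2
    rw [this]
    exact hW2o.isClosed_compl
  refine ⟨W1, ⟨hW1c, hW1o⟩, hZ1W1 ⟨⟨x, hx⟩, hxU0, rfl⟩, fun hyW => ?_⟩
  exact hW12 y hyW (hZ2W2 ⟨⟨y, hy⟩, hyU0, rfl⟩)

/-- In a w-local spectral space two closed points in the same connected component are equal. -/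
theorem eq_of_connectedComponent_eq [SpectralSpace X]
    (hC : IsClosed {x : X | IsClosed ({x} : Set X)})
    (hU : ∀ x : X, ∃! y : X, IsClosed ({y} : Set X) ∧ x ⤳ y)
    {x y : X} (hx : IsClosed ({x} : Set X)) (hy : IsClosed ({y} : Set X))
    (h : connectedComponent x = connectedComponent y) : x = y := by
  by_contra hxy
  obtain ⟨W, hW, hxW, hyW⟩ := exists_isClopen_of_closedPoints_ne hC hU hx hy hxy
  have h1 : connectedComponent x ⊆ W := hW.connectedComponent_subset hxW
  have h2 : y ∈ connectedComponent x := by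
    rw [h]
    exact mem_connectedComponent
  exact hyW (h1 h2)

end Groth.Agent.Lib.WLocalIsoH8
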