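import Mathlib
import Groth.Prelude.Def_ProEtW
import Groth.Agent.Lib.WLocalIso1_helper8

/-!
# w-local rings: a w-local map identifying local rings and bijective on `π₀` is bijective (helper8)
-/

set_option autoImplicit false

namespace Groth.Agent.Lib.WLocalIsoH8

open Topology TopologicalSpace Set

universe u

lemma connectedComponent_eq_of_specializes {X : Type*} [TopologicalSpace X] {x y : X}
    (h : x ⤳ y) : connectedComponent x = connectedComponent y := by
  have h1 : y ∈ closure ({x} : Set X) := h.mem_closure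
  have h2 : closure ({x} : Set X) ⊆ connectedComponent x :=
    (isPreconnected_singleton.closure).subset_connectedComponent (subset_closure rfl)
  exact connectedComponent_eq (h2 h1)

section

variable (A B : Type u) [CommRing A] [CommRing B] [Algebra A B]
  (h1 : EtPBC.IdentifiesLocalRings A B) (h2 : ProEtW.IsWLocal (PrimeSpectrum A))
  (h3 : ProEtW.IsWLocal (PrimeSpectrum B))
  (h4 : ProEtW.IsWLocalMap (PrimeSpectrum.comap (algebraMap A B)))
  (h5 : Function.Bijective
      (PrimeSpectrum.continuous_comap (algebraMap A B)).connectedComponentsMap)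

include h3 h5 in
/-- two closed points of `Spec B` over the same point of `Spec A` coincide -/
lemma closedPoint_unique {m' m'' : PrimeSpectrum B} (hm' : IsClosed ({m'} : Set (PrimeSpectrum B)))
    (hm'' : IsClosed ({m''} : Set (PrimeSpectrum B)))
    (h : PrimeSpectrum.comap (algebraMap A B) m' = PrimeSpectrum.comap (algebraMap A B) m'') :
    m' = m'' := by
  obtain ⟨hS, hC, hU⟩ := h3
  haveI := hS
  apply eq_of_connectedComponent_eq hC hU hm' hm''
  rw [← ConnectedComponents.coe_eq_coe]
  apply h5.1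
  rw [Continuous.connectedComponentsMap_mk, Continuous.connectedComponentsMap_mk, h]

include h2 h3 h4 h5 in
/-- every closed point of `Spec A` is the image of a closed point of `Spec B` -/
lemma exists_closedPoint_over {m : PrimeSpectrum A} (hm : IsClosed ({m} : Set (PrimeSpectrum A))) :
    ∃ m' : PrimeSpectrum B, IsClosed ({m'} : Set (PrimeSpectrum B)) ∧
      PrimeSpectrum.comap (algebraMap A B) m' = m := by
  obtain ⟨c', hc'⟩ := h5.2 (ConnectedComponents.mk m)
  obtain ⟨q0, rfl⟩ := ConnectedComponents.surjective_coe c'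
  obtain ⟨r, ⟨hr1, hr2⟩, _⟩ := h3.2.2 q0
  refine ⟨r, hr1, ?_⟩
  obtain ⟨hS, hC, hU⟩ := h2
  haveI := hS
  apply eq_of_connectedComponent_eq hC hU (h4.2 r hr1) hm
  rw [← ConnectedComponents.coe_eq_coe, ← Continuous.connectedComponentsMap_mk
    (PrimeSpectrum.continuous_comap (algebraMap A B))]
  have h6 : (ConnectedComponents.mk r : ConnectedComponents (PrimeSpectrum B)) =
      ConnectedComponents.mk q0 :=
    (ConnectedComponents.coe_eq_coe.2 (connectedComponent_eq_of_specializes hr2)).symm
  rw [h6]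
  exact hc'

include h2 h3 h4 h5 in
/-- an element outside the closed point `m'` becomes a unit after inverting `A ∖ (m' ∩ A)` -/
lemma exists_mul_eq_algebraMap {m' : PrimeSpectrum B}
    (hm' : IsClosed ({m'} : Set (PrimeSpectrum B))) {t : B} (ht : t ∉ m'.asIdeal) :
    ∃ (b' : B) (s' : A), s' ∉ m'.asIdeal.comap (algebraMap A B) ∧ t * b' = algebraMap A B s' := by
  by_contra hcon
  push_neg at hcon
  let S' : Submonoid B := Submonoid.map (algebraMap A B)
    (m'.asIdeal.comap (algebraMap A B)).primeCompl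
  have hdisj : Disjoint ((Ideal.span {t} : Ideal B) : Set B) (S' : Set B) := by
    rw [Set.disjoint_left]
    rintro x hx ⟨s', hs', rfl⟩
    obtain ⟨b', hb'⟩ := Ideal.mem_span_singleton'.1 hx
    exact hcon b' s' hs' (by rw [mul_comm, hb'])
  obtain ⟨p, hp, htp, hpS⟩ := Ideal.exists_le_prime_disjoint _ _ hdisj
  let q : PrimeSpectrum B := ⟨p, hp⟩
  set f := PrimeSpectrum.comap (algebraMap A B) with hf
  have hfq : f q ⤳ f m' := by
    rw [← PrimeSpectrum.le_iff_specializes]
    intro a ha
    by_contra ha'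
    exact Set.disjoint_left.1 hpS ha ⟨a, ha', rfl⟩
  obtain ⟨r, ⟨hr1, hr2⟩, _⟩ := h3.2.2 q
  have hfr : f q ⤳ f r := hr2.map (PrimeSpectrum.continuous_comap (algebraMap A B))
  obtain ⟨y, _, hy⟩ := h2.2.2 (f q)
  have e1 : f r = y := hy _ ⟨h4.2 r hr1, hfr⟩
  have e2 : f m' = y := hy _ ⟨h4.2 m' hm', hfq⟩
  have e3 : r = m' := closedPoint_unique A B h3 h5 hr1 hm' (e1.trans e2.symm)
  rw [e3, ← PrimeSpectrum.le_iff_specializes] at hr2
  exact ht (hr2 (htp (Ideal.mem_span_singleton_self t)))

include h1 h2 h3 h4 h5 in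
theorem algebraMap_injective : Function.Injective (algebraMap A B) := by
  rw [injective_iff_map_eq_zero]
  intro a ha
  apply eq_zero_of_localization
  intro J hJ
  have hJc : IsClosed ({(⟨J, hJ.isPrime⟩ : PrimeSpectrum A)} : Set (PrimeSpectrum A)) :=
    (PrimeSpectrum.isClosed_singleton_iff_isMaximal _).2 hJ
  obtain ⟨m', hm', hm'J⟩ := exists_closedPoint_over A B h2 h3 h4 h5 hJc
  have hJ' : m'.asIdeal.comap (algebraMap A B) = J := congrArg PrimeSpectrum.asIdeal hm'J
  subst hJ'
  apply (h1 m').1
  rw [Localization.localRingHom_to_map, ha, map_zero, map_zero]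

include h1 h2 h3 h4 h5 in
theorem algebraMap_surjective : Function.Surjective (algebraMap A B) := by
  intro b
  let N : Submodule A B := LinearMap.range (Algebra.linearMap A B)
  let I : Ideal A := N.colon {b}
  have hI : ∀ a, a ∈ I ↔ ∃ c, algebraMap A B c = a • b := by
    intro a
    rw [Submodule.mem_colon_singleton]
    exact Iff.rfl
  suffices hI1 : I = ⊤ by
    obtain ⟨c, hc⟩ := (hI 1).1 (hI1 ▸ Submodule.mem_top)
    exact ⟨c, by rw [hc, one_smul]⟩
  by_contra hne
  obtain ⟨J, hJ, hIJ⟩ := Ideal.exists_le_maximal I hne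
  have hJc : IsClosed ({(⟨J, hJ.isPrime⟩ : PrimeSpectrum A)} : Set (PrimeSpectrum A)) :=
    (PrimeSpectrum.isClosed_singleton_iff_isMaximal _).2 hJ
  obtain ⟨m', hm', hm'J⟩ := exists_closedPoint_over A B h2 h3 h4 h5 hJc
  have hJ' : m'.asIdeal.comap (algebraMap A B) = J := congrArg PrimeSpectrum.asIdeal hm'J
  subst hJ'
  obtain ⟨x, hx⟩ := (h1 m').2 (algebraMap B (Localization.AtPrime m'.asIdeal) b)
  obtain ⟨a, s, rfl⟩ := IsLocalization.exists_mk'_eq
    (m'.asIdeal.comap (algebraMap A B)).primeCompl x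
  rw [Localization.localRingHom_mk', IsLocalization.mk'_eq_iff_eq_mul, ← map_mul,
    IsLocalization.eq_iff_exists m'.asIdeal.primeCompl] at hx
  obtain ⟨⟨t, ht⟩, hteq⟩ := hx
  obtain ⟨b', s', hs', hts'⟩ := exists_mul_eq_algebraMap A B h2 h3 h4 h5 hm' ht
  have hmem : s' * (s : A) ∈ I := by
    rw [hI]
    refine ⟨s' * a, ?_⟩
    simp only at hteq
    rw [map_mul, ← hts', Algebra.smul_def, map_mul, ← hts']
    calc t * b' * algebraMap A B a = b' * (t * algebraMap A B a) := by ring
      _ = b' * (t * (b * algebraMap A B (s : A))) := by rw [hteq]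
      _ = t * b' * algebraMap A B (s : A) * b := by ring
  have hnot : s' * (s : A) ∉ m'.asIdeal.comap (algebraMap A B) := by
    intro hmem'
    rcases (Ideal.IsPrime.mem_or_mem inferInstance hmem') with h | h
    · exact hs' h
    · exact s.2 h
  exact hnot (hIJ hmem)

end

end Groth.Agent.Lib.WLocalIsoH8
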