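import Mathlib
import Groth.Prelude.Def_ProEtW
import Groth.Agent.Lib.WLocz4_helper3
import Groth.Agent.Lib.LCGlue_helper3
import Groth.Agent.S0699
import Groth.Agent.S0704

/-!
# A w-local map of w-local rings identifying local rings is ind-Zariski (helper3)
-/

set_option autoImplicit false
set_option linter.all false
set_option maxHeartbeats 1600000

universe u

open CategoryTheory Limits Topology

namespace Groth.Agent.Lib.ProfLocH3

theorem isSpectralMap_comap {R S : Type*} [CommRing R] [CommRing S] (f : R →+* S) :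
    IsSpectralMap (PrimeSpectrum.comap f) := by
  classical
  refine ⟨PrimeSpectrum.continuous_comap f, fun s hso hsc => ?_⟩
  obtain ⟨t, rfl⟩ := PrimeSpectrum.isCompact_isOpen_iff.1 ⟨hsc, hso⟩
  have : PrimeSpectrum.comap f ⁻¹' (PrimeSpectrum.zeroLocus (t : Set R))ᶜ =
      (PrimeSpectrum.zeroLocus ((t.image f : Finset S) : Set S))ᶜ := by
    rw [Set.preimage_compl, PrimeSpectrum.preimage_comap_zeroLocus, Finset.coe_image]
  rw [this]
  exact (PrimeSpectrum.isCompact_isOpen_iff.2 ⟨_, rfl⟩).1

theorem isWLocal_of_homeomorph {X Y : Type u} [TopologicalSpace X] [TopologicalSpace Y]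
    [SpectralSpace X] (φ : X ≃ₜ Y) (hY : ProEtW.IsWLocal Y) : ProEtW.IsWLocal X := by
  obtain ⟨_, hC, hU⟩ := hY
  have hcl : ∀ x : X, IsClosed ({x} : Set X) ↔ IsClosed ({φ x} : Set Y) := by
    intro x
    rw [← φ.isClosed_image, Set.image_singleton]
  refine ⟨inferInstance, ?_, fun x => ?_⟩
  · have : {x : X | IsClosed ({x} : Set X)} = φ ⁻¹' {y | IsClosed ({y} : Set Y)} := by
      ext x
      exact hcl x
    rw [this]
    exact hC.preimage φ.continuous
  · obtain ⟨y, ⟨hy1, hy2⟩, huniq⟩ := hU (φ x)
    refine ⟨φ.symm y, ⟨?_, ?_⟩, ?_⟩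
    · rw [hcl, φ.apply_symm_apply]
      exact hy1
    · rw [← φ.isInducing.specializes_iff, φ.apply_symm_apply]
      exact hy2
    · rintro x' ⟨h1, h2⟩
      have := huniq (φ x') ⟨(hcl x').1 h1, (φ.isInducing.specializes_iff).2 h2⟩
      rw [← this, φ.symm_apply_apply]

theorem bijective_localRingHom_of_eq {R P : Type*} [CommRing R] [CommRing P] (I I' : Ideal R)
    [hI : I.IsPrime] [hI' : I'.IsPrime] (J : Ideal P) [J.IsPrime] (f : R →+* P)
    (hIJ : I = J.comap f) (hI'J : I' = J.comap f)
    (h : Function.Bijective (Localization.localRingHom I J f hIJ)) :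
    Function.Bijective (Localization.localRingHom I' J f hI'J) := by
  subst hIJ
  subst hI'J
  exact h

section s0700

variable (A B : Type u) [CommRing A] [CommRing B] [Algebra A B]

/-- `π₀ (Spec B)`. -/
abbrev T0 : Type u := _root_.ConnectedComponents (PrimeSpectrum B)

instance : T2Space (T0 B) := Groth.Agent.Lib.SpectralProdH8.t2Space_connectedComponents

/-- `π₀` of `Spec B → Spec A`. -/
def g0 : C(T0 B, _root_.ConnectedComponents (PrimeSpectrum A)) :=
  ⟨(PrimeSpectrum.continuous_comap (algebraMap A B)).connectedComponentsMap,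
    Continuous.connectedComponentsMap_continuous _⟩

theorem g0_mk (y : PrimeSpectrum B) :
    g0 A B (ConnectedComponents.mk y) =
      ConnectedComponents.mk (PrimeSpectrum.comap (algebraMap A B) y) := rfl

/-- The quotient map as a continuous map. -/
def hmk : C(PrimeSpectrum B, T0 B) := ⟨ConnectedComponents.mk, ConnectedComponents.continuous_coe⟩

/-- The ind-Zariski `A`-algebra with spectrum `Spec A ×_{π₀ Spec A} π₀ (Spec B)`. -/
abbrev A' : Type u := BB (compS (g0 A B))

theorem isUnit_psi0' (σ : bigS (compS (g0 A B))) :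
    IsUnit (glueAlong (A := A) (hmk B) (σ : LocallyConstant (T0 B) A)) := by
  apply isUnit_glueAlong
  intro y hmem
  exact σ.2 (ConnectedComponents.mk y) (PrimeSpectrum.comap (algebraMap A B) y) rfl hmem

/-- The comparison map `A' → B`. -/
noncomputable def psi : A' A B →+* B :=
  IsLocalization.lift (M := bigS (compS (g0 A B))) (g := glueAlong (A := A) (hmk B))
    (isUnit_psi0' A B)

theorem psi_algebraMapLC (φ : LocallyConstant (T0 B) A) :
    psi A B (algebraMap (LocallyConstant (T0 B) A) (A' A B) φ) = glueAlong (A := A) (hmk B) φ := by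
  unfold psi
  rw [IsLocalization.lift_eq]

theorem psi_algebraMap (a : A) : psi A B (algebraMap A (A' A B) a) = algebraMap A B a := by
  rw [IsScalarTower.algebraMap_apply A (LocallyConstant (T0 B) A) (A' A B), psi_algebraMapLC,
    algebraMap_eq_const, glueAlong_const]

/-- `B` as an `A'`-algebra. -/
@[instance_reducible]
noncomputable def algPsi : Algebra (A' A B) B := (psi A B).toAlgebra

attribute [local instance] algPsi

theorem algebraMap_A'B : algebraMap (A' A B) B = psi A B := rfl

instance : IsScalarTower A (A' A B) B :=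
  IsScalarTower.of_algebraMap_eq (fun a => (psi_algebraMap A B a).symm)

theorem range_eq_fib : Set.range (specMap (compS (g0 A B))) =
    {p : PrimeSpectrum A × T0 B | ConnectedComponents.mk p.1 = g0 A B p.2} := by
  rw [range_specMap _ (isOpenFamily_compS (g0 A B))]
  ext p
  exact disjoint_compS_iff (g0 A B) p

/-- `Spec A'` is the fibre product. -/
noncomputable def homeoFib : PrimeSpectrum (A' A B) ≃ₜ
    {p : PrimeSpectrum A × T0 B // ConnectedComponents.mk p.1 = g0 A B p.2} :=
  (isEmbedding_specMap (compS (g0 A B))).toHomeomorph.trans (Homeomorph.setCongr (range_eq_fib A B))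

theorem homeoFib_apply (p' : PrimeSpectrum (A' A B)) :
    (homeoFib A B p').1 = specMap (compS (g0 A B)) p' := rfl

/-- key computation: the second coordinate of the image of `y ∈ Spec B` in `Spec A'` -/
theorem specMap_comap_psi_snd (y : PrimeSpectrum B) :
    (specMap (compS (g0 A B)) (PrimeSpectrum.comap (psi A B) y)).2 = ConnectedComponents.mk y := by
  rw [specMap_snd]
  apply pt_eq
  intro P hP hmem hcon
  have h1 : psi A B (algebraMap (LocallyConstant (T0 B) A) (A' A B) (ee A (T0 B) hP)) ∈
      y.asIdeal := hcon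
  rw [psi_algebraMapLC, glueAlong_mem_iff] at h1
  have h2 : ee A (T0 B) hP (hmk B y) = 1 := ee_apply_of_mem hP hmem
  rw [h2, map_one] at h1
  exact y.2.ne_top ((Ideal.eq_top_iff_one _).2 h1)

theorem specMap_comap_psi_fst (y : PrimeSpectrum B) :
    (specMap (compS (g0 A B)) (PrimeSpectrum.comap (psi A B) y)).1 =
      PrimeSpectrum.comap (algebraMap A B) y := by
  rw [specMap_fst]
  apply PrimeSpectrum.ext
  ext a
  show psi A B (algebraMap A (A' A B) a) ∈ y.asIdeal ↔ algebraMap A B a ∈ y.asIdeal
  rw [psi_algebraMap]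

theorem identifies_A'B (h1 : EtPBC.IdentifiesLocalRings A B) :
    EtPBC.IdentifiesLocalRings (A' A B) B := by
  intro q
  have hA := identifiesLocalRings_BB (compS (g0 A B)) (isOpenFamily_compS (g0 A B))
    (PrimeSpectrum.comap (psi A B) q)
  have hAB := h1 q
  have hIJ : q.asIdeal.comap (algebraMap A B) =
      (q.asIdeal.comap (algebraMap (A' A B) B)).comap (algebraMap A (A' A B)) := by
    rw [Ideal.comap_comap, ← IsScalarTower.algebraMap_eq]
  have hAA' : Function.Bijective (Localization.localRingHom (q.asIdeal.comap (algebraMap A B))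
      (q.asIdeal.comap (algebraMap (A' A B) B)) (algebraMap A (A' A B)) hIJ) :=
    bijective_localRingHom_of_eq _ _ _ _ rfl hIJ hA
  have hcomp : Localization.localRingHom (q.asIdeal.comap (algebraMap A B)) q.asIdeal
      (algebraMap A B) rfl =
      (Localization.localRingHom (q.asIdeal.comap (algebraMap (A' A B) B)) q.asIdeal
        (algebraMap (A' A B) B) rfl).comp
      (Localization.localRingHom (q.asIdeal.comap (algebraMap A B))
        (q.asIdeal.comap (algebraMap (A' A B) B)) (algebraMap A (A' A B)) hIJ) :=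
    Localization.localRingHom_unique _ _ _ _ (fun x => by
      rw [RingHom.comp_apply, Localization.localRingHom_to_map, Localization.localRingHom_to_map,
        algebraMap_A'B, psi_algebraMap])
  rw [hcomp, RingHom.coe_comp] at hAB
  exact (Function.Bijective.of_comp_iff _ hAA').1 hAB

theorem isWLocal_A' (h2 : ProEtW.IsWLocal (PrimeSpectrum A)) :
    ProEtW.IsWLocal (PrimeSpectrum (A' A B)) :=
  isWLocal_of_homeomorph (homeoFib A B) (Groth.Agent.S0704.result _ _ h2 (g0 A B)).1

theorem isClosed_singleton_A'_iff (h2 : ProEtW.IsWLocal (PrimeSpectrum A))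
    (p' : PrimeSpectrum (A' A B)) :
    IsClosed ({p'} : Set (PrimeSpectrum (A' A B))) ↔
      IsClosed ({(specMap (compS (g0 A B)) p').1} : Set (PrimeSpectrum A)) := by
  have h := (Groth.Agent.S0704.result _ _ h2 (g0 A B)).2.2
  have h3 : homeoFib A B p' ∈ ProEtW.closedPoints _ ↔
      homeoFib A B p' ∈ (fun y : {p : PrimeSpectrum A × T0 B //
        ConnectedComponents.mk p.1 = g0 A B p.2} => y.1.1) ⁻¹'
        ProEtW.closedPoints (PrimeSpectrum A) := by rw [h]
  rw [← (homeoFib A B).isClosed_image, Set.image_singleton]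
  exact h3

theorem isWLocalMap_psi (h2 : ProEtW.IsWLocal (PrimeSpectrum A))
    (h4 : ProEtW.IsWLocalMap (PrimeSpectrum.comap (algebraMap A B))) :
    ProEtW.IsWLocalMap (PrimeSpectrum.comap (algebraMap (A' A B) B)) := by
  refine ⟨isSpectralMap_comap _, fun y hy => ?_⟩
  rw [isClosed_singleton_A'_iff A B h2]
  show IsClosed ({(specMap (compS (g0 A B)) (PrimeSpectrum.comap (psi A B) y)).1} : Set _)
  rw [specMap_comap_psi_fst]
  exact h4.2 y hy

theorem continuous_sndA' :
    Continuous (fun p' : PrimeSpectrum (A' A B) => (specMap (compS (g0 A B)) p').2) :=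
  continuous_snd.comp (isEmbedding_specMap (compS (g0 A B))).continuous

theorem pi0_bijective_psi :
    Function.Bijective
      (PrimeSpectrum.continuous_comap (algebraMap (A' A B) B)).connectedComponentsMap := by
  obtain ⟨e0, he0⟩ := Groth.Agent.Lib.SpectralProdH8.exists_homeomorph_fib (g0 A B)
  -- `E : π₀ (Spec A') → T`
  obtain ⟨E, hE⟩ : ∃ E : _root_.ConnectedComponents (PrimeSpectrum (A' A B)) → T0 B,
      E = (continuous_sndA' A B).connectedComponentsLift := ⟨_, rfl⟩
  have hEmk : ∀ p', E (ConnectedComponents.mk p') = (specMap (compS (g0 A B)) p').2 := by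
    intro p'
    rw [hE]
    rfl
  have hEinj : Function.Injective E := by
    intro c c' h
    obtain ⟨p1, rfl⟩ := ConnectedComponents.surjective_coe c
    obtain ⟨p2, rfl⟩ := ConnectedComponents.surjective_coe c'
    have h' : (specMap (compS (g0 A B)) p1).2 = (specMap (compS (g0 A B)) p2).2 := by
      rw [← hEmk, ← hEmk]
      exact h
    have h3 : (ConnectedComponents.mk (homeoFib A B p1) : _root_.ConnectedComponents _) =
        ConnectedComponents.mk (homeoFib A B p2) := by
      apply e0.injective
      rw [he0, he0, homeoFib_apply, homeoFib_apply]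
      exact h'
    have h4 := congrArg (homeoFib A B).symm.continuous.connectedComponentsMap h3
    rw [Continuous.connectedComponentsMap_mk, Continuous.connectedComponentsMap_mk,
      Homeomorph.symm_apply_apply, Homeomorph.symm_apply_apply] at h4
    exact h4
  have hEF : ∀ t, E ((PrimeSpectrum.continuous_comap
      (algebraMap (A' A B) B)).connectedComponentsMap t) = t := by
    intro t
    obtain ⟨y, rfl⟩ := ConnectedComponents.surjective_coe t
    show E (ConnectedComponents.mk (PrimeSpectrum.comap (psi A B) y)) = _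
    rw [hEmk, specMap_comap_psi_snd]
  refine ⟨fun t t' h => ?_, fun c => ⟨E c, hEinj (hEF _)⟩⟩
  rw [← hEF t, ← hEF t', h]

theorem bijective_psi (h1 : EtPBC.IdentifiesLocalRings A B)
    (h2 : ProEtW.IsWLocal (PrimeSpectrum A)) (h3 : ProEtW.IsWLocal (PrimeSpectrum B))
    (h4 : ProEtW.IsWLocalMap (PrimeSpectrum.comap (algebraMap A B))) :
    Function.Bijective (psi A B) :=
  Groth.Agent.S0699.result (A' A B) B (identifies_A'B A B h1) (isWLocal_A' A B h2) h3
    (isWLocalMap_psi A B h2 h4) (pi0_bijective_psi A B)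

theorem main0700 (h1 : EtPBC.IdentifiesLocalRings A B) (h2 : ProEtW.IsWLocal (PrimeSpectrum A))
    (h3 : ProEtW.IsWLocal (PrimeSpectrum B))
    (h4 : ProEtW.IsWLocalMap (PrimeSpectrum.comap (algebraMap A B))) :
    EtPBC.IsIndZariski A B := by
  obtain ⟨J, hJ1, hJ2, D, c, hc, hloc, ⟨iso⟩⟩ := isIndZariski_BB (compS (g0 A B))
  refine ⟨J, hJ1, hJ2, D, c, hc, hloc, ⟨iso ≪≫ ?_⟩⟩
  refine Under.isoMk (RingEquiv.toCommRingCatIso
    (RingEquiv.ofBijective (psi A B) (bijective_psi A B h1 h2 h3 h4))) ?_
  ext a
  exact psi_algebraMap A B a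

end s0700

end Groth.Agent.Lib.ProfLocH3
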