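import Mathlib
import Groth.Prelude.Def_ProEtW
import Groth.Agent.Lib.IndEtale2_helper3
import Groth.Agent.Lib.WLocz5_helper3

/-!
# Ind-Zariski algebras identify local rings (helper3)
-/

set_option autoImplicit false
set_option linter.all false
set_option maxHeartbeats 1600000

universe u

open CategoryTheory Limits Topology

namespace Groth.Agent.Lib.ProfLocH3

section localIso

variable {R S : Type u} [CommRing R] [CommRing S] [Algebra R S]

/-- A local isomorphism identifies local rings. -/
theorem bijective_localRingHom_of_isLocalIso [Algebra.IsLocalIso R S] (q : Ideal S) [hq : q.IsPrime] :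
    Function.Bijective
      (Localization.localRingHom (q.comap (algebraMap R S)) q (algebraMap R S) rfl) := by
  obtain ⟨g, hg, hstd⟩ := Algebra.IsLocalIso.exists_notMem_isStandardOpenImmersion (R := R) q
  obtain ⟨r, hr⟩ := hstd.exists_away
  have hdisj : Disjoint (Submonoid.powers g : Set S) ↑q :=
    (Ideal.disjoint_powers_iff_notMem_of_isPrime g).2 hg
  obtain ⟨q'', hq''⟩ : ∃ q'' : Ideal (Localization.Away g),
      q'' = Ideal.map (algebraMap S (Localization.Away g)) q := ⟨_, rfl⟩
  haveI hprime : q''.IsPrime := by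
    rw [hq'']
    exact IsLocalization.isPrime_of_isPrime_disjoint (Submonoid.powers g) _ q hq hdisj
  have hcomap : q''.comap (algebraMap S (Localization.Away g)) = q := by
    rw [hq'']
    exact IsLocalization.under_map_of_isPrime_disjoint (Submonoid.powers g) _ hq hdisj
  -- `L` is a localisation of `S` at `q` and of `R` at `p`
  have instS : IsLocalization.AtPrime (Localization.AtPrime q'')
      (q''.comap (algebraMap S (Localization.Away g))) :=
    IsLocalization.isLocalization_isLocalization_atPrime_isLocalization (Submonoid.powers g)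
      (Localization.AtPrime q'') q''
  haveI : IsLocalization (Submonoid.powers r) (Localization.Away g) := hr
  have instR : IsLocalization.AtPrime (Localization.AtPrime q'')
      (q''.comap (algebraMap R (Localization.Away g))) :=
    IsLocalization.isLocalization_isLocalization_atPrime_isLocalization (Submonoid.powers r)
      (Localization.AtPrime q'') q''
  have hp : q''.comap (algebraMap R (Localization.Away g)) = q.comap (algebraMap R S) := by
    rw [← hcomap, Ideal.comap_comap, ← IsScalarTower.algebraMap_eq]
  haveI instS' : IsLocalization q.primeCompl (Localization.AtPrime q'') := by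
    have := instS
    unfold IsLocalization.AtPrime at this
    rw [show (q''.comap (algebraMap S (Localization.Away g))).primeCompl = q.primeCompl from by
      ext x; simp only [Ideal.mem_primeCompl_iff]; rw [hcomap]] at this
    exact this
  haveI instR' : IsLocalization (q.comap (algebraMap R S)).primeCompl
      (Localization.AtPrime q'') := by
    have := instR
    unfold IsLocalization.AtPrime at this
    rw [show (q''.comap (algebraMap R (Localization.Away g))).primeCompl =
      (q.comap (algebraMap R S)).primeCompl from by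
      ext x; simp only [Ideal.mem_primeCompl_iff]; rw [hp]] at this
    exact this
  let e1 := IsLocalization.algEquiv (q.comap (algebraMap R S)).primeCompl
    (Localization.AtPrime (q.comap (algebraMap R S))) (Localization.AtPrime q'')
  let e2 := IsLocalization.algEquiv q.primeCompl (Localization.AtPrime q)
    (Localization.AtPrime q'')
  have key : Localization.localRingHom (q.comap (algebraMap R S)) q (algebraMap R S) rfl =
      (e2.symm.toRingEquiv.toRingHom).comp e1.toRingEquiv.toRingHom := by
    apply IsLocalization.ringHom_ext (q.comap (algebraMap R S)).primeCompl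
    ext x
    simp only [RingHom.comp_apply, Localization.localRingHom_to_map]
    show _ = e2.symm (e1 (algebraMap R _ x))
    rw [e1.commutes, IsScalarTower.algebraMap_apply R S (Localization.AtPrime q''), e2.symm.commutes]
  rw [key]
  exact e2.symm.bijective.comp e1.bijective

end localIso

section stage

variable {A B : Type u} [CommRing A] [CommRing B] [Algebra A B]
  {D' : Type u} [CommRing D'] [Algebra A D'] [Algebra.IsLocalIso A D'] (f : D' →ₐ[A] B)
  (q : Ideal B) [hq : q.IsPrime]

include hq in
theorem stage_surj (yb ys : D') (hys : f ys ∉ q) :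
    ∃ a a' : A, algebraMap A B a' ∉ q ∧ ∃ c : D', f c ∉ q ∧
      c * (ys * algebraMap A D' a) = c * (algebraMap A D' a' * yb) := by
  obtain ⟨qj, hqj⟩ : ∃ qj : Ideal D', qj = q.comap f.toRingHom := ⟨_, rfl⟩
  haveI : qj.IsPrime := hqj ▸ Ideal.IsPrime.comap f.toRingHom
  have hmem : ∀ y : D', y ∈ qj ↔ f y ∈ q := fun y => by rw [hqj]; rfl
  have hbij := bijective_localRingHom_of_isLocalIso (R := A) qj
  obtain ⟨z, hz⟩ := hbij.2 (IsLocalization.mk' _ yb (⟨ys, fun h => hys ((hmem ys).1 h)⟩ : qj.primeCompl))
  obtain ⟨a, a', rfl⟩ := IsLocalization.exists_mk'_eq (qj.comap (algebraMap A D')).primeCompl z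
  rw [Localization.localRingHom_mk', IsLocalization.eq] at hz
  obtain ⟨c, hc⟩ := hz
  refine ⟨a, a', ?_, c, fun h => c.2 ((hmem _).2 h), hc⟩
  intro h
  apply a'.2
  show algebraMap A D' a' ∈ qj
  rw [hmem, f.commutes]
  exact h

include hq in
theorem stage_inj (a : A) (t : D') (ht : f t ∉ q) (hta : t * algebraMap A D' a = 0) :
    ∃ u : A, algebraMap A B u ∉ q ∧ u * a = 0 := by
  obtain ⟨qj, hqj⟩ : ∃ qj : Ideal D', qj = q.comap f.toRingHom := ⟨_, rfl⟩
  haveI : qj.IsPrime := hqj ▸ Ideal.IsPrime.comap f.toRingHom
  have hmem : ∀ y : D', y ∈ qj ↔ f y ∈ q := fun y => by rw [hqj]; rfl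
  have hbij := bijective_localRingHom_of_isLocalIso (R := A) qj
  have h0 : Localization.localRingHom (qj.comap (algebraMap A D')) qj (algebraMap A D') rfl
      (IsLocalization.mk' _ a (1 : (qj.comap (algebraMap A D')).primeCompl)) = 0 := by
    rw [Localization.localRingHom_mk', IsLocalization.mk'_eq_zero_iff]
    exact ⟨⟨t, fun h => ht ((hmem t).1 h)⟩, hta⟩
  have h1 := hbij.1 (h0.trans (map_zero _).symm)
  rw [IsLocalization.mk'_eq_zero_iff] at h1
  obtain ⟨u, hu⟩ := h1
  refine ⟨u, ?_, hu⟩
  intro h
  apply u.2
  show algebraMap A D' u ∈ qj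
  rw [hmem, f.commutes]
  exact h

end stage

section indZar

variable {A B : Type u} [CommRing A] [CommRing B] [Algebra A B]

open Groth.Agent.Lib.IndEtaleH3

theorem identifiesLocalRings_of_isIndZariski (h : EtPBC.IsIndZariski A B) :
    EtPBC.IdentifiesLocalRings A B := by
  obtain ⟨J, _, _, D, c, hc, hloc, ⟨e⟩⟩ := h
  intro q
  constructor
  · rw [injective_iff_map_eq_zero]
    intro z hz
    obtain ⟨a, a', rfl⟩ := IsLocalization.exists_mk'_eq
      (q.asIdeal.comap (algebraMap A B)).primeCompl z
    rw [Localization.localRingHom_mk', IsLocalization.mk'_eq_zero_iff] at hz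
    obtain ⟨t, ht⟩ := hz
    obtain ⟨j, yt, hyt⟩ := exists_ιB c e hc (t : B)
    letI := algObj D j
    have h0 : ιB c e j (yt * algebraMap A (D.obj j).right a) = 0 := by
      rw [map_mul, hyt, AlgHom.commutes]
      exact ht
    obtain ⟨k, tr, hk⟩ := ιB_eq_zero c e hc h0
    letI := algObj D k
    haveI := hloc k
    have hk' : trB D tr yt * algebraMap A (D.obj k).right a = 0 := by
      rw [map_mul, AlgHom.commutes] at hk
      exact hk
    have hnot : ιB c e k (trB D tr yt) ∉ q.asIdeal := by
      rw [ιB_trB, hyt]
      exact t.2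
    obtain ⟨u, hu1, hu2⟩ := stage_inj (ιB c e k) q.asIdeal a (trB D tr yt) hnot hk'
    rw [IsLocalization.mk'_eq_zero_iff]
    exact ⟨⟨u, hu1⟩, hu2⟩
  · intro w
    obtain ⟨b, s, rfl⟩ := IsLocalization.exists_mk'_eq q.asIdeal.primeCompl w
    obtain ⟨j₁, yb, hyb⟩ := exists_ιB c e hc b
    obtain ⟨j₂, ys, hys⟩ := exists_ιB c e hc (s : B)
    obtain ⟨k, t₁, t₂⟩ : ∃ k, Nonempty (j₁ ⟶ k) ∧ Nonempty (j₂ ⟶ k) :=
      ⟨IsFiltered.max j₁ j₂, ⟨IsFiltered.leftToMax j₁ j₂⟩, ⟨IsFiltered.rightToMax j₁ j₂⟩⟩
    obtain ⟨t₁⟩ := t₁
    obtain ⟨t₂⟩ := t₂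
    letI := algObj D k
    haveI := hloc k
    have hb' : ιB c e k (trB D t₁ yb) = b := by rw [ιB_trB, hyb]
    have hs' : ιB c e k (trB D t₂ ys) = s := by rw [ιB_trB, hys]
    obtain ⟨a, a', ha', cc, hcc, heq⟩ := stage_surj (ιB c e k) q.asIdeal (trB D t₁ yb)
      (trB D t₂ ys) (by rw [hs']; exact s.2)
    refine ⟨IsLocalization.mk' _ a (⟨a', ha'⟩ : (q.asIdeal.comap (algebraMap A B)).primeCompl), ?_⟩
    rw [Localization.localRingHom_mk', IsLocalization.eq]
    refine ⟨⟨ιB c e k cc, hcc⟩, ?_⟩
    have := congrArg (ιB c e k) heq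
    simp only [map_mul, AlgHom.commutes, hb', hs'] at this
    exact this

end indZar

/-- Identifying local rings is stable under composition. -/
theorem identifiesLocalRings_comp (A B C : Type u) [CommRing A] [CommRing B] [CommRing C]
    [Algebra A B] [Algebra B C] [Algebra A C] [IsScalarTower A B C]
    (h1 : EtPBC.IdentifiesLocalRings A B) (h2 : EtPBC.IdentifiesLocalRings B C) :
    EtPBC.IdentifiesLocalRings A C := by
  intro q
  have hAB := h1 (PrimeSpectrum.comap (algebraMap B C) q)
  have hBC := h2 q
  have e2 : q.asIdeal.comap (algebraMap A C) =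
      (q.asIdeal.comap (algebraMap B C)).comap (algebraMap A B) := by
    rw [Ideal.comap_comap, ← IsScalarTower.algebraMap_eq]
  have L2 : Function.Bijective (Localization.localRingHom (q.asIdeal.comap (algebraMap A C))
      (q.asIdeal.comap (algebraMap B C)) (algebraMap A B) e2) :=
    bijective_localRingHom_of_eq _ _ _ _ rfl e2 hAB
  have c2 : Localization.localRingHom (q.asIdeal.comap (algebraMap A C)) q.asIdeal
      (algebraMap A C) rfl =
      (Localization.localRingHom (q.asIdeal.comap (algebraMap B C)) q.asIdeal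
        (algebraMap B C) rfl).comp
      (Localization.localRingHom (q.asIdeal.comap (algebraMap A C))
        (q.asIdeal.comap (algebraMap B C)) (algebraMap A B) e2) :=
    Localization.localRingHom_unique _ _ _ _ (fun x => by
      rw [RingHom.comp_apply, Localization.localRingHom_to_map, Localization.localRingHom_to_map,
        ← IsScalarTower.algebraMap_apply A B C])
  rw [c2, RingHom.coe_comp]
  exact hBC.comp L2

end Groth.Agent.Lib.ProfLocH3
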