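import Mathlib
import Groth.Prelude.Def_ProEtW
import Groth.Agent.Lib.WLocz8_helper3
import Groth.Agent.Lib.WLocz2_helper3
import Groth.Agent.S0738

/-!
# Ind-Zariski retractions ⟺ w-local with extremally disconnected `π₀` (helper3)
-/

set_option autoImplicit false
set_option linter.all false
set_option maxHeartbeats 1600000

universe u

open CategoryTheory Limits Topology

namespace Groth.Agent.Lib.ProfLocH3

section wlocalTop

variable {X : Type u} [TopologicalSpace X]

/-- The subspace of closed points. -/
abbrev CP (X : Type u) [TopologicalSpace X] : Type u := ↥(ProEtW.closedPoints X)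

/-- closed points → connected components -/
def kappa : CP X → _root_.ConnectedComponents X := fun t => ConnectedComponents.mk t.1

theorem continuous_kappa : Continuous (kappa (X := X)) :=
  ConnectedComponents.continuous_coe.comp continuous_subtype_val

variable (hX : ProEtW.IsWLocal X)

include hX

theorem bijective_kappa : Function.Bijective (kappa (X := X)) := by
  obtain ⟨hS, hC, hU⟩ := hX
  haveI := hS
  constructor
  · intro t t' h
    apply Subtype.ext
    exact Groth.Agent.Lib.WLocalIsoH8.eq_of_connectedComponent_eq hC hU t.2 t'.2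
      (ConnectedComponents.coe_eq_coe.1 h)
  · intro c
    obtain ⟨x, rfl⟩ := ConnectedComponents.surjective_coe c
    obtain ⟨y, ⟨hy1, hy2⟩, -⟩ := hU x
    refine ⟨⟨y, hy1⟩, ?_⟩
    show (ConnectedComponents.mk y : _root_.ConnectedComponents X) = ConnectedComponents.mk x
    rw [ConnectedComponents.coe_eq_coe]
    exact (connectedComponent_eq_of_specializes' hy2).symm

theorem compactSpace_CP : CompactSpace (CP X) := by
  obtain ⟨hS, hC, hU⟩ := hX
  haveI := hS
  exact isCompact_iff_compactSpace.mp hC.isCompact

/-- closed points ≃ₜ π₀ for a w-local space -/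
noncomputable def homeoKappa : CP X ≃ₜ _root_.ConnectedComponents X :=
  haveI := hX.1
  haveI := compactSpace_CP hX
  haveI : T2Space (_root_.ConnectedComponents X) :=
    Groth.Agent.Lib.SpectralProdH8.t2Space_connectedComponents
  Continuous.homeoOfEquivCompactToT2 (f := Equiv.ofBijective kappa (bijective_kappa hX))
    continuous_kappa

theorem t2Space_CP : T2Space (CP X) := by
  haveI := hX.1
  haveI : T2Space (_root_.ConnectedComponents X) :=
    Groth.Agent.Lib.SpectralProdH8.t2Space_connectedComponents
  exact (homeoKappa hX).symm.t2Space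

theorem extremallyDisconnected_CP [ExtremallyDisconnected (_root_.ConnectedComponents X)] :
    ExtremallyDisconnected (CP X) :=
  extremallyDisconnected_of_homeo (homeoKappa hX).symm

end wlocalTop

section algBB

variable (A : Type u) {B : Type u} [CommRing A] [CommRing B] [Algebra A B]
  {T : Type u} [TopologicalSpace T] (Sm : T → Submonoid B)

theorem algebraMap_A_BB (a : A) :
    algebraMap A (BB Sm) a = algebraMap B (BB Sm) (algebraMap A B a) := by
  rw [IsScalarTower.algebraMap_apply A (LocallyConstant T B) (BB Sm),
    IsScalarTower.algebraMap_apply B (LocallyConstant T B) (BB Sm)]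
  rfl

instance isScalarTower_A_BB : IsScalarTower A B (BB Sm) :=
  (IsScalarTower.of_algebraMap_eq (R := A) (S := B) (A := BB Sm) (algebraMap_A_BB A Sm))

end algBB

section retr

variable (A B : Type u) [CommRing A] [CommRing B] [Algebra A B]

/-- closed points of `Spec A` -/
abbrev TA : Type u := CP (PrimeSpectrum A)

/-- `(Spec B)_cons → Spec A` -/
def phi0 : TT B → PrimeSpectrum A := fun w => PrimeSpectrum.comap (algebraMap A B) (ofT B w)

theorem continuous_phi0 : Continuous (phi0 A B) :=
  (PrimeSpectrum.continuous_comap _).comp (continuous_ofT B)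

/-- points of `(Spec B)_cons` over closed points of `Spec A` -/
abbrev WW : Type u := {w : TT B // phi0 A B w ∈ ProEtW.closedPoints (PrimeSpectrum A)}

/-- projection -/
def pW : WW A B → TA A := fun w => ⟨phi0 A B w.1, w.2⟩

theorem continuous_pW : Continuous (pW A B) :=
  ((continuous_phi0 A B).comp continuous_subtype_val).subtype_mk _

variable (hA : ProEtW.IsWLocal (PrimeSpectrum A))
  [hed : ExtremallyDisconnected (_root_.ConnectedComponents (PrimeSpectrum A))]
  [hff : Module.FaithfullyFlat A B]

include hA hed hff in
theorem exists_section :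
    ∃ s : TA A → WW A B, Continuous s ∧ ∀ t, pW A B (s t) = t := by
  haveI := compactSpace_CP hA
  haveI := t2Space_CP hA
  haveI := extremallyDisconnected_CP hA
  have hproj : CompactT2.Projective (TA A) := CompactT2.ExtremallyDisconnected.projective
  haveI : CompactSpace (WW A B) := by
    apply isCompact_iff_compactSpace.mp
    exact (hA.2.1.preimage (continuous_phi0 A B)).isCompact
  have hsurj : Function.Surjective (pW A B) := by
    intro t
    obtain ⟨y, hy⟩ := PrimeSpectrum.comap_surjective_of_faithfullyFlat (A := A) (B := B) t.1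
    refine ⟨⟨toT B y, ?_⟩, Subtype.ext hy⟩
    show PrimeSpectrum.comap (algebraMap A B) y ∈ _
    rw [hy]
    exact t.2
  obtain ⟨s, hs, hcomm⟩ := hproj (f := id) (g := pW A B) continuous_id (continuous_pW A B) hsurj
  exact ⟨s, hs, fun t => congrFun hcomm t⟩

end retr

section retr2

variable (A B : Type u) [CommRing A] [CommRing B] [Algebra A B]
  (s : TA A → WW A B) (hs : Continuous s) (hps : ∀ t, pW A B (s t) = t)

/-- the map `T → Spec B` -/
def tauS : TA A → PrimeSpectrum B := fun t => ofT B (s t).1

include hs in
theorem isClopen_tauS (b : B) :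
    IsClopen (tauS A B s ⁻¹' (PrimeSpectrum.basicOpen b : Set (PrimeSpectrum B))) :=
  (isClopen_preimage_basicOpen B b).preimage (continuous_subtype_val.comp hs)

include hps in
theorem comap_tauS (t : TA A) : PrimeSpectrum.comap (algebraMap A B) (tauS A B s t) = t.1 :=
  congrArg Subtype.val (hps t)

variable (hA : ProEtW.IsWLocal (PrimeSpectrum A))

include hA hs hps in
theorem exists_retraction_of_section (hB : EtPBC.IsIndZariski A B) : Nonempty (B →ₐ[A] A) := by
  haveI := compactSpace_CP hA
  haveI := t2Space_CP hA
  haveI : TotallyDisconnectedSpace (TA A) := by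
    haveI := hA.1
    haveI : T2Space (_root_.ConnectedComponents (PrimeSpectrum A)) :=
      Groth.Agent.Lib.SpectralProdH8.t2Space_connectedComponents
    exact (homeoKappa hA).symm.totallyDisconnectedSpace
  have hτ := isClopen_tauS A B s hs
  -- the ring `D`
  have h1 : EtPBC.IdentifiesLocalRings A (BG (tauS A B s)) :=
    identifiesLocalRings_comp A B (BG (tauS A B s)) (identifiesLocalRings_of_isIndZariski hB)
      (identifiesLocalRings_BB (SmG (tauS A B s)) (isOpenFamily_SmG _ hτ))
  have h3 : ProEtW.IsWLocal (PrimeSpectrum (BG (tauS A B s))) := isWLocal_BG _ hτ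
  have hcomap : ∀ q : PrimeSpectrum (BG (tauS A B s)),
      PrimeSpectrum.comap (algebraMap A (BG (tauS A B s))) q =
        PrimeSpectrum.comap (algebraMap A B) (eG (tauS A B s) q).1 := by
    intro q
    rw [eG_fst]
    apply PrimeSpectrum.ext
    ext a
    show algebraMap A (BG (tauS A B s)) a ∈ q.asIdeal ↔
      algebraMap B (BG (tauS A B s)) (algebraMap A B a) ∈ q.asIdeal
    rw [algebraMap_A_BB]
  have h4 : ProEtW.IsWLocalMap (PrimeSpectrum.comap (algebraMap A (BG (tauS A B s)))) := by
    refine ⟨isSpectralMap_comap _, fun q hq => ?_⟩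
    rw [isClosed_singleton_iff_eG _ hτ] at hq
    rw [hcomap, hq, comap_tauS A B s hps]
    exact (eG (tauS A B s) q).2.2
  have h5 : Function.Bijective (PrimeSpectrum.continuous_comap
      (algebraMap A (BG (tauS A B s)))).connectedComponentsMap := by
    obtain ⟨E, hE⟩ : ∃ E : _root_.ConnectedComponents (PrimeSpectrum (BG (tauS A B s))) ≃ₜ TA A,
        ∀ q, E (ConnectedComponents.mk q) = (eG (tauS A B s) q).2 :=
      ⟨pi0HomeoBG (tauS A B s) hτ, fun _ => rfl⟩
    have hfun : (PrimeSpectrum.continuous_comap
        (algebraMap A (BG (tauS A B s)))).connectedComponentsMap = kappa ∘ E := by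
      funext c
      obtain ⟨q, rfl⟩ := ConnectedComponents.surjective_coe c
      rw [Function.comp_apply, hE]
      show (ConnectedComponents.mk (PrimeSpectrum.comap (algebraMap A (BG (tauS A B s))) q) :
        _root_.ConnectedComponents (PrimeSpectrum A)) = ConnectedComponents.mk _
      rw [ConnectedComponents.coe_eq_coe, hcomap]
      apply connectedComponent_eq_of_specializes'
      rw [← PrimeSpectrum.le_iff_specializes, ← comap_tauS A B s hps (eG (tauS A B s) q).2]
      exact Ideal.comap_mono (le_of_eG (tauS A B s) hτ q)
    rw [hfun]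
    exact (bijective_kappa hA).comp E.bijective
  have hbij := Groth.Agent.S0699.result A (BG (tauS A B s)) h1 hA h3 h4 h5
  exact ⟨((AlgEquiv.ofBijective (Algebra.ofId A (BG (tauS A B s))) hbij).symm :
    BG (tauS A B s) →ₐ[A] A).comp (IsScalarTower.toAlgHom A B (BG (tauS A B s)))⟩

end retr2

section main

variable (A : Type u) [CommRing A]

theorem hasRetractions_of_wLocal (hA : ProEtW.IsWLocal (PrimeSpectrum A))
    (hed : ExtremallyDisconnected (_root_.ConnectedComponents (PrimeSpectrum A))) :
    ProEtW.HasIndZariskiRetractions A := by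
  intro B _ _ hff hB
  haveI := hed
  haveI := hff
  obtain ⟨s, hs, hps⟩ := exists_section A B hA
  exact exists_retraction_of_section A B s hs hps hA hB

theorem wLocal_of_hasRetractions (h : ProEtW.HasIndZariskiRetractions A) :
    ProEtW.IsWLocal (PrimeSpectrum A) ∧
      ExtremallyDisconnected (_root_.ConnectedComponents (PrimeSpectrum A)) := by
  obtain ⟨r⟩ := h (BG (tauE A)) (faithfullyFlat_BG (tauE A) (isClopen_tauE A) (tauE_surjective A))
    (isIndZariski_BB (SmG (tauE A)))
  have hwl := isWLocal_BG (tauE A) (isClopen_tauE A)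
  have hrsurj : Function.Surjective r := fun a => ⟨algebraMap A _ a, r.commutes a⟩
  have hemb := PrimeSpectrum.isClosedEmbedding_comap_of_surjective _ (r : BG (tauE A) →+* A) hrsurj
  constructor
  · have h1 := Groth.Agent.S0738.result _ hwl _ hemb.isClosed_range
    exact isWLocal_of_homeomorph hemb.isEmbedding.toHomeomorph h1
  · haveI : T2Space (_root_.ConnectedComponents (PrimeSpectrum A)) :=
      Groth.Agent.Lib.SpectralProdH8.t2Space_connectedComponents
    haveI : T2Space (_root_.ConnectedComponents (PrimeSpectrum (BG (tauE A)))) :=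
      Groth.Agent.Lib.SpectralProdH8.t2Space_connectedComponents
    haveI : ExtremallyDisconnected (_root_.ConnectedComponents (PrimeSpectrum (BG (tauE A)))) :=
      extremallyDisconnected_of_homeo (X := TE A) (pi0HomeoBG (tauE A) (isClopen_tauE A)).symm
    have hprojB : CompactT2.Projective (_root_.ConnectedComponents (PrimeSpectrum (BG (tauE A)))) :=
      CompactT2.ExtremallyDisconnected.projective
    apply CompactT2.Projective.extremallyDisconnected
    intro Y Z _ _ _ _ _ _ f g hf hg hgsurj
    obtain ⟨i, hi⟩ : ∃ i : _root_.ConnectedComponents (PrimeSpectrum A) →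
        _root_.ConnectedComponents (PrimeSpectrum (BG (tauE A))),
        i = (PrimeSpectrum.continuous_comap (r : BG (tauE A) →+* A)).connectedComponentsMap :=
      ⟨_, rfl⟩
    obtain ⟨p, hp⟩ : ∃ p : _root_.ConnectedComponents (PrimeSpectrum (BG (tauE A))) →
        _root_.ConnectedComponents (PrimeSpectrum A),
        p = (PrimeSpectrum.continuous_comap (algebraMap A (BG (tauE A)))).connectedComponentsMap :=
      ⟨_, rfl⟩
    have hicont : Continuous i := hi ▸ Continuous.connectedComponentsMap_continuous _
    have hpcont : Continuous p := hp ▸ Continuous.connectedComponentsMap_continuous _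
    have hpi : ∀ c, p (i c) = c := by
      intro c
      obtain ⟨x, rfl⟩ := ConnectedComponents.surjective_coe c
      rw [hi, hp]
      show (ConnectedComponents.mk (PrimeSpectrum.comap (algebraMap A (BG (tauE A)))
        (PrimeSpectrum.comap (r : BG (tauE A) →+* A) x)) :
        _root_.ConnectedComponents (PrimeSpectrum A)) = ConnectedComponents.mk x
      congr 1
      apply PrimeSpectrum.ext
      ext a
      show r (algebraMap A (BG (tauE A)) a) ∈ x.asIdeal ↔ a ∈ x.asIdeal
      rw [r.commutes]
      rfl
    obtain ⟨h', hh', hcomm⟩ := hprojB (f := f ∘ p) (g := g) (hf.comp hpcont) hg hgsurj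
    refine ⟨h' ∘ i, hh'.comp hicont, ?_⟩
    funext c
    have := congrFun hcomm (i c)
    simp only [Function.comp_apply] at this ⊢
    rw [this, hpi]

theorem main0678 :
    ProEtW.HasIndZariskiRetractions A ↔
      (ProEtW.IsWLocal (PrimeSpectrum A) ∧
        ExtremallyDisconnected (_root_.ConnectedComponents (PrimeSpectrum A))) :=
  ⟨wLocal_of_hasRetractions A, fun h => hasRetractions_of_wLocal A h.1 h.2⟩

end main

end Groth.Agent.Lib.ProfLocH3
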