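import Mathlib
import Groth.Agent.Lib.WContr1_helper8

set_option autoImplicit false
universe u

namespace WContrH8

open Polynomial IsLocalRing

section

variable {A : Type u} [CommRing A] (m : Ideal A) [m.IsPrime]

/-- The canonical map `A_s → A_m` for `s ∉ m`. -/
noncomputable def iota (s : A) (hs : s ∉ m) : Localization.Away s →+* Localization.AtPrime m :=
  IsLocalization.Away.lift s (IsLocalization.map_units (Localization.AtPrime m)
    (⟨s, hs⟩ : m.primeCompl))

theorem iota_algebraMap (s : A) (hs : s ∉ m) (a : A) :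
    iota m s hs (algebraMap A (Localization.Away s) a) = algebraMap A (Localization.AtPrime m) a :=
  IsLocalization.Away.lift_eq _ _ a

theorem mem_range_iota (s : A) (hs : s ∉ m) (c : Localization.AtPrime m) (a : A)
    (hc : s • c = algebraMap A (Localization.AtPrime m) a) : c ∈ Set.range (iota m s hs) := by
  refine ⟨algebraMap A (Localization.Away s) a * IsLocalization.Away.invSelf s, ?_⟩
  have hu : algebraMap A (Localization.AtPrime m) s *
      iota m s hs (IsLocalization.Away.invSelf s) = 1 := by
    rw [← iota_algebraMap m s hs s, ← map_mul, IsLocalization.Away.mul_invSelf, map_one]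
  rw [map_mul, iota_algebraMap, ← hc, Algebra.smul_def]
  calc algebraMap A (Localization.AtPrime m) s * c * iota m s hs (IsLocalization.Away.invSelf s)
      = c * (algebraMap A (Localization.AtPrime m) s *
          iota m s hs (IsLocalization.Away.invSelf s)) := by ring
    _ = c := by rw [hu, mul_one]

theorem exists_descent_poly (F : (Localization.AtPrime m)[X]) (hF : F.Monic)
    (a₀ : Localization.AtPrime m) :
    ∃ (s : A) (hs : s ∉ m) (F_s : (Localization.Away s)[X]) (α : Localization.Away s),
      F_s.Monic ∧ F_s.map (iota m s hs) = F ∧ iota m s hs α = a₀ := by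
  classical
  obtain ⟨b, hb⟩ := IsLocalization.exist_integer_multiples_of_finset m.primeCompl
    (insert a₀ F.coeffs)
  have hs : (b : A) ∉ m := b.2
  have hrange : ∀ c ∈ insert a₀ F.coeffs, c ∈ Set.range (iota m b hs) := by
    intro c hc
    obtain ⟨a, ha⟩ := hb c hc
    exact mem_range_iota m b hs c a ha.symm
  have hlift : F ∈ Polynomial.lifts (iota m b hs) := by
    rw [Polynomial.lifts_iff_coeff_lifts]
    intro n
    by_cases h0 : F.coeff n = 0
    · rw [h0]; exact ⟨0, map_zero _⟩
    · exact hrange _ (Finset.mem_insert_of_mem (Polynomial.coeff_mem_coeffs h0))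
  obtain ⟨F_s, hFs, -, hmon⟩ := Polynomial.lifts_and_natDegree_eq_and_monic hlift hF
  obtain ⟨α, hα⟩ := hrange a₀ (Finset.mem_insert_self _ _)
  exact ⟨b, hs, F_s, α, hmon, hFs, hα⟩

end

/-- Lemma E: points of standard étale algebras over `A_s` lift to `A_m`. -/
theorem exists_hasMap (A : Type u) [CommRing A] (h : ProEtW.HasEtaleRetractions A)
    (m : Ideal A) [m.IsMaximal] (s : A) (hs : s ∉ m)
    (P : StandardEtalePair (Localization.Away s)) (Ω : Type u) [Field Ω]
    (χ : Localization.AtPrime m →+* Ω)
    (hχ : ∀ r, χ r = 0 ↔ r ∈ maximalIdeal (Localization.AtPrime m)) (xb : Ω)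
    (h1 : P.f.eval₂ (χ.comp (iota m s hs)) xb = 0)
    (h2 : P.g.eval₂ (χ.comp (iota m s hs)) xb ≠ 0) :
    ∃ x : Localization.AtPrime m, P.f.eval₂ (iota m s hs) x = 0 ∧
      IsUnit (P.g.eval₂ (iota m s hs) x) := by
  letI : Algebra (Localization.Away s) Ω := (χ.comp (iota m s hs)).toAlgebra
  have hmap : P.HasMap xb := ⟨h1, (isUnit_iff_ne_zero).mpr h2⟩
  let θ : P.Ring →ₐ[Localization.Away s] Ω := P.lift xb hmap
  letI : Algebra A P.Ring :=
    ((algebraMap (Localization.Away s) P.Ring).comp (algebraMap A (Localization.Away s))).toAlgebra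
  haveI : IsScalarTower A (Localization.Away s) P.Ring :=
    IsScalarTower.of_algebraMap_eq (fun _ => rfl)
  haveI : Algebra.Etale A P.Ring := Algebra.Etale.comp A (Localization.Away s) P.Ring
  haveI : (RingHom.ker θ.toRingHom).IsPrime := RingHom.ker_isPrime _
  have hq : (RingHom.ker θ.toRingHom).comap (algebraMap A P.Ring) = m := by
    ext a
    rw [Ideal.mem_comap, RingHom.mem_ker]
    have e1 : θ.toRingHom (algebraMap A P.Ring a) =
        χ (algebraMap A (Localization.AtPrime m) a) := by
      rw [IsScalarTower.algebraMap_apply A (Localization.Away s) P.Ring]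
      show θ (algebraMap (Localization.Away s) P.Ring _) = _
      rw [AlgHom.commutes]
      show χ (iota m s hs _) = _
      rw [iota_algebraMap]
    rw [e1, hχ, IsLocalization.AtPrime.to_map_mem_maximal_iff (Localization.AtPrime m) m]
  obtain ⟨φ'⟩ := exists_algHom_of_etale A h m P.Ring (RingHom.ker θ.toRingHom) hq
  have hι : φ'.toRingHom.comp (algebraMap (Localization.Away s) P.Ring) = iota m s hs := by
    apply IsLocalization.ringHom_ext (Submonoid.powers s)
    ext a
    simp only [RingHom.comp_apply]
    rw [iota_algebraMap, ← IsScalarTower.algebraMap_apply A (Localization.Away s) P.Ring]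
    exact φ'.commutes a
  refine ⟨φ' P.X, ?_, ?_⟩
  · rw [← hι]
    have : eval₂ (φ'.toRingHom.comp (algebraMap (Localization.Away s) P.Ring)) (φ' P.X) P.f =
        φ' (aeval P.X P.f) :=
      (Polynomial.hom_eval₂ P.f (algebraMap _ P.Ring) φ'.toRingHom P.X).symm
    rw [this, P.hasMap_X.1, map_zero]
  · rw [← hι]
    have : eval₂ (φ'.toRingHom.comp (algebraMap (Localization.Away s) P.Ring)) (φ' P.X) P.g =
        φ' (aeval P.X P.g) :=
      (Polynomial.hom_eval₂ P.g (algebraMap _ P.Ring) φ'.toRingHom P.X).symm
    rw [this]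
    exact P.hasMap_X.2.map φ'

end WContrH8
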