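import Mathlib
import Groth.Agent.Lib.WContr2_helper8

set_option autoImplicit false
universe u

namespace WContrH8

open Polynomial IsLocalRing

theorem henselianLocalRing (A : Type u) [CommRing A] (h : ProEtW.HasEtaleRetractions A)
    (m : Ideal A) [m.IsMaximal] : HenselianLocalRing (Localization.AtPrime m) := by
  refine { is_henselian := ?_ }
  intro F hF a₀ h₁ h₂
  obtain ⟨s, hs, F_s, α, hmon, hFs, hα⟩ := exists_descent_poly m F hF a₀
  obtain ⟨H_s, hH⟩ : ∃ H_s, F_s = (X - C α) * H_s + C (F_s.eval α) := ⟨F_s /ₘ (X - C α), by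
    have h3 := Polynomial.modByMonic_add_div F_s (X - C α)
    rw [Polynomial.modByMonic_X_sub_C_eq_C_eval] at h3
    rw [add_comm]
    exact h3.symm⟩
  have hder : derivative F_s = H_s + (X - C α) * derivative H_s := by
    conv_lhs => rw [hH]
    simp only [derivative_add, derivative_mul, derivative_sub, derivative_X, derivative_C, sub_zero,
      one_mul, add_zero]
  let P : StandardEtalePair (Localization.Away s) :=
    ⟨F_s, hmon, derivative F_s * H_s, ⟨H_s, 0, 1, by ring⟩⟩
  obtain ⟨ι, hι⟩ : ∃ ι, ι = iota m s hs := ⟨_, rfl⟩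
  have e1 : eval₂ ι a₀ F_s = eval a₀ F := by rw [← hFs, eval_map, hι]
  have e2 : eval₂ ι a₀ (derivative F_s) = eval a₀ (derivative F) := by
    rw [← hFs, derivative_map, eval_map, hι]
  have e3 : eval₂ ι a₀ H_s = eval a₀ (derivative F) := by
    rw [← e2, hder, eval₂_add, eval₂_mul, eval₂_sub, eval₂_X, eval₂_C, hι, hα, sub_self, zero_mul,
      add_zero]
  have hres : residue (Localization.AtPrime m) (eval a₀ (derivative F)) ≠ 0 := by
    intro h0
    exact (mem_nonunits_iff.mp ((residue_eq_zero_iff _).mp h0)) h₂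
  obtain ⟨x, hx1, hx2⟩ := exists_hasMap A h m s hs P (ResidueField (Localization.AtPrime m))
    (residue (Localization.AtPrime m)) (fun r => residue_eq_zero_iff r)
    (residue (Localization.AtPrime m) a₀)
    (by
      show eval₂ ((residue (Localization.AtPrime m)).comp (iota m s hs))
        (residue (Localization.AtPrime m) a₀) F_s = 0
      rw [← hι, ← Polynomial.hom_eval₂, e1]
      exact (residue_eq_zero_iff _).mpr h₁)
    (by
      show eval₂ ((residue (Localization.AtPrime m)).comp (iota m s hs))
        (residue (Localization.AtPrime m) a₀) (derivative F_s * H_s) ≠ 0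
      rw [← hι, ← Polynomial.hom_eval₂, eval₂_mul, e2, e3, map_mul]
      exact mul_ne_zero hres hres)
  rw [← hι] at hx1 hx2
  refine ⟨x, ?_, ?_⟩
  · show eval x F = 0
    rw [← hFs, eval_map, ← hι]
    exact hx1
  · have hHx : IsUnit (eval₂ ι x H_s) := by
      have h4 : eval₂ ι x (derivative F_s * H_s) =
          eval₂ ι x (derivative F_s) * eval₂ ι x H_s := eval₂_mul _ _
      have hx2' : IsUnit (eval₂ ι x (derivative F_s * H_s)) := hx2
      rw [h4] at hx2'
      exact isUnit_of_mul_isUnit_right hx2'
    have hid : eval₂ ι x F_s = (x - a₀) * eval₂ ι x H_s + eval a₀ F := by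
      have hα' : ι α = a₀ := by rw [hι]; exact hα
      have h5 : ι (eval α F_s) = eval a₀ F := by
        rw [← e1, ← hα']
        exact (Polynomial.eval₂_at_apply ι α).symm
      conv_lhs => rw [hH]
      rw [eval₂_add, eval₂_mul, eval₂_sub, eval₂_X, eval₂_C, eval₂_C, hα', h5]
    have hx1' : eval₂ ι x F_s = 0 := hx1
    rw [hx1'] at hid
    have hmem : (x - a₀) * eval₂ ι x H_s ∈ maximalIdeal (Localization.AtPrime m) := by
      have h6 : (x - a₀) * eval₂ ι x H_s = - eval a₀ F := by linear_combination -hid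
      rw [h6]
      exact neg_mem h₁
    rcases (maximalIdeal.isMaximal (Localization.AtPrime m)).isPrime.mem_or_mem hmem with h7 | h7
    · exact h7
    · exact absurd hHx (mem_nonunits_iff.mp h7)

theorem isSepClosed_residueField (A : Type u) [CommRing A] (h : ProEtW.HasEtaleRetractions A)
    (m : Ideal A) [m.IsMaximal] : IsSepClosed (ResidueField (Localization.AtPrime m)) := by
  apply IsSepClosed.of_exists_root
  intro p hpm hpirr hpsep
  have hlift : p ∈ lifts (residue (Localization.AtPrime m)) := by
    rw [lifts_iff_coeff_lifts]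
    intro n
    exact residue_surjective _
  obtain ⟨F, hFp, -, hFm⟩ := lifts_and_natDegree_eq_and_monic hlift hpm
  obtain ⟨s, hs, F_s, α, hmon, hFs, -⟩ := exists_descent_poly m F hFm 0
  let P : StandardEtalePair (Localization.Away s) :=
    ⟨F_s, hmon, derivative F_s, ⟨1, 0, 1, by ring⟩⟩
  haveI : Fact (Irreducible p) := ⟨hpirr⟩
  obtain ⟨χ, hχdef⟩ : ∃ χ : Localization.AtPrime m →+* AdjoinRoot p,
      χ = (AdjoinRoot.of p).comp (residue (Localization.AtPrime m)) := ⟨_, rfl⟩
  have hχ : ∀ r, χ r = 0 ↔ r ∈ maximalIdeal (Localization.AtPrime m) := fun r => by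
    rw [hχdef, RingHom.comp_apply, map_eq_zero_iff _ (AdjoinRoot.of p).injective,
      residue_eq_zero_iff]
  have hmapF : F_s.map (χ.comp (iota m s hs)) = p.map (AdjoinRoot.of p) := by
    have h8 : (F.map (residue (Localization.AtPrime m))).map (AdjoinRoot.of p) =
        p.map (AdjoinRoot.of p) := congrArg (Polynomial.map (AdjoinRoot.of p)) hFp
    rw [← h8, ← hFs, Polynomial.map_map, Polynomial.map_map, hχdef]
  obtain ⟨x, hx1, -⟩ := exists_hasMap A h m s hs P (AdjoinRoot p) χ hχ (AdjoinRoot.root p)
    (by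
      show eval₂ (χ.comp (iota m s hs)) (AdjoinRoot.root p) F_s = 0
      rw [← eval_map, hmapF, eval_map, AdjoinRoot.eval₂_root])
    (by
      show eval₂ (χ.comp (iota m s hs)) (AdjoinRoot.root p) (derivative F_s) ≠ 0
      rw [← eval_map, ← derivative_map, hmapF, derivative_map, eval_map]
      obtain ⟨a, b, hab⟩ := hpsep
      intro h0
      have h3 := congrArg (eval₂ (AdjoinRoot.of p) (AdjoinRoot.root p)) hab
      rw [eval₂_add, eval₂_mul, eval₂_mul, AdjoinRoot.eval₂_root, h0, mul_zero, mul_zero,
        add_zero, eval₂_one] at h3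
      exact zero_ne_one h3)
  refine ⟨residue (Localization.AtPrime m) x, ?_⟩
  have h4 : eval x F = 0 := by
    rw [← hFs, eval_map]
    exact hx1
  rw [← hFp, eval_map, Polynomial.eval₂_at_apply, h4, map_zero]

end WContrH8
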