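import Mathlib
import Groth.Prelude.Def_ProEtW
import Groth.Agent.Lib.EssEt_lead
import Groth.Agent.Lib.WLocz9_helper3
import Groth.Agent.Lib.WEIndEt5_helper3
import Groth.Agent.S0778
import Groth.Agent.S0675

/-!
# Étale algebras over strictly henselian local rings; ind-étale maps identify local rings at
points over strictly henselian points (helper3)
-/

set_option autoImplicit false
set_option linter.all false
set_option maxHeartbeats 1600000

universe u

open CategoryTheory Limits Topology

namespace Groth.Agent.Lib.ProfLocH3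

section alpha

open IsLocalRing

variable {A D' : Type u} [CommRing A] [CommRing D'] [Algebra A D'] [Algebra.Etale A D']
  (q' : Ideal D') [hq' : q'.IsPrime] (m : Ideal A) [hm : m.IsPrime]
  (hmq : m = q'.comap (algebraMap A D'))

/-- For an étale `A`-algebra `D'` and a prime `q'` over a prime `m` with `A_m` strictly henselian,
`A_m → D'_{q'}` is bijective. -/
theorem bijective_localRingHom_of_etale [hH : HenselianLocalRing (Localization.AtPrime m)]
    [hS : IsSepClosed (ResidueField (Localization.AtPrime m))] :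
    Function.Bijective (Localization.localRingHom m q' (algebraMap A D') hmq) := by
  obtain ⟨L, hL⟩ : ∃ L : Localization.AtPrime m →+* Localization.AtPrime q',
      L = Localization.localRingHom m q' (algebraMap A D') hmq := ⟨_, rfl⟩
  rw [← hL]
  letI algRS : Algebra (Localization.AtPrime m) (Localization.AtPrime q') := L.toAlgebra
  have hLa : ∀ a : A, L (algebraMap A (Localization.AtPrime m) a) =
      algebraMap A (Localization.AtPrime q') a := by
    intro a
    rw [hL, Localization.localRingHom_to_map, ← IsScalarTower.algebraMap_apply A D']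
  haveI : IsScalarTower A (Localization.AtPrime m) (Localization.AtPrime q') :=
    IsScalarTower.of_algebraMap_eq (fun a => (hLa a).symm)
  haveI : IsLocalHom (algebraMap (Localization.AtPrime m) (Localization.AtPrime q')) := by
    show IsLocalHom L
    rw [hL]
    exact Localization.isLocalHom_localRingHom m q' _ hmq
  haveI : Algebra.FormallyEtale D' (Localization.AtPrime q') :=
    Algebra.FormallyEtale.of_isLocalization q'.primeCompl
  haveI : Algebra.FormallyUnramified A (Localization.AtPrime q') :=
    Algebra.FormallyUnramified.comp A D' (Localization.AtPrime q')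
  haveI : Algebra.FormallyUnramified (Localization.AtPrime m) (Localization.AtPrime q') :=
    Algebra.FormallyUnramified.of_restrictScalars A _ _
  haveI : Algebra.EssFiniteType A (Localization.AtPrime q') :=
    Algebra.EssFiniteType.comp A D' (Localization.AtPrime q')
  haveI : Algebra.EssFiniteType (Localization.AtPrime m) (Localization.AtPrime q') :=
    Algebra.EssFiniteType.of_comp A _ _
  have hsurj : Function.Surjective (algebraMap (ResidueField (Localization.AtPrime m))
      (ResidueField (Localization.AtPrime q'))) := IsSepClosed.algebraMap_surjective _ _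
  have hinj : Function.Injective (algebraMap (ResidueField (Localization.AtPrime m))
      (ResidueField (Localization.AtPrime q'))) :=
    (algebraMap (ResidueField (Localization.AtPrime m))
      (ResidueField (Localization.AtPrime q'))).injective
  obtain ⟨ι, hι⟩ : ∃ ι : ResidueField (Localization.AtPrime m) ≃+*
      ResidueField (Localization.AtPrime q'), ∀ x, ι x = algebraMap _ _ x :=
    ⟨RingEquiv.ofBijective _ ⟨hinj, hsurj⟩, fun _ => rfl⟩
  have hιres : ∀ r : Localization.AtPrime m,
      ι (residue _ r) = residue _ (L r) := fun r => by rw [hι]; rfl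
  -- the residue point
  let r₁ : D' →+* ResidueField (Localization.AtPrime m) :=
    (ι.symm : _ →+* _).comp ((residue (Localization.AtPrime q')).comp
      (algebraMap D' (Localization.AtPrime q')))
  have hr₁ : ∀ c, ι (r₁ c) = residue _ (algebraMap D' (Localization.AtPrime q') c) := fun c =>
    ι.apply_symm_apply _
  let ρ : D' →ₐ[A] ResidueField (Localization.AtPrime m) :=
    { r₁ with
      commutes' := fun a => by
        show r₁ (algebraMap A D' a) = algebraMap A (ResidueField (Localization.AtPrime m)) a
        apply ι.injective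
        rw [hr₁, ← IsScalarTower.algebraMap_apply, ← hLa, ← hιres,
          IsScalarTower.algebraMap_apply A (Localization.AtPrime m)
            (ResidueField (Localization.AtPrime m)), ResidueField.algebraMap_eq] }
  have hρ : ∀ c, ρ c = 0 ↔ c ∈ q' := by
    intro c
    show r₁ c = 0 ↔ c ∈ q'
    rw [← ι.map_eq_zero_iff, hr₁, residue_eq_zero_iff,
      IsLocalization.AtPrime.to_map_mem_maximal_iff _ q']
  obtain ⟨φ, hφ⟩ := Groth.Agent.Lib.EssEt.exists_lift_of_henselian q' ρ hρ
  -- `φ ∘ L = id`
  have h1 : (φ : Localization.AtPrime q' →+* Localization.AtPrime m).comp L = RingHom.id _ := by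
    apply IsLocalization.ringHom_ext m.primeCompl
    ext a
    simp only [RingHom.comp_apply, RingHom.id_apply]
    rw [hLa]
    exact φ.commutes a
  -- `L ∘ φ = id`
  have h2 : L.comp (φ : Localization.AtPrime q' →+* Localization.AtPrime m) = RingHom.id _ := by
    apply IsLocalization.ringHom_ext q'.primeCompl
    let Lalg : Localization.AtPrime m →ₐ[A] Localization.AtPrime q' :=
      { L with commutes' := hLa }
    have key := Groth.Agent.Lib.EssEt.algHom_eq_of_residue_eq (A := A) (C := D')
      (B := Localization.AtPrime q')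
      ((Lalg.comp φ).comp (IsScalarTower.toAlgHom A D' (Localization.AtPrime q')))
      (IsScalarTower.toAlgHom A D' (Localization.AtPrime q')) (fun c => by
        rw [← residue_eq_zero_iff, map_sub, sub_eq_zero]
        show residue _ (L (φ (algebraMap D' _ c))) = residue _ (algebraMap D' _ c)
        rw [← hιres, hφ, ← hr₁]
        rfl)
    ext c
    exact DFunLike.congr_fun key c
  constructor
  · intro x y hxy
    have := congrArg φ hxy
    have hx := DFunLike.congr_fun h1 x
    have hy := DFunLike.congr_fun h1 y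
    simp only [RingHom.comp_apply, RingHom.id_apply] at hx hy
    rw [← hx, ← hy]
    exact this
  · intro y
    exact ⟨φ y, DFunLike.congr_fun h2 y⟩

end alpha

section stage2

variable {A B : Type u} [CommRing A] [CommRing B] [Algebra A B]
  {D' : Type u} [CommRing D'] [Algebra A D'] (f : D' →ₐ[A] B)
  (q : Ideal B) [hq : q.IsPrime]
  (hbij : ∀ (qj : Ideal D') [qj.IsPrime], qj = q.comap f.toRingHom →
    Function.Bijective
      (Localization.localRingHom (qj.comap (algebraMap A D')) qj (algebraMap A D') rfl))

include hq hbij in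
theorem stage_surj' (yb ys : D') (hys : f ys ∉ q) :
    ∃ a a' : A, algebraMap A B a' ∉ q ∧ ∃ c : D', f c ∉ q ∧
      c * (ys * algebraMap A D' a) = c * (algebraMap A D' a' * yb) := by
  obtain ⟨qj, hqj⟩ : ∃ qj : Ideal D', qj = q.comap f.toRingHom := ⟨_, rfl⟩
  haveI : qj.IsPrime := hqj ▸ Ideal.IsPrime.comap f.toRingHom
  have hmem : ∀ y : D', y ∈ qj ↔ f y ∈ q := fun y => by rw [hqj]; rfl
  have hbij' := hbij qj hqj
  obtain ⟨z, hz⟩ := hbij'.2 (IsLocalization.mk' _ yb (⟨ys, fun h => hys ((hmem ys).1 h)⟩ : qj.primeCompl))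
  obtain ⟨a, a', rfl⟩ := IsLocalization.exists_mk'_eq (qj.comap (algebraMap A D')).primeCompl z
  rw [Localization.localRingHom_mk', IsLocalization.eq] at hz
  obtain ⟨c, hc⟩ := hz
  refine ⟨a, a', ?_, c, fun h => c.2 ((hmem _).2 h), hc⟩
  intro h
  apply a'.2
  show algebraMap A D' a' ∈ qj
  rw [hmem, f.commutes]
  exact h

include hq hbij in
theorem stage_inj' (a : A) (t : D') (ht : f t ∉ q) (hta : t * algebraMap A D' a = 0) :
    ∃ u : A, algebraMap A B u ∉ q ∧ u * a = 0 := by
  obtain ⟨qj, hqj⟩ : ∃ qj : Ideal D', qj = q.comap f.toRingHom := ⟨_, rfl⟩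
  haveI : qj.IsPrime := hqj ▸ Ideal.IsPrime.comap f.toRingHom
  have hmem : ∀ y : D', y ∈ qj ↔ f y ∈ q := fun y => by rw [hqj]; rfl
  have hbij' := hbij qj hqj
  have h0 : Localization.localRingHom (qj.comap (algebraMap A D')) qj (algebraMap A D') rfl
      (IsLocalization.mk' _ a (1 : (qj.comap (algebraMap A D')).primeCompl)) = 0 := by
    rw [Localization.localRingHom_mk', IsLocalization.mk'_eq_zero_iff]
    exact ⟨⟨t, fun h => ht ((hmem t).1 h)⟩, hta⟩
  have h1 := hbij'.1 (h0.trans (map_zero _).symm)
  rw [IsLocalization.mk'_eq_zero_iff] at h1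
  obtain ⟨u, hu⟩ := h1
  refine ⟨u, ?_, hu⟩
  intro h
  apply u.2
  show algebraMap A D' u ∈ qj
  rw [hmem, f.commutes]
  exact h

end stage2

section colim

variable {A B : Type u} [CommRing A] [CommRing B] [Algebra A B]

open Groth.Agent.Lib.IndEtaleH3

theorem bijective_localRingHom_of_colimit {J : Type u} [SmallCategory J] [IsFiltered J]
    {D : J ⥤ Under (CommRingCat.of A)} (c : Cocone D) (hc : IsColimit c)
    (e : c.pt ≅ Under.mk (CommRingCat.ofHom (algebraMap A B))) (q : Ideal B) [hq : q.IsPrime]
    (hstage : ∀ j, letI := algObj D j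
      ∀ (qj : Ideal (D.obj j).right) [qj.IsPrime], qj = q.comap (ιB c e j).toRingHom →
        Function.Bijective (Localization.localRingHom (qj.comap (algebraMap A (D.obj j).right)) qj
          (algebraMap A (D.obj j).right) rfl)) :
    Function.Bijective
      (Localization.localRingHom (q.comap (algebraMap A B)) q (algebraMap A B) rfl) := by
  constructor
  · rw [injective_iff_map_eq_zero]
    intro z hz
    obtain ⟨a, a', rfl⟩ := IsLocalization.exists_mk'_eq
      (q.comap (algebraMap A B)).primeCompl z
    rw [Localization.localRingHom_mk', IsLocalization.mk'_eq_zero_iff] at hz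
    obtain ⟨t, ht⟩ := hz
    obtain ⟨j, yt, hyt⟩ := exists_ιB c e hc (t : B)
    letI := algObj D j
    have h0 : ιB c e j (yt * algebraMap A (D.obj j).right a) = 0 := by
      rw [map_mul, hyt, AlgHom.commutes]
      exact ht
    obtain ⟨k, tr, hk⟩ := ιB_eq_zero c e hc h0
    letI := algObj D k
    have hk' : trB D tr yt * algebraMap A (D.obj k).right a = 0 := by
      rw [map_mul, AlgHom.commutes] at hk
      exact hk
    have hnot : ιB c e k (trB D tr yt) ∉ q := by
      rw [ιB_trB, hyt]
      exact t.2
    obtain ⟨u, hu1, hu2⟩ := stage_inj' (ιB c e k) q (hstage k) a (trB D tr yt) hnot hk'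
    rw [IsLocalization.mk'_eq_zero_iff]
    exact ⟨⟨u, hu1⟩, hu2⟩
  · intro w
    obtain ⟨b, s, rfl⟩ := IsLocalization.exists_mk'_eq q.primeCompl w
    obtain ⟨j₁, yb, hyb⟩ := exists_ιB c e hc b
    obtain ⟨j₂, ys, hys⟩ := exists_ιB c e hc (s : B)
    obtain ⟨k, t₁, t₂⟩ : ∃ k, Nonempty (j₁ ⟶ k) ∧ Nonempty (j₂ ⟶ k) :=
      ⟨IsFiltered.max j₁ j₂, ⟨IsFiltered.leftToMax j₁ j₂⟩, ⟨IsFiltered.rightToMax j₁ j₂⟩⟩
    obtain ⟨t₁⟩ := t₁
    obtain ⟨t₂⟩ := t₂
    letI := algObj D k
    have hb' : ιB c e k (trB D t₁ yb) = b := by rw [ιB_trB, hyb]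
    have hs' : ιB c e k (trB D t₂ ys) = s := by rw [ιB_trB, hys]
    obtain ⟨a, a', ha', cc, hcc, heq⟩ := stage_surj' (ιB c e k) q (hstage k) (trB D t₁ yb)
      (trB D t₂ ys) (by rw [hs']; exact s.2)
    refine ⟨IsLocalization.mk' _ a (⟨a', ha'⟩ : (q.comap (algebraMap A B)).primeCompl), ?_⟩
    rw [Localization.localRingHom_mk', IsLocalization.eq]
    refine ⟨⟨ιB c e k cc, hcc⟩, ?_⟩
    have := congrArg (ιB c e k) heq
    simp only [map_mul, AlgHom.commutes, hb', hs'] at this
    exact this

/-- An ind-étale map identifies local rings at primes over strictly henselian points. -/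
theorem bijective_localRingHom_of_isIndEtale (h : EtPBC.IsIndEtale A B) (q : Ideal B)
    [hq : q.IsPrime] [hH : HenselianLocalRing (Localization.AtPrime (q.comap (algebraMap A B)))]
    [hS : IsSepClosed (IsLocalRing.ResidueField
      (Localization.AtPrime (q.comap (algebraMap A B))))] :
    Function.Bijective
      (Localization.localRingHom (q.comap (algebraMap A B)) q (algebraMap A B) rfl) := by
  obtain ⟨J, _, _, D, c, hc, het, ⟨e⟩⟩ := h
  apply bijective_localRingHom_of_colimit c hc e q
  intro j
  letI := algObj D j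
  haveI := het j
  intro qj _ hqj
  have hcomap : q.comap (algebraMap A B) = qj.comap (algebraMap A (D.obj j).right) := by
    rw [hqj, Ideal.comap_comap]
    congr 1
    ext a
    exact ((ιB c e j).commutes a).symm
  exact bijective_localRingHom_of_eq _ _ _ _ hcomap rfl
    (bijective_localRingHom_of_etale qj (q.comap (algebraMap A B)) hcomap)

end colim

section gen

variable {A D : Type u} [CommRing A] [CommRing D] [Algebra A D]

/-- Bijectivity of `A_p → D_q` passes to generalisations. -/
theorem bijective_localRingHom_of_le (q qc : Ideal D) [hq : q.IsPrime] [hqc : qc.IsPrime]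
    (hle : q ≤ qc)
    (h : Function.Bijective
      (Localization.localRingHom (qc.comap (algebraMap A D)) qc (algebraMap A D) rfl)) :
    Function.Bijective
      (Localization.localRingHom (q.comap (algebraMap A D)) q (algebraMap A D) rfl) := by
  -- elementwise forms at `qc`
  have hS : ∀ d : D, ∃ a a' : A, algebraMap A D a' ∉ qc ∧ ∃ c : D, c ∉ qc ∧
      c * (algebraMap A D a' * d) = c * algebraMap A D a := by
    intro d
    obtain ⟨z, hz⟩ := h.2 (IsLocalization.mk' _ d (1 : qc.primeCompl))
    obtain ⟨a, a', rfl⟩ := IsLocalization.exists_mk'_eq (qc.comap (algebraMap A D)).primeCompl z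
    rw [Localization.localRingHom_mk', IsLocalization.eq] at hz
    obtain ⟨c, hc⟩ := hz
    refine ⟨a, a', a'.2, c, c.2, ?_⟩
    have : (c : D) * (((1 : qc.primeCompl) : D) * algebraMap A D a) =
        c * (algebraMap A D a' * d) := hc
    rw [Submonoid.coe_one, one_mul] at this
    exact this.symm
  have hI : ∀ a : A, (∃ t : D, t ∉ qc ∧ t * algebraMap A D a = 0) →
      ∃ u : A, algebraMap A D u ∉ qc ∧ u * a = 0 := by
    rintro a ⟨t, ht, hta⟩
    have h0 : Localization.localRingHom (qc.comap (algebraMap A D)) qc (algebraMap A D) rfl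
        (IsLocalization.mk' _ a (1 : (qc.comap (algebraMap A D)).primeCompl)) = 0 := by
      rw [Localization.localRingHom_mk', IsLocalization.mk'_eq_zero_iff]
      exact ⟨⟨t, ht⟩, hta⟩
    have h1 := h.1 (h0.trans (map_zero _).symm)
    rw [IsLocalization.mk'_eq_zero_iff] at h1
    obtain ⟨u, hu⟩ := h1
    exact ⟨u, u.2, hu⟩
  have hnot : ∀ x : D, x ∉ qc → x ∉ q := fun x hx hxq => hx (hle hxq)
  -- fractions for elements outside `q`
  have hfrac : ∀ s : D, s ∉ q → ∃ a₂ a₂' : A, algebraMap A D a₂' ∉ qc ∧ algebraMap A D a₂ ∉ q ∧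
      ∃ c₂ : D, c₂ ∉ qc ∧ c₂ * (algebraMap A D a₂' * s) = c₂ * algebraMap A D a₂ := by
    intro s hs
    obtain ⟨a₂, a₂', ha₂', c₂, hc₂, heq⟩ := hS s
    refine ⟨a₂, a₂', ha₂', ?_, c₂, hc₂, heq⟩
    intro hmem
    have h1 : c₂ * (algebraMap A D a₂' * s) ∈ q := by
      rw [heq]
      exact q.mul_mem_left _ hmem
    rcases hq.mem_or_mem h1 with h2 | h2
    · exact hnot _ hc₂ h2
    · rcases hq.mem_or_mem h2 with h3 | h3
      · exact hnot _ ha₂' h3
      · exact hs h3
  constructor
  · rw [injective_iff_map_eq_zero]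
    intro z hz
    obtain ⟨a, a', rfl⟩ := IsLocalization.exists_mk'_eq (q.comap (algebraMap A D)).primeCompl z
    rw [Localization.localRingHom_mk', IsLocalization.mk'_eq_zero_iff] at hz
    obtain ⟨t, ht⟩ := hz
    obtain ⟨a₂, a₂', ha₂', ha₂, c₂, hc₂, heq⟩ := hfrac t t.2
    have h0 : c₂ * algebraMap A D (a₂ * a) = 0 := by
      rw [map_mul, ← mul_assoc, ← heq]
      have : c₂ * (algebraMap A D a₂' * (t : D)) * algebraMap A D a =
          c₂ * algebraMap A D a₂' * ((t : D) * algebraMap A D a) := by ring
      rw [this, ht, mul_zero]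
    obtain ⟨u, hu1, hu2⟩ := hI (a₂ * a) ⟨c₂, hc₂, h0⟩
    rw [IsLocalization.mk'_eq_zero_iff]
    refine ⟨⟨u * a₂, ?_⟩, ?_⟩
    · intro hmem
      have hmem' : algebraMap A D u * algebraMap A D a₂ ∈ q := by
        rw [← map_mul]
        exact hmem
      rcases hq.mem_or_mem hmem' with h2 | h2
      · exact hnot _ hu1 h2
      · exact ha₂ h2
    · show u * a₂ * a = 0
      rw [mul_assoc]
      exact hu2
  · intro w
    obtain ⟨d, s, rfl⟩ := IsLocalization.exists_mk'_eq q.primeCompl w
    obtain ⟨a, a', ha', c, hc, heq⟩ := hS d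
    obtain ⟨a₂, a₂', ha₂', ha₂, c₂, hc₂, heq₂⟩ := hfrac s s.2
    have hden : a' * a₂ ∈ (q.comap (algebraMap A D)).primeCompl := by
      intro hmem
      have hmem' : algebraMap A D a' * algebraMap A D a₂ ∈ q := by
        rw [← map_mul]
        exact hmem
      rcases hq.mem_or_mem hmem' with h2 | h2
      · exact hnot _ ha' h2
      · exact ha₂ h2
    refine ⟨IsLocalization.mk' _ (a * a₂') ⟨a' * a₂, hden⟩, ?_⟩
    rw [Localization.localRingHom_mk', IsLocalization.eq]
    refine ⟨⟨c * c₂, ?_⟩, ?_⟩
    · intro hmem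
      rcases hq.mem_or_mem hmem with h2 | h2
      · exact hnot _ hc h2
      · exact hnot _ hc₂ h2
    · show c * c₂ * ((s : D) * algebraMap A D (a * a₂')) =
        c * c₂ * (algebraMap A D (a' * a₂) * d)
      rw [map_mul, map_mul]
      have e1 : c * c₂ * ((s : D) * (algebraMap A D a * algebraMap A D a₂')) =
          (c₂ * (algebraMap A D a₂' * (s : D))) * (c * algebraMap A D a) := by ring
      have e2 : c * c₂ * (algebraMap A D a' * algebraMap A D a₂ * d) =
          (c₂ * algebraMap A D a₂) * (c * (algebraMap A D a' * d)) := by ring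
      rw [e1, e2, heq₂, heq]

end gen

end Groth.Agent.Lib.ProfLocH3
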