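import Mathlib
import Groth.Prelude.Def_ProEtW
import Groth.Agent.Lib.WLocz10_helper3

/-!
# w-contractible rings: w-local, extremally disconnected `π₀`, strictly henselian local rings
(helper3)
-/

set_option autoImplicit false
set_option linter.all false
set_option maxHeartbeats 1600000

universe u

open CategoryTheory Limits Topology

namespace Groth.Agent.Lib.ProfLocH3

section etaleLocalIso

variable {R S : Type u} [CommRing R] [CommRing S] [Algebra R S]

theorem etale_of_isLocalIso [Algebra.IsLocalIso R S] : Algebra.Etale R S := by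
  rw [← RingHom.etale_algebraMap]
  apply RingHom.Etale.ofLocalizationSpanTarget (algebraMap R S)
    {g : S | Algebra.IsStandardOpenImmersion R (Localization.Away g)}
    (Algebra.IsLocalIso.span_isStandardOpenImmersion_eq_top R S)
  rintro ⟨g, hg⟩
  obtain ⟨r, hr⟩ := hg.exists_away
  rw [← IsScalarTower.algebraMap_eq, RingHom.etale_algebraMap]
  exact Algebra.Etale.of_isLocalizationAway r

end etaleLocalIso

section pointwiseComp

/-- pointwise composition of identifications of local rings -/
theorem bijective_localRingHom_comp (A B C : Type u) [CommRing A] [CommRing B] [CommRing C]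
    [Algebra A B] [Algebra B C] [Algebra A C] [IsScalarTower A B C] (q : Ideal C) [hq : q.IsPrime]
    (hAB : Function.Bijective (Localization.localRingHom
      ((q.comap (algebraMap B C)).comap (algebraMap A B)) (q.comap (algebraMap B C))
      (algebraMap A B) rfl))
    (hBC : Function.Bijective (Localization.localRingHom (q.comap (algebraMap B C)) q
      (algebraMap B C) rfl)) :
    Function.Bijective (Localization.localRingHom (q.comap (algebraMap A C)) q
      (algebraMap A C) rfl) := by
  have e2 : q.comap (algebraMap A C) =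
      (q.comap (algebraMap B C)).comap (algebraMap A B) := by
    rw [Ideal.comap_comap, ← IsScalarTower.algebraMap_eq]
  have L2 : Function.Bijective (Localization.localRingHom (q.comap (algebraMap A C))
      (q.comap (algebraMap B C)) (algebraMap A B) e2) :=
    bijective_localRingHom_of_eq _ _ _ _ rfl e2 hAB
  have c2 : Localization.localRingHom (q.comap (algebraMap A C)) q
      (algebraMap A C) rfl =
      (Localization.localRingHom (q.comap (algebraMap B C)) q
        (algebraMap B C) rfl).comp
      (Localization.localRingHom (q.comap (algebraMap A C))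
        (q.comap (algebraMap B C)) (algebraMap A B) e2) :=
    Localization.localRingHom_unique _ _ _ _ (fun x => by
      rw [RingHom.comp_apply, Localization.localRingHom_to_map, Localization.localRingHom_to_map,
        ← IsScalarTower.algebraMap_apply A B C])
  rw [c2, RingHom.coe_comp]
  exact hBC.comp L2

end pointwiseComp

section retr3

variable (A B : Type u) [CommRing A] [CommRing B] [Algebra A B]
  (s : TA A → WW A B) (hs : Continuous s) (hps : ∀ t, pW A B (s t) = t)

variable (hA : ProEtW.IsWLocal (PrimeSpectrum A))

include hA hs hps in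
/-- variant of `exists_retraction_of_section` with the identification of local rings as input -/
theorem exists_retraction_of_section' [TotallyDisconnectedSpace (TA A)] [CompactSpace (TA A)]
    [T2Space (TA A)]
    (h1 : EtPBC.IdentifiesLocalRings A (BG (tauS A B s))) : Nonempty (B →ₐ[A] A) := by
  have hτ := isClopen_tauS A B s hs
  have h3 : ProEtW.IsWLocal (PrimeSpectrum (BG (tauS A B s))) := isWLocal_BG _ hτ
  have hcomap : ∀ q : PrimeSpectrum (BG (tauS A B s)),
      PrimeSpectrum.comap (algebraMap A (BG (tauS A B s))) q =
        PrimeSpectrum.comap (algebraMap A B) (eG (tauS A B s) q).1 := by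
    intro q
    rw [eG_fst]
    apply PrimeSpectrum.ext
    ext a
    show algebraMap A (BG (tauS A B s)) a ∈ q.asIdeal ↔
      algebraMap B (BG (tauS A B s)) (algebraMap A B a) ∈ q.asIdeal
    rw [algebraMap_A_BB]
  have h4 : ProEtW.IsWLocalMap (PrimeSpectrum.comap (algebraMap A (BG (tauS A B s)))) := by
    refine ⟨isSpectralMap_comap _, fun q hq => ?_⟩
    rw [isClosed_singleton_iff_eG _ hτ] at hq
    rw [hcomap, hq, comap_tauS A B s hps]
    exact (eG (tauS A B s) q).2.2
  have h5 : Function.Bijective (PrimeSpectrum.continuous_comap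
      (algebraMap A (BG (tauS A B s)))).connectedComponentsMap := by
    obtain ⟨E, hE⟩ : ∃ E : _root_.ConnectedComponents (PrimeSpectrum (BG (tauS A B s))) ≃ₜ TA A,
        ∀ q, E (ConnectedComponents.mk q) = (eG (tauS A B s) q).2 :=
      ⟨pi0HomeoBG (tauS A B s) hτ, fun _ => rfl⟩
    have hfun : (PrimeSpectrum.continuous_comap
        (algebraMap A (BG (tauS A B s)))).connectedComponentsMap = kappa ∘ E := by
      funext c
      obtain ⟨q, rfl⟩ := ConnectedComponents.surjective_coe c
      rw [Function.comp_apply, hE]
      show (ConnectedComponents.mk (PrimeSpectrum.comap (algebraMap A (BG (tauS A B s))) q) :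
        _root_.ConnectedComponents (PrimeSpectrum A)) = ConnectedComponents.mk _
      rw [ConnectedComponents.coe_eq_coe, hcomap]
      apply connectedComponent_eq_of_specializes'
      rw [← PrimeSpectrum.le_iff_specializes, ← comap_tauS A B s hps (eG (tauS A B s) q).2]
      exact Ideal.comap_mono (le_of_eG (tauS A B s) hτ q)
    rw [hfun]
    exact (bijective_kappa hA).comp E.bijective
  have hbij := Groth.Agent.S0699.result A (BG (tauS A B s)) h1 hA h3 h4 h5
  exact ⟨((AlgEquiv.ofBijective (Algebra.ofId A (BG (tauS A B s))) hbij).symm :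
    BG (tauS A B s) →ₐ[A] A).comp (IsScalarTower.toAlgHom A B (BG (tauS A B s)))⟩

include hA hs hps in
theorem identifies_of_strictlyHenselian [TotallyDisconnectedSpace (TA A)] [CompactSpace (TA A)]
    [T2Space (TA A)] (hB : EtPBC.IsIndEtale A B)
    (hsh : ∀ (m : Ideal A) [m.IsMaximal],
      EtCoh.IsStrictlyHenselianLocalRing (Localization.AtPrime m)) :
    EtPBC.IdentifiesLocalRings A (BG (tauS A B s)) := by
  have hτ := isClopen_tauS A B s hs
  intro q
  obtain ⟨qc, hqc⟩ := exists_cpG (tauS A B s) hτ (eG (tauS A B s) q).2
  have hle : q.asIdeal ≤ qc.asIdeal := by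
    show q ≤ qc
    rw [PrimeSpectrum.le_iff_specializes, specializes_iff_eG, hqc]
    exact ⟨le_of_eG _ hτ q, rfl⟩
  apply bijective_localRingHom_of_le q.asIdeal qc.asIdeal hle
  -- at the closed point
  have hqB : PrimeSpectrum.comap (algebraMap B (BG (tauS A B s))) qc =
      tauS A B s (eG (tauS A B s) q).2 := by
    rw [← eG_fst, hqc]
  have hm : PrimeSpectrum.comap (algebraMap A B)
      (PrimeSpectrum.comap (algebraMap B (BG (tauS A B s))) qc) = (eG (tauS A B s) q).2.1 := by
    rw [hqB, comap_tauS A B s hps]
  have hmax : ((qc.asIdeal.comap (algebraMap B (BG (tauS A B s)))).comap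
      (algebraMap A B)).IsMaximal := by
    have h1 := (eG (tauS A B s) q).2.2
    have h2 : IsClosed ({(eG (tauS A B s) q).2.1} : Set (PrimeSpectrum A)) := h1
    rw [← hm, PrimeSpectrum.isClosed_singleton_iff_isMaximal] at h2
    exact h2
  obtain ⟨hH, hS⟩ := @hsh ((qc.asIdeal.comap (algebraMap B (BG (tauS A B s)))).comap
      (algebraMap A B)) hmax
  apply bijective_localRingHom_comp A B (BG (tauS A B s)) qc.asIdeal
  · exact bijective_localRingHom_of_isIndEtale hB _
  · exact identifiesLocalRings_BB (SmG (tauS A B s)) (isOpenFamily_SmG _ hτ) qc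

end retr3

section main

variable (A : Type u) [CommRing A]

theorem isIndEtale_of_isIndZariski {B : Type u} [CommRing B] [Algebra A B]
    (h : EtPBC.IsIndZariski A B) : EtPBC.IsIndEtale A B := by
  obtain ⟨J, hJ1, hJ2, D, c, hc, hloc, he⟩ := h
  refine ⟨J, hJ1, hJ2, D, c, hc, fun j => ?_, he⟩
  letI := (D.obj j).hom.hom.toAlgebra
  haveI := hloc j
  exact etale_of_isLocalIso

theorem hasIndEtaleRetractions_of (hA : ProEtW.IsWLocal (PrimeSpectrum A))
    (hed : ExtremallyDisconnected (_root_.ConnectedComponents (PrimeSpectrum A)))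
    (hsh : ∀ (m : Ideal A) [m.IsMaximal],
      EtCoh.IsStrictlyHenselianLocalRing (Localization.AtPrime m)) :
    ProEtW.HasIndEtaleRetractions A := by
  intro B _ _ hff hB
  haveI := hed
  haveI := hff
  obtain ⟨s, hs, hps⟩ := exists_section A B hA
  haveI := compactSpace_CP hA
  haveI := t2Space_CP hA
  haveI : TotallyDisconnectedSpace (TA A) := by
    haveI := hA.1
    haveI : T2Space (_root_.ConnectedComponents (PrimeSpectrum A)) :=
      Groth.Agent.Lib.SpectralProdH8.t2Space_connectedComponents
    exact (homeoKappa hA).symm.totallyDisconnectedSpace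
  exact exists_retraction_of_section' A B s hs hps hA
    (identifies_of_strictlyHenselian A B s hs hps hA hB hsh)

theorem of_hasIndEtaleRetractions (h : ProEtW.HasIndEtaleRetractions A) :
    ProEtW.IsWLocal (PrimeSpectrum A) ∧
      ExtremallyDisconnected (_root_.ConnectedComponents (PrimeSpectrum A)) ∧
      ∀ (m : Ideal A) [m.IsMaximal],
        EtCoh.IsStrictlyHenselianLocalRing (Localization.AtPrime m) := by
  have hZ : ProEtW.HasIndZariskiRetractions A := fun B _ _ hff hB =>
    h B hff (isIndEtale_of_isIndZariski A hB)
  obtain ⟨ha, hb⟩ := (main0678 A).1 hZ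
  have hE : ProEtW.HasEtaleRetractions A := fun B _ _ hff hB =>
    h B hff (Groth.Agent.Lib.WEIndEtH3.isIndEtale_of_etale' B)
  exact ⟨ha, hb, fun m _ => Groth.Agent.S0675.result A hE m⟩

theorem main0677 :
    EtPBC.IsWContractible A ↔
      (ProEtW.IsWLocal (PrimeSpectrum A) ∧
        ExtremallyDisconnected (_root_.ConnectedComponents (PrimeSpectrum A)) ∧
        ∀ (m : Ideal A) [m.IsMaximal],
          EtCoh.IsStrictlyHenselianLocalRing (Localization.AtPrime m)) := by
  rw [Groth.Agent.S0778.result]
  exact ⟨of_hasIndEtaleRetractions A, fun h => hasIndEtaleRetractions_of A h.1 h.2.1 h.2.2⟩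

end main

end Groth.Agent.Lib.ProfLocH3
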