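import Mathlib
import Groth.Prelude.Def_ProEtW
import Groth.Agent.Lib.WLocz2_helper3
import Groth.Agent.Lib.LCGlue_helper3

/-!
# w-localisation along a closed subset with profinite `V(I)` (helper3)
-/

set_option autoImplicit false
set_option linter.all false
set_option maxHeartbeats 1600000

universe u

open CategoryTheory Limits Topology

namespace Groth.Agent.Lib.ProfLocH3

section ker

variable {A : Type u} [CommRing A] {T : Type u} [TopologicalSpace T] [CompactSpace T]

/-- A locally constant function with values in `I` lies in `I · LC(T, A)`. -/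
theorem mem_map_of_forall_mem (I : Ideal A) (χ : LocallyConstant T A) (hχ : ∀ t, χ t ∈ I) :
    χ ∈ I.map (algebraMap A (LocallyConstant T A)) := by
  classical
  obtain ⟨h₀, hh⟩ := exists_incl_eq χ (le_refl χ.discreteQuotient)
  haveI : Finite χ.discreteQuotient := inferInstance
  letI : Fintype χ.discreteQuotient := Fintype.ofFinite _
  have hmem : ∀ q, h₀ q ∈ I := by
    intro q
    obtain ⟨t, rfl⟩ := χ.discreteQuotient.proj_surjective q
    have := congrArg (fun ψ : LocallyConstant T A => ψ t) hh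
    simp only [incl_apply] at this
    rw [this]
    exact hχ t
  have hsum : h₀ = ∑ q, h₀ q • (Pi.single q (1 : A) : χ.discreteQuotient → A) := by
    ext q'
    simp [Finset.sum_apply, Pi.single_apply]
  rw [← hh, hsum, map_sum]
  refine Ideal.sum_mem _ fun q _ => ?_
  rw [map_smul, Algebra.smul_def]
  exact Ideal.mul_mem_right _ _ (Ideal.mem_map_of_mem _ (hmem q))

variable [T2Space T] [TotallyDisconnectedSpace T] (τ : T → PrimeSpectrum A)
  (hτ : ∀ f : A, IsClopen (τ ⁻¹' (PrimeSpectrum.basicOpen f : Set (PrimeSpectrum A))))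

include hτ

theorem exists_bigS_mul_mem (I : Ideal A) (φ : LocallyConstant T A)
    (H : ∀ t, ∃ s : A, s ∉ (τ t).asIdeal ∧ s * φ t ∈ I) :
    ∃ σ ∈ bigS (SmG τ), ∀ t, (σ * φ) t ∈ I := by
  classical
  choose s hs1 hs2 using H
  let P : T → Set T := fun t =>
    τ ⁻¹' (PrimeSpectrum.basicOpen (s t) : Set (PrimeSpectrum A)) ∩ {t' | φ t' = φ t}
  have hP : ∀ t, IsClopen (P t) := fun t =>
    (hτ (s t)).inter (φ.isLocallyConstant.isClopen_fiber _)
  have hmem : ∀ t, t ∈ P t := fun t => ⟨hs1 t, rfl⟩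
  obtain ⟨F, hF⟩ := isCompact_univ.elim_finite_subcover P (fun t => (hP t).isOpen)
    (fun t _ => Set.mem_iUnion.2 ⟨t, hmem t⟩)
  refine ⟨∏ t ∈ F, patch (s t) (hP t), Submonoid.prod_mem _
    (fun t _ => patch_mem_bigS _ _ _ (fun t' ht' => ht'.1)), fun t' => ?_⟩
  obtain ⟨t, htF, ht'⟩ : ∃ t ∈ F, t' ∈ P t := by simpa using hF (Set.mem_univ t')
  obtain ⟨c, hc⟩ := Finset.dvd_prod_of_mem (fun t => patch (s t) (hP t)) htF
  rw [hc, LocallyConstant.mul_apply, LocallyConstant.mul_apply, patch_apply_of_mem _ _ ht', ht'.2]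
  have : s t * c t' * φ t = c t' * (s t * φ t) := by ring
  rw [this]
  exact I.mul_mem_left _ (hs2 t)

theorem algebraMap_mem_map_of_local (I : Ideal A) (φ : LocallyConstant T A)
    (H : ∀ t, ∃ s : A, s ∉ (τ t).asIdeal ∧ s * φ t ∈ I) :
    algebraMap (LocallyConstant T A) (BG τ) φ ∈ I.map (algebraMap A (BG τ)) := by
  obtain ⟨σ, hσ, hχ⟩ := exists_bigS_mul_mem τ hτ I φ H
  have h1 := mem_map_of_forall_mem I (σ * φ) hχ
  have h2 : algebraMap (LocallyConstant T A) (BG τ) (σ * φ) ∈ I.map (algebraMap A (BG τ)) := by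
    have := Ideal.mem_map_of_mem (algebraMap (LocallyConstant T A) (BG τ)) h1
    rwa [Ideal.map_map, ← IsScalarTower.algebraMap_eq] at this
  rw [map_mul] at h2
  exact (Ideal.unit_mul_mem_iff_mem _
    (IsLocalization.map_units (BG τ) (⟨σ, hσ⟩ : bigS (SmG τ)))).1 h2

end ker

section s0705

variable (A : Type u) [CommRing A] (I : Ideal A)

/-- `V(I)` as a space. -/
abbrev TV : Type u := ↥(PrimeSpectrum.zeroLocus (R := A) I)

/-- inclusion -/
def tauV : TV A I → PrimeSpectrum A := Subtype.val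

theorem comap_mk_mem (y : PrimeSpectrum (A ⧸ I)) :
    PrimeSpectrum.comap (Ideal.Quotient.mk I) y ∈ PrimeSpectrum.zeroLocus (R := A) I := by
  rw [PrimeSpectrum.mem_zeroLocus]
  intro a ha
  show Ideal.Quotient.mk I a ∈ y.asIdeal
  rw [Ideal.Quotient.eq_zero_iff_mem.2 ha]
  exact y.asIdeal.zero_mem

/-- `Spec (A/I) → V(I)`. -/
def hV : C(PrimeSpectrum (A ⧸ I), TV A I) where
  toFun y := ⟨PrimeSpectrum.comap (Ideal.Quotient.mk I) y, comap_mk_mem A I y⟩
  continuous_toFun := (PrimeSpectrum.continuous_comap _).subtype_mk (comap_mk_mem A I)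

theorem hV_surjective : Function.Surjective (hV A I) := by
  intro t
  have h := range_comap_of_surjective _ (Ideal.Quotient.mk I)
    Ideal.Quotient.mk_surjective
  rw [Ideal.mk_ker] at h
  have ht : t.1 ∈ Set.range (PrimeSpectrum.comap (Ideal.Quotient.mk I)) := by
    rw [h]
    exact t.2
  obtain ⟨y, hy⟩ := ht
  exact ⟨y, Subtype.ext hy⟩

variable [CompactSpace (TV A I)] [T2Space (TV A I)] [TotallyDisconnectedSpace (TV A I)]

theorem isClopen_tauV (f : A) :
    IsClopen (tauV A I ⁻¹' (PrimeSpectrum.basicOpen f : Set (PrimeSpectrum A))) := by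
  refine ⟨?_, (PrimeSpectrum.basicOpen f).isOpen.preimage continuous_subtype_val⟩
  apply IsCompact.isClosed
  rw [Subtype.isCompact_iff]
  have : (Subtype.val '' (tauV A I ⁻¹' (PrimeSpectrum.basicOpen f : Set (PrimeSpectrum A)))) =
      PrimeSpectrum.zeroLocus (R := A) I ∩ (PrimeSpectrum.basicOpen f : Set (PrimeSpectrum A)) :=
    Subtype.image_preimage_coe _ _
  rw [this]
  exact (PrimeSpectrum.isCompact_basicOpen f).inter_left (PrimeSpectrum.isClosed_zeroLocus _)

/-- The ring of S0705. -/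
abbrev BV : Type u := BG (tauV A I)

theorem isUnit_psi0 (σ : bigS (SmG (tauV A I))) :
    IsUnit (glueAlong (hV A I) (σ : LocallyConstant (TV A I) A)) := by
  apply isUnit_glueAlong
  intro y hmem
  exact σ.2 (hV A I y) hmem

/-- The retraction `B → A/I`. -/
noncomputable def psiV : BV A I →+* A ⧸ I :=
  IsLocalization.lift (M := bigS (SmG (tauV A I))) (g := glueAlong (hV A I)) (isUnit_psi0 A I)

theorem psiV_algebraMap (a : A) : psiV A I (algebraMap A (BV A I) a) = Ideal.Quotient.mk I a := by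
  rw [IsScalarTower.algebraMap_apply A (LocallyConstant (TV A I) A) (BV A I)]
  unfold psiV
  rw [IsLocalization.lift_eq, algebraMap_eq_const, glueAlong_const]
  rfl

theorem mem_map_of_psiV_eq_zero (b : BV A I) (hb : psiV A I b = 0) :
    b ∈ I.map (algebraMap A (BV A I)) := by
  obtain ⟨φ, σ, rfl⟩ := IsLocalization.exists_mk'_eq (bigS (SmG (tauV A I))) b
  have h1 := IsLocalization.mk'_spec (BV A I) φ σ
  have h0 : glueAlong (hV A I) φ = 0 := by
    have h2 := congrArg (psiV A I) h1
    rw [map_mul, hb, zero_mul] at h2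
    unfold psiV at h2
    rw [IsLocalization.lift_eq] at h2
    exact h2.symm
  have H : ∀ t, ∃ s : A, s ∉ (tauV A I t).asIdeal ∧ s * φ t ∈ I := by
    intro t
    obtain ⟨y, rfl⟩ := hV_surjective A I t
    obtain ⟨u, hu, huz⟩ := (glueAlong_eq_zero_iff (hV A I) φ).1 h0 y
    obtain ⟨s, rfl⟩ := Ideal.Quotient.mk_surjective u
    refine ⟨s, hu, ?_⟩
    rw [← Ideal.Quotient.eq_zero_iff_mem, map_mul]
    exact huz
  have h3 := algebraMap_mem_map_of_local (tauV A I) (isClopen_tauV A I) I φ H
  rw [← h1] at h3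
  exact (Ideal.mul_unit_mem_iff_mem _ (IsLocalization.map_units (BV A I) σ)).1 h3

theorem bijective_quotientMap_BV :
    Function.Bijective (Ideal.quotientMap (I.map (algebraMap A (BV A I))) (algebraMap A (BV A I))
      Ideal.le_comap_map) := by
  have hker : ∀ b ∈ I.map (algebraMap A (BV A I)), psiV A I b = 0 := by
    intro b hb
    have : I.map (algebraMap A (BV A I)) ≤ RingHom.ker (psiV A I) := by
      rw [Ideal.map_le_iff_le_comap]
      intro a ha
      rw [Ideal.mem_comap, RingHom.mem_ker, psiV_algebraMap]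
      exact Ideal.Quotient.eq_zero_iff_mem.2 ha
    exact this hb
  obtain ⟨ψ', hψ'⟩ : ∃ ψ' : (BV A I) ⧸ I.map (algebraMap A (BV A I)) →+* A ⧸ I,
      ψ' = Ideal.Quotient.lift _ (psiV A I) hker := ⟨_, rfl⟩
  have hmk : ∀ b, ψ' (Ideal.Quotient.mk _ b) = psiV A I b := by
    intro b
    rw [hψ', Ideal.Quotient.lift_mk]
  have hleft : ∀ z, ψ' (Ideal.quotientMap (I.map (algebraMap A (BV A I)))
      (algebraMap A (BV A I)) Ideal.le_comap_map z) = z := by
    intro z
    obtain ⟨a, rfl⟩ := Ideal.Quotient.mk_surjective z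
    rw [Ideal.quotientMap_mk, hmk, psiV_algebraMap]
  have hinj : Function.Injective ψ' := by
    rw [injective_iff_map_eq_zero]
    intro z hz
    obtain ⟨b, rfl⟩ := Ideal.Quotient.mk_surjective z
    rw [hmk] at hz
    exact Ideal.Quotient.eq_zero_iff_mem.2 (mem_map_of_psiV_eq_zero A I b hz)
  refine ⟨fun z z' h => ?_, fun w => ⟨ψ' w, hinj (hleft _)⟩⟩
  rw [← hleft z, ← hleft z', h]

theorem closedPoints_BV :
    ProEtW.closedPoints (PrimeSpectrum (BV A I)) =
      PrimeSpectrum.zeroLocus (I.map (algebraMap A (BV A I))) := by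
  ext q
  have hz : q ∈ PrimeSpectrum.zeroLocus (I.map (algebraMap A (BV A I)) : Set (BV A I)) ↔
      (eG (tauV A I) q).1 ∈ PrimeSpectrum.zeroLocus (I : Set A) := by
    rw [PrimeSpectrum.mem_zeroLocus, PrimeSpectrum.mem_zeroLocus, SetLike.coe_subset_coe,
      SetLike.coe_subset_coe, Ideal.map_le_iff_le_comap, eG_fst]
    rfl
  rw [hz]
  show IsClosed ({q} : Set (PrimeSpectrum (BV A I))) ↔ _
  rw [isClosed_singleton_iff_eG (tauV A I) (isClopen_tauV A I)]
  constructor
  · intro h
    rw [h]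
    exact (eG (tauV A I) q).2.2
  · intro h
    have hle := le_of_eG (tauV A I) (isClopen_tauV A I) q
    have hsp : (⟨(eG (tauV A I) q).1, h⟩ : TV A I) ⤳ (eG (tauV A I) q).2 := by
      rw [← Topology.IsInducing.subtypeVal.specializes_iff]
      exact (PrimeSpectrum.le_iff_specializes _ _).1 hle
    have := specializes_iff_eq.1 hsp
    exact congrArg Subtype.val this

end s0705

theorem main0705 (A : Type u) [CommRing A] (I : Ideal A)
    (hI : ProEtW.IsProfinite (PrimeSpectrum.zeroLocus (R := A) I)) :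
    ∃ (B : Type u) (_ : CommRing B) (_ : Algebra A B),
      EtPBC.IsIndZariski A B ∧ ProEtW.IsWLocal (PrimeSpectrum B) ∧
      ProEtW.closedPoints (PrimeSpectrum B) = PrimeSpectrum.zeroLocus (I.map (algebraMap A B)) ∧
      Function.Bijective (Ideal.quotientMap (I.map (algebraMap A B)) (algebraMap A B)
        Ideal.le_comap_map) := by
  obtain ⟨h1, h2, h3⟩ := hI
  haveI : CompactSpace (TV A I) := h1
  haveI : T2Space (TV A I) := h2
  haveI : TotallyDisconnectedSpace (TV A I) := h3
  exact ⟨BV A I, inferInstance, inferInstance, isIndZariski_BB (SmG (tauV A I)),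
    isWLocal_BG (tauV A I) (isClopen_tauV A I), closedPoints_BV A I, bijective_quotientMap_BV A I⟩

end Groth.Agent.Lib.ProfLocH3
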