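import Mathlib
import Groth.Prelude.Def_ProEtW
import Groth.Agent.Lib.WLocz5_helper3
import Groth.Agent.Lib.WLocz3_helper3
import Groth.Agent.S0701
import Groth.Agent.Lib.SpectralT1_helper8

/-!
# w-localisation over a w-local base along algebraic residue field extensions (helper3)
-/

set_option autoImplicit false
set_option linter.all false
set_option maxHeartbeats 1600000

universe u

open CategoryTheory Limits Topology

namespace Groth.Agent.Lib.ProfLocH3

section zl

variable {R : Type u} [CommRing R] (I : Ideal R)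

theorem range_comap_mk :
    Set.range (PrimeSpectrum.comap (Ideal.Quotient.mk I)) = PrimeSpectrum.zeroLocus (R := R) I := by
  rw [range_comap_of_surjective _ _ Ideal.Quotient.mk_surjective, Ideal.mk_ker]

/-- `Spec (R/I) ≃ₜ V(I)`. -/
noncomputable def homeoZeroLocus :
    PrimeSpectrum (R ⧸ I) ≃ₜ ↥(PrimeSpectrum.zeroLocus (R := R) I) :=
  (PrimeSpectrum.isClosedEmbedding_comap_of_surjective (R ⧸ I) (Ideal.Quotient.mk I)
    Ideal.Quotient.mk_surjective).isEmbedding.toHomeomorph.trans
    (Homeomorph.setCongr (range_comap_mk I))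

theorem homeoZeroLocus_apply (y : PrimeSpectrum (R ⧸ I)) :
    (homeoZeroLocus I y).1 = PrimeSpectrum.comap (Ideal.Quotient.mk I) y := rfl

theorem isClosed_singleton_quot_iff (y : PrimeSpectrum (R ⧸ I)) :
    IsClosed ({y} : Set (PrimeSpectrum (R ⧸ I))) ↔
      IsClosed ({PrimeSpectrum.comap (Ideal.Quotient.mk I) y} : Set (PrimeSpectrum R)) := by
  rw [(PrimeSpectrum.isClosedEmbedding_comap_of_surjective (R ⧸ I) (Ideal.Quotient.mk I)
    Ideal.Quotient.mk_surjective).isClosed_iff_image_isClosed, Set.image_singleton]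

theorem isProfinite_zeroLocus_of_quot (h : ProEtW.IsProfinite (PrimeSpectrum (R ⧸ I))) :
    ProEtW.IsProfinite ↥(PrimeSpectrum.zeroLocus (R := R) I) := by
  obtain ⟨h1, h2, h3⟩ := h
  exact ⟨(homeoZeroLocus I).compactSpace, (homeoZeroLocus I).t2Space,
    (homeoZeroLocus I).totallyDisconnectedSpace⟩

end zl

section s0737

variable (A B : Type u) [CommRing A] [CommRing B] [Algebra A B]

theorem incomparable_of_algebraicResidue (h : ProEtW.AlgebraicResidueExtensions A B)
    (q q' : PrimeSpectrum B)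
    (hqq' : q.asIdeal.comap (algebraMap A B) = q'.asIdeal.comap (algebraMap A B))
    (hle : q.asIdeal ≤ q'.asIdeal) : q = q' := by
  by_contra hne
  haveI := q.2
  have hlt : ∃ x ∈ q'.asIdeal, x ∉ q.asIdeal := by
    by_contra hcon
    push Not at hcon
    exact hne (PrimeSpectrum.ext (le_antisymm hle hcon))
  obtain ⟨x, hxq', hxq⟩ := hlt
  haveI := h q.asIdeal
  have hx0 : (Ideal.Quotient.mk q.asIdeal x) ≠ 0 := by
    rwa [Ne, Ideal.Quotient.eq_zero_iff_mem]
  have hxI : Ideal.Quotient.mk q.asIdeal x ∈ q'.asIdeal.map (Ideal.Quotient.mk q.asIdeal) :=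
    Ideal.mem_map_of_mem _ hxq'
  have hbot := Ideal.comap_ne_bot_of_algebraic_mem
    (R := A ⧸ q.asIdeal.comap (algebraMap A B)) hx0 hxI (Algebra.IsAlgebraic.isAlgebraic _)
  obtain ⟨a, ha, ha0⟩ := Submodule.exists_mem_ne_zero_of_ne_bot hbot
  obtain ⟨a', rfl⟩ := Ideal.Quotient.mk_surjective a
  apply ha0
  rw [Ideal.Quotient.eq_zero_iff_mem, hqq']
  have h2 : Ideal.Quotient.mk q.asIdeal (algebraMap A B a') ∈
      q'.asIdeal.map (Ideal.Quotient.mk q.asIdeal) := ha
  rwa [Ideal.mem_quotient_iff_mem hle] at h2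

variable (I : Ideal A)

theorem isProfinite_quot (hA : ProEtW.IsWLocal (PrimeSpectrum A))
    (hI0 : PrimeSpectrum.zeroLocus (R := A) I = ProEtW.closedPoints (PrimeSpectrum A))
    (h : ProEtW.AlgebraicResidueExtensions A B) :
    ProEtW.IsProfinite (PrimeSpectrum (B ⧸ I.map (algebraMap A B))) := by
  have hcl : ∀ y : PrimeSpectrum (A ⧸ I), IsClosed ({y} : Set (PrimeSpectrum (A ⧸ I))) := by
    intro y
    rw [isClosed_singleton_quot_iff]
    have : PrimeSpectrum.comap (Ideal.Quotient.mk I) y ∈ PrimeSpectrum.zeroLocus (R := A) I := by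
      rw [← range_comap_mk]
      exact ⟨y, rfl⟩
    rw [hI0] at this
    exact this
  haveI : T2Space (PrimeSpectrum (A ⧸ I)) :=
    Groth.Agent.Lib.SpectralT1H8.t2Space_of_closed_points hcl
  haveI : TotallyDisconnectedSpace (PrimeSpectrum (A ⧸ I)) :=
    Groth.Agent.Lib.SpectralT1H8.totallyDisconnectedSpace_of_closed_points hcl
  refine Groth.Agent.S0701.result (A ⧸ I) (B ⧸ I.map (algebraMap A B)) ?_
  intro q q' hqq' hle
  -- pull back to `B`
  have hinj := PrimeSpectrum.comap_injective_of_surjective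
    (Ideal.Quotient.mk (I.map (algebraMap A B))) Ideal.Quotient.mk_surjective
  apply hinj
  apply incomparable_of_algebraicResidue A B h
  · show (q.asIdeal.comap (Ideal.Quotient.mk (I.map (algebraMap A B)))).comap (algebraMap A B) =
      (q'.asIdeal.comap (Ideal.Quotient.mk (I.map (algebraMap A B)))).comap (algebraMap A B)
    have key : ∀ r : Ideal (B ⧸ I.map (algebraMap A B)),
        (r.comap (Ideal.Quotient.mk (I.map (algebraMap A B)))).comap (algebraMap A B) =
        (r.comap (algebraMap (A ⧸ I) (B ⧸ I.map (algebraMap A B)))).comap (Ideal.Quotient.mk I) := by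
      intro r
      rw [Ideal.comap_comap, Ideal.comap_comap]
      rfl
    rw [key, key, hqq']
  · exact Ideal.comap_mono hle

theorem main0737 (hA : ProEtW.IsWLocal (PrimeSpectrum A)) (hI : I.IsRadical)
    (hI0 : PrimeSpectrum.zeroLocus (R := A) I = ProEtW.closedPoints (PrimeSpectrum A))
    (h : ProEtW.AlgebraicResidueExtensions A B) :
    PrimeSpectrum.zeroLocus (R := B) (I.map (algebraMap A B)) ⊆
        ProEtW.closedPoints (PrimeSpectrum B) ∧
    ∃ (C : Type u) (_ : CommRing C) (_ : Algebra B C) (_ : Algebra A C) (_ : IsScalarTower A B C),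
      EtPBC.IsIndZariski B C ∧
      Function.Bijective (Ideal.quotientMap ((I.map (algebraMap A B)).map (algebraMap B C))
        (algebraMap B C) Ideal.le_comap_map) ∧
      ProEtW.IsWLocal (PrimeSpectrum C) ∧
      ProEtW.IsWLocalMap (PrimeSpectrum.comap (algebraMap A C)) ∧
      ProEtW.closedPoints (PrimeSpectrum C) =
        PrimeSpectrum.comap (algebraMap A C) ⁻¹' ProEtW.closedPoints (PrimeSpectrum A) := by
  have hprof := isProfinite_zeroLocus_of_quot _ (isProfinite_quot A B I hA hI0 h)
  refine ⟨?_, ?_⟩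
  · intro y hy
    obtain ⟨h1, h2, h3⟩ := hprof
    haveI := h2
    have hcl : IsClosed ({(⟨y, hy⟩ : ↥(PrimeSpectrum.zeroLocus (R := B) (I.map (algebraMap A B))))} :
        Set ↥(PrimeSpectrum.zeroLocus (R := B) (I.map (algebraMap A B)))) := isClosed_singleton
    have hemb : IsClosedEmbedding (Subtype.val :
        ↥(PrimeSpectrum.zeroLocus (R := B) (I.map (algebraMap A B))) → PrimeSpectrum B) :=
      (PrimeSpectrum.isClosed_zeroLocus _).isClosedEmbedding_subtypeVal
    have := hemb.isClosedMap _ hcl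
    rw [Set.image_singleton] at this
    exact this
  · obtain ⟨C, hC1, hC2, hind, hwl, hcp, hbij⟩ := main0705 B (I.map (algebraMap A B)) hprof
    letI : Algebra A C := ((algebraMap B C).comp (algebraMap A B)).toAlgebra
    haveI : IsScalarTower A B C := IsScalarTower.of_algebraMap_eq (fun _ => rfl)
    have hmap : (I.map (algebraMap A B)).map (algebraMap B C) = I.map (algebraMap A C) := by
      rw [Ideal.map_map]
      rfl
    have hpre : ProEtW.closedPoints (PrimeSpectrum C) =
        PrimeSpectrum.comap (algebraMap A C) ⁻¹' ProEtW.closedPoints (PrimeSpectrum A) := by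
      rw [hcp, ← hI0, hmap]
      ext q
      rw [Set.mem_preimage, PrimeSpectrum.mem_zeroLocus, PrimeSpectrum.mem_zeroLocus,
        SetLike.coe_subset_coe, SetLike.coe_subset_coe, Ideal.map_le_iff_le_comap]
      rfl
    refine ⟨C, hC1, hC2, inferInstance, inferInstance, hind, hbij, hwl,
      ⟨isSpectralMap_comap _, fun q hq => ?_⟩, hpre⟩
    have : q ∈ ProEtW.closedPoints (PrimeSpectrum C) := hq
    rw [hpre] at this
    exact this

end s0737

end Groth.Agent.Lib.ProfLocH3
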