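import Mathlib
import Groth.Prelude.Def_ProEtW
import Groth.Agent.Lib.WCFin1_helper3
import Groth.Agent.Lib.QFinED1_helper3
import Groth.Agent.Lib.WLocz11_helper3
import Groth.Agent.Lib.WLocz7_helper3

/-!
# S0679: finite finitely presented algebras over w-contractible rings are w-contractible (helper3)
-/

set_option autoImplicit false
set_option linter.all false
set_option maxHeartbeats 1600000

universe u

open Topology TensorProduct IsLocalRing

namespace Groth.Agent.Lib.WCFinH3

open Groth.Agent.Lib.ProfLocH3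

section ed

variable (A B : Type u) [CommRing A] [CommRing B] [Algebra A B]

theorem isSepClosed_residueField_quotient (I : Ideal A) (p : PrimeSpectrum (A ⧸ I))
    (hmax : (p.asIdeal.comap (Ideal.Quotient.mk I)).IsMaximal)
    (hsc : IsSepClosed (p.asIdeal.comap (Ideal.Quotient.mk I)).ResidueField) :
    IsSepClosed p.asIdeal.ResidueField := by
  haveI := hmax
  haveI := hsc
  haveI hpmax : p.asIdeal.IsMaximal := by
    haveI := p.2
    haveI : Algebra.IsIntegral A (A ⧸ I) := Algebra.IsIntegral.of_finite A (A ⧸ I)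
    exact Ideal.isMaximal_of_isIntegral_of_isMaximal_comap (R := A) p.asIdeal hmax
  letI : Field (A ⧸ p.asIdeal.comap (Ideal.Quotient.mk I)) := Ideal.Quotient.field _
  letI : Field ((A ⧸ I) ⧸ p.asIdeal) := Ideal.Quotient.field _
  let e2 : (A ⧸ p.asIdeal.comap (Ideal.Quotient.mk I)) ≃+*
      (p.asIdeal.comap (Ideal.Quotient.mk I)).ResidueField :=
    RingEquiv.ofBijective _ (Ideal.bijective_algebraMap_quotient_residueField _)
  let e1 : ((A ⧸ I) ⧸ p.asIdeal) ≃+* p.asIdeal.ResidueField :=
    RingEquiv.ofBijective _ (Ideal.bijective_algebraMap_quotient_residueField _)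
  let e12 : (A ⧸ p.asIdeal.comap (Ideal.Quotient.mk I)) ≃+* ((A ⧸ I) ⧸ p.asIdeal) :=
    RingEquiv.ofBijective (Ideal.quotientMap p.asIdeal (Ideal.Quotient.mk I) le_rfl)
      ⟨Ideal.quotientMap_injective, Ideal.quotientMap_surjective Ideal.Quotient.mk_surjective⟩
  haveI : IsSepClosed (A ⧸ p.asIdeal.comap (Ideal.Quotient.mk I)) :=
    Groth.Agent.Lib.StrictHensEquivH8.isSepClosed_of_ringEquiv e2.symm
  haveI : IsSepClosed ((A ⧸ I) ⧸ p.asIdeal) :=
    Groth.Agent.Lib.StrictHensEquivH8.isSepClosed_of_ringEquiv e12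
  exact Groth.Agent.Lib.StrictHensEquivH8.isSepClosed_of_ringEquiv e1

end ed

section ed2

variable (A B : Type u) [CommRing A] [CommRing B] [Algebra A B] [Module.Finite A B]
  [Algebra.FinitePresentation A B]

theorem extremallyDisconnected_pi0_of_finite (hA : ProEtW.IsWLocal (PrimeSpectrum A))
    (hB : ProEtW.IsWLocal (PrimeSpectrum B))
    (hed : ExtremallyDisconnected (_root_.ConnectedComponents (PrimeSpectrum A)))
    (hsc : ∀ (m : Ideal A) [m.IsMaximal], IsSepClosed m.ResidueField) :
    ExtremallyDisconnected (_root_.ConnectedComponents (PrimeSpectrum B)) := by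
  obtain ⟨I, hI⟩ : ∃ I : Ideal A, I = PrimeSpectrum.vanishingIdeal
    (ProEtW.closedPoints (PrimeSpectrum A)) := ⟨_, rfl⟩
  have hI0 : PrimeSpectrum.zeroLocus (R := A) I = ProEtW.closedPoints (PrimeSpectrum A) := by
    rw [hI, PrimeSpectrum.zeroLocus_vanishingIdeal_eq_closure]
    exact hA.2.1.closure_eq
  let e1 : PrimeSpectrum (A ⧸ I) ≃ₜ CP (PrimeSpectrum A) :=
    (homeoZeroLocus I).trans (Homeomorph.setCongr hI0)
  haveI : ExtremallyDisconnected (CP (PrimeSpectrum A)) := extremallyDisconnected_CP hA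
  haveI : T2Space (CP (PrimeSpectrum A)) := t2Space_CP hA
  haveI : ExtremallyDisconnected (PrimeSpectrum (A ⧸ I)) := extremallyDisconnected_of_homeo e1.symm
  haveI : T2Space (PrimeSpectrum (A ⧸ I)) := e1.symm.t2Space
  have hres : ∀ p : PrimeSpectrum (A ⧸ I), IsSepClosed p.asIdeal.ResidueField := by
    intro p
    have hmem : PrimeSpectrum.comap (Ideal.Quotient.mk I) p ∈
        PrimeSpectrum.zeroLocus (R := A) I := by
      rw [← range_comap_mk]
      exact ⟨p, rfl⟩
    rw [hI0] at hmem
    have hmax : (p.asIdeal.comap (Ideal.Quotient.mk I)).IsMaximal :=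
      (PrimeSpectrum.isClosed_singleton_iff_isMaximal _).1 hmem
    exact isSepClosed_residueField_quotient A I p hmax (hsc _)
  haveI : Module.Finite (A ⧸ I) (B ⧸ I.map (algebraMap A B)) :=
    Module.Finite.of_restrictScalars_finite A _ _
  haveI : Algebra.FinitePresentation (A ⧸ I) (B ⧸ I.map (algebraMap A B)) :=
    Algebra.FinitePresentation.equiv (Algebra.TensorProduct.quotIdealMapEquivQuotTensor B I).symm
  have hedB : ExtremallyDisconnected (PrimeSpectrum (B ⧸ I.map (algebraMap A B))) :=
    Groth.Agent.Lib.QFinEDH3.main0750 (A ⧸ I) (B ⧸ I.map (algebraMap A B)) hres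
  have hJ0 : PrimeSpectrum.zeroLocus (R := B) (I.map (algebraMap A B)) =
      ProEtW.closedPoints (PrimeSpectrum B) := by
    rw [closedPoints_eq_preimage A B, ← hI0]
    ext q
    rw [Set.mem_preimage, PrimeSpectrum.mem_zeroLocus, PrimeSpectrum.mem_zeroLocus,
      SetLike.coe_subset_coe, SetLike.coe_subset_coe, Ideal.map_le_iff_le_comap]
    rfl
  let e2 : PrimeSpectrum (B ⧸ I.map (algebraMap A B)) ≃ₜ CP (PrimeSpectrum B) :=
    (homeoZeroLocus (I.map (algebraMap A B))).trans (Homeomorph.setCongr hJ0)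
  haveI : ExtremallyDisconnected (CP (PrimeSpectrum B)) := extremallyDisconnected_of_homeo e2
  exact extremallyDisconnected_of_homeo (homeoKappa hB)

theorem main0679 (h : EtPBC.IsWContractible A) : EtPBC.IsWContractible B := by
  obtain ⟨hwl, hed, hsh⟩ := (main0677 A).1 h
  rw [main0677 B]
  have hH : ∀ (m : Ideal A) [m.IsMaximal], HenselianLocalRing (Localization.AtPrime m) := by
    intro m _
    obtain ⟨h1, -⟩ := hsh m
    exact h1
  have hsc : ∀ (m : Ideal A) [m.IsMaximal], IsSepClosed m.ResidueField := by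
    intro m _
    obtain ⟨h1, h2⟩ := hsh m
    exact h2
  have hwlB := isWLocal_of_finite A B hwl hH
  refine ⟨hwlB, extremallyDisconnected_pi0_of_finite A B hwl hwlB hed hsc, ?_⟩
  intro n hn
  haveI : Algebra.IsIntegral A B := Algebra.IsIntegral.of_finite A B
  haveI hmmax : (n.comap (algebraMap A B)).IsMaximal :=
    Ideal.isMaximal_comap_of_isIntegral_of_isMaximal (R := A) n
  exact strictlyHenselian_localization A B (n.comap (algebraMap A B)) n rfl (hsh _)

end ed2

end Groth.Agent.Lib.WCFinH3
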