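import Mathlib
import Groth.Prelude.Def_EtModW
import Groth.Prelude.Def_ARSys

/-! # Sections over a weakly contractible object commute with `IF` and `F/IF` (lead) -/

set_option autoImplicit false
set_option linter.unusedSimpArgs false
set_option linter.unusedVariables false
set_option linter.unusedSectionVars false
set_option linter.style.longLine false
set_option linter.unnecessarySimpa false
set_option maxHeartbeats 1600000
set_option backward.isDefEq.respectTransparency false
set_option backward.isDefEq.respectTransparency.types false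
set_option backward.defeqAttrib.useBackward true

universe w u

open CategoryTheory CategoryTheory.Limits AlgebraicGeometry Opposite

namespace Groth.Agent.Lib.WCQuot

section general

variable {C : Type*} [Category C] [Abelian C] {A : Type w} [CommRing A] [Linear A C]

attribute [local instance] Abelian.hasFiniteBiproducts

theorem epi_of_isQuot (I : Ideal A) {X Q : C} (p : X ⟶ Q) (hp : ARSys.IsQuot I p) : Epi p := by
  refine ⟨fun {Y} g g' h => ?_⟩
  have hk : ARSys.HomKilledBy I (p ≫ g) := by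
    intro a ha
    have e : a • (p ≫ g) = p ≫ ((a • 𝟙 Q) ≫ g) := by
      rw [Linear.smul_comp, Category.id_comp, Linear.comp_smul]
    rw [e, hp.1 a ha, zero_comp, comp_zero]
  obtain ⟨ψ, -, hu⟩ := hp.2 Y (p ≫ g) hk
  rw [hu g rfl, hu g' h.symm]

theorem homKilledBy_of_gens {n : ℕ} (g : Fin n → A) {X Y : C} (φ : X ⟶ Y)
    (h : ∀ i, g i • φ = 0) : ARSys.HomKilledBy (Ideal.span (Set.range g)) φ := by
  intro a ha
  refine Submodule.span_induction (p := fun a _ => a • φ = 0) ?_ ?_ ?_ ?_ ha
  · rintro x ⟨i, rfl⟩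
    exact h i
  · exact zero_smul _ _
  · intro x y _ _ hx hy
    rw [add_smul, hx, hy, add_zero]
  · intro b x _ hx
    rw [smul_eq_mul, mul_smul, hx, smul_zero]

theorem sigma_comp {n : ℕ} (g : Fin n → A) {X Q : C} (p : X ⟶ Q)
    (hp : ARSys.IsQuot (Ideal.span (Set.range g)) p) :
    biproduct.desc (fun i : Fin n => (g i • 𝟙 X)) ≫ p = 0 := by
  apply biproduct.hom_ext'
  intro i
  rw [biproduct.ι_desc_assoc, comp_zero, Linear.smul_comp, Category.id_comp]
  have e : g i • p = p ≫ (g i • 𝟙 Q) := by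
    rw [Linear.comp_smul, Category.comp_id]
  rw [e, hp.1 _ (Ideal.subset_span ⟨i, rfl⟩), comp_zero]

theorem isColimit_of_isQuot {n : ℕ} (g : Fin n → A) {X Q : C} (p : X ⟶ Q)
    (hp : ARSys.IsQuot (Ideal.span (Set.range g)) p) :
    Nonempty (IsColimit (CokernelCofork.ofπ p (sigma_comp g p hp))) := by
  have hk : ∀ {Y : C} (φ : X ⟶ Y),
      biproduct.desc (fun i : Fin n => (g i • 𝟙 X)) ≫ φ = 0 →
      ARSys.HomKilledBy (Ideal.span (Set.range g)) φ := by
    intro Y φ hφ
    apply homKilledBy_of_gens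
    intro i
    have h1 := congrArg (fun m => biproduct.ι (fun _ : Fin n => X) i ≫ m) hφ
    simp only [biproduct.ι_desc_assoc, comp_zero] at h1
    rw [Linear.smul_comp, Category.id_comp] at h1
    exact h1
  refine ⟨CokernelCofork.IsColimit.ofπ _ _
    (fun {Y} φ hφ => (hp.2 Y φ (hk φ hφ)).exists.choose)
    (fun {Y} φ hφ => (hp.2 Y φ (hk φ hφ)).exists.choose_spec)
    (fun {Y} φ hφ m hm => (hp.2 Y φ (hk φ hφ)).unique hm
      (hp.2 Y φ (hk φ hφ)).exists.choose_spec)⟩

theorem exact_of_isQuot {n : ℕ} (g : Fin n → A) {X Q : C} (p : X ⟶ Q)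
    (hp : ARSys.IsQuot (Ideal.span (Set.range g)) p) :
    (ShortComplex.mk (biproduct.desc (fun i : Fin n => (g i • 𝟙 X))) p (sigma_comp g p hp)).Exact := by
  obtain ⟨h⟩ := isColimit_of_isQuot g p hp
  exact ShortComplex.exact_of_g_is_cokernel _ h

end general

section sheaf

variable (Λ : Type (u + 1)) [CommRing Λ] {X : Scheme.{u}}

attribute [local instance] Abelian.hasFiniteBiproducts

theorem surj_sections (U : X.ProEt) (hU : ProEtS.IsWC U) {F G : EtModW.ModP Λ X} (φ : F ⟶ G)
    [Epi φ] : Function.Surjective (φ.hom.app (op U)).hom := by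
  haveI : Sheaf.IsLocallySurjective φ :=
    (Sheaf.isLocallySurjective_iff_epi' (φ := φ)).mpr inferInstance
  haveI : Sheaf.IsLocallySurjective
      ((sheafCompose (Scheme.ProEt.topology X) (forget (ModuleCat.{u + 1} Λ))).map φ) :=
    inferInstance
  haveI : Epi ((sheafCompose (Scheme.ProEt.topology X) (forget (ModuleCat.{u + 1} Λ))).map φ) :=
    inferInstance
  exact hU _ _ ((sheafCompose (Scheme.ProEt.topology X) (forget (ModuleCat.{u + 1} Λ))).map φ)
    inferInstance

/-- evaluation of morphisms on sections, as an additive map -/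
def ev (U : X.ProEt) (F G : EtModW.ModP Λ X) :
    (F ⟶ G) →+ (F.obj.obj (op U) →ₗ[Λ] G.obj.obj (op U)) where
  toFun φ := (φ.hom.app (op U)).hom
  map_zero' := rfl
  map_add' _ _ := rfl

theorem exists_preimage_of_exact (U : X.ProEt) (hU : ProEtS.IsWC U)
    (S : ShortComplex (EtModW.ModP Λ X)) (hS : S.Exact) (x : S.X₂.obj.obj (op U))
    (hx : (S.g.hom.app (op U)).hom x = 0) :
    ∃ t : S.X₁.obj.obj (op U), (S.f.hom.app (op U)).hom t = x := by
  obtain ⟨FU, hFU⟩ : ∃ FU : EtModW.ModP Λ X ⥤ ModuleCat.{u + 1} Λ,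
      FU = sheafToPresheaf (Scheme.ProEt.topology X) (ModuleCat.{u + 1} Λ) ⋙
        (evaluation _ _).obj (op U) := ⟨_, rfl⟩
  haveI : FU.PreservesZeroMorphisms := by
    subst hFU
    infer_instance
  haveI : PreservesLimit (parallelPair S.g 0) FU := by
    subst hFU
    infer_instance
  have hlim : IsLimit ((KernelFork.ofι S.iCycles S.iCycles_g).map FU) :=
    KernelFork.mapIsLimit _ S.cyclesIsKernel FU
  have hS' : (ShortComplex.mk (FU.map S.iCycles) (FU.map S.g)
      (by rw [← FU.map_comp, S.iCycles_g, FU.map_zero])).Exact :=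
    ShortComplex.exact_of_f_is_kernel _ hlim
  subst hFU
  obtain ⟨c, hc⟩ := (ShortComplex.moduleCat_exact_iff _).1 hS' x hx
  haveI : Epi S.toCycles := S.exact_iff_epi_toCycles.1 hS
  obtain ⟨t, ht⟩ := surj_sections Λ U hU S.toCycles c
  refine ⟨t, ?_⟩
  have h1 : (S.f.hom.app (op U)).hom t =
      (S.iCycles.hom.app (op U)).hom ((S.toCycles.hom.app (op U)).hom t) := by
    have := congrArg (fun m : S.X₁ ⟶ S.X₂ => (m.hom.app (op U)).hom t) S.toCycles_i
    exact this.symm
  rw [h1, ht]
  exact hc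

theorem main (I : Ideal Λ) (hI : I.FG) (F Q : EtModW.ModP Λ X) (p : F ⟶ Q)
    (hp : ARSys.IsQuot I p) (U : X.ProEt) (hU : ProEtS.IsWC U) :
    Function.Surjective (p.hom.app (op U)).hom ∧
      LinearMap.ker (p.hom.app (op U)).hom = I • (⊤ : Submodule Λ (F.obj.obj (op U))) := by
  obtain ⟨n, g, rfl⟩ := (Submodule.fg_iff_exists_fin_generating_family).1 hI
  haveI : Epi p := epi_of_isQuot _ p hp
  refine ⟨surj_sections Λ U hU p, le_antisymm ?_ ?_⟩
  · intro x hx
    rw [LinearMap.mem_ker] at hx
    obtain ⟨t, ht⟩ := exists_preimage_of_exact Λ U hU _ (exact_of_isQuot g p hp) x hx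
    have ht' : ev Λ U _ _ (biproduct.desc (fun i : Fin n => (g i • 𝟙 F))) t = x := ht
    have e : biproduct.desc (fun i : Fin n => (g i • 𝟙 F)) =
        ∑ i : Fin n, biproduct.π (fun _ : Fin n => F) i ≫ (g i • 𝟙 F) := by
      have h0 := biproduct.total (f := fun _ : Fin n => F)
      calc biproduct.desc (fun i : Fin n => (g i • 𝟙 F))
          = (∑ i : Fin n, biproduct.π (fun _ : Fin n => F) i ≫
              biproduct.ι (fun _ : Fin n => F) i) ≫
              biproduct.desc (fun i : Fin n => (g i • 𝟙 F)) := by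
            rw [h0, Category.id_comp]
        _ = ∑ i : Fin n, biproduct.π (fun _ : Fin n => F) i ≫ (g i • 𝟙 F) := by
            rw [Preadditive.sum_comp]
            refine Finset.sum_congr rfl (fun i _ => ?_)
            rw [Category.assoc, biproduct.ι_desc]
    rw [e, map_sum, LinearMap.sum_apply] at ht'
    rw [← ht']
    refine Submodule.sum_mem _ (fun i _ => ?_)
    have e2 : ev Λ U _ _ (biproduct.π (fun _ : Fin n => F) i ≫ (g i • 𝟙 F)) t =
        g i • (ev Λ U _ _ (biproduct.π (fun _ : Fin n => F) i) t) := rfl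
    rw [e2]
    exact Submodule.smul_mem_smul (Ideal.subset_span ⟨i, rfl⟩) Submodule.mem_top
  · rw [Submodule.smul_le]
    intro a ha m _
    rw [LinearMap.mem_ker, map_smul]
    have h1 : ((a • 𝟙 Q : Q ⟶ Q).hom.app (op U)).hom ((p.hom.app (op U)).hom m) =
        a • (p.hom.app (op U)).hom m := rfl
    rw [← h1, hp.1 a ha]
    rfl

end sheaf

end Groth.Agent.Lib.WCQuot
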