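import Mathlib
import Groth.Prelude.Def_PBC
import Groth.Prelude.Def_ProEtS
import Groth.Agent.Lib.WCSite3_helper3

/-!
# Quasi-compact objects of the pro-étale site are covered by affine weakly contractibles (helper3)
-/

set_option autoImplicit false
set_option linter.all false
set_option maxHeartbeats 1600000
universe u

open AlgebraicGeometry CategoryTheory Limits Opposite TopologicalSpace

namespace Groth.Agent.Lib.WCSiteH3

open Groth.Agent.Lib.WEIndEtH3 Groth.Agent.Lib.IndEtaleH3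

theorem main0714 {X : Scheme.{u}} (U : X.ProEt) [CompactSpace ↥U.left] :
    ∃ (V : X.ProEt) (g : V ⟶ U),
      Sieve.generate (Presieve.singleton g) ∈ Scheme.ProEt.topology X U ∧ IsAffine V.left ∧
        ProEtS.IsWC V := by
  let 𝒰 : U.left.OpenCover := U.left.affineCover.finiteSubcover
  haveI : Fintype 𝒰.I₀ := inferInstanceAs (Fintype U.left.affineCover.finiteSubcover.I₀)
  haveI haff : ∀ j, IsAffine (𝒰.X j) := fun j => by
    dsimp [𝒰]; infer_instance
  choose D instD algD hffD hindD hwcD using fun j : 𝒰.I₀ => main0177 (Γ(𝒰.X j, ⊤))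
  letI : ∀ j, CommRing (D j) := instD
  letI : ∀ j, Algebra Γ(𝒰.X j, ⊤) (D j) := algD
  haveI : ∀ j, Algebra.WeaklyEtale Γ(𝒰.X j, ⊤) (D j) := fun j =>
    weaklyEtale_of_isIndEtale (hindD j)
  let φ : ∀ j, CommRingCat.of Γ(𝒰.X j, ⊤) ⟶ CommRingCat.of (D j) :=
    fun j => CommRingCat.ofHom (algebraMap Γ(𝒰.X j, ⊤) (D j))
  haveI hwe1 : ∀ j, WeaklyEtale (Spec.map (φ j)) := fun j =>
    Groth.Agent.Lib.WeaklyEtaleSpecH3.weaklyEtale_SpecMap Γ(𝒰.X j, ⊤) (D j)
  haveI hs1 : ∀ j, Surjective (Spec.map (φ j)) := fun j => by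
    haveI := hffD j
    exact ⟨PrimeSpectrum.comap_surjective_of_faithfullyFlat (A := Γ(𝒰.X j, ⊤)) (B := D j)⟩
  let p : ∀ j, Spec (CommRingCat.of (D j)) ⟶ 𝒰.X j := fun j =>
    Spec.map (φ j) ≫ (𝒰.X j).isoSpec.inv
  haveI hwe2 : ∀ j, WeaklyEtale (p j) := fun j => inferInstanceAs (WeaklyEtale (_ ≫ _))
  haveI hs2 : ∀ j, Surjective (p j) := fun j => inferInstanceAs (Surjective (_ ≫ _))
  haveI hqc2 : ∀ j, QuasiCompact (p j) := fun j => inferInstance
  haveI hwe3 : ∀ j, WeaklyEtale (𝒰.f j ≫ U.hom) := fun j => inferInstance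
  haveI hwe4 : ∀ j, WeaklyEtale (p j ≫ 𝒰.f j ≫ U.hom) := fun j => inferInstance
  let Yo : 𝒰.I₀ → X.ProEt := fun j => Scheme.ProEt.mk (𝒰.f j ≫ U.hom)
  let uo : ∀ j, Yo j ⟶ U := fun j => MorphismProperty.Over.homMk (𝒰.f j)
  let Vo : 𝒰.I₀ → X.ProEt := fun j => Scheme.ProEt.mk (p j ≫ 𝒰.f j ≫ U.hom)
  let q : ∀ j, Vo j ⟶ Yo j := fun j => MorphismProperty.Over.homMk (p j)
  have hwc : ∀ j, ProEtS.IsWC (Vo j) := fun j => by
    haveI : IsAffine (Vo j).left := inferInstanceAs (IsAffine (Spec (CommRingCat.of (D j))))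
    apply isWC_of_isWContractible
    show EtPBC.IsWContractible ↥(Γ(Spec (CommRingCat.of (D j)), ⊤))
    exact isWContractible_of_ringEquiv
      (Scheme.ΓSpecIso (CommRingCat.of (D j))).commRingCatIsoToRingEquiv.symm (hwcD j)
  obtain ⟨V', g', jj, hjj, hwc', hV'⟩ := exists_sigma U Vo (fun j => q j ≫ uo j) hwc
  refine ⟨V', g', ?_, ?_, hwc'⟩
  · have hS : Sieve.generate (Presieve.ofArrows Yo uo) ∈ Scheme.ProEt.topology X U := by
      apply ofArrows_mem_topology_of_openCover Yo uo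
      · intro j
        exact inferInstanceAs (IsOpenImmersion (𝒰.f j))
      · intro x
        obtain ⟨j, y, hy⟩ := 𝒰.exists_eq x
        exact ⟨j, y, hy⟩
    refine (Scheme.ProEt.topology X).transitive hS _ ?_
    intro Y f hf
    obtain ⟨Z, a, b, ⟨j⟩, rfl⟩ := hf
    rw [Sieve.pullback_comp]
    apply (Scheme.ProEt.topology X).pullback_stable
    haveI : Surjective (q j).left := inferInstanceAs (Surjective (p j))
    haveI : QuasiCompact (q j).left := inferInstanceAs (QuasiCompact (p j))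
    refine (Scheme.ProEt.topology X).superset_covering ?_ (generate_singleton_mem (q j))
    rw [Sieve.generate_le_iff]
    rintro _ _ ⟨⟩
    exact ⟨V', jj j, g', Presieve.singleton.mk, hjj j⟩
  · rw [hV']
    haveI : ∀ j, IsAffine (Vo j).left := fun j =>
      inferInstanceAs (IsAffine (Spec (CommRingCat.of (D j))))
    infer_instance

end Groth.Agent.Lib.WCSiteH3
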