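import Mathlib
import Groth.Prelude.Def_PBC
import Groth.Prelude.Def_ProEtS
import Groth.Agent.Lib.WCSite1_helper3
import Groth.Agent.Lib.WEIndEt4_helper3

/-!
# Geometric points lift along pro-étale coverings (helper3)
-/

set_option autoImplicit false
set_option linter.all false
set_option maxHeartbeats 1600000
universe u

open AlgebraicGeometry CategoryTheory Limits Opposite TopologicalSpace

namespace Groth.Agent.Lib.WCSiteH3

/-- A geometric point lifts along a weakly étale morphism as soon as its image does. -/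
theorem exists_lift_geometric_point {V U : Scheme.{u}} (g : V ⟶ U) [WeaklyEtale g] {k : Type u}
    [Field k] [IsSepClosed k] (ξ : Spec (CommRingCat.of k) ⟶ U) (y : V)
    (z : Spec (CommRingCat.of k)) (hy : g y = ξ z) :
    ∃ ξ' : Spec (CommRingCat.of k) ⟶ V, ξ' ≫ g = ξ := by
  obtain ⟨t, ht1, ht2⟩ := Scheme.Pullback.exists_preimage_pullback y z hy
  obtain ⟨_, ⟨W, hW, rfl⟩, htW, -⟩ :=
    (pullback g ξ).isBasis_affineOpens.exists_subset_of_mem_open (Set.mem_univ t) isOpen_univ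
  let φ : CommRingCat.of k ⟶ Γ(pullback g ξ, W) := Spec.preimage (hW.fromSpec ≫ pullback.snd g ξ)
  have hφ : Spec.map φ = hW.fromSpec ≫ pullback.snd g ξ := Spec.map_preimage _
  letI : Algebra k Γ(pullback g ξ, W) := φ.hom.toAlgebra
  haveI : WeaklyEtale (Spec.map φ) := by
    rw [hφ]; infer_instance
  haveI hwe : Algebra.WeaklyEtale k Γ(pullback g ξ, W) :=
    (Groth.Agent.Lib.WeaklyEtaleAff.weaklyEtale_SpecMap_iff φ).mp inferInstance
  haveI : Nontrivial Γ(pullback g ξ, W) := by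
    have : Nonempty (PrimeSpectrum Γ(pullback g ξ, W)) := ⟨hW.isoSpec.hom ⟨t, htW⟩⟩
    exact (PrimeSpectrum.nonempty_iff_nontrivial).mp this
  obtain ⟨σ⟩ := Groth.Agent.Lib.WEIndEtH3.exists_algHom_of_isSepClosed_field k
    Γ(pullback g ξ, W)
  have hσ : φ ≫ CommRingCat.ofHom σ.toRingHom = 𝟙 _ := by
    ext c
    exact σ.commutes c
  let ξ'' : Spec (CommRingCat.of k) ⟶ pullback g ξ :=
    Spec.map (CommRingCat.ofHom σ.toRingHom) ≫ hW.fromSpec
  have h1 : ξ'' ≫ pullback.snd g ξ = 𝟙 _ := by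
    show (Spec.map (CommRingCat.ofHom σ.toRingHom) ≫ hW.fromSpec) ≫ pullback.snd g ξ = 𝟙 _
    rw [Category.assoc, ← hφ, ← Spec.map_comp, hσ, Spec.map_id]
  refine ⟨ξ'' ≫ pullback.fst g ξ, ?_⟩
  rw [Category.assoc, pullback.condition, ← Category.assoc, h1, Category.id_comp]

theorem main0739 {X : Scheme.{u}} (U : X.ProEt) (R : Sieve U)
    (hR : R ∈ Scheme.ProEt.topology X U) {k : Type u} [Field k] [IsSepClosed k]
    (ξ : Spec (CommRingCat.of k) ⟶ U.left) :
    ∃ (V : X.ProEt) (g : V ⟶ U) (ξ' : Spec (CommRingCat.of k) ⟶ V.left),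
      R g ∧ ξ' ≫ g.left = ξ := by
  obtain ⟨P, hP, hle⟩ := mem_topology_iff.mp hR
  rw [Precoverage.mem_iff_exists_zeroHypercover] at hP
  obtain ⟨E, rfl⟩ := hP
  have hE := E.mem₀
  change E.presieve₀ ∈ (Scheme.proetalePrecoverage.comap
      (Scheme.ProEt.forget X ⋙ Over.forget X)) U at hE
  rw [Precoverage.mem_comap_iff] at hE
  have hE2 := hE.2
  rw [show E.presieve₀ = Presieve.ofArrows E.X E.f from rfl, Presieve.map_ofArrows,
    Scheme.ofArrows_mem_precoverage_iff] at hE2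
  let z : Spec (CommRingCat.of k) := (⟨⊥, Ideal.bot_prime⟩ : PrimeSpectrum k)
  obtain ⟨i, y, hy⟩ := hE2.1 (ξ z)
  haveI : WeaklyEtale (E.f i).left := weaklyEtale_left (E.f i)
  obtain ⟨ξ', hξ'⟩ := exists_lift_geometric_point (E.f i).left ξ y z hy
  exact ⟨E.X i, E.f i, ξ', hle _ _ (Presieve.ofArrows.mk i), hξ'⟩

end Groth.Agent.Lib.WCSiteH3
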