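import Mathlib
import Groth.Prelude.Def_PBC
import Groth.Prelude.Def_ProEtS
import Groth.Agent.Lib.WCSite2_helper3
import Groth.Agent.Lib.WEIndEt6_helper3

/-!
# The small pro-étale site has enough points (helper3)

Points: for an affine object `W` with w-contractible coordinate ring and a point `t` of `W`, the
pro-object of clopen neighbourhoods of `t` in `W`.
-/

set_option autoImplicit false
set_option linter.all false
set_option maxHeartbeats 1600000
universe u

open AlgebraicGeometry CategoryTheory Limits Opposite TopologicalSpace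

namespace Groth.Agent.Lib.WCSiteH3

section Nhd

variable {X : Scheme.{u}} (W : X.ProEt) (t : W.left)

/-- Clopen neighbourhoods of `t` in `W`. -/
def ClopenNhd : Type u := {Z : W.left.Opens // IsClopen (Z : Set W.left) ∧ t ∈ Z}

instance : SemilatticeInf (ClopenNhd W t) :=
  Subtype.semilatticeInf (fun Z1 Z2 h1 h2 => ⟨h1.1.inter h2.1, h1.2, h2.2⟩)

instance : Nonempty (ClopenNhd W t) := ⟨⟨⊤, isClopen_univ, trivial⟩⟩

instance : IsCofiltered (ClopenNhd W t) := inferInstance

instance : InitiallySmall.{u+1} (ClopenNhd W t) := initiallySmall_of_essentiallySmall _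

/-- The pro-object of clopen neighbourhoods. -/
noncomputable def pFun : ClopenNhd W t ⥤ X.ProEt where
  obj Z := Scheme.ProEt.mk (Z.1.ι ≫ W.hom)
  map {Z Z'} h := MorphismProperty.Over.homMk (W.left.homOfLE (leOfHom h))
    (by
      show W.left.homOfLE _ ≫ Z'.1.ι ≫ W.hom = Z.1.ι ≫ W.hom
      rw [Scheme.homOfLE_ι_assoc])
  map_id Z := by
    apply MorphismProperty.Over.Hom.ext
    exact W.left.homOfLE_rfl _
  map_comp {Z1 Z2 Z3} f g := by
    apply MorphismProperty.Over.Hom.ext
    show W.left.homOfLE (leOfHom (f ≫ g)) = W.left.homOfLE (leOfHom f) ≫ W.left.homOfLE (leOfHom g)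
    rw [Scheme.homOfLE_homOfLE]

/-- The lifting property making the pro-object of clopen neighbourhoods a point of the site. -/
theorem pFun_lifting [IsAffine W.left] (hA : EtPBC.IsWContractible ↥(Γ(W.left, ⊤)))
    ⦃U : X.ProEt⦄ (R : Sieve U) (hR : R ∈ Scheme.ProEt.topology X U) ⦃Z : ClopenNhd W t⦄
    (f : (pFun W t).obj Z ⟶ U) :
    ∃ (Y : X.ProEt) (g : Y ⟶ U) (_ : R g) (V : ClopenNhd W t) (q : V ⟶ Z)
      (a : (pFun W t).obj V ⟶ Y), a ≫ g = (pFun W t).map q ≫ f := by
  -- the complement of `Z`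
  let Zc : W.left.Opens := ⟨(Z.1 : Set W.left)ᶜ, Z.2.1.1.isOpen_compl⟩
  haveI : WeaklyEtale (Zc.ι ≫ W.hom) := inferInstance
  haveI : WeaklyEtale (Z.1.ι ≫ W.hom) := inferInstance
  let ιZ : (pFun W t).obj Z ⟶ W := MorphismProperty.Over.homMk Z.1.ι
  let ιZc : Scheme.ProEt.mk (Zc.ι ≫ W.hom) ⟶ W := MorphismProperty.Over.homMk Zc.ι
  let S' : Sieve W :=
    { arrows := fun T h => (∃ l : T ⟶ (pFun W t).obj Z, l ≫ ιZ = h ∧ R (l ≫ f)) ∨
        (∃ l : T ⟶ Scheme.ProEt.mk (Zc.ι ≫ W.hom), l ≫ ιZc = h)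
      downward_closed := by
        rintro T T' h (⟨l, hl, hR⟩ | ⟨l, hl⟩) k
        · refine Or.inl ⟨k ≫ l, by rw [Category.assoc, hl], ?_⟩
          rw [Category.assoc]
          exact R.downward_closed hR k
        · exact Or.inr ⟨k ≫ l, by rw [Category.assoc, hl]⟩ }
  have hS' : S' ∈ Scheme.ProEt.topology X W := by
    let Vi : Bool → X.ProEt := fun b => cond b ((pFun W t).obj Z) (Scheme.ProEt.mk (Zc.ι ≫ W.hom))
    let gi : ∀ b, Vi b ⟶ W := fun b => match b with
      | true => ιZ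
      | false => ιZc
    have hC : Sieve.generate (Presieve.ofArrows Vi gi) ∈ Scheme.ProEt.topology X W := by
      apply ofArrows_mem_topology_of_openCover Vi gi
      · intro b
        cases b
        · exact inferInstanceAs (IsOpenImmersion Zc.ι)
        · exact inferInstanceAs (IsOpenImmersion Z.1.ι)
      · intro x
        by_cases hx : x ∈ Z.1
        · refine ⟨true, ?_⟩
          show x ∈ Set.range Z.1.ι
          rwa [Scheme.Opens.range_ι]
        · refine ⟨false, ?_⟩
          show x ∈ Set.range Zc.ι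
          rw [Scheme.Opens.range_ι]
          exact hx
    refine (Scheme.ProEt.topology X).transitive hC _ ?_
    intro Y h hh
    obtain ⟨T, a, b, ⟨i⟩, rfl⟩ := hh
    rw [Sieve.pullback_comp]
    apply (Scheme.ProEt.topology X).pullback_stable
    cases i
    · -- complement piece
      apply (Scheme.ProEt.topology X).covering_of_eq_top
      rw [← Sieve.id_mem_iff_eq_top]
      exact Or.inr ⟨𝟙 _, rfl⟩
    · refine (Scheme.ProEt.topology X).superset_covering ?_
        ((Scheme.ProEt.topology X).pullback_stable f hR)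
      intro T l hl
      exact Or.inl ⟨l, rfl, hl⟩
  obtain ⟨n, Wk, hclopen, hdisj, hcov, hWk⟩ := exists_clopen_refinement W hA S' hS'
  have ht : t ∈ ⋃ k, (Wk k : Set ↥W.left) := by rw [hcov]; trivial
  obtain ⟨k, hk⟩ := Set.mem_iUnion.mp ht
  rcases hWk k with ⟨l, hl, hlR⟩ | ⟨l, hl⟩
  · let l0 : (↑(Wk k) : Scheme) ⟶ (↑Z.1 : Scheme) := l.left
    have hl' : l0 ≫ Z.1.ι = (Wk k).ι := congrArg (fun m => m.left) hl
    have hle : Wk k ≤ Z.1 := by
      intro x hx
      have h1 : (Wk k).ι ⟨x, hx⟩ = x := rfl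
      have h2 : (Wk k).ι ⟨x, hx⟩ = Z.1.ι (l0 ⟨x, hx⟩) := by
        rw [← hl', Scheme.Hom.comp_apply]
      rw [← h1, h2]
      exact (l0 ⟨x, hx⟩).2
    let V : ClopenNhd W t := ⟨Wk k, hclopen k, hk⟩
    let q : V ⟶ Z := homOfLE hle
    have hq : (pFun W t).map q = l := by
      apply MorphismProperty.Over.Hom.ext
      show W.left.homOfLE hle = l0
      rw [← cancel_mono Z.1.ι, hl']
      exact Scheme.homOfLE_ι _ _
    refine ⟨(pFun W t).obj V, (pFun W t).map q ≫ f, ?_, V, q, 𝟙 _, Category.id_comp _⟩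
    rw [hq]
    exact hlR
  · exfalso
    let l0 : (↑(Wk k) : Scheme) ⟶ (↑Zc : Scheme) := l.left
    have hl' : l0 ≫ Zc.ι = (Wk k).ι := congrArg (fun m => m.left) hl
    have h1 : (Wk k).ι ⟨t, hk⟩ = t := rfl
    have h3 : (Wk k).ι ⟨t, hk⟩ = Zc.ι (l0 ⟨t, hk⟩) := by
      rw [← hl', Scheme.Hom.comp_apply]
    have h2 : t ∈ (Zc : Set W.left) := by
      rw [← h1, h3]
      exact (l0 ⟨t, hk⟩).2
    exact h2 Z.2.2

end Nhd

section Points

variable (X : Scheme.{u})

/-- Index type of the family of points. -/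
structure WCIdx : Type (u + 1) where
  W : X.ProEt
  aff : IsAffine W.left
  wc : EtPBC.IsWContractible ↥(Γ(W.left, ⊤))
  t : W.left

variable {X}

/-- The point of the pro-étale site attached to a point of a w-contractible affine object. -/
noncomputable def wcPoint (i : WCIdx X) :
    GrothendieckTopology.Point.{u + 1} (Scheme.ProEt.topology X) :=
  haveI := i.aff
  GrothendieckTopology.Point.ofIsCofiltered.{u + 1} (pFun i.W i.t) (pFun_lifting i.W i.t i.wc)

open GrothendieckTopology.Point.ofIsCofiltered in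
theorem isConservative :
    (ObjectProperty.ofObj (wcPoint (X := X))).IsConservativeFamilyOfPoints := by
  apply ObjectProperty.IsConservativeFamilyOfPoints.mk'
  intro U S hS
  obtain ⟨ι, V, a, hcov, hV⟩ := Groth.Agent.Lib.WEIndEtH3.main7286 U
  refine (Scheme.ProEt.topology X).transitive hcov S ?_
  intro Y f hf
  obtain ⟨T, h, _, ⟨i⟩, rfl⟩ := hf
  rw [Sieve.pullback_comp]
  apply (Scheme.ProEt.topology X).pullback_stable
  haveI := (hV i).1
  have key : ∀ t : (V i).left, ∃ Z : (V i).left.Opens, t ∈ Z ∧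
      (S.pullback (a i)).arrows (MorphismProperty.Over.homMk Z.ι :
        Scheme.ProEt.mk (Z.ι ≫ (V i).hom) ⟶ V i) := by
    intro t
    let idx : WCIdx X := ⟨V i, (hV i).1, (hV i).2, t⟩
    let Φ : (ObjectProperty.ofObj (wcPoint (X := X))).FullSubcategory :=
      ⟨wcPoint idx, ⟨idx⟩⟩
    let top : ClopenNhd (V i) t := ⟨⊤, isClopen_univ, trivial⟩
    haveI : WeaklyEtale ((⊤ : (V i).left.Opens).ι ≫ (V i).hom) := inferInstance
    let ιtop : (pFun (V i) t).obj top ⟶ V i :=
      MorphismProperty.Over.homMk (⊤ : (V i).left.Opens).ι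
    let x : (fiber.{u+1} (pFun (V i) t)).obj U := fiberMk.{u+1} (ιtop ≫ a i)
    obtain ⟨Y, g, hg, y, hy⟩ := hS Φ x
    change (fiber.{u+1} (pFun (V i) t)).obj Y at y
    change (fiber.{u+1} (pFun (V i) t)).map g y = x at hy
    obtain ⟨Z, b, rfl⟩ := fiberMk_jointly_surjective.{u+1} y
    rw [fiber_map_fiberMk.{u+1}] at hy
    let q : Z ⟶ top := homOfLE (show Z.1 ≤ (⊤ : (V i).left.Opens) from le_top)
    have hx : x = fiberMk.{u+1} ((pFun (V i) t).map q ≫ ιtop ≫ a i) :=
      (fiberMk_map_comp.{u+1} (pFun (V i) t) q (ιtop ≫ a i)).symm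
    rw [hx] at hy
    obtain ⟨Z', r, hr⟩ := exists_of_fiberMk_eq_fiberMk.{u+1} hy
    refine ⟨Z'.1, Z'.2.2, ?_⟩
    have h1 : (MorphismProperty.Over.homMk Z'.1.ι :
        Scheme.ProEt.mk (Z'.1.ι ≫ (V i).hom) ⟶ V i) =
        (pFun (V i) t).map r ≫ (pFun (V i) t).map q ≫ ιtop := by
      apply MorphismProperty.Over.Hom.ext
      show Z'.1.ι = (V i).left.homOfLE (leOfHom r) ≫ (V i).left.homOfLE (leOfHom q) ≫
        (⊤ : (V i).left.Opens).ι
      rw [Scheme.homOfLE_ι, Scheme.homOfLE_ι]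
    have h2 : ((pFun (V i) t).map r ≫ (pFun (V i) t).map q ≫ ιtop) ≫ a i =
        ((pFun (V i) t).map r ≫ b) ≫ g := by
      rw [Category.assoc, Category.assoc, Category.assoc, hr]
    have h3 : (MorphismProperty.Over.homMk Z'.1.ι :
        Scheme.ProEt.mk (Z'.1.ι ≫ (V i).hom) ⟶ V i) ≫ a i =
        ((pFun (V i) t).map r ≫ b) ≫ g := (congrArg (fun m => m ≫ a i) h1).trans h2
    have aux : ∀ {T : X.ProEt} (m m' : T ⟶ U), m = m' → S.arrows m' → S.arrows m := by
      intro T m m' h hm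
      subst h
      exact hm
    exact aux _ _ h3 (S.downward_closed hg _)
  choose Zt ht hZt using key
  haveI : ∀ t, WeaklyEtale ((Zt t).ι ≫ (V i).hom) := fun t => inferInstance
  have hc := ofArrows_mem_topology_of_openCover
    (fun t => Scheme.ProEt.mk ((Zt t).ι ≫ (V i).hom))
    (fun t => (MorphismProperty.Over.homMk (Zt t).ι :
      Scheme.ProEt.mk ((Zt t).ι ≫ (V i).hom) ⟶ V i))
    (fun t => by
      show IsOpenImmersion (Zt t).ι
      infer_instance)
    (fun x => ⟨x, by
      show x ∈ Set.range (Zt x).ι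
      rw [Scheme.Opens.range_ι]
      exact ht x⟩)
  refine (Scheme.ProEt.topology X).superset_covering ?_ hc
  rw [Sieve.generate_le_iff]
  rintro _ _ ⟨t⟩
  exact hZt t

theorem main7284 (S : Scheme.{u}) :
    GrothendieckTopology.HasEnoughPoints.{u + 1} (Scheme.ProEt.topology S) :=
  ⟨⟨ObjectProperty.ofObj (wcPoint (X := S)), inferInstance, isConservative⟩⟩

end Points

end Groth.Agent.Lib.WCSiteH3
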