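import Mathlib
import Groth.Agent.Lib.WContr1_helper8
import Groth.Agent.Lib.EtLiftGlobal_lead

set_option autoImplicit false
universe u

namespace WContrH8

open TensorProduct

open PrimeSpectrum in
theorem hasEtaleRetractions_quotient (A : Type u) [CommRing A] (h : ProEtW.HasEtaleRetractions A)
    (I : Ideal A) : ProEtW.HasEtaleRetractions (A ⧸ I) := by
  classical
  intro Bb _ _ hff het
  obtain ⟨S, _, _, hS, ⟨e⟩⟩ := Groth.Agent.Lib.EtLiftGlobal.exists_etale_lift A I Bb
  -- the image of `Spec S` is open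
  have hopen : IsOpen (Set.range (comap (algebraMap A S))) :=
    (isOpenMap_comap_of_hasGoingDown_of_finitePresentation (R := A) (S := S)).isOpen_range
  obtain ⟨J, hJ⟩ := (isClosed_iff_zeroLocus_ideal _).mp hopen.isClosed_compl
  -- the ring map `S → Bb`
  let g : S →+* Bb := (e : ((A ⧸ I) ⊗[A] S) →+* Bb).comp
    (Algebra.TensorProduct.includeRight : S →ₐ[A] (A ⧸ I) ⊗[A] S).toRingHom
  have hg : g.comp (algebraMap A S) = (algebraMap (A ⧸ I) Bb).comp (Ideal.Quotient.mk I) := by
    ext a
    show e ((Algebra.TensorProduct.includeRight : S →ₐ[A] (A ⧸ I) ⊗[A] S) (algebraMap A S a)) = _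
    rw [AlgHom.commutes, IsScalarTower.algebraMap_apply A (A ⧸ I) ((A ⧸ I) ⊗[A] S),
      AlgEquiv.commutes]
    rfl
  have hVI : ∀ p : PrimeSpectrum A, I ≤ p.asIdeal → p ∈ Set.range (comap (algebraMap A S)) := by
    intro p hp
    have h1 : p ∈ Set.range (comap (Ideal.Quotient.mk I)) := by
      rw [range_comap_of_surjective _ _ Ideal.Quotient.mk_surjective, Ideal.mk_ker]
      exact hp
    obtain ⟨pb, rfl⟩ := h1
    obtain ⟨qb, rfl⟩ := PrimeSpectrum.comap_surjective_of_faithfullyFlat (A := A ⧸ I) (B := Bb) pb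
    refine ⟨comap g qb, ?_⟩
    rw [← comap_comp_apply, hg, comap_comp_apply]
  have hsup : I ⊔ J = ⊤ := by
    by_contra hne
    obtain ⟨M, hM, hle⟩ := Ideal.exists_le_maximal _ hne
    have h1 := hVI ⟨M, hM.isPrime⟩ (le_trans le_sup_left hle)
    have h2 : (⟨M, hM.isPrime⟩ : PrimeSpectrum A) ∈ zeroLocus (J : Set A) :=
      le_trans le_sup_right hle
    rw [← hJ] at h2
    exact h2 h1
  obtain ⟨i, hi, j, hj, hij⟩ := Submodule.mem_sup.mp (hsup ▸ Submodule.mem_top : (1 : A) ∈ I ⊔ J)
  let C := ∀ b, Fam S (Localization.Away i) b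
  have hsurj : Function.Surjective (comap (algebraMap A C)) := by
    intro p
    by_cases hp : p ∈ Set.range (comap (algebraMap A S))
    · obtain ⟨Q, rfl⟩ := hp
      refine ⟨comap (prT S (Localization.Away i)) Q, ?_⟩
      rw [← comap_comp_apply, prT_comp_algebraMap]
    · have hpJ : p ∈ zeroLocus (J : Set A) := by rw [← hJ]; exact hp
      have hip : i ∉ p.asIdeal := by
        intro hip
        have hjp : j ∈ p.asIdeal := hpJ hj
        have : (1 : A) ∈ p.asIdeal := hij ▸ p.asIdeal.add_mem hip hjp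
        exact p.isPrime.ne_top ((Ideal.eq_top_iff_one _).mpr this)
      have hp' : p ∈ Set.range (comap (algebraMap A (Localization.Away i))) := by
        rw [PrimeSpectrum.localization_away_comap_range (Localization.Away i) i]
        exact hip
      obtain ⟨Q, rfl⟩ := hp'
      refine ⟨comap (prF S (Localization.Away i)) Q, ?_⟩
      rw [← comap_comp_apply, prF_comp_algebraMap]
  haveI : Module.FaithfullyFlat A C := Module.FaithfullyFlat.of_comap_surjective hsurj
  obtain ⟨ρ⟩ := h C inferInstance inferInstance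
  let ψ : C →ₐ[A] A ⧸ I := (Algebra.ofId A (A ⧸ I)).comp ρ
  let eT : C := inT (1 : S)
  let eF : C := inF (1 : Localization.Away i)
  have hsum : eT + eF = 1 := inT_add_inF
  have hψF : ψ eF = 0 := by
    obtain ⟨v, hv⟩ := (IsLocalization.Away.algebraMap_isUnit (S := Localization.Away i)
      i).exists_right_inv
    have h2 : (i • eF) * (inF v : C) = eF := by
      rw [smul_inF A, ← inF_mul, Algebra.smul_def, mul_one, hv]
    have h3 := congrArg ψ h2
    rw [map_mul, map_smul, Algebra.smul_def] at h3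
    have h4 : algebraMap A (A ⧸ I) i = 0 := Ideal.Quotient.eq_zero_iff_mem.mpr hi
    rw [h4, zero_mul, zero_mul] at h3
    exact h3.symm
  have hψT : ψ eT = 1 := by
    have := congrArg ψ hsum
    rwa [map_add, hψF, add_zero, map_one] at this
  let ρS : S →ₐ[A] A ⧸ I :=
    { toFun := fun b => ψ (inT b)
      map_one' := hψT
      map_mul' := fun x y => by rw [← map_mul, ← inT_mul]
      map_zero' := by rw [inT_zero, map_zero]
      map_add' := fun x y => by rw [← map_add, ← inT_add]
      commutes' := fun a => by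
        show ψ (inT (algebraMap A S a)) = _
        have h4 : (inT (algebraMap A S a) : C) = a • eT := by
          rw [smul_inT A, Algebra.smul_def, mul_one]
        rw [h4, map_smul, hψT, Algebra.smul_def, mul_one] }
  let τ : (A ⧸ I) ⊗[A] S →ₐ[A ⧸ I] A ⧸ I :=
    Algebra.TensorProduct.lift (AlgHom.id (A ⧸ I) (A ⧸ I)) ρS (fun _ _ => Commute.all _ _)
  exact ⟨τ.comp e.symm.toAlgHom⟩

end WContrH8
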