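import Mathlib
import Groth.Agent.Lib.WContr1_helper8
import Groth.Agent.Lib.EtLoc2_helper8

set_option autoImplicit false
universe u

namespace WContrH8

open TensorProduct

open PrimeSpectrum in
theorem hasEtaleRetractions_localization (A B : Type u) [CommRing A] [CommRing B] [Algebra A B]
    (S : Submonoid A) [IsLocalization S B] (I : Ideal A)
    (hB : Set.range (PrimeSpectrum.comap (algebraMap A B)) =
      {x | ∃ z : PrimeSpectrum A, z ∈ PrimeSpectrum.zeroLocus (R := A) I ∧ x ⤳ z})
    (hA : ProEtW.HasEtaleRetractions A) : ProEtW.HasEtaleRetractions B := by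
  classical
  intro B' _ _ hff het
  obtain ⟨T, _, _, hT, ⟨e⟩⟩ := EtLocH8.exists_etale_descent A S B B'
  -- the image of `Spec T` is open
  have hopen : IsOpen (Set.range (comap (algebraMap A T))) :=
    (isOpenMap_comap_of_hasGoingDown_of_finitePresentation (R := A) (S := T)).isOpen_range
  obtain ⟨J, hJ⟩ := (isClosed_iff_zeroLocus_ideal _).mp hopen.isClosed_compl
  -- the ring map `T → B'`
  let g : T →+* B' := (e : (B ⊗[A] T) →+* B').comp
    (Algebra.TensorProduct.includeRight : T →ₐ[A] B ⊗[A] T).toRingHom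
  have hg : g.comp (algebraMap A T) = (algebraMap B B').comp (algebraMap A B) := by
    ext a
    show e ((Algebra.TensorProduct.includeRight : T →ₐ[A] B ⊗[A] T) (algebraMap A T a)) = _
    rw [AlgHom.commutes, IsScalarTower.algebraMap_apply A B (B ⊗[A] T),
      AlgEquiv.commutes]
    rfl
  have hsub : ∀ P : PrimeSpectrum B,
      comap (algebraMap A B) P ∈ Set.range (comap (algebraMap A T)) := by
    intro P
    obtain ⟨Q, rfl⟩ := PrimeSpectrum.comap_surjective_of_faithfullyFlat (A := B) (B := B') P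
    refine ⟨comap g Q, ?_⟩
    rw [← comap_comp_apply, hg, comap_comp_apply]
  have hVI : ∀ p : PrimeSpectrum A, I ≤ p.asIdeal → p ∈ Set.range (comap (algebraMap A B)) := by
    intro p hp
    rw [hB]
    exact ⟨p, hp, specializes_rfl⟩
  have hsup : I ⊔ J = ⊤ := by
    by_contra hne
    obtain ⟨M, hM, hle⟩ := Ideal.exists_le_maximal _ hne
    obtain ⟨P, hP⟩ := hVI ⟨M, hM.isPrime⟩ (le_trans le_sup_left hle)
    have h1 := hsub P
    rw [hP] at h1
    have h2 : (⟨M, hM.isPrime⟩ : PrimeSpectrum A) ∈ zeroLocus (J : Set A) :=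
      le_trans le_sup_right hle
    rw [← hJ] at h2
    exact h2 h1
  obtain ⟨i, hi, j, hj, hij⟩ := Submodule.mem_sup.mp (hsup ▸ Submodule.mem_top : (1 : A) ∈ I ⊔ J)
  -- every maximal ideal of `B` contains `I`
  have hmax : ∀ 𝔪 : Ideal B, 𝔪.IsMaximal → I ≤ 𝔪.comap (algebraMap A B) := by
    intro 𝔪 h𝔪
    have h1 : comap (algebraMap A B) ⟨𝔪, h𝔪.isPrime⟩ ∈ Set.range (comap (algebraMap A B)) :=
      ⟨_, rfl⟩
    rw [hB] at h1
    obtain ⟨z, hz, hspec⟩ := h1
    obtain ⟨N, hN⟩ := hVI z hz
    have hle : (comap (algebraMap A B) ⟨𝔪, h𝔪.isPrime⟩) ≤ z := (le_iff_specializes _ _).mpr hspec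
    have hle' : 𝔪.comap (algebraMap A B) ≤ N.asIdeal.comap (algebraMap A B) := by
      have : z.asIdeal = N.asIdeal.comap (algebraMap A B) := by rw [← hN]; rfl
      rw [← this]
      exact hle
    have h2 : 𝔪 ≤ N.asIdeal := by
      rw [← IsLocalization.map_comap S B 𝔪, ← IsLocalization.map_comap S B N.asIdeal]
      exact Ideal.map_mono hle'
    have h3 : 𝔪 = N.asIdeal := h𝔪.eq_of_le N.isPrime.ne_top h2
    have h4 : z.asIdeal = 𝔪.comap (algebraMap A B) := by rw [h3, ← hN]; rfl
    rw [← h4]
    exact hz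
  let C := ∀ b, Fam T (Localization.Away i) b
  have hsurj : Function.Surjective (comap (algebraMap A C)) := by
    intro p
    by_cases hp : p ∈ Set.range (comap (algebraMap A T))
    · obtain ⟨Q, rfl⟩ := hp
      refine ⟨comap (prT T (Localization.Away i)) Q, ?_⟩
      rw [← comap_comp_apply, prT_comp_algebraMap]
    · have hpJ : p ∈ zeroLocus (J : Set A) := by rw [← hJ]; exact hp
      have hip : i ∉ p.asIdeal := by
        intro hip
        have hjp : j ∈ p.asIdeal := hpJ hj
        have : (1 : A) ∈ p.asIdeal := hij ▸ p.asIdeal.add_mem hip hjp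
        exact p.isPrime.ne_top ((Ideal.eq_top_iff_one _).mpr this)
      have hp' : p ∈ Set.range (comap (algebraMap A (Localization.Away i))) := by
        rw [PrimeSpectrum.localization_away_comap_range (Localization.Away i) i]
        exact hip
      obtain ⟨Q, rfl⟩ := hp'
      refine ⟨comap (prF T (Localization.Away i)) Q, ?_⟩
      rw [← comap_comp_apply, prF_comp_algebraMap]
  haveI : Module.FaithfullyFlat A C := Module.FaithfullyFlat.of_comap_surjective hsurj
  obtain ⟨ρ⟩ := hA C inferInstance inferInstance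
  let ψ : C →ₐ[A] B := (Algebra.ofId A B).comp ρ
  let eT : C := inT (1 : T)
  let eF : C := inF (1 : Localization.Away i)
  have hsum : eT + eF = 1 := inT_add_inF
  have hF_idem : IsIdempotentElem eF := by
    unfold IsIdempotentElem
    rw [← inF_mul, mul_one]
  have hψF : ψ eF = 0 := by
    obtain ⟨v, hv⟩ := (IsLocalization.Away.algebraMap_isUnit (S := Localization.Away i)
      i).exists_right_inv
    have h2 : (i • eF) * (inF v : C) = eF := by
      rw [smul_inF A, ← inF_mul, Algebra.smul_def, mul_one, hv]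
    have h3 := congrArg ψ h2
    rw [map_mul, map_smul, Algebra.smul_def] at h3
    have hmem : ∀ 𝔪 : Ideal B, 𝔪.IsMaximal → ψ eF ∈ 𝔪 := by
      intro 𝔪 h𝔪
      rw [← h3, mul_assoc]
      exact 𝔪.mul_mem_right _ (hmax 𝔪 h𝔪 hi)
    have hunit : IsUnit (1 - ψ eF) := by
      by_contra hnu
      obtain ⟨𝔪, h𝔪, hin⟩ := exists_max_ideal_of_mem_nonunits (mem_nonunits_iff.mpr hnu)
      have h1 : (1 : B) ∈ 𝔪 := by
        have := 𝔪.add_mem hin (hmem 𝔪 h𝔪)
        rwa [sub_add_cancel] at this
      exact h𝔪.ne_top ((Ideal.eq_top_iff_one _).mpr h1)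
    have hid : ψ eF * ψ eF = ψ eF := hF_idem.map ψ
    have h5 : ψ eF * (1 - ψ eF) = 0 := by
      rw [mul_sub, mul_one, hid, sub_self]
    exact (hunit.mul_left_eq_zero).mp h5
  have hψT : ψ eT = 1 := by
    have := congrArg ψ hsum
    rwa [map_add, hψF, add_zero, map_one] at this
  let ρT : T →ₐ[A] B :=
    { toFun := fun b => ψ (inT b)
      map_one' := hψT
      map_mul' := fun x y => by rw [← map_mul, ← inT_mul]
      map_zero' := by rw [inT_zero, map_zero]
      map_add' := fun x y => by rw [← map_add, ← inT_add]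
      commutes' := fun a => by
        show ψ (inT (algebraMap A T a)) = _
        have h4 : (inT (algebraMap A T a) : C) = a • eT := by
          rw [smul_inT A, Algebra.smul_def, mul_one]
        rw [h4, map_smul, hψT, Algebra.smul_def, mul_one] }
  let τ : B ⊗[A] T →ₐ[B] B :=
    Algebra.TensorProduct.lift (AlgHom.id B B) ρT (fun _ _ => Commute.all _ _)
  exact ⟨τ.comp e.symm.toAlgHom⟩

end WContrH8
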