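import Mathlib
import Groth.Agent.Lib.StalkGen_helper5

/-!
# Order of vanishing of sections on affine opens; Weil divisors on a factorial affine scheme (helper5)
-/

set_option linter.style.haveILetI false

universe u

open CategoryTheory IsLocalRing AlgebraicGeometry TopologicalSpace Opposite Order

namespace Groth.Agent.WDivOrd

section Algebra

/-- the order of vanishing of a generator of the maximal ideal is `1` -/
theorem ord_eq_one_of_span_eq_maximalIdeal {R : Type*} [CommRing R] [IsLocalRing R] {ϖ : R}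
    (h : Ideal.span {ϖ} = maximalIdeal R) : Ring.ord R ϖ = 1 := by
  have hmax : (Ideal.span {ϖ}).IsMaximal := h ▸ IsLocalRing.maximalIdeal.isMaximal R
  rw [Ring.ord, Module.length_eq_one_iff]
  rw [isSimpleModule_iff_isSimpleModule_of_algebraMap_surjective (S := R ⧸ Ideal.span {ϖ})
    Ideal.Quotient.mk_surjective]
  let := Ideal.Quotient.field (Ideal.span {ϖ})
  exact instIsSimpleModule _

/-- in a factorial domain a prime of height one is principal -/
theorem exists_prime_span {R : Type*} [CommRing R] [IsDomain R] [UniqueFactorizationMonoid R]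
    (P : Ideal R) [hP : P.IsPrime] (h : P.height = 1) :
    ∃ π : R, π ≠ 0 ∧ P = Ideal.span {π} := by
  have hne : P ≠ ⊥ := by
    rintro rfl
    rw [Ideal.height_bot] at h
    exact zero_ne_one h
  obtain ⟨π, hπP, hπ⟩ := Ideal.IsPrime.exists_mem_prime_of_ne_bot hP hne
  refine ⟨π, hπ.ne_zero, ?_⟩
  haveI hspan : (Ideal.span {π}).IsPrime := (Ideal.span_singleton_prime hπ.ne_zero).mpr hπ
  have hle : Ideal.span {π} ≤ P := (Ideal.span_singleton_le_iff_mem _).mpr hπP
  by_contra hne'
  have hlt : Ideal.span {π} < P := lt_of_le_of_ne hle (Ne.symm hne')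
  haveI : P.FiniteHeight := ⟨Or.inr (by rw [h]; exact ENat.one_ne_top)⟩
  have h1 : (Ideal.span {π}).height < 1 := h ▸ Ideal.height_strict_mono_of_isPrime_of_isPrime hlt
  haveI : (Ideal.span {π}).FiniteHeight := ⟨Or.inr (ne_top_of_lt h1)⟩
  have hbot : (⊥ : Ideal R) < Ideal.span {π} :=
    bot_lt_iff_ne_bot.mpr (fun e => hπ.ne_zero (Ideal.span_singleton_eq_bot.mp e))
  have h2 : (⊥ : Ideal R).height < (Ideal.span {π}).height :=
    Ideal.height_strict_mono_of_isPrime_of_isPrime hbot
  have h3 : (Ideal.span {π}).height = 0 := ENat.lt_one_iff_eq_zero.mp h1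
  rw [h3] at h2
  exact not_lt_bot h2

end Algebra

section Scheme

variable {X : Scheme.{u}} [IsIntegral X] [IsLocallyNoetherian X]

/-- a section whose germ at `y` is a unit has order of vanishing `0` at `y` -/
theorem ordHom_of_isUnit_germ {W : X.Opens} [Nonempty W] (t : Γ(X, W)) {y : X}
    (hy : coheight y = 1) (hyW : y ∈ W) (hu : IsUnit (X.presheaf.germ W y hyW t)) :
    X.ordHom y hy (X.germToFunctionField W t) = 1 := by
  have : Ring.KrullDimLE 1 (X.presheaf.stalk y) := krullDimLE_of_coheight_le hy.le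
  rw [← Scheme.algebraMap_germ_eq_germToFunctionField X hyW]
  exact Ring.ordFrac_of_isUnit hu

/-- a section whose germ at `y` generates the maximal ideal has order of vanishing `1` at `y` -/
theorem ordHom_of_span_eq {W : X.Opens} [Nonempty W] (t : Γ(X, W)) {y : X}
    (hy : coheight y = 1) (hyW : y ∈ W) (hne : X.presheaf.germ W y hyW t ≠ 0)
    (hs : Ideal.span {X.presheaf.germ W y hyW t} = maximalIdeal (X.presheaf.stalk y)) :
    X.ordHom y hy (X.germToFunctionField W t) =
      ((Multiplicative.ofAdd (1 : ℤ) : Multiplicative ℤ) : WithZero (Multiplicative ℤ)) := by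
  have : Ring.KrullDimLE 1 (X.presheaf.stalk y) := krullDimLE_of_coheight_le hy.le
  rw [← Scheme.algebraMap_germ_eq_germToFunctionField X hyW]
  show Ring.ordFrac (X.presheaf.stalk y) _ = _
  rw [Ring.ordFrac_eq_ord _ hne]
  have h1 := Ring.ordMonoidWithZeroHom_eq_coe (X.presheaf.stalk y)
    (mem_nonZeroDivisors_of_ne_zero hne) (n := 1)
    (by rw [ord_eq_one_of_span_eq_maximalIdeal hs]; rfl)
  simpa using h1

/-- the prime of a point of an affine open has height the coheight of the point -/
theorem height_primeIdealOf {W : X.Opens} (hW : IsAffineOpen W) (x : X) (hx : x ∈ W) :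
    (hW.primeIdealOf ⟨x, hx⟩).asIdeal.height = coheight x := by
  letI := TopCat.Presheaf.algebra_section_stalk X.presheaf (⟨x, hx⟩ : W)
  haveI : IsLocalization.AtPrime (X.presheaf.stalk x) (hW.primeIdealOf ⟨x, hx⟩).asIdeal :=
    hW.isLocalization_stalk ⟨x, hx⟩
  have h1 := IsLocalization.AtPrime.ringKrullDim_eq_height (hW.primeIdealOf ⟨x, hx⟩).asIdeal
    (X.presheaf.stalk x)
  rw [ringKrullDim_stalk_eq_coheight x] at h1
  exact (WithBot.coe_injective h1).symm

/-- membership of a section in the prime of a point of an affine open -/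
theorem mem_primeIdealOf_iff {W : X.Opens} (hW : IsAffineOpen W) (t : Γ(X, W)) (z : X)
    (hz : z ∈ W) :
    t ∈ (hW.primeIdealOf ⟨z, hz⟩).asIdeal ↔ ¬ IsUnit (X.presheaf.germ W z hz t) := by
  rw [← Groth.Agent.StalkGen.comap_maximalIdeal hW hz, Ideal.mem_comap,
    IsLocalRing.mem_maximalIdeal]
  rfl

/-- a generator of the prime of `y` has a germ generating the maximal ideal of the stalk at `y` -/
theorem span_germ_eq_maximalIdeal {W : X.Opens} (hW : IsAffineOpen W) (y : X) (hy : y ∈ W)
    (π : Γ(X, W)) (hπ : (hW.primeIdealOf ⟨y, hy⟩).asIdeal = Ideal.span {π}) :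
    Ideal.span {X.presheaf.germ W y hy π} = maximalIdeal (X.presheaf.stalk y) := by
  letI := TopCat.Presheaf.algebra_section_stalk X.presheaf (⟨y, hy⟩ : W)
  haveI : IsLocalization.AtPrime (X.presheaf.stalk y) (hW.primeIdealOf ⟨y, hy⟩).asIdeal :=
    hW.isLocalization_stalk ⟨y, hy⟩
  have h1 := IsLocalization.AtPrime.map_eq_maximalIdeal (hW.primeIdealOf ⟨y, hy⟩).asIdeal
    (X.presheaf.stalk y)
  rw [hπ, Ideal.map_span, Set.image_singleton] at h1
  exact h1

/-- Weil divisors on a factorial affine open are principal, in terms of a family of generators of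
the height one primes -/
theorem exists_of_generators {W : X.Opens} (hW : IsAffineOpen W) [Nonempty W]
    (π : X → Γ(X, W))
    (hπ : ∀ x (hx : x ∈ W), coheight x = 1 →
      π x ≠ 0 ∧ (hW.primeIdealOf ⟨x, hx⟩).asIdeal = Ideal.span {π x})
    (D : X → ℤ) (hD : ∀ x, coheight x ≠ 1 → D x = 0) (hDW : ∀ x, x ∉ W → D x = 0)
    (hfin : {x | D x ≠ 0}.Finite) :
    ∃ f : X.functionField, f ≠ 0 ∧
      ∀ y : X, y ∈ W → coheight y = 1 → Scheme.ord f y = D y := by
  classical
  have hS : ∀ x ∈ hfin.toFinset, x ∈ W ∧ coheight x = 1 := by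
    intro x hx
    have hx' : D x ≠ 0 := by simpa using hx
    exact ⟨by_contra fun h => hx' (hDW x h), by_contra fun h => hx' (hD x h)⟩
  have hg0 : ∀ x ∈ hfin.toFinset, X.germToFunctionField W (π x) ≠ 0 := by
    intro x hx h0
    have h1 : X.germToFunctionField W (π x) = X.germToFunctionField W 0 := by
      rw [h0, map_zero]
    exact (hπ x (hS x hx).1 (hS x hx).2).1 (X.germToFunctionField_injective W h1)
  refine ⟨∏ x ∈ hfin.toFinset, (X.germToFunctionField W (π x)) ^ (D x), ?_, ?_⟩
  · exact Finset.prod_ne_zero_iff.mpr fun x hx => zpow_ne_zero _ (hg0 x hx)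
  · intro y hyW hy
    rw [Scheme.ord_eq_iff hy (Finset.prod_ne_zero_iff.mpr fun x hx => zpow_ne_zero _ (hg0 x hx)),
      map_prod]
    have hfac : ∀ x ∈ hfin.toFinset,
        X.ordHom y hy ((X.germToFunctionField W (π x)) ^ (D x)) =
          if x = y then
            ((Multiplicative.ofAdd (D y) : Multiplicative ℤ) : WithZero (Multiplicative ℤ))
          else 1 := by
      intro x hx
      rw [map_zpow₀]
      by_cases hxy : x = y
      · subst hxy
        rw [if_pos rfl]
        have hgen := span_germ_eq_maximalIdeal hW x hyW (π x) (hπ x hyW hy).2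
        have hne : X.presheaf.germ W x hyW (π x) ≠ 0 := by
          intro h0
          have h1 : X.presheaf.germ W x hyW (π x) = X.presheaf.germ W x hyW 0 := by
            rw [h0, map_zero]
          exact (hπ x hyW hy).1 (germ_injective_of_isIntegral X x hyW h1)
        rw [ordHom_of_span_eq (π x) hy hyW hne hgen, ← WithZero.coe_zpow, ← ofAdd_zsmul,
          smul_eq_mul, mul_one]
      · rw [if_neg hxy]
        have hu : IsUnit (X.presheaf.germ W y hyW (π x)) := by
          by_contra hnu
          have hmem : π x ∈ (hW.primeIdealOf ⟨y, hyW⟩).asIdeal :=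
            (mem_primeIdealOf_iff hW (π x) y hyW).mpr hnu
          have hle : (hW.primeIdealOf ⟨x, (hS x hx).1⟩).asIdeal ≤
              (hW.primeIdealOf ⟨y, hyW⟩).asIdeal := by
            rw [(hπ x (hS x hx).1 (hS x hx).2).2]
            exact (Ideal.span_singleton_le_iff_mem _).mpr hmem
          have heq : (hW.primeIdealOf ⟨x, (hS x hx).1⟩).asIdeal =
              (hW.primeIdealOf ⟨y, hyW⟩).asIdeal := by
            by_contra hne
            have hlt := lt_of_le_of_ne hle hne
            haveI : (hW.primeIdealOf ⟨y, hyW⟩).asIdeal.FiniteHeight :=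
              ⟨Or.inr (by rw [height_primeIdealOf hW y hyW, hy]; exact ENat.one_ne_top)⟩
            have h2 := Ideal.height_strict_mono_of_isPrime_of_isPrime hlt
            rw [height_primeIdealOf hW y hyW, height_primeIdealOf hW x (hS x hx).1, hy,
              (hS x hx).2] at h2
            exact lt_irrefl _ h2
          have hpe : hW.primeIdealOf ⟨x, (hS x hx).1⟩ = hW.primeIdealOf ⟨y, hyW⟩ :=
            PrimeSpectrum.ext heq
          have h3 := congrArg (fun P => hW.fromSpec P) hpe
          simp only [hW.fromSpec_primeIdealOf] at h3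
          exact hxy h3
        rw [ordHom_of_isUnit_germ (π x) hy hyW hu, one_zpow]
    rw [Finset.prod_congr rfl hfac, Finset.prod_ite_eq']
    split_ifs with hmem
    · rfl
    · have : D y = 0 := by simpa using hmem
      rw [this]
      rfl

end Scheme

/-- S13460 -/
theorem main (A : Type u) [CommRing A] [IsDomain A] [IsNoetherianRing A]
    [UniqueFactorizationMonoid A]
    (D : ↥(Spec (CommRingCat.of A)) → ℤ) (hD : ∀ x, Order.coheight x ≠ 1 → D x = 0)
    (hfin : {x | D x ≠ 0}.Finite) :
    ∃ f : ↑(Spec (CommRingCat.of A)).functionField, f ≠ 0 ∧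
      ∀ x : ↥(Spec (CommRingCat.of A)), Order.coheight x = 1 → Scheme.ord f x = D x := by
  have hT : IsAffineOpen (⊤ : (Spec (CommRingCat.of A)).Opens) :=
    isAffineOpen_top (Spec (CommRingCat.of A))
  haveI : Nonempty (⊤ : (Spec (CommRingCat.of A)).Opens) :=
    ⟨⟨genericPoint (Spec (CommRingCat.of A)), trivial⟩⟩
  let e : Γ(Spec (CommRingCat.of A), ⊤) ≃+* A :=
    (Scheme.ΓSpecIso (CommRingCat.of A)).commRingCatIsoToRingEquiv
  haveI : UniqueFactorizationMonoid Γ(Spec (CommRingCat.of A), ⊤) :=
    e.symm.toMulEquiv.uniqueFactorizationMonoid ‹_›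
  have key : ∀ x : Spec (CommRingCat.of A), ∃ π : Γ(Spec (CommRingCat.of A), ⊤),
      coheight x = 1 → π ≠ 0 ∧ (hT.primeIdealOf ⟨x, trivial⟩).asIdeal = Ideal.span {π} := by
    intro x
    by_cases hx : coheight x = 1
    · have hht : (hT.primeIdealOf ⟨x, trivial⟩).asIdeal.height = 1 := by
        rw [height_primeIdealOf hT x trivial, hx]
      obtain ⟨π, hπ0, hπ⟩ := exists_prime_span _ hht
      exact ⟨π, fun _ => ⟨hπ0, hπ⟩⟩
    · exact ⟨1, fun h => absurd h hx⟩
  choose π hπ using key
  obtain ⟨f, hf0, hf⟩ := exists_of_generators hT π (fun x _ hx => hπ x hx) D hD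
    (fun x hx => absurd trivial hx) hfin
  exact ⟨f, hf0, fun y hy => hf y trivial hy⟩

end Groth.Agent.WDivOrd
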