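import Mathlib

/-!
# Weakly étale field extensions are separable algebraic (helper9)

If `L/K` is a field extension such that `L ⊗[K] L → L` is flat, then `L/K` is separable algebraic.
-/

open TensorProduct Polynomial

namespace WEField9

universe u v
variable {K : Type u} {L : Type v} [Field K] [Field L] [Algebra K L]

/-- `T φ (l ⊗ m) = φ m • l`. -/
noncomputable def T (φ : L →ₗ[K] K) : L ⊗[K] L →ₗ[K] L :=
  (TensorProduct.rid K L).toLinearMap ∘ₗ LinearMap.lTensor L φ

@[simp] lemma T_tmul (φ : L →ₗ[K] K) (l m : L) : T φ (l ⊗ₜ[K] m) = φ m • l := by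
  simp [T]

lemma T_mul_left (φ : L →ₗ[K] K) (y : L) (s : L ⊗[K] L) :
    T φ ((y ⊗ₜ[K] (1:L)) * s) = y * T φ s := by
  induction s using TensorProduct.induction_on with
  | zero => simp
  | tmul l m => simp [Algebra.TensorProduct.tmul_mul_tmul]
  | add a b ha hb => simp [mul_add, ha, hb]

lemma T_mul_right (φ : L →ₗ[K] K) (y : L) (s : L ⊗[K] L) :
    T φ (((1:L) ⊗ₜ[K] y) * s) = T (φ ∘ₗ LinearMap.mulLeft K y) s := by
  induction s using TensorProduct.induction_on with
  | zero => simp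
  | tmul l m => simp [Algebra.TensorProduct.tmul_mul_tmul]
  | add a b ha hb => simp [mul_add, ha, hb]

lemma exists_fg (t : L ⊗[K] L) : ∃ C : Submodule K L, C.FG ∧ ∀ φ : L →ₗ[K] K, T φ t ∈ C := by
  induction t using TensorProduct.induction_on with
  | zero => exact ⟨⊥, Submodule.fg_bot, fun φ => by simp⟩
  | tmul l m => exact ⟨K ∙ l, Submodule.fg_span_singleton l, fun φ => by
      rw [T_tmul]; exact Submodule.smul_mem _ _ (Submodule.mem_span_singleton_self l)⟩
  | add a b ha hb =>
    obtain ⟨C1, h1, h1'⟩ := ha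
    obtain ⟨C2, h2, h2'⟩ := hb
    exact ⟨C1 ⊔ C2, h1.sup h2, fun φ => by
      rw [map_add]; exact Submodule.add_mem_sup (h1' φ) (h2' φ)⟩

lemma exists_T_ne_zero {t : L ⊗[K] L} (ht : t ≠ 0) : ∃ φ : L →ₗ[K] K, T φ t ≠ 0 := by
  by_contra hcon
  push Not at hcon
  apply ht
  let b := Module.Free.chooseBasis K L
  let B := Algebra.TensorProduct.basis L b
  have key : ∀ s : L ⊗[K] L, ∀ i, B.repr s i = T (b.coord i) s := by
    intro s i
    induction s using TensorProduct.induction_on with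
    | zero => simp
    | tmul l m =>
      rw [Algebra.TensorProduct.basis_repr_tmul, T_tmul]
      simp [Algebra.smul_def, mul_comm]
    | add a c ha hc => simp [map_add, ha, hc]
  apply B.repr.injective
  ext i
  rw [key, hcon]; simp

/-- the subalgebra of `y` with `(y ⊗ 1) t = (1 ⊗ y) t`. -/
def eqSub (t : L ⊗[K] L) : Subalgebra K L where
  carrier := {y | (y ⊗ₜ[K] (1:L)) * t = ((1:L) ⊗ₜ[K] y) * t}
  mul_mem' := by
    intro y z hy hz
    simp only [Set.mem_ofPred_eq] at *
    have e1 : ((y * z) ⊗ₜ[K] (1:L)) = (y ⊗ₜ[K] (1:L)) * (z ⊗ₜ[K] (1:L)) := by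
      simp [Algebra.TensorProduct.tmul_mul_tmul]
    have e2 : ((1:L) ⊗ₜ[K] (y * z)) = ((1:L) ⊗ₜ[K] z) * ((1:L) ⊗ₜ[K] y) := by
      simp [Algebra.TensorProduct.tmul_mul_tmul, mul_comm]
    rw [e1, e2, mul_assoc, hz, ← mul_assoc, mul_comm (y ⊗ₜ[K] (1:L)), mul_assoc, hy, mul_assoc]
  add_mem' := by
    intro y z hy hz
    simp only [Set.mem_ofPred_eq] at *
    rw [add_tmul, tmul_add, add_mul, add_mul, hy, hz]
  algebraMap_mem' := by
    intro k
    simp only [Set.mem_ofPred_eq]
    congr 1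
    rw [Algebra.algebraMap_eq_smul_one, smul_tmul]

lemma isIntegral_of_eq {t : L ⊗[K] L} (ht : t ≠ 0) {x : L}
    (hx : (x ⊗ₜ[K] (1:L)) * t = ((1:L) ⊗ₜ[K] x) * t) : IsIntegral K x := by
  obtain ⟨C, hC, hC'⟩ := exists_fg t
  obtain ⟨φ, hφ⟩ := exists_T_ne_zero ht
  set c := T φ t with hc
  have hle : Algebra.adjoin K {x} ≤ eqSub t := Algebra.adjoin_le (by
    intro y hy; rw [Set.mem_singleton_iff] at hy; subst hy; exact hx)
  have hmem : ∀ y ∈ Algebra.adjoin K {x}, y * c ∈ C := by
    intro y hy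
    have := hle hy
    change (y ⊗ₜ[K] (1:L)) * t = ((1:L) ⊗ₜ[K] y) * t at this
    rw [hc, ← T_mul_left, this, T_mul_right]
    exact hC' _
  let f : (Algebra.adjoin K {x}).toSubmodule →ₗ[K] C :=
    LinearMap.codRestrict C ((LinearMap.mulRight K c).domRestrict _) (fun y => hmem y.1 y.2)
  have hf : Function.Injective f := by
    intro y z hyz
    have h1 := congrArg Subtype.val hyz
    have h2 : (y : L) * c = (z : L) * c := h1
    exact Subtype.ext (mul_right_cancel₀ hφ h2)
  haveI : Module.Finite K C := Module.Finite.iff_fg.mpr hC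
  haveI : Module.Finite K (Algebra.adjoin K {x}).toSubmodule := Module.Finite.of_injective f hf
  exact IsIntegral.of_mem_of_fg _ (Module.Finite.iff_fg.mp this) x (Algebra.subset_adjoin rfl)

lemma exists_t (h : (Algebra.TensorProduct.lmul' K (S := L)).Flat) (x : L) :
    ∃ t : L ⊗[K] L, (x ⊗ₜ[K] (1:L)) * t = ((1:L) ⊗ₜ[K] x) * t ∧
      Algebra.TensorProduct.lmul' K t = 1 := by
  letI := (Algebra.TensorProduct.lmul' K (S := L)).toRingHom.toAlgebra
  have hflat : Module.Flat (L ⊗[K] L) L := h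
  have hsm : ∀ (s : L ⊗[K] L) (l : L), s • l = Algebra.TensorProduct.lmul' K s * l :=
    fun s l => rfl
  set a : L ⊗[K] L := x ⊗ₜ 1 - 1 ⊗ₜ x with ha
  have hrel : ∑ i : Fin 1, (fun _ : Fin 1 => a) i • (fun _ : Fin 1 => (1:L)) i = 0 := by
    simp [hsm, ha]
  obtain ⟨k, A, y, h1, h2⟩ := Module.Flat.isTrivialRelation_of_sum_smul_eq_zero
    (R := L ⊗[K] L) (M := L) (f := fun _ : Fin 1 => a) (x := fun _ : Fin 1 => (1:L)) hrel
  refine ⟨∑ j, A 0 j * (y j ⊗ₜ 1), ?_, ?_⟩
  · have : a * ∑ j, A 0 j * (y j ⊗ₜ[K] (1:L)) = 0 := by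
      rw [Finset.mul_sum]
      apply Finset.sum_eq_zero
      intro j _
      have := h2 j
      simp only [Finset.univ_unique, Fin.default_eq_zero, Fin.isValue, Finset.sum_singleton] at this
      rw [← mul_assoc, this, zero_mul]
    rw [ha, sub_mul, sub_eq_zero] at this
    exact this
  · have := h1 0
    simp only [hsm] at this
    rw [map_sum]
    simp [← this]

lemma exists_D {x : L} (hx : IsIntegral K x) (hsep : ¬ (minpoly K x).Separable) :
    ∃ D : L →ₗ[K] L, ∀ m, D (x * m) = m + x * D m := by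
  set P := minpoly K x with hP
  have hirr : Irreducible P := minpoly.irreducible hx
  haveI : Fact (Irreducible P) := ⟨hirr⟩
  have hder : derivative P = 0 := by
    by_contra h
    exact hsep ((Polynomial.separable_iff_derivative_ne_zero hirr).mpr h)
  let q : K[X] →ₗ[K] AdjoinRoot P := (AdjoinRoot.mkₐ P).toLinearMap
  have hq : Function.Surjective q := AdjoinRoot.mk_surjective
  have hker : LinearMap.ker q ≤ LinearMap.ker (q ∘ₗ (derivative : K[X] →ₗ[K] K[X])) := by
    intro g hg
    rw [LinearMap.mem_ker] at hg ⊢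
    have : P ∣ g := AdjoinRoot.mk_eq_zero.mp hg
    obtain ⟨r, rfl⟩ := this
    show AdjoinRoot.mk P (derivative (P * r)) = 0
    rw [derivative_mul, hder, zero_mul, zero_add, map_mul, AdjoinRoot.mk_self, zero_mul]
  let D0 : AdjoinRoot P →ₗ[K] AdjoinRoot P :=
    (Submodule.liftQ _ (q ∘ₗ (derivative : K[X] →ₗ[K] K[X])) hker) ∘ₗ
      (LinearMap.quotKerEquivOfSurjective q hq).symm.toLinearMap
  have hD0 : ∀ g : K[X], D0 (AdjoinRoot.mk P g) = AdjoinRoot.mk P (derivative g) := by
    intro g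
    have : (LinearMap.quotKerEquivOfSurjective q hq).symm (AdjoinRoot.mk P g) =
        Submodule.Quotient.mk g := by
      rw [LinearEquiv.symm_apply_eq]; rfl
    simp only [D0, LinearMap.comp_apply, LinearEquiv.coe_coe, this, Submodule.liftQ_apply]
    rfl
  have hD0' : ∀ c : AdjoinRoot P, D0 (AdjoinRoot.root P * c) = c + AdjoinRoot.root P * D0 c := by
    intro c
    obtain ⟨g, rfl⟩ := AdjoinRoot.mk_surjective c
    rw [← AdjoinRoot.mk_X, ← map_mul, hD0, hD0, derivative_mul, derivative_X, one_mul, map_add,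
      map_mul]
  let φ : AdjoinRoot P →ₐ[K] L := AdjoinRoot.liftAlgHom P (Algebra.ofId K L) x (by
    rw [hP]; exact minpoly.aeval K x)
  letI : Algebra (AdjoinRoot P) L := φ.toRingHom.toAlgebra
  haveI : IsScalarTower K (AdjoinRoot P) L :=
    IsScalarTower.of_algebraMap_eq (fun k => (φ.commutes k).symm)
  have hroot : ∀ m : L, AdjoinRoot.root P • m = x * m := by
    intro m
    rw [Algebra.smul_def]
    show φ (AdjoinRoot.root P) * m = _
    simp [φ]
  let b := Module.Free.chooseBasis (AdjoinRoot P) L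
  let e : L ≃ₗ[K] (_ →₀ AdjoinRoot P) := b.repr.restrictScalars K
  let D : L →ₗ[K] L := e.symm.toLinearMap ∘ₗ (Finsupp.mapRange.linearMap D0) ∘ₗ e.toLinearMap
  refine ⟨D, fun m => ?_⟩
  show e.symm (Finsupp.mapRange.linearMap D0 (e (x * m))) =
    m + x * e.symm (Finsupp.mapRange.linearMap D0 (e m))
  have h1 : e (x * m) = AdjoinRoot.root P • e m := by
    rw [← hroot]; exact map_smul b.repr _ _
  have h2 : Finsupp.mapRange.linearMap D0 (AdjoinRoot.root P • e m) =
      e m + AdjoinRoot.root P • Finsupp.mapRange.linearMap D0 (e m) := by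
    ext i
    simp [hD0']
  rw [h1, h2, map_add, LinearEquiv.symm_apply_apply]
  congr 1
  rw [← hroot]; exact map_smul b.repr.symm _ _

theorem isSeparable_of_flat (h : (Algebra.TensorProduct.lmul' K (S := L)).Flat) :
    Algebra.IsSeparable K L := by
  refine ⟨fun x => ?_⟩
  obtain ⟨t, ht, hμ⟩ := exists_t h x
  have ht0 : t ≠ 0 := by
    rintro rfl
    simp at hμ
  have hint := isIntegral_of_eq ht0 ht
  show (minpoly K x).Separable
  by_contra hsep
  obtain ⟨D, hD⟩ := exists_D hint hsep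
  have e1 : ∀ (y : L) (s : L ⊗[K] L), LinearMap.lTensor L D ((y ⊗ₜ[K] (1:L)) * s) =
      (y ⊗ₜ[K] (1:L)) * LinearMap.lTensor L D s := by
    intro y s
    induction s using TensorProduct.induction_on with
    | zero => simp
    | tmul l m => simp [Algebra.TensorProduct.tmul_mul_tmul]
    | add a b ha hb => simp [mul_add, ha, hb]
  have e2 : ∀ (s : L ⊗[K] L), LinearMap.lTensor L D (((1:L) ⊗ₜ[K] x) * s) =
      s + ((1:L) ⊗ₜ[K] x) * LinearMap.lTensor L D s := by
    intro s
    induction s using TensorProduct.induction_on with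
    | zero => simp
    | tmul l m => simp [Algebra.TensorProduct.tmul_mul_tmul, hD, tmul_add]
    | add a b ha hb =>
      simp only [mul_add, map_add, ha, hb]; abel
  have h0 := congrArg (LinearMap.lTensor L D) ht
  rw [e1, e2] at h0
  have h3 : t = (x ⊗ₜ[K] (1:L) - (1:L) ⊗ₜ[K] x) * LinearMap.lTensor L D t := by
    rw [sub_mul, h0]; abel
  have h4 : Algebra.TensorProduct.lmul' K t = 0 := by
    rw [h3, map_mul, map_sub]; simp
  rw [hμ] at h4
  exact one_ne_zero h4

end WEField9
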