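import Mathlib

set_option autoImplicit false
universe u

namespace Groth.Agent.Lib.WGauss

open MvPolynomial

variable {k : Type u} [Field k] {n : ℕ}

/-- The generating set. -/
def gens (a b e : ℕ) : Set (Fin (n + 1) → MvPolynomial (Fin (n + 1)) k) :=
  {g : Fin (n + 1) → MvPolynomial (Fin (n + 1)) k |
    ∃ σ τ : MvPolynomial (Fin (n + 1)) k, σ.IsHomogeneous (a * e) ∧ τ.IsHomogeneous (b * e) ∧
      g = fun i => (b : k) • (τ * pderiv i σ) - (a : k) • (σ * pderiv i τ)}

/-- generator vector -/
noncomputable def om (a b : ℕ) (σ τ : MvPolynomial (Fin (n + 1)) k) :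
    Fin (n + 1) → MvPolynomial (Fin (n + 1)) k :=
  fun i => (b : k) • (τ * pderiv i σ) - (a : k) • (σ * pderiv i τ)

theorem om_apply (a b : ℕ) (σ τ : MvPolynomial (Fin (n + 1)) k) (m : Fin (n + 1)) :
    om a b σ τ m = (b : k) • (τ * pderiv m σ) - (a : k) • (σ * pderiv m τ) := rfl

theorem om_mem {a b e : ℕ} {σ τ : MvPolynomial (Fin (n + 1)) k}
    (hσ : σ.IsHomogeneous (a * e)) (hτ : τ.IsHomogeneous (b * e)) :
    om a b σ τ ∈ Submodule.span k (gens (k := k) (n := n) a b e) :=
  Submodule.subset_span ⟨σ, τ, hσ, hτ, rfl⟩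

/-- the vector `g * (X_i e_l - X_l e_i)` as a linear map in `g`. -/
noncomputable def Vlin (i l : Fin (n + 1)) :
    MvPolynomial (Fin (n + 1)) k →ₗ[k] (Fin (n + 1) → MvPolynomial (Fin (n + 1)) k) where
  toFun g := fun m => g * ((if l = m then X i else 0) - (if i = m then X l else 0))
  map_add' g h := by
    funext m
    simp only [Pi.add_apply]
    ring
  map_smul' c g := by
    funext m
    simp only [Pi.smul_apply, RingHom.id_apply, smul_mul_assoc]

theorem Vlin_apply (i l : Fin (n + 1)) (g : MvPolynomial (Fin (n + 1)) k) (m : Fin (n + 1)) :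
    Vlin i l g m = g * ((if l = m then X i else 0) - (if i = m then X l else 0)) := rfl

theorem key (a b : ℕ) (i l : Fin (n + 1)) (s t : MvPolynomial (Fin (n + 1)) k) :
    (((a : k) + (b : k)) • Vlin i l (s * t)) =
      om a b (X l * s) (X i * t) - om a b (X i * s) (X l * t) := by
  funext m
  rw [Pi.smul_apply, Pi.sub_apply, Vlin_apply, om_apply, om_apply]
  simp only [Derivation.leibniz, pderiv_X, Pi.single_apply, smul_eq_mul, smul_eq_C_mul, map_add]
  split_ifs <;> ring

theorem V_mul_mem [CharZero k] {a b e : ℕ} (hA : 0 < a * e) (hB : 0 < b * e) (hab : 0 < a + b)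
    (i l : Fin (n + 1)) {s t : MvPolynomial (Fin (n + 1)) k}
    (hs : s.IsHomogeneous (a * e - 1)) (ht : t.IsHomogeneous (b * e - 1)) :
    Vlin i l (s * t) ∈ Submodule.span k (gens (k := k) (n := n) a b e) := by
  have h1 : ∀ j : Fin (n + 1), (X j * s).IsHomogeneous (a * e) := fun j => by
    have := (isHomogeneous_X (R := k) j).mul hs
    rwa [show 1 + (a * e - 1) = a * e by omega] at this
  have h2 : ∀ j : Fin (n + 1), (X j * t).IsHomogeneous (b * e) := fun j => by
    have := (isHomogeneous_X (R := k) j).mul ht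
    rwa [show 1 + (b * e - 1) = b * e by omega] at this
  have hne : ((a : k) + (b : k)) ≠ 0 := by
    have h : ((a + b : ℕ) : k) ≠ 0 := Nat.cast_ne_zero.mpr (by omega)
    rwa [Nat.cast_add] at h
  have hk := key (k := k) a b i l s t
  have hmem : ((a : k) + (b : k)) • Vlin i l (s * t) ∈
      Submodule.span k (gens (k := k) (n := n) a b e) := by
    rw [hk]
    exact Submodule.sub_mem _ (om_mem (h1 l) (h2 i)) (om_mem (h1 i) (h2 l))
  have := Submodule.smul_mem _ ((a : k) + (b : k))⁻¹ hmem
  rwa [smul_smul, inv_mul_cancel₀ hne, one_smul] at this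

theorem exists_le_degree {ι : Type*} [DecidableEq ι] (d : ι →₀ ℕ) :
    ∀ m : ℕ, m ≤ d.degree → ∃ ν : ι →₀ ℕ, ν ≤ d ∧ ν.degree = m := by
  intro m
  induction m with
  | zero => intro _; exact ⟨0, zero_le, map_zero _⟩
  | succ m ih =>
    intro hm
    obtain ⟨ν, hν, hdeg⟩ := ih (by omega)
    have hne : ν ≠ d := by
      rintro rfl
      omega
    have hex : ∃ j, ν j < d j := by
      by_contra hcon
      push_neg at hcon
      exact hne (le_antisymm hν (Finsupp.le_def.mpr hcon))
    obtain ⟨j, hj⟩ := hex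
    refine ⟨ν + Finsupp.single j 1, Finsupp.le_def.mpr (fun x => ?_), ?_⟩
    · by_cases hx : x = j
      · subst hx
        rw [Finsupp.add_apply, Finsupp.single_eq_same]
        omega
      · rw [Finsupp.add_apply, Finsupp.single_apply, if_neg (Ne.symm hx), add_zero]
        exact Finsupp.le_def.mp hν x
    · rw [map_add, hdeg, Finsupp.degree_single]

theorem V_mem [CharZero k] {a b e : ℕ} (hA : 0 < a * e) (hB : 0 < b * e) (hab : 0 < a + b)
    (i l : Fin (n + 1)) {g : MvPolynomial (Fin (n + 1)) k}
    (hg : g.IsHomogeneous ((a * e - 1) + (b * e - 1))) :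
    Vlin i l g ∈ Submodule.span k (gens (k := k) (n := n) a b e) := by
  have hsum : Vlin i l g = ∑ d ∈ g.support, Vlin i l (monomial d (coeff d g)) := by
    rw [← map_sum, support_sum_monomial_coeff]
  rw [hsum]
  refine Submodule.sum_mem _ (fun d hd => ?_)
  have hcoef : coeff d g ≠ 0 := mem_support_iff.mp hd
  have hdeg : d.degree = (a * e - 1) + (b * e - 1) := by
    rw [Finsupp.degree_eq_weight_one]
    exact hg hcoef
  obtain ⟨ν, hν, hνdeg⟩ := exists_le_degree d (a * e - 1) (by omega)
  have hsplit : monomial d (coeff d g) = monomial ν (coeff d g) * monomial (d - ν) (1 : k) := by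
    rw [monomial_mul, mul_one, add_tsub_cancel_of_le hν]
  rw [hsplit]
  refine V_mul_mem hA hB hab i l (isHomogeneous_monomial _ hνdeg) (isHomogeneous_monomial _ ?_)
  have hs : (ν + (d - ν)).degree = d.degree := by rw [add_tsub_cancel_of_le hν]
  rw [map_add] at hs
  omega

theorem main (k : Type u) [Field k] [CharZero k] (n e a b : ℕ) (he : 0 < e) (ha : 0 < a)
    (hab : a < b)
    (f : Fin (n + 1) → MvPolynomial (Fin (n + 1)) k)
    (hf : ∀ i, (f i).IsHomogeneous ((a + b) * e - 1))
    (hEuler : ∑ i, X i * f i = 0) :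
    f ∈ Submodule.span k
      {g : Fin (n + 1) → MvPolynomial (Fin (n + 1)) k |
        ∃ σ τ : MvPolynomial (Fin (n + 1)) k, σ.IsHomogeneous (a * e) ∧ τ.IsHomogeneous (b * e) ∧
          g = fun i => (b : k) • (τ * pderiv i σ) - (a : k) • (σ * pderiv i τ)} := by
  show f ∈ Submodule.span k (gens (k := k) (n := n) a b e)
  have hA : 0 < a * e := Nat.mul_pos ha he
  have hB : 0 < b * e := Nat.mul_pos (by omega) he
  have hD : (a + b) * e = a * e + b * e := Nat.add_mul a b e
  have hab' : 0 < a + b := by omega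
  have hV : ∀ i l, Vlin i l (pderiv i (f l)) ∈
      Submodule.span k (gens (k := k) (n := n) a b e) := by
    intro i l
    apply V_mem hA hB hab' i l
    have := (hf l).pderiv (i := i)
    rwa [show (a + b) * e - 1 - 1 = (a * e - 1) + (b * e - 1) by omega] at this
  have hid : (((a + b) * e : ℕ) : k) • f = ∑ i, ∑ l, Vlin i l (pderiv i (f l)) := by
    funext m
    simp only [Pi.smul_apply, Finset.sum_apply, Vlin_apply]
    have h1 : ∑ i, X i * pderiv i (f m) = ((a + b) * e - 1) • f m := (hf m).sum_X_mul_pderiv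
    have h2 : ∑ l, X l * pderiv m (f l) = - f m := by
      have := congrArg (pderiv m) hEuler
      rw [map_sum, map_zero] at this
      simp only [Derivation.leibniz, pderiv_X, Pi.single_apply, smul_eq_mul,
        Finset.sum_add_distrib, mul_ite, mul_one, mul_zero, Finset.sum_ite_eq', Finset.mem_univ,
        if_true] at this
      linear_combination this
    have e1 : ∀ i, ∑ l, pderiv i (f l) * (if l = m then X i else 0) = X i * pderiv i (f m) := by
      intro i
      simp only [mul_ite, mul_zero, Finset.sum_ite_eq', Finset.mem_univ, if_true]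
      exact mul_comm _ _
    have e2 : ∑ i, ∑ l, pderiv i (f l) * (if i = m then X l else 0) =
        ∑ l, X l * pderiv m (f l) := by
      rw [Finset.sum_comm]
      refine Finset.sum_congr rfl (fun l _ => ?_)
      simp only [mul_ite, mul_zero, Finset.sum_ite_eq', Finset.mem_univ, if_true]
      exact mul_comm _ _
    have h3 : ∑ i, ∑ l, pderiv i (f l) * ((if l = m then X i else 0) - (if i = m then X l else 0))
        = ∑ i, X i * pderiv i (f m) - ∑ l, X l * pderiv m (f l) := by
      simp only [mul_sub, Finset.sum_sub_distrib]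
      rw [e2]
      congr 1
      exact Finset.sum_congr rfl (fun i _ => e1 i)
    rw [h3, h1, h2, sub_neg_eq_add, ← Nat.cast_smul_eq_nsmul k ((a + b) * e - 1) (f m)]
    have hD1 : (((a + b) * e : ℕ) : k) = (((a + b) * e - 1 : ℕ) : k) + 1 := by
      rw [← Nat.cast_succ]
      congr 1
      omega
    rw [hD1, add_smul, one_smul]
  have hDne : (((a + b) * e : ℕ) : k) ≠ 0 := Nat.cast_ne_zero.mpr (by omega)
  have hmem : (((a + b) * e : ℕ) : k) • f ∈ Submodule.span k (gens (k := k) (n := n) a b e) := by
    rw [hid]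
    exact Submodule.sum_mem _ (fun i _ => Submodule.sum_mem _ (fun l _ => hV i l))
  have := Submodule.smul_mem _ ((((a + b) * e : ℕ) : k))⁻¹ hmem
  rwa [smul_smul, inv_mul_cancel₀ hDne, one_smul] at this

end Groth.Agent.Lib.WGauss
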