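import Mathlib
import Groth.Prelude.Def_ProEtW
import Groth.Agent.Lib.WLocz9_helper3
import Groth.Agent.Lib.LCGlue_helper3

/-!
# The universal property of the w-localisation (helper3)
-/

set_option autoImplicit false
set_option linter.all false
set_option maxHeartbeats 1600000

universe u

open CategoryTheory Limits Topology

namespace Groth.Agent.Lib.ProfLocH3

section closedSpec

variable {Y : Type u} [TopologicalSpace Y] (hY : ProEtW.IsWLocal Y)

/-- The closed point to which `y` specialises. -/
noncomputable def cpt (y : Y) : CP Y := (homeoKappa hY).symm (ConnectedComponents.mk y)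

theorem continuous_cpt : Continuous (cpt hY) :=
  (homeoKappa hY).symm.continuous.comp ConnectedComponents.continuous_coe

theorem mk_cpt (y : Y) :
    (ConnectedComponents.mk (cpt hY y).1 : _root_.ConnectedComponents Y) =
      ConnectedComponents.mk y := by
  have := (homeoKappa hY).apply_symm_apply (ConnectedComponents.mk y)
  exact this

theorem specializes_cpt (y : Y) : y ⤳ (cpt hY y).1 := by
  obtain ⟨y', ⟨hy1, hy2⟩, -⟩ := hY.2.2 y
  have h1 : (ConnectedComponents.mk y' : _root_.ConnectedComponents Y) =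
      ConnectedComponents.mk y := by
    rw [ConnectedComponents.coe_eq_coe]
    exact (connectedComponent_eq_of_specializes' hy2).symm
  have h2 : (⟨y', hy1⟩ : CP Y) = cpt hY y := by
    apply (bijective_kappa hY).1
    show (ConnectedComponents.mk y' : _root_.ConnectedComponents Y) =
      ConnectedComponents.mk (cpt hY y).1
    rw [h1, mk_cpt]
  rw [← h2]
  exact hy2

theorem cpt_of_isClosed (y : Y) (hy : IsClosed ({y} : Set Y)) : (cpt hY y).1 = y := by
  have h := specializes_cpt hY y
  have := h.mem_closed hy rfl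
  exact this

end closedSpec

section univ

variable (A : Type u) {B : Type u} [CommRing A] [CommRing B] [Algebra A B]
  (hB : ProEtW.IsWLocal (PrimeSpectrum B))

/-- closed points of `Spec B` to `(Spec A)_cons` -/
def gcons : CP (PrimeSpectrum B) → TT A := fun y => toT A (PrimeSpectrum.comap (algebraMap A B) y.1)

include hB in
theorem continuous_gcons : Continuous (gcons A (B := B)) := by
  haveI := compactSpace_CP hB
  haveI := t2Space_CP hB
  have h0 : Continuous (fun y : CP (PrimeSpectrum B) => PrimeSpectrum.comap (algebraMap A B) y.1) :=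
    (PrimeSpectrum.continuous_comap _).comp continuous_subtype_val
  have h1 : @Continuous _ _ _ (constructibleTopology (PrimeSpectrum A))
      (fun y : CP (PrimeSpectrum B) => PrimeSpectrum.comap (algebraMap A B) y.1) := by
    apply continuous_generateFrom_iff.2
    rintro s (⟨hso, hsc⟩ | ⟨hsc, hscc⟩)
    · exact hso.preimage h0
    · have hco : IsCompact (PrimeSpectrum.comap (algebraMap A B) ⁻¹' sᶜ) :=
        (isSpectralMap_comap (algebraMap A B)).isCompact_preimage_of_isOpen hsc.isOpen_compl hscc
      have hemb : IsClosedEmbedding (Subtype.val : CP (PrimeSpectrum B) → PrimeSpectrum B) :=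
        hB.2.1.isClosedEmbedding_subtypeVal
      have hc2 : IsCompact ((fun y : CP (PrimeSpectrum B) =>
          PrimeSpectrum.comap (algebraMap A B) y.1) ⁻¹' sᶜ) := hemb.isCompact_preimage hco
      have := hc2.isClosed.isOpen_compl
      rwa [← Set.preimage_compl, compl_compl] at this
  exact @Continuous.comp (CP (PrimeSpectrum B)) (PrimeSpectrum A) (TT A) _
    (constructibleTopology (PrimeSpectrum A)) _ _ _ (WithTopology.continuous_toTopology _) h1

/-- `Spec B → (Spec A)_cons`. -/
noncomputable def hcons : C(PrimeSpectrum B, TT A) :=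
  ⟨fun y => gcons A (cpt hB y), (continuous_gcons A hB).comp (continuous_cpt hB)⟩

theorem ofT_hcons (y : PrimeSpectrum B) :
    ofT A (hcons A hB y) = PrimeSpectrum.comap (algebraMap A B) (cpt hB y).1 := rfl

theorem isUnit_phi0 (σ : bigS (SmW A)) :
    IsUnit (glueAlong (A := A) (hcons A hB) (σ : LocallyConstant (TT A) A)) := by
  apply isUnit_glueAlong
  intro y hmem
  have h1 : (σ : LocallyConstant (TT A) A) (hcons A hB y) ∉
      (PrimeSpectrum.comap (algebraMap A B) (cpt hB y).1).asIdeal := σ.2 (hcons A hB y)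
  apply h1
  show algebraMap A B _ ∈ (cpt hB y).1.asIdeal
  have hle : y ≤ (cpt hB y).1 := (PrimeSpectrum.le_iff_specializes _ _).2 (specializes_cpt hB y)
  exact hle hmem

/-- The canonical map `A_w → B`. -/
noncomputable def phiW : Aw A →ₐ[A] B :=
  { IsLocalization.lift (M := bigS (SmW A)) (g := glueAlong (A := A) (hcons A hB))
      (isUnit_phi0 A hB) with
    commutes' := fun a => by
      show IsLocalization.lift (M := bigS (SmW A)) (isUnit_phi0 A hB) (algebraMap A (Aw A) a) = _
      rw [IsScalarTower.algebraMap_apply A (LocallyConstant (TT A) A) (Aw A),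
        IsLocalization.lift_eq, algebraMap_eq_const, glueAlong_const] }

theorem phiW_algebraMapLC (χ : LocallyConstant (TT A) A) :
    phiW A hB (algebraMap (LocallyConstant (TT A) A) (Aw A) χ) =
      glueAlong (A := A) (hcons A hB) χ :=
  IsLocalization.lift_eq _ χ

/-- second coordinate of the image of `y` under any `A`-algebra map whose restriction to `LC` is
a gluing map -/
theorem eW_snd_of_glue (φ : Aw A →ₐ[A] B) (h : C(PrimeSpectrum B, TT A))
    (hφ : ∀ χ : LocallyConstant (TT A) A,
      φ (algebraMap (LocallyConstant (TT A) A) (Aw A) χ) = glueAlong (A := A) h χ)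
    (y : PrimeSpectrum B) : (eW A (PrimeSpectrum.comap φ.toRingHom y)).2 = h y := by
  show (specMap (SmW A) _).2 = _
  rw [specMap_snd]
  apply pt_eq
  intro P hP hmem hcon
  have h1 : φ (algebraMap (LocallyConstant (TT A) A) (Aw A) (ee A (TT A) hP)) ∈ y.asIdeal := hcon
  rw [hφ, glueAlong_mem_iff] at h1
  have h2 : ee A (TT A) hP (h y) = 1 := ee_apply_of_mem hP hmem
  rw [h2, map_one] at h1
  exact y.2.ne_top ((Ideal.eq_top_iff_one _).2 h1)

theorem eW_fst_comap (φ : Aw A →ₐ[A] B) (y : PrimeSpectrum B) :
    (eW A (PrimeSpectrum.comap φ.toRingHom y)).1 = PrimeSpectrum.comap (algebraMap A B) y := by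
  rw [eW_fst]
  apply PrimeSpectrum.ext
  ext a
  show φ (algebraMap A (Aw A) a) ∈ y.asIdeal ↔ algebraMap A B a ∈ y.asIdeal
  rw [φ.commutes]

theorem isWLocalMap_phiW : ProEtW.IsWLocalMap (PrimeSpectrum.comap (phiW A hB).toRingHom) := by
  refine ⟨isSpectralMap_comap _, fun y hy => ?_⟩
  rw [isClosed_singleton_iff_eW, eW_fst_comap, eW_snd_of_glue A (phiW A hB) (hcons A hB)
    (phiW_algebraMapLC A hB), ofT_hcons, cpt_of_isClosed hB y hy]

/-- uniqueness -/
theorem eq_phiW (φ : Aw A →ₐ[A] B)
    (hφ : ProEtW.IsWLocalMap (PrimeSpectrum.comap φ.toRingHom)) : φ = phiW A hB := by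
  -- the second coordinate of `Spec φ`
  have hsnd : ∀ y : PrimeSpectrum B, (eW A (PrimeSpectrum.comap φ.toRingHom y)).2 = hcons A hB y := by
    intro y
    have hsp : PrimeSpectrum.comap φ.toRingHom y ⤳ PrimeSpectrum.comap φ.toRingHom (cpt hB y).1 :=
      (specializes_cpt hB y).map hφ.1.1
    rw [specializes_iff_eW] at hsp
    rw [hsp.2]
    have hcl := hφ.2 _ (cpt hB y).2
    rw [isClosed_singleton_iff_eW, eW_fst_comap] at hcl
    apply ofT_injective
    rw [← hcl]
    rfl
  -- compare on `LC`
  have hLC : ∀ χ : LocallyConstant (TT A) A,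
      φ (algebraMap (LocallyConstant (TT A) A) (Aw A) χ) = glueAlong (A := A) (hcons A hB) χ := by
    intro χ
    rw [← sub_eq_zero]
    apply eq_zero_of_forall_exists_not_mem
    intro y
    obtain ⟨u, hu, hspec⟩ := glueAlong_spec (A := A) (hcons A hB) χ y
    obtain ⟨P, hP, hPdef⟩ : ∃ P : Set (TT A), IsClopen P ∧ P = {t | χ t = χ (hcons A hB y)} :=
      ⟨_, χ.isLocallyConstant.isClopen_fiber _, rfl⟩
    have hmemP : hcons A hB y ∈ P := by rw [hPdef]; rfl
    have hε : φ (algebraMap (LocallyConstant (TT A) A) (Aw A) (ee A (TT A) hP)) ∉ y.asIdeal := by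
      intro hcon
      have h1 : (eW A (PrimeSpectrum.comap φ.toRingHom y)).2 ∈ P := by rw [hsnd]; exact hmemP
      exact ee_not_mem_of_mem (SmW A) (PrimeSpectrum.comap φ.toRingHom y) hP h1 hcon
    have hmul : χ * ee A (TT A) hP =
        algebraMap A (LocallyConstant (TT A) A) (χ (hcons A hB y)) * ee A (TT A) hP := by
      classical
      ext t
      rw [LocallyConstant.mul_apply, LocallyConstant.mul_apply, algebraMap_eq_const]
      by_cases ht : t ∈ P
      · have : χ t = χ (hcons A hB y) := by rw [hPdef] at ht; exact ht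
        rw [this]
        rfl
      · rw [ee_apply_of_not_mem hP ht, mul_zero, mul_zero]
    have hmul' := congrArg (fun z => φ (algebraMap (LocallyConstant (TT A) A) (Aw A) z)) hmul
    simp only [map_mul] at hmul'
    rw [← IsScalarTower.algebraMap_apply, φ.commutes] at hmul'
    refine ⟨u * φ (algebraMap (LocallyConstant (TT A) A) (Aw A) (ee A (TT A) hP)),
      fun hmem => (y.2.mem_or_mem hmem).elim hu hε, ?_⟩
    have : u * φ (algebraMap (LocallyConstant (TT A) A) (Aw A) (ee A (TT A) hP)) *
        (φ (algebraMap (LocallyConstant (TT A) A) (Aw A) χ) - glueAlong (A := A) (hcons A hB) χ) =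
        u * (φ (algebraMap (LocallyConstant (TT A) A) (Aw A) χ) *
          φ (algebraMap (LocallyConstant (TT A) A) (Aw A) (ee A (TT A) hP))) -
        φ (algebraMap (LocallyConstant (TT A) A) (Aw A) (ee A (TT A) hP)) *
          (u * (glueAlong (A := A) (hcons A hB) χ - algebraMap A B (χ (hcons A hB y)))) -
        u * (algebraMap A B (χ (hcons A hB y)) *
          φ (algebraMap (LocallyConstant (TT A) A) (Aw A) (ee A (TT A) hP))) := by ring
    rw [this, hmul', hspec, mul_zero, sub_zero, sub_self]
  apply AlgHom.coe_ringHom_injective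
  apply IsLocalization.ringHom_ext (bigS (SmW A))
  ext χ
  show φ (algebraMap _ _ χ) = phiW A hB (algebraMap _ _ χ)
  rw [hLC, phiW_algebraMapLC]

end univ

theorem main0695 (A : Type u) [CommRing A] :
    ∃ (Aw : Type u) (_ : CommRing Aw) (_ : Algebra A Aw),
      Module.FaithfullyFlat A Aw ∧ EtPBC.IsIndZariski A Aw ∧ ProEtW.IsWLocal (PrimeSpectrum Aw) ∧
      ∀ (B : Type u) [CommRing B] [Algebra A B], ProEtW.IsWLocal (PrimeSpectrum B) →
        ∃! φ : Aw →ₐ[A] B, ProEtW.IsWLocalMap (PrimeSpectrum.comap φ.toRingHom) :=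
  ⟨Aw A, inferInstance, inferInstance, faithfullyFlat_Aw A, isIndZariski_BB (SmW A),
    isWLocal_Aw A, fun B _ _ hB => ⟨phiW A hB, isWLocalMap_phiW A hB,
      fun φ hφ => eq_phiW A hB φ hφ⟩⟩

end Groth.Agent.Lib.ProfLocH3
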