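import Mathlib
import Groth.Prelude.Def_ProEtW
import Groth.Agent.Lib.WLocz7_helper3
import Groth.Agent.Lib.WLocz11_helper3

/-!
# Towards S0692: incomparability versions (helper3)
-/

set_option autoImplicit false
set_option linter.all false
set_option maxHeartbeats 1600000

universe u

open CategoryTheory Limits Topology TensorProduct

namespace Groth.Agent.Lib.ProfLocH3

section s0737'

variable (A B : Type u) [CommRing A] [CommRing B] [Algebra A B] (I : Ideal A)

theorem isProfinite_quot' (hA : ProEtW.IsWLocal (PrimeSpectrum A))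
    (hI0 : PrimeSpectrum.zeroLocus (R := A) I = ProEtW.closedPoints (PrimeSpectrum A))
    (h : ∀ q q' : PrimeSpectrum B, q.asIdeal.comap (algebraMap A B) =
      q'.asIdeal.comap (algebraMap A B) → q.asIdeal ≤ q'.asIdeal → q = q') :
    ProEtW.IsProfinite (PrimeSpectrum (B ⧸ I.map (algebraMap A B))) := by
  have hcl : ∀ y : PrimeSpectrum (A ⧸ I), IsClosed ({y} : Set (PrimeSpectrum (A ⧸ I))) := by
    intro y
    rw [isClosed_singleton_quot_iff]
    have : PrimeSpectrum.comap (Ideal.Quotient.mk I) y ∈ PrimeSpectrum.zeroLocus (R := A) I := by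
      rw [← range_comap_mk]
      exact ⟨y, rfl⟩
    rw [hI0] at this
    exact this
  haveI : T2Space (PrimeSpectrum (A ⧸ I)) :=
    Groth.Agent.Lib.SpectralT1H8.t2Space_of_closed_points hcl
  haveI : TotallyDisconnectedSpace (PrimeSpectrum (A ⧸ I)) :=
    Groth.Agent.Lib.SpectralT1H8.totallyDisconnectedSpace_of_closed_points hcl
  refine Groth.Agent.S0701.result (A ⧸ I) (B ⧸ I.map (algebraMap A B)) ?_
  intro q q' hqq' hle
  -- pull back to `B`
  have hinj := PrimeSpectrum.comap_injective_of_surjective
    (Ideal.Quotient.mk (I.map (algebraMap A B))) Ideal.Quotient.mk_surjective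
  apply hinj
  apply h
  · show (q.asIdeal.comap (Ideal.Quotient.mk (I.map (algebraMap A B)))).comap (algebraMap A B) =
      (q'.asIdeal.comap (Ideal.Quotient.mk (I.map (algebraMap A B)))).comap (algebraMap A B)
    have key : ∀ r : Ideal (B ⧸ I.map (algebraMap A B)),
        (r.comap (Ideal.Quotient.mk (I.map (algebraMap A B)))).comap (algebraMap A B) =
        (r.comap (algebraMap (A ⧸ I) (B ⧸ I.map (algebraMap A B)))).comap (Ideal.Quotient.mk I) := by
      intro r
      rw [Ideal.comap_comap, Ideal.comap_comap]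
      rfl
    rw [key, key, hqq']
  · exact Ideal.comap_mono hle

theorem main0737' (hA : ProEtW.IsWLocal (PrimeSpectrum A))
    (hI0 : PrimeSpectrum.zeroLocus (R := A) I = ProEtW.closedPoints (PrimeSpectrum A))
    (h : ∀ q q' : PrimeSpectrum B, q.asIdeal.comap (algebraMap A B) =
      q'.asIdeal.comap (algebraMap A B) → q.asIdeal ≤ q'.asIdeal → q = q') :
    PrimeSpectrum.zeroLocus (R := B) (I.map (algebraMap A B)) ⊆
        ProEtW.closedPoints (PrimeSpectrum B) ∧
    ∃ (C : Type u) (_ : CommRing C) (_ : Algebra B C) (_ : Algebra A C) (_ : IsScalarTower A B C),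
      EtPBC.IsIndZariski B C ∧
      Function.Bijective (Ideal.quotientMap ((I.map (algebraMap A B)).map (algebraMap B C))
        (algebraMap B C) Ideal.le_comap_map) ∧
      ProEtW.IsWLocal (PrimeSpectrum C) ∧
      ProEtW.IsWLocalMap (PrimeSpectrum.comap (algebraMap A C)) ∧
      ProEtW.closedPoints (PrimeSpectrum C) =
        PrimeSpectrum.comap (algebraMap A C) ⁻¹' ProEtW.closedPoints (PrimeSpectrum A) := by
  have hprof := isProfinite_zeroLocus_of_quot _ (isProfinite_quot' A B I hA hI0 h)
  refine ⟨?_, ?_⟩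
  · intro y hy
    obtain ⟨h1, h2, h3⟩ := hprof
    haveI := h2
    have hcl : IsClosed ({(⟨y, hy⟩ : ↥(PrimeSpectrum.zeroLocus (R := B) (I.map (algebraMap A B))))} :
        Set ↥(PrimeSpectrum.zeroLocus (R := B) (I.map (algebraMap A B)))) := isClosed_singleton
    have hemb : IsClosedEmbedding (Subtype.val :
        ↥(PrimeSpectrum.zeroLocus (R := B) (I.map (algebraMap A B))) → PrimeSpectrum B) :=
      (PrimeSpectrum.isClosed_zeroLocus _).isClosedEmbedding_subtypeVal
    have := hemb.isClosedMap _ hcl
    rw [Set.image_singleton] at this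
    exact this
  · obtain ⟨C, hC1, hC2, hind, hwl, hcp, hbij⟩ := main0705 B (I.map (algebraMap A B)) hprof
    letI : Algebra A C := ((algebraMap B C).comp (algebraMap A B)).toAlgebra
    haveI : IsScalarTower A B C := IsScalarTower.of_algebraMap_eq (fun _ => rfl)
    have hmap : (I.map (algebraMap A B)).map (algebraMap B C) = I.map (algebraMap A C) := by
      rw [Ideal.map_map]
      rfl
    have hpre : ProEtW.closedPoints (PrimeSpectrum C) =
        PrimeSpectrum.comap (algebraMap A C) ⁻¹' ProEtW.closedPoints (PrimeSpectrum A) := by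
      rw [hcp, ← hI0, hmap]
      ext q
      rw [Set.mem_preimage, PrimeSpectrum.mem_zeroLocus, PrimeSpectrum.mem_zeroLocus,
        SetLike.coe_subset_coe, SetLike.coe_subset_coe, Ideal.map_le_iff_le_comap]
      rfl
    refine ⟨C, hC1, hC2, inferInstance, inferInstance, hind, hbij, hwl,
      ⟨isSpectralMap_comap _, fun q hq => ?_⟩, hpre⟩
    have : q ∈ ProEtW.closedPoints (PrimeSpectrum C) := hq
    rw [hpre] at this
    exact this

end s0737'

end Groth.Agent.Lib.ProfLocH3
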