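import Mathlib
import Groth.Prelude.Def_ProEtW
import Groth.Agent.Lib.WLocz13_helper3
import Groth.Agent.Lib.IndEtale1_helper3
import Groth.Agent.Lib.IndEtale4_helper3
import Groth.Agent.S0733
import Groth.Agent.S0734

/-!
# Towards S0692: incomparability for ind-étale maps, base change of algebraic residue extensions
(helper3)
-/

set_option autoImplicit false
set_option linter.all false
set_option maxHeartbeats 1600000

universe u

open CategoryTheory Limits Topology TensorProduct

namespace Groth.Agent.Lib.ProfLocH3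

section inc

variable (A C : Type u) [CommRing A] [CommRing C] [Algebra A C]

/-- Primes in a fibre of an ind-étale map are incomparable. -/
theorem incomparable_of_isIndEtale (h : EtPBC.IsIndEtale A C) (q q' : PrimeSpectrum C)
    (hqq' : q.asIdeal.comap (algebraMap A C) = q'.asIdeal.comap (algebraMap A C))
    (hle : q.asIdeal ≤ q'.asIdeal) : q = q' := by
  apply PrimeSpectrum.ext
  refine le_antisymm hle ?_
  intro x hx
  obtain ⟨E, _, _, _, f, c, hc⟩ := Groth.Agent.Lib.IndEtaleH3.exists_of_isIndEtale h x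
  haveI : Algebra.QuasiFinite A E := inferInstance
  haveI : (q.asIdeal.comap f.toRingHom).IsPrime := Ideal.comap_isPrime _ _
  haveI : (q'.asIdeal.comap f.toRingHom).IsPrime := Ideal.comap_isPrime _ _
  have hcomp : (algebraMap A C) = f.toRingHom.comp (algebraMap A E) := by
    ext a
    exact (f.commutes a).symm
  have key := Algebra.QuasiFinite.eq_of_le_of_under_eq (R := A) (q.asIdeal.comap f.toRingHom)
    (q'.asIdeal.comap f.toRingHom) (Ideal.comap_mono hle) (by
      show (q.asIdeal.comap f.toRingHom).comap (algebraMap A E) =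
        (q'.asIdeal.comap f.toRingHom).comap (algebraMap A E)
      rw [Ideal.comap_comap, Ideal.comap_comap, ← hcomp, hqq'])
  have : c ∈ q'.asIdeal.comap f.toRingHom := by
    show f c ∈ q'.asIdeal
    rw [hc]
    exact hx
  rw [← key] at this
  have : f c ∈ q.asIdeal := this
  rw [hc] at this
  exact this

end inc

section tensorprime

theorem exists_prime_tensor'' {R A B : Type u} [CommRing R] [CommRing A] [CommRing B] [Algebra R A]
    [Algebra R B] (P : PrimeSpectrum A) (Q : PrimeSpectrum B)
    (h : PrimeSpectrum.comap (algebraMap R A) P = PrimeSpectrum.comap (algebraMap R B) Q) :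
    ∃ r : PrimeSpectrum (A ⊗[R] B),
      PrimeSpectrum.comap (Algebra.TensorProduct.includeLeftRingHom) r = P ∧
      PrimeSpectrum.comap (Algebra.TensorProduct.includeRight.toRingHom) r = Q := by
  have hpb := AlgebraicGeometry.isPullback_SpecMap_of_isPushout _ _ _ _
    (CommRingCat.isPushout_tensorProduct R A B)
  obtain ⟨p, hp1, hp2⟩ :=
    AlgebraicGeometry.Scheme.exists_preimage_of_isPullback hpb P Q h
  exact ⟨p, hp1, hp2⟩

end tensorprime

section basechange

variable (A B C : Type u) [CommRing A] [CommRing B] [CommRing C] [Algebra A B] [Algebra A C]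

attribute [local instance] Algebra.TensorProduct.rightAlgebra

theorem algebraMap_right_comp :
    (algebraMap C (B ⊗[A] C)).comp (algebraMap A C) =
      (algebraMap B (B ⊗[A] C)).comp (algebraMap A B) := by
  ext a
  show (1 : B) ⊗ₜ[A] (algebraMap A C a) = (algebraMap A B a) ⊗ₜ[A] (1 : C)
  rw [Algebra.algebraMap_eq_smul_one, Algebra.algebraMap_eq_smul_one, TensorProduct.smul_tmul]

/-- Algebraic residue field extensions are stable under base change. -/
theorem algebraicResidue_baseChange (h : ProEtW.AlgebraicResidueExtensions A B) :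
    ProEtW.AlgebraicResidueExtensions C (B ⊗[A] C) := by
  intro q hq
  obtain ⟨c, hc⟩ : ∃ c : Ideal C, c = q.comap (algebraMap C (B ⊗[A] C)) := ⟨_, rfl⟩
  obtain ⟨p, hp⟩ : ∃ p : Ideal B, p = q.comap (algebraMap B (B ⊗[A] C)) := ⟨_, rfl⟩
  haveI : c.IsPrime := hc ▸ Ideal.comap_isPrime _ _
  haveI : p.IsPrime := hp ▸ Ideal.comap_isPrime _ _
  have hpc : p.comap (algebraMap A B) = c.comap (algebraMap A C) := by
    rw [hp, hc, Ideal.comap_comap, Ideal.comap_comap, algebraMap_right_comp]
  haveI := h p
  let f : (A ⧸ p.comap (algebraMap A B)) →+* (C ⧸ q.comap (algebraMap C (B ⊗[A] C))) :=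
    Ideal.quotientMap _ (algebraMap A C) (by rw [← hc]; exact le_of_eq hpc)
  have hf : Function.Injective f := by
    apply Ideal.quotientMap_injective'
    rw [← hc]
    exact le_of_eq hpc.symm
  let g : (B ⧸ p) →+* ((B ⊗[A] C) ⧸ q) :=
    Ideal.quotientMap q (algebraMap B (B ⊗[A] C)) (le_of_eq hp)
  have hcomp : RingHom.comp (algebraMap (C ⧸ q.comap (algebraMap C (B ⊗[A] C))) ((B ⊗[A] C) ⧸ q)) f =
      RingHom.comp g (algebraMap (A ⧸ p.comap (algebraMap A B)) (B ⧸ p)) := by
    apply Ideal.Quotient.ringHom_ext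
    ext a
    show Ideal.Quotient.mk q (algebraMap C (B ⊗[A] C) (algebraMap A C a)) =
      Ideal.Quotient.mk q (algebraMap B (B ⊗[A] C) (algebraMap A B a))
    have := congr($(algebraMap_right_comp A B C) a)
    simp only [RingHom.comp_apply] at this
    rw [this]
  have hb : ∀ b : B, IsAlgebraic (C ⧸ q.comap (algebraMap C (B ⊗[A] C)))
      (Ideal.Quotient.mk q (b ⊗ₜ[A] (1 : C))) := by
    intro b
    have hb0 : IsAlgebraic (A ⧸ p.comap (algebraMap A B)) (Ideal.Quotient.mk p b) :=
      Algebra.IsAlgebraic.isAlgebraic _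
    exact hb0.ringHom_of_comp_eq f g hf hcomp
  haveI : (q.comap (algebraMap C (B ⊗[A] C))).IsPrime := Ideal.comap_isPrime _ _
  refine ⟨fun x => ?_⟩
  obtain ⟨x, rfl⟩ := Ideal.Quotient.mk_surjective x
  rw [← Subalgebra.mem_algebraicClosure]
  induction x using TensorProduct.induction_on with
  | zero => rw [map_zero]; exact zero_mem _
  | tmul b c' =>
    have e : (b ⊗ₜ[A] c' : B ⊗[A] C) = (b ⊗ₜ[A] (1 : C)) * ((1 : B) ⊗ₜ[A] c') := by
      rw [Algebra.TensorProduct.tmul_mul_tmul, mul_one, one_mul]
    rw [e, map_mul]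
    refine mul_mem (hb b) ?_
    have : Ideal.Quotient.mk q ((1 : B) ⊗ₜ[A] c') =
        algebraMap (C ⧸ q.comap (algebraMap C (B ⊗[A] C))) ((B ⊗[A] C) ⧸ q)
          (Ideal.Quotient.mk _ c') := rfl
    rw [this]
    exact Subalgebra.algebraMap_mem _ _
  | add x y hx hy => rw [map_add]; exact add_mem hx hy

end basechange

section quotprime

variable {R S : Type u} [CommRing R] [CommRing S] [Algebra R S]

/-- If `R/J → S/JS` is bijective, every prime of `R` containing `J` lifts to `S`. -/
theorem exists_prime_of_bijective_quotientMap (J : Ideal R)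
    (hbij : Function.Bijective (Ideal.quotientMap (J.map (algebraMap R S)) (algebraMap R S)
      Ideal.le_comap_map)) (r : PrimeSpectrum R) (hr : J ≤ r.asIdeal) :
    ∃ d : PrimeSpectrum S, PrimeSpectrum.comap (algebraMap R S) d = r := by
  have hmem : r ∈ PrimeSpectrum.zeroLocus (R := R) J := by
    rw [PrimeSpectrum.mem_zeroLocus]
    exact hr
  rw [← range_comap_mk] at hmem
  obtain ⟨rbar, hrbar⟩ := hmem
  let e := RingEquiv.ofBijective _ hbij
  refine ⟨PrimeSpectrum.comap (Ideal.Quotient.mk (J.map (algebraMap R S)))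
    (PrimeSpectrum.comap (e.symm : (S ⧸ J.map (algebraMap R S)) →+* (R ⧸ J)) rbar), ?_⟩
  rw [← hrbar]
  apply PrimeSpectrum.ext
  ext x
  show (e.symm (Ideal.Quotient.mk (J.map (algebraMap R S)) (algebraMap R S x))) ∈ rbar.asIdeal ↔
    Ideal.Quotient.mk J x ∈ rbar.asIdeal
  have : Ideal.Quotient.mk (J.map (algebraMap R S)) (algebraMap R S x) =
      e (Ideal.Quotient.mk J x) := rfl
  rw [this, RingEquiv.symm_apply_apply]

end quotprime

section Dside

variable (A B C : Type u) [CommRing A] [CommRing B] [CommRing C] [Algebra A B] [Algebra A C]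

attribute [local instance] Algebra.TensorProduct.rightAlgebra

theorem exists_D (h : ProEtW.AlgebraicResidueExtensions A B)
    (hC : ProEtW.IsWLocal (PrimeSpectrum C)) (hind : EtPBC.IsIndEtale A C)
    (hsurj : PrimeSpectrum.comap (algebraMap A C) '' ProEtW.closedPoints (PrimeSpectrum C) =
      Set.univ) :
    ∃ (D : Type u) (_ : CommRing D) (_ : Algebra B D) (_ : Algebra C D) (_ : Algebra A D)
      (_ : IsScalarTower A C D) (_ : IsScalarTower A B D),
      Module.FaithfullyFlat B D ∧ EtPBC.IsIndEtale B D ∧ ProEtW.IsWLocal (PrimeSpectrum D) ∧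
      ProEtW.IsWLocalMap (PrimeSpectrum.comap (algebraMap C D)) ∧
      ProEtW.closedPoints (PrimeSpectrum D) =
        PrimeSpectrum.comap (algebraMap C D) ⁻¹' ProEtW.closedPoints (PrimeSpectrum C) ∧
      PrimeSpectrum.comap (algebraMap B D) '' ProEtW.closedPoints (PrimeSpectrum D) = Set.univ := by
  obtain ⟨I, hI⟩ : ∃ I : Ideal C, I = PrimeSpectrum.vanishingIdeal
    (ProEtW.closedPoints (PrimeSpectrum C)) := ⟨_, rfl⟩
  have hI0 : PrimeSpectrum.zeroLocus (R := C) I = ProEtW.closedPoints (PrimeSpectrum C) := by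
    rw [hI, PrimeSpectrum.zeroLocus_vanishingIdeal_eq_closure]
    exact hC.2.1.closure_eq
  obtain ⟨hV, D, hD1, hD2, hD3, hD4, hindZ, hbij, hwl, hwlmap, hcp⟩ :=
    main0737' C (B ⊗[A] C) I hC hI0
      (incomparable_of_algebraicResidue C (B ⊗[A] C) (algebraicResidue_baseChange A B C h))
  letI algBD : Algebra B D := ((algebraMap (B ⊗[A] C) D).comp (algebraMap B (B ⊗[A] C))).toAlgebra
  haveI : IsScalarTower B (B ⊗[A] C) D := IsScalarTower.of_algebraMap_eq (fun _ => rfl)
  letI algAD : Algebra A D := ((algebraMap B D).comp (algebraMap A B)).toAlgebra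
  haveI towerABD : IsScalarTower A B D := IsScalarTower.of_algebraMap_eq (fun _ => rfl)
  haveI towerACD : IsScalarTower A C D := by
    refine IsScalarTower.of_algebraMap_eq (fun a => ?_)
    show algebraMap (B ⊗[A] C) D (algebraMap B (B ⊗[A] C) (algebraMap A B a)) =
      algebraMap C D (algebraMap A C a)
    rw [IsScalarTower.algebraMap_apply C (B ⊗[A] C) D]
    have := congr($(algebraMap_right_comp A B C) a)
    simp only [RingHom.comp_apply] at this
    rw [this]
  have hindBD : EtPBC.IsIndEtale B D :=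
    Groth.Agent.S0734.result B (B ⊗[A] C) D (Groth.Agent.S0733.result A C B hind)
      (isIndEtale_of_isIndZariski (B ⊗[A] C) hindZ)
  have hsurjD : PrimeSpectrum.comap (algebraMap B D) '' ProEtW.closedPoints (PrimeSpectrum D) =
      Set.univ := by
    rw [Set.eq_univ_iff_forall]
    intro p
    have hp : PrimeSpectrum.comap (algebraMap A B) p ∈ (Set.univ : Set (PrimeSpectrum A)) :=
      Set.mem_univ _
    rw [← hsurj] at hp
    obtain ⟨c, hcC, hcp'⟩ := hp
    obtain ⟨r, hr1, hr2⟩ := exists_prime_tensor'' (R := A) p c hcp'.symm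
    have hrI : I.map (algebraMap C (B ⊗[A] C)) ≤ r.asIdeal := by
      rw [Ideal.map_le_iff_le_comap]
      have hcz : c ∈ PrimeSpectrum.zeroLocus (R := C) I := by rw [hI0]; exact hcC
      rw [PrimeSpectrum.mem_zeroLocus] at hcz
      intro x hx
      have : x ∈ c.asIdeal := hcz hx
      rw [← hr2] at this
      exact this
    obtain ⟨d, hd⟩ := exists_prime_of_bijective_quotientMap (I.map (algebraMap C (B ⊗[A] C))) hbij r hrI
    refine ⟨d, ?_, ?_⟩
    · rw [hcp]
      show PrimeSpectrum.comap (algebraMap C D) d ∈ ProEtW.closedPoints (PrimeSpectrum C)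
      have : PrimeSpectrum.comap (algebraMap C D) d = c := by
        rw [← hr2, ← hd]
        apply PrimeSpectrum.ext
        show d.asIdeal.comap (algebraMap C D) = (d.asIdeal.comap (algebraMap (B ⊗[A] C) D)).comap _
        rw [Ideal.comap_comap]
        congr 1
        ext x
        exact IsScalarTower.algebraMap_apply C (B ⊗[A] C) D x
      rw [this]
      exact hcC
    · rw [← hr1, ← hd]
      apply PrimeSpectrum.ext
      show d.asIdeal.comap (algebraMap B D) = (d.asIdeal.comap (algebraMap (B ⊗[A] C) D)).comap _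
      rw [Ideal.comap_comap]
      rfl
  haveI : Module.Flat B D := Groth.Agent.Lib.IndEtaleH3.flat_of_isIndEtale hindBD
  have hff : Module.FaithfullyFlat B D := by
    apply Module.FaithfullyFlat.of_comap_surjective
    intro p
    have hp : p ∈ (Set.univ : Set (PrimeSpectrum B)) := Set.mem_univ _
    rw [← hsurjD] at hp
    obtain ⟨d, -, hd⟩ := hp
    exact ⟨d, hd⟩
  exact ⟨D, hD1, algBD, hD3, algAD, towerACD, towerABD, hff, hindBD, hwl, hwlmap, hcp, hsurjD⟩

end Dside

end Groth.Agent.Lib.ProfLocH3
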