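import Mathlib
import Groth.Prelude.Def_ProEtW
import Groth.Agent.Lib.WLocz14_helper3
import Groth.Agent.Lib.StrictHensEquiv_helper8
import Groth.Agent.S0693
import Groth.Agent.S0675

/-!
# S0692: simultaneous w-strictly-local covers (helper3)
-/

set_option autoImplicit false
set_option linter.all false
set_option maxHeartbeats 1600000

universe u

open CategoryTheory Limits Topology TensorProduct

namespace Groth.Agent.Lib.ProfLocH3

section Cside

variable (A : Type u) [CommRing A]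

theorem exists_C :
    ∃ (C : Type u) (_ : CommRing C) (_ : Algebra A C),
      Module.FaithfullyFlat A C ∧ EtPBC.IsIndEtale A C ∧ ProEtW.IsWLocal (PrimeSpectrum C) ∧
      PrimeSpectrum.comap (algebraMap A C) '' ProEtW.closedPoints (PrimeSpectrum C) = Set.univ ∧
      ∀ (m : Ideal C) [m.IsMaximal],
        EtCoh.IsStrictlyHenselianLocalRing (Localization.AtPrime m) := by
  obtain ⟨A', hA'1, hA'2, hffA', hindA', hwlA', hbijA'⟩ := main0694 A
  obtain ⟨C₀, hC₀1, hC₀2, hffC₀, hindC₀, hretr⟩ := Groth.Agent.S0693.result A'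
  obtain ⟨I, hI⟩ : ∃ I : Ideal A', I = PrimeSpectrum.vanishingIdeal
    (ProEtW.closedPoints (PrimeSpectrum A')) := ⟨_, rfl⟩
  have hI0 : PrimeSpectrum.zeroLocus (R := A') I = ProEtW.closedPoints (PrimeSpectrum A') := by
    rw [hI, PrimeSpectrum.zeroLocus_vanishingIdeal_eq_closure]
    exact hwlA'.2.1.closure_eq
  obtain ⟨hV, C, hC1, hC2, hC3, hC4, hindZ, hbij, hwl, hwlmap, hcp⟩ :=
    main0737' A' C₀ I hwlA' hI0 (incomparable_of_isIndEtale A' C₀ hindC₀)
  letI algAC₀ : Algebra A C₀ := ((algebraMap A' C₀).comp (algebraMap A A')).toAlgebra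
  haveI : IsScalarTower A A' C₀ := IsScalarTower.of_algebraMap_eq (fun _ => rfl)
  letI algAC : Algebra A C := ((algebraMap A' C).comp (algebraMap A A')).toAlgebra
  haveI : IsScalarTower A A' C := IsScalarTower.of_algebraMap_eq (fun _ => rfl)
  have hindAC : EtPBC.IsIndEtale A C :=
    Groth.Agent.S0734.result A A' C (isIndEtale_of_isIndZariski A hindA')
      (Groth.Agent.S0734.result A' C₀ C hindC₀ (isIndEtale_of_isIndZariski C₀ hindZ))
  have hsurj : PrimeSpectrum.comap (algebraMap A C) '' ProEtW.closedPoints (PrimeSpectrum C) =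
      Set.univ := by
    rw [Set.eq_univ_iff_forall]
    intro a
    obtain ⟨a', ha'cl, ha'⟩ := hbijA'.surjOn (Set.mem_univ a)
    obtain ⟨c₀, hc₀⟩ := PrimeSpectrum.comap_surjective_of_faithfullyFlat (A := A') (B := C₀) a'
    have hc₀I : I.map (algebraMap A' C₀) ≤ c₀.asIdeal := by
      rw [Ideal.map_le_iff_le_comap]
      have hz : a' ∈ PrimeSpectrum.zeroLocus (R := A') I := by rw [hI0]; exact ha'cl
      rw [PrimeSpectrum.mem_zeroLocus] at hz
      intro x hx
      have : x ∈ a'.asIdeal := hz hx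
      rw [← hc₀] at this
      exact this
    obtain ⟨c, hc⟩ := exists_prime_of_bijective_quotientMap (I.map (algebraMap A' C₀)) hbij c₀ hc₀I
    have hca' : PrimeSpectrum.comap (algebraMap A' C) c = a' := by
      rw [← hc₀, ← hc]
      apply PrimeSpectrum.ext
      show c.asIdeal.comap (algebraMap A' C) = (c.asIdeal.comap (algebraMap C₀ C)).comap _
      rw [Ideal.comap_comap]
      congr 1
      ext x
      exact IsScalarTower.algebraMap_apply A' C₀ C x
    refine ⟨c, ?_, ?_⟩
    · rw [hcp]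
      show PrimeSpectrum.comap (algebraMap A' C) c ∈ ProEtW.closedPoints (PrimeSpectrum A')
      rw [hca']
      exact ha'cl
    · rw [← ha', ← hca']
      apply PrimeSpectrum.ext
      show c.asIdeal.comap (algebraMap A C) = (c.asIdeal.comap (algebraMap A' C)).comap _
      rw [Ideal.comap_comap]
      rfl
  haveI : Module.Flat A C := Groth.Agent.Lib.IndEtaleH3.flat_of_isIndEtale hindAC
  have hff : Module.FaithfullyFlat A C := by
    apply Module.FaithfullyFlat.of_comap_surjective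
    intro p
    have hp : p ∈ (Set.univ : Set (PrimeSpectrum A)) := Set.mem_univ _
    rw [← hsurj] at hp
    obtain ⟨d, -, hd⟩ := hp
    exact ⟨d, hd⟩
  refine ⟨C, hC1, algAC, hff, hindAC, hwl, hsurj, ?_⟩
  intro m hm
  obtain ⟨q, hq⟩ : ∃ q : PrimeSpectrum C, q = ⟨m, hm.isPrime⟩ := ⟨_, rfl⟩
  have hqcl : q ∈ ProEtW.closedPoints (PrimeSpectrum C) := by
    show IsClosed ({q} : Set (PrimeSpectrum C))
    rw [PrimeSpectrum.isClosed_singleton_iff_isMaximal, hq]
    exact hm
  rw [hcp] at hqcl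
  have hqA' : PrimeSpectrum.comap (algebraMap A' C) q ∈ PrimeSpectrum.zeroLocus (R := A') I := by
    rw [hI0]
    exact hqcl
  rw [PrimeSpectrum.mem_zeroLocus] at hqA'
  obtain ⟨q₀, hq₀⟩ : ∃ q₀ : PrimeSpectrum C₀, q₀ = PrimeSpectrum.comap (algebraMap C₀ C) q :=
    ⟨_, rfl⟩
  have hq₀V : q₀ ∈ PrimeSpectrum.zeroLocus (R := C₀) (I.map (algebraMap A' C₀)) := by
    rw [PrimeSpectrum.mem_zeroLocus, SetLike.coe_subset_coe, Ideal.map_le_iff_le_comap]
    intro x hx
    have h1 : algebraMap A' C x ∈ q.asIdeal := hqA' hx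
    rw [IsScalarTower.algebraMap_apply A' C₀ C] at h1
    rw [hq₀]
    exact h1
  have hq₀cl : IsClosed ({q₀} : Set (PrimeSpectrum C₀)) := hV hq₀V
  rw [PrimeSpectrum.isClosed_singleton_iff_isMaximal] at hq₀cl
  have hbijloc := identifiesLocalRings_of_isIndZariski (A := C₀) (B := C) hindZ q
  have hm₀ : (q.asIdeal.comap (algebraMap C₀ C)).IsMaximal := by
    rw [hq₀] at hq₀cl
    exact hq₀cl
  have hsh := Groth.Agent.S0675.result C₀ hretr (q.asIdeal.comap (algebraMap C₀ C))
  have e := RingEquiv.ofBijective _ hbijloc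
  have hfin := Groth.Agent.Lib.StrictHensEquivH8.isStrictlyHenselian_of_ringEquiv e hsh
  subst hq
  exact hfin

end Cside

theorem main0692 (A B : Type u) [CommRing A] [CommRing B] [Algebra A B]
    (h : ProEtW.AlgebraicResidueExtensions A B) :
    ∃ (C D : Type u) (_ : CommRing C) (_ : CommRing D) (_ : Algebra A C) (_ : Algebra B D)
      (_ : Algebra C D) (_ : Algebra A D) (_ : IsScalarTower A C D) (_ : IsScalarTower A B D),
      Module.FaithfullyFlat A C ∧ EtPBC.IsIndEtale A C ∧ Module.FaithfullyFlat B D ∧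
      EtPBC.IsIndEtale B D ∧ ProEtW.IsWLocal (PrimeSpectrum C) ∧ ProEtW.IsWLocal (PrimeSpectrum D) ∧
      ProEtW.IsWLocalMap (PrimeSpectrum.comap (algebraMap C D)) ∧
      ProEtW.closedPoints (PrimeSpectrum D) =
        PrimeSpectrum.comap (algebraMap C D) ⁻¹' ProEtW.closedPoints (PrimeSpectrum C) ∧
      PrimeSpectrum.comap (algebraMap A C) '' ProEtW.closedPoints (PrimeSpectrum C) = Set.univ ∧
      PrimeSpectrum.comap (algebraMap B D) '' ProEtW.closedPoints (PrimeSpectrum D) = Set.univ ∧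
      ∀ (m : Ideal C) [m.IsMaximal],
        EtCoh.IsStrictlyHenselianLocalRing (Localization.AtPrime m) := by
  obtain ⟨C, hC1, hC2, hffC, hindC, hwlC, hsurjC, hshC⟩ := exists_C A
  obtain ⟨D, hD1, hD2, hD3, hD4, hD5, hD6, hffD, hindD, hwlD, hwlmap, hcp, hsurjD⟩ :=
    exists_D A B C h hwlC hindC hsurjC
  exact ⟨C, D, hC1, hD1, hC2, hD2, hD3, hD4, hD5, hD6, hffC, hindC, hffD, hindD, hwlC, hwlD,
    hwlmap, hcp, hsurjC, hsurjD, fun m _ => hshC m⟩

end Groth.Agent.Lib.ProfLocH3
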