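import Mathlib
import Groth.Prelude.Def_ProEtW
import Groth.Agent.Lib.WLocz5_helper3
import Groth.Agent.Lib.WLocz2_helper3

/-!
# If `A → B` identifies local rings then `B_w` is ind-Zariski over `A` (helper3)
-/

set_option autoImplicit false
set_option linter.all false
set_option maxHeartbeats 1600000

universe u

open CategoryTheory Limits Topology

namespace Groth.Agent.Lib.ProfLocH3

section s0183

variable (A B : Type u) [CommRing A] [CommRing B] [Algebra A B]

/-- `(Spec B)_cons → Spec A`. -/
def tauA : TT B → PrimeSpectrum A := fun t => PrimeSpectrum.comap (algebraMap A B) (ofT B t)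

theorem isClopen_tauA (a : A) :
    IsClopen (tauA A B ⁻¹' (PrimeSpectrum.basicOpen a : Set (PrimeSpectrum A))) := by
  have : tauA A B ⁻¹' (PrimeSpectrum.basicOpen a : Set (PrimeSpectrum A)) =
      ofT B ⁻¹' (PrimeSpectrum.basicOpen (algebraMap A B a) : Set (PrimeSpectrum B)) := by
    ext t
    rfl
  rw [this]
  exact isClopen_preimage_basicOpen B _

/-- `B_w`. -/
abbrev Bw : Type u := BG (ofT B)

/-- The `A`-algebra with the same profinite set. -/
abbrev Aw' : Type u := BG (tauA A B)

theorem algebraMap_ABw (a : A) :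
    algebraMap A (Bw B) a = algebraMap B (Bw B) (algebraMap A B a) := by
  rw [IsScalarTower.algebraMap_apply A (LocallyConstant (TT B) B) (Bw B),
    IsScalarTower.algebraMap_apply B (LocallyConstant (TT B) B) (Bw B)]
  rfl

instance isScalarTower_ABBw : IsScalarTower A B (Bw B) :=
  (IsScalarTower.of_algebraMap_eq (R := A) (S := B) (A := Bw B) (algebraMap_ABw A B))

theorem le_comap_bigS : bigS (SmG (tauA A B)) ≤
    (bigS (SmG (ofT B))).comap (LocallyConstant.mapRingHom (algebraMap A B)) := by
  intro φ hφ t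
  exact hφ t

/-- The comparison map. -/
noncomputable def Psi : Aw' A B →+* Bw B :=
  IsLocalization.map (Bw B) (LocallyConstant.mapRingHom (algebraMap A B)) (le_comap_bigS A B)

theorem Psi_algebraMapLC (φ : LocallyConstant (TT B) A) :
    Psi A B (algebraMap (LocallyConstant (TT B) A) (Aw' A B) φ) =
      algebraMap (LocallyConstant (TT B) B) (Bw B)
        (LocallyConstant.mapRingHom (algebraMap A B) φ) :=
  IsLocalization.map_eq _ _

theorem Psi_algebraMap (a : A) :
    Psi A B (algebraMap A (Aw' A B) a) = algebraMap A (Bw B) a := by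
  rw [IsScalarTower.algebraMap_apply A (LocallyConstant (TT B) A) (Aw' A B), Psi_algebraMapLC,
    IsScalarTower.algebraMap_apply A (LocallyConstant (TT B) B) (Bw B)]
  rfl

/-- `B_w` as an algebra over `A'`. -/
@[instance_reducible]
noncomputable def algPsi' : Algebra (Aw' A B) (Bw B) := (Psi A B).toAlgebra

attribute [local instance] algPsi'

theorem algebraMap_Aw'Bw : algebraMap (Aw' A B) (Bw B) = Psi A B := rfl

instance : IsScalarTower A (Aw' A B) (Bw B) :=
  IsScalarTower.of_algebraMap_eq (fun a => (Psi_algebraMap A B a).symm)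

theorem mapRingHom_ee {P : Set (TT B)} (hP : IsClopen P) :
    LocallyConstant.mapRingHom (algebraMap A B) (ee A (TT B) hP) = ee B (TT B) hP := by
  classical
  ext t
  show algebraMap A B (ee A (TT B) hP t) = _
  by_cases h : t ∈ P
  · rw [ee_apply_of_mem hP h, ee_apply_of_mem hP h, map_one]
  · rw [ee_apply_of_not_mem hP h, ee_apply_of_not_mem hP h, map_zero]

theorem eG_comap_Psi (q : PrimeSpectrum (Bw B)) :
    eG (tauA A B) (PrimeSpectrum.comap (Psi A B) q) =
      (PrimeSpectrum.comap (algebraMap A B) (eG (ofT B) q).1, (eG (ofT B) q).2) := by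
  apply Prod.ext
  · rw [eG_fst, eG_fst]
    apply PrimeSpectrum.ext
    ext a
    show Psi A B (algebraMap A (Aw' A B) a) ∈ q.asIdeal ↔
      algebraMap B (Bw B) (algebraMap A B a) ∈ q.asIdeal
    rw [Psi_algebraMap, ← IsScalarTower.algebraMap_apply]
  · show (specMap (SmG (tauA A B)) _).2 = _
    rw [specMap_snd]
    apply pt_eq
    intro P hP hmem hcon
    have h1 : Psi A B (algebraMap _ (Aw' A B) (ee A (TT B) hP)) ∈ q.asIdeal := hcon
    rw [Psi_algebraMapLC, mapRingHom_ee] at h1
    exact ee_not_mem_of_mem (SmG (ofT B)) q hP hmem h1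

theorem identifies_Aw'Bw (h : EtPBC.IdentifiesLocalRings A B) :
    EtPBC.IdentifiesLocalRings (Aw' A B) (Bw B) := by
  intro q
  have hA := identifiesLocalRings_BB (SmG (tauA A B)) (isOpenFamily_SmG _ (isClopen_tauA A B))
    (PrimeSpectrum.comap (Psi A B) q)
  have hB := identifiesLocalRings_BB (SmG (ofT B))
    (isOpenFamily_SmG _ (isClopen_preimage_basicOpen B)) q
  have hAB := h (PrimeSpectrum.comap (algebraMap B (Bw B)) q)
  have e1 : q.asIdeal.comap (algebraMap A (Bw B)) =
      (q.asIdeal.comap (algebraMap (Aw' A B) (Bw B))).comap (algebraMap A (Aw' A B)) := by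
    rw [Ideal.comap_comap, ← IsScalarTower.algebraMap_eq]
  have e2 : q.asIdeal.comap (algebraMap A (Bw B)) =
      (q.asIdeal.comap (algebraMap B (Bw B))).comap (algebraMap A B) := by
    rw [Ideal.comap_comap, ← IsScalarTower.algebraMap_eq]
  have L1 : Function.Bijective (Localization.localRingHom (q.asIdeal.comap (algebraMap A (Bw B)))
      (q.asIdeal.comap (algebraMap (Aw' A B) (Bw B))) (algebraMap A (Aw' A B)) e1) :=
    bijective_localRingHom_of_eq _ _ _ _ rfl e1 hA
  have L2 : Function.Bijective (Localization.localRingHom (q.asIdeal.comap (algebraMap A (Bw B)))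
      (q.asIdeal.comap (algebraMap B (Bw B))) (algebraMap A B) e2) :=
    bijective_localRingHom_of_eq _ _ _ _ rfl e2 hAB
  have c1 : Localization.localRingHom (q.asIdeal.comap (algebraMap A (Bw B))) q.asIdeal
      (algebraMap A (Bw B)) rfl =
      (Localization.localRingHom (q.asIdeal.comap (algebraMap (Aw' A B) (Bw B))) q.asIdeal
        (algebraMap (Aw' A B) (Bw B)) rfl).comp
      (Localization.localRingHom (q.asIdeal.comap (algebraMap A (Bw B)))
        (q.asIdeal.comap (algebraMap (Aw' A B) (Bw B))) (algebraMap A (Aw' A B)) e1) :=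
    Localization.localRingHom_unique _ _ _ _ (fun x => by
      rw [RingHom.comp_apply, Localization.localRingHom_to_map, Localization.localRingHom_to_map,
        algebraMap_Aw'Bw, Psi_algebraMap])
  have c2 : Localization.localRingHom (q.asIdeal.comap (algebraMap A (Bw B))) q.asIdeal
      (algebraMap A (Bw B)) rfl =
      (Localization.localRingHom (q.asIdeal.comap (algebraMap B (Bw B))) q.asIdeal
        (algebraMap B (Bw B)) rfl).comp
      (Localization.localRingHom (q.asIdeal.comap (algebraMap A (Bw B)))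
        (q.asIdeal.comap (algebraMap B (Bw B))) (algebraMap A B) e2) :=
    Localization.localRingHom_unique _ _ _ _ (fun x => by
      rw [RingHom.comp_apply, Localization.localRingHom_to_map, Localization.localRingHom_to_map,
        ← IsScalarTower.algebraMap_apply A B (Bw B)])
  have hbij : Function.Bijective (Localization.localRingHom
      (q.asIdeal.comap (algebraMap A (Bw B))) q.asIdeal (algebraMap A (Bw B)) rfl) := by
    rw [c2, RingHom.coe_comp]
    exact hB.comp L2
  rw [c1, RingHom.coe_comp] at hbij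
  exact (Function.Bijective.of_comp_iff _ L1).1 hbij

theorem isWLocalMap_Psi :
    ProEtW.IsWLocalMap (PrimeSpectrum.comap (algebraMap (Aw' A B) (Bw B))) := by
  refine ⟨isSpectralMap_comap _, fun q hq => ?_⟩
  rw [isClosed_singleton_iff_eG _ (isClopen_preimage_basicOpen B)] at hq
  rw [isClosed_singleton_iff_eG _ (isClopen_tauA A B)]
  show (eG (tauA A B) (PrimeSpectrum.comap (Psi A B) q)).1 =
    tauA A B (eG (tauA A B) (PrimeSpectrum.comap (Psi A B) q)).2
  rw [eG_comap_Psi, hq]
  rfl

theorem pi0_bijective_Psi :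
    Function.Bijective
      (PrimeSpectrum.continuous_comap (algebraMap (Aw' A B) (Bw B))).connectedComponentsMap := by
  obtain ⟨EA, hEA⟩ : ∃ EA : _root_.ConnectedComponents (PrimeSpectrum (Aw' A B)) ≃ₜ TT B,
      ∀ p', EA (ConnectedComponents.mk p') = (eG (tauA A B) p').2 :=
    ⟨pi0HomeoBG (tauA A B) (isClopen_tauA A B), fun _ => rfl⟩
  obtain ⟨EB, hEB⟩ : ∃ EB : _root_.ConnectedComponents (PrimeSpectrum (Bw B)) ≃ₜ TT B,
      ∀ q, EB (ConnectedComponents.mk q) = (eG (ofT B) q).2 :=
    ⟨pi0HomeoBG (ofT B) (isClopen_preimage_basicOpen B), fun _ => rfl⟩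
  have hcomp : ∀ c, EA ((PrimeSpectrum.continuous_comap
      (algebraMap (Aw' A B) (Bw B))).connectedComponentsMap c) = EB c := by
    intro c
    obtain ⟨q, rfl⟩ := ConnectedComponents.surjective_coe c
    show EA (ConnectedComponents.mk (PrimeSpectrum.comap (Psi A B) q)) = _
    rw [hEA, hEB, eG_comap_Psi]
  have : (PrimeSpectrum.continuous_comap
      (algebraMap (Aw' A B) (Bw B))).connectedComponentsMap = EA.symm ∘ EB := by
    funext c
    rw [Function.comp_apply, ← hcomp c, Homeomorph.symm_apply_apply]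
  rw [this]
  exact EA.symm.bijective.comp EB.bijective

theorem bijective_Psi (h : EtPBC.IdentifiesLocalRings A B) : Function.Bijective (Psi A B) :=
  Groth.Agent.S0699.result (Aw' A B) (Bw B) (identifies_Aw'Bw A B h)
    (isWLocal_BG _ (isClopen_tauA A B)) (isWLocal_BG _ (isClopen_preimage_basicOpen B))
    (isWLocalMap_Psi A B) (pi0_bijective_Psi A B)

theorem main0183 (h : EtPBC.IdentifiesLocalRings A B) :
    ∃ (B' : Type u) (_ : CommRing B') (_ : Algebra B B') (_ : Algebra A B')
      (_ : IsScalarTower A B B'),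
      Module.FaithfullyFlat B B' ∧ EtPBC.IsIndZariski B B' ∧ EtPBC.IsIndZariski A B' := by
  refine ⟨Bw B, inferInstance, inferInstance, inferInstance, inferInstance, ?_, ?_, ?_⟩
  · exact faithfullyFlat_BG (ofT B) (isClopen_preimage_basicOpen B) (fun x => ⟨toT B x, rfl⟩)
  · exact isIndZariski_BB _
  · obtain ⟨J, hJ1, hJ2, D, c, hc, hloc, ⟨iso⟩⟩ := isIndZariski_BB (SmG (tauA A B))
    refine ⟨J, hJ1, hJ2, D, c, hc, hloc, ⟨iso ≪≫ ?_⟩⟩
    refine Under.isoMk (RingEquiv.toCommRingCatIso
      (RingEquiv.ofBijective (Psi A B) (bijective_Psi A B h))) ?_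
    ext a
    exact Psi_algebraMap A B a

end s0183

end Groth.Agent.Lib.ProfLocH3
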