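import Mathlib

/-!
# Limits of acyclic complexes of abelian groups over a well-ordered index set (helper5)
-/

set_option autoImplicit false
universe w
open CategoryTheory CategoryTheory.Limits Opposite

namespace Groth.Agent.WOLim5

variable {I : Type w} [LinearOrder I] [WellFoundedLT I]
  (K : Iᵒᵖ ⥤ CochainComplex AddCommGrpCat.{w} ℤ)

/-- the differential of `K_γ`. -/
def dd (γ : I) (m n : ℤ) : (K.obj (op γ)).X m →+ (K.obj (op γ)).X n :=
  ((K.obj (op γ)).d m n).hom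

/-- the transition map `K_γ' → K_γ` for `γ ≤ γ'`. -/
def rr {γ γ' : I} (h : γ ≤ γ') (n : ℤ) : (K.obj (op γ')).X n →+ (K.obj (op γ)).X n :=
  ((K.map (homOfLE h).op).f n).hom

omit [WellFoundedLT I] in
theorem rr_refl (γ : I) (n : ℤ) (x : (K.obj (op γ)).X n) : rr K (le_refl γ) n x = x := by
  have h1 : K.map (homOfLE (le_refl γ)).op = 𝟙 _ := by
    rw [← K.map_id]
    rfl
  unfold rr
  rw [h1]
  rfl

omit [WellFoundedLT I] in
theorem rr_rr {γ γ' γ'' : I} (h1 : γ ≤ γ') (h2 : γ' ≤ γ'') (n : ℤ) (x : (K.obj (op γ'')).X n) :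
    rr K h1 n (rr K h2 n x) = rr K (h1.trans h2) n x := by
  have h : K.map (homOfLE (h1.trans h2)).op = K.map (homOfLE h2).op ≫ K.map (homOfLE h1).op := by
    rw [← K.map_comp]
    rfl
  unfold rr
  rw [h]
  rfl

omit [WellFoundedLT I] in
theorem rr_dd {γ γ' : I} (h : γ ≤ γ') (m n : ℤ) (x : (K.obj (op γ')).X m) :
    rr K h n (dd K γ' m n x) = dd K γ m n (rr K h m x) :=
  (congrArg (fun φ => φ.hom x) ((K.map (homOfLE h).op).comm m n)).symm

omit [WellFoundedLT I] in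
theorem dd_dd (γ : I) (l m n : ℤ) (x : (K.obj (op γ)).X l) :
    dd K γ m n (dd K γ l m x) = 0 := by
  have h := congrArg (fun φ => φ.hom x) ((K.obj (op γ)).d_comp_d l m n)
  exact h

/-- acyclicity of the kernel of `K_β → lim_{δ<β} K_δ`. -/
def Acyc (β : I) : Prop :=
  ∀ (l m n : ℤ), l + 1 = m → m + 1 = n → ∀ w : (K.obj (op β)).X m, dd K β m n w = 0 →
    (∀ δ (h : δ < β), rr K h.le m w = 0) →
    ∃ v : (K.obj (op β)).X l, dd K β l m v = w ∧ ∀ δ (h : δ < β), rr K h.le l v = 0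

/-- acyclicity of `lim_{γ ∈ S} K_γ`. -/
def Lift (S : Set I) : Prop :=
  ∀ (l m n : ℤ), l + 1 = m → m + 1 = n → ∀ z : ∀ γ, (K.obj (op γ)).X m,
    (∀ γ ∈ S, dd K γ m n (z γ) = 0) →
    (∀ γ' ∈ S, ∀ γ (h : γ ≤ γ'), rr K h m (z γ') = z γ) →
    ∃ y : ∀ γ, (K.obj (op γ)).X l, (∀ γ ∈ S, dd K γ l m (y γ) = z γ) ∧
      (∀ γ' ∈ S, ∀ γ (h : γ ≤ γ'), rr K h l (y γ') = y γ)

variable (hac' : ∀ (β : I) (l m n : ℤ), l + 1 = m → m + 1 = n → ∀ x : (K.obj (op β)).X m,
    dd K β m n x = 0 → ∃ y, dd K β l m y = x)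
  (hsurj : ∀ (β : I) (n : ℤ) (x : ∀ γ : {γ : I // γ < β}, (K.obj (op γ.1)).X n),
    (∀ (γ γ' : {γ : I // γ < β}) (h : γ.1 ≤ γ'.1), rr K h n (x γ') = x γ) →
    ∃ y : (K.obj (op β)).X n, ∀ γ : {γ : I // γ < β}, rr K γ.2.le n y = x γ)

include hsurj in
theorem lift_of_acyc (S : Set I) (hS : ∀ γ' ∈ S, ∀ γ, γ ≤ γ' → γ ∈ S)
    (hA : ∀ β ∈ S, Acyc K β) : Lift K S := by
  intro l m n hlm hmn z hz hzc
  classical
  let Fx : ∀ β : I, (∀ δ, δ < β → (K.obj (op δ)).X l) → (K.obj (op β)).X l := fun β ih =>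
    if h : ∃ v : (K.obj (op β)).X l, dd K β l m v = z β ∧
      ∀ δ (hδ : δ < β), rr K hδ.le l v = ih δ hδ
    then h.choose else 0
  let y : ∀ β, (K.obj (op β)).X l := fun β =>
    WellFounded.fix (C := fun β => (K.obj (op β)).X l) (wellFounded_lt (α := I)) Fx β
  have hy : ∀ β, y β = Fx β (fun δ _ => y δ) := fun β =>
    WellFounded.fix_eq (C := fun β => (K.obj (op β)).X l) (wellFounded_lt (α := I)) Fx β
  have good : ∀ β, β ∈ S → dd K β l m (y β) = z β ∧
      ∀ δ (hδ : δ < β), rr K hδ.le l (y β) = y δ := by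
    intro β
    induction β using WellFoundedLT.induction with
    | ind β IH =>
      intro hβ
      have hex : ∃ v : (K.obj (op β)).X l, dd K β l m v = z β ∧
          ∀ δ (hδ : δ < β), rr K hδ.le l v = y δ := by
        have hcomp : ∀ (γ γ' : {γ : I // γ < β}) (h : γ.1 ≤ γ'.1),
            rr K h l (y γ'.1) = y γ.1 := by
          rintro ⟨γ, hγ⟩ ⟨γ', hγ'⟩ h
          rcases lt_or_eq_of_le h with h' | h'
          · exact (IH γ' hγ' (hS β hβ _ hγ'.le)).2 γ h'
          · change γ = γ' at h'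
            subst h'
            exact rr_refl K γ l _
        obtain ⟨y', hy'⟩ := hsurj β l (fun γ => y γ.1) hcomp
        obtain ⟨w, hw⟩ : ∃ w, w = z β - dd K β l m y' := ⟨_, rfl⟩
        have hw1 : dd K β m n w = 0 := by
          rw [hw, map_sub, hz β hβ, dd_dd, sub_zero]
        have hw2 : ∀ δ (h : δ < β), rr K h.le m w = 0 := by
          intro δ h
          have h1 : rr K h.le l y' = y δ := hy' ⟨δ, h⟩
          rw [hw, map_sub, hzc β hβ δ h.le, rr_dd, h1, (IH δ h (hS β hβ δ h.le)).1, sub_self]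
        obtain ⟨v, hv1, hv2⟩ := hA β hβ l m n hlm hmn w hw1 hw2
        refine ⟨y' + v, ?_, ?_⟩
        · rw [map_add, hv1, hw]
          abel
        · intro δ hδ
          rw [map_add, hv2 δ hδ, add_zero]
          exact hy' ⟨δ, hδ⟩
      have hyβ : y β = hex.choose := by
        rw [hy β]
        exact dif_pos hex
      rw [hyβ]
      exact hex.choose_spec
  refine ⟨y, fun γ hγ => (good γ hγ).1, ?_⟩
  intro γ' hγ' γ h
  rcases lt_or_eq_of_le h with h' | h'
  · exact (good γ' hγ').2 γ h'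
  · subst h'
    exact rr_refl K γ l _

include hac' hsurj in
theorem acyc_of_lift (β : I) (hL : Lift K (Set.Iio β)) : Acyc K β := by
  intro l m n hlm hmn w hw1 hw2
  obtain ⟨u, hu⟩ := hac' β l m n hlm hmn w hw1
  classical
  let z : ∀ γ, (K.obj (op γ)).X l := fun γ => if h : γ < β then rr K h.le l u else 0
  have hz : ∀ γ (h : γ < β), z γ = rr K h.le l u := fun γ h => dif_pos h
  have hz1 : ∀ γ ∈ Set.Iio β, dd K γ l m (z γ) = 0 := by
    intro γ hγ
    rw [hz γ hγ, ← rr_dd, hu, hw2 γ hγ]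
  have hz2 : ∀ γ' ∈ Set.Iio β, ∀ γ (h : γ ≤ γ'), rr K h l (z γ') = z γ := by
    intro γ' hγ' γ h
    have hγ : γ < β := lt_of_le_of_lt h hγ'
    rw [hz γ' hγ', hz γ hγ, rr_rr]
  obtain ⟨t, ht1, ht2⟩ := hL (l - 1) l m (by omega) hlm z hz1 hz2
  obtain ⟨t', ht'⟩ := hsurj β (l - 1) (fun γ => t γ.1) (fun γ γ' h => ht2 γ'.1 γ'.2 γ.1 h)
  refine ⟨u - dd K β (l - 1) l t', ?_, ?_⟩
  · rw [map_sub, dd_dd, sub_zero, hu]
  · intro δ hδ
    have h1 : rr K hδ.le (l - 1) t' = t δ := ht' ⟨δ, hδ⟩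
    rw [map_sub, rr_dd, h1, ht1 δ hδ, hz δ hδ, sub_self]

include hac' hsurj in
theorem acyc_all (β : I) : Acyc K β := by
  induction β using WellFoundedLT.induction with
  | ind β IH =>
    apply acyc_of_lift K hac' hsurj β
    apply lift_of_acyc K hsurj (Set.Iio β)
    · intro γ' hγ' γ h
      exact lt_of_le_of_lt h hγ'
    · intro γ hγ
      exact IH γ hγ

include hac' hsurj in
theorem lift_univ : Lift K Set.univ :=
  lift_of_acyc K hsurj Set.univ (fun _ _ _ _ => Set.mem_univ _)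
    (fun β _ => acyc_all K hac' hsurj β)

end Groth.Agent.WOLim5

namespace Groth.Agent.WOLim5

theorem main {I : Type w} [LinearOrder I] [WellFoundedLT I]
    (K : Iᵒᵖ ⥤ CochainComplex AddCommGrpCat.{w} ℤ)
    (hac : ∀ (β : I) (n : ℤ), (K.obj (op β)).ExactAt n)
    (hsurj : ∀ (β : I) (n : ℤ) (x : ∀ γ : {γ : I // γ < β}, (K.obj (op γ.1)).X n),
      (∀ (γ γ' : {γ : I // γ < β}) (h : γ.1 ≤ γ'.1),
        ((K.map (homOfLE h).op).f n).hom (x γ') = x γ) →
      ∃ y : (K.obj (op β)).X n, ∀ γ : {γ : I // γ < β},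
        ((K.map (homOfLE γ.2.le).op).f n).hom y = x γ)
    (n : ℤ) : (limit K).ExactAt n := by
  have hac' : ∀ (β : I) (l m n : ℤ), l + 1 = m → m + 1 = n → ∀ x : (K.obj (op β)).X m,
      dd K β m n x = 0 → ∃ y, dd K β l m y = x := by
    intro β l m n hlm hmn
    have h := hac β m
    rw [HomologicalComplex.exactAt_iff' _ l m n (by simp; omega) (by simp; omega),
      ShortComplex.ab_exact_iff] at h
    exact h
  have hL := lift_univ K hac' hsurj
  rw [HomologicalComplex.exactAt_iff' (limit K) (n - 1) n (n + 1) (by simp) (by simp),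
    ShortComplex.ab_exact_iff]
  show ∀ x : (limit K).X n, ((limit K).d n (n + 1)).hom x = 0 →
    ∃ y : (limit K).X (n - 1), ((limit K).d (n - 1) n).hom y = x
  let E : ℤ → CochainComplex AddCommGrpCat.{w} ℤ ⥤ Type w := fun m =>
    HomologicalComplex.eval AddCommGrpCat (ComplexShape.up ℤ) m ⋙ forget AddCommGrpCat
  let e : ∀ m, (limit K).X m ≃ (K ⋙ E m).sections := fun m =>
    Types.isLimitEquivSections (isLimitOfPreserves (E m) (limit.isLimit K))
  have he : ∀ m (x : (limit K).X m) (γ : I),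
      ((e m x) : ∀ j, (K ⋙ E m).obj j) (op γ) = ((limit.π K (op γ)).f m).hom x :=
    fun _ _ _ => rfl
  have he' : ∀ m (s : (K ⋙ E m).sections) (γ : I),
      ((limit.π K (op γ)).f m).hom ((e m).symm s) = s.1 (op γ) := by
    intro m s γ
    have h := he m ((e m).symm s) γ
    rw [Equiv.apply_symm_apply] at h
    exact h.symm
  have hext : ∀ m (a b : (limit K).X m),
      (∀ γ, ((limit.π K (op γ)).f m).hom a = ((limit.π K (op γ)).f m).hom b) → a = b := by
    intro m a b hab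
    apply (e m).injective
    apply Subtype.ext
    funext j
    exact hab j.unop
  intro x hx
  let z : ∀ γ, (K.obj (op γ)).X n := fun γ => ((limit.π K (op γ)).f n).hom x
  have hz1 : ∀ γ ∈ Set.univ, dd K γ n (n + 1) (z γ) = 0 := by
    intro γ _
    have h1 := congrArg (fun φ => φ.hom x) ((limit.π K (op γ)).comm n (n + 1))
    refine h1.trans ?_
    show ((limit.π K (op γ)).f (n + 1)).hom (((limit K).d n (n + 1)).hom x) = 0
    rw [hx, map_zero]
  have hz2 : ∀ γ' ∈ Set.univ, ∀ γ (h : γ ≤ γ'), rr K h n (z γ') = z γ := by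
    intro γ' _ γ h
    exact congrArg (fun φ => (φ.f n).hom x) (limit.w K (homOfLE h).op)
  obtain ⟨y, hy1, hy2⟩ := hL (n - 1) n (n + 1) (by omega) rfl z hz1 hz2
  let ys : ∀ j : Iᵒᵖ, (K ⋙ E (n - 1)).obj j := fun j => y j.unop
  have hsec : ys ∈ (K ⋙ E (n - 1)).sections := by
    intro j j' f
    have h : j'.unop ≤ j.unop := leOfHom f.unop
    have hf : f = (homOfLE h).op := Quiver.Hom.unop_inj (Subsingleton.elim _ _)
    rw [hf]
    exact hy2 j.unop (Set.mem_univ _) j'.unop h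
  refine ⟨(e (n - 1)).symm ⟨ys, hsec⟩, ?_⟩
  apply hext n
  intro γ
  have h1 := congrArg (fun φ => φ.hom ((e (n - 1)).symm ⟨ys, hsec⟩))
    ((limit.π K (op γ)).comm (n - 1) n)
  refine h1.symm.trans ?_
  show dd K γ (n - 1) n (((limit.π K (op γ)).f (n - 1)).hom ((e (n - 1)).symm ⟨ys, hsec⟩)) = z γ
  rw [he' (n - 1) ⟨ys, hsec⟩ γ]
  exact hy1 γ (Set.mem_univ _)

end Groth.Agent.WOLim5
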