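import Mathlib

set_option linter.style.haveILetI false
set_option linter.unusedSectionVars false
set_option autoImplicit false

/-!
# A group generated by normal subgroups of prime order `p` is elementary abelian (helper7)
-/

namespace Groth.Agent.Lib.WQAb

theorem commute_of_prime_card {H : Type*} [Group H] (p : ℕ) [hp : Fact p.Prime]
    (K₁ K₂ : Subgroup H) (h₁ : Nat.card K₁ = p) (h₂ : Nat.card K₂ = p)
    (n₁ : K₁.Normal) (n₂ : K₂.Normal) (x y : H) (hx : x ∈ K₁) (hy : y ∈ K₂) :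
    x * y = y * x := by
  have hp0 : p ≠ 0 := hp.out.ne_zero
  haveI : Finite K₁ := Nat.finite_of_card_ne_zero (h₁ ▸ hp0)
  haveI : Finite K₂ := Nat.finite_of_card_ne_zero (h₂ ▸ hp0)
  by_cases hK : K₁ = K₂
  · subst hK
    haveI : IsCyclic K₁ := isCyclic_of_prime_card h₁
    haveI : IsMulCommutative K₁ := IsCyclic.isMulCommutative
    have := mul_comm' (⟨x, hx⟩ : K₁) ⟨y, hy⟩
    exact congrArg Subtype.val this
  · have hdis : Disjoint K₁ K₂ := by
      rw [disjoint_iff]
      have hle : K₁ ⊓ K₂ ≤ K₁ := inf_le_left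
      have hdvd : Nat.card (K₁ ⊓ K₂ : Subgroup H) ∣ p := h₁ ▸ Subgroup.card_dvd_of_le hle
      rcases (Nat.dvd_prime hp.out).mp hdvd with h1 | hpp
      · exact Subgroup.eq_bot_of_card_eq _ h1
      · exfalso
        have e1 : K₁ ⊓ K₂ = K₁ := Subgroup.eq_of_le_of_card_ge hle (by rw [h₁, hpp])
        have hle2 : K₁ ≤ K₂ := e1 ▸ inf_le_right
        exact hK (Subgroup.eq_of_le_of_card_ge hle2 (by rw [h₁, h₂]))
    exact (Subgroup.commute_of_normal_of_disjoint K₁ K₂ n₁ n₂ hdis x y hx hy).eq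

theorem comm_and_pow_of_iSup {H : Type*} [Group H] {ι : Sort*} (K : ι → Subgroup H) (p : ℕ)
    [hp : Fact p.Prime]
    (hK : ∀ i, K i ≠ ⊥ → Nat.card (K i) = p ∧ (K i).Normal) (htop : (⨆ i, K i) = ⊤) :
    (∀ g h : H, g * h = h * g) ∧ ∀ h : H, h ^ p = 1 := by
  have hgen : ∀ (i j : ι) (x y : H), x ∈ K i → y ∈ K j → x * y = y * x := by
    intro i j x y hx hy
    by_cases hi : K i = ⊥
    · rw [hi, Subgroup.mem_bot] at hx
      rw [hx, one_mul, mul_one]
    by_cases hj : K j = ⊥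
    · rw [hj, Subgroup.mem_bot] at hy
      rw [hy, one_mul, mul_one]
    exact commute_of_prime_card p (K i) (K j) (hK i hi).1 (hK j hj).1 (hK i hi).2 (hK j hj).2
      x y hx hy
  have hmem : ∀ h : H, h ∈ ⨆ i, K i := fun h => htop ▸ Subgroup.mem_top h
  have hcomm : ∀ g h : H, g * h = h * g := by
    intro g h
    refine Subgroup.iSup_induction (C := fun x => ∀ y : H, x * y = y * x) K (hmem g) ?_ ?_ ?_ h
    · intro i x hx y
      refine Subgroup.iSup_induction (C := fun y => x * y = y * x) K (hmem y) ?_ ?_ ?_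
      · intro j y hy
        exact hgen i j x y hx hy
      · rw [one_mul, mul_one]
      · intro y₁ y₂ h₁ h₂
        rw [← mul_assoc, h₁, mul_assoc, h₂, mul_assoc]
    · intro y
      rw [one_mul, mul_one]
    · intro x₁ x₂ h₁ h₂ y
      rw [mul_assoc, h₂ y, ← mul_assoc, h₁ y, mul_assoc]
  refine ⟨hcomm, ?_⟩
  intro h
  refine Subgroup.iSup_induction (C := fun x => x ^ p = 1) K (hmem h) ?_ ?_ ?_
  · intro i x hx
    by_cases hi : K i = ⊥
    · rw [hi, Subgroup.mem_bot] at hx
      rw [hx, one_pow]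
    · have h1 : (⟨x, hx⟩ : K i) ^ Nat.card (K i) = 1 := pow_card_eq_one'
      rw [(hK i hi).1] at h1
      exact congrArg Subtype.val h1
  · exact one_pow p
  · intro x y hx hy
    have hc : Commute x y := hcomm x y
    rw [hc.mul_pow, hx, hy, one_mul]

end Groth.Agent.Lib.WQAb
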