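import Mathlib
import Groth.Agent.Lib.GaloisSplit_helper3
import Groth.Agent.Lib.SerreCore_helper5

set_option backward.isDefEq.respectTransparency false
set_option backward.isDefEq.respectTransparency.types false
set_option linter.style.haveILetI false
set_option linter.unusedSectionVars false
set_option autoImplicit false

/-!
# Divisibility in normal domains via height one primes; discriminants of group-trace forms at
primes with trivial inertia (helper7)
-/

namespace Groth.Agent.Lib.WQDisc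

universe u

open Pointwise TensorProduct

/-- In a Noetherian normal domain, `d ∣ a` can be checked at the height one primes. -/
theorem dvd_of_forall_heightOne (R : Type u) [CommRing R] [IsDomain R] [IsNoetherianRing R]
    [IsIntegrallyClosed R] (d a : R) (hd : d ≠ 0)
    (h : ∀ (𝔭 : Ideal R) [𝔭.IsPrime], 𝔭.height = 1 → ∃ s, s ∉ 𝔭 ∧ d ∣ s * a) : d ∣ a := by
  by_contra hna
  let M := R ⧸ Ideal.span {d}
  let x : M := Ideal.Quotient.mk _ a
  have hx : x ≠ 0 := by
    intro hx0
    apply hna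
    have := Ideal.Quotient.eq_zero_iff_mem.mp hx0
    exact Ideal.mem_span_singleton.mp this
  obtain ⟨P, hP, hle⟩ := exists_le_isAssociatedPrime_of_isNoetherianRing R x hx
  obtain ⟨hPprime, y, hy⟩ := (isAssociatedPrime_iff).1 hP
  obtain ⟨a', rfl⟩ := Ideal.Quotient.mk_surjective y
  haveI := hPprime
  have hpa : ∀ r, r ∈ P ↔ r * a' ∈ Ideal.span {d} := by
    intro r
    rw [hy, Submodule.mem_colon_singleton, Submodule.mem_bot]
    show r • (Ideal.Quotient.mk (Ideal.span {d}) a') = 0 ↔ _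
    rw [← Ideal.Quotient.eq_zero_iff_mem, map_mul]
    rfl
  have hht : P.height = 1 := Groth.Agent.SerreLib.height_eq_one_of_colon R d hd a' P hpa
  obtain ⟨s, hs, hdvd⟩ := h P hht
  apply hs
  apply hle
  rw [Submodule.mem_colon_singleton, Submodule.mem_bot]
  show s • (Ideal.Quotient.mk (Ideal.span {d}) a) = 0
  have h1 : s • (Ideal.Quotient.mk (Ideal.span {d}) a) =
      Ideal.Quotient.mk (Ideal.span {d}) (s * a) := by
    rw [map_mul]
    rfl
  rw [h1, Ideal.Quotient.eq_zero_iff_mem]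
  exact Ideal.mem_span_singleton.mpr hdvd

section Disc

variable {R B G : Type*} [CommRing R] [CommRing B] [Algebra R B] [Group G] [Fintype G]
  [MulSemiringAction G B] [SMulCommClass G R B] [Algebra.IsInvariant R B G]

theorem repr_mem_of_mem_map {ι : Type*} (b : Module.Basis ι R B) (𝔭 : Ideal R) (z : B)
    (hz : z ∈ 𝔭.map (algebraMap R B)) (a : ι) : b.repr z a ∈ 𝔭 := by
  have hz' : z ∈ (𝔭 • ⊤ : Submodule R B) := by
    rw [Ideal.smul_top_eq_map]
    exact hz
  refine Submodule.smul_induction_on hz' ?_ ?_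
  · intro r hr m _
    rw [map_smul, Finsupp.smul_apply, smul_eq_mul]
    exact 𝔭.mul_mem_right _ hr
  · intro x y hx hy
    rw [map_add, Finsupp.add_apply]
    exact 𝔭.add_mem hx hy

/-- **Lemma D'**: the determinant of the Gram matrix of the group trace form is not in a prime
`𝔭` over which all primes of `B` have trivial inertia. -/
theorem det_notMem (hinj : Function.Injective (algebraMap R B)) {ι : Type*} [Fintype ι]
    [DecidableEq ι] (b : Module.Basis ι R B) (M : Matrix ι ι R)
    (hM : ∀ a c, algebraMap R B (M a c) = ∑ τ : G, τ • (b a * b c))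
    (𝔭 : Ideal R) [h𝔭p : 𝔭.IsPrime]
    (h𝔭 : ∀ (Q : Ideal B) [Q.IsPrime], Q.comap (algebraMap R B) = 𝔭 → ∀ τ : G, τ ≠ 1 →
      ∃ a : B, τ • a - a ∉ Q) :
    M.det ∉ 𝔭 := by
  classical
  intro hdet
  haveI : Algebra.IsIntegral R B := Algebra.IsInvariant.isIntegral R B G
  -- a vector in the kernel mod `𝔭`
  let f : R →+* R ⧸ 𝔭 := Ideal.Quotient.mk 𝔭
  have hdet' : (f.mapMatrix M).det = 0 := by
    rw [← RingHom.map_det]
    exact Ideal.Quotient.eq_zero_iff_mem.mpr hdet
  obtain ⟨vbar, hv0, hv⟩ := Matrix.exists_mulVec_eq_zero_iff.mpr hdet'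
  have hsurj : ∀ a, ∃ r : R, f r = vbar a := fun a => Ideal.Quotient.mk_surjective (vbar a)
  choose v hvv using hsurj
  obtain ⟨a₀, ha₀⟩ : ∃ a₀, v a₀ ∉ 𝔭 := by
    obtain ⟨a₀, ha₀⟩ := Function.ne_iff.mp hv0
    refine ⟨a₀, fun hmem => ha₀ ?_⟩
    rw [← hvv a₀]
    exact Ideal.Quotient.eq_zero_iff_mem.mpr hmem
  have hMv : ∀ c, ∑ a, M c a * v a ∈ 𝔭 := by
    intro c
    have h1 : (f.mapMatrix M).mulVec vbar c = 0 := by rw [hv]; rfl
    have h2 : (f.mapMatrix M).mulVec vbar c = ∑ a, f (M c a) * vbar a := rfl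
    rw [← Ideal.Quotient.eq_zero_iff_mem, map_sum]
    rw [← h1, h2]
    refine Finset.sum_congr rfl (fun a _ => ?_)
    rw [map_mul, ← hvv a]
  let s : B := ∑ a, v a • b a
  -- traces of multiples of `s` lie in `𝔭 B`
  have htr : ∀ y : B, ∑ τ : G, τ • (y * s) ∈ 𝔭.map (algebraMap R B) := by
    intro y
    have h1 : y * s = ∑ c, ∑ a, (b.repr y c * v a) • (b c * b a) := by
      conv_lhs => rw [← b.sum_repr y]
      rw [Finset.sum_mul]
      refine Finset.sum_congr rfl (fun c _ => ?_)
      rw [Finset.mul_sum]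
      refine Finset.sum_congr rfl (fun a _ => ?_)
      rw [smul_mul_smul_comm]
    have h2 : ∑ τ : G, τ • (y * s) =
        ∑ c, ∑ a, (b.repr y c * v a) • ∑ τ : G, τ • (b c * b a) := by
      rw [h1]
      simp only [Finset.smul_sum]
      rw [Finset.sum_comm]
      refine Finset.sum_congr rfl (fun c _ => ?_)
      rw [Finset.sum_comm]
      refine Finset.sum_congr rfl (fun a _ => Finset.sum_congr rfl (fun τ _ => ?_))
      rw [smul_comm]
    have h3 : ∀ c a, (b.repr y c * v a) • ∑ τ : G, τ • (b c * b a) =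
        algebraMap R B (b.repr y c * (M c a * v a)) := by
      intro c a
      rw [← hM, Algebra.smul_def, ← map_mul]
      congr 1
      ring
    have h4 : ∑ τ : G, τ • (y * s) =
        algebraMap R B (∑ c, b.repr y c * ∑ a, M c a * v a) := by
      rw [h2, map_sum]
      refine Finset.sum_congr rfl (fun c _ => ?_)
      rw [Finset.mul_sum, map_sum]
      exact Finset.sum_congr rfl (fun a _ => h3 c a)
    rw [h4]
    refine Ideal.mem_map_of_mem _ (𝔭.sum_mem (fun c _ => 𝔭.mul_mem_left _ (hMv c)))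
  -- a prime over `𝔭`
  have hker : (⊥ : Ideal B).comap (algebraMap R B) ≤ 𝔭 := by
    rw [← RingHom.ker_eq_comap_bot, (RingHom.injective_iff_ker_eq_bot _).mp hinj]
    exact bot_le
  obtain ⟨Q, -, hQprime, hQ𝔭⟩ := Ideal.exists_ideal_over_prime_of_isIntegral 𝔭 (⊥ : Ideal B) hker
  haveI := hQprime
  have hQ : ∀ σ τ : G, τ ≠ 1 → ∃ a : B, σ • (τ • a - a) ∉ Q := by
    intro σ τ hτ
    let Q' : Ideal B := Q.comap (MulSemiringAction.toRingHom G B σ)
    haveI : Q'.IsPrime := Ideal.comap_isPrime _ _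
    have hQ' : Q'.comap (algebraMap R B) = 𝔭 := by
      rw [← hQ𝔭]
      ext r
      simp only [Ideal.mem_comap, Q']
      show σ • algebraMap R B r ∈ Q ↔ _
      rw [smul_algebraMap]
    obtain ⟨a, ha⟩ := h𝔭 Q' hQ' τ hτ
    exact ⟨a, ha⟩
  obtain ⟨e, he, hc₀⟩ := Groth.Agent.Lib.GaloisSplitH3.exists_tensor (R := R) Q hQ
  obtain ⟨m, x, y, hxy⟩ := TensorProduct.exists_sum_tmul_eq e
  have hphi : ∀ ρ : G, Groth.Agent.Lib.InertiaUnramH3.phi R ρ e = ∑ i, x i * ρ • y i := by
    intro ρ
    rw [hxy, map_sum]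
    rfl
  set c₀ : B := Groth.Agent.Lib.InertiaUnramH3.phi R (1 : G) e with hc₀def
  have hc₀s : c₀ * s ∈ 𝔭.map (algebraMap R B) := by
    have h1 : c₀ * s = ∑ τ : G, Groth.Agent.Lib.InertiaUnramH3.phi R τ e * τ • s := by
      rw [Finset.sum_eq_single (1 : G)
        (fun τ _ hτ => by rw [he τ hτ, zero_mul])
        (fun h => absurd (Finset.mem_univ _) h), one_smul]
    have h2 : ∑ τ : G, Groth.Agent.Lib.InertiaUnramH3.phi R τ e * τ • s =
        ∑ i, x i * ∑ τ : G, τ • (y i * s) := by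
      simp only [hphi, Finset.sum_mul, Finset.mul_sum]
      rw [Finset.sum_comm]
      refine Finset.sum_congr rfl (fun i _ => Finset.sum_congr rfl (fun τ _ => ?_))
      rw [smul_mul', mul_assoc]
    rw [h1, h2]
    exact Ideal.sum_mem _ (fun i _ => Ideal.mul_mem_left _ _ (htr (y i)))
  -- the colon ideal
  let J : Ideal B := (𝔭.map (algebraMap R B)).colon {s}
  have hJ : J.comap (algebraMap R B) ≤ 𝔭 := by
    intro r hr
    have h1 : algebraMap R B r * s ∈ 𝔭.map (algebraMap R B) := by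
      have := (Submodule.mem_colon_singleton).mp (Ideal.mem_comap.mp hr)
      exact this
    have h2 := repr_mem_of_mem_map b 𝔭 _ h1 a₀
    have h3 : b.repr (algebraMap R B r * s) a₀ = r * v a₀ := by
      rw [← Algebra.smul_def, map_smul, Finsupp.smul_apply, smul_eq_mul]
      congr 1
      show b.repr (∑ a, v a • b a) a₀ = v a₀
      rw [map_sum, Finsupp.finsetSum_apply]
      rw [Finset.sum_eq_single a₀]
      · rw [map_smul, Finsupp.smul_apply, Module.Basis.repr_self, Finsupp.single_eq_same,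
          smul_eq_mul, mul_one]
      · intro a _ ha
        rw [map_smul, Finsupp.smul_apply, Module.Basis.repr_self, Finsupp.single_eq_of_ne ha.symm,
          smul_zero]
      · intro h
        exact absurd (Finset.mem_univ _) h
    rw [h3] at h2
    exact (h𝔭p.mem_or_mem h2).resolve_right ha₀
  obtain ⟨Q', hJQ', hQ'prime, hQ'𝔭⟩ := Ideal.exists_ideal_over_prime_of_isIntegral 𝔭 J hJ
  haveI := hQ'prime
  have hc₀J : c₀ ∈ J := (Submodule.mem_colon_singleton).mpr hc₀s
  have hc₀Q' : c₀ ∈ Q' := hJQ' hc₀J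
  obtain ⟨σ, hσ⟩ := Algebra.IsInvariant.exists_smul_of_under_eq R B G Q Q'
    (by rw [Ideal.under_def, Ideal.under_def, hQ𝔭, hQ'𝔭])
  rw [hσ, Ideal.mem_pointwise_smul_iff_inv_smul_mem] at hc₀Q'
  exact hc₀ σ⁻¹ hc₀Q'

end Disc

end Groth.Agent.Lib.WQDisc
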