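import Mathlib
import Groth.Agent.Lib.WQZN_helper7
import Groth.Agent.Lib.GaloisSplit_helper3
import Groth.Agent.Lib.InertiaUnram_helper3
import Groth.Agent.Lib.EtaleAt_helper4

set_option backward.isDefEq.respectTransparency false
set_option backward.isDefEq.respectTransparency.types false
set_option linter.style.haveILetI false
set_option linter.unusedSectionVars false
set_option autoImplicit false

/-!
# Trivial inertia in codimension one implies trivial extension (helper7)
-/

namespace Groth.Agent.Lib.WQEt

universe u w

open IsLocalRing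

/-- trivial inertia at all conjugates of `Q` implies étale at `Q`. -/
theorem isEtaleAt_of_trivial_inertia (R B : Type u) [CommRing R] [CommRing B] [Algebra R B]
    [Algebra.FinitePresentation R B] (G : Type w) [Group G] [Fintype G] [MulSemiringAction G B]
    [SMulCommClass G R B] (hinj : Function.Injective (algebraMap R B))
    (htr : ∀ s : B, ∃ r : R, algebraMap R B r = ∑ τ : G, τ • s)
    (hnorm : ∀ s : B, ∃ r : R, algebraMap R B r = ∏ τ : G, τ • s)
    (Q : Ideal B) [Q.IsPrime]
    (hQ : ∀ σ τ : G, τ ≠ 1 → ∃ a : B, σ • (τ • a - a) ∉ Q) : Algebra.IsEtaleAt R Q := by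
  let p : Ideal R := Q.comap (algebraMap R B)
  haveI : p.IsPrime := Ideal.comap_isPrime _ _
  haveI : Q.LiesOver p := ⟨rfl⟩
  have hpq : p = Q.comap (algebraMap R B) := rfl
  have h1 : (Localization.localRingHom p Q (algebraMap R B) hpq).Flat :=
    Groth.Agent.Lib.GaloisSplitH3.flat_localRingHom hinj htr hnorm p Q hQ
  have hu : Algebra.IsUnramifiedAt R Q :=
    Groth.Agent.Lib.InertiaUnramH3.isUnramifiedAt htr Q (fun τ hτ => by
      obtain ⟨a, ha⟩ := hQ 1 τ hτ
      exact ⟨a, by rwa [one_smul] at ha⟩)
  letI := Localization.AtPrime.algebraOfLiesOver p Q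
  have hmapeq : algebraMap (Localization.AtPrime p) (Localization.AtPrime Q) =
      Localization.localRingHom p Q (algebraMap R B) hpq := rfl
  have h2 : (Localization.localRingHom p Q (algebraMap R B) hpq).FormallyUnramified := by
    rw [← hmapeq, RingHom.formallyUnramified_algebraMap]
    exact .of_restrictScalars R _ _
  have h3 := Groth.Agent.Lib.FlatUnramPtH4.formallySmooth_localRingHom (algebraMap R B)
    (RingHom.finitePresentation_algebraMap.mpr inferInstance) p Q hpq h1 h2
  rw [← hmapeq, RingHom.formallySmooth_algebraMap] at h3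
  have : Algebra.FormallySmooth R (Localization.AtPrime Q) :=
    Algebra.FormallySmooth.comp R (Localization.AtPrime p) _
  exact Algebra.FormallyEtale.iff_formallyUnramified_and_formallySmooth.mpr ⟨hu, this⟩

/-- **Same-universe version.**  `R` regular local, `B` a normal local domain finite and injective
over `R` with the same residue field, `G` a finite group acting on `B` with invariants `R` and with
trivial inertia at all primes of height `≤ 1`.  Then `R → B` is surjective. -/
theorem surjective_same (R B : Type u) [CommRing R] [IsRegularLocalRing R] [CommRing B]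
    [IsDomain B] [IsIntegrallyClosed B] [IsLocalRing B] [Algebra R B] [Module.Finite R B]
    (hinj : Function.Injective (algebraMap R B))
    (hres : Function.Surjective (IsLocalRing.residue B ∘ algebraMap R B))
    (G : Type w) [Group G] [Finite G] [MulSemiringAction G B] [SMulCommClass G R B]
    (hfix : ∀ b : B, (∀ τ : G, τ • b = b) → b ∈ Set.range (algebraMap R B))
    (hin : ∀ (Q : Ideal B), Q.IsPrime → Q.height ≤ 1 → ∀ τ : G, τ ≠ 1 →
      ∃ b : B, τ • b - b ∉ Q) :
    Function.Surjective (algebraMap R B) := by
  classical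
  cases nonempty_fintype G
  haveI : FaithfulSMul R B := (faithfulSMul_iff_algebraMap_injective R B).2 hinj
  haveI : Algebra.FinitePresentation R B :=
    Algebra.FinitePresentation.of_finiteType.mp inferInstance
  have htr : ∀ s : B, ∃ r : R, algebraMap R B r = ∑ τ : G, τ • s := by
    intro s
    obtain ⟨r, hr⟩ := hfix (∑ τ : G, τ • s) (fun g => by
      rw [Finset.smul_sum]
      refine (Fintype.sum_equiv (Equiv.mulLeft g) _ _ (fun τ => ?_)).trans rfl
      show g • τ • s = (g * τ) • s
      rw [mul_smul])
    exact ⟨r, hr⟩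
  have hnorm : ∀ s : B, ∃ r : R, algebraMap R B r = ∏ τ : G, τ • s := by
    intro s
    obtain ⟨r, hr⟩ := hfix (∏ τ : G, τ • s) (fun g => by
      rw [Finset.smul_prod']
      refine (Fintype.prod_equiv (Equiv.mulLeft g) _ _ (fun τ => ?_)).trans rfl
      show g • τ • s = (g * τ) • s
      rw [mul_smul])
    exact ⟨r, hr⟩
  have het : Algebra.Etale R B := by
    refine Groth.Agent.Lib.WQZN.zn R B hinj ?_
    intro Q _ hQ
    refine isEtaleAt_of_trivial_inertia R B G hinj htr hnorm Q ?_
    intro σ τ hτ
    let e : B ≃+* B := MulSemiringAction.toRingEquiv G B σ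
    let Q' : Ideal B := Q.comap e
    haveI : Q'.IsPrime := Ideal.comap_isPrime _ _
    have hht : Q'.height ≤ 1 := by
      have h1 : Q'.height = Q.height := RingEquiv.height_comap e Q
      rw [h1]
      exact (Groth.Agent.IntegralHeight.height_le_height_comap_of_isIntegral R Q).trans hQ
    obtain ⟨b, hb⟩ := hin Q' inferInstance hht τ hτ
    exact ⟨b, hb⟩
  haveI : Algebra.FormallyUnramified R B := inferInstance
  have hmap : (maximalIdeal R).map (algebraMap R B) = maximalIdeal B :=
    Algebra.FormallyUnramified.map_maximalIdeal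
  have hsurj : ∀ a : B, ∃ b : R, a - algebraMap R B b ∈ maximalIdeal B := by
    intro a
    obtain ⟨c, hc⟩ := hres (residue B a)
    refine ⟨c, ?_⟩
    rw [← Ideal.Quotient.eq_zero_iff_mem, map_sub, sub_eq_zero]
    exact hc.symm
  have htop : (⊤ : Submodule R B) ≤ LinearMap.range (Algebra.linearMap R B) := by
    refine Submodule.le_of_le_smul_of_le_jacobson_bot (I := maximalIdeal R)
      Module.Finite.fg_top (IsLocalRing.maximalIdeal_le_jacobson ⊥) ?_
    intro a _
    obtain ⟨b, hb⟩ := hsurj a
    have h1 : a = algebraMap R B b + (a - algebraMap R B b) := by ring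
    rw [h1]
    refine Submodule.add_mem_sup ⟨b, rfl⟩ ?_
    rw [← hmap] at hb
    rw [Ideal.smul_top_eq_map]
    exact hb
  intro a
  obtain ⟨b, hb⟩ := htop (Submodule.mem_top (x := a))
  exact ⟨b, hb⟩

end Groth.Agent.Lib.WQEt
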