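import Mathlib
import Groth.Agent.Lib.WQEt_helper7

set_option backward.isDefEq.respectTransparency false
set_option backward.isDefEq.respectTransparency.types false
set_option linter.style.haveILetI false
set_option linter.unusedSectionVars false
set_option autoImplicit false

/-!
# Universe-general version of `WQEt.surjective_same` (helper7)
-/

namespace Groth.Agent.Lib.WQShrink

universe u v w

open IsLocalRing

/-- transport a `MulSemiringAction` along a ring isomorphism -/
@[implicit_reducible]
noncomputable def actionOfEquiv {B B' : Type*} [CommRing B] [CommRing B'] (e : B' ≃+* B)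
    (G : Type*) [Group G] [MulSemiringAction G B] : MulSemiringAction G B' where
  smul g x := e.symm (g • e x)
  one_smul x := by
    show e.symm ((1 : G) • e x) = x
    rw [one_smul, RingEquiv.symm_apply_apply]
  mul_smul g h x := by
    show e.symm ((g * h) • e x) = e.symm (g • e (e.symm (h • e x)))
    rw [RingEquiv.apply_symm_apply, mul_smul]
  smul_zero g := by
    show e.symm (g • e 0) = 0
    rw [map_zero, smul_zero, map_zero]
  smul_add g x y := by
    show e.symm (g • e (x + y)) = e.symm (g • e x) + e.symm (g • e y)
    rw [map_add, smul_add, map_add]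
  smul_one g := by
    show e.symm (g • e 1) = 1
    rw [map_one, smul_one, map_one]
  smul_mul g x y := by
    show e.symm (g • e (x * y)) = e.symm (g • e x) * e.symm (g • e y)
    rw [map_mul, smul_mul', map_mul]

theorem surjective (R : Type u) (B : Type v) [CommRing R] [IsRegularLocalRing R] [CommRing B]
    [IsDomain B] [IsIntegrallyClosed B] [IsLocalRing B] [Algebra R B] [Module.Finite R B]
    (hinj : Function.Injective (algebraMap R B))
    (hres : Function.Surjective (IsLocalRing.residue B ∘ algebraMap R B))
    (G : Type w) [Group G] [Finite G] [MulSemiringAction G B] [SMulCommClass G R B]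
    (hfix : ∀ b : B, (∀ τ : G, τ • b = b) → b ∈ Set.range (algebraMap R B))
    (hin : ∀ (Q : Ideal B), Q.IsPrime → Q.height ≤ 1 → ∀ τ : G, τ ≠ 1 →
      ∃ b : B, τ • b - b ∉ Q) :
    Function.Surjective (algebraMap R B) := by
  haveI : Small.{u} B := Module.Finite.small R B
  let B' := Shrink.{u} B
  let e : B' ≃ₐ[R] B := Shrink.algEquiv R B
  haveI : IsIntegrallyClosed B' := IsIntegrallyClosed.of_equiv e.symm.toRingEquiv
  haveI : IsLocalRing B' := RingEquiv.isLocalRing e.symm.toRingEquiv
  haveI : Module.Finite R B' := Module.Finite.equiv e.symm.toLinearEquiv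
  letI act : MulSemiringAction G B' := actionOfEquiv e.toRingEquiv G
  have hact : ∀ (g : G) (x : B'), g • x = e.symm (g • e x) := fun _ _ => rfl
  have hact' : ∀ (g : G) (x : B'), e (g • x) = g • e x := by
    intro g x
    rw [hact, AlgEquiv.apply_symm_apply]
  haveI : SMulCommClass G R B' := by
    refine ⟨fun g r x => ?_⟩
    apply e.injective
    rw [hact', map_smul, map_smul, hact', smul_comm]
  have hinj' : Function.Injective (algebraMap R B') := by
    intro x y hxy
    apply hinj
    have := congrArg e hxy
    rwa [e.commutes, e.commutes] at this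
  have hres' : Function.Surjective (IsLocalRing.residue B' ∘ algebraMap R B') := by
    intro x
    obtain ⟨b', rfl⟩ := IsLocalRing.residue_surjective x
    obtain ⟨r, hr⟩ := hres (residue B (e b'))
    refine ⟨r, ?_⟩
    show residue B' (algebraMap R B' r) = residue B' b'
    rw [← sub_eq_zero, ← map_sub, IsLocalRing.residue_eq_zero_iff]
    have h1 : algebraMap R B r - e b' ∈ maximalIdeal B := by
      rw [← IsLocalRing.residue_eq_zero_iff, map_sub, sub_eq_zero]
      exact hr
    rw [mem_maximalIdeal, mem_nonunits_iff] at h1 ⊢
    intro hu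
    apply h1
    have h2 : e (algebraMap R B' r - b') = algebraMap R B r - e b' := by
      rw [map_sub, e.commutes]
    rw [← h2]
    exact (MulEquiv.isUnit_map e).mpr hu
  have hfix' : ∀ b : B', (∀ τ : G, τ • b = b) → b ∈ Set.range (algebraMap R B') := by
    intro b hb
    obtain ⟨r, hr⟩ := hfix (e b) (fun τ => by rw [← hact', hb])
    refine ⟨r, ?_⟩
    apply e.injective
    rw [e.commutes, hr]
  have hin' : ∀ (Q : Ideal B'), Q.IsPrime → Q.height ≤ 1 → ∀ τ : G, τ ≠ 1 →
      ∃ b : B', τ • b - b ∉ Q := by
    intro Q' hQ' hht τ hτ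
    haveI := hQ'
    let Q : Ideal B := Q'.comap e.symm.toRingEquiv
    haveI : Q.IsPrime := Ideal.comap_isPrime _ _
    have h1 : Q.height = Q'.height := RingEquiv.height_comap e.symm.toRingEquiv Q'
    obtain ⟨b, hb⟩ := hin Q inferInstance (h1 ▸ hht) τ hτ
    refine ⟨e.symm b, ?_⟩
    intro hmem
    apply hb
    show e.symm (τ • b - b) ∈ Q'
    rw [map_sub]
    have h2 : e.symm (τ • b) = τ • e.symm b := by
      rw [hact, AlgEquiv.apply_symm_apply]
    rw [h2]
    exact hmem
  have hs := Groth.Agent.Lib.WQEt.surjective_same R B' hinj' hres' G hfix' hin'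
  intro b
  obtain ⟨r, hr⟩ := hs (e.symm b)
  refine ⟨r, ?_⟩
  have := congrArg e hr
  rwa [e.commutes, AlgEquiv.apply_symm_apply] at this

end Groth.Agent.Lib.WQShrink
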